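import Cfsg.Statements.S3013
import Cfsg.Agent.EqLemmas

set_option autoImplicit false
open Cfsg

namespace Cfsg.Agent.S3013

/-- Let G be a finite group and V a nontrivial elementary abelian 2-subgroup of G satisfying the Sidki pair condition. Let v ∈ V and let x be an element of odd order inverted by v, and put C = C_G(v) ∩ C_G(x), the centralizer of the dihedral subgroup generated by v and x. Then C ∩ V is nontrivial and satisfies the Sidki pair condition inside C: every odd-order element of C inverted by an element of C ∩ V commutes with a nontrivial element of C ∩ V. -/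
theorem result {G : Type*} [Group G] [Finite G] (V : Subgroup G) (hV : Cfsg.IsElementaryAbelian 2 V) (hV1 : V ≠ ⊥) (hS : Cfsg.IsSidkiPair V) (v x : G) (hv : v ∈ V) (hx : Odd (orderOf x)) (hinv : v * x * v⁻¹ = x⁻¹) (C : Subgroup G) (hC : C = Subgroup.centralizer ({v} : Set G) ⊓ Subgroup.centralizer ({x} : Set G)) : C ⊓ V ≠ ⊥ ∧ Cfsg.IsSidkiPair ((C ⊓ V).subgroupOf C) := by
  subst hC
  haveI : IsMulCommutative V := hV.1
  have hab : ∀ a ∈ V, ∀ b ∈ V, a * b = b * a := fun a ha b hb =>
    congrArg Subtype.val (mul_comm' (⟨a, ha⟩ : V) ⟨b, hb⟩)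
  set C := Subgroup.centralizer ({v} : Set G) ⊓ Subgroup.centralizer ({x} : Set G) with hCdef
  have hmemC : ∀ c : G, c ∈ C ↔ Commute v c ∧ Commute x c := by
    intro c
    simp only [hCdef, Subgroup.mem_inf, Subgroup.mem_centralizer_iff, Set.mem_singleton_iff, forall_eq]
    rfl
  constructor
  · obtain ⟨w, hw, hw1, hwx⟩ := hS x v hv hx hinv
    intro h
    exact hw1 (Subgroup.mem_bot.mp (h.le ⟨(hmemC w).mpr ⟨hab v hv w hw, hwx.symm⟩, hw⟩))
  · intro h u hu hh hinvh
    obtain ⟨huC, huV⟩ := Subgroup.mem_subgroupOf.mp hu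
    obtain ⟨huv, hux⟩ := (hmemC (u : G)).mp huC
    obtain ⟨hhv, hhx⟩ := (hmemC (h : G)).mp h.2
    have hh' : Odd (orderOf (h : G)) := by rwa [Subgroup.orderOf_coe]
    have hinvh' : (u : G) * h * (u : G)⁻¹ = (h : G)⁻¹ := congrArg Subtype.val hinvh
    have h1 : v * (u : G) * (x * h) * (v * (u : G))⁻¹ = (x * h)⁻¹ := by
      have e1 : (u : G) * (x * h) * (u : G)⁻¹ = x * (h : G)⁻¹ := by
        rw [← hinvh', ← mul_assoc, ← hux.eq]
        group
      calc v * (u : G) * (x * h) * (v * (u : G))⁻¹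
          = v * ((u : G) * (x * h) * (u : G)⁻¹) * v⁻¹ := by group
        _ = v * (x * (h : G)⁻¹) * v⁻¹ := by rw [e1]
        _ = (v * x * v⁻¹) * (v * (h : G)⁻¹ * v⁻¹) := by group
        _ = x⁻¹ * (h : G)⁻¹ := by
          rw [hinv, (hhv.inv_right).eq]
          group
        _ = (x * h)⁻¹ := by
          rw [mul_inv_rev]
          exact (hhx.inv_inv).eq
    have hodd : Odd (orderOf (x * h)) :=
      Odd.of_dvd_nat (Odd.of_dvd_nat (hx.mul hh') (Nat.lcm_dvd_mul _ _)) hhx.orderOf_mul_dvd_lcm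
    obtain ⟨w, hw, hw1, hwxh⟩ := hS (x * h) (v * u) (V.mul_mem hv huV) hodd h1
    have hwv : Commute v w := hab v hv w hw
    have hwxh : Commute w (x * h) := hwxh
    have h2 : Commute w (x⁻¹ * h) := by
      have h3 := hwxh.map (MulAut.conj v).toMonoidHom
      simp only [MulEquiv.coe_toMonoidHom, MulAut.conj_apply] at h3
      have e1 : v * w * v⁻¹ = w := by rw [hwv.eq]; group
      have e2 : v * (x * h) * v⁻¹ = x⁻¹ * h := by
        calc v * (x * h) * v⁻¹ = (v * x * v⁻¹) * (v * h * v⁻¹) := by group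
          _ = x⁻¹ * h := by rw [hinv, hhv.eq]; group
      rwa [e1, e2] at h3
    have h4 : Commute w ((h : G) ^ 2) := by
      have h5 := h2.mul_right hwxh
      have e : x⁻¹ * (h : G) * (x * h) = (h : G) ^ 2 := by
        rw [show x⁻¹ * (h : G) * (x * h) = x⁻¹ * ((h : G) * x) * h by group, ← hhx.eq, pow_two]
        group
      rwa [e] at h5
    have hwh : Commute w (h : G) := by
      obtain ⟨m, hm⟩ := exists_pow_eq_self_of_coprime (Nat.coprime_two_left.mpr hh')
      rw [← hm]
      exact h4.pow_right m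
    have hwx : Commute w x := by simpa using hwxh.mul_right hwh.inv_right
    refine ⟨⟨w, (hmemC w).mpr ⟨hwv, hwx.symm⟩⟩, ⟨(hmemC w).mpr ⟨hwv, hwx.symm⟩, hw⟩, ?_, Subtype.ext hwh⟩
    intro h0
    exact hw1 (congrArg Subtype.val h0)

end Cfsg.Agent.S3013
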