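import Cfsg.Statements.S3014
import Cfsg.Agent.EqLemmas

set_option autoImplicit false
open Cfsg

namespace Cfsg.Agent.S3014

/-- Let G be a finite group and H ≤ M ≤ G subgroups such that for every g ∈ G the subgroup generated by H and g H g⁻¹ meets M exactly in H. If H is a maximal subgroup of M and M is a maximal subgroup of G, then the normal closure of H in G meets M exactly in H. -/
theorem result {G : Type*} [Group G] [Finite G] (H M : Subgroup G) (hHM : H ≤ M) (hcl : ∀ g : G, (H ⊔ H.map (MulAut.conj g).toMonoidHom) ⊓ M = H) (hmaxH : IsCoatom (H.subgroupOf M)) (hmaxM : IsCoatom M) : Subgroup.normalClosure (H : Set G) ⊓ M = H := by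
  classical
  have hHM' : ∀ h ∈ H, ∀ g : G, g * h * g⁻¹ ∈ M → g * h * g⁻¹ ∈ H := fun h hh g hg =>
    (hcl g).le ⟨Subgroup.mem_sup_right (Subgroup.mem_map_of_mem _ hh), hg⟩
  refine le_antisymm ?_ (le_inf Subgroup.le_normalClosure hHM)
  have hMN : M ≤ Subgroup.normalizer (H : Set G) := fun m hm =>
    Subgroup.mem_normalizer_fintype fun h hh => hHM' h hh m (M.mul_mem (M.mul_mem hm (hHM hh)) (M.inv_mem hm))
  rintro x ⟨hxC, hxM⟩
  by_contra hxH
  by_cases hn : H.Normal
  · exact hxH (Subgroup.normalClosure_le_normal (N := H) subset_rfl hxC)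
  have hNH : Subgroup.normalizer (H : Set G) = M :=
    (hmaxM.le_iff.mp hMN).resolve_left (fun h => hn (Subgroup.normalizer_eq_top_iff.mp h))
  -- elements of `M` moved into `M` from outside lie in `H`
  have key : ∀ g : G, g ∉ M → ∀ y ∈ M, g⁻¹ * y * g ∈ M → y ∈ H := by
    intro g hg y hy hy'
    by_contra hyH
    set T := H ⊔ H.map (MulAut.conj g).toMonoidHom with hT
    have hMsup : M ≤ T ⊔ Subgroup.zpowers y := by
      have h2 : H.subgroupOf M ⊔ Subgroup.zpowers (⟨y, hy⟩ : ↥M) = ⊤ := by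
        apply hmaxH.2
        refine lt_of_le_of_ne le_sup_left fun h => hyH ?_
        exact Subgroup.mem_subgroupOf.mp (h ▸ Subgroup.mem_sup_right (Subgroup.mem_zpowers _) :
          (⟨y, hy⟩ : ↥M) ∈ H.subgroupOf M)
      intro z hz
      have h3 : (⟨z, hz⟩ : ↥M) ∈ H.subgroupOf M ⊔ Subgroup.zpowers (⟨y, hy⟩ : ↥M) := h2 ▸ Subgroup.mem_top _
      have h4 : z ∈ (H.subgroupOf M ⊔ Subgroup.zpowers (⟨y, hy⟩ : ↥M)).map M.subtype := ⟨_, h3, rfl⟩
      rw [Subgroup.map_sup, Subgroup.map_subgroupOf_eq_of_le hHM, MonoidHom.map_zpowers] at h4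
      exact SetLike.le_def.mp (sup_le_sup_right le_sup_left _) h4
    have hynorm : ∀ t ∈ T, y * t * y⁻¹ ∈ T := by
      intro t ht
      have h1 : T.map (MulAut.conj y).toMonoidHom ≤ T := by
        rw [hT, Subgroup.map_sup]
        refine sup_le_sup ?_ ?_
        · rintro _ ⟨h, hh, rfl⟩
          exact (Subgroup.mem_normalizer_iff.mp (hMN hy) h).mp hh
        · rintro _ ⟨_, ⟨h, hh, rfl⟩, rfl⟩
          refine ⟨_, (Subgroup.mem_normalizer_iff.mp (hMN hy') h).mp hh, ?_⟩
          simp only [MulEquiv.coe_toMonoidHom, MulAut.conj_apply]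
          group
      exact h1 (Subgroup.mem_map_of_mem _ ht)
    rcases hmaxM.le_iff.mp hMsup with h | h
    · have hTn : T.Normal := Subgroup.normalizer_eq_top_iff.mp (top_le_iff.mp (h ▸ sup_le Subgroup.le_normalizer
        (Subgroup.zpowers_le.mpr (Subgroup.mem_normalizer_fintype hynorm))))
      exact hxH ((hcl g).le ⟨Subgroup.normalClosure_le_normal (N := T) (SetLike.coe_subset_coe.mpr le_sup_left) hxC, hxM⟩)
    · apply hg
      rw [← hNH]
      apply Subgroup.mem_normalizer_fintype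
      intro n hn'
      exact hHM' n hn' g (h.le (Subgroup.mem_sup_left (Subgroup.mem_sup_right (Subgroup.mem_map_of_mem _ hn'))))
  -- the transfer into `M / H`
  haveI hHn : (H.subgroupOf M).Normal := Subgroup.normal_subgroupOf_of_le_normalizer hMN
  have hcyc : IsCyclic (↥M ⧸ H.subgroupOf M) := by
    refine ⟨⟨QuotientGroup.mk' _ ⟨x, hxM⟩, fun q => ?_⟩⟩
    obtain ⟨z, rfl⟩ := QuotientGroup.mk'_surjective (H.subgroupOf M) q
    have h2 : H.subgroupOf M ⊔ Subgroup.zpowers (⟨x, hxM⟩ : ↥M) = ⊤ := by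
      apply hmaxH.2
      refine lt_of_le_of_ne le_sup_left fun h => hxH ?_
      exact Subgroup.mem_subgroupOf.mp (h ▸ Subgroup.mem_sup_right (Subgroup.mem_zpowers _) :
        (⟨x, hxM⟩ : ↥M) ∈ H.subgroupOf M)
    have h3 : QuotientGroup.mk' (H.subgroupOf M) z ∈
        (H.subgroupOf M ⊔ Subgroup.zpowers (⟨x, hxM⟩ : ↥M)).map (QuotientGroup.mk' (H.subgroupOf M)) :=
      Subgroup.mem_map_of_mem _ (h2 ▸ Subgroup.mem_top z)
    rw [Subgroup.map_sup, QuotientGroup.map_mk'_self, bot_sup_eq, MonoidHom.map_zpowers] at h3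
    exact h3
  letI : CommGroup (↥M ⧸ H.subgroupOf M) := { (inferInstance : Group (↥M ⧸ H.subgroupOf M)) with
    mul_comm := fun a b => (hcyc.isMulCommutative).is_comm.comm a b }
  let ϕ : ↥M →* ↥M ⧸ H.subgroupOf M := QuotientGroup.mk' _
  have hterm : ∀ (a : G) (n : ℕ) (g₀ : G) (_ : a ∈ M) (hz : g₀⁻¹ * a ^ n * g₀ ∈ M), g₀ ∉ M →
      ϕ ⟨g₀⁻¹ * a ^ n * g₀, hz⟩ = 1 := by
    intro a n g₀ ha hz hg₀
    refine (QuotientGroup.eq_one_iff _).mpr (Subgroup.mem_subgroupOf.mpr (key g₀⁻¹ (fun h => hg₀ (M.inv_mem_iff.mp h)) _ hz ?_))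
    rw [show g₀⁻¹⁻¹ * (g₀⁻¹ * a ^ n * g₀) * g₀⁻¹ = a ^ n by group]
    exact M.pow_mem ha n
  letI : Fintype (G ⧸ M) := Fintype.ofFinite _
  -- value on elements of `M`
  have hval : ∀ (a : G) (ha : a ∈ M), MonoidHom.transfer ϕ a = ϕ ⟨a, ha⟩ := by
    intro a ha
    letI : Fintype (Quotient (MulAction.orbitRel (Subgroup.zpowers a) (G ⧸ M))) := Fintype.ofFinite _
    rw [MonoidHom.transfer_eq_prod_quotient_orbitRel_zpowers_quot]
    let q₀ : Quotient (MulAction.orbitRel (Subgroup.zpowers a) (G ⧸ M)) := Quotient.mk'' ((1 : G) : G ⧸ M)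
    have hfix : ∀ k : ↥(Subgroup.zpowers a), k • ((1 : G) : G ⧸ M) = ((1 : G) : G ⧸ M) := by
      intro k
      show (((k : G) * 1 : G) : G ⧸ M) = _
      rw [mul_one, QuotientGroup.eq, mul_one]
      exact M.inv_mem (Subgroup.zpowers_le.mpr ha k.2)
    have hq₀ : q₀.out = ((1 : G) : G ⧸ M) := by
      obtain ⟨k, hk⟩ : q₀.out ∈ MulAction.orbit (Subgroup.zpowers a) ((1 : G) : G ⧸ M) :=
        MulAction.orbitRel_apply.mp (Quotient.exact' (q₀.out_eq'))
      exact hk.symm.trans (hfix k)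
    have hout : q₀.out.out ∈ M := by
      have h : ((q₀.out.out : G) : G ⧸ M) = ((1 : G) : G ⧸ M) := by rw [QuotientGroup.out_eq', hq₀]
      rw [QuotientGroup.eq, mul_one] at h
      exact M.inv_mem_iff.mp h
    rw [Fintype.prod_eq_single q₀]
    · have hper : Function.minimalPeriod (a • ·) q₀.out = 1 := by
        rw [Function.minimalPeriod_eq_one_iff_isFixedPt, hq₀]
        exact hfix ⟨a, Subgroup.mem_zpowers a⟩
      have e : (⟨q₀.out.out⁻¹ * a ^ Function.minimalPeriod (a • ·) q₀.out * q₀.out.out,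
          QuotientGroup.out_conj_pow_minimalPeriod_mem M a q₀.out⟩ : ↥M) =
          (⟨q₀.out.out, hout⟩ : ↥M)⁻¹ * ⟨a, ha⟩ * ⟨q₀.out.out, hout⟩ := by
        ext
        show q₀.out.out⁻¹ * a ^ Function.minimalPeriod (a • ·) q₀.out * q₀.out.out = _
        rw [hper, pow_one]
        rfl
      rw [e, map_mul, map_mul, map_inv, mul_comm (ϕ ⟨q₀.out.out, hout⟩)⁻¹, mul_assoc, inv_mul_cancel, mul_one]
    · intro q hq
      refine hterm a _ _ ha _ fun h => hq ?_
      have h1 : q.out = ((1 : G) : G ⧸ M) := by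
        rw [← QuotientGroup.out_eq' q.out, QuotientGroup.eq, mul_one]
        exact M.inv_mem h
      rw [← q.out_eq', h1]
  have hker : Subgroup.normalClosure (H : Set G) ≤ (MonoidHom.transfer ϕ).ker := by
    refine Subgroup.normalClosure_le_normal fun h hh => ?_
    rw [SetLike.mem_coe, MonoidHom.mem_ker, hval h (hHM hh)]
    exact (QuotientGroup.eq_one_iff _).mpr (Subgroup.mem_subgroupOf.mpr hh)
  have h := hker hxC
  rw [MonoidHom.mem_ker, hval x hxM] at h
  exact hxH (Subgroup.mem_subgroupOf.mp ((QuotientGroup.eq_one_iff (⟨x, hxM⟩ : ↥M)).mp h))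

end Cfsg.Agent.S3014
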