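import Cfsg.Statements.S3015
import Cfsg.Agent.S3014

set_option autoImplicit false
open Cfsg

namespace Cfsg.Agent.S3015

/-- Let G be a finite non-abelian simple group, M a maximal subgroup of G and H a normal subgroup of M of prime index in M. Then G is generated by H together with one of its conjugates. -/
theorem result {G : Type*} [Group G] [Finite G] [IsSimpleGroup G] (hG : ¬ IsMulCommutative G) (M H : Subgroup G) (hmaxM : IsCoatom M) (hHM : H ≤ M) (hHn : (H.subgroupOf M).Normal) (hidx : (H.relIndex M).Prime) : ∃ g : G, H ⊔ H.map (MulAut.conj g).toMonoidHom = ⊤ := by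
  classical
  by_contra hno
  push_neg at hno
  have hMne : M ≠ ⊥ := by
    rintro rfl
    have h1 : H.relIndex (⊥ : Subgroup G) = 1 := Subgroup.relIndex_eq_one.mpr (by simp)
    exact hidx.ne_one h1
  -- normalisers
  have hNM : ∀ N : Subgroup G, N ≠ ⊥ → N ≠ ⊤ → M ≤ Subgroup.normalizer (N : Set G) →
      Subgroup.normalizer (N : Set G) = M := by
    intro N h1 h2 h3
    refine (hmaxM.le_iff.mp h3).resolve_left fun h => ?_
    rcases (Subgroup.normalizer_eq_top_iff.mp h).eq_bot_or_eq_top with h' | h'
    · exact h1 h'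
    · exact h2 h'
  have hNMM : Subgroup.normalizer (M : Set G) = M := hNM M hMne hmaxM.1 Subgroup.le_normalizer
  have hMHn : M ≤ Subgroup.normalizer (H : Set G) := Subgroup.le_normalizer_of_normal_subgroupOf hHM
  have hcoat : IsCoatom (H.subgroupOf M) := by
    refine ⟨fun h => hidx.ne_one ?_, fun Y hY => ?_⟩
    · show (H.subgroupOf M).index = 1
      rw [h, Subgroup.index_top]
    · rcases hidx.eq_one_or_self_of_dvd Y.index (Subgroup.index_dvd_of_le hY.le) with h | h
      · exact Subgroup.index_eq_one.mp h
      · exfalso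
        have h1 := Subgroup.relIndex_mul_index hY.le
        rw [h] at h1
        have h2 : (H.subgroupOf M).relIndex Y = 1 := by
          have : (H.subgroupOf M).relIndex Y * H.relIndex M = 1 * H.relIndex M := by rw [one_mul]; exact h1
          exact Nat.eq_of_mul_eq_mul_right hidx.pos this
        exact hY.not_ge (Subgroup.relIndex_eq_one.mp h2)
  by_cases hH : H = ⊥
  · subst hH
    have hcard : (Nat.card M).Prime := by rwa [Subgroup.relIndex_bot_left] at hidx
    haveI : Fact (Nat.card M).Prime := ⟨hcard⟩
    have hMp : IsPGroup (Nat.card M) ↥M := IsPGroup.of_card (pow_one _).symm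
    obtain ⟨P, hP⟩ := hMp.exists_le_sylow
    have hPM : (P : Subgroup G) = M := by
      refine (hmaxM.le_iff.mp hP).resolve_left fun h => hG ?_
      have htop : IsPGroup (Nat.card M) G := (h ▸ P.isPGroup').of_equiv Subgroup.topEquiv
      haveI := IsPGroup.center_nontrivial htop
      rcases (inferInstance : (Subgroup.center G).Normal).eq_bot_or_eq_top with hc | hc
      · exact absurd hc (Subgroup.nontrivial_iff_ne_bot _ |>.mp inferInstance)
      · exact ⟨⟨fun a b => Subgroup.mem_center_iff.mp (hc ▸ Subgroup.mem_top b) a⟩⟩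
    have hcyc : IsCyclic ↥M := isCyclic_of_prime_card (rfl : Nat.card ↥M = Nat.card M)
    have hNC : Subgroup.normalizer ((P : Subgroup G) : Set G) ≤ Subgroup.centralizer ((P : Subgroup G) : Set G) := by
      rw [hPM, hNMM]
      intro a ha b hb
      exact congrArg Subtype.val (hcyc.isMulCommutative.is_comm.comm (⟨b, hb⟩ : ↥M) ⟨a, ha⟩)
    have hc := MonoidHom.ker_transferSylow_isComplement' P hNC
    rcases (MonoidHom.normal_ker (MonoidHom.transferSylow P hNC)).eq_bot_or_eq_top with h | h
    · have h2 := hc.sup_eq_top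
      rw [h, bot_sup_eq, hPM] at h2
      exact hmaxM.1 h2
    · have h2 := hc.disjoint.eq_bot
      rw [h, top_inf_eq, hPM] at h2
      exact hMne h2
  -- a conjugate of `H` inside `M` is `H`
  have hconj : ∀ g : G, H.map (MulAut.conj g).toMonoidHom ≤ M → H.map (MulAut.conj g).toMonoidHom = H := by
    intro g hg
    set K := H.map (MulAut.conj g).toMonoidHom with hK
    by_contra hne
    have hgM : g ∉ M := fun h => hne (Subgroup.mem_normalizer_iff_map_conj_eq.mp (hMHn h))
    have hKcard : Nat.card K = Nat.card H :=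
      (Nat.card_congr (H.equivMapOfInjective _ (MulAut.conj g).injective).toEquiv).symm
    have hK1 : K ≠ ⊥ := fun h => hH (Subgroup.eq_bot_of_card_eq H (by rw [← hKcard, h, Subgroup.card_bot]))
    have hK2 : K ≠ ⊤ := fun h => hmaxM.1 (top_le_iff.mp (h ▸ hg))
    have hHK : H ⊔ K = M := by
      have h1 : (H ⊔ K).subgroupOf M = ⊤ := by
        refine hcoat.2 _ (lt_of_le_of_ne (Subgroup.comap_mono le_sup_left) fun h => hne ?_)
        refine Subgroup.eq_of_le_of_card_ge ?_ hKcard.ge
        intro k hk
        exact Subgroup.mem_subgroupOf.mp (h ▸ (Subgroup.mem_subgroupOf.mpr (Subgroup.mem_sup_right hk) :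
          (⟨k, hg hk⟩ : ↥M) ∈ (H ⊔ K).subgroupOf M))
      exact le_antisymm (sup_le hHM hg) (Subgroup.subgroupOf_eq_top.mp h1)
    have hMg : ¬ M ≤ Subgroup.normalizer (K : Set G) := by
      intro h
      have h1 := hNM K hK1 hK2 h
      apply hgM
      rw [← hNMM]
      apply Subgroup.mem_normalizer_fintype
      intro m hm
      rw [SetLike.mem_coe, ← h1]
      have h2 : (Subgroup.normalizer (H : Set G)).map (MulAut.conj g).toMonoidHom ≤ Subgroup.normalizer (K : Set G) :=
        Subgroup.le_normalizer_map _
      exact h2 (Subgroup.mem_map_of_mem _ (hMHn hm))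
    -- an element of `gMg⁻¹` outside `M`
    obtain ⟨m, hm, ha⟩ : ∃ m ∈ M, g * m * g⁻¹ ∉ M := by
      by_contra hall
      push_neg at hall
      exact hgM (hNMM.le (Subgroup.mem_normalizer_fintype hall))
    set a := g * m * g⁻¹ with hadef
    have haK : a ∈ Subgroup.normalizer (K : Set G) :=
      (Subgroup.le_normalizer_map (MulAut.conj g).toMonoidHom) (Subgroup.mem_map_of_mem _ (hMHn hm))
    set T := H ⊔ H.map (MulAut.conj a).toMonoidHom with hT
    have hKT : K ≤ Subgroup.normalizer (T : Set G) := by
      intro k hk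
      apply Subgroup.mem_normalizer_fintype
      intro t ht
      have h1 : T.map (MulAut.conj k).toMonoidHom ≤ T := by
        rw [hT, Subgroup.map_sup]
        refine sup_le_sup ?_ ?_
        · rintro _ ⟨h, hh, rfl⟩
          exact (Subgroup.mem_normalizer_iff.mp (hMHn (hg hk)) h).mp hh
        · rintro _ ⟨_, ⟨h, hh, rfl⟩, rfl⟩
          refine ⟨_, (Subgroup.mem_normalizer_iff.mp (hMHn (hg ((Subgroup.mem_normalizer_iff''.mp haK k).mp hk))) h).mp hh, ?_⟩
          simp only [MulEquiv.coe_toMonoidHom, MulAut.conj_apply]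
          group
      exact h1 (Subgroup.mem_map_of_mem _ ht)
    by_cases hKle : K ≤ T
    · have hTM : T = M := (hmaxM.le_iff.mp (hHK ▸ sup_le le_sup_left hKle)).resolve_left (hno a)
      have hsub : H.map (MulAut.conj a).toMonoidHom ≤ M ⊓ M.map (MulAut.conj a).toMonoidHom :=
        le_inf (hTM ▸ le_sup_right) (Subgroup.map_mono hHM)
      have hKa : K ≤ M.map (MulAut.conj a).toMonoidHom := by
        intro k hk
        refine ⟨a⁻¹ * k * a, hg ((Subgroup.mem_normalizer_iff''.mp haK k).mp hk), ?_⟩
        simp only [MulEquiv.coe_toMonoidHom, MulAut.conj_apply]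
        group
      -- `M ∩ aMa⁻¹ = K`
      have hint : M ⊓ M.map (MulAut.conj a).toMonoidHom = K := by
        refine le_antisymm ?_ (le_inf hg hKa)
        by_contra hnle
        set I := M ⊓ M.map (MulAut.conj a).toMonoidHom
        have hKI : K.relIndex M = H.relIndex M := by
          have e1 := Subgroup.card_mul_index (K.subgroupOf M)
          have e2 := Subgroup.card_mul_index (H.subgroupOf M)
          rw [Nat.card_congr (Subgroup.subgroupOfEquivOfLe hg).toEquiv] at e1
          rw [Nat.card_congr (Subgroup.subgroupOfEquivOfLe hHM).toEquiv, ← hKcard] at e2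
          exact Nat.eq_of_mul_eq_mul_left Nat.card_pos (e1.trans e2.symm)
        have h3 := Subgroup.relIndex_mul_relIndex K I M (le_inf hg hKa) inf_le_left
        rw [hKI] at h3
        rcases hidx.eq_one_or_self_of_dvd _ ⟨_, h3.symm⟩ with h4 | h4
        · exact hnle (Subgroup.relIndex_eq_one.mp h4)
        · have h5 : I.relIndex M = 1 := by
            rw [h4] at h3
            exact Nat.eq_of_mul_eq_mul_left hidx.pos (h3.trans (mul_one _).symm)
          apply ha
          rw [← hNMM, Subgroup.mem_normalizer_iff_map_conj_eq]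
          exact (Subgroup.eq_of_le_of_card_ge ((Subgroup.relIndex_eq_one.mp h5).trans inf_le_right)
            (Nat.card_congr (M.equivMapOfInjective _ (MulAut.conj a).injective).toEquiv).ge).symm
      rw [hint] at hsub
      have heq : H.map (MulAut.conj a).toMonoidHom = K := Subgroup.eq_of_le_of_card_ge hsub
        (hKcard.trans (Nat.card_congr (H.equivMapOfInjective _ (MulAut.conj a).injective).toEquiv)).le
      apply hne
      rw [← heq]
      have h6 : a⁻¹ ∈ Subgroup.normalizer (K : Set G) := Subgroup.inv_mem _ haK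
      rw [Subgroup.mem_normalizer_iff_map_conj_eq, ← heq, Subgroup.map_map] at h6
      have h7 : H = K := by
        rw [← heq]
        refine Eq.trans ?_ h6
        ext z
        constructor
        · intro hz; exact ⟨z, hz, by simp [mul_assoc]⟩
        · rintro ⟨w, hw, rfl⟩; simpa [mul_assoc] using hw
      rw [heq]
      exact h7.symm
    · have hMle : M ≤ T ⊔ K := hHK ▸ sup_le_sup_right le_sup_left K
      rcases hmaxM.le_iff.mp hMle with h | h
      · have hTn : T.Normal := Subgroup.normalizer_eq_top_iff.mp
          (top_le_iff.mp (h ▸ sup_le Subgroup.le_normalizer hKT))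
        rcases hTn.eq_bot_or_eq_top with h' | h'
        · exact hH (le_bot_iff.mp (h' ▸ le_sup_left))
        · exact hno a h'
      · have hTle : T ≤ M := le_sup_left.trans h.le
        rcases hcoat.le_iff.mp (Subgroup.comap_mono le_sup_left : H.subgroupOf M ≤ T.subgroupOf M) with h' | h'
        · exact hKle (hg.trans (Subgroup.subgroupOf_eq_top.mp h'))
        · have hTH : T ≤ H := fun t ht => Subgroup.mem_subgroupOf.mp (h' ▸ (Subgroup.mem_subgroupOf.mpr ht) :
            (⟨t, hTle ht⟩ : ↥M) ∈ H.subgroupOf M)
          apply ha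
          refine (hNM H hH (fun hh => hK2 ?_) hMHn).le (Subgroup.mem_normalizer_fintype fun n hn => ?_)
          · rw [hK, hh, Subgroup.map_top_of_surjective _ (MulAut.conj g).surjective]
          · exact hTH (Subgroup.mem_sup_right (Subgroup.mem_map_of_mem _ hn))
  -- apply the previous theorem
  have hcl : ∀ g : G, (H ⊔ H.map (MulAut.conj g).toMonoidHom) ⊓ M = H := by
    intro g
    set T := H ⊔ H.map (MulAut.conj g).toMonoidHom
    refine le_antisymm ?_ (le_inf le_sup_left hHM)
    rcases hcoat.le_iff.mp (Subgroup.comap_mono le_sup_left : H.subgroupOf M ≤ T.subgroupOf M) with h | h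
    · have hTM : T = M := (hmaxM.le_iff.mp (Subgroup.subgroupOf_eq_top.mp h)).resolve_left (hno g)
      refine inf_le_left.trans (sup_le le_rfl ?_)
      exact (hconj g (hTM ▸ le_sup_right)).le
    · rintro t ⟨ht1, ht2⟩
      exact Subgroup.mem_subgroupOf.mp (h ▸ (Subgroup.mem_subgroupOf.mpr ht1) : (⟨t, ht2⟩ : ↥M) ∈ H.subgroupOf M)
  have h := S3014.result H M hHM hcl hcoat hmaxM
  rcases (Subgroup.normalClosure_normal (s := (H : Set G))).eq_bot_or_eq_top with h' | h'
  · exact hH (le_bot_iff.mp (h' ▸ Subgroup.le_normalClosure))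
  · rw [h', top_inf_eq] at h
    exact hcoat.1 (Subgroup.subgroupOf_eq_top.mpr h.le)

end Cfsg.Agent.S3015
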