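import Cfsg.Statements.S3020
import Cfsg.Agent.EqLemmas

set_option autoImplicit false
open Cfsg

namespace Cfsg.Agent.S3020

/-- Let G be a finite group, p a prime and H an abelian p-subgroup of G that is extremely closed (for every g, the subgroup generated by H and g H g⁻¹ meets N_G(H) exactly in H). Then for every g ∈ G, the subgroup T generated by H and g H g⁻¹ is the product of H with O_{p'}(T), and H meets O_{p'}(T) trivially; that is, O_{p'}(T) is a normal p-complement of H in T. -/
theorem result {G : Type*} [Group G] [Finite G] {p : ℕ} [Fact p.Prime] (H : Subgroup G) (hHp : IsPGroup p H) (hHab : IsMulCommutative H) (hcl : Cfsg.IsExtremelyClosed H) (g : G) (T : Subgroup G) (hT : T = H ⊔ H.map (MulAut.conj g).toMonoidHom) : H ⊔ (Cfsg.pPrimeCore p ↥T).map T.subtype = T ∧ H ⊓ (Cfsg.pPrimeCore p ↥T).map T.subtype = ⊥ := by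
  subst hT
  set T : Subgroup G := H ⊔ H.map (MulAut.conj g).toMonoidHom with hTdef
  have hHT : H ≤ T := le_sup_left
  have hN : Subgroup.normalizer ((H.subgroupOf T : Subgroup ↥T) : Set ↥T) ≤ H.subgroupOf T := by
    intro t ht
    have h1 : (t : G) ∈ Subgroup.normalizer (H : Set G) := by
      apply Subgroup.mem_normalizer_fintype
      intro h hh
      exact (Subgroup.mem_normalizer_iff.mp ht ⟨h, hHT hh⟩).mp hh
    exact (hcl g).le ⟨t.2, h1⟩
  obtain ⟨P, hP⟩ := (hHp.comap_subtype (K := T)).exists_le_sylow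
  have hPH : (P : Subgroup ↥T) ≤ H.subgroupOf T := by
    by_contra hne
    haveI := P.isPGroup'.isNilpotent
    let K : Subgroup ↥(P : Subgroup ↥T) := (H.subgroupOf T).subgroupOf P
    have hK : K < ⊤ := lt_top_iff_ne_top.mpr fun h => hne (Subgroup.subgroupOf_eq_top.mp h)
    obtain ⟨x, hx, hxK⟩ := SetLike.exists_of_lt (Group.normalizerCondition_of_isNilpotent K hK)
    apply hxK
    apply hN
    apply Subgroup.mem_normalizer_fintype
    intro h hh
    exact (Subgroup.mem_normalizer_iff.mp hx ⟨h, hP hh⟩).mp hh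
  have hPeq : (P : Subgroup ↥T) = H.subgroupOf T := le_antisymm hPH hP
  haveI : IsMulCommutative H := hHab
  have hcomm : ∀ a ∈ H, ∀ b ∈ H, a * b = b * a := fun a ha b hb =>
    congrArg Subtype.val (mul_comm' (⟨a, ha⟩ : H) ⟨b, hb⟩)
  have hNC : Subgroup.normalizer ((P : Subgroup ↥T) : Set ↥T) ≤ Subgroup.centralizer ((P : Subgroup ↥T) : Set ↥T) := by
    intro t ht
    rw [hPeq] at ht ⊢
    intro h hh
    exact Subtype.ext (hcomm _ hh _ (hN ht))
  have hK := MonoidHom.ker_transferSylow_isComplement' P hNC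
  set K := (MonoidHom.transferSylow P hNC).ker with hKdef
  have hKcop : (Nat.card K).Coprime p := by
    rw [Nat.coprime_comm, (Fact.out : p.Prime).coprime_iff_not_dvd]
    exact MonoidHom.not_dvd_card_ker_transferSylow P hNC
  have hcore : Cfsg.pPrimeCore p ↥T = K := by
    apply le_antisymm
    · apply sSup_le
      rintro N ⟨hNn, hNc⟩ x hx
      rw [hKdef, MonoidHom.mem_ker]
      obtain ⟨k, hk⟩ := P.isPGroup' (MonoidHom.transferSylow P hNC x)
      have h1 : orderOf (MonoidHom.transferSylow P hNC x) ∣ Nat.card N :=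
        (orderOf_map_dvd _ x).trans (Subgroup.orderOf_dvd_natCard N hx)
      have h2 : orderOf (MonoidHom.transferSylow P hNC x) ∣ p ^ k := orderOf_dvd_of_pow_eq_one hk
      exact orderOf_eq_one_iff.mp (Nat.eq_one_of_dvd_coprimes (hNc.pow_right k) h1 h2)
    · exact le_sSup ⟨inferInstance, hKcop⟩
  rw [hcore]
  have hmapH : (H.subgroupOf T).map T.subtype = H := Subgroup.map_subgroupOf_eq_of_le hHT
  constructor
  · conv_lhs => rw [← hmapH]
    rw [← Subgroup.map_sup, ← hPeq, sup_comm, hK.sup_eq_top, ← MonoidHom.range_eq_map, Subgroup.range_subtype]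
  · conv_lhs => rw [← hmapH]
    rw [← Subgroup.map_inf _ _ _ Subtype.val_injective, ← hPeq, inf_comm, hK.disjoint.eq_bot, Subgroup.map_bot]

end Cfsg.Agent.S3020
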