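import Cfsg.Statements.S3021
import Cfsg.Agent.EqLemmas

set_option autoImplicit false
open Cfsg

namespace Cfsg.Agent.S3021

/-- Let G be a finite group, p a prime and H a p-subgroup of G that is extremely closed (for every g, the subgroup generated by H and g H g⁻¹ meets N_G(H) exactly in H). Then every p-subgroup Q of G containing H has N_G(Q) ≤ N_G(H); in particular every Sylow p-subgroup P of G containing H normalizes H, and H is strongly closed in P with respect to G. -/
theorem result {G : Type*} [Group G] [Finite G] {p : ℕ} [Fact p.Prime] (H : Subgroup G) (hHp : IsPGroup p H) (hcl : Cfsg.IsExtremelyClosed H) : (∀ Q : Subgroup G, IsPGroup p Q → H ≤ Q → Subgroup.normalizer (Q : Set G) ≤ Subgroup.normalizer (H : Set G)) ∧ ∀ P : Sylow p G, H ≤ (P : Subgroup G) → (P : Subgroup G) ≤ Subgroup.normalizer (H : Set G) ∧ Cfsg.IsStronglyClosed H (P : Subgroup G) := by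
  have hnorm : ∀ g : G, H.map (MulAut.conj g).toMonoidHom ≤ Subgroup.normalizer (H : Set G) →
      g ∈ Subgroup.normalizer (H : Set G) := by
    intro g hg
    have h1 : H ⊔ H.map (MulAut.conj g).toMonoidHom ≤ Subgroup.normalizer (H : Set G) :=
      sup_le Subgroup.le_normalizer hg
    have h2 : H.map (MulAut.conj g).toMonoidHom ≤ H := by
      have h3 := hcl g
      rw [inf_eq_left.mpr h1] at h3
      exact le_sup_right.trans h3.le
    apply Subgroup.mem_normalizer_fintype
    intro n hn
    exact h2 (Subgroup.mem_map_of_mem _ hn)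
  have hQN : ∀ Q : Subgroup G, IsPGroup p Q → H ≤ Q → Q ≤ Subgroup.normalizer (H : Set G) := by
    intro Q hQ hHQ
    by_contra hne
    haveI := hQ.isNilpotent
    let K : Subgroup ↥Q := (Subgroup.normalizer (H : Set G)).subgroupOf Q
    have hK : K < ⊤ := lt_top_iff_ne_top.mpr fun h => hne (Subgroup.subgroupOf_eq_top.mp h)
    obtain ⟨x, hx, hxK⟩ := SetLike.exists_of_lt (Group.normalizerCondition_of_isNilpotent K hK)
    apply hxK
    apply hnorm
    rintro y ⟨h, hh, rfl⟩
    have h1 : (⟨h, hHQ hh⟩ : ↥Q) ∈ K := Subgroup.le_normalizer hh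
    exact (Subgroup.mem_normalizer_iff.mp hx ⟨h, hHQ hh⟩).mp h1
  refine ⟨?_, ?_⟩
  · intro Q hQ hHQ x hx
    apply hnorm
    rintro y ⟨h, hh, rfl⟩
    exact hQN Q hQ hHQ ((Subgroup.mem_normalizer_iff.mp hx h).mp (hHQ hh))
  · intro P hHP
    refine ⟨hQN P P.isPGroup' hHP, hHP, ?_⟩
    intro x hx g hg
    exact (hcl g).le ⟨Subgroup.mem_sup_right (Subgroup.mem_map_of_mem _ hx), hQN P P.isPGroup' hHP hg⟩

end Cfsg.Agent.S3021
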