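import Cfsg.Statements.S3022
import Cfsg.Agent.Lib.FFPush.HalvesMain
import Cfsg.Agent.Lib.CharFocal.Main

set_option autoImplicit false
open Cfsg

namespace Cfsg.Agent.S3022

/-- A subgroup of `S` with a characteristic preimage is invariant. -/
theorem invariant_of_char {G : Type*} [Group G] {S : Subgroup G} {K : Subgroup ↥S} (hK : K.Characteristic)
    (a : MulAut ↥S) (x : ↥S) (hx : (x : G) ∈ K.map S.subtype) : ((a x : ↥S) : G) ∈ K.map S.subtype := by
  obtain ⟨y, hy, e⟩ := hx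
  obtain rfl : y = x := Subtype.ext e
  refine ⟨a y, ?_, rfl⟩
  have h := Subgroup.characteristic_iff_map_le.1 hK a
  exact h ⟨y, hy, rfl⟩

/-- A characteristic subgroup of a characteristic subgroup, inside the ambient group. -/
theorem char_of_char {G : Type*} [Group G] {S B C : Subgroup G} {K : Subgroup ↥S} (hK : K.Characteristic)
    (e : K.map S.subtype = B) (hCB : C ≤ B) (hC : (C.subgroupOf B).Characteristic) :
    ∃ K' : Subgroup ↥S, K'.Characteristic ∧ K'.map S.subtype = C := by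
  let f : ↥B ≃* ↥K :=
    (MulEquiv.subgroupCongr e.symm).trans (K.equivMapOfInjective _ S.subtype_injective).symm
  have hval : ∀ y, (((f y : ↥K) : ↥S) : G) = (y : G) := fun y => by
    have h := congrArg Subtype.val
      ((K.equivMapOfInjective _ S.subtype_injective).apply_symm_apply ((MulEquiv.subgroupCongr e.symm) y))
    exact h
  refine ⟨_, CharFocal.char_trans hK (CharFocal.char_map_equiv f hC), ?_⟩
  ext x
  constructor
  · rintro ⟨_, ⟨_, ⟨y, hy, rfl⟩, rfl⟩, rfl⟩
    show (((f y : ↥K) : ↥S) : G) ∈ C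
    rw [hval y]
    exact hy
  · intro hx
    exact ⟨_, ⟨_, ⟨⟨x, hCB hx⟩, hx, rfl⟩, rfl⟩, hval _⟩

/-- Let G be a finite group all of whose non-abelian simple sections are known simple groups, such that a Sylow 2-subgroup of G lies in exactly one maximal subgroup of G and C_G(O₂(G)) ≤ O₂(G). Let S be a Sylow 2-subgroup of G and A a group of automorphisms of S of odd order. Then some nontrivial A-invariant subgroup of S is normal in G. -/
theorem result {G : Type*} [Group G] [Finite G] (hK : Cfsg.IsKGroup G) (hirr : ∀ S : Sylow 2 G, ∃! M : Subgroup G, IsCoatom M ∧ (S : Subgroup G) ≤ M) (hchar : Subgroup.centralizer (Cfsg.pCore 2 G : Set G) ≤ Cfsg.pCore 2 G) (S : Sylow 2 G) (A : Subgroup (MulAut ↥(S : Subgroup G))) (hA : Odd (Nat.card A)) : ∃ U : Subgroup G, U ≠ ⊥ ∧ U.Normal ∧ U ≤ (S : Subgroup G) ∧ ∀ a ∈ A, ∀ x : ↥(S : Subgroup G), (x : G) ∈ U → ((a x : ↥(S : Subgroup G)) : G) ∈ U := by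
  haveI : Fact (Nat.Prime 2) := ⟨Nat.prime_two⟩
  by_cases hn : (S : Subgroup G).Normal
  · refine ⟨S, fun e => ?_, hn, le_rfl, fun a _ x _ => (a x).2⟩
    obtain ⟨M, ⟨hM, -⟩, -⟩ := hirr S
    refine hM.1 (eq_top_iff.2 fun g _ => ?_)
    have hQ : Cfsg.pCore 2 G = ⊥ := le_bot_iff.1 ((Cores.pCore_le_sylow S).trans e.le)
    have hg := hchar (Subgroup.mem_centralizer_iff.2 fun x hx => by
      rw [Subgroup.mem_bot.1 (hQ.le hx : x ∈ (⊥ : Subgroup G)), one_mul, mul_one] :
      g ∈ Subgroup.centralizer (Cfsg.pCore 2 G : Set G))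
    rw [hQ, Subgroup.mem_bot] at hg
    exact hg ▸ one_mem M
  have hne : (S : Subgroup G) ≠ ⊥ := fun e => hn (e ▸ inferInstance)
  obtain ⟨M, ⟨hM, hSM⟩, hu⟩ := hirr S
  have hmin : Cfsg.IsPMinimal 2 G := PMinimal.isPMinimal_of_sylow S hn M hM hSM fun X hSX hX => by
    obtain ⟨N, hN, hXN⟩ := (eq_top_or_exists_le_coatom X).resolve_left hX
    exact hXN.trans (hu N ⟨hN, hSX.trans hXN⟩).le
  obtain ⟨KB, hKB, eKB⟩ := CharFocal.baumann_char (p := 2) (S : Subgroup G)
  by_cases hc : ∃ C : Subgroup G, C ≤ Cfsg.baumannSubgroupOf 2 (S : Subgroup G) ∧ C ≠ ⊥ ∧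
      (C.subgroupOf (Cfsg.baumannSubgroupOf 2 (S : Subgroup G))).Characteristic ∧ C.Normal
  · obtain ⟨C, hCB, hC0, hCc, hCn⟩ := hc
    obtain ⟨K, hK, eK⟩ := char_of_char hKB eKB hCB hCc
    subst eK
    exact ⟨_, hC0, hCn, Subgroup.map_subtype_le _, fun a _ x hx => invariant_of_char hK a x hx⟩
  by_cases hz : (Cfsg.omegaOneCenter 2 (S : Subgroup G)).Normal
  · obtain ⟨K, hK, eK⟩ := CharFocal.omegaCenter_char (p := 2) (S : Subgroup G)
    rw [← eK] at hz
    refine ⟨_, ?_, hz, Subgroup.map_subtype_le _, fun a _ x hx => invariant_of_char hK a x hx⟩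
    rw [eK]
    obtain ⟨z, hzm, hz1, hzp⟩ := PLocal.exists_central_of_order_p S.2 hne
    intro e
    have : z ∈ Cfsg.omegaOneCenter 2 (S : Subgroup G) := PReduced.mem_omegaOne_center.2
      ⟨hzm.1, fun t ht => Subgroup.mem_centralizer_iff.1 hzm.2 t ht, hzp⟩
    exact hz1 (Subgroup.mem_bot.1 (e ▸ this))
  refine FFPush.exists_invariant_normal hmin hchar S A hA hz
    (fun C h1 h2 h3 h4 => hc ⟨C, h1, h2, h3, h4⟩) ?_ ?_
  · rw [← eKB, Subgroup.subgroupOf, Subgroup.comap_map_eq_self_of_injective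
      (S : Subgroup G).subtype_injective]
    exact hKB
  · have hi := (S : Subgroup G).subtype_injective
    have e : (Cfsg.omegaOne 2 (Cfsg.centerThompsonOf 2 (⊤ : Subgroup ↥(S : Subgroup G)))).map
        (S : Subgroup G).subtype = FFPush.Y 2 (S : Subgroup G) := by
      rw [PLocal.map_omegaOne _ hi.injOn, PLocal.map_centerThompsonOf _ hi.injOn,
        ← MonoidHom.range_eq_map, (S : Subgroup G).range_subtype]
      rfl
    rw [← e, Subgroup.subgroupOf, Subgroup.comap_map_eq_self_of_injective hi]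
    refine Subgroup.characteristic_iff_map_eq.2 fun φ => ?_
    rw [PLocal.map_omegaOne _ φ.injective.injOn, PLocal.map_centerThompsonOf _ φ.injective.injOn,
      Subgroup.map_top_of_surjective _ φ.surjective]

end Cfsg.Agent.S3022
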