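import Cfsg.Statements.S3023
import Cfsg.Agent.Lib.LocalCharP.Criteria
import Cfsg.Agent.Lib.PReduced.Tools

set_option autoImplicit false
open Cfsg

namespace Cfsg.Agent.S3023

/-- Let p be a prime, G a finite group of parabolic characteristic p (every p-local subgroup containing a Sylow p-subgroup of G has characteristic p), S a Sylow p-subgroup of G and G₁ a subnormal subgroup of G. If the centre of S ∩ G₁ is nontrivial and contained in the centre of S, then G₁ has parabolic characteristic p. -/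
theorem result {G : Type*} [Group G] [Finite G] {p : ℕ} [Fact p.Prime] (hG : Cfsg.IsOfParabolicCharacteristic p G) (S : Sylow p G) (G₁ : Subgroup G) (hsn : G₁.IsSubnormal) (hne : ((S : Subgroup G) ⊓ G₁) ⊓ Subgroup.centralizer (((S : Subgroup G) ⊓ G₁ : Subgroup G) : Set G) ≠ ⊥) (hle : ((S : Subgroup G) ⊓ G₁) ⊓ Subgroup.centralizer (((S : Subgroup G) ⊓ G₁ : Subgroup G) : Set G) ≤ (S : Subgroup G) ⊓ Subgroup.centralizer ((S : Subgroup G) : Set G)) : Cfsg.IsOfParabolicCharacteristic p ↥G₁ := by
  let S₁ := PReduced.sylowOfSubnormal S hsn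
  refine LocalCharP.isOfParabolicCharacteristic_of_centralizers S₁ fun z hz1 hz => ?_
  have hz' : z ∈ (S₁ : Subgroup ↥G₁) ⊓ Subgroup.centralizer ((S₁ : Subgroup ↥G₁) : Set ↥G₁) :=
    (Subgroup.closure_le _).mpr (fun x hx => hx.1) hz
  have hzZ : (z : G) ∈ (S : Subgroup G) ⊓ Subgroup.centralizer ((S : Subgroup G) : Set G) := by
    refine hle ⟨⟨hz'.1, z.2⟩, fun s hs => ?_⟩
    exact congrArg Subtype.val (hz'.2 ⟨s, hs.2⟩ hs.1)
  have hC := LocalCharP.hasCharP_centralizer_of_parabolic hG S hzZ (fun h => hz1 (Subtype.ext h))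
  refine LocalCharP.HasCharP.of_map G₁.subtype G₁.subtype_injective (hC.of_subnormal ?_ ?_)
  · rintro _ ⟨y, hy, rfl⟩
    exact Subgroup.mem_centralizer_singleton_iff.mpr
      (congrArg Subtype.val (Subgroup.mem_centralizer_singleton_iff.mp hy))
  · have heq : (Subgroup.centralizer ({z} : Set ↥G₁)).map G₁.subtype =
        G₁ ⊓ Subgroup.centralizer ({(z : G)} : Set G) := by
      ext x
      constructor
      · rintro ⟨y, hy, rfl⟩
        exact ⟨y.2, Subgroup.mem_centralizer_singleton_iff.mpr
          (congrArg Subtype.val (Subgroup.mem_centralizer_singleton_iff.mp hy))⟩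
      · rintro ⟨hx1, hx2⟩
        exact ⟨⟨x, hx1⟩, Subgroup.mem_centralizer_singleton_iff.mpr
          (Subtype.ext (Subgroup.mem_centralizer_singleton_iff.mp hx2)), rfl⟩
    rw [heq, Subgroup.inf_subgroupOf_right]
    exact hsn.subgroupOf

end Cfsg.Agent.S3023
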