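import Cfsg.Statements.S3025
import Cfsg.Agent.Lib.PGroup.UniqueOrderP

set_option autoImplicit false
open Cfsg

namespace Cfsg.Agent.S3025

/-- Let F be a finite group and H a nontrivial subgroup of F that is contained in every nontrivial subgroup of F which H normalizes. Then F has a nontrivial normal subgroup N contained in every nontrivial normal subgroup of F (a unique minimal normal subgroup), N is simple, and one of the following holds: C_F(N) = 1; or H = N has prime order p, C_F(N) is cyclic of order a power of p, and F/C_F(N) is cyclic of order dividing p − 1; or H = N has order 2, N is central in F, and F is a generalized quaternion group. -/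
theorem result {F : Type*} [Group F] [Finite F] (H : Subgroup F) (hH : H ≠ ⊥)
    (hmin : ∀ R : Subgroup F, R ≠ ⊥ → H ≤ Subgroup.normalizer (R : Set F) → H ≤ R) :
    ∃ N : Subgroup F, N.Normal ∧ N ≠ ⊥ ∧ (∀ M : Subgroup F, M.Normal → M ≠ ⊥ → N ≤ M) ∧ IsSimpleGroup ↥N ∧
      (Subgroup.centralizer (N : Set F) = ⊥ ∨
       (H = N ∧ (Nat.card N).Prime ∧ IsCyclic ↥(Subgroup.centralizer (N : Set F)) ∧
          (∃ k : ℕ, 1 ≤ k ∧ Nat.card ↥(Subgroup.centralizer (N : Set F)) = Nat.card N ^ k) ∧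
          (∃ g : F, Subgroup.centralizer (N : Set F) ⊔ Subgroup.zpowers g = ⊤) ∧
          (Subgroup.centralizer (N : Set F)).index ∣ Nat.card N - 1) ∨
       (H = N ∧ Nat.card N = 2 ∧ Subgroup.centralizer (N : Set F) = ⊤ ∧
          ∃ k : ℕ, 1 ≤ k ∧ Nonempty (F ≃* QuaternionGroup (2 ^ k)))) := by
  classical
  set s : Set (Subgroup F) := {M | M.Normal ∧ M ≠ ⊥} with hs
  set N := sInf s with hN
  have hHN : H ≤ N := le_sInf fun M hM => by
    haveI := hM.1
    exact hmin M hM.2 Subgroup.le_normalizer_of_normal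
  have hN1 : N ≠ ⊥ := fun h => hH (le_bot_iff.mp (h ▸ hHN))
  haveI hNn : N.Normal := ⟨fun n hn g => Subgroup.mem_sInf.mpr fun M hM =>
    hM.1.conj_mem n (Subgroup.mem_sInf.mp hn M hM) g⟩
  have hmin' : ∀ M : Subgroup F, M.Normal → M ≠ ⊥ → N ≤ M := fun M h1 h2 => sInf_le ⟨h1, h2⟩
  haveI : Nontrivial ↥N := (Subgroup.nontrivial_iff_ne_bot N).mpr hN1
  have hsimple : IsSimpleGroup ↥N := by
    refine { eq_bot_or_eq_top_of_normal := fun M hM => ?_ }
    by_contra hcon
    push Not at hcon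
    set t : Set (Subgroup F) := {R | R ≤ N ∧ R ≠ ⊥ ∧ ∀ n ∈ N, ∀ r ∈ R, n * r * n⁻¹ ∈ R} with ht
    have hMt : M.map N.subtype ∈ t := by
      refine ⟨Subgroup.map_subtype_le _, ?_, ?_⟩
      · rw [Ne, Subgroup.map_eq_bot_iff_of_injective _ N.subtype_injective]; exact hcon.1
      · rintro n hn _ ⟨r, hr, rfl⟩
        exact ⟨_, hM.conj_mem r hr ⟨n, hn⟩, rfl⟩
    have hI : (sInf t).Normal := by
      refine ⟨fun y hy g => Subgroup.mem_sInf.mpr fun R hR => ?_⟩
      have hR' : R.comap (MulAut.conj g).toMonoidHom ∈ t := by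
        refine ⟨fun r hr => ?_, ?_, ?_⟩
        · have h : g * r * g⁻¹ ∈ R := hr
          simpa [mul_assoc] using hNn.conj_mem _ (hR.1 h) g⁻¹
        · intro h
          apply hR.2.1
          rw [Subgroup.eq_bot_iff_forall]
          intro r hr
          have h2 : g⁻¹ * r * g = 1 := (Subgroup.eq_bot_iff_forall _).mp h _ (by
            show g * (g⁻¹ * r * g) * g⁻¹ ∈ R
            simpa [mul_assoc] using hr)
          calc r = g * (g⁻¹ * r * g) * g⁻¹ := by group
            _ = 1 := by rw [h2]; group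
        · intro n hn r hr
          have h := hR.2.2 _ (hNn.conj_mem n hn g) _ hr
          show g * (n * r * n⁻¹) * g⁻¹ ∈ R
          convert h using 1
          show g * (n * r * n⁻¹) * g⁻¹ = g * n * g⁻¹ * (g * r * g⁻¹) * (g * n * g⁻¹)⁻¹
          group
      exact (Subgroup.mem_sInf.mp hy _ hR')
    have hHI : H ≤ sInf t := le_sInf fun R hR => hmin R hR.2.1 fun h hh =>
      Subgroup.mem_normalizer_fintype fun r hr => hR.2.2 h (hHN hh) r hr
    have hNI : N ≤ M.map N.subtype :=
      (hmin' _ hI fun h => hH (le_bot_iff.mp (h ▸ hHI))).trans (sInf_le hMt)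
    refine hcon.2 (eq_top_iff.mpr fun x _ => ?_)
    obtain ⟨y, hy, hyx⟩ := hNI x.2
    exact Subtype.ext hyx ▸ hy
  refine ⟨N, hNn, hN1, hmin', hsimple, ?_⟩
  by_cases hC : Subgroup.centralizer (N : Set F) = ⊥
  · exact Or.inl hC
  set C := Subgroup.centralizer (N : Set F) with hCdef
  haveI hCn : C.Normal := Subgroup.normal_centralizer
  have hNC : N ≤ C := hmin' C hCn hC
  haveI hNab : IsMulCommutative ↥N := ⟨⟨fun a b => Subtype.ext (hNC b.2 a a.2)⟩⟩
  have hprime : (Nat.card ↥N).Prime := Group.is_simple_iff_prime_card.mp hsimple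
  set p := Nat.card ↥N with hp
  haveI := Fact.mk hprime
  have hHeq : H = N := by
    refine Subgroup.eq_of_le_of_card_ge hHN ?_
    rcases hprime.eq_one_or_self_of_dvd _ (hp ▸ Subgroup.card_dvd_of_le hHN) with h | h
    · exact absurd (Subgroup.card_eq_one.mp h) hH
    · exact le_of_eq (hp ▸ h.symm)
  have hsub : ∀ R : Subgroup F, R ≠ ⊥ → R ≤ C → N ≤ R := fun R h1 h2 => hHeq ▸ hmin R h1
    ((hHeq ▸ le_rfl : H ≤ N).trans (Subgroup.le_centralizer_iff.mp h2 |>.trans (Subgroup.centralizer_le_normalizer _)))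
  have hCp : IsPGroup p ↥C := by
    refine IsPGroup.of_card (n := (Nat.card ↥C).primeFactorsList.length) ?_
    refine Nat.eq_prime_pow_of_unique_prime_dvd Nat.card_pos.ne' fun {q} hq hqd => ?_
    haveI := Fact.mk hq
    obtain ⟨x, hx⟩ := exists_prime_orderOf_dvd_card' q hqd
    have h1 := hsub (Subgroup.zpowers (x : F)) (by
      rw [Ne, Subgroup.zpowers_eq_bot]
      intro h
      rw [← Subgroup.orderOf_coe, h, orderOf_one] at hx
      exact hq.ne_one hx.symm) (Subgroup.zpowers_le.mpr x.2)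
    have h2 := Subgroup.card_dvd_of_le h1
    rw [Nat.card_zpowers, Subgroup.orderOf_coe, hx] at h2
    exact ((Nat.prime_dvd_prime_iff_eq hprime hq).mp h2).symm
  obtain ⟨k, hk⟩ := IsPGroup.iff_card.mp hCp
  have hk1 : 1 ≤ k := by
    by_contra h
    rw [show k = 0 by omega, pow_zero] at hk
    exact hC (Subgroup.card_eq_one.mp hk)
  have huniq : ∀ x y : ↥C, orderOf x = p → y ^ p = 1 → y ∈ Subgroup.zpowers x := by
    intro x y hx hy
    by_cases hy1 : y = 1
    · exact hy1 ▸ Subgroup.one_mem _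
    have key : ∀ w : ↥C, orderOf w = p → N = Subgroup.zpowers (w : F) := fun w hw => by
      refine Subgroup.eq_of_le_of_card_ge (hsub _ ?_ (Subgroup.zpowers_le.mpr w.2)) ?_
      · rw [Ne, Subgroup.zpowers_eq_bot]
        intro h
        rw [← Subgroup.orderOf_coe, h, orderOf_one] at hw
        exact hprime.ne_one hw.symm
      · rw [Nat.card_zpowers, Subgroup.orderOf_coe, hw]
    have h := (key x hx).symm.trans (key y (orderOf_eq_prime hy hy1))
    obtain ⟨i, hi⟩ := h.ge (Subgroup.mem_zpowers (y : F))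
    exact ⟨i, Subtype.ext hi⟩
  haveI : IsCyclic ↥N := isCyclic_of_prime_card (p := p) rfl
  let ψ : F →* (ZMod (Nat.card ↥N))ˣ := (IsCyclic.mulAutMulEquiv ↥N).toMonoidHom.comp MulAut.conjNormal
  have hker : ψ.ker = C := by
    have h0 : ψ.ker = (MulAut.conjNormal : F →* MulAut ↥N).ker := by
      ext x
      exact (IsCyclic.mulAutMulEquiv ↥N).map_eq_one_iff
    rw [h0]
    ext x
    constructor
    · intro hx n hn
      have h := congrArg (fun φ : MulAut ↥N => ((φ ⟨n, hn⟩ : ↥N) : F)) (MonoidHom.mem_ker.mp hx)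
      simp only [MulAut.conjNormal_apply, MulAut.one_apply] at h
      calc n * x = (x * n * x⁻¹) * x := by rw [h]
        _ = x * n := by group
    · intro hx
      refine MonoidHom.mem_ker.mpr (MulEquiv.ext fun n => Subtype.ext ?_)
      rw [MulAut.conjNormal_apply, MulAut.one_apply, ← hx n n.2]
      group
  have hidx : C.index ∣ p - 1 := by
    rw [← hker, Subgroup.index_ker]
    refine (Subgroup.card_subgroup_dvd_card _).trans ?_
    rw [Nat.card_eq_fintype_card, ZMod.card_units_eq_totient, Nat.totient_prime hprime]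
  have hgen : ∃ g : F, C ⊔ Subgroup.zpowers g = ⊤ := by
    haveI : Fact (Nat.card ↥N).Prime := ⟨hprime⟩
    haveI : IsCyclic ↥ψ.range := inferInstance
    obtain ⟨⟨_, g, rfl⟩, hg⟩ := IsCyclic.exists_generator (α := ↥ψ.range)
    refine ⟨g, eq_top_iff.mpr fun x _ => ?_⟩
    obtain ⟨i, hi⟩ := hg ⟨ψ x, x, rfl⟩
    have hi' : ψ g ^ i = ψ x := congrArg Subtype.val hi
    have h1 : x * (g ^ i)⁻¹ ∈ C := by
      rw [← hker, MonoidHom.mem_ker, map_mul, map_inv, map_zpow, hi', mul_inv_cancel]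
    have h2 := Subgroup.mul_mem (C ⊔ Subgroup.zpowers g) (Subgroup.mem_sup_left h1)
      (Subgroup.mem_sup_right (Subgroup.zpow_mem _ (Subgroup.mem_zpowers g) i))
    rwa [inv_mul_cancel_right] at h2
  by_cases hcyc : IsCyclic ↥C
  · exact Or.inr (Or.inl ⟨hHeq, hprime, hcyc, ⟨k, hk1, hk⟩, hgen, hidx⟩)
  obtain ⟨h2, n, ⟨e⟩⟩ := (Cfsg.Agent.PGroup.unique_order_p_cases hCp huniq).resolve_left hcyc
  have htop : C = ⊤ := by
    rw [← Subgroup.index_eq_one]
    rw [h2] at hidx
    exact Nat.dvd_one.mp hidx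
  refine Or.inr (Or.inr ⟨hHeq, h2, htop, n, ?_, ⟨(Subgroup.topEquiv.symm.trans
    (MulEquiv.subgroupCongr htop.symm)).trans e⟩⟩)
  by_contra hn
  obtain rfl : n = 0 := by omega
  exact hcyc (e.isCyclic.mpr (by rw [pow_zero]; exact QuaternionGroup.quaternionGroup_one_isCyclic))

end Cfsg.Agent.S3025
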