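import Cfsg.Statements.S3027
import Cfsg.Agent.EqLemmas

set_option autoImplicit false
open Cfsg

namespace Cfsg.Agent.S3027

open scoped commutatorElement

variable {G : Type*} [Group G]

theorem normalizer_inf_le (A B : Subgroup G) :
    Subgroup.normalizer (A : Set G) ⊓ Subgroup.normalizer (B : Set G) ≤
      Subgroup.normalizer ((A ⊓ B : Subgroup G) : Set G) := by
  rintro g ⟨hA, hB⟩
  rw [Subgroup.mem_normalizer_iff]
  intro h
  exact and_congr (Subgroup.mem_normalizer_iff.mp hA h) (Subgroup.mem_normalizer_iff.mp hB h)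

/-- Two supplements of `D` normalising each other meet in a supplement. -/
theorem inf_sup_eq_top {D N₁ N₂ : Subgroup G} [D.Normal]
    (hperf : ⁅(⊤ : Subgroup G), (⊤ : Subgroup G)⁆ ⊔ D = ⊤) (h1 : N₁ ⊔ D = ⊤) (h2 : N₂ ⊔ D = ⊤)
    (n12 : N₁ ≤ Subgroup.normalizer (N₂ : Set G)) (n21 : N₂ ≤ Subgroup.normalizer (N₁ : Set G)) :
    (N₁ ⊓ N₂) ⊔ D = ⊤ := by
  let π := QuotientGroup.mk' D
  have hπ : ∀ X : Subgroup G, X ⊔ D = ⊤ → X.map π = ⊤ := by
    intro X hX
    rw [← sup_bot_eq (X.map π), ← QuotientGroup.map_mk'_self D, ← Subgroup.map_sup, hX,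
        Subgroup.map_top_of_surjective _ (QuotientGroup.mk'_surjective D)]
  have hle : ⁅N₁, N₂⁆ ≤ N₁ ⊓ N₂ := by
    rw [Subgroup.commutator_le]
    intro a ha b hb
    rw [commutatorElement_def]
    constructor
    · rw [show a * b * a⁻¹ * b⁻¹ = a * (b * a⁻¹ * b⁻¹) by group]
      exact N₁.mul_mem ha ((Subgroup.mem_normalizer_iff.mp (n21 hb) _).mp (N₁.inv_mem ha))
    · exact N₂.mul_mem ((Subgroup.mem_normalizer_iff.mp (n12 ha) _).mp hb) (N₂.inv_mem hb)
  have h3 : ((N₁ ⊓ N₂) ⊔ D).map π = ⊤ := by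
    rw [eq_top_iff]
    refine le_trans ?_ (Subgroup.map_mono (hle.trans le_sup_left))
    rw [Subgroup.map_commutator, hπ N₁ h1, hπ N₂ h2]
    have h4 := hπ _ hperf
    rw [Subgroup.map_commutator, Subgroup.map_top_of_surjective _ (QuotientGroup.mk'_surjective D)] at h4
    exact h4.ge
  have h5 := congrArg (Subgroup.comap π) h3
  rw [Subgroup.comap_top, Subgroup.comap_map_eq, QuotientGroup.ker_mk', sup_assoc, sup_idem] at h5
  exact h5


/-- Let G be a finite group and D a normal subgroup of G such that G/D is perfect (that is, G = G′D). Then among the subnormal subgroups B of G with BD = G there is a least one, and it is normal in G. -/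
theorem result {G : Type*} [Group G] [Finite G] (D : Subgroup G) [D.Normal] (hperf : ⁅(⊤ : Subgroup G), (⊤ : Subgroup G)⁆ ⊔ D = ⊤) :
    ∃ B : Subgroup G, B.Normal ∧ B ⊔ D = ⊤ ∧ ∀ B' : Subgroup G, B'.IsSubnormal → B' ⊔ D = ⊤ → B ≤ B' := by
  classical
  obtain ⟨B, hB, hmin⟩ := (Set.toFinite {B : Subgroup G | B.Normal ∧ B ⊔ D = ⊤}).exists_le_minimal
    (show (⊤ : Subgroup G) ∈ _ from ⟨inferInstance, top_sup_eq _⟩)
  obtain ⟨hBn, hBD⟩ := hmin.1
  haveI := hBn
  have hnorm : ∀ N : Subgroup G, N.Normal → N ⊔ D = ⊤ → B ≤ N := by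
    intro N hN hND
    haveI := hN
    exact le_inf_iff.mp (hmin.2 ⟨inferInstance, inf_sup_eq_top hperf hBD hND Subgroup.le_normalizer_of_normal
      Subgroup.le_normalizer_of_normal⟩ inf_le_left) |>.2
  refine ⟨B, hBn, hBD, ?_⟩
  intro B' hB' hB'D
  induction hB' with
  | top => exact le_top
  | step H K hHK _ hnor ih =>
    have hKD : K ⊔ D = ⊤ := top_le_iff.mp (hB'D ▸ sup_le_sup_right hHK D)
    have hBK := ih hKD
    have hKH : K ≤ Subgroup.normalizer (H : Set G) := Subgroup.le_normalizer_of_normal_subgroupOf hHK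
    set X := B ⊓ H with hX
    have hXD : X ⊔ D = ⊤ := inf_sup_eq_top hperf hBD hB'D (hBK.trans hKH) Subgroup.le_normalizer_of_normal
    have hXn : B ≤ Subgroup.normalizer (X : Set G) :=
      (le_inf Subgroup.le_normalizer (hBK.trans hKH)).trans (normalizer_inf_le _ _)
    -- supplements inside `B` normalised by `B` are closed under intersection
    let S : Set (Subgroup G) := {Y | Y ≤ B ∧ B ≤ Subgroup.normalizer (Y : Set G) ∧ Y ⊔ D = ⊤}
    obtain ⟨Y, hY, hYmin⟩ := (Set.toFinite S).exists_le_minimal (show X ∈ S from ⟨inf_le_left, hXn, hXD⟩)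
    have hleast : ∀ Z ∈ S, Y ≤ Z := by
      intro Z hZ
      have hmem : Y ⊓ Z ∈ S := ⟨inf_le_left.trans hYmin.1.1,
        (le_inf hYmin.1.2.1 hZ.2.1).trans (normalizer_inf_le _ _),
        inf_sup_eq_top hperf hYmin.1.2.2 hZ.2.2 (hYmin.1.1.trans hZ.2.1) (hZ.1.trans hYmin.1.2.1)⟩
      exact (le_inf_iff.mp (hYmin.2 hmem inf_le_left)).2
    have hYn : Y.Normal := by
      constructor
      intro y hy g
      have hBg : B.map (MulAut.conj g⁻¹).toMonoidHom = B := Subgroup.Normal.map_conj_eq B _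
      have hmem : Y.map (MulAut.conj g⁻¹).toMonoidHom ∈ S := by
        refine ⟨hBg ▸ Subgroup.map_mono hYmin.1.1, ?_, ?_⟩
        · conv_lhs => rw [← hBg]
          exact (Subgroup.map_mono hYmin.1.2.1).trans (Subgroup.le_normalizer_map _)
        · have hDg : D.map (MulAut.conj g⁻¹).toMonoidHom = D := Subgroup.Normal.map_conj_eq D _
          conv_lhs => rw [← hDg]
          rw [← Subgroup.map_sup, hYmin.1.2.2, Subgroup.map_top_of_surjective _ (MulAut.conj g⁻¹).surjective]
      obtain ⟨z, hz, hzy⟩ := hleast _ hmem hy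
      rw [← hzy]
      simpa [mul_assoc] using hz
    exact (hnorm Y hYn hYmin.1.2.2).trans (hY.trans inf_le_right)

end Cfsg.Agent.S3027
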