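import Cfsg.Statements.S3031
import Cfsg.Agent.Lib.Transfer.Alperin
import Cfsg.Agent.Lib.Transfer.Criteria
import Cfsg.Agent.Lib.FusionChain.SmallElements
import Cfsg.Agent.Lib.Coprime.Invariant

set_option autoImplicit false
open Cfsg

namespace Cfsg.Agent.S3031

open scoped commutatorElement

variable {G : Type*} [Group G] {p : ℕ}

/-- An exponent `k` whose `o`-th power is `1` modulo `p ^ a`, `o` free of primes up to `p`, is `1`. -/
theorem unit_trivial [Fact p.Prime] (a o : ℕ) (ho : ∀ q : ℕ, q.Prime → q ∣ o → p < q)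
    (k : ℤ) (h : ((k : ZMod (p ^ a)) ^ o) = 1) : (k : ZMod (p ^ a)) = 1 := by
  have hpp : p.Prime := Fact.out
  haveI : NeZero (p ^ a) := ⟨pow_ne_zero _ hpp.ne_zero⟩
  rcases Nat.eq_zero_or_pos o with ho0 | ho0
  · exact absurd (ho 2 Nat.prime_two (by rw [ho0]; exact dvd_zero 2)) (not_lt.mpr hpp.two_le)
  obtain ⟨u, hu⟩ := IsUnit.of_pow_eq_one h ho0.ne'
  have h1 : u ^ o = 1 := Units.ext (by rw [Units.val_pow_eq_pow_val, hu, h, Units.val_one])
  have h2 : orderOf u ∣ o := orderOf_dvd_of_pow_eq_one h1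
  have h3 : orderOf u ∣ (p ^ a).totient := by
    have := orderOf_dvd_natCard u
    rwa [Nat.card_eq_fintype_card, ZMod.card_units_eq_totient] at this
  suffices orderOf u = 1 by rw [← hu, orderOf_eq_one_iff.mp this, Units.val_one]
  refine Nat.eq_one_of_dvd_coprimes ?_ h2 h3
  apply Nat.coprime_of_dvd
  intro q hq hqo hqt
  have hlt := ho q hq hqo
  rcases Nat.eq_zero_or_pos a with ha | ha
  · rw [ha, pow_zero, Nat.totient_one, Nat.dvd_one] at hqt
    exact hq.ne_one hqt
  rw [Nat.totient_prime_pow hpp ha] at hqt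
  rcases hq.dvd_mul.mp hqt with h' | h'
  · exact hlt.ne' (Nat.prime_dvd_prime_iff_eq hq hpp |>.mp (hq.dvd_of_dvd_pow h'))
  · exact absurd (Nat.le_of_dvd (Nat.sub_pos_of_lt hpp.one_lt) h') (by omega)

/-- An endomorphism of `p'`-order of a cyclic `p`-group is trivial when all primes of the order exceed `p`. -/
theorem end_cyclic_trivial [Fact p.Prime] {C : Type*} [Group C] [Finite C] [IsCyclic C] (a o : ℕ)
    (hC : Nat.card C = p ^ a) (ho : ∀ q : ℕ, q.Prime → q ∣ o → p < q) (f : C →* C)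
    (hf : ∀ x, f^[o] x = x) (x : C) : f x = x := by
  obtain ⟨g, hg⟩ := IsCyclic.exists_generator (α := C)
  obtain ⟨k, hk⟩ := Subgroup.mem_zpowers_iff.mp (hg (f g))
  have hit : ∀ j : ℕ, f^[j] g = g ^ (k ^ j) := by
    intro j
    induction j with
    | zero => simp
    | succ j ih => rw [Function.iterate_succ_apply', ih, map_zpow, ← hk, ← zpow_mul, pow_succ']
  have hord : orderOf g = p ^ a := (orderOf_eq_card_of_forall_mem_zpowers hg).trans hC
  have h1 : ((k : ZMod (p ^ a)) ^ o) = 1 := by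
    have h := (hit o).symm.trans (hf g)
    nth_rewrite 2 [← zpow_one g] at h
    rw [zpow_eq_zpow_iff_modEq, hord, ← ZMod.intCast_eq_intCast_iff] at h
    simpa using h
  have h2 := unit_trivial a o ho k h1
  have h3 : f g = g := by
    rw [← hk]
    nth_rewrite 2 [← zpow_one g]
    rw [zpow_eq_zpow_iff_modEq, hord, ← ZMod.intCast_eq_intCast_iff]
    simpa using h2
  obtain ⟨i, rfl⟩ := Subgroup.mem_zpowers_iff.mp (hg x)
  rw [map_zpow, h3]

/-- An element of order prime to the small primes centralises a cyclic invariant `p`-section. -/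
theorem conj_section_trivial [Finite G] [Fact p.Prime] {R V : Subgroup G} {n : G}
    (hn : ∀ r ∈ R, n * r * n⁻¹ ∈ R) (hnV : ∀ v ∈ V, n * v * n⁻¹ ∈ V) [hV : (V.subgroupOf R).Normal]
    [IsCyclic (↥R ⧸ V.subgroupOf R)] (a : ℕ) (ha : Nat.card (↥R ⧸ V.subgroupOf R) = p ^ a)
    (ho : ∀ q : ℕ, q.Prime → q ∣ orderOf n → p < q) {r : G} (hr : r ∈ R) :
    n * r * n⁻¹ * r⁻¹ ∈ V := by
  let c : ↥R →* ↥R :=
    { toFun := fun x => ⟨n * x * n⁻¹, hn x x.2⟩
      map_one' := Subtype.ext (by simp)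
      map_mul' := fun x y => Subtype.ext (by simp [mul_assoc]) }
  let f : ↥R ⧸ V.subgroupOf R →* ↥R ⧸ V.subgroupOf R :=
    QuotientGroup.map _ _ c (fun v hv => hnV v hv)
  have hit : ∀ (j : ℕ) (x : ↥R), f^[j] (QuotientGroup.mk x) = QuotientGroup.mk (c^[j] x) := by
    intro j x
    induction j with
    | zero => rfl
    | succ j ih => rw [Function.iterate_succ_apply', ih, Function.iterate_succ_apply']; rfl
  have hcit : ∀ (j : ℕ) (x : ↥R), ((c^[j] x : ↥R) : G) = n ^ j * x * (n ^ j)⁻¹ := by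
    intro j x
    induction j with
    | zero => simp
    | succ j ih =>
      rw [Function.iterate_succ_apply']
      show n * ((c^[j] x : ↥R) : G) * n⁻¹ = _
      rw [ih, pow_succ']
      group
  have hper : ∀ y, f^[orderOf n] y = y := by
    intro y
    induction y using QuotientGroup.induction_on with
    | H x =>
      rw [hit]
      exact congrArg QuotientGroup.mk (Subtype.ext (by rw [hcit, pow_orderOf_eq_one]; simp))
  have h := end_cyclic_trivial a _ ha ho f hper (QuotientGroup.mk (⟨r, hr⟩ : ↥R))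
  have h2 : QuotientGroup.mk (s := V.subgroupOf R) (c ⟨r, hr⟩) = QuotientGroup.mk ⟨r, hr⟩ := h
  rw [QuotientGroup.eq_iff_div_mem] at h2
  simpa [div_eq_mul_inv, c, Subgroup.mem_subgroupOf] using h2


/-- Let G be a finite group, p the smallest prime dividing |G| and P a Sylow p-subgroup. Suppose that P is cyclic, or that P has a subgroup D with 1 < |D| < |P| such that every subgroup E of P of order |D|, and also every subgroup E of P of order 4 when |D| = 2, satisfies g E g⁻¹ ∩ N_G(E) ≤ E for all g ∈ G (E is strongly closed in its normalizer with respect to G). Then G has a normal p-complement. -/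
theorem result {G : Type*} [Group G] [Finite G] {p : ℕ} [Fact p.Prime] (hdiv : p ∣ Nat.card G)
    (hmin : ∀ q : ℕ, q.Prime → q ∣ Nat.card G → p ≤ q) (P : Sylow p G)
    (h : IsCyclic ↥(P : Subgroup G) ∨ ∃ D : Subgroup G, D ≤ (P : Subgroup G) ∧ 1 < Nat.card D ∧ Nat.card D < Nat.card (P : Subgroup G) ∧
      ∀ E : Subgroup G, E ≤ (P : Subgroup G) → (Nat.card E = Nat.card D ∨ (Nat.card D = 2 ∧ Nat.card E = 4)) →
        ∀ g : G, E.map (MulAut.conj g).toMonoidHom ⊓ Subgroup.normalizer (E : Set G) ≤ E) :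
    Cfsg.HasNormalPComplement p G := by
  classical
  have hpp : p.Prime := Fact.out
  have hminFac : (Nat.card G).minFac = p :=
    le_antisymm (Nat.minFac_le_of_dvd hpp.two_le hdiv)
      (hmin _ (Nat.minFac_prime (fun h1 => hpp.ne_one (Nat.dvd_one.mp (h1 ▸ hdiv)))) (Nat.minFac_dvd _))
  rcases h with hc | ⟨D, hDP, hD1, hD2, hE⟩
  · exact Transfer.hasNormalPComplement_of_normalizer_le_centralizer P
      (IsCyclic.normalizer_le_centralizer hminFac hc)
  obtain ⟨d, hd⟩ := IsPGroup.iff_card.mp (P.isPGroup'.to_le hDP)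
  obtain ⟨m, hm⟩ := IsPGroup.iff_card.mp P.isPGroup'
  have hd1 : 1 ≤ d := by
    rcases Nat.eq_zero_or_pos d with h0 | h0
    · rw [hd, h0, pow_zero] at hD1; exact absurd hD1 (lt_irrefl 1)
    · exact h0
  have hdm : d < m := by rwa [hd, hm, Nat.pow_lt_pow_iff_right hpp.one_lt] at hD2
  -- the family
  let Fam : Subgroup G → Prop := fun E => E ≤ (P : Subgroup G) ∧ (Nat.card E = p ^ d ∨ (p ^ d = 2 ∧ Nat.card E = 4))
  have hE' : ∀ E, Fam E → ∀ g : G, E.map (MulAut.conj g).toMonoidHom ⊓ Subgroup.normalizer (E : Set G) ≤ E :=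
    fun E hE2 g => hE E hE2.1 (by rw [hd]; exact hE2.2) g
  have hPE : ∀ E, Fam E → (P : Subgroup G) ≤ Subgroup.normalizer (E : Set G) := by
    intro E hE2
    by_contra hne
    haveI := P.isPGroup'.isNilpotent
    let K : Subgroup ↥(P : Subgroup G) := (Subgroup.normalizer (E : Set G)).subgroupOf P
    have hK : K < ⊤ := lt_top_iff_ne_top.mpr fun h => hne (Subgroup.subgroupOf_eq_top.mp h)
    obtain ⟨x, hx, hxK⟩ := SetLike.exists_of_lt (Group.normalizerCondition_of_isNilpotent K hK)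
    apply hxK
    show (x : G) ∈ Subgroup.normalizer (E : Set G)
    apply Subgroup.mem_normalizer_fintype
    intro e he
    exact hE' E hE2 x ⟨Subgroup.mem_map_of_mem _ he,
      (Subgroup.mem_normalizer_iff.mp hx ⟨e, hE2.1 he⟩).mp (Subgroup.le_normalizer he)⟩
  have hfix : ∀ E, Fam E → ∀ (n x : G), x ∈ E → n * x * n⁻¹ ∈ (P : Subgroup G) → n * x * n⁻¹ ∈ E :=
    fun E hE2 n x hx hxP => hE' E hE2 n ⟨Subgroup.mem_map_of_mem _ hx, hPE E hE2 hxP⟩
  have hprimes : ∀ n : G, (orderOf n).Coprime p → ∀ q : ℕ, q.Prime → q ∣ orderOf n → p < q := by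
    intro n hn q hq hqn
    refine lt_of_le_of_ne (hmin q hq (hqn.trans (orderOf_dvd_natCard n))) ?_
    rintro rfl
    exact hq.ne_one (Nat.eq_one_of_dvd_coprimes hn hqn dvd_rfl)
  -- cyclic members are centralised
  have hcyc : ∀ (R : Subgroup G), R ≤ (P : Subgroup G) → ∀ n ∈ Subgroup.normalizer (R : Set G),
      (orderOf n).Coprime p → ∀ z ∈ R, (orderOf z = p ^ d ∨ (p ^ d = 2 ∧ orderOf z = 4)) → n * z * n⁻¹ = z := by
    intro R hR n hn hcop z hz hzo
    have hF : Fam (Subgroup.zpowers z) := ⟨Subgroup.zpowers_le.mpr (hR hz), by rwa [Nat.card_zpowers]⟩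
    have hnz : ∀ w ∈ Subgroup.zpowers z, n * w * n⁻¹ ∈ Subgroup.zpowers z := fun w hw =>
      hfix _ hF n w hw (hR ((Subgroup.mem_normalizer_iff.mp hn w).mp ((Subgroup.zpowers_le.mpr hz) hw)))
    haveI : ((⊥ : Subgroup G).subgroupOf (Subgroup.zpowers z)).Normal := Subgroup.normal_subgroupOf
    haveI : IsCyclic (↥(Subgroup.zpowers z) ⧸ (⊥ : Subgroup G).subgroupOf (Subgroup.zpowers z)) :=
      isCyclic_of_surjective (QuotientGroup.mk' _) (QuotientGroup.mk'_surjective _)
    obtain ⟨a, ha⟩ : ∃ a : ℕ, orderOf z = p ^ a := by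
      rcases hzo with h | ⟨h2, h⟩
      · exact ⟨d, h⟩
      · refine ⟨2 * d, ?_⟩
        rw [h, mul_comm, pow_mul, h2]
        norm_num
    have hcard : Nat.card (↥(Subgroup.zpowers z) ⧸ (⊥ : Subgroup G).subgroupOf (Subgroup.zpowers z)) = p ^ a := by
      rw [← Subgroup.index_eq_card, ← Subgroup.relIndex, Subgroup.relIndex_bot_left, Nat.card_zpowers, ha]
    have h := conj_section_trivial hnz (V := ⊥) (by intro v hv; rw [Subgroup.mem_bot.mp hv]; simp) a hcard
      (hprimes n hcop) (Subgroup.mem_zpowers z)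
    exact mul_inv_eq_one.mp (Subgroup.mem_bot.mp h)
  -- the Frattini subgroup of `P`
  set Φ : Subgroup G := (frattini ↥(P : Subgroup G)).map (P : Subgroup G).subtype with hΦdef
  have hΦP : Φ ≤ (P : Subgroup G) := Subgroup.map_subtype_le _
  have hΦn : ∀ x ∈ (P : Subgroup G), ∀ y ∈ Φ, x * y * x⁻¹ ∈ Φ := by
    rintro x hx _ ⟨y, hy, rfl⟩
    exact ⟨_, (inferInstance : (frattini ↥(P : Subgroup G)).Normal).conj_mem y hy ⟨x, hx⟩, rfl⟩
  have hΦc : ∀ x ∈ (P : Subgroup G), ∀ y ∈ (P : Subgroup G), x * y * x⁻¹ * y⁻¹ ∈ Φ := fun x hx y hy =>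
    ⟨_, PGroup.commutatorElement_mem_frattini P.isPGroup' ⟨x, hx⟩ ⟨y, hy⟩, rfl⟩
  -- subgroups of small exponent
  have small : ∀ R : Subgroup G, R ≤ (P : Subgroup G) → ∀ n ∈ Subgroup.normalizer (R : Set G),
      (orderOf n).Coprime p → (∀ x ∈ R, x ^ p ^ d = 1) → ∀ r ∈ R, n * r * n⁻¹ * r⁻¹ ∈ Φ := by
    intro R hR n hn hcop hexp r hr
    have hnR : ∀ s ∈ R, n * s * n⁻¹ ∈ R := fun s hs => (Subgroup.mem_normalizer_iff.mp hn s).mp hs
    have hcP : n * r * n⁻¹ * r⁻¹ ∈ (P : Subgroup G) := hR (R.mul_mem (hnR r hr) (R.inv_mem hr))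
    suffices hM : ∀ M : Subgroup ↥(P : Subgroup G), IsCoatom M →
        (⟨_, hcP⟩ : ↥(P : Subgroup G)) ∈ M from ⟨⟨_, hcP⟩, PGroup.le_frattini (K := Subgroup.zpowers _)
          (fun M hM' => Subgroup.zpowers_le.mpr (hM M hM')) (Subgroup.mem_zpowers _), rfl⟩
    intro M hM
    haveI hMn : M.Normal := PGroup.isCoatom_normal P.isPGroup' hM
    set M' : Subgroup G := M.map (P : Subgroup G).subtype with hM'
    have hcardM : p ^ d ∣ Nat.card M := by
      have h1 := M.card_mul_index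
      rw [PGroup.isCoatom_index P.isPGroup' hM, hm] at h1
      obtain ⟨j, rfl⟩ : ∃ j, m = j + 1 := ⟨m - 1, by omega⟩
      rw [pow_succ] at h1
      rw [Nat.eq_of_mul_eq_mul_right hpp.pos h1]
      exact pow_dvd_pow p (by omega)
    -- `R ⊓ M'` is invariant
    have hinv : ∀ v ∈ R ⊓ M', n * v * n⁻¹ ∈ R ⊓ M' := by
      rintro v ⟨hvR, ⟨w, hw, rfl⟩⟩
      refine ⟨hnR _ hvR, ?_⟩
      obtain ⟨k, hk⟩ := IsPGroup.iff_card.mp ((P.isPGroup'.to_subgroup M).to_subgroup (Subgroup.zpowers (⟨w, hw⟩ : ↥M)))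
      have hkd : k ≤ d := by
        have h1 : orderOf (⟨w, hw⟩ : ↥M) ∣ p ^ d := orderOf_dvd_of_pow_eq_one (by
          apply Subtype.ext; apply Subtype.ext; exact hexp _ hvR)
        rw [← Nat.card_zpowers, hk] at h1
        exact (Nat.pow_dvd_pow_iff_le_right hpp.one_lt).mp h1
      obtain ⟨E, hE1, hE2⟩ := Sylow.exists_subgroup_card_pow_prime_le (G := ↥M) p hcardM _ hk hkd
      let E' : Subgroup G := (E.map M.subtype).map (P : Subgroup G).subtype
      have hF : Fam E' := by
        refine ⟨Subgroup.map_subtype_le _, Or.inl ?_⟩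
        rw [← hE1, Subgroup.card_map_of_injective (P : Subgroup G).subtype_injective,
          Subgroup.card_map_of_injective M.subtype_injective]
      exact Subgroup.map_mono (Subgroup.map_subtype_le E)
        (hfix E' hF n w ⟨w, ⟨⟨w, hw⟩, hE2 (Subgroup.mem_zpowers _), rfl⟩, rfl⟩ (hR (hnR _ hvR)))
    by_cases hRM : R ≤ M'
    · obtain ⟨w, hw, hwe⟩ := hRM (R.mul_mem (hnR r hr) (R.inv_mem hr))
      exact (Subtype.ext hwe : w = ⟨_, hcP⟩) ▸ hw
    haveI hVn : ((R ⊓ M').subgroupOf R).Normal := by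
      constructor
      intro v hv g
      refine ⟨R.mul_mem (R.mul_mem g.2 v.2) (R.inv_mem g.2), ?_⟩
      obtain ⟨w, hw, hwv⟩ := hv.2
      refine ⟨⟨g, hR g.2⟩ * w * ⟨g, hR g.2⟩⁻¹, hMn.conj_mem w hw _, ?_⟩
      simp [show (w : G) = (v : G) from hwv]
    have hidx : ((R ⊓ M').subgroupOf R).index = p := by
      have h1 : ((R ⊓ M').subgroupOf R).index ∣ p := by
        rw [← Subgroup.relIndex, Subgroup.inf_relIndex_left]
        have h2 : M'.relIndex R ∣ M'.relIndex (P : Subgroup G) := by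
          rw [Subgroup.relIndex, Subgroup.relIndex]
          haveI : (M'.subgroupOf (P : Subgroup G)).Normal := by
            rw [hM', Subgroup.subgroupOf, Subgroup.comap_map_eq_self_of_injective (P : Subgroup G).subtype_injective]
            exact hMn
          have h3 := Subgroup.relIndex_dvd_index_of_normal (M'.subgroupOf (P : Subgroup G)) (R.subgroupOf (P : Subgroup G))
          rwa [Subgroup.relIndex_subgroupOf hR, Subgroup.relIndex] at h3
        refine h2.trans (dvd_of_eq ?_)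
        rw [Subgroup.relIndex, hM', Subgroup.subgroupOf,
          Subgroup.comap_map_eq_self_of_injective (P : Subgroup G).subtype_injective,
          PGroup.isCoatom_index P.isPGroup' hM]
      refine (hpp.eq_one_or_self_of_dvd _ h1).resolve_left fun h => hRM ?_
      exact (Subgroup.subgroupOf_eq_top.mp (Subgroup.index_eq_one.mp h)).trans inf_le_right
    have hcardQ : Nat.card (↥R ⧸ (R ⊓ M').subgroupOf R) = p ^ 1 := by
      rw [← Subgroup.index_eq_card, hidx, pow_one]
    haveI : IsCyclic (↥R ⧸ (R ⊓ M').subgroupOf R) := isCyclic_of_prime_card (p := p) (by rw [hcardQ, pow_one])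
    obtain ⟨w, hw, hwe⟩ := (conj_section_trivial hnR hinv 1 hcardQ (hprimes n hcop) hr).2
    exact (Subtype.ext hwe : w = ⟨_, hcP⟩) ▸ hw
  -- the general case
  have key : ∀ R : Subgroup G, R ≤ (P : Subgroup G) → ∀ n ∈ Subgroup.normalizer (R : Set G),
      (orderOf n).Coprime p → ∀ r ∈ R, n * r * n⁻¹ * r⁻¹ ∈ Φ := by
    intro R hR n hn hcop r hr
    set A := Subgroup.zpowers n
    have hAR : A ≤ Subgroup.normalizer (R : Set G) := Subgroup.zpowers_le.mpr hn
    obtain ⟨k, hk⟩ := IsPGroup.iff_card.mp (P.isPGroup'.to_le hR)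
    have hcopA : (Nat.card A).Coprime (Nat.card R) := by
      rw [Nat.card_zpowers, hk]; exact hcop.pow_right k
    have hsolv : Group.IsSolvable A ∨ Group.IsSolvable R :=
      Or.inr (by haveI := (P.isPGroup'.to_le hR).isNilpotent; infer_instance)
    set S := ⁅R, A⁆ with hSdef
    have hSR : S ≤ R := Coprime.commutator_le_left' hAR
    have hnS : n ∈ Subgroup.normalizer (S : Set G) :=
      Subgroup.normalizer_commutator_ge_right R A (Subgroup.mem_zpowers n)
    suffices hS : ∀ s ∈ S, n * s * n⁻¹ * s⁻¹ ∈ Φ by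
      have hm' : r ∈ S ⊔ (R ⊓ Subgroup.centralizer (A : Set G)) :=
        (Coprime.commutator_sup_centralizer hAR hcopA hsolv).symm ▸ hr
      rw [← SetLike.mem_coe, Subgroup.coe_mul_of_right_le_normalizer_left _ _
        (inf_le_left.trans (Subgroup.normalizer_commutator_ge_left R A))] at hm'
      obtain ⟨s, hs, c, hc, rfl⟩ := Set.mem_mul.mp hm'
      have hnc : n * c * n⁻¹ = c := by
        rw [hc.2 n (Subgroup.mem_zpowers n)]; group
      rw [show n * (s * c) * n⁻¹ * (s * c)⁻¹ = n * s * n⁻¹ * (n * c * n⁻¹) * c⁻¹ * s⁻¹ by group, hnc,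
        show n * s * n⁻¹ * c * c⁻¹ * s⁻¹ = n * s * n⁻¹ * s⁻¹ by group]
      exact hS s hs
    by_cases hexp : ∀ x ∈ S, x ^ p ^ d = 1
    · exact small S (hSR.trans hR) n hnS hcop hexp
    push_neg at hexp
    obtain ⟨x, hxS, hx⟩ := hexp
    obtain ⟨b, hb⟩ := IsPGroup.iff_orderOf.mp (P.isPGroup'.to_le (hSR.trans hR)) ⟨x, hxS⟩
    rw [Subgroup.orderOf_mk] at hb
    have hbd : d < b := by
      by_contra h
      apply hx
      exact orderOf_dvd_iff_pow_eq_one.mp (hb ▸ pow_dvd_pow p (not_lt.mp h))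
    set z := x ^ p ^ (b - d) with hz
    have hzo : orderOf z = p ^ d := by
      rw [hz, orderOf_pow_of_dvd (pow_ne_zero _ hpp.ne_zero) (hb ▸ pow_dvd_pow p (Nat.sub_le b d)), hb,
        Nat.pow_div (Nat.sub_le b d) hpp.pos, Nat.sub_sub_self hbd.le]
    have hzS : z ∈ S := S.pow_mem hxS _
    have hzfix : n * z * n⁻¹ = z := hcyc S (hSR.trans hR) n hnS hcop z hzS (Or.inl hzo)
    have hAz : ∀ a ∈ A, a * z * a⁻¹ = z := by
      have : A ≤ Subgroup.centralizer ({z} : Set G) := Subgroup.zpowers_le.mpr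
        (Subgroup.mem_centralizer_singleton_iff.mpr (mul_inv_eq_iff_eq_mul.mp hzfix))
      intro a ha
      rw [Subgroup.mem_centralizer_singleton_iff.mp (this ha)]
      group
    -- `S` centralises `z`
    have hFz : Fam (Subgroup.zpowers z) :=
      ⟨Subgroup.zpowers_le.mpr (hR (hSR hzS)), Or.inl (by rw [Nat.card_zpowers, hzo])⟩
    have hSz : S ≤ Subgroup.centralizer ({z} : Set G) := by
      rw [hSdef, Subgroup.commutator_le]
      intro u hu a ha
      have hw : u⁻¹ * z * u ∈ Subgroup.zpowers z :=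
        (Subgroup.mem_normalizer_iff''.mp (hPE _ hFz (hR hu)) z).mp (Subgroup.mem_zpowers z)
      obtain ⟨i, hi⟩ := Subgroup.mem_zpowers_iff.mp hw
      have hfixw : a * (u⁻¹ * z * u) * a⁻¹ = u⁻¹ * z * u := by
        rw [← hi, ← conj_zpow, hAz a ha]
      have h1 : a⁻¹ * z * a = z := by simpa using hAz a⁻¹ (A.inv_mem ha)
      rw [Subgroup.mem_centralizer_singleton_iff, commutatorElement_def]
      calc u * a * u⁻¹ * a⁻¹ * z = u * a * u⁻¹ * (a⁻¹ * z * a) * a⁻¹ := by group
        _ = u * a * u⁻¹ * z * a⁻¹ := by rw [h1]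
        _ = u * (a * (u⁻¹ * z * u) * a⁻¹) * (a * u⁻¹ * a⁻¹) := by group
        _ = u * (u⁻¹ * z * u) * (a * u⁻¹ * a⁻¹) := by rw [hfixw]
        _ = z * (u * a * u⁻¹ * a⁻¹) := by group
    -- small elements are centralised
    have hsmall : ∀ s ∈ S, FusionChain.IsSmall p s → n * s * n⁻¹ = s := by
      intro s hs hsm
      have hcyc' := hcyc S (hSR.trans hR) n hnS hcop
      obtain ⟨j, hj⟩ := IsPGroup.iff_orderOf.mp (P.isPGroup'.to_le (hSR.trans hR)) ⟨s, hs⟩
      rw [Subgroup.orderOf_mk] at hj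
      by_cases hjd : j < d
      · have hcomm : Commute s z := Commute.symm (show Commute z s from
          (Subgroup.mem_centralizer_singleton_iff.mp (hSz hs)).symm)
        have hso : s ^ p ^ (d - 1) = 1 := orderOf_dvd_iff_pow_eq_one.mp (hj ▸ pow_dvd_pow p (by omega))
        have hsz : orderOf (s * z) = p ^ d := by
          obtain ⟨e, rfl⟩ : ∃ e, d = e + 1 := ⟨d - 1, by omega⟩
          simp only [add_tsub_cancel_right] at hso
          refine orderOf_eq_prime_pow ?_ ?_
          · rw [hcomm.mul_pow, hso, one_mul]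
            intro h
            have := orderOf_dvd_of_pow_eq_one h
            rw [hzo] at this
            exact absurd ((Nat.pow_dvd_pow_iff_le_right hpp.one_lt).mp this) (by omega)
          · have hzp : z ^ p ^ (e + 1) = 1 := orderOf_dvd_iff_pow_eq_one.mp hzo.dvd
            rw [hcomm.mul_pow, hzp, mul_one, pow_succ p e, pow_mul, hso, one_pow]
        have h1 := hcyc' _ (S.mul_mem hs hzS) (Or.inl hsz)
        rw [show n * (s * z) * n⁻¹ = (n * s * n⁻¹) * (n * z * n⁻¹) by group, hzfix] at h1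
        exact mul_right_cancel h1
      · refine hcyc' s hs ?_
        have hdvd : ∀ c, s ^ p ^ c = 1 → j ≤ c := fun c hc =>
          (Nat.pow_dvd_pow_iff_le_right hpp.one_lt).mp (hj ▸ orderOf_dvd_of_pow_eq_one hc)
        rcases hsm with h | ⟨h2, h⟩
        · have := hdvd 1 (by rwa [pow_one])
          exact Or.inl (by rw [hj]; congr 1; omega)
        · subst h2
          have := hdvd 2 (by norm_num; exact h)
          rcases Nat.lt_or_ge d j with hlt | hge
          · exact Or.inr ⟨by rw [show d = 1 by omega]; norm_num, by rw [hj, show j = 2 by omega]; norm_num⟩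
          · exact Or.inl (by rw [hj]; congr 1; omega)
    -- so `n` centralises `S`
    let β : MulAut ↥S := S.normalizerMonoidHom ⟨n, hnS⟩
    have hβ : β = 1 := by
      refine FusionChain.eq_one_of_fixes_small (P.isPGroup'.to_le (hSR.trans hR)) β ?_ ?_
      · refine Nat.Coprime.coprime_dvd_left ?_ hcop
        have := orderOf_map_dvd S.normalizerMonoidHom (⟨n, hnS⟩ : Subgroup.normalizer (S : Set G))
        rwa [Subgroup.orderOf_mk] at this
      · intro y hy
        exact Subtype.ext (hsmall y y.2 (hy.map S.subtype))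
    intro s hs
    have h1 : n * s * n⁻¹ = s := congrArg Subtype.val (MulEquiv.congr_fun hβ ⟨s, hs⟩)
    rw [h1, mul_inv_cancel]
    exact Φ.one_mem
  -- fusion moves elements only inside cosets of `Φ`
  have hfusion : ∀ (Q : Subgroup G) (g : G), Q ≤ (P : Subgroup G) →
      Q.map (MulAut.conj g).toMonoidHom ≤ (P : Subgroup G) → ∀ q ∈ Q, g * q * g⁻¹ * q⁻¹ ∈ Φ := by
    intro Q g hQ hg
    refine Transfer.fusion_induction P (fun Q g => ∀ q ∈ Q, g * q * g⁻¹ * q⁻¹ ∈ Φ) ?_ ?_ hQ hg
    · intro Q R hQR hR n hn q hq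
      set N := Subgroup.normalizer (R : Set G)
      let W : Subgroup ↥N :=
        { carrier := {c | ∀ x ∈ R, (c : G) * x * (c : G)⁻¹ * x⁻¹ ∈ Φ}
          one_mem' := fun x _ => by simp
          mul_mem' := by
            intro a b ha hb x hx
            have h2 : (b : G) * x * (b : G)⁻¹ ∈ R := (Subgroup.mem_normalizer_iff.mp b.2 x).mp hx
            rw [show ((a * b : ↥N) : G) * x * ((a * b : ↥N) : G)⁻¹ * x⁻¹ =
              ((a : G) * ((b : G) * x * (b : G)⁻¹) * (a : G)⁻¹ * ((b : G) * x * (b : G)⁻¹)⁻¹) *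
                ((b : G) * x * (b : G)⁻¹ * x⁻¹) by simp only [Subgroup.coe_mul]; group]
            exact Φ.mul_mem (ha _ h2) (hb x hx)
          inv_mem' := by
            intro a ha x hx
            have h2 : (a : G)⁻¹ * x * (a : G) ∈ R := (Subgroup.mem_normalizer_iff''.mp a.2 x).mp hx
            have h3 := Φ.inv_mem (ha _ h2)
            rw [show ((a⁻¹ : ↥N) : G) * x * ((a⁻¹ : ↥N) : G)⁻¹ * x⁻¹ =
              ((a : G) * ((a : G)⁻¹ * x * (a : G)) * (a : G)⁻¹ * ((a : G)⁻¹ * x * (a : G))⁻¹)⁻¹ by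
                simp only [Subgroup.coe_inv]; group]
            exact h3 }
      have hW : (⟨n, hn⟩ : ↥N) ∈ W := by
        have h1 : ((P : Subgroup G) ⊓ N).subgroupOf N ⊔ Cfsg.pResidual p ↥N ≤ W := by
          refine sup_le ?_ ((Subgroup.closure_le _).mpr ?_)
          · intro c hc x hx
            exact hΦc c hc.1 x (hR.1 hx)
          · intro c hc x hx
            exact key R hR.1 c c.2 (by rwa [Subgroup.orderOf_coe]) x hx
        exact h1 ((Transfer.sup_pResidual_eq_top (show ¬ p ∣ (((P : Subgroup G) ⊓ N).subgroupOf N).index from hR.2)).symm ▸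
          Subgroup.mem_top _)
      exact hW q (hQR hq)
    · intro Q a b ha hb q hq
      have h2 := hb (a * q * a⁻¹) ⟨q, hq, rfl⟩
      rw [show b * a * q * (b * a)⁻¹ * q⁻¹ =
        (b * (a * q * a⁻¹) * b⁻¹ * (a * q * a⁻¹)⁻¹) * (a * q * a⁻¹ * q⁻¹) by group]
      exact Φ.mul_mem h2 (ha q hq)
  obtain ⟨N, hNn, hNP, hNsup⟩ :=
    Transfer.exists_normal_focal_complement (P : Subgroup G) (Transfer.coprime_index_relIndex_sylow P)
  have hfoc : N ⊓ (P : Subgroup G) ≤ Φ := by
    rw [hNP, ← Transfer.focalSubgroup_eq_of_coprime (P : Subgroup G) (Transfer.coprime_index_relIndex_sylow P),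
      Subgroup.focalSubgroup_def, Subgroup.closure_le]
    rintro _ ⟨hgP, x, hx, u, rfl⟩
    rw [commutatorElement_def] at hgP ⊢
    have hu : u * x⁻¹ * u⁻¹ ∈ (P : Subgroup G) := by
      have := (P : Subgroup G).mul_mem ((P : Subgroup G).inv_mem hx) hgP
      simpa [mul_assoc] using this
    have h2 := hfusion (Subgroup.zpowers x⁻¹) u (Subgroup.zpowers_le.mpr ((P : Subgroup G).inv_mem hx))
      (by rw [MonoidHom.map_zpowers]; exact Subgroup.zpowers_le.mpr hu) x⁻¹ (Subgroup.mem_zpowers _)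
    have h3 := hΦn x hx _ h2
    show x * u * x⁻¹ * u⁻¹ ∈ Φ
    rwa [show x * (u * x⁻¹ * u⁻¹ * x⁻¹⁻¹) * x⁻¹ = x * u * x⁻¹ * u⁻¹ by group] at h3
  haveI := hNn
  obtain ⟨c, hc⟩ : ∃ c, N.index = p ^ c := by
    have h1 : N.relIndex (P : Subgroup G) = N.index := by
      rw [← Subgroup.relIndex_sup_left (K := N) (H := (P : Subgroup G)), hNsup, Subgroup.relIndex_top_right]
    have h2 : N.relIndex (P : Subgroup G) ∣ p ^ m := hm ▸ (N.subgroupOf (P : Subgroup G)).index_dvd_card
    obtain ⟨c, -, hc⟩ := (Nat.dvd_prime_pow hpp).mp h2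
    exact ⟨c, h1 ▸ hc⟩
  exact Transfer.hasNormalPComplement_of_normal hc (Transfer.frattini_hasNormalPComplement P N hfoc)

end Cfsg.Agent.S3031
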