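import Cfsg.Statements.S3032
import Cfsg.Agent.S3031
import Cfsg.Agent.Lib.Coprime.Frattini
import Cfsg.Agent.Lib.Cores.Basic
import Cfsg.Agent.Lib.Solvable.Supersolvable
import Cfsg.Agent.Lib.Solvable.Basic

set_option autoImplicit false
open Cfsg

namespace Cfsg.Agent.S3032

open scoped commutatorElement

universe u

/-- Generated by the `(p - 1)`-th powers and the commutators. -/
def expSub (p : ℕ) (G : Type*) [Group G] : Subgroup G :=
  Subgroup.closure ({x | ∃ g : G, g ^ (p - 1) = x} ∪ {x | ∃ a b : G, ⁅a, b⁆ = x})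

/-- `G` acts on `E` like an abelian group of exponent `p - 1` extended by a `p`-group. -/
def Emb (p : ℕ) {G : Type*} [Group G] (E : Subgroup G) : Prop :=
  ∀ n ∈ expSub p G, (orderOf n).Coprime p → n ∈ Subgroup.centralizer (E : Set G)

theorem expSub_le_map {G H : Type*} [Group G] [Group H] (p : ℕ) (f : G →* H) (hf : Function.Surjective f) :
    expSub p H ≤ (expSub p G).map f := by
  refine (Subgroup.closure_le _).mpr ?_
  rintro x (⟨g, rfl⟩ | ⟨a, b, rfl⟩)
  · obtain ⟨g', rfl⟩ := hf g
    exact ⟨g' ^ (p - 1), Subgroup.subset_closure (Or.inl ⟨g', rfl⟩), map_pow f g' _⟩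
  · obtain ⟨a', rfl⟩ := hf a
    obtain ⟨b', rfl⟩ := hf b
    exact ⟨⁅a', b'⁆, Subgroup.subset_closure (Or.inr ⟨a', b', rfl⟩), map_commutatorElement f a' b'⟩

theorem exists_lift {G H : Type*} [Group G] [Finite G] [Group H] (p : ℕ) [Fact p.Prime] (f : G →* H)
    (hf : Function.Surjective f) {n : H} (hn : n ∈ expSub p H) (hcop : (orderOf n).Coprime p) :
    ∃ y ∈ expSub p G, (orderOf y).Coprime p ∧ f y = n := by
  obtain ⟨x, hx, rfl⟩ := expSub_le_map p f hf hn
  obtain ⟨a, b, hb, hab⟩ := Nat.exists_eq_pow_mul_and_not_dvd (orderOf_pos x).ne' p (Fact.out : p.Prime).ne_one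
  obtain ⟨m, hm⟩ := exists_pow_eq_self_of_coprime (hcop.symm.pow_left a)
  refine ⟨(x ^ p ^ a) ^ m, Subgroup.pow_mem _ (Subgroup.pow_mem _ hx _) _, ?_, by rw [map_pow, map_pow, hm]⟩
  refine Nat.Coprime.coprime_dvd_left (orderOf_pow_dvd _) ?_
  refine Nat.Coprime.coprime_dvd_left (orderOf_dvd_of_pow_eq_one ?_) (((Fact.out : p.Prime).coprime_iff_not_dvd.mpr hb).symm)
  rw [← pow_mul, ← hab, pow_orderOf_eq_one]

theorem emb_map {G H : Type*} [Group G] [Finite G] [Group H] {p : ℕ} [Fact p.Prime] {E : Subgroup G}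
    (h : Emb p E) (f : G →* H) (hf : Function.Surjective f) : Emb p (E.map f) := by
  intro n hn hcop
  obtain ⟨y, hy, hyc, rfl⟩ := exists_lift p f hf hn hcop
  rintro _ ⟨e, he, rfl⟩
  rw [← map_mul, ← map_mul]
  exact congrArg f (h y hy hyc e he)

variable {G : Type u} [Group G] [Finite G] {p : ℕ} [Fact p.Prime]

theorem cyclic_fixed {Z : Subgroup G} [Z.Normal] [IsCyclic Z] (hZ : IsPGroup p Z) : Emb p Z := by
  intro n hn hcop
  have hpp : p.Prime := Fact.out
  obtain ⟨a, ha⟩ := IsPGroup.iff_card.mp hZ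
  let e := IsCyclic.mulAutMulEquiv ↥Z
  let ψ : G →* (ZMod (Nat.card ↥Z))ˣ := e.toMonoidHom.comp MulAut.conjNormal
  haveI : NeZero (Nat.card ↥Z) := ⟨Nat.card_pos.ne'⟩
  have hexp : ∀ u : (ZMod (Nat.card ↥Z))ˣ, u ^ ((p - 1) * p ^ a) = 1 := by
    intro u
    refine orderOf_dvd_iff_pow_eq_one.mp ((orderOf_dvd_natCard u).trans ?_)
    rw [Nat.card_eq_fintype_card, ZMod.card_units_eq_totient, ha]
    rcases Nat.eq_zero_or_pos a with h0 | h0
    · rw [h0, pow_zero, Nat.totient_one]; exact one_dvd _
    · rw [Nat.totient_prime_pow hpp h0, mul_comm]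
      exact mul_dvd_mul_left _ (pow_dvd_pow p (Nat.sub_le a 1))
  have hle : expSub p G ≤ (powMonoidHom (p ^ a) : (ZMod (Nat.card ↥Z))ˣ →* _).ker.comap ψ := by
    refine (Subgroup.closure_le _).mpr ?_
    rintro x (⟨g, rfl⟩ | ⟨g, g', rfl⟩)
    · show ψ (g ^ (p - 1)) ^ p ^ a = 1
      rw [map_pow, ← pow_mul, hexp]
    · show ψ ⁅g, g'⁆ ^ p ^ a = 1
      rw [map_commutatorElement, commutatorElement_eq_one_iff_mul_comm.mpr (mul_comm _ _), one_pow]
  have h1 : ψ n ^ p ^ a = 1 := hle hn
  have h2 : ψ n = 1 := orderOf_eq_one_iff.mp (Nat.eq_one_of_dvd_coprimes (hcop.pow_right a)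
    (orderOf_map_dvd ψ n) (orderOf_dvd_of_pow_eq_one h1))
  have h3 : MulAut.conjNormal (H := Z) n = 1 := e.injective (h2.trans (map_one e).symm)
  intro z hz
  have h4 : n * z * n⁻¹ = z := by
    rw [← MulAut.conjNormal_apply (H := Z) n ⟨z, hz⟩, h3]
    rfl
  calc z * n = n * z * n⁻¹ * n := by rw [h4]
    _ = n * z := by group

/-- In a `p`-group with a well placed family of normal subgroups every `p'`-element of `expSub` acts trivially. -/
theorem emb_of_family (E : Subgroup G) [hEn : E.Normal] (hE : IsPGroup p E) {d : ℕ} (hd : 1 ≤ d)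
    (hdE : p ^ d < Nat.card E)
    (hF : ∀ F : Subgroup G, F ≤ E → (Nat.card F = p ^ d ∨ (p ^ d = 2 ∧ Nat.card F = 4)) → F.Normal) :
    Emb p E := by
  classical
  have hpp : p.Prime := Fact.out
  obtain ⟨m, hm⟩ := IsPGroup.iff_card.mp hE
  have hdm : d < m := by rwa [hm, Nat.pow_lt_pow_iff_right hpp.one_lt] at hdE
  intro n hn hcop
  set A := Subgroup.zpowers n
  have hAX : A ≤ expSub p G := Subgroup.zpowers_le.mpr hn
  have hAE : A ≤ Subgroup.normalizer (E : Set G) := Subgroup.le_normalizer_of_normal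
  have hAcop : (Nat.card A).Coprime p := by rw [Nat.card_zpowers]; exact hcop
  have hcopE : (Nat.card A).Coprime (Nat.card E) := by rw [hm]; exact hAcop.pow_right m
  suffices hAC : A ≤ Subgroup.centralizer (E : Set G) from hAC (Subgroup.mem_zpowers n)
  by_cases hexp : ∀ x ∈ E, x ^ p ^ d = 1
  · refine Coprime.le_centralizer_of_forall_mem_frattini hAE
      (hcopE.coprime_dvd_right (Subgroup.card_subgroup_dvd_card _)) ?_
    intro a ha r hr
    have hac : (orderOf a).Coprime p := hAcop.coprime_dvd_left (Subgroup.orderOf_dvd_natCard A ha)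
    have hcE : a * r * a⁻¹ * r⁻¹ ∈ E := E.mul_mem (hEn.conj_mem r hr a) (E.inv_mem hr)
    suffices hM : ∀ M : Subgroup ↥E, IsCoatom M → (⟨_, hcE⟩ : ↥E) ∈ M from
      ⟨⟨_, hcE⟩, PGroup.le_frattini (K := Subgroup.zpowers _)
        (fun M hM' => Subgroup.zpowers_le.mpr (hM M hM')) (Subgroup.mem_zpowers _), rfl⟩
    intro M hM
    set M' : Subgroup G := M.map E.subtype with hM'
    have hcardM : p ^ d ∣ Nat.card M := by
      have h1 := M.card_mul_index
      rw [PGroup.isCoatom_index hE hM, hm] at h1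
      obtain ⟨j, rfl⟩ : ∃ j, m = j + 1 := ⟨m - 1, by omega⟩
      rw [pow_succ] at h1
      rw [Nat.eq_of_mul_eq_mul_right hpp.pos h1]
      exact pow_dvd_pow p (by omega)
    haveI hM'n : M'.Normal := by
      constructor
      rintro _ ⟨w, hw, rfl⟩ g
      obtain ⟨k, hk⟩ := IsPGroup.iff_card.mp ((hE.to_subgroup M).to_subgroup (Subgroup.zpowers (⟨w, hw⟩ : ↥M)))
      have hkd : k ≤ d := by
        have h1 : orderOf (⟨w, hw⟩ : ↥M) ∣ p ^ d := orderOf_dvd_of_pow_eq_one (by
          apply Subtype.ext; apply Subtype.ext; exact hexp _ w.2)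
        rw [← Nat.card_zpowers, hk] at h1
        exact (Nat.pow_dvd_pow_iff_le_right hpp.one_lt).mp h1
      obtain ⟨F, hF1, hF2⟩ := Sylow.exists_subgroup_card_pow_prime_le (G := ↥M) p hcardM _ hk hkd
      let F' : Subgroup G := (F.map M.subtype).map E.subtype
      have hFn : F'.Normal := hF F' (Subgroup.map_subtype_le _) (Or.inl (by
        rw [← hF1, Subgroup.card_map_of_injective E.subtype_injective,
          Subgroup.card_map_of_injective M.subtype_injective]))
      exact Subgroup.map_mono (Subgroup.map_subtype_le F)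
        (hFn.conj_mem _ ⟨w, ⟨⟨w, hw⟩, hF2 (Subgroup.mem_zpowers _), rfl⟩, rfl⟩ g)
    let π := QuotientGroup.mk' M'
    haveI : (E.map π).Normal := hEn.map π (QuotientGroup.mk'_surjective M')
    have hcardQ : Nat.card ↥(E.map π) = p := by
      have h1 := M'.card_mul_index
      have h2 : Nat.card ↥(E.map π) = M'.relIndex E := by
        rw [← Subgroup.relIndex_bot_left, ← QuotientGroup.map_mk'_self M',
          Subgroup.relIndex_map_map, QuotientGroup.ker_mk', sup_idem, sup_eq_left.mpr (Subgroup.map_subtype_le M)]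
      rw [h2, hM', Subgroup.relIndex, Subgroup.subgroupOf, Subgroup.comap_map_eq_self_of_injective E.subtype_injective,
        PGroup.isCoatom_index hE hM]
    haveI : IsCyclic ↥(E.map π) := isCyclic_of_prime_card hcardQ
    have hπn : π a ∈ expSub p (G ⧸ M') := by
      have hmap : (expSub p G).map π ≤ expSub p (G ⧸ M') := by
        rw [expSub, MonoidHom.map_closure, Subgroup.closure_le]
        rintro _ ⟨x, ⟨g, rfl⟩ | ⟨g, g', rfl⟩, rfl⟩
        · exact Subgroup.subset_closure (Or.inl ⟨π g, (map_pow π g _).symm⟩)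
        · exact Subgroup.subset_closure (Or.inr ⟨π g, π g', (map_commutatorElement π g g').symm⟩)
      exact hmap (Subgroup.mem_map_of_mem _ (hAX ha))
    have h3 := cyclic_fixed (Z := E.map π) (IsPGroup.of_card (n := 1) (by rw [hcardQ, pow_one])) (π a) hπn
      (hac.coprime_dvd_left (orderOf_map_dvd π a)) (π r) (Subgroup.mem_map_of_mem _ hr)
    have h4 : π (a * r * a⁻¹ * r⁻¹) = 1 := by
      rw [map_mul, map_mul, map_mul, map_inv, map_inv, ← h3]
      group
    obtain ⟨w, hw, hwe⟩ : a * r * a⁻¹ * r⁻¹ ∈ M' := (QuotientGroup.eq_one_iff _).mp h4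
    exact (Subtype.ext hwe : w = ⟨_, hcE⟩) ▸ hw
  · push_neg at hexp
    obtain ⟨x, hxE, hx⟩ := hexp
    have hcyc : ∀ z ∈ E, (orderOf z = p ^ d ∨ (p ^ d = 2 ∧ orderOf z = 4)) →
        A ≤ Subgroup.centralizer ({z} : Set G) ∧ (Subgroup.zpowers z).Normal := by
      intro z hz hzo
      haveI hN : (Subgroup.zpowers z).Normal := hF _ (Subgroup.zpowers_le.mpr hz) (by rwa [Nat.card_zpowers])
      refine ⟨fun a ha => ?_, hN⟩
      have hac : (orderOf a).Coprime p := hAcop.coprime_dvd_left (Subgroup.orderOf_dvd_natCard A ha)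
      exact Subgroup.mem_centralizer_singleton_iff.mpr
        (cyclic_fixed (hE.to_le (Subgroup.zpowers_le.mpr hz)) a (hAX ha) hac z (Subgroup.mem_zpowers z)).symm
    obtain ⟨b, hb⟩ := IsPGroup.iff_orderOf.mp hE ⟨x, hxE⟩
    rw [Subgroup.orderOf_mk] at hb
    have hbd : d < b := by
      by_contra h
      exact hx (orderOf_dvd_iff_pow_eq_one.mp (hb ▸ pow_dvd_pow p (not_lt.mp h)))
    set z := x ^ p ^ (b - d) with hz
    have hzo : orderOf z = p ^ d := by
      rw [hz, orderOf_pow_of_dvd (pow_ne_zero _ hpp.ne_zero) (hb ▸ pow_dvd_pow p (Nat.sub_le b d)), hb,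
        Nat.pow_div (Nat.sub_le b d) hpp.pos, Nat.sub_sub_self hbd.le]
    have hzE : z ∈ E := E.pow_mem hxE _
    obtain ⟨hAz, hzn⟩ := hcyc z hzE (Or.inl hzo)
    have hsolv : Group.IsSolvable A ∨ Group.IsSolvable E := Or.inr (by haveI := hE.isNilpotent; infer_instance)
    set S := ⁅E, A⁆ with hSdef
    have hSE : S ≤ E := Coprime.commutator_le_left' hAE
    have hAS : A ≤ Subgroup.normalizer (S : Set G) := Subgroup.normalizer_commutator_ge_right E A
    have hazfix : ∀ w ∈ Subgroup.zpowers z, ∀ a ∈ A, a * w * a⁻¹ = w := by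
      intro w hw a ha
      obtain ⟨i, rfl⟩ := Subgroup.mem_zpowers_iff.mp hw
      rw [← conj_zpow, Subgroup.mem_centralizer_singleton_iff.mp (hAz ha)]
      group
    have hSz : S ≤ Subgroup.centralizer ({z} : Set G) := by
      rw [hSdef, Subgroup.commutator_le]
      intro u _ a ha
      have hw : u⁻¹ * z * u ∈ Subgroup.zpowers z := by
        have := hzn.conj_mem z (Subgroup.mem_zpowers z) u⁻¹
        rwa [inv_inv] at this
      have hfixw := hazfix _ hw a ha
      have h1 : a⁻¹ * z * a = z := by simpa using hazfix z (Subgroup.mem_zpowers z) a⁻¹ (A.inv_mem ha)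
      rw [Subgroup.mem_centralizer_singleton_iff, commutatorElement_def]
      calc u * a * u⁻¹ * a⁻¹ * z = u * a * u⁻¹ * (a⁻¹ * z * a) * a⁻¹ := by group
        _ = u * a * u⁻¹ * z * a⁻¹ := by rw [h1]
        _ = u * (a * (u⁻¹ * z * u) * a⁻¹) * (a * u⁻¹ * a⁻¹) := by group
        _ = u * (u⁻¹ * z * u) * (a * u⁻¹ * a⁻¹) := by rw [hfixw]
        _ = z * (u * a * u⁻¹ * a⁻¹) := by group
    have hsmall : ∀ s ∈ S, FusionChain.IsSmall p s → n * s * n⁻¹ = s := by
      intro s hs hsm
      have hfix : ∀ w ∈ E, (orderOf w = p ^ d ∨ (p ^ d = 2 ∧ orderOf w = 4)) → n * w * n⁻¹ = w := fun w hw hwo => by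
        rw [Subgroup.mem_centralizer_singleton_iff.mp ((hcyc w hw hwo).1 (Subgroup.mem_zpowers n))]
        group
      obtain ⟨j, hj⟩ := IsPGroup.iff_orderOf.mp hE ⟨s, hSE hs⟩
      rw [Subgroup.orderOf_mk] at hj
      by_cases hjd : j < d
      · have hcomm : Commute s z := Subgroup.mem_centralizer_singleton_iff.mp (hSz hs)
        have hso : s ^ p ^ (d - 1) = 1 := orderOf_dvd_iff_pow_eq_one.mp (hj ▸ pow_dvd_pow p (by omega))
        have hsz : orderOf (s * z) = p ^ d := by
          obtain ⟨e, rfl⟩ : ∃ e, d = e + 1 := ⟨d - 1, by omega⟩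
          simp only [add_tsub_cancel_right] at hso
          refine orderOf_eq_prime_pow ?_ ?_
          · rw [hcomm.mul_pow, hso, one_mul]
            intro h
            have := orderOf_dvd_of_pow_eq_one h
            rw [hzo] at this
            exact absurd ((Nat.pow_dvd_pow_iff_le_right hpp.one_lt).mp this) (by omega)
          · have hzp : z ^ p ^ (e + 1) = 1 := orderOf_dvd_iff_pow_eq_one.mp hzo.dvd
            rw [hcomm.mul_pow, hzp, mul_one, pow_succ p e, pow_mul, hso, one_pow]
        have h1 := hfix _ (E.mul_mem (hSE hs) hzE) (Or.inl hsz)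
        rw [show n * (s * z) * n⁻¹ = (n * s * n⁻¹) * (n * z * n⁻¹) by group, hfix z hzE (Or.inl hzo)] at h1
        exact mul_right_cancel h1
      · refine hfix s (hSE hs) ?_
        have hdvd : ∀ c, s ^ p ^ c = 1 → j ≤ c := fun c hc =>
          (Nat.pow_dvd_pow_iff_le_right hpp.one_lt).mp (hj ▸ orderOf_dvd_of_pow_eq_one hc)
        rcases hsm with h | ⟨h2, h⟩
        · have := hdvd 1 (by rwa [pow_one])
          exact Or.inl (by rw [hj]; congr 1; omega)
        · subst h2
          have := hdvd 2 (by norm_num; exact h)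
          rcases Nat.lt_or_ge d j with hlt | hge
          · exact Or.inr ⟨by rw [show d = 1 by omega]; norm_num, by rw [hj, show j = 2 by omega]; norm_num⟩
          · exact Or.inl (by rw [hj]; congr 1; omega)
    let β : MulAut ↥S := S.normalizerMonoidHom ⟨n, hAS (Subgroup.mem_zpowers n)⟩
    have hβ : β = 1 := by
      refine FusionChain.eq_one_of_fixes_small (hE.to_le hSE) β ?_ ?_
      · refine Nat.Coprime.coprime_dvd_left ?_ hcop
        have := orderOf_map_dvd S.normalizerMonoidHom (⟨n, hAS (Subgroup.mem_zpowers n)⟩ : Subgroup.normalizer (S : Set G))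
        rwa [Subgroup.orderOf_mk] at this
      · intro y hy
        exact Subtype.ext (hsmall y y.2 (hy.map S.subtype))
    have hAS' : A ≤ Subgroup.centralizer (S : Set G) := by
      rw [Subgroup.zpowers_le]
      intro s hs
      have h1 : n * s * n⁻¹ = s := congrArg Subtype.val (MulEquiv.congr_fun hβ ⟨s, hs⟩)
      calc s * n = n * s * n⁻¹ * n := by rw [h1]
        _ = n * s := by group
    have hS0 : S = ⊥ := by
      rw [hSdef, ← Coprime.commutator_commutator_eq hAE hcopE hsolv, Subgroup.commutator_comm,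
        Subgroup.commutator_eq_bot_iff_le_centralizer]
      exact hAS'
    rw [hSdef, Subgroup.commutator_comm, Subgroup.commutator_eq_bot_iff_le_centralizer] at hS0
    exact hS0

omit [Group G] [Finite G] in
/-- An endomorphism of exponent `p - 1` of a space over `ZMod p` has an eigenvector. -/
theorem eigen {V : Type*} [AddCommGroup V] [Finite V] [Nontrivial V] [Module (ZMod p) V]
    (φ : V →+ V) (hφ : ∀ v, φ^[p - 1] v = v) : ∃ v : V, v ≠ 0 ∧ ∃ c : ℕ, φ v = c • v := by
  have hpp : p.Prime := Fact.out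
  let f : Module.End (ZMod p) V := φ.toZModLinearMap p
  have hp1 : f ^ (p - 1) = 1 := by
    refine LinearMap.ext fun v => ?_
    rw [Module.End.pow_apply]
    exact hφ v
  have haev : Polynomial.aeval f (Polynomial.X ^ p - Polynomial.X : Polynomial (ZMod p)) = 0 := by
    rw [map_sub, Polynomial.aeval_X_pow, Polynomial.aeval_X, ← pow_sub_one_mul hpp.pos.ne' f, hp1, one_mul, sub_self]
  have hsplit : Polynomial.Splits (Polynomial.X ^ p - Polynomial.X : Polynomial (ZMod p)) := by
    simpa [ZMod.card] using (FiniteField.splits_X_pow_card_sub_X (K := ZMod p) (p := p))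
  have hspl := hsplit.of_dvd (FiniteField.X_pow_card_sub_X_ne_zero (ZMod p) hpp.one_lt) (minpoly.dvd _ f haev)
  obtain ⟨c, hc⟩ := hspl.exists_eval_eq_zero
    (ne_of_gt (minpoly.degree_pos (Algebra.IsIntegral.isIntegral f)))
  obtain ⟨v, hv, hv0⟩ := (Module.End.hasEigenvalue_of_isRoot hc).exists_hasEigenvector
  have hveq : f v = c • v := Module.End.mem_eigenspace_iff.mp hv
  refine ⟨v, hv0, c.val, ?_⟩
  rw [← Nat.cast_smul_eq_nsmul (ZMod p), ZMod.natCast_zmod_val]
  exact hveq

/-- An element whose `(p - 1)`-th power centralises an elementary abelian group normalised by it has an eigenvector. -/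
theorem exists_eigen (N : Subgroup G) [N.Normal] [IsMulCommutative N]
    (hN0 : N ≠ ⊥) (hexp : ∀ x ∈ N, x ^ p = 1) (g : G) (hfix : ∀ x ∈ N, g ^ (p - 1) * x * (g ^ (p - 1))⁻¹ = x) :
    ∃ v ∈ N, v ≠ 1 ∧ ∃ c : ℕ, g * v * g⁻¹ = v ^ c := by
  letI : CommGroup ↥N := { (inferInstance : Group ↥N) with mul_comm := fun a b => mul_comm' a b }
  letI : Module (ZMod p) (Additive ↥N) := AddCommGroup.zmodModule (fun v => by
    apply Additive.toMul.injective
    exact Subtype.ext (hexp _ (Additive.toMul v).2))
  haveI : Nontrivial ↥N := (Subgroup.nontrivial_iff_ne_bot N).mpr hN0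
  have hit : ∀ (j : ℕ) (x : ↥N), (((MulAut.conjNormal g : MulAut ↥N) : ↥N → ↥N)^[j] x : G) = g ^ j * x * (g ^ j)⁻¹ := by
    intro j
    induction j with
    | zero => intro x; simp
    | succ j ihj =>
      intro x
      rw [Function.iterate_succ_apply', MulAut.conjNormal_apply, ihj, pow_succ']
      group
  obtain ⟨v, hv, c, hc⟩ := eigen (p := p) (V := Additive ↥N) ((MulAut.conjNormal g : MulAut ↥N).toMonoidHom.toAdditive)
    (fun v => Subtype.ext ((hit (p - 1) v.toMul).trans (hfix _ v.toMul.2)))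
  refine ⟨_, (Additive.toMul v).2, fun h => hv (Additive.toMul.injective (Subtype.ext h)), c, ?_⟩
  exact congrArg Subtype.val (congrArg Additive.toMul hc)

/-- A normal `p`-subgroup on which `expSub` acts as a `p`-group gives supersolvability. -/
theorem emb_supersolvable : ∀ (k : ℕ) {G : Type u} [Group G] [Finite G] (E : Subgroup G) [E.Normal],
    Nat.card E ≤ k → IsPGroup p E → Emb p E → Cfsg.IsSupersolvable (G ⧸ E) → Cfsg.IsSupersolvable G := by
  intro k
  induction k with
  | zero => intro G _ _ E _ hk; exact absurd hk (not_le.mpr Nat.card_pos)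
  | succ k ih =>
    intro G _ _ E hEn hk hE hemb hGE
    classical
    by_cases hbot : E = ⊥
    · subst hbot
      exact Solvable.supersolvable_of_surjective hGE QuotientGroup.quotientBot.toMonoidHom
        QuotientGroup.quotientBot.surjective
    have hpp : p.Prime := Fact.out
    obtain ⟨N, hNn, hN0, hNE, hmin⟩ := Solvable.exists_minimal_normal hbot
    haveI := hNn
    have hNp : IsPGroup p N := hE.to_le hNE
    haveI : Group.IsSolvable N := by haveI := hNp.isNilpotent; infer_instance
    obtain ⟨hcomm, q, hq, hqg, hqexp⟩ :=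
      Solvable.elementaryAbelian_of_minimal_normal N hN0 (fun M hM hMN => hmin M hM hMN)
    have hexp : ∀ x ∈ N, x ^ p = 1 := by
      obtain ⟨x0, hx0N, hx0⟩ := SetLike.exists_of_lt (bot_lt_iff_ne_bot.mpr hN0)
      obtain ⟨j, hj⟩ := IsPGroup.iff_orderOf.mp hNp ⟨x0, hx0N⟩
      rw [Subgroup.orderOf_mk] at hj
      have h1 : orderOf x0 = q := orderOf_eq_prime (hp := ⟨hq⟩) (hqexp x0 hx0N) (fun h => hx0 (by rw [h]; exact Subgroup.one_mem _))
      have hqp : q = p := (Nat.prime_dvd_prime_iff_eq hq hpp).mp (hq.dvd_of_dvd_pow (hj ▸ h1 ▸ dvd_rfl : q ∣ p ^ j))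
      exact hqp ▸ hqexp
    -- `expSub` centralises `N`
    set X := expSub p G with hX
    have hXn : X.Normal := by
      constructor
      intro x hx g
      have h1 : X.map (MulAut.conj g).toMonoidHom ≤ X := by
        rw [hX, expSub, MonoidHom.map_closure, Subgroup.closure_le]
        rintro _ ⟨y, ⟨a, rfl⟩ | ⟨a, b, rfl⟩, rfl⟩
        · exact Subgroup.subset_closure (Or.inl ⟨_, (map_pow _ a _).symm⟩)
        · exact Subgroup.subset_closure (Or.inr ⟨_, _, (map_commutatorElement _ a b).symm⟩)
      exact h1 (Subgroup.mem_map_of_mem _ hx)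
    have hNX : X ≤ Subgroup.centralizer (N : Set G) := by
      obtain ⟨S⟩ := (inferInstance : Nonempty (Sylow p ↥X))
      set S' : Subgroup G := (S : Subgroup ↥X).map X.subtype
      have hSN : IsPGroup p ↥(S' ⊔ N) := (S.isPGroup'.map X.subtype).to_sup_of_normal_right hNp
      haveI : (N.subgroupOf (S' ⊔ N)).Normal := Subgroup.normal_subgroupOf
      have hne : N ⊓ Subgroup.centralizer (S' : Set G) ≠ ⊥ := by
        intro h
        have hne' : N.subgroupOf (S' ⊔ N) ≠ ⊥ := by
          rw [Ne, Subgroup.subgroupOf_eq_bot, disjoint_iff, inf_eq_left.mpr le_sup_right]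
          exact hN0
        apply PGroup.inf_center_ne_bot hSN hne'
        rw [Subgroup.eq_bot_iff_forall]
        rintro ⟨y, hy⟩ ⟨h1, h2⟩
        apply Subtype.ext
        refine Subgroup.mem_bot.mp (h.le ⟨h1, fun s hs => ?_⟩)
        exact congrArg Subtype.val (Subgroup.mem_center_iff.mp h2 ⟨s, Subgroup.mem_sup_left hs⟩)
      have hCX : N ⊓ Subgroup.centralizer (S' : Set G) ≤ Subgroup.centralizer (X : Set G) := by
        rw [Subgroup.le_centralizer_iff]
        have h1 : ((S : Subgroup ↥X) ⊔ Cfsg.pResidual p ↥X).map X.subtype = X := by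
          rw [Transfer.sylow_sup_eq_top S, ← MonoidHom.range_eq_map, Subgroup.range_subtype]
        conv_lhs => rw [← h1, Subgroup.map_sup]
        refine sup_le (Subgroup.le_centralizer_iff.mp inf_le_right) ?_
        rw [Transfer.map_pResidual_subtype, Subgroup.closure_le]
        rintro g ⟨hgX, hgc⟩ c ⟨hcN, -⟩
        exact hemb g hgX hgc c (hNE hcN)
      haveI : (N ⊓ Subgroup.centralizer (X : Set G)).Normal := by
        haveI : (Subgroup.centralizer (X : Set G)).Normal := Subgroup.normal_centralizer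
        infer_instance
      rcases hmin (N ⊓ Subgroup.centralizer (X : Set G)) inferInstance inf_le_left with h | h
      · exact absurd (le_bot_iff.mp ((le_inf inf_le_left hCX).trans h.le)) hne
      · exact Subgroup.le_centralizer_iff.mp (h ▸ inf_le_right)
    -- every element acts on `N` as a scalar
    have hscalar : ∀ g : G, ∃ c : ℕ, ∀ v ∈ N, g * v * g⁻¹ = v ^ c := by
      intro g
      haveI : IsMulCommutative N := hcomm
      obtain ⟨v, hvN, hv0, c, hveq⟩ := exists_eigen N hN0 hexp g (fun x hx => by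
        rw [← hNX (Subgroup.subset_closure (Or.inl ⟨g, rfl⟩) : g ^ (p - 1) ∈ X) x hx, mul_assoc, mul_inv_cancel,
          mul_one])
      let H : Subgroup G :=
        { carrier := {w | w ∈ N ∧ g * w * g⁻¹ = w ^ c}
          one_mem' := ⟨N.one_mem, by simp⟩
          mul_mem' := by
            rintro a b ⟨ha1, ha2⟩ ⟨hb1, hb2⟩
            refine ⟨N.mul_mem ha1 hb1, ?_⟩
            have hab : Commute a b := congrArg Subtype.val (mul_comm' (⟨a, ha1⟩ : N) ⟨b, hb1⟩)
            rw [hab.mul_pow, ← ha2, ← hb2]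
            group
          inv_mem' := by
            rintro a ⟨ha1, ha2⟩
            refine ⟨N.inv_mem ha1, ?_⟩
            rw [inv_pow, ← ha2]
            group }
      have hHn : H.Normal := by
        constructor
        rintro w ⟨hw1, hw2⟩ x
        refine ⟨hNn.conj_mem w hw1 x, ?_⟩
        have ht : ⁅x⁻¹, g⁆ ∈ Subgroup.centralizer (N : Set G) :=
          hNX (Subgroup.subset_closure (Or.inr ⟨_, _, rfl⟩))
        have h5 := ht _ (hNn.conj_mem w hw1 g)
        rw [commutatorElement_def] at h5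
        have h6 : (x⁻¹ * g * x⁻¹⁻¹ * g⁻¹) * (g * w * g⁻¹) * (x⁻¹ * g * x⁻¹⁻¹ * g⁻¹)⁻¹ = g * w * g⁻¹ := by
          rw [← h5]; group
        rw [conj_pow, ← hw2]
        calc g * (x * w * x⁻¹) * g⁻¹
            = x * ((x⁻¹ * g * x⁻¹⁻¹ * g⁻¹) * (g * w * g⁻¹) * (x⁻¹ * g * x⁻¹⁻¹ * g⁻¹)⁻¹) * x⁻¹ := by group
          _ = x * (g * w * g⁻¹) * x⁻¹ := by rw [h6]
      have hHN : H = N := by
        rcases hmin H hHn (fun w hw => hw.1) with h | h
        · exfalso
          have hmem : v ∈ H := ⟨hvN, hveq⟩
          rw [h, Subgroup.mem_bot] at hmem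
          exact hv0 hmem
        · exact h
      exact ⟨c, fun w hw => (hHN.ge hw).2⟩
    -- so `N` is cyclic
    obtain ⟨v, hvN, hv⟩ := SetLike.exists_of_lt (bot_lt_iff_ne_bot.mpr hN0)
    have hzn : (Subgroup.zpowers v).Normal := by
      constructor
      intro w hw g
      obtain ⟨c, hc⟩ := hscalar g
      rw [hc w ((Subgroup.zpowers_le.mpr hvN) hw)]
      exact Subgroup.pow_mem _ hw c
    have hNeq : Subgroup.zpowers v = N := by
      rcases hmin _ hzn (Subgroup.zpowers_le.mpr hvN) with h | h
      · exact absurd (h ▸ Subgroup.mem_zpowers v) hv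
      · exact h
    haveI : IsCyclic N := hNeq ▸ inferInstance
    refine Solvable.isSupersolvable_of_cyclic_normal N ?_
    let π := QuotientGroup.mk' N
    haveI : (E.map π).Normal := hEn.map π (QuotientGroup.mk'_surjective N)
    refine ih (E.map π) ?_ (hE.map π) (emb_map hemb π (QuotientGroup.mk'_surjective N)) ?_
    · have hlt : Nat.card ↥(E.map π) < Nat.card E := by
        have h1 : Nat.card N * Nat.card ↥(E.map π) = Nat.card E := by
          have h2 := Subgroup.relIndex_mul_relIndex ⊥ N E bot_le hNE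
          rw [Subgroup.relIndex_bot_left, Subgroup.relIndex_bot_left] at h2
          have h3 : N.relIndex E = Nat.card ↥(E.map π) := by
            rw [← Subgroup.relIndex_bot_left, ← QuotientGroup.map_mk'_self N, Subgroup.relIndex_map_map,
              QuotientGroup.ker_mk', sup_idem, sup_eq_left.mpr hNE]
          rwa [← h3]
        have h4 : 1 < Nat.card N := by
          haveI : Nontrivial ↥N := (Subgroup.nontrivial_iff_ne_bot N).mpr hN0
          exact Finite.one_lt_card
        rw [← h1]
        exact lt_mul_of_one_lt_left Nat.card_pos h4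
      omega
    · exact Solvable.supersolvable_of_surjective hGE
        (QuotientGroup.quotientQuotientEquivQuotient N E hNE).symm.toMonoidHom
        (QuotientGroup.quotientQuotientEquivQuotient N E hNE).symm.surjective

/-- The hypothesis of the theorem. -/
def Cond {G : Type*} [Group G] (E : Subgroup G) : Prop :=
  ∀ (p : ℕ), p.Prime → ∀ P : Subgroup G, P ≤ E → IsPGroup p P → ¬ p ∣ P.relIndex E → ¬ IsCyclic ↥P →
    ∃ D : Subgroup G, D ≤ P ∧ 1 < Nat.card D ∧ Nat.card D < Nat.card P ∧
      ∀ F : Subgroup G, F ≤ P → (Nat.card F = Nat.card D ∨ (Nat.card D = 2 ∧ Nat.card F = 4)) →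
        ∀ g : G, F.map (MulAut.conj g).toMonoidHom ⊓ Subgroup.normalizer (F : Set G) ≤ F

omit [Fact p.Prime] in
theorem main : ∀ (k : ℕ) {G : Type u} [Group G] [Finite G] (E : Subgroup G) [E.Normal],
    Nat.card E ≤ k → Cond E → Cfsg.IsSupersolvable (G ⧸ E) → Cfsg.IsSupersolvable G := by
  intro k
  induction k with
  | zero => intro G _ _ E _ hk; exact absurd hk (not_le.mpr Nat.card_pos)
  | succ k ih =>
    intro G _ _ E hEn hk hcond hGE
    classical
    by_cases hbot : E = ⊥
    · subst hbot
      exact Solvable.supersolvable_of_surjective hGE QuotientGroup.quotientBot.toMonoidHom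
        QuotientGroup.quotientBot.surjective
    have hE1 : Nat.card E ≠ 1 := fun h => hbot (Subgroup.card_eq_one.mp h)
    obtain ⟨p, hp, hpdvd, hpmin⟩ : ∃ p : ℕ, p.Prime ∧ p ∣ Nat.card E ∧ ∀ q : ℕ, q.Prime → q ∣ Nat.card E → p ≤ q :=
      ⟨_, Nat.minFac_prime hE1, Nat.minFac_dvd _, fun q hq hd => Nat.minFac_le_of_dvd hq.two_le hd⟩
    haveI := Fact.mk hp
    obtain ⟨S⟩ := (inferInstance : Nonempty (Sylow p ↥E))
    set P : Subgroup G := (S : Subgroup ↥E).map E.subtype with hP
    have hPE : P ≤ E := Subgroup.map_subtype_le _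
    have hPp : IsPGroup p P := S.isPGroup'.map E.subtype
    have hPS : P.subgroupOf E = (S : Subgroup ↥E) := Subgroup.comap_map_eq_self_of_injective E.subtype_injective _
    have hPrel : ¬ p ∣ P.relIndex E := by rw [Subgroup.relIndex, hPS]; exact S.not_dvd_index
    have hScard : Nat.card P = Nat.card S := Subgroup.card_map_of_injective E.subtype_injective
    -- a normal `p`-complement in `E`
    have hcompl : Cfsg.HasNormalPComplement p ↥E := by
      refine S3031.result hpdvd hpmin S ?_
      by_cases hc : IsCyclic P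
      · exact Or.inl (((S : Subgroup ↥E).equivMapOfInjective E.subtype E.subtype_injective).isCyclic.mpr hc)
      obtain ⟨D, hDP, hD1, hD2, hD⟩ := hcond p hp P hPE hPp hPrel hc
      refine Or.inr ⟨D.subgroupOf E, ?_, ?_, ?_, ?_⟩
      · rw [← hPS]; exact Subgroup.comap_mono hDP
      · rwa [Nat.card_congr (Subgroup.subgroupOfEquivOfLe (hDP.trans hPE)).toEquiv]
      · rwa [Nat.card_congr (Subgroup.subgroupOfEquivOfLe (hDP.trans hPE)).toEquiv, ← hScard]
      · intro F hF hFc g
        rw [Nat.card_congr (Subgroup.subgroupOfEquivOfLe (hDP.trans hPE)).toEquiv,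
          ← Subgroup.card_map_of_injective (K := F) E.subtype_injective] at hFc
        have h1 := hD (F.map E.subtype) (Subgroup.map_mono hF) hFc (g : G)
        rintro x ⟨⟨y, hy, rfl⟩, hxN⟩
        have h2 := h1 ⟨⟨(y : G), ⟨y, hy, rfl⟩, rfl⟩, ?_⟩
        · obtain ⟨w, hw, hwe⟩ := h2
          exact (Subtype.ext hwe : w = MulAut.conj g y) ▸ hw
        · apply Subgroup.mem_normalizer_fintype
          rintro _ ⟨w, hw, rfl⟩
          exact ⟨_, (Subgroup.mem_normalizer_iff.mp hxN w).mp hw, rfl⟩
    set K₀ := Cfsg.pPrimeCore p ↥E with hK₀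
    haveI : (Cfsg.pPrimeCore p ↥E).Characteristic := inferInstance
    haveI hKn : (K₀.map E.subtype).Normal := Cores.map_subtype_normal_of_characteristic E _
    set K := K₀.map E.subtype with hK
    have hKE : K ≤ E := Subgroup.map_subtype_le _
    have hKcop : (Nat.card K).Coprime p := by
      rw [hK, Subgroup.card_map_of_injective E.subtype_injective]
      exact Cores.coprime_card_pPrimeCore p
    have hEKP : P ⊔ K = E := by
      obtain ⟨S', N, hN, hNS⟩ := hcompl
      have hNK : N ≤ K₀ := Cores.le_pPrimeCore hN (by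
        have h1 := hNS.index_eq_card
        have h3 := hNS.symm.index_eq_card
        rw [← h1, Nat.coprime_comm, hp.coprime_iff_not_dvd]
        exact S'.not_dvd_index)
      obtain ⟨g, hg⟩ := MulAction.exists_smul_eq (↥E) S' S
      have h2 : (S : Subgroup ↥E) ⊔ N = ⊤ := by
        rw [← hg]
        show (S' : Subgroup ↥E).map (MulAut.conj g).toMonoidHom ⊔ N = ⊤
        haveI := hN
        have hNmap : N.map (MulAut.conj g).toMonoidHom = N := Subgroup.Normal.map_conj_eq N g
        rw [← hNmap, ← Subgroup.map_sup, sup_comm, hNS.sup_eq_top,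
          Subgroup.map_top_of_surjective _ (MulAut.conj g).surjective]
      have h4 : (S : Subgroup ↥E) ⊔ K₀ = ⊤ := top_le_iff.mp (h2.ge.trans (sup_le_sup_left hNK _))
      rw [hP, hK, ← Subgroup.map_sup, h4,
        ← MonoidHom.range_eq_map, Subgroup.range_subtype]
    let π := QuotientGroup.mk' K
    -- `G / K` is supersolvable
    have hGK : Cfsg.IsSupersolvable (G ⧸ K) := by
      haveI : (E.map π).Normal := hEn.map π (QuotientGroup.mk'_surjective K)
      have hEπ : E.map π = P.map π := by
        conv_lhs => rw [← hEKP]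
        rw [Subgroup.map_sup, QuotientGroup.map_mk'_self, sup_bot_eq]
      have hq : Cfsg.IsSupersolvable ((G ⧸ K) ⧸ E.map π) := Solvable.supersolvable_of_surjective hGE
        (QuotientGroup.quotientQuotientEquivQuotient K E hKE).symm.toMonoidHom
        (QuotientGroup.quotientQuotientEquivQuotient K E hKE).symm.surjective
      have hEp : IsPGroup p ↥(E.map π) := by rw [hEπ]; exact hPp.map π
      by_cases hc : IsCyclic P
      · haveI : IsCyclic ↥(E.map π) := by
          rw [hEπ]
          exact isCyclic_of_surjective (π.subgroupMap P) (π.subgroupMap_surjective P)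
        exact Solvable.isSupersolvable_of_cyclic_normal _ hq
      obtain ⟨D, hDP, hD1, hD2, hD⟩ := hcond p hp P hPE hPp hPrel hc
      obtain ⟨d, hd⟩ := IsPGroup.iff_card.mp (hPp.to_le hDP)
      refine emb_supersolvable _ (E.map π) le_rfl hEp ?_ hq
      have hd1 : 1 ≤ d := by
        rcases Nat.eq_zero_or_pos d with h0 | h0
        · rw [hd, h0, pow_zero] at hD1; exact absurd hD1 (lt_irrefl 1)
        · exact h0
      have hPK : P ⊓ K = ⊥ := by
        rw [Subgroup.eq_bot_iff_forall]
        rintro x ⟨h1, h2⟩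
        obtain ⟨j, hj⟩ := hPp ⟨x, h1⟩
        exact orderOf_eq_one_iff.mp (Nat.eq_one_of_dvd_coprimes (hKcop.pow_right j)
          (Subgroup.orderOf_dvd_natCard K h2) (orderOf_dvd_of_pow_eq_one (congrArg Subtype.val hj)))
      have hcardmap : ∀ F : Subgroup G, F ≤ P → Nat.card ↥(F.map π) = Nat.card F := by
        intro F hF
        have h1 : (F.map π) = ((π.comp F.subtype)).range := by rw [MonoidHom.range_comp, Subgroup.range_subtype]
        rw [h1, Nat.card_congr (MonoidHom.ofInjective (f := π.comp F.subtype) ?_).toEquiv.symm]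
        rw [← MonoidHom.ker_eq_bot_iff, Subgroup.eq_bot_iff_forall]
        intro x hx
        exact Subtype.ext (Subgroup.mem_bot.mp (hPK.le ⟨hF x.2, (QuotientGroup.eq_one_iff (x : G)).mp hx⟩))
      refine emb_of_family (E.map π) hEp hd1 ?_ ?_
      · rw [hEπ, hcardmap P le_rfl, ← hd]; exact hD2
      · intro F hFE hFc
        set F₀ := P ⊓ F.comap π with hF₀
        have hmap : F₀.map π = F := by
          refine le_antisymm ?_ fun w hw => ?_
          · rintro _ ⟨x, hx, rfl⟩; exact hx.2
          · obtain ⟨x, hx, rfl⟩ := hEπ.le (hFE hw)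
            exact ⟨x, ⟨hx, hw⟩, rfl⟩
        have hF₀P : F₀ ≤ P := inf_le_left
        have hF₀c : Nat.card F₀ = Nat.card D ∨ (Nat.card D = 2 ∧ Nat.card F₀ = 4) := by
          rwa [← hcardmap F₀ hF₀P, hmap, hd]
        have hH := hD F₀ hF₀P hF₀c
        have hPN : P ≤ Subgroup.normalizer (F₀ : Set G) := by
          by_contra hne
          haveI := hPp.isNilpotent
          let T : Subgroup ↥P := (Subgroup.normalizer (F₀ : Set G)).subgroupOf P
          have hT : T < ⊤ := lt_top_iff_ne_top.mpr fun h => hne (Subgroup.subgroupOf_eq_top.mp h)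
          obtain ⟨x, hx, hxT⟩ := SetLike.exists_of_lt (Group.normalizerCondition_of_isNilpotent T hT)
          apply hxT
          show (x : G) ∈ Subgroup.normalizer (F₀ : Set G)
          apply Subgroup.mem_normalizer_fintype
          intro e he
          exact hH x ⟨Subgroup.mem_map_of_mem _ he,
            (Subgroup.mem_normalizer_iff.mp hx ⟨e, hF₀P he⟩).mp (Subgroup.le_normalizer he)⟩
        have hNP : Subgroup.normalizer (P : Set G) ≤ Subgroup.normalizer (F₀ : Set G) := by
          intro n hn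
          apply Subgroup.mem_normalizer_fintype
          intro e he
          exact hH n ⟨Subgroup.mem_map_of_mem _ he, hPN ((Subgroup.mem_normalizer_iff.mp hn e).mp (hF₀P he))⟩
        have hfr : Subgroup.normalizer (P : Set G) ⊔ K = ⊤ := by
          have h1 := Sylow.normalizer_sup_eq_top S
          rw [← hP] at h1
          rw [← top_le_iff, ← h1]
          refine sup_le le_sup_left ?_
          rw [← hEKP]
          exact sup_le (Subgroup.le_normalizer.trans le_sup_left) le_sup_right
        constructor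
        intro w hw y
        obtain ⟨g, rfl⟩ := QuotientGroup.mk'_surjective K y
        obtain ⟨n, hn, k', hk', rfl⟩ := Subgroup.mem_sup_of_normal_right.mp (hfr.symm ▸ Subgroup.mem_top g)
        rw [← hmap] at hw ⊢
        obtain ⟨x, hx, rfl⟩ := hw
        refine ⟨n * x * n⁻¹, (Subgroup.mem_normalizer_iff.mp (hNP hn) x).mp hx, ?_⟩
        have hk1 : π k' = 1 := (QuotientGroup.eq_one_iff k').mpr hk'
        show π (n * x * n⁻¹) = π (n * k') * π x * (π (n * k'))⁻¹
        rw [map_mul, map_mul, map_inv, map_mul, hk1, mul_one]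
    -- induction
    refine ih K ?_ ?_ hGK
    · have hlt : Nat.card K < Nat.card E := by
        refine lt_of_le_of_ne (Subgroup.card_le_of_le hKE) fun h => ?_
        rw [h] at hKcop
        exact hp.ne_one (Nat.eq_one_of_dvd_coprimes hKcop hpdvd dvd_rfl)
      omega
    · intro q hq Q hQK hQq hQrel hQc
      by_cases hqp : q = p
      · subst hqp
        exfalso
        apply hQc
        obtain ⟨j, hj⟩ := IsPGroup.iff_card.mp hQq
        have h1 : Nat.card Q = 1 := Nat.eq_one_of_dvd_coprimes (hKcop.pow_right j) (Subgroup.card_dvd_of_le hQK) (hj ▸ dvd_rfl)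
        haveI := (Nat.card_eq_one_iff_unique.mp h1).1
        infer_instance
      refine hcond q hq Q (hQK.trans hKE) hQq ?_ hQc
      intro hdvd
      rw [← Subgroup.relIndex_mul_relIndex Q K E hQK hKE] at hdvd
      rcases hq.dvd_mul.mp hdvd with h | h
      · exact hQrel h
      · have h1 : K.relIndex E ∣ Nat.card P := by
          rw [← hEKP, Subgroup.relIndex_sup_right]
          exact Subgroup.relIndex_dvd_card _ _
        obtain ⟨j, hj⟩ := IsPGroup.iff_card.mp hPp
        exact hqp ((Nat.prime_dvd_prime_iff_eq hq hp).mp (hq.dvd_of_dvd_pow (hj ▸ h.trans h1)))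


/-- Let G be a finite group and E a normal subgroup with G/E supersolvable. Suppose that for every prime p and every non-cyclic Sylow p-subgroup P of E there is a subgroup D of P with 1 < |D| < |P| such that every subgroup F of P of order |D|, and also every subgroup F of P of order 4 when |D| = 2, satisfies g F g⁻¹ ∩ N_G(F) ≤ F for all g ∈ G. Then G is supersolvable. -/
theorem result {G : Type*} [Group G] [Finite G] (E : Subgroup G) [E.Normal] (hGE : Cfsg.IsSupersolvable (G ⧸ E))
    (h : ∀ (p : ℕ), p.Prime → ∀ P : Subgroup G, P ≤ E → IsPGroup p P → ¬ p ∣ P.relIndex E → ¬ IsCyclic ↥P →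
      ∃ D : Subgroup G, D ≤ P ∧ 1 < Nat.card D ∧ Nat.card D < Nat.card P ∧
        ∀ F : Subgroup G, F ≤ P → (Nat.card F = Nat.card D ∨ (Nat.card D = 2 ∧ Nat.card F = 4)) →
          ∀ g : G, F.map (MulAut.conj g).toMonoidHom ⊓ Subgroup.normalizer (F : Set G) ≤ F) :
    Cfsg.IsSupersolvable G := by
  exact main (Nat.card E) E le_rfl h hGE

end Cfsg.Agent.S3032
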