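import Cfsg.Statements.S3033
import Cfsg.Agent.Lib.ConjPairOrder.Basic
import Cfsg.Agent.Lib.OrderType.Basic
import Cfsg.Agent.S0132
import Cfsg.Agent.S0579
-- import your own Cfsg.Agent.* helpers here

set_option autoImplicit false
open Cfsg

namespace Cfsg.Agent.S3033

open Cfsg.Agent in
/-- A supersolvable group has a normal `p`-complement for a prime `p` below all prime divisors. -/
theorem hasNormalPComplement_of_supersolvable {H : Type*} [Group H] [Finite H]
    (hH : Cfsg.IsSupersolvable H) {p : ℕ} [hp : Fact p.Prime]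
    (hmin : ∀ r : ℕ, r.Prime → r ∣ Nat.card H → p ≤ r) : Cfsg.HasNormalPComplement p H := by
  obtain ⟨K, hK⟩ := OrderType.exists_subgroup_of_supersolvable hH (p + 1)
  obtain ⟨P⟩ : Nonempty (Sylow p H) := inferInstance
  refine ⟨P, K, ⟨fun n hn g => (hK _).2 ?_⟩, ?_⟩
  · rw [← MulAut.conj_apply, MulEquiv.orderOf_eq]
    exact (hK n).1 hn
  have hKne : Nat.card K ≠ 0 := Nat.card_pos.ne'
  have hPne : Nat.card (P : Subgroup H) ≠ 0 := Nat.card_pos.ne'
  refine Subgroup.isComplement'_of_coprime ?_ ?_
  · refine Nat.eq_of_factorization_eq (Nat.mul_ne_zero hKne hPne) Nat.card_pos.ne' fun r => ?_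
    rw [Nat.factorization_mul hKne hPne, Finsupp.add_apply,
      OrderType.factorization_card_primesGE hK r, Sylow.card_eq_multiplicity,
      Nat.Prime.factorization_pow hp.out]
    rcases lt_trichotomy r p with h | h | h
    · rw [if_neg (by omega), Finsupp.single_apply, if_neg (by omega)]
      by_cases hr : r.Prime
      · rw [Nat.factorization_eq_zero_of_not_dvd fun hd => absurd (hmin r hr hd) (by omega), add_zero]
      · rw [Nat.factorization_eq_zero_of_not_prime _ hr, add_zero]
    · subst h
      rw [if_neg (by omega), Finsupp.single_apply, if_pos rfl, zero_add]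
    · rw [if_pos (by omega), Finsupp.single_apply, if_neg (by omega), add_zero]
  · obtain ⟨i, hi⟩ := IsPGroup.iff_card.1 P.isPGroup'
    rw [hi]
    refine ((hp.out.coprime_iff_not_dvd).2 fun hd => ?_).symm.pow_right i
    obtain ⟨g, hg, ho⟩ := OrderType.exists_mem_of_prime_dvd hp.out hd
    have := (hK g).1 hg p hp.out (ho ▸ dvd_rfl)
    omega

universe u

open Cfsg.Agent in
/-- A group all whose proper subgroups are supersolvable is solvable. -/
theorem isSolvable_of_proper_supersolvable : ∀ (n : ℕ) (G : Type u) [Group G] [Finite G],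
    Nat.card G = n → (∀ H : Subgroup G, H ≠ ⊤ → Cfsg.IsSupersolvable H) → Group.IsSolvable G := by
  intro n
  induction n using Nat.strong_induction_on with
  | _ n IH =>
  intro G _ _ hn hG
  rcases eq_or_ne (Nat.card G) 1 with h1 | h1
  · haveI : Subsingleton G := (Nat.card_eq_one_iff_unique.1 h1).1
    exact Solvable.supersolvable_isSolvable Solvable.isSupersolvable_of_isNilpotent
  haveI hp : Fact (Nat.card G).minFac.Prime := ⟨Nat.minFac_prime h1⟩
  set p := (Nat.card G).minFac with hpdef
  by_cases hc : Cfsg.HasNormalPComplement p G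
  · obtain ⟨P, N, hNn, hNP⟩ := hc
    haveI := hNn
    have hN : N ≠ ⊤ := by
      intro hNt
      have h2 := hNP.card_mul
      have h3 : p ∣ Nat.card (P : Subgroup G) :=
        P.dvd_card_of_dvd_card (Nat.minFac_dvd _)
      rw [hNt, Subgroup.card_top] at h2
      have := Nat.eq_of_mul_eq_mul_left Nat.card_pos (h2.trans (mul_one _).symm)
      rw [this] at h3
      exact hp.out.ne_one (Nat.dvd_one.1 h3)
    haveI : Group.IsSolvable N := Solvable.supersolvable_isSolvable (hG N hN)
    haveI : Group.IsSolvable (G ⧸ N) := by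
      refine Solvable.isSolvable_of_isPGroup (p := p) ?_
      obtain ⟨i, hi⟩ := IsPGroup.iff_card.1 P.isPGroup'
      refine IsPGroup.of_card (n := i) ?_
      rw [← hi, ← Subgroup.index_eq_card, hNP.symm.index_eq_card]
    exact (Group.isSolvable_iff_subgroup_quotient N).2 ⟨inferInstance, inferInstance⟩
  · have h2 : ∀ H : Subgroup G, H ≠ ⊤ → Cfsg.HasNormalPComplement p H := fun H hH =>
      hasNormalPComplement_of_supersolvable (hG H hH) fun r hr hd =>
        Nat.minFac_le_of_dvd hr.two_le (hd.trans (Subgroup.card_subgroup_dvd_card H))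
    obtain ⟨-, -, hPn⟩ := Cfsg.Agent.S0132.result hc h2
    obtain ⟨P⟩ : Nonempty (Sylow p G) := inferInstance
    haveI := hPn P
    have hP1 : (P : Subgroup G) ≠ ⊥ := P.ne_bot_of_dvd_card (Nat.minFac_dvd _)
    haveI : Group.IsSolvable (P : Subgroup G) := Solvable.isSolvable_of_isPGroup P.isPGroup'
    haveI : Group.IsSolvable (G ⧸ (P : Subgroup G)) := by
      refine IH _ (hn ▸ Solvable.card_quotient_lt hP1) _ rfl fun H hH => ?_
      have hpre : H.comap (QuotientGroup.mk' (P : Subgroup G)) ≠ ⊤ := fun e => hH (by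
        rw [← Subgroup.map_comap_eq_self_of_surjective (QuotientGroup.mk'_surjective _) H, e,
          Subgroup.map_top_of_surjective _ (QuotientGroup.mk'_surjective _)])
      exact Solvable.supersolvable_of_surjective (hG _ hpre)
        ((QuotientGroup.mk' (P : Subgroup G)).subgroupComap H)
        (MonoidHom.subgroupComap_surjective_of_surjective _ _ (QuotientGroup.mk'_surjective _))
    exact (Group.isSolvable_iff_subgroup_quotient (P : Subgroup G)).2 ⟨inferInstance, inferInstance⟩

theorem pair_of_injective {G H : Type*} [Group G] [Group H] [Finite G] (f : H →* G)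
    (hf : Function.Injective f) (h : Cfsg.Agent.ConjPairOrder.Pair G) :
    Cfsg.Agent.ConjPairOrder.Pair H := by
  rintro p q hp hq hpq x g ⟨a, ha⟩ ⟨b, hb⟩ hd
  refine h p q hp hq hpq (f x) (f g) ⟨a, ?_⟩ ⟨b, ?_⟩ ?_
  · rw [orderOf_injective f hf, ha]
  · rw [orderOf_injective f hf, hb]
  · rw [← map_inv, ← map_mul, ← map_mul, ← MonoidHom.map_zpowers, ← MonoidHom.map_zpowers,
      ← Subgroup.map_sup, Subgroup.card_map_of_injective hf]
    exact hd

theorem pair_of_surjective {G H : Type*} [Group G] [Group H] [Finite G] (f : G →* H)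
    (hf : Function.Surjective f) (h : Cfsg.Agent.ConjPairOrder.Pair G) :
    Cfsg.Agent.ConjPairOrder.Pair H := by
  intro p q hp hq hpq x g hx hg hd
  obtain ⟨x0, rfl⟩ := hf x
  obtain ⟨g0, rfl⟩ := hf g
  obtain ⟨x1, hx1, hx1o⟩ := Cfsg.Agent.ConjPairOrder.exists_prime_pow_lift f hp x0 hx
  obtain ⟨g1, hg1, hg1o⟩ := Cfsg.Agent.ConjPairOrder.exists_prime_pow_lift f hq g0 hg
  refine h p q hp hq hpq x1 g1 hx1o hg1o (hd.trans ?_)
  rw [← hx1, ← hg1, ← map_inv, ← map_mul, ← map_mul, ← MonoidHom.map_zpowers,
    ← MonoidHom.map_zpowers, ← Subgroup.map_sup]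
  exact Subgroup.card_map_dvd _ _

open Cfsg.Agent in
theorem aux : ∀ (n : ℕ) (G : Type u) [Group G] [Finite G], Nat.card G = n →
    ConjPairOrder.Pair G → Cfsg.IsSupersolvable G := by
  intro n
  induction n using Nat.strong_induction_on with
  | _ n IH =>
  intro G _ _ hn h
  have hsub : ∀ H : Subgroup G, H ≠ ⊤ → Cfsg.IsSupersolvable H := fun H hH =>
    IH _ (hn ▸ Solvable.card_lt_of_ne_top hH) H rfl (pair_of_injective H.subtype H.subtype_injective h)
  haveI : Group.IsSolvable G := isSolvable_of_proper_supersolvable _ G rfl hsub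
  refine Cfsg.Agent.S0579.result fun M hM => ?_
  by_cases hcore : M.normalCore = ⊥
  · have hnt : (⊤ : Subgroup G) ≠ ⊥ := fun e => hM.1 (top_le_iff.1 (e ▸ bot_le))
    obtain ⟨N, hNn, hN1, -, hNmin⟩ := Solvable.exists_minimal_normal hnt
    haveI := hNn
    haveI : Group.IsSolvable N := inferInstance
    obtain ⟨hNc, q, hq, -, hexp⟩ := Solvable.elementaryAbelian_of_minimal_normal N hN1 hNmin
    haveI := hNc
    have hNM : ¬ N ≤ M := fun hle => hN1 (le_bot_iff.1 (hcore ▸ Subgroup.normal_le_normalCore.2 hle))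
    have htop : M ⊔ N = ⊤ := hM.2 _ (lt_of_le_of_ne le_sup_left fun e => hNM (e ▸ le_sup_right))
    have hfaith : ∀ m ∈ M, (∀ a ∈ N, m * a = a * m) → m = 1 := by
      intro m hm hmN
      set X := M ⊓ Subgroup.centralizer (N : Set G) with hX
      haveI hXn : X.Normal := by
        refine ⟨fun x hx g => ?_⟩
        obtain ⟨a, ha, b, hb, rfl⟩ :=
          Subgroup.mem_sup_of_normal_right.1 (show g ∈ M ⊔ N from htop ▸ Subgroup.mem_top g)
        have hbx : b * x = x * b := Subgroup.mem_centralizer_iff.1 hx.2 b hb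
        rw [← ConjPairOrder.conj_conj', hbx, mul_inv_cancel_right]
        refine ⟨M.mul_mem (M.mul_mem ha hx.1) (M.inv_mem ha), Subgroup.mem_centralizer_iff.2 fun c hc => ?_⟩
        have hc' := Subgroup.mem_centralizer_iff.1 hx.2 (a⁻¹ * c * a) (hNn.conj_mem' c hc a)
        calc c * (a * x * a⁻¹) = a * (a⁻¹ * c * a * x) * a⁻¹ := by group
          _ = a * (x * (a⁻¹ * c * a)) * a⁻¹ := by rw [hc']
          _ = a * x * a⁻¹ * c := by group
      have hmX : m ∈ X := ⟨hm, Subgroup.mem_centralizer_iff.2 fun c hc => (hmN c hc).symm⟩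
      have := (Subgroup.normal_le_normalCore.2 inf_le_left : X ≤ M.normalCore) hmX
      rwa [hcore, Subgroup.mem_bot] at this
    rw [(Solvable.isComplement'_of_minimal_normal_abelian hNmin htop hNM).index_eq_card]
    exact ConjPairOrder.prime_card h hq hexp hN1 hNmin htop hfaith (hsub M hM.1)
  · set f := QuotientGroup.mk' M.normalCore with hf
    have hq : Cfsg.IsSupersolvable (G ⧸ M.normalCore) :=
      IH _ (hn ▸ Solvable.card_quotient_lt hcore) _ rfl
        (pair_of_surjective f (QuotientGroup.mk'_surjective _) h)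
    have hker : f.ker ≤ M := by
      rw [hf, QuotientGroup.ker_mk']; exact Subgroup.normalCore_le M
    have hcm : (M.map f).comap f = M := Subgroup.comap_map_eq_self hker
    have hM' : IsCoatom (M.map f) := by
      refine ⟨fun e => hM.1 (by rw [← hcm, e, Subgroup.comap_top]), fun L hL => ?_⟩
      have h1 : M < L.comap f :=
        hcm.symm.trans_lt ((Subgroup.comap_lt_comap_of_surjective (QuotientGroup.mk'_surjective _)).2 hL)
      rw [← Subgroup.map_comap_eq_self_of_surjective (QuotientGroup.mk'_surjective _) L, hM.2 _ h1]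
      exact Subgroup.map_top_of_surjective f (QuotientGroup.mk'_surjective _)
    have h2 := Solvable.supersolvable_index_prime_of_isCoatom hq hM'
    rw [← Subgroup.index_comap_of_surjective (M.map f) (QuotientGroup.mk'_surjective _), hcm] at h2
    exact h2

/-- Let G be a finite group such that for every pair of distinct primes p and q, every p-element x and every q-element g of G, the order of the subgroup generated by x and g x g⁻¹ is not divisible by q². Then G is supersolvable. -/
theorem result {G : Type*} [Group G] [Finite G]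
    (h : ∀ (p q : ℕ), p.Prime → q.Prime → p ≠ q → ∀ (x g : G), (∃ a : ℕ, orderOf x = p ^ a) → (∃ b : ℕ, orderOf g = q ^ b) →
      ¬ q ^ 2 ∣ Nat.card ↥(Subgroup.zpowers x ⊔ Subgroup.zpowers (g * x * g⁻¹))) :
    Cfsg.IsSupersolvable G := by
  exact aux _ G rfl h

end Cfsg.Agent.S3033
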