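import Cfsg.Statements.S3036
import Cfsg.Agent.Lib.CentrallyLarge.Basic

set_option autoImplicit false
open Cfsg Cfsg.Agent.CentrallyLarge
open scoped Pointwise

namespace Cfsg.Agent.S3036

/-- Let G be a finite non-abelian simple group and A a proper nontrivial subgroup of G. Then |G| > |A| · |C_G(A)|. In particular |G| > |A|² for every nontrivial abelian subgroup A of G. -/
theorem result {G : Type*} [Group G] [Finite G] [IsSimpleGroup G] (hG : ¬ IsMulCommutative G) (A : Subgroup G) (hA1 : A ≠ ⊥) (hA2 : A ≠ ⊤) : Nat.card A * Nat.card ↥(Subgroup.centralizer (A : Set G)) < Nat.card G := by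
  classical
  have hZ : Subgroup.center G = ⊥ := by
    rcases Subgroup.Normal.eq_bot_or_eq_top (inferInstance : (Subgroup.center G).Normal) with h | h
    · exact h
    · exact absurd ⟨⟨fun a b => Subgroup.mem_center_iff.mp (h ▸ Subgroup.mem_top b) a⟩⟩ hG
  have hbot : Nat.card ↥(⊥ : Subgroup G) * Nat.card ↥(Subgroup.centralizer ((⊥ : Subgroup G) : Set G)) = Nat.card G := by
    rw [Subgroup.card_bot, one_mul, show Subgroup.centralizer ((⊥ : Subgroup G) : Set G) = ⊤ from
      top_le_iff.mp fun x _ h hh => by rw [Subgroup.mem_bot.mp hh, one_mul, mul_one], Subgroup.card_top]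
  have htop : Nat.card ↥(⊤ : Subgroup G) * Nat.card ↥(Subgroup.centralizer ((⊤ : Subgroup G) : Set G)) = Nat.card G := by
    rw [show Subgroup.centralizer ((⊤ : Subgroup G) : Set G) = ⊥ from le_bot_iff.mp fun x hx => by
      rw [← hZ]; exact Subgroup.mem_center_iff.mpr fun g => hx g (Subgroup.mem_top g),
      Subgroup.card_bot, mul_one, Subgroup.card_top]
  by_contra hlt
  -- some member of the lattice is proper and nontrivial
  obtain ⟨M₀, hM₀, hM₀1, hM₀2⟩ : ∃ M : Subgroup G, Cfsg.IsCentralizerLarge M ∧ M ≠ ⊥ ∧ M ≠ ⊤ := by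
    obtain ⟨M, hM⟩ := exists_centralizerLarge (P := G)
    by_cases hmax : Cfsg.maxCentralizerProduct G ≤ Nat.card G
    · exact ⟨A, centralizerLarge_of_le (hmax.trans (not_lt.mp hlt)), hA1, hA2⟩
    · refine ⟨M, hM, ?_, ?_⟩ <;> rintro rfl
      · exact hmax (hM ▸ hbot.le)
      · exact hmax (hM ▸ htop.le)
  obtain ⟨M, hM, hmax⟩ := (Set.toFinite {M : Subgroup G | Cfsg.IsCentralizerLarge M ∧ M ≠ ⊤}).exists_le_maximal
    (show M₀ ∈ _ from ⟨hM₀, hM₀2⟩)
  have hnorm : ∀ g : G, M.map (MulAut.conj g).toMonoidHom = M := by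
    intro g
    set M' := M.map (MulAut.conj g).toMonoidHom with hM'
    have hcard : Nat.card M' = Nat.card M :=
      (Nat.card_congr (M.equivMapOfInjective (MulAut.conj g).toMonoidHom (MulAut.conj g).injective).toEquiv).symm
    have hM'l : Cfsg.IsCentralizerLarge M' := by
      apply centralizerLarge_of_le
      rw [hcard, ← hmax.1.1]
      refine Nat.mul_le_mul_left _ ?_
      rw [Nat.card_congr ((Subgroup.centralizer (M : Set G)).equivMapOfInjective (MulAut.conj g).toMonoidHom (MulAut.conj g).injective).toEquiv]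
      apply Subgroup.card_le_of_le
      rintro _ ⟨c, hc, rfl⟩ _ ⟨m, hm, rfl⟩
      exact (congrArg (MulAut.conj g) (hc m hm)) |> (fun h => by simpa using h)
    have hne : M ⊔ M' ≠ ⊤ := by
      intro h
      have hmem : g⁻¹ ∈ ((M ⊔ M' : Subgroup G) : Set G) := by rw [h]; exact Set.mem_univ _
      rw [coe_sup_eq_mul hmax.1.1 hM'l] at hmem
      obtain ⟨a, ha, _, ⟨b, hb, rfl⟩, hab⟩ := hmem
      simp only [MulEquiv.coe_toMonoidHom, MulAut.conj_apply] at hab
      have hab' : a * g * b = 1 := by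
        calc a * g * b = (a * (g * b * g⁻¹)) * g := by group
          _ = g⁻¹ * g := by rw [hab]
          _ = 1 := inv_mul_cancel g
      have hg : g ∈ M := by
        have e : g = a⁻¹ * (a * g * b) * b⁻¹ := by group
        rw [e, hab', mul_one]
        exact M.mul_mem (M.inv_mem ha) (M.inv_mem hb)
      have hMM' : M' ≤ M := by
        rintro _ ⟨m, hm, rfl⟩
        exact M.mul_mem (M.mul_mem hg hm) (M.inv_mem hg)
      rw [sup_eq_left.mpr hMM'] at h
      exact hmax.1.2 h
    have h1 := hmax.2 ⟨centralizerLarge_sup hmax.1.1 hM'l, hne⟩ le_sup_left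
    exact eq_of_card M' M (le_sup_right.trans h1) hcard.ge
  have hn : M.Normal := ⟨fun n hn g => (hnorm g).le (Subgroup.mem_map_of_mem _ hn)⟩
  rcases hn.eq_bot_or_eq_top with h | h
  · exact hM₀1 (le_bot_iff.mp (h ▸ hM))
  · exact hmax.1.2 h

end Cfsg.Agent.S3036
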