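import Cfsg.Statements.S3037
import Cfsg.Agent.Lib.CentrallyLarge.Basic

set_option autoImplicit false
open Cfsg Cfsg.Agent.CentrallyLarge

namespace Cfsg.Agent.S3037

/-- Let V and G be subgroups of a finite group with V an elementary abelian p-group (p prime) on which G acts faithfully and irreducibly by conjugation: G normalizes V, G ∩ C(V) = 1, and the only subgroups of V normalized by G are 1 and V. If for some nontrivial subgroup A of G and some real α > 0 one has |V| ≤ |A|^α · |C_V(A)|, then |V| ≤ |G|^α. -/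
theorem result {X : Type*} [Group X] [Finite X] {p : ℕ} [Fact p.Prime] (V G : Subgroup X) (hV : Cfsg.IsElementaryAbelian p V)
    (hGV : G ≤ Subgroup.normalizer (V : Set X)) (hfaith : G ⊓ Subgroup.centralizer (V : Set X) = ⊥)
    (hirr : ∀ W : Subgroup X, W ≤ V → G ≤ Subgroup.normalizer (W : Set X) → W = ⊥ ∨ W = V)
    (A : Subgroup X) (hA : A ≤ G) (hA1 : A ≠ ⊥) (α : ℝ) (hα : 0 < α)
    (hbig : (Nat.card V : ℝ) ≤ (Nat.card A : ℝ) ^ α * (Nat.card ↥(V ⊓ Subgroup.centralizer (A : Set X)) : ℝ)) :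
    (Nat.card V : ℝ) ≤ (Nat.card G : ℝ) ^ α := by
  classical
  let c : Subgroup X → ℕ := fun H => Nat.card ↥(V ⊓ Subgroup.centralizer (H : Set X))
  let m : Subgroup X → ℝ := fun H => (Nat.card H : ℝ) ^ α * (c H : ℝ)
  obtain ⟨H₁, hH₁G, hH₁max⟩ := Set.exists_max_image {H : Subgroup X | H ≤ G} m (Set.toFinite _) ⟨⊥, show (⊥ : Subgroup X) ≤ G from bot_le⟩
  let S : Set (Subgroup X) := {H | H ≤ G ∧ m H = m H₁}
  have hsup : ∀ H ∈ S, ∀ K ∈ S, H ⊔ K ∈ S := by
    rintro H ⟨hHG, hH⟩ K ⟨hKG, hK⟩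
    refine ⟨sup_le hHG hKG, le_antisymm (hH₁max _ (sup_le hHG hKG)) ?_⟩
    have hinf : m (H ⊓ K) ≤ m H₁ := hH₁max _ (inf_le_left.trans hHG)
    have h1 : (Nat.card H * Nat.card K : ℝ) ≤ (Nat.card ↥(H ⊔ K) : ℝ) * Nat.card ↥(H ⊓ K) := by
      exact_mod_cast card_mul_card_le H K
    have h2 : c H * c K ≤ c (H ⊔ K) * c (H ⊓ K) := by
      refine (card_mul_card_le (V ⊓ Subgroup.centralizer (H : Set X)) (V ⊓ Subgroup.centralizer (K : Set X))).trans ?_
      rw [mul_comm]
      refine Nat.mul_le_mul (Subgroup.card_le_of_le ?_) (Subgroup.card_le_of_le ?_)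
      · rw [centralizer_sup]
        exact le_inf (inf_le_left.trans inf_le_left) (le_inf (inf_le_left.trans inf_le_right) (inf_le_right.trans inf_le_right))
      · exact sup_le (le_inf inf_le_left (inf_le_right.trans (Subgroup.centralizer_le (SetLike.coe_subset_coe.mpr inf_le_left))))
          (le_inf inf_le_left (inf_le_right.trans (Subgroup.centralizer_le (SetLike.coe_subset_coe.mpr inf_le_right))))
    have h3 : m H * m K ≤ m (H ⊔ K) * m (H ⊓ K) := by
      calc m H * m K = ((Nat.card H : ℝ) * Nat.card K) ^ α * ((c H * c K : ℕ) : ℝ) := by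
            simp only [m]
            rw [Real.mul_rpow (Nat.cast_nonneg _) (Nat.cast_nonneg _)]
            push_cast
            ring
        _ ≤ ((Nat.card ↥(H ⊔ K) : ℝ) * Nat.card ↥(H ⊓ K)) ^ α * ((c (H ⊔ K) * c (H ⊓ K) : ℕ) : ℝ) :=
            mul_le_mul (Real.rpow_le_rpow (by positivity) h1 hα.le) (by exact_mod_cast h2) (by positivity) (by positivity)
        _ = m (H ⊔ K) * m (H ⊓ K) := by
            simp only [m]
            rw [Real.mul_rpow (Nat.cast_nonneg _) (Nat.cast_nonneg _)]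
            push_cast
            ring
    have hpos : 0 < m H₁ := mul_pos (Real.rpow_pos_of_pos (by exact_mod_cast Nat.card_pos) α) (by exact_mod_cast Nat.card_pos)
    rw [hH, hK] at h3
    have h4 : m H₁ * m H₁ ≤ m (H ⊔ K) * m H₁ :=
      h3.trans (mul_le_mul_of_nonneg_left hinf (by positivity))
    exact le_of_mul_le_mul_right h4 hpos
  obtain ⟨H₀, -, hH₀⟩ := (Set.toFinite S).exists_le_maximal (show H₁ ∈ S from ⟨hH₁G, rfl⟩)
  have hgreat : ∀ K ∈ S, K ≤ H₀ := fun K hK =>
    le_sup_right.trans (hH₀.2 (hsup _ hH₀.1 _ hK) le_sup_left)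
  have hbig' : (Nat.card V : ℝ) ≤ m H₁ := hbig.trans (hH₁max A hA)
  have hne : H₀ ≠ ⊥ := by
    intro h0
    have hA' : A ∈ S := by
      refine ⟨hA, le_antisymm (hH₁max A hA) ?_⟩
      rw [← hH₀.1.2, h0]
      refine le_trans ?_ hbig
      have e : (Nat.card ↥(⊥ : Subgroup X) : ℝ) ^ α = 1 := by rw [Subgroup.card_bot, Nat.cast_one, Real.one_rpow]
      simp only [m, e, one_mul]
      exact_mod_cast Subgroup.card_le_of_le inf_le_left
    exact hA1 (le_bot_iff.mp (h0 ▸ hgreat A hA'))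
  -- conjugation by `G` preserves the maximisers
  have hinv : ∀ g ∈ G, ∀ x ∈ H₀, g * x * g⁻¹ ∈ H₀ := by
    intro g hg x hx
    refine hgreat (H₀.map (MulAut.conj g).toMonoidHom) ⟨?_, ?_⟩ (Subgroup.mem_map_of_mem _ hx)
    · rintro _ ⟨y, hy, rfl⟩
      exact G.mul_mem (G.mul_mem hg (hH₀.1.1 hy)) (G.inv_mem hg)
    · rw [← hH₀.1.2]
      refine le_antisymm ((hH₁max _ ?_).trans hH₀.1.2.ge) ?_
      · show H₀.map (MulAut.conj g).toMonoidHom ≤ G
        rintro _ ⟨y, hy, rfl⟩
        exact G.mul_mem (G.mul_mem hg (hH₀.1.1 hy)) (G.inv_mem hg)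
      · have hc : c H₀ ≤ c (H₀.map (MulAut.conj g).toMonoidHom) := by
          show Nat.card ↥(V ⊓ Subgroup.centralizer (H₀ : Set X)) ≤ _
          rw [Nat.card_congr ((V ⊓ Subgroup.centralizer (H₀ : Set X)).equivMapOfInjective
            (MulAut.conj g).toMonoidHom (MulAut.conj g).injective).toEquiv]
          apply Subgroup.card_le_of_le
          rintro _ ⟨v, ⟨hv1, hv2⟩, rfl⟩
          refine ⟨(Subgroup.mem_normalizer_iff.mp (hGV hg) v).mp hv1, ?_⟩
          rintro _ ⟨y, hy, rfl⟩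
          exact ((show Commute y v from hv2 y hy).map (MulAut.conj g).toMonoidHom).eq
        have hk : Nat.card (H₀.map (MulAut.conj g).toMonoidHom) = Nat.card H₀ :=
          (Nat.card_congr (H₀.equivMapOfInjective (MulAut.conj g).toMonoidHom (MulAut.conj g).injective).toEquiv).symm
        simp only [m, hk]
        exact mul_le_mul_of_nonneg_left (by exact_mod_cast hc) (by positivity)
  have hW : G ≤ Subgroup.normalizer ((V ⊓ Subgroup.centralizer (H₀ : Set X) : Subgroup X) : Set X) := by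
    intro g hg
    apply Subgroup.mem_normalizer_fintype
    rintro v ⟨hv1, hv2⟩
    refine ⟨(Subgroup.mem_normalizer_iff.mp (hGV hg) v).mp hv1, ?_⟩
    intro y hy
    have h := hinv g⁻¹ (G.inv_mem hg) y hy
    rw [inv_inv] at h
    have hcm : Commute (g * (g⁻¹ * y * g) * g⁻¹) (g * v * g⁻¹) :=
      (show Commute (g⁻¹ * y * g) v from hv2 _ h).map (MulAut.conj g).toMonoidHom
    rw [show g * (g⁻¹ * y * g) * g⁻¹ = y by group] at hcm
    exact hcm.eq
  rcases hirr _ inf_le_left hW with h | h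
  · have h5 : c H₀ = 1 := by
      show Nat.card ↥(V ⊓ Subgroup.centralizer (H₀ : Set X)) = 1
      rw [h, Subgroup.card_bot]
    refine hbig'.trans ?_
    rw [← hH₀.1.2]
    simp only [m, h5, Nat.cast_one, mul_one]
    exact Real.rpow_le_rpow (Nat.cast_nonneg _) (by exact_mod_cast Subgroup.card_le_of_le hH₀.1.1) hα.le
  · exfalso
    apply hne
    rw [eq_bot_iff, ← hfaith]
    exact le_inf hH₀.1.1 (Subgroup.le_centralizer_iff.mp (h ▸ inf_le_right))

end Cfsg.Agent.S3037
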