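import Cfsg.Statements.S3038
import Cfsg.Agent.EqLemmas
import Cfsg.Agent.S3049
import Cfsg.Agent.Lib.IsolatedRankTwo.Main

set_option autoImplicit false
open Cfsg

namespace Cfsg.Agent.S3038

/-- Let G be a finite group and p an odd prime with O_{p'}(G) = 1. Suppose that G has p-rank at most 2 and that some element x of order p is isolated in G and not central. Then F*(G) is a non-abelian simple group, and for every Sylow p-subgroup P of F*(G), either no conjugate of x lies in P and P is cyclic, or some conjugate of x lies in P and either P is extraspecial of order p³ and exponent p, or p = 3 and P has order 3^{2k+1} for some k ≥ 2 and is of maximal class (nilpotency class 2k). Since O_{p'}(G) = 1, such an x is not central modulo O_{p'}(G): the hypotheses describe a counterexample to the Z*_p statement in p-rank at most 2, and the conclusion records the structure it would have. -/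
theorem result {G : Type*} [Group G] [Finite G] {p : ℕ} [Fact p.Prime] (hp : p ≠ 2) (hcore : Cfsg.pPrimeCore p G = ⊥)
    (hrank : Cfsg.PRankLE p 2 G) (x : G) (hx : orderOf x = p) (hiso : Cfsg.IsIsolated x) (hnc : x ∉ Subgroup.center G) :
    IsSimpleGroup ↥(Cfsg.generalizedFittingSubgroup G) ∧ ¬ IsMulCommutative ↥(Cfsg.generalizedFittingSubgroup G) ∧
    ∀ P : Sylow p ↥(Cfsg.generalizedFittingSubgroup G),
      ((∀ g : G, g * x * g⁻¹ ∉ ((P : Subgroup ↥(Cfsg.generalizedFittingSubgroup G)).map (Cfsg.generalizedFittingSubgroup G).subtype)) ∧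
          IsCyclic ↥(P : Subgroup ↥(Cfsg.generalizedFittingSubgroup G))) ∨
      ((∃ g : G, g * x * g⁻¹ ∈ ((P : Subgroup ↥(Cfsg.generalizedFittingSubgroup G)).map (Cfsg.generalizedFittingSubgroup G).subtype)) ∧
        ((Cfsg.IsExtraspecial p ↥(P : Subgroup ↥(Cfsg.generalizedFittingSubgroup G)) ∧
            Nat.card (P : Subgroup ↥(Cfsg.generalizedFittingSubgroup G)) = p ^ 3 ∧
            ∀ y ∈ (P : Subgroup ↥(Cfsg.generalizedFittingSubgroup G)), y ^ p = 1) ∨
         (p = 3 ∧ ∃ k : ℕ, 2 ≤ k ∧ Nat.card (P : Subgroup ↥(Cfsg.generalizedFittingSubgroup G)) = 3 ^ (2 * k + 1) ∧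
            ∃ _ : Group.IsNilpotent ↥(P : Subgroup ↥(Cfsg.generalizedFittingSubgroup G)),
              Group.nilpotencyClass ↥(P : Subgroup ↥(Cfsg.generalizedFittingSubgroup G)) = 2 * k))) := by
  have hpp : p.Prime := Fact.out
  obtain ⟨hsimp, hncomm⟩ := Cfsg.Agent.S3049.result hp hcore hrank x hx hiso hnc
  revert hsimp hncomm
  generalize Cfsg.generalizedFittingSubgroup G = F
  intro hsimp hncomm
  refine ⟨hsimp, hncomm, fun P => ?_⟩
  haveI := hsimp
  set S := (P : Subgroup ↥F).map F.subtype with hS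
  have hSp : IsPGroup p S := P.isPGroup'.map _
  have hconj : ∀ g : G, orderOf (g * x * g⁻¹) = p ∧ Cfsg.IsIsolated (g * x * g⁻¹) := by
    intro g
    have ho : orderOf (g * x * g⁻¹) = p := by
      rw [← hx]
      exact orderOf_injective (MulAut.conj g).toMonoidHom (MulAut.conj g).injective x
    refine ⟨ho, fun h hc => ?_⟩
    have e : h * (g * x * g⁻¹) * h⁻¹ = g * ((g⁻¹ * h * g) * x * (g⁻¹ * h * g)⁻¹) * g⁻¹ := by group
    have hc' : Commute x ((g⁻¹ * h * g) * x * (g⁻¹ * h * g)⁻¹) := by
      rw [e] at hc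
      simpa [mul_assoc] using hc.map (MulAut.conj g⁻¹).toMonoidHom
    rw [e, hiso _ hc']
  have hxp : ∀ g : G, (g * x * g⁻¹) ^ p = 1 := fun g => orderOf_dvd_iff_pow_eq_one.mp (hconj g).1.dvd
  by_cases hmem : ∃ g : G, g * x * g⁻¹ ∈ S
  · refine Or.inr ⟨hmem, ?_⟩
    obtain ⟨g, ⟨y, hyP, hy⟩⟩ := hmem
    have hperf : _root_.commutator ↥F = ⊤ := by
      refine ((inferInstance : (_root_.commutator ↥F).Normal).eq_bot_or_eq_top).resolve_left fun hb => hncomm ?_
      exact (commutator_eq_bot_iff ↥F).mp hb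
    have hrk : Cfsg.PRankLE p 2 ↥F := fun E hE hEe => by
      rw [← Subgroup.card_map_of_injective (f := F.subtype) F.subtype_injective]
      haveI := hE
      refine hrank _ inferInstance ?_
      rintro _ ⟨b, hb, rfl⟩
      rw [← map_pow, hEe b hb, map_one]
    have hyo : orderOf y = p := by rw [← Subgroup.orderOf_coe, show (y : G) = g * x * g⁻¹ from hy]; exact (hconj g).1
    have hyi : Cfsg.IsIsolated y := fun h hc => Subtype.ext (by
      have h1 := (hconj g).2 (h : G) (by rw [← hy]; exact hc.map F.subtype)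
      rw [← hy] at h1
      exact h1)
    rcases IsolatedRankTwo.sylow_structure (K := ↥F) (P := P) (x := y) ⟨hp, hrk, hyP, hyo, hyi⟩ hperf with
      ⟨h1, h2, h3⟩ | h4
    · exact Or.inl ⟨h1, h2, fun z hz => congrArg Subtype.val (h3 ⟨z, hz⟩)⟩
    · exact Or.inr h4
  · refine Or.inl ⟨fun g hg => hmem ⟨g, hg⟩, ?_⟩
    push Not at hmem
    -- a conjugate centralizing `S`
    obtain ⟨Q, hQ⟩ := hSp.exists_le_sylow
    obtain ⟨R, hR⟩ := (Isolated.isPGroup_zpowers (p := p) (x := x) (k := 1) (by rw [pow_one]; exact hx)).exists_le_sylow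
    obtain ⟨g, hg⟩ := MulAction.exists_smul_eq G R Q
    have hgQ : g * x * g⁻¹ ∈ (Q : Subgroup G) := by
      rw [← hg]
      exact ⟨x, hR (Subgroup.mem_zpowers x), rfl⟩
    have hcen : ∀ u ∈ S, Commute (g * x * g⁻¹) u := fun u hu =>
      (Subgroup.mem_centralizer_singleton_iff.mp
        (Isolated.commute_of_mem_pGroup (hconj g).2 Q.isPGroup' hgQ (hQ hu))).symm
    refine Isolated.isCyclic_of_unique hp _ (P : Subgroup ↥F) P.isPGroup' le_rfl fun a b ha hap hbp => ?_
    have hval : ∀ c : (P : Subgroup ↥F), ((c : ↥F) : G) ∈ S := fun c => ⟨c, c.2, rfl⟩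
    -- a central element of order `p`
    haveI : Nontrivial (P : Subgroup ↥F) := ⟨a, 1, ha⟩
    obtain ⟨z, hz⟩ := exists_prime_orderOf_dvd_card' p (G := Subgroup.center (P : Subgroup ↥F)) (by
      obtain ⟨k, hk, hc⟩ := (P.isPGroup'.to_subgroup (Subgroup.center _)).nontrivial_iff_card.mp
        P.isPGroup'.center_nontrivial
      exact hc ▸ dvd_pow_self p hk.ne')
    set zG : G := (((z : (P : Subgroup ↥F)) : ↥F) : G) with hzG
    have hzo : orderOf zG = p := by rw [hzG, Subgroup.orderOf_coe, Subgroup.orderOf_coe, Subgroup.orderOf_coe, hz]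
    have key : ∀ c : (P : Subgroup ↥F), c ^ p = 1 → ((c : ↥F) : G) ∈ Subgroup.zpowers zG := by
      intro c hc
      by_contra hne
      have hco : orderOf ((c : ↥F) : G) = p := by
        rw [Subgroup.orderOf_coe, Subgroup.orderOf_coe]
        exact orderOf_eq_prime hc fun e => hne (by simp [e])
      obtain ⟨i, j, hij⟩ := Cfsg.Agent.S3049.dependent hrank (hxp g) hzo hco (hcen _ (hval _)) (hcen _ (hval _))
        (show Commute zG ((c : ↥F) : G) from
          (congrArg (fun t : (P : Subgroup ↥F) => ((t : ↥F) : G)) (Subgroup.mem_center_iff.mp z.2 c) :).symm) hne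
      exact hmem g (hij ▸ mul_mem (zpow_mem (hval _) i) (zpow_mem (hval _) j))
    obtain ⟨n, hn⟩ := Resist.exists_pow_eq (p := p) (c := zG) (d := ((a : ↥F) : G))
      (hzo ▸ pow_orderOf_eq_one zG) (key a hap) (fun e => ha (Subtype.ext (Subtype.ext e)))
    obtain ⟨i, hi⟩ := key b hbp
    refine ⟨(n : ℤ) * i, Subtype.ext (Subtype.ext ?_)⟩
    show (((a ^ ((n : ℤ) * i) : (P : Subgroup ↥F)) : ↥F) : G) = ((b : ↥F) : G)
    rw [Subgroup.coe_zpow, Subgroup.coe_zpow, zpow_mul, zpow_natCast, hn]
    exact hi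

end Cfsg.Agent.S3038
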