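import Cfsg.Agent.Lib.TICount.Two
import Cfsg.Agent.Lib.TICount.Big
import Cfsg.Agent.EqLemmas

set_option autoImplicit false
open Cfsg

namespace Cfsg.Agent.S3043

/-- Let M be a nontrivial subgroup of a finite group G meeting each of its other conjugates trivially, with N_G(M) = M · C_{N_G(M)}(z) for some involution z ∈ N_G(M), and with C_G(x) of odd order for every nontrivial x ∈ M. Then one of the following holds: M is normal in G; the number of involutions of G is at most |G : M|; G is isomorphic to PGL₂(F) or to PSL₂(F) for a finite field F with |F| = |M|, M is an elementary abelian p-group for the characteristic p of F, and |F| ≡ 1 (mod 4) in the PSL₂ case; G is isomorphic to PSL₂(F) with |F| = 2^e, e > 1, and M is cyclic of order 2^e + 1; or for some d ≥ 1, G has an elementary abelian normal subgroup of order 2^{2d} complemented by N_G(M), and N_G(M) is dihedral of order 2(2^d + 1). -/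
theorem result {G : Type*} [Group G] [Finite G] (M : Subgroup G) (hM1 : M ≠ ⊥)
    (hTI : ∀ g : G, M ⊓ M.map (MulAut.conj g).toMonoidHom ≠ ⊥ → M.map (MulAut.conj g).toMonoidHom = M)
    (z : G) (hz : orderOf z = 2) (hzN : z ∈ Subgroup.normalizer (M : Set G))
    (hfac : M ⊔ (Subgroup.normalizer (M : Set G) ⊓ Subgroup.centralizer ({z} : Set G)) = Subgroup.normalizer (M : Set G))
    (hodd : ∀ x ∈ M, x ≠ 1 → Odd (Nat.card ↥(Subgroup.centralizer ({x} : Set G)))) :
    M.Normal ∨
    Nat.card {g : G // orderOf g = 2} ≤ M.index ∨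
    (∃ (F : Type) (_ : Field F) (_ : Fintype F) (p : ℕ) (_ : Fact p.Prime) (_ : CharP F p), Fintype.card F = Nat.card M ∧ Cfsg.IsElementaryAbelian p M ∧
        (Nonempty (G ≃* (GL (Fin 2) F ⧸ Subgroup.center (GL (Fin 2) F))) ∨
         (Fintype.card F % 4 = 1 ∧ Nonempty (G ≃* Matrix.ProjectiveSpecialLinearGroup (Fin 2) F)))) ∨
    (∃ (F : Type) (_ : Field F) (_ : Fintype F) (e : ℕ), 1 < e ∧ Fintype.card F = 2 ^ e ∧ IsCyclic ↥M ∧ Nat.card M = 2 ^ e + 1 ∧
        Nonempty (G ≃* Matrix.ProjectiveSpecialLinearGroup (Fin 2) F)) ∨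
    (∃ (d : ℕ) (E : Subgroup G), 1 ≤ d ∧ E.Normal ∧ Cfsg.IsElementaryAbelian 2 E ∧ Nat.card E = 2 ^ (2 * d) ∧
        E ⊓ Subgroup.normalizer (M : Set G) = ⊥ ∧ E ⊔ Subgroup.normalizer (M : Set G) = ⊤ ∧
        Nonempty (↥(Subgroup.normalizer (M : Set G)) ≃* DihedralGroup (2 ^ d + 1))) := by
  by_cases hn : M.Normal
  · exact Or.inl hn
  by_cases hc : Nat.card {g : G // orderOf g = 2} ≤ M.index
  · exact Or.inr (Or.inl hc)
  push Not at hc
  haveI := Fintype.ofFinite G
  have hti : ∀ g x : G, x ∈ M → x ≠ 1 → g * x * g⁻¹ ∈ M → g ∈ Subgroup.normalizer (M : Set G) := by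
    intro g x hx hx1 hgx
    have h1 : M ⊓ M.map (MulAut.conj g).toMonoidHom ≠ ⊥ := fun e => hx1 (by
      have h2 : g * x * g⁻¹ ∈ M ⊓ M.map (MulAut.conj g).toMonoidHom :=
        ⟨hgx, Subgroup.mem_map.2 ⟨x, hx, rfl⟩⟩
      rw [e, Subgroup.mem_bot] at h2
      exact conj_eq_one_iff.1 h2)
    refine Subgroup.mem_normalizer_iff.2 fun y => ?_
    conv_rhs => rw [← hTI g h1]
    constructor
    · exact fun hy => Subgroup.mem_map.2 ⟨y, hy, rfl⟩
    · intro hy
      obtain ⟨w, hw, e⟩ := Subgroup.mem_map.1 hy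
      have : w = y := (MulAut.conj g).injective e
      exact this ▸ hw
  have hfac' : ∀ g ∈ Subgroup.normalizer (M : Set G), ∃ x ∈ M,
      ∃ c ∈ Subgroup.normalizer (M : Set G) ⊓ Subgroup.centralizer ({z} : Set G), g = x * c := by
    intro g hg
    rw [← hfac, ← SetLike.mem_coe, Subgroup.coe_mul_of_right_le_normalizer_left M _ inf_le_left] at hg
    obtain ⟨x, hx, c, hc', rfl⟩ := hg
    exact ⟨x, hx, c, hc', rfl⟩
  let E : TICount.Setup G :=
    { M := M, z := z, ne_bot := hM1, ti := hti, z_inv := hz, z_mem := hzN, fac := hfac',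
      odd := hodd, not_top := fun e => hn (Subgroup.normalizer_eq_top_iff.1 e), many := hc }
  by_cases hh : E.h = 2
  · rcases E.sigma_cases hh with ⟨h1, h2⟩ | ⟨h1, h2⟩
    · exact Or.inr (Or.inr (Or.inr (Or.inr (E.caseA hh h1 h2))))
    · exact Or.inr (Or.inr (Or.inr (Or.inl (E.caseB hh h1 h2))))
  · exact Or.inr (Or.inr (Or.inl (E.caseBig hh)))

end Cfsg.Agent.S3043
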