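import Cfsg.Statements.S3045
import Cfsg.Agent.Lib.IsolatedPMinimal.Transfer

set_option autoImplicit false
open Cfsg
open Cfsg.Agent

namespace Cfsg.Agent.S3045

/-- Let G be a finite group, p a prime, S a Sylow p-subgroup of G and P a p-minimal subgroup of G containing S. Let L be the subgroup generated by N_G(S) and all p-minimal subgroups of G containing S other than P, and suppose O_p(L) is not contained in O_p(P). Put Y for the normal closure of O^p(P) in G. Then O^p(P) is contained in the preimage in G of F*(G/O_p(G)); and if Y is solvable, then Y = O^p(P) and Y/O_p(Y) is a t-group of nilpotency class at most 2 for some prime t ≠ p. -/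
theorem result {G : Type*} [Group G] [Finite G] {p : ℕ} [Fact p.Prime] (S : Sylow p G) (P : Subgroup G) (hSP : (S : Subgroup G) ≤ P) (hPmin : Cfsg.IsPMinimal p ↥P)
    (L Y : Subgroup G)
    (hL : L = Subgroup.normalizer ((S : Subgroup G) : Set G) ⊔ ⨆ P' : {P' : Subgroup G // (S : Subgroup G) ≤ P' ∧ Cfsg.IsPMinimal p ↥P' ∧ P' ≠ P}, (P' : Subgroup G))
    (hiso : ¬ (Cfsg.pCore p ↥L).map L.subtype ≤ (Cfsg.pCore p ↥P).map P.subtype)
    (hY : Y = Subgroup.normalClosure (((Cfsg.pResidual p ↥P).map P.subtype : Subgroup G) : Set G)) [hn : (Cfsg.pCore p G).Normal] :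
    (Cfsg.pResidual p ↥P).map P.subtype ≤ (Cfsg.generalizedFittingSubgroup (G ⧸ Cfsg.pCore p G)).comap (QuotientGroup.mk' (Cfsg.pCore p G)) ∧
    (Group.IsSolvable ↥Y → (Cfsg.pResidual p ↥P).map P.subtype = Y ∧
       ∃ _ : (Cfsg.pCore p ↥Y).Normal, ∃ t : ℕ, t.Prime ∧ t ≠ p ∧ IsPGroup t (↥Y ⧸ Cfsg.pCore p ↥Y) ∧
         ∃ _ : Group.IsNilpotent (↥Y ⧸ Cfsg.pCore p ↥Y), Group.nilpotencyClass (↥Y ⧸ Cfsg.pCore p ↥Y) ≤ 2) := by
  have h : IsolatedPMinimal.Setting p S P L Y := ⟨hSP, hPmin, hL, hiso, hY⟩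
  have hYb : (Y.map (QuotientGroup.mk' (Cfsg.pCore p G))).Normal :=
    Subgroup.Normal.map h.normal _ (QuotientGroup.mk'_surjective _)
  refine ⟨?_, fun hs => ?_⟩
  · refine h.res_le.trans (Subgroup.map_le_iff_le_comap.1 ?_)
    rcases h.dichotomy with ⟨-, r, hr, -, hrY, -⟩ | ⟨-, hlay, -, -⟩
    · have := Fact.mk hr
      exact (le_sSup (show _ ∈ {N : Subgroup (G ⧸ Cfsg.pCore p G) | N.Normal ∧ Group.IsNilpotent ↥N} from
        ⟨hYb, hrY.isNilpotent⟩)).trans (Components.fitting_le_genFitting)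
    · have hle := Components.layer_map_subtype_le hYb.isSubnormal
      rw [hlay, ← MonoidHom.range_eq_map, Subgroup.range_subtype] at hle
      exact hle.trans Components.layer_le_genFitting
  · rcases IsolatedPMinimal.conclusion h with ⟨e, e'⟩ | ⟨e, -⟩
    · exact ⟨e, e'⟩
    · exact absurd hs e

end Cfsg.Agent.S3045
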