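import Cfsg.Statements.S3047
import Cfsg.Agent.EqLemmas
import Cfsg.Agent.Lib.PMinimalCentre.Main

set_option autoImplicit false
open Cfsg

namespace Cfsg.Agent.S3047

/-- Let p ≥ 5 be a prime, G a finite group all of whose composition factors are known simple groups, S a Sylow p-subgroup and P a p-minimal subgroup of G containing S such that O^p(P/O_p(P)) is isomorphic to SL₂(pᵃ), PSL₂(pᵃ), SU₃(pᵃ) or PSU₃(pᵃ) for some a ≥ 1. Let L be the subgroup generated by N_G(S) and the p-minimal subgroups of G containing S other than P. Then either O^p(P) is normal in G, or every p-element of the centre of L lies in O_p(P). -/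
theorem result {G : Type*} [Group G] [Finite G] {p : ℕ} [Fact p.Prime] (hp : 5 ≤ p) (hK : Cfsg.IsCompositionKGroup G)
    (S : Sylow p G) (P : Subgroup G) (hSP : (S : Subgroup G) ≤ P) (hPmin : Cfsg.IsPMinimal p ↥P) [hn : (Cfsg.pCore p ↥P).Normal]
    (hrk1 : ∃ (F : Type) (_ : Field F) (_ : Fintype F) (a : ℕ), 1 ≤ a ∧
      ((Fintype.card F = p ^ a ∧ (Nonempty (↥(Cfsg.pResidual p (↥P ⧸ Cfsg.pCore p ↥P)) ≃* Matrix.SpecialLinearGroup (Fin 2) F) ∨
                                  Nonempty (↥(Cfsg.pResidual p (↥P ⧸ Cfsg.pCore p ↥P)) ≃* Matrix.ProjectiveSpecialLinearGroup (Fin 2) F))) ∨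
       (Fintype.card F = p ^ (2 * a) ∧ (Nonempty (↥(Cfsg.pResidual p (↥P ⧸ Cfsg.pCore p ↥P)) ≃* ↥(Cfsg.SU 3 F (p ^ a))) ∨
                                        Nonempty (↥(Cfsg.pResidual p (↥P ⧸ Cfsg.pCore p ↥P)) ≃* Cfsg.PSU 3 F (p ^ a))))))
    (L : Subgroup G)
    (hL : L = Subgroup.normalizer ((S : Subgroup G) : Set G) ⊔ ⨆ P' : {P' : Subgroup G // (S : Subgroup G) ≤ P' ∧ Cfsg.IsPMinimal p ↥P' ∧ P' ≠ P}, (P' : Subgroup G)) :
    ((Cfsg.pResidual p ↥P).map P.subtype).Normal ∨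
    ∀ z ∈ L ⊓ Subgroup.centralizer (L : Set G), (∃ k : ℕ, orderOf z = p ^ k) → z ∈ (Cfsg.pCore p ↥P).map P.subtype := by
  refine Or.inr fun z hz hord => ?_
  classical
  obtain ⟨k, hk⟩ := hord
  obtain ⟨hzL, hzC⟩ := Subgroup.mem_inf.1 hz
  have hNL : Subgroup.normalizer ((S : Subgroup G) : Set G) ≤ L := hL ▸ le_sup_left
  have hcommL : ∀ g ∈ L, g * z = z * g := fun g hg => Subgroup.mem_centralizer_iff.1 hzC g hg
  -- `z` lies in `S`
  have hzN : Subgroup.zpowers z ≤ Subgroup.normalizer ((S : Subgroup G) : Set G) := by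
    rw [Subgroup.zpowers_le]
    refine Subgroup.mem_normalizer_fintype fun x hx => ?_
    rw [← hcommL x (hNL (Subgroup.le_normalizer hx)), mul_inv_cancel_right]
    exact hx
  have hzS : z ∈ (S : Subgroup G) := by
    have hzp : IsPGroup p ↥(Subgroup.zpowers z) :=
      IsPGroup.of_card (n := k) (by rw [Nat.card_zpowers, hk])
    have h := S.is_maximal' (hzp.to_sup_of_normal_right' S.isPGroup' hzN) le_sup_right
    exact h ▸ (le_sup_left (b := (S : Subgroup G))) (Subgroup.mem_zpowers z)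
  let zP : ↥P := ⟨z, hSP hzS⟩
  refine ⟨zP, ?_, rfl⟩
  -- pass to the quotient
  let π := QuotientGroup.mk' (Cfsg.pCore p ↥P)
  have hπ : Function.Surjective π := QuotientGroup.mk'_surjective _
  let T := (S.subtype hSP).mapSurjective hπ
  have hzT : π zP ∈ (T : Subgroup (↥P ⧸ Cfsg.pCore p ↥P)) := ⟨zP, hzS, rfl⟩
  suffices h : π zP = 1 from (QuotientGroup.eq_one_iff zP).1 h
  haveI := PReduced.pResidual_normal p (↥P ⧸ Cfsg.pCore p ↥P)
  obtain ⟨M, _, _, C, ψ, hψ, hcent, hchar, hcard⟩ := PMinimalCentre.exists_crit hp hrk1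
  refine PMinimalCentre.eq_one_of_commute_normalizer T (PReduced.pResidual_sup_sylow T)
    (Cores.pCore_quotient_self p ↥P) C ψ hψ hcent hchar hcard hzT fun g hg => ?_
  obtain ⟨g, rfl⟩ := hπ g
  have hgN : (g : G) ∈ Subgroup.normalizer ((S : Subgroup G) : Set G) := by
    refine Subgroup.mem_normalizer_fintype fun x hx => ?_
    obtain ⟨t, ht, ht'⟩ := (Subgroup.mem_normalizer_iff.1 hg (π ⟨x, hSP hx⟩)).1 ⟨⟨x, hSP hx⟩, hx, rfl⟩
    rw [← map_inv, ← map_mul, ← map_mul] at ht'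
    have h1 := (Cores.pCore_le_sylow (S.subtype hSP)) (QuotientGroup.eq.1 ht')
    have h2 := mul_mem (show (t : G) ∈ (S : Subgroup G) from ht) (show ((t⁻¹ * (g * ⟨x, hSP hx⟩ * g⁻¹) : ↥P) : G) ∈ (S : Subgroup G) from h1)
    show (g : G) * x * (g : G)⁻¹ ∈ (S : Subgroup G)
    simpa using h2
  rw [← map_mul, ← map_mul]
  exact congrArg π (Subtype.ext (hcommL g (hNL hgN)))

end Cfsg.Agent.S3047
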