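import Cfsg.Statements.S3048
import Cfsg.Agent.Lib.Cores.Basic
import Cfsg.Agent.Lib.PGroup.Basic
import Cfsg.Agent.Lib.Components.GenFitting
import Cfsg.Agent.Lib.Solvable.Basic

set_option autoImplicit false
universe u
open Cfsg

namespace Cfsg.Agent.S3048

open Cfsg.Agent

section Helpers

set_option linter.unusedSectionVars false

open Subgroup

variable {G : Type u} [Group G] [Finite G]

omit [Finite G] in
theorem odd_orderOf_mul {x y : G} (h : Commute x y) (hx : Odd (orderOf x)) (hy : Odd (orderOf y)) :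
    Odd (orderOf (x * y)) :=
  Odd.of_dvd_nat (Odd.of_dvd_nat (hx.mul hy) (Nat.lcm_dvd_mul _ _)) h.orderOf_mul_dvd_lcm

omit [Finite G] in
theorem eq_one_of_odd {h : G} (hodd : Odd (orderOf h)) (h2 : h * h = 1) : h = 1 := by
  rw [← orderOf_eq_one_iff]
  have hd : orderOf h ∣ 2 := orderOf_dvd_of_pow_eq_one (by rw [pow_two]; exact h2)
  rcases (Nat.dvd_prime Nat.prime_two).mp hd with e | e
  · exact e
  · rw [e] at hodd; exact absurd hodd (by decide)

theorem exists_odd {N : Subgroup G} (hN : ¬ IsPGroup 2 N) : ∃ x ∈ N, x ≠ 1 ∧ Odd (orderOf x) := by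
  by_contra hc
  push Not at hc
  refine hN fun x => ?_
  obtain ⟨a, b, hb, hab⟩ := Nat.exists_eq_two_pow_mul_odd (orderOf_pos (x : G)).ne'
  refine ⟨a, Subtype.ext ?_⟩
  by_contra hne
  refine hc _ (pow_mem x.2 (2 ^ a)) hne ?_
  rw [orderOf_pow, hab, Nat.gcd_eq_right (Dvd.intro b rfl), Nat.mul_div_cancel_left _ (Nat.two_pow_pos a)]
  exact hb

/-- An element of odd order in `E ⊔ W` lies in `E` when `W` is an elementary `2`-group normalising `E`. -/
theorem mem_of_odd {E W : Subgroup G} (hW : W ≤ normalizer (E : Set G)) (hW2 : ∀ w ∈ W, w * w = 1) {h : G}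
    (hh : h ∈ E ⊔ W) (hodd : Odd (orderOf h)) : h ∈ E := by
  have hsq : h * h ∈ E := by
    have hh' : h ∈ (W ⊔ E : Subgroup G) := by rwa [sup_comm]
    rw [← SetLike.mem_coe, coe_mul_of_left_le_normalizer_right _ _ hW] at hh'
    obtain ⟨w, hw, e, he, rfl⟩ := hh'
    have hwi : w⁻¹ = w := inv_eq_of_mul_eq_one_right (hW2 w hw)
    have := E.mul_mem ((mem_normalizer_iff.mp (hW hw) e).mp he) he
    rwa [hwi, mul_assoc (w * e) w e, mul_assoc w e (w * e), ← mul_assoc] at this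
  obtain ⟨k, hk⟩ := hodd
  have h1 : h = ((h * h) ^ k)⁻¹ := by
    refine eq_inv_of_mul_eq_one_left ?_
    rw [← pow_two, ← pow_mul, ← pow_succ', ← hk, pow_orderOf_eq_one]
  rw [h1]
  exact E.inv_mem (E.pow_mem hsq k)

/-- An element of `O₂(H)` centralises any `S ≤ H` that it normalises, `H` normalises and has `O₂(S) = 1`. -/
theorem commute_of_mem_core {H S : Subgroup G} (hSH : S ≤ H) (hn : H ≤ normalizer (S : Set G))
    (hO : Cfsg.pCore 2 ↥S = ⊥) {a : G} (ha : a ∈ H) (hac : (⟨a, ha⟩ : ↥H) ∈ Cfsg.pCore 2 ↥H) :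
    ∀ x ∈ S, a * x = x * a := by
  intro x hx
  set Q := (Cfsg.pCore 2 ↥H).map H.subtype with hQ
  have haQ : a ∈ Q := ⟨_, hac, rfl⟩
  have hHQ : H ≤ normalizer (Q : Set G) := fun g hg => mem_normalizer_fintype fun y hy => by
    obtain ⟨y', hy', rfl⟩ := hy
    exact ⟨⟨g, hg⟩ * y' * ⟨g, hg⟩⁻¹, (pCore_normal 2 ↥H).conj_mem y' hy' _, rfl⟩
  set X := (Q ⊓ S).subgroupOf S
  have hX : X.Normal := by
    refine normal_subgroupOf_iff_le_normalizer inf_le_right |>.mpr fun g hg => mem_normalizer_fintype fun y hy => ?_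
    exact ⟨(mem_normalizer_iff.mp (hHQ (hSH hg)) y).mp hy.1, S.mul_mem (S.mul_mem hg hy.2) (S.inv_mem hg)⟩
  have hXp : IsPGroup 2 X :=
    (((Cores.isPGroup_pCore 2 ↥H).map _).to_le (inf_le_left : Q ⊓ S ≤ Q)).comap_subtype
  have hXbot : X = ⊥ := le_bot_iff.mp (hO ▸ Cores.le_pCore hX hXp)
  have hc : a * x * a⁻¹ * x⁻¹ ∈ Q ⊓ S := by
    refine ⟨?_, S.mul_mem ((mem_normalizer_iff.mp (hn ha) x).mp hx) (S.inv_mem hx)⟩
    rw [show a * x * a⁻¹ * x⁻¹ = a * (x * a⁻¹ * x⁻¹) by group]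
    exact Q.mul_mem haQ ((mem_normalizer_iff.mp (hHQ (hSH hx)) _).mp (Q.inv_mem haQ))
  have h1 : (⟨_, hc.2⟩ : ↥S) ∈ X := hc
  rw [hXbot, mem_bot] at h1
  exact mul_inv_eq_iff_eq_mul.mp (mul_inv_eq_one.mp (congrArg Subtype.val h1))

/-- `O₂` of a normal subgroup is trivial when `O₂(G)` is. -/
theorem pCore_normal_eq_bot (hO : Cfsg.pCore 2 G = ⊥) (N : Subgroup G) [N.Normal] : Cfsg.pCore 2 ↥N = ⊥ := by
  rw [← map_eq_bot_iff_of_injective _ N.subtype_injective, Cores.pCore_map_subtype, hO, bot_inf_eq]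

/-- Odd order elements of a quotient inverted by the image of an involution lift to inverted odd order elements. -/
theorem exists_lift (N : Subgroup G) [N.Normal] {v : G} (hv : v * v = 1) {hb : G ⧸ N}
    (hodd : Odd (orderOf hb)) (hinv : (v : G ⧸ N) * hb * (v : G ⧸ N)⁻¹ = hb⁻¹) :
    ∃ x : G, Odd (orderOf x) ∧ v * x * v⁻¹ = x⁻¹ ∧ (x : G ⧸ N) = hb := by
  obtain ⟨j, hj⟩ := hodd
  obtain ⟨k, hk⟩ := QuotientGroup.mk_surjective (hb ^ (j + 1))
  have hvi : v⁻¹ = v := inv_eq_of_mul_eq_one_right hv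
  set x₀ := v * (k⁻¹ * v * k) with hx₀
  have hmk : (x₀ : G ⧸ N) = hb := by
    have h1 : (v : G ⧸ N) * (hb ^ (j + 1))⁻¹ * (v : G ⧸ N)⁻¹ = hb ^ (j + 1) := by
      rw [← inv_pow, ← conj_pow]
      congr 1
      rw [← conj_inv, hinv, inv_inv]
    have h2 : hb ^ (j + 1) * hb ^ (j + 1) = hb := by
      rw [← pow_add, show j + 1 + (j + 1) = (2 * j + 1) + 1 by ring, pow_succ, ← hj, pow_orderOf_eq_one, one_mul]
    rw [hx₀, QuotientGroup.mk_mul, QuotientGroup.mk_mul, QuotientGroup.mk_mul, QuotientGroup.mk_inv, hk]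
    calc (v : G ⧸ N) * ((hb ^ (j + 1))⁻¹ * v * hb ^ (j + 1))
        = ((v : G ⧸ N) * (hb ^ (j + 1))⁻¹ * (v : G ⧸ N)⁻¹) * ((v : G ⧸ N) * v) * hb ^ (j + 1) := by group
      _ = hb := by rw [h1, ← QuotientGroup.mk_mul, hv, QuotientGroup.mk_one, mul_one, h2]
  have hinv₀ : v * x₀ * v⁻¹ = x₀⁻¹ := by
    calc v * x₀ * v⁻¹ = (v * v) * (k⁻¹ * v * k) * v⁻¹ := by rw [hx₀]; group
      _ = k⁻¹ * v⁻¹ * k * v⁻¹ := by rw [hv, hvi]; group
      _ = x₀⁻¹ := by rw [hx₀]; group
  obtain ⟨a, b, hb', hab⟩ := Nat.exists_eq_two_pow_mul_odd (orderOf_pos x₀).ne'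
  have hcop : Nat.Coprime (2 ^ a) (2 * j + 1) := (Nat.coprime_two_left.mpr ⟨j, rfl⟩).pow_left a
  obtain ⟨m, hm0, hm1⟩ := Nat.chineseRemainder hcop 0 1
  refine ⟨x₀ ^ m, ?_, ?_, ?_⟩
  · refine Odd.of_dvd_nat hb' (orderOf_dvd_of_pow_eq_one ?_)
    rw [← pow_mul, ← orderOf_dvd_iff_pow_eq_one, hab]
    exact Nat.mul_dvd_mul_right (Nat.modEq_zero_iff_dvd.mp hm0) b
  · rw [← conj_pow, hinv₀, inv_pow]
  · rw [QuotientGroup.mk_pow, hmk]
    have : hb ^ m = hb ^ 1 := pow_eq_pow_iff_modEq.mpr (hj.symm ▸ hm1)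
    rwa [pow_one] at this

/-- A minimal counterexample to the Sidki pair statement. -/
structure Hyp (V : Subgroup G) : Prop where
  comm : ∀ a ∈ V, ∀ b ∈ V, a * b = b * a
  invol : ∀ a ∈ V, a * a = 1
  ne : V ≠ ⊥
  sidki : Cfsg.IsSidkiPair V
  inter : V ⊓ Cfsg.pCore 2 G = ⊥
  minG : ∀ (H : Type u) [Group H] [Finite H] (W : Subgroup H), Nat.card H < Nat.card G →
    Cfsg.IsElementaryAbelian 2 W → W ≠ ⊥ → Cfsg.IsSidkiPair W → W ⊓ Cfsg.pCore 2 H ≠ ⊥

variable {V : Subgroup G} (hy : Hyp V)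
include hy

theorem inv_of {v : G} (hv : v ∈ V) : v⁻¹ = v := inv_eq_of_mul_eq_one_right (hy.invol v hv)

/-- In a quotient meeting `V` trivially, some element of `V` maps into the `2`-core. -/
theorem quotient_core (N : Subgroup G) [N.Normal] (hN : N ≠ ⊥) (hVN : V ⊓ N = ⊥) :
    ∃ v ∈ V, v ≠ 1 ∧ (v : G ⧸ N) ∈ Cfsg.pCore 2 (G ⧸ N) := by
  set π := QuotientGroup.mk' N
  have hcard : Nat.card (G ⧸ N) < Nat.card G := by
    rw [card_eq_card_quotient_mul_card_subgroup N]
    refine lt_mul_of_one_lt_right Nat.card_pos ?_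
    exact one_lt_card_iff_ne_bot N |>.mpr hN
  have hinj : ∀ w ∈ V, π w = 1 → w = 1 := fun w hw h =>
    mem_bot.mp (hVN ▸ (⟨hw, (QuotientGroup.eq_one_iff w).mp h⟩ : w ∈ V ⊓ N))
  have hel : Cfsg.IsElementaryAbelian 2 (V.map π) := by
    refine ⟨⟨⟨?_⟩⟩, ?_⟩
    · rintro ⟨_, a, ha, rfl⟩ ⟨_, b, hb, rfl⟩
      refine Subtype.ext ?_
      show π a * π b = π b * π a
      rw [← map_mul, ← map_mul, hy.comm a ha b hb]
    · rintro _ ⟨a, ha, rfl⟩
      rw [← map_pow, pow_two, hy.invol a ha, map_one]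
  have hne : V.map π ≠ ⊥ := fun e => hy.ne (eq_bot_iff.mpr fun w hw =>
    mem_bot.mpr (hinj w hw (mem_bot.mp (e ▸ mem_map_of_mem π hw))))
  have hS : Cfsg.IsSidkiPair (V.map π) := by
    rintro hb _ ⟨v, hv, rfl⟩ hodd hinv
    obtain ⟨x, hx, hxi, rfl⟩ := exists_lift N (hy.invol v hv) hodd hinv
    obtain ⟨w, hw, hw1, hwx⟩ := hy.sidki x v hv hx hxi
    refine ⟨π w, mem_map_of_mem π hw, fun e => hw1 (hinj w hw e), ?_⟩
    show π w * π x = π x * π w
    rw [← map_mul, ← map_mul, hwx]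
  obtain ⟨⟨_, ⟨v, hv, rfl⟩, hvc⟩, hv1⟩ :=
    (Subgroup.ne_bot_iff_exists_ne_one).mp (hy.minG (G ⧸ N) (V.map π) hcard hel hne hS)
  refine ⟨v, hv, ?_, hvc⟩
  rintro rfl
  exact hv1 (Subtype.ext (map_one π))

/-- A subgroup of `V` inside a proper subgroup, meeting its `2`-core trivially, has a bad pair there. -/
theorem exists_pair {H W : Subgroup G} (hH : H ≠ ⊤) (hWH : W ≤ H) (hWV : W ≤ V) (hW : W ≠ ⊥)
    (hcore : ∀ w (hw : w ∈ W), (⟨w, hWH hw⟩ : ↥H) ∈ Cfsg.pCore 2 ↥H → w = 1) :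
    ∃ h ∈ H, ∃ v ∈ W, Odd (orderOf h) ∧ v * h * v⁻¹ = h⁻¹ ∧ ∀ w ∈ W, w * h = h * w → w = 1 := by
  by_contra hc
  have hcard : Nat.card ↥H < Nat.card G :=
    lt_of_le_of_ne (card_le_card_group H) fun e => hH ((card_eq_iff_eq_top H).mp e)
  have hel : Cfsg.IsElementaryAbelian 2 (W.subgroupOf H) := by
    refine ⟨⟨⟨fun a b => Subtype.ext (Subtype.ext (hy.comm _ (hWV a.2) _ (hWV b.2)))⟩⟩, fun a ha => ?_⟩
    refine Subtype.ext ?_
    rw [pow_two]
    exact hy.invol _ (hWV ha)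
  have hne : W.subgroupOf H ≠ ⊥ := fun e => hW (by
    rw [subgroupOf_eq_bot] at e
    exact e.eq_bot_of_le hWH)
  have hS : Cfsg.IsSidkiPair (W.subgroupOf H) := by
    intro h v hv hodd hinv
    by_contra hc'
    refine hc ⟨h, h.2, v, hv, by rwa [Subgroup.orderOf_coe], congrArg Subtype.val hinv, fun w hw hwh => ?_⟩
    by_contra hw1
    exact hc' ⟨⟨w, hWH hw⟩, hw, fun e => hw1 (congrArg Subtype.val e), Subtype.ext hwh⟩
  obtain ⟨⟨w, hw, hwc⟩, hw1⟩ :=
    (Subgroup.ne_bot_iff_exists_ne_one).mp (hy.minG ↥H (W.subgroupOf H) hcard hel hne hS)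
  exact hw1 (Subtype.ext (Subtype.ext (hcore w hw hwc)))

theorem pCore_eq_bot : Cfsg.pCore 2 G = ⊥ := by
  by_contra hQ
  haveI := pCore_normal 2 G
  obtain ⟨v, hv, hv1, hvc⟩ := quotient_core hy (Cfsg.pCore 2 G) hQ hy.inter
  rw [Cores.pCore_quotient_self, mem_bot] at hvc
  exact hv1 (mem_bot.mp (hy.inter ▸ (⟨hv, (QuotientGroup.eq_one_iff v).mp hvc⟩ : v ∈ V ⊓ Cfsg.pCore 2 G)))

theorem center_eq_bot : center G = ⊥ := by
  by_contra hZ
  have hVZ : V ⊓ center G = ⊥ := by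
    rw [eq_bot_iff]
    intro v hv
    refine hy.inter.le ⟨hv.1, ?_⟩
    refine Cores.le_pCore (PGroup.zpowers_normal_of_mem_center hv.2) ?_ (mem_zpowers v)
    have hle : zpowers v ≤ V := zpowers_le.mpr hv.1
    exact fun u => ⟨1, Subtype.ext (by rw [pow_one, SubgroupClass.coe_pow, pow_two]; exact hy.invol _ (hle u.2))⟩
  obtain ⟨v, hv, hv1, hvc⟩ := quotient_core hy (center G) hZ hVZ
  set K := (Cfsg.pCore 2 (G ⧸ center G)).comap (QuotientGroup.mk' (center G)) with hK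
  haveI : K.Normal := (pCore_normal 2 (G ⧸ center G)).comap _
  haveI : Fact (Nat.Prime 2) := ⟨Nat.prime_two⟩
  haveI : Group.IsNilpotent ↥K := by
    let f : ↥K →* ↥(Cfsg.pCore 2 (G ⧸ center G)) :=
      ((QuotientGroup.mk' (center G)).comp K.subtype).codRestrict _ fun x => x.2
    have hker : f.ker ≤ center ↥K := by
      intro x hx
      rw [mem_center_iff]
      intro y
      refine Subtype.ext ?_
      have hx' : (x : G) ∈ center G := (QuotientGroup.eq_one_iff _).mp (congrArg Subtype.val hx)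
      exact mem_center_iff.mp hx' y
    haveI := (Cores.isPGroup_pCore 2 (G ⧸ center G)).isNilpotent
    exact Subgroup.isNilpotent_of_ker_le_center f hker
  have hvK : v ∈ K := hvc
  have hp : IsPGroup 2 ↥(zpowers (⟨v, hvK⟩ : ↥K)) := by
    have hle : zpowers (⟨v, hvK⟩ : ↥K) ≤ V.subgroupOf K := zpowers_le.mpr hv
    exact fun u => ⟨1, Subtype.ext (Subtype.ext (by
      rw [pow_one, SubgroupClass.coe_pow, SubgroupClass.coe_pow, pow_two]
      exact hy.invol _ (hle u.2)))⟩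
  obtain ⟨P, hP⟩ := hp.exists_le_sylow
  haveI : (P : Subgroup ↥K).Normal :=
    ((Group.isNilpotent_of_finite_tfae (G := ↥K)).out 0 3 rfl rfl).mp inferInstance 2 inferInstance P
  have h1 : v ∈ (Cfsg.pCore 2 ↥K).map K.subtype :=
    ⟨⟨v, hvK⟩, by rw [Cores.pCore_eq_sylow P]; exact hP (mem_zpowers _), rfl⟩
  rw [Cores.pCore_map_subtype, pCore_eq_bot hy, bot_inf_eq, mem_bot] at h1
  exact hv1 h1

/-- `V` acts faithfully on every nontrivial normal subgroup. -/
theorem inf_centralizer_eq_bot (E : Subgroup G) [E.Normal] (hE : E ≠ ⊥) :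
    V ⊓ centralizer (E : Set G) = ⊥ := by
  by_contra hU
  set C := centralizer (E : Set G) with hC
  haveI : C.Normal := inferInstance
  have hO := pCore_eq_bot hy
  have hZ := center_eq_bot hy
  have hCtop : C ≠ ⊤ := fun e => hE (eq_bot_iff.mpr fun x hx => hZ.le (mem_center_iff.mpr fun g =>
    ((e.ge (mem_top g)) x hx).symm))
  obtain ⟨h, hhC, u, hu, hodd, hinv, hcu⟩ := exists_pair hy hCtop inf_le_right inf_le_left hU (fun w hw hwc => by
    rw [pCore_normal_eq_bot hO C, mem_bot] at hwc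
    exact congrArg Subtype.val hwc)
  have hh1 : h ≠ 1 := fun e => hU (eq_bot_iff.mpr fun w hw => mem_bot.mpr (hcu w hw (by rw [e, mul_one, one_mul])))
  set W := V ⊓ centralizer ({h} : Set G) with hW
  have hWne : W ≠ ⊥ := by
    obtain ⟨w, hw, hw1, hwh⟩ := hy.sidki h u hu.1 hodd hinv
    exact fun e => hw1 (mem_bot.mp (e ▸ (⟨hw, mem_centralizer_singleton_iff.mpr hwh⟩ : w ∈ W)))
  have hEW : E ⊔ W ≠ ⊤ := by
    intro e
    refine hh1 (mem_bot.mp (hZ ▸ mem_center_iff.mpr fun g => ?_))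
    have hle : E ⊔ W ≤ centralizer ({h} : Set G) :=
      sup_le (fun x hx => mem_centralizer_singleton_iff.mpr (hhC x hx)) inf_le_right
    exact mem_centralizer_singleton_iff.mp (hle (e.ge (mem_top g)))
  obtain ⟨h', hh', w, hw, hodd', hinv', hcw⟩ := exists_pair hy hEW le_sup_right inf_le_left hWne (fun a ha hac => by
    have h1 := commute_of_mem_core le_sup_left le_normalizer_of_normal (pCore_normal_eq_bot hO E)
      (mem_sup_right ha) hac
    exact hcu a ⟨ha.1, fun x hx => (h1 x hx).symm⟩ (mem_centralizer_singleton_iff.mp ha.2))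
  have hh'E : h' ∈ E := mem_of_odd (W := W) le_normalizer_of_normal (fun a ha => hy.invol a ha.1) hh' hodd'
  have hhh' : Commute h h' := (hhC h' hh'E).symm
  have hwh : w * h = h * w := mem_centralizer_singleton_iff.mp hw.2
  have e1 : (u * w) * h * (u * w)⁻¹ = h⁻¹ := by
    calc (u * w) * h * (u * w)⁻¹ = u * (w * h) * w⁻¹ * u⁻¹ := by group
      _ = u * h * u⁻¹ := by rw [hwh]; group
      _ = h⁻¹ := hinv
  have e2 : (u * w) * h' * (u * w)⁻¹ = h'⁻¹ := by
    calc (u * w) * h' * (u * w)⁻¹ = u * (w * h' * w⁻¹) * u⁻¹ := by group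
      _ = h'⁻¹ := by rw [hinv', ← hu.2 _ (E.inv_mem hh'E), mul_inv_cancel_right]
  have einv : (u * w) * (h * h') * (u * w)⁻¹ = (h * h')⁻¹ := by
    rw [← conj_mul, e1, e2]
    rw [mul_inv_rev]
    exact hhh'.inv_inv.eq
  obtain ⟨c, hc, hc1, hcc⟩ := hy.sidki (h * h') (u * w) (V.mul_mem hu.1 hw.1) (odd_orderOf_mul hhh' hodd hodd') einv
  -- `c h c⁻¹ h⁻¹` lies in `Z(E)` and is inverted, so trivial
  set z := h⁻¹ * (c * h * c⁻¹) with hz
  have hzC : z ∈ C := C.mul_mem (C.inv_mem hhC) (Normal.conj_mem inferInstance h hhC c)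
  have hzE : z ∈ E := by
    have h1 : c * h * c⁻¹ * (c * h' * c⁻¹) = h * h' := by rw [conj_mul, hcc, mul_inv_cancel_right]
    have h2 : z = h' * (c * h' * c⁻¹)⁻¹ := by
      rw [hz, eq_mul_inv_iff_mul_eq, mul_assoc, h1, inv_mul_cancel_left]
    rw [h2]
    exact E.mul_mem hh'E (E.inv_mem (Normal.conj_mem inferInstance h' hh'E c))
  have hzz : z * z = 1 := by
    have huz : u * z * u⁻¹ = z := by rw [← hu.2 z hzE, mul_inv_cancel_right]
    have hch : u * (c * h * c⁻¹) * u⁻¹ = c * h⁻¹ * c⁻¹ := by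
      calc u * (c * h * c⁻¹) * u⁻¹ = (u * c) * h * (u * c)⁻¹ := by group
        _ = (c * u) * h * (c * u)⁻¹ := by rw [hy.comm u hu.1 c hc]
        _ = c * (u * h * u⁻¹) * c⁻¹ := by group
        _ = c * h⁻¹ * c⁻¹ := by rw [hinv]
    have hzh : h * z = z * h := (hhC z hzE).symm
    have h3 : u * (h * z) * u⁻¹ = (h * z)⁻¹ := by
      rw [hz, mul_inv_cancel_left, hch]; group
    rw [← conj_mul, hinv, huz, hzh, mul_inv_rev] at h3
    have h4 : z = z⁻¹ := mul_left_cancel h3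
    calc z * z = z * z⁻¹ := by rw [← h4]
      _ = 1 := mul_inv_cancel z
  have hz1 : z = 1 := by
    let A : Subgroup G :=
      { carrier := {x | x ∈ C ∧ x ∈ E ∧ x * x = 1}
        one_mem' := ⟨C.one_mem, E.one_mem, mul_one 1⟩
        mul_mem' := fun {a b} ha hb => ⟨C.mul_mem ha.1 hb.1, E.mul_mem ha.2.1 hb.2.1, by
          rw [Commute.mul_mul_mul_comm (show Commute b a from (ha.1 b hb.2.1)), ha.2.2, hb.2.2, one_mul]⟩
        inv_mem' := fun {a} ha => ⟨C.inv_mem ha.1, E.inv_mem ha.2.1, by rw [← mul_inv_rev, ha.2.2, inv_one]⟩ }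
    have hA : A.Normal := ⟨fun a ha g => ⟨Normal.conj_mem inferInstance a ha.1 g,
      Normal.conj_mem inferInstance a ha.2.1 g, by rw [conj_mul, ha.2.2]; group⟩⟩
    have hA2 : IsPGroup 2 A := fun a => ⟨1, Subtype.ext (by
      rw [pow_one, SubgroupClass.coe_pow, pow_two]; exact a.2.2.2)⟩
    have := Cores.le_pCore hA hA2 (⟨hzC, hzE, hzz⟩ : z ∈ A)
    rwa [hO, mem_bot] at this
  have hch : c * h = h * c := by
    rw [hz, inv_mul_eq_one] at hz1
    calc c * h = c * h * c⁻¹ * c := by group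
      _ = h * c := by rw [← hz1]
  refine hc1 (hcw c ⟨hc, mem_centralizer_singleton_iff.mpr hch⟩ ?_)
  calc c * h' = h⁻¹ * (h * c) * h' := by group
    _ = h⁻¹ * (c * (h * h')) := by rw [← hch]; group
    _ = h' * c := by rw [hcc]; group

theorem sup_eq_top (E : Subgroup G) [E.Normal] (hE : E ≠ ⊥) : E ⊔ V = ⊤ := by
  by_contra hEV
  obtain ⟨h, -, v, hv, hodd, hinv, hc⟩ := exists_pair hy hEV le_sup_right le_rfl hy.ne (fun w hw hwc => by
    have h1 := commute_of_mem_core le_sup_left le_normalizer_of_normal (pCore_normal_eq_bot (pCore_eq_bot hy) E)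
      (mem_sup_right hw) hwc
    exact mem_bot.mp (inf_centralizer_eq_bot hy E hE ▸ (⟨hw, fun x hx => (h1 x hx).symm⟩ :
      w ∈ V ⊓ centralizer (E : Set G))))
  obtain ⟨w, hw, hw1, hwh⟩ := hy.sidki h v hv hodd hinv
  exact hw1 (hc w hw hwh)

theorem not_isPGroup (E : Subgroup G) [E.Normal] (hE : E ≠ ⊥) : ¬ IsPGroup 2 E := fun h2 =>
  hE (le_bot_iff.mp (pCore_eq_bot hy ▸ Cores.le_pCore inferInstance h2))

/-- A minimal normal subgroup is nonabelian. -/
theorem not_abelian (N : Subgroup G) [N.Normal] (hN : N ≠ ⊥)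
    (hmin : ∀ K : Subgroup G, K.Normal → K ≤ N → K = ⊥ ∨ K = N) : ¬ N ≤ centralizer (N : Set G) := by
  intro hab
  have htop := sup_eq_top hy N hN
  have hinvert : ∀ v ∈ V, v ≠ 1 → ∀ x ∈ N, v * x * v⁻¹ = x⁻¹ := by
    intro v hv hv1 x hx
    set F := N ⊓ centralizer ({v} : Set G)
    haveI hF : F.Normal := by
      rw [← normalizer_eq_top_iff, eq_top_iff, ← htop]
      refine sup_le (fun g hg => mem_normalizer_fintype fun y hy' => ?_)
        (fun g hg => mem_normalizer_fintype fun y hy' => ?_)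
      · rw [show g * y * g⁻¹ = y by rw [← (hab hg) y hy'.1, mul_inv_cancel_right]]
        exact hy'
      · refine ⟨Normal.conj_mem inferInstance y hy'.1 g, mem_centralizer_singleton_iff.mpr ?_⟩
        have h1 : y * v = v * y := mem_centralizer_singleton_iff.mp hy'.2
        calc g * y * g⁻¹ * v = g * y * (g⁻¹ * v) := by group
          _ = g * (y * v) * g⁻¹ := by rw [hy.comm g⁻¹ (V.inv_mem hg) v hv]; group
          _ = (g * v) * y * g⁻¹ := by rw [h1]; group
          _ = v * (g * y * g⁻¹) := by rw [hy.comm g hg v hv]; group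
    rcases hmin F hF inf_le_left with hFb | hFN
    · have hx' : v * x * v⁻¹ ∈ N := Normal.conj_mem inferInstance x hx v
      have hfix : x * (v * x * v⁻¹) ∈ F := by
        refine ⟨N.mul_mem hx hx', mem_centralizer_singleton_iff.mpr (Eq.symm ?_)⟩
        calc v * (x * (v * x * v⁻¹)) = (v * x * v⁻¹) * (v * v) * x * v⁻¹ := by group
          _ = ((v * x * v⁻¹) * x) * v⁻¹ := by rw [hy.invol v hv, mul_one]
          _ = (v * x * v⁻¹) * x * v := by rw [inv_of hy hv]
          _ = x * (v * x * v⁻¹) * v := by rw [hab hx _ hx']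
      rw [hFb, mem_bot] at hfix
      exact eq_inv_of_mul_eq_one_right hfix
    · refine absurd (mem_bot.mp ?_) hv1
      rw [← inf_centralizer_eq_bot hy N hN]
      exact ⟨hv, fun y hy' => mem_centralizer_singleton_iff.mp (hFN.ge hy').2⟩
  obtain ⟨⟨v, hv⟩, hv1⟩ := (Subgroup.ne_bot_iff_exists_ne_one).mp hy.ne
  obtain ⟨x, hx, hx1, hxo⟩ := exists_odd (not_isPGroup hy N hN)
  have hxi := hinvert v hv (fun e => hv1 (Subtype.ext e)) x hx
  obtain ⟨w, hw, hw1, hwx⟩ := hy.sidki x v hv hxo hxi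
  have := hinvert w hw hw1 x hx
  rw [hwx, mul_inv_cancel_right] at this
  exact hx1 (eq_one_of_odd hxo (mul_eq_one_iff_eq_inv.mpr this))

theorem centralizer_eq_bot (N : Subgroup G) [N.Normal] (hN : N ≠ ⊥)
    (hmin : ∀ K : Subgroup G, K.Normal → K ≤ N → K = ⊥ ∨ K = N) : centralizer (N : Set G) = ⊥ := by
  by_contra hC
  obtain ⟨x, hx, hx1, hxo⟩ := exists_odd (not_isPGroup hy N hN)
  have hxC : x ∈ centralizer (N : Set G) := mem_of_odd le_normalizer_of_normal hy.invol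
    ((sup_eq_top hy (centralizer (N : Set G)) hC).ge (mem_top x)) hxo
  rcases hmin (N ⊓ centralizer (N : Set G)) inferInstance inf_le_left with h | h
  · exact hx1 (mem_bot.mp (h ▸ (⟨hx, hxC⟩ : x ∈ N ⊓ centralizer (N : Set G))))
  · exact not_abelian hy N hN hmin (inf_eq_left.mp h)

/-- A minimal normal subgroup has no proper nontrivial normal subgroup. -/
theorem simple_of_minimal (N : Subgroup G) [N.Normal] (hN : N ≠ ⊥)
    (hmin : ∀ K : Subgroup G, K.Normal → K ≤ N → K = ⊥ ∨ K = N) :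
    ∀ S : Subgroup G, S ≤ N → N ≤ normalizer (S : Set G) → S = ⊥ ∨ S = N := by
  intro S₀ hS₀N hS₀n
  by_contra hc
  push Not at hc
  -- a minimal one
  obtain ⟨S, hSle, hS⟩ := Finite.exists_le_minimal (α := Subgroup G)
    (p := fun S => S ≠ ⊥ ∧ S ≤ N ∧ N ≤ normalizer (S : Set G)) (a := S₀) ⟨hc.1, hS₀N, hS₀n⟩
  obtain ⟨⟨hS1, hSN, hSn⟩, hSmin⟩ := hS
  have hSne : S ≠ N := fun e => hc.2 (le_antisymm hS₀N (e ▸ hSle))
  have hSmin' : ∀ T : Subgroup G, T ≤ S → N ≤ normalizer (T : Set G) → T ≠ ⊥ → T = S := fun T hTS hTn hT =>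
    le_antisymm hTS (hSmin ⟨hT, hTS.trans hSN, hTn⟩ hTS)
  have hNcj : ∀ w : G, S.map (MulAut.conj w).toMonoidHom ≤ N ∧
      N ≤ normalizer ((S.map (MulAut.conj w).toMonoidHom : Subgroup G) : Set G) := by
    intro w
    refine ⟨fun y ⟨s, hs, e⟩ => e ▸ Normal.conj_mem inferInstance s (hSN hs) w, fun g hg => ?_⟩
    refine mem_normalizer_fintype ?_
    rintro _ ⟨s, hs, rfl⟩
    have hg' : w⁻¹ * g * w ∈ N := by
      have := Normal.conj_mem (inferInstance : N.Normal) g hg w⁻¹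
      rwa [inv_inv] at this
    refine ⟨w⁻¹ * g * w * s * (w⁻¹ * g * w)⁻¹, (mem_normalizer_iff.mp (hSn hg') s).mp hs, ?_⟩
    show w * (w⁻¹ * g * w * s * (w⁻¹ * g * w)⁻¹) * w⁻¹ = g * (w * s * w⁻¹) * g⁻¹
    group
  -- distinct conjugates commute
  have hdisj : ∀ w : G, S.map (MulAut.conj w).toMonoidHom ≠ S → S ⊓ S.map (MulAut.conj w).toMonoidHom = ⊥ := by
    intro w hw
    by_contra hI
    have hn' : N ≤ normalizer ((S ⊓ S.map (MulAut.conj w).toMonoidHom : Subgroup G) : Set G) := fun g hg =>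
      mem_normalizer_fintype fun y hy' => ⟨(mem_normalizer_iff.mp (hSn hg) y).mp hy'.1,
        (mem_normalizer_iff.mp ((hNcj w).2 hg) y).mp hy'.2⟩
    have h1 : S ≤ S.map (MulAut.conj w).toMonoidHom :=
      inf_eq_left.mp (hSmin' _ inf_le_left hn' hI)
    exact hw (eq_of_le_of_card_ge h1 (card_map_of_injective (MulEquiv.injective _)).le).symm
  have hcomm : ∀ w : G, S.map (MulAut.conj w).toMonoidHom ≠ S →
      ∀ s ∈ S, ∀ r ∈ S.map (MulAut.conj w).toMonoidHom, s * r = r * s := by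
    intro w hw s hs r hr
    have h1 : s * r * s⁻¹ * r⁻¹ ∈ S ⊓ S.map (MulAut.conj w).toMonoidHom := by
      refine ⟨?_, Subgroup.mul_mem _ ((mem_normalizer_iff.mp ((hNcj w).2 (hSN hs)) r).mp hr) (Subgroup.inv_mem _ hr)⟩
      rw [show s * r * s⁻¹ * r⁻¹ = s * (r * s⁻¹ * r⁻¹) by group]
      exact S.mul_mem hs ((mem_normalizer_iff.mp (hSn ((hNcj w).1 hr)) _).mp (S.inv_mem hs))
    rw [hdisj w hw, mem_bot] at h1
    exact mul_inv_eq_iff_eq_mul.mp (mul_inv_eq_one.mp h1)
  have htop := sup_eq_top hy N hN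
  have hnot : ¬ V ≤ normalizer (S : Set G) := by
    intro hle
    haveI : S.Normal := normalizer_eq_top_iff.mp (top_le_iff.mp (htop ▸ sup_le hSn hle))
    rcases hmin S inferInstance hSN with h | h
    · exact hS1 h
    · exact hSne h
  have hOS : Cfsg.pCore 2 ↥S = ⊥ := by
    haveI hn : (S.subgroupOf N).Normal := normal_subgroupOf_iff_le_normalizer hSN |>.mpr hSn
    have := pCore_normal_eq_bot (pCore_normal_eq_bot (pCore_eq_bot hy) N) (S.subgroupOf N)
    rw [← Cores.pCore_map_mulEquiv (subgroupOfEquivOfLe hSN) 2, this, Subgroup.map_bot]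
  set X := closure {g : G | ∃ w ∈ V, ∃ s ∈ S, w * s * w⁻¹ = g}
  have hXN : X ≤ N := (closure_le _).mpr (by
    rintro g ⟨w, -, s, hs, rfl⟩; exact Normal.conj_mem inferInstance s (hSN hs) w)
  have hXn : X.Normal := by
    rw [← normalizer_eq_top_iff, eq_top_iff, ← htop]
    refine sup_le (fun g hg => mem_normalizer_fintype fun y hy' => ?_)
      (fun g hg => mem_normalizer_fintype fun y hy' => ?_)
    · have hle : X ≤ X.comap (MulAut.conj g).toMonoidHom := (closure_le _).mpr (by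
        rintro _ ⟨w, hw, s, hs, rfl⟩
        obtain ⟨s', hs', e⟩ := (mem_normalizer_iff.mp ((hNcj w).2 hg) (w * s * w⁻¹)).mp ⟨s, hs, rfl⟩
        exact subset_closure ⟨w, hw, s', hs', e⟩)
      exact hle hy'
    · have hle : X ≤ X.comap (MulAut.conj g).toMonoidHom := (closure_le _).mpr (by
        rintro _ ⟨w, hw, s, hs, rfl⟩
        exact subset_closure ⟨g * w, V.mul_mem hg hw, s, hs, by
          show g * w * s * (g * w)⁻¹ = g * (w * s * w⁻¹) * g⁻¹
          group⟩)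
      exact hle hy'
  have hnab : ¬ S ≤ centralizer (S : Set G) := by
    intro hab
    have hXX : X ≤ centralizer (X : Set G) := by
      rw [show centralizer (X : Set G) = centralizer {g : G | ∃ w ∈ V, ∃ s ∈ S, w * s * w⁻¹ = g} from
        centralizer_closure _, closure_le]
      rintro _ ⟨w, hw, s, hs, rfl⟩ _ ⟨w', hw', s', hs', rfl⟩
      have key : s' * ((w'⁻¹ * w) * s * (w'⁻¹ * w)⁻¹) = ((w'⁻¹ * w) * s * (w'⁻¹ * w)⁻¹) * s' := by
        by_cases he : S.map (MulAut.conj (w'⁻¹ * w)).toMonoidHom = S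
        · exact (hab (he.le ⟨s, hs, rfl⟩)) s' hs'
        · exact hcomm _ he s' hs' _ ⟨s, hs, rfl⟩
      calc w' * s' * w'⁻¹ * (w * s * w⁻¹) = w' * (s' * ((w'⁻¹ * w) * s * (w'⁻¹ * w)⁻¹)) * w'⁻¹ := by group
        _ = w' * (((w'⁻¹ * w) * s * (w'⁻¹ * w)⁻¹) * s') * w'⁻¹ := by rw [key]
        _ = w * s * w⁻¹ * (w' * s' * w'⁻¹) := by group
    rcases hmin X hXn hXN with h | h
    · refine hS1 (eq_bot_iff.mpr fun s hs => ?_)
      rw [← h]
      exact subset_closure ⟨1, V.one_mem, s, hs, by group⟩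
    · exact not_abelian hy N hN hmin (h ▸ hXX)
  have hSC : S ⊓ centralizer (S : Set G) = ⊥ := by
    by_contra h
    refine hnab (inf_eq_left.mp (hSmin' _ inf_le_left (fun g hg => ?_) h))
    refine mem_normalizer_fintype fun y hy' => ⟨(mem_normalizer_iff.mp (hSn hg) y).mp hy'.1, fun s hs => ?_⟩
    have hs' : g⁻¹ * s * g ∈ S := (mem_normalizer_iff''.mp (hSn hg) s).mp hs
    calc s * (g * y * g⁻¹) = g * ((g⁻¹ * s * g) * y) * g⁻¹ := by group
      _ = g * (y * (g⁻¹ * s * g)) * g⁻¹ := by rw [hy'.2 _ hs']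
      _ = g * y * g⁻¹ * s := by group
  obtain ⟨x, hx, hx1, hxo⟩ := exists_odd (N := S) fun h2 => hS1 (by
    rw [← Cores.pCore_eq_top_iff, hOS] at h2
    have := congrArg (Subgroup.map S.subtype) h2
    rw [Subgroup.map_bot, ← MonoidHom.range_eq_map, Subgroup.range_subtype] at this
    exact this.symm)
  set V₁ := V ⊓ normalizer (S : Set G) with hV₁
  by_cases hV₁1 : V₁ = ⊥
  · obtain ⟨t, ht, htS⟩ := SetLike.not_le_iff_exists.mp hnot
    have htS' : S.map (MulAut.conj t).toMonoidHom ≠ S := fun e =>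
      htS (mem_normalizer_fintype fun s hs => e.le ⟨s, hs, rfl⟩)
    set x' := t * x * t⁻¹ with hx'
    have hxx' : Commute x x' := hcomm t htS' x hx x' ⟨x, hx, rfl⟩
    have hxo' : Odd (orderOf x'⁻¹) := by
      rw [orderOf_inv, hx', show t * x * t⁻¹ = (MulAut.conj t).toMonoidHom x from rfl,
        orderOf_injective _ (MulEquiv.injective _)]
      exact hxo
    have hti : t * x' * t⁻¹ = x := by
      calc t * x' * t⁻¹ = (t * t) * x * (t * t)⁻¹ := by rw [hx']; group
        _ = x := by rw [hy.invol t ht]; group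
    have hinv : t * (x * x'⁻¹) * t⁻¹ = (x * x'⁻¹)⁻¹ := by
      rw [← conj_mul, ← conj_inv, hti, ← hx']; group
    obtain ⟨w, hw, hw1, hwh⟩ := hy.sidki (x * x'⁻¹) t ht (odd_orderOf_mul hxx'.inv_right hxo hxo') hinv
    have hne : ∀ a ∈ V, a ≠ 1 → S.map (MulAut.conj a).toMonoidHom ≠ S := fun a ha ha1 e => ha1 (mem_bot.mp
      (hV₁1 ▸ (⟨ha, mem_normalizer_fintype fun s hs => e.le ⟨s, hs, rfl⟩⟩ : a ∈ V₁)))
    by_cases hwt : w = t
    · rw [hwt] at hwh
      rw [hwh, mul_inv_cancel_right] at hinv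
      have h1 := eq_one_of_odd (odd_orderOf_mul hxx'.inv_right hxo hxo') (mul_eq_one_iff_eq_inv.mpr hinv)
      rw [mul_inv_eq_one] at h1
      refine hx1 (mem_bot.mp ?_)
      rw [← hdisj t htS']
      exact ⟨hx, h1 ▸ ⟨x, hx, rfl⟩⟩
    · have hwt1 : w * t ≠ 1 := fun e => hwt (by
        rw [mul_eq_one_iff_eq_inv.mp e, inv_of hy ht])
      have h1 : w * (x * x'⁻¹) * w⁻¹ = x * x'⁻¹ := by rw [hwh, mul_inv_cancel_right]
      have hmem : x * x'⁻¹ ∈ centralizer (S : Set G) := by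
        rw [← h1, ← conj_mul, ← conj_inv]
        refine mul_mem ?_ (inv_mem ?_)
        · exact fun s hs => hcomm w (hne w hw hw1) s hs _ ⟨x, hx, rfl⟩
        · refine fun s hs => hcomm (w * t) (hne _ (V.mul_mem hw ht) hwt1) s hs _ ⟨x, hx, ?_⟩
          show w * t * x * (w * t)⁻¹ = w * x' * w⁻¹
          rw [hx']; group
      have hx'C : x' ∈ centralizer (S : Set G) := fun s hs => hcomm t htS' s hs x' ⟨x, hx, rfl⟩
      have hxC : x ∈ centralizer (S : Set G) := by
        have := mul_mem hmem hx'C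
        rwa [inv_mul_cancel_right] at this
      exact hx1 (mem_bot.mp (hSC ▸ (⟨hx, hxC⟩ : x ∈ S ⊓ centralizer (S : Set G))))
  · have hH : S ⊔ V₁ ≠ ⊤ := by
      intro e
      have hle : S ⊔ V₁ ≤ normalizer (S : Set G) := sup_le le_normalizer inf_le_right
      exact hnot fun v _ => hle (e.ge (mem_top v))
    obtain ⟨y, hy', a, ha, hodd, hinv, hca⟩ := exists_pair hy hH le_sup_right inf_le_left hV₁1
      (fun b hb hbc => by
        have h1 := commute_of_mem_core le_sup_left (sup_le le_normalizer inf_le_right) hOS (mem_sup_right hb) hbc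
        have hbX : X ≤ centralizer ({b} : Set G) := (closure_le _).mpr (by
          rintro _ ⟨w, hw, s, hs, rfl⟩
          refine mem_centralizer_singleton_iff.mpr ?_
          calc w * s * w⁻¹ * b = w * (s * (w⁻¹ * b * w)) * w⁻¹ := by group
            _ = w * (s * b) * w⁻¹ := by rw [hy.comm w⁻¹ (V.inv_mem hw) b hb.1, inv_mul_cancel_right]
            _ = (w * b) * s * w⁻¹ := by rw [← h1 s hs]; group
            _ = b * (w * s * w⁻¹) := by rw [hy.comm w hw b hb.1]; group)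
        rcases hmin X hXn hXN with h | h
        · exact absurd (eq_bot_iff.mpr fun s hs => h ▸ subset_closure ⟨1, V.one_mem, s, hs, by group⟩) hS1
        · refine mem_bot.mp (inf_centralizer_eq_bot hy N hN ▸ (⟨hb.1, fun z hz => ?_⟩ :
            b ∈ V ⊓ centralizer (N : Set G)))
          exact mem_centralizer_singleton_iff.mp (hbX (h.ge hz)))
    have hyS : y ∈ S := mem_of_odd inf_le_right (fun b hb => hy.invol b hb.1) hy' hodd
    obtain ⟨w, hw, hw1, hwy⟩ := hy.sidki y a ha.1 hodd hinv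
    by_cases hwS : S.map (MulAut.conj w).toMonoidHom = S
    · exact hw1 (hca w ⟨hw, mem_normalizer_fintype fun s hs => hwS.le ⟨s, hs, rfl⟩⟩ hwy)
    · refine hV₁1 (eq_bot_iff.mpr fun b hb => mem_bot.mpr (hca b hb ?_))
      have hy1 : y = 1 := mem_bot.mp (hdisj w hwS ▸ (⟨hyS, y, hyS, by
        show w * y * w⁻¹ = y
        rw [hwy, mul_inv_cancel_right]⟩ : y ∈ S ⊓ S.map (MulAut.conj w).toMonoidHom))
      rw [hy1, mul_one, one_mul]


end Helpers

/-- Minimal counterexample reduction for the Sidki pair problem. Let G be a finite group and V a nontrivial elementary abelian 2-subgroup satisfying the Sidki pair condition with V ∩ O₂(G) = 1. Suppose that for every finite group H of smaller order, every nontrivial elementary abelian 2-subgroup W of H satisfying the Sidki pair condition meets O₂(H) nontrivially, and that the same holds in G for every such subgroup W of order smaller than that of V. Then the generalized Fitting subgroup F*(G)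 is a non-abelian simple group and G = V F*(G). -/
theorem result {G : Type u} [Group G] [Finite G] (V : Subgroup G) (hV : Cfsg.IsElementaryAbelian 2 V) (hV1 : V ≠ ⊥) (hS : Cfsg.IsSidkiPair V) (hVO : V ⊓ Cfsg.pCore 2 G = ⊥) (hminG : ∀ (H : Type u) [Group H] [Finite H] (W : Subgroup H), Nat.card H < Nat.card G → Cfsg.IsElementaryAbelian 2 W → W ≠ ⊥ → Cfsg.IsSidkiPair W → W ⊓ Cfsg.pCore 2 H ≠ ⊥) (hminV : ∀ W : Subgroup G, Nat.card W < Nat.card V → Cfsg.IsElementaryAbelian 2 W → W ≠ ⊥ → Cfsg.IsSidkiPair W → W ⊓ Cfsg.pCore 2 G ≠ ⊥) : IsSimpleGroup ↥(Cfsg.generalizedFittingSubgroup G) ∧ ¬ IsMulCommutative ↥(Cfsg.generalizedFittingSubgroup G) ∧ V ⊔ Cfsg.generalizedFittingSubgroup G = ⊤ := by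
  have hy : Hyp V :=
    { comm := fun a ha b hb => congrArg Subtype.val (hV.1.is_comm.comm ⟨a, ha⟩ ⟨b, hb⟩)
      invol := fun a ha => by rw [← pow_two]; exact hV.2 a ha
      ne := hV1
      sidki := hS
      inter := hVO
      minG := hminG }
  obtain ⟨⟨v, hv⟩, hv1⟩ := (Subgroup.ne_bot_iff_exists_ne_one).mp hV1
  have : Nontrivial G := ⟨⟨v, 1, fun e => hv1 (Subtype.ext e)⟩⟩
  obtain ⟨N, hNn, hN, -, hmin⟩ := Solvable.exists_minimal_normal (N := (⊤ : Subgroup G)) top_ne_bot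
  have hnab := not_abelian hy N hN hmin
  have hC := centralizer_eq_bot hy N hN hmin
  have hsimple : IsSimpleGroup ↥N := by
    haveI : Nontrivial ↥N := (Subgroup.nontrivial_iff_ne_bot N).mpr hN
    refine ⟨fun M hM => ?_⟩
    rcases simple_of_minimal hy N hN hmin (M.map N.subtype) (Subgroup.map_subtype_le M) (fun g hg =>
        Subgroup.mem_normalizer_fintype (by
          rintro _ ⟨m, hm, rfl⟩
          exact ⟨⟨g, hg⟩ * m * ⟨g, hg⟩⁻¹, hM.conj_mem m hm _, rfl⟩)) with h | h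
    · exact Or.inl ((Subgroup.map_eq_bot_iff_of_injective _ N.subtype_injective).mp h)
    · refine Or.inr (Subgroup.map_injective N.subtype_injective ?_)
      rw [h, ← MonoidHom.range_eq_map, Subgroup.range_subtype]
  have hF : Cfsg.generalizedFittingSubgroup G = N := by
    have hne : Cfsg.generalizedFittingSubgroup G ≠ ⊥ := by
      intro e
      have h := Components.centralizer_genFitting_le (G := G)
      rw [e] at h
      exact hN (eq_bot_iff.mpr fun x _ => h fun y hy => by rw [Subgroup.mem_bot.mp hy, one_mul, mul_one])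
    have hle : Cfsg.generalizedFittingSubgroup G ≤ N := by
      refine sup_le (Components.layer_le fun K hK => ?_) ?_
      · rcases Components.IsComponent.le_or_commutes hK (Subgroup.Normal.isSubnormal hNn) with h | h
        · exact h
        · exact absurd (le_bot_iff.mp (hC ▸ Subgroup.commutator_eq_bot_iff_le_centralizer.mp h))
            (Components.IsComponent.ne_bot hK)
      · rcases hmin (N ⊓ Cfsg.fittingSubgroup G) inferInstance inf_le_left with h | h
        · intro x hx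
          have hc : x ∈ Subgroup.centralizer (N : Set G) := fun y hy => by
            have hcom : y * x * y⁻¹ * x⁻¹ ∈ N ⊓ Cfsg.fittingSubgroup G := by
              refine ⟨?_, Subgroup.mul_mem _ (Subgroup.Normal.conj_mem inferInstance x hx y) (Subgroup.inv_mem _ hx)⟩
              rw [show y * x * y⁻¹ * x⁻¹ = y * (x * y⁻¹ * x⁻¹) by group]
              exact mul_mem hy (hNn.conj_mem _ (inv_mem hy) x)
            rw [h, Subgroup.mem_bot] at hcom
            exact mul_inv_eq_iff_eq_mul.mp (mul_inv_eq_one.mp hcom)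
          rw [hC, Subgroup.mem_bot] at hc
          rw [hc]
          exact N.one_mem
        · refine absurd ?_ hnab
          have hsol : Group.IsSolvable ↥N := by
            have := Components.fitting_isSolvable (G := G)
            exact solvable_of_solvable_injective (Subgroup.inclusion_injective (inf_eq_left.mp h))
          intro a ha b hb
          exact congrArg Subtype.val (hsimple.comm_iff_isSolvable.mpr hsol ⟨b, hb⟩ ⟨a, ha⟩)
    rcases hmin _ inferInstance hle with h | h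
    · exact absurd h hne
    · exact h
  rw [hF]
  exact ⟨hsimple, fun hc => hnab fun a ha b hb => congrArg Subtype.val (hc.is_comm.comm ⟨b, hb⟩ ⟨a, ha⟩),
    by rw [sup_comm]; exact sup_eq_top hy N hN⟩

end Cfsg.Agent.S3048
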