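import Cfsg.Statements.S3053
import Cfsg.Agent.Lib.PGroup.Extraspecial
import Cfsg.Agent.Lib.PGroup.RankTwo

set_option autoImplicit false
open Cfsg

namespace Cfsg.Agent.S3053

open scoped commutatorElement

variable {p : ℕ} [Fact p.Prime] {P : Type*} [Group P] [Finite P]

/-- The elements of order at most `p` of an extraspecial group of order `p ^ 3` and exponent `p ^ 2`. -/
theorem omega_facts (hp : p ≠ 2) (hES : PGroup.IsES p P) (hcard : Nat.card P = p ^ 3)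
    (hexp : Monoid.exponent P = p ^ 2) :
    ∃ W : Subgroup P, (∀ x, x ∈ W ↔ x ^ p = 1) ∧ Nat.card W = p ^ 2 ∧ Subgroup.center P ≤ W ∧
      IsMulCommutative W ∧ W.Normal ∧
      (∀ x ∈ W, x ∉ Subgroup.center P → ∀ y : P, y * x = x * y → y ∈ W) := by
  have hpp : p.Prime := Fact.out
  let φ : P →* P := MonoidHom.mk' (fun x => x ^ p) fun x y =>
    PGroup.mul_pow_classTwo hpp hp hES.comm_mem (hES.pow_mem y)
  have hφ : φ.range ≤ Subgroup.center P := by rintro _ ⟨x, rfl⟩; exact hES.pow_mem x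
  have hne : φ.range ≠ ⊥ := by
    intro h
    have h1 : Monoid.exponent P ∣ p := Monoid.exponent_dvd_of_forall_pow_eq_one fun x =>
      (Subgroup.eq_bot_iff_forall _).mp h _ ⟨x, rfl⟩
    rw [hexp] at h1
    have h2 := Nat.le_of_dvd hpp.pos h1
    nlinarith [hpp.two_le]
  have hrange : Nat.card φ.range = p := by
    rcases hpp.eq_one_or_self_of_dvd _ (hES.card_center ▸ Subgroup.card_dvd_of_le hφ) with h | h
    · exact absurd (Subgroup.card_eq_one.mp h) hne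
    · exact h
  have hker : Nat.card φ.ker = p ^ 2 := by
    have h1 := φ.ker.card_mul_index
    rw [Subgroup.index_ker, hrange, hcard] at h1
    refine Nat.eq_of_mul_eq_mul_right hpp.pos ?_
    rw [h1]; ring
  have hab := PGroup.isMulCommutative_of_card_sq hker
  refine ⟨φ.ker, fun x => Iff.rfl, hker, fun z hz => hES.pow_eq_one hz, hab, inferInstance, ?_⟩
  intro x hx hxZ y hy
  have hle : φ.ker ≤ Subgroup.centralizer ({x} : Set P) := by
    intro w hw
    haveI := hab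
    exact Subgroup.mem_centralizer_singleton_iff.mpr
      (congrArg Subtype.val (mul_comm' (⟨w, hw⟩ : φ.ker) ⟨x, hx⟩))
  have hne' : Subgroup.centralizer ({x} : Set P) ≠ ⊤ := fun h => hxZ (Subgroup.mem_center_iff.mpr fun g =>
    Subgroup.mem_centralizer_singleton_iff.mp (h ▸ Subgroup.mem_top g))
  obtain ⟨j, hj3, hj⟩ := (Nat.dvd_prime_pow hpp).mp (hcard ▸ Subgroup.card_subgroup_dvd_card
    (Subgroup.centralizer ({x} : Set P)))
  have hj2 : j ≤ 2 := by
    by_contra hh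
    apply hne'
    rw [← Subgroup.card_eq_iff_eq_top, hj, hcard, show j = 3 by omega]
  have heq := Subgroup.eq_of_le_of_card_ge hle (by rw [hj, hker]; exact pow_le_pow_right₀ hpp.one_le hj2)
  exact heq.ge (Subgroup.mem_centralizer_singleton_iff.mpr hy)

theorem key {G : Type*} [Group G] [Finite G] (hp : p ≠ 2) (P : Sylow p G) (hES : PGroup.IsES p ↥P)
    (hcard : Nat.card P = p ^ 3) (hexp : Monoid.exponent ↥P = p ^ 2) :
    Cfsg.IsStronglyClosed ((Subgroup.center ↥P).map (P : Subgroup G).subtype) (P : Subgroup G) := by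
  have hpp : p.Prime := Fact.out
  obtain ⟨W₀, hW₀, hW₀c, hZW₀, hW₀ab, hW₀n, hW₀C⟩ := omega_facts hp hES hcard hexp
  set Z : Subgroup G := (Subgroup.center ↥P).map (P : Subgroup G).subtype with hZ
  set W : Subgroup G := W₀.map (P : Subgroup G).subtype with hW
  have hZc : Nat.card Z = p := (Subgroup.card_map_of_injective (P : Subgroup G).subtype_injective).trans hES.card_center
  have hWc : Nat.card W = p ^ 2 := (Subgroup.card_map_of_injective (P : Subgroup G).subtype_injective).trans hW₀c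
  refine ⟨Subgroup.map_subtype_le _, fun z hz g hgP => ?_⟩
  by_contra hgZ
  set x := g * z * g⁻¹ with hx
  have hWP : W ≤ (P : Subgroup G) := Subgroup.map_subtype_le _
  have hmemW : ∀ a ∈ (P : Subgroup G), a ^ p = 1 → a ∈ W := fun a ha h =>
    ⟨⟨a, ha⟩, (hW₀ _).mpr (Subtype.ext h), rfl⟩
  have hWexp : ∀ a ∈ W, a ^ p = 1 := by
    rintro _ ⟨a, ha, rfl⟩
    exact congrArg Subtype.val ((hW₀ a).mp ha)
  have hWcomm : ∀ a ∈ W, ∀ b ∈ W, a * b = b * a := by
    rintro _ ⟨a, ha, rfl⟩ _ ⟨b, hb, rfl⟩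
    haveI := hW₀ab
    exact congrArg (fun w : W₀ => ((w : ↥P) : G)) (mul_comm' (⟨a, ha⟩ : W₀) ⟨b, hb⟩)
  have hZW : Z ≤ W := Subgroup.map_mono hZW₀
  have hxW : x ∈ W := hmemW x hgP (by rw [hx, conj_pow, hWexp z (hZW hz), mul_one, mul_inv_cancel])
  -- a Sylow subgroup centralising `x` and containing `W`
  have hWx : W ≤ Subgroup.centralizer ({x} : Set G) := fun w hw =>
    Subgroup.mem_centralizer_singleton_iff.mpr (hWcomm w hw x hxW)
  have hPx : (P : Subgroup G).map (MulAut.conj g).toMonoidHom ≤ Subgroup.centralizer ({x} : Set G) := by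
    rintro _ ⟨a, ha, rfl⟩
    obtain ⟨z', hz', rfl⟩ := hz
    refine Subgroup.mem_centralizer_singleton_iff.mpr ?_
    have h := congrArg Subtype.val (Subgroup.mem_center_iff.mp hz' ⟨a, ha⟩)
    show g * a * g⁻¹ * (g * z' * g⁻¹) = g * z' * g⁻¹ * (g * a * g⁻¹)
    calc g * a * g⁻¹ * (g * z' * g⁻¹) = g * (a * z') * g⁻¹ := by group
      _ = g * (z' * a) * g⁻¹ := congrArg (fun t => g * t * g⁻¹) h
      _ = g * z' * g⁻¹ * (g * a * g⁻¹) := by group
  obtain ⟨T, hT⟩ := ((P.isPGroup'.to_le hWP).of_equiv (Subgroup.subgroupOfEquivOfLe hWx).symm).exists_le_sylow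
  set T' : Subgroup G := (T : Subgroup ↥(Subgroup.centralizer ({x} : Set G))).map
    (Subgroup.centralizer ({x} : Set G)).subtype with hT'
  have hT'c : Nat.card T' = p ^ 3 := by
    obtain ⟨a, ha⟩ := IsPGroup.iff_card.mp (T.isPGroup'.map (Subgroup.centralizer ({x} : Set G)).subtype)
    obtain ⟨U, hU⟩ := ((P.isPGroup'.map (MulAut.conj g).toMonoidHom).of_equiv
      (Subgroup.subgroupOfEquivOfLe hPx).symm).exists_le_sylow
    have hge : p ^ 3 ≤ Nat.card T' := by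
      rw [hT', Subgroup.card_map_of_injective (Subgroup.subtype_injective _)]
      calc p ^ 3 = Nat.card ↥((P : Subgroup G).map (MulAut.conj g).toMonoidHom) :=
            (hcard.symm.trans (Subgroup.card_map_of_injective (MulAut.conj g).injective).symm)
        _ = _ := (Nat.card_congr (Subgroup.subgroupOfEquivOfLe hPx).toEquiv).symm
        _ ≤ Nat.card U := Subgroup.card_le_of_le hU
        _ = Nat.card T := by rw [U.card_eq_multiplicity, T.card_eq_multiplicity]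
    obtain ⟨S', hS'⟩ := (T.isPGroup'.map (Subgroup.centralizer ({x} : Set G)).subtype).exists_le_sylow
    refine le_antisymm ?_ hge
    calc Nat.card T' ≤ Nat.card S' := Subgroup.card_le_of_le hS'
      _ = p ^ 3 := by rw [S'.card_eq_multiplicity, ← P.card_eq_multiplicity, hcard]
  obtain ⟨S', hS'⟩ := (T.isPGroup'.map (Subgroup.centralizer ({x} : Set G)).subtype).exists_le_sylow
  have hS'T : T' = S' := Subgroup.eq_of_le_of_card_ge hS' (by
    rw [hT'c, S'.card_eq_multiplicity, ← P.card_eq_multiplicity, hcard])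
  obtain ⟨k, hk⟩ := MulAction.exists_smul_eq G P S'
  have hmemT : ∀ a, a ∈ T' ↔ k⁻¹ * a * k ∈ (P : Subgroup G) := by
    intro a
    rw [hS'T, ← hk, Sylow.coe_subgroup_smul, Subgroup.mem_pointwise_smul_iff_inv_smul_mem, ← map_inv,
      MulAut.smul_def, MulAut.conj_apply, inv_inv]
  have hWT : W ≤ T' := fun w hw => ⟨⟨w, hWx hw⟩, hT (Subgroup.mem_subgroupOf.mpr hw), rfl⟩
  have hkW : ∀ w ∈ W, k⁻¹ * w * k ∈ W := fun w hw => by
    refine hmemW _ ((hmemT w).mp (hWT hw)) ?_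
    have := conj_pow (a := k⁻¹) (b := w) (i := p)
    rw [inv_inv, hWexp w hw, mul_one, inv_mul_cancel] at this
    exact this
  have hkN : k⁻¹ ∈ Subgroup.normalizer (W : Set G) :=
    Subgroup.mem_normalizer_fintype (by intro w hw; rw [inv_inv]; exact hkW w hw)
  have hkW' : ∀ w ∈ W, k * w * k⁻¹ ∈ W := fun w hw => by
    simpa using (Subgroup.mem_normalizer_iff.mp (inv_mem hkN) w).mp hw
  set z₁ := k⁻¹ * x * k with hz₁
  have hz₁P : z₁ ∈ (P : Subgroup G) := (hmemT x).mp (hWT hxW)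
  have hz₁Z : (⟨z₁, hz₁P⟩ : ↥P) ∈ Subgroup.center ↥P := by
    refine Subgroup.mem_center_iff.mpr fun a => Subtype.ext ?_
    have h1 : k * a * k⁻¹ ∈ T' := (hmemT _).mpr (by simp [mul_assoc])
    obtain ⟨⟨c, hc⟩, -, hce⟩ := h1
    have h2 := Subgroup.mem_centralizer_singleton_iff.mp hc
    change c = k * a * k⁻¹ at hce
    rw [hce] at h2
    show (a : G) * z₁ = z₁ * a
    calc (a : G) * z₁ = k⁻¹ * (k * a * k⁻¹ * x) * k := by rw [hz₁]; group
      _ = k⁻¹ * (x * (k * a * k⁻¹)) * k := by rw [h2]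
      _ = z₁ * a := by rw [hz₁]; group
  have hzW : z₁ ∈ W := hZW ⟨_, hz₁Z, rfl⟩
  have hx1 : x ≠ 1 := fun h => hgZ (h ▸ Z.one_mem)
  have hz₁1 : z₁ ≠ 1 := fun h => hx1 (by
    calc x = k * z₁ * k⁻¹ := by rw [hz₁]; group
      _ = 1 := by rw [h]; group)
  have hxk : x = k * z₁ * k⁻¹ := by rw [hz₁]; group
  -- two transvections
  have hxnc : (⟨x, hgP⟩ : ↥P) ∉ Subgroup.center ↥P := fun h => hgZ ⟨_, h, rfl⟩
  obtain ⟨b, hb⟩ := hES.exists_comm_eq hxnc hz₁Z
  have hbx : (b : G) * x * (b : G)⁻¹ = x * z₁ := by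
    have h := congrArg Subtype.val hb
    change (b : G) * x * (b : G)⁻¹ * x⁻¹ = z₁ at h
    calc (b : G) * x * (b : G)⁻¹ = ((b : G) * x * (b : G)⁻¹ * x⁻¹) * x := by group
      _ = z₁ * x := by rw [h]
      _ = x * z₁ := hWcomm _ hzW _ hxW
  have hbz : (b : G) * z₁ * (b : G)⁻¹ = z₁ := by
    rw [show (b : G) * z₁ = z₁ * b from congrArg Subtype.val (Subgroup.mem_center_iff.mp hz₁Z b),
      mul_inv_cancel_right]
  have hy : k⁻¹ * z₁ * k ∈ (P : Subgroup G) := hWP (hkW _ hzW)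
  have hync : (⟨_, hy⟩ : ↥P) ∉ Subgroup.center ↥P := by
    intro h
    have h3 : k⁻¹ * z₁ * k ∈ (Subgroup.zpowers z₁ : Subgroup G) := by
      have h4 := (hES.zpowers_eq_center hz₁Z (fun e => hz₁1 (congrArg Subtype.val e))).ge h
      obtain ⟨i, hi⟩ := h4
      exact ⟨i, congrArg Subtype.val hi⟩
    obtain ⟨i, hi⟩ := h3
    have h5 : z₁ = x ^ i := by
      change z₁ ^ i = k⁻¹ * z₁ * k at hi
      rw [hxk, conj_zpow, hi]
      group
    apply hgZ
    have h6 : x ∈ Subgroup.zpowers z₁ := by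
      have hord : orderOf z₁ = p := orderOf_eq_prime (hWexp _ hzW) hz₁1
      have hord' : orderOf x = p := orderOf_eq_prime (hWexp _ hxW) hx1
      have h7 : Subgroup.zpowers z₁ = Subgroup.zpowers x := Subgroup.eq_of_le_of_card_ge
        (Subgroup.zpowers_le.mpr (h5 ▸ Subgroup.zpow_mem _ (Subgroup.mem_zpowers x) i))
        (by rw [Nat.card_zpowers, Nat.card_zpowers, hord, hord'])
      exact h7 ▸ Subgroup.mem_zpowers x
    exact Subgroup.zpowers_le.mpr (⟨_, hz₁Z, rfl⟩ : z₁ ∈ Z) h6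
  obtain ⟨b', hb'⟩ := hES.exists_comm_eq hync (Subgroup.inv_mem _ hz₁Z)
  set t := k * (b' : G) * k⁻¹ with ht
  have htx : t * x * t⁻¹ = x := by
    have h := congrArg Subtype.val (Subgroup.mem_center_iff.mp hz₁Z b')
    change (b' : G) * z₁ = z₁ * b' at h
    calc t * x * t⁻¹ = k * ((b' : G) * z₁) * (b' : G)⁻¹ * k⁻¹ := by rw [ht, hxk]; group
      _ = k * (z₁ * b') * (b' : G)⁻¹ * k⁻¹ := by rw [h]
      _ = x := by rw [hxk]; group
  have htz : t * z₁ * t⁻¹ = z₁ * x⁻¹ := by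
    have h := congrArg Subtype.val hb'
    change (b' : G) * (k⁻¹ * z₁ * k) * (b' : G)⁻¹ * (k⁻¹ * z₁ * k)⁻¹ = z₁⁻¹ at h
    calc t * z₁ * t⁻¹ = k * ((b' : G) * (k⁻¹ * z₁ * k) * (b' : G)⁻¹ * (k⁻¹ * z₁ * k)⁻¹) * k⁻¹ * z₁ := by
          rw [ht]; group
      _ = k * z₁⁻¹ * k⁻¹ * z₁ := by rw [h]
      _ = x⁻¹ * z₁ := by rw [hxk]; group
      _ = z₁ * x⁻¹ := hWcomm _ (W.inv_mem hxW) _ hzW
  set v := (b : G) * t * b with hv
  have hvz : v * z₁ * v⁻¹ = x⁻¹ := by
    calc v * z₁ * v⁻¹ = (b : G) * (t * ((b : G) * z₁ * (b : G)⁻¹) * t⁻¹) * (b : G)⁻¹ := by rw [hv]; group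
      _ = (b : G) * (z₁ * x⁻¹) * (b : G)⁻¹ := by rw [hbz, htz]
      _ = ((b : G) * z₁ * (b : G)⁻¹) * ((b : G) * x * (b : G)⁻¹)⁻¹ := by group
      _ = x⁻¹ := by rw [hbz, hbx]; group
  have hvx : v * x * v⁻¹ = z₁ := by
    calc v * x * v⁻¹ = (b : G) * (t * ((b : G) * x * (b : G)⁻¹) * t⁻¹) * (b : G)⁻¹ := by rw [hv]; group
      _ = (b : G) * (t * (x * z₁) * t⁻¹) * (b : G)⁻¹ := by rw [hbx]
      _ = (b : G) * ((t * x * t⁻¹) * (t * z₁ * t⁻¹)) * (b : G)⁻¹ := by group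
      _ = (b : G) * (x * (z₁ * x⁻¹)) * (b : G)⁻¹ := by rw [htx, htz]
      _ = (b : G) * (x * (x⁻¹ * z₁)) * (b : G)⁻¹ := by
          rw [hWcomm _ (W.inv_mem hxW) _ hzW]
      _ = z₁ := by rw [mul_inv_cancel_left, hbz]
  set h := v * v with hh
  let D : Subgroup G :=
    { carrier := {w | w ∈ W ∧ h * w * h⁻¹ = w⁻¹}
      one_mem' := ⟨W.one_mem, by group⟩
      mul_mem' := by
        rintro a c ⟨ha, ha'⟩ ⟨hc, hc'⟩
        refine ⟨W.mul_mem ha hc, ?_⟩
        calc h * (a * c) * h⁻¹ = (h * a * h⁻¹) * (h * c * h⁻¹) := by group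
          _ = a⁻¹ * c⁻¹ := by rw [ha', hc']
          _ = (a * c)⁻¹ := by rw [mul_inv_rev]; exact hWcomm _ (W.inv_mem ha) _ (W.inv_mem hc)
      inv_mem' := by
        rintro a ⟨ha, ha'⟩
        refine ⟨W.inv_mem ha, ?_⟩
        calc h * a⁻¹ * h⁻¹ = (h * a * h⁻¹)⁻¹ := by group
          _ = _ := by rw [ha'] }
  have hzD : z₁ ∈ D := ⟨hZW ⟨_, hz₁Z, rfl⟩, by
    calc h * z₁ * h⁻¹ = v * (v * z₁ * v⁻¹) * v⁻¹ := by rw [hh]; group
      _ = (v * x * v⁻¹)⁻¹ := by rw [hvz]; group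
      _ = z₁⁻¹ := by rw [hvx]⟩
  have hxD : x ∈ D := ⟨hxW, by
    calc h * x * h⁻¹ = v * (v * x * v⁻¹) * v⁻¹ := by rw [hh]; group
      _ = x⁻¹ := by rw [hvx, hvz]⟩
  have hDW : D = W := by
    refine Subgroup.eq_of_le_of_card_ge (fun w hw => hw.1) ?_
    have h1 : Subgroup.zpowers z₁ < D := by
      refine lt_of_le_of_ne (Subgroup.zpowers_le.mpr hzD) fun he => hgZ ?_
      exact Subgroup.zpowers_le.mpr (⟨_, hz₁Z, rfl⟩ : z₁ ∈ Z) (he ▸ hxD)
    have h2 : p < Nat.card D := by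
      calc p = Nat.card (Subgroup.zpowers z₁) := by
            rw [Nat.card_zpowers, orderOf_eq_prime (hWexp _ hzW) hz₁1]
        _ < _ := lt_of_le_of_ne (Subgroup.card_le_of_le h1.le)
            (fun e => h1.ne (Subgroup.eq_of_le_of_card_ge h1.le e.ge))
    obtain ⟨j, hj2, hj⟩ := (Nat.dvd_prime_pow hpp).mp
      (hWc ▸ Subgroup.card_dvd_of_le (show D ≤ W from fun w hw => hw.1))
    rw [hj] at h2 ⊢
    rw [hWc]
    refine Nat.pow_le_pow_right hpp.pos ?_
    by_contra hj'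
    have : p ^ j ≤ p ^ 1 := Nat.pow_le_pow_right hpp.pos (by omega)
    rw [pow_one] at this
    omega
  have hinv : ∀ w ∈ W, h * w * h⁻¹ = w⁻¹ := fun w hw => (hDW.ge hw).2
  have hinv' : ∀ w ∈ W, h⁻¹ * w * h = w⁻¹ := fun w hw => by
    calc h⁻¹ * w * h = h⁻¹ * (h * w⁻¹ * h⁻¹) * h := by rw [hinv _ (W.inv_mem hw), inv_inv]
      _ = w⁻¹ := by group
  -- Sylow in `P C(W)`
  set C := Subgroup.centralizer (W : Set G) with hC
  have hWn : ∀ a ∈ (P : Subgroup G), ∀ w ∈ W, a * w * a⁻¹ ∈ W := by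
    rintro a ha _ ⟨w, hw, rfl⟩
    exact ⟨_, hW₀n.conj_mem w hw ⟨a, ha⟩, rfl⟩
  have hPC : (P : Subgroup G) ≤ Subgroup.normalizer (C : Set G) := fun a ha =>
    Subgroup.mem_normalizer_fintype fun c hc w hw => by
      have hw' := hWn a⁻¹ (inv_mem ha) w hw
      rw [inv_inv] at hw'
      calc w * (a * c * a⁻¹) = a * ((a⁻¹ * w * a) * c) * a⁻¹ := by group
        _ = a * (c * (a⁻¹ * w * a)) * a⁻¹ := by rw [hc _ hw']
        _ = a * c * a⁻¹ * w := by group
  set X := C ⊔ (P : Subgroup G) with hX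
  have hcomm : ∀ a ∈ (P : Subgroup G), h * a * h⁻¹ * a⁻¹ ∈ C := by
    intro a ha w hw
    have hw1 : a⁻¹ * w * a ∈ W := by simpa using hWn a⁻¹ (inv_mem ha) w hw
    have hw2 := W.inv_mem hw1
    have key : (h * a * h⁻¹ * a⁻¹)⁻¹ * w * (h * a * h⁻¹ * a⁻¹) = w := by
      calc (h * a * h⁻¹ * a⁻¹)⁻¹ * w * (h * a * h⁻¹ * a⁻¹)
          = a * (h * (a⁻¹ * (h⁻¹ * w * h) * a) * h⁻¹) * a⁻¹ := by group
        _ = a * (h * (a⁻¹ * w * a)⁻¹ * h⁻¹) * a⁻¹ := by rw [hinv' w hw]; group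
        _ = a * ((a⁻¹ * w * a)⁻¹)⁻¹ * a⁻¹ := by rw [hinv _ hw2]
        _ = w := by group
    calc w * (h * a * h⁻¹ * a⁻¹)
        = (h * a * h⁻¹ * a⁻¹) * ((h * a * h⁻¹ * a⁻¹)⁻¹ * w * (h * a * h⁻¹ * a⁻¹)) := by group
      _ = _ := by rw [key]
  have hhX : ((h • P : Sylow p G) : Subgroup G) ≤ X := by
    intro a ha
    rw [Sylow.coe_subgroup_smul, Subgroup.mem_pointwise_smul_iff_inv_smul_mem, ← map_inv,
      MulAut.smul_def, MulAut.conj_apply, inv_inv] at ha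
    have h1 := hcomm _ ha
    have h2 := X.mul_mem (Subgroup.mem_sup_left (T := (P : Subgroup G)) h1)
      (Subgroup.mem_sup_right (S := C) ha)
    simpa [mul_assoc] using h2
  obtain ⟨⟨c', hc'X⟩, hc'⟩ := MulAction.exists_smul_eq ↥X (P.subtype le_sup_right) ((h • P).subtype hhX)
  rw [hX, ← SetLike.mem_coe, Subgroup.coe_mul_of_right_le_normalizer_left C _ hPC] at hc'X
  obtain ⟨c, hcC, a, haP, rfl⟩ := hc'X
  have hb₁ : c⁻¹ * (h * (b : G) * h⁻¹) * c ∈ (P : Subgroup G) := by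
    have hmem : h * (b : G) * h⁻¹ ∈ ((h • P : Sylow p G) : Subgroup G) := by
      rw [Sylow.coe_subgroup_smul, Subgroup.mem_pointwise_smul_iff_inv_smul_mem, ← map_inv,
        MulAut.smul_def, MulAut.conj_apply, inv_inv]
      simp [mul_assoc]
    have hmem' : (⟨h * (b : G) * h⁻¹, hhX hmem⟩ : ↥X) ∈ ((h • P).subtype hhX : Subgroup ↥X) := hmem
    rw [← hc', Sylow.coe_subgroup_smul, Subgroup.mem_pointwise_smul_iff_inv_smul_mem, ← map_inv,
      MulAut.smul_def, MulAut.conj_apply, inv_inv] at hmem'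
    have h1 : (c * a)⁻¹ * (h * (b : G) * h⁻¹) * (c * a) ∈ (P : Subgroup G) := hmem'
    have h2 := mul_mem (mul_mem haP h1) (inv_mem haP)
    convert h2 using 1
    group
  set a₁ := c⁻¹ * (h * (b : G) * h⁻¹) * c with ha₁
  have hw₁ : a₁ * (b : G)⁻¹ ∈ W := by
    have h2 : a₁ * (b : G)⁻¹ ∈ C := by
      have e : a₁ * (b : G)⁻¹ = c⁻¹ * (h * (b : G) * h⁻¹ * (b : G)⁻¹) * ((b : G) * c * (b : G)⁻¹) := by
        rw [ha₁]; group
      rw [e]
      exact C.mul_mem (C.mul_mem (C.inv_mem hcC) (hcomm _ b.2))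
        ((Subgroup.mem_normalizer_iff.mp (hPC b.2) c).mp hcC)
    have h3 : a₁ * (b : G)⁻¹ ∈ (P : Subgroup G) := mul_mem hb₁ (inv_mem b.2)
    exact ⟨⟨_, h3⟩, hW₀C ⟨x, hgP⟩ ((hW₀ _).mpr (Subtype.ext (hWexp x hxW))) hxnc _
      (Subtype.ext (h2 x hxW).symm), rfl⟩
  have hbp : ((b : G)) ^ p ∈ W := hmemW _ (pow_mem b.2 p) (congrArg Subtype.val (hES.pow_eq_one (hES.pow_mem b)))
  have h4 : a₁ ^ p = ((b : G) ^ p)⁻¹ := by
    calc a₁ ^ p = c⁻¹ * (h * (b : G) * h⁻¹) ^ p * c := by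
          rw [ha₁]
          have := conj_pow (a := c⁻¹) (b := h * (b : G) * h⁻¹) (i := p)
          rwa [inv_inv] at this
      _ = c⁻¹ * ((b : G) ^ p)⁻¹ * c := by rw [conj_pow, hinv _ hbp]
      _ = ((b : G) ^ p)⁻¹ := by
          rw [mul_assoc, hcC _ (W.inv_mem hbp), inv_mul_cancel_left]
  have h5 : a₁ ^ p = (b : G) ^ p := by
    obtain ⟨⟨w, hw⟩, hwW, hwe⟩ := hw₁
    have h6 : (⟨w, hw⟩ * b : ↥P) ^ p = (⟨w, hw⟩ : ↥P) ^ p * b ^ p :=
      PGroup.mul_pow_classTwo hpp hp hES.comm_mem (hES.pow_mem b)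
    rw [(hW₀ _).mp hwW, one_mul] at h6
    have h7 := congrArg Subtype.val h6
    change (w * (b : G)) ^ p = (b : G) ^ p at h7
    change w = a₁ * (b : G)⁻¹ at hwe
    rwa [hwe, inv_mul_cancel_right] at h7
  have h8 : (b : G) ^ p = 1 := by
    have h9 : ((b : G) ^ p) ^ 2 = 1 := by
      rw [sq]
      nth_rewrite 1 [← h5]
      rw [h4, inv_mul_cancel]
    exact orderOf_eq_one_iff.mp (Nat.eq_one_of_dvd_coprimes
      ((Nat.coprime_primes Nat.prime_two hpp).mpr (Ne.symm hp)) (orderOf_dvd_of_pow_eq_one h9)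
      (orderOf_dvd_of_pow_eq_one (hWexp _ hbp)))
  have hbW : (b : G) ∈ W := hmemW _ b.2 h8
  rw [hWcomm _ hbW _ hxW, mul_inv_cancel_right] at hbx
  exact hz₁1 (left_eq_mul.mp hbx)

/-- Let p be an odd prime and G a finite group with a Sylow p-subgroup P that is extraspecial of order p³ and exponent p². Then the centre of P is strongly closed in P with respect to G: a G-conjugate of an element of Z(P) that lies in P already lies in Z(P). In particular a nontrivial central element of P is conjugate in G to no noncentral element of P. -/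
theorem result {G : Type*} [Group G] [Finite G]
    {p : ℕ} [Fact p.Prime] (hp : p ≠ 2) (P : Sylow p G) (hE : Cfsg.IsExtraspecial p ↥P)
    (hcard : Nat.card P = p ^ 3) (hexp : Monoid.exponent ↥P = p ^ 2) :
    Cfsg.IsStronglyClosed ((Subgroup.center ↥P).map (P : Subgroup G).subtype) (P : Subgroup G) := by
  exact key hp P (PGroup.isES_of_isExtraspecial hE) hcard hexp

end Cfsg.Agent.S3053
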