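import Cfsg.Statements.S3054
import Cfsg.Agent.Lib.RadicalLines.Count
import Cfsg.Agent.Lib.RadicalLines.Coord

set_option autoImplicit false
open Cfsg

namespace Cfsg.Agent.S3054

open scoped commutatorElement
open Cfsg.Agent

variable {p : ℕ} [Fact p.Prime]

/-- The linear map `F` of `(ZMod p)^2` is induced by conjugation on the subgroup parametrised by `e`. -/
def Real {G : Type*} [Group G] (e : ZMod p × ZMod p → G) (F : ZMod p × ZMod p → ZMod p × ZMod p) : Prop :=
  ∃ g : G, ∀ x, g * e x * g⁻¹ = e (F x)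

omit [Fact p.Prime] in
theorem Real.comp {G : Type*} [Group G] {e : ZMod p × ZMod p → G}
    {F F' : ZMod p × ZMod p → ZMod p × ZMod p} (h : Real e F) (h' : Real e F') : Real e (F ∘ F') := by
  obtain ⟨g, hg⟩ := h
  obtain ⟨g', hg'⟩ := h'
  refine ⟨g * g', fun x => ?_⟩
  rw [Function.comp_apply, ← hg, ← hg']
  group

/-- Transvections generate the diagonal map. -/
theorem exists_diag {G : Type*} [Group G] {e : ZMod p × ZMod p → G}
    (hX : ∀ c : ZMod p, Real e fun x => (x.1, x.2 + c * x.1))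
    (hY : ∀ c : ZMod p, Real e fun x => (x.1 + c * x.2, x.2)) (t : (ZMod p)ˣ) :
    ∃ g : G, ∀ x, g * e x * g⁻¹ = e (((t⁻¹ : (ZMod p)ˣ) : ZMod p) * x.1, (t : ZMod p) * x.2) := by
  obtain ⟨g, hg⟩ := ((hX t).comp ((hY (-((t⁻¹ : (ZMod p)ˣ) : ZMod p))).comp (hX t))).comp
    ((hX (-1)).comp ((hY 1).comp (hX (-1))))
  refine ⟨g, fun x => (hg x).trans (congrArg e ?_)⟩
  have ht : ((t⁻¹ : (ZMod p)ˣ) : ZMod p) * (t : ZMod p) = 1 := t.inv_mul
  refine Prod.ext ?_ ?_ <;> simp only [Function.comp_apply] <;> grind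

open RadicalLines

/-- The diagonal element `diag(t⁻¹, t)` on `⟨a, w⟩` normalising `P`. -/
theorem exists_torus {G : Type*} [Group G] [Finite G] (P : Sylow p G)
    (hE : Cfsg.IsExtraspecial p ↥(P : Subgroup G)) (hcard : Nat.card ↥(P : Subgroup G) = p ^ 3)
    (hexp : ∀ x : ↥(P : Subgroup G), x ^ p = 1)
    (φ : ↥(P : Subgroup G) → Fin 2 → ZMod p) (w : ↥(P : Subgroup G))
    (hφ : ∀ x y, φ (x * y) = φ x + φ y) (hker : ∀ x, φ x = 0 ↔ x ∈ Subgroup.center ↥(P : Subgroup G))
    (hw1 : w ≠ 1) (hwZ : w ∈ Subgroup.center ↥(P : Subgroup G))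
    (hgen : ∀ z ∈ Subgroup.center ↥(P : Subgroup G), ∃ i : ZMod p, z = zp w i)
    (A : Subgroup G) (hAP : A ≤ (P : Subgroup G)) (hAc : Nat.card ↥A = p ^ 2)
    (hSL : ∀ f : MulAut ↥A, orderOf f = p → ∃ g : G, ∀ a : ↥A, (f a : G) = g * (a : G) * g⁻¹)
    (t : (ZMod p)ˣ) :
    ∃ a : ↥(P : Subgroup G), (a : G) ∈ A ∧ φ a ≠ 0 ∧
      (∀ x : ↥(P : Subgroup G), (x : G) ∈ A ↔ ∃ i : ZMod p, φ x = i • φ a) ∧
      ∃ g : ↥(Subgroup.normalizer ((P : Subgroup G) : Set G)),
        (P : Subgroup G).normalizerMonoidHom g a = zp a ((t⁻¹ : (ZMod p)ˣ) : ZMod p) ∧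
        (P : Subgroup G).normalizerMonoidHom g w = zp w (t : ZMod p) := by
  set Z := Subgroup.center ↥(P : Subgroup G) with hZ
  set A' := A.subgroupOf (P : Subgroup G) with hA'
  have hA'c : Nat.card A' = p ^ 2 := by
    rw [← hAc]; exact Nat.card_congr (Subgroup.subgroupOfEquivOfLe hAP).toEquiv
  have hp1 : 1 < p := (Fact.out : p.Prime).one_lt
  have hA'ab : ∀ a ∈ A', ∀ b ∈ A', a * b = b * a := fun a ha b hb =>
    congrArg Subtype.val ((IsPGroup.isMulCommutative_of_card_eq_prime_sq hA'c).is_comm.comm (⟨a, ha⟩ : ↥A') ⟨b, hb⟩)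
  have hZA : Z ≤ A' := by
    have hab : ∀ a ∈ A' ⊔ Z, ∀ b ∈ A' ⊔ Z, a * b = b * a := by
      have hle : A' ⊔ Z ≤ Subgroup.centralizer ((A' ⊔ Z : Subgroup _) : Set ↥(P : Subgroup G)) := by
        have h1 : A' ⊔ Z ≤ Subgroup.centralizer (A' : Set ↥(P : Subgroup G)) :=
          sup_le (fun a ha b hb => hA'ab b hb a ha) (Subgroup.center_le_centralizer _)
        rw [Subgroup.le_centralizer_iff]
        exact sup_le (Subgroup.le_centralizer_iff.mp h1) (Subgroup.center_le_centralizer _)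
      exact fun a ha b hb => hle hb a ha
    have h2 := Extraspecial.card_abelian_sq_le hE hab
    rw [hcard] at h2
    have h3 : Nat.card ↥(A' ⊔ Z) ≤ Nat.card A' := by
      rw [hA'c]
      by_contra h4
      push Not at h4
      have h5 : p ^ 2 * p ^ 2 < Nat.card ↥(A' ⊔ Z) * Nat.card ↥(A' ⊔ Z) := Nat.mul_self_lt_mul_self h4
      rw [show p * p ^ 3 = p ^ 2 * p ^ 2 by ring] at h2
      omega
    exact le_sup_right.trans (Subgroup.eq_of_le_of_card_ge le_sup_left h3).ge
  obtain ⟨a, haA, haZ⟩ : ∃ a ∈ A', a ∉ Z := by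
    refine SetLike.not_le_iff_exists.mp fun hle => ?_
    have h := Subgroup.card_le_of_le hle
    rw [hA'c, hE.2, pow_two] at h
    exact absurd h (not_le.mpr (lt_mul_self hp1))
  have hφzp : ∀ (x : ↥(P : Subgroup G)) (i : ZMod p), φ (zp x i) = i • φ x := by
    have h1 : φ 1 = 0 := (hker 1).mpr (one_mem _)
    have hpow : ∀ (x : ↥(P : Subgroup G)) (n : ℕ), φ (x ^ n) = (n : ZMod p) • φ x := by
      intro x n
      induction n with
      | zero => rw [pow_zero, h1, Nat.cast_zero, zero_smul]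
      | succ n ih => rw [pow_succ, hφ, ih, Nat.cast_succ, add_smul, one_smul]
    intro x i
    rw [zp, hpow, ZMod.natCast_zmod_val]
  have hwz : ∀ i : ZMod p, zp w i ∈ Z := fun i => Z.pow_mem hwZ _
  have hφw : φ w = 0 := (hker w).mpr hwZ
  have hφa : φ a ≠ 0 := fun h => haZ ((hker a).mp h)
  let q : ZMod p × ZMod p → ↥A := fun x =>
    ⟨(zp a x.1 * zp w x.2 : ↥(P : Subgroup G)),
      A'.mul_mem (A'.pow_mem haA _) (A'.pow_mem (hZA hwZ) _)⟩
  have hqadd : ∀ x y, q (x + y) = q x * q y := by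
    intro x y
    refine Subtype.ext ?_
    show ((zp a (x.1 + y.1) * zp w (x.2 + y.2) : ↥(P : Subgroup G)) : G)
      = ((zp a x.1 * zp w x.2 : ↥(P : Subgroup G)) : G) * ((zp a y.1 * zp w y.2 : ↥(P : Subgroup G)) : G)
    rw [← Subgroup.coe_mul, zp_add (hexp a), zp_add (hexp w)]
    congr 1
    have hc : Commute (zp w x.2) (zp a y.1) :=
      (Subgroup.mem_center_iff.mp (Z.pow_mem hwZ _) _).symm
    exact (hc.mul_mul_mul_comm _ _).symm
  have hqφ : ∀ x : ZMod p × ZMod p, φ (zp a x.1 * zp w x.2) = x.1 • φ a := by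
    intro x; rw [hφ, hφzp, hφzp, hφw, smul_zero, add_zero]
  have hqinj : Function.Injective q := by
    intro x y h
    have h' : zp a x.1 * zp w x.2 = zp a y.1 * zp w y.2 := Subtype.ext (congrArg Subtype.val h :)
    have h1 : x.1 = y.1 := smul_left_injective _ hφa (show x.1 • φ a = y.1 • φ a by rw [← hqφ, h', hqφ])
    rw [h1] at h'
    exact Prod.ext h1 (zp_injective (hexp w) hw1 (mul_left_cancel h'))
  have hqbij : Function.Bijective q := (Nat.bijective_iff_injective_and_card q).mpr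
    ⟨hqinj, by rw [Nat.card_prod, Nat.card_zmod, hAc, pow_two]⟩
  let eA : Multiplicative (ZMod p × ZMod p) ≃* ↥A := MulEquiv.mk' (Multiplicative.toAdd.trans (Equiv.ofBijective q hqbij))
    (fun x y => hqadd _ _)
  have real_of : ∀ F : ZMod p → (ZMod p × ZMod p) ≃+ (ZMod p × ZMod p),
      (∀ c d, F (c + d) = (F d).trans (F c)) → F 0 = AddEquiv.refl _ →
      ∀ c, Real (fun x => (q x : G)) (F c) := by
    intro F hF hF0 c
    by_cases hc : F c = AddEquiv.refl _
    · exact ⟨1, fun x => by rw [hc]; simp⟩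
    let τ : Multiplicative (ZMod p) →* MulAut ↥A :=
      { toFun := fun c => (eA.symm.trans (AddEquiv.toMultiplicative (F c.toAdd))).trans eA
        map_one' := by
          refine MulEquiv.ext fun x => ?_
          show eA (AddEquiv.toMultiplicative (F 0) (eA.symm x)) = x
          rw [hF0]
          exact eA.apply_symm_apply x
        map_mul' := fun c d => by
          refine MulEquiv.ext fun x => ?_
          show eA (AddEquiv.toMultiplicative (F (c.toAdd + d.toAdd)) (eA.symm x)) =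
            eA (AddEquiv.toMultiplicative (F c.toAdd)
              (eA.symm (eA (AddEquiv.toMultiplicative (F d.toAdd) (eA.symm x)))))
          rw [hF, eA.symm_apply_apply]
          rfl }
    have happ : ∀ x, τ (Multiplicative.ofAdd c) (q x) = q (F c x) := by
      intro x
      show eA (AddEquiv.toMultiplicative (F c) (eA.symm (eA (Multiplicative.ofAdd x)))) = q (F c x)
      rw [eA.symm_apply_apply]
      rfl
    have hord : orderOf (τ (Multiplicative.ofAdd c)) = p := by
      refine orderOf_eq_prime ?_ fun h => hc (AddEquiv.ext fun x => hqinj ?_)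
      · rw [← map_pow, ← ofAdd_nsmul, nsmul_eq_mul, ZMod.natCast_self, zero_mul, ofAdd_zero, map_one]
      · rw [← happ x, h]; rfl
    obtain ⟨g, hg⟩ := hSL _ hord
    exact ⟨g, fun x => by rw [← hg, happ]⟩
  have hX : ∀ c : ZMod p, Real (fun x => (q x : G)) fun x => (x.1, x.2 + c * x.1) :=
    real_of (fun c =>
      { toFun := fun x => (x.1, x.2 + c * x.1)
        invFun := fun x => (x.1, x.2 - c * x.1)
        left_inv := fun x => by simp
        right_inv := fun x => by simp
        map_add' := fun x y => Prod.ext rfl (by simp; ring) })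
      (fun c d => AddEquiv.ext fun x => Prod.ext rfl (by simp; ring))
      (AddEquiv.ext fun x => by simp)
  have hY : ∀ c : ZMod p, Real (fun x => (q x : G)) fun x => (x.1 + c * x.2, x.2) :=
    real_of (fun c =>
      { toFun := fun x => (x.1 + c * x.2, x.2)
        invFun := fun x => (x.1 - c * x.2, x.2)
        left_inv := fun x => by simp
        right_inv := fun x => by simp
        map_add' := fun x y => Prod.ext (by simp; ring) rfl })
      (fun c d => AddEquiv.ext fun x => Prod.ext (by simp; ring) rfl)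
      (AddEquiv.ext fun x => by simp)
  obtain ⟨g₀, hg₀⟩ := exists_diag hX hY t
  set t' : ZMod p := ((t⁻¹ : (ZMod p)ˣ) : ZMod p) with ht'
  have htt : t' * (t : ZMod p) = 1 := t.inv_mul
  -- an element of `C(A)` corrects `g₀` to normalise `P`
  set C := Subgroup.centralizer (A : Set G) with hC
  have hAn : (P : Subgroup G) ≤ Subgroup.normalizer (A : Set G) := by
    intro x hx
    refine Subgroup.mem_normalizer_fintype fun b hb => ?_
    have hbA' : (⟨b, hAP hb⟩ : ↥(P : Subgroup G)) ∈ A' := hb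
    have h1 : ⁅(⟨x, hx⟩ : ↥(P : Subgroup G)), ⟨b, hAP hb⟩⁆ * ⟨b, hAP hb⟩ ∈ A' :=
      mul_mem (hZA (Extraspecial.commutatorElement_mem_center hE _ _)) hbA'
    rw [commutatorElement_def, inv_mul_cancel_right] at h1
    exact h1
  have hPC : (P : Subgroup G) ≤ Subgroup.normalizer (C : Set G) := by
    intro x hx
    refine Subgroup.mem_normalizer_fintype fun c hc => ?_
    intro b hb
    have h1 : x⁻¹ * b * x ∈ A := (Subgroup.mem_normalizer_iff''.mp (hAn hx) b).mp hb
    calc b * (x * c * x⁻¹) = x * ((x⁻¹ * b * x) * c) * x⁻¹ := by group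
      _ = x * (c * (x⁻¹ * b * x)) * x⁻¹ := by rw [hc _ h1]
      _ = x * c * x⁻¹ * b := by group
  have hAgen : ∀ b ∈ A, ∃ x, (q x : G) = b := fun b hb => by
    obtain ⟨x, hx⟩ := hqbij.2 ⟨b, hb⟩; exact ⟨x, congrArg Subtype.val hx⟩
  have hle₁ : (↑(g₀ • P) : Subgroup G) ≤ (P : Subgroup G) ⊔ C := by
    intro y hy
    rw [Sylow.coe_subgroup_smul] at hy
    obtain ⟨x, hx, rfl⟩ := hy
    set X : ↥(P : Subgroup G) := ⟨x, hx⟩
    obtain ⟨k, hk⟩ := hgen ⁅X, a⁆ (Extraspecial.commutatorElement_mem_center hE _ _)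
    set m : ZMod p := (t : ZMod p) * t with hm
    have hXm : ⁅zp X m, a⁆ = zp w (k * m) := by
      rw [comm_zp_left hE, hk, ← zp_mul (hexp w)]
    -- both elements act alike on `A`
    have hact : ∀ (Y : ↥(P : Subgroup G)) (l : ZMod p), ⁅Y, a⁆ = zp w l → ∀ z : ZMod p × ZMod p,
        (Y : G) * (q z : G) * (Y : G)⁻¹ = q (z.1, z.2 + l * z.1) := by
      intro Y l hY z
      show (Y : G) * ((zp a z.1 * zp w z.2 : ↥(P : Subgroup G)) : G) * (Y : G)⁻¹
        = ((zp a z.1 * zp w (z.2 + l * z.1) : ↥(P : Subgroup G)) : G)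
      rw [← Subgroup.coe_inv, ← Subgroup.coe_mul, ← Subgroup.coe_mul]
      congr 1
      have h1 : ⁅Y, zp a z.1⁆ = zp w (l * z.1) := by rw [comm_zp_right hE, hY, ← zp_mul (hexp w)]
      have h2 : Y * zp w z.2 * Y⁻¹ = zp w z.2 := by
        rw [Subgroup.mem_center_iff.mp (hwz _) Y, mul_inv_cancel_right]
      calc Y * (zp a z.1 * zp w z.2) * Y⁻¹ = ⁅Y, zp a z.1⁆ * zp a z.1 * (Y * zp w z.2 * Y⁻¹) := by group
        _ = zp w (l * z.1) * zp a z.1 * zp w z.2 := by rw [h1, h2]
        _ = zp a z.1 * (zp w (l * z.1) * zp w z.2) := by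
            rw [← Subgroup.mem_center_iff.mp (hwz (l * z.1)) (zp a z.1), mul_assoc]
        _ = zp a z.1 * zp w (z.2 + l * z.1) := by rw [← zp_add (hexp w), add_comm]
    have hc : ((zp X m : ↥(P : Subgroup G)) : G)⁻¹ * (g₀ * x * g₀⁻¹) ∈ C := by
      intro b hb
      obtain ⟨z, rfl⟩ := hAgen b hb
      have h1 : g₀ * x * g₀⁻¹ * (q z : G) * (g₀ * x * g₀⁻¹)⁻¹ = q (z.1, z.2 + k * m * z.1) := by
        have hz : (q z : G) = g₀ * (q ((t : ZMod p) * z.1, t' * z.2) : G) * g₀⁻¹ := by
          rw [hg₀]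
          show _ = (q (t' * ((t : ZMod p) * z.1), (t : ZMod p) * (t' * z.2)) : G)
          rw [← mul_assoc, htt, one_mul, ← mul_assoc, mul_comm (t : ZMod p) t', htt, one_mul]
        calc g₀ * x * g₀⁻¹ * (q z : G) * (g₀ * x * g₀⁻¹)⁻¹
            = g₀ * ((X : G) * (q ((t : ZMod p) * z.1, t' * z.2) : G) * (X : G)⁻¹) * g₀⁻¹ := by
              rw [hz]; group; rfl
          _ = q (z.1, z.2 + k * m * z.1) := by
              rw [hact X k hk, hg₀]
              congr 2
              refine Prod.ext ?_ ?_ <;> simp only [hm] <;> grind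
      have h2 := hact (zp X m) (k * m) hXm z
      rw [← h2] at h1
      calc (q z : G) * (((zp X m : ↥(P : Subgroup G)) : G)⁻¹ * (g₀ * x * g₀⁻¹))
          = ((zp X m : ↥(P : Subgroup G)) : G)⁻¹ * (((zp X m : ↥(P : Subgroup G)) : G) * (q z : G) * ((zp X m : ↥(P : Subgroup G)) : G)⁻¹) * (g₀ * x * g₀⁻¹) := by group
        _ = ((zp X m : ↥(P : Subgroup G)) : G)⁻¹ * (g₀ * x * g₀⁻¹ * (q z : G) * (g₀ * x * g₀⁻¹)⁻¹) * (g₀ * x * g₀⁻¹) := by
            rw [h1]
        _ = ((zp X m : ↥(P : Subgroup G)) : G)⁻¹ * (g₀ * x * g₀⁻¹) * (q z : G) := by group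
    show g₀ * x * g₀⁻¹ ∈ (P : Subgroup G) ⊔ C
    have := mul_mem (Subgroup.mem_sup_left (T := C) (zp X m).2) (Subgroup.mem_sup_right (S := (P : Subgroup G)) hc)
    rwa [mul_inv_cancel_left] at this
  obtain ⟨d, hd⟩ := MulAction.exists_smul_eq ↥((P : Subgroup G) ⊔ C) ((g₀ • P).subtype hle₁)
    (P.subtype (le_sup_left : (P : Subgroup G) ≤ (P : Subgroup G) ⊔ C))
  obtain ⟨x₁, hx₁, c, hc, hdc⟩ : ∃ x₁ ∈ (P : Subgroup G), ∃ c ∈ C, x₁ * c = (d : G) := by
    have := d.2
    rw [← SetLike.mem_coe, Subgroup.coe_mul_of_left_le_normalizer_right _ _ hPC] at this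
    exact this
  have hn : c * g₀ ∈ Subgroup.normalizer ((P : Subgroup G) : Set G) := by
    refine Subgroup.mem_normalizer_fintype fun x hx => ?_
    have hy : g₀ * x * g₀⁻¹ ∈ (↑(g₀ • P) : Subgroup G) := by
      rw [Sylow.coe_subgroup_smul]; exact ⟨x, hx, rfl⟩
    have h1 : d * ⟨g₀ * x * g₀⁻¹, hle₁ hy⟩ * d⁻¹ ∈ ((P.subtype (le_sup_left : (P : Subgroup G) ≤ (P : Subgroup G) ⊔ C) : Sylow p _) : Subgroup _) := by
      rw [← hd, Sylow.coe_subgroup_smul]
      exact ⟨_, hy, rfl⟩
    have h2 : (d : G) * (g₀ * x * g₀⁻¹) * (d : G)⁻¹ ∈ (P : Subgroup G) := h1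
    have h3 := mul_mem (mul_mem (inv_mem hx₁) h2) hx₁
    rw [← hdc] at h3
    show c * g₀ * x * (c * g₀)⁻¹ ∈ (P : Subgroup G)
    convert h3 using 1
    group
  have hfix : ∀ z, c * g₀ * (q z : G) * (c * g₀)⁻¹ = q (t' * z.1, (t : ZMod p) * z.2) := by
    intro z
    have h1 : (q (t' * z.1, (t : ZMod p) * z.2) : G) * c = c * q (t' * z.1, (t : ZMod p) * z.2) :=
      hc _ (q _).2
    calc c * g₀ * (q z : G) * (c * g₀)⁻¹ = c * (g₀ * (q z : G) * g₀⁻¹) * c⁻¹ := by group
      _ = q (t' * z.1, (t : ZMod p) * z.2) := by rw [hg₀, ← h1, mul_inv_cancel_right]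
  refine ⟨a, haA, hφa, fun x => ⟨fun hx => ?_, ?_⟩, ⟨c * g₀, hn⟩, ?_, ?_⟩
  · obtain ⟨z, hz⟩ := hAgen _ hx
    exact ⟨z.1, by rw [← hqφ z]; exact congrArg φ (Subtype.ext hz).symm⟩
  · rintro ⟨i, hi⟩
    have h1 : (zp a i)⁻¹ * x ∈ Z := by
      rw [← hker, hφ]
      have h2 : φ (zp a i)⁻¹ + φ (zp a i) = 0 := by rw [← hφ, inv_mul_cancel, hker]; exact one_mem _
      rw [hi, ← hφzp, h2]
    have h3 : x ∈ A' := by
      have := A'.mul_mem (A'.pow_mem haA i.val) (hZA h1)
      rwa [show a ^ i.val = zp a i from rfl, mul_inv_cancel_left] at this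
    exact h3
  · apply Subtype.ext
    have := hfix (1, 0)
    simp only [q, zp_one, zp_zero, mul_one, mul_zero] at this
    exact this
  · apply Subtype.ext
    have := hfix (0, 1)
    simp only [q, zp_one, zp_zero, one_mul, mul_one, mul_zero] at this
    exact this


/-- Let p be an odd prime and G a finite group with a Sylow p-subgroup P that is extraspecial of order p³ and exponent p. Suppose P contains three distinct subgroups A of order p² (each is elementary abelian of rank 2) such that every automorphism of A of order p is induced by conjugation by an element of G; equivalently the automorphism group induced on A by its normalizer contains the special linear group of A. Then p ≤ 13. -/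
theorem result {G : Type*} [Group G] [Finite G]
    {p : ℕ} [Fact p.Prime] (hp : p ≠ 2) (P : Sylow p G) (hE : Cfsg.IsExtraspecial p ↥P)
    (hcard : Nat.card P = p ^ 3) (hexp : Monoid.exponent ↥P = p)
    (A : Fin 3 → Subgroup G) (hA : Function.Injective A) (hAP : ∀ i, A i ≤ (P : Subgroup G))
    (hAcard : ∀ i, Nat.card ↥(A i) = p ^ 2)
    (hSL : ∀ i, ∀ φ : MulAut ↥(A i), orderOf φ = p → ∃ g : G, ∀ a : ↥(A i), (φ a : G) = g * (a : G) * g⁻¹) :
    p ≤ 13 := by
  classical
  by_contra hp13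
  push Not at hp13
  have hp17 : 17 ≤ p := by
    by_contra h
    push Not at h
    have hpp : p.Prime := Fact.out
    interval_cases p <;> norm_num at hpp
  have hE' : Cfsg.IsExtraspecial p ↥(P : Subgroup G) := hE
  have hexp' : ∀ x : ↥(P : Subgroup G), x ^ p = 1 := fun x => by
    have := Monoid.pow_exponent_eq_one (G := ↥P) x
    rwa [hexp] at this
  obtain ⟨φ, w, hφ, hker, hsurj, hw1, hwZ, hgen, hcomm⟩ := exists_coord hE' hcard hexp'
  choose b hb using fun c : Fin 2 => hsurj (Pi.single c 1)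
  set N := Subgroup.normalizer ((P : Subgroup G) : Set G) with hN
  set σ := (P : Subgroup G).normalizerMonoidHom
  have hφzp : ∀ (x : ↥(P : Subgroup G)) (i : ZMod p), φ (zp x i) = i • φ x := by
    have h1 : φ 1 = 0 := (hker 1).mpr (one_mem _)
    have hpow : ∀ (x : ↥(P : Subgroup G)) (n : ℕ), φ (x ^ n) = (n : ZMod p) • φ x := by
      intro x n
      induction n with
      | zero => rw [pow_zero, h1, Nat.cast_zero, zero_smul]
      | succ n ih => rw [pow_succ, hφ, ih, Nat.cast_succ, add_smul, one_smul]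
    intro x i
    rw [zp, hpow, ZMod.natCast_zmod_val]
  -- the linear action of `N(P)` on `P/Z(P)`
  let M : ↥N → Matrix (Fin 2) (Fin 2) (ZMod p) := fun g => Matrix.of fun r c => φ (σ g (b c)) r
  have hM : ∀ (g : ↥N) (x : ↥(P : Subgroup G)), φ (σ g x) = (M g).mulVec (φ x) := by
    intro g x
    set y := zp (b 0) (φ x 0) * zp (b 1) (φ x 1) with hy
    have hφy : φ y = φ x := by
      rw [hy, hφ, hφzp, hφzp, hb, hb]
      funext r; fin_cases r <;> simp
    have hmem : y⁻¹ * x ∈ Subgroup.center ↥(P : Subgroup G) := by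
      rw [← hker]
      have h0 : φ y + φ (y⁻¹ * x) = φ x := by rw [← hφ, mul_inv_cancel_left]
      rw [hφy] at h0
      exact add_eq_left.mp h0
    have hx : φ (σ g x) = φ (σ g y) := by
      have h1 : φ (σ g (y⁻¹ * x)) = 0 := by
        rw [hker]
        refine Subgroup.mem_center_iff.mpr fun u => ?_
        obtain ⟨v, rfl⟩ := (σ g).surjective u
        rw [← map_mul (σ g) v, ← map_mul (σ g) _ v, Subgroup.mem_center_iff.mp hmem v]
      calc φ (σ g x) = φ (σ g y * σ g (y⁻¹ * x)) := by rw [← map_mul, mul_inv_cancel_left]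
        _ = φ (σ g y) := by rw [hφ, h1, add_zero]
    have hmap : ∀ (u : ↥(P : Subgroup G)) (i : ZMod p), σ g (zp u i) = zp (σ g u) i := fun u i => map_pow _ _ _
    rw [hx, hy, map_mul, hφ, hmap, hmap, hφzp, hφzp]
    funext r
    simp [M, Matrix.mulVec, dotProduct, Fin.sum_univ_two]
    ring
  let Mh : ↥N →* Matrix (Fin 2) (Fin 2) (ZMod p) :=
    { toFun := M
      map_one' := by
        ext r c
        show φ (σ 1 (b c)) r = _
        rw [map_one, MulAut.one_apply, hb, Matrix.one_apply, Pi.single_apply]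
      map_mul' := fun g g' => by
        ext r c
        show φ (σ (g * g') (b c)) r = _
        rw [map_mul, MulAut.mul_apply, hM, Matrix.mul_apply]
        rfl }
  have hb01 : ⁅b 0, b 1⁆ = w := by rw [hcomm, hb, hb]; simp
  have hdet : ∀ g : ↥N, σ g w = zp w (M g).det := by
    intro g
    rw [← hb01, map_commutatorElement, hcomm, hcomm (b 0), hb, hb, Matrix.det_fin_two]
    simp [M]
    congr 1
    ring
  set K := AlgebraicClosure (ZMod p)
  set ι : ZMod p →+* K := algebraMap (ZMod p) K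
  have hι : Function.Injective ι := RingHom.injective _
  have : CharP K p := charP_of_injective_algebraMap hι p
  let ρ : ↥N →* PSL2.PGL2 K :=
    Matrix.ProjGenLinGroup.mk.comp ((Matrix.GeneralLinearGroup.map ι).comp Mh.toHomUnits)
  set H := ρ.range with hH
  have : Finite H := Finite.of_surjective ρ.rangeRestrict ρ.rangeRestrict_surjective
  have hpH : ¬ p ∣ Nat.card H := by
    intro hd
    have hle : (P : Subgroup G).subgroupOf N ≤ ρ.ker := by
      intro g hg
      have hgP : (g : G) ∈ (P : Subgroup G) := hg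
      have hMg : Mh.toHomUnits g = 1 := by
        refine Units.ext ?_
        show M g = 1
        ext r c
        have hσ : σ g (b c) = ⁅(⟨g, hgP⟩ : ↥(P : Subgroup G)), b c⁆ * b c :=
          Subtype.ext (by
            show (g : G) * (b c : G) * (g : G)⁻¹ = _
            simp [commutatorElement_def])
        show φ (σ g (b c)) r = _
        rw [hσ, hφ, (hker _).mpr (Extraspecial.commutatorElement_mem_center hE' _ _), zero_add, hb,
          Matrix.one_apply, Pi.single_apply]
      show ρ g = 1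
      simp [ρ, hMg]
    have h1 : ρ.ker.index ∣ ((P : Subgroup G).subgroupOf N).index := Subgroup.index_dvd_of_le hle
    rw [Subgroup.index_ker] at h1
    exact P.not_dvd_index (hd.trans (h1.trans (Subgroup.relIndex_dvd_index_of_le Subgroup.le_normalizer)))
  obtain ⟨t, ht⟩ := IsCyclic.exists_ofOrder_eq_natCard (α := (ZMod p)ˣ)
  rw [Nat.card_eq_fintype_card, ZMod.card_units] at ht
  choose a haA haφ hAiff g hga hgw using fun i =>
    exists_torus P hE' hcard hexp' φ w hφ hker hw1 hwZ hgen (A i) (hAP i) (hAcard i) (hSL i) t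
  -- the points
  have hv : ∀ i, (fun r => ι (φ (a i) r)) ≠ 0 := fun i h => haφ i (funext fun r =>
    hι ((congrFun h r).trans ι.map_zero.symm))
  let Q : Fin 3 → PSL2.Pt K := fun i => Projectivization.mk K (fun r => ι (φ (a i) r)) (hv i)
  have hQinj : Function.Injective Q := by
    intro i j hij
    obtain ⟨s, hs⟩ := (Projectivization.mk_eq_mk_iff' K _ _ _ _).mp hij
    obtain ⟨r, hr⟩ : ∃ r, φ (a j) r ≠ 0 := Function.ne_iff.mp (haφ j)
    set l : ZMod p := φ (a i) r / φ (a j) r with hl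
    have hsl : s = ι l := by
      have h1 := congrFun hs r
      simp only [Pi.smul_apply, smul_eq_mul] at h1
      rw [hl, map_div₀, eq_div_iff (by simpa using hι.ne hr), h1]
    have hil : φ (a i) = l • φ (a j) := by
      funext k
      refine hι ?_
      have h1 := congrFun hs k
      simp only [Pi.smul_apply, smul_eq_mul, hsl] at h1
      rw [← h1, Pi.smul_apply, smul_eq_mul, map_mul]
    have hl0 : l ≠ 0 := fun h => haφ i (by rw [hil, h, zero_smul])
    refine hA ?_
    ext x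
    constructor
    · intro hx
      obtain ⟨k, hk⟩ := (hAiff i ⟨x, hAP i hx⟩).mp hx
      exact (hAiff j ⟨x, hAP i hx⟩).mpr ⟨k * l, by rw [hk, hil, smul_smul]⟩
    · intro hx
      obtain ⟨k, hk⟩ := (hAiff j ⟨x, hAP j hx⟩).mp hx
      exact (hAiff i ⟨x, hAP j hx⟩).mpr ⟨k * l⁻¹, by rw [hk, hil, smul_smul, mul_assoc, inv_mul_cancel₀ hl0, mul_one]⟩
  set t' : ZMod p := ((t⁻¹ : (ZMod p)ˣ) : ZMod p) with ht'
  have hMa : ∀ i, (M (g i)).mulVec (φ (a i)) = t' • φ (a i) := fun i => by rw [← hM, hga, hφzp]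
  have hMdet : ∀ i, (M (g i)).det = (t : ZMod p) := fun i =>
    zp_injective (hexp' w) hw1 ((hdet (g i)).symm.trans (hgw i))
  refine not_three_big_stab p H hpH Q hQinj fun i => ?_
  have hmem : (⟨ρ (g i), g i, rfl⟩ : H) ∈ MulAction.stabilizer H (Q i) := by
    show ρ (g i) • Q i = Q i
    show Matrix.ProjGenLinGroup.mk (Matrix.GeneralLinearGroup.map ι (Mh.toHomUnits (g i))) •
      Projectivization.mk K _ (hv i) = Projectivization.mk K _ (hv i)
    rw [Projectivization.PGL.mk_smul_mk, Projectivization.mk_eq_mk_iff']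
    refine ⟨ι t', funext fun r => ?_⟩
    show ι t' * ι (φ (a i) r) = (((M (g i)).map ι).mulVec (fun r => ι (φ (a i) r))) r
    rw [← map_mul, ← smul_eq_mul, ← Pi.smul_apply, ← hMa]
    exact RingHom.map_mulVec ι _ _ r
  set n := orderOf (ρ (g i)) with hn
  have hn0 : 0 < n := (MonoidHom.isOfFinOrder ρ (isOfFinOrder_of_finite (g i))).orderOf_pos
  have hdvd : p - 1 ∣ 3 * n := by
    have h1 : Matrix.ProjGenLinGroup.mk (Matrix.GeneralLinearGroup.map ι (Mh.toHomUnits (g i)) ^ n) =
        (1 : PSL2.PGL2 K) := by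
      rw [map_pow]; exact pow_orderOf_eq_one (ρ (g i))
    rw [Matrix.ProjGenLinGroup.mk_eq_one, Matrix.GeneralLinearGroup.center_eq_range_scalar] at h1
    obtain ⟨u, hu⟩ := h1
    have hpow : (M (g i) ^ n).map ι = Matrix.scalar (Fin 2) (u : K) := by
      rw [show (M (g i) ^ n).map ι = (ι.mapMatrix (M (g i))) ^ n from map_pow ι.mapMatrix _ n]
      exact (congrArg Units.val hu).symm
    have hMn : ∀ k : ℕ, (M (g i) ^ k).mulVec (φ (a i)) = t' ^ k • φ (a i) := by
      intro k
      induction k with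
      | zero => simp
      | succ k ih => rw [pow_succ, ← Matrix.mulVec_mulVec, hMa, Matrix.mulVec_smul, ih, smul_smul, pow_succ, mul_comm]
    obtain ⟨r, hr⟩ : ∃ r, φ (a i) r ≠ 0 := Function.ne_iff.mp (haφ i)
    have hu1 : (u : K) = ι (t' ^ n) := by
      have h2 := RingHom.map_mulVec ι (M (g i) ^ n) (φ (a i)) r
      rw [hMn, hpow, Pi.smul_apply, smul_eq_mul, map_mul] at h2
      simp [Matrix.scalar_apply, Matrix.mulVec_diagonal] at h2
      rcases h2 with h2 | h2
      · rw [map_pow]; exact h2.symm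
      · exact absurd h2 hr
    have h3 : ι (((t : ZMod p)) ^ n) = ι ((t' ^ n) ^ 2) := by
      rw [← hMdet i, ← Matrix.det_pow, RingHom.map_det, map_pow ι _ 2, ← hu1]
      show ((M (g i) ^ n).map ι).det = _
      rw [hpow]
      simp [Matrix.scalar_apply, Matrix.det_diagonal, pow_two]
    have h4 : t ^ n = (t⁻¹ ^ n) ^ 2 := by
      refine Units.ext ?_
      rw [Units.val_pow_eq_pow_val, Units.val_pow_eq_pow_val, Units.val_pow_eq_pow_val]
      exact hι h3
    rw [← ht]
    refine orderOf_dvd_of_pow_eq_one ?_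
    rw [show 3 * n = n + n * 2 by ring, pow_add]
    nth_rw 1 [h4]
    rw [← pow_mul, inv_pow, inv_mul_cancel]
  have h6 : 6 ≤ n := by
    have := Nat.le_of_dvd (by omega) hdvd
    omega
  have hdvd' : n ∣ Nat.card (MulAction.stabilizer H (Q i)) := by
    have := orderOf_dvd_natCard (⟨⟨ρ (g i), g i, rfl⟩, hmem⟩ : MulAction.stabilizer H (Q i))
    rwa [← Subgroup.orderOf_coe, ← Subgroup.orderOf_coe] at this
  exact h6.trans (Nat.le_of_dvd Nat.card_pos hdvd')

end Cfsg.Agent.S3054
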