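import Cfsg.Statements.S3055
import Cfsg.Agent.S3054
import Cfsg.Agent.Lib.FFPair.Plane
import Cfsg.Agent.Lib.PSL2.BigStab

set_option autoImplicit false
open Cfsg

namespace Cfsg.Agent.S3055

open scoped commutatorElement
open Cfsg.Agent RadicalLines

variable {p : ℕ} [Fact p.Prime]

/-- Every plane through the centre carries `SL_2(p)`. -/
theorem exists_plane {G : Type*} [Group G] [Finite G] (P : Sylow p G)
    (hE : Cfsg.IsExtraspecial p ↥(P : Subgroup G)) (hexp : ∀ x : ↥(P : Subgroup G), x ^ p = 1)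
    (φ : ↥(P : Subgroup G) → Fin 2 → ZMod p) (w : ↥(P : Subgroup G))
    (hφ : ∀ x y, φ (x * y) = φ x + φ y) (hker : ∀ x, φ x = 0 ↔ x ∈ Subgroup.center ↥(P : Subgroup G))
    (hw1 : w ≠ 1) (hwZ : w ∈ Subgroup.center ↥(P : Subgroup G))
    (hgen : ∀ z ∈ Subgroup.center ↥(P : Subgroup G), ∃ i : ZMod p, z = zp w i)
    (hconj : ∀ x y : ↥(P : Subgroup G), x ≠ 1 → y ≠ 1 → ∃ g : G, g * (x : G) * g⁻¹ = (y : G))
    (x : ↥(P : Subgroup G)) (hx : x ∉ Subgroup.center ↥(P : Subgroup G)) :
    ∃ A : Subgroup G, A ≤ (P : Subgroup G) ∧ Nat.card A = p ^ 2 ∧ (x : G) ∈ A ∧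
      ∀ f : MulAut ↥A, orderOf f = p → ∃ g : G, ∀ a : ↥A, (f a : G) = g * (a : G) * g⁻¹ := by
  classical
  set Z := Subgroup.center ↥(P : Subgroup G) with hZ
  have hx1 : x ≠ 1 := fun h => hx (h ▸ one_mem _)
  obtain ⟨u, hu⟩ : ∃ u, ⁅u, x⁆ ≠ 1 := by
    by_contra hc
    push Not at hc
    exact hx (Subgroup.mem_center_iff.2 fun u => commutatorElement_eq_one_iff_mul_comm.1 (hc u))
  set e := ⁅u, x⁆ with he
  have heZ : e ∈ Z := Extraspecial.commutatorElement_mem_center hE u x
  have hgen' : ∀ y ∈ Z, y ≠ 1 → ∀ z ∈ Z, ∃ i : ZMod p, z = zp y i := by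
    intro y hy hy1 z hz
    obtain ⟨i, rfl⟩ := hgen y hy
    obtain ⟨j, rfl⟩ := hgen z hz
    have hi : i ≠ 0 := fun h => hy1 ((zp_eq_one_iff (hexp w) hw1).2 h)
    exact ⟨i⁻¹ * j, by rw [← zp_mul (hexp w), ← mul_assoc, mul_inv_cancel₀ hi, one_mul]⟩
  have hφ1 : φ 1 = 0 := (hker 1).2 (one_mem _)
  have hφe : φ e = 0 := (hker e).2 heZ
  have hφx : φ x ≠ 0 := fun h => hx ((hker x).1 h)
  have hφzp : ∀ (y : ↥(P : Subgroup G)) (i : ZMod p), φ (zp y i) = i • φ y := by
    have hpow : ∀ (y : ↥(P : Subgroup G)) (n : ℕ), φ (y ^ n) = (n : ZMod p) • φ y := by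
      intro y n
      induction n with
      | zero => rw [pow_zero, hφ1, Nat.cast_zero, zero_smul]
      | succ n ih => rw [pow_succ, hφ, ih, Nat.cast_succ, add_smul, one_smul]
    intro y i
    rw [zp, hpow, ZMod.natCast_zmod_val]
  have hcomm : ∀ i k : ZMod p, Commute (zp x i) (zp e k) := fun i k =>
    Subgroup.mem_center_iff.1 (Z.pow_mem heZ _) _
  let q : Multiplicative (ZMod p × ZMod p) →* ↥(P : Subgroup G) :=
    { toFun := fun z => zp x z.toAdd.1 * zp e z.toAdd.2
      map_one' := by simp [zp]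
      map_mul' := fun y z => by
        simp only [toAdd_mul, Prod.fst_add, Prod.snd_add, zp_add (hexp x), zp_add (hexp e)]
        exact (hcomm _ _).mul_mul_mul_comm _ _ }
  have hqinj : Function.Injective q := by
    intro y z h
    have h' : zp x y.toAdd.1 * zp e y.toAdd.2 = zp x z.toAdd.1 * zp e z.toAdd.2 := h
    have h1 := congrArg φ h'
    rw [hφ, hφ, hφzp, hφzp, hφzp, hφzp, hφe, smul_zero, smul_zero, add_zero, add_zero] at h1
    have h2 := smul_left_injective _ hφx h1
    rw [h2] at h'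
    exact Multiplicative.toAdd.injective (Prod.ext h2 (zp_injective (hexp e) hu (mul_left_cancel h')))
  let A : Subgroup G := ((P : Subgroup G).subtype.comp q).range
  have hAP : A ≤ (P : Subgroup G) := by rintro _ ⟨z, rfl⟩; exact (q z).2
  have hAc : Nat.card A = p ^ 2 := by
    rw [← Nat.card_congr (MonoidHom.ofInjective
      (f := (P : Subgroup G).subtype.comp q) (Subtype.coe_injective.comp hqinj)).toEquiv]
    rw [Nat.card_congr Multiplicative.toAdd, Nat.card_prod, Nat.card_zmod, pow_two]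
  have hxA : (x : G) ∈ A := ⟨Multiplicative.ofAdd (1, 0), by
    show ((zp x 1 * zp e 0 : ↥(P : Subgroup G)) : G) = (x : G)
    rw [zp_one, zp_zero, mul_one]⟩
  have heA : (e : G) ∈ A := ⟨Multiplicative.ofAdd (0, 1), by
    show ((zp x 0 * zp e 1 : ↥(P : Subgroup G)) : G) = (e : G)
    rw [zp_one, zp_zero, one_mul]⟩
  have hAel : Cfsg.IsElementaryAbelian p A := by
    refine ⟨⟨⟨fun a b => ?_⟩⟩, ?_⟩
    · obtain ⟨a, ya, rfl⟩ := a
      obtain ⟨b, yb, rfl⟩ := b
      refine Subtype.ext ?_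
      show ((P : Subgroup G).subtype.comp q) ya * ((P : Subgroup G).subtype.comp q) yb =
        ((P : Subgroup G).subtype.comp q) yb * ((P : Subgroup G).subtype.comp q) ya
      rw [← map_mul, ← map_mul, mul_comm]
    · rintro _ ⟨y, rfl⟩
      exact congrArg Subtype.val (hexp (q y))
  have hnorm : ∀ c : G, c * (x : G) * c⁻¹ ∈ A → c * (e : G) * c⁻¹ ∈ A →
      c ∈ Subgroup.normalizer (A : Set G) := by
    intro c h1 h2
    refine Subgroup.mem_normalizer_fintype ?_
    rintro _ ⟨y, rfl⟩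
    show MulAut.conj c ((zp x y.toAdd.1 * zp e y.toAdd.2 : ↥(P : Subgroup G)) : G) ∈ A
    rw [zp, zp, Subgroup.coe_mul, Subgroup.coe_pow, Subgroup.coe_pow, map_mul, map_pow, map_pow]
    exact mul_mem (pow_mem h1 _) (pow_mem h2 _)
  -- the element fixing `e`
  have hue : (u : G) * (e : G) * (u : G)⁻¹ = e := by
    rw [← Subgroup.coe_inv, ← Subgroup.coe_mul, ← Subgroup.coe_mul,
      Subgroup.mem_center_iff.1 heZ u, mul_inv_cancel_right]
  have hux : (u : G) * (x : G) * (u : G)⁻¹ = (e : G) * x := by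
    rw [← Subgroup.coe_inv, ← Subgroup.coe_mul, ← Subgroup.coe_mul, ← Subgroup.coe_mul, he,
      commutatorElement_def, inv_mul_cancel_right]
  have hua : (u : G) ∈ Subgroup.normalizer (A : Set G) :=
    hnorm u (by rw [hux]; exact mul_mem heA hxA) (by rw [hue]; exact heA)
  -- a conjugate of `P` above `A` with `x` central
  obtain ⟨g₀, hg₀⟩ := hconj w x hw1 hx1
  have hTC : (↑(g₀ • P) : Subgroup G) ≤ Subgroup.centralizer {(x : G)} := by
    intro y hy
    rw [Sylow.coe_subgroup_smul] at hy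
    obtain ⟨v, hv, rfl⟩ := hy
    rw [Subgroup.mem_centralizer_singleton_iff, ← hg₀]
    show g₀ * v * g₀⁻¹ * (g₀ * (w : G) * g₀⁻¹) = g₀ * (w : G) * g₀⁻¹ * (g₀ * v * g₀⁻¹)
    have h := congrArg Subtype.val (Subgroup.mem_center_iff.1 hwZ ⟨v, hv⟩)
    calc g₀ * v * g₀⁻¹ * (g₀ * (w : G) * g₀⁻¹) = g₀ * (v * (w : G)) * g₀⁻¹ := by group
      _ = g₀ * ((w : G) * v) * g₀⁻¹ := by rw [show v * (w : G) = (w : G) * v from h]
      _ = _ := by group
  have hAC : A ≤ Subgroup.centralizer {(x : G)} := by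
    intro y hy
    rw [Subgroup.mem_centralizer_singleton_iff]
    exact congrArg Subtype.val (hAel.1.1.1 ⟨y, hy⟩ ⟨_, hxA⟩)
  have hApg : IsPGroup p (A.subgroupOf (Subgroup.centralizer {(x : G)})) :=
    (IsPGroup.of_card hAc).of_equiv (Subgroup.subgroupOfEquivOfLe hAC).symm
  obtain ⟨S, hS⟩ := hApg.exists_le_sylow
  obtain ⟨d, hd⟩ := MulAction.exists_smul_eq ↥(Subgroup.centralizer {(x : G)}) ((g₀ • P).subtype hTC) S
  set k := (d : G) * g₀ with hk
  have hkA : ∀ y ∈ A, k⁻¹ * y * k ∈ (P : Subgroup G) := by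
    intro y hy
    have h : (⟨y, hAC hy⟩ : ↥(Subgroup.centralizer {(x : G)})) ∈ (S : Subgroup _) := hS hy
    rw [← hd, Sylow.coe_subgroup_smul] at h
    obtain ⟨z, hz, hzy⟩ := h
    have hz' : (z : G) ∈ (↑(g₀ • P) : Subgroup G) := hz
    rw [Sylow.coe_subgroup_smul] at hz'
    obtain ⟨v, hv, hvz⟩ := hz'
    have hy' : (d : G) * (z : G) * (d : G)⁻¹ = y := congrArg Subtype.val hzy
    have hvz' : g₀ * v * g₀⁻¹ = (z : G) := hvz
    rw [← hy', ← hvz', hk, show ((d : G) * g₀)⁻¹ * ((d : G) * (g₀ * v * g₀⁻¹) * (d : G)⁻¹) * ((d : G) * g₀) = v by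
      group]
    exact hv
  have hkw : k * (w : G) * k⁻¹ = x := by
    have hd' := Subgroup.mem_centralizer_singleton_iff.1 d.2
    rw [hk, show (d : G) * g₀ * (w : G) * ((d : G) * g₀)⁻¹ = (d : G) * (g₀ * (w : G) * g₀⁻¹) * (d : G)⁻¹ by group,
      hg₀, hd', mul_inv_cancel_right]
  set e' : ↥(P : Subgroup G) := ⟨k⁻¹ * (e : G) * k, hkA _ heA⟩ with he'
  have hke' : k * (e' : G) * k⁻¹ = e := by simp only [he']; group
  have he'Z : e' ∉ Z := by
    intro h
    obtain ⟨i, hi⟩ := hgen e' h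
    have hxe : e = zp x i := by
      refine Subtype.ext ?_
      rw [← hke', hi, zp, zp, Subgroup.coe_pow, Subgroup.coe_pow, ← hkw]
      exact (map_pow (MulAut.conj k) _ _)
    have h2 := hφe
    rw [hxe, hφzp, smul_eq_zero] at h2
    refine hu ?_
    rw [hxe, h2.resolve_right hφx, zp_zero]
  obtain ⟨b', hb'⟩ : ∃ b', ⁅b', e'⁆ ≠ 1 := not_forall.1 fun hc =>
    he'Z (Subgroup.mem_center_iff.2 fun v => commutatorElement_eq_one_iff_mul_comm.1 (hc v))
  obtain ⟨m, hm⟩ := hgen' w hwZ hw1 ⁅b', e'⁆ (Extraspecial.commutatorElement_mem_center hE _ _)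
  set b := k * (b' : G) * k⁻¹ with hb
  have hbx : b * (x : G) * b⁻¹ = x := by
    have h : (b' : G) * (w : G) * (b' : G)⁻¹ = w := by
      rw [← Subgroup.coe_inv, ← Subgroup.coe_mul, ← Subgroup.coe_mul,
        Subgroup.mem_center_iff.1 hwZ b', mul_inv_cancel_right]
    rw [hb, ← hkw]
    calc k * (b' : G) * k⁻¹ * (k * (w : G) * k⁻¹) * (k * (b' : G) * k⁻¹)⁻¹
        = k * ((b' : G) * (w : G) * (b' : G)⁻¹) * k⁻¹ := by group
      _ = _ := by rw [h]
  have hbe : b * (e : G) * b⁻¹ = (e : G) * (x : G) ^ m.val := by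
    have h1 : (b' : G) * (e' : G) * (b' : G)⁻¹ = ((zp w m : ↥(P : Subgroup G)) : G) * (e' : G) := by
      rw [← hm, ← Subgroup.coe_inv, ← Subgroup.coe_mul, ← Subgroup.coe_mul, ← Subgroup.coe_mul,
        commutatorElement_def, inv_mul_cancel_right]
    have h2 : (e : G) * (x : G) ^ m.val = (x : G) ^ m.val * e :=
      congrArg Subtype.val (hAel.1.1.1 ⟨_, heA⟩ ⟨_, pow_mem hxA m.val⟩)
    rw [h2]
    calc b * (e : G) * b⁻¹ = k * ((b' : G) * (e' : G) * (b' : G)⁻¹) * k⁻¹ := by
          rw [hb, ← hke']; group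
      _ = k * (((zp w m : ↥(P : Subgroup G)) : G) * (e' : G)) * k⁻¹ := by rw [h1]
      _ = (k * ((zp w m : ↥(P : Subgroup G)) : G) * k⁻¹) * (k * (e' : G) * k⁻¹) := by group
      _ = _ := by
        rw [hke', zp, Subgroup.coe_pow, ← hkw,
          show k * (w : G) ^ m.val * k⁻¹ = (k * (w : G) * k⁻¹) ^ m.val from conj_pow.symm]
  have hba : b ∈ Subgroup.normalizer (A : Set G) :=
    hnorm b (by rw [hbx]; exact hxA) (by rw [hbe]; exact mul_mem heA (pow_mem hxA _))
  have hne : b * (e : G) * b⁻¹ ≠ e := by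
    rw [hbe]
    intro h
    rw [mul_eq_left] at h
    have hm0 : m = 0 := (zp_eq_one_iff (hexp x) hx1).1 (Subtype.ext (by rw [zp, Subgroup.coe_pow, h, Subgroup.coe_one]))
    rw [hm0, zp_zero] at hm
    exact hb' hm
  obtain ⟨ι, -, hιr, hι⟩ := FFPair.plane_action hAel hAc hua hba heA hxA
    (fun h => hu (Subtype.ext h)) hue hbx hux ⟨m.val, hbe⟩ hne
  refine ⟨A, hAP, hAc, hxA, fun f hf => ?_⟩
  have hfr := hι f (orderOf_dvd_iff_pow_eq_one.1 hf.dvd)
  rw [hιr] at hfr
  obtain ⟨g, -, hg⟩ := hfr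
  exact ⟨g, fun a => by rw [← hg]; rfl⟩

/-- Let p be an odd prime and G a finite group with a Sylow p-subgroup P that is extraspecial of order p³ and exponent p. If all nonidentity elements of P are conjugate in G, then p ≤ 7. -/
theorem result {G : Type*} [Group G] [Finite G]
    {p : ℕ} [Fact p.Prime] (hp : p ≠ 2) (P : Sylow p G) (hE : Cfsg.IsExtraspecial p ↥P)
    (hcard : Nat.card P = p ^ 3) (hexp : Monoid.exponent ↥P = p)
    (hconj : ∀ x y : ↥P, x ≠ 1 → y ≠ 1 → ∃ g : G, g * (x : G) * g⁻¹ = (y : G)) :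
    p ≤ 7 := by
  classical
  by_contra hp7
  push Not at hp7
  have hp11 : 11 ≤ p := by
    by_contra h
    push Not at h
    have hpp : p.Prime := Fact.out
    interval_cases p <;> norm_num at hpp
  have hE' : Cfsg.IsExtraspecial p ↥(P : Subgroup G) := hE
  have hexp' : ∀ x : ↥(P : Subgroup G), x ^ p = 1 := fun x => by
    have := Monoid.pow_exponent_eq_one (G := ↥P) x
    rwa [hexp] at this
  obtain ⟨φ, w, hφ, hker, hsurj, hw1, hwZ, hgen, hcomm⟩ := exists_coord hE' hcard hexp'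
  choose b hb using fun c : Fin 2 => hsurj (Pi.single c 1)
  set N := Subgroup.normalizer ((P : Subgroup G) : Set G) with hN
  set σ := (P : Subgroup G).normalizerMonoidHom
  have hφzp : ∀ (x : ↥(P : Subgroup G)) (i : ZMod p), φ (zp x i) = i • φ x := by
    have h1 : φ 1 = 0 := (hker 1).mpr (one_mem _)
    have hpow : ∀ (x : ↥(P : Subgroup G)) (n : ℕ), φ (x ^ n) = (n : ZMod p) • φ x := by
      intro x n
      induction n with
      | zero => rw [pow_zero, h1, Nat.cast_zero, zero_smul]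
      | succ n ih => rw [pow_succ, hφ, ih, Nat.cast_succ, add_smul, one_smul]
    intro x i
    rw [zp, hpow, ZMod.natCast_zmod_val]
  -- the linear action of `N(P)` on `P/Z(P)`
  let M : ↥N → Matrix (Fin 2) (Fin 2) (ZMod p) := fun g => Matrix.of fun r c => φ (σ g (b c)) r
  have hM : ∀ (g : ↥N) (x : ↥(P : Subgroup G)), φ (σ g x) = (M g).mulVec (φ x) := by
    intro g x
    set y := zp (b 0) (φ x 0) * zp (b 1) (φ x 1) with hy
    have hφy : φ y = φ x := by
      rw [hy, hφ, hφzp, hφzp, hb, hb]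
      funext r; fin_cases r <;> simp
    have hmem : y⁻¹ * x ∈ Subgroup.center ↥(P : Subgroup G) := by
      rw [← hker]
      have h0 : φ y + φ (y⁻¹ * x) = φ x := by rw [← hφ, mul_inv_cancel_left]
      rw [hφy] at h0
      exact add_eq_left.mp h0
    have hx : φ (σ g x) = φ (σ g y) := by
      have h1 : φ (σ g (y⁻¹ * x)) = 0 := by
        rw [hker]
        refine Subgroup.mem_center_iff.mpr fun u => ?_
        obtain ⟨v, rfl⟩ := (σ g).surjective u
        rw [← map_mul (σ g) v, ← map_mul (σ g) _ v, Subgroup.mem_center_iff.mp hmem v]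
      calc φ (σ g x) = φ (σ g y * σ g (y⁻¹ * x)) := by rw [← map_mul, mul_inv_cancel_left]
        _ = φ (σ g y) := by rw [hφ, h1, add_zero]
    have hmap : ∀ (u : ↥(P : Subgroup G)) (i : ZMod p), σ g (zp u i) = zp (σ g u) i := fun u i => map_pow _ _ _
    rw [hx, hy, map_mul, hφ, hmap, hmap, hφzp, hφzp]
    funext r
    simp [M, Matrix.mulVec, dotProduct, Fin.sum_univ_two]
    ring
  let Mh : ↥N →* Matrix (Fin 2) (Fin 2) (ZMod p) :=
    { toFun := M
      map_one' := by
        ext r c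
        show φ (σ 1 (b c)) r = _
        rw [map_one, MulAut.one_apply, hb, Matrix.one_apply, Pi.single_apply]
      map_mul' := fun g g' => by
        ext r c
        show φ (σ (g * g') (b c)) r = _
        rw [map_mul, MulAut.mul_apply, hM, Matrix.mul_apply]
        rfl }
  have hb01 : ⁅b 0, b 1⁆ = w := by rw [hcomm, hb, hb]; simp
  have hdet : ∀ g : ↥N, σ g w = zp w (M g).det := by
    intro g
    rw [← hb01, map_commutatorElement, hcomm, hcomm (b 0), hb, hb, Matrix.det_fin_two]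
    simp [M]
    congr 1
    ring
  set K := AlgebraicClosure (ZMod p)
  set ι : ZMod p →+* K := algebraMap (ZMod p) K
  have hι : Function.Injective ι := RingHom.injective _
  have : CharP K p := charP_of_injective_algebraMap hι p
  let ρ : ↥N →* PSL2.PGL2 K :=
    Matrix.ProjGenLinGroup.mk.comp ((Matrix.GeneralLinearGroup.map ι).comp Mh.toHomUnits)
  set H := ρ.range with hH
  have : Finite H := Finite.of_surjective ρ.rangeRestrict ρ.rangeRestrict_surjective
  have hpH : ¬ p ∣ Nat.card H := by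
    intro hd
    have hle : (P : Subgroup G).subgroupOf N ≤ ρ.ker := by
      intro g hg
      have hgP : (g : G) ∈ (P : Subgroup G) := hg
      have hMg : Mh.toHomUnits g = 1 := by
        refine Units.ext ?_
        show M g = 1
        ext r c
        have hσ : σ g (b c) = ⁅(⟨g, hgP⟩ : ↥(P : Subgroup G)), b c⁆ * b c :=
          Subtype.ext (by
            show (g : G) * (b c : G) * (g : G)⁻¹ = _
            simp [commutatorElement_def])
        show φ (σ g (b c)) r = _
        rw [hσ, hφ, (hker _).mpr (Extraspecial.commutatorElement_mem_center hE' _ _), zero_add, hb,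
          Matrix.one_apply, Pi.single_apply]
      show ρ g = 1
      simp [ρ, hMg]
    have h1 : ρ.ker.index ∣ ((P : Subgroup G).subgroupOf N).index := Subgroup.index_dvd_of_le hle
    rw [Subgroup.index_ker] at h1
    exact P.not_dvd_index (hd.trans (h1.trans (Subgroup.relIndex_dvd_index_of_le Subgroup.le_normalizer)))
  obtain ⟨t, ht⟩ := IsCyclic.exists_ofOrder_eq_natCard (α := (ZMod p)ˣ)
  rw [Nat.card_eq_fintype_card, ZMod.card_units] at ht
  let v : Option (ZMod p) → Fin 2 → ZMod p := fun o => o.elim ![1, 0] fun c => ![c, 1]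
  have hv0 : ∀ o, v o ≠ 0 := by
    rintro (_ | c) h
    · simpa [v] using congrFun h 0
    · simpa [v] using congrFun h 1
  have hvι : ∀ o, (fun r => ι (v o r)) ≠ 0 := fun o h => hv0 o (funext fun r =>
    hι ((congrFun h r).trans ι.map_zero.symm))
  let Q : Option (ZMod p) → PSL2.Pt K := fun o => Projectivization.mk K (fun r => ι (v o r)) (hvι o)
  have hQinj : Function.Injective Q := by
    intro o o' h
    obtain ⟨s, hs⟩ := (Projectivization.mk_eq_mk_iff' K _ _ _ _).mp h
    have h0 := congrFun hs 0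
    have h1 := congrFun hs 1
    rcases o with _ | c <;> rcases o' with _ | c'
    · rfl
    · exfalso
      simp [v] at h0 h1
      rw [h1, zero_mul] at h0
      exact zero_ne_one h0
    · exfalso
      simp [v] at h0 h1
    · simp [v] at h0 h1
      rw [h1, one_mul] at h0
      rw [hι h0]
  set t' : ZMod p := ((t⁻¹ : (ZMod p)ˣ) : ZMod p) with ht'
  have key : ∀ o, ∃ gQ : ↥N, (M gQ).mulVec (v o) = t' • v o ∧ (M gQ).det = (t : ZMod p) := by
    intro o
    obtain ⟨x, hx⟩ := hsurj (v o)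
    have hxZ : x ∉ Subgroup.center ↥(P : Subgroup G) := fun h => hv0 o (hx ▸ (hker x).2 h)
    obtain ⟨A, hAP, hAc, hxA, hSL⟩ :=
      exists_plane P hE' hexp' φ w hφ hker hw1 hwZ hgen hconj x hxZ
    obtain ⟨a, -, -, hAiff, g, hga, hgw⟩ :=
      S3054.exists_torus P hE' hcard hexp' φ w hφ hker hw1 hwZ hgen A hAP hAc hSL t
    obtain ⟨i, hi⟩ := (hAiff x).1 hxA
    refine ⟨g, ?_, zp_injective (hexp' w) hw1 ((hdet g).symm.trans hgw)⟩
    have hMa : (M g).mulVec (φ a) = t' • φ a := by rw [← hM, hga, hφzp]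
    rw [← hx, hi, Matrix.mulVec_smul, hMa, smul_comm]
  have hstab : ∀ o, ∃ n, 0 < n ∧ p - 1 ∣ 3 * n ∧ n ∣ Nat.card (MulAction.stabilizer H (Q o)) := by
    intro o
    obtain ⟨gQ, hMv, hdett⟩ := key o
    have hvo := hv0 o
    have hmem : (⟨ρ gQ, gQ, rfl⟩ : H) ∈ MulAction.stabilizer H (Q o) := by
      show ρ gQ • Q o = Q o
      show Matrix.ProjGenLinGroup.mk (Matrix.GeneralLinearGroup.map ι (Mh.toHomUnits gQ)) •
        Projectivization.mk K _ (hvι o) = Projectivization.mk K _ (hvι o)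
      rw [Projectivization.PGL.mk_smul_mk, Projectivization.mk_eq_mk_iff']
      refine ⟨ι t', funext fun r => ?_⟩
      show ι t' * ι (v o r) = (((M gQ).map ι).mulVec (fun r => ι (v o r))) r
      rw [← map_mul, ← smul_eq_mul, ← Pi.smul_apply, ← hMv]
      exact RingHom.map_mulVec ι _ _ r
    set n := orderOf (ρ gQ) with hn
    have hn0 : 0 < n := (MonoidHom.isOfFinOrder ρ (isOfFinOrder_of_finite gQ)).orderOf_pos
    have hdvd : p - 1 ∣ 3 * n := by
      have h1 : Matrix.ProjGenLinGroup.mk (Matrix.GeneralLinearGroup.map ι (Mh.toHomUnits gQ) ^ n) =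
          (1 : PSL2.PGL2 K) := by
        rw [map_pow]; exact pow_orderOf_eq_one (ρ gQ)
      rw [Matrix.ProjGenLinGroup.mk_eq_one, Matrix.GeneralLinearGroup.center_eq_range_scalar] at h1
      obtain ⟨u, hu⟩ := h1
      have hpow : (M gQ ^ n).map ι = Matrix.scalar (Fin 2) (u : K) := by
        rw [show (M gQ ^ n).map ι = (ι.mapMatrix (M gQ)) ^ n from map_pow ι.mapMatrix _ n]
        exact (congrArg Units.val hu).symm
      have hMn : ∀ k : ℕ, (M gQ ^ k).mulVec (v o) = t' ^ k • (v o) := by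
        intro k
        induction k with
        | zero => simp
        | succ k ih => rw [pow_succ, ← Matrix.mulVec_mulVec, hMv, Matrix.mulVec_smul, ih, smul_smul, pow_succ, mul_comm]
      obtain ⟨r, hr⟩ : ∃ r, (v o) r ≠ 0 := Function.ne_iff.mp (hvo)
      have hu1 : (u : K) = ι (t' ^ n) := by
        have h2 := RingHom.map_mulVec ι (M gQ ^ n) (v o) r
        rw [hMn, hpow, Pi.smul_apply, smul_eq_mul, map_mul] at h2
        simp [Matrix.scalar_apply, Matrix.mulVec_diagonal] at h2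
        rcases h2 with h2 | h2
        · rw [map_pow]; exact h2.symm
        · exact absurd h2 hr
      have h3 : ι (((t : ZMod p)) ^ n) = ι ((t' ^ n) ^ 2) := by
        rw [← hdett, ← Matrix.det_pow, RingHom.map_det, map_pow ι _ 2, ← hu1]
        show ((M gQ ^ n).map ι).det = _
        rw [hpow]
        simp [Matrix.scalar_apply, Matrix.det_diagonal, pow_two]
      have h4 : t ^ n = (t⁻¹ ^ n) ^ 2 := by
        refine Units.ext ?_
        rw [Units.val_pow_eq_pow_val, Units.val_pow_eq_pow_val, Units.val_pow_eq_pow_val]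
        exact hι h3
      rw [← ht]
      refine orderOf_dvd_of_pow_eq_one ?_
      rw [show 3 * n = n + n * 2 by ring, pow_add]
      nth_rw 1 [h4]
      rw [← pow_mul, inv_pow, inv_mul_cancel]
    refine ⟨n, hn0, hdvd, ?_⟩
    have := orderOf_dvd_natCard (⟨⟨ρ gQ, gQ, rfl⟩, hmem⟩ : MulAction.stabilizer H (Q o))
    rwa [← Subgroup.orderOf_coe, ← Subgroup.orderOf_coe] at this
  by_cases h13 : p = 13
  · have hall : ∀ P' ∈ Finset.univ.image Q, 4 ∣ Nat.card (MulAction.stabilizer H P') := by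
      intro P' hP'
      obtain ⟨o, -, rfl⟩ := Finset.mem_image.1 hP'
      obtain ⟨n, -, h1, h2⟩ := hstab o
      rw [h13] at h1
      exact (show 4 ∣ n by omega).trans h2
    have h := PSL2.card_four_stab_le p H hpH _ hall
    rw [Finset.card_image_of_injective _ hQinj, Finset.card_univ, Fintype.card_option, ZMod.card] at h
    omega
  · refine not_three_big_stab p H hpH (Q ∘ ![none, some 0, some 1]) (hQinj.comp ?_) fun i => ?_
    · intro i j h
      fin_cases i <;> fin_cases j <;> first | rfl | (simp at h)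
    · obtain ⟨n, h0, h1, h2⟩ := hstab (![none, some 0, some 1] i)
      have h6 : 6 ≤ n := by
        rcases Nat.lt_or_ge p 19 with h | h
        · have key : ∀ q : ℕ, q.Prime → 11 ≤ q → q < 19 → q ≠ 13 → q = 11 ∨ q = 17 := by
            intro q hq h h' h''
            interval_cases q <;> first | omega | (exfalso; norm_num at hq)
          rcases key p Fact.out hp11 h h13 with e | e <;> rw [e] at h1 <;> omega
        · have := Nat.le_of_dvd (by omega) h1
          omega
      exact h6.trans ((Nat.le_of_dvd h0 dvd_rfl).trans (Nat.le_of_dvd Nat.card_pos h2))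

end Cfsg.Agent.S3055
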