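import Cfsg.Statements.S3057
import Cfsg.Agent.S3056
import Cfsg.Agent.Lib.StrongEmb.Basic
import Cfsg.Agent.Lib.Coprime.Generation
import Cfsg.Agent.Lib.Cores.Basic
import Cfsg.Agent.Lib.PGroup.UniqueOrderP
import Cfsg.Agent.Lib.PGroup.Basic

set_option autoImplicit false
open Cfsg

namespace Cfsg.Agent.S3057

variable {G : Type*} [Group G] [Finite G] {p : ℕ} [Fact p.Prime]

/-- At most one subgroup of order `p`. -/
def UniqueP (p : ℕ) (H : Type*) [Group H] : Prop :=
  ∀ x y : H, orderOf x = p → y ^ p = 1 → y ∈ Subgroup.zpowers x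

theorem uniqueP_equiv {H K : Type*} [Group H] [Group K] (e : H ≃* K) (h : UniqueP p H) : UniqueP p K := by
  intro x y hx hy
  obtain ⟨i, hi⟩ := h (e.symm x) (e.symm y) (by rw [MulEquiv.orderOf_eq, hx])
    (by rw [← map_pow, hy, map_one])
  refine ⟨i, e.symm.injective ?_⟩
  show e.symm (x ^ i) = e.symm y
  rw [map_zpow]
  exact hi

theorem uniqueP_quaternion (n : ℕ) : UniqueP 2 (QuaternionGroup (2 ^ n)) := by
  have key : ∀ z : QuaternionGroup (2 ^ n), z ^ 2 = 1 →
      z = 1 ∨ z = QuaternionGroup.a ((2 ^ n : ℕ) : ZMod (2 * 2 ^ n)) := by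
    intro z hz
    rw [sq] at hz
    cases z with
    | a i =>
      rw [QuaternionGroup.a_mul_a, QuaternionGroup.one_def, QuaternionGroup.a.injEq] at hz
      have h1 : ((2 * i.val : ℕ) : ZMod (2 * 2 ^ n)) = 0 := by
        rw [Nat.cast_mul, ZMod.natCast_zmod_val]
        push_cast
        exact (two_mul i).trans hz
      rw [ZMod.natCast_eq_zero_iff] at h1
      obtain ⟨c, hc⟩ := h1
      have h2 : i.val = 2 ^ n * c := by linarith
      have h3 := ZMod.val_lt i
      rw [h2] at h3
      have hc2 : c < 2 := by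
        by_contra h
        push Not at h
        have := Nat.mul_le_mul_left (2 ^ n) h
        omega
      interval_cases c
      · left
        rw [QuaternionGroup.one_def, QuaternionGroup.a.injEq]
        exact (ZMod.val_eq_zero i).mp (by simpa using h2)
      · right
        rw [QuaternionGroup.a.injEq, ← ZMod.natCast_zmod_val i, h2, mul_one]
    | xa i =>
      exfalso
      rw [QuaternionGroup.xa_mul_xa, QuaternionGroup.one_def, QuaternionGroup.a.injEq, add_sub_cancel_right] at hz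
      rw [ZMod.natCast_eq_zero_iff] at hz
      have h1 := Nat.le_of_dvd (pow_pos two_pos n) hz
      have h2 := pow_pos (show 0 < 2 from two_pos) n
      omega
  intro x y hx hy
  rcases key y hy with rfl | rfl
  · exact Subgroup.one_mem _
  rcases key x (orderOf_dvd_iff_pow_eq_one.mp hx.dvd) with rfl | h
  · rw [orderOf_one] at hx; omega
  · exact h ▸ Subgroup.mem_zpowers x

theorem uniqueP_of_cases {H : Type*} [Group H] [Finite H]
    (h : IsCyclic H ∨ (p = 2 ∧ ∃ n : ℕ, Nonempty (H ≃* QuaternionGroup (2 ^ n)))) : UniqueP p H := by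
  rcases h with h | ⟨rfl, n, ⟨e⟩⟩
  · intro x y hx hy
    classical
    haveI := Fintype.ofFinite H
    have hsub : (Subgroup.zpowers x : Set H).toFinset ⊆ Finset.univ.filter fun z : H => z ^ p = 1 := by
      intro z hz
      rw [Set.mem_toFinset] at hz
      obtain ⟨i, rfl⟩ := hz
      refine Finset.mem_filter.mpr ⟨Finset.mem_univ _, ?_⟩
      show (x ^ i) ^ p = 1
      rw [← zpow_natCast, ← zpow_mul, mul_comm, zpow_mul, zpow_natCast, ← hx, pow_orderOf_eq_one, one_zpow]
    have hle := IsCyclic.card_pow_eq_one_le (α := H) (Fact.out : p.Prime).pos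
    have heq := Finset.eq_of_subset_of_card_le hsub (hle.trans (by
      rw [Set.toFinset_card, ← Nat.card_eq_fintype_card]
      exact (hx ▸ (Nat.card_zpowers x).ge)))
    have hy' : y ∈ (Subgroup.zpowers x : Set H).toFinset := by rw [heq]; simpa using hy
    exact Set.mem_toFinset.mp hy'
  · exact uniqueP_equiv e.symm (uniqueP_quaternion n)

theorem unique_zpowers {T : Sylow p G} (hT : UniqueP p ↥T) {x y : G} (hx : x ∈ (T : Subgroup G))
    (hy : y ∈ (T : Subgroup G)) (hxo : orderOf x = p) (hyo : orderOf y = p) :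
    Subgroup.zpowers y = Subgroup.zpowers x := by
  have h := hT ⟨x, hx⟩ ⟨y, hy⟩ (by rw [← Subgroup.orderOf_coe]; exact hxo)
    (Subtype.ext (show y ^ p = 1 from hyo ▸ pow_orderOf_eq_one y))
  obtain ⟨i, hi⟩ := h
  refine Subgroup.eq_of_le_of_card_ge (Subgroup.zpowers_le.mpr ⟨i, congrArg Subtype.val hi⟩) ?_
  rw [Nat.card_zpowers, Nat.card_zpowers, hxo, hyo]

theorem rank_one {P : Sylow p G} (hdiv : p ∣ Nat.card G) (hO : Cfsg.pCore p G = ⊥) (hP : UniqueP p ↥P) :
    ∃ H : Subgroup G, H ≠ ⊤ ∧ p ∣ Nat.card H ∧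
      ∀ g : G, g ∉ H → ¬ p ∣ Nat.card ↥(H ⊓ H.map (MulAut.conj g).toMonoidHom) := by
  obtain ⟨z, hz⟩ := exists_prime_orderOf_dvd_card' p hdiv
  set Z := Subgroup.zpowers z with hZ
  have hZc : Nat.card Z = p := (Nat.card_zpowers z).trans hz
  have hZp : IsPGroup p Z := IsPGroup.of_card (n := 1) (by rw [hZc, pow_one])
  have hsame : ∀ y : G, orderOf y = p → y ∈ Subgroup.normalizer (Z : Set G) → Subgroup.zpowers y = Z := by
    intro y hy hyN
    have hYp : IsPGroup p ↥(Subgroup.zpowers y) :=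
      IsPGroup.of_card (n := 1) (by rw [Nat.card_zpowers, hy, pow_one])
    obtain ⟨T, hT⟩ := (IsPGroup.to_sup_of_normal_right' hYp hZp (Subgroup.zpowers_le.mpr hyN)).exists_le_sylow
    exact unique_zpowers (uniqueP_equiv (P.equiv T) hP) (hT (Subgroup.mem_sup_right (Subgroup.mem_zpowers z)))
      (hT (Subgroup.mem_sup_left (Subgroup.mem_zpowers y))) hz hy
  refine ⟨Subgroup.normalizer (Z : Set G), ?_, ?_, ?_⟩
  · intro h
    have hn : Z.Normal := Subgroup.normalizer_eq_top_iff.mp h
    have := Cores.le_pCore hn hZp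
    rw [hO, le_bot_iff, hZ, Subgroup.zpowers_eq_bot] at this
    rw [this, orderOf_one] at hz
    exact (Fact.out : p.Prime).ne_one hz.symm
  · exact hZc ▸ Subgroup.card_dvd_of_le Subgroup.le_normalizer
  · intro g hg hdvd
    obtain ⟨⟨y, hy1, hy2⟩, hy⟩ := exists_prime_orderOf_dvd_card' p hdvd
    rw [← Subgroup.orderOf_coe] at hy
    change orderOf y = p at hy
    obtain ⟨w, hw, hwe⟩ := hy2
    have hwo : orderOf w = p := by
      rw [← hy, ← hwe]
      exact (MulEquiv.orderOf_eq (MulAut.conj g) w).symm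
    have h1 := hsame y hy hy1
    have h2 := hsame w hwo hw
    apply hg
    refine Subgroup.mem_normalizer_fintype fun n hn => ?_
    rw [SetLike.mem_coe, ← h2] at hn
    obtain ⟨i, rfl⟩ := hn
    rw [SetLike.mem_coe, ← h1, ← hwe]
    exact ⟨i, (map_zpow (MulAut.conj g) w i).symm⟩

/-- A strongly `p`-embedded subgroup forces a unique subgroup of order `p`. -/
theorem rank_le_one (hdiv : p ∣ Nat.card G) (hsol : Cfsg.IsPSolvable p G) {H : Subgroup G} (hH : H ≠ ⊤)
    (hpH : p ∣ Nat.card H) (hse : ∀ g : G, g ∉ H → ¬ p ∣ Nat.card ↥(H ⊓ H.map (MulAut.conj g).toMonoidHom))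
    {S : Sylow p G} (hSH : (S : Subgroup G) ≤ H) : UniqueP p ↥S := by
  classical
  have hpp : p.Prime := Fact.out
  intro x y hxo hy
  by_contra hxy
  -- a noncyclic group of order `p ^ 2`
  haveI : Nontrivial ↥(S : Subgroup G) := nontrivial_of_ne x 1 (fun h => by
    rw [h, orderOf_one] at hxo; exact hpp.ne_one hxo.symm)
  haveI := S.isPGroup'.center_nontrivial
  obtain ⟨c, hc⟩ := exists_prime_orderOf_dvd_card' p (show p ∣ Nat.card ↥(Subgroup.center ↥(S : Subgroup G)) by
    obtain ⟨k, hk⟩ := IsPGroup.iff_card.mp (S.isPGroup'.to_subgroup (Subgroup.center ↥(S : Subgroup G)))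
    rw [hk]
    refine dvd_pow_self p ?_
    rintro rfl
    exact absurd (Finite.one_lt_card (α := ↥(Subgroup.center ↥(S : Subgroup G)))) (by rw [hk]; simp))
  rw [← Subgroup.orderOf_coe, ← Subgroup.orderOf_coe] at hc
  obtain ⟨w, hwS, hwp, hw⟩ : ∃ w : G, w ∈ (S : Subgroup G) ∧ w ^ p = 1 ∧
      w ∉ Subgroup.zpowers ((c : ↥(S : Subgroup G)) : G) := by
    by_contra h
    push Not at h
    apply hxy
    have hxp : x ^ p = 1 := orderOf_dvd_iff_pow_eq_one.mp hxo.dvd
    have e1 : Subgroup.zpowers (x : G) = Subgroup.zpowers ((c : ↥(S : Subgroup G)) : G) :=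
      Subgroup.eq_of_le_of_card_ge (Subgroup.zpowers_le.mpr (h x x.2 (congrArg Subtype.val hxp)))
        (by rw [Nat.card_zpowers, Nat.card_zpowers, hc, Subgroup.orderOf_coe, hxo])
    have e2 := h y y.2 (congrArg Subtype.val hy)
    rw [← e1] at e2
    obtain ⟨i, hi⟩ := e2
    exact ⟨i, Subtype.ext hi⟩
  set z : G := ((c : ↥(S : Subgroup G)) : G) with hz
  have hzS : z ∈ (S : Subgroup G) := (c : ↥(S : Subgroup G)).2
  have hzw : w * z = z * w :=
    congrArg Subtype.val (Subgroup.mem_center_iff.mp c.2 (⟨w, hwS⟩ : ↥(S : Subgroup G)))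
  set E := Subgroup.closure ({z, w} : Set G) with hE
  have hES : E ≤ (S : Subgroup G) := (Subgroup.closure_le _).mpr (by
    rintro a (rfl | rfl)
    · exact hzS
    · exact hwS)
  haveI : IsMulCommutative E := Subgroup.isMulCommutative_closure (by
    rintro a (rfl | rfl) b (rfl | rfl)
    · rfl
    · exact hzw.symm
    · exact hzw
    · rfl)
  have hEnc : ¬ IsCyclic E := by
    intro hcyc
    have hu := uniqueP_of_cases (p := p) (H := ↥E) (Or.inl hcyc)
    obtain ⟨i, hi⟩ := hu ⟨z, Subgroup.subset_closure (Or.inl rfl)⟩ ⟨w, Subgroup.subset_closure (Or.inr rfl)⟩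
      (by rw [← Subgroup.orderOf_coe]; exact hc) (Subtype.ext hwp)
    exact hw ⟨i, congrArg Subtype.val hi⟩
  -- the lowest term of the series of order divisible by `p`
  obtain ⟨n, K, hK0, hKn, hKm, hKnor, hKfac⟩ := hsol
  have hex : ∃ j : ℕ, ∃ h : j < n + 1, p ∣ Nat.card ↥(K ⟨j, h⟩) :=
    ⟨n, lt_add_one n, by
      rw [show (⟨n, lt_add_one n⟩ : Fin (n + 1)) = Fin.last n from rfl, hKn, Subgroup.card_top]
      exact hdiv⟩
  obtain ⟨hj, hjp⟩ := Nat.find_spec hex
  obtain ⟨j, hjeq⟩ : ∃ j, Nat.find hex = j + 1 := by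
    refine Nat.exists_eq_succ_of_ne_zero fun h0 => ?_
    rw [show (⟨Nat.find hex, hj⟩ : Fin (n + 1)) = 0 from Fin.ext h0, hK0, Subgroup.card_bot] at hjp
    exact hpp.not_dvd_one hjp
  set i : Fin n := ⟨j, by omega⟩
  have hMp : ¬ p ∣ Nat.card ↥(K i.castSucc) := fun h => by
    have := Nat.find_min hex (show j < Nat.find hex by omega)
    exact this ⟨by omega, h⟩
  have hKp : p ∣ Nat.card ↥(K i.succ) := by
    rwa [show i.succ = (⟨Nat.find hex, hj⟩ : Fin (n + 1)) from Fin.ext hjeq.symm]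
  set M := K i.castSucc
  set L := K i.succ
  haveI : M.Normal := hKnor _
  haveI : L.Normal := hKnor _
  have hML : M ≤ L := hKm (Fin.castSucc_lt_succ (i := i)).le
  have hMc : (Nat.card M).Coprime p := (hpp.coprime_iff_not_dvd.mpr hMp).symm
  have hmul : Nat.card M * M.relIndex L = Nat.card L := by
    rw [← Subgroup.relIndex_bot_left M, Subgroup.relIndex_mul_relIndex ⊥ M L bot_le hML, Subgroup.relIndex_bot_left]
  obtain ⟨a, ha⟩ : ∃ a, M.relIndex L = p ^ a := by
    refine (hKfac i).resolve_right fun hcop => ?_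
    rw [← hmul] at hKp
    rcases hpp.dvd_mul.mp hKp with h | h
    · exact hMp h
    · exact hpp.not_dvd_one ((Nat.dvd_gcd h dvd_rfl).trans hcop.dvd)
  have hMH : M ≤ H := by
    obtain ⟨k, hk⟩ := IsPGroup.iff_card.mp (S.isPGroup'.to_le hES)
    refine Coprime.le_of_noncyclic hEnc Subgroup.le_normalizer_of_normal
      (by rw [hk]; exact (hMc.pow_right k).symm) ?_
    intro e he he1
    refine inf_le_right.trans ?_
    have hle : Subgroup.centralizer ({e} : Set G) ≤ Subgroup.normalizer ((Subgroup.zpowers e : Subgroup G) : Set G) := by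
      rw [← Subgroup.centralizer_closure, ← Subgroup.zpowers_eq_closure]
      exact Subgroup.centralizer_le_normalizer _
    exact hle.trans (StrongEmb.normalizer_le hse (S.isPGroup'.to_le (Subgroup.zpowers_le.mpr (hES he)))
      (Subgroup.zpowers_ne_bot.mpr he1) (Subgroup.zpowers_le.mpr (hSH (hES he))))
  set R := (S : Subgroup G) ⊓ L
  have hR : ¬ p ∣ (S : Subgroup G).relIndex L := StrongEmb.not_dvd_relIndex_inf S L
  have hLMR : L ≤ M ⊔ R := by
    have h1 : (M ⊔ R).relIndex L ∣ p ^ a := ha ▸ Subgroup.relIndex_dvd_of_le_left L le_sup_left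
    have h2 : (M ⊔ R).relIndex L ∣ (S : Subgroup G).relIndex L := by
      have h3 : (M ⊔ R).relIndex L ∣ R.relIndex L := Subgroup.relIndex_dvd_of_le_left L le_sup_right
      rwa [Subgroup.inf_relIndex_right] at h3
    obtain ⟨b, -, hb⟩ := (Nat.dvd_prime_pow hpp).mp h1
    rcases Nat.eq_zero_or_pos b with h0 | h0
    · exact Subgroup.relIndex_eq_one.mp (by rw [hb, h0, pow_zero])
    · exact absurd ((dvd_pow_self p h0.ne').trans (hb ▸ h2)) hR
  have hR1 : R ≠ ⊥ := by
    intro h
    apply hR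
    rw [← Subgroup.inf_relIndex_right, show (S : Subgroup G) ⊓ L = ⊥ from h, Subgroup.relIndex_bot_left]
    exact hKp
  apply hH
  rw [eq_top_iff, ← StrongEmb.normalizer_inf_sup_eq_top S L]
  have hNR : Subgroup.normalizer (R : Set G) ≤ H :=
    StrongEmb.normalizer_le hse (S.isPGroup'.to_le inf_le_left) hR1 (inf_le_left.trans hSH)
  exact sup_le hNR (hLMR.trans (sup_le hMH (Subgroup.le_normalizer.trans hNR)))

/-- Let p be a prime and G a finite p-solvable group of order divisible by p, with Sylow p-subgroup P. Then the Sylow p-subgroups of G fail to be chain-connected through nontrivial intersections (equivalently, G has a strongly p-embedded subgroup) if and only if O_p(G) = 1 and P is cyclic or, for p = 2, generalized quaternion. -/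
theorem result {G : Type*} [Group G] [Finite G]
    (p : ℕ) [Fact p.Prime] (hdiv : p ∣ Nat.card G) (hsol : Cfsg.IsPSolvable p G) (P : Sylow p G) :
    ¬ Cfsg.IsSylowChainConnected p G ↔
      Cfsg.pCore p G = ⊥ ∧ (IsCyclic ↥P ∨ (p = 2 ∧ ∃ n : ℕ, Nonempty (↥P ≃* QuaternionGroup (2 ^ n)))) := by
  rw [S3056.result p]
  constructor
  · rintro ⟨H, hH, hpH, hse⟩
    obtain ⟨S, hSH⟩ := StrongEmb.sylow_le hpH hse
    refine ⟨?_, PGroup.unique_order_p_cases P.isPGroup'
      (uniqueP_equiv (S.equiv P) (rank_le_one hdiv hsol hH hpH hse hSH))⟩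
    by_contra hO
    apply hH
    haveI := pCore_normal p G
    have h := StrongEmb.normalizer_le hse (Cores.isPGroup_pCore p G) hO ((Cores.pCore_le_sylow S).trans hSH)
    rwa [Subgroup.normalizer_eq_top, top_le_iff] at h
  · rintro ⟨hO, hP⟩
    exact rank_one hdiv hO (uniqueP_of_cases hP)

end Cfsg.Agent.S3057
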