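import Cfsg.Statements.S3059
import Cfsg.Agent.Lib.StrongEmb.Basic

set_option autoImplicit false
open Cfsg

namespace Cfsg.Agent.S3059

/-- Let p be a prime and H a strongly p-embedded subgroup of the finite group G in the classical sense: H is proper, p divides the order of H, and H ∩ gHg⁻¹ has order prime to p for every g outside H. Then for every normal subgroup N of G of order divisible by p, G = H · O^p(N), where O^p(N) is the subgroup generated by the elements of N of order prime to p. -/
theorem result {G : Type*} [Group G] [Finite G]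
    (p : ℕ) [Fact p.Prime] (H : Subgroup G) (hH : H ≠ ⊤) (hpH : p ∣ Nat.card H)
    (hse : ∀ g : G, g ∉ H → ¬ p ∣ Nat.card ↥(H ⊓ H.map (MulAut.conj g).toMonoidHom))
    (N : Subgroup G) [N.Normal] (hN : p ∣ Nat.card N) :
    H ⊔ Subgroup.closure {g : G | g ∈ N ∧ (orderOf g).Coprime p} = ⊤ := by
  obtain ⟨P, hPH⟩ := StrongEmb.sylow_le hpH hse
  set S : Set G := {g : G | g ∈ N ∧ (orderOf g).Coprime p} with hSdef
  set X : Subgroup G := H ⊔ Subgroup.closure S with hX
  have hMN : Subgroup.closure S ≤ N := (Subgroup.closure_le N).mpr fun g hg => hg.1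
  -- `P ⊓ N` is nontrivial
  have hR1 : (P : Subgroup G) ⊓ N ≠ ⊥ := by
    intro h
    apply StrongEmb.not_dvd_relIndex_inf P N
    rw [← Subgroup.inf_relIndex_right, h, Subgroup.relIndex_bot_left]
    exact hN
  have hRp : IsPGroup p ↥((P : Subgroup G) ⊓ N) := P.isPGroup'.to_le inf_le_left
  have hNR := StrongEmb.normalizer_le hse hRp hR1 (inf_le_left.trans hPH)
  -- `N` lies in `X`
  have hNX : N ≤ X := by
    rw [← Subgroup.relIndex_eq_one]
    let M0 : Subgroup ↥N := (Subgroup.closure S).subgroupOf N
    haveI : M0.Normal := by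
      haveI : (Subgroup.closure S).Normal := by
        constructor
        intro n hn g
        have h1 : (Subgroup.closure S).map (MulAut.conj g).toMonoidHom ≤ Subgroup.closure S := by
          rw [MonoidHom.map_closure, Subgroup.closure_le]
          rintro _ ⟨s, hs, rfl⟩
          refine Subgroup.subset_closure ⟨Subgroup.Normal.conj_mem inferInstance s hs.1 g, ?_⟩
          rw [orderOf_injective _ (MulAut.conj g).injective s]
          exact hs.2
        exact h1 (Subgroup.mem_map_of_mem _ hn)
      exact Subgroup.normal_subgroupOf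
    have hq : IsPGroup p (↥N ⧸ M0) := by
      intro q
      obtain ⟨n, rfl⟩ := QuotientGroup.mk'_surjective M0 q
      obtain ⟨a, d, hd, hn⟩ := Nat.exists_eq_pow_mul_and_not_dvd (orderOf_pos n).ne' p (Fact.out : p.Prime).ne_one
      refine ⟨a, ?_⟩
      rw [← map_pow]
      apply (QuotientGroup.eq_one_iff _).mpr
      apply Subgroup.subset_closure
      refine ⟨(n ^ p ^ a).2, ?_⟩
      rw [Subgroup.coe_subtype, Subgroup.orderOf_coe, orderOf_pow_of_dvd (pow_ne_zero _ (Fact.out : p.Prime).ne_zero) (hn ▸ dvd_mul_right _ _), hn,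
        Nat.mul_div_cancel_left _ (pow_pos (Fact.out : p.Prime).pos _)]
      exact ((Fact.out : p.Prime).coprime_iff_not_dvd.mpr hd).symm
    obtain ⟨k, hk⟩ := IsPGroup.iff_card.mp hq
    have h1 : X.relIndex N ∣ p ^ k := by
      rw [← hk]
      exact Subgroup.index_dvd_of_le (Subgroup.comap_mono le_sup_right)
    have h2 : X.relIndex N ∣ (P : Subgroup G).relIndex N :=
      Subgroup.relIndex_dvd_of_le_left _ (hPH.trans le_sup_left)
    obtain ⟨j, -, hj⟩ := (Nat.dvd_prime_pow Fact.out).mp h1
    rcases Nat.eq_zero_or_pos j with h0 | h0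
    · simpa [h0] using hj
    · exact absurd ((dvd_pow_self p h0.ne').trans (hj ▸ h2)) (StrongEmb.not_dvd_relIndex_inf P N)
  apply top_le_iff.mp
  rw [← StrongEmb.normalizer_inf_sup_eq_top P N]
  exact sup_le (hNR.trans le_sup_left) hNX

end Cfsg.Agent.S3059
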