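import Cfsg.Statements.S3060
import Cfsg.Agent.Lib.DStar.Basic
import Cfsg.Agent.Lib.StrongEmb.Basic
import Cfsg.Agent.Lib.Cores.Basic

set_option autoImplicit false
open Cfsg

namespace Cfsg.Agent.S3060

open scoped commutatorElement

variable {G : Type*} [Group G]

/-- `A` lies in the `D*`-family of the subgroup `Q`, read inside `G`. -/
def InFam (Q A : Subgroup G) : Prop :=
  A ≤ Q ∧ A ≤ Subgroup.centralizer (A : Set G) ∧ ∀ x ∈ Q,
    ⁅⁅A ⊔ Subgroup.zpowers x, A ⊔ Subgroup.zpowers x⁆, A ⊔ Subgroup.zpowers x⁆ = ⊥ → ∀ a ∈ A, a * x = x * a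

theorem map_class {H : Type*} [Group H] (f : H →* G) (hf : Function.Injective f) (A : Subgroup H) (x : H) :
    ⁅⁅A.map f ⊔ Subgroup.zpowers (f x), A.map f ⊔ Subgroup.zpowers (f x)⁆, A.map f ⊔ Subgroup.zpowers (f x)⁆ = ⊥ ↔
      ⁅⁅A ⊔ Subgroup.zpowers x, A ⊔ Subgroup.zpowers x⁆, A ⊔ Subgroup.zpowers x⁆ = ⊥ := by
  rw [← MonoidHom.map_zpowers, ← Subgroup.map_sup, ← Subgroup.map_commutator, ← Subgroup.map_commutator,
    Subgroup.map_eq_bot_iff_of_injective _ hf]

theorem mem_family_iff {Q : Subgroup G} {A : Subgroup ↥Q} :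
    A ∈ Cfsg.dStarFamily ↥Q ↔ InFam Q (A.map Q.subtype) := by
  constructor
  · rintro ⟨hab, h⟩
    refine ⟨Subgroup.map_subtype_le _, ?_, ?_⟩
    · rintro _ ⟨a, ha, rfl⟩ _ ⟨b, hb, rfl⟩
      exact congrArg Subtype.val ((DStar.le_centralizer_self_iff A).mp hab ha b hb)
    · intro x hx hcl
      rintro _ ⟨a, ha, rfl⟩
      exact congrArg Subtype.val (h ⟨x, hx⟩ ((map_class Q.subtype Q.subtype_injective A ⟨x, hx⟩).mp hcl) a ha)
  · rintro ⟨-, hab, h⟩
    refine ⟨(DStar.le_centralizer_self_iff A).mpr fun a ha b hb => Subtype.ext (hab ⟨a, ha, rfl⟩ _ ⟨b, hb, rfl⟩), ?_⟩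
    intro x hcl a ha
    exact Subtype.ext (h x x.2 ((map_class Q.subtype Q.subtype_injective A x).mpr hcl) _ ⟨a, ha, rfl⟩)

theorem le_dStarOf {Q A : Subgroup G} (h : InFam Q A) : A ≤ Cfsg.dStarOf Q := by
  have h2 : (A.subgroupOf Q).map Q.subtype = A := Subgroup.map_subgroupOf_eq_of_le h.1
  have h1 : A.subgroupOf Q ∈ Cfsg.dStarFamily ↥Q := mem_family_iff.mpr (by rwa [h2])
  rw [← h2]
  exact Subgroup.map_mono (le_sSup h1)

theorem inFam_dStarOf [Finite G] {p : ℕ} [Fact p.Prime] {Q : Subgroup G} (hQ : IsPGroup p Q) :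
    InFam Q (Cfsg.dStarOf Q) := mem_family_iff.mp (DStar.dStar_mem hQ)

theorem InFam.mono {Q T A : Subgroup G} (h : InFam Q A) (hAT : A ≤ T) (hTQ : T ≤ Q) : InFam T A :=
  ⟨hAT, h.2.1, fun x hx => h.2.2 x (hTQ hx)⟩

theorem InFam.map {Q A : Subgroup G} (h : InFam Q A) (g : G) :
    InFam (Q.map (MulAut.conj g).toMonoidHom) (A.map (MulAut.conj g).toMonoidHom) := by
  refine ⟨Subgroup.map_mono h.1, ?_, ?_⟩
  · rintro _ ⟨a, ha, rfl⟩ _ ⟨b, hb, rfl⟩
    rw [← map_mul, ← map_mul, h.2.1 ha b hb]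
  · rintro _ ⟨x, hx, rfl⟩ hcl _ ⟨a, ha, rfl⟩
    rw [← map_mul, ← map_mul, h.2.2 x hx ((map_class _ (MulAut.conj g).injective A x).mp hcl) a ha]

/-- The D*-Theorem. For a finite p-group S let D*(S) be the subgroup generated by the abelian subgroups A of S such that every x ∈ S with ⟨A, x⟩ of nilpotency class at most two centralizes A. Let p be an odd prime and H a finite p-stable group with Sylow p-subgroup S. Here H is p-stable in the following sense: the largest normal p-subgroup O_p(H) contains its centralizer in H, and for every normal p-subgroup P of H, every element acting quadratically on P has image in O_p(H/C_H(P)). Then D*(S) is a normal subgroup of H. -/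
theorem result {G : Type*} [Group G] [Finite G] {p : ℕ} [Fact p.Prime] (hp : p ≠ 2)
    (hc : Subgroup.centralizer (Cfsg.pCore p G : Set G) ≤ Cfsg.pCore p G)
    (hst : ∀ (P : Subgroup G) [P.Normal], IsPGroup p P → Cfsg.IsPStableOn p P) (S : Sylow p G) :
    (Cfsg.dStarOf (S : Subgroup G)).Normal := by
  set D := Cfsg.dStarOf (S : Subgroup G) with hD
  have hDS : InFam (S : Subgroup G) D := inFam_dStarOf S.isPGroup'
  have hSD : (S : Subgroup G) ≤ Subgroup.normalizer (D : Set G) := by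
    intro s hs
    refine Subgroup.mem_normalizer_iff.mpr fun n => ⟨?_, ?_⟩
    · rintro ⟨a, ha, rfl⟩
      exact ⟨_, (DStar.dStar_normal (S := ↥(S : Subgroup G))).conj_mem a ha ⟨s, hs⟩, rfl⟩
    · rintro ⟨a, ha, hae⟩
      have h : ((⟨s, hs⟩ : ↥(S : Subgroup G))⁻¹ * a * (⟨s, hs⟩ : ↥(S : Subgroup G))⁻¹⁻¹) ∈ Cfsg.dStar ↥(S : Subgroup G) :=
        (DStar.dStar_normal (S := ↥(S : Subgroup G))).conj_mem a ha _
      change (a : G) = s * n * s⁻¹ at hae
      refine ⟨_, h, ?_⟩
      show s⁻¹ * (a : G) * s⁻¹⁻¹ = n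
      rw [hae]
      group
  have hPS : Cfsg.pCore p G ≤ (S : Subgroup G) := Cores.pCore_le_sylow S
  haveI : (Cfsg.pCore p G).Normal := Cores.pCore_normal p G
  have hDab : ⁅D, D⁆ = ⊥ := Subgroup.commutator_eq_bot_iff_le_centralizer.mpr hDS.2.1
  have hDP : D ≤ Cfsg.pCore p G := by
    intro a ha
    have hCp : IsPGroup p ↥(QuotientGroup.mk' (Subgroup.centralizer (Cfsg.pCore p G : Set G))).ker := by
      rw [QuotientGroup.ker_mk']; exact (Cores.isPGroup_pCore p G).to_le hc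
    refine Cores.comap_pCore_le _ hCp (hst _ (Cores.isPGroup_pCore p G) a (le_bot_iff.mp ?_))
    refine (Subgroup.commutator_mono (Subgroup.commutator_mono le_rfl (Subgroup.zpowers_le.mpr ha))
      (Subgroup.zpowers_le.mpr ha)).trans ((Subgroup.commutator_mono ?_ le_rfl).trans hDab.le)
    exact Subgroup.le_normalizer_iff_commutator_le_right.mp (hPS.trans hSD)
  set V := Subgroup.normalClosure (D : Set G) with hV
  haveI : V.Normal := Subgroup.normalClosure_normal
  have hVP : V ≤ Cfsg.pCore p G := Subgroup.normalClosure_le_normal hDP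
  have hVp : IsPGroup p V := (Cores.isPGroup_pCore p G).to_le hVP
  set C := Subgroup.centralizer (V : Set G) with hC
  set L := (Cfsg.pCore p (G ⧸ C)).comap (QuotientGroup.mk' C) with hL
  haveI : L.Normal := Subgroup.Normal.comap (Cores.pCore_normal p _) _
  have hCL : C ≤ L := fun c hc' => by
    show QuotientGroup.mk' C c ∈ Cfsg.pCore p (G ⧸ C)
    rw [QuotientGroup.mk'_apply, (QuotientGroup.eq_one_iff c).mpr hc']
    exact one_mem _
  have hPL : Cfsg.pCore p G ≤ L :=
    Subgroup.map_le_iff_le_comap.mp (Cores.map_pCore_le _ (QuotientGroup.mk'_surjective C) p)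
  set T := (S : Subgroup G) ⊓ L with hT
  have htop : Subgroup.normalizer (T : Set G) ⊔ C = ⊤ := by
    rw [eq_top_iff, ← StrongEmb.normalizer_inf_sup_eq_top S L]
    refine sup_le le_sup_left fun d hd => ?_
    obtain ⟨s, hs, hsd⟩ := Cores.pCore_le_sylow (S.mapSurjective (QuotientGroup.mk'_surjective C)) hd
    have hcC : s⁻¹ * d ∈ C := QuotientGroup.eq.mp hsd
    have hsL : s ∈ L := by simpa using L.mul_mem hd (L.inv_mem (hCL hcC))
    have h := Subgroup.mul_mem (Subgroup.normalizer (T : Set G) ⊔ C)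
      (Subgroup.mem_sup_left (Subgroup.le_normalizer (⟨hs, hsL⟩ : s ∈ T))) (Subgroup.mem_sup_right hcC)
    simpa using h
  have hDT : InFam T D := hDS.mono (le_inf hDS.1 (hDP.trans hPL)) inf_le_left
  have hTp : IsPGroup p T := S.isPGroup'.to_le inf_le_left
  have hVD' : V ≤ Cfsg.dStarOf T := by
    refine (Subgroup.closure_le _).mpr fun x hx => ?_
    obtain ⟨z, hz, hconj⟩ := Group.mem_conjugatesOfSet_iff.mp hx
    obtain ⟨g, rfl⟩ := isConj_iff.mp hconj
    haveI : C.Normal := Subgroup.normal_centralizer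
    have hg : g⁻¹ ∈ ((Subgroup.normalizer (T : Set G) ⊔ C : Subgroup G) : Set G) := htop ▸ Subgroup.mem_top _
    rw [Subgroup.mul_normal] at hg
    obtain ⟨n, hn, c, hcC, hnc⟩ := hg
    have hgc : g = c⁻¹ * n⁻¹ := by rw [← mul_inv_rev, show n * c = g⁻¹ from hnc, inv_inv]
    have hzn : n⁻¹ * z * n ∈ V := by
      have h := (inferInstance : V.Normal).conj_mem z (Subgroup.subset_normalClosure hz) n⁻¹
      rwa [inv_inv] at h
    have h1 : g * z * g⁻¹ = n⁻¹ * z * n := by
      have h2 := hcC _ hzn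
      calc g * z * g⁻¹ = c⁻¹ * ((n⁻¹ * z * n) * c) := by rw [hgc]; group
        _ = c⁻¹ * (c * (n⁻¹ * z * n)) := by rw [h2]
        _ = _ := by group
    rw [SetLike.mem_coe, h1]
    refine le_dStarOf ((hDT.map n⁻¹).mono ?_ ?_) ⟨z, hz, by simp [mul_assoc]⟩
    · rintro _ ⟨a, ha, rfl⟩
      exact (Subgroup.mem_normalizer_iff.mp (inv_mem hn) a).mp (hDT.1 ha)
    · intro u hu
      exact ⟨n * u * n⁻¹, (Subgroup.mem_normalizer_iff.mp hn u).mp hu, by simp [mul_assoc]⟩
  have hfam : InFam (S : Subgroup G) (Cfsg.dStarOf T) := by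
    obtain ⟨h1, h2, h3⟩ := inFam_dStarOf hTp
    refine ⟨h1.trans inf_le_left, h2, fun x hx hcl => h3 x ⟨hx, hst V hVp x (le_bot_iff.mp ?_)⟩ hcl⟩
    refine le_trans ?_ hcl.le
    exact Subgroup.commutator_mono (Subgroup.commutator_mono (hVD'.trans le_sup_left) le_sup_right) le_sup_right
  have hVD : V = D := le_antisymm (hVD'.trans (le_dStarOf hfam)) Subgroup.le_normalClosure
  exact hVD ▸ inferInstance

end Cfsg.Agent.S3060
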