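import Cfsg.Statements.S3062
import Cfsg.Agent.Lib.DStar.Basic
import Cfsg.Agent.Lib.CentrallyLarge.Basic
import Cfsg.Agent.Lib.PLocal.Replacement
import Cfsg.Agent.Lib.Coprime.PQ

set_option autoImplicit false
open Cfsg Cfsg.Agent.CentrallyLarge
open scoped Pointwise commutatorElement

namespace Cfsg.Agent.S3062

/-- Let S be a finite p-group, J(S) the subgroup generated by the abelian subgroups of S of largest order and Z(J(S)) its centre. Then Z(S) ≤ D*(S) ≤ Z(J(S)), and every maximal normal abelian subgroup of S contains D*(S). -/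
theorem result {S : Type*} [Group S] [Finite S] {p : ℕ} [Fact p.Prime]
    (hS : IsPGroup p S) :
    Subgroup.center S ≤ Cfsg.dStar S ∧
    Cfsg.dStar S ≤ Cfsg.thompsonSubgroupA S ⊓ Subgroup.centralizer (Cfsg.thompsonSubgroupA S : Set S) ∧
    ∀ A : Subgroup S, A.Normal → IsMulCommutative A →
      (∀ B : Subgroup S, B.Normal → IsMulCommutative B → A ≤ B → B = A) → Cfsg.dStar S ≤ A := by
  refine ⟨le_sSup DStar.center_mem, ?_, fun A hn hab hmax => DStar.dStar_le_of_maximal hS A hn hab hmax⟩
  set D := Cfsg.dStar S with hD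
  have hDab : D ≤ Subgroup.centralizer (D : Set S) := DStar.dStar_le_centralizer hS
  suffices h : ∀ A ∈ Cfsg.maxAbelianSubgroups S, D ≤ Subgroup.centralizer (A : Set S) by
    obtain ⟨A, hA⟩ := exists_maxAbelian (P := S)
    refine le_inf (((h A hA).trans (maxAbelian_centralizer hA).le).trans (le_sSup hA)) ?_
    exact Subgroup.le_centralizer_iff.mp (sSup_le fun A hA => Subgroup.le_centralizer_iff.mp (h A hA))
  by_contra hne
  push_neg at hne
  obtain ⟨A, ⟨hA, hAne⟩, hbest⟩ := Set.exists_max_image
    {A : Subgroup S | A ∈ Cfsg.maxAbelianSubgroups S ∧ ¬ D ≤ Subgroup.centralizer (A : Set S)}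
    (fun A => Nat.card ↥(D ⊓ A)) (Set.toFinite _) hne
  have hCA := maxAbelian_centralizer hA
  have hAab := maxAbelian_le_centralizer hA
  have hAD : A ≤ Subgroup.normalizer (D : Set S) := Subgroup.le_normalizer_of_normal
  have hab : ⁅A, A⁆ ≤ Subgroup.centralizer (D : Set S) := by
    rw [Subgroup.commutator_eq_bot_iff_le_centralizer.mpr hAab]
    exact bot_le
  have hmax : ∀ B : Subgroup S, B ≤ A →
      Nat.card B * Nat.card ↥(D ⊓ Subgroup.centralizer (B : Set S)) ≤
        Nat.card A * Nat.card ↥(D ⊓ Subgroup.centralizer (A : Set S)) := by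
    intro B hB
    rw [hCA]
    refine (CentrallyLarge.card_mul_card_le B (D ⊓ Subgroup.centralizer (B : Set S))).trans (Nat.mul_le_mul ?_ ?_)
    · refine hA.2 _ ((CentrallyLarge.abelian_iff _).mpr (abelian_sup ?_ ?_ inf_le_right))
      · exact hB.trans (hAab.trans (Subgroup.centralizer_le (SetLike.coe_subset_coe.mpr hB)))
      · exact inf_le_left.trans (hDab.trans (Subgroup.centralizer_le (SetLike.coe_subset_coe.mpr inf_le_left)))
    · exact Subgroup.card_le_of_le (le_inf (inf_le_right.trans inf_le_left) (inf_le_left.trans hB))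
  obtain ⟨hr1, hr2⟩ := PLocal.replacement hDab hAD hab hmax (le_refl D)
  rw [hCA] at hr1 hr2
  set B := A ⊓ Subgroup.centralizer ((⁅D, A⁆ : Subgroup S) : Set S) with hB
  set C := D ⊓ Subgroup.centralizer (B : Set S) with hC
  have hA' : B ⊔ C ∈ Cfsg.maxAbelianSubgroups S := by
    refine ⟨(CentrallyLarge.abelian_iff _).mpr (abelian_sup ?_ ?_ inf_le_right), fun E hE => (hA.2 E hE).trans ?_⟩
    · exact inf_le_left.trans (hAab.trans (Subgroup.centralizer_le (SetLike.coe_subset_coe.mpr inf_le_left)))
    · exact inf_le_left.trans (hDab.trans (Subgroup.centralizer_le (SetLike.coe_subset_coe.mpr inf_le_left)))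
    · refine Nat.le_of_mul_le_mul_right ?_ (Nat.card_pos (α := ↥(D ⊓ A)))
      rw [← hr1]
      exact (CentrallyLarge.card_mul_card_le B C).trans
        (Nat.mul_le_mul_left _ (Subgroup.card_le_of_le (le_inf (inf_le_right.trans inf_le_left) (inf_le_left.trans inf_le_left))))
  apply hAne
  by_cases hstrict : C ≤ D ⊓ A
  · have h1 : ⁅D, A⁆ ≤ A := (le_sup_left.trans hr2.ge).trans (hstrict.trans inf_le_right)
    have hDA : D ≤ Subgroup.normalizer (A : Set S) := by
      intro d hd
      apply Subgroup.mem_normalizer_fintype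
      intro a ha
      have := A.mul_mem (h1 (Subgroup.commutator_mem_commutator hd ha)) ha
      simpa [commutatorElement_def, mul_assoc] using this
    exact Subgroup.le_centralizer_iff.mp
      (DStar.family_commute_of_normalize (DStar.dStar_mem hS) le_rfl hDab hAab hDA hAD)
  · have hlt : Nat.card ↥(D ⊓ A) < Nat.card ↥(D ⊓ (B ⊔ C)) := by
      refine lt_of_lt_of_le ?_ (Subgroup.card_le_of_le (le_inf inf_le_left le_sup_right : C ≤ D ⊓ (B ⊔ C)))
      have hle : D ⊓ A ≤ C := le_inf inf_le_left (inf_le_right.trans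
        (hAab.trans (Subgroup.centralizer_le (SetLike.coe_subset_coe.mpr inf_le_left))))
      exact lt_of_not_ge fun hge => hstrict (Subgroup.eq_of_le_of_card_ge hle hge).ge
    have hDA' : D ≤ Subgroup.centralizer ((B ⊔ C : Subgroup S) : Set S) := by
      by_contra h
      exact not_le.mpr hlt (hbest (B ⊔ C) ⟨hA', h⟩)
    have hDC : D ≤ C := le_inf le_rfl (hDA'.trans (Subgroup.centralizer_le (SetLike.coe_subset_coe.mpr le_sup_left)))
    have hDn : ⁅D, A⁆ ≤ D := Subgroup.commutator_le_left D A
    have hsub : ⁅D, A⁆ ≤ ⁅⁅D, A⁆, A⁆ := by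
      rw [Subgroup.commutator_le]
      intro d hd a ha
      have hm : d ∈ ⁅D, A⁆ ⊔ (D ⊓ A) := hr2.le (hDC hd)
      haveI : (⁅D, A⁆.subgroupOf D).Normal :=
        Subgroup.normal_subgroupOf_of_le_normalizer
          (hDab.trans ((Subgroup.centralizer_le (SetLike.coe_subset_coe.mpr hDn)).trans (Subgroup.centralizer_le_normalizer _)))
      rw [← SetLike.mem_coe, Subgroup.coe_mul_of_right_le_normalizer_left _ _
        ((inf_le_left.trans hDab).trans ((Subgroup.centralizer_le (SetLike.coe_subset_coe.mpr hDn)).trans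
          (Subgroup.centralizer_le_normalizer _)))] at hm
      obtain ⟨w, hw, c, hc, rfl⟩ := Set.mem_mul.mp hm
      have hca : ⁅c, a⁆ = 1 :=
        commutatorElement_eq_one_iff_mul_comm.mpr (hAab ha c hc.2)
      rw [commutatorElement_mul_left_eq_conj_mul, hca, mul_one, mul_inv_cancel, one_mul]
      exact Subgroup.commutator_mem_commutator hw ha
    haveI : Group.IsNilpotent S := hS.isNilpotent
    have hbot : ⁅D, A⁆ = ⊥ := Coprime.eq_bot_of_le_commutator (S := ⊤) le_top inferInstance
      (hsub.trans (Subgroup.commutator_mono le_rfl le_top))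
    exact Subgroup.commutator_eq_bot_iff_le_centralizer.mp hbot

end Cfsg.Agent.S3062
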