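import Cfsg.Statements.S3063
import Cfsg.Agent.Lib.CentrallyLarge.Basic
import Cfsg.Agent.Lib.PLocal.Replacement

set_option autoImplicit false
open Cfsg Cfsg.Agent
open scoped commutatorElement Pointwise

namespace Cfsg.Agent.S3063

/-- A weak replacement Theorem for metabelian p-groups: let S be a finite p-group whose derived subgroup is abelian and A an abelian subgroup of S of largest possible order. Then the normal closure of A in S contains an abelian subgroup B of the same order as A that is normal in S. -/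
theorem result {S : Type*} [Group S] [Finite S] {p : ℕ} [Fact p.Prime]
    (hS : IsPGroup p S) (hmeta : IsMulCommutative ↥(commutator S))
    (A : Subgroup S) (hA : A ∈ Cfsg.maxAbelianSubgroups S) :
    ∃ B ∈ Cfsg.maxAbelianSubgroups S, B.Normal ∧ B ≤ Subgroup.normalClosure (A : Set S) := by
  classical
  set N := Subgroup.normalClosure (A : Set S) with hN
  obtain ⟨B, ⟨hB, hBN⟩, hbest⟩ := Set.exists_max_image
    {B : Subgroup S | B ∈ Cfsg.maxAbelianSubgroups S ∧ B ≤ N}
    (fun B => Nat.card ↥(B ⊓ commutator S)) (Set.toFinite _) ⟨A, hA, fun a ha => Subgroup.subset_normalClosure ha⟩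
  refine ⟨B, hB, ?_, hBN⟩
  by_contra hnn
  obtain ⟨b, hb, s, hs⟩ : ∃ b ∈ B, ∃ s : S, s * b * s⁻¹ ∉ B := by
    by_contra hc
    push Not at hc
    exact hnn ⟨hc⟩
  set C := commutator S with hC
  set B₂ := B.map (MulAut.conj s).toMonoidHom with hB₂
  have hsb : s * b * s⁻¹ ∈ B₂ := ⟨b, hb, rfl⟩
  have hcard₂ : Nat.card B₂ = Nat.card B := Subgroup.card_map_of_injective (MulEquiv.injective _)
  have hBab : B ≤ Subgroup.centralizer (B : Set S) := (CentrallyLarge.abelian_iff B).mp hB.1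
  have hB₂ab : B₂ ≤ Subgroup.centralizer (B₂ : Set S) := by
    rintro _ ⟨x, hx, rfl⟩ _ ⟨y, hy, rfl⟩
    rw [← map_mul, ← map_mul, hBab hx y hy]
  have hB₂N : B₂ ≤ N := by
    rintro _ ⟨x, hx, rfl⟩
    exact Subgroup.normalClosure_normal.conj_mem x (hBN hx) s
  have hCn : C.Normal := inferInstance
  have hB₂BC : B₂ ≤ B ⊔ C := by
    rintro _ ⟨x, hx, rfl⟩
    show s * x * s⁻¹ ∈ B ⊔ C
    rw [show s * x * s⁻¹ = ⁅s, x⁆ * x by group]
    exact mul_mem (Subgroup.mem_sup_right (Subgroup.commutator_mem_commutator (Subgroup.mem_top s)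
      (Subgroup.mem_top x))) (Subgroup.mem_sup_left hx)
  set H := B ⊔ B₂ with hH
  have hlt : B < H := lt_of_le_of_ne le_sup_left fun e => hs (by rw [e]; exact Subgroup.mem_sup_right hsb)
  -- `H = B (H ∩ C)`
  have hHB : B ⊔ (H ⊓ C) = H := by
    refine le_antisymm (sup_le le_sup_left inf_le_left) fun h hh => ?_
    have h1 : h ∈ B ⊔ C := (sup_le le_sup_left hB₂BC : H ≤ B ⊔ C) hh
    rw [← SetLike.mem_coe, Subgroup.mul_normal] at h1
    obtain ⟨x, hx, c, hc, rfl⟩ := h1
    have hcH : c ∈ H := by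
      have := H.mul_mem (H.inv_mem (Subgroup.mem_sup_left hx)) hh
      rwa [inv_mul_cancel_left] at this
    exact mul_mem (Subgroup.mem_sup_left hx) (Subgroup.mem_sup_right ⟨hcH, hc⟩)
  have hCab : C ≤ Subgroup.centralizer (C : Set S) := (CentrallyLarge.abelian_iff C).mp hmeta
  -- the replacement
  set K := B ⊓ B₂ with hK
  set B' := K ⊔ (H ⊓ C) with hB'
  have hKH : K ≤ Subgroup.centralizer (H : Set S) := by
    rw [Subgroup.le_centralizer_iff]
    exact sup_le (Subgroup.le_centralizer_iff.mp (inf_le_left.trans hBab))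
      (Subgroup.le_centralizer_iff.mp (inf_le_right.trans hB₂ab))
  have hB'ab : B' ≤ Subgroup.centralizer (B' : Set S) := by
    have h1 : K ≤ Subgroup.centralizer (K : Set S) :=
      hKH.trans (Subgroup.centralizer_le (SetLike.coe_subset_coe.mpr (inf_le_left.trans le_sup_left)))
    have h2 : H ⊓ C ≤ Subgroup.centralizer ((H ⊓ C : Subgroup S) : Set S) :=
      inf_le_right.trans (hCab.trans (Subgroup.centralizer_le (SetLike.coe_subset_coe.mpr inf_le_right)))
    have h3 : K ≤ Subgroup.centralizer ((H ⊓ C : Subgroup S) : Set S) :=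
      hKH.trans (Subgroup.centralizer_le (SetLike.coe_subset_coe.mpr inf_le_left))
    rw [hB', CentrallyLarge.centralizer_sup]
    exact le_inf (sup_le h1 (Subgroup.le_centralizer_iff.mp h3)) (sup_le h3 h2)
  have hB'N : B' ≤ N := sup_le (inf_le_left.trans hBN) (inf_le_left.trans (sup_le hBN hB₂N))
  -- `|B'| ≥ |B|`
  have hnorm₁ : B ≤ Subgroup.normalizer ((H ⊓ C : Subgroup S) : Set S) := fun x hx =>
    Subgroup.mem_normalizer_fintype fun y hy =>
      ⟨H.mul_mem (H.mul_mem (Subgroup.mem_sup_left hx) hy.1) (H.inv_mem (Subgroup.mem_sup_left hx)),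
        hCn.conj_mem y hy.2 x⟩
  have hnorm₂ : K ≤ Subgroup.normalizer ((H ⊓ C : Subgroup S) : Set S) := inf_le_left.trans hnorm₁
  have e1 := PLocal.card_sup_mul_card_inf (H := H ⊓ C) (K := B) hnorm₁
  have e2 := PLocal.card_sup_mul_card_inf (H := H ⊓ C) (K := K) hnorm₂
  rw [sup_comm, hHB, inf_comm _ B, mul_comm (Nat.card ↥(H ⊓ C))] at e1
  rw [sup_comm, inf_comm _ K, ← hB', mul_comm (Nat.card ↥(H ⊓ C))] at e2
  rw [← inf_assoc, inf_eq_left.mpr (le_sup_left : B ≤ H)] at e1
  rw [← inf_assoc, inf_eq_left.mpr (inf_le_left.trans le_sup_left : K ≤ H)] at e2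
  have e3 : Nat.card B * Nat.card B₂ ≤ Nat.card H * Nat.card K := CentrallyLarge.card_mul_card_le B B₂
  have hle : Nat.card ↥(K ⊓ C) ≤ Nat.card ↥(B ⊓ C) := Subgroup.card_le_of_le (inf_le_inf_right _ inf_le_left)
  have hB'card : Nat.card B ≤ Nat.card B' := by
    refine Nat.le_of_mul_le_mul_left
      (?_ : Nat.card B * Nat.card ↥(K ⊓ C) * Nat.card B ≤ Nat.card B * Nat.card ↥(K ⊓ C) * Nat.card B')
      (Nat.mul_pos Nat.card_pos Nat.card_pos)
    calc Nat.card B * Nat.card ↥(K ⊓ C) * Nat.card B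
        ≤ Nat.card B * Nat.card ↥(B ⊓ C) * Nat.card B₂ := by rw [hcard₂]; gcongr
      _ = Nat.card B * Nat.card B₂ * Nat.card ↥(B ⊓ C) := by ring
      _ ≤ Nat.card H * Nat.card K * Nat.card ↥(B ⊓ C) := by gcongr
      _ = Nat.card B * (Nat.card K * Nat.card ↥(H ⊓ C)) := by
          rw [show Nat.card H * Nat.card K * Nat.card ↥(B ⊓ C) = Nat.card K * (Nat.card H * Nat.card ↥(B ⊓ C)) by ring,
            e1]; ring
      _ = Nat.card B * Nat.card ↥(K ⊓ C) * Nat.card B' := by rw [← e2]; ring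
  have hB'max : B' ∈ Cfsg.maxAbelianSubgroups S :=
    ⟨(CentrallyLarge.abelian_iff B').mpr hB'ab, fun E hE => (hB.2 E hE).trans hB'card⟩
  have h4 := hbest B' ⟨hB'max, hB'N⟩
  have h5 : Nat.card ↥(H ⊓ C) ≤ Nat.card ↥(B' ⊓ C) :=
    Subgroup.card_le_of_le (le_inf le_sup_right inf_le_right)
  have h6 : Nat.card B < Nat.card H := by
    by_contra h6
    exact hlt.ne (Subgroup.eq_of_le_of_card_ge hlt.le (not_lt.mp h6))
  have h7 : Nat.card B * Nat.card ↥(B ⊓ C) < Nat.card H * Nat.card ↥(B ⊓ C) :=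
    Nat.mul_lt_mul_of_pos_right h6 Nat.card_pos
  rw [e1] at h7
  exact absurd (h5.trans h4) (not_le.mpr (Nat.lt_of_mul_lt_mul_left h7))

end Cfsg.Agent.S3063
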