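import Cfsg.Statements.S3064
import Cfsg.Agent.Lib.Frobenius.Kernel
import Cfsg.Agent.EqLemmas

set_option autoImplicit false
open Cfsg

namespace Cfsg.Agent.S3064


/-- Two commuting conjugates of an isolated `p`-element coincide. -/
theorem eq_of_commute {G : Type*} [Group G] [Finite G] {p : ℕ} [Fact p.Prime]
    (S : Sylow p G) {x : G} (hx : x ∈ S)
    (hU : ∀ g : G, g⁻¹ * x * g ∈ S → g⁻¹ * x * g = x)
    (g : G) (hc : Commute x (g⁻¹ * x * g)) : g⁻¹ * x * g = x := by
  classical
  have hxp : IsPGroup p (Subgroup.zpowers x) :=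
    IsPGroup.to_le S.isPGroup' (Subgroup.zpowers_le.2 hx)
  have hyp : IsPGroup p (Subgroup.zpowers (g⁻¹ * x * g)) := by
    have := hxp.map (MulAut.conj g⁻¹).toMonoidHom
    rwa [MonoidHom.map_zpowers, MulEquiv.coe_toMonoidHom, MulAut.conj_apply, inv_inv] at this
  have hle : Subgroup.zpowers (g⁻¹ * x * g) ≤
      Subgroup.normalizer ((Subgroup.zpowers x : Subgroup G) : Set G) := by
    refine le_trans ?_ (Subgroup.centralizer_le_normalizer _)
    rw [Subgroup.zpowers_le, Subgroup.mem_centralizer_iff]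
    intro a ha
    obtain ⟨i, rfl⟩ := Subgroup.mem_zpowers_iff.1 ha
    exact hc.zpow_left i
  obtain ⟨T, hT⟩ := (hxp.to_sup_of_normal_left' hyp hle).exists_le_sylow
  obtain ⟨k, rfl⟩ := MulAction.exists_smul_eq G S T
  have hmem : ∀ a : G, a ∈ ((k • S : Sylow p G) : Subgroup G) → k⁻¹ * a * k ∈ S := by
    intro a ha
    rw [Sylow.coe_subgroup_smul] at ha
    exact Cfsg.Agent.Frobenius.mem_conj_smul.1 ha
  have h1 := hU k (hmem x (hT (Subgroup.mem_sup_left (Subgroup.mem_zpowers x))))
  have h2 := hmem _ (hT (Subgroup.mem_sup_right (Subgroup.mem_zpowers (g⁻¹ * x * g))))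
  have h3 : k⁻¹ * (g⁻¹ * x * g) * k = x := by
    have := hU (g * k)
    simp only [mul_inv_rev, mul_assoc] at this h2 ⊢
    exact this h2
  have h4 : k⁻¹ * (g⁻¹ * x * g) * k = k⁻¹ * x * k := h3.trans h1.symm
  exact mul_left_cancel (mul_right_cancel h4)

/-- The minimal counterexample step. -/
theorem commute_all {K : Type*} [Group K] [Finite K] {p : ℕ} [Fact p.Prime] (x : K)
    (hxp : ∃ a : ℕ, orderOf x = p ^ a)
    (hne : ∀ g : K, g⁻¹ * x * g ≠ x → Subgroup.closure {x, g⁻¹ * x * g} = ⊤)
    (hb : ∀ H : Subgroup K, (Nat.card H).Coprime p → (∀ h ∈ H, x * h * x⁻¹ ∈ H) →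
      ∀ h ∈ H, x * h = h * x) : x ∈ Subgroup.center K := by
  classical
  by_contra hxc
  set Z := Subgroup.center K with hZ
  set C := Subgroup.centralizer ({x} : Set K) with hC
  have hZC : Z ≤ C := Subgroup.center_le_centralizer _
  set φ := QuotientGroup.mk' Z with hφ
  set H := C.map φ with hH
  have hcomap : H.comap φ = C := by
    rw [hH, Subgroup.comap_map_eq_self]
    rw [hφ, QuotientGroup.ker_mk']
    exact hZC
  have hxC : x ∈ C := Subgroup.mem_centralizer_singleton_iff.2 rfl
  have hx1 : φ x ≠ 1 := fun h => hxc ((QuotientGroup.eq_one_iff x).1 h)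
  have hfrob : Cfsg.IsFrobeniusComplement H := by
    refine ⟨fun h => hx1 ?_, fun h => hxc ?_, fun g hg => ?_⟩
    · rw [← Subgroup.mem_bot, ← h]
      exact Subgroup.mem_map_of_mem φ hxC
    · have hCt : C = ⊤ := by rw [← hcomap, h, Subgroup.comap_top]
      refine Subgroup.mem_center_iff.2 fun k => Subgroup.mem_centralizer_singleton_iff.1 ?_
      rw [← hC, hCt]
      exact Subgroup.mem_top k
    · obtain ⟨g, rfl⟩ := QuotientGroup.mk'_surjective Z g
      rw [Subgroup.eq_bot_iff_forall]
      rintro a ⟨ha, ha'⟩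
      obtain ⟨a, rfl⟩ := QuotientGroup.mk'_surjective Z a
      replace ha' := Cfsg.Agent.Frobenius.mem_conj_smul.1 ha'
      have haC : a ∈ C := by rw [← hcomap]; exact ha
      have haC' : g⁻¹ * a * g ∈ C := by
        rw [← hcomap, Subgroup.mem_comap, map_mul, map_mul, map_inv]; exact ha'
      have hgne : (g⁻¹)⁻¹ * x * g⁻¹ ≠ x := by
        intro h
        apply hg
        refine Subgroup.mem_map_of_mem φ (Subgroup.mem_centralizer_singleton_iff.2 ?_)
        rw [inv_inv] at h
        calc g * x = g * x * g⁻¹ * g := by group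
          _ = x * g := by rw [h]
      have hcl := hne g⁻¹ hgne
      rw [inv_inv] at hcl
      refine (QuotientGroup.eq_one_iff a).2 (Subgroup.mem_center_iff.2 fun k => ?_)
      have hk : k ∈ Subgroup.centralizer ({a} : Set K) := by
        have hle : Subgroup.closure {x, g * x * g⁻¹} ≤ Subgroup.centralizer ({a} : Set K) := by
          rw [Subgroup.closure_le]
          rintro _ (rfl | rfl)
          · exact Subgroup.mem_centralizer_singleton_iff.2
              (Subgroup.mem_centralizer_singleton_iff.1 haC).symm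
          · refine Subgroup.mem_centralizer_singleton_iff.2 ?_
            have h := Subgroup.mem_centralizer_singleton_iff.1 haC'
            calc g * x * g⁻¹ * a = g * (x * (g⁻¹ * a * g)) * g⁻¹ := by group
              _ = g * ((g⁻¹ * a * g) * x) * g⁻¹ := by rw [h]
              _ = a * (g * x * g⁻¹) := by group
        exact (hcl ▸ hle) (Subgroup.mem_top k)
      exact Subgroup.mem_centralizer_singleton_iff.1 hk
  obtain ⟨Nb, -, hNbn, hNbc⟩ := Cfsg.Agent.Frobenius.exists_kernel hfrob
  have hpH : p ∣ Nat.card H := by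
    have h2 : orderOf (φ x) ∣ Nat.card H :=
      Subgroup.orderOf_dvd_natCard H (Subgroup.mem_map_of_mem φ hxC)
    obtain ⟨a, ha⟩ := hxp
    have h3 : orderOf (φ x) ∣ p ^ a := ha ▸ orderOf_map_dvd φ x
    obtain ⟨i, -, hi⟩ := (Nat.dvd_prime_pow (Fact.out : p.Prime)).1 h3
    rcases i with _ | i
    · exact absurd (orderOf_eq_one_iff.1 (by simpa using hi)) hx1
    · exact (dvd_pow_self p (Nat.succ_ne_zero i)).trans (hi ▸ h2)
  have hpN : (Nat.card Nb).Coprime p := by
    rw [← hNbc.index_eq_card]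
    exact ((Cfsg.Agent.Frobenius.coprime_card_index hfrob).coprime_dvd_left hpH).symm
  set N := Nb.comap φ with hN
  haveI : N.Normal := hNbn.comap φ
  let P : Sylow p N := default
  have hPZ : ∀ n : N, n ∈ (P : Subgroup N) → (n : K) ∈ Z := by
    intro n hn
    obtain ⟨k, hk⟩ := P.isPGroup' ⟨n, hn⟩
    have hk' : (n : K) ^ p ^ k = 1 := by
      have := congrArg (fun t : (P : Subgroup N) => ((t : N) : K)) hk
      simpa using this
    have h1 : orderOf (φ (n : K)) ∣ p ^ k :=
      orderOf_dvd_of_pow_eq_one (by rw [← map_pow, hk', map_one])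
    have h2 : orderOf (φ (n : K)) ∣ Nat.card Nb := Subgroup.orderOf_dvd_natCard Nb n.2
    have h3 : orderOf (φ (n : K)) = 1 :=
      Nat.eq_one_of_dvd_coprimes (hpN.pow_right k) h2 h1
    exact (QuotientGroup.eq_one_iff _).1 (orderOf_eq_one_iff.1 h3)
  haveI : (P : Subgroup N).Normal := ⟨fun n hn g => by
    have h : g * n = n * g := Subtype.ext (Subgroup.mem_center_iff.1 (hPZ n hn) g)
    rwa [h, mul_inv_cancel_right]⟩
  have hcop : (Nat.card (P : Subgroup N)).Coprime (P : Subgroup N).index := by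
    obtain ⟨k, hk⟩ := IsPGroup.iff_card.1 P.isPGroup'
    rw [hk]
    exact Nat.Coprime.pow_left k ((Nat.Prime.coprime_iff_not_dvd (Fact.out : p.Prime)).2
      P.not_dvd_index)
  obtain ⟨W, hW⟩ := Subgroup.exists_right_complement'_of_coprime hcop
  have hWc : Nat.card W = (P : Subgroup N).index := hW.symm.index_eq_card.symm
  have hWp : (Nat.card W).Coprime p := by
    rw [hWc]
    exact ((Nat.Prime.coprime_iff_not_dvd (Fact.out : p.Prime)).2 P.not_dvd_index).symm
  have hconj : ∀ w : N, w ∈ W → x * (w : K) * x⁻¹ ∈ W.map N.subtype := by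
    intro w hw
    let v : N := ⟨x * (w : K) * x⁻¹, ‹N.Normal›.conj_mem _ w.2 x⟩
    obtain ⟨⟨⟨a, ha⟩, ⟨b, hb'⟩⟩, hab⟩ :=
      (Subgroup.isComplement_iff_existsUnique.1 hW v).exists
    have hac : Commute a b :=
      Subtype.ext (Subgroup.mem_center_iff.1 (hPZ a ha) b).symm
    have hv : v ^ Nat.card W = 1 := by
      apply Subtype.ext
      show (x * (w : K) * x⁻¹) ^ Nat.card W = 1
      rw [conj_pow]
      have h3 : w ^ Nat.card W = 1 :=
        orderOf_dvd_iff_pow_eq_one.1 (Subgroup.orderOf_dvd_natCard W hw)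
      have h2 : (w : K) ^ Nat.card W = 1 := by
        rw [← SubmonoidClass.coe_pow, h3, OneMemClass.coe_one]
      rw [h2]; group
    have hb1 : b ^ Nat.card W = 1 :=
      orderOf_dvd_iff_pow_eq_one.1 (Subgroup.orderOf_dvd_natCard W hb')
    have ha1 : a ^ Nat.card W = 1 := by
      have hab' : a * b = v := hab
      rw [← hab', hac.mul_pow, hb1, mul_one] at hv
      exact hv
    have ha2 : a = 1 := by
      have h1 : orderOf a ∣ Nat.card W := orderOf_dvd_of_pow_eq_one ha1
      have h2 : orderOf a ∣ Nat.card (P : Subgroup N) := Subgroup.orderOf_dvd_natCard _ ha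
      rw [hWc] at h1
      exact orderOf_eq_one_iff.1 (Nat.eq_one_of_dvd_coprimes hcop h2 h1)
    have hab' : a * b = v := hab
    rw [ha2, one_mul] at hab'
    exact ⟨b, hb', congrArg Subtype.val hab'⟩
  have hWx := hb (W.map N.subtype)
    (by rwa [Subgroup.card_map_of_injective N.subtype_injective])
    (fun h hh => by
      obtain ⟨w, hw, rfl⟩ := hh
      exact hconj w hw)
  have hNC : N ≤ C := by
    intro n hn
    obtain ⟨⟨⟨a, ha⟩, ⟨b, hb'⟩⟩, hab⟩ :=
      (Subgroup.isComplement_iff_existsUnique.1 hW ⟨n, hn⟩).exists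
    have hab' : (a : K) * (b : K) = n := congrArg Subtype.val hab
    rw [← hab']
    refine C.mul_mem (hZC (hPZ a ha)) (Subgroup.mem_centralizer_singleton_iff.2 ?_)
    exact (hWx (b : K) ⟨b, hb', rfl⟩).symm
  apply hfrob.2.1
  have hle : Nb ≤ H := by
    intro m hm
    obtain ⟨n, rfl⟩ := QuotientGroup.mk'_surjective Z m
    exact Subgroup.mem_map_of_mem φ (hNC hm)
  rw [← top_le_iff, ← hNbc.sup_eq_top]
  exact sup_le hle le_rfl

/-- Let S be a Sylow p-subgroup of the finite group G and x an element of S such that (i) x is the only G-conjugate of x lying in S, and (ii) x centralizes every subgroup of order prime to p that it normalizes. Then x lies in the centre of G. -/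
theorem result {G : Type*} [Group G] [Finite G] {p : ℕ} [Fact p.Prime]
    (S : Sylow p G) (x : G) (hx : x ∈ S)
    (hU : ∀ g : G, g⁻¹ * x * g ∈ S → g⁻¹ * x * g = x)
    (hb : ∀ H : Subgroup G, (Nat.card H).Coprime p → (∀ h ∈ H, x * h * x⁻¹ ∈ H) → ∀ h ∈ H, x * h = h * x) :
    x ∈ Subgroup.center G := by
  have hxp : ∃ a : ℕ, orderOf x = p ^ a := by
    obtain ⟨k, hk⟩ := S.isPGroup' ⟨x, hx⟩
    have hk' : x ^ p ^ k = 1 := by simpa using congrArg Subtype.val hk
    obtain ⟨i, -, hi⟩ := (Nat.dvd_prime_pow (Fact.out : p.Prime)).1 (orderOf_dvd_of_pow_eq_one hk')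
    exact ⟨i, hi⟩
  suffices key : ∀ n : ℕ, ∀ K : Subgroup G, Nat.card K = n → x ∈ K → ∀ k ∈ K, k * x = x * k from
    Subgroup.mem_center_iff.2 fun k =>
      key _ ⊤ rfl (Subgroup.mem_top x) k (Subgroup.mem_top k)
  intro n
  induction n using Nat.strong_induction_on with
  | _ n IH =>
  intro K hn hxK k hk
  have hcen : (⟨x, hxK⟩ : K) ∈ Subgroup.center K := by
    refine commute_all (p := p) _ (by simpa [Subgroup.orderOf_mk] using hxp) ?_ ?_
    · intro g hg
      by_contra hcl
      apply hg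
      set y := g⁻¹ * (⟨x, hxK⟩ : K) * g with hy
      set L := Subgroup.closure ({(⟨x, hxK⟩ : K), y} : Set K) with hL
      have hlt : Nat.card (L.map K.subtype) < n := by
        rw [Subgroup.card_map_of_injective K.subtype_injective, ← hn]
        refine lt_of_le_of_ne (Subgroup.card_le_card_group L) fun h => hcl ?_
        exact Subgroup.eq_top_of_card_eq L h
      have h1 : x ∈ L.map K.subtype :=
        ⟨⟨x, hxK⟩, Subgroup.subset_closure (Set.mem_insert _ _), rfl⟩
      have h2 : (y : G) ∈ L.map K.subtype :=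
        ⟨y, Subgroup.subset_closure (Set.mem_insert_of_mem _ rfl), rfl⟩
      have h3 := IH _ hlt _ rfl h1 (y : G) h2
      apply Subtype.ext
      exact eq_of_commute S hx hU (g : G) h3.symm
    · intro H hH hHx h hh
      apply Subtype.ext
      refine hb (H.map K.subtype) (by rwa [Subgroup.card_map_of_injective K.subtype_injective]) ?_
        (h : G) ⟨h, hh, rfl⟩
      rintro _ ⟨a, ha, rfl⟩
      exact ⟨_, hHx a ha, rfl⟩
  exact congrArg Subtype.val (Subgroup.mem_center_iff.1 hcen ⟨k, hk⟩)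

end Cfsg.Agent.S3064
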