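import Cfsg.Statements.S3066
import Cfsg.Agent.EqLemmas
import Cfsg.Agent.Lib.OutCriteria.ThreeGen
import Cfsg.Agent.Lib.OutCriteria.OneClass
import Cfsg.Agent.Lib.Frobenius.SolvableAut

set_option autoImplicit false
open Cfsg

namespace Cfsg.Agent.S3066

/-- Let G be a finite non-abelian simple group with a nontrivial Sylow 2-subgroup S (that is, G has even order). Then Out(G) = Aut(G)/Inn(G) is solvable provided one of the following holds: (a) S is generated by two elements; (b) S is generated by three elements and N_G(S)/C_G(S) is not a 2-group (some element of N_G(S) of odd order does not centralize S); (c) the involutions of S commute pairwise and are all conjugate in G. -/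
theorem result {G : Type*} [Group G] [Finite G] [IsSimpleGroup G]
    (hG : ¬ IsMulCommutative G) (S : Sylow 2 G) (hS1 : (S : Subgroup G) ≠ ⊥)
    (h : (∃ a b : ↥S, Subgroup.closure ({a, b} : Set ↥S) = ⊤) ∨
      ((∃ a b c : ↥S, Subgroup.closure ({a, b, c} : Set ↥S) = ⊤) ∧
        ∃ g ∈ Subgroup.normalizer ((S : Subgroup G) : Set G), Odd (orderOf g) ∧ g ∉ Subgroup.centralizer ((S : Subgroup G) : Set G)) ∨
      ((∀ s ∈ S, ∀ t ∈ S, orderOf s = 2 → orderOf t = 2 → s * t = t * s) ∧
        (∀ s ∈ S, ∀ t ∈ S, orderOf s = 2 → orderOf t = 2 → ∃ g : G, g * s * g⁻¹ = t))) :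
    Group.IsSolvable (Cfsg.Out G) := by
  haveI : Fact (Nat.Prime 2) := ⟨Nat.prime_two⟩
  refine GlauberAut.out_solvable S (GlauberAut.pPrimeCore_eq_bot S hS1)
    (fun N _ _ hN => Cfsg.Agent.S0205.result hN) ?_
  rcases h with ⟨a, b, hab⟩ | ⟨h3, hg⟩ | ⟨hcomm, hconj⟩
  · haveI := Frobenius.isSolvable_mulAut_of_two_generated S.2 hab
    exact solvable_of_solvable_injective (GlauberAut.resHom S).range.subtype_injective
  · exact OutCriteria.isSolvable_of_three_generated S h3 hg
  · have ho : ∀ s : G, s ^ 2 = 1 → s ≠ 1 → orderOf s = 2 := fun s hs hs1 => orderOf_eq_prime hs hs1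
    refine OutCriteria.isSolvable_of_one_class S (fun s hs t ht hs2 ht2 => ?_)
      (fun s hs t ht hs2 ht2 hs1 ht1 => hconj s hs t ht (ho s hs2 hs1) (ho t ht2 ht1))
    by_cases hs1 : s = 1
    · rw [hs1, one_mul, mul_one]
    by_cases ht1 : t = 1
    · rw [ht1, one_mul, mul_one]
    exact hcomm s hs t ht (ho s hs2 hs1) (ho t ht2 ht1)

end Cfsg.Agent.S3066
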