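import Cfsg.Statements.S3067
import Cfsg.Agent.Lib.CoprimeCentral.Main

set_option autoImplicit false
open Cfsg

namespace Cfsg.Agent.S3067

/-- Let G be a finite non-abelian simple group, τ an involution of G, and α a nontrivial automorphism of G whose order is coprime to the order of G. Then α moves some element of the centralizer of τ: α does not fix C_G(τ) elementwise. -/
theorem result {G : Type*} [Group G] [Finite G] [IsSimpleGroup G]
    (hG : ¬ IsMulCommutative G) (τ : G) (hτ : orderOf τ = 2) (α : MulAut G) (hα : α ≠ 1)
    (hcop : (orderOf α).Coprime (Nat.card G)) :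
    ∃ c ∈ Subgroup.centralizer ({τ} : Set G), α c ≠ c := by
  by_contra hall
  push Not at hall
  have h : CoprimeCentral.Setup α τ := ⟨hcop, hτ, hall⟩
  have hO : Cfsg.oddCore G = ⊥ := by
    rcases Subgroup.Normal.eq_bot_or_eq_top (inferInstance : (Cfsg.oddCore G).Normal) with e | e
    · exact e
    have h1 : Odd (Nat.card (Cfsg.oddCore G)) :=
      Nat.coprime_two_right.1 (Cores.coprime_card_pPrimeCore 2)
    rw [e, Subgroup.card_top] at h1
    exact absurd (h1.of_dvd_nat (hτ ▸ orderOf_dvd_natCard τ)) (by decide)
  refine hα (MulEquiv.ext fun g => ?_)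
  have h1 := CoprimeCentral.main h g
  rw [hO, Subgroup.mem_bot, inv_mul_eq_one] at h1
  exact h1.symm

end Cfsg.Agent.S3067
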