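import Cfsg.Statements.S3068
import Cfsg.Agent.Lib.ThompsonTransfer.Engel
import Cfsg.Agent.Lib.FunctorControl.Transfer
import Cfsg.Agent.Lib.Transfer.Tate
import Cfsg.Agent.EqLemmas

set_option autoImplicit false
open Cfsg

namespace Cfsg.Agent.S3068

universe v

/-- `S ∩ G' ≤ N(J(S))'`. -/
theorem commutator_inf_le {G : Type v} [Group G] [Finite G] {p : ℕ} [Fact p.Prime] (hp : 7 ≤ p) (S : Sylow p G) :
    commutator G ⊓ (S : Subgroup G) ≤
      ⁅Subgroup.normalizer (thompsonSubgroupAOf (S : Subgroup G) : Set G),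
        Subgroup.normalizer (thompsonSubgroupAOf (S : Subgroup G) : Set G)⁆ := by
  have hW := ThompsonTransfer.isCharPFunctor_thompsonA.{v} p
  have hctl := FunctorControl.controlsTransfer_of_engel hW (fun X _ _ _ _ T hn => by
    obtain ⟨g, hgT, hgQ, hg⟩ := ThompsonTransfer.exists_engel_element (by omega : p ≠ 2) T hn
    exact ⟨g, hgT, hgQ, fun U V hUV hU => by
      haveI := hUV.2.2.1
      exact KInfinity.iterCommutator_le_of_le (by omega) (hg U V hUV hU)⟩) G (FunctorControl.IsSec.refl G)
  rw [inf_comm, FunctorControl.commutator_inf_eq hW hctl S]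
  exact inf_le_right

/-- Let p ≥ 7 be a prime, S a Sylow p-subgroup of the finite group G, J(S) the subgroup generated by the abelian subgroups of S of largest order and M = N_G(J(S)). Then G/O^p(G) ≅ M/O^p(M): the largest p-factor group of G is that of M (here O^p(X) is the subgroup generated by the elements of X of order prime to p). -/
theorem result {G : Type*} [Group G] [Finite G] {p : ℕ} [Fact p.Prime]
    (hp : 7 ≤ p) (S : Sylow p G)
    [hn : (Cfsg.pResidual p G).Normal]
    [hm : (Cfsg.pResidual p ↥(Subgroup.normalizer (Cfsg.thompsonSubgroupAOf (S : Subgroup G) : Set G))).Normal] :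
    Nonempty (G ⧸ Cfsg.pResidual p G ≃*
      ↥(Subgroup.normalizer (Cfsg.thompsonSubgroupAOf (S : Subgroup G) : Set G)) ⧸
        Cfsg.pResidual p ↥(Subgroup.normalizer (Cfsg.thompsonSubgroupAOf (S : Subgroup G) : Set G))) := by
  set M := Subgroup.normalizer (thompsonSubgroupAOf (S : Subgroup G) : Set G) with hM
  have hSM : (S : Subgroup G) ≤ M :=
    Subgroup.le_normalizer.trans (PLocal.normalizer_le_normalizer_thompsonSubgroupAOf _)
  have hker := Transfer.tate S M hSM (commutator_inf_le hp S)
  have hidx : ¬ p ∣ M.index := fun hd => S.not_dvd_index (hd.trans (Subgroup.index_dvd_of_le hSM))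
  let f : ↥M →* G ⧸ pResidual p G := (QuotientGroup.mk' (pResidual p G)).comp M.subtype
  have hk : pResidual p ↥M = f.ker := by
    ext x
    rw [← Subgroup.mem_map_iff_mem M.subtype_injective, ← hker]
    exact ⟨fun h => (QuotientGroup.eq_one_iff _).2 h.2, fun h => ⟨x.2, (QuotientGroup.eq_one_iff _).1 h⟩⟩
  have hsurj : Function.Surjective f := by
    intro y
    obtain ⟨g, rfl⟩ := QuotientGroup.mk'_surjective (pResidual p G) y
    obtain ⟨m, hm, r, hr, rfl⟩ :=
      Subgroup.mem_sup_of_normal_right.1 ((Transfer.sup_pResidual_eq_top hidx).symm ▸ Subgroup.mem_top g)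
    refine ⟨⟨m, hm⟩, ?_⟩
    show QuotientGroup.mk' (pResidual p G) m = _
    rw [map_mul, show QuotientGroup.mk' (pResidual p G) r = 1 from (QuotientGroup.eq_one_iff _).2 hr, mul_one]
  exact ⟨((QuotientGroup.quotientMulEquivOfEq hk).trans
    (QuotientGroup.quotientKerEquivOfSurjective f hsurj)).symm⟩

end Cfsg.Agent.S3068
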