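import Cfsg.Statements.S3069
import Cfsg.Agent.S2015
import Cfsg.Agent.Lib.Transfer.Residual
import Cfsg.Agent.Lib.Coprime.Basic
import Cfsg.Agent.EqLemmas

set_option autoImplicit false
open Cfsg

namespace Cfsg.Agent.S3069

universe u

/-- Induction on the order of the group, through a characteristic subgroup of the Sylow subgroup
whose normaliser controls transfer. -/
theorem aux {p : ℕ} [Fact p.Prime] (hp : 5 ≤ p) : ∀ (n : ℕ) (G : Type u) [Group G] [Finite G]
    (S : Sylow p G), Nat.card G = n → (S : Subgroup G) ≠ ⊥ →
    (∀ g ∈ Subgroup.normalizer ((S : Subgroup G) : Set G), (orderOf g).Coprime p →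
      g ∈ Subgroup.centralizer ((S : Subgroup G) : Set G)) → Cfsg.pResidual p G ≠ ⊤ := by
  intro n
  induction n using Nat.strong_induction_on with
  | _ n ih =>
    intro G _ _ S hn hS hN
    obtain ⟨K₀, hK₀, hZK, hctl⟩ :=
      Cfsg.Agent.S2015.result p hp ↥(S : Subgroup G) S.2
    have hK₀c : K₀.Characteristic := hK₀
    set K := K₀.map (S : Subgroup G).subtype with hK
    have h1 := hctl G (S : Subgroup G).subtype (Subgroup.subtype_injective _)
      ⟨S, (Subgroup.range_subtype _).symm⟩
    rw [Subgroup.range_subtype] at h1
    have hKS : K ≤ (S : Subgroup G) := Subgroup.map_subtype_le _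
    have hKne : K ≠ ⊥ := by
      rw [hK, Ne, Subgroup.map_eq_bot_iff_of_injective _ (Subgroup.subtype_injective _)]
      have : Nontrivial ↥(S : Subgroup G) := (Subgroup.nontrivial_iff_ne_bot _).2 hS
      exact ne_bot_of_le_ne_bot
        ((Subgroup.nontrivial_iff_ne_bot _).1 S.2.center_nontrivial) hZK
    have hSN : (S : Subgroup G) ≤ Subgroup.normalizer (K : Set G) :=
      Subgroup.le_normalizer.trans (Cores.normalizer_le_normalizer_map K₀)
    by_cases htop : Subgroup.normalizer (K : Set G) = ⊤
    swap
    · -- induction in the normaliser of `K`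
      intro hres
      set M := Subgroup.normalizer (K : Set G) with hM
      have hlt : Nat.card M < n := by
        rw [← hn]
        refine lt_of_le_of_ne (Subgroup.card_le_card_group M) fun e => htop ?_
        exact Subgroup.eq_top_of_card_eq M e
      refine ih _ hlt M (S.subtype hSN) rfl ?_ ?_ ?_
      · rw [Sylow.coe_subtype, Ne, Subgroup.subgroupOf_eq_bot]
        exact fun hd => hS (disjoint_self.1 (hd.mono_right hSN))
      · intro g hg hgo
        rw [Sylow.coe_subtype] at hg ⊢
        have h2 : (g : G) ∈ Subgroup.normalizer ((S : Subgroup G) : Set G) :=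
          Coprime.mem_normalizer_of_forall fun y hy =>
            (Subgroup.mem_normalizer_iff.1 hg ⟨y, hSN hy⟩).1 hy
        have h3 := hN g h2 (by rwa [Subgroup.orderOf_coe])
        exact Subgroup.mem_centralizer_iff.2 fun y hy =>
          Subtype.ext (Subgroup.mem_centralizer_iff.1 h3 (y : G) hy)
      · refine (Transfer.pResidual_eq_top_iff (S.subtype hSN)).2 ?_
        rw [Sylow.coe_subtype]
        intro x hx
        have h4 := (le_inf le_rfl ((Transfer.pResidual_eq_top_iff S).1 hres)) hx
        rw [h1] at h4
        obtain ⟨y, hy, e⟩ := h4.2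
        rwa [← Subtype.ext (show (y : G) = (x : G) from e)]
    · -- `K` is normal
      have hKn : K.Normal := Subgroup.normalizer_eq_top_iff.1 htop
      by_cases hKS' : (S : Subgroup G) = K
      · have hSn : (S : Subgroup G).Normal := hKS' ▸ hKn
        obtain ⟨H, hH⟩ := Subgroup.exists_right_complement'_of_coprime
          (N := (S : Subgroup G)) (S.card_coprime_index)
        have hHco : (Nat.card H).Coprime p := by
          rw [← hH.symm.index_eq_card]
          exact ((Fact.out : p.Prime).coprime_iff_not_dvd.2 S.not_dvd_index).symm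
        have hHC : H ≤ Subgroup.centralizer ((S : Subgroup G) : Set G) := fun x hx =>
          hN x (by rw [Subgroup.normalizer_eq_top_iff.2 hSn]; trivial)
            (hHco.coprime_dvd_left (by
              rw [← Nat.card_zpowers]; exact Subgroup.card_dvd_of_le (Subgroup.zpowers_le.2 hx)))
        have hHn : H.Normal := Subgroup.normalizer_eq_top_iff.1 (eq_top_iff.2 (hH.sup_eq_top.ge.trans
          (sup_le ((Subgroup.le_centralizer_iff.1 hHC).trans (Subgroup.centralizer_le_normalizer _))
            Subgroup.le_normalizer)))
        intro hres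
        obtain ⟨m, hm⟩ := S.2.exists_card_eq
        have hidx : H.index = Nat.card (S : Subgroup G) := hH.index_eq_card
        have h5 := Transfer.pResidual_le_of_index (p := p) (N := H) (hidx.trans hm)
        rw [hres, top_le_iff] at h5
        rw [h5, Subgroup.index_top] at hidx
        exact hS (Subgroup.eq_bot_of_card_eq _ hidx.symm)
      · intro hres
        set π := QuotientGroup.mk' K with hπ
        have hsurj : Function.Surjective π := QuotientGroup.mk'_surjective K
        have hker : π.ker = K := QuotientGroup.ker_mk' K
        have hlt : Nat.card (G ⧸ K) < n := by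
          rw [← hn, Subgroup.card_eq_card_quotient_mul_card_subgroup K]
          refine lt_mul_of_one_lt_right Nat.card_pos ?_
          exact (Subgroup.one_lt_card_iff_ne_bot K).2 hKne
        refine ih _ hlt (G ⧸ K) (S.mapSurjective hsurj) rfl ?_ ?_ ?_
        · rw [Sylow.coe_mapSurjective, Ne, Subgroup.map_eq_bot_iff, hker]
          exact fun hle => hKS' (le_antisymm hle hKS)
        · intro x hx hxo
          rw [Sylow.coe_mapSurjective] at hx ⊢
          obtain ⟨g, rfl⟩ := hsurj x
          obtain ⟨a, b, hab, -, hb, ⟨k, hk⟩, hbo⟩ := Transfer.exists_pPart_mul (p := p) g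
          have hcomap : ((S : Subgroup G).map π).comap π = (S : Subgroup G) :=
            Subgroup.comap_map_eq_self (hker.trans_le hKS)
          have hgN : g ∈ Subgroup.normalizer ((S : Subgroup G) : Set G) :=
            Coprime.mem_normalizer_of_forall fun y hy => by
              rw [← hcomap, Subgroup.mem_comap, map_mul, map_mul, map_inv]
              exact (Subgroup.mem_normalizer_iff.1 hx _).1 (Subgroup.mem_map_of_mem π hy)
          have hbC := hN b (Subgroup.zpowers_le.2 hgN hb) hbo
          have ha : π a = 1 := by
            obtain ⟨i, hi⟩ := Subgroup.mem_zpowers_iff.1 hb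
            rw [← orderOf_eq_one_iff]
            refine Nat.eq_one_of_dvd_coprimes (hxo.pow_right k) ?_
              (hk ▸ orderOf_map_dvd π a)
            have : π a = π g * (π b)⁻¹ := by rw [hab, map_mul, mul_inv_cancel_right]
            rw [orderOf_dvd_iff_pow_eq_one, this, ← hi, map_zpow, ← zpow_neg]
            rw [(Commute.self_zpow (π g) (-i)).mul_pow, pow_orderOf_eq_one, one_mul,
              ← zpow_natCast, ← zpow_mul, mul_comm, zpow_mul, zpow_natCast, pow_orderOf_eq_one,
              one_zpow]
          rw [hab, map_mul, ha, one_mul]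
          rintro _ ⟨y, hy, rfl⟩
          rw [← map_mul, ← map_mul, Subgroup.mem_centralizer_iff.1 hbC y hy]
        · rw [eq_top_iff, ← Subgroup.map_top_of_surjective _ hsurj, ← hres]
          exact Transfer.map_pResidual_le π


/-- Let p ≥ 7 be a prime and S a nontrivial Sylow p-subgroup of the finite group G. If N_G(S)/C_G(S) is a p-group (every element of N_G(S) of order prime to p centralizes S), then O^p(G) < G, i.e. G has a nontrivial p-factor group. -/
theorem result {G : Type*} [Group G] [Finite G] {p : ℕ} [Fact p.Prime]
    (hp : 7 ≤ p) (S : Sylow p G) (hS : (S : Subgroup G) ≠ ⊥)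
    (hN : ∀ g ∈ Subgroup.normalizer ((S : Subgroup G) : Set G), (orderOf g).Coprime p →
      g ∈ Subgroup.centralizer ((S : Subgroup G) : Set G)) :
    Cfsg.pResidual p G ≠ ⊤ := by
  exact aux (le_trans (by norm_num) hp) _ G S rfl hS hN

end Cfsg.Agent.S3069
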