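import Cfsg.Statements.S3070
import Cfsg.Agent.Lib.JBound.Main
import Cfsg.Agent.Lib.PLocal.Complements
-- import your own Cfsg.Agent.* helpers here

set_option autoImplicit false
open Cfsg

namespace Cfsg.Agent.S3070

open Subgroup Cfsg.Agent.PLocal

universe u

/-- Elements of order prime to `p` normalising `J(S)` centralise it. -/
def Hy (p : ℕ) (G : Type u) [Group G] (S : Subgroup G) : Prop :=
  ∀ g ∈ normalizer (Cfsg.thompsonSubgroupAOf S : Set G), (orderOf g).Coprime p →
    g ∈ centralizer (Cfsg.thompsonSubgroupAOf S : Set G)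

variable {p : ℕ} [Fact p.Prime]

theorem scheme (h5 : 5 ≤ p) : Scheme.{u} p fun G _ S => Hy p G S where
  of_char := by
    intro G _ _ R hR h g hg hgp
    obtain ⟨hc, hmap⟩ := char_of_functorial (fun {X} [Group X] K => Cfsg.thompsonSubgroupAOf K)
      (fun f K hf => map_thompsonSubgroupAOf f hf) (R : Subgroup G)
    have hne : Cfsg.thompsonSubgroupAOf (R : Subgroup G) ≠ ⊥ := fun e => by
      obtain ⟨z, hz, hz1, -⟩ := exists_central_of_order_p R.isPGroup' hR
      have h1 := (central_le_centerThompsonAOf hz).1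
      exact hz1 (mem_bot.1 (e.le h1))
    rw [← hmap] at hne hg ⊢
    have hN := h _ hc fun e => hne (by rw [e, Subgroup.map_bot])
    set J := (Cfsg.thompsonSubgroupAOf (⊤ : Subgroup ↥(R : Subgroup G))).map (R : Subgroup G).subtype
    have h1 := Transfer.mem_centralizer_of_coprime hN
      (Q := J.subgroupOf (normalizer (J : Set G)))
      (((R.isPGroup'.to_subgroup _).map _).of_equiv (subgroupOfEquivOfLe le_normalizer).symm)
      (g := ⟨g, hg⟩) (le_normalizer_of_normal (K := (⊤ : Subgroup _)) (mem_top _))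
      (by rw [← Subgroup.orderOf_coe]; exact hgp)
    refine mem_centralizer_iff.2 fun x hx => ?_
    exact congrArg Subtype.val (mem_centralizer_iff.1 h1 ⟨x, le_normalizer hx⟩ hx)
  restrict := by
    intro G _ _ S M hSM h g hg hgp
    have hmap : (Cfsg.thompsonSubgroupAOf ((S : Subgroup G).subgroupOf M)).map M.subtype =
        Cfsg.thompsonSubgroupAOf (S : Subgroup G) := by
      rw [map_thompsonSubgroupAOf _ M.subtype_injective.injOn, map_subgroupOf_eq_of_le hSM]
    have h1 := h g (hmap ▸ le_normalizer_map M.subtype ⟨g, hg, rfl⟩) (by rwa [orderOf_submonoid])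
    rw [← hmap] at h1
    exact mem_centralizer_iff.2 fun x hx =>
      Subtype.ext (mem_centralizer_iff.1 h1 x (mem_map_of_mem M.subtype hx))
  map := by
    intro G G' _ _ _ f hf hker S h g hg hgp
    haveI : Finite G' := Finite.of_surjective f hf
    have hp : p.Prime := Fact.out
    rw [← map_thompsonSubgroupAOf f (injOn_of_pGroup f hker S.2)] at hg ⊢
    rw [normalizer_map_eq f hf hker (S.2.to_le (thompsonSubgroupAOf_le _))] at hg
    obtain ⟨n, hn, rfl⟩ := hg
    obtain ⟨a, m, hm, ho⟩ := Nat.exists_eq_pow_mul_and_not_dvd (orderOf_pos n).ne' p hp.ne_one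
    obtain ⟨t, ht⟩ := exists_pow_eq_self_of_coprime (x := f n) (n := p ^ a) (hgp.pow_right a).symm
    have hn' : ((n ^ p ^ a) ^ t) ∈ centralizer (Cfsg.thompsonSubgroupAOf (S : Subgroup G) : Set G) := by
      refine pow_mem (h _ (pow_mem hn _) (Nat.Coprime.coprime_dvd_left
        (orderOf_dvd_of_pow_eq_one ?_) ((hp.coprime_iff_not_dvd).2 hm).symm)) _
      rw [← pow_mul, ← ho, pow_orderOf_eq_one]
    have e : f ((n ^ p ^ a) ^ t) = f n := by rw [map_pow, map_pow, ht]
    rw [← e]
    refine mem_centralizer_iff.2 ?_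
    rintro _ ⟨x, hx, rfl⟩
    rw [← map_mul, ← map_mul, mem_centralizer_iff.1 hn' x hx]
  final := by
    intro G _ _ S hr h
    set H := Cfsg.pCore p G
    haveI : H.Normal := Cores.pCore_normal p G
    have hHp : IsPGroup p H := Cores.isPGroup_pCore p G
    have hHS : H ≤ (S : Subgroup G) := Cores.pCore_le_sylow S
    have hle : ∀ A ∈ maxIn abelian (S : Subgroup G), A ≤ H := fun A hA =>
      JBound.abelian_le_pCore h5 S hr hA
    obtain ⟨A, hA⟩ := exists_maxIn (Q := abelian) abelian_bot (S : Subgroup G)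
    have hJn : Cfsg.thompsonSubgroupAOf (S : Subgroup G) = Cfsg.thompsonSubgroupAOf H := by
      rw [thompsonSubgroupAOf_eq, thompsonSubgroupAOf_eq]
      exact le_antisymm (sSup_le fun B hB => le_sSup (maxIn_of_mem_le hB (hle B hB) hHS))
        (sSup_le_sSup (maxIn_subset hA (hle A hA) hHS))
    have hN : normalizer (Cfsg.thompsonSubgroupAOf (S : Subgroup G) : Set G) = ⊤ := by
      rw [hJn]
      exact top_le_iff.1 ((normalizer_eq_top_iff.2 (inferInstance : H.Normal)).ge.trans
        (normalizer_le_normalizer_thompsonSubgroupAOf H))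
    have hAJ : A ≤ Cfsg.thompsonSubgroupAOf (S : Subgroup G) := by
      rw [thompsonSubgroupAOf_eq]; exact le_sSup hA
    refine hr.not_complement (Transfer.hasNormalPComplement_of_isPGroup fun g => ?_)
    obtain ⟨x, y, hxy, -, -, ⟨k, hk⟩, hy⟩ := Transfer.exists_pPart_mul (p := p) g
    have hyC : y ∈ centralizer (A : Set G) :=
      centralizer_le (SetLike.coe_subset_coe.2 hAJ) (h y (hN.symm ▸ mem_top y) hy)
    have hcop : (Nat.card ↥(zpowers y)).Coprime (Nat.card H) := by
      obtain ⟨i, hi⟩ := IsPGroup.iff_card.1 hHp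
      rw [Nat.card_zpowers, hi]
      exact hy.pow_right i
    have hAC : A ≤ H ⊓ centralizer ((zpowers y : Subgroup G) : Set G) :=
      le_inf (hle A hA) (le_centralizer_comm (zpowers_le.2 hyC))
    have hcent := Coprime.le_centralizer_of_centralizer_le (H := H) (A := zpowers y) hHp.isNilpotent
      ((normalizer_eq_top_iff.2 (inferInstance : H.Normal)).ge.trans' le_top) hcop
      (fun w hw => hAC (mem_of_centralizes_abelian hA (hHS hw.1) (centralizer_le (SetLike.coe_subset_coe.2 hAC) hw.2)))
    have hy1 : y = 1 := by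
      obtain ⟨i, hi⟩ := hHp ⟨y, hr.centralizer_le (hcent (mem_zpowers y))⟩
      have h3 := (pow_gcd_eq_one (a := y)).2 ⟨pow_orderOf_eq_one y, congrArg Subtype.val hi⟩
      rwa [Nat.coprime_iff_gcd_eq_one.1 (hy.pow_right i), pow_one] at h3
    exact ⟨k, by rw [hxy, hy1, mul_one, ← hk, pow_orderOf_eq_one]⟩

/-- Let p ≥ 5 be a prime, S a Sylow p-subgroup of the finite group G and J(S) the subgroup generated by the abelian subgroups of S of largest order. Then G has a normal p-complement if and only if N_G(J(S))/C_G(J(S)) is a p-group (every element of N_G(J(S)) of order prime to p centralizes J(S)). -/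
theorem result {G : Type*} [Group G] [Finite G] {p : ℕ} [Fact p.Prime]
    (hp : 5 ≤ p) (S : Sylow p G) :
    Cfsg.HasNormalPComplement p G ↔
      ∀ g ∈ Subgroup.normalizer (Cfsg.thompsonSubgroupAOf (S : Subgroup G) : Set G), (orderOf g).Coprime p →
        g ∈ Subgroup.centralizer (Cfsg.thompsonSubgroupAOf (S : Subgroup G) : Set G) := by
  refine ⟨fun h g hg hgp => ?_, fun h => (scheme hp).hasNormalPComplement S h⟩
  exact Transfer.mem_centralizer_of_coprime h (S.isPGroup'.to_le (thompsonSubgroupAOf_le _)) hg hgp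

end Cfsg.Agent.S3070
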