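import Cfsg.Statements.S3071
import Cfsg.Agent.Lib.AlperinFamily.Above
import Cfsg.Agent.Lib.PStab.ClosedControl
import Cfsg.Agent.Lib.QdCrit.Stable
import Cfsg.Agent.Lib.QdOver.Basic
-- import your own Cfsg.Agent.* helpers here

set_option autoImplicit false
open Cfsg

namespace Cfsg.Agent.S3071

open Cfsg.Agent

theorem involves_sl2_of_qd {X : Type*} [Group X] {p : ℕ} [Fact p.Prime]
    (h : Cfsg.Involves ↥(Cfsg.qd p) X) :
    Cfsg.Involves (Matrix.SpecialLinearGroup (Fin 2) (ZMod p)) X := by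
  obtain ⟨K, f, hf⟩ := Involves.exists_hom_of_involves h
  let b : ↥(Cfsg.qd p) →* Matrix.SpecialLinearGroup (Fin 2) (ZMod p) := QdOver.block
  exact Involves.involves_of_hom (b.comp f) fun g => by
    obtain ⟨k, hk⟩ := hf (QdOver.emb g)
    exact ⟨k, by show b (f k) = g; rw [hk]; exact QdOver.block_emb g⟩

/-- Conjugates of a subgroup into a Sylow subgroup with largest centraliser there. -/
theorem exists_fully_centralised {G : Type*} [Group G] [Finite G] {p : ℕ} [Fact p.Prime] (S : Sylow p G)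
    {x : G} (hx : x ∈ S) :
    ∃ x' ∈ S, (∃ h : G, h * x * h⁻¹ = x') ∧ ∀ y ∈ S, (∃ g : G, g * y * g⁻¹ = x') →
      ∃ m : G, m * y * m⁻¹ = x' ∧ ∀ a ∈ (S : Subgroup G) ⊓ Subgroup.centralizer ({y} : Set G),
        m * a * m⁻¹ ∈ (S : Subgroup G) := by
  set C := Subgroup.centralizer ({x} : Set G)
  obtain ⟨R, hR⟩ := ((S.isPGroup'.to_inf_left (K := C)).comap_subtype (K := C)).exists_le_sylow
  obtain ⟨T, hT⟩ := (R.isPGroup'.map C.subtype).exists_le_sylow
  obtain ⟨h, hh⟩ := MulAction.exists_smul_eq G T S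
  have hRS : ∀ r : C, r ∈ (R : Subgroup C) → h * r * h⁻¹ ∈ (S : Subgroup G) := fun r hr => by
    rw [← hh, Sylow.coe_subgroup_smul]
    exact ⟨r, hT ⟨r, hr, rfl⟩, rfl⟩
  have hxR : (⟨x, Subgroup.mem_centralizer_singleton_iff.2 rfl⟩ : C) ∈ (R : Subgroup C) :=
    hR ⟨hx, Subgroup.mem_centralizer_singleton_iff.2 rfl⟩
  refine ⟨h * x * h⁻¹, hRS _ hxR, ⟨h, rfl⟩, fun y _ hy => ?_⟩
  obtain ⟨g, hg⟩ := hy
  set k := h⁻¹ * g
  have hk : k * y * k⁻¹ = x := by
    have := congrArg (fun t => h⁻¹ * t * h) hg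
    simp only [k]
    convert this using 1 <;> group
  set Q := ((S : Subgroup G) ⊓ Subgroup.centralizer ({y} : Set G)).map (MulAut.conj k).toMonoidHom
  have hQC : Q ≤ C := by
    rintro _ ⟨a, ha, rfl⟩
    refine Subgroup.mem_centralizer_singleton_iff.2 ?_
    show k * a * k⁻¹ * x = x * (k * a * k⁻¹)
    rw [← hk]
    have e := Subgroup.mem_centralizer_singleton_iff.1 ha.2
    calc k * a * k⁻¹ * (k * y * k⁻¹) = k * (a * y) * k⁻¹ := by group
      _ = _ := by rw [e]; group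
  have hQp : IsPGroup p Q := S.isPGroup'.to_inf_left.map _
  obtain ⟨R', hR'⟩ := (hQp.comap_subtype (K := C)).exists_le_sylow
  obtain ⟨c, hc⟩ := MulAction.exists_smul_eq C R' R
  refine ⟨h * c * k, ?_, fun a ha => ?_⟩
  · have ec := Subgroup.mem_centralizer_singleton_iff.1 c.2
    calc h * c * k * y * (h * c * k)⁻¹ = h * ((c : G) * (k * y * k⁻¹) * (c : G)⁻¹) * h⁻¹ := by group
      _ = h * x * h⁻¹ := by rw [hk, ec]; group
  · have hq : k * a * k⁻¹ ∈ Q := ⟨a, ha, rfl⟩
    have h1 : c * ⟨k * a * k⁻¹, hQC hq⟩ * c⁻¹ ∈ (R : Subgroup C) := by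
      rw [← hc, Sylow.coe_subgroup_smul]
      exact ⟨_, hR' hq, rfl⟩
    have h2 := hRS _ h1
    simp only [Subgroup.coe_mul, InvMemClass.coe_inv] at h2
    convert h2 using 1
    group

/-- Let p be an odd prime and S a Sylow p-subgroup of the finite group G such that, for every subgroup P with Z(S) ≤ P ≤ S, the normalizer N_G(P) has no section isomorphic to SL₂(p). Let J(S) be the subgroup generated by the abelian subgroups of S of largest order. Then two elements of S are conjugate in G if and only if they are conjugate in N_G(Z(J(S))). -/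
theorem result {G : Type*} [Group G] [Finite G] {p : ℕ} [Fact p.Prime]
    (hp : p ≠ 2) (S : Sylow p G)
    (hfree : ∀ P : Subgroup G, (S : Subgroup G) ⊓ Subgroup.centralizer ((S : Subgroup G) : Set G) ≤ P → P ≤ S →
      ¬ ∃ (H K : Subgroup G) (hK : (K.subgroupOf H).Normal), H ≤ Subgroup.normalizer (P : Set G) ∧
        Nonempty ((H ⧸ K.subgroupOf H) ≃* Matrix.SpecialLinearGroup (Fin 2) (ZMod p))) :
    ∀ x ∈ S, ∀ y ∈ S, (∃ g : G, g * x * g⁻¹ = y) ↔
      ∃ n ∈ Subgroup.normalizer (Cfsg.centerThompsonAOf (S : Subgroup G) : Set G), n * x * n⁻¹ = y := by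
  intro x hx y hy
  refine ⟨fun hgxy => ?_, fun ⟨n, _, hn⟩ => ⟨n, hn⟩⟩
  set Z := (S : Subgroup G) ⊓ Subgroup.centralizer ((S : Subgroup G) : Set G)
  set W : Subgroup G → Subgroup G := fun R => Cfsg.centerThompsonAOf R
  have hF := PStab.goodFunctor_centerThompsonAOf (p := p) hp
  have hW : Cfsg.IsConjugacyFunctor p W := fun Q hQ =>
    ⟨hF.le Q, fun hne => hF.ne_bot Q hQ hne, fun g => (hF.map _ Q (MulAut.conj g).injective.injOn).symm⟩
  let 𝒰 : Subgroup G → Prop := fun T => ¬ Cfsg.Involves ↥(Cfsg.qd p) ↥(Subgroup.normalizer (T : Set G))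
  let P : Subgroup G → Prop := fun T => AlperinFamily.FN p (S : Subgroup G) T ∧ 𝒰 T
  have hZU : ∀ T : Subgroup G, Z ≤ T → T ≤ (S : Subgroup G) → 𝒰 T := fun T hZT hTS h => by
    obtain ⟨K₀, f, hf⟩ := Involves.exists_hom_of_involves (involves_sl2_of_qd h)
    let e := K₀.equivMapOfInjective (Subgroup.normalizer (T : Set G)).subtype
      (Subgroup.normalizer (T : Set G)).subtype_injective
    set H := K₀.map (Subgroup.normalizer (T : Set G)).subtype
    let φ := f.comp e.symm.toMonoidHom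
    have hR : (φ.ker.map H.subtype).subgroupOf H = φ.ker :=
      Subgroup.comap_map_eq_self_of_injective H.subtype_injective _
    have hn : ((φ.ker.map H.subtype).subgroupOf H).Normal := by rw [hR]; infer_instance
    exact hfree T hZT hTS ⟨H, φ.ker.map H.subtype, hn, Subgroup.map_subtype_le K₀,
      ⟨(QuotientGroup.quotientMulEquivOfEq hR).trans
        (QuotientGroup.quotientKerEquivOfSurjective φ (hf.comp e.symm.surjective))⟩⟩
  have hZN : ∀ U : Subgroup G, U ≤ (S : Subgroup G) → Z ≤ (S : Subgroup G) ⊓ Subgroup.normalizer (U : Set G) :=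
    fun U hU z hz => ⟨hz.1, Subgroup.centralizer_le_normalizer _
      (Subgroup.centralizer_le (SetLike.coe_subset_coe.2 hU) hz.2)⟩
  have hZW : ∀ W' ∈ ({W} : Set (Subgroup G → Subgroup G)), ∀ R : Subgroup G, Z ≤ R → R ≤ (S : Subgroup G) →
      Z ≤ W' R := by
    rintro _ rfl R hZR hRS z hz
    exact PLocal.central_le_centerThompsonAOf
      ⟨hZR hz, Subgroup.centralizer_le (SetLike.coe_subset_coe.2 hRS) hz.2⟩
  have hrep : ∀ U : Subgroup G, U ≤ (S : Subgroup G) → 𝒰 U → ∃ h : G,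
      AlperinFamily.cj h ((S : Subgroup G) ⊓ Subgroup.normalizer (U : Set G)) ≤ (S : Subgroup G) ∧
        P (AlperinFamily.cj h U) := fun U hU hUU => by
    obtain ⟨h, hh, hfn⟩ := AlperinFamily.fn_reps S U hU
    refine ⟨h, hh, hfn, fun hq => hUU ?_⟩
    let e := ((Subgroup.normalizer (U : Set G)).equivMapOfInjective (MulAut.conj h).toMonoidHom
      (MulAut.conj h).injective).trans (MulEquiv.subgroupCongr (AlperinFamily.cj_normalizer h U))
    exact Involves.involves_of_surjective e.toMonoidHom e.surjective hq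
  have hloc : ∀ T : Subgroup G, T ≤ (S : Subgroup G) → T ≠ ⊥ → P T →
      Cfsg.FamilyControlsStrongFusionIn p {W} (Subgroup.normalizer (T : Set G)) := fun T hT _ hP => by
    refine AlperinFamily.controlsStrongFusionIn_iff_family.1
      ⟨_, inf_le_right, S.isPGroup'.to_inf_left, hP.1, fun B g hg hB hgB => ?_⟩
    exact PStab.ctlD_subgroup hF (PStab.ctlD_centerThompsonAOf hp _
        (QdCrit.isNormalizerPStable_of_not_involves hp hP.2))
      (AlperinFamily.isSylowIn_of_fn S.isPGroup' hP.1) ⟨le_rfl, fun _ _ _ h => h⟩ hg hB hgB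
  obtain ⟨x', hx', ⟨h, hhx⟩, hfull⟩ := exists_fully_centralised S hx
  have hto : ∀ u ∈ S, (∃ g : G, g * u * g⁻¹ = x') →
      ∃ n ∈ Subgroup.normalizer ((W (S : Subgroup G) : Subgroup G) : Set G), n * u * n⁻¹ = x' := by
    intro u hu hug
    obtain ⟨m, hm, hma⟩ := hfull u hu hug
    set A := (S : Subgroup G) ⊓ Subgroup.centralizer ({u} : Set G)
    have huA : u ∈ A := ⟨hu, Subgroup.mem_centralizer_singleton_iff.2 rfl⟩
    have hZA : Z ≤ Subgroup.closure (A : Set G) := by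
      rw [Subgroup.closure_eq]
      exact fun z hz => ⟨hz.1, Subgroup.mem_centralizer_singleton_iff.2
        (Subgroup.mem_centralizer_iff.1 hz.2 u hu).symm⟩
    obtain ⟨c, hc, hce⟩ := AlperinFamily.reach_of_above S (𝓦 := {W}) (by rintro _ rfl; exact hW)
      P (fun _ h => h.1) 𝒰 hZU hZN hZW (fun _ h => h.2) hrep hloc (A : Set G) m hZA (fun a ha => ha.1)
      (by rintro _ ⟨a, ha, rfl⟩; exact hma a ha)
    refine ⟨c, ?_, (hce u huA).trans hm⟩
    clear hce
    induction hc with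
    | refl => exact one_mem _
    | step z _ hz _ ih =>
      obtain ⟨_, rfl, hz⟩ := hz
      exact mul_mem hz ih
  obtain ⟨g, hg⟩ := hgxy
  obtain ⟨n₁, hn₁, e₁⟩ := hto x hx ⟨h, hhx⟩
  obtain ⟨n₂, hn₂, e₂⟩ := hto y hy ⟨h * g⁻¹, by rw [← hhx, ← hg]; group⟩
  refine ⟨n₂⁻¹ * n₁, mul_mem (inv_mem hn₂) hn₁, ?_⟩
  calc n₂⁻¹ * n₁ * x * (n₂⁻¹ * n₁)⁻¹ = n₂⁻¹ * (n₁ * x * n₁⁻¹) * n₂ := by group
    _ = n₂⁻¹ * (n₂ * y * n₂⁻¹) * n₂ := by rw [e₁, e₂]
    _ = y := by group

end Cfsg.Agent.S3071
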