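import Cfsg.Statements.S3073
import Cfsg.Agent.Lib.PLocal.Complements
import Cfsg.Agent.Lib.PLocal.Functor
import Cfsg.Agent.Lib.PReduced.Local
import Cfsg.Agent.Lib.PReduced.Tools
import Cfsg.Agent.Lib.PGroup.Critical
import Cfsg.Agent.Lib.Transfer.Tate

set_option autoImplicit false
universe u
open Cfsg

namespace Cfsg.Agent.S3073

open Subgroup

variable {p : ℕ} [Fact p.Prime]

/-- `K` decides the existence of normal `p`-complements. -/
def Crit (p : ℕ) (S : Type u) [Group S] (K : Subgroup S) : Prop :=
  ∀ (G : Type u) [Group G] [Finite G] (P : Sylow p G) (j : S →* G),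
    Function.Injective j → j.range = (P : Subgroup G) →
    (∀ g ∈ normalizer (K.map j : Set G), (orderOf g).Coprime p → g ∈ centralizer (K.map j : Set G)) →
    Cfsg.HasNormalPComplement p G

theorem normalizer_range_le {S G : Type*} [Group S] [Group G] (j : S →* G) (hj : Function.Injective j)
    (K : Subgroup S) [K.Characteristic] :
    normalizer (j.range : Set G) ≤ normalizer (K.map j : Set G) := by
  have hmap : (K.map j).subgroupOf j.range = K.map (MonoidHom.ofInjective hj).toMonoidHom := by
    ext ⟨x, hx⟩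
    simp only [mem_subgroupOf, mem_map]
    exact ⟨fun ⟨k, hk, e⟩ => ⟨k, hk, Subtype.ext e⟩, fun ⟨k, hk, e⟩ => ⟨k, hk, congrArg Subtype.val e⟩⟩
  intro g hg
  let e : ↥j.range ≃* ↥j.range :=
    { toFun := fun x => ⟨g * x * g⁻¹, (mem_normalizer_iff.1 hg x).1 x.2⟩
      invFun := fun x => ⟨g⁻¹ * x * g, by
        simpa using (mem_normalizer_iff.1 (inv_mem hg) x).1 x.2⟩
      left_inv := fun x => Subtype.ext (by simp [mul_assoc])
      right_inv := fun x => Subtype.ext (by simp [mul_assoc])
      map_mul' := fun x y => Subtype.ext (by simp [mul_assoc]) }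
  haveI : ((K.map j).subgroupOf j.range).Characteristic := by
    rw [hmap]
    exact PLocal.characteristic_map_equiv (MonoidHom.ofInjective hj) K
  have hfix := characteristic_iff_map_eq.1 ‹_› e
  have hle : K.map j ≤ j.range := map_le_range j K
  refine mem_normalizer_iff.2 fun x => ⟨fun hx => ?_, fun hx => ?_⟩
  · have h : e ⟨x, hle hx⟩ ∈ (K.map j).subgroupOf j.range := hfix ▸ mem_map_of_mem _ (by
      rw [mem_subgroupOf]; exact hx)
    exact h
  · have hy : g * x * g⁻¹ ∈ j.range := hle hx
    have h : (⟨g * x * g⁻¹, hy⟩ : j.range) ∈ ((K.map j).subgroupOf j.range).map e.toMonoidHom := by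
      rw [hfix, mem_subgroupOf]; exact hx
    obtain ⟨z, hz, hze⟩ := mem_map.1 h
    have h' : g * (z : G) * g⁻¹ = g * x * g⁻¹ := congrArg Subtype.val hze
    rw [← mul_left_cancel (mul_right_cancel h')]
    exact mem_subgroupOf.1 hz

theorem exists_coprime_power {G : Type*} [Group G] [Finite G] (g : G) :
    ∃ k : ℕ, (orderOf (g ^ p ^ k)).Coprime p := by
  refine ⟨(orderOf g).factorization p, ?_⟩
  have hpow : p ^ (orderOf g).factorization p ∣ orderOf g := Nat.ordProj_dvd _ p
  rw [orderOf_pow_of_dvd (pow_ne_zero _ (Fact.out : p.Prime).ne_zero) hpow]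
  exact (Nat.coprime_ordCompl Fact.out (orderOf_pos g).ne').symm

/-- From `C(Z)` to `N(Z)`. -/
theorem normalizer_step {G : Type u} [Group G] [Finite G] {S : Type u} [Group S] (P : Sylow p G)
    (j : S →* G) (hj : Function.Injective j) (hjP : j.range = (P : Subgroup G))
    (Z K : Subgroup S) [Z.Characteristic] (hZK : Z ≤ K)
    (hKT : normalizer ((centralizer (Z : Set S)).map j : Set G) ≤ normalizer (K.map j : Set G))
    (h : ∀ g ∈ normalizer (K.map j : Set G), (orderOf g).Coprime p → g ∈ centralizer (K.map j : Set G))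
    (hC : Cfsg.HasNormalPComplement p (centralizer (Z.map j : Set G))) :
    Cfsg.HasNormalPComplement p (normalizer (Z.map j : Set G)) := by
  set N := normalizer (Z.map j : Set G) with hN
  set C := centralizer (Z.map j : Set G) with hCdef
  have hCN : C ≤ N := centralizer_le_normalizer (Z.map j : Set G)
  have hPN : (P : Subgroup G) ≤ N := hjP ▸ (le_normalizer.trans (normalizer_range_le j hj Z))
  haveI hnorm : (C.subgroupOf N).Normal := (normal_subgroupOf_iff_le_normalizer hCN).2
    (PReduced.le_normalizer_centralizer le_rfl)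
  have hinf : (P : Subgroup G) ⊓ C = (centralizer (Z : Set S)).map j := by
    ext x
    rw [mem_inf, ← hjP]
    constructor
    · rintro ⟨⟨s, rfl⟩, hs⟩
      refine mem_map_of_mem j (mem_centralizer_iff.2 fun z hz => hj ?_)
      rw [map_mul, map_mul]
      exact mem_centralizer_iff.1 hs _ (mem_map_of_mem j hz)
    · rintro ⟨s, hs, rfl⟩
      refine ⟨⟨s, rfl⟩, mem_centralizer_iff.2 ?_⟩
      rintro _ ⟨z, hz, rfl⟩
      rw [← map_mul, ← map_mul, mem_centralizer_iff.1 hs z hz]
  have hq : ∀ n : N, ∃ k : ℕ, n ^ p ^ k ∈ C.subgroupOf N := by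
    intro n
    obtain ⟨a, ha, c, hc, hac⟩ := PReduced.frattini_sylow_inf_mul (P.subtype hPN) (C.subgroupOf N) n
    have haT : (a : G) ∈ normalizer ((centralizer (Z : Set S)).map j : Set G) := by
      rw [← hinf]
      refine mem_normalizer_fintype fun x hx => ?_
      have := (mem_normalizer_iff.1 ha ⟨x, hPN hx.1⟩).1 (by
        rw [Sylow.coe_subtype, mem_inf, mem_subgroupOf, mem_subgroupOf]
        exact hx)
      rw [Sylow.coe_subtype, mem_inf, mem_subgroupOf, mem_subgroupOf] at this
      exact this
    obtain ⟨k, hk⟩ := exists_coprime_power (p := p) (a : G)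
    refine ⟨k, ?_⟩
    have hCa : a ^ p ^ k ∈ C.subgroupOf N := by
      rw [mem_subgroupOf, SubgroupClass.coe_pow]
      exact centralizer_le (SetLike.coe_subset_coe.2 (map_mono hZK))
        (h _ (pow_mem (hKT haT) _) hk)
    rw [← QuotientGroup.eq_one_iff] at hCa ⊢
    rw [QuotientGroup.mk_pow] at hCa ⊢
    rwa [hac, QuotientGroup.mk_mul, (QuotientGroup.eq_one_iff c).2 hc, mul_one]
  have hpG : IsPGroup p (N ⧸ C.subgroupOf N) := by
    intro x
    refine QuotientGroup.induction_on x fun n => ?_
    obtain ⟨k, hk⟩ := hq n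
    exact ⟨k, by rw [← QuotientGroup.mk_pow]; exact (QuotientGroup.eq_one_iff _).2 hk⟩
  obtain ⟨k, hk⟩ := IsPGroup.iff_card.1 hpG
  exact Transfer.hasNormalPComplement_of_normal (N := C.subgroupOf N) (k := k)
    (by rw [index_eq_card]; exact hk) (Transfer.hasNormalPComplement_of_equiv hC (subgroupOfEquivOfLe hCN).symm)

/-- A central `p`-subgroup does not matter. -/
theorem hnpc_of_central_quotient {G : Type*} [Group G] [Finite G] (Z : Subgroup G) [Z.Normal]
    (hZ : IsPGroup p Z) (hc : Z ≤ center G) (h : Cfsg.HasNormalPComplement p (G ⧸ Z)) :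
    Cfsg.HasNormalPComplement p G := by
  set π := QuotientGroup.mk' Z
  set M := (pResidual p (G ⧸ Z)).comap π
  haveI : (pResidual p (G ⧸ Z)).Normal := Transfer.pResidual_normal
  obtain ⟨k, hk⟩ := Transfer.exists_index_pResidual (G := G ⧸ Z) (p := p)
  refine Transfer.hasNormalPComplement_of_normal (N := M) (k := k)
    (by rw [index_comap_of_surjective _ (QuotientGroup.mk'_surjective Z), hk]) ?_
  have hZM : Z ≤ M := fun z hz => by
    rw [mem_comap, show π z = 1 from (QuotientGroup.eq_one_iff z).2 hz]
    exact one_mem _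
  have hidx : ¬ p ∣ (Z.subgroupOf M).index := by
    show ¬ p ∣ Z.relIndex M
    have hcard : Z.relIndex M = Nat.card (pResidual p (G ⧸ Z)) := by
      conv_lhs => rw [← QuotientGroup.ker_mk' Z]
      rw [← MonoidHom.comap_bot, relIndex_comap, relIndex_bot_left,
        map_comap_eq_self_of_surjective (QuotientGroup.mk'_surjective Z)]
    rw [hcard, ← (Fact.out : p.Prime).coprime_iff_not_dvd, Nat.coprime_comm]
    exact Transfer.hasNormalPComplement_iff_coprime.1 h
  refine Transfer.hasNormalPComplement_of_normalizer_le_centralizer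
    ((hZ.comap_subtype (K := M)).toSylow hidx) fun x _ => ?_
  show x ∈ centralizer ((Z.subgroupOf M : Subgroup M) : Set M)
  rw [mem_centralizer_iff]
  intro z hz
  exact Subtype.ext (mem_center_iff.1 (hc (mem_subgroupOf.1 hz)) x).symm

theorem exists_crit (hp : p ≠ 2) (n : ℕ) : ∀ (S : Type u) [Group S] [Finite S], IsPGroup p S →
    Nat.card S = n →
    ∃ K : Subgroup S, K.Characteristic ∧ centralizer (K : Set S) ≤ K ∧ Crit p S K := by
  induction n using Nat.strong_induction_on with
  | _ n ih =>
  intro S _ _ hS hn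
  rcases subsingleton_or_nontrivial S with hsub | hnt
  · refine ⟨⊤, inferInstance, le_top, fun G _ _ P j hj hjP _ => ?_⟩
    refine Transfer.hasNormalPComplement_of_not_dvd fun hd => ?_
    have hbot : (P : Subgroup G) = ⊥ := by
      rw [← hjP, eq_bot_iff]
      rintro _ ⟨s, rfl⟩
      rw [Subsingleton.elim s 1, map_one]
      exact one_mem _
    exact P.ne_bot_of_dvd_card hd hbot
  set Z : Subgroup S := Cfsg.centerThompsonAOf (⊤ : Subgroup S) with hZdef
  have hZchar : Z.Characteristic := characteristic_iff_map_eq.2 fun φ => by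
    rw [hZdef, PLocal.map_centerThompsonAOf _ φ.injective.injOn,
      map_top_of_surjective _ φ.surjective]
  haveI := hZchar
  have hZne : Z ≠ ⊥ := by
    intro e
    obtain ⟨z, hz, hz1, -⟩ := PLocal.exists_central_of_order_p (hS.to_subgroup (⊤ : Subgroup S)) top_ne_bot
    exact hz1 (mem_bot.1 (e.le (PLocal.central_le_centerThompsonAOf hz)))
  have hZimg : ∀ (G : Type u) [Group G] (j : S →* G), Function.Injective j →
      Z.map j = Cfsg.centerThompsonAOf j.range := fun G _ j hj => by
    rw [hZdef, PLocal.map_centerThompsonAOf j hj.injOn, ← MonoidHom.range_eq_map]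
  have hcomm : ∀ x ∈ Z, ∀ y ∈ Z, x * y = y * x := fun x hx y hy =>
    mem_centralizer_iff.1 hy.2 x hx.1
  set T := centralizer (Z : Set S) with hTdef
  haveI hTchar : T.Characteristic := inferInstance
  have hZT : Z ≤ T := fun x hx => mem_centralizer_iff.2 fun y hy => hcomm y hy x hx
  by_cases hT : T = ⊤
  · -- `Z` is central: pull `K` back from `S / Z`
    have hlt : Nat.card (S ⧸ Z) < n := hn ▸ PLocal.card_quotient_lt hZne
    obtain ⟨K₁, hK₁, hK₁c, hcrit⟩ := ih _ hlt (S ⧸ Z) (hS.to_quotient Z) rfl
    set π := QuotientGroup.mk' Z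
    have hZK : Z ≤ K₁.comap π := fun z hz => by
      rw [mem_comap, show π z = 1 from (QuotientGroup.eq_one_iff z).2 hz]
      exact one_mem _
    have hKchar : (K₁.comap π).Characteristic := PGroup.characteristic_of_forall_mem fun φ x hx => by
      let φ' : (S ⧸ Z) ≃* (S ⧸ Z) :=
        QuotientGroup.congr Z Z φ (characteristic_iff_map_eq.1 hZchar φ)
      have h1 : φ' (π x) = π (φ x) := rfl
      rw [mem_comap, ← h1, ← characteristic_iff_map_eq.1 hK₁ φ']
      exact mem_map_of_mem _ hx
    haveI := hKchar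
    refine ⟨K₁.comap π, hKchar, fun x hx => hK₁c ?_, ?_⟩
    · refine mem_centralizer_iff.2 ?_
      intro y hy
      obtain ⟨y, rfl⟩ := QuotientGroup.mk'_surjective Z y
      rw [← map_mul, ← map_mul, mem_centralizer_iff.1 hx y hy]
    intro G _ _ P j hj hjP h
    refine PLocal.glauberman_complementA hp P ?_
    rw [← hjP, ← hZimg G j hj]
    refine normalizer_step P j hj hjP Z (K₁.comap π) hZK ?_ h ?_
    · rw [← hTdef, hT, ← MonoidHom.range_eq_map]
      exact normalizer_range_le j hj _
    set C := centralizer (Z.map j : Set G)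
    have hjC : ∀ s, j s ∈ C := fun s => by
      refine mem_centralizer_iff.2 ?_
      rintro _ ⟨z, hz, rfl⟩
      rw [← map_mul, ← map_mul, mem_centralizer_iff.1 (hT.symm ▸ mem_top s : s ∈ T) z hz]
    let jC : S →* C := j.codRestrict C hjC
    have hjC' : Function.Injective jC := fun a b hab => hj (congrArg Subtype.val hab)
    set ZC : Subgroup C := (Z.map j).subgroupOf C with hZC
    have hZCc : ZC ≤ center C := fun z hz => mem_center_iff.2 fun x =>
      Subtype.ext (mem_centralizer_iff.1 x.2 z (mem_subgroupOf.1 hz)).symm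
    haveI : ZC.Normal := ⟨fun z hz x => by
      rw [mem_center_iff.1 (hZCc hz) x, mul_inv_cancel_right]; exact hz⟩
    refine hnpc_of_central_quotient ZC (((hS.to_subgroup Z).map j).comap_subtype) hZCc ?_
    let j₁ : S ⧸ Z →* C ⧸ ZC := QuotientGroup.map Z ZC jC fun z hz => by
      rw [mem_comap, hZC, mem_subgroupOf]
      exact mem_map_of_mem j hz
    have hPC : (P : Subgroup G) ≤ C := hjP ▸ by
      rintro _ ⟨s, rfl⟩
      exact hjC s
    let P₁ : Sylow p (C ⧸ ZC) :=
      (P.subtype hPC).mapSurjective (QuotientGroup.mk'_surjective ZC)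
    have hP₁ : (P₁ : Subgroup (C ⧸ ZC)) = ((P : Subgroup G).subgroupOf C).map (QuotientGroup.mk' ZC) := rfl
    refine hcrit (C ⧸ ZC) P₁ j₁ ?_ ?_ ?_
    · rw [injective_iff_map_eq_one]
      intro x
      refine QuotientGroup.induction_on x fun s hs => ?_
      refine (QuotientGroup.eq_one_iff s).2 ?_
      obtain ⟨z, hz, hzs⟩ := mem_subgroupOf.1 ((QuotientGroup.eq_one_iff (jC s)).1 hs)
      exact hj hzs ▸ hz
    · rw [hP₁]
      ext x
      constructor
      · rintro ⟨s, rfl⟩
        obtain ⟨s, rfl⟩ := QuotientGroup.mk'_surjective Z s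
        exact ⟨jC s, by rw [SetLike.mem_coe, mem_subgroupOf, ← hjP]; exact ⟨s, rfl⟩, rfl⟩
      · rintro ⟨c, hc, rfl⟩
        rw [SetLike.mem_coe, mem_subgroupOf, ← hjP] at hc
        obtain ⟨s, hs⟩ := hc
        exact ⟨π s, congrArg (QuotientGroup.mk' ZC) (Subtype.ext hs : jC s = c)⟩
    · intro g hg hgc
      obtain ⟨g, rfl⟩ := QuotientGroup.mk'_surjective ZC g
      set K₂ := K₁.map j₁
      have hpre : ∀ c : C, (c : G) ∈ (K₁.comap π).map j ↔ QuotientGroup.mk' ZC c ∈ K₂ := by
        intro c
        constructor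
        · rintro ⟨s, hs, hsc⟩
          exact ⟨π s, hs, congrArg (QuotientGroup.mk' ZC) (Subtype.ext hsc : jC s = c)⟩
        · rintro ⟨q, hq, hqc⟩
          obtain ⟨s, rfl⟩ := QuotientGroup.mk'_surjective Z q
          have h1 : (jC s)⁻¹ * c ∈ ZC := QuotientGroup.eq.1 hqc
          obtain ⟨z, hz, hzc⟩ := mem_subgroupOf.1 h1
          refine ⟨s * z, mem_comap.2 ?_, ?_⟩
          · rw [map_mul, show π z = 1 from (QuotientGroup.eq_one_iff z).2 hz, mul_one]
            exact hq
          · rw [map_mul, hzc, Subgroup.coe_mul, InvMemClass.coe_inv]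
            exact mul_inv_cancel_left _ _
      obtain ⟨x, y, hxy, -, hy, ⟨a, hxa⟩, hyc⟩ := Transfer.exists_pPart_mul (p := p) g
      have hgN : (g : G) ∈ normalizer ((K₁.comap π).map j : Set G) := by
        refine mem_normalizer_fintype fun u hu => ?_
        have huC : u ∈ C := by
          obtain ⟨s, -, rfl⟩ := hu
          exact hjC s
        have := (mem_normalizer_iff.1 hg _).1 ((hpre ⟨u, huC⟩).1 hu)
        rw [← map_inv, ← map_mul, ← map_mul] at this
        exact (hpre _).2 this
      have hyN : (y : G) ∈ normalizer ((K₁.comap π).map j : Set G) := by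
        obtain ⟨i, rfl⟩ := mem_zpowers_iff.1 hy
        rw [SubgroupClass.coe_zpow]
        exact zpow_mem hgN i
      have hyK := h _ hyN (by rwa [orderOf_coe])
      have hgy : QuotientGroup.mk' ZC g = QuotientGroup.mk' ZC y := by
        have hx1 : QuotientGroup.mk' ZC x = 1 := by
          have hco : Commute x y := by
            have hxg : x = g * y⁻¹ := by rw [hxy, mul_inv_cancel_right]
            obtain ⟨i, rfl⟩ := mem_zpowers_iff.1 hy
            rw [hxg, ← zpow_neg]
            exact ((Commute.refl g).zpow_right i).mul_left ((Commute.refl g).zpow_zpow _ i)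
          have h1 : (QuotientGroup.mk' ZC g) ^ orderOf y = (QuotientGroup.mk' ZC x) ^ orderOf y := by
            rw [hxy, map_mul, (hco.map (QuotientGroup.mk' ZC)).mul_pow, ← map_pow _ y,
              pow_orderOf_eq_one, map_one, mul_one]
          refine orderOf_eq_one_iff.1 (Nat.eq_one_of_dvd_coprimes (hgc.mul_left hyc |>.pow_right a) ?_
            ((orderOf_map_dvd _ x).trans (dvd_of_eq hxa)))
          refine orderOf_dvd_of_pow_eq_one ?_
          rw [mul_comm, pow_mul, ← h1, ← pow_mul, mul_comm, pow_mul, pow_orderOf_eq_one, one_pow]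
        rw [hxy, map_mul, hx1, one_mul]
      rw [hgy]
      refine mem_centralizer_iff.2 ?_
      intro u hu
      obtain ⟨c, rfl⟩ := QuotientGroup.mk'_surjective ZC u
      rw [← map_mul, ← map_mul]
      congr 1
      exact Subtype.ext (mem_centralizer_iff.1 hyK _ ((hpre c).2 hu))
  · -- `T = C_S(Z)` is proper
    have hlt : Nat.card T < n := hn ▸ PLocal.card_subgroup_lt hT
    obtain ⟨K₁, hK₁, hK₁c, hcrit⟩ := ih _ hlt T (hS.to_subgroup T) rfl
    haveI := hK₁
    have hKchar : (K₁.map T.subtype).Characteristic := PGroup.characteristic_of_forall_mem fun φ x hx => by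
      obtain ⟨t, ht, rfl⟩ := hx
      let φT : T ≃* T := (φ.subgroupMap T).trans
        (MulEquiv.subgroupCongr (characteristic_iff_map_eq.1 hTchar φ))
      refine ⟨φT t, ?_, rfl⟩
      rw [SetLike.mem_coe, ← characteristic_iff_map_eq.1 hK₁ φT]
      exact mem_map_of_mem _ ht
    have hKT : K₁.map T.subtype ≤ T := map_subtype_le K₁
    have hZK : Z ≤ K₁.map T.subtype := by
      intro z hz
      refine ⟨⟨z, hZT hz⟩, hK₁c (mem_centralizer_iff.2 fun t _ => Subtype.ext ?_), rfl⟩
      exact (mem_centralizer_iff.1 t.2 z hz).symm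
    refine ⟨K₁.map T.subtype, hKchar, fun x hx => ?_, ?_⟩
    · have hxT : x ∈ T := mem_centralizer_iff.2 fun z hz => mem_centralizer_iff.1 hx z (hZK hz)
      exact ⟨⟨x, hxT⟩, hK₁c (mem_centralizer_iff.2 fun k hk =>
        Subtype.ext (mem_centralizer_iff.1 hx k ⟨k, hk, rfl⟩)), rfl⟩
    intro G _ _ P j hj hjP h
    refine PLocal.glauberman_complementA hp P ?_
    rw [← hjP, ← hZimg G j hj]
    have hKTn : normalizer (T.map j : Set G) ≤ normalizer ((K₁.map T.subtype).map j : Set G) := by
      have := normalizer_range_le (j.comp T.subtype) (hj.comp T.subtype_injective) K₁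
      rwa [MonoidHom.range_comp, range_subtype, ← map_map] at this
    refine normalizer_step P j hj hjP Z (K₁.map T.subtype) hZK hKTn h ?_
    set C := centralizer (Z.map j : Set G)
    have hjC : ∀ t : T, j t ∈ C := fun t => by
      refine mem_centralizer_iff.2 ?_
      rintro _ ⟨z, hz, rfl⟩
      rw [← map_mul, ← map_mul, mem_centralizer_iff.1 t.2 z hz]
    let jC : T →* C := (j.comp T.subtype).codRestrict C hjC
    have hnorm : (P : Subgroup G) ≤ normalizer (C : Set G) := by
      refine PReduced.le_normalizer_centralizer ?_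
      rw [← hjP]
      exact le_normalizer.trans (normalizer_range_le j hj Z)
    obtain ⟨PC, hPC⟩ := PReduced.exists_sylow_inf P hnorm
    refine hcrit C PC jC (fun a b hab => T.subtype_injective (hj (congrArg Subtype.val hab))) ?_ ?_
    · rw [hPC]
      ext c
      rw [mem_subgroupOf, ← hjP]
      constructor
      · rintro ⟨t, rfl⟩
        exact ⟨t, rfl⟩
      · rintro ⟨s, hs⟩
        have hsT : s ∈ T := mem_centralizer_iff.2 fun z hz => hj (by
          rw [map_mul, map_mul, hs]
          exact mem_centralizer_iff.1 c.2 _ (mem_map_of_mem j hz))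
        exact ⟨⟨s, hsT⟩, Subtype.ext hs⟩
    · intro g hg hgc
      have hKimg : (K₁.map jC).map C.subtype = (K₁.map T.subtype).map j := by
        rw [map_map, map_map]
        rfl
      have hgN : (g : G) ∈ normalizer ((K₁.map T.subtype).map j : Set G) := by
        rw [← hKimg]
        exact le_normalizer_map C.subtype (mem_map_of_mem C.subtype hg)
      have hgK := h _ hgN (by rwa [orderOf_coe])
      refine mem_centralizer_iff.2 fun k hk => Subtype.ext ?_
      exact mem_centralizer_iff.1 hgK k (hKimg ▸ mem_map_of_mem C.subtype hk)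

/-- For an odd prime p, every finite p-group S has a characteristic subgroup K with C_S(K) ≤ K such that, whenever S is (isomorphic to) a Sylow p-subgroup of a finite group G, G has a normal p-complement if and only if N_G(K)/C_G(K) is a p-group, i.e. every element of N_G(K) of order prime to p centralizes K (K transported into G along the isomorphism). -/
theorem result (p : ℕ) [Fact p.Prime] (hp : p ≠ 2)
    (S : Type u) [Group S] [Finite S] (hS : IsPGroup p S) :
    ∃ K : Subgroup S, K.Characteristic ∧ Subgroup.centralizer (K : Set S) ≤ K ∧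
      ∀ (G : Type u) [Group G] [Finite G] (P : Sylow p G) (e : ↥(P : Subgroup G) ≃* S),
        Cfsg.HasNormalPComplement p G ↔
          ∀ g ∈ Subgroup.normalizer (((K.comap (e : ↥(P : Subgroup G) →* S)).map (P : Subgroup G).subtype : Subgroup G) : Set G),
            (orderOf g).Coprime p →
              g ∈ Subgroup.centralizer (((K.comap (e : ↥(P : Subgroup G) →* S)).map (P : Subgroup G).subtype : Subgroup G) : Set G) := by
  obtain ⟨K, hK, hKc, hcrit⟩ := exists_crit hp _ S hS rfl
  refine ⟨K, hK, hKc, fun G _ _ P e => ⟨fun h g hg hgc => ?_, fun h => ?_⟩⟩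
  · exact Transfer.mem_centralizer_of_coprime h (P.isPGroup'.to_subgroup _ |>.map _) hg hgc
  · have heq : (K.comap (e : ↥(P : Subgroup G) →* S)).map (P : Subgroup G).subtype =
        K.map ((P : Subgroup G).subtype.comp e.symm.toMonoidHom) := by
      rw [← map_map]
      congr 1
      exact comap_equiv_eq_map_symm e K
    rw [heq] at h
    refine hcrit G P _ ((P : Subgroup G).subtype_injective.comp e.symm.injective) ?_ h
    rw [MonoidHom.range_comp, MonoidHom.range_eq_top.2 e.symm.surjective, ← MonoidHom.range_eq_map,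
      range_subtype]

end Cfsg.Agent.S3073
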