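import Cfsg.Statements.S3074
import Cfsg.Agent.EqLemmas
import Cfsg.Agent.Lib.PGroup.Basic

set_option autoImplicit false
open Cfsg
open scoped commutatorElement

namespace Cfsg.Agent.S3074


section Heisenberg

variable {p : ℕ} [Fact p.Prime] {G : Type*} [Group G] [Finite G]

/-- A group parametrised by triples with the Heisenberg multiplication law, p odd. -/
theorem heisenberg (hp : p ≠ 2) (m : ZMod p → ZMod p → ZMod p → G)
    (hinj : ∀ a b c a' b' c', m a b c = m a' b' c' → a = a' ∧ b = b' ∧ c = c')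
    (hsurj : ∀ g : G, ∃ a b c, g = m a b c)
    (hmul : ∀ a b c a' b' c', m a b c * m a' b' c' = m (a + a') (b + b') (c + c' + a * b')) :
    Cfsg.IsExtraspecial p G ∧ Nat.card G = p ^ 3 ∧ Monoid.exponent G = p := by
  have hpp : p.Prime := Fact.out
  have h1 : m 0 0 0 = 1 := by
    have h := hmul 0 0 0 0 0 0
    simp only [add_zero, mul_zero] at h
    exact mul_eq_left.1 h
  have hpow : ∀ (k : ℕ) a b c, m a b c ^ k
      = m (k * a) (k * b) (k * c + (k.choose 2 : ℕ) * (a * b)) := by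
    intro k
    induction k with
    | zero => intro a b c; simp [h1]
    | succ k ih =>
      intro a b c
      rw [pow_succ, ih, hmul, Nat.choose_succ_succ, Nat.choose_one_right]
      push_cast
      congr 1 <;> ring
  have hexp : ∀ g : G, g ^ p = 1 := by
    intro g
    obtain ⟨a, b, c, rfl⟩ := hsurj g
    have h2 : 2 ≤ p := hpp.two_le
    have hch : ((p.choose 2 : ℕ) : ZMod p) = 0 := by
      rw [ZMod.natCast_eq_zero_iff]
      exact hpp.dvd_choose_self (by norm_num) (lt_of_le_of_ne h2 (Ne.symm hp))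
    rw [hpow, hch, ZMod.natCast_self]
    simpa using h1
  have hG : IsPGroup p G := fun g => ⟨1, by rw [pow_one]; exact hexp g⟩
  have hcenter : ∀ a b c, m a b c ∈ Subgroup.center G ↔ a = 0 ∧ b = 0 := by
    intro a b c
    rw [Subgroup.mem_center_iff]
    constructor
    · intro h
      have ha := (hinj _ _ _ _ _ _ ((hmul _ _ _ _ _ _).symm.trans
        ((h (m 0 1 0)).trans (hmul _ _ _ _ _ _)))).2.2
      have hb := (hinj _ _ _ _ _ _ ((hmul _ _ _ _ _ _).symm.trans
        ((h (m 1 0 0)).trans (hmul _ _ _ _ _ _)))).2.2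
      simp at ha hb
      exact ⟨ha, hb⟩
    · rintro ⟨rfl, rfl⟩ g
      obtain ⟨a, b, c', rfl⟩ := hsurj g
      rw [hmul, hmul]
      congr 1 <;> ring
  have hcard : Nat.card G = p ^ 3 := by
    have e : ZMod p × ZMod p × ZMod p ≃ G := Equiv.ofBijective (fun t => m t.1 t.2.1 t.2.2)
      ⟨fun t t' h => by
        obtain ⟨e1, e2, e3⟩ := hinj _ _ _ _ _ _ h
        exact Prod.ext e1 (Prod.ext e2 e3),
       fun g => by obtain ⟨a, b, c, rfl⟩ := hsurj g; exact ⟨(a, b, c), rfl⟩⟩
    rw [← Nat.card_congr e, Nat.card_prod, Nat.card_prod, Nat.card_zmod]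
    ring
  have hccard : Nat.card (Subgroup.center G) = p := by
    have e : ZMod p ≃ Subgroup.center G := Equiv.ofBijective
      (fun c => ⟨m 0 0 c, (hcenter 0 0 c).2 ⟨rfl, rfl⟩⟩)
      ⟨fun c c' h => (hinj _ _ _ _ _ _ (congrArg Subtype.val h)).2.2,
       fun g => by
        obtain ⟨g, hg⟩ := g
        obtain ⟨a, b, c, rfl⟩ := hsurj g
        obtain ⟨rfl, rfl⟩ := (hcenter a b c).1 hg
        exact ⟨c, rfl⟩⟩
    rw [← Nat.card_congr e, Nat.card_zmod]
  have hcomm : commutator G = Subgroup.center G := by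
    refine le_antisymm ?_ ?_
    · rw [commutator_def, Subgroup.commutator_le]
      intro g _ g' _
      obtain ⟨a, b, c, rfl⟩ := hsurj g
      obtain ⟨a', b', c', rfl⟩ := hsurj g'
      have : ⁅m a b c, m a' b' c'⁆ = m 0 0 (a * b' - a' * b) := by
        rw [commutatorElement_def, mul_inv_eq_iff_eq_mul, mul_inv_eq_iff_eq_mul, hmul, hmul, hmul]
        congr 1 <;> ring
      rw [this]
      exact (hcenter _ _ _).2 ⟨rfl, rfl⟩
    · intro g hg
      obtain ⟨a, b, c, rfl⟩ := hsurj g
      obtain ⟨rfl, rfl⟩ := (hcenter a b c).1 hg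
      have : ⁅m c 0 0, m 0 1 0⁆ = m 0 0 c := by
        rw [commutatorElement_def, mul_inv_eq_iff_eq_mul, mul_inv_eq_iff_eq_mul, hmul, hmul, hmul]
        congr 1 <;> ring
      rw [← this]
      exact Subgroup.commutator_mem_commutator (Subgroup.mem_top _) (Subgroup.mem_top _)
  refine ⟨⟨⟨hG, le_antisymm ?_ ?_, hcomm⟩, hccard⟩, hcard, ?_⟩
  · exact PGroup.frattini_le_of_quotient_elementary (p := p) hcomm.le fun x => by
      rw [hexp]; exact one_mem _
  · exact hcomm ▸ PGroup.commutator_le_frattini hG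
  · rcases (Nat.dvd_prime hpp).1 (Monoid.exponent_dvd_of_forall_pow_eq_one hexp) with h | h
    · exfalso
      haveI := Monoid.exp_eq_one_iff.1 h
      have := Finite.card_le_one_iff_subsingleton.2 (inferInstance : Subsingleton G)
      rw [hcard] at this
      have := Nat.lt_of_lt_of_le hpp.one_lt (Nat.le_self_pow (show 3 ≠ 0 by norm_num) p)
      omega
    · exact h

end Heisenberg

/-- Let p be an odd prime. A Sylow p-subgroup of Qd(p), the split extension of an elementary abelian group of order p² by SL₂(p) acting naturally, is extraspecial of order p³ and exponent p. -/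
theorem result (p : ℕ) [Fact p.Prime] (hp : p ≠ 2) (P : Sylow p ↥(Cfsg.qd p)) :
    Cfsg.IsExtraspecial p ↥P ∧ Nat.card P = p ^ 3 ∧ Monoid.exponent ↥P = p := by
  classical
  have hpp : p.Prime := Fact.out
  let M : ZMod p → ZMod p → ZMod p → Matrix.SpecialLinearGroup (Fin 3) (ZMod p) := fun a b c =>
    ⟨!![1, a, c; 0, 1, b; 0, 0, 1], by simp [Matrix.det_fin_three]⟩
  have hmul : ∀ a b c a' b' c', M a b c * M a' b' c' = M (a + a') (b + b') (c + c' + a * b') := by
    intro a b c a' b' c'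
    apply Subtype.ext
    show (!![1, a, c; 0, 1, b; 0, 0, 1] : Matrix (Fin 3) (Fin 3) (ZMod p)) *
        !![1, a', c'; 0, 1, b'; 0, 0, 1]
      = !![1, a + a', c + c' + a * b'; 0, 1, b + b'; 0, 0, 1]
    ext i j
    fin_cases i <;> fin_cases j <;> simp [Matrix.mul_apply, Fin.sum_univ_three] <;> ring
  have hinj : ∀ a b c a' b' c', M a b c = M a' b' c' → a = a' ∧ b = b' ∧ c = c' := by
    intro a b c a' b' c' h
    have hv := congrArg Subtype.val h
    exact ⟨by simpa [M] using congrFun (congrFun hv 0) 1, by simpa [M] using congrFun (congrFun hv 1) 2,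
      by simpa [M] using congrFun (congrFun hv 0) 2⟩
  have hmem : ∀ a b c, M a b c ∈ Cfsg.qd p := fun a b c =>
    Subgroup.subset_closure ⟨rfl, rfl, rfl⟩
  have h1 : M 0 0 0 = 1 := mul_eq_left.1 (by rw [hmul]; simp : M 0 0 0 * M 0 0 0 = M 0 0 0)
  let U : Subgroup ↥(Cfsg.qd p) :=
    { carrier := {g | ∃ a b c, M a b c = g.1}
      one_mem' := ⟨0, 0, 0, h1⟩
      mul_mem' := by
        rintro g g' ⟨a, b, c, h⟩ ⟨a', b', c', h'⟩
        exact ⟨a + a', b + b', c + c' + a * b', by rw [Subgroup.coe_mul, ← h, ← h', hmul]⟩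
      inv_mem' := by
        rintro g ⟨a, b, c, h⟩
        refine ⟨-a, -b, -c + a * b, ?_⟩
        rw [Subgroup.coe_inv, ← h]
        refine eq_inv_of_mul_eq_one_left ?_
        rw [hmul, ← h1]
        congr 1 <;> ring }
  let m : ZMod p → ZMod p → ZMod p → U := fun a b c => ⟨⟨M a b c, hmem a b c⟩, a, b, c, rfl⟩
  obtain ⟨-, hUcard, -⟩ := heisenberg hp m
    (fun a b c a' b' c' h => hinj _ _ _ _ _ _ (congrArg (fun u : U => u.1.1) h))
    (fun g => by
      obtain ⟨a, b, c, h⟩ := g.2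
      exact ⟨a, b, c, Subtype.ext (Subtype.ext h.symm)⟩)
    (fun _ _ _ _ _ _ => Subtype.ext (Subtype.ext (hmul _ _ _ _ _ _)))
  -- the Sylow subgroup has order at most p ^ 3
  have hbound : Nat.card P ≤ p ^ 3 := by
    obtain ⟨k, hk⟩ := IsPGroup.iff_card.1 P.isPGroup'
    have hdvd : Nat.card P ∣ Nat.card (GL (Fin 3) (ZMod p)) :=
      (Subgroup.card_subgroup_dvd_card _).trans ((Subgroup.card_subgroup_dvd_card _).trans
        (Subgroup.card_dvd_of_injective Matrix.SpecialLinearGroup.toGL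
          Matrix.SpecialLinearGroup.toGL_injective))
    rw [Matrix.card_GL_field, Fin.prod_univ_three, Fintype.card_eq_nat_card, Nat.card_zmod,
      hk] at hdvd
    simp only [Fin.val_zero, Fin.val_one, Fin.val_two, pow_zero, pow_one] at hdvd
    have e : (p ^ 3 - 1) * (p ^ 3 - p) * (p ^ 3 - p ^ 2)
        = p ^ 3 * ((p ^ 3 - 1) * (p ^ 2 - 1) * (p - 1)) := by
      have e1 : p ^ 3 - p = p * (p ^ 2 - 1) := by rw [Nat.mul_sub, mul_one]; ring_nf
      have e2 : p ^ 3 - p ^ 2 = p ^ 2 * (p - 1) := by rw [Nat.mul_sub, mul_one]; ring_nf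
      rw [e1, e2]; ring
    rw [e] at hdvd
    have hnd : ∀ j : ℕ, 0 < j → ¬ p ∣ p ^ j - 1 := by
      intro j hj hdj
      have h2 := Nat.dvd_sub (dvd_pow_self p (Nat.pos_iff_ne_zero.1 hj)) hdj
      have h3 : p ^ j - (p ^ j - 1) = 1 := by have := Nat.one_le_pow j p hpp.pos; omega
      rw [h3] at h2
      exact hpp.one_lt.ne' (Nat.dvd_one.1 h2)
    have hcop : Nat.Coprime (p ^ k) ((p ^ 3 - 1) * (p ^ 2 - 1) * (p - 1)) := by
      refine Nat.Coprime.pow_left k ((Nat.Prime.coprime_iff_not_dvd hpp).2 ?_)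
      intro h
      rcases (Nat.Prime.dvd_mul hpp).1 h with h | h
      · rcases (Nat.Prime.dvd_mul hpp).1 h with h | h
        · exact hnd 3 (by norm_num) h
        · exact hnd 2 (by norm_num) h
      · exact hnd 1 (by norm_num) (by rwa [pow_one])
    rw [hk]
    exact Nat.le_of_dvd (pow_pos hpp.pos 3) (hcop.dvd_of_dvd_mul_right hdvd)
  have hUp : IsPGroup p U := IsPGroup.iff_card.2 ⟨3, hUcard⟩
  obtain ⟨S, hS⟩ := hUp.exists_le_sylow
  have hUS : U = (S : Subgroup ↥(Cfsg.qd p)) := by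
    refine PGroup.eq_of_le_of_card_le hS ?_
    rw [hUcard, S.card_eq_multiplicity, ← P.card_eq_multiplicity]
    exact hbound
  let e : U ≃* P := (MulEquiv.subgroupCongr hUS).trans (Sylow.equiv S P)
  exact heisenberg hp (fun a b c => e (m a b c))
    (fun a b c a' b' c' h => hinj _ _ _ _ _ _ (congrArg (fun u : U => u.1.1) (e.injective h)))
    (fun g => by
      obtain ⟨a, b, c, h⟩ := (e.symm g).2
      exact ⟨a, b, c, e.symm.injective ((Subtype.ext (Subtype.ext h.symm)).trans (e.symm_apply_apply (m a b c)).symm)⟩)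
    (fun _ _ _ _ _ _ => by
      rw [← map_mul]; congr 1; exact Subtype.ext (Subtype.ext (hmul _ _ _ _ _ _)))

end Cfsg.Agent.S3074
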