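import Cfsg.Statements.S3075
import Cfsg.Agent.EqLemmas

set_option autoImplicit false
open Cfsg

namespace Cfsg.Agent.S3075

theorem commutator_centralizes {N : Type*} [Group N] (c : N)
    (h : (Subgroup.zpowers c).Normal) (n m : N) :
    (n * m * n⁻¹ * m⁻¹) * c = c * (n * m * n⁻¹ * m⁻¹) := by
  obtain ⟨i, hi⟩ := Subgroup.mem_zpowers_iff.1 (h.conj_mem c (Subgroup.mem_zpowers c) n⁻¹)
  obtain ⟨j, hj⟩ := Subgroup.mem_zpowers_iff.1 (h.conj_mem c (Subgroup.mem_zpowers c) m⁻¹)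
  have h1 : n⁻¹ * (m⁻¹ * c * m⁻¹⁻¹) * n⁻¹⁻¹ = c ^ (i * j) := by
    rw [← hj, ← conj_zpow, ← hi, ← zpow_mul]
  have h2 : m⁻¹ * (n⁻¹ * c * n⁻¹⁻¹) * m⁻¹⁻¹ = c ^ (i * j) := by
    rw [← hi, ← conj_zpow, ← hj, ← zpow_mul, mul_comm]
  calc (n * m * n⁻¹ * m⁻¹) * c
      = n * m * (n⁻¹ * (m⁻¹ * c * m⁻¹⁻¹) * n⁻¹⁻¹) * (n⁻¹ * m⁻¹) := by group
    _ = n * m * (m⁻¹ * (n⁻¹ * c * n⁻¹⁻¹) * m⁻¹⁻¹) * (n⁻¹ * m⁻¹) := by rw [h1, h2]
    _ = c * (n * m * n⁻¹ * m⁻¹) := by group

theorem exists_zpowers_of_card_dvd_prime {N : Type*} [Group N] {p : ℕ} (hp : p.Prime)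
    (K : Subgroup N) (h : Nat.card K ∣ p) : ∃ c : N, K = Subgroup.zpowers c := by
  rcases (Nat.dvd_prime hp).1 h with h1 | h1
  · exact ⟨1, by rw [Subgroup.zpowers_one_eq_bot]; exact Subgroup.eq_bot_of_card_eq K h1⟩
  · haveI : Fact p.Prime := ⟨hp⟩
    haveI : IsCyclic K := isCyclic_of_prime_card h1
    obtain ⟨g, hg⟩ := (Subgroup.isCyclic_iff_exists_zpowers_eq_top K).1 (inferInstance : IsCyclic K)
    exact ⟨g, hg.symm⟩

/-- Let p be an odd prime and N a finite group with a normal elementary abelian subgroup A of order p² that is its own centralizer in N, such that N/A is isomorphic to SL₂(p) (over any field F with p elements). Then N splits over A: some subgroup U of N satisfies A ∩ U = 1 and AU = N. -/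
theorem result {N : Type*} [Group N] [Finite N] {p : ℕ} [Fact p.Prime] (hp : p ≠ 2)
    (A : Subgroup N) [A.Normal] (hAcomm : IsMulCommutative A) (hAcard : Nat.card A = p ^ 2) (hAexp : Monoid.exponent ↥A = p)
    (hAself : Subgroup.centralizer (A : Set N) = A)
    {F : Type*} [Field F] [Fintype F] (hF : Fintype.card F = p) (e : N ⧸ A ≃* Matrix.SpecialLinearGroup (Fin 2) F) :
    ∃ U : Subgroup N, A ⊓ U = ⊥ ∧ A ⊔ U = ⊤ := by
  classical
  have hpp : p.Prime := Fact.out
  have hpodd : Odd p := hpp.odd_of_ne_two hp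
  have hcomm : ∀ a ∈ A, ∀ b ∈ A, a * b = b * a := fun a ha b hb =>
    congrArg Subtype.val (hAcomm.is_comm.comm ⟨a, ha⟩ ⟨b, hb⟩)
  have hpow : ∀ a ∈ A, a ^ p = 1 := fun a ha => by
    have h := Monoid.pow_exponent_eq_one (⟨a, ha⟩ : A)
    rw [hAexp] at h
    exact congrArg Subtype.val h
  have hsq : ∀ a ∈ A, a * a = 1 → a = 1 := fun a ha h => by
    obtain ⟨k, hk⟩ := hpodd
    have := hpow a ha
    rw [hk, pow_succ, pow_mul, pow_two, h, one_pow, one_mul] at this
    exact this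
  have h20 : (2 : F) ≠ 0 := by
    intro h
    have h1 : ringChar F = 2 := by
      rcases (Nat.dvd_prime Nat.prime_two).1 (ringChar.dvd (x := 2) (by exact_mod_cast h)) with h1 | h1
      · exact absurd h1 CharP.ringChar_ne_one
      · exact h1
    haveI : CharP F 2 := h1 ▸ ringChar.charP F
    obtain ⟨m, -, hm⟩ := FiniteField.card F 2
    rw [hF] at hm
    exact hp (((Nat.prime_dvd_prime_iff_eq hpp Nat.prime_two).1
      (hpp.dvd_of_dvd_pow (dvd_of_eq hm))))
  have hz : (-1 : Matrix.SpecialLinearGroup (Fin 2) F) ≠ 1 := by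
    intro h
    have h00 : (-1 : F) = 1 := by
      simpa using congrArg (fun M : Matrix.SpecialLinearGroup (Fin 2) F =>
        (M : Matrix (Fin 2) (Fin 2) F) 0 0) h
    exact h20 (by linear_combination -h00)
  obtain ⟨t₀, ht₀⟩ := QuotientGroup.mk_surjective (e.symm (-1))
  have ht0A : t₀ * t₀ ∈ A := by
    rw [← QuotientGroup.eq_one_iff, QuotientGroup.mk_mul, ht₀, ← map_mul]
    simp
  set t : N := t₀ ^ p with ht
  have htt : t * t = 1 := by
    rw [ht, ← pow_add, ← two_mul, pow_mul, pow_two]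
    exact hpow _ ht0A
  have htmk : ((t : N) : N ⧸ A) = e.symm (-1) := by
    rw [ht, QuotientGroup.mk_pow, ht₀, ← map_pow, hpodd.neg_one_pow]
  have htA : t ∉ A := by
    intro h
    rw [← QuotientGroup.eq_one_iff, htmk, MulEquiv.map_eq_one_iff] at h
    exact hz h
  have hcen : ∀ n : N, n * t * n⁻¹ * t⁻¹ ∈ A := fun n => by
    rw [← QuotientGroup.eq_one_iff]
    simp only [QuotientGroup.mk_mul, QuotientGroup.mk_inv, htmk]
    apply e.injective
    simp [mul_assoc]
  have hAn : ∀ a ∈ A, ∀ n : N, n * a * n⁻¹ ∈ A := fun a ha n =>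
    (inferInstance : A.Normal).conj_mem a ha n
  let φ : N → N := fun a => t * a * t⁻¹
  have hφA : ∀ a ∈ A, φ a ∈ A := fun a ha => hAn a ha t
  have hφφ : ∀ a : N, φ (φ a) = a := fun a => by
    have : t⁻¹ = t := inv_eq_of_mul_eq_one_right htt
    simp only [φ, this]
    calc t * (t * a * t) * t = (t * t) * a * (t * t) := by group
      _ = a := by rw [htt, one_mul, mul_one]
  -- conjugation by n commutes with φ on A
  have hφn : ∀ a ∈ A, ∀ n : N, φ (n * a * n⁻¹) = n * φ a * n⁻¹ := fun a ha n => by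
    have hx := hcen n
    have hy : n * φ a * n⁻¹ ∈ A := hAn _ (hφA a ha) n
    have hc := hcomm _ (inv_mem hx) _ hy
    calc φ (n * a * n⁻¹)
        = (n * t * n⁻¹ * t⁻¹)⁻¹ * (n * φ a * n⁻¹) * (n * t * n⁻¹ * t⁻¹) := by simp only [φ]; group
      _ = n * φ a * n⁻¹ := by rw [hc]; group
  let C : Subgroup N :=
    { carrier := {a | a ∈ A ∧ φ a = a}
      one_mem' := ⟨A.one_mem, by simp [φ]⟩
      mul_mem' := fun {a b} ha hb => ⟨A.mul_mem ha.1 hb.1, by
        calc φ (a * b) = φ a * φ b := by simp only [φ]; group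
          _ = a * b := by rw [ha.2, hb.2]⟩
      inv_mem' := fun {a} ha => ⟨A.inv_mem ha.1, by
        calc φ a⁻¹ = (φ a)⁻¹ := by simp only [φ]; group
          _ = a⁻¹ := by rw [ha.2]⟩ }
  let I : Subgroup N :=
    { carrier := {a | a ∈ A ∧ φ a = a⁻¹}
      one_mem' := ⟨A.one_mem, by simp [φ]⟩
      mul_mem' := fun {a b} ha hb => ⟨A.mul_mem ha.1 hb.1, by
        calc φ (a * b) = φ a * φ b := by simp only [φ]; group
          _ = (a * b)⁻¹ := by rw [ha.2, hb.2, mul_inv_rev]; exact hcomm _ (inv_mem ha.1) _ (inv_mem hb.1)⟩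
      inv_mem' := fun {a} ha => ⟨A.inv_mem ha.1, by
        calc φ a⁻¹ = (φ a)⁻¹ := by simp only [φ]; group
          _ = a⁻¹⁻¹ := by rw [ha.2]⟩ }
  have hCn : C.Normal := ⟨fun a ha n => ⟨hAn a ha.1 n, by rw [hφn a ha.1 n, ha.2]⟩⟩
  have hIn : I.Normal := ⟨fun a ha n => ⟨hAn a ha.1 n, by rw [hφn a ha.1 n, ha.2]; group⟩⟩
  have hCA : C ≤ A := fun a ha => ha.1
  have hIA : I ≤ A := fun a ha => ha.1
  have hCbot : C = ⊥ := by
    by_contra hne
    have hCneA : C ≠ A := by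
      intro h
      apply htA
      rw [← hAself, Subgroup.mem_centralizer_iff]
      intro a ha
      have h' : φ a = a := (h.symm ▸ (ha : a ∈ A) : a ∈ C).2
      calc a * t = φ a * t := by rw [h']
        _ = t * a := by simp only [φ]; group
    have hIneA : I ≠ A := by
      intro h
      obtain ⟨c, hc, hc1⟩ := C.bot_or_exists_ne_one.resolve_left hne
      have h' : φ c = c⁻¹ := (h.symm ▸ (hc.1 : c ∈ A) : c ∈ I).2
      exact hc1 (hsq c hc.1 (by rw [hc.2] at h'; nth_rewrite 2 [h']; exact mul_inv_cancel c))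
    have hdvd : ∀ K : Subgroup N, K ≤ A → K ≠ A → Nat.card K ∣ p := fun K hK hKne => by
      obtain ⟨i, hi, hi'⟩ := (Nat.dvd_prime_pow hpp).1 (hAcard ▸ Subgroup.card_dvd_of_le hK)
      have hi2 : i < 2 := by
        rcases Nat.lt_or_ge i 2 with h | h
        · exact h
        · exact absurd (Subgroup.eq_of_le_of_card_ge hK (by rw [hi', hAcard]; exact Nat.pow_le_pow_right hpp.pos h)) hKne
      rw [hi']
      interval_cases i <;> simp
    obtain ⟨c, hc⟩ := exists_zpowers_of_card_dvd_prime hpp C (hdvd C hCA hCneA)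
    obtain ⟨d, hd⟩ := exists_zpowers_of_card_dvd_prime hpp I (hdvd I hIA hIneA)
    -- every commutator centralizes A = C I, hence lies in A
    have hder : ∀ n m : N, n * m * n⁻¹ * m⁻¹ ∈ A := fun n m => by
      rw [← hAself, Subgroup.mem_centralizer_iff]
      intro a ha
      have haA : a ∈ A := ha
      obtain ⟨k, hk⟩ := hpodd
      have hxC : a * φ a ∈ C := ⟨A.mul_mem haA (hφA a haA), by
        calc φ (a * φ a) = φ a * φ (φ a) := by simp only [φ]; group
          _ = a * φ a := by rw [hφφ, hcomm _ haA _ (hφA a haA)]⟩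
      have hyI : a * (φ a)⁻¹ ∈ I := ⟨A.mul_mem haA (inv_mem (hφA a haA)), by
        calc φ (a * (φ a)⁻¹) = φ a * (φ (φ a))⁻¹ := by simp only [φ]; group
          _ = (a * (φ a)⁻¹)⁻¹ := by rw [hφφ]; group⟩
      have hcz : ∀ c : N, (Subgroup.zpowers c).Normal → ∀ x ∈ Subgroup.zpowers c,
          Commute (n * m * n⁻¹ * m⁻¹) x := fun c hc x hx => by
        obtain ⟨i, rfl⟩ := Subgroup.mem_zpowers_iff.1 hx
        exact (show Commute (n * m * n⁻¹ * m⁻¹) c from commutator_centralizes c hc n m).zpow_right i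
      have h1 := hcz c (hc ▸ hCn) _ (hc ▸ hxC)
      have h2 := hcz d (hd ▸ hIn) _ (hd ▸ hyI)
      have h3 : (a * φ a) * (a * (φ a)⁻¹) = a * a := by
        calc (a * φ a) * (a * (φ a)⁻¹) = a * (φ a * a) * (φ a)⁻¹ := by group
          _ = a * (a * φ a) * (φ a)⁻¹ := by rw [hcomm _ (hφA a haA) _ haA]
          _ = a * a := by group
      have h4 : (a * a) ^ (k + 1) = a := by
        rw [← pow_two, ← pow_mul, show 2 * (k + 1) = p + 1 by omega, pow_succ, hpow a haA, one_mul]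
      have h5 : Commute (n * m * n⁻¹ * m⁻¹) a := by
        rw [← h4, ← h3]
        exact (h1.mul_right h2).pow_right _
      exact h5.eq.symm
    have habel : ∀ x y : Matrix.SpecialLinearGroup (Fin 2) F, x * y = y * x := fun x y => by
      obtain ⟨n, hn⟩ := QuotientGroup.mk_surjective (e.symm x)
      obtain ⟨m, hm⟩ := QuotientGroup.mk_surjective (e.symm y)
      have h := hder n m
      rw [← QuotientGroup.eq_one_iff] at h
      simp only [QuotientGroup.mk_mul, QuotientGroup.mk_inv, hn, hm] at h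
      rw [← map_inv, ← map_inv, ← map_mul, ← map_mul, ← map_mul, MulEquiv.map_eq_one_iff,
        mul_inv_eq_one, mul_inv_eq_iff_eq_mul] at h
      exact h
    let u : Matrix.SpecialLinearGroup (Fin 2) F := ⟨!![1, 1; 0, 1], by simp [Matrix.det_fin_two_of]⟩
    let v : Matrix.SpecialLinearGroup (Fin 2) F := ⟨!![1, 0; 1, 1], by simp [Matrix.det_fin_two_of]⟩
    have h00 : (!![1, 1; 0, 1] * !![1, 0; 1, 1] : Matrix (Fin 2) (Fin 2) F) 0 0 =
        (!![1, 0; 1, 1] * !![1, 1; 0, 1] : Matrix (Fin 2) (Fin 2) F) 0 0 :=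
      congrFun (congrFun (congrArg Subtype.val (habel u v)) 0) 0
    simp [Matrix.mul_apply, Fin.sum_univ_two] at h00
  refine ⟨Subgroup.centralizer {t}, ?_, ?_⟩
  · rw [eq_bot_iff, ← hCbot]
    intro a ha
    obtain ⟨haA, hat⟩ := Subgroup.mem_inf.1 ha
    refine ⟨haA, ?_⟩
    rw [Subgroup.mem_centralizer_singleton_iff] at hat
    calc φ a = (t * a) * t⁻¹ := rfl
      _ = (a * t) * t⁻¹ := by rw [hat]
      _ = a := by group
  · rw [eq_top_iff]
    intro n _
    let g : A → A := fun b => ⟨(b : N) * (φ b)⁻¹, A.mul_mem b.2 (inv_mem (hφA b b.2))⟩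
    have hg : Function.Injective g := fun b b' h => by
      have h' : (b : N) * (φ b)⁻¹ = (b' : N) * (φ b')⁻¹ := congrArg Subtype.val h
      have hmem : (b' : N)⁻¹ * b ∈ C := ⟨A.mul_mem (inv_mem b'.2) b.2, by
        have e1 : φ ((b' : N)⁻¹ * b) = (φ b')⁻¹ * φ b := by simp only [φ]; group
        rw [e1]
        have e2 : (b' : N)⁻¹ * b = (φ b')⁻¹ * φ b := by
          calc (b' : N)⁻¹ * b = (b' : N)⁻¹ * ((b : N) * (φ b)⁻¹) * φ b := by group
            _ = (b' : N)⁻¹ * ((b' : N) * (φ b')⁻¹) * φ b := by rw [h']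
            _ = _ := by group
        exact e2.symm⟩
      rw [hCbot, Subgroup.mem_bot, inv_mul_eq_one] at hmem
      exact Subtype.ext hmem.symm
    obtain ⟨b, hb⟩ := (Finite.injective_iff_surjective.1 hg) ⟨(n * t * n⁻¹ * t⁻¹)⁻¹, inv_mem (hcen n)⟩
    have hb' : (b : N) * (φ b)⁻¹ = (n * t * n⁻¹ * t⁻¹)⁻¹ := congrArg Subtype.val hb
    have hmem : (b : N) * n ∈ Subgroup.centralizer ({t} : Set N) := by
      rw [Subgroup.mem_centralizer_singleton_iff]
      have hc := hcomm _ (hcen n) _ b.2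
      have h1 : ((b : N) * n) * t * ((b : N) * n)⁻¹ * t⁻¹ = 1 := by
        calc ((b : N) * n) * t * ((b : N) * n)⁻¹ * t⁻¹
            = (b : N) * (n * t * n⁻¹ * t⁻¹) * (φ b)⁻¹ := by simp only [φ]; group
          _ = (n * t * n⁻¹ * t⁻¹) * ((b : N) * (φ b)⁻¹) := by rw [← hc]; group
          _ = 1 := by rw [hb', mul_inv_cancel]
      rw [mul_inv_eq_one, mul_inv_eq_iff_eq_mul] at h1
      exact h1
    have : n = (b : N)⁻¹ * ((b : N) * n) := by group
    rw [this]
    exact Subgroup.mul_mem_sup (inv_mem b.2) hmem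

end Cfsg.Agent.S3075
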