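import Cfsg.Statements.S3076
import Cfsg.Agent.EqLemmas
import Cfsg.Agent.S1907

set_option autoImplicit false
open Cfsg

namespace Cfsg.Agent.S3076


/-- The statement inside the normalizer: `H` normal, `C` its centralizer. -/
theorem inside {M : Type*} [Group M] [Finite M] {p : ℕ} [Fact p.Prime] (S : Sylow p M)
    (H C : Subgroup M) [hHn : H.Normal] [hCn : C.Normal] (hC : C = Subgroup.centralizer (H : Set M))
    (hH : IsPGroup p H) :
    H ≤ (Cfsg.pCore p (M ⧸ C)).comap (QuotientGroup.mk' C) ∧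
    ((¬ p ∣ H.relIndex ((Cfsg.pCore p (M ⧸ C)).comap (QuotientGroup.mk' C))) ↔
      ((S : Subgroup M) ⊓ C ≤ H ∧ Cfsg.pPrimePCore p M = H ⊔ C)) := by
  have hpp : p.Prime := Fact.out
  set B := (Cfsg.pCore p (M ⧸ C)).comap (QuotientGroup.mk' C) with hB
  set O := Cfsg.pPrimeCore p M with hO
  set T := Cfsg.pPrimePCore p M with hT
  have hHB : H ≤ B := Subgroup.map_le_iff_le_comap.1
    (Cores.le_pCore (hHn.map _ (QuotientGroup.mk'_surjective C)) (hH.map _))
  have hCB : C ≤ B := by
    intro c hc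
    rw [hB, Subgroup.mem_comap, QuotientGroup.mk'_apply, (QuotientGroup.eq_one_iff c).2 hc]
    exact one_mem _
  refine ⟨hHB, ?_⟩
  -- B / C is a p-group
  obtain ⟨k, hk⟩ : ∃ k, C.relIndex B = p ^ k := by
    have h1 := Subgroup.relIndex_ker (K := B) (f := QuotientGroup.mk' C)
    rw [QuotientGroup.ker_mk', hB, Subgroup.map_comap_eq_self_of_surjective (QuotientGroup.mk'_surjective C),
      ← hB] at h1
    obtain ⟨k, hk⟩ := IsPGroup.iff_card.1 (Cores.isPGroup_pCore p (M ⧸ C))
    exact ⟨k, h1.trans hk⟩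
  have hHO : H ≤ T := Subgroup.map_le_iff_le_comap.1
    (Cores.le_pCore (hHn.map _ (QuotientGroup.mk'_surjective _)) (hH.map _))
  have hOT : O ≤ T := by
    intro c hc
    rw [hT, Cfsg.pPrimePCore, Subgroup.mem_comap, QuotientGroup.mk'_apply, (QuotientGroup.eq_one_iff c).2 hc]
    exact one_mem _
  have hOC : O ≤ C := by
    intro o ho
    rw [hC, Subgroup.mem_centralizer_iff]
    intro x hx
    exact (Cores.pCore_pPrimeCore_commute (Cores.le_pCore hHn hH hx) ho).eq
  have hTB : T ≤ B := by
    have hTn : T.Normal := Subgroup.Normal.comap inferInstance _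
    refine Subgroup.map_le_iff_le_comap.1 (Cores.le_pCore (hTn.map _ (QuotientGroup.mk'_surjective C)) ?_)
    rintro ⟨_, t, ht, rfl⟩
    obtain ⟨j, hj⟩ := S1907.isPGroup_pPrimePCore_mod t ht
    refine ⟨j, Subtype.ext ?_⟩
    rw [SubgroupClass.coe_pow, OneMemClass.coe_one, ← map_pow]
    exact (QuotientGroup.eq_one_iff _).2 (hOC hj)
  obtain ⟨Q, hQ⟩ := S1907.inf_normal_eq_map S C
  -- if the Sylow subgroup of C lies in H then C ≤ H ⊔ O
  have hCle : (S : Subgroup M) ⊓ C ≤ H → C ≤ H ⊔ O := by
    intro hSC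
    have hcomm : Subgroup.normalizer ((Q : Subgroup C) : Set C) ≤ Subgroup.centralizer ((Q : Subgroup C) : Set C) := by
      intro c _
      rw [Subgroup.mem_centralizer_iff]
      intro q hq
      have hqH : (q : M) ∈ H := hSC (hQ ▸ Subgroup.mem_map_of_mem C.subtype hq)
      have hcC : (c : M) ∈ Subgroup.centralizer (H : Set M) := hC ▸ c.2
      exact Subtype.ext (Subgroup.mem_centralizer_iff.1 hcC _ hqH)
    set K := (MonoidHom.transferSylow Q hcomm).ker with hK
    have hKQ : Subgroup.IsComplement' K (Q : Subgroup C) :=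
      MonoidHom.ker_transferSylow_isComplement' Q hcomm
    have hKcop : (Nat.card K).Coprime p := by
      have h := MonoidHom.not_dvd_card_ker_transferSylow Q hcomm
      exact ((Nat.Prime.coprime_iff_not_dvd hpp).2 h).symm
    have hKO : K.map C.subtype ≤ O := by
      refine le_trans (Subgroup.map_mono (Cores.le_pPrimeCore inferInstance hKcop)) ?_
      rw [Cores.pPrimeCore_map_subtype]
      exact inf_le_left
    intro c hc
    obtain ⟨⟨⟨a, ha⟩, ⟨b, hb⟩⟩, hab⟩ := (Subgroup.isComplement'_def.1 hKQ).2 ⟨c, hc⟩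
    have hab' : (a : M) * (b : M) = c := congrArg Subtype.val hab
    rw [← hab']
    exact mul_mem (Subgroup.mem_sup_right (hKO (Subgroup.mem_map_of_mem C.subtype ha)))
      (Subgroup.mem_sup_left (hSC (hQ ▸ Subgroup.mem_map_of_mem C.subtype hb)))
  constructor
  · intro hnd
    have hpsub : ∀ x ∈ B, (∃ j : ℕ, x ^ p ^ j = 1) → x ∈ H := by
      intro x hx hxp
      obtain ⟨j, hj⟩ := hxp
      have hidx : x ^ H.relIndex B ∈ H := by
        haveI : (H.subgroupOf B).Normal := hHn.subgroupOf B
        exact Subgroup.mem_subgroupOf.1 ((H.subgroupOf B).pow_index_mem ⟨x, hx⟩)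
      have hg : x ^ Nat.gcd (p ^ j) (H.relIndex B) = 1 ∨ x ∈ H := by
        right
        have hcop : Nat.Coprime (H.relIndex B) (p ^ j) :=
          (((Nat.Prime.coprime_iff_not_dvd hpp).2 hnd).symm.pow_right j)
        obtain ⟨m, hm⟩ := exists_pow_eq_self_of_coprime
          (show Nat.Coprime (H.relIndex B) (orderOf x) from
            hcop.coprime_dvd_right (orderOf_dvd_of_pow_eq_one hj))
        rw [← hm]
        exact pow_mem hidx m
      rcases hg with h | h
      · have hcop : Nat.gcd (p ^ j) (H.relIndex B) = 1 :=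
          ((Nat.Prime.coprime_iff_not_dvd hpp).2 hnd).pow_left j
        rw [hcop, pow_one] at h
        exact h ▸ one_mem H
      · exact h
    have hSC : (S : Subgroup M) ⊓ C ≤ H := fun x hx => hpsub x (hCB hx.2) (by
      obtain ⟨j, hj⟩ := S.isPGroup' ⟨x, hx.1⟩
      exact ⟨j, by simpa using congrArg Subtype.val hj⟩)
    refine ⟨hSC, le_antisymm (hTB.trans ?_) (sup_le hHO ((hCle hSC).trans (sup_le hHO hOT)))⟩
    rw [← Subgroup.relIndex_eq_one]
    have h1 : (H ⊔ C).relIndex B ∣ p ^ k := hk ▸ Subgroup.relIndex_dvd_of_le_left B le_sup_right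
    have h2 : (H ⊔ C).relIndex B ∣ H.relIndex B := Subgroup.relIndex_dvd_of_le_left B le_sup_left
    exact Nat.eq_one_of_dvd_coprimes (((Nat.Prime.coprime_iff_not_dvd hpp).2 hnd).pow_left k) h1 h2
  · rintro ⟨hSC, hTeq⟩
    have hBT : B ≤ T := by
      refine Subgroup.map_le_iff_le_comap.1 (Cores.le_pCore
        ((Subgroup.Normal.comap inferInstance _).map _ (QuotientGroup.mk'_surjective _)) ?_)
      rintro ⟨_, b, hb, rfl⟩
      obtain ⟨j, hj⟩ := Cores.isPGroup_pCore p (M ⧸ C) ⟨QuotientGroup.mk' C b, hb⟩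
      have hbC : b ^ p ^ j ∈ C := (QuotientGroup.eq_one_iff _).1 (by simpa using congrArg Subtype.val hj)
      obtain ⟨i, hi⟩ := S1907.isPGroup_pPrimePCore_mod (b ^ p ^ j)
        ((hCle hSC).trans (sup_le hHO hOT) hbC)
      refine ⟨j + i, Subtype.ext ?_⟩
      rw [SubgroupClass.coe_pow, OneMemClass.coe_one, ← map_pow, pow_add, pow_mul]
      exact (QuotientGroup.eq_one_iff _).2 hi
    intro hd
    have h1 : p ∣ H.relIndex (H ⊔ C) := hd.trans
      (Dvd.intro _ (Subgroup.relIndex_mul_relIndex H B (H ⊔ C) hHB (hBT.trans hTeq.le)))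
    rw [sup_comm, Subgroup.relIndex_sup_right] at h1
    have h2 : H.relIndex C ∣ (Q : Subgroup C).index :=
      Subgroup.index_dvd_of_le (fun q hq =>
        Subgroup.mem_subgroupOf.2 (hSC (hQ ▸ Subgroup.mem_map_of_mem C.subtype hq)))
    exact Q.not_dvd_index (h1.trans h2)

/-- Let P be a Sylow p-subgroup of the finite group G and H ≤ P a subgroup with N_P(H) a Sylow p-subgroup of N_G(H). Let N be the preimage in N_G(H) of O_p(N_G(H)/C_G(H)). Then H is a Sylow p-subgroup of N if and only if C_P(H) ≤ H and O_{p',p}(N_G(H)) = H·C_G(H). -/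
theorem result {G : Type*} [Group G] [Finite G] {p : ℕ} [Fact p.Prime]
    (P : Sylow p G) (H : Subgroup G) (hHP : H ≤ (P : Subgroup G))
    (hSyl : ¬ p ∣ ((P : Subgroup G) ⊓ Subgroup.normalizer (H : Set G)).relIndex (Subgroup.normalizer (H : Set G)))
    [hC : ((Subgroup.centralizer (H : Set G)).subgroupOf (Subgroup.normalizer (H : Set G))).Normal] :
    (H ≤ ((Cfsg.pCore p (↥(Subgroup.normalizer (H : Set G)) ⧸
              (Subgroup.centralizer (H : Set G)).subgroupOf (Subgroup.normalizer (H : Set G)))).comap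
            (QuotientGroup.mk' _)).map (Subgroup.normalizer (H : Set G)).subtype ∧
      ¬ p ∣ H.relIndex (((Cfsg.pCore p (↥(Subgroup.normalizer (H : Set G)) ⧸
              (Subgroup.centralizer (H : Set G)).subgroupOf (Subgroup.normalizer (H : Set G)))).comap
            (QuotientGroup.mk' _)).map (Subgroup.normalizer (H : Set G)).subtype)) ↔
    ((P : Subgroup G) ⊓ Subgroup.centralizer (H : Set G) ≤ H ∧
      (Cfsg.pPrimePCore p ↥(Subgroup.normalizer (H : Set G))).map (Subgroup.normalizer (H : Set G)).subtype =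
        H ⊔ Subgroup.centralizer (H : Set G)) := by
  classical
  set M := Subgroup.normalizer (H : Set G) with hM
  have hle : H ≤ M := Subgroup.le_normalizer
  haveI : (H.subgroupOf M).Normal := Subgroup.normal_in_normalizer
  have hSp : IsPGroup p (((P : Subgroup G) ⊓ M).subgroupOf M) := by
    refine IsPGroup.comap_subtype ?_
    exact P.isPGroup'.to_le inf_le_left
  let S : Sylow p M := hSp.toSylow hSyl
  have hC' : (Subgroup.centralizer (H : Set G)).subgroupOf M
      = Subgroup.centralizer ((H.subgroupOf M : Subgroup M) : Set M) := by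
    ext x
    simp only [Subgroup.mem_subgroupOf, Subgroup.mem_centralizer_iff, SetLike.mem_coe]
    exact ⟨fun h y hy => Subtype.ext (h _ hy), fun h y hy =>
      congrArg Subtype.val (h ⟨y, hle hy⟩ hy)⟩
  have hCM : Subgroup.centralizer (H : Set G) ≤ M := by
    intro x hx
    rw [hM, Subgroup.mem_normalizer_iff]
    intro y
    constructor
    · intro hy
      rw [← Subgroup.mem_centralizer_iff.1 hx y hy, mul_inv_cancel_right]
      exact hy
    · intro hy
      have h2 : x * (x * y * x⁻¹) * x⁻¹ = x * y * x⁻¹ := by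
        rw [← Subgroup.mem_centralizer_iff.1 hx _ hy, mul_inv_cancel_right]
      rw [mul_left_inj, mul_right_inj] at h2
      rwa [h2] at hy
  obtain ⟨h1, h2⟩ := inside S (H.subgroupOf M) ((Subgroup.centralizer (H : Set G)).subgroupOf M) hC'
    ((P.isPGroup'.to_le hHP).comap_subtype)
  set B := (Cfsg.pCore p (M ⧸ (Subgroup.centralizer (H : Set G)).subgroupOf M)).comap
    (QuotientGroup.mk' ((Subgroup.centralizer (H : Set G)).subgroupOf M)) with hBdef
  have eH : (H.subgroupOf M).map M.subtype = H := Subgroup.map_subgroupOf_eq_of_le hle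
  have eC : ((Subgroup.centralizer (H : Set G)).subgroupOf M).map M.subtype
      = Subgroup.centralizer (H : Set G) := Subgroup.map_subgroupOf_eq_of_le hCM
  have e1 : H ≤ B.map M.subtype := eH.symm.le.trans (Subgroup.map_mono h1)
  have e2 : H.relIndex (B.map M.subtype) = (H.subgroupOf M).relIndex B := by
    conv_lhs => rw [← eH]
    exact Subgroup.relIndex_map_map_of_injective _ _ M.subtype_injective
  have e3 : (S : Subgroup M) ⊓ (Subgroup.centralizer (H : Set G)).subgroupOf M ≤ H.subgroupOf M ↔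
      (P : Subgroup G) ⊓ Subgroup.centralizer (H : Set G) ≤ H := by
    constructor
    · intro h x hx
      exact h (show (⟨x, hCM hx.2⟩ : M) ∈ _ from ⟨⟨hx.1, hCM hx.2⟩, hx.2⟩)
    · intro h x hx
      exact h ⟨hx.1.1, hx.2⟩
  have e4 : Cfsg.pPrimePCore p M = H.subgroupOf M ⊔ (Subgroup.centralizer (H : Set G)).subgroupOf M ↔
      (Cfsg.pPrimePCore p M).map M.subtype = H ⊔ Subgroup.centralizer (H : Set G) := by
    have : (H.subgroupOf M ⊔ (Subgroup.centralizer (H : Set G)).subgroupOf M).map M.subtype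
        = H ⊔ Subgroup.centralizer (H : Set G) := by rw [Subgroup.map_sup, eH, eC]
    rw [← this, (Subgroup.map_injective M.subtype_injective).eq_iff]
  rw [e2, ← e3, ← e4, ← h2]
  exact ⟨fun h => h.2, fun h => ⟨e1, h⟩⟩

end Cfsg.Agent.S3076
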