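import Cfsg.Statements.S3078
import Cfsg.Agent.Lib.PLocal.Glauberman

set_option autoImplicit false
open Cfsg

namespace Cfsg.Agent.S3078

open Cfsg.Agent.PLocal
open scoped commutatorElement

theorem card_omega_le {G : Type*} [Group G] [Finite G] {p : ℕ} [Fact p.Prime] (hp : p ≠ 2) {A B : Subgroup G}
    {b : G} (h : GSetup A B b) (hab : IsMulCommutative (gStar A b)) :
    Nat.card (Cfsg.omegaOne p A) ≤ Nat.card (Cfsg.omegaOne p (gStar A b)) := by
  classical
  set D := A ⊓ A.map (MulAut.conj b⁻¹).toMonoidHom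
  set E := Cfsg.omegaOne p A
  have hEp : ∀ a ∈ E, a ^ p = 1 :=
    (omegaOne_elemAb (p := p) (Subgroup.le_centralizer_iff_isMulCommutative.2 h.abA)).2
  have hEA : E ≤ A := omegaOne_le A
  -- the generators coming from `E` have order dividing `p`
  have hgen : ∀ a ∈ E, ∀ d ∈ D, d ^ p = 1 → (a * (b⁻¹ * a⁻¹ * b) * d) ^ p = 1 := by
    intro a haE d hd hdp
    have ha := hEA haE
    set u := b⁻¹ * a⁻¹ * b
    have hu : u ∈ A.map (MulAut.conj b⁻¹).toMonoidHom := h.conj_mem_mapA (A.inv_mem ha)
    have hup : u ^ p = 1 := by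
      have := (conj_pow (i := p) (a := b⁻¹) (b := a⁻¹))
      rw [inv_inv] at this
      rw [this, inv_pow, hEp a haE, inv_one, mul_one, inv_mul_cancel]
    set z := ⁅u, a⁆
    have hz := h.commutator_mem hu ha
    have c1 : Commute z u := h.comm_mapA hz.2 hu
    have c2 : Commute z a := h.comm_A hz.1 ha
    have hua : ∀ n, u ^ n * a = a * u ^ n * z ^ n := by
      intro n
      induction n with
      | zero => simp
      | succ n ih =>
        have h1 : u * a = a * u * z := by
          calc u * a = z * (a * u) := by simp only [z, commutatorElement_def]; group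
            _ = _ := (c2.mul_right c1).eq
        calc u ^ (n + 1) * a = u ^ n * (u * a) := by rw [pow_succ]; group
          _ = (u ^ n * a) * u * z := by rw [h1]; group
          _ = a * u ^ n * (z ^ n * u) * z := by rw [ih]; group
          _ = _ := by rw [(c1.pow_left n).eq, pow_succ, pow_succ]; group
    have hzp : z ^ p = 1 := by simpa [hup] using (hua p).symm
    have hpow : ∀ n, (a * u) ^ n = a ^ n * u ^ n * z ^ (n.choose 2) := by
      intro n
      induction n with
      | zero => simp
      | succ n ih =>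
        have hzc : Commute (z ^ n.choose 2) (a * u) := ((c2.pow_left _).mul_right (c1.pow_left _))
        calc (a * u) ^ (n + 1) = a ^ n * u ^ n * (z ^ n.choose 2 * (a * u)) := by rw [pow_succ, ih]; group
          _ = a ^ n * (u ^ n * a) * u * z ^ n.choose 2 := by rw [hzc.eq]; group
          _ = a ^ n * a * u ^ n * (z ^ n * u) * z ^ n.choose 2 := by rw [hua]; group
          _ = _ := by
            rw [(c1.pow_left n).eq, Nat.choose_succ_succ, Nat.choose_one_right, pow_add, pow_succ, pow_succ]
            group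
    obtain ⟨m, hm⟩ := Nat.Prime.dvd_choose_self (Fact.out : p.Prime) two_ne_zero
      (lt_of_le_of_ne (Fact.out : p.Prime).two_le (Ne.symm hp))
    have hde : Commute (a * u) d := (h.comm_A ha hd.1).mul_left (h.comm_mapA hu hd.2)
    rw [hde.mul_pow, hdp, mul_one, hpow, hEp a haE, hup, hm, pow_mul, hzp, one_pow, one_mul, one_mul]
  -- a transversal of `D` in `E`
  let D' := D.subgroupOf E
  let r : E ⧸ D' → E := fun q => q.out
  let Φ : E → Cfsg.omegaOne p (gStar A b) := fun e =>
    ⟨(r e : G) * (b⁻¹ * ((r e : E) : G)⁻¹ * b) * (((r e : E)⁻¹ * e : E) : G), by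
      have hd : (((r e : E)⁻¹ * e : E) : G) ∈ D :=
        Subgroup.mem_subgroupOf.1 (QuotientGroup.eq.1 (QuotientGroup.out_eq' (e : E ⧸ D')))
      refine mem_omegaOne (Subgroup.mul_mem _ ?_ (Subgroup.mem_sup_left hd))
        (hgen _ (r e).2 _ hd (hEp _ ((r e : E)⁻¹ * e).2))
      exact Subgroup.mem_sup_right (Subgroup.subset_closure ⟨_, hEA (r e).2, by group⟩)⟩
  refine Nat.card_le_card_of_injective Φ fun e e' he => ?_
  have he' : (r e : G) * (b⁻¹ * (r e : G)⁻¹ * b) * (((r e : E)⁻¹ * e : E) : G) =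
      (r e' : G) * (b⁻¹ * (r e' : G)⁻¹ * b) * (((r e' : E)⁻¹ * e' : E) : G) := congrArg Subtype.val he
  set a := (r e : G)
  set a' := (r e' : G)
  set d := (((r e : E)⁻¹ * e : E) : G)
  set d' := (((r e' : E)⁻¹ * e' : E) : G)
  have hd : d ∈ D := Subgroup.mem_subgroupOf.1 (QuotientGroup.eq.1 (QuotientGroup.out_eq' (e : E ⧸ D')))
  have hd' : d' ∈ D := Subgroup.mem_subgroupOf.1 (QuotientGroup.eq.1 (QuotientGroup.out_eq' (e' : E ⧸ D')))
  have hsame : (e : E ⧸ D') = (e' : E ⧸ D') := by
    rw [← QuotientGroup.out_eq' (e : E ⧸ D'), ← QuotientGroup.out_eq' (e' : E ⧸ D'), QuotientGroup.eq,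
      Subgroup.mem_subgroupOf]
    show a⁻¹ * a' ∈ D
    refine ⟨A.mul_mem (A.inv_mem (hEA (r e).2)) (hEA (r e').2), ?_⟩
    have e1 : a⁻¹ * a' = (b⁻¹ * a⁻¹ * b) * d * d'⁻¹ * (b⁻¹ * a'⁻¹ * b)⁻¹ := by
      calc a⁻¹ * a' = a⁻¹ * (a' * (b⁻¹ * a'⁻¹ * b) * d') * d'⁻¹ * (b⁻¹ * a'⁻¹ * b)⁻¹ := by group
        _ = _ := by rw [← he']; group
    rw [e1]
    exact Subgroup.mul_mem _ (Subgroup.mul_mem _ (Subgroup.mul_mem _
      (h.conj_mem_mapA (A.inv_mem (hEA (r e).2))) hd.2) (Subgroup.inv_mem _ hd'.2))
      (Subgroup.inv_mem _ (h.conj_mem_mapA (A.inv_mem (hEA (r e').2))))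
  have haa : a = a' := by simp only [a, a', r, hsame]
  rw [← haa] at he'
  have hdd := mul_left_cancel he'
  apply Subtype.ext
  calc (e : G) = a * d := by simp [a, d]
    _ = a' * d' := by rw [haa, hdd]
    _ = e' := by simp [a', d']

/-- A replacement Theorem for abelian subgroups of p-groups, p odd. Let G be a finite p-group with p odd, A an abelian subgroup of G, and B a subgroup of nilpotency class at most 2 with [B, B] ≤ A, such that A normalizes B but B does not normalize A. Then there is an abelian subgroup A* of G of the same order as A with A ∩ B strictly contained in A* ∩ B, A* contained in N_G(A) and in the normal closure of A, the exponent of A* dividing the exponent of A, and with the subgroup generated by the elements of order dividing p in A of order at most that of the corresponding subgroup of A* (the rank of A is at most the rank of A*). -/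
theorem result {G : Type*} [Group G] [Finite G] {p : ℕ} [Fact p.Prime] (hp : p ≠ 2) (hG : IsPGroup p G) (A B : Subgroup G) (hA : IsMulCommutative A) (hB2 : ⁅⁅B, B⁆, B⁆ = ⊥) (hBA : ⁅B, B⁆ ≤ A) (hAB : A ≤ Subgroup.normalizer (B : Set G)) (hBnA : ¬ B ≤ Subgroup.normalizer (A : Set G)) : ∃ Astar : Subgroup G, IsMulCommutative Astar ∧ Nat.card Astar = Nat.card A ∧ A ⊓ B < Astar ⊓ B ∧ Astar ≤ Subgroup.normalizer (A : Set G) ∧ Astar ≤ Subgroup.normalClosure (A : Set G) ∧ Monoid.exponent Astar ∣ Monoid.exponent A ∧ Nat.card (Cfsg.omegaOne p A) ≤ Nat.card (Cfsg.omegaOne p Astar) := by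
  set S := A ⊔ B
  have hAS : A ≤ S := le_sup_left
  have hBS : B ≤ S := le_sup_right
  have hS : IsPGroup p S := hG.to_subgroup S
  have hiS : Set.InjOn S.subtype (⊤ : Subgroup S) := S.subtype_injective.injOn
  set A₁ := A.subgroupOf S
  set B₁ := B.subgroupOf S
  have eA : A₁.map S.subtype = A := Subgroup.map_subgroupOf_eq_of_le hAS
  have eB : B₁.map S.subtype = B := Subgroup.map_subgroupOf_eq_of_le hBS
  haveI hBn : B₁.Normal :=
    (Subgroup.normal_subgroupOf_iff_le_normalizer hBS).2 (sup_le hAB Subgroup.le_normalizer)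
  have hnot₁ : ¬ B₁ ≤ Subgroup.normalizer (A₁ : Set S) := fun h => hBnA fun x hx => by
    have hx1 : (⟨x, hBS hx⟩ : S) ∈ B₁ := hx
    have := h hx1
    rwa [← Subgroup.subgroupOf_normalizer_eq hAS, Subgroup.mem_subgroupOf] at this
  obtain ⟨b, hb, hbN, hbA⟩ := exists_mem_normalizer_normalizer hS hnot₁
  have hA₁ : IsMulCommutative A₁ := (abelian_map_iff hiS le_top).1 (eA.symm ▸ hA)
  have hder : ⁅B₁, B₁⁆ ≤ A₁ := Subgroup.map_le_iff_le_comap.1 (by rw [Subgroup.map_commutator, eB]; exact hBA)
  have h : GSetup A₁ B₁ b := ⟨hBn, hA₁, hder, hb, hbN⟩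
  have hab := h.gStar_abelian hS fun e => absurd e hp
  have hexp : ∀ H : Subgroup S, Monoid.exponent ↥(H.map S.subtype) = Monoid.exponent H := fun H =>
    Monoid.exponent_eq_of_mulEquiv (H.equivMapOfInjective S.subtype S.subtype_injective).symm
  refine ⟨(gStar A₁ b).map S.subtype, (abelian_map_iff hiS le_top).2 hab, ?_, ?_, ?_, ?_, ?_, ?_⟩
  · rw [Subgroup.card_map_of_injective S.subtype_injective, h.card_gStar, ← eA,
      Subgroup.card_map_of_injective S.subtype_injective]
  · rw [← eA, ← eB, ← Subgroup.map_inf _ _ _ S.subtype_injective, ← Subgroup.map_inf _ _ _ S.subtype_injective]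
    exact (Subgroup.map_lt_map_iff_of_injective S.subtype_injective).2 (h.inf_lt hbA)
  · refine (Subgroup.map_mono h.gStar_le_normalizer).trans ?_
    conv_rhs => rw [← eA]
    exact Subgroup.le_normalizer_map S.subtype
  · refine Subgroup.map_le_iff_le_comap.2 (h.gStar_le ?_ ?_)
    · exact Subgroup.map_le_iff_le_comap.1 (eA.le.trans Subgroup.le_normalClosure)
    · rw [Subgroup.normalizer_eq_top]; exact Subgroup.mem_top _
  · have h1 := hexp A₁
    rw [eA] at h1
    rw [hexp, h1]
    exact h.pow_exponent hS hp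
  · rw [← map_omegaOne S.subtype S.subtype_injective.injOn, ← eA,
      ← map_omegaOne S.subtype S.subtype_injective.injOn,
      Subgroup.card_map_of_injective S.subtype_injective, Subgroup.card_map_of_injective S.subtype_injective]
    exact card_omega_le hp h hab

end Cfsg.Agent.S3078
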