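import Cfsg.Statements.S3079
import Cfsg.Agent.Lib.PLocal.ClosedFactor

set_option autoImplicit false
open Cfsg

namespace Cfsg.Agent.S3079

/-- Theorem (Glauberman): for an odd prime p, a p-stable group with C_G(O_p(G)) contained in O_p(G) and a strongly closed subgroup D of a Sylow p-subgroup, both Z(J(D)) (abelian version) and Ω₁(Z(J_e(D))) are normal. -/
theorem result {G : Type*} [Group G] [Finite G] {p : ℕ} [Fact p.Prime] (hp : p ≠ 2) (P : Sylow p G) (D : Subgroup G) (hD : Cfsg.IsStronglyClosed D (P : Subgroup G)) (hst : Cfsg.IsNormalizerPStable p G) (hc : Subgroup.centralizer ((Cfsg.pCore p G : Subgroup G) : Set G) ≤ Cfsg.pCore p G) : (Cfsg.centerThompsonAOf D).Normal ∧ (Cfsg.omegaOne p (Cfsg.centerThompsonOf p D)).Normal := by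
  exact ⟨PLocal.centerThompsonAOf_normal_closed hp hc
      (fun Q _ hQ => PLocal.isPStableOn_of_isNormalizerPStable hst Q hQ) P hD,
    PLocal.omegaCenterThompson_normal_closed hp hc
      (fun Q _ hQ => PLocal.isPStableOn_of_isNormalizerPStable hst Q hQ) P hD⟩

end Cfsg.Agent.S3079
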