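import Cfsg.Statements.S3080
import Cfsg.Agent.Lib.PStab.ClosedControl

set_option autoImplicit false
open Cfsg

namespace Cfsg.Agent.S3080

/-- Theorem (Glauberman): for an odd prime p, in a p-stable group all of whose p-local normalizers are p-constrained, the normalizers of Z(J(D)) and of Ω₁(Z(J_e(D))) of a strongly closed subgroup D control strong fusion in P. -/
theorem result {G : Type*} [Group G] [Finite G] {p : ℕ} [Fact p.Prime] (hp : p ≠ 2) (P : Sylow p G) (D : Subgroup G) (hD : Cfsg.IsStronglyClosed D (P : Subgroup G)) (hst : Cfsg.IsNormalizerPStable p G) (hc : ∀ U : Subgroup G, U ≤ (P : Subgroup G) → U ≠ ⊥ → Cfsg.IsPConstrained p ↥(Subgroup.normalizer (U : Set G))) : (∀ A : Set G, A ⊆ (P : Subgroup G) → Cfsg.ControlsStrongFusionOf (Subgroup.normalizer ((Cfsg.centerThompsonAOf D) : Set G)) (P : Subgroup G) A) ∧ (∀ A : Set G, A ⊆ (P : Subgroup G) → Cfsg.ControlsStrongFusionOf (Subgroup.normalizer ((Cfsg.omegaOne p (Cfsg.centerThompsonOf p D)) : Set G)) (P : Subgroup G)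 A) := by
  constructor
  · intro A hA
    refine ⟨hA, fun g hg => ?_⟩
    obtain ⟨n, hn, he⟩ := PStab.ctlD_centerThompsonAOf hp G hst P D hD A g hA hg
    exact ⟨n, hn, fun a ha => (he a ha).symm⟩
  · intro A hA
    refine ⟨hA, fun g hg => ?_⟩
    obtain ⟨n, hn, he⟩ := PStab.ctlD_omegaCenterThompson hp G hst P D hD A g hA hg
    exact ⟨n, hn, fun a ha => (he a ha).symm⟩

end Cfsg.Agent.S3080
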