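import Cfsg.Statements.S3082
import Cfsg.Agent.Lib.PLocal.ClosedFactor
import Cfsg.Agent.Lib.PLocal.Complements
import Cfsg.Agent.S1250

set_option autoImplicit false
open Cfsg

namespace Cfsg.Agent.S3082

open Subgroup PLocal

universe u

variable {p : ℕ} [Fact p.Prime]

/-- The scheme of a functor applied to strongly closed subgroups. -/
theorem scheme_closed (F : ∀ {X : Type u} [Group X], Subgroup X → Subgroup X)
    (hF : ∀ {X Y : Type u} [Group X] [Group Y] (f : X →* Y) (K : Subgroup X), Set.InjOn f K →
      (F K).map f = F (K.map f))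
    (hle : ∀ {X : Type u} [Group X] (K : Subgroup X), F K ≤ K)
    (hne : ∀ {X : Type u} [Group X] [Finite X] (K : Subgroup X), IsPGroup p K → K ≠ ⊥ → F K ≠ ⊥)
    (hfinal : ∀ {X : Type u} [Group X] [Finite X] (S : Sylow p X) (D : Subgroup X),
      Cfsg.IsStronglyClosed D (S : Subgroup X) → Reduced p (S : Subgroup X) → (F D).Normal) :
    Scheme.{u} p fun G _ S => ∃ D : Subgroup G, Cfsg.IsStronglyClosed D S ∧
      Cfsg.HasNormalPComplement p ↥(normalizer (F D : Set G)) where
  of_char := by
    intro G _ _ R hR h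
    refine ⟨(R : Subgroup G), ⟨le_rfl, fun x _ g hg => hg⟩, ?_⟩
    obtain ⟨hc, hmap⟩ := char_of_functorial (fun {X} [Group X] => F) (fun f K hf => hF f K hf) (R : Subgroup G)
    rw [← hmap]
    refine h _ hc fun e => hne _ R.2 hR ?_
    rw [← hmap, e, Subgroup.map_bot]
  restrict := by
    intro G _ _ S M hSM h
    obtain ⟨D, hD, h⟩ := h
    refine ⟨D.subgroupOf M, ⟨fun x hx => hD.1 hx, fun x hx g hg => hD.2 x hx g hg⟩, ?_⟩
    have hmap : (F (D.subgroupOf M)).map M.subtype = F D := by
      rw [hF _ _ M.subtype_injective.injOn, map_subgroupOf_eq_of_le (hD.1.trans hSM)]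
    refine Transfer.hasNormalPComplement_of_injective h
      ((M.subtype.comp (normalizer (F (D.subgroupOf M) : Set M)).subtype).codRestrict _
        fun x => ?_) fun a b hab => ?_
    · rw [← hmap]; exact le_normalizer_map M.subtype ⟨x, x.2, rfl⟩
    · refine Subtype.ext (Subtype.ext ?_)
      have := congrArg Subtype.val hab
      exact this
  map := by
    intro G G' _ _ _ f hf hker S h
    obtain ⟨D, hD, h⟩ := h
    haveI : Finite G' := Finite.of_surjective f hf
    refine ⟨D.map f, ?_, ?_⟩
    · let e := QuotientGroup.quotientKerEquivOfSurjective f hf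
      have hfe : f = e.toMonoidHom.comp (QuotientGroup.mk' f.ker) := MonoidHom.ext fun x => rfl
      have h1 := S1250.result S D hD f.ker
      rw [hfe, ← Subgroup.map_map, ← Subgroup.map_map]
      refine ⟨Subgroup.map_mono h1.1, ?_⟩
      rintro _ ⟨x, hx, rfl⟩ g hg
      obtain ⟨g, rfl⟩ := e.surjective g
      obtain ⟨y, hy, hye⟩ := hg
      have hy' : y = g * x * g⁻¹ := e.injective (by simpa using hye)
      subst hy'
      exact ⟨_, h1.2 x hx g hy, hye⟩
    · have hDp : IsPGroup p D := S.2.to_le hD.1
      rw [← hF f _ (injOn_of_pGroup f hker hDp), normalizer_map_eq f hf hker (hDp.to_le (hle _))]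
      exact hnpc_of_map h
  final := by
    rintro G _ _ S hr ⟨D, hD, h⟩
    exact hr.not_complement (hnpc_of_normal_normalizer (hfinal S D hD hr) h)

theorem main {G : Type u} [Group G] [Finite G] (hp : p ≠ 2) (P : Sylow p G) (D : Subgroup G)
    (hD : Cfsg.IsStronglyClosed D (P : Subgroup G))
    (h : Cfsg.HasNormalPComplement p ↥(Subgroup.normalizer ((Cfsg.centerThompsonAOf D) : Set G)) ∨
      Cfsg.HasNormalPComplement p ↥(Subgroup.normalizer ((Cfsg.omegaOne p (Cfsg.centerThompsonOf p D)) : Set G))) :
    Cfsg.HasNormalPComplement p G := by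
  rcases h with h | h
  · refine (scheme_closed.{u} (fun {X} [Group X] K => Cfsg.centerThompsonAOf K)
      (fun f K hf => map_centerThompsonAOf f hf) (fun K => inf_le_left.trans (thompsonSubgroupAOf_le K))
      (fun K hK hne e => ?_)
      (fun S D hD hr => centerThompsonAOf_normal_closed hp hr.centralizer_le
        (fun Q _ hQ => hr.shape.pStableOn hp Q hQ) S hD)).hasNormalPComplement P ⟨D, hD, h⟩
    obtain ⟨z, hz, hz1, -⟩ := exists_central_of_order_p hK hne
    exact hz1 (mem_bot.1 (e.le (central_le_centerThompsonAOf hz)))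
  · refine (scheme_closed.{u} (fun {X} [Group X] K => Cfsg.omegaOne p (Cfsg.centerThompsonOf p K))
      (fun f K hf => ?_) (fun K => (omegaOne_le _).trans (inf_le_left.trans (thompsonSubgroupOf_le K)))
      (fun K hK hne e => ?_)
      (fun S D hD hr => omegaCenterThompson_normal_closed hp hr.centralizer_le
        (fun Q _ hQ => hr.shape.pStableOn hp Q hQ) S hD)).hasNormalPComplement P ⟨D, hD, h⟩
    · rw [← map_centerThompsonOf f hf]
      exact map_omegaOne f (hf.mono (SetLike.coe_subset_coe.2 (inf_le_left.trans (thompsonSubgroupOf_le K))))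
    · obtain ⟨z, hz, hz1, hzp⟩ := exists_central_of_order_p hK hne
      exact hz1 (mem_bot.1 (e.le (mem_omegaOne (central_le_centerThompsonOf hz hzp) hzp)))

/-- Theorem (Glauberman–Thompson for strongly closed subgroups): for an odd prime p and a strongly closed subgroup D of a Sylow p-subgroup, a normal p-complement in the normalizer of Z(J(D)) or of Ω₁(Z(J_e(D))) forces one in G. -/
theorem result {G : Type*} [Group G] [Finite G] {p : ℕ} [Fact p.Prime] (hp : p ≠ 2) (P : Sylow p G) (D : Subgroup G) (hD : Cfsg.IsStronglyClosed D (P : Subgroup G)) (h : Cfsg.HasNormalPComplement p ↥(Subgroup.normalizer ((Cfsg.centerThompsonAOf D) : Set G)) ∨ Cfsg.HasNormalPComplement p ↥(Subgroup.normalizer ((Cfsg.omegaOne p (Cfsg.centerThompsonOf p D)) : Set G))) : Cfsg.HasNormalPComplement p G := by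
  exact main hp P D hD h

end Cfsg.Agent.S3082
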