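import Cfsg.Statements.S3084
import Cfsg.Agent.EqLemmas
import Cfsg.Agent.Lib.PGroup.Basic

set_option autoImplicit false
open Cfsg
open scoped commutatorElement

namespace Cfsg.Agent.S3084

section Model

open Matrix

variable {n : ℕ}

/-- The sign of an element of `ZMod 2`. -/
def sg (c : ZMod 2) : ℝ := if c = 0 then 1 else -1

theorem zmod2_cases : ∀ c : ZMod 2, c = 0 ∨ c = 1 := by decide

theorem sg_add (a b : ZMod 2) : sg (a + b) = sg a * sg b := by
  rcases zmod2_cases a with rfl | rfl <;> rcases zmod2_cases b with rfl | rfl <;>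
    simp [sg, show (1 : ZMod 2) + 1 = 0 from rfl]

@[simp] theorem sg_zero : sg 0 = 1 := if_pos rfl

theorem sg_sq (a : ZMod 2) : sg a * sg a = 1 := by
  rw [← sg_add, show a + a = 0 from CharTwo.add_self_eq_zero a, sg_zero]

theorem sg_eq_one_iff {a : ZMod 2} : sg a = 1 ↔ a = 0 := by
  rcases zmod2_cases a with rfl | rfl
  · simp
  · norm_num [sg]

/-- The index set of the representation. -/
abbrev I (n : ℕ) := Fin n → ZMod 2

/-- The hyperbolic space of dimension `2n`. -/
abbrev V (n : ℕ) := I n × I n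

/-- The quadratic form of the hyperbolic space. -/
def form (u : V n) : ZMod 2 := u.1 ⬝ᵥ u.2

/-- The cocycle. -/
def bet (u v : V n) : ZMod 2 := u.2 ⬝ᵥ v.1

theorem bet_self (u : V n) : bet u u = form u := dotProduct_comm _ _

theorem bet_add_left (u v w : V n) : bet (u + v) w = bet u w + bet v w := add_dotProduct _ _ _

theorem bet_add_right (u v w : V n) : bet u (v + w) = bet u v + bet u w := dotProduct_add _ _ _

theorem form_add (u v : V n) : form (u + v) = form u + form v + (bet u v + bet v u) := by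
  simp only [form, bet, Prod.fst_add, Prod.snd_add, add_dotProduct, dotProduct_add]
  rw [dotProduct_comm u.1 v.2, dotProduct_comm v.1 u.2]
  ring

/-- The monomial matrices of the representation. -/
noncomputable def E (u : V n) : Matrix (I n) (I n) ℝ :=
  fun i j => if i = j + u.1 then sg (u.2 ⬝ᵥ j) else 0

theorem E_apply (u : V n) (i j : I n) : E u i j = if i = j + u.1 then sg (u.2 ⬝ᵥ j) else 0 := rfl

theorem E_zero : E (0 : V n) = 1 := by
  ext i j
  simp [E_apply, Matrix.one_apply]

theorem E_mul (u v : V n) : E u * E v = sg (bet u v) • E (u + v) := by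
  ext i j
  rw [Matrix.mul_apply, Finset.sum_eq_single (j + v.1)]
  · simp only [E_apply, Matrix.smul_apply, if_pos, smul_eq_mul, Prod.fst_add, Prod.snd_add, bet]
    rw [add_assoc j v.1 u.1, add_comm v.1 u.1]
    by_cases h : i = j + (u.1 + v.1)
    · rw [if_pos h, if_pos h, dotProduct_add, add_dotProduct, sg_add, sg_add]
      ring
    · rw [if_neg h, if_neg h, zero_mul, mul_zero]
  · intro l _ hl
    rw [E_apply v, if_neg hl, mul_zero]
  · exact fun h => absurd (Finset.mem_univ _) h

theorem E_transpose_mul (u : V n) : (E u)ᵀ * E u = 1 := by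
  ext i j
  rw [Matrix.mul_apply, Finset.sum_eq_single (j + u.1)]
  · simp only [Matrix.transpose_apply, E_apply, if_pos, add_left_inj, Matrix.one_apply]
    by_cases h : i = j
    · subst h
      simp [sg_sq]
    · rw [if_neg (Ne.symm h), if_neg h, zero_mul]
  · intro l _ hl
    rw [E_apply u l j, if_neg hl, mul_zero]
  · exact fun h => absurd (Finset.mem_univ _) h

theorem E_mul_transpose (u : V n) : E u * (E u)ᵀ = 1 := mul_eq_one_comm.1 (E_transpose_mul u)

theorem E_injective_smul {a b : ℝ} (ha : a ≠ 0) {u v : V n} (h : a • E u = b • E v) :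
    u = v ∧ a = b := by
  have h0 := congrFun (congrFun h u.1) 0
  simp only [Matrix.smul_apply, E_apply, zero_add, if_pos, dotProduct_zero, sg_zero,
    smul_eq_mul, mul_one] at h0
  by_cases h1 : u.1 = v.1
  · rw [if_pos h1, mul_one] at h0
    refine ⟨Prod.ext h1 ?_, h0⟩
    funext k
    have hk := congrFun (congrFun h (Pi.single k 1 + u.1)) (Pi.single k 1)
    simp only [Matrix.smul_apply, E_apply, if_pos, smul_eq_mul, dotProduct_single, mul_one] at hk
    rw [if_pos (by rw [h1]), h0] at hk
    have hb : b ≠ 0 := h0 ▸ ha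
    have hs := mul_left_cancel₀ hb hk
    rcases zmod2_cases (u.2 k) with e | e <;> rcases zmod2_cases (v.2 k) with e' | e' <;>
      rw [e, e'] at hs ⊢ <;> norm_num [sg] at hs
  · rw [if_neg h1, mul_zero] at h0
    exact absurd h0 ha

theorem trace_E {u : V n} (hu : u ≠ 0) : Matrix.trace (E u) = 0 := by
  by_cases h1 : u.1 = 0
  · have h2 : u.2 ≠ 0 := fun h => hu (Prod.ext h1 h)
    obtain ⟨k, hk⟩ := Function.ne_iff.1 h2
    have hk' : u.2 k = 1 := (zmod2_cases _).resolve_left hk
    have e : Matrix.trace (E u) = -Matrix.trace (E u) := by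
      simp only [Matrix.trace, Matrix.diag, E_apply, h1, add_zero, if_pos, ← Finset.sum_neg_distrib]
      refine Fintype.sum_equiv (Equiv.addRight (Pi.single k 1 : I n)) _ _ fun j => ?_
      simp only [Equiv.coe_addRight, dotProduct_add, sg_add, dotProduct_single, mul_one, hk']
      norm_num [sg]
    linarith
  · refine Finset.sum_eq_zero fun i _ => ?_
    simp only [Matrix.diag, E_apply]
    exact if_neg (fun h => h1 (left_eq_add.1 h))

theorem trace_E_zero : Matrix.trace (E (0 : V n)) ≠ 0 := by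
  rw [E_zero, Matrix.trace_one]
  exact_mod_cast Fintype.card_ne_zero

/-- A matrix commuting with all the `E v` is scalar. -/
theorem scalar_of_commute (X : Matrix (I n) (I n) ℝ) (h : ∀ v, X * E v = E v * X) :
    X = X 0 0 • (1 : Matrix (I n) (I n) ℝ) := by
  have hdiag : ∀ i j, i ≠ j → X i j = 0 := by
    intro i j hij
    obtain ⟨k, hk⟩ := Function.ne_iff.1 hij
    have hv := congrFun (congrFun (h (0, Pi.single k 1)) i) j
    rw [Matrix.mul_apply, Matrix.mul_apply, Finset.sum_eq_single j, Finset.sum_eq_single i] at hv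
    · simp only [E_apply, add_zero, if_pos, single_dotProduct, one_mul] at hv
      by_contra hX
      rw [mul_comm, mul_eq_mul_right_iff] at hv
      rcases zmod2_cases (i k) with e | e <;> rcases zmod2_cases (j k) with e' | e' <;>
        rw [e, e'] at hv hk
      · exact hk rfl
      · norm_num [sg, hX] at hv
      · norm_num [sg, hX] at hv
      · exact hk rfl
    · intro l _ hl; rw [E_apply, if_neg (by simpa using Ne.symm hl), zero_mul]
    · exact fun h => absurd (Finset.mem_univ _) h
    · intro l _ hl; rw [E_apply, if_neg (by simpa using hl), mul_zero]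
    · exact fun h => absurd (Finset.mem_univ _) h
  ext i j
  by_cases hij : i = j
  · subst hij
    have hv := congrFun (congrFun (h (i, 0)) i) 0
    rw [Matrix.mul_apply, Matrix.mul_apply, Finset.sum_eq_single i, Finset.sum_eq_single 0] at hv
    · simp only [E_apply, zero_add, if_pos, zero_dotProduct, sg_zero, one_mul, mul_one] at hv
      simp [hv]
    · intro l _ hl
      rw [hdiag l 0 hl, mul_zero]
    · exact fun h => absurd (Finset.mem_univ _) h
    · intro l _ hl
      rw [hdiag i l (Ne.symm hl), zero_mul]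
    · exact fun h => absurd (Finset.mem_univ _) h
  · rw [hdiag i j hij]
    simp [Matrix.one_apply_ne hij]

/-- Every isometry is induced, up to signs, by an orthogonal matrix. -/
theorem exists_intertwiner (T : V n →ₗ[ZMod 2] V n) (hT : Function.Injective T)
    (hq : ∀ u, form (T u) = form u) :
    ∃ (M : Matrix.orthogonalGroup (I n) ℝ) (f : V n → ZMod 2), ∀ v,
      M.1 * E v * (M.1)ᵀ = sg (f v) • E (T v) := by
  classical
  let bas := Module.finBasis (ZMod 2) (V n)
  let D : V n →ₗ[ZMod 2] V n →ₗ[ZMod 2] ZMod 2 :=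
    LinearMap.mk₂ (ZMod 2) (fun u v => bet (T u) (T v) + bet u v)
      (fun a b c => by simp only [map_add, bet_add_left]; ring)
      (fun a b c => by simp only [map_smul, bet, Prod.smul_snd, smul_dotProduct, smul_eq_mul]; ring)
      (fun a b c => by simp only [map_add, bet_add_right]; ring)
      (fun a b c => by simp only [map_smul, bet, Prod.smul_fst, dotProduct_smul, smul_eq_mul]; ring)
  have hD : ∀ u v, D u v = bet (T u) (T v) + bet u v := fun _ _ => rfl
  have hDself : ∀ u, D u u = 0 := fun u => by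
    rw [hD, bet_self, bet_self, hq, CharTwo.add_self_eq_zero]
  let r := bas.repr
  let f : V n → ZMod 2 := fun u => ∑ i, ∑ j, if i < j then r u i * r u j * D (bas i) (bas j) else 0
  have hDs : ∀ i j, D (bas i) (bas j) = D (bas j) (bas i) := fun i j => by
    have h := hDself (bas i + bas j)
    simp only [map_add, LinearMap.add_apply, hDself, add_zero, zero_add] at h
    exact (CharTwo.add_eq_zero.1 h).symm
  have hf : ∀ u v, f (u + v) = f u + f v + D u v := by
    intro u v
    have hexp : D u v = ∑ i, ∑ j, r u i * r v j * D (bas i) (bas j) := by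
      conv_lhs => rw [← bas.sum_repr u, ← bas.sum_repr v]
      simp only [map_sum, map_smul, LinearMap.sum_apply, LinearMap.smul_apply, smul_eq_mul,
        Finset.mul_sum]
      rw [Finset.sum_comm]
      exact Finset.sum_congr rfl fun i _ => Finset.sum_congr rfl fun j _ => by ring
    have hsplit : D u v = (∑ i, ∑ j, if i < j then r u i * r v j * D (bas i) (bas j) else 0)
        + ∑ i, ∑ j, if i < j then r v i * r u j * D (bas i) (bas j) else 0 := by
      rw [hexp]
      have h3 : (∑ i, ∑ j, if i < j then r v i * r u j * D (bas i) (bas j) else 0)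
          = ∑ i, ∑ j, if j < i then r u i * r v j * D (bas i) (bas j) else 0 := by
        rw [Finset.sum_comm]
        exact Finset.sum_congr rfl fun i _ => Finset.sum_congr rfl fun j _ => by
          rw [hDs j i, mul_comm (r v j)]
      rw [h3, ← Finset.sum_add_distrib]
      refine Finset.sum_congr rfl fun i _ => ?_
      rw [← Finset.sum_add_distrib]
      refine Finset.sum_congr rfl fun j _ => ?_
      rcases lt_trichotomy i j with h | h | h
      · rw [if_pos h, if_neg h.asymm, add_zero]
      · subst h; simp [hDself]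
      · rw [if_neg h.asymm, if_pos h, zero_add]
    rw [hsplit]
    simp only [f, ← Finset.sum_add_distrib]
    refine Finset.sum_congr rfl fun i _ => Finset.sum_congr rfl fun j _ => ?_
    simp only [r, map_add, Finsupp.add_apply]
    split_ifs <;> ring
  let σ : V n → Matrix (I n) (I n) ℝ := fun u => sg (f u) • E (T u)
  have hσ : ∀ u v, σ u * σ v = sg (bet u v) • σ (u + v) := by
    intro u v
    simp only [σ, Matrix.smul_mul, Matrix.mul_smul, E_mul, smul_smul, ← map_add, ← sg_add]
    rw [hf, hD]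
    congr 1
    have := CharTwo.add_self_eq_zero (bet u v)
    congr 1
    linear_combination -this
  have hσorth : ∀ v, (σ v)ᵀ * σ v = 1 := fun v => by
    simp [σ, Matrix.transpose_smul, smul_smul, sg_sq, E_transpose_mul]
  let M₀ : Matrix (I n) (I n) ℝ → Matrix (I n) (I n) ℝ := fun A => ∑ u, σ u * A * (E u)ᵀ
  have hint : ∀ A v, σ v * M₀ A = M₀ A * E v := by
    intro A v
    simp only [M₀, Matrix.mul_sum, Matrix.sum_mul]
    refine Fintype.sum_equiv (Equiv.addLeft v) _ _ fun u => ?_
    simp only [Equiv.coe_addLeft]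
    have h1 : (E (v + u))ᵀ * E v = sg (bet v u) • (E u)ᵀ := by
      have h3 : sg (bet v u) • (E (v + u))ᵀ = (E u)ᵀ * (E v)ᵀ := by
        rw [← Matrix.transpose_smul, ← E_mul, Matrix.transpose_mul]
      have h4 := congrArg (fun X => sg (bet v u) • (X * E v)) h3
      simp only [Matrix.smul_mul, smul_smul, sg_sq, one_smul, Matrix.mul_assoc, E_transpose_mul,
        Matrix.mul_one] at h4
      exact h4
    calc σ v * (σ u * A * (E u)ᵀ) = (σ v * σ u) * A * (E u)ᵀ := by simp only [Matrix.mul_assoc]
      _ = σ (v + u) * A * (sg (bet v u) • (E u)ᵀ) := by rw [hσ]; simp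
      _ = σ (v + u) * A * (E (v + u))ᵀ * E v := by rw [← h1]; simp only [Matrix.mul_assoc]
  obtain ⟨A, hA⟩ : ∃ A, M₀ A ≠ 0 := by
    by_contra h
    push Not at h
    have hsum : (∑ u, Matrix.trace (σ u) * Matrix.trace (E u)) = 0 := by
      simp only [Matrix.trace, Matrix.diag, Finset.sum_mul_sum]
      rw [Finset.sum_comm]
      refine Finset.sum_eq_zero fun i _ => ?_
      rw [Finset.sum_comm]
      refine Finset.sum_eq_zero fun j _ => ?_
      have hij := congrFun (congrFun (h (Matrix.single i j 1)) i) j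
      rw [Matrix.zero_apply] at hij
      rw [← hij]
      simp only [M₀, Matrix.sum_apply]
      refine Finset.sum_congr rfl fun u _ => ?_
      rw [Matrix.mul_apply, Finset.sum_eq_single j, Matrix.mul_single_apply_same, mul_one,
        Matrix.transpose_apply]
      · intro l _ hl
        rw [Matrix.mul_single_apply_of_ne (hbj := hl), zero_mul]
      · exact fun h => absurd (Finset.mem_univ _) h
    rw [Finset.sum_eq_single 0] at hsum
    · have hs0 : σ 0 = sg (f 0) • E 0 := by simp [σ]
      rw [hs0, Matrix.trace_smul, smul_eq_mul] at hsum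
      rcases mul_eq_zero.1 hsum with h' | h'
      · rcases mul_eq_zero.1 h' with h'' | h''
        · exact one_ne_zero (α := ℝ) (by rw [← sg_sq (f 0), h'', mul_zero])
        · exact trace_E_zero h''
      · exact trace_E_zero h'
    · intro u _ hu
      rw [trace_E hu, mul_zero]
    · exact fun h => absurd (Finset.mem_univ _) h
  set N := M₀ A with hN
  have hNint : ∀ v, N * E v = σ v * N := fun v => (hint A v).symm
  have hcomm : ∀ v, (Nᵀ * N) * E v = E v * (Nᵀ * N) := by
    intro v
    have h1 : Nᵀ = (E v)ᵀ * Nᵀ * σ v := by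
      have := congrArg (fun X => Matrix.transpose X * σ v) (hNint v)
      simp only [Matrix.transpose_mul, Matrix.mul_assoc, hσorth, Matrix.mul_one] at this
      rw [Matrix.mul_assoc]
      exact this.symm
    calc (Nᵀ * N) * E v = Nᵀ * (σ v * N) := by rw [Matrix.mul_assoc, hNint]
      _ = (E v * (E v)ᵀ) * Nᵀ * (σ v * N) := by rw [E_mul_transpose, Matrix.one_mul]
      _ = E v * ((E v)ᵀ * Nᵀ * σ v * N) := by simp only [Matrix.mul_assoc]
      _ = E v * (Nᵀ * N) := by rw [← h1]
  have hscal := scalar_of_commute _ hcomm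
  set c := (Nᵀ * N) 0 0 with hc
  obtain ⟨a, b, hab⟩ : ∃ a b, N a b ≠ 0 := by
    by_contra h
    push Not at h
    exact hA (Matrix.ext h)
  have hcpos : 0 < c := by
    have h1 : (Nᵀ * N) b b = c := by rw [hscal]; simp
    rw [← h1, Matrix.mul_apply]
    refine lt_of_lt_of_le (mul_self_pos.2 hab)
      (Finset.single_le_sum (f := fun l => Nᵀ b l * N l b) ?_ (Finset.mem_univ a))
    exact fun l _ => mul_self_nonneg _
  set t := (Real.sqrt c)⁻¹ with ht
  have ht2 : t * t * c = 1 := by
    rw [ht, ← mul_inv, Real.mul_self_sqrt hcpos.le, inv_mul_cancel₀ hcpos.ne']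
  have horth : (t • N)ᵀ * (t • N) = 1 := by
    rw [Matrix.transpose_smul, Matrix.smul_mul, Matrix.mul_smul, smul_smul, hscal, smul_smul, ht2,
      one_smul]
  refine ⟨⟨t • N, (Matrix.mem_orthogonalGroup_iff' (I n) ℝ).2 horth⟩, f, fun v => ?_⟩
  show t • N * E v * (t • N)ᵀ = σ v
  rw [Matrix.smul_mul, hNint, ← Matrix.mul_smul, Matrix.mul_assoc, mul_eq_one_comm.1 horth,
    Matrix.mul_one]

/-- A diagonal sign matrix for `c`. -/
theorem smul_E_mem (u : V n) (c : ZMod 2) : sg c • E u ∈ Matrix.orthogonalGroup (I n) ℝ := by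
  rw [Matrix.mem_orthogonalGroup_iff', Matrix.transpose_smul, Matrix.smul_mul, Matrix.mul_smul,
    smul_smul, sg_sq, one_smul, E_transpose_mul]

theorem mul_sgE (u v : V n) (a b : ZMod 2) :
    (sg a • E u) * (sg b • E v) = sg (a + b + bet u v) • E (u + v) := by
  rw [Matrix.smul_mul, Matrix.mul_smul, E_mul, smul_smul, smul_smul, sg_add, sg_add]

theorem sgE_inj {u v : V n} {a b : ZMod 2} (h : sg a • E u = sg b • E v) : u = v ∧ a = b := by
  have hne : sg a ≠ 0 := fun h => one_ne_zero (α := ℝ) (by rw [← sg_sq a, h, mul_zero])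
  obtain ⟨h1, h2⟩ := E_injective_smul hne h
  refine ⟨h1, ?_⟩
  rcases zmod2_cases a with rfl | rfl <;> rcases zmod2_cases b with rfl | rfl <;>
    norm_num [sg] at h2 <;> rfl

/-- An orthogonal matrix fixing every `±E v` is itself some `±E u`. -/
theorem eq_sgE_of_fix (M : Matrix.orthogonalGroup (I n) ℝ)
    (h : ∀ v, ∃ c, M.1 * E v * (M.1)ᵀ = sg c • E v) : ∃ u c, M.1 = sg c • E u := by
  classical
  choose g hg using h
  have hMt : (M.1)ᵀ * M.1 = 1 := (Matrix.mem_orthogonalGroup_iff' (I n) ℝ).1 M.2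
  have hgadd : ∀ a b, g (a + b) = g a + g b := by
    intro a b
    have h1 : (M.1 * E a * (M.1)ᵀ) * (M.1 * E b * (M.1)ᵀ) = M.1 * (E a * E b) * (M.1)ᵀ := by
      calc _ = M.1 * E a * ((M.1)ᵀ * M.1) * E b * (M.1)ᵀ := by simp only [Matrix.mul_assoc]
        _ = _ := by rw [hMt, Matrix.mul_one]; simp only [Matrix.mul_assoc]
    rw [hg, hg, mul_sgE, E_mul, Matrix.mul_smul, Matrix.smul_mul, hg, smul_smul, ← sg_add] at h1
    have := (sgE_inj h1).2
    linear_combination -this
  let G : V n →+ ZMod 2 := AddMonoidHom.mk' g hgadd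
  let gl : V n →ₗ[ZMod 2] ZMod 2 := G.toZModLinearMap 2
  let x : V n := (fun k => gl (0, Pi.single k 1), fun k => gl (Pi.single k 1, 0))
  have hx : ∀ v, g v = bet x v + bet v x := by
    intro v
    have hlin : (fun v => bet x v + bet v x) = fun v => x.2 ⬝ᵥ v.1 + x.1 ⬝ᵥ v.2 := by
      funext v
      simp only [bet, dotProduct_comm v.2]
    have e1 : gl (v.1, 0) = x.2 ⬝ᵥ v.1 := by
      conv_lhs => rw [show (v.1, (0 : I n)) = ∑ k, v.1 k • ((Pi.single k 1 : I n), (0 : I n)) from by
        refine Prod.ext ?_ ?_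
        · simp [Prod.fst_sum, ← Pi.single_smul, Finset.univ_sum_single]
        · simp [Prod.snd_sum]]
      rw [map_sum]
      exact Finset.sum_congr rfl fun k _ => by rw [map_smul, smul_eq_mul, mul_comm]
    have e2 : gl (0, v.2) = x.1 ⬝ᵥ v.2 := by
      conv_lhs => rw [show ((0 : I n), v.2) = ∑ k, v.2 k • ((0 : I n), (Pi.single k 1 : I n)) from by
        refine Prod.ext ?_ ?_
        · simp [Prod.fst_sum]
        · simp [Prod.snd_sum, ← Pi.single_smul, Finset.univ_sum_single]]
      rw [map_sum]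
      exact Finset.sum_congr rfl fun k _ => by rw [map_smul, smul_eq_mul, mul_comm]
    calc g v = gl ((v.1, 0) + (0, v.2)) := by simp [gl, G]
      _ = _ := by rw [map_add, e1, e2]; exact (congrFun hlin v).symm
  have hcomm : ∀ v, ((E x)ᵀ * M.1) * E v = E v * ((E x)ᵀ * M.1) := by
    intro v
    have h1 : M.1 * E v = sg (g v) • (E v * M.1) := by
      rw [← Matrix.smul_mul, ← hg, Matrix.mul_assoc, hMt, Matrix.mul_one]
    have h2 : E x * E v = sg (g v) • (E v * E x) := by
      rw [E_mul, E_mul, smul_smul, ← sg_add, add_comm v x, hx]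
      congr 2
      have := CharTwo.add_self_eq_zero (bet v x)
      linear_combination -this
    have h3 : E v * (E x)ᵀ = sg (g v) • ((E x)ᵀ * E v) := by
      have := congrArg (fun X => (E x)ᵀ * X * (E x)ᵀ) h2
      simp only [Matrix.mul_smul, Matrix.smul_mul, Matrix.mul_assoc, E_mul_transpose,
        Matrix.mul_one] at this
      rw [← Matrix.mul_assoc, E_transpose_mul, Matrix.one_mul] at this
      exact this
    rw [Matrix.mul_assoc, h1, Matrix.mul_smul, ← Matrix.mul_assoc, ← Matrix.smul_mul, ← h3,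
      Matrix.mul_assoc]
  have hs := scalar_of_commute _ hcomm
  set l := ((E x)ᵀ * M.1) 0 0
  have hM : M.1 = l • E x := by
    calc M.1 = E x * ((E x)ᵀ * M.1) := by rw [← Matrix.mul_assoc, E_mul_transpose, Matrix.one_mul]
      _ = l • E x := by rw [hs, Matrix.mul_smul, Matrix.mul_one]
  have hl : l * l = 1 := by
    have h := hMt
    rw [hM, Matrix.transpose_smul, Matrix.smul_mul, Matrix.mul_smul, smul_smul, E_transpose_mul] at h
    simpa using congrFun (congrFun h 0) 0
  rcases mul_self_eq_one_iff.1 hl with h | h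
  · exact ⟨x, 0, by rw [hM, h, sg_zero]⟩
  · exact ⟨x, 1, by rw [hM, h]; norm_num [sg]⟩

end Model



/-- Hyperbolic coordinates for a plus-type form. -/
theorem exists_coord {U : Type*} [AddCommGroup U] [Module (ZMod 2) U] [Module.Finite (ZMod 2) U]
    {n : ℕ} (hn : Module.finrank (ZMod 2) U = 2 * n) (q : QuadraticForm (ZMod 2) U)
    (hnd : (QuadraticMap.polarBilin q).Nondegenerate)
    (hplus : ∃ W : Submodule (ZMod 2) U, Module.finrank (ZMod 2) ↥W = n ∧ ∀ w ∈ W, q w = 0) :
    ∃ Ψ : V n ≃ₗ[ZMod 2] U, ∀ v, q (Ψ v) = form v := by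
  classical
  obtain ⟨W, hW, hWq⟩ := hplus
  let b := (Module.finBasisOfFinrankEq (ZMod 2) W hW)
  set P := QuadraticMap.polarBilin q with hP
  have hPWW : ∀ w ∈ W, ∀ w' ∈ W, P w w' = 0 := fun w hw w' hw' => by
    simp [hP, QuadraticMap.polar, hWq _ hw, hWq _ hw', hWq _ (W.add_mem hw hw')]
  let φ : U →ₗ[ZMod 2] I n := LinearMap.pi fun i => P.flip (b i : U)
  have hφ : ∀ u i, φ u i = P u (b i) := fun _ _ => rfl
  let ι : I n →ₗ[ZMod 2] U := W.subtype.comp b.equivFun.symm.toLinearMap
  have hι : ∀ a, ι a = ∑ i, a i • (b i : U) := fun a => by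
    simp [ι, Module.Basis.equivFun_symm_apply]
  have hιW : ∀ a, ι a ∈ W := fun a => (b.equivFun.symm a).2
  have hιinj : Function.Injective ι := Subtype.val_injective.comp b.equivFun.symm.injective
  have hφι : ∀ a, φ (ι a) = 0 := fun a => funext fun i => hPWW _ (hιW a) _ (b i).2
  have hPι : ∀ u a, P u (ι a) = φ u ⬝ᵥ a := fun u a => by
    rw [hι, map_sum]
    exact Finset.sum_congr rfl fun i _ => by rw [map_smul, smul_eq_mul, hφ, mul_comm]
  have hsurj : Function.Surjective φ := by
    rw [← LinearMap.range_eq_top]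
    by_contra hne
    obtain ⟨f, hf, hfr⟩ := Submodule.exists_le_ker_of_lt_top _ (lt_top_iff_ne_top.2 hne)
    apply hf
    let c : I n := fun i => f (Pi.single i 1)
    have hfc : ∀ x, f x = x ⬝ᵥ c := fun x => by
      conv_lhs => rw [pi_eq_sum_univ' x]
      rw [map_sum]
      exact Finset.sum_congr rfl fun i _ => by rw [map_smul, smul_eq_mul]
    have h0 : ι c = 0 := hnd.2 _ fun u => by
      rw [hPι, ← hfc]
      exact hfr (LinearMap.mem_range_self φ u)
    have hc : c = 0 := hιinj (h0.trans (map_zero ι).symm)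
    ext x
    simp [hfc, hc]
  obtain ⟨s, hs⟩ := φ.exists_rightInverse_of_surjective (LinearMap.range_eq_top.2 hsurj)
  let B := (q.comp s).toBilin (Pi.basisFun (ZMod 2) (Fin n))
  have hB : ∀ x, B x x = q (s x) := fun x => by
    rw [← LinearMap.BilinMap.toQuadraticMap_apply, QuadraticMap.toQuadraticMap_toBilin,
      QuadraticMap.comp_apply]
  let cB : I n →ₗ[ZMod 2] I n := LinearMap.pi fun i => B.flip (Pi.single i 1)
  have hcB : ∀ x, x ⬝ᵥ cB x = q (s x) := fun x => by
    rw [← hB]
    conv_rhs => arg 2; rw [pi_eq_sum_univ' x]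
    rw [map_sum]
    exact Finset.sum_congr rfl fun i _ => by rw [map_smul, smul_eq_mul]; rfl
  let s' : I n →ₗ[ZMod 2] U := s + ι.comp cB
  have hφs : ∀ x, φ (s x) = x := fun x => LinearMap.congr_fun hs x
  have hφs' : ∀ x, φ (s' x) = x := fun x => by simp [s', hφι, hφs]
  have hqadd : ∀ u v, q (u + v) = q u + q v + P u v := fun u v => by
    rw [hP, QuadraticMap.polarBilin_apply_apply, QuadraticMap.polar]; abel
  have hq0 : ∀ x, q (s' x) = 0 := fun x => by
    show q (s x + ι (cB x)) = 0
    rw [hqadd, hWq _ (hιW _), hPι, hφs, hcB, add_zero, CharTwo.add_self_eq_zero]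
  let L : V n →ₗ[ZMod 2] U := ι.coprod s'
  have hinj : Function.Injective L := by
    rw [injective_iff_map_eq_zero]
    rintro ⟨a, c⟩ h
    have h1 : φ (ι a + s' c) = 0 := by rw [show ι a + s' c = 0 from h, map_zero]
    rw [map_add, hφι, hφs', zero_add] at h1
    subst h1
    have h2 : ι a = 0 := by simpa [L] using h
    rw [hιinj (h2.trans (map_zero ι).symm)]
    rfl
  refine ⟨LinearMap.linearEquivOfInjective L hinj (by simp [hn, two_mul]), ?_⟩
  rintro ⟨a, c⟩
  show q (ι a + s' c) = a ⬝ᵥ c
  rw [add_comm, hqadd, hq0, hWq _ (hιW _), hPι, hφs', zero_add, zero_add, dotProduct_comm]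


/-- Let K be a group acting faithfully and linearly on a finite-dimensional vector space U of dimension 2n ≥ 2 over the field with two elements, preserving a quadratic form q whose polar bilinear form is non-degenerate and which vanishes on some n-dimensional subspace (a non-singular form of plus type). Then there is a finite group R with a normal extraspecial 2-subgroup Q of order 2^(2n+1), an isomorphism of R/Q with K, and a surjective homomorphism χ from Q onto (the additive group of) U with kernel the centre of Q, such that χ carries conjugation by any r in R to the action of the image of r in K, and an element a of Q squares to the identity exactly when q vanishes at χ(a). -/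
theorem result {K : Type*} [Group K] {U : Type*} [AddCommGroup U] [Module (ZMod 2) U] [Module.Finite (ZMod 2) U] (n : ℕ) (hn1 : 1 ≤ n) (hn : Module.finrank (ZMod 2) U = 2 * n) (ρ : Representation (ZMod 2) K U) (hρ : Function.Injective ρ) (q : QuadraticForm (ZMod 2) U) (hq : ∀ (k : K) (u : U), q (ρ k u) = q u) (hnd : (QuadraticMap.polarBilin q).Nondegenerate) (hplus : ∃ W : Submodule (ZMod 2) U, Module.finrank (ZMod 2) ↥W = n ∧ ∀ w ∈ W, q w = 0) : ∃ (R : Type) (_ : Group R) (_ : Finite R) (Q : Subgroup R) (hN : Q.Normal) (e : R ⧸ Q ≃* K) (χ : ↥Q →* Multiplicative U), Cfsg.IsExtraspecial 2 ↥Q ∧ Nat.card ↥Q = 2 ^ (2 * n + 1) ∧ Function.Surjective χ ∧ χ.ker = Subgroup.center ↥Q ∧ (∀ (r : R) (a : ↥Q), χ ⟨r * a * r⁻¹, hN.conj_mem (a : R) a.2 r⟩ = Multiplicative.ofAdd (ρ (e (r : R ⧸ Q)) (Multiplicative.toAdd (χ a)))) ∧ ∀ a : ↥Q, a * a = 1 ↔ q (Multiplicative.toAdd (χ a)) = 0 := by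
  classical
  obtain ⟨Ψ, hΨ⟩ := exists_coord hn q hnd hplus
  let T : K → (V n →ₗ[ZMod 2] V n) := fun k =>
    Ψ.symm.toLinearMap ∘ₗ (ρ k ∘ₗ Ψ.toLinearMap)
  have hρΨ : ∀ k v, ρ k (Ψ v) = Ψ (T k v) := fun k v => by simp [T]
  have hT1 : ∀ v, T 1 v = v := fun v => by simp [T]
  have hTmul : ∀ k l v, T (k * l) v = T k (T l v) := fun k l v => by simp [T]
  have hTq : ∀ k v, form (T k v) = form v := fun k v => by
    rw [← hΨ, ← hρΨ, hq, hΨ]
  have hTinj : ∀ k, Function.Injective (T k) := fun k => Function.LeftInverse.injective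
    (g := T k⁻¹) fun v => by rw [← hTmul, inv_mul_cancel, hT1]
  have hTfaith : ∀ k l, (∀ v, T k v = T l v) → k = l := fun k l h => hρ (by
    refine LinearMap.ext fun u => ?_
    obtain ⟨v, rfl⟩ := Ψ.surjective u
    rw [hρΨ, hρΨ, h])
  -- the group of orthogonal matrices inducing elements of K
  let Ind : Matrix.orthogonalGroup (I n) ℝ → K → Prop := fun M k =>
    ∀ v, ∃ c, M.1 * E v * (M.1).transpose = sg c • E (T k v)
  have Ind_one : Ind 1 1 := fun v => ⟨0, by simp [hT1]⟩
  have Ind_mul : ∀ M N k l, Ind M k → Ind N l → Ind (M * N) (k * l) := by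
    intro M N k l hM hN v
    obtain ⟨c, hc⟩ := hN v
    obtain ⟨d, hd⟩ := hM (T l v)
    refine ⟨c + d, ?_⟩
    calc (M * N).1 * E v * ((M * N).1).transpose
        = M.1 * (N.1 * E v * (N.1).transpose) * (M.1).transpose := by
          simp [Matrix.transpose_mul, Matrix.mul_assoc]
      _ = sg c • (M.1 * E (T l v) * (M.1).transpose) := by rw [hc]; simp
      _ = _ := by rw [hd, smul_smul, ← sg_add, hTmul]
  have Ind_inv : ∀ M k, Ind M k → Ind M⁻¹ k⁻¹ := by
    intro M k hM v
    obtain ⟨c, hc⟩ := hM (T k⁻¹ v)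
    rw [← hTmul, mul_inv_cancel, hT1] at hc
    refine ⟨c, ?_⟩
    have h1 : (M⁻¹ : Matrix.orthogonalGroup (I n) ℝ).1 * M.1 = 1 :=
      congrArg Subtype.val (inv_mul_cancel M)
    have h2 : (M.1).transpose * ((M⁻¹ : Matrix.orthogonalGroup (I n) ℝ).1).transpose = 1 := by
      rw [← Matrix.transpose_mul, h1, Matrix.transpose_one]
    have h3 : E v = sg c • (M.1 * E (T k⁻¹ v) * (M.1).transpose) := by
      rw [hc, smul_smul, sg_sq, one_smul]
    conv_lhs => rw [h3]
    rw [Matrix.mul_smul, Matrix.smul_mul]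
    congr 1
    calc (M⁻¹ : Matrix.orthogonalGroup (I n) ℝ).1 * (M.1 * E (T k⁻¹ v) * (M.1).transpose)
          * ((M⁻¹ : Matrix.orthogonalGroup (I n) ℝ).1).transpose
        = ((M⁻¹ : Matrix.orthogonalGroup (I n) ℝ).1 * M.1) * E (T k⁻¹ v) *
          ((M.1).transpose * ((M⁻¹ : Matrix.orthogonalGroup (I n) ℝ).1).transpose) := by
          simp only [Matrix.mul_assoc]
      _ = E (T k⁻¹ v) := by rw [h1, h2, Matrix.one_mul, Matrix.mul_one]
  have Ind_unique : ∀ M k l, Ind M k → Ind M l → k = l := fun M k l hk hl => hTfaith k l fun v => by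
    obtain ⟨c, hc⟩ := hk v
    obtain ⟨d, hd⟩ := hl v
    exact (sgE_inj (hc.symm.trans hd)).1
  -- a type in universe 0 carrying the group R
  have hInd : ∀ M k, Ind M k ↔ ∀ v, ∃ c, M.1 * E v * (M.1).transpose = sg c • E (T k v) :=
    fun _ _ => Iff.rfl
  let R₀ : Subgroup (Matrix.orthogonalGroup (I n) ℝ) :=
    { carrier := {M | ∃ k, Ind M k}
      one_mem' := ⟨1, Ind_one⟩
      mul_mem' := fun {M N} ⟨k, hk⟩ ⟨l, hl⟩ => ⟨k * l, Ind_mul M N k l hk hl⟩
      inv_mem' := fun {M} ⟨k, hk⟩ => ⟨k⁻¹, Ind_inv M k hk⟩ }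
  let π : R₀ →* K := MonoidHom.mk' (fun M => M.2.choose) fun M N =>
    Ind_unique _ _ _ (M * N).2.choose_spec (Ind_mul _ _ _ _ M.2.choose_spec N.2.choose_spec)
  have hπ : ∀ (M : R₀), Ind M.1 (π M) := fun M => M.2.choose_spec
  have hπsurj : Function.Surjective π := fun k => by
    obtain ⟨M, f, hf⟩ := exists_intertwiner (T k) (hTinj k) (hTq k)
    have hM : Ind M k := fun v => ⟨f v, hf v⟩
    exact ⟨⟨M, k, hM⟩, Ind_unique _ _ _ (hπ _) hM⟩
  -- kernel elements
  have hker : ∀ M : R₀, M ∈ π.ker ↔ ∃ u c, M.1.1 = sg c • E u := by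
    intro M
    constructor
    · intro hM
      refine eq_sgE_of_fix M.1 fun v => ?_
      obtain ⟨c, hc⟩ := hπ M v
      rw [MonoidHom.mem_ker.1 hM, hT1] at hc
      exact ⟨c, hc⟩
    · rintro ⟨u, c, hM⟩
      refine MonoidHom.mem_ker.2 (Ind_unique _ _ _ (hπ M) fun v => ⟨bet u v + bet v u, ?_⟩)
      have h : E u * E v = sg (bet u v + bet v u) • (E v * E u) := by
        rw [E_mul, E_mul, smul_smul, ← sg_add, add_comm v u, add_assoc, CharTwo.add_self_eq_zero,
          add_zero]
      rw [hM, hT1, Matrix.transpose_smul, Matrix.smul_mul, Matrix.smul_mul, Matrix.mul_smul, smul_smul,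
        sg_sq, one_smul, h, Matrix.smul_mul, Matrix.mul_assoc, E_mul_transpose, Matrix.mul_one]
  have hmk : ∀ u c, ∃ M : π.ker, M.1.1.1 = sg c • E u := fun u c => by
    have hM : Ind ⟨sg c • E u, smul_E_mem u c⟩ 1 := fun v => by
      refine ⟨bet u v + bet v u, ?_⟩
      have h : E u * E v = sg (bet u v + bet v u) • (E v * E u) := by
        rw [E_mul, E_mul, smul_smul, ← sg_add, add_comm v u, add_assoc, CharTwo.add_self_eq_zero,
          add_zero]
      rw [hT1, Matrix.transpose_smul, Matrix.smul_mul, Matrix.smul_mul, Matrix.mul_smul, smul_smul,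
        sg_sq, one_smul, h, Matrix.smul_mul, Matrix.mul_assoc, E_mul_transpose, Matrix.mul_one]
    exact ⟨⟨⟨_, 1, hM⟩, (hker _).2 ⟨u, c, rfl⟩⟩, rfl⟩
  choose mk hmk using hmk
  have hex : ∀ a : π.ker, ∃ u c, a.1.1.1 = sg c • E u := fun a => (hker a.1).1 a.2
  choose pu pc hp using hex
  have hp_mk : ∀ u c, pu (mk u c) = u ∧ pc (mk u c) = c := fun u c =>
    sgE_inj ((hp _).symm.trans (hmk u c))
  let Q := π.ker
  haveI : Finite U := Module.finite_of_finite (ZMod 2)
  haveI : Finite K := Finite.of_injective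
    (fun k => (fun u => ρ k u : U → U)) fun k l h => hρ (LinearMap.ext (congrFun h))
  let eQ : ↥Q ≃ V n × ZMod 2 :=
    { toFun := fun a => (pu a, pc a)
      invFun := fun x => mk x.1 x.2
      left_inv := fun a => Subtype.ext (Subtype.ext (Subtype.ext ((hmk _ _).trans (hp a).symm)))
      right_inv := fun x => Prod.ext (hp_mk x.1 x.2).1 (hp_mk x.1 x.2).2 }
  haveI : Finite ↥Q := Finite.of_equiv _ eQ.symm
  let e : R₀ ⧸ Q ≃* K := QuotientGroup.quotientKerEquivOfSurjective π hπsurj
  haveI : Finite (R₀ ⧸ Q) := Finite.of_equiv _ e.symm.toEquiv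
  haveI : Finite R₀ := Finite.of_subgroup_quotient Q
  have hpmul : ∀ a b : Q, pu (a * b) = pu a + pu b := fun a b => by
    have h : (a * b).1.1.1 = a.1.1.1 * b.1.1.1 := rfl
    rw [hp, hp, hp, mul_sgE] at h
    exact (sgE_inj h).1
  let χ : ↥Q →* Multiplicative U := MonoidHom.mk' (fun a => Multiplicative.ofAdd (Ψ (pu a)))
    fun a b => by rw [hpmul, map_add, ofAdd_add]
  have hχ : ∀ a, χ a = Multiplicative.ofAdd (Ψ (pu a)) := fun _ => rfl
  have hQcard : Nat.card ↥Q = 2 ^ (2 * n + 1) := by
    rw [Nat.card_congr eQ, Nat.card_prod, Nat.card_prod, Nat.card_zmod, Nat.card_fun, Nat.card_zmod,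
      Nat.card_fin]
    ring
  have hsurj : Function.Surjective χ := fun x => by
    refine ⟨mk (Ψ.symm (Multiplicative.toAdd x)) 0, ?_⟩
    rw [hχ, (hp_mk _ _).1, LinearEquiv.apply_symm_apply, ofAdd_toAdd]
  have hχker : ∀ a, a ∈ χ.ker ↔ pu a = 0 := fun a => by
    rw [MonoidHom.mem_ker, hχ, ← ofAdd_zero, Multiplicative.ofAdd.injective.eq_iff]
    exact Ψ.map_eq_zero_iff
  have hval : ∀ a b : Q, (a * b).1.1.1 = a.1.1.1 * b.1.1.1 := fun _ _ => rfl
  have hcenter : χ.ker = Subgroup.center ↥Q := by
    ext a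
    rw [hχker, Subgroup.mem_center_iff]
    constructor
    · intro ha b
      apply Subtype.ext; apply Subtype.ext; apply Subtype.ext
      rw [hval, hval, hp a, hp b, ha, E_zero]
      simp [Matrix.smul_mul, Matrix.mul_smul, smul_smul, mul_comm]
    · intro ha
      have key : ∀ w, bet (pu a) w + bet w (pu a) = 0 := fun w => by
        have h := congrArg (fun b : Q => b.1.1.1) (ha (mk w 0))
        simp only [hval] at h
        rw [hp a, hmk, mul_sgE, mul_sgE] at h
        have h2 := (sgE_inj h).2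
        rw [CharTwo.add_eq_zero]
        linear_combination -h2
      refine Prod.ext (funext fun k => ?_) (funext fun k => ?_)
      · simpa [bet] using key (0, Pi.single k 1)
      · simpa [bet] using key (Pi.single k 1, 0)
  have hP2 : IsPGroup 2 ↥Q := IsPGroup.iff_card.2 ⟨_, hQcard⟩
  have hsq : ∀ a : Q, χ (a ^ 2) = 1 := fun a => by
    rw [map_pow, hχ, ← ofAdd_nsmul, two_nsmul, ← map_add]
    have h0 : pu a + pu a = 0 := by
      rw [← two_nsmul]
      exact ZModModule.char_nsmul_eq_zero (n := 2) (pu a)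
    rw [h0, map_zero, ofAdd_zero]
  have hcen2 : Nat.card (Subgroup.center ↥Q) = 2 := by
    have h := Subgroup.card_mul_index χ.ker
    rw [Subgroup.index_ker, MonoidHom.range_eq_top.2 hsurj,
      Subgroup.card_top, hQcard, Nat.card_congr (Multiplicative.toAdd (α := U)),
      Nat.card_congr Ψ.symm.toEquiv, Nat.card_prod, Nat.card_fun, Nat.card_zmod, Nat.card_fin,
      hcenter, show 2 ^ (2 * n + 1) = 2 * (2 ^ n * 2 ^ n) by ring] at h
    exact Nat.eq_of_mul_eq_mul_right (by positivity) h
  have hcomm : commutator ↥Q = Subgroup.center ↥Q := by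
    refine le_antisymm ?_ ?_
    · rw [← hcenter]
      exact Abelianization.commutator_subset_ker χ
    · intro a ha
      rw [← hcenter, hχker] at ha
      rcases zmod2_cases (pc a) with hc | hc
      · have : a = 1 := by
          apply Subtype.ext; apply Subtype.ext; apply Subtype.ext
          rw [hp a, ha, hc, sg_zero, one_smul, E_zero]
          rfl
        rw [this]; exact one_mem _
      · obtain ⟨i⟩ : Nonempty (Fin n) := ⟨⟨0, hn1⟩⟩
        let x : V n := (0, Pi.single i 1)
        let y : V n := (Pi.single i 1, 0)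
        have hxy : mk x 0 * mk y 0 = a * (mk y 0 * mk x 0) := by
          apply Subtype.ext; apply Subtype.ext; apply Subtype.ext
          rw [hval, hval, hval, hp a, hmk, hmk, ha, hc, mul_sgE, mul_sgE, mul_sgE]
          simp [x, y, bet, add_comm]
        have ha' : a = ⁅mk x 0, mk y 0⁆ := by
          rw [commutatorElement_def, hxy]; group
        rw [ha']
        exact Subgroup.commutator_mem_commutator (Subgroup.mem_top _) (Subgroup.mem_top _)
  have hext : Cfsg.IsExtraspecial 2 ↥Q := by
    refine ⟨⟨hP2, le_antisymm ?_ ?_, hcomm⟩, hcen2⟩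
    · exact PGroup.frattini_le_of_quotient_elementary (p := 2) hcomm.le fun a => by
        rw [← hcenter]; exact hsq a
    · exact hcomm ▸ PGroup.commutator_le_frattini hP2
  refine ⟨↥R₀, inferInstance, inferInstance, Q, MonoidHom.normal_ker π, e, χ, hext, hQcard, hsurj, hcenter, ?_, ?_⟩
  · intro r a
    have he : e (r : R₀ ⧸ Q) = π r := rfl
    rw [hχ, hχ, toAdd_ofAdd, he, hρΨ]
    congr 2
    obtain ⟨c, hc⟩ := hπ r (pu a)
    refine (sgE_inj (a := pc _) (b := pc a + c) ((hp _).symm.trans ?_)).1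
    have hinv : (r⁻¹).1.1 = (r.1.1).transpose := by
      have h1 : (r⁻¹).1.1 * r.1.1 = 1 := congrArg (fun x : R₀ => x.1.1) (inv_mul_cancel r)
      calc (r⁻¹).1.1 = (r⁻¹).1.1 * (r.1.1 * (r.1.1).transpose) := by
            rw [(Matrix.mem_orthogonalGroup_iff (I n) ℝ).1 r.1.2, Matrix.mul_one]
        _ = _ := by rw [← Matrix.mul_assoc, h1, Matrix.one_mul]
    show r.1.1 * a.1.1.1 * (r⁻¹).1.1 = _
    rw [hinv, hp a, Matrix.mul_smul, Matrix.smul_mul, hc, smul_smul, ← sg_add]
  · intro a
    rw [hχ, toAdd_ofAdd, hΨ, ← bet_self]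
    have hz : pu a + pu a = 0 := by
      rw [← two_nsmul]
      exact ZModModule.char_nsmul_eq_zero (n := 2) (pu a)
    have hval2 : (a * a).1.1.1 = sg (bet (pu a) (pu a)) • E 0 := by
      rw [hval, hp a, mul_sgE, CharTwo.add_self_eq_zero, zero_add, hz]
    constructor
    · intro h
      rw [h] at hval2
      have : sg 0 • E (0 : V n) = sg (bet (pu a) (pu a)) • E 0 := by
        rw [← hval2, sg_zero, one_smul, E_zero]; rfl
      exact ((sgE_inj this).2).symm
    · intro h
      apply Subtype.ext; apply Subtype.ext; apply Subtype.ext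
      rw [hval2, h, sg_zero, one_smul, E_zero]
      rfl

end Cfsg.Agent.S3084
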