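import Cfsg.Statements.S3085
import Cfsg.Agent.EqLemmas

set_option autoImplicit false
open Cfsg
open scoped commutatorElement

namespace Cfsg.Agent.S3085

section Aux

/-- The properties of the centre `{1, z}` of an extraspecial 2-group that are used. -/
structure TwoCentre (Q : Type*) [Group Q] (z : Q) : Prop where
  ne_one : z ≠ 1
  sq : z * z = 1
  comm : ∀ x : Q, z * x = x * z
  cases : ∀ x : Q, x ∈ Subgroup.center Q → x = 1 ∨ x = z
  dich : ∀ x y : Q, x * y = y * x ∨ x * y = y * x * z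
  squares : ∀ x : Q, x * x = 1 ∨ x * x = z

variable {Q : Type*} [Group Q] {z : Q}

theorem exists_twoCentre [Finite Q] (hQ : Cfsg.IsExtraspecial 2 Q) : ∃ z : Q, TwoCentre Q z := by
  obtain ⟨⟨-, -, hcomm⟩, hcard⟩ := hQ
  obtain ⟨⟨u, hu⟩, ⟨w, hw⟩, hne, huniv⟩ := Nat.card_eq_two_iff.1 hcard
  have hmem : ∀ x : Q, x ∈ Subgroup.center Q → x = u ∨ x = w := fun x hx => by
    have := (Set.eq_univ_iff_forall.1 huniv ⟨x, hx⟩)
    simpa using this
  have hne' : u ≠ w := fun h => hne (Subtype.ext h)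
  obtain ⟨z, hz1, hzmem, hcases⟩ : ∃ z : Q, z ≠ 1 ∧ z ∈ Subgroup.center Q ∧
      ∀ x : Q, x ∈ Subgroup.center Q → x = 1 ∨ x = z := by
    rcases hmem 1 (one_mem _) with h | h
    · exact ⟨w, fun e => hne' (h.symm.trans e.symm), hw, fun x hx => h.symm ▸ hmem x hx⟩
    · exact ⟨u, fun e => hne' (e.trans h), hu, fun x hx => h.symm ▸ (hmem x hx).symm⟩
  have hzc : ∀ x : Q, z * x = x * z := fun x => (Subgroup.mem_center_iff.1 hzmem x).symm
  have hzz : z * z = 1 := by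
    rcases hcases _ (mul_mem hzmem hzmem) with h | h
    · exact h
    · exact absurd (mul_eq_left.1 h) hz1
  have hd : ∀ x y : Q, x * y = y * x ∨ x * y = y * x * z := by
    intro x y
    have hm : (y * x)⁻¹ * (x * y) ∈ Subgroup.center Q := by
      rw [← hcomm, show (y * x)⁻¹ * (x * y) = ⁅x⁻¹, y⁻¹⁆ by simp [commutatorElement_def, mul_assoc]]
      exact Subgroup.commutator_mem_commutator (Subgroup.mem_top _) (Subgroup.mem_top _)
    rcases hcases _ hm with h | h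
    · exact Or.inl (inv_mul_eq_one.1 h).symm
    · exact Or.inr (by rw [← h]; group)
  refine ⟨z, hz1, hzz, hzc, hcases, hd, fun x => hcases _ (Subgroup.mem_center_iff.2 fun y => ?_)⟩
  rcases hd y x with h | h
  · exact (Commute.mul_right h h).eq
  · calc y * (x * x) = (y * x) * x := (mul_assoc _ _ _).symm
      _ = x * y * (z * x) := by rw [h]; simp [mul_assoc]
      _ = x * (y * x) * z := by rw [hzc]; simp [mul_assoc]
      _ = x * (x * y * z) * z := by rw [h]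
      _ = x * x * y * (z * z) := by simp [mul_assoc]
      _ = x * x * y := by rw [hzz, mul_one]

namespace TwoCentre

variable (Z : TwoCentre Q z)
include Z

theorem comm_anti {x y w : Q} (h1 : x * w = w * x) (h2 : y * w = w * y * z) :
    x * y * w = w * (x * y) * z := by
  calc x * y * w = x * (y * w) := mul_assoc _ _ _
    _ = (x * w) * y * z := by rw [h2]; simp [mul_assoc]
    _ = w * (x * y) * z := by rw [h1]; simp [mul_assoc]

theorem anti_comm {x y w : Q} (h1 : x * w = w * x * z) (h2 : y * w = w * y) :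
    x * y * w = w * (x * y) * z := by
  calc x * y * w = x * (y * w) := mul_assoc _ _ _
    _ = (x * w) * y := by rw [h2, mul_assoc]
    _ = w * x * (z * y) := by rw [h1, mul_assoc]
    _ = w * (x * y) * z := by rw [Z.comm]; simp [mul_assoc]

theorem anti_anti {x y w : Q} (h1 : x * w = w * x * z) (h2 : y * w = w * y * z) :
    x * y * w = w * (x * y) := by
  calc x * y * w = x * (y * w) := mul_assoc _ _ _
    _ = (x * w) * y * z := by rw [h2]; simp [mul_assoc]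
    _ = w * x * (z * y) * z := by rw [h1]; simp [mul_assoc]
    _ = w * (x * y) * (z * z) := by rw [Z.comm]; simp [mul_assoc]
    _ = w * (x * y) := by rw [Z.sq, mul_one]

theorem anti_symm {x y : Q} (h : x * y = y * x * z) : y * x = x * y * z := by
  rw [h, mul_assoc _ z z, Z.sq, mul_one]

theorem not_both {x y : Q} (h : x * y = y * x) (h' : x * y = y * x * z) : False :=
  Z.ne_one (mul_eq_left.1 (h'.symm.trans h))

theorem aut_fix (l : MulAut Q) : l z = z := by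
  have hmem : l z ∈ Subgroup.center Q := by
    rw [Subgroup.mem_center_iff]
    intro x
    obtain ⟨y, rfl⟩ := l.surjective x
    rw [← map_mul, ← map_mul, Z.comm]
  rcases Z.cases _ hmem with h | h
  · exact absurd ((MulEquiv.map_eq_one_iff l).1 h) Z.ne_one
  · exact h

theorem exists_anti {e : Q} (h1 : e ≠ 1) (h2 : e ≠ z) : ∃ w : Q, w * e = e * w * z := by
  by_contra h
  push Not at h
  rcases Z.cases e (Subgroup.mem_center_iff.2 fun w => (Z.dich w e).resolve_right (h w)) with h' | h'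
  · exact h1 h'
  · exact h2 h'

/-- A lift of the transvection along `a`. -/
theorem exists_transvection [Finite Q] (a : Q) (ha : a * a = z) :
    ∃ τ : MulAut Q, (∀ x, x * a = a * x → τ x = x) ∧ (∀ x, x * a = a * x * z → τ x = x * a) := by
  classical
  let f : Q → Q := fun x => if x * a = a * x then x else x * a
  have hf1 : ∀ x, x * a = a * x → f x = x := fun x h => if_pos h
  have hf2 : ∀ x, x * a = a * x * z → f x = x * a := fun x h =>
    if_neg (fun h' => Z.not_both h' h)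
  have hmul : ∀ x y, f (x * y) = f x * f y := by
    intro x y
    rcases Z.dich x a with hx | hx <;> rcases Z.dich y a with hy | hy
    · rw [hf1 x hx, hf1 y hy, hf1 (x * y) (by rw [mul_assoc, hy, ← mul_assoc, hx, mul_assoc])]
    · rw [hf1 x hx, hf2 y hy, hf2 _ (Z.comm_anti hx hy), mul_assoc]
    · rw [hf2 x hx, hf1 y hy, hf2 _ (Z.anti_comm hx hy), mul_assoc x y a, hy, ← mul_assoc]
    · rw [hf2 x hx, hf2 y hy, hf1 _ (Z.anti_anti hx hy)]
      symm
      calc x * a * (y * a) = x * (a * y) * a := by simp [mul_assoc]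
        _ = x * (y * a * z) * a := by rw [Z.anti_symm hy]
        _ = x * y * a * (z * a) := by simp [mul_assoc]
        _ = x * y * (a * a) * z := by rw [Z.comm]; simp [mul_assoc]
        _ = x * y := by rw [ha, mul_assoc, Z.sq, mul_one]
  let F : Q →* Q := MonoidHom.mk' f hmul
  have hinj : Function.Injective F := by
    rw [injective_iff_map_eq_one]
    intro x hx
    change f x = 1 at hx
    rcases Z.dich x a with h | h
    · rwa [hf1 x h] at hx
    · rw [hf2 x h] at hx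
      exfalso
      have hxa : x = a⁻¹ := eq_inv_of_mul_eq_one_left hx
      exact Z.not_both (by rw [hxa]; group) h
  exact ⟨MulEquiv.ofBijective F ⟨hinj, Finite.injective_iff_surjective.1 hinj⟩, hf1, hf2⟩

/-- The configuration inside a plus-type group used in the proof. -/
theorem config [Finite Q] (E : Subgroup Q) (hE : Cfsg.IsElementaryAbelian 2 E)
    (h16 : 16 ≤ Nat.card ↥E) :
    ∃ h e₁ e₂ e₃ u v : Q, h * h = z ∧ e₂ * e₂ = 1 ∧ e₃ * e₃ = 1 ∧
      h * e₂ = e₂ * h ∧ h * e₃ = e₃ * h ∧ e₂ * e₃ = e₃ * e₂ ∧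
      e₁ * h = h * e₁ * z ∧ u * h = h * u ∧ u * e₂ = e₂ * u * z ∧ u * e₃ = e₃ * u ∧
      v * h = h * v ∧ v * e₂ = e₂ * v ∧ v * e₃ = e₃ * v * z := by
  have hEc : ∀ a ∈ E, ∀ b ∈ E, a * b = b * a := fun a ha b hb =>
    congrArg Subtype.val (hE.1.is_comm.comm ⟨a, ha⟩ ⟨b, hb⟩)
  have hEs : ∀ a ∈ E, a * a = 1 := fun a ha => by rw [← pow_two]; exact hE.2 a ha
  have pick : ∀ s : Set Q, 3 ≤ s.ncard → ∃ e ∈ s, e ≠ 1 ∧ e ≠ z := by
    intro s hs
    by_contra h
    push Not at h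
    have hsub : s ⊆ {1, z} := fun e he => by
      by_cases h1 : e = 1
      · exact Or.inl h1
      · exact Or.inr (h e he h1)
    have h2 := Set.ncard_le_ncard hsub (Set.toFinite _)
    rw [Set.ncard_pair Z.ne_one.symm] at h2
    omega
  have half : ∀ (s : Set Q) (w : Q), (∀ a ∈ s, ∀ b ∈ s, a * b ∈ s) →
      s.ncard ≤ 2 * {a | a ∈ s ∧ a * w = w * a}.ncard := by
    intro s w hs
    have hun : s ⊆ {a | a ∈ s ∧ a * w = w * a} ∪ {a | a ∈ s ∧ a * w = w * a * z} := fun a ha =>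
      (Z.dich a w).elim (fun h => Or.inl ⟨ha, h⟩) (fun h => Or.inr ⟨ha, h⟩)
    have h1 : {a | a ∈ s ∧ a * w = w * a * z}.ncard ≤ {a | a ∈ s ∧ a * w = w * a}.ncard := by
      rcases Set.eq_empty_or_nonempty {a | a ∈ s ∧ a * w = w * a * z} with h0 | ⟨a₀, ha₀, ha₀'⟩
      · rw [h0, Set.ncard_empty]; exact Nat.zero_le _
      · exact Set.ncard_le_ncard_of_injOn (fun a => a * a₀)
          (fun a ha => ⟨hs a ha.1 a₀ ha₀, Z.anti_anti ha.2 ha₀'⟩)
          (fun a _ b _ h => mul_right_cancel h) (Set.toFinite _)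
    have := Set.ncard_le_ncard hun (Set.toFinite _)
    have := Set.ncard_union_le {a | a ∈ s ∧ a * w = w * a} {a | a ∈ s ∧ a * w = w * a * z}
    omega
  have hEn : {a | a ∈ E}.ncard = Nat.card E := (Nat.card_coe_set_eq _).symm
  obtain ⟨e₂, he₂, he₂1, he₂z⟩ := pick {a | a ∈ E} (by omega)
  obtain ⟨u₀, hu₀⟩ := Z.exists_anti he₂1 he₂z
  have c1 := half {a | a ∈ E} u₀ (fun a ha b hb => E.mul_mem ha hb)
  obtain ⟨e₃, ⟨he₃, he₃u⟩, he₃1, he₃z⟩ := pick {a | a ∈ E ∧ a * u₀ = u₀ * a} (by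
    simp only [Set.mem_setOf_eq] at c1; omega)
  obtain ⟨v', hv'⟩ := Z.exists_anti he₃1 he₃z
  obtain ⟨v₀, hv₀2, hv₀3⟩ : ∃ v₀ : Q, v₀ * e₂ = e₂ * v₀ ∧ v₀ * e₃ = e₃ * v₀ * z := by
    rcases Z.dich v' e₂ with h | h
    · exact ⟨v', h, hv'⟩
    · exact ⟨v' * u₀, Z.anti_anti h hu₀, Z.anti_comm hv' he₃u.symm⟩
  have c2 := half {a | a ∈ E ∧ a * u₀ = u₀ * a} v₀ (fun a ha b hb =>
    ⟨E.mul_mem ha.1 hb.1, (Commute.mul_left ha.2 hb.2).eq⟩)
  obtain ⟨e₁, ⟨⟨he₁, he₁u⟩, he₁v⟩, he₁1, he₁z⟩ :=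
    pick {a | (a ∈ E ∧ a * u₀ = u₀ * a) ∧ a * v₀ = v₀ * a} (by
      simp only [Set.mem_setOf_eq] at c1 c2; omega)
  have he₁₂ : e₁ * e₂ = e₂ * e₁ := hEc _ he₁ _ he₂
  have he₁₃ : e₁ * e₃ = e₃ * e₁ := hEc _ he₁ _ he₃
  obtain ⟨h₀, hh₀⟩ := Z.exists_anti he₁1 he₁z
  obtain ⟨h₁, hh₁1, hh₁2⟩ : ∃ h₁ : Q, h₁ * e₁ = e₁ * h₁ * z ∧ h₁ * e₂ = e₂ * h₁ := by
    rcases Z.dich h₀ e₂ with h | h
    · exact ⟨h₀, hh₀, h⟩
    · exact ⟨h₀ * u₀, Z.anti_comm hh₀ he₁u.symm, Z.anti_anti h hu₀⟩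
  obtain ⟨h₂, hh₂1, hh₂2, hh₂3⟩ : ∃ h₂ : Q, h₂ * e₁ = e₁ * h₂ * z ∧ h₂ * e₂ = e₂ * h₂ ∧
      h₂ * e₃ = e₃ * h₂ := by
    rcases Z.dich h₁ e₃ with h | h
    · exact ⟨h₁, hh₁1, hh₁2, h⟩
    · exact ⟨h₁ * v₀, Z.anti_comm hh₁1 he₁v.symm, (Commute.mul_left hh₁2 hv₀2).eq,
        Z.anti_anti h hv₀3⟩
  obtain ⟨h₃, hh₃s, hh₃1, hh₃2, hh₃3⟩ : ∃ h₃ : Q, h₃ * h₃ = z ∧ h₃ * e₁ = e₁ * h₃ * z ∧
      h₃ * e₂ = e₂ * h₃ ∧ h₃ * e₃ = e₃ * h₃ := by
    rcases Z.squares h₂ with h | h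
    · refine ⟨h₂ * e₁, ?_, Z.anti_comm hh₂1 rfl, (Commute.mul_left hh₂2 he₁₂).eq,
        (Commute.mul_left hh₂3 he₁₃).eq⟩
      calc h₂ * e₁ * (h₂ * e₁) = h₂ * (e₁ * h₂) * e₁ := by simp [mul_assoc]
        _ = h₂ * (h₂ * e₁ * z) * e₁ := by rw [Z.anti_symm hh₂1]
        _ = (h₂ * h₂) * e₁ * (z * e₁) := by simp [mul_assoc]
        _ = z := by rw [h, one_mul, Z.comm, ← mul_assoc, hEs e₁ he₁, one_mul]
    · exact ⟨h₂, h, hh₂1, hh₂2, hh₂3⟩
  have he1h : e₁ * h₃ = h₃ * e₁ * z := Z.anti_symm hh₃1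
  obtain ⟨u, huh, hu2, hu3⟩ : ∃ u : Q, u * h₃ = h₃ * u ∧ u * e₂ = e₂ * u * z ∧
      u * e₃ = e₃ * u := by
    rcases Z.dich u₀ h₃ with h | h
    · exact ⟨u₀, h, hu₀, he₃u.symm⟩
    · exact ⟨u₀ * e₁, Z.anti_anti h he1h, Z.anti_comm hu₀ he₁₂,
        (Commute.mul_left he₃u.symm he₁₃).eq⟩
  obtain ⟨v, hvh, hv2, hv3⟩ : ∃ v : Q, v * h₃ = h₃ * v ∧ v * e₂ = e₂ * v ∧
      v * e₃ = e₃ * v * z := by
    rcases Z.dich v₀ h₃ with h | h
    · exact ⟨v₀, h, hv₀2, hv₀3⟩
    · exact ⟨v₀ * e₁, Z.anti_anti h he1h, (Commute.mul_left hv₀2 he₁₂).eq,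
        Z.anti_comm hv₀3 he₁₃⟩
  exact ⟨h₃, e₁, e₂, e₃, u, v, hh₃s, hEs _ he₂, hEs _ he₃, hh₃2, hh₃3, hEc _ he₂ _ he₃, he1h,
    huh, hu2, hu3, hvh, hv2, hv3⟩

/-- Conjugation changes an element by a central sign. -/
theorem conj_sign (g x : Q) :
    ∃ k : Q, (k = 1 ∨ k = z) ∧ g * x * g⁻¹ = x * k ∧ (k = 1 → g * x = x * g) := by
  rcases Z.dich g x with h | h
  · exact ⟨1, Or.inl rfl, by rw [mul_one, h, mul_inv_cancel_right], fun _ => h⟩
  · refine ⟨z, Or.inr rfl, ?_, fun e => absurd e Z.ne_one⟩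
    rw [h, mul_assoc _ z, Z.comm, ← mul_assoc, mul_inv_cancel_right]

theorem sign_comm {k : Q} (hk : k = 1 ∨ k = z) (x : Q) : Commute k x := by
  rcases hk with rfl | rfl
  · exact Commute.one_left x
  · exact Z.comm x

theorem sign_fix {k : Q} (hk : k = 1 ∨ k = z) (l : MulAut Q) : l k = k := by
  rcases hk with rfl | rfl
  · exact map_one l
  · exact Z.aut_fix l

end TwoCentre

end Aux


/-- Let Q be an extraspecial 2-group of order 2^(2n+1) with n ≥ 3 that is of plus type (it contains an elementary abelian subgroup of order 2^(n+1)). Then the group of inner automorphisms of Q has no complement in the full automorphism group of Q: the extension of the inner automorphism group (elementary abelian of order 2^(2n)) by the outer automorphism group (the orthogonal group of plus type) does not split. -/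
theorem result {Q : Type*} [Group Q] [Finite Q] (n : ℕ) (hn : 3 ≤ n) (hQ : Cfsg.IsExtraspecial 2 Q) (hcard : Nat.card Q = 2 ^ (2 * n + 1)) (hplus : ∃ E : Subgroup Q, Cfsg.IsElementaryAbelian 2 E ∧ Nat.card ↥E = 2 ^ (n + 1)) (L : Subgroup (MulAut Q)) : ¬ (Cfsg.Inn Q).IsComplement' L := by
  classical
  intro hL
  obtain ⟨z, Z⟩ := exists_twoCentre hQ
  obtain ⟨E, hE, hEcard⟩ := hplus
  have h16 : 16 ≤ Nat.card ↥E := by
    rw [hEcard]
    calc 16 = 2 ^ 4 := rfl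
      _ ≤ 2 ^ (n + 1) := Nat.pow_le_pow_right (by norm_num) (by omega)
  obtain ⟨h, e₁, e₂, e₃, u, v, hhh, h22, h33, hh2, hh3, h23, he1h, huh, hu2, hu3, hvh, hv2, hv3⟩ :=
    Z.config E hE h16
  have hInn : (Cfsg.Inn Q).Normal := ⟨by
    rintro i ⟨g, rfl⟩ τ
    refine ⟨τ g, ?_⟩
    ext x
    simp [MulAut.mul_apply]⟩
  have hbot : ∀ l ∈ L, l ∈ Cfsg.Inn Q → l = 1 := fun l hl hi =>
    Subgroup.mem_bot.1 (hL.disjoint.le_bot ⟨hi, hl⟩)
  -- members of L lifting a transvection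
  have key : ∀ a : Q, a * a = z → ∃ (l τ : MulAut Q) (g : Q), l ∈ L ∧
      (QuotientGroup.mk l : MulAut Q ⧸ Cfsg.Inn Q) = QuotientGroup.mk τ ∧
      (∀ x, l x = g * τ x * g⁻¹) ∧
      (∀ x, x * a = a * x → τ x = x) ∧ (∀ x, x * a = a * x * z → τ x = x * a) := by
    intro a ha
    obtain ⟨τ, h1, h2⟩ := Z.exists_transvection a ha
    obtain ⟨⟨⟨i, g, hg⟩, l, hlL⟩, hil⟩ := ((Subgroup.isComplement_iff_bijective _ _).1 hL).2 τ
    have hl : l = (MulAut.conj g)⁻¹ * τ := by rw [hg, ← hil]; group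
    have hi : (QuotientGroup.mk i : MulAut Q ⧸ Cfsg.Inn Q) = 1 :=
      (QuotientGroup.eq_one_iff i).2 ⟨g, hg⟩
    refine ⟨l, τ, g⁻¹, hlL, ?_, fun x => ?_, h1, h2⟩
    · rw [← hil, QuotientGroup.mk_mul, hi, one_mul]
    · rw [hl, MulAut.mul_apply, ← map_inv, MulAut.conj_apply]
  obtain ⟨la, τa, g, hlaL, hla', hla, hta1, hta2⟩ := key h hhh
  have hga : g * h ≠ h * g := by
    intro hgh
    have hinv : la * la = 1 := by
      refine hbot _ (mul_mem hlaL hlaL) ?_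
      rw [← QuotientGroup.eq_one_iff, QuotientGroup.mk_mul, hla', ← QuotientGroup.mk_mul,
        QuotientGroup.eq_one_iff]
      refine ⟨h, ?_⟩
      ext x
      rw [MulAut.mul_apply, MulAut.conj_apply]
      rcases Z.dich x h with hx | hx
      · rw [hta1 x hx, hta1 x hx, ← hx, mul_inv_cancel_right]
      · rw [hta2 x hx, map_mul, hta2 x hx, hta1 h rfl, Z.anti_symm hx, mul_assoc x h h, hhh,
          mul_assoc _ z, Z.comm, ← mul_assoc, mul_inv_cancel_right]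
    have hlh : la h = h := by rw [hla, hta1 h rfl, hgh, mul_inv_cancel_right]
    obtain ⟨k, hk1, hk2, -⟩ := Z.conj_sign g e₁
    have hl1 : la e₁ = e₁ * k * h := by
      rw [hla, hta2 e₁ he1h, ← hk2]
      calc g * (e₁ * h) * g⁻¹ = (g * e₁ * g⁻¹) * (g * h * g⁻¹) := by group
        _ = g * e₁ * g⁻¹ * h := by rw [hgh, mul_inv_cancel_right]
    have h2 : la (la e₁) = e₁ := by rw [← MulAut.mul_apply, hinv]; rfl
    rw [hl1, map_mul, map_mul, hl1, hlh, Z.sign_fix hk1] at h2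
    have h3 : e₁ * ((k * k) * (h * h)) = e₁ := by
      conv_rhs => rw [← h2]
      simp only [mul_assoc]
      rw [← mul_assoc h k h, ← (Z.sign_comm hk1 h).eq, mul_assoc]
    have hkk : k * k = 1 := by
      rcases hk1 with rfl | rfl
      · exact one_mul 1
      · exact Z.sq
    rw [hkk, hhh, one_mul, mul_eq_left] at h3
    exact Z.ne_one h3
  have hgb : ∀ b w : Q, b * b = z → b * h = h * b → w * h = h * w → w * b = b * w * z →
      g * b = b * g := by
    intro b w hb hbh hwh hwb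
    obtain ⟨lb, τb, g', hlbL, hlb', hlb, htb1, htb2⟩ := key b hb
    have hct : τa * τb = τb * τa := by
      ext x
      rw [MulAut.mul_apply, MulAut.mul_apply]
      rcases Z.dich x h with hx | hx <;> rcases Z.dich x b with hy | hy
      · rw [htb1 x hy, hta1 x hx, htb1 x hy]
      · rw [htb2 x hy, map_mul, hta1 x hx, hta1 b hbh, htb2 x hy]
      · rw [htb1 x hy, hta2 x hx, map_mul, htb1 x hy, htb1 h hbh.symm]
      · rw [htb2 x hy, map_mul, hta2 x hx, hta1 b hbh, map_mul, htb2 x hy, htb1 h hbh.symm,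
          mul_assoc, mul_assoc, hbh]
    have hcl : la * lb = lb * la := by
      refine mul_inv_eq_one.1 (hbot (la * lb * (lb * la)⁻¹)
        (mul_mem (mul_mem hlaL hlbL) (inv_mem (mul_mem hlbL hlaL))) ?_)
      rw [← QuotientGroup.eq_one_iff]
      simp only [QuotientGroup.mk_mul, QuotientGroup.mk_inv, hla', hlb']
      rw [← QuotientGroup.mk_mul, ← QuotientGroup.mk_mul, hct]
      exact mul_inv_cancel _
    obtain ⟨k₁, hk₁, hk₁', -⟩ := Z.conj_sign g w
    obtain ⟨k₂, hk₂, hk₂', -⟩ := Z.conj_sign g' w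
    obtain ⟨k₃, hk₃, hk₃', -⟩ := Z.conj_sign g' b
    obtain ⟨k₄, hk₄, hk₄', hk₄''⟩ := Z.conj_sign g b
    have law : la w = w * k₁ := by rw [hla, hta1 w hwh, hk₁']
    have lab : la b = b * k₄ := by rw [hla, hta1 b hbh, hk₄']
    have lbw : lb w = w * k₂ * (b * k₃) := by
      rw [hlb, htb2 w hwb, ← hk₂', ← hk₃']
      group
    have h2 : la (lb w) = lb (la w) := by rw [← MulAut.mul_apply, hcl, MulAut.mul_apply]
    rw [lbw, law, map_mul, map_mul, map_mul, map_mul, lbw, law, lab, Z.sign_fix hk₂,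
      Z.sign_fix hk₃, Z.sign_fix hk₁] at h2
    -- h2 now differs on the two sides by the factor k₄
    have e : w * k₁ * k₂ * (b * k₄ * k₃) = (w * k₂ * (b * k₃) * k₁) * k₄ := by
      have c1 := (Z.sign_comm hk₁ (k₂ * (b * k₃))).eq
      have c4 := (Z.sign_comm hk₄ k₃).eq
      calc w * k₁ * k₂ * (b * k₄ * k₃) = w * (k₁ * (k₂ * (b * k₃))) * k₄ := by
            simp only [mul_assoc]; rw [c4]
        _ = (w * k₂ * (b * k₃) * k₁) * k₄ := by rw [c1]; simp only [mul_assoc]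
    rw [e, mul_eq_left] at h2
    exact hk₄'' h2
  have sq_mul : ∀ e : Q, h * e = e * h → e * e = 1 → h * e * (h * e) = z := fun e he he1 => by
    calc h * e * (h * e) = h * (e * h) * e := by simp [mul_assoc]
      _ = (h * h) * (e * e) := by rw [← he]; simp [mul_assoc]
      _ = z := by rw [hhh, he1, mul_one]
  have h23h : h * (e₂ * e₃) = e₂ * e₃ * h := (Commute.mul_right hh2 hh3).eq
  have h23s : e₂ * e₃ * (e₂ * e₃) = 1 := by
    calc e₂ * e₃ * (e₂ * e₃) = e₂ * (e₃ * e₂) * e₃ := by simp [mul_assoc]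
      _ = (e₂ * e₂) * (e₃ * e₃) := by rw [← h23]; simp [mul_assoc]
      _ = 1 := by rw [h22, h33, one_mul]
  have hb := hgb (h * e₂) u (sq_mul e₂ hh2 h22)
    (Commute.mul_left (Commute.refl h) hh2.symm).eq huh
    (Z.anti_symm (Z.comm_anti huh.symm (Z.anti_symm hu2)))
  have hc := hgb (h * e₃) v (sq_mul e₃ hh3 h33)
    (Commute.mul_left (Commute.refl h) hh3.symm).eq hvh
    (Z.anti_symm (Z.comm_anti hvh.symm (Z.anti_symm hv3)))
  have hd := hgb (h * (e₂ * e₃)) u (sq_mul _ h23h h23s)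
    (Commute.mul_left (Commute.refl h) h23h.symm).eq huh
    (Z.anti_symm (Z.comm_anti huh.symm (Z.anti_comm (Z.anti_symm hu2) hu3.symm)))
  apply hga
  have hprod : h * e₂ * (h * (e₂ * e₃))⁻¹ * (h * e₃) = h := by
    have i2 : e₂⁻¹ = e₂ := inv_eq_of_mul_eq_one_right h22
    have i3 : e₃⁻¹ = e₃ := inv_eq_of_mul_eq_one_right h33
    calc h * e₂ * (h * (e₂ * e₃))⁻¹ * (h * e₃) = h * (e₂ * e₃⁻¹) * e₂⁻¹ * e₃ := by group
      _ = h * (e₃ * e₂) * e₂⁻¹ * e₃ := by rw [i3, h23]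
      _ = h * (e₃ * e₃) := by group
      _ = h := by rw [h33, mul_one]
  have := ((show Commute g (h * e₂) from hb).mul_right
    (show Commute g (h * (e₂ * e₃)) from hd).inv_right).mul_right (show Commute g (h * e₃) from hc)
  rw [hprod] at this
  exact this.eq

end Cfsg.Agent.S3085
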