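import Cfsg.Statements.S3086
import Cfsg.Agent.Lib.PGV.Main
import Cfsg.Agent.Lib.Components.Basic
import Cfsg.Agent.EqLemmas

set_option autoImplicit false
open Cfsg

namespace Cfsg.Agent.S3086

/-- The P(G,V)-theorem. Let p be a prime, G a finite group acting faithfully and linearly on a finite vector space V over the field with p elements, and A a nontrivial elementary abelian p-subgroup of G such that |A|·|C_V(A)| ≥ |B|·|C_V(B)| for every subgroup B of A. Then A normalizes every component (subnormal quasisimple subgroup) of G. -/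
theorem result {G V : Type*} [Group G] [Finite G] [AddCommGroup V] [Finite V] (p : ℕ) [Fact p.Prime] [Module (ZMod p) V]
    (ρ : Representation (ZMod p) G V) (hρ : Function.Injective ρ)
    (A : Subgroup G) (hA : A ≠ ⊥) (hAel : Cfsg.IsElementaryAbelian p A)
    (hP : ∀ B : Subgroup G, B ≤ A →
      Nat.card ↥B * Nat.card {v : V // ∀ b ∈ B, ρ b v = v} ≤ Nat.card ↥A * Nat.card {v : V // ∀ a ∈ A, ρ a v = v}) :
    ∀ K : Subgroup G, Cfsg.IsComponent K → A ≤ Subgroup.normalizer (K : Set G) := by
  intro K hK
  letI : DistribMulAction G V :=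
    { smul := fun g v => ρ g v
      one_smul := fun v => by show ρ 1 v = v; rw [map_one]; rfl
      mul_smul := fun g k v => by show ρ (g * k) v = ρ g (ρ k v); rw [map_mul]; rfl
      smul_zero := fun g => map_zero (ρ g)
      smul_add := fun g u v => map_add (ρ g) u v }
  have hsm : ∀ (g : G) (v : V), g • v = ρ g v := fun _ _ => rfl
  refine PGV.pgv (V := V) p ⟨fun v => ?_, hK.2, fun a ha c hc => ?_, fun a ha => hAel.2 a ha, fun a _ hm x hx y hy => ?_,
    fun g hg => hρ ?_⟩ ?_
  · rw [← Nat.cast_smul_eq_nsmul (ZMod p), ZMod.natCast_self, zero_smul]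
  · exact congrArg Subtype.val (hAel.1.1.1 ⟨a, ha⟩ ⟨c, hc⟩)
  · have hne : K.map (MulAut.conj a).toMonoidHom ≠ K := fun e => hm (Subgroup.mem_normalizer_iff.2 fun n => by
      have h1 := (Subgroup.mem_map_iff_mem (f := (MulAut.conj a).toMonoidHom) (MulAut.conj a).injective
        (K := K) (x := n))
      rw [e] at h1
      exact h1.symm)
    have h0 := Components.IsComponent.commutator_eq_bot hK (Components.IsComponent.conj hK a) (Ne.symm hne)
    rw [Subgroup.commutator_eq_bot_iff_le_centralizer] at h0
    exact (Subgroup.mem_centralizer_iff.1 (h0 hx) _ ⟨y, hy, rfl⟩).symm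
  · rw [map_one]; exact LinearMap.ext hg
  · intro B hB
    exact hP B hB

end Cfsg.Agent.S3086
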