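import Cfsg.Statements.S3087
import Cfsg.Agent.EqLemmas

set_option autoImplicit false
open Cfsg

namespace Cfsg.Agent.S3087

/-- Let p be a prime, G a finite group acting linearly on a finite vector space V over the field with p elements, W a G-invariant subspace, and A a subgroup of G with |A|·|C_V(A)| ≥ |B|·|C_V(B)| for every subgroup B of A. Then |A|·|C_W(A)| ≥ |B|·|C_W(B)| for every subgroup B of A that contains C_A(W); that is, the image of A in the group induced on W satisfies the same maximality condition. -/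
theorem result {G V : Type*} [Group G] [Finite G] [AddCommGroup V] [Finite V] (p : ℕ) [Fact p.Prime] [Module (ZMod p) V]
    (ρ : Representation (ZMod p) G V) (W : Submodule (ZMod p) V) (hW : ∀ g : G, ∀ w ∈ W, ρ g w ∈ W)
    (A : Subgroup G)
    (hP : ∀ B : Subgroup G, B ≤ A →
      Nat.card ↥B * Nat.card {v : V // ∀ b ∈ B, ρ b v = v} ≤ Nat.card ↥A * Nat.card {v : V // ∀ a ∈ A, ρ a v = v})
    (B : Subgroup G) (hBA : B ≤ A) (hCB : ∀ a ∈ A, (∀ w ∈ W, ρ a w = w) → a ∈ B) :
    Nat.card ↥B * Nat.card {w : W // ∀ b ∈ B, ρ b w = w} ≤ Nat.card ↥A * Nat.card {w : W // ∀ a ∈ A, ρ a w = w} := by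
  classical
  let fx : Subgroup G → AddSubgroup V := fun K =>
    { carrier := {v | ∀ b ∈ K, ρ b v = v}
      zero_mem' := fun b _ => map_zero _
      add_mem' := fun {x y} hx hy b hb => by rw [map_add, hx b hb, hy b hb]
      neg_mem' := fun {x} hx b hb => by rw [map_neg, hx b hb] }
  have e1 : ∀ K : Subgroup G, Nat.card {v : V // ∀ b ∈ K, ρ b v = v} = Nat.card (fx K) :=
    fun K => rfl
  have e2 : ∀ K : Subgroup G, Nat.card {w : W // ∀ b ∈ K, ρ b w = w}
      = Nat.card ↥(W.toAddSubgroup ⊓ fx K) := fun K => Nat.card_congr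
    { toFun := fun w => ⟨(w.1 : V), w.1.2, w.2⟩
      invFun := fun v => ⟨⟨v.1, v.2.1⟩, v.2.2⟩
      left_inv := fun w => rfl
      right_inv := fun v => rfl }
  have e3 : ∀ K : Subgroup G, Nat.card ↥(W.toAddSubgroup ⊓ fx K) * W.toAddSubgroup.relIndex (fx K)
      = Nat.card (fx K) := fun K => by
    have h := AddSubgroup.card_mul_index (W.toAddSubgroup.addSubgroupOf (fx K))
    rw [← h]
    congr 1
    exact Nat.card_congr
      { toFun := fun v => ⟨⟨v.1, v.2.2⟩, v.2.1⟩
        invFun := fun v => ⟨v.1.1, v.2, v.1.2⟩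
        left_inv := fun v => rfl
        right_inv := fun v => rfl }
  have hsub : fx A ≤ fx B := fun v hv b hb => hv b (hBA hb)
  have hne : W.toAddSubgroup.relIndex (fx B) ≠ 0 := AddSubgroup.index_ne_zero_of_finite
  have hle : W.toAddSubgroup.relIndex (fx A) ≤ W.toAddSubgroup.relIndex (fx B) :=
    AddSubgroup.relIndex_le_of_le_right hsub hne
  have h := hP B hBA
  rw [e1 B, e1 A, ← e3 B, ← e3 A] at h
  rw [e2 B, e2 A]
  refine le_of_mul_le_mul_right ?_ (Nat.pos_of_ne_zero hne)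
  calc Nat.card ↥B * Nat.card ↥(W.toAddSubgroup ⊓ fx B) * W.toAddSubgroup.relIndex (fx B)
      = Nat.card ↥B * (Nat.card ↥(W.toAddSubgroup ⊓ fx B) * W.toAddSubgroup.relIndex (fx B)) :=
        mul_assoc _ _ _
    _ ≤ Nat.card ↥A * (Nat.card ↥(W.toAddSubgroup ⊓ fx A) * W.toAddSubgroup.relIndex (fx A)) := h
    _ ≤ Nat.card ↥A * (Nat.card ↥(W.toAddSubgroup ⊓ fx A) * W.toAddSubgroup.relIndex (fx B)) := by
        gcongr
    _ = Nat.card ↥A * Nat.card ↥(W.toAddSubgroup ⊓ fx A) * W.toAddSubgroup.relIndex (fx B) :=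
        (mul_assoc _ _ _).symm

end Cfsg.Agent.S3087
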