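import Cfsg.Statements.S3091
import Cfsg.Agent.EqLemmas
import Cfsg.Agent.Lib.TwoNatural.Main
import Cfsg.Agent.Lib.TwoNatural.Four
import Cfsg.Agent.Lib.TwoNatural.Build
import Cfsg.Agent.Lib.Cores.Basic

set_option autoImplicit false
open Cfsg

namespace Cfsg.Agent.S3091

open Cfsg.Agent.TwoNatural Cfsg.Agent.SL2Module

/-- The parabolic given by the data of the statement. -/
noncomputable def mkPar {G : Type*} [Group G] [Finite G] {F : Type*} [Field F] [Fintype F]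
    (L : Subgroup G)
    (φ : ↥L ⧸ Cfsg.pCore 2 ↥L ≃* Matrix.SpecialLinearGroup (Fin 2) F)
    (ψ : Additive ↥(Cfsg.pCore 2 ↥L) ≃+ (Fin 2 → F))
    (h : ∀ (g : ↥L) (v : ↥(Cfsg.pCore 2 ↥L)),
      ψ (Additive.ofMul ⟨g * v * g⁻¹, Subgroup.Normal.conj_mem inferInstance (v : ↥L) v.2 g⟩)
        = Matrix.mulVec ((φ (QuotientGroup.mk g) : Matrix.SpecialLinearGroup (Fin 2) F) : Matrix (Fin 2) (Fin 2) F) (ψ (Additive.ofMul v))) :
    Par F G where
  L := L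
  V := (Cfsg.pCore 2 ↥L).map L.subtype
  le := Subgroup.map_subtype_le _
  π := φ.toMonoidHom.comp (QuotientGroup.mk' _)
  surj := φ.surjective.comp (QuotientGroup.mk'_surjective _)
  ker l := by
    rw [MonoidHom.comp_apply, MulEquiv.coe_toMonoidHom, EmbeddingLike.map_eq_one_iff,
      QuotientGroup.mk'_apply, QuotientGroup.eq_one_iff]
    exact (Subgroup.mem_map_iff_mem L.subtype_injective).symm
  el w := ((Additive.toMul (ψ.symm w) : ↥(Cfsg.pCore 2 ↥L)) : ↥L)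
  el_mem w := ⟨_, (Additive.toMul (ψ.symm w)).2, rfl⟩
  el_surj v hv := by
    obtain ⟨x, hx, rfl⟩ := hv
    exact ⟨ψ (Additive.ofMul ⟨x, hx⟩), by rw [AddEquiv.symm_apply_apply]; rfl⟩
  el_inj a b hab := ψ.symm.injective (Additive.toMul.injective (Subtype.ext (Subtype.ext hab)))
  el_add a b := by rw [map_add]; rfl
  act l w := by
    have := h l (Additive.toMul (ψ.symm w))
    rw [ofMul_toMul, AddEquiv.apply_symm_apply] at this
    rw [MonoidHom.comp_apply, MulEquiv.coe_toMonoidHom, QuotientGroup.mk'_apply, ← this,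
      AddEquiv.symm_apply_apply]
    rfl

theorem mkPar_not_le {G : Type*} [Group G] [Finite G] {F : Type*} [Field F] [Fintype F] [CharP F 2]
    {L : Subgroup G} {W : Subgroup G}
    (φ : ↥L ⧸ Cfsg.pCore 2 ↥L ≃* Matrix.SpecialLinearGroup (Fin 2) F)
    (S : Sylow 2 ↥L)
    (hS : (S : Subgroup ↥L).map L.subtype = (Cfsg.pCore 2 ↥L).map L.subtype ⊔ W) :
    ¬W ≤ (Cfsg.pCore 2 ↥L).map L.subtype := by
  haveI : Fact (Nat.Prime 2) := ⟨Nat.prime_two⟩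
  intro hle
  rw [sup_eq_left.2 hle] at hS
  have e : (S : Subgroup ↥L) = Cfsg.pCore 2 ↥L := Subgroup.map_injective L.subtype_injective hS
  refine S.not_dvd_index ?_
  rw [e, Subgroup.index_eq_card, Nat.card_congr φ.toEquiv]
  have h2 : orderOf (up 1 : Matrix.SpecialLinearGroup (Fin 2) F) = 2 := by
    refine orderOf_eq_prime ?_ ?_
    · refine Subtype.ext ?_
      rw [pow_two, Matrix.SpecialLinearGroup.coe_mul]
      ext i j
      fin_cases i <;> fin_cases j <;>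
        simp [up_val, Matrix.mul_apply, Fin.sum_univ_two, CharTwo.add_self_eq_zero]
    · intro hh
      have := congrFun (congrFun (congrArg Subtype.val hh) 0) 1
      simp [up_val] at this
  exact (dvd_of_eq h2.symm).trans (orderOf_dvd_natCard _)

theorem mkPar_normalizer {G : Type*} [Group G] [Finite G] {L : Subgroup G}
    (hM : Cfsg.IsMaximalTwoLocal (Subgroup.normalizer (L : Set G)))
    (hV : IsPGroup 2 ↥((Cfsg.pCore 2 ↥L).map L.subtype))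
    (hne : (Cfsg.pCore 2 ↥L).map L.subtype ≠ ⊥) :
    Subgroup.normalizer (L : Set G)
      = Subgroup.normalizer (((Cfsg.pCore 2 ↥L).map L.subtype : Subgroup G) : Set G) :=
  (hM.2 _ ⟨_, hV, hne, rfl⟩ (Cores.normalizer_le_normalizer_map _)).symm

/-- A Sylow 2-subgroup of the normalizer, moved to contain a given Sylow 2-subgroup of `L`. -/
theorem exists_conj_sylow {G : Type*} [Group G] [Finite G] {L L' J : Subgroup G} (S : Sylow 2 ↥L)
    (hS : (S : Subgroup ↥L).map L.subtype = J)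
    (N : Subgroup G) (hN : N = Subgroup.normalizer (L : Set G)) (T : Sylow 2 ↥N)
    (hO : Cfsg.pCore 2 ↥(((T : Subgroup ↥N).map N.subtype) ⊔ L ⊔ L') = ⊥) :
    ∃ T' : Subgroup G, IsPGroup 2 T' ∧ J ≤ T' ∧ T' ≤ N ∧
      (∀ Q : Subgroup G, IsPGroup 2 Q → T' ≤ Q → Q ≤ N → Q = T') ∧
      ∀ R : Subgroup G, IsPGroup 2 R → R ≤ T' ⊔ L ⊔ L' →
        T' ⊔ L ⊔ L' ≤ Subgroup.normalizer (R : Set G) → R = ⊥ := by
  haveI : Fact (Nat.Prime 2) := ⟨Nat.prime_two⟩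
  set T₀ := (T : Subgroup ↥N).map N.subtype with hT₀
  have hLN : L ≤ N := hN ▸ Subgroup.le_normalizer
  have hJL : J ≤ L := hS ▸ Subgroup.map_subtype_le _
  have hJp : IsPGroup 2 J := hS ▸ S.isPGroup'.map _
  have hT₀N : T₀ ≤ N := Subgroup.map_subtype_le _
  have hT₀p : IsPGroup 2 T₀ := T.isPGroup'.map _
  -- a conjugate of `J` lies in `T₀`
  obtain ⟨S', hS'⟩ := (hJp.comap_of_injective N.subtype N.subtype_injective).exists_le_sylow
  obtain ⟨n, hn⟩ := MulAction.exists_smul_eq ↥N S' T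
  have hJn : ∀ v ∈ J, (n : G) * v * (n : G)⁻¹ ∈ T₀ ⊓ L := fun v hv => by
    refine Subgroup.mem_inf.2 ⟨?_, (Subgroup.mem_normalizer_iff.1 (hN ▸ n.2) v).1 (hJL hv)⟩
    have h1 : n * ⟨v, hLN (hJL hv)⟩ * n⁻¹ ∈ (T : Subgroup ↥N) := by
      rw [← hn, Sylow.coe_subgroup_smul, Subgroup.mem_pointwise_smul_iff_inv_smul_mem]
      simpa [mul_assoc] using hS' (show (⟨v, hLN (hJL hv)⟩ : ↥N) ∈ J.comap N.subtype from hv)
    exact ⟨_, h1, rfl⟩
  obtain ⟨S₂, hS₂⟩ := ((hT₀p.to_le (inf_le_left : T₀ ⊓ L ≤ T₀)).comap_of_injective L.subtype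
    L.subtype_injective).exists_le_sylow
  obtain ⟨l, hl⟩ := MulAction.exists_smul_eq ↥L S S₂
  have hle : T₀ ⊓ L ≤ J.map (MulAut.conj (l : G)).toMonoidHom := fun x hx => by
    have h1 : (⟨x, hx.2⟩ : ↥L) ∈ (S₂ : Subgroup ↥L) := hS₂ hx
    rw [← hl, Sylow.coe_subgroup_smul, Subgroup.mem_pointwise_smul_iff_inv_smul_mem] at h1
    refine ⟨(l : G)⁻¹ * x * l, hS ▸ ⟨_, h1, ?_⟩, by simp [mul_assoc]⟩
    simp [mul_assoc]
  have hcard : Nat.card ↥(J.map (MulAut.conj (l : G)).toMonoidHom) ≤ Nat.card ↥(T₀ ⊓ L) := by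
    rw [Subgroup.card_map_of_injective (MulAut.conj (l : G)).injective]
    exact Nat.card_le_card_of_injective (fun v => ⟨_, hJn v v.2⟩) fun a b hab =>
      Subtype.ext (mul_left_cancel (mul_right_cancel (congrArg Subtype.val hab)))
  have heq := Subgroup.eq_of_le_of_card_ge hle hcard
  have hlN : (l : G) ∈ N := hLN l.2
  refine ⟨T₀.map (MulAut.conj (l : G)⁻¹).toMonoidHom, hT₀p.map _, fun v hv => ?_, ?_, ?_, ?_⟩
  · have h1 : (l : G) * v * (l : G)⁻¹ ∈ T₀ ⊓ L := heq ▸ ⟨v, hv, rfl⟩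
    exact ⟨_, h1.1, by simp [mul_assoc]⟩
  · rintro _ ⟨x, hx, rfl⟩
    exact N.mul_mem (N.mul_mem (N.inv_mem hlN) (hT₀N hx)) (N.inv_mem (N.inv_mem hlN))
  · intro Q hQ hTQ hQN
    have hQ'N : Q.map (MulAut.conj (l : G)).toMonoidHom ≤ N := by
      rintro _ ⟨x, hx, rfl⟩
      exact N.mul_mem (N.mul_mem hlN (hQN hx)) (N.inv_mem hlN)
    have e : (Q.map (MulAut.conj (l : G)).toMonoidHom).comap N.subtype = (T : Subgroup ↥N) := by
      refine T.is_maximal' ((hQ.map _).comap_of_injective _ N.subtype_injective) fun x hx => ?_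
      exact ⟨(l : G)⁻¹ * x * l, hTQ ⟨x, ⟨x, hx, rfl⟩, by simp⟩, by simp [mul_assoc]⟩
    refine le_antisymm (fun x hx => ?_) hTQ
    have h1 : (⟨_, hQ'N ⟨x, hx, rfl⟩⟩ : ↥N) ∈ (T : Subgroup ↥N) := e ▸ ⟨x, hx, rfl⟩
    exact ⟨(l : G) * x * (l : G)⁻¹, ⟨_, h1, rfl⟩, by simp [mul_assoc]⟩
  · have e : T₀.map (MulAut.conj (l : G)⁻¹).toMonoidHom ⊔ L ⊔ L' = T₀ ⊔ L ⊔ L' := by
      congr 1
      refine le_antisymm (sup_le ?_ le_sup_right) (sup_le ?_ le_sup_right)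
      · rintro _ ⟨x, hx, rfl⟩
        exact mul_mem (mul_mem (inv_mem (Subgroup.mem_sup_right l.2)) (Subgroup.mem_sup_left hx))
          (inv_mem (inv_mem (Subgroup.mem_sup_right l.2)))
      · intro x hx
        have h1 : (l : G)⁻¹ * x * l ∈ T₀.map (MulAut.conj (l : G)⁻¹).toMonoidHom :=
          ⟨x, hx, by simp⟩
        have h2 := mul_mem (mul_mem (Subgroup.mem_sup_right (S := T₀.map (MulAut.conj (l : G)⁻¹).toMonoidHom) l.2)
          (Subgroup.mem_sup_left (T := L) h1)) (inv_mem (Subgroup.mem_sup_right l.2))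
        simpa [mul_assoc] using h2
    rw [e]
    intro R hR hRX hXR
    haveI := Cores.subgroupOf_normal_of_le_normalizer hXR
    have hR' : IsPGroup 2 (R.subgroupOf (T₀ ⊔ L ⊔ L')) :=
      hR.comap_of_injective _ (Subgroup.subtype_injective _)
    have hbot : R.subgroupOf (T₀ ⊔ L ⊔ L') = ⊥ :=
      le_bot_iff.1 ((Cores.le_pCore inferInstance hR').trans hO.le)
    exact (Subgroup.subgroupOf_eq_bot.1 hbot).eq_bot_of_le hRX


/-- Let G be a finite group of characteristic 2 type and q = 2ᵉ > 2, F the field with q elements. Let L₁ ≠ L₂ be subgroups of G such that, for i = 1, 2, V_i = O₂(L_i) is elementary abelian with L_i/V_i ≅ SL(2, q) acting on V_i as on its natural 2-dimensional module F² (an additive isomorphism V_i ≅ F² carrying conjugation by g ∈ L_i to multiplication by the matrix of gV_i), and such that J = V₁V₂ is a Sylow 2-subgroup of both L₁ and L₂. Assume that N_G(L₁) and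 N_G(L₂) are maximal 2-local subgroups of G and that, for a Sylow 2-subgroup T of N_G(L₁), the subgroup generated by T, L₁ and L₂ has no nontrivial normal 2-subgroup. Then G has sectional 2-rank at most 4, or F*(G) ≅ L₃(q). -/
theorem result
    {G : Type*} [Group G] [Finite G] (hG : Cfsg.IsCharacteristicTwoType G)
    {F : Type*} [Field F] [Fintype F] (e : ℕ) (he : 2 ≤ e) (hF : Fintype.card F = 2 ^ e)
    (L₁ L₂ : Subgroup G) (hne : L₁ ≠ L₂)
    (φ₁ : ↥L₁ ⧸ Cfsg.pCore 2 ↥L₁ ≃* Matrix.SpecialLinearGroup (Fin 2) F)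
    (ψ₁ : Additive ↥(Cfsg.pCore 2 ↥L₁) ≃+ (Fin 2 → F))
    (h₁ : ∀ (g : ↥L₁) (v : ↥(Cfsg.pCore 2 ↥L₁)),
      ψ₁ (Additive.ofMul ⟨g * v * g⁻¹, Subgroup.Normal.conj_mem inferInstance (v : ↥L₁) v.2 g⟩)
        = Matrix.mulVec ((φ₁ (QuotientGroup.mk g) : Matrix.SpecialLinearGroup (Fin 2) F) : Matrix (Fin 2) (Fin 2) F) (ψ₁ (Additive.ofMul v)))
    (φ₂ : ↥L₂ ⧸ Cfsg.pCore 2 ↥L₂ ≃* Matrix.SpecialLinearGroup (Fin 2) F)
    (ψ₂ : Additive ↥(Cfsg.pCore 2 ↥L₂) ≃+ (Fin 2 → F))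
    (h₂ : ∀ (g : ↥L₂) (v : ↥(Cfsg.pCore 2 ↥L₂)),
      ψ₂ (Additive.ofMul ⟨g * v * g⁻¹, Subgroup.Normal.conj_mem inferInstance (v : ↥L₂) v.2 g⟩)
        = Matrix.mulVec ((φ₂ (QuotientGroup.mk g) : Matrix.SpecialLinearGroup (Fin 2) F) : Matrix (Fin 2) (Fin 2) F) (ψ₂ (Additive.ofMul v)))
    (hJ₁ : ∃ S : Sylow 2 ↥L₁, (S : Subgroup ↥L₁).map L₁.subtype = (Cfsg.pCore 2 ↥L₁).map L₁.subtype ⊔ (Cfsg.pCore 2 ↥L₂).map L₂.subtype)
    (hJ₂ : ∃ S : Sylow 2 ↥L₂, (S : Subgroup ↥L₂).map L₂.subtype = (Cfsg.pCore 2 ↥L₁).map L₁.subtype ⊔ (Cfsg.pCore 2 ↥L₂).map L₂.subtype)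
    (hM₁ : Cfsg.IsMaximalTwoLocal (Subgroup.normalizer (L₁ : Set G))) (hM₂ : Cfsg.IsMaximalTwoLocal (Subgroup.normalizer (L₂ : Set G)))
    (T : Sylow 2 ↥(Subgroup.normalizer (L₁ : Set G)))
    (hO : Cfsg.pCore 2 ↥(((T : Subgroup ↥(Subgroup.normalizer (L₁ : Set G))).map (Subgroup.normalizer (L₁ : Set G)).subtype) ⊔ L₁ ⊔ L₂) = ⊥) :
    Cfsg.SectionalPRankLE 2 4 G ∨
      Nonempty (↥(Cfsg.generalizedFittingSubgroup G) ≃* Matrix.ProjectiveSpecialLinearGroup (Fin 3) F) := by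
  haveI : Fact (Nat.Prime 2) := ⟨Nat.prime_two⟩
  obtain ⟨p, hp⟩ := CharP.exists F
  obtain ⟨k, hpp, hpk⟩ := FiniteField.card F p
  obtain rfl : p = 2 := by
    have h1 : p ∣ 2 ^ e := hF ▸ hpk ▸ dvd_pow_self p k.ne_zero
    exact (Nat.prime_dvd_prime_iff_eq hpp Nat.prime_two).1 (hpp.dvd_of_dvd_pow h1)
  obtain ⟨S₁, hS₁⟩ := hJ₁
  obtain ⟨S₂, hS₂⟩ := hJ₂
  let P := mkPar L₁ φ₁ ψ₁ h₁
  let Q := mkPar L₂ φ₂ ψ₂ h₂
  have hQP : Q.V ≤ P.L := (le_sup_right.trans hS₁.ge).trans (Subgroup.map_subtype_le _)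
  have hPQ : P.V ≤ Q.L := (le_sup_left.trans hS₂.ge).trans (Subgroup.map_subtype_le _)
  have hne₁ : ¬Q.V ≤ P.V := mkPar_not_le φ₁ S₁ hS₁
  have hne₂ : ¬P.V ≤ Q.V := mkPar_not_le φ₂ S₂ (hS₂.trans (sup_comm _ _))
  obtain ⟨D, hL₁, hV₁, hL₂, hV₂⟩ := exists_data P Q hQP hPQ hne₁ hne₂
  have hq : 4 ≤ Fintype.card F := hF ▸ (show 2 ^ 2 ≤ 2 ^ e from Nat.pow_le_pow_right two_pos he)
  have hVne : ∀ R : Par F G, R.V ≠ ⊥ := fun R hR => by
    have := R.card_V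
    rw [hR, Subgroup.card_bot] at this
    nlinarith
  have hH : Hyp D := by
    refine ⟨hq, hG, ?_, ?_, ?_⟩
    · rw [hL₁, hV₁]; exact mkPar_normalizer hM₁ P.isPGroup_V (hVne P)
    · rw [hL₂, hV₂]; exact mkPar_normalizer hM₂ Q.isPGroup_V (hVne Q)
    · obtain ⟨T', ht⟩ := exists_conj_sylow S₁ hS₁ _ rfl T hO
      refine ⟨T', ?_⟩
      rw [hL₁, hL₂, show D.J = P.V ⊔ Q.V by rw [← hV₁, ← hV₂]; rfl]
      exact ht
  rcases he.eq_or_lt with rfl | he3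
  · exact Or.inl (hH.sectional_four hF)
  · exact Or.inr (hH.genFitting_iso (hF ▸ (show 2 ^ 3 ≤ 2 ^ e from Nat.pow_le_pow_right two_pos he3)))

end Cfsg.Agent.S3091
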