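import Cfsg.Statements.S3103
import Cfsg.Agent.Lib.Constrained.Basic
import Cfsg.Agent.Lib.Coprime.Frattini
import Cfsg.Agent.Lib.BurnsideBasis.Basic
import Cfsg.Agent.Lib.Linear.AltEight
import Cfsg.Agent.Lib.Transfer.Residual

set_option autoImplicit false
open Cfsg

namespace Cfsg.Agent.S3103

theorem unit_zmod_two : ∀ x y : ZMod 2, x * y = 1 → x = 1 := by decide

/-- Let X be a finite 2-constrained group with no nontrivial normal subgroup of odd order such that O₂(X) has sectional 2-rank at most 4. Then X/O₂(X) is isomorphic to a subgroup of the alternating group of degree 8. -/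
theorem result {X : Type*} [Group X] [Finite X] (hc : Cfsg.IsPConstrained 2 X) (hO : Cfsg.oddCore X = ⊥)
    (h4 : Cfsg.SectionalPRankLE 2 4 ↥(Cfsg.pCore 2 X)) :
    ∃ f : X ⧸ Cfsg.pCore 2 X →* ↥(alternatingGroup (Fin 8)), Function.Injective f := by
  classical
  haveI : Fact (Nat.Prime 2) := ⟨Nat.prime_two⟩
  set Q := Cfsg.pCore 2 X
  haveI : Q.Normal := Cores.pCore_normal 2 X
  have hQ : IsPGroup 2 Q := Cores.isPGroup_pCore 2 X
  have hchar : Subgroup.centralizer (Q : Set X) ≤ Q := by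
    have e : Cfsg.pPrimeCore 2 X = ⊥ := hO
    exact Constrained.isCharP_congr ((QuotientGroup.quotientMulEquivOfEq e).trans QuotientGroup.quotientBot)
      (Constrained.isPConstrained_iff.1 hc)
  set F := frattini Q
  letI : CommGroup (Q ⧸ F) := { mul_comm := BurnsideBasis.quotient_mul_comm hQ }
  have hsq : ∀ v : Q ⧸ F, v ^ 2 = 1 := fun v => by
    obtain ⟨x, rfl⟩ := QuotientGroup.mk_surjective v
    rw [← QuotientGroup.mk_pow]
    exact (QuotientGroup.eq_one_iff _).2 (BurnsideBasis.pow_mem_frattini hQ x)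
  -- the order of the Frattini quotient
  have hcard : Nat.card (Q ⧸ F) ≤ 2 ^ 4 := by
    have h := h4 (⊤ : Subgroup Q) (F.subgroupOf ⊤) (⊤ : Subgroup (↥(⊤ : Subgroup Q) ⧸ F.subgroupOf ⊤))
      ⟨⟨fun a b => Subtype.ext ?_⟩⟩ fun a _ => ?_
    · rw [Subgroup.card_top] at h
      rw [← Subgroup.index_eq_card] at h ⊢
      have h2 : (F.subgroupOf ⊤).index = F.index := F.relIndex_top_right
      omega
    · obtain ⟨x, hx⟩ := QuotientGroup.mk_surjective (a : ↥(⊤ : Subgroup Q) ⧸ F.subgroupOf ⊤)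
      obtain ⟨y, hy⟩ := QuotientGroup.mk_surjective (b : ↥(⊤ : Subgroup Q) ⧸ F.subgroupOf ⊤)
      show (a : ↥(⊤ : Subgroup Q) ⧸ F.subgroupOf ⊤) * b = b * a
      rw [← hx, ← hy, ← QuotientGroup.mk_mul, ← QuotientGroup.mk_mul, QuotientGroup.eq, Subgroup.mem_subgroupOf,
        Subgroup.coe_mul, Subgroup.coe_inv, ← QuotientGroup.eq]
      exact mul_comm (QuotientGroup.mk (x : Q) : Q ⧸ F) (QuotientGroup.mk (y : Q))
    · obtain ⟨x, rfl⟩ := QuotientGroup.mk_surjective a
      rw [← QuotientGroup.mk_pow, QuotientGroup.eq_one_iff, Subgroup.mem_subgroupOf, SubgroupClass.coe_pow]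
      exact BurnsideBasis.pow_mem_frattini hQ _
  -- the action
  letI : Module (ZMod 2) (Additive (Q ⧸ F)) := AddCommGroup.zmodModule (n := 2) fun v =>
    congrArg Additive.ofMul (hsq (Additive.toMul v))
  let c : X →* MulAut Q := MulAut.conjNormal
  have hF : ∀ g, F.map (c g).toMonoidHom = F := fun g =>
    Subgroup.characteristic_iff_map_eq.1 inferInstance _
  let θ : X → (Q ⧸ F) ≃* (Q ⧸ F) := fun g => QuotientGroup.congr F F (c g) (hF g)
  have hθ : ∀ g (x : Q), θ g (x : Q ⧸ F) = (QuotientGroup.mk (c g x) : Q ⧸ F) := fun _ _ => rfl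
  let ρ : X →* Module.End (ZMod 2) (Additive (Q ⧸ F)) :=
    { toFun := fun g => (θ g).toMonoidHom.toAdditive.toZModLinearMap 2
      map_one' := LinearMap.ext fun v => by
        obtain ⟨x, hx⟩ := QuotientGroup.mk_surjective (Additive.toMul v)
        show Additive.ofMul (θ 1 (Additive.toMul v)) = v
        rw [← hx, hθ, map_one]
        show Additive.ofMul (x : Q ⧸ F) = v
        rw [hx]; rfl
      map_mul' := fun g h => LinearMap.ext fun v => by
        obtain ⟨x, hx⟩ := QuotientGroup.mk_surjective (Additive.toMul v)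
        show Additive.ofMul (θ (g * h) (Additive.toMul v)) = Additive.ofMul (θ g (θ h (Additive.toMul v)))
        rw [← hx, hθ, hθ, hθ, map_mul]
        rfl }
  set K := ρ.ker
  have hKQ : K = Q := by
    refine le_antisymm (Cores.le_pCore inferInstance fun g => ?_) fun g hg => ?_
    · obtain ⟨a, b, hab, -, hb, ⟨k, hk⟩, hodd⟩ := Transfer.exists_pPart_mul (p := 2) (g : X)
      have hbK : b ∈ K := Subgroup.zpowers_le.2 g.2 hb
      have hb1 : b ∈ Q := by
        refine hchar (Coprime.le_centralizer_of_forall_mem_frattini (A := Subgroup.zpowers b) (K := Q)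
          ((Subgroup.normalizer_eq_top_iff.2 (inferInstance : Q.Normal)).ge.trans' le_top) ?_ ?_ (Subgroup.mem_zpowers b))
        · obtain ⟨i, hi⟩ := IsPGroup.iff_card.1 (hQ.to_subgroup (frattini Q))
          rw [Nat.card_zpowers, hi]
          exact hodd.pow_right i
        · intro a' ha' x hx
          have hK' : ρ a' = 1 := (Subgroup.zpowers_le.2 hbK ha' : a' ∈ K)
          have h1 : θ a' ((⟨x, hx⟩ : Q) : Q ⧸ F) = ((⟨x, hx⟩ : Q) : Q ⧸ F) :=
            congrArg Additive.toMul (LinearMap.congr_fun hK' (Additive.ofMul ((⟨x, hx⟩ : Q) : Q ⧸ F)))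
          rw [hθ] at h1
          exact ⟨c a' ⟨x, hx⟩ * (⟨x, hx⟩ : Q)⁻¹, (QuotientGroup.eq_one_iff _).1 (by
            rw [QuotientGroup.mk_mul, h1, QuotientGroup.mk_inv, mul_inv_cancel]), rfl⟩
      obtain ⟨j, hj⟩ := hQ ⟨b, hb1⟩
      have hb2 : b = 1 := by
        have h3 := (pow_gcd_eq_one (a := b)).2 ⟨pow_orderOf_eq_one b, congrArg Subtype.val hj⟩
        rwa [Nat.coprime_iff_gcd_eq_one.1 (hodd.pow_right j), pow_one] at h3
      refine ⟨k, Subtype.ext ?_⟩
      show (g : X) ^ 2 ^ k = 1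
      rw [hab, hb2, mul_one, ← hk, pow_orderOf_eq_one]
    · refine LinearMap.ext fun v => ?_
      obtain ⟨x, hx⟩ := QuotientGroup.mk_surjective (Additive.toMul v)
      show Additive.ofMul (θ g (Additive.toMul v)) = v
      rw [← hx, hθ]
      show Additive.ofMul (((⟨g, hg⟩ : Q) * x * (⟨g, hg⟩ : Q)⁻¹ : Q) : Q ⧸ F) = v
      rw [QuotientGroup.mk_mul, QuotientGroup.mk_mul, QuotientGroup.mk_inv,
        mul_comm ((⟨g, hg⟩ : Q) : Q ⧸ F), mul_inv_cancel_right, hx]
      rfl
  obtain ⟨ρ₁, hρ₁⟩ : ∃ ρ₁ : X ⧸ Q →* Module.End (ZMod 2) (Additive (Q ⧸ F)), Function.Injective ρ₁ := by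
    refine ⟨QuotientGroup.lift Q ρ hKQ.ge, fun g h hgh => ?_⟩
    obtain ⟨g, rfl⟩ := QuotientGroup.mk_surjective g
    obtain ⟨h, rfl⟩ := QuotientGroup.mk_surjective h
    have h1 : ρ g = ρ h := hgh
    have h2 : g⁻¹ * h ∈ K := by
      show ρ (g⁻¹ * h) = 1
      rw [map_mul, ← h1, ← map_mul, inv_mul_cancel, map_one]
    exact QuotientGroup.eq.2 (hKQ.le h2)
  set d := Module.finrank (ZMod 2) (Additive (Q ⧸ F))
  have hd : d ≤ 4 := by
    have h := Module.natCard_eq_pow_finrank (K := ZMod 2) (V := Additive (Q ⧸ F))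
    rw [Nat.card_zmod, show Nat.card (Additive (Q ⧸ F)) = Nat.card (Q ⧸ F) from rfl] at h
    rw [h] at hcard
    exact (Nat.pow_le_pow_iff_right (by norm_num)).1 hcard
  let L : (Additive (Q ⧸ F) × (Fin (4 - d) → ZMod 2)) ≃ₗ[ZMod 2] (Fin 4 → ZMod 2) :=
    LinearEquiv.ofFinrankEq _ _ (by rw [Module.finrank_prod, Module.finrank_fin_fun, Module.finrank_fin_fun]; omega)
  let ρ₂ : X ⧸ Q →* Matrix (Fin 4) (Fin 4) (ZMod 2) :=
    { toFun := fun g => LinearMap.toMatrix' (L.conj ((ρ₁ g).prodMap LinearMap.id))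
      map_one' := by
        rw [map_one, show LinearMap.prodMap (1 : Module.End (ZMod 2) (Additive (Q ⧸ F)))
          (LinearMap.id : Module.End (ZMod 2) (Fin (4 - d) → ZMod 2)) = LinearMap.id from
            LinearMap.ext fun x => rfl, LinearEquiv.conj_id, LinearMap.toMatrix'_id]
      map_mul' := fun g h => by
        rw [← LinearMap.toMatrix'_comp, ← LinearEquiv.conj_comp, map_mul]
        rfl }
  have hdet : ∀ g, (ρ₂ g).det = 1 := fun g => by
    have h1 : (ρ₂ g).det * (ρ₂ g⁻¹).det = 1 := by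
      rw [← Matrix.det_mul, ← map_mul, mul_inv_cancel, map_one, Matrix.det_one]
    exact unit_zmod_two _ _ h1
  obtain ⟨e⟩ := Linear.nonempty_slFour_two
  refine ⟨e.toMonoidHom.comp (MonoidHom.mk' (fun g => ⟨ρ₂ g, hdet g⟩) fun g h => Subtype.ext (map_mul ρ₂ g h)),
    e.injective.comp fun g h hgh => hρ₁ ?_⟩
  have h1 : LinearMap.toMatrix' (L.conj ((ρ₁ g).prodMap LinearMap.id)) =
      LinearMap.toMatrix' (L.conj ((ρ₁ h).prodMap LinearMap.id)) := congrArg Subtype.val hgh
  have h2 := L.conj.injective (LinearMap.toMatrix'.injective h1)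
  exact LinearMap.ext fun v => congrArg Prod.fst (LinearMap.congr_fun h2 (v, 0))

end Cfsg.Agent.S3103
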