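import Cfsg.Statements.S3104
import Cfsg.Agent.Lib.RankFour.Classify
import Cfsg.Agent.Lib.RankFour.Rank
-- import your own Cfsg.Agent.* helpers here

set_option autoImplicit false
open Cfsg

namespace Cfsg.Agent.S3104

theorem nonempty_glThree_psl :
    Nonempty (GL (Fin 3) (ZMod 2) ≃* Matrix.ProjectiveSpecialLinearGroup (Fin 3) (ZMod 2)) := by
  have hu : ∀ u : (ZMod 2)ˣ, u = 1 := by decide
  have hbij : Function.Bijective
      (Matrix.SpecialLinearGroup.toGL : Matrix.SpecialLinearGroup (Fin 3) (ZMod 2) →* GL (Fin 3) (ZMod 2)) := by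
    refine ⟨Matrix.SpecialLinearGroup.toGL_injective, fun g => ?_⟩
    have hd : (g : Matrix (Fin 3) (Fin 3) (ZMod 2)).det = 1 := by
      rw [← Matrix.GeneralLinearGroup.val_det_apply, hu (Matrix.GeneralLinearGroup.det g), Units.val_one]
    exact ⟨⟨(g : Matrix (Fin 3) (Fin 3) (ZMod 2)), hd⟩, Units.ext (Matrix.SpecialLinearGroup.coe_GL_coe_matrix _)⟩
  have hz : Subgroup.center (Matrix.SpecialLinearGroup (Fin 3) (ZMod 2)) = ⊥ := by
    have h := Nat.card_congr (Matrix.SpecialLinearGroup.center_equiv_rootsOfUnity (n := Fin 3) (R := ZMod 2)).toEquiv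
    apply Subgroup.eq_bot_of_card_eq
    rw [h, Nat.card_eq_one_iff_unique]
    exact ⟨⟨fun a b => Subtype.ext ((hu _).trans (hu _).symm)⟩, ⟨1⟩⟩
  exact ⟨(MulEquiv.ofBijective _ hbij).symm.trans
    ((QuotientGroup.quotientBot).symm.trans (QuotientGroup.quotientMulEquivOfEq hz.symm))⟩

theorem six_into_alt_eight : ∃ i : Equiv.Perm (Fin 6) →* alternatingGroup (Fin 8), Function.Injective i := by
  classical
  let emb : Fin 6 ↪ Fin 8 := ⟨Fin.castLE (by norm_num), Fin.castLE_injective _⟩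
  let v : Equiv.Perm (Fin 6) →* Equiv.Perm (Fin 8) := Equiv.Perm.viaEmbeddingHom emb
  let s : Equiv.Perm (Fin 6) →* Equiv.Perm (Fin 8) :=
    MonoidHom.mk' (fun σ => if Equiv.Perm.sign σ = 1 then 1 else Equiv.swap (6 : Fin 8) 7) fun a b => by
      rcases Int.units_eq_one_or (Equiv.Perm.sign a) with ha | ha <;>
        rcases Int.units_eq_one_or (Equiv.Perm.sign b) with hb | hb <;> simp [ha, hb]
  have hcomm : ∀ a b, v a * s b = s b * v a := by
    intro a b
    show v a * (if Equiv.Perm.sign b = 1 then 1 else Equiv.swap (6 : Fin 8) 7) = _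
    show _ = (if Equiv.Perm.sign b = 1 then 1 else Equiv.swap (6 : Fin 8) 7) * v a
    split_ifs
    · rw [one_mul, mul_one]
    · refine Equiv.ext fun z => ?_
      simp only [Equiv.Perm.mul_apply]
      have h6 : ∀ z : Fin 8, (∀ w, emb w ≠ z) → v a z = z := fun z hz =>
        Equiv.Perm.viaEmbedding_apply_of_notMem a emb z (by rintro ⟨w, hw⟩; exact hz w hw)
      have e6 : ∀ w, emb w ≠ 6 := by decide
      have e7 : ∀ w, emb w ≠ 7 := by decide
      by_cases hz : ∃ w, emb w = z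
      · obtain ⟨w, rfl⟩ := hz
        rw [Equiv.swap_apply_of_ne_of_ne (e6 w) (e7 w),
          show v a (emb w) = emb (a w) from Equiv.Perm.viaEmbedding_apply a emb w,
          Equiv.swap_apply_of_ne_of_ne (e6 _) (e7 _)]
      · push Not at hz
        rw [h6 z hz]
        rcases eq_or_ne z 6 with rfl | h
        · rw [Equiv.swap_apply_left, h6 _ e7]
        rcases eq_or_ne z 7 with rfl | h'
        · rw [Equiv.swap_apply_right, h6 _ e6]
        rw [Equiv.swap_apply_of_ne_of_ne h h', h6 z hz]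
  let t : Equiv.Perm (Fin 6) →* Equiv.Perm (Fin 8) :=
    MonoidHom.mk' (fun σ => v σ * s σ) fun a b => by
      rw [map_mul, map_mul, mul_assoc, ← mul_assoc (v b), hcomm, mul_assoc, ← mul_assoc]
  have heven : ∀ σ, t σ ∈ alternatingGroup (Fin 8) := by
    intro σ
    rw [Equiv.Perm.mem_alternatingGroup]
    show Equiv.Perm.sign (v σ * s σ) = 1
    have hv : Equiv.Perm.sign (v σ) = Equiv.Perm.sign σ := by
      show Equiv.Perm.sign (Equiv.Perm.viaEmbedding σ emb) = _
      unfold Equiv.Perm.viaEmbedding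
      exact @Equiv.Perm.sign_extendDomain _ _ _ _ _ _ σ _ (_) _
    rw [map_mul, hv]
    show _ * Equiv.Perm.sign (if Equiv.Perm.sign σ = 1 then 1 else Equiv.swap (6 : Fin 8) 7) = 1
    rcases Int.units_eq_one_or (Equiv.Perm.sign σ) with h | h
    · simp [h]
    · rw [h, if_neg (by decide), Equiv.Perm.sign_swap (by decide)]; decide
  refine ⟨t.codRestrict _ heven, fun a b hab => ?_⟩
  have hab' : t a = t b := congrArg Subtype.val hab
  ext w
  have h1 : ∀ σ : Equiv.Perm (Fin 6), t σ (emb w) = emb (σ w) := fun σ => by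
    show v σ (s σ (emb w)) = _
    have hs : s σ (emb w) = emb w := by
      show (if Equiv.Perm.sign σ = 1 then 1 else Equiv.swap (6 : Fin 8) 7) (emb w) = emb w
      split_ifs
      · rfl
      · exact Equiv.swap_apply_of_ne_of_ne (by revert w; decide) (by revert w; decide)
    rw [hs]
    exact Equiv.Perm.viaEmbedding_apply σ emb w
  have := congrArg (fun σ : Equiv.Perm (Fin 8) => σ (emb w)) hab'
  simp only [h1] at this
  exact congrArg Fin.val (emb.injective this)

/-- Let X be a finite nonsolvable 2-constrained group with no nontrivial normal subgroup of odd order such that O₂(X) has sectional 2-rank at most 4, and write Q for X/O₂(X). Then Q is isomorphic to the projective special linear group of dimension 3 over the field with 2 elements, to an alternating group of degree n with 5 ≤ n ≤ 8, to a symmetric group of degree n with 5 ≤ n ≤ 7, or else O₃(Q) has order 3 and Q/O₃(Q) is isomorphic to the alternating or the symmetric group of degree 5 (so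 Q is the direct product of a group of order 3 with the alternating group of degree 5, or an extension of that direct product by a group of order 2). If moreover X itself has sectional 2-rank at most 4, then Q is not isomorphic to the symmetric group of degree 6 or 7 nor to the alternating group of degree 8. -/
theorem result {X : Type*} [Group X] [Finite X] (hns : ¬ Group.IsSolvable X) (hc : Cfsg.IsPConstrained 2 X) (hO : Cfsg.oddCore X = ⊥)
    (h4 : Cfsg.SectionalPRankLE 2 4 ↥(Cfsg.pCore 2 X)) :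
    ((∃ (F : Type) (_ : Field F) (_ : Fintype F), Fintype.card F = 2 ∧
          Nonempty (X ⧸ Cfsg.pCore 2 X ≃* Matrix.ProjectiveSpecialLinearGroup (Fin 3) F)) ∨
        (∃ n : ℕ, 5 ≤ n ∧ n ≤ 8 ∧ Nonempty (X ⧸ Cfsg.pCore 2 X ≃* ↥(alternatingGroup (Fin n)))) ∨
        (∃ n : ℕ, 5 ≤ n ∧ n ≤ 7 ∧ Nonempty (X ⧸ Cfsg.pCore 2 X ≃* Equiv.Perm (Fin n))) ∨
        (Nat.card ↥(Cfsg.pCore 3 (X ⧸ Cfsg.pCore 2 X)) = 3 ∧
          (Nonempty ((X ⧸ Cfsg.pCore 2 X) ⧸ Cfsg.pCore 3 (X ⧸ Cfsg.pCore 2 X) ≃* ↥(alternatingGroup (Fin 5))) ∨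
            Nonempty ((X ⧸ Cfsg.pCore 2 X) ⧸ Cfsg.pCore 3 (X ⧸ Cfsg.pCore 2 X) ≃* Equiv.Perm (Fin 5))))) ∧
      (Cfsg.SectionalPRankLE 2 4 X →
        ¬ (Nonempty (X ⧸ Cfsg.pCore 2 X ≃* Equiv.Perm (Fin 6)) ∨ Nonempty (X ⧸ Cfsg.pCore 2 X ≃* Equiv.Perm (Fin 7)) ∨
            Nonempty (X ⧸ Cfsg.pCore 2 X ≃* ↥(alternatingGroup (Fin 8))))) := by
  classical
  obtain ⟨R⟩ := RankFour.exists_frattiniRep hc hO h4
  haveI : (Cfsg.pCore 2 X).Normal := Cores.pCore_normal 2 X
  let f : X ⧸ Cfsg.pCore 2 X →* GL (Fin 4) (ZMod 2) := QuotientGroup.lift _ R.f R.ker_f.ge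
  have hf : Function.Injective f := by
    rw [← MonoidHom.ker_eq_bot_iff, QuotientGroup.ker_lift, R.ker_f, QuotientGroup.map_mk'_self]
  have hO2 := Cores.pCore_quotient_self 2 X
  have hnsQ : ¬ Group.IsSolvable (X ⧸ Cfsg.pCore 2 X) := fun h => hns <| by
    haveI : Fact (Nat.Prime 2) := ⟨Nat.prime_two⟩
    haveI := (Cores.isPGroup_pCore 2 X).isNilpotent
    exact Group.isSolvable_of_ker_le_range (Cfsg.pCore 2 X).subtype (QuotientGroup.mk' (Cfsg.pCore 2 X))
      (by rw [QuotientGroup.ker_mk', Subgroup.range_subtype])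
  refine ⟨?_, fun hX => ?_⟩
  · rcases RankFour.classify f hf hnsQ hO2 with ⟨n, h5, h8, he⟩ | ⟨⟨e⟩⟩ | ⟨⟨e⟩⟩ | ⟨⟨e⟩⟩ | h
    · exact Or.inr (Or.inl ⟨n, h5, h8, he⟩)
    · exact Or.inr (Or.inr (Or.inl ⟨5, le_rfl, by norm_num, ⟨e⟩⟩))
    · exact Or.inr (Or.inr (Or.inl ⟨6, by norm_num, by norm_num, ⟨e⟩⟩))
    · obtain ⟨e'⟩ := nonempty_glThree_psl
      exact Or.inl ⟨ZMod 2, inferInstance, inferInstance, by simp [ZMod.card], ⟨e.trans e'⟩⟩
    · exact Or.inr (Or.inr (Or.inr h))
  · have key : ∀ i : Equiv.Perm (Fin 6) →* X ⧸ Cfsg.pCore 2 X, Function.Injective i → False := fun i hi =>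
      RankFour.false_of_six_sub R hX (f.comp i).range
        (by
          rintro _ ⟨σ, rfl⟩
          obtain ⟨g, hg⟩ := QuotientGroup.mk_surjective (i σ)
          exact ⟨g, by show R.f g = f (i σ); rw [← hg]; rfl⟩)
        (MonoidHom.ofInjective (hf.comp hi))
    rintro (⟨⟨e⟩⟩ | ⟨⟨e⟩⟩ | ⟨⟨e⟩⟩)
    · exact key e.symm.toMonoidHom e.symm.injective
    · exact key (e.symm.toMonoidHom.comp (Equiv.Perm.viaEmbeddingHom Fin.castSuccEmb))
        (e.symm.injective.comp (Equiv.Perm.viaEmbeddingHom_injective _))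
    · obtain ⟨i, hi⟩ := six_into_alt_eight
      exact key (e.symm.toMonoidHom.comp i) (e.symm.injective.comp hi)

end Cfsg.Agent.S3104
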