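import Cfsg.Statements.S3105
import Cfsg.Agent.EqLemmas
import Cfsg.Agent.Lib.L32Radical.Top
import Cfsg.Agent.Lib.Constrained.Basic
import Cfsg.Agent.Lib.Transfer.Residual
import Cfsg.Agent.Lib.Linear.SLn
import Cfsg.Agent.Lib.GLOrder.Basic

set_option autoImplicit false
open Cfsg

namespace Cfsg.Agent.S3105

theorem card_psl {F : Type*} [Field F] [Fintype F] (hF : Fintype.card F = 2) :
    Nat.card (Matrix.ProjectiveSpecialLinearGroup (Fin 3) F) = 168 := by
  have hF' : Nat.card F = 2 := Nat.card_eq_fintype_card.trans hF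
  have h := Subgroup.card_eq_card_quotient_mul_card_subgroup
    (Subgroup.center (Matrix.SpecialLinearGroup (Fin 3) F))
  rw [GLOrder.card_SL, GLOrder.card_center_SL, hF', show Nat.gcd (Fintype.card (Fin 3)) (2 - 1) = 1 by simp,
    mul_one, Finset.prod_Ico_eq_prod_range] at h
  simp [Finset.prod_range_succ] at h
  exact h.symm

/-- Let X be a finite nonsolvable 2-constrained group with no nontrivial normal subgroup of odd order and of sectional 2-rank at most 4, and suppose X/O₂(X) is isomorphic to the projective special linear group of dimension 3 over the field with 2 elements. Then O₂(X) is elementary abelian of order 8 or 16, or is isomorphic to the direct product of a cyclic group of order 4 and an elementary abelian group of order 8. -/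
theorem result {X : Type*} [Group X] [Finite X] (hns : ¬ Group.IsSolvable X) (hc : Cfsg.IsPConstrained 2 X) (hO : Cfsg.oddCore X = ⊥)
    (h4 : Cfsg.SectionalPRankLE 2 4 X) {F : Type*} [Field F] [Fintype F] (hF : Fintype.card F = 2)
    (hQ : Nonempty (X ⧸ Cfsg.pCore 2 X ≃* Matrix.ProjectiveSpecialLinearGroup (Fin 3) F)) :
    (Cfsg.IsElementaryAbelian 2 (Cfsg.pCore 2 X) ∧ (Nat.card ↥(Cfsg.pCore 2 X) = 8 ∨ Nat.card ↥(Cfsg.pCore 2 X) = 16)) ∨
      Nonempty (↥(Cfsg.pCore 2 X) ≃* Multiplicative (ZMod 4) × (Fin 3 → Multiplicative (ZMod 2))) := by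
  classical
  obtain ⟨eQ⟩ := hQ
  set Q := Cfsg.pCore 2 X with hQdef
  haveI : Q.Normal := Cores.pCore_normal 2 X
  have hQ2 : IsPGroup 2 Q := Cores.isPGroup_pCore 2 X
  have hchar : Subgroup.centralizer (Q : Set X) ≤ Q := by
    have e : Cfsg.pPrimeCore 2 X = ⊥ := hO
    exact Constrained.isCharP_congr ((QuotientGroup.quotientMulEquivOfEq e).trans QuotientGroup.quotientBot)
      (Constrained.isPConstrained_iff.1 hc)
  haveI : IsSimpleGroup (Matrix.ProjectiveSpecialLinearGroup (Fin 3) F) := Linear.isSimpleGroup_psl (by simp)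
  haveI : IsSimpleGroup (X ⧸ Q) := eQ.isSimpleGroup
  have h168 : Nat.card (X ⧸ Q) = 168 := (Nat.card_congr eQ.toEquiv).trans (card_psl hF)
  rcases L32Radical.radical_shape (RankFourRadical.sect4_of_sectional h4) hQ2 hchar h168 with ⟨hab, hexp, hcard⟩ | h
  · exact Or.inl ⟨⟨⟨⟨fun a b => Subtype.ext (hab a a.2 b b.2)⟩⟩, fun a ha => hexp a ha⟩, hcard⟩
  · exact Or.inr h

end Cfsg.Agent.S3105
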