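import Cfsg.Statements.S3106
import Cfsg.Agent.Lib.RankFourRadical.Setup
import Cfsg.Agent.Lib.Constrained.Basic
import Cfsg.Agent.Lib.Transfer.Residual

set_option autoImplicit false
open Cfsg

namespace Cfsg.Agent.S3106

section

variable {T T' : Type*} [Group T] [Group T']

theorem transport (e : T ≃* T') (h : ∃ A B : Subgroup T, Nonempty (↥A ≃* QuaternionGroup 2) ∧
      Nonempty (↥B ≃* DihedralGroup 4) ∧ (∀ a ∈ A, ∀ b ∈ B, a * b = b * a) ∧
      A ⊔ B = ⊤ ∧ A ⊓ B = Subgroup.center T) :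
    ∃ A B : Subgroup T', Nonempty (↥A ≃* QuaternionGroup 2) ∧ Nonempty (↥B ≃* DihedralGroup 4) ∧
      (∀ a ∈ A, ∀ b ∈ B, a * b = b * a) ∧ A ⊔ B = ⊤ ∧ A ⊓ B = Subgroup.center T' := by
  obtain ⟨A, B, ⟨eA⟩, ⟨eB⟩, hc, hsup, hinf⟩ := h
  refine ⟨A.map e.toMonoidHom, B.map e.toMonoidHom,
    ⟨(A.equivMapOfInjective _ e.injective).symm.trans eA⟩,
    ⟨(B.equivMapOfInjective _ e.injective).symm.trans eB⟩, ?_, ?_, ?_⟩
  · rintro _ ⟨a, ha, rfl⟩ _ ⟨b, hb, rfl⟩
    rw [← map_mul, ← map_mul, hc a ha b hb]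
  · rw [← Subgroup.map_sup, hsup, Subgroup.map_top_of_surjective _ e.surjective]
  · rw [← Subgroup.map_inf _ _ _ e.injective, hinf]
    ext x
    obtain ⟨x, rfl⟩ := e.surjective x
    change e.toMonoidHom x ∈ _ ↔ _
    rw [Subgroup.mem_map_iff_mem e.injective, Subgroup.mem_center_iff, Subgroup.mem_center_iff]
    refine ⟨fun h g => ?_, fun h g => e.injective ?_⟩
    · obtain ⟨g, rfl⟩ := e.surjective g
      show e g * e x = e x * e g
      rw [← map_mul, ← map_mul, h g]
    · rw [map_mul, map_mul]; exact h (e g)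

end

/-- Let X be a finite nonsolvable 2-constrained group with no nontrivial normal subgroup of odd order and of sectional 2-rank at most 4, and suppose X/O₂(X) contains a subgroup isomorphic to the alternating group of degree 5. Then O₂(X) is elementary abelian of order 16, or O₂(X) is a central product of a quaternion group of order 8 and a dihedral group of order 8 (it has order 32 and is generated by two elementwise-commuting subgroups, one quaternion of order 8 and one dihedral of order 8, meeting in the centre). -/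
theorem result {X : Type*} [Group X] [Finite X] (hns : ¬ Group.IsSolvable X) (hc : Cfsg.IsPConstrained 2 X) (hO : Cfsg.oddCore X = ⊥)
    (h4 : Cfsg.SectionalPRankLE 2 4 X)
    (hQ : ∃ A : Subgroup (X ⧸ Cfsg.pCore 2 X), Nonempty (↥A ≃* ↥(alternatingGroup (Fin 5)))) :
    (Cfsg.IsElementaryAbelian 2 (Cfsg.pCore 2 X) ∧ Nat.card ↥(Cfsg.pCore 2 X) = 16) ∨
      (Nat.card ↥(Cfsg.pCore 2 X) = 32 ∧ ∃ A B : Subgroup ↥(Cfsg.pCore 2 X),
        Nonempty (↥A ≃* QuaternionGroup 2) ∧ Nonempty (↥B ≃* DihedralGroup 4) ∧ (∀ a ∈ A, ∀ b ∈ B, a * b = b * a) ∧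
          A ⊔ B = ⊤ ∧ A ⊓ B = Subgroup.center ↥(Cfsg.pCore 2 X)) := by
  obtain ⟨A, ⟨eA⟩⟩ := hQ
  set Q := Cfsg.pCore 2 X with hQdef
  haveI : Q.Normal := Cores.pCore_normal 2 X
  have hQ2 : IsPGroup 2 Q := Cores.isPGroup_pCore 2 X
  have hchar : Subgroup.centralizer (Q : Set X) ≤ Q := by
    have e : Cfsg.pPrimeCore 2 X = ⊥ := hO
    exact Constrained.isCharP_congr ((QuotientGroup.quotientMulEquivOfEq e).trans QuotientGroup.quotientBot)
      (Constrained.isPConstrained_iff.1 hc)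
  set P := A.comap (QuotientGroup.mk' Q) with hP
  have hQP : Q ≤ P := fun q hq => by
    rw [hP, Subgroup.mem_comap, QuotientGroup.mk'_apply, (QuotientGroup.eq_one_iff q).2 hq]
    exact one_mem A
  let ψ : P →* A := ((QuotientGroup.mk' Q).comp P.subtype).codRestrict A fun g => g.2
  let φ : P →* ↥(alternatingGroup (Fin 5)) := eA.toMonoidHom.comp ψ
  have hφ : Function.Surjective φ := eA.surjective.comp fun a => by
    obtain ⟨g, hg⟩ := QuotientGroup.mk'_surjective Q (a : X ⧸ Q)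
    exact ⟨⟨g, by rw [hP, Subgroup.mem_comap, hg]; exact a.2⟩, Subtype.ext hg⟩
  have hker : φ.ker = Q.subgroupOf P := by
    ext g
    rw [MonoidHom.mem_ker, Subgroup.mem_subgroupOf, ← QuotientGroup.eq_one_iff]
    exact ⟨fun h => congrArg Subtype.val ((map_eq_one_iff eA eA.injective).1 h),
      fun h => (map_eq_one_iff eA eA.injective).2 (Subtype.ext h)⟩
  obtain ⟨y, n, w, S⟩ := RankFourRadical.exists_setting ((RankFourRadical.sect4_of_sectional h4).subgroup P)
    (Q.subgroupOf P) (hQ2.comap_of_injective P.subtype P.subtype_injective) φ hφ hker fun g hg => by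
      refine hchar (Subgroup.mem_centralizer_iff.2 fun q hq => ?_)
      exact congrArg Subtype.val (Subgroup.mem_centralizer_iff.1 hg ⟨q, hQP hq⟩ hq)
  let e : Q.subgroupOf P ≃* Q := Subgroup.subgroupOfEquivOfLe hQP
  rcases S.shape with ⟨hab, hexp, hcard⟩ | ⟨hcard, hAB⟩
  · refine Or.inl ⟨⟨⟨⟨fun a b => ?_⟩⟩, fun a ha => ?_⟩, (Nat.card_congr e.toEquiv).symm.trans hcard⟩
    · exact e.symm.injective (by rw [map_mul, map_mul]; exact hab _ _)
    · have h2 : (⟨a, ha⟩ : Q) ^ 2 = 1 := e.symm.injective (by rw [map_pow, map_one]; exact hexp _)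
      exact congrArg Subtype.val h2
  · exact Or.inr ⟨(Nat.card_congr e.toEquiv).symm.trans hcard, transport e hAB⟩

end Cfsg.Agent.S3106
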