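import Cfsg.Statements.S3110
import Cfsg.Agent.Lib.Signalizer.GraphTrivial
import Cfsg.Agent.Lib.Signalizer.Core
import Cfsg.Agent.S0205
import Cfsg.Agent.S0217

set_option autoImplicit false
open Cfsg

namespace Cfsg.Agent.S3110

open Subgroup
open scoped Pointwise

/-- An involution acting on an elementary abelian 2-group fixes a subgroup of order at least the square root. -/
theorem card_le_fixed {G : Type*} [Group G] [Finite G] {U : Subgroup G}
    (hU : Cfsg.IsElementaryAbelian 2 U) {t : G} (ht : t * t = 1) (htU : t ∈ normalizer (U : Set G)) :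
    Nat.card U ≤ Nat.card ↥(U ⊓ centralizer ({t} : Set G)) * Nat.card ↥(U ⊓ centralizer ({t} : Set G)) := by
  have hcomm : ∀ x ∈ U, ∀ y ∈ U, x * y = y * x := fun x hx y hy =>
    Signalizer.commute_of_isMulCommutative hU.1 hx hy
  have hsq : ∀ x ∈ U, x⁻¹ = x := fun x hx =>
    inv_eq_of_mul_eq_one_right (by rw [← pow_two]; exact hU.2 x hx)
  have hmem : ∀ x ∈ U, t * x * t⁻¹ ∈ U := fun x hx => (mem_normalizer_iff.1 htU x).1 hx
  have htt : t⁻¹ = t := inv_eq_of_mul_eq_one_right ht
  let f : U →* U :=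
    { toFun := fun x => ⟨(t * x * t⁻¹) * x, U.mul_mem (hmem x x.2) x.2⟩
      map_one' := Subtype.ext (by simp)
      map_mul' := fun x y => Subtype.ext (by
        show (t * (x * y : G) * t⁻¹) * (x * y) = (t * x * t⁻¹ * x) * (t * y * t⁻¹ * y)
        calc (t * (x * y : G) * t⁻¹) * (x * y) = (t * x * t⁻¹) * ((t * y * t⁻¹) * x) * y := by group
          _ = (t * x * t⁻¹) * ((x : G) * (t * y * t⁻¹)) * y := by
            rw [hcomm _ (hmem y y.2) x x.2]
          _ = _ := by group) }
  let C := (U ⊓ centralizer ({t} : Set G)).subgroupOf U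
  have hker : f.ker ≤ C := by
    intro x hx
    have h : (t * x * t⁻¹) * (x : G) = 1 := congrArg Subtype.val (MonoidHom.mem_ker.1 hx)
    refine mem_subgroupOf.2 ⟨x.2, Signalizer.mem_centralizer_singleton_conj.2 ?_⟩
    rw [eq_inv_of_mul_eq_one_left h, hsq x x.2]
  have hrange : f.range ≤ C := by
    rintro _ ⟨x, rfl⟩
    refine mem_subgroupOf.2 ⟨(f x).2, Signalizer.mem_centralizer_singleton_conj.2 ?_⟩
    show t * ((t * x * t⁻¹) * x) * t⁻¹ = (t * x * t⁻¹) * x
    rw [hcomm _ (hmem x x.2) x x.2]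
    calc t * ((x : G) * (t * x * t⁻¹)) * t⁻¹ = (t * x * t⁻¹) * ((t * t) * x * (t⁻¹ * t⁻¹)) := by group
      _ = t * x * t⁻¹ * x := by rw [htt, ht, one_mul, mul_one]
      _ = _ := hcomm _ (hmem x x.2) x x.2
  have hC : Nat.card C = Nat.card ↥(U ⊓ centralizer ({t} : Set G)) := Cores.card_subgroupOf inf_le_left
  rw [← f.ker.card_mul_index, Subgroup.index_ker, ← hC]
  exact Nat.mul_le_mul (card_le_of_le hker) (card_le_of_le hrange)

theorem exists_elemAb_four {G : Type*} [Group G] {B : Subgroup G} (h : ¬ Cfsg.PRankLE 2 1 ↥B) [Finite G] :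
    ∃ E ≤ B, Cfsg.IsElementaryAbelian 2 E ∧ 4 ≤ Nat.card E := by
  unfold Cfsg.PRankLE at h
  push Not at h
  obtain ⟨E, hE, hEp, hcard⟩ := h
  have hEe : Cfsg.IsElementaryAbelian 2 (E.map B.subtype) := by
    refine ⟨⟨⟨?_⟩⟩, ?_⟩
    · rintro ⟨_, a, ha, rfl⟩ ⟨_, b, hb, rfl⟩
      exact Subtype.ext (congrArg Subtype.val (Signalizer.commute_of_isMulCommutative hE ha hb) :)
    · rintro _ ⟨a, ha, rfl⟩
      rw [← map_pow, hEp a ha, map_one]
  haveI : Fact (Nat.Prime 2) := ⟨Nat.prime_two⟩
  refine ⟨E.map B.subtype, map_subtype_le E, hEe, ?_⟩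
  obtain ⟨k, hk⟩ := IsPGroup.iff_card.1 (Signalizer.isPGroup_of_elemAb hEe)
  rw [← card_map_of_injective (K := E) B.subtype_injective, hk] at hcard
  rw [hk]
  exact le_trans (by norm_num) (Nat.pow_le_pow_right two_pos
    ((Nat.pow_lt_pow_iff_right one_lt_two).1 hcard))

/-- Every four-subgroup normalising a normal elementary rank three subgroup has the same trace. -/
theorem wSub_eq_of_normal {G : Type*} [Group G] [Finite G] (θ : G → Subgroup G) {P U : Subgroup G}
    (hsub : ∀ F E : Subgroup G, Cfsg.IsElementaryAbelian 2 F → 2 ^ 3 ≤ Nat.card F → E ≤ F →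
      2 ^ 2 ≤ Nat.card E → Signalizer.wSub θ F = Signalizer.wSub θ E)
    (hU : Cfsg.IsElementaryAbelian 2 U) (hU3 : 2 ^ 3 ≤ Nat.card U) (hPU : P ≤ normalizer (U : Set G))
    {E : Subgroup G} (hE : Cfsg.IsElementaryAbelian 2 E) (hEP : E ≤ P) (hE2 : 4 ≤ Nat.card E) :
    Signalizer.wSub θ E = Signalizer.wSub θ U := by
  haveI : Fact (Nat.Prime 2) := ⟨Nat.prime_two⟩
  -- commuting subgroups of rank two have equal traces
  have hedge : ∀ D D' : Subgroup G, Cfsg.IsElementaryAbelian 2 D → Cfsg.IsElementaryAbelian 2 D' →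
      4 ≤ Nat.card D → 4 ≤ Nat.card D' → (∀ x ∈ D, ∀ y ∈ D', x * y = y * x) →
      Signalizer.wSub θ D = Signalizer.wSub θ D' := by
    intro D D' hD hD' h4 h4' hc
    have hS := Signalizer.elemAb_sup hD hD' hc
    by_cases h8 : 2 ^ 3 ≤ Nat.card ↥(D ⊔ D')
    · rw [← hsub _ D hS h8 le_sup_left h4, ← hsub _ D' hS h8 le_sup_right h4']
    obtain ⟨k, hk⟩ := IsPGroup.iff_card.1 (Signalizer.isPGroup_of_elemAb hS)
    have h5 : Nat.card ↥(D ⊔ D') ≤ 4 := by
      rw [hk] at h8 ⊢
      have : k ≤ 2 := by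
        by_contra hk2
        exact h8 (Nat.pow_le_pow_right two_pos (by omega))
      exact le_trans (Nat.pow_le_pow_right two_pos this) le_rfl
    exact congrArg (Signalizer.wSub θ) ((eq_of_le_of_card_ge le_sup_left (h5.trans h4)).trans
      (eq_of_le_of_card_ge le_sup_right (h5.trans h4')).symm)
  have hC : ∀ t ∈ E, 4 ≤ Nat.card ↥(U ⊓ centralizer ({t} : Set G)) := by
    intro t ht
    have h1 := card_le_fixed hU (by rw [← pow_two]; exact hE.2 t ht) (hPU (hEP ht))
    obtain ⟨k, hk⟩ := IsPGroup.iff_card.1 ((Signalizer.isPGroup_of_elemAb hU).to_le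
      (inf_le_left : U ⊓ centralizer ({t} : Set G) ≤ U))
    rw [hk] at h1 ⊢
    rcases Nat.lt_or_ge k 2 with hk2 | hk2
    · have : 2 ^ k ≤ 2 := le_trans (Nat.pow_le_pow_right two_pos (by omega)) (pow_one 2).le
      have h2 := hU3.trans (h1.trans (Nat.mul_le_mul this this))
      norm_num at h2
    · exact le_trans (by norm_num) (Nat.pow_le_pow_right two_pos hk2)
  -- a point of `U` fixed by `E`
  obtain ⟨z, hz, hzC, hz1⟩ : ∃ z ∈ U, z ∈ centralizer (E : Set G) ∧ z ≠ 1 := by
    have hnU : ¬ Nat.card U = 1 := fun h => by rw [h] at hU3; norm_num at hU3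
    obtain ⟨k, hk⟩ := IsPGroup.iff_card.1 (Signalizer.isPGroup_of_elemAb hU)
    have hU1 : 2 ∣ Nat.card U := by
      rw [hk]; exact dvd_pow_self 2 fun h => hnU (by rw [hk, h, pow_zero])
    let _ : MulAction E U :=
      { smul := fun t v => ⟨(t : G) * v * (t : G)⁻¹, (mem_normalizer_iff.1 (hPU (hEP t.2)) v).1 v.2⟩
        one_smul := fun v => Subtype.ext (by show (1 : G) * v * (1 : G)⁻¹ = v; group)
        mul_smul := fun a b v => Subtype.ext (by
          show (a * b : G) * v * (a * b : G)⁻¹ = a * (b * v * (b : G)⁻¹) * (a : G)⁻¹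
          group) }
    obtain ⟨v, hv, hv1⟩ := (Signalizer.isPGroup_of_elemAb hE).exists_fixed_point_of_prime_dvd_card_of_fixed_point
      U hU1 (a := 1) (fun t => Subtype.ext (by show (t : G) * 1 * (t : G)⁻¹ = 1; group))
    exact ⟨v, v.2, Signalizer.mem_centralizer_iff_conj.2 fun t ht => congrArg Subtype.val (hv ⟨t, ht⟩),
      fun h => hv1 (Subtype.ext h.symm)⟩
  obtain ⟨b, hb, hbz⟩ : ∃ b ∈ E, b ∉ zpowers z := by
    by_contra h
    push Not at h
    have h2 := card_le_of_le h
    rw [Nat.card_zpowers, orderOf_eq_prime (hU.2 z hz) hz1] at h2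
    omega
  have hzz : Cfsg.IsElementaryAbelian 2 (zpowers z) := Signalizer.elemAb_of_le hU (zpowers_le.2 hz)
  have hbb : Cfsg.IsElementaryAbelian 2 (zpowers b) := Signalizer.elemAb_of_le hE (zpowers_le.2 hb)
  have hcm : ∀ x ∈ zpowers b, ∀ y ∈ zpowers z, x * y = y * x := fun x hx y hy =>
    mem_centralizer_iff.1 ((zpowers_le.2 hzC) hy) x ((zpowers_le.2 hb) hx)
  have hD := Signalizer.elemAb_sup hbb hzz hcm
  have hD4 : 4 ≤ Nat.card ↥(zpowers b ⊔ zpowers z) := by
    have hlt : zpowers z < zpowers b ⊔ zpowers z :=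
      lt_of_le_of_ne le_sup_right fun h => hbz (h ▸ (le_sup_left (b := zpowers z)) (mem_zpowers b))
    have h2 : Nat.card (zpowers z) = 2 := by
      rw [Nat.card_zpowers, orderOf_eq_prime (hU.2 z hz) hz1]
    obtain ⟨k, hk⟩ := IsPGroup.iff_card.1 (Signalizer.isPGroup_of_elemAb hD)
    have h3 : Nat.card (zpowers z) < Nat.card ↥(zpowers b ⊔ zpowers z) :=
      lt_of_le_of_ne (card_le_of_le hlt.le) fun h => hlt.ne (eq_of_le_of_card_ge hlt.le h.ge)
    rw [h2, hk] at h3
    rw [hk]
    exact le_trans (by norm_num) (Nat.pow_le_pow_right two_pos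
      ((Nat.pow_lt_pow_iff_right one_lt_two).1 ((pow_one 2).symm ▸ h3)))
  have hCe : Cfsg.IsElementaryAbelian 2 (U ⊓ centralizer ({b} : Set G)) :=
    Signalizer.elemAb_of_le hU inf_le_left
  rw [hedge E _ hE hD hE2 hD4 fun x hx y hy => by
      have h1 : zpowers b ⊔ zpowers z ≤ centralizer (E : Set G) :=
        sup_le (zpowers_le.2 (mem_centralizer_iff.2 fun e he =>
          Signalizer.commute_of_isMulCommutative hE.1 he hb)) (zpowers_le.2 hzC)
      exact mem_centralizer_iff.1 (h1 hy) x hx,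
    hedge _ _ hD hCe hD4 (hC b hb) fun x hx y hy => by
      have h1 : zpowers b ⊔ zpowers z ≤ centralizer ((U ⊓ centralizer ({b} : Set G) : Subgroup G) : Set G) :=
        sup_le (zpowers_le.2 (mem_centralizer_iff.2 fun e he => mem_centralizer_singleton_iff.1 he.2))
          (zpowers_le.2 (mem_centralizer_iff.2 fun e he =>
            Signalizer.commute_of_isMulCommutative hU.1 he.1 hz))
      exact (mem_centralizer_iff.1 (h1 hx) y hy).symm,
    hedge _ U hCe hU (hC b hb) (le_trans (by norm_num) hU3) fun x hx y hy =>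
      Signalizer.commute_of_isMulCommutative hU.1 hx.1 hy]

/-- Let G be a finite group in which every 2-local subgroup is 2-constrained and some Sylow 2-subgroup has a self-centralizing abelian normal subgroup of 2-rank at least 3, and let S be any Sylow 2-subgroup of G. Then there is a subgroup W of G of odd order such that, for every subgroup B of S of 2-rank at least 2, W is generated by the largest normal odd-order subgroups O(C_G(b)) of the centralizers of the non-identity elements b of B, and W is normalized by the normalizer of every such B. -/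
theorem result {G : Type*} [Group G] [Finite G]
    (h2c : ∀ T : Subgroup G, IsPGroup 2 T → T ≠ ⊥ → Cfsg.IsPConstrained 2 ↥(Subgroup.normalizer (T : Set G)))
    (S : Sylow 2 G) (A : Subgroup ↥(S : Subgroup G)) (hAn : A.Normal) (hAab : IsMulCommutative ↥A)
    (hAC : Subgroup.centralizer (A : Set ↥(S : Subgroup G)) = A) (hA3 : ¬ Cfsg.PRankLE 2 2 ↥A) (S' : Sylow 2 G) :
    ∃ W : Subgroup G, Odd (Nat.card ↥W) ∧
      ∀ B : Subgroup G, B ≤ (S' : Subgroup G) → ¬ Cfsg.PRankLE 2 1 ↥B →
        W = (⨆ b : {b : G // b ∈ B ∧ b ≠ 1}, Cfsg.centralizerPPrimeCore 2 (b : G)) ∧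
        Subgroup.normalizer (B : Set G) ≤ Subgroup.normalizer (W : Set G) := by
  classical
  haveI : Fact (Nat.Prime 2) := ⟨Nat.prime_two⟩
  let θ : G → Subgroup G := fun z => Cfsg.centralizerPPrimeCore 2 z
  have hcons : ∀ z : G, orderOf z = 2 → Cfsg.IsPConstrained 2 ↥(centralizer ({z} : Set G)) := by
    intro z hz
    have hz1 : zpowers z ≠ ⊥ := fun h => by
      have := Subgroup.zpowers_eq_bot.1 h
      rw [this, orderOf_one] at hz
      exact absurd hz (by norm_num)
    have hzp : IsPGroup 2 (zpowers z) :=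
      Signalizer.isPGroup_zpowers_of_pow_eq_one (hz ▸ pow_orderOf_eq_one z)
    have h := h2c (zpowers z) hzp hz1
    have heq : normalizer (zpowers z : Set G) = centralizer ({z} : Set G) := by
      ext g
      constructor
      · intro hg
        have h1 : g * z * g⁻¹ ∈ zpowers z := (mem_normalizer_iff.1 hg z).1 (mem_zpowers z)
        rw [Signalizer.mem_centralizer_singleton_conj]
        obtain ⟨i, hi⟩ := h1
        dsimp only at hi
        have h2 : g * z * g⁻¹ = z := by
          rcases Int.even_or_odd i with ⟨j, rfl⟩ | ⟨j, rfl⟩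
          · exfalso
            rw [← two_mul, zpow_mul, show z ^ (2 : ℤ) = 1 by
              rw [zpow_two, ← pow_two, ← hz, pow_orderOf_eq_one], one_zpow] at hi
            rw [eq_comm, mul_inv_eq_one, mul_eq_left] at hi
            rw [hi, orderOf_one] at hz
            exact absurd hz (by norm_num)
          · rw [← hi, zpow_add, zpow_mul, show z ^ (2 : ℤ) = 1 by
              rw [zpow_two, ← pow_two, ← hz, pow_orderOf_eq_one], one_zpow, one_mul, zpow_one]
        calc z * g * z⁻¹ = (z * g) * z⁻¹ := rfl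
          _ = (g * z) * z⁻¹ := by rw [← mul_inv_eq_iff_eq_mul.1 h2]
          _ = g := by group
      · intro hg
        exact Signalizer.le_normalizer_of_commute (A := centralizer ({z} : Set G)) (B := zpowers z)
          (fun a ha b hb => by
            obtain ⟨i, rfl⟩ := hb
            exact ((show Commute a z from mem_centralizer_singleton_iff.1 ha).zpow_right i).eq) hg
    rwa [heq] at h
  have hodd : ∀ z : G, Odd (Nat.card (θ z)) := fun z => by
    rw [← Nat.not_even_iff_odd, even_iff_two_dvd]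
    exact Signalizer.not_dvd_card_core z
  have hbal : ∀ z w : G, z * z = 1 → orderOf w = 2 → z * w = w * z →
      θ z ⊓ centralizer {w} ≤ θ w := fun z w hz hw hzw =>
    Signalizer.core_inf_centralizer_le_core (by rw [pow_two]; exact hz) hzw (hcons w hw)
  have hnormθ : ∀ F : Subgroup G, IsMulCommutative F → F ≤ normalizer (Signalizer.wSub θ F : Set G) :=
    fun F hF => Signalizer.le_normalizer_iSup fun c => Signalizer.invariant_core hF c.2.1
  have hcomplete : ∀ F : Subgroup G, Cfsg.IsElementaryAbelian 2 F → 2 ^ 3 ≤ Nat.card F →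
      ¬ 2 ∣ Nat.card (Signalizer.wSub θ F) ∧
        ∀ b ∈ F, b ≠ 1 → Signalizer.wSub θ F ⊓ centralizer {b} = θ b := by
    intro F hF hF3
    refine Cfsg.Agent.S0217.result F
      (fun b hb c hc => Signalizer.commute_of_isMulCommutative hF.1 hb hc) hF.2 hF3 θ
      (fun b _ _ => Signalizer.core_le_centralizer b) (fun b _ _ => Signalizer.not_dvd_card_core b)
      (fun b hb _ c hc x hx => Signalizer.conj_mem (Signalizer.invariant_core hF.1 hb) hc hx)
      (fun b _ _ => Cfsg.Agent.S0205.result (hodd b))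
      (fun b hb hb1 c hc hc1 => hbal b c (by rw [← pow_two]; exact hF.2 b hb)
        (orderOf_eq_prime (hF.2 c hc) hc1) (Signalizer.commute_of_isMulCommutative hF.1 hb hc))
  have hsub : ∀ F E : Subgroup G, Cfsg.IsElementaryAbelian 2 F → 2 ^ 3 ≤ Nat.card F → E ≤ F →
      2 ^ 2 ≤ Nat.card E → Signalizer.wSub θ F = Signalizer.wSub θ E := fun F E hF hF3 hEF hE2 => by
    refine le_antisymm (Signalizer.le_of_elements (Signalizer.elemAb_of_le hF hEF) hE2 _ _
      (hcomplete F hF hF3).1 (hEF.trans (hnormθ F hF.1)) fun e he he1 => ?_)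
      (iSup_le fun e => Signalizer.le_wSub (hEF e.2.1) e.2.2)
    rw [(hcomplete F hF hF3).2 e (hEF he) he1]
    exact Signalizer.le_wSub he he1
  -- the elementary abelian normal subgroup of rank three of `S'`
  obtain ⟨g, hg⟩ := MulAction.exists_smul_eq G S S'
  have hS' : ∀ x : G, x ∈ (S' : Subgroup G) → g⁻¹ * x * g ∈ (S : Subgroup G) := fun x hx => by
    rw [← hg, Sylow.coe_subgroup_smul, Subgroup.mem_pointwise_smul_iff_inv_smul_mem] at hx
    simpa using hx
  let A₀ : Subgroup G := (A.map (S : Subgroup G).subtype).map (MulAut.conj g).toMonoidHom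
  have hA₀c : ∀ x ∈ A₀, ∀ y ∈ A₀, x * y = y * x := by
    rintro _ ⟨_, ⟨x, hx, rfl⟩, rfl⟩ _ ⟨_, ⟨y, hy, rfl⟩, rfl⟩
    rw [← map_mul, ← map_mul, ← map_mul, ← map_mul,
      Signalizer.commute_of_isMulCommutative hAab hx hy]
  let U : Subgroup G :=
    { carrier := {x | x ∈ A₀ ∧ x * x = 1}
      one_mem' := ⟨A₀.one_mem, one_mul 1⟩
      mul_mem' := fun {x y} hx hy => ⟨A₀.mul_mem hx.1 hy.1, by
        calc x * y * (x * y) = x * (y * x) * y := by group
          _ = x * (x * y) * y := by rw [hA₀c y hy.1 x hx.1]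
          _ = (x * x) * (y * y) := by group
          _ = 1 := by rw [hx.2, hy.2, one_mul]⟩
      inv_mem' := fun {x} hx => ⟨A₀.inv_mem hx.1, by rw [← mul_inv_rev, hx.2, inv_one]⟩ }
  have hU : Cfsg.IsElementaryAbelian 2 U :=
    ⟨⟨⟨fun x y => Subtype.ext (hA₀c x x.2.1 y y.2.1)⟩⟩, fun x hx => by rw [pow_two]; exact hx.2⟩
  have hU3 : 2 ^ 3 ≤ Nat.card U := by
    unfold Cfsg.PRankLE at hA3
    push Not at hA3
    obtain ⟨B, hB, hB2, hcard⟩ := hA3
    let f : ↥A →* G := ((MulAut.conj g).toMonoidHom.comp (S : Subgroup G).subtype).comp A.subtype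
    have hf : Function.Injective f :=
      ((MulAut.conj g).injective.comp (S : Subgroup G).subtype_injective).comp A.subtype_injective
    have hle : B.map f ≤ U := by
      rintro _ ⟨x, hx, rfl⟩
      exact ⟨⟨_, ⟨x.1, x.2, rfl⟩, rfl⟩, by rw [← map_mul, ← pow_two, hB2 x hx, map_one]⟩
    have hBc : Nat.card B ≤ Nat.card U :=
      (card_map_of_injective (K := B) hf).symm.le.trans (card_le_of_le hle)
    obtain ⟨k, hk⟩ := IsPGroup.iff_card.1 (Signalizer.isPGroup_of_elemAb hU)
    rw [hk] at hBc ⊢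
    exact Nat.pow_le_pow_right two_pos ((Nat.pow_lt_pow_iff_right one_lt_two).1 (hcard.trans_le hBc))
  have hUS : (S' : Subgroup G) ≤ normalizer (U : Set G) := by
    refine Signalizer.le_normalizer_of_conj_mem fun s hs x hx => ⟨?_, ?_⟩
    · obtain ⟨_, ⟨y, hy, rfl⟩, rfl⟩ := hx.1
      refine ⟨_, ⟨⟨_, hS' s hs⟩ * y * ⟨_, hS' s hs⟩⁻¹, hAn.conj_mem y hy _, rfl⟩, ?_⟩
      simp only [MulEquiv.coe_toMonoidHom, MulAut.conj_apply, Subgroup.coe_subtype, Subgroup.coe_mul,
        InvMemClass.coe_inv]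
      group
    · calc s * x * s⁻¹ * (s * x * s⁻¹) = s * (x * x) * s⁻¹ := by group
        _ = 1 := by rw [hx.2]; group
  have hmain : ∀ E : Subgroup G, Cfsg.IsElementaryAbelian 2 E → E ≤ (S' : Subgroup G) →
      4 ≤ Nat.card E → Signalizer.wSub θ E = Signalizer.wSub θ U := fun E hE hES hE2 =>
    wSub_eq_of_normal θ hsub hU hU3 hUS hE hES hE2
  refine ⟨Signalizer.wSub θ U, ?_, fun B hB hB2 => ?_⟩
  · rw [← Nat.not_even_iff_odd, even_iff_two_dvd]
    exact (hcomplete U hU hU3).1
  have hinv : ∀ z ∈ (S' : Subgroup G), orderOf z = 2 → θ z ≤ Signalizer.wSub θ U := by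
    intro z hz hz2
    have hzz : Cfsg.IsElementaryAbelian 2 (zpowers z) := by
      refine ⟨inferInstance, ?_⟩
      rintro _ ⟨i, rfl⟩
      rw [← zpow_natCast, ← zpow_mul, mul_comm, zpow_mul, zpow_natCast, ← hz2, pow_orderOf_eq_one,
        one_zpow]
    have hz1 : z ≠ 1 := fun h => by rw [h, orderOf_one] at hz2; exact absurd hz2 (by norm_num)
    have hC := Signalizer.elemAb_of_le hU (inf_le_left : U ⊓ centralizer ({z} : Set G) ≤ U)
    have hD := Signalizer.elemAb_sup hzz hC fun x hx y hy => by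
      obtain ⟨i, rfl⟩ := hx
      exact ((show Commute y z from mem_centralizer_singleton_iff.1 hy.2).zpow_right i).symm.eq
    have hC4 : 4 ≤ Nat.card ↥(U ⊓ centralizer ({z} : Set G)) := by
      have h1 := card_le_fixed hU (by rw [← pow_two, ← hz2]; exact pow_orderOf_eq_one z) (hUS hz)
      obtain ⟨k, hk⟩ := IsPGroup.iff_card.1 ((Signalizer.isPGroup_of_elemAb hU).to_le
        (inf_le_left : U ⊓ centralizer ({z} : Set G) ≤ U))
      rw [hk] at h1 ⊢
      rcases Nat.lt_or_ge k 2 with hk2 | hk2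
      · have : 2 ^ k ≤ 2 := le_trans (Nat.pow_le_pow_right two_pos (by omega)) (pow_one 2).le
        have h2 := hU3.trans (h1.trans (Nat.mul_le_mul this this))
        norm_num at h2
      · exact le_trans (by norm_num) (Nat.pow_le_pow_right two_pos hk2)
    have hUS' : ∀ x ∈ U, x ∈ (S' : Subgroup G) := fun x hx => by
      obtain ⟨_, ⟨y, _, rfl⟩, rfl⟩ := hx.1
      rw [← hg, Sylow.coe_subgroup_smul, Subgroup.mem_pointwise_smul_iff_inv_smul_mem]
      simp [mul_assoc]
    rw [← hmain _ hD (sup_le (zpowers_le.2 hz) fun x hx => hUS' x hx.1)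
      (hC4.trans (card_le_of_le le_sup_right))]
    exact Signalizer.le_wSub (mem_sup_left (mem_zpowers z)) hz1
  have hW : Signalizer.wSub θ U = Signalizer.wSub θ B := by
    refine le_antisymm ?_ (iSup_le fun b => ?_)
    · obtain ⟨E, hEB, hE, hE4⟩ := exists_elemAb_four hB2
      rw [← hmain E hE (hEB.trans hB) hE4]
      exact iSup_le fun e => Signalizer.le_wSub (hEB e.2.1) e.2.2
    · obtain ⟨b, hb, hb1⟩ := b
      -- an involution in `⟨b⟩`
      obtain ⟨j, hj⟩ := IsPGroup.iff_orderOf.1 S'.isPGroup' ⟨b, hB hb⟩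
      rw [orderOf_mk] at hj
      obtain ⟨i, rfl⟩ : ∃ i, j = i + 1 :=
        Nat.exists_eq_add_one.2 (Nat.pos_of_ne_zero fun h => hb1 (orderOf_eq_one_iff.1 (by rw [hj, h, pow_zero])))
      have hz2 : orderOf (b ^ 2 ^ i) = 2 := by
        refine orderOf_eq_prime (by rw [← pow_mul, ← pow_succ, ← hj, pow_orderOf_eq_one]) fun h => ?_
        have h1 := orderOf_dvd_of_pow_eq_one h
        rw [hj] at h1
        exact absurd (Nat.le_of_dvd (by positivity) h1)
          (not_le.2 (Nat.pow_lt_pow_right one_lt_two (Nat.lt_succ_self i)))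
      refine le_trans ?_ (hinv _ (hB (pow_mem hb _)) hz2)
      -- balance inside `C(z)`
      have hle : centralizer ({b} : Set G) ≤ centralizer ({b ^ 2 ^ i} : Set G) := fun x hx =>
        mem_centralizer_singleton_iff.2
          ((show Commute x b from mem_centralizer_singleton_iff.1 hx).pow_right _).eq
      let H := centralizer ({b ^ 2 ^ i} : Set G)
      have hbH : b ∈ H := mem_centralizer_singleton_iff.2 ((Commute.refl b).pow_right _).eq
      have hYH : θ b ≤ H := (Signalizer.core_le_centralizer b).trans hle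
      have h := Signalizer.le_pPrimeCore_of_centralizer_le_normalizer (hcons _ hz2)
        (P := zpowers (⟨b, hbH⟩ : H)) (Y := (θ b).subgroupOf H)
        (fun x => by
          obtain ⟨m, hm⟩ := x.2
          refine ⟨i + 1, Subtype.ext ?_⟩
          rw [SubmonoidClass.coe_pow, ← hm, OneMemClass.coe_one]
          apply Subtype.ext
          rw [SubmonoidClass.coe_pow, SubgroupClass.coe_zpow, OneMemClass.coe_one, ← zpow_natCast,
            ← zpow_mul, mul_comm, zpow_mul, zpow_natCast, ← hj, pow_orderOf_eq_one, one_zpow])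
        (by rw [Cores.card_subgroupOf hYH]; exact Nat.coprime_two_right.2 (hodd b))
        (zpowers_le.2 (mem_centralizer_iff.2 fun y hy => Subtype.ext
          (mem_centralizer_singleton_iff.1 (Signalizer.core_le_centralizer (p := 2) b hy))))
        (Signalizer.le_normalizer_of_conj_mem fun c hc y hy => by
          have hcb : (c : G) ∈ centralizer ({b} : Set G) := mem_centralizer_singleton_iff.2
            (congrArg Subtype.val (mem_centralizer_iff.1 hc (⟨b, hbH⟩ : H) (mem_zpowers _)).symm)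
          exact Signalizer.conj_mem (Signalizer.centralizer_le_normalizer_core b) hcb hy)
      intro y hy
      exact ⟨⟨y, hYH hy⟩, h (show (⟨y, hYH hy⟩ : H) ∈ (θ b).subgroupOf H from hy), rfl⟩
  refine ⟨hW, ?_⟩
  rw [hW]
  refine Signalizer.le_normalizer_of_conj_mem fun n hn x hx => ?_
  have hle : (Signalizer.wSub θ B).map (MulAut.conj n).toMonoidHom ≤ Signalizer.wSub θ B := by
    rw [Signalizer.wSub, Subgroup.map_iSup]
    refine iSup_le fun c => ?_
    rw [Signalizer.map_conj_centralizerPPrimeCore]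
    refine Signalizer.le_wSub ((mem_normalizer_iff.1 hn c).1 c.2.1) fun h => c.2.2 ?_
    calc (c : G) = n⁻¹ * (n * c * n⁻¹) * n := by group
      _ = 1 := by rw [h]; group
  exact hle ⟨x, hx, rfl⟩

end Cfsg.Agent.S3110
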