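import Cfsg.Statements.S3111
import Cfsg.Agent.Lib.Signalizer.CoreSeparated
import Cfsg.Agent.S0502
import Cfsg.Agent.S1291

set_option autoImplicit false
open Cfsg

namespace Cfsg.Agent.S3111

open Subgroup
open scoped Pointwise commutatorElement

/-- An unbalanced pair gives an unbalancing triple. -/
theorem exists_triple {G : Type*} [Group G] [Finite G] {a x : G} (ha : orderOf a = 2)
    (hx : orderOf x = 2) (hax : Commute a x)
    (hD : ¬ Cfsg.centralizerPPrimeCore 2 x ⊓ centralizer ({a} : Set G) ≤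
      Cfsg.centralizerPPrimeCore 2 a) :
    ∃ L : Subgroup ↥(centralizer ({a} : Set G)), Cfsg.IsPComponent 2 L ∧
      (∀ l ∈ L.map (centralizer ({a} : Set G)).subtype,
        x * l * x⁻¹ ∈ L.map (centralizer ({a} : Set G)).subtype) ∧
      L.map (centralizer ({a} : Set G)).subtype =
        (Cfsg.oddCore ↥L).map ((centralizer ({a} : Set G)).subtype.comp L.subtype) ⊔
          ⁅L.map (centralizer ({a} : Set G)).subtype,
            Cfsg.centralizerPPrimeCore 2 x ⊓ centralizer ({a} : Set G)⁆ := by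
  haveI : Fact (Nat.Prime 2) := ⟨Nat.prime_two⟩
  set H := centralizer ({a} : Set G) with hH
  have hxH : x ∈ H := mem_centralizer_singleton_iff.2 hax.symm.eq
  let π := QuotientGroup.mk' (Cfsg.oddCore ↥H)
  let s := π ⟨x, hxH⟩
  set D := Cfsg.centralizerPPrimeCore 2 x ⊓ H with hDdef
  have hDH : D ≤ H := inf_le_right
  have hx2 : x ^ 2 = 1 := hx ▸ pow_orderOf_eq_one x
  have hs : orderOf s = 2 := by
    refine orderOf_eq_prime (by rw [← map_pow, show (⟨x, hxH⟩ : H) ^ 2 = 1
      from Subtype.ext hx2, map_one]) fun h => ?_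
    have h1 : (⟨x, hxH⟩ : H) ∈ Cfsg.oddCore ↥H := (QuotientGroup.eq_one_iff _).1 h
    have h2 := Nat.eq_one_of_dvd_coprimes (Cores.coprime_card_pPrimeCore 2)
      (orderOf_dvd_natCard _ h1) (orderOf_dvd_of_pow_eq_one (Subtype.ext hx2))
    rw [orderOf_mk, hx] at h2
    exact absurd h2 (by norm_num)
  have hne : CoreSep.bar a D ≠ ⊥ := fun h => hD (CoreSep.le_core_of_bar_eq_bot hDH h)
  obtain ⟨F, hF, hsF, hDF, -, hDC⟩ := CoreSep.exists_bad_component
    (Cores.pPrimeCore_quotient_self 2) hs (Y := CoreSep.bar a D) (Y₀ := CoreSep.bar a D) hne le_rfl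
    ((CoreSep.odd_of_le inf_le_left (CoreSep.odd_core x)).of_dvd_nat
      ((card_map_dvd _ _).trans (Cores.card_subgroupOf hDH).dvd))
    (by
      rintro _ ⟨y, hy, rfl⟩
      refine mem_centralizer_singleton_iff.2 ?_
      rw [← map_mul, ← map_mul]
      exact congrArg π (Subtype.ext (mem_centralizer_singleton_iff.1
        (Signalizer.core_le_centralizer (p := 2) x (mem_subgroupOf.1 hy).1))))
    (by
      refine le_trans ?_ (CoreSep.centralizer_bar_le_normalizer (P := zpowers x) (zpowers_le.2 hxH)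
        (Signalizer.isPGroup_zpowers_of_pow_eq_one hx2) ?_)
      · intro g hg
        refine mem_centralizer_iff.2 ?_
        rintro _ ⟨z, hz, rfl⟩
        obtain ⟨i, hi⟩ := mem_subgroupOf.1 hz
        have : π z = s ^ i := by rw [← map_zpow]; exact congrArg π (Subtype.ext hi.symm)
        show π z * g = g * π z
        rw [this]
        exact ((show Commute g s from mem_centralizer_singleton_iff.1 hg).zpow_right i).symm.eq
      · refine fun g hg => Signalizer.mem_normalizer_of_conj_mem fun y hy => ?_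
        exact ⟨Signalizer.conj_mem (Signalizer.centralizer_le_normalizer_core x)
          (mem_centralizer_singleton_iff.2 ((mem_centralizer_iff.1 hg.2 x (mem_zpowers x)).symm)) hy.1,
          Signalizer.conj_mem le_normalizer hg.1 hy.2⟩)
  let L := Components.pComponentOf 2 F
  have hL : Cfsg.IsPComponent 2 L := Components.isPComponent_pComponentOf hF
  have hLF : L.map π = F := Components.map_pComponentOf hF
  have hnormL : ∀ g : H, π g ∈ normalizer (F : Set (↥H ⧸ Cfsg.oddCore ↥H)) →
      g ∈ normalizer (L : Set ↥H) := fun g hg => by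
    refine Components.normalizer_le_normalizer_pGen 2 _ ?_
    refine Signalizer.mem_normalizer_of_conj_mem fun y hy => ?_
    rw [mem_comap] at hy ⊢
    show π (g * y * g⁻¹) ∈ F
    rw [map_mul, map_mul, map_inv]
    exact (mem_normalizer_iff.1 hg _).1 hy
  refine ⟨L, hL, ?_, ?_⟩
  · rintro _ ⟨l, hl, rfl⟩
    exact ⟨⟨x, hxH⟩ * l * ⟨x, hxH⟩⁻¹, (mem_normalizer_iff.1 (hnormL _ hsF) l).1 hl, rfl⟩
  set K := L.map H.subtype with hK
  have hKH : K ≤ H := map_subtype_le _
  have hKL : K.subgroupOf H = L := comap_map_eq_self_of_injective H.subtype_injective L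
  have hcommLe : ⁅K, D⁆ ≤ K := by
    rw [← le_normalizer_iff_commutator_le_left]
    intro d hd
    refine Signalizer.mem_normalizer_of_conj_mem ?_
    rintro _ ⟨l, hl, rfl⟩
    exact ⟨⟨d, hDH hd⟩ * l * ⟨d, hDH hd⟩⁻¹, (mem_normalizer_iff.1
      (hnormL _ (hDF (mem_map_of_mem _ (mem_subgroupOf.2 hd)))) l).1 hl, rfl⟩
  -- the commutator covers the component
  have himg : CoreSep.bar a ⁅K, D⁆ = F := by
    have hbarK : CoreSep.bar a K = F := by
      show (K.subgroupOf H).map π = F
      rw [hKL, hLF]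
    rw [CoreSep.bar_commutator hKH hDH, hbarK]
    set T := ⁅F, CoreSep.bar a D⁆ with hT
    have hTF : T ≤ F := le_normalizer_iff_commutator_le_left.1 hDF
    have hTn : (T.subgroupOf F).Normal :=
      normal_subgroupOf_of_le_normalizer (normalizer_commutator_ge_left _ _)
    rcases Components.IsQuasisimple.normal_eq_top_or_le_center hF.2 (T.subgroupOf F) with h | h
    · exact le_antisymm hTF (subgroupOf_eq_top.1 h)
    exfalso
    apply hDC
    have hTc : ⁅T, F⁆ = ⊥ := by
      refine commutator_eq_bot_iff_le_centralizer.2 fun t ht => mem_centralizer_iff.2 fun f hf => ?_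
      exact congrArg Subtype.val (mem_center_iff.1 (h (show (⟨t, hTF ht⟩ : F) ∈ T.subgroupOf F from ht))
        ⟨f, hf⟩)
    have h3 := commutator_commutator_eq_bot_of_rotate (H₁ := F) (H₂ := F) (H₃ := CoreSep.bar a D)
      hTc (by rw [commutator_comm (CoreSep.bar a D) F]; exact hTc)
    rw [Components.IsComponent.perfect hF, commutator_comm] at h3
    exact commutator_eq_bot_iff_le_centralizer.1 h3
  refine le_antisymm ?_ (sup_le ?_ hcommLe)
  · intro k hk
    obtain ⟨l, hl, rfl⟩ := hk
    have h1 : π l ∈ CoreSep.bar a ⁅K, D⁆ := by rw [himg, ← hLF]; exact mem_map_of_mem π hl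
    obtain ⟨m, hm, hml⟩ := h1
    have hmK : (m : G) ∈ K := hcommLe (mem_subgroupOf.1 hm)
    have hmL : m ∈ L := hKL ▸ mem_subgroupOf.2 hmK
    have hker : l * m⁻¹ ∈ L ⊓ Cfsg.oddCore ↥H := by
      refine ⟨L.mul_mem hl (L.inv_mem hmL), (QuotientGroup.eq_one_iff _).1 ?_⟩
      show π (l * m⁻¹) = 1
      rw [map_mul, map_inv, show π m = π l from hml, mul_inv_cancel]
    have hodd : (Cfsg.oddCore ↥H).subgroupOf L ≤ Cfsg.oddCore ↥L := by
      haveI := Cores.pPrimeCore_normal 2 ↥H
      refine Cores.le_pPrimeCore inferInstance ?_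
      refine (Cores.coprime_card_pPrimeCore (G := ↥H) 2).coprime_dvd_left ?_
      rw [← inf_subgroupOf_right, Cores.card_subgroupOf inf_le_right]
      exact card_dvd_of_le inf_le_left
    have : H.subtype l = H.subtype (l * m⁻¹) * (m : G) := by simp
    rw [this]
    exact mul_mem_sup ⟨⟨l * m⁻¹, hker.1⟩, hodd (mem_subgroupOf.2 hker.2), rfl⟩ (mem_subgroupOf.1 hm)
  · rw [hK, ← map_map]
    exact map_mono (map_subtype_le _)

/-- Let G be a non-abelian finite simple group some Sylow 2-subgroup of which has a self-centralizing abelian normal subgroup of 2-rank at least 3. Then either the centralizer of every involution of G has no nontrivial normal subgroup of odd order, or G has an unbalancing triple: commuting involutions a, x and an x-invariant 2-component L of C_G(a) with L = O(L)[L, O(C_G(x)) ∩ C_G(a)], where O(·) denotes the largest normal subgroup of odd order. -/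
theorem result {G : Type*} [Group G] [Finite G] [IsSimpleGroup G] (hG : ¬ IsMulCommutative G)
    (S : Sylow 2 G) (A : Subgroup ↥(S : Subgroup G)) (hAn : A.Normal) (hAab : IsMulCommutative ↥A)
    (hAC : Subgroup.centralizer (A : Set ↥(S : Subgroup G)) = A) (hA3 : ¬ Cfsg.PRankLE 2 2 ↥A) :
    (∀ t : G, orderOf t = 2 → Cfsg.centralizerPPrimeCore 2 t = ⊥) ∨
      ∃ (a x : G) (L : Subgroup ↥(Subgroup.centralizer ({a} : Set G))), orderOf a = 2 ∧ orderOf x = 2 ∧ Commute a x ∧
        Cfsg.IsPComponent 2 L ∧ (∀ l ∈ L.map (Subgroup.centralizer ({a} : Set G)).subtype, x * l * x⁻¹ ∈ L.map (Subgroup.centralizer ({a} : Set G)).subtype) ∧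
        L.map (Subgroup.centralizer ({a} : Set G)).subtype =
          (Cfsg.oddCore ↥L).map ((Subgroup.centralizer ({a} : Set G)).subtype.comp L.subtype) ⊔
            ⁅L.map (Subgroup.centralizer ({a} : Set G)).subtype, Cfsg.centralizerPPrimeCore 2 x ⊓ Subgroup.centralizer ({a} : Set G)⁆ := by
  classical
  haveI : Fact (Nat.Prime 2) := ⟨Nat.prime_two⟩
  by_cases hbal : Cfsg.IsBalanced G
  swap
  · right
    unfold Cfsg.IsBalanced at hbal
    push Not at hbal
    obtain ⟨x, a, hx, ha, hxa, hne⟩ := hbal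
    by_cases h1 : Cfsg.centralizerPPrimeCore 2 x ⊓ centralizer ({a} : Set G) ≤
        Cfsg.centralizerPPrimeCore 2 a
    · have h2 : ¬ Cfsg.centralizerPPrimeCore 2 a ⊓ centralizer ({x} : Set G) ≤
          Cfsg.centralizerPPrimeCore 2 x := fun h2 => hne (le_antisymm
        (le_inf h1 (inf_le_left.trans (Signalizer.core_le_centralizer x)))
        (le_inf h2 (inf_le_left.trans (Signalizer.core_le_centralizer a))))
      obtain ⟨L, hL, hLx, hLeq⟩ := exists_triple hx ha hxa h2
      exact ⟨x, a, L, hx, ha, hxa, hL, hLx, hLeq⟩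
    · obtain ⟨L, hL, hLx, hLeq⟩ := exists_triple ha hx (Commute.symm hxa) h1
      exact ⟨a, x, L, ha, hx, Commute.symm hxa, hL, hLx, hLeq⟩
  left
  -- a normal elementary abelian subgroup of order at least eight
  have hAc : ∀ x ∈ A, ∀ y ∈ A, x * y = y * x := fun x hx y hy =>
    Signalizer.commute_of_isMulCommutative hAab hx hy
  let E : Subgroup ↥(S : Subgroup G) :=
    { carrier := {x | x ∈ A ∧ x * x = 1}
      one_mem' := ⟨A.one_mem, one_mul 1⟩
      mul_mem' := fun {x y} hx hy => ⟨A.mul_mem hx.1 hy.1, by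
        calc x * y * (x * y) = x * (y * x) * y := by group
          _ = x * (x * y) * y := by rw [hAc y hy.1 x hx.1]
          _ = (x * x) * (y * y) := by group
          _ = 1 := by rw [hx.2, hy.2, one_mul]⟩
      inv_mem' := fun {x} hx => ⟨A.inv_mem hx.1, by rw [← mul_inv_rev, hx.2, inv_one]⟩ }
  have hEn : E.Normal := ⟨fun x hx g => ⟨hAn.conj_mem x hx.1 g, by
    calc g * x * g⁻¹ * (g * x * g⁻¹) = g * (x * x) * g⁻¹ := by group
      _ = 1 := by rw [hx.2]; group⟩⟩
  have hEc : IsMulCommutative E :=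
    ⟨⟨fun x y => Subtype.ext (hAc x x.2.1 y y.2.1)⟩⟩
  have hE2 : ∀ e ∈ E, e ^ 2 = 1 := fun e he => by rw [pow_two]; exact he.2
  have hE8 : 8 ≤ Nat.card E := by
    unfold Cfsg.PRankLE at hA3
    push Not at hA3
    obtain ⟨B, hB, hB2, hcard⟩ := hA3
    have hle : B.map A.subtype ≤ E := by
      rintro _ ⟨x, hx, rfl⟩
      exact ⟨x.2, by rw [← map_mul, ← pow_two, hB2 x hx, map_one]⟩
    have hBc : Nat.card B ≤ Nat.card E :=
      (card_map_of_injective (K := B) A.subtype_injective).symm.le.trans (card_le_of_le hle)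
    obtain ⟨k, hk⟩ := IsPGroup.iff_card.1 (S.isPGroup'.to_subgroup E)
    rw [hk] at hBc ⊢
    exact le_trans (by norm_num : 8 ≤ 2 ^ 3) (Nat.pow_le_pow_right two_pos
      ((Nat.pow_lt_pow_iff_right one_lt_two).1 (hcard.trans_le hBc)))
  have hrank : ¬ Cfsg.PRankLE 2 2 G := by
    intro h
    have h1 := h (E.map (S : Subgroup G).subtype) ⟨⟨fun x y => by
      obtain ⟨_, u, hu, rfl⟩ := x
      obtain ⟨_, v, hv, rfl⟩ := y
      exact Subtype.ext (congrArg Subtype.val (hAc u hu.1 v hv.1) :)⟩⟩ (by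
      rintro _ ⟨u, hu, rfl⟩
      rw [← map_pow, hE2 u hu, map_one])
    rw [card_map_of_injective (S : Subgroup G).subtype_injective] at h1
    omega
  have hO : Cfsg.oddCore G = ⊥ := by
    refine (IsSimpleGroup.eq_bot_or_eq_top_of_normal _ (Cores.pPrimeCore_normal 2 G)).resolve_right
      fun htop => hrank fun X _ hX2 => ?_
    have hodd : (Nat.card G).Coprime 2 := by
      rw [← Subgroup.card_top (G := G), ← htop]
      exact Cores.coprime_card_pPrimeCore 2
    have hX : X = ⊥ := (eq_bot_iff_forall X).2 fun x hx => orderOf_eq_one_iff.1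
      (Nat.eq_one_of_dvd_coprimes hodd (orderOf_dvd_natCard x) (orderOf_dvd_of_pow_eq_one (hX2 x hx)))
    rw [hX, Subgroup.card_bot]
    norm_num
  exact fun t ht => Cfsg.Agent.S1291.result hbal hO hrank
    (Or.inr ⟨S, Cfsg.Agent.S0502.result S.isPGroup' E hEc hE2 hE8⟩) t ht

end Cfsg.Agent.S3111
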