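import Cfsg.Statements.S3112
import Cfsg.Agent.Lib.CoreKilling.EquivariantWrap

set_option autoImplicit false
open Cfsg

namespace Cfsg.Agent.S3112

/-- Let G be a finite group with no nontrivial normal subgroup of odd order, some Sylow 2-subgroup of which has a self-centralizing abelian normal subgroup of 2-rank at least 3. Let θ assign to each element a of G a subgroup θ(a), equivariantly (θ(g a g⁻¹) is the conjugate of θ(a) by g, for all g and a), in such a way that for every abelian 2-subgroup A of G of 2-rank at least 3 the restriction of θ to A is an A-signalizer functor (for the prime 2). Then θ(a) = 1 for every involution a lying in some abelian 2-subgroup of 2-rank at least 3. -/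
theorem result {G : Type*} [Group G] [Finite G] (hO : Cfsg.oddCore G = ⊥)
    (S : Sylow 2 G) (A : Subgroup ↥(S : Subgroup G)) (hAn : A.Normal) (hAab : IsMulCommutative ↥A)
    (hAC : Subgroup.centralizer (A : Set ↥(S : Subgroup G)) = A) (hA3 : ¬ Cfsg.PRankLE 2 2 ↥A)
    (θ : G → Subgroup G) (heq : ∀ (g a : G), θ (g * a * g⁻¹) = (θ a).map (MulAut.conj g).toMonoidHom)
    (hθ : ∀ B : Subgroup G, IsMulCommutative ↥B → IsPGroup 2 ↥B → ¬ Cfsg.PRankLE 2 2 ↥B → Cfsg.IsSignalizerFunctor 2 B θ) :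
    ∀ B : Subgroup G, IsMulCommutative ↥B → IsPGroup 2 ↥B → ¬ Cfsg.PRankLE 2 2 ↥B → ∀ a ∈ B, orderOf a = 2 → θ a = ⊥ := by
  intro _ _ _ _ a _ ha
  open Subgroup in
  haveI : Fact (Nat.Prime 2) := ⟨Nat.prime_two⟩
  have hAc : ∀ x ∈ A, ∀ y ∈ A, x * y = y * x := fun x hx y hy =>
    Cfsg.Agent.Signalizer.commute_of_isMulCommutative hAab hx hy
  let E : Subgroup ↥(S : Subgroup G) :=
    { carrier := {x | x ∈ A ∧ x * x = 1}
      one_mem' := ⟨A.one_mem, one_mul 1⟩
      mul_mem' := fun {x y} hx hy => ⟨A.mul_mem hx.1 hy.1, by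
        calc x * y * (x * y) = x * (y * x) * y := by group
          _ = x * (x * y) * y := by rw [hAc y hy.1 x hx.1]
          _ = (x * x) * (y * y) := by group
          _ = 1 := by rw [hx.2, hy.2, one_mul]⟩
      inv_mem' := fun {x} hx => ⟨A.inv_mem hx.1, by rw [← mul_inv_rev, hx.2, inv_one]⟩ }
  have hEn : ∀ g, ∀ x ∈ E, g * x * g⁻¹ ∈ E := fun g x hx => ⟨hAn.conj_mem x hx.1 g, by
    calc g * x * g⁻¹ * (g * x * g⁻¹) = g * (x * x) * g⁻¹ := by group
      _ = 1 := by rw [hx.2]; group⟩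
  have hE8 : 8 ≤ Nat.card E := by
    unfold Cfsg.PRankLE at hA3
    push Not at hA3
    obtain ⟨B, hB, hB2, hcard⟩ := hA3
    have hle : B.map A.subtype ≤ E := by
      rintro _ ⟨x, hx, rfl⟩
      exact ⟨x.2, by rw [← map_mul, ← pow_two, hB2 x hx, map_one]⟩
    have hBc : Nat.card B ≤ Nat.card E :=
      (Subgroup.card_map_of_injective (K := B) A.subtype_injective).symm.le.trans
        (Subgroup.card_le_of_le hle)
    obtain ⟨k, hk⟩ := IsPGroup.iff_card.1 (S.isPGroup'.to_subgroup E)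
    rw [hk] at hBc ⊢
    exact le_trans (by norm_num : 8 ≤ 2 ^ 3) (Nat.pow_le_pow_right two_pos
      ((Nat.pow_lt_pow_iff_right one_lt_two).1 (hcard.trans_le hBc)))
  refine Cfsg.Agent.CoreKilling.theta_bot_of_normal_rank_three (S := S) heq
    (fun F hF hF3 => hθ F hF.1 (Cfsg.Agent.Signalizer.isPGroup_of_elemAb hF) fun h => ?_)
    (B := E.map (S : Subgroup G).subtype)
    ⟨⟨⟨fun x y => by
      obtain ⟨_, u, hu, rfl⟩ := x
      obtain ⟨_, v, hv, rfl⟩ := y
      exact Subtype.ext (congrArg Subtype.val (hAc u hu.1 v hv.1) :)⟩⟩, ?_⟩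
    (by rw [Subgroup.card_map_of_injective (S : Subgroup G).subtype_injective]; exact hE8)
    (Subgroup.map_subtype_le E) ?_ hO ha
  · have h1 := h ⊤ ⟨⟨fun x y => Subtype.ext (Subtype.ext
      (Cfsg.Agent.Signalizer.commute_of_isMulCommutative hF.1 x.1.2 y.1.2))⟩⟩
      (fun x _ => Subtype.ext (hF.2 x x.2))
    rw [Subgroup.card_top] at h1
    omega
  · rintro _ ⟨u, hu, rfl⟩
    rw [← map_pow, pow_two, hu.2, map_one]
  · rintro s hs _ ⟨u, hu, rfl⟩
    exact ⟨_, hEn ⟨s, hs⟩ u hu, rfl⟩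

end Cfsg.Agent.S3112
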