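import Cfsg.Statements.S3117
import Cfsg.Agent.Lib.ThreeInvol.Main
-- import your own Cfsg.Agent.* helpers here

set_option autoImplicit false
open Cfsg

namespace Cfsg.Agent.S3117

/-- If X is a finite 2-group containing exactly three involutions, then the automorphism group of X is solvable. -/
theorem result {X : Type*} [Group X] [Finite X] (h2 : IsPGroup 2 X) (h3 : Nat.card {x : X // orderOf x = 2} = 3) : Group.IsSolvable (MulAut X) := by
  classical
  refine ThreeInvol.isSolvable_mulAut_of_four_squareRoots h2 ?_
  rw [show (4 : ℕ) = Nat.card (Option {x : X // orderOf x = 2}) by rw [Finite.card_option, h3]]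
  refine Nat.card_le_card_of_injective (fun x => if h : x.1 = 1 then none else
    some ⟨x.1, orderOf_eq_prime x.2 h⟩) fun a b hab => ?_
  by_cases ha : a.1 = 1 <;> by_cases hb : b.1 = 1 <;> simp [ha, hb] at hab
  · exact Subtype.ext (ha.trans hb.symm)
  · exact Subtype.ext hab

end Cfsg.Agent.S3117
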