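import Cfsg.Statements.S3144
import Cfsg.Agent.Lib.O8Standard.Main
import Cfsg.Agent.S2098

set_option autoImplicit false
open Cfsg

namespace Cfsg.Agent.S3144

/-- Let G be a finite group with no nontrivial normal subgroup of odd order and L a standard subgroup of G which is a double cover of the simple orthogonal group PΩ⁺ of dimension 8 over the field with 2 elements (the centre of L has order 2 and L modulo its centre is isomorphic to that group), and suppose the centralizer of L in G has cyclic Sylow 2-subgroups. Then L is normal in G. -/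
theorem result {G : Type*} [Group G] [Finite G] (hO : Cfsg.oddCore G = ⊥) (L : Subgroup G) (hL : Cfsg.IsStandardSubgroup L)
    {F : Type*} [Field F] [Fintype F] (hF : Fintype.card F = 2)
    (hZ : Nat.card ↥(Subgroup.center ↥L) = 2) (hLX : Nonempty ((↥L ⧸ Subgroup.center ↥L) ≃* Cfsg.POmega F (Cfsg.quadFormPlus 4 F)))
    (hR : ∀ R : Sylow 2 ↥(Subgroup.centralizer (L : Set G)), IsCyclic ↥(R : Subgroup ↥(Subgroup.centralizer (L : Set G)))) :
    L.Normal := by
  haveI : CharP F 2 := by
    obtain ⟨p, hc⟩ := CharP.exists F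
    obtain ⟨n, hp, hn⟩ := FiniteField.card F p
    rw [hF] at hn
    have : p = 2 := (Nat.prime_dvd_prime_iff_eq hp Nat.prime_two).1 (hn ▸ dvd_pow_self p n.ne_zero)
    exact this ▸ hc
  obtain ⟨e0⟩ := Cfsg.Agent.S2098.exists_equiv (ZMod.ringEquiv F hF)
  obtain ⟨eL⟩ := hLX
  let q : ↥L →* Cfsg.Agent.Multiplier.O8.G0 :=
    (eL.trans e0.symm).toMonoidHom.comp (QuotientGroup.mk' (Subgroup.center ↥L))
  have hker : q.ker = Subgroup.center ↥L := by
    ext x
    rw [MonoidHom.mem_ker, show q x = (eL.trans e0.symm) (QuotientGroup.mk x) from rfl, MulEquiv.map_eq_one_iff,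
      QuotientGroup.eq_one_iff]
  have hperf : commutator ↥L = ⊤ := by
    refine Subgroup.map_injective L.subtype_injective ?_
    rw [commutator_def, Subgroup.map_commutator, ← MonoidHom.range_eq_map, Subgroup.range_subtype]
    exact Subgroup.isPerfect_iff.1 hL.1.1
  have hstem : Cfsg.IsStemExtension q :=
    ⟨(eL.trans e0.symm).surjective.comp (QuotientGroup.mk'_surjective _), hker.le,
      fun x _ => hperf ▸ Subgroup.mem_top x⟩
  obtain ⟨e⟩ := Cfsg.Agent.O8Standard.exists_iso_M1 hstem (by rw [hker]; exact hZ)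
  classical
  let ι : Cfsg.Agent.Multiplier.O8.Z8ˣ → G := fun a =>
    if h : a ∈ Cfsg.Agent.O8Standard.M1 then ((e ⟨a, h⟩ : ↥L) : G) else 1
  have hι : ∀ a (ha : a ∈ Cfsg.Agent.O8Standard.M1), ι a = ((e ⟨a, ha⟩ : ↥L) : G) :=
    fun a ha => dif_pos ha
  refine Cfsg.Agent.O8Standard.Setting.normal_of_setting (ι := ι) ⟨?_, ?_, ?_, hL, hR⟩ hO
  · intro a ha b hb
    rw [hι a ha, hι b hb, hι _ (mul_mem ha hb), ← Subgroup.coe_mul, ← map_mul]
    rfl
  · intro a ha b hb h
    rw [hι a ha, hι b hb] at h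
    exact congrArg Subtype.val (e.injective (Subtype.ext h))
  · intro x
    refine ⟨fun hx => ⟨_, (e.symm ⟨x, hx⟩).2, ?_⟩, fun ⟨a, ha, h⟩ => h ▸ hι a ha ▸ (e ⟨a, ha⟩).2⟩
    rw [hι _ (e.symm ⟨x, hx⟩).2]
    exact congrArg Subtype.val (e.apply_symm_apply ⟨x, hx⟩)

end Cfsg.Agent.S3144
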