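import Cfsg.Statements.S3149
import Cfsg.Agent.EqLemmas
import Cfsg.Agent.Lib.RuMinimal.Group
import Cfsg.Agent.Lib.RuStandard.Main

set_option autoImplicit false
open Cfsg

namespace Cfsg.Agent.S3149

/-- Let G be a finite group with no nontrivial normal subgroup of odd order and A a standard subgroup of G which is a double cover of the Rudvalis group (the centre of A has order 2 and A modulo its centre is isomorphic to the Rudvalis group). If the centralizer of A in G has cyclic Sylow 2-subgroups, then A is normal in G. -/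
theorem result {G : Type*} [Group G] [Finite G] (hO : Cfsg.oddCore G = ⊥) (A : Subgroup G) (hA : Cfsg.IsStandardSubgroup A)
    (hZ : Nat.card ↥(Subgroup.center ↥A) = 2) (hAX : Cfsg.Spor.IsoRu (↥A ⧸ Subgroup.center ↥A))
    (hR : ∀ R : Sylow 2 ↥(Subgroup.centralizer (A : Set G)), IsCyclic ↥(R : Subgroup ↥(Subgroup.centralizer (A : Set G)))) : A.Normal := by
  obtain ⟨e⟩ := hAX
  have hperf : Group.IsPerfect ↥A := hA.1.1
  let σ : ↥A →* Cfsg.Agent.RuPerm.rud :=
    (e.trans Cfsg.Agent.RuMin.ruEquiv).toMonoidHom.comp (QuotientGroup.mk' (Subgroup.center ↥A))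
  have hker : σ.ker = Subgroup.center ↥A := by
    ext x
    simp [σ, MonoidHom.mem_ker]
  obtain ⟨z, hz, hz1⟩ : ∃ z ∈ Subgroup.center ↥A, z ≠ 1 := by
    obtain ⟨⟨z, hz⟩, h⟩ : ∃ z : Subgroup.center ↥A, z ≠ 1 :=
      haveI := Finite.one_lt_card_iff_nontrivial.1 (by omega : 1 < Nat.card ↥(Subgroup.center ↥A))
      exists_ne 1
    exact ⟨z, hz, fun h' => h (Subtype.ext h')⟩
  refine Cfsg.Agent.RuStandard.normal_of_standard hO hA (σ := σ) (zA := z) ?_ hker hR
  refine ⟨⟨(e.trans Cfsg.Agent.RuMin.ruEquiv).surjective.comp (QuotientGroup.mk'_surjective _), hker.le, ?_⟩,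
    by rw [hker, hZ], MonoidHom.mem_ker.1 (hker.ge hz), hz1⟩
  rw [Group.isPerfect_def.1 hperf]
  exact le_top

end Cfsg.Agent.S3149
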