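import Cfsg.Statements.S3153
import Cfsg.Agent.Lib.StdElem.Basic
import Cfsg.Agent.Lib.Cores.Basic

set_option autoImplicit false
open Cfsg

namespace Cfsg.Agent.S3153

/-- Let X be a finite group and P a standard subgroup of X whose centralizer has 2-rank at most 1 and whose centre has odd order. Let S be a Sylow 2-subgroup of N_X(P) and t an involution of S centralizing P. Suppose some element g of X normalizes S, does not lie in S, has its square in S, and conjugates t into P·C_X(P). Then P commutes elementwise with the largest normal odd-order subgroup O(X) of X; consequently every t-invariant 2-component of X containing P is quasisimple. -/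
theorem result {X : Type*} [Group X] [Finite X] (P : Subgroup X) (hP : Cfsg.IsStandardSubgroup P)
    (hr : Cfsg.PRankLE 2 1 ↥(Subgroup.centralizer (P : Set X))) (hZ : Odd (Nat.card ↥(Subgroup.center ↥P)))
    (S : Sylow 2 ↥(Subgroup.normalizer (P : Set X))) (t : X) (ht : orderOf t = 2) (htS : t ∈ (S : Subgroup ↥(Subgroup.normalizer (P : Set X))).map (Subgroup.normalizer (P : Set X)).subtype)
    (htP : t ∈ Subgroup.centralizer (P : Set X))
    (g : X) (hgN : ∀ s ∈ (S : Subgroup ↥(Subgroup.normalizer (P : Set X))).map (Subgroup.normalizer (P : Set X)).subtype, g * s * g⁻¹ ∈ (S : Subgroup ↥(Subgroup.normalizer (P : Set X))).map (Subgroup.normalizer (P : Set X)).subtype)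
    (hgS : g ∉ (S : Subgroup ↥(Subgroup.normalizer (P : Set X))).map (Subgroup.normalizer (P : Set X)).subtype) (hg2 : g ^ 2 ∈ (S : Subgroup ↥(Subgroup.normalizer (P : Set X))).map (Subgroup.normalizer (P : Set X)).subtype)
    (hgt : g * t * g⁻¹ ∈ P ⊔ Subgroup.centralizer (P : Set X)) :
    ⁅P, Cfsg.oddCore X⁆ = ⊥ ∧
      ∀ L : Subgroup X, Cfsg.IsPComponent 2 L → P ≤ L → (∀ l ∈ L, t * l * t⁻¹ ∈ L) → Cfsg.IsQuasisimple ↥L := by
  haveI : Fact (Nat.Prime 2) := ⟨Nat.prime_two⟩
  have hG : ∀ {g k : X}, k ∈ Subgroup.centralizer ({g} : Set X) ↔ k * g = g * k :=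
    Subgroup.mem_centralizer_singleton_iff
  set C := Subgroup.centralizer (P : Set X) with hCdef
  set S' := (S : Subgroup ↥(Subgroup.normalizer (P : Set X))).map (Subgroup.normalizer (P : Set X)).subtype with hS'def
  have ht2 : t * t = 1 := by rw [← pow_two, ← ht]; exact pow_orderOf_eq_one t
  have hti : t⁻¹ = t := inv_eq_of_mul_eq_one_left ht2
  have hS'2 : IsPGroup 2 ↥S' := S.isPGroup'.map (Subgroup.normalizer (P : Set X)).subtype
  have huniq : ∀ z ∈ C, z * z = 1 → z ≠ 1 → z * t = t * z → z = t := by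
    intro z hz hz2 hz1 hzt
    have := StdElem.eq_of_prankLE_one (G := ↥C) hr (z := ⟨z, hz⟩) (t := ⟨t, htP⟩)
      (by rw [Subgroup.orderOf_mk]; exact orderOf_eq_prime (by rw [pow_two]; exact hz2) hz1)
      (by rw [Subgroup.orderOf_mk]; exact ht) (Subtype.ext hzt)
    exact congrArg Subtype.val this
  -- `t` is central in `S`
  have hCN : C ≤ (Subgroup.normalizer (P : Set X)) := Subgroup.centralizer_le_normalizer _
  have hNC : (Subgroup.normalizer (P : Set X)) = Subgroup.normalizer (C : Set X) := hP.2.2.2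
  have hQ : ∀ s ∈ S', ∀ q ∈ S' ⊓ C, s * q * s⁻¹ ∈ S' ⊓ C := by
    intro s hs q hq
    refine ⟨S'.mul_mem (S'.mul_mem hs hq.1) (S'.inv_mem hs), ?_⟩
    have hsN : s ∈ Subgroup.normalizer (C : Set X) := hNC ▸ Subgroup.map_subtype_le _ hs
    exact (Subgroup.mem_normalizer_iff.mp hsN q).mp hq.2
  have hQ2 : IsPGroup 2 ↥(S' ⊓ C) := hS'2.to_le inf_le_left
  have hQt : ∀ q ∈ S' ⊓ C, q * q = 1 → q ≠ 1 → q = t := by
    -- the centre of `S ∩ C` holds an involution
    haveI : Nontrivial ↥(S' ⊓ C) := by
      rw [Subgroup.nontrivial_iff_ne_bot]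
      intro e
      have : t ∈ (⊥ : Subgroup X) := e ▸ ⟨htS, htP⟩
      rw [Subgroup.mem_bot] at this
      rw [this] at ht; simp at ht
    haveI := hQ2.center_nontrivial
    obtain ⟨k, hk⟩ := (hQ2.to_subgroup (Subgroup.center ↥(S' ⊓ C))).exists_card_eq
    have hd : 2 ∣ Nat.card ↥(Subgroup.center ↥(S' ⊓ C)) := by
      rcases k with _ | k
      · have := Finite.one_lt_card (α := ↥(Subgroup.center ↥(S' ⊓ C)))
        rw [pow_zero] at hk
        omega
      · exact hk ▸ dvd_pow_self 2 (Nat.succ_ne_zero k)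
    obtain ⟨w, hw⟩ := exists_prime_orderOf_dvd_card' 2 hd
    rw [← Subgroup.orderOf_coe, ← Subgroup.orderOf_coe] at hw
    have hwt : ((w : ↥(S' ⊓ C)) : X) = t := by
      refine huniq _ w.1.2.2 (by rw [← pow_two, ← hw]; exact pow_orderOf_eq_one _) ?_
        (congrArg Subtype.val (Subgroup.mem_center_iff.mp w.2 ⟨t, htS, htP⟩)).symm
      intro e
      rw [e] at hw; simp at hw
    intro q hq hq2 hq1
    refine huniq q hq.2 hq2 hq1 ?_
    rw [← hwt]
    exact congrArg Subtype.val (Subgroup.mem_center_iff.mp w.2 ⟨q, hq⟩)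
  have htc : ∀ s ∈ S', s * t = t * s := by
    intro s hs
    refine mul_inv_eq_iff_eq_mul.mp (hQt _ (hQ s hs t ⟨htS, htP⟩) ?_ ?_)
    · calc s * t * s⁻¹ * (s * t * s⁻¹) = s * (t * t) * s⁻¹ := by group
        _ = 1 := by rw [ht2]; group
    · intro e
      rw [conj_eq_one_iff] at e
      rw [e] at ht; simp at ht
  -- `g` moves `t`
  have hgN' : g ∉ (Subgroup.normalizer (P : Set X)) := by
    intro hgn
    have hm : (⟨g, hgn⟩ : ↥(Subgroup.normalizer (P : Set X))) ∈ Subgroup.normalizer ((S : Subgroup ↥(Subgroup.normalizer (P : Set X))) : Set ↥(Subgroup.normalizer (P : Set X))) := by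
      rw [Subgroup.mem_normalizer_iff_map_conj_eq]
      refine Subgroup.eq_of_le_of_card_ge ?_ (Subgroup.card_map_of_injective (MulAut.conj (⟨g, hgn⟩ : ↥(Subgroup.normalizer (P : Set X)))).injective).ge
      rintro _ ⟨s, hs, rfl⟩
      obtain ⟨w, hw, hwe⟩ := hgN s ⟨s, hs, rfl⟩
      have : w = (⟨g, hgn⟩ : ↥(Subgroup.normalizer (P : Set X))) * s * (⟨g, hgn⟩ : ↥(Subgroup.normalizer (P : Set X)))⁻¹ := Subtype.ext hwe
      show (⟨g, hgn⟩ : ↥(Subgroup.normalizer (P : Set X))) * s * (⟨g, hgn⟩ : ↥(Subgroup.normalizer (P : Set X)))⁻¹ ∈ (S : Subgroup ↥(Subgroup.normalizer (P : Set X)))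
      rw [← this]; exact hw
    obtain ⟨w, hw, hwe⟩ := hg2
    have hw' : w = (⟨g, hgn⟩ : ↥(Subgroup.normalizer (P : Set X))) ^ 2 := Subtype.ext hwe
    have hp : IsPGroup 2 ↥(Subgroup.zpowers (⟨g, hgn⟩ : ↥(Subgroup.normalizer (P : Set X)))) := by
      obtain ⟨k, hk⟩ := S.isPGroup' ⟨w, hw⟩
      have hk' := congrArg Subtype.val hk
      rw [SubmonoidClass.coe_pow, OneMemClass.coe_one] at hk'
      change w ^ 2 ^ k = 1 at hk'
      rw [hw', ← pow_mul, ← pow_succ'] at hk'
      obtain ⟨i, _, hi⟩ := (Nat.dvd_prime_pow Nat.prime_two).mp (orderOf_dvd_of_pow_eq_one hk')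
      exact IsPGroup.of_card (n := i) (by rw [Nat.card_zpowers, hi])
    have hle := S.is_maximal' (hp.to_sup_of_normal_right' S.isPGroup' (Subgroup.zpowers_le.mpr hm)) le_sup_right
    exact hgS ⟨_, hle.le (Subgroup.mem_sup_left (Subgroup.mem_zpowers _)), rfl⟩
  have hne : g * t * g⁻¹ ≠ t := by
    intro e
    exact hgN' (StdElem.centralizer_le_normalizer_of_standard hP ht htP (hG.mpr (mul_inv_eq_iff_eq_mul.mp e)))
  obtain ⟨t', ht'⟩ : ∃ t', g * t * g⁻¹ = t' := ⟨_, rfl⟩
  rw [ht'] at hgt hne
  have ht't : t' * t = t * t' := htc t' (ht' ▸ hgN t htS)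
  have ht'2 : t' * t' = 1 := by
    rw [← ht']
    calc g * t * g⁻¹ * (g * t * g⁻¹) = g * (t * t) * g⁻¹ := by group
      _ = 1 := by rw [ht2]; group
  have ht'1 : t' ≠ 1 := by
    intro e
    rw [← ht', conj_eq_one_iff] at e
    rw [e] at ht; simp at ht
  -- write it as `p` or `p t`
  obtain ⟨p₀, hp₀, c₀, hc₀, hpc⟩ : ∃ p ∈ P, ∃ c ∈ C, p * c = t' := by
    have := hgt
    rw [← SetLike.mem_coe, Subgroup.coe_mul_of_right_le_normalizer_left _ _ hCN] at this
    exact this
  obtain ⟨p, hp, hp2, hp1, hcase⟩ : ∃ p ∈ P, p * p = 1 ∧ p ≠ 1 ∧ (t' = p ∨ t' = p * t) := by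
    have hcomm : Commute p₀ c₀ := hc₀ p₀ hp₀
    obtain ⟨i, hi⟩ := hZ
    set k := 2 * i + 1
    have hw : c₀ * c₀ ∈ (Subgroup.center ↥P).map P.subtype := by
      rw [Components.center_map_subtype]
      refine ⟨?_, C.mul_mem hc₀ hc₀⟩
      have h1 : c₀ * c₀ = (p₀ * p₀)⁻¹ := by
        rw [eq_inv_iff_mul_eq_one]
        have h' := ht'2
        rw [← hpc] at h'
        calc c₀ * c₀ * (p₀ * p₀) = p₀ * c₀ * (p₀ * c₀) := by
              rw [← pow_two, ← pow_two, ← pow_two, hcomm.mul_pow, (hcomm.pow_pow 2 2).eq]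
          _ = 1 := h'
      rw [h1]; exact P.inv_mem (P.mul_mem hp₀ hp₀)
    have hck : (c₀ * c₀) ^ k = 1 := by
      obtain ⟨z, hz, hze⟩ := hw
      have := congrArg Subtype.val (pow_card_eq_one' (x := (⟨z, hz⟩ : ↥(Subgroup.center ↥P))))
      rw [SubmonoidClass.coe_pow, OneMemClass.coe_one, hi] at this
      rw [← hze, ← map_pow, this, map_one]
    set c := c₀ ^ k
    set q := p₀ ^ k
    have hc2 : c * c = 1 := by rw [← (Commute.refl c₀).mul_pow]; exact hck
    have hqc : q * c = t' := by
      rw [← hcomm.mul_pow, hpc, show k = 2 * i + 1 from rfl, pow_succ, pow_mul, pow_two, ht'2, one_pow, one_mul]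
    have hq : q ∈ P := pow_mem hp₀ k
    have hqt : q * t = t * q := htP q hq
    have hct : c * t = t * c := by
      have e : c = q⁻¹ * t' := by rw [← hqc]; group
      have hqt' : Commute q⁻¹ t := (show Commute q t from hqt).inv_left
      rw [e, mul_assoc, ht't, ← mul_assoc, hqt'.eq, mul_assoc]
    have hc : c ∈ C := pow_mem hc₀ k
    have hq2 : q * q = 1 := by
      have h' := ht'2
      rw [← hqc, ← pow_two, (hcomm.pow_pow k k).mul_pow, pow_two, pow_two, hc2, mul_one] at h'
      exact h'
    by_cases hc1 : c = 1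
    · rw [hc1, mul_one] at hqc
      exact ⟨q, hq, hq2, hqc ▸ ht'1, Or.inl hqc.symm⟩
    · rw [huniq c hc hc2 hc1 hct] at hqc
      refine ⟨q, hq, hq2, ?_, Or.inr hqc.symm⟩
      rintro e
      rw [e, one_mul] at hqc
      exact hne hqc.symm
  have hpt : p * t = t * p := htP p hp
  have hPP : ⁅P, P⁆ = P := Subgroup.isPerfect_iff.mp hP.1.1
  have hpC : p ∉ C := by
    intro h
    have hm : p ∈ (Subgroup.center ↥P).map P.subtype := by
      rw [Components.center_map_subtype]; exact ⟨hp, h⟩
    obtain ⟨z, hz, hze⟩ := hm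
    have hd := orderOf_dvd_natCard (⟨z, hz⟩ : ↥(Subgroup.center ↥P))
    rw [Subgroup.orderOf_mk, ← Subgroup.orderOf_coe, show (z : X) = p from hze,
      orderOf_eq_prime (by rw [pow_two]; exact hp2) hp1] at hd
    exact (Nat.not_even_iff_odd.mpr hZ) (even_iff_two_dvd.mpr hd)
  -- the odd core
  set O := Cfsg.oddCore X
  haveI hOn : O.Normal := Cfsg.pPrimeCore_normal 2 X
  have hOodd : Odd (Nat.card ↥O) := by
    rw [Nat.odd_iff, ← Nat.two_dvd_ne_zero]
    exact Cores.not_dvd_card_pPrimeCore (G := X) (p := 2)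
  have hPO : ¬ P ≤ O := by
    intro h
    have hd := orderOf_dvd_natCard (⟨p, h hp⟩ : ↥O)
    rw [Subgroup.orderOf_mk, orderOf_eq_prime (by rw [pow_two]; exact hp2) hp1] at hd
    exact (Nat.not_even_iff_odd.mpr hOodd) (even_iff_two_dvd.mpr hd)
  have hW := StdElem.commutator_eq_bot_of_standard hP (N := O) hPO ht htP
  have conjfix : ∀ u x : X, u * u = 1 → (u * x * u = x ↔ x * u = u * x) := by
    intro u x hu
    constructor
    · intro h
      calc x * u = (u * x * u) * u := by rw [h]
        _ = u * x * (u * u) := by group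
        _ = u * x := by rw [hu, mul_one]
    · intro h
      rw [← h, mul_assoc, hu, mul_one]
  have hfixp : ∀ x ∈ O, t * x * t = x → p * x * p = x := fun x hx hxt =>
    (conjfix p x hp2).mpr (hW ⟨hx, hG.mpr ((conjfix t x ht2).mp hxt)⟩ p hp).symm
  have hfix' : ∀ x ∈ O, t' * x * t' = x → t * x * t = x := by
    let W := O ⊓ Subgroup.centralizer ({t} : Set X)
    let W' := O ⊓ Subgroup.centralizer ({t'} : Set X)
    have hle : W ≤ W' := by
      intro w hw
      refine ⟨hw.1, hG.mpr ?_⟩
      have h1 : w * p = p * w := (hW hw p hp).symm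
      rcases hcase with h | h <;> rw [h]
      · exact h1
      · rw [← mul_assoc, h1, mul_assoc, hG.mp hw.2, ← mul_assoc]
    have hcard : Nat.card ↥W' ≤ Nat.card ↥W := by
      rw [← Subgroup.card_map_of_injective (K := W') (f := (MulAut.conj g⁻¹).toMonoidHom) (MulAut.conj g⁻¹).injective]
      refine Subgroup.card_le_of_le ?_
      rintro _ ⟨w, hw, rfl⟩
      refine ⟨hOn.conj_mem w hw.1 g⁻¹, hG.mpr ?_⟩
      show g⁻¹ * w * g⁻¹⁻¹ * t = t * (g⁻¹ * w * g⁻¹⁻¹)
      calc g⁻¹ * w * g⁻¹⁻¹ * t = g⁻¹ * (w * (g * t * g⁻¹)) * g := by group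
        _ = g⁻¹ * ((g * t * g⁻¹) * w) * g := by rw [ht', hG.mp hw.2]
        _ = t * (g⁻¹ * w * g⁻¹⁻¹) := by group
    have heq : W = W' := Subgroup.eq_of_le_of_card_ge hle hcard
    intro x hx hxt
    have : x ∈ W := heq ▸ ⟨hx, hG.mpr ((conjfix t' x ht'2).mp hxt)⟩
    exact (conjfix t x ht2).mpr (hG.mp this.2)
  have conjO : ∀ u : X, u * u = 1 → ∀ x ∈ O, u * x * u ∈ O := by
    intro u hu x hx
    have := hOn.conj_mem x hx u
    rwa [inv_eq_of_mul_eq_one_left hu] at this
  -- an element of `P`, outside the centre, acting trivially on `O`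
  set K := P ⊓ Subgroup.centralizer (O : Set X)
  have hK : ∀ x ∈ P, p * x * p⁻¹ * x⁻¹ ∈ K := by
    intro x hx
    refine ⟨P.mul_mem (P.mul_mem (P.mul_mem hp hx) (P.inv_mem hp)) (P.inv_mem hx), ?_⟩
    rcases hcase with h | h
    · -- `p t` centralises `O`
      have hpt2 : p * t * (p * t) = 1 := by
        calc p * t * (p * t) = p * (t * p) * t := by group
          _ = p * (p * t) * t := by rw [hpt]
          _ = (p * p) * (t * t) := by group
          _ = 1 := by rw [hp2, ht2, one_mul]
      have hf := StdElem.centralizes_of_fixed hOodd ht2 hpt2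
        (by rw [mul_assoc p t t, ← mul_assoc t p t, ← hpt, mul_assoc p t t])
        (conjO t ht2) (conjO _ hpt2)
        (fun o ho hot => by
          calc p * t * o * (p * t) = p * t * o * (t * p) := by rw [← hpt]
            _ = p * (t * o * t) * p := by group
            _ = o := by rw [hot, hfixp o ho hot])
        (fun o ho hot => by
          refine hfix' o ho ?_
          rw [h]
          have e : p * t * (t * o * t) * (p * t) = p * o * p := by
            calc p * t * (t * o * t) * (p * t) = p * (t * t) * o * t * (p * t) := by group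
              _ = p * (t * t) * o * t * (t * p) := by rw [hpt]
              _ = p * (t * t) * o * (t * t) * p := by group
              _ = p * o * p := by rw [ht2]; group
          rwa [e] at hot)
      have hm : p * t ∈ Subgroup.centralizer (O : Set X) := fun o ho => (conjfix _ o hpt2).mp (hf o ho)
      have hxt : x * t = t * x := htP x hx
      have e : p * x * p⁻¹ * x⁻¹ = p * t * (x * (p * t)⁻¹ * x⁻¹) := by
        calc p * x * p⁻¹ * x⁻¹ = p * (x * t) * t⁻¹ * p⁻¹ * x⁻¹ := by group
          _ = p * (t * x) * t⁻¹ * p⁻¹ * x⁻¹ := by rw [hxt]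
          _ = p * t * (x * (p * t)⁻¹ * x⁻¹) := by group
      rw [e]
      exact mul_mem hm ((inferInstance : (Subgroup.centralizer (O : Set X)).Normal).conj_mem _ (inv_mem hm) x)
    · have hf := StdElem.centralizes_of_fixed hOodd ht2 hp2 hpt (conjO t ht2) (conjO p hp2) hfixp
        (fun o ho hot => by
          refine hfix' o ho ?_
          rw [h]
          calc p * t * o * (p * t) = p * t * o * (t * p) := by rw [hpt]
            _ = p * (t * o * t) * p := by group
            _ = o := hot)
      have hm : p ∈ Subgroup.centralizer (O : Set X) := fun o ho => (conjfix _ o hp2).mp (hf o ho)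
      rw [show p * x * p⁻¹ * x⁻¹ = p * (x * p⁻¹ * x⁻¹) by group]
      exact mul_mem hm ((inferInstance : (Subgroup.centralizer (O : Set X)).Normal).conj_mem _ (inv_mem hm) x)
  have hPK : P ≤ Subgroup.centralizer (O : Set X) := by
    haveI : ((Subgroup.centralizer (O : Set X)).subgroupOf P).Normal := Subgroup.normal_subgroupOf
    rcases Components.IsQuasisimple.normal_eq_top_or_le_center hP.1 ((Subgroup.centralizer (O : Set X)).subgroupOf P) with h | h
    · exact Subgroup.subgroupOf_eq_top.mp h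
    exfalso
    apply hpC
    have hle : ⁅Subgroup.zpowers p, P⁆ ≤ C := by
      rw [Subgroup.commutator_le]
      intro q hq x hx
      have hq' : q = 1 ∨ q = p := by
        obtain ⟨i, rfl⟩ := hq
        rcases Int.even_or_odd i with ⟨m, hm⟩ | ⟨m, hm⟩
        · left; show p ^ i = 1; rw [hm, ← two_mul, zpow_mul, zpow_ofNat, pow_two, hp2, one_zpow]
        · right; show p ^ i = p; rw [hm, zpow_add, zpow_mul, zpow_ofNat, pow_two, hp2, one_zpow, one_mul, zpow_one]
      rcases hq' with rfl | rfl
      · simp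
      · intro z hz
        have hk := hK x hx
        exact congrArg Subtype.val (Subgroup.mem_center_iff.mp (h (show (⟨_, hk.1⟩ : ↥P) ∈ (Subgroup.centralizer (O : Set X)).subgroupOf P from hk.2)) ⟨z, hz⟩)
    rw [Subgroup.commutator_comm] at hle
    have h0 := Components.commutator_eq_bot_of_perfect hPP (Subgroup.commutator_eq_bot_iff_le_centralizer.mpr hle)
    rw [Subgroup.commutator_comm] at h0
    exact Subgroup.commutator_eq_bot_iff_le_centralizer.mp h0 (Subgroup.mem_zpowers p)
  refine ⟨Subgroup.commutator_eq_bot_iff_le_centralizer.mpr hPK, ?_⟩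
  intro L hL hPL _
  set π := QuotientGroup.mk' O with hπ
  have hker : ∀ A : Subgroup X, A.map π = ⊥ ↔ A ≤ O := fun A => by
    rw [Subgroup.map_eq_bot_iff, hπ, QuotientGroup.ker_mk']
  set Lb := L.map π
  have hq := hL.2.1.2
  have hLb : ⁅Lb, Lb⁆ = Lb := Subgroup.isPerfect_iff.mp hq.1
  have hsub : ∀ A : Subgroup X, A ≤ L → (A.subgroupOf L).Normal → A = L ∨ ⁅A.map π, Lb⁆ = ⊥ := by
    intro A hA hAn
    have hAb : A.map π ≤ Lb := Subgroup.map_mono hA
    have hn : ((A.map π).subgroupOf Lb).Normal := by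
      refine (Subgroup.normal_subgroupOf_iff_le_normalizer hAb).mpr ?_
      exact (Subgroup.map_mono ((Subgroup.normal_subgroupOf_iff_le_normalizer hA).mp hAn)).trans (Subgroup.le_normalizer_map π)
    rcases Components.IsQuasisimple.normal_eq_top_or_le_center hq ((A.map π).subgroupOf Lb) with h | h
    · left
      have hAs : A.IsSubnormal := by
        have h1 : ((A.subgroupOf L).map L.subtype).IsSubnormal := hAn.isSubnormal.trans' hL.1
        rwa [Subgroup.map_subgroupOf_eq_of_le hA] at h1
      exact hL.2.2 A hAs hA (le_antisymm hAb (Subgroup.subgroupOf_eq_top.mp h))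
    · right
      have := Components.le_center_iff_commutator_eq_bot.mp h
      rwa [Subgroup.map_subgroupOf_eq_of_le hAb] at this
  have hLO : L ≤ Subgroup.centralizer (O : Set X) := by
    rcases hsub (Subgroup.centralizer (O : Set X) ⊓ L) inf_le_right
      (by rw [Subgroup.inf_subgroupOf_right]; exact Subgroup.normal_subgroupOf) with h | h
    · exact h.ge.trans inf_le_left
    exfalso
    apply hPO
    rw [← hker, ← hPP, Subgroup.map_commutator, ← le_bot_iff]
    exact h ▸ Subgroup.commutator_mono (Subgroup.map_mono (le_inf hPK hPL)) (Subgroup.map_mono hPL)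
  have hLL : ⁅L, L⁆ = L := by
    have hn : (⁅L, L⁆.subgroupOf L).Normal := by
      refine (Subgroup.normal_subgroupOf_iff_le_normalizer (Subgroup.commutator_le_self L)).mpr ?_
      intro x hx
      rw [Subgroup.mem_normalizer_iff_map_conj_eq]
      refine Eq.trans (Subgroup.map_commutator _ _ _) ?_
      exact congrArg₂ _ (Subgroup.mem_normalizer_iff_map_conj_eq.mp (Subgroup.le_normalizer hx))
        (Subgroup.mem_normalizer_iff_map_conj_eq.mp (Subgroup.le_normalizer hx))
    rcases hsub _ (Subgroup.commutator_le_self L) hn with h | h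
    · exact h
    exfalso
    have : Lb = ⊥ := by
      rw [Subgroup.map_commutator, hLb, hLb] at h
      exact h
    exact hPO (((hker L).mp this) |> fun h' => hPL.trans h')
  haveI : Group.IsPerfect ↥L := Subgroup.isPerfect_iff.mpr hLL
  haveI : Nontrivial ↥L := (Subgroup.nontrivial_iff_ne_bot L).mpr fun e => hp1 (by
    have := hPL hp; rwa [e, Subgroup.mem_bot] at this)
  refine Components.isQuasisimple_of_normal_le_center fun A hA => ?_
  rcases hsub (A.map L.subtype) (Subgroup.map_subtype_le A)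
    (by rwa [Subgroup.subgroupOf, Subgroup.comap_map_eq_self_of_injective (Subgroup.subtype_injective _)]) with h | h
  · left
    refine Subgroup.map_injective (Subgroup.subtype_injective L) (h.trans ?_)
    rw [← MonoidHom.range_eq_map, Subgroup.range_subtype]
  · right
    rw [← Subgroup.map_commutator, hker] at h
    rw [Components.le_center_iff_commutator_eq_bot, Subgroup.commutator_comm]
    refine Components.commutator_eq_bot_of_perfect hLL (Subgroup.commutator_eq_bot_iff_le_centralizer.mpr ?_)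
    rw [Subgroup.commutator_comm]
    exact h.trans (Subgroup.le_centralizer_iff.mp hLO)

end Cfsg.Agent.S3153
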