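import Cfsg.Statements.S3154
import Cfsg.Agent.Lib.Solvable.Gaschutz
import Cfsg.Agent.Lib.GLOrder.Two

set_option autoImplicit false
open Cfsg

namespace Cfsg.Agent.S3154

open Matrix in
/-- Upper unitriangular matrices, by coordinates. -/
def uM {F : Type*} [Field F] (a b c : F) : Matrix.SpecialLinearGroup (Fin 3) F :=
  ⟨!![1, a, c; 0, 1, b; 0, 0, 1], by simp [Matrix.det_fin_three]⟩

section L

variable {F : Type*} [Field F]

local notation "SL3" => Matrix.SpecialLinearGroup (Fin 3) F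
local notation "L3" => Matrix.ProjectiveSpecialLinearGroup (Fin 3) F

theorem uM_mul (a b c a' b' c' : F) :
    uM a b c * uM a' b' c' = uM (a + a') (b + b') (c + c' + a * b') := by
  ext i j
  fin_cases i <;> fin_cases j <;>
    simp only [Matrix.SpecialLinearGroup.coe_mul] <;>
    simp [uM, Matrix.mul_apply, Fin.sum_univ_three] <;> ring

theorem uM_zero : uM (0 : F) 0 0 = 1 := by
  ext i j
  fin_cases i <;> fin_cases j <;> simp [uM, Matrix.one_apply]

/-- The upper unitriangular subgroup. -/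
def U3 : Subgroup SL3 where
  carrier := {g | ∃ a b c : F, g = uM a b c}
  one_mem' := ⟨0, 0, 0, uM_zero.symm⟩
  mul_mem' := by
    rintro _ _ ⟨a, b, c, rfl⟩ ⟨a', b', c', rfl⟩; exact ⟨_, _, _, uM_mul _ _ _ _ _ _⟩
  inv_mem' := by
    rintro _ ⟨a, b, c, rfl⟩
    refine ⟨-a, -b, -c + a * b, inv_eq_of_mul_eq_one_right ?_⟩
    rw [uM_mul, ← uM_zero]; congr 1 <;> ring

/-- The first row subgroup. -/
def A3 : Subgroup SL3 where
  carrier := {g | ∃ a c : F, g = uM a 0 c}
  one_mem' := ⟨0, 0, uM_zero.symm⟩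
  mul_mem' := by
    rintro _ _ ⟨a, c, rfl⟩ ⟨a', c', rfl⟩; exact ⟨a + a', c + c', by rw [uM_mul]; congr 1 <;> ring⟩
  inv_mem' := by
    rintro _ ⟨a, c, rfl⟩
    refine ⟨-a, -c, inv_eq_of_mul_eq_one_right ?_⟩
    rw [uM_mul, ← uM_zero]; congr 1 <;> ring

/-- The last column subgroup. -/
def B3 : Subgroup SL3 where
  carrier := {g | ∃ b c : F, g = uM 0 b c}
  one_mem' := ⟨0, 0, uM_zero.symm⟩
  mul_mem' := by
    rintro _ _ ⟨b, c, rfl⟩ ⟨b', c', rfl⟩; exact ⟨b + b', c + c', by rw [uM_mul]; congr 1 <;> ring⟩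
  inv_mem' := by
    rintro _ ⟨b, c, rfl⟩
    refine ⟨-b, -c, inv_eq_of_mul_eq_one_right ?_⟩
    rw [uM_mul, ← uM_zero]; congr 1 <;> ring

/-- The projection. -/
abbrev pr : SL3 →* L3 := QuotientGroup.mk' (Subgroup.center _)

theorem pr_uM_inj {a b c a' b' c' : F} (h : pr (uM a b c) = pr (uM a' b' c')) :
    a = a' ∧ b = b' ∧ c = c' := by
  obtain ⟨z, hz, he⟩ := (QuotientGroup.mk'_eq_mk' _).1 h
  obtain ⟨r, -, hr⟩ := Matrix.SpecialLinearGroup.mem_center_iff.1 hz
  have he' := congrArg (fun g : SL3 => (g : Matrix (Fin 3) (Fin 3) F)) he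
  simp only [Matrix.SpecialLinearGroup.coe_mul, ← hr, Matrix.scalar_apply,
    Matrix.mul_diagonal] at he'
  have e00 := congrFun (congrFun he' 0) 0
  have e01 := congrFun (congrFun he' 0) 1
  have e12 := congrFun (congrFun he' 1) 2
  have e02 := congrFun (congrFun he' 0) 2
  simp [uM, Matrix.mul_diagonal] at e00 e01 e12 e02
  subst e00
  simp at e01 e12 e02
  exact ⟨e01, e12, e02⟩

variable [Fintype F]

theorem card_U3 (hF : Fintype.card F = 4) :
    Nat.card ((U3 : Subgroup SL3).map pr) = 64 := by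
  have e : F × F × F ≃ ((U3 : Subgroup SL3).map pr) :=
    Equiv.ofBijective (fun p => ⟨pr (uM p.1 p.2.1 p.2.2), _, ⟨_, _, _, rfl⟩, rfl⟩) ⟨fun p p' h => by
      obtain ⟨h1, h2, h3⟩ := pr_uM_inj (congrArg Subtype.val h)
      exact Prod.ext h1 (Prod.ext h2 h3), by
      rintro ⟨_, _, ⟨a, b, c, rfl⟩, rfl⟩; exact ⟨⟨a, b, c⟩, rfl⟩⟩
  rw [← Nat.card_congr e, Nat.card_prod, Nat.card_prod, Nat.card_eq_fintype_card, hF]

theorem card_A3 (hF : Fintype.card F = 4) : Nat.card ((A3 : Subgroup SL3).map pr) = 16 := by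
  have e : F × F ≃ ((A3 : Subgroup SL3).map pr) :=
    Equiv.ofBijective (fun p => ⟨pr (uM p.1 0 p.2), _, ⟨_, _, rfl⟩, rfl⟩) ⟨fun p p' h => by
      obtain ⟨h1, -, h3⟩ := pr_uM_inj (congrArg Subtype.val h)
      exact Prod.ext h1 h3, by rintro ⟨_, _, ⟨a, c, rfl⟩, rfl⟩; exact ⟨⟨a, c⟩, rfl⟩⟩
  rw [← Nat.card_congr e, Nat.card_prod, Nat.card_eq_fintype_card, hF]

theorem card_B3 (hF : Fintype.card F = 4) : Nat.card ((B3 : Subgroup SL3).map pr) = 16 := by
  have e : F × F ≃ ((B3 : Subgroup SL3).map pr) :=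
    Equiv.ofBijective (fun p => ⟨pr (uM 0 p.1 p.2), _, ⟨_, _, rfl⟩, rfl⟩) ⟨fun p p' h => by
      obtain ⟨-, h2, h3⟩ := pr_uM_inj (congrArg Subtype.val h)
      exact Prod.ext h2 h3, by rintro ⟨_, _, ⟨b, c, rfl⟩, rfl⟩; exact ⟨⟨b, c⟩, rfl⟩⟩
  rw [← Nat.card_congr e, Nat.card_prod, Nat.card_eq_fintype_card, hF]

theorem four_facts (hF : Fintype.card F = 4) :
    (2 : F) = 0 ∧ ∀ x : F, x ^ 4 = x := by
  refine ⟨?_, fun x => hF ▸ FiniteField.pow_card x⟩
  have h0 : ((2 : ℕ) : F) ^ 2 = 0 := by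
    rw [← Nat.cast_pow, show (2 : ℕ) ^ 2 = 4 from rfl, ← hF]; exact FiniteField.cast_card_eq_zero F
  exact_mod_cast eq_zero_of_pow_eq_zero h0

/-- The elementary subgroups of order 16 of the Sylow 2-subgroup. -/
theorem elementary_cases (hF : Fintype.card F = 4) (E : Subgroup L3)
    (hE : E ≤ (U3 : Subgroup SL3).map pr) (hexp : ∀ e ∈ E, e ^ 2 = 1) (hcard : Nat.card E = 16) :
    E = (A3 : Subgroup SL3).map pr ∨ E = (B3 : Subgroup SL3).map pr := by
  obtain ⟨h2, -⟩ := four_facts hF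
  have hmem : ∀ e ∈ E, e ∈ (A3 : Subgroup SL3).map pr ∨ e ∈ (B3 : Subgroup SL3).map pr := by
    intro e he
    obtain ⟨_, ⟨a, b, c, rfl⟩, rfl⟩ := hE he
    have h := hexp _ he
    rw [pow_two, ← map_mul, uM_mul, ← map_one pr, ← uM_zero] at h
    have h3 := (pr_uM_inj h).2.2
    have hab : a * b = 0 := by linear_combination h3 - c * h2
    rcases mul_eq_zero.1 hab with rfl | rfl
    · exact Or.inr ⟨_, ⟨b, c, rfl⟩, rfl⟩
    · exact Or.inl ⟨_, ⟨a, c, rfl⟩, rfl⟩
  by_cases hA : E ≤ (A3 : Subgroup SL3).map pr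
  · exact Or.inl (Subgroup.eq_of_le_of_card_ge hA (by rw [hcard, card_A3 hF]))
  · refine Or.inr (Subgroup.eq_of_le_of_card_ge ?_ (by rw [hcard, card_B3 hF]))
    obtain ⟨x, hx, hxA⟩ := Set.not_subset.1 hA
    intro y hy
    by_contra hyB
    have hyA := (hmem y hy).resolve_right hyB
    have hxB := (hmem x hx).resolve_left hxA
    rcases hmem _ (E.mul_mem hx hy) with h | h
    · exact hxA ((Subgroup.mul_mem_cancel_right _ hyA).1 h)
    · exact hyB ((Subgroup.mul_mem_cancel_left _ hxB).1 h)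

theorem A_inf_B : (A3 : Subgroup SL3).map pr ⊓ (B3 : Subgroup SL3).map pr ≤
    (A3 : Subgroup SL3).map pr := inf_le_left

theorem A_sup_B :
    (A3 : Subgroup SL3).map pr ⊔ (B3 : Subgroup SL3).map pr = (U3 : Subgroup SL3).map pr := by
  refine le_antisymm (sup_le (Subgroup.map_mono ?_) (Subgroup.map_mono ?_)) ?_
  · rintro _ ⟨a, c, rfl⟩; exact ⟨a, 0, c, rfl⟩
  · rintro _ ⟨b, c, rfl⟩; exact ⟨0, b, c, rfl⟩
  · rintro _ ⟨_, ⟨a, b, c, rfl⟩, rfl⟩
    rw [show uM a b c = uM 0 b c * uM a 0 0 by rw [uM_mul]; congr 1 <;> ring, map_mul]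
    exact Subgroup.mul_mem _ (Subgroup.mem_sup_right ⟨_, ⟨b, c, rfl⟩, rfl⟩)
      (Subgroup.mem_sup_left ⟨_, ⟨a, 0, rfl⟩, rfl⟩)

/-- Central elements of the Sylow 2-subgroup lie in both subgroups. -/
theorem central_mem (e : L3) (he : e ∈ (U3 : Subgroup SL3).map pr)
    (hc : ∀ u ∈ (U3 : Subgroup SL3).map pr, e * u = u * e) :
    e ∈ (A3 : Subgroup SL3).map pr ⊓ (B3 : Subgroup SL3).map pr := by
  obtain ⟨_, ⟨a, b, c, rfl⟩, rfl⟩ := he
  have h1 := hc _ ⟨_, ⟨1, 0, 0, rfl⟩, rfl⟩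
  have h2 := hc _ ⟨_, ⟨0, 1, 0, rfl⟩, rfl⟩
  rw [← map_mul, ← map_mul, uM_mul, uM_mul] at h1 h2
  have hb := (pr_uM_inj h1).2.2
  have ha := (pr_uM_inj h2).2.2
  simp at ha hb
  subst ha
  subst hb
  exact ⟨⟨_, ⟨0, c, rfl⟩, rfl⟩, ⟨_, ⟨0, c, rfl⟩, rfl⟩⟩

open Matrix in
/-- `diag(1, M)`. -/
def dM (M : Matrix.SpecialLinearGroup (Fin 2) F) : SL3 :=
  ⟨!![1, 0, 0; 0, M 0 0, M 0 1; 0, M 1 0, M 1 1], by
    have h := M.2
    rw [Matrix.det_fin_two] at h
    simp [Matrix.det_fin_three]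
    linear_combination h⟩

theorem uM_dM (M : Matrix.SpecialLinearGroup (Fin 2) F) (a c : F) :
    uM a 0 c * dM M = dM M * uM (a * M 0 0 + c * M 1 0) 0 (a * M 0 1 + c * M 1 1) := by
  ext i j
  fin_cases i <;> fin_cases j <;>
    simp only [Matrix.SpecialLinearGroup.coe_mul] <;>
    simp [uM, dM, Matrix.mul_apply, Fin.sum_univ_three]

/-- The normaliser of the first row subgroup acts transitively. -/
theorem A_trans (hF : Fintype.card F = 4) (v : L3) (hv : v ∈ (A3 : Subgroup SL3).map pr)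
    (hv1 : v ≠ 1) : ∃ g ∈ Subgroup.normalizer (((A3 : Subgroup SL3).map pr : Subgroup L3) : Set L3),
      g * pr (uM 1 0 0) * g⁻¹ = v := by
  obtain ⟨h2, -⟩ := four_facts hF
  obtain ⟨_, ⟨a, c, rfl⟩, rfl⟩ := hv
  obtain ⟨M, hM0, hM1⟩ : ∃ M : Matrix.SpecialLinearGroup (Fin 2) F, M 0 0 = a ∧ M 0 1 = c := by
    by_cases ha : a = 0
    · have hc : c ≠ 0 := fun hc => hv1 (by rw [ha, hc, uM_zero, map_one])
      refine ⟨⟨!![a, c; c⁻¹, 0], ?_⟩, by simp, by simp⟩
      rw [Matrix.det_fin_two_of, ha, mul_inv_cancel₀ hc]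
      linear_combination -h2
    · refine ⟨⟨!![a, c; 0, a⁻¹], ?_⟩, by simp, by simp⟩
      rw [Matrix.det_fin_two_of, mul_inv_cancel₀ ha, mul_zero, sub_zero]
  refine ⟨(pr (dM M))⁻¹, Subgroup.inv_mem _ ?_, ?_⟩
  · have hle : ((A3 : Subgroup SL3).map pr).map (MulAut.conj (pr (dM M))⁻¹).toMonoidHom ≤
        (A3 : Subgroup SL3).map pr := by
      rintro _ ⟨_, ⟨_, ⟨a', c', rfl⟩, rfl⟩, rfl⟩
      refine ⟨uM (a' * M 0 0 + c' * M 1 0) 0 (a' * M 0 1 + c' * M 1 1), ⟨_, _, rfl⟩, ?_⟩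
      change _ = (pr (dM M))⁻¹ * pr (uM a' 0 c') * ((pr (dM M))⁻¹)⁻¹
      rw [inv_inv, mul_assoc, ← map_mul, uM_dM, map_mul, inv_mul_cancel_left]
    have heq := Subgroup.eq_of_le_of_card_ge hle
      (Subgroup.card_map_of_injective (MulAut.conj (pr (dM M))⁻¹).injective).ge
    have : (pr (dM M))⁻¹ ∈
        Subgroup.normalizer (((A3 : Subgroup SL3).map pr : Subgroup L3) : Set L3) := by
      rw [Subgroup.mem_normalizer_iff_map_conj_eq]
      exact heq
    simpa using Subgroup.inv_mem _ this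
  · rw [inv_inv, mul_assoc, ← map_mul, uM_dM, map_mul, inv_mul_cancel_left, hM0, hM1]
    simp

theorem mem_parabolic (hF : Fintype.card F = 4) (g : SL3)
    (hg : pr g ∈ Subgroup.normalizer (((A3 : Subgroup SL3).map pr : Subgroup L3) : Set L3)) :
    g 1 0 = 0 ∧ g 2 0 = 0 := by
  obtain ⟨h2, -⟩ := four_facts hF
  obtain ⟨_, ⟨a, c, rfl⟩, he⟩ := (Subgroup.mem_normalizer_iff.1 hg (pr (uM 1 0 0))).1
    ⟨_, ⟨1, 0, rfl⟩, rfl⟩
  rw [← map_inv, ← map_mul, ← map_mul] at he
  obtain ⟨z, hz, hze⟩ := (QuotientGroup.mk'_eq_mk' _).1 he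
  obtain ⟨r, -, hr⟩ := Matrix.SpecialLinearGroup.mem_center_iff.1 hz
  have htr := congrArg (fun k : SL3 => (k : Matrix (Fin 3) (Fin 3) F).trace) hze
  have hr1 : r = 1 := by
    simp only [Matrix.SpecialLinearGroup.coe_mul] at htr
    rw [Matrix.trace_mul_comm ((g : Matrix (Fin 3) (Fin 3) F) * _), ← Matrix.mul_assoc,
      ← Matrix.SpecialLinearGroup.coe_mul g⁻¹ g, inv_mul_cancel, Matrix.SpecialLinearGroup.coe_one,
      Matrix.one_mul, ← hr] at htr
    simp [uM, Matrix.trace_fin_three, Matrix.mul_apply, Fin.sum_univ_three] at htr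
    linear_combination htr - (r - 1) * h2
  have hz1 : z = 1 := Subtype.ext (by rw [← hr, hr1]; simp)
  rw [hz1, mul_one] at hze
  have hze' : uM a 0 c * g = g * uM 1 0 0 := by rw [hze]; group
  have e1 := congrArg (fun k : SL3 => (k : Matrix (Fin 3) (Fin 3) F) 1 1) hze'
  have e2 := congrArg (fun k : SL3 => (k : Matrix (Fin 3) (Fin 3) F) 2 1) hze'
  simp only [Matrix.SpecialLinearGroup.coe_mul] at e1 e2
  simp [uM, Matrix.mul_apply, Fin.sum_univ_three] at e1 e2
  exact ⟨e1, e2⟩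

/-- The lower block of a parabolic element, scaled to determinant one. -/
def lower (h4 : ∀ x : F, x ^ 4 = x) (g : SL3) (h : g 1 0 = 0 ∧ g 2 0 = 0) :
    Matrix.SpecialLinearGroup (Fin 2) F :=
  ⟨((g 1 1 * g 2 2 - g 1 2 * g 2 1) ^ 2)⁻¹ • !![g 1 1, g 1 2; g 2 1, g 2 2], by
    have hd := g.2
    rw [Matrix.det_fin_three, h.1, h.2] at hd
    have hd0 : g 1 1 * g 2 2 - g 1 2 * g 2 1 ≠ 0 := fun h0 =>
      one_ne_zero (α := F) (by linear_combination -hd + g 0 0 * h0)
    rw [Matrix.det_smul, Matrix.det_fin_two_of, Fintype.card_fin, ← inv_pow, ← pow_mul,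
      show 2 * 2 = 4 from rfl, inv_pow, h4, inv_mul_cancel₀ hd0]⟩

/-- The map to `PSL₂(4)`. -/
theorem exists_levi (hF : Fintype.card F = 4) :
    ∃ f : ↥(Subgroup.normalizer (((A3 : Subgroup SL3).map pr : Subgroup L3) : Set L3)) →*
        Matrix.ProjectiveSpecialLinearGroup (Fin 2) F,
      Function.Surjective f ∧ ∀ g, f g = 1 ↔ (g : L3) ∈ (A3 : Subgroup SL3).map pr := by
  obtain ⟨h2, h4⟩ := four_facts hF
  set Nm := Subgroup.normalizer (((A3 : Subgroup SL3).map pr : Subgroup L3) : Set L3) with hNm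
  let P : Subgroup SL3 := Nm.comap pr
  have hP : ∀ g : P, g.1 1 0 = 0 ∧ g.1 2 0 = 0 := fun g => mem_parabolic hF g.1 g.2
  let φ : P →* Matrix.ProjectiveSpecialLinearGroup (Fin 2) F :=
    (QuotientGroup.mk' _).comp (MonoidHom.mk' (fun g => lower h4 g.1 (hP g)) fun g g' => by
      obtain ⟨g10, g20⟩ := hP g
      obtain ⟨g10', g20'⟩ := hP g'
      have e : ((g * g' : P) : SL3).1 = g.1.1 * g'.1.1 := rfl
      ext i j
      have hdet : ∀ a b c d a' b' c' d' : F,
          (a * a' + b * c') * (c * b' + d * d') - (a * b' + b * d') * (c * a' + d * c') =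
            (a * d - b * c) * (a' * d' - b' * c') := fun a b c d a' b' c' d' => by ring
      have hd : ∀ x y : F, ((x * y) ^ 2)⁻¹ = (x ^ 2)⁻¹ * (y ^ 2)⁻¹ := fun x y => by
        rw [mul_pow, mul_inv]
      fin_cases i <;> fin_cases j <;>
        simp only [Matrix.SpecialLinearGroup.coe_mul] <;>
        simp [lower, e, Matrix.mul_apply, Fin.sum_univ_three, Fin.sum_univ_two, g10, g20] <;>
        rw [hdet, hd] <;> ring)
  have hk : pr.ker.subgroupOf P ≤ φ.ker := by
    intro g hg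
    rw [Subgroup.mem_subgroupOf, QuotientGroup.ker_mk'] at hg
    obtain ⟨r, hr3, hr⟩ := Matrix.SpecialLinearGroup.mem_center_iff.1 hg
    rw [Fintype.card_fin] at hr3
    have hr0 : r ≠ 0 := fun h => by rw [h, zero_pow (by norm_num : (3 : ℕ) ≠ 0)] at hr3; exact zero_ne_one hr3
    rw [MonoidHom.mem_ker]
    refine (QuotientGroup.eq_one_iff _).2 ?_
    change lower h4 g.1 (hP g) ∈ Subgroup.center _
    rw [GLOrder.center_SL2]
    left
    have hentry : ∀ i j, g.1 i j = if i = j then r else 0 := fun i j => by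
      rw [show g.1 i j = (Matrix.scalar (Fin 3) r) i j by rw [hr], Matrix.scalar_apply,
        Matrix.diagonal_apply]
    ext i j
    fin_cases i <;> fin_cases j <;> simp [lower, hentry] <;> field_simp <;> first | linear_combination hr3 | linear_combination -hr3
  let pP : P →* Nm := (pr.comp P.subtype).codRestrict Nm fun g => g.2
  have hpP : Function.Surjective pP := by
    rintro ⟨x, hx⟩
    obtain ⟨g, rfl⟩ := QuotientGroup.mk'_surjective _ x
    exact ⟨⟨g, hx⟩, rfl⟩
  have hker : pP.ker ≤ φ.ker := fun g hg => hk (Subgroup.mem_subgroupOf.2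
    (MonoidHom.mem_ker.2 (congrArg Subtype.val (MonoidHom.mem_ker.1 hg))))
  let f := pP.liftOfSurjective hpP ⟨φ, hker⟩
  have hf : ∀ g : P, f (pP g) = φ g := fun g =>
    MonoidHom.liftOfRightInverse_comp_apply pP _ (Function.rightInverse_surjInv hpP) ⟨φ, hker⟩ g
  refine ⟨f, fun y => ?_, fun x => ?_⟩
  · obtain ⟨M, rfl⟩ := QuotientGroup.mk'_surjective _ y
    have hmem : dM M ∈ P := by
      change pr (dM M) ∈ Nm
      have hle : ((A3 : Subgroup SL3).map pr).map (MulAut.conj (pr (dM M))⁻¹).toMonoidHom ≤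
          (A3 : Subgroup SL3).map pr := by
        rintro _ ⟨_, ⟨_, ⟨a', c', rfl⟩, rfl⟩, rfl⟩
        refine ⟨uM (a' * M 0 0 + c' * M 1 0) 0 (a' * M 0 1 + c' * M 1 1), ⟨_, _, rfl⟩, ?_⟩
        change _ = (pr (dM M))⁻¹ * pr (uM a' 0 c') * ((pr (dM M))⁻¹)⁻¹
        rw [inv_inv, mul_assoc, ← map_mul, uM_dM, map_mul, inv_mul_cancel_left]
      have : (pr (dM M))⁻¹ ∈ Nm := by
        rw [hNm, Subgroup.mem_normalizer_iff_map_conj_eq]
        exact Subgroup.eq_of_le_of_card_ge hle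
          (Subgroup.card_map_of_injective (MulAut.conj (pr (dM M))⁻¹).injective).ge
      simpa using Subgroup.inv_mem _ this
    refine ⟨pP ⟨_, hmem⟩, (hf _).trans (congrArg (QuotientGroup.mk' _) ?_)⟩
    change lower h4 (dM M) (hP ⟨_, hmem⟩) = M
    have hM := M.2
    rw [Matrix.det_fin_two] at hM
    ext i j
    fin_cases i <;> fin_cases j <;> simp [lower, dM, hM, MonoidHom.mk'_apply]
  · obtain ⟨g, rfl⟩ := hpP x
    rw [hf]
    constructor
    · intro h
      have h' := (QuotientGroup.eq_one_iff _).1 h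
      change lower h4 g.1 (hP g) ∈ Subgroup.center _ at h'
      rw [GLOrder.center_SL2] at h'
      have hneg : (-1 : Matrix.SpecialLinearGroup (Fin 2) F) = 1 := by
        ext i j
        fin_cases i <;> fin_cases j <;> simp <;> linear_combination -h2
      rw [hneg, or_self] at h'
      obtain ⟨g10, g20⟩ := hP g
      have hd := g.1.2
      rw [Matrix.det_fin_three, g10, g20] at hd
      set d := g.1 1 1 * g.1 2 2 - g.1 1 2 * g.1 2 1 with hdd
      have hgd : g.1 0 0 * d = 1 := by rw [hdd]; linear_combination hd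
      have hd0 : d ≠ 0 := right_ne_zero_of_mul_eq_one hgd
      have e := fun i j => congrArg (fun k : Matrix.SpecialLinearGroup (Fin 2) F => k i j) h'
      have e00 := e 0 0
      have e01 := e 0 1
      have e10 := e 1 0
      have e11 := e 1 1
      simp [lower, ← hdd, hd0] at e00 e01 e10 e11
      have g11 : g.1 1 1 = d ^ 2 := by field_simp at e00; exact e00
      have g22 : g.1 2 2 = d ^ 2 := by field_simp at e11; exact e11
      have g00 : g.1 0 0 = d ^ 2 := by
        refine mul_right_cancel₀ hd0 (hgd.trans ?_)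
        refine mul_right_cancel₀ hd0 ?_
        linear_combination -(h4 d)
      have hd3 : d ^ 3 = 1 := mul_right_cancel₀ hd0 (by linear_combination h4 d)
      let sc : SL3 := ⟨Matrix.scalar (Fin 3) (d ^ 2), by
            rw [Matrix.scalar_apply, Matrix.det_diagonal, Fin.prod_univ_three]
            linear_combination (d ^ 3 + 1) * hd3⟩
      have hmem : (g : SL3) = uM (g.1 0 1 / d ^ 2) 0 (g.1 0 2 / d ^ 2) * sc := by
        ext i j
        fin_cases i <;> fin_cases j <;>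
          simp only [Matrix.SpecialLinearGroup.coe_mul] <;>
          simp [uM, sc, Matrix.scalar_apply, Matrix.mul_diagonal, g10, g20, g11, g22, g00, e01, e10, hd0]
      refine ⟨uM (g.1 0 1 / d ^ 2) 0 (g.1 0 2 / d ^ 2), ⟨_, _, rfl⟩, ?_⟩
      change pr _ = pr (g : SL3)
      conv_rhs => rw [hmem, map_mul]
      refine (mul_eq_left.2 ?_).symm
      exact (QuotientGroup.eq_one_iff _).2 (Matrix.SpecialLinearGroup.mem_center_iff.2
        ⟨d ^ 2, by rw [Fintype.card_fin]; linear_combination (d ^ 3 + 1) * hd3, rfl⟩)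
    · rintro ⟨_, ⟨a, c, rfl⟩, he⟩
      have hu : uM a 0 c ∈ P := by
        change pr (uM a 0 c) ∈ Nm
        exact Subgroup.le_normalizer ⟨_, ⟨a, c, rfl⟩, rfl⟩
      have : pP g = pP ⟨_, hu⟩ := Subtype.ext he.symm
      rw [← hf, this, hf]
      refine (QuotientGroup.eq_one_iff _).2 ?_
      change lower h4 (uM a 0 c) (hP ⟨_, hu⟩) ∈ Subgroup.center _
      rw [GLOrder.center_SL2]
      left
      ext i j
      fin_cases i <;> fin_cases j <;> simp [lower, uM]

open Matrix in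
/-- The graph automorphism exchanges the two subgroups. -/
theorem exists_graph (hF : Fintype.card F = 4) :
    ∃ θ : L3 →* L3, Function.Bijective θ ∧
      ((U3 : Subgroup SL3).map pr).map θ = (U3 : Subgroup SL3).map pr ∧
      ((B3 : Subgroup SL3).map pr).map θ = (A3 : Subgroup SL3).map pr ∧
      ((A3 : Subgroup SL3).map pr).map θ = (B3 : Subgroup SL3).map pr := by
  obtain ⟨h2, -⟩ := four_facts hF
  let w : SL3 := ⟨!![0, 0, 1; 0, 1, 0; 1, 0, 0], by
    simp [Matrix.det_fin_three]; linear_combination -h2⟩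
  let it : SL3 →* SL3 := MonoidHom.mk'
    (fun g => ⟨((g⁻¹ : SL3) : Matrix (Fin 3) (Fin 3) F)ᵀ, by rw [Matrix.det_transpose]; exact (g⁻¹).2⟩)
    fun g h => Subtype.ext (by
      change ((g * h)⁻¹ : SL3).1ᵀ = (g⁻¹ : SL3).1ᵀ * (h⁻¹ : SL3).1ᵀ
      rw [_root_.mul_inv_rev, Matrix.SpecialLinearGroup.coe_mul, Matrix.transpose_mul])
  have hit : ∀ g, it (it g) = g := fun g => Subtype.ext (by
    change ((it g)⁻¹ : SL3).1ᵀ = g.1
    rw [← map_inv]
    change ((g⁻¹⁻¹ : SL3).1ᵀ)ᵀ = g.1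
    rw [inv_inv, Matrix.transpose_transpose])
  let t : SL3 ≃* SL3 :=
    ({ toFun := it, invFun := it, left_inv := hit, right_inv := hit,
       map_mul' := map_mul it } : SL3 ≃* SL3).trans (MulAut.conj w)
  have hc : (Subgroup.center SL3).map (t : SL3 →* SL3) = Subgroup.center SL3 :=
    Subgroup.characteristic_iff_map_eq.1 inferInstance t
  let θ : L3 ≃* L3 := QuotientGroup.congr (Subgroup.center SL3) (Subgroup.center SL3) t hc
  have key : ∀ a b c : F, θ (pr (uM a b c)) = pr (uM b a (c + a * b)) := by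
    intro a b c
    change pr (w * it (uM a b c) * w⁻¹) = _
    congr 1
    rw [mul_inv_eq_iff_eq_mul]
    have hinv : (uM a b c)⁻¹ = uM a b (c + a * b) := inv_eq_of_mul_eq_one_right (by
      rw [uM_mul, ← uM_zero]
      congr 1 <;> [linear_combination a * h2; linear_combination b * h2;
        linear_combination (c + a * b) * h2])
    apply Subtype.ext
    rw [Matrix.SpecialLinearGroup.coe_mul, Matrix.SpecialLinearGroup.coe_mul]
    change (w : Matrix (Fin 3) (Fin 3) F) * ((uM a b c)⁻¹ : SL3).1ᵀ = _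
    rw [hinv]
    ext i j
    fin_cases i <;> fin_cases j <;> simp [w, uM, Matrix.mul_apply, Fin.sum_univ_three]
  have hU : ((U3 : Subgroup SL3).map pr).map θ.toMonoidHom ≤ (U3 : Subgroup SL3).map pr := by
    rintro _ ⟨_, ⟨_, ⟨a, b, c, rfl⟩, rfl⟩, rfl⟩
    exact ⟨_, ⟨_, _, _, rfl⟩, (key a b c).symm⟩
  have hB : ((B3 : Subgroup SL3).map pr).map θ.toMonoidHom ≤ (A3 : Subgroup SL3).map pr := by
    rintro _ ⟨_, ⟨_, ⟨b, c, rfl⟩, rfl⟩, rfl⟩
    exact ⟨_, ⟨b, c + 0 * b, rfl⟩, (key 0 b c).symm⟩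
  have hA : ((A3 : Subgroup SL3).map pr).map θ.toMonoidHom ≤ (B3 : Subgroup SL3).map pr := by
    rintro _ ⟨_, ⟨_, ⟨a, c, rfl⟩, rfl⟩, rfl⟩
    exact ⟨_, ⟨a, c + a * 0, rfl⟩, (key a 0 c).symm⟩
  exact ⟨θ.toMonoidHom, θ.bijective,
    Subgroup.eq_of_le_of_card_ge hU (Subgroup.card_map_of_injective θ.injective).ge,
    Subgroup.eq_of_le_of_card_ge hB (((card_A3 hF).trans (card_B3 hF).symm).le.trans
      (Subgroup.card_map_of_injective θ.injective).ge),
    Subgroup.eq_of_le_of_card_ge hA (((card_B3 hF).trans (card_A3 hF).symm).le.trans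
      (Subgroup.card_map_of_injective θ.injective).ge)⟩

end L

/-- A central extension of exponent two with constant squares off the centre is elementary abelian. -/
theorem elementary_of_const {X : Type*} [Group X] [Finite X] (Z H : Subgroup X) (hZH : Z ≤ H)
    (hZ : ∀ z ∈ Z, z * z = 1) (hZc : ∀ z ∈ Z, ∀ x : X, z * x = x * z)
    (hcard : 4 * Nat.card Z < Nat.card H) (hsq : ∀ h ∈ H, h * h ∈ Z)
    (c : X) (hc : ∀ h ∈ H, h ∉ Z → h * h = c) : Cfsg.IsElementaryAbelian 2 H := by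
  classical
  have := Fintype.ofFinite X
  -- an element of `H` avoiding few cosets
  have havoid : ∀ S : Finset X, S.card ≤ 4 → ∃ g ∈ H, ∀ a ∈ S, a * g ∉ Z := by
    intro S hS
    by_contra hcon
    push Not at hcon
    have hsub : (Finset.univ.filter fun g => g ∈ H) ⊆
        S.biUnion fun a => (Finset.univ.filter fun g => g ∈ Z).image fun z => a⁻¹ * z := by
      intro g hg
      obtain ⟨a, ha, haz⟩ := hcon g (Finset.mem_filter.1 hg).2
      exact Finset.mem_biUnion.2 ⟨a, ha, Finset.mem_image.2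
        ⟨a * g, Finset.mem_filter.2 ⟨Finset.mem_univ _, haz⟩, inv_mul_cancel_left a g⟩⟩
    have h1 := (Finset.card_le_card hsub).trans (Finset.card_biUnion_le_card_mul _ _ (Nat.card Z)
      fun a _ => Finset.card_image_le.trans (le_of_eq (by
        rw [← Fintype.card_subtype, Nat.card_eq_fintype_card])))
    rw [← Fintype.card_subtype, ← Nat.card_eq_fintype_card] at h1
    have h2 : S.card * Nat.card Z ≤ 4 * Nat.card Z := Nat.mul_le_mul_right _ hS
    omega
  obtain ⟨u, hu, hu'⟩ := havoid {1} (by simp)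
  have huZ : u ∉ Z := by simpa using hu'
  have hcc : c * c = 1 := by rw [← hc u hu huZ]; exact hZ _ (hsq u hu)
  have hcx : ∀ w : X, c * w = w * c := fun w => by rw [← hc u hu huZ]; exact hZc _ (hsq u hu) w
  have hcomm : ∀ x ∈ H, ∀ y ∈ H, x ∉ Z → y ∉ Z → x * y ∉ Z → y * x = c * (x * y) := by
    intro x hx y hy hxZ hyZ hxy
    have e3 := hc _ (H.mul_mem hx hy) hxy
    have ex : x⁻¹ = c * x := inv_eq_of_mul_eq_one_right (by
      rw [← mul_assoc, ← hcx x, mul_assoc, hc x hx hxZ, hcc])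
    have ey : y⁻¹ = c * y := inv_eq_of_mul_eq_one_right (by
      rw [← mul_assoc, ← hcx y, mul_assoc, hc y hy hyZ, hcc])
    calc y * x = x⁻¹ * (x * y * (x * y)) * y⁻¹ := by group
      _ = (c * x) * c * (c * y) := by rw [e3, ex, ey]
      _ = c * x * (c * c) * y := by group
      _ = c * (x * y) := by rw [hcc]; group
  obtain ⟨v, hv, hv'⟩ := havoid {1, u} ((Finset.card_le_two).trans (by norm_num))
  obtain ⟨w, hw, hw'⟩ := havoid {1, u, v, u * v} ((Finset.card_insert_le _ _).trans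
    (Nat.add_le_add_right ((Finset.card_insert_le _ _).trans
      (Nat.add_le_add_right Finset.card_le_two 1)) 1))
  simp only [Finset.mem_insert, Finset.mem_singleton, forall_eq_or_imp, forall_eq, one_mul] at hv' hw'
  obtain ⟨hvZ, huv⟩ := hv'
  obtain ⟨hwZ, huw, hvw, huvw⟩ := hw'
  have e1 := hcomm u hu (v * w) (H.mul_mem hv hw) huZ hvw (by rwa [← mul_assoc])
  have e2 : v * w * u = u * v * w := by
    calc v * w * u = v * (w * u) := mul_assoc _ _ _
      _ = v * (c * (u * w)) := by rw [hcomm u hu w hw huZ hwZ huw]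
      _ = (v * c) * (u * w) := by group
      _ = c * (v * u) * w := by rw [← hcx v]; group
      _ = c * c * (u * v) * w := by rw [hcomm u hu v hv huZ hvZ huv]; group
      _ = u * v * w := by rw [hcc, one_mul]
  have hc1 : c = 1 := by
    rw [e2, ← mul_assoc u v w] at e1
    exact mul_eq_right.1 e1.symm
  refine ⟨⟨⟨fun a b => Subtype.ext ?_⟩⟩, fun a ha => ?_⟩
  · change (a : X) * b = b * a
    by_cases ha : (a : X) ∈ Z
    · exact hZc _ ha _
    by_cases hb : (b : X) ∈ Z
    · exact (hZc _ hb _).symm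
    by_cases hab : (a : X) * b ∈ Z
    · have h := hZc _ hab (a : X)
      rw [mul_assoc] at h
      exact (mul_left_cancel h).symm
    · rw [hcomm a a.2 b b.2 ha hb hab, hc1, one_mul]
  · rw [pow_two]
    by_cases haZ : a ∈ Z
    · exact hZ a haZ
    · rw [hc a ha haZ, hc1]

section Main

variable {X : Type*} [Group X] [Finite X] {F : Type*} [Field F] [Fintype F]

local notation "SL3" => Matrix.SpecialLinearGroup (Fin 3) F
local notation "L3" => Matrix.ProjectiveSpecialLinearGroup (Fin 3) F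

theorem elementary_side (hF : Fintype.card F = 4) (π : X →* L3) (hπ : Function.Surjective π)
    (hker : π.ker = Subgroup.center X) (hZ : ∀ z ∈ Subgroup.center X, z * z = 1)
    (H : Subgroup X) (hZH : Subgroup.center X ≤ H)
    (hH : H.map π = (A3 : Subgroup SL3).map pr) : Cfsg.IsElementaryAbelian 2 H := by
  obtain ⟨h2, -⟩ := four_facts hF
  have hHe : H = ((A3 : Subgroup SL3).map pr).comap π := by
    rw [← hH, Subgroup.comap_map_eq_self (hker ▸ hZH)]
  have hsq : ∀ h ∈ H, h * h ∈ Subgroup.center X := by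
    intro h hh
    rw [← hker, MonoidHom.mem_ker, map_mul]
    obtain ⟨_, ⟨a, c, rfl⟩, he⟩ := (hH ▸ Subgroup.mem_map_of_mem π hh : π h ∈ _)
    rw [← he, ← map_mul, uM_mul, ← map_one pr, ← uM_zero]
    congr 2 <;> [linear_combination a * h2; ring; linear_combination c * h2]
  obtain ⟨h₀, hh₀⟩ := hπ (pr (uM 1 0 0))
  refine elementary_of_const (Subgroup.center X) H hZH hZ
    (fun z hz x => (Subgroup.mem_center_iff.1 hz x).symm) ?_ hsq (h₀ * h₀) ?_
  · have h1 : Nat.card H = 16 * Nat.card (Subgroup.center X) := by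
      have h := (π.ker.subgroupOf H).card_mul_index
      rw [show (π.ker.subgroupOf H).index = π.ker.relIndex H from rfl, Subgroup.relIndex_ker, hH,
        card_A3 hF, Nat.card_congr (Subgroup.subgroupOfEquivOfLe (hker ▸ hZH)).toEquiv] at h
      rw [← h, hker, mul_comm]
    have hpos : 0 < Nat.card (Subgroup.center X) := Nat.card_pos
    omega
  · intro h hh hhZ
    have hπh : π h ∈ (A3 : Subgroup SL3).map pr := hH ▸ Subgroup.mem_map_of_mem π hh
    obtain ⟨g, hg, hgh⟩ := A_trans hF (π h) hπh (fun h1 => hhZ (hker ▸ MonoidHom.mem_ker.2 h1))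
    obtain ⟨x, rfl⟩ := hπ g
    have hz : (x * h₀ * x⁻¹)⁻¹ * h ∈ Subgroup.center X := by
      rw [← hker, MonoidHom.mem_ker, map_mul, map_inv, map_mul, map_mul, map_inv, hh₀, hgh,
        inv_mul_cancel]
    set z := (x * h₀ * x⁻¹)⁻¹ * h with hzdef
    have he : h = x * h₀ * x⁻¹ * z := (mul_inv_cancel_left _ _).symm
    have h0H : h₀ ∈ H := by
      rw [hHe, Subgroup.mem_comap, hh₀]; exact ⟨_, ⟨1, 0, rfl⟩, rfl⟩
    have hzc := Subgroup.mem_center_iff.1 hz
    calc h * h = x * h₀ * x⁻¹ * (z * (x * h₀ * x⁻¹)) * z := by rw [he]; group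
      _ = x * (h₀ * h₀) * x⁻¹ * (z * z) := by rw [← hzc]; group
      _ = h₀ * h₀ := by
          rw [hZ z hz, mul_one, Subgroup.mem_center_iff.1 (hsq h₀ h0H) x, mul_inv_cancel_right]

theorem exists_disjoint (K W : Subgroup X) (hK : Cfsg.IsElementaryAbelian 2 K) (hW : W ≤ K) :
    ∃ R ≤ K, W ⊓ R = ⊥ ∧ W ⊔ R = K := by
  obtain ⟨R, -, hR⟩ := Finite.exists_le_maximal (α := Subgroup X)
    (p := fun R => R ≤ K ∧ W ⊓ R = ⊥) (a := ⊥) ⟨bot_le, inf_bot_eq _⟩
  refine ⟨R, hR.1.1, hR.1.2, le_antisymm (sup_le hW hR.1.1) fun k hk => ?_⟩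
  by_contra hkn
  have hkk : k ^ 2 = 1 := hK.2 k hk
  have hzp : ∀ y ∈ Subgroup.zpowers k, y = 1 ∨ y = k := by
    intro y hy
    obtain ⟨m, rfl⟩ := Subgroup.mem_zpowers_iff.1 hy
    obtain ⟨j, rfl | rfl⟩ : ∃ j, m = 2 * j ∨ m = 2 * j + 1 := ⟨m / 2, by omega⟩
    · left; rw [zpow_mul, zpow_two, ← pow_two, hkk, one_zpow]
    · right; rw [zpow_add_one, zpow_mul, zpow_two, ← pow_two, hkk, one_zpow, one_mul]
  have hR' : R ⊔ Subgroup.zpowers k ≤ R := hR.2 ⟨sup_le hR.1.1 (Subgroup.zpowers_le.2 hk), by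
    rw [Subgroup.eq_bot_iff_forall]
    rintro y ⟨hyW, hyR⟩
    have hn : Subgroup.zpowers k ≤ Subgroup.normalizer (R : Set X) := by
      rw [Subgroup.zpowers_le]
      refine Subgroup.centralizer_le_normalizer _ fun r hr => ?_
      exact congrArg Subtype.val (hK.1.1.1 ⟨r, hR.1.1 hr⟩ ⟨k, hk⟩)
    have hyR' : y ∈ ((R ⊔ Subgroup.zpowers k : Subgroup X) : Set X) := hyR
    rw [Subgroup.coe_mul_of_right_le_normalizer_left R _ hn] at hyR'
    obtain ⟨r, hr, m, hm, rfl⟩ := hyR' 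
    rcases hzp m hm with hm1 | hm1 <;> subst m
    · have : r * 1 ∈ W ⊓ R := ⟨hyW, by rw [mul_one]; exact hr⟩
      rwa [hR.1.2, Subgroup.mem_bot] at this
    · refine absurd ?_ hkn
      have : k = r⁻¹ * (r * k) := (inv_mul_cancel_left r k).symm
      rw [this]
      exact Subgroup.mul_mem _ (Subgroup.mem_sup_right (R.inv_mem hr)) (Subgroup.mem_sup_left hyW)⟩
    le_sup_left
  exact hkn (Subgroup.mem_sup_right (hR' (Subgroup.mem_sup_right (Subgroup.mem_zpowers k))))

theorem complement_side (hF : Fintype.card F = 4) (π : X →* L3) (hπ : Function.Surjective π)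
    (hker : π.ker = Subgroup.center X) (T : Sylow 2 X)
    (H K : Subgroup X) (hHT : H ≤ T) (hKT : K ≤ T) (hZH : Subgroup.center X ≤ H)
    (hH : H.map π = (A3 : Subgroup SL3).map pr) (hK : K.map π = (B3 : Subgroup SL3).map pr)
    (hT : (T : Subgroup X).map π = (U3 : Subgroup SL3).map pr)
    (hHe : Cfsg.IsElementaryAbelian 2 H) (hKe : Cfsg.IsElementaryAbelian 2 K) :
    ∃ C : Subgroup X, C ≤ Subgroup.normalizer (H : Set X) ∧ C ⊓ H = ⊥ ∧
      H ⊔ C = Subgroup.normalizer (H : Set X) ∧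
      Nonempty (↥C ≃* Matrix.ProjectiveSpecialLinearGroup (Fin 2) F) := by
  classical
  set N := Subgroup.normalizer (H : Set X) with hN
  have hHcm : H = ((A3 : Subgroup SL3).map pr).comap π := by
    rw [← hH, Subgroup.comap_map_eq_self (hker ▸ hZH)]
  have hNcm : N = (Subgroup.normalizer (((A3 : Subgroup SL3).map pr : Subgroup L3) : Set L3)).comap π := by
    rw [hN, hHcm]
    exact (Subgroup.comap_normalizer_eq_of_surjective _ hπ).symm
  have hHN : H ≤ N := Subgroup.le_normalizer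
  have hTN : (T : Subgroup X) ≤ N := by
    intro t ht
    rw [hNcm, Subgroup.mem_comap]
    have htU : π t ∈ (U3 : Subgroup SL3).map pr := hT ▸ Subgroup.mem_map_of_mem π ht
    revert htU
    generalize π t = y
    rintro ⟨_, ⟨a, b, c, rfl⟩, rfl⟩
    have hle : ((A3 : Subgroup SL3).map pr).map (MulAut.conj (pr (uM a b c))).toMonoidHom ≤
        (A3 : Subgroup SL3).map pr := by
      rintro _ ⟨_, ⟨_, ⟨a', c', rfl⟩, rfl⟩, rfl⟩
      refine ⟨uM a' 0 (c' - a' * b), ⟨_, _, rfl⟩, ?_⟩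
      change _ = pr (uM a b c) * pr (uM a' 0 c') * (pr (uM a b c))⁻¹
      rw [eq_mul_inv_iff_mul_eq, ← map_mul, ← map_mul, uM_mul, uM_mul]
      congr 2 <;> ring
    rw [Subgroup.mem_normalizer_iff_map_conj_eq]
    exact Subgroup.eq_of_le_of_card_ge hle
      (Subgroup.card_map_of_injective (MulAut.conj (pr (uM a b c))).injective).ge
  obtain ⟨R, hRK, hdis, hsupR⟩ := exists_disjoint K (H ⊓ K) hKe inf_le_right
  have hHK : H ⊔ K = (T : Subgroup X) := by
    have h1 : (H ⊔ K).map π = (T : Subgroup X).map π := by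
      rw [Subgroup.map_sup, hH, hK, A_sup_B, hT]
    have h2 : Subgroup.center X ≤ (T : Subgroup X) := hZH.trans hHT
    rw [← Subgroup.comap_map_eq_self (hker ▸ (hZH.trans le_sup_left) : π.ker ≤ H ⊔ K), h1,
      Subgroup.comap_map_eq_self (hker ▸ h2)]
  have hHR : H ⊔ R = (T : Subgroup X) := by
    rw [← hHK]
    refine le_antisymm (sup_le_sup_left hRK H) (sup_le le_sup_left ?_)
    exact hsupR.ge.trans (sup_le (inf_le_left.trans le_sup_left) le_sup_right)
  have hHR0 : H ⊓ R = ⊥ := by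
    rw [← hdis]
    exact le_antisymm (le_inf (le_inf inf_le_left (inf_le_right.trans hRK)) inf_le_right)
      (le_inf (inf_le_left.trans inf_le_left) inf_le_right)
  -- Gaschütz
  have hn : (H.subgroupOf N).Normal := Subgroup.normal_in_normalizer
  have hHc : IsMulCommutative H := hHe.1
  have hab : IsMulCommutative (H.subgroupOf N) := ⟨⟨fun a b => by
    have ha := Subgroup.mem_subgroupOf.1 a.2
    have hb := Subgroup.mem_subgroupOf.1 b.2
    exact Subtype.ext (Subtype.ext (congrArg Subtype.val (hHc.1.1 ⟨_, ha⟩ ⟨_, hb⟩) :))⟩⟩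
  have hcop : (Nat.card (H.subgroupOf N)).Coprime ((T : Subgroup X).subgroupOf N).index := by
    rw [Nat.card_congr (Subgroup.subgroupOfEquivOfLe hHN).toEquiv]
    have : Fact (Nat.Prime 2) := ⟨Nat.prime_two⟩
    obtain ⟨k, hk⟩ := IsPGroup.iff_card.1 (T.isPGroup'.to_le hHT)
    rw [hk]
    refine Nat.Coprime.pow_left k ((Nat.Prime.coprime_iff_not_dvd Nat.prime_two).2 fun hd => ?_)
    exact T.not_dvd_index (hd.trans (Dvd.intro _ (Subgroup.relIndex_mul_index hTN)))
  obtain ⟨C', hC'⟩ := Solvable.gaschutz_exists (K := H.subgroupOf N)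
    (U := (T : Subgroup X).subgroupOf N) (Subgroup.comap_mono hHT) hcop
    (A := R.subgroupOf N) (by
      rw [Subgroup.eq_bot_iff_forall]
      rintro a ⟨haR, haH⟩
      have h := Subgroup.mem_bot.1 (hHR0.le (⟨haH, haR⟩ : (a : X) ∈ H ⊓ R))
      exact Subtype.ext h) (by
      rw [← Subgroup.subgroupOf_sup hHN (hRK.trans (hKT.trans hTN)), hHR])
  obtain ⟨f, hfs, hfk⟩ := exists_levi (F := F) hF
  let g : N →* Subgroup.normalizer (((A3 : Subgroup SL3).map pr : Subgroup L3) : Set L3) :=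
    (π.comp N.subtype).codRestrict _ fun n => Subgroup.mem_comap.1
      (hNcm.le n.2)
  have hgs : Function.Surjective g := by
    rintro ⟨y, hy⟩
    obtain ⟨x, rfl⟩ := hπ y
    exact ⟨⟨x, hNcm.ge hy⟩, rfl⟩
  have hker' : ∀ n : N, f (g n) = 1 ↔ n ∈ H.subgroupOf N := fun n => by
    rw [hfk, Subgroup.mem_subgroupOf]
    exact ⟨fun h => hHcm.ge h, fun h => hHcm.le h⟩
  refine ⟨C'.map N.subtype, Subgroup.map_subtype_le _, ?_, ?_, ⟨?_⟩⟩
  · rw [Subgroup.eq_bot_iff_forall]
    rintro _ ⟨⟨c, hc, rfl⟩, hcH⟩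
    have := hC'.disjoint.eq_bot
    have hmem : c ∈ H.subgroupOf N ⊓ C' := ⟨hcH, hc⟩
    rw [this, Subgroup.mem_bot] at hmem
    rw [hmem]; rfl
  · have h := congrArg (Subgroup.map N.subtype) hC'.sup_eq_top
    rw [Subgroup.map_sup, Subgroup.map_subgroupOf_eq_of_le hHN, ← MonoidHom.range_eq_map,
      Subgroup.range_subtype] at h
    exact h
  · let φ : C' →* Matrix.ProjectiveSpecialLinearGroup (Fin 2) F := (f.comp g).comp C'.subtype
    have hφi : Function.Injective φ := by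
      rw [injective_iff_map_eq_one]
      intro c hc
      have hcH := (hker' c.1).1 hc
      have hmem : c.1 ∈ H.subgroupOf N ⊓ C' := ⟨hcH, c.2⟩
      rw [hC'.disjoint.eq_bot, Subgroup.mem_bot] at hmem
      exact Subtype.ext hmem
    have hφs : Function.Surjective φ := fun y => by
      obtain ⟨n, hn'⟩ := (hfs.comp hgs) y
      have hmem : n ∈ H.subgroupOf N ⊔ C' := hC'.sup_eq_top ▸ Subgroup.mem_top n
      obtain ⟨h, hh, c, hc, rfl⟩ := Subgroup.mem_sup_of_normal_left.1 hmem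
      refine ⟨⟨c, hc⟩, ?_⟩
      change f (g c) = y
      rw [← hn', Function.comp_apply, map_mul, map_mul, (hker' h).2 hh, one_mul]
    exact (C'.equivMapOfInjective _ N.subtype_injective).symm.trans (MulEquiv.ofBijective φ ⟨hφi, hφs⟩)

end Main

/-- Let X be a finite quasisimple group whose centre is an elementary abelian 2-group and whose central quotient is isomorphic to the projective special linear group of dimension 3 over the field with 4 elements. Let T be a Sylow 2-subgroup of X and H ≠ K subgroups of T containing the centre Z(X) whose images in X/Z(X) are elementary abelian of order 16 (the two such subgroups of a Sylow 2-subgroup of the quotient). Then H and K are elementary abelian, H ∩ K is the centre of the subgroup they generate, and each of N_X(H), N_X(K) is a split extension of H, respectively K, by the projective special linear group of dimension 2 over the field with 4 elements (there is a complement isomorphic to that group).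 -/
theorem result {X : Type*} [Group X] [Finite X] (hq : Cfsg.IsQuasisimple X) (hZ : Cfsg.IsElementaryAbelian 2 (Subgroup.center X))
    {F : Type*} [Field F] [Fintype F] (hF : Fintype.card F = 4) (hXL : Nonempty ((X ⧸ Subgroup.center X) ≃* Matrix.ProjectiveSpecialLinearGroup (Fin 3) F))
    (T : Sylow 2 X) (H K : Subgroup X) (hHK : H ≠ K) (hHT : H ≤ T) (hKT : K ≤ T) (hZH : Subgroup.center X ≤ H) (hZK : Subgroup.center X ≤ K)
    (hH : Cfsg.IsElementaryAbelian 2 (H.map (QuotientGroup.mk' (Subgroup.center X))) ∧ Nat.card ↥(H.map (QuotientGroup.mk' (Subgroup.center X))) = 16)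
    (hK : Cfsg.IsElementaryAbelian 2 (K.map (QuotientGroup.mk' (Subgroup.center X))) ∧ Nat.card ↥(K.map (QuotientGroup.mk' (Subgroup.center X))) = 16) :
    Cfsg.IsElementaryAbelian 2 H ∧ Cfsg.IsElementaryAbelian 2 K ∧
      H ⊓ K = (Subgroup.center ↥(H ⊔ K)).map (H ⊔ K).subtype ∧
      (∃ C : Subgroup X, C ≤ Subgroup.normalizer (H : Set X) ∧ C ⊓ H = ⊥ ∧ H ⊔ C = Subgroup.normalizer (H : Set X) ∧
        Nonempty (↥C ≃* Matrix.ProjectiveSpecialLinearGroup (Fin 2) F)) ∧
      (∃ C : Subgroup X, C ≤ Subgroup.normalizer (K : Set X) ∧ C ⊓ K = ⊥ ∧ K ⊔ C = Subgroup.normalizer (K : Set X) ∧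
        Nonempty (↥C ≃* Matrix.ProjectiveSpecialLinearGroup (Fin 2) F)) := by
  classical
  obtain ⟨ι⟩ := hXL
  let π₀ : X →* Matrix.ProjectiveSpecialLinearGroup (Fin 3) F :=
    ι.toMonoidHom.comp (QuotientGroup.mk' _)
  have hπ₀ : Function.Surjective π₀ := ι.surjective.comp (QuotientGroup.mk'_surjective _)
  have hker₀ : π₀.ker = Subgroup.center X := by
    ext x
    rw [MonoidHom.mem_ker]
    exact (MulEquiv.map_eq_one_iff ι).trans (QuotientGroup.eq_one_iff x)
  have hZ2 : ∀ z ∈ Subgroup.center X, z * z = 1 := fun z hz => by rw [← pow_two]; exact hZ.2 z hz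
  have : Fact (Nat.Prime 2) := ⟨Nat.prime_two⟩
  have hU : IsPGroup 2 ((U3 : Subgroup (Matrix.SpecialLinearGroup (Fin 3) F)).map pr) :=
    IsPGroup.of_card (n := 6) (card_U3 hF)
  have hidx : ¬ 2 ∣ ((U3 : Subgroup (Matrix.SpecialLinearGroup (Fin 3) F)).map pr).index := by
    have h := ((U3 : Subgroup (Matrix.SpecialLinearGroup (Fin 3) F)).map pr).card_mul_index
    rw [card_U3 hF, GLOrder.card_PSL, GLOrder.card_SL, Nat.card_eq_fintype_card, hF,
      Fintype.card_fin] at h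
    rw [show Finset.Ico 1 3 = {1, 2} from rfl] at h
    norm_num at h
    omega
  obtain ⟨g, hg⟩ := MulAction.exists_smul_eq (Matrix.ProjectiveSpecialLinearGroup (Fin 3) F)
    (T.mapSurjective hπ₀) (hU.toSylow hidx)
  let π : X →* Matrix.ProjectiveSpecialLinearGroup (Fin 3) F :=
    (MulAut.conj g).toMonoidHom.comp π₀
  have hπ : Function.Surjective π := (MulAut.conj g).surjective.comp hπ₀
  have hker : π.ker = Subgroup.center X := by
    rw [← hker₀]; exact MonoidHom.ker_comp_of_injective _ _ (MulAut.conj g).injective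
  have hT : (T : Subgroup X).map π =
      (U3 : Subgroup (Matrix.SpecialLinearGroup (Fin 3) F)).map pr := by
    rw [Sylow.smul_def] at hg
    have h := congrArg Sylow.toSubgroup hg
    rw [← Subgroup.map_map]
    exact h
  have himg : ∀ E : Subgroup X, E ≤ T →
      Cfsg.IsElementaryAbelian 2 (E.map (QuotientGroup.mk' (Subgroup.center X))) →
      Nat.card ↥(E.map (QuotientGroup.mk' (Subgroup.center X))) = 16 →
      E.map π = (A3 : Subgroup (Matrix.SpecialLinearGroup (Fin 3) F)).map pr ∨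
        E.map π = (B3 : Subgroup (Matrix.SpecialLinearGroup (Fin 3) F)).map pr := by
    intro E hET hEe hEc
    let j : (X ⧸ Subgroup.center X) ≃* Matrix.ProjectiveSpecialLinearGroup (Fin 3) F :=
      ι.trans (MulAut.conj g)
    have he : E.map π = (E.map (QuotientGroup.mk' (Subgroup.center X))).map j.toMonoidHom := by
      rw [Subgroup.map_map]; rfl
    refine elementary_cases hF _ ((Subgroup.map_mono hET).trans_eq hT) ?_ ?_
    · rw [he]; rintro _ ⟨y, hy, rfl⟩; rw [← map_pow, hEe.2 y hy, map_one]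
    · rw [he, Subgroup.card_map_of_injective j.injective, hEc]
  obtain ⟨θ, hθ, hθU, hθB, hθA⟩ := exists_graph (F := F) hF
  have hne : H.map π ≠ K.map π := fun h => hHK (by
    rw [← Subgroup.comap_map_eq_self (hker ▸ hZH : π.ker ≤ H), h,
      Subgroup.comap_map_eq_self (hker ▸ hZK)])
  -- one may assume the images are the standard ones
  have main : ∀ H K : Subgroup X, H ≤ T → K ≤ T → Subgroup.center X ≤ H → Subgroup.center X ≤ K →
      H.map π = (A3 : Subgroup (Matrix.SpecialLinearGroup (Fin 3) F)).map pr →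
      K.map π = (B3 : Subgroup (Matrix.SpecialLinearGroup (Fin 3) F)).map pr →
      Cfsg.IsElementaryAbelian 2 H ∧ Cfsg.IsElementaryAbelian 2 K ∧
      H ⊓ K = (Subgroup.center ↥(H ⊔ K)).map (H ⊔ K).subtype ∧
      (∃ C : Subgroup X, C ≤ Subgroup.normalizer (H : Set X) ∧ C ⊓ H = ⊥ ∧
        H ⊔ C = Subgroup.normalizer (H : Set X) ∧
        Nonempty (↥C ≃* Matrix.ProjectiveSpecialLinearGroup (Fin 2) F)) ∧
      (∃ C : Subgroup X, C ≤ Subgroup.normalizer (K : Set X) ∧ C ⊓ K = ⊥ ∧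
        K ⊔ C = Subgroup.normalizer (K : Set X) ∧
        Nonempty (↥C ≃* Matrix.ProjectiveSpecialLinearGroup (Fin 2) F)) := by
    intro H K hHT hKT hZH hZK hH hK
    have hπ' : Function.Surjective (θ.comp π) := hθ.2.comp hπ
    have hker' : (θ.comp π).ker = Subgroup.center X := by
      rw [MonoidHom.ker_comp_of_injective _ _ hθ.1, hker]
    have hK' : K.map (θ.comp π) = (A3 : Subgroup (Matrix.SpecialLinearGroup (Fin 3) F)).map pr := by
      rw [← Subgroup.map_map, hK, hθB]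
    have hH' : H.map (θ.comp π) = (B3 : Subgroup (Matrix.SpecialLinearGroup (Fin 3) F)).map pr := by
      rw [← Subgroup.map_map, hH, hθA]
    have hT' : (T : Subgroup X).map (θ.comp π) =
        (U3 : Subgroup (Matrix.SpecialLinearGroup (Fin 3) F)).map pr := by
      rw [← Subgroup.map_map, hT, hθU]
    have hHe := elementary_side hF π hπ hker hZ2 H hZH hH
    have hKe := elementary_side hF (θ.comp π) hπ' hker' hZ2 K hZK hK'
    refine ⟨hHe, hKe, ?_, complement_side hF π hπ hker T H K hHT hKT hZH hH hK hT hHe hKe,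
      complement_side hF (θ.comp π) hπ' hker' T K H hKT hHT hZK hK' hH' hT' hKe hHe⟩
    apply le_antisymm
    · intro x hx
      refine ⟨⟨x, Subgroup.mem_sup_left hx.1⟩, Subgroup.mem_center_iff.2 fun y => Subtype.ext ?_, rfl⟩
      have hle : H ⊔ K ≤ Subgroup.centralizer ({x} : Set X) := sup_le
        (fun y hy => Subgroup.mem_centralizer_singleton_iff.2
          (congrArg Subtype.val (hHe.1.1.1 ⟨y, hy⟩ ⟨x, hx.1⟩)))
        (fun y hy => Subgroup.mem_centralizer_singleton_iff.2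
          (congrArg Subtype.val (hKe.1.1.1 ⟨y, hy⟩ ⟨x, hx.2⟩)))
      exact Subgroup.mem_centralizer_singleton_iff.1 (hle y.2)
    · rintro _ ⟨⟨x, hx⟩, hxc, rfl⟩
      have hmap : (H ⊔ K).map π = (U3 : Subgroup (Matrix.SpecialLinearGroup (Fin 3) F)).map pr := by
        rw [Subgroup.map_sup, hH, hK, A_sup_B]
      obtain ⟨h1, h2⟩ := central_mem (π x) (hmap ▸ Subgroup.mem_map_of_mem π hx) (by
        rw [← hmap]
        rintro _ ⟨y, hy, rfl⟩
        have he : y * x = x * y :=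
          congrArg Subtype.val (Subgroup.mem_center_iff.1 hxc ⟨y, hy⟩)
        rw [← map_mul, ← map_mul, he])
      have h1' : x ∈ (H.map π).comap π := by rw [hH]; exact h1
      have h2' : x ∈ (K.map π).comap π := by rw [hK]; exact h2
      rw [Subgroup.comap_map_eq_self (hker ▸ hZH)] at h1'
      rw [Subgroup.comap_map_eq_self (hker ▸ hZK)] at h2'
      exact ⟨h1', h2'⟩
  rcases himg H hHT hH.1 hH.2 with eH | eH <;> rcases himg K hKT hK.1 hK.2 with eK | eK
  · exact absurd (eH.trans eK.symm) hne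
  · exact main H K hHT hKT hZH hZK eH eK
  · obtain ⟨a, b, c, d, e⟩ := main K H hKT hHT hZK hZH eK eH
    refine ⟨b, a, ?_, e, d⟩
    rw [inf_comm, c, sup_comm]
  · exact absurd (eH.trans eK.symm) hne

end Cfsg.Agent.S3154
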