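import Cfsg.Statements.S3155
import Cfsg.Agent.EqLemmas

set_option autoImplicit false
open Cfsg

namespace Cfsg.Agent.S3155

/-- Let B be the direct product of three cyclic groups of order 4. Then the automorphism of B inverting every element is not the square of any automorphism of B. -/
theorem result {B : Type*} [CommGroup B] [Finite B] (hB : Nonempty (B ≃* Multiplicative (ZMod 4 × ZMod 4 × ZMod 4)))
    (τ : B ≃* B) : τ.trans τ ≠ MulEquiv.inv B := by
  intro h
  obtain ⟨e⟩ := hB
  haveI : Nontrivial (ZMod 4) := ⟨0, 1, by decide⟩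
  let V := ZMod 4 × ZMod 4 × ZMod 4
  let f : V →+ V := AddMonoidHom.mk' (fun v => (e (τ (e.symm (Multiplicative.ofAdd v)))).toAdd)
    (fun a b => by simp only [ofAdd_add, map_mul, toAdd_mul])
  let L : V →ₗ[ZMod 4] V := AddMonoidHom.toZModLinearMap 4 f
  have hL : L.comp L = -LinearMap.id := by
    refine LinearMap.ext fun v => ?_
    have hv := congrArg (fun σ : B ≃* B => σ (e.symm (Multiplicative.ofAdd v))) h
    simp only [MulEquiv.trans_apply, MulEquiv.inv_apply] at hv
    show f (f v) = -v
    simp [f, hv]
  have hd := congrArg LinearMap.det hL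
  rw [LinearMap.det_comp] at hd
  have h3 : LinearMap.det (-LinearMap.id : V →ₗ[ZMod 4] V) = -1 := by
    rw [← neg_one_smul (ZMod 4) (LinearMap.id : V →ₗ[ZMod 4] V), LinearMap.det_smul, LinearMap.det_id]
    rw [show Module.finrank (ZMod 4) V = 3 by
      show Module.finrank (ZMod 4) (ZMod 4 × ZMod 4 × ZMod 4) = 3
      rw [Module.finrank_prod, Module.finrank_prod, Module.finrank_self]]
    decide
  rw [h3] at hd
  generalize LinearMap.det L = d at hd
  revert hd d
  decide

end Cfsg.Agent.S3155
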