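import Cfsg.Statements.S3156
import Cfsg.Agent.Lib.Unitary.SylowThree
import Cfsg.Agent.Lib.SylowL34.Inverting

set_option autoImplicit false
open Cfsg

namespace Cfsg.Agent.S3156

open Cfsg.Agent.Unitary in
/-- No automorphism of order 3 of the Sylow 2-subgroup of `PSU₃(4)` is inverted by an involutory one. -/
theorem no_inverted {F : Type*} [Field F] [Fintype F] (hF : Fintype.card F = 4 ^ 2)
    (h2 : (2 : F) = 0) (ρ x : MulAut (sylThree hF h2)) (hρ : orderOf ρ = 3)
    (hsq : ∀ y, x (x y) = y) (hinv : ∀ y, x (ρ y) = ρ (ρ (x y))) : False := by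
  classical
  have h64 : Nat.card (sylThree hF h2) = 64 := by rw [card_sylThree]; norm_num
  have hc4 : Nat.card (Subgroup.center (sylThree hF h2)) = 4 := card_center
  have hna : ¬ IsMulCommutative (sylThree hF h2) := fun hc => by
    have htop : Subgroup.center (sylThree hF h2) = ⊤ :=
      (Subgroup.eq_top_iff' _).2 fun g => Subgroup.mem_center_iff.2 fun k => hc.1.1 k g
    rw [htop, Subgroup.card_top, h64] at hc4
    omega
  have hinvol : ∀ g : sylThree hF h2, g * g = 1 ↔ g ∈ Subgroup.center (sylThree hF h2) := fun g =>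
    (sq_eq_one_iff g).trans (mem_center_iff g).symm
  by_cases hfp : ∀ y : sylThree hF h2, ρ y = y → y = 1
  · have hi : SylowL34.Inv ρ x :=
      { card := h64, nonab := hna, order := hρ, fix := hfp, sq := hsq, inv := hinv }
    obtain ⟨u, v, hu, hv, huv⟩ := hi.exists_pair
    exact huv (Subgroup.mem_center_iff.1 ((hinvol v).1 hv) u)
  push Not at hfp
  obtain ⟨y, hy, hy1⟩ := hfp
  have hρ3 : ∀ g, ρ (ρ (ρ g)) = g := fun g =>
    DFunLike.congr_fun (orderOf_dvd_iff_pow_eq_one.1 hρ.dvd : ρ ^ 3 = 1) g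
  have hρc : ∀ g ∈ Subgroup.center (sylThree hF h2), ρ g ∈ Subgroup.center (sylThree hF h2) :=
    fun g hg => (hinvol _).1 (by rw [← map_mul, (hinvol g).2 hg, map_one])
  have : Fact (Nat.Prime 3) := ⟨Nat.prime_three⟩
  -- the centre is fixed pointwise
  obtain ⟨z₀, hz₀, hz₀1, hz₀f⟩ : ∃ z ∈ Subgroup.center (sylThree hF h2), z ≠ 1 ∧ ρ z = z := by
    by_cases h : y * y = 1
    · exact ⟨y, (hinvol y).1 h, hy1, hy⟩
    · refine ⟨y * y, (hinvol _).1 ((sq_eq_one_iff _).2 (coord_sq y).1), h, ?_⟩
      rw [map_mul, hy]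
  let f : Subgroup.center (sylThree hF h2) → Subgroup.center (sylThree hF h2) :=
    fun g => ⟨ρ g.1, hρc _ g.2⟩
  have hm := Equiv.Perm.card_fixedPoints_modEq (f := f) (p := 3) (n := 1)
    (funext fun g => Subtype.ext (hρ3 g.1))
  have h2fix : 1 < Nat.card (Function.fixedPoints f) := by
    rw [Finite.one_lt_card_iff_nontrivial]
    exact ⟨⟨⟨1, one_mem _⟩, Subtype.ext (map_one ρ)⟩, ⟨⟨z₀, hz₀⟩, Subtype.ext hz₀f⟩,
      fun h => hz₀1 (congrArg (fun t : Function.fixedPoints f => t.1.1) h).symm⟩
  have hle := Nat.card_le_card_of_injective (Subtype.val : Function.fixedPoints f → _)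
    Subtype.val_injective
  rw [← Nat.card_eq_fintype_card, ← Nat.card_eq_fintype_card, hc4] at hm
  rw [hc4] at hle
  unfold Nat.ModEq at hm
  have hall : Function.fixedPoints f = Set.univ := by
    apply Set.eq_of_subset_of_ncard_le (Set.subset_univ _)
    rw [Set.ncard_univ, hc4, ← Nat.card_coe_set_eq]
    omega
  have hzfix : ∀ g ∈ Subgroup.center (sylThree hF h2), ρ g = g := fun g hg => by
    have : (⟨g, hg⟩ : Subgroup.center (sylThree hF h2)) ∈ Function.fixedPoints f := hall ▸ trivial
    exact congrArg Subtype.val this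
  -- the fixed subgroup
  let Fx : Subgroup (sylThree hF h2) :=
    { carrier := {g | ρ g = g}
      one_mem' := map_one ρ
      mul_mem' := fun {a b} ha hb => by
        simp only [Set.mem_ofPred_eq] at ha hb ⊢; rw [map_mul, ha, hb]
      inv_mem' := fun {a} ha => by
        simp only [Set.mem_ofPred_eq] at ha ⊢; rw [map_inv, ha] }
  let s : Fx → Subgroup.center (sylThree hF h2) := fun g =>
    ⟨g.1 * g.1, (hinvol _).1 ((sq_eq_one_iff _).2 (coord_sq g.1).1)⟩
  have hfib : ∀ z : Subgroup.center (sylThree hF h2),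
      (if z = 1 then 4 else 5) ≤ Nat.card {g : Fx // s g = z} := by
    intro z
    split_ifs with hz
    · subst hz
      refine hc4.symm.le.trans ?_
      refine Nat.card_le_card_of_injective
        (fun g => ⟨⟨g.1, hzfix _ g.2⟩, Subtype.ext ((hinvol _).2 g.2)⟩) fun g g' h => ?_
      exact Subtype.ext (congrArg (fun t : {g : Fx // s g = 1} => (t.1 : sylThree hF h2)) h)
    have hz1 : (z : sylThree hF h2) ≠ 1 := fun h => hz (Subtype.ext h)
    let r : {g : sylThree hF h2 // g * g = z} → {g : sylThree hF h2 // g * g = z} :=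
      fun g => ⟨ρ g.1, by rw [← map_mul, g.2, hzfix _ z.2]⟩
    have hr := Equiv.Perm.card_fixedPoints_modEq (f := r) (p := 3) (n := 1)
      (funext fun g => Subtype.ext (hρ3 g.1))
    rw [← Nat.card_eq_fintype_card, ← Nat.card_eq_fintype_card, card_sqrt z.2 hz1] at hr
    have he : Nat.card (Function.fixedPoints r) = Nat.card {g : Fx // s g = z} :=
      Nat.card_congr
        { toFun := fun g => ⟨⟨g.1.1, congrArg Subtype.val g.2⟩, Subtype.ext g.1.2⟩
          invFun := fun g => ⟨⟨g.1.1, congrArg Subtype.val g.2⟩, Subtype.ext g.1.2⟩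
          left_inv := fun g => rfl
          right_inv := fun g => rfl }
    rw [he] at hr
    unfold Nat.ModEq at hr
    -- a fixed square root gives four of them
    obtain ⟨g₀⟩ : Nonempty {g : Fx // s g = z} := (Nat.card_pos_iff.1 (by omega)).1
    have h4 : 4 ≤ Nat.card {g : Fx // s g = z} := by
      refine hc4.symm.le.trans ?_
      refine Nat.card_le_card_of_injective (fun c => ⟨g₀.1 * ⟨c.1, hzfix _ c.2⟩, Subtype.ext ?_⟩)
        fun c c' h => ?_
      · change (g₀.1.1 * c.1) * (g₀.1.1 * c.1) = z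
        have h0 : g₀.1.1 * g₀.1.1 = z := congrArg Subtype.val g₀.2
        rw [mul_assoc, ← mul_assoc c.1, ← Subgroup.mem_center_iff.1 c.2 g₀.1.1, mul_assoc g₀.1.1,
          (hinvol _).2 c.2, mul_one, h0]
      · have := congrArg (fun t : {g : Fx // s g = z} => (t.1 : sylThree hF h2)) h
        exact Subtype.ext (mul_left_cancel (this : g₀.1.1 * c.1 = g₀.1.1 * c'.1))
    omega
  have hbig : 17 ≤ Nat.card Fx := by
    rw [Nat.card_congr (Equiv.sigmaFiberEquiv s).symm, Nat.card_sigma]
    refine le_trans ?_ (Finset.sum_le_sum fun z _ => hfib z)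
    rw [Finset.sum_ite, Finset.sum_const, Finset.sum_const, Finset.filter_eq', Finset.filter_ne']
    simp only [Finset.mem_univ, if_true, Finset.card_singleton, Finset.card_erase_of_mem,
      Finset.card_univ, smul_eq_mul, ← Nat.card_eq_fintype_card, hc4]
    norm_num
  let fU : sylThree hF h2 → sylThree hF h2 := ρ
  have hm' := Equiv.Perm.card_fixedPoints_modEq (f := fU) (p := 3) (n := 1) (funext hρ3)
  rw [← Nat.card_eq_fintype_card, ← Nat.card_eq_fintype_card, h64] at hm'
  have heF : Nat.card (Function.fixedPoints fU) = Nat.card Fx := rfl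
  rw [heF] at hm'
  unfold Nat.ModEq at hm'
  obtain ⟨k, hk, hk'⟩ := (Nat.dvd_prime_pow Nat.prime_two).1
    (show Nat.card Fx ∣ 2 ^ 6 by have := Fx.card_subgroup_dvd_card; rwa [h64] at this)
  have h64' : Nat.card Fx = 64 := by
    rw [hk'] at hbig hm' ⊢
    interval_cases k <;> simp_all
  have htop : Fx = ⊤ := Subgroup.eq_top_of_card_eq _ (h64'.trans h64.symm)
  have hone : ρ = 1 := MulEquiv.ext fun g => (htop ▸ Subgroup.mem_top g : g ∈ Fx)
  rw [hone, orderOf_one] at hρ
  omega

/-- If a finite group T is isomorphic to a Sylow 2-subgroup of the projective special unitary group of dimension 3 with parameter 4 (realised over the field with 16 elements), then no subgroup of the automorphism group of T is isomorphic to the symmetric group of degree 3. -/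
theorem result {T : Type*} [Group T] [Finite T] (hT : (∃ (F : Type) (_ : Field F) (_ : Fintype F), Fintype.card F = 16 ∧ ∃ S : Sylow 2 (Cfsg.PSU 3 F 4), Nonempty (T ≃* ↥(S : Subgroup (Cfsg.PSU 3 F 4))))) (H : Subgroup (MulAut T)) : ¬ Nonempty (↥H ≃* Equiv.Perm (Fin 3)) := by
  rintro ⟨eH⟩
  obtain ⟨F, iF, fF, hF, S, ⟨e⟩⟩ := hT
  have hF' : Fintype.card F = 4 ^ 2 := by rw [hF]; norm_num
  have h2 : (2 : F) = 0 := by
    have h0 : ((2 : ℕ) : F) ^ 4 = 0 := by
      rw [← Nat.cast_pow, show (2 : ℕ) ^ 4 = 16 from rfl, ← hF]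
      exact FiniteField.cast_card_eq_zero F
    exact_mod_cast eq_zero_of_pow_eq_zero h0
  obtain ⟨e'⟩ := Unitary.exists_equiv (n := 2) (by norm_num) (by norm_num) hF' h2 S
  let c : MulAut T →* MulAut (Unitary.sylThree hF' h2) :=
    (MulAut.congr (e.trans e'.symm)).toMonoidHom
  let g : Equiv.Perm (Fin 3) →* MulAut (Unitary.sylThree hF' h2) :=
    c.comp (H.subtype.comp eH.symm.toMonoidHom)
  have hg : Function.Injective g :=
    (MulAut.congr (e.trans e'.symm)).injective.comp (Subtype.val_injective.comp eH.symm.injective)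
  refine no_inverted hF' h2 (g (finRotate 3)) (g (Equiv.swap 0 1)) ?_ ?_ ?_
  · rw [orderOf_injective g hg]
    have : Fact (Nat.Prime 3) := ⟨Nat.prime_three⟩
    exact orderOf_eq_prime (by decide) (by decide)
  · intro y
    change (g (Equiv.swap 0 1) * g (Equiv.swap 0 1)) y = y
    rw [← map_mul, show (Equiv.swap 0 1 : Equiv.Perm (Fin 3)) * Equiv.swap 0 1 = 1 by decide,
      map_one]
    rfl
  · intro y
    change (g (Equiv.swap 0 1) * g (finRotate 3)) y =
      (g (finRotate 3) * g (finRotate 3) * g (Equiv.swap 0 1)) y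
    rw [← map_mul, ← map_mul, ← map_mul,
      show (Equiv.swap 0 1 : Equiv.Perm (Fin 3)) * finRotate 3 =
        finRotate 3 * finRotate 3 * Equiv.swap 0 1 by decide]

end Cfsg.Agent.S3156
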