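import Cfsg.Statements.S3157
import Cfsg.Agent.Lib.SylowL34.Inverting
import Cfsg.Agent.Lib.PSL2.Groups
import Cfsg.Agent.Lib.PGroup.UniqueOrderP

set_option autoImplicit false
open Cfsg

namespace Cfsg.Agent.S3157

/-- Let T be a non-abelian group of order 64 admitting automorphisms ρ of order 3 and x of order 2 with x ρ x⁻¹ = ρ⁻¹ (so they generate a symmetric group of degree 3), where ρ fixes only the identity. Then T is isomorphic to a Sylow 2-subgroup of the projective special linear group of dimension 3 over the field with 4 elements, and the subgroup of fixed points of x is dihedral of order 8 or quaternion of order 8. -/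
theorem result {T : Type*} [Group T] [Finite T] (hT : Nat.card T = 64) (hna : ¬ IsMulCommutative T) (ρ x : MulAut T) (hρ : orderOf ρ = 3) (hx : orderOf x = 2)
    (hxr : x * ρ * x⁻¹ = ρ⁻¹) (hfp : ∀ y : T, ρ y = y → y = 1) (C : Subgroup T) (hC : ∀ y : T, y ∈ C ↔ x y = y) :
    (∃ (F : Type) (_ : Field F) (_ : Fintype F), Fintype.card F = 4 ∧
        ∃ S : Sylow 2 (Matrix.ProjectiveSpecialLinearGroup (Fin 3) F), Nonempty (T ≃* ↥(S : Subgroup (Matrix.ProjectiveSpecialLinearGroup (Fin 3) F)))) ∧
      (Nonempty (↥C ≃* DihedralGroup 4) ∨ Nonempty (↥C ≃* QuaternionGroup 2)) := by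
  have hi : SylowL34.Inv ρ x :=
    { card := hT, nonab := hna, order := hρ, fix := hfp
      sq := fun y => by
        have := DFunLike.congr_fun (hx ▸ pow_orderOf_eq_one x : x ^ 2 = 1) y
        exact this
      inv := fun y => by
        have h3 : ρ ^ 3 = 1 := hρ ▸ pow_orderOf_eq_one ρ
        have hinv : ρ⁻¹ = ρ ^ 2 := inv_eq_of_mul_eq_one_right (by rw [← pow_succ', h3])
        rw [hinv] at hxr
        have := DFunLike.congr_fun (mul_inv_eq_iff_eq_mul.1 hxr) y
        exact this }
  obtain ⟨u, v, hu, hv, huv⟩ := hi.exists_pair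
  refine ⟨SylowL34.exists_sylow_equiv hT (hi.toFPF.rel hu hv huv), ?_⟩
  have hCeq : C = hi.C := by
    ext y; exact hC y
  subst hCeq
  have hF := hi.toFPF
  have h8 := hi.card_fixed
  obtain ⟨z, hz, hz1, hxz⟩ := hi.exists_fixed_center
  have hzz := hF.sq_center hz
  obtain ⟨a, ha, b, hb, hab⟩ := hi.exists_noncomm
  have hc := hi.comm_C ha hb hab hz hz1 hxz
  by_cases hex : ∃ y ∈ hi.C, y * y = 1 ∧ y ≠ 1 ∧ y ≠ z
  · left
    -- a pair of non-commuting involutions in the fixed subgroup
    obtain ⟨a', ha', b', hb', hab', ha2, hb2⟩ : ∃ a' ∈ hi.C, ∃ b' ∈ hi.C,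
        a' * b' ≠ b' * a' ∧ a' * a' = 1 ∧ b' * b' = 1 := by
      obtain ⟨y, hy, hy2, hy1, hyz⟩ := hex
      -- `y` is not central in the fixed subgroup
      have hex2 : ∃ w ∈ hi.C, y * w ≠ w * y := by
        by_contra hall
        push Not at hall
        apply hab
        have hlift : ∀ g ∈ hi.C, ∀ g' ∈ hi.C, g * g' ≠ g' * g →
            (g * y ≠ y * g ∨ g' * y ≠ y * g') → False := fun g hg g' hg' _ h =>
          h.elim (fun e => e (hall g hg).symm) (fun e => e (hall g' hg').symm)
        have : ∀ t : T, y * t = t * y := by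
          intro t
          obtain ⟨c, hc', d, hd, e⟩ := hi.decomp t
          rw [← QuotientGroup.mk_mul] at e
          have hzc : (c * ρ d)⁻¹ * t ∈ Subgroup.center T := QuotientGroup.eq.1 e.symm
          have hyd : y * ρ d = ρ d * y := by
            apply commutatorElement_eq_one_iff_mul_comm.1
            rw [(hF.comm_one y d).1, commutatorElement_eq_one_iff_mul_comm.2 (hall d hd), map_one,
              map_one]
          have ht : t = c * ρ d * ((c * ρ d)⁻¹ * t) := (mul_inv_cancel_left _ _).symm
          rw [ht]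
          set w := (c * ρ d)⁻¹ * t
          calc y * (c * ρ d * w) = y * c * ρ d * w := by group
            _ = c * (y * ρ d) * w := by rw [hall c hc']; group
            _ = c * ρ d * (y * w) := by rw [hyd]; group
            _ = c * ρ d * w * y := by rw [Subgroup.mem_center_iff.1 hzc y]; group
        rcases hi.center_fixed_cases hz hz1 hxz
          (Subgroup.mem_center_iff.2 fun t => (this t).symm) (hi.mem_C.1 hy) with e | e
        · exact absurd e hy1
        · exact absurd e hyz
      obtain ⟨w, hw, hyw⟩ := hex2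
      have hcw := hi.comm_C hy hw hyw hz hz1 hxz
      rcases hi.sq_cases hz hz1 hxz hw with hw2 | hw2
      · exact ⟨y, hy, w, hw, hyw, hy2, hw2⟩
      · refine ⟨y, hy, y * w, hi.C.mul_mem hy hw, fun e => hyw ?_, hy2, ?_⟩
        · rw [mul_assoc y w y] at e
          exact mul_left_cancel e
        · rw [hi.mul_self_mul, hy2, hw2, hcw, one_mul, hzz]
    have hc' := hi.comm_C ha' hb' hab' hz hz1 hxz
    have hco : orderOf (⟨a' * b', hi.C.mul_mem ha' hb'⟩ : hi.C) = 4 := by
      rw [Subgroup.orderOf_mk]
      have hsq : a' * b' * (a' * b') = z := by rw [hi.mul_self_mul, ha2, hb2, one_mul, one_mul, hc']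
      have : Fact (Nat.Prime 2) := ⟨Nat.prime_two⟩
      refine orderOf_eq_prime_pow (p := 2) (n := 1) ?_ ?_
      · rw [pow_one, pow_two, hsq]; exact hz1
      · rw [show 2 ^ (1 + 1) = 2 * 2 from rfl, pow_mul, pow_two (a' * b'), hsq, pow_two, hzz]
    refine PSL2.mulEquiv_dihedral (n := 4) (by rw [h8]) (by norm_num)
      ⟨a' * b', hi.C.mul_mem ha' hb'⟩ ⟨a', ha'⟩ hco ?_ ?_ ?_
    · rw [Subgroup.orderOf_mk]
      exact orderOf_eq_prime (by rw [pow_two, ha2]) (fun e => hab' (by rw [e, one_mul, mul_one]))
    · apply Subtype.ext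
      change a' * (a' * b') * a' = (a' * b')⁻¹
      rw [mul_inv_rev, inv_eq_of_mul_eq_one_right ha2, inv_eq_of_mul_eq_one_right hb2,
        ← mul_assoc, ha2, one_mul]
    · intro hmem
      obtain ⟨k, hk⟩ := Subgroup.mem_zpowers_iff.1 hmem
      apply hab'
      have hcm : Commute (⟨a', ha'⟩ : hi.C) ⟨a' * b', hi.C.mul_mem ha' hb'⟩ :=
        hk ▸ Commute.zpow_self _ k
      have e : a' * (a' * b') = a' * b' * a' := congrArg Subtype.val hcm.eq
      rw [mul_assoc a' b' a'] at e
      exact mul_left_cancel e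
  · right
    push Not at hex
    have hzC : z ∈ hi.C := hxz
    have hP : IsPGroup 2 hi.C := IsPGroup.of_card (n := 3) h8
    have huniq : ∀ p q : hi.C, orderOf p = 2 → q ^ 2 = 1 → q ∈ Subgroup.zpowers p := by
      intro p q hp hq
      have hp2 : p ^ 2 = 1 := hp ▸ pow_orderOf_eq_one p
      have hpz : (p : T) = z := hex p p.2 (by
        rw [← pow_two]; exact congrArg Subtype.val hp2) (fun e => by
        rw [show p = 1 from Subtype.ext e, orderOf_one] at hp; omega)
      by_cases hq1 : (q : T) = 1
      · rw [show q = 1 from Subtype.ext hq1]; exact one_mem _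
      · have hqz : (q : T) = z := hex q q.2 (by
          rw [← pow_two]; exact congrArg Subtype.val hq) hq1
        rw [show q = p from Subtype.ext (hqz.trans hpz.symm)]
        exact Subgroup.mem_zpowers _
    have : Fact (Nat.Prime 2) := ⟨Nat.prime_two⟩
    rcases PGroup.unique_order_p_cases hP huniq with hcyc | ⟨-, n, ⟨e⟩⟩
    · exfalso
      let _ := hcyc.commGroup
      exact hab (congrArg Subtype.val (mul_comm (⟨a, ha⟩ : hi.C) ⟨b, hb⟩))
    · have hn := Nat.card_congr e.toEquiv
      rw [h8, Nat.card_eq_fintype_card, QuaternionGroup.card] at hn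
      have : 2 ^ n = 2 := by omega
      rw [this] at e
      exact ⟨e⟩

end Cfsg.Agent.S3157
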