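import Cfsg.Statements.S3158
import Cfsg.Agent.EqLemmas

set_option autoImplicit false
open Cfsg

namespace Cfsg.Agent.S3158

/-- Let U be a group of order q² with q = 2^n ≥ 2, and y an automorphism of U of order q − 1 all of whose nontrivial powers fix only the identity. Let V be a proper normal y-invariant subgroup of U such that V and U/V are elementary abelian 2-groups and there is an isomorphism from V to U/V commuting with the actions of y. Then U is abelian. -/
theorem result {U : Type*} [Group U] [Finite U] (n : ℕ) (hn : 1 ≤ n) (hU : Nat.card U = (2 ^ n) ^ 2)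
    (y : MulAut U) (hy : orderOf y = 2 ^ n - 1) (hfp : ∀ k : ℕ, y ^ k ≠ 1 → ∀ u : U, (y ^ k) u = u → u = 1)
    (V : Subgroup U) [V.Normal] (hV : V ≠ ⊤) (hyV : ∀ v ∈ V, y v ∈ V)
    (hVe : ∀ v ∈ V, v ^ 2 = 1) (hQe : ∀ u : U, u ^ 2 ∈ V) (hQc : ∀ u w : U, u * w * u⁻¹ * w⁻¹ ∈ V)
    (φ : ↥V ≃* U ⧸ V) (hφ : ∀ (v : ↥V) (u : U), (QuotientGroup.mk u : U ⧸ V) = φ v → φ ⟨y v, hyV v v.2⟩ = QuotientGroup.mk (y u)) :
    IsMulCommutative U := by
  haveI : Fact (Nat.Prime 2) := ⟨Nat.prime_two⟩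
  classical
  have hq : 2 ≤ 2 ^ n := le_trans (by norm_num) (Nat.pow_le_pow_right (by norm_num) hn)
  have hcV : Nat.card ↥V = 2 ^ n := by
    have h1 := Subgroup.card_eq_card_quotient_mul_card_subgroup V
    rw [hU, ← Nat.card_congr φ.toEquiv, ← pow_two] at h1
    exact (Nat.pow_left_injective (by norm_num) h1).symm
  have hyi : ∀ (i : ℕ), ∀ v ∈ V, (y ^ i) v ∈ V := by
    intro i
    induction i with
    | zero => intro v hv; simpa using hv
    | succ i ih =>
      intro v hv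
      rw [pow_succ', MulAut.mul_apply]
      exact hyV _ (ih v hv)
  -- transitivity on the nonidentity elements of `V`
  have htr : ∀ v₀ ∈ V, v₀ ≠ 1 → ∀ v ∈ V, v ≠ 1 → ∃ i : ℕ, (y ^ i) v₀ = v := by
    intro v₀ h0 h01 v hv hv1
    let f : Fin (2 ^ n - 1) → {w : ↥V // w ≠ 1} := fun i =>
      ⟨⟨(y ^ (i : ℕ)) v₀, hyi i v₀ h0⟩, fun e => h01 (by simpa using congrArg Subtype.val e)⟩
    have hinj : Function.Injective f := by
      intro i j hij
      have he : (y ^ (i : ℕ)) v₀ = (y ^ (j : ℕ)) v₀ := congrArg (fun w => (w.1 : U)) hij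
      wlog hle : (i : ℕ) ≤ (j : ℕ) generalizing i j
      · exact (this hij.symm he.symm (le_of_not_ge hle)).symm
      by_contra hne
      have hd : y ^ ((j : ℕ) - i) ≠ 1 := by
        intro e
        have hd := orderOf_dvd_of_pow_eq_one e
        rw [hy] at hd
        have hne' : (i : ℕ) ≠ j := fun e => hne (Fin.ext e)
        have := Nat.le_of_dvd (by omega) hd
        have := j.isLt
        omega
      refine h01 ((EquivLike.injective (y ^ (i : ℕ))) ?_)
      rw [map_one]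
      refine hfp _ hd _ ?_
      rw [← MulAut.mul_apply, ← pow_add, Nat.sub_add_cancel hle]
      exact he.symm
    haveI : Fintype ↥V := Fintype.ofFinite _
    have hcard : Fintype.card {w : ↥V // w ≠ 1} = 2 ^ n - 1 := by
      rw [Fintype.card_subtype_compl, Fintype.card_subtype_eq, ← Nat.card_eq_fintype_card, hcV]
    obtain ⟨i, hi⟩ := ((Fintype.bijective_iff_injective_and_card f).mpr ⟨hinj, by simp [hcard]⟩).2
      ⟨⟨v, hv⟩, fun e => hv1 (congrArg Subtype.val e)⟩
    exact ⟨i, congrArg (fun w => (w.1 : U)) hi⟩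
  -- `V` is central
  have hVp : IsPGroup 2 U := IsPGroup.of_card (n := n * 2) (by rw [hU, pow_mul])
  have hVne : V ≠ ⊥ := by
    intro e
    rw [e, Subgroup.card_bot] at hcV
    omega
  have hVc : V ≤ Subgroup.center U := by
    have hm : Nontrivial ↥V := (Subgroup.nontrivial_iff_ne_bot V).mpr hVne
    have h1 : (1 : ↥V) ∈ MulAction.fixedPoints (ConjAct U) ↥V := by intro g; exact Subtype.ext (by simp)
    obtain ⟨b, hb, hb1⟩ := (hVp.of_equiv (ConjAct.toConjAct (G := U))).exists_fixed_point_of_prime_dvd_card_of_fixed_point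
      ↥V (hcV ▸ dvd_pow_self 2 (by omega)) h1
    have hbz : (b : U) ∈ Subgroup.center U := by
      rw [Subgroup.mem_center_iff]
      intro g
      have hg := congrArg Subtype.val (hb (ConjAct.toConjAct g))
      rw [ConjAct.Subgroup.val_conj_smul, ConjAct.smul_def, ConjAct.ofConjAct_toConjAct] at hg
      exact mul_inv_eq_iff_eq_mul.mp hg
    intro v hv
    by_cases hv1 : v = 1
    · rw [hv1]; exact one_mem _
    obtain ⟨i, hi⟩ := htr b b.2 (fun e => hb1 (Subtype.ext e).symm) v hv hv1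
    rw [← hi, Subgroup.mem_center_iff]
    intro g
    obtain ⟨g', rfl⟩ := EquivLike.surjective (y ^ i) g
    rw [← map_mul, ← map_mul, Subgroup.mem_center_iff.mp hbz g']
  -- the equivariant map
  let ψ : U → U := fun u => ((φ.symm (QuotientGroup.mk u) : ↥V) : U)
  have hψm : ∀ u w, ψ (u * w) = ψ u * ψ w := fun u w => by simp [ψ]
  have hψV : ∀ u, ψ u ∈ V := fun u => (φ.symm _).2
  have hψ1 : ∀ u, ψ u = 1 ↔ u ∈ V := by
    intro u
    simp [ψ]
  have hψy : ∀ u, ψ (y u) = y (ψ u) := by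
    intro u
    have h := hφ (φ.symm (QuotientGroup.mk u)) u (φ.apply_symm_apply _).symm
    show ((φ.symm (QuotientGroup.mk (y u)) : ↥V) : U) = _
    rw [← h, MulEquiv.symm_apply_apply]
  have hψi : ∀ (i : ℕ) u, ψ ((y ^ i) u) = (y ^ i) (ψ u) := by
    intro i
    induction i with
    | zero => intro u; simp
    | succ i ih => intro u; rw [pow_succ', MulAut.mul_apply, MulAut.mul_apply, hψy, ih]
  -- squaring
  have hsq : ∀ (u v : U), v ∈ V → (u * v) ^ 2 = u ^ 2 := by
    intro u v hv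
    rw [Commute.mul_pow (Subgroup.mem_center_iff.mp (hVc hv) u), hVe v hv, mul_one]
  obtain ⟨u₀, hu₀⟩ : ∃ u₀, u₀ ∉ V := by
    by_contra hcon
    push Not at hcon
    exact hV (eq_top_iff.mpr fun u _ => hcon u)
  have hψ0 : ψ u₀ ≠ 1 := fun e => hu₀ ((hψ1 u₀).mp e)
  have orbit : ∀ u, u ∉ V → ∃ i : ℕ, ∃ v ∈ V, u = (y ^ i) u₀ * v := by
    intro u hu
    obtain ⟨i, hi⟩ := htr _ (hψV u₀) hψ0 _ (hψV u) (fun e => hu ((hψ1 u).mp e))
    refine ⟨i, ((y ^ i) u₀)⁻¹ * u, (hψ1 _).mp ?_, by group⟩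
    have e := hψm ((y ^ i) u₀) (((y ^ i) u₀)⁻¹ * u)
    rw [mul_inv_cancel_left, hψi, hi] at e
    exact left_eq_mul.mp e
  have key : ∃ g : U → U, (∀ a b, g (a * b) = g a * g b) ∧ ∀ u, u ^ 2 = g u := by
    by_cases h0 : u₀ ^ 2 = 1
    · refine ⟨fun _ => 1, fun _ _ => (one_mul 1).symm, fun u => ?_⟩
      by_cases hu : u ∈ V
      · exact hVe u hu
      obtain ⟨i, v, hv, rfl⟩ := orbit u hu
      rw [hsq _ _ hv, ← map_pow, h0, map_one]
    · obtain ⟨k, hk⟩ := htr _ (hψV u₀) hψ0 _ (hQe u₀) h0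
      refine ⟨fun u => (y ^ k) (ψ u), fun a b => by simp only [hψm, map_mul], fun u => ?_⟩
      by_cases hu : u ∈ V
      · rw [hVe u hu]
        show 1 = (y ^ k) (ψ u)
        rw [(hψ1 u).mpr hu, map_one]
      obtain ⟨i, v, hv, rfl⟩ := orbit u hu
      show _ = (y ^ k) (ψ _)
      rw [hsq _ _ hv, hψm, (hψ1 v).mpr hv, mul_one, hψi, ← map_pow, ← hk, ← MulAut.mul_apply,
        ← MulAut.mul_apply, ← pow_add, ← pow_add, add_comm]
  obtain ⟨g, hg, hgs⟩ := key
  refine ⟨⟨fun a b => ?_⟩⟩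
  have h := hgs (a * b)
  rw [hg, ← hgs, ← hgs, pow_two, pow_two, pow_two] at h
  have h' : a * (b * (a * b)) = a * (a * (b * b)) := by simpa [mul_assoc] using h
  have h'' := mul_left_cancel h'
  rw [← mul_assoc, ← mul_assoc] at h''
  exact (mul_right_cancel h'').symm

end Cfsg.Agent.S3158
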