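import Cfsg.Statements.S3161
import Cfsg.Agent.Lib.SingerInvol.Models

set_option autoImplicit false
open Cfsg

namespace Cfsg.Agent.S3161

/-- Let Q be a non-abelian finite 2-group admitting commuting automorphisms α of order 2 and ρ of order 2^n − 1, where n ≥ 2, such that the fixed points of α form an elementary abelian subgroup of order 2^n on whose nonidentity elements the group generated by ρ acts transitively. Then Q is isomorphic to a Sylow 2-subgroup of the projective special unitary group of dimension 3 with parameter 2^n (realised over the field with 4^n elements) or of the projective special linear group of dimension 3 over the field with 2^n elements. -/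
theorem result {Q : Type*} [Group Q] [Finite Q] (hQ : IsPGroup 2 Q) (hna : ¬ IsMulCommutative Q) (n : ℕ) (hn : 2 ≤ n)
    (α ρ : MulAut Q) (hα : orderOf α = 2) (hρ : orderOf ρ = 2 ^ n - 1) (hc : Commute α ρ)
    (C : Subgroup Q) (hC : ∀ x : Q, x ∈ C ↔ α x = x) (hCE : Cfsg.IsElementaryAbelian 2 C ∧ Nat.card ↥C = 2 ^ n)
    (htr : ∀ x y : Q, x ∈ C → y ∈ C → x ≠ 1 → y ≠ 1 → ∃ k : ℕ, (ρ ^ k) x = y) :
    (∃ (F : Type) (_ : Field F) (_ : Fintype F), Fintype.card F = 4 ^ n ∧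
        ∃ S : Sylow 2 (Cfsg.PSU 3 F (2 ^ n)), Nonempty (Q ≃* ↥(S : Subgroup (Cfsg.PSU 3 F (2 ^ n))))) ∨
      (∃ (F : Type) (_ : Field F) (_ : Fintype F), Fintype.card F = 2 ^ n ∧
        ∃ S : Sylow 2 (Matrix.ProjectiveSpecialLinearGroup (Fin 3) F), Nonempty (Q ≃* ↥(S : Subgroup (Matrix.ProjectiveSpecialLinearGroup (Fin 3) F)))) := by
  classical
  obtain ⟨⟨hCcomm, hCord⟩, hCcard⟩ := hCE
  have hm : 0 < 2 ^ n - 1 := by
    have : 2 ^ 1 < 2 ^ n := Nat.pow_lt_pow_right (by norm_num) (by omega)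
    omega
  have hρm : ρ ^ (2 ^ n - 1) = 1 := hρ ▸ pow_orderOf_eq_one ρ
  have hα2 : ∀ x, α (α x) = x := fun x => by
    have h : α ^ 2 = 1 := hα ▸ pow_orderOf_eq_one α
    rw [pow_two] at h
    exact DFunLike.congr_fun h x
  have hcomm : ∀ x, α (ρ x) = ρ (α x) := fun x => DFunLike.congr_fun hc.eq x
  have hsqC : ∀ c ∈ C, c * c = 1 := by
    intro c hcC
    have h' := hCord c hcC
    rw [← pow_two]; exact h'
  obtain ⟨c₀, hc₀, hc₀1⟩ : ∃ c ∈ C, c ≠ 1 :=
    (Subgroup.bot_or_exists_ne_one C).resolve_left fun e => by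
      rw [e, Subgroup.card_bot] at hCcard
      have : 2 ^ 1 < 2 ^ n := Nat.pow_lt_pow_right (by norm_num) (by omega)
      omega
  have hρC : ∀ k : ℕ, ∀ c ∈ C, (ρ ^ k) c ∈ C := by
    intro k c hcC
    rw [hC]
    exact (DFunLike.congr_fun (hc.pow_right k).eq c).trans (congrArg _ ((hC c).1 hcC))
  have hdvd : ∀ k : ℕ, (ρ ^ k) c₀ = c₀ → 2 ^ n - 1 ∣ k := by
    -- the orbit of `c₀` has `2 ^ n - 1` elements
    haveI := Fintype.ofFinite C
    let f : Fin (2 ^ n - 1) → {c : C // c ≠ 1} := fun i =>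
      ⟨⟨(ρ ^ (i : ℕ)) c₀, hρC i c₀ hc₀⟩, fun e => hc₀1 ((MulEquiv.map_eq_one_iff _).1 (congrArg Subtype.val e))⟩
    have hsurj : Function.Surjective f := by
      rintro ⟨⟨y, hy⟩, hy1⟩
      obtain ⟨k, hk⟩ := htr c₀ y hc₀ hy hc₀1 fun e => hy1 (Subtype.ext e)
      refine ⟨⟨k % (2 ^ n - 1), Nat.mod_lt _ hm⟩, Subtype.ext (Subtype.ext ?_)⟩
      show (ρ ^ (k % (2 ^ n - 1))) c₀ = y
      rw [← pow_eq_pow_mod k hρm, hk]
    have hbij : Function.Bijective f := (Fintype.bijective_iff_surjective_and_card f).2 ⟨hsurj, by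
      rw [Fintype.card_fin, Fintype.card_subtype_compl, Fintype.card_subtype_eq, ← Nat.card_eq_fintype_card,
        hCcard]⟩
    intro k hk
    have h : f ⟨k % (2 ^ n - 1), Nat.mod_lt _ hm⟩ = f ⟨0, hm⟩ := Subtype.ext (Subtype.ext (by
      show (ρ ^ (k % (2 ^ n - 1))) c₀ = (ρ ^ 0) c₀
      rw [← pow_eq_pow_mod k hρm, hk]; rfl))
    exact Nat.dvd_of_mod_eq_zero (Fin.mk.inj_iff.1 (hbij.1 h))
  have hreg : ∀ k : ℕ, ¬ (2 ^ n - 1) ∣ k → ∀ x, (ρ ^ k) x = x → x = 1 := by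
    intro k hk
    let D : Subgroup Q := MonoidHom.eqLocus ((ρ ^ k : MulAut Q) : Q →* Q) (MonoidHom.id _)
    have hD : ∀ x, x ∈ D ↔ (ρ ^ k) x = x := fun x => Iff.rfl
    have hcα : ∀ x, α ((ρ ^ k) x) = (ρ ^ k) (α x) := fun x => DFunLike.congr_fun (hc.pow_right k).eq x
    have hbot : D = ⊥ := FourFixed.eq_bot_of_noFix D (hQ.to_subgroup D)
      (fun x => ⟨α x, (hD _).2 (by rw [← hcα, (hD _).1 x.2])⟩) (fun x => Subtype.ext (hα2 x))
      (Subtype.ext (map_one α)) fun x hx => by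
        by_contra hx1
        have hxC : (x : Q) ∈ C := (hC _).2 (congrArg Subtype.val hx)
        obtain ⟨i, hi⟩ := htr (x : Q) c₀ hxC hc₀ (fun e => hx1 (Subtype.ext e)) hc₀1
        refine hk (hdvd k ?_)
        rw [← hi, ← MulAut.mul_apply, ← pow_add, add_comm, pow_add, MulAut.mul_apply, (hD _).1 x.2]
    intro x hx
    have h : x ∈ D := (hD x).2 hx
    rwa [hbot, Subgroup.mem_bot] at h
  have S : SingerInvol.Setup n α ρ C := ⟨hn, hQ, hα2, hρm, hcomm, fun x => (hC x).symm, hCcard, hsqC, hreg,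
    fun x hx y hy h1 h2 => htr x y hx hy h1 h2⟩
  have hna' : ¬ ∀ a b : Q, a * b = b * a := fun h => hna ⟨⟨h⟩⟩
  obtain ⟨hcen, -, hsq⟩ := SingerInvol.Setup.structure_center (Nat.card Q) Q α ρ C S le_rfl hna'
  obtain ⟨F, _, _, _, ι, ω, hI, hFcard⟩ := S.exists_coord
  obtain ⟨p, k, e, he, hp, hps, hpk, hform⟩ := S.exists_coords hI hna' hcen hsq
  have D : SingerInvol.FormData C ι p k e := ⟨he, hI.mul, hI.inj, hI.surj, S.central, hp, hps, hpk, hsq, hform⟩
  by_cases hr : ∃ r : F, r * r + r + k = 0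
  · obtain ⟨r, hr⟩ := hr
    exact Or.inr ⟨F, inferInstance, inferInstance, by rw [← Nat.card_eq_fintype_card, hFcard],
      SingerInvol.exists_psl_sylow D hr⟩
  · push Not at hr
    exact Or.inl (SingerInvol.exists_psu_sylow (by omega) hFcard D hr)

end Cfsg.Agent.S3161
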