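import Cfsg.Statements.S3162
import Cfsg.Agent.Lib.Unitary.SylowThreeAut

set_option autoImplicit false
open Cfsg

namespace Cfsg.Agent.S3162

/-- Let S be a Sylow 2-subgroup of the special unitary group of dimension 3 with parameter q = 2^n (n ≥ 2; realised over the field with q² elements). Then the largest normal 2-subgroup of the automorphism group of S is elementary abelian of order 2^(2n²), and the automorphism group has order 2^(2n²) · 2n(q² − 1). -/
theorem result {S : Type*} [Group S] [Finite S] (n : ℕ) (hn : 2 ≤ n) {F : Type*} [Field F] [Fintype F] (hF : Fintype.card F = 4 ^ n)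
    (P : Sylow 2 ↥(Cfsg.SU 3 F (2 ^ n))) (hS : Nonempty (S ≃* ↥(P : Subgroup ↥(Cfsg.SU 3 F (2 ^ n))))) :
    Cfsg.IsElementaryAbelian 2 (Cfsg.pCore 2 (MulAut S)) ∧ Nat.card ↥(Cfsg.pCore 2 (MulAut S)) = 2 ^ (2 * n ^ 2) ∧
      Nat.card (MulAut S) = 2 ^ (2 * n ^ 2) * (2 * n * ((2 ^ n) ^ 2 - 1)) := by
  obtain ⟨e⟩ := hS
  have hF' : Fintype.card F = (2 ^ n) ^ 2 := by
    rw [hF, ← pow_mul, mul_comm, pow_mul]; norm_num
  have h2 : (2 : F) = 0 := by
    have h0 : ((2 : ℕ) : F) ^ (n * 2) = 0 := by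
      rw [← Nat.cast_pow, pow_mul, ← hF']; exact FiniteField.cast_card_eq_zero F
    exact_mod_cast eq_zero_of_pow_eq_zero h0
  obtain ⟨e'⟩ := Unitary.exists_equiv_SU (q := 2 ^ n) (by omega) rfl hF' h2 P
  let c : MulAut (Unitary.sylThree hF' h2) ≃* MulAut S := MulAut.congr (e'.trans e.symm)
  have hc : Cfsg.pCore 2 (MulAut S) =
      (Unitary.perm (hF := hF') (h2 := h2)).ker.map c.toMonoidHom := by
    rw [← Unitary.pCore_eq (by omega) rfl, Cores.pCore_map_mulEquiv]
  have hsq : ∀ x ∈ Cfsg.pCore 2 (MulAut S), x * x = 1 := by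
    rw [hc]
    rintro _ ⟨y, hy, rfl⟩
    rw [← map_mul, Unitary.ker_sq (MonoidHom.mem_ker.1 hy), map_one]
  refine ⟨⟨⟨⟨fun a b => ?_⟩⟩, fun a ha => by rw [pow_two]; exact hsq a ha⟩, ?_, ?_⟩
  · apply Subtype.ext
    have h := hsq _ (a * b).2
    have ha := hsq a a.2
    have hb := hsq b b.2
    push_cast at h ⊢
    calc (a : MulAut S) * b = (a : MulAut S)⁻¹ * (b : MulAut S)⁻¹ := by
          rw [inv_eq_of_mul_eq_one_right ha, inv_eq_of_mul_eq_one_right hb]
      _ = ((b : MulAut S) * a)⁻¹ := (mul_inv_rev _ _).symm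
      _ = (b : MulAut S) * a := inv_eq_of_mul_eq_one_right (by
          calc (b : MulAut S) * a * (b * a)
              = (b : MulAut S) * (a * b * (a * b)) * (b : MulAut S)⁻¹ := by group
            _ = 1 := by rw [h]; group)
  · rw [hc, Subgroup.card_map_of_injective c.injective]
    exact Unitary.card_ker_perm (by omega) rfl
  · rw [← Nat.card_congr c.toEquiv]
    exact Unitary.card_mulAut (by omega) rfl

end Cfsg.Agent.S3162
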