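import Cfsg.Statements.S3163
import Cfsg.Agent.EqLemmas

set_option autoImplicit false
open Cfsg

namespace Cfsg.Agent.S3163

/-- Let S be a non-abelian finite 2-group which is the product S = AB of two elementary abelian subgroups A and B, and suppose that the centralizer in S of every element of A outside B is exactly A. Then the centralizer of every element of B outside A is exactly B; A and B are maximal elementary abelian subgroups of S and the only ones; the centre of S is A ∩ B; and every element of S outside A ∪ B has centralizer of order at most min(|A|, |B|). -/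
theorem result {S : Type*} [Group S] [Finite S] (hS : IsPGroup 2 S) (hna : ¬ IsMulCommutative S) (A B : Subgroup S)
    (hA : Cfsg.IsElementaryAbelian 2 A) (hB : Cfsg.IsElementaryAbelian 2 B) (hAB : ∀ s : S, ∃ a ∈ A, ∃ b ∈ B, s = a * b)
    (hC : ∀ a ∈ A, a ∉ B → Subgroup.centralizer ({a} : Set S) = A) :
    (∀ b ∈ B, b ∉ A → Subgroup.centralizer ({b} : Set S) = B) ∧
      (∀ E : Subgroup S, Cfsg.IsElementaryAbelian 2 E → (∀ E' : Subgroup S, Cfsg.IsElementaryAbelian 2 E' → E ≤ E' → E' = E) → E = A ∨ E = B) ∧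
      (∀ E' : Subgroup S, Cfsg.IsElementaryAbelian 2 E' → A ≤ E' → E' = A) ∧ (∀ E' : Subgroup S, Cfsg.IsElementaryAbelian 2 E' → B ≤ E' → E' = B) ∧
      Subgroup.center S = A ⊓ B ∧
      (∀ x : S, x ∉ A → x ∉ B → Nat.card ↥(Subgroup.centralizer ({x} : Set S)) ≤ min (Nat.card ↥A) (Nat.card ↥B)) := by
  have hA2 : ∀ a ∈ A, a⁻¹ = a := fun a ha =>
    inv_eq_of_mul_eq_one_left (by rw [← pow_two]; exact hA.2 a ha)
  have hB2 : ∀ b ∈ B, b⁻¹ = b := fun b hb =>
    inv_eq_of_mul_eq_one_left (by rw [← pow_two]; exact hB.2 b hb)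
  have hAc : ∀ a ∈ A, ∀ a' ∈ A, a * a' = a' * a := fun a ha a' ha' =>
    congrArg Subtype.val (hA.1.is_comm.comm ⟨a, ha⟩ ⟨a', ha'⟩)
  have hBc : ∀ a ∈ B, ∀ a' ∈ B, a * a' = a' * a := fun a ha a' ha' =>
    congrArg Subtype.val (hB.1.is_comm.comm ⟨a, ha⟩ ⟨a', ha'⟩)
  -- elements of `A \\ B` and `B \\ A` do not commute
  have key : ∀ a ∈ A, a ∉ B → ∀ b ∈ B, b ∉ A → a * b ≠ b * a := by
    intro a ha haB b hb hbA hab
    apply hbA
    rw [← hC a ha haB]
    exact Subgroup.mem_centralizer_singleton_iff.mpr hab.symm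
  have hCB : ∀ b ∈ B, b ∉ A → Subgroup.centralizer ({b} : Set S) = B := by
    intro b hb hbA
    ext x
    rw [Subgroup.mem_centralizer_singleton_iff]
    refine ⟨fun hx => ?_, fun hx => hBc x hx b hb⟩
    obtain ⟨a, ha, b', hb', rfl⟩ := hAB x
    have hab : a * b = b * a := by
      calc a * b = a * (b * b') * b'⁻¹ := by group
        _ = (a * b') * b * b'⁻¹ := by rw [hBc b hb b' hb']; group
        _ = b * (a * b') * b'⁻¹ := by rw [hx]
        _ = b * a := by group
    by_cases haB : a ∈ B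
    · exact mul_mem haB hb'
    · exact absurd hab (key a ha haB b hb hbA)
  -- not both inclusions hold
  obtain ⟨hnAB, hnBA⟩ : ¬ A ≤ B ∧ ¬ B ≤ A := by
    constructor
    · intro h
      refine hna ⟨⟨fun x y => ?_⟩⟩
      obtain ⟨a, ha, b, hb, rfl⟩ := hAB x
      obtain ⟨a', ha', b', hb', rfl⟩ := hAB y
      exact hBc _ (mul_mem (h ha) hb) _ (mul_mem (h ha') hb')
    · intro h
      refine hna ⟨⟨fun x y => ?_⟩⟩
      obtain ⟨a, ha, b, hb, rfl⟩ := hAB x
      obtain ⟨a', ha', b', hb', rfl⟩ := hAB y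
      exact hAc _ (mul_mem ha (h hb)) _ (mul_mem ha' (h hb'))
  obtain ⟨a₀, ha₀, ha₀B⟩ := SetLike.not_le_iff_exists.mp hnAB
  obtain ⟨b₀, hb₀, hb₀A⟩ := SetLike.not_le_iff_exists.mp hnBA
  have hsub : ∀ E : Subgroup S, Cfsg.IsElementaryAbelian 2 E → E ≤ A ∨ E ≤ B := by
    intro E hE
    have hu : ∀ x ∈ E, x ∈ A ∨ x ∈ B := by
      intro x hx
      obtain ⟨a, ha, b, hb, rfl⟩ := hAB x
      have h1 : a * b * (a * b) = 1 := by rw [← pow_two]; exact hE.2 _ hx
      have hab : a * b = b * a := by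
        rw [mul_eq_one_iff_eq_inv, mul_inv_rev, hA2 a ha, hB2 b hb] at h1
        exact h1
      by_cases haB : a ∈ B
      · exact Or.inr (mul_mem haB hb)
      by_cases hbA : b ∈ A
      · exact Or.inl (mul_mem ha hbA)
      exact absurd hab (key a ha haB b hb hbA)
    by_contra hn
    obtain ⟨⟨x, hxE, hxA⟩, ⟨y, hyE, hyB⟩⟩ := (not_or.mp hn).imp SetLike.not_le_iff_exists.mp SetLike.not_le_iff_exists.mp
    have hxB := (hu x hxE).resolve_left hxA
    have hyA := (hu y hyE).resolve_right hyB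
    exact key y hyA hyB x hxB hxA (congrArg Subtype.val (hE.1.is_comm.comm ⟨y, hyE⟩ ⟨x, hxE⟩))
  have hmA : ∀ E' : Subgroup S, Cfsg.IsElementaryAbelian 2 E' → A ≤ E' → E' = A := fun E hE hle =>
    ((hsub E hE).resolve_right fun h => hnAB (hle.trans h)).antisymm hle
  have hmB : ∀ E' : Subgroup S, Cfsg.IsElementaryAbelian 2 E' → B ≤ E' → E' = B := fun E hE hle =>
    ((hsub E hE).resolve_left fun h => hnBA (hle.trans h)).antisymm hle
  have hZ : Subgroup.center S = A ⊓ B := by
    refine le_antisymm ?_ ?_ <;> intro x hx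
    · refine ⟨?_, ?_⟩
      · rw [SetLike.mem_coe, Subgroup.mem_toSubmonoid, ← hC a₀ ha₀ ha₀B]
        exact Subgroup.mem_centralizer_singleton_iff.mpr (Subgroup.mem_center_iff.mp hx a₀).symm
      · rw [SetLike.mem_coe, Subgroup.mem_toSubmonoid, ← hCB b₀ hb₀ hb₀A]
        exact Subgroup.mem_centralizer_singleton_iff.mpr (Subgroup.mem_center_iff.mp hx b₀).symm
    · rw [Subgroup.mem_center_iff]
      intro g
      obtain ⟨a, ha, b, hb, rfl⟩ := hAB g
      rw [mul_assoc, hBc b hb x hx.2, ← mul_assoc, hAc a ha x hx.1, mul_assoc]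
  refine ⟨hCB, ?_, hmA, hmB, hZ, ?_⟩
  · intro E hE hmax
    rcases hsub E hE with h | h
    · exact Or.inl (hmax A hA h).symm
    · exact Or.inr (hmax B hB h).symm
  intro x hxA hxB
  have hfin : Finite S := inferInstance
  set C := Subgroup.centralizer ({x} : Set S)
  have hcA : C ⊓ A ≤ A ⊓ B := by
    rintro a ⟨haC, ha⟩
    refine ⟨ha, ?_⟩
    by_contra haB
    apply hxA
    rw [← hC a ha haB]
    exact Subgroup.mem_centralizer_singleton_iff.mpr (Subgroup.mem_centralizer_singleton_iff.mp haC).symm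
  have hcB : C ⊓ B ≤ A ⊓ B := by
    rintro a ⟨haC, ha⟩
    refine ⟨?_, ha⟩
    by_contra haA
    apply hxB
    rw [← hCB a ha haA]
    exact Subgroup.mem_centralizer_singleton_iff.mpr (Subgroup.mem_centralizer_singleton_iff.mp haC).symm
  have hrel : ∀ H K : Subgroup S, (∀ s : S, ∃ h ∈ H, ∃ k ∈ K, s = h * k) →
      C ⊓ K ≤ H ⊓ K → Nat.card ↥C ≤ Nat.card ↥H := by
    intro H K hHK hle
    have h1 : K.index ≤ K.relIndex H := by
      refine Nat.card_le_card_of_surjective
        (Quotient.lift (fun h : ↥H => (QuotientGroup.mk (h : S) : S ⧸ K)) ?_) ?_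
      · intro u v huv
        have := QuotientGroup.leftRel_apply.mp huv
        exact QuotientGroup.eq.mpr (by simpa [Subgroup.mem_subgroupOf] using this)
      · intro q
        obtain ⟨s, rfl⟩ := QuotientGroup.mk_surjective q
        obtain ⟨h, hh, k, hk, rfl⟩ := hHK s
        exact ⟨QuotientGroup.mk (⟨h, hh⟩ : ↥H), QuotientGroup.eq.mpr (by simpa using hk)⟩
    have h2 : K.relIndex C ≤ K.relIndex H := by
      refine le_trans ?_ h1
      rw [← Subgroup.relIndex_top_right]
      exact Subgroup.relIndex_le_of_le_right le_top Subgroup.index_ne_zero_of_finite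
    have h3 : ∀ L : Subgroup S, Nat.card ↥(L ⊓ K) * K.relIndex L = Nat.card ↥L := by
      intro L
      rw [inf_comm L K, ← Subgroup.subgroupOf_map_subtype K L,
        Subgroup.card_map_of_injective (Subgroup.subtype_injective L)]
      exact Subgroup.card_mul_index _
    rw [← h3 C, ← h3 H]
    exact Nat.mul_le_mul (Subgroup.card_le_of_le hle) h2
  refine le_min ?_ ?_
  · exact hrel A B hAB hcB
  · refine hrel B A (fun s => ?_) (hcA.trans (by rw [inf_comm]))
    obtain ⟨a, ha, b, hb, h⟩ := hAB s⁻¹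
    exact ⟨b⁻¹, inv_mem hb, a⁻¹, inv_mem ha, by rw [← mul_inv_rev, ← h, inv_inv]⟩

end Cfsg.Agent.S3163
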