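import Cfsg.Statements.S3164
import Cfsg.Agent.Lib.StdElem.Basic
import Cfsg.Agent.Lib.Components.Basic

set_option autoImplicit false
open Cfsg
open scoped commutatorElement

namespace Cfsg.Agent.S3164

/-- Let A be a standard subgroup of a finite group G whose centralizer has cyclic Sylow 2-subgroups, t an involution centralizing A, and X the normal closure of A in G. If X has a t-invariant 2-subgroup R with [R, t] nontrivial and contained in A, then X is semisimple (X equals its own layer, a central product of quasisimple groups) and the centre of X has odd order. -/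
theorem result {G : Type*} [Group G] [Finite G] (A : Subgroup G) (hA : Cfsg.IsStandardSubgroup A)
    (hcyc : ∀ R : Sylow 2 ↥(Subgroup.centralizer (A : Set G)), IsCyclic ↥(R : Subgroup ↥(Subgroup.centralizer (A : Set G)))) (t : G) (ht : orderOf t = 2) (htA : t ∈ Subgroup.centralizer (A : Set G))
    (R : Subgroup G) (hR2 : IsPGroup 2 ↥R) (hRX : R ≤ Subgroup.normalClosure (A : Set G)) (hRt : ∀ r ∈ R, t * r * t⁻¹ ∈ R)
    (hc1 : ⁅R, Subgroup.zpowers t⁆ ≠ ⊥) (hc2 : ⁅R, Subgroup.zpowers t⁆ ≤ A) :
    Cfsg.layer ↥(Subgroup.normalClosure (A : Set G)) = ⊤ ∧ Odd (Nat.card ↥(Subgroup.center ↥(Subgroup.normalClosure (A : Set G)))) := by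
  have hG : ∀ {g k : G}, k ∈ Subgroup.centralizer ({g} : Set G) ↔ k * g = g * k :=
    Subgroup.mem_centralizer_singleton_iff
  set C := Subgroup.centralizer (A : Set G) with hCdef
  have ht2 : t * t = 1 := by rw [← pow_two, ← ht]; exact pow_orderOf_eq_one t
  have hti : t⁻¹ = t := inv_eq_of_mul_eq_one_left ht2
  -- commuting involutions of the centralizer coincide
  have huniq : ∀ z ∈ C, orderOf z = 2 → t * z = z * t → z = t := by
    intro z hz hz2 hzt
    have := StdElem.eq_of_cyclic_sylow (G := ↥C) hcyc (z := ⟨z, hz⟩) (t := ⟨t, htA⟩)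
      (by rw [Subgroup.orderOf_mk]; exact hz2) (by rw [Subgroup.orderOf_mk]; exact ht)
      (Subtype.ext hzt.symm)
    exact congrArg Subtype.val this
  have hAA : ⁅A, A⁆ = A := Subgroup.isPerfect_iff.mp hA.1.1
  have hAC : ¬ A ≤ C := fun h => Components.IsQuasisimple.not_isMulCommutative hA.1
    ⟨⟨fun x y => Subtype.ext (h y.2 x x.2)⟩⟩
  -- the element `a = [r, t]`
  obtain ⟨r, hr, a, hra, ha1, haA⟩ : ∃ r ∈ R, ∃ a, r * t * r⁻¹ = a * t ∧ a ≠ 1 ∧ a ∈ A := by
    by_contra hcon
    push Not at hcon
    refine hc1 (Subgroup.commutator_eq_bot_iff_le_centralizer.mpr fun r hr => ?_)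
    have h : r * t * r⁻¹ * t⁻¹ = 1 := by
      by_contra hne
      exact hcon r hr _ (by group) hne (hc2 (Subgroup.commutator_mem_commutator hr (Subgroup.mem_zpowers t)))
    rintro _ ⟨i, rfl⟩
    have hc : Commute r t := mul_inv_eq_iff_eq_mul.mp (mul_inv_eq_one.mp h)
    exact (hc.zpow_right i).eq.symm
  have hat : a * t = t * a := htA a haA
  have haa : a * a = 1 := by
    have h : a * t * (a * t) = 1 := by
      rw [← hra]
      calc r * t * r⁻¹ * (r * t * r⁻¹) = r * (t * t) * r⁻¹ := by group
        _ = 1 := by rw [ht2]; group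
    calc a * a = a * (t * t) * a := by rw [ht2, mul_one]
      _ = a * t * (t * a) := by group
      _ = a * t * (a * t) := by rw [← hat]
      _ = 1 := h
  have hai : a⁻¹ = a := inv_eq_of_mul_eq_one_left haa
  have haC : a ∉ C := by
    intro h
    have ha2 : orderOf a = 2 := orderOf_eq_prime (by rw [pow_two]; exact haa) ha1
    have := huniq a h ha2 hat.symm
    rw [this, ht2, conj_eq_one_iff] at hra
    rw [hra] at ht
    simp at ht
  -- normal subgroups in the centralizer have odd order
  have hodd : ∀ N : Subgroup G, N.Normal → ¬ A ≤ N → Odd (Nat.card ↥N) := by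
    intro N hN hAN
    by_contra hev
    obtain ⟨z, hzN, hz2, hzt⟩ := StdElem.exists_involution_fixed (N := N) (Nat.not_odd_iff_even.mp hev) ht
    have hzC := StdElem.commutator_eq_bot_of_standard hA hAN ht htA ⟨hzN, hG.mpr hzt.symm⟩
    have htN : t ∈ N := huniq z hzC hz2 hzt ▸ hzN
    have haN : a ∈ N := by
      have h : a = r * t * r⁻¹ * t := by rw [hra, mul_assoc, ht2, mul_one]
      rw [h]; exact mul_mem (hN.conj_mem t htN r) htN
    exact haC (StdElem.commutator_eq_bot_of_standard hA hAN ht htA ⟨haN, hG.mpr hat⟩)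
  -- every normal subgroup contains `A` or centralises it
  have key : ∀ N : Subgroup G, N.Normal → A ≤ N ∨ N ≤ C := by
    intro N hN
    by_cases hAN : A ≤ N
    · exact Or.inl hAN
    right
    have hW := StdElem.commutator_eq_bot_of_standard hA hAN ht htA
    -- fixed points of `a t` and of `t` agree
    let W := N ⊓ Subgroup.centralizer ({t} : Set G)
    let W' := N ⊓ Subgroup.centralizer ({a * t} : Set G)
    have hle : W ≤ W' := by
      intro w hw
      refine ⟨hw.1, hG.mpr ?_⟩
      have h1 : a * w = w * a := hW hw a haA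
      rw [← mul_assoc, ← h1, mul_assoc, hG.mp hw.2, ← mul_assoc]
    have hcard : Nat.card ↥W' ≤ Nat.card ↥W := by
      rw [← Subgroup.card_map_of_injective (K := W') (f := (MulAut.conj r⁻¹).toMonoidHom) (MulAut.conj r⁻¹).injective]
      refine Subgroup.card_le_of_le ?_
      rintro _ ⟨w, hw, rfl⟩
      refine ⟨hN.conj_mem w hw.1 r⁻¹, hG.mpr ?_⟩
      show r⁻¹ * w * r⁻¹⁻¹ * t = t * (r⁻¹ * w * r⁻¹⁻¹)
      calc r⁻¹ * w * r⁻¹⁻¹ * t = r⁻¹ * (w * (r * t * r⁻¹)) * r := by group
        _ = r⁻¹ * ((r * t * r⁻¹) * w) * r := by rw [hra, hG.mp hw.2]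
        _ = t * (r⁻¹ * w * r⁻¹⁻¹) := by group
    have heq : W = W' := Subgroup.eq_of_le_of_card_ge hle hcard
    have conjfix : ∀ u x : G, u * u = 1 → (u * x * u = x ↔ x * u = u * x) := by
      intro u x hu
      constructor
      · intro h
        calc x * u = (u * x * u) * u := by rw [h]
          _ = u * x * (u * u) := by group
          _ = u * x := by rw [hu, mul_one]
      · intro h
        rw [← h, mul_assoc, hu, mul_one]
    have hfix := StdElem.centralizes_of_fixed (hodd N hN hAN) ht2 haa hat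
      (fun x hx => by simpa [hti] using hN.conj_mem x hx t)
      (fun x hx => by simpa [hai] using hN.conj_mem x hx a)
      (fun x hx hxt => (conjfix a x haa).mpr (hW ⟨hx, hG.mpr ((conjfix t x ht2).mp hxt)⟩ a haA).symm)
      (fun x hx hxat => by
        have h2 : a * t * (a * t) = 1 := by rw [← mul_assoc, mul_assoc a t a, ← hat, ← mul_assoc, haa, one_mul, ht2]
        have h3 : (a * t) * x * (a * t) = x := by
          nth_rw 2 [hat]
          simpa [mul_assoc] using hxat
        have : x ∈ W := heq ▸ ⟨hx, hG.mpr ((conjfix (a * t) x h2).mp h3)⟩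
        exact (conjfix t x ht2).mpr (hG.mp this.2))
    -- so `A` centralises `N`
    haveI hK : (Subgroup.centralizer (N : Set G)).Normal := inferInstance
    haveI : ((Subgroup.centralizer (N : Set G)).subgroupOf A).Normal := Subgroup.normal_subgroupOf
    rcases Components.IsQuasisimple.normal_eq_top_or_le_center hA.1 ((Subgroup.centralizer (N : Set G)).subgroupOf A) with h | h
    · intro x hx y hy
      exact ((Subgroup.subgroupOf_eq_top.mp h) hy x hx).symm
    · refine absurd (fun y hy => ?_) haC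
      exact congrArg Subtype.val (Subgroup.mem_center_iff.mp (h (show (⟨a, haA⟩ : ↥A) ∈ _ from
        fun x hx => ((conjfix a x haa).mp (hfix x hx)))) ⟨y, hy⟩)
  -- the normal closure
  set X := Subgroup.normalClosure (A : Set G) with hXdef
  have hAX : A ≤ X := Subgroup.le_normalClosure
  have hmin : ∀ N : Subgroup G, N.Normal → N ≤ X → N = X ∨ N ≤ Subgroup.centralizer (X : Set G) := by
    intro N hN hle
    rcases key N hN with h | h
    · exact Or.inl (le_antisymm hle (Subgroup.normalClosure_le_normal h))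
    · right
      intro x hx y hy
      have hXC : X ≤ Subgroup.centralizer (N : Set G) := Subgroup.normalClosure_le_normal fun a' ha' x hx => (h hx a' ha').symm
      exact (hXC hy x hx).symm
  set Z := X ⊓ Subgroup.centralizer (X : Set G) with hZdef
  haveI hXn : X.Normal := Subgroup.normalClosure_normal
  haveI hZn : Z.Normal := Subgroup.normal_inf_normal _ _
  have hZC : Z ≤ C := fun z hz y hy => hz.2 y (hAX hy)
  have hXX : ⁅X, X⁆ = X := le_antisymm (Subgroup.commutator_le_left X X)
    (Subgroup.normalClosure_le_normal (show A ≤ ⁅X, X⁆ from hAA.ge.trans (Subgroup.commutator_mono hAX hAX)))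
  constructor
  swap
  · have h := hodd Z hZn fun hAZ => hAC (hAZ.trans hZC)
    rwa [hZdef, ← Components.center_map_subtype,
      Subgroup.card_map_of_injective (Subgroup.subtype_injective X)] at h
  -- a minimal noncentral `X`-invariant subgroup containing the centre
  let S : Set (Subgroup G) := {M | Z ≤ M ∧ M ≤ X ∧ X ≤ Subgroup.normalizer (M : Set G) ∧ ¬ M ≤ Z}
  have hXS : X ∈ S := ⟨inf_le_left, le_rfl, Subgroup.le_normalizer, fun h => hAC (hAX.trans (h.trans hZC))⟩
  obtain ⟨M, hMX, hMmin⟩ := Set.Finite.exists_le_minimal (Set.toFinite S) hXS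
  obtain ⟨hZM, hMX', hMn, hMZ⟩ := hMmin.prop
  have hsmall : ∀ N : Subgroup G, N ≤ M → X ≤ Subgroup.normalizer (N : Set G) → N ≤ Z ∨ N ⊔ Z = M := by
    intro N hNM hNn
    by_cases hNZ : N ≤ Z
    · exact Or.inl hNZ
    right
    have hn : X ≤ Subgroup.normalizer ((N ⊔ Z : Subgroup G) : Set G) := by
      intro x hx
      rw [Subgroup.mem_normalizer_iff_map_conj_eq, Subgroup.map_sup,
        Subgroup.mem_normalizer_iff_map_conj_eq.mp (hNn hx)]
      congr 1
      exact Subgroup.mem_normalizer_iff_map_conj_eq.mp (Subgroup.normalizer_eq_top (H := Z) ▸ Subgroup.mem_top x)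
    exact le_antisymm (sup_le hNM hZM) (hMmin.le_of_le
      ⟨le_sup_right, sup_le (hNM.trans hMX') inf_le_left, hn, fun h => hNZ (le_sup_left.trans h)⟩ (sup_le hNM hZM))
  -- the conjugates of `M`
  let f := fun g : G => M.map (MulAut.conj g).toMonoidHom
  have hfX : ∀ g, f g ≤ X := by
    intro g
    rintro _ ⟨m, hm, rfl⟩
    exact hXn.conj_mem m (hMX' hm) g
  have hf1 : f 1 = M := by ext; simp [f]
  have hff : ∀ g h, (f g).map (MulAut.conj h).toMonoidHom = f (h * g) := by
    intro g h
    show (M.map _).map _ = M.map _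
    rw [Subgroup.map_map]
    congr 1
    ext m; simp [mul_assoc]
  have hfn : ∀ g, X ≤ Subgroup.normalizer (f g : Set G) := by
    intro g x hx
    have hx' : g⁻¹ * x * g⁻¹⁻¹ ∈ X := hXn.conj_mem x hx g⁻¹
    rw [Subgroup.mem_normalizer_iff_map_conj_eq]
    refine Eq.trans (hff g x) ?_
    show f (x * g) = f g
    have h := congrArg (Subgroup.map (MulAut.conj g).toMonoidHom)
      (show f (g⁻¹ * x * g⁻¹⁻¹) = M from Subgroup.mem_normalizer_iff_map_conj_eq.mp (hMn hx'))
    rw [hff] at h
    simpa [f, mul_assoc] using h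
  have hsupn : (⨆ g, f g).Normal := by
    rw [← Subgroup.normalizer_eq_top_iff, eq_top_iff]
    intro h _
    rw [Subgroup.mem_normalizer_iff_map_conj_eq]
    refine Eq.trans (Subgroup.map_iSup _ _) ?_
    refine Eq.trans (iSup_congr fun g => hff g h) ?_
    exact (Equiv.mulLeft h).iSup_comp (g := f)
  have hsup : (⨆ g, f g) = X := by
    refine (hmin _ hsupn (iSup_le hfX)).resolve_right fun h => hMZ (le_inf hMX' ?_)
    exact hf1 ▸ (le_iSup f 1).trans h
  have hpair : ∀ g, f g ≠ M → ⁅M, f g⁆ ≤ Z := by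
    intro g hne
    have hXle : ∀ P Q : Subgroup G, P ≤ X → X ≤ Subgroup.normalizer (Q : Set G) → ⁅P, Q⁆ ≤ Q := by
      intro P Q hP hQ
      rw [Subgroup.commutator_le]
      intro p hp q hq
      exact mul_mem ((Subgroup.mem_normalizer_iff.mp (hQ (hP hp)) q).mp hq) (inv_mem hq)
    have h1 : ⁅M, f g⁆ ≤ f g := hXle _ _ hMX' (hfn g)
    have h2 : ⁅M, f g⁆ ≤ M := Subgroup.commutator_comm M (f g) ▸ hXle _ _ (hfX g) hMn
    have hn : X ≤ Subgroup.normalizer ((⁅M, f g⁆ : Subgroup G) : Set G) := by
      intro x hx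
      rw [Subgroup.mem_normalizer_iff_map_conj_eq]
      refine Eq.trans (Subgroup.map_commutator _ _ _) ?_
      congr 1
      · exact Subgroup.mem_normalizer_iff_map_conj_eq.mp (hMn hx)
      · exact Subgroup.mem_normalizer_iff_map_conj_eq.mp (hfn g hx)
    refine (hsmall _ h2 hn).resolve_right fun he => hne (le_antisymm ?_ ?_).symm
    · exact he.ge.trans (sup_le h1 (by
        intro z hz
        exact ⟨g⁻¹ * z * g⁻¹⁻¹, hZM (hZn.conj_mem z hz g⁻¹), by simp [mul_assoc]⟩))
    · refine (Subgroup.eq_of_le_of_card_ge (he.ge.trans (sup_le h1 ?_)) ?_).ge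
      · intro z hz
        exact ⟨g⁻¹ * z * g⁻¹⁻¹, hZM (hZn.conj_mem z hz g⁻¹), by simp [mul_assoc]⟩
      · rw [Subgroup.card_map_of_injective (MulAut.conj g).injective]
  set K := ⁅M, M⁆ with hKdef
  have hKM : K ≤ M := Subgroup.commutator_le_self M
  have hKn : X ≤ Subgroup.normalizer (K : Set G) := by
    intro x hx
    rw [Subgroup.mem_normalizer_iff_map_conj_eq]
    refine Eq.trans (Subgroup.map_commutator _ _ _) ?_
    exact congrArg₂ _ (Subgroup.mem_normalizer_iff_map_conj_eq.mp (hMn hx)) (Subgroup.mem_normalizer_iff_map_conj_eq.mp (hMn hx))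
  -- `M` is not abelian modulo the centre
  have hKZ : ¬ K ≤ Z := by
    intro hK
    have hall : ∀ g h, ⁅f g, f h⁆ ≤ Z := by
      intro g h
      have h0 : ⁅M, f (g⁻¹ * h)⁆ ≤ Z := by
        by_cases he : f (g⁻¹ * h) = M
        · rw [he]; exact hK
        · exact hpair _ he
      have h1 := Subgroup.map_mono (f := (MulAut.conj g).toMonoidHom) h0
      rw [Subgroup.map_commutator, hff] at h1
      simp only [mul_inv_cancel_left] at h1
      refine h1.trans ?_
      rintro _ ⟨z, hz, rfl⟩
      exact hZn.conj_mem z hz g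
    let π := QuotientGroup.mk' Z
    have hπ : ∀ P : Subgroup G, P ≤ Z → P.map π = ⊥ := fun P hP => by
      rw [Subgroup.map_eq_bot_iff, QuotientGroup.ker_mk']; exact hP
    have h1 : (⁅X, X⁆).map π = ⊥ := by
      rw [← hsup, Subgroup.map_commutator, Subgroup.map_iSup, Subgroup.commutator_eq_bot_iff_le_centralizer]
      refine iSup_le fun g => Subgroup.le_centralizer_iff.mp (iSup_le fun h => ?_)
      rw [← Subgroup.commutator_eq_bot_iff_le_centralizer, ← Subgroup.map_commutator]
      exact hπ _ (hall h g)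
    rw [hXX, Subgroup.map_eq_bot_iff, QuotientGroup.ker_mk'] at h1
    exact hAC (hAX.trans (h1.trans hZC))
  have hKM' : K ⊔ Z = M := (hsmall K hKM hKn).resolve_left hKZ
  -- conjugates other than `M` centralise `K`
  have hother : ∀ g, f g ≠ M → f g ≤ Subgroup.centralizer (K : Set G) := by
    intro g hne
    have hz : ⁅⁅M, f g⁆, M⁆ = ⊥ := Subgroup.commutator_eq_bot_iff_le_centralizer.mpr
      ((hpair g hne).trans fun z hz m hm => hz.2 m (hMX' hm))
    have hz' : ⁅⁅f g, M⁆, M⁆ = ⊥ := by rwa [Subgroup.commutator_comm (f g) M]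
    have h := Subgroup.commutator_commutator_eq_bot_of_rotate hz hz'
    rw [← Subgroup.commutator_eq_bot_iff_le_centralizer, Subgroup.commutator_comm]
    exact h
  have hNN : ∀ N : Subgroup G, N ≤ M → N ⊔ Z = M → K ≤ ⁅N, N⁆ := by
    intro N hNM he
    rw [hKdef, Subgroup.commutator_le]
    intro x hx y hy
    rw [← he] at hx hy
    obtain ⟨x', hx', z, hz, rfl⟩ := Subgroup.mem_sup_of_normal_right.mp hx
    obtain ⟨y', hy', w, hw, rfl⟩ := Subgroup.mem_sup_of_normal_right.mp hy
    have c1 : ∀ m ∈ X, z * m = m * z := fun m hm => (hz.2 m hm).symm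
    have c2 : ∀ m ∈ X, w * m = m * w := fun m hm => (hw.2 m hm).symm
    have hx'' : x' ∈ X := hMX' (hNM hx')
    have hy'' : y' ∈ X := hMX' (hNM hy')
    have e1 : ⁅x' * z, y' * w⁆ = ⁅x', y'⁆ := by
      simp only [commutatorElement_def, mul_inv_rev]
      calc x' * z * (y' * w) * (z⁻¹ * x'⁻¹) * (w⁻¹ * y'⁻¹)
          = x' * (z * (y' * w)) * z⁻¹ * x'⁻¹ * (w⁻¹ * y'⁻¹) := by group
        _ = x' * y' * (w * x'⁻¹) * w⁻¹ * y'⁻¹ := by rw [c1 _ (mul_mem hy'' hw.1)]; group
        _ = x' * y' * x'⁻¹ * y'⁻¹ := by rw [c2 _ (inv_mem hx'')]; group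
    rw [e1]
    exact Subgroup.commutator_mem_commutator hx' hy'
  have hKK : ⁅K, K⁆ = K := le_antisymm (Subgroup.commutator_le_self K) (hNN K hKM hKM')
  have hKX : K ≤ X := hKM.trans hMX'
  have hq : Cfsg.IsQuasisimple ↥K := by
    haveI : Group.IsPerfect ↥K := Subgroup.isPerfect_iff.mpr hKK
    haveI : Nontrivial ↥K := by
      rw [Subgroup.nontrivial_iff_ne_bot]
      intro h; exact hKZ (h ▸ bot_le)
    refine Components.isQuasisimple_of_normal_le_center fun N hN => ?_
    set N' := N.map K.subtype with hN'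
    have hN'K : N' ≤ K := Subgroup.map_subtype_le N
    have hnX : X ≤ Subgroup.normalizer (N' : Set G) := by
      rw [← hsup]
      refine iSup_le fun g => ?_
      by_cases he : f g = M
      · rw [he, ← hKM', sup_le_iff]
        refine ⟨?_, ?_⟩
        · refine (Subgroup.normal_subgroupOf_iff_le_normalizer hN'K).mp ?_
          rwa [hN', Subgroup.subgroupOf, Subgroup.comap_map_eq_self_of_injective (Subgroup.subtype_injective _)]
        · intro z hz
          exact Subgroup.centralizer_le_normalizer _ fun n hn => hz.2 n (hKX (hN'K hn))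
      · exact le_trans (hother g he) fun x hx => Subgroup.centralizer_le_normalizer _ fun n hn => hx n (hN'K hn)
    rcases hsmall N' (hN'K.trans hKM) hnX with h | h
    · right
      intro n hn
      exact Subgroup.mem_center_iff.mpr fun k => Subtype.ext ((h ⟨n, hn, rfl⟩).2 k (hKX k.2))
    · left
      have h1 : K ≤ N' := (hNN N' (hN'K.trans hKM) h).trans (Subgroup.commutator_le_self N')
      rw [eq_top_iff]
      intro k _
      obtain ⟨n, hn, hnk⟩ := h1 k.2
      rwa [← Subtype.ext hnk]
  have hcomp : Cfsg.IsComponent (K.subgroupOf X) :=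
    ⟨(((Subgroup.normal_subgroupOf_iff_le_normalizer hKX).mpr hKn)).isSubnormal,
      (Components.isQuasisimple_congr (Subgroup.subgroupOfEquivOfLe hKX)).mpr hq⟩
  -- the layer is normal in the whole group
  haveI hchar : (Cfsg.layer ↥X).Characteristic := Components.layer_characteristic
  have hL : ((Cfsg.layer ↥X).map X.subtype).Normal := inferInstance
  have hKL : K ≤ (Cfsg.layer ↥X).map X.subtype := by
    have := Subgroup.map_mono (f := X.subtype) (Components.IsComponent.le_layer hcomp)
    rwa [Subgroup.map_subgroupOf_eq_of_le hKX] at this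
  rcases hmin _ hL (Subgroup.map_subtype_le _) with h | h
  · refine Subgroup.map_injective (Subgroup.subtype_injective X) (h.trans ?_)
    rw [← MonoidHom.range_eq_map, Subgroup.range_subtype]
  · exact absurd (le_inf hKX (hKL.trans h)) hKZ

end Cfsg.Agent.S3164
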