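import Cfsg.Statements.S3166
import Cfsg.Agent.EqLemmas

set_option autoImplicit false
open Cfsg

namespace Cfsg.Agent.S3166

/-- Let q = 2^n with n ≥ 1. If q⁴ − q³ + q² − q + 1 is a power p^m of a prime p, then m = 1: the value is never a prime power with exponent greater than 1. -/
theorem result (n p m : ℕ) (hn : 1 ≤ n) (hp : p.Prime) (h : (2 ^ n) ^ 4 - (2 ^ n) ^ 3 + (2 ^ n) ^ 2 - 2 ^ n + 1 = p ^ m) : m = 1 := by
  have hq : 2 ≤ 2 ^ n := by
    calc 2 = 2 ^ 1 := rfl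
      _ ≤ 2 ^ n := Nat.pow_le_pow_right (by norm_num) hn
  obtain ⟨r, hr⟩ : ∃ r, 2 ^ n = r := ⟨_, rfl⟩
  rw [hr] at h hq
  -- the value as an integer identity
  have h1 : r ^ 3 ≤ r ^ 4 := Nat.pow_le_pow_right (by omega) (by norm_num)
  have h2 : r ≤ r ^ 4 - r ^ 3 + r ^ 2 := le_trans (Nat.le_self_pow (by norm_num) r) (Nat.le_add_left _ _)
  have hZ : ((p : ℤ)) ^ m = (r : ℤ) ^ 4 - (r : ℤ) ^ 3 + (r : ℤ) ^ 2 - r + 1 := by
    have := congrArg (Nat.cast (R := ℤ)) h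
    push_cast [Nat.cast_sub h1, Nat.cast_sub h2] at this
    linarith
  have hrZ : (2 : ℤ) ≤ r := by exact_mod_cast hq
  have hr2 : (2 : ℤ) ∣ r := by
    rw [← hr]; push_cast; exact dvd_pow_self 2 (by omega)
  -- the parity of `m`
  rcases Nat.even_or_odd m with ⟨k, hk⟩ | hm
  · exfalso
    rw [hk, ← two_mul, mul_comm, pow_mul] at hZ
    set y : ℤ := (p : ℤ) ^ k
    have hy : 0 < y := pow_pos (by exact_mod_cast hp.pos) k
    have u : (2 * y) ^ 2 < (2 * (r : ℤ) ^ 2 - r + 1) ^ 2 := by nlinarith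
    have l : (2 * (r : ℤ) ^ 2 - r) ^ 2 < (2 * y) ^ 2 := by nlinarith
    have hpos : 0 < 2 * (r : ℤ) ^ 2 - r := by nlinarith
    have u' : 2 * y < 2 * (r : ℤ) ^ 2 - r + 1 := by
      nlinarith
    have l' : 2 * (r : ℤ) ^ 2 - r < 2 * y := by
      nlinarith
    omega
  by_contra hm1
  -- `r` divides `p - 1`
  obtain ⟨i, hi⟩ := hm
  have hp2 : (p : ℤ) % 2 = 1 := by
    rcases hp.eq_two_or_odd with h' | h'
    · exfalso
      subst h'
      have h0 : (2 : ℤ) ∣ ((2 : ℕ) : ℤ) ^ m := by push_cast; exact dvd_pow_self 2 (by omega)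
      rw [hZ] at h0
      obtain ⟨c, hc⟩ := hr2
      obtain ⟨d, hd⟩ := h0
      rw [hc] at hd
      have : (1 : ℤ) = 2 * (d - 8 * c ^ 4 + 4 * c ^ 3 - 2 * c ^ 2 + c) := by linear_combination hd
      omega
    · omega
  have hg : (p : ℤ) ^ m - 1 = ((p : ℤ) - 1) * ∑ j ∈ Finset.range m, (p : ℤ) ^ j := by
    rw [mul_comm, geom_sum_mul]
  have hodd : IsCoprime ((2 : ℤ) ^ n) (∑ j ∈ Finset.range m, (p : ℤ) ^ j) := by
    refine IsCoprime.pow_left ?_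
    rw [Int.prime_two.coprime_iff_not_dvd]
    have h2' : ((∑ j ∈ Finset.range m, (p : ℤ) ^ j : ℤ) : ZMod 2) = 1 := by
      have hp' : ((p : ℤ) : ZMod 2) = 1 := by
        rw [← Int.cast_one, ZMod.intCast_eq_intCast_iff']
        omega
      have h20 : (2 : ZMod 2) = 0 := rfl
      simp only [Int.cast_sum, Int.cast_pow, hp', one_pow, Finset.sum_const, Finset.card_range]
      rw [hi]; simp [h20]
    intro hd
    have h0 := (ZMod.intCast_zmod_eq_zero_iff_dvd _ 2).mpr hd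
    rw [h2'] at h0
    exact one_ne_zero h0
  have hdvd : (2 : ℤ) ^ n ∣ (p : ℤ) - 1 := by
    refine hodd.dvd_of_dvd_mul_right ?_
    rw [← hg, hZ, show ((2 : ℤ) ^ n) = (r : ℤ) by rw [← hr]; push_cast; rfl]
    exact ⟨(r : ℤ) ^ 3 - (r : ℤ) ^ 2 + r - 1, by ring⟩
  rw [show ((2 : ℤ) ^ n) = (r : ℤ) by rw [← hr]; push_cast; rfl] at hdvd
  obtain ⟨k, hk⟩ := hdvd
  have hp3 : (3 : ℤ) ≤ p := by
    have := hp.two_le
    omega
  have hk1 : 1 ≤ k := by nlinarith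
  have hpr : (r : ℤ) < p := by nlinarith
  have hlt : (p : ℤ) ^ m < (r : ℤ) ^ 4 := by
    rw [hZ]; nlinarith
  have hm3 : m < 4 := by
    by_contra h4
    have h41 : (p : ℤ) ^ 4 ≤ (p : ℤ) ^ m := pow_le_pow_right₀ (by omega) (by omega)
    have h42 : (r : ℤ) ^ 4 ≤ (p : ℤ) ^ 4 := pow_le_pow_left₀ (by omega) hpr.le 4
    omega
  have hm' : m = 3 := by omega
  subst hm'
  have hpk : (p : ℤ) = 1 + r * k := by omega
  have heq : 3 * k + 3 * k ^ 2 * r + k ^ 3 * r ^ 2 = -1 + (r : ℤ) - (r : ℤ) ^ 2 + (r : ℤ) ^ 3 := by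
    refine mul_left_cancel₀ (show (r : ℤ) ≠ 0 by omega) ?_
    rw [hpk] at hZ
    linear_combination hZ
  have hdv : (r : ℤ) ∣ 3 * k + 1 :=
    ⟨1 - (r : ℤ) + (r : ℤ) ^ 2 - 3 * k ^ 2 - k ^ 3 * r, by linear_combination heq⟩
  have hle := Int.le_of_dvd (by omega) hdv
  have hk3 : k ^ 3 < (r : ℤ) := by
    have h5 : ((r : ℤ) * k) ^ 3 ≤ (p : ℤ) ^ 3 := pow_le_pow_left₀ (by positivity) (by omega) 3
    have h6 : (r : ℤ) ^ 3 * k ^ 3 < (r : ℤ) ^ 3 * r := by nlinarith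
    exact lt_of_mul_lt_mul_left h6 (by positivity)
  have hk2 : k ≤ 2 := by
    by_contra hk2
    have h7 : 9 * k ≤ k ^ 3 := by nlinarith [mul_le_mul (show (3:ℤ) ≤ k by omega) (show (3:ℤ) ≤ k by omega) (by norm_num) (by omega)]
    omega
  have hr7 : (r : ℤ) ≤ 7 := by omega
  interval_cases k <;> interval_cases hrv : (r : ℤ) <;> omega

end Cfsg.Agent.S3166
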