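import Cfsg.Statements.S3175
import Cfsg.Agent.EqLemmas
import Cfsg.Agent.Lib.RudvalisTwo.Rigid
import Cfsg.Agent.Lib.RankTwo.Solvable

set_option autoImplicit false
open Cfsg

namespace Cfsg.Agent.S3175

/-- Let G be a finite group whose Sylow 2-subgroup T has order at least 2^14 and whose upper central series has fourth term of order 16; let W be the centralizer in T of the third term, and suppose the Frattini subgroup of W has order at most 8 and lies in every subgroup of W of index at most 16. Then the normalizer of T in G has a normal 2-complement, and W is weakly closed in T with respect to G. -/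
theorem result {G : Type*} [Group G] [Finite G]
    (T : Sylow 2 G) (ha : 2 ^ 14 ≤ Nat.card ↥(T : Subgroup G))
    (hb : Nat.card ↥(Subgroup.upperCentralSeries ↥(T : Subgroup G) 4) = 16)
    (W : Subgroup ↥(T : Subgroup G))
    (hW : W = Subgroup.centralizer ((Subgroup.upperCentralSeries ↥(T : Subgroup G) 3 : Subgroup ↥(T : Subgroup G)) : Set ↥(T : Subgroup G)))
    (hc : Nat.card ↥(frattini ↥W) ≤ 8)
    (hd : ∀ U : Subgroup ↥W, U.index ≤ 16 → frattini ↥W ≤ U) :
    Cfsg.HasNormalPComplement 2 ↥(Subgroup.normalizer ((T : Subgroup G) : Set G)) ∧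
      Cfsg.IsWeaklyClosed (W.map (T : Subgroup G).subtype) (T : Subgroup G) := by
  haveI : Fact (Nat.Prime 2) := ⟨Nat.prime_two⟩
  have h : Cfsg.Agent.RudvalisTwo.Hyp ↥(T : Subgroup G) W :=
    ⟨T.isPGroup', ha, hb, hW, hc, hd⟩
  refine ⟨?_, Subgroup.map_subtype_le _, fun g hg => ?_⟩
  · set N := Subgroup.normalizer ((T : Subgroup G) : Set G) with hN
    let T' : Sylow 2 ↥N := T.subtype Subgroup.le_normalizer
    have hT' : (T' : Subgroup ↥N) = (T : Subgroup G).subgroupOf N := rfl
    haveI hn : (T' : Subgroup ↥N).Normal := by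
      rw [hT', hN]
      exact Subgroup.normal_subgroupOf_iff_le_normalizer Subgroup.le_normalizer |>.mpr le_rfl
    have hnd : ¬ 2 ∣ (T' : Subgroup ↥N).index := T'.not_dvd_index
    obtain ⟨n, hcardT⟩ := IsPGroup.iff_card.mp T'.isPGroup'
    obtain ⟨K, hK⟩ := Subgroup.exists_right_complement'_of_coprime
      (N := (T' : Subgroup ↥N)) (by
        rw [hcardT]
        exact Nat.Coprime.pow_left n (Nat.prime_two.coprime_iff_not_dvd.mpr hnd))
    have hKodd : Odd (Nat.card ↥K) := by
      rw [← hK.symm.index_eq_card]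
      exact Nat.not_even_iff_odd.mp fun e => hnd e.two_dvd
    have hcomm : ∀ k ∈ K, ∀ t ∈ (T' : Subgroup ↥N), k * t = t * k := by
      intro k hk t ht
      have hk' : k.1 ∈ Subgroup.normalizer ((T : Subgroup G) : Set G) := k.2
      let φ : MulAut ↥(T : Subgroup G) :=
        (T : Subgroup G).normalizerMonoidHom ⟨k.1, hk'⟩
      have hφ : φ ^ Nat.card ↥K = 1 := by
        have e : (⟨k.1, hk'⟩ : ↥N) = k := rfl
        rw [show φ = (T : Subgroup G).normalizerMonoidHom k from rfl, ← map_pow]
        have : k ^ Nat.card ↥K = 1 :=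
          congrArg Subtype.val (pow_card_eq_one' (x := (⟨k, hk⟩ : ↥K)))
        rw [this, map_one]
      have h1 := h.aut_eq_one _ φ hKodd hφ
      have h2 : (φ ⟨t.1, ht⟩ : G) = t.1 := by rw [h1]; rfl
      have h3 : k.1 * t.1 * k.1⁻¹ = t.1 := h2
      exact Subtype.ext (mul_inv_eq_iff_eq_mul.mp h3)
    haveI : K.Normal := ⟨fun x hx y => by
      obtain ⟨⟨⟨t, ht⟩, ⟨k, hk⟩⟩, rfl⟩ := hK.surjective y
      show t * k * x * (t * k)⁻¹ ∈ K
      have hm : k * x * k⁻¹ ∈ K := mul_mem (mul_mem hk hx) (inv_mem hk)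
      rw [show t * k * x * (t * k)⁻¹ = t * (k * x * k⁻¹) * t⁻¹ by group,
        ← hcomm _ hm t ht, mul_inv_cancel_right]
      exact hm⟩
    refine Cfsg.Agent.RankTwo.hasNormalPComplement_of K ?_ ⟨n, ?_⟩
    · exact hKodd.coprime_two_right
    · rw [hK.index_eq_card, hcardT]
  · let e : ↥W →* ↥(T : Subgroup G) :=
      { toFun := fun w => ⟨g * (w.1 : G) * g⁻¹, hg ⟨w.1.1, Subgroup.mem_map_of_mem _ w.2, by simp⟩⟩
        map_one' := Subtype.ext (by simp)
        map_mul' := fun a b => Subtype.ext (by simp) }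
    have he : Function.Injective e := fun a b eab => by
      have := congrArg Subtype.val eab
      simp only [e, MonoidHom.coe_mk, OneHom.coe_mk, mul_left_inj, mul_right_inj] at this
      exact Subtype.ext (Subtype.ext this)
    have hr := h.range_eq he
    ext x
    constructor
    · rintro ⟨_, ⟨y, hy, rfl⟩, rfl⟩
      refine ⟨e ⟨y, hy⟩, hr.le ⟨⟨y, hy⟩, rfl⟩, ?_⟩
      simp [e]
    · rintro ⟨y, hy, rfl⟩
      rw [← hr] at hy
      obtain ⟨w, rfl⟩ := hy
      exact ⟨w.1.1, Subgroup.mem_map_of_mem _ w.2, by simp [e]⟩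

end Cfsg.Agent.S3175
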