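import Cfsg.Statements.S3178
import Cfsg.Agent.Lib.Transfer.Alperin
import Cfsg.Agent.Lib.FusionChain.SmallElements

set_option autoImplicit false
open Cfsg

namespace Cfsg.Agent.S3178

/-- Groups with a modular Sylow 2-subgroup have a normal 2-complement. Let S, of order 2^(n+1) with n ≥ 3, be a Sylow 2-subgroup of a finite group G, and suppose S contains an element a of order 2^n and an involution b with b a b⁻¹ = a^(2^(n-1) + 1); so S is the non-abelian 2-group with a cyclic subgroup of index 2 that is neither dihedral, semidihedral nor generalized quaternion. Then G has a normal 2-complement. -/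
theorem result {G : Type*} [Group G] [Finite G]
    (S : Sylow 2 G) (n : ℕ) (hn : 3 ≤ n) (hS : Nat.card ↥(S : Subgroup G) = 2 ^ (n + 1))
    (a b : G) (ha : a ∈ (S : Subgroup G)) (hb : b ∈ (S : Subgroup G))
    (hao : orderOf a = 2 ^ n) (hbo : orderOf b = 2) (hrel : b * a * b⁻¹ = a ^ (2 ^ (n - 1) + 1)) :
    Cfsg.HasNormalPComplement 2 G := by
  haveI : Fact (Nat.Prime 2) := ⟨Nat.prime_two⟩
  obtain ⟨m, rfl⟩ : ∃ m, n = m + 3 := ⟨n - 3, by omega⟩
  rw [show m + 3 - 1 = m + 2 by omega] at hrel
  have hb2 : b * b = 1 := by rw [← pow_two, ← hbo]; exact pow_orderOf_eq_one b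
  have hb1 : b ≠ 1 := by rintro rfl; simp at hbo
  have hbi : b⁻¹ = b := inv_eq_of_mul_eq_one_left hb2
  have he : ∀ i j : ℕ, a ^ i = a ^ j ↔ i ≡ j [MOD 2 ^ (m + 3)] := by
    intro i j; rw [pow_eq_pow_iff_modEq, hao]
  have hba : ∀ i : ℕ, b * a ^ i = a ^ (i * (2 ^ (m + 2) + 1)) * b := by
    intro i
    rw [mul_comm i, pow_mul, ← hrel, conj_pow]
    group
  obtain ⟨c, hcdef⟩ : ∃ c, a ^ (2 ^ (m + 1)) = c := ⟨_, rfl⟩
  obtain ⟨z, hzdef⟩ : ∃ z, a ^ (2 ^ (m + 2)) = z := ⟨_, rfl⟩
  have hc2 : c * c = z := by rw [← hcdef, ← hzdef, ← pow_add]; congr 1; ring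
  have hz2 : z * z = 1 := by
    rw [← hzdef, ← pow_add, show 2 ^ (m + 2) + 2 ^ (m + 2) = orderOf a by rw [hao]; ring]
    exact pow_orderOf_eq_one a
  have hz1 : z ≠ 1 := by
    rw [← hzdef]
    refine pow_ne_one_of_lt_orderOf (by positivity) ?_
    rw [hao]; exact Nat.pow_lt_pow_right (by norm_num) (by omega)
  have hbc : b * c = c * b := by
    rw [← hcdef, hba]
    congr 1
    rw [he, mul_add, mul_one, ← pow_add]
    have : 2 ^ (m + 1 + (m + 2)) ≡ 0 [MOD 2 ^ (m + 3)] :=
      Nat.modEq_zero_iff_dvd.mpr (pow_dvd_pow 2 (by omega))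
    simpa using this.add_right (2 ^ (m + 1))
  have haS : ∀ i : ℕ, a ^ i ∈ (S : Subgroup G) := fun i => pow_mem ha i
  -- `b` is outside the cyclic subgroup
  have hbnot : b ∉ Subgroup.zpowers a := by
    intro hb'
    obtain ⟨i, hi⟩ := Subgroup.mem_zpowers_iff.mp hb'
    have hc : b * a * b⁻¹ = a := by rw [← hi]; group
    rw [hrel] at hc
    refine hz1 ?_
    rw [← hzdef]
    exact mul_right_cancel (b := a) (by rw [← pow_succ, one_mul]; exact hc)
  -- normal forms
  have hform : ∀ s ∈ (S : Subgroup G), ∃ i : ℕ, s = a ^ i ∨ s = a ^ i * b := by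
    have hidx : ((Subgroup.zpowers a).subgroupOf (S : Subgroup G)).index = 2 := by
      have h1 := Subgroup.card_mul_index ((Subgroup.zpowers a).subgroupOf (S : Subgroup G))
      rw [Nat.card_congr (Subgroup.subgroupOfEquivOfLe (Subgroup.zpowers_le.mpr ha)).toEquiv, Nat.card_zpowers,
        hao, hS, pow_succ 2 (m + 3)] at h1
      exact Nat.eq_of_mul_eq_mul_left (by positivity) h1
    intro s hs
    by_cases hsa : s ∈ Subgroup.zpowers a
    · obtain ⟨i, hi⟩ := mem_powers_iff_mem_zpowers.mpr hsa
      exact ⟨i, Or.inl hi.symm⟩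
    · have h2 : s * b ∈ Subgroup.zpowers a := by
        have h3 := (Subgroup.mul_mem_iff_of_index_two hidx (a := ⟨s, hs⟩) (b := ⟨b, hb⟩)).mpr
          (by simp only [Subgroup.mem_subgroupOf]; exact iff_of_false hsa hbnot)
        exact h3
      obtain ⟨i, hi⟩ := mem_powers_iff_mem_zpowers.mpr h2
      refine ⟨i, Or.inr ?_⟩
      rw [show a ^ i = s * b from hi, mul_assoc, hb2, mul_one]
  have hsq : ∀ i : ℕ, (a ^ i * b) * (a ^ i * b) = a ^ (i * (2 ^ (m + 2) + 2)) := by
    intro i
    calc (a ^ i * b) * (a ^ i * b) = a ^ i * (b * a ^ i) * b := by group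
      _ = a ^ i * (a ^ (i * (2 ^ (m + 2) + 1)) * b) * b := by rw [hba]
      _ = a ^ i * a ^ (i * (2 ^ (m + 2) + 1)) * (b * b) := by group
      _ = a ^ (i * (2 ^ (m + 2) + 2)) := by rw [hb2, mul_one, ← pow_add]; congr 1; ring
  -- elements with fourth power one
  have hsmall : ∀ s ∈ (S : Subgroup G), s ^ 4 = 1 → ∃ k : ℕ, s = c ^ k ∨ s = c ^ k * b := by
    intro s hs h4
    have hdiv : ∀ i : ℕ, a ^ (4 * i) = 1 → ∃ k, a ^ i = c ^ k := by
      intro i hi
      have hd := orderOf_dvd_of_pow_eq_one hi
      rw [hao, show 2 ^ (m + 3) = 4 * 2 ^ (m + 1) by ring] at hd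
      obtain ⟨k, rfl⟩ := Nat.dvd_of_mul_dvd_mul_left (by norm_num) hd
      exact ⟨k, by rw [← hcdef, ← pow_mul]⟩
    obtain ⟨i, rfl | rfl⟩ := hform s hs
    · rw [← pow_mul, mul_comm] at h4
      obtain ⟨k, hk⟩ := hdiv i h4
      exact ⟨k, Or.inl hk⟩
    · rw [show (4 : ℕ) = 2 * 2 from rfl, pow_mul, pow_two, pow_two, hsq, ← pow_add] at h4
      have : a ^ (4 * i) = 1 := by
        rw [← h4, he]
        have : i * (2 ^ (m + 2) + 2) + i * (2 ^ (m + 2) + 2) = 4 * i + i * 2 ^ (m + 3) := by ring
        rw [this]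
        exact (Nat.modEq_zero_iff_dvd.mpr (Dvd.intro_left i rfl)).add_left (4 * i) |>.symm
      obtain ⟨k, hk⟩ := hdiv i this
      exact ⟨k, Or.inr (by rw [hk])⟩
  -- small elements commute
  have hcom : ∀ s t : G, (∃ k : ℕ, s = c ^ k ∨ s = c ^ k * b) → (∃ k : ℕ, t = c ^ k ∨ t = c ^ k * b) → Commute s t := by
    have hcb : Commute c b := hbc.symm
    rintro s t ⟨k, rfl | rfl⟩ ⟨l, rfl | rfl⟩
    · exact (Commute.refl c).pow_pow k l
    · exact ((Commute.refl c).pow_pow k l).mul_right (hcb.pow_left k)
    · exact (((Commute.refl c).pow_pow l k).mul_right (hcb.pow_left l)).symm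
    · exact ((((Commute.refl c).pow_pow k l).mul_right (hcb.pow_left k)).mul_left ((hcb.symm.pow_right l).mul_right (Commute.refl b)))
  -- the involutions
  have hinv : ∀ s ∈ (S : Subgroup G), s * s = 1 → s = 1 ∨ s = z ∨ s = b ∨ s = z * b := by
    intro s hs h2
    have h4 : s ^ 4 = 1 := by rw [show (4 : ℕ) = 2 * 2 from rfl, pow_mul, pow_two s, h2, one_pow]
    have key : ∀ k : ℕ, c ^ k * c ^ k = 1 → c ^ k = 1 ∨ c ^ k = z := by
      intro k hk
      rw [← (Commute.refl c).mul_pow, hc2] at hk
      rcases Nat.even_or_odd k with ⟨j, rfl⟩ | ⟨j, rfl⟩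
      · rw [pow_add, ← (Commute.refl c).mul_pow, hc2]
        rcases Nat.even_or_odd j with ⟨l, rfl⟩ | ⟨l, rfl⟩
        · left; rw [pow_add, ← (Commute.refl z).mul_pow, hz2, one_pow]
        · right; rw [pow_succ, pow_mul, pow_two, hz2, one_pow, one_mul]
      · exfalso; rw [pow_succ, pow_mul, pow_two, hz2, one_pow, one_mul] at hk; exact hz1 hk
    obtain ⟨k, rfl | rfl⟩ := hsmall s hs h4
    · rcases key k h2 with h | h <;> rw [h] <;> simp
    · have : c ^ k * c ^ k = 1 := by
        calc c ^ k * c ^ k = c ^ k * c ^ k * (b * b) := by rw [hb2, mul_one]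
          _ = c ^ k * (c ^ k * b) * b := by group
          _ = c ^ k * (b * c ^ k) * b := by rw [((show Commute b c from hbc).pow_right k).eq]
          _ = (c ^ k * b) * (c ^ k * b) := by group
          _ = 1 := h2
      rcases key k this with h | h <;> rw [h] <;> simp
  have hsq4 : ∀ s ∈ (S : Subgroup G), s ^ 4 = 1 → s * s = 1 ∨ s * s = z := by
    intro s hs h4
    rcases hinv (s * s) (mul_mem hs hs) (by rw [← pow_two, ← pow_two, ← pow_mul]; exact h4) with h | h | h | h
    · exact Or.inl h
    · exact Or.inr h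
    all_goals
      exfalso
      obtain ⟨i, rfl | rfl⟩ := hform s hs
      · rw [← pow_add] at h
        apply hbnot
        first
          | (rw [← h]; exact pow_mem (Subgroup.mem_zpowers a) _)
          | (rw [show b = z * (a ^ (i + i)) by rw [h, ← mul_assoc, hz2, one_mul], ← hzdef, ← pow_add]
             exact pow_mem (Subgroup.mem_zpowers a) _)
      · rw [hsq] at h
        apply hbnot
        first
          | (rw [← h]; exact pow_mem (Subgroup.mem_zpowers a) _)
          | (rw [show b = z * (a ^ (i * (2 ^ (m + 2) + 2))) by rw [h, ← mul_assoc, hz2, one_mul], ← hzdef, ← pow_add]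
             exact pow_mem (Subgroup.mem_zpowers a) _)
  refine Transfer.hasNormalPComplement_of_local S fun R hR _ g hg hgo => ?_
  have hRS : R ≤ (S : Subgroup G) := hR.1
  have hgconj : ∀ r ∈ R, g * r * g⁻¹ ∈ R := fun r hr => (Subgroup.mem_normalizer_iff.mp hg r).mp hr
  have hgodd : Odd (orderOf g) := Nat.coprime_two_right.mp hgo
  -- `g` fixes `z`
  have hzfix : z ∈ R → g * z * g⁻¹ = z := by
    intro hzR
    by_cases hw : ∃ w ∈ R, w ^ 4 = 1 ∧ w * w = z
    · obtain ⟨w, hw, hw4, hwz⟩ := hw
      have e : g * w * g⁻¹ * (g * w * g⁻¹) = g * z * g⁻¹ := by rw [← hwz]; group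
      rcases hsq4 _ (hRS (hgconj w hw)) (by rw [conj_pow, hw4]; group) with h | h
      · rw [e] at h; rw [conj_eq_one_iff] at h; exact absurd h hz1
      · rw [e] at h; exact h
    push Not at hw
    -- every element of `R` is an involution
    have hexp : ∀ r ∈ R, r * r = 1 := by
      intro r hr
      obtain ⟨k, hk⟩ := S.isPGroup' ⟨r, hRS hr⟩
      have hk' : r ^ 2 ^ k = 1 := congrArg Subtype.val hk
      clear hk
      induction k with
      | zero => rw [pow_zero, pow_one] at hk'; rw [hk', one_mul]
      | succ k ih =>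
        rcases k with _ | k
        · rw [zero_add, pow_one, pow_two] at hk'; exact hk'
        apply ih
        have h4 : (r ^ 2 ^ k) ^ 4 = 1 := by rw [← pow_mul, ← hk']; congr 1; ring
        have h2 := (hsq4 _ (pow_mem (hRS hr) _) h4).resolve_right (hw _ (pow_mem hr _) h4)
        rw [← pow_add] at h2
        rw [← h2]; congr 1; ring
    rcases hinv _ (hRS (hgconj z hzR)) (hexp _ (hgconj z hzR)) with h | h | h | h
    · rw [conj_eq_one_iff] at h; exact absurd h hz1
    · exact h
    all_goals
      -- here `R` is the four-group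
      have hbR : b ∈ R := by
        first
          | exact h ▸ hgconj z hzR
          | (have h1 := mul_mem hzR (h ▸ hgconj z hzR : z * b ∈ R)
             rwa [← mul_assoc, hz2, one_mul] at h1)
      exfalso
      set C := Subgroup.centralizer (R : Set G) with hC
      have haR : ∀ s ∈ R, s = 1 ∨ s = z ∨ s = b ∨ s = z * b := fun s hs => hinv s (hRS hs) (hexp s hs)
      have hCmem : ∀ x : G, x * z = z * x → x * b = b * x → x ∈ C := by
        intro x hxz hxb s hs
        rcases haR s hs with rfl | rfl | rfl | rfl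
        · simp
        · exact hxz.symm
        · exact hxb.symm
        · rw [mul_assoc, ← hxb, ← mul_assoc, ← hxz, mul_assoc]
      have ha2C : a ^ 2 ∈ C := by
        refine hCmem _ ?_ ?_
        · rw [← hzdef]; exact ((Commute.refl a).pow_pow _ _).eq
        · rw [hba 2]
          congr 1
          rw [he, mul_add, mul_one, ← pow_succ']
          simpa using (Nat.modEq_zero_iff_dvd.mpr (dvd_refl (2 ^ (m + 3)))).add_right 2 |>.symm
      have hzb : z * b = b * z := by rw [← hc2, mul_assoc, ← hbc, ← mul_assoc, ← hbc, mul_assoc]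
      have hbC : b ∈ C := hCmem b hzb.symm rfl
      set D := (S : Subgroup G) ⊓ C
      have hD2 : IsPGroup 2 ↥D := S.isPGroup'.to_le inf_le_left
      have hDcard : 2 ^ (m + 3) ≤ Nat.card ↥D := by
        have hlt : Subgroup.zpowers (a ^ 2) < D := by
          refine lt_of_le_of_ne (Subgroup.zpowers_le.mpr ⟨pow_mem ha 2, ha2C⟩) fun e => hbnot ?_
          have : b ∈ Subgroup.zpowers (a ^ 2) := e ▸ ⟨hb, hbC⟩
          exact Subgroup.zpowers_le.mpr (pow_mem (Subgroup.mem_zpowers a) 2) this
        obtain ⟨e, he'⟩ := hD2.exists_card_eq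
        have hl : Nat.card ↥(Subgroup.zpowers (a ^ 2)) < Nat.card ↥D := by
          refine lt_of_le_of_ne (Subgroup.card_le_of_le hlt.le) fun e => hlt.ne ?_
          exact Subgroup.eq_of_le_of_card_ge hlt.le e.ge
        rw [Nat.card_zpowers, orderOf_pow' a two_ne_zero, hao,
          Nat.gcd_eq_right (dvd_pow_self 2 (by omega)), pow_succ, Nat.mul_div_cancel _ two_pos, he',
          Nat.pow_lt_pow_iff_right (by norm_num)] at hl
        rw [he']; exact Nat.pow_le_pow_right (by norm_num) (by omega)
      obtain ⟨P, hP⟩ := (hD2.of_equiv (Subgroup.subgroupOfEquivOfLe (inf_le_right : D ≤ C)).symm).exists_le_sylow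
      -- no Sylow subgroup of the group centralises `R`
      have hPcard : Nat.card ↥(P : Subgroup ↥C) ≤ 2 ^ (m + 3) := by
        by_contra hlt
        obtain ⟨T, hT⟩ := (P.isPGroup'.map C.subtype).exists_le_sylow
        obtain ⟨e, he'⟩ := P.isPGroup'.exists_card_eq
        have hTS : Nat.card ↥(T : Subgroup G) = 2 ^ (m + 3 + 1) := by rw [Nat.card_congr (T.equiv S).toEquiv, hS]
        have hTC : (T : Subgroup G) ≤ C := by
          have heq : ((P : Subgroup ↥C).map C.subtype) = (T : Subgroup G) := by
            refine Subgroup.eq_of_le_of_card_ge hT ?_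
            rw [Subgroup.card_map_of_injective (Subgroup.subtype_injective C), hTS, he']
            refine Nat.pow_le_pow_right (by norm_num) ?_
            by_contra h'
            exact hlt (he' ▸ Nat.pow_le_pow_right (by norm_num) (by omega))
          exact heq ▸ Subgroup.map_subtype_le _
        obtain ⟨k, hk⟩ := MulAction.exists_smul_eq G T S
        have hTR : ∀ s ∈ (S : Subgroup G), ∀ r ∈ R, s * (k * r * k⁻¹) = k * r * k⁻¹ * s := by
          intro s hs r hr
          rw [← hk] at hs
          obtain ⟨t', ht', rfl⟩ := hs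
          show k * t' * k⁻¹ * (k * r * k⁻¹) = k * r * k⁻¹ * (k * t' * k⁻¹)
          calc k * t' * k⁻¹ * (k * r * k⁻¹) = k * (t' * r) * k⁻¹ := by group
            _ = k * (r * t') * k⁻¹ := by rw [(hTC ht' r hr : r * t' = t' * r)]
            _ = k * r * k⁻¹ * (k * t' * k⁻¹) := by group
        have hin : ∀ r ∈ R, k * r * k⁻¹ = 1 ∨ k * r * k⁻¹ = z := by
          intro r hr
          have hrS : k * r * k⁻¹ ∈ (S : Subgroup G) := by
            have hrT : r ∈ (T : Subgroup G) := by
              have hrC : r ∈ C := hCmem r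
                (congrArg (fun x : G => x) (show r * z = z * r by rcases haR r hr with rfl | rfl | rfl | rfl <;>
                  first | simp | exact hzb.symm | (rw [mul_assoc, ← hzb])))
                (show r * b = b * r by rcases haR r hr with rfl | rfl | rfl | rfl <;>
                  first | simp | exact hzb | (rw [← mul_assoc b z b, ← hzb]))
              exact hT ⟨⟨r, hrC⟩, hP (show (⟨r, hrC⟩ : ↥C) ∈ D.subgroupOf C from ⟨hRS hr, hrC⟩), rfl⟩
            rw [← hk]; exact ⟨r, hrT, rfl⟩
          have h2 : k * r * k⁻¹ * (k * r * k⁻¹) = 1 := by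
            calc k * r * k⁻¹ * (k * r * k⁻¹) = k * (r * r) * k⁻¹ := by group
              _ = 1 := by rw [hexp r hr]; group
          have hca := hTR a ha r hr
          have nb : b * a ≠ a * b := fun e => hbnot (by
            exfalso; rw [e, mul_inv_cancel_right] at hrel
            refine hz1 (hzdef ▸ mul_right_cancel (b := a) ?_)
            rw [← pow_succ, one_mul, ← hrel])
          rcases hinv _ hrS h2 with h' | h' | h' | h'
          · exact Or.inl h'
          · exact Or.inr h'
          · rw [h'] at hca; exact absurd hca.symm nb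
          · rw [h', ← mul_assoc, ← hzdef, ← pow_succ', pow_succ, mul_assoc, mul_assoc] at hca
            exact absurd (mul_left_cancel hca).symm nb
        have inj : ∀ x y : G, k * x * k⁻¹ = k * y * k⁻¹ → x = y := fun x y e =>
          mul_left_cancel (mul_right_cancel e)
        rcases hin z hzR with h' | h'
        · rw [conj_eq_one_iff] at h'; exact hz1 h'
        rcases hin b hbR with h'' | h''
        · rw [conj_eq_one_iff] at h''; exact hb1 h''
        · exact hbnot (by rw [inj b z (h''.trans h'.symm), ← hzdef]; exact pow_mem (Subgroup.mem_zpowers a) _)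
      have hPD : ((P : Subgroup ↥C).map C.subtype) = D := by
        refine (Subgroup.eq_of_le_of_card_ge ?_ ?_).symm
        · intro x hx; exact ⟨⟨x, hx.2⟩, hP hx, rfl⟩
        · rw [Subgroup.card_map_of_injective (Subgroup.subtype_injective C)]; omega
      have hgC : ∀ x ∈ C, g * x * g⁻¹ ∈ C := by
        intro x hx r hr
        have hr' : g⁻¹ * r * g⁻¹⁻¹ ∈ R := (Subgroup.mem_normalizer_iff.mp (inv_mem hg) r).mp hr
        calc r * (g * x * g⁻¹) = g * ((g⁻¹ * r * g⁻¹⁻¹) * x) * g⁻¹ := by group
          _ = g * (x * (g⁻¹ * r * g⁻¹⁻¹)) * g⁻¹ := by rw [hx _ hr']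
          _ = g * x * g⁻¹ * r := by group
      -- move `g D g⁻¹` back to `D` inside the centralizer
      set D' := (D.map (MulAut.conj g).toMonoidHom)
      have hD'C : D' ≤ C := by rintro _ ⟨x, hx, rfl⟩; exact hgC x hx.2
      obtain ⟨Q, hQ⟩ := ((hD2.map _).of_equiv (Subgroup.subgroupOfEquivOfLe hD'C).symm).exists_le_sylow
      obtain ⟨u, hu⟩ := MulAction.exists_smul_eq ↥C Q P
      have hmove : ∀ x ∈ D, (u : G) * (g * x * g⁻¹) * (u : G)⁻¹ ∈ D := by
        intro x hx
        rw [← hPD]
        refine ⟨u * ⟨g * x * g⁻¹, hgC x hx.2⟩ * u⁻¹, ?_, rfl⟩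
        rw [← hu]
        exact ⟨⟨g * x * g⁻¹, hgC x hx.2⟩, hQ (show (⟨g * x * g⁻¹, hgC x hx.2⟩ : ↥C) ∈ D'.subgroupOf C from ⟨x, hx, rfl⟩), rfl⟩
      have hDpow : ∀ d ∈ D, d ^ 2 ^ (m + 1) = 1 ∨ d ^ 2 ^ (m + 1) = z := by
        intro d hd
        have hdb : Commute b d := (hd.2 b hbR : b * d = d * b)
        obtain ⟨i, hi⟩ := hform d hd.1
        have hib : Commute b (a ^ i) := by
          rcases hi with rfl | rfl
          · exact hdb
          · have h' := hdb.mul_right (Commute.refl b)
            rwa [mul_assoc, hb2, mul_one] at h'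
        have h2 := hib.eq
        rw [hba] at h2
        have h3 := (he _ _).mp (mul_right_cancel h2)
        obtain ⟨j, rfl⟩ : 2 ∣ i := by
          rw [mul_add, mul_one] at h3
          have h4 : i * 2 ^ (m + 2) + i ≡ 0 + i [MOD 2 ^ (m + 3)] := by rw [zero_add]; exact h3
          have h5 := Nat.modEq_zero_iff_dvd.mp (Nat.ModEq.add_right_cancel' i h4)
          rw [show 2 ^ (m + 3) = 2 * 2 ^ (m + 2) by ring] at h5
          exact Nat.dvd_of_mul_dvd_mul_right (by positivity) h5
        have h6 : (a ^ (2 * j)) ^ 2 ^ (m + 1) = z ^ j := by rw [← pow_mul, ← hzdef, ← pow_mul]; congr 1; ring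
        have h7 : d ^ 2 ^ (m + 1) = z ^ j := by
          rcases hi with rfl | rfl
          · exact h6
          · rw [hib.symm.mul_pow, h6, show 2 ^ (m + 1) = 2 * 2 ^ m by ring, pow_mul b, pow_two, hb2, one_pow, mul_one]
        rw [h7]
        rcases Nat.even_or_odd j with ⟨l, rfl⟩ | ⟨l, rfl⟩
        · left; rw [pow_add, ← (Commute.refl z).mul_pow, hz2, one_pow]
        · right; rw [pow_succ, pow_mul, pow_two, hz2, one_pow, one_mul]
      have hres := hDpow _ (hmove _ ⟨pow_mem ha 2, ha2C⟩)
      rw [conj_pow, conj_pow, ← pow_mul, ← pow_succ', hzdef] at hres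
      have hzu : (u : G) * (g * z * g⁻¹) * (u : G)⁻¹ = g * z * g⁻¹ := by
        have := u.2 _ (hgconj z hzR)
        rw [← this, mul_inv_cancel_right]
      rw [hzu, h] at hres
      rcases hres with h' | h'
      all_goals
        apply hbnot
        first
          | (rw [h']; exact one_mem _)
          | (rw [h', ← hzdef]; exact pow_mem (Subgroup.mem_zpowers a) _)
          | (rw [mul_eq_one_iff_eq_inv'.mp h', inv_eq_of_mul_eq_one_left hz2, ← hzdef]; exact pow_mem (Subgroup.mem_zpowers a) _)
          | (rw [mul_eq_left.mp h']; exact one_mem _)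
  -- all small elements of `R` are fixed
  have hfixS : ∀ x ∈ R, x ^ 4 = 1 → g * x * g⁻¹ = x := by
    intro x hx h4
    obtain ⟨y, hyd⟩ : ∃ y, g * x * g⁻¹ = y := ⟨_, rfl⟩
    have hy : y ∈ R := hyd ▸ hgconj x hx
    have hy4 : y ^ 4 = 1 := by rw [← hyd, conj_pow, h4]; group
    have hc : Commute x y := hcom x y (hsmall x (hRS hx) h4) (hsmall y (hRS hy) hy4)
    have hsqxy : x * x = y * y := by
      have e : y * y = g * (x * x) * g⁻¹ := by rw [← hyd]; group
      rcases hsq4 x (hRS hx) h4 with h | h
      · rw [h, e, h]; group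
      · rw [h, e, h, hzfix (h ▸ mul_mem hx hx)]
    obtain ⟨v, hvd⟩ : ∃ v, x⁻¹ * y = v := ⟨_, rfl⟩
    have hv : v ∈ R := hvd ▸ mul_mem (inv_mem hx) hy
    have hv2 : v * v = 1 := by
      calc v * v = x⁻¹ * (y * x⁻¹) * y := by rw [← hvd]; group
        _ = x⁻¹ * (x⁻¹ * y) * y := by rw [hc.symm.inv_right.eq]
        _ = (x * x)⁻¹ * (y * y) := by group
        _ = 1 := by rw [hsqxy]; group
    have hvfix : g * v * g⁻¹ = v := by
      rcases hinv v (hRS hv) hv2 with rfl | rfl | hvb
      · group
      · exact hzfix hv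
      -- involutions outside the cyclic subgroup
      have hw : ∀ w ∈ R, (w = b ∨ w = z * b) → g * w * g⁻¹ = w := by
        intro w hw hwb
        have step : ∀ w' ∈ R, (w' = b ∨ w' = z * b) → (g * w' * g⁻¹ = b ∨ g * w' * g⁻¹ = z * b) := by
          intro w' hw' hwb'
          have h2 : g * w' * g⁻¹ * (g * w' * g⁻¹) = 1 := by
            have : w' * w' = 1 := by
              rcases hwb' with rfl | rfl
              · exact hb2
              · have hzb : z * b = b * z := by rw [← hc2, mul_assoc, ← hbc, ← mul_assoc, ← hbc, mul_assoc]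
                calc z * b * (z * b) = z * (b * z) * b := by group
                  _ = (z * z) * (b * b) := by rw [← hzb]; group
                  _ = 1 := by rw [hz2, hb2, one_mul]
            calc g * w' * g⁻¹ * (g * w' * g⁻¹) = g * (w' * w') * g⁻¹ := by group
              _ = 1 := by rw [this]; group
          rcases hinv _ (hRS (hgconj w' hw')) h2 with h | h | h | h
          · rw [conj_eq_one_iff] at h
            exfalso
            rcases hwb' with rfl | rfl
            · exact hb1 h
            · exact hbnot (by rw [mul_eq_one_iff_eq_inv'.mp h, inv_eq_of_mul_eq_one_left hz2, ← hzdef]; exact pow_mem (Subgroup.mem_zpowers a) _)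
          · exfalso
            have hzR : z ∈ R := h ▸ hgconj w' hw'
            have : w' = z := by
              have := hzfix hzR
              rw [← h] at this
              exact (mul_left_cancel (mul_right_cancel this)).symm.trans h
            rcases hwb' with h' | h'
            · exact hbnot (by rw [← h', this, ← hzdef]; exact pow_mem (Subgroup.mem_zpowers a) _)
            · rw [this, left_eq_mul] at h'; exact hb1 h'
          · exact Or.inl h
          · exact Or.inr h
        rcases step w hw hwb with h1 | h1 <;> rcases hwb with hwb | hwb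
        · rw [h1, hwb]
        rotate_left
        rotate_left
        · rw [h1, hwb]
        all_goals
          rw [hwb] at hw h1 ⊢
          -- a swap would have even order
          exfalso
          have hzR : z ∈ R := by
            have hbz : b ∈ R ∧ z * b ∈ R := by
              first
                | exact ⟨hw, h1 ▸ hgconj _ hw⟩
                | exact ⟨h1 ▸ hgconj _ hw, hw⟩
            have := mul_mem hbz.2 hbz.1
            rwa [mul_assoc, hb2, mul_one] at this
          have hzf := hzfix hzR
          have hswap : g * b * g⁻¹ = z * b := by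
            first
              | exact h1
              | (have e : g * (z * b) * g⁻¹ = g * z * g⁻¹ * (g * b * g⁻¹) := by group
                 rw [h1, hzf] at e
                 calc g * b * g⁻¹ = z * (z * (g * b * g⁻¹)) := by rw [← mul_assoc, hz2, one_mul]
                   _ = z * b := by rw [← e])
          have hgz : Commute g z := mul_inv_eq_iff_eq_mul.mp hzf
          have hpow : ∀ i : ℕ, g ^ i * b * (g ^ i)⁻¹ = z ^ i * b := by
            intro i
            induction i with
            | zero => simp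
            | succ i ih =>
              calc g ^ (i + 1) * b * (g ^ (i + 1))⁻¹ = g * (g ^ i * b * (g ^ i)⁻¹) * g⁻¹ := by rw [pow_succ']; group
                _ = g * (z ^ i * b) * g⁻¹ := by rw [ih]
                _ = (g * z ^ i) * b * g⁻¹ := by group
                _ = (z ^ i * g) * b * g⁻¹ := by rw [(hgz.pow_right i).eq]
                _ = z ^ i * (g * b * g⁻¹) := by group
                _ = z ^ (i + 1) * b := by rw [hswap, ← mul_assoc, ← pow_succ]
          have h' := hpow (orderOf g)
          obtain ⟨l, hl⟩ := hgodd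
          rw [pow_orderOf_eq_one, one_mul, inv_one, mul_one, hl, pow_succ, pow_mul, pow_two, hz2, one_pow, one_mul] at h'
          exact hz1 (by simpa using h'.symm)
      exact hw v hv hvb
    rw [hyd]
    have hgx : g * x * g⁻¹ = x * v := by rw [hyd, ← hvd, mul_inv_cancel_left]
    have hgv : Commute g v := mul_inv_eq_iff_eq_mul.mp hvfix
    have hpow : ∀ i : ℕ, g ^ i * x * (g ^ i)⁻¹ = x * v ^ i := by
      intro i
      induction i with
      | zero => simp
      | succ i ih =>
        calc g ^ (i + 1) * x * (g ^ (i + 1))⁻¹ = g * (g ^ i * x * (g ^ i)⁻¹) * g⁻¹ := by rw [pow_succ']; group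
          _ = g * (x * v ^ i) * g⁻¹ := by rw [ih]
          _ = g * x * (v ^ i * g⁻¹) := by group
          _ = g * x * (g⁻¹ * v ^ i) := by rw [(hgv.inv_left.pow_right i).eq]
          _ = g * x * g⁻¹ * v ^ i := by group
          _ = x * v ^ (i + 1) := by rw [hgx, mul_assoc, ← pow_succ']
    have h' := hpow (orderOf g)
    obtain ⟨l, hl⟩ := hgodd
    rw [pow_orderOf_eq_one, one_mul, inv_one, mul_one, hl, pow_succ, pow_mul, pow_two, hv2, one_pow, one_mul] at h'
    have hv1 : v = 1 := by simpa using h'.symm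
    rw [hv1, inv_mul_eq_one] at hvd
    exact hvd.symm
  let β : MulAut ↥R := Subgroup.normalizerMonoidHom R ⟨g, hg⟩
  have hβ : β = 1 := by
    refine FusionChain.eq_one_of_fixes_small (S.isPGroup'.to_le hRS) β ?_ ?_
    · refine Nat.Coprime.coprime_dvd_left ((orderOf_map_dvd _ _).trans ?_) hgo
      rw [Subgroup.orderOf_mk]
    · intro x hx
      have h4 : (x : G) ^ 4 = 1 := by
        rcases hx with h | ⟨_, h⟩
        · have h' : (x : G) ^ 2 = 1 := congrArg Subtype.val h
          rw [show (4 : ℕ) = 2 * 2 from rfl, pow_mul, h', one_pow]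
        · exact congrArg Subtype.val h
      exact Subtype.ext (hfixS x x.2 h4)
  intro r hr
  have h : g * r * g⁻¹ = r := by
    show ((β ⟨r, hr⟩ : ↥R) : G) = r
    rw [hβ]; rfl
  exact (mul_inv_eq_iff_eq_mul.mp h).symm

end Cfsg.Agent.S3178
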