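import Cfsg.Statements.S3179
import Cfsg.Agent.Lib.GLOrder.Two
import Cfsg.Agent.Lib.Suzuki.Stabilizer
import Cfsg.Agent.Lib.Suzuki.LieModel
import Cfsg.Agent.Lib.Unitary.Center
import Cfsg.Agent.Lib.BurnsideBasis.Basic

set_option autoImplicit false
open Cfsg

namespace Cfsg.Agent.S3179

open Matrix in
/-- `GL₅(2)` has no element of order 9. -/
theorem orderOf_ne_nine (y : GL (Fin 5) (ZMod 2)) : orderOf y ≠ 9 := by
  classical
  intro hy
  let f : GL (Fin 5) (ZMod 2) →* Module.End (ZMod 2) (Fin 5 → ZMod 2) :=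
    (Matrix.toLinAlgEquiv' (R := ZMod 2) (n := Fin 5)).toAlgHom.toRingHom.toMonoidHom.comp
      (Units.coeHom _)
  have hfinj : Function.Injective f :=
    (Matrix.toLinAlgEquiv' (R := ZMod 2) (n := Fin 5)).injective.comp Units.val_injective
  set N := f (y ^ 3) with hN
  have hN3 : N * N * N = 1 := by
    rw [hN, ← map_mul, ← map_mul, ← pow_add, ← pow_add,
      show y ^ (3 + 3 + 3) = 1 by rw [show 3 + 3 + 3 = orderOf y from hy.symm, pow_orderOf_eq_one], map_one]
  let W : Submodule (ZMod 2) (Fin 5 → ZMod 2) := LinearMap.ker (1 + N + N * N)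
  let C := Subgroup.zpowers y
  have hWinv : ∀ (c : C) (v : Fin 5 → ZMod 2), v ∈ W → f (c : GL (Fin 5) (ZMod 2)) v ∈ W := by
    rintro ⟨c, hc⟩ v hv
    obtain ⟨k, rfl⟩ := Subgroup.mem_zpowers_iff.1 hc
    have hcomm : N * f (y ^ k) = f (y ^ k) * N := by
      rw [hN, ← map_mul, ← map_mul, ((Commute.pow_self y 3).zpow_right k).eq]
    have h : (1 + N + N * N) * f (y ^ k) = f (y ^ k) * (1 + N + N * N) := by
      simp only [add_mul, mul_add, one_mul, mul_one, mul_assoc N N, hcomm]
      simp only [← mul_assoc, hcomm]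
    rw [LinearMap.mem_ker] at hv ⊢
    rw [← Module.End.mul_apply, h, Module.End.mul_apply, hv, map_zero]
  have hfix : ∀ v ∈ W, N v = v → v = 0 := by
    intro v hv h
    rw [LinearMap.mem_ker, LinearMap.add_apply, LinearMap.add_apply, Module.End.one_apply,
      Module.End.mul_apply, h, h] at hv
    funext i
    have hi := congrFun hv i
    have h2 : (2 : ZMod 2) = 0 := rfl
    simp only [Pi.add_apply, Pi.zero_apply] at hi ⊢
    linear_combination hi - v i * h2
  let X := {v : Fin 5 → ZMod 2 // v ∈ W ∧ v ≠ 0}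
  letI act : MulAction C X :=
    { smul := fun c v => ⟨f c v.1, hWinv c _ v.2.1, fun h => v.2.2 (by
        have := congrArg (f (c : GL (Fin 5) (ZMod 2))⁻¹) h
        rwa [← Module.End.mul_apply, ← map_mul, inv_mul_cancel, map_one, map_zero] at this)⟩
      one_smul := fun v => Subtype.ext (by change f 1 v.1 = v.1; rw [map_one]; rfl)
      mul_smul := fun c d v => Subtype.ext (by
        change f ((c : GL (Fin 5) (ZMod 2)) * d) v.1 = f c (f d v.1)
        rw [map_mul]; rfl) }
  have hfree : ∀ x : X, MulAction.stabilizer C x = ⊥ := by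
    intro x
    rw [Subgroup.eq_bot_iff_forall]
    rintro ⟨c, hc⟩ hs
    apply Subtype.ext
    have hfc : f c x.1 = x.1 := congrArg Subtype.val hs
    obtain ⟨k, hk, rfl⟩ : ∃ k < 9, y ^ k = c := by
      obtain ⟨z, rfl⟩ := Subgroup.mem_zpowers_iff.1 hc
      refine ⟨(z % 9).toNat, by omega, ?_⟩
      rw [← zpow_natCast, Int.toNat_of_nonneg (Int.emod_nonneg _ (by norm_num))]
      exact_mod_cast hy ▸ zpow_mod_orderOf y z
    by_cases hk0 : k = 0
    · simp [hk0]
    exfalso
    have hpow : ∀ j : ℕ, f ((y ^ k) ^ j) x.1 = x.1 := by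
      intro j
      induction j with
      | zero => simp
      | succ j ih => rw [pow_succ, map_mul, Module.End.mul_apply, hfc, ih]
    obtain ⟨j, hj⟩ : ∃ j : Fin 9, k * j.1 % 9 = 3 := by
      interval_cases k <;> first | omega | decide
    refine x.2.2 (hfix _ x.2.1 ?_)
    have h3 : (y ^ k) ^ j.1 = y ^ 3 := by rw [← pow_mul, ← pow_mod_orderOf, hy, hj]
    have := hpow j.1
    rwa [h3] at this
  have hdvd := BurnsideBasis.card_dvd_of_free hfree
  have hcard : Nat.card C = 9 := by rw [Nat.card_zpowers, hy]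
  have hXcard : Nat.card X + 1 = 2 ^ Module.finrank (ZMod 2) W := by
    have h1 : Nat.card W = 2 ^ Module.finrank (ZMod 2) W := by
      rw [Module.natCard_eq_pow_finrank (K := ZMod 2), Nat.card_zmod]
    have h2 : W ≃ Option X :=
      { toFun := fun w => if h : w.1 = 0 then none else some ⟨w.1, w.2, h⟩
        invFun := fun o => o.elim 0 fun x => ⟨x.1, x.2.1⟩
        left_inv := fun w => by
          by_cases h : w.1 = 0
          · simp [h, Subtype.ext_iff]
          · simp [h]
        right_inv := fun o => by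
          cases o with
          | none => simp
          | some x => simp [x.2.2] }
    rw [← h1, Nat.card_congr h2, Finite.card_option]
  have hle : Module.finrank (ZMod 2) W ≤ 5 := W.finrank_le.trans_eq (by simp)
  rw [hcard] at hdvd
  have hW0 : Module.finrank (ZMod 2) W = 0 := by
    generalize Module.finrank (ZMod 2) W = k at hXcard hle
    interval_cases k <;> omega
  have hbot : W = ⊥ := Submodule.finrank_eq_zero.1 hW0
  have hN1 : N = 1 := by
    apply LinearMap.ext
    intro v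
    have hmem : N v - v ∈ W := by
      rw [LinearMap.mem_ker]
      have h := LinearMap.congr_fun hN3 v
      simp only [Module.End.mul_apply, Module.End.one_apply] at h
      simp only [LinearMap.add_apply, Module.End.one_apply, Module.End.mul_apply, map_sub, h]
      abel
    rw [hbot, Submodule.mem_bot, sub_eq_zero] at hmem
    exact hmem
  rw [hN, ← map_one f] at hN1
  have := orderOf_dvd_of_pow_eq_one (hfinj hN1)
  rw [hy] at this
  omega

/-- A group of order a multiple... : `PSL₂(8)` has an element of order 9. -/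
theorem exists_orderOf_nine {F : Type*} [Field F] [Fintype F] (hF : Fintype.card F = 8) :
    ∃ g : Matrix.ProjectiveSpecialLinearGroup (Fin 2) F, orderOf g = 9 := by
  classical
  have h8 : ∀ x : F, x ^ 8 = x := fun x => hF ▸ FiniteField.pow_card x
  have hchar : ringChar F = 2 := FiniteField.even_card_iff_char_two.2 (by omega)
  have hcp : CharP F 2 := ringChar.of_eq hchar
  have h2 : (2 : F) = 0 := by exact_mod_cast CharP.cast_eq_zero F 2
  obtain ⟨x, hx0, hx1⟩ : ∃ x : F, x ≠ 0 ∧ x ≠ 1 := by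
    by_contra h
    push Not at h
    have : Fintype.card F ≤ 2 := by
      rw [← Finset.card_univ]
      refine (Finset.card_le_card (fun a _ => ?_)).trans (Finset.card_le_two (a := (0 : F)) (b := 1))
      rcases eq_or_ne a 0 with ha | ha
      · simp [ha]
      · simp [h a ha]
    omega
  obtain ⟨t, ht⟩ : ∃ t : F, t ^ 3 + t + 1 = 0 := by
    have h : (x - 1) * ((x ^ 3 + x + 1) * (x ^ 3 + x ^ 2 + 1)) * x = 0 := by
      linear_combination h8 x + (x ^ 4 * (x - 1)) * h2
    rcases mul_eq_zero.1 ((mul_eq_zero.1 ((mul_eq_zero.1 h).resolve_right hx0)).resolve_left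
      (sub_ne_zero.2 hx1)) with h | h
    · exact ⟨x, h⟩
    · refine ⟨x⁻¹, ?_⟩
      field_simp
      linear_combination h
  let g : Matrix.SpecialLinearGroup (Fin 2) F :=
    ⟨!![0, 1; 1, t], by rw [Matrix.det_fin_two_of]; linear_combination -h2⟩
  have hg3 : ((g ^ 3 : Matrix.SpecialLinearGroup (Fin 2) F) : Matrix (Fin 2) (Fin 2) F) =
      !![t, t ^ 2 + 1; t ^ 2 + 1, t ^ 3 + 2 * t] := by
    rw [Matrix.SpecialLinearGroup.coe_pow, show (g : Matrix (Fin 2) (Fin 2) F) = !![0, 1; 1, t] from rfl]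
    ext i j
    fin_cases i <;> fin_cases j <;> simp [pow_succ, Matrix.mul_apply, Fin.sum_univ_two] <;> ring
  have hg9 : g ^ 9 = 1 := by
    apply Subtype.ext
    rw [show g ^ 9 = (g ^ 3) ^ 3 from (pow_mul g 3 3), Matrix.SpecialLinearGroup.coe_pow, hg3,
      Matrix.SpecialLinearGroup.coe_one]
    have e : t ^ 3 = t + 1 := by linear_combination ht - (t + 1) * h2
    ext i j
    fin_cases i <;> fin_cases j <;>
      simp [pow_succ, Matrix.mul_apply, Fin.sum_univ_two] <;>
      grind
  refine ⟨QuotientGroup.mk g, ?_⟩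
  have hp3 : Fact (Nat.Prime 3) := ⟨Nat.prime_three⟩
  refine orderOf_eq_prime_pow (p := 3) (n := 1) ?_ ?_
  · intro h
    rw [pow_one, ← QuotientGroup.mk_pow, QuotientGroup.eq_one_iff, GLOrder.center_SL2] at h
    have h01 : t ^ 2 + 1 = 0 := by
      have hval : (g ^ 3 : Matrix.SpecialLinearGroup (Fin 2) F) 0 1 = t ^ 2 + 1 := by
        rw [hg3]; simp
      rw [← hval]
      rcases h with h | h <;> rw [h] <;> simp
    have ht1 : (t + 1) * (t + 1) = 0 := by linear_combination h01 + t * h2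
    have : t + 1 = 0 := mul_self_eq_zero.1 ht1
    exact one_ne_zero (α := F) (by linear_combination ht - (t ^ 2 - t + 2) * this + h2)
  · rw [← QuotientGroup.mk_pow, show 3 ^ (1 + 1) = 9 from rfl, hg9, QuotientGroup.mk_one]

theorem le_ten_of_dvd {k : ℕ} (h : 2 ^ k ∣ 3 * 9999360) : k ≤ 10 := by
  by_contra hk
  exact absurd ((pow_dvd_pow 2 (show 11 ≤ k by omega)).trans h) (by norm_num)

/-- Let X be a section of the general linear group GL(5, 2), that is, a quotient of a subgroup of it. If X is isomorphic to PSL(2, 2^n) for some n ≥ 2, to a Suzuki group over the field with 2^(2m+1) elements for some m ≥ 1, or to PSU(3, 2^n) for some n ≥ 2, then X is isomorphic to PSL(2, 4). -/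
theorem result {H : Subgroup (GL (Fin 5) (ZMod 2))}
    {K : Subgroup ↥H} [K.Normal]
    (hX : (∃ (n : ℕ) (F : Type) (_ : Field F) (_ : Fintype F), 2 ≤ n ∧ Fintype.card F = 2 ^ n ∧
        Nonempty (↥H ⧸ K ≃* Matrix.ProjectiveSpecialLinearGroup (Fin 2) F)) ∨
      (∃ (m : ℕ) (F : Type) (_ : Field F) (_ : Fintype F), 1 ≤ m ∧ Fintype.card F = 2 ^ (2 * m + 1) ∧
        Nonempty (↥H ⧸ K ≃* ↥(Cfsg.Lie.Sz F (2 ^ (m + 1))))) ∨
      (∃ (n : ℕ) (F : Type) (_ : Field F) (_ : Fintype F), 2 ≤ n ∧ Fintype.card F = 4 ^ n ∧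
        Nonempty (↥H ⧸ K ≃* Cfsg.PSU 3 F (2 ^ n)))) :
    ∃ (F : Type) (_ : Field F) (_ : Fintype F), Fintype.card F = 4 ∧
      Nonempty (↥H ⧸ K ≃* Matrix.ProjectiveSpecialLinearGroup (Fin 2) F) := by
  have hGL : Nat.card (GL (Fin 5) (ZMod 2)) = 9999360 := by
    rw [GLOrder.card_GL', Nat.card_zmod]; decide
  have hdvd : Nat.card (↥H ⧸ K) ∣ 9999360 :=
    hGL ▸ K.card_quotient_dvd_card.trans H.card_subgroup_dvd_card
  rcases hX with ⟨n, F, iF, fF, hn, hF, ⟨e⟩⟩ | ⟨m, F, iF, fF, hm, hF, ⟨e⟩⟩ |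
    ⟨n, F, iF, fF, hn, hF, ⟨e⟩⟩
  · rcases Nat.eq_or_lt_of_le hn with hn2 | hn3
    · exact ⟨F, iF, fF, by rw [hF, ← hn2]; norm_num, ⟨e⟩⟩
    exfalso
    have hq : Nat.card F = 2 ^ n := by rw [Nat.card_eq_fintype_card, hF]
    have hev : Even (Nat.card F) := by
      rw [hq]; exact (Nat.even_pow).2 ⟨even_two, by omega⟩
    rw [Nat.card_congr e.toEquiv, GLOrder.card_PSL_two_of_even hev, hq] at hdvd
    have hn10 : n ≤ 10 := le_ten_of_dvd (((dvd_mul_right _ _).trans hdvd).mul_left 3)
    by_cases hn' : n = 3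
    · subst hn'
      obtain ⟨g, hg⟩ := exists_orderOf_nine (F := F) (by rw [hF]; norm_num)
      obtain ⟨h, hh⟩ := QuotientGroup.mk'_surjective K (e.symm g)
      have h9 : 9 ∣ orderOf (h : GL (Fin 5) (ZMod 2)) := by
        rw [Subgroup.orderOf_coe, ← hg, ← orderOf_injective e.symm.toMonoidHom e.symm.injective g,
          show e.symm.toMonoidHom g = QuotientGroup.mk' K h from hh.symm]
        exact orderOf_map_dvd _ h
      refine orderOf_ne_nine ((h : GL (Fin 5) (ZMod 2)) ^ (orderOf (h : GL (Fin 5) (ZMod 2)) / 9))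
        (orderOf_pow_orderOf_div (orderOf_pos _).ne' h9)
    · revert hdvd
      interval_cases n <;> first | omega | norm_num
  · exfalso
    have hsz : Nat.card ↥(Lie.Sz F (2 ^ (m + 1))) =
        (2 ^ (2 * m + 1)) ^ 2 * ((2 ^ (2 * m + 1)) ^ 2 + 1) * (2 ^ (2 * m + 1) - 1) :=
      (Nat.card_congr (Suzuki.lieEquiv hm hF).symm.toEquiv).trans (Suzuki.card_sz hm hF)
    rw [Nat.card_congr e.toEquiv, hsz] at hdvd
    have hm' : 2 * (2 * m + 1) ≤ 10 := le_ten_of_dvd (by
      refine Dvd.dvd.mul_left ?_ 3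
      rw [mul_comm 2, pow_mul]
      exact ((dvd_mul_right _ _).trans (dvd_mul_right _ _)).trans hdvd)
    have hm2 : m ≤ 2 := by omega
    revert hdvd
    interval_cases m <;> norm_num
  · exfalso
    have hF' : Fintype.card F = (2 ^ n) ^ 2 := by rw [hF, ← pow_mul, mul_comm, pow_mul]; norm_num
    have hc := Unitary.card_PSU (n := 3) hF' (by norm_num)
    rw [← Nat.card_congr e.toEquiv] at hc
    simp only [Finset.prod_range_succ, Finset.prod_range_zero] at hc
    simp only [Nat.reduceAdd, Nat.reduceSub, Nat.reduceMul, Nat.reduceDiv, pow_one, one_mul,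
      even_two, Even.zero, if_true, Nat.not_even_one, if_false] at hc
    set q := 2 ^ n with hq
    have hg : Nat.gcd 3 (q + 1) ∣ 3 := Nat.gcd_dvd_left _ _
    have hprod : q ^ 3 * ((q ^ 2 - 1) * (q ^ 3 + 1)) ∣ 3 * 9999360 := by
      have : q ^ 3 * ((q ^ 2 - 1) * (q ^ 3 + 1)) = Nat.gcd 3 (q + 1) * Nat.card (↥H ⧸ K) := by
        refine Nat.eq_of_mul_eq_mul_left (n := q + 1) (Nat.succ_pos q) ?_
        rw [mul_left_comm (q + 1) (Nat.gcd 3 (q + 1)), hc]
        ring
      rw [this]
      exact mul_dvd_mul hg hdvd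
    have hn' : n * 3 ≤ 10 := le_ten_of_dvd (by
      rw [pow_mul, ← hq]; exact (dvd_mul_right _ _).trans hprod)
    have hn3 : n ≤ 3 := by omega
    revert hprod
    rw [hq]
    interval_cases n <;> first | omega | norm_num

end Cfsg.Agent.S3179
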