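import Cfsg.Statements.S3180
import Cfsg.Agent.EqLemmas

set_option autoImplicit false
open Cfsg

namespace Cfsg.Agent.S3180

/-- Let P be a Sylow p-subgroup of a finite group J and P₁ a subgroup of P that is weakly closed in P with respect to J. If J acts on a set and two points, each fixed by every element of P₁, lie in one J-orbit, then they lie in one orbit of the normalizer of P₁ in J. -/
theorem result {J : Type*} [Group J] [Finite J]
    {p : ℕ} [Fact p.Prime] (P : Sylow p J) (P₁ : Subgroup J) (hW : Cfsg.IsWeaklyClosed P₁ (P : Subgroup J))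
    {Ω : Type*} [MulAction J Ω] (x y : Ω) (hx : ∀ g ∈ P₁, g • x = x) (hy : ∀ g ∈ P₁, g • y = y)
    (hc : ∃ g : J, g • x = y) :
    ∃ g ∈ Subgroup.normalizer (P₁ : Set J), g • x = y := by
  obtain ⟨g, hg⟩ := hc
  set St := MulAction.stabilizer J x with hStdef
  have h1 : P₁ ≤ St := fun a ha => MulAction.mem_stabilizer_iff.mpr (hx a ha)
  set P₂ := P₁.map (MulAut.conj g⁻¹).toMonoidHom
  have h2 : P₂ ≤ St := by
    rintro _ ⟨a, ha, rfl⟩
    refine MulAction.mem_stabilizer_iff.mpr ?_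
    show (g⁻¹ * a * g⁻¹⁻¹) • x = x
    rw [inv_inv, mul_smul, hg, mul_smul, hy a ha, ← hg, inv_smul_smul]
  have hP1 : IsPGroup p ↥P₁ := P.isPGroup'.to_le hW.1
  obtain ⟨Q₁, hQ₁⟩ := (hP1.of_equiv (Subgroup.subgroupOfEquivOfLe h1).symm).exists_le_sylow
  obtain ⟨Q₂, hQ₂⟩ := ((hP1.map _).of_equiv (Subgroup.subgroupOfEquivOfLe h2).symm).exists_le_sylow
  obtain ⟨s, hs⟩ := MulAction.exists_smul_eq ↥St Q₂ Q₁
  have hQ : IsPGroup p ↥((Q₁ : Subgroup ↥St).map St.subtype) := Q₁.isPGroup'.map _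
  obtain ⟨P', hP'⟩ := hQ.exists_le_sylow
  obtain ⟨k, hk⟩ := MulAction.exists_smul_eq J P' P
  have hin : ∀ a ∈ (P' : Subgroup J), k * a * k⁻¹ ∈ (P : Subgroup J) := by
    intro a ha
    rw [← hk]
    exact ⟨a, ha, rfl⟩
  have e1 : ∀ a ∈ P₁, k * a * k⁻¹ ∈ (P : Subgroup J) := fun a ha =>
    hin a (hP' ⟨⟨a, h1 ha⟩, hQ₁ ha, rfl⟩)
  have e2 : ∀ a ∈ P₂, k * ((s : J) * a * (s : J)⁻¹) * k⁻¹ ∈ (P : Subgroup J) := by
    intro a ha
    refine hin _ (hP' ⟨s * ⟨a, h2 ha⟩ * s⁻¹, ?_, by simp⟩)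
    rw [← hs]
    exact ⟨⟨a, h2 ha⟩, hQ₂ ha, rfl⟩
  have w1 : P₁.map (MulAut.conj k).toMonoidHom = P₁ :=
    hW.2 k (by rintro _ ⟨a, ha, rfl⟩; simpa using e1 a ha)
  have w2 : P₁.map (MulAut.conj (k * s * g⁻¹)).toMonoidHom = P₁ :=
    hW.2 _ (by
      rintro _ ⟨a, ha, rfl⟩
      have := e2 _ ⟨a, ha, rfl⟩
      simpa [mul_assoc] using this)
  have n1 : k ∈ Subgroup.normalizer (P₁ : Set J) := by
    rw [Subgroup.mem_normalizer_iff_map_conj_eq]; exact w1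
  have n2 : k * s * g⁻¹ ∈ Subgroup.normalizer (P₁ : Set J) := by
    rw [Subgroup.mem_normalizer_iff_map_conj_eq]; exact w2
  have n3 : g * (s : J)⁻¹ ∈ Subgroup.normalizer (P₁ : Set J) := by
    have := mul_mem (inv_mem n2) n1
    simpa [mul_assoc] using this
  refine ⟨_, n3, ?_⟩
  have hsx : (s : J)⁻¹ • x = x := MulAction.mem_stabilizer_iff.mp (inv_mem s.2)
  rw [mul_smul, hsx, hg]

end Cfsg.Agent.S3180
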