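import Cfsg.Statements.S3190
import Cfsg.Agent.EqLemmas

set_option autoImplicit false
open Cfsg

namespace Cfsg.Agent.S3190

/-- Let p be an odd prime and, inside a finite group, let P be a p-subgroup normalized by a Klein four-group T. Let R be a subgroup of P, normal in P and normalized by T, such that P is the product of R with the centralizer of T in P. If T centralizes the centre of P, then T centralizes the centre of R. -/
theorem result {X : Type*} [Group X] [Finite X]
    {p : ℕ} (hp : p.Prime) (hodd : Odd p) (P T R : Subgroup X) (hP : IsPGroup p ↥P) (hT : IsKleinFour ↥T)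
    (hTP : T ≤ Subgroup.normalizer (P : Set X)) (hRP : R ≤ P) (hRn : (R.subgroupOf P).Normal)
    (hTR : T ≤ Subgroup.normalizer (R : Set X)) (hfac : R ⊔ (P ⊓ Subgroup.centralizer (T : Set X)) = P)
    (hZ : T ≤ Subgroup.centralizer (((Subgroup.center ↥P).map P.subtype : Subgroup X) : Set X)) :
    T ≤ Subgroup.centralizer (((Subgroup.center ↥R).map R.subtype : Subgroup X) : Set X) := by
  -- it suffices to treat each element of `T` separately
  intro t ht
  have ht2 : t * t = 1 := by
    have h1 : orderOf (⟨t, ht⟩ : ↥T) ∣ 2 := hT.exponent_two ▸ Monoid.order_dvd_exponent _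
    have := congrArg Subtype.val (orderOf_dvd_iff_pow_eq_one.mp h1)
    simpa [pow_two] using this
  have hti : t⁻¹ = t := inv_eq_of_mul_eq_one_left ht2
  set A : Subgroup X := (Subgroup.center ↥R).map R.subtype with hAdef
  have hAmem : ∀ z, z ∈ A ↔ z ∈ R ∧ ∀ r ∈ R, r * z = z * r := by
    intro z
    constructor
    · rintro ⟨w, hw, rfl⟩
      exact ⟨w.2, fun r hr => congrArg Subtype.val (Subgroup.mem_center_iff.mp hw ⟨r, hr⟩)⟩
    · rintro ⟨hz, hz'⟩
      exact ⟨⟨z, hz⟩, Subgroup.mem_center_iff.mpr fun r => Subtype.ext (hz' r r.2), rfl⟩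
  -- elements normalising `R` normalise its centre
  have hAn : ∀ u ∈ Subgroup.normalizer (R : Set X), ∀ z ∈ A, u * z * u⁻¹ ∈ A := by
    intro u hu z hz
    obtain ⟨hzR, hzc⟩ := (hAmem z).mp hz
    refine (hAmem _).mpr ⟨(Subgroup.mem_normalizer_iff.mp hu z).mp hzR, fun r hr => ?_⟩
    have hr' := (Subgroup.mem_normalizer_iff.mp (inv_mem hu) r).mp hr
    calc r * (u * z * u⁻¹) = u * ((u⁻¹ * r * u⁻¹⁻¹) * z) * u⁻¹ := by group
      _ = u * (z * (u⁻¹ * r * u⁻¹⁻¹)) * u⁻¹ := by rw [hzc _ hr']
      _ = (u * z * u⁻¹) * r := by group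
  -- the part of `A` inverted by `t`
  let M : Subgroup X :=
    { carrier := {z | z ∈ A ∧ t * z * t = z⁻¹}
      one_mem' := ⟨one_mem _, by simp [ht2]⟩
      mul_mem' := by
        rintro a b ⟨ha, ha'⟩ ⟨hb, hb'⟩
        refine ⟨mul_mem ha hb, ?_⟩
        have hc : a * b = b * a := ((hAmem b).mp hb).2 a ((hAmem a).mp ha).1
        calc t * (a * b) * t = (t * a * t) * (t⁻¹ * t⁻¹ * (t * t)) * (t⁻¹ * t⁻¹) * (t * b * t) := by group
          _ = a⁻¹ * b⁻¹ := by rw [ha', hb', hti, ht2]; simp
          _ = (a * b)⁻¹ := by rw [hc, mul_inv_rev]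
      inv_mem' := by
        rintro a ⟨ha, ha'⟩
        refine ⟨inv_mem ha, ?_⟩
        rw [inv_inv]
        conv_rhs => rw [← inv_inv a, ← ha']
        simp [hti, mul_assoc] }
  have hMA : ∀ z ∈ M, z ∈ A := fun z hz => hz.1
  have hMP : M ≤ P := fun z hz => hRP ((hAmem z).mp hz.1).1
  -- `R` and `C_P(T)` normalise `M`
  have hMn : P ≤ Subgroup.normalizer (M : Set X) := by
    rw [← hfac, sup_le_iff]
    refine ⟨fun r hr => ?_, fun u hu => ?_⟩
    · rw [Subgroup.mem_normalizer_iff]
      intro z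
      have key : ∀ w ∈ M, ∀ r' ∈ R, r' * w * r'⁻¹ = w := fun w hw r' hr' => by
        rw [((hAmem w).mp hw.1).2 r' hr', mul_inv_cancel_right]
      constructor
      · intro hz; rwa [key z hz r hr]
      · intro hz
        have h1 := key _ hz r⁻¹ (inv_mem hr)
        have h2 : z = r * z * r⁻¹ := by
          calc z = r⁻¹ * (r * z * r⁻¹) * r⁻¹⁻¹ := by group
            _ = r * z * r⁻¹ := h1
        rwa [h2]
    · have key : ∀ v, v ∈ P ⊓ Subgroup.centralizer (T : Set X) → ∀ w ∈ M, v * w * v⁻¹ ∈ M := by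
        intro v hv w hw
        have hvR : v ∈ Subgroup.normalizer (R : Set X) :=
          (Subgroup.normal_subgroupOf_iff_le_normalizer hRP).mp hRn hv.1
        refine ⟨hAn v hvR w hw.1, ?_⟩
        have hc : t * v = v * t := hv.2 t ht
        have hc' : t * v⁻¹ = v⁻¹ * t := (Subgroup.inv_mem _ hv.2) t ht
        calc t * (v * w * v⁻¹) * t = (t * v) * w * (v⁻¹ * t) := by group
          _ = (v * t) * w * (t * v⁻¹) := by rw [hc, hc']
          _ = v * (t * w * t) * v⁻¹ := by group
          _ = (v * w * v⁻¹)⁻¹ := by rw [hw.2]; group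
      rw [Subgroup.mem_normalizer_iff]
      intro z
      refine ⟨key u hu z, fun hz => ?_⟩
      have := key u⁻¹ (inv_mem hu) _ hz
      simpa [mul_assoc] using this
  have hMbot : M = ⊥ := by
    by_contra hne
    have hnP : (M.subgroupOf P).Normal := (Subgroup.normal_subgroupOf_iff_le_normalizer hMP).mpr hMn
    have : Fact p.Prime := ⟨hp⟩
    -- a nontrivial normal subgroup of a `p`-group meets the centre
    have hMnt : Nontrivial ↥(M.subgroupOf P) := by
      rw [Subgroup.nontrivial_iff_ne_bot]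
      intro he
      rw [Subgroup.subgroupOf_eq_bot, disjoint_iff, inf_eq_left.mpr hMP] at he
      exact hne he
    obtain ⟨w, hwM, hwZ, hw1⟩ : ∃ w ∈ M, w ∈ (Subgroup.center ↥P).map P.subtype ∧ w ≠ 1 := by
      obtain ⟨n, hn⟩ := (hP.to_subgroup (M.subgroupOf P)).exists_card_eq
      have hpd : p ∣ Nat.card ↥(M.subgroupOf P) := by
        rcases n with _ | n
        · have := Finite.one_lt_card (α := ↥(M.subgroupOf P))
          rw [pow_zero] at hn
          omega
        · exact hn ▸ dvd_pow_self p (Nat.succ_ne_zero n)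
      have h1 : (1 : ↥(M.subgroupOf P)) ∈ MulAction.fixedPoints (ConjAct ↥P) ↥(M.subgroupOf P) := by
        intro g; exact Subtype.ext (by simp)
      obtain ⟨b, hb, hb1⟩ := (hP.of_equiv (ConjAct.toConjAct (G := ↥P))).exists_fixed_point_of_prime_dvd_card_of_fixed_point
        ↥(M.subgroupOf P) hpd h1
      refine ⟨((b : ↥P) : X), b.2, ⟨(b : ↥P), ?_, rfl⟩, ?_⟩
      · rw [SetLike.mem_coe, Subgroup.mem_center_iff]
        intro g
        have hg := congrArg Subtype.val (hb (ConjAct.toConjAct g))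
        rw [ConjAct.Subgroup.val_conj_smul, ConjAct.smul_def, ConjAct.ofConjAct_toConjAct] at hg
        exact mul_inv_eq_iff_eq_mul.mp hg
      · intro he
        exact hb1 (Subtype.ext (Subtype.ext he)).symm
    have hct : w * t = t * w := hZ ht w hwZ
    have h1 : t * w * t = w⁻¹ := hwM.2
    rw [← hct, mul_assoc, ht2, mul_one] at h1
    have hwp : orderOf w ∣ 2 := orderOf_dvd_of_pow_eq_one (by
      rw [pow_two]; exact eq_inv_iff_mul_eq_one.mp h1)
    obtain ⟨k, hk⟩ := hP ⟨w, hMP hwM⟩
    have hwk : orderOf w ∣ p ^ k := orderOf_dvd_of_pow_eq_one (congrArg Subtype.val hk)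
    have hco : Nat.Coprime (p ^ k) 2 := Nat.Coprime.pow_left k (Nat.coprime_two_right.mpr hodd)
    exact hw1 (orderOf_eq_one_iff.mp (Nat.dvd_one.mp (hco ▸ Nat.dvd_gcd hwk hwp)))
  intro z hz
  have hz' : t * z * t ∈ A := by
    have := hAn t (hTR ht) z hz
    rwa [hti] at this
  have hm : z⁻¹ * (t * z * t) ∈ M := by
    refine ⟨mul_mem (inv_mem hz) hz', ?_⟩
    calc t * (z⁻¹ * (t * z * t)) * t = t * z⁻¹ * t * z * (t * t) := by group
      _ = (t * z * t)⁻¹ * z := by rw [ht2]; simp [hti, mul_assoc]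
      _ = (z⁻¹ * (t * z * t))⁻¹ := by group
  rw [hMbot, Subgroup.mem_bot, inv_mul_eq_one] at hm
  calc z * t = (t * z * t) * t := by rw [← hm]
    _ = t * z * (t * t) := by group
    _ = t * z := by rw [ht2, mul_one]

end Cfsg.Agent.S3190
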