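import Cfsg.Statements.S3195
import Cfsg.Agent.Lib.Involution.BaerSuzuki

set_option autoImplicit false
open Cfsg

namespace Cfsg.Agent.S3195

/-- Let A be a Klein four-subgroup of a finite group G. If every G-conjugate of every involution of A commutes with some involution of A (its centralizer meets A nontrivially), then A meets the largest normal 2-subgroup O₂(G) nontrivially. -/
theorem result {G : Type*} [Group G] [Finite G]
    (A : Subgroup G) (hA : IsKleinFour ↥A)
    (h : ∀ a ∈ A, a ≠ 1 → ∀ g : G, A ⊓ Subgroup.centralizer ({g * a * g⁻¹} : Set G) ≠ ⊥) :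
    A ⊓ Cfsg.pCore 2 G ≠ ⊥ := by
  haveI : Fact (Nat.Prime 2) := ⟨Nat.prime_two⟩
  by_contra hbot
  have h2 : ∀ u ∈ A, u * u = 1 := by
    intro u hu
    have h1 : orderOf (⟨u, hu⟩ : ↥A) ∣ 2 := hA.exponent_two ▸ Monoid.order_dvd_exponent _
    have := congrArg Subtype.val (orderOf_dvd_iff_pow_eq_one.mp h1)
    simpa [pow_two] using this
  have hinv : ∀ u ∈ A, u⁻¹ = u := fun u hu => inv_eq_of_mul_eq_one_left (h2 u hu)
  have hcomm : ∀ u ∈ A, ∀ w ∈ A, u * w = w * u := by
    intro u hu w hw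
    calc u * w = (u * w)⁻¹ := (hinv _ (mul_mem hu hw)).symm
      _ = w * u := by rw [mul_inv_rev, hinv u hu, hinv w hw]
  let φ : G →* MulAut G := MulAut.conj
  have hφ : ∀ u x, φ u x = u * x * u⁻¹ := fun u x => rfl
  have φφ : ∀ u w x, φ u (φ w x) = φ (u * w) x := fun u w x => by rw [map_mul]; rfl
  -- the partner of an element
  have partner : ∀ a ∈ A, a ≠ 1 → ∀ x : G, Odd (orderOf x) → x ≠ 1 → φ a x = x⁻¹ →
      ∃ b ∈ A, b ≠ 1 ∧ b ≠ a ∧ φ b x = x := by
    intro a ha ha1 x ⟨k, hk⟩ hx hax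
    set s := x ^ (k + 1)
    have hs : s * s = x := by
      rw [← pow_add, show k + 1 + (k + 1) = orderOf x + 1 by omega, pow_succ, pow_orderOf_eq_one, one_mul]
    have has : φ a s = s⁻¹ := by rw [map_pow, hax, inv_pow]
    rw [hφ, mul_inv_eq_iff_eq_mul] at has
    have hconj : s⁻¹ * a * s⁻¹⁻¹ = a * x := by rw [inv_inv, ← has, mul_assoc, hs]
    haveI := (Subgroup.nontrivial_iff_ne_bot _).mpr (h a ha ha1 s⁻¹)
    obtain ⟨⟨b, hb⟩, hb1⟩ := exists_ne (1 : ↥(A ⊓ Subgroup.centralizer ({s⁻¹ * a * s⁻¹⁻¹} : Set G)))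
    have hb1' : b ≠ 1 := fun e => hb1 (Subtype.ext e)
    have hbx : b * (a * x) = a * x * b := by
      rw [← hconj]; exact Subgroup.mem_centralizer_singleton_iff.mp hb.2
    refine ⟨b, hb.1, hb1', ?_, ?_⟩
    · rintro rfl
      apply hx
      have hxb : x = b * x * b := by
        calc x = b * b * x := by rw [h2 b ha, one_mul]
          _ = b * (b * x) := by group
          _ = b * x * b := hbx
      have h' : x = x⁻¹ := by
        calc x = b * x * b := hxb
          _ = φ b x := by rw [hφ, hinv b ha]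
          _ = x⁻¹ := hax
      have ho : orderOf x ∣ 2 := orderOf_dvd_of_pow_eq_one (by
        rw [pow_two]; exact eq_inv_iff_mul_eq_one.mp h')
      rcases (Nat.dvd_prime Nat.prime_two).mp ho with h1 | h1
      · exact orderOf_eq_one_iff.mp h1
      · omega
    · rw [hφ, mul_inv_eq_iff_eq_mul]
      rw [← mul_assoc, hcomm b hb.1 a ha, mul_assoc, mul_assoc] at hbx
      exact mul_left_cancel hbx
  -- odd elements
  have half : ∀ x y : G, Odd (orderOf y) → φ (y * y) x = x → φ y x = x := by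
    intro x y ⟨k, hk⟩ he
    have hy : y = (y * y) ^ (k + 1) := by
      rw [← pow_two, ← pow_mul, show 2 * (k + 1) = orderOf y + 1 by omega, pow_succ, pow_orderOf_eq_one, one_mul]
    have hc : Commute (y * y) x := by
      rw [hφ, mul_inv_eq_iff_eq_mul] at he; exact he
    rw [hφ, mul_inv_eq_iff_eq_mul, hy]
    exact (hc.pow_left (k + 1)).eq
  have noinv : ∀ x : G, Odd (orderOf x) → x⁻¹ = x → x = 1 := by
    intro x hx he
    have ho : orderOf x ∣ 2 := orderOf_dvd_of_pow_eq_one (by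
      rw [pow_two]; exact eq_inv_iff_mul_eq_one.mp he.symm)
    rcases (Nat.dvd_prime Nat.prime_two).mp ho with h1 | h1
    · exact orderOf_eq_one_iff.mp h1
    · rw [h1] at hx; exact absurd hx (by decide)
  have noinv2 : ∀ x y : G, Odd (orderOf x) → Odd (orderOf y) → φ (y * y) x = x⁻¹ → x = 1 := by
    intro x y hx hy he
    have h4 : φ (y * y * (y * y)) x = x := by rw [← φφ, he, map_inv, he, inv_inv]
    have hy2 : Odd (orderOf (y * y)) := hy.of_dvd_nat (by rw [← pow_two]; exact orderOf_pow_dvd 2)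
    exact noinv x hx (he.symm.trans (half x _ hy2 h4))
  have oddmul : ∀ x y : G, Commute x y → Odd (orderOf x) → Odd (orderOf y) → Odd (orderOf (x * y)) := by
    intro x y hc hx hy
    exact (hx.mul hy).of_dvd_nat hc.orderOf_mul_dvd_mul_orderOf
  have trio : ∀ a ∈ A, ∀ b ∈ A, a ≠ 1 → b ≠ 1 → a ≠ b → ∀ w ∈ A, w ≠ 1 → w = a ∨ w = b ∨ w = a * b := by
    intro a ha b hb ha1 hb1 hab w hw hw1
    by_contra hn
    push Not at hn
    classical
    haveI : Fintype ↥A := Fintype.ofFinite _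
    let a' : ↥A := ⟨a, ha⟩
    let b' : ↥A := ⟨b, hb⟩
    let c' : ↥A := ⟨a * b, mul_mem ha hb⟩
    let w' : ↥A := ⟨w, hw⟩
    have hnd : ([1, a', b', c', w'] : List ↥A).Nodup := by
      have hc1 : a * b ≠ 1 := fun e => hab (by rw [mul_eq_one_iff_eq_inv.mp e, hinv b hb])
      simp [a', b', c', w', List.nodup_cons, Subtype.ext_iff, ha1, hb1, hw1, Ne.symm ha1, Ne.symm hb1,
        Ne.symm hw1, hab, hn.1, hn.2.1, hn.2.2, Ne.symm hn.1, Ne.symm hn.2.1, Ne.symm hn.2.2,
        hc1, Ne.symm hc1]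
    have := hnd.length_le_card
    rw [← Nat.card_eq_fintype_card, hA.card_four] at this
    simp at this
  have getx : ∀ a ∈ A, a ≠ 1 → ∃ x : G, Odd (orderOf x) ∧ x ≠ 1 ∧ φ a x = x⁻¹ := by
    intro a ha ha1
    obtain ⟨x, hx1, hxo, hxi⟩ := Involution.exists_inverted_odd (t := a)
      (orderOf_eq_prime (by rw [pow_two]; exact h2 a ha) ha1) (fun N hN hNp haN => ha1 (by
        have h : a ∈ A ⊓ Cfsg.pCore 2 G := ⟨ha, (show N ≤ Cfsg.pCore 2 G from le_sSup ⟨hN, hNp⟩) haN⟩
        rwa [hbot, Subgroup.mem_bot] at h))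
    exact ⟨x, hxo, hx1, hxi⟩
  -- a two-cycle is impossible
  have two : ∀ a ∈ A, ∀ b ∈ A, a ≠ 1 → b ≠ 1 → a ≠ b → ∀ x y : G, Odd (orderOf x) → Odd (orderOf y) →
      x ≠ 1 → y ≠ 1 → φ a x = x⁻¹ → φ b x = x → φ b y = y⁻¹ → φ a y = y → False := by
    intro a ha b hb ha1 hb1 hab x y hxo hyo hx hy hax hbx hby hay
    have hcx : φ (a * b) x = x⁻¹ := by rw [← φφ, hbx, hax]
    have hcy : φ (a * b) y = y⁻¹ := by rw [← φφ, hby, map_inv, hay]
    have haxy : φ a (φ y x) = (φ y x)⁻¹ := by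
      rw [hφ y, map_mul, map_mul, map_inv, hay, hax]; group
    have hbxy : φ b (φ y x) = φ y⁻¹ x := by
      rw [hφ y, map_mul, map_mul, map_inv, hby, hbx, hφ]
    have hx'o : Odd (orderOf (φ y x)) := by rwa [MulEquiv.orderOf_eq]
    have hx'1 : φ y x ≠ 1 := by simpa using hx
    have hyy : φ y x = x := by
      obtain ⟨u, hu, hu1, hua, hux⟩ := partner a ha ha1 _ hx'o hx'1 haxy
      rcases (trio a ha b hb ha1 hb1 hab u hu hu1).resolve_left hua with rfl | rfl
      · rw [hbxy] at hux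
        refine half x y hyo ?_
        rw [← φφ, ← hux, φφ, mul_inv_cancel, map_one]; rfl
      · exfalso
        rw [← φφ, hbxy] at hux
        apply hx
        refine noinv2 x y hxo hyo ?_
        have h' : φ a (φ y⁻¹ x) = φ y⁻¹ x⁻¹ := by
          rw [hφ y⁻¹ x, hφ y⁻¹ x⁻¹]
          simp only [map_mul, map_inv, hay, hax]
        rw [h'] at hux
        rw [← φφ, ← hux, φφ, mul_inv_cancel, map_one]; rfl
    have hc : Commute x y := (mul_inv_eq_iff_eq_mul.mp hyy).symm
    have hne : x * y ≠ 1 := by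
      intro e
      rw [mul_eq_one_iff_eq_inv.mp e, map_inv, hay] at hax
      apply hy
      exact noinv y hyo (by simpa using hax)
    have hinvxy : φ (a * b) (x * y) = (x * y)⁻¹ := by rw [map_mul, hcx, hcy, mul_inv_rev, hc.inv_inv.eq]
    have hc1 : a * b ≠ 1 := fun e => hab (by rw [mul_eq_one_iff_eq_inv.mp e, hinv b hb])
    obtain ⟨u, hu, hu1, huc, hux⟩ := partner _ (mul_mem ha hb) hc1 _ (oddmul x y hc hxo hyo) hne hinvxy
    rcases trio a ha b hb ha1 hb1 hab u hu hu1 with rfl | rfl | rfl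
    · rw [map_mul, hax, hay, mul_left_inj] at hux
      exact hx (noinv x hxo hux)
    · rw [map_mul, hbx, hby, mul_right_inj] at hux
      exact hy (noinv y hyo hux)
    · exact huc rfl
  -- a three-cycle is impossible
  have three : ∀ a ∈ A, ∀ b ∈ A, a ≠ 1 → b ≠ 1 → a ≠ b → ∀ x y : G, Odd (orderOf x) → Odd (orderOf y) →
      x ≠ 1 → y ≠ 1 → φ a x = x⁻¹ → φ b x = x → φ b y = y⁻¹ → φ (a * b) y = y → False := by
    intro a ha b hb ha1 hb1 hab x y hxo hyo hx hy hax hbx hby hcy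
    have hcx : φ (a * b) x = x⁻¹ := by rw [← φφ, hbx, hax]
    have hay : φ a y = y⁻¹ := by
      rw [← φφ, hby, map_inv] at hcy
      rw [← inv_inv (φ a y), hcy]
    have hbxy : φ b (φ x y) = (φ x y)⁻¹ := by
      rw [hφ x, map_mul, map_mul, map_inv, hby, hbx]; group
    have hy'o : Odd (orderOf (φ x y)) := by rwa [MulEquiv.orderOf_eq]
    have hy'1 : φ x y ≠ 1 := by simpa using hy
    have hxy : φ x y = y := by
      obtain ⟨u, hu, hu1, hub, huy⟩ := partner b hb hb1 _ hy'o hy'1 hbxy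
      rcases trio a ha b hb ha1 hb1 hab u hu hu1 with rfl | rfl | rfl
      · exfalso
        have h' : φ u (φ x y) = φ x⁻¹ y⁻¹ := by
          rw [hφ x, map_mul, map_mul, map_inv, hax, hay, hφ]
        rw [h'] at huy
        apply hy
        refine noinv2 y x hyo hxo ?_
        rw [← φφ, ← huy, φφ, mul_inv_cancel, map_one]; rfl
      · exact absurd rfl hub
      · have h' : φ (a * b) (φ x y) = φ x⁻¹ y := by
          rw [hφ x, map_mul, map_mul, map_inv, hcx, hcy, hφ]
        rw [h'] at huy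
        refine half y x hxo ?_
        rw [← φφ, ← huy, φφ, mul_inv_cancel, map_one]; rfl
    have hc : Commute x y := mul_inv_eq_iff_eq_mul.mp hxy
    have hne : x * y ≠ 1 := by
      intro e
      rw [mul_eq_one_iff_eq_inv.mp e, map_inv, hcy] at hcx
      exact hy (noinv y hyo (by simpa using hcx))
    have hinvxy : φ a (x * y) = (x * y)⁻¹ := by rw [map_mul, hax, hay, mul_inv_rev, hc.inv_inv.eq]
    obtain ⟨u, hu, hu1, hua, hux⟩ := partner a ha ha1 _ (oddmul x y hc hxo hyo) hne hinvxy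
    rcases (trio a ha b hb ha1 hb1 hab u hu hu1).resolve_left hua with rfl | rfl
    · rw [map_mul, hbx, hby, mul_right_inj] at hux
      exact hy (noinv y hyo hux)
    · rw [map_mul, hcx, hcy, mul_left_inj] at hux
      exact hx (noinv x hxo hux)
  -- follow the partners
  haveI : Nontrivial ↥A := Finite.one_lt_card_iff_nontrivial.mp (by rw [hA.card_four]; norm_num)
  obtain ⟨⟨a, ha⟩, ha1'⟩ := exists_ne (1 : ↥A)
  have ha1 : a ≠ 1 := fun e => ha1' (Subtype.ext e)
  obtain ⟨x, hxo, hx, hax⟩ := getx a ha ha1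
  obtain ⟨b, hb, hb1, hba, hbx⟩ := partner a ha ha1 x hxo hx hax
  obtain ⟨y, hyo, hy, hby⟩ := getx b hb hb1
  obtain ⟨c, hc, hc1, hcb, hcy⟩ := partner b hb hb1 y hyo hy hby
  rcases trio a ha b hb ha1 hb1 hba.symm c hc hc1 with rfl | rfl | rfl
  · exact two c ha b hb hc1 hb1 hcb x y hxo hyo hx hy hax hbx hby hcy
  · exact hcb rfl
  · exact three a ha b hb ha1 hb1 hba.symm x y hxo hyo hx hy hax hbx hby hcy

end Cfsg.Agent.S3195
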