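import Cfsg.Statements.S3196
import Cfsg.Agent.Lib.Involution.Basic
import Cfsg.Agent.Lib.PNormal.RankTwo

set_option autoImplicit false
open Cfsg

namespace Cfsg.Agent.S3196
open scoped Pointwise

variable {G : Type*} [Group G] [Finite G]

theorem commute_zpowers {X Y : Subgroup G} {x y : G} (hX : X = Subgroup.zpowers x)
    (hY : Y = Subgroup.zpowers y) :
    (∀ a ∈ X, ∀ b ∈ Y, a * b = b * a) ↔ Commute x y := by
  subst hX hY
  refine ⟨fun h => h x (Subgroup.mem_zpowers x) y (Subgroup.mem_zpowers y), ?_⟩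
  rintro h _ ⟨i, rfl⟩ _ ⟨j, rfl⟩
  exact (h.zpow_zpow i j).eq

theorem pow_mem_zpowers_imp {p : ℕ} (hp : p.Prime) {a : G} (ha : orderOf a = p) {k : ℤ}
    (hk : ¬ (p : ℤ) ∣ k) : a ∈ Subgroup.zpowers (a ^ k) := by
  obtain ⟨u, v, huv⟩ : ∃ u v : ℤ, u * k + v * p = 1 := by
    have := (Nat.prime_iff_prime_int.1 hp).coprime_iff_not_dvd.2 hk
    obtain ⟨u, v, h⟩ := this
    exact ⟨v, u, by linarith⟩
  refine Subgroup.mem_zpowers_iff.2 ⟨u, ?_⟩
  have h1 : a ^ (v * (p : ℤ)) = 1 := by
    rw [mul_comm, zpow_mul, zpow_natCast, ← ha, pow_orderOf_eq_one, one_zpow]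
  calc (a ^ k) ^ u = a ^ (u * k) * a ^ (v * (p : ℤ)) := by rw [h1, mul_one, ← zpow_mul, mul_comm]
    _ = a := by rw [← zpow_add, huv, zpow_one]

open Involution in
theorem polar_center {p : ℕ} (hp : p.Prime) (K : Set (Subgroup G)) (hK : ∀ X ∈ K, Nat.card ↥X = p)
    (hKc : ∀ X ∈ K, ∀ g : G, X.map (MulAut.conj g).toMonoidHom ∈ K)
    (hex : ∃ X ∈ K, ∃ Y ∈ K, X ≠ Y ∧ ∀ x ∈ X, ∀ y ∈ Y, x * y = y * x)
    (ha : ∀ X ∈ K, ∀ Y ∈ K, X ≠ Y → (∀ x ∈ X, ∀ y ∈ Y, x * y = y * x) →
      ∀ Z : Subgroup G, Z ≤ X ⊔ Y → Nat.card ↥Z = p → Z ∈ K)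
    (hb : ∀ X ∈ K, ∀ Y ∈ K, X ≠ Y → (∀ x ∈ X, ∀ y ∈ Y, x * y = y * x) →
      ∀ W ∈ K, (X ⊔ Y) ⊓ Subgroup.centralizer (W : Set G) ≠ ⊥) :
    (∃ V ∈ K, (∀ W ∈ K, ∀ v ∈ V, ∀ w ∈ W, v * w = w * v) ∧ V ≤ Cfsg.pCore p G) ∧ ¬ IsSimpleGroup G := by
  haveI : Fact p.Prime := ⟨hp⟩
  let P : G → Prop := fun x => x ≠ 1 ∧ Subgroup.zpowers x ∈ K
  have hord : ∀ {x : G}, P x → orderOf x = p := fun {x} hx => by
    rw [← Nat.card_zpowers]; exact hK _ hx.2
  have hgen : ∀ X ∈ K, ∃ x, P x ∧ X = Subgroup.zpowers x := by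
    intro X hX
    haveI : Nontrivial X := Finite.one_lt_card_iff_nontrivial.1 (by rw [hK X hX]; exact hp.one_lt)
    obtain ⟨x, hx⟩ := exists_ne (1 : X)
    have hx1 : (x : G) ≠ 1 := fun h => hx (Subtype.ext h)
    have he : Subgroup.zpowers (x : G) = X := by
      refine Subgroup.eq_of_le_of_card_ge (Subgroup.zpowers_le.2 x.2) ?_
      rw [hK X hX, Nat.card_zpowers]
      exact ((Nat.dvd_prime hp).1 (hK X hX ▸ Subgroup.orderOf_dvd_natCard X x.2)).elim
        (fun h => absurd (orderOf_eq_one_iff.1 h) hx1) (fun h => h.ge)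
    exact ⟨x, ⟨hx1, by rw [he]; exact hX⟩, he.symm⟩
  have hconj : ∀ {x : G} (g : G), P x → P (g * x * g⁻¹) := fun {x} g hx => by
    refine ⟨fun h => hx.1 (conj_eq_one_iff.1 h), ?_⟩
    have := hKc _ hx.2 g
    rwa [MonoidHom.map_zpowers] at this
  have hzeq : ∀ {a b : G}, P a → P b → b ∈ Subgroup.zpowers a → Subgroup.zpowers b = Subgroup.zpowers a :=
    fun {a b} hpa hpb h => Subgroup.eq_of_le_of_card_ge (Subgroup.zpowers_le.2 h)
      (by rw [hK _ hpa.2, hK _ hpb.2])
  -- products of commuting members are members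
  have hprod : ∀ {a b : G} (k : ℤ), P a → P b → Commute a b → a ^ k * b ≠ 1 → P (a ^ k * b) := by
    intro a b k hpa hpb hab hne
    refine ⟨hne, ?_⟩
    have hord' : orderOf (a ^ k * b) = p := by
      refine orderOf_eq_prime ?_ hne
      rw [((hab.zpow_left k)).mul_pow, ← zpow_natCast (a ^ k), ← zpow_mul, mul_comm k,
        zpow_mul, zpow_natCast]
      nth_rewrite 1 [← hord hpa]
      nth_rewrite 1 [← hord hpb]
      rw [pow_orderOf_eq_one, pow_orderOf_eq_one, one_zpow, one_mul]
    by_cases hb' : b ∈ Subgroup.zpowers a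
    · have hm : a ^ k * b ∈ Subgroup.zpowers a := mul_mem (zpow_mem (Subgroup.mem_zpowers a) k) hb'
      rw [Subgroup.eq_of_le_of_card_ge (Subgroup.zpowers_le.2 hm) (by
        rw [hK _ hpa.2, Nat.card_zpowers, hord'])]
      exact hpa.2
    · refine ha _ hpa.2 _ hpb.2 (fun h => hb' (h.ge (Subgroup.mem_zpowers b)))
        ((commute_zpowers rfl rfl).2 hab) _ ?_ (by rw [Nat.card_zpowers, hord'])
      exact Subgroup.zpowers_le.2 (mul_mem (Subgroup.mem_sup_left (zpow_mem (Subgroup.mem_zpowers a) k))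
        (Subgroup.mem_sup_right (Subgroup.mem_zpowers b)))
  -- one point of each line commutes with a given member
  have hline : ∀ {a b q : G}, P a → P b → P q → Commute a b → ¬ Commute a q →
      ∃ k : ℤ, Commute (a ^ k * b) q := by
    intro a b q hpa hpb hpq hab hnc
    by_cases hb' : b ∈ Subgroup.zpowers a
    · obtain ⟨i, rfl⟩ := Subgroup.mem_zpowers_iff.1 hb'
      exact ⟨-i, by rw [← zpow_add, neg_add_cancel, zpow_zero]; exact Commute.one_left q⟩
    have h := hb _ hpa.2 _ hpb.2 (fun h => hb' (h.ge (Subgroup.mem_zpowers b)))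
      ((commute_zpowers rfl rfl).2 hab) _ hpq.2
    obtain ⟨⟨e, he, hec⟩, hne⟩ := (Subgroup.ne_bot_iff_exists_ne_one.1 h)
    have he1 : e ≠ 1 := fun h0 => hne (Subtype.ext h0)
    have hn : Subgroup.zpowers b ≤ Subgroup.normalizer ((Subgroup.zpowers a : Subgroup G) : Set G) := by
      rw [Subgroup.zpowers_le]
      refine Subgroup.centralizer_le_normalizer _ (Subgroup.mem_centralizer_iff.2 ?_)
      rintro _ ⟨i, rfl⟩
      exact (hab.zpow_left i).eq
    have he' : e ∈ ((Subgroup.zpowers a : Subgroup G) : Set G) * ((Subgroup.zpowers b : Subgroup G) : Set G) := by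
      rw [← Subgroup.coe_mul_of_right_le_normalizer_left _ _ hn]; exact he
    obtain ⟨_, ⟨i, rfl⟩, _, ⟨j, rfl⟩, hij⟩ := Set.mem_mul.1 he'
    dsimp only at hij
    have hq : Commute e q := ((Subgroup.mem_centralizer_iff.1 hec) q (Subgroup.mem_zpowers q)).symm
    by_cases hj : (p : ℤ) ∣ j
    · exfalso
      have hbj : b ^ j = 1 := orderOf_dvd_iff_zpow_eq_one.1 (by rw [hord hpb]; exact hj)
      rw [hbj, mul_one] at hij
      by_cases hi : (p : ℤ) ∣ i
      · exact he1 (hij ▸ orderOf_dvd_iff_zpow_eq_one.1 (by rw [hord hpa]; exact hi))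
      · obtain ⟨l, hl⟩ := pow_mem_zpowers_imp hp (hord hpa) hi
        dsimp only at hl
        rw [hij] at hl
        exact hnc (hl ▸ hq.zpow_left l)
    · obtain ⟨l, hl⟩ := pow_mem_zpowers_imp hp (hord hpb) hj
      dsimp only at hl
      refine ⟨i * l, ?_⟩
      have : Commute (e ^ l) q := hq.zpow_left l
      rwa [← hij, (hab.zpow_zpow i j).mul_zpow, ← zpow_mul, hl] at this
  -- a member commuting with all others
  obtain ⟨t, hPt, ht⟩ : ∃ t, P t ∧ ∀ w, P w → Commute t w := by
    by_contra hno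
    push_neg at hno
    obtain ⟨X₀, hX₀, Y₀, hY₀, hne, hcomm⟩ := hex
    obtain ⟨a₀, hPa₀, rfl⟩ := hgen X₀ hX₀
    obtain ⟨b₀, hPb₀, rfl⟩ := hgen Y₀ hY₀
    have hab₀ := (commute_zpowers rfl rfl).1 hcomm
    obtain ⟨q, hq, hxq'⟩ := hno a₀ hPa₀
    set x := a₀ with hx₀
    -- the members commuting with both `x` and `q`
    have key : ∀ t, P t → Commute t x → Commute t q →
        (∀ u, P u → Commute u x → Commute u q → Commute t u) → False := by
      intro t hPt htx htq hC
      have hside : ∀ {y z : G}, P y → P z → ¬ Commute y z → Commute t y →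
          (∀ u, P u → Commute u y → Commute u z → Commute t u) →
          ∀ u, P u → Commute u y → Commute t u := by
        intro y z hy hz hyz hty hC' u hu huy
        obtain ⟨k, hk⟩ := hline hy hu hz huy.symm hyz
        have huv : u = y ^ (-k) * (y ^ k * u) := by group
        by_cases h1 : y ^ k * u = 1
        · rw [huv, h1, mul_one]; exact hty.zpow_right _
        · rw [huv]
          exact (hty.zpow_right _).mul_right (hC' _ (hprod k hy hu huy.symm h1)
            (((Commute.refl y).zpow_left k).mul_left huy) hk)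
      have hX := hside hPa₀ hq hxq' htx (fun u hu h1 h2 => hC u hu h1 h2)
      have hQ := hside hq hPa₀ (fun h => hxq' h.symm) htq (fun u hu h1 h2 => hC u hu h2 h1)
      obtain ⟨w, hw, htw⟩ := hno t hPt
      obtain ⟨k, hk⟩ := hline hPt hPa₀ hw htx htw
      have huq : ¬ Commute (t ^ k * x) q := fun h => hxq' (by
        have h2 := (htq.zpow_left (-k)).mul_left h
        rwa [← mul_assoc, ← zpow_add, neg_add_cancel, zpow_zero, one_mul] at h2)
      have hu1 : t ^ k * x ≠ 1 := fun h => huq (by rw [h]; exact Commute.one_left q)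
      have hPu := hprod k hPt hPa₀ htx hu1
      have htu : Commute t (t ^ k * x) := ((Commute.refl t).zpow_right k).mul_right htx
      obtain ⟨l, hl⟩ := hline hPu hw hq hk huq
      have hwv : w = (t ^ k * x) ^ (-l) * ((t ^ k * x) ^ l * w) := by group
      apply htw
      rw [hwv]
      refine (htu.zpow_right _).mul_right ?_
      by_cases h1 : (t ^ k * x) ^ l * w = 1
      · rw [h1]; exact Commute.one_right t
      · exact hQ _ (hprod l hPu hw hk h1) hl
    -- some member commutes with both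
    obtain ⟨k₀, hk₀⟩ := hline hPa₀ hPb₀ hq hab₀ hxq'
    set t₀ := x ^ k₀ * b₀ with ht₀
    have hbx : b₀ ∉ Subgroup.zpowers x := fun h => hne (hzeq hPa₀ hPb₀ h).symm
    have ht₀1 : t₀ ≠ 1 := fun h => hbx (Subgroup.mem_zpowers_iff.2
      ⟨-k₀, by rw [zpow_neg]; exact inv_eq_of_mul_eq_one_right h⟩)
    have hPt₀ : P t₀ := hprod k₀ hPa₀ hPb₀ hab₀ ht₀1
    have ht₀x : Commute t₀ x := ((Commute.refl x).zpow_left k₀).mul_left hab₀.symm
    set r := x * q * x⁻¹ with hr
    have hPr : P r := hconj x hq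
    have hfix : ∀ u : G, Commute u x → Commute u q → Commute u r :=
      fun u h1 h2 => (h1.mul_right h2).mul_right h1.inv_right
    by_cases hrq : Commute q r
    · have hrn : r ∉ Subgroup.zpowers q := by
        rintro ⟨i, hi⟩
        dsimp only at hi
        -- `x` would normalise, hence centralise, `⟨q⟩`
        apply hxq'
        have hqn : x ∈ Subgroup.normalizer ((Subgroup.zpowers q : Subgroup G) : Set G) := by
          have hmap : (Subgroup.zpowers q).map (MulAut.conj x).toMonoidHom = Subgroup.zpowers q := by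
            rw [MonoidHom.map_zpowers]
            exact hzeq hq hPr ⟨i, hi⟩
          rw [Subgroup.mem_normalizer_iff]
          intro h
          constructor
          · exact fun hh => hmap.le ⟨h, hh, rfl⟩
          · intro hh
            obtain ⟨h', hh', he⟩ := hmap.ge hh
            exact ((MulAut.conj x).injective (by simpa using he) : h' = h) ▸ hh'
        have hpg : IsPGroup p ↥(Subgroup.zpowers x ⊔ Subgroup.zpowers q) :=
          IsPGroup.to_sup_of_normal_right'
            (IsPGroup.of_card (n := 1) (by rw [hK _ hPa₀.2, pow_one]))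
            (IsPGroup.of_card (n := 1) (by rw [hK _ hq.2, pow_one])) (Subgroup.zpowers_le.2 hqn)
        set N := Subgroup.zpowers x ⊔ Subgroup.zpowers q with hN
        have hxN : x ∈ N := Subgroup.mem_sup_left (Subgroup.mem_zpowers x)
        have hle : Subgroup.zpowers q ≤ N := le_sup_right
        haveI hqnorm : ((Subgroup.zpowers q).subgroupOf N).Normal := by
          rw [Subgroup.normal_subgroupOf_iff_le_normalizer hle]
          exact sup_le (Subgroup.zpowers_le.2 hqn) Subgroup.le_normalizer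
        haveI : Nontrivial ((Subgroup.zpowers q).subgroupOf N) :=
          Finite.one_lt_card_iff_nontrivial.1 (by
            rw [Nat.card_congr (Subgroup.subgroupOfEquivOfLe hle).toEquiv, hK _ hq.2]; exact hp.one_lt)
        have hinter : ((Subgroup.zpowers q).subgroupOf N) ⊓ Subgroup.center N ≠ ⊥ := by
          obtain ⟨b, hb1, hb2, -, hb3⟩ := PNormal.exists_central_mod hpg
            (bot_lt_iff_ne_bot.2 ((Subgroup.nontrivial_iff_ne_bot ((Subgroup.zpowers q).subgroupOf N)).1 inferInstance))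
          intro hd
          refine hb2 (hd.le ⟨hb1, Subgroup.mem_center_iff.2 fun g => ?_⟩)
          have := Subgroup.mem_bot.1 (hb3 g)
          rwa [mul_inv_eq_one, mul_inv_eq_iff_eq_mul] at this
        obtain ⟨⟨z, hz1, hz2⟩, hz0⟩ := Subgroup.ne_bot_iff_exists_ne_one.1 hinter
        have hzc : Commute x (z : G) :=
          congrArg Subtype.val (Subgroup.mem_center_iff.1 hz2 ⟨x, hxN⟩)
        obtain ⟨j, hj⟩ := Subgroup.mem_subgroupOf.1 hz1
        dsimp only at hj
        have hjd : ¬ (p : ℤ) ∣ j := fun h => hz0 (Subtype.ext (Subtype.ext (hj.symm.trans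
          (orderOf_dvd_iff_zpow_eq_one.1 (by rw [hord hq]; exact h)))))
        obtain ⟨l, hl⟩ := pow_mem_zpowers_imp hp (hord hq) hjd
        dsimp only at hl
        rw [← hl, hj]
        exact hzc.zpow_right l
      have hqx : ¬ Commute q x := fun h => hxq' h.symm
      obtain ⟨k, hk⟩ := hline hq hPr hPa₀ hrq hqx
      have h1 : q ^ k * r ≠ 1 := fun h => hrn (Subgroup.mem_zpowers_iff.2
        ⟨-k, by rw [zpow_neg]; exact inv_eq_of_mul_eq_one_right h⟩)
      exact key _ (hprod k hq hPr hrq h1) hk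
        (((Commute.refl q).zpow_left k).mul_left hrq.symm)
        fun u _ hux huq => (huq.symm.zpow_left k).mul_left (hfix u hux huq).symm
    · refine key t₀ hPt₀ ht₀x hk₀ fun u hu hux huq => ?_
      by_contra htu
      have hzq : ¬ Commute (x * t₀) q := fun h => hxq' (by
        have := h.mul_left hk₀.inv_left
        rwa [mul_inv_cancel_right] at this)
      have hz1 : x * t₀ ≠ 1 := fun h => hzq (by rw [h]; exact Commute.one_left q)
      have hPz : P (x * t₀) := by
        have := hprod (1 : ℤ) hPa₀ hPt₀ ht₀x.symm (by rwa [zpow_one])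
        rwa [zpow_one] at this
      obtain ⟨k, hk⟩ := hline hq hu hPz huq.symm (fun h => hzq h.symm)
      have hzr : (x * t₀) * q * (x * t₀)⁻¹ = r := by
        rw [hr, show x * t₀ * q * (x * t₀)⁻¹ = x * (t₀ * q * t₀⁻¹) * x⁻¹ by group, hk₀.eq,
          mul_inv_cancel_right]
      have hsq : Commute (q ^ k * u) q := ((Commute.refl q).zpow_left k).mul_left huq
      have hsr : Commute (q ^ k * u) r := hzr ▸ (hk.mul_right hsq).mul_right hk.inv_right
      have hqr : Commute (q ^ k) r := by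
        have := hsr.mul_left (hfix u hux huq).inv_left
        rwa [mul_inv_cancel_right] at this
      by_cases hkp : (p : ℤ) ∣ k
      · rw [orderOf_dvd_iff_zpow_eq_one.1 (by rw [hord hq]; exact hkp), one_mul] at hk
        apply htu
        have := (hux.inv_right).mul_right hk
        rw [inv_mul_cancel_left] at this
        exact this.symm
      · obtain ⟨l, hl⟩ := pow_mem_zpowers_imp hp (hord hq) hkp
        dsimp only at hl
        exact hrq (hl ▸ hqr.zpow_left l)
  -- its normal closure is abelian and generated by elements of order `p`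
  have hcen : ∀ a b : G, IsConj t a → IsConj t b → Commute a b := by
    intro a b h1 h2
    obtain ⟨g, rfl⟩ := isConj_iff.1 h1
    obtain ⟨g', rfl⟩ := isConj_iff.1 h2
    have := (ht _ (hconj (g⁻¹ * g') hPt)).map (MulAut.conj g).toMonoidHom
    have e : g * (g⁻¹ * g' * t * (g⁻¹ * g')⁻¹) * g⁻¹ = g' * t * g'⁻¹ := by group
    simp only [MulEquiv.toMonoidHom_eq_coe, MonoidHom.coe_coe, MulAut.conj_apply] at this
    rwa [e] at this
  set N := Subgroup.normalClosure ({t} : Set G) with hN
  have hcls : ∀ a ∈ Group.conjugatesOfSet ({t} : Set G), IsConj t a := by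
    intro a ha'
    obtain ⟨c, hc, hca⟩ := Group.mem_conjugatesOfSet_iff.1 ha'
    rwa [Set.mem_singleton_iff.1 hc] at hca
  have hNcomm : ∀ a ∈ N, ∀ b ∈ N, Commute a b := by
    have hm : IsMulCommutative N := Subgroup.isMulCommutative_closure fun a ha' b hb' =>
      (hcen a b (hcls a ha') (hcls b hb')).eq
    exact fun a ha' b hb' => congrArg Subtype.val (hm.is_comm.comm ⟨a, ha'⟩ ⟨b, hb'⟩)
  have hNexp : ∀ a ∈ N, a ^ p = 1 := by
    intro a ha'
    induction ha' using Subgroup.closure_induction with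
    | mem a h => rw [← hord hPt, orderOf_eq_of_isConj (hcls a h)]; exact pow_orderOf_eq_one a
    | one => exact one_pow p
    | mul a b h1 h2 iha ihb => rw [(hNcomm a h1 b h2).mul_pow, iha, ihb, one_mul]
    | inv a _ iha => rw [inv_pow, iha, inv_one]
  have hNp : IsPGroup p N := fun a => ⟨1, Subtype.ext (by rw [pow_one]; exact hNexp a a.2)⟩
  have hle : N ≤ Cfsg.pCore p G := le_sSup ⟨Subgroup.normalClosure_normal, hNp⟩
  have htN : t ∈ N := Subgroup.subset_normalClosure rfl
  refine ⟨⟨_, hPt.2, fun W hW v hv w hw => ?_, (Subgroup.zpowers_le.2 htN).trans hle⟩, fun hs => ?_⟩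
  · obtain ⟨y, hy, rfl⟩ := hgen W hW
    exact (commute_zpowers rfl rfl).2 (ht y hy) v hv w hw
  · rcases hs.eq_bot_or_eq_top_of_normal N Subgroup.normalClosure_normal with h | h
    · exact hPt.1 (Subgroup.mem_bot.1 (h ▸ htN))
    · letI : CommGroup G := { (inferInstance : Group G) with
        mul_comm := fun a b => (hNcomm a (h ▸ Subgroup.mem_top a) b (h ▸ Subgroup.mem_top b)).eq }
      obtain ⟨X₀, hX₀, Y₀, hY₀, hne, -⟩ := hex
      have hcard : (Nat.card G).Prime := IsSimpleGroup.prime_card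
      have htop : ∀ X ∈ K, X = ⊤ := fun X hX => Subgroup.eq_top_of_card_eq X (by
        rw [hK X hX]
        exact (hcard.eq_one_or_self_of_dvd p (hK X hX ▸ Subgroup.card_subgroup_dvd_card X)).resolve_left hp.ne_one)
      exact hne ((htop _ hX₀).trans (htop _ hY₀).symm)

/-- Let p be a prime and K a set of subgroups of order p of a finite group G, closed under conjugation, such that at least two distinct members of K commute elementwise, and whenever two distinct members X, Y of K commute: every subgroup of order p of the group XY they generate belongs to K, and every member W of K has centralizer meeting XY nontrivially. Then some member V of K commutes elementwise with every member of K and lies in O_p(G); in particular G is not simple. -/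
theorem result {G : Type*} [Group G] [Finite G]
    {p : ℕ} (hp : p.Prime) (K : Set (Subgroup G)) (hK : ∀ X ∈ K, Nat.card ↥X = p)
    (hKc : ∀ X ∈ K, ∀ g : G, X.map (MulAut.conj g).toMonoidHom ∈ K)
    (hex : ∃ X ∈ K, ∃ Y ∈ K, X ≠ Y ∧ ∀ x ∈ X, ∀ y ∈ Y, x * y = y * x)
    (ha : ∀ X ∈ K, ∀ Y ∈ K, X ≠ Y → (∀ x ∈ X, ∀ y ∈ Y, x * y = y * x) →
      ∀ Z : Subgroup G, Z ≤ X ⊔ Y → Nat.card ↥Z = p → Z ∈ K)
    (hb : ∀ X ∈ K, ∀ Y ∈ K, X ≠ Y → (∀ x ∈ X, ∀ y ∈ Y, x * y = y * x) →
      ∀ W ∈ K, (X ⊔ Y) ⊓ Subgroup.centralizer (W : Set G) ≠ ⊥) :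
    (∃ V ∈ K, (∀ W ∈ K, ∀ v ∈ V, ∀ w ∈ W, v * w = w * v) ∧ V ≤ Cfsg.pCore p G) ∧ ¬ IsSimpleGroup G := polar_center hp K hK hKc hex ha hb

end Cfsg.Agent.S3196
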