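import Cfsg.Statements.S3198
import Cfsg.Agent.EqLemmas
import Cfsg.Agent.Lib.L34Sylow.Embed
import Mathlib.FieldTheory.Finite.GaloisField
-- import your own Cfsg.Agent.* helpers here

set_option autoImplicit false
open Cfsg

namespace Cfsg.Agent.S3198

open Cfsg.Agent.L34Sylow Matrix
open Cfsg.Agent.SU32 (K4)

/-- The unitriangular group inside `PSL₃(F)`. -/
theorem exists_equiv_sylow {F : Type*} [Field F] [Fintype F] (σ : K4 ≃+* F)
    (P : Sylow 2 (Matrix.ProjectiveSpecialLinearGroup (Fin 3) F)) : Nonempty (H3 ≃* (P : Subgroup (Matrix.ProjectiveSpecialLinearGroup (Fin 3) F))) := by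
  haveI : Fact (Nat.Prime 2) := ⟨Nat.prime_two⟩
  let v : H3 →* Matrix.SpecialLinearGroup (Fin 3) K4 :=
    MonoidHom.mk' (fun x => ⟨uMat x, by simp [uMat, Matrix.det_fin_three]⟩) fun x y =>
      Subtype.ext (uMat_mul x y).symm
  let u : H3 →* Matrix.ProjectiveSpecialLinearGroup (Fin 3) F :=
    (QuotientGroup.mk' _).comp ((Matrix.SpecialLinearGroup.map (σ : K4 →+* F)).comp v)
  have hu : Function.Injective u := by
    rw [injective_iff_map_eq_one]
    intro x hx
    have hc : Matrix.SpecialLinearGroup.map (σ : K4 →+* F) (v x) ∈ Subgroup.center _ :=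
      (QuotientGroup.eq_one_iff _).1 hx
    obtain ⟨r, -, hr⟩ := Matrix.SpecialLinearGroup.mem_center_iff.1 hc
    have h : ∀ i j, i ≠ j → σ (uMat x i j) = 0 := fun i j hij =>
      (congrFun (congrFun hr i) j).symm.trans (by simp [hij])
    have h1 := h 0 1 (by decide)
    have h2 := h 1 2 (by decide)
    have h3 := h 0 2 (by decide)
    simp [uMat] at h1 h2 h3
    exact H3.ext h1 h2 h3
  have hcF : Nat.card F = 4 := by
    rw [← Nat.card_congr σ.toEquiv, Nat.card_eq_fintype_card, SU32.K4.card_eq]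
  have hP : Nat.card (Matrix.ProjectiveSpecialLinearGroup (Fin 3) F) = 20160 := by
    rw [GLOrder.card_PSL, GLOrder.card_SL, hcF]
    simp only [Fintype.card_fin, show Finset.Ico 1 3 = {1, 2} from rfl]
    decide
  have h64 : Nat.card u.range = 64 := by rw [← Nat.card_congr (MonoidHom.ofInjective hu).toEquiv, H3.card_eq]
  let Q : Sylow 2 (Matrix.ProjectiveSpecialLinearGroup (Fin 3) F) :=
    (IsPGroup.of_card (n := 6) (by rw [h64]; norm_num) : IsPGroup 2 u.range).toSylow (by
      have h := u.range.card_mul_index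
      rw [h64, hP] at h
      omega)
  exact ⟨(MonoidHom.ofInjective hu).trans (Sylow.equiv Q P)⟩

/-- If G is a finite group whose Sylow 2-subgroups are isomorphic to those of PSL(3, 4), then G modulo its largest normal subgroup of odd order is isomorphic to a subgroup of PGL(3, 4) (the general linear group of dimension 3 over the field with 4 elements modulo its centre). -/
theorem result {G : Type*} [Group G] [Finite G]
    {F : Type*} [Field F] [Fintype F] (hF : Fintype.card F = 4) (S : Sylow 2 G)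
    (P : Sylow 2 (Matrix.ProjectiveSpecialLinearGroup (Fin 3) F))
    (hS : Nonempty (↥(S : Subgroup G) ≃* ↥(P : Subgroup (Matrix.ProjectiveSpecialLinearGroup (Fin 3) F)))) :
    ∃ f : G ⧸ Cfsg.oddCore G →* GL (Fin 3) F ⧸ Subgroup.center (GL (Fin 3) F), Function.Injective f := by
  haveI : Fact (Nat.Prime 2) := ⟨Nat.prime_two⟩
  obtain ⟨eS⟩ := hS
  let σ : K4 ≃+* F := FiniteField.ringEquivOfCardEq (by rw [hF, SU32.K4.card_eq])
  obtain ⟨eP⟩ := exists_equiv_sylow σ P
  set e : H3 ≃* (S : Subgroup G) := eP.trans eS.symm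
  let F₀ : Frm G :=
    { S := S
      ι := (S : Subgroup G).subtype.comp e.toMonoidHom
      inj := (S : Subgroup G).subtype_injective.comp e.injective
      range_eq := by
        rw [MonoidHom.range_comp, MonoidHom.range_eq_top.2 e.surjective, ← MonoidHom.range_eq_map,
          Subgroup.range_subtype] }
  have hodd : Odd (Nat.card (Cfsg.oddCore G)) := by
    rw [Nat.odd_iff]
    have h : ¬ 2 ∣ Nat.card (Cfsg.oddCore G) := Cores.not_dvd_card_pPrimeCore
    omega
  obtain ⟨f, hf⟩ := (F₀.quot (Cfsg.oddCore G) hodd).exists_embed (Cores.pPrimeCore_quotient_self 2)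
  let τ : GL (Fin 3) K4 ≃* GL (Fin 3) F := Units.mapEquiv (σ.mapMatrix (m := Fin 3)).toMulEquiv
  let ρ : P3 ≃* GL (Fin 3) F ⧸ Subgroup.center (GL (Fin 3) F) :=
    QuotientGroup.congr _ _ τ (Linear.map_center_mulEquiv τ)
  exact ⟨ρ.toMonoidHom.comp f, ρ.injective.comp hf⟩

end Cfsg.Agent.S3198
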