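import Cfsg.Statements.S3200
import Cfsg.Agent.Lib.CharApp.Burnside
import Cfsg.Agent.Lib.Solvable.Hall
import Cfsg.Agent.Lib.Cores.Subnormal

set_option autoImplicit false
open Cfsg

namespace Cfsg.Agent.S3200

universe u

/-- An abelian subgroup of odd order whose index is a power of two. -/
def HasAbHall (H : Type u) [Group H] : Prop :=
  ∃ C : Subgroup H, IsMulCommutative ↥C ∧ Odd (Nat.card ↥C) ∧ ∃ k, C.index = 2 ^ k

theorem toComplement {H : Type u} [Group H] [Finite H] (h : HasAbHall H) :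
    ∃ (P : Sylow 2 H) (D : Subgroup H), IsMulCommutative ↥D ∧ Subgroup.IsComplement' (P : Subgroup H) D := by
  haveI : Fact (Nat.Prime 2) := ⟨Nat.prime_two⟩
  obtain ⟨C, hC, hodd, k, hk⟩ := h
  obtain ⟨P⟩ : Nonempty (Sylow 2 H) := inferInstance
  refine ⟨P, C, hC, ?_⟩
  have hco : (Nat.card ↥(P : Subgroup H)).Coprime (Nat.card ↥C) := by
    obtain ⟨j, hj⟩ := P.isPGroup'.exists_card_eq
    rw [hj]; exact Nat.Coprime.pow_left j (Nat.coprime_two_left.mpr hodd)
  refine Subgroup.isComplement'_of_coprime (Nat.dvd_antisymm ?_ ?_) hco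
  · exact hco.mul_dvd_of_dvd_of_dvd (Subgroup.card_subgroup_dvd_card _) (Subgroup.card_subgroup_dvd_card C)
  · rw [← C.card_mul_index, hk, mul_comm (Nat.card ↥(P : Subgroup H))]
    refine mul_dvd_mul_left _ (P.pow_dvd_card_of_pow_dvd_card ?_)
    rw [← hk]
    exact C.index_dvd_card

theorem normal_hasAbHall {H : Type u} [Group H] [Finite H] (h : HasAbHall H) (N : Subgroup H) [N.Normal] :
    HasAbHall ↥N := by
  obtain ⟨C, hC, hodd, k, hk⟩ := h
  refine ⟨C.subgroupOf N, ⟨⟨fun x y => Subtype.ext (Subtype.ext ?_)⟩⟩, ?_, ?_⟩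
  · show ((x : ↥N) : H) * (y : ↥N) = (y : ↥N) * (x : ↥N)
    exact congrArg Subtype.val (hC.is_comm.comm ⟨_, x.2⟩ ⟨_, y.2⟩)
  · refine hodd.of_dvd_nat ?_
    refine dvd_trans (dvd_of_eq (Subgroup.card_map_of_injective (K := C.subgroupOf N) (Subgroup.subtype_injective N)).symm) ?_
    rw [Subgroup.subgroupOf_map_subtype]
    exact Subgroup.card_dvd_of_le inf_le_left
  · have hd : C.relIndex N ∣ 2 ^ k := hk ▸ Cores.relIndex_dvd_index_of_normal_right C N
    obtain ⟨j, -, hj⟩ := (Nat.dvd_prime_pow Nat.prime_two).mp hd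
    exact ⟨j, hj⟩

theorem quotient_hasAbHall {H : Type u} [Group H] [Finite H] (h : HasAbHall H) (N : Subgroup H) [N.Normal] :
    HasAbHall (H ⧸ N) := by
  obtain ⟨C, hC, hodd, k, hk⟩ := h
  refine ⟨C.map (QuotientGroup.mk' N), ⟨⟨fun x y => Subtype.ext ?_⟩⟩, hodd.of_dvd_nat (Subgroup.card_map_dvd C _), ?_⟩
  · obtain ⟨x', hx', hxe⟩ := x.2
    obtain ⟨y', hy', hye⟩ := y.2
    show (x : H ⧸ N) * y = y * x
    rw [← hxe, ← hye, ← map_mul, ← map_mul]
    exact congrArg _ (congrArg Subtype.val (hC.is_comm.comm ⟨x', hx'⟩ ⟨y', hy'⟩))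
  · obtain ⟨j, -, hj⟩ := (Nat.dvd_prime_pow Nat.prime_two).mp
      (hk ▸ C.index_map_dvd (QuotientGroup.mk'_surjective N))
    exact ⟨j, hj⟩

theorem isSolvable_of_hasAbHall : ∀ (n : ℕ) (H : Type u) [Group H] [Finite H],
    Nat.card H ≤ n → HasAbHall H → Group.IsSolvable H := by
  intro n
  induction n with
  | zero => intro H _ _ hn; exact absurd hn (Nat.not_le.mpr Nat.card_pos)
  | succ n ih =>
    intro H _ _ hn h
    haveI : Fact (Nat.Prime 2) := ⟨Nat.prime_two⟩
    rcases subsingleton_or_nontrivial H with hs | hnt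
    · infer_instance
    by_cases hsimple : IsSimpleGroup H
    · obtain ⟨C, hC, hodd, k, hk⟩ := h
      by_cases hb : C = ⊥
      · rw [hb, Subgroup.index_bot] at hk
        haveI := (IsPGroup.of_card (n := k) hk : IsPGroup 2 H).isNilpotent
        infer_instance
      haveI := (Subgroup.nontrivial_iff_ne_bot C).mpr hb
      obtain ⟨⟨c, hc⟩, hc1⟩ := exists_ne (1 : ↥C)
      have hle : C ≤ Subgroup.centralizer ({c} : Set H) := fun x hx =>
        Subgroup.mem_centralizer_singleton_iff.mpr (congrArg Subtype.val (hC.is_comm.comm ⟨x, hx⟩ ⟨c, hc⟩))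
      obtain ⟨j, -, hj⟩ := (Nat.dvd_prime_pow Nat.prime_two).mp (hk ▸ Subgroup.index_dvd_of_le hle)
      have hp := CharApp.prime_card_of_simple_prime_pow_class 2 j Nat.prime_two c
        (fun e => hc1 (Subtype.ext e)) hj
      haveI := Fact.mk hp
      haveI : IsCyclic H := isCyclic_of_prime_card rfl
      exact Group.isSolvable_of_comm fun a b => (IsCyclic.commutative (α := H)).is_comm.comm a b
    · obtain ⟨N, hN, hb, ht⟩ : ∃ N : Subgroup H, N.Normal ∧ N ≠ ⊥ ∧ N ≠ ⊤ := by
        by_contra hcon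
        push Not at hcon
        exact hsimple ⟨fun N hN => or_iff_not_imp_left.mpr (hcon N hN)⟩
      have h1 : Nat.card ↥N < Nat.card H := lt_of_le_of_ne N.card_le_card_group
        fun e => ht ((Subgroup.card_eq_iff_eq_top N).mp e)
      have h2 : Nat.card (H ⧸ N) < Nat.card H := by
        rw [N.card_eq_card_quotient_mul_card_subgroup]
        exact lt_mul_of_one_lt_right Nat.card_pos (N.one_lt_card_iff_ne_bot.mpr hb)
      have s1 : Group.IsSolvable ↥N := ih ↥N (by omega) (normal_hasAbHall h N)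
      have s2 : Group.IsSolvable (H ⧸ N) := ih (H ⧸ N) (by omega) (quotient_hasAbHall h N)
      exact Group.isSolvable_iff_subgroup_quotient N |>.mpr ⟨s1, s2⟩

theorem subgroup_hasAbHall {H : Type u} [Group H] [Finite H] (hsol : Group.IsSolvable H) (h : HasAbHall H)
    (L : Subgroup H) : HasAbHall ↥L := by
  haveI := hsol
  haveI : Fact (Nat.Prime 2) := ⟨Nat.prime_two⟩
  obtain ⟨C, hC, hodd, k, hk⟩ := h
  obtain ⟨P⟩ : Nonempty (Sylow 2 ↥L) := inferInstance
  obtain ⟨j, hj⟩ := P.isPGroup'.exists_card_eq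
  have hPodd : Odd (P : Subgroup ↥L).index := by
    rw [Nat.odd_iff, ← Nat.two_dvd_ne_zero]; exact P.not_dvd_index
  have hL := (P : Subgroup ↥L).card_mul_index
  rw [hj, mul_comm] at hL
  obtain ⟨D, hD⟩ := Solvable.exists_card_eq_of_solvable hL.symm
    (Nat.Coprime.pow_right j (Nat.coprime_two_right.mpr hPodd))
  have hDi : D.index = 2 ^ j := by
    have := D.card_mul_index
    rw [hD, ← hL] at this
    exact Nat.eq_of_mul_eq_mul_left hPodd.pos this
  have hH : Nat.card H = Nat.card ↥C * 2 ^ k := by rw [← hk, C.card_mul_index]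
  have hcop : (Nat.card ↥C).Coprime (2 ^ k) := Nat.Coprime.pow_right k (Nat.coprime_two_right.mpr hodd)
  obtain ⟨C', hC', hle⟩ := Solvable.exists_card_eq_ge_of_solvable hH hcop
    (K := D.map L.subtype) (by
      rw [Subgroup.card_map_of_injective (Subgroup.subtype_injective L), hD]
      exact Nat.Coprime.pow_right k (Nat.coprime_two_right.mpr hPodd))
  obtain ⟨g, hg⟩ := Solvable.conj_of_card_eq_of_solvable hH hcop rfl hC'
  refine ⟨D, ⟨⟨fun x y => Subtype.ext (Subtype.ext ?_)⟩⟩, hD ▸ hPodd, j, hDi⟩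
  have hx := hle ⟨x, x.2, rfl⟩
  have hy := hle ⟨y, y.2, rfl⟩
  rw [← hg] at hx hy
  obtain ⟨u, hu, hue⟩ := hx
  obtain ⟨v, hv, hve⟩ := hy
  show ((x : ↥L) : H) * (y : ↥L) = (y : ↥L) * (x : ↥L)
  have e1 : MulAut.conj g u = ((x : ↥L) : H) := hue
  have e2 : MulAut.conj g v = ((y : ↥L) : H) := hve
  rw [← e1, ← e2, ← map_mul, ← map_mul]
  exact congrArg _ (congrArg Subtype.val (hC.is_comm.comm ⟨u, hu⟩ ⟨v, hv⟩))

/-- Let H be a finite group in which a Sylow 2-subgroup has an abelian complement (an abelian subgroup meeting it trivially whose product with it is all of H). Then H is solvable, and every subgroup and every quotient group of H again has a Sylow 2-subgroup with an abelian complement. -/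
theorem result {H : Type*} [Group H] [Finite H]
    (S : Sylow 2 H) (C : Subgroup H) (hC : IsMulCommutative ↥C) (hSC : Subgroup.IsComplement' (S : Subgroup H) C) :
    Group.IsSolvable H ∧
    (∀ L : Subgroup H, ∃ (P : Sylow 2 ↥L) (D : Subgroup ↥L), IsMulCommutative ↥D ∧ Subgroup.IsComplement' (P : Subgroup ↥L) D) ∧
    (∀ (N : Subgroup H) [N.Normal], ∃ (P : Sylow 2 (H ⧸ N)) (D : Subgroup (H ⧸ N)),
      IsMulCommutative ↥D ∧ Subgroup.IsComplement' (P : Subgroup (H ⧸ N)) D) := by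
  haveI : Fact (Nat.Prime 2) := ⟨Nat.prime_two⟩
  obtain ⟨a, ha⟩ := S.isPGroup'.exists_card_eq
  have hcm := hSC.card_mul
  have hSi : Nat.card ↥C = (S : Subgroup H).index :=
    Nat.eq_of_mul_eq_mul_left Nat.card_pos (hcm.trans (S : Subgroup H).card_mul_index.symm)
  have hodd : Odd (Nat.card ↥C) := by
    rw [hSi, Nat.odd_iff, ← Nat.two_dvd_ne_zero]; exact S.not_dvd_index
  have hidx : ∃ k, C.index = 2 ^ k := by
    refine ⟨a, Nat.eq_of_mul_eq_mul_left (Nat.card_pos (α := ↥C)) ?_⟩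
    rw [C.card_mul_index, ← hcm, ha, mul_comm]
  have hP : HasAbHall H := ⟨C, hC, hodd, hidx⟩
  have hsol := isSolvable_of_hasAbHall _ H le_rfl hP
  refine ⟨hsol, fun L => toComplement (subgroup_hasAbHall hsol hP L), fun N _ => ?_⟩
  exact toComplement (quotient_hasAbHall hP N)

end Cfsg.Agent.S3200
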