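import Cfsg.Statements.S3201
import Cfsg.Agent.Lib.QuatQuot.Basic

set_option autoImplicit false
open Cfsg

namespace Cfsg.Agent.S3201

/-- Let S be a finite 2-group whose centre Z(S) has n ≥ 2 distinct maximal subgroups C₁, …, Cₙ with trivial intersection such that each quotient S/Cᵢ is a non-abelian group with exactly one involution (a generalized quaternion group). Then S is the internal direct product of an elementary abelian subgroup and a non-abelian subgroup with exactly one involution. -/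
theorem result {S : Type*} [Group S] [Finite S]
    (hS : IsPGroup 2 S) (n : ℕ) (hn : 2 ≤ n) (C : Fin n → Subgroup ↥(Subgroup.center S))
    (hCmax : ∀ i, IsCoatom (C i)) (hCinj : Function.Injective C) (hCint : ⨅ i, C i = ⊥)
    (hCq : ∀ i, ∃ (_ : ((C i).map (Subgroup.center S).subtype).Normal),
      ¬ IsMulCommutative (S ⧸ (C i).map (Subgroup.center S).subtype) ∧
      ∃! x : S ⧸ (C i).map (Subgroup.center S).subtype, orderOf x = 2) :
    ∃ E Q : Subgroup S, Cfsg.IsInternalDirectProduct E Q ⊤ ∧ Cfsg.IsElementaryAbelian 2 E ∧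
      ¬ IsMulCommutative ↥Q ∧ ∃! x : ↥Q, orderOf x = 2 := by
  haveI : Fact (Nat.Prime 2) := ⟨Nat.prime_two⟩
  have i₀ : Fin n := ⟨0, by omega⟩
  let C' : Fin n → Subgroup S := fun i => (C i).map (Subgroup.center S).subtype
  have hC'Z : ∀ i, C' i ≤ (Subgroup.center S) := fun i => Subgroup.map_subtype_le _
  have hint : ∀ x : S, (∀ i, x ∈ C' i) → x = 1 := by
    intro x hx
    have h : (⟨x, hC'Z i₀ (hx i₀)⟩ : ↥(Subgroup.center S)) ∈ ⨅ i, C i := by
      rw [Subgroup.mem_iInf]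
      intro i
      obtain ⟨z, hz, hze⟩ := hx i
      rwa [show (⟨x, hC'Z i₀ (hx i₀)⟩ : ↥(Subgroup.center S)) = z from Subtype.ext hze.symm]
    rw [hCint, Subgroup.mem_bot] at h
    exact congrArg Subtype.val h
  have hne : ∀ i, ∃ z ∈ (Subgroup.center S), z ∉ C' i := by
    intro i
    obtain ⟨z, hz⟩ : ∃ z : ↥(Subgroup.center S), z ∉ C i := by
      by_contra h
      push Not at h
      exact (hCmax i).1 (eq_top_iff.mpr fun z _ => h z)
    exact ⟨z, z.2, fun ⟨z', hz', he⟩ => hz (Subtype.ext he ▸ hz')⟩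
  have main : ∀ i, ∃ (a b : S) (m : ℕ), Subgroup.closure {a, b} ⊔ C' i = ⊤ ∧ (C' i).index = 4 * m ∧
      a ^ (2 * m) ∈ C' i ∧ a ^ m ∉ C' i ∧ (a ^ m)⁻¹ * b ^ 2 ∈ C' i ∧ a * (b * a * b⁻¹) ∈ C' i ∧
      (∀ x, x ^ 2 ∈ C' i → x ∈ C' i ∨ (a ^ m)⁻¹ * x ∈ C' i) ∧
      (∀ x ∈ (Subgroup.center S), x ∈ C' i ∨ (a ^ m)⁻¹ * x ∈ C' i) ∧ 2 ≤ m ∧ a ^ m ∈ (Subgroup.center S) := by
    intro i
    obtain ⟨hn', hna, hu⟩ := hCq i
    haveI : (C' i).Normal := hn'
    obtain ⟨a, b, m, -, h1, h2, h3, h4, h5, h6, h7, h8, h9⟩ := QuatQuot.exists_gens hS (C' i) hna hu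
    have hZ : ∀ x ∈ (Subgroup.center S), x ∈ C' i ∨ (a ^ m)⁻¹ * x ∈ C' i := by
      intro x hx
      refine (h8 x fun y => ?_).resolve_left (by omega)
      rw [← Subgroup.mem_center_iff.mp hx y, mul_inv_cancel_right, mul_inv_cancel]
      exact one_mem _
    obtain ⟨z, hz, hzC⟩ := hne i
    have ham : a ^ m ∈ (Subgroup.center S) := by
      have h := hC'Z i ((hZ z hz).resolve_left hzC)
      have := (Subgroup.center S).mul_mem hz ((Subgroup.center S).inv_mem h)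
      rwa [mul_inv_rev, inv_inv, mul_inv_cancel_left] at this
    exact ⟨a, b, m, h1, h2, h3, h4, h5, h6, h7, hZ, h9, ham⟩
  have hexp : ∀ x ∈ (Subgroup.center S), x ^ 2 = 1 := by
    intro x hx
    refine hint _ fun i => ?_
    obtain ⟨a, b, m, -, -, h3, -, -, -, -, hZ, -, -⟩ := main i
    rcases hZ x hx with h | h
    · exact pow_mem h 2
    · have hc : Commute (a ^ m) x := Subgroup.mem_center_iff.mp hx (a ^ m)
      have := (C' i).mul_mem h3 (pow_mem h 2)
      rwa [hc.inv_left.mul_pow, inv_pow, ← pow_mul, mul_comm 2 m, ← mul_assoc, mul_inv_cancel, one_mul] at this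
  have hout : ∀ x, x ∉ (Subgroup.center S) → x ^ 2 ∈ (Subgroup.center S) → ∀ i, x ^ 2 ∉ C' i := by
    intro x hx _ i h
    obtain ⟨a, b, m, -, -, -, -, -, -, h7, -, -, ham⟩ := main i
    rcases h7 x h with h' | h'
    · exact hx (hC'Z i h')
    · exact hx (by simpa using (Subgroup.center S).mul_mem ham (hC'Z i h'))
  have huni : ∀ u ∈ (Subgroup.center S), ∀ v ∈ (Subgroup.center S), (∀ i, u ∉ C' i) → (∀ i, v ∉ C' i) → u = v := by
    intro u hu v hv hu' hv'
    refine (inv_mul_eq_one.mp (hint _ fun i => ?_))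
    obtain ⟨a, b, m, -, -, -, -, -, -, -, hZ, -, -⟩ := main i
    have := (C' i).mul_mem ((C' i).inv_mem ((hZ u hu).resolve_left (hu' i))) ((hZ v hv).resolve_left (hv' i))
    simpa [mul_assoc] using this
  obtain ⟨hn₀, hna₀, hu₀⟩ := hCq i₀
  haveI : (C' i₀).Normal := hn₀
  obtain ⟨a, b, m, hgen, hidx, h2m, hm, hb2, hrel, h7, hZ0, hm2, ham⟩ := main i₀
  obtain ⟨k, rfl⟩ : ∃ k, m = 2 * k := by
    obtain ⟨N, hN⟩ := hS.exists_card_eq
    obtain ⟨j, -, hj⟩ := (Nat.dvd_prime_pow Nat.prime_two).mp (hN ▸ (C' i₀).index_dvd_card)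
    rw [hidx] at hj
    rcases j with _ | _ | _ | j
    · omega
    · omega
    · omega
    · exact ⟨2 ^ j, by rw [pow_succ, pow_succ, pow_succ] at hj; omega⟩
  have hz : ∀ x, x ∈ (Subgroup.center S) → x ^ 2 ∈ C' i₀ := fun x hx => by rw [hexp x hx]; exact one_mem _
  have hsq : ∀ x, x ^ 2 ∈ (Subgroup.center S) → x ^ 2 ∉ C' i₀ → x ^ 2 = a ^ (2 * k) := by
    intro x hx hx0
    have hxZ : x ∉ (Subgroup.center S) := fun h => hx0 (hz x h)
    refine huni _ hx _ ham (hout x hxZ hx) ?_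
    have he : a ^ (2 * k) = (a ^ k) ^ 2 := by rw [← pow_mul, mul_comm k 2]
    rw [he]
    exact hout _ (fun h => hm (by rw [he]; exact hz _ h)) (he ▸ ham)
  have key : ∀ x, (a ^ (2 * k))⁻¹ * x ^ 2 ∈ C' i₀ → x ^ 2 = a ^ (2 * k) := by
    intro x hx
    refine hsq x ?_ fun h => ?_
    · have := (Subgroup.center S).mul_mem ham (hC'Z _ hx)
      rwa [mul_inv_cancel_left] at this
    · have := (C' i₀).mul_mem h ((C' i₀).inv_mem hx)
      rw [mul_inv_rev, inv_inv, mul_inv_cancel_left] at this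
      exact hm this
  have hb : b ^ 2 = a ^ (2 * k) := key b hb2
  have hab : b * a * b⁻¹ = a⁻¹ := by
    have e : (a * b) ^ 2 = a * (b * a * b⁻¹) * b ^ 2 := by rw [pow_two, pow_two]; group
    have h : (a * b) ^ 2 = a ^ (2 * k) := by
      refine key _ ?_
      rw [e, hb]
      have hc : Commute (a * (b * a * b⁻¹)) (a ^ (2 * k)) := Subgroup.mem_center_iff.mp ham _
      rw [hc.eq, inv_mul_cancel_left]
      exact hrel
    rw [e, hb, mul_eq_right] at h
    exact eq_inv_of_mul_eq_one_right h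
  have ha4 : a ^ (2 * (2 * k)) = 1 := by rw [mul_comm, pow_mul]; exact hexp _ ham
  have hb4 : b ^ 4 = 1 := by rw [show (4 : ℕ) = 2 * 2 from rfl, pow_mul, hb]; exact hexp _ ham
  set Q := Subgroup.zpowers a ⊔ Subgroup.zpowers b with hQdef
  have hnorm : Subgroup.zpowers b ≤ Subgroup.normalizer (Subgroup.zpowers a : Set S) := by
    rw [Subgroup.zpowers_le, Subgroup.mem_normalizer_iff_map_conj_eq, MonoidHom.map_zpowers]
    show Subgroup.zpowers (b * a * b⁻¹) = _
    rw [hab, Subgroup.zpowers_inv]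
  have hQcard : Nat.card ↥Q ≤ 4 * (2 * k) := by
    have hsub : (Q : Set S) ⊆ Set.range (fun p : Fin (2 * (2 * k)) × Fin 2 => a ^ (p.1 : ℕ) * b ^ (p.2 : ℕ)) := by
      intro x hx
      rw [hQdef, Subgroup.coe_mul_of_right_le_normalizer_left _ _ hnorm] at hx
      obtain ⟨u, hu, v, hv, rfl⟩ := hx
      obtain ⟨i, rfl⟩ := mem_powers_iff_mem_zpowers.mpr hu
      obtain ⟨j, rfl⟩ := mem_powers_iff_mem_zpowers.mpr hv
      refine ⟨(⟨(i + 2 * k * (j / 2)) % (2 * (2 * k)), Nat.mod_lt _ (by omega)⟩, ⟨j % 2, Nat.mod_lt _ two_pos⟩), ?_⟩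
      show a ^ ((i + 2 * k * (j / 2)) % (2 * (2 * k))) * b ^ (j % 2) = a ^ i * b ^ j
      rw [← pow_eq_pow_mod _ ha4, pow_add, pow_mul, ← hb, ← pow_mul, mul_assoc, ← pow_add]
      congr 2
      omega
    have h := Nat.card_mono (Set.finite_range _) hsub
    refine h.trans ((Finite.card_range_le _).trans (le_of_eq ?_))
    rw [Nat.card_prod, Nat.card_fin, Nat.card_fin]; ring
  let f : ↥Q →* S ⧸ C' i₀ := (QuotientGroup.mk' (C' i₀)).comp Q.subtype
  have hsup : Q ⊔ C' i₀ = ⊤ := by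
    rw [eq_top_iff, ← hgen]
    refine sup_le_sup_right ?_ _
    rw [Subgroup.closure_le]
    rintro x (rfl | rfl)
    · exact Subgroup.mem_sup_left (Subgroup.mem_zpowers x)
    · exact Subgroup.mem_sup_right (Subgroup.mem_zpowers x)
  have hsurj : Function.Surjective f := by
    intro q
    obtain ⟨s, rfl⟩ := QuotientGroup.mk_surjective q
    obtain ⟨x, hx, c, hc, rfl⟩ := Subgroup.mem_sup_of_normal_right.mp (hsup ▸ Subgroup.mem_top s)
    exact ⟨⟨x, hx⟩, QuotientGroup.eq.mpr (by simpa using hc)⟩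
  have hbij : Function.Bijective f := by
    refine hsurj.bijective_of_nat_card_le ?_
    rwa [← Subgroup.index_eq_card, hidx]
  have hd : C' i₀ ⊓ Q = ⊥ := by
    rw [eq_bot_iff]
    rintro x ⟨hxC, hxQ⟩
    have : f ⟨x, hxQ⟩ = f 1 := by rw [map_one]; exact (QuotientGroup.eq_one_iff x).mpr hxC
    exact congrArg Subtype.val (hbij.1 this)
  let e := MulEquiv.ofBijective f hbij
  refine ⟨C' i₀, Q, ⟨le_top, le_top, fun u hu v _ => (Subgroup.mem_center_iff.mp (hC'Z _ hu) v).symm, hd, sup_comm Q (C' i₀) ▸ hsup⟩,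
    ⟨⟨⟨fun u v => Subtype.ext (Subgroup.mem_center_iff.mp (hC'Z _ v.2) u)⟩⟩, fun u hu => hexp u (hC'Z _ hu)⟩, ?_, ?_⟩
  · intro h
    refine hna₀ ⟨⟨fun x y => e.symm.injective ?_⟩⟩
    rw [map_mul, map_mul]
    exact h.is_comm.comm _ _
  · obtain ⟨u, hu, huniq⟩ := hu₀
    refine ⟨e.symm u, (MulEquiv.orderOf_eq e.symm u).trans hu, fun x hx => ?_⟩
    rw [← e.symm_apply_apply x, huniq (e x) ((MulEquiv.orderOf_eq e x).trans hx)]

end Cfsg.Agent.S3201
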