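import Cfsg.Statements.S3202
import Cfsg.Agent.Lib.QuatQuot.Basic

set_option autoImplicit false
open Cfsg

namespace Cfsg.Agent.S3202

/-- Let S be a finite 2-group of 2-rank exactly 2 and D a maximal subgroup of the centre of S such that S/D is a non-abelian group with exactly one involution (a generalized quaternion group). Then S has a nontrivial cyclic characteristic subgroup. -/
theorem result {S : Type*} [Group S]
    [Finite S] (hS : IsPGroup 2 S) (hr2 : Cfsg.PRankLE 2 2 S) (hr1 : ¬ Cfsg.PRankLE 2 1 S)
    (D : Subgroup ↥(Subgroup.center S)) (hD : IsCoatom D)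
    (hq : ∃ (_ : (D.map (Subgroup.center S).subtype).Normal),
      ¬ IsMulCommutative (S ⧸ D.map (Subgroup.center S).subtype) ∧
      ∃! x : S ⧸ D.map (Subgroup.center S).subtype, orderOf x = 2) :
    ∃ C : Subgroup S, C ≠ ⊥ ∧ IsCyclic ↥C ∧ C.Characteristic := by
  obtain ⟨hn, hna, hu⟩ := hq
  haveI := hn
  set D' := D.map (Subgroup.center S).subtype
  obtain ⟨a, b, m, -, hgen, -, -, -, -, hrel, -, -, -⟩ := QuatQuot.exists_gens hS D' hna hu
  have hDz : ∀ d ∈ D', ∀ x : S, x * d = d * x := by
    rintro d ⟨z, -, rfl⟩ x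
    exact Subgroup.mem_center_iff.mp z.2 x
  obtain ⟨d, hdd⟩ : ∃ d, a * (b * a * b⁻¹) = d := ⟨_, rfl⟩
  rw [hdd] at hrel
  have hdc := hDz d hrel
  have hbab : b * a * b⁻¹ = a⁻¹ * d := by rw [← hdd]; group
  obtain ⟨c, hcd⟩ : ∃ c, b * a * b⁻¹ * a⁻¹ = c := ⟨_, rfl⟩
  have hce : c = d * (a * a)⁻¹ := by
    rw [← hcd, hbab, mul_inv_rev, ← mul_assoc d, ← hdc a⁻¹]
  have hcd' : ∀ e ∈ D', Commute e c := fun e he => (hDz e he c).symm
  have hca : Commute a c := by
    rw [hce]
    exact (show Commute a d from hdc a).mul_right (((Commute.refl a).mul_right (Commute.refl a)).inv_right)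
  have hcb : b * c * b⁻¹ = c⁻¹ := by
    calc b * c * b⁻¹ = (b * d * b⁻¹) * ((b * a * b⁻¹) * (b * a * b⁻¹))⁻¹ := by rw [hce]; group
      _ = d * ((a⁻¹ * d) * (a⁻¹ * d))⁻¹ := by rw [hdc b, hbab, mul_inv_cancel_right]
      _ = d * (d⁻¹ * (a * d⁻¹) * a) := by group
      _ = (a * d⁻¹) * a := by group
      _ = a * (d⁻¹ * a) := by group
      _ = a * (a * d⁻¹) := by rw [((show Commute a d from hdc a).inv_right).eq]
      _ = a * a * d⁻¹ := by group
      _ = c⁻¹ := by rw [hce, mul_inv_rev, inv_inv]
  set N := Subgroup.zpowers c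
  haveI hNn : N.Normal := by
    rw [← Subgroup.normalizer_eq_top_iff, eq_top_iff, ← hgen, sup_le_iff]
    refine ⟨?_, fun e he => Subgroup.centralizer_le_normalizer _ ?_⟩
    · rw [Subgroup.closure_le]
      rintro x (rfl | rfl)
      · refine Subgroup.centralizer_le_normalizer _ ?_
        rintro _ ⟨i, rfl⟩
        exact ((hca.zpow_right i).eq).symm
      · rw [SetLike.mem_coe, Subgroup.mem_normalizer_iff_map_conj_eq, MonoidHom.map_zpowers]
        show Subgroup.zpowers (x * c * x⁻¹) = N
        rw [hcb, Subgroup.zpowers_inv]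
    · rintro _ ⟨i, rfl⟩
      exact ((hcd' e he).zpow_right i).eq.symm
  have hcomm : commutator S = N := by
    refine le_antisymm ?_ ?_
    · let π := QuotientGroup.mk' N
      have hz : ∀ x : S, π x ∈ Subgroup.center (S ⧸ N) := by
        have key : ∀ g : S, Commute (π g) (π a) → Commute (π g) (π b) →
            (∀ e ∈ D', Commute (π g) (π e)) → π g ∈ Subgroup.center (S ⧸ N) := by
          intro g h1 h2 h3
          have hle : ⊤ ≤ (Subgroup.centralizer ({π g} : Set (S ⧸ N))).comap π := by
            rw [← hgen, sup_le_iff, Subgroup.closure_le]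
            refine ⟨?_, fun e he => Subgroup.mem_centralizer_singleton_iff.mpr (h3 e he).eq.symm⟩
            rintro x (rfl | rfl)
            · exact Subgroup.mem_centralizer_singleton_iff.mpr h1.eq.symm
            · exact Subgroup.mem_centralizer_singleton_iff.mpr h2.eq.symm
          rw [Subgroup.mem_center_iff]
          intro q
          obtain ⟨x, rfl⟩ := QuotientGroup.mk_surjective q
          exact Subgroup.mem_centralizer_singleton_iff.mp (hle (Subgroup.mem_top x))
        have hba : Commute (π b) (π a) := by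
          have h1 : π c = 1 := (QuotientGroup.eq_one_iff c).mpr (Subgroup.mem_zpowers c)
          rw [← hcd, map_mul, map_mul, map_mul, map_inv, map_inv, mul_inv_eq_one, mul_inv_eq_iff_eq_mul] at h1
          exact h1
        have hD : ∀ e ∈ D', ∀ x, Commute (π x) (π e) := fun e he x =>
          (show Commute x e from hDz e he x).map π
        have hle : ⊤ ≤ (Subgroup.center (S ⧸ N)).comap π := by
          rw [← hgen, sup_le_iff, Subgroup.closure_le]
          refine ⟨?_, fun e he => key e (hD e he a).symm (hD e he b).symm fun e' he' => hD e' he' e⟩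
          rintro x (rfl | rfl)
          · exact key x (Commute.refl _) hba.symm fun e he => hD e he x
          · exact key x hba (Commute.refl _) fun e he => hD e he x
        exact fun x => hle (Subgroup.mem_top x)
      rw [_root_.commutator_def, Subgroup.commutator_le]
      intro x _ y _
      rw [← QuotientGroup.eq_one_iff]
      show π _ = 1
      rw [commutatorElement_def, map_mul, map_mul, map_mul, map_inv, map_inv,
        ← Subgroup.mem_center_iff.mp (hz x) (π y)]
      group
    · rw [Subgroup.zpowers_le, ← hcd]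
      exact Subgroup.commutator_mem_commutator (Subgroup.mem_top b) (Subgroup.mem_top a)
  refine ⟨commutator S, ?_, ?_, inferInstance⟩
  · intro h
    refine hna ⟨⟨fun x y => ?_⟩⟩
    obtain ⟨x', rfl⟩ := QuotientGroup.mk_surjective x
    obtain ⟨y', rfl⟩ := QuotientGroup.mk_surjective y
    have hm : x' * y' * x'⁻¹ * y'⁻¹ ∈ commutator S :=
      Subgroup.commutator_mem_commutator (Subgroup.mem_top x') (Subgroup.mem_top y')
    rw [h, Subgroup.mem_bot, mul_inv_eq_one, mul_inv_eq_iff_eq_mul] at hm
    rw [← QuotientGroup.mk_mul, hm, QuotientGroup.mk_mul]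
  · rw [hcomm]
    infer_instance

end Cfsg.Agent.S3202
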