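import Cfsg.Statements.S3203
import Cfsg.Agent.EqLemmas

set_option autoImplicit false
open Cfsg

namespace Cfsg.Agent.S3203

theorem mem_norm {G : Type*} [Group G] {C : Subgroup G} {n : G} :
    n ∈ Subgroup.normalizer (C : Set G) ↔ C.map (MulAut.conj n).toMonoidHom = C :=
  Subgroup.mem_normalizer_iff_map_conj_eq

/-- Let S be a Sylow 2-subgroup of a finite group G having exactly two subgroups A ≠ B that are maximal among its elementary abelian subgroups, with S = AB. Then A and B are each weakly closed in S with respect to G, and the normalizer of S normalizes both A and B. -/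
theorem result {G : Type*} [Group G] [Finite G] (S : Sylow 2 G)
    (A B : Subgroup ↥(S : Subgroup G)) (hAB : A ≠ B)
    (hA : Cfsg.IsElementaryAbelian 2 A ∧ ∀ C : Subgroup ↥(S : Subgroup G), Cfsg.IsElementaryAbelian 2 C → A ≤ C → C = A)
    (hB : Cfsg.IsElementaryAbelian 2 B ∧ ∀ C : Subgroup ↥(S : Subgroup G), Cfsg.IsElementaryAbelian 2 C → B ≤ C → C = B)
    (honly : ∀ C : Subgroup ↥(S : Subgroup G), Cfsg.IsElementaryAbelian 2 C →
      (∀ D : Subgroup ↥(S : Subgroup G), Cfsg.IsElementaryAbelian 2 D → C ≤ D → D = C) → C = A ∨ C = B)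
    (hprod : ∀ s : ↥(S : Subgroup G), ∃ a ∈ A, ∃ b ∈ B, a * b = s)
    (A' B' : Subgroup G) (hA' : A' = A.map (S : Subgroup G).subtype) (hB' : B' = B.map (S : Subgroup G).subtype) :
    Cfsg.IsWeaklyClosed A' (S : Subgroup G) ∧ Cfsg.IsWeaklyClosed B' (S : Subgroup G) ∧
      Subgroup.normalizer ((S : Subgroup G) : Set G) ≤ Subgroup.normalizer (A' : Set G) ⊓ Subgroup.normalizer (B' : Set G) := by
  have e : ∀ C : Subgroup ↥(S : Subgroup G), Cfsg.IsElementaryAbelian 2 C →
      Cfsg.IsElementaryAbelian 2 (C.map (S : Subgroup G).subtype) := by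
    intro C hC
    refine ⟨⟨⟨fun a b => Subtype.ext ?_⟩⟩, ?_⟩
    · obtain ⟨a', ha', hae⟩ := a.2
      obtain ⟨b', hb', hbe⟩ := b.2
      show (a : G) * b = b * a
      rw [← hae, ← hbe]
      exact congrArg (fun s : ↥(S : Subgroup G) => (s : G)) (congrArg Subtype.val (hC.1.is_comm.comm ⟨a', ha'⟩ ⟨b', hb'⟩))
    · rintro _ ⟨a, ha, rfl⟩
      rw [← map_pow, hC.2 a ha, map_one]
  have top : ∀ C : Subgroup G, C ≤ (S : Subgroup G) → Cfsg.IsElementaryAbelian 2 C → C ≤ A' ∨ C ≤ B' := by
    intro C hC hCe
    have h0 : Cfsg.IsElementaryAbelian 2 (C.subgroupOf (S : Subgroup G)) := by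
      refine ⟨⟨⟨fun a b => Subtype.ext (Subtype.ext ?_)⟩⟩, fun a ha => Subtype.ext ?_⟩
      · show ((a : ↥(S : Subgroup G)) : G) * b = b * a
        exact congrArg Subtype.val (hCe.1.is_comm.comm ⟨_, a.2⟩ ⟨_, b.2⟩)
      · simpa using hCe.2 _ ha
    -- a maximal elementary abelian subgroup containing it
    obtain ⟨M, hCM, hM⟩ := Set.Finite.exists_le_maximal
      (Set.toFinite {D : Subgroup ↥(S : Subgroup G) | Cfsg.IsElementaryAbelian 2 D}) h0
    have hC' : C = (C.subgroupOf (S : Subgroup G)).map (S : Subgroup G).subtype := by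
      rw [Subgroup.subgroupOf_map_subtype, inf_eq_left.mpr hC]
    rcases honly M hM.prop (fun D hD hle => le_antisymm (hM.le_of_ge hD hle) hle) with h | h
    · left; rw [hC', hA', ← h]; exact Subgroup.map_mono hCM
    · right; rw [hC', hB', ← h]; exact Subgroup.map_mono hCM
  have hA'S : A' ≤ (S : Subgroup G) := hA' ▸ Subgroup.map_subtype_le A
  have hB'S : B' ≤ (S : Subgroup G) := hB' ▸ Subgroup.map_subtype_le B
  have heA : Cfsg.IsElementaryAbelian 2 A' := hA' ▸ e A hA.1
  have heB : Cfsg.IsElementaryAbelian 2 B' := hB' ▸ e B hB.1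
  have hne : A' ≠ B' := fun h => hAB (Subgroup.map_injective (Subgroup.subtype_injective _) (hA' ▸ hB' ▸ h))
  -- maximality inside the ambient group
  have hmaxA : ∀ C : Subgroup G, C ≤ (S : Subgroup G) → Cfsg.IsElementaryAbelian 2 C → A' ≤ C → C = A' := by
    intro C hC hCe hle
    rcases top C hC hCe with h | h
    · exact le_antisymm h hle
    · exfalso
      have h1 : A ≤ B := by
        rw [← Subgroup.map_le_map_iff_of_injective (Subgroup.subtype_injective (S : Subgroup G)), ← hA', ← hB']
        exact hle.trans h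
      exact hAB (hA.2 B hB.1 h1).symm
  have hmaxB : ∀ C : Subgroup G, C ≤ (S : Subgroup G) → Cfsg.IsElementaryAbelian 2 C → B' ≤ C → C = B' := by
    intro C hC hCe hle
    rcases top C hC hCe with h | h
    · exfalso
      have h1 : B ≤ A := by
        rw [← Subgroup.map_le_map_iff_of_injective (Subgroup.subtype_injective (S : Subgroup G)), ← hA', ← hB']
        exact hle.trans h
      exact hAB (hB.2 A hA.1 h1)
    · exact le_antisymm h hle
  have hconj : ∀ (C : Subgroup G) (g : G), Cfsg.IsElementaryAbelian 2 C →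
      Cfsg.IsElementaryAbelian 2 (C.map (MulAut.conj g).toMonoidHom) := by
    intro C g hC
    refine ⟨⟨⟨fun a b => Subtype.ext ?_⟩⟩, ?_⟩
    · obtain ⟨a', ha', hae⟩ := a.2
      obtain ⟨b', hb', hbe⟩ := b.2
      show (a : G) * b = b * a
      rw [← hae, ← hbe, ← map_mul, ← map_mul]
      exact congrArg _ (congrArg Subtype.val (hC.1.is_comm.comm ⟨a', ha'⟩ ⟨b', hb'⟩))
    · rintro _ ⟨a, ha, rfl⟩
      rw [← map_pow, hC.2 a ha, map_one]
  have hmm : ∀ (C : Subgroup G) (x y : G), (C.map (MulAut.conj x).toMonoidHom).map (MulAut.conj y).toMonoidHom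
      = C.map (MulAut.conj (y * x)).toMonoidHom := by
    intro C x y
    rw [Subgroup.map_map]
    congr 1
    ext z
    simp [mul_assoc]
  have hone : ∀ C : Subgroup G, C.map (MulAut.conj (1 : G)).toMonoidHom = C := by
    intro C; ext; simp
  -- the images of `A'`, `B'` under conjugation by elements of `S`
  have hSnorm : ∀ s ∈ (S : Subgroup G), A'.map (MulAut.conj s).toMonoidHom = A' ∧
      B'.map (MulAut.conj s).toMonoidHom = B' := by
    have key : ∀ a : G, ∀ C : Subgroup G, Cfsg.IsElementaryAbelian 2 C → a ∈ C → C.map (MulAut.conj a).toMonoidHom = C := by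
      intro a C hC ha
      rw [← mem_norm]
      exact Subgroup.le_normalizer ha
    intro s hs
    obtain ⟨a, ha, b, hb, hab⟩ := hprod ⟨s, hs⟩
    have hs' : s = (a : G) * b := (congrArg Subtype.val hab).symm
    have haA : (a : G) ∈ A' := hA' ▸ ⟨a, ha, rfl⟩
    have hbB : (b : G) ∈ B' := hB' ▸ ⟨b, hb, rfl⟩
    have hSc : ∀ t ∈ (S : Subgroup G), ∀ C : Subgroup G, C ≤ (S : Subgroup G) → C.map (MulAut.conj t).toMonoidHom ≤ (S : Subgroup G) := by
      intro t ht C hC
      rintro _ ⟨c, hc, rfl⟩
      exact mul_mem (mul_mem ht (hC hc)) (inv_mem ht)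
    have inv : ∀ t ∈ (S : Subgroup G), A'.map (MulAut.conj t).toMonoidHom = A' ∨
        A'.map (MulAut.conj t).toMonoidHom = B' := by
      intro t ht
      rcases top _ (hSc t ht _ hA'S) (hconj A' t heA) with h | h
      · left
        refine Subgroup.eq_of_le_of_card_ge h ?_
        rw [Subgroup.card_map_of_injective (MulAut.conj t).injective]
      · right
        have h1 : A' ≤ B'.map (MulAut.conj t⁻¹).toMonoidHom := by
          have := Subgroup.map_mono (f := (MulAut.conj t⁻¹).toMonoidHom) h
          rwa [hmm, inv_mul_cancel, hone] at this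
        have h2 := hmaxA _ (hSc t⁻¹ (inv_mem ht) _ hB'S) (hconj B' t⁻¹ heB) h1
        rw [← h2, hmm, mul_inv_cancel, hone]
    have hb' : A'.map (MulAut.conj (b : G)).toMonoidHom = A' := by
      refine (inv b b.2).resolve_right fun h => hne ?_
      have := congrArg (Subgroup.map (MulAut.conj (b : G)⁻¹).toMonoidHom) h
      rwa [hmm, inv_mul_cancel, hone, key (b : G)⁻¹ B' heB (inv_mem hbB)] at this
    have ha' : B'.map (MulAut.conj (a : G)).toMonoidHom = B' := by
      rcases top _ (hSc a a.2 _ hB'S) (hconj B' a heB) with h | h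
      · exfalso
        have := Subgroup.map_mono (f := (MulAut.conj (a : G)⁻¹).toMonoidHom) h
        rw [hmm, inv_mul_cancel, hone, key (a : G)⁻¹ A' heA (inv_mem haA)] at this
        exact hne (hmaxB A' hA'S heA this)
      · refine Subgroup.eq_of_le_of_card_ge h ?_
        rw [Subgroup.card_map_of_injective (MulAut.conj (a : G)).injective]
    rw [hs', ← hmm, ← hmm, hb', key a A' heA haA, key b B' heB hbB, ha']
    exact ⟨rfl, rfl⟩
  have hSA : (S : Subgroup G) ≤ Subgroup.normalizer (A' : Set G) := fun s hs =>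
    mem_norm.mpr (hSnorm s hs).1
  have hSB : (S : Subgroup G) ≤ Subgroup.normalizer (B' : Set G) := fun s hs =>
    mem_norm.mpr (hSnorm s hs).2
  -- conjugates of either are the two given groups
  have main : ∀ (C : Subgroup G) (g : G), Cfsg.IsElementaryAbelian 2 C →
      (S : Subgroup G) ≤ Subgroup.normalizer (C : Set G) →
      (∀ D : Subgroup G, D ≤ (S : Subgroup G) → Cfsg.IsElementaryAbelian 2 D → C ≤ D → D = C) →
      C.map (MulAut.conj g).toMonoidHom ≤ (S : Subgroup G) →
      C.map (MulAut.conj g).toMonoidHom = A' ∨ C.map (MulAut.conj g).toMonoidHom = B' := by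
    intro C g hC hSC hmax hle
    have aux : ∀ D : Subgroup G, D ≤ (S : Subgroup G) → Cfsg.IsElementaryAbelian 2 D →
        C.map (MulAut.conj g).toMonoidHom ≤ D → C.map (MulAut.conj g).toMonoidHom = D := by
      intro D hD hDe h
      have h1 : C ≤ D.map (MulAut.conj g⁻¹).toMonoidHom := by
        have := Subgroup.map_mono (f := (MulAut.conj g⁻¹).toMonoidHom) h
        rwa [hmm, inv_mul_cancel, hone] at this
      set D' := D.map (MulAut.conj g⁻¹).toMonoidHom
      have hD'e : Cfsg.IsElementaryAbelian 2 D' := hconj D g⁻¹ hDe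
      have hD'N : D' ≤ Subgroup.normalizer (C : Set G) := by
        intro d hd
        rw [Subgroup.mem_normalizer_iff]
        intro c
        have hc : ∀ c ∈ C, d * c * d⁻¹ = c := fun c hc => by
          rw [show d * c = c * d from congrArg Subtype.val (hD'e.1.is_comm.comm ⟨d, hd⟩ ⟨c, h1 hc⟩),
            mul_inv_cancel_right]
        refine ⟨fun hc' => by rwa [hc c hc'], fun hc' => ?_⟩
        have h2 : d * (d * c * d⁻¹) * d⁻¹ = d * c * d⁻¹ := hc _ hc'
        simp only [mul_left_inj, mul_right_inj] at h2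
        exact h2 ▸ hc'
      have hD'p : IsPGroup 2 ↥D' := fun x => ⟨1, Subtype.ext (by simpa using hD'e.2 _ x.2)⟩
      obtain ⟨R, hR⟩ := (hD'p.of_equiv (Subgroup.subgroupOfEquivOfLe hD'N).symm).exists_le_sylow
      obtain ⟨n, hn⟩ := MulAction.exists_smul_eq ↥(Subgroup.normalizer (C : Set G)) R (S.subtype hSC)
      have h3 : D'.map (MulAut.conj (n : G)).toMonoidHom ≤ (S : Subgroup G) := by
        rintro _ ⟨d, hd, rfl⟩
        have : n * ⟨d, hD'N hd⟩ * n⁻¹ ∈ ((S.subtype hSC : Sylow 2 ↥(Subgroup.normalizer (C : Set G))) : Subgroup _) := by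
          rw [← hn]
          exact ⟨⟨d, hD'N hd⟩, hR hd, rfl⟩
        exact this
      have hnC : C.map (MulAut.conj (n : G)).toMonoidHom = C := mem_norm.mp n.2
      have h4 := hmax _ h3 (hconj D' n hD'e) (by
        have := Subgroup.map_mono (f := (MulAut.conj (n : G)).toMonoidHom) h1
        rwa [hnC] at this)
      refine Subgroup.eq_of_le_of_card_ge h ?_
      rw [Subgroup.card_map_of_injective (MulAut.conj g).injective]
      conv_rhs => rw [← h4]
      rw [Subgroup.card_map_of_injective (MulAut.conj (n : G)).injective,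
        Subgroup.card_map_of_injective (MulAut.conj g⁻¹).injective]
    rcases top _ hle (hconj C g hC) with h | h
    · exact Or.inl (aux A' hA'S heA h)
    · exact Or.inr (aux B' hB'S heB h)
  -- an element of the normalizer of `S` fixes both
  have hfix : Subgroup.normalizer ((S : Subgroup G) : Set G) ≤
      Subgroup.normalizer (A' : Set G) ⊓ Subgroup.normalizer (B' : Set G) := by
    set N := Subgroup.normalizer ((S : Subgroup G) : Set G)
    have hmove : ∀ n ∈ N, ∀ C : Subgroup G, C ≤ (S : Subgroup G) → C.map (MulAut.conj n).toMonoidHom ≤ (S : Subgroup G) := by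
      intro n hn C hC
      rintro _ ⟨c, hc, rfl⟩
      exact (Subgroup.mem_normalizer_iff.mp hn c).mp (hC hc)
    intro n hn
    obtain ⟨k, m, hm, hkm⟩ := Nat.exists_eq_two_pow_mul_odd (orderOf_pos n).ne'
    -- odd powers detect a swap, so an odd order part suffices
    have hpow : n ^ m ∈ (S : Subgroup G) := by
      have hp : IsPGroup 2 ↥(Subgroup.zpowers (n ^ m)) := by
        refine IsPGroup.of_card (n := k) ?_
        rw [Nat.card_zpowers, orderOf_pow' _ hm.pos.ne', hkm, Nat.gcd_mul_left_left, Nat.mul_div_cancel _ hm.pos]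
      have hle : Subgroup.zpowers (n ^ m) ≤ N := by
        rw [Subgroup.zpowers_le]; exact pow_mem hn m
      have h' := S.is_maximal' (hp.to_sup_of_normal_right' S.isPGroup' hle) le_sup_right
      exact h'.le (le_sup_left (b := (S : Subgroup G)) (Subgroup.mem_zpowers _))
    have hA1 := main A' n heA hSA hmaxA (hmove n hn _ hA'S)
    have hB1 := main B' n heB hSB hmaxB (hmove n hn _ hB'S)
    have hBA : A'.map (MulAut.conj n).toMonoidHom = A' → B'.map (MulAut.conj n).toMonoidHom = B' := fun h =>
      hB1.resolve_left fun h' => hne (Subgroup.map_injective (MulAut.conj n).injective (h.trans h'.symm))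
    rcases hA1 with h | h
    · exact ⟨mem_norm.mpr h, mem_norm.mpr (hBA h)⟩
    exfalso
    have h' : B'.map (MulAut.conj n).toMonoidHom = A' :=
      hB1.resolve_right fun h' => hne (Subgroup.map_injective (MulAut.conj n).injective (h.trans h'.symm))
    have hodd : ∀ i : ℕ, A'.map (MulAut.conj (n ^ (2 * i + 1))).toMonoidHom = B' := by
      intro i
      induction i with
      | zero => simpa using h
      | succ i ih =>
        rw [show 2 * (i + 1) + 1 = (2 * i + 1) + 1 + 1 by ring, pow_succ' _ ((2 * i + 1) + 1),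
          pow_succ' _ (2 * i + 1), ← hmm, ← hmm, ih, h', h]
    obtain ⟨i, hi⟩ := hm
    have h2 := (hSnorm _ hpow).1
    rw [hi, hodd i] at h2
    exact hne h2.symm
  have hw : ∀ (C : Subgroup G), Cfsg.IsElementaryAbelian 2 C → C = A' ∨ C = B' → C ≤ (S : Subgroup G) →
      (S : Subgroup G) ≤ Subgroup.normalizer (C : Set G) →
      (∀ D : Subgroup G, D ≤ (S : Subgroup G) → Cfsg.IsElementaryAbelian 2 D → C ≤ D → D = C) →
      Cfsg.IsWeaklyClosed C (S : Subgroup G) := by
    intro C hC hCAB hCS hSC hmax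
    refine ⟨hCS, fun g hg => ?_⟩
    set C' := C.map (MulAut.conj g).toMonoidHom with hC'def
    have hC' := main C g hC hSC hmax hg
    have hSC' : (S : Subgroup G) ≤ Subgroup.normalizer (C' : Set G) := by
      rcases hC' with h | h <;> rw [hC'def, h] <;> assumption
    -- both normal in `S`, so conjugate inside the normalizer of `S`
    have hSg : ((g • S : Sylow 2 G) : Subgroup G) ≤ Subgroup.normalizer (C' : Set G) := by
      rintro _ ⟨s, hs, rfl⟩
      show g * s * g⁻¹ ∈ Subgroup.normalizer (C' : Set G)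
      rw [mem_norm, hC'def, hmm]
      have := hSC hs
      rw [mem_norm] at this
      conv_rhs => rw [← this, hmm]
      rw [show g * s * g⁻¹ * g = g * s by group]
    obtain ⟨k, hk⟩ := MulAction.exists_smul_eq ↥(Subgroup.normalizer (C' : Set G)) ((g • S).subtype hSg) (S.subtype hSC')
    have hkS : ((k : G) * g) • S = S := by
      rw [mul_smul]
      apply Sylow.ext
      refine ((k : G) • g • S).is_maximal' S.isPGroup' ?_ |>.symm
      rintro _ ⟨s, hs, rfl⟩
      have : k * ⟨s, hSg hs⟩ * k⁻¹ ∈ ((S.subtype hSC' : Sylow 2 ↥(Subgroup.normalizer (C' : Set G))) : Subgroup _) := by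
        rw [← hk]
        exact ⟨⟨s, hSg hs⟩, hs, rfl⟩
      exact this
    have hkN := hfix (Sylow.smul_eq_iff_mem_normalizer.mp hkS)
    have h1 : C.map (MulAut.conj ((k : G) * g)).toMonoidHom = C := by
      rcases hCAB with h | h <;> rw [h, ← mem_norm]
      · exact hkN.1
      · exact hkN.2
    rw [← hmm, ← hC'def, mem_norm.mp k.2] at h1
    exact h1
  exact ⟨hw A' heA (Or.inl rfl) hA'S hSA hmaxA, hw B' heB (Or.inr rfl) hB'S hSB hmaxB, hfix⟩

end Cfsg.Agent.S3203
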