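import Cfsg.Statements.S3204
import Cfsg.Agent.EqLemmas
import Cfsg.Agent.S3175
import Cfsg.Agent.Lib.RuNorm.Structure

set_option autoImplicit false
open Cfsg

namespace Cfsg.Agent.S3204

/-- Let G be a finite group whose Sylow 2-subgroup T has order at least 2^14 with the fourth term of its upper central series of order 16; let W be the centralizer in T of the third term, and suppose the Frattini subgroup of W has order at most 8 and lies in every subgroup of W of index at most 16. Suppose G has no subgroup of index 2, and write W′ for the derived subgroup of W. Then the normalizer of W′ is the product of the normalizer of W with the largest normal odd-order subgroup of the normalizer of W′, and the normalizer N of W has N/(O(N)W) isomorphic to GL(3, 2). -/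
theorem result {G : Type*} [Group G] [Finite G]
    (T : Sylow 2 G) (ha : 2 ^ 14 ≤ Nat.card ↥(T : Subgroup G))
    (hb : Nat.card ↥(Subgroup.upperCentralSeries ↥(T : Subgroup G) 4) = 16)
    (W : Subgroup ↥(T : Subgroup G))
    (hW : W = Subgroup.centralizer ((Subgroup.upperCentralSeries ↥(T : Subgroup G) 3 : Subgroup ↥(T : Subgroup G)) : Set ↥(T : Subgroup G)))
    (hc : Nat.card ↥(frattini ↥W) ≤ 8)
    (hd : ∀ U : Subgroup ↥W, U.index ≤ 16 → frattini ↥W ≤ U)
    (h2 : ∀ H : Subgroup G, H.index ≠ 2)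
    (WG D N M : Subgroup G) (hWG : WG = W.map (T : Subgroup G).subtype)
    (hDW : D = ((commutator ↥W).map W.subtype).map (T : Subgroup G).subtype)
    (hN : N = Subgroup.normalizer (WG : Set G)) (hM : M = Subgroup.normalizer (D : Set G)) :
    (N.subgroupOf M ⊔ Cfsg.oddCore ↥M = ⊤) ∧
      ∃ (_ : (WG.subgroupOf N ⊔ Cfsg.oddCore ↥N).Normal),
        Nonempty (↥N ⧸ (WG.subgroupOf N ⊔ Cfsg.oddCore ↥N) ≃* GL (Fin 3) (ZMod 2)) := by
  subst hWG hDW hN hM
  have h : RudvalisTwo.Hyp ↥(T : Subgroup G) W := ⟨T.isPGroup', ha, hb, hW, hc, hd⟩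
  obtain ⟨-, hwc⟩ := S3175.result T ha hb W hW hc hd
  obtain ⟨ρ, hρk, hρs, -⟩ := h.exists_frame
  obtain ⟨f, hfm, hfF, hfsep, -⟩ := h.exists_free
  rw [h.derived_eq]
  set Z := Subgroup.upperCentralSeries ↥(T : Subgroup G) 3 with hZ
  have hF : RudvalisTwo.fratW W = Z := h.frattini_eq
  have hmemW : ∀ t : ↥(T : Subgroup G),
      (t : G) ∈ W.map (T : Subgroup G).subtype ↔ t ∈ W := fun t =>
    Subgroup.mem_map_iff_mem (Subgroup.subtype_injective _)
  have hmemZ : ∀ t : ↥(T : Subgroup G),
      (t : G) ∈ Z.map (T : Subgroup G).subtype ↔ t ∈ Z := fun t =>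
    Subgroup.mem_map_iff_mem (Subgroup.subtype_injective _)
  have hZW : Z ≤ W := hF ▸ RudvalisTwo.fratW_le W
  have hinvar : ∀ x ∈ W, (∀ g, g * x * g⁻¹ * x⁻¹ ∈ Z) → ∀ g, f (g * x * g⁻¹) = f x := by
    intro x hx hfix g
    have e : g * x * g⁻¹ = (g * x * g⁻¹ * x⁻¹) * x := by group
    rw [e, hfm _ (hZW (hfix g)) x hx, hfF _ (hF ▸ hfix g)]
    exact Bool.false_xor _
  obtain ⟨v, hv, hvZ⟩ : ∃ v ∈ Subgroup.upperCentralSeries ↥(T : Subgroup G) 4, v ∉ Z := by
    by_contra hcon
    push Not at hcon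
    have := Subgroup.card_le_of_le
      (show Subgroup.upperCentralSeries ↥(T : Subgroup G) 4 ≤ Z from hcon)
    rw [hZ, h.card_ucs le_rfl, h.card_ucs (show 3 ≤ 4 by norm_num)] at this
    norm_num at this
  have hvfix : ∀ g, g * v * g⁻¹ * v⁻¹ ∈ Z := by
    intro g
    have h1 := Subgroup.mem_upperCentralSeries_succ_iff.mp hv g
    rw [commutatorElement_def] at h1
    have := Z.inv_mem h1
    simpa [mul_assoc] using this
  have hvW : v ∈ W := h.ucs_le_W hv
  have hfv : f v = true := by
    by_contra hf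
    exact hvZ (hF ▸ hfsep v hvW fun g => (hinvar v hvW hvfix g).trans (Bool.eq_false_iff.mpr hf))
  let S : RuNorm.Data G :=
    { T := T
      W := W.map (T : Subgroup G).subtype
      D := Z.map (T : Subgroup G).subtype
      wc := hwc
      D_le := Subgroup.map_mono hZW
      card_D := by
        rw [Subgroup.card_map_of_injective (Subgroup.subtype_injective _), hZ,
          h.card_ucs (show 3 ≤ 4 by norm_num)]
        norm_num
      card_W := by
        rw [Subgroup.card_map_of_injective (Subgroup.subtype_injective _), h.natCard_W]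
      D_sq := by
        rintro _ ⟨d, hd', rfl⟩
        rw [← map_mul, h.three_sq hd', map_one]
      D_comm := by
        rintro _ ⟨w, hw, rfl⟩ _ ⟨d, hd', rfl⟩
        rw [← map_mul, ← map_mul, h.comm_three hw hd']
      sq_W := by
        rintro _ ⟨w, hw, rfl⟩
        rw [← map_mul]
        exact Subgroup.mem_map_of_mem _ (hF ▸ h.sq_mem_fratW hw)
      ρ := ρ
      ρ_surj := hρs
      ρ_ker := fun t => by rw [hmemW, ← hρk, MonoidHom.mem_ker]
      centD := fun t ht hcomm => by
        refine (hmemW ⟨t, ht⟩).mpr ?_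
        rw [h.W_eq, Subgroup.mem_centralizer_iff]
        exact fun z hz => Subtype.ext (hcomm z ((hmemZ z).mpr hz)).symm
      deep := fun U hU hi => by
        rintro _ ⟨d, hd', rfl⟩
        refine (h.le_of_relIndex (U := U.comap (T : Subgroup G).subtype)
          (fun x hx => (hmemW x).mp (hU hx)) ?_) (hF.symm ▸ hd')
        rw [Subgroup.relIndex_comap]
        exact hi
      fixed := by
        refine ⟨v, (hmemW v).mpr hvW, fun h' => hvZ ((hmemZ v).mp h'), fun t ht => ?_, ?_⟩
        · exact (hmemZ ((⟨t, ht⟩ : ↥(T : Subgroup G)) * v * (⟨t, ht⟩ : ↥(T : Subgroup G))⁻¹ * v⁻¹)).mpr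
            (hvfix _)
        rintro _ ⟨x, hx, rfl⟩ hfix
        have hxfix : ∀ g, g * x * g⁻¹ * x⁻¹ ∈ Z := fun g =>
          (hmemZ (g * x * g⁻¹ * x⁻¹)).mp (hfix g g.2)
        by_cases hfx : f x = true
        · refine Or.inr ?_
          refine (hmemZ (x * v)).mpr (hF ▸ hfsep _ (mul_mem hx hvW) fun g => ?_)
          have hW' : ∀ y ∈ W, g * y * g⁻¹ ∈ W := fun y hy => h.normal_W.conj_mem y hy g
          rw [show g * (x * v) * g⁻¹ = (g * x * g⁻¹) * (g * v * g⁻¹) by group,
            hfm _ (hW' x hx) _ (hW' v hvW), hinvar x hx hxfix, hinvar v hvW hvfix, hfx, hfv]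
          rfl
        · exact Or.inl ((hmemZ x).mpr (hF ▸ hfsep x hx fun g =>
            (hinvar x hx hxfix g).trans (Bool.eq_false_iff.mpr hfx))) }
  exact ⟨S.main_normalizer_D h2, S.main_normalizer_W h2⟩

end Cfsg.Agent.S3204
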