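import Cfsg.Statements.S3206
import Cfsg.Agent.Lib.JankoReeTypeAut.Main

set_option autoImplicit false
open Cfsg

namespace Cfsg.Agent.S3206

open scoped Pointwise

/-- Let G be a non-abelian finite simple group with abelian Sylow 2-subgroups, and let t be an involution of G whose centralizer is a maximal subgroup of G and is the direct product of the subgroup generated by t with a subgroup E having a normal subgroup isomorphic to PSL(2, q), q odd and greater than 3, with trivial centralizer in E. Then every finite perfect group having a central 2-subgroup with quotient isomorphic to G has that central subgroup trivial (G has no nontrivial perfect central extension by a 2-group), and every automorphism of G of 2-power order that fixes every element of some Sylow 2-subgroup of G is inner. -/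
theorem result {G : Type*} [Group G] [Finite G] [IsSimpleGroup G]
    (hG : ¬ IsMulCommutative G) (hab : ∀ S : Sylow 2 G, IsMulCommutative ↥(S : Subgroup G))
    (t : G) (ht : orderOf t = 2) (hmax : IsCoatom (Subgroup.centralizer ({t} : Set G)))
    (E : Subgroup G) (hE : Cfsg.IsInternalDirectProduct (Subgroup.zpowers t) E (Subgroup.centralizer ({t} : Set G)))
    {F : Type*} [Field F] [Fintype F] (hFo : Odd (Fintype.card F)) (hF3 : 3 < Fintype.card F)
    (N : Subgroup ↥E) [N.Normal] (hN : Nonempty (↥N ≃* Matrix.ProjectiveSpecialLinearGroup (Fin 2) F))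
    (hNc : Subgroup.centralizer (N : Set ↥E) = ⊥) :
    (∀ (L : Type) (_ : Group L) (_ : Finite L) (Z : Subgroup L) (_ : Z.Normal), commutator L = ⊤ → Z ≤ Subgroup.center L →
        IsPGroup 2 ↥Z → Nonempty (L ⧸ Z ≃* G) → Z = ⊥) ∧
    (∀ (φ : G ≃* G) (k : ℕ), φ ^ (2 ^ k) = 1 → (∃ S : Sylow 2 G, ∀ s ∈ (S : Subgroup G), φ s = s) →
        ∃ g : G, ∀ x : G, φ x = g * x * g⁻¹) := by
  classical
  obtain ⟨htC, hEC, htE, hinf, hsup⟩ := hE
  have ht2 : t * t = 1 := by rw [← pow_two, ← ht, pow_orderOf_eq_one]
  have ht1 : t ≠ 1 := fun e => by rw [e, orderOf_one] at ht; omega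
  set C := Subgroup.centralizer ({t} : Set G) with hC
  set N' : Subgroup G := N.map E.subtype with hN'
  obtain ⟨e₀⟩ := hN
  let e : ↥N' ≃* Matrix.ProjectiveSpecialLinearGroup (Fin 2) F :=
    (Subgroup.equivMapOfInjective N E.subtype E.subtype_injective).symm.trans e₀
  have hodd : Odd (Nat.card F) := by rw [Nat.card_eq_fintype_card]; exact hFo
  haveI hsimpP : IsSimpleGroup (Cfsg.Agent.PSL2.PSL2 F) :=
    Matrix.ProjectiveSpecialLinearGroup.rank_two_simple (by
      rw [Nat.card_eq_fintype_card]; omega)
  haveI : Nontrivial ↥N' := e.toEquiv.nontrivial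
  haveI hsimpN : IsSimpleGroup ↥N' := IsSimpleGroup.isSimpleGroup_of_surjective e.symm.toMonoidHom e.symm.surjective
  have hN'E : N' ≤ E := Subgroup.map_subtype_le N
  -- a Sylow 2-subgroup of `N` and one of `G` containing it and `t`
  obtain ⟨Q⟩ := (inferInstance : Nonempty (Sylow 2 ↥N'))
  have hQc : IsPGroup 2 ↥((Q : Subgroup ↥N').map N'.subtype) := Q.2.map _
  have ht2g : IsPGroup 2 ↥(Subgroup.zpowers t) :=
    IsPGroup.of_card (n := 1) (by rw [Nat.card_zpowers, ht, pow_one])
  have hnorm : Subgroup.zpowers t ≤ Subgroup.normalizer (((Q : Subgroup ↥N').map N'.subtype : Subgroup G) : Set G) := by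
    rw [Subgroup.zpowers_le, Subgroup.mem_normalizer_iff]
    intro h
    constructor
    · intro hh
      have hhE : h ∈ E := hN'E (Subgroup.map_subtype_le _ hh)
      rwa [htE t (Subgroup.mem_zpowers t) h hhE, mul_inv_cancel_right]
    · intro hh
      have hhE : t * h * t⁻¹ ∈ E := hN'E (Subgroup.map_subtype_le _ hh)
      have := htE t (Subgroup.mem_zpowers t) _ hhE
      rw [inv_mul_cancel_right] at this
      have h3 : t * h * t⁻¹ = h := mul_left_cancel this
      rwa [h3] at hh
  obtain ⟨S, hS⟩ := (ht2g.to_sup_of_normal_right' hQc hnorm).exists_le_sylow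
  have hSab : ∀ x ∈ (S : Subgroup G), ∀ y ∈ (S : Subgroup G), x * y = y * x := fun x hx y hy =>
    congrArg Subtype.val ((hab S).1.1 ⟨x, hx⟩ ⟨y, hy⟩)
  have htS : t ∈ (S : Subgroup G) := hS (Subgroup.mem_sup_left (Subgroup.mem_zpowers t))
  have hSQ : ((S : Subgroup G) ⊓ N').subgroupOf N' = (Q : Subgroup ↥N') := by
    refine Q.3 ?_ ?_
    · exact (S.2.to_le (inf_le_left (b := N'))).comap_of_injective N'.subtype N'.subtype_injective
    · intro q hq
      exact ⟨hS (Subgroup.mem_sup_right (Subgroup.mem_map_of_mem _ hq)), q.2⟩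
  have hQmem : ∀ q : ↥N', q ∈ (Q : Subgroup ↥N') ↔ (q : G) ∈ (S : Subgroup G) := by
    intro q
    rw [← hSQ]
    exact ⟨fun h => h.1, fun h => ⟨h, q.2⟩⟩
  have hQab : IsMulCommutative ↥(Q : Subgroup ↥N') := ⟨⟨fun a b => Subtype.ext (Subtype.ext
    (hSab _ ((hQmem a).mp a.2) _ ((hQmem b).mp b.2)))⟩⟩
  let P : Sylow 2 (Cfsg.Agent.PSL2.PSL2 F) := Q.mapSurjective (f := e.toMonoidHom) e.surjective
  have hPmem : ∀ p, p ∈ (P : Subgroup (Cfsg.Agent.PSL2.PSL2 F)) → e.symm p ∈ (Q : Subgroup ↥N') := by
    rintro p ⟨q, hq, rfl⟩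
    show e.symm (e q) ∈ _
    rwa [e.symm_apply_apply]
  have hPmem' : ∀ q, q ∈ (Q : Subgroup ↥N') → e q ∈ (P : Subgroup (Cfsg.Agent.PSL2.PSL2 F)) :=
    fun q hq => ⟨q, hq, rfl⟩
  have hPab : ∀ x ∈ (P : Subgroup (Cfsg.Agent.PSL2.PSL2 F)), ∀ y ∈ (P : Subgroup (Cfsg.Agent.PSL2.PSL2 F)),
      x * y = y * x := by
    rintro x ⟨a, ha, rfl⟩ y ⟨b, hb, rfl⟩
    rw [← map_mul, ← map_mul]
    exact congrArg e (congrArg Subtype.val (hQab.1.1 ⟨a, ha⟩ ⟨b, hb⟩))
  have hK := Cfsg.Agent.JankoReeTypeAut.card_sylow_two hodd P hPab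
  have hQ4 : Nat.card ↥(Q : Subgroup ↥N') = 4 := by
    rw [← hK.card_four]
    exact (Subgroup.card_map_of_injective (K := (Q : Subgroup ↥N')) (f := e.toMonoidHom) e.injective).symm
  have hinf4 : Nat.card ↥((S : Subgroup G) ⊓ N' : Subgroup G) = 4 := by
    rw [← hQ4, ← hSQ]
    exact (Nat.card_congr (Subgroup.subgroupOfEquivOfLe inf_le_right).toEquiv).symm
  have hPsq : ∀ p ∈ (P : Subgroup (Cfsg.Agent.PSL2.PSL2 F)), p * p = 1 := fun p hp =>
    (Cfsg.Agent.PSL2.klein_comm hK hp hp).1
  have hNab : ¬ IsMulCommutative ↥N' := by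
    intro hc
    haveI : (Q : Subgroup ↥N').Normal := ⟨fun a ha g => by
      rw [hc.1.1 g a, mul_inv_cancel_right]; exact ha⟩
    have h2 : (2 : F) ≠ 0 := Cfsg.Agent.PSL2.two_ne_zero_iff_odd.2 hodd
    obtain ⟨A, ⟨eA⟩⟩ := Cfsg.Agent.PSL2.exists_alternatingFour_sub (F := F) h2
    have h12 : 12 ∣ Nat.card ↥N' := by
      rw [Nat.card_congr e.toEquiv, ← Cfsg.Agent.PSL2.card_alt_four, ← Nat.card_congr eA.toEquiv]
      exact Subgroup.card_subgroup_dvd_card A
    rcases Subgroup.Normal.eq_bot_or_eq_top (inferInstance : (Q : Subgroup ↥N').Normal) with h | h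
    · rw [h, Subgroup.card_bot] at hQ4; omega
    · rw [h, Subgroup.card_top] at hQ4
      rw [hQ4] at h12
      norm_num at h12
  have hH : Cfsg.Agent.JankoReeTypeAut.Setup S t N' :=
    { abel := hSab
      tmem := htS
      tsq := ht2
      tne := ht1
      nle := hN'E.trans hEC
      tnot := fun h => ht1 (by
        have h1 : t ∈ Subgroup.zpowers t ⊓ E := ⟨Subgroup.mem_zpowers t, hN'E h⟩
        rwa [hinf, Subgroup.mem_bot] at h1)
      nnorm := by
        have hle : C ≤ Subgroup.normalizer (N' : Set G) := by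
          rw [← hsup]
          refine sup_le ?_ ?_
          · rw [Subgroup.zpowers_le, Subgroup.mem_normalizer_iff]
            intro h
            constructor
            · intro hh
              rwa [htE t (Subgroup.mem_zpowers t) h (hN'E hh), mul_inv_cancel_right]
            · intro hh
              have := htE t (Subgroup.mem_zpowers t) _ (hN'E hh)
              rw [inv_mul_cancel_right] at this
              rwa [mul_left_cancel this] at hh
          · have h1 := Subgroup.le_normalizer_map (H := N) E.subtype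
            rw [Subgroup.normalizer_eq_top, ← MonoidHom.range_eq_map, Subgroup.range_subtype] at h1
            exact h1
        exact fun c hc n hn => (Subgroup.mem_normalizer_iff.mp (hle hc) n).mp hn
      cent := by
        intro c hc hcn
        have hdec : c ∈ ((Subgroup.zpowers t : Subgroup G) : Set G) * (E : Set G) := by
          rw [← Subgroup.coe_mul_of_left_le_normalizer_right]
          · rw [hsup]; exact hc
          · rw [Subgroup.zpowers_le, Subgroup.mem_normalizer_iff]
            intro h
            constructor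
            · intro hh
              rwa [htE t (Subgroup.mem_zpowers t) h hh, mul_inv_cancel_right]
            · intro hh
              have := htE t (Subgroup.mem_zpowers t) _ hh
              rw [inv_mul_cancel_right] at this
              rwa [mul_left_cancel this] at hh
        obtain ⟨a, ha, x, hx, rfl⟩ := Set.mem_mul.mp hdec
        have hx1 : (⟨x, hx⟩ : ↥E) ∈ Subgroup.centralizer (N : Set ↥E) := by
          rw [Subgroup.mem_centralizer_iff]
          intro n hn
          have hnN : (n : G) ∈ N' := Subgroup.mem_map_of_mem _ hn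
          have h1 := hcn n hnN
          have h2 : Commute a (n : G) := htE a ha n n.2
          rw [mul_assoc, ← mul_assoc (n : G) a x, ← h2.eq, mul_assoc a (n : G) x] at h1
          exact Subtype.ext (mul_left_cancel h1).symm
        rw [hNc, Subgroup.mem_bot] at hx1
        have hx0 : x = 1 := congrArg Subtype.val hx1
        rw [hx0, mul_one]
        rw [SetLike.mem_coe, mem_zpowers_iff_mem_range_orderOf, ht, Finset.mem_image] at ha
        obtain ⟨i, hi, rfl⟩ := ha
        rw [Finset.mem_range] at hi
        interval_cases i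
        · exact Or.inl (pow_zero t)
        · exact Or.inr (pow_one t)
      simple := hsimpN
      card_inf := hinf4
      inf_sq := fun v hv => by
        have h1 := hPsq _ (hPmem' ⟨v, hv.2⟩ ((hQmem _).mpr hv.1))
        rw [← map_mul] at h1
        exact congrArg Subtype.val ((map_eq_one_iff e e.injective).mp h1)
      fixedV := by
        intro v hv h
        have h1 := Cfsg.Agent.JankoReeTypeAut.eq_one_of_fixed hNab Q hQab
          (x := (⟨v, hv.2⟩ : ↥N')) ((hQmem _).mpr hv.1) (fun g hg => Subtype.ext (h g g.2 (by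
            rw [Subgroup.mem_normalizer_iff] at hg ⊢
            intro s
            constructor
            · intro hs
              refine ⟨?_, N'.mul_mem (N'.mul_mem g.2 hs.2) (N'.inv_mem g.2)⟩
              exact (hQmem _).mp ((hg ⟨s, hs.2⟩).mp ((hQmem _).mpr hs.1))
            · intro hs
              have hsN : s ∈ N' := by
                have := N'.mul_mem (N'.mul_mem (N'.inv_mem g.2) hs.2) g.2
                simpa [mul_assoc] using this
              exact ⟨(hQmem _).mp ((hg ⟨s, hsN⟩).mpr ((hQmem _).mpr hs.1)), hsN⟩)))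
        exact congrArg Subtype.val h1
      autN := by
        intro α k hα hfix
        obtain ⟨w, hw, hwx⟩ := Cfsg.Agent.JankoReeTypeAut.aut_fixing_sylow_two hodd P hPab (MulAut.congr e α) k
          (by rw [← map_pow, hα, map_one]) (fun p hp => by
            show e (α (e.symm p)) = p
            rw [hfix _ ((hQmem _).mp (hPmem p hp)), e.apply_symm_apply])
        refine ⟨e.symm w, (hQmem _).mp (hPmem w hw), fun x => e.injective ?_⟩
        have := hwx (e x)
        rw [show MulAut.congr e α (e x) = e (α (e.symm (e x))) from rfl, e.symm_apply_apply] at this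
        rw [this, map_mul, map_mul, map_inv, e.apply_symm_apply] }
  refine ⟨?_, ?_⟩
  · intro L _ _ Z _ hperf hZc hZp hiso
    obtain ⟨f⟩ := hiso
    let q : L →* G := f.toMonoidHom.comp (QuotientGroup.mk' Z)
    have hker : q.ker = Z := by
      ext x
      rw [MonoidHom.mem_ker]
      show f (QuotientGroup.mk' Z x) = 1 ↔ _
      rw [map_eq_one_iff f f.injective]
      exact QuotientGroup.eq_one_iff x
    rw [← hker]
    exact hH.cover_trivial hG q (f.surjective.comp (QuotientGroup.mk'_surjective Z)) (hker ▸ hZc)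
      (hker ▸ hZp) hperf
  · intro a k hk hfixS
    obtain ⟨S', hS'⟩ := hfixS
    obtain ⟨g, hg⟩ := MulAction.exists_smul_eq G S S'
    let b : MulAut G := MulAut.conj g⁻¹ * (a : MulAut G) * MulAut.conj g
    have hb : ∀ x, b x = g⁻¹ * a (g * x * g⁻¹) * g := fun x => by
      show MulAut.conj g⁻¹ (a (MulAut.conj g x)) = _
      simp
    have hbk : b ^ (2 ^ k) = 1 := by
      have h1 : b = (MulAut.conj g)⁻¹ * (a : MulAut G) * ((MulAut.conj g)⁻¹)⁻¹ := by
        rw [inv_inv, ← map_inv]
      rw [h1, conj_pow, hk]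
      group
    obtain ⟨h, hh⟩ := hH.aut_inner hG hmax b k hbk (fun s hs => by
      have hgs : g * s * g⁻¹ ∈ (S' : Subgroup G) := by
        rw [← hg, Sylow.coe_subgroup_smul, Subgroup.mem_smul_pointwise_iff_exists]
        exact ⟨s, hs, by rw [MulAut.smul_def, MulAut.conj_apply]⟩
      rw [hb, hS' _ hgs]
      group)
    refine ⟨g * h * g⁻¹, fun x => ?_⟩
    have h1 := hh (g⁻¹ * x * g)
    rw [hb, show g * (g⁻¹ * x * g) * g⁻¹ = x by group] at h1
    calc a x = g * (g⁻¹ * a x * g) * g⁻¹ := by group
      _ = g * (h * (g⁻¹ * x * g) * h⁻¹) * g⁻¹ := by rw [h1]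
      _ = _ := by group

end Cfsg.Agent.S3206
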