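import Cfsg.Statements.S3208
import Cfsg.Agent.EqLemmas

set_option autoImplicit false
open Cfsg

namespace Cfsg.Agent.S3208

/-- Let j be an involution of a finite group G, H a subgroup of G, and T a Sylow 2-subgroup of H ∩ C_G(j) containing j such that ⟨j⟩ is a characteristic subgroup of T. Then T is a Sylow 2-subgroup of H. -/
theorem result {G : Type*} [Group G] [Finite G]
    (j : G) (hj : orderOf j = 2) (H T : Subgroup G) (hT : T ≤ H ⊓ Subgroup.centralizer ({j} : Set G)) (h2 : IsPGroup 2 ↥T)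
    (hSyl : ¬ 2 ∣ T.relIndex (H ⊓ Subgroup.centralizer ({j} : Set G))) (hjT : j ∈ T)
    (hchar : ((Subgroup.zpowers j).subgroupOf T).Characteristic) :
    ¬ 2 ∣ T.relIndex H := by
  intro h
  have h2' : Fact (Nat.Prime 2) := ⟨Nat.prime_two⟩
  -- a Sylow 2-subgroup of `H` containing `T`
  have hTH : T ≤ H := le_trans hT inf_le_left
  have hTp : IsPGroup 2 ↥(T.subgroupOf H) := h2.of_equiv (Subgroup.subgroupOfEquivOfLe hTH).symm
  obtain ⟨P, hTP⟩ := hTp.exists_le_sylow
  -- `T` is properly contained in it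
  have hne : T.subgroupOf H ≠ (P : Subgroup ↥H) := by
    intro he
    have := P.not_dvd_index
    rw [← he] at this
    exact this h
  have hlt : T.subgroupOf H < (P : Subgroup ↥H) := lt_of_le_of_ne hTP hne
  -- normalizers grow in 2-groups
  have hnil : Group.IsNilpotent ↥(P : Subgroup ↥H) := P.isPGroup'.isNilpotent
  have hK : (T.subgroupOf H).subgroupOf (P : Subgroup ↥H) < ⊤ := by
    rw [lt_top_iff_ne_top]
    intro he
    rw [Subgroup.subgroupOf_eq_top] at he
    exact absurd he (not_le_of_gt hlt)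
  have hgt := Group.normalizerCondition_of_isNilpotent (G := ↥(P : Subgroup ↥H)) _ hK
  obtain ⟨x, hxN, hxK⟩ := SetLike.exists_of_lt hgt
  -- the element `x` centralises `j`
  have hxT : ∀ t, t ∈ T ↔ ((x : ↥H) : G) * t * ((x : ↥H) : G)⁻¹ ∈ T := by
    intro t
    by_cases htH : t ∈ H
    · by_cases htP : (⟨t, htH⟩ : ↥H) ∈ (P : Subgroup ↥H)
      · have := Subgroup.mem_normalizer_iff.mp hxN ⟨⟨t, htH⟩, htP⟩
        simpa [Subgroup.mem_subgroupOf] using this
      · constructor
        · intro ht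
          exact absurd (hTP (show (⟨t, htH⟩ : ↥H) ∈ T.subgroupOf H from ht)) htP
        · intro ht
          have hm := hTP (show (⟨_, hTH ht⟩ : ↥H) ∈ T.subgroupOf H from ht)
          have e : (⟨t, htH⟩ : ↥H) = (x : ↥H)⁻¹ * ⟨_, hTH ht⟩ * (x : ↥H) := by
            ext; simp [mul_assoc]
          exact absurd (e ▸ mul_mem (mul_mem (inv_mem x.2) hm) x.2) htP
    · constructor
      · intro ht; exact absurd (hTH ht) htH
      · intro ht
        have := H.mul_mem (H.mul_mem (H.inv_mem x.1.2) (hTH ht)) x.1.2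
        exact absurd (by simpa [mul_assoc] using this) htH
  let e : ↥T ≃* ↥T :=
    { toFun := fun t => ⟨((x : ↥H) : G) * t * ((x : ↥H) : G)⁻¹, (hxT t).mp t.2⟩
      invFun := fun t => ⟨((x : ↥H) : G)⁻¹ * t * ((x : ↥H) : G), (hxT _).mpr (by simp [mul_assoc])⟩
      left_inv := fun t => by ext; simp [mul_assoc]
      right_inv := fun t => by ext; simp [mul_assoc]
      map_mul' := fun a b => by ext; simp [mul_assoc] }
  have hje : ((x : ↥H) : G) * j * ((x : ↥H) : G)⁻¹ ∈ Subgroup.zpowers j := by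
    have hm : (⟨j, hjT⟩ : ↥T) ∈ (Subgroup.zpowers j).subgroupOf T := Subgroup.mem_zpowers j
    rw [← hchar.fixed e] at hm
    simpa [Subgroup.mem_subgroupOf, e] using hm
  obtain ⟨k, hk⟩ := Subgroup.mem_zpowers_iff.mp hje
  have hcj : ((x : ↥H) : G) * j * ((x : ↥H) : G)⁻¹ = j := by
    have hj2 : j ^ 2 = 1 := by rw [← hj]; exact pow_orderOf_eq_one j
    rcases Int.even_or_odd k with ⟨m, hm⟩ | ⟨m, hm⟩
    · have h1 : ((x : ↥H) : G) * j * ((x : ↥H) : G)⁻¹ = 1 := by
        rw [← hk, hm, ← two_mul, zpow_mul, zpow_ofNat, hj2, one_zpow]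
      rw [conj_eq_one_iff] at h1
      simp [h1] at hj
    · rw [← hk, hm, zpow_add, zpow_mul, zpow_ofNat, hj2, one_zpow, one_mul, zpow_one]
  have hxC : ((x : ↥H) : G) ∈ H ⊓ Subgroup.centralizer ({j} : Set G) := by
    refine ⟨x.1.2, ?_⟩
    rw [SetLike.mem_coe, Subgroup.mem_toSubmonoid, Subgroup.mem_centralizer_singleton_iff]
    exact mul_inv_eq_iff_eq_mul.mp hcj
  -- hence `T` is not a Sylow subgroup of the centralizer
  set D := H ⊓ Subgroup.centralizer ({j} : Set G)
  set U : Subgroup G := (P : Subgroup ↥H).map H.subtype ⊓ D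
  have hTU : T ≤ U := le_inf (fun t ht => ⟨⟨t, hTH ht⟩, hTP ht, rfl⟩) hT
  have hU : IsPGroup 2 ↥U := (P.isPGroup'.map H.subtype).to_le inf_le_left
  have hUn : T.relIndex U ≠ 1 := by
    intro he
    rw [Subgroup.relIndex_eq_one] at he
    exact hxK (he ⟨⟨x, x.2, rfl⟩, hxC⟩)
  obtain ⟨m, hm⟩ := hU.index (T.subgroupOf U)
  change T.relIndex U = 2 ^ m at hm
  refine hSyl ?_
  rw [← Subgroup.relIndex_mul_relIndex T U D hTU inf_le_right, hm]
  rcases m with _ | m
  · simp [hm] at hUn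
  · exact dvd_mul_of_dvd_left (dvd_pow_self 2 (Nat.succ_ne_zero m)) _

end Cfsg.Agent.S3208
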