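import Cfsg.Statements.S3209
import Cfsg.Agent.EqLemmas

set_option autoImplicit false
open Cfsg

namespace Cfsg.Agent.S3209

/-- The standard element of order four. -/
def wElt (F : Type*) [Field F] : Matrix.SpecialLinearGroup (Fin 2) F :=
  ⟨!![0, -1; 1, 0], by simp [Matrix.det_fin_two]⟩

open Matrix in
theorem sl2_facts {F : Type*} [Field F] [Fintype F] (h2 : ringChar F ≠ 2) :
    (∀ g : SpecialLinearGroup (Fin 2) F, g * g = 1 → g = 1 ∨ g = -1) ∧
      ∀ g : SpecialLinearGroup (Fin 2) F, g * g = -1 →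
        ∃ P : SpecialLinearGroup (Fin 2) F, g = P * wElt F * P⁻¹ := by
  have h20 : (2 : F) ≠ 0 := Ring.two_ne_zero h2
  constructor
  · intro g hg
    have hd := g.2
    rw [Matrix.det_fin_two] at hd
    have h00 := congrArg (fun M : SpecialLinearGroup (Fin 2) F => (M : Matrix (Fin 2) (Fin 2) F) 0 0) hg
    have h01 := congrArg (fun M : SpecialLinearGroup (Fin 2) F => (M : Matrix (Fin 2) (Fin 2) F) 0 1) hg
    have h10 := congrArg (fun M : SpecialLinearGroup (Fin 2) F => (M : Matrix (Fin 2) (Fin 2) F) 1 0) hg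
    have h11 := congrArg (fun M : SpecialLinearGroup (Fin 2) F => (M : Matrix (Fin 2) (Fin 2) F) 1 1) hg
    simp [Matrix.mul_apply, Fin.sum_univ_two] at h00 h01 h10 h11
    -- the trace squared is 4
    have ht : (g.1 0 0 + g.1 1 1) ^ 2 = 4 := by linear_combination h00 + h11 + 2 * hd
    have htne : g.1 0 0 + g.1 1 1 ≠ 0 := by
      intro e
      rw [e] at ht
      apply h20
      have : (2 : F) * 2 = 0 := by linear_combination -ht
      simpa using this
    have hb : g.1 0 1 = 0 := (mul_eq_zero.mp (show g.1 0 1 * (g.1 0 0 + g.1 1 1) = 0 by linear_combination h01)).resolve_right htne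
    have hc : g.1 1 0 = 0 := (mul_eq_zero.mp (show g.1 1 0 * (g.1 0 0 + g.1 1 1) = 0 by linear_combination h10)).resolve_right htne
    have ha : g.1 0 0 * g.1 0 0 = 1 := by linear_combination h00 - g.1 1 0 * hb
    have hda : g.1 0 0 = g.1 1 1 := by
      linear_combination -(g.1 0 0) * hd + g.1 1 1 * ha - g.1 0 0 * g.1 1 0 * hb
    rcases mul_self_eq_one_iff.mp ha with h | h
    · left
      ext i k
      fin_cases i <;> fin_cases k <;> simp [h, hb, hc, ← hda]
    · right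
      ext i k
      fin_cases i <;> fin_cases k <;> simp [h, hb, hc, ← hda]
  · intro g hg
    have hd := g.2
    rw [Matrix.det_fin_two] at hd
    have h00 := congrArg (fun M : SpecialLinearGroup (Fin 2) F => (M : Matrix (Fin 2) (Fin 2) F) 0 0) hg
    have h01 := congrArg (fun M : SpecialLinearGroup (Fin 2) F => (M : Matrix (Fin 2) (Fin 2) F) 0 1) hg
    have h10 := congrArg (fun M : SpecialLinearGroup (Fin 2) F => (M : Matrix (Fin 2) (Fin 2) F) 1 0) hg
    have h11 := congrArg (fun M : SpecialLinearGroup (Fin 2) F => (M : Matrix (Fin 2) (Fin 2) F) 1 1) hg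
    simp [Matrix.mul_apply, Fin.sum_univ_two] at h00 h01 h10 h11
    have ht : (g.1 0 0 + g.1 1 1) ^ 2 = 0 := by linear_combination h00 + h11 + 2 * hd
    have htr : g.1 1 1 = -g.1 0 0 := eq_neg_of_add_eq_zero_right (pow_eq_zero_iff two_ne_zero |>.mp ht)
    set a := g.1 0 0 with hadef
    set b := g.1 0 1 with hbdef
    set c := g.1 1 0 with hcdef
    have habc : a * a + b * c = -1 := h00
    -- a vector spanning a symplectic pair with its image
    obtain ⟨x, y, hxy⟩ : ∃ x y : F, c * x ^ 2 - 2 * a * x * y - b * y ^ 2 = 1 := by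
      by_cases hc0 : c = 0
      · have ha0 : a ≠ 0 := by
          intro e; rw [e, hc0] at habc; simp at habc
        refine ⟨-(1 + b) / (2 * a), 1, ?_⟩
        rw [hc0]
        field_simp
        ring
      · obtain ⟨u, y, huy⟩ := FiniteField.exists_root_sum_quadratic
          (f := Polynomial.C c * Polynomial.X ^ 2 + Polynomial.C 0 * Polynomial.X + Polynomial.C (-1))
          (g := Polynomial.C (1 / c) * Polynomial.X ^ 2 + Polynomial.C 0 * Polynomial.X + Polynomial.C 0)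
          (Polynomial.degree_quadratic hc0) (Polynomial.degree_quadratic (by simp [hc0]))
          (Nat.odd_iff.mp (Nat.not_even_iff_odd.mp fun he => h2 (by
            rw [FiniteField.even_card_iff_char_two]; exact Nat.even_iff.mp he)))
        simp only [Polynomial.eval_add, Polynomial.eval_mul, Polynomial.eval_C, Polynomial.eval_pow,
          Polynomial.eval_X, zero_mul, add_zero] at huy
        refine ⟨u + a / c * y, y, ?_⟩
        field_simp at huy ⊢
        linear_combination huy + (-(y ^ 2)) * habc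
    let P : SpecialLinearGroup (Fin 2) F := ⟨!![x, a * x + b * y; y, c * x - a * y], by
      rw [Matrix.det_fin_two_of]; linear_combination hxy⟩
    refine ⟨P, eq_mul_inv_iff_mul_eq.mpr ?_⟩
    apply Matrix.SpecialLinearGroup.ext
    intro i k
    rw [Matrix.SpecialLinearGroup.coe_mul, Matrix.SpecialLinearGroup.coe_mul]
    fin_cases i <;> fin_cases k <;> simp [P, wElt, Matrix.mul_apply, Fin.sum_univ_two, htr]
    all_goals simp only [hadef, hbdef, hcdef] at habc ⊢
    all_goals first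
      | linear_combination x * habc
      | linear_combination y * habc
      | ring
      | linear_combination -x * habc
      | linear_combination -y * habc

open Matrix in
theorem factor_facts {G : Type*} [Group G] (L : Subgroup G) {F : Type*} [Field F] [Fintype F]
    (e : ↥L ≃* SpecialLinearGroup (Fin 2) F) (h2 : ringChar F ≠ 2) (j : G) (hjL : j ∈ L) (hj1 : j ≠ 1)
    (hj2 : j * j = 1) :
    (∀ a ∈ L, a * a = 1 → a = 1 ∨ a = j) ∧ (∃ a ∈ L, a * a = j) ∧
      (∀ a ∈ L, a * a = j → ∀ b ∈ L, b * b = j → ∃ g ∈ L, g * a * g⁻¹ = b) := by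
  obtain ⟨hu, hw⟩ := sl2_facts (F := F) h2
  have hej : e ⟨j, hjL⟩ = -1 := by
    refine (hu _ ?_).resolve_left ?_
    · rw [← map_mul, ← map_one e]; exact congrArg e (Subtype.ext hj2)
    · intro h; exact hj1 (congrArg Subtype.val (e.injective (h.trans (map_one e).symm)))
  have hsq : ∀ a : ↥L, (a : G) * a = j ↔ e a * e a = -1 := by
    intro a
    rw [← hej, ← map_mul, e.injective.eq_iff, Subtype.ext_iff, Subgroup.coe_mul]
  refine ⟨fun a ha h => ?_, ?_, fun a ha h b hb h' => ?_⟩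
  · rcases hu (e ⟨a, ha⟩) (by rw [← map_mul, ← map_one e]; exact congrArg e (Subtype.ext h)) with h' | h'
    · exact Or.inl (congrArg Subtype.val (e.injective (h'.trans (map_one e).symm)))
    · exact Or.inr (congrArg Subtype.val (e.injective (h'.trans hej.symm)))
  · let w : SpecialLinearGroup (Fin 2) F := ⟨!![0, -1; 1, 0], by simp [Matrix.det_fin_two]⟩
    refine ⟨e.symm w, (e.symm w).2, (hsq _).mpr ?_⟩
    rw [MulEquiv.apply_symm_apply]
    apply Matrix.SpecialLinearGroup.ext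
    intro i k
    rw [Matrix.SpecialLinearGroup.coe_mul, Matrix.SpecialLinearGroup.coe_neg]
    fin_cases i <;> fin_cases k <;> simp [w, wElt, Matrix.mul_apply, Fin.sum_univ_two]
  · obtain ⟨P, hP⟩ := hw _ ((hsq ⟨a, ha⟩).mp h)
    obtain ⟨Q, hQ⟩ := hw _ ((hsq ⟨b, hb⟩).mp h')
    refine ⟨e.symm (Q * P⁻¹), (e.symm _).2, ?_⟩
    have key : (e.symm (Q * P⁻¹)) * ⟨a, ha⟩ * (e.symm (Q * P⁻¹))⁻¹ = (⟨b, hb⟩ : ↥L) := by
      apply e.injective
      rw [map_mul, map_mul, map_inv, MulEquiv.apply_symm_apply, hP, hQ]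
      group
    exact congrArg Subtype.val key

/-- Let L₁ ≅ SL₂(q₁) and L₂ ≅ SL₂(q₂), q₁ and q₂ odd, be elementwise-commuting subgroups of a finite group meeting in ⟨j⟩ for an involution j. Then L₁L₂ has exactly two conjugacy classes of involutions: the central involution j, and one further class (there is an involution x ≠ j in L₁L₂, and every involution of L₁L₂ other than j is conjugate to x by an element of L₁L₂). -/
theorem result {G : Type*} [Group G] [Finite G]
    {F₁ : Type*} [Field F₁] [Fintype F₁] {F₂ : Type*} [Field F₂] [Fintype F₂]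
    (hF₁ : Odd (Fintype.card F₁)) (hF₂ : Odd (Fintype.card F₂)) (L₁ L₂ : Subgroup G)
    (e₁ : ↥L₁ ≃* Matrix.SpecialLinearGroup (Fin 2) F₁) (e₂ : ↥L₂ ≃* Matrix.SpecialLinearGroup (Fin 2) F₂)
    (hc : ∀ x ∈ L₁, ∀ y ∈ L₂, x * y = y * x) (j : G) (hj : orderOf j = 2) (hm : L₁ ⊓ L₂ = Subgroup.zpowers j) :
    ∃ x ∈ L₁ ⊔ L₂, orderOf x = 2 ∧ x ≠ j ∧
      ∀ y ∈ L₁ ⊔ L₂, orderOf y = 2 → y = j ∨ ∃ g ∈ L₁ ⊔ L₂, g * x * g⁻¹ = y := by
  have hne₁ : ringChar F₁ ≠ 2 := fun h => (Nat.not_even_iff_odd.mpr hF₁) (Nat.even_iff.mpr (FiniteField.even_card_of_char_two h))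
  have hne₂ : ringChar F₂ ≠ 2 := fun h => (Nat.not_even_iff_odd.mpr hF₂) (Nat.even_iff.mpr (FiniteField.even_card_of_char_two h))
  have hj1 : j ≠ 1 := by rintro rfl; simp at hj
  have hjL₁ : j ∈ L₁ := (hm.ge (Subgroup.mem_zpowers j)).1
  have hjL₂ : j ∈ L₂ := (hm.ge (Subgroup.mem_zpowers j)).2
  have hj2 : j * j = 1 := by rw [← pow_two, ← hj]; exact pow_orderOf_eq_one j
  have hz : ∀ i : ℤ, j ^ i = 1 ∨ j ^ i = j := by
    intro i
    rcases Int.even_or_odd i with ⟨m, rfl⟩ | ⟨m, rfl⟩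
    · left; rw [← two_mul, zpow_mul, zpow_ofNat, pow_two, hj2, one_zpow]
    · right; rw [zpow_add, zpow_mul, zpow_ofNat, pow_two, hj2, one_zpow, one_mul, zpow_one]
  obtain ⟨hu₁, hs₁, hc₁⟩ := factor_facts L₁ e₁ hne₁ j hjL₁ hj1 hj2
  obtain ⟨hu₂, hs₂, hc₂⟩ := factor_facts L₂ e₂ hne₂ j hjL₂ hj1 hj2
  obtain ⟨x₁, hx₁, hx₁2⟩ := hs₁
  obtain ⟨x₂, hx₂, hx₂2⟩ := hs₂
  have sq : ∀ a ∈ L₁, ∀ b ∈ L₂, a * b * (a * b) = a * a * (b * b) := by
    intro a ha b hb
    calc a * b * (a * b) = a * (b * a) * b := by group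
      _ = a * (a * b) * b := by rw [hc a ha b hb]
      _ = a * a * (b * b) := by group
  refine ⟨x₁ * x₂, mul_mem (Subgroup.mem_sup_left hx₁) (Subgroup.mem_sup_right hx₂), ?_, ?_, ?_⟩
  · refine orderOf_eq_prime (by rw [pow_two, sq _ hx₁ _ hx₂, hx₁2, hx₂2, hj2]) ?_
    intro e
    have h1 : x₁ ∈ Subgroup.zpowers j := by
      rw [← hm]; exact ⟨hx₁, by rw [mul_eq_one_iff_eq_inv.mp e]; exact L₂.inv_mem hx₂⟩
    obtain ⟨i, hi⟩ := Subgroup.mem_zpowers_iff.mp h1
    rcases hz i with h | h <;> rw [← (hi : j ^ i = x₁), h] at hx₁2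
    · exact hj1 (by simpa using hx₁2.symm)
    · exact hj1 (hx₁2.symm.trans hj2)
  · intro e
    have h1 : x₁ ∈ Subgroup.zpowers j := by
      rw [← hm]; exact ⟨hx₁, by rw [eq_mul_inv_iff_mul_eq.mpr e]; exact L₂.mul_mem hjL₂ (L₂.inv_mem hx₂)⟩
    obtain ⟨i, hi⟩ := Subgroup.mem_zpowers_iff.mp h1
    rcases hz i with h | h <;> rw [← (hi : j ^ i = x₁), h] at hx₁2
    · exact hj1 (by simpa using hx₁2.symm)
    · exact hj1 (hx₁2.symm.trans hj2)
  · intro y hy hy2
    have hle : L₁ ≤ Subgroup.normalizer (L₂ : Set G) :=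
      fun a ha => Subgroup.centralizer_le_normalizer _ fun b hb => (hc a ha b hb).symm
    rw [← SetLike.mem_coe, Subgroup.coe_mul_of_left_le_normalizer_right _ _ hle] at hy
    obtain ⟨a, ha, b, hb, rfl⟩ := hy
    have hyy : a * b * (a * b) = 1 := by rw [← pow_two, ← hy2]; exact pow_orderOf_eq_one _
    rw [sq a ha b hb] at hyy
    have h1 : a * a ∈ Subgroup.zpowers j := by
      rw [← hm]; exact ⟨L₁.mul_mem ha ha, by rw [mul_eq_one_iff_eq_inv.mp hyy]; exact L₂.inv_mem (L₂.mul_mem hb hb)⟩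
    obtain ⟨i, hi⟩ := Subgroup.mem_zpowers_iff.mp h1
    rcases hz i with h | h <;> rw [(hi : j ^ i = a * a)] at h <;> rw [h] at hyy
    · rw [one_mul] at hyy
      rcases hu₁ a ha h with rfl | rfl <;> rcases hu₂ b hb hyy with rfl | rfl
      · exact absurd hy2 (by simp)
      · exact Or.inl (one_mul _)
      · exact Or.inl (mul_one _)
      · exact absurd hy2 (by simp [hj2])
    · have hb' : b * b = j := by rw [mul_eq_one_iff_eq_inv'.mp hyy]; exact inv_eq_of_mul_eq_one_left hj2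
      obtain ⟨g₁, hg₁, he₁⟩ := hc₁ x₁ hx₁ hx₁2 a ha h
      obtain ⟨g₂, hg₂, he₂⟩ := hc₂ x₂ hx₂ hx₂2 b hb hb'
      refine Or.inr ⟨g₁ * g₂, mul_mem (Subgroup.mem_sup_left hg₁) (Subgroup.mem_sup_right hg₂), ?_⟩
      rw [← he₁, ← he₂]
      have k1 : g₂ * x₁ = x₁ * g₂ := (hc x₁ hx₁ g₂ hg₂).symm
      have k2 : (g₂ * x₂ * g₂⁻¹) * g₁⁻¹ = g₁⁻¹ * (g₂ * x₂ * g₂⁻¹) :=
        (hc _ (inv_mem hg₁) _ (mul_mem (mul_mem hg₂ hx₂) (inv_mem hg₂))).symm
      calc g₁ * g₂ * (x₁ * x₂) * (g₁ * g₂)⁻¹ = g₁ * (g₂ * x₁) * x₂ * g₂⁻¹ * g₁⁻¹ := by group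
        _ = g₁ * x₁ * ((g₂ * x₂ * g₂⁻¹) * g₁⁻¹) := by rw [k1]; group
        _ = g₁ * x₁ * g₁⁻¹ * (g₂ * x₂ * g₂⁻¹) := by rw [k2]; group

end Cfsg.Agent.S3209
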