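import Cfsg.Statements.S3210
import Cfsg.Agent.Lib.GLOrder.Two

set_option autoImplicit false
open Cfsg

namespace Cfsg.Agent.S3210

open Matrix in
/-- A matrix commuting up to sign with a nontrivial upper triangular matrix with equal diagonal. -/
theorem upper_of_comm {F : Type*} [Field F] (h2 : (2 : F) ≠ 0)
    {y a : Matrix.SpecialLinearGroup (Fin 2) F} (ha10 : a 1 0 = 0) (hdiag : a 0 0 = a 1 1)
    (he : a 0 1 ≠ 0) (h : y * a = a * y ∨ y * a = -(a * y)) : y 1 0 = 0 ∧ y 0 0 = y 1 1 := by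
  have hdy := y.2
  rw [Matrix.det_fin_two] at hdy
  have hd0 : a 0 0 ≠ 0 := by
    intro h0
    have hda := a.2
    rw [Matrix.det_fin_two, h0, ha10] at hda
    simp at hda
  rcases h with h | h
  · have h00 := congrArg (fun g : Matrix.SpecialLinearGroup (Fin 2) F => g 0 0) h
    have h01 := congrArg (fun g : Matrix.SpecialLinearGroup (Fin 2) F => g 0 1) h
    simp only [Matrix.SpecialLinearGroup.coe_mul, Matrix.mul_apply, Fin.sum_univ_two, ha10,
      ← hdiag, mul_zero, zero_mul, add_zero, zero_add] at h00 h01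
    have k0 : a 0 1 * y 1 0 = 0 := by linear_combination -h00
    have k10 := (mul_eq_zero.1 k0).resolve_left he
    refine ⟨k10, mul_left_cancel₀ he ?_⟩
    linear_combination h01
  · exfalso
    have h10 := congrArg (fun g : Matrix.SpecialLinearGroup (Fin 2) F => g 1 0) h
    have h00 := congrArg (fun g : Matrix.SpecialLinearGroup (Fin 2) F => g 0 0) h
    simp only [Matrix.SpecialLinearGroup.coe_mul, Matrix.SpecialLinearGroup.coe_neg,
      Matrix.neg_apply, Matrix.mul_apply, Fin.sum_univ_two, ha10, ← hdiag, mul_zero, zero_mul,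
      add_zero, zero_add] at h10 h00
    have k0 : (2 * a 0 0) * y 1 0 = 0 := by linear_combination h10
    have k10 := (mul_eq_zero.1 k0).resolve_left (mul_ne_zero h2 hd0)
    rw [k10, mul_zero, add_zero] at h00
    have k1 : (2 * a 0 0) * y 0 0 = 0 := by linear_combination h00
    rw [(mul_eq_zero.1 k1).resolve_left (mul_ne_zero h2 hd0), k10, zero_mul, mul_zero,
      sub_zero] at hdy
    exact zero_ne_one hdy

theorem eq_pm_of_scalar {F : Type*} [Field F] {y : Matrix.SpecialLinearGroup (Fin 2) F}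
    (h10 : y 1 0 = 0) (h01 : y 0 1 = 0) (hd : y 0 0 = y 1 1) : y = 1 ∨ y = -1 := by
  have hdy := y.2
  rw [Matrix.det_fin_two, h10, ← hd, mul_zero, sub_zero, mul_self_eq_one_iff] at hdy
  rcases hdy with h | h
  · left
    ext i j
    fin_cases i <;> fin_cases j <;> simp [h, h10, h01, ← hd]
  · right
    ext i j
    fin_cases i <;> fin_cases j <;> simp [h, h10, h01, ← hd]

theorem neg_mem_of {F : Type*} [Field F] {A : Subgroup (Matrix.SpecialLinearGroup (Fin 2) F)}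
    (hA : (-1 : Matrix.SpecialLinearGroup (Fin 2) F) ∈ A) {b : Matrix.SpecialLinearGroup (Fin 2) F}
    (hb : b ∈ A) : -b ∈ A := by
  have := A.mul_mem hA hb
  rwa [neg_one_mul] at this

open Matrix in
/-- `PSL₂(F)` is no product of two nontrivial commuting subgroups. -/
theorem sl_split {F : Type*} [Field F] (h2 : (2 : F) ≠ 0)
    (A B : Subgroup (Matrix.SpecialLinearGroup (Fin 2) F))
    (hA1 : (-1 : Matrix.SpecialLinearGroup (Fin 2) F) ∈ A)
    (hB1 : (-1 : Matrix.SpecialLinearGroup (Fin 2) F) ∈ B) (hsup : A ⊔ B = ⊤)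
    (hc : ∀ a ∈ A, ∀ b ∈ B, a * b = b * a ∨ a * b = -(b * a)) :
    (∀ a ∈ A, a = 1 ∨ a = -1) ∨ (∀ b ∈ B, b = 1 ∨ b = -1) := by
  have hnorm : ∀ (A B : Subgroup (Matrix.SpecialLinearGroup (Fin 2) F)),
      (-1 : Matrix.SpecialLinearGroup (Fin 2) F) ∈ B → A ⊔ B = ⊤ →
      (∀ a ∈ A, ∀ b ∈ B, a * b = b * a ∨ a * b = -(b * a)) → B.Normal := by
    intro A B hB1 hsup hc
    rw [← Subgroup.normalizer_eq_top_iff, eq_top_iff, ← hsup, sup_le_iff]
    refine ⟨fun a ha => ?_, Subgroup.le_normalizer⟩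
    have key : ∀ a ∈ A, ∀ b ∈ B, a * b * a⁻¹ ∈ B := by
      intro a ha b hb
      rcases hc a ha b hb with h | h
      · rwa [h, mul_inv_cancel_right]
      · rw [h, neg_mul, mul_inv_cancel_right]; exact neg_mem_of hB1 hb
    rw [Subgroup.mem_normalizer_iff]
    refine fun b => ⟨key a ha b, fun h => ?_⟩
    simpa [mul_assoc] using key _ (A.inv_mem ha) _ h
  have hc' : ∀ b ∈ B, ∀ a ∈ A, b * a = a * b ∨ b * a = -(a * b) := fun b hb a ha =>
    (hc a ha b hb).imp Eq.symm fun h => by rw [h, neg_neg]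
  have hBn := hnorm A B hB1 hsup hc
  have hAn := hnorm B A hA1 (sup_comm A B ▸ hsup) hc'
  let t : Matrix.SpecialLinearGroup (Fin 2) F := ⟨!![1, 1; 0, 1], by simp [Matrix.det_fin_two]⟩
  obtain ⟨a, ha, b, hb, hab⟩ := Subgroup.mem_sup_of_normal_right.1
    (show t ∈ A ⊔ B from hsup ▸ Subgroup.mem_top t)
  have ht10 : t 1 0 = 0 := rfl
  have htd : t 0 0 = t 1 1 := rfl
  have ht01 : t 0 1 ≠ 0 := one_ne_zero
  have hat : a * t = t * a ∨ a * t = -(t * a) := by
    rw [← hab, mul_assoc a b a]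
    rcases hc a ha b hb with h | h
    · exact Or.inl (by rw [← h])
    · exact Or.inr (by rw [← mul_neg, ← h])
  have hbt : b * t = t * b ∨ b * t = -(t * b) := by
    rw [← hab, ← mul_assoc b a b]
    rcases hc' b hb a ha with h | h
    · exact Or.inl (by rw [h, mul_assoc])
    · exact Or.inr (by rw [h, neg_mul, mul_assoc])
  obtain ⟨ha10, had⟩ := upper_of_comm h2 ht10 htd ht01 hat
  obtain ⟨hb10, hbd⟩ := upper_of_comm h2 ht10 htd ht01 hbt
  let w : Matrix.SpecialLinearGroup (Fin 2) F := ⟨!![0, 1; -1, 0], by simp [Matrix.det_fin_two]⟩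
  have main : ∀ (x : Matrix.SpecialLinearGroup (Fin 2) F)
      (N : Subgroup (Matrix.SpecialLinearGroup (Fin 2) F)), N.Normal → x 1 0 = 0 → x 0 0 = x 1 1 →
      x 0 1 ≠ 0 → (∀ y ∈ N, y * x = x * y ∨ y * x = -(x * y)) → ∀ y ∈ N, y = 1 ∨ y = -1 := by
    intro x N hN hx10 hxd hx01 hyx y hy
    obtain ⟨h10, hd⟩ := upper_of_comm h2 hx10 hxd hx01 (hyx y hy)
    obtain ⟨h10', -⟩ := upper_of_comm h2 hx10 hxd hx01 (hyx _ (hN.conj_mem y hy w))
    refine eq_pm_of_scalar h10 ?_ hd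
    rw [Matrix.SpecialLinearGroup.coe_mul, Matrix.SpecialLinearGroup.coe_mul,
      Matrix.SpecialLinearGroup.coe_inv, show (w : Matrix (Fin 2) (Fin 2) F) = !![0, 1; -1, 0] from rfl] at h10'
    simpa [Matrix.mul_apply, Matrix.vecMul, dotProduct, Fin.sum_univ_two, Matrix.adjugate_fin_two] using h10'
  by_cases ha01 : a 0 1 = 0
  · by_cases hb01 : b 0 1 = 0
    · exfalso
      have := congrArg (fun g : Matrix.SpecialLinearGroup (Fin 2) F => g 0 1) hab
      simp [t, Matrix.mul_apply, Fin.sum_univ_two, ha01, hb01] at this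
    · exact Or.inl (main b A hAn hb10 hbd hb01 fun y hy => hc y hy b hb)
  · exact Or.inr (main a B hBn ha10 had ha01 fun y hy => hc' y hy a ha)

theorem odd_two_ne_zero {F : Type*} [Field F] [Fintype F] (hF : Odd (Fintype.card F)) :
    (2 : F) ≠ 0 := by
  refine Ring.two_ne_zero fun hc => ?_
  exact (Nat.not_even_iff_odd.2 hF) (Nat.even_iff.2 (FiniteField.even_card_iff_char_two.1 hc))

/-- Two commuting subgroups generating `L ⊔ K`: one of them lies in `K`. -/
theorem le_or_le {G : Type*} [Group G] [Finite G] {F : Type*} [Field F] [Fintype F]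
    (hF : Odd (Fintype.card F)) (L K : Subgroup G)
    (e : ↥L ≃* Matrix.SpecialLinearGroup (Fin 2) F)
    (hc : ∀ x ∈ L, ∀ y ∈ K, x * y = y * x) (j : G) (hj : orderOf j = 2)
    (hm : L ⊓ K = Subgroup.zpowers j) (A B : Subgroup G) (hAB : ∀ a ∈ A, ∀ b ∈ B, a * b = b * a)
    (hA : A ≤ L ⊔ K) (hB : B ≤ L ⊔ K) (hgen : L ≤ A ⊔ B) : A ≤ K ∨ B ≤ K := by
  have h2 := odd_two_ne_zero hF
  have hjLK : j ∈ L ⊓ K := hm ▸ Subgroup.mem_zpowers j
  have hjj : j * j = 1 := by rw [← pow_two, ← hj, pow_orderOf_eq_one]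
  have hj1 : j ≠ 1 := fun h => by rw [h, orderOf_one] at hj; omega
  have hej : e ⟨j, hjLK.1⟩ = -1 := by
    rcases GLOrder.SL2_eq_one_or_neg_one_of_sq h2 (g := e ⟨j, hjLK.1⟩)
      (by rw [← map_mul, show (⟨j, hjLK.1⟩ : L) * ⟨j, hjLK.1⟩ = 1 from Subtype.ext hjj,
        map_one]) with h | h
    · exact absurd (congrArg Subtype.val (e.injective (h.trans (map_one e).symm))) hj1
    · exact h
  have hK : ∀ x ∈ L ⊔ K, ∃ l ∈ L, ∃ k ∈ K, x = l * k := fun x hx => by
    have hKn : L ≤ Subgroup.normalizer (K : Set G) :=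
      le_trans (show L ≤ Subgroup.centralizer (K : Set G) from fun l hl k hk => (hc l hl k hk).symm)
        (Subgroup.centralizer_le_normalizer _)
    rw [← SetLike.mem_coe, Subgroup.coe_mul_of_left_le_normalizer_right L K hKn] at hx
    obtain ⟨l, hl, k, hk, rfl⟩ := hx
    exact ⟨l, hl, k, hk, rfl⟩
  -- projections to L
  let P : Subgroup G → Subgroup L := fun A => (A ⊔ K).subgroupOf L
  have hP : ∀ A : Subgroup G, A ≤ L ⊔ K → ∀ x : L, x ∈ P A → ∃ a ∈ A, ∃ k ∈ K, (x : G) = a * k := by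
    intro A hA x hx
    have hKn : A ≤ Subgroup.normalizer (K : Set G) := hA.trans (sup_le
      (le_trans (show L ≤ Subgroup.centralizer (K : Set G) from fun l hl k hk => (hc l hl k hk).symm)
        (Subgroup.centralizer_le_normalizer _))
      Subgroup.le_normalizer)
    rw [Subgroup.mem_subgroupOf, ← SetLike.mem_coe,
      Subgroup.coe_mul_of_left_le_normalizer_right A K hKn] at hx
    obtain ⟨a, ha, k, hk, h⟩ := hx
    exact ⟨a, ha, k, hk, h.symm⟩
  have hneg : ∀ A : Subgroup G, (-1 : Matrix.SpecialLinearGroup (Fin 2) F) ∈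
      (P A).map e.toMonoidHom := fun A =>
    ⟨⟨j, hjLK.1⟩, Subgroup.mem_subgroupOf.2 (Subgroup.mem_sup_right hjLK.2), hej⟩
  have hsup : P A ⊔ P B = ⊤ := by
    rw [eq_top_iff]
    intro x _
    have hBn : A ≤ Subgroup.normalizer (B : Set G) :=
      le_trans (show A ≤ Subgroup.centralizer (B : Set G) from fun a ha b hb => (hAB a ha b hb).symm)
        (Subgroup.centralizer_le_normalizer _)
    have hx := hgen x.2
    rw [← SetLike.mem_coe, Subgroup.coe_mul_of_left_le_normalizer_right A B hBn] at hx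
    obtain ⟨a, ha, b, hb, hab⟩ := hx
    obtain ⟨l, hl, k, hk, rfl⟩ := hK a (hA ha)
    obtain ⟨m, hm', k', hk', rfl⟩ := hK b (hB hb)
    have h1 : (⟨l, hl⟩ : L) ∈ P A := Subgroup.mem_subgroupOf.2 (by
      have := (A ⊔ K).mul_mem (Subgroup.mem_sup_left ha)
        ((A ⊔ K).inv_mem (Subgroup.mem_sup_right hk))
      simpa using this)
    have h2' : (⟨l, hl⟩ : L)⁻¹ * x ∈ P B := Subgroup.mem_subgroupOf.2 (by
      have hx' : (x : G) = l * m * (k * k') := by
        rw [← hab]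
        calc l * k * (m * k') = l * (k * m) * k' := by group
          _ = l * (m * k) * k' := by rw [hc m hm' k hk]
          _ = l * m * (k * k') := by group
      have hkk : k * k' ∈ B ⊔ K := Subgroup.mem_sup_right (K.mul_mem hk hk')
      have hm2 : m ∈ B ⊔ K := by
        have := (B ⊔ K).mul_mem (Subgroup.mem_sup_left hb)
          ((B ⊔ K).inv_mem (Subgroup.mem_sup_right hk'))
        simpa using this
      have := (B ⊔ K).mul_mem hm2 hkk
      simpa [hx', mul_assoc] using this)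
    simpa using Subgroup.mul_mem_sup h1 h2'
  have hcomm : ∀ x ∈ P A, ∀ y ∈ P B, e x * e y = e y * e x ∨ e x * e y = -(e y * e x) := by
    intro x hx y hy
    obtain ⟨a, ha, k, hk, hxk⟩ := hP A hA x hx
    obtain ⟨b, hb, k', hk', hyk⟩ := hP B hB y hy
    have hxk' : a = (x : G) * k⁻¹ := by rw [hxk, mul_inv_cancel_right]
    have hyk' : b = (y : G) * k'⁻¹ := by rw [hyk, mul_inv_cancel_right]
    have hmem : (x : G) * y * (x : G)⁻¹ * (y : G)⁻¹ ∈ Subgroup.zpowers j := by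
      rw [← hm]
      refine ⟨(x * y * x⁻¹ * y⁻¹).2, ?_⟩
      have h := hAB a ha b hb
      rw [hxk', hyk'] at h
      have c1 := hc y y.2 k⁻¹ (K.inv_mem hk)
      have c2 := hc x x.2 k'⁻¹ (K.inv_mem hk')
      have h' : (x : G) * y * (k⁻¹ * k'⁻¹) = (y : G) * x * (k'⁻¹ * k⁻¹) := by
        calc (x : G) * y * (k⁻¹ * k'⁻¹) = (x : G) * (y * k⁻¹) * k'⁻¹ := by group
          _ = (x : G) * k⁻¹ * (y * k'⁻¹) := by rw [c1]; group
          _ = (y : G) * (k'⁻¹ * x) * k⁻¹ := by rw [h]; group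
          _ = (y : G) * x * (k'⁻¹ * k⁻¹) := by rw [← c2]; group
      have hz : (k'⁻¹ * k⁻¹) * (k⁻¹ * k'⁻¹)⁻¹ ∈ K :=
        K.mul_mem (K.mul_mem (K.inv_mem hk') (K.inv_mem hk))
          (K.inv_mem (K.mul_mem (K.inv_mem hk) (K.inv_mem hk')))
      set z := (k'⁻¹ * k⁻¹) * (k⁻¹ * k'⁻¹)⁻¹ with hzdef
      have h3 : (x : G) * y = (y : G) * x * z := by
        rw [hzdef, ← mul_assoc, ← h', mul_inv_cancel_right]
      rw [h3]
      have c3 : ((y : G) * x) * z = z * (y * x) := hc ((y : G) * x) (L.mul_mem y.2 x.2) z hz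
      rw [c3]
      simpa [mul_assoc] using hz
    have hzp : ∀ z ∈ Subgroup.zpowers j, z = 1 ∨ z = j := by
      intro z hz
      obtain ⟨n, rfl⟩ := Subgroup.mem_zpowers_iff.1 hz
      rw [← zpow_mod_orderOf, hj]
      rcases Int.emod_two_eq n with h | h <;> simp [h]
    rcases hzp _ hmem with h | h
    · left
      rw [mul_inv_eq_one, mul_inv_eq_iff_eq_mul] at h
      rw [← map_mul, ← map_mul, show x * y = y * x from Subtype.ext h]
    · right
      have : x * y = ⟨j, hjLK.1⟩ * (y * x) := by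
        apply Subtype.ext
        push_cast
        rw [← h]; group
      rw [← map_mul, this, map_mul, map_mul, hej, neg_one_mul]
  have hfin : ∀ A : Subgroup G, A ≤ L ⊔ K →
      (∀ a ∈ (P A).map e.toMonoidHom, a = 1 ∨ a = -1) → A ≤ K := by
    intro A hA h x hx
    obtain ⟨l, hl, k, hk, rfl⟩ := hK x (hA hx)
    have h1 : (⟨l, hl⟩ : L) ∈ P A := Subgroup.mem_subgroupOf.2 (by
      have := (A ⊔ K).mul_mem (Subgroup.mem_sup_left hx)
        ((A ⊔ K).inv_mem (Subgroup.mem_sup_right hk))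
      simpa using this)
    refine K.mul_mem ?_ hk
    rcases h _ ⟨_, h1, rfl⟩ with h | h
    · rw [show l = 1 from congrArg Subtype.val (e.injective (h.trans (map_one e).symm))]
      exact K.one_mem
    · rw [show l = j from congrArg Subtype.val (e.injective (h.trans hej.symm))]
      exact hjLK.2
  refine (sl_split h2 _ _ (hneg A) (hneg B) ?_ ?_).imp (hfin A hA) (hfin B hB)
  · rw [← Subgroup.map_sup, hsup, ← MonoidHom.range_eq_map]
    exact MonoidHom.range_eq_top.2 e.surjective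
  · rintro a ⟨x, hx, rfl⟩ b ⟨y, hy, rfl⟩
    exact hcomm x hx y hy

/-- Let G be a finite group with subgroups L₁ ≅ SL₂(q₁) and L₂ ≅ SL₂(q₂), q₁ and q₂ odd prime powers, which commute elementwise and meet in ⟨j⟩ for an involution j, and suppose L₁L₂ has index 2 in C_G(j). Then every element n of C_G(j) outside L₁L₂ either normalizes both L₁ and L₂, or conjugates L₁ onto L₂; in the second case q₁ = q₂ and there is an element n′ of C_G(j) outside L₁L₂ conjugating L₁ onto L₂ with n′² ∈ ⟨j⟩. -/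
theorem result {G : Type*} [Group G] [Finite G]
    {F₁ : Type*} [Field F₁] [Fintype F₁] {F₂ : Type*} [Field F₂] [Fintype F₂]
    (hF₁ : Odd (Fintype.card F₁)) (hF₂ : Odd (Fintype.card F₂)) (L₁ L₂ : Subgroup G)
    (e₁ : ↥L₁ ≃* Matrix.SpecialLinearGroup (Fin 2) F₁) (e₂ : ↥L₂ ≃* Matrix.SpecialLinearGroup (Fin 2) F₂)
    (hc : ∀ x ∈ L₁, ∀ y ∈ L₂, x * y = y * x) (j : G) (hj : orderOf j = 2) (hm : L₁ ⊓ L₂ = Subgroup.zpowers j)
    (hle : L₁ ⊔ L₂ ≤ Subgroup.centralizer ({j} : Set G)) (hi : (L₁ ⊔ L₂).relIndex (Subgroup.centralizer ({j} : Set G)) = 2) (n : G) (hn : n ∈ Subgroup.centralizer ({j} : Set G)) (hn' : n ∉ L₁ ⊔ L₂) :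
    (L₁.map (MulAut.conj n).toMonoidHom = L₁ ∧ L₂.map (MulAut.conj n).toMonoidHom = L₂) ∨
      (L₁.map (MulAut.conj n).toMonoidHom = L₂ ∧ Fintype.card F₁ = Fintype.card F₂ ∧
        ∃ n' ∈ Subgroup.centralizer ({j} : Set G), n' ∉ L₁ ⊔ L₂ ∧ L₁.map (MulAut.conj n').toMonoidHom = L₂ ∧ n' ^ 2 ∈ Subgroup.zpowers j) := by
  set C := Subgroup.centralizer ({j} : Set G) with hC
  set M := L₁ ⊔ L₂ with hM
  have hjm : j ∈ L₁ ⊓ L₂ := hm ▸ Subgroup.mem_zpowers j
  have hm' : L₂ ⊓ L₁ = Subgroup.zpowers j := inf_comm L₁ L₂ ▸ hm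
  have hc' : ∀ x ∈ L₂, ∀ y ∈ L₁, x * y = y * x := fun x hx y hy => (hc y hy x hx).symm
  have hnormal : (M.subgroupOf C).Normal := Subgroup.normal_of_index_eq_two hi
  have hconjM : ∀ m ∈ M, n * m * n⁻¹ ∈ M := fun m hm1 => by
    have := hnormal.conj_mem ⟨m, hle hm1⟩ (Subgroup.mem_subgroupOf.2 hm1) ⟨n, hn⟩
    exact Subgroup.mem_subgroupOf.1 this
  set A := L₁.map (MulAut.conj n).toMonoidHom with hA
  set B := L₂.map (MulAut.conj n).toMonoidHom with hB
  have hcA : Nat.card A = Nat.card L₁ := Subgroup.card_map_of_injective (MulAut.conj n).injective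
  have hcB : Nat.card B = Nat.card L₂ := Subgroup.card_map_of_injective (MulAut.conj n).injective
  have hAM : A ≤ M := by
    rintro _ ⟨x, hx, rfl⟩; exact hconjM x (Subgroup.mem_sup_left hx)
  have hBM : B ≤ M := by
    rintro _ ⟨x, hx, rfl⟩; exact hconjM x (Subgroup.mem_sup_right hx)
  have hABc : ∀ a ∈ A, ∀ b ∈ B, a * b = b * a := by
    rintro _ ⟨x, hx, rfl⟩ _ ⟨y, hy, rfl⟩
    rw [← map_mul, ← map_mul, hc x hx y hy]
  have hMAB : M ≤ A ⊔ B := by
    rw [hA, hB, ← Subgroup.map_sup]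
    refine (Subgroup.eq_of_le_of_card_ge ?_ ?_).ge
    · rintro _ ⟨x, hx, rfl⟩; exact hconjM x hx
    · exact (Subgroup.card_map_of_injective (MulAut.conj n).injective).ge
  have hq : ∀ q : ℕ, 2 ≤ q → 2 < q * (q ^ 2 - 1) := fun q hq => by
    have : 4 ≤ q ^ 2 := Nat.pow_le_pow_left hq 2
    have h3 : 3 ≤ q ^ 2 - 1 := by omega
    calc 2 < 2 * 3 := by norm_num
      _ ≤ q * (q ^ 2 - 1) := Nat.mul_le_mul hq h3
  have hbig1 : 2 < Nat.card L₁ := by
    rw [Nat.card_congr e₁.toEquiv, GLOrder.card_SL_two]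
    exact hq _ Finite.one_lt_card
  have hbig2 : 2 < Nat.card L₂ := by
    rw [Nat.card_congr e₂.toEquiv, GLOrder.card_SL_two]
    exact hq _ Finite.one_lt_card
  have hcardj : Nat.card (L₁ ⊓ L₂ : Subgroup G) = 2 := by rw [hm, Nat.card_zpowers, hj]
  have key2 := le_or_le hF₁ L₁ L₂ e₁ hc j hj hm A B hABc hAM hBM
    (le_sup_left.trans hMAB)
  have key1 := le_or_le hF₂ L₂ L₁ e₂ hc' j hj hm' A B hABc (hAM.trans_eq (sup_comm _ _))
    (hBM.trans_eq (sup_comm _ _)) (le_sup_right.trans hMAB)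
  have hnotA : ¬ (A ≤ L₂ ∧ A ≤ L₁) := fun h => by
    have := Subgroup.card_le_of_le (le_inf h.2 h.1)
    rw [hcA, hcardj] at this
    omega
  have hnotB : ¬ (B ≤ L₂ ∧ B ≤ L₁) := fun h => by
    have := Subgroup.card_le_of_le (le_inf h.2 h.1)
    rw [hcB, hcardj] at this
    omega
  rcases key2 with hA2 | hB2
  · have hB1 : B ≤ L₁ := key1.resolve_left fun h => hnotA ⟨hA2, h⟩
    have h12 := Subgroup.card_le_of_le hA2
    have h21 := Subgroup.card_le_of_le hB1
    rw [hcA] at h12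
    rw [hcB] at h21
    have hAe : A = L₂ := Subgroup.eq_of_le_of_card_ge hA2 (by omega)
    right
    refine ⟨hAe, ?_, ?_⟩
    · have he := le_antisymm h12 h21
      rw [Nat.card_congr e₁.toEquiv, Nat.card_congr e₂.toEquiv, GLOrder.card_SL_two,
        GLOrder.card_SL_two, Nat.card_eq_fintype_card, Nat.card_eq_fintype_card] at he
      have hmono : ∀ a b : ℕ, 1 ≤ a → a < b → a * (a ^ 2 - 1) < b * (b ^ 2 - 1) := by
        intro a b ha hab
        refine Nat.mul_lt_mul_of_lt_of_le hab (by gcongr) ?_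
        have : 4 ≤ b ^ 2 := Nat.pow_le_pow_left (show 2 ≤ b by omega) 2
        omega
      have h1 : 1 ≤ Fintype.card F₁ := Fintype.card_pos
      have h2 : 1 ≤ Fintype.card F₂ := Fintype.card_pos
      rcases lt_trichotomy (Fintype.card F₁) (Fintype.card F₂) with h | h | h
      · have := hmono _ _ h1 h; omega
      · exact h
      · have := hmono _ _ h2 h; omega
    -- the square of n
    have hn2 : n * n ∈ M := by
      have h := (Subgroup.mul_mem_iff_of_index_two hi (a := (⟨n, hn⟩ : C)) (b := ⟨n, hn⟩)).2 Iff.rfl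
      exact Subgroup.mem_subgroupOf.1 h
    have hKn : L₁ ≤ Subgroup.normalizer (L₂ : Set G) :=
      le_trans (show L₁ ≤ Subgroup.centralizer (L₂ : Set G) from fun l hl k hk => (hc l hl k hk).symm)
        (Subgroup.centralizer_le_normalizer _)
    rw [← SetLike.mem_coe, hM, Subgroup.coe_mul_of_left_le_normalizer_right L₁ L₂ hKn] at hn2
    obtain ⟨l₁, hl₁, l₂, hl₂, hll⟩ := hn2
    have hll' : l₁ * l₂ = n * n := hll
    set m₂ := n * l₁ * n⁻¹ with hm₂
    set m₁ := n * l₂ * n⁻¹ with hm₁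
    have hm₂L : m₂ ∈ L₂ := hA2 ⟨l₁, hl₁, rfl⟩
    have hm₁L : m₁ ∈ L₁ := hB1 ⟨l₂, hl₂, rfl⟩
    have h1 : m₂ * m₁ = l₁ * l₂ := by
      rw [hm₂, hm₁, conj_mul, hll']; group
    have h2 : m₂⁻¹ * l₂ ∈ Subgroup.zpowers j := by
      rw [← hm]
      refine ⟨?_, L₂.mul_mem (L₂.inv_mem hm₂L) hl₂⟩
      have : m₂⁻¹ * l₂ = l₁⁻¹ * m₁ := by
        rw [inv_mul_eq_iff_eq_mul, ← mul_assoc, hc' _ hm₂L _ (L₁.inv_mem hl₁), mul_assoc, h1,
          inv_mul_cancel_left]
      rw [this]; exact L₁.mul_mem (L₁.inv_mem hl₁) hm₁L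
    refine ⟨n * l₁⁻¹, C.mul_mem hn (C.inv_mem (hle (Subgroup.mem_sup_left hl₁))), fun h => hn' ?_,
      ?_, ?_⟩
    · simpa using M.mul_mem h (Subgroup.mem_sup_left hl₁)
    · rw [show L₁.map (MulAut.conj (n * l₁⁻¹)).toMonoidHom = A from ?_, hAe]
      ext y
      constructor
      · rintro ⟨x, hx, rfl⟩
        exact ⟨l₁⁻¹ * x * l₁, L₁.mul_mem (L₁.mul_mem (L₁.inv_mem hl₁) hx) hl₁,
          by simp [MulAut.conj_apply, mul_assoc]⟩
      · rintro ⟨x, hx, rfl⟩
        exact ⟨l₁ * x * l₁⁻¹, L₁.mul_mem (L₁.mul_mem hl₁ hx) (L₁.inv_mem hl₁),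
          by simp [MulAut.conj_apply, mul_assoc]⟩
    · have : (n * l₁⁻¹) ^ 2 = m₂⁻¹ * l₂ := by
        have e1 : (n * l₁⁻¹) ^ 2 = m₂⁻¹ * (n * n) * l₁⁻¹ := by
          rw [hm₂, pow_two]; group
        rw [e1, ← hll', hc l₁ hl₁ l₂ hl₂]
        group
      rwa [this]
  · have hA1 : A ≤ L₁ := key1.resolve_right fun h => hnotB ⟨hB2, h⟩
    exact Or.inl ⟨Subgroup.eq_of_le_of_card_ge hA1 hcA.ge, Subgroup.eq_of_le_of_card_ge hB2 hcB.ge⟩

end Cfsg.Agent.S3210
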