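import Cfsg.Statements.S3213
import Cfsg.Agent.Lib.GLOrder.Two

set_option autoImplicit false
open Cfsg

namespace Cfsg.Agent.S3213

/-- Over a field where `-1` is no square, a subspace invariant under a square root of `-1` has
even dimension. -/
theorem even_finrank {F : Type*} [Field F] {V : Type*} [AddCommGroup V] [Module F V]
    [Module.Finite F V] (hsq : ¬ IsSquare (-1 : F)) (U : Module.End F V) (hU : U * U = -1)
    (S : Submodule F V) (hS : ∀ v ∈ S, U v ∈ S) : Even (Module.finrank F S) := by
  have h1 : (U.restrict hS) * (U.restrict hS) = (-1 : F) • (1 : Module.End F S) := by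
    apply LinearMap.ext
    intro v
    apply Subtype.ext
    simpa using LinearMap.congr_fun hU v.1
  have h2 := congrArg LinearMap.det h1
  rw [map_mul, LinearMap.det_smul, map_one, mul_one] at h2
  rcases Nat.even_or_odd (Module.finrank F S) with h | h
  · exact h
  · exfalso
    rw [h.neg_one_pow] at h2
    exact hsq ⟨_, h2.symm⟩

/-- An endomorphism with fifth power one fixes every invariant subspace of dimension at most 3
over the field with three elements. -/
theorem fix_of_pow_five {F : Type*} [Field F] [Fintype F] (hF : Fintype.card F = 3)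
    {V : Type*} [AddCommGroup V] [Module F V] [Module.Finite F V] (T : Module.End F V)
    (hT : T ^ 5 = 1) (S : Submodule F V) (hS : ∀ v ∈ S, T v ∈ S) (hk : Module.finrank F S ≤ 3)
    {v : V} (hv : v ∈ S) : T v = v := by
  classical
  have := Module.finite_of_finite (M := V) F
  have : Fact (Nat.Prime 5) := ⟨by norm_num⟩
  let f : S → S := fun w => ⟨T w, hS w w.2⟩
  let W : Submodule F S := LinearMap.ker ((T.restrict hS) - LinearMap.id)
  have hiter : ∀ (m : ℕ) (w : S), ((f^[m]) w : V) = (T ^ m) (w : V) := by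
    intro m
    induction m with
    | zero => intro w; rfl
    | succ m ih =>
      intro w
      rw [Function.iterate_succ_apply', pow_succ', Module.End.mul_apply, ← ih]
  have hf : f^[5 ^ 1] = id := funext fun w => Subtype.ext (by
    rw [hiter, pow_one, hT]; rfl)
  have := Fintype.ofFinite S
  have h := Equiv.Perm.card_fixedPoints_modEq (f := f) (p := 5) (n := 1) hf
  have hW : Nat.card (Function.fixedPoints f) = Nat.card W := by
    refine Nat.card_congr (Equiv.subtypeEquivRight fun w => ?_)
    change f w = w ↔ w ∈ LinearMap.ker _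
    rw [LinearMap.mem_ker, LinearMap.sub_apply, LinearMap.id_apply, sub_eq_zero]
    rfl
  rw [← Nat.card_eq_fintype_card, ← Nat.card_eq_fintype_card, hW,
    Module.natCard_eq_pow_finrank (K := F) (V := S),
    Module.natCard_eq_pow_finrank (K := F) (V := W), Nat.card_eq_fintype_card, hF] at h
  have hle : Module.finrank F W ≤ Module.finrank F S := W.finrank_le
  have heq : Module.finrank F W = Module.finrank F S := by
    unfold Nat.ModEq at h
    revert h hle hk
    generalize Module.finrank F W = j
    generalize Module.finrank F S = k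
    intro hk h hle
    interval_cases k <;> interval_cases j <;> simp_all
  have htop : W = ⊤ := Submodule.eq_top_of_finrank_eq heq
  have hmem : (⟨v, hv⟩ : S) ∈ W := htop ▸ Submodule.mem_top
  have h0 := congrArg Subtype.val (LinearMap.mem_ker.1 hmem)
  simpa [sub_eq_zero] using h0

/-- An element of order 3 of `SL₂(5)` is inverted by a square root of `-1`. -/
theorem exists_inverting {K : Type*} [Field K] (h5 : (5 : K) = 0)
    (x : Matrix.SpecialLinearGroup (Fin 2) K) :
    ∃ u : Matrix.SpecialLinearGroup (Fin 2) K, u * u = -1 ∧ u * x * u⁻¹ = x⁻¹ := by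
  obtain ⟨a, b, c, hd, ht⟩ : ∃ a b c : K, a * (-a) - b * c = 1 ∧
      a * x 0 0 + b * x 1 0 + (c * x 0 1 + (-a) * x 1 1) = 0 := by
    by_cases h01 : x 0 1 = 0
    · by_cases h10 : x 1 0 = 0
      · exact ⟨0, 1, -1, by ring, by rw [h01, h10]; ring⟩
      · refine ⟨2, -2 * (x 0 0 - x 1 1) / x 1 0, 0, by linear_combination -h5, ?_⟩
        rw [div_mul_cancel₀ _ h10, h01]; ring
    · refine ⟨2, 0, -2 * (x 0 0 - x 1 1) / x 0 1, by linear_combination -h5, ?_⟩
      rw [div_mul_cancel₀ _ h01]; ring
  let u : Matrix.SpecialLinearGroup (Fin 2) K :=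
    ⟨!![a, b; c, -a], by rw [Matrix.det_fin_two_of]; exact hd⟩
  have hu : u * u = -1 := GLOrder.SL2_sq_eq_neg_one (by
    change a + -a = 0
    ring)
  have hux : (u * x) * (u * x) = -1 := GLOrder.SL2_sq_eq_neg_one (by
    simp only [Matrix.SpecialLinearGroup.coe_mul, Matrix.mul_apply, Fin.sum_univ_two]
    change a * x 0 0 + b * x 1 0 + (c * x 0 1 + (-a) * x 1 1) = 0
    exact ht)
  refine ⟨u, hu, ?_⟩
  have hui : u⁻¹ = -u := inv_eq_of_mul_eq_one_right (by rw [mul_neg, hu, neg_neg])
  rw [hui, mul_neg]
  refine (inv_eq_of_mul_eq_one_left ?_).symm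
  rw [neg_mul, mul_assoc (u * x) u x, hux, neg_neg]

/-- Let F be the field with 3 elements and K the field with 5 elements. For every injective homomorphism φ from SL₂(K) into the symplectic group Sp₄(F) (4 × 4 matrices g with g J gᵀ = J for the standard alternating matrix J) and every element x of order 3 of SL₂(K), the vectors of F⁴ fixed by φ(x) form a 2-dimensional subspace that is totally isotropic for the alternating form defined by J. -/
theorem result {F : Type*} [Field F] [Fintype F] (hF : Fintype.card F = 3)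
    {K : Type*} [Field K] [Fintype K] (hK : Fintype.card K = 5)
    (φ : Matrix.SpecialLinearGroup (Fin 2) K →* ↥(Matrix.symplecticGroup (Fin 2) F)) (hφ : Function.Injective φ)
    (x : Matrix.SpecialLinearGroup (Fin 2) K) (hx : orderOf x = 3) :
    Module.finrank F ↥(LinearMap.ker (Matrix.toLin' ((φ x : Matrix (Fin 2 ⊕ Fin 2) (Fin 2 ⊕ Fin 2) F)) - LinearMap.id)) = 2 ∧
      ∀ v w : Fin 2 ⊕ Fin 2 → F, (φ x : Matrix (Fin 2 ⊕ Fin 2) (Fin 2 ⊕ Fin 2) F).mulVec v = v →
        (φ x : Matrix (Fin 2 ⊕ Fin 2) (Fin 2 ⊕ Fin 2) F).mulVec w = w →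
          dotProduct v ((Matrix.J (Fin 2) F).mulVec w) = 0 := by
  classical
  have h5 : (5 : K) = 0 := by exact_mod_cast hK ▸ FiniteField.cast_card_eq_zero K
  have h3 : (3 : F) = 0 := by exact_mod_cast hF ▸ FiniteField.cast_card_eq_zero F
  have hK2 : (2 : K) ≠ 0 := fun h => one_ne_zero (α := K) (by linear_combination h5 - 2 * h)
  have hsq : ¬ IsSquare (-1 : F) := by
    rw [FiniteField.isSquare_neg_one_iff, hF]; decide
  let f : Matrix.SpecialLinearGroup (Fin 2) K →* Module.End F (Fin 2 ⊕ Fin 2 → F) :=
    (Matrix.toLinAlgEquiv' (R := F) (n := Fin 2 ⊕ Fin 2)).toAlgHom.toRingHom.toMonoidHom.comp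
      ((Matrix.symplecticGroup (Fin 2) F).subtype.comp φ)
  have hfap : ∀ g v, f g v = (φ g : Matrix (Fin 2 ⊕ Fin 2) (Fin 2 ⊕ Fin 2) F).mulVec v :=
    fun g v => rfl
  have hfinj : Function.Injective f :=
    ((Matrix.toLinAlgEquiv' (R := F) (n := Fin 2 ⊕ Fin 2)).injective.comp Subtype.val_injective).comp hφ
  have hdim : Module.finrank F (Fin 2 ⊕ Fin 2 → F) = 4 := by simp
  -- the image of -1
  set Z := f (-1) with hZ
  have hZ1 : Z ≠ 1 := by
    rw [hZ, ← map_one f]
    intro h
    have h' := congrArg (fun g : Matrix.SpecialLinearGroup (Fin 2) K => g 0 0) (hfinj h)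
    simp only [Matrix.SpecialLinearGroup.coe_neg, Matrix.SpecialLinearGroup.coe_one,
      Matrix.neg_apply, Matrix.one_apply_eq] at h'
    exact hK2 (by linear_combination -h')
  have hZZ : Z * Z = 1 := by rw [hZ, ← map_mul, neg_one_mul, neg_neg, map_one]
  let t : Matrix.SpecialLinearGroup (Fin 2) K := ⟨!![1, 1; 0, 1], by simp [Matrix.det_fin_two]⟩
  have ht5 : t ^ 5 = 1 := by
    have key : ∀ m : ℕ, ((t ^ m : Matrix.SpecialLinearGroup (Fin 2) K) : Matrix (Fin 2) (Fin 2) K)
        = !![1, (m : K); 0, 1] := by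
      intro m
      induction m with
      | zero => simp [Matrix.one_fin_two]
      | succ m ih =>
        rw [pow_succ, Matrix.SpecialLinearGroup.coe_mul, ih,
          show (t : Matrix (Fin 2) (Fin 2) K) = !![1, 1; 0, 1] from rfl]
        simp [Matrix.mul_fin_two, add_comm]
    apply Subtype.ext
    rw [key 5, Matrix.SpecialLinearGroup.coe_one, Nat.cast_ofNat, h5, Matrix.one_fin_two]
  have hT1 : f t ≠ 1 := by
    rw [← map_one f]
    intro h
    have := congrArg (fun g : Matrix.SpecialLinearGroup (Fin 2) K => g 0 1) (hfinj h)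
    simp [t] at this
  have hTZ : f t * Z = Z * f t := by
    rw [hZ, ← map_mul, ← map_mul, mul_neg, mul_one, neg_mul, one_mul]
  have hZneg : Z = -1 := by
    by_contra hne
    apply hT1
    have hfix : ∀ c : Module.End F (Fin 2 ⊕ Fin 2 → F), (c = 1 ∨ c = -1) → Z ≠ c →
        ∀ v, Z v = c v → f t v = v := by
      intro c hc hZc v hv
      refine fix_of_pow_five hF (f t) (by rw [← map_pow, ht5, map_one]) (LinearMap.ker (Z - c))
        ?_ ?_ (by rw [LinearMap.mem_ker, LinearMap.sub_apply, hv, sub_self])
      · intro w hw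
        rw [LinearMap.mem_ker, LinearMap.sub_apply, sub_eq_zero] at hw ⊢
        rw [← Module.End.mul_apply, ← hTZ, Module.End.mul_apply, hw]
        rcases hc with rfl | rfl <;> simp
      · have hlt : Module.finrank F (LinearMap.ker (Z - c)) < 4 := by
          rw [← hdim]
          refine Submodule.finrank_lt ?_
          rw [Ne, LinearMap.ker_eq_top, sub_eq_zero]
          exact hZc
        omega
    apply LinearMap.ext
    intro v
    have h2 : (2 : F) ≠ 0 := fun h => one_ne_zero (α := F) (by linear_combination h3 - h)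
    have e1 : Z (v + Z v) = v + Z v := by
      rw [map_add, ← Module.End.mul_apply, hZZ, Module.End.one_apply, add_comm]
    have e2 : Z (v - Z v) = (-1 : Module.End F (Fin 2 ⊕ Fin 2 → F)) (v - Z v) := by
      rw [map_sub, ← Module.End.mul_apply, hZZ]; simp
    have k1 := hfix 1 (Or.inl rfl) hZ1 _ e1
    have k2 := hfix (-1) (Or.inr rfl) hne _ e2
    have k3 : f t ((2 : F) • v) = (2 : F) • v := by
      have : (2 : F) • v = (v + Z v) + (v - Z v) := by rw [two_smul]; abel
      rw [this, map_add, k1, k2]
    rw [map_smul] at k3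
    exact smul_right_injective _ h2 k3
  obtain ⟨u, hu, hux⟩ := exists_inverting h5 x
  set U := f u with hUdef
  have hUU : U * U = -1 := by rw [hUdef, ← map_mul, hu, ← hZ, hZneg]
  set N : Module.End F (Fin 2 ⊕ Fin 2 → F) := f x - 1 with hN
  have hUx : U * f x = f x⁻¹ * U := by
    rw [hUdef, ← map_mul, ← map_mul, ← hux, inv_mul_cancel_right]
  have hkerinv : ∀ v ∈ LinearMap.ker N, U v ∈ LinearMap.ker N := by
    intro v hv
    rw [LinearMap.mem_ker, hN, LinearMap.sub_apply, Module.End.one_apply, sub_eq_zero] at hv ⊢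
    have h := LinearMap.congr_fun hUx v
    rw [Module.End.mul_apply, Module.End.mul_apply, hv] at h
    conv_lhs => rw [h, ← Module.End.mul_apply, ← map_mul, mul_inv_cancel, map_one]
    rfl
  have hranginv : ∀ v ∈ LinearMap.range N, U v ∈ LinearMap.range N := by
    rintro _ ⟨v, rfl⟩
    refine ⟨-(f x⁻¹ (U v)), ?_⟩
    have h := LinearMap.congr_fun hUx v
    rw [Module.End.mul_apply, Module.End.mul_apply] at h
    have hx1 : f x (f x⁻¹ (U v)) = U v := by
      rw [← Module.End.mul_apply, ← map_mul, mul_inv_cancel, map_one, Module.End.one_apply]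
    simp only [hN, LinearMap.sub_apply, Module.End.one_apply, map_sub, map_neg, hx1, h]
    abel
  have hN0 : N ≠ 0 := by
    rw [hN, Ne, sub_eq_zero, ← map_one f]
    intro h
    rw [hfinj h, orderOf_one] at hx
    omega
  have hN3 : N ^ 3 = 0 := by
    have h1 : N ^ 3 = (f x ^ 3 - 1) - (3 : F) • (f x ^ 2 - f x) := by
      have := congrArg (Polynomial.aeval (R := F) (f x))
        (show ((Polynomial.X - 1 : Polynomial F)) ^ 3 = (Polynomial.X ^ 3 - 1) -
          Polynomial.C (3 : F) * (Polynomial.X ^ 2 - Polynomial.X) by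
          rw [map_ofNat]; ring)
      simpa only [map_pow, map_sub, map_mul, Polynomial.aeval_X, map_one, Polynomial.aeval_C,
        ← Algebra.smul_def, ← hN] using this
    rw [h1, h3, zero_smul, sub_zero, ← map_pow, ← hx, pow_orderOf_eq_one, map_one, sub_self]
  have hrk : Module.finrank F (LinearMap.ker N) = 2 ∧
      Module.finrank F (LinearMap.ker N ⊓ LinearMap.range N : Submodule F _) = 2 := by
    obtain ⟨a, ha⟩ := even_finrank hsq U hUU (LinearMap.ker N ⊓ LinearMap.range N)
      (fun v hv => ⟨hkerinv v hv.1, hranginv v hv.2⟩)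
    obtain ⟨b, hb⟩ := even_finrank hsq U hUU (LinearMap.ker N) hkerinv
    have h1 : LinearMap.ker N ⊓ LinearMap.range N ≠ ⊥ := by
      intro hbot
      have key : ∀ w, N (N w) = 0 → N w = 0 := fun w hw => by
        have : N w ∈ LinearMap.ker N ⊓ LinearMap.range N := ⟨hw, w, rfl⟩
        rwa [hbot, Submodule.mem_bot] at this
      refine hN0 (LinearMap.ext fun v => key v (key _ ?_))
      have := LinearMap.congr_fun hN3 v
      rw [pow_succ, pow_two, Module.End.mul_apply, Module.End.mul_apply] at this
      exact this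
    have h2 : Module.finrank F (LinearMap.ker N) < 4 := by
      rw [← hdim]
      refine Submodule.finrank_lt ?_
      rwa [Ne, LinearMap.ker_eq_top]
    have h3 := Submodule.finrank_mono
      (inf_le_left : LinearMap.ker N ⊓ LinearMap.range N ≤ LinearMap.ker N)
    have h4 : 0 < Module.finrank F (LinearMap.ker N ⊓ LinearMap.range N : Submodule F _) := by
      rw [Nat.pos_iff_ne_zero, Ne, Submodule.finrank_eq_zero]; exact h1
    omega
  refine ⟨hrk.1, fun v w hv hw => ?_⟩
  have heq : LinearMap.ker N ⊓ LinearMap.range N = LinearMap.ker N :=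
    Submodule.eq_of_le_of_finrank_eq inf_le_left (hrk.2.trans hrk.1.symm)
  have hvk : v ∈ LinearMap.ker N := by
    rw [LinearMap.mem_ker, hN, LinearMap.sub_apply, Module.End.one_apply, hfap, hv, sub_self]
  rw [← heq] at hvk
  obtain ⟨a, rfl⟩ := hvk.2
  set A : Matrix (Fin 2 ⊕ Fin 2) (Fin 2 ⊕ Fin 2) F := ((φ x).1) with hA
  have hsymp : A.transpose * Matrix.J (Fin 2) F * A = Matrix.J (Fin 2) F := by
    have h := SymplecticGroup.mem_iff.1 (SymplecticGroup.transpose_mem (φ x).2)
    rwa [Matrix.transpose_transpose] at h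
  rw [hN, LinearMap.sub_apply, Module.End.one_apply, hfap, sub_dotProduct, sub_eq_zero, ← hA]
  conv_lhs => rw [← hw]
  rw [Matrix.mulVec_mulVec, Matrix.dotProduct_mulVec, ← Matrix.vecMul_transpose, Matrix.vecMul_vecMul,
    ← Matrix.mul_assoc, hsymp, ← Matrix.dotProduct_mulVec]

end Cfsg.Agent.S3213
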