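import Cfsg.Statements.S3215
import Cfsg.Agent.Lib.Solvable.Fitting
import Cfsg.Agent.Lib.Components.Centralize
import Cfsg.Agent.Lib.Coprime.Generation
import Cfsg.Agent.Lib.PGroup.UniqueOrderP
import Cfsg.Agent.Lib.Cores.Fitting
import Mathlib.GroupTheory.SpecificGroups.ZGroup

set_option autoImplicit false
open Cfsg

namespace Cfsg.Agent.S3215

theorem twoPow_odd {G : Type*} [Group G] {z : G} (h2 : ∃ k, orderOf z = 2 ^ k)
    (h : Odd (orderOf z)) : z = 1 := by
  obtain ⟨k, hk⟩ := h2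
  rcases k with - | k
  · exact orderOf_eq_one_iff.1 (by simpa using hk)
  · rw [hk, pow_succ] at h
    exact absurd ((even_two.mul_left (2 ^ k))) (Nat.not_even_iff_odd.2 h)

theorem odd_index_twoPow {a b : ℕ} (hd : a ∣ 2 ^ b) (ho : Odd a) : a = 1 :=
  Nat.Coprime.eq_one_of_dvd ((Nat.coprime_two_right.2 ho).pow_right b) hd

variable {H : Type*} [Group H] [Finite H]

theorem no_comm_invol (hsol : Group.IsSolvable H) (hO : Cfsg.oddCore H = ⊥)
    (hI : ∀ t : H, orderOf t = 2 → Cfsg.HasNormalPComplement 2 ↥(Subgroup.centralizer ({t} : Set H)))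
    {x u : H} (hx : Odd (orderOf x)) (hu : orderOf u = 2) (h : x * u = u * x) : x = 1 := by
  have := hsol
  have hY2 : IsPGroup 2 (Cfsg.pCore 2 H) := Cores.isPGroup_pCore 2 H
  have hIu := hI u hu
  set C := Subgroup.centralizer ({u} : Set H) with hC
  obtain ⟨P, M, hMn, hMP⟩ := hIu
  have hxC : x ∈ C := Subgroup.mem_centralizer_singleton_iff.2 h
  have hMidx : M.index = Nat.card (P : Subgroup C) := by
    have h1 := hMP.card_mul
    have h2 := M.card_mul_index
    exact Nat.eq_of_mul_eq_mul_left Nat.card_pos (h2.trans h1.symm)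
  have hMcard : Nat.card M = (P : Subgroup C).index := by
    have h1 := hMP.card_mul
    have h2 := (P : Subgroup C).card_mul_index
    rw [mul_comm] at h1
    exact Nat.eq_of_mul_eq_mul_left Nat.card_pos (h1.trans h2.symm)
  have hModd : Odd (Nat.card M) := by
    rw [hMcard, ← Nat.not_even_iff_odd, even_iff_two_dvd]
    exact P.not_dvd_index
  have hxM : (⟨x, hxC⟩ : C) ∈ M := by
    rw [← QuotientGroup.eq_one_iff]
    apply twoPow_odd
    · obtain ⟨n, hn⟩ := IsPGroup.iff_card.1 P.isPGroup'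
      have hd : orderOf ((⟨x, hxC⟩ : C) : C ⧸ M) ∣ 2 ^ n := by
        rw [← hn, ← hMidx, Subgroup.index_eq_card]; exact orderOf_dvd_natCard _
      obtain ⟨k, -, hk⟩ := (Nat.dvd_prime_pow Nat.prime_two).1 hd
      exact ⟨k, hk⟩
    · exact hx.of_dvd_nat ((orderOf_map_dvd (QuotientGroup.mk' M) _).trans
        (Subgroup.orderOf_mk x hxC).dvd)
  have hxY : x ∈ Subgroup.centralizer ((Cfsg.pCore 2 H : Subgroup H) : Set H) := by
    refine Components.mem_centralizer_of_mem_centralizer (p := 2) (P := Subgroup.zpowers u)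
      (IsPGroup.of_card (n := 1) (by rw [Nat.card_zpowers, hu, pow_one])) hY2
      (by rw [Subgroup.normalizer_eq_top_iff.2 (Cores.pCore_normal 2 H)]; exact le_top)
      (Nat.coprime_two_right.2 hx)
      (by rw [Subgroup.normalizer_eq_top_iff.2 (Cores.pCore_normal 2 H)]; trivial) ?_ ?_
    · intro z hz
      obtain ⟨k, rfl⟩ := Subgroup.mem_zpowers_iff.1 hz
      exact ((Commute.zpow_right (show Commute x u from h) k).eq).symm
    · intro y hy hyu
      have hyC : y ∈ C := Subgroup.mem_centralizer_singleton_iff.2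
        (hyu u (Subgroup.mem_zpowers u)).symm
      have hcM : (⟨x, hxC⟩ : C) * ⟨y, hyC⟩ * ⟨x, hxC⟩⁻¹ * ⟨y, hyC⟩⁻¹ ∈ M := by
        have := M.mul_mem hxM (hMn.conj_mem _ (M.inv_mem hxM) ⟨y, hyC⟩)
        convert this using 1
        simp only [mul_assoc]
      have hcY : x * y * x⁻¹ * y⁻¹ ∈ Cfsg.pCore 2 H :=
        (Cfsg.pCore 2 H).mul_mem ((Cores.pCore_normal 2 H).conj_mem y hy x)
          ((Cfsg.pCore 2 H).inv_mem hy)
      have h1 : x * y * x⁻¹ * y⁻¹ = 1 := by
        apply twoPow_odd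
        · obtain ⟨k, hk⟩ := IsPGroup.iff_orderOf.1 hY2 ⟨_, hcY⟩
          exact ⟨k, by rw [← hk, Subgroup.orderOf_mk]⟩
        · have hd := orderOf_dvd_natCard (⟨_, hcM⟩ : M)
          rw [Subgroup.orderOf_mk, ← Subgroup.orderOf_coe] at hd
          exact hModd.of_dvd_nat hd
      rwa [mul_inv_eq_one, mul_inv_eq_iff_eq_mul] at h1
  have hxY' := Solvable.centralizer_pCore_le_of_isSolvable (p := 2) hO hxY
  apply twoPow_odd _ hx
  obtain ⟨k, hk⟩ := IsPGroup.iff_orderOf.1 hY2 ⟨x, hxY'⟩
  exact ⟨k, by rw [← hk, Subgroup.orderOf_mk]⟩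

theorem no_comm_two (hsol : Group.IsSolvable H) (hO : Cfsg.oddCore H = ⊥)
    (hI : ∀ t : H, orderOf t = 2 → Cfsg.HasNormalPComplement 2 ↥(Subgroup.centralizer ({t} : Set H)))
    {x v : H} (hx : Odd (orderOf x)) (hx1 : x ≠ 1) (hv : ∃ k, orderOf v = 2 ^ k) (hv1 : v ≠ 1)
    (h : x * v = v * x) : False := by
  obtain ⟨k, hk⟩ := hv
  rcases k with - | k
  · exact hv1 (orderOf_eq_one_iff.1 (by simpa using hk))
  have hu : orderOf (v ^ 2 ^ k) = 2 := by
    rw [orderOf_pow' v (by positivity), hk, Nat.gcd_eq_right (pow_dvd_pow 2 (Nat.le_succ k)),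
      pow_succ, Nat.mul_div_cancel_left _ (by positivity)]
  exact hx1 (no_comm_invol hsol hO hI hx hu (Commute.pow_right (show Commute x v from h) _).eq)

theorem isCyclic_odd_p (hsol : Group.IsSolvable H) (hO : Cfsg.oddCore H = ⊥)
    (hI : ∀ t : H, orderOf t = 2 → Cfsg.HasNormalPComplement 2 ↥(Subgroup.centralizer ({t} : Set H)))
    {p : ℕ} [hp : Fact p.Prime] (X : Subgroup H) (hXodd : Odd (Nat.card X))
    (Q : Subgroup X) (hQ : IsPGroup p Q) : IsCyclic Q := by
  have := hsol
  rcases subsingleton_or_nontrivial Q with hs | hn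
  · infer_instance
  have hoddp : p ≠ 2 := by
    rintro rfl
    obtain ⟨n, hn0, hn⟩ := hQ.nontrivial_iff_card.1 hn
    have h2 : 2 ∣ Nat.card X := ((dvd_pow_self 2 hn0.ne').trans hn.symm.dvd).trans
      Q.card_subgroup_dvd_card
    exact Nat.not_even_iff_odd.2 hXodd (even_iff_two_dvd.2 h2)
  have hY2 : IsPGroup 2 (Cfsg.pCore 2 H) := Cores.isPGroup_pCore 2 H
  -- central element of order p
  have hcn : Nontrivial (Subgroup.center Q) := hQ.center_nontrivial
  obtain ⟨n, hn0, hncard⟩ := (hQ.to_subgroup (Subgroup.center Q)).nontrivial_iff_card.1 hcn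
  obtain ⟨z', hz'⟩ := exists_prime_orderOf_dvd_card' (G := Subgroup.center Q) p
    (hncard ▸ dvd_pow_self p hn0.ne')
  set z : Q := (z' : Q) with hzdef
  have hz : orderOf z = p := by rw [hzdef, Subgroup.orderOf_coe]; exact hz'
  have hkey : ∀ w : Q, w ^ p = 1 → w ∈ Subgroup.zpowers z := by
    intro w hw
    by_contra hwz
    let ι : Q →* H := X.subtype.comp Q.subtype
    have hι : Function.Injective ι := X.subtype_injective.comp Q.subtype_injective
    let A : Subgroup Q := Subgroup.closure {z, w}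
    have hzw : z * w = w * z := (Subgroup.mem_center_iff.1 z'.2 w).symm
    have : IsMulCommutative A := Subgroup.isMulCommutative_closure (by
      intro a ha b hb
      rcases ha with rfl | rfl <;> rcases hb with rfl | rfl
      · rfl
      · exact hzw
      · exact hzw.symm
      · rfl)
    have hzA : z ∈ A := Subgroup.subset_closure (Or.inl rfl)
    have hwA : w ∈ A := Subgroup.subset_closure (Or.inr rfl)
    have hAnc : ¬ IsCyclic A := by
      intro hc
      classical
      have := Fintype.ofFinite A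
      have h1 := IsCyclic.card_pow_eq_one_le (α := A) hp.out.pos
      let S : Finset A := insert ⟨w, hwA⟩
        (Finset.univ.filter fun a : A => (a : Q) ∈ Subgroup.zpowers z)
      have hS : S ⊆ Finset.univ.filter fun a : A => a ^ p = 1 := by
        intro a ha
        rw [Finset.mem_insert, Finset.mem_filter] at ha
        rw [Finset.mem_filter]
        refine ⟨Finset.mem_univ _, Subtype.ext ?_⟩
        rcases ha with rfl | ⟨-, ha⟩
        · exact hw
        · obtain ⟨k, hk⟩ := Subgroup.mem_zpowers_iff.1 ha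
          push_cast
          rw [← hk, ← zpow_natCast, zpow_comm, zpow_natCast, ← hz, pow_orderOf_eq_one, one_zpow]
      have hz1 : (Finset.univ.filter fun a : A => (a : Q) ∈ Subgroup.zpowers z).card = p := by
        rw [← Fintype.card_subtype, ← Nat.card_eq_fintype_card]
        have e : {a : A // (a : Q) ∈ Subgroup.zpowers z} ≃ Subgroup.zpowers z :=
          ⟨fun a => ⟨_, a.2⟩, fun b => ⟨⟨b, (Subgroup.zpowers_le.2 hzA) b.2⟩, b.2⟩,
            fun a => rfl, fun b => rfl⟩
        rw [Nat.card_congr e, Nat.card_zpowers, hz]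
      have h2 : S.card = p + 1 := by
        rw [Finset.card_insert_of_notMem (by simp [hwz]), hz1]
      have := (Finset.card_le_card hS).trans h1
      omega
    let A' : Subgroup H := A.map ι
    let e := A.equivMapOfInjective ι hι
    have : IsMulCommutative A' := A.map_isMulCommutative ι
    have hle : Cfsg.pCore 2 H ≤ ⊥ := by
      refine Coprime.le_of_noncyclic (A := A') (fun hc => hAnc ?_)
        (by rw [Subgroup.normalizer_eq_top_iff.2 (Cores.pCore_normal 2 H)]; exact le_top) ?_ ?_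
      · exact isCyclic_of_surjective e.symm e.symm.surjective
      · obtain ⟨k, hk⟩ := IsPGroup.iff_card.1 hY2
        obtain ⟨l, hl⟩ := IsPGroup.iff_card.1 ((hQ.to_subgroup A).map ι)
        rw [hk, hl]
        exact ((Nat.coprime_primes hp.out Nat.prime_two).2 hoddp).pow l k
      · rintro a ⟨a', ha', rfl⟩ ha1 y ⟨hy, hya⟩
        by_contra hy1
        obtain ⟨k, hk⟩ := IsPGroup.iff_orderOf.1 hY2 ⟨y, hy⟩
        refine no_comm_two hsol hO hI (x := ι a') (v := y) ?_ ha1
          ⟨k, by rw [← hk, Subgroup.orderOf_mk]⟩ hy1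
          (Subgroup.mem_centralizer_singleton_iff.1 hya).symm
        refine hXodd.of_dvd_nat ?_
        exact (orderOf_map_dvd X.subtype ((a' : Q) : X)).trans (orderOf_dvd_natCard _)
    have hbot := Solvable.centralizer_pCore_le_of_isSolvable (p := 2) (G := H) hO
    rw [le_bot_iff.1 hle] at hbot
    have hz1 : ι z ∈ Subgroup.centralizer ((⊥ : Subgroup H) : Set H) := by
      intro b hb
      rw [Subgroup.mem_bot.1 hb, one_mul, mul_one]
    have := Subgroup.mem_bot.1 (hbot hz1)
    rw [← map_one ι] at this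
    rw [hι this, orderOf_one] at hz
    exact hp.out.ne_one hz.symm
  refine (PGroup.unique_order_p_cases hQ fun x y hx hy => ?_).elim id
    fun h => absurd h.1 hoddp
  have hxz := hkey x (hx ▸ pow_orderOf_eq_one x)
  have he : Subgroup.zpowers x = Subgroup.zpowers z :=
    Subgroup.eq_of_le_of_card_ge (Subgroup.zpowers_le.2 hxz)
      (by rw [Nat.card_zpowers, Nat.card_zpowers, hx, hz])
  exact he ▸ hkey y hy

/-- Let H be a finite solvable group with no nontrivial normal subgroup of odd order in which the centralizer of every involution has a normal 2-complement. Let X be a Hall 2'-subgroup of H (odd order, index a power of 2) and Y = O₂(H). Then no non-identity element of X commutes with a non-identity element of Y (so for X ≠ 1 the group XY is a Frobenius group with kernel Y), every Sylow subgroup of X is cyclic, XY is normal in H, and H/XY is a cyclic 2-group. -/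
theorem result {H : Type*} [Group H] [Finite H] (hsol : Group.IsSolvable H)
    (hO : Cfsg.oddCore H = ⊥)
    (hI : ∀ t : H, orderOf t = 2 → Cfsg.HasNormalPComplement 2 ↥(Subgroup.centralizer ({t} : Set H)))
    (X : Subgroup H) (hXodd : Odd (Nat.card X)) (hXidx : ∃ k : ℕ, X.index = 2 ^ k) :
    (∀ x ∈ X, x ≠ 1 → ∀ y ∈ Cfsg.pCore 2 H, y ≠ 1 → x * y ≠ y * x) ∧
      (∀ (p : ℕ) [Fact p.Prime] (P : Sylow p ↥X), IsCyclic ↥(P : Subgroup ↥X)) ∧
      (X ⊔ Cfsg.pCore 2 H).Normal ∧
      ∀ hN : (X ⊔ Cfsg.pCore 2 H).Normal, IsCyclic (H ⧸ (X ⊔ Cfsg.pCore 2 H)) ∧ IsPGroup 2 (H ⧸ (X ⊔ Cfsg.pCore 2 H)) := by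
  have hY2 : IsPGroup 2 (Cfsg.pCore 2 H) := Cores.isPGroup_pCore 2 H
  set Y := Cfsg.pCore 2 H with hYdef
  have : Y.Normal := Cores.pCore_normal 2 H
  have hxo : ∀ x ∈ X, Odd (orderOf x) := fun x hx => hXodd.of_dvd_nat (by
    rw [← Subgroup.orderOf_mk x hx]; exact orderOf_dvd_natCard _)
  have hY2' : ∀ y ∈ Y, ∃ k, orderOf y = 2 ^ k := fun y hy => by
    obtain ⟨k, hk⟩ := IsPGroup.iff_orderOf.1 hY2 ⟨y, hy⟩
    exact ⟨k, by rw [← hk, Subgroup.orderOf_mk]⟩
  refine ⟨fun x hx hx1 y hy hy1 h => no_comm_two hsol hO hI (hxo x hx) hx1 (hY2' y hy) hy1 h,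
    fun p _ P => isCyclic_odd_p hsol hO hI X hXodd _ P.isPGroup', ?_⟩
  obtain ⟨k, hk⟩ := hXidx
  set π := QuotientGroup.mk' Y with hπ
  have hπs : Function.Surjective π := QuotientGroup.mk'_surjective Y
  set g : X →* H ⧸ Y := π.comp X.subtype with hg
  have hginj : Function.Injective g := by
    rw [injective_iff_map_eq_one]
    intro x hx
    have hxY : (x : H) ∈ Y := (QuotientGroup.eq_one_iff _).1 hx
    exact Subtype.ext (twoPow_odd (hY2' _ hxY) (hxo _ x.2))
  set Xb := X.map π with hXb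
  have hrange : g.range = Xb := by rw [hg, MonoidHom.range_comp, Subgroup.range_subtype]
  have hXbodd : Odd (Nat.card Xb) := hXodd.of_dvd_nat (Subgroup.card_map_dvd _ _)
  have hXbidx : Xb.index ∣ 2 ^ k := hk ▸ X.index_map_dvd hπs
  -- the Fitting subgroup of the quotient
  set F := Cfsg.fittingSubgroup (H ⧸ Y) with hF
  have hFn : F.Normal := Subgroup.sSup_normal _ fun _ h => h.1
  have hFodd : Odd (Nat.card F) := by
    obtain ⟨P⟩ : Nonempty (Sylow 2 F) := inferInstance
    have h0 := Cores.pCore_map_subtype F 2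
    rw [show Cfsg.pCore 2 (H ⧸ Y) = ⊥ from Cores.pCore_quotient_self 2 H, bot_inf_eq] at h0
    have hPn : (P : Subgroup F).Normal := inferInstance
    rw [Cores.pCore_eq_sylow P, Subgroup.map_eq_bot_iff_of_injective _ F.subtype_injective] at h0
    have := P.not_dvd_index
    rw [h0, Subgroup.index_bot] at this
    rwa [← Nat.not_even_iff_odd, even_iff_two_dvd]
  have hFX : F ≤ Xb := by
    have h1 : Xb.relIndex (Xb ⊔ F) ∣ 2 ^ k :=
      (Dvd.intro _ (Subgroup.relIndex_mul_index le_sup_left)).trans hXbidx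
    have h2 : Odd (Xb.relIndex (Xb ⊔ F)) := by
      refine (hXbodd.mul hFodd).of_dvd_nat ((?_ : _ ∣ Nat.card ↥(Xb ⊔ F)).trans
        (Cores.card_sup_dvd Xb F))
      exact Subgroup.relIndex_dvd_card Xb (Xb ⊔ F)
    exact le_sup_right.trans (Subgroup.relIndex_eq_one.1 (odd_index_twoPow h1 h2))
  have hXz : IsZGroup X := ⟨fun p hp P => by
    have : Fact p.Prime := ⟨hp⟩
    exact isCyclic_odd_p hsol hO hI X hXodd _ P.isPGroup'⟩
  have hgz : IsZGroup g.range :=
    IsZGroup.of_surjective (f := g.rangeRestrict) g.rangeRestrict_surjective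
  have hFz : IsZGroup F :=
    IsZGroup.of_injective (f := Subgroup.inclusion (hrange ▸ hFX : F ≤ g.range))
      (Subgroup.inclusion_injective _)
  have hFcyc : IsCyclic F := inferInstance
  have hCF : Subgroup.centralizer (F : Set (H ⧸ Y)) ≤ F := by
    have : Group.IsSolvable (H ⧸ Y) := solvable_of_surjective hπs
    exact Solvable.centralizer_fitting_le _
  have hcommF : commutator (H ⧸ Y) ≤ F := by
    let ψ : H ⧸ Y →* (ZMod (Nat.card F))ˣ :=
      (hFcyc.mulAutMulEquiv F).toMonoidHom.comp MulAut.conjNormal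
    refine (Abelianization.commutator_subset_ker ψ).trans fun a ha => hCF fun f hf => ?_
    have h1 : MulAut.conjNormal a = (1 : MulAut F) := by
      apply (hFcyc.mulAutMulEquiv F).injective
      rw [map_one]; exact ha
    have h2 := congrArg Subtype.val (DFunLike.congr_fun h1 ⟨f, hf⟩)
    rw [MulAut.conjNormal_apply] at h2
    simp only [MulAut.one_apply] at h2
    exact (mul_inv_eq_iff_eq_mul.1 h2).symm
  have hXbn : Xb.Normal := ⟨fun a ha b => by
    have h1 : b * a * b⁻¹ * a⁻¹ ∈ Xb := hFX (hcommF (Subgroup.commutator_mem_commutator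
      (Subgroup.mem_top b) (Subgroup.mem_top a)))
    simpa using Xb.mul_mem h1 ha⟩
  have hcomap : Xb.comap π = X ⊔ Y := by
    rw [hXb, Subgroup.comap_map_eq, hπ, QuotientGroup.ker_mk']
  refine ⟨hcomap ▸ hXbn.comap π, fun hN => ?_⟩
  -- at most one involution in a 2-subgroup
  have hinv : ∀ u : H ⧸ Y, orderOf u = 2 → ∀ f ∈ F, f ≠ 1 → u * f ≠ f * u := by
    intro u hu f hf hf1 huf
    obtain ⟨p, hp, hpd⟩ := Nat.exists_prime_and_dvd (fun h => hf1 (orderOf_eq_one_iff.1 h))
    have : Fact p.Prime := ⟨hp⟩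
    set f' := f ^ (orderOf f / p) with hf'
    have hf'o : orderOf f' = p := orderOf_pow_orderOf_div (orderOf_pos f).ne' hpd
    have huf' : u * f' = f' * u := (Commute.pow_right (show Commute u f from huf) _).eq
    obtain ⟨x, hx⟩ : f' ∈ g.range := hrange ▸ hFX (pow_mem hf _)
    have hxo' : orderOf x = p := by rw [← hf'o, ← hx, orderOf_injective g hginj]
    have hp2 : ¬ p ∣ 2 := fun h => by
      have h2 := (Nat.prime_dvd_prime_iff_eq hp Nat.prime_two).1 h
      have := hxo _ x.2
      rw [Subgroup.orderOf_coe, hxo', h2] at this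
      exact Nat.not_even_iff_odd.2 this even_two
    let α := {v : H // π v = u}
    obtain ⟨u0, hu0⟩ := hπs u
    have e : α ≃ Y :=
      { toFun := fun v => ⟨u0⁻¹ * v.1, by
          refine (QuotientGroup.eq_one_iff _).1 ?_
          change π (u0⁻¹ * v.1) = 1
          rw [map_mul, map_inv, hu0, v.2, inv_mul_cancel]⟩
        invFun := fun y => ⟨u0 * y, by
          rw [map_mul, hu0, show π (y : H) = 1 from (QuotientGroup.eq_one_iff _).2 y.2, mul_one]⟩
        left_inv := fun v => Subtype.ext (mul_inv_cancel_left _ _)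
        right_inv := fun y => Subtype.ext (inv_mul_cancel_left _ _) }
    have hxu : π (x : H) = f' := hx
    let σ : Equiv.Perm α := (MulAut.conj (x : H)).toEquiv.subtypeEquiv (fun v => by
      change π v = u ↔ π ((x : H) * v * (x : H)⁻¹) = u
      rw [map_mul, map_mul, map_inv, hxu, mul_inv_eq_iff_eq_mul, huf']
      exact mul_right_inj _ |>.symm)
    have hσpow : ∀ (m : ℕ) (v : α), ((σ ^ m) v).1 = (x : H) ^ m * v.1 * ((x : H) ^ m)⁻¹ := by
      intro m
      induction m with
      | zero => intro v; simp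
      | succ m ih =>
        intro v
        rw [pow_succ, Equiv.Perm.mul_apply, ih]
        change (x : H) ^ m * ((x : H) * v.1 * (x : H)⁻¹) * ((x : H) ^ m)⁻¹ = _
        group
    have hσ : σ ^ p ^ 1 = 1 := by
      refine Equiv.ext fun v => Subtype.ext ?_
      rw [hσpow, pow_one, ← hxo', ← Subgroup.orderOf_coe, pow_orderOf_eq_one]
      simp
    have := Fintype.ofFinite α
    obtain ⟨v, hv⟩ := Equiv.Perm.exists_fixed_point_of_prime (α := α) (by
      rw [← Nat.card_eq_fintype_card, Nat.card_congr e]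
      obtain ⟨n, hn⟩ := IsPGroup.iff_card.1 hY2
      rw [hn]
      exact fun h => hp2 (hp.dvd_of_dvd_pow h)) hσ
    have hv' : (x : H) * v.1 * (x : H)⁻¹ = v.1 := congrArg Subtype.val hv
    refine no_comm_two hsol hO hI (hxo _ x.2) ?_ ?_ ?_ (mul_inv_eq_iff_eq_mul.1 hv')
    · intro h
      rw [← Subgroup.orderOf_coe, h, orderOf_one] at hxo'
      exact hp.ne_one hxo'.symm
    · have hv2 : v.1 ^ 2 ∈ Y := by
        rw [← QuotientGroup.eq_one_iff]
        change π (v.1 ^ 2) = 1
        rw [map_pow, v.2, ← hu, pow_orderOf_eq_one]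
      obtain ⟨m, hm⟩ := hY2' _ hv2
      have hd : orderOf v.1 ∣ 2 ^ (m + 1) := orderOf_dvd_of_pow_eq_one (by
        rw [pow_succ', pow_mul, ← hm, pow_orderOf_eq_one])
      obtain ⟨j, -, hj⟩ := (Nat.dvd_prime_pow Nat.prime_two).1 hd
      exact ⟨j, hj⟩
    · intro h
      have := v.2
      rw [h, map_one] at this
      rw [← this, orderOf_one] at hu
      omega
  have huniq : ∀ u v : H ⧸ Y, orderOf u = 2 → orderOf v = 2 → u * v = v * u → u = v := by
    intro u v hu hv huv
    have hflip : ∀ w : H ⧸ Y, orderOf w = 2 → ∀ f ∈ F, w * f * w⁻¹ = f⁻¹ := by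
      intro w hw f hf
      have hwi : w⁻¹ = w := inv_eq_of_mul_eq_one_right (by
        rw [← pow_two, ← hw, pow_orderOf_eq_one])
      have hc : w * f * w⁻¹ ∈ F := hFn.conj_mem f hf w
      have hcomm : (w * f * w⁻¹) * f = f * (w * f * w⁻¹) := by
        let _ := hFcyc.commGroup
        exact congrArg Subtype.val (mul_comm (⟨_, hc⟩ : F) ⟨f, hf⟩)
      have hfix : w * ((w * f * w⁻¹) * f) = ((w * f * w⁻¹) * f) * w := by
        nth_rewrite 2 [hcomm]
        rw [hwi]
        have : w * w = 1 := by rw [← pow_two, ← hw, pow_orderOf_eq_one]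
        simp [← mul_assoc, this]
        simp [mul_assoc, this]
      by_contra hne
      exact hinv w hw _ (F.mul_mem hc hf) (fun h => hne (mul_eq_one_iff_eq_inv.1 h)) hfix
    have huvF : u * v ∈ F := hCF fun f hf => by
      have h1 : (u * v) * f * (u * v)⁻¹ = f := by
        have h2 := hflip v hv f hf
        calc (u * v) * f * (u * v)⁻¹ = u * (v * f * v⁻¹) * u⁻¹ := by group
          _ = u * f⁻¹ * u⁻¹ := by rw [h2]
          _ = f := by rw [hflip u hu _ (F.inv_mem hf), inv_inv]
      exact (mul_inv_eq_iff_eq_mul.1 h1).symm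
    have hsq : (u * v) ^ 2 = 1 := by
      have h1 : u ^ 2 = 1 := hu ▸ pow_orderOf_eq_one u
      have h2 : v ^ 2 = 1 := hv ▸ pow_orderOf_eq_one v
      rw [Commute.mul_pow (show Commute u v from huv), h1, h2, one_mul]
    have h1 : u * v = 1 := by
      have hd : orderOf (u * v) ∣ Nat.card F := by
        rw [← Subgroup.orderOf_mk _ huvF]; exact orderOf_dvd_natCard _
      have h3 := odd_index_twoPow (b := 1) (by rw [pow_one]; exact orderOf_dvd_of_pow_eq_one hsq)
        (hFodd.of_dvd_nat hd)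
      exact orderOf_eq_one_iff.1 h3
    rw [mul_eq_one_iff_eq_inv.1 h1]
    exact inv_eq_of_mul_eq_one_right (by rw [← pow_two, ← hv, pow_orderOf_eq_one])
  obtain ⟨S⟩ : Nonempty (Sylow 2 (H ⧸ Y)) := inferInstance
  have hSdisj : (S : Subgroup (H ⧸ Y)) ⊓ Xb = ⊥ := by
    rw [Subgroup.eq_bot_iff_forall]
    rintro a ⟨haS, haX⟩
    refine twoPow_odd ?_ (hXbodd.of_dvd_nat ?_)
    · obtain ⟨n, hn⟩ := IsPGroup.iff_orderOf.1 S.isPGroup' ⟨a, haS⟩
      exact ⟨n, by rw [← hn, Subgroup.orderOf_mk]⟩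
    · rw [← Subgroup.orderOf_mk a haX]; exact orderOf_dvd_natCard _
  have hScomm : ∀ a b : (S : Subgroup (H ⧸ Y)), a * b = b * a := by
    intro a b
    have h1 : (a : H ⧸ Y) * b * (a : H ⧸ Y)⁻¹ * (b : H ⧸ Y)⁻¹ ∈ (S : Subgroup (H ⧸ Y)) ⊓ Xb :=
      ⟨(a * b * a⁻¹ * b⁻¹).2, hFX (hcommF (Subgroup.commutator_mem_commutator
        (Subgroup.mem_top _) (Subgroup.mem_top _)))⟩
    rw [hSdisj, Subgroup.mem_bot, mul_inv_eq_one, mul_inv_eq_iff_eq_mul] at h1
    exact Subtype.ext h1
  obtain ⟨a, -, ha⟩ := PGroup.isCyclic_of_abelian_unique (G := (S : Subgroup (H ⧸ Y)))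
    S.isPGroup' (A := ⊤) (fun x _ y _ => hScomm x y) (fun x _ y _ hx hy => by
      by_cases hy1 : y = 1
      · exact hy1 ▸ one_mem _
      have := huniq x y (by rw [Subgroup.orderOf_coe]; exact hx)
        (by rw [Subgroup.orderOf_coe]; exact orderOf_eq_prime hy hy1)
        (congrArg Subtype.val (hScomm x y))
      rw [← Subtype.ext this]; exact Subgroup.mem_zpowers _)
  have hScyc : IsCyclic (S : Subgroup (H ⧸ Y)) :=
    ⟨⟨a, fun y => Subgroup.mem_zpowers_iff.1 (by rw [ha]; exact Subgroup.mem_top y)⟩⟩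
  have hSX : Xb ⊔ (S : Subgroup (H ⧸ Y)) = ⊤ := by
    rw [← Subgroup.index_eq_one]
    refine odd_index_twoPow ((Subgroup.index_dvd_of_le
      (le_sup_left : Xb ≤ Xb ⊔ (S : Subgroup (H ⧸ Y)))).trans hXbidx) ?_
    have hodd : Odd (S : Subgroup (H ⧸ Y)).index := by
      rw [← Nat.not_even_iff_odd, even_iff_two_dvd]
      exact S.not_dvd_index
    exact hodd.of_dvd_nat (Subgroup.index_dvd_of_le
      (le_sup_right : (S : Subgroup (H ⧸ Y)) ≤ Xb ⊔ (S : Subgroup (H ⧸ Y))))
  let q : H ⧸ Y →* H ⧸ (X ⊔ Y) :=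
    QuotientGroup.map Y (X ⊔ Y) (MonoidHom.id H) (by rw [Subgroup.comap_id]; exact le_sup_right)
  have hq : Function.Surjective (q.comp (S : Subgroup (H ⧸ Y)).subtype) := by
    intro c
    obtain ⟨h, rfl⟩ := QuotientGroup.mk'_surjective (X ⊔ Y) c
    have hh : π h ∈ Xb ⊔ (S : Subgroup (H ⧸ Y)) := hSX ▸ Subgroup.mem_top _
    obtain ⟨a, ha', b, hb, hab⟩ := Subgroup.mem_sup_of_normal_left.1 hh
    refine ⟨⟨b, hb⟩, ?_⟩
    obtain ⟨x, hx, rfl⟩ := ha'
    have h1 : q (π x) = 1 := (QuotientGroup.eq_one_iff x).2 (Subgroup.mem_sup_left hx)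
    change q b = q (π h)
    rw [← hab, map_mul, h1, one_mul]
  exact ⟨isCyclic_of_surjective _ hq, S.isPGroup'.of_surjective _ hq⟩

end Cfsg.Agent.S3215
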