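import Cfsg.Statements.S3216
import Cfsg.Agent.EqLemmas
import Cfsg.Agent.Lib.PSL2.Soluble
import Cfsg.Agent.Lib.TwoTimesPSL.Elementary
import Cfsg.Agent.Lib.TwoTimesPSL.Local
import Cfsg.Agent.Lib.TwoTimesPSL.Factor

set_option autoImplicit false
open Cfsg

namespace Cfsg.Agent.S3216

/-- Let G be a finite non-abelian simple group and t an involution of G; write C = C_G(t) and C̄ = C/O(C). If the subgroup of C̄ generated by its 2-elements (the smallest normal subgroup of C̄ of odd index) is isomorphic to Z₂ × PSL₂(q) for some prime power q > 3, then the Sylow 2-subgroups of G are elementary abelian of order 8. -/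
theorem result {G : Type*} [Group G] [Finite G] [IsSimpleGroup G]
    (hG : ¬ IsMulCommutative G) (t : G) (ht : orderOf t = 2) {F : Type*} [Field F] [Fintype F] (hF : 3 < Fintype.card F)
    (hL : Nonempty (↥(Subgroup.closure {x : (↥(Subgroup.centralizer ({t} : Set G)) ⧸ Cfsg.oddCore ↥(Subgroup.centralizer ({t} : Set G))) | ∃ k : ℕ, orderOf x = 2 ^ k}) ≃*
      (Multiplicative (ZMod 2) × Matrix.ProjectiveSpecialLinearGroup (Fin 2) F))) (S : Sylow 2 G) :
    Nat.card ↥(S : Subgroup G) = 8 ∧ ∀ x ∈ (S : Subgroup G), x ^ 2 = 1 := by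
  have h4 : 4 ≤ Nat.card F := by rw [Nat.card_eq_fintype_card]; omega
  haveI : IsSimpleGroup (PSL2.PSL2 F) := PSL2.isSimpleGroup_psl h4
  obtain ⟨e⟩ := hL
  obtain ⟨hns, ⟨n, k, E, A⟩ | ⟨m, z, D, A⟩⟩ := TwoTimesPSL.local_data (M := PSL2.PSL2 F) ht
    (PSL2.not_comm_psl (by omega)) (fun Q => TwoTimesPSL.sylow_cases (by omega) Q) e
    (TwoTimesPSL.noIndexTwo_of_simple hG)
  · exact A.eight hG (fun _ => hns) S
  · exact A.absurd.elim

end Cfsg.Agent.S3216
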