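import Cfsg.Statements.S3219
import Cfsg.Agent.Lib.TwoPointA5.Finals
import Cfsg.Agent.Lib.TwoPointA5.FinalsDeg
import Cfsg.Agent.S0984

set_option autoImplicit false
open Cfsg

namespace Cfsg.Agent.S3219

/-- Let G be a finite doubly transitive permutation group on a set Ω in which the stabilizer of two points is isomorphic to the alternating group A₄. Then Ω has 6 points and G ≅ A₆, or Ω has 15 points and G ≅ A₇, or Ω has 16 points and G is isomorphic to the group of all affine transformations of the affine plane over the field with 4 elements, or G = C_G(J)O(G) for some involution J of G, where O(G) is the largest normal subgroup of G of odd order. -/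
theorem result {G : Type*} [Group G] [Finite G] {Ω : Type*} [Fintype Ω] [MulAction G Ω] [FaithfulSMul G Ω]
    (h2 : MulAction.IsMultiplyPretransitive G Ω 2) (a b : Ω) (hab : a ≠ b)
    (e : ↥(MulAction.stabilizer G a ⊓ MulAction.stabilizer G b) ≃* ↥(alternatingGroup (Fin 4))) :
    (Fintype.card Ω = 6 ∧ Nonempty (G ≃* ↥(alternatingGroup (Fin 6)))) ∨ (Fintype.card Ω = 15 ∧ Nonempty (G ≃* ↥(alternatingGroup (Fin 7)))) ∨
      (Fintype.card Ω = 16 ∧ ∃ (F : Type) (_ : Field F) (_ : Fintype F), Fintype.card F = 4 ∧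
        Nonempty (G ≃* ((Fin 2 → F) ≃ᵃ[F] (Fin 2 → F)))) ∨
      (∃ J : G, orderOf J = 2 ∧ Subgroup.centralizer ({J} : Set G) ⊔ Cfsg.oddCore G = ⊤) := by
  open Cfsg.Agent.TwoPointA5 in
  (have t2 := t2_of_pretransitive h2
   obtain ⟨i, x, C⟩ := exists_ctx hab t2 (kdAll_four t2 hab e)
   rw [← Nat.card_eq_fintype_card]
   rcases Nat.even_or_odd (Nat.card Ω) with heven | hodd
   · rcases C.even_cases heven with ⟨-, hn, hG⟩ | ⟨-, hn, hG, hO, hs⟩ | ⟨h, -⟩ | ⟨-, hn, hG⟩
     · exact Or.inl ⟨hn, iso_alternating hn (by norm_num) (by rw [hG]; rfl)⟩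
     · exact Or.inr (Or.inr (Or.inl ⟨hn, affine16 C hn hG hO hs⟩))
     · omega
     · exact (false28 C hn hG).elim
   · rcases C.odd_cases hodd with h | ⟨h, -⟩ | ⟨-, hn, hG, hs⟩ | ⟨-, hn, hG, hN⟩
     · exact Or.inr (Or.inr (Or.inr (C.lam_one_conclusion hodd h)))
     · omega
     · haveI := simple_of_stab_simple h2 (by rw [hn, isPrimePow_nat_iff_bounded]; decide) (by omega) a hs
       exact Or.inr (Or.inl ⟨hn, Cfsg.Agent.S0984.result hG⟩)
     · exact (false91 C hn hG hN).elim)

end Cfsg.Agent.S3219
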