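import Cfsg.Statements.S3222
import Cfsg.Agent.Lib.SymSix.Fused
import Cfsg.Agent.S4337

set_option autoImplicit false
open Cfsg

namespace Cfsg.Agent.S3222

/-- Let G be a finite group of even order such that (1) some involution t lying in the centre of a Sylow 2-subgroup of G has C_G(t) ≅ Z₂ × S₄, and (2) every Sylow 2-subgroup S of G satisfies C_G(S′) = S, where S′ is the derived subgroup of S. Then G = C_G(t) if G is solvable, and G ≅ S₆ otherwise. -/
theorem result {G : Type*} [Group G] [Finite G] (hev : Even (Nat.card G))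
    (t : G) (ht : orderOf t = 2) (T : Sylow 2 G) (htT : t ∈ (T : Subgroup G)) (htc : ∀ s ∈ (T : Subgroup G), s * t = t * s)
    (e : ↥(Subgroup.centralizer ({t} : Set G)) ≃* (Multiplicative (ZMod 2) × Equiv.Perm (Fin 4)))
    (h2 : ∀ S : Sylow 2 G, Subgroup.centralizer ((⁅(S : Subgroup G), (S : Subgroup G)⁆ : Subgroup G) : Set G) = (S : Subgroup G)) :
    (Group.IsSolvable G → Subgroup.centralizer ({t} : Set G) = ⊤) ∧
      (¬ Group.IsSolvable G → Nonempty (G ≃* Equiv.Perm (Fin 6))) := by
  haveI := hev; haveI := htT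
  obtain ⟨h, hht⟩ := SymSix.exists_hyp t ht T htc e h2
  change h.t = t at hht
  have hns : Nonempty (G ≃* Equiv.Perm (Fin 6)) → ¬ Group.IsSolvable G := by
    rintro ⟨φ⟩ hsol
    haveI := hsol
    exact Equiv.Perm.not_solvable (Fin 6) (by simp; norm_num) (solvable_of_surjective (f := φ.toMonoidHom) φ.surjective)
  by_cases h0 : IsConj h.t (h.f (SymSix.sw 0 2))
  · exact ⟨fun hs => absurd hs (hns (h.iso h0)), fun _ => h.iso h0⟩
  by_cases h1 : IsConj h.t (h.f (SymSix.τ * SymSix.sw 0 2))
  · have h1' : IsConj h.twist.t (h.twist.f (SymSix.sw 0 2)) := by rwa [h.twist_t, h.twist_sw]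
    exact ⟨fun hs => absurd hs (hns (h.twist.iso h1')), fun _ => h.twist.iso h1'⟩
  have hall := h.isolated_case h0 h1
  have htop : Subgroup.centralizer ({t} : Set G) = ⊤ := by
    rw [eq_top_iff]
    intro g _
    rw [Subgroup.mem_centralizer_singleton_iff, ← hht]
    exact hall g
  refine ⟨fun _ => htop, fun hns' => absurd ?_ hns'⟩
  haveI : Group.IsSolvable (Equiv.Perm (Fin 4)) := S4337.perm4_solvable
  haveI : Group.IsSolvable (Multiplicative (ZMod 2) × Equiv.Perm (Fin 4)) := inferInstance
  exact solvable_of_surjective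
    (f := ((MulEquiv.subgroupCongr htop).trans Subgroup.topEquiv).toMonoidHom.comp e.symm.toMonoidHom)
    (((MulEquiv.subgroupCongr htop).trans Subgroup.topEquiv).surjective.comp e.symm.surjective)

end Cfsg.Agent.S3222
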