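import Cfsg.Statements.S3239
import Cfsg.Agent.EqLemmas
import Cfsg.Agent.Lib.J1Closure.Main

set_option autoImplicit false
open Cfsg

namespace Cfsg.Agent.S3239

/-- Let t be an involution of a finite group G lying in the centre of a Sylow 2-subgroup of G, and suppose the weak closure of t in C_G(t) — the subgroup generated by all G-conjugates of t that commute with t — is isomorphic to Z₂ × A₅. Then the normal closure ⟨t^G⟩ of t in G is isomorphic to the first Janko group J₁. -/
theorem result {G : Type*} [Group G] [Finite G]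
    (t : G) (ht : orderOf t = 2) (S : Sylow 2 G) (htS : t ∈ (S : Subgroup G)) (htc : ∀ s ∈ (S : Subgroup G), s * t = t * s)
    (hW : Nonempty (↥(Subgroup.closure {x : G | ∃ g : G, x = g * t * g⁻¹ ∧ x * t = t * x}) ≃*
      (Multiplicative (ZMod 2) × ↥(alternatingGroup (Fin 5))))) :
    Cfsg.Spor.IsoJ1 ↥(Subgroup.normalClosure ({t} : Set G)) := by
  have : Fact (Nat.Prime 2) := ⟨Nat.prime_two⟩
  refine J1Closure.Hyp.isoJ1 ⟨ht, ?_, ?_⟩
  · have e : J1Closure.Wt t = Subgroup.closure {x : G | ∃ g : G, x = g * t * g⁻¹ ∧ x * t = t * x} := by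
      unfold J1Closure.Wt
      congr 1
      ext x
      constructor
      · rintro ⟨hx, hc⟩
        obtain ⟨g, rfl⟩ := isConj_iff.mp hx
        exact ⟨g, rfl, hc.eq⟩
      · rintro ⟨g, rfl, hc⟩
        exact ⟨isConj_iff.mpr ⟨g, rfl⟩, hc⟩
    rw [e]
    exact hW
  · have hidx : (Subgroup.centralizer ({t} : Set G)).index = Nat.card {x : G // IsConj t x} := by
      have h2 : (Subgroup.centralizer ({t} : Set G)).index = (MulAction.orbit (ConjAct G) t).ncard := by
        rw [← MulAction.index_stabilizer, ConjAct.stabilizer_eq_centralizer]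
        rfl
      rw [h2, ← Nat.card_coe_set_eq]
      exact Nat.card_congr (Equiv.subtypeEquivRight fun x => by
        show x ∈ MulAction.orbit (ConjAct G) t ↔ _
        rw [ConjAct.mem_orbit_conjAct]
        exact isConj_comm)
    have hS : (S : Subgroup G) ≤ Subgroup.centralizer ({t} : Set G) := fun s hs =>
      Subgroup.mem_centralizer_singleton_iff.mpr (htc s hs)
    rw [← hidx]
    exact fun hd => S.not_dvd_index (hd.trans (Subgroup.index_dvd_of_le hS))

end Cfsg.Agent.S3239
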