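import Cfsg.Statements.S3240
import Cfsg.Agent.Lib.SelfCentSuzuki.Main

set_option autoImplicit false
open Cfsg

namespace Cfsg.Agent.S3240

/-- Call a subgroup A of a finite group G strongly self-centralizing if C_G(a) = A for every non-identity a ∈ A. Let G be a finite non-abelian simple group with three pairwise non-conjugate strongly self-centralizing subgroups A₁, A₂, A₃ with [N_G(A₁) : A₁] = 2, [N_G(A₂) : A₂] = [N_G(A₃) : A₃] = 4, |A₁| = n₁ ≥ 5, |A₂| = n₂ > 5, |A₃| = n₃ > 5, such that |G| ≤ 3 n₁² n₂² n₃² and the Sylow r-subgroups of G are abelian for every odd prime r not dividing n₁n₂n₃. Then G is isomorphic to a Suzuki group. -/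
theorem result {G : Type*} [Group G] [Finite G] [IsSimpleGroup G] (hG : ¬ IsMulCommutative G)
    (A₁ A₂ A₃ : Subgroup G)
    (hsc : ∀ A ∈ ({A₁, A₂, A₃} : Set (Subgroup G)), ∀ a ∈ A, a ≠ 1 → Subgroup.centralizer ({a} : Set G) = A)
    (hnc : ∀ g : G, A₁.map (MulAut.conj g).toMonoidHom ≠ A₂ ∧ A₁.map (MulAut.conj g).toMonoidHom ≠ A₃ ∧ A₂.map (MulAut.conj g).toMonoidHom ≠ A₃)
    (h₁ : A₁.relIndex (Subgroup.normalizer (A₁ : Set G)) = 2) (h₂ : A₂.relIndex (Subgroup.normalizer (A₂ : Set G)) = 4)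
    (h₃ : A₃.relIndex (Subgroup.normalizer (A₃ : Set G)) = 4)
    (hn₁ : 5 ≤ Nat.card ↥A₁) (hn₂ : 5 < Nat.card ↥A₂) (hn₃ : 5 < Nat.card ↥A₃)
    (hord : Nat.card G ≤ 3 * Nat.card ↥A₁ ^ 2 * Nat.card ↥A₂ ^ 2 * Nat.card ↥A₃ ^ 2)
    (hab : ∀ r : ℕ, r.Prime → r ≠ 2 → ¬ r ∣ Nat.card ↥A₁ * Nat.card ↥A₂ * Nat.card ↥A₃ →
      ∀ P : Sylow r G, IsMulCommutative ↥(P : Subgroup G)) :
    Cfsg.Lie.IsoSuzuki G := by
  classical
  haveI := Fintype.ofFinite G
  have hnc' : ∃ a b : G, a * b ≠ b * a := by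
    by_contra h
    push Not at h
    exact hG ⟨⟨h⟩⟩
  -- conjugate elements give conjugate subgroups
  have key : ∀ A ∈ ({A₁, A₂, A₃} : Set (Subgroup G)), ∀ B ∈ ({A₁, A₂, A₃} : Set (Subgroup G)),
      (∀ g : G, A.map (MulAut.conj g).toMonoidHom ≠ B) →
      ∀ a ∈ A, a ≠ 1 → ∀ x ∈ B, ¬ IsConj a x := by
    intro A hA B hB hne a ha ha1 x hx hc
    obtain ⟨g, rfl⟩ := isConj_iff.1 hc
    refine hne g ?_
    have h1 : g * a * g⁻¹ ≠ 1 := fun e => ha1 (conj_eq_one_iff.1 e)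
    rw [← hsc A hA a ha ha1, ← hsc B hB _ hx h1]
    ext z
    constructor
    · rintro ⟨z, hz, rfl⟩
      show g * z * g⁻¹ ∈ _
      rw [Subgroup.mem_centralizer_singleton_iff, conj_mul, conj_mul,
        Subgroup.mem_centralizer_singleton_iff.1 hz]
    · intro hz
      refine ⟨g⁻¹ * z * g, ?_, by simp [mul_assoc]⟩
      rw [SetLike.mem_coe, Subgroup.mem_centralizer_singleton_iff]
      calc g⁻¹ * z * g * a = g⁻¹ * (z * (g * a * g⁻¹)) * g := by group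
        _ = g⁻¹ * ((g * a * g⁻¹) * z) * g := by rw [Subgroup.mem_centralizer_singleton_iff.1 hz]
        _ = _ := by group
  have H : Cfsg.Agent.SelfCent.Ctx A₁ A₂ A₃ :=
    ⟨⟨hsc _ (by simp), h₁, hn₁, Or.inl rfl⟩, ⟨hsc _ (by simp), h₂, hn₂.le, Or.inr rfl⟩,
      ⟨hsc _ (by simp), h₃, hn₃.le, Or.inr rfl⟩, hn₂, hn₃,
      key _ (by simp) _ (by simp) fun g => (hnc g).1, key _ (by simp) _ (by simp) fun g => (hnc g).2.1,
      key _ (by simp) _ (by simp) fun g => (hnc g).2.2⟩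
  exact Cfsg.Agent.SelfCent.isoSuzuki hnc' H (hord.trans_eq (by ring)) hab

end Cfsg.Agent.S3240
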