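import Cfsg.Statements.S3243
import Cfsg.Agent.S3331
import Cfsg.Agent.Lib.SelfCentSix.LayerCase
import Cfsg.Agent.Lib.SelfCentSix.LinCase
import Cfsg.Agent.EqLemmas

set_option autoImplicit false
open Cfsg

namespace Cfsg.Agent.S3243

open Subgroup SelfCentSix

/-- Let G be a finite non-abelian simple group with a single conjugacy class of involutions containing an element t of order 6 with C_G(t) = ⟨t⟩. Then G is isomorphic to L₂(11), L₂(13), L₃(3), the Mathieu group M₁₁, or the Janko group J₁. -/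
theorem result {G : Type*} [Group G] [Finite G] [IsSimpleGroup G]
    (hG : ¬ IsMulCommutative G) (h1 : ∀ x y : G, orderOf x = 2 → orderOf y = 2 → IsConj x y)
    (t : G) (ht : orderOf t = 6) (hC : Subgroup.centralizer ({t} : Set G) = Subgroup.zpowers t) :
    (∃ (F : Type) (_ : Field F) (_ : Fintype F), (Fintype.card F = 11 ∨ Fintype.card F = 13) ∧
        Nonempty (G ≃* Matrix.ProjectiveSpecialLinearGroup (Fin 2) F)) ∨
      (∃ (F : Type) (_ : Field F) (_ : Fintype F), Fintype.card F = 3 ∧ Nonempty (G ≃* Matrix.ProjectiveSpecialLinearGroup (Fin 3) F)) ∨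
      Cfsg.Spor.IsoM11 G ∨ Cfsg.Spor.IsoJ1 G := by
  have hu : orderOf (t ^ 3) = 2 := by
    rw [orderOf_pow_of_dvd (by norm_num) (by rw [ht]; norm_num), ht]
  have hx : orderOf (t ^ 2) = 3 := by
    rw [orderOf_pow_of_dvd (by norm_num) (by rw [ht]; norm_num), ht]
  have h : Hyp (t ^ 3) (t ^ 2) := by
    refine ⟨inferInstance, hG, h1, hu, hx, Commute.pow_pow_self t 3 2, fun g hg3 hg2 => ?_⟩
    have hgt : Commute g t := by
      have e := hg3.mul_right hg2.inv_right
      rwa [show t ^ 3 * (t ^ 2)⁻¹ = t by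
        rw [mul_inv_eq_iff_eq_mul, ← pow_succ']] at e
    have hg : g ∈ zpowers t := by
      rw [← hC]
      exact mem_centralizer_singleton_iff.2 hgt
    obtain ⟨i, rfl⟩ := mem_zpowers_iff.1 hg
    refine ⟨(t ^ 3) ^ i, zpow_mem (mem_zpowers _) i, (t ^ 2) ^ (-i), zpow_mem (mem_zpowers _) _, ?_⟩
    simp only [← zpow_natCast, ← zpow_mul, ← zpow_add]
    congr 1
    push_cast
    ring
  rcases S3331.main h.sc with ⟨N, hN, hnil, hco, hq⟩ | ⟨N, hN, -, hN2, ⟨e⟩⟩ | ⟨⟨e⟩⟩
  · have h3 : ¬ 3 ∣ Nat.card N := Nat.prime_three.coprime_iff_not_dvd.1 hco.symm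
    rcases hq with hq | hq
    · exact (h.layer_three N hnil h3 hq).elim
    · rcases h.layer_six N hnil h3 hq with e | e | e
      · exact Or.inl e
      · exact Or.inr (Or.inl e)
      · exact Or.inr (Or.inr (Or.inl e))
  · exact Or.inr (Or.inr (Or.inr (h.alt_five N hN2 e)))
  · exact (h.psl_seven e).elim

end Cfsg.Agent.S3243
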