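import Cfsg.Statements.S3246
import Cfsg.Agent.EqLemmas
import Cfsg.Agent.Lib.Constrained.Basic
import Cfsg.Agent.Lib.PGroup.Basic
import Cfsg.Agent.Lib.Involution.Basic

set_option autoImplicit false
open Cfsg

namespace Cfsg.Agent.S3246

open Constrained in
theorem isCharP_of_maximal {G : Type*} [Group G] [Finite G] {t : G} (ht : orderOf t = 2)
    (h : ∀ M : Subgroup G, Cfsg.IsMaximalTwoLocal M → Cfsg.IsPConstrained 2 ↥M ∧ Cfsg.oddCore ↥M = ⊥) :
    IsCharP 2 ↥(Subgroup.centralizer ({t} : Set G)) := by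
  set T := Subgroup.zpowers t with hT
  have hTp : IsPGroup 2 ↥T := IsPGroup.of_card (n := 1) (by rw [hT, Nat.card_zpowers, ht, pow_one])
  have hTne : T ≠ ⊥ := fun h => Involution.ne_one ht (Subgroup.zpowers_eq_bot.mp h)
  obtain ⟨M, hle, hmax⟩ := (Set.toFinite {M : Subgroup G | Cfsg.IsTwoLocal M}).exists_le_maximal
    (a := Subgroup.normalizer (T : Set G)) ⟨T, hTp, hTne, rfl⟩
  obtain ⟨h1, h2⟩ := h M ⟨hmax.1, fun N hN hMN => le_antisymm (hmax.2 hN hMN) hMN⟩
  have hcen : Subgroup.centralizer ({t} : Set G) ≤ M := by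
    refine le_trans (fun g hg => ?_) hle
    apply Subgroup.centralizer_le_normalizer
    rwa [hT, Subgroup.zpowers_eq_closure, Subgroup.centralizer_closure]
  have hchar : IsCharP 2 ↥M := isCharP_iff.mpr ⟨h1, h2⟩
  have htM : t ∈ M := hle (Subgroup.le_normalizer (Subgroup.mem_zpowers t))
  have hC : IsCharP 2 ↥((Subgroup.centralizer ({t} : Set G)).subgroupOf M) := by
    refine hchar.of_le (T := T.subgroupOf M) hTp.comap_subtype ?_ (Or.inl ?_) ?_
    · intro g hg
      refine Coprime.mem_normalizer_of_forall fun u hu => ?_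
      rw [Subgroup.mem_subgroupOf] at hu hg ⊢
      obtain ⟨k, hk⟩ := Subgroup.mem_zpowers_iff.mp hu
      have hc : (g : G) * (u : G) * (g : G)⁻¹ = u := by
        rw [← hk, (show Commute (g : G) t from Subgroup.mem_centralizer_singleton_iff.mp hg).zpow_right k |>.eq,
          mul_inv_cancel_right]
      simp only [Subgroup.coe_mul, Subgroup.coe_inv, hc]
      exact hu
    · intro u hu
      rw [Subgroup.mem_subgroupOf] at hu ⊢
      obtain ⟨k, hk⟩ := Subgroup.mem_zpowers_iff.mp hu
      rw [← hk]
      exact zpow_mem (Subgroup.mem_centralizer_singleton_iff.mpr rfl) k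
    · intro u hu
      rw [Subgroup.mem_subgroupOf]
      exact Subgroup.mem_centralizer_singleton_iff.mpr
        (congrArg Subtype.val (Subgroup.mem_centralizer_iff.mp hu.2 ⟨t, htM⟩ (Subgroup.mem_zpowers t))).symm
  exact isCharP_congr (Subgroup.subgroupOfEquivOfLe hcen) hC

/-- An odd subgroup of a group of characteristic 2 normalized by a 2-subgroup `P` with
`|O_2 : P ∩ O_2| ≤ 2` is trivial. -/
theorem eq_bot_of_normalized {H : Type*} [Group H] [Finite H] (hH : Constrained.IsCharP 2 H)
    {P Y : Subgroup H} (hY : Odd (Nat.card ↥Y)) (hPY : P ≤ Subgroup.normalizer (Y : Set H))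
    (hidx : P.relIndex (Cfsg.pCore 2 H) ≤ 2) : Y = ⊥ := by
  set Q := Cfsg.pCore 2 H with hQ
  have hQn : Q.Normal := Cores.pCore_normal 2 H
  have hQp : IsPGroup 2 ↥Q := Cores.isPGroup_pCore 2 H
  have hodd : ∀ y ∈ Y, ∀ w ∈ Q, w = y → w = 1 := by
    intro y hy w hw hwy
    obtain ⟨k, hk⟩ := hQp ⟨w, hw⟩
    have h1 : orderOf w ∣ 2 ^ k := orderOf_dvd_of_pow_eq_one (congrArg Subtype.val hk)
    have h2 : orderOf w ∣ Nat.card ↥Y := hwy ▸ Subgroup.orderOf_dvd_natCard Y hy
    exact orderOf_eq_one_iff.mp
      (Nat.eq_one_of_dvd_coprimes ((Nat.coprime_two_left.mpr hY).pow_left k) h1 h2)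
  have hcomm : ∀ y ∈ Y, ∀ w ∈ Q, w ∈ P → y * w = w * y := by
    intro y hy w hw hwP
    have h1 : y * w * y⁻¹ * w⁻¹ ∈ Y := by
      have := mul_mem hy ((Subgroup.mem_normalizer_iff.mp (hPY hwP) _).mp (inv_mem hy))
      simpa [mul_assoc] using this
    have h2 : y * w * y⁻¹ * w⁻¹ ∈ Q := mul_mem (hQn.conj_mem w hw y) (inv_mem hw)
    have h3 := hodd _ h1 _ h2 rfl
    rwa [mul_inv_eq_one, mul_inv_eq_iff_eq_mul] at h3
  rw [eq_bot_iff]
  intro y hy
  have hyC : y ∈ Subgroup.centralizer (Q : Set H) := by
    refine Subgroup.mem_centralizer_iff.mpr fun w hw => (?_ : w * y = y * w)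
    by_cases hwP : w ∈ P
    · exact (hcomm y hy w hw hwP).symm
    · have h2 : (P.subgroupOf Q).index = 2 := by
        have h1 : (P.subgroupOf Q).index ≠ 1 := fun h =>
          hwP (Subgroup.relIndex_eq_one.mp h hw)
        have h0 : (P.subgroupOf Q).index ≠ 0 := Subgroup.index_ne_zero_of_finite
        have : P.relIndex Q = (P.subgroupOf Q).index := rfl
        omega
      set w' := y * w * y⁻¹ with hw'
      have hw'Q : w' ∈ Q := hQn.conj_mem w hw y
      have hw'P : w' ∉ P := by
        intro h
        have h5 := hcomm y hy w' hw'Q h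
        rw [hw', ← mul_assoc, ← mul_assoc] at h5
        have : y * w * y⁻¹ = w := by
          have h6 : y * (y * w * y⁻¹) * y⁻¹ = y * w * y⁻¹ := by
            rw [show y * (y * w * y⁻¹) = y * y * w * y⁻¹ by group, h5]; group
          calc y * w * y⁻¹ = y⁻¹ * (y * (y * w * y⁻¹) * y⁻¹) * y := by group
            _ = y⁻¹ * (y * w * y⁻¹) * y := by rw [h6]
            _ = w := by group
        exact hwP (this ▸ h)
      have hr : w⁻¹ * w' ∈ P := by
        have := (Subgroup.mul_mem_iff_of_index_two h2 (a := (⟨w, hw⟩ : ↥Q)⁻¹) (b := ⟨w', hw'Q⟩)).mpr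
          (iff_of_false (by simpa [Subgroup.mem_subgroupOf] using hwP)
            (by simpa [Subgroup.mem_subgroupOf] using hw'P))
        simpa [Subgroup.mem_subgroupOf] using this
      set r := w⁻¹ * w' with hrdef
      have hrQ : r ∈ Q := mul_mem (inv_mem hw) hw'Q
      have hyr : y * r = r * y := hcomm y hy r hrQ hr
      have hiter : ∀ m : ℕ, y ^ m * w * (y ^ m)⁻¹ = w * r ^ m := by
        intro m
        induction m with
        | zero => simp
        | succ m ih =>
          calc y ^ (m + 1) * w * (y ^ (m + 1))⁻¹ = y * (y ^ m * w * (y ^ m)⁻¹) * y⁻¹ := by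
                rw [pow_succ']; group
            _ = (y * w * y⁻¹) * (y * r ^ m * y⁻¹) := by rw [ih]; group
            _ = w * r * r ^ m := by
                rw [(Commute.pow_right hyr m).eq, mul_inv_cancel_right, hrdef, hw']; group
            _ = w * r ^ (m + 1) := by rw [mul_assoc, ← pow_succ']
      have h4 : r ^ orderOf y = 1 := by
        have := hiter (orderOf y)
        rw [pow_orderOf_eq_one] at this
        simpa using this.symm
      obtain ⟨k, hk⟩ := hQp ⟨r, hrQ⟩
      have h5 : orderOf r ∣ 2 ^ k := orderOf_dvd_of_pow_eq_one (congrArg Subtype.val hk)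
      have h6 : orderOf r ∣ Nat.card ↥Y :=
        (orderOf_dvd_of_pow_eq_one h4).trans (Subgroup.orderOf_dvd_natCard Y hy)
      have hr1 : r = 1 := orderOf_eq_one_iff.mp
        (Nat.eq_one_of_dvd_coprimes ((Nat.coprime_two_left.mpr hY).pow_left k) h5 h6)
      rw [hrdef, inv_mul_eq_one, hw', eq_mul_inv_iff_mul_eq] at hr1
      exact hr1
  exact hodd y hy y (hH hyC) rfl

/-- Let G be a finite group whose Sylow 2-subgroup S has a self-centralizing normal subgroup of rank at least 3. Suppose that either every maximal 2-local subgroup of G is 2-constrained with no nontrivial normal subgroup of odd order, or the centralizer of every involution of G is 2-constrained with no nontrivial normal subgroup of odd order. Then S normalizes no nontrivial subgroup of G of odd order and every 2-local subgroup of G is 2-constrained. -/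
theorem result {G : Type*} [Group G] [Finite G]
    (S : Sylow 2 G) (A : Subgroup G) (hA : Cfsg.IsSCN (S : Subgroup G) A) (hA3 : ¬ Cfsg.PRankLE 2 2 ↥A)
    (h : (∀ M : Subgroup G, Cfsg.IsMaximalTwoLocal M → Cfsg.IsPConstrained 2 ↥M ∧ Cfsg.oddCore ↥M = ⊥) ∨
      (∀ t : G, orderOf t = 2 → Cfsg.IsPConstrained 2 ↥(Subgroup.centralizer ({t} : Set G)) ∧
        Cfsg.oddCore ↥(Subgroup.centralizer ({t} : Set G)) = ⊥)) :
    (∀ X : Subgroup G, Odd (Nat.card ↥X) → (S : Subgroup G) ≤ Subgroup.normalizer (X : Set G) → X = ⊥) ∧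
      (∀ T : Subgroup G, IsPGroup 2 ↥T → T ≠ ⊥ → Cfsg.IsPConstrained 2 ↥(Subgroup.normalizer (T : Set G))) := by
  classical
  have hcen : ∀ t : G, orderOf t = 2 → Constrained.IsCharP 2 ↥(Subgroup.centralizer ({t} : Set G)) := by
    intro t ht
    rcases h with h | h
    · exact isCharP_of_maximal ht h
    · exact Constrained.isCharP_iff.mpr (h t ht)
  refine ⟨?_, ?_⟩
  · intro X hX hSX
    -- centralizer in X of an involution u with index of C_S(u) at most two is trivial
    have hkill : ∀ u : G, orderOf u = 2 →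
        Nat.card ↥(S : Subgroup G) ≤ 2 * Nat.card ↥((S : Subgroup G) ⊓ Subgroup.centralizer ({u} : Set G) : Subgroup G) →
        X ⊓ Subgroup.centralizer ({u} : Set G) = ⊥ := by
      intro u hu hcard
      set H := Subgroup.centralizer ({u} : Set G) with hH
      set P := (S : Subgroup G).subgroupOf H with hP
      set Q := Cfsg.pCore 2 ↥H with hQ
      have hY : Odd (Nat.card ↥(X.subgroupOf H)) := by
        rw [← Cores.card_map_subtype, Subgroup.subgroupOf_map_subtype]
        exact hX.of_dvd_nat (Subgroup.card_dvd_of_le inf_le_left)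
      have hPY : P ≤ Subgroup.normalizer (X.subgroupOf H : Set ↥H) := by
        intro g hg
        refine Coprime.mem_normalizer_of_forall fun y hy => ?_
        rw [Subgroup.mem_subgroupOf] at hy ⊢
        simpa using (Subgroup.mem_normalizer_iff.mp (hSX hg) _).mp hy
      have hPcard : Nat.card ↥P = Nat.card ↥((S : Subgroup G) ⊓ H : Subgroup G) := by
        rw [← Cores.card_map_subtype, Subgroup.subgroupOf_map_subtype]
      have hidx : P.relIndex Q ≤ 2 := by
        haveI : Q.Normal := Cores.pCore_normal 2 ↥H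
        have hR : IsPGroup 2 ↥(P ⊔ Q) :=
          S.isPGroup'.comap_subtype.to_sup_of_normal_right (Cores.isPGroup_pCore 2 ↥H)
        obtain ⟨S', hS'⟩ := (hR.map H.subtype).exists_le_sylow
        have hRle : Nat.card ↥(P ⊔ Q) ≤ Nat.card ↥(S : Subgroup G) := by
          rw [← Cores.card_map_subtype, Sylow.card_eq_multiplicity S, ← Sylow.card_eq_multiplicity S']
          exact Subgroup.card_le_of_le hS'
        have h1 : Nat.card ↥(P.subgroupOf (P ⊔ Q)) * P.relIndex (P ⊔ Q) = Nat.card ↥(P ⊔ Q) :=
          Subgroup.card_mul_index _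
        rw [Cores.card_subgroupOf le_sup_left] at h1
        have h2 : P.relIndex (P ⊔ Q) ≤ 2 := by
          rw [← hPcard] at hcard
          have hpos : 0 < Nat.card ↥P := Nat.card_pos
          by_contra h3
          have := Nat.mul_le_mul_left (Nat.card ↥P) (show 3 ≤ P.relIndex (P ⊔ Q) by omega)
          omega
        refine le_trans (Nat.le_of_dvd ?_ ?_) h2
        · exact Nat.pos_of_ne_zero Subgroup.index_ne_zero_of_finite
        · exact dvd_of_eq (by
            have e1 := Subgroup.card_mul_index (P.subgroupOf Q)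
            have e2 : Nat.card ↥(Q.subgroupOf (P ⊔ Q)) * Q.relIndex (P ⊔ Q) = Nat.card ↥(P ⊔ Q) :=
              Subgroup.card_mul_index _
            rw [Cores.card_subgroupOf le_sup_right, Subgroup.relIndex_sup_right] at e2
            have e3 := Subgroup.card_mul_index (Q.subgroupOf P)
            have e4 : Nat.card ↥(P.subgroupOf Q) = Nat.card ↥(Q.subgroupOf P) := by
              rw [← Cores.card_map_subtype Q (P.subgroupOf Q), ← Cores.card_map_subtype P (Q.subgroupOf P),
                Subgroup.subgroupOf_map_subtype, Subgroup.subgroupOf_map_subtype, inf_comm]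
            have hp1 : 0 < Nat.card ↥(Q.subgroupOf P) := Nat.card_pos
            have hp2 : 0 < Nat.card ↥P := Nat.card_pos
            show P.relIndex Q = P.relIndex (P ⊔ Q)
            change Nat.card ↥(P.subgroupOf Q) * P.relIndex Q = Nat.card ↥Q at e1
            change Nat.card ↥(Q.subgroupOf P) * Q.relIndex P = Nat.card ↥P at e3
            rw [e4] at e1
            have : Nat.card ↥P * P.relIndex Q = Nat.card ↥P * P.relIndex (P ⊔ Q) := by
              calc Nat.card ↥P * P.relIndex Q
                  = (Nat.card ↥(Q.subgroupOf P) * P.relIndex Q) * Q.relIndex P := by rw [← e3]; ring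
                _ = Nat.card ↥P * P.relIndex (P ⊔ Q) := by rw [e1, e2, h1]
            exact Nat.eq_of_mul_eq_mul_left hp2 this)
      have hbot := eq_bot_of_normalized (hcen u hu) hY hPY hidx
      rw [Subgroup.subgroupOf_eq_bot, disjoint_iff] at hbot
      exact hbot
    set S' : Subgroup G := (S : Subgroup G) with hS'
    have hSp : IsPGroup 2 ↥S' := S.isPGroup'
    obtain ⟨hAS, hSA, hAC⟩ := hA
    haveI hAn : (A.subgroupOf S').Normal := Cores.subgroupOf_normal_of_le_normalizer hSA
    have hAne : A.subgroupOf S' ≠ ⊥ := by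
      intro hb
      apply hA3
      intro B _ _
      rw [Subgroup.subgroupOf_eq_bot, disjoint_iff, inf_eq_left.mpr hAS] at hb
      subst hb
      calc Nat.card ↥B ≤ Nat.card ↥(⊥ : Subgroup G) := Nat.card_le_card_of_injective _ B.subtype_injective
        _ ≤ 2 ^ 2 := by rw [Subgroup.card_bot]; norm_num
    obtain ⟨t', ht'A, ht'Z, ht'⟩ := PGroup.exists_central_order_p hSp hAne
    set t : G := (t' : G) with htdef
    have ht : orderOf t = 2 := by rw [htdef, Subgroup.orderOf_coe, ht']
    have htA : t ∈ A := ht'A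
    have htc : ∀ s ∈ S', s * t = t * s := fun s hs =>
      congrArg Subtype.val (Subgroup.mem_center_iff.mp ht'Z ⟨s, hs⟩)
    have hAcomm : ∀ a ∈ A, ∀ b ∈ A, a * b = b * a := fun a ha b hb =>
      Subgroup.mem_centralizer_iff.mp ((hAC.ge hb).2) a ha
    let W : Subgroup G :=
      { carrier := {a | a ∈ A ∧ a ^ 2 = 1}
        one_mem' := ⟨A.one_mem, one_pow 2⟩
        mul_mem' := fun {a b} ha hb => ⟨A.mul_mem ha.1 hb.1, by
          rw [(show Commute a b from hAcomm a ha.1 b hb.1).mul_pow, ha.2, hb.2, one_mul]⟩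
        inv_mem' := fun {a} ha => ⟨A.inv_mem ha.1, by rw [inv_pow, ha.2, inv_one]⟩ }
    have hW : ∀ a, a ∈ W ↔ a ∈ A ∧ a ^ 2 = 1 := fun _ => Iff.rfl
    have hWS : W ≤ S' := fun a ha => hAS ha.1
    set Z := (Subgroup.zpowers t).subgroupOf S' with hZ
    have htS : t ∈ S' := hAS htA
    haveI hZn : Z.Normal := Cores.subgroupOf_normal_of_le_normalizer fun s hs =>
      Coprime.mem_normalizer_of_forall fun v hv => by
        obtain ⟨k, rfl⟩ := Subgroup.mem_zpowers_iff.mp hv
        rw [(show Commute s t from htc s hs).zpow_right k |>.eq, mul_inv_cancel_right]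
        exact hv
    haveI hWn : (W.subgroupOf S').Normal := Cores.subgroupOf_normal_of_le_normalizer fun s hs =>
      Coprime.mem_normalizer_of_forall fun v hv =>
        ⟨(Subgroup.mem_normalizer_iff.mp (hSA hs) v).mp hv.1, by rw [conj_pow, hv.2]; group⟩
    set q := QuotientGroup.mk' Z with hq
    have hne : (W.subgroupOf S').map q ≠ ⊥ := by
      intro hb
      apply hA3
      intro B _ hB
      rw [Subgroup.map_eq_bot_iff, QuotientGroup.ker_mk'] at hb
      calc Nat.card ↥B ≤ Nat.card ↥(Subgroup.zpowers t) := by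
            refine Nat.card_le_card_of_injective (fun b => (⟨((b : ↥A) : G), ?_⟩ : ↥(Subgroup.zpowers t)))
              (fun b c hbc => Subtype.ext (Subtype.ext (congrArg (fun v : ↥(Subgroup.zpowers t) => (v : G)) hbc)))
            have h1 : ((b : ↥A) : G) ∈ W := ⟨(b : ↥A).2, congrArg Subtype.val (hB _ b.2)⟩
            exact hb (x := ⟨_, hWS h1⟩) h1
        _ ≤ 2 ^ 2 := by rw [Nat.card_zpowers, ht]; norm_num
    haveI : ((W.subgroupOf S').map q).Normal := hWn.map q (QuotientGroup.mk'_surjective Z)
    obtain ⟨ub, hubW, hubZ, hubo⟩ := PGroup.exists_central_order_p (hSp.to_quotient Z) hne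
    obtain ⟨u', hu'W, hu'q⟩ := hubW
    set u : G := (u' : G) with hudef
    have huW : u ∈ W := hu'W
    have huZ : u ∉ Subgroup.zpowers t := by
      intro hm
      have : q u' = 1 := (QuotientGroup.eq_one_iff u').mpr hm
      rw [this] at hu'q
      rw [← hu'q, orderOf_one] at hubo
      omega
    have hu2 : u * u = 1 := by rw [← pow_two]; exact huW.2
    have hu : orderOf u = 2 := Involution.orderOf_of_sq hu2 fun h1 => huZ (h1 ▸ one_mem _)
    have hsu : ∀ s ∈ S', s * u * s⁻¹ * u⁻¹ ∈ Subgroup.zpowers t := by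
      intro s hs
      have h1 : ((⟨s, hs⟩ : ↥S') * u' * (⟨s, hs⟩ : ↥S')⁻¹ * u'⁻¹) ∈ Z := by
        rw [← QuotientGroup.eq_one_iff]
        show q _ = 1
        rw [map_mul, map_mul, map_mul, hu'q, map_inv, map_inv, hu'q,
          Subgroup.mem_center_iff.mp hubZ (q ⟨s, hs⟩)]
        group
      exact h1
    let f : ↥S' →* G :=
      { toFun := fun s => (s : G) * u * (s : G)⁻¹ * u⁻¹
        map_one' := by simp
        map_mul' := fun a b => by
          have hb := hsu b b.2
          obtain ⟨k, hk⟩ := Subgroup.mem_zpowers_iff.mp hb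
          have hca : (a : G) * t ^ k = t ^ k * a :=
            ((show Commute (a : G) t from htc a a.2).zpow_right k).eq
          have hcf : ((a : G) * u * (a : G)⁻¹ * u⁻¹) * t ^ k = t ^ k * ((a : G) * u * (a : G)⁻¹ * u⁻¹) := by
            obtain ⟨j, hj⟩ := Subgroup.mem_zpowers_iff.mp (hsu a a.2)
            rw [← hj, ← zpow_add, ← zpow_add, add_comm]
          simp only [Subgroup.coe_mul]
          calc (a : G) * b * u * ((a : G) * b)⁻¹ * u⁻¹
              = (a : G) * ((b : G) * u * (b : G)⁻¹ * u⁻¹) * (u * (a : G)⁻¹ * u⁻¹) := by group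
            _ = (a : G) * t ^ k * (u * (a : G)⁻¹ * u⁻¹) := by rw [hk]
            _ = t ^ k * ((a : G) * u * (a : G)⁻¹ * u⁻¹) := by rw [hca]; group
            _ = _ := by rw [← hcf, hk] }
    have hcu : Nat.card ↥S' ≤ 2 * Nat.card ↥(S' ⊓ Subgroup.centralizer ({u} : Set G) : Subgroup G) := by
      have h1 := f.ker.card_mul_index
      rw [Subgroup.index_ker] at h1
      rw [← h1, mul_comm 2]
      refine Nat.mul_le_mul ?_ ?_
      · rw [← Cores.card_map_subtype]
        refine Subgroup.card_le_of_le ?_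
        rintro _ ⟨s, hs, rfl⟩
        refine ⟨s.2, Subgroup.mem_centralizer_singleton_iff.mpr ?_⟩
        have hs' : (s : G) * u * (s : G)⁻¹ * u⁻¹ = 1 := hs
        rw [mul_inv_eq_one, mul_inv_eq_iff_eq_mul] at hs'
        exact hs'
      · calc Nat.card ↥f.range ≤ Nat.card ↥(Subgroup.zpowers t) :=
              Subgroup.card_le_of_le (by rintro _ ⟨s, rfl⟩; exact hsu s s.2)
          _ = 2 := by rw [Nat.card_zpowers, ht]
    have huS : u ∈ S' := hWS huW
    have hut : Commute u t := hAcomm u huW.1 t htA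
    have ht2 : t * t = 1 := Involution.mul_self ht
    have huto : orderOf (u * t) = 2 := Involution.orderOf_of_sq
      (by rw [show u * t * (u * t) = u * (t * u) * t by group, ← hut.eq,
        show u * (u * t) * t = (u * u) * (t * t) by group, hu2, ht2, one_mul])
      (fun h1 => huZ (by rw [mul_eq_one_iff_eq_inv.mp h1]; exact inv_mem (Subgroup.mem_zpowers t)))
    have hct : Nat.card ↥S' ≤ 2 * Nat.card ↥(S' ⊓ Subgroup.centralizer ({t} : Set G) : Subgroup G) := by
      rw [inf_eq_left.mpr (fun s hs => Subgroup.mem_centralizer_singleton_iff.mpr (htc s hs))]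
      omega
    have hcut : Nat.card ↥S' ≤ 2 * Nat.card ↥(S' ⊓ Subgroup.centralizer ({u * t} : Set G) : Subgroup G) := by
      refine hcu.trans (Nat.mul_le_mul_left 2 (Subgroup.card_le_of_le ?_))
      rintro s ⟨hs, hsu'⟩
      refine ⟨hs, Subgroup.mem_centralizer_singleton_iff.mpr ?_⟩
      exact ((show Commute s u from Subgroup.mem_centralizer_singleton_iff.mp hsu').mul_right (htc s hs)).eq
    have k1 := hkill t ht hct
    have k2 := hkill u hu hcu
    have k3 := hkill (u * t) huto hcut
    have fix : ∀ (w : G), X ⊓ Subgroup.centralizer ({w} : Set G) = ⊥ → ∀ x ∈ X,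
        w * x * w⁻¹ = x → x = 1 := by
      intro w hw x hx hwx
      refine Subgroup.mem_bot.mp (hw ▸ Subgroup.mem_inf.mpr ⟨hx, Subgroup.mem_centralizer_singleton_iff.mpr ?_⟩)
      rw [mul_inv_eq_iff_eq_mul] at hwx
      exact hwx.symm
    have hin : ∀ w ∈ S', ∀ x ∈ X, w * x * w⁻¹ ∈ X := fun w hw x hx =>
      (Subgroup.mem_normalizer_iff.mp (hSX hw) x).mp hx
    have inv : ∀ w ∈ S', w * w = 1 → X ⊓ Subgroup.centralizer ({w} : Set G) = ⊥ → ∀ x ∈ X,
        w * x * w⁻¹ = x⁻¹ := by
      intro w hwS hw2 hwX x hx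
      let φ : ↥X →* ↥X :=
        { toFun := fun y => ⟨w * y * w⁻¹, hin w hwS y y.2⟩
          map_one' := by ext; simp
          map_mul' := fun y z => by ext; simp }
      have hfp : MonoidHom.FixedPointFree φ := fun y hy =>
        Subtype.ext (fix w hwX y y.2 (congrArg Subtype.val hy))
      have hinv : Function.Involutive φ := fun y => Subtype.ext (by
        show w * (w * (y : G) * w⁻¹) * w⁻¹ = y
        rw [show w * (w * (y : G) * w⁻¹) * w⁻¹ = (w * w) * y * (w * w)⁻¹ by group, hw2]
        group)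
      exact congrArg Subtype.val (congrFun (hfp.coe_eq_inv_of_involutive hinv) ⟨x, hx⟩)
    rw [eq_bot_iff]
    intro x hx
    refine fix (u * t) k3 x hx ?_
    rw [show u * t * x * (u * t)⁻¹ = u * (t * x * t⁻¹) * u⁻¹ by group, inv t htS ht2 k1 x hx,
      show u * x⁻¹ * u⁻¹ = (u * x * u⁻¹)⁻¹ by group, inv u huS hu2 k2 x hx, inv_inv]
  · intro T hT hT1
    haveI : Nontrivial ↥T := (Subgroup.nontrivial_iff_ne_bot T).mpr hT1
    haveI := hT.center_nontrivial
    obtain ⟨z, hz⟩ : ∃ z : ↥(Subgroup.center ↥T), orderOf z = 2 := by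
      refine exists_prime_orderOf_dvd_card' 2 ?_
      obtain ⟨m, hm⟩ := IsPGroup.iff_card.mp (hT.to_subgroup (Subgroup.center ↥T))
      rcases Nat.eq_zero_or_pos m with rfl | hm0
      · have := Finite.one_lt_card (α := ↥(Subgroup.center ↥T))
        rw [hm] at this
        norm_num at this
      · rw [hm]; exact dvd_pow_self 2 (by omega)
    set x : G := ((z : ↥T) : G) with hx
    have hxo : orderOf x = 2 := by rw [hx, Subgroup.orderOf_coe, Subgroup.orderOf_coe, hz]
    have hTC : T ≤ Subgroup.centralizer ({x} : Set G) := fun v hv =>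
      Subgroup.mem_centralizer_singleton_iff.mpr
        (congrArg Subtype.val (Subgroup.mem_center_iff.mp z.2 ⟨v, hv⟩))
    have hCC : Subgroup.centralizer (T : Set G) ≤ Subgroup.centralizer ({x} : Set G) :=
      Subgroup.centralizer_le (Set.singleton_subset_iff.mpr (z : ↥T).2)
    have h1 := Constrained.isPConstrained_centralizer (Constrained.isCharP_iff.mp (hcen x hxo)).1
      (T := T.subgroupOf (Subgroup.centralizer ({x} : Set G))) hT.comap_subtype
    have heq : (Subgroup.centralizer (T : Set G)).subgroupOf (Subgroup.centralizer ({x} : Set G)) =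
        Subgroup.centralizer (T.subgroupOf (Subgroup.centralizer ({x} : Set G)) :
          Set ↥(Subgroup.centralizer ({x} : Set G))) := by
      ext y
      simp only [Subgroup.mem_subgroupOf, Subgroup.mem_centralizer_iff]
      exact ⟨fun hy v hv => Subtype.ext (hy _ hv),
        fun hy v hv => congrArg Subtype.val (hy ⟨v, hTC hv⟩ hv)⟩
    exact Constrained.isPConstrained_of_centralizer hT (Constrained.isPConstrained_congr
      ((MulEquiv.subgroupCongr heq.symm).trans (Subgroup.subgroupOfEquivOfLe hCC)) h1)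

end Cfsg.Agent.S3246
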