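import Cfsg.Statements.S3247
import Cfsg.Agent.EqLemmas
import Cfsg.Agent.Lib.Constrained.Basic

set_option autoImplicit false
open Cfsg

namespace Cfsg.Agent.S3247

/-- Let G be a finite group and p a prime; here a p-local subgroup means the normalizer of a nontrivial p-subgroup, other than G itself. If every p-local subgroup of G that is maximal among p-local subgroups is p-constrained, or if the centralizer of every element of order p of G is p-constrained, then every p-local subgroup of G is p-constrained. -/
theorem result {G : Type*} [Group G] [Finite G] (p : ℕ) [hp : Fact p.Prime]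
    (h : (∀ M : Subgroup G, (∃ T : Subgroup G, IsPGroup p ↥T ∧ T ≠ ⊥ ∧ M = Subgroup.normalizer (T : Set G)) → M ≠ ⊤ →
        (∀ M' : Subgroup G, (∃ T' : Subgroup G, IsPGroup p ↥T' ∧ T' ≠ ⊥ ∧ M' = Subgroup.normalizer (T' : Set G)) → M' ≠ ⊤ → M ≤ M' → M = M') →
        Cfsg.IsPConstrained p ↥M) ∨
      (∀ x : G, orderOf x = p → Cfsg.IsPConstrained p ↥(Subgroup.centralizer ({x} : Set G))))
    (T : Subgroup G) (hT : IsPGroup p ↥T) (hT1 : T ≠ ⊥) (hTG : Subgroup.normalizer (T : Set G) ≠ ⊤) :
    Cfsg.IsPConstrained p ↥(Subgroup.normalizer (T : Set G)) := by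
  classical
  rcases h with h | h
  · obtain ⟨M, hle, hmax⟩ :=
      (Set.toFinite {M : Subgroup G |
        (∃ T : Subgroup G, IsPGroup p ↥T ∧ T ≠ ⊥ ∧ M = Subgroup.normalizer (T : Set G)) ∧ M ≠ ⊤}).exists_le_maximal
        (a := Subgroup.normalizer (T : Set G)) ⟨⟨T, hT, hT1, rfl⟩, hTG⟩
    have hMc : Cfsg.IsPConstrained p ↥M :=
      h M hmax.1.1 hmax.1.2 fun M' h1 h2 h3 => le_antisymm h3 (hmax.2 ⟨h1, h2⟩ h3)
    have hTM : T ≤ M := Subgroup.le_normalizer.trans hle
    have h1 := Constrained.isPConstrained_normalizer hMc (T := T.subgroupOf M) hT.comap_subtype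
    exact Constrained.isPConstrained_congr
      ((MulEquiv.subgroupCongr (Subgroup.subgroupOf_normalizer_eq hTM).symm).trans
        (Subgroup.subgroupOfEquivOfLe hle)) h1
  · haveI : Nontrivial ↥T := (Subgroup.nontrivial_iff_ne_bot T).mpr hT1
    haveI := hT.center_nontrivial
    obtain ⟨z, hz⟩ : ∃ z : ↥(Subgroup.center ↥T), orderOf z = p := by
      refine exists_prime_orderOf_dvd_card' p ?_
      obtain ⟨m, hm⟩ := IsPGroup.iff_card.mp (hT.to_subgroup (Subgroup.center ↥T))
      rcases Nat.eq_zero_or_pos m with rfl | hm0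
      · have := Finite.one_lt_card (α := ↥(Subgroup.center ↥T))
        rw [hm] at this
        norm_num at this
      · rw [hm]; exact dvd_pow_self p (by omega)
    set x : G := ((z : ↥T) : G) with hx
    have hxo : orderOf x = p := by rw [hx, Subgroup.orderOf_coe, Subgroup.orderOf_coe, hz]
    have hTC : T ≤ Subgroup.centralizer ({x} : Set G) := fun u hu =>
      Subgroup.mem_centralizer_singleton_iff.mpr
        (congrArg Subtype.val (Subgroup.mem_center_iff.mp z.2 ⟨u, hu⟩))
    have hCC : Subgroup.centralizer (T : Set G) ≤ Subgroup.centralizer ({x} : Set G) :=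
      Subgroup.centralizer_le (Set.singleton_subset_iff.mpr (z : ↥T).2)
    have h1 := Constrained.isPConstrained_centralizer (h x hxo)
      (T := T.subgroupOf (Subgroup.centralizer ({x} : Set G))) hT.comap_subtype
    have heq : (Subgroup.centralizer (T : Set G)).subgroupOf (Subgroup.centralizer ({x} : Set G)) =
        Subgroup.centralizer (T.subgroupOf (Subgroup.centralizer ({x} : Set G)) :
          Set ↥(Subgroup.centralizer ({x} : Set G))) := by
      ext y
      simp only [Subgroup.mem_subgroupOf, Subgroup.mem_centralizer_iff]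
      exact ⟨fun hy u hu => Subtype.ext (hy _ hu),
        fun hy u hu => congrArg Subtype.val (hy ⟨u, hTC hu⟩ hu)⟩
    exact Constrained.isPConstrained_of_centralizer hT (Constrained.isPConstrained_congr
      ((MulEquiv.subgroupCongr heq.symm).trans (Subgroup.subgroupOfEquivOfLe hCC)) h1)

end Cfsg.Agent.S3247
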