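import Cfsg.Statements.S3252
import Cfsg.Agent.Lib.CyclicZFactor.Main
-- import your own Cfsg.Agent.* helpers here

set_option autoImplicit false
open Cfsg

namespace Cfsg.Agent.S3252

/-- Let G be a finite non-solvable group that is the product G = AB of a cyclic subgroup A and a subgroup B all of whose Sylow subgroups are cyclic. Then the quotient of G by its largest solvable normal subgroup is isomorphic to PGL₂(p) for some prime p > 3. -/
theorem result {G : Type*} [Group G] [Finite G] (hG : ¬ Group.IsSolvable G)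
    (A B : Subgroup G) (hA : IsCyclic ↥A) (hB : ∀ (q : ℕ) [Fact q.Prime] (Q : Sylow q ↥B), IsCyclic ↥(Q : Subgroup ↥B))
    (hAB : ∀ g : G, ∃ a ∈ A, ∃ b ∈ B, g = a * b)
    (R : Subgroup G) [hR : R.Normal] (hRs : Group.IsSolvable ↥R) (hRmax : ∀ N : Subgroup G, N.Normal → Group.IsSolvable ↥N → N ≤ R) :
    ∃ (F : Type) (_ : Field F) (_ : Fintype F) (p : ℕ), p.Prime ∧ 3 < p ∧ Fintype.card F = p ∧
      Nonempty ((G ⧸ R) ≃* (GL (Fin 2) F ⧸ Subgroup.center (GL (Fin 2) F))) := by
  haveI := hA
  haveI := hRs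
  haveI hBz : IsZGroup ↥B := ⟨fun q hq Q => @hB q ⟨hq⟩ Q⟩
  let π := QuotientGroup.mk' R
  have hπ : Function.Surjective π := QuotientGroup.mk'_surjective R
  have hF : Cfsg.Agent.CyclicZFactor.Factor (G ⧸ R) (A.map π) (B.map π) := by
    refine ⟨isCyclic_of_surjective _ (π.subgroupMap_surjective A),
      IsZGroup.of_surjective (π.subgroupMap_surjective B), fun g => ?_, fun N hN hNs => ?_⟩
    · obtain ⟨x, rfl⟩ := hπ g
      obtain ⟨a, ha, b, hb, rfl⟩ := hAB x
      exact ⟨π a, ⟨a, ha, rfl⟩, π b, ⟨b, hb, rfl⟩, map_mul π a b⟩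
    · -- the preimage of `N` is solvable, hence inside `R`
      haveI := hN
      haveI := hNs
      haveI : Group.IsSolvable ↥(N.comap π) := by
        let f : ↥(N.comap π) →* ↥N := π.subgroupComap N
        refine Group.isSolvable_of_ker_le_range
          (Subgroup.inclusion (show R ≤ N.comap π from fun r hr => ?_)) f ?_
        · have hr1 : π r = 1 := (QuotientGroup.eq_one_iff r).2 hr
          rw [Subgroup.mem_comap, hr1]
          exact one_mem N
        · intro x hx
          have hx1 : π (x : G) = 1 := congrArg Subtype.val hx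
          exact ⟨⟨(x : G), (QuotientGroup.eq_one_iff (x : G)).1 hx1⟩, rfl⟩
      have hle := hRmax (N.comap π) inferInstance inferInstance
      refine (Subgroup.eq_bot_iff_forall N).2 fun y hy => ?_
      obtain ⟨x, rfl⟩ := hπ y
      exact (QuotientGroup.eq_one_iff x).2 (hle hy)
  refine Cfsg.Agent.CyclicZFactor.iso_pgl hF fun hs => hG ?_
  haveI := hs
  exact Group.isSolvable_of_ker_le_range R.subtype π fun x hx =>
    ⟨⟨x, (QuotientGroup.eq_one_iff x).1 hx⟩, rfl⟩

end Cfsg.Agent.S3252
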