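import Cfsg.Statements.S3254
import Cfsg.Agent.EqLemmas
import Cfsg.Agent.Lib.DegThreeP.Small
import Cfsg.Agent.Lib.DegThreeP.FixOne
import Cfsg.Agent.Lib.DegThreeP.CaseThreeP
import Cfsg.Agent.Lib.DegThreeP.CaseTwoP

set_option autoImplicit false
open Cfsg

namespace Cfsg.Agent.S3254

/-- Let p > 3 be a prime and G a finite non-abelian simple group acting faithfully and transitively on a set Ω of 3p points, such that the normalizer of a Sylow p-subgroup of G has order 2p. If the action is primitive then p = 5 and G ≅ A₆; if it is imprimitive then p = 2^m + 1 for some m and G ≅ PSL₂(2^m). -/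
theorem result {G : Type*} [Group G] [Finite G] [IsSimpleGroup G] (hG : ¬ IsMulCommutative G)
    (p : ℕ) (hp : p.Prime) (hp3 : 3 < p) {Ω : Type*} [Fintype Ω] [MulAction G Ω] [FaithfulSMul G Ω]
    (htr : MulAction.IsPretransitive G Ω) (hΩ : Fintype.card Ω = 3 * p)
    (P : Sylow p G) (hN : Nat.card ↥(Subgroup.normalizer ((P : Subgroup G) : Set G)) = 2 * p) :
    (MulAction.IsPreprimitive G Ω → p = 5 ∧ Nonempty (G ≃* ↥(alternatingGroup (Fin 6)))) ∧
      (¬ MulAction.IsPreprimitive G Ω → ∃ (F : Type) (_ : Field F) (_ : Fintype F) (m : ℕ), Fintype.card F = 2 ^ m ∧ p = 2 ^ m + 1 ∧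
        Nonempty (G ≃* Matrix.ProjectiveSpecialLinearGroup (Fin 2) F)) := by
  classical
  have := Fintype.ofFinite G
  have := Fact.mk hp
  have := htr
  have hp5 : 5 ≤ p := by
    rcases eq_or_lt_of_le (show 4 ≤ p by omega) with h | h
    · subst h; exact absurd hp (by norm_num)
    · omega
  obtain ⟨X⟩ := DegThreeP.exists_ctx (Ω := Ω) hp5 hΩ (DegThreeP.exists_noncomm hG) P hN
  obtain ⟨s, hs, hord, hcases⟩ := X.cases
  rcases hcases with ⟨hσ, hp', he, hs0, -⟩ | ⟨hσ, he, hs0⟩ | ⟨hσ, he, hπ, h⟩ |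
    ⟨hσ, he, θ, hθF, hθE, hθ1, hθd, hπ, h⟩
  · exact (DegThreeP.sigma_one_false X hσ hp' he hs0 hord).elim
  · obtain ⟨hnot, hF⟩ := DegThreeP.e_eq_pred X hσ he hs0 hord
    exact ⟨fun h => absurd h hnot, fun _ => hF⟩
  · rcases h with ⟨hs0, hf⟩ | ⟨hs0, hf⟩ <;> subst hs0
    · exact (DegThreeP.threeP_false X hf hσ he hord).elim
    · exact (DegThreeP.threeP_three_false X hf hσ he hπ hord).elim
  · rcases h with ⟨hf, -⟩ | ⟨hf, hs1, hθt⟩
    · exact (DegThreeP.twoP_false X hf θ hθE hθ1 hπ).elim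
    · subst hs1
      obtain ⟨h5, hprim, hA⟩ := DegThreeP.twoP_three X hf hσ he (by rw [hs]; norm_num) hord θ hθF hθE hθ1
        hθd hθt hπ
      exact ⟨fun _ => ⟨h5, hA⟩, fun h => absurd hprim h⟩

end Cfsg.Agent.S3254
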