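import Cfsg.Statements.S3257
import Cfsg.Agent.Lib.FischerGen.Main

set_option autoImplicit false
open Cfsg

namespace Cfsg.Agent.S3257

/-- Let p be an odd prime and G a finite non-abelian group generated by a G-invariant set D of subgroups of order p such that any two distinct members of D generate a subgroup isomorphic to one fixed group of odd order. Then G/Z(G) is a Frobenius group of odd order. -/
theorem result {G : Type*} [Group G] [Finite G] (hG : ¬ IsMulCommutative G)
    (p : ℕ) (hp : p.Prime) (hp2 : p ≠ 2) (D : Set (Subgroup G)) (hDp : ∀ A ∈ D, Nat.card ↥A = p)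
    (hDinv : ∀ A ∈ D, ∀ g : G, A.map (MulAut.conj g).toMonoidHom ∈ D) (hDgen : sSup D = ⊤)
    {F : Type*} [Group F] [Finite F] (hF : Odd (Nat.card F)) (hpair : ∀ A ∈ D, ∀ B ∈ D, A ≠ B → Nonempty (↥(A ⊔ B) ≃* F)) :
    Odd (Nat.card (G ⧸ Subgroup.center G)) ∧ ∃ H : Subgroup (G ⧸ Subgroup.center G), Cfsg.IsFrobeniusComplement H := by
  classical
  haveI := Fact.mk hp
  have hcyc : ∀ A ∈ D, ∀ x ∈ A, ∀ y ∈ A, x * y = y * x := fun A hA x hx y hy => by
    haveI : IsCyclic A := isCyclic_of_prime_card (hDp A hA)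
    exact congrArg Subtype.val ((IsCyclic.commGroup (α := A)).mul_comm ⟨x, hx⟩ ⟨y, hy⟩)
  -- a faithful copy of `F` on every pair
  have hcopy : ∀ A ∈ D, ∀ B ∈ D, A ≠ B → ∃ f : F →* G, Function.Injective f ∧ f.range = A ⊔ B := by
    intro A hA B hB hne
    obtain ⟨e⟩ := hpair A hA B hB hne
    exact ⟨(A ⊔ B).subtype.comp e.symm.toMonoidHom, (A ⊔ B).subtype_injective.comp e.symm.injective,
      by rw [MonoidHom.range_comp, MonoidHom.range_eq_top.2 e.symm.surjective, ← MonoidHom.range_eq_map,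
        Subgroup.range_subtype]⟩
  -- commuting pairs make `G` commutative
  have hcent : (∀ A ∈ D, ∀ B ∈ D, ∀ a ∈ A, ∀ b ∈ B, a * b = b * a) → False := by
    intro hall
    have h1 : ∀ A ∈ D, A ≤ Subgroup.center G := by
      intro A hA a ha
      have h2 : sSup D ≤ Subgroup.centralizer {a} := sSup_le fun B hB b hb =>
        Subgroup.mem_centralizer_singleton_iff.2 (hall A hA B hB a ha b hb).symm
      rw [hDgen] at h2
      exact Subgroup.mem_center_iff.2 fun g =>
        Subgroup.mem_centralizer_singleton_iff.1 (h2 (Subgroup.mem_top g))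
    have h3 : (⊤ : Subgroup G) ≤ Subgroup.center G := hDgen ▸ sSup_le h1
    exact hG ⟨⟨fun a b => Subgroup.mem_center_iff.1 (h3 (Subgroup.mem_top b)) a⟩⟩
  have hnontriv : ∃ A ∈ D, ∃ B ∈ D, A ≠ B := by
    by_contra hno
    push Not at hno
    exact hcent fun A hA B hB a ha b hb => hcyc A hA a ha b (hno A hA B hB ▸ hb)
  have hnoncomm : ∀ A ∈ D, ∀ B ∈ D, A ≠ B → ∃ a ∈ A, ∃ b ∈ B, a * b ≠ b * a := by
    intro A hA B hB hne
    by_contra hno
    push Not at hno
    -- then `F` is commutative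
    have hAB : ∀ x ∈ A ⊔ B, ∀ y ∈ A ⊔ B, x * y = y * x := by
      have h1 : A ⊔ B ≤ Subgroup.centralizer (A : Set G) := sup_le
        (fun x hx => Subgroup.mem_centralizer_iff.2 fun a ha => hcyc A hA a ha x hx)
        (fun b hb => Subgroup.mem_centralizer_iff.2 fun a ha => hno a ha b hb)
      have h2 : A ⊔ B ≤ Subgroup.centralizer (B : Set G) := sup_le
        (fun a ha => Subgroup.mem_centralizer_iff.2 fun b hb => (hno a ha b hb).symm)
        (fun x hx => Subgroup.mem_centralizer_iff.2 fun b hb => hcyc B hB b hb x hx)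
      have h3 : A ⊔ B ≤ Subgroup.centralizer ((A ⊔ B : Subgroup G) : Set G) :=
        Subgroup.le_centralizer_iff.1 (sup_le (Subgroup.le_centralizer_iff.1 h1) (Subgroup.le_centralizer_iff.1 h2))
      exact fun x hx y hy => Subgroup.mem_centralizer_iff.1 (h3 hy) x hx
    obtain ⟨f, hf, hfr⟩ := hcopy A hA B hB hne
    have hFc : ∀ u v : F, u * v = v * u := fun u v => hf (by
      rw [map_mul, map_mul]
      exact hAB _ (hfr ▸ ⟨u, rfl⟩) _ (hfr ▸ ⟨v, rfl⟩))
    refine hcent fun C hC E hE a ha b hb => ?_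
    by_cases hCE : C = E
    · exact hcyc C hC a ha b (hCE ▸ hb)
    obtain ⟨f', -, hfr'⟩ := hcopy C hC E hE hCE
    obtain ⟨u, rfl⟩ : a ∈ f'.range := hfr'.ge (Subgroup.mem_sup_left ha)
    obtain ⟨v, rfl⟩ : b ∈ f'.range := hfr'.ge (Subgroup.mem_sup_right hb)
    rw [← map_mul, ← map_mul, hFc]
  have hiff : ∀ A ∈ D, ∀ B ∈ D, A ≠ B →
      (IsMulCommutative ↥⁅A ⊔ B, A ⊔ B⁆ ↔ IsMulCommutative ↥⁅(⊤ : Subgroup F), (⊤ : Subgroup F)⁆) := by
    intro A hA B hB hne
    obtain ⟨f, hf, hfr⟩ := hcopy A hA B hB hne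
    rw [← hfr, MonoidHom.range_eq_map]
    exact FischerGen.comm_der_map hf.injOn
  have hcard : ∀ A ∈ D, ∀ B ∈ D, A ≠ B → Nat.card (A ⊔ B : Subgroup G) = Nat.card F :=
    fun A hA B hB hne => (hpair A hA B hB hne).elim fun e => Nat.card_congr e.toEquiv
  have h : FischerGen.Hyp p D :=
    { prime := hp
      ne_two := hp2
      card := hDp
      conj_mem := hDinv
      generates := hDgen
      nontriv := hnontriv
      odd := fun A hA B hB hne => by rw [hcard A hA B hB hne]; exact hF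
      card_eq := fun A hA B hB hne C hC E hE hne' => by rw [hcard A hA B hB hne, hcard C hC E hE hne']
      noncomm := hnoncomm
      ab_eq := fun A hA B hB hne C hC E hE hne' hc => (hiff C hC E hE hne').2 ((hiff A hA B hB hne).1 hc) }
  exact ⟨h.odd_card.of_dvd_nat (Subgroup.card_quotient_dvd_card _), h.frobenius⟩

end Cfsg.Agent.S3257
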