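import Cfsg.Statements.S3260
import Cfsg.Agent.Lib.CoprimeZJ.Main
import Cfsg.Agent.EqLemmas

set_option autoImplicit false
open Cfsg

namespace Cfsg.Agent.S3260

/-- Let p ≥ 5 be a prime, G a finite p-constrained group with Sylow p-subgroup S, and A a group of automorphisms of G of order coprime to |G| whose fixed-point subgroup has no section isomorphic to PSL₂(p). Then G = O_{p'}(G) · N_G(Z(J(S))), where J(S) is the subgroup generated by the abelian subgroups of S of largest order. -/
theorem result {G : Type*} [Group G] [Finite G] (p : ℕ) [hp : Fact p.Prime] (hp5 : 5 ≤ p)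
    (hG : Cfsg.IsPConstrained p G) (S : Sylow p G) (A : Subgroup (MulAut G)) (hA : (Nat.card ↥A).Coprime (Nat.card G))
    (C : Subgroup G) (hC : ∀ g : G, g ∈ C ↔ ∀ a ∈ A, a g = g)
    {F : Type*} [Field F] [Fintype F] (hF : Fintype.card F = p)
    (hfix : ¬ Cfsg.Involves (Matrix.ProjectiveSpecialLinearGroup (Fin 2) F) ↥C) :
    Cfsg.pPrimeCore p G ⊔ Subgroup.normalizer (Cfsg.centerThompsonAOf (S : Subgroup G) : Set G) = ⊤ := by
  have e : ZMod p ≃+* F := ZMod.ringEquivOfPrime F hp.out hF
  have hCeq : C = CoprimeZJ.fixSub A G := by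
    ext g
    rw [hC g]
    exact ⟨fun h a => h a a.2, fun h a ha => h ⟨a, ha⟩⟩
  have hsolv : Group.IsSolvable A ∨ Group.IsSolvable G := by
    rcases Nat.even_or_odd (Nat.card G) with he | ho
    · exact Or.inl (OddOrderTheorem.solvable (Nat.coprime_two_right.1 (hA.coprime_dvd_right he.two_dvd)))
    · exact Or.inr (OddOrderTheorem.solvable ho)
  obtain ⟨P, hP⟩ := Coprime.exists_smul_invariant_sylow hA hsolv p
  have h := CoprimeZJ.factorization_inv hp5 hG hA e (hCeq ▸ hfix) P hP
  obtain ⟨g, hg⟩ := MulAction.exists_smul_eq G P S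
  set c : G ≃* G := MulAut.conj g
  have hS : (S : Subgroup G) = (P : Subgroup G).map c.toMonoidHom := by
    rw [← hg, Sylow.coe_subgroup_smul]; rfl
  have h2 := congrArg (Subgroup.map c.toMonoidHom) h
  rw [Subgroup.map_sup, Subgroup.map_top_of_surjective _ c.surjective, Subgroup.map_equiv_normalizer_eq,
    PLocal.map_centerThompsonAOf c.toMonoidHom c.injective.injOn, ← hS] at h2
  have hO : (Cfsg.pPrimeCore p G).map c.toMonoidHom ≤ Cfsg.pPrimeCore p G :=
    Cores.map_pPrimeCore_le _ c.surjective p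
  exact top_le_iff.1 (h2.ge.trans (sup_le_sup_right hO _))

end Cfsg.Agent.S3260
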