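import Cfsg.Statements.S3262
import Cfsg.Agent.Lib.TwoPointA5.Finals
import Cfsg.Agent.Lib.Order7920.Unique

set_option autoImplicit false
open Cfsg

namespace Cfsg.Agent.S3262

/-- Let G be a finite doubly transitive permutation group on a set Ω with no regular normal subgroup, in which the stabilizer of two points is isomorphic to the alternating group A₅. Then either Ω has 7 points and G ≅ A₇, or Ω has 12 points and G is isomorphic to the Mathieu group M₁₁. -/
theorem result {G : Type*} [Group G] [Finite G] {Ω : Type*} [Fintype Ω] [MulAction G Ω] [FaithfulSMul G Ω]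
    (h2 : MulAction.IsMultiplyPretransitive G Ω 2) (a b : Ω) (hab : a ≠ b)
    (hnr : ∀ N : Subgroup G, N.Normal → MulAction.IsPretransitive ↥N Ω → (∀ x : Ω, MulAction.stabilizer ↥N x = ⊥) → False)
    (e : ↥(MulAction.stabilizer G a ⊓ MulAction.stabilizer G b) ≃* ↥(alternatingGroup (Fin 5))) :
    (Fintype.card Ω = 7 ∧ Nonempty (G ≃* ↥(alternatingGroup (Fin 7)))) ∨ (Fintype.card Ω = 12 ∧ Cfsg.Spor.IsoM11 G) := by
  open Cfsg.Agent.TwoPointA5 in
  (have t2 := t2_of_pretransitive h2
   obtain ⟨i, x, C⟩ := exists_ctx hab t2 (kdAll_five t2 hab e)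
   rw [← Nat.card_eq_fintype_card]
   rcases Nat.even_or_odd (Nat.card Ω) with heven | hodd
   · rcases C.even_cases heven with ⟨h, -⟩ | ⟨h, -⟩ | ⟨-, hn, hG, hs⟩ | ⟨h, -⟩
     · omega
     · omega
     · haveI := simple_of_stab_simple h2 (by rw [hn, isPrimePow_nat_iff_bounded]; decide) (by omega) a hs
       exact Or.inr ⟨hn, Cfsg.Agent.Order7920.nonempty_mulEquiv_m11 hG⟩
     · omega
   · rcases C.odd_cases hodd with h | ⟨-, hn, hG⟩ | ⟨h, -⟩ | ⟨h, -⟩
     · exact (C.lam_one_false hnr hodd h).elim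
     · exact Or.inl ⟨hn, iso_alternating hn (by norm_num) (by rw [hG]; rfl)⟩
     · omega
     · omega)

end Cfsg.Agent.S3262
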