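import Cfsg.Statements.S3265
import Cfsg.Agent.Lib.InvolutionGraph.Main

set_option autoImplicit false
open Cfsg

namespace Cfsg.Agent.S3265

/-- Let n ≥ 5 and let X be a conjugacy class of involutions of the symmetric group of degree n. The graph on X joining two distinct involutions whose product has odd order is connected and has diameter exactly 2. -/
theorem result (n : ℕ) (hn : 5 ≤ n) (t : Equiv.Perm (Fin n)) (ht : orderOf t = 2) :
    (SimpleGraph.fromRel fun x y : {x : Equiv.Perm (Fin n) // IsConj t x} =>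
        Odd (orderOf (x.1 * y.1))).Connected ∧
      (SimpleGraph.fromRel fun x y : {x : Equiv.Perm (Fin n) // IsConj t x} =>
        Odd (orderOf (x.1 * y.1))).diam = 2 := by
  classical
  have htt : t * t = 1 := by
    have := pow_orderOf_eq_one t
    rwa [ht, pow_two] at this
  set V := {x : Equiv.Perm (Fin n) // IsConj t x} with hV
  set Γ := SimpleGraph.fromRel fun x y : V => Odd (orderOf (x.1 * y.1)) with hΓ
  have hsq : ∀ x : V, x.1 * x.1 = 1 := by
    intro x
    obtain ⟨g, hg⟩ := isConj_iff.1 x.2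
    rw [← hg, show g * t * g⁻¹ * (g * t * g⁻¹) = g * (t * t) * g⁻¹ by group, htt]
    group
  have hdist : ∀ u v : V, Γ.edist u v ≤ 2 := by
    intro u v
    obtain ⟨z, hz, h1, h2⟩ := InvolutionGraph.exists_middle (α := Fin n) (by simpa using hn) (hsq u)
      (u.2.symm.trans v.2)
    let w : V := ⟨z, u.2.trans hz⟩
    have step : ∀ a b : V, Odd (orderOf (a.1 * b.1)) → Γ.edist a b ≤ 1 := fun a b h => by
      by_cases hab : a = b
      · rw [hab, SimpleGraph.edist_eq_zero_iff.2 rfl]; exact zero_le
      · exact (SimpleGraph.edist_eq_one_iff_adj.2 ((SimpleGraph.fromRel_adj _ _ _).2 ⟨hab, Or.inl h⟩)).le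
    calc Γ.edist u v ≤ Γ.edist u w + Γ.edist w v := SimpleGraph.edist_triangle
      _ ≤ 1 + 1 := add_le_add (step u w h1) (step w v h2)
      _ = 2 := one_add_one_eq_two
  have hle : Γ.ediam ≤ 2 := SimpleGraph.ediam_le_of_edist_le hdist
  have ht1 : t ≠ 1 := fun h => by simp [h] at ht
  obtain ⟨a, ha⟩ : ∃ a, t a ≠ a := by
    by_contra! h
    exact ht1 (Equiv.ext h)
  set b := t a with hb
  have htb : t b = a := by rw [hb, ← Equiv.Perm.mul_apply, htt, Equiv.Perm.one_apply]
  obtain ⟨g, hne, hcomm⟩ : ∃ g : Equiv.Perm (Fin n), g * t * g⁻¹ ≠ t ∧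
      g * t * g⁻¹ * t = t * (g * t * g⁻¹) := by
    by_cases hc : ∃ c, c ≠ a ∧ c ≠ b ∧ t c ≠ c
    · obtain ⟨c, hca, hcb, hct⟩ := hc
      have htd : t (t c) = c := by rw [← Equiv.Perm.mul_apply, htt, Equiv.Perm.one_apply]
      have hda : t c ≠ a := fun e => hcb (t.injective (e.trans htb.symm))
      have hdb : t c ≠ b := fun e => hca (t.injective e)
      have hy : ∀ r, (Equiv.swap b c * t * (Equiv.swap b c)⁻¹) r = Equiv.swap b c (t (Equiv.swap b c r)) :=
        fun r => by rw [Equiv.swap_inv]; rfl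
      have ya : (Equiv.swap b c * t * (Equiv.swap b c)⁻¹) a = c := by
        rw [hy, Equiv.swap_apply_of_ne_of_ne (Ne.symm ha) hca.symm, ← hb, Equiv.swap_apply_left]
      have yb : (Equiv.swap b c * t * (Equiv.swap b c)⁻¹) b = t c := by
        rw [hy, Equiv.swap_apply_left, Equiv.swap_apply_of_ne_of_ne hdb hct]
      have yc : (Equiv.swap b c * t * (Equiv.swap b c)⁻¹) c = a := by
        rw [hy, Equiv.swap_apply_right, htb, Equiv.swap_apply_of_ne_of_ne (Ne.symm ha) hca.symm]
      have yd : (Equiv.swap b c * t * (Equiv.swap b c)⁻¹) (t c) = b := by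
        rw [hy, Equiv.swap_apply_of_ne_of_ne hdb hct, htd, Equiv.swap_apply_right]
      have yr : ∀ r, r ≠ a → r ≠ b → r ≠ c → r ≠ t c →
          (Equiv.swap b c * t * (Equiv.swap b c)⁻¹) r = t r := fun r r1 r2 r3 r4 => by
        rw [hy, Equiv.swap_apply_of_ne_of_ne r2 r3, Equiv.swap_apply_of_ne_of_ne
          (fun e => r1 (t.injective (e.trans hb))) (fun e => r4 (t.injective (e.trans htd.symm)))]
      refine ⟨Equiv.swap b c, fun e => hcb ?_, Equiv.ext fun r => ?_⟩
      · rw [← ya, e]
      simp only [Equiv.Perm.mul_apply _ t, Equiv.Perm.mul_apply t]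
      by_cases h1 : r = a
      · rw [h1, ← hb]; exact yb.trans (congrArg t ya).symm
      by_cases h2 : r = b
      · rw [h2, htb, ya, yb, htd]
      by_cases h3 : r = c
      · rw [h3, yd, yc]
      by_cases h4 : r = t c
      · rw [h4, htd, yc, yd, htb]
      rw [yr (t r) (fun e => h2 (t.injective (e.trans htb.symm)))
        (fun e => h1 (t.injective e)) (fun e => h4 (t.injective (e.trans htd.symm)))
        (fun e => h3 (t.injective e)), yr r h1 h2 h3 h4]
    · push Not at hc
      have hts : t = Equiv.swap a b := by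
        refine Equiv.ext fun r => ?_
        by_cases h1 : r = a
        · rw [h1, Equiv.swap_apply_left]
        by_cases h2 : r = b
        · rw [h2, Equiv.swap_apply_right, htb]
        rw [Equiv.swap_apply_of_ne_of_ne h1 h2, hc r h1 h2]
      obtain ⟨c, d, hcd, hca, hcb, hda, hdb⟩ : ∃ c d : Fin n, c ≠ d ∧ c ≠ a ∧ c ≠ b ∧ d ≠ a ∧ d ≠ b := by
        obtain ⟨c, hc'⟩ : ∃ c, c ∈ (Finset.univ \ {a, b} : Finset (Fin n)) := Finset.card_pos.1 (by
          have := Finset.le_card_sdiff {a, b} (Finset.univ : Finset (Fin n))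
          have := Finset.card_le_two (a := a) (b := b)
          rw [Finset.card_univ, Fintype.card_fin] at *
          omega)
        obtain ⟨d, hd'⟩ : ∃ d, d ∈ (Finset.univ \ {a, b, c} : Finset (Fin n)) := Finset.card_pos.1 (by
          have := Finset.le_card_sdiff {a, b, c} (Finset.univ : Finset (Fin n))
          have := Finset.card_le_three (a := a) (b := b) (c := c)
          rw [Finset.card_univ, Fintype.card_fin] at *
          omega)
        simp at hc' hd'
        exact ⟨c, d, (Ne.symm hd'.2.2), hc'.1, hc'.2, hd'.1, hd'.2.1⟩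
      have hab : a ≠ b := Ne.symm ha
      obtain ⟨g, hg⟩ := isConj_iff.1 (Equiv.Perm.isConj_swap hab hcd)
      refine ⟨g, ?_, ?_⟩
      · rw [hts, hg]
        intro e
        have := congrArg (fun f : Equiv.Perm (Fin n) => f a) e
        rw [Equiv.swap_apply_of_ne_of_ne hca.symm hda.symm, Equiv.swap_apply_left] at this
        exact hab this
      · rw [hts, hg]
        have e := Equiv.swap_apply_apply (Equiv.swap c d) a b
        rw [Equiv.swap_apply_of_ne_of_ne hca.symm hda.symm, Equiv.swap_apply_of_ne_of_ne hcb.symm hdb.symm] at e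
        exact (mul_inv_eq_iff_eq_mul.1 e.symm)
  let u : V := ⟨t, IsConj.refl t⟩
  let v : V := ⟨g * t * g⁻¹, isConj_iff.2 ⟨g, rfl⟩⟩
  have huv : u ≠ v := fun e => hne (congrArg Subtype.val e).symm
  have hnadj : ¬ Γ.Adj u v := by
    have key : orderOf (t * (g * t * g⁻¹)) = 2 := by
      refine orderOf_eq_prime ?_ ?_
      · rw [pow_two]
        calc t * (g * t * g⁻¹) * (t * (g * t * g⁻¹)) = t * ((g * t * g⁻¹) * t) * (g * t * g⁻¹) := by group
          _ = 1 := by
            rw [hcomm, ← mul_assoc t t, htt, one_mul]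
            exact hsq v
      · intro h
        exact hne ((eq_inv_of_mul_eq_one_right h).trans (inv_eq_of_mul_eq_one_right htt))
    rintro ⟨-, h | h⟩
    · rw [show u.1 * v.1 = t * (g * t * g⁻¹) from rfl, key] at h
      exact absurd h (by decide)
    · rw [show v.1 * u.1 = t * (g * t * g⁻¹) from hcomm, key] at h
      exact absurd h (by decide)
  haveI : Nonempty V := ⟨u⟩
  have hfin : Γ.ediam ≠ ⊤ := fun e => by
    rw [e] at hle
    exact absurd hle (by simp)
  refine ⟨SimpleGraph.connected_iff_ediam_ne_top.2 hfin, ?_⟩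
  have hge : 2 ≤ Γ.ediam := by
    refine le_trans ?_ (SimpleGraph.edist_le_ediam (u := u) (v := v))
    have h0 : Γ.edist u v ≠ 0 := fun e => huv (SimpleGraph.edist_eq_zero_iff.1 e)
    have h1 : Γ.edist u v ≠ 1 := fun e => hnadj (SimpleGraph.edist_eq_one_iff_adj.1 e)
    rcases lt_or_ge (Γ.edist u v) 2 with h | h
    · exfalso
      obtain ⟨k, hk⟩ := ENat.ne_top_iff_exists.1 (ne_top_of_lt h)
      rw [← hk] at h h0 h1
      norm_cast at h h0 h1
      omega
    · exact h
  rw [SimpleGraph.diam, le_antisymm hle hge]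
  rfl

end Cfsg.Agent.S3265
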