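import Cfsg.Statements.S3266
import Cfsg.Agent.Lib.PSL2.OddGraph

set_option autoImplicit false
open Cfsg

namespace Cfsg.Agent.S3266

/-- Let F be a finite field with at least 4 elements and let X be a conjugacy class of involutions of PSL(2, F). The graph on X joining two distinct involutions whose product has odd order is connected and has diameter exactly 2. -/
theorem result {F : Type*} [Field F] [Fintype F] (hF : 4 ≤ Fintype.card F)
    (t : Matrix.ProjectiveSpecialLinearGroup (Fin 2) F) (ht : orderOf t = 2) :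
    (SimpleGraph.fromRel fun x y : {x : Matrix.ProjectiveSpecialLinearGroup (Fin 2) F // IsConj t x} =>
        Odd (orderOf (x.1 * y.1))).Connected ∧
      (SimpleGraph.fromRel fun x y : {x : Matrix.ProjectiveSpecialLinearGroup (Fin 2) F // IsConj t x} =>
        Odd (orderOf (x.1 * y.1))).diam = 2 := by
  classical
  rw [← Nat.card_eq_fintype_card] at hF
  let Γ := SimpleGraph.fromRel fun x y : {x : Matrix.ProjectiveSpecialLinearGroup (Fin 2) F // IsConj t x} =>
    Odd (orderOf (x.1 * y.1))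
  have hord : ∀ x : {x : Matrix.ProjectiveSpecialLinearGroup (Fin 2) F // IsConj t x}, orderOf x.1 = 2 := by
    rintro ⟨x, hx⟩
    obtain ⟨g, rfl⟩ := isConj_iff.1 hx
    show orderOf (MulAut.conj g t) = 2
    rw [MulEquiv.orderOf_eq, ht]
  have hadj : ∀ x y, Γ.Adj x y ↔ x ≠ y ∧ Odd (orderOf (x.1 * y.1)) := by
    intro x y
    show (SimpleGraph.fromRel _).Adj x y ↔ _
    rw [SimpleGraph.fromRel_adj]
    have : orderOf (y.1 * x.1) = orderOf (x.1 * y.1) := by
      rw [show y.1 * x.1 = MulAut.conj y.1 (x.1 * y.1) by simp [mul_assoc], MulEquiv.orderOf_eq]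
    rw [this, or_self]
  have hwalk : ∀ x y, ∃ w : Γ.Walk x y, w.length ≤ 2 := by
    intro x y
    by_cases hxy : x = y
    · subst hxy; exact ⟨SimpleGraph.Walk.nil, by simp⟩
    by_cases ho : Odd (orderOf (x.1 * y.1))
    · exact ⟨(((hadj x y).2 ⟨hxy, ho⟩).toWalk), by simp⟩
    obtain ⟨z, hzx, hzy, h1, h2⟩ : ∃ z : {x : Matrix.ProjectiveSpecialLinearGroup (Fin 2) F // IsConj t x},
        z.1 ≠ x.1 ∧ z.1 ≠ y.1 ∧ Odd (orderOf (x.1 * z.1)) ∧ Odd (orderOf (y.1 * z.1)) := by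
      rcases Nat.even_or_odd (Nat.card F) with he | hodd
      · obtain ⟨p, hp⟩ := CharP.exists F
        have : Fact p.Prime := ⟨CharP.char_is_prime F p⟩
        obtain ⟨n, -, -, ⟨rfl, -, -, -⟩ | ⟨-, ho', -, -⟩⟩ := PSL2.q_cases (F := F) p
        swap
        · exact absurd he (Nat.not_even_iff_odd.2 ho')
        obtain ⟨g, hz, h1, h2, h3, h4⟩ := PSL2.odd_product_common_even (hord x) (hord y) ho
        exact ⟨⟨_, x.2.trans (isConj_iff.2 ⟨g, rfl⟩)⟩, h1, h2, h3, h4⟩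
      · obtain ⟨z, hz, h1, h2, h3, h4⟩ := PSL2.odd_product_common_odd hodd hF (hord x) (hord y)
          (fun e => hxy (Subtype.ext e)) ho
        exact ⟨⟨z, PSL2.involution_isConj hodd ht hz⟩, h1, h2, h3, h4⟩
    have a1 : Γ.Adj x z := (hadj x z).2 ⟨fun e => hzx (e ▸ rfl), h1⟩
    have a2 : Γ.Adj y z := (hadj y z).2 ⟨fun e => hzy (e ▸ rfl), h2⟩
    exact ⟨SimpleGraph.Walk.cons a1 a2.symm.toWalk, by simp⟩
  have hnonempty : Nonempty {x : Matrix.ProjectiveSpecialLinearGroup (Fin 2) F // IsConj t x} :=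
    ⟨⟨t, IsConj.refl t⟩⟩
  have hconn : Γ.Connected := SimpleGraph.connected_iff Γ |>.2 ⟨fun x y => (hwalk x y).elim fun w _ => ⟨w⟩, hnonempty⟩
  refine ⟨hconn, ?_⟩
  obtain ⟨g, hg, hgo⟩ := PSL2.exists_commuting_involution hF ht
  have hedist : Γ.ediam = 2 := by
    refine le_antisymm ?_ ?_
    · rw [SimpleGraph.ediam_le_iff]
      intro x y
      obtain ⟨w, hw⟩ := hwalk x y
      exact (SimpleGraph.edist_le w).trans (by exact_mod_cast hw)
    · refine le_trans ?_ (SimpleGraph.edist_le_ediam (G := Γ) (u := ⟨t, IsConj.refl t⟩)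
        (v := ⟨g * t * g⁻¹, isConj_iff.2 ⟨g, rfl⟩⟩))
      rw [← hconn.preconnected _ _ |>.coe_dist_eq_edist]
      have h0 : Γ.dist ⟨t, IsConj.refl t⟩ ⟨g * t * g⁻¹, isConj_iff.2 ⟨g, rfl⟩⟩ ≠ 0 := by
        intro h
        exact hg (congrArg Subtype.val (((hconn.preconnected _ _).dist_eq_zero_iff).1 h)).symm
      have h1 : Γ.dist ⟨t, IsConj.refl t⟩ ⟨g * t * g⁻¹, isConj_iff.2 ⟨g, rfl⟩⟩ ≠ 1 := by
        intro h
        exact hgo ((hadj _ _).1 (SimpleGraph.dist_eq_one_iff_adj.1 h)).2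
      exact_mod_cast (by omega : 2 ≤ Γ.dist ⟨t, IsConj.refl t⟩ ⟨g * t * g⁻¹, isConj_iff.2 ⟨g, rfl⟩⟩)
  show Γ.diam = 2
  rw [SimpleGraph.diam, hedist]
  rfl

end Cfsg.Agent.S3266
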