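import Cfsg.Statements.S3269
import Cfsg.Agent.EqLemmas
import Cfsg.Agent.Lib.ZStar.Unique
import Cfsg.Agent.Lib.ZStar.Statements

set_option autoImplicit false
open Cfsg

namespace Cfsg.Agent.S3269

open Cfsg.Agent

theorem quat_facts (n : ℕ) (hn : 1 ≤ n) :
    (∀ x : QuaternionGroup (2 ^ n), x * x = 1 → x = 1 ∨ x = .a (2 ^ n : ℕ)) ∧
      (∃ x y : QuaternionGroup (2 ^ n), x * y * x⁻¹ * y⁻¹ = .a (2 ^ n : ℕ)) ∧
      (.a (2 ^ n : ℕ) : QuaternionGroup (2 ^ n)) ≠ 1 := by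
  haveI : NeZero (2 ^ n) := ⟨by positivity⟩
  haveI : NeZero (2 * 2 ^ n) := ⟨by positivity⟩
  have hpos : 0 < 2 ^ n := by positivity
  have hne : (.a (2 ^ n : ℕ) : QuaternionGroup (2 ^ n)) ≠ 1 := by
    rw [QuaternionGroup.one_def]
    intro h
    have h1 := (ZMod.natCast_eq_zero_iff _ _).1 (QuaternionGroup.a.inj h)
    have := Nat.le_of_dvd hpos h1
    omega
  refine ⟨fun x hx => ?_, ⟨.a (2 ^ (n - 1) : ℕ), .xa 0, ?_⟩, hne⟩
  · cases x with
    | a i =>
      rw [QuaternionGroup.a_mul_a, QuaternionGroup.one_def] at hx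
      have h1 := QuaternionGroup.a.inj hx
      have h2 : ((2 * i.val : ℕ) : ZMod (2 * 2 ^ n)) = 0 := by
        rw [show 2 * i.val = i.val + i.val by omega, Nat.cast_add, ZMod.natCast_zmod_val]; exact h1
      rw [ZMod.natCast_eq_zero_iff] at h2
      obtain ⟨c, hc⟩ := Nat.dvd_of_mul_dvd_mul_left two_pos h2
      have hlt := ZMod.val_lt i
      have hc2 : c < 2 := by
        by_contra h
        nlinarith
      interval_cases c
      · left
        rw [QuaternionGroup.one_def, ← ZMod.natCast_zmod_val i, hc, mul_zero, Nat.cast_zero]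
      · right
        rw [← ZMod.natCast_zmod_val i, hc, mul_one]
    | xa i =>
      rw [QuaternionGroup.xa_mul_xa, add_sub_cancel_right] at hx
      exact absurd hx hne
  · show (QuaternionGroup.a ((2 ^ (n - 1) : ℕ) : ZMod (2 * 2 ^ n))) * QuaternionGroup.xa 0 *
      QuaternionGroup.a (-((2 ^ (n - 1) : ℕ) : ZMod (2 * 2 ^ n))) *
      QuaternionGroup.xa (((2 ^ n : ℕ) : ZMod (2 * 2 ^ n)) + 0) = _
    rw [QuaternionGroup.a_mul_xa, QuaternionGroup.xa_mul_a, QuaternionGroup.xa_mul_xa]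
    congr 1
    have h2 : 2 ^ n = 2 ^ (n - 1) + 2 ^ (n - 1) := by
      rw [← two_mul, ← pow_succ', Nat.sub_add_cancel hn]
    have h4 : ((2 ^ n : ℕ) : ZMod (2 * 2 ^ n)) + ((2 ^ n : ℕ) : ZMod (2 * 2 ^ n)) = 0 := by
      rw [← Nat.cast_add, ZMod.natCast_eq_zero_iff, two_mul]
    have h3 := congrArg (fun k : ℕ => (k : ZMod (2 * 2 ^ n))) h2
    simp only [Nat.cast_add] at h3
    linear_combination h4 - h3

/-- Let G be a finite group whose Sylow 2-subgroup S is an internal direct product Q × R with Q generalized quaternion (of order at least 8) and R a subgroup all of whose involutions are central in R. Then G is not simple. In particular no finite simple group has a Sylow 2-subgroup that is a direct product of one or more generalized quaternion groups. -/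
theorem result {G : Type*} [Group G] [Finite G]
    (S : Sylow 2 G) (Q R : Subgroup G) (hQR : Cfsg.IsInternalDirectProduct Q R (S : Subgroup G))
    (n : ℕ) (hn : 1 ≤ n) (eQ : ↥Q ≃* QuaternionGroup (2 ^ n))
    (hR : ∀ r ∈ R, orderOf r = 2 → ∀ s ∈ R, r * s = s * r) :
    ¬ IsSimpleGroup G := by
  classical
  intro hsimp
  haveI : Fact (Nat.Prime 2) := ⟨Nat.prime_two⟩
  obtain ⟨hQS, hRS, hcom, hdisj, hsup⟩ := hQR
  obtain ⟨hq2, ⟨qx, qy, hxy⟩, hzne⟩ := quat_facts n hn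
  set zq : ↥Q := eQ.symm (.a (2 ^ n : ℕ)) with hzq
  set z : G := (zq : G) with hz
  have hz1 : z ≠ 1 := fun h => hzne (eQ.symm.injective (by
    rw [map_one]; exact Subtype.ext h))
  have hzQ : z ∈ Q := zq.2
  have hQsq : ∀ a ∈ Q, a * a = 1 → a = 1 ∨ a = z := by
    intro a ha h
    rcases hq2 (eQ ⟨a, ha⟩) (by rw [← map_mul, show (⟨a, ha⟩ * ⟨a, ha⟩ : ↥Q) = 1 from Subtype.ext h,
      map_one]) with h1 | h1
    · exact Or.inl (congrArg Subtype.val (eQ.injective (h1.trans (map_one eQ).symm)))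
    · refine Or.inr ?_
      rw [hz, hzq, ← h1, MulEquiv.symm_apply_apply]
  have hzcomm : ∃ x ∈ Q, ∃ y ∈ Q, x * y * x⁻¹ * y⁻¹ = z := by
    refine ⟨_, (eQ.symm qx).2, _, (eQ.symm qy).2, ?_⟩
    rw [hz, hzq, ← hxy]
    simp
  have hz2 : z * z = 1 := by
    have h1 : (zq * zq : ↥Q) = 1 := by
      refine eQ.injective ?_
      rw [map_mul, map_one, hzq, MulEquiv.apply_symm_apply, QuaternionGroup.a_mul_a,
        QuaternionGroup.one_def, ← Nat.cast_add]
      congr 1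
      rw [ZMod.natCast_eq_zero_iff, two_mul]
    exact congrArg Subtype.val h1
  -- elements of `S` are products `a * b`
  have hdec : ∀ s ∈ (S : Subgroup G), ∃ a ∈ Q, ∃ b ∈ R, s = a * b := by
    intro s hs
    have hc : ∀ (a : ↥Q) (b : ↥R), Commute (Q.subtype a) (R.subtype b) :=
      fun a b => hcom a a.2 b b.2
    have hr : (MonoidHom.noncommCoprod Q.subtype R.subtype hc).range = (S : Subgroup G) := by
      rw [MonoidHom.noncommCoprod_range, Subgroup.range_subtype, Subgroup.range_subtype, hsup]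
    rw [← hr] at hs
    obtain ⟨⟨a, b⟩, rfl⟩ := hs
    exact ⟨a, a.2, b, b.2, rfl⟩
  have huniq : ∀ a ∈ Q, ∀ b ∈ R, ∀ a' ∈ Q, ∀ b' ∈ R, a * b = a' * b' → a = a' ∧ b = b' := by
    intro a ha b hb a' ha' b' hb' h
    have h1 : a'⁻¹ * a = b' * b⁻¹ := by
      rw [eq_mul_inv_iff_mul_eq, mul_assoc, h, inv_mul_cancel_left]
    have h2 : a'⁻¹ * a ∈ Q ⊓ R := ⟨Q.mul_mem (Q.inv_mem ha') ha, h1 ▸ R.mul_mem hb' (R.inv_mem hb)⟩
    rw [hdisj, Subgroup.mem_bot, inv_mul_eq_one] at h2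
    exact ⟨h2.symm, mul_left_cancel (a := a) (by rw [h, h2])⟩
  have hmul : ∀ a ∈ Q, ∀ b ∈ R, ∀ a' ∈ Q, ∀ b' ∈ R, a * b * (a' * b') = a * a' * (b * b') :=
    fun a _ b hb a' ha' b' _ => by
      rw [mul_assoc, ← mul_assoc b, ← hcom a' ha' b hb, mul_assoc, ← mul_assoc]
  -- every involution of `S` is central in `S`
  have hcent : ∀ x ∈ (S : Subgroup G), x * x = 1 → ∀ s ∈ (S : Subgroup G), s * x = x * s := by
    intro x hx hxx s hs
    obtain ⟨a, ha, b, hb, rfl⟩ := hdec x hx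
    rw [hmul a ha b hb a ha b hb] at hxx
    obtain ⟨haa, hbb⟩ := huniq _ (mul_mem ha ha) _ (mul_mem hb hb) 1 (one_mem Q) 1 (one_mem R)
      (hxx.trans (one_mul 1).symm)
    obtain ⟨a', ha', b', hb', rfl⟩ := hdec s hs
    have hac : a' * a = a * a' := by
      rcases hQsq a ha haa with rfl | rfl
      · simp
      · -- `z` is central in `Q`
        have hconj : a' * z * a'⁻¹ = z := by
          refine (hQsq _ (mul_mem (mul_mem ha' hzQ) (inv_mem ha')) ?_).resolve_left ?_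
          · rw [show a' * z * a'⁻¹ * (a' * z * a'⁻¹) = a' * (z * z) * a'⁻¹ by group, hz2]; group
          · intro h
            exact hz1 (by rwa [conj_eq_one_iff] at h)
        exact mul_inv_eq_iff_eq_mul.1 hconj
    have hbc : b' * b = b * b' := by
      by_cases hb1 : b = 1
      · simp [hb1]
      · exact (hR b hb (Involution.orderOf_of_sq hbb hb1) b' hb').symm
    rw [hmul a' ha' b' hb' a ha b hb, hmul a ha b hb a' ha' b' hb', hac, hbc]
  -- the orbit of `z`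
  set N := Subgroup.normalizer ((S : Subgroup G) : Set G) with hN
  have hnS : ∀ g ∈ N, ∀ s ∈ (S : Subgroup G), g * s * g⁻¹ ∈ (S : Subgroup G) := fun g hg s hs =>
    (Subgroup.mem_normalizer_iff.1 hg s).1 hs
  have horb : ∀ g ∈ N, g * z * g⁻¹ ∈ R ∨ g * z * g⁻¹ = z := by
    intro g hg
    obtain ⟨a, ha, b, hb, hab⟩ := hdec _ (hnS g hg z (hQS hzQ))
    have hvv : g * z * g⁻¹ * (g * z * g⁻¹) = 1 := by
      rw [show g * z * g⁻¹ * (g * z * g⁻¹) = g * (z * z) * g⁻¹ by group, hz2]; group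
    rw [hab, hmul a ha b hb a ha b hb] at hvv
    obtain ⟨haa, -⟩ := huniq _ (mul_mem ha ha) _ (mul_mem hb hb) 1 (one_mem Q) 1 (one_mem R)
      (hvv.trans (one_mul 1).symm)
    rcases hQsq a ha haa with rfl | rfl
    · left; rw [hab, one_mul]; exact hb
    right
    -- the image of `Q` misses `R`
    have hmiss : ∀ x ∈ Q, g * x * g⁻¹ ∈ R → x = 1 := by
      intro x hx hxR
      by_contra hx1
      have hx2 : ∃ k : ℕ, x ^ k = z := by
        obtain ⟨e, he⟩ := IsPGroup.iff_orderOf.1 (S.isPGroup'.to_le hQS) (⟨x, hx⟩ : ↥Q)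
        rw [← Subgroup.orderOf_coe] at he
        rcases e with _ | e
        · exact absurd (orderOf_eq_one_iff.1 he) hx1
        refine ⟨2 ^ e, (hQsq _ (pow_mem hx _) ?_).resolve_left ?_⟩
        · rw [← pow_add, ← two_mul, ← pow_succ', ← he, pow_orderOf_eq_one]
        · exact pow_ne_one_of_lt_orderOf (by positivity) (by
            rw [he]; exact Nat.pow_lt_pow_right one_lt_two (by omega))
      obtain ⟨k, hk⟩ := hx2
      have h1 : g * z * g⁻¹ ∈ R := by rw [← hk, ← conj_pow]; exact pow_mem hxR k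
      exact hz1 (huniq z hzQ b hb 1 (one_mem Q) _ h1 (by rw [one_mul, hab])).1
    have hcentR : ∀ x ∈ Q, ∀ a₁ ∈ Q, ∀ b₁ ∈ R, g * x * g⁻¹ = a₁ * b₁ → ∀ r ∈ R, r * b₁ = b₁ * r := by
      intro x hx a₁ ha₁ b₁ hb₁ he r hr
      have hr' : g⁻¹ * r * g ∈ (S : Subgroup G) := by
        simpa using hnS g⁻¹ (inv_mem hg) r (hRS hr)
      obtain ⟨a₂, ha₂, b₂, hb₂, he₂⟩ := hdec _ hr'
      have hmem : g⁻¹ * r * g * x * (g⁻¹ * r * g)⁻¹ * x⁻¹ ∈ Q := by
        rw [he₂, show a₂ * b₂ * x * (a₂ * b₂)⁻¹ * x⁻¹ = a₂ * (b₂ * x) * b₂⁻¹ * a₂⁻¹ * x⁻¹ by group,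
          ← hcom x hx b₂ hb₂, show a₂ * (x * b₂) * b₂⁻¹ * a₂⁻¹ * x⁻¹ = a₂ * x * a₂⁻¹ * x⁻¹ by group]
        exact mul_mem (mul_mem (mul_mem ha₂ hx) (inv_mem ha₂)) (inv_mem hx)
      have hval : g * (g⁻¹ * r * g * x * (g⁻¹ * r * g)⁻¹ * x⁻¹) * g⁻¹ = r * b₁ * r⁻¹ * b₁⁻¹ := by
        rw [show g * (g⁻¹ * r * g * x * (g⁻¹ * r * g)⁻¹ * x⁻¹) * g⁻¹ =
          r * (g * x * g⁻¹) * r⁻¹ * (g * x * g⁻¹)⁻¹ by group, he,
          show r * (a₁ * b₁) * r⁻¹ * (a₁ * b₁)⁻¹ = r * a₁ * (b₁ * r⁻¹ * b₁⁻¹) * a₁⁻¹ by group,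
          ← hcom a₁ ha₁ r hr, mul_assoc a₁ r, hcom a₁ ha₁ (r * (b₁ * r⁻¹ * b₁⁻¹))
            (mul_mem hr (mul_mem (mul_mem hb₁ (inv_mem hr)) (inv_mem hb₁)))]
        group
      have h0 := hmiss _ hmem (hval ▸ mul_mem (mul_mem (mul_mem hr hb₁) (inv_mem hr)) (inv_mem hb₁))
      rw [h0, mul_one, mul_inv_cancel] at hval
      exact mul_inv_eq_iff_eq_mul.1 (mul_inv_eq_one.1 hval.symm)
    obtain ⟨x, hx, y, hy, hxyz⟩ := hzcomm
    obtain ⟨a₁, ha₁, b₁, hb₁, e₁⟩ := hdec _ (hnS g hg x (hQS hx))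
    obtain ⟨a₂, ha₂, b₂, hb₂, e₂⟩ := hdec _ (hnS g hg y (hQS hy))
    have hbb : b₁ * b₂ = b₂ * b₁ := (hcentR x hx a₁ ha₁ b₁ hb₁ e₁ b₂ hb₂).symm
    have hv : g * z * g⁻¹ = a₁ * a₂ * a₁⁻¹ * a₂⁻¹ := by
      rw [← hxyz, show g * (x * y * x⁻¹ * y⁻¹) * g⁻¹ =
        (g * x * g⁻¹) * (g * y * g⁻¹) * (g * x * g⁻¹)⁻¹ * (g * y * g⁻¹)⁻¹ by group, e₁, e₂,
        show a₁ * b₁ * (a₂ * b₂) * (a₁ * b₁)⁻¹ * (a₂ * b₂)⁻¹ =
          a₁ * b₁ * (a₂ * b₂) * (a₂ * b₂ * (a₁ * b₁))⁻¹ by group,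
        hmul a₁ ha₁ b₁ hb₁ a₂ ha₂ b₂ hb₂, hmul a₂ ha₂ b₂ hb₂ a₁ ha₁ b₁ hb₁, hbb]
      group
    have hb0 := (huniq z hzQ b hb (a₁ * a₂ * a₁⁻¹ * a₂⁻¹)
      (mul_mem (mul_mem (mul_mem ha₁ ha₂) (inv_mem ha₁)) (inv_mem ha₂)) 1 (one_mem R)
      (by rw [mul_one, ← hv, hab])).2
    rw [hab, hb0, mul_one]
  -- the product of the orbit is isolated
  let Z : Subgroup G := (S : Subgroup G) ⊓ Subgroup.centralizer ((S : Subgroup G) : Set G)
  haveI hZc : IsMulCommutative Z := ⟨⟨fun u v => Subtype.ext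
    (Subgroup.mem_centralizer_iff.1 v.2.2 u u.2.1)⟩⟩
  letI : CommGroup Z := { (inferInstance : Group Z) with mul_comm := fun u v => hZc.is_comm.comm u v }
  haveI := Fintype.ofFinite G
  have hsq : ∀ g : G, g * z * g⁻¹ * (g * z * g⁻¹) = 1 := fun g => by
    rw [show g * z * g⁻¹ * (g * z * g⁻¹) = g * (z * z) * g⁻¹ by group, hz2]; group
  have hmemZ : ∀ g ∈ N, g * z * g⁻¹ ∈ Z := fun g hg =>
    ⟨hnS g hg z (hQS hzQ), Subgroup.mem_centralizer_iff.2
      fun s hs => hcent _ (hnS g hg z (hQS hzQ)) (hsq g) s hs⟩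
  have hzZ : z ∈ Z := by simpa using hmemZ 1 (one_mem N)
  set O : Finset Z := Finset.univ.filter fun v => ∃ g ∈ N, g * z * g⁻¹ = (v : G) with hO
  have hOmem : ∀ v, v ∈ O ↔ ∃ g ∈ N, g * z * g⁻¹ = (v : G) := fun v => by simp [hO]
  have hzO : (⟨z, hzZ⟩ : Z) ∈ O := (hOmem _).2 ⟨1, one_mem N, by simp⟩
  set w : Z := ∏ v ∈ O, v with hw
  have hwR : ∃ r ∈ R, (w : G) = z * r := by
    refine ⟨((∏ v ∈ O.erase ⟨z, hzZ⟩, v : Z) : G), ?_, ?_⟩
    · refine Subgroup.mem_subgroupOf.1 (Subgroup.prod_mem (R.subgroupOf Z) fun v hv => ?_)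
      obtain ⟨hv1, hv2⟩ := Finset.mem_erase.1 hv
      obtain ⟨g, hg, he⟩ := (hOmem v).1 hv2
      refine Subgroup.mem_subgroupOf.2 (he ▸ (horb g hg).resolve_right fun h => hv1 ?_)
      exact Subtype.ext (he.symm.trans h)
    · rw [hw, ← Finset.mul_prod_erase O _ hzO, Subgroup.coe_mul]
  have hwne : (w : G) ≠ 1 := by
    obtain ⟨r, hr, he⟩ := hwR
    intro h
    exact hz1 (huniq z hzQ r hr 1 (one_mem Q) 1 (one_mem R) (by rw [← he, h, one_mul])).1
  have hw2 : (w : G) * w = 1 := by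
    have : w * w = 1 := by
      rw [hw, ← Finset.prod_mul_distrib]
      refine Finset.prod_eq_one fun v hv => Subtype.ext ?_
      obtain ⟨g, hg, he⟩ := (hOmem v).1 hv
      show (v : G) * (v : G) = 1
      rw [← he, hsq g]
    exact congrArg Subtype.val this
  have hwfix : ∀ g ∈ N, g * (w : G) * g⁻¹ = w := by
    intro g hg
    have hZg : ∀ v : Z, g * (v : G) * g⁻¹ ∈ Z := by
      rintro ⟨v, hv1, hv2⟩
      refine ⟨hnS g hg v hv1, Subgroup.mem_centralizer_iff.2 fun s hs => ?_⟩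
      have hs' : g⁻¹ * s * g ∈ (S : Subgroup G) := by simpa using hnS g⁻¹ (inv_mem hg) s hs
      have h1 := Subgroup.mem_centralizer_iff.1 hv2 (g⁻¹ * s * g) hs' 
      calc s * (g * v * g⁻¹) = g * (g⁻¹ * s * g * v) * g⁻¹ := by group
        _ = g * (v * (g⁻¹ * s * g)) * g⁻¹ := by rw [h1]
        _ = g * v * g⁻¹ * s := by group
    let φ : Z →* Z := MonoidHom.mk' (fun v => ⟨g * v * g⁻¹, hZg v⟩)
      fun u v => Subtype.ext (by simp [mul_assoc])
    have hinj : Function.Injective φ := fun u v h =>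
      Subtype.ext (mul_left_cancel (mul_right_cancel (congrArg Subtype.val h)))
    have himg : O.image φ = O := by
      refine Finset.eq_of_subset_of_card_le (fun v hv => ?_)
        (Finset.card_image_of_injective O hinj).ge
      obtain ⟨u, hu, rfl⟩ := Finset.mem_image.1 hv
      obtain ⟨k, hk, he⟩ := (hOmem u).1 hu
      refine (hOmem _).2 ⟨g * k, mul_mem hg hk, ?_⟩
      show _ = g * (u : G) * g⁻¹
      rw [← he]; group
    have h1 : φ w = w := by
      conv_rhs => rw [hw, ← himg, Finset.prod_image fun u _ v _ h => hinj h]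
      rw [hw, map_prod]
    exact congrArg Subtype.val h1
  have hiso : IsIsolatedInvolution (w : G) := by
    refine ZStar.isolated_of_sylow S (Involution.orderOf_of_sq hw2 hwne) w.2.1 fun g hg => ?_
    have hmem : ((g⁻¹)⁻¹ * (w : G) * g⁻¹) ∈ Subgroup.centralizer ((S : Subgroup G) : Set G) := by
      rw [inv_inv]
      refine Subgroup.mem_centralizer_iff.2 fun s hs => hcent _ hg ?_ s hs
      rw [show g * (w : G) * g⁻¹ * (g * w * g⁻¹) = g * ((w : G) * w) * g⁻¹ by group, hw2]; group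
    obtain ⟨m, hm, he⟩ := Sylow.conj_eq_normalizer_conj_of_mem_centralizer S (w : G) g⁻¹ w.2.2 hmem
    rw [inv_inv] at he
    rw [he]
    simpa using hwfix m⁻¹ (inv_mem hm)
  have hcore : pPrimeCore 2 G = ⊥ := by
    rcases Subgroup.Normal.eq_bot_or_eq_top (Cores.pPrimeCore_normal 2 G) with h | h
    · exact h
    · exfalso
      have h1 := Cores.coprime_card_pPrimeCore (G := G) 2
      rw [h, Subgroup.card_top] at h1
      have h2 : orderOf z ∣ Nat.card G := orderOf_dvd_natCard z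
      rw [Involution.orderOf_of_sq hz2 hz1] at h2
      exact Nat.prime_two.coprime_iff_not_dvd.1 h1.symm h2
  have hcen : (w : G) ∈ Subgroup.center G := Subgroup.mem_center_iff.2 fun g => by
    have h1 := ZStar.zStar_of_brauerSuzuki ZStar.uniqueInvolution hiso g
    rw [hcore, Subgroup.mem_bot, mul_inv_eq_one, mul_inv_eq_iff_eq_mul] at h1
    exact h1.symm
  rcases Subgroup.Normal.eq_bot_or_eq_top (inferInstance : (Subgroup.center G).Normal) with h | h
  · exact hwne (Subgroup.mem_bot.1 (h ▸ hcen))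
  · obtain ⟨x, hx, y, hy, hxyz⟩ := hzcomm
    have h1 : y * x = x * y := Subgroup.mem_center_iff.1 (h ▸ Subgroup.mem_top x) y
    apply hz1
    rw [← hxyz, ← h1]
    group

end Cfsg.Agent.S3269
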