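import Cfsg.Statements.S3276
import Cfsg.Agent.EqLemmas

set_option autoImplicit false
open Cfsg

namespace Cfsg.Agent.S3276

/-- Let x and y be commuting, non-conjugate involutions of a finite group G, and suppose that for every involution u commuting with x, each conjugate of y that commutes with u also commutes with y. Then the normal closure of y is a proper, normal, elementary abelian 2-subgroup of G; and if y is the only involution of that normal closure commuting with x, it has order at most 4. -/
theorem result {G : Type*} [Group G] [Finite G] (x y : G) (hx : orderOf x = 2) (hy : orderOf y = 2)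
    (hxy : Commute x y) (hnc : ¬ IsConj x y)
    (hstar : ∀ u : G, orderOf u = 2 → Commute u x → ∀ g : G, Commute (g * y * g⁻¹) u → Commute (g * y * g⁻¹) y) :
    Subgroup.normalClosure ({y} : Set G) ≠ ⊤ ∧ Cfsg.IsElementaryAbelian 2 (Subgroup.normalClosure ({y} : Set G)) ∧
      ((∀ u ∈ Subgroup.normalClosure ({y} : Set G), orderOf u = 2 → Commute u x → u = y) →
        Nat.card ↥(Subgroup.normalClosure ({y} : Set G)) ≤ 4) := by
  classical
  have hx2 : x * x = 1 := by simpa [hx, pow_two] using pow_orderOf_eq_one x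
  have hy2 : y * y = 1 := by simpa [hy, pow_two] using pow_orderOf_eq_one y
  have hx1 : x ≠ 1 := fun h => by simp [h] at hx
  have hy1 : y ≠ 1 := fun h => by simp [h] at hy
  have hxi : x⁻¹ = x := inv_eq_of_mul_eq_one_right hx2
  have key : ∀ g : G, Commute (g * y * g⁻¹) y := by
    intro g
    set w := g * y * g⁻¹ with hw
    have hw2 : w * w = 1 := by
      rw [hw]
      calc g * y * g⁻¹ * (g * y * g⁻¹) = g * (y * y) * g⁻¹ := by group
        _ = 1 := by rw [hy2]; group
    have hwi : w⁻¹ = w := inv_eq_of_mul_eq_one_right hw2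
    set d := x * w with hd
    have hwd : w = x * d := by rw [hd, ← mul_assoc, hx2, one_mul]
    have hconjx : ∀ k : ℕ, x * d ^ k * x = (d ^ k)⁻¹ := by
      intro k
      have h0 : x * d * x⁻¹ = d⁻¹ := by
        rw [hxi, hd, mul_inv_rev, hwi, hxi, ← mul_assoc, hx2, one_mul]
      have := conj_pow (i := k) (a := x) (b := d)
      rw [h0, inv_pow, hxi] at this
      exact this.symm
    rcases Nat.even_or_odd' (orderOf d) with ⟨k, hk | hk⟩
    · have hpos := orderOf_pos d
      set u := d ^ k with hu
      have hu2 : u * u = 1 := by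
        rw [hu, ← pow_add, ← two_mul, ← hk, pow_orderOf_eq_one]
      have hu1 : u ≠ 1 := pow_ne_one_of_lt_orderOf (by omega) (by omega)
      have huo : orderOf u = 2 := orderOf_eq_prime (by rw [pow_two]; exact hu2) hu1
      have hux : Commute u x := by
        show u * x = x * u
        have h1 : x * u * x = u := by
          rw [hu, hconjx, inv_eq_of_mul_eq_one_right hu2]
        calc u * x = x * u * x * x := by rw [h1]
          _ = x * u := by rw [mul_assoc, hx2, mul_one]
      have huw : Commute w u := by
        rw [hwd]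
        exact hux.symm.mul_left ((Commute.refl d).pow_right k)
      exact hstar u huo hux g huw
    · exfalso
      apply hnc
      have hodd : d ^ (2 * k + 1) = 1 := by rw [← hk, pow_orderOf_eq_one]
      have hxw : (d ^ k) * x * (d ^ k)⁻¹ = w := by
        rw [← hconjx k, show d ^ k * x * (x * d ^ k * x) = d ^ k * (x * x) * d ^ k * x by group,
          hx2, mul_one, ← pow_add, ← two_mul]
        have h2 : d ^ (2 * k) = d⁻¹ := eq_inv_of_mul_eq_one_left (by rw [← pow_succ]; exact hodd)
        rw [h2, hd, mul_inv_rev, hwi, hxi, mul_assoc, hx2, mul_one]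
      exact isConj_iff.mpr ⟨g⁻¹ * d ^ k, by
        calc g⁻¹ * d ^ k * x * (g⁻¹ * d ^ k)⁻¹ = g⁻¹ * (d ^ k * x * (d ^ k)⁻¹) * g := by group
          _ = y := by rw [hxw, hw]; group⟩
  have hmemconj : ∀ a ∈ Group.conjugatesOfSet ({y} : Set G), ∃ g : G, g * y * g⁻¹ = a := by
    intro a ha
    rw [Group.mem_conjugatesOfSet_iff] at ha
    obtain ⟨a', rfl, ha⟩ := ha
    exact isConj_iff.mp ha
  have keycomm : ∀ a ∈ Group.conjugatesOfSet ({y} : Set G), ∀ b ∈ Group.conjugatesOfSet ({y} : Set G),
      a * b = b * a := by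
    intro a ha b hb
    obtain ⟨g, rfl⟩ := hmemconj a ha
    obtain ⟨h, rfl⟩ := hmemconj b hb
    have h1 := (key (g⁻¹ * h)).eq
    calc g * y * g⁻¹ * (h * y * h⁻¹)
        = g * (y * (g⁻¹ * h * y * (g⁻¹ * h)⁻¹)) * g⁻¹ := by group
      _ = g * ((g⁻¹ * h * y * (g⁻¹ * h)⁻¹) * y) * g⁻¹ := by rw [h1]
      _ = h * y * h⁻¹ * (g * y * g⁻¹) := by group
  haveI hab : IsMulCommutative ↥(Subgroup.normalClosure ({y} : Set G)) :=
    Subgroup.isMulCommutative_closure keycomm
  set V := Subgroup.normalClosure ({y} : Set G) with hV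
  have hcom : ∀ a ∈ V, ∀ b ∈ V, a * b = b * a := fun a ha b hb =>
    congrArg Subtype.val (mul_comm' (⟨a, ha⟩ : ↥V) ⟨b, hb⟩)
  have hsq : ∀ a ∈ V, a ^ 2 = 1 := by
    intro a ha
    refine Subgroup.closure_induction (p := fun a _ => a ^ 2 = 1) ?_ (one_pow 2) ?_ ?_ ha
    · intro a ha
      obtain ⟨g, rfl⟩ := hmemconj a ha
      rw [conj_pow, pow_two, hy2]
      group
    · intro a b ha hb iha ihb
      rw [(show Commute a b from hcom a ha b hb).mul_pow, iha, ihb, one_mul]
    · intro a _ iha
      rw [inv_pow, iha, inv_one]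
  refine ⟨?_, ⟨hab, hsq⟩, ?_⟩
  · intro htop
    have hc : ∀ a b : G, a * b = b * a := fun a b =>
      hcom a (htop ▸ Subgroup.mem_top a) b (htop ▸ Subgroup.mem_top b)
    haveI hzn : (Subgroup.zpowers y).Normal :=
      ⟨fun n hn g => by rw [hc g n, mul_assoc, mul_inv_cancel, mul_one]; exact hn⟩
    have hle : V ≤ Subgroup.zpowers y := Subgroup.normalClosure_le_normal (by simp)
    have hxm : x ∈ Subgroup.zpowers y := hle (htop ▸ Subgroup.mem_top x)
    obtain ⟨i, hi⟩ := Submonoid.mem_powers_iff _ _ |>.mp (mem_powers_iff_mem_zpowers.mpr hxm)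
    rw [← pow_mod_orderOf, hy] at hi
    rcases Nat.mod_two_eq_zero_or_one i with h | h <;> rw [h] at hi
    · simp at hi; exact hx1 hi.symm
    · simp at hi; exact hnc (hi ▸ IsConj.refl x)
  · intro hu
    have hyV : y ∈ V := Subgroup.subset_normalClosure rfl
    have hVn : V.Normal := Subgroup.normalClosure_normal
    have hfV : ∀ a ∈ V, x * a * x ∈ V := fun a ha => by
      have := hVn.conj_mem a ha x
      rwa [hxi] at this
    let f : ↥V →* G :=
      { toFun := fun v => (v : G) * (x * (v : G) * x)
        map_one' := by simp [hx2]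
        map_mul' := fun a b => by
          have h1 := hcom _ b.2 _ (hfV _ a.2)
          simp only [Subgroup.coe_mul]
          calc (a : G) * b * (x * ((a : G) * b) * x)
              = (a : G) * ((b : G) * (x * a * (x * x))) * b * x := by rw [hx2]; group
            _ = (a : G) * ((b : G) * (x * a * x)) * (x * b * x) := by group
            _ = _ := by rw [h1]; group }
    have hfix : ∀ a ∈ V, x * a * x = a → a = 1 ∨ a = y := by
      intro a ha hax
      by_cases h1 : a = 1
      · exact Or.inl h1
      · refine Or.inr (hu a ha (orderOf_eq_prime (hsq a ha) h1) ?_)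
        show a * x = x * a
        calc a * x = x * a * x * x := by rw [hax]
          _ = x * a := by rw [mul_assoc, hx2, mul_one]
    have hsmall : ∀ K : Subgroup G, (∀ v ∈ K, v = 1 ∨ v = y) → Nat.card ↥K ≤ 2 := by
      intro K hK
      calc Nat.card ↥K ≤ Nat.card ↥({1, y} : Set G) :=
            Nat.card_le_card_of_injective (fun v => (⟨(v : G), by simpa using hK v v.2⟩ : ↥({1, y} : Set G)))
              (fun a b hab => Subtype.ext (congrArg (fun u : ↥({1, y} : Set G) => (u : G)) hab))
        _ ≤ 2 := by
            rw [Nat.card_coe_set_eq]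
            exact (Set.ncard_insert_le _ _).trans (by simp)
    have hker : Nat.card ↥f.ker ≤ 2 := by
      rw [Nat.card_congr (f.ker.equivMapOfInjective V.subtype V.subtype_injective).toEquiv]
      refine hsmall _ ?_
      rintro _ ⟨v, hv, rfl⟩
      apply hfix _ v.2
      have h1 : (v : G) * (x * v * x) = 1 := hv
      have h2 := hsq _ v.2
      rw [pow_two] at h2
      exact mul_left_cancel (h1.trans h2.symm)
    have hran : Nat.card ↥f.range ≤ 2 := by
      refine hsmall _ ?_
      rintro _ ⟨v, rfl⟩
      apply hfix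
      · exact mul_mem v.2 (hfV _ v.2)
      · show x * ((v : G) * (x * v * x)) * x = (v : G) * (x * v * x)
        calc x * ((v : G) * (x * v * x)) * x = (x * v * x) * (v * (x * x)) := by group
          _ = _ := by rw [hx2, mul_one, hcom _ (hfV _ v.2) _ v.2]
    have h := f.ker.card_mul_index
    rw [Subgroup.index_ker] at h
    calc Nat.card ↥V = Nat.card ↥f.ker * Nat.card ↥f.range := h.symm
      _ ≤ 2 * 2 := Nat.mul_le_mul hker hran

end Cfsg.Agent.S3276
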