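import Cfsg.Statements.S3279
import Cfsg.Agent.Lib.ZStar.Unique
import Cfsg.Agent.Lib.ZStar.Glauberman
import Cfsg.Agent.Lib.Involution.Basic

set_option autoImplicit false
open Cfsg

namespace Cfsg.Agent.S3279


section

variable {G : Type*} [Group G] [Finite G] [IsSimpleGroup G]

theorem all_eq_of_comm (hab : ∀ a b : G, a * b = b * a) {u v : G} (hu : orderOf u = 2) (hv : orderOf v = 2) :
    u = v := by
  have hn : (Subgroup.zpowers u).Normal := ⟨fun m hm g => by rwa [hab g m, mul_inv_cancel_right]⟩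
  rcases hn.eq_bot_or_eq_top with h | h
  · exact absurd (Subgroup.zpowers_eq_bot.1 h) (Involution.ne_one hu)
  · obtain ⟨i, rfl⟩ := Subgroup.mem_zpowers_iff.1 (h ▸ Subgroup.mem_top v : v ∈ Subgroup.zpowers u)
    rcases Int.emod_two_eq i with hi | hi <;> rw [← zpow_mod_orderOf, hu] at hv <;> simp [hi] at hv ⊢
    rw [← zpow_mod_orderOf, hu]
    simp [hi]

theorem all_eq_of_isolated {z : G} (hz : IsIsolatedInvolution z) {u v : G} (hu : orderOf u = 2)
    (hv : orderOf v = 2) : u = v := by
  rcases (Cores.pPrimeCore_normal 2 G).eq_bot_or_eq_top with h | h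
  · refine all_eq_of_comm (fun a b => ?_) hu hv
    have hzc : z ∈ Subgroup.center G := by
      refine Subgroup.mem_center_iff.2 fun g => ?_
      have h1 := ZStar.zStar_of_brauerSuzuki ZStar.uniqueInvolution hz g
      rw [h, Subgroup.mem_bot, mul_inv_eq_one, mul_inv_eq_iff_eq_mul] at h1
      exact h1.symm
    rcases (inferInstance : (Subgroup.center G).Normal).eq_bot_or_eq_top with h' | h'
    · rw [h', Subgroup.mem_bot] at hzc
      exact absurd hzc (Involution.ne_one hz.1)
    · exact (Subgroup.mem_center_iff.1 (h' ▸ Subgroup.mem_top b : b ∈ Subgroup.center G) a)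
  · have hc := Cores.coprime_card_pPrimeCore (G := G) 2
    rw [h, Subgroup.card_top] at hc
    have h2 : (2 : ℕ) ∣ Nat.card G := hu ▸ orderOf_dvd_natCard u
    exact absurd (Nat.eq_one_of_dvd_coprimes hc h2 dvd_rfl) (by norm_num)

/-- Three involutions commute with `x`: they are all of them. -/
theorem eq_of_three {x : G} (h3 : Nat.card {u : ↥(Subgroup.centralizer ({x} : Set G)) // orderOf u = 2} ≤ 3)
    {a b c d : G} (ha : orderOf a = 2) (hb : orderOf b = 2) (hc : orderOf c = 2) (hd : orderOf d = 2)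
    (hax : Commute a x) (hbx : Commute b x) (hcx : Commute c x) (hdx : Commute d x) (hab : a ≠ b) (hac : a ≠ c)
    (hbc : b ≠ c) : d = a ∨ d = b ∨ d = c := by
  classical
  by_contra hne
  push Not at hne
  set T : Finset G := {a, b, c, d}
  have hT : ∀ t ∈ T, orderOf t = 2 ∧ Commute t x := by
    intro t ht
    rcases Finset.mem_insert.1 ht with rfl | ht
    · exact ⟨ha, hax⟩
    rcases Finset.mem_insert.1 ht with rfl | ht
    · exact ⟨hb, hbx⟩
    rcases Finset.mem_insert.1 ht with rfl | ht
    · exact ⟨hc, hcx⟩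
    obtain rfl := Finset.mem_singleton.1 ht
    exact ⟨hd, hdx⟩
  let f : T → {u : ↥(Subgroup.centralizer ({x} : Set G)) // orderOf u = 2} := fun t =>
    ⟨⟨t.1, Subgroup.mem_centralizer_singleton_iff.2 (hT t.1 t.2).2⟩, by
      rw [← Subgroup.orderOf_coe]; exact (hT t.1 t.2).1⟩
  have hf : Function.Injective f := fun s t h =>
    Subtype.ext (congrArg (fun u : {u : ↥(Subgroup.centralizer ({x} : Set G)) // orderOf u = 2} => (u.1 : G)) h)
  have h4 := (Nat.card_le_card_of_injective f hf).trans h3
  rw [Nat.card_eq_finsetCard, Finset.card_insert_of_notMem, Finset.card_insert_of_notMem,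
    Finset.card_insert_of_notMem, Finset.card_singleton] at h4
  · omega
  · simp [hne.2.2.symm]
  · simp [hbc, hne.2.1.symm]
  · simp [hab, hac, hne.1.symm]

theorem central_case {x : G} (hx : orderOf x = 2)
    (h3 : Nat.card {u : ↥(Subgroup.centralizer ({x} : Set G)) // orderOf u = 2} ≤ 3) (S : Sylow 2 G)
    (hS : (S : Subgroup G) ≤ Subgroup.centralizer ({x} : Set G)) (v : G) (hv : orderOf v = 2) : IsConj x v := by
  haveI : Fact (Nat.Prime 2) := ⟨Nat.prime_two⟩
  have hxS : x ∈ S := by
    have hxp : IsPGroup 2 (Subgroup.zpowers x) := IsPGroup.of_card (n := 1) (by rw [Nat.card_zpowers, hx, pow_one])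
    have hn : Subgroup.zpowers x ≤ Subgroup.normalizer ((S : Subgroup G) : Set G) := by
      refine le_trans ?_ (Subgroup.centralizer_le_normalizer _)
      exact Subgroup.zpowers_le.2 fun s hs => Subgroup.mem_centralizer_singleton_iff.1 (hS hs)
    have h := S.is_maximal' (hxp.to_sup_of_normal_right' S.isPGroup' hn) le_sup_right
    exact h.le (Subgroup.mem_sup_left (Subgroup.mem_zpowers x))
  obtain ⟨R, hR⟩ := (IsPGroup.of_card (n := 1) (by rw [Nat.card_zpowers, hv, pow_one]) :
    IsPGroup 2 (Subgroup.zpowers v)).exists_le_sylow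
  obtain ⟨g, hg⟩ := MulAction.exists_smul_eq G R S
  have hwS : g * v * g⁻¹ ∈ S := by rw [← hg]; exact ⟨v, hR (Subgroup.mem_zpowers v), rfl⟩
  refine IsConj.trans ?_ (isConj_iff.2 ⟨g, rfl⟩ : IsConj v (g * v * g⁻¹)).symm
  set y := g * v * g⁻¹
  have hy : orderOf y = 2 := (Involution.orderOf_conj g v).trans hv
  by_cases hyx : y = x
  · rw [hyx]
  have hcx : ∀ s ∈ S, Commute s x := fun s hs => Subgroup.mem_centralizer_singleton_iff.1 (hS hs)
  have hxy : orderOf (x * y) = 2 := by
    refine Involution.orderOf_of_sq ?_ fun e => hyx ?_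
    · rw [(hcx y hwS).mul_mul_mul_comm, Involution.mul_self hx, one_mul, Involution.mul_self hy]
    · rw [← inv_eq_of_mul_eq_one_right e, Involution.inv_eq hx]
  have hmem : ∀ d ∈ S, orderOf d = 2 → d = x ∨ d = y ∨ d = x * y := fun d hd hd2 =>
    eq_of_three h3 hx hy hxy hd2 (Commute.refl x) (hcx y hwS) ((Commute.refl x).mul_left (hcx y hwS))
      (hcx d hd) (Ne.symm hyx) (fun e => Involution.ne_one hy (mul_eq_left.1 e.symm))
      (fun e => Involution.ne_one hx (mul_eq_right.1 e.symm))
  by_contra hnc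
  have hniso : ∀ u, orderOf u = 2 → u ∈ S → ∃ g, g * u * g⁻¹ ∈ S ∧ g * u * g⁻¹ ≠ u := by
    intro u hu huS
    by_contra h
    push Not at h
    exact hyx (all_eq_of_isolated (ZStar.isolated_of_sylow S hu huS h) hy hx)
  have hxxy : IsConj x (x * y) := by
    obtain ⟨g, hgS, hgne⟩ := hniso x hx hxS
    rcases hmem _ hgS ((Involution.orderOf_conj g x).trans hx) with e | e | e
    · exact absurd e hgne
    · exact absurd (isConj_iff.2 ⟨g, e⟩) hnc
    · exact isConj_iff.2 ⟨g, e⟩
  obtain ⟨g, hgS, hgne⟩ := hniso y hy hwS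
  rcases hmem _ hgS ((Involution.orderOf_conj g y).trans hy) with e | e | e
  · exact hnc (isConj_iff.2 ⟨g, e⟩).symm
  · exact hgne e
  · exact hnc (hxxy.trans (isConj_iff.2 ⟨g, e⟩).symm)

end

/-- Let G be a finite simple group and x an involution of G whose centralizer contains at most three involutions. Then C_G(x) contains a Sylow 2-subgroup of G, and all involutions of G are conjugate. -/
theorem result {G : Type*} [Group G] [Finite G] [IsSimpleGroup G] (x : G) (hx : orderOf x = 2)
    (h3 : Nat.card {u : ↥(Subgroup.centralizer ({x} : Set G)) // orderOf u = 2} ≤ 3) :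
    (∃ S : Sylow 2 G, (S : Subgroup G) ≤ Subgroup.centralizer ({x} : Set G)) ∧
      ∀ u v : G, orderOf u = 2 → orderOf v = 2 → IsConj u v := by
  haveI : Fact (Nat.Prime 2) := ⟨Nat.prime_two⟩
  by_cases hex : ∃ S : Sylow 2 G, (S : Subgroup G) ≤ Subgroup.centralizer ({x} : Set G)
  · obtain ⟨S, hS⟩ := hex
    exact ⟨⟨S, hS⟩, fun u v hu hv => (central_case hx h3 S hS u hu).symm.trans (central_case hx h3 S hS v hv)⟩
  exfalso
  obtain ⟨S, hxS⟩ := (IsPGroup.of_card (n := 1) (by rw [Nat.card_zpowers, hx, pow_one]) :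
    IsPGroup 2 (Subgroup.zpowers x)).exists_le_sylow
  have hxS' : x ∈ S := hxS (Subgroup.mem_zpowers x)
  haveI : Nontrivial (S : Subgroup G) := (Subgroup.nontrivial_iff_ne_bot _).2 fun h => by
    rw [← SetLike.mem_coe] at hxS'
    exact Involution.ne_one hx (Subgroup.mem_bot.1 (h ▸ hxS'))
  haveI := S.isPGroup'.center_nontrivial
  obtain ⟨c, hc⟩ := exists_prime_orderOf_dvd_card' (G := Subgroup.center (S : Subgroup G)) 2 (by
    obtain ⟨m, hm⟩ := IsPGroup.iff_card.1 (S.isPGroup'.to_subgroup (Subgroup.center (S : Subgroup G)))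
    rw [hm]
    refine dvd_pow_self 2 ?_
    rintro rfl
    rw [pow_zero] at hm
    exact absurd hm Finite.one_lt_card.ne')
  set z : G := ((c : (S : Subgroup G)) : G)
  have hz : orderOf z = 2 := by rw [Subgroup.orderOf_coe, Subgroup.orderOf_coe, hc]
  have hzS : ∀ s ∈ S, Commute s z := fun s hs =>
    congrArg Subtype.val (Subgroup.mem_center_iff.1 c.2 ⟨s, hs⟩)
  have hzx : Commute z x := (hzS x hxS').symm
  have hne : z ≠ x := fun e => hex ⟨S, fun s hs => Subgroup.mem_centralizer_singleton_iff.2 (e ▸ hzS s hs).eq⟩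
  have hxz : orderOf (x * z) = 2 := by
    refine Involution.orderOf_of_sq ?_ fun e => hne ?_
    · rw [hzx.mul_mul_mul_comm, Involution.mul_self hx, one_mul, Involution.mul_self hz]
    · rw [← inv_eq_of_mul_eq_one_right e, Involution.inv_eq hx]
  -- the involutions commuting with `x`
  have hmem : ∀ d, orderOf d = 2 → Commute d x → d = x ∨ d = z ∨ d = x * z := fun d hd hdx =>
    eq_of_three h3 hx hz hxz hd (Commute.refl x) hzx ((Commute.refl x).mul_left hzx) hdx (Ne.symm hne)
      (fun e => Involution.ne_one hz (mul_eq_left.1 e.symm)) (fun e => Involution.ne_one hx (mul_eq_right.1 e.symm))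
  -- `x` is conjugate to `x * z` by an element fixing `z`
  obtain ⟨s, hs, hsconj⟩ : ∃ s, Commute s z ∧ s * x * s⁻¹ = x * z := by
    set T : Subgroup (S : Subgroup G) := (Subgroup.centralizer ({x} : Set G)).subgroupOf S
    have hT : T < ⊤ := lt_top_iff_ne_top.2 fun h => hex ⟨S, fun s hs => Subgroup.mem_subgroupOf.1
      (h ▸ Subgroup.mem_top (⟨s, hs⟩ : (S : Subgroup G)) : (⟨s, hs⟩ : (S : Subgroup G)) ∈ T)⟩
    haveI : Group.IsNilpotent (S : Subgroup G) := S.isPGroup'.isNilpotent
    obtain ⟨s, hsN, hsT⟩ := SetLike.exists_of_lt (Group.normalizerCondition_of_isNilpotent T hT)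
    refine ⟨(s : G), hzS s s.2, ?_⟩
    have hxT : (⟨x, hxS'⟩ : (S : Subgroup G)) ∈ T :=
      Subgroup.mem_subgroupOf.2 (Subgroup.mem_centralizer_singleton_iff.2 rfl)
    have h1 : Commute ((s : G) * x * (s : G)⁻¹) x := Subgroup.mem_centralizer_singleton_iff.1
      (Subgroup.mem_subgroupOf.1 ((Subgroup.mem_normalizer_iff.1 hsN _).1 hxT))
    rcases hmem _ ((Involution.orderOf_conj _ x).trans hx) h1 with e | e | e
    · exact absurd (Subgroup.mem_subgroupOf.2 (Subgroup.mem_centralizer_singleton_iff.2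
        (mul_inv_eq_iff_eq_mul.1 e))) hsT
    · refine absurd ?_ (Ne.symm hne)
      have h2 : (s : G) * x * (s : G)⁻¹ = (s : G) * z * (s : G)⁻¹ := by
        rw [e, (hzS s s.2).eq, mul_inv_cancel_right]
      exact mul_left_cancel (mul_right_cancel h2)
    · exact e
  have hconj : ∀ g : G, Commute (g * z * g⁻¹) z := by
    intro g
    set w := g * z * g⁻¹
    have hw : orderOf w = 2 := (Involution.orderOf_conj g z).trans hz
    have hnc : ¬ IsConj x w := by
      intro h
      obtain ⟨k, hk⟩ := isConj_iff.1 (h.trans (isConj_iff.2 ⟨g, rfl⟩ : IsConj z w).symm)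
      refine hex ⟨k⁻¹ • S, ?_⟩
      rintro _ ⟨a, ha, rfl⟩
      refine Subgroup.mem_centralizer_singleton_iff.2 ?_
      have h1 := (hzS a ha).map (MulAut.conj k⁻¹).toMonoidHom
      simpa [← hk, mul_assoc] using h1.eq
    obtain ⟨i, hi, hix, hiw, -⟩ :=
      Involution.exists_commuting_involution hx hw (Involution.even_of_not_isConj hx hw hnc)
    rcases hmem i hi hix with rfl | rfl | rfl
    · rcases hmem w hw hiw.symm with e | e | e
      · exact absurd (e ▸ IsConj.refl _) hnc
      · rw [e]
      · rw [e]; exact hzx.symm.mul_left (Commute.refl z)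
    · exact hiw.symm
    · -- `w` commutes with `x * z`, a conjugate of `x` under `C(z)`
      have h1 : Commute (s⁻¹ * w * s) x := by
        have h := hiw.symm.map (MulAut.conj s⁻¹).toMonoidHom
        simpa [← hsconj, mul_assoc] using h
      have hw' : orderOf (s⁻¹ * w * s) = 2 := by
        simpa using (Involution.orderOf_conj s⁻¹ w).trans hw
      have h2 : Commute (s⁻¹ * w * s) z := by
        rcases hmem _ hw' h1 with e | e | e <;> rw [e]
        · exact hzx.symm
        · exact hzx.symm.mul_left (Commute.refl z)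
      have h := h2.map (MulAut.conj s).toMonoidHom
      simpa [hs.eq, mul_assoc] using h
  have hK : ∀ a b : G, a * b = b * a := by
    have hcomm : IsMulCommutative (Subgroup.normalClosure ({z} : Set G)) := by
      refine Subgroup.isMulCommutative_closure ?_
      intro a ha b hb
      simp only [Group.mem_conjugatesOfSet_iff, Set.mem_singleton_iff, exists_eq_left, isConj_iff] at ha hb
      obtain ⟨p, rfl⟩ := ha
      obtain ⟨q, rfl⟩ := hb
      have h := (hconj (q⁻¹ * p)).map (MulAut.conj q).toMonoidHom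
      simpa [mul_assoc] using h.eq
    have htop : Subgroup.normalClosure ({z} : Set G) = ⊤ := by
      refine ((Subgroup.normalClosure_normal : (Subgroup.normalClosure ({z} : Set G)).Normal).eq_bot_or_eq_top
        ).resolve_left fun h => Involution.ne_one hz ?_
      exact Subgroup.mem_bot.1 (h ▸ Subgroup.subset_normalClosure rfl)
    intro a b
    exact congrArg Subtype.val (hcomm.is_comm.comm ⟨a, htop ▸ Subgroup.mem_top a⟩ ⟨b, htop ▸ Subgroup.mem_top b⟩)
  exact hne (all_eq_of_comm hK hz hx)

end Cfsg.Agent.S3279
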