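import Cfsg.Statements.S3286
import Cfsg.Agent.Lib.TwelveCent.Count
import Cfsg.Agent.Lib.TwelveCent.Model
import Cfsg.Agent.Lib.Golay.Mathieu
import Cfsg.Agent.S0421

set_option autoImplicit false
open Cfsg
open scoped Pointwise

namespace Cfsg.Agent.S3286

/-- Let G be a non-abelian finite simple group containing an involution whose centralizer is isomorphic to the centralizer, in the Mathieu group M₁₂, of an involution lying in the centre of a Sylow 2-subgroup of M₁₂. Then G is isomorphic to M₁₂. -/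
theorem result {G : Type*} [Group G] [Finite G] [IsSimpleGroup G] (hG : ¬ IsMulCommutative G)
    (u : ↥Cfsg.Spor.M12) (hu : Cfsg.IsTwoCentralInvolution u)
    (t : G) (ht : orderOf t = 2) (e : ↥(Subgroup.centralizer ({t} : Set G)) ≃* ↥(Subgroup.centralizer ({u} : Set ↥Cfsg.Spor.M12))) :
    Cfsg.Spor.IsoM12 G := by
  obtain ⟨c₀⟩ := Cfsg.Agent.TwelveCent.coding_m12 u hu
  obtain ⟨c⟩ := c₀.of_iso ht e
  have hd : Cfsg.Spor.squareDodecad ∈ Cfsg.dodecads :=
    Cfsg.Agent.Golay.pts_dodecad0 ▸ Cfsg.Agent.Golay.dodecad0_mem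
  let i : ↥Cfsg.Spor.M12 ≃* MulAction.stabilizer Cfsg.M24 Cfsg.Spor.squareDodecad :=
    Cfsg.Agent.Golay.infStabilizerEquiv _
  obtain ⟨f⟩ := Cfsg.Agent.S0421.result (G := G) ⟨inferInstance, c.card_eq hG⟩ _ hd
  exact ⟨f.trans i.symm⟩

end Cfsg.Agent.S3286
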