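import Cfsg.Statements.S3289
import Cfsg.Agent.Lib.StrongClosedNC.Main

set_option autoImplicit false
open Cfsg

namespace Cfsg.Agent.S3289

/-- Let T be a Sylow 2-subgroup of a finite group G and S a nontrivial subgroup of T strongly closed in T with respect to G. Suppose a proper subgroup H of G contains the centralizer of every non-identity element of S and the normalizer of the subgroup generated by the involutions of S. Then, writing X for the normal closure of S, the subgroup H ∩ X is strongly embedded in X, and S equals T ∩ X or the subgroup generated by the involutions of T ∩ X; if moreover S has 2-rank 1, then S = T ∩ X. -/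
theorem result {G : Type*} [Group G] [Finite G] (T : Sylow 2 G) (S : Subgroup G) (hS : S ≠ ⊥)
    (hsc : Cfsg.IsStronglyClosed S (T : Subgroup G)) (H : Subgroup G) (hH : H ≠ ⊤)
    (hC : ∀ s ∈ S, s ≠ 1 → Subgroup.centralizer ({s} : Set G) ≤ H)
    (hN : Subgroup.normalizer ((Cfsg.omegaOne 2 S : Subgroup G) : Set G) ≤ H) :
    Cfsg.IsStronglyEmbedded ((H ⊓ Subgroup.normalClosure (S : Set G)).subgroupOf (Subgroup.normalClosure (S : Set G))) ∧
      (S = (T : Subgroup G) ⊓ Subgroup.normalClosure (S : Set G) ∨ S = Cfsg.omegaOne 2 ((T : Subgroup G) ⊓ Subgroup.normalClosure (S : Set G))) ∧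
      (Cfsg.PRankLE 2 1 ↥S → S = (T : Subgroup G) ⊓ Subgroup.normalClosure (S : Set G)) := by
  haveI : Fact (Nat.Prime 2) := ⟨Nat.prime_two⟩
  have h : Cfsg.Agent.Bender.ClosedSetup T S H := ⟨hS, hsc, hH, hC, hN⟩
  have hSX : S ≤ (T : Subgroup G) ⊓ Subgroup.normalClosure (S : Set G) :=
    le_inf hsc.1 Subgroup.subset_normalClosure
  by_cases h2 : StrongClosedNC.TwoInv S
  · obtain ⟨hinv, halt⟩ := StrongClosedNC.closureShape h h2
    refine ⟨StrongClosedNC.stronglyEmbedded_inf h hinv, ?_, fun hrank => ?_⟩
    · refine halt.imp (fun hle => le_antisymm hSX hle) fun hexp => le_antisymm ?_ ?_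
      · exact fun s hs => Subgroup.subset_closure ⟨hSX hs, by rw [pow_two, hexp s hs]⟩
      · exact (Subgroup.closure_le _).2 fun x hx => hinv x hx.1.1 hx.1.2 (by rw [← pow_two, hx.2])
    · exfalso
      obtain ⟨z, hzS, hz2, hzc⟩ := h.exists_central
      obtain ⟨x, hx, y, hy, hxx, hyy, hx1, hy1, hne⟩ := h2
      obtain ⟨w, hw, hww, hw1, hwz⟩ : ∃ w ∈ S, w * w = 1 ∧ w ≠ 1 ∧ w ≠ z := by
        rcases eq_or_ne x z with e | e
        · exact ⟨y, hy, hyy, hy1, fun e' => hne (e.trans e'.symm)⟩
        · exact ⟨x, hx, hxx, hx1, e⟩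
      have hzz : z * z = 1 := StrongClosedNC.sq_of_orderOf hz2
      have hc : Commute w z := hzc w (hsc.1 hw)
      set a : S := ⟨w, hw⟩
      set b : S := ⟨z, hzS⟩
      have hab : Commute a b := Subtype.ext hc.eq
      haveI hA : IsMulCommutative (Subgroup.closure ({a, b} : Set S)) :=
        Subgroup.isMulCommutative_closure <| by
          intro p hp q hq
          rcases hp with hp | hp <;> rcases hq with hq | hq <;> rw [hp, hq]
          · exact hab.eq
          · exact hab.eq.symm
      have hsq : ∀ p ∈ Subgroup.closure ({a, b} : Set S), p ^ 2 = 1 := by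
        intro p hp
        induction hp using Subgroup.closure_induction with
        | mem p hp =>
          rcases hp with rfl | rfl
          · exact Subtype.ext ((pow_two w).trans hww)
          · exact Subtype.ext ((pow_two z).trans hzz)
        | one => exact one_pow 2
        | mul p q hp hq h1 h3 =>
          rw [(show Commute p q from congrArg Subtype.val
            (mul_comm' (⟨p, hp⟩ : Subgroup.closure ({a, b} : Set S)) ⟨q, hq⟩)).mul_pow, h1, h3, one_mul]
        | inv p _ h1 => rw [inv_pow, h1, inv_one]
      have hcard := hrank _ hA hsq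
      have hne3 : ({1, a, b} : Set S).ncard = 3 := Set.ncard_eq_three.2
        ⟨1, a, b, fun e => hw1 (congrArg Subtype.val e).symm,
          fun e => StrongClosedNC.ne_one_of_orderOf hz2 (congrArg Subtype.val e).symm,
          fun e => hwz (congrArg Subtype.val e), rfl⟩
      have hle : ({1, a, b} : Set S) ⊆ Subgroup.closure ({a, b} : Set S) := by
        rintro p (rfl | hp)
        · exact one_mem _
        · exact Subgroup.subset_closure hp
      have := Set.ncard_le_ncard hle
      rw [hne3, ← Nat.card_coe_set_eq] at this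
      simp only [SetLike.coe_sort_coe] at this
      omega
  · have hu : ∀ x y, x ∈ S → y ∈ S → x * x = 1 → y * y = 1 → x ≠ 1 → y ≠ 1 → x = y :=
      fun x y hx hy hxx hyy hx1 hy1 => by_contra fun hne => h2 ⟨x, hx, y, hy, hxx, hyy, hx1, hy1, hne⟩
    have hEq := StrongClosedNC.eq_inf_normalClosure_of_unique hsc hu
    refine ⟨StrongClosedNC.stronglyEmbedded_inf h fun x hxT hxX _ => hEq.ge ⟨hxT, hxX⟩, Or.inl hEq,
      fun _ => hEq⟩

end Cfsg.Agent.S3289
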