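import Cfsg.Statements.S3294
import Cfsg.Agent.Lib.SylowLift.Solvable

set_option autoImplicit false
open Cfsg

namespace Cfsg.Agent.S3294

theorem inv_a {m : ℕ} (i : ZMod (2 * m)) :
    (QuaternionGroup.a i : QuaternionGroup m)⁻¹ = QuaternionGroup.a (-i) := rfl

theorem inv_xa {m : ℕ} (i : ZMod (2 * m)) :
    (QuaternionGroup.xa i : QuaternionGroup m)⁻¹ = QuaternionGroup.xa ((m : ZMod (2 * m)) + i) := rfl

/-- A finite solvable group whose Sylow 2-subgroups are generalized quaternion of order at least 32 has a normal 2-complement. -/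
theorem result {G : Type*} [Group G] [Finite G] (hsol : Group.IsSolvable G) (T : Sylow 2 G) (n : ℕ) (hn : 3 ≤ n) (hT : Nonempty ((T : Subgroup G) ≃* QuaternionGroup (2 ^ n))) : Cfsg.HasNormalPComplement 2 G := by
  obtain ⟨e⟩ := hT
  have hm : (2 ^ n : ℕ) ≠ 0 := by positivity
  haveI : NeZero (2 ^ n : ℕ) := ⟨hm⟩
  set f := QuotientGroup.mk' (Cfsg.oddCore G) with hf
  have hfs : Function.Surjective f := QuotientGroup.mk'_surjective _
  have hdisj : Disjoint (Cfsg.oddCore G) (T : Subgroup G) := by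
    obtain ⟨k, hk⟩ := IsPGroup.iff_card.mp T.isPGroup'
    refine Subgroup.disjoint_of_coprime_natCard ?_
    rw [hk]
    exact (Cores.coprime_card_pPrimeCore 2).pow_right k
  -- the copy of the quaternion group in `G / O(G)`
  let ψ : QuaternionGroup (2 ^ n) →* G ⧸ Cfsg.oddCore G :=
    (f.comp (T : Subgroup G).subtype).comp e.symm.toMonoidHom
  have hψ : Function.Injective ψ := by
    rw [← MonoidHom.ker_eq_bot_iff, eq_bot_iff]
    intro x hx
    have h1 : ((e.symm x : (T : Subgroup G)) : G) ∈ Cfsg.oddCore G := by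
      rw [← QuotientGroup.ker_mk' (Cfsg.oddCore G)]; exact hx
    have h2 := Subgroup.disjoint_def.mp hdisj h1 (e.symm x).2
    simpa using h2
  have hrange : ψ.range = (T : Subgroup G).map f := by
    rw [MonoidHom.range_comp, MonoidHom.range_eq_top.mpr e.symm.surjective,
      ← MonoidHom.range_eq_map, MonoidHom.range_comp, Subgroup.range_subtype]
  let S : Sylow 2 (G ⧸ Cfsg.oddCore G) := T.mapSurjective hfs
  suffices hG2 : IsPGroup 2 (G ⧸ Cfsg.oddCore G) by
    refine ⟨T, Cfsg.oddCore G, inferInstance, ?_⟩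
    refine Subgroup.isComplement'_of_card_mul_and_disjoint ?_ hdisj
    have htop := SylowLift.map_eq_top_of_isPGroup hfs hG2 T
    have hc : Nat.card (T : Subgroup G) = Nat.card (G ⧸ Cfsg.oddCore G) := by
      rw [← Subgroup.card_top (G := G ⧸ Cfsg.oddCore G), ← htop, ← hrange,
        ← Nat.card_congr (MonoidHom.ofInjective hψ).toEquiv]
      exact Nat.card_congr e.toEquiv
    rw [hc, mul_comm, ← Subgroup.card_eq_card_quotient_mul_card_subgroup]
  haveI : Group.IsSolvable G := hsol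
  have hCQ := SylowLift.centralizer_pCore_le_of_solvable
    (Cores.pPrimeCore_quotient_self (G := G) 2)
  set Q := Cfsg.pCore 2 (G ⧸ Cfsg.oddCore G) with hQdef
  have hQψ : Q ≤ ψ.range := by
    rw [hrange]; exact (Cores.pCore_le_sylow S).trans (Sylow.coe_mapSurjective hfs T).le
  set t := ψ (QuaternionGroup.a 1) with ht
  -- the structure of the range of `ψ`
  have hrot : ∀ k : ZMod (2 * 2 ^ n), ψ (QuaternionGroup.a k) ∈ Subgroup.zpowers t := by
    intro k
    refine ⟨(k.val : ℤ), ?_⟩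
    show t ^ (k.val : ℤ) = _
    rw [zpow_natCast, ht, ← map_pow, QuaternionGroup.a_one_pow, ZMod.natCast_zmod_val]
  have hout : ∀ x ∈ Q, x ∉ Subgroup.zpowers t → orderOf x = 4 ∧ t * x * t⁻¹ * x⁻¹ = t ^ 2 ∧
      ∃ j, x = ψ (QuaternionGroup.xa j) := by
    intro x hx hxt
    obtain ⟨y, rfl⟩ := hQψ hx
    rcases y with k | j
    · exact absurd (hrot k) hxt
    · refine ⟨?_, ?_, j, rfl⟩
      · rw [orderOf_injective ψ hψ, QuaternionGroup.orderOf_xa]
      · rw [ht, ← map_inv, ← map_inv, ← map_mul, ← map_mul, ← map_mul, ← map_pow,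
          QuaternionGroup.a_one_pow]
        congr 1
        rw [inv_a, inv_xa, QuaternionGroup.a_mul_xa,
          QuaternionGroup.xa_mul_a, QuaternionGroup.xa_mul_xa]
        congr 1
        have h0 : ((2 ^ n : ℕ) : ZMod (2 * 2 ^ n)) + ((2 ^ n : ℕ) : ZMod (2 * 2 ^ n)) = 0 := by
          rw [← Nat.cast_add, ← two_mul, ZMod.natCast_self]
        linear_combination h0
  have hord : orderOf t = 2 * 2 ^ n := by
    rw [ht, orderOf_injective ψ hψ, QuaternionGroup.orderOf_a_one]
  have h8 : 8 ≤ 2 ^ n := le_trans (by norm_num) (Nat.pow_le_pow_right (by norm_num : 1 ≤ 2) hn)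
  set C := Q ⊓ Subgroup.zpowers t with hCdef
  have hC2 : IsPGroup 2 C := (Cores.isPGroup_pCore 2 _).to_le inf_le_left
  have hCc : IsCyclic C :=
    isCyclic_of_injective _ (Subgroup.inclusion_injective (inf_le_right : C ≤ _))
  have hCn : C.Normal := by
    by_cases hQA : Q ≤ Subgroup.zpowers t
    · rw [hCdef, inf_eq_left.mpr hQA]; infer_instance
    obtain ⟨x, hxQ, hxt⟩ := SetLike.not_le_iff_exists.mp hQA
    have ht2 : t ^ 2 ∈ C := by
      refine Subgroup.mem_inf.mpr ⟨?_, Subgroup.npow_mem_zpowers t 2⟩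
      rw [← (hout x hxQ hxt).2.1]
      exact mul_mem ((Cores.pCore_normal 2 _).conj_mem x hxQ t) (inv_mem hxQ)
    have ht2o : 8 ≤ orderOf (t ^ 2) := by
      rw [orderOf_pow, hord, Nat.gcd_mul_right_left, Nat.mul_div_cancel_left _ two_pos]
      exact h8
    obtain ⟨c, hc⟩ := hCc.exists_generator
    have hgen : ∀ g : G ⧸ Cfsg.oddCore G, g * (c : G ⧸ Cfsg.oddCore G) * g⁻¹ ∈ C := by
      intro g
      refine ⟨(Cores.pCore_normal 2 _).conj_mem _ c.2.1 g, ?_⟩
      by_contra hnot
      have h4 := (hout _ ((Cores.pCore_normal 2 _).conj_mem _ c.2.1 g) hnot).1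
      rw [← MulAut.conj_apply, MulEquiv.orderOf_eq] at h4
      have : orderOf (t ^ 2) ∣ orderOf (c : G ⧸ Cfsg.oddCore G) := by
        rw [← Subgroup.orderOf_mk _ ht2, Subgroup.orderOf_coe]
        exact orderOf_dvd_of_mem_zpowers (hc _)
      rw [h4] at this
      exact absurd (Nat.le_of_dvd (by norm_num) this) (by omega)
    refine ⟨fun y hy g => ?_⟩
    obtain ⟨i, hi⟩ := hc ⟨y, hy⟩
    have h1 : (c : G ⧸ Cfsg.oddCore G) ^ i = y := by simpa using congrArg Subtype.val hi
    rw [← h1, ← conj_zpow]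
    exact zpow_mem (hgen g) i
  -- elements of odd order are trivial
  have hodd : ∀ g : G ⧸ Cfsg.oddCore G, Odd (orderOf g) → g = 1 := by
    intro g hg
    have hfix : ∀ c ∈ C, g * c * g⁻¹ = c := fun c hc => SylowLift.commute_of_odd C hC2 hCc hg hc
    have hgQ : g ∈ Q := by
      refine hCQ (Subgroup.mem_centralizer_iff.mpr fun x hx => ?_)
      suffices hcom : g * x * g⁻¹ = x by
        exact (mul_inv_eq_iff_eq_mul.mp hcom).symm
      by_cases hxt : x ∈ Subgroup.zpowers t
      · exact hfix x ⟨hx, hxt⟩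
      have hxg : g * x * g⁻¹ ∈ Q := (Cores.pCore_normal 2 _).conj_mem x hx g
      have hxgt : g * x * g⁻¹ ∉ Subgroup.zpowers t := by
        intro h
        refine hxt ?_
        have := (hCn.conj_mem _ ⟨hxg, h⟩ g⁻¹).2
        simpa [mul_assoc] using this
      obtain ⟨i, hi⟩ := (hout _ hxg hxgt).2.2
      obtain ⟨j, hj⟩ := (hout _ hx hxt).2.2
      set d := g * x * g⁻¹ * x⁻¹ with hd
      have hdC : d ∈ C := by
        refine Subgroup.mem_inf.mpr ⟨mul_mem hxg (inv_mem hx), ?_⟩
        rw [hd, hi, hj, ← map_inv, ← map_mul, inv_xa, QuaternionGroup.xa_mul_xa]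
        exact hrot _
      have hk : ∀ k : ℕ, g ^ k * x * (g ^ k)⁻¹ = d ^ k * x := by
        intro k
        induction k with
        | zero => simp
        | succ k ih =>
          calc g ^ (k + 1) * x * (g ^ (k + 1))⁻¹ = g * (g ^ k * x * (g ^ k)⁻¹) * g⁻¹ := by
                rw [pow_succ']; group
            _ = g * (d ^ k * x) * g⁻¹ := by rw [ih]
            _ = (g * d ^ k * g⁻¹) * (g * x * g⁻¹) := by group
            _ = d ^ k * (g * x * g⁻¹) := by rw [hfix _ (pow_mem hdC k)]
            _ = d ^ (k + 1) * x := by rw [hd, pow_succ]; group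
      have h1 := hk (orderOf g)
      rw [pow_orderOf_eq_one] at h1
      have hdo : orderOf d ∣ orderOf g := orderOf_dvd_of_pow_eq_one (by simpa using h1.symm)
      obtain ⟨k, hk2⟩ := IsPGroup.iff_orderOf.mp hC2 ⟨d, hdC⟩
      rw [Subgroup.orderOf_mk] at hk2
      have hd1 : d = 1 := by
        rw [← orderOf_eq_one_iff, hk2]
        rcases k with _ | k
        · rfl
        · exact absurd (even_iff_two_dvd.mpr (dvd_trans (dvd_pow_self 2 k.succ_ne_zero)
            (hk2 ▸ hdo))) (Nat.not_even_iff_odd.mpr hg)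
      rw [hd] at hd1
      exact mul_inv_eq_one.mp hd1
    obtain ⟨k, hk⟩ := IsPGroup.iff_orderOf.mp (Cores.isPGroup_pCore 2 _) ⟨g, hgQ⟩
    rw [Subgroup.orderOf_mk] at hk
    rcases k with _ | k
    · simpa using orderOf_eq_one_iff.mp hk
    · exact absurd (even_iff_two_dvd.mpr (hk ▸ dvd_pow_self 2 k.succ_ne_zero))
        (Nat.not_even_iff_odd.mpr hg)
  refine IsPGroup.iff_card.mpr ⟨_, Nat.eq_prime_pow_of_unique_prime_dvd Nat.card_pos.ne' ?_⟩
  intro q hq hqd
  haveI := Fact.mk hq
  obtain ⟨g, hg⟩ := exists_prime_orderOf_dvd_card' q hqd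
  by_contra hq2
  have := hodd g (hg ▸ hq.odd_of_ne_two hq2)
  rw [this, orderOf_one] at hg
  exact hq.one_lt.ne hg

end Cfsg.Agent.S3294
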