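import Cfsg.Statements.S3301
import Cfsg.Agent.Lib.LargeExtraspecial.IndexTwo

set_option autoImplicit false
open Cfsg

namespace Cfsg.Agent.S3301

open Cfsg.Agent.LargeExtraspecial in
/-- Let G be a finite group with no nontrivial 2-group quotient (O^2(G) = G), z an involution of G with H = C_G(z), and suppose E = O_2(H) is extraspecial with C_G(E) ≤ E. Then the Sylow 2-subgroups of H/[H, H] are elementary abelian: every element of 2-power order of the abelianization of H has order at most 2. -/
theorem result {G : Type*} [Group G] [Finite G] (hres : Cfsg.pResidual 2 G = ⊤) (z : G) (hz : orderOf z = 2)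
    (E : Subgroup G) (hE : E = (Cfsg.pCore 2 ↥(Subgroup.centralizer ({z} : Set G))).map (Subgroup.centralizer ({z} : Set G)).subtype)
    (hext : Cfsg.IsExtraspecial 2 ↥E) (hcent : Subgroup.centralizer (E : Set G) ≤ E) :
    ∀ q : Abelianization ↥(Subgroup.centralizer ({z} : Set G)), (∃ k : ℕ, orderOf q = 2 ^ k) → q ^ 2 = 1 := by
  classical
  have hS := TransferFixed.setting_of_extraspecial z hz E hE hext hcent
  set H := Subgroup.centralizer ({z} : Set G) with hHdef
  haveI : Fact (Nat.Prime 2) := ⟨Nat.prime_two⟩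
  intro q ⟨k, hk⟩
  by_contra hne
  obtain ⟨f, ⟨x, hx⟩, hf⟩ := IndexTwo.exists_signHom q k hk hne
  obtain ⟨m, hm1, hm⟩ := Cfsg.Agent.Extraspecial.exists_card hext
  have hnc : ∃ a ∈ E, ∃ b ∈ E, a * b = b * a * z := by
    by_contra hcon
    push Not at hcon
    apply Cfsg.Agent.Extraspecial.center_ne_top hext
    rw [eq_top_iff]
    intro a _
    exact Subgroup.mem_center_iff.mpr fun b => Subtype.ext
      ((hS.comm b b.2 a a.2).resolve_right (hcon b b.2 a a.2))
  have hbig : TransferFixed.Big E z ∨ Nat.card E = 8 := by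
    by_cases h : 2 ≤ m
    · exact Or.inl (TransferFixed.big_of_card hS hext m h hm)
    · exact Or.inr (by rw [hm, show m = 1 by omega]; norm_num)
  have hcore : IsPGroup 2 H → H ≤ E := by
    intro hP v hv
    have htop : Cfsg.pCore 2 ↥H = ⊤ :=
      top_le_iff.mp (le_sSup ⟨inferInstance, hP.to_subgroup ⊤⟩)
    rw [hE, htop]
    exact ⟨⟨v, hv⟩, Subgroup.mem_top _, rfl⟩
  obtain ⟨v, rfl⟩ : ∃ v, Abelianization.of v = x := QuotientGroup.mk_surjective x
  exact hx (IndexTwo.hom_trivial hres hS hbig hnc hcore (f.comp Abelianization.of) (fun v hv => hf _ hv) v)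

end Cfsg.Agent.S3301
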