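import Cfsg.Statements.S3303
import Cfsg.Agent.Lib.SylowLift.Solvable

set_option autoImplicit false
open Cfsg

namespace Cfsg.Agent.S3303

/-- Let G be a finite solvable group in which the intersection of any two distinct Sylow 2-subgroups is cyclic. Then G/O(G) has a normal Sylow 2-subgroup, where O(G) is the largest normal subgroup of odd order. -/
theorem result {G : Type*} [Group G] [Finite G] (hs : Group.IsSolvable G)
    (hC : ∀ S T : Sylow 2 G, S ≠ T → IsCyclic ↥((S : Subgroup G) ⊓ (T : Subgroup G))) :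
    ∃ P : Sylow 2 (G ⧸ Cfsg.oddCore G), (P : Subgroup (G ⧸ Cfsg.oddCore G)).Normal := by
  by_contra hne
  have : Group.IsSolvable (G ⧸ Cfsg.oddCore G) := inferInstance
  have hO : Cfsg.pPrimeCore 2 (G ⧸ Cfsg.oddCore G) = ⊥ := Cores.pPrimeCore_quotient_self 2
  have hCQ := SylowLift.centralizer_pCore_le_of_solvable hO
  set Q := Cfsg.pCore 2 (G ⧸ Cfsg.oddCore G) with hQdef
  obtain ⟨S⟩ : Nonempty (Sylow 2 (G ⧸ Cfsg.oddCore G)) := inferInstance
  obtain ⟨T, hT⟩ : ∃ T, T ≠ S := by
    by_contra h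
    push Not at h
    have : Subsingleton (Sylow 2 (G ⧸ Cfsg.oddCore G)) := ⟨fun A B => (h A).trans (h B).symm⟩
    exact hne ⟨S, Sylow.normal_of_subsingleton S⟩
  have := SylowLift.isCyclic_inf_of_surjective (QuotientGroup.mk'_surjective (Cfsg.oddCore G))
    hC T S hT
  have hle : Q ≤ (T : Subgroup _) ⊓ (S : Subgroup _) :=
    le_inf (Cores.pCore_le_sylow T) (Cores.pCore_le_sylow S)
  have hcyc : IsCyclic Q := isCyclic_of_injective _ (Subgroup.inclusion_injective hle)
  have h2 : IsPGroup 2 (MulAut Q) :=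
    SylowLift.isPGroup_mulAut_of_isCyclic (Cores.isPGroup_pCore 2 _)
  have hker : IsPGroup 2 (MulAut.conjNormal : _ →* MulAut Q).ker := by
    refine (Cores.isPGroup_pCore 2 (G ⧸ Cfsg.oddCore G)).to_le fun x hx => hCQ ?_
    rw [Subgroup.mem_centralizer_iff]
    intro c hc
    have := congrArg Subtype.val (DFunLike.congr_fun (MonoidHom.mem_ker.mp hx) ⟨c, hc⟩)
    simp only [MulAut.conjNormal_apply, MulAut.one_apply] at this
    exact (mul_inv_eq_iff_eq_mul.mp this).symm
  have hG2 : IsPGroup 2 (G ⧸ Cfsg.oddCore G) := by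
    have := (h2.to_subgroup ⊤).comap_of_ker_isPGroup _ hker
    rw [Subgroup.comap_top] at this
    exact this.of_equiv Subgroup.topEquiv
  exact hne ⟨S, by rw [← S.is_maximal' (hG2.to_subgroup ⊤) le_top]; infer_instance⟩

end Cfsg.Agent.S3303
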