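import Cfsg.Statements.S3306
import Cfsg.Agent.EqLemmas
import Cfsg.Agent.Lib.CyclicMeet.Main
import Cfsg.Agent.Lib.Solvable.Fitting

set_option autoImplicit false
open Cfsg

namespace Cfsg.Agent.S3306

/-- Let G be a finite nonsolvable group in which any two distinct Sylow 2-subgroups intersect in a cyclic group, and let N be a solvable normal subgroup of G. Then the image of N in G/O(G) is a cyclic 2-group contained in the centre of G/O(G) (O(G) the largest normal subgroup of odd order). In other words the solvable radical of G is V·O(G) with V a cyclic 2-group central modulo O(G). -/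
theorem result {G : Type*} [Group G] [Finite G] (hns : ¬ Group.IsSolvable G)
    (hC : ∀ S T : Sylow 2 G, S ≠ T → IsCyclic ↥((S : Subgroup G) ⊓ (T : Subgroup G)))
    (N : Subgroup G) [N.Normal] (hN : Group.IsSolvable ↥N) :
    IsCyclic ↥(N.map (QuotientGroup.mk' (Cfsg.oddCore G))) ∧ IsPGroup 2 ↥(N.map (QuotientGroup.mk' (Cfsg.oddCore G))) ∧
      N.map (QuotientGroup.mk' (Cfsg.oddCore G)) ≤ Subgroup.center (G ⧸ Cfsg.oddCore G) := by
  classical
  haveI : Fact (Nat.Prime 2) := ⟨Nat.prime_two⟩
  let O := Cfsg.oddCore G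
  let f := QuotientGroup.mk' O
  have hOodd : Odd (Nat.card O) := Nat.coprime_two_right.1 (Cores.coprime_card_pPrimeCore 2)
  haveI : Group.IsSolvable O := OddOrderTheorem.solvable hOodd
  have hns' : ¬ Group.IsSolvable (G ⧸ O) := fun h =>
    hns ((Group.isSolvable_iff_subgroup_quotient O).2 ⟨inferInstance, h⟩)
  have hcore : Cfsg.pPrimeCore 2 (G ⧸ O) = ⊥ := Cores.pPrimeCore_quotient_self 2
  have hmeet : CyclicMeet.MeetCyclic (G ⧸ O) := by
    intro S' T' hne
    obtain ⟨S, rfl⟩ := Sylow.mapSurjective_surjective (QuotientGroup.mk'_surjective O) 2 S'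
    obtain ⟨T, rfl⟩ := Sylow.mapSurjective_surjective (QuotientGroup.mk'_surjective O) 2 T'
    set D := ((S.mapSurjective (QuotientGroup.mk'_surjective O) : Sylow 2 (G ⧸ O)) : Subgroup (G ⧸ O)) ⊓
      ((T.mapSurjective (QuotientGroup.mk'_surjective O) : Sylow 2 (G ⧸ O)) : Subgroup (G ⧸ O))
    obtain ⟨E⟩ : Nonempty (Sylow 2 (D.comap f)) := inferInstance
    -- the image of `E` is `D`
    have hD2 : IsPGroup 2 D := (S.mapSurjective (QuotientGroup.mk'_surjective O)).isPGroup'.to_le inf_le_left
    let g := f.subgroupComap D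
    have hg : Function.Surjective g := fun y => by
      obtain ⟨x, hx⟩ := QuotientGroup.mk'_surjective O (y : G ⧸ O)
      exact ⟨⟨x, by show f x ∈ D; rw [show f x = y from hx]; exact y.2⟩, Subtype.ext hx⟩
    have hED : (E : Subgroup (D.comap f)).map g = ⊤ := by
      have h1 := (E.mapSurjective hg).3 (Q := ⊤) (hD2.of_equiv Subgroup.topEquiv.symm) le_top
      exact h1.symm
    let E' := (E : Subgroup (D.comap f)).map (D.comap f).subtype
    have hE2 : IsPGroup 2 E' := E.isPGroup'.map _
    -- Sylow subgroups of `G` above `E'` in the two preimages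
    have key : ∀ U : Sylow 2 G, D ≤ (U : Subgroup G).map f →
        ∃ U₁ : Sylow 2 G, E' ≤ (U₁ : Subgroup G) ∧ (U₁ : Subgroup G).map f = (U : Subgroup G).map f := by
      intro U hU
      set W := ((U : Subgroup G).map f).comap f
      have hUW : (U : Subgroup G) ≤ W := Subgroup.le_comap_map _ _
      have hEW : E' ≤ W := (Subgroup.map_subtype_le _).trans (Subgroup.comap_mono hU)
      obtain ⟨R, hR⟩ := (hE2.comap_subtype (H := E') (K := W)).exists_le_sylow
      obtain ⟨w, hw⟩ := MulAction.exists_smul_eq W (U.subtype hUW) R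
      refine ⟨(w : G) • U, fun x hx => ?_, ?_⟩
      · have hxR : (⟨x, hEW hx⟩ : W) ∈ (R : Subgroup W) := hR (Subgroup.mem_subgroupOf.2 hx)
        rw [← hw, Sylow.smul_subtype] at hxR
        exact hxR
      · have hwf : f (w : G) ∈ (U : Subgroup G).map f := w.2
        ext y
        rw [Sylow.coe_subgroup_smul]
        constructor
        · rintro ⟨x, hx, rfl⟩
          obtain ⟨u, hu, rfl⟩ := hx
          simp only [MulDistribMulAction.toMonoidEnd_apply, MulDistribMulAction.toMonoidHom_apply,
            MulAut.smul_def, MulAut.conj_apply, map_mul, map_inv]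
          exact Subgroup.mul_mem _ (Subgroup.mul_mem _ hwf ⟨u, hu, rfl⟩) (Subgroup.inv_mem _ hwf)
        · intro hy
          have h1 : (f (w : G))⁻¹ * y * f (w : G) ∈ (U : Subgroup G).map f :=
            Subgroup.mul_mem _ (Subgroup.mul_mem _ (Subgroup.inv_mem _ hwf) hy) hwf
          obtain ⟨u, hu, hu'⟩ := h1
          refine ⟨(w : G) * u * (w : G)⁻¹, Subgroup.smul_mem_pointwise_smul u (MulAut.conj (w : G)) _ hu, ?_⟩
          rw [map_mul, map_mul, map_inv, hu']
          group
    obtain ⟨S₁, hS₁, hS₁f⟩ := key S inf_le_left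
    obtain ⟨T₁, hT₁, hT₁f⟩ := key T inf_le_right
    have hne₁ : S₁ ≠ T₁ := by
      rintro rfl
      exact hne (Sylow.ext (by
        rw [Sylow.coe_mapSurjective, Sylow.coe_mapSurjective]
        exact hS₁f.symm.trans hT₁f))
    haveI := hC S₁ T₁ hne₁
    haveI : IsCyclic E' :=
      isCyclic_of_injective (Subgroup.inclusion (le_inf hS₁ hT₁)) (Subgroup.inclusion_injective _)
    haveI : IsCyclic (E : Subgroup (D.comap f)) := isCyclic_of_injective
      ((E : Subgroup (D.comap f)).equivMapOfInjective _ (D.comap f).subtype_injective).toMonoidHom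
      (MulEquiv.injective _)
    haveI : IsCyclic (⊤ : Subgroup D) := by
      rw [← hED]
      exact isCyclic_of_surjective _ (g.subgroupMap_surjective (E : Subgroup (D.comap f)))
    exact isCyclic_of_surjective _ Subgroup.topEquiv.surjective
  obtain ⟨hcyc, hcent⟩ := CyclicMeet.pCore_central hmeet hns' hcore
  suffices hle : N.map f ≤ Cfsg.pCore 2 (G ⧸ O) from
    ⟨isCyclic_of_injective (Subgroup.inclusion hle) (Subgroup.inclusion_injective hle),
      (Cores.isPGroup_pCore 2 _).to_le hle, hle.trans hcent⟩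
  set M := N.map f
  haveI hMn : M.Normal := Subgroup.Normal.map inferInstance f (QuotientGroup.mk'_surjective O)
  haveI : Group.IsSolvable M := Group.isSolvable_of_surjective (f.subgroupMap_surjective N)
  refine Cores.le_pCore hMn ?_
  have hMcore : Cfsg.pPrimeCore 2 M = ⊥ := by
    rw [← Subgroup.map_eq_bot_iff_of_injective _ M.subtype_injective, Cores.pPrimeCore_map_subtype,
      hcore, bot_inf_eq]
  have hself := Solvable.centralizer_pCore_le_of_isSolvable (G := M) hMcore
  set R := Cfsg.pCore 2 M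
  have hR2 : IsPGroup 2 R := Cores.isPGroup_pCore 2 M
  haveI hRn : R.Normal := pCore_normal 2 M
  have hRle : R.map M.subtype ≤ Cfsg.pCore 2 (G ⧸ O) := (Cores.pCore_map_subtype M 2).le.trans inf_le_left
  haveI := hcyc
  haveI : IsCyclic ↥(R.map M.subtype) :=
    isCyclic_of_injective (Subgroup.inclusion hRle) (Subgroup.inclusion_injective hRle)
  haveI : IsCyclic R :=
    isCyclic_of_injective (R.equivMapOfInjective _ M.subtype_injective).toMonoidHom (MulEquiv.injective _)
  intro x
  obtain ⟨k, m, hm, he⟩ := Nat.exists_eq_two_pow_mul_odd (orderOf_pos x).ne'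
  refine ⟨k, ?_⟩
  have ho : orderOf (x ^ 2 ^ k) = m := by
    rw [orderOf_pow' _ (by positivity), he, Nat.gcd_eq_right (dvd_mul_right _ _),
      Nat.mul_div_cancel_left _ (by positivity)]
  have hmem : x ^ 2 ^ k ∈ R := hself (Transfer.centralizes_of_isPGroup_mulAut
    (Transfer.isPGroup_mulAut_of_isCyclic hR2) (by rw [Subgroup.normalizer_eq_top]; exact Subgroup.mem_top _)
    (Nat.coprime_two_right.2 (ho ▸ hm)))
  obtain ⟨n, hn⟩ := IsPGroup.iff_card.1 hR2
  have hdvd := orderOf_dvd_natCard (⟨_, hmem⟩ : R)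
  rw [Subgroup.orderOf_mk, ho, hn] at hdvd
  rw [← orderOf_eq_one_iff, ho]
  exact Nat.eq_one_of_dvd_coprimes ((Nat.coprime_two_right.2 hm).pow_right n) dvd_rfl hdvd

end Cfsg.Agent.S3306
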