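import Cfsg.Statements.S3310
import Cfsg.Agent.Lib.RankMeet.Lift
import Cfsg.Agent.Lib.Goldschmidt.ThreeInv.Main

set_option autoImplicit false
open Cfsg Subgroup

namespace Cfsg.Agent.S3310

/-- A surjection restricted to a subgroup and its image, with trivial intersection with the kernel. -/
theorem exists_equiv {G X : Type*} [Group G] [Group X] {f : G →* X} {S : Subgroup G} {T : Subgroup X}
    (hST : S.map f = T) (hd : ∀ x ∈ S, f x = 1 → x = 1) :
    ∃ e : ↥S ≃* ↥T, ∀ x : S, ((e x : T) : X) = f x := by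
  subst hST
  let g : ↥S →* ↥(S.map f) := (f.comp S.subtype).codRestrict _ fun x => ⟨x, x.2, rfl⟩
  refine ⟨MulEquiv.ofBijective g ⟨(injective_iff_map_eq_one g).2 fun x hx =>
    Subtype.ext (hd x x.2 (congrArg Subtype.val hx)), ?_⟩, fun x => rfl⟩
  rintro ⟨_, x, hx, rfl⟩
  exact ⟨⟨x, hx⟩, rfl⟩

/-- Let G be a finite nonsolvable group; write O(G) for its largest normal subgroup of odd order and O₂(G) for its largest normal 2-subgroup. Suppose that every intersection of two distinct Sylow 2-subgroups of G has 2-rank at most 1, that some two distinct Sylow 2-subgroups of G/O(G) have a non-cyclic intersection, and that no Sylow 2-subgroup of G is a quaternion group, ordinary or generalized (of order 2^k ≥ 8). Then either (a) O₂(G) is a quaternion group, ordinary or generalized (of order 2^k ≥ 8), and G has a normal subgroup G₁ of odd index containing O₂(G)O(G) with G₁/O₂(G)O(G) isomorphic to PSL(2,2ⁿ) (n ≥ 2), a Suzuki group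 over the field with 2^(2m+1) elements (m ≥ 1), or PSU(3,2ⁿ) (n ≥ 2); or (b) G has a normal subgroup G₁ containing O(G), of index odd or twice an odd number, with G₁/O(G) isomorphic to the central product of two copies of SL(2,5) with amalgamated centres. -/
theorem result {G : Type*} [Group G] [Finite G] (hns : ¬ Group.IsSolvable G)
    (hI : ∀ S T : Sylow 2 G, S ≠ T → Cfsg.PRankLE 2 1 ↥((S : Subgroup G) ⊓ (T : Subgroup G)))
    (hnC : ∃ S T : Sylow 2 (G ⧸ Cfsg.oddCore G), S ≠ T ∧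
      ¬ IsCyclic ↥((S : Subgroup (G ⧸ Cfsg.oddCore G)) ⊓ (T : Subgroup (G ⧸ Cfsg.oddCore G))))
    (hnQ : ∀ S : Sylow 2 G, ∀ n : ℕ, IsEmpty (↥(S : Subgroup G) ≃* QuaternionGroup (2 ^ (n + 1)))) :
    (∃ (G₁ : Subgroup G) (_ : G₁.Normal) (_ : ((Cfsg.pCore 2 G ⊔ Cfsg.oddCore G).subgroupOf G₁).Normal),
      Odd G₁.index ∧ Cfsg.pCore 2 G ⊔ Cfsg.oddCore G ≤ G₁ ∧
      (∃ n : ℕ, Nonempty (↥(Cfsg.pCore 2 G) ≃* QuaternionGroup (2 ^ (n + 1)))) ∧
      ((∃ (n : ℕ) (F : Type) (_ : Field F) (_ : Fintype F), 2 ≤ n ∧ Fintype.card F = 2 ^ n ∧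
          Nonempty (↥G₁ ⧸ (Cfsg.pCore 2 G ⊔ Cfsg.oddCore G).subgroupOf G₁ ≃* Matrix.ProjectiveSpecialLinearGroup (Fin 2) F)) ∨
       (∃ (m : ℕ) (F : Type) (_ : Field F) (_ : Fintype F), 1 ≤ m ∧ Fintype.card F = 2 ^ (2 * m + 1) ∧
          Nonempty (↥G₁ ⧸ (Cfsg.pCore 2 G ⊔ Cfsg.oddCore G).subgroupOf G₁ ≃* ↥(Cfsg.Lie.Sz F (2 ^ (m + 1))))) ∨
       (∃ (n : ℕ) (F : Type) (_ : Field F) (_ : Fintype F), 2 ≤ n ∧ Fintype.card F = 4 ^ n ∧
          Nonempty (↥G₁ ⧸ (Cfsg.pCore 2 G ⊔ Cfsg.oddCore G).subgroupOf G₁ ≃* Cfsg.PSU 3 F (2 ^ n))))) ∨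
    (∃ (G₁ : Subgroup G) (_ : G₁.Normal) (_ : ((Cfsg.oddCore G).subgroupOf G₁).Normal),
      (Odd G₁.index ∨ ∃ k : ℕ, Odd k ∧ G₁.index = 2 * k) ∧ Cfsg.oddCore G ≤ G₁ ∧
      ∃ (Z : Subgroup (Matrix.SpecialLinearGroup (Fin 2) (ZMod 5) × Matrix.SpecialLinearGroup (Fin 2) (ZMod 5))) (_ : Z.Normal),
        Z = Subgroup.zpowers ((-1 : Matrix.SpecialLinearGroup (Fin 2) (ZMod 5)), (-1 : Matrix.SpecialLinearGroup (Fin 2) (ZMod 5))) ∧
        Nonempty (↥G₁ ⧸ (Cfsg.oddCore G).subgroupOf G₁ ≃*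
          (Matrix.SpecialLinearGroup (Fin 2) (ZMod 5) × Matrix.SpecialLinearGroup (Fin 2) (ZMod 5)) ⧸ Z)) := by
  classical
  haveI : Fact (Nat.Prime 2) := ⟨Nat.prime_two⟩
  set O := Cfsg.oddCore G with hO
  set π := QuotientGroup.mk' O with hπ
  have hπs : Function.Surjective π := QuotientGroup.mk'_surjective O
  have hOodd : Odd (Nat.card O) := Nat.coprime_two_right.1 (Agent.Cores.coprime_card_pPrimeCore 2)
  have hker : ∀ x, π x = 1 ↔ x ∈ O := fun x => QuotientGroup.eq_one_iff x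
  have hSO : ∀ (P : Subgroup G), IsPGroup 2 P → ∀ x ∈ P, x ∈ O → x = 1 := fun P hP x hx hxO => by
    obtain ⟨k, hk⟩ := IsPGroup.iff_card.1 hP
    exact Agent.Coprime.eq_one_of_mem_of_mem (A := P) (K := O)
      (by rw [hk]; exact (Nat.coprime_two_left.2 hOodd).pow_left k) hx hxO
  have hlift : ∀ Sb : Sylow 2 (G ⧸ O), ∃ (S : Sylow 2 G) (e : ↥(S : Subgroup G) ≃* ↥(Sb : Subgroup (G ⧸ O))),
      (S : Subgroup G).map π = Sb ∧ ∀ x, ((e x : (Sb : Subgroup (G ⧸ O))) : G ⧸ O) = π x := fun Sb => by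
    obtain ⟨S, -, hS⟩ := Agent.SylowLift.exists_le_map_eq hπs Sb (R := ⊥) IsPGroup.of_bot (by simp)
    obtain ⟨e, he⟩ := exists_equiv hS fun x hx hx1 => hSO _ S.isPGroup' x hx ((hker x).1 hx1)
    exact ⟨S, e, hS, he⟩
  have hX : Agent.RankMeet.Hyp (G ⧸ O) := by
    refine ⟨Agent.Cores.pPrimeCore_quotient_self 2, fun h => hns ?_,
      Agent.RankMeet.rankMeet_of_odd_kernel hπs (by rwa [QuotientGroup.ker_mk']) hI, hnC, fun Sb n => ⟨fun e => ?_⟩⟩
    · exact (Group.isSolvable_iff_subgroup_quotient O).2 ⟨Agent.OddOrderTheorem.solvable hOodd, h⟩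
    · obtain ⟨S, f, -, -⟩ := hlift Sb
      exact (hnQ S n).false (f.trans e)
  rcases Agent.RankMeet.main Agent.Goldschmidt.ThreeInv.threeInvTarget hX with hA | hB
  · left
    obtain ⟨E, hEc, hE2, hE⟩ := Agent.RankMeet.exists_eight hX.meet hX.nonsolvable hA
    obtain ⟨X₁, hX₁, hodd, hQX, ⟨n, ⟨φ⟩⟩, h3⟩ := hA
    haveI := hX₁
    set Q := Cfsg.pCore 2 (G ⧸ O) with hQdef
    obtain ⟨Sb, hESb⟩ := (show IsPGroup 2 E from fun x => ⟨1, Subtype.ext (by simpa using hE2 x x.2)⟩).exists_le_sylow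
    obtain ⟨S, e, hS, he⟩ := hlift Sb
    have hinj : ∀ x ∈ S, ∀ y ∈ S, π x = π y → x = y := fun x hx y hy h =>
      congrArg Subtype.val (e.injective (a₁ := ⟨x, hx⟩) (a₂ := ⟨y, hy⟩) (Subtype.ext (by rw [he, he]; exact h)))
    set E' := E.comap π ⊓ (S : Subgroup G) with hE'
    haveI : IsMulCommutative E' := ⟨⟨fun x y => Subtype.ext (hinj _ (mul_mem x.2.2 y.2.2) _ (mul_mem y.2.2 x.2.2)
      (by simp only [Subgroup.coe_mul, map_mul]; exact congrArg Subtype.val (hEc.is_comm.comm (⟨_, x.2.1⟩ : E) ⟨_, y.2.1⟩)))⟩⟩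
    have hcard : Nat.card E ≤ Nat.card E' :=
      Nat.card_le_card_of_injective (fun y : E => (⟨(e.symm ⟨y, hESb y.2⟩ : G), by
        show π _ ∈ E
        rw [← he, MulEquiv.apply_symm_apply]
        exact y.2, (e.symm ⟨y, hESb y.2⟩).2⟩ : E')) fun y y' h => Subtype.ext (by
          have h1 := congrArg (fun w : E' => π (w : G)) h
          simp only [← he, MulEquiv.apply_symm_apply] at h1
          exact h1)
    have hSC : (S : Subgroup G) ≤ centralizer (O : Set G) := Agent.RankMeet.centralizes_of_eight hI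
      (inf_le_right : E' ≤ _) (fun x hx => hinj _ (pow_mem hx.2 2) _ (one_mem _)
        (by rw [map_pow, map_one]; exact hE2 _ hx.1)) (lt_of_lt_of_le hE hcard) hOodd
    set M := Q.comap π with hM
    set T := (S : Subgroup G) ⊓ M with hT
    have hprod : ∀ m ∈ M, ∃ t ∈ T, ∃ o ∈ O, m = t * o := fun m hm => by
      obtain ⟨t, ht, htm⟩ := hS.ge (Agent.Cores.pCore_le_sylow Sb hm)
      refine ⟨t, ⟨ht, show π t ∈ Q by rw [htm]; exact hm⟩, t⁻¹ * m, (hker _).1 ?_, by group⟩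
      rw [map_mul, map_inv, htm, inv_mul_cancel]
    have htwo : ∀ m ∈ M, ∀ k : ℕ, m ^ 2 ^ k = 1 → m ∈ T := fun m hm k hk => by
      obtain ⟨t, ht, o, ho, rfl⟩ := hprod m hm
      have hc : Commute t o := (hSC ht.1 o ho).symm
      rw [hc.mul_pow] at hk
      have h1 : o ^ 2 ^ k = 1 := hSO _ S.isPGroup' _
        (by rw [eq_inv_of_mul_eq_one_right hk]; exact inv_mem (pow_mem ht.1 _)) (pow_mem ho _)
      have h2 : o = 1 := orderOf_eq_one_iff.1 (Nat.eq_one_of_dvd_coprimes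
        ((Nat.coprime_two_left.2 hOodd).pow_left k) (orderOf_dvd_of_pow_eq_one h1)
        (Subgroup.orderOf_dvd_natCard O ho))
      rwa [h2, mul_one]
    have hTp : IsPGroup 2 T := S.isPGroup'.to_le inf_le_left
    haveI : M.Normal := (inferInstance : Q.Normal).comap π
    have hTn : T.Normal := ⟨fun t ht g => by
      obtain ⟨k, hk⟩ := hTp ⟨t, ht⟩
      refine htwo _ ((inferInstance : M.Normal).conj_mem t ht.2 g) k ?_
      rw [conj_pow, show t ^ 2 ^ k = 1 from congrArg Subtype.val hk, mul_one, mul_inv_cancel]⟩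
    have hPT : Cfsg.pCore 2 G = T := le_antisymm (fun x hx => by
      obtain ⟨k, hk⟩ := Agent.Cores.isPGroup_pCore 2 G ⟨x, hx⟩
      exact htwo x (Agent.Cores.map_pCore_le π hπs 2 ⟨x, hx, rfl⟩) k (congrArg Subtype.val hk))
      (Agent.Cores.le_pCore hTn hTp)
    have hsup : Cfsg.pCore 2 G ⊔ O = M := le_antisymm
      (sup_le (hPT.le.trans inf_le_right) fun x hx => by
        show π x ∈ Q
        rw [(hker x).2 hx]
        exact one_mem Q)
      fun m hm => by
        obtain ⟨t, ht, o, ho, rfl⟩ := hprod m hm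
        exact mul_mem (mem_sup_left (hPT.ge ht)) (mem_sup_right ho)
    have hmap : (Cfsg.pCore 2 G).map π = Q := le_antisymm (Agent.Cores.map_pCore_le π hπs 2) fun y hy => by
      obtain ⟨t, ht, rfl⟩ := hS.ge (Agent.Cores.pCore_le_sylow Sb hy)
      exact ⟨t, hPT.ge ⟨ht, hy⟩, rfl⟩
    obtain ⟨ψ, -⟩ := exists_equiv hmap fun x hx hx1 =>
      hSO _ (Agent.Cores.isPGroup_pCore 2 G) x hx ((hker x).1 hx1)
    refine ⟨X₁.comap π, hX₁.comap π, inferInstance, by rwa [index_comap_of_surjective _ hπs], ?_,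
      ⟨n, ⟨ψ.trans φ⟩⟩, ?_⟩
    · rw [hsup]; exact comap_mono hQX
    let f : ↥(X₁.comap π) →* ↥X₁ ⧸ Q.subgroupOf X₁ := (QuotientGroup.mk' _).comp (π.subgroupComap X₁)
    have hf : Function.Surjective f :=
      (QuotientGroup.mk'_surjective _).comp (π.subgroupComap_surjective_of_surjective X₁ hπs)
    have hfker : f.ker = (Cfsg.pCore 2 G ⊔ O).subgroupOf (X₁.comap π) := by
      ext x
      rw [hsup, MonoidHom.mem_ker, MonoidHom.comp_apply, QuotientGroup.mk'_apply, QuotientGroup.eq_one_iff,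
        mem_subgroupOf, mem_subgroupOf]
      rfl
    exact h3.congr ((QuotientGroup.quotientMulEquivOfEq hfker.symm).trans
      (QuotientGroup.quotientKerEquivOfSurjective f hf))
  · right
    obtain ⟨-, X₁, hX₁, hidx, Z, hZn, hZ, ⟨f⟩⟩ := hB
    haveI := hX₁
    refine ⟨X₁.comap π, hX₁.comap π, inferInstance, by rwa [index_comap_of_surjective _ hπs], ?_,
      Z, hZn, hZ, ?_⟩
    · exact fun x hx => by
        show π x ∈ X₁
        rw [(hker x).2 hx]
        exact one_mem X₁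
    have hfker : (π.subgroupComap X₁).ker = O.subgroupOf (X₁.comap π) := by
      ext x
      rw [MonoidHom.mem_ker, mem_subgroupOf, ← hker]
      exact Subtype.ext_iff
    exact ⟨((QuotientGroup.quotientMulEquivOfEq hfker.symm).trans (QuotientGroup.quotientKerEquivOfSurjective _
      (π.subgroupComap_surjective_of_surjective X₁ hπs))).trans f⟩

end Cfsg.Agent.S3310
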