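import Cfsg.Statements.S3312
import Cfsg.Agent.EqLemmas
import Cfsg.Agent.Lib.ZStar.Markov
import Cfsg.Agent.Lib.ExtLayer.Basic

set_option autoImplicit false
open Cfsg

namespace Cfsg.Agent.S3312

open Cfsg.Agent

variable {G : Type*} [Group G] [Finite G] {T : Sylow 2 G} {W : Subgroup G}

/-- `W ≤ Z(T)` and weakly closed, in element form. -/
structure Setup (T : Sylow 2 G) (W : Subgroup G) : Prop where
  le : W ≤ (T : Subgroup G)
  comm : ∀ w ∈ W, ∀ s ∈ (T : Subgroup G), Commute w s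
  closed : ∀ g : G, (∀ w ∈ W, g * w * g⁻¹ ∈ (T : Subgroup G)) →
    (∀ w ∈ W, g * w * g⁻¹ ∈ W) ∧ ∀ w ∈ W, g⁻¹ * w * g ∈ W

theorem exists_conj_le (Q : Subgroup G) (hQ : IsPGroup 2 Q) :
    ∃ h : G, ∀ q ∈ Q, h⁻¹ * q * h ∈ (T : Subgroup G) := by
  obtain ⟨S, hS⟩ := hQ.exists_le_sylow
  obtain ⟨h, hh⟩ := MulAction.exists_smul_eq G T S
  refine ⟨h, fun q hq => ?_⟩
  have : q ∈ ((h • T : Sylow 2 G) : Subgroup G) := hh.symm ▸ hS hq
  rw [Sylow.coe_subgroup_smul, Subgroup.mem_pointwise_smul_iff_inv_smul_mem, ← map_inv,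
    MulAut.smul_def, MulAut.conj_apply, inv_inv] at this
  exact this

theorem Setup.conj_into (hS : Setup T W) (y g : G) (hW : ∀ w ∈ W, Commute w y)
    (hW' : ∀ w ∈ W, Commute (g * w * g⁻¹) y) :
    ∃ c : G, Commute c y ∧ ∀ w ∈ W, c * g * w * (c * g)⁻¹ ∈ W := by
  haveI : Fact (Nat.Prime 2) := ⟨Nat.prime_two⟩
  set C := Subgroup.centralizer ({y} : Set G) with hC
  have hmem : ∀ x, x ∈ C ↔ Commute x y := fun x => Subgroup.mem_centralizer_singleton_iff
  have hA : IsPGroup 2 W := T.isPGroup'.to_le hS.le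
  set W' := W.map (MulAut.conj g).toMonoidHom with hW'def
  have hB : IsPGroup 2 W' := hA.map _
  have hWC : W ≤ C := fun w hw => (hmem w).2 (hW w hw)
  have hW'C : W' ≤ C := by
    rintro _ ⟨w, hw, rfl⟩
    exact (hmem _).2 (by simpa [MulAut.conj_apply] using hW' w hw)
  obtain ⟨S1, hS1⟩ := (hA.comap_of_injective C.subtype C.subtype_injective :
    IsPGroup 2 (W.subgroupOf C)).exists_le_sylow
  obtain ⟨S2, hS2⟩ := (hB.comap_of_injective C.subtype C.subtype_injective :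
    IsPGroup 2 (W'.subgroupOf C)).exists_le_sylow
  obtain ⟨c, hc⟩ := MulAction.exists_smul_eq C S2 S1
  set Q := (S1 : Subgroup C).map C.subtype
  have hQ : IsPGroup 2 Q := S1.isPGroup'.map _
  have hWQ : ∀ w ∈ W, w ∈ Q := fun w hw =>
    ⟨⟨w, hWC hw⟩, hS1 (Subgroup.mem_subgroupOf.2 hw), rfl⟩
  have hW'Q : ∀ w ∈ W, (c : G) * g * w * ((c : G) * g)⁻¹ ∈ Q := fun w hw => by
    have hm : g * w * g⁻¹ ∈ W' := ⟨w, hw, rfl⟩
    have h1 : c * ⟨g * w * g⁻¹, hW'C hm⟩ * c⁻¹ ∈ (S1 : Subgroup C) := by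
      rw [← hc, Sylow.coe_subgroup_smul]
      exact Subgroup.smul_mem_pointwise_smul _ (MulAut.conj c) _ (hS2 (Subgroup.mem_subgroupOf.2 hm))
    exact ⟨_, h1, by simp [mul_assoc]⟩
  obtain ⟨h, hh⟩ := exists_conj_le (T := T) Q hQ
  refine ⟨c, (hmem _).1 c.2, fun w hw => ?_⟩
  have h1 := (hS.closed h⁻¹ fun v hv => by rw [inv_inv]; exact hh v (hWQ v hv)).2
  have h2 := (hS.closed (h⁻¹ * ((c : G) * g)) fun v hv => by
    rw [show h⁻¹ * ((c : G) * g) * v * (h⁻¹ * ((c : G) * g))⁻¹ =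
      h⁻¹ * ((c : G) * g * v * ((c : G) * g)⁻¹) * h by group]
    exact hh _ (hW'Q v hv)).1 w hw
  have h3 := h1 _ h2
  rwa [show h⁻¹⁻¹ * (h⁻¹ * ((c : G) * g) * w * (h⁻¹ * ((c : G) * g))⁻¹) * h⁻¹ =
    (c : G) * g * w * ((c : G) * g)⁻¹ by group] at h3

theorem Setup.fusion (hS : Setup T W) {w : G} (hw : w ∈ W) {g : G}
    (hg : g * w * g⁻¹ ∈ (T : Subgroup G)) : g * w * g⁻¹ ∈ W := by
  obtain ⟨c, hc, hcW⟩ := hS.conj_into (g * w * g⁻¹) g (fun v hv => hS.comm v hv _ hg)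
    (fun v hv => by simpa [MulAut.conj_apply] using
      ((hS.comm v hv w (hS.le hw)).map (MulAut.conj g).toMonoidHom))
  have h := hcW w hw
  rwa [show c * g * w * (c * g)⁻¹ = c * (g * w * g⁻¹) * c⁻¹ by group, hc.eq,
    mul_inv_cancel_right] at h

theorem Setup.step (hS : Setup T W) {ω : G} (hω : ω ∈ W) (hω2 : orderOf ω = 2) {u : G}
    (hu : orderOf u = 2) (huT : u ∈ (T : Subgroup G)) (huW : u ∉ W)
    (hcos : ∀ w ∈ W, orderOf (u * w) = 2 →
      W.subgroupOf (Subgroup.centralizer ({u * w} : Set G)) ≤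
        Cfsg.pPrimePCore 2 ↥(Subgroup.centralizer ({u * w} : Set G))) (g : G) :
    ∃ w₀ ∈ W, orderOf (u * w₀) = 2 ∧ ∀ {M : Ideal AlgInt}, IsPModular 2 M →
      ∀ χ ∈ principalBlock M G,
        (χ : G → ℂ) (g * ω * g⁻¹ * u) = (χ : G → ℂ) (u * w₀) := by
  haveI : Fact (Nat.Prime 2) := ⟨Nat.prime_two⟩
  set x := g * ω * g⁻¹ with hxdef
  have hx : orderOf x = 2 := (Involution.orderOf_conj g ω).trans hω2
  set r := u * x with hr
  have hn0 : orderOf r ≠ 0 := (orderOf_pos r).ne'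
  have heven : Even (orderOf r) := by
    rcases Nat.even_or_odd (orderOf r) with h | h
    · exact h
    exfalso
    obtain ⟨d, -, hd⟩ := Involution.exists_conj_of_odd hu hx h
    have e : d⁻¹ * g * ω * (d⁻¹ * g)⁻¹ = u := by
      rw [show d⁻¹ * g * ω * (d⁻¹ * g)⁻¹ = d⁻¹ * x * d by rw [hxdef]; group, ← hd]; group
    exact huW (e ▸ hS.fusion hω (e.symm ▸ huT))
  obtain ⟨a, m, hm, hn⟩ := Nat.exists_eq_two_pow_mul_odd hn0
  obtain ⟨k, rfl⟩ := hm
  set i := r ^ (2 * k + 1) with hi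
  have hinv : ∀ j : ℕ, u * r ^ j * u⁻¹ = (r ^ j)⁻¹ :=
    fun j => Involution.inverts_pow (Involution.inverts_mul_left hu hx) j
  have hi1 : i ≠ 1 := fun h => by
    have h1 := orderOf_dvd_of_pow_eq_one h
    obtain ⟨b, hb⟩ := (even_iff_two_dvd.1 heven).trans h1
    omega
  -- the two reflections `x` and `u * i`
  have hxx' : r ^ k * (u * i) * (r ^ k)⁻¹ = x := by
    have hswap : r ^ k * u = u * (r ^ k)⁻¹ := by
      calc r ^ k * u = ((r ^ k)⁻¹)⁻¹ * u := by rw [inv_inv]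
        _ = (u * r ^ k * u⁻¹)⁻¹ * u := by rw [hinv k]
        _ = u * (r ^ k)⁻¹ := by group
    calc r ^ k * (u * i) * (r ^ k)⁻¹ = r ^ k * u * r ^ (2 * k + 1) * (r ^ k)⁻¹ := by
          rw [hi, ← mul_assoc]
      _ = u * (r ^ k)⁻¹ * r ^ (2 * k + 1) * (r ^ k)⁻¹ := by rw [hswap]
      _ = u * r := by group
      _ = x := by rw [hr, Involution.left_mul_mul_left hu hx]
  set x' := u * i with hx'
  -- a two-group containing `u` and `i`
  have hH : IsPGroup 2 (Subgroup.zpowers u) := IsPGroup.of_card (n := 1) (by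
    rw [Nat.card_zpowers, hu, pow_one])
  have hK : IsPGroup 2 (Subgroup.zpowers i) := IsPGroup.of_card (n := a) (by
    rw [Nat.card_zpowers, hi, orderOf_pow' r (by omega), hn,
      Nat.gcd_mul_left_left, Nat.mul_div_cancel _ (by omega)])
  have hnorm : Subgroup.zpowers u ≤ Subgroup.normalizer (Subgroup.zpowers i : Set G) := by
    rw [Subgroup.zpowers_le, Subgroup.mem_normalizer_iff]
    intro z
    have hj : ∀ j : ℤ, u * i ^ j * u⁻¹ = (i ^ j)⁻¹ := fun j => by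
      rw [← conj_zpow, hi, hinv, inv_zpow]
    constructor
    · rintro ⟨j, rfl⟩
      exact ⟨-j, by show i ^ (-j) = _; rw [hj, zpow_neg]⟩
    · rintro ⟨j, hj'⟩
      refine ⟨-j, ?_⟩
      show i ^ (-j) = z
      have hj'' : i ^ j = u * z * u⁻¹ := hj'
      calc i ^ (-j) = u * i ^ j * u⁻¹ := by rw [hj, zpow_neg]
        _ = (u * u) * z * (u * u)⁻¹ := by rw [hj'']; group
        _ = z := by rw [Involution.mul_self hu]; group
  obtain ⟨h, hh⟩ := exists_conj_le (T := T) _ (hH.to_sup_of_normal_right' hK hnorm)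
  have huh : h⁻¹ * u * h ∈ (T : Subgroup G) :=
    hh u (Subgroup.mem_sup_left (Subgroup.mem_zpowers u))
  have hxh : h⁻¹ * x' * h ∈ (T : Subgroup G) :=
    hh x' (mul_mem (Subgroup.mem_sup_left (Subgroup.mem_zpowers u))
      (Subgroup.mem_sup_right (Subgroup.mem_zpowers i)))
  have hxW : h⁻¹ * x' * h ∈ W := by
    have e : h⁻¹ * (r ^ k)⁻¹ * g * ω * (h⁻¹ * (r ^ k)⁻¹ * g)⁻¹ = h⁻¹ * x' * h := by
      rw [show h⁻¹ * (r ^ k)⁻¹ * g * ω * (h⁻¹ * (r ^ k)⁻¹ * g)⁻¹ =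
        h⁻¹ * ((r ^ k)⁻¹ * x * r ^ k) * h by rw [hxdef]; group, ← hxx']
      group
    exact e ▸ hS.fusion hω (e.symm ▸ hxh)
  have hux : Commute x' u := by
    simpa [MulAut.conj_apply, mul_assoc] using
      (hS.comm _ hxW _ huh).map (MulAut.conj h).toMonoidHom
  have hui : Commute i u := by
    have h1 : u * i * u = u * (u * i) := hx' ▸ hux.eq
    rw [mul_assoc] at h1
    exact mul_left_cancel h1
  have hii : i * i = 1 := by
    have h1 := hinv (2 * k + 1)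
    rw [← hi, ← hui.eq, mul_inv_cancel_right] at h1
    exact eq_inv_iff_mul_eq_one.1 h1
  have hr2 : r ^ (2 * (2 * k + 1)) = 1 := by
    rw [show 2 * (2 * k + 1) = (2 * k + 1) + (2 * k + 1) by ring, pow_add, ← hi, hii]
  -- move `x'` into `W` inside the centraliser of `u`
  obtain ⟨c, hcu, hcW⟩ := hS.conj_into u h (fun w hw => hS.comm w hw u huT) (fun w hw => by
    simpa [MulAut.conj_apply, mul_assoc] using
      (hS.comm w hw _ huh).map (MulAut.conj h).toMonoidHom)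
  set w₀ := c * x' * c⁻¹ with hw₀def
  have hw₀ : w₀ ∈ W := by
    have h1 := hcW _ hxW
    rwa [show c * h * (h⁻¹ * x' * h) * (c * h)⁻¹ = w₀ by rw [hw₀def]; group] at h1
  have hci : c * i * c⁻¹ = u * w₀ := by
    rw [hw₀def, hx', show c * (u * i) * c⁻¹ = c * u * c⁻¹ * (c * i * c⁻¹) by group, hcu.eq,
      mul_inv_cancel_right, ← mul_assoc, Involution.mul_self hu, one_mul]
  have hord : orderOf (u * w₀) = 2 := by
    rw [← hci, Involution.orderOf_conj, Involution.orderOf_eq_two_iff]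
    exact ⟨hi1, hii⟩
  refine ⟨w₀, hw₀, hord, ?_⟩
  set y := r ^ (2 * k + 2) with hy
  have hiy : i * y = r := by
    rw [hi, hy, ← pow_add, show 2 * k + 1 + (2 * k + 2) = 2 * (2 * k + 1) + 1 by ring, pow_succ,
      hr2, one_mul]
  have hxy : x' * x = y := by
    have e : x = u * r := (Involution.left_mul_mul_left hu hx).symm
    rw [hx', e, show u * i * (u * r) = u * i * u * r by group]
    rw [show u * i = i * u from hui.symm.eq, show i * u * u = i by
      rw [mul_assoc, Involution.mul_self hu, mul_one], hi, hy, ← pow_succ]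
  set C := Subgroup.centralizer ({u * w₀} : Set G)
  have hmem : ∀ z, z ∈ C ↔ Commute z (u * w₀) := fun z => Subgroup.mem_centralizer_singleton_iff
  have hconjC : ∀ z, Commute z i → c * z * c⁻¹ ∈ C := fun z hz => (hmem _).2 (by
    rw [← hci]; simpa [MulAut.conj_apply] using hz.map (MulAut.conj c).toMonoidHom)
  have hri : ∀ j : ℕ, Commute (r ^ j) i := fun j => (Commute.refl r).pow_pow _ _
  have hw₀C : w₀ ∈ C := (hmem _).2 (hS.comm w₀ hw₀ _ (mul_mem huT (hS.le hw₀)))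
  set d : C := ⟨c * r ^ k * c⁻¹, hconjC _ (hri k)⟩
  set R := Cfsg.pPrimePCore 2 ↥C
  haveI hRn : R.Normal := (Cores.pCore_normal 2 _).comap _
  have hwR : (⟨w₀, hw₀C⟩ : C) ∈ R := hcos w₀ hw₀ hord (Subgroup.mem_subgroupOf.2 hw₀)
  have hyC : c * y * c⁻¹ ∈ C := hconjC _ (hri _)
  set y' : C := ⟨c * y * c⁻¹, hyC⟩
  have hyR : y' ∈ R := by
    have h1 := mul_mem hwR (hRn.conj_mem _ hwR d)
    convert h1 using 1
    refine Subtype.ext ?_
    show c * y * c⁻¹ = w₀ * (c * r ^ k * c⁻¹ * w₀ * (c * r ^ k * c⁻¹)⁻¹)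
    rw [← hxy, ← hxx', hw₀def]
    group
  have hyK : y' ∈ pPrimeCore 2 ↥C := by
    obtain ⟨e, he⟩ := ExtLayer.exists_pow_mem_of_mem_pPrimePCore hyR
    have h1 : y' ^ (2 * k + 1) = 1 := Subtype.ext (by
      show (c * y * c⁻¹) ^ (2 * k + 1) = 1
      rw [conj_pow, hy, ← pow_mul, show (2 * k + 2) * (2 * k + 1) = 2 * (2 * k + 1) * (k + 1) by
        ring, pow_mul, hr2, one_pow, mul_one, mul_inv_cancel])
    have hco : (orderOf y').Coprime (2 ^ e) :=
      Nat.Coprime.pow_right _ ((Nat.coprime_two_right.2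
        (Odd.of_dvd_nat ⟨k, rfl⟩ (orderOf_dvd_of_pow_eq_one h1))))
    obtain ⟨f, hf⟩ := exists_pow_eq_self_of_coprime hco.symm
    exact hf ▸ pow_mem he f
  intro M hM χ hχ
  have hcl := Char.IsIrrCharacter.isClassFunction χ.2
  have h1 : (χ : G → ℂ) (x * u) = (χ : G → ℂ) (u * w₀ * (y' : G)) := by
    refine Blocks.classFunction_eq_of_isConj hcl (isConj_iff.2 ⟨c * u, ?_⟩)
    show c * u * (x * u) * (c * u)⁻¹ = u * w₀ * (c * y * c⁻¹)
    rw [← hci, show c * i * c⁻¹ * (c * y * c⁻¹) = c * (i * y) * c⁻¹ by group, hiy, hr]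
    group
  rw [h1]
  refine ZStar.apply_mul_eq hM ⟨1, by rw [pow_one, hord]⟩ ((pPrimeCore 2 ↥C).map C.subtype)
    ?_ ?_ ?_ ⟨y', hyK, rfl⟩ hχ
  · rw [Subgroup.card_map_of_injective C.subtype_injective]
    exact Nat.prime_two.coprime_iff_not_dvd.1 (Cores.coprime_card_pPrimeCore 2).symm
  · rintro _ ⟨o, -, rfl⟩
    exact (hmem _).1 o.2
  · rintro z hz _ ⟨o, ho, rfl⟩
    exact ⟨⟨z, (hmem z).2 hz⟩ * o * ⟨z, (hmem z).2 hz⟩⁻¹,
      (Cores.pPrimeCore_normal 2 C).conj_mem o ho _, rfl⟩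

/-- A non-simplicity criterion by weak closure. Let T be a Sylow 2-subgroup of a finite group G, W a nontrivial subgroup of the centre of T that is weakly closed in T with respect to G, and t an involution of T outside W. Suppose that for every involution x in the coset Wt, W lies in O_{2',2}(C_G(x)), the preimage of O₂ of C_G(x)/O_{2'}(C_G(x)). Then G is not simple. -/
theorem result {G : Type*} [Group G] [Finite G]
    (T : Sylow 2 G) (W : Subgroup G) (hW1 : W ≠ ⊥) (hWZ : W ≤ (T : Subgroup G) ⊓ Subgroup.centralizer ((T : Subgroup G) : Set G))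
    (hwc : Cfsg.IsWeaklyClosed W (T : Subgroup G)) (t : G) (ht : orderOf t = 2) (htT : t ∈ (T : Subgroup G)) (htW : t ∉ W)
    (hcos : ∀ w ∈ W, orderOf (w * t) = 2 →
      W.subgroupOf (Subgroup.centralizer ({w * t} : Set G)) ≤ Cfsg.pPrimePCore 2 ↥(Subgroup.centralizer ({w * t} : Set G))) :
    ¬ IsSimpleGroup G := by
  haveI : Fact (Nat.Prime 2) := ⟨Nat.prime_two⟩
  have hS : Setup T W := by
    have hle : W ≤ (T : Subgroup G) := hwc.1
    refine ⟨hle, fun w hw s hs => ?_, fun g hg => ?_⟩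
    · exact (Subgroup.mem_centralizer_iff.1 (hWZ hw).2 s hs).symm
    · have e := hwc.2 g (by rintro _ ⟨w, hw, rfl⟩; simpa [MulAut.conj_apply] using hg w hw)
      refine ⟨fun w hw => e ▸ ⟨w, hw, rfl⟩, fun w hw => ?_⟩
      obtain ⟨v, hv, rfl⟩ : w ∈ W.map (MulAut.conj g).toMonoidHom := e.symm ▸ hw
      simpa [MulAut.conj_apply, mul_assoc] using hv
  obtain ⟨ω, hω, hω1⟩ := (Subgroup.bot_or_exists_ne_one W).resolve_left hW1
  obtain ⟨ω, hω, hω2⟩ : ∃ z ∈ W, orderOf z = 2 := by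
    have hW2 : IsPGroup 2 W := T.isPGroup'.to_le hS.le
    obtain ⟨n, hn⟩ := IsPGroup.iff_card.1 hW2
    have hn0 : n ≠ 0 := fun h => hω1 (by
      rw [h, pow_zero, Subgroup.card_eq_one] at hn
      exact Subgroup.mem_bot.1 (hn ▸ hω))
    obtain ⟨z, hz⟩ := exists_prime_orderOf_dvd_card' (G := W) 2 (hn ▸ dvd_pow_self 2 hn0)
    exact ⟨z, z.2, (Subgroup.orderOf_coe z).trans hz⟩
  refine ZStar.not_simple_of_closed_system (Involution.ne_one hω2) (Involution.mul_self hω2)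
    {u | ∃ w ∈ W, u = w * t ∧ orderOf u = 2} ⟨t, 1, one_mem W, by rw [one_mul], ht⟩
    (fun u ⟨_, _, _, hu⟩ => hu) ?_
  rintro M hM _ ⟨w, hw, rfl, hu⟩ b
  have key : ∀ v ∈ W, w * t * v = w * v * t := fun v hv => by
    rw [mul_assoc, ← (hS.comm v hv t htT).eq, mul_assoc]
  obtain ⟨w₀, hw₀, hord, hval⟩ := hS.step hω hω2 hu (mul_mem (hS.le hw) htT)
    (fun h => htW ((W.mul_mem_cancel_left hw).1 h))
    (fun v hv hv2 => by
      rw [key v hv] at hv2 ⊢
      exact hcos _ (mul_mem hw hv) hv2) b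
  exact ⟨_, ⟨w * w₀, mul_mem hw hw₀, key w₀ hw₀, hord⟩, hval hM⟩

end Cfsg.Agent.S3312
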