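import Cfsg.Statements.S3313
import Cfsg.Agent.Lib.OrderJTwo.Quaternionic
import Cfsg.Agent.Lib.PGroup.Extraspecial
import Cfsg.Agent.Lib.Symplectic.GFit
import Cfsg.Agent.S0213

set_option autoImplicit false
set_option maxHeartbeats 1600000
open Cfsg

namespace Cfsg.Agent.S3313

open Cfsg.Agent.OrderJTwo
open scoped commutatorElement

theorem a5_facts : (∀ x : alternatingGroup (Fin 5), x * x * (x * x) = 1 → x * x = 1) ∧
    (∀ x : alternatingGroup (Fin 5), x * x = 1 ∨ x ^ 15 = 1) ∧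
    (∃ x : alternatingGroup (Fin 5), x ^ 5 = 1 ∧ x ≠ 1) ∧
    Nat.card (alternatingGroup (Fin 5)) = 60 ∧
    Nat.card {x : alternatingGroup (Fin 5) // x * x = 1 ∧ x ≠ 1} = 15 ∧
    Nat.card {p : alternatingGroup (Fin 5) × alternatingGroup (Fin 5) //
      p.1 * p.1 = 1 ∧ p.1 ≠ 1 ∧ p.2 * p.2 = 1 ∧ (p.1 * p.2) ^ 15 = 1} = 195 := by
  rw [Nat.card_eq_fintype_card, Nat.card_eq_fintype_card, Nat.card_eq_fintype_card]
  refine ⟨?_, ?_, ?_, ?_, ?_, ?_⟩ <;> decide +kernel

theorem isConj_mul_self {G : Type*} [Group G] {u z : G} (h : IsConj z u) (hz : z * z = 1) : u * u = 1 := by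
  obtain ⟨g, rfl⟩ := isConj_iff.mp h
  rw [conj_mul, hz]; group

/-- In a dihedral group the power of the rotation that is an involution is central. -/
theorem commute_of_mem_zpowers {G : Type*} [Group G] {u v z : G} (hu : u * u = 1) (hv : v * v = 1)
    (hz : z * z = 1) (h : z ∈ Subgroup.zpowers (u * v)) : z * u = u * z ∧ z * v = v * z := by
  obtain ⟨n, hn⟩ := Subgroup.mem_zpowers_iff.mp h
  have e : u * (u * v) * u⁻¹ = (u * v)⁻¹ := by
    rw [mul_inv_rev, inv_eq_of_mul_eq_one_right hu, inv_eq_of_mul_eq_one_right hv, ← mul_assoc, hu, one_mul]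
  have e1 : u * z * u⁻¹ = z := by
    rw [← hn, ← conj_zpow, e, inv_zpow]
    rw [hn]
    exact inv_eq_of_mul_eq_one_right hz
  have h1 : z * u = u * z := (mul_inv_eq_iff_eq_mul.mp e1).symm
  have h2 : Commute z (u * v) := hn ▸ (Commute.refl (u * v)).zpow_left n
  refine ⟨h1, ?_⟩
  have h3 : z * (u * v) = u * v * z := h2.eq
  rw [← mul_assoc, h1, mul_assoc, mul_assoc] at h3
  exact mul_left_cancel h3

theorem zpow_of_odd {G : Type*} [Group G] {t : G} (ht : t * t = 1) {n : ℤ} (hn : Odd n) : t ^ n = t := by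
  obtain ⟨k, rfl⟩ := hn
  rw [zpow_add_one, zpow_mul, zpow_two, ht, one_zpow, one_mul]

/-- The order of a simple group with the involution pattern of the Hall–Janko group. Let G be a non-abelian finite simple group with exactly two conjugacy classes of involutions, represented by z and t, such that: F*(C_G(z)) is an extraspecial 2-group; Q = O₂(C_G(z)) has order 32 and C_G(z) is the semidirect product of Q by a subgroup isomorphic to A₅; every involution of Q is conjugate to z and every other involution of C_G(z) is conjugate to t; C_G(t) is an internal direct product V × B with V a four-group containing t and B ≅ A₅; every involution of B is conjugate to z and every other involution of C_G(t) is conjugate to t. Then |G| = 604800. -/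
theorem result {G : Type*} [Group G] [Finite G]
    [IsSimpleGroup G] (hna : ¬ IsMulCommutative G) (z t : G) (hz : orderOf z = 2) (ht : orderOf t = 2)
    (hzt : ¬ IsConj z t) (hcl : ∀ x : G, orderOf x = 2 → IsConj x z ∨ IsConj x t)
    (hex : Cfsg.IsExtraspecial 2 ↥(Cfsg.generalizedFittingSubgroup ↥(Subgroup.centralizer ({z} : Set G))))
    (hQ : Nat.card ↥(Cfsg.pCore 2 ↥(Subgroup.centralizer ({z} : Set G))) = 32)
    (K : Subgroup G) (hK : Nonempty (↥K ≃* alternatingGroup (Fin 5)))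
    (hKC : K ⊔ (Cfsg.pCore 2 ↥(Subgroup.centralizer ({z} : Set G))).map (Subgroup.centralizer ({z} : Set G)).subtype = Subgroup.centralizer ({z} : Set G))
    (hKQ : K ⊓ (Cfsg.pCore 2 ↥(Subgroup.centralizer ({z} : Set G))).map (Subgroup.centralizer ({z} : Set G)).subtype = ⊥)
    (hQz : ∀ x ∈ (Cfsg.pCore 2 ↥(Subgroup.centralizer ({z} : Set G))).map (Subgroup.centralizer ({z} : Set G)).subtype, orderOf x = 2 → IsConj x z)
    (hCz : ∀ x ∈ Subgroup.centralizer ({z} : Set G), orderOf x = 2 →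
      x ∉ (Cfsg.pCore 2 ↥(Subgroup.centralizer ({z} : Set G))).map (Subgroup.centralizer ({z} : Set G)).subtype → IsConj x t)
    (V B : Subgroup G) (hVB : Cfsg.IsInternalDirectProduct V B (Subgroup.centralizer ({t} : Set G)))
    (hV : Nat.card ↥V = 4) (hV2 : ∀ v ∈ V, v ^ 2 = 1) (htV : t ∈ V) (hB : Nonempty (↥B ≃* alternatingGroup (Fin 5)))
    (hBz : ∀ x ∈ B, orderOf x = 2 → IsConj x z)
    (hCt : ∀ x ∈ Subgroup.centralizer ({t} : Set G), orderOf x = 2 → x ∉ B → IsConj x t) :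
    Nat.card G = 604800 := by
  obtain ⟨a1, a2, ⟨c5, hc5, hc51⟩, a60, a15, a195⟩ := a5_facts
  obtain ⟨eK⟩ := hK
  obtain ⟨eB⟩ := hB
  obtain ⟨hVC, hBC, hVBc, hVBi, hVBs⟩ := hVB
  have hz2 : z * z = 1 := by rw [← pow_two, ← hz, pow_orderOf_eq_one]
  have hz1 : z ≠ 1 := fun h => by simp [h] at hz
  have ht2 : t * t = 1 := by rw [← pow_two, ← ht, pow_orderOf_eq_one]
  have ht1 : t ≠ 1 := fun h => by simp [h] at ht
  have hord : ∀ x : G, x * x = 1 → x ≠ 1 → orderOf x = 2 := fun x h h1 =>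
    orderOf_eq_prime (by rw [pow_two]; exact h) h1
  set C : Subgroup G := Subgroup.centralizer ({z} : Set G) with hCdef
  set Qc := Cfsg.pCore 2 ↥C with hQcdef
  set Q : Subgroup G := Qc.map C.subtype with hQdef
  have hCmem : ∀ x, x ∈ C ↔ z * x = x * z := fun x => by
    simp only [hCdef, Subgroup.mem_centralizer_iff, Set.mem_singleton_iff, forall_eq]
  have hQC : Q ≤ C := Subgroup.map_subtype_le Qc
  have hKC' : K ≤ C := hKC ▸ le_sup_left
  have hQcard : Nat.card Q = 32 := (Subgroup.card_map_of_injective C.subtype_injective).trans hQ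
  haveI : Fact (Nat.Prime 2) := ⟨Nat.prime_two⟩
  haveI hQcn : Qc.Normal := Cores.pCore_normal 2 _
  have hQnorm : ∀ x ∈ C, ∀ q ∈ Q, x * q * x⁻¹ ∈ Q := by
    rintro x hx _ ⟨q, hq, rfl⟩
    exact ⟨⟨x, hx⟩ * q * ⟨x, hx⟩⁻¹, hQcn.conj_mem q hq _, rfl⟩
  have hdec : ∀ x ∈ C, ∃ q ∈ Q, ∃ k ∈ K, x = q * k := by
    intro x hx
    have hn : K ≤ Subgroup.normalizer (Q : Set G) := fun k hk => Subgroup.mem_normalizer_iff.mpr fun q =>
      ⟨hQnorm k (hKC' hk) q, fun h => by
        have := hQnorm k⁻¹ (inv_mem (hKC' hk)) _ h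
        simpa [mul_assoc] using this⟩
    rw [← hKC, sup_comm, ← SetLike.mem_coe, Subgroup.coe_mul_of_right_le_normalizer_left Q K hn] at hx
    obtain ⟨q, hq, k, hk, rfl⟩ := hx
    exact ⟨q, hq, k, hk, rfl⟩
  have hdu : ∀ q ∈ Q, ∀ q' ∈ Q, ∀ k ∈ K, ∀ k' ∈ K, q * k = q' * k' → q = q' ∧ k = k' := by
    intro q hq q' hq' k hk k' hk' h
    have h1 : q'⁻¹ * q = k' * k⁻¹ := by
      calc q'⁻¹ * q = q'⁻¹ * (q * k) * k⁻¹ := by group
        _ = _ := by rw [h]; group
    have h2 : q'⁻¹ * q ∈ K ⊓ Q := Subgroup.mem_inf.mpr ⟨show q'⁻¹ * q ∈ K by rw [h1]; exact mul_mem hk' (inv_mem hk), mul_mem (inv_mem hq') hq⟩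
    rw [hKQ, Subgroup.mem_bot] at h2
    exact ⟨(inv_mul_eq_one.mp h2).symm, (mul_inv_eq_one.mp (h1.symm.trans h2)).symm⟩
  have hKQ' : ∀ x : G, x ∈ K → x ∈ Q → x = 1 := fun x h h' =>
    Subgroup.mem_bot.mp (hKQ.le (Subgroup.mem_inf.mpr ⟨h, h'⟩))
  have hCcard : Nat.card C = 1920 := by
    let f : Q × K → C := fun p => ⟨p.1 * p.2, mul_mem (hQC p.1.2) (hKC' p.2.2)⟩
    have hf : Function.Bijective f := by
      refine ⟨fun p p' h => ?_, fun x => ?_⟩
      · obtain ⟨e1, e2⟩ := hdu _ p.1.2 _ p'.1.2 _ p.2.2 _ p'.2.2 (congrArg Subtype.val h)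
        exact Prod.ext (Subtype.ext e1) (Subtype.ext e2)
      · obtain ⟨q, hq, k, hk, h⟩ := hdec x x.2
        exact ⟨(⟨q, hq⟩, ⟨k, hk⟩), Subtype.ext h.symm⟩
    rw [← Nat.card_eq_of_bijective f hf, Nat.card_prod, hQcard, Nat.card_congr eK.toEquiv, a60]
  have hzC : z ∈ C := (hCmem z).mpr rfl
  have hzQ : z ∈ Q := by
    refine ⟨⟨z, hzC⟩, ?_, rfl⟩
    have hn : (Subgroup.zpowers (⟨z, hzC⟩ : C)).Normal := ⟨fun w hw g => by
      have : g * ⟨z, hzC⟩ = ⟨z, hzC⟩ * g := Subtype.ext ((hCmem g).mp g.2).symm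
      obtain ⟨n, rfl⟩ := Subgroup.mem_zpowers_iff.mp hw
      rw [((show Commute g ⟨z, hzC⟩ from this).zpow_right n).eq, mul_inv_cancel_right]
      exact hw⟩
    have hp : IsPGroup 2 (Subgroup.zpowers (⟨z, hzC⟩ : C)) :=
      IsPGroup.iff_card.mpr ⟨1, by rw [Nat.card_zpowers, ← Subgroup.orderOf_coe, hz, pow_one]⟩
    exact le_sSup (show Subgroup.zpowers (⟨z, hzC⟩ : C) ∈ {N : Subgroup C | N.Normal ∧ IsPGroup 2 N} from ⟨hn, hp⟩)
      (Subgroup.mem_zpowers _)
  -- an element of order 5 centralises nothing of the generalised Fitting subgroup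
  set c : G := ((eK.symm c5 : K) : G)
  have hcK : c ∈ K := (eK.symm c5).2
  have hc : c ^ 5 = 1 := by
    show ((eK.symm c5 : K) : G) ^ 5 = 1
    rw [← Subgroup.coe_pow, ← map_pow, hc5, map_one]; rfl
  have hc1 : c ≠ 1 := fun h => hc51 (eK.symm.injective (by rw [map_one]; exact Subtype.ext h))
  have hcnQ : c ∉ Q := fun h => hc1 (hKQ' c hcK h)
  set R := Cfsg.generalizedFittingSubgroup ↥C with hRdef
  haveI hRn : R.Normal := Symplectic.generalizedFitting_normal _
  have hES : PGroup.IsES 2 ↥R := PGroup.isES_of_isExtraspecial hex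
  have hRQ : R ≤ Qc := le_sSup (show R ∈ {N : Subgroup C | N.Normal ∧ IsPGroup 2 N} from ⟨hRn, hex.1.1⟩)
  have hcR : ∃ r ∈ R.map C.subtype, c * r * c⁻¹ ≠ r := by
    by_contra hcon
    push Not at hcon
    apply hcnQ
    refine ⟨⟨c, hKC' hcK⟩, hRQ (Symplectic.centralizer_generalizedFitting_le _ ?_), rfl⟩
    rw [Subgroup.mem_centralizer_iff]
    intro r hr
    exact Subtype.ext (mul_inv_eq_iff_eq_mul.mp (hcon r ⟨r, hr, rfl⟩)).symm
  have hR : R = Qc := by
    refine Subgroup.eq_of_le_of_card_ge hRQ ?_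
    rw [hQ]
    have hd : Nat.card R ∣ 2 ^ 5 := by
      have := Subgroup.card_dvd_of_le hRQ
      rwa [hQ] at this
    obtain ⟨i, hi, hi'⟩ := (Nat.dvd_prime_pow Nat.prime_two).mp hd
    by_contra hlt
    -- a 2-group of order at most 16 with non-trivial action of an element of order 5
    set R' := R.map C.subtype
    have hR' : Nat.card R' = 2 ^ i := (Subgroup.card_map_of_injective C.subtype_injective).trans hi'
    have hinvR : ∀ x ∈ (R' : Set G), c * x * c⁻¹ ∈ (R' : Set G) := by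
      rintro _ ⟨r, hr, rfl⟩
      exact ⟨⟨c, hKC' hcK⟩ * r * ⟨c, hKC' hcK⟩⁻¹, hRn.conj_mem r hr _, rfl⟩
    have h5 := fix_modEq c hc _ hinvR
    let F : Subgroup G := R' ⊓ Subgroup.centralizer {c}
    rw [show {x | x ∈ (R' : Set G) ∧ c * x * c⁻¹ = x} = (F : Set G) by
      ext x; simp [F, Subgroup.mem_centralizer_iff, mul_inv_eq_iff_eq_mul],
      ← Nat.card_coe_set_eq, ← Nat.card_coe_set_eq, SetLike.coe_sort_coe, SetLike.coe_sort_coe, hR'] at h5
    have hzR : (2 : ℕ) ∣ Nat.card F := by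
      have hF : z ∈ F := by
        refine ⟨?_, Subgroup.mem_centralizer_iff.mpr fun w hw => ?_⟩
        · have hz' : (⟨z, hzC⟩ : C) ∈ R := Symplectic.centralizer_generalizedFitting_le _
            (Subgroup.mem_centralizer_iff.mpr fun r _ => Subtype.ext ((hCmem r).mp r.2).symm)
          exact ⟨⟨z, hzC⟩, hz', rfl⟩
        · rw [Set.mem_singleton_iff.mp hw]; exact ((hCmem c).mp (hKC' hcK)).symm
      exact hz ▸ Subgroup.orderOf_dvd_natCard F hF
    have hFlt : Nat.card F < 2 ^ i := by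
      rw [← hR']
      refine lt_of_le_of_ne (Subgroup.card_le_of_le inf_le_left) fun h => ?_
      obtain ⟨r, hr, hcr⟩ := hcR
      have e : F = R' := Subgroup.eq_of_le_of_card_ge inf_le_left h.ge
      have := (e ▸ hr : r ∈ F).2
      exact hcr (mul_inv_eq_iff_eq_mul.mpr (Subgroup.mem_centralizer_iff.mp this c rfl))
    have hFd : Nat.card F ∣ 2 ^ i := by
      rw [← hR']; exact Subgroup.card_dvd_of_le inf_le_left
    obtain ⟨l, hl, hl'⟩ := (Nat.dvd_prime_pow Nat.prime_two).mp hFd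
    rw [hl'] at h5 hzR hFlt
    rw [hi'] at hlt
    have hi4 : i ≤ 4 := by
      by_contra h
      exact hlt (by rw [show i = 5 by omega]; norm_num)
    interval_cases i <;> interval_cases l <;> first | omega | (revert h5; decide)
  -- `Q` is extraspecial
  let eR : R → G := fun r => ((r : C) : G)
  have hRmem : ∀ x ∈ Q, ∃ r : R, eR r = x := by
    rintro _ ⟨q, hq, rfl⟩
    exact ⟨⟨q, hR.symm ▸ hq⟩, rfl⟩
  have hzR : (⟨z, hzC⟩ : C) ∈ R := by
    obtain ⟨r, hr⟩ := hRmem z hzQ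
    rw [show (⟨z, hzC⟩ : C) = (r : C) from Subtype.ext hr.symm]
    exact r.2
  have hcen : ∀ r : R, r ∈ Subgroup.center R → eR r = 1 ∨ eR r = z := by
    intro r hr
    have hzc : (⟨⟨z, hzC⟩, hzR⟩ : R) ∈ Subgroup.center R :=
      Subgroup.mem_center_iff.mpr fun g => Subtype.ext (Subtype.ext ((hCmem (g : C)).mp (g : C).2).symm)
    have hne : (⟨⟨⟨z, hzC⟩, hzR⟩, hzc⟩ : Subgroup.center R) ≠ 1 := fun h => hz1
      (congrArg (fun w : Subgroup.center R => eR w) h)
    have huniq := (Nat.card_eq_two_iff' (1 : Subgroup.center R)).mp hES.card_center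
    have : (⟨r, hr⟩ : Subgroup.center R) = 1 ∨ (⟨r, hr⟩ : Subgroup.center R) = ⟨⟨⟨z, hzC⟩, hzR⟩, hzc⟩ :=
      or_iff_not_imp_left.mpr fun h => huniq.unique h hne
    rcases this with h | h
    · exact Or.inl (congrArg (fun w : Subgroup.center R => eR w) h)
    · exact Or.inr (congrArg (fun w : Subgroup.center R => eR w) h)
  have hQ32 : Q32 Q z := by
    refine ⟨hQcard, hzQ, hz2, hz1, fun x hx => ((hCmem x).mp (hQC hx)).symm, ?_, ?_, ?_⟩
    · intro x hx y hy
      obtain ⟨r, rfl⟩ := hRmem x hx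
      obtain ⟨s, rfl⟩ := hRmem y hy
      have e : eR r * eR s = eR ⁅r, s⁆ * (eR s * eR r) := by
        simp only [eR, commutatorElement_def, Subgroup.coe_mul, Subgroup.coe_inv]; group
      rcases hcen _ (hES.comm_mem r s) with h | h <;> rw [h] at e
      · exact Or.inl (by rw [e, one_mul])
      · right
        rw [e, (hCmem _).mp (mul_mem ((s : C)).2 ((r : C)).2)]
    · intro x hx
      obtain ⟨r, rfl⟩ := hRmem x hx
      have := hcen _ (hES.pow_mem r)
      simpa [eR, pow_two] using this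
    · intro x hx hcom
      obtain ⟨r, rfl⟩ := hRmem x hx
      refine hcen r (Subgroup.mem_center_iff.mpr fun g => Subtype.ext (Subtype.ext ?_))
      exact (hcom (eR g) ⟨g, hR ▸ g.2, rfl⟩).symm
  obtain ⟨hI10, hcomm2⟩ := invSet_facts hQ32 c hc (by rw [← (hCmem c).mp (hKC' hcK)]; group)
    (hQnorm c (hKC' hcK)) (by
      obtain ⟨r, ⟨q, hq, rfl⟩, hne⟩ := hcR
      exact ⟨_, ⟨q, hRQ hq, rfl⟩, hne⟩)
  -- the centraliser of `t`
  set D : Subgroup G := Subgroup.centralizer ({t} : Set G) with hDdef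
  have hDdec : ∀ x ∈ D, ∃ a ∈ V, ∃ b ∈ B, x = a * b := by
    intro x hx
    have hn : B ≤ Subgroup.normalizer (V : Set G) := fun b hb => Subgroup.mem_normalizer_iff.mpr fun a =>
      ⟨fun ha => by rw [← hVBc a ha b hb, mul_inv_cancel_right]; exact ha, fun ha => by
        have h := hVBc _ ha b hb
        have : b * a * b⁻¹ = a := by
          have h' : b * a = b * (b * a * b⁻¹) := by rw [← h]; group
          exact (mul_left_cancel h').symm
        exact this ▸ ha⟩
    rw [← hVBs, ← SetLike.mem_coe, Subgroup.coe_mul_of_right_le_normalizer_left V B hn] at hx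
    obtain ⟨a, ha, b, hb, rfl⟩ := hx
    exact ⟨a, ha, b, hb, rfl⟩
  have hVBu : ∀ a ∈ V, ∀ a' ∈ V, ∀ b ∈ B, ∀ b' ∈ B, a * b = a' * b' → a = a' ∧ b = b' := by
    intro a ha a' ha' b hb b' hb' h
    have h1 : a'⁻¹ * a = b' * b⁻¹ := by
      calc a'⁻¹ * a = a'⁻¹ * (a * b) * b⁻¹ := by group
        _ = _ := by rw [h]; group
    have h2 : a'⁻¹ * a ∈ V ⊓ B := Subgroup.mem_inf.mpr ⟨mul_mem (inv_mem ha') ha, show a'⁻¹ * a ∈ B by rw [h1]; exact mul_mem hb' (inv_mem hb)⟩
    rw [hVBi, Subgroup.mem_bot] at h2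
    exact ⟨(inv_mul_eq_one.mp h2).symm, (mul_inv_eq_one.mp (h1.symm.trans h2)).symm⟩
  have hDcard : Nat.card D = 240 := by
    let f : V × B → D := fun p => ⟨p.1 * p.2, mul_mem (hVC p.1.2) (hBC p.2.2)⟩
    have hf : Function.Bijective f := by
      refine ⟨fun p p' h => ?_, fun x => ?_⟩
      · obtain ⟨e1, e2⟩ := hVBu _ p.1.2 _ p'.1.2 _ p.2.2 _ p'.2.2 (congrArg Subtype.val h)
        exact Prod.ext (Subtype.ext e1) (Subtype.ext e2)
      · obtain ⟨a, ha, b, hb, h⟩ := hDdec x x.2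
        exact ⟨(⟨a, ha⟩, ⟨b, hb⟩), Subtype.ext h.symm⟩
    rw [← Nat.card_eq_of_bijective f hf, Nat.card_prod, hV, Nat.card_congr eB.toEquiv, a60]
  have hV2' : ∀ a ∈ V, a * a = 1 := fun a ha => by rw [← pow_two]; exact hV2 a ha
  have hDsq : ∀ x ∈ D, x * x * (x * x) = 1 → x * x = 1 := by
    intro x hx h
    obtain ⟨a, ha, b, hb, rfl⟩ := hDdec x hx
    have e : a * b * (a * b) = b * b := by
      calc a * b * (a * b) = a * (b * a) * b := by group
        _ = a * (a * b) * b := by rw [hVBc a ha b hb]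
        _ = _ := by rw [← mul_assoc a a b, hV2' a ha, one_mul]
    rw [e] at h ⊢
    have h' := a1 (eB ⟨b, hb⟩) (by
      rw [← map_mul, ← map_mul, show (⟨b, hb⟩ * ⟨b, hb⟩ * (⟨b, hb⟩ * ⟨b, hb⟩) : B) = 1 from Subtype.ext h, map_one])
    rw [← map_mul, ← map_one eB] at h'
    exact congrArg Subtype.val (eB.injective h')
  -- an outer involution has elementary abelian centraliser in `Q`
  have hel : ∀ v ∈ C, v * v = 1 → v ∉ Q → ∀ x ∈ Q, v * x * v⁻¹ = x → x * x = 1 := by
    intro v hv hv2 hvQ x hx hvx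
    obtain ⟨g, hg⟩ := isConj_iff.mp (hCz v hv (hord v hv2 fun h => hvQ (h ▸ one_mem Q)) hvQ)
    have h4 : x * x * (x * x) = 1 := by
      rcases hQ32.sq x hx with h | h <;> rw [h]
      · exact one_mul 1
      · exact hz2
    have hD : g * x * g⁻¹ ∈ D := by
      rw [hDdef, Subgroup.mem_centralizer_iff]
      rintro w hw
      rw [Set.mem_singleton_iff.mp hw, ← hg, conj_mul, conj_mul, mul_inv_eq_iff_eq_mul.mp hvx]
    have := hDsq _ hD (by rw [conj_mul, conj_mul, h4]; group)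
    rw [conj_mul] at this
    exact conj_eq_one_iff.mp this
  have hout : ∀ v ∈ C, v * v = 1 → v ∉ Q →
      {x | x ∈ invSet Q z ∧ v * x * v⁻¹ = x}.ncard = 2 ∧ {q | q ∈ Q ∧ v * q * v⁻¹ = q⁻¹}.ncard = 8 :=
    fun v hv hv2 hvQ => outer_facts hQ32 hcomm2 v hv2 (by rw [← (hCmem v).mp hv]; group) (hQnorm v hv)
      (hel v hv hv2 hvQ)
  -- the outer involutions of `C`
  let Vset := {v : G // v ∈ C ∧ v * v = 1 ∧ v ∉ Q}
  have hVset : Nat.card Vset = 120 := by
    let Kinv := {k : alternatingGroup (Fin 5) // k * k = 1 ∧ k ≠ 1}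
    let kk : Kinv → G := fun k => ((eK.symm k.1 : K) : G)
    have hkk : ∀ k, kk k ∈ C ∧ kk k * kk k = 1 ∧ kk k ∉ Q := by
      intro k
      refine ⟨hKC' (eK.symm k.1).2, ?_, fun h => ?_⟩
      · show ((eK.symm k.1 : K) : G) * (eK.symm k.1 : K) = 1
        rw [← Subgroup.coe_mul, ← map_mul, k.2.1, map_one]; rfl
      · have : kk k = 1 := hKQ' _ (eK.symm k.1).2 h
        exact k.2.2 (eK.symm.injective (by rw [map_one]; exact Subtype.ext this))
    let Z := Σ k : Kinv, {q : G // q ∈ Q ∧ kk k * q * (kk k)⁻¹ = q⁻¹}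
    let f : Z → Vset := fun p => ⟨p.2.1 * kk p.1, mul_mem (hQC p.2.2.1) (hkk p.1).1, by
      calc p.2.1 * kk p.1 * (p.2.1 * kk p.1) = p.2.1 * (kk p.1 * p.2.1 * (kk p.1)⁻¹) * (kk p.1 * kk p.1) := by group
        _ = 1 := by rw [p.2.2.2, (hkk p.1).2.1]; group,
      fun h => (hkk p.1).2.2 (by simpa using mul_mem (inv_mem p.2.2.1) h)⟩
    have hf : Function.Bijective f := by
      refine ⟨?_, fun v => ?_⟩
      · rintro ⟨k, q, hq⟩ ⟨k', q', hq'⟩ h
        obtain ⟨e1, e2⟩ := hdu q hq.1 q' hq'.1 _ (eK.symm k.1).2 _ (eK.symm k'.1).2 (congrArg Subtype.val h)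
        have ek : k = k' := Subtype.ext (eK.symm.injective (Subtype.ext e2))
        subst ek e1
        rfl
      · obtain ⟨hv, hv2, hvQ⟩ := v.2
        obtain ⟨q, hq, k, hk, hvk⟩ := hdec v hv
        have hkQ : k * k ∈ Q := by
          have h3 : k * q * k = q⁻¹ := by
            rw [hvk] at hv2
            refine eq_inv_of_mul_eq_one_right ?_
            rw [← hv2]; group
          rw [show k * k = (k * q⁻¹ * k⁻¹) * (k * q * k) by group, h3]
          exact mul_mem (hQnorm k (hKC' hk) _ (inv_mem hq)) (inv_mem hq)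
        have hk2 : k * k = 1 := hKQ' _ (mul_mem hk hk) hkQ
        have hk1 : k ≠ 1 := fun h => hvQ (by rw [hvk, h, mul_one]; exact hq)
        have hkey : k * q * k⁻¹ = q⁻¹ := by
          rw [hvk] at hv2
          calc k * q * k⁻¹ = q⁻¹ * (q * k * (q * k)) * (k * k)⁻¹ := by group
            _ = _ := by rw [hv2, hk2]; group
        refine ⟨⟨⟨eK ⟨k, hk⟩, ?_, ?_⟩, ⟨q, hq, ?_⟩⟩, Subtype.ext ?_⟩
        · rw [← map_mul, show (⟨k, hk⟩ * ⟨k, hk⟩ : K) = 1 from Subtype.ext hk2, map_one]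
        · intro h
          exact hk1 (congrArg Subtype.val (eK.injective (h.trans (map_one eK).symm)))
        · simp only [kk, MulEquiv.symm_apply_apply]; exact hkey
        · simp only [f, kk, MulEquiv.symm_apply_apply]; exact hvk.symm
    haveI : Fintype Kinv := Fintype.ofFinite _
    have h8 : ∀ k : Kinv, Nat.card {q : G // q ∈ Q ∧ kk k * q * (kk k)⁻¹ = q⁻¹} = 8 := fun k =>
      (Nat.card_coe_set_eq {q | q ∈ Q ∧ kk k * q * (kk k)⁻¹ = q⁻¹}).trans
        (hout _ (hkk k).1 (hkk k).2.1 (hkk k).2.2).2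
    rw [← Nat.card_eq_of_bijective f hf, Nat.card_sigma, Finset.sum_congr rfl fun k _ => h8 k,
      Finset.sum_const, Finset.card_univ, smul_eq_mul, ← Nat.card_eq_fintype_card, a15]
  -- the first count
  have hn1 : Nat.card {p : G × G // IsConj z p.1 ∧ IsConj t p.2 ∧ z ∈ Subgroup.zpowers (p.1 * p.2)} = 960 := by
    let Z := Σ v : Vset, {u : G // u ∈ invSet Q z ∧ v.1 * u * v.1⁻¹ ≠ u}
    have hZ : Nat.card Z = 960 := by
      haveI : Fintype Vset := Fintype.ofFinite _
      have h8 : ∀ v : Vset, Nat.card {u : G // u ∈ invSet Q z ∧ v.1 * u * v.1⁻¹ ≠ u} = 8 := by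
        intro v
        rw [show Nat.card {u : G // u ∈ invSet Q z ∧ v.1 * u * v.1⁻¹ ≠ u} =
          (invSet Q z \ {u | u ∈ invSet Q z ∧ v.1 * u * v.1⁻¹ = u}).ncard by
            rw [← Nat.card_coe_set_eq]
            exact Nat.card_congr (Equiv.subtypeEquivRight fun u => by simp +contextual),
          Set.ncard_sdiff (fun u hu => hu.1) (Set.toFinite _), hI10, (hout v.1 v.2.1 v.2.2.1 v.2.2.2).1]
      rw [Nat.card_sigma, Finset.sum_congr rfl fun v _ => h8 v, Finset.sum_const, Finset.card_univ,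
        smul_eq_mul, ← Nat.card_eq_fintype_card, hVset]
    rw [← hZ]
    symm
    have hzpow : ∀ v : Vset, ∀ u : G, u ∈ invSet Q z → v.1 * u * v.1⁻¹ ≠ u → z ∈ Subgroup.zpowers (u * v.1) := by
      rintro ⟨v, hv, hv2, hvQ⟩ u hu hne
      have hvv : v⁻¹ = v := inv_eq_of_mul_eq_one_right hv2
      have hw : v * u * v⁻¹ ∈ invSet Q z := by
        refine ⟨hQnorm v hv u hu.1, by rw [conj_mul, hu.2.1]; group, fun h => hu.2.2.1 (conj_eq_one_iff.mp h),
          fun h => hu.2.2.2 ((MulAut.conj v).injective (show v * u * v⁻¹ = v * z * v⁻¹ by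
            rw [h, ← (hCmem v).mp hv]; group))⟩
      set w := v * u * v⁻¹ with hwdef
      have e : (u * v) * (u * v) = u * w := by rw [hwdef, hvv]; group
      rcases hQ32.comm u hu.1 w hw.1 with hcm | hcm
      · rcases hcomm2 u hu w hw hcm with h | h
        · exact absurd h hne
        · refine ⟨2, ?_⟩
          show (u * v) ^ (2 : ℤ) = z
          rw [zpow_two, e, h, ← mul_assoc, hu.2.1, one_mul]
      · refine ⟨4, ?_⟩
        show (u * v) ^ ((2 : ℤ) * 2) = z
        rw [zpow_mul, zpow_two, zpow_two, e]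
        have h' : w * u = u * w * z := by
          rw [hcm, mul_assoc (w * u), hz2, mul_one]
        calc u * w * (u * w) = u * (w * u) * w := by group
          _ = u * (u * w * z) * w := by rw [h']
          _ = (u * u) * (w * (z * w)) := by group
          _ = z := by rw [← hQ32.zcomm w hw.1, ← mul_assoc w w z, hw.2.1, hu.2.1, one_mul, one_mul]
    let f : Z → {p : G × G // IsConj z p.1 ∧ IsConj t p.2 ∧ z ∈ Subgroup.zpowers (p.1 * p.2)} :=
      fun p => ⟨(p.2.1, p.1.1), (hQz _ p.2.2.1.1 (hord _ p.2.2.1.2.1 p.2.2.1.2.2.1)).symm,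
        (hCz _ p.1.2.1 (hord _ p.1.2.2.1 fun h => p.1.2.2.2 (by rw [h]; exact one_mem Q)) p.1.2.2.2).symm,
        hzpow p.1 p.2.1 p.2.2.1 p.2.2.2⟩
    refine Nat.card_eq_of_bijective f ⟨?_, ?_⟩
    · rintro ⟨⟨v, hv⟩, u, hu⟩ ⟨⟨v', hv'⟩, u', hu'⟩ h
      obtain ⟨rfl, rfl⟩ : u = u' ∧ v = v' := by simpa [f] using h
      rfl
    · rintro ⟨⟨u, v⟩, hzu, htv, hzp⟩
      have hu2 := isConj_mul_self hzu hz2
      have hv2 := isConj_mul_self htv ht2
      obtain ⟨hzu', hzv'⟩ := commute_of_mem_zpowers hu2 hv2 hz2 hzp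
      have huC : u ∈ C := (hCmem u).mpr hzu'
      have hvC : v ∈ C := (hCmem v).mpr hzv'
      have hu1 : u ≠ 1 := fun h => hz1 (isConj_one_left.mp (h ▸ hzu))
      have hv1 : v ≠ 1 := fun h => ht1 (isConj_one_left.mp (h ▸ htv))
      have huQ : u ∈ Q := by
        by_contra h
        exact hzt (hzu.trans (hCz u huC (hord u hu2 hu1) h))
      have hvQ : v ∉ Q := fun h => hzt ((htv.trans (hQz v h (hord v hv2 hv1))).symm)
      have hkey : v * u * v⁻¹ ≠ u := by
        intro h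
        have hc' : v * u = u * v := mul_inv_eq_iff_eq_mul.mp h
        have h2 : (u * v) * (u * v) = 1 := by
          calc (u * v) * (u * v) = u * (v * u) * v := by group
            _ = u * u * (v * v) := by rw [hc']; group
            _ = 1 := by rw [hu2, hv2, one_mul]
        obtain ⟨n, hn⟩ := Subgroup.mem_zpowers_iff.mp hzp
        obtain ⟨k, rfl | rfl⟩ := Int.even_or_odd' n
        · rw [zpow_mul, zpow_two, h2, one_zpow] at hn
          exact hz1 hn.symm
        · rw [zpow_add_one, zpow_mul, zpow_two, h2, one_zpow, one_mul] at hn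
          exact hvQ (show v ∈ Q by
            rw [show v = u⁻¹ * z from eq_inv_mul_of_mul_eq hn]; exact mul_mem (inv_mem huQ) hzQ)
      have huz : u ≠ z := by
        intro h
        apply hkey
        rw [h, ← hzv', mul_inv_cancel_right]
      exact ⟨⟨⟨v, hvC, hv2, hvQ⟩, ⟨u, ⟨huQ, hu2, hu1, huz⟩, hkey⟩⟩, rfl⟩
  -- the second count
  have hn2 : Nat.card {p : G × G // IsConj z p.1 ∧ IsConj t p.2 ∧ t ∈ Subgroup.zpowers (p.1 * p.2)} = 195 := by
    rw [← a195]
    symm
    have htB : t ∉ B := fun h => ht1 (Subgroup.mem_bot.mp (hVBi ▸ (⟨htV, h⟩ : t ∈ V ⊓ B)))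
    let β : alternatingGroup (Fin 5) → G := fun x => ((eB.symm x : B) : G)
    have hβm : ∀ x, β x ∈ B := fun x => (eB.symm x).2
    have hβmul : ∀ x y, β (x * y) = β x * β y := fun x y => by simp only [β, map_mul, Subgroup.coe_mul]
    have hβ1 : β 1 = 1 := by simp only [β, map_one, Subgroup.coe_one]
    have hβpow : ∀ x (k : ℕ), β (x ^ k) = β x ^ k := fun x k => by simp only [β, map_pow, Subgroup.coe_pow]
    have hβinj : Function.Injective β := Subtype.val_injective.comp eB.symm.injective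
    let X := {p : alternatingGroup (Fin 5) × alternatingGroup (Fin 5) //
      p.1 * p.1 = 1 ∧ p.1 ≠ 1 ∧ p.2 * p.2 = 1 ∧ (p.1 * p.2) ^ 15 = 1}
    have hcomt : ∀ b ∈ B, Commute t b := fun b hb => hVBc t htV b hb
    let f : X → {p : G × G // IsConj z p.1 ∧ IsConj t p.2 ∧ t ∈ Subgroup.zpowers (p.1 * p.2)} := fun p =>
      ⟨(β p.1.1, t * β p.1.2),
        (hBz _ (hβm _) (hord _ (by rw [← hβmul, p.2.1, hβ1]) (fun h => p.2.2.1 (hβinj (h.trans hβ1.symm))))).symm,
        (hCt _ (mul_mem (hVC htV) (hBC (hβm _)))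
          (hord _ (by
            calc t * β p.1.2 * (t * β p.1.2) = t * (β p.1.2 * t) * β p.1.2 := by group
              _ = t * t * (β p.1.2 * β p.1.2) := by rw [← (hcomt _ (hβm _)).eq]; group
              _ = 1 := by rw [ht2, ← hβmul, p.2.2.2.1, hβ1, one_mul])
            (fun h => htB (eq_inv_of_mul_eq_one_left h ▸ inv_mem (hβm _))))
          (fun h => htB (by simpa using mul_mem h (inv_mem (hβm p.1.2))))).symm,
        ⟨15, by
          show (β p.1.1 * (t * β p.1.2)) ^ (15 : ℤ) = t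
          rw [← mul_assoc, ← (hcomt _ (hβm _)).eq, mul_assoc, ← hβmul, ((hcomt _ (hβm _)).mul_zpow 15),
            zpow_of_odd ht2 (by decide), show (15 : ℤ) = ((15 : ℕ) : ℤ) from rfl, zpow_natCast, ← hβpow,
            p.2.2.2.2, hβ1, mul_one]⟩⟩
    refine Nat.card_eq_of_bijective f ⟨?_, ?_⟩
    · rintro ⟨⟨x, y⟩, hp⟩ ⟨⟨x', y'⟩, hp'⟩ h
      have h' : β x = β x' ∧ t * β y = t * β y' := by simpa [f] using h
      obtain rfl := hβinj h'.1
      obtain rfl := hβinj (mul_left_cancel h'.2)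
      rfl
    · rintro ⟨⟨u, w⟩, hzu, htw, htp⟩
      have hu2 := isConj_mul_self hzu hz2
      have hw2 := isConj_mul_self htw ht2
      obtain ⟨htu', htw'⟩ := commute_of_mem_zpowers hu2 hw2 ht2 htp
      have huD : u ∈ D := by
        simpa [hDdef, Subgroup.mem_centralizer_iff] using htu'
      have hwD : w ∈ D := by
        simpa [hDdef, Subgroup.mem_centralizer_iff] using htw'
      have hu1 : u ≠ 1 := fun h => hz1 (isConj_one_left.mp (h ▸ hzu))
      have huB : u ∈ B := by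
        by_contra h
        exact hzt (hzu.trans (hCt u huD (hord u hu2 hu1) h))
      obtain ⟨a, ha, b, hb, rfl⟩ := hDdec w hwD
      obtain ⟨n, hn⟩ := Subgroup.mem_zpowers_iff.mp htp
      rw [← mul_assoc, ← hVBc a ha u huB, mul_assoc,
        (show Commute a (u * b) from hVBc a ha _ (mul_mem huB hb)).mul_zpow n] at hn
      obtain ⟨han, hbn⟩ := hVBu _ (zpow_mem ha n) t htV _ (zpow_mem (mul_mem huB hb) n) 1 (one_mem B)
        (hn.trans (mul_one t).symm)
      have hnodd : Odd n := by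
        rw [← Int.not_even_iff_odd]
        rintro ⟨k, rfl⟩
        exact ht1 (by rw [← han, ← two_mul, zpow_mul, zpow_two, hV2' a ha, one_zpow])
      obtain rfl : a = t := (zpow_of_odd (hV2' a ha) hnodd).symm.trans han
      have hb2 : b * b = 1 := by
        calc b * b = a * a * (b * b) := by rw [hV2' a ha, one_mul]
          _ = a * (a * b) * b := by group
          _ = a * (b * a) * b := by rw [hVBc a ha b hb]
          _ = a * b * (a * b) := by group
          _ = 1 := hw2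
      refine ⟨⟨(eB ⟨u, huB⟩, eB ⟨b, hb⟩), ?_, ?_, ?_, ?_⟩, Subtype.ext ?_⟩
      · rw [← map_mul, show (⟨u, huB⟩ * ⟨u, huB⟩ : B) = 1 from Subtype.ext hu2, map_one]
      · intro h
        exact hu1 (congrArg Subtype.val (eB.injective (h.trans (map_one eB).symm)))
      · rw [← map_mul, show (⟨b, hb⟩ * ⟨b, hb⟩ : B) = 1 from Subtype.ext hb2, map_one]
      · rcases a2 (eB ⟨u, huB⟩ * eB ⟨b, hb⟩) with h | h
        · rw [← map_mul, ← map_mul, ← map_one eB] at h
          have h' : u * b * (u * b) = 1 := congrArg Subtype.val (eB.injective h)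
          rw [zpow_of_odd h' hnodd] at hbn
          rw [← map_mul, show (⟨u, huB⟩ * ⟨b, hb⟩ : B) = 1 from Subtype.ext hbn, map_one, one_pow]
        · exact h
      · simp only [f, β, MulEquiv.symm_apply_apply]
  rw [S0213.result z t hz ht hzt (fun x hx => (hcl x hx).imp IsConj.symm IsConj.symm), hn1, hn2, hCcard, hDcard]

end Cfsg.Agent.S3313
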