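import Cfsg.Statements.S3315
import Cfsg.Agent.Lib.Unitary.Count

set_option autoImplicit false
open Cfsg

namespace Cfsg.Agent.S3315

open Cfsg.Agent.Unitary

variable {F : Type*} [Field F] [Fintype F] {q : ℕ}

/-- Normalised form of the algebraic key: two fixed vectors `1` and `μ` with `μ ∉ K₀`. -/
theorem key_two [CharP F 2] (hF : Fintype.card F = q ^ 2) (τ : F →+ F) (σ : F → F) (hτ2 : ∀ x, τ (τ x) = x)
    (hσadd : ∀ c d, c ^ q = c → d ^ q = d → σ (c + d) = σ c + σ d)
    (hσ : ∀ x, (τ x) ^ (q + 1) = σ (x ^ (q + 1))) (h1 : τ 1 = 1) (μ : F) (hμ : τ μ = μ)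
    (hμq : μ ^ q ≠ μ) : ∀ c, c ^ q = c → σ c = c := by
  have hq2 := two_le_q hF
  have hp := pow_q_pow_q hF
  have ha := add_pow_q hF
  have hnorm : ∀ x y : F, (x + y) ^ (q + 1) = x ^ (q + 1) + y ^ (q + 1) + (x * y ^ q + x ^ q * y) := by
    intro x y; rw [pow_succ, pow_succ, pow_succ, ha]; ring
  have hB : ∀ x y : F, σ (x * y ^ q + x ^ q * y) = τ x * τ y ^ q + τ x ^ q * τ y := by
    intro x y
    have e1 := hσ (x + y)
    rw [map_add, hnorm, hnorm, hσadd _ _ (by rw [ha, pow_q_succ_fixed hF, pow_q_succ_fixed hF])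
      (by rw [ha, mul_pow, mul_pow, hp, hp]; ring),
      hσadd _ _ (pow_q_succ_fixed hF x) (pow_q_succ_fixed hF y), hσ, hσ] at e1
    exact (add_left_cancel e1).symm
  have hzero : σ 0 = 0 := by
    have := hσ 0
    rw [map_zero, zero_pow (by omega)] at this
    exact this.symm
  -- `τ` preserves the lines spanned by `1` and `μ`
  have hK : ∀ l, l ^ q = l → τ l ^ q = τ l := by
    intro l hl
    have := hB 1 l
    rw [h1, one_pow, one_mul, one_mul, one_mul, one_mul, hl, CharTwo.add_self_eq_zero, hzero] at this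
    exact (CharTwo.add_eq_zero.mp this.symm)
  have hμ0 : μ ≠ 0 := fun h => hμq (by rw [h, zero_pow_q hF])
  have hKμ : ∀ l, l ^ q = l → ∃ l', l' ^ q = l' ∧ τ (l * μ) = l' * μ := by
    intro l hl
    refine ⟨τ (l * μ) * μ⁻¹, ?_, by field_simp⟩
    have := hB μ (l * μ)
    rw [hμ, mul_pow, hl, show μ * (l * μ ^ q) + μ ^ q * (l * μ) =
      l * μ * μ ^ q + l * μ * μ ^ q by ring, CharTwo.add_self_eq_zero, hzero] at this
    have h' : μ * τ (l * μ) ^ q = μ ^ q * τ (l * μ) := CharTwo.add_eq_zero.mp this.symm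
    rw [mul_pow, inv_pow]
    field_simp
    linear_combination h'
  set t := μ + μ ^ q with ht
  have ht0 : t ≠ 0 := fun h => hμq (CharTwo.add_eq_zero.mp h).symm
  have htq : t ^ q = t := by rw [ht, ha, hp]; ring
  -- the equation for the two lines
  have hE : ∀ l m, l ^ q = l → m ^ q = m → ∀ m', m' ^ q = m' → τ (m * μ) = m' * μ →
      σ (l * m * t) = τ l * m' * t := by
    intro l m hl hm m' hm' hmm
    have := hB l (m * μ)
    rw [hmm, mul_pow, mul_pow, hl, hm, hm', hK l hl] at this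
    rw [show l * (m * μ ^ q) + l * (m * μ) = l * m * t by rw [ht]; ring] at this
    rw [this, ht]; ring
  have hone : σ t = t := by
    have := hE 1 1 (one_pow q) (one_pow q) 1 (one_pow q) (by rw [one_mul, hμ])
    rwa [h1, one_mul, one_mul] at this
  have hσt : ∀ l, l ^ q = l → σ (l * t) = τ l * t := fun l hl => by
    have := hE l 1 hl (one_pow q) 1 (one_pow q) (by rw [one_mul, hμ])
    rwa [mul_one, mul_one] at this
  have hmul : ∀ l m, l ^ q = l → m ^ q = m → τ (l * m) = τ l * τ m := by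
    intro l m hl hm
    obtain ⟨m', hm', hmm⟩ := hKμ m hm
    have e1 := hE l m hl hm m' hm' hmm
    have e2 := hE 1 m (one_pow q) hm m' hm' hmm
    rw [one_mul, hσt m hm, h1, one_mul] at e2
    rw [hσt _ (by rw [mul_pow, hl, hm]), ← mul_right_cancel₀ ht0 e2] at e1
    exact mul_right_cancel₀ ht0 e1
  have hsq : ∀ c, c ^ q = c → σ c = τ c := by
    intro c hc
    obtain ⟨p', m, hp', hchar, hqm, hm1⟩ := exists_prime_pow hF
    have hp2 : p' = 2 := CharP.eq F hchar ‹CharP F 2›
    subst hp2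
    obtain ⟨d, rfl⟩ : ∃ d, d ^ 2 = c := by
      refine ⟨c ^ 2 ^ (m - 1), ?_⟩
      rw [← pow_mul, ← pow_succ, Nat.sub_add_cancel hm1, ← hqm, hc]
    have hd : d ^ q = d := by
      rw [← pow_mul, mul_comm, pow_mul, pow_two, pow_two] at hc
      exact CharTwo.sq_injective (by simpa [pow_two] using hc)
    have := hσ d
    rw [pow_succ, hK d hd, pow_succ, hd] at this
    rw [pow_two, ← this, hmul d d hd hd]
  have hfixn : τ (μ ^ (q + 1)) = μ ^ (q + 1) := by
    rw [← hsq _ (pow_q_succ_fixed hF μ), ← hσ, hμ]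
  have hfixt : τ t = t := by rw [← hsq t htq, hone]
  -- `τ` is trivial on `K₀`
  suffices hall : ∀ l, l ^ q = l → τ l = l from fun c hc => (hsq c hc).trans (hall c hc)
  by_contra hne
  push Not at hne
  obtain ⟨c, hc, hcne⟩ := hne
  let K0 : Subfield F := fixedField hF
  let F0 : Set F := {x | x ^ q = x ∧ τ x = x}
  have hs : c + τ c ≠ 0 := fun h => hcne (CharTwo.add_eq_zero.mp h).symm
  have hsF0 : c + τ c ∈ F0 := ⟨by rw [ha, hc, hK c hc], by rw [map_add, hτ2, add_comm]⟩
  have hinvF0 : ∀ x ∈ F0, x⁻¹ ∈ F0 := by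
    rintro x ⟨hx, hx'⟩
    rcases eq_or_ne x 0 with rfl | hx0
    · rw [inv_zero]; exact ⟨zero_pow_q hF, map_zero τ⟩
    refine ⟨by rw [inv_pow, hx], ?_⟩
    have := hmul x x⁻¹ hx (by rw [inv_pow, hx])
    rw [mul_inv_cancel₀ hx0, h1, hx'] at this
    exact eq_inv_of_mul_eq_one_right this.symm
  have hmulF0 : ∀ x ∈ F0, ∀ y ∈ F0, x * y ∈ F0 := fun x hx y hy =>
    ⟨by rw [mul_pow, hx.1, hy.1], by rw [hmul x y hx.1 hy.1, hx.2, hy.2]⟩
  let S : Subfield F :=
    { carrier := F0
      mul_mem' := fun {a b} ha' hb => hmulF0 a ha' b hb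
      one_mem' := ⟨one_pow q, h1⟩
      add_mem' := fun {a b} ha' hb => ⟨by rw [ha, ha'.1, hb.1], by rw [map_add, ha'.2, hb.2]⟩
      zero_mem' := ⟨zero_pow_q hF, map_zero τ⟩
      neg_mem' := fun {a} ha' => by rw [CharTwo.neg_eq]; exact ha'
      inv_mem' := hinvF0 }
  haveI : Fintype S := Fintype.ofFinite _
  set r := Nat.card S with hr
  have hcoord : r * r = q := by
    rw [hr, ← Nat.card_prod, ← card_fixed hF]
    refine Nat.card_congr (Equiv.ofBijective (fun p : S × S => (⟨p.1 + p.2 * c, ?_⟩ : {x : F // x ^ q = x})) ⟨?_, ?_⟩)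
    · rw [ha, mul_pow, p.1.2.1, p.2.2.1, hc]
    · rintro ⟨a, b⟩ ⟨a', b'⟩ h
      have h' : (a : F) + b * c = a' + b' * c := congrArg Subtype.val h
      have h'' := congrArg τ h'
      rw [map_add, map_add, hmul _ _ b.2.1 hc, hmul _ _ b'.2.1 hc, a.2.2, a'.2.2, b.2.2, b'.2.2] at h''
      have hb : ((b : F) - b') * (c - τ c) = 0 := by linear_combination h' - h''
      rw [mul_eq_zero, sub_eq_zero, sub_eq_zero] at hb
      have hb' : b = b' := Subtype.ext (hb.resolve_right fun h => hcne h.symm)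
      subst hb'
      exact Prod.ext (Subtype.ext (add_right_cancel h')) rfl
    · rintro ⟨x, hx⟩
      set B := (x + τ x) * (c + τ c)⁻¹ with hBdef
      have hBm : B ∈ F0 :=
        hmulF0 _ ⟨by rw [ha, hx, hK x hx], by rw [map_add, hτ2, add_comm]⟩ _ (hinvF0 _ hsF0)
      have hAm : x + B * c ∈ F0 := by
        refine ⟨by rw [ha, mul_pow, hx, hBm.1, hc], ?_⟩
        rw [map_add, hmul B c hBm.1 hc, hBm.2]
        have hB' : B * (c + τ c) = x + τ x := by rw [hBdef]; field_simp
        rw [← CharTwo.add_eq_zero]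
        linear_combination hB' + (CharTwo.two_eq_zero (R := F)) * (x + τ x)
      refine ⟨(⟨x + B * c, hAm⟩, ⟨B, hBm⟩), Subtype.ext ?_⟩
      show x + B * c + B * c = x
      rw [add_assoc, CharTwo.add_self_eq_zero, add_zero]
  have hr2 : ∃ k, r = 2 ^ k := by
    obtain ⟨p', m, hp', hchar, hqm, -⟩ := exists_prime_pow hF
    have hp2 : p' = 2 := CharP.eq F hchar ‹CharP F 2›
    subst hp2
    obtain ⟨k, -, hk⟩ := (Nat.dvd_prime_pow Nat.prime_two).mp (show r ∣ 2 ^ m from ⟨r, by rw [hcoord, hqm]⟩)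
    exact ⟨k, hk⟩
  obtain ⟨k, hk⟩ := hr2
  have hfix : ∀ x ∈ F0, x ^ r = x := fun x hx => by
    have : (⟨x, hx⟩ : S) ^ Fintype.card S = ⟨x, hx⟩ := FiniteField.pow_card _
    rw [← Nat.card_eq_fintype_card] at this
    exact congrArg Subtype.val this
  have htF : t ∈ F0 := ⟨htq, hfixt⟩
  have hnF : μ ^ (q + 1) ∈ F0 := ⟨pow_q_succ_fixed hF μ, hfixn⟩
  have hpoly : μ * μ + t * μ + μ ^ (q + 1) = 0 := by
    rw [ht, pow_succ]
    linear_combination (CharTwo.two_eq_zero (R := F)) * (μ * μ + μ ^ q * μ)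
  have hpoly' : μ ^ r * μ ^ r + t * μ ^ r + μ ^ (q + 1) = 0 := by
    have := congrArg (· ^ r) hpoly
    simp only [hk, add_pow_char_pow, mul_pow, zero_pow (pow_ne_zero k two_ne_zero)] at this
    rw [← hk] at this
    rwa [hfix t htF, hfix _ hnF] at this
  have hrts : (μ ^ r + μ) * (μ ^ r + μ + t) = 0 := by
    linear_combination hpoly' + hpoly + (CharTwo.two_eq_zero (R := F)) * (μ ^ r * μ - μ ^ (q + 1))
  have hrr : ∀ y : F, (μ ^ r = μ + y) → y ∈ F0 → μ ^ q = μ := by
    intro y hy hyF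
    rw [← hcoord, pow_mul, hy, hk, add_pow_char_pow, ← hk, hy, hfix y hyF, add_assoc,
      CharTwo.add_self_eq_zero, add_zero]
  rcases mul_eq_zero.mp hrts with h | h
  · exact hμq (hrr 0 (by rw [add_zero]; exact CharTwo.add_eq_zero.mp h) S.zero_mem)
  · exact hμq (hrr t (CharTwo.add_eq_zero.mp (by linear_combination h)) htF)

theorem key [CharP F 2] (hF : Fintype.card F = q ^ 2) (τ : F →+ F) (σ : F → F) (hτ2 : ∀ x, τ (τ x) = x)
    (hσadd : ∀ c d, c ^ q = c → d ^ q = d → σ (c + d) = σ c + σ d)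
    (hσ : ∀ x, (τ x) ^ (q + 1) = σ (x ^ (q + 1))) : ∀ x, (τ x) ^ (q + 1) = x ^ (q + 1) := by
  have hq2 := two_le_q hF
  -- the fixed points of `τ` form a set of size at least `q`
  let D : F →+ F := τ + AddMonoidHom.id F
  have hD : D.range ≤ D.ker := by
    rintro _ ⟨x, rfl⟩
    show τ (τ x + x) + (τ x + x) = 0
    rw [map_add, hτ2, add_comm (τ x) x, CharTwo.add_self_eq_zero]
  have hge : q ≤ Nat.card D.ker := by
    have h := AddSubgroup.card_mul_index D.ker
    rw [AddSubgroup.index_ker, Nat.card_eq_fintype_card (α := F), hF] at h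
    have h2 : Nat.card D.range ≤ Nat.card D.ker :=
      Nat.card_le_card_of_injective _ (AddSubgroup.inclusion_injective hD)
    by_contra hlt
    have := Nat.mul_lt_mul'' (not_le.mp hlt) (lt_of_le_of_lt h2 (not_le.mp hlt))
    rw [h, pow_two] at this
    exact lt_irrefl _ this
  have hker : ∀ x, x ∈ D.ker ↔ τ x = x := fun x => by
    rw [AddMonoidHom.mem_ker]; exact CharTwo.add_eq_zero
  obtain ⟨v, hv, hv0⟩ : ∃ v, τ v = v ∧ v ≠ 0 := by
    by_contra h
    push Not at h
    have : D.ker = ⊥ := (AddSubgroup.eq_bot_iff_forall _).mpr fun x hx => h x ((hker x).mp hx)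
    rw [this, AddSubgroup.card_bot] at hge
    omega
  -- normalise so that `τ 1 = 1`
  let τ1 : F →+ F := (AddMonoidHom.mulRight v⁻¹).comp (τ.comp (AddMonoidHom.mulRight v))
  set N := v ^ (q + 1) with hN
  have hN0 : N ≠ 0 := pow_ne_zero _ hv0
  have hNq : N ^ q = N := pow_q_succ_fixed hF v
  let σ1 : F → F := fun c => σ (c * N) * N⁻¹
  have e0 : ∀ x, τ1 x = τ (x * v) * v⁻¹ := fun x => rfl
  have e2 : ∀ x, τ1 (τ1 x) = x := fun x => by
    rw [e0, e0, mul_assoc, inv_mul_cancel₀ hv0, mul_one, hτ2, mul_assoc, mul_inv_cancel₀ hv0, mul_one]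
  have eadd : ∀ c d, c ^ q = c → d ^ q = d → σ1 (c + d) = σ1 c + σ1 d := fun c d hc hd => by
    simp only [σ1, add_mul, hσadd _ _ (show (c * N) ^ q = c * N by rw [mul_pow, hc, hNq])
      (show (d * N) ^ q = d * N by rw [mul_pow, hd, hNq])]
  have eσ : ∀ x, τ1 x ^ (q + 1) = σ1 (x ^ (q + 1)) := fun x => by
    simp only [e0, σ1, mul_pow, inv_pow, hσ, hN]
  have e1 : τ1 1 = 1 := by rw [e0, one_mul, hv, mul_inv_cancel₀ hv0]
  suffices h : ∀ c, c ^ q = c → σ1 c = c by
    intro x
    have := h ((x * v⁻¹) ^ (q + 1)) (pow_q_succ_fixed hF _)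
    simp only [σ1] at this
    rw [← mul_pow, mul_assoc, inv_mul_cancel₀ hv0, mul_one] at this
    rw [hσ, mul_inv_eq_iff_eq_mul₀ hN0 |>.mp this, hN, ← mul_pow, mul_assoc, inv_mul_cancel₀ hv0, mul_one]
  by_cases hμ : ∃ μ, τ1 μ = μ ∧ μ ^ q ≠ μ
  · obtain ⟨μ, hμ1, hμ2⟩ := hμ
    exact key_two hF τ1 σ1 e2 eadd eσ e1 μ hμ1 hμ2
  push Not at hμ
  intro c hc
  have hall : ∀ l, l ^ q = l → τ1 l = l := by
    let f : D.ker → {x : F // x ^ q = x} := fun x => ⟨x.1 * v⁻¹, hμ _ (by
      rw [e0, mul_assoc, inv_mul_cancel₀ hv0, mul_one, (hker _).mp x.2])⟩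
    have finj : Function.Injective f := fun a b h =>
      Subtype.ext (mul_right_cancel₀ (inv_ne_zero hv0) (congrArg Subtype.val h))
    have hb : Function.Bijective f := by
      have := finj.bijective_of_nat_card_le (by rw [card_fixed hF]; exact hge)
      exact this
    intro l hl
    obtain ⟨x, hx⟩ := hb.2 ⟨l, hl⟩
    have hxl : (x : F) * v⁻¹ = l := congrArg Subtype.val hx
    rw [← hxl, e0, mul_assoc, inv_mul_cancel₀ hv0, mul_one, (hker _).mp x.2]
  obtain ⟨p', m, hp', hchar, hqm, hm1⟩ := exists_prime_pow hF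
  have hp2 : p' = 2 := CharP.eq F hchar ‹CharP F 2›
  subst hp2
  obtain ⟨d, hd, rfl⟩ : ∃ d, d ^ q = d ∧ d ^ 2 = c := by
    refine ⟨c ^ 2 ^ (m - 1), by rw [← pow_mul, mul_comm, pow_mul, hc], ?_⟩
    rw [← pow_mul, ← pow_succ, Nat.sub_add_cancel hm1, ← hqm, hc]
  have := eσ d
  rw [hall d hd, pow_succ, hd, ← pow_two] at this
  exact this.symm

/-- The unipotent matrices, in an orthonormal basis. -/
def unip (q : ℕ) (a b : F) : Matrix (Fin 3) (Fin 3) F :=
  !![1 + b, b, a; b, 1 + b, a; a ^ q, a ^ q, 1]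

theorem unip_det [CharP F 2] (q : ℕ) (a b : F) : (unip q a b).det = 1 := by
  rw [unip, Matrix.det_fin_three]
  simp [Matrix.vecHead, Matrix.vecTail]
  linear_combination (CharTwo.two_eq_zero (R := F)) * (b - a * a ^ q)

theorem unip_mul [CharP F 2] (hF : Fintype.card F = q ^ 2) (a b a' b' : F) :
    unip q a b * unip q a' b' = unip q (a + a') (b + b' + a * a' ^ q) := by
  have ha := add_pow_q hF a a'
  ext i j
  fin_cases i <;> fin_cases j <;>
    simp [unip, Matrix.mul_apply, Fin.sum_univ_three, ha] <;>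
    ring_nf <;> simp [CharTwo.two_eq_zero] <;> ring

theorem unip_preserves [CharP F 2] (hF : Fintype.card F = q ^ 2) (a b : F)
    (hab : b + b ^ q = a ^ (q + 1)) (u v : Fin 3 → F) :
    Cfsg.hermForm 3 F q (Matrix.mulVec (unip q a b) u) (Matrix.mulVec (unip q a b) v) =
      Cfsg.hermForm 3 F q u v := by
  have hbq : b ^ q = b + a * a ^ q := by
    rw [pow_succ] at hab
    linear_combination hab - (CharTwo.two_eq_zero (R := F)) * b
  simp only [Cfsg.hermForm, unip, Matrix.mulVec, dotProduct, Fin.sum_univ_three, Matrix.of_apply,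
    Matrix.cons_val', Matrix.cons_val_zero, Matrix.cons_val_one, Matrix.cons_val_two,
    Matrix.cons_val_fin_one, Matrix.head_cons, Matrix.head_fin_const, Matrix.vecHead, Matrix.vecTail,
    Matrix.empty_val', Function.comp_apply, Fin.succ_zero_eq_one, add_pow_q hF, mul_pow,
    pow_q_pow_q hF, one_pow, hbq]
  ring_nf
  simp [CharTwo.two_eq_zero]

/-- The Sylow 2-subgroup made of unipotent matrices. -/
def unipotents [CharP F 2] (hF : Fintype.card F = q ^ 2) : Subgroup (Cfsg.SU 3 F q) where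
  carrier := {g | ∃ a b : F, b + b ^ q = a ^ (q + 1) ∧ (g.1 : Matrix (Fin 3) (Fin 3) F) = unip q a b}
  mul_mem' := by
    rintro g h ⟨a, b, hab, hg⟩ ⟨a', b', hab', hh⟩
    refine ⟨a + a', b + b' + a * a' ^ q, ?_, ?_⟩
    · rw [pow_succ] at hab hab' ⊢
      rw [add_pow_q hF, add_pow_q hF, mul_pow, pow_q_pow_q hF, add_pow_q hF a a']
      linear_combination hab + hab'
    · rw [← unip_mul hF, ← hg, ← hh]; rfl
  one_mem' := by
    refine ⟨0, 0, by rw [zero_pow_q hF, zero_pow (Nat.succ_ne_zero q), add_zero], ?_⟩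
    ext i j
    fin_cases i <;> fin_cases j <;> simp [unip, zero_pow_q hF]
  inv_mem' := by
    rintro g ⟨a, b, hab, hg⟩
    refine ⟨a, b ^ q, by rw [pow_q_pow_q hF, add_comm, hab], ?_⟩
    have h1 : unip q a b * unip q a (b ^ q) = 1 := by
      rw [unip_mul hF, CharTwo.add_self_eq_zero]
      have : b + b ^ q + a * a ^ q = 0 := by
        rw [pow_succ] at hab
        linear_combination hab + (CharTwo.two_eq_zero (R := F)) * (a * a ^ q)
      rw [this]
      ext i j
      fin_cases i <;> fin_cases j <;> simp [unip, zero_pow_q hF]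
    have h2 : ((g⁻¹).1 : Matrix (Fin 3) (Fin 3) F) * (g.1 : Matrix (Fin 3) (Fin 3) F) = 1 := by
      rw [← Matrix.SpecialLinearGroup.coe_mul, ← Subgroup.coe_mul, inv_mul_cancel]; rfl
    rw [hg] at h2
    exact left_inv_eq_right_inv h2 h1

theorem mem_unipotents [CharP F 2] (hF : Fintype.card F = q ^ 2) {g : Cfsg.SU 3 F q}
    (hg : g ∈ unipotents hF) :
    (g.1 : Matrix (Fin 3) (Fin 3) F) = unip q (g.1.1 0 2) (g.1.1 0 1) ∧
      g.1.1 0 1 + (g.1.1 0 1) ^ q = (g.1.1 0 2) ^ (q + 1) := by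
  obtain ⟨a, b, hab, hg⟩ := hg
  have h1 : g.1.1 0 2 = a := by rw [hg]; simp [unip]
  have h2 : g.1.1 0 1 = b := by rw [hg]; simp [unip]
  rw [h1, h2]
  exact ⟨hg, hab⟩

theorem exists_unipotent [CharP F 2] (hF : Fintype.card F = q ^ 2) (a b : F)
    (hab : b + b ^ q = a ^ (q + 1)) :
    ∃ g : unipotents hF, g.1.1.1 0 2 = a ∧ g.1.1.1 0 1 = b := by
  let m : Matrix.SpecialLinearGroup (Fin 3) F := ⟨unip q a b, unip_det q a b⟩
  have hm : m ∈ Cfsg.SU 3 F q := fun u v => unip_preserves hF a b hab u v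
  exact ⟨⟨⟨m, hm⟩, a, b, hab, rfl⟩, by simp [m, unip], by simp [m, unip]⟩

theorem unipotents_card [CharP F 2] (hF : Fintype.card F = q ^ 2) :
    Nat.card (unipotents hF) = q ^ 3 := by
  let T := Σ a : F, {b : F // b + b ^ q = a ^ (q + 1)}
  let f : unipotents hF → T := fun g => ⟨g.1.1.1 0 2, g.1.1.1 0 1, (mem_unipotents hF g.2).2⟩
  have hf : Function.Bijective f := by
    constructor
    · intro g h e
      have e1 : g.1.1.1 0 2 = h.1.1.1 0 2 := congrArg Sigma.fst e
      have e2 : g.1.1.1 0 1 = h.1.1.1 0 1 := congrArg (fun s : T => s.2.1) e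
      refine Subtype.ext (Subtype.ext (Subtype.ext ?_))
      rw [(mem_unipotents hF g.2).1, (mem_unipotents hF h.2).1, e1, e2]
    · rintro ⟨a, b, hab⟩
      obtain ⟨g, h1, h2⟩ := exists_unipotent hF a b hab
      refine ⟨g, ?_⟩
      simp only [f]
      subst h1; subst h2; rfl
  rw [Nat.card_congr (Equiv.ofBijective f hf), Nat.card_sigma]
  have hfib : ∀ a : F, Nat.card {b : F // b + b ^ q = a ^ (q + 1)} = q := by
    intro a
    obtain ⟨b₀, hb₀⟩ := exists_trace_eq hF (pow_q_succ_fixed hF a)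
    refine Eq.trans (Nat.card_congr ((Equiv.addRight (-b₀)).subtypeEquiv fun b => ?_)) (card_trace_zero hF)
    simp only [Equiv.coe_addRight, add_pow_q hF, neg_pow_q hF]
    constructor <;> intro h
    · linear_combination h - hb₀
    · linear_combination h + hb₀
  simp only [hfib, Finset.sum_const, Finset.card_univ, hF, smul_eq_mul]
  ring


/-- Let S be a Sylow 2-subgroup of SU₃(2ⁿ), n ≥ 2 (realised over the field with 4ⁿ elements). If a finite 2-group R contains a subgroup S' of index 2 isomorphic to S, then the centre of S' is contained in the centre of R. -/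
theorem result {R : Type*} [Group R] [Finite R]
    (hR : IsPGroup 2 R) (n : ℕ) (hn : 2 ≤ n) {F : Type*} [Field F] [Fintype F] (hF : Fintype.card F = 4 ^ n)
    (P : Sylow 2 ↥(Cfsg.SU 3 F (2 ^ n))) (S' : Subgroup R) (hS : Nonempty (↥S' ≃* ↥(P : Subgroup ↥(Cfsg.SU 3 F (2 ^ n)))))
    (hidx : S'.index = 2) :
    (Subgroup.center ↥S').map S'.subtype ≤ Subgroup.center R := by
  haveI : CharP F 2 := by
    obtain ⟨p, hp⟩ := CharP.exists F
    obtain ⟨k, hk, hcard⟩ := FiniteField.card F p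
    rw [hF, show (4 : ℕ) = 2 ^ 2 by norm_num, ← pow_mul] at hcard
    have h2 : p ∣ 2 ^ (2 * n) := hcard ▸ dvd_pow_self p k.ne_zero
    rwa [(Nat.prime_dvd_prime_iff_eq hk Nat.prime_two).mp (hk.dvd_of_dvd_pow h2)] at hp
  generalize hqdef' : 2 ^ n = q at *
  have hqdef : q = 2 ^ n := hqdef'.symm
  have hFq : Fintype.card F = q ^ 2 := by
    rw [hF, hqdef, ← pow_mul, mul_comm, pow_mul]
    norm_num
  have hqpos : 0 < q := by rw [hqdef]; positivity
  -- the unipotent subgroup is a Sylow subgroup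
  have hUi : ¬ 2 ∣ (unipotents hFq).index := by
    intro hdvd
    have h := card_SU hFq 3 (by norm_num)
    have hmul := Subgroup.card_mul_index (unipotents hFq)
    rw [unipotents_card] at hmul
    have h3 : (q + 1) * (q ^ 3 * (unipotents hFq).index) =
        q ^ 3 * ((q + 1) * (q ^ 2 - 1) * (q ^ 3 + 1)) := by
      rw [hmul, h]
      norm_num [Finset.prod_range_succ]
    have h4 : (q + 1) * (unipotents hFq).index = (q + 1) * ((q ^ 2 - 1) * (q ^ 3 + 1)) :=
      Nat.eq_of_mul_eq_mul_left (pow_pos hqpos 3) (by linarith)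
    rw [Nat.eq_of_mul_eq_mul_left (Nat.succ_pos q) h4] at hdvd
    have heven : Even q := by rw [hqdef]; exact (Nat.even_pow).mpr ⟨even_two, by omega⟩
    have ho1 : Odd (q ^ 3 + 1) := (heven.pow_of_ne_zero (by norm_num)).add_one
    have hq2 : 1 ≤ q ^ 2 := Nat.one_le_pow _ _ hqpos
    have ho2 : Odd (q ^ 2 - 1) := by
      rw [Nat.odd_sub hq2]
      simpa using heven.pow_of_ne_zero (by norm_num)
    exact Nat.not_even_iff_odd.mpr (ho2.mul ho1) (even_iff_two_dvd.mpr hdvd)
  have hUp : IsPGroup 2 (unipotents hFq) :=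
    IsPGroup.iff_card.mpr ⟨n * 3, by rw [unipotents_card, hqdef, ← pow_mul]⟩
  let U : Sylow 2 (Cfsg.SU 3 F q) := hUp.toSylow hUi
  let ι : S' ≃* unipotents hFq := (hS.some.trans (Sylow.equiv P U)).trans
    (MulEquiv.subgroupCongr (IsPGroup.toSylow_coe hUp hUi))
  let A : S' → F := fun x => (ι x).1.1.1 0 2
  let B : S' → F := fun x => (ι x).1.1.1 0 1
  have hmem : ∀ x : S', ((ι x).1.1 : Matrix (Fin 3) (Fin 3) F) = unip q (A x) (B x) ∧
      B x + B x ^ q = A x ^ (q + 1) := fun x => mem_unipotents hFq (ι x).2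
  have hext : ∀ x y : S', A x = A y → B x = B y → x = y := fun x y h1 h2 => by
    refine ι.injective (Subtype.ext (Subtype.ext (Subtype.ext ?_)))
    rw [(hmem x).1, (hmem y).1, h1, h2]
  have hABmul : ∀ x y : S', A (x * y) = A x + A y ∧ B (x * y) = B x + B y + A x * A y ^ q := by
    intro x y
    have h : ((ι (x * y)).1.1 : Matrix (Fin 3) (Fin 3) F) =
        unip q (A x + A y) (B x + B y + A x * A y ^ q) := by
      rw [← unip_mul hFq, ← (hmem x).1, ← (hmem y).1, map_mul]; rfl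
    exact ⟨by show (ι (x * y)).1.1.1 0 2 = _; rw [h]; simp [unip],
      by show (ι (x * y)).1.1.1 0 1 = _; rw [h]; simp [unip]⟩
  have hpick : ∀ a b : F, b + b ^ q = a ^ (q + 1) → ∃ x : S', A x = a ∧ B x = b := fun a b hab => by
    obtain ⟨g, h1, h2⟩ := exists_unipotent hFq a b hab
    exact ⟨ι.symm g, by simp [A, h1], by simp [B, h2]⟩
  have hsurjA : ∀ a : F, ∃ x : S', A x = a := fun a => by
    obtain ⟨b, hb⟩ := exists_trace_eq hFq (pow_q_succ_fixed hFq a)
    obtain ⟨x, hx, -⟩ := hpick a b hb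
    exact ⟨x, hx⟩
  have hA1 : A 1 = 0 := by simpa using (hABmul 1 1).1
  have hcenter : ∀ x : S', x ∈ Subgroup.center S' ↔ A x = 0 := by
    intro x
    rw [Subgroup.mem_center_iff]
    constructor
    · intro h
      have heq : ∀ a : F, a * A x ^ q = A x * a ^ q := fun a => by
        obtain ⟨y, hy⟩ := hsurjA a
        have h1 := congrArg B (h y)
        rw [(hABmul y x).2, (hABmul x y).2, hy] at h1
        linear_combination h1
      obtain ⟨μ, hμ⟩ : ∃ μ : F, μ ^ q ≠ μ := by
        by_contra hcon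
        push Not at hcon
        have := card_fixed hFq
        rw [Nat.card_congr (Equiv.subtypeUnivEquiv hcon), Nat.card_eq_fintype_card, hFq] at this
        have := two_le_q hFq
        nlinarith
      have h1 := heq 1
      rw [one_mul, one_pow, mul_one] at h1
      have h2 := heq μ
      rw [h1, mul_comm μ] at h2
      by_contra hx
      exact hμ (mul_left_cancel₀ hx h2).symm
    · intro hx y
      refine hext _ _ ?_ ?_
      · rw [(hABmul y x).1, (hABmul x y).1, add_comm]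
      · rw [(hABmul y x).2, (hABmul x y).2, hx, zero_pow_q hFq]; ring
  haveI : S'.Normal := Subgroup.normal_of_index_eq_two hidx
  obtain ⟨r, hr⟩ : ∃ r : R, r ∉ S' := by
    by_contra hcon
    push Not at hcon
    rw [(Subgroup.eq_top_iff' S').mpr hcon, Subgroup.index_top] at hidx
    omega
  let φ : MulAut S' := MulAut.conjNormal r
  have hφ : ∀ x : S', x ∈ Subgroup.center S' → φ x ∈ Subgroup.center S' := fun x hx => by
    rw [Subgroup.mem_center_iff] at hx ⊢
    intro y
    have := congrArg φ (hx (φ.symm y))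
    simpa using this
  have hφA : ∀ x y : S', A x = A y → A (φ x) = A (φ y) := by
    intro x y h
    have hz : x⁻¹ * y ∈ Subgroup.center S' := by
      rw [hcenter]
      have h1 := (hABmul x (x⁻¹ * y)).1
      rw [mul_inv_cancel_left, h] at h1
      exact left_eq_add.mp h1
    have h2 := (hcenter _).mp (hφ _ hz)
    have h3 := (hABmul (φ x) (φ (x⁻¹ * y))).1
    rw [← map_mul, mul_inv_cancel_left, h2, add_zero] at h3
    exact h3.symm
  have hφ2 : ∀ x : S', A (φ (φ x)) = A x ∧ (x ∈ Subgroup.center S' → φ (φ x) = x) := by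
    intro x
    have hr2 : r * r ∈ S' := Subgroup.mul_self_mem_of_index_two hidx r
    set g : S' := ⟨r * r, hr2⟩
    have h : φ (φ x) = g * x * g⁻¹ := by
      refine Subtype.ext ?_
      simp [φ, g, mul_assoc]
    constructor
    · have h0 := (hABmul g g⁻¹).1
      rw [mul_inv_cancel, hA1] at h0
      rw [h, (hABmul _ _).1, (hABmul _ _).1]
      linear_combination -h0
    · intro hx
      rw [h, Subgroup.mem_center_iff.mp hx g, mul_inv_cancel_right]
  let pick : F → S' := fun a => (hsurjA a).choose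
  have hpickA : ∀ a, A (pick a) = a := fun a => (hsurjA a).choose_spec
  let τ : F →+ F :=
    { toFun := fun a => A (φ (pick a))
      map_zero' := by
        rw [hφA (pick 0) 1 (by rw [hpickA, hA1]), map_one, hA1]
      map_add' := fun a b => by
        rw [hφA (pick (a + b)) (pick a * pick b) (by rw [hpickA, (hABmul _ _).1, hpickA, hpickA]),
          map_mul, (hABmul _ _).1] }
  have hτ : ∀ x, A (φ x) = τ (A x) := fun x => hφA x _ (hpickA _).symm
  have hzc : ∀ c : F, c ^ q = c → ∃ z : S', A z = 0 ∧ B z = c := fun c hc =>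
    hpick 0 c (by rw [hc, CharTwo.add_self_eq_zero, zero_pow (Nat.succ_ne_zero q)])
  classical
  let σ : F → F := fun c => if hc : c ^ q = c then B (φ (hzc c hc).choose) else 0
  have hσ' : ∀ z : S', A z = 0 → σ (B z) = B (φ z) := by
    intro z hz
    have hc : B z ^ q = B z := by
      have := (hmem z).2
      rw [hz, zero_pow (Nat.succ_ne_zero q)] at this
      exact (CharTwo.add_eq_zero.mp this).symm
    simp only [σ, hc, dite_true]
    obtain ⟨h1, h2⟩ := (hzc (B z) hc).choose_spec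
    rw [hext _ z (h1.trans hz.symm) h2]
  have hsq : ∀ x : S', A (x * x) = 0 ∧ B (x * x) = A x ^ (q + 1) := fun x =>
    ⟨by rw [(hABmul x x).1, CharTwo.add_self_eq_zero],
      by rw [(hABmul x x).2, CharTwo.add_self_eq_zero, zero_add, pow_succ, mul_comm]⟩
  have hkey := key hFq τ σ ?_ ?_ ?_
  rotate_left
  · intro a
    rw [← hpickA a, ← hτ, ← hτ, (hφ2 _).1]
  · intro c d hc hd
    obtain ⟨z, hz, rfl⟩ := hzc c hc
    obtain ⟨w, hw, rfl⟩ := hzc d hd
    have hzw : A (z * w) = 0 := by rw [(hABmul z w).1, hz, hw, add_zero]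
    have hB : B (z * w) = B z + B w := by rw [(hABmul z w).2, hz, zero_mul, add_zero]
    have hz' := (hcenter _).mp (hφ z ((hcenter z).mpr hz))
    rw [← hB, hσ' _ hzw, hσ' z hz, hσ' w hw, map_mul, (hABmul _ _).2, hz', zero_mul, add_zero]
  · intro a
    rw [← hpickA a, ← hτ, ← (hsq (φ (pick a))).2, ← (hsq (pick a)).2, hσ' _ (hsq _).1, map_mul]
  -- the outer element fixes the centre pointwise
  have hfix : ∀ z : S', z ∈ Subgroup.center S' → φ z = z := by
    intro z hz
    have hzA := (hcenter z).mp hz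
    have hc : B z ^ q = B z := by
      have := (hmem z).2
      rw [hzA, zero_pow (Nat.succ_ne_zero q)] at this
      exact (CharTwo.add_eq_zero.mp this).symm
    refine hext _ _ (((hcenter _).mp (hφ z hz)).trans hzA.symm) ?_
    obtain ⟨a, ha⟩ := exists_norm_eq hFq hc
    have hzz : z = pick a * pick a := hext _ _ (hzA.trans (hsq _).1.symm) (by rw [(hsq _).2, hpickA, ha])
    rw [hzz, map_mul, (hsq _).2, (hsq _).2, hτ, hpickA]
    exact hkey a
  rintro _ ⟨z, hz, rfl⟩
  rw [Subgroup.mem_center_iff]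
  have hzr : r * (z : R) * r⁻¹ = z := congrArg Subtype.val (hfix z hz)
  have hS' : ∀ g : R, g ∈ S' → g * (z : R) = z * g := fun g hg =>
    congrArg Subtype.val (Subgroup.mem_center_iff.mp hz ⟨g, hg⟩)
  intro g
  by_cases hg : g ∈ S'
  · exact hS' g hg
  have hgr : g * r⁻¹ ∈ S' := by
    rw [Subgroup.mul_mem_iff_of_index_two hidx, inv_mem_iff]
    exact iff_of_false hg hr
  calc g * (z : R) = g * r⁻¹ * (r * z * r⁻¹) * r := by group
    _ = (g * r⁻¹ * z) * r := by rw [hzr]
    _ = z * (g * r⁻¹) * r := by rw [hS' _ hgr]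
    _ = z * g := by group

end Cfsg.Agent.S3315
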