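import Cfsg.Statements.S3329
import Cfsg.Agent.Lib.AltEightThree.Setup
import Cfsg.Agent.Lib.AltEightThree.Main

set_option autoImplicit false
open Cfsg

namespace Cfsg.Agent.S3329

set_option maxRecDepth 100000
set_option synthInstance.maxSize 4000
set_option linter.unusedVariables false

theorem three_cases {H : Type*} [Group H] {z g : H} (h3 : z ^ 3 = 1) (h : g ∈ Subgroup.zpowers z) :
    g = 1 ∨ g = z ∨ g = z * z := by
  obtain ⟨k, rfl⟩ := Subgroup.mem_zpowers_iff.1 h
  have h3' : z ^ (3 : ℤ) = 1 := by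
    rw [show (3 : ℤ) = ((3 : ℕ) : ℤ) from rfl, zpow_natCast]; exact h3
  rw [← Int.emod_add_mul_ediv k 3, zpow_add, zpow_mul, h3', one_zpow, mul_one]
  have h0 := Int.emod_nonneg k (show (3 : ℤ) ≠ 0 by norm_num)
  have h1 := Int.emod_lt_of_pos k (show (0 : ℤ) < 3 by norm_num)
  interval_cases hh : k % 3
  · exact Or.inl (zpow_zero z)
  · exact Or.inr (Or.inl (zpow_one z))
  · exact Or.inr (Or.inr (zpow_two z))

/-- A 3-local characterization of the alternating group of degree 8. Let G be a finite group whose Sylow 3-subgroup D is elementary abelian of order 9, generated by y and z, and suppose: (i) C_G(D) = D and N_G(D)/D is dihedral of order 8; (ii) D is normal in C_G(y), C_G(y) has order 18, D is normal in N_G(⟨y⟩) and N_G(⟨y⟩)/D is elementary abelian of order 4; (iii) C_G(z) is isomorphic to the direct product of a cyclic group of order 3 and the alternating group of degree 5, and N_G(⟨z⟩) is isomorphic to the subgroup of index 2 of Sym(3) × Sym(5) consisting of the pairs of permutations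 whose signs agree. Then G is isomorphic to the alternating group of degree 8. -/
theorem result {G : Type*} [Group G] [Finite G]
    (P : Sylow 3 G) (D : Subgroup G) (hDP : D = P) (y z : G) (hgen : Subgroup.closure {y, z} = D)
    (hcomm : IsMulCommutative D) (hcard : Nat.card D = 9) (hexp : ∀ a ∈ D, a ^ 3 = 1)
    (hC : Subgroup.centralizer (D : Set G) = D)
    (eN : Subgroup.normalizer (D : Set G) ⧸ D.subgroupOf (Subgroup.normalizer (D : Set G)) ≃* DihedralGroup 4)
    (hyn : (D.subgroupOf (Subgroup.centralizer ({y} : Set G))).Normal)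
    (hycard : Nat.card (Subgroup.centralizer ({y} : Set G)) = 18)
    (Ny : Subgroup G) (hNy : Ny = Subgroup.normalizer (Subgroup.zpowers y : Set G))
    (hyN : D ≤ Ny) [hyNn : (D.subgroupOf Ny).Normal]
    (hyNcard : Nat.card (Ny ⧸ D.subgroupOf Ny) = 4) (hyNexp : ∀ g : Ny ⧸ D.subgroupOf Ny, g ^ 2 = 1)
    (eC : Subgroup.centralizer ({z} : Set G) ≃* Multiplicative (ZMod 3) × alternatingGroup (Fin 5))
    (eL : Subgroup.normalizer (Subgroup.zpowers z : Set G) ≃*
      (((Equiv.Perm.sign).comp (MonoidHom.fst (Equiv.Perm (Fin 3)) (Equiv.Perm (Fin 5)))) *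
        ((Equiv.Perm.sign).comp (MonoidHom.snd (Equiv.Perm (Fin 3)) (Equiv.Perm (Fin 5))))).ker) :
    Nonempty (G ≃* alternatingGroup (Fin 8)) := by
  classical
  have hyD : y ∈ D := hgen ▸ Subgroup.subset_closure (by simp)
  have hzD : z ∈ D := hgen ▸ Subgroup.subset_closure (by simp)
  have hcomm' : ∀ a ∈ D, ∀ b ∈ D, Commute a b := fun a ha b hb =>
    congrArg Subtype.val (hcomm.is_comm.comm ⟨a, ha⟩ ⟨b, hb⟩)
  have hz1 : z ≠ 1 := by
    rintro rfl
    have hle : D ≤ Subgroup.zpowers y := by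
      rw [← hgen, Subgroup.closure_le]
      rintro x (rfl | rfl)
      exacts [Subgroup.mem_zpowers _, Subgroup.one_mem _]
    have h := Subgroup.card_dvd_of_le hle
    rw [hcard, Nat.card_zpowers] at h
    have := h.trans (orderOf_dvd_of_pow_eq_one (hexp y hyD))
    norm_num at this
  have hz3 : z ^ 3 = 1 := hexp z hzD
  set Nz := Subgroup.normalizer (Subgroup.zpowers z : Set G) with hNz
  have hzN : z ∈ Nz := Subgroup.le_normalizer (Subgroup.mem_zpowers z)
  obtain ⟨ψ₀, hψ₀inj, hψ₀range⟩ : ∃ ψ₀ : AltEightThree.Pairs →* G,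
      Function.Injective ψ₀ ∧ ψ₀.range = Nz := by
    refine ⟨Nz.subtype.comp eL.symm.toMonoidHom, Nz.subtype_injective.comp eL.symm.injective, ?_⟩
    rw [MonoidHom.range_comp, MonoidHom.range_eq_top.2 eL.symm.surjective, ← MonoidHom.range_eq_map,
      Subgroup.range_subtype]
  obtain ⟨z₀, hz₀⟩ : z ∈ ψ₀.range := hψ₀range ▸ hzN
  have hz₀' : z₀ = AltEightThree.zP ∨ z₀ = AltEightThree.zP⁻¹ := by
    refine AltEightThree.order_three_normal z₀
      (hψ₀inj (by rw [map_pow, hz₀, hz3, map_one])) (fun e => hz1 (by rw [← hz₀, e, map_one]))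
      fun g _ => ?_
    have hg : ψ₀ g ∈ Nz := hψ₀range ▸ ⟨g, rfl⟩
    have hm := (Subgroup.mem_normalizer_iff.1 hg z).1 (Subgroup.mem_zpowers z)
    rcases three_cases hz3 hm with h | h | h
    · exact absurd (conj_eq_one_iff.1 h) hz1
    · exact Or.inl (hψ₀inj (by rw [map_mul, map_mul, map_inv, hz₀, h]))
    · refine Or.inr (hψ₀inj ?_)
      rw [map_mul, map_mul, map_inv, map_inv, hz₀, h]
      refine (inv_eq_of_mul_eq_one_right ?_).symm
      rw [← mul_assoc, ← pow_two, ← pow_succ, hz3]
  obtain ⟨v, hvD, hvz⟩ : ∃ v ∈ D, v ∉ Subgroup.zpowers z := by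
    by_contra hall
    push Not at hall
    have h := Subgroup.card_dvd_of_le (show D ≤ Subgroup.zpowers z from hall)
    rw [hcard, Nat.card_zpowers] at h
    have := h.trans (orderOf_dvd_of_pow_eq_one hz3)
    norm_num at this
  obtain ⟨v₀, hv₀⟩ : v ∈ ψ₀.range := by
    rw [hψ₀range]
    refine Subgroup.mem_normalizer_fintype fun k hk => ?_
    obtain ⟨l, rfl⟩ := Subgroup.mem_zpowers_iff.1 hk
    rw [((hcomm' v hvD z hzD).zpow_right l).eq, mul_inv_cancel_right]
    exact zpow_mem (Subgroup.mem_zpowers z) l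
  have hzP : ψ₀ AltEightThree.zP = z ∨ ψ₀ AltEightThree.zP = z⁻¹ := by
    rcases hz₀' with e | e
    · exact Or.inl (by rw [← e, hz₀])
    · exact Or.inr (by rw [← hz₀, e, map_inv, inv_inv])
  have hzPD : ψ₀ AltEightThree.zP ∈ Subgroup.zpowers z := by
    rcases hzP with e | e <;> rw [e]
    exacts [Subgroup.mem_zpowers z, inv_mem (Subgroup.mem_zpowers z)]
  obtain ⟨g, hgz, i, -, k, hk, hk0, hgx⟩ := AltEightThree.order_three_conj v₀
    (hψ₀inj (by rw [map_pow, hv₀, hexp v hvD, map_one]))
    (hψ₀inj (by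
      rw [map_mul, map_mul, hv₀]
      rcases hzP with e | e <;> rw [e]
      exacts [hcomm' v hvD z hzD, (hcomm' v hvD z hzD).inv_right]))
    (fun h => hvz (by
      simp only [List.mem_cons, List.not_mem_nil, or_false] at h
      rw [← hv₀]
      rcases h with e | e | e <;> rw [e]
      · rw [map_one]; exact Subgroup.one_mem _
      · exact hzPD
      · rw [map_mul]; exact mul_mem hzPD hzPD))
  set ψ : AltEightThree.Pairs →* G := ψ₀.comp (MulAut.conj g⁻¹).toMonoidHom with hψ
  have hψinj : Function.Injective ψ := hψ₀inj.comp (MulEquiv.injective _)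
  have hψapp : ∀ x, ψ x = ψ₀ (g⁻¹ * x * g) := fun x => by
    simp only [hψ, MonoidHom.coe_comp, Function.comp_apply, MulEquiv.coe_toMonoidHom,
      MulAut.conj_apply, inv_inv]
  have hψz : ψ AltEightThree.zP = z ∨ ψ AltEightThree.zP = z⁻¹ := by
    have : ψ AltEightThree.zP = ψ₀ AltEightThree.zP ∨ ψ AltEightThree.zP = (ψ₀ AltEightThree.zP)⁻¹ := by
      rw [hψapp]
      rcases hgz with e | e
      · refine Or.inl (congrArg _ ?_)
        conv_lhs => rw [← e]
        group
      · refine Or.inr ?_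
        rw [← map_inv]
        refine congrArg _ ?_
        calc g⁻¹ * AltEightThree.zP * g = g⁻¹ * (AltEightThree.zP⁻¹)⁻¹ * g := by rw [inv_inv]
          _ = g⁻¹ * (g * AltEightThree.zP * g⁻¹)⁻¹ * g := by rw [e]
          _ = AltEightThree.zP⁻¹ := by group
    rcases this with e | e <;> rcases hzP with e' | e' <;> rw [e, e']
    · exact Or.inl rfl
    · exact Or.inr rfl
    · exact Or.inr rfl
    · exact Or.inl (inv_inv z)
  have hψzD : ψ AltEightThree.zP ∈ D := by
    rcases hψz with e | e <;> rw [e]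
    exacts [hzD, D.inv_mem hzD]
  have hψwD : ψ AltEightThree.wP ∈ D := by
    have h1 : ψ (AltEightThree.zP ^ i * AltEightThree.wP ^ k) = v := by
      rw [← hgx, hψapp, ← hv₀]
      exact congrArg _ (by group)
    have h2 : ψ AltEightThree.wP ^ k ∈ D := by
      rw [← map_pow]
      have h3 := D.mul_mem (D.inv_mem (D.pow_mem hψzD i)) hvD
      rwa [← h1, map_mul, map_pow, inv_mul_cancel_left] at h3
    have h3 : ψ AltEightThree.wP ^ 3 = 1 := by
      rw [← map_pow, show AltEightThree.wP ^ 3 = 1 by decide +kernel, map_one]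
    interval_cases k
    · exact absurd rfl hk0
    · rwa [pow_one] at h2
    · have := D.mul_mem h2 h2
      rwa [← pow_add, show 2 + 2 = 3 + 1 from rfl, pow_add, h3, one_mul, pow_one] at this
  have hrange : ∀ x : G, x * ψ AltEightThree.zP * x⁻¹ = ψ AltEightThree.zP ∨
      x * ψ AltEightThree.zP * x⁻¹ = (ψ AltEightThree.zP)⁻¹ → x ∈ ψ.range := by
    intro x hx
    have hr : ψ.range = Nz := by
      rw [hψ, MonoidHom.range_comp, MonoidHom.range_eq_top.2 (MulEquiv.surjective _),
        ← MonoidHom.range_eq_map, hψ₀range]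
    rw [hr]
    have hx' : x * z * x⁻¹ ∈ Subgroup.zpowers z := by
      rcases hψz with e | e <;> rw [e] at hx
      · rcases hx with h | h <;> rw [h]
        exacts [Subgroup.mem_zpowers z, inv_mem (Subgroup.mem_zpowers z)]
      · have h' : x * z * x⁻¹ = (x * z⁻¹ * x⁻¹)⁻¹ := by group
        rw [h']
        rcases hx with h | h <;> rw [h]
        exacts [inv_mem (inv_mem (Subgroup.mem_zpowers z)),
          inv_mem (inv_mem (inv_mem (Subgroup.mem_zpowers z)))]
    refine Subgroup.mem_normalizer_fintype fun l hl => ?_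
    obtain ⟨m, rfl⟩ := Subgroup.mem_zpowers_iff.1 hl
    rw [← conj_zpow]
    exact zpow_mem hx' m
  have hN : Nat.card (Subgroup.normalizer (D : Set G)) = 72 := by
    rw [Subgroup.card_eq_card_quotient_mul_card_subgroup (D.subgroupOf _),
      Nat.card_congr eN.toEquiv, DihedralGroup.nat_card,
      Nat.card_congr (Subgroup.subgroupOfEquivOfLe D.le_normalizer).toEquiv, hcard]
  have hyn' : ∀ c, Commute c y → ∀ u ∈ D, c * u * c⁻¹ ∈ D := by
    intro c hc u hu
    have huC : u ∈ Subgroup.centralizer ({y} : Set G) :=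
      Subgroup.mem_centralizer_singleton_iff.2 (hcomm' u hu y hyD).eq
    exact hyn.conj_mem ⟨u, huC⟩ hu ⟨c, Subgroup.mem_centralizer_singleton_iff.2 hc.eq⟩
  have h27 : ¬ 27 ∣ Nat.card G := by
    intro h
    have := Fact.mk Nat.prime_three
    have hP : Nat.card P = 9 := by rw [← hcard, hDP]
    rw [P.card_eq_multiplicity] at hP
    have hle := (Nat.prime_three.pow_dvd_iff_le_factorization (n := Nat.card G) (k := 3) Nat.card_pos.ne').1 h
    have := Nat.pow_le_pow_right (show 3 > 0 by norm_num) hle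
    omega
  obtain ⟨c⟩ := AltEightThree.nonempty_cfg D ψ hψinj hrange hψzD hψwD hcard hN hyD hyn' hycard h27
  exact c.nonempty_mulEquiv

end Cfsg.Agent.S3329
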