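import Cfsg.Statements.S3344
import Cfsg.Agent.Lib.SymThirtyTwo.Identify
import Cfsg.Agent.Lib.SymThirtyTwo.Twelve
import Cfsg.Agent.Lib.TwelveCent.Count
import Cfsg.Agent.Lib.Golay.Mathieu
import Cfsg.Agent.S0421

set_option autoImplicit false
open Cfsg
open scoped Pointwise

namespace Cfsg.Agent.S3344

/-- Let G be a finite group with an involution s, L = C_G(s) and Q = O₂(L). Suppose Q is extraspecial of order 32, L/Q is isomorphic to Sym(3), C_Q(X) = ⟨s⟩ for a Sylow 3-subgroup X of L, and s is not weakly closed in Q with respect to G (some conjugate of s other than s lies in Q). Then either G has an elementary abelian normal subgroup of order 8 with quotient isomorphic to PSL(3,2), or G is isomorphic to the alternating group of degree 8 or 9, or to the Mathieu group M₁₂. -/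
theorem result {G : Type*} [Group G] [Finite G]
    (s : G) (hs : orderOf s = 2) (L : Subgroup G) (hL : L = Subgroup.centralizer ({s} : Set G))
    (Q : Subgroup G) (hQ : Q = (Cfsg.pCore 2 L).map L.subtype)
    (hQex : Cfsg.IsExtraspecial 2 Q) (hQcard : Nat.card Q = 32)
    (e : L ⧸ Cfsg.pCore 2 L ≃* Equiv.Perm (Fin 3))
    (X : Sylow 3 L) (hCQX : Q ⊓ Subgroup.centralizer (((X : Subgroup L).map L.subtype : Subgroup G) : Set G) = Subgroup.zpowers s)
    (hnwc : ∃ g : G, g * s * g⁻¹ ∈ Q ∧ g * s * g⁻¹ ≠ s) :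
    (∃ (N : Subgroup G) (hN : N.Normal), IsMulCommutative N ∧ (∀ n ∈ N, n ^ 2 = 1) ∧ Nat.card N = 8 ∧
        Nonempty (G ⧸ N ≃* Matrix.ProjectiveSpecialLinearGroup (Fin 3) (ZMod 2))) ∨
    Nonempty (G ≃* alternatingGroup (Fin 8)) ∨ Nonempty (G ≃* alternatingGroup (Fin 9)) ∨ Cfsg.Spor.IsoM12 G := by
  classical
  obtain ⟨sw, d, c, hc⟩ := Cfsg.Agent.SymThirtyTwo.exists_cd s hs L hL Q hQ hQex hQcard e X hCQX
  obtain ⟨g, hgQ, hgne⟩ := hnwc
  obtain ⟨p, hp⟩ := hc _ hgQ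
  obtain ⟨hd, k, hk, hfused⟩ := c.exists_fused ⟨(p, 0, false), rfl,
    fun h => hgne (by rw [← hp, h, c.map_cs]), isConj_iff.2 ⟨g, hp.symm⟩⟩
  subst hd
  rcases Cfsg.Agent.SymThirtyTwo.Fz.dichotomy (⟨c, hk, hfused⟩ : Cfsg.Agent.SymThirtyTwo.Fz s sw k)
    with h | h
  · exact Or.inl h
  haveI := h
  cases sw
  · refine Or.inr (Or.inr (Or.inr ?_))
    let F : Cfsg.Agent.SymThirtyTwo.Fz s false k := ⟨c, hk, hfused⟩
    have hna : ¬ IsMulCommutative G := fun hcm => F.not_central (eq_top_iff.2 fun x _ =>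
      Subgroup.mem_centralizer_singleton_iff.2 (hcm.is_comm.comm x s))
    obtain ⟨cd⟩ := c.coding
    have hdd : Cfsg.Spor.squareDodecad ∈ Cfsg.dodecads :=
      Cfsg.Agent.Golay.pts_dodecad0 ▸ Cfsg.Agent.Golay.dodecad0_mem
    let i : ↥Cfsg.Spor.M12 ≃* MulAction.stabilizer Cfsg.M24 Cfsg.Spor.squareDodecad :=
      Cfsg.Agent.Golay.infStabilizerEquiv _
    obtain ⟨f⟩ := Cfsg.Agent.S0421.result (G := G) ⟨inferInstance, cd.card_eq hna⟩ _ hdd
    exact ⟨f.trans i.symm⟩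
  · obtain ⟨N⟩ := Cfsg.Agent.SymThirtyTwo.Fz.exists_nm
      (⟨c, hk, hfused⟩ : Cfsg.Agent.SymThirtyTwo.Fz s true k)
    rcases N.identify with h | h
    · exact Or.inr (Or.inl h)
    · exact Or.inr (Or.inr (Or.inl h))

end Cfsg.Agent.S3344
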