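import Cfsg.Statements.S3345
import Cfsg.Agent.Lib.OmegaEight.Global
import Cfsg.Agent.Lib.OmegaEight.Fusion
import Cfsg.Agent.Lib.ZStarPrimePower.Proved
import Cfsg.Agent.Lib.ZStar.Statements
import Cfsg.Agent.Lib.Cores.Fitting
import Cfsg.Agent.Lib.Components.GenFitting

set_option autoImplicit false
open Cfsg

namespace Cfsg.Agent.S3345

/-- Let G be a finite group with O^2(G) = G and an involution t with centralizer C such that F*(C) is extraspecial of order 2^9, C/O₂(C) is isomorphic to Sym(3) × Sym(3) × Sym(3), and C_G(O₂(C)) ≤ O₂(C). Then either the image of t is central in G/O_{2'}(G), or G is isomorphic to Ω⁺(8,2), the commutator subgroup of the isometry group of the hyperbolic quadratic form in dimension 8 over the field with 2 elements. -/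
theorem result {G : Type*} [Group G] [Finite G]
    (hG : Cfsg.pResidual 2 G = ⊤) (t : G) (ht : orderOf t = 2)
    (C : Subgroup G) (hC : C = Subgroup.centralizer ({t} : Set G))
    (hF : Cfsg.IsExtraspecial 2 (Cfsg.generalizedFittingSubgroup C))
    (hFcard : Nat.card (Cfsg.generalizedFittingSubgroup C) = 2 ^ 9)
    (e : C ⧸ Cfsg.pCore 2 C ≃* Equiv.Perm (Fin 3) × Equiv.Perm (Fin 3) × Equiv.Perm (Fin 3))
    (hcc : Subgroup.centralizer (((Cfsg.pCore 2 C).map C.subtype : Subgroup G) : Set G) ≤ (Cfsg.pCore 2 C).map C.subtype) :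
    (∀ g : G, g * t * g⁻¹ * t⁻¹ ∈ Cfsg.oddCore G) ∨
      Nonempty (G ≃* Cfsg.Omega (ZMod 2) (Cfsg.quadFormPlus 4 (ZMod 2))) := by
  have : Fact (Nat.Prime 2) := ⟨Nat.prime_two⟩
  have hF2 : Cfsg.generalizedFittingSubgroup C = Cfsg.pCore 2 C :=
    le_antisymm (le_sSup ⟨inferInstance, hF.1.1⟩) ((Cores.pCore_le_fittingSubgroup 2).trans le_sup_right)
  obtain ⟨H, hH⟩ := OmegaEight.exists_hyp t ht C hC hF hFcard hF2 e
  subst hH
  by_cases hiso : ∀ g : G, Commute H.t (g * H.t * g⁻¹) → g * H.t * g⁻¹ = H.t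
  · refine Or.inl fun g => ?_
    have h := ZStar.zStar_of_brauerSuzuki ZStarPrimePower.uniqueInvolutionZStar_proved ⟨ht, hiso⟩ g
    have h' := inv_mem h
    simpa [mul_assoc] using h'
  · push Not at hiso
    obtain ⟨g0, hc, hne0⟩ := hiso
    obtain ⟨g, hg, hne⟩ := OmegaEight.exists_linked H ⟨g0, hc.eq.symm, hne0⟩
    obtain ⟨F, -, -⟩ := OmegaEight.exists_fr H hg hne
    obtain ⟨D, -⟩ := F.exists_fd
    obtain ⟨V⟩ := D.exists_cover
    exact Or.inr ⟨(Subgroup.topEquiv.symm.trans (MulEquiv.subgroupCongr V.top.symm)).trans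
      (MonoidHom.ofInjective V.inj).symm⟩

end Cfsg.Agent.S3345
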