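import Cfsg.Statements.S3349
import Cfsg.Agent.EqLemmas

set_option autoImplicit false
open Cfsg
open scoped commutatorElement

namespace Cfsg.Agent.S3349

/-- Let Q be a finite extraspecial p-group and α an automorphism of Q fixing every element of some maximal abelian subgroup of Q. Then the order of α is a power of p. -/
theorem result {Q : Type*} [Group Q] [Finite Q]
    (p : ℕ) [Fact p.Prime] (hQ : Cfsg.IsExtraspecial p Q) (α : MulAut Q)
    (A : Subgroup Q) (hA : IsMulCommutative A) (hmax : ∀ B : Subgroup Q, A ≤ B → IsMulCommutative B → B = A)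
    (hfix : ∀ a ∈ A, α a = a) :
    ∃ k : ℕ, orderOf α = p ^ k := by
  obtain ⟨⟨hpQ, -, hcomm⟩, -⟩ := hQ
  have := hA
  -- the centre, hence the derived subgroup, lies in `A`
  have hself : ∀ x : Q, (∀ a ∈ A, x * a = a * x) → x ∈ A := by
    intro x hx
    have hle : A ≤ Subgroup.closure (↑A ∪ {x}) := fun a ha => Subgroup.subset_closure (Or.inl ha)
    have hc : IsMulCommutative ↥(Subgroup.closure ((↑A : Set Q) ∪ {x})) := by
      refine Subgroup.isMulCommutative_closure ?_
      rintro a (ha | rfl) b (hb | rfl)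
      · exact congrArg Subtype.val (mul_comm' (⟨a, ha⟩ : A) ⟨b, hb⟩)
      · exact (hx a ha).symm
      · exact hx b hb
      · rfl
    rw [← hmax _ hle hc]
    exact Subgroup.subset_closure (Or.inr rfl)
  have hZ : Subgroup.center Q ≤ A := fun z hz =>
    hself z fun a _ => (Subgroup.mem_center_iff.mp hz a).symm
  have hconj : ∀ q : Q, ∀ a ∈ A, q * a * q⁻¹ ∈ A := by
    intro q a ha
    have h1 : ⁅q, a⁆ ∈ Subgroup.center Q := by
      rw [← hcomm]
      exact Subgroup.commutator_mem_commutator (Subgroup.mem_top _) (Subgroup.mem_top _)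
    have h2 : q * a * q⁻¹ = ⁅q, a⁆ * a := by rw [commutatorElement_def]; group
    rw [h2]
    exact A.mul_mem (hZ h1) ha
  have hd : ∀ q : Q, q⁻¹ * α q ∈ A := by
    intro q
    refine hself _ fun a ha => ?_
    have h1 := hfix _ (hconj q a ha)
    rw [map_mul, map_mul, map_inv, hfix a ha] at h1
    calc q⁻¹ * α q * a = q⁻¹ * (α q * a * (α q)⁻¹) * α q := by group
      _ = q⁻¹ * (q * a * q⁻¹) * α q := by rw [h1]
      _ = a * (q⁻¹ * α q) := by group
  have hpow : ∀ (k : ℕ) (q : Q), (α ^ k) q = q * (q⁻¹ * α q) ^ k := by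
    intro k q
    induction k with
    | zero => simp
    | succ k ih =>
      rw [pow_succ', MulAut.mul_apply, ih, map_mul, hfix _ (A.pow_mem (hd q) k), pow_succ']
      rw [← mul_assoc q, mul_inv_cancel_left]
  obtain ⟨k, hk⟩ := IsPGroup.iff_card.mp hpQ
  have h1 : α ^ p ^ k = 1 := by
    ext q
    rw [hpow, ← hk, pow_card_eq_one']
    simp
  obtain ⟨i, -, hi⟩ := (Nat.dvd_prime_pow Fact.out).mp (orderOf_dvd_of_pow_eq_one h1)
  exact ⟨i, hi⟩

end Cfsg.Agent.S3349
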