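import Cfsg.Statements.S3356
import Cfsg.Agent.EqLemmas
import Mathlib.GroupTheory.GroupAction.Quotient

set_option autoImplicit false
open Cfsg

namespace Cfsg.Agent.S3356

/-- If a group acts by conjugation on a set with stabilisers of constant order, the orbit length
divides the size of the set. -/
theorem relIndex_dvd_ncard {G : Type*} [Group G] [Finite G] (B : Subgroup G) (S : Set G)
    (hBS : ∀ g ∈ B, ∀ y ∈ S, g * y * g⁻¹ ∈ S) (C : G → Subgroup G)
    (hC : ∀ y ∈ S, ∀ g ∈ B, g ∈ C y ↔ g * y * g⁻¹ = y) (hle : ∀ y ∈ S, C y ≤ B) (c : ℕ)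
    (hcard : ∀ y ∈ S, Nat.card ↥(C y) = c) : ∀ y ∈ S, (C y).relIndex B ∣ S.ncard := by
  classical
  letI : MulAction B S :=
    { smul := fun g y => ⟨g * y * (g : G)⁻¹, hBS g g.2 y y.2⟩
      one_smul := fun y => Subtype.ext (show (1 : G) * y * (1 : G)⁻¹ = y by simp)
      mul_smul := fun g h y => Subtype.ext (show ((g * h : B) : G) * y * ((g * h : B) : G)⁻¹ =
        g * (h * y * (h : G)⁻¹) * (g : G)⁻¹ by rw [Subgroup.coe_mul]; group) }
  intro y hy
  have hstab : ∀ z : S, (C z).relIndex B = Nat.card (MulAction.orbit B z) := by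
    intro z
    have h : MulAction.stabilizer B z = (C z).subgroupOf B := by
      ext g
      rw [MulAction.mem_stabilizer_iff, Subgroup.mem_subgroupOf, hC z z.2 g g.2, Subtype.ext_iff]
      rfl
    rw [Subgroup.relIndex, ← h, MulAction.index_stabilizer, Nat.card_coe_set_eq]
  have hconst : ∀ z : S, (C z).relIndex B = (C y).relIndex B := by
    intro z
    have h1 := (C z).relIndex_mul_relIndex (H := ⊥) (L := B) bot_le (hle z z.2)
    have h2 := (C y).relIndex_mul_relIndex (H := ⊥) (L := B) bot_le (hle y hy)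
    rw [Subgroup.relIndex_bot_left, Subgroup.relIndex_bot_left, hcard z z.2] at h1
    rw [Subgroup.relIndex_bot_left, Subgroup.relIndex_bot_left, hcard y hy] at h2
    have hc : 0 < c := hcard y hy ▸ Nat.card_pos
    exact Nat.eq_of_mul_eq_mul_left hc (h1.trans h2.symm)
  haveI : Fintype (MulAction.orbitRel.Quotient B S) := Fintype.ofFinite _
  rw [← Nat.card_coe_set_eq S, Nat.card_congr (MulAction.selfEquivSigmaOrbits B S), Nat.card_sigma]
  exact Finset.dvd_sum fun ω _ => dvd_of_eq ((hconst _).symm.trans (hstab _))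

theorem ncard_class_dvd {G : Type*} [Group G] [Finite G] (N : Subgroup G) (x : G) (hx : x ∈ N) :
    {y : G | ∃ k ∈ N, k * x * k⁻¹ = y}.ncard ∣ Nat.card N := by
  have h : {y : G | ∃ k ∈ N, k * x * k⁻¹ = y} =
      Subtype.val '' MulAction.orbit (ConjAct N) (⟨x, hx⟩ : N) := by
    ext y
    constructor
    · rintro ⟨k, hk, rfl⟩
      exact ⟨ConjAct.toConjAct (⟨k, hk⟩ : N) • (⟨x, hx⟩ : N), ⟨ConjAct.toConjAct (⟨k, hk⟩ : N), rfl⟩, rfl⟩
    · rintro ⟨_, ⟨g, rfl⟩, rfl⟩
      exact ⟨(ConjAct.ofConjAct g : N), (ConjAct.ofConjAct g).2, rfl⟩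
  rw [h, Set.ncard_image_of_injective _ Subtype.val_injective, ← MulAction.index_stabilizer]
  exact (Subgroup.index_dvd_card _).trans (dvd_of_eq (Nat.card_congr ConjAct.ofConjAct.toEquiv))

/-- A half-transitive, not semiregular automorphism group forces an elementary abelian, irreducible group. -/
theorem halfTransitive_aut {G : Type*} [Group G] [Finite G] (A N : Subgroup G) [hN : N.Normal]
    (C : G → Subgroup G) (hC : ∀ x g, g ∈ C x ↔ g ∈ A ∧ g * x * g⁻¹ = x) (c : ℕ) (hc1 : 1 < c)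
    (hcard : ∀ x ∈ N, x ≠ 1 → Nat.card ↥(C x) = c)
    (hfaith : ∀ g ∈ A, (∀ x ∈ N, g * x * g⁻¹ = x) → g = 1) (hN1 : N ≠ ⊥) :
    (∀ x ∈ N, ∀ y ∈ N, x * y = y * x) ∧
      ∀ M : Subgroup G, M ≤ N → (∀ g ∈ A, ∀ y ∈ M, g * y * g⁻¹ ∈ M) → M ≠ ⊥ → M = N := by
  obtain ⟨x₀, hx₀, hx₀1⟩ : ∃ x ∈ N, x ≠ 1 := by
    by_contra h
    push Not at h
    exact hN1 ((Subgroup.eq_bot_iff_forall N).mpr h)
  have hCA : ∀ x, C x ≤ A := fun x g hg => ((hC x g).mp hg).1
  have hnoteq : ¬ ∀ x ∈ N, x ≠ 1 → C x = C x₀ := by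
    intro h
    have h1 : C x₀ = ⊥ := (Subgroup.eq_bot_iff_forall _).mpr fun g hg => hfaith g (hCA _ hg) fun x hx => by
      by_cases hx1 : x = 1
      · simp [hx1]
      · exact ((hC x g).mp (h x hx hx1 ▸ hg)).2
    have := hcard x₀ hx₀ hx₀1
    rw [h1, Subgroup.card_bot] at this
    omega
  have hsub : ∀ x y, x ∈ N → y ∈ N → x ≠ 1 → y ≠ 1 → (∀ g ∈ C x, g * y * g⁻¹ = y) → C x = C y := by
    intro x y hx hy hx1 hy1 h
    exact Subgroup.eq_of_le_of_card_ge (fun g hg => (hC y g).mpr ⟨hCA _ hg, h g hg⟩)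
      (by rw [hcard x hx hx1, hcard y hy hy1])
  -- orbit length
  set m := (C x₀).relIndex A with hm
  have hrelA : ∀ x ∈ N, x ≠ 1 → (C x).relIndex A = m := by
    intro x hx hx1
    have h1 := (C x).relIndex_mul_relIndex (H := ⊥) (L := A) bot_le (hCA x)
    have h2 := (C x₀).relIndex_mul_relIndex (H := ⊥) (L := A) bot_le (hCA x₀)
    rw [Subgroup.relIndex_bot_left, Subgroup.relIndex_bot_left, hcard x hx hx1] at h1
    rw [Subgroup.relIndex_bot_left, Subgroup.relIndex_bot_left, hcard x₀ hx₀ hx₀1] at h2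
    exact Nat.eq_of_mul_eq_mul_left (by omega) (h1.trans h2.symm)
  have hcop : ∀ M : Subgroup G, M ≤ N → (∀ g ∈ A, ∀ y ∈ M, g * y * g⁻¹ ∈ M) → M ≠ ⊥ →
      Nat.Coprime m (Nat.card M) := by
    intro M hMN hMA hM
    obtain ⟨y, hy, hy1⟩ : ∃ y ∈ M, y ≠ 1 := by
      by_contra h
      push Not at h
      exact hM ((Subgroup.eq_bot_iff_forall M).mpr h)
    have h := relIndex_dvd_ncard A ((M : Set G) \ {1})
      (fun g hg y hy => ⟨hMA g hg y hy.1, fun h => hy.2 (conj_eq_one_iff.mp h)⟩) C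
      (fun y _ g hg => by rw [hC]; exact ⟨fun h => h.2, fun h => ⟨hg, h⟩⟩)
      (fun y _ => hCA y) c (fun y hy => hcard y (hMN hy.1) hy.2) y ⟨hy, hy1⟩
    rw [hrelA y (hMN hy) hy1, Set.ncard_sdiff (by simpa using M.one_mem), Set.ncard_singleton,
      ← Nat.card_coe_set_eq] at h
    have hpos : 0 < Nat.card M := Nat.card_pos
    refine Nat.coprime_of_dvd fun k hk h1 h2 => hk.one_lt.ne' (Nat.eq_one_of_dvd_coprimes
      (Nat.Coprime.symm (Nat.coprime_self_sub_right (m := 1) (n := Nat.card M) hpos |>.mpr (by simp))) ?_ h2)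
    exact h1.trans h
  have hfix : ∀ (B : Subgroup G) (S : Set G), B ≤ A → S ⊆ (N : Set G) → (1 : G) ∉ S →
      (∀ g ∈ B, ∀ y ∈ S, g * y * g⁻¹ ∈ S) → (∀ y ∈ S, C y ≤ B) → Nat.Coprime m S.ncard →
      ∀ y ∈ S, C y = B := by
    intro B S hBA hSN h1 hBS hle hco y hy
    refine le_antisymm (hle y hy) (Subgroup.relIndex_eq_one.mp (Nat.eq_one_of_dvd_coprimes hco ?_
      (relIndex_dvd_ncard B S hBS C (fun z _ g hg => by
        rw [hC]; exact ⟨fun h => h.2, fun h => ⟨hBA hg, h⟩⟩) hle c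
        (fun z hz => hcard z (hSN hz) (fun h => h1 (h ▸ hz))) y hy)))
    rw [← hrelA y (hSN hy) (fun h => h1 (h ▸ hy)), ← Subgroup.relIndex_mul_relIndex _ _ _ (hle y hy) hBA]
    exact dvd_mul_right _ _
  have hNA : ∀ g ∈ A, ∀ y ∈ N, g * y * g⁻¹ ∈ N := fun g _ y hy => hN.conj_mem y hy g
  -- the stabiliser is constant on classes of `N`
  have hclass : ∀ x ∈ N, x ≠ 1 → ∀ k ∈ N, C (k * x * k⁻¹) = C x := by
    intro x hx hx1 k hk
    set B := A ⊓ (N ⊔ Subgroup.centralizer {x})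
    have hmem : ∀ g, g ∈ N ⊔ Subgroup.centralizer {x} → ∃ u ∈ N, ∃ z, z * x * z⁻¹ = x ∧ g = u * z := by
      intro g hg
      obtain ⟨u, hu, z, hz, rfl⟩ := Subgroup.mem_sup_of_normal_left.mp hg
      refine ⟨u, hu, z, ?_, rfl⟩
      rw [← Subgroup.mem_centralizer_iff.mp hz x rfl]; group
    have key := hfix B {y | ∃ k ∈ N, k * x * k⁻¹ = y} inf_le_left ?_ ?_ ?_ ?_
      ((hcop N le_rfl hNA hN1).coprime_dvd_right (ncard_class_dvd N x hx))
    · exact (key _ ⟨k, hk, rfl⟩).trans (key x ⟨1, one_mem _, by simp⟩).symm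
    · rintro _ ⟨l, hl, rfl⟩; exact mul_mem (mul_mem hl hx) (inv_mem hl)
    · rintro ⟨l, -, h⟩; exact hx1 (conj_eq_one_iff.mp h)
    · rintro g hg _ ⟨l, hl, rfl⟩
      obtain ⟨u, hu, z, hz, rfl⟩ := hmem g hg.2
      refine ⟨u * (z * l * z⁻¹), mul_mem hu (hN.conj_mem l hl z), ?_⟩
      calc u * (z * l * z⁻¹) * x * (u * (z * l * z⁻¹))⁻¹
          = u * (z * l * z⁻¹) * (z * x * z⁻¹) * (u * (z * l * z⁻¹))⁻¹ := by rw [hz]
        _ = _ := by group
    · rintro _ ⟨l, hl, rfl⟩ g hg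
      obtain ⟨hgA, hg⟩ := (hC _ g).mp hg
      refine ⟨hgA, ?_⟩
      rw [show g = (g * l⁻¹ * g⁻¹ * l) * (l⁻¹ * g * l) by group]
      refine mul_mem (Subgroup.mem_sup_left (mul_mem (hN.conj_mem _ (inv_mem hl) g) hl))
        (Subgroup.mem_sup_right (Subgroup.mem_centralizer_iff.mpr ?_))
      intro w hw
      rw [Set.mem_singleton_iff.mp hw]
      have h2 : g * (l * x * l⁻¹) = l * x * l⁻¹ * g := mul_inv_eq_iff_eq_mul.mp hg
      calc x * (l⁻¹ * g * l) = l⁻¹ * (l * x * l⁻¹ * g) * l := by group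
        _ = l⁻¹ * (g * (l * x * l⁻¹)) * l := by rw [h2]
        _ = _ := by group
  have hab : ∀ x ∈ N, ∀ y ∈ N, x * y = y * x := by
    by_contra hcon
    push Not at hcon
    obtain ⟨x, hx, z, hz, hxz⟩ := hcon
    have hnc : ∀ a b, a ∈ N → b ∈ N → a * b ≠ b * a → C a = C b := by
      intro a b ha hb hab
      have ha1 : a ≠ 1 := fun h => hab (by simp [h])
      have hb1 : b ≠ 1 := fun h => hab (by simp [h])
      set u := a * b * a⁻¹ * b⁻¹
      have hu : u ∈ N := mul_mem (mul_mem (mul_mem ha hb) (inv_mem ha)) (inv_mem hb)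
      have hu1 : u ≠ 1 := fun h => hab (mul_inv_eq_iff_eq_mul.mp (mul_inv_eq_one.mp h))
      refine (hsub a u ha hu ha1 hu1 fun g hg => ?_).trans (hsub b u hb hu hb1 hu1 fun g hg => ?_).symm
      · have h1 := ((hC _ g).mp hg).2
        have hg' : g ∈ C (b * a⁻¹ * b⁻¹) := by
          rw [hclass a⁻¹ (inv_mem ha) (inv_ne_one.mpr ha1) b hb, hC]
          exact ⟨hCA _ hg, by rw [← conj_inv, h1]⟩
        calc g * u * g⁻¹ = (g * a * g⁻¹) * (g * (b * a⁻¹ * b⁻¹) * g⁻¹) := by simp only [u]; group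
          _ = u := by rw [h1, ((hC _ g).mp hg').2]; simp only [u]; group
      · have h1 := ((hC _ g).mp hg).2
        have hg' : g ∈ C (a * b * a⁻¹) := by rw [hclass b hb hb1 a ha]; exact hg
        calc g * u * g⁻¹ = (g * (a * b * a⁻¹) * g⁻¹) * (g * b * g⁻¹)⁻¹ := by simp only [u]; group
          _ = u := by rw [h1, ((hC _ g).mp hg').2]
    have hx1 : x ≠ 1 := fun h => hxz (by simp [h])
    have hall : ∀ y ∈ N, y ≠ 1 → C y = C x := by
      intro y hy hy1
      by_cases h1 : y * x = x * y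
      · by_cases h2 : y * z = z * y
        · have h3 : (y * x) * z ≠ z * (y * x) := by
            intro h
            apply hxz
            apply mul_left_cancel (a := y)
            calc y * (x * z) = y * x * z := by group
              _ = z * (y * x) := h
              _ = z * y * x := by group
              _ = y * (z * x) := by rw [← h2]; group
          have e1 := (hnc _ z (mul_mem hy hx) hz h3).trans (hnc x z hx hz hxz).symm
          refine (hsub x y hx hy hx1 hy1 fun g hg => ?_).symm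
          have g1 := ((hC _ g).mp hg).2
          have g2 := ((hC _ g).mp (e1.symm ▸ hg : g ∈ C (y * x))).2
          rw [← conj_mul, g1] at g2
          exact mul_right_cancel g2
        · exact (hnc y z hy hz h2).trans (hnc x z hx hz hxz).symm
      · exact hnc y x hy hx h1
    exact hnoteq fun y hy hy1 => (hall y hy hy1).trans (hall x₀ hx₀ hx₀1).symm
  refine ⟨hab, fun M hMN hMA hM => ?_⟩
  by_contra hne
  obtain ⟨x, hx, hxM⟩ := SetLike.exists_of_lt (lt_of_le_of_ne hMN hne)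
  obtain ⟨y₁, hy₁, hy₁1⟩ : ∃ y ∈ M, y ≠ 1 := by
    by_contra h
    push Not at h
    exact hM ((Subgroup.eq_bot_iff_forall M).mpr h)
  have key : ∀ x ∈ N, x ∉ M → ∀ y ∈ M, y ≠ 1 → C x = C y := by
    intro x hx hxM y hy hy1
    let B : Subgroup G :=
      { carrier := {g | g ∈ A ∧ x⁻¹ * (g * x * g⁻¹) ∈ M}
        one_mem' := ⟨one_mem _, by simp⟩
        mul_mem' := fun {g h} hg hh => ⟨mul_mem hg.1 hh.1, by
          rw [show x⁻¹ * (g * h * x * (g * h)⁻¹) =
            x⁻¹ * (g * x * g⁻¹) * (g * (x⁻¹ * (h * x * h⁻¹)) * g⁻¹) by group]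
          exact mul_mem hg.2 (hMA g hg.1 _ hh.2)⟩
        inv_mem' := fun {g} hg => ⟨inv_mem hg.1, by
          rw [show x⁻¹ * (g⁻¹ * x * g⁻¹⁻¹) = g⁻¹ * (x⁻¹ * (g * x * g⁻¹))⁻¹ * g⁻¹⁻¹ by group]
          exact hMA _ (inv_mem hg.1) _ (inv_mem hg.2)⟩ }
    have h := hfix B ((fun w => x * w) '' (M : Set G)) (fun g hg => hg.1) ?_ ?_ ?_ ?_ ?_
    · have hxy : C (x * y) = C x :=
        (h _ ⟨y, hy, rfl⟩).trans (h x ⟨1, M.one_mem, mul_one x⟩).symm
      refine hsub x y hx (hMN hy) (fun h => hxM (h ▸ M.one_mem)) hy1 fun g hg => ?_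
      have g1 := ((hC _ g).mp hg).2
      have g2 := ((hC _ g).mp (hxy.symm ▸ hg : g ∈ C (x * y))).2
      rw [← conj_mul, g1] at g2
      exact mul_left_cancel g2
    · rintro _ ⟨w, hw, rfl⟩; exact mul_mem hx (hMN hw)
    · rintro ⟨w, hw, h⟩; exact hxM (eq_inv_of_mul_eq_one_left h ▸ inv_mem hw)
    · rintro g hg _ ⟨w, hw, rfl⟩
      refine ⟨x⁻¹ * (g * x * g⁻¹) * (g * w * g⁻¹), mul_mem hg.2 (hMA g hg.1 w hw), ?_⟩
      show x * _ = _
      group
    · rintro _ ⟨w, hw, rfl⟩ g hg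
      obtain ⟨hgA, hg⟩ := (hC _ g).mp hg
      refine ⟨hgA, ?_⟩
      rw [show x⁻¹ * (g * x * g⁻¹) = x⁻¹ * (g * (x * w) * g⁻¹) * (g * w * g⁻¹)⁻¹ by group, hg,
        inv_mul_cancel_left]
      exact mul_mem hw (inv_mem (hMA g hgA w hw))
    · rw [Set.ncard_image_of_injective _ (mul_right_injective x), ← Nat.card_coe_set_eq]
      exact hcop M hMN hMA hM
  refine hnoteq fun z hz hz1 => ?_
  have hall : ∀ z ∈ N, z ≠ 1 → C z = C y₁ := by
    intro z hz hz1
    by_cases hzM : z ∈ M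
    · exact (key x hx hxM z hzM hz1).symm.trans (key x hx hxM y₁ hy₁ hy₁1)
    · exact key z hz hzM y₁ hy₁ hy₁1
  exact (hall z hz hz1).trans (hall x₀ hx₀ hx₀1).symm

/-- Let G be a finite 3/2-transitive permutation group: G acts faithfully and transitively on a finite set, the point stabilizers are non-trivial, and for each point a all orbits of G_a on the remaining points have the same size. Suppose G has a regular normal subgroup N and G is not a Frobenius group (some two-point stabilizer is non-trivial). Then N is an elementary abelian p-group for some prime p, and every non-trivial normal subgroup of G contains N (so N is the unique minimal normal subgroup). -/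
theorem result {G Ω : Type*} [Group G] [Finite G]
    [MulAction G Ω] [FaithfulSMul G Ω] [Finite Ω] (htrans : MulAction.IsPretransitive G Ω)
    (hne : ∀ a : Ω, MulAction.stabilizer G a ≠ ⊥)
    (hhalf : ∀ a b c : Ω, b ≠ a → c ≠ a →
      Nat.card (MulAction.orbit (MulAction.stabilizer G a) b) = Nat.card (MulAction.orbit (MulAction.stabilizer G a) c))
    (N : Subgroup G) [hN : N.Normal] (hNt : MulAction.IsPretransitive N Ω) (hNr : ∀ a : Ω, MulAction.stabilizer N a = ⊥)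
    (hnotF : ∃ a b : Ω, a ≠ b ∧ MulAction.stabilizer G a ⊓ MulAction.stabilizer G b ≠ ⊥) :
    (∃ p : ℕ, p.Prime ∧ IsMulCommutative N ∧ ∀ x ∈ N, x ^ p = 1) ∧
    (∀ M : Subgroup G, M.Normal → M ≠ ⊥ → N ≤ M) := by
  obtain ⟨a, b, hab, hnb⟩ := hnotF
  set A := MulAction.stabilizer G a with hA
  let C : G → Subgroup G := fun x => A ⊓ Subgroup.centralizer {x}
  have hC : ∀ x g, g ∈ C x ↔ g ∈ A ∧ g * x * g⁻¹ = x := fun x g => by
    simp only [C, Subgroup.mem_inf, Subgroup.mem_centralizer_iff, Set.mem_singleton_iff, forall_eq,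
      mul_inv_eq_iff_eq_mul]
    exact and_congr_right fun _ => eq_comm
  have hinj : ∀ x ∈ N, ∀ y ∈ N, x • a = y • a → x = y := by
    intro x hx y hy h
    have h1 : (⟨y⁻¹ * x, mul_mem (inv_mem hy) hx⟩ : N) ∈ MulAction.stabilizer N a :=
      show (y⁻¹ * x) • a = a by rw [← smul_smul, h, inv_smul_smul]
    rw [hNr a, Subgroup.mem_bot] at h1
    exact (inv_mul_eq_one.mp (congrArg Subtype.val h1)).symm
  have hsurj : ∀ w : Ω, ∃ x ∈ N, x • a = w := fun w => by
    obtain ⟨⟨x, hx⟩, h⟩ := hNt.exists_smul_eq a w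
    exact ⟨x, hx, h⟩
  have hconj : ∀ g ∈ A, ∀ x : G, (g * x * g⁻¹) • a = g • x • a := fun g hg x => by
    rw [← smul_smul, ← smul_smul, MulAction.mem_stabilizer_iff.mp (inv_mem hg)]
  have hCeq : ∀ x ∈ N, C x = A ⊓ MulAction.stabilizer G (x • a) := by
    intro x hx
    ext g
    rw [hC, Subgroup.mem_inf, MulAction.mem_stabilizer_iff]
    refine and_congr_right fun hg => ?_
    exact ⟨fun h => by rw [MulAction.mem_stabilizer_iff, ← hconj g hg x, h],
      fun h => hinj _ (hN.conj_mem x hx g) _ hx ((hconj g hg x).trans (MulAction.mem_stabilizer_iff.mp h))⟩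
  have horb : ∀ w : Ω, Nat.card (MulAction.orbit A w) * Nat.card ↥(A ⊓ MulAction.stabilizer G w) = Nat.card A := by
    intro w
    rw [Nat.card_coe_set_eq, ← MulAction.index_stabilizer, mul_comm, inf_comm]
    have h : MulAction.stabilizer A w = (MulAction.stabilizer G w).subgroupOf A := rfl
    rw [h, ← Nat.card_congr (Subgroup.subgroupOfEquivOfLe (inf_le_right : MulAction.stabilizer G w ⊓ A ≤ A)).toEquiv,
      Subgroup.inf_subgroupOf_right]
    exact Subgroup.card_mul_index _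
  have hcard : ∀ x ∈ N, x ≠ 1 →
      Nat.card ↥(C x) = Nat.card ↥(A ⊓ MulAction.stabilizer G b) := by
    intro x hx hx1
    rw [hCeq x hx]
    have hxa : x • a ≠ a := fun h => hx1 (hinj x hx 1 (one_mem _) (by rw [one_smul]; exact h))
    have h1 := horb (x • a)
    have h2 := horb b
    rw [hhalf a (x • a) b hxa hab.symm] at h1
    haveI : Nonempty (MulAction.orbit A b) := ⟨⟨b, MulAction.mem_orbit_self b⟩⟩
    exact Nat.eq_of_mul_eq_mul_left Nat.card_pos (h1.trans h2.symm)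
  have hfaith : ∀ g ∈ A, (∀ x ∈ N, g * x * g⁻¹ = x) → g = 1 := by
    intro g hg h
    refine FaithfulSMul.eq_of_smul_eq_smul (α := Ω) fun w => ?_
    obtain ⟨x, hx, rfl⟩ := hsurj w
    rw [one_smul, ← hconj g hg x, h x hx]
  obtain ⟨x, hx, hxb⟩ := hsurj b
  have hx1 : x ≠ 1 := fun h => hab (by rw [← hxb, h, one_smul])
  have hN1 : N ≠ ⊥ := fun h => hx1 (Subgroup.mem_bot.mp (h ▸ hx))
  obtain ⟨hcomm, hirr⟩ := halfTransitive_aut A N C hC _ ((Subgroup.one_lt_card_iff_ne_bot _).mpr hnb) hcard hfaith hN1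
  constructor
  · obtain ⟨p, hp, hdvd⟩ := Nat.exists_prime_and_dvd (n := Nat.card N) (fun h => hN1 (Subgroup.card_eq_one.mp h))
    haveI : Fact p.Prime := ⟨hp⟩
    let M : Subgroup G :=
      { carrier := {y | y ∈ N ∧ y ^ p = 1}
        one_mem' := ⟨one_mem _, one_pow _⟩
        mul_mem' := fun {y z} hy hz => ⟨mul_mem hy.1 hz.1, by
          rw [(show Commute y z from hcomm y hy.1 z hz.1).mul_pow, hy.2, hz.2, one_mul]⟩
        inv_mem' := fun {y} hy => ⟨inv_mem hy.1, by rw [inv_pow, hy.2, inv_one]⟩ }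
    obtain ⟨y, hy⟩ := exists_prime_orderOf_dvd_card' (G := N) p hdvd
    have hM : M = N := hirr M (fun z hz => hz.1)
      (fun g _ z hz => ⟨hN.conj_mem z hz.1 g, by rw [conj_pow, hz.2]; group⟩)
      (fun h => by
        have h1 : (y : G) ∈ M := ⟨y.2, by rw [← hy, ← Subgroup.orderOf_coe]; exact pow_orderOf_eq_one _⟩
        rw [h, Subgroup.mem_bot] at h1
        rw [← Subgroup.orderOf_coe, h1, orderOf_one] at hy
        exact hp.one_lt.ne hy)
    exact ⟨p, hp, ⟨⟨fun y z => Subtype.ext (hcomm y y.2 z z.2)⟩⟩, fun z hz => (hM.symm ▸ hz : z ∈ M).2⟩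
  · intro M hM hM1
    haveI := hM
    by_cases h : M ⊓ N = ⊥
    · exfalso
      refine hM1 ((Subgroup.eq_bot_iff_forall M).mpr fun g hg => ?_)
      obtain ⟨y, hy, hya⟩ := hsurj (g • a)
      have hgc : ∀ z ∈ N, Commute g z := fun z hz =>
        Subgroup.commute_of_normal_of_disjoint M N hM hN (disjoint_iff.mpr h) g z hg hz
      have : g = y := by
        refine FaithfulSMul.eq_of_smul_eq_smul (α := Ω) fun w => ?_
        obtain ⟨z, hz, rfl⟩ := hsurj w
        rw [smul_smul, (hgc z hz).eq, ← smul_smul, ← hya, smul_smul, smul_smul, hcomm z hz y hy]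
      exact Subgroup.mem_bot.mp (h ▸ (⟨hg, this ▸ hy⟩ : g ∈ M ⊓ N))
    · exact (hirr (M ⊓ N) inf_le_right (fun g _ z hz => (inferInstance : (M ⊓ N).Normal).conj_mem z hz g) h) ▸ inf_le_left

end Cfsg.Agent.S3356
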