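import Cfsg.Statements.S3358
import Cfsg.Agent.Lib.Frobenius.ZPresentation
import Cfsg.Agent.Lib.Frobenius.Structure
import Cfsg.Agent.Lib.SylowLift.Solvable
import Cfsg.Agent.S0016
import Cfsg.Agent.S3742
import Cfsg.Agent.S5112

set_option autoImplicit false
open Cfsg

namespace Cfsg.Agent.S3358

theorem center_q8_card : Nat.card (Subgroup.center (QuaternionGroup 2)) = 2 := by
  have key : ∀ x : QuaternionGroup 2, (∀ y, y * x = x * y) → x = 1 ∨ x = QuaternionGroup.a 2 := by decide +kernel
  have hz : QuaternionGroup.a 2 ∈ Subgroup.center (QuaternionGroup 2) :=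
    Subgroup.mem_center_iff.mpr (by decide +kernel)
  have hne : (QuaternionGroup.a 2 : QuaternionGroup 2) ≠ 1 := by decide +kernel
  rw [Nat.card_eq_two_iff]
  refine ⟨1, ⟨_, hz⟩, fun h => hne (congrArg Subtype.val h).symm, ?_⟩
  ext x
  simp only [Set.mem_insert_iff, Set.mem_singleton_iff, Set.mem_univ, iff_true]
  rcases key x (Subgroup.mem_center_iff.mp x.2) with h | h
  · exact Or.inl (Subtype.ext h)
  · exact Or.inr (Subtype.ext h)

/-- Every 2-subgroup of the quotient by the odd core has at most one involution. -/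
theorem two_subgroup_cases {A : Type*} [Group A] [Finite A] (h : Frobenius.SmallCyclic A)
    (T : Subgroup (A ⧸ Cfsg.oddCore A)) (hT : IsPGroup 2 T) :
    IsCyclic T ∨ ∃ n : ℕ, Nonempty (T ≃* QuaternionGroup (2 ^ n)) := by
  haveI : Fact (Nat.Prime 2) := ⟨Nat.prime_two⟩
  set π := QuotientGroup.mk' (Cfsg.oddCore A)
  obtain ⟨R, hR, -, hmap⟩ := SylowLift.exists_le_map_ge (QuotientGroup.mk'_surjective (Cfsg.oddCore A)) hT
    (R := ⊥) IsPGroup.of_bot (by simp)
  have hinj : ∀ a ∈ R, π a = 1 → a = 1 := by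
    intro a ha h1
    have h2 : a ∈ Cfsg.oddCore A := (QuotientGroup.eq_one_iff a).mp h1
    obtain ⟨k, hk⟩ := IsPGroup.iff_card.mp hR
    have hcop : Nat.Coprime (2 ^ k) (Nat.card ↥(Cfsg.oddCore A)) :=
      (Cores.coprime_card_pPrimeCore (G := A) 2).symm.pow_left k
    refine orderOf_eq_one_iff.mp (Nat.eq_one_of_dvd_coprimes hcop ?_ (Subgroup.orderOf_dvd_natCard _ h2))
    rw [← hk]
    exact Subgroup.orderOf_dvd_natCard R ha
  have hlift : ∀ x : T, x ^ 2 = 1 → x ≠ 1 → ∃ a : A, orderOf a = 2 ∧ π a = x := by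
    intro x hx hx1
    obtain ⟨a, ha, hax⟩ := hmap.ge x.2
    refine ⟨a, orderOf_eq_prime (hinj _ (pow_mem ha 2) ?_) (fun e => hx1 (Subtype.ext ?_)), hax⟩
    · rw [map_pow]
      exact (congrArg (· ^ 2) hax).trans (congrArg Subtype.val hx)
    · rw [← hax, e, map_one]; rfl
  have huniq : ∀ H K : Subgroup T, Nat.card H = 2 → Nat.card K = 2 → H = K := by
    have key : ∀ H K : Subgroup T, Nat.card H = 2 → Nat.card K = 2 → H ≤ K := by
      intro H K hH hK x hx
      by_cases hx1 : x = 1
      · exact hx1 ▸ one_mem _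
      obtain ⟨w, hw, hw1⟩ : ∃ w ∈ K, w ≠ 1 := by
        by_contra hcon
        push Not at hcon
        rw [(Subgroup.eq_bot_iff_forall K).mpr hcon, Subgroup.card_bot] at hK
        omega
      have sq : ∀ (L : Subgroup T), Nat.card L = 2 → ∀ u ∈ L, u ^ 2 = 1 := fun L hL u hu => by
        have := Subgroup.orderOf_dvd_natCard L hu
        rw [hL] at this
        exact orderOf_dvd_iff_pow_eq_one.mp this
      obtain ⟨a, ha, hax⟩ := hlift x (sq H hH x hx) hx1
      obtain ⟨b, hb, hbw⟩ := hlift w (sq K hK w hw) hw1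
      rw [h.eq_of_involution ha hb, hbw] at hax
      exact (Subtype.ext hax : w = x) ▸ hw
    exact fun H K hH hK => le_antisymm (key H K hH hK) (key K H hK hH)
  rcases S0016.result 2 hT huniq with hc | ⟨-, hq⟩
  · exact Or.inl hc
  · exact Or.inr hq

/-- A quotient map to `Sym(4)` with cyclic kernel, on the quotient by the odd core. -/
theorem exists_hom {A : Type*} [Group A] [Finite A] [Group.IsSolvable A] (h : Frobenius.SmallCyclic A) :
    ∃ f : (A ⧸ Cfsg.oddCore A) →* Equiv.Perm (Fin 4), IsCyclic f.ker := by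
  haveI : Fact (Nat.Prime 2) := ⟨Nat.prime_two⟩
  set Q := Cfsg.pCore 2 (A ⧸ Cfsg.oddCore A) with hQdef
  have hQp : IsPGroup 2 Q := Cores.isPGroup_pCore 2 _
  have hCQ : Subgroup.centralizer (Q : Set (A ⧸ Cfsg.oddCore A)) ≤ Q :=
    SylowLift.centralizer_pCore_le_of_solvable (Cores.pPrimeCore_quotient_self (G := A) 2)
  haveI : Q.Normal := Cores.pCore_normal 2 _
  have hker : ∀ g, (MulAut.conjNormal : _ →* MulAut Q) g = 1 → g ∈ Subgroup.centralizer (Q : Set _) := by
    intro g hg
    rw [Subgroup.mem_centralizer_iff]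
    intro c hc
    have := congrArg Subtype.val (DFunLike.congr_fun hg (⟨c, hc⟩ : Q))
    simp only [MulAut.conjNormal_apply, MulAut.one_apply] at this
    exact (mul_inv_eq_iff_eq_mul.mp this).symm
  have htwo : IsPGroup 2 (MulAut Q) → ∃ f : (A ⧸ Cfsg.oddCore A) →* Equiv.Perm (Fin 4), IsCyclic f.ker := by
    intro h2
    have hp : IsPGroup 2 (⊤ : Subgroup (A ⧸ Cfsg.oddCore A)) := by
      have := (h2.to_subgroup ⊤).comap_of_ker_isPGroup (MulAut.conjNormal : _ →* MulAut Q)
        (hQp.to_le fun x hx => hCQ (hker x hx))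
      rwa [Subgroup.comap_top] at this
    rcases two_subgroup_cases h ⊤ hp with hc | ⟨n, ⟨e⟩⟩
    · refine ⟨1, ?_⟩
      rw [MonoidHom.ker_one]
      exact hc
    · let e' := Subgroup.topEquiv.symm.trans e
      let N : Subgroup (A ⧸ Cfsg.oddCore A) :=
        (Subgroup.zpowers (QuaternionGroup.a 1 : QuaternionGroup (2 ^ n))).comap e'.toMonoidHom
      have hNi : N.index = 2 := by
        rw [Subgroup.index_comap_of_surjective _ e'.surjective]
        have h1 := Subgroup.card_mul_index (Subgroup.zpowers (QuaternionGroup.a 1 : QuaternionGroup (2 ^ n)))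
        rw [Nat.card_zpowers, QuaternionGroup.orderOf_a_one, Nat.card_eq_fintype_card (α := QuaternionGroup (2 ^ n)),
          QuaternionGroup.card] at h1
        have : 0 < 2 ^ n := Nat.two_pow_pos n
        nlinarith
      have hs : Equiv.swap (0 : Fin 4) 1 ≠ 1 := by decide
      classical
      let f : (A ⧸ Cfsg.oddCore A) →* Equiv.Perm (Fin 4) :=
        { toFun := fun g => if g ∈ N then 1 else Equiv.swap 0 1
          map_one' := if_pos N.one_mem
          map_mul' := fun a b => by
            have hmul := Subgroup.mul_mem_iff_of_index_two hNi (a := a) (b := b)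
            by_cases ha : a ∈ N <;> by_cases hb : b ∈ N <;> simp [hmul, ha, hb, Equiv.swap_mul_self] }
      have hfN : f.ker = N := by
        ext g
        rw [MonoidHom.mem_ker]
        show (if g ∈ N then (1 : Equiv.Perm (Fin 4)) else Equiv.swap 0 1) = 1 ↔ g ∈ N
        by_cases hg : g ∈ N <;> simp [hg, hs]
      refine ⟨f, ?_⟩
      rw [hfN]
      exact isCyclic_of_injective (e'.toMonoidHom.subgroupComap (Subgroup.zpowers _))
        (fun a b hab => Subtype.ext (e'.injective (congrArg Subtype.val hab)))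
  rcases two_subgroup_cases h Q hQp with hc | ⟨n, ⟨e⟩⟩
  · exact htwo (SylowLift.isPGroup_mulAut_of_isCyclic hQp)
  rcases n with _ | _ | n
  · haveI : IsCyclic (QuaternionGroup (2 ^ 0)) := by rw [pow_zero]; exact QuaternionGroup.quaternionGroup_one_isCyclic
    haveI : IsCyclic Q := isCyclic_of_surjective e.symm e.symm.surjective
    exact htwo (SylowLift.isPGroup_mulAut_of_isCyclic hQp)
  · replace e : ↥Q ≃* QuaternionGroup 2 := e
    obtain ⟨a⟩ := S3742.result
    let α : (A ⧸ Cfsg.oddCore A) →* Equiv.Perm (Fin 4) :=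
      ((MulAut.congr e).trans a).toMonoidHom.comp (MulAut.conjNormal : _ →* MulAut Q)
    refine ⟨α, ?_⟩
    have hk : ∀ g, g ∈ α.ker → g ∈ Subgroup.centralizer (Q : Set _) := fun g hg =>
      hker g (((MulAut.congr e).trans a).injective ((MonoidHom.mem_ker.mp hg).trans (map_one _).symm))
    have hc : ∀ g : α.ker, e ⟨g, hCQ (hk g g.2)⟩ ∈ Subgroup.center (QuaternionGroup 2) := by
      intro g
      rw [Subgroup.mem_center_iff]
      intro w
      obtain ⟨v, rfl⟩ := e.surjective w
      exact (map_mul e _ _).symm.trans ((congrArg e (Subtype.ext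
        (Subgroup.mem_centralizer_iff.mp (hk g g.2) v v.2))).trans (map_mul e _ _))
    let β : α.ker →* Subgroup.center (QuaternionGroup 2) :=
      { toFun := fun g => ⟨e ⟨g, hCQ (hk g g.2)⟩, hc g⟩
        map_one' := Subtype.ext (map_one e)
        map_mul' := fun g g' => Subtype.ext (map_mul e ⟨g, hCQ (hk g g.2)⟩ ⟨g', hCQ (hk g' g'.2)⟩) }
    haveI : IsCyclic (Subgroup.center (QuaternionGroup 2)) :=
      isCyclic_of_prime_card center_q8_card
    exact isCyclic_of_injective β fun g g' hgg => by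
      have := congrArg Subtype.val (e.injective (congrArg Subtype.val hgg))
      exact Subtype.ext this
  · exact htwo ((S5112.aut_quaternion (n + 1 + 1) (by omega)).of_equiv (MulAut.congr e).symm)

/-- Structure of solvable Frobenius complements. Let G be a finite solvable group that occurs as a Frobenius complement. Then G has a normal subgroup G₀ such that G/G₀ is isomorphic to a subgroup of Sym(4) (G₀ is the kernel of a homomorphism to Sym(4)), all Sylow subgroups of G₀ are cyclic, and G₀ has a presentation ⟨x, y | x^n = 1, y^m = 1, x⁻¹ y x = y^r⟩ with n, m ≥ 1, gcd(r − 1, m) = gcd(n, m) = 1 and r^(n/n′) ≡ 1 (mod m), where n′ is the product of the distinct primes dividing n. -/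
theorem result {G : Type*} [Group G] [Finite G] (hsol : Group.IsSolvable G)
    (hFC : ∃ (L : Type) (_ : Group L) (_ : Finite L) (H : Subgroup L), Cfsg.IsFrobeniusComplement H ∧ Nonempty (G ≃* H)) :
    ∃ G₀ : Subgroup G, G₀.Normal ∧
      (∃ f : G →* Equiv.Perm (Fin 4), f.ker = G₀) ∧
      (∀ (p : ℕ) [Fact p.Prime] (P : Sylow p G₀), IsCyclic P) ∧
      ∃ n m r : ℕ, 0 < n ∧ 0 < m ∧ Nat.Coprime (r - 1) m ∧ Nat.Coprime n m ∧ 1 ≤ r ∧
        r ^ (n / ∏ p ∈ n.primeFactors, p) % m = 1 % m ∧
        Nonempty (G₀ ≃* PresentedGroup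
          ({FreeGroup.of (0 : Fin 2) ^ n, FreeGroup.of (1 : Fin 2) ^ m,
            (FreeGroup.of (0 : Fin 2))⁻¹ * FreeGroup.of 1 * FreeGroup.of 0 * (FreeGroup.of (1 : Fin 2) ^ r)⁻¹} :
            Set (FreeGroup (Fin 2)))) := by
  obtain ⟨L, iL, fL, H, hH, ⟨eG⟩⟩ := hFC
  have hsm : Frobenius.SmallCyclic G :=
    (Frobenius.smallCyclic_complement hH).of_injective (f := eG.toMonoidHom) eG.injective
  haveI := hsol
  obtain ⟨f, hf⟩ := exists_hom hsm
  set π := QuotientGroup.mk' (Cfsg.oddCore G) with hπ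
  set F := f.comp π with hF
  have hz : IsZGroup ↥F.ker := by
    rw [isZGroup_iff]
    intro p hp P
    haveI := Fact.mk hp
    by_cases hp2 : p = 2
    · subst hp2
      let β : (P : Subgroup F.ker) →* f.ker :=
        ((π.comp F.ker.subtype).comp (P : Subgroup F.ker).subtype).codRestrict f.ker
          (fun x => MonoidHom.mem_ker.mpr (MonoidHom.mem_ker.mp (x : F.ker).2))
      refine isCyclic_of_injective β ((injective_iff_map_eq_one β).mpr fun x hx => ?_)
      have h2 : ((x : F.ker) : G) ∈ Cfsg.oddCore G := (QuotientGroup.eq_one_iff _).mp (congrArg Subtype.val hx)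
      obtain ⟨k, hk⟩ := P.isPGroup' x
      have hcop : Nat.Coprime (2 ^ k) (Nat.card ↥(Cfsg.oddCore G)) :=
        (Cores.coprime_card_pPrimeCore (G := G) 2).symm.pow_left k
      refine Subtype.ext (Subtype.ext (orderOf_eq_one_iff.mp
        (Nat.eq_one_of_dvd_coprimes hcop ?_ (Subgroup.orderOf_dvd_natCard _ h2))))
      refine orderOf_dvd_of_pow_eq_one ?_
      rw [← Subgroup.coe_pow, ← Subgroup.coe_pow, hk]
      rfl
    · exact (hsm.of_injective F.ker.subtype_injective).isCyclic_sylow hp2 P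
  refine ⟨F.ker, inferInstance, ⟨F, rfl⟩, fun p _ P => inferInstance, ?_⟩
  exact Frobenius.zGroup_presentation (hsm.of_injective F.ker.subtype_injective)

end Cfsg.Agent.S3358
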