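import Cfsg.Statements.S3362
import Cfsg.Agent.Lib.MathieuTwelve.Chain

set_option autoImplicit false
open Cfsg

namespace Cfsg.Agent.S3362

open Cfsg.Agent.MathieuTwelve

theorem card_grp4 : Nat.card ↥grp4 = 7920 := by
  rw [step4.1, step3.1, step2.1, step1.1, Subgroup.card_bot]

theorem card_grp5 : Nat.card ↥grp5 = 95040 := by
  rw [step5.1, card_grp4]

/-- An element fixing the five base points is trivial. -/
theorem eq_one_of_fix {g : Equiv.Perm (Fin 12)} (hg : g ∈ grp5) (h2 : g 2 = 2) (h1 : g 1 = 1)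
    (h0 : g 0 = 0) (h3 : g 3 = 3) (h4 : g 4 = 4) : g = 1 :=
  Subgroup.mem_bot.mp (step1.2 g (step2.2 g (step3.2 g (step4.2 g (step5.2 g hg h2) h1) h0) h3) h4)

/-- An explicit construction of the Mathieu groups of degrees 11 and 12. On the points 0, …, 11 let s = (3 4 5)(6 7 8)(9 10 11), t = (3 6 9)(4 7 10)(5 8 11), u = (4 6 5 9)(7 8 11 10), v = (4 7 5 11)(6 10 9 8), w = (4 10 5 8)(6 11 9 7), x₁ = (0 3)(6 7)(8 10)(9 11), x₂ = (0 1)(6 9)(7 10)(8 11), x₃ = (1 2)(6 11)(7 9)(8 10) (each written as a product of transpositions). Then the group M₁₂ generated by all eight permutations is sharply 5-transitive on the 12 points and has order 95040, and the group M₁₁ generated by the first seven has order 7920 and is the stabilizer of the point 2 in M₁₂. -/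
theorem result
    (s t u v w x₁ x₂ x₃ : Equiv.Perm (Fin 12))
    (hs : s = Equiv.swap (3 : Fin 12) 5 * Equiv.swap (3 : Fin 12) 4 * Equiv.swap (6 : Fin 12) 8 * Equiv.swap (6 : Fin 12) 7 * Equiv.swap (9 : Fin 12) 11 * Equiv.swap (9 : Fin 12) 10) (ht : t = Equiv.swap (3 : Fin 12) 9 * Equiv.swap (3 : Fin 12) 6 * Equiv.swap (4 : Fin 12) 10 * Equiv.swap (4 : Fin 12) 7 * Equiv.swap (5 : Fin 12) 11 * Equiv.swap (5 : Fin 12) 8)
    (hu : u = Equiv.swap (4 : Fin 12) 9 * Equiv.swap (4 : Fin 12) 5 * Equiv.swap (4 : Fin 12) 6 * Equiv.swap (7 : Fin 12) 10 * Equiv.swap (7 : Fin 12) 11 * Equiv.swap (7 : Fin 12) 8) (hv : v = Equiv.swap (4 : Fin 12) 11 * Equiv.swap (4 : Fin 12) 5 * Equiv.swap (4 : Fin 12) 7 * Equiv.swap (6 : Fin 12) 8 * Equiv.swap (6 : Fin 12) 9 * Equiv.swap (6 : Fin 12) 10) (hw : w = Equiv.swap (4 : Fin 12) 8 * Equiv.swap (4 : Fin 12) 5 * Equiv.swap (4 : Fin 12) 10 * Equiv.swap (6 : Fin 12) 7 * Equiv.swap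 (6 : Fin 12) 9 * Equiv.swap (6 : Fin 12) 11)
    (hx₁ : x₁ = Equiv.swap (0 : Fin 12) 3 * Equiv.swap (6 : Fin 12) 7 * Equiv.swap (8 : Fin 12) 10 * Equiv.swap (9 : Fin 12) 11) (hx₂ : x₂ = Equiv.swap (0 : Fin 12) 1 * Equiv.swap (6 : Fin 12) 9 * Equiv.swap (7 : Fin 12) 10 * Equiv.swap (8 : Fin 12) 11)
    (hx₃ : x₃ = Equiv.swap (1 : Fin 12) 2 * Equiv.swap (6 : Fin 12) 11 * Equiv.swap (7 : Fin 12) 9 * Equiv.swap (8 : Fin 12) 10)
    (M₁₂ M₁₁ : Subgroup (Equiv.Perm (Fin 12))) (hM₁₂ : M₁₂ = Subgroup.closure {s, t, u, v, w, x₁, x₂, x₃})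
    (hM₁₁ : M₁₁ = Subgroup.closure {s, t, u, v, w, x₁, x₂}) :
    MulAction.IsMultiplyPretransitive M₁₂ (Fin 12) 5 ∧ (∀ y : Fin 5 ↪ Fin 12, MulAction.stabilizer M₁₂ y = ⊥) ∧
    Nat.card M₁₂ = 95040 ∧ Nat.card M₁₁ = 7920 ∧
    M₁₁ = M₁₂ ⊓ MulAction.stabilizer (Equiv.Perm (Fin 12)) (2 : Fin 12) := by
  obtain rfl : s = gs := by rw [hs]; decide +kernel
  obtain rfl : t = gt := by rw [ht]; decide +kernel
  obtain rfl : u = gu := by rw [hu]; decide +kernel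
  obtain rfl : v = gv := by rw [hv]; decide +kernel
  obtain rfl : w = gw := by rw [hw]; decide +kernel
  obtain rfl : x₁ = gx1 := by rw [hx₁]; decide +kernel
  obtain rfl : x₂ = gx2 := by rw [hx₂]; decide +kernel
  obtain rfl : x₃ = gx3 := by rw [hx₃]; decide +kernel
  have r4 : M₁₁ = grp4 := by
    rw [hM₁₁, grp4, gen4]
    congr 1
    ext g
    simp [Matrix.range_cons, Matrix.range_empty]
    tauto
  have r5 : M₁₂ = grp5 := by
    rw [hM₁₂, grp5, gen5]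
    congr 1
    ext g
    simp [Matrix.range_cons, Matrix.range_empty]
    tauto
  subst r4 r5
  let e₀ : Fin 5 ↪ Fin 12 := ⟨![2, 1, 0, 3, 4], by decide⟩
  let f : ↥grp5 → (Fin 5 ↪ Fin 12) := fun g => g • e₀
  have hinj : Function.Injective f := by
    intro a b hab
    have h : ∀ i, (b⁻¹ * a : ↥grp5).1 (e₀ i) = e₀ i := fun i =>
      DFunLike.congr_fun (show (b⁻¹ * a) • e₀ = e₀ from (smul_smul b⁻¹ a e₀).symm.trans ((congrArg (b⁻¹ • ·) hab).trans (inv_smul_smul b e₀))) i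
    exact (inv_mul_eq_one.mp (Subtype.ext (eq_one_of_fix (b⁻¹ * a).2 (h 0) (h 1) (h 2) (h 3) (h 4)))).symm
  have hbij : Function.Bijective f := hinj.bijective_of_nat_card_le (by
    rw [card_grp5, Nat.card_eq_fintype_card, Fintype.card_embedding_eq, Fintype.card_fin, Fintype.card_fin]
    norm_num [Nat.descFactorial])
  refine ⟨⟨fun x y => ?_⟩, fun y => ?_, card_grp5, card_grp4, ?_⟩
  · obtain ⟨a, rfl⟩ := hbij.2 x
    obtain ⟨b, rfl⟩ := hbij.2 y
    exact ⟨b * a⁻¹, (smul_smul _ a e₀).trans (congrArg (· • e₀) (inv_mul_cancel_right b a))⟩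
  · obtain ⟨g, rfl⟩ := hbij.2 y
    rw [eq_bot_iff]
    intro a ha
    have h : f (a * g) = f g := (smul_smul a g e₀).symm.trans (MulAction.mem_stabilizer_iff.mp ha)
    exact mul_eq_right.mp (hinj h)
  · refine le_antisymm (le_inf grp4_le fun g hg => fix5 g hg) fun g hg => step5.2 g hg.1 hg.2

end Cfsg.Agent.S3362
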