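import Cfsg.Statements.S3365
import Cfsg.Agent.Lib.FixityFour.SmallFix
import Cfsg.Agent.Lib.FixityFour.FreeCase
import Cfsg.Agent.Lib.FixityFour.PairCount


set_option autoImplicit false
open Cfsg MulAction Subgroup
open Cfsg.Agent.FixityFour

namespace Cfsg.Agent.S3365

/-- Every element of order two has a conjugate in a given Sylow 2-subgroup. -/
theorem exists_conj_mem {G : Type*} [Group G] [Finite G] (S : Sylow 2 G) {y : G} (hy : orderOf y = 2) :
    ∃ g : G, g * y * g⁻¹ ∈ (S : Subgroup G) := by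
  have : Fact (Nat.Prime 2) := ⟨Nat.prime_two⟩
  have hp : IsPGroup 2 (zpowers y) := IsPGroup.of_card (n := 1) (by rw [Nat.card_zpowers, hy, pow_one])
  obtain ⟨Q, hQ⟩ := hp.exists_le_sylow
  obtain ⟨g, hg⟩ := MulAction.exists_smul_eq G Q S
  refine ⟨g, ?_⟩
  have h1 : g * y * g⁻¹ ∈ ((g • Q : Sylow 2 G) : Subgroup G) := by
    rw [Sylow.coe_subgroup_smul]
    exact Subgroup.smul_mem_pointwise_smul _ (MulAut.conj g) _ (hQ (mem_zpowers _))
  rwa [hg] at h1

/-- Finite simple groups acting with fixity 4. Let G be a finite non-abelian simple group acting faithfully and transitively on a finite set so that every non-identity element fixes at most 4 points and some non-identity element fixes exactly 4 (fixity 4). Let P be a Sylow 3-subgroup, S a Sylow 2-subgroup, f the largest number of fixed points of an involution of G, and a a point. Then one of the following holds: (1) f ≥ 1 and G has a strongly embedded subgroup; (2) 1 ≤ f ≤ 3 and S is dihedral or semidihedral; (3) f = 4 and G has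 sectional 2-rank at most 4; (4) the point stabilizer G_a has odd order divisible by 3 and either G has a strongly 3-embedded subgroup (a proper subgroup H of order divisible by 3 such that H ∩ gHg⁻¹ has order prime to 3 for every element g outside H), or |P| = 3 and a Sylow 2-subgroup of N_G(P) has order at most 4, or P is elementary abelian of order 9, or P is extraspecial of order 27 and exponent 3, or P is isomorphic to a Sylow 3-subgroup of Sym(9) (the wreath product C₃ ≀ C₃); (5) G_a has order prime to 6. -/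
theorem result {G Ω : Type*} [Group G] [Finite G] [IsSimpleGroup G] (hna : ¬ IsMulCommutative G)
    [MulAction G Ω] [FaithfulSMul G Ω] [Finite Ω] (htrans : MulAction.IsPretransitive G Ω)
    (hfix : ∀ g : G, g ≠ 1 → Nat.card (MulAction.fixedBy Ω g) ≤ 4)
    (hfix4 : ∃ g : G, g ≠ 1 ∧ Nat.card (MulAction.fixedBy Ω g) = 4)
    (P : Sylow 3 G) (S : Sylow 2 G) (f : ℕ)
    (hf : ∀ g : G, orderOf g = 2 → Nat.card (MulAction.fixedBy Ω g) ≤ f)
    (hf' : ∃ g : G, orderOf g = 2 ∧ Nat.card (MulAction.fixedBy Ω g) = f) (a : Ω) :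
    (1 ≤ f ∧ ∃ H : Subgroup G, Cfsg.IsStronglyEmbedded H) ∨
    (1 ≤ f ∧ f ≤ 3 ∧ ((∃ n : ℕ, Nonempty ((S : Subgroup G) ≃* DihedralGroup n)) ∨ Cfsg.IsQuasiDihedral (S : Subgroup G))) ∨
    (f = 4 ∧ Cfsg.SectionalPRankLE 2 4 G) ∨
    (Odd (Nat.card (MulAction.stabilizer G a)) ∧ 3 ∣ Nat.card (MulAction.stabilizer G a) ∧
      ((∃ H : Subgroup G, H ≠ ⊤ ∧ 3 ∣ Nat.card H ∧ ∀ g : G, g ∉ H → ¬ 3 ∣ Nat.card ↥(H ⊓ H.map (MulAut.conj g).toMonoidHom)) ∨
       (Nat.card P = 3 ∧ ∀ T : Sylow 2 (Subgroup.normalizer ((P : Subgroup G) : Set G)), Nat.card T ≤ 4) ∨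
       (Nat.card P = 9 ∧ ∀ x ∈ (P : Subgroup G), x ^ 3 = 1) ∨
       (Nat.card P = 27 ∧ Cfsg.IsExtraspecial 3 (P : Subgroup G) ∧ ∀ x ∈ (P : Subgroup G), x ^ 3 = 1) ∨
       (∃ T : Sylow 3 (Equiv.Perm (Fin 9)), Nonempty ((P : Subgroup G) ≃* (T : Subgroup (Equiv.Perm (Fin 9))))))) ∨
    (Nat.card (MulAction.stabilizer G a)).Coprime 6 := by
  have := htrans
  have hn : 4 < Nat.card Ω := by
    obtain ⟨g, hg, hg4⟩ := hfix4
    exact four_lt_degree hg hg4
  obtain ⟨x₀, hx₀, hx₀f⟩ := hf'
  have hne : ∀ y : G, orderOf y = 2 → y ≠ 1 := fun y hy e => by rw [e, orderOf_one] at hy; omega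
  have hf4 : f ≤ 4 := hx₀f ▸ hfix x₀ (hne x₀ hx₀)
  have hmod : ∀ y : G, orderOf y = 2 → (fixedBy Ω y).ncard % 4 = Nat.card Ω % 4 := fun y hy =>
    involution_fix_mod hna hy
  have hx₀m : f % 4 = Nat.card Ω % 4 := by rw [← hmod x₀ hx₀, ← hx₀f, Nat.card_coe_set_eq]
  have hle : ∀ y : G, orderOf y = 2 → (fixedBy Ω y).ncard ≤ f := fun y hy => by
    rw [← Nat.card_coe_set_eq]; exact hf y hy
  have h2G : 2 ∣ Nat.card G := hx₀ ▸ orderOf_dvd_natCard x₀
  rcases Nat.lt_or_ge f 4 with hlt | hge
  · rcases Nat.eq_zero_or_pos f with hf0 | hf1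
    · -- involutions have no fixed points
      have hfree : ∀ u : G, orderOf u = 2 → ∀ b : Ω, u • b ≠ b := by
        intro u hu b hb
        have h1 := hle u hu
        have h2 : 0 < (fixedBy Ω u).ncard := (Set.ncard_pos (Set.toFinite _)).mpr ⟨b, hb⟩
        omega
      have hodd : Odd (Nat.card (stabilizer G a)) := by
        rw [← Nat.not_even_iff_odd, even_iff_two_dvd]
        intro hd
        have : Fact (Nat.Prime 2) := ⟨Nat.prime_two⟩
        obtain ⟨⟨u, hu⟩, huo⟩ := exists_prime_orderOf_dvd_card' 2 hd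
        rw [← Subgroup.orderOf_coe] at huo
        exact hfree u huo a hu
      by_cases h3 : 3 ∣ Nat.card (stabilizer G a)
      · refine Or.inr (Or.inr (Or.inr (Or.inl ⟨hodd, h3, ?_⟩)))
        rcases odd_three hna (⟨hfix, hfree⟩ : OddFix G Ω) hn P h3 with h | h
        · exact Or.inl h
        · exact Or.inr (Or.inr (Or.inl h))
      · refine Or.inr (Or.inr (Or.inr (Or.inr ?_)))
        rw [show (6 : ℕ) = 2 * 3 from rfl, Nat.coprime_mul_iff_right]
        exact ⟨Nat.coprime_two_right.mpr hodd, ((Nat.prime_three.coprime_iff_not_dvd).mpr h3).symm⟩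
    · -- involutions fix exactly `f` points
      have hall : ∀ y : G, orderOf y = 2 → (fixedBy Ω y).ncard = f := fun y hy => by
        have h1 := hle y hy
        have h2 := hmod y hy
        omega
      rcases small_fix hn S hf1 (by omega) h2G hall with h | h
      · exact Or.inl ⟨hf1, h⟩
      · exact Or.inr (Or.inl ⟨hf1, by omega, h⟩)
  · -- involutions fix no point or four
    have hfeq : f = 4 := by omega
    have hzero : ZeroFour G Ω := fun y hy => by
      have h1 := hle y hy
      have h2 := hmod y hy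
      rw [Nat.card_coe_set_eq]
      omega
    have hfixS : FixLE (S : Subgroup G) Ω := fun s hs => hfix s fun e => hs (Subtype.ext e)
    have hzS : ZeroFour (S : Subgroup G) Ω := fun s hs => hzero s (by rw [Subgroup.orderOf_coe]; exact hs)
    obtain ⟨g, hg⟩ := exists_conj_mem S hx₀
    have hx₁ : Four Ω (⟨g * x₀ * g⁻¹, hg⟩ : (S : Subgroup G)) :=
      ⟨by rw [← Subgroup.orderOf_coe, orderOf_conj]; exact hx₀,
        (card_fixedBy_conj (Ω := Ω) g x₀).trans (hx₀f.trans hfeq)⟩
    by_cases hB : NoCentralFour (S : Subgroup G) Ω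
    · exact Or.inr (Or.inr (Or.inl ⟨hfeq, Sectional.sectional_of_sylow S (free_case S.2 hfixS hzS hB hx₁)⟩))
    · obtain ⟨z, hz4, hzc⟩ : ∃ z : (S : Subgroup G), Four Ω z ∧ ∀ s, s * z = z * s := by
        by_contra hcon
        refine hB fun q hq => ?_
        by_contra hq'
        exact hcon ⟨q, hq, fun s => not_not.mp fun hne' => hq' ⟨s, hne'⟩⟩
      rcases central_case S.2 hfixS hzS hz4 hzc with h | h
      · exact Or.inr (Or.inr (Or.inl ⟨hfeq, Sectional.sectional_of_sylow S h⟩))
      · have hz4' : Four Ω (z : G) := ⟨by rw [Subgroup.orderOf_coe]; exact hz4.1, hz4.2⟩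
        have hC : Confined S (z : G) Ω :=
          { fix := hfix
            zero := hzero
            four := hz4'
            memS := z.2
            cen := fun s hs => congrArg Subtype.val (hzc ⟨s, hs⟩)
            conf := fun s hs hs4 => h ⟨s, hs⟩ ⟨by rw [← Subgroup.orderOf_coe]; exact hs4.1, hs4.2⟩ }
        have hT : (fixedBy Ω (z : G)).ncard = 4 := by rw [← Nat.card_coe_set_eq]; exact hz4'.2
        exact Or.inl ⟨by omega, _, hC.stronglyEmbedded hna
          (stable_proper (Set.nonempty_of_ncard_ne_zero (by omega)) (by omega))⟩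

end Cfsg.Agent.S3365
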