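import Cfsg.Statements.S3371
import Cfsg.Agent.Lib.PLinear.HalfTransitive
import Cfsg.Agent.Lib.PGroup.CyclicNormalAbelian
-- import your own Cfsg.Agent.* helpers here

set_option autoImplicit false
open Cfsg

namespace Cfsg.Agent.S3371

open Subgroup

variable {G : Type*} [Group G]

theorem eq_pow_half {a w : G} {N : ℕ} (ha : orderOf a = 2 * N) (hN : 0 < N) (hw : w ∈ zpowers a)
    (hw1 : w ≠ 1) (hww : w * w = 1) : w = a ^ N := by
  obtain ⟨j, rfl⟩ := hw
  simp only at hw1 hww ⊢
  have hd : (2 * N : ℤ) ∣ j + j := by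
    rw [← zpow_add] at hww
    have := orderOf_dvd_iff_zpow_eq_one.2 hww
    rw [ha] at this
    exact_mod_cast this
  obtain ⟨c, hc⟩ := hd
  have hj : j = N * c := by linarith
  rcases Int.even_or_odd c with ⟨e, he⟩ | ⟨e, he⟩
  · refine absurd ?_ hw1
    rw [← orderOf_dvd_iff_zpow_eq_one, ha, hj, he]
    exact ⟨e, by push_cast; ring⟩
  · rw [hj, he, show (N : ℤ) * (2 * e + 1) = ((2 * N : ℕ) : ℤ) * e + N by push_cast; ring, zpow_add, zpow_mul,
      zpow_natCast, ← ha, pow_orderOf_eq_one, one_zpow, one_mul, zpow_natCast]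

theorem conj_pow_left {a b : G} {r : ℤ} (h : b * a * b⁻¹ = a ^ r) (j k : ℤ) :
    a ^ k * (a ^ j * b) * (a ^ k)⁻¹ = a ^ (j + k * (1 - r)) * b := by
  have hb : b * (a ^ k)⁻¹ = a ^ (-(k * r)) * b := by
    rw [← zpow_neg, ← mul_inv_eq_iff_eq_mul, ← conj_zpow, h, ← zpow_mul]
    ring_nf
  rw [mul_assoc, mul_assoc (a ^ j), hb, ← mul_assoc, ← mul_assoc, ← zpow_add, ← zpow_add]
  congr 2
  ring

theorem sq_left {a b : G} {r : ℤ} (h : b * a * b⁻¹ = a ^ r) (hb : b * b = 1) (j : ℤ) :
    (a ^ j * b) * (a ^ j * b) = a ^ (j * (1 + r)) := by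
  have h' : b * a ^ j = a ^ (j * r) * b := by
    rw [← mul_inv_eq_iff_eq_mul, ← conj_zpow, h, ← zpow_mul]
    ring_nf
  rw [mul_assoc, ← mul_assoc b, h', mul_assoc, hb, mul_one, ← zpow_add]
  congr 1
  ring

variable {q : ℕ} [Fact q.Prime] {V : Type*} [AddCommGroup V] [Module (ZMod q) V] [Finite V] [Nontrivial V]

/-- The case of a cyclic subgroup of index two, with the number of the other involutions. -/
theorem two_cases [Finite G] (ρ : G →* (V ≃ₗ[ZMod q] V)) (hρ : Function.Injective ρ)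
    (hht : PLinear.HalfTrans ρ) (hirr : ∀ W : Submodule (ZMod q) V, (∀ g : G, ∀ w ∈ W, ρ g w ∈ W) → W = ⊥ ∨ W = ⊤)
    (hns : ¬ ∀ v : V, v ≠ 0 → ∀ g : G, ρ g v = v → g = 1) (h2 : (2 : ZMod q) ≠ 0) {a b : G} {r k : ℤ} {N : ℕ}
    (hN : 2 ≤ N) (ha : orderOf a = 2 * N) (hG : Nat.card G = 4 * N) (hb : b * b = 1) (hbC : b ∉ zpowers a)
    (hr : b * a * b⁻¹ = a ^ r) (hk : (2 * N : ℤ) ∣ k * (1 - r) - N) (hz : a ^ N * b = b * a ^ N)
    {t : ℕ} (ht : Nat.card G = 2 ^ t) {m : ℕ} (hm : 2 ≤ m) (hI : Nat.card {y : G // y ∉ zpowers a ∧ y * y = 1} = 2 ^ m) :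
    Nat.card V = q ^ 2 ∧ q = 2 ^ m - 1 := by
  set C := zpowers a
  have hCi : C.index = 2 := by
    have h := C.card_mul_index
    rw [Nat.card_zpowers, ha, hG] at h
    have h' : 2 * N * C.index = 2 * N * 2 := by rw [h]; ring
    exact Nat.eq_of_mul_eq_mul_left (by omega) h'
  have hz2 : a ^ N * a ^ N = 1 := by rw [← pow_add, ← two_mul, ← ha, pow_orderOf_eq_one]
  have hz1 : a ^ N ≠ 1 := fun h => by
    have := Nat.le_of_dvd (by omega) (orderOf_dvd_of_pow_eq_one h)
    rw [ha] at this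
    omega
  have hdec : ∀ g : G, g ∉ C → ∃ j : ℤ, g = a ^ j * b := fun g hg => by
    have h : g * b⁻¹ ∈ C := (mul_mem_iff_of_index_two hCi).2 (iff_of_false hg fun h => hbC (inv_mem_iff.1 h))
    obtain ⟨j, hj⟩ := h
    exact ⟨j, by rw [show a ^ j = g * b⁻¹ from hj, inv_mul_cancel_right]⟩
  have hzc : ∀ g, g * a ^ N = a ^ N * g := fun g => by
    by_cases hg : g ∈ C
    · obtain ⟨j, rfl⟩ := hg
      show a ^ j * a ^ N = a ^ N * a ^ j
      rw [← zpow_natCast, ← zpow_add, ← zpow_add, add_comm]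
    · obtain ⟨j, rfl⟩ := hdec g hg
      rw [mul_assoc, ← hz, ← mul_assoc, ← mul_assoc]
      congr 1
      rw [← zpow_natCast, ← zpow_add, ← zpow_add, add_comm]
  obtain ⟨Q, hQ, hQI⟩ := PLinear.cyclic_index_two_cases ρ hρ hht hirr hns h2 hCi hz2 hz1 hzc
    (fun x hx hx1 => by
      have hev : 2 ∣ Nat.card (zpowers x) := by
        have h := Subgroup.card_dvd_of_le (zpowers_le.2 hx : zpowers x ≤ C)
        rw [Nat.card_zpowers, Nat.card_zpowers, ha] at h
        rw [Nat.card_zpowers]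
        by_contra hodd
        have hco : Nat.Coprime (orderOf x) 2 := (Nat.prime_two.coprime_iff_not_dvd.2 hodd).symm
        have hd := orderOf_dvd_natCard x
        rw [ht] at hd
        exact hx1 (orderOf_eq_one_iff.1 (Nat.eq_one_of_dvd_coprimes (hco.pow_right t) dvd_rfl hd))
      haveI : Fact (Nat.Prime 2) := ⟨Nat.prime_two⟩
      obtain ⟨w, hw⟩ := exists_prime_orderOf_dvd_card' 2 hev
      rw [← Subgroup.orderOf_coe] at hw
      have hw' : (w : G) = a ^ N := eq_pow_half ha (by omega) (zpowers_le.2 hx w.2) (fun h => by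
        rw [h, orderOf_one] at hw; omega) (by rw [← pow_two, ← hw, pow_orderOf_eq_one])
      exact hw' ▸ w.2)
    (fun y hy _ => by
      obtain ⟨j, rfl⟩ := hdec y hy
      refine ⟨a ^ k, ?_⟩
      obtain ⟨c, hc⟩ := hk
      rw [conj_pow_left hr, show j + k * (1 - r) = N + j + ((2 * N : ℕ) : ℤ) * c by push_cast; linarith,
        zpow_add, zpow_add, zpow_mul, zpow_natCast, zpow_natCast, ← ha, pow_orderOf_eq_one, one_zpow, mul_one,
        mul_assoc])
  rw [hI] at hQI
  obtain ⟨f, hf⟩ : ∃ f, Q = q ^ f := by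
    have h := Module.natCard_eq_pow_finrank (K := ZMod q) (V := V)
    rw [hQ, Nat.card_zmod] at h
    obtain ⟨f, -, hf⟩ := (Nat.dvd_prime_pow (Fact.out : q.Prime)).1 (h ▸ dvd_pow_self Q two_ne_zero)
    exact ⟨f, hf⟩
  have hf1 : f = 1 := S3370.two_pow_sub_one_eq (Fact.out : q.Prime) hm (by omega)
  subst hf1
  rw [pow_one] at hf
  exact ⟨by rw [hQ, hf], by omega⟩

theorem cyclic_free [Finite G] (ρ : G →* (V ≃ₗ[ZMod q] V)) (hρ : Function.Injective ρ)
    (hirr : ∀ W : Submodule (ZMod q) V, (∀ g : G, ∀ w ∈ W, ρ g w ∈ W) → W = ⊥ ∨ W = ⊤)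
    {g : G} (hc : ∀ x, x * g = g * x) {v : V} (hv : v ≠ 0) (hg : ρ g v = v) : g = 1 := by
  rcases hirr (PLinear.fixSub ρ g) (fun x w hw => by
    rw [PLinear.mem_fixSub] at hw ⊢
    rw [← PLinear.rho_mul, ← hc x, PLinear.rho_mul, hw]) with h | h
  · exact absurd ((Submodule.eq_bot_iff _).1 h v hg) hv
  · refine hρ (LinearEquiv.ext fun w => ?_)
    rw [map_one]
    exact (PLinear.mem_fixSub ρ).1 (h ▸ Submodule.mem_top)

theorem quaternion_involution {n : ℕ} [NeZero n] {x : QuaternionGroup n} (hx : x * x = 1) (hx1 : x ≠ 1) :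
    x = QuaternionGroup.a n := by
  cases x with
  | a i =>
    rw [QuaternionGroup.a_mul_a, QuaternionGroup.one_def] at hx
    rw [QuaternionGroup.one_def] at hx1
    have h2 : i + i = 0 := QuaternionGroup.a.inj hx
    have hi : i ≠ 0 := fun h => hx1 (by rw [h])
    congr 1
    have hv : ((i.val + i.val : ℕ) : ZMod (2 * n)) = 0 := by rw [Nat.cast_add, ZMod.natCast_zmod_val, h2]
    obtain ⟨c, hc⟩ := (ZMod.natCast_eq_zero_iff _ _).1 hv
    have hlt := ZMod.val_lt i
    have hne : i.val ≠ 0 := fun h => hi ((ZMod.val_eq_zero i).1 h)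
    have hc1 : c = 1 := by
      rcases c with _ | _ | c
      · omega
      · rfl
      · nlinarith
    subst hc1
    rw [← ZMod.natCast_zmod_val i, show i.val = n by omega]
  | xa i =>
    rw [QuaternionGroup.xa_mul_xa, QuaternionGroup.one_def] at hx
    have h := QuaternionGroup.a.inj hx
    rw [add_sub_cancel_right] at h
    obtain ⟨c, hc⟩ := (ZMod.natCast_eq_zero_iff _ _).1 h
    have := NeZero.ne n
    rcases c with _ | c
    · omega
    · have : 0 < n := by omega
      nlinarith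

theorem quaternion_fix [Finite G] {p : ℕ} [Fact p.Prime] (hG : IsPGroup p G) (hp2 : p = 2)
    (ρ : G →* (V ≃ₗ[ZMod q] V)) (hρ : Function.Injective ρ)
    (hirr : ∀ W : Submodule (ZMod q) V, (∀ g : G, ∀ w ∈ W, ρ g w ∈ W) → W = ⊥ ∨ W = ⊤)
    {n : ℕ} (e : G ≃* QuaternionGroup n) {v : V} (hv : v ≠ 0) {g : G} (hg : ρ g v = v) : g = 1 := by
  subst hp2
  by_contra hg1
  haveI : NeZero n := ⟨fun h => by
    subst h
    haveI : Finite (QuaternionGroup 0) := Finite.of_equiv _ e.toEquiv
    haveI : Finite (ZMod 0) :=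
      Finite.of_injective (fun i : ZMod 0 => (QuaternionGroup.a (n := 0) i)) fun a b h => QuaternionGroup.a.inj h
    exact not_finite (ZMod 0)⟩
  have hev : 2 ∣ Nat.card (zpowers g) := by
    obtain ⟨t, ht⟩ := (hG.to_subgroup (zpowers g)).exists_card_eq
    rcases t with _ | t
    · rw [pow_zero] at ht
      exact absurd (by rwa [Nat.card_zpowers, orderOf_eq_one_iff] at ht) hg1
    · exact ht ▸ dvd_pow_self 2 (Nat.succ_ne_zero t)
  obtain ⟨w, hw⟩ := exists_prime_orderOf_dvd_card' 2 hev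
  rw [← Subgroup.orderOf_coe] at hw
  have hw1 : (w : G) ≠ 1 := fun h => by rw [h, orderOf_one] at hw; omega
  have hww : (w : G) * w = 1 := by rw [← pow_two, ← hw, pow_orderOf_eq_one]
  refine hw1 (cyclic_free ρ hρ hirr (fun x => ?_) hv ((zpowers_le (H := PLinear.vecStab ρ v)).2 hg w.2))
  have key : ∀ u : G, u * u = 1 → u ≠ 1 → e u = QuaternionGroup.a n := fun u hu hu1 =>
    quaternion_involution (by rw [← map_mul, hu, map_one]) (fun h => hu1 (e.injective (h.trans (map_one e).symm)))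
  have h : x * w * x⁻¹ = w := e.injective (by
    rw [key _ hww hw1, key _ (by rw [show x * w * x⁻¹ * (x * w * x⁻¹) = x * (w * w) * x⁻¹ by group, hww,
      mul_one, mul_inv_cancel]) (fun h => hw1 (by simpa using h))])
  exact mul_inv_eq_iff_eq_mul.1 h

/-- Let q be a prime, V a non-trivial finite vector space over the field with q elements, and G a finite p-group (p prime) acting faithfully and linearly on V such that all G-orbits on the non-zero vectors have the same size. Then one of the following holds: G is cyclic or generalized quaternion and acts semiregularly on the non-zero vectors; or V has q² elements with q = 2^m − 1 and G is dihedral of order 2^(m+1) or semidihedral of order 2^(m+2); or V has q² elements with q = 2^m + 1 and, in suitable coordinates V = F_q², G is exactly the group of maps (x, y) ↦ (a x, ± a⁻¹ y) and (x, y) ↦ (± a⁻¹ y, a x) with a ≠ 0; or V has 81 elements (q = 3) and G is a 2-group. -/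
theorem result (q : ℕ) [Fact q.Prime] {V : Type*} [AddCommGroup V] [Module (ZMod q) V] [Finite V] [Nontrivial V]
    {G : Type*} [Group G] [Finite G] (p : ℕ) [Fact p.Prime] (hG : IsPGroup p G)
    (ρ : G →* (V ≃ₗ[ZMod q] V)) (hρ : Function.Injective ρ)
    (hhalf : ∀ v w : V, v ≠ 0 → w ≠ 0 → Nat.card {u : V | ∃ g : G, ρ g v = u} = Nat.card {u : V | ∃ g : G, ρ g w = u}) :
    ((IsCyclic G ∨ ∃ n : ℕ, Nonempty (G ≃* QuaternionGroup n)) ∧ ∀ v : V, v ≠ 0 → ∀ g : G, ρ g v = v → g = 1) ∨
    (Nat.card V = q ^ 2 ∧ ∃ m : ℕ, q = 2 ^ m - 1 ∧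
      (Nonempty (G ≃* DihedralGroup (2 ^ m)) ∨ (Cfsg.IsQuasiDihedral G ∧ Nat.card G = 2 ^ (m + 2)))) ∨
    (Nat.card V = q ^ 2 ∧ (∃ m : ℕ, q = 2 ^ m + 1) ∧
      ∃ e : V ≃ₗ[ZMod q] (Fin 2 → ZMod q), ∀ f : (Fin 2 → ZMod q) ≃ₗ[ZMod q] (Fin 2 → ZMod q),
        (∃ g : G, f = e.symm.trans ((ρ g).trans e)) ↔
        ∃ a s : ZMod q, a ≠ 0 ∧ (s = 1 ∨ s = -1) ∧
          ((∀ v, f v = ![a * v 0, s * a⁻¹ * v 1]) ∨ (∀ v, f v = ![s * a⁻¹ * v 1, a * v 0]))) ∨
    (Nat.card V = 81 ∧ q = 3 ∧ p = 2) := by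
  have hht := PLinear.halfTrans_of ρ hhalf
  rcases subsingleton_or_nontrivial G with hsub | hnt
  · exact Or.inl ⟨Or.inl inferInstance, fun _ _ g _ => Subsingleton.elim g 1⟩
  obtain ⟨g1, hg1⟩ := exists_ne (1 : G)
  have hpq := PLinear.cast_ne_zero ρ hG hht hρ hg1
  have h2 : p = 2 → (2 : ZMod q) ≠ 0 := fun h => by subst h; exact_mod_cast hpq
  by_cases hsr : ∀ v : V, v ≠ 0 → ∀ g : G, ρ g v = v → g = 1
  · refine Or.inl ⟨?_, hsr⟩
    by_cases hc : IsCyclic G
    · exact Or.inl hc
    rcases PGroup.exists_normal_elementary_sq_or_cases hG hc with ⟨E, -, hE, hEc⟩ | ⟨hp2, hQ | ⟨n, ⟨e⟩⟩ | hQD⟩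
    · exact absurd hEc (PLinear.not_elementary_of_semiregular ρ hpq hsr hE)
    · exact Or.inr hQ
    · exfalso
      -- the two involutions would both act as minus the identity
      have hinv : ∀ y : G, y * y = 1 → y ≠ 1 → ∀ v, ρ y v = -v := fun y hy hy1 v => by
        have h : ρ y (v + ρ y v) = v + ρ y v := by
          rw [map_add, ← PLinear.rho_mul, hy, PLinear.rho_one_apply, add_comm]
        exact eq_neg_of_add_eq_zero_right (by_contra fun hne => hy1 (hsr _ hne y h))
      have hn1 : ∀ i : ZMod n, e.symm (DihedralGroup.sr i) * e.symm (DihedralGroup.sr i) = 1 := fun i => by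
        rw [← map_mul, DihedralGroup.sr_mul_sr, sub_self, ← DihedralGroup.one_def, map_one]
      have hn2 : ∀ i : ZMod n, e.symm (DihedralGroup.sr i) ≠ 1 := fun i h => by
        rw [← map_one e.symm] at h
        exact absurd (e.symm.injective h) (by rw [DihedralGroup.one_def]; exact fun h' => nomatch h')
      have h : e.symm (DihedralGroup.sr (0 : ZMod n)) = e.symm (DihedralGroup.sr 1) :=
        hρ (LinearEquiv.ext fun v => by rw [hinv _ (hn1 0) (hn2 0), hinv _ (hn1 1) (hn2 1)])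
      have h01 : (0 : ZMod n) = 1 := by simpa using e.symm.injective h
      have hn : n = 1 := ZMod.one_eq_zero_iff.1 h01.symm
      subst hn
      haveI : Fact (Nat.Prime 2) := ⟨Nat.prime_two⟩
      exact hc (isCyclic_of_prime_card (p := 2) (by rw [Nat.card_congr e.toEquiv, DihedralGroup.nat_card]))
    · exfalso
      obtain ⟨n, hn, hcard, x, y, hx, hy, hyx⟩ := hQD
      have hinv : ∀ w : G, w * w = 1 → w ≠ 1 → ∀ v, ρ w v = -v := fun w hw hw1 v => by
        have h : ρ w (v + ρ w v) = v + ρ w v := by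
          rw [map_add, ← PLinear.rho_mul, hw, PLinear.rho_one_apply, add_comm]
        exact eq_neg_of_add_eq_zero_right (by_contra fun hne => hw1 (hsr _ hne w h))
      set N := 2 ^ (n - 1) with hNdef
      have hx2 : orderOf x = 2 * N := by rw [hx, hNdef, ← pow_succ']; congr 1; omega
      have hz1 : x ^ N ≠ 1 := fun h => by
        have := Nat.le_of_dvd (pow_pos (by norm_num) _) (orderOf_dvd_of_pow_eq_one h)
        have := Nat.two_pow_pos (n - 1)
        omega
      have hy1 : y ≠ 1 := fun h => by rw [h, orderOf_one] at hy; omega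
      have h : y = x ^ N := hρ (LinearEquiv.ext fun v => by
        rw [hinv y (by rw [← pow_two, ← hy, pow_orderOf_eq_one]) hy1,
          hinv _ (by rw [← pow_add, ← two_mul, ← hx2, pow_orderOf_eq_one]) hz1])
      rw [h, mul_assoc, (Commute.self_pow x N).inv_right.eq, ← mul_assoc, mul_inv_cancel, one_mul] at hyx
      have h4 : 4 ≤ N := by
        rw [hNdef]
        calc 4 = 2 ^ 2 := rfl
          _ ≤ _ := Nat.pow_le_pow_right (by norm_num) (by omega)
      have h1 : x ^ (N - 2) = 1 := by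
        have h' : x ^ (N - 2) * x = 1 * x := by
          rw [← pow_succ, one_mul, show N - 2 + 1 = N - 1 by omega]
          exact hyx.symm
        exact mul_right_cancel h'
      have := Nat.le_of_dvd (by omega) (orderOf_dvd_of_pow_eq_one h1)
      omega
  -- not semiregular
  have hirr := PLinear.irreducible_of_halfTrans ρ hG hρ hht hsr
  by_cases hE : ∃ E : Subgroup G, E.Normal ∧ Cfsg.IsElementaryAbelian p E ∧ Nat.card E = p ^ 2
  · obtain ⟨E, hEn, hE, hEc⟩ := hE
    obtain ⟨H, W, hHi, htop, hind, hH, hkill, hperm⟩ := PLinear.imprimitive ρ hG hρ hirr hE hEc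
    exact Or.inr (Or.inr (PLinear.imprimitive_cases ρ hG hρ hht hHi htop hind hH hkill hperm))
  have hc : ¬ IsCyclic G := fun hc => hsr fun v hv g hg => cyclic_free ρ hρ hirr (fun x => (IsMulCommutative.is_comm (M := G)).comm x g) hv hg
  rcases PGroup.exists_normal_elementary_sq_or_cases hG hc with hE' | ⟨hp2, ⟨n, ⟨e⟩⟩ | ⟨n, ⟨e⟩⟩ | hQD⟩
  · exact absurd hE' hE
  · exact absurd (fun v hv g hg => quaternion_fix hG hp2 ρ hρ hirr e hv hg) hsr
  · subst hp2
    refine Or.inr (Or.inl ?_)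
    obtain ⟨t, ht⟩ := hG.exists_card_eq
    rw [Nat.card_congr e.toEquiv, DihedralGroup.nat_card] at ht
    obtain ⟨m, -, hm⟩ := (Nat.dvd_prime_pow Nat.prime_two).1 (ht ▸ dvd_mul_left n 2)
    haveI : Fact (Nat.Prime 2) := ⟨Nat.prime_two⟩
    have hm2 : 2 ≤ m := by
      by_contra hlt
      have hn : n = 1 ∨ n = 2 := by
        interval_cases m
        · exact Or.inl (by simpa using hm)
        · exact Or.inr (by simpa using hm)
      rcases hn with rfl | rfl
      · exact hc (isCyclic_of_prime_card (p := 2) (by rw [Nat.card_congr e.toEquiv, DihedralGroup.nat_card]))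
      · refine hE ⟨⊤, inferInstance, ⟨⟨⟨fun u v => Subtype.ext (e.injective ?_)⟩⟩, fun u _ => e.injective ?_⟩, ?_⟩
        · simp only [Subgroup.coe_mul, map_mul]
          exact (by decide : ∀ u v : DihedralGroup 2, u * v = v * u) _ _
        · rw [map_pow, map_one]
          exact (by decide : ∀ u : DihedralGroup 2, u ^ 2 = 1) _
        · rw [Subgroup.card_top, Nat.card_congr e.toEquiv, DihedralGroup.nat_card]; rfl
    haveI : NeZero n := ⟨by rw [hm]; exact pow_ne_zero _ two_ne_zero⟩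
    set a := e.symm (DihedralGroup.r 1) with ha
    set b := e.symm (DihedralGroup.sr 0) with hb
    set N := 2 ^ (m - 1) with hNdef
    have hN2 : 2 * N = n := by rw [hm, hNdef, ← pow_succ']; congr 1; omega
    have hoa : orderOf a = 2 * N := by rw [ha, MulEquiv.orderOf_eq, DihedralGroup.orderOf_r_one, hN2]
    have hbC : b ∉ Subgroup.zpowers a := fun h => by
      obtain ⟨j, hj⟩ := h
      simp only [ha, hb, ← map_zpow] at hj
      have := e.symm.injective hj
      simp at this
    have hinvol : ∀ y : G, y ∉ Subgroup.zpowers a → y * y = 1 := fun y hy => by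
      refine e.injective ?_
      rw [map_mul, map_one]
      cases hey : e y with
      | r i =>
        refine absurd ⟨(i.val : ℤ), ?_⟩ hy
        show a ^ (i.val : ℤ) = y
        rw [ha, ← map_zpow, zpow_natCast, DihedralGroup.r_one_pow, ZMod.natCast_zmod_val, ← hey,
          MulEquiv.symm_apply_apply]
      | sr i => rw [DihedralGroup.sr_mul_sr, sub_self]; rfl
    have hI : Nat.card {y : G // y ∉ Subgroup.zpowers a ∧ y * y = 1} = 2 ^ m := by
      rw [Nat.card_congr (Equiv.subtypeEquivRight fun y => ⟨fun h => h.1, fun h => ⟨h, hinvol y h⟩⟩)]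
      classical
      haveI : Fintype G := Fintype.ofFinite G
      rw [Nat.card_eq_fintype_card, Fintype.card_subtype_compl, ← Nat.card_eq_fintype_card,
        ← Nat.card_eq_fintype_card, Nat.card_congr e.toEquiv, DihedralGroup.nat_card,
        show Nat.card {y // y ∈ Subgroup.zpowers a} = orderOf a from Nat.card_zpowers a, hoa, hN2, ← hm]
      omega
    obtain ⟨hV, hq⟩ := two_cases ρ hρ hht hirr hsr (h2 rfl) (a := a) (b := b) (r := -1) (k := (N / 2 : ℕ))
      (N := N) (by rw [hNdef]; exact Nat.le_self_pow (by omega) 2) hoa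
      (by rw [Nat.card_congr e.toEquiv, DihedralGroup.nat_card, ← hN2]; ring) (hinvol b hbC) hbC
      (by rw [zpow_neg_one, ha, hb]; apply e.injective; simp) ⟨0, by
        have : 2 ∣ N := by rw [hNdef]; exact dvd_pow_self _ (by omega)
        obtain ⟨c, hc⟩ := this
        rw [hc, Nat.mul_div_cancel_left _ (by norm_num)]
        push_cast
        ring⟩ (by
        have hz : a ^ N * a ^ N = 1 := by rw [← pow_add, ← two_mul, ← hoa, pow_orderOf_eq_one]
        have h' : b * a ^ N * b⁻¹ = (a ^ N)⁻¹ := by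
          rw [← conj_pow, show b * a * b⁻¹ = a⁻¹ by rw [ha, hb]; apply e.injective; simp, inv_pow]
        rw [inv_eq_of_mul_eq_one_right hz, mul_inv_eq_iff_eq_mul] at h'
        exact h'.symm) (t := t) (by rw [Nat.card_congr e.toEquiv, DihedralGroup.nat_card]; exact ht) hm2 hI
    exact ⟨hV, m, hq, Or.inl ⟨e.trans (hm ▸ MulEquiv.refl _)⟩⟩
  · subst hp2
    refine Or.inr (Or.inl ?_)
    have hQD' := hQD
    obtain ⟨n, hn, hcard, x, y, hx, hy, hyx⟩ := hQD'
    set N := 2 ^ (n - 1) with hNdef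
    have hN4 : 4 ≤ N := by
      rw [hNdef]
      calc 4 = 2 ^ 2 := rfl
        _ ≤ _ := Nat.pow_le_pow_right (by norm_num) (by omega)
    have hox : orderOf x = 2 * N := by rw [hx, hNdef, ← pow_succ']; congr 1; omega
    have hyy : y * y = 1 := by rw [← pow_two, ← hy, pow_orderOf_eq_one]
    have hyx' : y * x * y⁻¹ = x ^ ((N : ℤ) - 1) := by
      rw [hyx, ← zpow_natCast, Nat.cast_sub (show 1 ≤ 2 ^ (n - 1) by omega)]
      rfl
    have hNe : 2 ∣ N := by rw [hNdef]; exact dvd_pow_self _ (by omega)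
    have hyC : y ∉ Subgroup.zpowers x := fun h => by
      have hy1 : y ≠ 1 := fun h1 => by rw [h1, orderOf_one] at hy; omega
      have h' : y = x ^ N := eq_pow_half hox (by omega) h hy1 hyy
      rw [h', mul_assoc, (Commute.self_pow x N).inv_right.eq, ← mul_assoc, mul_inv_cancel, one_mul] at hyx'
      have h1 : x ^ ((N : ℤ) - 2) = 1 := by
        rw [show (N : ℤ) - 2 = ((N : ℤ) - 1) - 1 by ring, zpow_sub_one, ← hyx', mul_inv_cancel]
      have h2 := orderOf_dvd_iff_zpow_eq_one.2 h1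
      rw [hox] at h2
      have := Int.le_of_dvd (by omega) h2
      push_cast at this
      omega
    have hGc : Nat.card G = 4 * N := by
      rw [hcard, hNdef, show n + 1 = n - 1 + 2 by omega, pow_add]; ring
    have hzc : x ^ N * y = y * x ^ N := by
      have hz : x ^ N * x ^ N = 1 := by rw [← pow_add, ← two_mul, ← hox, pow_orderOf_eq_one]
      have h' : y * x ^ N * y⁻¹ = x ^ N := by
        obtain ⟨c, hc⟩ := hNe
        rw [← conj_pow, hyx', ← zpow_natCast, ← zpow_mul, show ((N : ℤ) - 1) * N =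
          ((2 * N : ℕ) : ℤ) * ((c : ℤ) - 1) + N by rw [hc]; push_cast; ring, zpow_add, zpow_mul, zpow_natCast,
          ← hox, pow_orderOf_eq_one, one_zpow, one_mul, zpow_natCast]
      exact (mul_inv_eq_iff_eq_mul.1 h').symm
    have hI : Nat.card {g : G // g ∉ Subgroup.zpowers x ∧ g * g = 1} = 2 ^ (n - 1) := by
      have hCi : (Subgroup.zpowers x).index = 2 := by
        have h := (Subgroup.zpowers x).card_mul_index
        rw [Nat.card_zpowers, hox, hGc] at h
        have h' : 2 * N * (Subgroup.zpowers x).index = 2 * N * 2 := by rw [h]; ring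
        exact Nat.eq_of_mul_eq_mul_left (by omega) h'
      rw [← hNdef, ← Nat.card_fin N]
      refine (Nat.card_eq_of_bijective (fun i : Fin N => (⟨x ^ ((2 * (i : ℕ) : ℕ) : ℤ) * y, ?_, ?_⟩ :
        {g : G // g ∉ Subgroup.zpowers x ∧ g * g = 1})) ⟨?_, ?_⟩).symm
      · exact fun h => hyC ((Subgroup.mul_mem_cancel_left _ (Subgroup.zpow_mem _ (Subgroup.mem_zpowers x) _)).1 h)
      · rw [sq_left hyx' hyy, show ((2 * (i : ℕ) : ℕ) : ℤ) * (1 + ((N : ℤ) - 1)) = ((2 * N : ℕ) : ℤ) * (i : ℕ) by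
          push_cast; ring, zpow_mul, zpow_natCast x, ← hox, pow_orderOf_eq_one, one_zpow]
      · intro i j hij
        have h := mul_right_cancel (congrArg Subtype.val hij)
        rw [zpow_natCast, zpow_natCast] at h
        have := pow_injOn_Iio_orderOf (show 2 * (i : ℕ) ∈ Set.Iio (orderOf x) by simp [hox])
          (show 2 * (j : ℕ) ∈ Set.Iio (orderOf x) by simp [hox]) h
        exact Fin.ext (by omega)
      · rintro ⟨g, hgC, hgg⟩
        have h : g * y⁻¹ ∈ Subgroup.zpowers x := (Subgroup.mul_mem_iff_of_index_two hCi).2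
          (iff_of_false hgC fun h => hyC (inv_mem_iff.1 h))
        obtain ⟨j, hj⟩ := h
        have hgj : g = x ^ j * y := by rw [show x ^ j = g * y⁻¹ from hj, inv_mul_cancel_right]
        rw [hgj, sq_left hyx' hyy] at hgg
        have hd := orderOf_dvd_iff_zpow_eq_one.2 hgg
        rw [hox] at hd
        have hj2 : (2 : ℤ) ∣ j := by
          push_cast at hd
          rw [show (1 : ℤ) + ((N : ℤ) - 1) = N by ring] at hd
          exact (mul_dvd_mul_iff_right (show (N : ℤ) ≠ 0 by omega)).1 hd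
        obtain ⟨i, rfl⟩ := hj2
        have hi0 : 0 ≤ i % (N : ℤ) := Int.emod_nonneg _ (by omega)
        have hi1 : i % (N : ℤ) < N := Int.emod_lt_of_pos _ (by omega)
        refine ⟨⟨(i % (N : ℤ)).toNat, by omega⟩, Subtype.ext ?_⟩
        show x ^ ((2 * (i % (N : ℤ)).toNat : ℕ) : ℤ) * y = g
        rw [hgj, show ((2 * (i % (N : ℤ)).toNat : ℕ) : ℤ) = 2 * (i % (N : ℤ)) by push_cast; omega]
        congr 1
        rw [zpow_eq_zpow_iff_modEq, hox, Int.modEq_iff_dvd, Int.emod_def]
        exact ⟨i / N, by push_cast; ring⟩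
    obtain ⟨hV, hq⟩ := two_cases ρ hρ hht hirr hsr (h2 rfl) (a := x) (b := y) (r := (N : ℤ) - 1)
      (k := (N / 2 : ℕ)) (N := N) (by omega) hox hGc hyy hyC hyx' (by
        obtain ⟨c, hc⟩ := hNe
        have h4 : 2 ∣ c := by
          have h : 2 * c = 2 * 2 ^ (n - 2) := by rw [← hc, hNdef, ← pow_succ']; congr 1; omega
          rw [Nat.eq_of_mul_eq_mul_left (by norm_num) h]
          exact dvd_pow_self _ (by omega)
        obtain ⟨d, rfl⟩ := h4
        refine ⟨-(d : ℤ), ?_⟩
        rw [hc, Nat.mul_div_cancel_left _ (by norm_num)]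
        push_cast
        ring) hzc hcard (by omega) hI
    exact ⟨hV, n - 1, hq, Or.inr ⟨hQD, by rw [hcard]; congr 1; omega⟩⟩

end Cfsg.Agent.S3371
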