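import Cfsg.Statements.S3375
import Cfsg.Agent.EqLemmas

set_option autoImplicit false
open Cfsg

namespace Cfsg.Agent.S3375

theorem inv_apply_of_mem_image {H : Type*} [Group H] (γ : MulAut H) (h2 : ∀ h, γ (γ h) = h) (h : H) :
    γ (h⁻¹ * γ h) = (h⁻¹ * γ h)⁻¹ := by
  rw [map_mul, map_inv, h2, mul_inv_rev, inv_inv]

theorem exists_invariant_index_two {H : Type*} [Group H] [Finite H] (γ : MulAut H)
    (h2 : ∀ h, γ (γ h) = h) (M : Subgroup H) (hM : M.index = 2) :
    ∃ M₀ : Subgroup H, M₀.index = 2 ∧ ∀ h, γ h ∈ M₀ ↔ h ∈ M₀ := by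
  by_cases hinv : ∀ h, h ∈ M → γ h ∈ M
  · exact ⟨M, hM, fun h => ⟨fun hh => by simpa [h2] using hinv _ hh, hinv h⟩⟩
  push Not at hinv
  obtain ⟨a, ha, hga⟩ := hinv
  let M₀ : Subgroup H :=
    { carrier := {x | x ∈ M ↔ γ x ∈ M}
      one_mem' := by simp
      mul_mem' := fun {x y} hx hy => by
        simp only [Set.mem_setOf_eq] at hx hy ⊢
        rw [map_mul, Subgroup.mul_mem_iff_of_index_two hM, Subgroup.mul_mem_iff_of_index_two hM, hx, hy]
      inv_mem' := fun {x} hx => by simpa using hx }
  have hmem : ∀ x, x ∈ M₀ ↔ (x ∈ M ↔ γ x ∈ M) := fun x => Iff.rfl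
  refine ⟨M₀, ?_, fun h => ?_⟩
  · rw [Subgroup.index_eq_two_iff]
    refine ⟨a, fun b => ?_⟩
    simp only [hmem, map_mul, Subgroup.mul_mem_iff_of_index_two hM, Xor']
    tauto
  · simp only [hmem, h2]
    tauto

/-- Let γ be an automorphism of order 2 of a finite group H. (i) If γ fixes only the identity, then H is abelian and γ inverts every element. (ii) If γ has exactly two fixed points and H has a subgroup of index 2, then H has a γ-invariant abelian subgroup of index 2 on which γ acts by inversion. -/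
theorem result {H : Type*} [Group H] [Finite H] (γ : MulAut H) (hγ : orderOf γ = 2) :
    ((∀ h : H, γ h = h → h = 1) → (∀ a b : H, a * b = b * a) ∧ ∀ h : H, γ h = h⁻¹) ∧
    ((Nat.card {h : H // γ h = h} = 2 ∧ ∃ M : Subgroup H, M.index = 2) →
      ∃ A : Subgroup H, A.index = 2 ∧ IsMulCommutative A ∧ (∀ a ∈ A, γ a ∈ A) ∧ ∀ a ∈ A, γ a = a⁻¹) := by
  have h2 : ∀ h, γ (γ h) = h := by
    intro h
    have h' : γ ^ 2 = 1 := hγ ▸ pow_orderOf_eq_one γ
    have := DFunLike.congr_fun h' h
    rw [pow_two] at this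
    simpa using this
  constructor
  · intro hfpf
    have hinj : Function.Injective (fun h : H => h⁻¹ * γ h) := by
      intro a b e
      have e' : b * a⁻¹ * γ a = γ b := by
        have := congrArg (fun x => b * x) e
        simpa [mul_assoc] using this
      have : γ (b * a⁻¹) = b * a⁻¹ := by
        rw [map_mul, map_inv, ← e']; group
      exact (mul_inv_eq_one.mp (hfpf _ this)).symm
    have hinv : ∀ h : H, γ h = h⁻¹ := by
      intro x
      obtain ⟨h, rfl⟩ := (Finite.injective_iff_surjective.mp hinj) x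
      exact inv_apply_of_mem_image γ h2 h
    refine ⟨fun a b => ?_, hinv⟩
    have := map_mul γ a⁻¹ b⁻¹
    simp only [hinv, mul_inv_rev, inv_inv] at this
    exact this.symm
  · rintro ⟨hC, M', hM'⟩
    obtain ⟨M, hM, hMinv⟩ := exists_invariant_index_two γ h2 M' hM'
    classical
    have := Fintype.ofFinite H
    let f : H → H := fun h => h⁻¹ * γ h
    have hfM : ∀ h, f h ∈ M := fun h => by
      rw [Subgroup.mul_mem_iff_of_index_two hM, inv_mem_iff, hMinv]
    have hfib : ∀ y ∈ Finset.univ.image f, (Finset.univ.filter fun h => f h = y).card ≤ 2 := by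
      intro y hy
      obtain ⟨a, -, rfl⟩ := Finset.mem_image.mp hy
      rw [← hC, Nat.card_eq_fintype_card, Fintype.card_subtype]
      refine Finset.card_le_card_of_injOn (fun b => b * a⁻¹) ?_ (fun _ _ _ _ e => mul_right_cancel e)
      intro b hb
      have e : b⁻¹ * γ b = a⁻¹ * γ a := (Finset.mem_filter.mp hb).2
      have e' : b * a⁻¹ * γ a = γ b := by
        have := congrArg (fun x => b * x) e.symm
        simpa [mul_assoc] using this
      simp only [Finset.coe_filter, Finset.mem_univ, true_and, Set.mem_setOf_eq]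
      rw [map_mul, map_inv, ← e']; group
    have hcard := Finset.card_le_mul_card_image Finset.univ 2 hfib
    have hsub : Finset.univ.image f ⊆ Finset.univ.filter (fun x => x ∈ M) := by
      intro x hx
      obtain ⟨a, -, rfl⟩ := Finset.mem_image.mp hx
      simp [hfM]
    have hMc : (Finset.univ.filter (fun x : H => x ∈ M)).card * 2 = Fintype.card H := by
      rw [← Fintype.card_subtype, ← Nat.card_eq_fintype_card, ← Nat.card_eq_fintype_card, ← hM]
      exact M.card_mul_index
    have heq := Finset.eq_of_subset_of_card_le hsub (by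
      rw [Finset.card_univ] at hcard; omega)
    have hinv : ∀ x ∈ M, γ x = x⁻¹ := by
      intro x hx
      have : x ∈ Finset.univ.image f := by rw [heq]; simp [hx]
      obtain ⟨a, -, rfl⟩ := Finset.mem_image.mp this
      exact inv_apply_of_mem_image γ h2 a
    refine ⟨M, hM, ⟨⟨fun a b => ?_⟩⟩, fun a ha => (hMinv a).mpr ha, hinv⟩
    apply Subtype.ext
    have := hinv _ (M.mul_mem (M.inv_mem a.2) (M.inv_mem b.2))
    rw [map_mul, hinv _ (M.inv_mem a.2), hinv _ (M.inv_mem b.2)] at this
    simpa using this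

end Cfsg.Agent.S3375
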