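import Cfsg.Statements.S3379
import Cfsg.Agent.EqLemmas

set_option autoImplicit false
open Cfsg

namespace Cfsg.Agent.S3379

/-- Let G be a finite group all of whose Sylow subgroups are cyclic. Then G is generated by two elements x and y of coprime orders n and m with x⁻¹yx = y^r, where gcd(r − 1, m) = 1 and r^n ≡ 1 (mod m). -/
theorem result {G : Type*} [Group G] [Finite G]
    (hZ : ∀ (p : ℕ) [Fact p.Prime] (P : Sylow p G), IsCyclic (P : Subgroup G)) :
    ∃ (x y : G) (n m r : ℕ), Subgroup.closure {x, y} = ⊤ ∧ orderOf x = n ∧ orderOf y = m ∧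
      x⁻¹ * y * x = y ^ r ∧ Nat.Coprime (r - 1) m ∧ Nat.Coprime n m ∧ 1 ≤ r ∧ r ^ n % m = 1 % m := by
  classical
  have hG : IsZGroup G := ⟨fun p hp P => @hZ p ⟨hp⟩ P⟩
  obtain ⟨H, hH⟩ := Subgroup.exists_right_complement'_of_coprime hG.coprime_commutator_index
  have := IsZGroup.isCyclic_commutator G
  have h1 : Abelianization G ≃* H := hH.symm.QuotientMulEquiv
  have : IsCyclic H := isCyclic_of_surjective _ h1.surjective
  obtain ⟨y, hy⟩ := (Subgroup.isCyclic_iff_exists_zpowers_eq_top (commutator G)).mp inferInstance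
  obtain ⟨x, hx⟩ := (Subgroup.isCyclic_iff_exists_zpowers_eq_top H).mp inferInstance
  have hny : 0 < orderOf y := orderOf_pos y
  have hmem : x⁻¹ * y * x ∈ Subgroup.zpowers y := by
    rw [hy]
    simpa using (inferInstance : (commutator G).Normal).conj_mem y (hy ▸ Subgroup.mem_zpowers y) x⁻¹
  obtain ⟨r₀, hr₀⟩ := (mem_zpowers_iff_mem_range_orderOf.trans Finset.mem_image).mp hmem
  set r := r₀ + orderOf y with hrdef
  have hr : x⁻¹ * y * x = y ^ r := by rw [hrdef, pow_add, pow_orderOf_eq_one, mul_one]; exact hr₀.2.symm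
  have hr1 : 1 ≤ r := by omega
  have hgen : Subgroup.closure {x, y} = ⊤ := by
    rw [eq_top_iff, ← hH.sup_eq_top, ← hy, ← hx, sup_le_iff]
    simp only [Subgroup.zpowers_le]
    exact ⟨Subgroup.subset_closure (Or.inr rfl), Subgroup.subset_closure (Or.inl rfl)⟩
  refine ⟨x, y, orderOf x, orderOf y, r, hgen, rfl, rfl, hr, ?_, ?_, hr1, ?_⟩
  · -- the commutator subgroup is generated by `y ^ (r-1)`
    set D : Subgroup G := Subgroup.zpowers (y ^ (r - 1)) with hD
    have hyD : D ≤ commutator G := by
      rw [← hy, hD, Subgroup.zpowers_le]; exact Subgroup.npow_mem_zpowers y (r - 1)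
    have hDn : D.Normal := by
      rw [← Subgroup.normalizer_eq_top_iff, eq_top_iff, ← hgen, Subgroup.closure_le]
      have key : ∀ g : G, g⁻¹ * y ^ (r - 1) * g ∈ D → g⁻¹ ∈ Subgroup.normalizer (D : Set G) := by
        intro g hg
        rw [Subgroup.mem_normalizer_iff]
        have hle : D.map (MulAut.conj g⁻¹).toMonoidHom ≤ D := by
          rw [hD, MonoidHom.map_zpowers, Subgroup.zpowers_le]; simpa using hg
        have heq := Subgroup.eq_of_le_of_card_ge hle (by rw [Subgroup.card_map_of_injective (MulAut.conj g⁻¹).injective])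
        intro h
        conv_rhs => rw [← heq]
        simp
      intro g hg
      rcases hg with rfl | rfl
      · refine (Subgroup.inv_mem_iff _).mp (key g ?_)
        have := congrArg (fun u => u ^ (r - 1)) hr
        rw [show g⁻¹ * y * g = MulAut.conj g⁻¹ y by simp, ← map_pow, ← pow_mul, mul_comm, pow_mul] at this
        rw [show g⁻¹ * y ^ (r - 1) * g = MulAut.conj g⁻¹ (y ^ (r - 1)) by simp, this]
        exact Subgroup.npow_mem_zpowers _ _
      · refine (Subgroup.inv_mem_iff _).mp (key g ?_)
        rw [mul_assoc, ← pow_succ, pow_succ', inv_mul_cancel_left]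
        exact Subgroup.mem_zpowers _
    have hab : commutator G ≤ D := by
      rw [← QuotientGroup.ker_mk' D]
      have hcx : QuotientGroup.mk' D x * QuotientGroup.mk' D y = QuotientGroup.mk' D y * QuotientGroup.mk' D x := by
        rw [← map_mul, ← map_mul, QuotientGroup.mk'_eq_mk']
        refine ⟨y ^ (r - 1), Subgroup.mem_zpowers _, ?_⟩
        have : y * x = x * y ^ r := by rw [← hr]; group
        rw [this, mul_assoc, ← pow_succ']; congr 2; omega
      have hcomm : ∀ a b : G ⧸ D, a * b = b * a := by
        have htop : Subgroup.closure ((QuotientGroup.mk' D) '' {x, y}) = ⊤ := by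
          rw [← MonoidHom.map_closure, hgen, Subgroup.map_top_of_surjective _ (QuotientGroup.mk'_surjective D)]
        intro a b
        have := Subgroup.isMulCommutative_closure (k := (QuotientGroup.mk' D) '' {x, y}) (by
          rintro u ⟨u', hu, rfl⟩ v ⟨v', hv, rfl⟩
          rcases hu with rfl | rfl <;> rcases hv with rfl | rfl <;> first | rfl | exact hcx | exact hcx.symm)
        rw [htop] at this
        simpa using congrArg Subtype.val (this.is_comm.comm (⟨a, trivial⟩ : (⊤ : Subgroup (G ⧸ D))) ⟨b, trivial⟩)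
      rw [commutator_def, Subgroup.commutator_le]
      intro a _ b _
      rw [MonoidHom.mem_ker, map_commutatorElement, commutatorElement_eq_one_iff_mul_comm]
      exact hcomm _ _
    have hDy : y ∈ Subgroup.zpowers (y ^ (r - 1)) := hD ▸ hab (hy ▸ Subgroup.mem_zpowers y)
    obtain ⟨k, hk⟩ := (mem_powers_iff_mem_zpowers).mpr hDy
    simp only [← pow_mul] at hk
    have : (r - 1) * k ≡ 1 [MOD orderOf y] := pow_eq_pow_iff_modEq.mp (by rw [hk, pow_one])
    have hc : Nat.Coprime ((r - 1) * k) (orderOf y) := by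
      rw [Nat.Coprime, this.gcd_eq]; simp
    exact Nat.Coprime.coprime_mul_right hc
  · have hcop := hG.coprime_commutator_index
    rw [hH.symm.index_eq_card] at hcop
    rw [← hy, ← hx, Nat.card_zpowers, Nat.card_zpowers] at hcop
    exact hcop.symm
  · have key : ∀ k : ℕ, (x ^ k)⁻¹ * y * x ^ k = y ^ (r ^ k) := by
      intro k
      induction k with
      | zero => simp
      | succ k ih =>
        have : (x ^ (k + 1))⁻¹ * y * x ^ (k + 1) = MulAut.conj x⁻¹ ((x ^ k)⁻¹ * y * x ^ k) := by
          simp [pow_succ, mul_assoc]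
        rw [this, ih, map_pow, MulAut.conj_apply, inv_inv, hr, ← pow_mul, pow_succ, mul_comm]
    have := key (orderOf x)
    rw [pow_orderOf_eq_one, inv_one, one_mul, mul_one] at this
    exact pow_eq_pow_iff_modEq.mp (this.symm.trans (pow_one y).symm)

end Cfsg.Agent.S3379
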