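import Cfsg.Statements.S3381
import Cfsg.Agent.EqLemmas

set_option autoImplicit false
open Cfsg

namespace Cfsg.Agent.S3381

section

variable {q : ℕ} [Fact q.Prime] {V : Type*} [AddCommGroup V] [Module (ZMod q) V] [Finite V]
variable {G : Type*} [Group G] [Finite G] (ρ : G →* (V ≃ₗ[ZMod q] V))

/-- The fixed space of `g`. -/
def fixSpace (g : G) : Submodule (ZMod q) V where
  carrier := {v | ρ g v = v}
  zero_mem' := map_zero _
  add_mem' := fun {a b} (ha : ρ g a = a) (hb : ρ g b = b) => by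
    show ρ g (a + b) = a + b
    rw [map_add, ha, hb]
  smul_mem' := fun c {a} (ha : ρ g a = a) => by
    show ρ g (c • a) = c • a
    rw [map_smul, ha]

theorem rho_mul_apply (a b : G) (v : V) : ρ (a * b) v = ρ a (ρ b v) := by
  rw [map_mul]; rfl

theorem rho_one_apply (v : V) : ρ 1 v = v := by
  rw [map_one]; rfl

theorem stab_unique (hstab : ∀ v : V, v ≠ 0 → Nat.card {g : G // ρ g v = v} = 2) (v : V) (hv : v ≠ 0)
    (g h : G) (hg1 : g ≠ 1) (hh1 : h ≠ 1) (hg : ρ g v = v) (hh : ρ h v = v) : g = h := by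
  obtain ⟨a, b, hab, hS⟩ := Nat.card_eq_two_iff.mp (hstab v hv)
  have hm : ∀ x : {g : G // ρ g v = v}, x = a ∨ x = b := fun x => by
    have : x ∈ ({a, b} : Set {g : G // ρ g v = v}) := by rw [hS]; trivial
    simpa using this
  have h1 := hm ⟨1, rho_one_apply ρ v⟩
  have h2 := hm ⟨g, hg⟩
  have h3 := hm ⟨h, hh⟩
  rcases h1 with h1 | h1 <;> rcases h2 with h2 | h2 <;> rcases h3 with h3 | h3 <;>
    first
      | exact congrArg Subtype.val (h2.trans h3.symm)
      | exact absurd (congrArg Subtype.val (h2.trans h1.symm)) hg1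
      | exact absurd (congrArg Subtype.val (h3.trans h1.symm)) hh1

theorem stab_exists (hstab : ∀ v : V, v ≠ 0 → Nat.card {g : G // ρ g v = v} = 2) (v : V) (hv : v ≠ 0) :
    ∃ g : G, g ≠ 1 ∧ orderOf g = 2 ∧ ρ g v = v := by
  obtain ⟨a, b, hab, -⟩ := Nat.card_eq_two_iff.mp (hstab v hv)
  obtain ⟨g, hg1, hg⟩ : ∃ g : G, g ≠ 1 ∧ ρ g v = v := by
    by_cases ha : (a : G) = 1
    · exact ⟨b, fun hb => hab (Subtype.ext (ha.trans hb.symm)), b.2⟩
    · exact ⟨a, ha, a.2⟩
  refine ⟨g, hg1, orderOf_eq_prime ?_ hg1, hg⟩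
  by_contra h2
  have := stab_unique ρ hstab v hv g (g ^ 2) hg1 h2 hg (by rw [pow_two, rho_mul_apply, hg, hg])
  exact hg1 (by rw [pow_two] at this; exact left_eq_mul.mp this)

theorem inv_apply_self {g : G} (hg : orderOf g = 2) (v : V) : ρ g (ρ g v) = v := by
  rw [← rho_mul_apply, ← pow_two, ← hg, pow_orderOf_eq_one, rho_one_apply]

theorem two_cancel (h2 : (2 : ZMod q) ≠ 0) {a b : V} (h : a + a = b + b) : a = b := by
  rw [← two_smul (ZMod q) a, ← two_smul (ZMod q) b] at h
  have := congrArg (fun x : V => (2 : ZMod q)⁻¹ • x) h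
  simpa [smul_smul, inv_mul_cancel₀ h2] using this

theorem two_zero_add (h2 : (2 : ZMod q) = 0) (v : V) : v + v = 0 := by
  rw [← two_smul (ZMod q) v, h2, zero_smul]

theorem central_fpf (hρ : Function.Injective ρ)
    (hstab : ∀ v : V, v ≠ 0 → Nat.card {g : G // ρ g v = v} = 2)
    (z : G) (hz : orderOf z = 2) (hzc : z ∈ Subgroup.center G) (v : V) (hv : ρ z v = v) : v = 0 := by
  by_contra hv0
  have hz1 : z ≠ 1 := fun h => by rw [h, orderOf_one] at hz; omega
  have hcomm : ∀ (g : G) (x : V), ρ z (ρ g x) = ρ g (ρ z x) := fun g x => by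
    rw [← rho_mul_apply, ← rho_mul_apply, (Subgroup.mem_center_iff.mp hzc g)]
  obtain ⟨u, hu⟩ : ∃ u, ρ z u ≠ u := by
    by_contra hc
    push Not at hc
    exact hz1 (hρ (by rw [map_one]; exact LinearEquiv.ext fun x => hc x))
  have hu0 : u ≠ 0 := fun h => hu (by rw [h, map_zero])
  obtain ⟨t, ht1, ht2, htu⟩ := stab_exists ρ hstab u hu0
  have htz : t ≠ z := fun h => hu (h ▸ htu)
  have htneg : ∀ w, ρ z w = w → ρ t w + w = 0 := by
    intro w hw
    by_contra hne
    exact htz (stab_unique ρ hstab _ hne t z ht1 hz1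
      (by rw [map_add, inv_apply_self ρ ht2, add_comm])
      (by rw [map_add, hcomm, hw]))
  have h2 : (2 : ZMod q) ≠ 0 := by
    intro h2
    have h3 := htneg v hv
    have : ρ t v = v := by
      have h4 := two_zero_add h2 v
      exact add_right_cancel (h3.trans h4.symm)
    exact htz (stab_unique ρ hstab v hv0 t z ht1 hz1 this hv)
  set y := u - ρ z u with hy
  have hzy : ρ z y = -y := by rw [hy, map_sub, inv_apply_self ρ hz, neg_sub]
  have hy0 : y ≠ 0 := sub_ne_zero.mpr (Ne.symm hu)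
  have hvy : v + y ≠ 0 := by
    intro h
    apply hv0
    have := congrArg (ρ z) h
    rw [map_add, hv, hzy, map_zero] at this
    apply two_cancel (q := q) h2
    calc v + v = (v + y) + (v + -y) := by abel
      _ = 0 + 0 := by rw [h, this]
  obtain ⟨g, hg1, -, hg⟩ := stab_exists ρ hstab (v + y) hvy
  have hg' := congrArg (ρ z) hg
  rw [hcomm, map_add (ρ z), hv, hzy] at hg'
  rw [map_add] at hg hg'
  rw [map_neg] at hg'
  have hgv : ρ g v = v := by
    apply two_cancel (q := q) h2
    calc ρ g v + ρ g v = (ρ g v + ρ g y) + (ρ g v + -ρ g y) := by abel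
      _ = v + y + (v + -y) := by rw [hg, hg']
      _ = v + v := by abel
  have hgz := stab_unique ρ hstab v hv0 g z hg1 hz1 hgv hv
  rw [hgz, hv, hzy] at hg
  have := add_left_cancel hg
  apply hy0
  apply two_cancel (q := q) h2
  calc y + y = -y + y := by rw [this]
    _ = 0 + 0 := by simp

end

/-- Let G be a finite group acting faithfully and linearly on a non-trivial finite vector space V over the field with q elements (q prime) so that every non-zero vector has a stabilizer of order 2, and suppose G has a central involution. Then V has q^(2r) elements for some r and G contains exactly q^r + 1 non-central involutions. -/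
theorem result
    (q : ℕ) [Fact q.Prime] {V : Type*} [AddCommGroup V] [Module (ZMod q) V] [Finite V] [Nontrivial V]
    {G : Type*} [Group G] [Finite G] (ρ : G →* (V ≃ₗ[ZMod q] V)) (hρ : Function.Injective ρ)
    (hstab : ∀ v : V, v ≠ 0 → Nat.card {g : G // ρ g v = v} = 2)
    (z : G) (hz : orderOf z = 2) (hzc : z ∈ Subgroup.center G) :
    ∃ r : ℕ, Nat.card V = q ^ (2 * r) ∧
      Nat.card {g : G // orderOf g = 2 ∧ g ∉ Subgroup.center G} = q ^ r + 1 := by
  classical
  have hz1 : z ≠ 1 := fun h => by rw [h, orderOf_one] at hz; omega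
  have hfpf := central_fpf ρ hρ hstab
  have hz2 : z ^ 2 = 1 := orderOf_dvd_iff_pow_eq_one.mp (by rw [hz])
  have hzneg : ∀ v, ρ z v = -v := by
    intro v
    have := hfpf z hz hzc (v + ρ z v) (by rw [map_add, inv_apply_self ρ hz, add_comm])
    exact eq_neg_of_add_eq_zero_right this
  have h2 : (2 : ZMod q) ≠ 0 := by
    intro h2
    obtain ⟨v, hv⟩ := exists_ne (0 : V)
    exact hv (hfpf z hz hzc v (by rw [hzneg]; exact neg_eq_of_add_eq_zero_left (two_zero_add h2 v)))
  have huniq : ∀ c : G, orderOf c = 2 → c ∈ Subgroup.center G → c = z := by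
    intro c hc hcc
    apply hρ
    refine LinearEquiv.ext fun v => ?_
    rw [hzneg]
    exact eq_neg_of_add_eq_zero_right (hfpf c hc hcc (v + ρ c v) (by rw [map_add, inv_apply_self ρ hc, add_comm]))
  let N := {g : G // orderOf g = 2 ∧ g ∉ Subgroup.center G}
  have hzmul : ∀ t : N, orderOf (z * t.1) = 2 ∧ z * t.1 ∉ Subgroup.center G := by
    intro t
    have hnc : z * t.1 ∉ Subgroup.center G := fun h => t.2.2 ((Subgroup.mul_mem_cancel_left _ hzc).mp h)
    refine ⟨orderOf_eq_prime ?_ (fun h => hnc (h ▸ one_mem _)), hnc⟩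
    have hco : Commute z t.1 := (Subgroup.mem_center_iff.mp hzc t.1).symm
    rw [hco.mul_pow, hz2, orderOf_dvd_iff_pow_eq_one.mp (dvd_of_eq t.2.1), one_mul]
  let zN : N → N := fun t => ⟨z * t.1, hzmul t⟩
  have hne1 : ∀ t : N, t.1 ≠ 1 := fun t h => by have := t.2.1; rw [h, orderOf_one] at this; omega
  have hdisj : ∀ s t : N, s ≠ t → Disjoint (fixSpace ρ s.1) (fixSpace ρ t.1) := by
    intro s t hst
    rw [Submodule.disjoint_def]
    intro v hs ht
    by_contra hv
    exact hst (Subtype.ext (stab_unique ρ hstab v hv _ _ (hne1 s) (hne1 t) hs ht))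
  have hzfix : ∀ (t : N) (v : V), v ∈ fixSpace ρ (zN t).1 ↔ ρ t.1 v = -v := by
    intro t v
    show ρ (z * t.1) v = v ↔ _
    rw [rho_mul_apply, hzneg, neg_eq_iff_eq_neg]
  have hcompl : ∀ t : N, IsCompl (fixSpace ρ t.1) (fixSpace ρ (zN t).1) := by
    intro t
    refine ⟨hdisj _ _ fun h => hz1 (by simpa [zN] using congrArg Subtype.val h), codisjoint_iff.mpr ?_⟩
    rw [eq_top_iff]
    intro v _
    have hv : v = (2 : ZMod q)⁻¹ • (v + ρ t.1 v) + (2 : ZMod q)⁻¹ • (v - ρ t.1 v) := by
      rw [← smul_add, add_add_sub_cancel, ← two_smul (ZMod q) v, inv_smul_smul₀ h2]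
    rw [hv]
    refine Submodule.add_mem_sup (Submodule.smul_mem _ _ ?_) (Submodule.smul_mem _ _ ?_)
    · show ρ t.1 (v + ρ t.1 v) = v + ρ t.1 v
      rw [map_add, inv_apply_self ρ t.2.1, add_comm]
    · rw [hzfix, map_sub, inv_apply_self ρ t.2.1, neg_sub]
  have hnb : ∀ t : N, ∃ a ∈ fixSpace ρ t.1, a ≠ 0 := by
    intro t
    by_contra hc
    push Not at hc
    have : t.1 = z := by
      apply hρ
      refine LinearEquiv.ext fun v => ?_
      rw [hzneg]
      exact eq_neg_of_add_eq_zero_right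
        (hc (v + ρ t.1 v) (by show ρ t.1 _ = _; rw [map_add, inv_apply_self ρ t.2.1, add_comm]))
    exact t.2.2 (this ▸ hzc)
  have hfixmem : ∀ v : V, v ≠ 0 → ∃ t : N, v ∈ fixSpace ρ t.1 := by
    intro v hv
    obtain ⟨g, -, hg2, hgv⟩ := stab_exists ρ hstab v hv
    exact ⟨⟨g, hg2, fun hgc => hv (hfpf g hg2 hgc v hgv)⟩, hgv⟩
  set n := Module.finrank (ZMod q) V with hn
  have hdim : ∀ t : N, 2 * Module.finrank (ZMod q) (fixSpace ρ t.1) = n := by
    intro t
    obtain ⟨a, ha, ha0⟩ := hnb t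
    obtain ⟨b, hb, hb0⟩ := hnb (zN t)
    have hab : a + b ∉ fixSpace ρ t.1 ∧ a + b ∉ fixSpace ρ (zN t).1 := by
      constructor
      · intro h
        exact hb0 ((Submodule.disjoint_def.mp (hcompl t).disjoint) b
          (by simpa using Submodule.sub_mem _ h ha) hb)
      · intro h
        exact ha0 ((Submodule.disjoint_def.mp (hcompl t).disjoint) a ha
          (by simpa using Submodule.sub_mem _ h hb))
    obtain ⟨s, hs⟩ := hfixmem (a + b) (fun h => hab.1 (h ▸ Submodule.zero_mem _))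
    have hst : s ≠ t := fun h => hab.1 (h ▸ hs)
    have hszt : s ≠ zN t := fun h => hab.2 (h ▸ hs)
    have hzz : ∀ x : N, zN (zN x) = x := fun x => Subtype.ext (by
      show z * (z * x.1) = x.1
      rw [← mul_assoc, ← pow_two, hz2, one_mul])
    have hzst : zN s ≠ t := fun h => hszt (by rw [← h, hzz])
    have hzszt : zN s ≠ zN t := fun h => hst (by rw [← hzz s, h, hzz])
    have e1 := Submodule.finrank_add_finrank_le_of_disjoint (hdisj _ _ hst)
    have e2 := Submodule.finrank_add_finrank_le_of_disjoint (hdisj _ _ hszt)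
    have e3 := Submodule.finrank_add_finrank_le_of_disjoint (hdisj _ _ hzst)
    have e4 := Submodule.finrank_add_finrank_le_of_disjoint (hdisj _ _ hzszt)
    have c1 := Submodule.finrank_add_eq_of_isCompl (hcompl t)
    have c2 := Submodule.finrank_add_eq_of_isCompl (hcompl s)
    omega
  set r := n / 2 with hr
  have hN0 : Nonempty N := by
    obtain ⟨v, hv⟩ := exists_ne (0 : V)
    exact (hfixmem v hv).nonempty
  have hn2 : n = 2 * r := by
    obtain ⟨t⟩ := hN0
    have := hdim t
    omega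
  have hcV : Nat.card V = q ^ (2 * r) := by
    rw [Module.natCard_eq_pow_finrank (K := ZMod q), Nat.card_zmod, ← hn, hn2]
  refine ⟨r, hcV, ?_⟩
  let pair : (Σ t : N, {w : fixSpace ρ t.1 // w ≠ 0}) → {v : V // v ≠ 0} :=
    fun x => ⟨x.2.1.1, fun h => x.2.2 (Subtype.ext h)⟩
  have hbij : Function.Bijective pair := by
    constructor
    · rintro ⟨s, ⟨⟨a, ha⟩, ha0⟩⟩ ⟨t, ⟨⟨b, hb⟩, hb0⟩⟩ h
      obtain rfl : a = b := congrArg Subtype.val h
      obtain rfl : s = t := by
        by_contra hst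
        exact ha0 (Subtype.ext ((Submodule.disjoint_def.mp (hdisj s t hst)) a ha hb))
      rfl
    · rintro ⟨v, hv⟩
      obtain ⟨t, ht⟩ := hfixmem v hv
      exact ⟨⟨t, ⟨⟨v, ht⟩, fun h => hv (congrArg Subtype.val h)⟩⟩, rfl⟩
  have hne0 : ∀ (X : Type _) [Finite X] (x : X), Nat.card {y : X // y ≠ x} = Nat.card X - 1 := by
    intro X _ x
    have := Fintype.ofFinite X
    rw [Nat.card_eq_fintype_card, Nat.card_eq_fintype_card, Fintype.card_subtype_compl, Fintype.card_subtype_eq]
  have hfib : ∀ t : N, Nat.card {w : fixSpace ρ t.1 // w ≠ 0} = q ^ r - 1 := by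
    intro t
    rw [hne0, Module.natCard_eq_pow_finrank (K := ZMod q), Nat.card_zmod]
    congr 2
    have := hdim t
    omega
  have := Fintype.ofFinite N
  have key := Nat.card_congr (Equiv.ofBijective pair hbij)
  rw [Nat.card_sigma, hne0, hcV, Finset.sum_congr rfl (fun t _ => hfib t), Finset.sum_const, Finset.card_univ,
    ← Nat.card_eq_fintype_card, smul_eq_mul] at key
  have hr1 : 1 < q ^ r := by
    obtain ⟨t⟩ := hN0
    obtain ⟨a, ha, ha0⟩ := hnb t
    by_contra hlt
    have h0 : Nat.card {w : fixSpace ρ t.1 // w ≠ 0} = 0 := by rw [hfib]; omega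
    rw [Nat.card_eq_zero] at h0
    rcases h0 with h0 | h0
    · exact h0.false ⟨⟨a, ha⟩, fun h => ha0 (congrArg Subtype.val h)⟩
    · exact absurd h0 (not_infinite_iff_finite.mpr inferInstance)
  have hfac : q ^ (2 * r) - 1 = (q ^ r + 1) * (q ^ r - 1) := by
    rw [show 2 * r = r * 2 from mul_comm _ _, pow_mul, ← Nat.sq_sub_sq, one_pow]
  rw [hfac] at key
  exact Nat.eq_of_mul_eq_mul_right (by omega) key

end Cfsg.Agent.S3381
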