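import Cfsg.Statements.S3382
import Cfsg.Agent.EqLemmas

set_option autoImplicit false
open Cfsg

namespace Cfsg.Agent.S3382

section

variable {q : ℕ}

/-- `(x, y) ↦ (a x, b y)`. -/
def diag (a b : (ZMod q)ˣ) : (Fin 2 → ZMod q) ≃ₗ[ZMod q] (Fin 2 → ZMod q) where
  toFun v := ![a * v 0, b * v 1]
  map_add' v w := by ext i; fin_cases i <;> simp [mul_add]
  map_smul' c v := by ext i; fin_cases i <;> simp [mul_left_comm]
  invFun v := ![(a⁻¹ : (ZMod q)ˣ) * v 0, (b⁻¹ : (ZMod q)ˣ) * v 1]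
  left_inv v := by ext i; fin_cases i <;> simp
  right_inv v := by ext i; fin_cases i <;> simp

/-- `(x, y) ↦ (b y, a x)`. -/
def anti (a b : (ZMod q)ˣ) : (Fin 2 → ZMod q) ≃ₗ[ZMod q] (Fin 2 → ZMod q) where
  toFun v := ![b * v 1, a * v 0]
  map_add' v w := by ext i; fin_cases i <;> simp [mul_add]
  map_smul' c v := by ext i; fin_cases i <;> simp [mul_left_comm]
  invFun v := ![(a⁻¹ : (ZMod q)ˣ) * v 1, (b⁻¹ : (ZMod q)ˣ) * v 0]
  left_inv v := by ext i; fin_cases i <;> simp
  right_inv v := by ext i; fin_cases i <;> simp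

theorem diag_apply (a b : (ZMod q)ˣ) (v : Fin 2 → ZMod q) : diag a b v = ![a * v 0, b * v 1] := rfl

theorem anti_apply (a b : (ZMod q)ˣ) (v : Fin 2 → ZMod q) : anti a b v = ![b * v 1, a * v 0] := rfl

theorem diag_mul_diag (a b c d : (ZMod q)ˣ) : diag a b * diag c d = diag (a * c) (b * d) := by
  apply LinearEquiv.ext; intro v
  ext i; fin_cases i <;> simp [diag_apply, LinearEquiv.mul_apply, mul_assoc]

theorem diag_mul_anti (a b c d : (ZMod q)ˣ) : diag a b * anti c d = anti (b * c) (a * d) := by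
  apply LinearEquiv.ext; intro v
  ext i; fin_cases i <;> simp [diag_apply, anti_apply, LinearEquiv.mul_apply, mul_assoc]

theorem anti_mul_diag (a b c d : (ZMod q)ˣ) : anti a b * diag c d = anti (a * c) (b * d) := by
  apply LinearEquiv.ext; intro v
  ext i; fin_cases i <;> simp [diag_apply, anti_apply, LinearEquiv.mul_apply, mul_assoc]

theorem anti_mul_anti (a b c d : (ZMod q)ˣ) : anti a b * anti c d = diag (b * c) (a * d) := by
  apply LinearEquiv.ext; intro v
  ext i; fin_cases i <;> simp [diag_apply, anti_apply, LinearEquiv.mul_apply, mul_assoc]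

theorem diag_one : diag (q := q) 1 1 = 1 := by
  apply LinearEquiv.ext; intro v
  ext i; fin_cases i <;> simp [diag_apply]

theorem diag_pow (a b : (ZMod q)ˣ) (n : ℕ) : diag a b ^ n = diag (a ^ n) (b ^ n) := by
  induction n with
  | zero => simp [diag_one]
  | succ n ih => rw [pow_succ, ih, diag_mul_diag, ← pow_succ, ← pow_succ]

theorem diag_inj [Fact q.Prime] {a b c d : (ZMod q)ˣ} : diag a b = diag c d ↔ a = c ∧ b = d := by
  refine ⟨fun h => ?_, fun ⟨h1, h2⟩ => h1 ▸ h2 ▸ rfl⟩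
  have h1 := congrFun (LinearEquiv.congr_fun h ![1, 1]) 0
  have h2 := congrFun (LinearEquiv.congr_fun h ![1, 1]) 1
  simp [diag_apply] at h1 h2
  exact ⟨Units.ext (by simpa using h1), Units.ext (by simpa using h2)⟩

theorem anti_inj [Fact q.Prime] {a b c d : (ZMod q)ˣ} : anti a b = anti c d ↔ a = c ∧ b = d := by
  refine ⟨fun h => ?_, fun ⟨h1, h2⟩ => h1 ▸ h2 ▸ rfl⟩
  have h1 := congrFun (LinearEquiv.congr_fun h ![1, 1]) 1
  have h2 := congrFun (LinearEquiv.congr_fun h ![1, 1]) 0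
  simp [anti_apply] at h1 h2
  exact ⟨Units.ext (by simpa using h1), Units.ext (by simpa using h2)⟩

theorem anti_ne_diag [Fact q.Prime] (a b c d : (ZMod q)ˣ) : anti a b ≠ diag c d := by
  intro h
  have h1 := congrFun (LinearEquiv.congr_fun h ![1, 0]) 0
  simp [diag_apply, anti_apply] at h1
  exact c.ne_zero h1.symm

theorem mem_T [Fact q.Prime] (T : Subgroup ((Fin 2 → ZMod q) ≃ₗ[ZMod q] (Fin 2 → ZMod q)))
    (hT : ∀ f, f ∈ T ↔ ∃ a s : ZMod q, a ≠ 0 ∧ (s = 1 ∨ s = -1) ∧
      ((∀ v, f v = ![a * v 0, s * a⁻¹ * v 1]) ∨ (∀ v, f v = ![s * a⁻¹ * v 1, a * v 0]))) :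
    ∀ f, f ∈ T ↔ ∃ a s : (ZMod q)ˣ, (s = 1 ∨ s = -1) ∧ (f = diag a (s * a⁻¹) ∨ f = anti a (s * a⁻¹)) := by
  intro f
  rw [hT]
  constructor
  · rintro ⟨a, s, ha, hs, hf⟩
    have hs0 : s ≠ 0 := by rcases hs with rfl | rfl <;> simp
    refine ⟨Units.mk0 a ha, Units.mk0 s hs0, ?_, ?_⟩
    · rcases hs with h | h
      · exact Or.inl (Units.ext (by simpa using h))
      · exact Or.inr (Units.ext (by simpa using h))
    · rcases hf with h | h
      · exact Or.inl (LinearEquiv.ext fun v => by rw [h v, diag_apply, Units.val_mul, Units.val_inv_eq_inv_val, Units.val_mk0, Units.val_mk0])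
      · exact Or.inr (LinearEquiv.ext fun v => by rw [h v, anti_apply, Units.val_mul, Units.val_inv_eq_inv_val, Units.val_mk0, Units.val_mk0])
  · rintro ⟨a, s, hs, hf⟩
    refine ⟨a, s, a.ne_zero, ?_, ?_⟩
    · rcases hs with rfl | rfl <;> simp
    · rcases hf with rfl | rfl
      · exact Or.inl fun v => by rw [diag_apply, Units.val_mul, Units.val_inv_eq_inv_val]
      · exact Or.inr fun v => by rw [anti_apply, Units.val_mul, Units.val_inv_eq_inv_val]

theorem sq_sign {s : (ZMod q)ˣ} (hs : s = 1 ∨ s = -1) : s ^ 2 = 1 := by rcases hs with rfl | rfl <;> simp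

theorem pow_even_sign {s : (ZMod q)ˣ} (hs : s = 1 ∨ s = -1) {n : ℕ} (hn : Even n) : s ^ n = 1 := by
  obtain ⟨k, rfl⟩ := hn
  rw [← two_mul, pow_mul, sq_sign hs, one_pow]

theorem unit_sq_one [Fact q.Prime] {x : (ZMod q)ˣ} (hx : x ^ 2 = 1) : x = 1 ∨ x = -1 := by
  rcases sq_eq_one_iff.mp (show ((x : ZMod q)) ^ 2 = 1 by rw [← Units.val_pow_eq_pow_val, hx]; rfl) with h | h
  · exact Or.inl (Units.ext h)
  · exact Or.inr (Units.ext (by simpa using h))

end

theorem aut_pow_apply_pow {T : Type*} [Group T] (γ : MulAut T) (g : T) (k : ℕ) (h : γ g = g ^ k) (n : ℕ) :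
    (γ ^ n) g = g ^ (k ^ n) := by
  induction n with
  | zero => simp
  | succ n ih => rw [pow_succ, MulAut.mul_apply, h, map_pow, ih, ← pow_mul, pow_succ]

theorem aut_pow_apply_mul {T : Type*} [Group T] (δ : MulAut T) (w a : T) (hw : δ w = w * a) (ha : δ a = a) (n : ℕ) :
    (δ ^ n) w = w * a ^ n := by
  induction n with
  | zero => simp
  | succ n ih => rw [pow_succ', MulAut.mul_apply, ih, map_mul, map_pow, hw, ha, mul_assoc, ← pow_succ']

theorem aut_pow_fix {T : Type*} [Group T] (δ : MulAut T) (x : T) (h : δ x = x) (n : ℕ) : (δ ^ n) x = x := by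
  induction n with
  | zero => simp
  | succ n ih => rw [pow_succ, MulAut.mul_apply, h, ih]

theorem two_fix {T : Type*} (f : T → T) (hf : Function.Injective f) (x y : T) (h : ∀ z, f z = x → z = x)
    (hx : f x = x) (hall : ∀ z : T, z = x ∨ z = y) : f y = y := by
  rcases hall (f y) with h' | h'
  · have := h y h'
    rw [this, hx]
  · exact h'

/-- Let q = 2^m + 1 be a prime other than 5. Then the automorphism group of the group of linear maps of F_q² of the forms (x, y) ↦ (a x, ± a⁻¹ y) and (x, y) ↦ (± a⁻¹ y, a x) with a ≠ 0 is itself a 2-group. -/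
theorem result (q m : ℕ) [Fact q.Prime] (hq : q = 2 ^ m + 1) (hq5 : q ≠ 5)
    (T : Subgroup ((Fin 2 → ZMod q) ≃ₗ[ZMod q] (Fin 2 → ZMod q)))
    (hT : ∀ f, f ∈ T ↔ ∃ a s : ZMod q, a ≠ 0 ∧ (s = 1 ∨ s = -1) ∧
      ((∀ v, f v = ![a * v 0, s * a⁻¹ * v 1]) ∨ (∀ v, f v = ![s * a⁻¹ * v 1, a * v 0]))) :
    IsPGroup 2 (MulAut T) := by
  classical
  have hmem := mem_T T hT
  intro α
  have hqp : q.Prime := Fact.out
  have hcardU : Fintype.card (ZMod q)ˣ = 2 ^ m := by rw [ZMod.card_units, hq, Nat.add_sub_cancel]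
  have hUpow : ∀ x : (ZMod q)ˣ, x ^ (2 ^ m) = 1 := fun x => hcardU ▸ pow_card_eq_one
  obtain ⟨a0, ha0⟩ := IsCyclic.exists_generator (α := (ZMod q)ˣ)
  have ha0o : orderOf a0 = 2 ^ m := by
    rw [orderOf_eq_card_of_forall_mem_zpowers ha0, Nat.card_eq_fintype_card, hcardU]
  have hgen : ∀ x : (ZMod q)ˣ, ∃ i : ℕ, a0 ^ i = x := fun x => (mem_powers_iff_mem_zpowers).mpr (ha0 x)
  let g : T := ⟨diag a0 a0⁻¹, (hmem _).mpr ⟨a0, 1, Or.inl rfl, Or.inl (by rw [one_mul])⟩⟩
  let e : T := ⟨diag 1 (-1), (hmem _).mpr ⟨1, -1, Or.inr rfl, Or.inl (by simp)⟩⟩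
  let w : T := ⟨anti 1 1, (hmem _).mpr ⟨1, 1, Or.inl rfl, Or.inr (by simp)⟩⟩
  have hdecomp : ∀ x : T, (∃ (a s : (ZMod q)ˣ), (s = 1 ∨ s = -1) ∧ (x : (Fin 2 → ZMod q) ≃ₗ[ZMod q] (Fin 2 → ZMod q)) = diag a (s * a⁻¹)) ∨
      ∃ (a s : (ZMod q)ˣ), (s = 1 ∨ s = -1) ∧ (x : (Fin 2 → ZMod q) ≃ₗ[ZMod q] (Fin 2 → ZMod q)) = anti a (s * a⁻¹) := by
    intro x
    obtain ⟨a, s, hs, h | h⟩ := (hmem _).mp x.2
    · exact Or.inl ⟨a, s, hs, h⟩
    · exact Or.inr ⟨a, s, hs, h⟩
  have hD : ∀ (x : T) (a s : (ZMod q)ˣ), (s = 1 ∨ s = -1) → (x : (Fin 2 → ZMod q) ≃ₗ[ZMod q] (Fin 2 → ZMod q)) = diag a (s * a⁻¹) →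
      ∃ i j : ℕ, x = g ^ i * e ^ j := by
    intro x a s hs hx
    obtain ⟨i, hi⟩ := hgen a
    rcases hs with rfl | rfl
    · refine ⟨i, 0, Subtype.ext ?_⟩
      simp [g, hx, diag_pow, hi]
    · refine ⟨i, 1, Subtype.ext ?_⟩
      simp [g, e, hx, diag_pow, diag_mul_diag, hi]
  have hsigne : e ^ 2 = 1 := Subtype.ext (by simp [e, diag_pow, diag_one])
  have hdiagfix : ∀ δ : MulAut T, δ g = g → δ e = e → ∀ (x : T) (a s : (ZMod q)ˣ), (s = 1 ∨ s = -1) →
      (x : (Fin 2 → ZMod q) ≃ₗ[ZMod q] (Fin 2 → ZMod q)) = diag a (s * a⁻¹) → δ x = x := by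
    intro δ hg he x a s hs hx
    obtain ⟨i, j, rfl⟩ := hD x a s hs hx
    rw [map_mul, map_pow, map_pow, hg, he]
  have finish : ∀ δ : MulAut T, δ g = g → δ e = e → δ ^ (2 ^ (m + 1)) = 1 := by
    intro δ hg he
    have hfix := hdiagfix δ hg he
    obtain ⟨d, hd, hdw⟩ : ∃ d : T, (∃ a s : (ZMod q)ˣ, (s = 1 ∨ s = -1) ∧
        (d : (Fin 2 → ZMod q) ≃ₗ[ZMod q] (Fin 2 → ZMod q)) = diag a (s * a⁻¹)) ∧ δ w = w * d := by
      rcases hdecomp (δ w) with ⟨a, s, hs, h⟩ | ⟨a, s, hs, h⟩
      · exfalso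
        have h' := δ.injective (hfix (δ w) a s hs h)
        rw [h'] at h
        exact anti_ne_diag _ _ _ _ h
      · refine ⟨⟨diag a (s * a⁻¹), (hmem _).mpr ⟨a, s, hs, Or.inl rfl⟩⟩, ⟨a, s, hs, rfl⟩, Subtype.ext ?_⟩
        simp [w, h, anti_mul_diag]
    obtain ⟨a, s, hs, hda⟩ := hd
    have hdpow : d ^ (2 ^ (m + 1)) = 1 := by
      apply Subtype.ext
      rw [SubmonoidClass.coe_pow, hda, diag_pow, pow_succ, pow_mul, pow_mul, hUpow, hUpow, one_pow, diag_one]
      rfl
    apply MulEquiv.ext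
    intro x
    have hw' : (δ ^ (2 ^ (m + 1))) w = w := by
      rw [aut_pow_apply_mul δ w d hdw (hfix d a s hs hda), hdpow, mul_one]
    rcases hdecomp x with ⟨a, s, hs, h⟩ | ⟨a, s, hs, h⟩
    · exact aut_pow_fix δ x (hfix x a s hs h) _
    · have hx : x = w * ⟨diag a (s * a⁻¹), (hmem _).mpr ⟨a, s, hs, Or.inl rfl⟩⟩ :=
        Subtype.ext (by simp [w, h, anti_mul_diag])
      rw [hx, map_mul, hw', aut_pow_fix δ _ (hfix _ a s hs rfl) _]
      rfl
  have hneg : 1 ≤ m → (-1 : (ZMod q)ˣ) ≠ 1 := by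
    intro hm1 hh
    have h' := congrArg (fun u : (ZMod q)ˣ => (u : ZMod q)) hh
    simp only [Units.val_neg, Units.val_one] at h'
    have h0 : ((2 : ℕ) : ZMod q) = 0 := by push_cast; linear_combination -h'
    have h2q := Nat.le_of_dvd two_pos ((ZMod.natCast_eq_zero_iff _ _).mp h0)
    have : 2 ^ 1 ≤ 2 ^ m := Nat.pow_le_pow_right two_pos hm1
    omega
  have hsmall : m = 0 ∨ m = 1 ∨ 3 ≤ m := by
    rcases Nat.lt_or_ge m 3 with h | h
    · interval_cases m <;> simp_all
    · exact Or.inr (Or.inr h)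
  rcases hsmall with hm | hm | hm
  · subst hm
    refine ⟨0, ?_⟩
    have hu1 : ∀ x : (ZMod q)ˣ, x = 1 := fun x => by simpa using hUpow x
    have hall : ∀ z : T, z = 1 ∨ z = w := by
      intro z
      rcases hdecomp z with ⟨a, s, -, h⟩ | ⟨a, s, -, h⟩
      · refine Or.inl (Subtype.ext ?_)
        rw [h, hu1 a, hu1 s]
        simp [diag_one]
      · refine Or.inr (Subtype.ext ?_)
        rw [h, hu1 a, hu1 s]
        simp [w]
    rw [pow_zero, pow_one]
    apply MulEquiv.ext
    intro x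
    rcases hall x with rfl | rfl
    · simp
    · exact two_fix α α.injective 1 w (fun z hz => by simpa using hz) (map_one α) hall
  · subst hm
    refine ⟨3, ?_⟩
    have hU : ∀ x : (ZMod q)ˣ, x = 1 ∨ x = -1 := fun x => unit_sq_one (by simpa using hUpow x)
    let r : T := e * w
    have hr : (r : (Fin 2 → ZMod q) ≃ₗ[ZMod q] (Fin 2 → ZMod q)) = anti (-1) 1 := by
      simp [r, e, w, diag_mul_anti]
    have hr2 : ((r ^ 2 : T) : (Fin 2 → ZMod q) ≃ₗ[ZMod q] (Fin 2 → ZMod q)) = diag (-1) (-1) := by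
      rw [SubmonoidClass.coe_pow, hr, pow_two, anti_mul_anti]; simp
    have hr3 : ((r ^ 3 : T) : (Fin 2 → ZMod q) ≃ₗ[ZMod q] (Fin 2 → ZMod q)) = anti 1 (-1) := by
      rw [pow_succ, Subgroup.coe_mul, hr2, hr, diag_mul_anti]; simp
    have hec : ∀ k, ((e * r ^ k : T) : (Fin 2 → ZMod q) ≃ₗ[ZMod q] (Fin 2 → ZMod q)) = diag 1 (-1) * ((r ^ k : T) : (Fin 2 → ZMod q) ≃ₗ[ZMod q] (Fin 2 → ZMod q)) :=
      fun k => rfl
    have hlist : ∀ x : T, ∃ i < 4, x = r ^ i ∨ x = e * r ^ i := by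
      intro x
      rcases hdecomp x with ⟨a, s, hs, h⟩ | ⟨a, s, hs, h⟩ <;>
        rcases hU a with rfl | rfl <;> rcases hs with rfl | rfl
      · exact ⟨0, by norm_num, Or.inl (Subtype.ext (by simp [h, diag_one]))⟩
      · exact ⟨0, by norm_num, Or.inr (Subtype.ext (by simp [h, e]))⟩
      · exact ⟨2, by norm_num, Or.inl (Subtype.ext (by rw [h, hr2]; simp))⟩
      · exact ⟨2, by norm_num, Or.inr (Subtype.ext (by rw [h, hec, hr2, diag_mul_diag]; simp))⟩
      · exact ⟨1, by norm_num, Or.inr (Subtype.ext (by rw [h, hec, pow_one, hr, diag_mul_anti]; simp))⟩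
      · exact ⟨3, by norm_num, Or.inl (Subtype.ext (by rw [h, hr3]; simp))⟩
      · exact ⟨3, by norm_num, Or.inr (Subtype.ext (by rw [h, hec, hr3, diag_mul_anti]; simp))⟩
      · exact ⟨1, by norm_num, Or.inl (Subtype.ext (by rw [h, pow_one, hr]; simp))⟩
    have hneg1 : (-1 : (ZMod q)ˣ) ≠ 1 := hneg le_rfl
    have hr4 : r ^ 4 = 1 := by
      apply Subtype.ext
      rw [show (4 : ℕ) = 2 * 2 from rfl, pow_mul, SubmonoidClass.coe_pow, hr2, diag_pow]
      simp [diag_one]
    have hesq : ∀ i, (e * r ^ i) ^ 2 = 1 := by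
      have hconj : e * r * e = r⁻¹ := by
        apply eq_inv_of_mul_eq_one_left
        apply Subtype.ext
        simp only [Subgroup.coe_mul, OneMemClass.coe_one, hr]
        simp [e, diag_mul_anti, anti_mul_diag, anti_mul_anti, diag_one]
      intro i
      have he' : e⁻¹ = e := inv_eq_of_mul_eq_one_left (by rw [← pow_two, hsigne])
      have : e * r ^ i * e⁻¹ = (r ^ i)⁻¹ := by rw [← conj_pow, he', hconj, inv_pow]
      rw [pow_two, ← mul_assoc, show e * r ^ i * e = (r ^ i)⁻¹ by rw [he'] at this; exact this, inv_mul_cancel]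
    have hr1 : r ^ 2 ≠ 1 := by
      intro hh
      have h' := congrArg Subtype.val hh
      rw [hr2, OneMemClass.coe_one, ← diag_one, diag_inj] at h'
      exact hneg1 h'.1
    obtain ⟨i, hi, hαr⟩ : ∃ i, (i = 1 ∨ i = 3) ∧ α r = r ^ i := by
      obtain ⟨i, hi, h | h⟩ := hlist (α r)
      · refine ⟨i, ?_, h⟩
        by_contra hc
        apply hr1
        apply α.injective
        rw [map_one, map_pow, h, ← pow_mul]
        interval_cases i
        · rw [zero_mul, pow_zero]
        · simp at hc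
        · exact hr4
        · simp at hc
      · exfalso
        apply hr1
        apply α.injective
        rw [map_one, map_pow, h, hesq]
    have hβr : (α ^ 2) r = r := by
      rw [aut_pow_apply_pow α r i hαr 2]
      rcases hi with rfl | rfl
      · norm_num
      · rw [show (3 : ℕ) ^ 2 = 4 * 2 + 1 from rfl, pow_succ, pow_mul, hr4, one_pow, one_mul]
    obtain ⟨j, -, hβe⟩ := hlist ((α ^ 2) e)
    have hβe' : (α ^ 2) e = e * r ^ j := by
      rcases hβe with h | h
      · exfalso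
        have h' : e = r ^ j := (α ^ 2).injective (by rw [h, map_pow, hβr])
        have hc : Commute e r := h' ▸ (Commute.refl r).pow_left j
        have h'' := congrArg Subtype.val hc.eq
        simp only [Subgroup.coe_mul, hr, e, diag_mul_anti, anti_mul_diag, anti_inj] at h''
        exact hneg1 (by simpa using h''.2.symm)
      · exact h
    have hr' : ((α ^ 2) ^ 4) r = r := aut_pow_fix _ r hβr 4
    have he' : ((α ^ 2) ^ 4) e = e := by
      rw [aut_pow_apply_mul _ e _ hβe' (by rw [map_pow, hβr]), ← pow_mul, mul_comm j 4, pow_mul, hr4, one_pow, mul_one]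
    rw [show (2 : ℕ) ^ 3 = 2 * 4 from rfl, pow_mul]
    apply MulEquiv.ext
    intro x
    obtain ⟨k, -, rfl | rfl⟩ := hlist x
    · rw [map_pow, hr']; rfl
    · rw [map_mul, map_pow, hr', he']; rfl
  · -- the main case
    obtain ⟨k, rfl⟩ : ∃ k, m = k + 3 := ⟨m - 3, by omega⟩
    have hg4 : ¬ (g ^ 4 = 1) := by
      intro hh
      have h' := congrArg Subtype.val hh
      simp only [SubmonoidClass.coe_pow, g, diag_pow, OneMemClass.coe_one, ← diag_one, diag_inj] at h'
      have := Nat.le_of_dvd (by norm_num) (ha0o ▸ orderOf_dvd_of_pow_eq_one h'.1)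
      rw [pow_add] at this
      have := Nat.one_le_two_pow (n := k)
      omega
    obtain ⟨b, s, hs, hαg⟩ : ∃ (b s : (ZMod q)ˣ), (s = 1 ∨ s = -1) ∧
        ((α g : T) : (Fin 2 → ZMod q) ≃ₗ[ZMod q] (Fin 2 → ZMod q)) = diag b (s * b⁻¹) := by
      rcases hdecomp (α g) with h | ⟨a, s, hs, h⟩
      · exact h
      · exfalso
        apply hg4
        apply α.injective
        rw [map_pow, map_one]
        apply Subtype.ext
        rw [SubmonoidClass.coe_pow, h, show (4 : ℕ) = 2 * 2 from rfl, pow_mul, pow_two (anti _ _), anti_mul_anti, diag_pow,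
          mul_comm a, inv_mul_cancel_right, sq_sign hs, diag_one]
        rfl
    have hb4 : b ^ 4 ≠ 1 := by
      intro hh
      apply hg4
      apply α.injective
      rw [map_pow, map_one]
      apply Subtype.ext
      rw [SubmonoidClass.coe_pow, hαg, diag_pow, mul_pow, inv_pow, hh, pow_even_sign hs (by decide)]
      simp [diag_one]
    set h := 2 ^ (k + 2) with hh
    have hheven : Even h := by rw [hh, Nat.even_pow]; exact ⟨even_two, by omega⟩
    have h2h : h * 2 = 2 ^ (k + 3) := by rw [hh]; ring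
    have hbh : b ^ h = -1 := by
      refine (unit_sq_one (by rw [← pow_mul, h2h, hUpow])).resolve_left fun hone => ?_
      have : g ^ h = 1 := by
        apply α.injective
        rw [map_pow, map_one]
        apply Subtype.ext
        rw [SubmonoidClass.coe_pow, hαg, diag_pow, mul_pow, inv_pow, hone, pow_even_sign hs hheven]
        simp [diag_one]
      have h' := congrArg Subtype.val this
      simp only [SubmonoidClass.coe_pow, g, diag_pow, OneMemClass.coe_one, ← diag_one, diag_inj] at h'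
      have := Nat.le_of_dvd (by positivity) (ha0o ▸ orderOf_dvd_of_pow_eq_one h'.1)
      have := Nat.pos_of_ne_zero (show h ≠ 0 by positivity)
      omega
    have hαc : ((α (g ^ h) : T) : (Fin 2 → ZMod q) ≃ₗ[ZMod q] (Fin 2 → ZMod q)) = diag (-1) (-1) := by
      rw [map_pow, SubmonoidClass.coe_pow, hαg, diag_pow, mul_pow, inv_pow, hbh, pow_even_sign hs hheven, one_mul,
        inv_neg, inv_one]
    have hgh : ((g ^ h : T) : (Fin 2 → ZMod q) ≃ₗ[ZMod q] (Fin 2 → ZMod q)) = diag (-1) (-1) := by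
      have : a0 ^ h = -1 := by
        refine (unit_sq_one (by rw [← pow_mul, h2h, hUpow])).resolve_left fun hone => ?_
        have := Nat.le_of_dvd (by positivity) (ha0o ▸ orderOf_dvd_of_pow_eq_one hone)
        have := Nat.pos_of_ne_zero (show h ≠ 0 by positivity)
        omega
      simp only [SubmonoidClass.coe_pow, g, diag_pow, inv_pow, this, inv_neg, inv_one]
    obtain ⟨u, hu, hαe⟩ : ∃ u : (ZMod q)ˣ, (u = 1 ∨ u = -1) ∧
        ((α e : T) : (Fin 2 → ZMod q) ≃ₗ[ZMod q] (Fin 2 → ZMod q)) = diag u (-u) := by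
      rcases hdecomp (α e) with ⟨a, t, ht, hat⟩ | ⟨a, t, ht, hat⟩
      · have ha : a ^ 2 = 1 := by
          have h1 : (α e) ^ 2 = 1 := by rw [← map_pow, hsigne, map_one]
          have h1' := congrArg Subtype.val h1
          simp only [SubmonoidClass.coe_pow, hat, diag_pow, OneMemClass.coe_one, ← diag_one, diag_inj] at h1'
          exact h1'.1
        have hainv : a⁻¹ = a := inv_eq_of_mul_eq_one_left (by rw [← pow_two, ha])
        refine ⟨a, unit_sq_one ha, ?_⟩
        rw [hainv] at hat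
        rcases ht with rfl | rfl
        · exfalso
          rw [one_mul] at hat
          rcases unit_sq_one ha with rfl | rfl
          · have : e = 1 := α.injective (by rw [map_one]; exact Subtype.ext (by rw [hat, diag_one]; rfl))
            have h' := congrArg Subtype.val this
            simp only [e, OneMemClass.coe_one, ← diag_one, diag_inj] at h'
            exact hneg (by omega) h'.2
          · have : e = g ^ h := α.injective (Subtype.ext (by rw [hat, hαc]))
            have h' := congrArg Subtype.val this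
            rw [hgh] at h'
            simp only [e, diag_inj] at h'
            exact hneg (by omega) h'.1.symm
        · rw [hat, neg_one_mul]
      · exfalso
        have hcomm : g * e = e * g := Subtype.ext (by simp [g, e, diag_mul_diag, mul_comm])
        have h1 := congrArg (fun x : T => (x : (Fin 2 → ZMod q) ≃ₗ[ZMod q] (Fin 2 → ZMod q))) (congrArg α hcomm)
        simp only [map_mul, Subgroup.coe_mul, hαg, hat, diag_mul_anti, anti_mul_diag, anti_inj] at h1
        have hbb : s * b⁻¹ = b := mul_right_cancel (h1.1.trans (mul_comm a b))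
        apply hb4
        calc b ^ 4 = (b * b) ^ 2 := by rw [← pow_two, ← pow_mul]
          _ = (s * b⁻¹ * b) ^ 2 := by rw [hbb]
          _ = 1 := by rw [inv_mul_cancel_right, sq_sign hs]
    have hα2e : (α ^ 2) e = e := by
      rw [pow_two, MulAut.mul_apply]
      rcases hu with rfl | rfl
      · have : α e = e := Subtype.ext (by rw [hαe])
        rw [this, this]
      · have h1 : α e = g ^ h * e := Subtype.ext (by rw [hαe, Subgroup.coe_mul, hgh]; simp [e, diag_mul_diag])
        rw [h1, map_mul, h1, ← mul_assoc]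
        have h2 : α (g ^ h) * g ^ h = 1 := Subtype.ext (by
          rw [Subgroup.coe_mul, hαc, hgh, diag_mul_diag]; simp [diag_one])
        rw [h2, one_mul]
    obtain ⟨i, j, hij⟩ : ∃ i j : ℕ, (α ^ 2) g = g ^ i * e ^ j := by
      obtain ⟨i₁, j₁, h1⟩ := hD (α g) b s hs hαg
      rcases hu with rfl | rfl
      · obtain ⟨i₂, j₂, h2⟩ := hD (α e) 1 (-1) (Or.inr rfl) (by rw [hαe]; simp)
        refine ⟨i₁ * i₁ + i₂ * j₁, j₁ * i₁ + j₂ * j₁, ?_⟩
        rw [pow_two α, MulAut.mul_apply, h1, map_mul, map_pow, map_pow, h1, h2]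
        have hcomm : Commute g e := Subtype.ext (by simp [g, e, diag_mul_diag, mul_comm])
        rw [(hcomm.pow_pow i₁ j₁).mul_pow, (hcomm.pow_pow i₂ j₂).mul_pow, ← pow_mul, ← pow_mul, ← pow_mul, ← pow_mul,
          mul_assoc, ← mul_assoc (e ^ _), (hcomm.pow_pow (i₂ * j₁) (j₁ * i₁)).symm.eq, mul_assoc, ← pow_add, ← mul_assoc, ← pow_add]
      · obtain ⟨i₂, j₂, h2⟩ := hD (α e) (-1) (-1) (Or.inr rfl) (by rw [hαe]; simp)
        refine ⟨i₁ * i₁ + i₂ * j₁, j₁ * i₁ + j₂ * j₁, ?_⟩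
        rw [pow_two α, MulAut.mul_apply, h1, map_mul, map_pow, map_pow, h1, h2]
        have hcomm : Commute g e := Subtype.ext (by simp [g, e, diag_mul_diag, mul_comm])
        rw [(hcomm.pow_pow i₁ j₁).mul_pow, (hcomm.pow_pow i₂ j₂).mul_pow, ← pow_mul, ← pow_mul, ← pow_mul, ← pow_mul,
          mul_assoc, ← mul_assoc (e ^ _), (hcomm.pow_pow (i₂ * j₁) (j₁ * i₁)).symm.eq, mul_assoc, ← pow_add, ← mul_assoc, ← pow_add]
    have hcomm : Commute g e := Subtype.ext (by simp [g, e, diag_mul_diag, mul_comm])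
    have hepow : ∀ n, Even n → e ^ n = 1 := by
      rintro n ⟨n, rfl⟩
      rw [← two_mul, pow_mul, hsigne, one_pow]
    have hiodd : Odd i := by
      by_contra hev
      rw [Nat.not_odd_iff_even] at hev
      obtain ⟨i, rfl⟩ := hev
      have h0 : ((α ^ 2) g) ^ h = 1 := by
        rw [hij, (hcomm.pow_pow _ _).mul_pow, ← pow_mul, ← pow_mul, hepow _ (hheven.mul_left j), mul_one,
          show (i + i) * h = 2 ^ (k + 3) * i by rw [← h2h]; ring, pow_mul]
        have : g ^ 2 ^ (k + 3) = 1 := Subtype.ext (by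
          simp [g, diag_pow, hUpow, diag_one])
        rw [this, one_pow]
      rw [← map_pow, map_eq_one_iff _ (α ^ 2).injective] at h0
      rw [h0, map_one, OneMemClass.coe_one, ← diag_one, diag_inj] at hαc
      have h1 := hαc.1
      exact hneg (by omega) h1.symm
    have hγ : ((α ^ 2) ^ 2) g = g ^ (i * i) := by
      rw [pow_two (α ^ 2), MulAut.mul_apply, hij, map_mul, map_pow, map_pow, hα2e, hij, (hcomm.pow_pow _ _).mul_pow,
        ← pow_mul, ← pow_mul, mul_assoc, ← pow_add, hepow, mul_one]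
      rw [← mul_add_one]
      exact (hiodd.add_odd odd_one).mul_left j
    set n := 2 ^ (k + 2) with hn
    have hmod : (i * i) ^ n ≡ 1 [MOD 2 ^ (k + 3)] := by
      have h1 := Nat.ModEq.pow_totient (x := i * i) (n := 2 ^ (k + 3))
        ((Nat.coprime_two_right.mpr (hiodd.mul hiodd)).pow_right _)
      rw [Nat.totient_prime_pow Nat.prime_two (by omega)] at h1
      simpa [hn] using h1
    have hgfix : (((α ^ 2) ^ 2) ^ n) g = g := by
      rw [aut_pow_apply_pow _ g _ hγ n]
      conv_rhs => rw [← pow_one g]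
      apply pow_eq_pow_iff_modEq.mpr
      refine Nat.ModEq.of_dvd ?_ hmod
      apply orderOf_dvd_of_pow_eq_one
      exact Subtype.ext (by simp [g, diag_pow, hUpow, diag_one])
    have hefix : (((α ^ 2) ^ 2) ^ n) e = e := aut_pow_fix _ e (aut_pow_fix _ e hα2e 2) n
    refine ⟨1 + 1 + (k + 2) + (k + 3 + 1), ?_⟩
    rw [pow_add, pow_add, pow_add, pow_mul, pow_mul, pow_mul, pow_one]
    exact finish _ hgfix hefix

end Cfsg.Agent.S3382
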