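import Cfsg.Statements.S3383
import Cfsg.Agent.EqLemmas

set_option autoImplicit false
open Cfsg

namespace Cfsg.Agent.S3383

open scoped Pointwise

theorem mem_conj_smul {L : Type*} [Group L] (g x : L) (H : Subgroup L) :
    x ∈ MulAut.conj g • H ↔ g⁻¹ * x * g ∈ H := by
  rw [Subgroup.mem_pointwise_smul_iff_inv_smul_mem, MulAut.smul_def, MulAut.conj_inv_apply]

/-- Let H be a Frobenius complement in a finite group L and K the Frobenius kernel (as a subgroup). Then K is characteristic in L, and every normal subgroup of L either contains K or is contained in K. -/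
theorem result {L : Type*} [Group L] [Finite L]
    (H : Subgroup L) (hH : Cfsg.IsFrobeniusComplement H)
    (K : Subgroup L) (hK : (K : Set L) = Cfsg.frobeniusKernel H) :
    K.Characteristic ∧ ∀ N : Subgroup L, N.Normal → K ≤ N ∨ N ≤ K := by
  obtain ⟨hbot, htop, hTI⟩ := hH
  have memK : ∀ x : L, x ∈ K ↔ (x = 1 ∨ ∀ g : L, g⁻¹ * x * g ∉ H) := by
    intro x
    rw [← SetLike.mem_coe, hK]
    simp only [Cfsg.frobeniusKernel, Set.mem_setOf_eq, mem_conj_smul]
  have hKn : K.Normal := by
    refine ⟨fun x hx g => ?_⟩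
    rcases (memK x).mp hx with rfl | hx
    · simp
    · refine (memK _).mpr (Or.inr fun a ha => hx (g⁻¹ * a) ?_)
      convert ha using 1; group
  have cmp : ∀ N : Subgroup L, N.Normal → K ≤ N ∨ N ≤ K := by
    intro N hN
    by_cases hint : ∀ h ∈ N, h ∈ H → h = 1
    · right
      intro x hx
      rw [memK]
      by_cases hx1 : x = 1
      · exact Or.inl hx1
      refine Or.inr fun g hg => hx1 ?_
      have h1 := hint _ (by simpa using hN.conj_mem x hx g⁻¹) hg
      calc x = g * (g⁻¹ * x * g) * g⁻¹ := by group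
        _ = 1 := by rw [h1]; group
    · left
      push Not at hint
      obtain ⟨h, hhN, hhH, hh1⟩ := hint
      have hcomm : ∀ x : K, (x : L) * h * (x : L)⁻¹ * h⁻¹ ∈ K ⊓ N := by
        intro x
        refine ⟨?_, N.mul_mem (hN.conj_mem h hhN x) (N.inv_mem hhN)⟩
        have : (x : L) * h * (x : L)⁻¹ * h⁻¹ = (x : L) * (h * (x : L)⁻¹ * h⁻¹) := by group
        rw [this]
        exact K.mul_mem x.2 (hKn.conj_mem _ (K.inv_mem x.2) h)
      let f : K → ↥(K ⊓ N) := fun x => ⟨_, hcomm x⟩
      have hf : Function.Injective f := by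
        intro x y hxy
        have e : (x : L) * h * (x : L)⁻¹ * h⁻¹ = (y : L) * h * (y : L)⁻¹ * h⁻¹ :=
          congrArg Subtype.val hxy
        have e' := mul_right_cancel e
        have hz : ((y : L)⁻¹ * x)⁻¹ * h * ((y : L)⁻¹ * x) = h := by
          calc ((y : L)⁻¹ * x)⁻¹ * h * ((y : L)⁻¹ * x)
              = (x : L)⁻¹ * ((y : L) * h * (y : L)⁻¹) * x := by group
            _ = (x : L)⁻¹ * ((x : L) * h * (x : L)⁻¹) * x := by rw [e']
            _ = h := by group
        have hzK : (y : L)⁻¹ * x ∈ K := K.mul_mem (K.inv_mem y.2) x.2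
        have hzH : (y : L)⁻¹ * x ∈ H := by
          by_contra hnot
          have hmem : h ∈ H ⊓ (MulAut.conj ((y : L)⁻¹ * x) • H) :=
            ⟨hhH, (mem_conj_smul _ _ _).mpr (by rw [hz]; exact hhH)⟩
          rw [hTI _ hnot] at hmem
          exact hh1 hmem
        rcases (memK _).mp hzK with h1 | h1
        · exact Subtype.ext (inv_mul_eq_one.mp h1).symm
        · exact absurd (by simpa using hzH) (h1 1)
      have hle : Nat.card K ≤ Nat.card ↥(K ⊓ N) := Nat.card_le_card_of_injective f hf
      have := Subgroup.eq_of_le_of_card_ge (inf_le_left : K ⊓ N ≤ K) hle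
      exact inf_eq_left.mp this
  refine ⟨Subgroup.characteristic_iff_map_eq.mpr fun φ => ?_, cmp⟩
  have hcard : Nat.card ↥(K.map φ.toMonoidHom) = Nat.card K :=
    Subgroup.card_map_of_injective φ.injective
  have hnm : (K.map φ.toMonoidHom).Normal := hKn.map _ φ.surjective
  rcases cmp _ hnm with h | h
  · exact (Subgroup.eq_of_le_of_card_ge h hcard.le).symm
  · exact Subgroup.eq_of_le_of_card_ge h hcard.ge

end Cfsg.Agent.S3383
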