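import Cfsg.Statements.S3389
import Cfsg.Agent.EqLemmas

set_option autoImplicit false
open Cfsg

namespace Cfsg.Agent.S3389

open scoped Pointwise

theorem stab_le_normalizer_fix {G Ω : Type*} [Group G] [MulAction G Ω] (P : Subgroup G) (α : Ω)
    (hα : ∀ p ∈ P, p • α = α) (n : G) (hn : n ∈ Subgroup.normalizer (P : Set G)) :
    ∀ p ∈ P, p • (n • α) = n • α := by
  intro p hp
  have : n⁻¹ * p * n ∈ P := by
    have := (Subgroup.mem_normalizer_iff.mp ((Subgroup.normalizer (P : Set G)).inv_mem hn) p).mp hp
    simpa using this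
  calc p • (n • α) = n • ((n⁻¹ * p * n) • α) := by rw [smul_smul, smul_smul]; congr 1; group
    _ = n • α := by rw [hα _ this]

theorem exists_sylow_of_normalizer {G : Type*} [Group G] [Finite G] (p : ℕ) [Fact p.Prime]
    (S : Subgroup G) (P : Subgroup G) (n : ℕ) (hP : Nat.card P = p ^ n) (hPS : P ≤ S)
    (hn : (Nat.card S).factorization p = n) (hidx : p ∣ S.index) :
    ∃ K : Subgroup G, IsPGroup p K ∧ K ≤ Subgroup.normalizer (P : Set G) ∧ ¬ K ≤ S := by
  have hdvd : p ^ (n + 1) ∣ Nat.card G := by
    rw [← S.card_mul_index, pow_succ]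
    exact mul_dvd_mul (hn ▸ Nat.ordProj_dvd _ _) hidx
  have h := Sylow.prime_pow_dvd_card_normalizer hdvd hP
  obtain ⟨K, hK⟩ := Sylow.exists_subgroup_card_pow_prime p h
  refine ⟨K.map (Subgroup.normalizer (P : Set G)).subtype, ?_, Subgroup.map_subtype_le K, ?_⟩
  · exact (IsPGroup.of_card hK).map _
  · intro hle
    have := Subgroup.card_dvd_of_le hle
    rw [Subgroup.card_map_of_injective (Subgroup.subtype_injective _), hK] at this
    have := (Nat.Prime.pow_dvd_iff_le_factorization Fact.out Nat.card_pos.ne').mp this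
    omega

/-- Let G be a finite group acting faithfully and transitively on a finite set Ω with fixity k ≥ 1: every non-identity element fixes at most k points and some non-identity element fixes exactly k points. Then |Z(G)| divides k; if k = 2 then |G| is even; and for every prime p > k dividing |G| and every point α, either p does not divide |G_α| or G_α contains a Sylow p-subgroup of G. -/
theorem result {G : Type*} [Group G] [Finite G] {Ω : Type*} [Fintype Ω] [MulAction G Ω] [FaithfulSMul G Ω]
    (htr : MulAction.IsPretransitive G Ω) (k : ℕ) (hk : 1 ≤ k)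
    (hfix : ∀ g : G, g ≠ 1 → Nat.card (MulAction.fixedBy Ω g) ≤ k) (hex : ∃ g : G, g ≠ 1 ∧ Nat.card (MulAction.fixedBy Ω g) = k) :
    Nat.card (Subgroup.center G) ∣ k ∧ (k = 2 → 2 ∣ Nat.card G) ∧
      ∀ (p : ℕ), p.Prime → k < p → p ∣ Nat.card G → ∀ α : Ω,
        ¬ p ∣ Nat.card (MulAction.stabilizer G α) ∨ ¬ p ∣ (MulAction.stabilizer G α).index := by
  classical
  have hfin : ∀ g : G, g ≠ 1 → ∀ s : Finset Ω, (∀ ω ∈ s, g • ω = ω) → s.card ≤ k := by
    intro g hg s hs
    refine le_trans ?_ (hfix g hg)
    rw [← Nat.card_eq_finsetCard s]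
    exact Nat.card_le_card_of_injective (fun ω => (⟨ω.1, hs ω.1 ω.2⟩ : MulAction.fixedBy Ω g))
      (fun a b e => Subtype.ext (congrArg (fun z : MulAction.fixedBy Ω g => (z : Ω)) e))
  refine ⟨?_, ?_, ?_⟩
  · obtain ⟨g, -, hg⟩ := hex
    let X := MulAction.fixedBy Ω g
    let act : MulAction (Subgroup.center G) X :=
      { smul := fun z ω => ⟨(z : G) • (ω : Ω), by
          show g • ((z : G) • (ω : Ω)) = (z : G) • (ω : Ω)
          rw [smul_smul, (Subgroup.mem_center_iff.mp z.2 g), ← smul_smul, ω.2]⟩
        one_smul := fun ω => Subtype.ext (one_smul G (ω : Ω))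
        mul_smul := fun a b ω => Subtype.ext (mul_smul (a : G) (b : G) (ω : Ω)) }
    have := Fintype.ofFinite (Subgroup.center G)
    have := Fintype.ofFinite X
    have := Fintype.ofFinite (MulAction.orbitRel.Quotient (Subgroup.center G) X)
    have := MulAction.sum_card_fixedBy_eq_card_orbits_mul_card_group (Subgroup.center G) X
    rw [Finset.sum_eq_single 1, ← Nat.card_eq_fintype_card, ← Nat.card_eq_fintype_card,
      ← Nat.card_eq_fintype_card, MulAction.fixedBy_one_eq_univ, Nat.card_univ, hg] at this
    · exact this ▸ Dvd.intro_left _ rfl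
    · intro z _ hz
      rw [Fintype.card_eq_zero_iff]
      refine ⟨fun ω => hz ?_⟩
      have hω : (z : G) • ((ω : X) : Ω) = ((ω : X) : Ω) := congrArg Subtype.val ω.2
      apply Subtype.ext
      refine FaithfulSMul.eq_of_smul_eq_smul (α := Ω) fun v => ?_
      obtain ⟨a, rfl⟩ := htr.exists_smul_eq ((ω : X) : Ω) v
      rw [OneMemClass.coe_one, one_smul, smul_smul, ← Subgroup.mem_center_iff.mp z.2 a, ← smul_smul, hω]
    · simp
  · intro hk2
    by_contra hodd
    obtain ⟨g, hg1, hg⟩ := hex
    rw [hk2] at hg
    obtain ⟨⟨α, hα⟩, ⟨β, hβ⟩, hne, -⟩ := Nat.card_eq_two_iff.mp hg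
    have hab : α ≠ β := fun e => hne (Subtype.ext e)
    set H := MulAction.stabilizer G α ⊓ MulAction.stabilizer G β with hHdef
    have hgH : g ∈ H := ⟨hα, hβ⟩
    obtain ⟨p, hp, hpd⟩ : ∃ p, p.Prime ∧ p ∣ Nat.card H := Nat.exists_prime_and_dvd (fun h => hg1 (by
      have := Subgroup.eq_bot_of_card_eq H h
      simpa [this] using hgH))
    have := Fact.mk hp
    obtain ⟨P₀⟩ : Nonempty (Sylow p H) := inferInstance
    set P := (P₀ : Subgroup H).map H.subtype with hPdef
    have hPH : P ≤ H := Subgroup.map_subtype_le _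
    have hPcard : Nat.card P = p ^ (Nat.card H).factorization p := by
      rw [hPdef, Subgroup.card_map_of_injective (Subgroup.subtype_injective _), P₀.card_eq_multiplicity]
    obtain ⟨u, huP, hu⟩ : ∃ u ∈ P, u ≠ 1 := by
      by_contra hc
      push Not at hc
      have : P = ⊥ := (Subgroup.eq_bot_iff_forall _).mpr hc
      rw [this, Subgroup.card_bot] at hPcard
      exact absurd hPcard.symm (Nat.one_lt_pow (hp.factorization_pos_of_dvd Nat.card_pos.ne' hpd).ne' hp.one_lt).ne'
    have hN : ∀ n ∈ Subgroup.normalizer (P : Set G), n ∈ H := by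
      intro n hn
      have himg : ∀ ω : Ω, (∀ q ∈ P, q • ω = ω) → n • ω = α ∨ n • ω = β := by
        intro ω hω
        by_contra hc
        push Not at hc
        have := hfin u hu {α, β, n • ω} (by
          simp only [Finset.mem_insert, Finset.mem_singleton]
          rintro _ (rfl | rfl | rfl)
          · exact (hPH huP).1
          · exact (hPH huP).2
          · exact stab_le_normalizer_fix P ω hω n hn u huP)
        rw [Finset.card_insert_of_notMem (by simp [hab, hc.1.symm]), Finset.card_insert_of_notMem (by simp [hc.2.symm]),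
          Finset.card_singleton] at this
        omega
      have h1 : n • α = α := by
        rcases himg α (fun q hq => (hPH hq).1) with h | h
        · exact h
        exfalso
        have h' : n • β = α := by
          rcases himg β (fun q hq => (hPH hq).2) with h' | h'
          · exact h'
          · exact absurd (smul_left_cancel n (h.trans h'.symm)) hab
        have hsq : n ^ 2 ∈ MulAction.stabilizer G α := by
          rw [MulAction.mem_stabilizer_iff, sq, mul_smul, h, h']
        have hodd' : (orderOf n).Coprime 2 := (Nat.prime_two.coprime_iff_not_dvd.mpr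
          (fun hh => hodd (hh.trans (orderOf_dvd_natCard n)))).symm
        obtain ⟨j, hj⟩ := exists_pow_eq_self_of_coprime hodd'.symm
        have hnα := (MulAction.stabilizer G α).pow_mem hsq j
        rw [hj] at hnα
        exact hab (hnα.symm.trans h)
      refine ⟨h1, ?_⟩
      rcases himg β (fun q hq => (hPH hq).2) with h' | h'
      · exact absurd (smul_left_cancel n (h'.trans h1.symm)).symm hab
      · exact h'
    have hidx : ¬ p ∣ H.index := by
      intro hd
      obtain ⟨K, -, hKN, hKS⟩ := exists_sylow_of_normalizer p H P _ hPcard hPH rfl hd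
      exact hKS fun a ha => hN a (hKN ha)
    have hPG : Nat.card P = p ^ (Nat.card G).factorization p := by
      rw [hPcard, ← H.card_mul_index, Nat.factorization_mul Nat.card_pos.ne' Subgroup.index_ne_zero_of_finite,
        Finsupp.add_apply, Nat.factorization_eq_zero_of_not_dvd hidx, add_zero]
    obtain ⟨x, hx⟩ := htr.exists_smul_eq α β
    let PS : Sylow p G := Sylow.ofCard P hPG
    have hP' : ((MulAut.conj x⁻¹ • PS : Sylow p G) : Subgroup G) ≤ MulAction.stabilizer G α := by
      intro a ha
      rw [show ((MulAut.conj x⁻¹ • PS : Sylow p G) : Subgroup G) = MulAut.conj x⁻¹ • (PS : Subgroup G) from rfl,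
        Subgroup.mem_pointwise_smul_iff_inv_smul_mem, MulAut.smul_def] at ha
      simp only [MulAut.conj_inv_apply, inv_inv] at ha
      have : (x * a * x⁻¹) • β = β := (hPH (by simpa [PS] using ha)).2
      rw [MulAction.mem_stabilizer_iff]
      rw [← hx, smul_smul, inv_mul_cancel_right, mul_smul] at this
      exact smul_left_cancel x this
    have hPα : (PS : Subgroup G) ≤ MulAction.stabilizer G α := by
      simpa [PS] using hPH.trans inf_le_left
    obtain ⟨y, hy⟩ := MulAction.exists_smul_eq (MulAction.stabilizer G α) (PS.subtype hPα)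
      ((MulAut.conj x⁻¹ • PS : Sylow p G).subtype hP')
    rw [Sylow.smul_subtype] at hy
    have hy' := Sylow.subtype_injective hy
    have hn : x * (y : G) ∈ Subgroup.normalizer (P : Set G) := by
      have e : (x * (y : G)) • PS = PS := by
        have hy'' : (y : G) • PS = MulAut.conj x⁻¹ • PS := hy'
        rw [mul_smul, hy'', Sylow.smul_def, map_inv, smul_inv_smul]
      have h' := Sylow.smul_eq_iff_mem_normalizer.mp e
      exact h'
    have h3 : (x * (y : G)) • α = α := (hN _ hn).1
    have hfix : (y : G) • α = α := y.2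
    rw [mul_smul, hfix, hx] at h3
    exact hab h3.symm
  · intro p hp hkp _ α
    have := Fact.mk hp
    by_contra hc
    push Not at hc
    obtain ⟨h1, h2⟩ := hc
    set S := MulAction.stabilizer G α with hS
    obtain ⟨P₀⟩ : Nonempty (Sylow p S) := inferInstance
    set P := (P₀ : Subgroup S).map S.subtype with hPdef
    have hPS : P ≤ S := Subgroup.map_subtype_le _
    have hPcard : Nat.card P = p ^ (Nat.card S).factorization p := by
      rw [hPdef, Subgroup.card_map_of_injective (Subgroup.subtype_injective _), P₀.card_eq_multiplicity]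
    obtain ⟨K, hK, hKN, hKS⟩ := exists_sylow_of_normalizer p S P _ hPcard hPS rfl h2
    obtain ⟨u, huP, hu⟩ : ∃ u ∈ P, u ≠ 1 := by
      by_contra hc
      push Not at hc
      have : P = ⊥ := (Subgroup.eq_bot_iff_forall _).mpr hc
      rw [this, Subgroup.card_bot] at hPcard
      exact absurd hPcard.symm (Nat.one_lt_pow (hp.factorization_pos_of_dvd Nat.card_pos.ne' h1).ne' hp.one_lt).ne'
    obtain ⟨m, hm⟩ := hK.card_orbit α
    have hle : Nat.card (MulAction.orbit K α) ≤ k := by
      rw [Nat.card_eq_fintype_card, ← Set.toFinset_card]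
      refine hfin u hu _ ?_
      intro ω hω
      obtain ⟨a, rfl⟩ := Set.mem_toFinset.mp hω
      exact stab_le_normalizer_fix P α (fun q hq => hPS hq) _ (hKN a.2) u huP
    rw [hm] at hle
    rcases m with _ | m
    · apply hKS
      intro a ha
      have : Subsingleton (MulAction.orbit K α) := (Nat.card_eq_one_iff_unique.mp (by simpa using hm)).1
      exact congrArg Subtype.val (Subsingleton.elim (⟨a • α, ⟨⟨a, ha⟩, rfl⟩⟩ : MulAction.orbit K α) ⟨α, MulAction.mem_orbit_self α⟩)
    · have : p ≤ p ^ (m + 1) := Nat.le_self_pow (by omega) p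
      omega

end Cfsg.Agent.S3389
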