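import Cfsg.Statements.S3390
import Cfsg.Agent.Lib.Fixity.SylowTwo
import Mathlib.GroupTheory.Transfer
-- import your own Cfsg.Agent.* helpers here

set_option autoImplicit false
open Cfsg

namespace Cfsg.Agent.S3390

open Subgroup MulAction

variable {G : Type*} [Group G] [Finite G] {Ω : Type*} [Fintype Ω] [MulAction G Ω] [FaithfulSMul G Ω]

omit [Finite G] in
theorem noThree (hfix : ∀ g : G, g ≠ 1 → Nat.card (MulAction.fixedBy Ω g) ≤ 2) :
    Fixity.NoThree G Ω := by
  intro g hg a b c ha hb hc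
  by_contra h
  push Not at h
  have h2 := hfix g hg
  rw [Nat.card_coe_set_eq] at h2
  have h3 := (Set.two_lt_ncard_iff (Set.toFinite (MulAction.fixedBy Ω g))).2
    ⟨a, b, c, ha, hb, hc, h.1, h.2.1, h.2.2⟩
  omega

omit [FaithfulSMul G Ω] in
theorem orbit_split (S : Sylow 2 G) (α : Ω)
    (hreg : ∀ γ : Ω, γ ∉ orbit ↥(S : Subgroup G) α → stabilizer ↥(S : Subgroup G) γ = ⊥)
    (hidx : (stabilizer ↥(S : Subgroup G) α).index = 2) :
    Nat.card ↥(S : Subgroup G) ∣ Nat.card Ω - 2 ∧ 2 ≤ Nat.card Ω := by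
  classical
  set P := ↥(S : Subgroup G)
  haveI : Fintype (Quotient (orbitRel P Ω)) := Fintype.ofFinite _
  have hsum : Nat.card Ω = ∑ q : Quotient (orbitRel P Ω), Nat.card (orbit P q.out) := by
    rw [Nat.card_congr (MulAction.selfEquivSigmaOrbits P Ω), Nat.card_sigma]
  set q0 : Quotient (orbitRel P Ω) := Quotient.mk _ α
  have hout : q0.out ∈ orbit P α := Quotient.mk_out (s := orbitRel P Ω) α
  have h0 : Nat.card (orbit P q0.out) = 2 := by
    rw [orbit_eq_iff.2 hout, Nat.card_coe_set_eq, ← index_stabilizer, hidx]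
  rw [← Finset.add_sum_erase _ _ (Finset.mem_univ q0), h0] at hsum
  refine ⟨?_, by omega⟩
  rw [hsum, Nat.add_sub_cancel_left]
  refine Finset.dvd_sum fun q hq => ?_
  have hq' : q.out ∉ orbit P α := fun h => Finset.ne_of_mem_erase hq (by
    rw [← Quotient.out_eq q]
    exact Quotient.sound h)
  rw [Nat.card_coe_set_eq, ← index_stabilizer, hreg _ hq', index_bot]

theorem exists_index_two (S : Sylow 2 G) (α : Ω) (hidx : (stabilizer ↥(S : Subgroup G) α).index = 2)
    (hne : stabilizer ↥(S : Subgroup G) α ≠ ⊥)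
    (hreg : ∀ γ : Ω, γ ∉ orbit ↥(S : Subgroup G) α → stabilizer ↥(S : Subgroup G) γ = ⊥) :
    ∃ M : Subgroup G, M.Normal ∧ M.index = 2 ∧ (∀ x ∈ (S : Subgroup G), x • α = α → x ∈ M) ∧
      ∃ s ∈ (S : Subgroup G), s ∉ M ∧ s • α ≠ α := by
  classical
  haveI : Fact (Nat.Prime 2) := ⟨Nat.prime_two⟩
  set P := ↥(S : Subgroup G)
  set T := stabilizer P α
  obtain ⟨hdvd, hn2⟩ := orbit_split S α hreg hidx
  obtain ⟨s0, hs0⟩ : ∃ s : P, s ∉ T := by
    by_contra h
    push Not at h
    rw [(eq_top_iff' T).2 h, index_top] at hidx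
    omega
  have hs0α : s0 • α ≠ α := hs0
  set β := s0 • α with hβ
  have horb : ∀ g : P, g • α = α ∨ g • α = β := fun g => by
    by_cases hg : g ∈ T
    · exact Or.inl hg
    · refine Or.inr ?_
      have h : s0⁻¹ * g ∈ T := (mul_mem_iff_of_index_two hidx).2 (iff_of_false (fun h => hs0 (inv_mem_iff.1 h)) hg)
      have h' : (s0⁻¹ * g) • α = α := h
      rw [mul_smul, inv_smul_eq_iff] at h'
      exact h'
  have hnotmem : ∀ x : Ω, x ≠ α → x ≠ β → x ∉ orbit P α := by
    rintro x hxα hxβ ⟨g, rfl⟩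
    rcases horb g with h | h
    · exact hxα h
    · exact hxβ h
  have hfree : ∀ (g : P) (x : Ω), x ≠ α → x ≠ β → g • x = x → g = 1 := fun g x hxα hxβ hg =>
    (Subgroup.eq_bot_iff_forall _).1 (hreg x (hnotmem x hxα hxβ)) g hg
  let φ : G →* ℤˣ := Equiv.Perm.sign.comp (MulAction.toPermHom G Ω)
  have hsupp : ∀ σ : Equiv.Perm Ω, σ α = α → σ β = β → (∀ x, x ≠ α → x ≠ β → σ x ≠ x) →
      Nat.card P ∣ σ.support.card := by
    intro σ ha hb hrest
    have hS : σ.support = (Finset.univ.erase α).erase β := by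
      ext x
      simp only [Equiv.Perm.mem_support, Finset.mem_erase, Finset.mem_univ, and_true]
      exact ⟨fun h => ⟨fun e => h (by rw [e, hb]), fun e => h (by rw [e, ha])⟩, fun h => hrest x h.2 h.1⟩
    rw [hS, Finset.card_erase_of_mem (Finset.mem_erase.2 ⟨hs0α, Finset.mem_univ _⟩),
      Finset.card_erase_of_mem (Finset.mem_univ _), Finset.card_univ, ← Nat.card_eq_fintype_card]
    rw [show Nat.card Ω - 1 - 1 = Nat.card Ω - 2 by omega]
    exact hdvd
  have hPT : Nat.card P = Nat.card T * 2 := by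
    have h := T.card_mul_index
    rw [hidx] at h
    exact h.symm
  have hTφ : ∀ g : P, g ∈ T → φ g = 1 := by
    intro g hg
    rcases eq_or_ne g 1 with rfl | hg1
    · exact map_one φ
    have hgβ : g • β = β := by
      rcases horb (g * s0) with h | h
      · rw [mul_smul, ← hβ] at h
        have hga : g⁻¹ • α = α := by rw [inv_smul_eq_iff]; exact hg.symm
        exact absurd (by rw [← hga, ← h, inv_smul_smul]) hs0α
      · rwa [mul_smul, ← hβ] at h
    refine Fixity.sign_of_semiregular (MulAction.toPerm (g : G)) (o := orderOf g) ?_ ?_ ?_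
    · have h := map_pow (MulAction.toPermHom G Ω) (g : G) (orderOf g)
      rw [← SubmonoidClass.coe_pow, pow_orderOf_eq_one, Subgroup.coe_one, map_one] at h
      exact h.symm
    · intro x hx i hi hi0 hfx
      have hxα : x ≠ α := fun e => hx (by subst e; exact hg)
      have hxβ : x ≠ β := fun e => hx (by subst e; exact hgβ)
      have hp : (g ^ i) • x = x := by
        rw [show MulAction.toPerm (g : G) = MulAction.toPermHom G Ω (g : G) from rfl, ← map_pow] at hfx
        exact hfx
      have := Nat.le_of_dvd hi0 (orderOf_dvd_of_pow_eq_one (hfree _ x hxα hxβ hp))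
      omega
    · refine dvd_trans ?_ (hsupp _ hg hgβ fun x hxα hxβ hfx => hg1 (hfree g x hxα hxβ hfx))
      rw [hPT, mul_comm (Nat.card T)]
      refine Nat.mul_dvd_mul_left 2 ?_
      have := orderOf_dvd_natCard (⟨g, hg⟩ : T)
      rwa [Subgroup.orderOf_mk] at this
  by_cases hc : IsCyclic P
  · -- Burnside transfer
    have hev : 2 ∣ Nat.card G := by
      refine dvd_trans ?_ (Subgroup.card_subgroup_dvd_card (S : Subgroup G))
      rw [hPT]; exact dvd_mul_left _ _
    have hmf : (Nat.card G).minFac = 2 := (Nat.minFac_eq_two_iff _).2 hev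
    set f := MonoidHom.transferSylow S (IsCyclic.normalizer_le_centralizer hmf hc) with hf
    have hfS : ∀ g : P, f g = g ^ (S : Subgroup G).index := fun g => by
      rw [hf, MonoidHom.transferSylow_eq_pow _ _ _ g.2]
      exact Subtype.ext (SubmonoidClass.coe_pow g _).symm
    have hco : (Nat.card P).Coprime (S : Subgroup G).index := S.card_coprime_index
    have hfs : Function.Surjective f := fun y => by
      obtain ⟨x, hx⟩ := (powCoprime hco).surjective y
      exact ⟨(x : G), (hfS x).trans hx⟩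
    refine ⟨T.comap f, ?_, (index_comap_of_surjective T hfs).trans hidx, fun x hx hxα => ?_, (s0 : G), s0.2, ?_, hs0α⟩
    · haveI : T.Normal := normal_of_index_eq_two hidx
      exact Subgroup.Normal.comap ‹_› f
    · rw [Subgroup.mem_comap, hfS ⟨x, hx⟩]
      exact T.pow_mem (show (⟨x, hx⟩ : P) ∈ T from hxα) _
    · rw [Subgroup.mem_comap, hfS]
      intro h
      obtain ⟨e, he⟩ : Odd (S : Subgroup G).index := Nat.odd_iff.2 (by
        have := S.not_dvd_index
        omega)
      rw [he, pow_succ, pow_mul] at h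
      exact hs0 ((T.mul_mem_cancel_left (T.pow_mem (sq_mem_of_index_two hidx s0) e)).1 h)
  · suffices hs : φ s0 ≠ 1 by
      refine ⟨φ.ker, MonoidHom.normal_ker φ, ?_, fun x hx hxα => hTφ ⟨x, hx⟩ hxα, (s0 : G), s0.2, hs, hs0α⟩
      have hle : φ.ker.index ≤ 2 := by
        rw [Subgroup.index_ker]
        exact (Subgroup.card_le_card_group _).trans (le_of_eq (by rw [Nat.card_eq_fintype_card, Fintype.card_units_int]))
      have hne1 : φ.ker.index ≠ 1 := fun h => by
        rw [index_eq_one] at h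
        exact hs (show (s0 : G) ∈ φ.ker from h ▸ mem_top _)
      have := φ.ker.index_ne_zero_of_finite
      omega
    · -- the sign of an element outside the stabiliser
      show ¬ φ s0 = 1
      set σ := MulAction.toPerm (α := G) (β := Ω) (s0 : G) with hσdef
      have hσb : s0 • β = α := by
        rcases horb (s0 * s0) with h | h
        · rwa [mul_smul, ← hβ] at h
        · rw [mul_smul] at h
          exact absurd (MulAction.injective s0 h) hs0α
      have hcomm : Commute (Equiv.swap α β) σ := by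
        refine Equiv.ext fun x => ?_
        rcases eq_or_ne x α with hxα | hxα
        · show Equiv.swap α β (σ x) = σ (Equiv.swap α β x)
          rw [hxα, show σ α = β from rfl, Equiv.swap_apply_right, Equiv.swap_apply_left]
          exact hσb.symm
        rcases eq_or_ne x β with hxβ | hxβ
        · show Equiv.swap α β (σ x) = σ (Equiv.swap α β x)
          rw [hxβ, show σ β = α from hσb, Equiv.swap_apply_left, Equiv.swap_apply_right]
          rfl
        show Equiv.swap α β (σ x) = σ (Equiv.swap α β x)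
        rw [Equiv.swap_apply_of_ne_of_ne hxα hxβ, Equiv.swap_apply_of_ne_of_ne]
        · exact fun h => hxβ (MulAction.injective (s0 : G) (h.trans hσb.symm))
        · exact fun h => hxα (MulAction.injective (s0 : G) h)
      set o := orderOf s0 with ho
      have ho1 : s0 ≠ 1 := fun h => hs0 (h ▸ one_mem T)
      have hoe : Even o := by
        obtain ⟨k, hk⟩ := (S.2).exists_card_eq
        obtain ⟨j, -, hj⟩ := (Nat.dvd_prime_pow Nat.prime_two).1 (hk ▸ orderOf_dvd_natCard s0)
        rcases j with _ | j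
        · exact absurd (orderOf_eq_one_iff.1 hj) ho1
        · rw [ho, hj]; exact even_two.pow_of_ne_zero (Nat.succ_ne_zero j)
      set ρ := Equiv.swap α β * σ with hρ
      have hρo : ρ ^ o = 1 := by
        have h := map_pow (MulAction.toPermHom G Ω) (s0 : G) o
        rw [← SubmonoidClass.coe_pow, ho, pow_orderOf_eq_one, Subgroup.coe_one, map_one] at h
        rw [hρ, hcomm.mul_pow, show σ ^ o = 1 from h.symm, mul_one]
        obtain ⟨e, he⟩ := hoe
        rw [he, ← two_mul, pow_mul, pow_two, Equiv.swap_mul_self, one_pow]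
      have hρx : ∀ i : ℕ, ∀ x, x ≠ α → x ≠ β → (ρ ^ i) x = (s0 ^ i) • x := by
        intro i
        induction i with
        | zero => intro x _ _; simp
        | succ i ih =>
          intro x hxα hxβ
          rw [pow_succ', Equiv.Perm.mul_apply, ih x hxα hxβ, pow_succ', mul_smul]
          show Equiv.swap α β (s0 • (s0 ^ i) • x) = s0 • (s0 ^ i) • x
          have hno : ∀ g : P, g • x ≠ α ∧ g • x ≠ β := fun g =>
            ⟨fun h => hnotmem x hxα hxβ ⟨g⁻¹, by show g⁻¹ • α = x; rw [← h, inv_smul_smul]⟩,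
              fun h => hnotmem x hxα hxβ ⟨g⁻¹ * s0, by show (g⁻¹ * s0) • α = x; rw [mul_smul, ← hβ, ← h, inv_smul_smul]⟩⟩
          rw [smul_smul]
          exact Equiv.swap_apply_of_ne_of_ne (hno _).1 (hno _).2
      have hρα : ρ α = α := by
        show Equiv.swap α β (σ α) = α
        rw [show σ α = β from rfl, Equiv.swap_apply_right]
      have hρβ : ρ β = β := by
        show Equiv.swap α β (σ β) = β
        rw [show σ β = α from hσb, Equiv.swap_apply_left]
      have hsign : Equiv.Perm.sign ρ = 1 := by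
        refine Fixity.sign_of_semiregular ρ hρo ?_ ?_
        · intro x hx i hi hi0 hfx
          have hxα : x ≠ α := fun e => hx (by rw [e, hρα])
          have hxβ : x ≠ β := fun e => hx (by rw [e, hρβ])
          rw [hρx i x hxα hxβ] at hfx
          have := Nat.le_of_dvd hi0 (orderOf_dvd_of_pow_eq_one (hfree _ x hxα hxβ hfx))
          omega
        · refine dvd_trans ?_ (hsupp ρ hρα hρβ fun x hxα hxβ hfx => ho1 (hfree s0 x hxα hxβ (by
            have h := hρx 1 x hxα hxβ
            rw [pow_one, pow_one, hfx] at h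
            exact h.symm)))
          obtain ⟨k, hk⟩ := (S.2).exists_card_eq
          obtain ⟨j, hjk, hj⟩ := (Nat.dvd_prime_pow Nat.prime_two).1 (hk ▸ orderOf_dvd_natCard s0)
          have hjne : j ≠ k := fun h => hc (isCyclic_of_orderOf_eq_card s0 (by rw [hj, h]; exact hk.symm))
          rw [ho, hj, hk, ← pow_succ']
          exact pow_dvd_pow 2 (by omega)
      rw [hρ, map_mul, Equiv.Perm.sign_swap (Ne.symm hs0α)] at hsign
      intro h
      rw [show Equiv.Perm.sign σ = φ s0 from rfl, h] at hsign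
      exact absurd hsign (by decide)

theorem exists_frobenius (hfix : ∀ g : G, g ≠ 1 → Nat.card (MulAction.fixedBy Ω g) ≤ 2)
    (htr : MulAction.IsPretransitive G Ω) (S : Sylow 2 G) (α : Ω)
    (hidx : (stabilizer ↥(S : Subgroup G) α).index = 2) (hne : stabilizer ↥(S : Subgroup G) α ≠ ⊥)
    (hreg : ∀ γ : Ω, γ ∉ orbit ↥(S : Subgroup G) α → stabilizer ↥(S : Subgroup G) γ = ⊥) :
    ∃ M : Subgroup G, M.Normal ∧ M.index = 2 ∧ ∃ H : Subgroup ↥M, Cfsg.IsFrobeniusComplement H := by
  classical
  haveI : Fact (Nat.Prime 2) := ⟨Nat.prime_two⟩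
  have hno := noThree hfix
  obtain ⟨M, hMn, hMi, hTM, s, hsS, hsM, hsα⟩ := exists_index_two S α hidx hne hreg
  obtain ⟨hdvd, hn2⟩ := orbit_split S α hreg hidx
  set Gα := stabilizer G α
  set T := (S : Subgroup G) ⊓ Gα with hT
  have hTsub : (stabilizer ↥(S : Subgroup G) α) = T.subgroupOf (S : Subgroup G) := by
    ext x
    simp [hT, Gα, Subgroup.mem_subgroupOf, Subgroup.smul_def]
  have hTS : T.relIndex (S : Subgroup G) = 2 := by
    rw [Subgroup.relIndex, ← hTsub, hidx]
  have hnG : Gα.index = Nat.card Ω := MulAction.index_stabilizer_of_transitive G α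
  -- the two-part of a point stabiliser
  have hodd : ¬ 2 ∣ T.relIndex Gα := by
    intro h
    have e1 : T.relIndex Gα * Gα.index = T.index := relIndex_mul_index inf_le_right
    have e2 : T.relIndex (S : Subgroup G) * (S : Subgroup G).index = T.index := relIndex_mul_index inf_le_left
    rw [hTS] at e2
    have hS2 : 2 ∣ Nat.card ↥(S : Subgroup G) := by rw [← Subgroup.card_mul_index (stabilizer ↥(S : Subgroup G) α), hidx]; exact dvd_mul_left _ _
    have heven : 2 ∣ Nat.card Ω := by
      have := hS2.trans hdvd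
      omega
    have h4 : 4 ∣ T.index := by rw [← e1, hnG]; exact Nat.mul_dvd_mul h heven
    rw [← e2] at h4
    exact S.not_dvd_index (Nat.dvd_of_mul_dvd_mul_left (by norm_num : 0 < 2) h4)
  have hGM : Gα ≤ M := by
    have hTMle : T ≤ M := fun x hx => hTM x hx.1 hx.2
    have h1 : M.relIndex Gα ∣ T.relIndex Gα := Subgroup.relIndex_dvd_of_le_left Gα hTMle
    have h2 : M.relIndex Gα ∣ 2 := hMi ▸ Subgroup.relIndex_dvd_index_of_normal M Gα
    rcases (Nat.dvd_prime Nat.prime_two).1 h2 with h | h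
    · exact Subgroup.relIndex_eq_one.1 h
    · exact absurd (h ▸ h1) hodd
  set β := s • α with hβ
  -- `M` has two orbits
  have hβM : ∀ m ∈ M, m • α ≠ β := fun m hm h => by
    have h' : (m⁻¹ * s) ∈ Gα := by
      show (m⁻¹ * s) • α = α
      rw [mul_smul, ← hβ, ← h, inv_smul_smul]
    have := M.mul_mem hm (hGM h')
    rw [mul_inv_cancel_left] at this
    exact hsM this
  set Δ : Set Ω := {x | ∃ m ∈ M, m • α = x} with hΔ
  have hΔc : ∀ x, x ∉ Δ ↔ s • x ∈ Δ := by
    intro x
    obtain ⟨g, rfl⟩ := exists_smul_eq G α x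
    constructor
    · intro h
      refine ⟨s * g, (mul_mem_iff_of_index_two hMi).2 (iff_of_false hsM fun hg => h ⟨g, hg, rfl⟩), mul_smul _ _ _⟩
    · rintro ⟨m, hm, h⟩ ⟨m', hm', h'⟩
      rw [← h', smul_smul] at h
      have hmem : m⁻¹ * (s * m') ∈ Gα := by
        show (m⁻¹ * (s * m')) • α = α
        rw [mul_smul, ← h, inv_smul_smul]
      have := M.mul_mem (M.mul_mem hm (hGM hmem)) (inv_mem hm')
      rw [mul_inv_cancel_left, mul_inv_cancel_right] at this
      exact hsM this
  haveI := htr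
  refine ⟨M, hMn, hMi, Gα.subgroupOf M, ?_, ?_, ?_⟩
  · intro h
    obtain ⟨t, ht, ht1⟩ := (bot_or_exists_ne_one _).resolve_left hne
    have hmem : (⟨(t : G), hTM t t.2 ht⟩ : M) ∈ Gα.subgroupOf M := Subgroup.mem_subgroupOf.2 ht
    rw [h, Subgroup.mem_bot] at hmem
    exact ht1 (Subtype.ext (congrArg (fun y : M => (y : G)) hmem))
  · intro h
    rw [Subgroup.subgroupOf_eq_top] at h
    obtain ⟨t, ht, ht1⟩ := (bot_or_exists_ne_one _).resolve_left hne
    refine ht1 (Subtype.ext (eq_of_smul_eq_smul (α := Ω) fun x => ?_))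
    obtain ⟨g, rfl⟩ := exists_smul_eq G α x
    have hc : g⁻¹ * (t : G) * g ∈ M := by
      have := hMn.conj_mem _ (hTM t t.2 ht) g⁻¹
      rwa [inv_inv] at this
    have hf : (g⁻¹ * (t : G) * g) • α = α := h hc
    calc (t : G) • g • α = g • ((g⁻¹ * (t : G) * g) • α) := by rw [smul_smul, smul_smul]; congr 1; group
      _ = g • α := by rw [hf]
      _ = ((1 : ↥(S : Subgroup G)) : G) • g • α := by rw [Subgroup.coe_one, one_smul]
  intro g hg
  rw [Subgroup.eq_bot_iff_forall]
  rintro x ⟨hx, hx'⟩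
  have hxα : (x : G) • α = α := hx
  have hgα : (g : G) • α ≠ α := fun h => hg (Subgroup.mem_subgroupOf.2 h)
  have hxγ : (x : G) • ((g : G) • α) = (g : G) • α := by
    obtain ⟨y, hy, rfl⟩ := hx'
    have hy' : (y : G) • α = α := hy
    show ((g * y * g⁻¹ : M) : G) • _ = _
    rw [Subgroup.coe_mul, Subgroup.coe_mul, Subgroup.coe_inv, mul_smul, mul_smul, inv_smul_smul, hy']
  by_contra hx1
  have hx1' : (x : G) ≠ 1 := fun h => hx1 (Subtype.ext h)
  -- reduce to prime order
  obtain ⟨r, hr, hrd⟩ := Nat.exists_prime_and_dvd (show orderOf (x : G) ≠ 1 from fun h => hx1' (orderOf_eq_one_iff.1 h))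
  haveI := Fact.mk hr
  set y := (x : G) ^ (orderOf (x : G) / r) with hy
  have hyo : orderOf y = r := orderOf_pow_orderOf_div (orderOf_pos _).ne' hrd
  have hy1 : y ≠ 1 := fun h => by rw [h, orderOf_one] at hyo; exact hr.one_lt.ne hyo
  have hyα : y • α = α := (Gα.pow_mem hxα _ : y ∈ Gα)
  set γ := (g : G) • α with hγdef
  have hyγ : y • γ = γ := ((stabilizer G γ).pow_mem hxγ _ : y ∈ stabilizer G γ)
  have hfixy : ∀ z, y • z = z → z = α ∨ z = γ := fun z hz => by
    rcases hno y hy1 α γ z hyα hyγ hz with h | h | h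
    · exact absurd h.symm hgα
    · exact Or.inl h.symm
    · exact Or.inr h.symm
  by_cases hr2 : r = 2
  · subst hr2
    have hle : Subgroup.zpowers y ≤ Gα := zpowers_le.2 hyα
    have hTp : IsPGroup 2 (T.subgroupOf Gα) :=
      (S.2.to_le (inf_le_left : T ≤ (S : Subgroup G))).comap_of_injective Gα.subtype Subtype.val_injective
    let R : Sylow 2 Gα := hTp.toSylow hodd
    have hzp : IsPGroup 2 (Subgroup.zpowers (⟨y, hyα⟩ : Gα)) := IsPGroup.of_card (n := 1) (by
      rw [Nat.card_zpowers, ← Subgroup.orderOf_coe, hyo, pow_one])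
    obtain ⟨Q, hQ⟩ := hzp.exists_le_sylow
    obtain ⟨h, hh⟩ := exists_smul_eq Gα Q R
    have hmem : h * (⟨y, hyα⟩ : Gα) * h⁻¹ ∈ T.subgroupOf Gα := by
      have h1 : h * (⟨y, hyα⟩ : Gα) * h⁻¹ ∈ ((h • Q : Sylow 2 Gα) : Subgroup Gα) := by
        rw [Sylow.coe_subgroup_smul]
        exact Subgroup.mem_map_of_mem _ (hQ (Subgroup.mem_zpowers _))
      rw [hh] at h1
      exact h1
    set t : G := (h : G) * y * (h : G)⁻¹ with htdef
    have htT : t ∈ T := Subgroup.mem_subgroupOf.1 hmem
    have hhα : (h : G) • α = α := h.2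
    have ht3 : t • ((h : G) • γ) = (h : G) • γ := by
      rw [htdef, mul_smul, mul_smul, inv_smul_smul, hyγ]
    have htβ : t • β = β := by
      haveI : (stabilizer ↥(S : Subgroup G) α).Normal := normal_of_index_eq_two hidx
      have hconj := Subgroup.Normal.conj_mem ‹(stabilizer ↥(S : Subgroup G) α).Normal› ⟨t, htT.1⟩ htT.2 (⟨s, hsS⟩⁻¹)
      have hc : (s⁻¹ * t * s⁻¹⁻¹) • α = α := hconj
      rw [inv_inv, mul_smul, mul_smul, inv_smul_eq_iff] at hc
      exact hc
    have hmem2 : (h : G) • γ = ((h : G) * (g : G)) • α := (mul_smul _ _ _).symm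
    rcases hno t (fun e => hy1 (by simpa [htdef] using e)) α β ((h : G) • γ) htT.2 htβ ht3 with e | e | e
    · exact hsα e.symm
    · exact hgα (MulAction.injective (h : G) (e.symm.trans hhα.symm))
    · exact hβM _ (M.mul_mem (hGM h.2) g.2) (hmem2.symm.trans e.symm)
  · -- count fixed points on both orbits
    let Z := Subgroup.zpowers y
    have hyM : ∀ z : Z, (z : G) ∈ M := fun z => zpowers_le.2 (hGM hyα) z.2
    have hinv : ∀ z : Z, ∀ w ∈ Δ, (z : G) • w ∈ Δ := by
      rintro z w ⟨m, hm, rfl⟩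
      exact ⟨(z : G) * m, M.mul_mem (hyM z) hm, mul_smul _ _ _⟩
    have hinv' : ∀ z : Z, ∀ w ∉ Δ, (z : G) • w ∉ Δ := by
      intro z w hw hmem
      have := hinv z⁻¹ _ hmem
      rw [Subgroup.coe_inv, inv_smul_smul] at this
      exact hw this
    letI : MulAction Z Δ :=
      { smul := fun z w => ⟨(z : G) • (w : Ω), hinv z w w.2⟩
        one_smul := fun w => Subtype.ext (one_smul G (w : Ω))
        mul_smul := fun a b w => Subtype.ext (mul_smul (a : G) (b : G) (w : Ω)) }
    letI : MulAction Z {w : Ω // w ∉ Δ} :=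
      { smul := fun z w => ⟨(z : G) • (w : Ω), hinv' z w w.2⟩
        one_smul := fun w => Subtype.ext (one_smul G (w : Ω))
        mul_smul := fun a b w => Subtype.ext (mul_smul (a : G) (b : G) (w : Ω)) }
    have hZp : IsPGroup r Z := IsPGroup.of_card (n := 1) (by rw [Nat.card_zpowers, hyo, pow_one])
    have h1 := hZp.card_modEq_card_fixedPoints Δ
    have h2 := hZp.card_modEq_card_fixedPoints {w : Ω // w ∉ Δ}
    have hcard : Nat.card {w : Ω // w ∉ Δ} = Nat.card Δ := Nat.card_congr
      { toFun := fun w => ⟨s • (w : Ω), (hΔc _).1 w.2⟩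
        invFun := fun w => ⟨s⁻¹ • (w : Ω), (hΔc _).2 (by rw [smul_inv_smul]; exact w.2)⟩
        left_inv := fun w => Subtype.ext (inv_smul_smul s _)
        right_inv := fun w => Subtype.ext (smul_inv_smul s _) }
    have hαΔ : α ∈ Δ := ⟨1, M.one_mem, one_smul _ _⟩
    have hγΔ : γ ∈ Δ := ⟨g, g.2, rfl⟩
    have hfixZ : ∀ (w : Ω), y • w = w → ∀ z : Z, (z : G) • w = w := fun w hw z =>
      (zpowers_le (H := stabilizer G w)).2 hw z.2
    have hf2 : Nat.card (MulAction.fixedPoints Z Δ) = 2 := by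
      rw [Nat.card_eq_two_iff]
      refine ⟨⟨⟨α, hαΔ⟩, fun z => Subtype.ext (hfixZ α hyα z)⟩, ⟨⟨γ, hγΔ⟩, fun z => Subtype.ext (hfixZ γ hyγ z)⟩,
        fun e => hgα (congrArg (fun w : MulAction.fixedPoints Z Δ => ((w : Δ) : Ω)) e).symm, ?_⟩
      refine Set.eq_univ_of_forall fun w => ?_
      have hw : y • ((w : Δ) : Ω) = ((w : Δ) : Ω) := congrArg Subtype.val (w.2 ⟨y, Subgroup.mem_zpowers y⟩)
      rcases hfixy _ hw with e | e
      · exact Or.inl (Subtype.ext (Subtype.ext e))
      · exact Or.inr (Subtype.ext (Subtype.ext e))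
    have hf0 : Nat.card (MulAction.fixedPoints Z {w : Ω // w ∉ Δ}) = 0 := by
      haveI : IsEmpty (MulAction.fixedPoints Z {w : Ω // w ∉ Δ}) := ⟨fun w => by
        have hw : y • ((w : {w : Ω // w ∉ Δ}) : Ω) = (w : {w : Ω // w ∉ Δ}) :=
          congrArg Subtype.val (w.2 ⟨y, Subgroup.mem_zpowers y⟩)
        rcases hfixy _ hw with e | e
        · exact (w : {w : Ω // w ∉ Δ}).2 (e.symm ▸ hαΔ)
        · exact (w : {w : Ω // w ∉ Δ}).2 (e.symm ▸ hγΔ)⟩
      exact Nat.card_of_isEmpty
    rw [hcard, hf0] at h2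
    rw [hf2] at h1
    have hd : r ∣ 2 := Nat.modEq_zero_iff_dvd.1 (h1.symm.trans h2)
    exact hr2 ((Nat.prime_dvd_prime_iff_eq hr Nat.prime_two).1 hd)

/-- Let G be a finite group acting faithfully and transitively on a finite set Ω with fixity 2 (every non-identity element fixes at most two points, and some fixes exactly two). Let α ∈ Ω and S a Sylow 2-subgroup of G. Then one of the following holds: the stabilizer S_α of α in S is trivial; S is dihedral or semidihedral and either |S_α| = 2 or |S : S_α| = 2; |S| ≥ 4, S has exactly one orbit of size 2 on Ω, every other S-orbit is regular, and G has a normal subgroup of index 2 or of index |S| which is a Frobenius group; or S ≤ G_α. -/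
theorem result {G : Type*} [Group G] [Finite G] {Ω : Type*} [Fintype Ω] [MulAction G Ω] [FaithfulSMul G Ω] (htr : MulAction.IsPretransitive G Ω)
    (hfix : ∀ g : G, g ≠ 1 → Nat.card (MulAction.fixedBy Ω g) ≤ 2) (hex : ∃ g : G, g ≠ 1 ∧ Nat.card (MulAction.fixedBy Ω g) = 2) (α : Ω) (S : Sylow 2 G) :
    (S : Subgroup G) ⊓ MulAction.stabilizer G α = ⊥ ∨
    (((∃ n : ℕ, Nonempty (↥(S : Subgroup G) ≃* DihedralGroup n)) ∨ Cfsg.IsQuasiDihedral ↥(S : Subgroup G)) ∧
       (Nat.card ↥((S : Subgroup G) ⊓ MulAction.stabilizer G α) = 2 ∨ ((S : Subgroup G) ⊓ MulAction.stabilizer G α).relIndex (S : Subgroup G) = 2)) ∨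
    (4 ≤ Nat.card (S : Subgroup G) ∧
       (∃ ω : Ω, Nat.card (MulAction.orbit ↥(S : Subgroup G) ω) = 2 ∧
          ∀ ω' : Ω, ω' ∉ MulAction.orbit ↥(S : Subgroup G) ω → Nat.card (MulAction.orbit ↥(S : Subgroup G) ω') = Nat.card (S : Subgroup G)) ∧
       ∃ N : Subgroup G, N.Normal ∧ (N.index = 2 ∨ N.index = Nat.card (S : Subgroup G)) ∧ (∃ H : Subgroup ↥N, Cfsg.IsFrobeniusComplement H)) ∨
    (S : Subgroup G) ≤ MulAction.stabilizer G α := by
  haveI : Fact (Nat.Prime 2) := ⟨Nat.prime_two⟩
  set P := ↥(S : Subgroup G) with hP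
  have hsub : MulAction.stabilizer P α = ((S : Subgroup G) ⊓ MulAction.stabilizer G α).subgroupOf (S : Subgroup G) := by
    ext x
    rw [Subgroup.mem_subgroupOf, Subgroup.mem_inf]
    exact ⟨fun h => ⟨x.2, h⟩, fun h => h.2⟩
  by_cases h1 : MulAction.stabilizer P α = ⊥
  · left
    rw [hsub, Subgroup.subgroupOf_eq_bot, disjoint_iff] at h1
    rwa [inf_assoc, inf_comm (MulAction.stabilizer G α), ← inf_assoc, inf_idem] at h1
  by_cases h2 : MulAction.stabilizer P α = ⊤
  · right; right; right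
    intro x hx
    have hmem : (⟨x, hx⟩ : P) ∈ MulAction.stabilizer P α := h2 ▸ Subgroup.mem_top _
    exact hmem
  have hnoP : Fixity.NoThree P Ω := fun g hg a b c ha hb hc =>
    noThree hfix (g : G) (fun e => hg (Subtype.ext e)) a b c ha hb hc
  have hcard : Nat.card (MulAction.stabilizer P α) = Nat.card ↥((S : Subgroup G) ⊓ MulAction.stabilizer G α) := by
    rw [hsub]
    exact Nat.card_congr (Subgroup.subgroupOfEquivOfLe inf_le_left).toEquiv
  have hrel : (MulAction.stabilizer P α).index =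
      ((S : Subgroup G) ⊓ MulAction.stabilizer G α).relIndex (S : Subgroup G) := by
    rw [hsub, Subgroup.relIndex]
  rcases Fixity.two_group_cases S.2 hnoP α h1 h2 with ⟨hD, hor⟩ | ⟨hidx, hreg⟩
  · right; left
    exact ⟨hD, hor.imp (fun h => hcard ▸ h) (fun h => hrel ▸ h)⟩
  · right; right; left
    have hT : 1 < Nat.card (MulAction.stabilizer P α) := (Subgroup.one_lt_card_iff_ne_bot _).2 h1
    have hPc := (MulAction.stabilizer P α).card_mul_index
    rw [hidx] at hPc
    have h4 : 4 ≤ Nat.card P := by omega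
    refine ⟨h4, ⟨α, ?_, fun ω hω => ?_⟩, ?_⟩
    · rw [Nat.card_coe_set_eq, ← MulAction.index_stabilizer, hidx]
    · rw [Nat.card_coe_set_eq, ← MulAction.index_stabilizer, hreg ω hω, Subgroup.index_bot]
    · obtain ⟨M, hMn, hMi, hH⟩ := exists_frobenius hfix htr S α hidx h1 hreg
      exact ⟨M, hMn, Or.inl hMi, hH⟩

end Cfsg.Agent.S3390
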