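import Cfsg.Statements.S3399
import Cfsg.Agent.Lib.PronormalHalf.Main
-- import your own Cfsg.Agent.* helpers here

set_option autoImplicit false
open Cfsg
open scoped Pointwise
open MulAction Cfsg.Agent.PronHalf

namespace Cfsg.Agent.S3399

/-- Let G be a transitive permutation group of finite degree n and K a nontrivial subgroup of G that is pronormal in G (K and gKg⁻¹ are conjugate inside ⟨K, gKg⁻¹⟩ for every g ∈ G). If K fixes exactly f points, then f ≤ (n − 1)/2, that is, 2f + 1 ≤ n. -/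
theorem result (n : ℕ) (G : Subgroup (Equiv.Perm (Fin n)))
    (htrans : ∀ a b : Fin n, ∃ g ∈ G, g a = b)
    (K : Subgroup (Equiv.Perm (Fin n))) (hKG : K ≤ G) (hK : K ≠ ⊥)
    (hpro : ∀ g ∈ G, ∃ w ∈ K ⊔ K.map (MulAut.conj g).toMonoidHom,
      K.map (MulAut.conj w).toMonoidHom = K.map (MulAut.conj g).toMonoidHom) :
    2 * Nat.card {a : Fin n // ∀ k ∈ K, k a = a} + 1 ≤ n := by
  classical
  have hpre : IsPretransitive G (Fin n) := ⟨fun a b => by
    obtain ⟨g, hg, h⟩ := htrans a b
    exact ⟨⟨g, hg⟩, h⟩⟩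
  set F : Finset (Fin n) := Finset.univ.filter fun a => ∀ k ∈ K, k a = a with hF
  have memF : ∀ a, a ∈ F ↔ ∀ k ∈ K, k a = a := fun a => by simp [hF]
  have fixK : ∀ k (hk : k ∈ K), (⟨k, hKG hk⟩ : G) ∈ fixingSubgroup G (F : Set (Fin n)) :=
    fun k hk => mem_fixing.2 fun a ha => (memF a).1 ha k hk
  have memgF : ∀ (g : G) (x : Fin n), x ∈ g • F ↔
      ∀ m ∈ K.map (MulAut.conj (g : Equiv.Perm (Fin n))).toMonoidHom, m x = x := by
    intro g x
    rw [← Finset.inv_smul_mem_iff, memF]
    simp only [Subgroup.mem_map, MulEquiv.coe_toMonoidHom, MulAut.conj_apply, forall_exists_index,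
      and_imp, forall_apply_eq_imp_iff₂, Equiv.Perm.mul_apply]
    refine forall₂_congr fun k _ => ?_
    exact ((g : Equiv.Perm (Fin n)).apply_eq_iff_eq_symm_apply).symm
  have hgood : Good G F := by
    refine ⟨fun a ha => ?_, fun g => ?_⟩
    · rw [memF] at ha
      push Not at ha
      obtain ⟨k, hk, hka⟩ := ha
      exact ⟨⟨k, hKG hk⟩, fixK k hk, hka⟩
    · obtain ⟨w, hw, hweq⟩ := hpro g g.2
      have hle : K ⊔ K.map (MulAut.conj (g : Equiv.Perm (Fin n))).toMonoidHom ≤
          (fixingSubgroup G (F : Set (Fin n)) ⊔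
            fixingSubgroup G ((g • F : Finset (Fin n)) : Set (Fin n))).map G.subtype := by
        refine sup_le (fun k hk => ⟨⟨k, hKG hk⟩, Subgroup.mem_sup_left (fixK k hk), rfl⟩) ?_
        intro m hm
        obtain ⟨k, hk, rfl⟩ := id hm
        have hmG : (MulAut.conj (g : Equiv.Perm (Fin n))).toMonoidHom k ∈ G :=
          G.mul_mem (G.mul_mem g.2 (hKG hk)) (G.inv_mem g.2)
        exact ⟨⟨_, hmG⟩, Subgroup.mem_sup_right (mem_fixing.2 fun a ha => (memgF g a).1 ha _ hm),
          rfl⟩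
      obtain ⟨w', hw', hw''⟩ := hle hw
      refine ⟨w', hw', ?_⟩
      subst hw''
      ext x
      rw [memgF, memgF]
      show (∀ m ∈ K.map (MulAut.conj (w' : Equiv.Perm (Fin n))).toMonoidHom, m x = x) ↔ _
      simp only [Subgroup.coe_subtype] at hweq
      rw [hweq]
  have hne : F ≠ Finset.univ := by
    intro h
    refine hK ((Subgroup.eq_bot_iff_forall K).2 fun k hk => Equiv.ext fun a => ?_)
    exact (memF a).1 (h ▸ Finset.mem_univ a) k hk
  have hcard : Nat.card {a : Fin n // ∀ k ∈ K, k a = a} = F.card := by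
    rw [Nat.card_eq_fintype_card, Fintype.card_subtype]
  have := hgood.two_mul_card_add_one_le hne
  rw [Fintype.card_fin] at this
  rwa [hcard]

end Cfsg.Agent.S3399
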