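import Cfsg.Statements.S3401
import Cfsg.Agent.EqLemmas

set_option autoImplicit false
open Cfsg

namespace Cfsg.Agent.S3401
open Subgroup

variable {G : Type*} [Group G] {Ω : Type*} [MulAction G Ω]

/-- Two-transitivity, spelled out. -/
def T2 (H : Subgroup G) (Ω : Type*) [MulAction G Ω] : Prop :=
  ∀ a b c d : Ω, a ≠ b → c ≠ d → ∃ h ∈ H, h • a = c ∧ h • b = d

/-- Two Sylow subgroups of `H`, seen in `G`, are conjugate in `H`. -/
theorem sylow_conj [Finite G] (p : ℕ) [Fact p.Prime] (H S S' : Subgroup G) (hS : S ≤ H) (hS' : S' ≤ H)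
    (hc : Nat.card S = p ^ (Nat.card H).factorization p) (hc' : Nat.card S' = p ^ (Nat.card H).factorization p) :
    ∃ h ∈ H, S.map (MulAut.conj h).toMonoidHom = S' := by
  let P : Sylow p H := Sylow.ofCard (S.subgroupOf H) (by rw [Nat.card_congr (subgroupOfEquivOfLe hS).toEquiv, hc])
  let P' : Sylow p H := Sylow.ofCard (S'.subgroupOf H) (by rw [Nat.card_congr (subgroupOfEquivOfLe hS').toEquiv, hc'])
  obtain ⟨h, hh⟩ := MulAction.exists_smul_eq H P P'
  have hk : ∀ s : H, s ∈ S.subgroupOf H → (h * s * h⁻¹ : H) ∈ S'.subgroupOf H := by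
    intro s hs
    have : (P' : Subgroup H) = (S.subgroupOf H).map (MulAut.conj h).toMonoidHom := by rw [← hh]; rfl
    change h * s * h⁻¹ ∈ (P' : Subgroup H)
    rw [this]
    exact ⟨s, hs, rfl⟩
  refine ⟨h, h.2, Subgroup.eq_of_le_of_card_ge ?_ ?_⟩
  · rintro _ ⟨s, hs, rfl⟩
    exact hk ⟨s, hS hs⟩ hs
  · rw [hc', ← hc]
    exact (Nat.card_congr (S.equivMapOfInjective _ (MulAut.conj (h : G)).injective).toEquiv).le

/-- A non-trivial normal subgroup of a 2-transitive group is transitive. -/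
theorem transitive_of_normal [FaithfulSMul G Ω] (H : Subgroup G) (h2 : T2 H Ω) (N : Subgroup G)
    (hN : ∀ g ∈ H, ∀ n ∈ N, g * n * g⁻¹ ∈ N) (hbot : N ≠ ⊥) (a b : Ω) : ∃ n ∈ N, n • a = b := by
  rcases eq_or_ne a b with rfl | hab
  · exact ⟨1, N.one_mem, one_smul G a⟩
  obtain ⟨⟨n, hn⟩, hne⟩ := Subgroup.ne_bot_iff_exists_ne_one.mp hbot
  obtain ⟨x, hx⟩ : ∃ x : Ω, n • x ≠ x := by
    by_contra hcon
    push Not at hcon
    exact hne (Subtype.ext (eq_of_smul_eq_smul (α := Ω) fun x => by rw [hcon x]; exact (one_smul G x).symm))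
  obtain ⟨g, hg, h1, h2'⟩ := h2 x (n • x) a b (Ne.symm hx) hab
  refine ⟨g * n * g⁻¹, hN g hg n hn, ?_⟩
  rw [mul_smul, mul_smul, ← h1, inv_smul_smul, h2']

set_option maxHeartbeats 1000000 in
/-- A subset on which a subgroup `X` is transitive with group of order `2 ·` odd, normalized by a
two-transitive group, has two points. -/
theorem card_le_two {F : Type*} [Finite F] (R X : Subgroup (Equiv.Perm F))
    (hnorm : ∀ r ∈ R, ∀ x ∈ X, r * x * r⁻¹ ∈ X)
    (hR : ∀ a b c d : F, a ≠ b → c ≠ d → ∃ r ∈ R, r a = c ∧ r b = d)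
    (htr : ∀ a b : F, ∃ x ∈ X, x a = b) (h4 : ¬ 4 ∣ Nat.card X) (heven : 2 ∣ Nat.card F) :
    Nat.card F ≤ 2 := by
  classical
  haveI := Fact.mk Nat.prime_two
  rcases isEmpty_or_nonempty F with hE | hE
  · simp [Nat.card_of_isEmpty]
  obtain ⟨a⟩ := hE
  have horb : ∀ (Y : Subgroup (Equiv.Perm F)), (∀ b : F, ∃ y ∈ Y, y a = b) → Nat.card F ∣ Nat.card Y := by
    intro Y hY
    have : MulAction.orbit Y a = Set.univ := by
      refine Set.eq_univ_iff_forall.mpr fun b => ?_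
      obtain ⟨y, hy, hb⟩ := hY b
      exact ⟨⟨y, hy⟩, hb⟩
    rw [← Nat.card_univ (α := F), ← this, Nat.card_coe_set_eq, ← MulAction.index_stabilizer]
    exact Subgroup.index_dvd_card _
  have hX2 : 2 ∣ Nat.card X := heven.trans (horb X fun b => htr a b)
  obtain ⟨P⟩ : Nonempty (Sylow 2 X) := inferInstance
  have hP : Nat.card (P : Subgroup X) = 2 := by
    have h1 : (Nat.card X).factorization 2 = 1 := by
      have hpos : 0 < (Nat.card X).factorization 2 := Nat.prime_two.factorization_pos_of_dvd Nat.card_pos.ne' hX2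
      by_contra h
      exact h4 ((pow_dvd_pow 2 (show 2 ≤ (Nat.card X).factorization 2 by omega)).trans (Nat.ordProj_dvd _ 2))
    rw [P.card_eq_multiplicity, h1, pow_one]
  have hPc : IsCyclic (P : Subgroup X) := isCyclic_of_prime_card hP
  have hmin : (Nat.card X).minFac = 2 := (Nat.minFac_eq_two_iff _).mpr hX2
  have hN : Subgroup.normalizer ((P : Subgroup X) : Set X) ≤ Subgroup.centralizer ((P : Subgroup X) : Set X) :=
    IsCyclic.normalizer_le_centralizer hmin hPc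
  obtain ⟨K, hKodd, hKidx⟩ : ∃ K : Subgroup X, ¬ 2 ∣ Nat.card K ∧ K.index = 2 :=
    ⟨(MonoidHom.transferSylow P hN).ker, MonoidHom.not_dvd_card_ker_transferSylow P hN,
      (MonoidHom.ker_transferSylow_isComplement' P hN).symm.index_eq_card.trans hP⟩
  -- the squares
  let W : Subgroup (Equiv.Perm F) := Subgroup.closure ((fun x => x * x) '' (X : Set (Equiv.Perm F)))
  have hWK : W ≤ K.map X.subtype := by
    rw [Subgroup.closure_le]
    rintro _ ⟨x, hx, rfl⟩
    exact Subgroup.mem_map.mpr ⟨(⟨x, hx⟩ : X) * ⟨x, hx⟩, Subgroup.mul_self_mem_of_index_two hKidx _, rfl⟩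
  have hW : W = ⊥ := by
    rw [eq_bot_iff]
    intro w hw
    rw [Subgroup.mem_bot]
    by_contra hne
    obtain ⟨c, hc⟩ : ∃ c, w c ≠ c := by
      by_contra hcon; push Not at hcon; exact hne (Equiv.ext hcon)
    have hWn : ∀ r ∈ R, ∀ y ∈ W, r * y * r⁻¹ ∈ W := by
      intro r hr y hy
      induction hy using Subgroup.closure_induction with
      | mem y hy =>
        obtain ⟨x, hx, rfl⟩ := hy
        exact Subgroup.subset_closure ⟨r * x * r⁻¹, hnorm r hr x hx, by group⟩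
      | one => simp [W.one_mem]
      | mul y z _ _ h1 h2 => have := W.mul_mem h1 h2; simpa [mul_assoc] using this
      | inv y _ h1 => have := W.inv_mem h1; simpa [mul_assoc] using this
    have htrW : ∀ b : F, ∃ y ∈ W, y a = b := by
      intro b
      rcases eq_or_ne a b with rfl | hab
      · exact ⟨1, W.one_mem, rfl⟩
      obtain ⟨r, hr, h1, h2⟩ := hR c (w c) a b (Ne.symm hc) hab
      exact ⟨r * w * r⁻¹, hWn r hr w hw, by simp [← h1, ← h2, Equiv.Perm.mul_apply]⟩
    have h5 : 2 ∣ Nat.card (K.map X.subtype) := heven.trans ((horb W htrW).trans (Subgroup.card_dvd_of_le hWK))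
    rw [← Nat.card_congr (K.equivMapOfInjective _ X.subtype_injective).toEquiv] at h5
    exact hKodd h5
  -- so `X` is an elementary 2-group of order 2
  have hXP : IsPGroup 2 X := fun x => ⟨1, by
    have : (x : Equiv.Perm F) * x ∈ W := Subgroup.subset_closure ⟨x, x.2, rfl⟩
    rw [hW, Subgroup.mem_bot] at this
    exact Subtype.ext (by simpa [sq] using this)⟩
  obtain ⟨k, hk⟩ := IsPGroup.iff_card.mp hXP
  have hk1 : k ≤ 1 := by
    by_contra h
    exact h4 (by rw [hk]; exact pow_dvd_pow 2 (show 2 ≤ k by omega))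
  have := Nat.le_of_dvd Nat.card_pos (horb X fun b => htr a b)
  have h6 : Nat.card X ≤ 2 := by rw [hk]; exact (Nat.pow_le_pow_right two_pos hk1)
  omega

set_option maxHeartbeats 2000000 in
/-- In a 2-transitive group of degree `≡ 2 mod 4`, non-trivial normal subgroups are 2-transitive. -/
theorem t2_of_normal [Finite G] [Finite Ω] [FaithfulSMul G Ω] (H : Subgroup G) (h2 : T2 H Ω)
    (hn : Nat.card Ω % 4 = 2) (N : Subgroup G) (hNH : N ≤ H)
    (hN : ∀ g ∈ H, ∀ n ∈ N, g * n * g⁻¹ ∈ N) (hbot : N ≠ ⊥) : T2 N Ω := by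
  classical
  haveI := Fact.mk Nat.prime_two
  have htrN : ∀ a b : Ω, ∃ n ∈ N, n • a = b := transitive_of_normal H h2 N hN hbot
  suffices key : ∀ a b c : Ω, b ≠ a → c ≠ a → ∃ n ∈ N, n • a = a ∧ n • b = c by
    intro a b c d hab hcd
    obtain ⟨n, hn', h1⟩ := htrN a c
    obtain ⟨k, hk, hk1, hk2⟩ := key c (n • b) d (fun h => hab (smul_left_cancel n (h1.trans h.symm))) (Ne.symm hcd)
    exact ⟨k * n, N.mul_mem hk hn', by rw [mul_smul, h1, hk1], by rw [mul_smul, hk2]⟩
  intro a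
  set Na : Subgroup G := N ⊓ MulAction.stabilizer G a with hNa
  obtain ⟨P⟩ : Nonempty (Sylow 2 Na) := inferInstance
  set S : Subgroup G := (P : Subgroup Na).map Na.subtype with hSdef
  have hSle : S ≤ Na := Subgroup.map_subtype_le _
  have hScard : Nat.card S = 2 ^ (Nat.card Na).factorization 2 := by
    rw [hSdef, ← Nat.card_congr ((P : Subgroup Na).equivMapOfInjective _ Na.subtype_injective).toEquiv, P.card_eq_multiplicity]
  -- the indices
  have hidx : ∀ c : Ω, Nat.card ↥(N ⊓ MulAction.stabilizer G c) * Nat.card Ω = Nat.card N := by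
    intro c
    have horb : MulAction.orbit N c = Set.univ := Set.eq_univ_iff_forall.mpr fun y => by
      obtain ⟨n, hn', h⟩ := htrN c y; exact ⟨⟨n, hn'⟩, h⟩
    have h1 := (MulAction.stabilizer N c).card_mul_index
    rw [MulAction.index_stabilizer, horb, Set.ncard_univ] at h1
    rw [← h1]
    congr 1
    refine Nat.card_congr ⟨fun x => ⟨⟨x.1, x.2.1⟩, x.2.2⟩, fun x => ⟨x.1.1, x.1.2, x.2⟩, fun x => rfl, fun x => rfl⟩
  have hNac : ∀ c : Ω, Nat.card ↥(N ⊓ MulAction.stabilizer G c) = Nat.card Na := fun c =>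
    Nat.eq_of_mul_eq_mul_right (haveI : Nonempty Ω := ⟨a⟩; Nat.card_pos) (((hidx c).trans (hidx a).symm) :) (m := Nat.card Ω)
  have hΩ2 : (Nat.card Ω).factorization 2 = 1 := by
    obtain ⟨m, hm⟩ : ∃ m, Nat.card Ω = 2 * m ∧ ¬ 2 ∣ m := ⟨Nat.card Ω / 2, by omega, by omega⟩
    rw [hm.1, Nat.factorization_mul (by norm_num) (by omega), Finsupp.add_apply,
      Nat.prime_two.factorization_self, Nat.factorization_eq_zero_of_not_dvd hm.2]
  have hN2 : (Nat.card N).factorization 2 = (Nat.card Na).factorization 2 + 1 := by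
    rw [← hidx a, Nat.factorization_mul Nat.card_pos.ne' (by omega), Finsupp.add_apply, hΩ2]
  have hbig : ∀ (c : Ω) (T : Subgroup G), T ≤ N ⊓ MulAction.stabilizer G c → Nat.card T = 2 ^ ((Nat.card Na).factorization 2 + 1) → False := by
    intro c T hT hTc
    have h1 := Subgroup.card_dvd_of_le hT
    rw [hTc, hNac c, Nat.prime_two.pow_dvd_iff_le_factorization Nat.card_pos.ne'] at h1
    omega
  -- the fixed points of `S`
  let Fx : Set Ω := {x | ∀ s ∈ S, s • x = x}
  have haF : a ∈ Fx := fun s hs => (hSle hs).2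
  have hSc : ∀ c ∈ Fx, S ≤ N ⊓ MulAction.stabilizer G c := fun c hc s hs => ⟨(hSle hs).1, hc s hs⟩
  have hconj : ∀ (g : G) (c : Ω), g ∈ H → g • a = c → S.map (MulAut.conj g).toMonoidHom ≤ N ⊓ MulAction.stabilizer G c := by
    rintro g c hg hgc _ ⟨s, hs, rfl⟩
    refine ⟨hN g hg s (hSle hs).1, ?_⟩
    show (g * s * g⁻¹) • c = c
    rw [mul_smul, mul_smul, ← hgc, inv_smul_smul, (hSle hs).2]
  let R : Subgroup G := H ⊓ Subgroup.normalizer (S : Set G)
  have hmemR : ∀ g ∈ H, S.map (MulAut.conj g).toMonoidHom = S → g ∈ R := by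
    intro g hg hgS
    refine ⟨hg, Subgroup.mem_normalizer_iff.mpr fun x => ?_⟩
    constructor
    · intro hx; rw [← hgS]; exact ⟨x, hx, rfl⟩
    · intro hx
      rw [← hgS] at hx
      obtain ⟨y, hy, he⟩ := hx
      have : y = x := by simpa using he
      rwa [← this]
  have hmapmap : ∀ (g h : G), (S.map (MulAut.conj g).toMonoidHom).map (MulAut.conj h).toMonoidHom = S.map (MulAut.conj (h * g)).toMonoidHom := by
    intro g h
    rw [Subgroup.map_map]
    congr 1
    ext x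
    simp [mul_assoc]
  have hcardmap : ∀ g : G, Nat.card ↥(S.map (MulAut.conj g).toMonoidHom) = Nat.card S := fun g =>
    (Nat.card_congr (S.equivMapOfInjective _ (MulAut.conj g).injective).toEquiv).symm
  -- `R ⊓ N` is transitive on `Fx`
  have hRtr : ∀ c ∈ Fx, ∃ r ∈ R ⊓ N, r • a = c := by
    intro c hc
    obtain ⟨n, hn', hnc⟩ := htrN a c
    obtain ⟨h, hh, hS'⟩ := sylow_conj 2 _ _ S (hconj n c (hNH hn') hnc) (hSc c hc)
      (by rw [hcardmap, hScard, hNac c]) (by rw [hScard, hNac c])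
    rw [hmapmap] at hS'
    exact ⟨h * n, ⟨hmemR _ (H.mul_mem (hNH hh.1) (hNH hn')) hS', N.mul_mem hh.1 hn'⟩, by rw [mul_smul, hnc, hh.2]⟩
  -- `R` is transitive on the other fixed points
  have hRa : ∀ b ∈ Fx, ∀ c ∈ Fx, b ≠ a → c ≠ a → ∃ r ∈ R, r • a = a ∧ r • b = c := by
    intro b hb c hc hba hca
    obtain ⟨g, hg, hga, hgb⟩ := h2 a b a c (Ne.symm hba) (Ne.symm hca)
    set Nac : Subgroup G := Na ⊓ MulAction.stabilizer G c
    have hle1 : S ≤ Nac := fun s hs => ⟨hSle hs, hc s hs⟩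
    have hle2 : S.map (MulAut.conj g).toMonoidHom ≤ Nac := by
      rintro x hx
      refine ⟨hconj g a hg hga hx, ?_⟩
      obtain ⟨s, hs, rfl⟩ := hx
      show (g * s * g⁻¹) • c = c
      rw [mul_smul, mul_smul, ← hgb, inv_smul_smul, hb s hs]
    have hfac : Nat.card S = 2 ^ (Nat.card Nac).factorization 2 := by
      refine Nat.dvd_antisymm ?_ ?_
      · rw [hScard]
        refine pow_dvd_pow 2 ?_
        rw [← Nat.prime_two.pow_dvd_iff_le_factorization Nat.card_pos.ne', ← hScard]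
        exact Subgroup.card_dvd_of_le hle1
      · rw [hScard]
        refine pow_dvd_pow 2 ?_
        rw [← Nat.prime_two.pow_dvd_iff_le_factorization Nat.card_pos.ne']
        exact (Nat.ordProj_dvd _ 2).trans (Subgroup.card_dvd_of_le inf_le_left)
    obtain ⟨h, hh, hS'⟩ := sylow_conj 2 _ _ S hle2 hle1 (by rw [hcardmap]; exact hfac) hfac
    rw [hmapmap] at hS'
    exact ⟨h * g, hmemR _ (H.mul_mem (hNH hh.1.1) hg) hS', by rw [mul_smul, hga, hh.1.2], by rw [mul_smul, hgb, hh.2]⟩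
  -- the action on `Fx`
  have hinv : ∀ r ∈ R, ∀ x, x ∈ Fx → r • x ∈ Fx := by
    intro r hr x hx s hs
    have h1 : r⁻¹ * s * r ∈ S := by
      have := (Subgroup.mem_normalizer_iff.mp ((Subgroup.normalizer (S : Set G)).inv_mem hr.2) s).mp hs
      simpa using this
    have := congrArg (r • ·) (hx _ h1)
    simpa [mul_smul] using this
  let ρ : R →* Equiv.Perm Fx :=
    { toFun := fun r =>
        { toFun := fun x => ⟨(r : G) • x.1, hinv r r.2 x x.2⟩
          invFun := fun x => ⟨(r : G)⁻¹ • x.1, hinv _ (R.inv_mem r.2) x x.2⟩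
          left_inv := fun x => Subtype.ext (inv_smul_smul _ _)
          right_inv := fun x => Subtype.ext (smul_inv_smul _ _) }
      map_one' := Equiv.ext fun x => Subtype.ext (one_smul G _)
      map_mul' := fun r r' => Equiv.ext fun x => Subtype.ext (mul_smul _ _ _) }
  -- a Sylow 2-subgroup of `N` above `S`
  have hSN : S ≤ N := fun s hs => (hSle hs).1
  obtain ⟨T, hT⟩ := (show IsPGroup 2 (S.subgroupOf N) from IsPGroup.of_card
    ((Nat.card_congr (subgroupOfEquivOfLe hSN).toEquiv).trans hScard)).exists_le_sylow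
  have hTcard : Nat.card ((T : Subgroup N).map N.subtype) = 2 * Nat.card S := by
    rw [← Nat.card_congr ((T : Subgroup N).equivMapOfInjective _ N.subtype_injective).toEquiv, T.card_eq_multiplicity,
      hN2, hScard, pow_succ']
  have hST : S ≤ (T : Subgroup N).map N.subtype := fun s hs => ⟨⟨s, hSN hs⟩, hT hs, rfl⟩
  have hidx2 : (S.subgroupOf ((T : Subgroup N).map N.subtype)).index = 2 := by
    have h := (S.subgroupOf ((T : Subgroup N).map N.subtype)).card_mul_index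
    rw [Nat.card_congr (subgroupOfEquivOfLe hST).toEquiv, hTcard, mul_comm 2] at h
    exact Nat.eq_of_mul_eq_mul_left Nat.card_pos h
  have hTR : (T : Subgroup N).map N.subtype ≤ R ⊓ N := by
    haveI := Subgroup.normal_of_index_eq_two hidx2
    intro t ht
    have htN : t ∈ N := Subgroup.map_subtype_le _ ht
    refine ⟨⟨hNH htN, ?_⟩, htN⟩
    exact (Subgroup.normal_subgroupOf_iff_le_normalizer hST).mp inferInstance ht
  have heven : 2 ∣ Nat.card Fx := by
    obtain ⟨t, htT, htS⟩ : ∃ t ∈ (T : Subgroup N).map N.subtype, t ∉ S := by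
      by_contra hcon
      push Not at hcon
      have := Subgroup.card_le_of_le (show (T : Subgroup N).map N.subtype ≤ S from hcon)
      rw [hTcard] at this
      have := Nat.card_pos (α := S)
      omega
    let u : R := ⟨t, (hTR htT).1⟩
    have hfree : ∀ x : Fx, ρ u x ≠ x := by
      intro x hx
      have hx' : t • (x : Ω) = x := congrArg Subtype.val hx
      refine hbig x.1 ((T : Subgroup N).map N.subtype) ?_ (by rw [hTcard, hScard, pow_succ'])
      intro y hy
      refine ⟨Subgroup.map_subtype_le _ hy, ?_⟩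
      show y • (x : Ω) = x
      by_cases hyS : y ∈ S
      · exact x.2 y hyS
      · have hq : t⁻¹ * y ∈ S := by
          have h := (Subgroup.mul_mem_iff_of_index_two hidx2 (a := (⟨t, htT⟩ : ↥((T : Subgroup N).map N.subtype))⁻¹) (b := ⟨y, hy⟩)).mpr
            (iff_of_false (fun h => htS (inv_mem_iff.mp (Subgroup.mem_subgroupOf.mp h))) (fun h => hyS h))
          exact h
        have := x.2 _ hq
        rw [mul_smul, inv_smul_eq_iff, hx'] at this
        exact this
    have hu2 : ρ u * ρ u = 1 := by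
      rw [← map_mul]
      apply Equiv.ext
      intro x
      refine Subtype.ext ?_
      show ((u * u : R) : G) • (x : Ω) = x
      exact x.2 _ (Subgroup.mul_self_mem_of_index_two hidx2 ⟨t, htT⟩)
    haveI := Fintype.ofFinite Fx
    have hsupp : (ρ u).support = Finset.univ := Finset.eq_univ_of_forall fun x => Equiv.Perm.mem_support.mpr (hfree x)
    have hdvd : ∀ k ∈ (ρ u).cycleType, k = 2 := by
      intro k hk
      have h1 : k ∣ 2 := (Equiv.Perm.dvd_of_mem_cycleType hk).trans (orderOf_dvd_of_pow_eq_one (by rw [sq, hu2]))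
      have := Equiv.Perm.two_le_of_mem_cycleType hk
      have := Nat.le_of_dvd two_pos h1
      omega
    have := (ρ u).sum_cycleType
    rw [Multiset.eq_replicate_card.mpr hdvd, Multiset.sum_replicate, hsupp, Finset.card_univ] at this
    rw [Nat.card_eq_fintype_card, ← this, smul_eq_mul]
    exact dvd_mul_left _ _
  have hF2 : Nat.card Fx ≤ 2 := by
    refine card_le_two ρ.range ((N.subgroupOf R).map ρ) ?_ ?_ ?_ ?_ heven
    · rintro _ ⟨r, rfl⟩ _ ⟨x, hx, rfl⟩
      refine ⟨r * x * r⁻¹, hN r r.2.1 x hx, by simp⟩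
    · intro x y z w hxy hzw
      obtain ⟨r, hr, hrx⟩ := hRtr x.1 x.2
      obtain ⟨s, hs, hsz⟩ := hRtr z.1 z.2
      have h1 : r⁻¹ • y.1 ≠ a := fun h => hxy (Subtype.ext (by rw [← hrx, ← h, smul_inv_smul]))
      have h2' : s⁻¹ • w.1 ≠ a := fun h => hzw (Subtype.ext (by rw [← hsz, ← h, smul_inv_smul]))
      obtain ⟨u, hu, hua, hub⟩ := hRa _ (hinv _ (R.inv_mem hr.1) _ y.2) _ (hinv _ (R.inv_mem hs.1) _ w.2) h1 h2'
      refine ⟨ρ ⟨s * u * r⁻¹, R.mul_mem (R.mul_mem hs.1 hu) (R.inv_mem hr.1)⟩, ⟨_, rfl⟩, Subtype.ext ?_, Subtype.ext ?_⟩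
      · show (s * u * r⁻¹) • x.1 = z.1
        rw [mul_smul, mul_smul, ← hrx, inv_smul_smul, hua, hsz]
      · show (s * u * r⁻¹) • y.1 = w.1
        rw [mul_smul, mul_smul, hub, smul_inv_smul]
    · intro x y
      obtain ⟨r, hr, hrx⟩ := hRtr x.1 x.2
      obtain ⟨s, hs, hsy⟩ := hRtr y.1 y.2
      refine ⟨ρ ⟨s * r⁻¹, R.mul_mem hs.1 (R.inv_mem hr.1)⟩, ⟨_, N.mul_mem hs.2 (N.inv_mem hr.2), rfl⟩, Subtype.ext ?_⟩
      show (s * r⁻¹) • x.1 = y.1
      rw [mul_smul, ← hrx, inv_smul_smul, hsy]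
    · -- the 2-part of the group induced on `Fx`
      intro h4
      have hk : S.subgroupOf R ≤ ρ.ker := by
        intro x hx
        rw [MonoidHom.mem_ker]
        exact Equiv.ext fun y => Subtype.ext (y.2 _ hx)
      have h1 := Subgroup.card_eq_card_quotient_mul_card_subgroup ((ρ.comp (N.subgroupOf R).subtype).ker)
      rw [Nat.card_congr (QuotientGroup.quotientKerEquivRange (ρ.comp (N.subgroupOf R).subtype)).toEquiv, MonoidHom.range_comp, Subgroup.range_subtype] at h1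
      have hSR : S ≤ R ⊓ N := fun s hs => hTR (hST hs)
      have h2 : Nat.card S ∣ Nat.card ↥((ρ.comp (N.subgroupOf R).subtype).ker) := by
        rw [← Nat.card_congr (subgroupOfEquivOfLe (fun s hs => (hSR hs).1 : S ≤ R)).toEquiv]
        have hle : S.subgroupOf R ≤ N.subgroupOf R := fun x hx => hSN hx
        rw [← Nat.card_congr (subgroupOfEquivOfLe hle).toEquiv]
        refine Subgroup.card_dvd_of_le ?_
        intro x hx
        rw [MonoidHom.mem_ker, MonoidHom.comp_apply]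
        exact hk hx
      have h3 : 4 * Nat.card S ∣ Nat.card N := by
        refine (Nat.mul_dvd_mul h4 h2).trans (h1 ▸ ?_)
        exact Subgroup.card_dvd_of_injective
          ({ toFun := fun x => (⟨((x : R) : G), x.2⟩ : N), map_one' := rfl, map_mul' := fun _ _ => rfl } : (N.subgroupOf R) →* N)
          (fun x y h => Subtype.ext (Subtype.ext (congrArg (fun z : N => (z : G)) h)))
      rw [hScard, show (4 : ℕ) = 2 ^ 2 by norm_num, ← pow_add,
        Nat.prime_two.pow_dvd_iff_le_factorization Nat.card_pos.ne', hN2] at h3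
      omega
  -- conclusion
  intro b c hba hca
  have hb : ∀ c, c ≠ a → ∃ n ∈ N, n • a = a ∧ n • c ∈ Fx := by
    intro c hca
    -- some other fixed point
    obtain ⟨f, hf, hfa⟩ : ∃ f ∈ Fx, f ≠ a := by
      by_contra hcon
      push Not at hcon
      have : Nat.card Fx = 1 := by
        rw [Nat.card_eq_one_iff_unique]
        exact ⟨⟨fun x y => Subtype.ext ((hcon _ x.2).trans (hcon _ y.2).symm)⟩, ⟨⟨a, haF⟩⟩⟩
      omega
    obtain ⟨g, hg, hga, hgf⟩ := h2 a f a c (Ne.symm hfa) (Ne.symm hca)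
    obtain ⟨h, hh, hS'⟩ := sylow_conj 2 _ _ S (hconj g a hg hga) hSle (by rw [hcardmap, hScard]) hScard
    rw [hmapmap] at hS'
    refine ⟨h, hh.1, hh.2, ?_⟩
    intro s hs
    rw [← hS'] at hs
    obtain ⟨y, hy, rfl⟩ := hs
    show (h * g * y * (h * g)⁻¹) • (h • c) = h • c
    rw [← hgf]
    simp [mul_smul, hf y hy]
  obtain ⟨n, hn', hna, hnb⟩ := hb b hba
  obtain ⟨m, hm', hma, hmc⟩ := hb c hca
  have heq : n • b = m • c := by
    by_contra hne
    have h1 : n • b ≠ a := fun h => hba (smul_left_cancel n (h.trans hna.symm))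
    have h2' : m • c ≠ a := fun h => hca (smul_left_cancel m (h.trans hma.symm))
    haveI := Fintype.ofFinite Fx
    have h3 : ({⟨a, haF⟩, ⟨n • b, hnb⟩, ⟨m • c, hmc⟩} : Finset Fx).card = 3 := by
      rw [Finset.card_eq_three]
      exact ⟨_, _, _, by simp [Ne.symm h1], by simp [Ne.symm h2'], by simp [hne], rfl⟩
    have := Finset.card_le_univ ({⟨a, haF⟩, ⟨n • b, hnb⟩, ⟨m • c, hmc⟩} : Finset Fx)
    rw [h3, ← Nat.card_eq_fintype_card] at this
    omega
  refine ⟨m⁻¹ * n, N.mul_mem (N.inv_mem hm') hn', ?_, ?_⟩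
  · rw [mul_smul, hna, inv_smul_eq_iff, hma]
  · rw [mul_smul, heq, inv_smul_smul]


/-- Let G be a doubly transitive permutation group on a finite set Ω with |Ω| ≡ 2 mod 4 and |Ω| > 2. Then G has a unique minimal normal subgroup M (a nontrivial normal subgroup contained in every nontrivial normal subgroup); M is simple and doubly transitive on Ω, and its centralizer in G is trivial (so G embeds in Aut(M)). -/
theorem result {G : Type*} [Group G] [Finite G] {Ω : Type*} [Fintype Ω] [MulAction G Ω] [FaithfulSMul G Ω]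
    (h2 : MulAction.IsMultiplyPretransitive G Ω 2) (hn : Fintype.card Ω % 4 = 2) (hn2 : 2 < Fintype.card Ω) :
    ∃ M : Subgroup G, M.Normal ∧ M ≠ ⊥ ∧ (∀ N : Subgroup G, N.Normal → N ≠ ⊥ → M ≤ N) ∧
      IsSimpleGroup ↥M ∧ MulAction.IsMultiplyPretransitive ↥M Ω 2 ∧ Subgroup.centralizer (M : Set G) = ⊥ := by
  classical
  have hT2 : T2 (⊤ : Subgroup G) Ω := by
    rw [MulAction.is_two_pretransitive_iff] at h2
    intro a b c d hab hcd
    obtain ⟨g, hg⟩ := h2 hab hcd
    exact ⟨g, Subgroup.mem_top g, hg⟩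
  have hcardΩ : Nat.card Ω % 4 = 2 := by rw [Nat.card_eq_fintype_card]; exact hn
  obtain ⟨a⟩ : Nonempty Ω := Fintype.card_pos_iff.mp (by omega)
  -- two subgroups which are 2-transitive do not commute elementwise
  have hnc : ∀ N₁ N₂ : Subgroup G, T2 N₁ Ω → T2 N₂ Ω → ¬ (∀ x ∈ N₁, ∀ y ∈ N₂, x * y = y * x) := by
    intro N₁ N₂ h1 h2' hc
    obtain ⟨b, hb⟩ := Fintype.exists_ne_of_one_lt_card (show 1 < Fintype.card Ω by omega) a
    obtain ⟨c, hca, hcb⟩ : ∃ c, c ≠ a ∧ c ≠ b := by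
      by_contra hcon
      push Not at hcon
      have : (Finset.univ : Finset Ω) ⊆ {a, b} := fun x _ => by
        rcases eq_or_ne x a with rfl | h
        · simp
        · simp [hcon x h]
      have := (Finset.card_le_card this).trans Finset.card_le_two
      rw [Finset.card_univ] at this
      omega
    obtain ⟨x, hx, hxa, hxb⟩ := h1 a b a c (Ne.symm hb) (Ne.symm hca)
    have hfix : ∀ z : Ω, x • z = z := by
      intro z
      rcases eq_or_ne z a with rfl | hz
      · exact hxa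
      obtain ⟨y, hy, hy1, -⟩ := h2' a b z a (Ne.symm hb) hz
      rw [← hy1, ← mul_smul, hc x hx y hy, mul_smul, hxa]
    exact hcb (by rw [← hxb, hfix b])
  have hmain : ∀ (H : Subgroup G), T2 H Ω → ∀ N : Subgroup G, N ≤ H →
      (∀ g ∈ H, ∀ n ∈ N, g * n * g⁻¹ ∈ N) → N ≠ ⊥ → T2 N Ω :=
    fun H hH N h1 h2' h3 => t2_of_normal H hH hcardΩ N h1 h2' h3
  have hint : ∀ (H : Subgroup G), T2 H Ω → ∀ N₁ N₂ : Subgroup G, N₁ ≤ H → N₂ ≤ H →
      (∀ g ∈ H, ∀ n ∈ N₁, g * n * g⁻¹ ∈ N₁) → (∀ g ∈ H, ∀ n ∈ N₂, g * n * g⁻¹ ∈ N₂) →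
      N₁ ≠ ⊥ → N₂ ≠ ⊥ → N₁ ⊓ N₂ ≠ ⊥ := by
    intro H hH N₁ N₂ a1 a2 b1 b2 c1 c2 h
    refine hnc N₁ N₂ (hmain H hH N₁ a1 b1 c1) (hmain H hH N₂ a2 b2 c2) fun x hx y hy => ?_
    have hmem : x * y * x⁻¹ * y⁻¹ ∈ N₁ ⊓ N₂ := by
      refine ⟨?_, N₂.mul_mem (b2 x (a1 hx) y hy) (N₂.inv_mem hy)⟩
      have := N₁.mul_mem hx (b1 y (a2 hy) x⁻¹ (N₁.inv_mem hx))
      simpa [mul_assoc] using this
    rw [h, Subgroup.mem_bot] at hmem
    exact mul_inv_eq_one.mp hmem |> fun e => mul_inv_eq_iff_eq_mul.mp e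
  -- minimal elements
  have hmin : ∀ (H : Subgroup G), T2 H Ω → ∃ M : Subgroup G, M ≤ H ∧ (∀ g ∈ H, ∀ n ∈ M, g * n * g⁻¹ ∈ M) ∧ M ≠ ⊥ ∧
      ∀ N : Subgroup G, N ≤ H → (∀ g ∈ H, ∀ n ∈ N, g * n * g⁻¹ ∈ N) → N ≠ ⊥ → M ≤ N := by
    intro H hH
    obtain ⟨b, hb⟩ := Fintype.exists_ne_of_one_lt_card (show 1 < Fintype.card Ω by omega) a
    have hHbot : H ≠ ⊥ := by
      rintro rfl
      obtain ⟨h, hh, h1, -⟩ := hH a b b a (Ne.symm hb) hb
      rw [Subgroup.mem_bot] at hh
      rw [hh, one_smul] at h1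
      exact hb h1.symm
    let A : Set (Subgroup G) := {N | N ≤ H ∧ (∀ g ∈ H, ∀ n ∈ N, g * n * g⁻¹ ∈ N) ∧ N ≠ ⊥}
    have hA : A.Nonempty := ⟨H, le_rfl, fun g hg n hn' => H.mul_mem (H.mul_mem hg hn') (H.inv_mem hg), hHbot⟩
    obtain ⟨M, hM⟩ := (Set.toFinite A).exists_minimal hA
    refine ⟨M, hM.1.1, hM.1.2.1, hM.1.2.2, fun N h1 h2' h3 => ?_⟩
    have hmem : M ⊓ N ∈ A := ⟨inf_le_left.trans hM.1.1,
      fun g hg n hn' => ⟨hM.1.2.1 g hg n hn'.1, h2' g hg n hn'.2⟩,
      hint H hH M N hM.1.1 h1 hM.1.2.1 h2' hM.1.2.2 h3⟩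
    exact (hM.2 hmem inf_le_left).trans inf_le_right
  obtain ⟨M, -, hMn, hMbot, hMmin⟩ := hmin ⊤ hT2
  have hMN : M.Normal := ⟨fun n hn' g => hMn g (Subgroup.mem_top g) n hn'⟩
  have hMT2 : T2 M Ω := hmain ⊤ hT2 M le_top hMn hMbot
  refine ⟨M, hMN, hMbot, fun N hN hne => hMmin N le_top (fun g _ n hn' => hN.conj_mem n hn' g) hne, ?_, ?_, ?_⟩
  · obtain ⟨K, hKM, hKn, hKbot, hKmin⟩ := hmin M hMT2
    have hKG : ∀ g ∈ (⊤ : Subgroup G), ∀ n ∈ K, g * n * g⁻¹ ∈ K := by
      intro g _ n hn'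
      have h1 : K.map (MulAut.conj g⁻¹).toMonoidHom ≤ M := by
        rintro _ ⟨k, hk, rfl⟩
        exact hMN.conj_mem k (hKM hk) _
      have h2' : ∀ x ∈ M, ∀ y ∈ K.map (MulAut.conj g⁻¹).toMonoidHom, x * y * x⁻¹ ∈ K.map (MulAut.conj g⁻¹).toMonoidHom := by
        rintro x hx _ ⟨k, hk, rfl⟩
        refine ⟨g * x * g⁻¹ * k * (g * x * g⁻¹)⁻¹, hKn _ (hMN.conj_mem x hx g) k hk, ?_⟩
        simp [mul_assoc]
      have h3 : K.map (MulAut.conj g⁻¹).toMonoidHom ≠ ⊥ := fun h => hKbot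
        ((Subgroup.map_eq_bot_iff_of_injective K (MulAut.conj g⁻¹).injective).mp h)
      obtain ⟨k, hk, he⟩ := hKmin _ h1 h2' h3 hn'
      have hk2 : g * n * g⁻¹ = k := by rw [← he]; simp [mul_assoc]
      rw [hk2]; exact hk
    have hKM' : M ≤ K := hMmin K le_top hKG hKbot
    haveI : Nontrivial M := (Subgroup.nontrivial_iff_ne_bot M).mpr hMbot
    refine ⟨fun J hJ => ?_⟩
    by_cases hJb : J = ⊥
    · exact Or.inl hJb
    right
    have h := hKmin (J.map M.subtype) (Subgroup.map_subtype_le J)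
      (fun g hg n hn' => by
        obtain ⟨j, hj, rfl⟩ := hn'
        exact ⟨⟨g, hg⟩ * j * ⟨g, hg⟩⁻¹, hJ.conj_mem j hj _, rfl⟩)
      (fun h => hJb ((Subgroup.map_eq_bot_iff_of_injective J M.subtype_injective).mp h))
    rw [eq_top_iff]
    intro x _
    obtain ⟨j, hj, he⟩ := h (hKM' x.2)
    have : j = x := Subtype.ext he
    rwa [← this]
  · rw [MulAction.is_two_pretransitive_iff]
    intro p q r s hpq hrs
    obtain ⟨g, hg, h1, h2'⟩ := hMT2 p q r s hpq hrs
    exact ⟨⟨g, hg⟩, h1, h2'⟩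
  · haveI := hMN
    by_contra hne
    have hCn : (Subgroup.centralizer (M : Set G)).Normal := inferInstance
    have hC : T2 (Subgroup.centralizer (M : Set G)) Ω :=
      hmain ⊤ hT2 _ le_top (fun g _ n hn' => hCn.conj_mem n hn' g) hne
    exact hnc M _ hMT2 hC fun x hx y hy => Subgroup.mem_centralizer_iff.mp hy x hx

end Cfsg.Agent.S3401
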