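-- S3406: simple groups with at most five automorphism orbits.
import Cfsg.Statements.S3406
import Cfsg.Agent.S3718
import Cfsg.Agent.S0494
import Cfsg.Agent.S0497

set_option autoImplicit false
open Cfsg

namespace Cfsg.Agent.S3406

open OneEvenOrder

universe u

section

variable {G : Type u} [Group G] [Finite G]

/-- A set of element orders has at most as many members as there are automorphism orbits. -/
theorem card_orders_le (s : Finset ℕ) (hs : ∀ n ∈ s, n ∈ Set.range (orderOf : G → ℕ)) :
    s.card ≤ Nat.card (MulAction.orbitRel.Quotient (MulAut G) G) := by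
  classical
  choose f hf using hs
  rw [← Nat.card_eq_finsetCard]
  refine Nat.card_le_card_of_injective
    (fun n : s => (⟦f n.1 n.2⟧ : MulAction.orbitRel.Quotient (MulAut G) G)) fun a b hab => ?_
  obtain ⟨φ, hφ⟩ := MulAction.orbitRel_apply.1 (Quotient.exact hab)
  apply Subtype.ext
  rw [← hf a.1 a.2, ← hf b.1 b.2, ← hφ]
  exact MulEquiv.orderOf_eq φ _

/-- Six distinct orders are too many. -/
theorem no_six (h5 : Nat.card (MulAction.orbitRel.Quotient (MulAut G) G) ≤ 5) (l : List ℕ)
    (hl : l.length = 6) (hd : l.Nodup) (hs : ∀ n ∈ l, n ∈ Set.range (orderOf : G → ℕ)) : False := by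
  have := card_orders_le (G := G) l.toFinset fun n hn => hs n (List.mem_toFinset.1 hn)
  rw [List.toFinset_card_of_nodup hd, hl] at this
  omega

theorem prime_mem {p : ℕ} (hp : p.Prime) (hd : p ∣ Nat.card G) : p ∈ Set.range (orderOf : G → ℕ) := by
  haveI := Fact.mk hp
  obtain ⟨x, hx⟩ := exists_prime_orderOf_dvd_card' p hd
  exact ⟨x, hx⟩

theorem one_mem : 1 ∈ Set.range (orderOf : G → ℕ) := ⟨1, orderOf_one⟩

end

/-- An element of order four in `PSL₃` in characteristic two. -/
theorem four_mem_psl_three {F : Type} [Field F] [CharP F 2] :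
    4 ∈ Set.range (orderOf : Matrix.ProjectiveSpecialLinearGroup (Fin 3) F → ℕ) := by
  haveI : Fact (Nat.Prime 2) := ⟨Nat.prime_two⟩
  have h2 : (1 : F) + 1 = 0 := CharTwo.add_self_eq_zero 1
  let u : Matrix.SpecialLinearGroup (Fin 3) F :=
    ⟨!![1, 1, 0; 0, 1, 1; 0, 0, 1], by simp [Matrix.det_fin_three]⟩
  have hu2 : ((u ^ 2 : Matrix.SpecialLinearGroup (Fin 3) F) : Matrix (Fin 3) (Fin 3) F)
      = !![1, 0, 1; 0, 1, 0; 0, 0, 1] := by
    rw [Matrix.SpecialLinearGroup.coe_pow]
    ext i j
    fin_cases i <;> fin_cases j <;> simp [u, pow_two, Matrix.mul_apply, Fin.sum_univ_three, h2]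
  have hu4 : u ^ 4 = 1 := by
    apply Subtype.ext
    rw [show (4 : ℕ) = 2 * 2 by rfl, pow_mul, Matrix.SpecialLinearGroup.coe_pow, hu2]
    ext i j
    fin_cases i <;> fin_cases j <;> simp [pow_two, Matrix.mul_apply, Fin.sum_univ_three, h2]
  refine ⟨QuotientGroup.mk u, orderOf_eq_prime_pow (p := 2) (n := 1) ?_ ?_⟩
  · intro h
    rw [← QuotientGroup.mk_pow, QuotientGroup.eq_one_iff, pow_one,
      Matrix.SpecialLinearGroup.mem_center_iff] at h
    obtain ⟨r, -, hr⟩ := h
    have := congrFun (congrFun hr 0) 2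
    rw [hu2] at this
    simp at this
  · rw [← QuotientGroup.mk_pow, show 2 ^ (1 + 1) = 4 by rfl, hu4]
    rfl

/-- A non-abelian finite simple group on whose elements the full automorphism group has at most five orbits is isomorphic to the alternating group of degree 5 or 6, to PSL(2, 7) or to PSL(2, 8). -/
theorem result {G : Type*} [Group G] [Finite G] [IsSimpleGroup G] (hG : ¬ IsMulCommutative G)
    (h5 : Nat.card (MulAction.orbitRel.Quotient (MulAut G) G) ≤ 5) :
    Nonempty (G ≃* ↥(alternatingGroup (Fin 5))) ∨ Nonempty (G ≃* ↥(alternatingGroup (Fin 6))) ∨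
      (∃ (F : Type) (_ : Field F) (_ : Fintype F), (Fintype.card F = 7 ∨ Fintype.card F = 8) ∧
        Nonempty (G ≃* Matrix.ProjectiveSpecialLinearGroup (Fin 2) F)) := by
  classical
  have hns : ¬ Group.IsSolvable G := fun h => hG ⟨⟨IsSimpleGroup.comm_iff_isSolvable.2 h⟩⟩
  obtain ⟨p, q, r, hp, hq, hr, hpd, hqd, hrd, hpq, hpr, hqr⟩ : ∃ p q r : ℕ, p.Prime ∧ q.Prime ∧
      r.Prime ∧ p ∣ Nat.card G ∧ q ∣ Nat.card G ∧ r ∣ Nat.card G ∧ p ≠ q ∧ p ≠ r ∧ q ≠ r := by
    by_contra hcon
    push Not at hcon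
    apply hns
    by_cases h1 : ∃ p : ℕ, p.Prime ∧ p ∣ Nat.card G
    · obtain ⟨p, hp, hpd⟩ := h1
      by_cases h2 : ∃ q : ℕ, q.Prime ∧ q ∣ Nat.card G ∧ q ≠ p
      · obtain ⟨q, hq, hqd, hqp⟩ := h2
        refine ItoSizes.isSolvable_of_two_primes hp hq fun r hr hd => ?_
        by_contra hne
        push Not at hne
        exact hne.2 (hcon p q r hp hq hr hpd hqd hd hqp.symm hne.1.symm).symm
      · push Not at h2
        exact ItoSizes.isSolvable_of_two_primes hp hp fun r hr hd => Or.inl (h2 r hr hd)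
    · push Not at h1
      exact ItoSizes.isSolvable_of_two_primes Nat.prime_two Nat.prime_two fun r hr hd =>
        absurd hd (h1 r hr)
  have hsub : {n : ℕ | n ∈ Set.range (orderOf : G → ℕ) ∧ 1 < n ∧ ¬ n.Prime}.Subsingleton := by
    rintro a ⟨ha, ha1, ha2⟩ b ⟨hb, hb1, hb2⟩
    by_contra hab
    refine no_six h5 [1, p, q, r, a, b] rfl ?_ ?_
    · have := hp.one_lt
      have := hq.one_lt
      have := hr.one_lt
      have ne : ∀ {x y : ℕ}, x.Prime → ¬ y.Prime → x ≠ y := fun hx hy h => hy (h ▸ hx)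
      simp only [List.nodup_cons, List.mem_cons, List.not_mem_nil, or_false, not_or, List.nodup_nil,
        and_true, not_false_eq_true]
      exact ⟨⟨by omega, by omega, by omega, by omega, by omega⟩, ⟨hpq, hpr, ne hp ha2, ne hp hb2⟩,
        ⟨hqr, ne hq ha2, ne hq hb2⟩, ⟨ne hr ha2, ne hr hb2⟩, hab⟩
    · simp only [List.forall_mem_cons, List.not_mem_nil, false_imp_iff, implies_true, and_true]
      exact ⟨one_mem, prime_mem hp hpd, prime_mem hq hqd, prime_mem hr hrd, ha, hb⟩
  haveI : Fact (Nat.Prime 2) := ⟨Nat.prime_two⟩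
  haveI : Fact (Nat.Prime 3) := ⟨Nat.prime_three⟩
  haveI : Fact (Nat.Prime 11) := ⟨by norm_num⟩
  haveI : Fact (Nat.Prime 13) := ⟨by norm_num⟩
  rcases S3718.result hsub with h | ⟨F, _, _, hF, ⟨e⟩⟩ | ⟨F, _, _, hF, ⟨e⟩⟩ | ⟨F, _, _, hF, ⟨e⟩⟩ |
      ⟨F, _, _, n, r, s, hr, hs, h3, h4, hF, ⟨e⟩⟩ | ⟨F, _, _, n, r, hM, hr, h3, hF, ⟨e⟩⟩
  · haveI := Fact.mk h
    haveI := isCyclic_of_prime_card (α := G) rfl
    exact absurd ⟨⟨IsCyclic.commGroup.mul_comm⟩⟩ hG
  · have hc := PSL2.card_psl_mul (F := F)
    rw [Nat.card_eq_fintype_card (α := F)] at hc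
    have hce : Nat.card G = Nat.card (Matrix.ProjectiveSpecialLinearGroup (Fin 2) F) :=
      Nat.card_congr e.toEquiv
    rcases hF with hF | hF | hF | hF | hF | hF | hF
    · rw [hF, ← hce] at hc
      exact Or.inl (S0494.result (by norm_num at hc; omega))
    · exact Or.inr (Or.inr ⟨F, _, _, Or.inl hF, ⟨e⟩⟩)
    · exact Or.inr (Or.inr ⟨F, _, _, Or.inr hF, ⟨e⟩⟩)
    · rw [hF, ← hce] at hc
      exact Or.inr (Or.inl (S0497.result (by norm_num at hc; omega)))
    · haveI : CharP F 11 := charP_of_card_eq_prime_pow (f := 1) (by rw [hF]; norm_num)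
      exfalso
      refine no_six h5 [1, 2, 3, 5, 6, 11] rfl (by decide) fun m hm =>
        (psl_range_odd (l := 11) (a := 5) hF e m).2 ?_
      fin_cases hm <;> simp +decide [OddOrders]
    · haveI : CharP F 13 := charP_of_card_eq_prime_pow (f := 1) (by rw [hF]; norm_num)
      exfalso
      refine no_six h5 [1, 2, 3, 6, 7, 13] rfl (by decide) fun m hm =>
        (psl_range_odd (l := 13) (a := 6) hF e m).2 ?_
      fin_cases hm <;> simp +decide [OddOrders]
    · exfalso
      refine no_six h5 [1, 2, 3, 5, 15, 17] rfl (by decide) fun m hm =>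
        (psl_range_even (n := 4) (by norm_num) hF e m).2 ?_
      fin_cases hm <;> simp +decide [EvenOrders]
  · exfalso
    haveI : CharP F 2 := charP_of_card_eq_prime_pow (f := 2) (by rw [hF]; norm_num)
    have hc := GLOrder.card_PSL_mul (ι := Fin 3) (F := F)
    rw [Fintype.card_fin, GLOrder.card_SL, Nat.card_eq_fintype_card (α := F), hF,
      ← Nat.card_congr e.toEquiv] at hc
    norm_num [Finset.prod_Ico_succ_top] at hc
    refine no_six h5 [1, 2, 3, 4, 5, 7] rfl (by decide) ?_
    simp only [List.forall_mem_cons, List.not_mem_nil, false_imp_iff, implies_true, and_true]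
    refine ⟨one_mem, prime_mem (by norm_num) ?_, prime_mem (by norm_num) ?_, ?_,
      prime_mem (by norm_num) ?_, prime_mem (by norm_num) ?_⟩
    case refine_3 =>
      obtain ⟨x, hx⟩ := four_mem_psl_three (F := F)
      exact ⟨e.symm x, by rw [MulEquiv.orderOf_eq, hx]⟩
    all_goals omega
  · exfalso
    have hF' : Fintype.card F = 2 ^ (2 * 1 + 1) := by rw [hF]; norm_num
    let e' : G ≃* Cfsg.Sz F 1 :=
      (e.trans (MulEquiv.subgroupCongr (by norm_num))).trans (Suzuki.lieEquiv le_rfl hF').symm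
    have hc : Nat.card G = 29120 := by
      rw [Nat.card_congr e'.toEquiv, Suzuki.card_sz le_rfl hF']
      norm_num
    refine no_six h5 [1, 2, 4, 5, 7, 13] rfl (by decide) ?_
    simp only [List.forall_mem_cons, List.not_mem_nil, false_imp_iff, implies_true, and_true]
    refine ⟨one_mem, prime_mem (by norm_num) (by rw [hc]; norm_num), ?_,
      prime_mem (by norm_num) (by rw [hc]; norm_num), prime_mem (by norm_num) (by rw [hc]; norm_num),
      prime_mem (by norm_num) (by rw [hc]; norm_num)⟩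
    by_contra hno
    have hdvd : Monoid.exponent (Suzuki.uSub hF') ∣ 2 := by
      refine Monoid.exponent_dvd_of_forall_pow_eq_one fun x => ?_
      have hx4 : orderOf x ∣ 2 ^ 2 := by
        have := Monoid.order_dvd_exponent x
        rwa [Suzuki.exponent_uSub] at this
      obtain ⟨j, hj, hj'⟩ := (Nat.dvd_prime_pow Nat.prime_two).1 hx4
      have hj1 : j ≤ 1 := by
        by_contra hgt
        refine hno ⟨e'.symm (x : Cfsg.Sz F 1), ?_⟩
        rw [MulEquiv.orderOf_eq, Subgroup.orderOf_coe, hj', show j = 2 by omega]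
        norm_num
      exact orderOf_dvd_iff_pow_eq_one.1 (hj' ▸ (pow_dvd_pow 2 hj1).trans (pow_one 2).dvd)
    rw [Suzuki.exponent_uSub] at hdvd
    norm_num at hdvd
  · exfalso
    have hq : Fintype.card F = 2 * r + 1 := by omega
    haveI : CharP F 3 := charP_of_card_eq_prime_pow (f := n) hF
    have := hr.two_le
    have := hs.two_le
    have hs2 : s ≠ 2 := by
      rintro rfl
      rcases n with _ | _ | n <;> norm_num at h4
      rw [pow_succ, pow_succ] at h4
      omega
    have hs3 : s ≠ 3 := by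
      rintro rfl
      rcases n with _ | _ | _ | n <;> norm_num at h4
      rw [pow_succ, pow_succ, pow_succ] at h4
      omega
    refine no_six h5 [1, 2, 3, r, s, 2 * s] rfl ?_ fun m hm =>
      (psl_range_odd (l := 3) (a := r) hq e m).2 ?_
    · simp only [List.nodup_cons, List.mem_cons, List.not_mem_nil, or_false, not_or, List.nodup_nil,
        and_true, not_false_eq_true]
      exact ⟨⟨by omega, by omega, by omega, by omega, by omega⟩, ⟨by omega, by omega, by omega, by omega⟩,
        ⟨by omega, by omega, by omega⟩, ⟨by omega, fun h => Nat.not_prime_mul (by omega) (by omega) (h ▸ hr)⟩,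
        by omega⟩
    · have hr1 : r + 1 = 2 * s := by omega
      simp only [List.mem_cons, List.not_mem_nil, or_false] at hm
      rcases hm with rfl | rfl | rfl | rfl | rfl | rfl
      · exact Or.inl (one_dvd _)
      · exact Or.inr (Or.inr ⟨s, hr1⟩)
      · exact Or.inl dvd_rfl
      · exact Or.inr (Or.inl dvd_rfl)
      · exact Or.inr (Or.inr ⟨2, by rw [hr1, Nat.mul_comm]⟩)
      · exact Or.inr (Or.inr (hr1 ▸ dvd_rfl))
  · by_cases hr3 : r = 3
    · exact Or.inr (Or.inr ⟨F, _, _, Or.inr (by omega), ⟨e⟩⟩)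
    exfalso
    have := hr.two_le
    have := hM.two_le
    have hn : 1 ≤ n := by
      rcases n with _ | n
      · norm_num at h3
        omega
      · omega
    have h2n : 2 ∣ 2 ^ n := dvd_pow_self 2 (by omega)
    refine no_six h5 [1, 2, 3, r, 2 ^ n - 1, 3 * r] rfl ?_ fun m hm =>
      (psl_range_even hn hF e m).2 ?_
    · simp only [List.nodup_cons, List.mem_cons, List.not_mem_nil, or_false, not_or, List.nodup_nil,
        and_true, not_false_eq_true]
      exact ⟨⟨by omega, by omega, by omega, by omega, by omega⟩, ⟨by omega, by omega, by omega, by omega⟩,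
        ⟨by omega, by omega, by omega⟩, ⟨by omega, by omega⟩, by omega⟩
    · simp only [List.mem_cons, List.not_mem_nil, or_false] at hm
      rcases hm with rfl | rfl | rfl | rfl | rfl | rfl
      · exact Or.inl (one_dvd _)
      · exact Or.inl dvd_rfl
      · exact Or.inr (Or.inr ⟨_, h3⟩)
      · exact Or.inr (Or.inr (h3 ▸ dvd_mul_left _ _))
      · exact Or.inr (Or.inl dvd_rfl)
      · exact Or.inr (Or.inr (h3 ▸ dvd_rfl))

end Cfsg.Agent.S3406
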