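import Cfsg.Statements.S3412
import Cfsg.Agent.EqLemmas
import Cfsg.Agent.S0249
import Cfsg.Agent.Lib.CommutingGraph.L33Check
-- import your own Cfsg.Agent.* helpers here

set_option autoImplicit false
open Cfsg

namespace Cfsg.Agent.S3412

/-- Let H be a finite group whose commuting graph (vertices the non-identity elements, two joined when they commute) is isomorphic to that of PSL_3(3): there is a bijection between the non-identity elements of H and of PSL_3(3) under which two elements commute exactly when their images do. Then H ≅ PSL_3(3). -/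
theorem result {H : Type*} [Group H] [Finite H]
    (f : {h : H // h ≠ 1} ≃ {g : Matrix.ProjectiveSpecialLinearGroup (Fin 3) (ZMod 3) // g ≠ 1})
    (hf : ∀ x y : {h : H // h ≠ 1}, (x : H) * y = y * x ↔ ((f x) : Matrix.ProjectiveSpecialLinearGroup (Fin 3) (ZMod 3)) * (f y) = (f y) * (f x)) :
    Nonempty (H ≃* Matrix.ProjectiveSpecialLinearGroup (Fin 3) (ZMod 3)) := by
  -- the centre of `SL(3, 3)` is trivial
  have hbot : Subgroup.center (Matrix.SpecialLinearGroup (Fin 3) (ZMod 3)) = ⊥ := by
    refine (Subgroup.eq_bot_iff_forall _).mpr fun A hA => ?_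
    obtain ⟨r, hr, hA⟩ := Matrix.SpecialLinearGroup.mem_center_iff.mp hA
    rw [Fintype.card_fin] at hr
    have hr1 : r = 1 := (by decide : ∀ r : ZMod 3, r ^ 3 = 1 → r = 1) r hr
    subst hr1
    exact Subtype.ext (by rw [← hA]; simp)
  let e : Matrix.SpecialLinearGroup (Fin 3) (ZMod 3) ≃*
      Matrix.ProjectiveSpecialLinearGroup (Fin 3) (ZMod 3) :=
    MulEquiv.ofBijective (QuotientGroup.mk' _)
      ⟨(MonoidHom.ker_eq_bot_iff _).mp (by rw [QuotientGroup.ker_mk', hbot]),
        QuotientGroup.mk'_surjective _⟩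
  have : IsSimpleGroup (Matrix.ProjectiveSpecialLinearGroup (Fin 3) (ZMod 3)) :=
    Cfsg.Agent.S0249.result 3 le_rfl
  have : IsSimpleGroup (Matrix.SpecialLinearGroup (Fin 3) (ZMod 3)) := e.isSimpleGroup
  obtain ⟨i⟩ := Cfsg.Agent.CommGraph.iso_of_checks Cfsg.Agent.CommGraph.L33.coding (n := 117)
    (t := Cfsg.Agent.CommGraph.L33.t) (one := Cfsg.Agent.CommGraph.L33.one)
    Cfsg.Agent.CommGraph.L33.natCard_eq
    (by rw [Cfsg.Agent.CommGraph.L33.natCard_eq]; norm_num) (by norm_num)
    Cfsg.Agent.CommGraph.L33.rep_one Cfsg.Agent.CommGraph.L33.orderOf_t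
    Cfsg.Agent.CommGraph.L33.centralizer_check Cfsg.Agent.CommGraph.L33.complete
    Cfsg.Agent.CommGraph.L33.family_check Cfsg.Agent.CommGraph.L33.rows_check
    Cfsg.Agent.CommGraph.L33.graph_check
    (f.trans (e.symm.toEquiv.subtypeEquiv fun g => by simp))
    (fun x y => by
      refine (hf x y).trans ?_
      show _ ↔ e.symm (f x).1 * e.symm (f y).1 = e.symm (f y).1 * e.symm (f x).1
      rw [← map_mul, ← map_mul, e.symm.injective.eq_iff])
  exact ⟨i.trans e⟩

end Cfsg.Agent.S3412
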