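import Cfsg.Statements.S3413
import Cfsg.Agent.EqLemmas
import Cfsg.Agent.S0387
import Cfsg.Agent.Lib.Golay.Mathieu
import Cfsg.Agent.Lib.CommutingGraph.M11Check
-- import your own Cfsg.Agent.* helpers here

set_option autoImplicit false
open Cfsg

namespace Cfsg.Agent.S3413

open scoped Pointwise
open Cfsg.Agent Cfsg.Agent.Golay Cfsg.Agent.CommGraph

theorem simple : IsSimpleGroup ↥Cfsg.Spor.M11 :=
  isSimpleGroup_m11 (pts_dodecad0 ▸ dodecad0_mem) (by decide +kernel)

theorem card_eq : Nat.card ↥Cfsg.Spor.M11 = 48 * 165 := by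
  rw [M11.m11_eq_fix, GolayOrbits.natCard_Fix_chain.1]

theorem complete (k : ↥Cfsg.Spor.M11) (hk : k * M11.rep M11.t = M11.rep M11.t * k) :
    ∃ c ∈ M11.C, M11.rep c = k := by
  obtain ⟨ht, htok⟩ := Bool.and_eq_true_iff.mp M11.t_eq
  have hk' : (k : Equiv.Perm GolayPt) * toPerm GolayOrbits.invol0 =
      toPerm GolayOrbits.invol0 * k := by
    have := congrArg Subtype.val hk
    rwa [Subgroup.coe_mul, Subgroup.coe_mul, M11.coe_rep htok, beq_iff_eq.mp ht] at this
  obtain ⟨m, hm, hinv, he⟩ := GolayOrbits.exists_cent_index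
    (GolayOrbits.mem_Cent0.mpr ⟨M11.m11_eq_fix ▸ k.2, hk'⟩)
  have h := List.all_eq_true.mp M11.centTable_sub m (List.mem_range.mpr hm)
  rw [hinv, Bool.not_true, Bool.false_or, List.contains_iff_mem] at h
  have hc := M11.centralizer_check
  simp only [checkCentralizer, Bool.and_eq_true, List.all_eq_true] at hc
  exact ⟨_, h, Subtype.ext (by rw [M11.coe_rep (hc.2 _ h).1.1, he])⟩


/-- Let H be a finite group whose commuting graph (vertices the non-identity elements, two joined when they commute) is isomorphic to that of the Mathieu group M_11: there is a bijection between the non-identity elements of H and of M_11 under which two elements commute exactly when their images do. Then H ≅ M_11. -/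
theorem result {H : Type*} [Group H] [Finite H]
    (f : {h : H // h ≠ 1} ≃ {g : ↥Cfsg.Spor.M11 // g ≠ 1})
    (hf : ∀ x y : {h : H // h ≠ 1}, (x : H) * y = y * x ↔ ((f x) : ↥Cfsg.Spor.M11) * (f y) = (f y) * (f x)) :
    Nonempty (H ≃* ↥Cfsg.Spor.M11) := by
  have := simple
  have hone : M11.rep M11.one = 1 := by
    obtain ⟨h1, h1ok⟩ := Bool.and_eq_true_iff.mp M11.one_eq
    exact Subtype.ext (by
      rw [M11.coe_rep h1ok, beq_iff_eq.mp h1, GolayOrbits.toPerm_idCode]; rfl)
  have hord : orderOf (M11.rep M11.t) = 2 := by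
    obtain ⟨ht, htok⟩ := Bool.and_eq_true_iff.mp M11.t_eq
    rw [← Subgroup.orderOf_coe, M11.coe_rep htok, beq_iff_eq.mp ht]
    refine orderOf_eq_prime (by rw [pow_two, GolayOrbits.invol0_mul_self]) fun h => ?_
    have h5 := congrArg idx (Equiv.congr_fun h (pt 5))
    rw [idx_toPerm GolayOrbits.invol0_valid, Equiv.Perm.one_apply] at h5
    revert h5
    decide +kernel
  exact iso_of_checks M11.coding (n := 165) (t := M11.t) (one := M11.one) card_eq
    (by rw [card_eq]; norm_num) (by norm_num) hone hord M11.centralizer_check complete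
    M11.family_check M11.rows_check M11.graph_check f hf

end Cfsg.Agent.S3413
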