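import Cfsg.Statements.S3420
import Cfsg.Agent.Lib.TwoPrimes.Basic

set_option autoImplicit false
open Cfsg

namespace Cfsg.Agent.S3420

open Nat in
theorem factorization_factorial_half {p n : ℕ} (hp : p.Prime) (h1 : n < 2 * p) (h2 : p ≤ n) :
    n.factorial.factorization p = 1 := by
  rw [Nat.factorization_factorial hp (b := 2)]
  · simp only [Finset.sum_Ico_succ_top (by norm_num : (1 : ℕ) ≤ 1), Finset.Ico_self, Finset.sum_empty, zero_add, pow_one]
    exact Nat.div_eq_of_lt_le (by omega) (by omega)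
  · apply Nat.log_lt_of_lt_pow (by omega)
    calc n < 2 * p := h1
      _ ≤ p ^ 2 := by rw [pow_two]; exact Nat.mul_le_mul_right p hp.two_le

theorem card_alt {n : ℕ} (hn : 2 ≤ n) : Nat.card ↥(alternatingGroup (Fin n)) * 2 = n.factorial := by
  have : Nontrivial (Fin n) := Fin.nontrivial_iff_two_le.mpr hn
  have := two_mul_card_alternatingGroup (α := Fin n)
  rw [mul_comm, Nat.card_eq_fintype_card]
  simpa [Fintype.card_perm] using this

theorem factorization_card_alt {n p : ℕ} (hn : 2 ≤ n) (hp : p.Prime) (hp2 : p ≠ 2) :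
    (Nat.card ↥(alternatingGroup (Fin n))).factorization p = n.factorial.factorization p := by
  rw [← card_alt hn, Nat.factorization_mul Nat.card_pos.ne' (by norm_num), Finsupp.add_apply,
    Nat.prime_two.factorization, Finsupp.single_eq_of_ne hp2, add_zero]

theorem alt_no_pq {n p q : ℕ} (hp : p.Prime) (hq : q.Prime) (hne : p ≠ q) (h : n < p + q)
    (x : ↥(alternatingGroup (Fin n))) : orderOf x ≠ p * q := by
  intro hx
  rw [← Subgroup.orderOf_coe] at hx
  set σ : Equiv.Perm (Fin n) := x.1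
  have hdvd : ∀ r : ℕ, r.Prime → r ∣ p * q → ∃ c ∈ σ.cycleType, r ∣ c := by
    intro r hr hd
    by_contra hc
    push Not at hc
    have h0 : ∀ s : Multiset ℕ, (∀ c ∈ s, ¬ r ∣ c) → ¬ r ∣ s.lcm := by
      intro s
      induction s using Multiset.induction with
      | empty => intro _; simpa using hr.one_lt.ne'
      | cons a s ih =>
        intro hs hd
        rw [Multiset.lcm_cons] at hd
        rcases hr.dvd_mul.mp (hd.trans (lcm_dvd (dvd_mul_right a _) (dvd_mul_left _ a))) with h | h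
        · exact hs a (Multiset.mem_cons_self _ _) h
        · exact ih (fun c hc => hs c (Multiset.mem_cons_of_mem hc)) h
    refine h0 _ hc ?_
    rw [Equiv.Perm.lcm_cycleType, hx]
    exact hd
  obtain ⟨c, hc, hpc⟩ := hdvd p hp (dvd_mul_right p q)
  obtain ⟨d, hd, hqd⟩ := hdvd q hq (dvd_mul_left q p)
  have hsum : σ.cycleType.sum ≤ n := by simpa using σ.sum_cycleType_le
  have hcpos : 0 < c := lt_of_lt_of_le two_pos (Equiv.Perm.two_le_of_mem_cycleType hc)
  have hdpos : 0 < d := lt_of_lt_of_le two_pos (Equiv.Perm.two_le_of_mem_cycleType hd)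
  have hp' := Nat.le_of_dvd hcpos hpc
  have hq' := Nat.le_of_dvd hdpos hqd
  obtain ⟨t, ht⟩ := Multiset.exists_cons_of_mem hc
  rw [ht, Multiset.sum_cons] at hsum
  rw [ht, Multiset.mem_cons] at hd
  rcases hd with rfl | hd
  · have h1 := Nat.le_of_dvd hcpos (((Nat.coprime_primes hp hq).mpr hne).mul_dvd_of_dvd_of_dvd hpc hqd)
    have : p + q ≤ p * q := Nat.add_le_mul hp.two_le hq.two_le
    omega
  · obtain ⟨t', rfl⟩ := Multiset.exists_cons_of_mem hd
    rw [Multiset.sum_cons] at hsum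
    omega

theorem exists_orderOf_of_map {G Q : Type*} [Group G] [Finite G] [Group Q] (f : G →* Q)
    (hf : Function.Surjective f) (z : Q) : ∃ x : G, orderOf x = orderOf z := by
  obtain ⟨x, rfl⟩ := hf z
  exact ⟨x ^ (orderOf x / orderOf (f x)), orderOf_pow_orderOf_div (orderOf_pos x).ne' (orderOf_map_dvd f x)⟩

/-- An element of order `s` normalising a subgroup of order `r` gives an element of order `r * s`. -/
theorem exists_orderOf_mul {G : Type*} [Group G] [Finite G] {r s : ℕ} (hr : r.Prime) (hs : s.Prime)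
    (hne : r ≠ s) (hdiv : ¬ s ∣ r - 1) (R : Subgroup G) (hR : Nat.card R = r) (y : G) (hy : orderOf y = s)
    (hn : y ∈ Subgroup.normalizer (R : Set G)) : ∃ z : G, orderOf z = r * s := by
  have := Fact.mk hr
  obtain ⟨x, hx⟩ := exists_prime_orderOf_dvd_card' (G := R) r (dvd_of_eq hR.symm)
  have hxG : orderOf (x : G) = r := by rw [Subgroup.orderOf_coe, hx]
  have htop : Subgroup.zpowers x = ⊤ := Subgroup.eq_top_of_card_eq _ (by rw [Nat.card_zpowers, hx, hR])
  have hconj : y * x * y⁻¹ ∈ R := (Subgroup.mem_normalizer_iff.mp hn x).mp x.2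
  obtain ⟨k, hk⟩ := (mem_powers_iff_mem_zpowers).mpr (htop ▸ Subgroup.mem_top (⟨_, hconj⟩ : R) : (⟨_, hconj⟩ : R) ∈ Subgroup.zpowers x)
  have hk' : y * x * y⁻¹ = (x : G) ^ k := by rw [← SubmonoidClass.coe_pow]; exact (congrArg Subtype.val hk).symm
  have hiter : ∀ m : ℕ, y ^ m * x * (y ^ m)⁻¹ = (x : G) ^ (k ^ m) := by
    intro m
    induction m with
    | zero => simp
    | succ m ih =>
      rw [pow_succ, show y ^ m * y * (x : G) * (y ^ m * y)⁻¹ = MulAut.conj (y ^ m) (y * x * y⁻¹) by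
        rw [MulAut.conj_apply]; group, hk', map_pow, MulAut.conj_apply, ih, ← pow_mul, pow_succ]
  have h1 := hiter s
  rw [← hy, pow_orderOf_eq_one, hy, one_mul, inv_one, mul_one] at h1
  have h2 : (k : ZMod r) ^ s = 1 := by
    have := pow_eq_pow_iff_modEq.mp (h1.symm.trans (pow_one (x : G)).symm)
    rw [hxG, ← ZMod.natCast_eq_natCast_iff] at this
    simpa using this
  have h3 : (k : ZMod r) = 1 := by
    have hu : IsUnit (k : ZMod r) := IsUnit.of_pow_eq_one h2 hs.ne_zero
    obtain ⟨u, hu⟩ := hu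
    have hus : u ^ s = 1 := Units.ext (by simp [hu, h2])
    rcases (Nat.dvd_prime hs).mp (orderOf_dvd_of_pow_eq_one hus) with h | h
    · rw [← hu, orderOf_eq_one_iff.mp h, Units.val_one]
    · refine absurd ?_ hdiv
      rw [← h, ← Nat.totient_prime hr, ← ZMod.card_units_eq_totient]
      exact orderOf_dvd_card
  have h4 : y * x * y⁻¹ = (x : G) := by
    rw [hk']
    conv_rhs => rw [← pow_one (x : G)]
    apply pow_eq_pow_iff_modEq.mpr
    rw [hxG, ← ZMod.natCast_eq_natCast_iff]
    simpa using h3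
  have hc : Commute (x : G) y := (mul_inv_eq_iff_eq_mul.mp h4).symm
  exact ⟨_, by rw [hc.orderOf_mul_eq_mul_orderOf_of_coprime (by rw [hxG, hy]; exact (Nat.coprime_primes hr hs).mpr hne), hxG, hy]⟩

theorem exists_quotient {G : Type*} [Group G] [Finite G] (π : Set ℕ) (hπ : ∀ r ∈ π, r.Prime) :
    ∃ N : Subgroup G, ∃ _ : N.Normal, (∀ r ∈ π, ¬ r ∣ Nat.card N) ∧
      ∀ M : Subgroup (G ⧸ N), M.Normal → M ≠ ⊥ → ∃ r ∈ π, r ∣ Nat.card M := by
  let S := {N : Subgroup G | N.Normal ∧ ∀ r ∈ π, ¬ r ∣ Nat.card N}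
  have hne : S.Nonempty := ⟨⊥, inferInstance, fun r hr h => (hπ r hr).one_lt.ne' (by simpa using h)⟩
  obtain ⟨N, ⟨hN, hNr⟩, hmax⟩ := (Set.toFinite S).exists_maximal hne
  refine ⟨N, hN, hNr, fun M hM hM0 => ?_⟩
  by_contra hc
  push Not at hc
  have hle : N ≤ M.comap (QuotientGroup.mk' N) := (QuotientGroup.ker_mk' N).ge.trans (MonoidHom.ker_le_comap _ _)
  have hmem : M.comap (QuotientGroup.mk' N) ∈ S := by
    refine ⟨hM.comap _, fun r hr h => ?_⟩
    have hcard : Nat.card ↥(M.comap (QuotientGroup.mk' N)) = Nat.card N * Nat.card M := by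
      have h1 := (M.comap (QuotientGroup.mk' N)).card_mul_index
      rw [Subgroup.index_comap_of_surjective M (QuotientGroup.mk'_surjective N), ← N.card_mul_index,
        show N.index = Nat.card (G ⧸ N) from rfl, ← M.card_mul_index, ← mul_assoc] at h1
      exact Nat.eq_of_mul_eq_mul_right (Nat.pos_of_ne_zero Subgroup.index_ne_zero_of_finite) h1
    rw [hcard] at h
    rcases (hπ r hr).dvd_mul.mp h with h | h
    · exact hNr r hr h
    · exact hc r hr h
  apply hM0
  have heq := le_antisymm (hmax hmem hle) hle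
  rw [← Subgroup.map_comap_eq_self_of_surjective (QuotientGroup.mk'_surjective N) M, heq, QuotientGroup.map_mk'_self]

theorem card_quotient_factorization {G : Type*} [Group G] [Finite G] (N : Subgroup G) [N.Normal] {r : ℕ}
    (h : ¬ r ∣ Nat.card N) : (Nat.card (G ⧸ N)).factorization r = (Nat.card G).factorization r := by
  rw [← N.card_mul_index, Nat.factorization_mul Nat.card_pos.ne' Subgroup.index_ne_zero_of_finite, Finsupp.add_apply,
    Nat.factorization_eq_zero_of_not_dvd h, zero_add]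
  rfl

theorem exists_minimal_normal (Q : Type*) [Group Q] [Finite Q] [Nontrivial Q] :
    ∃ M : Subgroup Q, M.Normal ∧ M ≠ ⊥ ∧ ∀ M' : Subgroup Q, M'.Normal → M' ≠ ⊥ → M' ≤ M → M' = M := by
  obtain ⟨M, ⟨h1, h2⟩, hmin⟩ := (Set.toFinite {M : Subgroup Q | M.Normal ∧ M ≠ ⊥}).exists_minimal
    ⟨⊤, inferInstance, top_ne_bot⟩
  exact ⟨M, h1, h2, fun M' a b hle => le_antisymm hle (hmin ⟨a, b⟩ hle)⟩

theorem sylow_of_abelian_minimal {Q : Type*} [Group Q] [Finite Q] (M : Subgroup Q) [M.Normal]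
    (hmin : ∀ M' : Subgroup Q, M'.Normal → M' ≠ ⊥ → M' ≤ M → M' = M)
    (hab : ∀ a ∈ M, ∀ b ∈ M, a * b = b * a) {r : ℕ} (hr : r.Prime) (hrM : r ∣ Nat.card M) : IsPGroup r M := by
  have := Fact.mk hr
  let R : Subgroup Q :=
    { carrier := {x | x ∈ M ∧ ∃ k : ℕ, x ^ r ^ k = 1}
      one_mem' := ⟨M.one_mem, 0, one_pow _⟩
      mul_mem' := fun {a b} ⟨ha, i, hi⟩ ⟨hb, j, hj⟩ => ⟨M.mul_mem ha hb, i + j, by
        rw [Commute.mul_pow (hab a ha b hb), pow_add, pow_mul, hi, one_pow, one_mul, mul_comm, pow_mul, hj, one_pow]⟩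
      inv_mem' := fun {a} ⟨ha, i, hi⟩ => ⟨M.inv_mem ha, i, by rw [inv_pow, hi, inv_one]⟩ }
  have hRn : R.Normal := ⟨fun a ⟨ha, i, hi⟩ g => ⟨(inferInstance : M.Normal).conj_mem a ha g, i, by rw [conj_pow, hi]; group⟩⟩
  obtain ⟨x, hx⟩ := exists_prime_orderOf_dvd_card' (G := M) r hrM
  have hxR : (x : Q) ∈ R := ⟨x.2, 1, by rw [pow_one, ← hx, ← Subgroup.orderOf_coe]; exact pow_orderOf_eq_one _⟩
  have hne : R ≠ ⊥ := fun h => by
    rw [h, Subgroup.mem_bot] at hxR
    have : orderOf x = 1 := orderOf_eq_one_iff.mpr (Subtype.ext hxR)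
    exact hr.one_lt.ne' (hx ▸ this)
  have heq := hmin R hRn hne (fun a h => h.1)
  intro a
  obtain ⟨-, k, hk⟩ : (a : Q) ∈ R := by rw [heq]; exact a.2
  exact ⟨k, Subtype.ext (by simpa using hk)⟩

theorem not_isSolvable_of_two_primes {G : Type*} [Group G] [Finite G] {p q : ℕ} (hp : p.Prime) (hq : q.Prime)
    (hne : p ≠ q) (hpG : p ∣ Nat.card G) (hqG : q ∣ Nat.card G) (hpv : (Nat.card G).factorization p ≤ 2)
    (hqv : (Nat.card G).factorization q ≤ 1) (h1 : ¬ q ∣ p ^ 2 - 1) (h2 : ¬ p ∣ q - 1)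
    (hno : ∀ x : G, orderOf x ≠ p * q) : ¬ Group.IsSolvable G := by
  intro hG
  obtain ⟨N, hN, hNπ, hM⟩ := exists_quotient (G := G) {p, q} (by rintro r (rfl | rfl) <;> assumption)
  have hnp : ¬ p ∣ Nat.card N := hNπ p (Or.inl rfl)
  have hnq : ¬ q ∣ Nat.card N := hNπ q (Or.inr rfl)
  have hpQ : p ∣ Nat.card (G ⧸ N) := (hp.dvd_mul.mp (by rw [← N.card_mul_index] at hpG; exact hpG)).resolve_left hnp
  have hqQ : q ∣ Nat.card (G ⧸ N) := (hq.dvd_mul.mp (by rw [← N.card_mul_index] at hqG; exact hqG)).resolve_left hnq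
  have : Nontrivial (G ⧸ N) := Finite.one_lt_card_iff_nontrivial.mp (lt_of_lt_of_le hp.one_lt (Nat.le_of_dvd Nat.card_pos hpQ))
  have hnoQ : ∀ z : G ⧸ N, orderOf z ≠ p * q := fun z hz => by
    obtain ⟨x, hx⟩ := exists_orderOf_of_map (QuotientGroup.mk' N) (QuotientGroup.mk'_surjective N) z
    exact hno x (hx.trans hz)
  have : Group.IsSolvable (G ⧸ N) := Group.isSolvable_of_surjective (QuotientGroup.mk'_surjective N)
  obtain ⟨M, hMn, hM0, hmin⟩ := exists_minimal_normal (G ⧸ N)
  have hab : ∀ a ∈ M, ∀ b ∈ M, a * b = b * a := by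
    have hlt := Group.IsSolvable.commutator_lt_of_ne_bot (H := M) hM0
    have hbot : ⁅M, M⁆ = ⊥ := by
      by_contra h
      exact hlt.ne (hmin _ inferInstance h hlt.le)
    intro a ha b hb
    exact commutatorElement_eq_one_iff_mul_comm.mp (Subgroup.mem_bot.mp (hbot ▸ Subgroup.commutator_mem_commutator ha hb))
  obtain ⟨r, hr, hrM⟩ := hM M hMn hM0
  rcases (hr : r = p ∨ r = q) with hr | hr <;> rw [hr] at hrM
  · -- the minimal normal subgroup is a `p`-group, on which an element of order `q` acts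
    have := Fact.mk hp
    have := Fact.mk hq
    obtain ⟨k, hk⟩ := (sylow_of_abelian_minimal M hmin hab hp hrM).exists_card_eq
    have hk2 : k ≤ 2 := by
      have h := (hp.pow_dvd_iff_le_factorization Nat.card_pos.ne').mp (hk ▸ Subgroup.card_subgroup_dvd_card M)
      rw [card_quotient_factorization N hnp] at h
      omega
    obtain ⟨y, hy⟩ := exists_prime_orderOf_dvd_card' (G := G ⧸ N) q hqQ
    let Y := Subgroup.zpowers y
    let act : MulAction Y M :=
      { smul := fun g m => ⟨(g : G ⧸ N) * m * (g : G ⧸ N)⁻¹, hMn.conj_mem m m.2 g⟩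
        one_smul := fun m => Subtype.ext (show (1 : G ⧸ N) * m * (1 : G ⧸ N)⁻¹ = m by group)
        mul_smul := fun a b m => Subtype.ext (show ((a * b : Y) : G ⧸ N) * m * ((a * b : Y) : G ⧸ N)⁻¹ = a * (b * m * (b : G ⧸ N)⁻¹) * (a : G ⧸ N)⁻¹ by rw [Subgroup.coe_mul]; group) }
    have hY : IsPGroup q Y := IsPGroup.of_card (n := 1) (by rw [Nat.card_zpowers, hy, pow_one])
    have hmod := hY.card_modEq_card_fixedPoints M
    have hone : Nat.card (MulAction.fixedPoints Y M) = 1 := by
      rw [Nat.card_eq_one_iff_unique]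
      refine ⟨⟨fun a b => ?_⟩, ⟨⟨1, fun g => Subtype.ext (show (g : G ⧸ N) * (1 : G ⧸ N) * (g : G ⧸ N)⁻¹ = 1 by group)⟩⟩⟩
      have key : ∀ a : MulAction.fixedPoints Y M, (a : M) = 1 := by
        intro a
        by_contra ha
        obtain ⟨j, -, hj⟩ := (Nat.dvd_prime_pow hp).mp (hk ▸ orderOf_dvd_natCard (a : M))
        have hj0 : j ≠ 0 := fun h => ha (orderOf_eq_one_iff.mp (by rw [hj, h, pow_zero]))
        have hay : Commute ((a : M) : G ⧸ N) y := by
          have := congrArg Subtype.val (a.2 ⟨y, Subgroup.mem_zpowers y⟩)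
          exact (mul_inv_eq_iff_eq_mul.mp this).symm
        set b := ((a : M) : G ⧸ N) ^ (p ^ (j - 1)) with hb
        have hbo : orderOf b = p := by
          rw [hb, orderOf_pow_of_dvd (pow_ne_zero _ hp.ne_zero) (by rw [Subgroup.orderOf_coe, hj]; exact pow_dvd_pow p (by omega)),
            Subgroup.orderOf_coe, hj, Nat.pow_div (by omega) hp.pos, show j - (j - 1) = 1 by omega, pow_one]
        exact hnoQ (b * y) (by rw [(hay.pow_left _).orderOf_mul_eq_mul_orderOf_of_coprime (by rw [← hb, hbo, hy]; exact (Nat.coprime_primes hp hq).mpr hne), ← hb, hbo, hy])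
      exact Subtype.ext ((key a).trans (key b).symm)
    rw [hone, hk] at hmod
    have hdv : q ∣ p ^ k - 1 := (Nat.modEq_iff_dvd' (Nat.one_le_pow _ _ hp.pos)).mp hmod.symm
    have hk0 : k ≠ 0 := fun h => by
      rw [h, pow_zero] at hk
      exact hM0 (Subgroup.card_eq_one.mp hk)
    apply h1
    interval_cases k
    · omega
    · exact hdv.trans (Nat.sub_dvd_pow_sub_pow _ 1 2 |> fun h => by simpa using h)
    · exact hdv
  · -- the minimal normal subgroup has order `q`
    have := Fact.mk hq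
    have := Fact.mk hp
    obtain ⟨k, hk⟩ := (sylow_of_abelian_minimal M hmin hab hq hrM).exists_card_eq
    have hk1 : k ≤ 1 := by
      have h := (hq.pow_dvd_iff_le_factorization Nat.card_pos.ne').mp (hk ▸ Subgroup.card_subgroup_dvd_card M)
      rw [card_quotient_factorization N hnq] at h
      omega
    have hk0 : k ≠ 0 := fun h => by
      rw [h, pow_zero] at hk
      exact hM0 (Subgroup.card_eq_one.mp hk)
    obtain rfl : k = 1 := by omega
    rw [pow_one] at hk
    obtain ⟨y, hy⟩ := exists_prime_orderOf_dvd_card' (G := G ⧸ N) p hpQ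
    obtain ⟨z, hz⟩ := exists_orderOf_mul hq hp hne.symm h2 M hk y hy (by rw [Subgroup.normalizer_eq_top]; trivial)
    exact hnoQ z (hz.trans (mul_comm _ _))

theorem exists_simple_section {G : Type*} [Group G] [Finite G] (π : Set ℕ) (hπ : ∀ r ∈ π, r.Prime)
    (h2 : ∃ p ∈ π, ∃ q ∈ π, p ≠ q) (hv : ∀ r ∈ π, (Nat.card G).factorization r = 1)
    (hdiv : ∀ r ∈ π, ∀ s ∈ π, r ≠ s → ¬ s ∣ r - 1) (hno : ∀ r ∈ π, ∀ s ∈ π, r ≠ s → ∀ x : G, orderOf x ≠ r * s) :
    ∃ (N H : Subgroup G) (_ : N.Normal), H.Normal ∧ N < H ∧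
      IsSimpleGroup (↥H ⧸ N.subgroupOf H) ∧ ¬ IsMulCommutative (↥H ⧸ N.subgroupOf H) ∧
      ∀ p ∈ π, p ∣ Nat.card (↥H ⧸ N.subgroupOf H) := by
  obtain ⟨N, hN, hNπ, hM⟩ := exists_quotient (G := G) π hπ
  obtain ⟨p, hp, q, hq, hpq⟩ := h2
  have hQv : ∀ r ∈ π, (Nat.card (G ⧸ N)).factorization r = 1 := fun r hr => by
    rw [card_quotient_factorization N (hNπ r hr), hv r hr]
  have hQd : ∀ r ∈ π, r ∣ Nat.card (G ⧸ N) := fun r hr => Nat.dvd_of_factorization_pos (by rw [hQv r hr]; omega)
  have : Nontrivial (G ⧸ N) := Finite.one_lt_card_iff_nontrivial.mp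
    (lt_of_lt_of_le (hπ p hp).one_lt (Nat.le_of_dvd Nat.card_pos (hQd p hp)))
  obtain ⟨M, hMn, hM0, hmin⟩ := exists_minimal_normal (G ⧸ N)
  obtain ⟨r, hr, hrM⟩ := hM M hMn hM0
  have hall : ∀ s ∈ π, s ∣ Nat.card M := by
    intro s hs
    by_contra hsM
    have hrs : r ≠ s := fun h => hsM (h ▸ hrM)
    have := Fact.mk (hπ r hr)
    have := Fact.mk (hπ s hs)
    obtain ⟨R⟩ : Nonempty (Sylow r M) := inferInstance
    set R' := (R : Subgroup M).map M.subtype with hR'
    have htop : Subgroup.normalizer (R' : Set (G ⧸ N)) ⊔ M = ⊤ := Sylow.normalizer_sup_eq_top R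
    have hRcard : Nat.card R' = r := by
      rw [hR', Subgroup.card_map_of_injective M.subtype_injective, R.card_eq_multiplicity]
      have h1 : 1 ≤ (Nat.card M).factorization r := ((hπ r hr).dvd_iff_one_le_factorization Nat.card_pos.ne').mp hrM
      have h2 := (Nat.factorization_le_iff_dvd Nat.card_pos.ne' Nat.card_pos.ne').mpr (Subgroup.card_subgroup_dvd_card M) r
      rw [hQv r hr] at h2
      rw [show (Nat.card M).factorization r = 1 by omega, pow_one]
    have hs' : s ∣ Nat.card ↥(Subgroup.normalizer (R' : Set (G ⧸ N))) := by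
      set K := Subgroup.normalizer (R' : Set (G ⧸ N)) with hK
      have h1 : (K.map (QuotientGroup.mk' M)) = ⊤ := by
        have := congrArg (Subgroup.map (QuotientGroup.mk' M)) htop
        rwa [Subgroup.map_sup, QuotientGroup.map_mk'_self, sup_bot_eq, Subgroup.map_top_of_surjective _ (QuotientGroup.mk'_surjective M)] at this
      have h2 : M.index ∣ Nat.card K := by
        have := Subgroup.card_map_dvd K (QuotientGroup.mk' M)
        rwa [h1, Subgroup.card_top] at this
      have h3 : s ∣ M.index := ((hπ s hs).dvd_mul.mp (M.card_mul_index.symm ▸ hQd s hs)).resolve_left hsM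
      exact h3.trans h2
    obtain ⟨y, hy⟩ := exists_prime_orderOf_dvd_card' (G := ↥(Subgroup.normalizer (R' : Set (G ⧸ N)))) s hs'
    obtain ⟨z, hz⟩ := exists_orderOf_mul (hπ r hr) (hπ s hs) hrs (hdiv r hr s hs hrs) R' hRcard (y : G ⧸ N)
      (by rw [Subgroup.orderOf_coe, hy]) y.2
    obtain ⟨x, hx⟩ := exists_orderOf_of_map (QuotientGroup.mk' N) (QuotientGroup.mk'_surjective N) z
    exact hno r hr s hs hrs x (hx.trans hz)
  have hnab : ¬ IsMulCommutative M := by
    intro h
    have hab : ∀ a ∈ M, ∀ b ∈ M, a * b = b * a := fun a ha b hb => congrArg Subtype.val (h.is_comm.comm ⟨a, ha⟩ ⟨b, hb⟩)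
    have := Fact.mk (hπ p hp)
    obtain ⟨k, hk⟩ := (sylow_of_abelian_minimal M hmin hab (hπ p hp) (hall p hp)).exists_card_eq
    have := (hπ q hq).dvd_of_dvd_pow (hk ▸ hall q hq)
    exact hpq ((Nat.prime_dvd_prime_iff_eq (hπ q hq) (hπ p hp)).mp this).symm
  have hr1 := hQv r hr
  -- every non-trivial normal subgroup of `M` has order divisible by `r`
  have hsub : ∀ T : Subgroup M, T.Normal → T ≠ ⊥ → r ∣ Nat.card T := by
    obtain ⟨X, ⟨hXn, hXr⟩, hXmax⟩ := (Set.toFinite {X : Subgroup M | X.Normal ∧ ¬ r ∣ Nat.card X}).exists_maximal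
      ⟨⊥, inferInstance, fun h => (hπ r hr).one_lt.ne' (by simpa using h)⟩
    have hle : ∀ Y : Subgroup M, Y.Normal → ¬ r ∣ Nat.card Y → Y ≤ X := by
      intro Y hY hYr
      refine le_trans le_sup_right (hXmax (y := X ⊔ Y) ⟨inferInstance, fun h => ?_⟩ le_sup_left)
      have hd : Nat.card ↥(X ⊔ Y) ∣ Nat.card X * Nat.card Y := by
        have h1 := Subgroup.card_map_dvd Y (QuotientGroup.mk' X)
        have h2 : Nat.card ↥(X ⊔ Y) = Nat.card X * Nat.card ↥(Y.map (QuotientGroup.mk' X)) := by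
          have e : (X ⊔ Y).map (QuotientGroup.mk' X) = Y.map (QuotientGroup.mk' X) := by
            rw [Subgroup.map_sup, QuotientGroup.map_mk'_self, bot_sup_eq]
          have i1 := Subgroup.index_map_eq (X ⊔ Y) (QuotientGroup.mk'_surjective X) (by simp)
          rw [e] at i1
          have c1 := (X ⊔ Y).card_mul_index
          have c2 := (Y.map (QuotientGroup.mk' X)).card_mul_index
          rw [i1, show Nat.card (↥M ⧸ X) = X.index from rfl] at c2
          have c3 := X.card_mul_index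
          rw [← c2, ← mul_assoc] at c3
          exact Nat.eq_of_mul_eq_mul_right (Nat.pos_of_ne_zero Subgroup.index_ne_zero_of_finite) (c1.trans c3.symm)
        exact h2 ▸ Nat.mul_dvd_mul_left _ h1
      rcases (hπ r hr).dvd_mul.mp (h.trans hd) with h | h
      · exact hXr h
      · exact hYr h
    have hX0 : X = ⊥ := by
      by_contra hne
      have hXn' : (X.map M.subtype).Normal := by
        refine ⟨fun a ha g => ?_⟩
        obtain ⟨b, hb, rfl⟩ := ha
        let e : MulAut M := MulAut.conjNormal g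
        have hYn : (X.map e.toMonoidHom).Normal := hXn.map _ e.surjective
        have hYc : ¬ r ∣ Nat.card ↥(X.map e.toMonoidHom) := by
          rw [Subgroup.card_map_of_injective (f := e.toMonoidHom) e.injective]
          exact hXr
        exact ⟨e b, hle _ hYn hYc ⟨b, hb, rfl⟩, MulAut.conjNormal_apply g b⟩
      have := hmin _ hXn' (fun h => hne ((Subgroup.map_eq_bot_iff_of_injective _ M.subtype_injective).mp h)) (Subgroup.map_subtype_le X)
      apply hXr
      have hc : Nat.card ↥(X.map M.subtype) = Nat.card X := Subgroup.card_map_of_injective M.subtype_injective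
      rw [← hc, this]
      exact hrM
    intro T hT hT0
    by_contra h
    exact hT0 (le_bot_iff.mp (hX0 ▸ hle T hT h))
  have hinter : ∀ S T : Subgroup M, S.Normal → T.Normal → S ≠ ⊥ → T ≠ ⊥ → S ⊓ T ≠ ⊥ := by
    intro S T hS hT hS0 hT0 h
    have hd : r * r ∣ Nat.card M := by
      have hinj : Function.Injective (fun x : S × T => ((x.1 : M) * x.2)) :=
        Subgroup.mul_injective_of_disjoint (disjoint_iff.mpr h)
      have hcomm : ∀ (s : S) (t : T), Commute (s : M) (t : M) := fun s t =>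
        Subgroup.commute_of_normal_of_disjoint S T hS hT (disjoint_iff.mpr h) s t s.2 t.2
      let φ : S × T →* M := MonoidHom.noncommCoprod S.subtype T.subtype hcomm
      have hd := Subgroup.card_dvd_of_injective φ hinj
      rw [Nat.card_prod] at hd
      exact (mul_dvd_mul (hsub S hS hS0) (hsub T hT hT0)).trans hd
    have h3 : r ^ 2 ∣ Nat.card (G ⧸ N) := by rw [pow_two]; exact hd.trans (Subgroup.card_subgroup_dvd_card M)
    have := ((hπ r hr).pow_dvd_iff_le_factorization Nat.card_pos.ne').mp h3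
    omega
  have : Nontrivial M := M.nontrivial_iff_ne_bot.mpr hM0
  obtain ⟨T, hTn, hT0, hTmin⟩ := exists_minimal_normal M
  have hTle : ∀ S : Subgroup M, S.Normal → S ≠ ⊥ → T ≤ S := by
    intro S hS hS0
    have := hTmin (S ⊓ T) inferInstance (hinter S T hS hTn hS0 hT0) inf_le_right
    exact this ▸ inf_le_left
  have hTtop : T = ⊤ := by
    have hTn' : (T.map M.subtype).Normal := by
      refine ⟨fun a ha g => ?_⟩
      obtain ⟨b, hb, rfl⟩ := ha
      let e : MulAut M := MulAut.conjNormal g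
      have hYn : (T.map e.symm.toMonoidHom).Normal := hTn.map _ e.symm.surjective
      have hY0 : T.map e.symm.toMonoidHom ≠ ⊥ := fun h => hT0 ((Subgroup.map_eq_bot_iff_of_injective _ e.symm.injective).mp h)
      obtain ⟨c, hc, hcb⟩ := hTle _ hYn hY0 hb
      refine ⟨c, hc, ?_⟩
      rw [← hcb]
      calc ((c : M) : G ⧸ N) = ((e (e.symm c) : M) : G ⧸ N) := by rw [MulEquiv.apply_symm_apply]
        _ = _ := MulAut.conjNormal_apply g _
    have := hmin _ hTn' (fun h => hT0 ((Subgroup.map_eq_bot_iff_of_injective _ M.subtype_injective).mp h)) (Subgroup.map_subtype_le T)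
    exact Subgroup.map_injective M.subtype_injective (this.trans (M.range_subtype.symm.trans (MonoidHom.range_eq_map _)))
  have hsimple : IsSimpleGroup M := ⟨fun S hS => by
    by_cases h : S = ⊥
    · exact Or.inl h
    · exact Or.inr (top_le_iff.mp (hTtop ▸ hTle S hS h))⟩
  set H := M.comap (QuotientGroup.mk' N) with hH
  have hNH : N ≤ H := (QuotientGroup.ker_mk' N).ge.trans (MonoidHom.ker_le_comap _ _)
  let φ : H →* M := ((QuotientGroup.mk' N).comp H.subtype).codRestrict M (fun x => x.2)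
  have hφ : Function.Surjective φ := by
    rintro ⟨z, hz⟩
    obtain ⟨g, rfl⟩ := QuotientGroup.mk'_surjective N z
    exact ⟨⟨g, hz⟩, rfl⟩
  have hker : φ.ker = N.subgroupOf H := by
    ext x
    rw [MonoidHom.mem_ker, Subgroup.mem_subgroupOf, ← QuotientGroup.eq_one_iff (N := N), Subtype.ext_iff]
    rfl
  let e : (↥H ⧸ N.subgroupOf H) ≃* M :=
    (QuotientGroup.quotientMulEquivOfEq hker.symm).trans (QuotientGroup.quotientKerEquivOfSurjective φ hφ)
  refine ⟨N, H, hN, hMn.comap _, lt_of_le_of_ne hNH ?_, e.isSimpleGroup, ?_, ?_⟩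
  · intro heq
    apply hM0
    rw [← Subgroup.map_comap_eq_self_of_surjective (QuotientGroup.mk'_surjective N) M, ← hH, ← heq, QuotientGroup.map_mk'_self]
  · intro h
    exact hnab ⟨⟨fun a b => e.symm.injective (by rw [map_mul, map_mul]; exact h.is_comm.comm _ _)⟩⟩
  · intro s hs
    rw [Nat.card_congr e.toEquiv]
    exact hall s hs

theorem no_pq_of_spectrum {G : Type*} [Group G] {n p q : ℕ} (hp : p.Prime) (hq : q.Prime) (hne : p ≠ q)
    (h : n < p + q)
    (hspec : Set.range (orderOf : G → ℕ) = Set.range (orderOf : ↥(alternatingGroup (Fin n)) → ℕ))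
    (x : G) : orderOf x ≠ p * q := by
  intro hx
  obtain ⟨y, hy⟩ : orderOf x ∈ Set.range (orderOf : ↥(alternatingGroup (Fin n)) → ℕ) := hspec ▸ ⟨x, rfl⟩
  exact alt_no_pq hp hq hne h y (hy.trans hx)

/-- Let n ≥ 11 and let G be a finite group with the same order and the same set of element orders as the alternating group of degree n. Then G has normal subgroups N < H such that H/N is a non-abelian simple group whose order is divisible by every prime p with n/2 < p ≤ n. -/
theorem result {G : Type*} [Group G] [Finite G] (n : ℕ) (hn : 11 ≤ n)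
    (hcard : Nat.card G = Nat.card ↥(alternatingGroup (Fin n)))
    (hspec : Set.range (orderOf : G → ℕ) = Set.range (orderOf : ↥(alternatingGroup (Fin n)) → ℕ)) :
    ∃ (N H : Subgroup G) (_ : N.Normal), H.Normal ∧ N < H ∧
      IsSimpleGroup (↥H ⧸ N.subgroupOf H) ∧ ¬ IsMulCommutative (↥H ⧸ N.subgroupOf H) ∧
      ∀ p : ℕ, p.Prime → n < 2 * p → p ≤ n → p ∣ Nat.card (↥H ⧸ N.subgroupOf H) := by
  have hfac : ∀ p : ℕ, p.Prime → n < 2 * p → p ≤ n → (Nat.card G).factorization p = 1 := by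
    intro p hp h1 h2
    rw [hcard, factorization_card_alt (by omega) hp (by omega), factorization_factorial_half hp h1 h2]
  obtain ⟨p, q, hp, hq, hmp, hpq, hqm⟩ : ∃ p q : ℕ, p.Prime ∧ q.Prime ∧ n < 2 * p ∧ p < q ∧ q ≤ n := by
    by_cases h12 : 12 ≤ n
    · obtain ⟨p, q, hp, hq, h1, h2, h3⟩ := Cfsg.Agent.TwoPrimes.exists_two_primes (n / 2) (by omega)
      exact ⟨p, q, hp, hq, by omega, h2, by omega⟩
    · exact ⟨7, 11, by norm_num, by norm_num, by omega, by norm_num, by omega⟩
  obtain ⟨N, H, hN, hH, hlt, hs, hna, hd⟩ := exists_simple_section (G := G) {p | p.Prime ∧ n < 2 * p ∧ p ≤ n}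
    (fun r hr => hr.1) ⟨p, ⟨hp, hmp, by omega⟩, q, ⟨hq, by omega, hqm⟩, hpq.ne⟩
    (fun r hr => hfac r hr.1 hr.2.1 hr.2.2)
    (fun r hr s hs hrs hd => by
      obtain ⟨c, hc⟩ := hd
      have h2 := hs.1.two_le
      have : c < 2 := by
        by_contra hc2
        have : s * 2 ≤ s * c := Nat.mul_le_mul_left s (by omega)
        have := hr.2.2; have := hs.2.1
        omega
      interval_cases c
      · have := hr.2.1; have := hr.1.two_le; omega
      · rcases hr.1.eq_two_or_odd with h | h <;> rcases hs.1.eq_two_or_odd with h' | h' <;>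
          (have := hr.2.1; have := hs.2.1; omega))
    (fun r hr s hs hrs => no_pq_of_spectrum hr.1 hs.1 hrs (by have := hr.2.1; have := hs.2.1; omega) hspec)
  exact ⟨N, H, hN, hH, hlt, hs, hna, fun r h1 h2 h3 => hd r ⟨h1, h2, h3⟩⟩

end Cfsg.Agent.S3420
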