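import Cfsg.Statements.S3419
import Cfsg.Agent.S3420

set_option autoImplicit false
open Cfsg

namespace Cfsg.Agent.S3419

/-- Let n ≥ 5 and let G be a finite group with the same order and the same set of element orders as the alternating group of degree n. Then G is not solvable. -/
theorem result {G : Type*} [Group G] [Finite G] (n : ℕ) (hn : 5 ≤ n)
    (hcard : Nat.card G = Nat.card ↥(alternatingGroup (Fin n)))
    (hspec : Set.range (orderOf : G → ℕ) = Set.range (orderOf : ↥(alternatingGroup (Fin n)) → ℕ)) :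
    ¬ Group.IsSolvable G := by
  have hn2 : 2 ≤ n := by omega
  have hdvd : ∀ r : ℕ, r.Prime → r ≠ 2 → r ≤ n → r ∣ Nat.card G := by
    intro r hr hr2 hrn
    refine Nat.dvd_of_factorization_pos (n := Nat.card G) ?_
    rw [hcard, S3420.factorization_card_alt hn2 hr hr2]
    exact (hr.factorization_pos_of_dvd (Nat.factorial_ne_zero n) (Nat.dvd_factorial hr.pos hrn)).ne'
  have hfac : ∀ r : ℕ, r.Prime → r ≠ 2 → (Nat.card G).factorization r = n.factorial.factorization r :=
    fun r hr hr2 => by rw [hcard, S3420.factorization_card_alt hn2 hr hr2]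
  have main : ∀ p q : ℕ, p.Prime → q.Prime → p ≠ q → p ≠ 2 → q ≠ 2 → p ≤ n → q ≤ n →
      n.factorial.factorization p ≤ 2 → n.factorial.factorization q ≤ 1 → ¬ q ∣ p ^ 2 - 1 → ¬ p ∣ q - 1 →
      n < p + q → ¬ Group.IsSolvable G := fun p q hp hq hne hp2 hq2 hpn hqn hpv hqv h1 h2 h =>
    S3420.not_isSolvable_of_two_primes hp hq hne (hdvd p hp hp2 hpn) (hdvd q hq hq2 hqn)
      (by rw [hfac p hp hp2]; exact hpv) (by rw [hfac q hq hq2]; exact hqv) h1 h2
      (S3420.no_pq_of_spectrum hp hq hne h hspec)
  by_cases h11 : 11 ≤ n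
  · obtain ⟨p, q, hp, hq, hmp, hpq, hqn⟩ : ∃ p q : ℕ, p.Prime ∧ q.Prime ∧ n < 2 * p ∧ p < q ∧ q ≤ n := by
      by_cases h12 : 12 ≤ n
      · obtain ⟨p, q, hp, hq, h1, h2, h3⟩ := Cfsg.Agent.TwoPrimes.exists_two_primes (n / 2) (by omega)
        exact ⟨p, q, hp, hq, by omega, h2, by omega⟩
      · exact ⟨7, 11, by norm_num, by norm_num, by omega, by norm_num, by omega⟩
    have hpo : Odd p := hp.odd_of_ne_two (by omega)
    have hqo : Odd q := hq.odd_of_ne_two (by omega)
    obtain ⟨a, ha⟩ := hpo
    obtain ⟨b, hb⟩ := hqo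
    refine main p q hp hq hpq.ne (by omega) (by omega) (by omega) hqn
      (by rw [S3420.factorization_factorial_half hp hmp (by omega)]; omega)
      (by rw [S3420.factorization_factorial_half hq (by omega) hqn]) ?_ ?_ (by omega)
    · intro hd
      rw [show p ^ 2 - 1 = (p + 1) * (p - 1) by rw [← Nat.sq_sub_sq, one_pow]] at hd
      rcases hq.dvd_mul.mp hd with h | h <;> have := Nat.le_of_dvd (by omega) h <;> omega
    · rintro ⟨c, hc⟩
      have : c < 2 := by
        by_contra hc2
        have : p * 2 ≤ p * c := Nat.mul_le_mul_left p (by omega)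
        omega
      interval_cases c <;> omega
  · have hv : ∀ r b : ℕ, r.Prime → Nat.log r n < b → n.factorial.factorization r = ∑ i ∈ Finset.Ico 1 b, n / r ^ i :=
      fun r b hr hb => Nat.factorization_factorial hr hb
    rcases Nat.lt_or_ge n 8 with h8 | h8
    · interval_cases n <;> exact main 3 5 (by norm_num) (by norm_num) (by norm_num) (by norm_num) (by norm_num) (by norm_num) (by norm_num)
          (by rw [hv 3 2 (by norm_num) (Nat.log_lt_of_lt_pow (by norm_num) (by norm_num))]; decide)
          (by rw [hv 5 2 (by norm_num) (Nat.log_lt_of_lt_pow (by norm_num) (by norm_num))]; decide)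
          (by norm_num) (by norm_num) (by norm_num)
    · interval_cases n <;> exact main 5 7 (by norm_num) (by norm_num) (by norm_num) (by norm_num) (by norm_num) (by norm_num) (by norm_num)
          (by rw [hv 5 2 (by norm_num) (Nat.log_lt_of_lt_pow (by norm_num) (by norm_num))]; decide)
          (by rw [hv 7 2 (by norm_num) (Nat.log_lt_of_lt_pow (by norm_num) (by norm_num))]; decide)
          (by norm_num) (by norm_num) (by norm_num)

end Cfsg.Agent.S3419
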