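import Cfsg.Statements.S3421
import Cfsg.Agent.Lib.OrderSpec.Counting
import Cfsg.Agent.Lib.OrderSpec.Recognition
import Cfsg.Agent.Lib.PSL2.Overgroups
import Cfsg.Agent.Lib.TwoFusion.ElemCentralizersPSL

set_option autoImplicit false
set_option linter.unusedSectionVars false
set_option linter.style.haveILetI false
open Cfsg

namespace Cfsg.Agent.S3421

open Subgroup Cfsg.Agent

variable {G : Type*} [Group G] [Finite G]

/-- The even case. -/
theorem even_case {q n : ℕ} (hn : 2 ≤ n) (hq : q = 2 ^ n)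
    (hspec : ∀ g : G, orderOf g ∣ 2 ∨ orderOf g ∣ q - 1 ∨ orderOf g ∣ q + 1)
    (hx : ∃ x : G, orderOf x = q + 1) (hcard : Nat.card G = q * ((q + 1) * (q - 1))) :
    ∃ (F : Type) (_ : Field F) (_ : Fintype F), Fintype.card F = q ∧
      Nonempty (G ≃* Matrix.ProjectiveSpecialLinearGroup (Fin 2) F) := by
  haveI := Fact.mk Nat.prime_two
  have h4 : 4 ≤ q := by rw [hq]; exact Nat.pow_le_pow_right (n := 2) (by norm_num) hn
  have hqe : Even q := by rw [hq]; exact Nat.even_pow.2 ⟨even_two, by omega⟩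
  have ho1 : Odd (q - 1) := Nat.Even.sub_odd (by omega) hqe odd_one
  have ho2 : Odd (q + 1) := hqe.add_one
  -- elements are involutions or have odd order
  have hcases : ∀ g : G, orderOf g ∣ 2 ∨ Odd (orderOf g) := fun g => by
    rcases hspec g with h | h | h
    · exact Or.inl h
    · exact Or.inr (ho1.of_dvd_nat h)
    · exact Or.inr (ho2.of_dvd_nat h)
  have hsq : ∀ g : G, orderOf g ∣ 2 → g ^ 2 = 1 := fun g h => orderOf_dvd_iff_pow_eq_one.1 h
  have hnc : ∀ u v : G, orderOf u = 2 → Odd (orderOf v) → Commute u v → v = 1 := by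
    intro u v hu hv hc
    have h1 : orderOf (u * v) = 2 * orderOf v := by
      rw [hc.orderOf_mul_eq_mul_orderOf_of_coprime, hu]
      rw [hu]; exact Nat.coprime_two_left.2 hv
    rcases hcases (u * v) with h | h
    · rw [h1] at h
      exact orderOf_eq_one_iff.1 (Nat.dvd_one.1 (Nat.dvd_of_mul_dvd_mul_left two_pos (by simpa using h)))
    · rw [h1] at h
      exact absurd h (by simp)
  obtain ⟨T⟩ : Nonempty (Sylow 2 G) := inferInstance
  have hT : Nat.card T = q := by
    obtain ⟨k, hk⟩ := IsPGroup.iff_card.1 T.2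
    refine Nat.dvd_antisymm ?_ ?_
    · rw [hk]
      refine (Nat.Coprime.pow_left k (Nat.coprime_two_left.2 (ho2.mul ho1))).dvd_of_dvd_mul_right ?_
      rw [← hk, ← hcard]
      exact Subgroup.card_subgroup_dvd_card _
    · rw [hq]
      exact T.pow_dvd_card_of_pow_dvd_card (by rw [hcard, ← hq]; exact dvd_mul_right _ _)
  have hTsq : ∀ v ∈ (T : Subgroup G), v ^ 2 = 1 := by
    intro v hv
    rcases hcases v with h | h
    · exact hsq v h
    · obtain ⟨k, hk⟩ := IsPGroup.iff_orderOf.1 T.2 ⟨v, hv⟩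
      rw [← Subgroup.orderOf_coe] at hk
      rcases k with _ | k
      · rw [(orderOf_eq_one_iff.1 (by simpa using hk) : v = 1)]; exact one_pow 2
      · exact absurd h (by rw [show orderOf v = 2 ^ (k + 1) from hk]; simp [Nat.even_pow])
  suffices hH : TwoFusion.ElemCent.Hyp T by
    obtain ⟨F, hFf, hFt, hFc, hFe⟩ := TwoFusion.ElemCent.equiv_psl hH
    exact ⟨F, hFf, hFt, hFc.trans hT, hFe⟩
  refine ⟨?_, ?_, ?_⟩
  · intro hcyc
    obtain ⟨g, hg⟩ := IsCyclic.exists_generator (α := (T : Subgroup G))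
    have h1 : orderOf g = q := by rw [orderOf_eq_card_of_forall_mem_zpowers hg, hT]
    have h2 : (g : (T : Subgroup G)) ^ 2 = 1 := Subtype.ext (hTsq g g.2)
    have := Nat.le_of_dvd two_pos (orderOf_dvd_of_pow_eq_one h2)
    omega
  · intro hN
    obtain ⟨x, hxo⟩ := hx
    have hd := OrderSpec.card_dvd_of_free_conj (zpowers x) (((T : Subgroup G) : Set G) \ {1})
      (fun a _ v hv => ⟨hN.conj_mem v hv.1 a, fun h => hv.2 (by
        simp only [Set.mem_singleton_iff] at h ⊢
        rwa [conj_eq_one_iff] at h)⟩)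
      (fun a ha v hv hc => by
        refine hnc v a (Involution.orderOf_of_sq (by rw [← sq]; exact hTsq v hv.1) hv.2) ?_ hc.symm
        refine ho2.of_dvd_nat ?_
        rw [← hxo]
        exact orderOf_dvd_of_mem_zpowers ha)
    have h1 : ((((T : Subgroup G) : Set G)) \ {1}).ncard = q - 1 := by
      rw [Set.ncard_sdiff_singleton_of_mem (show (1 : G) ∈ ((T : Subgroup G) : Set G) from one_mem _),
        ← Nat.card_coe_set_eq, SetLike.coe_sort_coe, hT]
    rw [Nat.card_zpowers, hxo, h1] at hd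
    exact absurd (Nat.le_of_dvd (by omega) hd) (by omega)
  · intro t ht
    have hexp : ∀ c ∈ centralizer ({t} : Set G), c ^ 2 = 1 := by
      intro c hc
      rcases hcases c with h | h
      · exact hsq c h
      · rw [hnc t c ht h (mem_centralizer_singleton_iff.1 hc).symm, one_pow]
    refine ⟨⟨⟨fun a b => Subtype.ext ?_⟩⟩, hexp⟩
    have hi : ∀ c ∈ centralizer ({t} : Set G), c⁻¹ = c := fun c hc =>
      inv_eq_of_mul_eq_one_right (by rw [← sq]; exact hexp c hc)
    have := hi _ (mul_mem a.2 b.2)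
    rw [mul_inv_rev, hi _ a.2, hi _ b.2] at this
    exact this.symm

/-- The arithmetic of the odd case. -/
theorem odd_data {p q m m' : ℕ} (hq5 : 5 ≤ q) (hmE : Even m)
    (hrel : (q = 2 * m + 1 ∧ m' = m + 1) ∨ (q + 1 = 2 * m ∧ m' + 1 = m)) (hpq : p ∣ q)
    (hspec : ∀ g : G, orderOf g ∣ p ∨ orderOf g ∣ m ∨ orderOf g ∣ m') {x : G} (hx : orderOf x = m)
    (hcard : 2 * Nat.card G = q * (q + 1) * (q - 1)) : OrderSpec.Data G (q * m') m x := by
  have hq1 : Nat.Coprime q m := by
    refine Nat.coprime_of_dvd fun l hl h1 h2 => hl.one_lt.ne' ?_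
    rcases hrel with ⟨e, -⟩ | ⟨e, -⟩
    · exact Nat.dvd_one.1 ((Nat.dvd_add_right (dvd_mul_of_dvd_right h2 2)).1 (e ▸ h1))
    · exact Nat.dvd_one.1 ((Nat.dvd_add_right h1).1 (e ▸ dvd_mul_of_dvd_right h2 2))
  have hm'1 : Nat.Coprime m' m := by
    refine Nat.coprime_of_dvd fun l hl h1 h2 => hl.one_lt.ne' ?_
    rcases hrel with ⟨-, e⟩ | ⟨-, e⟩
    · exact Nat.dvd_one.1 ((Nat.dvd_add_right h2).1 (e ▸ h1))
    · exact Nat.dvd_one.1 ((Nat.dvd_add_right h1).1 (e ▸ h2))
  refine ⟨?_, hq1.mul_left hm'1, hmE, hx, ?_, ?_, ?_⟩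
  · rcases hrel with ⟨e, e'⟩ | ⟨e, e'⟩
    · subst e e'
      rw [Nat.add_sub_cancel] at hcard
      apply Nat.eq_of_mul_eq_mul_left two_pos
      rw [hcard]; ring
    · apply Nat.eq_of_mul_eq_mul_left two_pos
      rw [hcard, e, show q - 1 = 2 * m' by omega]; ring
  · intro g r l hr hl _ ho hrm
    rcases hspec g with h | h | h <;> rw [ho] at h
    · exfalso
      exact hr.one_lt.ne' (Nat.eq_one_of_dvd_coprimes hq1
        (((dvd_mul_right r l).trans h).trans hpq) hrm)
    · exact (dvd_mul_left l r).trans h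
    · exfalso
      exact hr.one_lt.ne' (Nat.eq_one_of_dvd_coprimes hm'1 ((dvd_mul_right r l).trans h) hrm)
  · obtain ⟨k, hk⟩ := hmE
    have hk1 : 1 ≤ k := by omega
    rcases hrel with ⟨e, e'⟩ | ⟨e, e'⟩
    · have : q * m' = m + 1 + (2 * m) * (m + 1 - 0) := by subst e e'; simp only [Nat.sub_zero]; ring
      rw [this, Nat.add_mul_mod_self_left, Nat.mod_eq_of_lt (by omega)]
    · obtain ⟨c, hc⟩ : ∃ c, m = c + 2 := ⟨m - 2, by omega⟩
      have : q * m' = m + 1 + (2 * m) * c := by
        have e1 : q = 2 * c + 3 := by omega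
        have e2 : m' = c + 1 := by omega
        subst hc e1 e2; ring
      rw [this, Nat.add_mul_mod_self_left, Nat.mod_eq_of_lt (by omega)]
  · intro a u hm hu
    have ha : a ≠ 0 := by
      rintro rfl
      rw [pow_zero, one_mul] at hm
      exact Nat.not_even_iff_odd.2 (hm ▸ hu) hmE
    have h2 : 2 * u ≤ m := by
      rw [hm]
      exact Nat.mul_le_mul_right u (Nat.le_self_pow ha 2)
    obtain ⟨k, hk⟩ := hmE
    rcases hrel with ⟨e, e'⟩ | ⟨e, e'⟩
    · subst e e'
      nlinarith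
    · obtain ⟨j, rfl⟩ := hu
      rcases (show m = 4 ∨ 6 ≤ m by omega) with h | h
      · subst h
        have : j = 0 := by
          rcases Nat.lt_or_ge j 1 with h | h
          · omega
          · exfalso
            have hd : (2 * j + 1) ∣ 2 ^ 2 := ⟨2 ^ a, by rw [mul_comm]; exact hm⟩
            have := Nat.eq_one_of_dvd_coprimes (Nat.Coprime.pow_right 2
              (Nat.coprime_two_right.2 ⟨j, rfl⟩)) (dvd_refl _) hd
            omega
        subst this
        have e1 : q = 7 := by omega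
        have e2 : m' = 3 := by omega
        subst e1 e2
        norm_num
      · nlinarith

/-- Recognition from order and spectrum. -/
theorem recognition {F : Type*} [Field F] [Fintype F] (hF : 3 < Fintype.card F)
    (hs : Set.range (orderOf : G → ℕ) = Set.range (orderOf : Matrix.ProjectiveSpecialLinearGroup (Fin 2) F → ℕ))
    (hc : Nat.card G = Nat.card (Matrix.ProjectiveSpecialLinearGroup (Fin 2) F)) :
    Nonempty (G ≃* Matrix.ProjectiveSpecialLinearGroup (Fin 2) F) := by
  obtain ⟨p, hp⟩ := CharP.exists F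
  haveI : Fact p.Prime := ⟨CharP.char_is_prime F p⟩
  obtain ⟨n, hn, hqn, hcase⟩ := PSL2.q_cases (F := F) p
  rw [PSL2.range_psl_orderOf (F := F) p] at hs
  have hG := PSL2.card_psl_mul (F := F)
  change Nat.gcd 2 (Nat.card F - 1) * Nat.card (Matrix.ProjectiveSpecialLinearGroup (Fin 2) F) = _ at hG
  rw [← hc] at hG
  set q := Nat.card F with hqdef
  have hq4 : 4 ≤ q := by rw [hqdef, Nat.card_eq_fintype_card]; omega
  have hspec : ∀ g : G, orderOf g ∣ p ∨ orderOf g ∣ (q - 1) / Nat.gcd 2 (q - 1) ∨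
      orderOf g ∣ (q + 1) / Nat.gcd 2 (q - 1) := fun g => (Set.ext_iff.1 hs _).1 ⟨g, rfl⟩
  have hex : ∀ k, k ∣ (q - 1) / Nat.gcd 2 (q - 1) ∨ k ∣ (q + 1) / Nat.gcd 2 (q - 1) →
      ∃ x : G, orderOf x = k := fun k hk => (Set.ext_iff.1 hs k).2 (Or.inr hk)
  suffices h : ∃ (F' : Type) (_ : Field F') (_ : Fintype F'), Fintype.card F' = q ∧
      Nonempty (G ≃* Matrix.ProjectiveSpecialLinearGroup (Fin 2) F') by
    obtain ⟨F', _, _, hF', ⟨e⟩⟩ := h
    exact ⟨e.trans (PSL2.pslEquiv (FiniteField.ringEquivOfCardEq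
      (hF'.trans Nat.card_eq_fintype_card)))⟩
  rcases hcase with ⟨rfl, -, hg, -⟩ | ⟨-, hodd, hg, -⟩ <;> rw [hg] at hspec hex hG
  · simp only [Nat.div_one] at hspec hex
    refine even_case ?_ hqn hspec (hex _ (Or.inr dvd_rfl)) (by simpa using hG)
    by_contra h
    have : n = 1 := by omega
    rw [this] at hqn
    omega
  · have hcard : 2 * Nat.card G = q * (q + 1) * (q - 1) := by rw [hG, mul_assoc]
    obtain ⟨k, hk⟩ := hodd
    have hpq : p ∣ q := hqn ▸ dvd_pow_self p (by omega)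
    rw [show (q - 1) / 2 = k by omega, show (q + 1) / 2 = k + 1 by omega] at hspec hex
    have hq5 : 5 ≤ q := by omega
    rcases Nat.even_or_odd k with hev | hod
    · obtain ⟨x, hx⟩ := hex k (Or.inl dvd_rfl)
      exact OrderSpec.equiv_of_conclusion (odd_data hq5 hev (Or.inl ⟨hk, rfl⟩) hpq hspec hx hcard).conclusion
        hq5 hcard
    · obtain ⟨x, hx⟩ := hex (k + 1) (Or.inr dvd_rfl)
      exact OrderSpec.equiv_of_conclusion (odd_data (m' := k) hq5 hod.add_one (Or.inr ⟨by omega, rfl⟩) hpq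
        (fun g => (hspec g).imp_right Or.symm) hx hcard).conclusion hq5 hcard

/-- Let F be a finite field with more than 3 elements. A finite group G is isomorphic to PSL(2, F) if and only if G has the same set of element orders and the same order as PSL(2, F). -/
theorem result {G : Type*} [Group G] [Finite G] {F : Type*} [Field F] [Fintype F] (hF : 3 < Fintype.card F) :
    Nonempty (G ≃* Matrix.ProjectiveSpecialLinearGroup (Fin 2) F) ↔
      (Set.range (orderOf : G → ℕ) = Set.range (orderOf : Matrix.ProjectiveSpecialLinearGroup (Fin 2) F → ℕ) ∧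
        Nat.card G = Nat.card (Matrix.ProjectiveSpecialLinearGroup (Fin 2) F)) := by
  constructor
  · rintro ⟨e⟩
    refine ⟨?_, Nat.card_congr e.toEquiv⟩
    ext k
    constructor
    · rintro ⟨g, rfl⟩; exact ⟨e g, e.orderOf_eq g⟩
    · rintro ⟨g, rfl⟩; exact ⟨e.symm g, e.symm.orderOf_eq g⟩
  · rintro ⟨hs, hc⟩
    exact recognition hF hs hc

end Cfsg.Agent.S3421
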