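import Cfsg.Statements.S3427
import Cfsg.Agent.Lib.Order6048.GTwoTwo

set_option autoImplicit false
open Cfsg

namespace Cfsg.Agent.S3427

/-- Let F be the field with 2 elements and let M be the Chevalley group of type G₂ over F (a non-simple group of order 12096 whose derived subgroup, of index 2, is isomorphic to PSU(3, 3)). A finite group G is isomorphic to M if and only if G has the same set of element orders and the same order as M. -/
theorem result {G : Type*} [Group G] [Finite G] {F : Type*} [Field F] [Fintype F] (hF : Fintype.card F = 2) :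
    Nonempty (G ≃* ↥(Cfsg.Lie.chevG2.group F)) ↔
      (Set.range (orderOf : G → ℕ) = Set.range (orderOf : ↥(Cfsg.Lie.chevG2.group F) → ℕ) ∧ Nat.card G = Nat.card ↥(Cfsg.Lie.chevG2.group F)) := by
  classical
  have : Fact (Nat.Prime 3) := ⟨Nat.prime_three⟩
  constructor
  · rintro ⟨e⟩
    refine ⟨?_, Nat.card_congr e.toEquiv⟩
    ext n
    simp only [Set.mem_range]
    exact ⟨fun ⟨g, hg⟩ => ⟨e g, (e.orderOf_eq g).trans hg⟩,
      fun ⟨g, hg⟩ => ⟨e.symm g, (e.symm.orderOf_eq g).trans hg⟩⟩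
  · rintro ⟨hspec, hcard⟩
    obtain ⟨φ⟩ := Cfsg.Agent.Golay.UThree.chev_group_map Cfsg.Lie.chevG2
      (ZMod.ringEquivOfPrime F Nat.prime_two hF).symm
    have hE := Cfsg.Agent.Order6048.double_g2
    have hG : Cfsg.Agent.Order6048.Double G := by
      refine ⟨by rw [hcard, Nat.card_congr φ.toEquiv, hE.card], fun g hg => ?_, fun g hg => ?_⟩
      · obtain ⟨m, hm⟩ := (Set.ext_iff.1 hspec 14).1 ⟨g, hg⟩
        exact hE.no14 (φ m) ((φ.orderOf_eq m).trans hm)
      · obtain ⟨m, hm⟩ := (Set.ext_iff.1 hspec 21).1 ⟨g, hg⟩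
        exact hE.no21 (φ m) ((φ.orderOf_eq m).trans hm)
    obtain ⟨S, hS, hSs, ⟨eG⟩⟩ := hG.exists_almost_simple
    obtain ⟨T, hT, hTs, ⟨eE⟩⟩ := hE.exists_almost_simple
    obtain ⟨i⟩ := Cfsg.Agent.Order6048.simple_iso (G := S) (H := T) hS hT
    exact ⟨eG.trans ((MulAut.congr i).trans (eE.symm.trans φ.symm))⟩

end Cfsg.Agent.S3427
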