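import Cfsg.Statements.S3430
import Cfsg.Agent.Lib.Zsigmondy.Large

set_option autoImplicit false
open Cfsg

namespace Cfsg.Agent.S3430

/-- Let q, n ≥ 2 be integers. Unless (n = 2 and q + 1 = 2^s·3^t for some s ≥ 0 and t ≤ 1), or (q = 2 and n ∈ {4, 6, 10, 12, 18}), or (q = 3 and n ∈ {4, 6}), or (q, n) = (5, 6), there is a prime p dividing q^n − 1 but no q^i − 1 with 1 ≤ i < n (a primitive prime divisor), such that p > n + 1 or p² divides q^n − 1. -/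
theorem result (q n : ℕ) (hq : 2 ≤ q) (hn : 2 ≤ n)
    (h1 : ¬ (n = 2 ∧ ∃ s t : ℕ, t ≤ 1 ∧ q + 1 = 2 ^ s * 3 ^ t))
    (h2 : ¬ (q = 2 ∧ (n = 4 ∨ n = 6 ∨ n = 10 ∨ n = 12 ∨ n = 18)))
    (h3 : ¬ (q = 3 ∧ (n = 4 ∨ n = 6))) (h4 : ¬ (q = 5 ∧ n = 6)) :
    ∃ p : ℕ, p.Prime ∧ p ∣ q ^ n - 1 ∧ (∀ i : ℕ, 1 ≤ i → i < n → ¬ p ∣ q ^ i - 1) ∧ (n + 1 < p ∨ p ^ 2 ∣ q ^ n - 1) := by
  rcases Nat.lt_or_ge 2 n with hn2 | hn2
  · obtain ⟨p, hp, h5, h6, h7⟩ := Zsigmondy.exists_large hq hn2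
      (by rintro (h | h | h) <;> [exact h2 h; exact h3 h; exact h4 h])
    exact ⟨p, hp, h5, fun i hi hin => h6 i hin hi, h7⟩
  obtain rfl : n = 2 := by omega
  have hfac : q ^ 2 - 1 = (q + 1) * (q - 1) := by simpa using Nat.sq_sub_sq q 1
  have hprim : ∀ p : ℕ, p.Prime → p ∣ q + 1 → p ≠ 2 → ∀ i : ℕ, 1 ≤ i → i < 2 → ¬ p ∣ q ^ i - 1 := by
    intro p hp hd hp2 i hi hi2 hdi
    obtain rfl : i = 1 := by omega
    rw [pow_one] at hdi
    have := Nat.dvd_sub hd hdi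
    rw [show q + 1 - (q - 1) = 2 by omega] at this
    exact hp2 ((Nat.prime_dvd_prime_iff_eq hp Nat.prime_two).1 this)
  by_contra hcon
  push Not at hcon
  have hdvd : ∀ {p : ℕ}, p ∣ q + 1 → p ∣ q ^ 2 - 1 := fun h => hfac ▸ h.mul_right _
  have hsmall : ∀ p : ℕ, p.Prime → p ∣ q + 1 → p ≠ 2 → p = 3 ∧ ¬ 9 ∣ q + 1 := by
    intro p hp hd hp2
    obtain ⟨h5, h6⟩ := hcon p hp (hdvd hd) (hprim p hp hd hp2)
    have hp3 : p = 3 := by have := hp.two_le; omega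
    subst hp3
    exact ⟨rfl, fun h => h6 (hdvd h)⟩
  refine h1 ⟨rfl, (q + 1).factorization 2, (q + 1).factorization 3, ?_, ?_⟩
  · by_contra ht
    have h9 : 3 ^ 2 ∣ q + 1 := (Nat.Prime.pow_dvd_iff_le_factorization Nat.prime_three (by omega)).2 (by omega)
    exact (hsmall 3 Nat.prime_three ((dvd_pow_self 3 two_ne_zero).trans h9) (by norm_num)).2 h9
  · have hs : (q + 1).factorization.support ⊆ {2, 3} := fun p hp => by
      rw [Nat.support_factorization, Nat.mem_primeFactors] at hp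
      by_cases h2' : p = 2
      · simp [h2']
      · simp [(hsmall p hp.1 hp.2.1 h2').1]
    conv_lhs => rw [← Nat.prod_factorization_pow_eq_self (show q + 1 ≠ 0 by omega)]
    rw [Finsupp.prod_of_support_subset _ hs _ (fun p _ => pow_zero p), Finset.prod_pair (by norm_num)]

end Cfsg.Agent.S3430
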