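import Cfsg.Statements.S3431
import Cfsg.Agent.Lib.SameOrder.Checker
import Cfsg.Agent.Lib.PowEqOne.Basic
import Cfsg.Agent.Lib.PSL2.Groups
import Cfsg.Agent.Lib.BSW.Six
import Cfsg.Agent.Lib.PGroup.CyclicMaximal
-- import your own Cfsg.Agent.* helpers here

set_option autoImplicit false
open Cfsg

namespace Cfsg.Agent.S3431

open SameOrder Subgroup

variable {G : Type*} [Group G] [Finite G]

/-- The number of elements of order `m`. -/
noncomputable def cnt (G : Type*) [Group G] (m : ℕ) : ℕ := Nat.card {g : G // orderOf g = m}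

/-- The set of sizes of the classes of elements of equal order. -/
noncomputable def sizeSet (G : Type*) [Group G] : Set ℕ := (fun m => cnt G m) '' Set.range (orderOf : G → ℕ)

theorem cnt_ne_zero {m : ℕ} : cnt G m ≠ 0 ↔ ∃ g : G, orderOf g = m := by
  rw [cnt, Nat.card_ne_zero]
  exact ⟨fun ⟨⟨g, hg⟩, _⟩ => ⟨g, hg⟩, fun ⟨g, hg⟩ => ⟨⟨⟨g, hg⟩⟩, inferInstance⟩⟩

theorem cnt_one : cnt G 1 = 1 := by
  rw [cnt, Nat.card_eq_one_iff_exists]
  exact ⟨⟨1, orderOf_one⟩, fun g => Subtype.ext (orderOf_eq_one_iff.1 g.2)⟩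

theorem sum_cnt {n : ℕ} (hn : n ≠ 0) : ∑ d ∈ n.divisors, cnt G d = Nat.card {g : G // g ^ n = 1} := by
  classical
  haveI : Fintype G := Fintype.ofFinite G
  simp only [cnt, Nat.card_eq_fintype_card, Fintype.card_subtype]
  convert sum_card_orderOf_eq_card_pow_eq_one (G := G) hn

/-- The counting function satisfies the facts used by the search. -/
theorem real_cnt (c : Cfg) (hodd : Odd c.inv) (hinv1 : c.inv ≠ 1) (heven : ∀ v ∈ c.sizes, Even v ∧ v ≠ 0)
    (hS : ∀ v, v ∈ sizeSet G ↔ v = 1 ∨ v = c.inv ∨ v ∈ c.sizes) : Real c (Nat.card G) (cnt G) := by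
  have hev : ∀ m, 3 ≤ m → Even (cnt G m) := fun m hm =>
    even_iff_two_dvd.2 ((even_iff_two_dvd.1 (Nat.totient_even hm)).trans (PowEqOne.totient_dvd_card_orderOf m))
  have hmem : ∀ m, cnt G m ≠ 0 → cnt G m ∈ sizeSet G := fun m hm => by
    obtain ⟨g, hg⟩ := cnt_ne_zero.1 hm
    exact ⟨m, ⟨g, hg⟩, rfl⟩
  have hex : ∀ v, v = 1 ∨ v = c.inv ∨ v ∈ c.sizes → ∃ m, cnt G m = v ∧ cnt G m ≠ 0 := fun v hv => by
    obtain ⟨m, ⟨g, hg⟩, h⟩ := (hS v).2 hv
    exact ⟨m, h, cnt_ne_zero.2 ⟨g, hg⟩⟩
  have hinv0 : c.inv ≠ 0 := fun h => by rw [h] at hodd; exact Nat.not_odd_zero hodd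
  refine ⟨Nat.card_pos, cnt_one, ?_, hinv0, fun m hm hf => ?_, fun m hm => ?_,
    PowEqOne.totient_dvd_card_orderOf, fun m d hm hd => ?_, fun n hn => ?_, ?_, fun p hp hpn => ?_, fun v hv => ?_⟩
  · obtain ⟨m, hm, hm0⟩ := hex c.inv (Or.inr (Or.inl rfl))
    rcases Nat.lt_or_ge m 3 with h | h
    · interval_cases m
      · obtain ⟨g, hg⟩ := cnt_ne_zero.1 hm0
        exact absurd hg (orderOf_pos g).ne'
      · rw [cnt_one] at hm
        exact absurd hm.symm hinv1
      · exact hm
    · have := hev m h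
      rw [hm] at this
      exact absurd this (Nat.not_even_iff_odd.2 hodd)
  · rcases (hS _).1 (hmem m hf) with h | h | h
    · have := hev m hm
      rw [h] at this
      exact absurd this (by decide)
    · have := hev m hm
      rw [h] at this
      exact absurd this (Nat.not_even_iff_odd.2 hodd)
    · exact h
  · obtain ⟨g, rfl⟩ := cnt_ne_zero.1 hm
    exact orderOf_dvd_natCard g
  · obtain ⟨g, rfl⟩ := cnt_ne_zero.1 hm
    exact cnt_ne_zero.2 ⟨g ^ (orderOf g / d), orderOf_pow_orderOf_div (orderOf_pos g).ne' hd⟩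
  · rw [sum_cnt (Nat.pos_of_dvd_of_pos hn Nat.card_pos).ne']
    exact PowEqOne.dvd_card_pow_eq_one hn
  · rw [sum_cnt Nat.card_pos.ne']
    exact Nat.card_congr (Equiv.subtypeUnivEquiv fun g => pow_card_eq_one')
  · haveI := Fact.mk hp
    obtain ⟨g, hg⟩ := exists_prime_orderOf_dvd_card' p hpn
    exact cnt_ne_zero.2 ⟨g, hg⟩
  · obtain ⟨m, hm, -⟩ := hex v (Or.inr (Or.inr hv))
    exact ⟨(heven v hv).2, fun h => absurd (h ▸ (heven v hv).1) (by decide), m, hm⟩

omit [Finite G] in
/-- The size set from the counts. -/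
theorem sizeSet_eq (l : List ℕ) (hl : ∀ g : G, orderOf g ∈ l) (hne : ∀ m ∈ l, cnt G m ≠ 0) [Finite G] :
    sizeSet G = {v | v ∈ l.map (cnt G)} := by
  ext v
  rw [Set.mem_setOf_eq, List.mem_map]
  constructor
  · rintro ⟨m, ⟨g, rfl⟩, rfl⟩
    exact ⟨_, hl g, rfl⟩
  · rintro ⟨m, hm, rfl⟩
    obtain ⟨g, hg⟩ := cnt_ne_zero.1 (hne m hm)
    exact ⟨m, ⟨g, hg⟩, rfl⟩

omit [Finite G] in
theorem orderOf_mem_of_pow {g : G} (h : g ^ 4 = 1 ∨ g ^ 3 = 1 ∨ g ^ 5 = 1) :
    orderOf g ∈ [1, 2, 3, 4, 5] := by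
  rcases h with h | h | h
  · have hd := orderOf_dvd_of_pow_eq_one h
    have := Nat.le_of_dvd (by norm_num) hd
    interval_cases orderOf g <;> simp_all
  · rcases (Nat.dvd_prime Nat.prime_three).1 (orderOf_dvd_of_pow_eq_one h) with h | h <;> simp [h]
  · rcases (Nat.dvd_prime (by norm_num)).1 (orderOf_dvd_of_pow_eq_one h) with h | h <;> simp [h]

theorem cnt_prime {p : ℕ} (hp : p.Prime) : cnt G p = Nat.card {g : G // g ^ p = 1 ∧ g ≠ 1} := by
  haveI := Fact.mk hp
  refine Nat.card_congr (Equiv.subtypeEquivRight fun g => ⟨fun h => ⟨h ▸ pow_orderOf_eq_one g, fun h1 => ?_⟩,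
    fun h => orderOf_eq_prime h.1 h.2⟩)
  rw [h1, orderOf_one] at h
  exact hp.one_lt.ne h

theorem cnt_four : cnt G 4 = Nat.card {g : G // g ^ 4 = 1 ∧ g ^ 2 ≠ 1} := by
  refine Nat.card_congr (Equiv.subtypeEquivRight fun g => ⟨fun h => ⟨h ▸ pow_orderOf_eq_one g, fun h1 => ?_⟩,
    fun h => ?_⟩)
  · have := Nat.le_of_dvd (by norm_num) (h ▸ orderOf_dvd_of_pow_eq_one h1)
    omega
  · haveI := Fact.mk Nat.prime_two
    exact orderOf_eq_prime_pow (p := 2) (n := 1) (by simpa using h.2) (by simpa using h.1)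

theorem alt_four_facts : (∀ g : alternatingGroup (Fin 4), g ^ 4 = 1 ∨ g ^ 3 = 1) ∧
    (∀ g : alternatingGroup (Fin 4), g ^ 4 = 1 → g ^ 2 = 1) ∧
    Fintype.card {g : alternatingGroup (Fin 4) // g ^ 2 = 1 ∧ g ≠ 1} = 3 ∧
    Fintype.card {g : alternatingGroup (Fin 4) // g ^ 3 = 1 ∧ g ≠ 1} = 8 := by decide +kernel

theorem alt_five_facts : (∀ g : alternatingGroup (Fin 5), g ^ 4 = 1 ∨ g ^ 3 = 1 ∨ g ^ 5 = 1) ∧
    (∀ g : alternatingGroup (Fin 5), g ^ 4 = 1 → g ^ 2 = 1) ∧
    Fintype.card {g : alternatingGroup (Fin 5) // g ^ 2 = 1 ∧ g ≠ 1} = 15 ∧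
    Fintype.card {g : alternatingGroup (Fin 5) // g ^ 3 = 1 ∧ g ≠ 1} = 20 ∧
    Fintype.card {g : alternatingGroup (Fin 5) // g ^ 5 = 1 ∧ g ≠ 1} = 24 := by decide +kernel

theorem alt_six_facts : (∀ g : alternatingGroup (Fin 6), g ^ 4 = 1 ∨ g ^ 3 = 1 ∨ g ^ 5 = 1) ∧
    Fintype.card {g : alternatingGroup (Fin 6) // g ^ 2 = 1 ∧ g ≠ 1} = 45 ∧
    Fintype.card {g : alternatingGroup (Fin 6) // g ^ 3 = 1 ∧ g ≠ 1} = 80 ∧
    Fintype.card {g : alternatingGroup (Fin 6) // g ^ 4 = 1 ∧ g ^ 2 ≠ 1} = 90 ∧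
    Fintype.card {g : alternatingGroup (Fin 6) // g ^ 5 = 1 ∧ g ≠ 1} = 144 := by decide +kernel

theorem order_mem_of_not_four {H : Type*} [Group H] (h4 : ∀ g : H, g ^ 4 = 1 → g ^ 2 = 1) {g : H}
    (hm : orderOf g ∈ [1, 2, 3, 4, 5]) : orderOf g ∈ [1, 2, 3, 5] := by
  simp only [List.mem_cons, List.not_mem_nil, or_false] at hm ⊢
  rcases hm with h | h | h | h | h
  · exact Or.inl h
  · exact Or.inr (Or.inl h)
  · exact Or.inr (Or.inr (Or.inl h))
  · have := Nat.le_of_dvd (by norm_num) (orderOf_dvd_of_pow_eq_one (h4 g (h ▸ pow_orderOf_eq_one g)))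
    omega
  · exact Or.inr (Or.inr (Or.inr h))

theorem sizeSet_four : sizeSet (alternatingGroup (Fin 4)) = {v | v = 1 ∨ v = cfgFour.inv ∨ v ∈ cfgFour.sizes} := by
  obtain ⟨hall, h4, h2, h3⟩ := alt_four_facts
  have e2 : cnt (alternatingGroup (Fin 4)) 2 = 3 := by rw [cnt_prime Nat.prime_two, Nat.card_eq_fintype_card, h2]
  have e3 : cnt (alternatingGroup (Fin 4)) 3 = 8 := by rw [cnt_prime Nat.prime_three, Nat.card_eq_fintype_card, h3]
  rw [sizeSet_eq [1, 2, 3] (fun g => ?_) (fun m hm => ?_)]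
  · simp [cfgFour, cnt_one, e2, e3]
  · have h5 : orderOf g ≠ 5 := fun h => by
      rcases hall g with e | e <;>
        · have := Nat.le_of_dvd (by norm_num) (orderOf_dvd_of_pow_eq_one e)
          omega
    have := order_mem_of_not_four h4 (orderOf_mem_of_pow (g := g) ((hall g).imp_right Or.inl))
    simp only [List.mem_cons, List.not_mem_nil, or_false] at this ⊢
    omega
  · fin_cases hm <;> simp [cnt_one, e2, e3]

theorem sizeSet_five : sizeSet (alternatingGroup (Fin 5)) = {v | v = 1 ∨ v = cfgFive.inv ∨ v ∈ cfgFive.sizes} := by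
  obtain ⟨hall, h4, h2, h3, h5⟩ := alt_five_facts
  have e2 : cnt (alternatingGroup (Fin 5)) 2 = 15 := by rw [cnt_prime Nat.prime_two, Nat.card_eq_fintype_card, h2]
  have e3 : cnt (alternatingGroup (Fin 5)) 3 = 20 := by rw [cnt_prime Nat.prime_three, Nat.card_eq_fintype_card, h3]
  have e5 : cnt (alternatingGroup (Fin 5)) 5 = 24 := by
    rw [cnt_prime (by norm_num), Nat.card_eq_fintype_card, h5]
  rw [sizeSet_eq [1, 2, 3, 5] (fun g => order_mem_of_not_four h4 (orderOf_mem_of_pow (hall g))) (fun m hm => ?_)]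
  · simp [cfgFive, cnt_one, e2, e3, e5]
  · fin_cases hm <;> simp [cnt_one, e2, e3, e5]

theorem sizeSet_six : sizeSet (alternatingGroup (Fin 6)) = {v | v = 1 ∨ v = cfgSix.inv ∨ v ∈ cfgSix.sizes} := by
  obtain ⟨hall, h2, h3, h4, h5⟩ := alt_six_facts
  have e2 : cnt (alternatingGroup (Fin 6)) 2 = 45 := by rw [cnt_prime Nat.prime_two, Nat.card_eq_fintype_card, h2]
  have e3 : cnt (alternatingGroup (Fin 6)) 3 = 80 := by rw [cnt_prime Nat.prime_three, Nat.card_eq_fintype_card, h3]
  have e4 : cnt (alternatingGroup (Fin 6)) 4 = 90 := by rw [cnt_four, Nat.card_eq_fintype_card, h4]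
  have e5 : cnt (alternatingGroup (Fin 6)) 5 = 144 := by
    rw [cnt_prime (by norm_num), Nat.card_eq_fintype_card, h5]
  rw [sizeSet_eq [1, 2, 3, 4, 5] (fun g => orderOf_mem_of_pow (hall g)) (fun m hm => ?_)]
  · simp [cfgSix, cnt_one, e2, e3, e4, e5]
  · fin_cases hm <;> simp [cnt_one, e2, e3, e4, e5]

/-- The order and the element orders from the search. -/
theorem data_of_check (c : Cfg) (hodd : Odd c.inv) (hinv1 : c.inv ≠ 1) (heven : ∀ v ∈ c.sizes, Even v ∧ v ≠ 0)
    (hS : ∀ v, v ∈ sizeSet G ↔ v = 1 ∨ v = c.inv ∨ v ∈ c.sizes) (hc : check c = true)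
    (hpr : ∀ p ∈ c.primes, p.Prime) (hpn : c.primes.Nodup) (hppw : ∀ m ∈ c.pp.map Prod.fst, IsPrimePow m) :
    Nat.card G = c.order ∧ (∀ g : G, orderOf g = 1 ∨ (c.answer.lookup (orderOf g)).getD 0 ≠ 0) ∧
      ∀ m, (m = 2 ∨ m ∈ c.pp.map Prod.fst) → cnt G m = (c.answer.lookup m).getD 0 := by
  obtain ⟨hN, hf⟩ := check_sound (real_cnt c hodd hinv1 heven hS) hc hpr hpn hppw
  refine ⟨hN, fun g => ?_, fun m hm => hf m ?_ (hm.imp_right Or.inl)⟩
  · refine or_iff_not_imp_left.2 fun h => ?_
    have h0 : cnt G (orderOf g) ≠ 0 := cnt_ne_zero.2 ⟨g, rfl⟩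
    have := orderOf_pos g
    rw [← hf _ (by omega) (Or.inr (Or.inr h0))]
    exact h0
  · rcases hm with h | h
    · omega
    · exact (hppw m h).two_le

theorem card_sylow_ne_one {p : ℕ} [Fact p.Prime] {k : ℕ} (hGp : (Nat.card G).factorization p = 1)
    (hcnt : cnt G p = k) (hk : p ≤ k) : Nat.card (Sylow p G) ≠ 1 := by
  intro h1
  obtain ⟨P⟩ := (inferInstance : Nonempty (Sylow p G))
  have hsub : Subsingleton (Sylow p G) := (Nat.card_eq_one_iff_unique.1 h1).1
  have hle : ∀ g : {g : G // orderOf g = p}, (g : G) ∈ (P : Subgroup G) ∧ (g : G) ≠ 1 := fun g => by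
    have hpg : IsPGroup p (zpowers (g : G)) := IsPGroup.of_card (n := 1) (by rw [Nat.card_zpowers, g.2, pow_one])
    obtain ⟨Q, hQ⟩ := hpg.exists_le_sylow
    rw [Subsingleton.elim Q P] at hQ
    exact ⟨hQ (mem_zpowers _), fun h => (Fact.out : p.Prime).one_lt.ne (by rw [← g.2, h, orderOf_one])⟩
  have hinj : cnt G p ≤ Nat.card {x : ↥(P : Subgroup G) // x ≠ 1} :=
    Nat.card_le_card_of_injective (fun g => ⟨⟨g, (hle g).1⟩, fun h => (hle g).2 (congrArg Subtype.val h)⟩)
      fun a b h => Subtype.ext (congrArg (fun x : {x : ↥(P : Subgroup G) // x ≠ 1} => ((x.1 : G))) h)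
  haveI : Fintype ↥(P : Subgroup G) := Fintype.ofFinite _
  classical
  rw [Nat.card_eq_fintype_card (α := {x : ↥(P : Subgroup G) // x ≠ 1}), Fintype.card_subtype_compl,
    Fintype.card_subtype_eq, ← Nat.card_eq_fintype_card, Sylow.card_eq_multiplicity, hGp, pow_one, hcnt] at hinj
  have := (Fact.out : p.Prime).two_le
  omega

theorem equiv_four (hN : Nat.card G = 12) (h3 : cnt G 3 = 8) : Nonempty (G ≃* alternatingGroup (Fin 4)) := by
  classical
  haveI : Fact (Nat.Prime 3) := ⟨Nat.prime_three⟩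
  have hf : (Nat.card G).factorization 3 = 1 := by rw [hN]; decide +kernel
  have hne := card_sylow_ne_one hf h3 (by norm_num)
  obtain ⟨P⟩ := (inferInstance : Nonempty (Sylow 3 G))
  have hP : Nat.card ↥(P : Subgroup G) = 3 := by rw [Sylow.card_eq_multiplicity, hf, pow_one]
  have hdvd : Nat.card (Sylow 3 G) ∣ 4 := by
    have hi : (P : Subgroup G).index = 4 := by
      have h := (P : Subgroup G).card_mul_index
      rw [hP, hN] at h
      omega
    exact hi ▸ P.card_dvd_index
  have hn4 : Nat.card (Sylow 3 G) = 4 := by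
    have hmod := card_sylow_modEq_one 3 G
    have hle := Nat.le_of_dvd (by norm_num) hdvd
    rw [Nat.ModEq] at hmod
    interval_cases Nat.card (Sylow 3 G) <;> omega
  let e : Sylow 3 G ≃ Fin 4 := (Nat.equivFinOfCardPos (by omega)).trans (finCongr hn4)
  let φ : G →* Equiv.Perm (Fin 4) := e.permCongrHom.toMonoidHom.comp (MulAction.toPermHom G (Sylow 3 G))
  have hφ : Function.Injective φ := by
    rw [injective_iff_map_eq_one]
    intro g hg
    have hg' : ∀ Q : Sylow 3 G, g • Q = Q := fun Q => by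
      have h1 : MulAction.toPermHom G (Sylow 3 G) g = 1 := e.permCongrHom.injective (hg.trans (map_one _).symm)
      exact congrArg (fun σ : Equiv.Perm (Sylow 3 G) => σ Q) h1
    have hnorm : ∀ Q : Sylow 3 G, g ∈ (Q : Subgroup G) := fun Q => by
      have hN3 : Nat.card (normalizer ((Q : Subgroup G) : Set G)) = 3 := by
        have h := (normalizer ((Q : Subgroup G) : Set G)).card_mul_index
        have hi : Nat.card (Sylow 3 G) = (normalizer ((Q : Subgroup G) : Set G)).index :=
          Sylow.card_eq_index_normalizer Q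
        rw [hn4] at hi
        rw [← hi, hN] at h
        omega
      have hQc : Nat.card ↥(Q : Subgroup G) = 3 := by rw [Sylow.card_eq_multiplicity, hf, pow_one]
      have heq : (Q : Subgroup G) = normalizer ((Q : Subgroup G) : Set G) :=
        eq_of_le_of_card_ge le_normalizer (by rw [hN3, hQc])
      rw [heq]
      exact Sylow.smul_eq_iff_mem_normalizer.1 (hg' Q)
    obtain ⟨Q, hQ⟩ : ∃ Q : Sylow 3 G, Q ≠ P := by
      by_contra h
      push Not at h
      exact hne (Nat.card_eq_one_iff_unique.2 ⟨⟨fun a b => (h a).trans (h b).symm⟩, ⟨P⟩⟩)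
    by_contra hg1
    have hgen : ∀ R : Sylow 3 G, zpowers g = (R : Subgroup G) := fun R => by
      refine eq_of_le_of_card_ge (zpowers_le.2 (hnorm R)) ?_
      have hRc : Nat.card ↥(R : Subgroup G) = 3 := by rw [Sylow.card_eq_multiplicity, hf, pow_one]
      rw [hRc, Nat.card_zpowers]
      have hd := Subgroup.orderOf_dvd_natCard _ (hnorm R)
      rw [hRc] at hd
      rcases (Nat.dvd_prime Nat.prime_three).1 hd with h | h
      · exact absurd (orderOf_eq_one_iff.1 h) hg1
      · rw [h]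
    exact hQ (Sylow.ext ((hgen Q).symm.trans (hgen P)))
  have hrange : φ.range = alternatingGroup (Fin 4) := by
    refine Equiv.Perm.eq_alternatingGroup_of_index_eq_two ?_
    have h := φ.range.card_mul_index
    rw [← Nat.card_congr (MonoidHom.ofInjective hφ).toEquiv, hN, Nat.card_perm, Nat.card_eq_fintype_card,
      Fintype.card_fin] at h
    have : (4 : ℕ).factorial = 24 := rfl
    omega
  exact ⟨(MonoidHom.ofInjective hφ).trans (MulEquiv.subgroupCongr hrange)⟩

theorem equiv_six (hN : Nat.card G = 360) (hord : ∀ g : G, orderOf g ∈ [1, 2, 3, 4, 5]) (h2 : cnt G 2 = 45)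
    (h3 : cnt G 3 = 80) (h4 : cnt G 4 = 90) (h5 : cnt G 5 = 144) : Nonempty (G ≃* alternatingGroup (Fin 6)) := by
  classical
  haveI : Fintype G := Fintype.ofFinite G
  haveI : Fact (Nat.Prime 2) := ⟨Nat.prime_two⟩
  -- centralisers of involutions
  have hC : ∀ t : G, orderOf t = 2 → Nat.card (BSW.cent t) = 8 ∧ ∀ s : G, orderOf s = 2 → ∃ g, g * t * g⁻¹ = s := by
    intro t ht
    have hp2 : IsPGroup 2 (BSW.cent t) := by
      intro x
      have hx : (x : G) * t = t * (x : G) := mem_centralizer_singleton_iff.1 x.2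
      have hm := hord (x : G)
      simp only [List.mem_cons, List.not_mem_nil, or_false] at hm
      refine ⟨2, Subtype.ext ?_⟩
      rw [SubmonoidClass.coe_pow, Subgroup.coe_one]
      show (x : G) ^ 4 = 1
      have hodd : ∀ k, (k = 3 ∨ k = 5) → orderOf (x : G) ≠ k := fun k hk hxk => by
        have := hord ((x : G) * t)
        rw [(show Commute (x : G) t from hx).orderOf_mul_eq_mul_orderOf_of_coprime
          (by rcases hk with rfl | rfl <;> rw [hxk, ht] <;> norm_num), hxk, ht] at this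
        rcases hk with rfl | rfl <;> simp at this
      refine orderOf_dvd_iff_pow_eq_one.1 ?_
      rcases hm with h | h | h | h | h
      · rw [h]; norm_num
      · rw [h]; norm_num
      · exact absurd h (hodd 3 (Or.inl rfl))
      · rw [h]
      · exact absurd h (hodd 5 (Or.inr rfl))
    obtain ⟨k, hk⟩ := hp2.exists_card_eq
    have hk3 : k ≤ 3 := by
      have h := Subgroup.card_subgroup_dvd_card (BSW.cent t)
      rw [hk, hN] at h
      by_contra hlt
      have h16 : 2 ^ 4 ∣ 360 := (pow_dvd_pow 2 (by omega : 4 ≤ k)).trans h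
      norm_num at h16
    let f : G ⧸ BSW.cent t → {s : G // orderOf s = 2} :=
      Quotient.lift (fun g : G => (⟨g * t * g⁻¹, by rw [← MulAut.conj_apply, MulEquiv.orderOf_eq, ht]⟩ :
        {s : G // orderOf s = 2})) fun a b hab => by
        have h : a⁻¹ * b ∈ BSW.cent t := QuotientGroup.leftRel_apply.1 hab
        have h' : (a⁻¹ * b) * t = t * (a⁻¹ * b) := mem_centralizer_singleton_iff.1 h
        refine Subtype.ext ?_
        calc a * t * a⁻¹ = a * (t * (a⁻¹ * b)) * b⁻¹ := by group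
          _ = a * ((a⁻¹ * b) * t) * b⁻¹ := by rw [h']
          _ = b * t * b⁻¹ := by group
    have hinj : Function.Injective f := by
      rintro ⟨a⟩ ⟨b⟩ hab
      have h' : a * t * a⁻¹ = b * t * b⁻¹ := congrArg Subtype.val hab
      refine QuotientGroup.eq.2 (mem_centralizer_singleton_iff.2 ?_)
      calc a⁻¹ * b * t = a⁻¹ * (b * t * b⁻¹) * b := by group
        _ = a⁻¹ * (a * t * a⁻¹) * b := by rw [h']
        _ = t * (a⁻¹ * b) := by group
    have hle := Nat.card_le_card_of_injective f hinj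
    rw [← index_eq_card, show Nat.card {s : G // orderOf s = 2} = 45 from h2] at hle
    have hm := (BSW.cent t).card_mul_index
    rw [hk, hN] at hm
    have h8 : Nat.card (BSW.cent t) = 8 := by
      rw [hk]
      interval_cases k <;> omega
    refine ⟨h8, fun s hs => ?_⟩
    have hsurj : Function.Surjective f := by
      refine ((Nat.bijective_iff_injective_and_card f).2 ⟨hinj, ?_⟩).2
      rw [← index_eq_card, show Nat.card {s : G // orderOf s = 2} = 45 from h2]
      have h' := (BSW.cent t).card_mul_index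
      rw [h8, hN] at h'
      omega
    obtain ⟨⟨g⟩, hg⟩ := hsurj ⟨s, hs⟩
    exact ⟨g, congrArg Subtype.val hg⟩
  obtain ⟨t, ht⟩ := cnt_ne_zero.1 (show cnt G 2 ≠ 0 by omega)
  obtain ⟨hC8, hconj⟩ := hC t ht
  have hrt : Nat.card {x : G // x * x = t} = 2 := by
    have hsig : Nat.card {x : G // orderOf x = 4} =
        ∑ s : {s : G // orderOf s = 2}, Nat.card {x : G // x * x = (s : G)} := by
      rw [← Nat.card_sigma]
      refine Nat.card_congr
        { toFun := fun x => ⟨⟨(x : G) * x, by rw [← pow_two, orderOf_pow' _ two_ne_zero, x.2]; rfl⟩, x, rfl⟩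
          invFun := fun y => ⟨(y.2 : G), ?_⟩
          left_inv := fun x => rfl
          right_inv := ?_ }
      · refine orderOf_eq_prime_pow (p := 2) (n := 1) ?_ ?_
        · rw [pow_one, pow_two, y.2.2]
          intro h
          have := y.1.2
          rw [h, orderOf_one] at this
          omega
        · rw [show 2 ^ (1 + 1) = 2 * 2 from rfl, pow_mul, pow_two, pow_two, y.2.2, ← pow_two]
          have h := pow_orderOf_eq_one (y.1 : G)
          rw [y.1.2] at h
          exact h
      · rintro ⟨⟨s, hs⟩, x, hx⟩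
        have hx' : x * x = s := hx
        subst hx'
        rfl
    have hconst : ∀ s : {s : G // orderOf s = 2},
        Nat.card {x : G // x * x = (s : G)} = Nat.card {x : G // x * x = t} := fun s => by
      obtain ⟨g, hg⟩ := hconj s s.2
      refine Nat.card_congr (((MulAut.conj g).toEquiv.subtypeEquiv fun x => ?_).symm)
      show x * x = t ↔ g * x * g⁻¹ * (g * x * g⁻¹) = (s : G)
      rw [← hg, show g * x * g⁻¹ * (g * x * g⁻¹) = g * (x * x) * g⁻¹ by group, mul_left_inj, mul_right_inj]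
    rw [show Nat.card {x : G // orderOf x = 4} = 90 from h4, Finset.sum_congr rfl fun s _ => hconst s,
      Finset.sum_const, Finset.card_univ, ← Nat.card_eq_fintype_card,
      show Nat.card {s : G // orderOf s = 2} = 45 from h2, smul_eq_mul] at hsig
    omega
  obtain ⟨⟨x, hx⟩⟩ := (Nat.card_pos_iff.1 (hrt ▸ two_pos : 0 < Nat.card {x : G // x * x = t})).1
  have ht1 : t ≠ 1 := fun h => by rw [h, orderOf_one] at ht; omega
  have hxo : orderOf x = 4 := orderOf_eq_prime_pow (p := 2) (n := 1) (by rw [pow_one, pow_two, hx]; exact ht1)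
    (by rw [show 2 ^ (1 + 1) = 2 * 2 from rfl, pow_mul, pow_two, pow_two, hx, ← pow_two, ← ht, pow_orderOf_eq_one])
  have hxC : x ∈ BSW.cent t := mem_centralizer_singleton_iff.2 (by rw [← hx, mul_assoc])
  have hxi : x⁻¹ * x⁻¹ = t := by
    rw [← mul_inv_rev, hx]
    exact inv_eq_of_mul_eq_one_right (by rw [← pow_two, ← ht, pow_orderOf_eq_one])
  have hxne : x ≠ x⁻¹ := fun h => by
    have h' : x * x = 1 := by nth_rw 2 [h]; exact mul_inv_cancel x
    exact ht1 (hx.symm.trans h')
  have hroots : ∀ w : G, w * w = t → w = x ∨ w = x⁻¹ := by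
    intro w hw
    by_contra hne
    push Not at hne
    rw [Nat.card_eq_fintype_card] at hrt
    have h3 : 2 < Fintype.card {x : G // x * x = t} := Fintype.two_lt_card_iff.2
      ⟨⟨w, hw⟩, ⟨x, hx⟩, ⟨x⁻¹, hxi⟩, fun e => hne.1 (congrArg Subtype.val e), fun e => hne.2 (congrArg Subtype.val e),
        fun e => hxne (congrArg Subtype.val e)⟩
    omega
  obtain ⟨y, hyC, hyx⟩ : ∃ y ∈ BSW.cent t, y ∉ zpowers x := by
    by_contra h
    push Not at h
    have := card_le_of_le (show BSW.cent t ≤ zpowers x from h)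
    rw [hC8, Nat.card_zpowers, hxo] at this
    omega
  have hyC' : y * t = t * y := mem_centralizer_singleton_iff.1 hyC
  have hyy : y * y = 1 := by
    have hsub : (zpowers (⟨x, hxC⟩ : BSW.cent t)).index = 2 := by
      have h := (zpowers (⟨x, hxC⟩ : BSW.cent t)).card_mul_index
      rw [Nat.card_zpowers, ← Subgroup.orderOf_coe, hxo, hC8] at h
      omega
    obtain ⟨i, hi⟩ := sq_mem_of_index_two hsub (⟨y, hyC⟩ : BSW.cent t)
    have hi' : x ^ i = y * y := by
      have := congrArg Subtype.val hi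
      simpa [pow_two] using this
    have hy4 : y ^ 4 = 1 := by
      have hd : orderOf (⟨y, hyC⟩ : BSW.cent t) ∣ 8 := hC8 ▸ orderOf_dvd_natCard _
      rw [← Subgroup.orderOf_coe] at hd
      have hm := hord y
      simp only [List.mem_cons, List.not_mem_nil, or_false] at hm
      refine orderOf_dvd_iff_pow_eq_one.1 ?_
      rcases hm with h | h | h | h | h <;> rw [h] at hd ⊢ <;> first | decide | exact absurd hd (by decide)
    have hii : (4 : ℤ) ∣ i + i := by
      have h := orderOf_dvd_iff_zpow_eq_one.2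
        (show x ^ (i + i) = 1 by rw [zpow_add, hi', ← pow_two, ← pow_two, ← pow_mul, hy4])
      rw [hxo] at h
      exact_mod_cast h
    obtain ⟨e, he⟩ : Even i := by
      obtain ⟨a, ha⟩ := hii
      exact ⟨a, by omega⟩
    rw [← two_mul] at he
    rcases Int.even_or_odd e with ⟨d, hd⟩ | ⟨d, hd⟩
    · rw [← hi', he, hd, show (2 : ℤ) * (d + d) = ((4 : ℕ) : ℤ) * d by push_cast; ring, zpow_mul, zpow_natCast,
        ← hxo, pow_orderOf_eq_one, one_zpow]
    · exfalso
      rw [he, hd, show (2 : ℤ) * (2 * d + 1) = ((4 : ℕ) : ℤ) * d + (2 : ℕ) by push_cast; ring, zpow_add, zpow_mul,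
        zpow_natCast, zpow_natCast, ← hxo, pow_orderOf_eq_one, one_zpow, one_mul, pow_two, hx] at hi'
      rcases hroots y hi'.symm with h | h
      · exact hyx (h ▸ mem_zpowers x)
      · exact hyx (h ▸ inv_mem (mem_zpowers x))
  have hinv : y * x * y⁻¹ = x⁻¹ := by
    refine (hroots _ ?_).resolve_left fun h => ?_
    · rw [show y * x * y⁻¹ * (y * x * y⁻¹) = y * (x * x) * y⁻¹ by group, hx, hyC', mul_inv_cancel_right]
    · have hcom : y * x = x * y := mul_inv_eq_iff_eq_mul.1 h
      have hw : x * y * (x * y) = t := by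
        rw [mul_assoc, ← mul_assoc y x y, hcom, mul_assoc x y y, hyy, mul_one, hx]
      rcases hroots _ hw with e | e
      · exact hyx (by rw [mul_eq_left.1 e]; exact one_mem _)
      · refine hyx ?_
        rw [show y = x⁻¹ * x⁻¹ by rw [← inv_mul_cancel_left x y, e]]
        exact mul_mem (inv_mem (mem_zpowers x)) (inv_mem (mem_zpowers x))
  obtain ⟨eG⟩ := PGroup.dihedralEquivOfGen (N := 4) (G := BSW.cent t) (a := ⟨x, hxC⟩) (b := ⟨y, hyC⟩)
    (by rw [← Subgroup.orderOf_coe]; exact hxo) (Subtype.ext (by simpa [pow_two] using hyy))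
    (Subtype.ext (by simpa using hinv)) (fun h => hyx (by
      obtain ⟨i, hi⟩ := h
      exact ⟨i, by simpa using congrArg Subtype.val hi⟩)) (by rw [hC8])
  -- no subgroup of index two
  have hidx : ∀ M : Subgroup G, M.index ≠ 2 := by
    intro M hM
    haveI := normal_of_index_eq_two hM
    have hodd : ∀ g : G, Odd (orderOf g) → g ∈ M := fun g hg => by
      obtain ⟨k, hk⟩ := hg
      have h : g = (g ^ 2) ^ (k + 1) := by
        rw [← pow_mul, show 2 * (k + 1) = orderOf g + 1 by omega, pow_succ, pow_orderOf_eq_one, one_mul]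
      rw [h]
      exact M.pow_mem (sq_mem_of_index_two hM g) _
    have hMc : Nat.card M = 180 := by
      have := M.card_mul_index
      rw [hM, hN] at this
      omega
    have hle : Nat.card ({g : G // orderOf g = 3} ⊕ {g : G // orderOf g = 5}) ≤ Nat.card M := by
      refine Nat.card_le_card_of_injective (Sum.elim (fun g => (⟨g, hodd g (by rw [g.2]; decide)⟩ : M))
        (fun g => (⟨g, hodd g (by rw [g.2]; decide)⟩ : M))) ?_
      rintro (⟨a, ha⟩ | ⟨a, ha⟩) (⟨b, hb⟩ | ⟨b, hb⟩) hab <;> simp at hab <;> subst hab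
      · rfl
      · omega
      · omega
      · rfl
    rw [Nat.card_sum, show Nat.card {g : G // orderOf g = 3} = 80 from h3,
      show Nat.card {g : G // orderOf g = 5} = 144 from h5, hMc] at hle
    omega
  obtain ⟨d, hd⟩ := cnt_ne_zero.1 (show cnt (alternatingGroup (Fin 6)) 2 ≠ 0 by
    rw [cnt_prime Nat.prime_two, Nat.card_eq_fintype_card, alt_six_facts.2.1]; norm_num)
  obtain ⟨eH⟩ := BSW.equiv_cent_alternating_six d hd
  exact BSW.mulEquiv_of_dihedral hN (by rw [nat_card_alternatingGroup, Nat.card_eq_fintype_card, Fintype.card_fin]; rfl)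
    ht eG.symm hidx hd eH BSW.alternating_six_index_ne_two

/-- Let n be 4, 5 or 6 and let G be a finite group whose set of sizes of same-order classes (the set of numbers #{g : o(g) = m} over the element orders m of G) equals that of the alternating group of degree n. Then G is isomorphic to that alternating group. -/
theorem result {G : Type*} [Group G] [Finite G] (n : ℕ) (hn : n = 4 ∨ n = 5 ∨ n = 6)
    (h : ((fun m : ℕ => Nat.card {g : G // orderOf g = m}) '' Set.range (orderOf : G → ℕ)) = ((fun m : ℕ => Nat.card {g : ↥(alternatingGroup (Fin n)) // orderOf g = m}) '' Set.range (orderOf : ↥(alternatingGroup (Fin n)) → ℕ))) :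
    Nonempty (G ≃* ↥(alternatingGroup (Fin n))) := by
  have h' : sizeSet G = sizeSet ↥(alternatingGroup (Fin n)) := h
  rcases hn with rfl | rfl | rfl
  · rw [sizeSet_four] at h'
    obtain ⟨hN, -, hc⟩ := data_of_check cfgFour (by decide) (by decide) (by decide) (fun v => by rw [h']; rfl)
      check_four (by simp [cfgFour, Nat.prime_two, Nat.prime_three]) (by decide) (by
        intro m hm
        simp [cfgFour] at hm
        rcases hm with rfl | rfl | rfl | rfl <;> decide +kernel)
    exact equiv_four hN (hc 3 (Or.inr (by decide)))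
  · rw [sizeSet_five] at h'
    obtain ⟨hN, hord, hc⟩ := data_of_check cfgFive (by decide) (by decide) (by decide) (fun v => by rw [h']; rfl)
      check_five (by simp [cfgFive, Nat.prime_two, Nat.prime_three, Nat.prime_five]) (by decide) (by
        intro m hm
        simp [cfgFive] at hm
        rcases hm with rfl | rfl | rfl | rfl | rfl | rfl | rfl <;> decide +kernel)
    haveI : Fact (Nat.Prime 5) := ⟨Nat.prime_five⟩
    refine PSL2.mulEquiv_alternatingFive hN (fun g => ?_)
      (card_sylow_ne_one (by rw [hN]; decide +kernel) (hc 5 (Or.inr (by decide))) (by decide))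
    simp only [Set.mem_insert_iff, Set.mem_singleton_iff]
    rcases hord g with e | e
    · exact Or.inl e
    · by_contra hne
      push Not at hne
      have key : ∀ m, m ≠ 2 → m ≠ 3 → m ≠ 5 → (cfgFive.answer.lookup m).getD 0 = 0 := fun m a b c => by
        simp [cfgFive, List.lookup, beq_false_of_ne a, beq_false_of_ne b, beq_false_of_ne c]
      exact e (key _ hne.2.1 hne.2.2.1 hne.2.2.2)
  · rw [sizeSet_six] at h'
    obtain ⟨hN, hord, hc⟩ := data_of_check cfgSix (by decide) (by decide) (by decide) (fun v => by rw [h']; rfl)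
      check_six (by simp [cfgSix, Nat.prime_two, Nat.prime_three, Nat.prime_five]; norm_num) (by decide) (by
        intro m hm
        simp [cfgSix] at hm
        rcases hm with rfl | rfl | rfl | rfl | rfl | rfl | rfl | rfl | rfl | rfl <;> decide +kernel)
    refine equiv_six hN (fun g => ?_) (hc 2 (Or.inl rfl)) (hc 3 (Or.inr (by decide))) (hc 4 (Or.inr (by decide)))
      (hc 5 (Or.inr (by decide)))
    simp only [List.mem_cons, List.not_mem_nil, or_false]
    rcases hord g with e | e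
    · exact Or.inl e
    · by_contra hne
      push Not at hne
      have key : ∀ m, m ≠ 2 → m ≠ 3 → m ≠ 4 → m ≠ 5 → (cfgSix.answer.lookup m).getD 0 = 0 := fun m a b c d => by
        simp [cfgSix, List.lookup, beq_false_of_ne a, beq_false_of_ne b, beq_false_of_ne c, beq_false_of_ne d]
      exact e (key _ hne.2.1 hne.2.2.1 hne.2.2.2.1 hne.2.2.2.2)

end Cfsg.Agent.S3431
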