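import Cfsg.Statements.S3433
import Cfsg.Agent.Lib.Orders5.Main

set_option autoImplicit false
open Cfsg

namespace Cfsg.Agent.S3433

open Cfsg.Agent.Orders5

theorem ord5_of_range {G : Type*} [Group G] (h : Set.range (orderOf : G → ℕ) = {k : ℕ | 1 ≤ k ∧ k ≤ 5}) :
    Ord5 G := by
  intro g
  have h1 : orderOf g ∈ {k : ℕ | 1 ≤ k ∧ k ≤ 5} := h ▸ Set.mem_range_self g
  obtain ⟨h1, h5⟩ := h1
  have hd := pow_orderOf_eq_one g
  interval_cases hk : orderOf g
  · exact Or.inl (by rw [pow_one] at hd; simp [hd])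
  · exact Or.inl (by rw [show 4 = 2 * 2 from rfl, pow_mul, hd, one_pow])
  · exact Or.inr (Or.inl hd)
  · exact Or.inl hd
  · exact Or.inr (Or.inr hd)

theorem not_solvable_of_range {G : Type*} [Group G] [Finite G]
    (h : Set.range (orderOf : G → ℕ) = {k : ℕ | 1 ≤ k ∧ k ≤ 5}) : ¬ Group.IsSolvable G := by
  intro hs
  have hd : ∀ k : ℕ, 1 ≤ k → k ≤ 5 → k ∣ Nat.card G := fun k h1 h5 => by
    obtain ⟨g, hg⟩ : k ∈ Set.range (orderOf : G → ℕ) := h ▸ ⟨h1, h5⟩
    exact hg ▸ orderOf_dvd_natCard g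
  exact (ord5_of_range h).solvable_two_primes
    ⟨hd 2 (by norm_num) (by norm_num), hd 3 (by norm_num) (by norm_num), hd 5 (by norm_num) (by norm_num)⟩

theorem elementary_of_ker {G : Type*} [Group G] [Finite G] (h : Ord5 G) (π : G →* A5.Alt)
    (hπ : Function.Surjective π) (hk : IsPGroup 2 π.ker) : Cfsg.IsElementaryAbelian 2 π.ker := by
  have hsq : ∀ d ∈ π.ker, d * d = 1 := by
    by_cases hb : π.ker = ⊥
    · intro d hd
      rw [hb, Subgroup.mem_bot] at hd
      rw [hd, one_mul]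
    let π' : (⊤ : Subgroup G) →* A5.Alt := π.comp (Subgroup.topEquiv).toMonoidHom
    obtain ⟨S, -, -, -, -, hsq, -⟩ := frame h (D := π.ker) (H := ⊤) le_top
      (by rw [Subgroup.normalizer_eq_top (H := π.ker)]) hk hb π'
      (hπ.comp Subgroup.topEquiv.surjective) (by ext x; rfl)
    exact hsq
  exact ⟨⟨⟨fun a b => Subtype.ext (Count.inv_mul_comm hsq a.2 b.2).eq⟩⟩, fun a ha => by rw [pow_two]; exact hsq a ha⟩


/-- A finite group whose set of element orders is exactly {1, 2, 3, 4, 5} is isomorphic to the alternating group of degree 6, or has a normal elementary abelian 2-subgroup with quotient isomorphic to the alternating group of degree 5. -/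
theorem result {G : Type*} [Group G] [Finite G] (h : Set.range (orderOf : G → ℕ) = {k : ℕ | 1 ≤ k ∧ k ≤ 5}) :
    Nonempty (G ≃* ↥(alternatingGroup (Fin 6))) ∨
      ∃ (N : Subgroup G) (_ : N.Normal), Cfsg.IsElementaryAbelian 2 N ∧ Nonempty (G ⧸ N ≃* ↥(alternatingGroup (Fin 5))) := by
  have h5 := ord5_of_range h
  rcases shape h5 (not_solvable_of_range h) with he | ⟨π, hπ, hk⟩
  · exact Or.inl he
  · exact Or.inr ⟨π.ker, inferInstance, elementary_of_ker h5 π hπ hk,
      ⟨QuotientGroup.quotientKerEquivOfSurjective π hπ⟩⟩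

end Cfsg.Agent.S3433
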