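import Cfsg.Statements.S3437
import Cfsg.Agent.Lib.Solvable.Converse
import Cfsg.Agent.Lib.GLOrder.Basic
import Mathlib.FieldTheory.Finite.GaloisField
-- import your own Cfsg.Agent.* helpers here

set_option autoImplicit false
open Cfsg

namespace Cfsg.Agent.S3437

open Matrix

section PSL

abbrev K3 := ZMod 3

/-- One step of the linear recurrence of the Cayley-Hamilton theorem. -/
def step (t s : K3) (x : K3 × K3 × K3) : K3 × K3 × K3 := (x.2.1 + x.1 * t, x.2.2 - x.1 * s, x.1)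

theorem step_check : ∀ t s : K3, (step t s)^[6] (0, 0, 1) = (0, 0, 1) ∨ (step t s)^[8] (0, 0, 1) = (0, 0, 1) ∨
    (step t s)^[13] (0, 0, 1) = (0, 0, 1) := by decide +kernel

theorem pow_cases (M : Matrix.SpecialLinearGroup (Fin 3) K3) : M ^ 6 = 1 ∨ M ^ 8 = 1 ∨ M ^ 13 = 1 := by
  set A := (M : Matrix (Fin 3) (Fin 3) K3) with hA
  set t := A 0 0 + A 1 1 + A 2 2 with ht
  set s := A 0 0 * A 1 1 - A 0 1 * A 1 0 + (A 0 0 * A 2 2 - A 0 2 * A 2 0) + (A 1 1 * A 2 2 - A 1 2 * A 2 1) with hs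
  have hdet : A.det = 1 := M.2
  have hcay : A * (A * A) = t • (A * A) - s • A + 1 := by
    have h : A * (A * A) = t • (A * A) - s • A + A.det • (1 : Matrix (Fin 3) (Fin 3) K3) := by
      ext i j
      fin_cases i <;> fin_cases j <;>
        simp [ht, hs, Matrix.det_fin_three, Matrix.mul_apply, Fin.sum_univ_three] <;> ring
    rwa [hdet, one_smul] at h
  let ev : K3 × K3 × K3 → Matrix (Fin 3) (Fin 3) K3 := fun x => x.1 • (A * A) + x.2.1 • A + x.2.2 • 1
  have hev : ∀ k, A ^ k = ev ((step t s)^[k] (0, 0, 1)) := by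
    intro k
    induction k with
    | zero => simp [ev]
    | succ k ih =>
      rw [pow_succ', ih, Function.iterate_succ_apply']
      set x := (step t s)^[k] (0, 0, 1)
      simp only [ev, step, mul_add, Matrix.mul_smul, mul_one, hcay, smul_add, smul_sub, smul_smul, add_smul,
        sub_smul]
      abel
  have h1 : ev (0, 0, 1) = 1 := by simp [ev]
  have key : ∀ k, (step t s)^[k] (0, 0, 1) = (0, 0, 1) → M ^ k = 1 := fun k hk => Subtype.ext (by
    rw [Matrix.SpecialLinearGroup.coe_pow, Matrix.SpecialLinearGroup.coe_one, ← hA, hev k, hk, h1])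
  exact (step_check t s).imp (key 6) (Or.imp (key 8) (key 13))

theorem orderOf_of_check {M : Type*} [Monoid M] {x : M} {n : ℕ} (hn : 0 < n) (h : x ^ n = 1)
    (h' : ∀ m < n, m = 0 ∨ x ^ m ≠ 1) : orderOf x = n :=
  (orderOf_eq_iff hn).2 ⟨h, fun m hm hm0 => (h' m hm).resolve_left hm0.ne'⟩

theorem range_sl :
    Set.range (orderOf : Matrix.SpecialLinearGroup (Fin 3) K3 → ℕ) = {1, 2, 3, 4, 6, 8, 13} := by
  ext n
  constructor
  · rintro ⟨M, rfl⟩
    have hd : orderOf M ∣ 6 ∨ orderOf M ∣ 8 ∨ orderOf M ∣ 13 :=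
      (pow_cases M).imp orderOf_dvd_of_pow_eq_one (Or.imp orderOf_dvd_of_pow_eq_one orderOf_dvd_of_pow_eq_one)
    have hle : orderOf M ≤ 13 := by
      rcases hd with h | h | h <;> have := Nat.le_of_dvd (by norm_num) h <;> omega
    simp only [Set.mem_insert_iff, Set.mem_singleton_iff]
    generalize orderOf M = k at hd hle ⊢
    interval_cases k <;> omega
  · rintro (rfl | rfl | rfl | rfl | rfl | rfl | rfl)
    · exact ⟨1, orderOf_one⟩
    · exact ⟨⟨!![2, 0, 0; 0, 2, 0; 0, 0, 1], by decide +kernel⟩, orderOf_of_check (by norm_num) (by decide +kernel) (by decide +kernel)⟩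
    · exact ⟨⟨!![1, 1, 0; 0, 1, 0; 0, 0, 1], by decide +kernel⟩, orderOf_of_check (by norm_num) (by decide +kernel) (by decide +kernel)⟩
    · exact ⟨⟨!![0, 2, 0; 1, 0, 0; 0, 0, 1], by decide +kernel⟩, orderOf_of_check (by norm_num) (by decide +kernel) (by decide +kernel)⟩
    · exact ⟨⟨!![2, 1, 0; 0, 2, 0; 0, 0, 1], by decide +kernel⟩, orderOf_of_check (by norm_num) (by decide +kernel) (by decide +kernel)⟩
    · exact ⟨⟨!![0, 1, 0; 1, 2, 0; 0, 0, 2], by decide +kernel⟩, orderOf_of_check (by norm_num) (by decide +kernel) (by decide +kernel)⟩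
    · exact ⟨⟨!![0, 0, 1; 1, 0, 1; 0, 1, 0], by decide +kernel⟩, orderOf_of_check (by norm_num) (by decide +kernel) (by decide +kernel)⟩

theorem range_eq_of_equiv {G H : Type*} [Monoid G] [Monoid H] (e : G ≃* H) :
    Set.range (orderOf : G → ℕ) = Set.range (orderOf : H → ℕ) := by
  ext n
  exact ⟨fun ⟨x, hx⟩ => ⟨e x, by rw [e.orderOf_eq, hx]⟩, fun ⟨x, hx⟩ => ⟨e.symm x, by rw [e.symm.orderOf_eq, hx]⟩⟩

theorem range_psl {F : Type*} [Field F] [Fintype F] (hF : Fintype.card F = 3) :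
    Set.range (orderOf : Matrix.ProjectiveSpecialLinearGroup (Fin 3) F → ℕ) = {1, 2, 3, 4, 6, 8, 13} := by
  haveI : Fact (Nat.Prime 3) := ⟨Nat.prime_three⟩
  let e := FiniteField.ringEquivOfCardEq (K := F) (K' := K3) (by rw [hF, ZMod.card])
  have hc : Subgroup.center (Matrix.SpecialLinearGroup (Fin 3) F) = ⊥ := by
    refine Subgroup.eq_bot_of_card_eq _ ?_
    rw [GLOrder.card_center_SL, Nat.card_eq_fintype_card (α := F), hF]
    rfl
  have h1 : Function.Injective (Matrix.SpecialLinearGroup.map (n := Fin 3) e.toRingHom) := fun A B h => by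
    refine Subtype.ext (Matrix.ext fun i j => e.injective ?_)
    exact congrArg (fun C : Matrix.SpecialLinearGroup (Fin 3) K3 => (C : Matrix _ _ K3) i j) h
  have h2 : Function.Surjective (Matrix.SpecialLinearGroup.map (n := Fin 3) e.toRingHom) := fun B =>
    ⟨Matrix.SpecialLinearGroup.map e.symm.toRingHom B, Subtype.ext (Matrix.ext fun i j => e.apply_symm_apply _)⟩
  rw [← range_sl, ← range_eq_of_equiv (MulEquiv.ofBijective _ ⟨h1, h2⟩)]
  exact range_eq_of_equiv ((QuotientGroup.quotientMulEquivOfEq hc).trans QuotientGroup.quotientBot)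

end PSL

section Frobenius

abbrev M13 := Matrix (Fin 4) (Fin 4) (ZMod 13)

def gs : M13ˣ := ⟨!![0, 6, 0, 0; 3, 0, 0, 0; 0, 0, 0, 9; 0, 0, 11, 0],
  !![0, 9, 0, 0; 11, 0, 0, 0; 0, 0, 0, 6; 0, 0, 3, 0], by decide +kernel, by decide +kernel⟩

def gw : M13ˣ := ⟨!![2, 0, 3, 0; 0, 2, 0, 3; 2, 0, 10, 0; 0, 2, 0, 10],
  !![10, 0, 10, 0; 0, 10, 0, 10; 11, 0, 2, 0; 0, 11, 0, 2], by decide +kernel, by decide +kernel⟩

/-- The matrix with the given 16 entries. -/
def toM (a : List ℕ) : M13 := Matrix.of fun i j => (a.getD (4 * i.val + j.val) 0 : ZMod 13)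

/-- Product of matrices given by their entries. -/
def mulN (a b : List ℕ) : List ℕ :=
  (List.range 16).map fun k => (a.getD (k / 4 * 4) 0 * b.getD (k % 4) 0 + a.getD (k / 4 * 4 + 1) 0 * b.getD (4 + k % 4) 0 +
    a.getD (k / 4 * 4 + 2) 0 * b.getD (8 + k % 4) 0 + a.getD (k / 4 * 4 + 3) 0 * b.getD (12 + k % 4) 0) % 13

/-- `a + b + c` on entries. -/
def add3N (a b c : List ℕ) : List ℕ :=
  (List.range 16).map fun k => (a.getD k 0 + b.getD k 0 + c.getD k 0) % 13

theorem toM_mulN (a b : List ℕ) : toM (mulN a b) = toM a * toM b := by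
  ext i j
  fin_cases i <;> fin_cases j <;> simp [toM, mulN, Matrix.mul_apply, Fin.sum_univ_four]

theorem toM_add3N (a b c : List ℕ) : toM (add3N a b c) = toM a + toM b + toM c := by
  ext i j
  fin_cases i <;> fin_cases j <;> simp [toM, add3N]

def oneN : List ℕ := [1, 0, 0, 0, 0, 1, 0, 0, 0, 0, 1, 0, 0, 0, 0, 1]
def negN : List ℕ := [12, 0, 0, 0, 0, 12, 0, 0, 0, 0, 12, 0, 0, 0, 0, 12]
def zeroN : List ℕ := [0, 0, 0, 0, 0, 0, 0, 0, 0, 0, 0, 0, 0, 0, 0, 0]
def gsN : List ℕ := [0, 6, 0, 0, 3, 0, 0, 0, 0, 0, 0, 9, 0, 0, 11, 0]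
def gwN : List ℕ := [2, 0, 3, 0, 0, 2, 0, 3, 2, 0, 10, 0, 0, 2, 0, 10]

/-- The entries of the elements of the binary octahedral group. -/
def eltsN : List (List ℕ) :=
  [[1, 0, 0, 0, 0, 1, 0, 0, 0, 0, 1, 0, 0, 0, 0, 1],
    [0, 6, 0, 0, 3, 0, 0, 0, 0, 0, 0, 9, 0, 0, 11, 0],
    [2, 0, 3, 0, 0, 2, 0, 3, 2, 0, 10, 0, 0, 2, 0, 10],
    [5, 0, 0, 0, 0, 5, 0, 0, 0, 0, 8, 0, 0, 0, 0, 8],
    [0, 12, 0, 5, 6, 0, 9, 0, 0, 5, 0, 12, 9, 0, 6, 0],
    [0, 12, 0, 1, 6, 0, 7, 0, 0, 12, 0, 12, 6, 0, 6, 0],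
    [10, 0, 10, 0, 0, 10, 0, 10, 11, 0, 2, 0, 0, 11, 0, 2],
    [0, 4, 0, 0, 2, 0, 0, 0, 0, 0, 0, 7, 0, 0, 10, 0],
    [10, 0, 2, 0, 0, 10, 0, 2, 3, 0, 2, 0, 0, 3, 0, 2],
    [10, 0, 3, 0, 0, 10, 0, 3, 2, 0, 2, 0, 0, 2, 0, 2],
    [0, 8, 0, 8, 4, 0, 4, 0, 0, 8, 0, 5, 4, 0, 9, 0],
    [10, 0, 11, 0, 0, 10, 0, 11, 10, 0, 2, 0, 0, 10, 0, 2],
    [0, 0, 0, 7, 0, 0, 10, 0, 0, 9, 0, 0, 11, 0, 0, 0],
    [0, 8, 0, 12, 4, 0, 6, 0, 0, 1, 0, 5, 7, 0, 9, 0],
    [12, 0, 0, 0, 0, 12, 0, 0, 0, 0, 12, 0, 0, 0, 0, 12],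
    [0, 8, 0, 5, 4, 0, 9, 0, 0, 5, 0, 5, 9, 0, 9, 0],
    [11, 0, 11, 0, 0, 11, 0, 11, 10, 0, 3, 0, 0, 10, 0, 3],
    [0, 8, 0, 1, 4, 0, 7, 0, 0, 12, 0, 5, 6, 0, 9, 0],
    [0, 0, 8, 0, 0, 0, 0, 8, 8, 0, 0, 0, 0, 8, 0, 0],
    [11, 0, 10, 0, 0, 11, 0, 10, 11, 0, 3, 0, 0, 11, 0, 3],
    [3, 0, 10, 0, 0, 3, 0, 10, 11, 0, 11, 0, 0, 11, 0, 11],
    [0, 0, 12, 0, 0, 0, 0, 12, 1, 0, 0, 0, 0, 1, 0, 0],
    [0, 1, 0, 5, 7, 0, 9, 0, 0, 5, 0, 1, 9, 0, 7, 0],
    [11, 0, 2, 0, 0, 11, 0, 2, 3, 0, 3, 0, 0, 3, 0, 3],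
    [0, 1, 0, 1, 7, 0, 7, 0, 0, 12, 0, 1, 6, 0, 7, 0],
    [0, 7, 0, 0, 10, 0, 0, 0, 0, 0, 0, 4, 0, 0, 2, 0],
    [11, 0, 3, 0, 0, 11, 0, 3, 2, 0, 3, 0, 0, 2, 0, 3],
    [0, 0, 0, 9, 0, 0, 11, 0, 0, 7, 0, 0, 10, 0, 0, 0],
    [0, 1, 0, 8, 7, 0, 4, 0, 0, 8, 0, 1, 4, 0, 7, 0],
    [0, 5, 0, 8, 9, 0, 4, 0, 0, 8, 0, 8, 4, 0, 4, 0],
    [3, 0, 2, 0, 0, 3, 0, 2, 3, 0, 11, 0, 0, 3, 0, 11],
    [0, 1, 0, 12, 7, 0, 6, 0, 0, 1, 0, 1, 7, 0, 7, 0],
    [3, 0, 3, 0, 0, 3, 0, 3, 2, 0, 11, 0, 0, 2, 0, 11],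
    [0, 5, 0, 12, 9, 0, 6, 0, 0, 1, 0, 8, 7, 0, 4, 0],
    [0, 0, 5, 0, 0, 0, 0, 5, 5, 0, 0, 0, 0, 5, 0, 0],
    [0, 0, 0, 4, 0, 0, 2, 0, 0, 6, 0, 0, 3, 0, 0, 0],
    [0, 0, 1, 0, 0, 0, 0, 1, 12, 0, 0, 0, 0, 12, 0, 0],
    [3, 0, 11, 0, 0, 3, 0, 11, 10, 0, 11, 0, 0, 10, 0, 11],
    [8, 0, 0, 0, 0, 8, 0, 0, 0, 0, 5, 0, 0, 0, 0, 5],
    [2, 0, 11, 0, 0, 2, 0, 11, 10, 0, 10, 0, 0, 10, 0, 10],
    [0, 5, 0, 5, 9, 0, 9, 0, 0, 5, 0, 8, 9, 0, 4, 0],
    [2, 0, 10, 0, 0, 2, 0, 10, 11, 0, 10, 0, 0, 11, 0, 10],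
    [0, 0, 0, 6, 0, 0, 3, 0, 0, 4, 0, 0, 2, 0, 0, 0],
    [0, 5, 0, 1, 9, 0, 7, 0, 0, 12, 0, 8, 6, 0, 4, 0],
    [2, 0, 2, 0, 0, 2, 0, 2, 3, 0, 10, 0, 0, 3, 0, 10],
    [0, 9, 0, 0, 11, 0, 0, 0, 0, 0, 0, 6, 0, 0, 3, 0],
    [0, 12, 0, 8, 6, 0, 4, 0, 0, 8, 0, 12, 4, 0, 6, 0],
    [0, 12, 0, 12, 6, 0, 6, 0, 0, 1, 0, 12, 7, 0, 6, 0]]

/-- The elements of the binary octahedral group. -/
def elts : List M13 := eltsN.map toM

theorem toM_one : toM oneN = 1 := by decide +kernel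
theorem toM_neg : toM negN = -1 := by decide +kernel
theorem toM_zero : toM zeroN = 0 := by decide +kernel
theorem toM_gs : toM gsN = (gs : M13) := by decide +kernel
theorem toM_gw : toM gwN = (gw : M13) := by decide +kernel

theorem eltsN_check : oneN ∈ eltsN ∧ ∀ a ∈ eltsN, (mulN a gsN ∈ eltsN ∧ mulN a gwN ∈ eltsN) ∧
    (a = oneN ∨ a = negN ∨ mulN a a = negN ∨ add3N (mulN a a) a oneN = zeroN ∨ mulN a (mulN a a) = negN ∨
      mulN (mulN a a) (mulN a a) = negN) := by decide +kernel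

theorem elts_one : (1 : M13) ∈ elts := toM_one ▸ List.mem_map_of_mem eltsN_check.1

theorem elts_mul : ∀ a ∈ elts, a * (gs : M13) ∈ elts ∧ a * (gw : M13) ∈ elts := by
  intro a ha
  obtain ⟨x, hx, rfl⟩ := List.mem_map.1 ha
  obtain ⟨⟨h1, h2⟩, -⟩ := eltsN_check.2 x hx
  rw [← toM_gs, ← toM_gw, ← toM_mulN, ← toM_mulN]
  exact ⟨List.mem_map_of_mem h1, List.mem_map_of_mem h2⟩

theorem elts_class : ∀ a ∈ elts, a = 1 ∨ a = -1 ∨ a * a = -1 ∨ a * a + a + 1 = 0 ∨ a * (a * a) = -1 ∨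
    (a * a) * (a * a) = -1 := by
  intro a ha
  obtain ⟨x, hx, rfl⟩ := List.mem_map.1 ha
  rw [← toM_neg, ← toM_zero, ← toM_one]
  simp only [← toM_mulN, ← toM_add3N]
  exact (eltsN_check.2 x hx).2.imp (congrArg toM) (Or.imp (congrArg toM) (Or.imp (congrArg toM)
    (Or.imp (congrArg toM) (Or.imp (congrArg toM) (congrArg toM)))))

/-- The binary octahedral group in `GL(4, 13)`. -/
def oct : Subgroup M13ˣ := Subgroup.closure {gs, gw}

theorem mem_elts {u : M13ˣ} (hu : u ∈ oct) : (u : M13) ∈ elts := by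
  have hu' : u ∈ Submonoid.closure ({gs, gw} : Set M13ˣ) := by
    rw [← Subgroup.closure_toSubmonoid_of_finite]
    exact hu
  induction hu' using Submonoid.closure_induction_right with
  | one => exact elts_one
  | mul_right x hx y hy ih =>
    have := elts_mul _ (ih ((Subgroup.closure_toSubmonoid_of_finite (s := ({gs, gw} : Set M13ˣ))).ge hx))
    rcases hy with rfl | rfl
    · exact this.1
    · exact this.2

theorem oct_class {u : M13ˣ} (hu : u ∈ oct) :
    (u = 1 ∨ ∀ v : Fin 4 → ZMod 13, (u : M13).mulVec v = v → v = 0) ∧ (u ^ 6 = 1 ∨ u ^ 8 = 1) := by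
  set a := (u : M13) with ha
  have h13 : ∀ v : Fin 4 → ZMod 13, v = -v → v = 0 := fun v h => funext fun i => by
    have h' : v i = -v i := congrFun h i
    have : ∀ x : ZMod 13, x = -x → x = 0 := by decide
    exact this _ h'
  have hneg : ∀ b : M13, b = -1 → ∀ v : Fin 4 → ZMod 13, b.mulVec v = v → v = 0 := fun b hb v hv =>
    h13 v (by rw [hb, Matrix.neg_mulVec, Matrix.one_mulVec] at hv; exact hv.symm)
  have hfixpow : ∀ (v : Fin 4 → ZMod 13), a.mulVec v = v → (a * a).mulVec v = v := fun v hv => by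
    rw [← Matrix.mulVec_mulVec, hv, hv]
  have hu6 : ∀ k, a ^ k = 1 → u ^ k = 1 := fun k hk => Units.ext (by rw [Units.val_pow_eq_pow_val]; exact hk)
  rcases elts_class a (mem_elts hu) with h | h | h | h | h | h
  · have : u = 1 := Units.ext h
    exact ⟨Or.inl this, Or.inl (by rw [this, one_pow])⟩
  · exact ⟨Or.inr (hneg a h), Or.inl (hu6 6 (by rw [h]; exact Even.neg_one_pow (by decide)))⟩
  · refine ⟨Or.inr fun v hv => hneg _ h v (hfixpow v hv), Or.inr (hu6 8 ?_)⟩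
    rw [show 8 = 2 * 4 from rfl, pow_mul, pow_two, h]; exact Even.neg_one_pow (by decide)
  · refine ⟨Or.inr fun v hv => ?_, Or.inl (hu6 6 ?_)⟩
    · have h' := congrArg (fun b : M13 => b.mulVec v) h
      simp only [Matrix.add_mulVec, Matrix.one_mulVec, Matrix.zero_mulVec, hfixpow v hv, hv] at h'
      funext i
      have h'' : v i + v i + v i = 0 := congrFun h' i
      have : ∀ x : ZMod 13, x + x + x = 0 → x = 0 := by decide
      exact this _ h''
    · have h3 : a ^ 3 = 1 := by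
        have : a ^ 3 - 1 = (a - 1) * (a * a + a + 1) := by noncomm_ring
        rw [h, mul_zero] at this
        exact sub_eq_zero.1 this
      rw [show 6 = 3 * 2 from rfl, pow_mul, h3, one_pow]
  · refine ⟨Or.inr fun v hv => hneg _ h v (by rw [← Matrix.mulVec_mulVec, hfixpow v hv, hv]), Or.inl (hu6 6 ?_)⟩
    rw [show 6 = 3 * 2 from rfl, pow_mul, pow_three, h]; exact Even.neg_one_pow (by decide)
  · refine ⟨Or.inr fun v hv => hneg _ h v (by rw [← Matrix.mulVec_mulVec, hfixpow v hv, hfixpow v hv]), Or.inr (hu6 8 ?_)⟩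
    rw [show 8 = 2 * 2 * 2 from rfl, pow_mul, pow_mul, pow_two, pow_two, pow_two, h]; simp

theorem oct_finite : Finite oct := inferInstance

theorem oct_solvable : Group.IsSolvable oct := by
  refine Solvable.isSolvable_of_card_two_primes Nat.prime_two Nat.prime_three (by norm_num) fun r hr hd => ?_
  haveI := Fact.mk hr
  obtain ⟨x, hx⟩ := exists_prime_orderOf_dvd_card' (G := oct) r hd
  rw [← Subgroup.orderOf_coe] at hx
  have hdvd : r ∣ 6 ∨ r ∣ 8 := (oct_class x.2).2.imp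
    (fun h => hx ▸ orderOf_dvd_of_pow_eq_one h) (fun h => hx ▸ orderOf_dvd_of_pow_eq_one h)
  rcases hdvd with h | h
  · rcases (Nat.Prime.dvd_mul hr).1 (show r ∣ 2 * 3 from h) with h | h
    · exact Or.inl ((Nat.prime_dvd_prime_iff_eq hr Nat.prime_two).1 h)
    · exact Or.inr ((Nat.prime_dvd_prime_iff_eq hr Nat.prime_three).1 h)
  · exact Or.inl ((Nat.prime_dvd_prime_iff_eq hr Nat.prime_two).1 (hr.dvd_of_dvd_pow (show r ∣ 2 ^ 3 from h)))

abbrev V13 := Multiplicative (Fin 4 → ZMod 13)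

/-- The action of `GL(4, 13)` on `13 ^ 4`. -/
def act : M13ˣ →* MulAut V13 where
  toFun u :=
    { toFun := fun v => Multiplicative.ofAdd ((u : M13).mulVec v.toAdd)
      invFun := fun v => Multiplicative.ofAdd ((↑u⁻¹ : M13).mulVec v.toAdd)
      left_inv := fun v => by simp [Matrix.mulVec_mulVec]
      right_inv := fun v => by simp [Matrix.mulVec_mulVec]
      map_mul' := fun v w => by simp [Matrix.mulVec_add] }
  map_one' := by ext v; simp
  map_mul' u w := by ext v; simp [Matrix.mulVec_mulVec]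

/-- The Frobenius group `13 ^ 4 : 2.S4`. -/
abbrev Frob := SemidirectProduct V13 oct (act.comp oct.subtype)

theorem frob_solvable : Group.IsSolvable Frob := by
  haveI := oct_solvable
  haveI : Group.IsSolvable V13 := Group.isSolvable_of_comm fun a b => mul_comm a b
  exact Group.isSolvable_of_ker_le_range (SemidirectProduct.inl : V13 →* Frob)
    (SemidirectProduct.rightHom) (SemidirectProduct.range_inl_eq_ker_rightHom).ge

theorem orderOf_frob (x : Frob) (hx : x.right ≠ 1) : orderOf x = orderOf (x.right : M13ˣ) := by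
  rw [Subgroup.orderOf_coe]
  refine Nat.dvd_antisymm (orderOf_dvd_of_pow_eq_one ?_) (orderOf_map_dvd SemidirectProduct.rightHom x)
  set n := orderOf x.right with hn
  have hr : (x ^ n).right = 1 := by
    rw [← SemidirectProduct.rightHom_eq_right, map_pow, SemidirectProduct.rightHom_eq_right, hn, pow_orderOf_eq_one]
  have hc : x * x ^ n = x ^ n * x := ((Commute.refl x).pow_right n).eq
  have hl := congrArg SemidirectProduct.left hc
  simp only [SemidirectProduct.mul_left, hr, map_one, MulAut.one_apply] at hl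
  rw [mul_comm (x ^ n).left] at hl
  have h0 := (oct_class x.right.2).1.resolve_left (fun h => hx (Subtype.ext h))
    (x ^ n).left.toAdd (congrArg Multiplicative.toAdd (mul_left_cancel hl))
  refine SemidirectProduct.ext ?_ hr
  rw [SemidirectProduct.one_left]
  exact congrArg Multiplicative.ofAdd h0

theorem range_frob : Set.range (orderOf : Frob → ℕ) = {1, 2, 3, 4, 6, 8, 13} := by
  ext n
  constructor
  · rintro ⟨x, rfl⟩
    simp only [Set.mem_insert_iff, Set.mem_singleton_iff]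
    by_cases hx : x.right = 1
    · have h13 : x ^ 13 = 1 := by
        rw [show x = SemidirectProduct.inl x.left from SemidirectProduct.ext rfl hx, ← map_pow,
          show x.left ^ 13 = 1 from ?_, map_one]
        apply Multiplicative.toAdd.injective
        funext i
        show (13 : ℕ) • x.left.toAdd i = 0
        rw [nsmul_eq_mul, show ((13 : ℕ) : ZMod 13) = 0 from ZMod.natCast_self 13, zero_mul]
      rcases (Nat.dvd_prime (by norm_num : Nat.Prime 13)).1 (orderOf_dvd_of_pow_eq_one h13) with h | h <;> omega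
    · rw [orderOf_frob x hx]
      have hd : orderOf (x.right : M13ˣ) ∣ 6 ∨ orderOf (x.right : M13ˣ) ∣ 8 :=
        (oct_class x.right.2).2.imp orderOf_dvd_of_pow_eq_one orderOf_dvd_of_pow_eq_one
      have hle : orderOf (x.right : M13ˣ) ≤ 8 := by
        rcases hd with h | h <;> have := Nat.le_of_dvd (by norm_num) h <;> omega
      generalize orderOf (x.right : M13ˣ) = k at hd hle ⊢
      interval_cases k <;> omega
  · have key : ∀ (u : M13ˣ) (hu : u ∈ oct) {k : ℕ}, 1 < k → orderOf u = k → k ∈ Set.range (orderOf : Frob → ℕ) := by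
      intro u hu k hk he
      refine ⟨SemidirectProduct.inr ⟨u, hu⟩, ?_⟩
      rw [orderOf_frob _ (fun h => ?_)]
      · exact he
      · rw [SemidirectProduct.right_inr] at h
        have h' : u = 1 := congrArg Subtype.val h
        rw [h', orderOf_one] at he
        omega
    have hs : gs ∈ oct := Subgroup.subset_closure (by simp)
    have hw : gw ∈ oct := Subgroup.subset_closure (by simp)
    have os : orderOf gs = 8 := by
      have := orderOf_eq_prime_pow (x := gs) (p := 2) (n := 2) (fun h => by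
        have := congrArg (fun u : M13ˣ => (u : M13) 0 0) h
        revert this; decide +kernel) (Units.ext (by decide +kernel))
      simpa using this
    have ow : orderOf gw = 3 := orderOf_eq_prime (Units.ext (by decide +kernel)) fun h => by
      have := congrArg (fun u : M13ˣ => (u : M13) 0 0) h
      revert this; decide +kernel
    have os2 : orderOf (gs ^ 2) = 4 := by
      rw [orderOf_pow' _ two_ne_zero, os]; rfl
    have os4 : orderOf (gs ^ 4) = 2 := by
      rw [orderOf_pow' _ (by norm_num : (4 : ℕ) ≠ 0), os]; rfl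
    have o6 : orderOf (gs ^ 4 * gw) = 6 := by
      have hc : Commute (gs ^ 4) gw := Units.ext (by decide +kernel)
      rw [hc.orderOf_mul_eq_mul_orderOf_of_coprime (by rw [os4, ow]; norm_num), os4, ow]
    rintro (rfl | rfl | rfl | rfl | rfl | rfl | rfl)
    · exact ⟨1, orderOf_one⟩
    · exact key _ (pow_mem hs 4) (by norm_num) os4
    · exact key _ hw (by norm_num) ow
    · exact key _ (pow_mem hs 2) (by norm_num) os2
    · exact key _ (mul_mem (pow_mem hs 4) hw) (by norm_num) o6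
    · exact key _ hs (by norm_num) os
    · refine ⟨SemidirectProduct.inl (Multiplicative.ofAdd (Pi.single 0 1)), ?_⟩
      rw [orderOf_injective _ SemidirectProduct.inl_injective]
      haveI : Fact (Nat.Prime 13) := ⟨by norm_num⟩
      refine orderOf_eq_prime ?_ ?_
      · apply Multiplicative.toAdd.injective
        funext i
        show (13 : ℕ) • (Pi.single 0 1 : Fin 4 → ZMod 13) i = 0
        rw [nsmul_eq_mul, show ((13 : ℕ) : ZMod 13) = 0 from ZMod.natCast_self 13, zero_mul]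
      · intro h
        have := congrFun (congrArg Multiplicative.toAdd h) (0 : Fin 4)
        simp at this

end Frobenius

/-- There is a finite solvable group with exactly the same set of element orders as the simple group PSL(3,3). -/
theorem result {F : Type*} [Field F] [Fintype F] (hF : Fintype.card F = 3) :
    ∃ (H : Type) (_ : Group H) (_ : Fintype H), Group.IsSolvable H ∧
      Set.range (orderOf : H → ℕ) = Set.range (orderOf : Matrix.ProjectiveSpecialLinearGroup (Fin 3) F → ℕ) := by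
  haveI : Finite Frob := Finite.of_equiv _ SemidirectProduct.equivProd.symm
  exact ⟨Frob, inferInstance, Fintype.ofFinite _, frob_solvable, range_frob.trans (range_psl hF).symm⟩

end Cfsg.Agent.S3437
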