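import Cfsg.Statements.S3438
import Cfsg.Agent.Lib.Solvable.Converse
import Cfsg.Agent.Lib.Linear.FieldNine
import Cfsg.Agent.Lib.Unitary.Center
import Cfsg.Agent.Lib.Unitary.Small32
import Mathlib.FieldTheory.Finite.GaloisField
-- import your own Cfsg.Agent.* helpers here

set_option autoImplicit false
open Cfsg

namespace Cfsg.Agent.S3438

open Matrix

section PSU

abbrev K9 := Linear.FNine

/-- The element `a + b i` of the field with nine elements. -/
def c9 (a b : ZMod 3) : K9 := ⟨a, b⟩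

/-- One step of the linear recurrence of the Cayley-Hamilton theorem. -/
def step (t : K9) (x : K9 × K9 × K9) : K9 × K9 × K9 := (x.2.1 + x.1 * t, x.2.2 - x.1 * t ^ 3, x.1)

theorem step_check : ∀ t : K9, (step t)^[7] (0, 0, 1) = (0, 0, 1) ∨ (step t)^[8] (0, 0, 1) = (0, 0, 1) ∨
    (step t)^[12] (0, 0, 1) = (0, 0, 1) := by decide +kernel

theorem add_cube : ∀ x y : K9, (x + y) ^ 3 = x ^ 3 + y ^ 3 := by decide +kernel

theorem card_nine : Fintype.card K9 = 3 ^ 2 := Linear.FNine.card_FNine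

theorem pow_cases (M : Cfsg.SU 3 K9 3) : M ^ 7 = 1 ∨ M ^ 8 = 1 ∨ M ^ 12 = 1 := by
  set A := ((M : Matrix.SpecialLinearGroup (Fin 3) K9) : Matrix (Fin 3) (Fin 3) K9) with hA
  set t := A 0 0 + A 1 1 + A 2 2 with ht
  set s := A 0 0 * A 1 1 - A 0 1 * A 1 0 + (A 0 0 * A 2 2 - A 0 2 * A 2 0) + (A 1 1 * A 2 2 - A 1 2 * A 2 1) with hs
  have hdet : A.det = 1 := M.1.2
  have hu : Unitary.IsUnitary 3 A := M.2
  have hb := (Unitary.isUnitary_iff_orthonormal card_nine A).1 hu
  have e : Aᵀ * A.map (fun x => x ^ 3) = 1 := by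
    refine Matrix.ext fun i j => ?_
    rw [Matrix.one_apply, ← Unitary.Orthonormal.apply hb i j]
    rfl
  have e' : (A.map (fun x => x ^ 3))ᵀ * A = 1 := by
    have := congrArg Matrix.transpose e
    rwa [Matrix.transpose_mul, Matrix.transpose_transpose, Matrix.transpose_one] at this
  have hadj : A.adjugate = (A.map (fun x => x ^ 3))ᵀ := by
    rw [← one_mul A.adjugate, ← e', mul_assoc, Matrix.mul_adjugate, hdet, one_smul, mul_one]
  have hst : s = t ^ 3 := by
    have h := congrArg (fun B : Matrix (Fin 3) (Fin 3) K9 => B 0 0 + B 1 1 + B 2 2) hadj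
    simp [Matrix.adjugate_fin_three, Matrix.map_apply] at h
    rw [hs, ht, add_cube, add_cube, ← h]
    ring
  have hcay : A * (A * A) = t • (A * A) - t ^ 3 • A + 1 := by
    have h : A * (A * A) = t • (A * A) - s • A + A.det • (1 : Matrix (Fin 3) (Fin 3) K9) := by
      refine Matrix.ext fun i j => ?_
      fin_cases i <;> fin_cases j <;>
        simp [ht, hs, Matrix.det_fin_three, Matrix.mul_apply, Fin.sum_univ_three] <;> ring
    rwa [hdet, one_smul, hst] at h
  let ev : K9 × K9 × K9 → Matrix (Fin 3) (Fin 3) K9 := fun x => x.1 • (A * A) + x.2.1 • A + x.2.2 • 1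
  have hev : ∀ k, A ^ k = ev ((step t)^[k] (0, 0, 1)) := by
    intro k
    induction k with
    | zero => simp [ev]
    | succ k ih =>
      rw [pow_succ', ih, Function.iterate_succ_apply']
      set x := (step t)^[k] (0, 0, 1)
      simp only [ev, step, mul_add, Matrix.mul_smul, mul_one, hcay, smul_add, smul_sub, smul_smul, add_smul,
        sub_smul]
      abel
  have h1 : ev (0, 0, 1) = 1 := by simp [ev]
  have key : ∀ k, (step t)^[k] (0, 0, 1) = (0, 0, 1) → M ^ k = 1 := fun k hk =>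
    Subtype.ext (Subtype.ext (by
      rw [SubmonoidClass.coe_pow, Matrix.SpecialLinearGroup.coe_pow, Subgroup.coe_one,
        Matrix.SpecialLinearGroup.coe_one, ← hA, hev k, hk, h1]))
  exact (step_check t).imp (key 7) (Or.imp (key 8) (key 12))

theorem orderOf_of_check {M : Type*} [Monoid M] {x : M} {n : ℕ} (hn : 0 < n) (h : x ^ n = 1)
    (h' : ∀ m < n, m = 0 ∨ x ^ m ≠ 1) : orderOf x = n :=
  (orderOf_eq_iff hn).2 ⟨h, fun m hm hm0 => (h' m hm).resolve_left hm0.ne'⟩

/-- A matrix of determinant one as an element of `SL`. -/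
abbrev mkSL (M : Matrix (Fin 3) (Fin 3) K9) (hd : M.det = 1) : Matrix.SpecialLinearGroup (Fin 3) K9 := ⟨M, hd⟩

theorem mem_range (M : Matrix (Fin 3) (Fin 3) K9) (hd : M.det = 1)
    (h1 : ∀ i, Cfsg.hermForm 3 K9 3 (Mᵀ i) (Mᵀ i) = 1)
    (h2 : ∀ i j, i = j ∨ Cfsg.hermForm 3 K9 3 (Mᵀ i) (Mᵀ j) = 0) {n : ℕ} (hn : 0 < n)
    (h : mkSL M hd ^ n = 1)
    (h' : ∀ m < n, m = 0 ∨ mkSL M hd ^ m ≠ 1) :
    n ∈ Set.range (orderOf : Cfsg.SU 3 K9 3 → ℕ) :=
  ⟨⟨⟨M, hd⟩, (Unitary.isUnitary_iff_orthonormal card_nine M).2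
      ⟨h1, fun i j hij => (h2 i j).resolve_left hij⟩⟩,
    by rw [← Subgroup.orderOf_coe]; exact orderOf_of_check hn h h'⟩

theorem range_su : Set.range (orderOf : Cfsg.SU 3 K9 3 → ℕ) = {1, 2, 3, 4, 6, 7, 8, 12} := by
  ext n
  constructor
  · rintro ⟨M, rfl⟩
    have hd : orderOf M ∣ 7 ∨ orderOf M ∣ 8 ∨ orderOf M ∣ 12 :=
      (pow_cases M).imp orderOf_dvd_of_pow_eq_one (Or.imp orderOf_dvd_of_pow_eq_one orderOf_dvd_of_pow_eq_one)
    have hle : orderOf M ≤ 12 := by
      rcases hd with h | h | h <;> have := Nat.le_of_dvd (by norm_num) h <;> omega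
    simp only [Set.mem_insert_iff, Set.mem_singleton_iff]
    generalize orderOf M = k at hd hle ⊢
    interval_cases k <;> omega
  · rintro (rfl | rfl | rfl | rfl | rfl | rfl | rfl | rfl)
    · exact ⟨1, orderOf_one⟩
    · exact mem_range !![0, 0, 1; 0, c9 2 0, 0; 1, 0, 0] (by decide +kernel) (by decide +kernel)
        (by decide +kernel) (by norm_num) (by decide +kernel) (by decide +kernel)
    · exact mem_range !![0, 1, 0; 0, 0, 1; 1, 0, 0] (by decide +kernel) (by decide +kernel)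
        (by decide +kernel) (by norm_num) (by decide +kernel) (by decide +kernel)
    · exact mem_range !![0, 0, c9 2 0; 0, 1, 0; 1, 0, 0] (by decide +kernel) (by decide +kernel)
        (by decide +kernel) (by norm_num) (by decide +kernel) (by decide +kernel)
    · exact mem_range !![1, 0, 0; 0, c9 2 1, c9 2 1; 0, c9 1 1, c9 2 2] (by decide +kernel) (by decide +kernel)
        (by decide +kernel) (by norm_num) (by decide +kernel) (by decide +kernel)
    · exact mem_range !![0, c9 1 1, c9 2 1; 0, c9 1 1, c9 1 2; 1, 0, 0] (by decide +kernel) (by decide +kernel)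
        (by decide +kernel) (by norm_num) (by decide +kernel) (by decide +kernel)
    · exact mem_range !![0, 0, 1; 0, c9 0 1, 0; c9 0 1, 0, 0] (by decide +kernel) (by decide +kernel)
        (by decide +kernel) (by norm_num) (by decide +kernel) (by decide +kernel)
    · exact mem_range !![0, c9 1 1, c9 1 1; 0, c9 2 1, c9 1 2; 1, 0, 0] (by decide +kernel) (by decide +kernel)
        (by decide +kernel) (by norm_num) (by decide +kernel) (by decide +kernel)

theorem range_eq_of_equiv {G H : Type*} [Monoid G] [Monoid H] (e : G ≃* H) :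
    Set.range (orderOf : G → ℕ) = Set.range (orderOf : H → ℕ) := by
  ext n
  exact ⟨fun ⟨x, hx⟩ => ⟨e x, by rw [e.orderOf_eq, hx]⟩, fun ⟨x, hx⟩ => ⟨e.symm x, by rw [e.symm.orderOf_eq, hx]⟩⟩

theorem range_psu {F : Type*} [Field F] [Fintype F] (hF : Fintype.card F = 9) :
    Set.range (orderOf : Cfsg.PSU 3 F 3 → ℕ) = {1, 2, 3, 4, 6, 7, 8, 12} := by
  let e := FiniteField.ringEquivOfCardEq (K := F) (K' := K9) (by rw [hF, card_nine]; rfl)
  have hc : Subgroup.center (Cfsg.SU 3 K9 3) = ⊥ := by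
    refine Subgroup.eq_bot_of_card_eq _ ?_
    rw [Unitary.card_center_SU card_nine (by norm_num)]
    rfl
  rw [← range_su, range_eq_of_equiv (Unitary.psuMapEquiv e 3 3)]
  exact range_eq_of_equiv ((QuotientGroup.quotientMulEquivOfEq hc).trans QuotientGroup.quotientBot)

end PSU

section Frobenius

abbrev M7 := Matrix (Fin 4) (Fin 4) (ZMod 7)

def ga : M7ˣ := ⟨!![2, 0, 0, 0; 0, 2, 0, 0; 0, 0, 4, 0; 0, 0, 0, 4],
  !![4, 0, 0, 0; 0, 4, 0, 0; 0, 0, 2, 0; 0, 0, 0, 2], by decide +kernel, by decide +kernel⟩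

def gb : M7ˣ := ⟨!![0, 0, 0, 6; 0, 0, 1, 0; 1, 0, 0, 0; 0, 1, 0, 0],
  !![0, 0, 1, 0; 0, 0, 0, 1; 0, 1, 0, 0; 6, 0, 0, 0], by decide +kernel, by decide +kernel⟩

/-- The matrix with the given 16 entries. -/
def toM (a : List ℕ) : M7 := Matrix.of fun i j => (a.getD (4 * i.val + j.val) 0 : ZMod 7)

/-- Product of matrices given by their entries. -/
def mulN (a b : List ℕ) : List ℕ :=
  (List.range 16).map fun k => (a.getD (k / 4 * 4) 0 * b.getD (k % 4) 0 + a.getD (k / 4 * 4 + 1) 0 * b.getD (4 + k % 4) 0 +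
    a.getD (k / 4 * 4 + 2) 0 * b.getD (8 + k % 4) 0 + a.getD (k / 4 * 4 + 3) 0 * b.getD (12 + k % 4) 0) % 7

/-- `a + b + c` on entries. -/
def add3N (a b c : List ℕ) : List ℕ :=
  (List.range 16).map fun k => (a.getD k 0 + b.getD k 0 + c.getD k 0) % 7

theorem toM_mulN (a b : List ℕ) : toM (mulN a b) = toM a * toM b := by
  ext i j
  fin_cases i <;> fin_cases j <;> simp [toM, mulN, Matrix.mul_apply, Fin.sum_univ_four]

theorem toM_add3N (a b c : List ℕ) : toM (add3N a b c) = toM a + toM b + toM c := by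
  ext i j
  fin_cases i <;> fin_cases j <;> simp [toM, add3N]

def oneN : List ℕ := [1, 0, 0, 0, 0, 1, 0, 0, 0, 0, 1, 0, 0, 0, 0, 1]
def negN : List ℕ := [6, 0, 0, 0, 0, 6, 0, 0, 0, 0, 6, 0, 0, 0, 0, 6]
def zeroN : List ℕ := [0, 0, 0, 0, 0, 0, 0, 0, 0, 0, 0, 0, 0, 0, 0, 0]
def gaN : List ℕ := [2, 0, 0, 0, 0, 2, 0, 0, 0, 0, 4, 0, 0, 0, 0, 4]
def gbN : List ℕ := [0, 0, 0, 6, 0, 0, 1, 0, 1, 0, 0, 0, 0, 1, 0, 0]

/-- Powers on entries. -/
def powN (a : List ℕ) : ℕ → List ℕ
  | 0 => oneN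
  | k + 1 => mulN (powN a k) a

/-- The entries of the elements of the group `3 : 8`. -/
def eltsN : List (List ℕ) :=
  [[1, 0, 0, 0, 0, 1, 0, 0, 0, 0, 1, 0, 0, 0, 0, 1],
    [2, 0, 0, 0, 0, 2, 0, 0, 0, 0, 4, 0, 0, 0, 0, 4],
    [0, 0, 0, 6, 0, 0, 1, 0, 1, 0, 0, 0, 0, 1, 0, 0],
    [4, 0, 0, 0, 0, 4, 0, 0, 0, 0, 2, 0, 0, 0, 0, 2],
    [0, 0, 0, 5, 0, 0, 2, 0, 4, 0, 0, 0, 0, 4, 0, 0],
    [0, 0, 0, 3, 0, 0, 4, 0, 2, 0, 0, 0, 0, 2, 0, 0],
    [0, 6, 0, 0, 1, 0, 0, 0, 0, 0, 0, 6, 0, 0, 1, 0],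
    [0, 5, 0, 0, 2, 0, 0, 0, 0, 0, 0, 3, 0, 0, 4, 0],
    [0, 3, 0, 0, 4, 0, 0, 0, 0, 0, 0, 5, 0, 0, 2, 0],
    [0, 0, 6, 0, 0, 0, 0, 6, 0, 6, 0, 0, 1, 0, 0, 0],
    [0, 0, 5, 0, 0, 0, 0, 5, 0, 3, 0, 0, 4, 0, 0, 0],
    [0, 0, 3, 0, 0, 0, 0, 3, 0, 5, 0, 0, 2, 0, 0, 0],
    [6, 0, 0, 0, 0, 6, 0, 0, 0, 0, 6, 0, 0, 0, 0, 6],
    [5, 0, 0, 0, 0, 5, 0, 0, 0, 0, 3, 0, 0, 0, 0, 3],
    [3, 0, 0, 0, 0, 3, 0, 0, 0, 0, 5, 0, 0, 0, 0, 5],
    [0, 0, 0, 1, 0, 0, 6, 0, 6, 0, 0, 0, 0, 6, 0, 0],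
    [0, 0, 0, 2, 0, 0, 5, 0, 3, 0, 0, 0, 0, 3, 0, 0],
    [0, 0, 0, 4, 0, 0, 3, 0, 5, 0, 0, 0, 0, 5, 0, 0],
    [0, 1, 0, 0, 6, 0, 0, 0, 0, 0, 0, 1, 0, 0, 6, 0],
    [0, 2, 0, 0, 5, 0, 0, 0, 0, 0, 0, 4, 0, 0, 3, 0],
    [0, 4, 0, 0, 3, 0, 0, 0, 0, 0, 0, 2, 0, 0, 5, 0],
    [0, 0, 1, 0, 0, 0, 0, 1, 0, 1, 0, 0, 6, 0, 0, 0],
    [0, 0, 2, 0, 0, 0, 0, 2, 0, 4, 0, 0, 3, 0, 0, 0],
    [0, 0, 4, 0, 0, 0, 0, 4, 0, 2, 0, 0, 5, 0, 0, 0]]

/-- The elements of the group `3 : 8`. -/
def elts : List M7 := eltsN.map toM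

theorem toM_one : toM oneN = 1 := by decide +kernel
theorem toM_neg : toM negN = -1 := by decide +kernel
theorem toM_zero : toM zeroN = 0 := by decide +kernel
theorem toM_ga : toM gaN = (ga : M7) := by decide +kernel
theorem toM_gb : toM gbN = (gb : M7) := by decide +kernel

theorem toM_powN (a : List ℕ) : ∀ k, toM (powN a k) = toM a ^ k
  | 0 => by rw [powN, toM_one, pow_zero]
  | k + 1 => by rw [powN, toM_mulN, toM_powN a k, pow_succ]

theorem eltsN_check : oneN ∈ eltsN ∧ ∀ a ∈ eltsN, (mulN a gaN ∈ eltsN ∧ mulN a gbN ∈ eltsN) ∧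
    (a = oneN ∨ add3N (mulN a a) a oneN = zeroN ∨ powN a 1 = negN ∨ powN a 2 = negN ∨ powN a 3 = negN ∨
      powN a 4 = negN ∨ powN a 6 = negN) := by decide +kernel

theorem elts_one : (1 : M7) ∈ elts := toM_one ▸ List.mem_map_of_mem eltsN_check.1

theorem elts_mul : ∀ a ∈ elts, a * (ga : M7) ∈ elts ∧ a * (gb : M7) ∈ elts := by
  intro a ha
  obtain ⟨x, hx, rfl⟩ := List.mem_map.1 ha
  obtain ⟨⟨h1, h2⟩, -⟩ := eltsN_check.2 x hx
  rw [← toM_ga, ← toM_gb, ← toM_mulN, ← toM_mulN]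
  exact ⟨List.mem_map_of_mem h1, List.mem_map_of_mem h2⟩

theorem elts_class : ∀ a ∈ elts, a = 1 ∨ a * a + a + 1 = 0 ∨
    ∃ k, (k = 1 ∨ k = 2 ∨ k = 3 ∨ k = 4 ∨ k = 6) ∧ a ^ k = -1 := by
  intro a ha
  obtain ⟨x, hx, rfl⟩ := List.mem_map.1 ha
  rw [← toM_neg, ← toM_zero, ← toM_one]
  simp only [← toM_mulN, ← toM_add3N, ← toM_powN]
  rcases (eltsN_check.2 x hx).2 with h | h | h | h | h | h | h
  · exact Or.inl (congrArg toM h)
  · exact Or.inr (Or.inl (congrArg toM h))
  · exact Or.inr (Or.inr ⟨1, by simp, congrArg toM h⟩)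
  · exact Or.inr (Or.inr ⟨2, by simp, congrArg toM h⟩)
  · exact Or.inr (Or.inr ⟨3, by simp, congrArg toM h⟩)
  · exact Or.inr (Or.inr ⟨4, by simp, congrArg toM h⟩)
  · exact Or.inr (Or.inr ⟨6, by simp, congrArg toM h⟩)

/-- The group `3 : 8` in `GL(4, 7)`. -/
def cpl : Subgroup M7ˣ := Subgroup.closure {ga, gb}

theorem mem_elts {u : M7ˣ} (hu : u ∈ cpl) : (u : M7) ∈ elts := by
  have hu' : u ∈ Submonoid.closure ({ga, gb} : Set M7ˣ) := by
    rw [← Subgroup.closure_toSubmonoid_of_finite]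
    exact hu
  induction hu' using Submonoid.closure_induction_right with
  | one => exact elts_one
  | mul_right x hx y hy ih =>
    have := elts_mul _ (ih ((Subgroup.closure_toSubmonoid_of_finite (s := ({ga, gb} : Set M7ˣ))).ge hx))
    rcases hy with rfl | rfl
    · exact this.1
    · exact this.2

theorem cpl_class {u : M7ˣ} (hu : u ∈ cpl) :
    (u = 1 ∨ ∀ v : Fin 4 → ZMod 7, (u : M7).mulVec v = v → v = 0) ∧ (u ^ 8 = 1 ∨ u ^ 12 = 1) := by
  set a := (u : M7) with ha
  have hfix : ∀ (k : ℕ) (v : Fin 4 → ZMod 7), a.mulVec v = v → (a ^ k).mulVec v = v := fun k v hv => by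
    induction k with
    | zero => rw [pow_zero, Matrix.one_mulVec]
    | succ k ih => rw [pow_succ, ← Matrix.mulVec_mulVec, hv, ih]
  have hup : ∀ k, a ^ k = 1 → u ^ k = 1 := fun k hk => Units.ext (by rw [Units.val_pow_eq_pow_val]; exact hk)
  rcases elts_class a (mem_elts hu) with h | h | ⟨k, hk, h⟩
  · have : u = 1 := Units.ext h
    exact ⟨Or.inl this, Or.inl (by rw [this, one_pow])⟩
  · refine ⟨Or.inr fun v hv => ?_, Or.inr (hup 12 ?_)⟩
    · have h' := congrArg (fun b : M7 => b.mulVec v) h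
      simp only [Matrix.add_mulVec, Matrix.one_mulVec, Matrix.zero_mulVec, ← pow_two, hfix 2 v hv, hv] at h'
      funext i
      have h'' : v i + v i + v i = 0 := congrFun h' i
      have : ∀ x : ZMod 7, x + x + x = 0 → x = 0 := by decide
      exact this _ h''
    · have h3 : a ^ 3 = 1 := by
        have : a ^ 3 - 1 = (a - 1) * (a * a + a + 1) := by noncomm_ring
        rw [h, mul_zero] at this
        exact sub_eq_zero.1 this
      rw [show 12 = 3 * 4 from rfl, pow_mul, h3, one_pow]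
  · refine ⟨Or.inr fun v hv => ?_, ?_⟩
    · have h' := hfix k v hv
      rw [h, Matrix.neg_mulVec, Matrix.one_mulVec] at h'
      funext i
      have : ∀ x : ZMod 7, -x = x → x = 0 := by decide
      exact this _ (congrFun h' i)
    · have h2 : a ^ (k * 2) = 1 := by rw [pow_mul, h, neg_one_sq]
      rcases hk with rfl | rfl | rfl | rfl | rfl
      · exact Or.inl (hup 8 (by rw [show 8 = 1 * 2 * 4 from rfl, pow_mul, h2, one_pow]))
      · exact Or.inl (hup 8 (by rw [show 8 = 2 * 2 * 2 from rfl, pow_mul, h2, one_pow]))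
      · exact Or.inr (hup 12 (by rw [show 12 = 3 * 2 * 2 from rfl, pow_mul, h2, one_pow]))
      · exact Or.inl (hup 8 h2)
      · exact Or.inr (hup 12 h2)

theorem cpl_solvable : Group.IsSolvable cpl := by
  refine Solvable.isSolvable_of_card_two_primes Nat.prime_two Nat.prime_three (by norm_num) fun r hr hd => ?_
  haveI := Fact.mk hr
  obtain ⟨x, hx⟩ := exists_prime_orderOf_dvd_card' (G := cpl) r hd
  rw [← Subgroup.orderOf_coe] at hx
  have hdvd : r ∣ 8 ∨ r ∣ 12 := (cpl_class x.2).2.imp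
    (fun h => hx ▸ orderOf_dvd_of_pow_eq_one h) (fun h => hx ▸ orderOf_dvd_of_pow_eq_one h)
  rcases hdvd with h | h
  · exact Or.inl ((Nat.prime_dvd_prime_iff_eq hr Nat.prime_two).1 (hr.dvd_of_dvd_pow (show r ∣ 2 ^ 3 from h)))
  · rcases (Nat.Prime.dvd_mul hr).1 (show r ∣ 2 ^ 2 * 3 from h) with h | h
    · exact Or.inl ((Nat.prime_dvd_prime_iff_eq hr Nat.prime_two).1 (hr.dvd_of_dvd_pow h))
    · exact Or.inr ((Nat.prime_dvd_prime_iff_eq hr Nat.prime_three).1 h)

abbrev V7 := Multiplicative (Fin 4 → ZMod 7)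

/-- The action of `GL(4, 7)` on `7 ^ 4`. -/
def act : M7ˣ →* MulAut V7 where
  toFun u :=
    { toFun := fun v => Multiplicative.ofAdd ((u : M7).mulVec v.toAdd)
      invFun := fun v => Multiplicative.ofAdd ((↑u⁻¹ : M7).mulVec v.toAdd)
      left_inv := fun v => by simp [Matrix.mulVec_mulVec]
      right_inv := fun v => by simp [Matrix.mulVec_mulVec]
      map_mul' := fun v w => by simp [Matrix.mulVec_add] }
  map_one' := by ext v; simp
  map_mul' u w := by ext v; simp [Matrix.mulVec_mulVec]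

/-- The Frobenius group `7 ^ 4 : (3 : 8)`. -/
abbrev Frob := SemidirectProduct V7 cpl (act.comp cpl.subtype)

theorem frob_solvable : Group.IsSolvable Frob := by
  haveI := cpl_solvable
  haveI : Group.IsSolvable V7 := Group.isSolvable_of_comm fun a b => mul_comm a b
  exact Group.isSolvable_of_ker_le_range (SemidirectProduct.inl : V7 →* Frob)
    (SemidirectProduct.rightHom) (SemidirectProduct.range_inl_eq_ker_rightHom).ge

theorem orderOf_frob (x : Frob) (hx : x.right ≠ 1) : orderOf x = orderOf (x.right : M7ˣ) := by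
  rw [Subgroup.orderOf_coe]
  refine Nat.dvd_antisymm (orderOf_dvd_of_pow_eq_one ?_) (orderOf_map_dvd SemidirectProduct.rightHom x)
  set n := orderOf x.right with hn
  have hr : (x ^ n).right = 1 := by
    rw [← SemidirectProduct.rightHom_eq_right, map_pow, SemidirectProduct.rightHom_eq_right, hn, pow_orderOf_eq_one]
  have hc : x * x ^ n = x ^ n * x := ((Commute.refl x).pow_right n).eq
  have hl := congrArg SemidirectProduct.left hc
  simp only [SemidirectProduct.mul_left, hr, map_one, MulAut.one_apply] at hl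
  rw [mul_comm (x ^ n).left] at hl
  have h0 := (cpl_class x.right.2).1.resolve_left (fun h => hx (Subtype.ext h))
    (x ^ n).left.toAdd (congrArg Multiplicative.toAdd (mul_left_cancel hl))
  refine SemidirectProduct.ext ?_ hr
  rw [SemidirectProduct.one_left]
  exact congrArg Multiplicative.ofAdd h0

theorem pow_seven (v : V7) : v ^ 7 = 1 := by
  apply Multiplicative.toAdd.injective
  funext i
  show (7 : ℕ) • v.toAdd i = 0
  rw [nsmul_eq_mul, show ((7 : ℕ) : ZMod 7) = 0 from ZMod.natCast_self 7, zero_mul]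

theorem range_frob : Set.range (orderOf : Frob → ℕ) = {1, 2, 3, 4, 6, 7, 8, 12} := by
  ext n
  constructor
  · rintro ⟨x, rfl⟩
    simp only [Set.mem_insert_iff, Set.mem_singleton_iff]
    by_cases hx : x.right = 1
    · have h7 : x ^ 7 = 1 := by
        rw [show x = SemidirectProduct.inl x.left from SemidirectProduct.ext rfl hx, ← map_pow, pow_seven, map_one]
      rcases (Nat.dvd_prime (by norm_num : Nat.Prime 7)).1 (orderOf_dvd_of_pow_eq_one h7) with h | h <;> omega
    · rw [orderOf_frob x hx]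
      have hd : orderOf (x.right : M7ˣ) ∣ 8 ∨ orderOf (x.right : M7ˣ) ∣ 12 :=
        (cpl_class x.right.2).2.imp orderOf_dvd_of_pow_eq_one orderOf_dvd_of_pow_eq_one
      have hle : orderOf (x.right : M7ˣ) ≤ 12 := by
        rcases hd with h | h <;> have := Nat.le_of_dvd (by norm_num) h <;> omega
      generalize orderOf (x.right : M7ˣ) = k at hd hle ⊢
      interval_cases k <;> omega
  · have key : ∀ (u : M7ˣ) (hu : u ∈ cpl) {k : ℕ}, 1 < k → orderOf u = k → k ∈ Set.range (orderOf : Frob → ℕ) := by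
      intro u hu k hk he
      refine ⟨SemidirectProduct.inr ⟨u, hu⟩, ?_⟩
      rw [orderOf_frob _ (fun h => ?_)]
      · exact he
      · rw [SemidirectProduct.right_inr] at h
        have h' : u = 1 := congrArg Subtype.val h
        rw [h', orderOf_one] at he
        omega
    have ha : ga ∈ cpl := Subgroup.subset_closure (by simp)
    have hb : gb ∈ cpl := Subgroup.subset_closure (by simp)
    have oa : orderOf ga = 3 := orderOf_eq_prime (Units.ext (by decide +kernel)) fun h => by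
      have := congrArg (fun u : M7ˣ => (u : M7) 0 0) h
      revert this; decide +kernel
    have ob : orderOf gb = 8 := by
      have := orderOf_eq_prime_pow (x := gb) (p := 2) (n := 2) (fun h => by
        have := congrArg (fun u : M7ˣ => (u : M7) 0 0) h
        revert this; decide +kernel) (Units.ext (by decide +kernel))
      simpa using this
    have ob2 : orderOf (gb ^ 2) = 4 := by
      rw [orderOf_pow' _ two_ne_zero, ob]; rfl
    have ob4 : orderOf (gb ^ 4) = 2 := by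
      rw [orderOf_pow' _ (by norm_num : (4 : ℕ) ≠ 0), ob]; rfl
    have o6 : orderOf (gb ^ 4 * ga) = 6 := by
      have hc : Commute (gb ^ 4) ga := Units.ext (by decide +kernel)
      rw [hc.orderOf_mul_eq_mul_orderOf_of_coprime (by rw [ob4, oa]; norm_num), ob4, oa]
    have o12 : orderOf (gb ^ 2 * ga) = 12 := by
      have hc : Commute (gb ^ 2) ga := Units.ext (by decide +kernel)
      rw [hc.orderOf_mul_eq_mul_orderOf_of_coprime (by rw [ob2, oa]; norm_num), ob2, oa]
    rintro (rfl | rfl | rfl | rfl | rfl | rfl | rfl | rfl)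
    · exact ⟨1, orderOf_one⟩
    · exact key _ (pow_mem hb 4) (by norm_num) ob4
    · exact key _ ha (by norm_num) oa
    · exact key _ (pow_mem hb 2) (by norm_num) ob2
    · exact key _ (mul_mem (pow_mem hb 4) ha) (by norm_num) o6
    · refine ⟨SemidirectProduct.inl (Multiplicative.ofAdd (Pi.single 0 1)), ?_⟩
      rw [orderOf_injective _ SemidirectProduct.inl_injective]
      haveI : Fact (Nat.Prime 7) := ⟨by norm_num⟩
      refine orderOf_eq_prime (pow_seven _) ?_
      intro h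
      have := congrFun (congrArg Multiplicative.toAdd h) (0 : Fin 4)
      simp at this
    · exact key _ hb (by norm_num) ob
    · exact key _ (mul_mem (pow_mem hb 2) ha) (by norm_num) o12

end Frobenius

/-- There is a finite solvable group with exactly the same set of element orders as the simple group PSU(3,3) (realised over the field with 9 elements). -/
theorem result {F : Type*} [Field F] [Fintype F] (hF : Fintype.card F = 9) :
    ∃ (H : Type) (_ : Group H) (_ : Fintype H), Group.IsSolvable H ∧ Set.range (orderOf : H → ℕ) = Set.range (orderOf : Cfsg.PSU 3 F 3 → ℕ) := by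
  haveI : Finite Frob := Finite.of_equiv _ SemidirectProduct.equivProd.symm
  exact ⟨Frob, inferInstance, Fintype.ofFinite _, frob_solvable, range_frob.trans (range_psu hF).symm⟩

end Cfsg.Agent.S3438
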