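import Cfsg.Statements.S3439
import Cfsg.Agent.Lib.SpectrumPSp.Orders
import Cfsg.Agent.Lib.SpectrumPSp.Sp
import Cfsg.Agent.Lib.Spectrum.Basic
import Cfsg.Agent.S3366

set_option autoImplicit false
open Cfsg

namespace Cfsg.Agent.S3439

/-- There is a finite solvable group with exactly the same set of element orders as the simple group PSp(4,3). -/
theorem result {F : Type*} [Field F] [Fintype F] (hF : Fintype.card F = 3) :
    ∃ (H : Type) (_ : Group H) (_ : Fintype H), Group.IsSolvable H ∧ Set.range (orderOf : H → ℕ) = Set.range (orderOf : Cfsg.PSp 2 F → ℕ) := by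
  obtain ⟨e⟩ : Nonempty (Cfsg.PSp 2 F ≃* Cfsg.PSp 2 (ZMod 3)) :=
    ⟨S3366.pspMap (ZMod.ringEquivOfPrime F Nat.prime_three hF).symm⟩
  have h81 : Nat.card (GaloisField 3 4) = 81 := by rw [GaloisField.card 3 4 (by norm_num)]; rfl
  haveI : Finite (GaloisField 3 4 ≃+* GaloisField 3 4) := Finite.of_injective _ DFunLike.coe_injective
  haveI : Finite (SpectrumPSp.T (GaloisField 3 4)) :=
    Finite.of_injective (fun t => (t.left, t.right)) (fun a b h => SemidirectProduct.ext (congrArg Prod.fst h) (congrArg Prod.snd h))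
  haveI : Finite (SpectrumPSp.Grp (GaloisField 3 4)) :=
    Finite.of_injective (fun t => (t.left, t.right)) (fun a b h => SemidirectProduct.ext (congrArg Prod.fst h) (congrArg Prod.snd h))
  refine ⟨SpectrumPSp.Grp (GaloisField 3 4), inferInstance, Fintype.ofFinite _, SpectrumPSp.solvable, ?_⟩
  rw [Spectrum.range_orderOf_eq_of_mulEquiv e,
    SpectrumPSp.range_orderOf_eq SpectrumPSp.orderOf_dvd_psp SpectrumPSp.exists_orders_psp,
    SpectrumPSp.range_orderOf_eq (SpectrumPSp.orderOf_dvd h81) (SpectrumPSp.exists_orders h81)]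

end Cfsg.Agent.S3439
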