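import Cfsg.Statements.S3443
import Cfsg.Agent.EqLemmas
import Cfsg.Agent.Lib.Spectrum.Basic

set_option autoImplicit false
open Cfsg

namespace Cfsg.Agent.S3443

/-- Let G be a finite group and V a normal elementary abelian subgroup of G (abelian of prime exponent p, possibly trivial). Then the semidirect product V ⋊ G, with G acting on V by conjugation, has exactly the same set of element orders as G. -/
theorem result {G : Type*} [Group G] [Finite G] (V : Subgroup G) [V.Normal] (p : ℕ) (hp : p.Prime)
    (hcomm : ∀ x y : V, x * y = y * x) (hexp : ∀ x : V, x ^ p = 1) :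
    Set.range (orderOf : V ⋊[MulAut.conjNormal] G → ℕ) = Set.range (orderOf : G → ℕ) := by
  have hexp' : ∀ x ∈ V, x ^ p = 1 := fun x hx => by
    simpa using congrArg Subtype.val (hexp ⟨x, hx⟩)
  let φ : V ⋊[MulAut.conjNormal] G →* G × G :=
    { toFun := fun x => ((x.left : G) * x.right, x.right)
      map_one' := by simp
      map_mul' := fun x y => by simp [mul_assoc] }
  have hφ : Function.Injective φ := by
    intro x y hxy
    simp only [φ, MonoidHom.coe_mk, OneHom.coe_mk, Prod.mk.injEq] at hxy
    obtain ⟨h1, h2⟩ := hxy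
    rw [h2] at h1
    exact SemidirectProduct.ext (Subtype.ext (mul_right_cancel h1)) h2
  ext n
  constructor
  · rintro ⟨x, rfl⟩
    rw [← orderOf_injective φ hφ x, Prod.orderOf]
    have hcongr : (((φ x).1 : G) : G ⧸ V) = ((φ x).2 : G ⧸ V) := by
      show (((x.left : G) * x.right : G) : G ⧸ V) = _
      rw [QuotientGroup.mk_mul, (QuotientGroup.eq_one_iff _).mpr x.left.2, one_mul]
      rfl
    rcases Cfsg.Agent.Spectrum.lcm_orderOf_eq_or V hp hexp' hcongr with h | h
    · exact ⟨_, h.symm⟩
    · exact ⟨_, h.symm⟩
  · rintro ⟨g, rfl⟩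
    exact ⟨SemidirectProduct.inr g, orderOf_injective _ SemidirectProduct.inr_injective g⟩


end Cfsg.Agent.S3443
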