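import Cfsg.Statements.S3448
import Cfsg.Agent.EqLemmas
import Cfsg.Agent.Lib.Spectrum.Basic

set_option autoImplicit false
open Cfsg

namespace Cfsg.Agent.S3448

/-- The set of element orders of the direct product of two copies of the alternating group of degree 5 is {1, 2, 3, 5, 6, 10, 15}. (It is shared by the direct product of two Frobenius groups of orders 50 and 75, so this direct product is not determined by its element orders.) -/
theorem range_orderOf_alt5 : Set.range (orderOf : alternatingGroup (Fin 5) → ℕ) = {1, 2, 3, 5} := by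
  have h : ∀ x : alternatingGroup (Fin 5), x = 1 ∨ x ^ 2 = 1 ∨ x ^ 3 = 1 ∨ x ^ 5 = 1 := by decide +kernel
  have w : ∀ p : ℕ, p.Prime → (∃ x : alternatingGroup (Fin 5), x ≠ 1 ∧ x ^ p = 1) →
      p ∈ Set.range (orderOf : alternatingGroup (Fin 5) → ℕ) := by
    rintro p hp ⟨x, hx, hxp⟩
    haveI := Fact.mk hp
    exact ⟨x, orderOf_eq_prime hxp hx⟩
  ext n
  simp only [Set.mem_insert_iff, Set.mem_singleton_iff]
  constructor
  · rintro ⟨x, rfl⟩
    rcases h x with h | h | h | h
    · simp [h]
    · rcases (Nat.dvd_prime Nat.prime_two).mp (orderOf_dvd_of_pow_eq_one h) with h | h <;> simp [h]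
    · rcases (Nat.dvd_prime Nat.prime_three).mp (orderOf_dvd_of_pow_eq_one h) with h | h <;> simp [h]
    · rcases (Nat.dvd_prime Nat.prime_five).mp (orderOf_dvd_of_pow_eq_one h) with h | h <;> simp [h]
  · rintro (rfl | rfl | rfl | rfl)
    · exact ⟨1, orderOf_one⟩
    · exact w 2 Nat.prime_two (by decide +kernel)
    · exact w 3 Nat.prime_three (by decide +kernel)
    · exact w 5 Nat.prime_five (by decide +kernel)

theorem result : Set.range (orderOf : alternatingGroup (Fin 5) × alternatingGroup (Fin 5) → ℕ) = {1, 2, 3, 5, 6, 10, 15} := by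
  ext n
  rw [Cfsg.Agent.Spectrum.mem_range_orderOf_prod, range_orderOf_alt5]
  constructor
  · rintro ⟨a, ha, b, hb, rfl⟩
    simp only [Set.mem_insert_iff, Set.mem_singleton_iff] at ha hb
    rcases ha with rfl | rfl | rfl | rfl <;> rcases hb with rfl | rfl | rfl | rfl <;> simp (config := { decide := true })
  · intro hn
    simp only [Set.mem_insert_iff, Set.mem_singleton_iff] at hn
    rcases hn with rfl | rfl | rfl | rfl | rfl | rfl | rfl
    · exact ⟨1, by simp, 1, by simp, rfl⟩
    · exact ⟨2, by simp, 1, by simp, rfl⟩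
    · exact ⟨3, by simp, 1, by simp, rfl⟩
    · exact ⟨5, by simp, 1, by simp, rfl⟩
    · exact ⟨2, by simp, 3, by simp, rfl⟩
    · exact ⟨2, by simp, 5, by simp, rfl⟩
    · exact ⟨3, by simp, 5, by simp, rfl⟩


end Cfsg.Agent.S3448
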