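import Cfsg.Statements.S3449
import Cfsg.Agent.EqLemmas
import Cfsg.Agent.S3448
import Cfsg.Agent.Lib.Spectrum.Basic

set_option autoImplicit false
open Cfsg

namespace Cfsg.Agent.S3449

/-- The direct product of three copies of the alternating group of degree 5 has exactly the same set of element orders as the cyclic group of order 30, namely the divisors of 30; in particular a direct power of a non-abelian simple group need not be determined by its element orders. -/
theorem result : Set.range (orderOf : alternatingGroup (Fin 5) × alternatingGroup (Fin 5) × alternatingGroup (Fin 5) → ℕ) =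
      Set.range (orderOf : Multiplicative (ZMod 30) → ℕ) := by
  have hz : ∀ n, n ∈ Set.range (orderOf : Multiplicative (ZMod 30) → ℕ) ↔ n ∈ Nat.divisors 30 := by
    intro n
    rw [Nat.mem_divisors]
    constructor
    · rintro ⟨x, rfl⟩
      exact ⟨by simpa using orderOf_dvd_natCard x, by norm_num⟩
    · rintro ⟨hd, -⟩
      have hg : orderOf (Multiplicative.ofAdd (1 : ZMod 30)) = 30 := by
        rw [orderOf_ofAdd_eq_addOrderOf, ZMod.addOrderOf_one]
      refine ⟨Multiplicative.ofAdd (1 : ZMod 30) ^ (30 / n), ?_⟩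
      have := orderOf_pow_orderOf_div (x := Multiplicative.ofAdd (1 : ZMod 30)) (n := n) (by rw [hg]; norm_num)
        (by rw [hg]; exact hd)
      rwa [hg] at this
  ext n
  rw [hz, Cfsg.Agent.Spectrum.mem_range_orderOf_prod]
  simp only [Cfsg.Agent.Spectrum.mem_range_orderOf_prod, Cfsg.Agent.S3448.range_orderOf_alt5,
    Set.mem_insert_iff, Set.mem_singleton_iff]
  constructor
  · rintro ⟨a, ha, _, ⟨b, hb, c, hc, rfl⟩, rfl⟩
    rcases ha with rfl | rfl | rfl | rfl <;> rcases hb with rfl | rfl | rfl | rfl <;>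
      rcases hc with rfl | rfl | rfl | rfl <;> decide
  · intro hn
    have : n ∈ ({1, 2, 3, 5, 6, 10, 15, 30} : Finset ℕ) := by
      revert hn; rw [show Nat.divisors 30 = {1, 2, 3, 5, 6, 10, 15, 30} from by decide]; exact id
    simp only [Finset.mem_insert, Finset.mem_singleton] at this
    rcases this with rfl | rfl | rfl | rfl | rfl | rfl | rfl | rfl
    · exact ⟨1, by simp, _, ⟨1, by simp, 1, by simp, rfl⟩, rfl⟩
    · exact ⟨2, by simp, _, ⟨1, by simp, 1, by simp, rfl⟩, rfl⟩
    · exact ⟨3, by simp, _, ⟨1, by simp, 1, by simp, rfl⟩, rfl⟩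
    · exact ⟨5, by simp, _, ⟨1, by simp, 1, by simp, rfl⟩, rfl⟩
    · exact ⟨2, by simp, _, ⟨3, by simp, 1, by simp, rfl⟩, rfl⟩
    · exact ⟨2, by simp, _, ⟨5, by simp, 1, by simp, rfl⟩, rfl⟩
    · exact ⟨3, by simp, _, ⟨5, by simp, 1, by simp, rfl⟩, rfl⟩
    · exact ⟨2, by simp, _, ⟨3, by simp, 5, by simp, rfl⟩, rfl⟩


end Cfsg.Agent.S3449
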