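import Cfsg.Statements.S3452
import Cfsg.Agent.EqLemmas
import Cfsg.Agent.Lib.IsoPGL.Prime
import Cfsg.Agent.Lib.IsoPGL.Nine
import Cfsg.Agent.Lib.CharApp.Burnside
import Cfsg.Agent.S3444

set_option autoImplicit false
open Cfsg

namespace Cfsg.Agent.S3452

/-- For F a finite field whose number of elements is a prime or equals 9, the group PGL(2,F) = GL(2,F)/Z(GL(2,F)) is not determined by its set of element orders: for every bound N there is a finite group of order greater than N with exactly the same set of element orders as PGL(2,F). -/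
theorem result {F : Type*} [Field F] [Fintype F] (hF : (Fintype.card F).Prime ∨ Fintype.card F = 9) (N : ℕ) :
    ∃ (H : Type) (_ : Group H) (_ : Fintype H), N < Fintype.card H ∧
      Set.range (orderOf : H → ℕ) = Set.range (orderOf : Matrix.GeneralLinearGroup (Fin 2) F ⧸ Subgroup.center (Matrix.GeneralLinearGroup (Fin 2) F) → ℕ) := by
  classical
  -- reduce to one group with a solvable normal subgroup and the same element orders
  suffices hmain : ∀ (H : Type) [Group H] [Finite H] (K : Subgroup H) [K.Normal], K ≠ ⊥ → Group.IsSolvable K →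
      Set.range (orderOf : H → ℕ) = Set.range
        (orderOf : Matrix.GeneralLinearGroup (Fin 2) F ⧸ Subgroup.center (Matrix.GeneralLinearGroup (Fin 2) F) → ℕ) →
      ∃ (H : Type) (_ : Group H) (_ : Fintype H), N < Fintype.card H ∧
        Set.range (orderOf : H → ℕ) = Set.range
          (orderOf : Matrix.GeneralLinearGroup (Fin 2) F ⧸ Subgroup.center (Matrix.GeneralLinearGroup (Fin 2) F) → ℕ) by
    obtain ⟨p, hpc⟩ := CharP.exists F
    have hp : Fact p.Prime := ⟨CharP.char_is_prime F p⟩
    have hcases : (Fintype.card F = p ∧ 5 ≤ p) ∨ (Fintype.card F = 9 ∧ p = 3) ∨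
        Fintype.card F = 2 ∨ Fintype.card F = 3 := by
      obtain ⟨k, hk, hc⟩ := FiniteField.card F p
      rcases hF with h | h
      · have hkp : (k : ℕ) = 1 := by
          rw [hc] at h
          exact (Nat.Prime.eq_one_of_pow h)
        rw [hc, hkp, pow_one]
        rcases lt_or_ge p 5 with h5 | h5
        · have := hp.out.two_le
          interval_cases p
          · right; right; left; rfl
          · right; right; right; rfl
          · exact absurd hp.out (by norm_num)
        · exact Or.inl ⟨rfl, h5⟩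
      · refine Or.inr (Or.inl ⟨h, ?_⟩)
        have h3 : p ∣ 3 ^ 2 := by
          rw [show (3 : ℕ) ^ 2 = 9 by norm_num, ← h, hc]; exact dvd_pow_self p k.pos.ne'
        exact (Nat.prime_dvd_prime_iff_eq hp.out Nat.prime_three).1 (hp.out.dvd_of_dvd_pow h3)
    rcases hcases with ⟨hq, h5⟩ | ⟨hq, h3⟩ | hq | hq
    · obtain ⟨H, _, _, K, hn, hK, hs, hr⟩ := IsoPGL.exists_prime_model (p := p) h5
      have hn' : K.Normal := hn
      refine hmain H K hK hs (hr.trans ?_)
      show _ = Set.range (orderOf : PSL2.PGL2 F → ℕ)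
      rw [IsoPGL.range_pgl_orderOf p (by omega), Nat.card_eq_fintype_card, hq]
    · obtain ⟨H, _, _, K, hn, hK, hs, hr⟩ := IsoPGL.exists_nine_model
      have hn' : K.Normal := hn
      subst h3
      refine hmain H K hK hs (hr.trans ?_)
      show _ = Set.range (orderOf : PSL2.PGL2 F → ℕ)
      rw [IsoPGL.range_pgl_orderOf 3 (by norm_num), Nat.card_eq_fintype_card, hq]
    all_goals
      let G := Matrix.GeneralLinearGroup (Fin 2) F ⧸ Subgroup.center (Matrix.GeneralLinearGroup (Fin 2) F)
      have hGL := Matrix.card_GL_field (n := 2) (𝔽 := F)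
      have hdvd : Nat.card G ∣ Nat.card (Matrix.GeneralLinearGroup (Fin 2) F) :=
        Subgroup.card_quotient_dvd_card _
      rw [hGL, hq, Fin.prod_univ_two] at hdvd
      have hdvd48 : Nat.card G ∣ 2 ^ 4 * 3 ^ 1 := hdvd.trans (by norm_num)
      obtain ⟨u, v, hu, hv, huv⟩ := exists_dvd_and_dvd_of_dvd_mul hdvd48
      obtain ⟨i, -, rfl⟩ := (Nat.dvd_prime_pow Nat.prime_two).1 hu
      obtain ⟨j, -, rfl⟩ := (Nat.dvd_prime_pow Nat.prime_three).1 hv
      have hsol : Group.IsSolvable G :=
        CharApp.isSolvable_of_card_eq_prime_pow_mul 2 3 Nat.prime_two Nat.prime_three _ G rfl i j huv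
      refine S3444.result (G := G) ⊤ ?_ inferInstance N
      intro htop
      obtain ⟨a, ha⟩ : ∃ a : PSL2.PGL2 F, a ≠ 1 :=
        ⟨PSL2.aff 1 1, fun h => one_ne_zero (PSL2.aff_eq_one_iff.1 h).2⟩
      exact ha (Subgroup.mem_bot.1 (htop ▸ Subgroup.mem_top (show G from a)))
  intro H _ _ K _ hK hs hr
  obtain ⟨H', hg, hf, hN, hr'⟩ := S3444.result K hK hs N
  exact ⟨H', hg, hf, hN, hr'.trans hr⟩

end Cfsg.Agent.S3452
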