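import Cfsg.Statements.S3466
import Cfsg.Agent.S3444
import Cfsg.Agent.S3439
import Cfsg.Agent.Lib.SpecPSpFour.Three

set_option autoImplicit false
open Cfsg

namespace Cfsg.Agent.S3466

open Cfsg.Agent.SpecPSpFour in
/-- A split extension with the spectrum of `PSp₄(q)` gives unboundedly many isospectral groups. -/
theorem of_ext {ι : Type} [Fintype ι] [DecidableEq ι] [Nonempty ι] {E : Type} [Field E] [Finite E]
    {G : Subgroup (MulAut (Mod ι E))} {p q : ℕ} {F : Type*} [Field F]
    (hext : Set.range (orderOf : Ext G → ℕ) = Spec p q)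
    (hF : Set.range (orderOf : Cfsg.PSp 2 F → ℕ) = Spec p q) (N : ℕ) :
    ∃ (H : Type) (_ : Group H) (_ : Fintype H),
      N < Fintype.card H ∧ Set.range (orderOf : H → ℕ) = Set.range (orderOf : Cfsg.PSp 2 F → ℕ) := by
  let φ : Mod ι E →* Ext G := SemidirectProduct.inl
  haveI : φ.range.Normal := by
    rw [SemidirectProduct.range_inl_eq_ker_rightHom]; exact MonoidHom.normal_ker _
  have hne : φ.range ≠ ⊥ := by
    intro h
    rw [MonoidHom.range_eq_bot_iff] at h
    obtain ⟨i⟩ := ‹Nonempty ι›
    have h' := congrArg (fun g : Mod ι E →* Ext G =>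
      (g (Multiplicative.ofAdd (1 : Matrix ι ι E))).left.toAdd i i) h
    simp [φ] at h'
  haveI : Std.Commutative (α := φ.range) (· * ·) := ⟨fun a b => by
    obtain ⟨x, hx⟩ := a.2
    obtain ⟨y, hy⟩ := b.2
    apply Subtype.ext
    show a.1 * b.1 = b.1 * a.1
    rw [← hx, ← hy, ← map_mul, ← map_mul, mul_comm]⟩
  have hs : Group.IsSolvable φ.range := Group.isSolvable_of_comm fun a b => Std.Commutative.comm a b
  obtain ⟨H, i1, i2, h1, h2⟩ := Cfsg.Agent.S3444.result φ.range hne hs N
  exact ⟨H, i1, i2, h1, by rw [h2, hext, hF]⟩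

/-- Let F be a finite field with q ≥ 3 elements such that q is not of the form 3^(2t+1) with t ≥ 1. Then PSp(4,F) is not determined by its set of element orders, not even up to finitely many groups: for every bound N there is a finite group of order greater than N with exactly the same set of element orders as PSp(4,F). -/
theorem result {F : Type*} [Field F] [Fintype F] (h3 : 3 ≤ Fintype.card F) (hq : ∀ t : ℕ, 1 ≤ t → Fintype.card F ≠ 3 ^ (2 * t + 1)) (N : ℕ) :
    ∃ (H : Type) (_ : Group H) (_ : Fintype H), N < Fintype.card H ∧ Set.range (orderOf : H → ℕ) = Set.range (orderOf : Cfsg.PSp 2 F → ℕ) := by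
  obtain ⟨p, hp⟩ := CharP.exists F
  haveI hpp : Fact p.Prime := ⟨CharP.char_is_prime F p⟩
  obtain ⟨f, hf, hcard⟩ := SpecPSpFour.card_eq_pow (F := F) p
  have hF := SpecPSpFour.range_orderOf_psp (F := F) p
  rw [hcard] at hF h3 hq
  by_cases hp2 : p = 2
  · subst hp2
    obtain ⟨G, hG⟩ := SpecPSpFour.exists_twist_even f hf
    exact of_ext hG hF N
  by_cases hp3 : p = 3
  · subst hp3
    by_cases hf2 : 2 ∣ f
    · obtain ⟨G, hG⟩ := SpecPSpFour.exists_twist_three f hf hf2
      exact of_ext hG hF N
    · obtain ⟨t, rfl⟩ : ∃ t, f = 2 * t + 1 := ⟨f / 2, by omega⟩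
      rcases Nat.eq_zero_or_pos t with rfl | ht
      · obtain ⟨H, i1, i2, hs, hsp⟩ := Cfsg.Agent.S3439.result (F := F) (by rw [hcard]; norm_num)
        haveI : Group.IsSolvable H := hs
        have hne : (⊤ : Subgroup H) ≠ ⊥ := by
          intro h
          obtain ⟨x, hx⟩ : (3 : ℕ) ∈ Set.range (orderOf : H → ℕ) := by
            rw [hsp, hF]
            exact SpecPSpFour.dvd_mem_spec SpecPSpFour.mem_spec₉ (by norm_num)
          have : x = 1 := by
            have hm : x ∈ (⊤ : Subgroup H) := Subgroup.mem_top x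
            rw [h, Subgroup.mem_bot] at hm
            exact hm
          rw [this, orderOf_one] at hx
          omega
        obtain ⟨H', j1, j2, h1, h2⟩ := Cfsg.Agent.S3444.result (⊤ : Subgroup H) hne inferInstance N
        exact ⟨H', j1, j2, h1, h2.trans hsp⟩
      · exact absurd rfl (hq t ht)
  have hp5 : 5 ≤ p := by
    have h2 := hpp.out.two_le
    have : p ≠ 4 := fun e => by rw [e] at hpp; exact absurd hpp.out (by norm_num)
    omega
  obtain ⟨G, hG⟩ := SpecPSpFour.exists_twist_odd p hp5 f hf
  exact of_ext hG hF N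

end Cfsg.Agent.S3466
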