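import Cfsg.Statements.S3486
import Cfsg.Agent.Lib.IcosianGroup.Hundred
import Cfsg.Agent.Lib.IcosianGroup.Spectrum
import Cfsg.Agent.Lib.IcosianGroup.EightSpec

set_option autoImplicit false
open Cfsg

namespace Cfsg.Agent.S3486

/-- The Hall–Janko sporadic group J₂ is not determined by its set of element orders, not even up to finitely many groups: for every bound N there is a finite group of order greater than N with exactly the same set of element orders as J₂. -/
theorem result (N : ℕ) : ∃ (H : Type) (_ : Group H) (_ : Fintype H), N < Fintype.card H ∧ Set.range (orderOf : H → ℕ) = Set.range (orderOf : Cfsg.Spor.J2 → ℕ) := by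
  refine ⟨Cfsg.Agent.EightSpec.ext (N + 1), inferInstance, Fintype.ofFinite _, ?_, ?_⟩
  · rw [← @Nat.card_eq_fintype_card _ (Fintype.ofFinite _)]
    exact Nat.lt_two_pow_self.trans_le
      (le_trans (Nat.pow_le_pow_right (by norm_num) N.le_succ) (Cfsg.Agent.EightSpec.two_pow_le_card_ext (N + 1)))
  · rw [Cfsg.Agent.EightSpec.range_orderOf_ext,
      Cfsg.Agent.EightSpec.range_orderOf_congr Cfsg.Agent.IcoGroup.equivJTwo,
      Cfsg.Agent.JTwoPerm.range_orderOf_jTwo]

end Cfsg.Agent.S3486
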