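import Cfsg.Statements.S3491
import Cfsg.Agent.EqLemmas
import Cfsg.Agent.Lib.Spectrum.Affine

set_option autoImplicit false
open Cfsg

namespace Cfsg.Agent.S3491

/-- The alternating group of degree 6 is not determined by its set of element orders, not even up to finitely many groups: for every bound N there is a finite group of order greater than N with exactly the same set of element orders as the alternating group of degree 6. -/
theorem result (N : ℕ) : ∃ (H : Type) (_ : Group H) (_ : Fintype H), N < Fintype.card H ∧ Set.range (orderOf : H → ℕ) = Set.range (orderOf : alternatingGroup (Fin 6) → ℕ) := by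
  have hF : Nat.card (GaloisField 2 2) = 4 := by rw [GaloisField.card 2 2 (by norm_num)]; norm_num
  haveI : Finite (GaloisField 2 2) := Nat.finite_of_card_ne_zero (by omega)
  obtain ⟨V, hV, hne, hexp⟩ := Spectrum.exists_translations (F := GaloisField 2 2) hF
  haveI := hV
  rw [Spectrum.range_orderOf_alt6, ← Spectrum.range_orderOf_affine (F := GaloisField 2 2) hF]
  exact Spectrum.exists_large_isospectral V hne Nat.prime_two hexp N

end Cfsg.Agent.S3491
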