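import Cfsg.Statements.S3495
import Cfsg.Agent.EqLemmas
import Cfsg.Agent.Lib.ExtPrim.Basic

set_option autoImplicit false
open Cfsg

namespace Cfsg.Agent.S3495

/-- Let a finite group G act faithfully and primitively on a finite set Ω with non-trivial point stabilizers, each acting primitively on every one of its orbits (an extremely primitive group), and suppose G has an elementary abelian normal p-subgroup N acting regularly on Ω (affine type). Then every non-trivial subgroup M of a point stabilizer G_α that is normal in G_α has the same orbits on Ω as G_α, and normalizes no subgroup of N other than 1 and N. -/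
theorem result {G : Type*} [Group G] [Finite G] {Ω : Type*} [Fintype Ω] [MulAction G Ω] [FaithfulSMul G Ω] (hprim : MulAction.IsPreprimitive G Ω) (hH : ∀ α : Ω, MulAction.stabilizer G α ≠ ⊥) (hep : ∀ (α : Ω) (ω : Ω), MulAction.IsPreprimitive (MulAction.stabilizer G α) (MulAction.orbit (MulAction.stabilizer G α) ω))
    (N : Subgroup G) [N.Normal] (hNc : IsMulCommutative N) (p : ℕ) (hp : p.Prime) (hNp : ∀ n ∈ N, n ^ p = 1)
    (hNtr : MulAction.IsPretransitive N Ω) (hNreg : ∀ ω : Ω, MulAction.stabilizer N ω = ⊥) (α : Ω) (M : Subgroup G) (hM : M ≠ ⊥) (hMle : M ≤ MulAction.stabilizer G α)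
    (hMn : MulAction.stabilizer G α ≤ Subgroup.normalizer (M : Set G)) :
    (∀ ω : Ω, MulAction.orbit M ω = MulAction.orbit (MulAction.stabilizer G α) ω) ∧
    (∀ L : Subgroup G, L ≤ N → M ≤ Subgroup.normalizer (L : Set G) → L = ⊥ ∨ L = N) := by
  haveI := hprim
  have horb : ∀ ω : Ω, MulAction.orbit M ω = MulAction.orbit (MulAction.stabilizer G α) ω := by
    intro ω
    apply Set.Subset.antisymm
    · rintro _ ⟨⟨m, hm⟩, rfl⟩
      exact ⟨⟨m, hMle hm⟩, rfl⟩
    · rintro _ ⟨⟨h, hh⟩, rfl⟩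
      rcases eq_or_ne ω α with hωα | hωα
      · refine ⟨1, ?_⟩
        show (1 : M) • ω = h • ω
        rw [one_smul, hωα, MulAction.mem_stabilizer_iff.mp hh]
      rcases Cfsg.Agent.ExtPrim.fix_or_transitive α ω (hep α ω) M hMle hMn with hf | ht
      · refine absurd ((Subgroup.eq_bot_iff_forall M).mpr fun m hm => ?_) hM
        refine Cfsg.Agent.ExtPrim.faithful_on_suborbit hprim α ω hωα (hH α) (hep α) (hMle hm) ?_
        rintro _ ⟨⟨u, hu⟩, rfl⟩
        exact hf m hm u hu
      · obtain ⟨m, hm, hmω⟩ := ht h hh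
        exact ⟨⟨m, hm⟩, hmω⟩
  refine ⟨horb, fun L hL hML => ?_⟩
  have hreg : ∀ a ∈ N, ∀ b ∈ N, a • α = b • α → a = b := by
    intro a ha b hb hab
    have : (⟨b⁻¹ * a, mul_mem (inv_mem hb) ha⟩ : N) ∈ MulAction.stabilizer N α :=
      show (b⁻¹ * a) • α = α by rw [mul_smul, hab, inv_smul_smul]
    rw [hNreg α, Subgroup.mem_bot] at this
    exact (inv_mul_eq_one.mp (congrArg Subtype.val this)).symm
  by_cases hL0 : L = ⊥
  · exact Or.inl hL0
  right
  have hconjH : ∀ h ∈ MulAction.stabilizer G α, ∀ l ∈ L, h * l * h⁻¹ ∈ L := by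
    intro h hh l hl
    have hhl : (h * l * h⁻¹) • α = h • (l • α) := by
      rw [mul_smul, mul_smul, inv_smul_eq_iff.mpr (MulAction.mem_stabilizer_iff.mp hh).symm]
    obtain ⟨⟨m, hm⟩, hmx⟩ : h • (l • α) ∈ MulAction.orbit M (l • α) := by
      rw [horb]; exact ⟨⟨h, hh⟩, rfl⟩
    have hmlm : m * l * m⁻¹ ∈ L := (Subgroup.mem_normalizer_iff.mp (hML hm) l).mp hl
    have heq : (m * l * m⁻¹) • α = (h * l * h⁻¹) • α := by
      rw [hhl, mul_smul, mul_smul, inv_smul_eq_iff.mpr (MulAction.mem_stabilizer_iff.mp (hMle hm)).symm]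
      exact hmx
    rw [← hreg _ (hL hmlm) _ (Subgroup.Normal.conj_mem inferInstance l (hL hl) h) heq]
    exact hmlm
  have hnorm : L.Normal := by
    refine ⟨fun l hl g => ?_⟩
    obtain ⟨⟨n, hn⟩, hnα⟩ := MulAction.exists_smul_eq N α (g • α)
    have hh : n⁻¹ * g ∈ MulAction.stabilizer G α := by
      rw [MulAction.mem_stabilizer_iff, mul_smul, inv_smul_eq_iff]
      exact hnα.symm
    have h1 := hconjH _ hh l hl
    have hcomm := congrArg Subtype.val (mul_comm' (⟨n, hn⟩ : N) ⟨_, hL h1⟩)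
    simp only [Subgroup.coe_mul] at hcomm
    have : g * l * g⁻¹ = n * (n⁻¹ * g * l * (n⁻¹ * g)⁻¹) * n⁻¹ := by group
    rw [this, hcomm, mul_inv_cancel_right]
    exact h1
  haveI := hnorm
  have hfix : MulAction.fixedPoints L Ω ≠ Set.univ := by
    intro hu
    apply hL0
    refine Cfsg.Agent.ExtPrim.normal_le_stabilizer_eq_bot L α fun l hl => ?_
    have hα : α ∈ MulAction.fixedPoints L Ω := by rw [hu]; trivial
    exact hα ⟨l, hl⟩
  haveI : MulAction.IsPretransitive L Ω := MulAction.IsQuasiPreprimitive.isPretransitive_of_normal hfix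
  refine le_antisymm hL fun n hn => ?_
  obtain ⟨⟨l, hl⟩, hlα⟩ := MulAction.exists_smul_eq L α (n • α)
  rw [← hreg l (hL hl) n hn hlα]
  exact hl

end Cfsg.Agent.S3495
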