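import Cfsg.Statements.S3496
import Cfsg.Agent.EqLemmas
import Cfsg.Agent.Lib.ExtPrim.Abelian
import Cfsg.Agent.Lib.Spectrum.Basic
import Cfsg.Agent.S3495

set_option autoImplicit false
open Cfsg

namespace Cfsg.Agent.S3496

/-- Facts on a finite field generated by a root of unity. -/
theorem field_facts {E : Type*} [Field E] [Finite E] (p : ℕ) [hp : Fact p.Prime] [CharP E p] (d : ℕ)
    (hcard : Nat.card E = p ^ d) (u : E) (q : ℕ) (huq : u ^ q = 1)
    (hgen : ∀ f : E →+* E, f u = u → f = RingHom.id E) :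
    (∀ i : ℕ, 0 < i → q ∣ p ^ i - 1 → d ≤ i) ∧ IsCyclic (E ≃+* E) ∧ Nat.card (E ≃+* E) = d := by
  classical
  letI : Fintype E := Fintype.ofFinite E
  haveI : ExpChar E p := ExpChar.prime hp.out
  refine ⟨fun i hi hdiv => ?_, ?_⟩
  · obtain ⟨c, hc⟩ := hdiv
    have hu : u ^ p ^ i = u := by
      have h1 : 1 ≤ p ^ i := Nat.one_le_pow _ _ hp.out.pos
      rw [show p ^ i = q * c + 1 by omega, pow_succ, pow_mul, huq, one_pow, one_mul]
    have hall := hgen (iterateFrobenius E p i) (by rwa [iterateFrobenius_def])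
    have hroot : ∀ x : E, x ^ p ^ i - x = 0 := fun x => by
      rw [sub_eq_zero, ← iterateFrobenius_def, hall, RingHom.id_apply]
    have hne : (Polynomial.X ^ p ^ i - Polynomial.X : Polynomial E) ≠ 0 := by
      intro h0
      have := FiniteField.X_pow_card_pow_sub_X_natDegree_eq E hi.ne' hp.out.one_lt
      rw [h0, Polynomial.natDegree_zero] at this
      exact (pow_pos hp.out.pos i).ne this
    have hsub : (Finset.univ : Finset E) ⊆ (Polynomial.X ^ p ^ i - Polynomial.X : Polynomial E).roots.toFinset := by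
      intro x _
      rw [Multiset.mem_toFinset, Polynomial.mem_roots hne]
      simpa using hroot x
    have h2 := (Finset.card_le_card hsub).trans ((Multiset.toFinset_card_le _).trans (Polynomial.card_roots' _))
    rw [FiniteField.X_pow_card_pow_sub_X_natDegree_eq E hi.ne' hp.out.one_lt, Finset.card_univ,
      ← Nat.card_eq_fintype_card, hcard] at h2
    exact (Nat.pow_le_pow_iff_right hp.out.one_lt).mp h2
  · letI : Algebra (ZMod p) E := ZMod.algebra E p
    let e : (E ≃+* E) ≃* (E ≃ₐ[ZMod p] E) :=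
      { toFun := fun f => AlgEquiv.ofRingEquiv (f := f) (fun x => RingHom.congr_fun
          (Subsingleton.elim ((f : E →+* E).comp (algebraMap (ZMod p) E)) (algebraMap (ZMod p) E)) x)
        invFun := fun f => f.toRingEquiv
        left_inv := fun f => RingEquiv.ext fun _ => rfl
        right_inv := fun f => AlgEquiv.ext fun _ => rfl
        map_mul' := fun f g => AlgEquiv.ext fun _ => rfl }
    haveI : Finite E := Finite.of_fintype E
    refine ⟨isCyclic_of_surjective e.symm e.symm.surjective, ?_⟩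
    rw [Nat.card_congr e.toEquiv, IsGalois.card_aut_eq_finrank (ZMod p) E]
    have h := Module.natCard_eq_pow_finrank (K := ZMod p) (V := E)
    rw [Nat.card_zmod, hcard] at h
    exact (Nat.pow_right_injective hp.out.two_le h).symm

section Rep

variable {H : Type*} [Group H] {V : Type*} [AddCommGroup V] (ρ : H →* AddMonoid.End V)

/-- A fixed-point-free elementary abelian group is cyclic. -/
theorem fpf_card {q p : ℕ} (hqp : q.Prime) (hcop : Nat.Coprime q p) (hV : ∀ v : V, p • v = 0) {v₀ : V} (hv₀ : v₀ ≠ 0)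
    (A : Subgroup H) (hc : ∀ a ∈ A, ∀ b ∈ A, a * b = b * a) (hexp : ∀ a ∈ A, a ^ q = 1)
    (hfpf : ∀ a ∈ A, a ≠ 1 → ∀ v, ρ a v = v → v = 0) {b : H} (hb : b ∈ A) (hb1 : b ≠ 1) :
    A ≤ Subgroup.zpowers b := by
  classical
  intro a ha
  by_contra hab
  have hT : ∀ x ∈ A, x ≠ 1 → (∑ i ∈ Finset.range q, ρ (x ^ i)) = 0 := by
    intro x hx hx1
    refine DFunLike.ext _ _ fun v => hfpf x hx hx1 _ ?_
    have key : ρ x * (∑ i ∈ Finset.range q, ρ (x ^ i)) = ∑ i ∈ Finset.range q, ρ (x ^ i) := by
      simp only [Finset.mul_sum, ← map_mul, ← pow_succ']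
      have h2 := Finset.sum_range_succ' (fun i => ρ (x ^ i)) q
      rw [Finset.sum_range_succ, hexp x hx] at h2
      simp only [pow_zero] at h2
      exact (add_right_cancel h2).symm
    exact DFunLike.congr_fun key v
  have hsum : (∑ j ∈ Finset.range q, ∑ i ∈ Finset.range q, ρ ((a * b ^ j) ^ i)) = 0 := by
    refine Finset.sum_eq_zero fun j _ => hT _ (mul_mem ha (pow_mem hb j)) fun h => hab ?_
    rw [eq_inv_of_mul_eq_one_left h]
    exact inv_mem (Subgroup.npow_mem_zpowers b j)
  rw [Finset.sum_comm] at hsum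
  have hzero : ∀ i ∈ Finset.range q, i ≠ 0 → (∑ j ∈ Finset.range q, ρ ((a * b ^ j) ^ i)) = 0 := by
    intro i hi hi0
    have hbi : b ^ i ≠ 1 := by
      intro h
      have hord : orderOf b = q := by
        haveI := Fact.mk hqp
        exact orderOf_eq_prime (hexp b hb) hb1
      have := orderOf_dvd_of_pow_eq_one h
      rw [hord] at this
      exact hi0 (Nat.eq_zero_of_dvd_of_lt this (Finset.mem_range.mp hi))
    have e : ∀ j, ρ ((a * b ^ j) ^ i) = ρ (a ^ i) * ρ ((b ^ i) ^ j) := fun j => by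
      rw [← map_mul, Commute.mul_pow (hc a ha _ (pow_mem hb j)), ← pow_mul, ← pow_mul, mul_comm j i]
    rw [Finset.sum_congr rfl fun j _ => e j, ← Finset.mul_sum, hT _ (pow_mem hb i) hbi, mul_zero]
  rw [Finset.sum_eq_single_of_mem 0 (Finset.mem_range.mpr hqp.pos) hzero] at hsum
  simp only [pow_zero, map_one, Finset.sum_const, Finset.card_range] at hsum
  have hq0 : q • v₀ = 0 := by
    have := DFunLike.congr_fun hsum v₀
    simpa using this
  apply hv₀
  obtain ⟨x, y, hxy⟩ : IsCoprime (q : ℤ) (p : ℤ) := (Nat.isCoprime_iff_coprime).mpr hcop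
  calc v₀ = (x * q + y * p) • v₀ := by rw [hxy, one_smul]
    _ = 0 := by rw [add_smul, mul_smul, mul_smul, natCast_zsmul, natCast_zsmul, hq0, hV v₀, smul_zero, smul_zero, add_zero]

/-- The ring generated by an irreducible element, with the induced automorphisms. -/
theorem irreducible_facts [Finite V] (p d q : ℕ) [hp : Fact p.Prime] (hcard : Nat.card V = p ^ d)
    (hV : ∀ v : V, p • v = 0) {v₀ : V} (hv₀ : v₀ ≠ 0) (t : H) (htq : t ^ q = 1)
    (hirr : ∀ U : AddSubgroup V, (∀ v ∈ U, ρ t v ∈ U) → U = ⊥ ∨ U = ⊤)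
    (D : Subgroup H) (hD : ∀ h ∈ D, ∃ n : ℕ, h * t * h⁻¹ = t ^ n)
    (hDinj : ∀ h ∈ D, ρ (h * t * h⁻¹) = ρ t → h = 1) :
    (∀ i : ℕ, 0 < i → q ∣ p ^ i - 1 → d ≤ i) ∧ IsCyclic D ∧ Nat.card D ∣ d := by
  classical
  let E : Subring (AddMonoid.End V) := Subring.closure {ρ t}
  haveI : IsMulCommutative E := Subring.isMulCommutative_closure (by
    intro x hx y hy
    rw [Set.mem_singleton_iff.mp hx, Set.mem_singleton_iff.mp hy])
  letI : CommRing E := { mul_comm := mul_comm' }
  haveI : Nontrivial E := ⟨⟨0, 1, fun h => hv₀ (DFunLike.congr_fun (congrArg Subtype.val h) v₀).symm⟩⟩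
  haveI : Finite E := Finite.of_injective (fun x : E => (⇑(x : AddMonoid.End V) : V → V))
    (DFunLike.coe_injective.comp Subtype.val_injective)
  have ht : ρ t ∈ E := Subring.subset_closure (Set.mem_singleton _)
  have hcomm : ∀ x : E, (x : AddMonoid.End V) * ρ t = ρ t * x := fun x =>
    congrArg Subtype.val (mul_comm x ⟨ρ t, ht⟩)
  have hinj : ∀ x : E, x ≠ 0 → ∀ v, (x : AddMonoid.End V) v = 0 → v = 0 := by
    intro x hx v hv
    rcases hirr (AddMonoidHom.ker (x : AddMonoid.End V)) (fun w hw => by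
        show (x : AddMonoid.End V) (ρ t w) = 0
        have := DFunLike.congr_fun (hcomm x) w
        rw [show (x : AddMonoid.End V) (ρ t w) = ρ t ((x : AddMonoid.End V) w) from this,
          show (x : AddMonoid.End V) w = 0 from hw, map_zero]) with h | h
    · exact (AddSubgroup.eq_bot_iff_forall _).mp h v hv
    · exact absurd (Subtype.ext (DFunLike.ext (x : AddMonoid.End V) ((0 : E) : AddMonoid.End V) fun w =>
        (show w ∈ AddMonoidHom.ker (x : AddMonoid.End V) by rw [h]; trivial)) : x = 0) hx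
  haveI : NoZeroDivisors E := ⟨fun {x y} hxy => by
    by_contra h
    simp only [not_or] at h
    exact hv₀ (hinj y h.2 v₀ (hinj x h.1 _ (DFunLike.congr_fun (congrArg Subtype.val hxy) v₀)))⟩
  haveI : IsDomain E := NoZeroDivisors.to_isDomain E
  letI : Field E := (Finite.isField_of_domain E).toField
  haveI : CharP E p := by
    refine (CharP.charP_iff_prime_eq_zero hp.out).mpr ?_
    apply Subtype.ext
    refine DFunLike.ext _ _ fun v => ?_
    simpa using hV v
  let ev : E →+ V :=
    { toFun := fun x => (x : AddMonoid.End V) v₀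
      map_zero' := rfl
      map_add' := fun _ _ => rfl }
  have hevinj : Function.Injective ev := by
    rw [injective_iff_map_eq_zero]
    exact fun x hx => by_contra fun h => hv₀ (hinj x h v₀ hx)
  have hevsurj : Function.Surjective ev := by
    rcases hirr ev.range (by
      rintro _ ⟨x, rfl⟩
      exact ⟨⟨ρ t, ht⟩ * x, rfl⟩) with h | h
    · exfalso
      have : ev 1 ∈ ev.range := ⟨1, rfl⟩
      rw [h, AddSubgroup.mem_bot] at this
      exact hv₀ this
    · exact AddMonoidHom.range_eq_top.mp h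
  have hEcard : Nat.card E = p ^ d := by rw [← hcard, Nat.card_congr (Equiv.ofBijective ev ⟨hevinj, hevsurj⟩)]
  have hgen : ∀ f g : E →+* E, f ⟨ρ t, ht⟩ = g ⟨ρ t, ht⟩ → f = g := by
    intro f g hfg
    refine RingHom.ext fun ⟨x, hx⟩ => ?_
    induction hx using Subring.closure_induction with
    | mem y hy => obtain rfl := Set.mem_singleton_iff.mp hy; exact hfg
    | zero => exact (map_zero f).trans (map_zero g).symm
    | one => exact (map_one f).trans (map_one g).symm
    | add x y hx hy ihx ihy =>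
      exact (map_add f ⟨x, hx⟩ ⟨y, hy⟩).trans ((congrArg₂ (· + ·) ihx ihy).trans (map_add g ⟨x, hx⟩ ⟨y, hy⟩).symm)
    | neg x hx ihx => exact (map_neg f ⟨x, hx⟩).trans ((congrArg Neg.neg ihx).trans (map_neg g ⟨x, hx⟩).symm)
    | mul x y hx hy ihx ihy =>
      exact (map_mul f ⟨x, hx⟩ ⟨y, hy⟩).trans ((congrArg₂ (· * ·) ihx ihy).trans (map_mul g ⟨x, hx⟩ ⟨y, hy⟩).symm)
  obtain ⟨hord, hcyc, hautcard⟩ := field_facts p d hEcard (⟨ρ t, ht⟩ : E) q
    (Subtype.ext (by
      show ρ t ^ q = 1
      rw [← map_pow, htq, map_one]))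
    (fun f hf => hgen f (RingHom.id _) hf)
  refine ⟨hord, ?_⟩
  have hmem : ∀ h ∈ D, ∀ x : E, ρ h * (x : AddMonoid.End V) * ρ h⁻¹ ∈ E := by
    intro h hh
    have hinv : ρ h⁻¹ * ρ h = 1 := by rw [← map_mul, inv_mul_cancel, map_one]
    have hinv' : ρ h * ρ h⁻¹ = 1 := by rw [← map_mul, mul_inv_cancel, map_one]
    rintro ⟨x, hx⟩
    induction hx using Subring.closure_induction with
    | mem y hy =>
      obtain rfl := Set.mem_singleton_iff.mp hy
      obtain ⟨n, hn⟩ := hD h hh
      show ρ h * ρ t * ρ h⁻¹ ∈ E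
      rw [← map_mul, ← map_mul, hn, map_pow]
      exact pow_mem ht n
    | zero => show ρ h * 0 * ρ h⁻¹ ∈ E; simp
    | one => show ρ h * 1 * ρ h⁻¹ ∈ E; simp [hinv']
    | add x y _ _ ihx ihy =>
      show ρ h * (x + y) * ρ h⁻¹ ∈ E
      rw [mul_add, add_mul]; exact add_mem ihx ihy
    | neg x _ ihx =>
      show ρ h * (-x) * ρ h⁻¹ ∈ E
      rw [mul_neg, neg_mul]; exact neg_mem ihx
    | mul x y _ _ ihx ihy =>
      show ρ h * (x * y) * ρ h⁻¹ ∈ E
      have : ρ h * (x * y) * ρ h⁻¹ = ρ h * x * ρ h⁻¹ * (ρ h * y * ρ h⁻¹) := by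
        rw [show ρ h * x * ρ h⁻¹ * (ρ h * y * ρ h⁻¹) = ρ h * x * (ρ h⁻¹ * ρ h) * y * ρ h⁻¹ by noncomm_ring,
          hinv]
        noncomm_ring
      rw [this]; exact mul_mem ihx ihy
  let φ₀ : D → (E →+* E) := fun h =>
    { toFun := fun x => ⟨ρ (h : H) * (x : AddMonoid.End V) * ρ (h : H)⁻¹, hmem h h.2 x⟩
      map_one' := Subtype.ext (by simp [← map_mul])
      map_zero' := Subtype.ext (by simp)
      map_add' := fun x y => Subtype.ext (by simp [mul_add, add_mul])
      map_mul' := fun x y => Subtype.ext (by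
        have hinv : ρ (h : H)⁻¹ * ρ (h : H) = 1 := by rw [← map_mul, inv_mul_cancel, map_one]
        show ρ (h : H) * ((x : AddMonoid.End V) * y) * ρ (h : H)⁻¹ =
          ρ (h : H) * x * ρ (h : H)⁻¹ * (ρ (h : H) * y * ρ (h : H)⁻¹)
        rw [show ρ (h : H) * x * ρ (h : H)⁻¹ * (ρ (h : H) * y * ρ (h : H)⁻¹) =
          ρ (h : H) * x * (ρ (h : H)⁻¹ * ρ (h : H)) * y * ρ (h : H)⁻¹ by noncomm_ring, hinv]
        noncomm_ring) }
  have hφmul : ∀ g h : D, φ₀ (g * h) = (φ₀ g).comp (φ₀ h) := fun g h => RingHom.ext fun x => Subtype.ext (by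
    simp [φ₀, mul_inv_rev, map_mul, mul_assoc])
  have hφone : φ₀ 1 = RingHom.id E := RingHom.ext fun x => Subtype.ext (by simp [φ₀])
  let φ : D →* (E ≃+* E) :=
    { toFun := fun h => RingEquiv.ofRingHom (φ₀ h) (φ₀ h⁻¹)
        (by rw [← hφmul, mul_inv_cancel, hφone]) (by rw [← hφmul, inv_mul_cancel, hφone])
      map_one' := RingEquiv.ext fun x => RingHom.congr_fun hφone x
      map_mul' := fun g h => RingEquiv.ext fun x => RingHom.congr_fun (hφmul g h) x }
  have hφinj : Function.Injective φ := by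
    rw [injective_iff_map_eq_one]
    intro h hh
    apply Subtype.ext
    apply hDinj h h.2
    have : ρ (h : H) * ρ t * ρ (h : H)⁻¹ = ρ t :=
      congrArg Subtype.val (RingEquiv.congr_fun hh (⟨ρ t, ht⟩ : E))
    rw [map_mul, map_mul, this]
  refine ⟨isCyclic_of_injective φ hφinj, ?_⟩
  rw [← hautcard]
  exact Subgroup.card_dvd_of_injective φ hφinj

end Rep


/-- The soluble extremely primitive groups. Let a finite solvable group G act faithfully and primitively on a finite set Ω with p ^ d points (p prime), with non-trivial point stabilizers each acting primitively on every one of its orbits. Then there is a prime q such that every orbit of a point stabilizer G_α other than {α} has exactly q points, q divides p ^ d − 1 but no p ^ i − 1 with 0 < i < d, and G_α has a normal subgroup T of order q with G_α generated by T and one further element and the order of G_α dividing q·d (so G_α is cyclic of order q, or an extension of T by a cyclic group of order dividing d). -/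
theorem result {G : Type*} [Group G] [Finite G] {Ω : Type*} [Fintype Ω] [MulAction G Ω] [FaithfulSMul G Ω] [Group.IsSolvable G] (p d : ℕ) (hp : p.Prime) (hcard : Fintype.card Ω = p ^ d)
    (hprim : MulAction.IsPreprimitive G Ω) (hH : ∀ α : Ω, MulAction.stabilizer G α ≠ ⊥) (hep : ∀ (α : Ω) (ω : Ω), MulAction.IsPreprimitive (MulAction.stabilizer G α) (MulAction.orbit (MulAction.stabilizer G α) ω)) (α : Ω) :
    ∃ q : ℕ, q.Prime ∧ (∀ ω : Ω, ω ≠ α → Nat.card (MulAction.orbit (MulAction.stabilizer G α) ω) = q) ∧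
      q ∣ p ^ d - 1 ∧ (∀ i : ℕ, 0 < i → i < d → ¬ q ∣ p ^ i - 1) ∧
      ∃ T : Subgroup G, T ≤ MulAction.stabilizer G α ∧ MulAction.stabilizer G α ≤ Subgroup.normalizer (T : Set G) ∧ Nat.card T = q ∧
        (∃ h : G, MulAction.stabilizer G α = T ⊔ Subgroup.zpowers h) ∧ Nat.card (MulAction.stabilizer G α) ∣ q * d := by
  classical
  haveI := hprim
  haveI := Fact.mk hp
  set H := MulAction.stabilizer G α with hHdef
  have hH1 : H ≠ ⊥ := hH α
  -- the regular normal elementary abelian subgroup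
  obtain ⟨ω, hω⟩ : ∃ x : Ω, x ≠ α := by
    by_contra h
    simp only [not_exists, not_not] at h
    apply hH1
    rw [Subgroup.eq_bot_iff_forall]
    exact fun g _ => FaithfulSMul.eq_of_smul_eq_smul (α := Ω) fun y => by rw [h (g • y), h ((1 : G) • y)]
  haveI : Nontrivial G := ⟨by
    obtain ⟨g, hg⟩ := MulAction.exists_smul_eq G α ω
    exact ⟨g, 1, fun h => hω (by rw [← hg, h, one_smul])⟩⟩
  obtain ⟨N, r, hNn, hN1, hr, hNr, hNc⟩ :=
    Cfsg.Agent.Spectrum.exists_normal_elementary_abelian (⊤ : Subgroup G) top_ne_bot inferInstance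
  haveI := hNn
  have hNtr : MulAction.IsPretransitive N Ω := Cfsg.Agent.ExtPrim.abelian_normal_transitive N hN1
  have hNsemi : ∀ n ∈ N, ∀ x : Ω, n • x = x → n = 1 := fun n hn x hx =>
    Cfsg.Agent.ExtPrim.abelian_normal_semiregular N hNc hN1 hn hx
  have hNreg : ∀ x : Ω, MulAction.stabilizer N x = ⊥ := fun x => (Subgroup.eq_bot_iff_forall _).mpr
    fun n hn => Subtype.ext (hNsemi n n.2 x hn)
  have hNcard : Nat.card N = p ^ d := by
    rw [← hcard, ← Nat.card_eq_fintype_card]
    refine Nat.card_congr (Equiv.ofBijective (fun n : N => n • α) ⟨fun a b hab => ?_, fun y => MulAction.exists_smul_eq N α y⟩)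
    have := (Subgroup.eq_bot_iff_forall _).mp (hNreg α) (b⁻¹ * a)
      (show (b⁻¹ * a) • α = α by rw [mul_smul]; exact inv_smul_eq_iff.mpr hab)
    exact (inv_mul_eq_one.mp this).symm
  have hd : 0 < d := by
    rcases Nat.eq_zero_or_pos d with rfl | h
    · have := N.one_lt_card_iff_ne_bot.mpr hN1
      rw [hNcard] at this; simp at this
    · exact h
  have hrp : r = p := by
    haveI := Fact.mk hr
    obtain ⟨k, hk⟩ := IsPGroup.iff_card.mp (fun a : N => ⟨1, Subtype.ext (by simpa using hNr a a.2)⟩ : IsPGroup r N)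
    rw [hNcard] at hk
    have hdvd : p ∣ r ^ k := hk ▸ dvd_pow_self p hd.ne'
    exact ((Nat.prime_dvd_prime_iff_eq hp hr).mp (hp.dvd_of_dvd_pow hdvd)).symm
  subst hrp
  -- the minimal normal subgroup of the stabilizer
  haveI : Nontrivial H := H.nontrivial_iff_ne_bot.mpr hH1
  haveI : Group.IsSolvable H := inferInstance
  obtain ⟨A, q, hAn, hA1, hq, hAq, hAc⟩ :=
    Cfsg.Agent.Spectrum.exists_normal_elementary_abelian (⊤ : Subgroup H) top_ne_bot inferInstance
  haveI := hAn
  haveI := Fact.mk hq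
  obtain ⟨hsemi, hsc, horb, hdvd⟩ :=
    Cfsg.Agent.ExtPrim.abelian_normal_of_stabilizer hprim α hH1 (hep α) A hAc hA1
  rw [hcard] at hdvd
  let cj : H → AddMonoid.End (Additive N) := fun h =>
    { toFun := fun a => Additive.ofMul ⟨(h : G) * ((Additive.toMul a : N) : G) * (h : G)⁻¹,
        hNn.conj_mem _ (Additive.toMul a : N).2 _⟩
      map_zero' := Additive.toMul.injective (Subtype.ext (by simp))
      map_add' := fun a b => Additive.toMul.injective (Subtype.ext (by simp [mul_assoc])) }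
  let ρ : H →* AddMonoid.End (Additive N) :=
    { toFun := cj
      map_one' := DFunLike.ext _ _ fun a => Additive.toMul.injective (Subtype.ext
        (show (1 : G) * ((Additive.toMul a : N) : G) * (1 : G)⁻¹ = ((Additive.toMul a : N) : G) by simp))
      map_mul' := fun g h => DFunLike.ext _ _ fun a => Additive.toMul.injective (Subtype.ext
        (show ((g : G) * h) * ((Additive.toMul a : N) : G) * ((g : G) * h)⁻¹ =
          (g : G) * ((h : G) * ((Additive.toMul a : N) : G) * (h : G)⁻¹) * (g : G)⁻¹ by simp [mul_assoc])) }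
  letI : AddCommGroup (Additive N) :=
    { add_comm := fun a b => Additive.toMul.injective
        (Subtype.ext (hNc _ (Additive.toMul a : N).2 _ (Additive.toMul b : N).2)) }
  have hρ : ∀ (h : H) (a : Additive N), ((Additive.toMul (ρ h a) : N) : G) =
      (h : G) * ((Additive.toMul a : N) : G) * (h : G)⁻¹ := fun h a => rfl
  have hpV : ∀ v : Additive N, r • v = 0 := fun v => by
    apply Additive.toMul.injective
    exact Subtype.ext (by simpa using hNr _ (Additive.toMul v : N).2)
  obtain ⟨n₀, hn₀⟩ := N.ne_bot_iff_exists_ne_one.mp hN1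
  have hfpf : ∀ a ∈ A, a ≠ 1 → ∀ v : Additive N, ρ a v = v → v = 0 := by
    intro a ha ha1 v hv
    have h1 := hρ a v
    rw [hv] at h1
    set n : G := ((Additive.toMul v : N) : G) with hn
    have hfix : (a : G) • n • α = n • α := by
      conv_rhs => rw [h1, mul_smul, mul_smul, inv_smul_eq_iff.mpr (MulAction.mem_stabilizer_iff.mp a.2).symm]
    have hnα : n • α = α := by
      by_contra hne
      exact ha1 (hsemi a ha _ hne hfix)
    apply Additive.toMul.injective
    exact Subtype.ext (hNsemi n (Additive.toMul v : N).2 α hnα)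
  obtain ⟨⟨t, htA⟩, ht1⟩ := A.ne_bot_iff_exists_ne_one.mp hA1
  have ht1' : t ≠ 1 := fun h => ht1 (Subtype.ext h)
  have htord : orderOf t = q := orderOf_eq_prime (hAq t htA) ht1'
  have hqdvd : q ∣ Nat.card A := by
    rw [← htord]; exact Subgroup.orderOf_dvd_natCard A htA
  have hqr : q ≠ r := by
    rintro rfl
    have h1 : q ∣ q ^ d - 1 := hqdvd.trans hdvd
    have h2 : q ∣ q ^ d := dvd_pow_self q hd.ne'
    have := Nat.dvd_sub h2 h1
    rw [Nat.sub_sub_self (Nat.one_le_pow _ _ hq.pos)] at this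
    exact hq.one_lt.ne' (Nat.dvd_one.mp this)
  have hAle : A ≤ Subgroup.zpowers t :=
    fpf_card ρ hq ((Nat.coprime_primes hq hp).mpr hqr) hpV
      (v₀ := Additive.ofMul n₀) (fun h => hn₀ (Additive.ofMul.injective h)) A hAc hAq hfpf htA ht1'
  have hAeq : A = Subgroup.zpowers t := le_antisymm hAle (Subgroup.zpowers_le.mpr htA)
  have hAcard : Nat.card A = q := by rw [hAeq, Nat.card_zpowers, htord]
  let T : Subgroup G := A.map H.subtype
  have hTH : T ≤ H := Subgroup.map_subtype_le A
  have hT1 : T ≠ ⊥ := by rwa [Ne, Subgroup.map_eq_bot_iff_of_injective _ H.subtype_injective]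
  have hHT : H ≤ Subgroup.normalizer (T : Set G) := by
    intro h hh
    rw [Subgroup.mem_normalizer_iff]
    intro a
    constructor
    · rintro ⟨x, hx, rfl⟩
      exact ⟨⟨h, hh⟩ * x * ⟨h, hh⟩⁻¹, hAn.conj_mem x hx _, rfl⟩
    · rintro ⟨x, hx, hxe⟩
      refine ⟨⟨h, hh⟩⁻¹ * x * ⟨h, hh⟩, ?_, ?_⟩
      · simpa using hAn.conj_mem x hx (⟨h, hh⟩⁻¹ : H)
      · simp only [Subgroup.subtype_apply] at hxe
        simp [hxe, mul_assoc]
  have hirr := (Cfsg.Agent.S3495.result hprim hH hep N
    ⟨⟨fun a b => Subtype.ext (hNc a a.2 b b.2)⟩⟩ r hp hNr hNtr hNreg α T hT1 hTH hHT).2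
  have hirr' : ∀ U : AddSubgroup (Additive N), (∀ v ∈ U, ρ t v ∈ U) → U = ⊥ ∨ U = ⊤ := by
    intro U hU
    let L : Subgroup G := (AddSubgroup.toSubgroup' U).map N.subtype
    have hLU : ∀ x : N, (x : G) ∈ L ↔ Additive.ofMul x ∈ U := fun x =>
      ⟨fun ⟨y, hy, hye⟩ => (Subtype.ext hye : y = x) ▸ hy, fun hx => ⟨x, hx, rfl⟩⟩
    have hone : ∀ l ∈ L, (t : G) * l * (t : G)⁻¹ ∈ L := by
      rintro _ ⟨x, hx, rfl⟩
      have h2 := hρ t (Additive.ofMul x)
      simp only [toMul_ofMul] at h2
      rw [Subgroup.subtype_apply, ← h2]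
      exact (hLU _).mpr (hU _ hx)
    have htn : (t : G) ∈ Subgroup.normalizer (L : Set G) := by
      have hmap : L.map (MulAut.conj (t : G)).toMonoidHom ≤ L := by
        rintro _ ⟨l, hl, rfl⟩
        simpa using hone l hl
      have hmeq : L.map (MulAut.conj (t : G)).toMonoidHom = L :=
        Subgroup.eq_of_le_of_card_ge hmap (Subgroup.card_map_of_injective (MulAut.conj (t : G)).injective).ge
      rw [Subgroup.mem_normalizer_iff]
      intro l
      refine ⟨hone l, fun hl => ?_⟩
      rw [← hmeq] at hl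
      obtain ⟨b, hb, hbe⟩ := hl
      have : b = l := by simpa using hbe
      exact this ▸ hb
    have hTL : T ≤ Subgroup.normalizer (L : Set G) := by
      rintro _ ⟨x, hx, rfl⟩
      obtain ⟨k, rfl⟩ := Subgroup.mem_zpowers_iff.mp (hAle hx)
      rw [map_zpow]
      exact zpow_mem htn k
    rcases hirr L (Subgroup.map_subtype_le _) hTL with h | h
    · left
      rw [AddSubgroup.eq_bot_iff_forall]
      intro v hv
      have h2 := (hLU (Additive.toMul v)).mpr hv
      rw [h, Subgroup.mem_bot] at h2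
      exact Additive.toMul.injective (Subtype.ext h2)
    · right
      refine top_unique fun v _ => (hLU (Additive.toMul v)).mp ?_
      rw [h]; exact (Additive.toMul v : N).2
  let D : Subgroup H := MulAction.stabilizer H ω
  obtain ⟨hord, hDcyc, hDcard⟩ := irreducible_facts ρ r d q
    (by rw [← hNcard]; exact Nat.card_congr Additive.toMul)
    hpV (v₀ := Additive.ofMul n₀) (fun h => hn₀ (Additive.ofMul.injective h)) t (hAq t htA) hirr' D
    (fun h _ => by
      have := hAle (hAn.conj_mem t htA h)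
      rw [← mem_powers_iff_mem_zpowers, Submonoid.mem_powers_iff] at this
      obtain ⟨n, hn⟩ := this
      exact ⟨n, hn.symm⟩)
    (fun h hh heq => by
      have hcomm : h * t * h⁻¹ = t := by
        by_contra hne
        obtain ⟨u, hu⟩ : ∃ u : H, u = t⁻¹ * (h * t * h⁻¹) := ⟨_, rfl⟩
        have huA : u ∈ A := hu ▸ mul_mem (inv_mem htA) (hAn.conj_mem t htA h)
        have hu1 : u ≠ 1 := by rw [hu]; exact fun he => hne (inv_mul_eq_one.mp he).symm
        have hfix : ρ u (Additive.ofMul n₀) = Additive.ofMul n₀ := by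
          rw [hu, map_mul, heq, ← map_mul, inv_mul_cancel, map_one]
          rfl
        exact hn₀ (Additive.ofMul.injective (hfpf u huA hu1 _ hfix))
      have hhA : h ∈ A := hsc h fun a ha => by
        obtain ⟨k, rfl⟩ := Subgroup.mem_zpowers_iff.mp (hAle ha)
        have : Commute h t := mul_inv_eq_iff_eq_mul.mp hcomm
        exact (this.zpow_right k).eq.symm
      exact hsemi h hhA ω hω hh)
  refine ⟨q, hq, fun x hx => (horb x hx).trans hAcard, hqdvd.trans hdvd,
    fun i hi hid hdiv => by have := hord i hi hdiv; omega, T, hTH, hHT, ?_, ?_, ?_⟩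
  · rw [Subgroup.card_map_of_injective H.subtype_injective, hAcard]
  · obtain ⟨g, hg⟩ := IsCyclic.exists_generator (α := D)
    refine ⟨((g : H) : G), le_antisymm ?_ (sup_le hTH (Subgroup.zpowers_le.mpr (g : H).2))⟩
    intro h hh
    haveI := Cfsg.Agent.ExtPrim.faithfulSMul_suborbit hprim α ω hω hH1 (hep α)
    haveI := hep α ω
    have htr := Cfsg.Agent.ExtPrim.abelian_normal_transitive (X := MulAction.orbit H ω) A hA1
    obtain ⟨⟨a, ha⟩, hae⟩ := @MulAction.exists_smul_eq A (MulAction.orbit H ω) _ htr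
      ⟨ω, MulAction.mem_orbit_self ω⟩ ((⟨h, hh⟩ : H) • ⟨ω, MulAction.mem_orbit_self ω⟩)
    have hae' : a • ω = (⟨h, hh⟩ : H) • ω := congrArg Subtype.val hae
    have hD : a⁻¹ * ⟨h, hh⟩ ∈ D := by
      rw [MulAction.mem_stabilizer_iff, mul_smul, ← hae', inv_smul_smul]
    obtain ⟨k, hk⟩ := Subgroup.mem_zpowers_iff.mp (hg ⟨_, hD⟩)
    have he : h = (a : G) * (((g : H) : G) ^ k) := by
      have h2 := congrArg (fun z : D => ((z : H) : G)) hk
      simp only [SubgroupClass.coe_zpow, Subgroup.coe_mul, Subgroup.coe_inv] at h2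
      rw [h2, mul_inv_cancel_left]
    rw [he]
    exact mul_mem (Subgroup.mem_sup_left ⟨a, ha, rfl⟩)
      (Subgroup.mem_sup_right (Subgroup.zpow_mem_zpowers _ k))
  · have h1 := Cfsg.Agent.ExtPrim.card_orbit_mul_card_stab (M := H) ω
    rw [← h1, horb ω hω, hAcard]
    exact mul_dvd_mul_left q hDcard

end Cfsg.Agent.S3496
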