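import Cfsg.Statements.S3497
import Cfsg.Agent.EqLemmas
import Cfsg.Agent.Lib.ExtPrim.Abelian

set_option autoImplicit false
open Cfsg

namespace Cfsg.Agent.S3497

/-- A linear action on a vector space of order `p ^ e` as a matrix representation. -/
theorem exists_rep {p : ℕ} [hp : Fact p.Prime] {V : Type*} [AddCommGroup V] [Module (ZMod p) V] [Finite V]
    (e : ℕ) (hcard : Nat.card V = p ^ e) {H : Type*} [Group H] (act : H → (V →+ V))
    (h1 : ∀ a, act 1 a = a) (hmul : ∀ g h a, act (g * h) a = act g (act h a)) :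
    ∃ φ : H →* GL (Fin e) (ZMod p), ∀ g, φ g = 1 ↔ ∀ a, act g a = a := by
  haveI : Module.Finite (ZMod p) V := Module.Finite.of_finite
  have hrank : Module.finrank (ZMod p) V = e := by
    have h := Module.natCard_eq_pow_finrank (K := ZMod p) (V := V)
    rw [Nat.card_zmod, hcard] at h
    exact (Nat.pow_right_injective hp.out.two_le h).symm
  let b : Module.Basis (Fin e) (ZMod p) V := Module.finBasisOfFinrankEq (ZMod p) V hrank
  let ρ : H →* (V →ₗ[ZMod p] V) :=
    { toFun := fun h => (act h).toZModLinearMap p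
      map_one' := LinearMap.ext fun a => h1 a
      map_mul' := fun g h => LinearMap.ext fun a => hmul g h a }
  let μ : (V →ₗ[ZMod p] V) →* Matrix (Fin e) (Fin e) (ZMod p) :=
    { toFun := LinearMap.toMatrixAlgEquiv b
      map_one' := map_one (LinearMap.toMatrixAlgEquiv b)
      map_mul' := map_mul (LinearMap.toMatrixAlgEquiv b) }
  refine ⟨(μ.comp ρ).toHomUnits, fun g => ?_⟩
  rw [Units.ext_iff, MonoidHom.coe_toHomUnits, Units.val_one]
  constructor
  · intro hh a
    have : ρ g = 1 := (LinearMap.toMatrixAlgEquiv b).injective (hh.trans (map_one _).symm)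
    exact LinearMap.congr_fun this a
  · intro hh
    have : ρ g = 1 := LinearMap.ext fun a => hh a
    show μ (ρ g) = 1
    rw [this, map_one]


/-- Restrictions on the point stabilizer of an extremely primitive group. Let a finite group G act faithfully and primitively on a finite set Ω with point stabilizers H = G_α whose order is neither 1 nor a prime, each acting primitively on every one of its orbits. Then H has trivial center, the Fitting subgroup F(H) is an elementary abelian p-group for some prime p, and if F(H) ≠ 1 has order p ^ e then p ^ e divides the number of points minus one and H / F(H) embeds in GL_e(p) (there is a homomorphism from H to GL_e(p) with kernel exactly F(H)). -/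
theorem result {G : Type*} [Group G] [Finite G] {Ω : Type*} [Fintype Ω] [MulAction G Ω] [FaithfulSMul G Ω] (hprim : MulAction.IsPreprimitive G Ω) (hep : ∀ (α : Ω) (ω : Ω), MulAction.IsPreprimitive (MulAction.stabilizer G α) (MulAction.orbit (MulAction.stabilizer G α) ω)) (α : Ω)
    (hH1 : MulAction.stabilizer G α ≠ ⊥) (hHp : ¬ (Nat.card (MulAction.stabilizer G α)).Prime) :
    Subgroup.center (MulAction.stabilizer G α) = ⊥ ∧
    IsMulCommutative (Cfsg.fittingSubgroup (MulAction.stabilizer G α)) ∧
    ∃ p e : ℕ, p.Prime ∧ Nat.card (Cfsg.fittingSubgroup (MulAction.stabilizer G α)) = p ^ e ∧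
      (∀ x ∈ Cfsg.fittingSubgroup (MulAction.stabilizer G α), x ^ p = 1) ∧
      (Cfsg.fittingSubgroup (MulAction.stabilizer G α) ≠ ⊥ →
        p ^ e ∣ Fintype.card Ω - 1 ∧
        ∃ φ : MulAction.stabilizer G α →* GL (Fin e) (ZMod p), φ.ker = Cfsg.fittingSubgroup (MulAction.stabilizer G α)) := by
  classical
  haveI := hprim
  set H := MulAction.stabilizer G α with hHdef
  have hz : Subgroup.center H = ⊥ := by
    by_contra hZ
    have hcZ : ∀ a ∈ Subgroup.center H, ∀ b ∈ Subgroup.center H, a * b = b * a :=
      fun a ha b _ => (Subgroup.mem_center_iff.mp ha b).symm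
    have hsc := (Cfsg.Agent.ExtPrim.abelian_normal_of_stabilizer hprim α hH1 (hep α) _ hcZ hZ).2.1
    have habs : ∀ a b : H, a * b = b * a := fun a b =>
      (Subgroup.mem_center_iff.mp (hsc a fun z hz => (Subgroup.mem_center_iff.mp hz a).symm) b).symm
    obtain ⟨p, hp, hpd⟩ := Nat.exists_prime_and_dvd ((MulAction.stabilizer G α).one_lt_card_iff_ne_bot.mpr hH1).ne'
    haveI := Fact.mk hp
    obtain ⟨x, hx⟩ := exists_prime_orderOf_dvd_card' (G := H) p hpd
    haveI : (Subgroup.zpowers x).Normal := ⟨fun a ha g => by rw [habs g a, mul_inv_cancel_right]; exact ha⟩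
    have hx1 : Subgroup.zpowers x ≠ ⊥ := by
      rw [Ne, Subgroup.zpowers_eq_bot]
      rintro rfl
      rw [orderOf_one] at hx
      exact hp.one_lt.ne hx
    have hsx := (Cfsg.Agent.ExtPrim.abelian_normal_of_stabilizer hprim α hH1 (hep α) _
      (fun a _ b _ => habs a b) hx1).2.1
    have htop : Subgroup.zpowers x = ⊤ := top_unique fun g _ => hsx g fun a _ => habs a g
    apply hHp
    rw [← Subgroup.card_top (G := H), ← htop, Nat.card_zpowers, hx]
    exact hp
  refine ⟨hz, ?_⟩
  by_cases hF : fittingSubgroup H = ⊥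
  · refine ⟨⟨⟨fun a b => Subtype.ext ?_⟩⟩, 2, 0, Nat.prime_two, ?_, ?_, fun h => absurd hF h⟩
    · have ha : (a : H) = 1 := by simpa [hF] using a.2
      have hb : (b : H) = 1 := by simpa [hF] using b.2
      simp [ha, hb]
    · rw [hF, Subgroup.card_bot, pow_zero]
    · intro x hx
      rw [hF, Subgroup.mem_bot] at hx
      rw [hx, one_pow]
  obtain ⟨N, hNn, hNnil, hN1⟩ : ∃ N : Subgroup H, N.Normal ∧ Group.IsNilpotent N ∧ N ≠ ⊥ := by
    by_contra hcon
    apply hF
    rw [fittingSubgroup, sSup_eq_bot]
    exact fun N hN => by_contra fun h => hcon ⟨N, hN.1, hN.2, h⟩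
  haveI := hNn
  haveI := hNnil
  let A : Subgroup H := (Subgroup.center N).map N.subtype
  haveI hAn : A.Normal := inferInstanceAs ((Subgroup.center N).map N.subtype).Normal
  have hA1 : A ≠ ⊥ := by
    rw [Ne, Subgroup.map_eq_bot_iff_of_injective _ N.subtype_injective]
    haveI : Nontrivial N := N.nontrivial_iff_ne_bot.mpr hN1
    exact Group.IsNilpotent.center_ne_bot _
  have hcA : ∀ a ∈ A, ∀ b ∈ A, a * b = b * a := by
    rintro _ ⟨a, ha, rfl⟩ _ ⟨b, _, rfl⟩
    exact (congrArg Subtype.val (Subgroup.mem_center_iff.mp ha b)).symm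
  have hAnil : Group.IsNilpotent A := by
    letI : CommGroup A := { mul_comm := fun a b => Subtype.ext (hcA a a.2 b b.2) }
    infer_instance
  obtain ⟨hsemi, hsc, horb, hdvd⟩ := Cfsg.Agent.ExtPrim.abelian_normal_of_stabilizer hprim α hH1 (hep α) A hcA hA1
  obtain ⟨x, hx⟩ : ∃ x : Ω, x ≠ α := by
    by_contra h
    simp only [not_exists, not_not] at h
    apply hH1
    rw [Subgroup.eq_bot_iff_forall]
    exact fun g _ => FaithfulSMul.eq_of_smul_eq_smul (α := Ω) fun y => by rw [h (g • y), h ((1 : G) • y)]
  have hFA : fittingSubgroup H = A := by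
    apply le_antisymm
    · refine sSup_le fun M hM => ?_
      haveI := Cfsg.Agent.ExtPrim.faithfulSMul_suborbit hprim α x hx hH1 (hep α)
      haveI := hep α x
      haveI := hM.1
      haveI := hM.2
      exact Cfsg.Agent.ExtPrim.nilpotent_normal_le
        (⟨x, MulAction.mem_orbit_self x⟩ : MulAction.orbit H x) A M hcA hA1
    · exact le_sSup ⟨hAn, hAnil⟩
  obtain ⟨p, e, hp, he, hcard, hexp⟩ := Cfsg.Agent.ExtPrim.abelian_normal_exponent hprim α hH1 (hep α) A hcA hA1
  rw [hFA]
  refine ⟨⟨⟨fun a b => Subtype.ext (hcA a a.2 b b.2)⟩⟩, p, e, hp, hcard, hexp, fun _ => ⟨hcard ▸ hdvd, ?_⟩⟩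
  haveI := Fact.mk hp
  letI : CommGroup A := { mul_comm := fun a b => Subtype.ext (hcA a a.2 b b.2) }
  letI : Module (ZMod p) (Additive A) := AddCommGroup.zmodModule (fun a => by
    apply Additive.toMul.injective
    exact Subtype.ext (by simpa using hexp (Additive.toMul a : A) (Additive.toMul a : A).2))
  obtain ⟨φ, hφ⟩ := exists_rep (p := p) (V := Additive A) e
    (by rw [← hcard]; exact Nat.card_congr Additive.toMul)
    (fun h : H => (MulAut.conjNormal h : MulAut A).toMonoidHom.toAdditive)
    (by
      intro a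
      apply Additive.toMul.injective
      exact Subtype.ext (by simp))
    (by
      intro g h a
      apply Additive.toMul.injective
      exact Subtype.ext (by simp [mul_assoc]))
  refine ⟨φ, ?_⟩
  ext g
  rw [MonoidHom.mem_ker, hφ]
  constructor
  · intro hg
    refine hsc g fun a ha => ?_
    have := congrArg (fun z : Additive A => ((Additive.toMul z : A) : H)) (hg (Additive.ofMul ⟨a, ha⟩))
    simp at this
    rw [mul_inv_eq_iff_eq_mul] at this
    exact this.symm
  · intro hg a
    apply Additive.toMul.injective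
    apply Subtype.ext
    simp [hcA g hg (Additive.toMul a : A) (Additive.toMul a : A).2]

end Cfsg.Agent.S3497
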