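import Cfsg.Statements.S3498
import Cfsg.Agent.EqLemmas

set_option autoImplicit false
open Cfsg

namespace Cfsg.Agent.S3498

/-- A maximal subgroup of a finite almost simple group does not have prime order. Here G is almost simple in the sense that it has a non-abelian simple normal subgroup T with trivial centralizer. -/
theorem result {G : Type*} [Group G] [Finite G] (T : Subgroup G) [T.Normal] (hT : IsSimpleGroup T) (hTc : ¬ IsMulCommutative T)
    (hC : Subgroup.centralizer (T : Set G) = ⊥) (H : Subgroup G) (hmax : IsCoatom H) : ¬ (Nat.card H).Prime := by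
  classical
  intro hp
  set p := Nat.card H with hpdef
  haveI := Fact.mk hp
  haveI := hT
  have hT1 : T ≠ ⊥ := T.nontrivial_iff_ne_bot.mp inferInstance
  have hHcomm : ∀ a ∈ H, ∀ b ∈ H, a * b = b * a := by
    intro a ha b hb
    haveI : IsCyclic H := isCyclic_of_prime_card hpdef.symm
    letI := IsCyclic.commGroup (α := H)
    exact congrArg Subtype.val (mul_comm (⟨a, ha⟩ : H) ⟨b, hb⟩)
  have hnorm : Subgroup.normalizer (H : Set G) = H := by
    rcases hmax.le_iff.mp (Subgroup.le_normalizer (H := H)) with h | h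
    · exfalso
      haveI hHn : H.Normal := Subgroup.normalizer_eq_top_iff.mp h
      haveI : (H.subgroupOf T).Normal := inferInstance
      rcases IsSimpleGroup.eq_bot_or_eq_top_of_normal (H.subgroupOf T) inferInstance with h0 | h0
      · rw [Subgroup.subgroupOf_eq_bot] at h0
        have hle : H ≤ Subgroup.centralizer (T : Set G) := fun a ha =>
          Subgroup.mem_centralizer_iff.mpr fun b hb =>
            (Subgroup.commute_of_normal_of_disjoint H T inferInstance inferInstance h0 a b ha hb).symm
        rw [hC, le_bot_iff] at hle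
        rw [hpdef, hle, Subgroup.card_bot] at hp
        exact Nat.not_prime_one hp
      · rw [Subgroup.subgroupOf_eq_top] at h0
        exact hTc ⟨⟨fun a b => Subtype.ext (hHcomm a (h0 a.2) b (h0 b.2))⟩⟩
    · exact h
  -- H is a Sylow subgroup
  have hHp : IsPGroup p H := IsPGroup.of_card (n := 1) (by rw [pow_one])
  obtain ⟨P, hP⟩ := hHp.exists_le_sylow
  have hPH : (P : Subgroup G) = H := by
    refine le_antisymm ?_ hP
    by_contra hne
    haveI : Group.IsNilpotent P := P.isPGroup'.isNilpotent
    have hlt : H.subgroupOf P < ⊤ := lt_top_iff_ne_top.mpr (by rwa [Ne, Subgroup.subgroupOf_eq_top])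
    have hlt2 := normalizerCondition_of_isNilpotent (G := P) _ hlt
    obtain ⟨x, hx1, hx2⟩ := SetLike.exists_of_lt hlt2
    apply hx2
    rw [Subgroup.mem_subgroupOf, ← hnorm, Subgroup.mem_normalizer_iff]
    intro a
    constructor
    · intro ha
      have := (Subgroup.mem_normalizer_iff.mp hx1 ⟨a, hP ha⟩).mp ha
      simpa [Subgroup.mem_subgroupOf] using this
    · intro ha
      have haP : a ∈ (P : Subgroup G) := by
        have h1 := mul_mem (mul_mem (inv_mem x.2) (hP ha)) x.2
        simpa [mul_assoc] using h1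
      exact (Subgroup.mem_normalizer_iff.mp hx1 ⟨a, haP⟩).mpr (by simpa [Subgroup.mem_subgroupOf] using ha)
  have hcard : Nat.card P = p := by rw [show Nat.card P = Nat.card (P : Subgroup G) from rfl, hPH]
  have hPC : Subgroup.normalizer ((P : Subgroup G) : Set G) ≤ Subgroup.centralizer ((P : Subgroup G) : Set G) := by
    rw [hPH, hnorm]
    intro a ha
    exact Subgroup.mem_centralizer_iff.mpr fun b hb => hHcomm b hb a ha
  set M := (MonoidHom.transferSylow P hPC).ker with hMdef
  have hMP : Subgroup.IsComplement' M P := MonoidHom.ker_transferSylow_isComplement' P hPC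
  have hMcard : Nat.card M * p = Nat.card G := by rw [← hcard]; exact hMP.card_mul
  have hMp : ¬ p ∣ Nat.card M := MonoidHom.not_dvd_card_ker_transferSylow P hPC
  have hTM : T ≤ M := by
    rcases IsSimpleGroup.eq_bot_or_eq_top_of_normal (M.subgroupOf T) inferInstance with h0 | h0
    · exfalso
      refine hTc ⟨⟨fun a b => ?_⟩⟩
      have hab : ((a * b * a⁻¹ * b⁻¹ : T) : G) ∈ M := by
        rw [hMdef, MonoidHom.mem_ker]
        push_cast
        rw [map_mul, map_mul, map_mul, map_inv, map_inv]
        apply Subtype.ext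
        have hcm := hHcomm _ (le_of_eq hPH (MonoidHom.transferSylow P hPC (a : G)).2) _
          (le_of_eq hPH (MonoidHom.transferSylow P hPC (b : G)).2)
        push_cast
        rw [hcm]
        group
      have : (a * b * a⁻¹ * b⁻¹ : T) ∈ M.subgroupOf T := hab
      rw [h0, Subgroup.mem_bot, mul_inv_eq_one, mul_inv_eq_iff_eq_mul] at this
      exact this
    · rwa [Subgroup.subgroupOf_eq_top] at h0
  have hM1 : M ≠ ⊥ := fun h => hT1 (le_bot_iff.mp (h ▸ hTM))
  obtain ⟨r, hr, hrd⟩ := Nat.exists_prime_and_dvd (M.one_lt_card_iff_ne_bot.mpr hM1).ne'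
  haveI := Fact.mk hr
  obtain ⟨R⟩ := (inferInstance : Nonempty (Sylow r M))
  set R' : Subgroup G := (R : Subgroup M).map M.subtype with hR'
  have hfr : Subgroup.normalizer (R' : Set G) ⊔ M = ⊤ := Sylow.normalizer_sup_eq_top R
  have hpN : p ∣ Nat.card (Subgroup.normalizer (R' : Set G)) := by
    by_contra hcon
    have hdvd : p ∣ Nat.card (Subgroup.normalizer (R' : Set G)) * Nat.card M := by
      have h2 : Nat.card G ∣ Nat.card (Subgroup.normalizer (R' : Set G)) * Nat.card M := by
        have h4 := M.relIndex_sup_right (H := Subgroup.normalizer (R' : Set G))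
        rw [hfr, Subgroup.relIndex_top_right] at h4
        have h5 : M.index ∣ Nat.card (Subgroup.normalizer (R' : Set G)) := h4 ▸ Subgroup.relIndex_dvd_card ..
        rw [← M.card_mul_index, mul_comm]
        exact mul_dvd_mul_right h5 _
      exact (dvd_trans ⟨Nat.card M, by rw [← hMcard, mul_comm]⟩ h2)
    rcases hp.dvd_mul.mp hdvd with h | h
    · exact hcon h
    · exact hMp h
  obtain ⟨y, hy⟩ := exists_prime_orderOf_dvd_card' (G := Subgroup.normalizer (R' : Set G)) p hpN
  -- the subgroup generated by y is a conjugate of H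
  set H' := Subgroup.zpowers (y : G) with hH'
  have hH'card : Nat.card H' = p := by rw [hH', Nat.card_zpowers, Subgroup.orderOf_coe, hy]
  obtain ⟨Q, hQ⟩ := (IsPGroup.of_card (n := 1) (by rw [hH'card, pow_one]) : IsPGroup p H').exists_le_sylow
  obtain ⟨g, hg⟩ := MulAction.exists_smul_eq G P Q
  have hQeq : (Q : Subgroup G) = H.map (MulAut.conj g).toMonoidHom := by
    rw [← hPH, ← hg]; rfl
  have hH'eq : H' = H.map (MulAut.conj g).toMonoidHom := by
    rw [← hQeq]
    refine Subgroup.eq_of_le_of_card_ge hQ (le_of_eq ?_)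
    rw [hQeq, hH'card, hpdef]
    exact Subgroup.card_map_of_injective (MulAut.conj g).injective
  have hco' : IsCoatom H' := by
    rw [hH'eq]
    exact ((MulAut.conj g).mapSubgroup.isCoatom_iff H).mpr hmax
  have hR1 : R' ≠ ⊥ := by
    rw [hR', Ne, Subgroup.map_eq_bot_iff_of_injective _ M.subtype_injective]
    intro h0
    have := R.dvd_card_of_dvd_card hrd
    rw [h0, Subgroup.card_bot] at this
    exact hr.not_dvd_one this
  have hRcard : Nat.card R' = Nat.card R := Subgroup.card_map_of_injective M.subtype_injective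
  have hRM : R' ≤ M := Subgroup.map_subtype_le _
  have hRH : ¬ R' ≤ H' := by
    intro hle
    have h1 : Nat.card R' ∣ p := hH'card ▸ Subgroup.card_dvd_of_le hle
    rcases (Nat.dvd_prime hp).mp h1 with h | h
    · exact hR1 (Subgroup.card_eq_one.mp h)
    · exact hMp (h ▸ Subgroup.card_dvd_of_le hRM)
  have htop : H' ⊔ R' = ⊤ := by
    rcases hco'.le_iff.mp (le_sup_left : H' ≤ H' ⊔ R') with h | h
    · exact h
    · exact absurd (h ▸ (le_sup_right : R' ≤ H' ⊔ R')) hRH
  haveI hRn : R'.Normal := by
    rw [← Subgroup.normalizer_eq_top_iff]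
    refine top_unique (htop ▸ sup_le ?_ Subgroup.le_normalizer)
    rw [hH', Subgroup.zpowers_le]
    exact y.2
  have hMR : M = R' := by
    refine (Subgroup.eq_of_le_of_card_ge hRM ?_).symm
    have h4 := R'.relIndex_sup_right (H := H')
    rw [htop, Subgroup.relIndex_top_right] at h4
    have h5 : R'.index ∣ p := by rw [h4, ← hH'card]; exact Subgroup.relIndex_dvd_card ..
    have h6 : Nat.card G ≤ Nat.card R' * p := by
      rw [← R'.card_mul_index]; exact Nat.mul_le_mul_left _ (Nat.le_of_dvd hp.pos h5)
    rw [← hMcard] at h6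
    exact Nat.le_of_mul_le_mul_right h6 hp.pos
  have hRp : IsPGroup r R' := R.isPGroup'.map _
  haveI : Group.IsNilpotent R' := hRp.isNilpotent
  have hTR : T ≤ R' := hMR ▸ hTM
  haveI : Group.IsSolvable R' := inferInstance
  have hsol : Group.IsSolvable T :=
    Group.isSolvable_of_isSolvable_injective (Subgroup.inclusion_injective hTR)
  exact hTc ⟨⟨IsSimpleGroup.comm_iff_isSolvable.mpr hsol⟩⟩

end Cfsg.Agent.S3498
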