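import Cfsg.Statements.S3501
import Cfsg.Agent.EqLemmas
import Cfsg.Agent.Lib.DerangeClass.Basic
-- import your own Cfsg.Agent.* helpers here

set_option autoImplicit false
open Cfsg

namespace Cfsg.Agent.S3501

open MulAction

theorem transitive_of_normal {G Ω : Type*} [Group G] [MulAction G Ω] [FaithfulSMul G Ω]
    [IsPreprimitive G Ω] (N : Subgroup G) [N.Normal] (hN : N ≠ ⊥) : IsPretransitive N Ω := by
  refine IsQuasiPreprimitive.isPretransitive_of_normal (G := G) fun h => hN ?_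
  rw [Subgroup.eq_bot_iff_forall]
  intro n hn
  refine FaithfulSMul.eq_of_smul_eq_smul (α := Ω) fun a => ?_
  rw [one_smul]
  exact (Set.ext_iff.1 h a).2 trivial ⟨n, hn⟩

theorem one_class_iff {G Ω : Type*} [Group G] [MulAction G Ω] :
    Nat.card {c : ConjClasses G // ∃ g : G, ConjClasses.mk g = c ∧ ∀ ω : Ω, g • ω ≠ ω} = 1 ↔
      ∃ d : G, (∀ ω : Ω, d • ω ≠ ω) ∧ ∀ d' : G, (∀ ω : Ω, d' • ω ≠ ω) → IsConj d d' := by
  rw [Nat.card_eq_one_iff_unique]
  constructor
  · rintro ⟨hsub, ⟨⟨c, g, rfl, hg⟩⟩⟩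
    refine ⟨g, hg, fun d' hd' => ConjClasses.mk_eq_mk_iff_isConj.1 ?_⟩
    exact congrArg Subtype.val (hsub.elim ⟨_, g, rfl, hg⟩ ⟨_, d', rfl, hd'⟩)
  · rintro ⟨d, hd, hall⟩
    refine ⟨⟨fun x y => Subtype.ext ?_⟩, ⟨⟨_, d, rfl, hd⟩⟩⟩
    obtain ⟨x, g, rfl, hg⟩ := x
    obtain ⟨y, g', rfl, hg'⟩ := y
    exact ConjClasses.mk_eq_mk_iff_isConj.2 ((hall g hg).symm.trans (hall g' hg'))

/-- Let a finite group G act faithfully and primitively on a finite set Ω with at least two points, and suppose G is not almost simple (it has no non-abelian simple normal subgroup with trivial centralizer). Then the derangements of G form a single conjugacy class if and only if G is sharply 2-transitive (2-transitive, and no non-identity element fixes two points). -/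
theorem result {G : Type*} [Group G] [Finite G] {Ω : Type*} [Fintype Ω] [MulAction G Ω] [FaithfulSMul G Ω] (hΩ : 2 ≤ Fintype.card Ω) (hprim : MulAction.IsPreprimitive G Ω) (hnas : ¬ ∃ T : Subgroup G, T.Normal ∧ IsSimpleGroup T ∧ ¬ IsMulCommutative T ∧ Subgroup.centralizer (T : Set G) = ⊥) :
    Nat.card {c : ConjClasses G // ∃ g : G, ConjClasses.mk g = c ∧ ∀ ω : Ω, g • ω ≠ ω} = 1 ↔ (MulAction.IsMultiplyPretransitive G Ω 2 ∧ ∀ g : G, g ≠ 1 → ∀ a b : Ω, a ≠ b → g • a = a → g • b ≠ b) := by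
  classical
  haveI : Nontrivial Ω := Fintype.one_lt_card_iff_nontrivial.1 (by omega)
  haveI := hprim
  rw [one_class_iff]
  constructor
  · rintro ⟨d, hd, hall⟩
    have h1 : ∀ a b : G, (∀ ω : Ω, a • ω ≠ ω) → (∀ ω : Ω, b • ω ≠ ω) → IsConj a b :=
      fun a b ha hb => (hall a ha).symm.trans (hall b hb)
    have hd1 : d ≠ 1 := fun h => hd (Classical.arbitrary Ω) (by rw [h, one_smul])
    haveI : Nontrivial G := ⟨d, 1, hd1⟩
    obtain ⟨N, ⟨hNn, hN0⟩, hNle⟩ := (Set.toFinite {N : Subgroup G | N.Normal ∧ N ≠ ⊥}).exists_minimal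
      ⟨⊤, inferInstance, top_ne_bot⟩
    have hmin : ∀ M : Subgroup G, M.Normal → M ≤ N → M = ⊥ ∨ M = N := fun M hM hMN =>
      or_iff_not_imp_left.2 fun h => le_antisymm hMN (hNle ⟨hM, h⟩ hMN)
    haveI := hNn
    haveI := transitive_of_normal (Ω := Ω) N hN0
    by_cases hab : ∀ x ∈ N, ∀ y ∈ N, x * y = y * x
    · exact DerangeClass.sharp_of_abelian N hab h1
    exfalso
    have hCN : Subgroup.centralizer (N : Set G) = ⊥ := by
      by_contra hC
      haveI : (Subgroup.centralizer (N : Set G)).Normal := Subgroup.normal_centralizer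
      rcases hmin (Subgroup.centralizer (N : Set G) ⊓ N) (Subgroup.normal_inf_normal _ _) inf_le_right
        with h | h
      · haveI := transitive_of_normal (Ω := Ω) _ hC
        have h2 : d ∈ (⊥ : Subgroup G) :=
          h ▸ ⟨DerangeClass.mem_of_one_class _ h1 hd, DerangeClass.mem_of_one_class N h1 hd⟩
        exact hd1 (Subgroup.mem_bot.1 h2)
      · exact hab fun x hx y hy => Subgroup.mem_centralizer_iff.1 (h.ge hy).1 x hx
    exact DerangeClass.false_of_nonabelian N hmin hN0 hab hnas hCN h1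
  · rintro ⟨h2, hsharp⟩
    exact DerangeClass.sharp_one_class h2 hsharp

end Cfsg.Agent.S3501
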