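import Cfsg.Statements.S3504
import Cfsg.Agent.EqLemmas

set_option autoImplicit false
open Cfsg

namespace Cfsg.Agent.S3504

theorem card_classes (n : ℕ) (hn : 5 ≤ n) :
    Nat.card {c : ConjClasses (Equiv.Perm (Fin n)) // ∃ g : Equiv.Perm (Fin n), ConjClasses.mk g = c ∧ (orderOf g).Prime ∧ ∀ i : Fin n, g i ≠ i} =
      n.primeFactors.card := by
  classical
  have hex : ∀ p ∈ n.primeFactors, ∃ g : Equiv.Perm (Fin n), g.cycleType = Multiset.replicate (n / p) p ∧
      orderOf g = p ∧ ∀ i, g i ≠ i := by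
    intro p hp
    obtain ⟨hpp, hpn, -⟩ := Nat.mem_primeFactors.mp hp
    obtain ⟨g, hg⟩ := (Equiv.Perm.exists_with_cycleType_iff (α := Fin n) (m := Multiset.replicate (n / p) p)).mpr
      ⟨by simp [Nat.div_mul_cancel hpn],
        fun a ha => (Multiset.eq_of_mem_replicate ha) ▸ hpp.two_le⟩
    refine ⟨g, hg, ?_, fun i => ?_⟩
    · rw [← Equiv.Perm.lcm_cycleType, hg]
      have : n / p ≠ 0 := (Nat.div_pos (Nat.le_of_dvd (by omega) hpn) hpp.pos).ne'
      obtain ⟨k, hk⟩ := Nat.exists_eq_succ_of_ne_zero this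
      rw [hk]
      clear hk this
      induction k with
      | zero => simp
      | succ k ih => rw [Multiset.replicate_succ, Multiset.lcm_cons, ih]; simp
    · have : g.support.card = Fintype.card (Fin n) := by
        rw [← Equiv.Perm.sum_cycleType, hg, Multiset.sum_replicate, smul_eq_mul, Nat.div_mul_cancel hpn, Fintype.card_fin]
      rw [← Equiv.Perm.mem_support, Finset.card_eq_iff_eq_univ _ |>.mp this]
      exact Finset.mem_univ i
  choose g hgc hgo hgf using hex
  rw [← Nat.card_eq_finsetCard]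
  symm
  refine Nat.card_congr (Equiv.ofBijective
    (fun p : n.primeFactors => (⟨ConjClasses.mk (g p.1 p.2), g p.1 p.2, rfl, (hgo p.1 p.2).symm ▸ Nat.prime_of_mem_primeFactors p.2,
      hgf p.1 p.2⟩ : {c : ConjClasses (Equiv.Perm (Fin n)) // ∃ g : Equiv.Perm (Fin n), ConjClasses.mk g = c ∧ (orderOf g).Prime ∧ ∀ i : Fin n, g i ≠ i}))
    ⟨fun p q h => ?_, ?_⟩)
  · have hc := ConjClasses.mk_eq_mk_iff_isConj.mp (congrArg Subtype.val h)
    have := Equiv.Perm.isConj_iff_cycleType_eq.mp hc
    apply Subtype.ext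
    rw [← hgo p.1 p.2, ← hgo q.1 q.2, ← Equiv.Perm.lcm_cycleType, ← Equiv.Perm.lcm_cycleType, this]
  · rintro ⟨c, x, rfl, hx, hfix⟩
    set p := orderOf x with hp
    haveI := Fact.mk hx
    have hsupp : x.support = Finset.univ := Finset.eq_univ_of_forall fun i => Equiv.Perm.mem_support.mpr (hfix i)
    have hall : ∀ a ∈ x.cycleType, a = p := fun a ha =>
      ((Nat.dvd_prime hx).mp (Equiv.Perm.dvd_of_mem_cycleType ha)).resolve_left
        (Nat.ne_of_gt (Equiv.Perm.two_le_of_mem_cycleType ha))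
    have hsum : x.cycleType.card * p = n := by
      have h1 := Equiv.Perm.sum_cycleType x
      rw [Multiset.eq_replicate_card.mpr hall, Multiset.sum_replicate, hsupp, Finset.card_univ, Fintype.card_fin,
        smul_eq_mul] at h1
      exact h1
    have hpd : p ∈ n.primeFactors := Nat.mem_primeFactors.mpr ⟨hx, Dvd.intro_left _ hsum, by omega⟩
    refine ⟨⟨p, hpd⟩, Subtype.ext (ConjClasses.mk_eq_mk_iff_isConj.mpr (Equiv.Perm.isConj_iff_cycleType_eq.mpr ?_))⟩
    have hq : n / p = x.cycleType.card := Nat.div_eq_of_eq_mul_left hx.pos hsum.symm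
    rw [hgc p hpd, hq]
    exact (Multiset.eq_replicate_card.mpr hall).symm


/-- For n ≥ 5, the fixed-point-free permutations of prime order in the symmetric group of degree n form a single conjugacy class if and only if n is a prime power. -/
theorem result (n : ℕ) (hn : 5 ≤ n) :
    Nat.card {c : ConjClasses (Equiv.Perm (Fin n)) // ∃ g : Equiv.Perm (Fin n), ConjClasses.mk g = c ∧ (orderOf g).Prime ∧ ∀ i : Fin n, g i ≠ i} = 1 ↔ IsPrimePow n := by
  classical
  rw [isPrimePow_iff_card_primeFactors_eq_one, ← card_classes n hn]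

end Cfsg.Agent.S3504
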