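import Cfsg.Statements.S3508
import Cfsg.Agent.EqLemmas

set_option autoImplicit false
open Cfsg

namespace Cfsg.Agent.S3508

theorem nilpotent_pow_eq_zero {V : Type*} [AddCommGroup V] [Finite V] (p m : ℕ) (hp : p.Prime)
    (hcard : Nat.card V = p ^ m) (D : AddMonoid.End V) (hD : IsNilpotent D) : D ^ m = 0 := by
  obtain ⟨t, ht⟩ := hD
  let R : ℕ → AddSubgroup V := fun i => (D ^ i : AddMonoid.End V).range
  have hR0 : R 0 = ⊤ := top_unique fun v _ => ⟨v, by simp; rfl⟩
  have hstep : ∀ i, R (i + 1) = (R i).map D := by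
    intro i
    ext v
    constructor
    · rintro ⟨u, rfl⟩
      exact ⟨(D ^ i : AddMonoid.End V) u, ⟨u, rfl⟩, by rw [pow_succ']; rfl⟩
    · rintro ⟨_, ⟨u, rfl⟩, rfl⟩
      exact ⟨u, by rw [pow_succ']; rfl⟩
  have hle : ∀ i, R (i + 1) ≤ R i := by
    rintro i _ ⟨u, rfl⟩
    exact ⟨D u, by rw [pow_succ]; rfl⟩
  have key : ∀ i, R i = ⊥ ∨ Nat.card (R i) ∣ p ^ (m - i) ∧ i ≤ m := by
    intro i
    induction i with
    | zero => right; rw [hR0, AddSubgroup.card_top, hcard]; exact ⟨dvd_rfl, Nat.zero_le m⟩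
    | succ i ih =>
      rcases ih with h | ⟨hd, him⟩
      · left; rw [hstep, h]; exact AddSubgroup.map_bot _
      · by_cases hb : R (i + 1) = ⊥
        · exact Or.inl hb
        right
        obtain ⟨a, ha, hca⟩ := (Nat.dvd_prime_pow hp).mp hd
        obtain ⟨b, hb', hcb⟩ := (Nat.dvd_prime_pow hp).mp
          (((AddSubgroup.card_dvd_of_le (hle i)).trans hd))
        have hne : Nat.card (R (i + 1)) ≠ Nat.card (R i) := by
          intro he
          have heq : R (i + 1) = R i := AddSubgroup.eq_of_le_of_card_ge (hle i) he.ge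
          have hconst : ∀ j, R (i + j) = R i := by
            intro j
            induction j with
            | zero => rfl
            | succ j ihj => rw [← add_assoc, hstep, ihj, ← hstep, heq]
          apply hb
          rw [heq, ← hconst t, ← le_bot_iff]
          rintro _ ⟨u, rfl⟩
          rw [pow_add, ht, mul_zero]
          rfl
        have hlt : b < a := by
          have h1 : Nat.card (R (i + 1)) ≤ Nat.card (R i) :=
            Nat.le_of_dvd Nat.card_pos (AddSubgroup.card_dvd_of_le (hle i))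
          rw [hca, hcb] at h1 hne
          exact lt_of_le_of_ne ((Nat.pow_le_pow_iff_right hp.one_lt).mp h1) (fun h => hne (by rw [h]))
        refine ⟨?_, by omega⟩
        rw [hcb]; exact pow_dvd_pow p (by omega)
  refine DFunLike.ext _ _ fun v => ?_
  have hmem : (D ^ m : AddMonoid.End V) v ∈ R m := ⟨v, rfl⟩
  rcases key m with h | ⟨h, -⟩
  · rw [h] at hmem; exact hmem
  · rw [Nat.sub_self, pow_zero, Nat.dvd_one, AddSubgroup.card_eq_one] at h
    rw [h] at hmem; exact hmem

theorem geom_char {R : Type*} [Ring R] (p : ℕ) [Fact p.Prime] [CharP R p] (x : R) (k : ℕ) :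
    ∑ i ∈ Finset.range (p ^ k), x ^ i = (x - 1) ^ (p ^ k - 1) := by
  have h : (∑ i ∈ Finset.range (p ^ k), (Polynomial.X : Polynomial (ZMod p)) ^ i) =
      (Polynomial.X - 1) ^ (p ^ k - 1) := by
    apply mul_right_cancel₀ (b := (Polynomial.X - 1 : Polynomial (ZMod p)))
    · intro h
      have := congrArg (Polynomial.eval 0) h
      simp at this
    · rw [geom_sum_mul, ← pow_succ, Nat.sub_add_cancel (Nat.one_le_pow _ _ (Nat.Prime.pos Fact.out)),
        sub_pow_char_pow, one_pow]
  let φ : Polynomial (ZMod p) →+* R :=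
    Polynomial.eval₂RingHom' (ZMod.castHom (dvd_refl p) R) x (fun a => by rw [← ZMod.natCast_zmod_val a, map_natCast]; exact Nat.cast_commute _ _)
  have := congrArg φ h
  rw [map_sum, map_pow, map_sub, map_one] at this
  simpa [φ, Polynomial.eval₂RingHom'] using this

theorem bound {G : Type*} [Group G] [Finite G] {Ω : Type*} [Fintype Ω] [MulAction G Ω] [FaithfulSMul G Ω] (p m : ℕ)
    (hp : p.Prime) (hcard : Fintype.card Ω = p ^ m) (N : Subgroup G) [hN : N.Normal] (hNc : IsMulCommutative N)
    (hNp : ∀ n ∈ N, n ^ p = 1) (hNtr : MulAction.IsPretransitive N Ω) (hNreg : ∀ ω : Ω, MulAction.stabilizer N ω = ⊥)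
    (g : G) (r : ℕ) (hr : 1 ≤ r) (hg : orderOf g = p ^ r) :
    p ^ (r - 1) ≤ m ∧ (r = m → m ≤ 2 ∧ (2 < p → m ≤ 1)) := by
  classical
  haveI := Fact.mk hp
  obtain ⟨α⟩ : Nonempty Ω := Fintype.card_pos_iff.mp (by rw [hcard]; exact pow_pos hp.pos m)
  have hcN : ∀ a ∈ N, ∀ b ∈ N, a * b = b * a := fun a ha b hb =>
    congrArg Subtype.val (hNc.is_comm.comm ⟨a, ha⟩ ⟨b, hb⟩)
  have hbij : Function.Bijective (fun n : N => n • α) := by
    refine ⟨fun a b hab => ?_, fun y => MulAction.exists_smul_eq N α y⟩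
    have := (Subgroup.eq_bot_iff_forall _).mp (hNreg α) (b⁻¹ * a)
      (show (b⁻¹ * a) • α = α by rw [mul_smul]; exact inv_smul_eq_iff.mpr hab)
    exact (inv_mul_eq_one.mp this).symm
  have hNcard : Nat.card (Additive N) = p ^ m := by
    rw [Nat.card_congr (Additive.toMul.trans (Equiv.ofBijective _ hbij)), Nat.card_eq_fintype_card, hcard]
  obtain ⟨⟨n, hn⟩, hnα⟩ := hbij.2 (g • α)
  set h := n⁻¹ * g with hh
  have hhα : h • α = α := by
    rw [hh, mul_smul, ← (show n • α = g • α from hnα), inv_smul_smul]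
  letI : AddCommGroup (Additive N) :=
    { add_comm := fun a b => Additive.toMul.injective
        (Subtype.ext (hcN _ (Additive.toMul a : N).2 _ (Additive.toMul b : N).2)) }
  let cj : G → AddMonoid.End (Additive N) := fun x =>
    { toFun := fun a => Additive.ofMul ⟨x * ((Additive.toMul a : N) : G) * x⁻¹, hN.conj_mem _ (Additive.toMul a : N).2 _⟩
      map_zero' := Additive.toMul.injective (Subtype.ext (by simp))
      map_add' := fun a b => Additive.toMul.injective (Subtype.ext (by simp [mul_assoc])) }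
  let ρ : G →* AddMonoid.End (Additive N) :=
    { toFun := cj
      map_one' := DFunLike.ext _ _ fun a => Additive.toMul.injective (Subtype.ext
        (show (1 : G) * ((Additive.toMul a : N) : G) * (1 : G)⁻¹ = ((Additive.toMul a : N) : G) by simp))
      map_mul' := fun x y => DFunLike.ext _ _ fun a => Additive.toMul.injective (Subtype.ext
        (show (x * y) * ((Additive.toMul a : N) : G) * (x * y)⁻¹ =
          x * (y * ((Additive.toMul a : N) : G) * y⁻¹) * x⁻¹ by simp [mul_assoc])) }
  rcases subsingleton_or_nontrivial (Additive N) with hs | hnt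
  · -- trivial case: G is trivial
    exfalso
    have : Subsingleton Ω := ((Additive.toMul.trans (Equiv.ofBijective _ hbij)).symm).injective.subsingleton
    have hg1 : g = 1 := FaithfulSMul.eq_of_smul_eq_smul (α := Ω) fun x => Subsingleton.elim _ _
    rw [hg1, orderOf_one] at hg
    exact (Nat.one_lt_pow (by omega) hp.one_lt).ne hg
  haveI : Nontrivial (AddMonoid.End (Additive N)) := by
    obtain ⟨a, b, hab⟩ := exists_pair_ne (Additive N)
    refine ⟨⟨0, 1, fun he => ?_⟩⟩
    exact hab ((DFunLike.congr_fun he a).symm.trans (DFunLike.congr_fun he b))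
  haveI : CharP (AddMonoid.End (Additive N)) p := by
    refine (CharP.charP_iff_prime_eq_zero hp).mpr ?_
    refine DFunLike.ext _ _ fun a => ?_
    have : p • a = 0 := Additive.toMul.injective (Subtype.ext (by simpa using hNp _ (Additive.toMul a : N).2))
    simpa using this
  have hρg : ρ g = ρ h := by
    have hgn : g = n * h := by rw [hh, mul_inv_cancel_left]
    refine DFunLike.ext _ _ fun a => Additive.toMul.injective (Subtype.ext ?_)
    show g * ((Additive.toMul a : N) : G) * g⁻¹ = h * ((Additive.toMul a : N) : G) * h⁻¹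
    rw [hgn, show n * h * ((Additive.toMul a : N) : G) * (n * h)⁻¹ =
      n * (h * ((Additive.toMul a : N) : G) * h⁻¹) * n⁻¹ by group,
      hcN n hn _ (hN.conj_mem _ (Additive.toMul a : N).2 h), mul_inv_cancel_right]
  have hnil : IsNilpotent (ρ h - 1) := by
    refine ⟨p ^ r, ?_⟩
    rw [sub_pow_char_pow_of_commute p _ (Commute.one_right _), one_pow, ← hρg, ← map_pow, ← hg, pow_orderOf_eq_one,
      map_one, sub_self]
  have hDm := nilpotent_pow_eq_zero p m hp hNcard _ hnil
  have hkey : p ^ (r - 1) ≤ m := by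
    by_contra hlt
    have hge : m ≤ p ^ (r - 1) - 1 := by omega
    have hzero : (ρ h - 1) ^ (p ^ (r - 1) - 1) = 0 := pow_eq_zero_of_le hge hDm
    have hh1 : h ^ p ^ (r - 1) = 1 := by
      refine FaithfulSMul.eq_of_smul_eq_smul (α := Ω) fun y => ?_
      obtain ⟨⟨a, ha⟩, hay⟩ := hbij.2 y
      have hfix : h ^ p ^ (r - 1) • α = α :=
        MulAction.mem_stabilizer_iff.mp (pow_mem (MulAction.mem_stabilizer_iff.mpr hhα) _)
      have hρ1 : ρ (h ^ p ^ (r - 1)) = 1 := by
        have : ρ h ^ p ^ (r - 1) - 1 = 0 := by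
          have h0 : (ρ h - 1) ^ p ^ (r - 1) = 0 := pow_eq_zero_of_le (by omega) hzero
          rwa [sub_pow_char_pow_of_commute p _ (Commute.one_right _), one_pow] at h0
        rw [map_pow]; exact sub_eq_zero.mp this
      have hcomm : h ^ p ^ (r - 1) * a = a * h ^ p ^ (r - 1) := by
        have := congrArg (fun z : Additive N => ((Additive.toMul z : N) : G))
          (DFunLike.congr_fun hρ1 (Additive.ofMul ⟨a, ha⟩))
        have e : h ^ p ^ (r - 1) * a * (h ^ p ^ (r - 1))⁻¹ = a := this
        exact mul_inv_eq_iff_eq_mul.mp e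
      rw [one_smul, ← (show a • α = y from hay), ← mul_smul, hcomm, mul_smul, hfix]
    -- powers of g
    have hpow : ∀ i : ℕ, g ^ i = ((Additive.toMul ((∑ j ∈ Finset.range i, ρ h ^ j) (Additive.ofMul ⟨n, hn⟩)) : N) : G) * h ^ i := by
      intro i
      induction i with
      | zero => simp
      | succ i ih =>
        have hgn : g = n * h := by rw [hh, mul_inv_cancel_left]
        rw [pow_succ g, ih, hgn, Finset.sum_range_succ, pow_succ h]
        show _ = (((Additive.toMul ((∑ j ∈ Finset.range i, ρ h ^ j) (Additive.ofMul ⟨n, hn⟩) +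
          (ρ h ^ i) (Additive.ofMul ⟨n, hn⟩))) : N) : G) * (h ^ i * h)
        rw [toMul_add, Subgroup.coe_mul, ← map_pow]
        show _ = _ * (h ^ i * n * (h ^ i)⁻¹) * (h ^ i * h)
        group
    have := hpow (p ^ (r - 1))
    rw [geom_char p, hzero, hh1, mul_one] at this
    have hg1 : g ^ p ^ (r - 1) = 1 := this.trans rfl
    have hdvd := orderOf_dvd_of_pow_eq_one hg1
    rw [hg, Nat.pow_dvd_pow_iff_le_right hp.one_lt] at hdvd
    omega
  refine ⟨hkey, fun hrm => ?_⟩
  subst hrm
  constructor
  · by_contra h3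
    have h2 : 2 ^ (r - 1) ≤ r := (Nat.pow_le_pow_left hp.two_le _).trans hkey
    obtain ⟨k, rfl⟩ : ∃ k, r = k + 3 := ⟨r - 3, by omega⟩
    have := Nat.lt_two_pow_self (n := k)
    rw [show k + 3 - 1 = k + 2 by omega, pow_add] at h2
    omega
  · intro hp2
    by_contra h1
    have h3 : 3 ^ (r - 1) ≤ r := (Nat.pow_le_pow_left hp2 _).trans hkey
    obtain ⟨k, rfl⟩ : ∃ k, r = k + 2 := ⟨r - 2, by omega⟩
    have := Nat.lt_pow_self (n := k) (show 1 < 3 by norm_num)
    rw [show k + 2 - 1 = k + 1 by omega, pow_succ] at h3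
    omega


/-- Let a finite group G act faithfully on a set Ω with p ^ m points (p prime) and have an elementary abelian normal p-subgroup N acting regularly on Ω (so G is a group of affine transformations of an m-dimensional space over the field with p elements). If G contains an element of order p ^ r with r ≥ 1, then p ^ (r − 1) ≤ m. In particular an element of order p ^ m forces m ≤ 2, and m ≤ 1 when p is odd. -/
theorem result {G : Type*} [Group G] [Finite G] {Ω : Type*} [Fintype Ω] [MulAction G Ω] [FaithfulSMul G Ω] (p m : ℕ) (hp : p.Prime) (hcard : Fintype.card Ω = p ^ m)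
    (N : Subgroup G) [N.Normal] (hNc : IsMulCommutative N) (hNp : ∀ n ∈ N, n ^ p = 1)
    (hNtr : MulAction.IsPretransitive N Ω) (hNreg : ∀ ω : Ω, MulAction.stabilizer N ω = ⊥)
    (g : G) (r : ℕ) (hr : 1 ≤ r) (hg : orderOf g = p ^ r) :
    p ^ (r - 1) ≤ m ∧ (r = m → m ≤ 2 ∧ (2 < p → m ≤ 1)) := by
  exact bound p m hp hcard N hNc hNp hNtr hNreg g r hr hg

end Cfsg.Agent.S3508
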