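import Cfsg.Statements.S3511
import Cfsg.Agent.EqLemmas

set_option autoImplicit false
open Cfsg

namespace Cfsg.Agent.S3511

/-- Let a finite group G act faithfully on a set Ω. If every element of G of square-free order has a regular cycle (an orbit of the cyclic group it generates with trivial stabilizer), then every element of G has a regular cycle. -/
theorem result {G : Type*} [Group G] [Finite G] {Ω : Type*} [MulAction G Ω] [FaithfulSMul G Ω]
    (h : ∀ g : G, Squarefree (orderOf g) → ∃ ω : Ω, MulAction.stabilizer (Subgroup.zpowers g) ω = ⊥) (g : G) :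
    ∃ ω : Ω, MulAction.stabilizer (Subgroup.zpowers g) ω = ⊥ := by
  classical
  have hpos : 0 < orderOf g := orderOf_pos g
  set n := orderOf g with hn
  set r := n.primeFactors.prod id with hr
  have hrd : r ∣ n := Nat.prod_primeFactors_dvd n
  have hrsq : Squarefree r := by
    rw [hr]
    refine Finset.squarefree_prod_of_pairwise_isCoprime (fun a ha b hb hab => ?_) (fun a ha => (Nat.prime_of_mem_primeFactors ha).squarefree)
    exact Nat.coprime_iff_isRelPrime.mp ((Nat.coprime_primes (Nat.prime_of_mem_primeFactors ha) (Nat.prime_of_mem_primeFactors hb)).mpr hab)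
  have hord : orderOf (g ^ (n / r)) = r := by
    rw [orderOf_pow_orderOf_div hpos.ne' hrd]
  obtain ⟨ω, hω⟩ := h _ (by rw [hord]; exact hrsq)
  refine ⟨ω, ?_⟩
  rw [eq_bot_iff]
  intro x hx
  by_contra hne
  rw [Subgroup.mem_bot] at hne
  obtain ⟨p, hp, hpd⟩ := Nat.exists_prime_and_dvd (orderOf_eq_one_iff.not.mpr hne)
  have hxo : 0 < orderOf x := orderOf_pos x
  set y := x ^ (orderOf x / p) with hy
  have hyo : orderOf y = p := orderOf_pow_orderOf_div hxo.ne' hpd
  have hys : y ∈ MulAction.stabilizer (Subgroup.zpowers g) ω := pow_mem hx _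
  have hpn : p ∣ n := by
    rw [← hyo, hn, ← Nat.card_zpowers g]
    exact orderOf_dvd_natCard y
  have hymem : (y : G) ∈ Subgroup.zpowers (g ^ (n / r)) := by
    have hsub : orderOf (y : G) ∣ orderOf (g ^ (n / r)) := by
      rw [hord, Subgroup.orderOf_coe, hyo, hr]
      exact Finset.dvd_prod_of_mem id (Nat.mem_primeFactors.mpr ⟨hp, hpn, hpos.ne'⟩)
    obtain ⟨k, hk⟩ := Subgroup.mem_zpowers_iff.mp y.2
    rw [← hk] at hsub ⊢
    rw [orderOf_dvd_iff_pow_eq_one, hord, ← zpow_natCast, ← zpow_mul, ← orderOf_dvd_iff_zpow_eq_one, ← hn] at hsub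
    obtain ⟨c, hc⟩ := hrd
    have hr0 : (r : ℤ) ≠ 0 := by
      intro h0; simp [Int.natCast_eq_zero.mp h0] at hc; omega
    have hdiv : n / r = c := by
      rw [hc, Nat.mul_div_cancel_left _ (Nat.pos_of_ne_zero (by exact_mod_cast hr0))]
    rw [hdiv]
    have : (c : ℤ) ∣ k := by
      rw [hc, Nat.cast_mul, mul_comm (r : ℤ)] at hsub
      exact Int.dvd_of_mul_dvd_mul_right hr0 hsub
    obtain ⟨e, rfl⟩ := this
    exact ⟨e, by simp only [zpow_mul, zpow_natCast]⟩
  have h1 : (⟨(y : G), hymem⟩ : Subgroup.zpowers (g ^ (n / r))) ∈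
      MulAction.stabilizer (Subgroup.zpowers (g ^ (n / r))) ω := hys
  rw [hω, Subgroup.mem_bot] at h1
  have : y = 1 := Subtype.ext (congrArg (fun z : Subgroup.zpowers (g ^ (n / r)) => (z : G)) h1)
  rw [this, orderOf_one] at hyo
  exact hp.one_lt.ne hyo


end Cfsg.Agent.S3511
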