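import Cfsg.Statements.S3514
import Cfsg.Agent.EqLemmas

set_option autoImplicit false
open Cfsg

namespace Cfsg.Agent.S3514

/-- In a finite group with normal `K`: `|K| |S| = |K ⊔ S| |K ⊓ S|`. -/
theorem card_mul_card_eq {G : Type*} [Group G] [Finite G] (K S : Subgroup G) [K.Normal] :
    Nat.card K * Nat.card S = Nat.card ↥(K ⊔ S) * Nat.card ↥(K ⊓ S) := by
  have h1 : Nat.card K * K.relIndex S = Nat.card ↥(K ⊔ S) := by
    rw [← Subgroup.relIndex_sup_right (H := S) (K := K), sup_comm S K, ← Subgroup.relIndex_bot_left,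
      Subgroup.relIndex_mul_relIndex _ _ _ bot_le le_sup_left, Subgroup.relIndex_bot_left]
  have h2 : Nat.card ↥(K ⊓ S) * K.relIndex S = Nat.card S := by
    rw [← Subgroup.inf_relIndex_right, ← Subgroup.relIndex_bot_left,
      Subgroup.relIndex_mul_relIndex _ _ _ bot_le inf_le_right, Subgroup.relIndex_bot_left]
  rw [← h1, ← h2]; ring

theorem card_orbit_mul_stab {G X : Type*} [Group G] [Finite G] [MulAction G X] (v : X) :
    Nat.card (MulAction.orbit G v) * Nat.card (MulAction.stabilizer G v) = Nat.card G := by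
  rw [Nat.card_congr (MulAction.orbitEquivQuotientStabilizer G v), mul_comm]
  exact (MulAction.stabilizer G v).card_mul_index

theorem card_orbit_dvd_card_orbit {G X : Type*} [Group G] [Finite G] [MulAction G X] (K H : Subgroup G)
    (hKH : K ≤ H) (hn : H ≤ Subgroup.normalizer (K : Set G)) (v : X) :
    Nat.card (MulAction.orbit K v) ∣ Nat.card (MulAction.orbit H v) := by
  haveI : (K.subgroupOf H).Normal := Subgroup.normal_subgroupOf_of_le_normalizer hn
  set K' := K.subgroupOf H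
  have e : MulAction.orbit K v = MulAction.orbit K' v := by
    ext u
    exact ⟨fun ⟨⟨k, hk⟩, h⟩ => ⟨⟨⟨k, hKH hk⟩, hk⟩, h⟩, fun ⟨⟨⟨k, _⟩, hk⟩, h⟩ => ⟨⟨k, hk⟩, h⟩⟩
  rw [e]
  set S := MulAction.stabilizer H v with hS
  have e1 : Nat.card (MulAction.stabilizer K' v) = Nat.card ↥(K' ⊓ S) :=
    Nat.card_congr
      { toFun := fun k => ⟨(k.1 : H), k.1.2, k.2⟩
        invFun := fun k => ⟨⟨k.1, k.2.1⟩, k.2.2⟩
        left_inv := fun _ => rfl
        right_inv := fun _ => rfl }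
  have hK := card_orbit_mul_stab (G := K') v
  have hH := card_orbit_mul_stab (G := H) v
  have hm := card_mul_card_eq K' S
  obtain ⟨c, hc⟩ := Subgroup.card_subgroup_dvd_card (K' ⊔ S)
  rw [← hS] at hH
  rw [e1] at hK
  refine ⟨c, ?_⟩
  have hpos : 0 < Nat.card ↥(K' ⊓ S) * Nat.card S := Nat.mul_pos Nat.card_pos Nat.card_pos
  apply Nat.eq_of_mul_eq_mul_right hpos
  calc Nat.card (MulAction.orbit H v) * (Nat.card ↥(K' ⊓ S) * Nat.card S)
      = Nat.card ↥(K' ⊔ S) * Nat.card ↥(K' ⊓ S) * c := by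
        rw [mul_comm (Nat.card ↥(K' ⊓ S)), ← mul_assoc, hH, hc]; ring
    _ = Nat.card (MulAction.orbit K' v) * c * (Nat.card ↥(K' ⊓ S) * Nat.card S) := by
        rw [← hm, ← hK]; ring

theorem card_orbit_sup_dvd {G X : Type*} [Group G] [Finite G] [MulAction G X] (N H : Subgroup G)
    (hn : H ≤ Subgroup.normalizer (N : Set G)) (v : X) :
    Nat.card (MulAction.orbit ↥(N ⊔ H) v) ∣ Nat.card N * Nat.card (MulAction.orbit H v) := by
  set W := N ⊔ H with hW
  have hNW : N ≤ W := le_sup_left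
  have hHW : H ≤ W := le_sup_right
  haveI : (N.subgroupOf W).Normal :=
    Subgroup.normal_subgroupOf_of_le_normalizer (sup_le Subgroup.le_normalizer hn)
  have hm := card_mul_card_eq (N.subgroupOf W) (H.subgroupOf W)
  rw [← Subgroup.subgroupOf_sup hNW hHW, Subgroup.subgroupOf_self, Subgroup.card_top,
    Nat.card_congr (Subgroup.subgroupOfEquivOfLe hNW).toEquiv,
    Nat.card_congr (Subgroup.subgroupOfEquivOfLe hHW).toEquiv] at hm
  have h1 := card_orbit_mul_stab (G := H) v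
  have h2 := card_orbit_mul_stab (G := W) v
  have h3 : Nat.card (MulAction.stabilizer H v) ∣ Nat.card (MulAction.stabilizer W v) := by
    let f : MulAction.stabilizer H v →* MulAction.stabilizer W v :=
      { toFun := fun x => ⟨⟨(x.1 : G), hHW x.1.2⟩, x.2⟩
        map_one' := rfl
        map_mul' := fun _ _ => rfl }
    exact Subgroup.card_dvd_of_injective f fun x y hxy =>
      Subtype.ext (Subtype.ext (congrArg (fun z : MulAction.stabilizer W v => ((z : W) : G)) hxy))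
  apply Nat.dvd_of_mul_dvd_mul_right (Nat.card_pos (α := MulAction.stabilizer H v))
  refine (mul_dvd_mul_left _ h3).trans ⟨Nat.card ↥(N.subgroupOf W ⊓ H.subgroupOf W), ?_⟩
  rw [h2, mul_assoc (Nat.card N), h1]
  exact hm

/-- The result. -/
theorem result (p : ℕ) [Fact p.Prime] {V : Type*} [AddCommGroup V] [Module (ZMod p) V] [Finite V]
    (H : Subgroup (V ≃ₗ[ZMod p] V)) (hH : ∀ v : V, ¬ p ∣ Nat.card {u : V | ∃ h ∈ H, h v = u}) :
    (∀ K : Subgroup (V ≃ₗ[ZMod p] V), K ≤ H → H ≤ Subgroup.normalizer (K : Set (V ≃ₗ[ZMod p] V)) →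
        ∀ v : V, ¬ p ∣ Nat.card {u : V | ∃ k ∈ K, k v = u}) ∧
    (∀ N : Subgroup (V ≃ₗ[ZMod p] V), ¬ p ∣ Nat.card N → H ≤ Subgroup.normalizer (N : Set (V ≃ₗ[ZMod p] V)) →
        ∀ v : V, ¬ p ∣ Nat.card {u : V | ∃ x ∈ N ⊔ H, x v = u}) := by
  classical
  haveI : Finite (V ≃ₗ[ZMod p] V) := Finite.of_injective (fun e => (e : V → V)) DFunLike.coe_injective
  refine ⟨fun K hKH hn v hd => ?_, fun N hN hn v hd => ?_⟩
  · apply hH v
    refine hd.trans ?_
    have e1 : {u : V | ∃ k ∈ K, k v = u} = MulAction.orbit K v := by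
      ext u; exact ⟨fun ⟨k, hk, h⟩ => ⟨⟨k, hk⟩, h⟩, fun ⟨⟨k, hk⟩, h⟩ => ⟨k, hk, h⟩⟩
    have e2 : {u : V | ∃ h ∈ H, h v = u} = MulAction.orbit H v := by
      ext u; exact ⟨fun ⟨k, hk, h⟩ => ⟨⟨k, hk⟩, h⟩, fun ⟨⟨k, hk⟩, h⟩ => ⟨k, hk, h⟩⟩
    rw [e1, e2]
    exact card_orbit_dvd_card_orbit K H hKH hn v
  · have e : {u : V | ∃ x ∈ N ⊔ H, x v = u} = MulAction.orbit ↥(N ⊔ H) v := by
      ext u; exact ⟨fun ⟨k, hk, h⟩ => ⟨⟨k, hk⟩, h⟩, fun ⟨⟨k, hk⟩, h⟩ => ⟨k, hk, h⟩⟩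
    rw [e] at hd
    have h2 : Nat.card (MulAction.orbit ↥(N ⊔ H) v) ∣ Nat.card N * Nat.card (MulAction.orbit H v) :=
      card_orbit_sup_dvd N H hn v
    have e2 : {u : V | ∃ h ∈ H, h v = u} = MulAction.orbit H v := by
      ext u; exact ⟨fun ⟨k, hk, h⟩ => ⟨⟨k, hk⟩, h⟩, fun ⟨⟨k, hk⟩, h⟩ => ⟨k, hk, h⟩⟩
    rcases (Nat.Prime.dvd_mul Fact.out).mp (hd.trans h2) with h | h
    · exact hN h
    · exact hH v (by rwa [e2])


end Cfsg.Agent.S3514
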