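import Cfsg.Statements.S3515
import Cfsg.Agent.Lib.Closures.Affine

set_option autoImplicit false
open Cfsg

namespace Cfsg.Agent.S3515

theorem f2_key : ∀ x y z : Fin 2 → ZMod 2, x ≠ 0 → y ≠ 0 → z ≠ 0 → x ≠ y → x ≠ z → y ≠ z →
    z = x + y := by decide

theorem f2_two : ∀ x y : Fin 2 → ZMod 2, x + y = 0 ↔ x = y := by decide

/-- Every primitive affine permutation group of degree p² is 3-closed. Let p be a prime and G a group of permutations of the plane V = F_p² consisting of affine maps x ↦ Ax + b, containing all translations, and acting primitively on V. Then any permutation σ of V that agrees on every triple of points with some element of G (σ preserves every G-orbit on ordered triples) already lies in G. -/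
theorem result (p : ℕ) [Fact p.Prime] (G : Subgroup (Equiv.Perm (Fin 2 → ZMod p)))
    (haff : (G : Set (Equiv.Perm (Fin 2 → ZMod p))) ⊆ {τ : Equiv.Perm (Fin 2 → ZMod p) | ∃ (A : (Fin 2 → ZMod p) ≃ₗ[ZMod p] (Fin 2 → ZMod p)) (b : Fin 2 → ZMod p), ∀ x, τ x = A x + b})
    (htrans : ∀ b : Fin 2 → ZMod p, ∃ g ∈ G, ∀ x, g x = x + b) (hprim : MulAction.IsPreprimitive G (Fin 2 → ZMod p))
    (σ : Equiv.Perm (Fin 2 → ZMod p)) (hσ : (∀ t : Fin 3 → (Fin 2 → ZMod p), ∃ g ∈ G, ∀ i, σ (t i) = g (t i))) : σ ∈ G := by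
  classical
  set τ : (Fin 2 → ZMod p) → (Fin 2 → ZMod p) := fun x => σ x - σ 0 with hτ
  have hτ0 : τ 0 = 0 := by simp [hτ]
  have hcomb : ∀ (l : ZMod p) (a b : Fin 2 → ZMod p),
      τ ((1 - l) • a + l • b) = (1 - l) • τ a + l • τ b := by
    intro l a b
    obtain ⟨g, hg, ht⟩ := hσ ![a, b, (1 - l) • a + l • b]
    obtain ⟨A, c, hAc⟩ := haff hg
    have h0 := ht 0
    have h1 := ht 1
    have h2 := ht 2
    simp only [Matrix.cons_val, hAc] at h0 h1 h2
    simp only [hτ, h0, h1, h2, map_add, map_smul]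
    module
  have hadd : ∀ u v, τ (u + v) = τ u + τ v := by
    rcases eq_or_ne p 2 with rfl | hp
    · intro u v
      have hinj : Function.Injective τ := fun x y h => σ.injective (by simpa [hτ] using h)
      by_cases hu : u = 0
      · simp [hu, hτ0]
      by_cases hv : v = 0
      · simp [hv, hτ0]
      by_cases huv : u = v
      · subst huv
        rw [(f2_two u u).2 rfl, hτ0, (f2_two (τ u) (τ u)).2 rfl]
      refine f2_key _ _ _ ?_ ?_ ?_ ?_ ?_ ?_ <;> intro h
      · exact hu (hinj (h.trans hτ0.symm))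
      · exact hv (hinj (h.trans hτ0.symm))
      · exact huv ((f2_two u v).1 (hinj (h.trans hτ0.symm)))
      · exact huv (hinj h)
      · exact hv (left_eq_add.1 (hinj h))
      · exact hu (right_eq_add.1 (hinj h))
    · refine Closures.add_of_affineComb ?_ τ hτ0 hcomb
      exact Ring.two_ne_zero (by rwa [ringChar.eq (ZMod p) p])
  let L : (Fin 2 → ZMod p) →ₗ[ZMod p] (Fin 2 → ZMod p) :=
    { toFun := τ, map_add' := hadd, map_smul' := Closures.smul_of_affineComb τ hτ0 hcomb }
  obtain ⟨g, hg, ht⟩ := hσ ![0, Pi.single 0 1, Pi.single 1 1]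
  obtain ⟨A, c, hAc⟩ := haff hg
  convert hg
  ext1 x
  have h0 := ht 0
  have h1 := ht 1
  have h2 := ht 2
  simp only [Matrix.cons_val, hAc, map_zero, zero_add] at h0 h1 h2
  have hLA : L = A.toLinearMap := by
    refine (Pi.basisFun (ZMod p) (Fin 2)).ext fun i => ?_
    show τ _ = A _
    fin_cases i <;> simp [hτ, Pi.basisFun_apply, h0, h1, h2]
  have : τ x = A x := LinearMap.congr_fun hLA x
  rw [hAc, ← this, ← h0]
  simp [hτ]

end Cfsg.Agent.S3515
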