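import Cfsg.Statements.S3516
import Cfsg.Agent.Lib.Closures.Affine

set_option autoImplicit false
open Cfsg

namespace Cfsg.Agent.S3516

/-- Let p be an odd prime, d ≥ 3, and G a group of affine permutations x ↦ Ax + b of V = F_p^d containing all translations and all maps x ↦ Ax with A of determinant 1. Then the 3-closure of G is the full affine group: a permutation σ of V agrees on every triple of points with some element of G if and only if σ is an affine map. -/
theorem result (p : ℕ) [Fact p.Prime] (hp : p ≠ 2) (d : ℕ) (hd : 3 ≤ d) (G : Subgroup (Equiv.Perm (Fin d → ZMod p)))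
    (haff : (G : Set (Equiv.Perm (Fin d → ZMod p))) ⊆ {τ : Equiv.Perm (Fin d → ZMod p) | ∃ (A : (Fin d → ZMod p) ≃ₗ[ZMod p] (Fin d → ZMod p)) (b : Fin d → ZMod p), ∀ x, τ x = A x + b})
    (htrans : ∀ b : Fin d → ZMod p, ∃ g ∈ G, ∀ x, g x = x + b)
    (hsl : ∀ A : (Fin d → ZMod p) ≃ₗ[ZMod p] (Fin d → ZMod p), LinearMap.det (A : (Fin d → ZMod p) →ₗ[ZMod p] (Fin d → ZMod p)) = 1 → ∃ g ∈ G, ∀ x, g x = A x)
    (σ : Equiv.Perm (Fin d → ZMod p)) :
    (∀ t : Fin 3 → (Fin d → ZMod p), ∃ g ∈ G, ∀ i, σ (t i) = g (t i)) ↔ σ ∈ {τ : Equiv.Perm (Fin d → ZMod p) | ∃ (A : (Fin d → ZMod p) ≃ₗ[ZMod p] (Fin d → ZMod p)) (b : Fin d → ZMod p), ∀ x, τ x = A x + b} := by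
  classical
  constructor
  · intro hσ
    set τ : (Fin d → ZMod p) → (Fin d → ZMod p) := fun x => σ x - σ 0 with hτ
    have hτ0 : τ 0 = 0 := by simp [hτ]
    have hcomb : ∀ (l : ZMod p) (a b : Fin d → ZMod p),
        τ ((1 - l) • a + l • b) = (1 - l) • τ a + l • τ b := by
      intro l a b
      obtain ⟨g, hg, ht⟩ := hσ ![a, b, (1 - l) • a + l • b]
      obtain ⟨A, c, hAc⟩ := haff hg
      have h0 := ht 0
      have h1 := ht 1
      have h2 := ht 2
      simp only [Matrix.cons_val, hAc] at h0 h1 h2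
      simp only [hτ, h0, h1, h2, map_add, map_smul]
      module
    have hadd := Closures.add_of_affineComb
      (Ring.two_ne_zero (by rwa [ringChar.eq (ZMod p) p])) τ hτ0 hcomb
    let L : (Fin d → ZMod p) →ₗ[ZMod p] (Fin d → ZMod p) :=
      { toFun := τ, map_add' := hadd, map_smul' := Closures.smul_of_affineComb τ hτ0 hcomb }
    have hinj : Function.Injective L := fun x y h => σ.injective (by simpa [L, hτ] using h)
    refine ⟨LinearEquiv.ofInjectiveEndo L hinj, σ 0, fun x => ?_⟩
    show σ x = τ x + σ 0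
    simp [hτ]
  · rintro ⟨A, b, hAb⟩ t
    have hW : Submodule.span (ZMod p) ({t 1 - t 0, t 2 - t 0} : Set (Fin d → ZMod p)) ≠ ⊤ := by
      intro htop
      have h1 := finrank_span_le_card (R := ZMod p) ({t 1 - t 0, t 2 - t 0} : Set (Fin d → ZMod p))
      rw [htop, finrank_top, Module.finrank_pi, Fintype.card_fin] at h1
      have h2 : ({t 1 - t 0, t 2 - t 0} : Set (Fin d → ZMod p)).toFinset.card ≤ 2 := by
        rw [Set.toFinset_insert, Set.toFinset_singleton]
        exact Finset.card_le_two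
      omega
    obtain ⟨S, hdet, hS⟩ := Closures.exists_linearEquiv_det _ hW
      ((A : (Fin d → ZMod p) →ₗ[ZMod p] (Fin d → ZMod p)).det)⁻¹
      (inv_ne_zero A.isUnit_det'.ne_zero)
    obtain ⟨g₁, hg₁, hg₁'⟩ := hsl (S.trans A) (by
      rw [LinearEquiv.coe_trans, LinearMap.det_comp, hdet,
        mul_inv_cancel₀ A.isUnit_det'.ne_zero])
    obtain ⟨g₂, hg₂, hg₂'⟩ := htrans (A (t 0) + b - (S.trans A) (t 0))
    refine ⟨g₂ * g₁, mul_mem hg₂ hg₁, fun i => ?_⟩
    rw [Equiv.Perm.mul_apply, hg₂', hg₁', hAb]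
    have e : S (t i - t 0) = t i - t 0 := by
      fin_cases i
      · simp
      · exact hS _ (Submodule.subset_span (by simp))
      · exact hS _ (Submodule.subset_span (by simp))
    have e' := congrArg A e
    simp only [map_sub] at e'
    simp only [LinearEquiv.trans_apply]
    linear_combination -e'

end Cfsg.Agent.S3516
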