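import Cfsg.Statements.S3517
import Cfsg.Agent.Lib.Closures.Affine

set_option autoImplicit false
open Cfsg

namespace Cfsg.Agent.S3517

/-- For d ≥ 3, the 3-closure of the affine group AGL_d(2) acting on F_2^d is the full symmetric group: every permutation of F_2^d agrees on every ordered triple of points with some affine map (AGL_d(2) is 3-transitive). -/
theorem result (d : ℕ) (hd : 3 ≤ d) (σ : Equiv.Perm (Fin d → ZMod 2)) (t : Fin 3 → (Fin d → ZMod 2)) :
    ∃ (A : (Fin d → ZMod 2) ≃ₗ[ZMod 2] (Fin d → ZMod 2)) (b : Fin d → ZMod 2), ∀ i, σ (t i) = A (t i) + b := by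
  classical
  have two : ∀ c : ZMod 2, c = 0 ∨ c = 1 := by decide
  have hneg : ∀ x : Fin d → ZMod 2, -x = x := fun x => by
    ext i; simp
  set u := t 1 - t 0
  set v := t 2 - t 0
  set u' := σ (t 1) - σ (t 0)
  set v' := σ (t 2) - σ (t 0)
  have hu : u = 0 ↔ u' = 0 := by simp [u, u', sub_eq_zero]
  have hv : v = 0 ↔ v' = 0 := by simp [v, v', sub_eq_zero]
  have huv : u + v = 0 ↔ u' + v' = 0 := by
    simp [add_eq_zero_iff_eq_neg, hneg, u, v, u', v']
  let f : ZMod 2 × ZMod 2 →ₗ[ZMod 2] (Fin d → ZMod 2) :=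
    (LinearMap.toSpanSingleton _ _ u).coprod (LinearMap.toSpanSingleton _ _ v)
  let g : ZMod 2 × ZMod 2 →ₗ[ZMod 2] (Fin d → ZMod 2) :=
    (LinearMap.toSpanSingleton _ _ u').coprod (LinearMap.toSpanSingleton _ _ v')
  obtain ⟨A, hA⟩ := Closures.exists_linearEquiv_of_ker_eq f g (by
    ext ⟨x, y⟩
    rcases two x with rfl | rfl <;> rcases two y with rfl | rfl <;>
      simp [f, g, LinearMap.toSpanSingleton_apply, hu, hv, huv])
  have h1 : A u = u' := by simpa [f, g] using hA (1, 0)
  have h2 : A v = v' := by simpa [f, g] using hA (0, 1)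
  simp only [u, u', v, v', map_sub] at h1 h2
  refine ⟨A, σ (t 0) - A (t 0), fun i => ?_⟩
  fin_cases i
  · simp
  · simp only [Fin.mk_one]; rw [add_sub_left_comm, h1]; abel
  · simp only [Fin.reduceFinMk]; rw [add_sub_left_comm, h2]; abel

end Cfsg.Agent.S3517
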