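import Cfsg.Statements.S3518
import Cfsg.Agent.Lib.Closures.Affine

set_option autoImplicit false
open Cfsg

namespace Cfsg.Agent.S3518

open scoped Classical

open Polynomial in
/-- The key step: the difference operator of a subgroup `U` of order `k` kills exactly the
polynomials of degree less than `k`. -/
theorem natDegree_lt_of_sum_eq_zero {p : ℕ} [Fact p.Prime] (U : Subgroup (ZMod p)ˣ)
    (g : (ZMod p)[X]) (hg : g.natDegree < p)
    (hsum : ∀ x : ZMod p, ∑ u : U, (g.eval (x + ((u : (ZMod p)ˣ) : ZMod p)) - g.eval x) = 0) :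
    g.natDegree < Nat.card U := by
  classical
  set k := Nat.card U with hk
  have hkpos : 0 < k := Nat.card_pos
  by_contra! hn
  set n := g.natDegree with hndef
  have hpow : ∀ l, 0 < l → l < k →
      ∑ u : U, ((u : (ZMod p)ˣ) : ZMod p) ^ l = 0 := by
    intro l hl hlk
    obtain ⟨z, hz⟩ := IsCyclic.exists_generator (α := U)
    have hzl : (((z : (ZMod p)ˣ) : ZMod p)) ^ l ≠ 1 := by
      intro h
      have h' : z ^ l = 1 := Subtype.ext (Units.ext (by simpa using h))
      have := Nat.le_of_dvd hl (orderOf_dvd_of_pow_eq_one h')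
      rw [orderOf_eq_card_of_forall_mem_zpowers hz] at this
      omega
    have hshift : (((z : (ZMod p)ˣ) : ZMod p)) ^ l * ∑ u : U, ((u : (ZMod p)ˣ) : ZMod p) ^ l
        = ∑ u : U, ((u : (ZMod p)ˣ) : ZMod p) ^ l := by
      rw [Finset.mul_sum]
      exact Fintype.sum_equiv (Equiv.mulLeft z) _ _ fun u => by simp [mul_pow]
    exact (mul_left_eq_self₀.1 hshift).resolve_left hzl
  set Q : (ZMod p)[X] := ∑ u : U, (taylor ((u : (ZMod p)ˣ) : ZMod p) g - g) with hQ
  have hQdeg : Q.natDegree < p := by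
    refine lt_of_le_of_lt (natDegree_sum_le_of_forall_le (n := n) _ _ fun u _ => ?_) hg
    refine le_trans (natDegree_sub_le _ _) ?_
    rw [natDegree_taylor, max_self]
  have hQ0 : Q = 0 := by
    refine eq_zero_of_natDegree_lt_card_of_eval_eq_zero' Q Finset.univ (fun x _ => ?_) (by simpa)
    rw [hQ, eval_finset_sum, ← hsum x]
    exact Finset.sum_congr rfl fun u _ => by simp [taylor_eval, add_comm]
  set m := n - k with hm
  set H := hasseDeriv m g with hH
  have hHdeg : H.natDegree < k + 1 := by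
    refine lt_of_le_of_lt (natDegree_hasseDeriv_le g m) ?_
    omega
  have hcoeff : Q.coeff m = (k : ZMod p) * H.coeff k := by
    have h1 : ∀ u : U, (taylor ((u : (ZMod p)ˣ) : ZMod p) g - g).coeff m
        = ∑ l ∈ Finset.range k, H.coeff (l + 1) * ((u : (ZMod p)ˣ) : ZMod p) ^ (l + 1) := by
      intro u
      rw [coeff_sub, taylor_coeff, ← hH, eval_eq_sum_range' hHdeg, Finset.sum_range_succ',
        pow_zero, mul_one, hH, hasseDeriv_coeff m g 0]
      simp
    rw [hQ, finset_sum_coeff, Finset.sum_congr rfl (fun u _ => h1 u), Finset.sum_comm]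
    simp only [← Finset.mul_sum]
    obtain ⟨j, hj⟩ : ∃ j, k = j + 1 := ⟨k - 1, by omega⟩
    rw [hj, Finset.sum_range_succ, Finset.sum_eq_zero, zero_add, ← hj]
    · have hone : ∀ u : U, ((u : (ZMod p)ˣ) : ZMod p) ^ k = 1 := by
        intro u
        have h : u ^ k = 1 := pow_card_eq_one'
        rw [← Units.val_pow_eq_pow_val, ← Subgroup.coe_pow, h, OneMemClass.coe_one, Units.val_one]
      rw [Finset.sum_congr rfl fun u _ => hone u, Finset.sum_const, Finset.card_univ,
        nsmul_one, ← Nat.card_eq_fintype_card, ← hk, mul_comm]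
    · intro l hl
      rw [hpow (l + 1) (by omega) (by have := Finset.mem_range.1 hl; omega), mul_zero]
  rw [hQ0, coeff_zero, hH, hasseDeriv_coeff] at hcoeff
  have hkn : k + m = n := by omega
  have hk0 : (k : ZMod p) ≠ 0 := by
    rw [Ne, CharP.cast_eq_zero_iff (ZMod p) p]
    exact Nat.not_dvd_of_pos_of_lt hkpos (lt_of_le_of_lt hn hg)
  have hchoose : ((n.choose m : ℕ) : ZMod p) ≠ 0 := by
    rw [Ne, CharP.cast_eq_zero_iff (ZMod p) p]
    intro hd
    have h1 : p ∣ n.factorial := by
      rw [← Nat.choose_mul_factorial_mul_factorial (show m ≤ n by omega)]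
      exact dvd_mul_of_dvd_left (dvd_mul_of_dvd_left hd _) _
    exact absurd ((Nat.Prime.dvd_factorial Fact.out).1 h1) (not_le.2 hg)
  rw [hkn] at hcoeff
  rcases mul_eq_zero.1 hcoeff.symm with h | h
  · exact hk0 h
  rcases mul_eq_zero.1 h with h | h
  · exact hchoose h
  · have hg0 : g = 0 := leadingCoeff_eq_zero.1 h
    rw [hndef, hg0, natDegree_zero] at hn
    omega

open Polynomial in
/-- A proper transitive subgroup of the one-dimensional affine group of prime order is
2-closed. -/
theorem two_closed {p : ℕ} [Fact p.Prime] {G : Subgroup (Equiv.Perm (ZMod p))}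
    (hG : G ≤ Cfsg.affineGroup (ZMod p)) (htrans : ∀ b : ZMod p, ∃ g ∈ G, ∀ x, g x = x + b)
    (hne : G ≠ Cfsg.affineGroup (ZMod p)) {σ : Equiv.Perm (ZMod p)}
    (hσ : ∀ t : Fin 2 → ZMod p, ∃ g ∈ G, ∀ i, σ (t i) = g (t i)) : σ ∈ G := by
  classical
  -- the multipliers
  let U : Subgroup (ZMod p)ˣ :=
    { carrier := {a | ∃ g ∈ G, ∀ x, g x = (a : ZMod p) * x}
      one_mem' := ⟨1, one_mem G, fun x => by simp⟩
      mul_mem' := by
        rintro a b ⟨g, hg, hga⟩ ⟨h, hh, hhb⟩
        exact ⟨g * h, mul_mem hg hh, fun x => by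
          simp [Equiv.Perm.mul_apply, hga, hhb, mul_assoc]⟩
      inv_mem' := by
        rintro a ⟨g, hg, hga⟩
        refine ⟨g⁻¹, inv_mem hg, fun x => g.injective ?_⟩
        rw [Equiv.Perm.inv_def, Equiv.apply_symm_apply, hga, ← mul_assoc, Units.mul_inv,
          one_mul] }
  have hmult : ∀ {a : (ZMod p)ˣ} {b : ZMod p} {g : Equiv.Perm (ZMod p)}, g ∈ G →
      (∀ x, g x = (a : ZMod p) * x + b) → a ∈ U := by
    intro a b g hg hgx
    obtain ⟨h, hh, hhb⟩ := htrans (-b)
    exact ⟨h * g, mul_mem hh hg, fun x => by simp [Equiv.Perm.mul_apply, hhb, hgx]⟩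
  have hUproper : U ≠ ⊤ := by
    intro htop
    refine hne (le_antisymm hG fun g hg => ?_)
    obtain ⟨a, b, hgx⟩ := hg
    obtain ⟨h, hh, hha⟩ : a ∈ U := htop ▸ Subgroup.mem_top a
    obtain ⟨h', hh', hhb⟩ := htrans b
    convert mul_mem hh' hh
    ext x
    simp [Equiv.Perm.mul_apply, hhb, hha, hgx]
  set τ : ZMod p → ZMod p := fun x => σ x - σ 0 with hτ
  have hτinj : Function.Injective τ := fun x y h => σ.injective (by simpa [hτ] using h)
  have hdiff : ∀ x y : ZMod p, ∃ a ∈ U, τ y - τ x = (a : ZMod p) * (y - x) := by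
    intro x y
    obtain ⟨g, hg, ht⟩ := hσ ![x, y]
    obtain ⟨a, b, hgx⟩ := hG hg
    refine ⟨a, hmult hg hgx, ?_⟩
    have h0 := ht 0
    have h1 := ht 1
    simp only [Matrix.cons_val, hgx] at h0 h1
    simp only [hτ, h0, h1]
    ring
  suffices hlin : ∃ c : ZMod p, ∀ x, τ x = c * x by
    obtain ⟨c, hc⟩ := hlin
    obtain ⟨a, ⟨g, hg, hga⟩, h01⟩ := hdiff 0 1
    obtain ⟨h, hh, hhb⟩ := htrans (σ 0)
    convert mul_mem hh hg
    ext x
    have hca : c = (a : ZMod p) := by simpa [hc] using h01
    have := hc x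
    rw [Equiv.Perm.mul_apply, hhb, hga, ← hca, ← this]
    simp [hτ]
  rcases eq_or_ne (Nat.card U) 1 with hk1 | hk1
  · refine ⟨1, fun x => ?_⟩
    obtain ⟨a, ha, h⟩ := hdiff 0 x
    have : a = 1 := by
      rw [Subgroup.card_eq_one.1 hk1] at ha
      exact Subgroup.mem_bot.1 ha
    simpa [this, hτ] using h
  set k := Nat.card U with hk
  have hk2 : 2 ≤ k := by
    have : 0 < k := Nat.card_pos
    omega
  have hkp : 2 * k ≤ p - 1 := by
    have hdvd := Subgroup.card_subgroup_dvd_card U
    rw [Nat.card_eq_fintype_card (α := (ZMod p)ˣ), ZMod.card_units] at hdvd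
    obtain ⟨c, hc⟩ := hdvd
    have hc1 : c ≠ 1 := by
      intro h1
      refine hUproper (Subgroup.eq_top_of_card_eq _ ?_)
      rw [Nat.card_eq_fintype_card (α := (ZMod p)ˣ), ZMod.card_units, hc, h1, mul_one]
    have hp1 : 0 < p - 1 := by
      have := (Fact.out : p.Prime).two_le
      omega
    have hc0 : c ≠ 0 := by
      intro h0; rw [hc, h0, mul_zero] at hp1; omega
    calc 2 * k ≤ c * k := Nat.mul_le_mul_right _ (by omega)
      _ = p - 1 := by rw [hc, mul_comm]
  set f := Lagrange.interpolate Finset.univ id τ with hf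
  have hfeval : ∀ x, f.eval x = τ x := fun x =>
    Lagrange.eval_interpolate_at_node (v := id) _ (Function.injective_id.injOn)
      (Finset.mem_univ x)
  have hfdeg : f.natDegree < p := by
    rcases eq_or_ne f 0 with h | h
    · simp [h, (Fact.out : p.Prime).pos]
    rw [natDegree_lt_iff_degree_lt h]
    have := Lagrange.degree_interpolate_lt (s := Finset.univ) (v := id) τ
      Function.injective_id.injOn
    rw [Finset.card_univ, ZMod.card] at this
    exact this
  -- composition with `τ` commutes with the difference operator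
  have hcomm : ∀ (h : ZMod p → ZMod p) (x : ZMod p),
      ∑ u : U, (h (τ (x + ((u : (ZMod p)ˣ) : ZMod p))) - h (τ x))
        = ∑ u : U, (h (τ x + ((u : (ZMod p)ˣ) : ZMod p)) - h (τ x)) := by
    intro h x
    have hex : ∀ u : U, ∃ v : U, τ (x + ((u : (ZMod p)ˣ) : ZMod p))
        = τ x + ((v : (ZMod p)ˣ) : ZMod p) := by
      intro u
      obtain ⟨a, ha, he⟩ := hdiff x (x + ((u : (ZMod p)ˣ) : ZMod p))
      refine ⟨⟨a * u, mul_mem ha u.2⟩, ?_⟩
      simp only [add_sub_cancel_left] at he
      simp only [Units.val_mul]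
      rw [← he]; ring
    choose v hv using hex
    have hvinj : Function.Injective v := by
      intro u u' huu
      have h1 := (hv u).trans ((congrArg (fun w : U => τ x + ((w : (ZMod p)ˣ) : ZMod p)) huu).trans
        (hv u').symm)
      exact Subtype.ext (Units.ext (add_left_cancel (hτinj h1)))
    exact Fintype.sum_bijective v (Finite.injective_iff_bijective.1 hvinj) _ _ fun u => by
      rw [hv]
  -- monomials of degree `< k` are killed
  have hker : ∀ j, j < k → ∀ y : ZMod p,
      ∑ u : U, ((y + ((u : (ZMod p)ˣ) : ZMod p)) ^ j - y ^ j) = 0 := by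
    intro j hj y
    simp only [add_pow, Finset.sum_range_succ, Finset.sum_sub_distrib]
    rw [Finset.sum_add_distrib, Finset.sum_comm]
    have : ∀ i ∈ Finset.range j, ∑ u : U,
        y ^ i * ((u : (ZMod p)ˣ) : ZMod p) ^ (j - i) * (j.choose i : ZMod p) = 0 := by
      intro i hi
      have hij := Finset.mem_range.1 hi
      rw [← Finset.sum_mul, ← Finset.mul_sum]
      have hz : ∑ u : U, ((u : (ZMod p)ˣ) : ZMod p) ^ (j - i) = 0 := by
        obtain ⟨z, hz⟩ := IsCyclic.exists_generator (α := U)
        have hzl : (((z : (ZMod p)ˣ) : ZMod p)) ^ (j - i) ≠ 1 := by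
          intro h
          have h' : z ^ (j - i) = 1 := Subtype.ext (Units.ext (by simpa using h))
          have := Nat.le_of_dvd (by omega) (orderOf_dvd_of_pow_eq_one h')
          rw [orderOf_eq_card_of_forall_mem_zpowers hz] at this
          omega
        have hshift : (((z : (ZMod p)ˣ) : ZMod p)) ^ (j - i) *
            ∑ u : U, ((u : (ZMod p)ˣ) : ZMod p) ^ (j - i)
            = ∑ u : U, ((u : (ZMod p)ˣ) : ZMod p) ^ (j - i) := by
          rw [Finset.mul_sum]
          exact Fintype.sum_equiv (Equiv.mulLeft z) _ _ fun u => by simp [mul_pow]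
        exact (mul_left_eq_self₀.1 hshift).resolve_left hzl
      rw [hz, mul_zero, zero_mul]
    rw [Finset.sum_eq_zero this]
    simp
  have hdeg1 : f.natDegree ≤ 1 := by
    by_contra! hn2
    set n := f.natDegree with hn
    -- choose the power
    set j := (k - 1) / n + 1 with hj
    have hjn1 : k ≤ j * n := by
      have := Nat.div_add_mod (k - 1) n
      have := Nat.mod_lt (k - 1) (show n > 0 by omega)
      rw [hj, add_mul, one_mul, mul_comm]
      omega
    have hjk : j < k := by
      have : (k - 1) / n < k - 1 := Nat.div_lt_self (by omega) (by omega)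
      omega
    have hjn2 : j * n < p := by
      have := Nat.div_mul_le_self (k - 1) n
      rw [hj, add_mul, one_mul]
      rcases le_or_gt k n with h | h
      · rw [Nat.div_eq_of_lt (by omega)]; simpa using hfdeg
      · omega
    have hd : (f ^ j).natDegree = j * n := natDegree_pow f j
    refine absurd (natDegree_lt_of_sum_eq_zero U (f ^ j) (by rw [hd]; exact hjn2) fun x => ?_)
      (by rw [hd, ← hk]; exact not_lt.2 hjn1)
    simp only [eval_pow, hfeval]
    rw [hcomm (fun y => y ^ j) x]
    exact hker j hjk (τ x)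
  refine ⟨f.coeff 1, fun x => ?_⟩
  have hf1 := eq_X_add_C_of_natDegree_le_one hdeg1
  have h0 : f.coeff 0 = 0 := by rw [coeff_zero_eq_eval_zero, hfeval]; simp [hτ]
  rw [← hfeval, hf1, h0]
  simp

/-- Closures of subgroups of the one-dimensional affine group. Let p be a prime and G a group of permutations of F_p lying in the affine group AGL₁(p) = {x ↦ ax + b, a ≠ 0} and containing all translations. (1) If G is a proper subgroup of AGL₁(p), then G is 2-closed: a permutation of F_p agreeing on every ordered pair of points with some element of G lies in G. (2) Every permutation of F_p agrees on every ordered pair with some element of AGL₁(p) (the 2-closure of AGL₁(p) is the symmetric group). (3) AGL₁(p) is 3-closed: a permutation agreeing on every ordered triple with some affine map is affine. -/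
theorem result (p : ℕ) [Fact p.Prime] (G : Subgroup (Equiv.Perm (ZMod p))) (hG : G ≤ Cfsg.affineGroup (ZMod p))
    (htrans : ∀ b : ZMod p, ∃ g ∈ G, ∀ x, g x = x + b) :
    (G ≠ Cfsg.affineGroup (ZMod p) → ∀ σ : Equiv.Perm (ZMod p), (∀ t : Fin 2 → ZMod p, ∃ g ∈ G, ∀ i, σ (t i) = g (t i)) → σ ∈ G) ∧
    (∀ σ : Equiv.Perm (ZMod p), (∀ t : Fin 2 → ZMod p, ∃ g ∈ Cfsg.affineGroup (ZMod p), ∀ i, σ (t i) = g (t i))) ∧
    (∀ σ : Equiv.Perm (ZMod p), (∀ t : Fin 3 → ZMod p, ∃ g ∈ Cfsg.affineGroup (ZMod p), ∀ i, σ (t i) = g (t i)) → σ ∈ Cfsg.affineGroup (ZMod p)) := by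
  classical
  refine ⟨fun hne σ hσ => ?_, fun σ t => ?_, fun σ hσ => ?_⟩
  · exact two_closed hG htrans hne hσ
  · -- two points are moved arbitrarily
    by_cases h : t 0 = t 1
    · refine ⟨Equiv.addRight (σ (t 0) - t 0), ⟨1, σ (t 0) - t 0, fun x => by simp⟩, fun i => ?_⟩
      fin_cases i <;> simp [← h]
    · have h' : (σ (t 1) - σ (t 0)) / (t 1 - t 0) ≠ 0 :=
        div_ne_zero (sub_ne_zero.2 fun e => h (σ.injective e).symm) (sub_ne_zero.2 (Ne.symm h))
      set a : ZMod p := (σ (t 1) - σ (t 0)) / (t 1 - t 0) with ha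
      refine ⟨(Equiv.mulLeft₀ a h').trans (Equiv.addRight (σ (t 0) - a * t 0)),
        ⟨Units.mk0 a h', σ (t 0) - a * t 0, fun x => by simp⟩, fun i => ?_⟩
      have key : a * (t 1 - t 0) = σ (t 1) - σ (t 0) :=
        div_mul_cancel₀ _ (sub_ne_zero.2 (Ne.symm h))
      fin_cases i
      · simp
      · simp; linear_combination -key
  · -- three points determine the ratio
    have hne : σ 1 - σ 0 ≠ 0 := sub_ne_zero.2 fun e => one_ne_zero (σ.injective e)
    refine ⟨Units.mk0 _ hne, σ 0, fun x => ?_⟩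
    obtain ⟨g, ⟨a, b, hab⟩, ht⟩ := hσ ![0, 1, x]
    have h0 := ht 0
    have h1 := ht 1
    have h2 := ht 2
    simp only [Matrix.cons_val, hab, mul_zero, zero_add, mul_one] at h0 h1 h2
    rw [Units.val_mk0, h2, h1, h0]
    ring

end Cfsg.Agent.S3518
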