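import Cfsg.Statements.S3520
import Cfsg.Agent.EqLemmas
import Cfsg.Agent.Lib.DerangeClass.TwoClasses
import Cfsg.Agent.Lib.Solvable.Basic

set_option autoImplicit false
open Cfsg

namespace Cfsg.Agent.S3520

open MulAction

/-- A non-trivial normal subgroup of a primitive group is transitive. -/
theorem transitive_of_normal {G Ω : Type*} [Group G] [MulAction G Ω] [FaithfulSMul G Ω]
    [IsPreprimitive G Ω] (N : Subgroup G) [N.Normal] (hN : N ≠ ⊥) : IsPretransitive N Ω := by
  refine IsQuasiPreprimitive.isPretransitive_of_normal (G := G) fun h => hN ?_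
  rw [Subgroup.eq_bot_iff_forall]
  intro n hn
  refine FaithfulSMul.eq_of_smul_eq_smul (α := Ω) fun a => ?_
  rw [one_smul]
  exact (Set.ext_iff.1 h a).2 trivial ⟨n, hn⟩

/-- An element commuting with a transitive subgroup and fixing a point is trivial. -/
theorem eq_one_of_fix {G Ω : Type*} [Group G] [MulAction G Ω] [FaithfulSMul G Ω] (N : Subgroup G)
    [IsPretransitive N Ω] {x : G} (hx : ∀ n ∈ N, n * x = x * n) {a : Ω} (ha : x • a = a) : x = 1 := by
  refine FaithfulSMul.eq_of_smul_eq_smul (α := Ω) fun b => ?_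
  obtain ⟨n, rfl⟩ := MulAction.exists_smul_eq N a b
  rw [one_smul]
  show x • (n : G) • a = (n : G) • a
  rw [← mul_smul, ← hx n n.2, mul_smul, ha]

/-- What exactly two classes of derangements means. -/
theorem two_classes {G Ω : Type*} [Group G] [MulAction G Ω]
    (hκ : Nat.card {c : ConjClasses G // ∃ g : G, ConjClasses.mk g = c ∧ ∀ ω : Ω, g • ω ≠ ω} = 2) :
    (∀ d e f : G, (∀ a : Ω, d • a ≠ a) → (∀ a : Ω, e • a ≠ a) → (∀ a : Ω, f • a ≠ a) →
      IsConj d e ∨ IsConj d f ∨ IsConj e f) ∧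
    ¬ ∀ d e : G, (∀ a : Ω, d • a ≠ a) → (∀ a : Ω, e • a ≠ a) → IsConj d e := by
  obtain ⟨x, y, hxy, huniv⟩ := Nat.card_eq_two_iff.1 hκ
  refine ⟨fun d e f hd he hf => ?_, fun h => hxy ?_⟩
  · have key : ∀ g : G, (∀ a : Ω, g • a ≠ a) → ConjClasses.mk g = x.1 ∨ ConjClasses.mk g = y.1 := by
      intro g hg
      have h1 : (⟨_, g, rfl, hg⟩ : {c : ConjClasses G // ∃ g : G, ConjClasses.mk g = c ∧ ∀ ω : Ω, g • ω ≠ ω})
          ∈ ({x, y} : Set _) := by rw [huniv]; trivial
      rcases h1 with h | h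
      · exact .inl (congrArg Subtype.val h)
      · exact .inr (congrArg Subtype.val h)
    rcases key d hd with h1 | h1 <;> rcases key e he with h2 | h2 <;> rcases key f hf with h3 | h3 <;>
      first
      | exact .inl (ConjClasses.mk_eq_mk_iff_isConj.1 (h1.trans h2.symm))
      | exact .inr (.inl (ConjClasses.mk_eq_mk_iff_isConj.1 (h1.trans h3.symm)))
      | exact .inr (.inr (ConjClasses.mk_eq_mk_iff_isConj.1 (h2.trans h3.symm)))
  · obtain ⟨x, g, rfl, hg⟩ := x
    obtain ⟨y, g', rfl, hg'⟩ := y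
    exact Subtype.ext (ConjClasses.mk_eq_mk_iff_isConj.2 (h g g' hg hg'))

/-- Let a finite group G act faithfully and primitively on a finite set Ω with at least two points, suppose G is not almost simple (no non-abelian simple normal subgroup with trivial centralizer), and suppose the derangements of G form exactly two conjugacy classes. Then either Ω has 3 points and G has order 3; or G has a non-trivial abelian normal subgroup N acting regularly, every non-identity element of G fixes at most one point (so, when n > 3, G is a Frobenius group with kernel N), the number n of points is odd and a point stabilizer has order (n − 1)/2; or G is 2-transitive with a non-trivial abelian regular normal subgroup and some non-identity element fixes at least two points (a non-Frobenius 2-transitive affine group). -/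
theorem result {G : Type*} [Group G] [Finite G] {Ω : Type*} [Fintype Ω] [MulAction G Ω] [FaithfulSMul G Ω] (hΩ : 2 ≤ Fintype.card Ω) (hprim : MulAction.IsPreprimitive G Ω) (hnas : ¬ ∃ T : Subgroup G, T.Normal ∧ IsSimpleGroup T ∧ ¬ IsMulCommutative T ∧ Subgroup.centralizer (T : Set G) = ⊥)
    (hκ : Nat.card {c : ConjClasses G // ∃ g : G, ConjClasses.mk g = c ∧ ∀ ω : Ω, g • ω ≠ ω} = 2) (α : Ω) :
    (Fintype.card Ω = 3 ∧ Nat.card G = 3) ∨
    ((∃ N : Subgroup G, N.Normal ∧ N ≠ ⊥ ∧ IsMulCommutative N ∧ ∀ ω : Ω, MulAction.stabilizer N ω = ⊥) ∧ (∀ g : G, g ≠ 1 → Nat.card (MulAction.fixedBy Ω g) ≤ 1) ∧ ¬ 2 ∣ Fintype.card Ω ∧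
        2 * Nat.card (MulAction.stabilizer G α) = Fintype.card Ω - 1) ∨
    ((∃ N : Subgroup G, N.Normal ∧ N ≠ ⊥ ∧ IsMulCommutative N ∧ ∀ ω : Ω, MulAction.stabilizer N ω = ⊥) ∧ MulAction.IsMultiplyPretransitive G Ω 2 ∧ ∃ g : G, g ≠ 1 ∧ 2 ≤ Nat.card (MulAction.fixedBy Ω g)) := by
  classical
  haveI : Nontrivial Ω := Fintype.one_lt_card_iff_nontrivial.1 (by omega)
  haveI := hprim
  obtain ⟨h2, hne⟩ := two_classes hκ
  haveI : Nontrivial G := by
    by_contra h
    rw [not_nontrivial_iff_subsingleton] at h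
    exact hne fun d e _ _ => by rw [Subsingleton.elim d e]
  obtain ⟨N, hNn, hN0, -, hmin⟩ := Solvable.exists_minimal_normal (N := (⊤ : Subgroup G)) top_ne_bot
  haveI := hNn
  haveI := transitive_of_normal (Ω := Ω) N hN0
  by_cases hab : ∀ x ∈ N, ∀ y ∈ N, x * y = y * x
  swap
  · exfalso
    by_cases hC : Subgroup.centralizer (N : Set G) = ⊥
    · exact DerangeClass.false_of_two_classes N hmin hN0 hab hnas hC h2
    haveI : (Subgroup.centralizer (N : Set G)).Normal := Subgroup.normal_centralizer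
    haveI := transitive_of_normal (Ω := Ω) _ hC
    refine DerangeClass.false_of_semiregular N (fun hsol => hab ?_) (fun x hx b hb => hx ?_) h2
    · obtain ⟨hc, -⟩ := Solvable.elementaryAbelian_of_minimal_normal N hN0 hmin
      exact fun x hx y hy => congrArg Subtype.val (hc.is_comm.comm ⟨x, hx⟩ ⟨y, hy⟩)
    · exact Subtype.ext (eq_one_of_fix (Subgroup.centralizer (N : Set G)) (x := (x : G))
        (fun c hc => (Subgroup.mem_centralizer_iff.1 hc x x.2).symm) hb)
  refine .inr ?_
  have hreg : ∀ n ∈ N, ∀ a : Ω, n • a = a → n = 1 := fun n hn a ha =>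
    eq_one_of_fix N (fun m hm => hab m hm n hn) ha
  have hder : ∀ n ∈ N, n ≠ 1 → ∀ a : Ω, n • a ≠ a := fun n hn h a ha => h (hreg n hn a ha)
  have hNA : ∃ N : Subgroup G, N.Normal ∧ N ≠ ⊥ ∧ IsMulCommutative N ∧ ∀ ω : Ω, MulAction.stabilizer N ω = ⊥ :=
    ⟨N, hNn, hN0, ⟨⟨fun x y => Subtype.ext (hab x x.2 y y.2)⟩⟩, fun ω => by
      rw [Subgroup.eq_bot_iff_forall]
      exact fun x hx => Subtype.ext (hreg x x.2 ω (MulAction.mem_stabilizer_iff.1 hx))⟩
  by_cases hone : ∀ n ∈ N, ∀ m ∈ N, n ≠ 1 → m ≠ 1 → IsConj n m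
  · -- transitive on the non-identity elements of the regular normal subgroup
    have htrans : MulAction.IsMultiplyPretransitive G Ω 2 := by
      refine (MulAction.is_two_pretransitive_iff (G := G) (α := Ω)).2 ?_
      intro a b c d hab' hcd
      obtain ⟨m, hm⟩ := MulAction.exists_smul_eq N a b
      obtain ⟨m', hm'⟩ := MulAction.exists_smul_eq N c d
      have hm1 : (m : G) ≠ 1 := fun h => hab' (by
        have e : (m : G) • a = b := hm
        rwa [h, one_smul] at e)
      have hm1' : (m' : G) ≠ 1 := fun h => hcd (by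
        have e : (m' : G) • c = d := hm'
        rwa [h, one_smul] at e)
      obtain ⟨g, hg⟩ := isConj_iff.1 (hone _ m.2 _ m'.2 hm1 hm1')
      obtain ⟨k, hk⟩ := MulAction.exists_smul_eq N (g • a) c
      refine ⟨k * g, by rw [mul_smul]; exact hk, ?_⟩
      have e : (m : G) • a = b := hm
      have e' : (m' : G) • c = d := hm'
      have ek : (k : G) • (g • a) = c := hk
      rw [← e, ← e', ← ek, ← hg, ← mul_smul, ← mul_smul, ← mul_smul]
      congr 1
      rw [hab _ (hNn.conj_mem _ m.2 g) _ k.2]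
      group
    refine .inr ⟨hNA, htrans, ?_⟩
    by_contra hsharp
    refine hne ?_
    obtain ⟨d₀, -, hd₀⟩ := DerangeClass.sharp_one_class htrans fun g hg a b hab' ha hb => hsharp
      ⟨g, hg, by
        haveI : Nontrivial (MulAction.fixedBy Ω g) := ⟨⟨a, ha⟩, ⟨b, hb⟩, fun e => hab' (congrArg Subtype.val e)⟩
        exact Finite.one_lt_card⟩
    exact fun d e hd he => (hd₀ d hd).symm.trans (hd₀ e he)
  -- two orbits of the stabilizer on the non-identity elements
  simp only [not_forall] at hone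
  obtain ⟨n₁, hn₁, n₂, hn₂, h11, h21, h12⟩ := hone
  have hcase : ∀ d : G, (∀ a : Ω, d • a ≠ a) → IsConj n₁ d ∨ IsConj n₂ d := fun d hd =>
    (h2 n₁ n₂ d (hder _ hn₁ h11) (hder _ hn₂ h21) hd).resolve_left h12
  have hmem : ∀ d : G, (∀ a : Ω, d • a ≠ a) → d ∈ N := by
    intro d hd
    rcases hcase d hd with h | h <;> obtain ⟨g, rfl⟩ := isConj_iff.1 h
    · exact hNn.conj_mem _ hn₁ g
    · exact hNn.conj_mem _ hn₂ g
  have hfix : ∀ g : G, g ≠ 1 → Nat.card (MulAction.fixedBy Ω g) ≤ 1 := by
    intro g hg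
    haveI : Subsingleton (MulAction.fixedBy Ω g) := ⟨fun x y => Subtype.ext (by
      by_contra hxy
      exact DerangeClass.fixed_le_one_of_mem N hreg hmem hg hxy x.2 y.2)⟩
    exact Finite.card_le_one_iff_subsingleton.2 inferInstance
  -- count the non-identity elements of the regular normal subgroup
  set H := MulAction.stabilizer G α with hH
  let pick : Bool → G := fun b => if b then n₁ else n₂
  have hpick : ∀ b, pick b ∈ N ∧ pick b ≠ 1 := by
    intro b
    cases b
    · exact ⟨hn₂, h21⟩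
    · exact ⟨hn₁, h11⟩
  let F : Bool × H → {n : N // n ≠ 1} := fun p =>
    ⟨⟨(p.2 : G) * pick p.1 * (p.2 : G)⁻¹, hNn.conj_mem _ (hpick p.1).1 _⟩, fun e =>
      (hpick p.1).2 (conj_eq_one_iff.1 (congrArg Subtype.val e))⟩
  have hFinj : Function.Injective F := by
    rintro ⟨b, h⟩ ⟨b', h'⟩ e
    have e' : (h : G) * pick b * (h : G)⁻¹ = (h' : G) * pick b' * (h' : G)⁻¹ :=
      congrArg (fun z : {n : N // n ≠ 1} => ((z : N) : G)) e
    have hbb : b = b' := by
      by_contra hbb
      have hc : IsConj (pick b) (pick b') := isConj_iff.2 ⟨(h' : G)⁻¹ * h, by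
        calc (h' : G)⁻¹ * h * pick b * ((h' : G)⁻¹ * h)⁻¹
            = (h' : G)⁻¹ * ((h : G) * pick b * (h : G)⁻¹) * h' := by group
          _ = pick b' := by rw [e']; group⟩
      cases b <;> cases b'
      · exact hbb rfl
      · exact h12 hc.symm
      · exact h12 hc
      · exact hbb rfl
    subst hbb
    refine Prod.ext rfl (Subtype.ext ?_)
    by_contra hne'
    set k : G := (h' : G)⁻¹ * h with hk
    have hk1 : k ≠ 1 := fun e1 => hne' (inv_mul_eq_one.1 e1).symm
    have hkn : k * pick b = pick b * k := by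
      rw [hk]
      calc (h' : G)⁻¹ * h * pick b = (h' : G)⁻¹ * ((h : G) * pick b * (h : G)⁻¹) * h := by group
        _ = pick b * ((h' : G)⁻¹ * h) := by rw [e']; group
    have hkα : k • α = α := MulAction.mem_stabilizer_iff.1 (mul_mem (inv_mem h'.2) h.2)
    refine DerangeClass.fixed_le_one_of_mem N hreg hmem hk1 (b := pick b • α)
      (fun e1 => hder _ (hpick b).1 (hpick b).2 α e1.symm) hkα ?_
    rw [← mul_smul, hkn, mul_smul, hkα]
  have hFsurj : Function.Surjective F := by
    rintro ⟨⟨n, hn⟩, hn1⟩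
    obtain ⟨b, hb⟩ : ∃ b, IsConj (pick b) n := by
      rcases hcase n (hder n hn fun e => hn1 (Subtype.ext e)) with h | h
      · exact ⟨true, h⟩
      · exact ⟨false, h⟩
    obtain ⟨g, hg⟩ := isConj_iff.1 hb
    obtain ⟨m, hm⟩ := MulAction.exists_smul_eq N (g • α) α
    have hm' : (m : G) • g • α = α := hm
    refine ⟨⟨b, ⟨(m : G) * g, MulAction.mem_stabilizer_iff.2 (by rw [mul_smul, hm'])⟩⟩, ?_⟩
    refine Subtype.ext (Subtype.ext ?_)
    show (m : G) * g * pick b * ((m : G) * g)⁻¹ = n
    rw [← hg, show (m : G) * g * pick b * ((m : G) * g)⁻¹ = (m : G) * (g * pick b * g⁻¹) * (m : G)⁻¹ by group,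
      hab _ m.2 _ (hNn.conj_mem _ (hpick b).1 g), mul_inv_cancel_right]
  have hcard : 2 * Nat.card H + 1 = Fintype.card Ω := by
    haveI := Fintype.ofFinite N
    have hN : Fintype.card N = Fintype.card Ω :=
      Fintype.card_congr (Equiv.ofBijective (fun n : N => (n : G) • α) ⟨fun n n' h => by
        have h3 : (n' : G)⁻¹ * n = 1 := hreg _ (mul_mem (inv_mem n'.2) n.2) α
          (by rw [mul_smul]; exact (congrArg ((n' : G)⁻¹ • ·) h).trans (inv_smul_smul _ _))
        exact Subtype.ext (inv_mul_eq_one.1 h3).symm, fun x => MulAction.exists_smul_eq N α x⟩)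
    have hF := Nat.card_congr (Equiv.ofBijective F ⟨hFinj, hFsurj⟩)
    rw [Nat.card_prod, Nat.card_eq_fintype_card (α := Bool), Fintype.card_bool,
      Nat.card_eq_fintype_card (α := {n : N // n ≠ 1}), Fintype.card_subtype_compl,
      Fintype.card_subtype_eq, hN] at hF
    omega
  refine .inl ⟨hNA, hfix, by omega, by omega⟩

end Cfsg.Agent.S3520
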