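import Cfsg.Statements.S3524
import Cfsg.Agent.EqLemmas

set_option autoImplicit false
open Cfsg

namespace Cfsg.Agent.S3524

/-- A permutation group with a base is closed at one level above the base size. Let G be a group of permutations of a set Ω and suppose some k points α₁, …, α_k are fixed simultaneously only by the identity of G (a base of size k). Then G is (k+1)-closed: a permutation of Ω that agrees on every (k+1)-tuple of points with some element of G belongs to G. -/
theorem result {Ω : Type*} (G : Subgroup (Equiv.Perm Ω)) (k : ℕ) (α : Fin k → Ω)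
    (hbase : ∀ g ∈ G, (∀ i, g (α i) = α i) → g = 1) (σ : Equiv.Perm Ω)
    (hσ : ∀ t : Fin (k + 1) → Ω, ∃ g ∈ G, ∀ i, σ (t i) = g (t i)) : σ ∈ G := by
  classical
  obtain ⟨g₀, hg₀, hg₀α⟩ : ∃ g ∈ G, ∀ i, σ (α i) = g (α i) := by
    rcases isEmpty_or_nonempty Ω with h | h
    · exact ⟨1, one_mem _, fun i => isEmptyElim (α i)⟩
    · obtain ⟨g, hg, h'⟩ := hσ (Fin.snoc α (Classical.arbitrary Ω))
      exact ⟨g, hg, fun i => by simpa using h' i.castSucc⟩
  convert hg₀
  ext x
  obtain ⟨g, hg, h'⟩ := hσ (Fin.snoc α x)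
  have hlast : σ x = g x := by simpa using h' (Fin.last k)
  have : g = g₀ := by
    have h1 := hbase (g₀⁻¹ * g) (mul_mem (inv_mem hg₀) hg) fun i => by
      have hi : σ (α i) = g (α i) := by simpa using h' i.castSucc
      rw [Equiv.Perm.mul_apply, ← hi, hg₀α i]
      simp
    exact (inv_mul_eq_one.1 h1).symm
  rw [hlast, this]

end Cfsg.Agent.S3524
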