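import Cfsg.Statements.S3532
import Cfsg.Agent.Lib.Spectrum.Basic
import Cfsg.Agent.S2475

set_option autoImplicit false
open Cfsg

namespace Cfsg.Agent.S3532


section Affine

variable {E : Type} [Field E]

/-- The scaling action of a group of units on the additive group. -/
def scale (U : Subgroup Eˣ) : U →* MulAut (Multiplicative E) where
  toFun a := AddEquiv.toMultiplicative
    { toFun := fun x => ((a : Eˣ) : E) * x
      invFun := fun x => (((a : Eˣ)⁻¹ : Eˣ) : E) * x
      left_inv := fun x => by simp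
      right_inv := fun x => by simp
      map_add' := fun x y => mul_add _ _ _ }
  map_one' := by
    ext x
    apply Multiplicative.toAdd.injective
    simp
  map_mul' a b := by
    ext x
    apply Multiplicative.toAdd.injective
    simp [mul_assoc]

/-- The affine Frobenius group. -/
abbrev Aff (U : Subgroup Eˣ) : Type := Multiplicative E ⋊[scale U] U

theorem pow_eq (U : Subgroup Eˣ) (g : Aff U) (k : ℕ) :
    (g ^ k).right = g.right ^ k ∧ Multiplicative.toAdd (g ^ k).left
      = (∑ i ∈ Finset.range k, (((g.right : Eˣ) : E)) ^ i) * Multiplicative.toAdd g.left := by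
  induction k with
  | zero => simp
  | succ k ih =>
    refine ⟨by rw [pow_succ, SemidirectProduct.mul_right, ih.1, pow_succ], ?_⟩
    rw [pow_succ, SemidirectProduct.mul_left, toAdd_mul, ih.1, ih.2, Finset.sum_range_succ,
      add_mul]
    simp [scale]

variable [Finite E]

instance (U : Subgroup Eˣ) : Finite (Aff U) :=
  Finite.of_equiv _ SemidirectProduct.equivProd.symm

theorem aff_solvable (U : Subgroup Eˣ) : Group.IsSolvable (Aff U) :=
  Group.isSolvable_of_ker_le_range (SemidirectProduct.inl (φ := scale U))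
    SemidirectProduct.rightHom (le_of_eq SemidirectProduct.range_inl_eq_ker_rightHom.symm)

theorem aff_spectrum (p : ℕ) [Fact p.Prime] [CharP E p] (U : Subgroup Eˣ) :
    Set.range (orderOf : Aff U → ℕ) = {m | m ∣ p ∨ m ∣ Nat.card U} := by
  ext m
  constructor
  · rintro ⟨g, rfl⟩
    by_cases ha : g.right = 1
    · left
      apply orderOf_dvd_of_pow_eq_one
      refine SemidirectProduct.ext ?_ (by rw [(pow_eq U g p).1, ha, one_pow]; rfl)
      apply Multiplicative.toAdd.injective
      rw [(pow_eq U g p).2, ha]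
      simp
    · right
      refine dvd_trans (orderOf_dvd_of_pow_eq_one ?_) (orderOf_dvd_natCard g.right)
      refine SemidirectProduct.ext ?_
        (by rw [(pow_eq U g _).1, pow_orderOf_eq_one]; rfl)
      apply Multiplicative.toAdd.injective
      have hne : (((g.right : Eˣ) : E)) ≠ 1 := fun h => ha (Subtype.ext (Units.ext h))
      rw [(pow_eq U g _).2, geom_sum_eq hne, ← Units.val_pow_eq_pow_val, ← Subgroup.coe_pow,
        pow_orderOf_eq_one]
      simp
  · intro hm
    have : IsCyclic U := inferInstance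
    rcases hm with hm | hm
    · rcases (Nat.dvd_prime (Fact.out : p.Prime)).1 hm with rfl | rfl
      · exact ⟨1, orderOf_one⟩
      · refine ⟨SemidirectProduct.inl (Multiplicative.ofAdd 1), ?_⟩
        rw [orderOf_injective _ SemidirectProduct.inl_injective]
        apply orderOf_eq_prime
        · apply Multiplicative.toAdd.injective
          simp
        · intro h
          exact one_ne_zero (congrArg Multiplicative.toAdd h)
    · obtain ⟨z, hz⟩ := IsCyclic.exists_ofOrder_eq_natCard (α := U)
      refine ⟨SemidirectProduct.inr (z ^ (orderOf z / m)), ?_⟩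
      rw [orderOf_injective _ SemidirectProduct.inr_injective]
      exact orderOf_pow_orderOf_div (orderOf_pos z).ne' (hz.symm ▸ hm)

end Affine

theorem exists_aff (p n N : ℕ) [Fact p.Prime] (hn : n ≠ 0) (hN : N ∣ p ^ n - 1) :
    ∃ (H : Type) (_ : Group H) (_ : Finite H), Group.IsSolvable H ∧
      Set.range (orderOf : H → ℕ) = {m | m ∣ p ∨ m ∣ N} := by
  obtain ⟨z, hz⟩ := IsCyclic.exists_ofOrder_eq_natCard (α := (GaloisField p n)ˣ)
  rw [Nat.card_units, GaloisField.card p n hn] at hz
  set U := Subgroup.zpowers (z ^ (orderOf z / N)) with hU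
  have hcard : Nat.card U = N := by
    rw [hU, Nat.card_zpowers]
    exact orderOf_pow_orderOf_div (orderOf_pos z).ne' (hz.symm ▸ hN)
  exact ⟨Aff U, inferInstance, inferInstance, aff_solvable U, by rw [aff_spectrum p U, hcard]⟩

/-- Let q ≥ 4 be a prime power and L = PSL(2,q). There is a finite solvable group with the same set of element orders as L × L (so L × L is not determined by its spectrum). -/
theorem result {F : Type*} [Field F] [Fintype F] (hF : 4 ≤ Fintype.card F) :
    ∃ (H : Type) (_ : Group H) (_ : Finite H), Group.IsSolvable H ∧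
      Set.range (orderOf : H → ℕ) = Set.range (orderOf : Matrix.ProjectiveSpecialLinearGroup (Fin 2) F × Matrix.ProjectiveSpecialLinearGroup (Fin 2) F → ℕ) := by
  obtain ⟨p, hp⟩ := CharP.exists F
  have : Fact p.Prime := ⟨CharP.char_is_prime F p⟩
  obtain ⟨n, -, hn⟩ := FiniteField.card F p
  set q := Fintype.card F with hq
  set d := Nat.gcd 2 (q - 1) with hd
  have hspec := S2475.result p hF
  have hd1 : d ∣ q - 1 := Nat.gcd_dvd_right _ _
  have hd2 : d ∣ q + 1 := by
    have h := Nat.dvd_add hd1 (Nat.gcd_dvd_left 2 (q - 1))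
    rwa [show q - 1 + 2 = q + 1 by omega] at h
  obtain ⟨A, _, _, hAs, hA⟩ := exists_aff p n ((q - 1) / d) n.ne_zero
    (hn ▸ Nat.div_dvd_of_dvd hd1)
  obtain ⟨B, _, _, hBs, hB⟩ := exists_aff p (2 * n) ((q + 1) / d) (by simp)
    (by
      refine (Nat.div_dvd_of_dvd hd2).trans ?_
      rw [two_mul, pow_add, ← hn]
      exact ⟨q - 1, by rw [← Nat.sq_sub_sq q 1 |>.trans rfl, one_pow, sq]⟩)
  refine ⟨A × B, inferInstance, inferInstance, inferInstance, ?_⟩
  ext m
  rw [Spectrum.mem_range_orderOf_prod, Spectrum.mem_range_orderOf_prod, hA, hB, hspec]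
  simp only [Set.mem_ofPred_eq]
  constructor
  · rintro ⟨a, ha, b, hb, rfl⟩
    exact ⟨a, ha.imp_right Or.inl, b, hb.imp_right Or.inr, rfl⟩
  · rintro ⟨a, ha | ha | ha, b, hb | hb | hb, rfl⟩
    · exact ⟨a, Or.inl ha, b, Or.inl hb, rfl⟩
    · exact ⟨b, Or.inr hb, a, Or.inl ha, Nat.lcm_comm _ _⟩
    · exact ⟨a, Or.inl ha, b, Or.inr hb, rfl⟩
    · exact ⟨a, Or.inr ha, b, Or.inl hb, rfl⟩
    · exact ⟨_, Or.inr (Nat.lcm_dvd ha hb), 1, Or.inl (one_dvd _), Nat.lcm_one_right _⟩
    · exact ⟨a, Or.inr ha, b, Or.inr hb, rfl⟩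
    · exact ⟨b, Or.inl hb, a, Or.inr ha, Nat.lcm_comm _ _⟩
    · exact ⟨b, Or.inr hb, a, Or.inr ha, Nat.lcm_comm _ _⟩
    · exact ⟨1, Or.inl (one_dvd _), _, Or.inr (Nat.lcm_dvd ha hb), Nat.lcm_one_left _⟩

end Cfsg.Agent.S3532
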