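import Cfsg.Statements.S3548
import Cfsg.Agent.Lib.Derangement.Basic

set_option autoImplicit false
open Cfsg

namespace Cfsg.Agent.S3548

/-- Let G act faithfully and transitively on a finite set with n ≥ 2 points and let D be the subgroup generated by the derangements. Then the index of D in G divides n − 1, and if it equals n − 1 then n is a prime power. -/
theorem result {G Ω : Type*} [Group G] [Finite G] [MulAction G Ω] [FaithfulSMul G Ω] [Finite Ω]
    (htrans : MulAction.IsPretransitive G Ω) (hΩ : 2 ≤ Nat.card Ω) :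
    (Subgroup.closure {g : G | ∀ ω : Ω, g • ω ≠ ω}).index ∣ Nat.card Ω - 1 ∧
    ((Subgroup.closure {g : G | ∀ ω : Ω, g • ω ≠ ω}).index = Nat.card Ω - 1 → IsPrimePow (Nat.card Ω)) := by
  classical
  have hD := Derangement.derGrp_transitive (G := G) (Ω := Ω)
  obtain ⟨a⟩ : Nonempty Ω := (Nat.card_pos_iff.1 (by omega)).1
  set D := Derangement.derGrp G Ω with hDdef
  set H := MulAction.stabilizer G a with hHdef
  have hi : (D.subgroupOf H).index = D.index := Derangement.stabilizer_derGrp_index a H le_rfl
  have hcardX : Nat.card (SubMulAction.ofStabilizer G a) = Nat.card Ω - 1 :=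
    SubMulAction.nat_card_ofStabilizer_eq G a
  have hle : ∀ x : SubMulAction.ofStabilizer G a,
      MulAction.stabilizer H x ≤ D.subgroupOf H := by
    intro x h hx
    rw [Subgroup.mem_subgroupOf]
    refine Derangement.mem_of_two_fixed (a := a) (b := x.1) (fun h => x.2 h.symm) h.2 ?_
    exact congrArg Subtype.val hx
  refine ⟨hi ▸ hcardX ▸ Derangement.dvd_card_of_stabilizer_le (D.subgroupOf H) hle,
    fun heq => ?_⟩
  -- the equality case
  have horb : ∀ x y : SubMulAction.ofStabilizer G a, y ∈ MulAction.orbit H x := by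
    intro x y
    have h2 : Nat.card (SubMulAction.ofStabilizer G a) ≤ Nat.card (MulAction.orbit H x) := by
      rw [hcardX, ← heq, ← hi, Nat.card_congr (MulAction.orbitEquivQuotientStabilizer H x)]
      exact Nat.le_of_dvd Nat.card_pos (Subgroup.index_dvd_of_le (hle x))
    have := Set.eq_of_subset_of_ncard_le (Set.subset_univ (MulAction.orbit H x))
      (by rwa [Set.ncard_univ, ← Nat.card_coe_set_eq]) (Set.toFinite _)
    rw [this]; trivial
  have hstab : ∀ x : SubMulAction.ofStabilizer G a,
      MulAction.stabilizer H x = D.subgroupOf H := by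
    intro x
    refine Subgroup.eq_of_le_of_card_ge (hle x) ?_
    have h1 := Subgroup.index_mul_card (MulAction.stabilizer H x)
    have h2 := Subgroup.index_mul_card (D.subgroupOf H)
    have h3 : (MulAction.stabilizer H x).index = (D.subgroupOf H).index := by
      have : MulAction.IsPretransitive H (SubMulAction.ofStabilizer G a) :=
        ⟨fun x y => MulAction.mem_orbit_iff.1 (horb x y)⟩
      rw [MulAction.index_stabilizer_of_transitive, hcardX, ← heq, hi]
    rw [h3] at h1
    have : 0 < (D.subgroupOf H).index := Nat.pos_of_ne_zero Subgroup.index_ne_zero_of_finite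
    exact le_of_eq (Nat.eq_of_mul_eq_mul_left this (h2.trans h1.symm))
  have htriv : ∀ g ∈ D, g • a = a → g = 1 := by
    intro g hgD hga
    refine eq_of_smul_eq_smul fun x : Ω => ?_
    rw [one_smul]
    by_cases hx : x = a
    · rw [hx, hga]
    have : (⟨g, hga⟩ : H) ∈ MulAction.stabilizer H
        (⟨x, hx⟩ : SubMulAction.ofStabilizer G a) := by
      rw [hstab]; exact hgD
    exact congrArg Subtype.val this
  have hcardD : Nat.card D = Nat.card Ω := by
    refine Nat.card_congr (Equiv.ofBijective (fun d : D => d • a) ⟨?_, fun y => ?_⟩)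
    · intro d e (hde : (d : G) • a = (e : G) • a)
      have := htriv ((e : G)⁻¹ * d) (mul_mem (inv_mem e.2) d.2)
        (by rw [mul_smul, hde, inv_smul_smul])
      exact Subtype.ext (inv_mul_eq_one.1 this).symm
    · exact MulAction.exists_smul_eq D a y
  obtain ⟨p, hp, hpd⟩ := Nat.exists_prime_and_dvd (show Nat.card D ≠ 1 by omega)
  have := Fact.mk hp
  obtain ⟨d₁, hd₁⟩ := exists_prime_orderOf_dvd_card' p hpd
  have hne : ∀ d : D, d ≠ 1 → (d : G) • a ≠ a := fun d hd h => hd (Subtype.ext (htriv _ d.2 h))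
  have hallp : ∀ d : D, d ≠ 1 → orderOf d = p := by
    intro d hd
    have hd₁' : d₁ ≠ 1 := by
      intro h; rw [h, orderOf_one] at hd₁; exact hp.ne_one hd₁.symm
    obtain ⟨h, hh⟩ := MulAction.mem_orbit_iff.1
      (horb ⟨(d₁ : G) • a, hne d₁ hd₁'⟩ ⟨(d : G) • a, hne d hd⟩)
    have hh' : (h : G) • (d₁ : G) • a = (d : G) • a := congrArg Subtype.val hh
    have hconjD : (h : G) * d₁ * (h : G)⁻¹ ∈ D :=
      Derangement.derGrp_normal.conj_mem _ d₁.2 _
    have hha : (h : G)⁻¹ • a = a := inv_smul_eq_iff.2 h.2.symm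
    have heqd : (h : G) * d₁ * (h : G)⁻¹ = d := by
      have := htriv ((d : G)⁻¹ * ((h : G) * d₁ * (h : G)⁻¹)) (mul_mem (inv_mem d.2) hconjD)
        (by rw [mul_smul, mul_smul, mul_smul, hha, hh', inv_smul_smul])
      exact (inv_mul_eq_one.1 this).symm
    have := orderOf_injective (MulAut.conj (h : G)).toMonoidHom (MulEquiv.injective _) (d₁ : G)
    rw [← Subgroup.orderOf_coe, ← heqd, ← hd₁, ← Subgroup.orderOf_coe]
    simpa using this
  have hpg : IsPGroup p D := fun d => by
    rcases eq_or_ne d 1 with rfl | hd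
    · exact ⟨0, by simp⟩
    · exact ⟨1, by rw [pow_one, ← hallp d hd, pow_orderOf_eq_one]⟩
  obtain ⟨k, hk⟩ := IsPGroup.iff_card.1 hpg
  rw [hcardD] at hk
  refine (isPrimePow_nat_iff _).2 ⟨p, k, hp, ?_, hk.symm⟩
  rcases Nat.eq_zero_or_pos k with rfl | hk0
  · simp at hk; omega
  · exact hk0

end Cfsg.Agent.S3548
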