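import Cfsg.Statements.S3549
import Cfsg.Agent.Lib.Derangement.Basic

set_option autoImplicit false
open Cfsg
open scoped Pointwise

namespace Cfsg.Agent.S3549

/-- Let G act faithfully, transitively but imprimitively on a finite set with n points, and let D be the subgroup generated by the derangements. Then the index of D in G is at most √n − 1. -/
theorem result {G Ω : Type*} [Group G] [Finite G] [MulAction G Ω] [FaithfulSMul G Ω] [Finite Ω]
    (htrans : MulAction.IsPretransitive G Ω) (himp : ¬ MulAction.IsPreprimitive G Ω) :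
    ((Subgroup.closure {g : G | ∀ ω : Ω, g • ω ≠ ω}).index : ℝ) ≤ Real.sqrt (Nat.card Ω) - 1 := by
  classical
  obtain ⟨B, hB, hBns, hBnu⟩ : ∃ B : Set Ω, MulAction.IsBlock G B ∧ ¬ B.Subsingleton ∧
      B ≠ Set.univ := by
    by_contra hcon
    refine himp { toIsPretransitive := htrans, isTrivialBlock_of_isBlock := fun {B} hB => ?_ }
    by_contra htriv
    exact hcon ⟨B, hB, fun h => htriv (Or.inl h), fun h => htriv (Or.inr h)⟩
  obtain ⟨a, haB⟩ : B.Nonempty := (Set.not_subsingleton_iff.1 hBns).nonempty
  set D := Derangement.derGrp G Ω with hDdef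
  have hD := Derangement.derGrp_transitive (G := G) (Ω := Ω)
  set H := MulAction.stabilizer G a with hHdef
  set K := MulAction.stabilizer G B with hKdef
  have hmeet : ∀ {g h : G} {x : Ω}, x ∈ g • B → x ∈ h • B → g • B = h • B := by
    intro g h x hg hh
    by_contra hne
    exact Set.disjoint_left.1 (hB hne) hg hh
  have hHK : H ≤ K := fun h hh => by
    have h1 : a ∈ h • B := by
      rw [Set.mem_smul_set_iff_inv_smul_mem, inv_smul_eq_iff.2 (MulAction.mem_stabilizer_iff.1 hh).symm]
      exact haB
    have h2 : a ∈ (1 : G) • B := by rwa [one_smul]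
    exact MulAction.mem_stabilizer_iff.2 (by rw [hmeet h1 h2, one_smul])
  -- `i` divides `|B| - 1`
  let X : SubMulAction H Ω :=
    { carrier := B \ {a}
      smul_mem' := fun h x hx => by
        refine ⟨?_, fun hxa => hx.2 ?_⟩
        · rw [← MulAction.mem_stabilizer_iff.1 (hHK h.2)]
          exact Set.smul_mem_smul_set hx.1
        · have hxa' : (h : G) • x = a := hxa
          have ha : (h : G) • a = a := h.2
          rw [Set.mem_singleton_iff]
          exact MulAction.injective (h : G) (hxa'.trans ha.symm) }
  have hiX : D.index ∣ B.ncard - 1 := by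
    have hcard : Nat.card X = B.ncard - 1 := by
      rw [← Set.ncard_diff_singleton_of_mem haB]
      exact Nat.card_coe_set_eq _
    rw [← hcard, ← Derangement.stabilizer_derGrp_index a H le_rfl]
    refine Derangement.dvd_card_of_stabilizer_le _ fun x h hx => ?_
    rw [Subgroup.mem_subgroupOf]
    exact Derangement.mem_of_two_fixed (a := a) (b := x.1) (fun h => x.2.2 h.symm) h.2
      (congrArg Subtype.val hx)
  -- `i` divides `(number of blocks) - 1`
  let Y : SubMulAction K (Set Ω) :=
    { carrier := MulAction.orbit G B \ {B}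
      smul_mem' := fun k C hC => by
        refine ⟨?_, fun hkC => hC.2 ?_⟩
        · exact MulAction.mem_orbit_of_mem_orbit (k : G) hC.1
        · have h1 : (k : G) • C = B := hkC
          have h2 : (k : G) • B = B := k.2
          rw [Set.mem_singleton_iff]
          exact MulAction.injective (k : G) (h1.trans h2.symm) }
  -- an element outside `D` fixing a translate of `B` has a fixed point in it
  have hfixin : ∀ (c g : G), g ∉ D → g • (c • B) = c • B → ∃ x ∈ c • B, g • x = x := by
    intro c g hg hgC
    set S := MulAction.stabilizer G (c • B) with hSdef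
    let Z : SubMulAction S Ω :=
      { carrier := c • B
        smul_mem' := fun k x hx => by
          have h2 : (k : G) • (c • B) = c • B := k.2
          rw [← h2]; exact Set.smul_mem_smul_set hx }
    have : Nonempty Z := ⟨⟨c • a, Set.smul_mem_smul_set haB⟩⟩
    have hLtrans : MulAction.IsPretransitive (D.subgroupOf S) Z := by
      refine ⟨fun x y => ?_⟩
      obtain ⟨d, hd⟩ := MulAction.exists_smul_eq D x.1 y.1
      have hd' : (d : G) • x.1 = y.1 := hd
      have hdS : (d : G) ∈ S := by
        refine MulAction.mem_stabilizer_iff.2 ?_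
        have h1 : y.1 ∈ ((d : G) * c) • B := by
          rw [mul_smul, ← hd']; exact Set.smul_mem_smul_set x.2
        have h2 : y.1 ∈ c • B := y.2
        rw [smul_smul]
        exact hmeet h1 h2
      exact ⟨⟨⟨d, hdS⟩, d.2⟩, Subtype.ext hd'⟩
    have h1 : Nat.card (MulAction.fixedBy Z (⟨g, hgC⟩ : S)) = 1 := by
      refine Derangement.card_fixedBy_eq_one_of_le_one (D.subgroupOf S) (fun k hk => ?_) ?_
      · refine le_trans (Nat.card_le_card_of_injective
          (fun z : MulAction.fixedBy Z k =>
            (⟨z.1.1, congrArg Subtype.val z.2⟩ : MulAction.fixedBy Ω (k : G)))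
          fun z w h => Subtype.ext (Subtype.ext (congrArg Subtype.val h :))) ?_
        exact le_of_eq (Derangement.card_fixedBy_eq_one_of_notMem (Subgroup.mem_subgroupOf.not.1 hk))
      · exact Subgroup.mem_subgroupOf.not.2 hg
    obtain ⟨-, ⟨z⟩⟩ := Nat.card_eq_one_iff_unique.1 h1
    exact ⟨z.1.1, z.1.2, congrArg Subtype.val z.2⟩
  have hiY : D.index ∣ (MulAction.orbit G B).ncard - 1 := by
    have hcard : Nat.card Y = (MulAction.orbit G B).ncard - 1 := by
      rw [← Set.ncard_diff_singleton_of_mem (MulAction.mem_orbit_self B)]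
      exact Nat.card_coe_set_eq _
    rw [← hcard, ← Derangement.stabilizer_derGrp_index a K hHK]
    refine Derangement.dvd_card_of_stabilizer_le _ fun C k hk => ?_
    rw [Subgroup.mem_subgroupOf]
    by_contra hkD
    obtain ⟨c, hc⟩ := MulAction.mem_orbit_iff.1 C.2.1
    have hkC : (k : G) • C.1 = C.1 := congrArg Subtype.val hk
    obtain ⟨x, hx, hkx⟩ := hfixin 1 k hkD (by rw [one_smul]; exact k.2)
    obtain ⟨y, hy, hky⟩ := hfixin c k hkD (by rw [hc]; exact hkC)
    have hxy : x ≠ y := by
      rintro rfl
      exact C.2.2 (by rw [Set.mem_singleton_iff, ← hc, ← hmeet hx hy, one_smul])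
    exact hkD (Derangement.mem_of_two_fixed hxy hkx hky)
  have hn := hB.ncard_block_mul_ncard_orbit_eq ⟨a, haB⟩
  have hb : 2 ≤ B.ncard := (Set.one_lt_ncard_iff_nontrivial).2 (Set.not_subsingleton_iff.1 hBns)
  have hm : 2 ≤ (MulAction.orbit G B).ncard := by
    by_contra hc
    have hlt : B.ncard < Nat.card Ω := by
      rw [← Set.ncard_univ]
      exact Set.ncard_lt_ncard (Set.ssubset_univ_iff.2 hBnu)
    have : (MulAction.orbit G B).ncard ≤ 1 := by omega
    have := Nat.mul_le_mul_left B.ncard this
    omega
  have h1 : D.index + 1 ≤ B.ncard := by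
    have := Nat.le_of_dvd (by omega) hiX; omega
  have h2 : D.index + 1 ≤ (MulAction.orbit G B).ncard := by
    have := Nat.le_of_dvd (by omega) hiY; omega
  have h3 : (D.index + 1) * (D.index + 1) ≤ Nat.card Ω := hn ▸ Nat.mul_le_mul h1 h2
  rw [le_sub_iff_add_le]
  refine Real.le_sqrt_of_sq_le ?_
  have h4 : ((D.index + 1) * (D.index + 1) : ℝ) ≤ (Nat.card Ω : ℝ) := by exact_mod_cast h3
  rw [sq]; exact h4

end Cfsg.Agent.S3549
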