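import Cfsg.Statements.S3550
import Cfsg.Agent.Lib.DerangeIndex.CoreAll
-- import your own Cfsg.Agent.* helpers here

set_option autoImplicit false
open Cfsg

namespace Cfsg.Agent.S3550

/-- Let G act faithfully and primitively on a finite set with n ≥ 2 points and suppose G has no non-trivial abelian normal subgroup (G is not of affine type). Let D be the subgroup generated by the derangements. Then the index of D in G is at most √n − 1. -/
theorem result {G Ω : Type*} [Group G] [Finite G] [MulAction G Ω] [FaithfulSMul G Ω] [Finite Ω]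
    (hprim : MulAction.IsPreprimitive G Ω) (hΩ : 2 ≤ Nat.card Ω) (hna : ∀ N : Subgroup G, N.Normal → IsMulCommutative ↥N → N = ⊥) :
    ((Subgroup.closure {g : G | ∀ ω : Ω, g • ω ≠ ω}).index : ℝ) ≤ Real.sqrt (Nat.card Ω) - 1 := by
  have := hprim.toIsPretransitive
  have h4 : 4 ≤ Nat.card Ω := by
    by_contra hlt
    push Not at hlt
    have hinj : Function.Injective (MulAction.toPermHom G Ω) := fun a b h =>
      FaithfulSMul.eq_of_smul_eq_smul fun ω : Ω => congrFun (congrArg DFunLike.coe h) ω
    have hsqf : Squarefree (Nat.card G) := by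
      refine Squarefree.squarefree_of_dvd (Subgroup.card_dvd_of_injective _ hinj) ?_
      rw [Nat.card_perm]
      obtain h | h : Nat.card Ω = 2 ∨ Nat.card Ω = 3 := by omega
      · rw [h]; exact Nat.prime_two.squarefree
      · rw [h, show Nat.factorial 3 = 2 * 3 from rfl, Nat.squarefree_mul (by norm_num)]
        exact ⟨Nat.prime_two.squarefree, Nat.prime_three.squarefree⟩
    have := IsZGroup.of_squarefree hsqf
    have := IsZGroup.isCyclic_commutator (G := G)
    have h0 := hna (commutator G) inferInstance IsCyclic.isMulCommutative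
    rw [commutator_def] at h0
    have htop : IsMulCommutative ↥(⊤ : Subgroup G) :=
      ⟨⟨fun x y => Subtype.ext (commutatorElement_eq_one_iff_mul_comm.1
        ((Subgroup.eq_bot_iff_forall _).1 h0 _
          (Subgroup.commutator_mem_commutator x.2 y.2)))⟩⟩
    have h1 := hna ⊤ inferInstance htop
    have : Nontrivial Ω := Finite.one_lt_card_iff_nontrivial.1 (by omega)
    obtain ⟨a, b, hab⟩ := exists_pair_ne Ω
    obtain ⟨g, hg⟩ := MulAction.exists_smul_eq G a b
    rw [(Subgroup.eq_bot_iff_forall _).1 h1 g (Subgroup.mem_top g), one_smul] at hg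
    exact hab hg
  rcases Cfsg.Agent.DerangeIndex.index_succ_sq_le_all (G := G) h4 with ⟨N, h1, h2, h3⟩ | h
  · exact absurd (hna N h1 h2) h3
  · have h' : ((Subgroup.closure {g : G | ∀ ω : Ω, g • ω ≠ ω}).index : ℝ) + 1 ≤
        Real.sqrt (Nat.card Ω) := by
      rw [Real.le_sqrt (by positivity) (by positivity)]
      exact_mod_cast h
    linarith

end Cfsg.Agent.S3550
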