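import Cfsg.Statements.S3554
import Cfsg.Agent.EqLemmas

set_option autoImplicit false
open Cfsg

namespace Cfsg.Agent.S3554

/-- Let G act faithfully and transitively on a finite set and suppose G has a non-trivial cyclic normal subgroup. Then some element of G of prime order fixes no point. -/
theorem result {G Ω : Type*} [Group G] [Finite G] [MulAction G Ω] [FaithfulSMul G Ω] [Finite Ω]
    (htrans : MulAction.IsPretransitive G Ω) (C : Subgroup G) (hC : C.Normal) (hC1 : C ≠ ⊥) (hcyc : IsCyclic ↥C) :
    ∃ g : G, (orderOf g).Prime ∧ ∀ ω : Ω, g • ω ≠ ω := by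
  classical
  obtain ⟨p, hp, hpdvd⟩ := Nat.exists_prime_and_dvd
    (fun h : Nat.card C = 1 => hC1 (Subgroup.card_eq_one.1 h))
  have := Fact.mk hp
  obtain ⟨c, hc⟩ := exists_prime_orderOf_dvd_card' p hpdvd
  have hcG : orderOf (c : G) = p := by rw [Subgroup.orderOf_coe, hc]
  refine ⟨c, hcG ▸ hp, fun ω hω => ?_⟩
  have hall : ∀ x : Ω, (c : G) • x = x := by
    intro x
    obtain ⟨g, rfl⟩ := MulAction.exists_smul_eq G ω x
    -- the conjugate lies in the unique subgroup of order `p`
    have hconj : g⁻¹ * (c : G) * g ∈ C := by simpa using hC.conj_mem (c : G) c.2 g⁻¹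
    have hord : orderOf (⟨g⁻¹ * (c : G) * g, hconj⟩ : C) = p := by
      rw [← Subgroup.orderOf_coe, Subgroup.coe_mk, ← hcG]
      have := orderOf_injective (MulAut.conj g⁻¹).toMonoidHom (MulEquiv.injective _) (c : G)
      simpa using this
    have hmem : (⟨g⁻¹ * (c : G) * g, hconj⟩ : C) ∈ Subgroup.zpowers c := by
      have : Fintype C := Fintype.ofFinite _
      have hsub : (Subgroup.zpowers c : Set C).toFinset
          ⊆ Finset.univ.filter (fun x : C => x ^ p = 1) := by
        intro x hx
        obtain ⟨n, rfl⟩ := Subgroup.mem_zpowers_iff.1 (Set.mem_toFinset.1 hx)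
        simp only [Finset.mem_filter, Finset.mem_univ, true_and]
        rw [← zpow_natCast, ← zpow_mul, mul_comm, zpow_mul, zpow_natCast, ← hc,
          pow_orderOf_eq_one, one_zpow]
      have heq := Finset.eq_of_subset_of_card_le hsub (by
        rw [Set.toFinset_card, ← Nat.card_eq_fintype_card, SetLike.coe_sort_coe, Nat.card_zpowers, hc]
        exact IsCyclic.card_pow_eq_one_le hp.pos)
      rw [← SetLike.mem_coe, ← Set.mem_toFinset, heq]
      simp only [Finset.mem_filter, Finset.mem_univ, true_and]
      exact hord ▸ pow_orderOf_eq_one _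
    obtain ⟨n, hn⟩ := Subgroup.mem_zpowers_iff.1 hmem
    have hst : g⁻¹ * (c : G) * g ∈ MulAction.stabilizer G ω := by
      have : (c : G) ^ n = g⁻¹ * (c : G) * g := by simpa using congrArg Subtype.val hn
      rw [← this]
      exact zpow_mem (MulAction.mem_stabilizer_iff.2 hω) n
    simpa [MulAction.mem_stabilizer_iff, mul_smul, inv_smul_eq_iff] using hst
  have : (c : G) = 1 := eq_of_smul_eq_smul fun x : Ω => by rw [one_smul, hall x]
  rw [this, orderOf_one] at hcG
  exact hp.ne_one hcG.symm

end Cfsg.Agent.S3554
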