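import Cfsg.Statements.S3555
import Cfsg.Agent.EqLemmas
-- import your own Cfsg.Agent.* helpers here

set_option autoImplicit false
open Cfsg

namespace Cfsg.Agent.S3555

open Classical in
/-- If every derangement is an involution, a non-derangement other than `1` fixes exactly one point. -/
theorem eq_of_fix {G Ω : Type*} [Group G] [Finite G] [MulAction G Ω] [FaithfulSMul G Ω] [Finite Ω]
    (htrans : MulAction.IsPretransitive G Ω) (hinv : ∀ g : G, (∀ ω : Ω, g • ω ≠ ω) → orderOf g = 2)
    {g : G} (hg : g ≠ 1) {a b : Ω} (ha : g • a = a) (hb : g • b = b) : a = b := by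
  have := Fintype.ofFinite G
  have := Fintype.ofFinite Ω
  let P : G → Finset Ω := fun g => Finset.univ.filter fun a => g • a = a
  let n : ℤ := Fintype.card Ω
  let φ : G → ℤ := fun g => (((P g).card : ℤ) - 1) * (((P g).card : ℤ) - n)
  -- transitivity: the fixed point numbers add up to `|G|`
  have hsum : ∑ g : G, ((P g).card : ℤ) = Fintype.card G := by
    have h1 := MulAction.sum_card_fixedBy_eq_card_orbits_mul_card_group G Ω
    have : Subsingleton (MulAction.orbitRel.Quotient G Ω) :=
      MulAction.pretransitive_iff_subsingleton_quotient G Ω |>.1 htrans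
    have : Nonempty (MulAction.orbitRel.Quotient G Ω) := ⟨Quotient.mk'' a⟩
    rw [Fintype.card_eq_one_iff.2 ⟨Classical.arbitrary _, fun x => Subsingleton.elim _ _⟩,
      one_mul] at h1
    rw [← h1, Nat.cast_sum]
    refine Finset.sum_congr rfl fun g _ => ?_
    rw [← Nat.card_eq_fintype_card, ← Fintype.card_coe, ← Nat.card_eq_fintype_card]
    exact congrArg Nat.cast (Nat.card_congr (Equiv.subtypeEquivRight fun x => by simp [P]))
  -- swapped pairs against fixed pairs
  let S : G → Finset (Ω × Ω) := fun g =>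
    Finset.univ.filter fun p => p.1 ≠ p.2 ∧ g • p.1 = p.2 ∧ g • p.2 = p.1
  have hle : ∑ g : G, (S g).card ≤ ∑ g : G, (P g).offDiag.card := by
    have e : ∀ g : G, (P g).offDiag = Finset.univ.filter
        fun p : Ω × Ω => p.1 ≠ p.2 ∧ g • p.1 = p.1 ∧ g • p.2 = p.2 := fun g => by
      ext p
      simp [P, Finset.mem_offDiag]
      tauto
    simp only [e, S, Finset.card_filter]
    rw [Finset.sum_comm, Finset.sum_comm (γ := G)]
    refine Finset.sum_le_sum fun p _ => ?_
    rw [← Finset.card_filter, ← Finset.card_filter]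
    by_cases hne : ∃ g₀ : G, p.1 ≠ p.2 ∧ g₀ • p.1 = p.2 ∧ g₀ • p.2 = p.1
    · obtain ⟨g₀, h₀, h1, h2⟩ := hne
      refine Finset.card_le_card_of_injOn (fun g => g₀⁻¹ * g) (fun g hg => ?_)
        (fun x _ y _ h => mul_left_cancel h)
      simp only [Finset.coe_filter, Finset.mem_univ, true_and, Set.mem_setOf_eq] at hg ⊢
      refine ⟨h₀, ?_, ?_⟩
      · rw [mul_smul, hg.2.1, ← h1, inv_smul_smul]
      · rw [mul_smul, hg.2.2, ← h2, inv_smul_smul]
    · rw [Finset.filter_eq_empty_iff.2 fun g _ h => hne ⟨g, h⟩]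
      simp
  have hoff : ∀ g, ((P g).offDiag.card : ℤ) = (P g).card * (P g).card - (P g).card := fun g => by
    rw [Finset.offDiag_card, Nat.cast_sub (Nat.le_mul_self _), Nat.cast_mul]
  have hD : ∀ g : G, (P g).card = 0 → (S g).card = Fintype.card Ω := by
    intro g h0
    have hd : ∀ ω : Ω, g • ω ≠ ω := fun ω h => by
      have hm : ω ∈ P g := by simp [P, h]
      rw [Finset.card_eq_zero.1 h0] at hm
      simp at hm
    have h2 : g * g = 1 := by rw [← pow_two, ← hinv g hd, pow_orderOf_eq_one]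
    rw [← Finset.card_univ]
    refine (Finset.card_bij (fun ω _ => (ω, g • ω)) (fun ω _ => ?_) (fun x _ y _ h => congrArg Prod.fst h)
      fun p hp => ?_).symm
    · simp [S, ← mul_smul, h2, (hd ω).symm]
    · simp [S] at hp
      exact ⟨p.1, Finset.mem_univ _, by rw [hp.2.1]⟩
  have hφ : ∀ g, (P g).card ≠ 0 → φ g ≤ 0 := fun g h0 => by
    have h1 : (1 : ℤ) ≤ (P g).card := by omega
    have h2 : ((P g).card : ℤ) ≤ n := Int.ofNat_le.2 (Finset.card_le_univ (P g))
    exact mul_nonpos_iff.2 (Or.inl ⟨by omega, by omega⟩)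
  have hψ : ∀ g, φ g ≤ (S g).card := fun g => by
    by_cases h0 : (P g).card = 0
    · rw [hD g h0]
      simp [φ, h0, n]
    · exact (hφ g h0).trans (Nat.cast_nonneg _)
  have htot : ∑ g, ((S g).card : ℤ) ≤ ∑ g, φ g := by
    have h1 : ∑ g, ((S g).card : ℤ) ≤ ∑ g, ((P g).offDiag.card : ℤ) := by exact_mod_cast hle
    refine h1.trans_eq ?_
    simp only [hoff, φ, sub_mul, mul_sub, one_mul, Finset.sum_sub_distrib, ← Finset.sum_mul,
      Finset.sum_const, Finset.card_univ, nsmul_eq_mul, hsum]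
    ring
  have heq := (Finset.sum_eq_sum_iff_of_le fun g _ => hψ g).1
    (le_antisymm (Finset.sum_le_sum fun g _ => hψ g) htot) g (Finset.mem_univ g)
  by_contra hab
  have ha' : a ∈ P g := by simp [P, ha]
  have hb' : b ∈ P g := by simp [P, hb]
  have h0 : (P g).card ≠ 0 := Finset.card_ne_zero_of_mem ha'
  have h2 : 1 < (P g).card := Finset.one_lt_card.2 ⟨a, ha', b, hb', hab⟩
  have hφ0 : φ g = 0 := le_antisymm (hφ g h0) (heq ▸ Nat.cast_nonneg _)
  rcases mul_eq_zero.1 hφ0 with h | h
  · omega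
  · refine hg (FaithfulSMul.eq_of_smul_eq_smul (α := Ω) fun ω => ?_)
    have hu : P g = Finset.univ := Finset.card_eq_iff_eq_univ (P g) |>.1 (by
      simp only [n] at h; omega)
    have hm : ω ∈ P g := by rw [hu]; simp
    simpa [P] using hm

/-- Let G act faithfully and transitively on a finite set and suppose every element of G fixing no point is an involution. Then either G is an elementary abelian 2-group, or G is a Frobenius group whose Frobenius kernel is an elementary abelian 2-group: G has a Frobenius complement H, and the elements lying in no conjugate of H, together with the identity, pairwise commute and square to the identity. -/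
theorem result {G Ω : Type*} [Group G] [Finite G] [MulAction G Ω] [FaithfulSMul G Ω] [Finite Ω]
    (htrans : MulAction.IsPretransitive G Ω) (hinv : ∀ g : G, (∀ ω : Ω, g • ω ≠ ω) → orderOf g = 2) :
    (IsMulCommutative G ∧ ∀ g : G, g ^ 2 = 1) ∨
    (∃ H : Subgroup G, Cfsg.IsFrobeniusComplement H ∧
      (∀ x ∈ Cfsg.frobeniusKernel H, x ^ 2 = 1) ∧
      ∀ x ∈ Cfsg.frobeniusKernel H, ∀ y ∈ Cfsg.frobeniusKernel H, x * y = y * x) := by
  classical
  have hfix : ∀ {g : G}, g ≠ 1 → ∀ {a b : Ω}, g • a = a → g • b = b → a = b :=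
    fun hg _ _ ha hb => eq_of_fix htrans hinv hg ha hb
  obtain ⟨ω⟩ : Nonempty Ω := by
    by_contra h
    rw [not_nonempty_iff] at h
    have := hinv 1 fun x => h.elim x
    simp at this
  have hsq : ∀ {x : G}, (∀ a : Ω, x • a ≠ a) → x * x = 1 := fun {x} hx => by
    rw [← pow_two, ← hinv x hx, pow_orderOf_eq_one]
  set H := MulAction.stabilizer G ω
  by_cases hbot : H = ⊥
  · left
    have h2 : ∀ g : G, g * g = 1 := by
      intro g
      by_cases hg : ∀ a : Ω, g • a ≠ a
      · exact hsq hg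
      push Not at hg
      obtain ⟨a, ha⟩ := hg
      obtain ⟨k, hk⟩ := htrans.exists_smul_eq ω a
      have hm : k⁻¹ * g * k ∈ H := by
        rw [MulAction.mem_stabilizer_iff, mul_smul, mul_smul, hk, ha, ← hk, inv_smul_smul]
      rw [hbot, Subgroup.mem_bot] at hm
      have : g = 1 := by
        have h1 := congrArg (fun x => k * x * k⁻¹) hm
        simpa [mul_assoc] using h1
      rw [this, one_mul]
    refine ⟨⟨⟨fun x y => ?_⟩⟩, fun g => by rw [pow_two]; exact h2 g⟩
    have hi : ∀ g : G, g⁻¹ = g := fun g => inv_eq_of_mul_eq_one_right (h2 g)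
    calc x * y = (x * y)⁻¹ := (hi _).symm
      _ = y * x := by rw [mul_inv_rev, hi x, hi y]
  right
  refine ⟨H, ⟨hbot, fun htop => hbot ?_, fun g hg => ?_⟩, ?_⟩
  · refine (Subgroup.eq_bot_iff_forall _).2 fun g hg => ?_
    refine FaithfulSMul.eq_of_smul_eq_smul (α := Ω) fun a => ?_
    obtain ⟨k, rfl⟩ := htrans.exists_smul_eq ω a
    have hk : k ∈ H := htop ▸ Subgroup.mem_top k
    rw [one_smul, MulAction.mem_stabilizer_iff.1 hk, MulAction.mem_stabilizer_iff.1 hg]
  · refine (Subgroup.eq_bot_iff_forall _).2 fun x hx => ?_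
    by_contra hx1
    obtain ⟨h, hh, hxh⟩ := Subgroup.mem_smul_pointwise_iff_exists _ _ _ |>.1 hx.2
    refine hg (MulAction.mem_stabilizer_iff.2 (hfix hx1 ?_ (MulAction.mem_stabilizer_iff.1 hx.1)))
    rw [← hxh, MulAut.smul_def, MulAut.conj_apply, mul_smul, mul_smul, inv_smul_smul,
      MulAction.mem_stabilizer_iff.1 hh]
  have hker : ∀ {x : G}, x ∈ Cfsg.frobeniusKernel H → x ≠ 1 → ∀ a : Ω, x • a ≠ a := by
    intro x hx hx1 a ha
    obtain ⟨k, hk⟩ := htrans.exists_smul_eq ω a
    refine hx.resolve_left hx1 k ((Subgroup.mem_smul_pointwise_iff_exists _ _ _).2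
      ⟨k⁻¹ * x * k, ?_, ?_⟩)
    · rw [MulAction.mem_stabilizer_iff, mul_smul, mul_smul, hk, ha, ← hk, inv_smul_smul]
    · rw [MulAut.smul_def, MulAut.conj_apply]; simp [mul_assoc]
  refine ⟨fun x hx => ?_, fun x hx y hy => ?_⟩
  · by_cases hx1 : x = 1
    · rw [hx1, one_pow]
    · rw [pow_two]; exact hsq (hker hx hx1)
  by_cases hx1 : x = 1
  · rw [hx1, one_mul, mul_one]
  by_cases hy1 : y = 1
  · rw [hy1, one_mul, mul_one]
  have hxx := hsq (hker hx hx1)
  have hyy := hsq (hker hy hy1)
  have hxi := inv_eq_of_mul_eq_one_right hxx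
  have hyi := inv_eq_of_mul_eq_one_right hyy
  by_cases hw : x * y = 1
  · rw [hw, show y = x by rw [← inv_eq_of_mul_eq_one_right hw, hxi], hxx]
  have hd : ∀ a : Ω, (x * y) • a ≠ a := by
    intro a ha
    refine hker hx hx1 a (hfix hw ?_ ha)
    have hya : y • a = x • a := by
      conv_rhs => rw [← ha, ← mul_smul, ← mul_assoc, hxx, one_mul]
    calc (x * y) • x • a = x • y • y • a := by rw [hya, mul_smul]
      _ = x • a := by rw [← mul_smul y y, hyy, one_smul]
  calc x * y = (x * y)⁻¹ := (inv_eq_of_mul_eq_one_right (hsq hd)).symm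
    _ = y * x := by rw [mul_inv_rev, hxi, hyi]

end Cfsg.Agent.S3555
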