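import Cfsg.Statements.S3556
import Cfsg.Agent.EqLemmas
import Cfsg.Agent.Lib.DerangeClass.Basic
import Cfsg.Agent.Lib.Solvable.Basic

set_option autoImplicit false
open Cfsg

namespace Cfsg.Agent.S3556

open MulAction

/-- A non-trivial normal subgroup of a primitive group is transitive. -/
theorem transitive_of_normal {G Ω : Type*} [Group G] [MulAction G Ω] [FaithfulSMul G Ω]
    [IsPreprimitive G Ω] (N : Subgroup G) [N.Normal] (hN : N ≠ ⊥) : IsPretransitive N Ω := by
  refine IsQuasiPreprimitive.isPretransitive_of_normal (G := G) fun h => hN ?_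
  rw [Subgroup.eq_bot_iff_forall]
  intro n hn
  refine FaithfulSMul.eq_of_smul_eq_smul (α := Ω) fun a => ?_
  rw [one_smul]
  exact (Set.ext_iff.1 h a).2 trivial ⟨n, hn⟩

/-- An element commuting with a transitive subgroup and fixing a point is trivial. -/
theorem eq_one_of_fix {G Ω : Type*} [Group G] [MulAction G Ω] [FaithfulSMul G Ω] (N : Subgroup G)
    [IsPretransitive N Ω] {x : G} (hx : ∀ n ∈ N, n * x = x * n) {a : Ω} (ha : x • a = a) : x = 1 := by
  refine FaithfulSMul.eq_of_smul_eq_smul (α := Ω) fun b => ?_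
  obtain ⟨n, rfl⟩ := MulAction.exists_smul_eq N a b
  rw [one_smul]
  show x • (n : G) • a = (n : G) • a
  rw [← mul_smul, ← hx n n.2, mul_smul, ha]

/-- If `x * u` is a derangement witness: a fixed point free `x` commuting with `u`, of coprime order. -/
theorem false_of_pair {G Ω : Type*} [Group G] [Finite G] [MulAction G Ω] [Nonempty Ω] {p : ℕ} (hp : p.Prime)
    (hder : ∀ g : G, (∀ ω : Ω, g • ω ≠ ω) → ∃ k : ℕ, orderOf g = p ^ k) {x u : G} (hc : Commute x u)
    (hx : ∀ ω : Ω, x • ω ≠ ω) {q : ℕ} (hq : q.Prime) (hqp : q ≠ p) (hu : orderOf u = q) : False := by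
  obtain ⟨k, hk⟩ := hder x hx
  have hcop : (orderOf x).Coprime (orderOf u) := by
    rw [hk, hu]; exact ((Nat.coprime_primes hp hq).2 (Ne.symm hqp)).pow_left k
  have hxu : ∀ ω : Ω, (x * u) • ω ≠ ω := by
    intro ω hω
    have hqk : q.Coprime (orderOf x) := by rw [← hu]; exact hcop.symm
    obtain ⟨m, hm⟩ := exists_pow_eq_self_of_coprime hqk
    have h1 : ((x * u) ^ q) • ω = ω := MulAction.mem_stabilizer_iff.1
      (pow_mem (MulAction.mem_stabilizer_iff.2 hω) q)
    rw [hc.mul_pow, show u ^ q = 1 by rw [← hu, pow_orderOf_eq_one], mul_one] at h1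
    have h2 : ((x ^ q) ^ m) • ω = ω := MulAction.mem_stabilizer_iff.1
      (pow_mem (MulAction.mem_stabilizer_iff.2 h1) m)
    rw [hm] at h2
    exact hx ω h2
  obtain ⟨j, hj⟩ := hder (x * u) hxu
  rw [hc.orderOf_mul_eq_mul_orderOf_of_coprime hcop, hu] at hj
  exact hqp ((Nat.prime_dvd_prime_iff_eq hq hp).1 (hq.dvd_of_dvd_pow (hj ▸ dvd_mul_left q _)))

/-- The main step: a non-abelian minimal normal subgroup with trivial centralizer is simple. -/
theorem simple_of_derangements {G Ω : Type*} [Group G] [Finite G] [MulAction G Ω] [FaithfulSMul G Ω]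
    [Nontrivial Ω] {p : ℕ} (hp : p.Prime)
    (hder : ∀ g : G, (∀ ω : Ω, g • ω ≠ ω) → ∃ k : ℕ, orderOf g = p ^ k)
    (N : Subgroup G) [N.Normal] [IsPretransitive N Ω]
    (hNmin : ∀ M : Subgroup G, M.Normal → M ≤ N → M = ⊥ ∨ M = N) (hN0 : N ≠ ⊥)
    (hNp : ¬ IsPGroup p N) : IsSimpleGroup N := by
  classical
  haveI : Fact p.Prime := ⟨hp⟩
  obtain ⟨T, ⟨hT0, hTN, hTn⟩, hTmin⟩ := (Set.toFinite
    {T : Subgroup G | T ≠ ⊥ ∧ T ≤ N ∧ ∀ n ∈ N, ∀ x ∈ T, n * x * n⁻¹ ∈ T}).exists_minimal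
    ⟨N, hN0, le_rfl, fun n hn x hx => mul_mem (mul_mem hn hx) (inv_mem hn)⟩
  have hmin : ∀ A : Subgroup G, A ≤ T → (∀ n ∈ N, ∀ x ∈ A, n * x * n⁻¹ ∈ A) → A = ⊥ ∨ A = T :=
    fun A hA hAn => or_iff_not_imp_left.2 fun h => le_antisymm hA (hTmin ⟨h, hA.trans hTN, hAn⟩ hA)
  let cj : G → Subgroup G := fun g => T.map (MulAut.conj g).toMonoidHom
  have hcjN : ∀ g, cj g ≤ N := by
    rintro g _ ⟨x, hx, rfl⟩; exact (inferInstance : N.Normal).conj_mem x (hTN hx) g
  have hcjn : ∀ g, ∀ n ∈ N, ∀ x ∈ cj g, n * x * n⁻¹ ∈ cj g := by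
    rintro g n hn _ ⟨x, hx, rfl⟩
    refine ⟨(g⁻¹ * n * g) * x * (g⁻¹ * n * g)⁻¹, hTn _ ?_ x hx, ?_⟩
    · simpa using (inferInstance : N.Normal).conj_mem n hn g⁻¹
    · simp only [MulEquiv.coe_toMonoidHom, MulAut.conj_apply]; group
  have hmeet : ∀ g, cj g = T ∨ T ⊓ cj g = ⊥ := by
    intro g
    rcases hmin (T ⊓ cj g) inf_le_left fun n hn x hx => ⟨hTn n hn x hx.1, hcjn g n hn x hx.2⟩ with h | h
    · exact .inr h
    · refine .inl (le_antisymm ?_ (inf_eq_left.1 h))
      have hcard : Nat.card (cj g) = Nat.card T :=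
        (Nat.card_congr (T.equivMapOfInjective _ (MulAut.conj g).injective).toEquiv).symm
      exact (Subgroup.eq_of_le_of_card_ge (inf_eq_left.1 h) hcard.le).ge
  have hT1c : T ≤ cj 1 := fun x hx => ⟨x, hx, by simp⟩
  by_cases hTfix : ∀ g, cj g = T
  · have hTnormal : T.Normal := ⟨fun x hx g => hTfix g ▸ ⟨x, hx, rfl⟩⟩
    have hTeq : T = N := (hNmin T hTnormal hTN).resolve_left hT0
    subst hTeq
    haveI : Nontrivial T := (Subgroup.nontrivial_iff_ne_bot T).2 hT0
    refine ⟨fun A hA => ?_⟩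
    rcases hmin (A.map T.subtype) (Subgroup.map_subtype_le A) (by
      rintro n hn _ ⟨x, hx, rfl⟩
      exact ⟨⟨n, hn⟩ * x * ⟨n, hn⟩⁻¹, hA.conj_mem x hx _, rfl⟩) with h | h
    · exact .inl ((Subgroup.map_eq_bot_iff_of_injective _ T.subtype_injective).1 h)
    · refine .inr (eq_top_iff.2 fun x _ => ?_)
      have : (x : G) ∈ A.map T.subtype := by rw [h]; exact x.2
      obtain ⟨y, hy, e⟩ := this
      rwa [show x = y from Subtype.ext e.symm]
  exfalso
  obtain ⟨g₁, hg₁⟩ := not_forall.1 hTfix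
  have hg₁' : T ⊓ cj g₁ = ⊥ := (hmeet g₁).resolve_left hg₁
  set C := N ⊓ Subgroup.centralizer (T : Set G) with hCdef
  have hdec : N ≤ T ⊔ C := by
    have hM : (⨆ g, cj g).Normal := ⟨fun x hx y => by
      have hle : (⨆ g, cj g).map (MulAut.conj y).toMonoidHom ≤ ⨆ g, cj g := by
        rw [Subgroup.map_iSup]
        refine iSup_le fun g => le_trans (le_of_eq ?_) (le_iSup _ (y * g))
        simp only [cj, Subgroup.map_map, map_mul]; rfl
      exact hle ⟨x, hx, rfl⟩⟩
    rcases hNmin _ hM (iSup_le hcjN) with h | h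
    · exact absurd (le_bot_iff.1 (h ▸ le_iSup_of_le 1 hT1c)) hT0
    conv_lhs => rw [← h]
    refine iSup_le fun g => ?_
    rcases hmeet g with h | h
    · rw [h]; exact le_sup_left
    · refine le_sup_of_le_right fun x hx => ⟨hcjN g hx, Subgroup.mem_centralizer_iff.2 fun t ht => ?_⟩
      exact DerangeClass.commute_of_normal_in hTN (hcjN g) hTn (hcjn g) h ht hx
  have hCn : ∀ t ∈ T, ∀ c ∈ C, t * c = c * t := fun t ht c hc =>
    Subgroup.mem_centralizer_iff.1 hc.2 t ht
  have hprod : ∀ n ∈ N, ∃ t ∈ T, ∃ c ∈ C, n = t * c := by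
    intro n hn
    have h2 := hdec hn
    rw [← SetLike.mem_coe, Subgroup.coe_mul_of_right_le_normalizer_left T C] at h2
    · obtain ⟨t, ht, c, hc, rfl⟩ := h2; exact ⟨t, ht, c, hc, rfl⟩
    · intro c hc
      rw [Subgroup.mem_normalizer_iff]
      exact fun x => ⟨fun hx => by rwa [← hCn x hx c hc, mul_inv_cancel_right],
        fun hx => by
          have := hTn c⁻¹ (inv_mem hc.1) _ hx
          simpa [mul_assoc] using this⟩
  -- a derangement in `T`
  obtain ⟨a⟩ : Nonempty Ω := inferInstance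
  set R : Subgroup T := (MulAction.stabilizer G a).comap T.subtype
  have hR : R ≠ ⊤ := by
    intro h
    refine hT0 ((Subgroup.eq_bot_iff_forall _).2 fun t ht => ?_)
    refine FaithfulSMul.eq_of_smul_eq_smul (α := Ω) fun b => ?_
    obtain ⟨m, rfl⟩ := MulAction.exists_smul_eq N a b
    have ht' : (⟨(m : G)⁻¹ * t * ((m : G)⁻¹)⁻¹, hTn _ (inv_mem m.2) t ht⟩ : T) ∈ R :=
      h ▸ Subgroup.mem_top _
    have ht2 : ((m : G)⁻¹ * t * ((m : G)⁻¹)⁻¹) • a = a := ht'
    rw [inv_inv, mul_smul, mul_smul, inv_smul_eq_iff] at ht2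
    rw [one_smul]; exact ht2
  obtain ⟨x, hx⟩ := DerangeClass.exists_avoiding R hR
  have hxder : ∀ b : Ω, (x : G) • b ≠ b := by
    intro b hb
    obtain ⟨m, rfl⟩ := MulAction.exists_smul_eq N a b
    obtain ⟨t, ht, c, hc, hm⟩ := hprod m m.2
    refine hx ⟨t, ht⟩ ?_
    have hy : t⁻¹ * (x : G) * t ∈ T := mul_mem (mul_mem (inv_mem ht) x.2) ht
    show (t⁻¹ * (x : G) * t) • a = a
    have hb' : (x : G) • (m : G) • a = (m : G) • a := hb
    rw [hm] at hb'
    calc (t⁻¹ * (x : G) * t) • a = (c⁻¹ * ((t⁻¹ * (x : G) * t) * c)) • a := by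
          rw [hCn _ hy c hc, inv_mul_cancel_left]
      _ = (t * c)⁻¹ • ((x : G) • ((t * c) • a)) := by rw [← mul_smul, ← mul_smul]; congr 1; group
      _ = a := by rw [hb', inv_smul_smul]
  -- an element of `C` of prime order different from `p`
  by_cases hCp : IsPGroup p C
  · refine hNp fun n => ?_
    obtain ⟨t, ht, c, hc, hn⟩ := hprod n n.2
    have hcjC : cj g₁ ≤ C := fun u hu => ⟨hcjN g₁ hu, Subgroup.mem_centralizer_iff.2 fun t ht =>
      DerangeClass.commute_of_normal_in hTN (hcjN g₁) hTn (hcjn g₁) hg₁' ht hu⟩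
    have htp : ∃ k : ℕ, t ^ p ^ k = 1 := by
      obtain ⟨k, hk⟩ := hCp ⟨MulAut.conj g₁ t, hcjC ⟨t, ht, rfl⟩⟩
      exact ⟨k, (MulAut.conj g₁).injective (by rw [map_pow, map_one]; exact congrArg Subtype.val hk)⟩
    obtain ⟨i, hi⟩ := htp
    obtain ⟨j, hj⟩ := hCp ⟨c, hc⟩
    have hj' : c ^ p ^ j = 1 := congrArg Subtype.val hj
    refine ⟨i + j, Subtype.ext ?_⟩
    show (n : G) ^ p ^ (i + j) = 1
    rw [hn, Commute.mul_pow (hCn t ht c hc)]
    conv_lhs => arg 1; rw [pow_add, pow_mul, hi, one_pow]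
    rw [pow_add, mul_comm (p ^ i), pow_mul, hj', one_pow, one_mul]
  · obtain ⟨q, hq, hqd, hqp⟩ : ∃ q : ℕ, q.Prime ∧ q ∣ Nat.card C ∧ q ≠ p := by
      by_contra! h
      exact hCp (IsPGroup.of_card (n := (Nat.card C).primeFactorsList.length)
        (Nat.eq_prime_pow_of_unique_prime_dvd Nat.card_pos.ne' fun {d} hd hdd => h d hd hdd))
    haveI : Fact q.Prime := ⟨hq⟩
    obtain ⟨u, hu⟩ := exists_prime_orderOf_dvd_card' q hqd
    exact false_of_pair hp hder (hCn _ x.2 _ u.2) hxder hq hqp (by rw [Subgroup.orderOf_coe, hu])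

/-- Let G act faithfully and primitively on a finite set with at least two points, and suppose that for some fixed prime p every element of G fixing no point has order a power of p. Then G is of affine type (it has a regular normal subgroup that is an elementary abelian r-group for some prime r) or almost simple (it has a non-abelian simple normal subgroup with trivial centralizer). -/
theorem result {G Ω : Type*} [Group G] [Finite G] [MulAction G Ω] [FaithfulSMul G Ω] [Finite Ω]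
    (hprim : MulAction.IsPreprimitive G Ω) (hΩ : 2 ≤ Nat.card Ω) (p : ℕ) (hp : p.Prime)
    (hder : ∀ g : G, (∀ ω : Ω, g • ω ≠ ω) → ∃ k : ℕ, orderOf g = p ^ k) :
    (∃ (N : Subgroup G) (r : ℕ), r.Prime ∧ N.Normal ∧ Cfsg.IsElementaryAbelian r N ∧
      MulAction.IsPretransitive N Ω ∧ ∀ a : Ω, MulAction.stabilizer N a = ⊥) ∨
    (∃ T : Subgroup G, T.Normal ∧ IsSimpleGroup ↥T ∧ ¬ IsMulCommutative ↥T ∧
      Subgroup.centralizer (T : Set G) = ⊥) := by
  classical
  haveI := hprim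
  haveI : Fact p.Prime := ⟨hp⟩
  haveI : Nontrivial Ω := Finite.one_lt_card_iff_nontrivial.1 (by omega)
  haveI : Nontrivial G := by
    by_contra h
    rw [not_nontrivial_iff_subsingleton] at h
    obtain ⟨a, b, hab⟩ := exists_pair_ne Ω
    obtain ⟨g, hg⟩ := MulAction.exists_smul_eq G a b
    rw [Subsingleton.elim g 1, one_smul] at hg
    exact hab hg
  obtain ⟨N, hNn, hN0, -, hmin⟩ := Solvable.exists_minimal_normal (N := (⊤ : Subgroup G)) top_ne_bot
  haveI := hNn
  haveI := transitive_of_normal (Ω := Ω) N hN0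
  by_cases hsol : Group.IsSolvable N
  · obtain ⟨hc, r, hr, -, hpow⟩ := Solvable.elementaryAbelian_of_minimal_normal N hN0 hmin
    refine .inl ⟨N, r, hr, hNn, ⟨hc, hpow⟩, inferInstance, fun a => ?_⟩
    rw [Subgroup.eq_bot_iff_forall]
    intro x hx
    exact Subtype.ext (eq_one_of_fix N (x := (x : G))
      (fun n hn => congrArg Subtype.val (hc.is_comm.comm ⟨n, hn⟩ x)) (MulAction.mem_stabilizer_iff.1 hx))
  have hNp : ¬ IsPGroup p N := fun h => hsol (by
    haveI := h.isNilpotent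
    infer_instance)
  have hnab : ¬ IsMulCommutative N := fun h => hsol (by
    haveI := h
    exact Group.isSolvable_of_comm fun a b => h.is_comm.comm a b)
  refine .inr ⟨N, hNn, simple_of_derangements hp hder N hmin hN0 hNp, hnab, ?_⟩
  by_contra hC
  haveI : (Subgroup.centralizer (N : Set G)).Normal := Subgroup.normal_centralizer
  haveI := transitive_of_normal (Ω := Ω) _ hC
  refine hNp fun n => ?_
  by_cases hn : n = 1
  · exact ⟨0, by simp [hn]⟩
  have hfree : ∀ ω : Ω, (n : G) • ω ≠ ω := fun ω hω => hn (Subtype.ext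
    (eq_one_of_fix (Subgroup.centralizer (N : Set G)) (x := (n : G))
      (fun c hc => (Subgroup.mem_centralizer_iff.1 hc n n.2).symm) hω))
  obtain ⟨k, hk⟩ := hder n hfree
  exact ⟨k, by rw [← hk, Subgroup.orderOf_coe, pow_orderOf_eq_one]⟩

end Cfsg.Agent.S3556
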