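import Cfsg.Statements.S3557
import Cfsg.Agent.Lib.PGroup.Basic

set_option autoImplicit false
open Cfsg

namespace Cfsg.Agent.S3557

/-- Let G act faithfully and transitively on a finite set with 2p² points, p a prime, and suppose G is 2-closed: every permutation of the set which, on each ordered pair of points, agrees with some element of G, is itself induced by an element of G. Then some element of G of prime order fixes no point. -/
theorem result {G Ω : Type*} [Group G] [Finite G] [MulAction G Ω] [FaithfulSMul G Ω] [Finite Ω]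
    (htrans : MulAction.IsPretransitive G Ω) (p : ℕ) (hp : p.Prime) (hcard : Nat.card Ω = 2 * p ^ 2)
    (hcl : ∀ σ : Equiv.Perm Ω, (∀ a b : Ω, ∃ g : G, σ a = g • a ∧ σ b = g • b) → ∃ g : G, ∀ a : Ω, σ a = g • a) :
    ∃ g : G, (orderOf g).Prime ∧ ∀ ω : Ω, g • ω ≠ ω := by
  classical
  have := Fact.mk hp
  set P : Subgroup G := ((default : Sylow p G) : Subgroup G) with hPdef
  have hP : IsPGroup p P := (default : Sylow p G).2
  have : Nonempty Ω := (Nat.card_pos_iff.1 (by rw [hcard]; exact Nat.mul_pos two_pos (pow_pos hp.pos 2))).1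
  -- each orbit of `P` has size divisible by `p ^ 2`
  have horb : ∀ x : Ω, p ^ 2 ≤ Nat.card (MulAction.orbit P x) := by
    intro x
    obtain ⟨j, hj⟩ := hP.card_orbit x
    have h1 : Nat.card P = p ^ j * Nat.card (MulAction.stabilizer P x) := by
      rw [← hj, Nat.card_congr (MulAction.orbitEquivQuotientStabilizer P x)]
      exact ((MulAction.stabilizer P x).index_mul_card).symm
    have h2 : Nat.card G = 2 * p ^ 2 * Nat.card (MulAction.stabilizer G x) := by
      rw [← hcard, ← MulAction.index_stabilizer_of_transitive G x]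
      exact ((MulAction.stabilizer G x).index_mul_card).symm
    have h3 : Nat.card (MulAction.stabilizer P x) ∣ Nat.card (MulAction.stabilizer G x) := by
      refine Subgroup.card_dvd_of_injective
        (f := ((P.subtype).comp (MulAction.stabilizer P x).subtype).codRestrict
          (MulAction.stabilizer G x) fun h => h.2) fun h k hk => ?_
      exact Subtype.ext (Subtype.ext (congrArg Subtype.val hk :))
    have h4 : p ^ 2 * Nat.card (MulAction.stabilizer P x) ∣ Nat.card G := by
      rw [h2]
      exact Nat.mul_dvd_mul (dvd_mul_left _ _) h3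
    obtain ⟨i, hi⟩ := IsPGroup.iff_card.1 (hP.to_subgroup (MulAction.stabilizer P x))
    rw [hi, ← pow_add] at h4
    have h5 : p ^ (2 + i) ∣ Nat.card ((default : Sylow p G) : Subgroup G) := by
      rw [Sylow.card_eq_multiplicity]
      exact pow_dvd_pow _ ((hp.pow_dvd_iff_le_factorization Nat.card_pos.ne').1 h4)
    rw [← hPdef, h1, hi, ← pow_add] at h5
    have := Nat.pow_dvd_pow_iff_le_right hp.one_lt |>.1 h5
    rw [hj]
    exact Nat.pow_le_pow_right hp.pos (by omega)
  -- a central element of order `p`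
  have hPne : (⊤ : Subgroup P) ≠ ⊥ := by
    intro h
    have h1 : Nat.card P = 1 := by rw [← Subgroup.card_top, h, Subgroup.card_bot]
    obtain ⟨x⟩ := (inferInstance : Nonempty Ω)
    have h2 : Nat.card (MulAction.orbit P x) ∣ Nat.card P := by
      rw [Nat.card_congr (MulAction.orbitEquivQuotientStabilizer P x)]
      exact Subgroup.index_dvd_card _
    have := horb x
    rw [h1] at h2
    rw [Nat.eq_one_of_dvd_one h2] at this
    nlinarith [hp.two_le]
  obtain ⟨z, -, hzc, hzp⟩ := PGroup.exists_central_order_p hP hPne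
  have hz1 : z ≠ 1 := fun h => by rw [h, orderOf_one] at hzp; exact hp.ne_one hzp.symm
  by_cases hder : ∀ ω : Ω, (z : G) • ω ≠ ω
  · exact ⟨z, by rw [Subgroup.orderOf_coe, hzp]; exact hp, hder⟩
  simp only [not_forall, not_not] at hder
  obtain ⟨b, hb⟩ := hder
  have hb' : z • b = b := hb
  have hzcomm : ∀ h : P, h * z = z * h := Subgroup.mem_center_iff.1 hzc
  have hfix : ∀ y ∈ MulAction.orbit P b, z • y = y := by
    rintro _ ⟨h, rfl⟩
    show z • h • b = h • b
    rw [smul_smul, ← hzcomm, mul_smul, hb']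
  -- a point moved by `z`
  obtain ⟨a, ha⟩ : ∃ a : Ω, z • a ≠ a := by
    by_contra! h
    exact hz1 (Subtype.ext (eq_of_smul_eq_smul fun x : Ω => by
      rw [OneMemClass.coe_one, one_smul]; exact h x))
  have hab : a ∉ MulAction.orbit P b := fun h => ha (hfix a h)
  have hdisj : Disjoint (MulAction.orbit P a) (MulAction.orbit P b) := by
    rw [Set.disjoint_left]
    intro y hy hy'
    exact hab (by rw [← MulAction.orbit_eq_iff.2 hy', MulAction.orbit_eq_iff.2 hy]
                  exact MulAction.mem_orbit_self a)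
  have hsum : (MulAction.orbit P a ∪ MulAction.orbit P b).ncard ≤ 2 * p ^ 2 := by
    rw [← hcard, ← Set.ncard_univ]
    exact Set.ncard_le_ncard (Set.subset_univ _)
  rw [Set.ncard_union_eq hdisj, ← Nat.card_coe_set_eq, ← Nat.card_coe_set_eq] at hsum
  have hca : Nat.card (MulAction.orbit P a) = p ^ 2 := by have := horb a; have := horb b; omega
  have hcb : Nat.card (MulAction.orbit P b) = p ^ 2 := by have := horb a; have := horb b; omega
  have hall : ∀ y, y ∉ MulAction.orbit P b → y ∈ MulAction.orbit P a := by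
    intro y hy
    by_contra hy'
    have h1 : (MulAction.orbit P a ∪ MulAction.orbit P b) = Set.univ := by
      refine Set.eq_of_subset_of_ncard_le (Set.subset_univ _) ?_
      rw [Set.ncard_univ, hcard, Set.ncard_union_eq hdisj, ← Nat.card_coe_set_eq,
        ← Nat.card_coe_set_eq, hca, hcb]
      omega
    exact (h1 ▸ Set.mem_univ y : y ∈ MulAction.orbit P a ∪ MulAction.orbit P b).elim hy' hy
  set Sa := MulAction.stabilizer P a with hSa
  set Sb := MulAction.stabilizer P b with hSb
  have hScard : Nat.card Sa = Nat.card Sb := by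
    have h1 := Sa.index_mul_card
    have h2 := Sb.index_mul_card
    have h1' : Sa.index = p ^ 2 :=
      (Nat.card_congr (MulAction.orbitEquivQuotientStabilizer P a)).symm.trans hca
    have h2' : Sb.index = p ^ 2 :=
      (Nat.card_congr (MulAction.orbitEquivQuotientStabilizer P b)).symm.trans hcb
    rw [h1'] at h1
    rw [h2'] at h2
    exact Nat.eq_of_mul_eq_mul_left (pow_pos hp.pos 2) (h1.trans h2.symm)
  set Z := Subgroup.zpowers z with hZ
  have hZn : Z.Normal := PGroup.zpowers_normal_of_mem_center hzc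
  have hinf : Z ⊓ Sa = ⊥ := by
    have hle : Z ⊓ Sa ≤ Z := inf_le_left
    have hdvd := Subgroup.card_dvd_of_le hle
    rw [hZ, Nat.card_zpowers, hzp] at hdvd
    rcases (Nat.dvd_prime hp).1 hdvd with h | h
    · exact Subgroup.card_eq_one.1 h
    · exfalso
      have := Subgroup.eq_of_le_of_card_ge hle (by rw [hZ, Nat.card_zpowers, hzp, h])
      have hz : z ∈ Z ⊓ Sa := this.symm ▸ Subgroup.mem_zpowers z
      exact ha hz.2
  set T := Sa ⊔ Z with hT
  have hTcard : Nat.card T = p * Nat.card Sa := by
    have hle : Z ≤ T := le_sup_right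
    have h1 : Z.relIndex T = Nat.card Sa := by
      rw [hT, Subgroup.relIndex_sup_right, ← Subgroup.inf_relIndex_right, hinf,
        Subgroup.relIndex_bot_left]
    have h2 := (Z.subgroupOf T).card_mul_index
    rw [Nat.card_congr (Subgroup.subgroupOfEquivOfLe hle).toEquiv, hZ, Nat.card_zpowers, hzp] at h2
    rw [← h2, ← h1]
    rfl
  have hTn : T.Normal := by
    apply Subgroup.normal_of_index_eq_minFac_card
    obtain ⟨n, hn⟩ := IsPGroup.iff_card.1 hP
    have h1 := T.index_mul_card
    have h2 : p ^ 2 * Nat.card Sa = Nat.card P := by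
      rw [← hca, Nat.card_congr (MulAction.orbitEquivQuotientStabilizer P a)]
      exact Sa.index_mul_card
    rw [hTcard, ← h2, ← mul_assoc, pow_two] at h1
    have h3 : T.index * p = p * p := Nat.eq_of_mul_eq_mul_right Nat.card_pos h1
    have hn0 : n ≠ 0 := by
      rintro rfl
      rw [hn, pow_zero] at h2
      have := Nat.eq_one_of_mul_eq_one_right h2
      nlinarith [hp.two_le]
    rw [Nat.eq_of_mul_eq_mul_right hp.pos h3, hn, hp.pow_minFac hn0]
  -- the permutation group induced on the second orbit
  let φ := MulAction.toPermHom P (MulAction.orbit P b)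
  have hφ : Function.Surjective φ.rangeRestrict := φ.rangeRestrict_surjective
  have hTimg : (T.map φ.rangeRestrict) ≠ ⊥ := by
    intro h
    have hle : Sa ≤ Sb := fun x hx => by
      have h1 : φ.rangeRestrict x = 1 := by
        rw [← Subgroup.mem_bot, ← h]
        exact Subgroup.mem_map_of_mem _ (Subgroup.mem_sup_left hx)
      have h2 := congrArg (fun q : φ.range => (q : Equiv.Perm (MulAction.orbit P b))
        ⟨b, MulAction.mem_orbit_self b⟩) h1
      exact congrArg Subtype.val h2
    have heq := Subgroup.eq_of_le_of_card_ge hle hScard.ge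
    exact ha (show z ∈ Sa from heq.symm ▸ (hb' : z ∈ Sb))
  have : (T.map φ.rangeRestrict).Normal := Subgroup.Normal.map hTn _ hφ
  obtain ⟨q, hqT, hqc, hqp⟩ := PGroup.exists_central_order_p
    (hP.of_surjective _ hφ) hTimg
  obtain ⟨w, hwT, rfl⟩ := Subgroup.mem_map.1 hqT
  have hwp : ∀ y ∈ MulAction.orbit P b, w ^ p • y = y := by
    intro y hy
    have h1 : φ.rangeRestrict (w ^ p) = 1 := by rw [map_pow, ← hqp, pow_orderOf_eq_one]
    have h2 := congrArg (fun q : φ.range => (q : Equiv.Perm (MulAction.orbit P b)) ⟨y, hy⟩) h1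
    exact congrArg Subtype.val h2
  have hwne : ∀ y ∈ MulAction.orbit P b, w • y ≠ y := by
    intro y hy hwy
    have h1 : φ.rangeRestrict w = 1 := by
      refine Subtype.ext (Equiv.ext fun y' => Subtype.ext ?_)
      show w • (y' : Ω) = y'
      obtain ⟨h, hh⟩ := MulAction.mem_orbit_iff.1
        ((MulAction.orbit_eq_iff.2 hy).symm ▸ y'.2 : (y' : Ω) ∈ MulAction.orbit P y)
      have h2 := congrArg (fun q : φ.range => (q : Equiv.Perm (MulAction.orbit P b)) ⟨y, hy⟩)
        (Subgroup.mem_center_iff.1 hqc (φ.rangeRestrict h))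
      have h3 : h • w • y = w • h • y := congrArg Subtype.val h2
      rw [← hh, ← h3, hwy]
    rw [h1, orderOf_one] at hqp
    exact hp.ne_one hqp.symm
  -- the permutation in the 2-closure
  set O := MulAction.orbit P b with hO
  have hmem : ∀ (h : P) (y : Ω), h • y ∈ O ↔ y ∈ O := fun h y =>
    ⟨fun hy => by
      have := MulAction.mem_orbit_of_mem_orbit h⁻¹ hy
      rwa [inv_smul_smul] at this, fun hy => MulAction.mem_orbit_of_mem_orbit h hy⟩
  let σ : Equiv.Perm Ω :=
    { toFun := fun y => if y ∈ O then w • y else y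
      invFun := fun y => if y ∈ O then w⁻¹ • y else y
      left_inv := fun y => by
        by_cases h : y ∈ O <;> simp [h, hmem]
      right_inv := fun y => by
        by_cases h : y ∈ O <;> simp [h, hmem] }
  have hσ1 : ∀ y ∈ O, σ y = w • y := fun y hy => if_pos hy
  have hσ2 : ∀ y, y ∉ O → σ y = y := fun y hy => if_neg hy
  have hcross : ∀ x, x ∉ O → ∀ y ∈ O, ∃ h : P, h • x = x ∧ h • y = w • y := by
    intro x hx y hy
    obtain ⟨h, hh⟩ := MulAction.mem_orbit_iff.1 (hall x hx)
    have hc : h⁻¹ * w * h ∈ T := by simpa using hTn.conj_mem w hwT h⁻¹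
    obtain ⟨s, hs, v, hv, hsv⟩ := Subgroup.mem_sup_of_normal_right.1 hc
    refine ⟨h * s * h⁻¹, ?_, ?_⟩
    · rw [← hh, mul_smul, mul_smul, inv_smul_smul, MulAction.mem_stabilizer_iff.1 hs]
    · have hvy : v • y = y := by
        have : Z ≤ MulAction.stabilizer P y := Subgroup.zpowers_le.2 (hfix y hy)
        exact this hv
      have hvc : ∀ k : P, k * v = v * k := by
        have : Z ≤ Subgroup.center P := Subgroup.zpowers_le.2 hzc
        exact Subgroup.mem_center_iff.1 (this hv)
      have : w = h * s * h⁻¹ * v := by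
        calc w = h * (h⁻¹ * w * h) * h⁻¹ := by group
          _ = h * (s * v) * h⁻¹ := by rw [← hsv]
          _ = h * s * (v * h⁻¹) := by group
          _ = h * s * (h⁻¹ * v) := by rw [← hvc]
          _ = h * s * h⁻¹ * v := by group
      rw [this, mul_smul (h * s * h⁻¹) v, hvy]
  obtain ⟨g₀, hg₀⟩ := hcl σ fun x y => by
    by_cases hx : x ∈ O <;> by_cases hy : y ∈ O
    · exact ⟨w, hσ1 x hx, hσ1 y hy⟩
    · obtain ⟨h, h1, h2⟩ := hcross y hy x hx
      exact ⟨h, (hσ1 x hx).trans h2.symm, (hσ2 y hy).trans h1.symm⟩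
    · obtain ⟨h, h1, h2⟩ := hcross x hx y hy
      exact ⟨h, (hσ2 x hx).trans h1.symm, (hσ1 y hy).trans h2.symm⟩
    · exact ⟨1, by rw [one_smul, hσ2 x hx], by rw [one_smul, hσ2 y hy]⟩
  obtain ⟨g, hg⟩ : ∃ g : G, g = (z : G) * g₀ := ⟨_, rfl⟩
  have hgO : ∀ y ∈ O, g • y = w • y := fun y hy => by
    rw [hg, mul_smul, ← hg₀, hσ1 y hy]
    exact hfix _ ((hmem w y).2 hy)
  have hgA : ∀ y, y ∉ O → g • y = z • y := fun y hy => by
    rw [hg, mul_smul, ← hg₀, hσ2 y hy]; rfl
  have hznofix : ∀ y, y ∉ O → z • y ≠ y := by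
    intro y hy hzy
    obtain ⟨h, hh⟩ := MulAction.mem_orbit_iff.1 (hall y hy)
    refine ha ?_
    have : z • h⁻¹ • y = h⁻¹ • y := by rw [smul_smul, ← hzcomm, mul_smul, hzy]
    rwa [← hh, inv_smul_smul] at this
  have hder : ∀ y, g • y ≠ y := fun y => by
    by_cases hy : y ∈ O
    · rw [hgO y hy]; exact hwne y hy
    · rw [hgA y hy]; exact hznofix y hy
  refine ⟨g, ?_, hder⟩
  have hpow : g ^ p = 1 := by
    refine eq_of_smul_eq_smul fun y : Ω => ?_
    rw [one_smul]
    by_cases hy : y ∈ O
    · have : ∀ k : ℕ, g ^ k • y = w ^ k • y := by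
        intro k
        induction k with
        | zero => simp
        | succ k ih => rw [pow_succ', pow_succ', mul_smul, mul_smul, ih,
            hgO _ ((hmem (w ^ k) y).2 hy)]
      rw [this, hwp y hy]
    · have : ∀ k : ℕ, g ^ k • y = z ^ k • y := by
        intro k
        induction k with
        | zero => simp
        | succ k ih => rw [pow_succ', pow_succ', mul_smul, mul_smul, ih,
            hgA _ (fun h => hy ((hmem (z ^ k) y).1 h))]
      rw [this, ← hzp, pow_orderOf_eq_one, one_smul]
  rw [orderOf_eq_prime hpow fun h => hder b (by rw [h, one_smul])]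
  exact hp

end Cfsg.Agent.S3557
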