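import Cfsg.Statements.S3560
import Cfsg.Agent.EqLemmas

set_option autoImplicit false
open Cfsg

namespace Cfsg.Agent.S3560

section Hamming

open scoped Pointwise

variable {ι : Type*} [Fintype ι] [DecidableEq ι] {m : ℕ} {Ω : Type*}

/-- The automorphisms of the Hamming graph on `Ω ≃ (ι → Fin m)`. -/
def hammingAut (δ : Ω ≃ (ι → Fin m)) : Subgroup (Equiv.Perm Ω) where
  carrier := {σ | ∀ a b, hammingDist (δ (σ a)) (δ (σ b)) = 1 ↔ hammingDist (δ a) (δ b) = 1}
  one_mem' := fun a b => Iff.rfl
  mul_mem' := fun {σ τ} hσ hτ a b => (hσ (τ a) (τ b)).trans (hτ a b)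
  inv_mem' := fun {σ} hσ a b => by
    conv_rhs => rw [← σ.apply_symm_apply a, ← σ.apply_symm_apply b]
    exact (hσ _ _).symm

variable (δ : Ω ≃ (ι → Fin m))

theorem permCongr_mem {f : Equiv.Perm (ι → Fin m)}
    (hf : ∀ u v, hammingDist (f u) (f v) = hammingDist u v) :
    δ.symm.permCongr f ∈ hammingAut δ := fun a b => by
  simp [Equiv.permCongr_apply, hf]

theorem dist_relabel (τ : ι → Equiv.Perm (Fin m)) (u v : ι → Fin m) :
    hammingDist (Equiv.piCongrRight τ u) (Equiv.piCongrRight τ v) = hammingDist u v :=
  hammingDist_comp (fun i => τ i) fun i => (τ i).injective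

theorem dist_shuffle (π : Equiv.Perm ι) (u v : ι → Fin m) :
    hammingDist (fun k => u (π k)) (fun k => v (π k)) = hammingDist u v := by
  simp only [hammingDist]
  refine Finset.card_bij (fun k _ => π k) ?_ ?_ ?_
  · intro k hk; simpa using hk
  · intro k _ l _ h; exact π.injective h
  · intro k hk; exact ⟨π.symm k, by simpa using hk, by simp⟩

theorem hammingAut_preprimitive (hm : 3 ≤ m) :
    MulAction.IsPreprimitive (hammingAut δ) Ω := by
  have htr : MulAction.IsPretransitive (hammingAut δ) Ω := by
    refine ⟨fun a b => ?_⟩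
    refine ⟨⟨_, permCongr_mem δ (dist_relabel fun i => Equiv.swap (δ a i) (δ b i))⟩, ?_⟩
    show δ.symm.permCongr _ a = b
    apply δ.injective
    funext i
    simp [Equiv.permCongr_apply]
  refine { toIsPretransitive := htr, isTrivialBlock_of_isBlock := fun {B} hB => ?_ }
  rw [MulAction.IsTrivialBlock, or_iff_not_imp_left]
  intro hns
  -- an automorphism fixing a point of `B` preserves `B`
  have hmove : ∀ (f : Equiv.Perm (ι → Fin m)), (∀ u v, hammingDist (f u) (f v) = hammingDist u v) →
      ∀ x z, δ.symm x ∈ B → δ.symm z ∈ B → f x = x → δ.symm (f z) ∈ B := by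
    intro f hf x z hx hz hfx
    set g : hammingAut δ := ⟨_, permCongr_mem δ hf⟩
    have hg : ∀ w, g • δ.symm w = δ.symm (f w) := fun w => by
      show δ.symm.permCongr f (δ.symm w) = _
      simp [Equiv.permCongr_apply]
    have hgx : g • δ.symm x = δ.symm x := by rw [hg, hfx]
    have heq : g • B = B := by
      by_contra hne
      have h1 : g • δ.symm x ∈ g • B := Set.smul_mem_smul_set hx
      rw [hgx] at h1
      have h2 := @hB g 1 (by simpa using hne)
      rw [one_smul] at h2
      exact Set.disjoint_left.1 h2 h1 hx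
    rw [← hg, ← heq]
    exact Set.smul_mem_smul_set hz
  -- the points of `B` all whose neighbours lie in `B`
  let good : (ι → Fin m) → Prop := fun y => δ.symm y ∈ B ∧
    ∀ j v, δ.symm (Function.update y j v) ∈ B
  have hline : ∀ y i v, δ.symm y ∈ B → δ.symm (Function.update y i v) ∈ B → v ≠ y i →
      good y := by
    intro y i v hy hz hv
    have hall : ∀ w, δ.symm (Function.update y i w) ∈ B := by
      intro w
      rcases eq_or_ne w (y i) with rfl | hw
      · rwa [Function.update_eq_self]
      let τ : ι → Equiv.Perm (Fin m) := fun k => if k = i then Equiv.swap v w else Equiv.refl _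
      have h1 := hmove _ (dist_relabel τ) y _ hy hz (by
        funext k
        by_cases hk : k = i
        · subst hk
          simp [τ, Equiv.swap_apply_of_ne_of_ne hv.symm hw.symm]
        · simp [τ, hk])
      convert h1 using 2
      funext k
      by_cases hk : k = i
      · subst hk; simp [τ]
      · simp [τ, hk]
    refine ⟨hy, fun j w => ?_⟩
    -- exchange the coordinates `i` and `j`, fixing `y`
    let τ : ι → Equiv.Perm (Fin m) := fun k =>
      if k = i ∨ k = j then Equiv.swap (y i) (y j) else Equiv.refl _
    let f : Equiv.Perm (ι → Fin m) :=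
      ((Equiv.swap i j).arrowCongr (Equiv.refl (Fin m))).trans (Equiv.piCongrRight τ)
    have hf : ∀ u k, f u k = τ k (u (Equiv.swap i j k)) := fun u k => by
      simp [f, Equiv.arrowCongr, Function.comp_def]
    have hfd : ∀ u u', hammingDist (f u) (f u') = hammingDist u u' := fun u u' => by
      have e : ∀ t, f t = Equiv.piCongrRight τ (fun k => t (Equiv.swap i j k)) := fun t =>
        funext (hf t)
      rw [e, e, dist_relabel, dist_shuffle]
    have hfy : f y = y := by
      funext k
      rw [hf]
      by_cases hki : k = i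
      · subst hki; simp [τ]
      by_cases hkj : k = j
      · subst hkj; simp [τ]
      · simp [τ, hki, hkj, Equiv.swap_apply_of_ne_of_ne hki hkj]
    have h1 := hmove f hfd y _ hy (hall (Equiv.swap (y i) (y j) w)) hfy
    convert h1 using 2
    funext k
    rw [hf]
    by_cases hkj : k = j
    · subst hkj; simp [τ]
    by_cases hki : k = i
    · subst hki; simp [τ, hkj, Function.update_of_ne (Ne.symm hkj)]
    · simp [τ, hki, hkj, Equiv.swap_apply_of_ne_of_ne hki hkj]
  have hnext : ∀ y j v, good y → good (Function.update y j v) := by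
    intro y j v hy
    rcases eq_or_ne v (y j) with rfl | hv
    · rwa [Function.update_eq_self]
    refine hline _ j (y j) (hy.2 j v) ?_ (by simpa using hv.symm)
    rw [Function.update_idem, Function.update_eq_self]
    exact hy.1
  -- two points of `B` differing in one coordinate
  obtain ⟨y, hy⟩ : ∃ y, good y := by
    obtain ⟨a, ha, b, hb, hab⟩ := Set.not_subsingleton_iff.1 hns
    obtain ⟨i, hi⟩ := Function.ne_iff.1 (fun h => hab (δ.injective h))
    obtain ⟨c, hca, hcb⟩ : ∃ c : Fin m, c ≠ δ a i ∧ c ≠ δ b i := by
      by_contra! h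
      have hsub : (Finset.univ : Finset (Fin m)) ⊆ {δ a i, δ b i} := fun c _ => by
        by_cases hc : c = δ a i
        · simp [hc]
        · simp [h c hc]
      have := Finset.card_le_card hsub
      have := Finset.card_le_two (a := δ a i) (b := δ b i)
      simp at *
      omega
    let τ : ι → Equiv.Perm (Fin m) := fun k => if k = i then Equiv.swap (δ b i) c else Equiv.refl _
    have h1 := hmove _ (dist_relabel τ) (δ a) (δ b) (by simpa using ha) (by simpa using hb) (by
      funext k
      by_cases hk : k = i
      · subst hk; simp [τ, Equiv.swap_apply_of_ne_of_ne hi hca.symm]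
      · simp [τ, hk])
    refine ⟨δ b, hline _ i c (by simpa using hb) ?_ hcb⟩
    convert h1 using 2
    funext k
    by_cases hk : k = i
    · subst hk; simp [τ]
    · simp [τ, hk]
  refine Set.eq_univ_of_forall fun a => ?_
  have key : ∀ t : Finset ι, good (fun k => if k ∈ t then δ a k else y k) := by
    intro t
    induction t using Finset.induction_on with
    | empty => simpa using hy
    | @insert j t hj ih =>
      convert hnext _ j (δ a j) ih using 1
      funext k
      by_cases hk : k = j
      · subst hk; simp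
      · simp [hk]
  simpa using (key Finset.univ).1

theorem hammingAut_not_two (hm : 2 ≤ m) (hr : 2 ≤ Fintype.card ι) :
    ¬ MulAction.IsMultiplyPretransitive (hammingAut δ) Ω 2 := by
  intro h
  rw [MulAction.is_two_pretransitive_iff] at h
  obtain ⟨i, j, hij⟩ := Fintype.exists_pair_of_one_lt_card hr
  let o : Fin m := ⟨0, by omega⟩
  let l : Fin m := ⟨1, by omega⟩
  have hol : o ≠ l := by simp [o, l]
  let x : ι → Fin m := fun _ => o
  let y := Function.update x i l
  let z := Function.update y j l
  have hxy : hammingDist x y = 1 := by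
    rw [hammingDist, Finset.card_eq_one]
    exact ⟨i, by ext k; by_cases hk : k = i <;> simp [x, y, hk, hol]⟩
  have hxz : hammingDist x z = 2 := by
    rw [hammingDist, Finset.card_eq_two]
    refine ⟨i, j, hij, ?_⟩
    ext k
    by_cases hk : k = j
    · simp [x, y, z, hk, hol]
    by_cases hk' : k = i <;> simp [x, y, z, hk, hk', hol, hij]
  have hne : ∀ {u v : ι → Fin m}, hammingDist u v ≠ 0 → δ.symm u ≠ δ.symm v := fun h e =>
    h (hammingDist_eq_zero.2 (δ.symm.injective e))
  obtain ⟨g, hg1, hg2⟩ := h (hne (show hammingDist x y ≠ 0 by omega))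
    (hne (show hammingDist x z ≠ 0 by omega))
  have h1 : hammingDist (δ ((g : Equiv.Perm Ω) (δ.symm x))) (δ ((g : Equiv.Perm Ω) (δ.symm y))) = 1 :=
    (g.2 _ _).2 (by simpa using hxy)
  rw [show (g : Equiv.Perm Ω) (δ.symm x) = δ.symm x from hg1,
    show (g : Equiv.Perm Ω) (δ.symm y) = δ.symm z from hg2] at h1
  simp only [Equiv.apply_symm_apply] at h1
  omega

end Hamming

/-- Let K be a finite group isomorphic to a direct product of r ≥ 2 groups all of the same order m ≥ 3. Then K is not a B-group: there is a primitive but not doubly transitive permutation group (on some finite set) containing a regular subgroup isomorphic to K. -/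
theorem result {K : Type*} [Group K] [Finite K] {ι : Type*} [Fintype ι] (F : ι → Type*) [∀ i, Group (F i)]
    (hr : 2 ≤ Fintype.card ι) (m : ℕ) (hm : 3 ≤ m) (hcard : ∀ i, Nat.card (F i) = m) (e : K ≃* (∀ i, F i)) :
    ∃ (n : ℕ) (G R : Subgroup (Equiv.Perm (Fin n))), R ≤ G ∧ Nonempty (↥R ≃* K) ∧
      MulAction.IsPretransitive ↥R (Fin n) ∧ (∀ a : Fin n, MulAction.stabilizer ↥R a = ⊥) ∧
      MulAction.IsPreprimitive ↥G (Fin n) ∧ ¬ MulAction.IsMultiplyPretransitive ↥G (Fin n) 2 := by
  classical
  let f : ∀ i, F i ≃ Fin m := fun i =>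
    haveI : Finite (F i) := Nat.finite_of_card_ne_zero (by rw [hcard i]; omega)
    (Finite.equivFin (F i)).trans (finCongr (hcard i))
  let β : K ≃ Fin (Fintype.card (ι → Fin m)) :=
    (e.toEquiv.trans (Equiv.piCongrRight f)).trans (Fintype.equivFin _)
  let δ : Fin (Fintype.card (ι → Fin m)) ≃ (ι → Fin m) := (Fintype.equivFin _).symm
  let φ : K →* Equiv.Perm (Fin (Fintype.card (ι → Fin m))) :=
    (β.permCongrHom.toMonoidHom).comp (MulAction.toPermHom K K)
  have hφ : ∀ k x, φ k x = β (k * β.symm x) := fun k x => rfl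
  have hinj : Function.Injective φ := fun a b h => by
    have := congrArg (fun q : Equiv.Perm _ => q (β 1)) h
    simpa [hφ] using this
  refine ⟨_, hammingAut δ, φ.range, ?_, ⟨(MonoidHom.ofInjective hinj).symm⟩,
    ⟨fun a b => ⟨⟨φ (β.symm b * (β.symm a)⁻¹), _, rfl⟩, ?_⟩⟩, fun a => ?_,
    hammingAut_preprimitive δ hm, hammingAut_not_two δ (by omega) hr⟩
  · rintro _ ⟨k, rfl⟩ a b
    have h : ∀ c, δ (φ k c) = fun i => f i (e k i * (f i).symm (δ c i)) := by
      intro c
      funext i
      have : e (β.symm c) = (Equiv.piCongrRight f).symm (δ c) := by simp [β, δ]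
      simp [hφ, β, δ, this]
    rw [h, h, hammingDist_comp (fun i => fun v => f i (e k i * (f i).symm v))
      (fun i => (f i).injective.comp ((mul_right_injective _).comp (f i).symm.injective))]
  · show φ _ a = b
    rw [hφ, inv_mul_cancel_right, Equiv.apply_symm_apply]
  · rw [eq_bot_iff]
    rintro ⟨_, k, rfl⟩ hk
    have h1 : φ k a = a := hk
    rw [hφ] at h1
    have h2 := congrArg β.symm h1
    rw [Equiv.symm_apply_apply, mul_eq_right] at h2
    rw [Subgroup.mem_bot]
    exact Subtype.ext (by simp [h2])

end Cfsg.Agent.S3560
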