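import Cfsg.Statements.S3571
import Cfsg.Agent.Lib.AltDerange.Core
import Cfsg.Agent.Lib.AltDerange.Six
import Mathlib.GroupTheory.GroupAction.Primitive

set_option autoImplicit false
open Cfsg

namespace Cfsg.Agent.S3571

open Equiv MulAction

/-- Conjugation of `Sₘ` on `Aₘ` is faithful for `m ≥ 4`. -/
theorem conjNormal_injective {m : ℕ} (hm : 4 ≤ m) :
    Function.Injective (MulAut.conjNormal : Perm (Fin m) →* MulAut (alternatingGroup (Fin m))) := by
  rw [injective_iff_map_eq_one]
  intro σ hσ
  refine Perm.ext fun a => ?_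
  by_contra h
  set b := σ a with hb
  replace h : b ≠ a := h
  obtain ⟨c, hc, d, hd, hcd⟩ : ∃ c, (c ≠ a ∧ c ≠ b) ∧ ∃ d, (d ≠ a ∧ d ≠ b) ∧ c ≠ d := by
    have h2 : 1 < ({a, b}ᶜ : Finset (Fin m)).card := by
      rw [Finset.card_compl, Fintype.card_fin]
      have := Finset.card_le_two (a := a) (b := b)
      omega
    obtain ⟨c, hc, d, hd, hcd⟩ := Finset.one_lt_card.1 h2
    simp only [Finset.mem_compl, Finset.mem_insert, Finset.mem_singleton, not_or] at hc hd
    exact ⟨c, hc, d, hd, hcd⟩
  set t := swap b c * swap b d with ht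
  have ht3 : t.IsThreeCycle :=
    Perm.isThreeCycle_swap_mul_swap_same hc.2.symm hd.2.symm hcd
  have hta : t a = a := by
    simp [ht, swap_apply_of_ne_of_ne (fun e => h e.symm) hd.1.symm,
      swap_apply_of_ne_of_ne (fun e => h e.symm) hc.1.symm]
  have h1 : σ * t * σ⁻¹ = t := by
    have := congrArg Subtype.val
      (DFunLike.congr_fun hσ (⟨t, ht3.mem_alternatingGroup⟩ : alternatingGroup (Fin m)))
    simpa [MulAut.conjNormal_apply] using this
  rw [mul_inv_eq_iff_eq_mul] at h1
  have h2 := Perm.ext_iff.1 h1 a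
  simp only [Perm.mul_apply, hta, ← hb] at h2
  have h3 : t b = d := by
    simp [ht, swap_apply_of_ne_of_ne hd.2 (fun e => hcd e.symm)]
  exact hd.2 (h3.symm.trans h2.symm)

/-- Let G be an almost simple group whose socle is an alternating group of degree m ≥ 5 (G has a normal subgroup T isomorphic to that alternating group with trivial centralizer), acting faithfully and primitively on a finite set Ω with at least two points, and let r be the largest prime divisor of the number of points. Then G contains an element of order r fixing no point. -/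
theorem result {G Ω : Type*} [Group G] [Finite G] [MulAction G Ω] [FaithfulSMul G Ω] [Finite Ω]
    (T : Subgroup G) (hT : T.Normal) (hTc : Subgroup.centralizer (T : Set G) = ⊥) (m : ℕ) (hm : 5 ≤ m)
    (eT : ↥T ≃* ↥(alternatingGroup (Fin m))) (hprim : MulAction.IsPreprimitive G Ω) (hΩ : 2 ≤ Nat.card Ω)
    (r : ℕ) (hr : r.Prime) (hrd : r ∣ Nat.card Ω) (hmax : ∀ s : ℕ, s.Prime → s ∣ Nat.card Ω → s ≤ r) :
    ∃ g : G, orderOf g = r ∧ ∀ ω : Ω, g • ω ≠ ω := by
  classical
  haveI := hprim
  haveI := hT
  haveI : Nontrivial Ω := Finite.one_lt_card_iff_nontrivial.1 (by omega)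
  -- the socle is transitive
  haveI : Nontrivial T := by
    haveI : Nontrivial (alternatingGroup (Fin m)) := by
      refine Finite.one_lt_card_iff_nontrivial.1 ?_
      haveI : Nontrivial (Fin m) := Fin.nontrivial_iff_two_le.2 (by omega)
      have h2 := two_mul_nat_card_alternatingGroup (α := Fin m)
      rw [Nat.card_perm, Nat.card_fin] at h2
      have := Nat.self_le_factorial m
      omega
    exact eT.toEquiv.nontrivial
  haveI hTt : IsPretransitive T Ω := by
    refine IsQuasiPreprimitive.isPretransitive_of_normal (G := G) fun h => ?_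
    obtain ⟨x, y, hxy⟩ := exists_pair_ne T
    refine hxy (Subtype.ext (eq_of_smul_eq_smul (α := Ω) fun ω => ?_))
    have hω : ω ∈ fixedPoints T Ω := h ▸ Set.mem_univ ω
    exact (mem_fixedPoints.1 hω x).trans (mem_fixedPoints.1 hω y).symm
  -- the action of the alternating group
  letI : MulAction (alternatingGroup (Fin m)) Ω := MulAction.compHom Ω eT.symm.toMonoidHom
  have hsmul : ∀ (a : alternatingGroup (Fin m)) (ω : Ω), a • ω = ((eT.symm a : T) : G) • ω :=
    fun a ω => rfl
  haveI : IsPretransitive (alternatingGroup (Fin m)) Ω := ⟨fun x y => by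
    obtain ⟨t, ht⟩ := exists_smul_eq T x y
    exact ⟨eT t, by rw [hsmul, eT.symm_apply_apply]; exact ht⟩⟩
  suffices h : ∃ t : alternatingGroup (Fin m), orderOf t = r ∧ ∀ ω : Ω, t • ω ≠ ω by
    obtain ⟨t, ht, hfix⟩ := h
    exact ⟨(eT.symm t : T), by rw [Subgroup.orderOf_coe, MulEquiv.orderOf_eq, ht], hfix⟩
  by_cases h6 : m = 6
  · subst h6
    exact AltDerange.six hΩ hr hrd hmax
  -- the embedding of `G` in the symmetric group
  have hsurj : Function.Surjective (MulAut.conjNormal : Perm (Fin m) →* MulAut (alternatingGroup (Fin m))) :=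
    fun θ => AltAut.exists_conjNormal_of_threeCycle (by omega) θ (AltAut.threeCycle_of_ne_six h6 θ)
  let e : Perm (Fin m) ≃* MulAut (alternatingGroup (Fin m)) :=
    MulEquiv.ofBijective _ ⟨conjNormal_injective (by omega), hsurj⟩
  let θ : G →* MulAut (alternatingGroup (Fin m)) :=
    (MulAut.congr eT).toMonoidHom.comp MulAut.conjNormal
  let φ : G →* Perm (Fin m) := e.symm.toMonoidHom.comp θ
  have hφT : ∀ t : T, φ t = (eT t : Perm (Fin m)) := fun t => by
    refine e.injective ?_
    show e (e.symm (θ t)) = _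
    rw [e.apply_symm_apply]
    refine MulEquiv.ext fun a => Subtype.ext ?_
    show ((eT (MulAut.conjNormal (t : G) (eT.symm a)) : alternatingGroup (Fin m)) : Perm (Fin m)) =
      (eT t : Perm (Fin m)) * a * (eT t : Perm (Fin m))⁻¹
    have : MulAut.conjNormal (t : G) (eT.symm a) = t * eT.symm a * t⁻¹ := Subtype.ext rfl
    rw [this, map_mul, map_mul, map_inv, eT.apply_symm_apply]
    rfl
  have hφinj : Function.Injective φ := by
    rw [injective_iff_map_eq_one]
    intro g hg
    have h1 : θ g = 1 := by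
      have := congrArg e hg
      rwa [map_one, show e (φ g) = θ g from e.apply_symm_apply _] at this
    have h2 : g ∈ Subgroup.centralizer (T : Set G) := by
      rw [Subgroup.mem_centralizer_iff]
      intro x hx
      have h3 := DFunLike.congr_fun h1 (eT ⟨x, hx⟩)
      have h4 : eT (MulAut.conjNormal g (⟨x, hx⟩ : T)) = eT ⟨x, hx⟩ := by
        have h5 : θ g (eT ⟨x, hx⟩) = eT (MulAut.conjNormal g (eT.symm (eT ⟨x, hx⟩))) := rfl
        rw [h5, eT.symm_apply_apply] at h3
        simpa using h3
      have h6 : g * x * g⁻¹ = x := congrArg Subtype.val (eT.injective h4)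
      rw [mul_inv_eq_iff_eq_mul] at h6
      exact h6.symm
    rwa [hTc, Subgroup.mem_bot] at h2
  obtain ⟨ω⟩ : Nonempty Ω := inferInstance
  set M := (stabilizer G ω).map φ with hMdef
  have hAG : alternatingGroup (Fin m) ≤ φ.range := fun a ha =>
    ⟨(eT.symm ⟨a, ha⟩ : T), by rw [hφT, eT.apply_symm_apply]⟩
  have hsub : M.subgroupOf (alternatingGroup (Fin m)) = stabilizer (alternatingGroup (Fin m)) ω := by
    ext a
    rw [Subgroup.mem_subgroupOf, mem_stabilizer_iff, hsmul, hMdef,
      show (a : Perm (Fin m)) = φ (eT.symm a : T) by rw [hφT, eT.apply_symm_apply],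
      Subgroup.mem_map_iff_mem hφinj, mem_stabilizer_iff]
  have hidx : M.relIndex (alternatingGroup (Fin m)) = Nat.card Ω := by
    rw [Subgroup.relIndex, hsub, index_stabilizer_of_transitive]
  have hAM : ¬ alternatingGroup (Fin m) ≤ M := fun h => by
    rw [Subgroup.relIndex_eq_one.2 h] at hidx
    omega
  have hmaxM : ∀ X, M < X → X ≤ φ.range → X = φ.range := by
    intro X hMX hX
    have hmap : (X.comap φ).map φ = X := Subgroup.map_comap_eq_self hX
    have hlt : stabilizer G ω < X.comap φ := by
      refine lt_of_le_of_ne (Subgroup.map_le_iff_le_comap.1 hMX.le) fun h => ?_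
      rw [← h] at hmap
      exact hMX.ne hmap
    have htop := (IsPreprimitive.isCoatom_stabilizer_of_isPreprimitive G ω).2 _ hlt
    rw [htop, ← MonoidHom.range_eq_map] at hmap
    exact hmap.symm
  obtain ⟨t, htA, hto, htM⟩ := AltDerange.exists_missing hm φ.range M hAG
    (Subgroup.map_le_range _ _) hAM hmaxM hr (hidx ▸ hrd)
    (fun p hp hpd => hmax p hp (hidx ▸ hpd))
  refine ⟨⟨t, htA⟩, by rw [← Subgroup.orderOf_coe]; exact hto, fun ψ hψ => ?_⟩
  obtain ⟨x, hx⟩ := exists_smul_eq G ψ ω
  refine htM (φ x) ⟨x, rfl⟩ ?_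
  have hk : x * ((eT.symm ⟨t, htA⟩ : T) : G) * x⁻¹ ∈ stabilizer G ω := by
    rw [mem_stabilizer_iff, mul_smul, mul_smul, ← hx, inv_smul_smul]
    rw [hsmul] at hψ
    rw [hψ]
  have hm' := Subgroup.mem_map_of_mem φ hk
  rwa [map_mul, map_mul, map_inv, hφT, eT.apply_symm_apply] at hm'

end Cfsg.Agent.S3571
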