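import Cfsg.Statements.S3573
import Cfsg.Agent.EqLemmas

set_option autoImplicit false
open Cfsg
open scoped Pointwise

namespace Cfsg.Agent.S3573

open Equiv Equiv.Perm in
/-- All elements of prime order `r` fix a `k`-set iff `k % r ≤ n % r`. -/
theorem criterion (n k r : ℕ) (hr : r.Prime) (hk : k ≤ n) (hrn : r ≤ n) :
    (∀ σ : Equiv.Perm (Fin n), orderOf σ = r → ∃ s : Finset (Fin n), s.card = k ∧ s.image σ = s)
      ↔ k % r ≤ n % r := by
  classical
  have := Fact.mk hr
  constructor
  · intro h
    obtain ⟨σ, hσ⟩ := (Equiv.Perm.exists_with_cycleType_iff (Fin n)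
      (m := Multiset.replicate (n / r) r)).2 ⟨by
        rw [Multiset.sum_replicate, smul_eq_mul, Fintype.card_fin]
        exact Nat.div_mul_le_self n r, fun a ha => by
          rw [Multiset.eq_of_mem_replicate ha]; exact hr.two_le⟩
    have hord : orderOf σ = r := by
      rw [← σ.lcm_cycleType, hσ]
      obtain ⟨j, hj⟩ : ∃ j, n / r = j + 1 :=
        ⟨n / r - 1, by have := Nat.div_pos hrn hr.pos; omega⟩
      rw [hj]
      apply Nat.dvd_antisymm
      · exact Multiset.lcm_dvd.2 fun b hb => by rw [Multiset.eq_of_mem_replicate hb]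
      · exact Multiset.dvd_lcm (by simp)
    have hsupp : σ.support.card = (n / r) * r := by
      rw [← σ.sum_cycleType, hσ, Multiset.sum_replicate, smul_eq_mul]
    obtain ⟨s, hs, himg⟩ := h σ hord
    have hmem : ∀ g ∈ Subgroup.zpowers σ, g ∈ MulAction.stabilizer (Equiv.Perm (Fin n)) s := by
      intro g hg
      refine (Subgroup.zpowers_le.2 ?_) hg
      exact MulAction.mem_stabilizer_iff.2 himg
    let S : SubMulAction (Subgroup.zpowers σ) (Fin n) :=
      { carrier := (s : Set (Fin n))
        smul_mem' := fun g x hx => by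
          have h1 : g.1 • x ∈ g.1 • s := Finset.smul_mem_smul_finset hx
          rw [MulAction.mem_stabilizer_iff.1 (hmem g.1 g.2)] at h1
          exact h1 }
    have hpg : IsPGroup r (Subgroup.zpowers σ) :=
      IsPGroup.of_card (n := 1) (by rw [Nat.card_zpowers, hord, pow_one])
    have hmod := hpg.card_modEq_card_fixedPoints S
    have hS : Nat.card S = k := by
      rw [← hs]; exact (Nat.card_coe_set_eq _).trans (Set.ncard_coe_finset s)
    rw [hS] at hmod
    have hle : Nat.card (MulAction.fixedPoints (Subgroup.zpowers σ) S) ≤ n % r := by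
      have h1 : Nat.card (MulAction.fixedPoints (Subgroup.zpowers σ) S)
          ≤ Nat.card {x : Fin n // x ∈ σ.supportᶜ} := by
        refine Nat.card_le_card_of_injective (fun x => ⟨x.1.1, ?_⟩) fun x y e => ?_
        · have := congrArg Subtype.val (x.2 ⟨σ, Subgroup.mem_zpowers σ⟩)
          rw [Finset.mem_compl, Equiv.Perm.notMem_support]
          exact this
        · exact Subtype.ext (Subtype.ext (congrArg Subtype.val e :))
      rw [Nat.card_eq_fintype_card (α := {x : Fin n // x ∈ σ.supportᶜ}), Fintype.card_coe,
        Finset.card_compl, hsupp, Fintype.card_fin] at h1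
      have := Nat.div_add_mod n r
      rw [mul_comm] at this
      omega
    calc k % r = Nat.card (MulAction.fixedPoints (Subgroup.zpowers σ) S) % r := hmod
      _ ≤ _ := Nat.mod_le _ _
      _ ≤ n % r := hle
  · intro hkr σ hσ
    obtain ⟨j, hj⟩ := Equiv.Perm.cycleType_prime_order (hσ ▸ hr)
    rw [hσ] at hj
    have hsupp : σ.support.card = (j + 1) * r := by
      rw [← σ.sum_cycleType, hj, Multiset.sum_replicate, smul_eq_mul]
    have hjn : (j + 1) * r ≤ n := by
      have := σ.support.card_le_univ
      rwa [hsupp, Fintype.card_fin] at this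
    have hcyc : ∀ c ∈ σ.cycleFactorsFinset, c.support.card = r := by
      intro c hc
      have : c.support.card ∈ σ.cycleType := by
        rw [Equiv.Perm.cycleType_def]
        exact Multiset.mem_map_of_mem (Finset.card ∘ Equiv.Perm.support) hc
      rw [hj] at this
      exact Multiset.eq_of_mem_replicate this
    have hnum : σ.cycleFactorsFinset.card = j + 1 := by
      have := congrArg Multiset.card hj
      rw [Equiv.Perm.cycleType_def, Multiset.card_map, Multiset.card_replicate] at this
      exact this
    obtain ⟨A, hA, hAcard⟩ := Finset.exists_subset_card_eq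
      (show min (j + 1) (k / r) ≤ σ.cycleFactorsFinset.card by omega)
    have hfix : k - min (j + 1) (k / r) * r ≤ n - (j + 1) * r := by
      rcases le_total (j + 1) (k / r) with h | h
      · rw [min_eq_left h]; exact Nat.sub_le_sub_right hk _
      · rw [min_eq_right h]
        have h1 : n % r ≤ n - (j + 1) * r := by
          conv_lhs => rw [← Nat.sub_add_cancel hjn, Nat.add_mul_mod_self_right]
          exact Nat.mod_le _ _
        have h2 := Nat.div_add_mod k r
        rw [mul_comm] at h2
        omega
    obtain ⟨F, hF, hFcard⟩ := Finset.exists_subset_card_eq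
      (show k - min (j + 1) (k / r) * r ≤ σ.supportᶜ.card by
        rw [Finset.card_compl, hsupp, Fintype.card_fin]; exact hfix)
    refine ⟨A.biUnion Equiv.Perm.support ∪ F, ?_, ?_⟩
    · have hdisj : Disjoint (A.biUnion Equiv.Perm.support) F := by
        rw [Finset.disjoint_left]
        intro x hx hxF
        obtain ⟨c, hc, hxc⟩ := Finset.mem_biUnion.1 hx
        exact Finset.mem_compl.1 (hF hxF) (mem_cycleFactorsFinset_support_le (hA hc) hxc)
      rw [Finset.card_union_of_disjoint hdisj, Finset.card_biUnion fun c hc d hd hcd =>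
        (σ.cycleFactorsFinset_pairwise_disjoint (hA hc) (hA hd) hcd).disjoint_support,
        Finset.sum_congr rfl fun c hc => hcyc c (hA hc), Finset.sum_const, hAcard, hFcard,
        smul_eq_mul]
      have : min (j + 1) (k / r) * r ≤ k :=
        le_trans (Nat.mul_le_mul_right r (min_le_right _ _)) (Nat.div_mul_le_self k r)
      omega
    · refine Finset.eq_of_subset_of_card_le ?_ (by rw [Finset.card_image_of_injective _ σ.injective])
      intro y hy
      obtain ⟨x, hx, rfl⟩ := Finset.mem_image.1 hy
      rcases Finset.mem_union.1 hx with hx | hx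
      · obtain ⟨c, hc, hxc⟩ := Finset.mem_biUnion.1 hx
        refine Finset.mem_union_left _ (Finset.mem_biUnion.2 ⟨c, hc, ?_⟩)
        rw [← (mem_cycleFactorsFinset_iff.1 (hA hc)).2 x hxc]
        exact Equiv.Perm.apply_mem_support.2 hxc
      · rw [Equiv.Perm.notMem_support.1 (Finset.mem_compl.1 (hF hx))]
        exact Finset.mem_union_right _ hx

/-- Let 1 ≤ k with 2k < n and consider the symmetric group of degree n acting on the k-subsets of an n-set. Let r be a prime dividing the number C(n,k) of k-subsets. If r is odd, then every permutation of order r fixes some k-subset if and only if r ≤ k and the remainder of k modulo r is at most the remainder of n modulo r. If r = 2, then every involution fixes some k-subset if and only if k is even or n is odd. -/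
theorem result (n k : ℕ) (hk : 1 ≤ k) (hkn : 2 * k < n) (r : ℕ) (hr : r.Prime) (hrd : r ∣ Nat.choose n k) :
    (r ≠ 2 → ((∀ σ : Equiv.Perm (Fin n), orderOf σ = r → ∃ s : Finset (Fin n), s.card = k ∧ s.image σ = s) ↔
      (r ≤ k ∧ k % r ≤ n % r))) ∧
    (r = 2 → ((∀ σ : Equiv.Perm (Fin n), orderOf σ = 2 → ∃ s : Finset (Fin n), s.card = k ∧ s.image σ = s) ↔
      (Even k ∨ Odd n))) := by
  have := Fact.mk hr
  have hrn : r ≤ n := by
    refine (Nat.Prime.dvd_factorial hr).1 ?_
    rw [← Nat.choose_mul_factorial_mul_factorial (show k ≤ n by omega)]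
    exact dvd_mul_of_dvd_left (dvd_mul_of_dvd_left hrd _) _
  have hcrit := criterion n k r hr (by omega) hrn
  constructor
  · intro _
    refine hcrit.trans ⟨fun h => ⟨?_, h⟩, fun h => h.2⟩
    by_contra hkr
    have hkr : k < r := not_le.1 hkr
    have h1 := Choose.choose_modEq_choose_mod_mul_choose_div_nat (n := n) (k := k) (p := r)
    rw [Nat.mod_eq_of_lt hkr] at h h1
    rw [Nat.div_eq_of_lt hkr, Nat.choose_zero_right, mul_one] at h1
    have h2 : r ∣ (n % r).choose k := (Nat.modEq_zero_iff_dvd).1
      ((h1.symm).trans (Nat.modEq_zero_iff_dvd.2 hrd))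
    have h3 : r ∣ (n % r).factorial := by
      rw [← Nat.choose_mul_factorial_mul_factorial h]
      exact dvd_mul_of_dvd_left (dvd_mul_of_dvd_left h2 _) _
    have := (Nat.Prime.dvd_factorial hr).1 h3
    have := Nat.mod_lt n hr.pos
    omega
  · rintro rfl
    refine hcrit.trans ?_
    rw [Nat.even_iff, Nat.odd_iff]
    omega

end Cfsg.Agent.S3573
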