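import Cfsg.Statements.S3575
import Cfsg.Agent.Lib.Partition.PrimeFix
-- import your own Cfsg.Agent.* helpers here

set_option autoImplicit false
open Cfsg

namespace Cfsg.Agent.S3575

/-- Let a, b ≥ 2 and consider the symmetric group of degree a·b acting on the partitions of an (a·b)-set into b parts of size a (encoded as maps onto a b-element set all of whose fibres have a elements; a permutation fixes such a partition when it permutes the fibres). Let r be a prime dividing the number (ab)!/((a!)^b·b!) of such partitions, and let ℓ and k be the remainders of a and b modulo r. Then every permutation of order r fixes some such partition if and only if r ≤ a and one of the following holds: ℓ = 0; or k = 0 and ℓ = 1; or ℓ and k are non-zero, k·ℓ < r, and either b < r or (k + r)·ℓ ≤ k·a + r. -/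
theorem result (a b : ℕ) (ha : 2 ≤ a) (hb : 2 ≤ b) (r : ℕ) (hr : r.Prime)
    (hrd : r ∣ (a * b).factorial / (a.factorial ^ b * b.factorial)) :
    (∀ σ : Equiv.Perm (Fin (a * b)), orderOf σ = r →
        ∃ f : Fin (a * b) → Fin b, (∀ j : Fin b, Nat.card {x : Fin (a * b) // f x = j} = a) ∧
          ∃ π : Equiv.Perm (Fin b), ∀ x : Fin (a * b), f (σ x) = π (f x)) ↔
      (r ≤ a ∧ (a % r = 0 ∨ (b % r = 0 ∧ a % r = 1) ∨
        (a % r ≠ 0 ∧ b % r ≠ 0 ∧ (b % r) * (a % r) < r ∧ (b < r ∨ (b % r + r) * (a % r) ≤ (b % r) * a + r)))) := by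
  haveI := Fact.mk hr
  have hr0 := hr.pos
  have hrN : r ≤ a * b :=
    (hr.dvd_factorial).1 (hrd.trans (Nat.div_dvd_of_dvd (by
      have := Nat.factorial_pos a
      have := Nat.factorial_pos b
      exact ⟨Nat.uniformBell b a, by
        rw [mul_comm a b, ← Nat.uniformBell_mul_eq b (n := a) (by omega)]; ring⟩)))
  set q := a / r with hqdef
  set l := a % r
  set K := b / r with hKdef
  set k := b % r
  have hal : a = q * r + l := (Nat.div_add_mod' a r).symm
  have hbk : b = K * r + k := (Nat.div_add_mod' b r).symm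
  have hl : l < r := Nat.mod_lt _ hr0
  have hk : k < r := Nat.mod_lt _ hr0
  have hend : ∀ s, s * r ≤ b → a * s + (b - s * r) * q = b * q + s * l := by
    intro s hs
    obtain ⟨d, hd⟩ := Nat.exists_eq_add_of_le hs
    rw [hd, Nat.add_sub_cancel_left, hal]
    ring
  have hsK : ∀ s, s * r ≤ b ↔ s ≤ K := fun s => (Nat.le_div_iff_mul_le hr0).symm
  have htop : a * b / r = b * q + K * l + k * l / r := by
    rw [show a * b = k * l + r * (b * q + K * l) by rw [hal, hbk]; ring,
      Nat.add_mul_div_left _ _ hr0]
    ring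
  clear_value q l K k
  constructor
  · intro h
    have hcov : ∀ u, 1 ≤ u → u ≤ a * b / r →
        ∃ s, s ≤ K ∧ a * s ≤ u ∧ u ≤ b * q + s * l := by
      intro u h1 h2
      obtain ⟨σ, hσ, hσu⟩ := Agent.UniformPartition.exists_perm (r := r) (X := Fin (a * b)) u
        (by rw [Fintype.card_fin]; exact (Nat.le_div_iff_mul_le hr0).1 h2)
      have hne : σ ≠ 1 := fun e => by
        rw [e] at hσu
        simp at hσu
        rcases hσu with h' | h' <;> omega
      obtain ⟨f, hf, π, hπ⟩ := h σ (orderOf_eq_prime hσ hne)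
      obtain ⟨s, hs1, hs2, hs3⟩ :=
        Agent.UniformPartition.decomp_of_fixed (by omega) hσ hf hπ hσu
      rw [← hqdef, hend s hs1] at hs3
      exact ⟨s, (hsK s).1 hs1, hs2, hs3⟩
    have h1u : 1 ≤ a * b / r := (Nat.one_le_div_iff hr0).2 hrN
    have hra : r ≤ a := by
      by_contra hlt
      have hq : q = 0 := hqdef.trans (Nat.div_eq_of_lt (by omega))
      obtain ⟨s, -, hs1, hs2⟩ := hcov 1 le_rfl h1u
      rcases Nat.eq_zero_or_pos s with h0 | h0
      · rw [h0, hq] at hs2; simp at hs2
      · have := Nat.le_mul_of_pos_right a h0; omega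
    have hkl : k * l < r := by
      by_contra hge
      have h1 : 1 ≤ k * l / r := (Nat.one_le_div_iff hr0).2 (by omega)
      obtain ⟨s, hsK', -, hs2⟩ := hcov (a * b / r) h1u le_rfl
      have := Nat.mul_le_mul_right l hsK'
      omega
    have hgap : K ≠ 0 → l ≤ q * k + 1 := by
      intro hK
      have h2a : 2 ≤ a * K := le_trans ha (Nat.le_mul_of_pos_right a (Nat.pos_of_ne_zero hK))
      have haK : a * K ≤ b * q + K * l := by
        rw [← hend K ((hsK K).2 le_rfl)]; exact Nat.le_add_right _ _
      have hT : b * q + K * l ≤ a * b / r := by rw [htop]; exact Nat.le_add_right _ _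
      obtain ⟨s, hsK', hs1, hs2⟩ := hcov (a * K - 1) (by omega)
        ((Nat.sub_le _ _).trans (haK.trans hT))
      have hlt : s < K := by
        rcases Nat.lt_or_ge s K with h' | h'
        · exact h'
        · have := Nat.mul_le_mul_left a h'; omega
      have h3 : (s + 1) * l ≤ K * l := Nat.mul_le_mul_right l hlt
      have h4 : a * K = q * r * K + K * l := by rw [hal]; ring
      have h5 : b * q = q * r * K + q * k := by rw [hbk]; ring
      rw [add_mul, one_mul] at h3
      omega
    refine ⟨hra, ?_⟩
    by_cases hl0 : l = 0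
    · exact Or.inl hl0
    by_cases hk0 : k = 0
    · have hK : K ≠ 0 := fun h0 => by rw [h0, hk0] at hbk; simp at hbk; omega
      have h6 := hgap hK
      rw [hk0, mul_zero] at h6
      exact Or.inr (Or.inl ⟨hk0, by omega⟩)
    refine Or.inr (Or.inr ⟨hl0, hk0, hkl, ?_⟩)
    by_cases hK : K = 0
    · exact Or.inl (by rw [hK] at hbk; omega)
    · refine Or.inr ?_
      calc (k + r) * l = k * l + r * l := by ring
        _ ≤ k * l + r * (q * k + 1) := Nat.add_le_add_left (Nat.mul_le_mul_left r (hgap hK)) _
        _ = k * a + r := by rw [hal]; ring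
  · rintro ⟨hra, hcond⟩ σ hσ
    have hσr : σ ^ r = 1 := by rw [← hσ, pow_orderOf_eq_one]
    obtain ⟨u, -, hu⟩ := Agent.UniformPartition.cycleType_of_pow_eq_one σ hσr
    have huN : u ≤ a * b / r := (Nat.le_div_iff_mul_le hr0).2 (by
      rw [← hu]; simpa using Finset.card_le_univ σ.support)
    have hfac : k * l < r ∧ (l ≤ q * k + 1 ∨ K = 0) := by
      rcases hcond with h | ⟨h1, h2⟩ | ⟨-, -, h1, h2⟩
      · rw [h]; exact ⟨by simpa using hr0, Or.inl (Nat.zero_le _)⟩
      · rw [h1, h2]; exact ⟨by simpa using hr0, Or.inl (Nat.le_add_left _ _)⟩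
      · refine ⟨h1, h2.elim (fun h => Or.inr (hKdef.trans (Nat.div_eq_of_lt h))) fun h => Or.inl ?_⟩
        refine Nat.le_of_mul_le_mul_left ?_ hr0
        have e1 : (k + r) * l = k * l + r * l := by ring
        have e2 : k * a + r = k * l + r * (q * k + 1) := by rw [hal]; ring
        omega
    rw [htop, Nat.div_eq_of_lt hfac.1, add_zero] at huN
    have hs : min K (u / a) * r ≤ b := (hsK _).2 (min_le_left _ _)
    refine Agent.UniformPartition.exists_fixed_partition a b σ hσr hu (min K (u / a)) hs ?_ ?_
    · exact (Nat.mul_le_mul_left a (min_le_right _ _)).trans (Nat.mul_div_le u a)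
    rw [← hqdef, hend _ hs]
    rcases le_or_gt K (u / a) with h | h
    · rw [min_eq_left h]; exact huN
    · rw [min_eq_right h.le]
      have hlt : u < a * (u / a + 1) := Nat.lt_mul_div_succ u (by omega)
      generalize u / a = v at h hlt ⊢
      rcases hfac.2 with h' | h'
      · have e1 : a * (v + 1) = q * r * (v + 1) + v * l + l := by rw [hal]; ring
        have e2 : b * q = q * r * K + q * k := by rw [hbk]; ring
        have e3 : q * r * (v + 1) ≤ q * r * K := Nat.mul_le_mul_left _ h
        omega
      · omega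

end Cfsg.Agent.S3575
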