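import Cfsg.Statements.S3580
import Cfsg.Agent.EqLemmas
import Cfsg.Agent.Lib.HalfFix.Cor

set_option autoImplicit false
open Cfsg

namespace Cfsg.Agent.S3580

/-- Let G act faithfully and transitively on a finite set Ω, let p be an odd prime dividing the order of G and P a Sylow p-subgroup of G. Then the number of orbits of P on Ω is at most (p/(2p − 1))·(number of points). -/
theorem result {G Ω : Type*} [Group G] [Finite G] [MulAction G Ω] [FaithfulSMul G Ω] [Finite Ω]
    (htrans : MulAction.IsPretransitive G Ω) (p : ℕ) [Fact p.Prime] (hp2 : p ≠ 2) (hpG : p ∣ Nat.card G)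
    (P : Sylow p G) :
    (2 * p - 1) * Nat.card (MulAction.orbitRel.Quotient ↥(P : Subgroup G) Ω) ≤ p * Nat.card Ω := by
  classical
  haveI := htrans
  have hp := (Fact.out : p.Prime)
  have hp3 : 3 ≤ p := by have := hp.two_le; omega
  set G0 : Subgroup G := Cfsg.Agent.HalfFix.pGen p ⊤ with hG0
  haveI hn0 : G0.Normal := Cfsg.Agent.HalfFix.pGen_normal _
  have hPG : (P : Subgroup G) ≤ G0 :=
    Cfsg.Agent.HalfFix.le_pGen_of_isPGroup P.isPGroup' le_top
  have hgen : Cfsg.Agent.HalfFix.IsGen p ↥G0 := Cfsg.Agent.HalfFix.isGen_pGen _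
  -- every point is moved by `G0`
  have hmove : ∀ x : Ω, 1 < Nat.card (MulAction.orbit G0 x) := by
    intro x
    by_contra hle
    have hfix : ∀ k ∈ G0, k • x = x := fun k hk => by
      have h1 : (MulAction.orbit G0 x : Set Ω).ncard ≤ 1 := by
        rw [← Nat.card_coe_set_eq]; omega
      exact (Set.ncard_le_one (Set.toFinite _)).1 h1 _ ⟨⟨k, hk⟩, rfl⟩ _ (MulAction.mem_orbit_self x)
    have hbot : ∀ k ∈ G0, k = 1 := fun k hk => eq_of_smul_eq_smul fun z : Ω => by
      obtain ⟨g, rfl⟩ := MulAction.exists_smul_eq G x z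
      have := hfix _ (hn0.conj_mem k hk g⁻¹)
      rw [inv_inv, mul_smul, mul_smul, inv_smul_eq_iff] at this
      rw [one_smul]; exact this
    obtain ⟨g, hg⟩ := exists_prime_orderOf_dvd_card' (G := G) p hpG
    rw [hbot g (Cfsg.Agent.HalfFix.mem_pGen (Subgroup.mem_top g) (k := 1)
      (by rw [pow_one, ← hg, pow_orderOf_eq_one])), orderOf_one] at hg
    exact hp.ne_one hg.symm
  -- few points are fixed by `P`
  set f := (Cfsg.Agent.HalfFix.pts (P : Subgroup G) : Set Ω).ncard with hfdef
  have hf : 0 ≤ Cfsg.Agent.HalfFix.dset p (P : Subgroup G) (Set.univ : Set Ω) := by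
    obtain ⟨t, ht, -, hsum⟩ := Cfsg.Agent.HalfFix.dset_eq_sum_orbits (p := p) (P : Subgroup G) G0
      (s := (Set.univ : Set Ω)) (fun _ _ _ _ => Set.mem_univ _)
    rw [hsum]
    refine Finset.sum_nonneg fun o ho => ?_
    obtain ⟨x, -, rfl⟩ := ht o ho
    rw [← Cfsg.Agent.HalfFix.defect_orbit P hPG x, Cfsg.Agent.HalfFix.defect]
    have h := Cfsg.Agent.HalfFix.fix_bound hgen (hmove x) (P.subtype hPG)
    rw [← Cfsg.Agent.HalfFix.fixCount_eq (P.subtype hPG)] at h
    have h' := (Int.ofNat_le.2 h)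
    push_cast [show 1 ≤ 2 * p by omega, show 1 ≤ p by omega] at h'
    linarith
  rw [Cfsg.Agent.HalfFix.dset, Set.univ_inter, Set.ncard_univ, ← hfdef] at hf
  -- the orbits of `P`
  let Q := MulAction.orbitRel.Quotient ↥(P : Subgroup G) Ω
  haveI := Fintype.ofFinite Q
  have hone : ∀ o : Q, p ≤ o.orbit.ncard + (if o.orbit.ncard = 1 then p - 1 else 0) := by
    intro o
    induction o using Quotient.inductionOn' with
    | h x =>
      rw [MulAction.orbitRel.Quotient.orbit_mk]
      obtain ⟨j, hj⟩ := P.isPGroup'.card_orbit x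
      rw [Nat.card_coe_set_eq] at hj
      rw [hj]
      rcases Nat.eq_zero_or_pos j with rfl | hj0
      · rw [pow_zero, if_pos rfl]; omega
      · have := Nat.le_self_pow hj0.ne' p; omega
  set One := Finset.univ.filter (fun o : Q => o.orbit.ncard = 1)
  have hOne : One.card ≤ f := by
    rw [hfdef, Set.ncard_eq_toFinset_card _ (Set.toFinite _)]
    refine Finset.card_le_card_of_injOn (fun o : Q => o.out) ?_ ?_
    · intro o ho
      simp only [Finset.mem_coe, One, Finset.mem_filter, Finset.mem_univ, true_and] at ho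
      simp only [Finset.mem_coe, Set.Finite.mem_toFinset]
      intro g hg
      rw [MulAction.orbitRel.Quotient.orbit_eq_orbit_out o Quotient.out_eq'] at ho
      exact (Set.ncard_le_one (Set.toFinite _)).1 ho.le _ ⟨⟨g, hg⟩, rfl⟩ _ (MulAction.mem_orbit_self _)
    · intro o _ o' _ h
      rw [← Quotient.out_eq' o, ← Quotient.out_eq' o']
      exact congrArg _ h
  have hsum : Nat.card Ω = ∑ o : Q, o.orbit.ncard := by
    rw [Nat.card_congr (MulAction.selfEquivSigmaOrbits' ↥(P : Subgroup G) Ω), Nat.card_sigma]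
    exact Finset.sum_congr rfl fun o _ => Nat.card_coe_set_eq _
  have hcount : Nat.card Q * p ≤ Nat.card Ω + (p - 1) * f := by
    calc Nat.card Q * p = ∑ _o : Q, p := by
          rw [Finset.sum_const, Finset.card_univ, smul_eq_mul, Nat.card_eq_fintype_card]
      _ ≤ ∑ o : Q, (o.orbit.ncard + (if o.orbit.ncard = 1 then p - 1 else 0)) :=
          Finset.sum_le_sum fun o _ => hone o
      _ = Nat.card Ω + One.card * (p - 1) := by
          rw [Finset.sum_add_distrib, ← hsum, ← Finset.sum_filter, Finset.sum_const, smul_eq_mul]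
      _ ≤ _ := by rw [mul_comm]; exact Nat.add_le_add_left (Nat.mul_le_mul_left _ hOne) _
  show (2 * p - 1) * Nat.card Q ≤ p * Nat.card Ω
  zify [show 1 ≤ 2 * p by omega, show 1 ≤ p by omega] at hcount ⊢
  have hpz : (3 : ℤ) ≤ p := by exact_mod_cast hp3
  refine le_of_mul_le_mul_left ?_ (show (0 : ℤ) < p by linarith)
  have h1 := mul_le_mul_of_nonneg_left hcount (show (0 : ℤ) ≤ 2 * (p : ℤ) - 1 by linarith)
  have h2 := mul_nonneg hf (show (0 : ℤ) ≤ (p : ℤ) - 1 by linarith)
  nlinarith

end Cfsg.Agent.S3580
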