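import Cfsg.Statements.S3589
import Cfsg.Agent.Lib.SpecSpEight.Realise
import Cfsg.Agent.Lib.GLOrder.SympOrders

set_option autoImplicit false
open Cfsg

namespace Cfsg.Agent.S3589

/-- Let F be a finite field of characteristic 2 and let a, b ∈ F make the binary form z₁² + a z₁z₂ + b z₂² anisotropic. Then the symplectic group PSp(8,F) (= Sp(8,F)) and the full isometry group of the non-singular quadratic form x₁y₁ + x₂y₂ + x₃y₃ + (z₁² + a z₁z₂ + b z₂²) of minus type in dimension 8 have the same set of element orders. -/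
theorem result {F : Type*} [Field F] [Fintype F]
    [CharP F 2] (a b : F) (han : ∀ z₁ z₂ : F, z₁ ^ 2 + a * z₁ * z₂ + b * z₂ ^ 2 = 0 → z₁ = 0 ∧ z₂ = 0) :
    Set.range (orderOf : Cfsg.PSp 4 F → ℕ) = Set.range (orderOf : ↥(Cfsg.isometryGroup F (Cfsg.quadFormMinus 3 F a b)) → ℕ) := by
  classical
  have h2 : (2 : F) = 0 := CharTwo.two_eq_zero
  have hd := Forms.disc_ne_zero_of_anisotropic han
  let Q := Forms.qfMinus 3 F a b
  have hQ : (fun v => Q v) = Cfsg.quadFormMinus 3 F a b := Forms.qfMinus_eq 3 a b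
  have hex := SpecSpEight.exists_hom_sp Q (Forms.qfMinus_nondegenerate hd 3) (m := 4) (by simp)
  rw [hQ] at hex
  obtain ⟨ψ, hψ⟩ := hex
  let e := Forms.isometryGroupEquiv (F := F) (Cfsg.quadFormMinus 3 F a b)
  have hcen : Subgroup.center (Matrix.symplecticGroup (Fin 4) F) = ⊥ := by
    rw [Subgroup.eq_bot_iff_forall]
    intro g hg
    refine Subtype.ext ?_
    rcases GLOrder.center_Sp.1 hg with h | h
    · exact h
    · have hi := congrArg (fun x : F => -(x : F)) h2
      ext i j
      have h1 : (-1 : F) = 1 := CharTwo.neg_eq 1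
      rw [h]
      simp [CharTwo.neg_eq]
  have hmk : Function.Injective (QuotientGroup.mk' (Subgroup.center (Matrix.symplecticGroup (Fin 4) F))) := by
    rw [← MonoidHom.ker_eq_bot_iff, QuotientGroup.ker_mk', hcen]
  ext n
  constructor
  · rintro ⟨y, hy⟩
    obtain ⟨x, hx⟩ := GLOrder.exists_sp_orderOf (Or.inr h2) hy
    set M := (x : Matrix (Fin 4 ⊕ Fin 4) (Fin 4 ⊕ Fin 4) F)
    obtain ⟨N, hN, hMN⟩ := SpecSpEight.exists_bound_of_form (M := M.transpose) (B := Matrix.J (Fin 4) F)
      (Matrix.isUnit_det_J (Fin 4) F).ne_zero (by rw [Matrix.transpose_transpose]; exact SymplecticGroup.mem_iff.mp x.2)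
      (by simp)
    have hn : n ∣ SpecSpEight.val (Fintype.card F) N := by
      rw [← hx]
      refine orderOf_dvd_of_pow_eq_one ?_
      rw [← Matrix.transpose_pow, ← Matrix.transpose_one] at hMN
      exact Matrix.transpose_injective hMN
    obtain ⟨g, hg, hgN⟩ := SpecSpEight.has_bound han N hN
    let γ := e.symm ⟨g, fun v => by
      have h := hg v
      rw [Forms.qfMinus_apply, Forms.qfMinus_apply] at h
      exact h⟩
    haveI : Finite ↥(Cfsg.isometryGroup F (Cfsg.quadFormMinus 3 F a b)) := inferInstance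
    have ho : n ∣ orderOf γ := by
      rw [MulEquiv.orderOf_eq, ← Subgroup.orderOf_coe]
      exact hn.trans hgN
    exact ⟨γ ^ (orderOf γ / n), orderOf_pow_orderOf_div (orderOf_pos γ).ne' ho⟩
  · rintro ⟨γ, rfl⟩
    refine ⟨QuotientGroup.mk' _ (ψ (e γ)), ?_⟩
    rw [orderOf_injective _ hmk, orderOf_injective ψ hψ, MulEquiv.orderOf_eq]

end Cfsg.Agent.S3589
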