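import Cfsg.Statements.S3590
import Cfsg.Agent.Lib.SpecSpEight.AffineRealise
import Cfsg.Agent.Lib.SpecSpEight.AffineBound
import Cfsg.Agent.Lib.Spectrum.Basic
import Cfsg.Agent.Lib.Forms.Bases
import Cfsg.Agent.Lib.GLOrder.SympOrders

set_option autoImplicit false
open Cfsg

namespace Cfsg.Agent.S3590

/-- Let F be a finite field of characteristic 2. Then PSp(8,F) is not determined by its set of element orders, not even up to finitely many groups: for every bound there is a finite group of larger order with exactly the same set of element orders as PSp(8,F). -/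
theorem result {F : Type*} [Field F] [Fintype F]
    [CharP F 2] (M : ℕ) :
    ∃ (H : Type) (_ : Group H) (_ : Fintype H), M < Fintype.card H ∧ Set.range (orderOf : H → ℕ) = Set.range (orderOf : Cfsg.PSp 4 F → ℕ) := by
  classical
  have h2 : (2 : F) = 0 := CharTwo.two_eq_zero
  obtain ⟨b, -, han⟩ := Forms.exists_no_root (F := F)
  let Q := Forms.qfMinus 3 F 1 b
  have hnd := Forms.qfMinus_nondegenerate (Forms.disc_ne_zero_of_anisotropic han) 3
  have hG : Orth.Good Q := Orth.Good.of_card hnd (Or.inr (by simp))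
  let L := SpecSpEight.evenGrp hG
  let G := SpecSpEight.affGrp L
  haveI : (SpecSpEight.transl L).Normal := SpecSpEight.transl_normal L
  haveI : Finite G := inferInstance
  have key : Set.range (orderOf : G → ℕ) = Set.range (orderOf : Cfsg.PSp 4 F → ℕ) := by
    have hcen : Subgroup.center (Matrix.symplecticGroup (Fin 4) F) = ⊥ := by
      rw [Subgroup.eq_bot_iff_forall]
      intro g hg
      refine Subtype.ext ?_
      rcases GLOrder.center_Sp.1 hg with h | h
      · exact h
      · ext i j
        rw [h]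
        simp [CharTwo.neg_eq]
    have hmk : Function.Injective (QuotientGroup.mk' (Subgroup.center (Matrix.symplecticGroup (Fin 4) F))) := by
      rw [← MonoidHom.ker_eq_bot_iff, QuotientGroup.ker_mk', hcen]
    obtain ⟨ψ, hψ⟩ := SpecSpEight.exists_hom_sp Q hnd (m := 4) (by simp)
    ext n
    constructor
    · rintro ⟨⟨p, g, hg, v, rfl⟩, rfl⟩
      obtain ⟨N, hN, hgN⟩ := SpecSpEight.exists_aff_bound Q hnd (by simp) g hg.1 hg.2 v
      obtain ⟨g', hg', hd⟩ := SpecSpEight.has_bound han N hN
      haveI : Finite (Cfsg.PSp 4 F) := Finite.of_surjective _ (QuotientGroup.mk'_surjective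
        (Subgroup.center (Matrix.symplecticGroup (Fin 4) F)))
      let y : Cfsg.PSp 4 F := QuotientGroup.mk' _ (ψ ⟨g', hg'⟩)
      have ho : orderOf y = orderOf g' := by
        rw [orderOf_injective _ hmk, orderOf_injective ψ hψ, ← Subgroup.orderOf_coe]
      have hdvd : orderOf (⟨SpecSpEight.aff g v, SpecSpEight.aff_mem hg v⟩ : G) ∣ orderOf y := by
        rw [ho, ← Subgroup.orderOf_coe]
        exact (orderOf_dvd_of_pow_eq_one hgN).trans hd
      exact ⟨_, orderOf_pow_orderOf_div (orderOf_pos y).ne' hdvd⟩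
    · rintro ⟨y, hy⟩
      obtain ⟨x, hx⟩ := GLOrder.exists_sp_orderOf (Or.inr h2) hy
      obtain ⟨N, hN, hMN⟩ := SpecSpEight.exists_bound_of_form
        (M := (x : Matrix (Fin 4 ⊕ Fin 4) (Fin 4 ⊕ Fin 4) F).transpose) (B := Matrix.J (Fin 4) F)
        (Matrix.isUnit_det_J (Fin 4) F).ne_zero
        (by rw [Matrix.transpose_transpose]; exact SymplecticGroup.mem_iff.mp x.2) (by simp)
      obtain ⟨g, v, hg, hg2, hgN⟩ := SpecSpEight.affHas_bound han hG N hN
      let γ : G := ⟨SpecSpEight.aff g v, SpecSpEight.aff_mem (show g ∈ L from ⟨hg, hg2⟩) v⟩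
      have ho : n ∣ orderOf γ := by
        rw [← hx, ← Subgroup.orderOf_coe γ]
        refine (orderOf_dvd_of_pow_eq_one ?_).trans hgN
        rw [← Matrix.transpose_pow, ← Matrix.transpose_one] at hMN
        exact Matrix.transpose_injective hMN
      exact ⟨_, orderOf_pow_orderOf_div (orderOf_pos γ).ne' ho⟩
  obtain ⟨K, i1, i2, hM, hK⟩ := Spectrum.exists_large_isospectral (SpecSpEight.transl L)
    (SpecSpEight.transl_ne_bot L) Nat.prime_two (SpecSpEight.transl_sq L) M
  exact ⟨K, i1, i2, hM, hK.trans key⟩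

end Cfsg.Agent.S3590
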