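import Cfsg.Statements.S3593
import Cfsg.Agent.Lib.NseTwelve.Basic
import Cfsg.Agent.Lib.Golay.Mathieu
import Cfsg.Agent.Lib.Golay.Dodecad
import Cfsg.Agent.S0421

set_option autoImplicit false
open Cfsg
open scoped Pointwise

namespace Cfsg.Agent.S3593

/-- Let M be the Mathieu group M₁₂ (order 95040). If a finite group G has the same order as M and the same set of values of the function 'number of elements of order n' (taken over the element orders n that occur), then G is isomorphic to M. -/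
theorem result {G : Type*} [Group G] [Finite G]
    (hcard : Nat.card G = Nat.card ↥Cfsg.Spor.M12)
    (hnse : {c : ℕ | 0 < c ∧ ∃ n : ℕ, c = Nat.card {g : G // orderOf g = n}} =
      {c : ℕ | 0 < c ∧ ∃ n : ℕ, c = Nat.card {g : ↥Cfsg.Spor.M12 // orderOf g = n}}) :
    Nonempty (G ≃* ↥Cfsg.Spor.M12) := by
  have hd : Cfsg.Spor.squareDodecad ∈ Cfsg.dodecads :=
    Cfsg.Agent.Golay.pts_dodecad0 ▸ Cfsg.Agent.Golay.dodecad0_mem
  let e : ↥Cfsg.Spor.M12 ≃* MulAction.stabilizer Cfsg.M24 Cfsg.Spor.squareDodecad :=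
    Cfsg.Agent.Golay.infStabilizerEquiv _
  have hM : Nat.card ↥Cfsg.Spor.M12 = 95040 :=
    (Nat.card_congr e.toEquiv).trans (Cfsg.Agent.Golay.natCard_stabilizer_dodecad hd)
  haveI : IsSimpleGroup ↥Cfsg.Spor.M12 := Cfsg.Agent.Golay.isSimpleGroup_m12 hd
  obtain ⟨f⟩ := Cfsg.Agent.S0421.result
    (Cfsg.Agent.NseTwelve.isM12_of_numOrder hM (hcard.trans hM) hnse) _ hd
  exact ⟨f.trans e.symm⟩

end Cfsg.Agent.S3593
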