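import Cfsg.Statements.S3594
import Cfsg.Agent.Lib.OrderM22.SameOrderM22

set_option autoImplicit false
open Cfsg

namespace Cfsg.Agent.S3594

/-- Let M be the Mathieu group M₂₂ (order 443520). If a finite group G has the same order as M and the same set of values of the function 'number of elements of order n' (taken over the element orders n that occur), then G is isomorphic to M. -/
theorem result {G : Type*} [Group G] [Finite G]
    (hcard : Nat.card G = Nat.card ↥Cfsg.Spor.M22)
    (hnse : {c : ℕ | 0 < c ∧ ∃ n : ℕ, c = Nat.card {g : G // orderOf g = n}} =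
      {c : ℕ | 0 < c ∧ ∃ n : ℕ, c = Nat.card {g : ↥Cfsg.Spor.M22 // orderOf g = n}}) :
    Nonempty (G ≃* ↥Cfsg.Spor.M22) := by
  have hM : Cfsg.Agent.OrderM22.Hyp ↥Cfsg.Spor.M22 := Cfsg.Agent.OrderM22.hyp_m22
  have := Cfsg.Agent.OrderM22.simple_m22
  obtain ⟨-, -, -, hv⟩ := hM.mem_values
  have hset : ∀ n, Nat.card {g : G // orderOf g = n} = 0 ∨
      ∃ m, Nat.card {g : G // orderOf g = n} = Nat.card {g : ↥Cfsg.Spor.M22 // orderOf g = m} := by
    intro n
    rcases Nat.eq_zero_or_pos (Nat.card {g : G // orderOf g = n}) with h0 | h0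
    · exact Or.inl h0
    · obtain ⟨-, m, hm⟩ := (Set.ext_iff.mp hnse _).mp ⟨h0, n, rfl⟩
      exact Or.inr ⟨m, hm⟩
  obtain ⟨hs, hG⟩ := Cfsg.Agent.OrderM22.hyp_of_nse (G := G) (hcard.trans hM.card) fun n => by
    rcases hset n with e | ⟨m, e⟩
    · exact Or.inl e
    · show Nat.card {g : G // orderOf g = n} = 0 ∨ Nat.card {g : G // orderOf g = n} = 1 ∨
        Nat.card {g : G // orderOf g = n} = 88704 ∨ Nat.card {g : G // orderOf g = n} = 126720 ∨
        Nat.card {g : G // orderOf g = n} = 80640 ∨ 385 ∣ Nat.card {g : G // orderOf g = n} ∧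
          Nat.card {g : G // orderOf g = n} ≤ 147455
      rw [e]
      exact hv m
  exact hG.iso hM

end Cfsg.Agent.S3594
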