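import Cfsg.Statements.S3598
import Cfsg.Agent.EqLemmas
import Cfsg.Agent.Lib.PSLDegrees.Recog
import Cfsg.Agent.Lib.PSLDegrees.Census
import Cfsg.Agent.Lib.Char.Linear
import Cfsg.Agent.Lib.PSL2.Soluble
import Cfsg.Agent.Lib.Blocks.Defect
import Cfsg.Agent.S0494
import Cfsg.Agent.S3378

set_option autoImplicit false
open Cfsg

namespace Cfsg.Agent.S3598

universe u v

/-- Equal degree columns give a degree preserving bijection. -/
theorem exists_equiv {G : Type u} {H : Type v} [Group G] [Finite G] [Group H] [Finite H]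
    (h : ∀ d : ℕ, Nat.card {χ : Cfsg.IrrCharacter G // (χ : G → ℂ) 1 = (d : ℂ)} =
      Nat.card {χ : Cfsg.IrrCharacter H // (χ : H → ℂ) 1 = (d : ℂ)}) :
    ∃ φ : Cfsg.IrrCharacter G ≃ Cfsg.IrrCharacter H,
      ∀ χ, (φ χ : H → ℂ) 1 = (χ : G → ℂ) 1 := by
  classical
  have e : ∀ d : ℕ, {χ : Cfsg.IrrCharacter G // charDegree (χ : G → ℂ) = d} ≃
      {χ : Cfsg.IrrCharacter H // charDegree (χ : H → ℂ) = d} := fun d =>
    (Finite.card_eq.1 (by
      rw [Nat.card_congr (Equiv.subtypeEquivRight (q := fun χ : Cfsg.IrrCharacter G =>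
          (χ : G → ℂ) 1 = (d : ℂ)) fun χ => by rw [← Blocks.charDegree_cast χ, Nat.cast_inj]), h d]
      exact Nat.card_congr (Equiv.subtypeEquivRight fun χ => by rw [← Blocks.charDegree_cast χ, Nat.cast_inj]))).some
  refine ⟨Equiv.ofFiberEquiv e, fun χ => ?_⟩
  rw [← Blocks.charDegree_cast, ← Blocks.charDegree_cast χ, Equiv.ofFiberEquiv_map e χ]


/-- Let p be a prime and F a field with p² elements. If a finite group G has, for every d, the same number of irreducible complex characters of degree d as PSL(2,F) (the same first column of the character table, with multiplicities), then G is isomorphic to PSL(2,F). -/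
theorem result {F : Type*} [Field F] [Fintype F] (p : ℕ) (hp : p.Prime)
    (hF : Fintype.card F = p ^ 2) {G : Type*} [Group G] [Finite G]
    (h : ∀ d : ℕ, Nat.card {χ : Cfsg.IrrCharacter G // (χ : G → ℂ) 1 = (d : ℂ)} =
      Nat.card {χ : Cfsg.IrrCharacter (Matrix.ProjectiveSpecialLinearGroup (Fin 2) F) // (χ : Matrix.ProjectiveSpecialLinearGroup (Fin 2) F → ℂ) 1 = (d : ℂ)}) :
    Nonempty (G ≃* Matrix.ProjectiveSpecialLinearGroup (Fin 2) F) := by
  classical
  haveI : Fact p.Prime := ⟨hp⟩
  haveI := Fintype.ofFinite G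
  haveI := Fintype.ofFinite (IrrCharacter G)
  haveI := Fintype.ofFinite (IrrCharacter (Matrix.ProjectiveSpecialLinearGroup (Fin 2) F))
  obtain ⟨φ, hφ⟩ := exists_equiv h
  have hcard : Nat.card G = Nat.card (Matrix.ProjectiveSpecialLinearGroup (Fin 2) F) := by
    have h1 := Char.sum_sq_degrees (G := G)
    rw [Fintype.sum_equiv φ _ (fun ψ => (ψ : Matrix.ProjectiveSpecialLinearGroup (Fin 2) F → ℂ) 1 ^ 2)
      (fun χ => by rw [hφ]), Char.sum_sq_degrees] at h1
    exact_mod_cast h1.symm
  have hFc : Nat.card F = p ^ 2 := by rw [Nat.card_eq_fintype_card, hF]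
  rcases eq_or_ne p 2 with rfl | hp2
  · -- both groups are simple of order sixty
    haveI := PSL2.isSimpleGroup_psl (L := F) (by omega)
    have h60 : Nat.card (Matrix.ProjectiveSpecialLinearGroup (Fin 2) F) = 60 := by
      rw [GLOrder.card_PSL_two_of_even (by rw [hFc]; decide), hFc]; norm_num
    have hG60 : Nat.card G = 60 := hcard.trans h60
    have hperf : commutator G = ⊤ := by
      rw [← Subgroup.index_eq_one, ← Char.card_linear_irr]
      have h1 := h 1
      rw [Nat.cast_one] at h1
      rw [h1, Char.card_linear_irr, Subgroup.index_eq_one]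
      rcases (Subgroup.Normal.eq_bot_or_eq_top (inferInstance :
        (commutator (Matrix.ProjectiveSpecialLinearGroup (Fin 2) F)).Normal)) with hb | hb
      · exfalso
        exact PSL2.not_comm_psl (L := F) (by omega) fun a b => commutatorElement_eq_one_iff_mul_comm.1
          ((Subgroup.eq_bot_iff_forall _).1 hb _ (Subgroup.commutator_mem_commutator trivial trivial))
      · exact hb
    have hsimp : IsSimpleGroup G := by
      haveI : Nontrivial G := Finite.one_lt_card_iff_nontrivial.1 (by omega)
      refine ⟨fun N hN => ?_⟩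
      by_contra hne
      push Not at hne
      have hmul := N.card_mul_index
      rw [hG60] at hmul
      haveI := hN
      have s1 : Group.IsSolvable N := S3378.solvable_thirty (Dvd.intro _ hmul)
        fun h60 => hne.2 (Subgroup.eq_top_of_card_eq N (by rw [h60, hG60]))
      have s2 : Group.IsSolvable (G ⧸ N) := S3378.solvable_thirty
        (by rw [← Subgroup.index_eq_card]; exact Dvd.intro_left _ hmul)
        fun h60 => hne.1 (Subgroup.card_eq_one.1 (by
          rw [← Subgroup.index_eq_card] at h60; rw [h60] at hmul; omega))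
      have hs : Group.IsSolvable G := Group.isSolvable_of_ker_le_range N.subtype (QuotientGroup.mk' N)
        (by rw [QuotientGroup.ker_mk', Subgroup.range_subtype])
      exact (Group.IsSolvable.commutator_lt_top_of_nontrivial (G := G)).ne hperf
    obtain ⟨e1⟩ := S0494.result hG60
    obtain ⟨e2⟩ := S0494.result h60
    exact ⟨e1.trans e2.symm⟩
  · obtain ⟨k, hk⟩ := hp.odd_of_ne_two hp2
    have hodd : Odd (Fintype.card F) := by rw [hF]; exact (hp.odd_of_ne_two hp2).pow
    have h9 : 9 ≤ Fintype.card F := by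
      rw [hF]; have := hp.two_le; nlinarith [show 3 ≤ p by omega]
    have h4 : Fintype.card F % 4 = 1 := by
      rw [hF, hk, show (2 * k + 1) ^ 2 = 1 + 4 * (k * k + k) by ring]
      omega
    haveI : CharP F p := charP_of_card_eq_prime_pow (by rw [hF])
    have hc2 : 2 * Nat.card G = p ^ 2 * ((p ^ 2) ^ 2 - 1) := by
      rw [hcard, GLOrder.card_PSL_two_of_odd (by rw [Nat.card_eq_fintype_card]; exact hodd), hFc]
    refine PSLDegrees.psl_of_cc hp hp2 hF hc2 fun y s r hy hr hs hrp =>
      PSLDegrees.cc_of_degrees hp hp2 hc2 (fun χ => ?_) hy hr hs hrp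
    rcases PSLDegrees.psl_degrees hodd h9 h4 (φ χ) with hone | ⟨d, hd1, -, hd⟩
    · left
      -- only one character has the degree of `φ χ = 1`
      have h1 : φ ⟨1, Char.isIrrCharacter_one⟩ = φ χ := by
        rcases PSLDegrees.psl_degrees hodd h9 h4 (φ ⟨1, Char.isIrrCharacter_one⟩) with h' | ⟨d', h', hne, -⟩
        · exact Subtype.ext (h'.trans hone.symm)
        · rw [hφ] at h'
          exact absurd (Nat.cast_injective (R := ℂ) (h'.symm.trans (by simp))) hne
      exact (congrArg Subtype.val (φ.injective h1)).symm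
    · exact Or.inr ⟨d, (hφ χ).symm.trans hd1, hF ▸ hd⟩

end Cfsg.Agent.S3598
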