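import Cfsg.Statements.S3600
import Cfsg.Agent.S3433
import Cfsg.Agent.Lib.Orders5.Affine

set_option autoImplicit false
open Cfsg

namespace Cfsg.Agent.S3600

open Cfsg.Agent.Orders5

theorem no_order_four : ∀ y : A5.Alt, y ^ 4 = 1 → y ^ 2 = 1 := by decide +kernel

/-- A finite group is critical with respect to a set Ω of natural numbers when its set of element orders is Ω while no proper section has Ω as its set of element orders. A finite group critical with respect to {1, 2, 3, 4, 5} (the set of element orders of the alternating group of degree 6) is isomorphic either to the alternating group of degree 6 or to the affine group F² ⋊ SL(2,F) over the field F with four elements (realised as the matrices of SL(3,F) with last row (0, 0, 1)). -/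
theorem result {G : Type*} [Group G] [Finite G]
    (hcrit : Set.range (orderOf : G → ℕ) = ({1, 2, 3, 4, 5} : Set ℕ) ∧
      ∀ (H : Subgroup G) (N : Subgroup ↥H) [N.Normal], (H ≠ ⊤ ∨ N ≠ ⊥) → Set.range (orderOf : (↥H ⧸ N) → ℕ) ≠ ({1, 2, 3, 4, 5} : Set ℕ)) :
    Nonempty (G ≃* alternatingGroup (Fin 6)) ∨
      ∃ (F : Type) (_ : Field F) (_ : Fintype F), Fintype.card F = 4 ∧
        Nonempty (G ≃* ↥(Subgroup.closure {M : Matrix.SpecialLinearGroup (Fin 3) F |
          (M : Matrix (Fin 3) (Fin 3) F) 2 0 = 0 ∧ (M : Matrix (Fin 3) (Fin 3) F) 2 1 = 0 ∧ (M : Matrix (Fin 3) (Fin 3) F) 2 2 = 1})) := by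
  obtain ⟨hr, hmin⟩ := hcrit
  have hset : ({1, 2, 3, 4, 5} : Set ℕ) = {k : ℕ | 1 ≤ k ∧ k ≤ 5} := by
    ext k
    simp only [Set.mem_insert_iff, Set.mem_singleton_iff, Set.mem_setOf_eq]
    omega
  have hr' := hr.trans hset
  have h := S3433.ord5_of_range hr'
  rcases shape h (S3433.not_solvable_of_range hr') with h6 | ⟨π, hπ, hk⟩
  · exact Or.inl h6
  · by_cases hne : π.ker = ⊥
    · exfalso
      have hinj := (MonoidHom.ker_eq_bot_iff π).1 hne
      obtain ⟨g, hg⟩ : 4 ∈ Set.range (orderOf : G → ℕ) := by rw [hr]; simp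
      have h1 : g ^ 2 = 1 := hinj (by
        rw [map_pow, map_one]
        exact no_order_four _ (by rw [← map_pow, ← hg, pow_orderOf_eq_one, map_one]))
      have h2 := orderOf_le_of_pow_eq_one (by norm_num) h1
      omega
    · obtain ⟨F, instF, instFF, hF, Φ, hΦ⟩ := exists_affine_hom h π hπ hk hne
      refine Or.inr ⟨F, instF, instFF, hF, ?_⟩
      have hrange : Set.range (orderOf : Φ.range → ℕ) = {1, 2, 3, 4, 5} := by
        rw [← Spectrum.range_orderOf_affine (F := F) (by rw [Nat.card_eq_fintype_card, hF])]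
        ext k
        constructor
        · rintro ⟨y, rfl⟩
          exact ⟨(MonoidHom.ofInjective hΦ).symm y, MulEquiv.orderOf_eq _ y⟩
        · rintro ⟨y, rfl⟩
          exact ⟨MonoidHom.ofInjective hΦ y, MulEquiv.orderOf_eq _ y⟩
      have htop : Φ.range = ⊤ := by
        by_contra hne'
        apply hmin Φ.range ⊥ (Or.inl hne')
        rw [← hrange]
        ext k
        constructor
        · rintro ⟨y, rfl⟩
          exact ⟨QuotientGroup.quotientBot y, MulEquiv.orderOf_eq _ y⟩
        · rintro ⟨y, rfl⟩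
          exact ⟨QuotientGroup.quotientBot.symm y, MulEquiv.orderOf_eq _ y⟩
      exact ⟨(((MonoidHom.ofInjective hΦ).trans (MulEquiv.subgroupCongr htop)).trans Subgroup.topEquiv).symm⟩

end Cfsg.Agent.S3600
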