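import Cfsg.Statements.S3611
import Cfsg.Agent.EqLemmas
import Cfsg.Agent.Lib.Perm.HalfNormalizer

set_option autoImplicit false
open Cfsg

namespace Cfsg.Agent.S3611

/-- Let G be an insoluble group acting faithfully and transitively on a finite set of prime size p, and suppose the normalizer of a Sylow p-subgroup of G has order p(p-1)/2. If p ≡ 3 (mod 4), then G is triply transitive, or for any two distinct points the stabilizer of both has exactly four orbits on the set (the two fixed points and exactly two orbits on the remaining p - 2 points). -/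
theorem result {G Ω : Type*} [Group G] [Finite G] [MulAction G Ω] [FaithfulSMul G Ω] [Finite Ω]
    (p : ℕ) (hp : p.Prime) (hΩ : Nat.card Ω = p) (htrans : MulAction.IsPretransitive G Ω)
    (hins : ¬ Group.IsSolvable G) (P : Sylow p G)
    (hN : 2 * Nat.card ↥(Subgroup.normalizer ((P : Subgroup G) : Set G)) = p * (p - 1))
    (hp3 : p % 4 = 3) :
    MulAction.IsMultiplyPretransitive G Ω 3 ∨
    ∀ α β : Ω, α ≠ β →
      Nat.card (MulAction.orbitRel.Quotient ↥(MulAction.stabilizer G α ⊓ MulAction.stabilizer G β) Ω) = 4 := by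
  classical
  have : Fact p.Prime := ⟨hp⟩
  let : Fintype Ω := Fintype.ofFinite Ω
  have hcard : Fintype.card Ω = p := Nat.card_eq_fintype_card.symm.trans hΩ
  obtain ⟨m, hm⟩ : ∃ m, p = 2 * m + 1 := ⟨p / 2, by omega⟩
  have hm0 : 0 < m := by omega
  have hN' : Nat.card ↥(Subgroup.normalizer ((P : Subgroup G) : Set G)) = p * m := by
    have e : p * (p - 1) = 2 * (p * m) := by
      rw [show p - 1 = 2 * m by omega]
      ring
    omega
  obtain ⟨e, σ, h, a, hσ, hh, ha⟩ :=
    Perm.HalfNorm.exists_half_coordinates (G := G) hΩ P hN'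
  -- the image permutation group
  let G' : Subgroup (Equiv.Perm Ω) := (MulAction.toPermHom G Ω).range
  have : MulAction.IsPretransitive G' Ω := ⟨fun x y => by
    obtain ⟨g, hg⟩ := MulAction.exists_smul_eq G x y
    exact ⟨⟨_, g, rfl⟩, hg⟩⟩
  have hG' : ¬ Group.IsSolvable G' := fun hs => hins
    (Group.isSolvable_of_isSolvable_injective (f := (MonoidHom.ofInjective
      (f := MulAction.toPermHom G Ω) MulAction.toPerm_injective).toMonoidHom) (MulEquiv.injective _))
  have h2 : MulAction.IsMultiplyPretransitive G' Ω 2 :=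
    (S0675.result (hcard.symm ▸ hp) G').resolve_left hG'
  have move : ∀ u v u' v' : Ω, u ≠ v → u' ≠ v' → ∃ g : G, g • u = u' ∧ g • v = v' :=
    fun u v u' v' huv huv' => by
      obtain ⟨⟨_, g, rfl⟩, h1, h1'⟩ := MulAction.is_two_pretransitive_iff.mp h2 huv huv'
      exact ⟨g, h1, h1'⟩
  let Rel : Ω → Ω → Ω → Ω → Prop := fun u v x y => ∃ g : G, g • u = u ∧ g • v = v ∧ g • x = y
  have hsymm : ∀ u v x y, Rel u v x y → Rel u v y x := fun u v x y ⟨g, e1, e2, e3⟩ =>
    ⟨g⁻¹, inv_smul_eq_iff.mpr e1.symm, inv_smul_eq_iff.mpr e2.symm, inv_smul_eq_iff.mpr e3.symm⟩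
  -- among three further points, two are related
  have core : ∀ u v x y z : Ω, u ≠ v → x ≠ u ∧ x ≠ v → y ≠ u ∧ y ≠ v → z ≠ u ∧ z ≠ v →
      Rel u v x y ∨ Rel u v x z ∨ Rel u v y z := by
    intro u v x y z huv hx hy hz
    by_contra hcon
    push Not at hcon
    obtain ⟨n1, n2, n3⟩ := hcon
    exact Perm.HalfNorm.two_point_orbits hcard G' hG' e ⟨_, σ, rfl⟩ ⟨_, h, rfl⟩ a hσ hh hm ha hm0
      huv hx hy hz (fun ⟨_, g, hg⟩ e1 e2 e3 => n1 ⟨g, by subst hg; exact e1, by subst hg; exact e2,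
        by subst hg; exact e3⟩)
      (fun ⟨_, g, hg⟩ e1 e2 e3 => n2 ⟨g, by subst hg; exact e1, by subst hg; exact e2,
        by subst hg; exact e3⟩)
      (fun ⟨_, g, hg⟩ e1 e2 e3 => n3 ⟨g, by subst hg; exact e1, by subst hg; exact e2,
        by subst hg; exact e3⟩)
  by_cases hall : ∀ u v x y : Ω, u ≠ v → x ≠ u ∧ x ≠ v → y ≠ u ∧ y ≠ v → Rel u v x y
  · refine Or.inl ⟨fun f f' => ?_⟩
    obtain ⟨g, hg0, hg1⟩ := move (f 0) (f 1) (f' 0) (f' 1) (f.injective.ne (by decide))
      (f'.injective.ne (by decide))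
    obtain ⟨k, hk0, hk1, hk2⟩ := hall (f' 0) (f' 1) (g • f 2) (f' 2)
      (f'.injective.ne (by decide))
      ⟨fun e => f.injective.ne (by decide : (2 : Fin 3) ≠ 0) (smul_left_cancel g (e.trans hg0.symm)),
        fun e => f.injective.ne (by decide : (2 : Fin 3) ≠ 1)
          (smul_left_cancel g (e.trans hg1.symm))⟩
      ⟨f'.injective.ne (by decide), f'.injective.ne (by decide)⟩
    refine ⟨k * g, ?_⟩
    ext i
    fin_cases i
    · exact (mul_smul k g _).trans ((congrArg (k • ·) hg0).trans hk0)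
    · exact (mul_smul k g _).trans ((congrArg (k • ·) hg1).trans hk1)
    · exact (mul_smul k g _).trans hk2
  right
  intro α β hαβ
  push Not at hall
  obtain ⟨u, v, x, y, huv, hx, hy, hn⟩ := hall
  obtain ⟨t, htu, htv⟩ := move u v α β huv hαβ
  have c1ne : t • x ≠ α ∧ t • x ≠ β :=
    ⟨fun e => hx.1 (smul_left_cancel t (e.trans htu.symm)),
      fun e => hx.2 (smul_left_cancel t (e.trans htv.symm))⟩
  have c2ne : t • y ≠ α ∧ t • y ≠ β :=
    ⟨fun e => hy.1 (smul_left_cancel t (e.trans htu.symm)),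
      fun e => hy.2 (smul_left_cancel t (e.trans htv.symm))⟩
  have hn' : ¬ Rel α β (t • x) (t • y) := fun ⟨g, e1, e2, e3⟩ => hn ⟨t⁻¹ * g * t, by
    rw [mul_smul, mul_smul, htu, e1, inv_smul_eq_iff, htu], by
    rw [mul_smul, mul_smul, htv, e2, inv_smul_eq_iff, htv], by
    rw [mul_smul, mul_smul, e3, inv_smul_smul]⟩
  set H := MulAction.stabilizer G α ⊓ MulAction.stabilizer G β with hH
  let π : Ω → MulAction.orbitRel.Quotient H Ω := fun z => Quotient.mk'' z
  have hπ : ∀ z w : Ω, π z = π w ↔ Rel α β w z := fun z w => by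
    rw [Quotient.eq'', MulAction.orbitRel_apply]
    constructor
    · rintro ⟨⟨g, hg⟩, hgw⟩
      exact ⟨g, (Subgroup.mem_inf.mp hg).1, (Subgroup.mem_inf.mp hg).2, hgw⟩
    · rintro ⟨g, e1, e2, e3⟩
      exact ⟨⟨g, Subgroup.mem_inf.mpr ⟨e1, e2⟩⟩, e3⟩
  have hfix : ∀ z, (Rel α β z α → z = α) ∧ (Rel α β z β → z = β) := fun z =>
    ⟨fun ⟨g, e1, _, e3⟩ => smul_left_cancel g (e3.trans e1.symm),
      fun ⟨g, _, e2, e3⟩ => smul_left_cancel g (e3.trans e2.symm)⟩
  let f : Fin 4 → MulAction.orbitRel.Quotient H Ω := ![π α, π β, π (t • x), π (t • y)]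
  suffices hf : Function.Bijective f by
    rw [← Nat.card_congr (Equiv.ofBijective f hf), Nat.card_fin]
  constructor
  · have a1 : π α ≠ π β := fun e => hαβ ((hfix β).1 ((hπ _ _).mp e)).symm
    have a2 : π α ≠ π (t • x) := fun e => c1ne.1 ((hfix _).1 ((hπ _ _).mp e))
    have a3 : π α ≠ π (t • y) := fun e => c2ne.1 ((hfix _).1 ((hπ _ _).mp e))
    have a4 : π β ≠ π (t • x) := fun e => c1ne.2 ((hfix _).2 ((hπ _ _).mp e))
    have a5 : π β ≠ π (t • y) := fun e => c2ne.2 ((hfix _).2 ((hπ _ _).mp e))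
    have a6 : π (t • x) ≠ π (t • y) := fun e => hn' (hsymm _ _ _ _ ((hπ _ _).mp e))
    intro i j hij
    fin_cases i <;> fin_cases j <;> first
      | rfl
      | exact absurd hij a1 | exact absurd hij a2 | exact absurd hij a3
      | exact absurd hij a4 | exact absurd hij a5 | exact absurd hij a6
      | exact absurd hij a1.symm | exact absurd hij a2.symm | exact absurd hij a3.symm
      | exact absurd hij a4.symm | exact absurd hij a5.symm | exact absurd hij a6.symm
  · intro q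
    obtain ⟨z, rfl⟩ := Quotient.exists_rep q
    rcases eq_or_ne z α with rfl | hzα
    · exact ⟨0, rfl⟩
    rcases eq_or_ne z β with rfl | hzβ
    · exact ⟨1, rfl⟩
    rcases core α β (t • x) (t • y) z hαβ c1ne c2ne ⟨hzα, hzβ⟩ with h' | h' | h'
    · exact absurd h' hn'
    · exact ⟨2, (hπ _ _).mpr (hsymm _ _ _ _ h')⟩
    · exact ⟨3, (hπ _ _).mpr (hsymm _ _ _ _ h')⟩

end Cfsg.Agent.S3611
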