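import Cfsg.Statements.S3612
import Cfsg.Agent.EqLemmas
import Cfsg.Agent.Lib.Perm.HalfNormalizer
import Cfsg.Agent.Lib.Perm.HalfPrimitive.Lines

set_option autoImplicit false
open Cfsg
open scoped Pointwise

namespace Cfsg.Agent.S3612

theorem result {G Ω : Type*} [Group G] [Finite G] [MulAction G Ω] [FaithfulSMul G Ω] [Finite Ω]
    (p : ℕ) (hp : p.Prime) (hΩ : Nat.card Ω = p) (htrans : MulAction.IsPretransitive G Ω)
    (hins : ¬ Group.IsSolvable G) (P : Sylow p G)
    (hN : 2 * Nat.card ↥(Subgroup.normalizer ((P : Subgroup G) : Set G)) = p * (p - 1))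
    (hp7 : 7 < p) (α : Ω) :
    MulAction.IsPreprimitive ↥(MulAction.stabilizer G α) ↥(SubMulAction.ofStabilizer G α) := by
  classical
  have : Fact p.Prime := ⟨hp⟩
  let : Fintype Ω := Fintype.ofFinite Ω
  have hcard : Fintype.card Ω = p := Nat.card_eq_fintype_card.symm.trans hΩ
  obtain ⟨m, hm⟩ : ∃ m, p = 2 * m + 1 := by
    rcases hp.eq_two_or_odd with h | h
    · omega
    · exact ⟨p / 2, by omega⟩
  have hm0 : 0 < m := by omega
  have hN' : Nat.card ↥(Subgroup.normalizer ((P : Subgroup G) : Set G)) = p * m := by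
    have e : p * (p - 1) = 2 * (p * m) := by
      rw [show p - 1 = 2 * m by omega]
      ring
    omega
  obtain ⟨e, σ, h, a, hσ, hh, ha⟩ :=
    Perm.HalfNorm.exists_half_coordinates (G := G) hΩ P hN'
  -- the image permutation group
  let G' : Subgroup (Equiv.Perm Ω) := (MulAction.toPermHom G Ω).range
  have : MulAction.IsPretransitive G' Ω := ⟨fun x y => by
    obtain ⟨g, hg⟩ := MulAction.exists_smul_eq G x y
    exact ⟨⟨_, g, rfl⟩, hg⟩⟩
  let iso : G ≃* G' := MonoidHom.ofInjective (f := MulAction.toPermHom G Ω) MulAction.toPerm_injective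
  have hG' : ¬ Group.IsSolvable G' := fun hs => hins
    (Group.isSolvable_of_isSolvable_injective (f := iso.toMonoidHom) iso.injective)
  have h2 : MulAction.IsMultiplyPretransitive G' Ω 2 :=
    (S0675.result (hcard.symm ▸ hp) G').resolve_left hG'
  have move : ∀ u v u' v' : Ω, u ≠ v → u' ≠ v' → ∃ g : G, g • u = u' ∧ g • v = v' :=
    fun u v u' v' huv huv' => by
      obtain ⟨⟨_, g, rfl⟩, h1, h1'⟩ := MulAction.is_two_pretransitive_iff.mp h2 huv huv'
      exact ⟨g, h1, h1'⟩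
  have : MulAction.IsPretransitive (MulAction.stabilizer G α) (SubMulAction.ofStabilizer G α) :=
    ⟨fun x y => by
      obtain ⟨g, hg, hg'⟩ := move α x α y (Ne.symm x.2) (Ne.symm y.2)
      exact ⟨⟨g, hg⟩, Subtype.ext hg'⟩⟩
  rcases Nat.odd_mod_four_iff.mp (by omega : p % 2 = 1) with hp4 | hp4
  · -- the normaliser has even order
    let P' : Sylow p G' := P.mapSurjective (f := iso.toMonoidHom) iso.surjective
    have heven : Even (Nat.card (Subgroup.normalizer ((P' : Subgroup G') : Set G'))) := by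
      rw [show (P' : Subgroup G') = (P : Subgroup G).map iso.toMonoidHom from rfl,
        ← Subgroup.map_equiv_normalizer_eq (P : Subgroup G) iso,
        ← Nat.card_congr (Subgroup.equivMapOfInjective _ iso.toMonoidHom iso.injective).toEquiv, hN']
      exact (even_iff_two_dvd.mpr (by omega : 2 ∣ m)).mul_left p
    have h3 := S0676.result hcard G' hG' P' heven
    have h3' : MulAction.IsMultiplyPretransitive G Ω 3 := ⟨fun f f' => by
      obtain ⟨⟨_, g, rfl⟩, hg⟩ := h3.exists_smul_eq f f'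
      exact ⟨g, hg⟩⟩
    have := (SubMulAction.ofStabilizer.isMultiplyPretransitive (a := α)).mp h3'
    exact MulAction.isPreprimitive_of_is_two_pretransitive this
  refine ⟨fun {B} hB => ?_⟩
  by_contra hnt
  simp only [MulAction.IsTrivialBlock, not_or, Set.not_subsingleton_iff] at hnt
  obtain ⟨⟨β, hβ, γ, hγ, hβγ⟩, hBu⟩ := hnt
  obtain ⟨δ, hδ⟩ := (Set.ne_univ_iff_exists_notMem B).mp hBu
  -- the linear space of the blocks
  let R : Ω → Ω → Ω → Prop := fun u v w => v ≠ w ∧ ∃ g : G, g • α = u ∧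
    ∃ b ∈ B, ∃ b' ∈ B, g • (b : Ω) = v ∧ g • (b' : Ω) = w
  have hblock : ∀ (g g' : G) (b b' c : SubMulAction.ofStabilizer G α), g • α = g' • α → b ∈ B →
      b' ∈ B → c ∈ B → g • (b : Ω) = g' • (b' : Ω) → ∃ c' ∈ B, g • (c' : Ω) = g' • (c : Ω) := by
    intro g g' b b' c hu hb hb' hc he
    let k : MulAction.stabilizer G α := ⟨g⁻¹ * g', by
      rw [MulAction.mem_stabilizer_iff, mul_smul, ← hu, inv_smul_smul]⟩
    have hk : k • b' = b := Subtype.ext (by
      change (g⁻¹ * g') • (b' : Ω) = b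
      rw [mul_smul, ← he, inv_smul_smul])
    have heq : k • B = B := hB.smul_eq_of_mem hb' (by rw [hk]; exact hb)
    refine ⟨k • c, ?_, ?_⟩
    · rw [← heq]; exact Set.smul_mem_smul_set hc
    · change g • (g⁻¹ * g') • (c : Ω) = _
      rw [mul_smul, smul_inv_smul]
  have Rinv : ∀ (x : G) u v w, R u v w → R (x • u) (x • v) (x • w) := by
    rintro x _ _ _ ⟨hne, g, rfl, b, hb, b', hb', rfl, rfl⟩
    exact ⟨fun h => hne (smul_left_cancel x h), x * g, mul_smul _ _ _, b, hb, b', hb',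
      mul_smul _ _ _, mul_smul _ _ _⟩
  have Rne : ∀ u v w, R u v w → u ≠ v ∧ u ≠ w ∧ v ≠ w := by
    rintro _ _ _ ⟨hne, g, rfl, b, hb, b', hb', rfl, rfl⟩
    exact ⟨fun h => b.2 (smul_left_cancel g h).symm, fun h => b'.2 (smul_left_cancel g h).symm, hne⟩
  have R23 : ∀ u v w, R u v w → R u w v := by
    rintro u v w ⟨hne, g, hg, b, hb, b', hb', h1, h2⟩
    exact ⟨hne.symm, g, hg, b', hb', b, hb, h2, h1⟩
  have Rtrans : ∀ u v w w', R u v w → R u v w' → w ≠ w' → R u w w' := by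
    rintro u v w w' ⟨-, g, hg, b, hb, c, hc, rfl, rfl⟩ ⟨-, g', hg', b', hb', c', hc', h1, rfl⟩ hne
    obtain ⟨d, hd, hd'⟩ := hblock g g' b b' c' (hg.trans hg'.symm) hb hb' hc' h1.symm
    exact ⟨hne, g, hg, c, hc, d, hd, rfl, hd'⟩
  have Rex : ∀ u v, u ≠ v → ∃ w, R u v w := fun u v huv => by
    obtain ⟨g, hg, hg'⟩ := move α β u v (Ne.symm β.2) huv
    exact ⟨g • γ, fun e => hβγ (Subtype.ext (smul_left_cancel g (hg'.trans e))), g, hg, β, hβ, γ,
      hγ, hg', rfl⟩
  have Rprop : ∀ u v, u ≠ v → ∃ w, w ≠ u ∧ w ≠ v ∧ ¬ R u v w := fun u v huv => by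
    obtain ⟨g, hg, hg'⟩ := move α β u v (Ne.symm β.2) huv
    refine ⟨g • δ, fun e => δ.2 (smul_left_cancel g (e.trans hg.symm)),
      fun e => hδ (by rwa [Subtype.ext (smul_left_cancel g (e.trans hg'.symm))]), ?_⟩
    rintro ⟨-, g', hu, b, hb, b', hb', h1, h2⟩
    obtain ⟨d, hd, hd'⟩ := hblock g g' β b b' (hg.trans hu.symm) hβ hb hb' (hg'.trans h1.symm)
    exact hδ (by rwa [← Subtype.ext (smul_left_cancel g (hd'.trans h2))])
  -- a two point stabiliser has two orbits
  let Rel : Ω → Ω → Ω → Ω → Prop := fun u v x y => ∃ g : G, g • u = u ∧ g • v = v ∧ g • x = y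
  have Rrel : ∀ u v x y, Rel u v x y → (R u v x ↔ R u v y) ∧ (R v u x ↔ R v u y) := by
    rintro u v x y ⟨g, e1, e2, e3⟩
    have key : ∀ s r : Ω, g • s = s → g • r = r → (R s r x ↔ R s r y) := fun s r f1 f2 =>
      ⟨fun h => by simpa [f1, f2, e3] using Rinv g _ _ _ h, fun h => by
        simpa [inv_smul_eq_iff.mpr f1.symm, inv_smul_eq_iff.mpr f2.symm,
          inv_smul_eq_iff.mpr e3.symm] using Rinv g⁻¹ _ _ _ h⟩
    exact ⟨key u v e1 e2, key v u e2 e1⟩
  have core : ∀ u v x y z : Ω, u ≠ v → x ≠ u ∧ x ≠ v → y ≠ u ∧ y ≠ v → z ≠ u ∧ z ≠ v →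
      Rel u v x y ∨ Rel u v x z ∨ Rel u v y z := by
    intro u v x y z huv hx hy hz
    by_contra hcon
    push Not at hcon
    obtain ⟨n1, n2, n3⟩ := hcon
    exact Perm.HalfNorm.two_point_orbits hcard G' hG' e ⟨_, σ, rfl⟩ ⟨_, h, rfl⟩ a hσ hh hm ha hm0
      huv hx hy hz (fun ⟨_, g, hg⟩ e1 e2 e3 => n1 ⟨g, by subst hg; exact e1, by subst hg; exact e2,
        by subst hg; exact e3⟩)
      (fun ⟨_, g, hg⟩ e1 e2 e3 => n2 ⟨g, by subst hg; exact e1, by subst hg; exact e2,
        by subst hg; exact e3⟩)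
      (fun ⟨_, g, hg⟩ e1 e2 e3 => n3 ⟨g, by subst hg; exact e1, by subst hg; exact e2,
        by subst hg; exact e3⟩)
  have R12 : ∀ u v w, R u v w → R v u w := by
    intro u v w hw
    by_contra hw'
    obtain ⟨huv, huw, hvw⟩ := Rne _ _ _ hw
    obtain ⟨d, hd1, hd2, hd⟩ := Rprop u v huv
    have hA : ∀ z, R u v z → ¬ R v u z := fun z hz => by
      obtain ⟨-, hz1, hz2⟩ := Rne _ _ _ hz
      rcases core u v w d z huv ⟨huw.symm, hvw.symm⟩ ⟨hd1, hd2⟩ ⟨hz1.symm, hz2.symm⟩ with r | r | r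
      · exact absurd ((Rrel _ _ _ _ r).1.mp hw) hd
      · exact fun h => hw' ((Rrel _ _ _ _ r).2.mpr h)
      · exact absurd ((Rrel _ _ _ _ r).1.mpr hz) hd
    obtain ⟨d', hd'⟩ := Rex v u huv.symm
    have hd'' : ¬ R u v d' := fun h => hA _ h hd'
    obtain ⟨-, hd3, hd4⟩ := Rne _ _ _ hd'
    have hD : ∀ z, z ≠ u → z ≠ v → ¬ R u v z → R v u z := fun z hz1 hz2 hz => by
      rcases core u v w d' z huv ⟨huw.symm, hvw.symm⟩ ⟨hd4.symm, hd3.symm⟩ ⟨hz1, hz2⟩ with
        r | r | r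
      · exact absurd ((Rrel _ _ _ _ r).1.mp hw) hd''
      · exact absurd ((Rrel _ _ _ _ r).1.mp hw) hz
      · exact (Rrel _ _ _ _ r).2.mp hd'
    have hunion : (Finset.univ.filter fun z => R u v z) ∪ (Finset.univ.filter fun z => R v u z) =
        ({u, v} : Finset Ω)ᶜ := by
      ext z
      simp only [Finset.mem_union, Finset.mem_filter, Finset.mem_univ, true_and,
        Finset.mem_compl, Finset.mem_insert, Finset.mem_singleton, not_or]
      refine ⟨fun h => h.elim (fun h => ⟨(Rne _ _ _ h).2.1.symm, (Rne _ _ _ h).2.2.symm⟩)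
        fun h => ⟨(Rne _ _ _ h).2.2.symm, (Rne _ _ _ h).2.1.symm⟩, fun h => ?_⟩
      exact (em (R u v z)).imp id fun hz => hD z h.1 h.2 hz
    obtain ⟨g, g1, g2⟩ := move u v v u huv huv.symm
    have hk : (Finset.univ.filter fun z => R u v z).card =
        (Finset.univ.filter fun z => R v u z).card := by
      refine Finset.card_equiv (MulAction.toPerm g) fun z => ?_
      simp only [Finset.mem_filter, Finset.mem_univ, true_and, MulAction.toPerm_apply]
      exact ⟨fun h => by simpa [g1, g2] using Rinv g _ _ _ h, fun h => by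
        simpa [inv_smul_eq_iff.mpr g1.symm, inv_smul_eq_iff.mpr g2.symm] using Rinv g⁻¹ _ _ _ h⟩
    have hc := congrArg Finset.card hunion
    rw [Finset.card_union_of_disjoint (Finset.disjoint_filter.mpr fun z _ h => hA z h), hk,
      Finset.card_compl, Finset.card_pair huv, hcard] at hc
    obtain ⟨j, hj⟩ : ∃ j, p - 2 = j + j := ⟨_, hc.symm⟩
    omega
  have hneg : ¬ IsSquare (-1 : ZMod p) := fun h' => ZMod.exists_sq_eq_neg_one_iff.mp h' hp4
  refine Perm.HalfPrimitive.false_of_lines (by omega) (by omega) (by omega) hneg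
    (fun x y z => R (e x) (e y) (e z)) (fun x y z hR => ?_) (fun x y z => R12 _ _ _)
    (fun x y z => R23 _ _ _) (fun x y z w h1 h2 h3 => Rtrans (e y) (e x) _ _ (R12 _ _ _ h1)
      (R12 _ _ _ h2) (e.injective.ne h3))
    (fun x y hxy => ?_) (fun x y hxy => ?_) (fun b x y z hR => ?_) (fun c x y z hc0 hsq hR => ?_)
    fun c c' hc0 hc1 hc hc0' hc1' hc' => ?_
  · obtain ⟨n1, n2, n3⟩ := Rne _ _ _ hR
    exact ⟨fun h => n1 (congrArg e h), fun h => n2 (congrArg e h), fun h => n3 (congrArg e h)⟩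
  · obtain ⟨w, hw⟩ := Rex (e x) (e y) (e.injective.ne hxy)
    exact ⟨e.symm w, by simpa using hw⟩
  · obtain ⟨w, h1, h2, h3⟩ := Rprop (e x) (e y) (e.injective.ne hxy)
    exact ⟨e.symm w, fun h => h1 (by rw [← h, e.apply_symm_apply]),
      fun h => h2 (by rw [← h, e.apply_symm_apply]), by simpa using h3⟩
  · have hpow : ∀ n : ℕ, ∀ j, (σ ^ n) • e j = e (j + n) := fun n => by
      induction n with
      | zero => simp
      | succ n ih => intro j; rw [pow_succ', mul_smul, ih, hσ]; push_cast; rw [add_assoc]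
    have := Rinv (σ ^ b.val) _ _ _ hR
    simpa [hpow] using this
  · have hpow : ∀ n : ℕ, ∀ j, (h ^ n) • e j = e (a ^ n * j) := fun n => by
      induction n with
      | zero => simp
      | succ n ih => intro j; rw [pow_succ', mul_smul, ih, hh, pow_succ', mul_assoc]
    have hcm : c ^ m = 1 := by
      have := (ZMod.euler_criterion p hc0).mp hsq
      rwa [show p / 2 = m by omega] at this
    have : NeZero (orderOf a) := ⟨by omega⟩
    obtain ⟨i, -, hi⟩ := (IsPrimitiveRoot.orderOf a).eq_pow_of_pow_eq_one (ξ := c) (ha ▸ hcm)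
    have := Rinv (h ^ i) _ _ _ hR
    simpa [hpow, hi] using this
  · obtain ⟨t, ht⟩ := Rex (e 0) (e 1) (e.injective.ne zero_ne_one)
    obtain ⟨-, t1, t2⟩ := Rne _ _ _ ht
    rcases core (e 0) (e 1) t (e c) (e c') (e.injective.ne zero_ne_one) ⟨t1.symm, t2.symm⟩
      ⟨e.injective.ne hc0, e.injective.ne hc1⟩ ⟨e.injective.ne hc0', e.injective.ne hc1'⟩ with
      r | r | r
    · exact absurd ((Rrel _ _ _ _ r).1.mp ht) hc
    · exact absurd ((Rrel _ _ _ _ r).1.mp ht) hc'
    · obtain ⟨g, g0, g1, gc⟩ := r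
      refine ⟨e.trans ((MulAction.toPerm g).trans e.symm), fun x y z hR => ?_, ?_, ?_, ?_⟩
      · simpa using Rinv g _ _ _ hR
      · simp [g0]
      · simp [g1]
      · simp [gc]

end Cfsg.Agent.S3612
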