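import Cfsg.Statements.S3614
import Cfsg.Agent.EqLemmas
import Cfsg.Agent.Lib.Perm.HalfNormTwin
import Cfsg.Agent.Lib.Perm.HalfNormSmallFix

set_option autoImplicit false
open Cfsg

namespace Cfsg.Agent.S3614

/-- Let G be an insoluble group acting faithfully and transitively on a finite set of prime size p, and suppose the normalizer of a Sylow p-subgroup of G has order p(p-1)/2. If p = q + 2 = 2r + 3 > 9 or p = q + 2 = 3r + 4 > 13 with q and r prime, then G is isomorphic to the alternating group of degree p. -/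
theorem result {G Ω : Type*} [Group G] [Finite G] [MulAction G Ω] [FaithfulSMul G Ω] [Finite Ω]
    (p : ℕ) (hp : p.Prime) (hΩ : Nat.card Ω = p) (htrans : MulAction.IsPretransitive G Ω)
    (hins : ¬ Group.IsSolvable G) (P : Sylow p G)
    (hN : 2 * Nat.card ↥(Subgroup.normalizer ((P : Subgroup G) : Set G)) = p * (p - 1))
    (q r : ℕ) (hq : q.Prime) (hr : r.Prime)
    (hcases : (p = q + 2 ∧ p = 2 * r + 3 ∧ 9 < p) ∨ (p = q + 2 ∧ p = 3 * r + 4 ∧ 13 < p)) :
    Nonempty (G ≃* alternatingGroup (Fin p)) := by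
  classical
  have : Fact p.Prime := ⟨hp⟩
  have : Fact r.Prime := ⟨hr⟩
  let : Fintype Ω := Fintype.ofFinite Ω
  have hcard : Fintype.card Ω = p := Nat.card_eq_fintype_card.symm.trans hΩ
  obtain ⟨hpq, hp9, hr5, hpr⟩ : p = q + 2 ∧ 9 < p ∧ 5 ≤ r ∧ (p = 2 * r + 3 ∨ p = 3 * r + 4) := by
    have h2 := hr.two_le
    rcases hcases with ⟨h, h', h''⟩ | ⟨h, h', h''⟩
    · have hr4 : r ≠ 4 := fun e => by rw [e] at hr; exact absurd hr (by norm_num)
      exact ⟨h, h'', by omega, Or.inl h'⟩
    · have hr4 : r ≠ 4 := fun e => by rw [e] at hr; exact absurd hr (by norm_num)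
      exact ⟨h, by omega, by omega, Or.inr h'⟩
  obtain ⟨m, hm⟩ := hp.odd_of_ne_two (by omega)
  have hN' : Nat.card ↥(Subgroup.normalizer ((P : Subgroup G) : Set G)) = p * m := by
    have e : p * (p - 1) = 2 * (p * m) := by
      rw [show p - 1 = 2 * m by omega]
      ring
    omega
  have h5 := Perm.HalfNorm.five_points (G := G) hΩ hins P hm hN' hq (by omega) hpq
  let f := MulAction.toPermHom G Ω
  have hf : Function.Injective f := MulAction.toPerm_injective
  have h5' : MulAction.IsMultiplyPretransitive f.range Ω 5 := ⟨fun x y => by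
    obtain ⟨g, hg⟩ := h5.exists_smul_eq x y
    refine ⟨⟨f g, g, rfl⟩, ?_⟩
    ext i
    exact congrArg (fun v : Fin 5 ↪ Ω => v i) hg⟩
  have htr := Perm.HalfNorm.image_isPretransitive (G := G) (Ω := Ω)
  have hprim : MulAction.IsPreprimitive f.range Ω :=
    MulAction.IsPreprimitive.of_prime_card (hΩ.symm ▸ hp)
  have hA : alternatingGroup Ω ≤ f.range :=
    Perm.HalfNorm.alternating_le_of_five f.range hprim (r := r) hr5 (hcard.symm ▸ hpr)
  have hnot := Perm.HalfNorm.not_all_perms (G := G) hΩ P hm hN'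
  have heq : f.range = alternatingGroup Ω := by
    refine le_antisymm (fun x hx => ?_) hA
    by_contra hxA
    refine hnot fun y => ?_
    change y ∈ f.range
    rw [Equiv.Perm.mem_alternatingGroup] at hxA
    rcases Int.units_eq_one_or (Equiv.Perm.sign y) with hy | hy
    · exact hA (Equiv.Perm.mem_alternatingGroup.mpr hy)
    · have hyx : y * x ∈ alternatingGroup Ω := Equiv.Perm.mem_alternatingGroup.mpr (by
        rw [map_mul, hy, (Int.units_eq_one_or _).resolve_left hxA]; decide)
      have := mul_mem (hA hyx) (inv_mem hx)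
      rwa [mul_inv_cancel_right] at this
  exact ⟨((MonoidHom.ofInjective hf).trans (MulEquiv.subgroupCongr heq)).trans
    (Fintype.equivFinOfCardEq hcard).altCongrHom⟩

end Cfsg.Agent.S3614
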