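import Cfsg.Statements.S3616
import Cfsg.Agent.EqLemmas
import Cfsg.Agent.S3612
import Cfsg.Agent.Lib.Perm.ProjLineOvergroup
import Cfsg.Agent.Lib.PSL2.Centralizers
-- import your own Cfsg.Agent.* helpers here

set_option autoImplicit false
open Cfsg

namespace Cfsg.Agent.S3616

/-- Let p > 7 be prime and let X be a finite group acting faithfully on a set of p + 1 points by even permutations. Suppose X has a proper subgroup isomorphic to PSL(2, p) that acts doubly transitively on the set (such an action is necessarily the natural one on the projective line). Then X is 4-fold transitive. -/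
theorem result {X Ω : Type*} [Group X] [Finite X] [MulAction X Ω] [FaithfulSMul X Ω] [Fintype Ω] [DecidableEq Ω]
    (p : ℕ) (hp : p.Prime) (hp7 : 7 < p) (hΩ : Fintype.card Ω = p + 1)
    (heven : ∀ x : X, Equiv.Perm.sign (MulAction.toPerm x : Equiv.Perm Ω) = 1)
    (L : Subgroup X) (hL : Nonempty (↥L ≃* Matrix.ProjectiveSpecialLinearGroup (Fin 2) (ZMod p)))
    (hLt : MulAction.IsMultiplyPretransitive ↥L Ω 2) (hLX : L ≠ ⊤) :
    MulAction.IsMultiplyPretransitive X Ω 4 := by
  classical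
  have : Fact p.Prime := ⟨hp⟩
  obtain ⟨iso⟩ := hL
  obtain ⟨m, hm⟩ : ∃ m, p = 2 * m + 1 := by
    obtain ⟨k, hk⟩ := hp.odd_of_ne_two (by omega)
    exact ⟨k, hk⟩
  have hq : Nat.card (ZMod p) = p := Nat.card_zmod p
  have hcardL : Nat.card L = (p + 1) * (p * m) := by
    have h := Cfsg.Agent.PSL2.card_psl_mul (F := ZMod p)
    rw [hq, Nat.gcd_eq_left (show 2 ∣ p - 1 by omega), show p - 1 = 2 * m by omega] at h
    rw [Nat.card_congr iso.toEquiv]
    refine Nat.eq_of_mul_eq_mul_left two_pos (h.trans ?_)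
    ring
  have hcent : Odd m → ∀ s ∈ L, orderOf s = 2 → ∀ z ∈ L, z * s = s * z → orderOf z ∣ m → z = 1 := by
    intro hodd s hs hso z hz hzs hzm
    obtain ⟨k, hk⟩ := hodd
    have hc := (Cfsg.Agent.PSL2.card_centralizer_involution (F := ZMod p) (by rw [hq]; exact ⟨m, hm⟩)
      (x := iso ⟨s, hs⟩) (by rw [MulEquiv.orderOf_eq, ← Subgroup.orderOf_coe]; exact hso)).2
      (by rw [hq]; omega)
    have hmem : iso ⟨z, hz⟩ ∈ Subgroup.centralizer ({iso ⟨s, hs⟩} : Set _) :=
      Subgroup.mem_centralizer_singleton_iff.mpr (by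
        rw [← map_mul, ← map_mul]
        congr 1
        exact Subtype.ext hzs)
    have h1 := Subgroup.orderOf_dvd_natCard _ hmem
    rw [MulEquiv.orderOf_eq, ← Subgroup.orderOf_coe, hc, hq] at h1
    change orderOf z ∣ p + 1 at h1
    rw [← orderOf_eq_one_iff]
    have h2 : orderOf z ∣ 2 := (Nat.dvd_add_right (hzm.mul_left 2)).mp
      (by rwa [show 2 * m + 2 = p + 1 by omega])
    have h3 : Nat.Coprime 2 m := by
      exact Nat.coprime_two_left.mpr ⟨k, hk⟩
    exact Nat.eq_one_of_dvd_coprimes h3 h2 hzm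
  have : MulAction.IsPretransitive X Ω := by
    refine ⟨fun x y => ?_⟩
    obtain ⟨u, hu⟩ := Fintype.exists_ne_of_one_lt_card (by omega : 1 < Fintype.card Ω) x
    obtain ⟨v, hv⟩ := Fintype.exists_ne_of_one_lt_card (by omega : 1 < Fintype.card Ω) y
    obtain ⟨g, hg, -⟩ := MulAction.is_two_pretransitive_iff.mp hLt (Ne.symm hu) (Ne.symm hv)
    exact ⟨(g : X), hg⟩
  obtain ⟨c⟩ : Nonempty Ω := Fintype.card_pos_iff.mp (by omega)
  refine SubMulAction.ofStabilizer.isMultiplyPretransitive (a := c) |>.mpr ?_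
  refine Cfsg.Agent.Perm.ProjLine.stabilizer_three_transitive hΩ hm (by omega) heven L hcardL hLt hLX
    hcent c fun P hN hins b => ?_
  have := Cfsg.Agent.Perm.ProjLine.faithful_rest (X := X) (Ω := Ω) c
  refine Cfsg.Agent.S3612.result p hp (Cfsg.Agent.Perm.ProjLine.card_rest (X := X) hΩ c) ⟨fun x y => ?_⟩
    hins P hN hp7 b
  obtain ⟨g, hg1, hg2⟩ := MulAction.is_two_pretransitive_iff.mp hLt (Ne.symm x.2) (Ne.symm y.2)
  exact ⟨⟨(g : X), hg1⟩, Subtype.ext hg2⟩

end Cfsg.Agent.S3616
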