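import Cfsg.Statements.S3620
import Cfsg.Agent.Lib.JordanSets.Quasiprimitive
import Cfsg.Agent.Lib.JordanSets.Marggraff
import Cfsg.Agent.EqLemmas

set_option autoImplicit false
open Cfsg

namespace Cfsg.Agent.S3620

open scoped Pointwise
open Cfsg.Agent.JordanSets
open Cfsg.Agent.S3707 (IsJordanSet)

/-- Let G act faithfully on a finite set in such a way that every non-trivial normal subgroup of G is transitive (G is quasiprimitive). Let Γ be a subset with more than one point and fewer than half of the points, such that the pointwise stabilizer of the complement of Γ acts transitively on Γ. Then G induces every even permutation of the set (G is the alternating or the symmetric group). -/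
theorem result {G Ω : Type*} [Group G] [Finite G] [MulAction G Ω] [FaithfulSMul G Ω] [Fintype Ω] [DecidableEq Ω]
    (hqp : ∀ N : Subgroup G, N.Normal → N ≠ ⊥ → MulAction.IsPretransitive ↥N Ω)
    (Γ : Set Ω) (hΓ1 : 1 < Γ.ncard) (hΓ2 : 2 * Γ.ncard < Fintype.card Ω)
    (hJ : MulAction.IsPretransitive ↥(fixingSubgroup G Γᶜ) ↥(SubMulAction.ofFixingSubgroup G Γᶜ)) :
    ∀ σ : Equiv.Perm Ω, Equiv.Perm.sign σ = 1 → ∃ x : G, (MulAction.toPerm x : Equiv.Perm Ω) = σ := by
  classical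
  haveI hGt := isPretransitive_of_jordan hqp hΓ1 hJ
  have hex : ∀ x ∈ Γ, ∀ y ∈ Γ, ∃ g : G, (∀ z ∉ Γ, g • z = z) ∧ g • x = y := fun x hx y hy => by
    obtain ⟨k, hk, hxy⟩ := exists_smul_eq_of_mem hJ hx hy
    exact ⟨k, fun z hz => (mem_fixingSubgroup_iff G).1 hk z hz, hxy⟩
  obtain ⟨a₀, ha₀⟩ := Set.nonempty_of_ncard_ne_zero (show Γ.ncard ≠ 0 by omega)
  -- a maximal block system
  have hstab : MulAction.stabilizer G a₀ ≠ ⊤ := by
    intro h
    obtain ⟨w, hw, hwa⟩ := Set.exists_ne_of_one_lt_ncard hΓ1 a₀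
    obtain ⟨g, -, hg⟩ := hex a₀ ha₀ w hw
    have : g ∈ MulAction.stabilizer G a₀ := h ▸ Subgroup.mem_top g
    exact hwa (hg.symm.trans this)
  obtain ⟨H, hH, hle⟩ := (eq_top_or_exists_le_coatom (MulAction.stabilizer G a₀)).resolve_left hstab
  choose γ hγ using fun x : Ω => MulAction.exists_smul_eq G a₀ x
  let φ : Ω → G ⧸ H := fun x => (γ x : G ⧸ H)
  have hφ : ∀ (g : G) (x : Ω), φ (g • x) = g • φ x := fun g x => by
    show (γ (g • x) : G ⧸ H) = ((g * γ x : G) : G ⧸ H)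
    rw [QuotientGroup.eq]
    refine hle ?_
    show ((γ (g • x))⁻¹ * (g * γ x)) • a₀ = a₀
    rw [mul_smul, mul_smul, hγ x, inv_smul_eq_iff, hγ]
  have hsurj : Function.Surjective φ := fun β => by
    obtain ⟨g, rfl⟩ := QuotientGroup.mk_surjective β
    refine ⟨g • a₀, ?_⟩
    rw [hφ]
    show ((g * γ a₀ : G) : G ⧸ H) = g
    rw [QuotientGroup.eq, mul_inv_rev, mul_assoc, inv_mul_cancel, mul_one]
    exact H.inv_mem (hle (hγ a₀))
  haveI : Nontrivial (G ⧸ H) := by
    by_contra hcon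
    rw [not_nontrivial_iff_subsingleton] at hcon
    exact hH.1 (QuotientGroup.subgroup_eq_top_of_subsingleton H hcon)
  haveI : Fintype (G ⧸ H) := Fintype.ofFinite _
  have hprim : MulAction.IsPreprimitive G (G ⧸ H) := by
    rw [← MulAction.isCoatom_stabilizer_iff_preprimitive G (((1 : G) : G ⧸ H)), MulAction.stabilizer_quotient]
    exact hH
  have hfib : ∀ β, MulAction.IsBlock G (φ ⁻¹' {β}) ∧ φ ⁻¹' {β} ≠ Set.univ := fun β => by
    refine ⟨MulAction.isBlock_iff_smul_eq_or_disjoint.2 fun g => ?_, fun h => ?_⟩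
    · have e : g • φ ⁻¹' {β} = φ ⁻¹' {g • β} := by
        ext x
        simp only [Set.mem_smul_set_iff_inv_smul_mem, Set.mem_preimage, Set.mem_singleton_iff, hφ, inv_smul_eq_iff]
      by_cases hβ : g • β = β
      · exact Or.inl (by rw [e, hβ])
      · refine Or.inr ?_
        rw [e, Set.disjoint_left]
        intro x h1 h2
        exact hβ ((show φ x = g • β from h1).symm.trans (show φ x = β from h2))
    · obtain ⟨β', hβ'⟩ := exists_ne β
      obtain ⟨x, rfl⟩ := hsurj β'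
      exact hβ' (show x ∈ φ ⁻¹' {β} from h ▸ Set.mem_univ x)
  have hsat : ∀ x, x ∈ Γ ↔ φ x ∈ φ '' Γ := fun x => by
    refine ⟨fun h => ⟨x, h, rfl⟩, ?_⟩
    rintro ⟨y, hy, e⟩
    by_contra hx
    exact not_subset_block hqp hΓ1 hJ (hfib (φ x)).1 (hfib _).2 (subset_block (hfib (φ x)).1 hJ e hy rfl hx)
  have hex' : ∀ β ∈ φ '' Γ, ∀ β' ∈ φ '' Γ, ∃ g : G, (∀ z ∉ Γ, g • z = z) ∧ g • β = β' := by
    rintro _ ⟨x, hx, rfl⟩ _ ⟨y, hy, rfl⟩
    obtain ⟨g, hg, e⟩ := hex x hx y hy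
    exact ⟨g, hg, by rw [← hφ, e]⟩
  have hJ' : IsJordanSet G (φ '' Γ) := fun β hβ β' hβ' => by
    obtain ⟨g, hg, e⟩ := hex' β hβ β' hβ'
    refine ⟨g, fun δ hδ => ?_, e⟩
    obtain ⟨z, rfl⟩ := hsurj δ
    rw [← hφ, hg z fun h => hδ ((hsat z).1 h)]
  -- numbers of blocks
  have h1' : 1 < (φ '' Γ).ncard := by
    by_contra hle'
    have hsub : Γ ⊆ φ ⁻¹' {φ a₀} := fun x hx =>
      (Set.ncard_le_one (Set.toFinite _)).1 (not_lt.1 hle') _ ⟨x, hx, rfl⟩ _ ⟨a₀, ha₀, rfl⟩
    exact not_subset_block hqp hΓ1 hJ (hfib _).1 (hfib _).2 hsub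
  have hcard : ∀ β, (Finset.univ.filter fun x => φ x = β).card = (Finset.univ.filter fun x => φ x = φ a₀).card := by
    intro β
    obtain ⟨g, hg⟩ := MulAction.exists_smul_eq G (φ a₀) β
    refine (Finset.card_bij' (fun x _ => g • x) (fun x _ => g⁻¹ • x) ?_ ?_ ?_ ?_).symm <;>
      simp [hφ, ← hg, inv_smul_eq_iff]
  have h2' : 2 * (φ '' Γ).ncard < Nat.card (G ⧸ H) := by
    have e1 : Γ.ncard = (φ '' Γ).ncard * (Finset.univ.filter fun x => φ x = φ a₀).card := by
      rw [Set.ncard_eq_toFinset_card', Set.ncard_eq_toFinset_card',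
        Finset.card_eq_sum_card_fiberwise (f := φ) (t := (φ '' Γ).toFinset)
          (fun x hx => Set.mem_toFinset.2 ⟨x, Set.mem_toFinset.1 hx, rfl⟩)]
      refine (Finset.sum_congr rfl fun β hβ => ?_).trans (by rw [Finset.sum_const, smul_eq_mul])
      rw [← hcard β]
      congr 1
      ext x
      simp only [Finset.mem_filter, Set.mem_toFinset, Finset.mem_univ, true_and]
      exact ⟨fun h => h.2, fun h => ⟨(hsat x).2 (h ▸ Set.mem_toFinset.1 hβ), h⟩⟩
    have e2 : Fintype.card Ω = Nat.card (G ⧸ H) * (Finset.univ.filter fun x => φ x = φ a₀).card := by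
      rw [Nat.card_eq_fintype_card, ← Finset.card_univ, ← Finset.card_univ,
        Finset.card_eq_sum_card_fiberwise (f := φ) (t := Finset.univ) (fun x _ => Finset.mem_univ _),
        Finset.sum_congr rfl fun β _ => hcard β, Finset.sum_const, smul_eq_mul]
    rw [e1, e2, ← mul_assoc] at hΓ2
    exact Nat.lt_of_mul_lt_mul_right hΓ2
  -- two translates meeting in one block, and the commutator
  obtain ⟨u, hu⟩ := Set.nonempty_of_ncard_ne_zero (show (φ '' Γ).ncard ≠ 0 by omega)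
  obtain ⟨g, hg⟩ := exists_meet_once (transOn_card hprim hJ' h1' h2') h1' h2' hu
  have hug : g⁻¹ • u ∈ φ '' Γ := Set.mem_smul_set_iff_inv_smul_mem.1 (hg.symm ▸ rfl : u ∈ φ '' Γ ∩ g • φ '' Γ).2
  obtain ⟨v, hv, hvu⟩ := Set.exists_ne_of_one_lt_ncard h1' u
  obtain ⟨w, hw, hwu⟩ := Set.exists_ne_of_one_lt_ncard h1' (g⁻¹ • u)
  obtain ⟨a, ha, hav⟩ := hex' u hu v hv
  obtain ⟨b₀, hb₀, hbw⟩ := hex' _ hug w hw
  let b := g * b₀ * g⁻¹
  have hb : ∀ z ∉ g • Γ, b • z = z := fun z hz => by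
    simp only [b, mul_smul]
    rw [hb₀ _ fun h => hz (Set.mem_smul_set_iff_inv_smul_mem.2 h), smul_inv_smul]
  have hbu : b • u = g • w := by simp only [b, mul_smul, hbw]
  have hout : ∀ {δ : G ⧸ H} {h : G} {A : Set Ω}, (∀ x, x ∈ A ↔ φ x ∈ φ '' A) →
      (∀ z ∉ A, h • z = z) → δ ∉ φ '' A → h • δ = δ := by
    intro δ h A hA hh hδ
    obtain ⟨z, rfl⟩ := hsurj δ
    rw [← hφ, hh z fun h' => hδ ((hA z).1 h')]
  have himage : φ '' (g • Γ) = g • φ '' Γ := by
    ext δ
    constructor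
    · rintro ⟨_, ⟨y, hy, rfl⟩, rfl⟩
      rw [hφ]
      exact Set.smul_mem_smul_set ⟨y, hy, rfl⟩
    · rintro ⟨_, ⟨y, hy, rfl⟩, rfl⟩
      exact ⟨g • y, Set.smul_mem_smul_set hy, hφ g y⟩
  have hsatg : ∀ x, x ∈ g • Γ ↔ φ x ∈ φ '' (g • Γ) := fun x => by
    rw [himage, Set.mem_smul_set_iff_inv_smul_mem, Set.mem_smul_set_iff_inv_smul_mem, ← hφ, ← hsat]
  have hAB : ∀ x, x ∈ Γ ∩ g • Γ ↔ φ x = u := fun x => by
    rw [Set.mem_inter_iff, hsat, hsatg, himage, ← Set.mem_inter_iff, hg, Set.mem_singleton_iff]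
  have hI : φ '' Γ ∩ φ '' (g • Γ) = {u} := by rw [himage, hg]
  have hbune : b • u ≠ u := fun h => hwu (by rw [eq_inv_smul_iff, ← hbu, h])
  have haune : a • u ≠ u := hav.trans_ne hvu
  obtain ⟨c1, c2, c3⟩ := commutator_cycle (fun δ hδ => hout hsat ha hδ)
    (fun δ hδ => hout hsatg hb hδ) hI haune hbune
  let c := a * b * a⁻¹ * b⁻¹
  have hcfix : ∀ x, φ x ≠ u → φ x ≠ a • u → φ x ≠ b • u → c • x = x := fun x h1 h2 h3 =>
    commutator_fix ha hb (fun h => h1 ((hAB x).1 h))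
      (fun h => h2 (inv_smul_eq_iff.1 ((hφ _ x).symm.trans ((hAB _).1 h))))
      (fun h => h3 (inv_smul_eq_iff.1 ((hφ _ x).symm.trans ((hAB _).1 h))))
  have hab : a • u ≠ b • u := fun h => hvu (by
    have hmem : v ∈ φ '' Γ ∩ g • φ '' Γ := ⟨hv, by
      rw [← hav, h, hbu]
      exact Set.smul_mem_smul_set hw⟩
    rw [hg] at hmem
    exact hmem)
  let π := MulAction.toPermHom G (G ⧸ H)
  have hπ : ∀ (h : G) (δ : G ⧸ H), π h δ = h • δ := fun _ _ => rfl
  have hsupp : (π c).support = {u, a • u, b • u} := by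
    ext δ
    simp only [Equiv.Perm.mem_support, Finset.mem_insert, Finset.mem_singleton, hπ]
    refine ⟨fun h => ?_, ?_⟩
    · by_contra hne
      simp only [not_or] at hne
      obtain ⟨x, rfl⟩ := hsurj δ
      exact h (by rw [← hφ, hcfix x hne.1 hne.2.1 hne.2.2])
    · rintro (rfl | rfl | rfl)
      · rw [show c • δ = a • δ from c1]; exact haune
      · rw [show c • (a • u) = b • u from c2]; exact hab.symm
      · rw [show c • (b • u) = u from c3]; exact hbune.symm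
  have h3 : (π c).IsThreeCycle := by
    rw [← card_support_eq_three_iff, hsupp, Finset.card_eq_three]
    exact ⟨u, a • u, b • u, haune.symm, hbune.symm, hab, rfl⟩
  have hP : ∀ x, c • φ x = φ x → c • x = x := fun x hx => by
    have hn : φ x ∉ (π c).support := by simpa [Equiv.Perm.mem_support, hπ] using hx
    rw [hsupp] at hn
    simp only [Finset.mem_insert, Finset.mem_singleton, not_or] at hn
    exact hcfix x hn.1 hn.2.1 hn.2.2
  haveI : MulAction.IsPreprimitive π.range (G ⧸ H) :=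
    MulAction.IsPreprimitive.of_surjective
      (f := ({ toFun := id, map_smul' := fun _ _ => rfl } : (G ⧸ H) →ₑ[π.rangeRestrict] (G ⧸ H)))
      Function.surjective_id
  have hAlt : alternatingGroup (G ⧸ H) ≤ π.range :=
    Equiv.Perm.alternatingGroup_le_of_isPreprimitive_of_isThreeCycle_mem inferInstance h3 ⟨c, rfl⟩
  have hlift : ∀ τ : Equiv.Perm (G ⧸ H), τ.IsThreeCycle →
      ∃ h : G, π h = τ ∧ ∀ x, h • φ x = φ x → h • x = x := by
    intro τ hτ
    have h5 : 5 ≤ Nat.card (G ⧸ H) := by omega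
    obtain ⟨k, hk⟩ := isConj_iff.1 (alternatingGroup.isThreeCycle_isConj h5
      (σ := ⟨π c, h3.mem_alternatingGroup⟩) (τ := ⟨τ, hτ.mem_alternatingGroup⟩) h3 hτ)
    obtain ⟨h, hh⟩ := hAlt k.2
    refine ⟨h * c * h⁻¹, ?_, fun x hx => ?_⟩
    · rw [map_mul, map_mul, map_inv, hh]
      exact congrArg Subtype.val hk
    · simp only [mul_smul] at hx ⊢
      rw [← eq_inv_smul_iff, ← hφ] at hx
      rw [hP _ hx, smul_inv_smul]
  have hinjπ : Function.Injective π := by
    rw [← MonoidHom.ker_eq_bot_iff]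
    by_contra hne
    obtain ⟨δ, hδ⟩ := exists_ne (φ a₀)
    obtain ⟨y, rfl⟩ := hsurj δ
    obtain ⟨n, hn⟩ := (hqp π.ker inferInstance hne).exists_smul_eq a₀ y
    have e : π n (φ a₀) = φ a₀ := by rw [MonoidHom.mem_ker.1 n.2]; rfl
    rw [hπ, ← hφ, show (n : G) • a₀ = y from hn] at e
    exact hδ e
  -- the blocks are points
  have hinj : Function.Injective φ := by
    intro x y hxy
    have hc : c ∈ (alternatingGroup (G ⧸ H)).comap π := h3.mem_alternatingGroup
    have hne : (alternatingGroup (G ⧸ H)).comap π ≠ ⊥ := fun h => by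
      rw [h, Subgroup.mem_bot] at hc
      exact h3.ne_one (by rw [hc, map_one])
    obtain ⟨n, hn⟩ := (hqp _ inferInstance hne).exists_smul_eq x y
    have hβ : π n (φ x) = φ x := by rw [hπ, ← hφ, show (n : G) • x = y from hn, ← hxy]
    let K := fixingSubgroup G (φ ⁻¹' {φ x})
    let L := (K.map π).comap
      (Equiv.Perm.ofSubtype : Equiv.Perm {δ : G ⧸ H // δ ≠ φ x} →* Equiv.Perm (G ⧸ H))
    have hL : alternatingGroup {δ : G ⧸ H // δ ≠ φ x} ≤ L := by
      rw [← Equiv.Perm.closure_three_cycles_eq_alternating, Subgroup.closure_le]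
      intro τ hτ
      have hτ' : (Equiv.Perm.ofSubtype τ).IsThreeCycle := by
        unfold Equiv.Perm.IsThreeCycle at hτ ⊢
        rw [Equiv.Perm.cycleType_ofSubtype]
        exact hτ
      obtain ⟨h, hh, hfix⟩ := hlift _ hτ'
      refine ⟨h, (mem_fixingSubgroup_iff G).2 fun z hz => hfix z ?_, hh⟩
      rw [← hπ, hh, show φ z = φ x from hz]
      exact Equiv.Perm.ofSubtype_apply_of_not_mem τ (by simp)
    have hmem : ∀ δ, π n δ ≠ φ x ↔ δ ≠ φ x := fun δ => by
      conv_lhs => rw [← hβ]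
      exact (π n).injective.ne_iff
    have hσ : Equiv.Perm.ofSubtype ((π n).subtypePerm hmem) = π n :=
      Equiv.Perm.ofSubtype_subtypePerm (f := π n) (p := fun δ => δ ≠ φ x) hmem fun δ hδ hd => hδ (by rw [hd]; exact hβ)
    have hsign : (π n).subtypePerm hmem ∈ alternatingGroup {δ : G ⧸ H // δ ≠ φ x} := by
      rw [Equiv.Perm.mem_alternatingGroup, ← Equiv.Perm.sign_ofSubtype, hσ]
      exact n.2
    obtain ⟨k, hk, hk'⟩ := hL hsign
    rw [hσ] at hk'
    have := (mem_fixingSubgroup_iff G).1 hk x rfl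
    rw [hinjπ hk'] at this
    exact this.symm.trans hn
  intro σ hσ
  let e := Equiv.ofBijective φ ⟨hinj, hsurj⟩
  obtain ⟨k, hk⟩ := hAlt (show e.permCongr σ ∈ alternatingGroup (G ⧸ H) by
    rw [Equiv.Perm.mem_alternatingGroup, Equiv.Perm.sign_permCongr, hσ])
  refine ⟨k, Equiv.ext fun x => hinj ?_⟩
  have := Equiv.Perm.congr_fun hk (φ x)
  rw [hπ, Equiv.permCongr_apply, show e.symm (φ x) = x from e.symm_apply_apply x] at this
  rw [MulAction.toPerm_apply, hφ, this]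
  rfl

end Cfsg.Agent.S3620
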