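import Cfsg.Statements.S3626
import Cfsg.Agent.S3444
import Cfsg.Agent.Lib.PSL2.ReeSpectrum
import Cfsg.Agent.Lib.PSL2.SolThree
import Cfsg.Agent.Lib.ReeTori.Instance
import Cfsg.Agent.Lib.ReeTori.Apps

set_option autoImplicit false
open Cfsg

namespace Cfsg.Agent.S3626

/-- Let R be the small Ree group over the field with q = 3^(2m+1) ≥ 27 elements. Then there are finite groups of arbitrarily large order with exactly the same set of element orders as R × R × R. -/
theorem result {K : Type*} [Field K] [Fintype K] {m : ℕ} (hm : 1 ≤ m) (hK : Fintype.card K = 3 ^ (2 * m + 1)) (N : ℕ) :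
    ∃ (H : Type) (_ : Group H) (_ : Fintype H), N < Fintype.card H ∧
      Set.range (orderOf : H → ℕ) = Set.range (orderOf : ↥(Cfsg.Lie.twistedG2 K (3 ^ m)) × ↥(Cfsg.Lie.twistedG2 K (3 ^ m)) × ↥(Cfsg.Lie.twistedG2 K (3 ^ m)) → ℕ) := by
  haveI h3 : Fact (Nat.Prime 3) := ⟨Nat.prime_three⟩
  haveI := Cfsg.Agent.Twisted.charP_ree hK
  rw [Cfsg.Agent.Twisted.twisted_eq hK]
  obtain ⟨D⟩ := Cfsg.Agent.ReeTori.exists_data hK hm
  set R := ↥(Cfsg.Agent.Twisted.foldK K m).fix
  have hr : 3 ^ (m + 1) * 3 ^ (m + 1) = 3 * 3 ^ (2 * m + 1) := by ring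
  have hR := D.element_orders hr
  let E := GaloisField 3 (2 * m + 1)
  have hE : Nat.card E = 3 ^ (2 * m + 1) := GaloisField.card 3 _ (by omega)
  have h4 : Nat.card E % 4 = 3 := PSL2.card_mod_four ⟨m, rfl⟩ hE
  haveI : Finite (PSL2.ReeSpec.Big E) := Finite.of_equiv _ SemidirectProduct.equivProd.symm
  let B := PSL2.ReeSpec.Big E
  -- the orders of `Big` occur in the Ree group
  have hBR : ∀ b : B, ∃ g : R, orderOf g = orderOf b := fun b => by
    have h := PSL2.ReeSpec.orderOf_dvd_four E h4 b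
    rw [hE] at h
    exact (hR _).2 (by tauto)
  obtain ⟨⟨b6, e6⟩, ⟨b9, e9⟩, ⟨bq, eq'⟩, ⟨bh, eh⟩⟩ := PSL2.ReeSpec.exists_orders E h4
  rw [hE] at eq' eh
  have hB : ∀ n, (n ∣ 6 ∨ n ∣ 9 ∨ n ∣ 3 ^ (2 * m + 1) - 1 ∨ n ∣ (3 ^ (2 * m + 1) + 1) / 2) →
      ∃ b : B, orderOf b = n := by
    have key : ∀ (b : B) n, n ∣ orderOf b → ∃ b' : B, orderOf b' = n := fun b n hn =>
      ⟨_, orderOf_pow_orderOf_div (orderOf_pos b).ne' hn⟩
    rintro n (h | h | h | h)
    exacts [key b6 n (e6 ▸ h), key b9 n (e9 ▸ h), key bq n (eq' ▸ h), key bh n (eh ▸ h)]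
  -- an element order outside `Big` divides one of the two large tori
  have hbig : ∀ g : R, (∃ b : B, orderOf b = orderOf g) ∨
      orderOf g ∣ 3 ^ (2 * m + 1) - 3 ^ (m + 1) + 1 ∨ orderOf g ∣ 3 ^ (2 * m + 1) + 3 ^ (m + 1) + 1 := fun g => by
    rcases (hR (orderOf g)).1 ⟨g, rfl⟩ with h | h | h | h | h | h
    exacts [Or.inl (hB _ (Or.inl h)), Or.inl (hB _ (Or.inr (Or.inl h))),
      Or.inl (hB _ (Or.inr (Or.inr (Or.inl h)))), Or.inl (hB _ (Or.inr (Or.inr (Or.inr h)))),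
      Or.inr (Or.inl h), Or.inr (Or.inr h)]
  have hspec : Set.range (orderOf : R × R × B → ℕ) = Set.range (orderOf : R × R × R → ℕ) := by
    ext n
    constructor
    · rintro ⟨⟨x, y, b⟩, rfl⟩
      obtain ⟨z, hz⟩ := hBR b
      exact ⟨(x, y, z), by simp only [Prod.orderOf, hz]⟩
    · rintro ⟨⟨x, y, z⟩, rfl⟩
      have put : ∀ (u v : R) (b : B), Nat.lcm (orderOf u) (Nat.lcm (orderOf v) (orderOf b)) =
          Nat.lcm (orderOf x) (Nat.lcm (orderOf y) (orderOf z)) →
          orderOf (x, y, z) ∈ Set.range (orderOf : R × R × B → ℕ) :=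
        fun u v b h => ⟨(u, v, b), by simp only [Prod.orderOf]; exact h⟩
      rcases hbig z with ⟨b, hb⟩ | hz
      · exact put x y b (by rw [hb])
      rcases hbig y with ⟨b, hb⟩ | hy
      · exact put x z b (by rw [hb, Nat.lcm_comm (orderOf z)])
      rcases hbig x with ⟨b, hb⟩ | hx
      · exact put z y b (by rw [hb, Nat.lcm_comm (orderOf z), Nat.lcm_comm (orderOf y) (orderOf x),
          Nat.lcm_assoc])
      -- two of the three orders divide the same torus order
      have merge : ∀ (u v : R) M, (M = 3 ^ (2 * m + 1) - 3 ^ (m + 1) + 1 ∨ M = 3 ^ (2 * m + 1) + 3 ^ (m + 1) + 1) →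
          orderOf u ∣ M → orderOf v ∣ M → ∃ g : R, orderOf g = Nat.lcm (orderOf u) (orderOf v) := by
        rintro u v M (rfl | rfl) hu hv
        · exact (hR _).2 (Or.inr (Or.inr (Or.inr (Or.inr (Or.inl (Nat.lcm_dvd hu hv))))))
        · exact (hR _).2 (Or.inr (Or.inr (Or.inr (Or.inr (Or.inr (Nat.lcm_dvd hu hv))))))
      have fin : ∀ (u v w : R), (∃ g : R, orderOf g = Nat.lcm (orderOf u) (orderOf v)) →
          Nat.lcm (Nat.lcm (orderOf u) (orderOf v)) (orderOf w) =
            Nat.lcm (orderOf x) (Nat.lcm (orderOf y) (orderOf z)) →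
          orderOf (x, y, z) ∈ Set.range (orderOf : R × R × B → ℕ) := by
        rintro u v w ⟨g, hg⟩ h
        exact put g w 1 (by rw [orderOf_one, Nat.lcm_one_right, hg, h])
      rcases hx with hx | hx <;> rcases hy with hy | hy <;> rcases hz with hz | hz
      all_goals first
        | exact fin x y z (merge x y _ (Or.inl rfl) hx hy) (Nat.lcm_assoc _ _ _)
        | exact fin x y z (merge x y _ (Or.inr rfl) hx hy) (Nat.lcm_assoc _ _ _)
        | exact fin x z y (merge x z _ (Or.inl rfl) hx hz) (by rw [Nat.lcm_assoc, Nat.lcm_comm (orderOf z)])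
        | exact fin x z y (merge x z _ (Or.inr rfl) hx hz) (by rw [Nat.lcm_assoc, Nat.lcm_comm (orderOf z)])
        | exact fin y z x (merge y z _ (Or.inl rfl) hy hz) (Nat.lcm_comm _ _)
        | exact fin y z x (merge y z _ (Or.inr rfl) hy hz) (Nat.lcm_comm _ _)
  -- the normal `3`-subgroup
  obtain ⟨P, hPn, hP1, hP3⟩ := PSL2.ReeSpec.exists_three_core E
  let ι : B →* R × R × B := (MonoidHom.inr R (R × B)).comp (MonoidHom.inr R B)
  have hι : Function.Injective ι := fun a b h => congrArg (fun t : R × R × B => t.2.2) h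
  haveI : (P.map ι).Normal := by
    refine ⟨?_⟩
    rintro _ ⟨b, hb, rfl⟩ ⟨u, v, c⟩
    refine ⟨c * b * c⁻¹, hPn.conj_mem b hb c, ?_⟩
    simp [ι]
  have hne : P.map ι ≠ ⊥ := fun h => hP1 ((Subgroup.map_eq_bot_iff_of_injective P hι).1 h)
  have hsol : Group.IsSolvable (P.map ι) := by
    haveI := hP3.isNilpotent
    exact Group.isSolvable_of_surjective (f := (P.equivMapOfInjective ι hι).toMonoidHom) (P.equivMapOfInjective ι hι).surjective
  obtain ⟨H, i1, i2, h1, h2⟩ := Cfsg.Agent.S3444.result (P.map ι) hne hsol N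
  exact ⟨H, i1, i2, h1, h2.trans hspec⟩

end Cfsg.Agent.S3626
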