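import Cfsg.Statements.S3633
import Cfsg.Agent.Lib.PrimeGraph.Coclique

set_option autoImplicit false
open Cfsg

namespace Cfsg.Agent.S3633

/-- Let G be a finite group and ρ a set of at least three prime divisors of the order of G that are pairwise non-adjacent in the prime graph (no element of order rs for distinct r, s ∈ ρ). Then at most one prime of ρ divides the order of any given solvable normal subgroup of G; in particular G is not solvable. -/
theorem result {G : Type*} [Group G] [Finite G] (ρ : Finset ℕ) (hρ : 3 ≤ ρ.card) (hc : ((∀ r ∈ ρ, r.Prime ∧ r ∣ Nat.card G) ∧ (∀ r ∈ ρ, ∀ s ∈ ρ, r ≠ s → ¬ ∃ x : G, orderOf x = r * s)))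
    (K : Subgroup G) [K.Normal] (hK : Group.IsSolvable ↥K) :
    (∀ r ∈ ρ, ∀ s ∈ ρ, r ∣ Nat.card ↥K → s ∣ Nat.card ↥K → r = s) ∧ ¬ Group.IsSolvable G := by
  obtain ⟨hρ', hno⟩ := hc
  refine ⟨fun r hr s hs hrK hsK => ?_, fun hsol => ?_⟩
  · by_contra hne
    obtain ⟨t, ht, htne⟩ : ∃ t ∈ ρ, t ≠ r ∧ t ≠ s := by
      by_contra h
      push Not at h
      have hsub : ρ ⊆ {r, s} := fun t ht => by
        simp only [Finset.mem_insert, Finset.mem_singleton]
        by_cases h' : t = r
        · exact Or.inl h'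
        · exact Or.inr (h t ht h')
      have := (Finset.card_le_card hsub).trans Finset.card_le_two
      omega
    obtain ⟨htr, hts⟩ := htne
    haveI := Fact.mk (hρ' t ht).1
    obtain ⟨x, hx⟩ := exists_prime_orderOf_dvd_card' (G := G) t (hρ' t ht).2
    set L : Subgroup G := Subgroup.zpowers x ⊔ K with hL
    haveI : Group.IsSolvable ↥(Subgroup.zpowers x) := inferInstance
    haveI : Group.IsSolvable ↥K := hK
    haveI := Cfsg.Agent.Solvable.isSolvable_sup (Subgroup.zpowers x) K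
    have hd : ∀ u, u ∣ Nat.card K → u ∣ Nat.card L := fun u hu =>
      hu.trans (Subgroup.card_dvd_of_le le_sup_right)
    have htL : t ∣ Nat.card L := by
      rw [← hx, ← Nat.card_zpowers]
      exact Subgroup.card_dvd_of_le le_sup_left
    have hnoL : ∀ a ∈ ρ, ∀ b ∈ ρ, a ≠ b → ¬ ∃ z : L, orderOf z = a * b := fun a ha b hb hab => by
      rintro ⟨z, hz⟩
      exact hno a ha b hb hab ⟨z, by rw [Subgroup.orderOf_coe, hz]⟩
    exact Cfsg.Agent.PrimeGraph.not_isSolvable_of_three (hρ' r hr).1 (hρ' s hs).1 (hρ' t ht).1 hne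
      htr.symm hts.symm (hd r hrK) (hd s hsK) htL
      ⟨hnoL r hr s hs hne, hnoL r hr t ht htr.symm, hnoL s hs t ht hts.symm⟩ inferInstance
  · obtain ⟨σ, hσ, hσ3⟩ := Finset.exists_subset_card_eq hρ
    obtain ⟨a, b, c, hab, hac, hbc, rfl⟩ := Finset.card_eq_three.1 hσ3
    have ha := hσ (show a ∈ ({a, b, c} : Finset ℕ) by simp)
    have hb := hσ (show b ∈ ({a, b, c} : Finset ℕ) by simp)
    have hc' := hσ (show c ∈ ({a, b, c} : Finset ℕ) by simp)
    exact Cfsg.Agent.PrimeGraph.not_isSolvable_of_three (hρ' a ha).1 (hρ' b hb).1 (hρ' c hc').1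
      hab hac hbc (hρ' a ha).2 (hρ' b hb).2 (hρ' c hc').2
      ⟨hno a ha b hb hab, hno a ha c hc' hac, hno b hb c hc' hbc⟩ hsol

end Cfsg.Agent.S3633
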