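import Cfsg.Statements.S3634
import Cfsg.Agent.Lib.PrimeGraph.Coclique

set_option autoImplicit false
open Cfsg

namespace Cfsg.Agent.S3634

theorem dvd_card_of_sup_eq {G : Type*} [Group G] {L M : Subgroup G} [M.Normal] (h : L ⊔ M = ⊤) :
    M.index ∣ Nat.card L := by
  rw [← Subgroup.relIndex_top_right, ← h, Subgroup.relIndex_sup_right]
  exact Subgroup.relIndex_dvd_card M L

theorem div_card_eq_relIndex {G : Type*} [Group G] [Finite G] {K M : Subgroup G} (h : K ≤ M) :
    Nat.card M / Nat.card K = K.relIndex M := by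
  rw [← Subgroup.relIndex_bot_left, ← Subgroup.relIndex_bot_left K,
    ← Subgroup.relIndex_mul_relIndex ⊥ K M bot_le h, Nat.mul_div_cancel_left]
  rw [Subgroup.relIndex_bot_left]
  exact Nat.card_pos

/-- Let G be a finite group with normal subgroups K ≤ M, and let p, q, r be distinct primes with p dividing the order of K, q dividing the order of M/K and r dividing the order of G/M. Then p, q, r are not pairwise non-adjacent in the prime graph of G: G has an element of order pq, pr or qr. -/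
theorem result {G : Type*} [Group G] [Finite G] (K M : Subgroup G) [K.Normal] [M.Normal] (hKM : K ≤ M)
    (p q r : ℕ) (hp : p.Prime) (hq : q.Prime) (hr : r.Prime) (hpq : p ≠ q) (hpr : p ≠ r) (hqr : q ≠ r)
    (hpK : p ∣ Nat.card ↥K) (hqM : q ∣ Nat.card ↥M / Nat.card ↥K) (hrG : r ∣ Nat.card G / Nat.card ↥M) :
    (∃ x : G, orderOf x = p * q) ∨ (∃ x : G, orderOf x = p * r) ∨ (∃ x : G, orderOf x = q * r) := by
  classical
  by_contra hcon
  simp only [not_or] at hcon
  obtain ⟨n1, n2, n3⟩ := hcon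
  haveI := Fact.mk hp
  haveI := Fact.mk hq
  haveI := Fact.mk hr
  let P : Sylow p K := default
  set P' : Subgroup G := (P : Subgroup K).map K.subtype with hP'
  set N : Subgroup G := Subgroup.normalizer (P' : Set G) with hN
  have hNK : N ⊔ K = ⊤ := Sylow.normalizer_sup_eq_top P
  have hP1 : P' ≠ ⊥ := by
    rw [hP', Ne, Subgroup.map_eq_bot_iff_of_injective _ K.subtype_injective]
    exact P.ne_bot_of_dvd_card hpK
  have hmod : (N ⊓ M) ⊔ K = M := by
    refine le_antisymm (sup_le inf_le_right hKM) fun x hx => ?_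
    obtain ⟨a, ha, k, hk, rfl⟩ := Subgroup.mem_sup_of_normal_right.1 (hNK ▸ Subgroup.mem_top x :
      x ∈ N ⊔ K)
    exact Subgroup.mem_sup_of_normal_right.2 ⟨a, ⟨ha, by simpa using mul_mem hx (inv_mem (hKM hk))⟩,
      k, hk, rfl⟩
  have hqN : q ∣ Nat.card ↥(N ⊓ M) := by
    rw [div_card_eq_relIndex hKM, ← hmod, Subgroup.relIndex_sup_right] at hqM
    exact hqM.trans (Subgroup.relIndex_dvd_card K _)
  let NM : Subgroup N := (N ⊓ M).subgroupOf N
  have hNMn : NM.Normal := by
    constructor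
    intro x hx g
    simp only [NM, Subgroup.mem_subgroupOf, Subgroup.mem_inf] at hx ⊢
    exact ⟨(g * x * g⁻¹).2, by simpa using ‹M.Normal›.conj_mem _ hx.2 (g : G)⟩
  have hqNM : q ∣ Nat.card NM := by
    rwa [Nat.card_congr (Subgroup.subgroupOfEquivOfLe (inf_le_left : N ⊓ M ≤ N)).toEquiv]
  let Q : Sylow q NM := default
  set Q' : Subgroup N := (Q : Subgroup NM).map NM.subtype with hQ'
  have hN0 : Subgroup.normalizer (Q' : Set N) ⊔ NM = ⊤ := Sylow.normalizer_sup_eq_top Q
  set L : Subgroup G := (Subgroup.normalizer (Q' : Set N)).map N.subtype with hL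
  have hLM : L ⊔ M = ⊤ := by
    have h1 : L ⊔ (N ⊓ M) = N := by
      have h2 := congrArg (Subgroup.map N.subtype) hN0
      rw [Subgroup.map_sup, ← MonoidHom.range_eq_map, Subgroup.range_subtype,
        Subgroup.map_subgroupOf_eq_of_le inf_le_left] at h2
      exact h2
    rw [eq_top_iff, ← hNK]
    refine sup_le ?_ (hKM.trans le_sup_right)
    rw [← h1]
    exact sup_le_sup_left inf_le_right L
  have hrL : r ∣ Nat.card L := by
    refine Dvd.dvd.trans ?_ (dvd_card_of_sup_eq hLM)
    rwa [← Subgroup.index_mul_card M, Nat.mul_div_cancel _ Nat.card_pos] at hrG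
  obtain ⟨y, hy⟩ := exists_prime_orderOf_dvd_card' (G := L) r hrL
  obtain ⟨y', hy', hyy⟩ := y.2
  refine Cfsg.Agent.PrimeGraph.false_of_chain hp hq hr hpq hpr hqr (P := P') (A := Q'.map N.subtype)
    (y := (y : G)) (P.isPGroup'.map _) hP1 ((Q.isPGroup'.map _).map _) ?_
    (by rw [Subgroup.orderOf_coe, hy]) (Subgroup.map_subtype_le Q') ?_ ?_ ⟨n1, n2, n3⟩
  · rw [Ne, Subgroup.map_eq_bot_iff_of_injective _ N.subtype_injective, hQ',
      Subgroup.map_eq_bot_iff_of_injective _ NM.subtype_injective]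
    exact Q.ne_bot_of_dvd_card hqNM
  · exact hyy ▸ y'.2
  · exact Subgroup.le_normalizer_map N.subtype ⟨y', hy', hyy⟩

end Cfsg.Agent.S3634
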