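import Cfsg.Statements.S3639
import Cfsg.Agent.Lib.PrimeGraph.ModuleExtension

set_option autoImplicit false
open Cfsg

namespace Cfsg.Agent.S3639

open scoped Matrix

/-- Antidiagonal matrix of `altForm4`. -/
def antiJ (F : Type*) [Field F] : Matrix (Fin 4) (Fin 4) F :=
  !![0, 0, 0, 1; 0, 0, 1, 0; 0, 1, 0, 0; 1, 0, 0, 0]

theorem antiJ_mul_self (F : Type*) [Field F] : antiJ F * antiJ F = 1 := by
  ext i j
  fin_cases i <;> fin_cases j <;> simp [antiJ, Matrix.mul_apply, Fin.sum_univ_four]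

theorem altForm4_eq {F : Type*} [Field F] (u v : Fin 4 → F) :
    Lie.altForm4 u v = u ⬝ᵥ (antiJ F).mulVec v := by
  simp [Lie.altForm4, antiJ, dotProduct, Matrix.mulVec, Fin.sum_univ_four]

theorem transpose_antiJ_mul {F : Type*} [Field F] (g : GL (Fin 4) F) (hg : g ∈ Lie.Sp4 F) :
    (g : Matrix (Fin 4) (Fin 4) F)ᵀ * antiJ F * (g : Matrix (Fin 4) (Fin 4) F) = antiJ F := by
  ext i j
  have h := hg (Pi.single i 1) (Pi.single j 1)
  simp only [Units.coeHom_apply, Matrix.mulVec_single_one, Lie.altForm4, Matrix.col_apply] at h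
  have hr : (Pi.single i 1 : Fin 4 → F) 0 * (Pi.single j 1 : Fin 4 → F) 3
      + (Pi.single i 1 : Fin 4 → F) 1 * (Pi.single j 1 : Fin 4 → F) 2
      + (Pi.single i 1 : Fin 4 → F) 2 * (Pi.single j 1 : Fin 4 → F) 1
      + (Pi.single i 1 : Fin 4 → F) 3 * (Pi.single j 1 : Fin 4 → F) 0
      = antiJ F i j := by
    fin_cases i <;> fin_cases j <;> simp [antiJ]
  rw [← hr, ← h]
  simp [Matrix.mul_apply, Matrix.transpose_apply, Fin.sum_univ_four, antiJ]
  ring

theorem mul_antiJ_transpose {F : Type*} [Field F] (g : GL (Fin 4) F) (hg : g ∈ Lie.Sp4 F) :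
    (g : Matrix (Fin 4) (Fin 4) F) * antiJ F * (g : Matrix (Fin 4) (Fin 4) F)ᵀ = antiJ F := by
  set M := (g : Matrix (Fin 4) (Fin 4) F)
  have h : antiJ F * Mᵀ * antiJ F * M = 1 := by
    rw [mul_assoc (antiJ F * Mᵀ), mul_assoc (antiJ F), ← mul_assoc Mᵀ,
      transpose_antiJ_mul g hg, antiJ_mul_self]
  have h' : M * (antiJ F * Mᵀ * antiJ F) = 1 := mul_eq_one_comm.1 h
  calc M * antiJ F * Mᵀ = M * (antiJ F * Mᵀ * antiJ F) * antiJ F := by
        rw [mul_assoc M, mul_assoc M, mul_assoc (antiJ F * Mᵀ), antiJ_mul_self, mul_one]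
    _ = antiJ F := by rw [h', one_mul]

section

variable {F : Type*} [Field F] [CharP F 2]

theorem col_rel (g : GL (Fin 4) F) (hg : g ∈ Lie.Sp4 F) (i j : Fin 4) :
    g.1 0 i * g.1 3 j + g.1 1 i * g.1 2 j + g.1 2 i * g.1 1 j + g.1 3 i * g.1 0 j = antiJ F i j := by
  have h := congrFun (congrFun (transpose_antiJ_mul g hg) i) j
  rw [← h]
  simp [Matrix.mul_apply, Fin.sum_univ_four, antiJ]
  ring

theorem row_rel (g : GL (Fin 4) F) (hg : g ∈ Lie.Sp4 F) (k l : Fin 4) :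
    g.1 k 0 * g.1 l 3 + g.1 k 1 * g.1 l 2 + g.1 k 2 * g.1 l 1 + g.1 k 3 * g.1 l 0 = antiJ F k l := by
  have h := congrFun (congrFun (mul_antiJ_transpose g hg) k) l
  rw [← h]
  simp [Matrix.mul_apply, Fin.sum_univ_four, antiJ]
  ring

theorem antiJ_pairOf (p : Fin 4) : antiJ F (Lie.pairOf p).1 (Lie.pairOf p).2 = 0 := by
  fin_cases p <;> simp [antiJ, Lie.pairOf]

theorem star4_mul (g h : GL (Fin 4) F) (hg : g ∈ Lie.Sp4 F) (hh : h ∈ Lie.Sp4 F) :
    Lie.star4 (g.1 * h.1) = Lie.star4 g.1 * Lie.star4 h.1 := by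
  ext p r
  have h1 := row_rel g hg (Lie.pairOf p).1 (Lie.pairOf p).2
  have h3 := col_rel h hh (Lie.pairOf r).1 (Lie.pairOf r).2
  rw [antiJ_pairOf] at h1 h3
  simp only [Lie.star4, Matrix.of_apply, Matrix.mul_apply, Fin.sum_univ_four]
  simp only [show Lie.pairOf 0 = ((0 : Fin 4), (1 : Fin 4)) from rfl,
    show Lie.pairOf 1 = ((0 : Fin 4), (2 : Fin 4)) from rfl,
    show Lie.pairOf 2 = ((1 : Fin 4), (3 : Fin 4)) from rfl,
    show Lie.pairOf 3 = ((2 : Fin 4), (3 : Fin 4)) from rfl]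
  set k := (Lie.pairOf p).1
  set l := (Lie.pairOf p).2
  set i := (Lie.pairOf r).1
  set j := (Lie.pairOf r).2
  have h2 : (2 : F) = 0 := CharTwo.two_eq_zero
  linear_combination (g.1 k 0 * g.1 l 3 - g.1 l 0 * g.1 k 3) * h3
    + (h.1 1 i * h.1 2 j - h.1 1 j * h.1 2 i) * h1
    + (-(g.1 k 0 * g.1 l 3 - g.1 l 0 * g.1 k 3) * (h.1 3 i * h.1 0 j + h.1 2 i * h.1 1 j)
        - (h.1 1 i * h.1 2 j - h.1 1 j * h.1 2 i) * (g.1 k 2 * g.1 l 1 + g.1 k 0 * g.1 l 3)) * h2

theorem star4_one : Lie.star4 (1 : Matrix (Fin 4) (Fin 4) F) = 1 := by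
  ext p r
  fin_cases p <;> fin_cases r <;> simp [Lie.star4, Lie.pairOf, Matrix.one_apply]

theorem mem_Sz_iff_forall (m : ℕ) (g : GL (Fin 4) F) (hg : g ∈ Lie.Sz F (2 ^ m)) :
    g ∈ Lie.Sp4 F ∧ Lie.star4 g.1 = g.1.map (iterateFrobenius F 2 m) := by
  induction hg using Subgroup.closure_induction with
  | mem x hx => exact ⟨hx.1, by rw [hx.2]; rfl⟩
  | one => exact ⟨one_mem _, by rw [Units.val_one, star4_one, Matrix.map_one _ (map_zero _) (map_one _)]⟩
  | mul x y _ _ hx hy =>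
    exact ⟨mul_mem hx.1 hy.1, by rw [Units.val_mul, star4_mul x y hx.1 hy.1, hx.2, hy.2, Matrix.map_mul]⟩
  | inv x _ hx =>
    refine ⟨inv_mem hx.1, ?_⟩
    have h1 : Lie.star4 x⁻¹.1 * Lie.star4 x.1 = 1 := by
      rw [← star4_mul _ _ (inv_mem hx.1) hx.1, ← Units.val_mul, inv_mul_cancel, Units.val_one, star4_one]
    have h2 : x.1.map (iterateFrobenius F 2 m) * x⁻¹.1.map (iterateFrobenius F 2 m) = 1 := by
      rw [← Matrix.map_mul, ← Units.val_mul, mul_inv_cancel, Units.val_one,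
        Matrix.map_one _ (map_zero _) (map_one _)]
    rw [hx.2] at h1
    exact left_inv_eq_right_inv h1 h2

theorem charpoly_four {R : Type*} [CommRing R] (M : Matrix (Fin 4) (Fin 4) R) :
    M.charpoly = Polynomial.X ^ 4 + Polynomial.C (-(M 0 0 + M 1 1 + M 2 2 + M 3 3)) * Polynomial.X ^ 3
      + Polynomial.C ((M 0 0 * M 1 1 - M 0 1 * M 1 0) + (M 0 0 * M 2 2 - M 0 2 * M 2 0)
        + (M 0 0 * M 3 3 - M 0 3 * M 3 0) + (M 1 1 * M 2 2 - M 1 2 * M 2 1)
        + (M 1 1 * M 3 3 - M 1 3 * M 3 1) + (M 2 2 * M 3 3 - M 2 3 * M 3 2)) * Polynomial.X ^ 2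
      + Polynomial.C (-(M 0 0 * (M 1 1 * M 2 2 - M 1 2 * M 2 1) - M 0 1 * (M 1 0 * M 2 2 - M 1 2 * M 2 0)
            + M 0 2 * (M 1 0 * M 2 1 - M 1 1 * M 2 0)
          + (M 0 0 * (M 1 1 * M 3 3 - M 1 3 * M 3 1) - M 0 1 * (M 1 0 * M 3 3 - M 1 3 * M 3 0)
            + M 0 3 * (M 1 0 * M 3 1 - M 1 1 * M 3 0))
          + (M 0 0 * (M 2 2 * M 3 3 - M 2 3 * M 3 2) - M 0 2 * (M 2 0 * M 3 3 - M 2 3 * M 3 0)
            + M 0 3 * (M 2 0 * M 3 2 - M 2 2 * M 3 0))
          + (M 1 1 * (M 2 2 * M 3 3 - M 2 3 * M 3 2) - M 1 2 * (M 2 1 * M 3 3 - M 2 3 * M 3 1)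
            + M 1 3 * (M 2 1 * M 3 2 - M 2 2 * M 3 1)))) * Polynomial.X
      + Polynomial.C M.det := by
  unfold Matrix.charpoly
  simp [Matrix.det_succ_row_zero, Fin.sum_univ_succ, Fin.succAbove, Matrix.charmatrix_apply]
  ring

/-- An element of odd order in the Suzuki group fixes no nonzero vector. -/
theorem fixedPointFree (m : ℕ) (g : GL (Fin 4) F) (hg : g ∈ Lie.Sz F (2 ^ m)) (hodd : Odd (orderOf g))
    (hord : IsOfFinOrder g) (v : Fin 4 → F) (hv : v ≠ 0) (hgv : g.1.mulVec v = v) : g = 1 := by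
  obtain ⟨hsp, hst⟩ := mem_Sz_iff_forall m g hg
  set M := g.1 with hM
  have h2 : (2 : F) = 0 := CharTwo.two_eq_zero
  have hpos : 0 < orderOf g := hord.orderOf_pos
  have key : ∀ k : ℕ, g ^ (2 ^ k) = 1 → g = 1 := by
    intro k hk
    have hd := orderOf_dvd_of_pow_eq_one hk
    have hc : (orderOf g).Coprime (2 ^ k) := Nat.Coprime.pow_right _ (Nat.coprime_two_right.2 hodd)
    exact orderOf_eq_one_iff.1 (Nat.eq_one_of_dvd_coprimes hc dvd_rfl hd)
  have hdet : M.det = 1 := by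
    have h := congrArg Matrix.det (transpose_antiJ_mul g hsp)
    have hJ : (antiJ F).det ≠ 0 := by
      intro h0
      have := congrArg Matrix.det (antiJ_mul_self F)
      rw [Matrix.det_mul, h0, mul_zero, Matrix.det_one] at this
      exact zero_ne_one this
    rw [Matrix.det_mul, Matrix.det_mul, Matrix.det_transpose, ← hM] at h
    have h3 : M.det * M.det = 1 := by
      apply mul_left_cancel₀ hJ
      linear_combination h
    have h4 : (M.det - 1) ^ 2 = 0 := by linear_combination h3 + (1 - M.det) * h2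
    exact sub_eq_zero.1 ((pow_eq_zero_iff (by norm_num)).1 h4)
  have hcp := charpoly_four M
  have hsim : g⁻¹.1 = antiJ F * Mᵀ * antiJ F := by
    apply left_inv_eq_right_inv (a := M)
    · rw [hM, ← Units.val_mul, inv_mul_cancel, Units.val_one]
    · exact mul_eq_one_comm.1 (by
        rw [mul_assoc (antiJ F * Mᵀ), mul_assoc (antiJ F), ← mul_assoc Mᵀ, hM,
          transpose_antiJ_mul g hsp, antiJ_mul_self])
  have hcp' : (g⁻¹.1).charpoly = M.charpoly := by
    rw [hsim, mul_assoc, Matrix.charpoly_mul_comm, mul_assoc, antiJ_mul_self, mul_one,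
      Matrix.charpoly_transpose]
  rw [hdet] at hcp
  set e1 := -(M 0 0 + M 1 1 + M 2 2 + M 3 3) with he1
  set e2 := (M 0 0 * M 1 1 - M 0 1 * M 1 0) + (M 0 0 * M 2 2 - M 0 2 * M 2 0)
        + (M 0 0 * M 3 3 - M 0 3 * M 3 0) + (M 1 1 * M 2 2 - M 1 2 * M 2 1)
        + (M 1 1 * M 3 3 - M 1 3 * M 3 1) + (M 2 2 * M 3 3 - M 2 3 * M 3 2) with he2
  generalize hc3 : (-(M 0 0 * (M 1 1 * M 2 2 - M 1 2 * M 2 1) - _ + _ + _ + _ + _) : F) = e3 at hcp
  have ch1 := Matrix.aeval_self_charpoly M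
  have ch2 := Matrix.aeval_self_charpoly g⁻¹.1
  rw [hcp', hcp] at ch2
  rw [hcp] at ch1
  simp only [map_add, map_mul, map_pow, Polynomial.aeval_X, Polynomial.aeval_C, map_one] at ch1 ch2
  simp only [← Algebra.smul_def] at ch1 ch2
  have hi : ∀ n : ℕ, M ^ n * (g⁻¹.1) ^ n = 1 := fun n => by
    rw [hM, ← Units.val_pow_eq_pow_val, ← Units.val_pow_eq_pow_val, ← Units.val_mul, inv_pow,
      mul_inv_cancel, Units.val_one]
  have ch3 : 1 + e1 • M + e2 • M ^ 2 + e3 • M ^ 3 + M ^ 4 = 0 := by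
    have h := congrArg (fun A => M ^ 4 * A) ch2
    simp only [mul_add, mul_zero, mul_smul_comm, mul_one] at h
    rw [hi 4, show M ^ 4 = M * M ^ 3 from pow_succ' M 3, mul_assoc M, hi 3, mul_one,
      show M * M ^ 3 * g⁻¹.1 ^ 2 = M * M ^ 3 * g⁻¹.1 ^ 2 from rfl] at h
    rw [show M * M ^ 3 * g⁻¹.1 ^ 2 = M ^ 2 from by
      rw [show M * M ^ 3 = M ^ 2 * M ^ 2 from by rw [← pow_succ', ← pow_add], mul_assoc, hi 2, mul_one],
      show M * M ^ 3 * g⁻¹.1 = M ^ 3 from by
        rw [show M * M ^ 3 = M ^ 3 * M ^ 1 from by rw [← pow_succ', ← pow_add], mul_assoc,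
          ← pow_one g⁻¹.1, hi 1, mul_one]] at h
    rw [show M ^ 4 = M * M ^ 3 from pow_succ' M 3]
    exact h
  have h13 : e1 = e3 := by
    by_contra hne
    have h5 : (e1 - e3) • (M ^ 3 - M) = 0 := by
      have := congrArg₂ (· - ·) ch1 ch3
      simp only [sub_zero] at this
      rw [← this]
      module
    rcases smul_eq_zero.1 h5 with h | h
    · exact hne (sub_eq_zero.1 h)
    · have h6 : g ^ 3 = g := Units.ext (by simpa [hM] using sub_eq_zero.1 h)
      have h7 : g ^ (2 ^ 1) = 1 := by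
        have : g ^ 2 * g = 1 * g := by rw [← pow_succ, h6, one_mul]
        simpa using mul_right_cancel this
      exact hne (by
        have := key 1 h7
        subst this
        simp [he1, hM, ← hc3])
  have hpow : ∀ n : ℕ, (M ^ n).mulVec v = v := fun n => by
    induction n with
    | zero => simp
    | succ n ih => rw [pow_succ, ← Matrix.mulVec_mulVec, hgv, ih]
  have hsum : 1 + e1 + e2 + e3 + 1 = 0 := by
    have h := congrArg (fun A : Matrix (Fin 4) (Fin 4) F => A.mulVec v) ch1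
    have hgv' : M.mulVec v = v := hgv
    simp only [Matrix.add_mulVec, Matrix.smul_mulVec, hpow, hgv', Matrix.one_mulVec,
      Matrix.zero_mulVec] at h
    have h' : (1 + e1 + e2 + e3 + 1) • v = 0 := by
      rw [← h]
      module
    exact (smul_eq_zero.1 h').resolve_right hv
  have hz : e2 = 0 := by linear_combination hsum + h13 - (1 + e1) * h2
  have r1 := col_rel g hsp 0 3
  have r2 := row_rel g hsp 1 2
  simp only [antiJ, Matrix.of_apply, Matrix.cons_val', Matrix.cons_val_zero, Matrix.cons_val_one,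
    Matrix.cons_val_fin_one, Matrix.cons_val] at r1 r2
  have htr := congrArg Matrix.trace hst
  simp [Matrix.trace, Fin.sum_univ_four, Lie.star4, Lie.pairOf] at htr
  have hth : iterateFrobenius F 2 m (-e1) = 0 := by
    rw [he1, neg_neg, map_add, map_add, map_add, iterateFrobenius_def, iterateFrobenius_def,
      iterateFrobenius_def, iterateFrobenius_def]
    simp only [iterateFrobenius_def] at htr
    rw [← hM] at r1 r2
    rw [he2] at hz
    linear_combination hz - htr + r1 + r2 + (1 - M 0 0 * M 3 3 - M 1 1 * M 2 2 - M 1 0 * M 2 3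
      - M 1 3 * M 2 0) * h2
  have he10 : e1 = 0 := neg_eq_zero.1 ((map_eq_zero _).1 hth)
  rw [← h13, hz, he10] at ch1
  simp only [zero_smul, add_zero] at ch1
  refine key 2 (Units.ext ?_)
  have : M ^ 4 = -1 := eq_neg_of_add_eq_zero_left ch1
  rw [Units.val_pow_eq_pow_val, ← hM, show (2 : ℕ) ^ 2 = 4 from rfl, this, Units.val_one]
  ext a b
  simp [CharTwo.neg_eq]

end

/-- Let S be the Suzuki group over the field with q = 2^(2m+1) ≥ 8 elements. Then there are finite groups of arbitrarily large order with the same prime graph as S. -/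
theorem result {F : Type*} [Field F] [Fintype F] {m : ℕ} (hm : 1 ≤ m) (hF : Fintype.card F = 2 ^ (2 * m + 1)) (N : ℕ) :
    ∃ (H : Type) (_ : Group H) (_ : Fintype H), N < Fintype.card H ∧ ((∀ r : ℕ, r.Prime → (r ∣ Nat.card ↥(Cfsg.Lie.Sz F (2 ^ (m + 1))) ↔ r ∣ Nat.card H)) ∧
      (∀ r s : ℕ, r.Prime → s.Prime → r ≠ s → ((∃ x : ↥(Cfsg.Lie.Sz F (2 ^ (m + 1))), orderOf x = r * s) ↔ (∃ y : H, orderOf y = r * s)))) := by
  classical
  haveI : CharP F 2 := charP_of_card_eq_prime_pow hF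
  let W := Fin 4 → F
  let a : DistribMulAction ↥(Lie.Sz F (2 ^ (m + 1))) W :=
    { smul := fun g v => g.1.1.mulVec v
      one_smul := fun v => Matrix.one_mulVec v
      mul_smul := fun g h v => (Matrix.mulVec_mulVec v g.1.1 h.1.1).symm
      smul_zero := fun g => Matrix.mulVec_zero _
      smul_add := fun g v w => Matrix.mulVec_add _ v w }
  let J : GL (Fin 4) F := ⟨antiJ F, antiJ F, antiJ_mul_self F, antiJ_mul_self F⟩
  have hJmem : J ∈ Lie.Sz F (2 ^ (m + 1)) := by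
    refine Subgroup.subset_closure ⟨fun u v => ?_, ?_⟩
    · simp [J, antiJ, Lie.altForm4, Matrix.mulVec, dotProduct, Fin.sum_univ_four]
      ring
    · ext p r
      fin_cases p <;> fin_cases r <;>
        simp [J, antiJ, Lie.star4, Lie.pairOf, CharTwo.neg_eq]
  have hJord : orderOf (⟨J, hJmem⟩ : ↥(Lie.Sz F (2 ^ (m + 1)))) = 2 := by
    rw [Subgroup.orderOf_mk, orderOf_eq_prime_iff]
    refine ⟨?_, fun hc => ?_⟩
    · rw [sq]
      exact Units.ext (antiJ_mul_self F)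
    · have := congrArg (fun u : GL (Fin 4) F => u.1 0 0) hc
      simp [J, antiJ] at this
  exact Cfsg.Agent.PrimeGraph.exists_large_same_primeGraph (W := W) 2 Nat.prime_two
    (dvd_trans hJord.symm.dvd (orderOf_dvd_natCard _))
    (fun x => by
      funext i
      simp [W, two_nsmul, CharTwo.add_self_eq_zero, CharTwo.two_eq_zero])
    (fun g hg hg2 _ x hx => by
      by_contra hx0
      have hodd : Odd (orderOf g.1) := by
        rw [Subgroup.orderOf_coe]
        exact hg.odd_of_ne_two hg2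
      have h1 : g.1 = 1 := fixedPointFree (m + 1) g.1 g.2 hodd (isOfFinOrder_of_finite _) x hx0 hx
      have : g = 1 := Subtype.ext h1
      rw [this, orderOf_one] at hg
      exact Nat.not_prime_one hg) N

end Cfsg.Agent.S3639
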