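import Cfsg.Statements.S3641
import Cfsg.Agent.Lib.SylowSeventeen.Numbers

set_option autoImplicit false
open Cfsg

namespace Cfsg.Agent.S3641

/-- Let G be a finite group with trivial centre whose set of Sylow numbers (numbers of Sylow r-subgroups, r over the prime divisors of its order) is exactly {18, 136, 153}. Then G is isomorphic to PSL(2, 17) or to PGL(2, 17). -/
theorem result {G : Type*} [Group G] [Finite G] (hZ : Subgroup.center G = ⊥) (hNS : {c : ℕ | ∃ r : ℕ, r.Prime ∧ r ∣ Nat.card G ∧ c = Nat.card (Sylow r G)} = ({18, 136, 153} : Set ℕ))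
    {F : Type*} [Field F] [Fintype F] (hF : Fintype.card F = 17) :
    Nonempty (G ≃* Matrix.ProjectiveSpecialLinearGroup (Fin 2) F) ∨ Nonempty (G ≃* (GL (Fin 2) F ⧸ Subgroup.center (GL (Fin 2) F))) := by
  classical
  haveI : Fact (Nat.Prime 17) := SylowSeventeen.fact_seventeen
  haveI : Fact (Nat.Prime 2) := ⟨Nat.prime_two⟩
  haveI : Fact (Nat.Prime 3) := ⟨Nat.prime_three⟩
  -- the Sylow numbers attached to the primes
  have hex : ∀ c ∈ ({18, 136, 153} : Set ℕ), ∃ r : ℕ, r.Prime ∧ r ∣ Nat.card G ∧ c = Nat.card (Sylow r G) := by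
    intro c hc; rw [← hNS] at hc; exact hc
  have hin : ∀ r : ℕ, r.Prime → r ∣ Nat.card G →
      Nat.card (Sylow r G) = 18 ∨ Nat.card (Sylow r G) = 136 ∨ Nat.card (Sylow r G) = 153 := by
    intro r hr hd
    have : Nat.card (Sylow r G) ∈ ({18, 136, 153} : Set ℕ) := hNS ▸ ⟨r, hr, hd, rfl⟩
    simpa using this
  have hmod : ∀ r : ℕ, r.Prime → Nat.card (Sylow r G) % r = 1 := by
    intro r hr
    haveI := Fact.mk hr
    have := card_sylow_modEq_one r G
    rwa [Nat.ModEq, Nat.one_mod_eq_one.mpr hr.ne_one] at this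
  obtain ⟨r, hr, hrG, hr18⟩ := hex 18 (by simp)
  have hr17 : r = 17 := by
    have h1 := hmod r hr
    rw [← hr18] at h1
    have hd : r ∣ 17 := by
      have := Nat.div_add_mod 18 r
      exact ⟨18 / r, by omega⟩
    exact (Nat.prime_dvd_prime_iff_eq hr (by norm_num)).mp hd
  subst hr17
  have h18G : 18 ∣ Nat.card G := by
    haveI := Fact.mk hr
    obtain ⟨P⟩ := (inferInstance : Nonempty (Sylow 17 G))
    rw [hr18]
    exact P.card_dvd_index.trans (Subgroup.index_dvd_card _)
  have hn2 : Nat.card (Sylow 2 G) = 153 := by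
    have h1 := hmod 2 Nat.prime_two
    rcases hin 2 Nat.prime_two ((show 2 ∣ 18 by norm_num).trans h18G) with h | h | h <;>
      rw [h] at h1 ⊢ <;> omega
  have hn3 : Nat.card (Sylow 3 G) = 136 := by
    have h1 := hmod 3 Nat.prime_three
    rcases hin 3 Nat.prime_three ((show 3 ∣ 18 by norm_num).trans h18G) with h | h | h <;>
      rw [h] at h1 ⊢ <;> omega
  -- the action on the Sylow 17-subgroups
  set X := Sylow 17 G
  haveI : Finite X := inferInstance
  let φ : G →* Equiv.Perm X := MulAction.toPermHom G X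
  haveI : Finite φ.range := Finite.of_surjective φ.rangeRestrict φ.rangeRestrict_surjective
  have hφ : ∀ (g : G) (P : X), (φ.rangeRestrict g) • P = g • P := fun g P => rfl
  have hgeo : SylowSeventeen.Geo φ.range X := by
    refine ⟨hr18.symm, fun a => ⟨(a : Subgroup G).map φ.rangeRestrict, a.isPGroup'.map _, ?_, ?_, ?_⟩⟩
    · rintro g hga q ⟨x, hx, rfl⟩
      obtain ⟨y, rfl⟩ := φ.rangeRestrict_surjective g
      refine ⟨y * x * y⁻¹, ?_, by rw [map_mul, map_mul, map_inv]⟩
      exact (Subgroup.mem_normalizer_iff.mp (Sylow.smul_eq_iff_mem_normalizer.mp hga) x).mp hx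
    · rintro q ⟨x, hx, rfl⟩
      exact Sylow.smul_eq_iff_mem_normalizer.mpr (Subgroup.le_normalizer hx)
    · intro b hb
      by_contra! hall
      exact hb (SylowCount.sylow_le_normalizer_eq (P := b) (Q := a) fun x hx =>
        Sylow.smul_eq_iff_mem_normalizer.mp
          ((hφ x b).symm.trans (hall _ ⟨x, hx, rfl⟩))).symm
  have hH2 := hgeo.card_sylow_two
  have hH3 := hgeo.card_sylow_three_eq
  let e : G ⧸ φ.ker ≃* φ.range := QuotientGroup.quotientKerEquivRange φ
  have hK17 : ∀ P : Sylow 17 G, φ.ker ≤ Subgroup.normalizer ((P : Subgroup G) : Set G) := by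
    intro P k hk
    exact Sylow.smul_eq_iff_mem_normalizer.mp (show φ k P = P by
      rw [MonoidHom.mem_ker.mp hk]; rfl)
  have hKq : ∀ (q : ℕ) (_ : Fact q.Prime), Nat.card (Sylow q φ.range) = Nat.card (Sylow q G) →
      ∀ P : Sylow q G, φ.ker ≤ Subgroup.normalizer ((P : Subgroup G) : Set G) := by
    intro q _ hq P
    have h1 := SylowCount.card_sylow_eq_quotient_mul φ.ker P
    rw [SylowSeventeen.card_sylow_congr q e, hq, SylowCount.card_sylow_sup_eq] at h1
    rw [← Subgroup.relIndex_eq_one]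
    exact Nat.eq_of_mul_eq_mul_left Nat.card_pos (h1.symm.trans (mul_one _).symm)
  have hindex : φ.ker.index = 2448 ∨ φ.ker.index = 4896 := by
    rw [Subgroup.index_ker]
    exact hgeo.card_cases
  have hprimes : ∀ p : ℕ, p.Prime → p ∣ Nat.card G → p ∈ [2, 3, 17] := by
    intro p hp hd
    by_contra hnot
    simp only [List.mem_cons, List.not_mem_nil, or_false, not_or] at hnot
    obtain ⟨hp2, hp3, hp17⟩ := hnot
    haveI := Fact.mk hp
    have h1 := hmod p hp
    have hp16 : ¬ p ∣ 16 := fun h => hp2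
      ((Nat.prime_dvd_prime_iff_eq hp Nat.prime_two).mp (hp.dvd_of_dvd_pow (show p ∣ 2 ^ 4 from h)))
    have hpK : ¬ p ∣ φ.ker.index := by
      intro h
      have h' : p ∣ 2 ^ 5 * (3 ^ 2 * 17) := by
        rcases hindex with e | e <;> rw [e] at h
        · exact h.trans (by norm_num)
        · exact h.trans (by norm_num)
      rcases hp.dvd_mul.mp h' with h | h
      · exact hp2 ((Nat.prime_dvd_prime_iff_eq hp Nat.prime_two).mp (hp.dvd_of_dvd_pow h))
      rcases hp.dvd_mul.mp h with h | h
      · exact hp3 ((Nat.prime_dvd_prime_iff_eq hp Nat.prime_three).mp (hp.dvd_of_dvd_pow h))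
      · exact hp17 ((Nat.prime_dvd_prime_iff_eq hp (by norm_num)).mp h)
    rcases hin p hp hd with h | h | h
    · rw [h] at h1
      refine hp17 ((Nat.prime_dvd_prime_iff_eq hp (by norm_num)).mp ⟨18 / p, ?_⟩)
      have := Nat.div_add_mod 18 p
      omega
    · exact SylowSeventeen.false_of_other_prime (K := φ.ker) hd hpK hp17 hp16 hK17
        (by rw [h]; norm_num) (by rw [h]; norm_num)
    · exact SylowSeventeen.false_of_other_prime (K := φ.ker) hd hpK hp17 hp16 hK17
        (by rw [h]; norm_num) (by rw [h]; norm_num)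
  have hker : φ.ker = ⊥ := SylowSeventeen.ker_eq_bot hZ [2, 3, 17] hprimes fun p hp hmem => by
    simp only [List.mem_cons, List.not_mem_nil, or_false] at hmem
    rcases hmem with rfl | rfl | rfl
    · exact hKq 2 hp (hH2.trans hn2.symm)
    · exact hKq 3 hp (hH3.trans hn3.symm)
    · exact hK17
  let ε : G ≃* φ.range := MonoidHom.ofInjective ((MonoidHom.ker_eq_bot_iff φ).mp hker)
  rcases hgeo.recognise hF with hf | hf
  · exact Or.inl (hf.map fun f => ε.trans f)
  · exact Or.inr (hf.map fun f => ε.trans f)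

end Cfsg.Agent.S3641
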