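import Cfsg.Statements.S3643
import Cfsg.Agent.Lib.GraphM12.MidOrders
import Cfsg.Agent.Lib.GraphM12.Middle
import Cfsg.Agent.Lib.GraphM12.Product
import Cfsg.Agent.Lib.Order95040.Others
import Cfsg.Agent.Lib.Order95040.Unique

set_option autoImplicit false
open Cfsg

namespace Cfsg.Agent.S3643

/-- Let G be a finite group of the same order as the Mathieu group M₁₂ whose character degree graph equals that of M₁₂ (same primes dividing some irreducible complex character degree, same pairs of distinct primes whose product divides some degree). Then G is isomorphic to M₁₂ or to the direct product of the alternating group of degree 4 with M₁₁. -/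
theorem result {G : Type*} [Group G] [Finite G] (hcard : Nat.card G = Nat.card ↥Cfsg.Spor.M12) (hΔ : Cfsg.degreePrimes G = Cfsg.degreePrimes ↥Cfsg.Spor.M12 ∧ Cfsg.degreeGraph G = Cfsg.degreeGraph ↥Cfsg.Spor.M12) :
    Nonempty (G ≃* ↥Cfsg.Spor.M12) ∨ Nonempty (G ≃* alternatingGroup (Fin 4) × ↥Cfsg.Spor.M11) := by
  open Cfsg.Agent in
  have h : Nat.card G = 95040 := hcard.trans Order95040.natCard_m12
  open Cfsg.Agent in
  haveI : IsSimpleGroup ↥Spor.M12 :=
    Golay.isSimpleGroup_m12 (Golay.pts_dodecad0 ▸ Golay.dodecad0_mem)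
  have : Fact (Nat.Prime 11) := ⟨by norm_num⟩
  -- two edges of the graph of `M12`
  obtain ⟨S⟩ := Cfsg.Agent.Order95040.exists_setting (G := ↥Spor.M12) Cfsg.Agent.Order95040.natCard_m12
  obtain ⟨⟨D⟩, -, -⟩ := Cfsg.Agent.Order95040.exists_restData S
  have h55 : (degreeGraph G).Adj 5 11 := by
    rw [hΔ.2]
    exact ⟨by norm_num, by norm_num, by norm_num, _, ⟨D.r 0, rfl⟩, by rw [D.deg 0]; norm_num⟩
  have h33 : (degreeGraph G).Adj 3 11 := by
    rw [hΔ.2]
    exact ⟨by norm_num, by norm_num, by norm_num, _, ⟨D.r 5, rfl⟩, by rw [D.deg 5]; decide +kernel⟩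
  obtain ⟨-, -, -, d, hd, hdd⟩ := h55
  obtain ⟨-, -, -, d', hd', hdd'⟩ := h33
  have hv : 11 ∈ degreePrimes G :=
    ⟨by norm_num, d, hd, (dvd_mul_left 11 5).trans hdd⟩
  obtain ⟨R, hR, M, hMn, -, hMs, hMc, h11, hC, hle⟩ := Cfsg.Agent.GraphM12.exists_socle h hv
  haveI := hR
  haveI := hMn
  haveI := hMs
  have hMd : Nat.card M ∣ 95040 :=
    h ▸ (Subgroup.card_subgroup_dvd_card M).trans (Subgroup.card_quotient_dvd_card R)
  rcases Cfsg.Agent.GraphM12.card_cases hMc h11 hMd with hM | hM | hM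
  · exact (Cfsg.Agent.GraphM12.false_of_660 h hM hle hd hdd).elim
  · exact Or.inr (Cfsg.Agent.GraphM12.nonempty_mulEquiv_prod h hMc hM hC hle hd' hdd')
  · left
    have hQ : Nat.card M ≤ Nat.card (G ⧸ R) := Subgroup.card_le_card_group M
    have hG : Nat.card (G ⧸ R) ≤ Nat.card G :=
      Nat.card_le_card_of_surjective _ (QuotientGroup.mk'_surjective R)
    have htop : M = ⊤ := M.eq_top_of_card_eq (by omega)
    have hbij : Function.Bijective (QuotientGroup.mk' R) :=
      (Nat.bijective_iff_surjective_and_card _).mpr ⟨QuotientGroup.mk'_surjective R, by omega⟩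
    obtain ⟨e⟩ := Cfsg.Agent.Order95040.nonempty_mulEquiv_m12 (G := M) hM
    exact ⟨(MulEquiv.ofBijective _ hbij).trans
      ((Subgroup.topEquiv.symm.trans (MulEquiv.subgroupCongr htop.symm)).trans e)⟩

end Cfsg.Agent.S3643
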