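import Cfsg.Statements.S3648
import Cfsg.Agent.Lib.OrderNsePGL.Action
import Cfsg.Agent.Lib.OrderNsePGL.Model

set_option autoImplicit false
open Cfsg

namespace Cfsg.Agent.S3648

/-- For a finite group X let nse(X) be the set of values of the function 'number of elements of order k' over the element orders k that occur. Let F be a finite field of odd order q > 3 and P = PGL(2, F) = GL(2, F) modulo its centre. If G is a finite group with the same order as P and nse(G) = nse(P), then G is isomorphic to P. -/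
theorem result {F : Type*} [Field F] [Fintype F] (hodd : Odd (Fintype.card F)) (h3 : 3 < Fintype.card F)
    {G : Type*} [Group G] [Finite G] (hcard : Nat.card G = Nat.card (GL (Fin 2) F ⧸ Subgroup.center (GL (Fin 2) F)))
    (hnse : {c : ℕ | 0 < c ∧ ∃ n : ℕ, c = Nat.card {g : G // orderOf g = n}} = {c : ℕ | 0 < c ∧ ∃ n : ℕ, c = Nat.card {g : (GL (Fin 2) F ⧸ Subgroup.center (GL (Fin 2) F)) // orderOf g = n}}) :
    Nonempty (G ≃* (GL (Fin 2) F ⧸ Subgroup.center (GL (Fin 2) F))) := by
  classical
  have iP : Finite (PSL2.PGL2 F) :=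
    Finite.of_surjective _ Matrix.ProjGenLinGroup.mk_surjective
  haveI : Fact (ringChar F).Prime := ⟨CharP.char_is_prime F (ringChar F)⟩
  obtain ⟨f, hf, hqf⟩ := GLOrder.exists_card_eq_pow (F := F) (ringChar F)
  have hq : Fintype.card F = ringChar F ^ f := Fintype.card_eq_nat_card.trans hqf
  have hp : ringChar F ≠ 2 := fun h => by
    rw [hq, h, Nat.odd_pow_iff (by omega)] at hodd
    exact absurd hodd (by decide)
  have hM : OrderNsePGL.Data (Fintype.card F) (PSL2.PGL2 F) := OrderNsePGL.model_data (ringChar F) hp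
  have hset : ∀ c, (0 < c ∧ ∃ n, OrderNsePGL.cnt G n = c) ↔
      (0 < c ∧ ∃ n, OrderNsePGL.cnt (PSL2.PGL2 F) n = c) := fun c => by
    have h := Set.ext_iff.1 hnse c
    simp only [Set.mem_ofPred_eq, eq_comm (a := c)] at h
    exact h
  have hD : OrderNsePGL.Data (Fintype.card F) G := by
    refine ⟨hcard.trans hM.card, ?_, fun n => ?_⟩
    · obtain ⟨n, hn⟩ := hM.two
      exact ((hset _).2 ⟨pow_pos (by omega) 2, n, hn⟩).2
    · rcases Nat.eq_zero_or_pos (OrderNsePGL.cnt G n) with h | h
      · exact Or.inl h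
      · obtain ⟨-, m, hm⟩ := (hset _).1 ⟨h, n, rfl⟩
        exact hm ▸ hM.values m
  obtain ⟨F', iF, iFt, hc, ⟨e⟩⟩ := OrderNsePGL.exists_mulEquiv hD (by omega) hq hp
  let r : F' ≃+* F := FiniteField.ringEquivOfCardEq hc
  let e2 : Matrix.ProjGenLinGroup (Fin 2) F' ≃* Matrix.ProjGenLinGroup (Fin 2) F :=
    MonoidHom.toMulEquiv (Matrix.ProjGenLinGroup.map r.toRingHom)
    (Matrix.ProjGenLinGroup.map r.symm.toRingHom)
    (by
      rw [← Matrix.ProjGenLinGroup.map_comp, ← Matrix.ProjGenLinGroup.map_id]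
      congr 1
      exact RingHom.ext fun x => r.symm_apply_apply x)
    (by
      rw [← Matrix.ProjGenLinGroup.map_comp, ← Matrix.ProjGenLinGroup.map_id]
      congr 1
      exact RingHom.ext fun x => r.apply_symm_apply x)
  exact ⟨e.trans e2⟩

end Cfsg.Agent.S3648
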