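import Cfsg.Statements.S3660
import Cfsg.Agent.Lib.PrimeGraph.ModuleExtension

set_option autoImplicit false
open Cfsg

namespace Cfsg.Agent.S3660

theorem center_eq_bot {F : Type*} [Field F] [CharP F 2] :
    Subgroup.center (Matrix.SpecialLinearGroup (Fin 2) F) = ⊥ := by
  rw [eq_bot_iff]
  intro A hA
  obtain ⟨r, hr, hA⟩ := Matrix.SpecialLinearGroup.mem_center_iff.1 hA
  rw [Fintype.card_fin] at hr
  have hr1 : r = 1 := by
    have : (r - 1) ^ 2 = 0 := by rw [CharTwo.sub_eq_add, CharTwo.add_sq, hr, one_pow, CharTwo.add_self_eq_zero]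
    exact sub_eq_zero.1 (pow_eq_zero_iff (n := 2) (by norm_num) |>.1 this)
  rw [Subgroup.mem_bot]
  ext i j
  rw [← hA, hr1]
  simp

theorem sq_eq_one_of_fixed {F : Type*} [Field F] [CharP F 2] (g : Matrix.SpecialLinearGroup (Fin 2) F)
    (v : Fin 2 → F) (hv : v ≠ 0) (h : (g : Matrix (Fin 2) (Fin 2) F).mulVec v = v) : g ^ 2 = 1 := by
  have hdet : ((g : Matrix (Fin 2) (Fin 2) F) - 1).det = 0 :=
    Matrix.exists_mulVec_eq_zero_iff.1 ⟨v, hv, by rw [Matrix.sub_mulVec, h, Matrix.one_mulVec, sub_self]⟩
  have hd : (g : Matrix (Fin 2) (Fin 2) F).det = 1 := g.2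
  have h2 : (2 : F) = 0 := CharTwo.two_eq_zero
  rw [Matrix.det_fin_two] at hdet hd
  simp only [Matrix.sub_apply, Matrix.one_apply_eq, Fin.reduceEq, ne_eq, not_false_eq_true,
    Matrix.one_apply_ne, sub_zero] at hdet
  ext i j
  rw [sq, Matrix.SpecialLinearGroup.coe_mul, Matrix.SpecialLinearGroup.coe_one, Matrix.mul_apply,
    Fin.sum_univ_two]
  have ht : g.1 0 0 + g.1 1 1 = 0 := by linear_combination hd - hdet + h2
  fin_cases i <;> fin_cases j <;> simp
  · linear_combination g.1 0 0 * ht - hd + (g.1 0 0 * 0) * h2 - h2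
  · linear_combination g.1 0 1 * ht
  · linear_combination g.1 1 0 * ht
  · linear_combination g.1 1 1 * ht - hd - h2

/-- The prime graph of a finite group has the prime divisors of its order as vertices, two distinct primes p, q being joined when the group has an element of order pq; two groups have the same prime graph when they have the same prime divisors and the same joined pairs. Let F be a finite field of characteristic 2 with at least 4 elements. Then there are finite groups of arbitrarily large order with the same prime graph as PSL(2,F); in particular PSL(2,F) is not determined by its prime graph. -/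
theorem result {F : Type*} [Field F] [Fintype F] [CharP F 2] (hF : 4 ≤ Fintype.card F) (N : ℕ) :
    ∃ (H : Type) (_ : Group H) (_ : Finite H), N < Nat.card H ∧
      ((∀ p : ℕ, p.Prime → (p ∣ Nat.card (Matrix.ProjectiveSpecialLinearGroup (Fin 2) F) ↔ p ∣ Nat.card H)) ∧
      (∀ p q : ℕ, p.Prime → q.Prime → p ≠ q → ((∃ g : (Matrix.ProjectiveSpecialLinearGroup (Fin 2) F), orderOf g = p * q) ↔ (∃ g : H, orderOf g = p * q)))) := by
  classical
  let q : Matrix.ProjectiveSpecialLinearGroup (Fin 2) F ≃* Matrix.SpecialLinearGroup (Fin 2) F :=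
    (QuotientGroup.quotientMulEquivOfEq center_eq_bot).trans QuotientGroup.quotientBot
  let _ : DistribMulAction (Matrix.SpecialLinearGroup (Fin 2) F) (Fin 2 → F) :=
    { smul := fun g v => (g : Matrix (Fin 2) (Fin 2) F).mulVec v
      one_smul := fun v => Matrix.one_mulVec v
      mul_smul := fun g h v => (Matrix.mulVec_mulVec v g.1 h.1).symm
      smul_zero := fun g => Matrix.mulVec_zero _
      smul_add := fun g v w => Matrix.mulVec_add _ v w }
  let t : Matrix.SpecialLinearGroup (Fin 2) F := ⟨!![1, 1; 0, 1], by simp⟩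
  have ht : orderOf t = 2 := by
    rw [orderOf_eq_prime_iff]
    refine ⟨?_, fun hc => ?_⟩
    · rw [pow_two]
      apply Subtype.ext
      rw [Matrix.SpecialLinearGroup.coe_mul, Matrix.SpecialLinearGroup.coe_one]
      ext i j
      fin_cases i <;> fin_cases j <;>
        simp [t, Matrix.mul_apply, CharTwo.add_self_eq_zero]
    · have := congrArg (fun A : Matrix.SpecialLinearGroup (Fin 2) F => A.1 0 1) hc
      simp [t] at this
  obtain ⟨H, i1, i2, hN, hp, he⟩ := Cfsg.Agent.PrimeGraph.exists_large_same_primeGraph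
    (G := Matrix.SpecialLinearGroup (Fin 2) F) (W := Fin 2 → F) 2 Nat.prime_two
    (dvd_trans ht.symm.dvd (orderOf_dvd_natCard t)) (fun x => by
      funext i
      simp [two_nsmul, CharTwo.add_self_eq_zero, CharTwo.two_eq_zero])
    (fun g hg hg2 _ x hx => by
      by_contra hx0
      have := orderOf_dvd_of_pow_eq_one (sq_eq_one_of_fixed g x hx0 hx)
      exact hg2 ((Nat.prime_dvd_prime_iff_eq hg Nat.prime_two).1 this)) N
  refine ⟨H, i1, inferInstance, by rwa [Nat.card_eq_fintype_card], fun p hp' => ?_,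
    fun p r hp' hr hpr => ?_⟩
  · rw [Nat.card_congr q.toEquiv]
    exact hp p hp'
  · rw [← he p r hp' hr hpr]
    constructor
    · rintro ⟨g, hg⟩
      exact ⟨q g, (MulEquiv.orderOf_eq q g).trans hg⟩
    · rintro ⟨g, hg⟩
      exact ⟨q.symm g, (MulEquiv.orderOf_eq q.symm g).trans hg⟩

end Cfsg.Agent.S3660
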