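import Cfsg.Statements.S3664
import Cfsg.Agent.Lib.PrimeGraph.PSpSixThree
import Cfsg.Agent.Lib.PrimeGraph.SzEightExtension

set_option autoImplicit false
open Cfsg

namespace Cfsg.Agent.S3664

/-- The prime graph of a finite group has the prime divisors of its order as vertices, two distinct primes p, q being joined when the group has an element of order pq; two groups have the same prime graph when they have the same prime divisors and the same joined pairs. Let F be the field with 3 elements and L = PSp(6,F). There are finite groups of arbitrarily large order with the same prime graph as L (a prime graph shared by the orthogonal groups Ω₇(3) and PΩ⁺₈(3)). -/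
theorem result {F : Type*} [Field F] [Fintype F] (hF : Fintype.card F = 3) (N : ℕ) :
    ∃ (H : Type) (_ : Group H) (_ : Finite H), N < Nat.card H ∧
      ((∀ p : ℕ, p.Prime → (p ∣ Nat.card (Cfsg.PSp 3 F) ↔ p ∣ Nat.card H)) ∧
      (∀ p q : ℕ, p.Prime → q.Prime → p ≠ q → ((∃ g : (Cfsg.PSp 3 F), orderOf g = p * q) ↔ (∃ g : H, orderOf g = p * q)))) := by
  haveI : Fact (Nat.Prime 2) := ⟨Nat.prime_two⟩
  letI : Fintype (GaloisField 2 3) := Fintype.ofFinite _
  have h8 : Fintype.card (GaloisField 2 3) = 2 ^ (2 * 1 + 1) := by
    rw [← Nat.card_eq_fintype_card, GaloisField.card 2 3 (by norm_num)]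
  obtain ⟨H, hG, hf, hN, hp, he⟩ := Cfsg.Agent.PrimeGraph.SzEight.exists_large h8 N
  exact ⟨H, hG, hf, hN, fun p hp' => (Cfsg.Agent.PrimeGraph.PSpSixThree.primes_psp hF p hp').trans (hp p hp').symm,
    fun p q h1 h2 h3 => (Cfsg.Agent.PrimeGraph.PSpSixThree.edges_psp hF p q h1 h2 h3).trans (he p q h1 h2 h3).symm⟩

end Cfsg.Agent.S3664
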