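import Cfsg.Statements.S3670
import Cfsg.Agent.Lib.Golay.UThree.Rep
import Cfsg.Agent.Lib.Golay.UThree.Witness
import Cfsg.Agent.Lib.Golay.UThree.Transfer
-- import your own Cfsg.Agent.* helpers here

set_option autoImplicit false
open Cfsg

namespace Cfsg.Agent.S3670

/-- The character degree graph of a finite group has as vertices the primes dividing some irreducible complex character degree, two distinct primes being joined when their product divides some irreducible character degree; two groups have the same character degree graph when they have the same vertices and the same joined pairs. Let F be the field with 9 elements and L = PSU(3,3) realised over F (order 6048). There is a finite solvable group of order 6048 with the same character degree graph as L; so L is not determined by its order together with its character degree graph. -/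
theorem result {F : Type*} [Field F] [Fintype F] (hF : Fintype.card F = 9) :
    ∃ (H : Type) (_ : Group H) (_ : Fintype H), Group.IsSolvable H ∧ Nat.card H = 6048 ∧ Cfsg.degreePrimes H = Cfsg.degreePrimes (Cfsg.PSU 3 F 3) ∧ Cfsg.degreeGraph H = Cfsg.degreeGraph (Cfsg.PSU 3 F 3) := by
  obtain ⟨e⟩ := Cfsg.Agent.Golay.UThree.exists_psu_equiv hF
  have : Finite (Cfsg.PSU 3 F 3) := Finite.of_equiv _ e.symm.toEquiv
  have hcard : Nat.card (Cfsg.PSU 3 F 3) = 6048 :=
    (Nat.card_congr e.toEquiv).trans Cfsg.Agent.Golay.UThree.card_SU3
  have hfull : Cfsg.Agent.Golay.UThree.Full (Cfsg.PSU 3 F 3) := by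
    apply Cfsg.Agent.Golay.UThree.full_of_degrees
    rw [Cfsg.Agent.Golay.UThree.charDegrees_congr e]
    exact Cfsg.Agent.Golay.UThree.exists_degrees
  refine ⟨Cfsg.Agent.Golay.UThree.Wit, inferInstance, inferInstance,
    Cfsg.Agent.Golay.UThree.isSolvable_Wit, Cfsg.Agent.Golay.UThree.card_Wit, ?_, ?_⟩
  · rw [Cfsg.Agent.Golay.UThree.degreePrimes_eq Cfsg.Agent.Golay.UThree.card_Wit
        Cfsg.Agent.Golay.UThree.full_Wit,
      Cfsg.Agent.Golay.UThree.degreePrimes_eq hcard hfull]
  · ext p q
    rw [Cfsg.Agent.Golay.UThree.adj_iff Cfsg.Agent.Golay.UThree.card_Wit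
        Cfsg.Agent.Golay.UThree.full_Wit,
      Cfsg.Agent.Golay.UThree.adj_iff hcard hfull]

end Cfsg.Agent.S3670
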