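import Cfsg.Statements.S3678
import Cfsg.Agent.EqLemmas
import Cfsg.Agent.Lib.GLOrder.Basic

set_option autoImplicit false
open Cfsg

namespace Cfsg.Agent.S3678

open Matrix

/-- Coefficients of the powers of a `2 × 2` matrix of trace `t` and determinant one. -/
def coef {R : Type*} [CommRing R] (t : R) : ℕ → R
  | 0 => 0
  | 1 => 1
  | (n + 2) => t * coef t (n + 1) - coef t n

theorem coef_map {R S : Type*} [CommRing R] [CommRing S] (φ : R →+* S) (t : R) :
    ∀ n, φ (coef t n) = coef (φ t) n
  | 0 => by simp [coef]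
  | 1 => by simp [coef]
  | (n + 2) => by simp only [coef, map_sub, map_mul, coef_map φ t (n + 1), coef_map φ t n]

theorem pow_succ_eq {R : Type*} [CommRing R] (M : Matrix (Fin 2) (Fin 2) R) (hd : M.det = 1) :
    ∀ n, M ^ (n + 1) = coef M.trace (n + 1) • M - coef M.trace n • 1
  | 0 => by simp [coef]
  | (n + 1) => by
    have hsq : M * M = M.trace • M - 1 := by
      rw [det_fin_two] at hd
      ext i j
      fin_cases i <;> fin_cases j <;>
        simp [Matrix.mul_apply, Fin.sum_univ_two, trace_fin_two] <;> first | linear_combination (-1 : R) * hd | linear_combination hd | ring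
    rw [pow_succ, pow_succ_eq M hd n, sub_mul, smul_mul_assoc, smul_mul_assoc, one_mul, hsq, smul_sub,
      smul_smul]
    simp only [coef]
    rw [sub_smul]
    module

/-- The element orders of `SL₂` over the field of eight elements. -/
theorem sl_two_eight {F : Type*} [Field F] [Fintype F] [CharP F 2] (hF : Fintype.card F = 8)
    (g : SpecialLinearGroup (Fin 2) F) :
    g ^ 2 = 1 ∨ g ^ 7 = 1 ∨ g ^ 9 = 1 := by
  set t := (g : Matrix (Fin 2) (Fin 2) F).trace with ht
  have key : ∀ n, coef t (n + 1) = 0 → coef t n = 1 → g ^ (n + 1) = 1 := fun n h1 h2 => by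
    apply Subtype.ext
    refine (pow_succ_eq (g : Matrix (Fin 2) (Fin 2) F) g.det_coe n).trans ?_
    rw [← ht, h1, h2, zero_smul, one_smul, zero_sub, CharTwo.neg_eq]
    rfl
  have two : (2 : F) = 0 := CharTwo.two_eq_zero
  have h8 : t ^ 8 = t := hF ▸ FiniteField.pow_card t
  have split : t * (t - 1) * (t ^ 3 + t + 1) * (t ^ 3 + t ^ 2 + 1) = 0 := by
    grind
  rcases mul_eq_zero.mp split with h | h
  rcases mul_eq_zero.mp h with h | h
  rcases mul_eq_zero.mp h with h | h
  · left; refine key 1 ?_ ?_ <;> simp [coef, h]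
  · right; right
    rw [sub_eq_zero] at h
    refine key 8 ?_ ?_ <;> simp [coef, h]
  · right; right
    refine key 8 ?_ ?_ <;> simp only [coef] <;> grind
  · right; left
    refine key 6 ?_ ?_ <;> simp only [coef] <;> grind

theorem table_seven : ∀ t : ZMod 7, ∃ n : Fin 7, (n.val + 1) ∈ [2, 3, 4, 7] ∧
    coef t (n.val + 1) = 0 ∧ (coef t n.val = 1 ∨ coef t n.val = -1) := by
  decide

/-- The element orders of `PSL₂` over the field of seven elements. -/
theorem psl_two_seven {F : Type*} [Field F] [Fintype F] (hF : Fintype.card F = 7)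
    (x : ProjectiveSpecialLinearGroup (Fin 2) F) : x ^ 4 = 1 ∨ x ^ 7 = 1 ∨ x ^ 9 = 1 := by
  obtain ⟨g, rfl⟩ := QuotientGroup.mk'_surjective (Subgroup.center (SpecialLinearGroup (Fin 2) F)) x
  haveI : Fact (Nat.Prime 7) := ⟨by norm_num⟩
  haveI : CharP F 7 := charP_of_card_eq_prime hF
  set φ : ZMod 7 →+* F := ZMod.castHom dvd_rfl F
  obtain ⟨t, ht⟩ : ∃ t : ZMod 7, φ t = (g : Matrix (Fin 2) (Fin 2) F).trace :=
    ((Fintype.bijective_iff_injective_and_card φ).mpr ⟨φ.injective, by rw [ZMod.card, hF]⟩).2 _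
  obtain ⟨n, hn, h1, h2⟩ := table_seven t
  have hmem : g ^ (n.val + 1) ∈ Subgroup.center (SpecialLinearGroup (Fin 2) F) := by
    have hM : ((g ^ (n.val + 1) : SpecialLinearGroup (Fin 2) F) : Matrix (Fin 2) (Fin 2) F)
        = (-φ (coef t n.val)) • 1 := by
      refine (pow_succ_eq (g : Matrix (Fin 2) (Fin 2) F) g.det_coe n.val).trans ?_
      rw [← ht, ← coef_map, ← coef_map, h1, map_zero, zero_smul, zero_sub, neg_smul]
    refine Subgroup.mem_center_iff.mpr fun k => Subtype.ext ?_
    change (k : Matrix (Fin 2) (Fin 2) F) * ((g ^ (n.val + 1) : SpecialLinearGroup (Fin 2) F) : Matrix (Fin 2) (Fin 2) F)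
      = ((g ^ (n.val + 1) : SpecialLinearGroup (Fin 2) F) : Matrix (Fin 2) (Fin 2) F) * (k : Matrix (Fin 2) (Fin 2) F)
    rw [hM, mul_smul_comm, smul_mul_assoc, mul_one, one_mul]
  have hpow : ((QuotientGroup.mk' _ g : ProjectiveSpecialLinearGroup (Fin 2) F)) ^ (n.val + 1) = 1 := by
    rw [← map_pow]; exact (QuotientGroup.eq_one_iff _).mpr hmem
  simp only [List.mem_cons, List.not_mem_nil, or_false] at hn
  rcases hn with h | h | h | h <;> rw [h] at hpow
  · exact Or.inl (by rw [show 4 = 2 * 2 from rfl, pow_mul, hpow, one_pow])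
  · exact Or.inr (Or.inr (by rw [show 9 = 3 * 3 from rfl, pow_mul, hpow, one_pow]))
  · exact Or.inl hpow
  · exact Or.inr (Or.inl hpow)

theorem no_order_pq {H : Type*} [Group H] (h : ∀ x : H, x ^ 4 = 1 ∨ x ^ 7 = 1 ∨ x ^ 9 = 1)
    {p q : ℕ} (hp : p.Prime) (hq : q.Prime) (hne : p ≠ q) : ¬ ∃ x : H, orderOf x = p * q := by
  rintro ⟨x, hx⟩
  obtain ⟨r, k, hr, hrk⟩ : ∃ r k : ℕ, r.Prime ∧ x ^ r ^ k = 1 := by
    rcases h x with h | h | h
    · exact ⟨2, 2, by norm_num, h⟩
    · exact ⟨7, 1, by norm_num, h⟩
    · exact ⟨3, 2, by norm_num, h⟩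
  have hd : p * q ∣ r ^ k := hx ▸ orderOf_dvd_of_pow_eq_one hrk
  exact hne ((((Nat.prime_dvd_prime_iff_eq hp hr).mp (hp.dvd_of_dvd_pow (dvd_of_mul_right_dvd hd)))).trans
    ((Nat.prime_dvd_prime_iff_eq hq hr).mp (hq.dvd_of_dvd_pow (dvd_of_mul_left_dvd hd))).symm)

variable (F : Type) [Field F] (N : ℕ)

/-- The action on `N` copies of the natural module. -/
def act : SpecialLinearGroup (Fin 2) F →* MulAut (Multiplicative (Fin N → Fin 2 → F)) :=
    { toFun := fun g => AddEquiv.toMultiplicative
        { toFun := fun v j => (g : Matrix (Fin 2) (Fin 2) F) *ᵥ v j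
          invFun := fun v j => ((g⁻¹ : SpecialLinearGroup (Fin 2) F) : Matrix (Fin 2) (Fin 2) F) *ᵥ v j
          left_inv := fun v => funext fun j => by
            refine (mulVec_mulVec _ _ _).trans ?_
            change (((g⁻¹ * g) : SpecialLinearGroup (Fin 2) F) : Matrix (Fin 2) (Fin 2) F) *ᵥ v j = v j
            rw [inv_mul_cancel]; exact one_mulVec _
          right_inv := fun v => funext fun j => by
            refine (mulVec_mulVec _ _ _).trans ?_
            change (((g * g⁻¹) : SpecialLinearGroup (Fin 2) F) : Matrix (Fin 2) (Fin 2) F) *ᵥ v j = v j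
            rw [mul_inv_cancel]; exact one_mulVec _
          map_add' := fun u v => funext fun j => mulVec_add _ _ _ }
      map_one' := MulEquiv.ext fun v => Multiplicative.toAdd.injective (funext fun j => one_mulVec _)
      map_mul' := fun g h => MulEquiv.ext fun v => Multiplicative.toAdd.injective (funext fun j => (mulVec_mulVec (Multiplicative.toAdd v j) (g : Matrix (Fin 2) (Fin 2) F) (h : Matrix (Fin 2) (Fin 2) F)).symm) }

abbrev Ext : Type := Multiplicative (Fin N → Fin 2 → F) ⋊[act F N] SpecialLinearGroup (Fin 2) F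

variable {F} {N}

theorem ext_orders [Fintype F] [CharP F 2] (hF : Fintype.card F = 8) (x : Ext F N) :
    x ^ 4 = 1 ∨ x ^ 7 = 1 ∨ x ^ 9 = 1 := by
  set g := x.right with hg
  have hright : ∀ n : ℕ, (x ^ n).right = g ^ n := fun n => map_pow SemidirectProduct.rightHom x n
  have hsq : ∀ y : Ext F N, y.right = 1 → y ^ 2 = 1 := fun y hy => by
    have : y = SemidirectProduct.inl y.left := SemidirectProduct.ext (by simp) (by simp [hy])
    rw [this, ← map_pow, show y.left ^ 2 = 1 from ?_, map_one]
    apply Multiplicative.toAdd.injective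
    rw [toAdd_pow, toAdd_one]
    funext i j
    simp [CharTwo.two_eq_zero]
  have hfix : g ^ 2 ≠ 1 → ∀ n, g ^ n = 1 → x ^ n = 1 := fun h2 n hn => by
    set y := x ^ n with hy
    have hyr : y.right = 1 := by rw [hy, hright, hn]
    have hyl : y = SemidirectProduct.inl y.left := SemidirectProduct.ext (by simp) (by simp [hyr])
    have hc : (x * y).left = (y * x).left := by rw [hy, ← pow_succ, ← pow_succ']
    rw [SemidirectProduct.mul_left, SemidirectProduct.mul_left, hyr, map_one, MulAut.one_apply,
      mul_comm y.left, mul_right_inj] at hc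
    rw [hyl, show y.left = 1 from ?_, map_one]
    apply Multiplicative.toAdd.injective
    funext j
    rw [toAdd_one, Pi.zero_apply]
    have hj : (g : Matrix (Fin 2) (Fin 2) F) *ᵥ (Multiplicative.toAdd y.left j) = Multiplicative.toAdd y.left j :=
      congrFun (congrArg Multiplicative.toAdd hc) j
    by_contra hv
    have hdet : ((g : Matrix (Fin 2) (Fin 2) F) - 1).det = 0 :=
      exists_mulVec_eq_zero_iff.mp ⟨_, hv, by rw [sub_mulVec, one_mulVec, hj, sub_self]⟩
    apply h2
    have hd := g.det_coe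
    rw [det_fin_two] at hd hdet
    simp at hdet
    have ht : (g : Matrix (Fin 2) (Fin 2) F).trace = 0 := by
      rw [trace_fin_two]
      linear_combination hd - hdet + (CharTwo.two_eq_zero (R := F))
    apply Subtype.ext
    refine (pow_succ_eq (g : Matrix (Fin 2) (Fin 2) F) g.det_coe 1).trans ?_
    rw [ht]
    simp [coef, CharTwo.neg_eq]
  by_cases h2 : g ^ 2 = 1
  · left
    rw [show 4 = 2 * 2 from rfl, pow_mul]
    exact hsq _ (by rw [hright, h2])
  · rcases sl_two_eight hF g with h | h | h
    · exact absurd h h2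
    · exact Or.inr (Or.inl (hfix h2 7 h))
    · exact Or.inr (Or.inr (hfix h2 9 h))


/-- The prime graph of a finite group has the prime divisors of its order as vertices, two distinct primes p, q being joined when the group has an element of order pq; two groups have the same prime graph when they have the same prime divisors and the same joined pairs. Let F be the field with 7 elements. There are finite groups of arbitrarily large order with the same prime graph as PSL(2,F) (the graph on {2, 3, 7} with no edges, which is also the prime graph of PSL(2,8)). -/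
theorem result {F : Type*} [Field F] [Fintype F] (hF : Fintype.card F = 7) (N : ℕ) :
    ∃ (H : Type) (_ : Group H) (_ : Finite H), N < Nat.card H ∧
      ((∀ p : ℕ, p.Prime → (p ∣ Nat.card (Matrix.ProjectiveSpecialLinearGroup (Fin 2) F) ↔ p ∣ Nat.card H)) ∧
      (∀ p q : ℕ, p.Prime → q.Prime → p ≠ q → ((∃ g : (Matrix.ProjectiveSpecialLinearGroup (Fin 2) F), orderOf g = p * q) ↔ (∃ g : H, orderOf g = p * q)))) := by
  haveI : Fact (Nat.Prime 2) := ⟨Nat.prime_two⟩
  let K := GaloisField 2 3
  letI : Fintype K := Fintype.ofFinite K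
  have hK : Fintype.card K = 8 := by
    rw [← Nat.card_eq_fintype_card, GaloisField.card 2 3 (by norm_num)]; norm_num
  haveI : Finite (Ext K N) := Finite.of_equiv _ SemidirectProduct.equivProd.symm
  have hSL : Nat.card (SpecialLinearGroup (Fin 2) K) = 504 := by
    rw [GLOrder.card_SL_two, Nat.card_eq_fintype_card, hK]; norm_num
  have hV : Nat.card (Multiplicative (Fin N → Fin 2 → K)) = 2 ^ (6 * N) := by
    rw [Nat.card_congr Multiplicative.toAdd, Nat.card_fun, Nat.card_fun, Nat.card_fin, Nat.card_fin,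
      Nat.card_eq_fintype_card, hK, pow_mul]; norm_num
  have hH : Nat.card (Ext K N) = 2 ^ (6 * N) * 504 := by
    rw [SemidirectProduct.card, hV, hSL]
  have hL : Nat.card (Matrix.ProjectiveSpecialLinearGroup (Fin 2) F) = 168 := by
    rw [GLOrder.card_PSL_two, Nat.card_eq_fintype_card, hF]; rfl
  refine ⟨Ext K N, inferInstance, inferInstance, ?_, fun p hp => ?_, fun p q hp hq hne => ?_⟩
  · rw [hH]
    have : 6 * N < 2 ^ (6 * N) := Nat.lt_two_pow_self
    omega
  · rw [hL, hH]
    have e2 := Nat.prime_dvd_prime_iff_eq hp Nat.prime_two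
    have e3 := Nat.prime_dvd_prime_iff_eq hp Nat.prime_three
    have e7 := Nat.prime_dvd_prime_iff_eq hp (by norm_num : Nat.Prime 7)
    constructor
    · intro h
      exact dvd_trans h ⟨3 * 2 ^ (6 * N), by ring⟩
    · intro h
      rcases hp.dvd_mul.mp h with h | h
      · rw [e2.mp (hp.dvd_of_dvd_pow h)]; norm_num
      · rw [show 504 = 2 ^ 3 * 3 ^ 2 * 7 by norm_num] at h
        rcases hp.dvd_mul.mp h with h | h
        rcases hp.dvd_mul.mp h with h | h
        · rw [e2.mp (hp.dvd_of_dvd_pow h)]; norm_num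
        · rw [e3.mp (hp.dvd_of_dvd_pow h)]; norm_num
        · rw [e7.mp h]; norm_num
  · exact iff_of_false (no_order_pq (psl_two_seven hF) hp hq hne) (no_order_pq (ext_orders hK) hp hq hne)

end Cfsg.Agent.S3678
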