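import Cfsg.Statements.S3680
import Cfsg.Agent.EqLemmas
import Cfsg.Agent.Lib.Perm.Centralizer
import Cfsg.Agent.Lib.Solvable.Basic
import Cfsg.Agent.Lib.CharSimple.Basic

set_option autoImplicit false
open Cfsg

namespace Cfsg.Agent.S3680

open MulAction

/-- A non-abelian minimal normal subgroup is a power of a non-abelian simple group. -/
theorem exists_pi {G : Type*} [Group G] [Finite G] (M : Subgroup G) [hM : M.Normal] (h0 : M ≠ ⊥)
    (hmin : ∀ L : Subgroup G, L.Normal → L ≤ M → L = ⊥ ∨ L = M) (hnab : ¬ IsMulCommutative M) :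
    ∃ (T : Type) (_ : Group T) (m : ℕ), 1 ≤ m ∧ IsSimpleGroup T ∧ ¬ IsMulCommutative T ∧ Nonempty (M ≃* (Fin m → T)) := by
  haveI : Nontrivial M := (Subgroup.nontrivial_iff_ne_bot M).2 h0
  obtain ⟨S, hS, hSs, m, hm, ⟨e⟩⟩ := CharSimple.exists_pi_simple (G := M) fun H hH => by
    haveI : (H.map M.subtype).Normal := inferInstance
    rcases hmin _ inferInstance (Subgroup.map_subtype_le H) with h | h
    · exact Or.inl ((Subgroup.map_eq_bot_iff_of_injective H M.subtype_injective).1 h)
    · refine Or.inr (eq_top_iff.2 fun x _ => ?_)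
      obtain ⟨y, hy, hyx⟩ := h.ge x.2
      rwa [← Subtype.ext hyx]
  refine ⟨S, hS, m, hm, hSs, fun hab => hnab ⟨⟨fun a b => e.injective ?_⟩⟩, ⟨e⟩⟩
  rw [map_mul, map_mul]
  exact funext fun i => hab.is_comm.comm _ _


/-- The socle of a finite primitive permutation group. Let a finite group G act faithfully and primitively on a set Ω, and let N be the subgroup generated by the minimal normal subgroups of G. Then either N is an elementary abelian p-group for some prime p and acts regularly on Ω (transitively with trivial point stabilizers), or N is isomorphic to a direct product of m ≥ 1 copies of a non-abelian simple group. -/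
theorem result {G Ω : Type*} [Group G] [Finite G] [MulAction G Ω] [FaithfulSMul G Ω] [Finite Ω]
    (hprim : MulAction.IsPreprimitive G Ω) (N : Subgroup G)
    (hN : N = sSup {V : Subgroup G | V.Normal ∧ V ≠ ⊥ ∧ ∀ M : Subgroup G, M.Normal → M ≤ V → M = ⊥ ∨ M = V}) :
    (∃ p : ℕ, p.Prime ∧ IsMulCommutative N ∧ (∀ x : N, x ^ p = 1) ∧
      MulAction.IsPretransitive N Ω ∧ ∀ ω : Ω, MulAction.stabilizer N ω = ⊥) ∨
    (∃ (T : Type) (_ : Group T) (m : ℕ), 1 ≤ m ∧ IsSimpleGroup T ∧ ¬ IsMulCommutative T ∧ Nonempty (N ≃* (Fin m → T))) := by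
  classical
  haveI := hprim
  set S := {V : Subgroup G | V.Normal ∧ V ≠ ⊥ ∧ ∀ M : Subgroup G, M.Normal → M ≤ V → M = ⊥ ∨ M = V} with hS
  rcases subsingleton_or_nontrivial G with hG | hG
  · left
    refine ⟨2, Nat.prime_two, ⟨⟨fun a b => Subsingleton.elim _ _⟩⟩, fun x => Subsingleton.elim _ _, ?_, fun ω => Subsingleton.elim _ _⟩
    refine ⟨fun x y => ?_⟩
    obtain ⟨g, hg⟩ := exists_smul_eq G x y
    exact ⟨1, by rw [← hg, Subsingleton.elim g 1]; rfl⟩
  obtain ⟨M, hMn, hM0, -, hMmin⟩ := Solvable.exists_minimal_normal (G := G) (N := ⊤) top_ne_bot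
  haveI := hMn
  have hMS : M ∈ S := ⟨hMn, hM0, hMmin⟩
  have hΩ : Nonempty Ω := by
    by_contra h
    rw [not_nonempty_iff] at h
    obtain ⟨g, hg⟩ := exists_ne (1 : G)
    exact hg (FaithfulSMul.eq_of_smul_eq_smul (α := Ω) fun x => isEmptyElim x)
  obtain ⟨a⟩ := hΩ
  have htrans : ∀ V ∈ S, IsPretransitive V Ω := fun V hV => by
    haveI := hV.1
    exact Perm.isPretransitive_of_normal_ne_bot hV.2.1
  have hcommute : ∀ V ∈ S, ∀ W ∈ S, V ≠ W → Disjoint V W ∧ ∀ x ∈ V, ∀ y ∈ W, Commute x y := fun V hV W hW h => by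
    haveI := hV.1; haveI := hW.1
    exact Perm.commute_of_minimal_normal hV.2.2 hW.2.2 h
  by_cases hab : ∃ V ∈ S, IsMulCommutative V
  · -- an abelian minimal normal subgroup is unique and regular
    obtain ⟨V, hV, hVab⟩ := hab
    haveI := hV.1
    haveI := hVab
    have hsol : Group.IsSolvable V := Group.isSolvable_of_comm fun x y => hVab.is_comm.comm x y
    obtain ⟨-, p, hp, -, hexp⟩ := Solvable.elementaryAbelian_of_minimal_normal V hV.2.1 hV.2.2
    have hall : ∀ W ∈ S, W = V := fun W hW => by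
      by_contra hne
      obtain ⟨hd, hc⟩ := hcommute V hV W hW (Ne.symm hne)
      obtain ⟨w, hw, hw1⟩ : ∃ w ∈ W, w ≠ 1 := (Subgroup.bot_or_exists_ne_one W).resolve_left hW.2.1
      obtain ⟨v, hv⟩ := (htrans V hV).exists_smul_eq a (w • a)
      set C := Subgroup.centralizer (V : Set G) with hC
      have hst := Perm.stabilizer_eq_bot_of_commute_of_transitive (G := G) (X := Ω) (M := V) (C := C) (htrans V hV)
        (fun x hx y hy => hy x hx) a
      have hvC : (v : G) ∈ C := fun z hz => congrArg Subtype.val (hVab.is_comm.comm (⟨z, hz⟩ : V) v)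
      have hwC : w ∈ C := fun z hz => (hc z hz w hw).eq
      have hmem : (⟨(v : G)⁻¹ * w, C.mul_mem (C.inv_mem hvC) hwC⟩ : C) ∈ stabilizer C a := by
        rw [mem_stabilizer_iff]
        change ((v : G)⁻¹ * w) • a = a
        rw [mul_smul, inv_smul_eq_iff]
        exact hv.symm
      rw [hst, Subgroup.mem_bot] at hmem
      have hvw := inv_mul_eq_one.mp (congrArg Subtype.val hmem)
      exact hw1 (Subgroup.mem_bot.mp (hd.le_bot ⟨hvw ▸ v.2, hw⟩))
    have hN' : N = V := by
      rw [hN]
      exact le_antisymm (sSup_le fun W hW => (hall W hW).le) (le_sSup hV)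
    subst hN'
    exact Or.inl ⟨p, hp, hVab, fun x => Subtype.ext (by simpa using hexp x x.2), htrans N hV,
      fun ω => Perm.stabilizer_eq_bot_of_isMulCommutative (htrans N hV) hVab ω⟩
  push Not at hab
  right
  obtain ⟨T, hT, m, hm, hTs, hTna, ⟨e⟩⟩ := exists_pi M hM0 hMmin (hab M hMS)
  by_cases huniq : ∀ W ∈ S, W = M
  · have hN' : N = M := by
      rw [hN]
      exact le_antisymm (sSup_le fun W hW => (huniq W hW).le) (le_sSup hMS)
    subst hN'
    exact ⟨T, hT, m, hm, hTs, hTna, ⟨e⟩⟩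
  push Not at huniq
  obtain ⟨K, hKS, hKM⟩ := huniq
  obtain ⟨hd, hc⟩ := hcommute M hMS K hKS (Ne.symm hKM)
  haveI := hKS.1
  haveI := htrans M hMS
  haveI := htrans K hKS
  have hKreg : ∀ x : Ω, stabilizer K x = ⊥ := fun x =>
    Perm.stabilizer_eq_bot_of_commute_of_transitive (htrans M hMS) hc x
  have hMreg : ∀ x : Ω, stabilizer M x = ⊥ := fun x =>
    Perm.stabilizer_eq_bot_of_commute_of_transitive (htrans K hKS) (fun x hx y hy => (hc y hy x hx).symm) x
  -- every other minimal normal subgroup lies in the centralizer of `M`, which is `K`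
  have hall : ∀ W ∈ S, W = M ∨ W = K := fun W hW => by
    by_contra h
    push Not at h
    obtain ⟨-, hcW⟩ := hcommute M hMS W hW (Ne.symm h.1)
    set C := Subgroup.centralizer (M : Set G) with hC
    have hKC : K ≤ C := fun k hk z hz => (hc z hz k hk).eq
    have hWC : W ≤ C := fun k hk z hz => (hcW z hz k hk).eq
    have hCK : C ≤ K := fun c hc' => by
      obtain ⟨k, hk⟩ := exists_smul_eq K a (c • a)
      have hst := Perm.stabilizer_eq_bot_of_commute_of_transitive (G := G) (X := Ω) (M := M) (C := C) (htrans M hMS)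
        (fun x hx y hy => hy x hx) a
      have hmem : (⟨(k : G)⁻¹ * c, C.mul_mem (C.inv_mem (hKC k.2)) hc'⟩ : C) ∈ stabilizer C a := by
        rw [mem_stabilizer_iff]
        change ((k : G)⁻¹ * c) • a = a
        rw [mul_smul, inv_smul_eq_iff]
        exact hk.symm
      rw [hst, Subgroup.mem_bot] at hmem
      have := inv_mul_eq_one.mp (congrArg Subtype.val hmem)
      exact this ▸ k.2
    exact h.2 ((hKS.2.2 W hW.1 (hWC.trans hCK)).resolve_left hW.2.1)
  have hN' : N = M ⊔ K := by
    rw [hN]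
    refine le_antisymm (sSup_le fun W hW => ?_) (sup_le (le_sSup hMS) (le_sSup hKS))
    rcases hall W hW with rfl | rfl
    · exact le_sup_left
    · exact le_sup_right
  -- the two factors are isomorphic
  have hbij := Perm.bijective_smul_of_regular (htrans K hKS) hKreg a
  let φ : M → K := fun x => (Equiv.ofBijective _ hbij).symm ((x : G)⁻¹ • a)
  have hφ : ∀ x : M, (φ x : G) • a = (x : G)⁻¹ • a := fun x =>
    (Equiv.ofBijective _ hbij).apply_symm_apply ((x : G)⁻¹ • a)
  have hφmul : ∀ x y : M, φ (x * y) = φ x * φ y := fun x y => hbij.1 (by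
    change (φ (x * y) : G) • a = ((φ x * φ y : K) : G) • a
    rw [hφ, Subgroup.coe_mul, Subgroup.coe_mul, mul_smul, hφ, ← mul_smul,
      (hc ((y : G)⁻¹) (M.inv_mem y.2) (φ x) (φ x).2).symm.eq, mul_smul, hφ, mul_inv_rev, mul_smul])
  have hφinj : Function.Injective φ := fun x y h => by
    have h1 : (x : G)⁻¹ • a = (y : G)⁻¹ • a := by rw [← hφ x, ← hφ y, h]
    have h2 := Perm.eq_of_smul_eq_of_regular hMreg (a := a) (n := x⁻¹) (m := y⁻¹) h1
    exact inv_injective h2
  have hφsurj : Function.Surjective φ := fun k => by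
    obtain ⟨x, hx⟩ := exists_smul_eq M a ((k : G) • a)
    refine ⟨x⁻¹, hbij.1 ?_⟩
    change (φ x⁻¹ : G) • a = (k : G) • a
    rw [hφ, Subgroup.coe_inv, inv_inv]
    exact hx
  let eK : M ≃* K := MulEquiv.ofBijective (MonoidHom.mk' φ hφmul) ⟨hφinj, hφsurj⟩
  let μ : M × K →* G := M.subtype.noncommCoprod K.subtype fun x y => hc x x.2 y y.2
  have hμinj : Function.Injective μ := by
    rw [injective_iff_map_eq_one]
    rintro ⟨x, y⟩ h
    have h' : (x : G) * (y : G) = 1 := h
    have hy : (y : G) ∈ M := by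
      rw [eq_inv_of_mul_eq_one_right h']; exact M.inv_mem x.2
    have hy1 : (y : G) = 1 := Subgroup.mem_bot.mp (hd.le_bot ⟨hy, y.2⟩)
    rw [hy1, mul_one] at h'
    exact Prod.ext (Subtype.ext h') (Subtype.ext hy1)
  have hμrange : μ.range = N := by
    rw [hN']
    refine (MonoidHom.noncommCoprod_range _ _ _).trans ?_
    rw [Subgroup.range_subtype, Subgroup.range_subtype]
  let e1 : N ≃* M × K := ((MonoidHom.ofInjective hμinj).trans (MulEquiv.subgroupCongr hμrange)).symm
  let e2 : M × K ≃* (Fin m → T) × (Fin m → T) := e.prodCongr (eK.symm.trans e)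
  let e3 : (Fin m → T) × (Fin m → T) ≃* (Fin (m + m) → T) :=
    { (Equiv.sumArrowEquivProdArrow (Fin m) (Fin m) T).symm.trans (finSumFinEquiv.arrowCongr (Equiv.refl T)) with
      map_mul' := fun x y => funext fun i => by
        change Sum.elim (x * y).1 (x * y).2 (finSumFinEquiv.symm i) =
          Sum.elim x.1 x.2 (finSumFinEquiv.symm i) * Sum.elim y.1 y.2 (finSumFinEquiv.symm i)
        cases finSumFinEquiv.symm i <;> rfl }
  exact ⟨T, hT, m + m, by omega, hTs, hTna, ⟨(e1.trans e2).trans e3⟩⟩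

end Cfsg.Agent.S3680
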