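import Cfsg.Statements.S3681
import Cfsg.Agent.EqLemmas

set_option autoImplicit false
open Cfsg

namespace Cfsg.Agent.S3681

open Equiv

theorem commutator_isThreeCycle {Ω : Type*} [DecidableEq Ω] [Fintype Ω] (g h : Perm Ω) (x : Ω)
    (hg : g x ≠ x) (hh : h x ≠ x) (hd : ∀ y, g y ≠ y → h y ≠ y → y = x) :
    Equiv.Perm.IsThreeCycle (g * h * g⁻¹ * h⁻¹) := by
  have hga : h (g x) = g x := by
    by_contra hc
    exact hg (hd _ (fun e => hg (g.injective e)) hc)
  have hgb : g (h x) = h x := by
    by_contra hc
    exact hh (hd _ hc (fun e => hh (h.injective e)))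
  have hab : g x ≠ h x := fun e => hh (by
    have := hd (g x) (fun e' => hg (g.injective e')) (fun e' => hh (h.injective (e ▸ e')))
    exact absurd this hg)
  -- points moved by `h` other than `x` are fixed by `g`, and conversely
  have gfix : ∀ y, y ≠ x → h y ≠ y → g y = y := fun y hy hhy => by
    by_contra hc
    exact hy (hd _ hc hhy)
  have hfix : ∀ y, y ≠ x → g y ≠ y → h y = y := fun y hy hgy => by
    by_contra hc
    exact hy (hd _ hgy hc)
  have key : g * h * g⁻¹ * h⁻¹ = Equiv.swap x (h x) * Equiv.swap x (g x) := by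
    ext y
    simp only [Perm.mul_apply]
    by_cases h1 : y = x
    · subst h1
      set z := h⁻¹ y with hz
      have e : h z = y := by simp [hz]
      have zy : z ≠ y := fun e' => hh (by rw [e'] at e; exact e)
      have gz : g z = z := gfix z zy (by rw [e]; exact zy.symm)
      rw [show g⁻¹ z = z from by rw [Perm.inv_eq_iff_eq]; exact gz.symm, e]
      simp [Equiv.swap_apply_of_ne_of_ne hg hab]
    by_cases h2 : y = g x
    · subst h2
      rw [show h⁻¹ (g x) = g x from by rw [Perm.inv_eq_iff_eq]; exact hga.symm,
        show g⁻¹ (g x) = x by simp, hgb]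
      simp
    by_cases h3 : y = h x
    · subst h3
      rw [show h⁻¹ (h x) = x by simp]
      set z := g⁻¹ x with hz
      have e : g z = x := by simp [hz]
      have zy : z ≠ x := fun e' => hg (by rw [e'] at e; exact e)
      rw [hfix z zy (by rw [e]; exact zy.symm), e]
      simp [Equiv.swap_apply_of_ne_of_ne hh (Ne.symm hab)]
    rw [Equiv.swap_apply_of_ne_of_ne h1 h2, Equiv.swap_apply_of_ne_of_ne h1 h3]
    by_cases hy : h y = y
    · rw [show h⁻¹ y = y from by rw [Perm.inv_eq_iff_eq]; exact hy.symm]
      set w := g⁻¹ y with hw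
      have e : g w = y := by simp [hw]
      have wx : w ≠ x := fun e' => h2 (by rw [← e, e'])
      by_cases hwy : w = y
      · rw [hwy, hy]; rw [hwy] at e; exact e
      · rw [hfix w wx (by rw [e]; exact Ne.symm hwy), e]
    · set z := h⁻¹ y with hz
      have e : h z = y := by simp [hz]
      have zx : z ≠ x := fun e' => h3 (by rw [← e, e'])
      have gz : g z = z := gfix z zx (by
        intro e'; rw [e] at e'; exact hy (by rw [← e'] at e; exact e))
      rw [show g⁻¹ z = z from by rw [Perm.inv_eq_iff_eq]; exact gz.symm, e]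
      exact gfix y h1 hy
  rw [key]
  exact Perm.isThreeCycle_swap_mul_swap_same (Ne.symm hh) (Ne.symm hg) (Ne.symm hab)


/-- Bochert's bound for primitive groups. Let a finite group G act faithfully and primitively on a finite set Ω with n elements, and suppose the image of G in the symmetric group of Ω does not contain the alternating group of Ω. Then |G| · ⌊(n + 1)/2⌋! ≤ n!, that is, the index of G in the symmetric group is at least ⌊(n + 1)/2⌋!. -/
theorem result {G Ω : Type*} [Group G] [Finite G] [MulAction G Ω] [FaithfulSMul G Ω] [Fintype Ω] [DecidableEq Ω]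
    (hprim : MulAction.IsPreprimitive G Ω) (hA : ¬ alternatingGroup Ω ≤ (MulAction.toPermHom G Ω).range) :
    Nat.card G * Nat.factorial ((Fintype.card Ω + 1) / 2) ≤ Nat.factorial (Fintype.card Ω) := by
  classical
  set H := (MulAction.toPermHom G Ω).range with hH
  have hinj : Function.Injective (MulAction.toPermHom G Ω) := MulAction.toPerm_injective
  have hcard : Nat.card G = Nat.card H :=
    Nat.card_congr (MonoidHom.ofInjective hinj).toEquiv
  have hprimH : MulAction.IsPreprimitive H Ω := by
    haveI := hprim
    exact MulAction.IsPreprimitive.of_surjective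
      (f := ({ toFun := id, map_smul' := fun g x => rfl } :
        Ω →ₑ[(fun g : G => (MulAction.toPermHom G Ω).rangeRestrict g)] Ω))
      Function.surjective_id
  let base : Finset Ω → Prop := fun s => ∀ g ∈ H, (∀ x ∈ s, g x = x) → g = 1
  have hne : (Finset.univ.filter base).Nonempty := ⟨Finset.univ, by
    rw [Finset.mem_filter]
    exact ⟨Finset.mem_univ _, fun g _ hg => Equiv.ext fun x => hg x (Finset.mem_univ x)⟩⟩
  obtain ⟨s, hs, hmin⟩ := Finset.exists_min_image (Finset.univ.filter base) Finset.card hne
  rw [Finset.mem_filter] at hs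
  have hsmall : 2 * s.card ≤ Fintype.card Ω := by
    by_contra hc
    have hnb : ¬ base sᶜ := fun hb => by
      have := hmin sᶜ (Finset.mem_filter.mpr ⟨Finset.mem_univ _, hb⟩)
      rw [Finset.card_compl] at this
      omega
    simp only [base] at hnb
    push Not at hnb
    obtain ⟨g, hg, hgfix, hg1⟩ := hnb
    have : ∃ x, g x ≠ x := by
      by_contra hh; push Not at hh; exact hg1 (Equiv.ext hh)
    obtain ⟨x, hx⟩ := this
    have hxs : x ∈ s := by
      by_contra hh; exact hx (hgfix x (Finset.mem_compl.mpr hh))
    have hnb2 : ¬ base (s.erase x) := fun hb => by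
      have := hmin _ (Finset.mem_filter.mpr ⟨Finset.mem_univ _, hb⟩)
      have := Finset.card_erase_lt_of_mem hxs
      omega
    simp only [base] at hnb2
    push Not at hnb2
    obtain ⟨h, hh, hhfix, hh1⟩ := hnb2
    have hhx : h x ≠ x := fun e => hh1 (hs.2 h hh fun y hy => by
      by_cases hyx : y = x
      · rw [hyx]; exact e
      · exact hhfix y (Finset.mem_erase.mpr ⟨hyx, hy⟩))
    refine hA (Equiv.Perm.alternatingGroup_le_of_isPreprimitive_of_isThreeCycle_mem hprimH
      (commutator_isThreeCycle g h x hx hhx ?_)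
      (H.mul_mem (H.mul_mem (H.mul_mem hg hh) (H.inv_mem hg)) (H.inv_mem hh)))
    intro y hy hy'
    by_contra hyx
    have hys : y ∈ s := by
      by_contra hys; exact hy (hgfix y (Finset.mem_compl.mpr hys))
    exact hy' (hhfix y (Finset.mem_erase.mpr ⟨hyx, hys⟩))
  let f : H × Equiv.Perm {x // x ∉ s} → Equiv.Perm Ω := fun p => (p.1 : Equiv.Perm Ω) * Equiv.Perm.ofSubtype p.2
  have finj : Function.Injective f := by
    rintro ⟨a, σ⟩ ⟨b, τ⟩ e
    simp only [f] at e
    have key : (b : Equiv.Perm Ω)⁻¹ * a = 1 := hs.2 _ (H.mul_mem (H.inv_mem b.2) a.2) fun y hy => by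
      have e' := congrArg (fun π : Equiv.Perm Ω => π y) e
      simp only [Equiv.Perm.mul_apply] at e'
      rw [Equiv.Perm.ofSubtype_apply_of_not_mem σ (not_not.mpr hy),
        Equiv.Perm.ofSubtype_apply_of_not_mem τ (not_not.mpr hy)] at e'
      rw [Equiv.Perm.mul_apply, e']
      simp
    have hab : a = b := Subtype.ext (inv_mul_eq_one.mp key).symm
    subst hab
    rw [Equiv.Perm.ofSubtype_injective (mul_left_cancel e)]
  have h1 := Nat.card_le_card_of_injective f finj
  rw [Nat.card_prod, Nat.card_perm, Nat.card_perm, ← hcard, Nat.card_eq_fintype_card (α := Ω)] at h1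
  refine le_trans (Nat.mul_le_mul_left _ (Nat.factorial_le ?_)) h1
  rw [Nat.card_eq_fintype_card, Fintype.card_subtype_compl, Fintype.card_coe]
  omega

end Cfsg.Agent.S3681
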