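import Cfsg.Statements.S3682
import Cfsg.Agent.Lib.ThompsonWielandt.Suborbit
import Cfsg.Agent.EqLemmas

set_option autoImplicit false
open Cfsg

namespace Cfsg.Agent.S3682

/-- Wielandt's bound toward the Sims conjecture. Let a finite group G act faithfully and primitively on a set Ω, let a and b be points, and suppose the orbit of b under the stabilizer of a has length d ≥ 2. Then there are a prime p and a normal p-subgroup P of the stabilizer of a, all of whose elements fix b, such that the index of P in the stabilizer of a divides d! · ((d - 1)!)^d. -/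
theorem result {G Ω : Type*} [Group G] [Finite G] [MulAction G Ω] [FaithfulSMul G Ω] [Finite Ω]
    (hprim : MulAction.IsPreprimitive G Ω) (a b : Ω) (d : ℕ) (hd : Nat.card (MulAction.orbit (MulAction.stabilizer G a) b) = d) (h2 : 2 ≤ d) :
    ∃ p : ℕ, p.Prime ∧ ∃ P : Subgroup (MulAction.stabilizer G a), P.Normal ∧ IsPGroup p P ∧ (∀ g : P, ((g : MulAction.stabilizer G a) : G) • b = b) ∧
      P.index ∣ Nat.factorial d * (Nat.factorial (d - 1)) ^ d := by
  haveI := hprim.toIsPretransitive
  have hab := ThompsonWielandt.ne_of_two_le hd h2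
  have hP := ThompsonWielandt.Pair.of_primitive hprim hab
  set M := MulAction.stabilizer G a with hM
  set N := MulAction.stabilizer G b with hN
  by_cases hbot : ThompsonWielandt.coreTwo M N = ⊥ ∨ ThompsonWielandt.coreTwo N M = ⊥
  · refine ⟨2, Nat.prime_two, ⊥, inferInstance, IsPGroup.of_bot, fun g => ?_, ?_⟩
    · rw [Subgroup.mem_bot.mp g.2, Subgroup.coe_one, one_smul]
    · rw [Subgroup.index_bot]
      exact ThompsonWielandt.card_dvd_of_coreTwo_eq_bot hd hbot
  rw [not_or] at hbot
  obtain ⟨p, hp, hpg, -⟩ := hP.exists_prime hbot.1 hbot.2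
  have hle : ThompsonWielandt.coreTwo M N ≤ M := ThompsonWielandt.relCore_le_left _ _
  refine ⟨p, hp, (ThompsonWielandt.coreTwo M N).subgroupOf M,
    Subgroup.normal_subgroupOf_of_le_normalizer (ThompsonWielandt.le_normalizer_relCore _ _),
    (hpg.to_le le_sup_left).of_equiv (Subgroup.subgroupOfEquivOfLe hle).symm, fun g => ?_,
    ThompsonWielandt.relIndex_coreTwo_dvd_bound hd⟩
  exact MulAction.mem_stabilizer_iff.mp (ThompsonWielandt.coreOne_le_right M N
    ((ThompsonWielandt.coreTwo_le M N).trans inf_le_left (Subgroup.mem_subgroupOf.mp g.2)))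

end Cfsg.Agent.S3682
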