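import Cfsg.Statements.S3683
import Cfsg.Agent.EqLemmas

set_option autoImplicit false
open Cfsg

namespace Cfsg.Agent.S3683

/-- Let a finite group G act faithfully and primitively on a set Ω, and suppose the stabilizer of a point a fixes a second point b ≠ a (a suborbit of length 1 other than {a}). Then the stabilizer of a is trivial and G is cyclic of prime order. -/
theorem result {G Ω : Type*} [Group G] [Finite G] [MulAction G Ω] [FaithfulSMul G Ω] [Finite Ω]
    (hprim : MulAction.IsPreprimitive G Ω) (a b : Ω) (hab : a ≠ b) (hfix : ∀ g : G, g • a = a → g • b = b) :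
    MulAction.stabilizer G a = ⊥ ∧ IsCyclic G ∧ (Nat.card G).Prime := by
  haveI := hprim
  haveI : Nontrivial Ω := ⟨⟨a, b, hab⟩⟩
  have hA := MulAction.IsPreprimitive.isCoatom_stabilizer_of_isPreprimitive (G := G) a
  have hB := MulAction.IsPreprimitive.isCoatom_stabilizer_of_isPreprimitive (G := G) b
  have hle : MulAction.stabilizer G a ≤ MulAction.stabilizer G b := fun g hg => hfix g hg
  have heq : MulAction.stabilizer G a = MulAction.stabilizer G b := by
    rcases eq_or_lt_of_le hle with h | h
    · exact h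
    · exact absurd (hA.2 _ h) hB.1
  obtain ⟨h, hh⟩ := MulAction.exists_smul_eq G a b
  have hn : h ∈ Subgroup.normalizer (MulAction.stabilizer G a : Set G) := by
    rw [Subgroup.mem_normalizer_iff]
    intro g
    change g ∈ MulAction.stabilizer G a ↔ h * g * h⁻¹ ∈ MulAction.stabilizer G a
    conv_rhs => rw [heq, MulAction.mem_stabilizer_iff, ← hh]
    rw [MulAction.mem_stabilizer_iff, mul_smul, mul_smul, inv_smul_smul, smul_left_cancel_iff]
  have hnot : h ∉ MulAction.stabilizer G a := fun e => hab (by rw [← hh]; exact e.symm)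
  have htop : Subgroup.normalizer (MulAction.stabilizer G a : Set G) = ⊤ :=
    hA.2 _ (lt_of_le_of_ne Subgroup.le_normalizer (fun e => hnot (e ▸ hn)))
  haveI hnorm : (MulAction.stabilizer G a).Normal := Subgroup.normalizer_eq_top_iff.mp htop
  have hbot : MulAction.stabilizer G a = ⊥ := by
    refine (Subgroup.eq_bot_iff_forall _).mpr fun g hg => FaithfulSMul.eq_of_smul_eq_smul (α := Ω) fun x => ?_
    obtain ⟨k, rfl⟩ := MulAction.exists_smul_eq G a x
    have := hnorm.conj_mem g hg k⁻¹
    rw [MulAction.mem_stabilizer_iff, inv_inv, mul_smul, mul_smul, inv_smul_eq_iff] at this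
    rw [this, one_smul]
  rw [hbot] at hA
  have hsimple : ∀ g : G, g ≠ 1 → Subgroup.zpowers g = ⊤ := fun g hg =>
    hA.2 _ (bot_lt_iff_ne_bot.mpr (by simpa [Subgroup.zpowers_eq_bot] using hg))
  have hh1 : h ≠ 1 := fun e => hnot (by rw [e]; exact one_mem _)
  refine ⟨hbot, ⟨⟨h, fun g => Subgroup.mem_zpowers_iff.mp (by rw [hsimple h hh1]; exact Subgroup.mem_top g)⟩⟩, ?_⟩
  haveI : Nontrivial G := ⟨⟨h, 1, hh1⟩⟩
  obtain ⟨p, hp, hpd⟩ := Nat.exists_prime_and_dvd (n := Nat.card G) (Finite.one_lt_card (α := G)).ne'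
  haveI := Fact.mk hp
  obtain ⟨g, hg⟩ := exists_prime_orderOf_dvd_card' p hpd
  have : g ≠ 1 := fun e => by rw [e, orderOf_one] at hg; exact hp.one_lt.ne hg
  rw [← Subgroup.card_top, ← hsimple g this, Nat.card_zpowers, hg]
  exact hp

end Cfsg.Agent.S3683
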