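import Cfsg.Statements.S3684
import Cfsg.Agent.EqLemmas
import Cfsg.Agent.Lib.Involution.Basic
import Cfsg.Agent.Lib.Perm.Regular

set_option autoImplicit false
open Cfsg

namespace Cfsg.Agent.S3684

/-- Let a finite group G act faithfully and primitively on a set Ω, and suppose the stabilizer of a point a has an orbit of length 2. Then the stabilizer of a has order 2 and G is isomorphic to the dihedral group of order 2p for some prime p. -/
theorem result {G Ω : Type*} [Group G] [Finite G] [MulAction G Ω] [FaithfulSMul G Ω] [Finite Ω]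
    (hprim : MulAction.IsPreprimitive G Ω) (a b : Ω) (h2 : Nat.card (MulAction.orbit (MulAction.stabilizer G a) b) = 2) :
    Nat.card (MulAction.stabilizer G a) = 2 ∧ ∃ p : ℕ, p.Prime ∧ Nonempty (G ≃* DihedralGroup p) := by
  classical
  haveI := hprim
  have hΩ : Nontrivial Ω := by
    by_contra h
    rw [not_nontrivial_iff_subsingleton] at h
    have : Nat.card (MulAction.orbit (MulAction.stabilizer G a) b) ≤ 1 := Finite.card_le_one_iff_subsingleton.mpr inferInstance
    omega
  have hA := MulAction.IsPreprimitive.isCoatom_stabilizer_of_isPreprimitive (G := G) a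
  have hB := MulAction.IsPreprimitive.isCoatom_stabilizer_of_isPreprimitive (G := G) b
  set A := MulAction.stabilizer G a with hAdef
  set B := MulAction.stabilizer G b with hBdef
  set K := A ⊓ B with hKdef
  have hcardAB : Nat.card A = Nat.card B :=
    Nat.card_congr (MulAction.stabilizerEquivStabilizerOfOrbitRel (MulAction.orbitRel_apply.mpr
      (by rw [MulAction.mem_orbit_iff]; exact MulAction.exists_smul_eq G b a))).toEquiv
  have hK : Nat.card A = 2 * Nat.card K := by
    rw [← h2, Nat.card_congr (MulAction.orbitEquivQuotientStabilizer A b),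
      Subgroup.card_eq_card_quotient_mul_card_subgroup (MulAction.stabilizer A b)]
    congr 1
    rw [Nat.card_congr (Subgroup.equivMapOfInjective (MulAction.stabilizer A b) A.subtype A.subtype_injective).toEquiv]
    congr 2
    ext g
    simp [Subgroup.mem_map, hKdef, hBdef]
    exact ⟨fun ⟨h1, h2⟩ => ⟨h2, h1⟩, fun ⟨h1, h2⟩ => ⟨h2, h1⟩⟩
  have hnorm : ∀ C : Subgroup G, K ≤ C → Nat.card C = 2 * Nat.card K → C ≤ Subgroup.normalizer (K : Set G) := by
    intro C hKC hC
    have hidx : (K.subgroupOf C).index = 2 := by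
      have := (K.subgroupOf C).index_mul_card
      rw [Nat.card_congr (Subgroup.subgroupOfEquivOfLe hKC).toEquiv, hC] at this
      exact Nat.eq_of_mul_eq_mul_right Nat.card_pos this
    exact (Subgroup.normal_subgroupOf_iff_le_normalizer hKC).mp (Subgroup.normal_of_index_eq_two hidx)
  have hnle : A ≠ B := fun e => by
    have : MulAction.orbit A b = {b} := by
      ext x
      simp only [MulAction.mem_orbit_iff, Set.mem_singleton_iff]
      constructor
      · rintro ⟨g, rfl⟩
        have hg : (g : G) ∈ B := e ▸ g.2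
        exact hg
      · rintro rfl; exact ⟨1, one_smul _ _⟩
    rw [this] at h2
    simp at h2
  have hKnormal : K.Normal := by
    rw [← Subgroup.normalizer_eq_top_iff]
    by_contra hne
    have h1 : A ≤ Subgroup.normalizer (K : Set G) := hnorm A inf_le_left hK
    have h2' : B ≤ Subgroup.normalizer (K : Set G) := hnorm B inf_le_right (hcardAB ▸ hK)
    exact hnle ((hA.le_iff_eq hne).mp h1 ▸ (hB.le_iff_eq hne).mp h2')
  have hKbot : K = ⊥ := by
    by_contra hne
    haveI := Perm.isPretransitive_of_normal_ne_bot (G := G) (X := Ω) hne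
    obtain ⟨c, hc⟩ := exists_ne a
    obtain ⟨k, hk⟩ := MulAction.exists_smul_eq K a c
    exact hc (hk ▸ (k.2.1 : (k : G) • a = a))
  have hA2 : Nat.card A = 2 := by rw [hK, hKbot, Subgroup.card_bot]
  refine ⟨hA2, ?_⟩
  obtain ⟨s, hs⟩ := exists_prime_orderOf_dvd_card' (G := A) 2 (by rw [hA2])
  obtain ⟨t, ht⟩ := exists_prime_orderOf_dvd_card' (G := B) 2 (by rw [← hcardAB, hA2])
  have hs' : orderOf (s : G) = 2 := by rw [Subgroup.orderOf_coe]; exact hs
  have ht' : orderOf (t : G) = 2 := by rw [Subgroup.orderOf_coe]; exact ht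
  have hsA : A = Subgroup.zpowers (s : G) :=
    (Subgroup.eq_of_le_of_card_ge (Subgroup.zpowers_le.mpr s.2) (by rw [Nat.card_zpowers, hs', hA2])).symm
  have htB : B = Subgroup.zpowers (t : G) :=
    (Subgroup.eq_of_le_of_card_ge (Subgroup.zpowers_le.mpr t.2) (by rw [Nat.card_zpowers, ht', ← hcardAB, hA2])).symm
  have hst : (s : G) ≠ t := fun e => hnle (by rw [hsA, htB, e])
  have htop : Subgroup.closure ({(s : G), (t : G)} : Set G) = ⊤ := by
    refine hA.2 _ (lt_of_le_of_ne ?_ ?_)
    · exact hsA.le.trans (Subgroup.zpowers_le.mpr (Subgroup.subset_closure (Set.mem_insert _ _)))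
    · intro e
      have hh : B ≤ A := by
        exact (htB.le.trans (Subgroup.zpowers_le.mpr (show (t : G) ∈ Subgroup.closure ({(s : G), (t : G)} : Set G) from Subgroup.subset_closure (Set.mem_insert_of_mem _ (Set.mem_singleton _))))).trans e.ge
      exact hnle (Subgroup.eq_of_le_of_card_ge hh hcardAB.le).symm
  obtain ⟨e, -, -⟩ := Involution.card_closure_pair hs' ht' hst
  set n := orderOf ((s : G) * t) with hn
  let E : G ≃* DihedralGroup n :=
    (Subgroup.topEquiv.symm.trans (MulEquiv.subgroupCongr htop.symm)).trans e.symm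
  have hG : Nat.card G = 2 * n := by rw [Nat.card_congr E.toEquiv, DihedralGroup.nat_card]
  have hΩcard : Nat.card Ω = n := by
    have hi := Subgroup.index_mul_card A
    rw [MulAction.index_stabilizer_of_transitive, hA2, hG] at hi
    omega
  have hn1 : n ≠ 1 := fun e1 => by
    rw [← hΩcard] at e1
    exact absurd e1 (Finite.one_lt_card (α := Ω)).ne'
  obtain ⟨p, hp, hpn⟩ := Nat.exists_prime_and_dvd hn1
  refine ⟨n, ?_, ⟨E⟩⟩
  set r := ((s : G) * t) ^ (n / p) with hr
  have hrp : orderOf r = p := by
    rw [hr, orderOf_pow_of_dvd (Nat.div_pos (Nat.le_of_dvd (orderOf_pos _) hpn) hp.pos).ne' (Nat.div_dvd_of_dvd hpn),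
      Nat.div_div_self hpn (orderOf_pos _).ne']
  have hconj : ∀ g : G, g * r * g⁻¹ ∈ Subgroup.zpowers r := by
    intro g
    have hg : g ∈ Subgroup.closure ({(s : G), (t : G)} : Set G) := htop ▸ Subgroup.mem_top g
    obtain ⟨k, hk⟩ := (Involution.mem_closure_pair_iff hs' ht').mp hg
    have hc : Commute (((s : G) * t) ^ k) r := by
      rw [hr, ← zpow_natCast]; exact (Commute.refl _).zpow_zpow _ _
    rcases hk with rfl | rfl
    · rw [hc.eq, mul_inv_cancel_right]; exact Subgroup.mem_zpowers _
    · rw [show (s : G) * ((s : G) * t) ^ k * r * ((s : G) * ((s : G) * t) ^ k)⁻¹ = (s : G) * r * (s : G)⁻¹ by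
        rw [mul_inv_rev, mul_assoc (s : G) (((s : G) * t) ^ k), hc.eq]; group, hr,
        Involution.inverts_pow (Involution.inverts_mul_left hs' ht') (n / p)]
      exact Subgroup.inv_mem _ (Subgroup.mem_zpowers _)
  haveI : (Subgroup.zpowers r).Normal := ⟨fun x hx g => by
    obtain ⟨k, rfl⟩ := Subgroup.mem_zpowers_iff.mp hx
    rw [← conj_zpow]; exact Subgroup.zpow_mem _ (hconj g) k⟩
  haveI := Perm.isPretransitive_of_normal_ne_bot (G := G) (X := Ω) (N := Subgroup.zpowers r)
    (by rw [Ne, Subgroup.zpowers_eq_bot]; intro e1; rw [e1, orderOf_one] at hrp; exact hp.one_lt.ne hrp)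
  have hle : n ≤ p := by
    rw [← hΩcard, ← hrp, ← Nat.card_zpowers]
    exact Nat.card_le_card_of_surjective (fun x : Subgroup.zpowers r => x • a) (MulAction.surjective_smul _ a)
  rwa [le_antisymm hle (Nat.le_of_dvd (orderOf_pos _) hpn)]

end Cfsg.Agent.S3684
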