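import Cfsg.Statements.S3687
import Cfsg.Agent.Lib.ThompsonWielandt.AlternatingSuborbit

set_option autoImplicit false
open Cfsg

namespace Cfsg.Agent.S3687

open Cfsg.Agent.ThompsonWielandt Equiv Subgroup
open scoped Pointwise

theorem range_eq_top_or_eq_ker {m k : ℕ} (H : Subgroup (Perm (Fin m) × Perm (Fin k)))
    (hA : (alternatingGroup (Fin m)).prod (alternatingGroup (Fin k)) ≤ H)
    (h1 : ∀ σ, ∃ y ∈ H, y.1 = σ) (h2 : ∀ τ, ∃ y ∈ H, y.2 = τ) :
    H = ⊤ ∨ H = ((Equiv.Perm.sign.comp (MonoidHom.fst (Perm (Fin m)) (Perm (Fin k)))) *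
         (Equiv.Perm.sign.comp (MonoidHom.snd (Perm (Fin m)) (Perm (Fin k))))).ker := by
  have key : ∀ z y : Perm (Fin m) × Perm (Fin k), y ∈ H → Perm.sign z.1 = Perm.sign y.1 →
      Perm.sign z.2 = Perm.sign y.2 → z ∈ H := by
    intro z y hy e1 e2
    have h := hA (show y⁻¹ * z ∈ (alternatingGroup (Fin m)).prod (alternatingGroup (Fin k)) from by
      refine mem_prod.mpr ⟨?_, ?_⟩ <;> rw [Perm.mem_alternatingGroup] <;> simp [e1, e2])
    simpa using mul_mem hy h
  by_cases hodd : ∃ y ∈ H, Perm.sign y.1 ≠ Perm.sign y.2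
  · left
    obtain ⟨y, hy, hne⟩ := hodd
    refine eq_top_iff.mpr fun z _ => ?_
    obtain ⟨u, hu, e1⟩ := h1 z.1
    by_cases e2 : Perm.sign z.2 = Perm.sign u.2
    · exact key z u hu (by rw [e1]) e2
    obtain ⟨v, hv, e3⟩ := h2 z.2
    by_cases e4 : Perm.sign z.1 = Perm.sign v.1
    · exact key z v hv e4 (by rw [e3])
    have e1' := congrArg Perm.sign e1
    have e3' := congrArg Perm.sign e3
    have hc : ∀ a b c d e f : ℤˣ, a ≠ b → ¬ d = e → ¬ c = f →
        (c = a ∧ d = b) ∨ (c = 1 ∧ d = 1) ∨ (c = c * a ∧ d = e * b) ∨ (c = f * a ∧ d = d * b) ∨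
          (c = c * f ∧ d = e * d) ∨ (c = c * f * a ∧ d = e * d * b) := by decide
    rcases hc _ _ _ _ _ _ hne e2 e4 with h | h | h | h | h | h
    · exact key z y hy h.1 h.2
    · exact key z 1 (one_mem _) (by simpa using h.1) (by simpa using h.2)
    · exact key z (u * y) (mul_mem hu hy) (by simpa [e1'] using h.1) (by simpa using h.2)
    · exact key z (v * y) (mul_mem hv hy) (by simpa using h.1) (by simpa [e3'] using h.2)
    · exact key z (u * v) (mul_mem hu hv) (by simpa [e1'] using h.1) (by simpa [e3'] using h.2)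
    · exact key z (u * v * y) (mul_mem (mul_mem hu hv) hy) (by simpa [e1'] using h.1)
        (by simpa [e3'] using h.2)
  · right
    push Not at hodd
    refine le_antisymm (fun y hy => ?_) fun z hz => ?_
    · show Perm.sign y.1 * Perm.sign y.2 = 1
      rw [hodd y hy, Int.units_mul_self]
    · obtain ⟨u, hu, e1⟩ := h1 z.1
      refine key z u hu (by rw [e1]) ?_
      have h := hz
      change Perm.sign z.1 * Perm.sign z.2 = 1 at h
      rw [← hodd u hu, e1]
      rcases Int.units_eq_one_or (Perm.sign z.1) with a | a <;>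
      rcases Int.units_eq_one_or (Perm.sign z.2) with b | b <;> simp_all

/-- Let a finite group G act faithfully and primitively on a set Ω, let a and b be points such that the orbit Δ of b under the stabilizer H of a has d ≥ 6 elements, and suppose that the permutation group induced by H on Δ contains the alternating group of Δ (the image of H in the symmetric group of Δ has index at most 2) while H does not act faithfully on Δ. Then either H induces exactly the alternating group of Δ and H is isomorphic to the direct product of the alternating groups of degrees d and d - 1; or H induces the full symmetric group of Δ and H is isomorphic to one of: the direct product of the symmetric groups of degrees d and d - 1, the direct product of the symmetric group of degree d with the alternating group of degree d - 1, or the subgroup of the direct product of the symmetric groups of degrees d and d - 1 consisting of the pairs of permutations with equal signs. -/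
theorem result {G Ω : Type*} [Group G] [Finite G] [MulAction G Ω] [FaithfulSMul G Ω] [Finite Ω]
    (hprim : MulAction.IsPreprimitive G Ω) (a b : Ω) (d : ℕ) (hd : Nat.card (MulAction.orbit (MulAction.stabilizer G a) b) = d) (h6 : 6 ≤ d)
    (halt : (MulAction.toPermHom (MulAction.stabilizer G a) (MulAction.orbit (MulAction.stabilizer G a) b)).range.index ≤ 2)
    (hunf : ¬ Function.Injective (MulAction.toPermHom (MulAction.stabilizer G a) (MulAction.orbit (MulAction.stabilizer G a) b))) :
    ((MulAction.toPermHom (MulAction.stabilizer G a) (MulAction.orbit (MulAction.stabilizer G a) b)).range.index = 2 ∧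
      Nonempty (MulAction.stabilizer G a ≃* alternatingGroup (Fin d) × alternatingGroup (Fin (d - 1)))) ∨
    ((MulAction.toPermHom (MulAction.stabilizer G a) (MulAction.orbit (MulAction.stabilizer G a) b)).range = ⊤ ∧
      (Nonempty (MulAction.stabilizer G a ≃* Equiv.Perm (Fin d) × Equiv.Perm (Fin (d - 1))) ∨
       Nonempty (MulAction.stabilizer G a ≃* Equiv.Perm (Fin d) × alternatingGroup (Fin (d - 1))) ∨
       Nonempty (MulAction.stabilizer G a ≃* ((Equiv.Perm.sign.comp (MonoidHom.fst (Equiv.Perm (Fin d)) (Equiv.Perm (Fin (d - 1))))) *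
         (Equiv.Perm.sign.comp (MonoidHom.snd (Equiv.Perm (Fin d)) (Equiv.Perm (Fin (d - 1)))))).ker))) := by
  obtain ⟨n, rfl⟩ : ∃ n, d = n + 1 := ⟨d - 1, by omega⟩
  haveI := hprim.toIsPretransitive
  set M := MulAction.stabilizer G a with hM
  set N := MulAction.stabilizer G b with hN
  set f := MulAction.toPermHom M (MulAction.orbit M b) with hf
  have hle : ¬ M ≤ N := ne_of_two_le hd (by omega)
  have hne : a ≠ b := fun e => hle (by rw [hM, hN, e])
  haveI : Nontrivial Ω := ⟨⟨a, b, hne⟩⟩
  obtain ⟨g, hg⟩ := MulAction.exists_smul_eq G a b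
  have hconj : N = MulAut.conj g • M := by
    rw [hN, ← hg, MulAction.stabilizer_smul_eq_stabilizer_map_conj]
    rfl
  have hmax : IsCoatom M := (MulAction.isCoatom_stabilizer_iff_preprimitive (G := G) a).mpr hprim
  have hcore : M.normalCore = ⊥ := by
    rw [eq_bot_iff]
    intro x hx
    rw [Subgroup.mem_bot]
    refine FaithfulSMul.eq_of_smul_eq_smul fun c : Ω => ?_
    obtain ⟨k, rfl⟩ := MulAction.exists_smul_eq G a c
    have h1 : (k⁻¹ * x * k) • a = a := by
      have := hx k⁻¹
      rwa [inv_inv, hM, MulAction.mem_stabilizer_iff] at this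
    rw [one_smul]
    calc x • k • a = (k * (k⁻¹ * x * k)) • a := by rw [smul_smul]; congr 1; group
      _ = k • a := by rw [mul_smul, h1]
  obtain ⟨R⟩ := exists_rep (M := M) (N := N) (relIndex_stabilizer hd)
  -- the two actions have the same kernel
  have hker : kerIn f = coreOne M N := by
    ext x
    rw [mem_kerIn (f := f), coreOne, mem_relCore]
    constructor
    · rintro ⟨hx, e⟩
      refine ⟨hx, fun m hm => mem_inf.mpr ⟨mul_mem (mul_mem hm hx) (inv_mem hm), ?_⟩⟩
      have h1 : x • (m⁻¹ • b) = m⁻¹ • b := congrArg Subtype.val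
        (Equiv.congr_fun e ⟨m⁻¹ • b, ⟨⟨m, hm⟩⁻¹, rfl⟩⟩)
      rw [hN, MulAction.mem_stabilizer_iff, mul_smul, mul_smul, h1, smul_inv_smul]
    · rintro ⟨hx, h⟩
      refine ⟨hx, Equiv.ext fun p => Subtype.ext ?_⟩
      obtain ⟨c, ⟨m, rfl⟩⟩ := p
      show x • ((m : G) • b) = (m : G) • b
      have h1 := (mem_inf.mp (h (m : G)⁻¹ (inv_mem m.2))).2
      rw [inv_inv, hN, MulAction.mem_stabilizer_iff, mul_smul, mul_smul, inv_smul_eq_iff] at h1
      exact h1
  have hidx : R.π.range.index = f.range.index := by
    have h1 := card_range_mul R.π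
    have h2 := card_range_mul f
    rw [R.ker_eq] at h1
    rw [hker, ← h1] at h2
    have h3 := Nat.eq_of_mul_eq_mul_right Nat.card_pos h2
    have h4 := index_mul_card R.π.range
    have h5 := index_mul_card f.range
    rw [h3, Nat.card_perm, hd] at h5
    rw [Nat.card_perm, Nat.card_fin, ← h5] at h4
    exact Nat.eq_of_mul_eq_mul_right Nat.card_pos h4
  have hR : Big R.π.range := Perm.alternatingGroup_le_of_index_le_two (hidx ▸ halt)
  have hK : coreOne M N ≠ ⊥ := by
    rw [← hker, kerIn, Ne, Subgroup.map_eq_bot_iff_of_injective _ (subtype_injective M),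
      MonoidHom.ker_eq_bot_iff]
    exact hunf
  obtain ⟨φ, hinj, hA, htop, heven⟩ :=
    exists_embedding (n := n) (by omega) hmax hcore hconj (fun e => hle e.le) R hR hK
  have e : M ≃* ↥(R.π.prod φ).range := MonoidHom.ofInjective hinj
  have hlt : R.π.range.index = 1 ∨ R.π.range.index = 2 := by
    have h1 := hidx ▸ halt
    have h2 : R.π.range.index ≠ 0 := index_ne_zero_of_finite
    omega
  rcases hlt with h1 | h2
  · refine Or.inr ⟨index_eq_one.mp (hidx ▸ h1), ?_⟩
    have htop' := index_eq_one.mp h1
    rcases range_eq_top_or_eq_ker _ hA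
        (fun σ => by
          obtain ⟨m, hm⟩ := htop'.ge (Subgroup.mem_top σ)
          exact ⟨_, ⟨m, rfl⟩, hm⟩)
        (fun τ => by
          obtain ⟨m, hm⟩ := (htop htop').ge (Subgroup.mem_top τ)
          exact ⟨_, ⟨m, rfl⟩, hm⟩) with h | h
    · exact Or.inl ⟨(e.trans (MulEquiv.subgroupCongr h)).trans Subgroup.topEquiv⟩
    · exact Or.inr (Or.inr ⟨e.trans (MulEquiv.subgroupCongr h)⟩)
  · refine Or.inl ⟨hidx ▸ h2, ?_⟩
    have hπ := Perm.eq_alternatingGroup_of_index_eq_two h2
    have hrange : (R.π.prod φ).range = (alternatingGroup (Fin (n + 1))).prod (alternatingGroup (Fin n)) := by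
      refine le_antisymm ?_ hA
      rintro _ ⟨m, rfl⟩
      exact mem_prod.mpr ⟨hπ.le ⟨m, rfl⟩, heven hπ.le ⟨m, rfl⟩⟩
    exact ⟨(e.trans (MulEquiv.subgroupCongr hrange)).trans (Subgroup.prodEquiv _ _)⟩

end Cfsg.Agent.S3687
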