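import Cfsg.Statements.S3693
import Cfsg.Agent.Lib.ThompsonWielandt.Suborbit
import Cfsg.Agent.EqLemmas

set_option autoImplicit false
open Cfsg

namespace Cfsg.Agent.S3693

/-- Let a finite group G act faithfully and primitively on a set Ω, let a and b be points such that the orbit Δ of b under the stabilizer H of a has length d ≥ 2, and consider the permutation group induced on Δ by the elements of H fixing b. If that induced group has trivial Fitting subgroup (no non-trivial nilpotent normal subgroup), then the two-point stabilizer of a and b has trivial Fitting subgroup and the order of H divides d! · ((d - 1)!)^d. -/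
theorem result {G Ω : Type*} [Group G] [Finite G] [MulAction G Ω] [FaithfulSMul G Ω] [Finite Ω]
    (hprim : MulAction.IsPreprimitive G Ω) (a b : Ω) (d : ℕ) (hd : Nat.card (MulAction.orbit (MulAction.stabilizer G a) b) = d) (h2 : 2 ≤ d)
    (hF : Cfsg.fittingSubgroup ↥(((MulAction.stabilizer G b).subgroupOf (MulAction.stabilizer G a)).map (MulAction.toPermHom (MulAction.stabilizer G a) (MulAction.orbit (MulAction.stabilizer G a) b))) = ⊥) :
    Cfsg.fittingSubgroup ↥(MulAction.stabilizer G a ⊓ MulAction.stabilizer G b) = ⊥ ∧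
      Nat.card (MulAction.stabilizer G a) ∣ Nat.factorial d * (Nat.factorial (d - 1)) ^ d := by
  haveI := hprim.toIsPretransitive
  have hab := ThompsonWielandt.ne_of_two_le hd h2
  have hP := ThompsonWielandt.Pair.of_primitive hprim hab
  set M := MulAction.stabilizer G a with hM
  set N := MulAction.stabilizer G b with hN
  set D := M ⊓ N with hD
  set φ := MulAction.toPermHom ↥M ↥(MulAction.orbit ↥M b)
  set I := (N.subgroupOf M).map φ with hI
  let f : ↥D →* ↥I := (φ.comp (Subgroup.inclusion inf_le_left)).codRestrict I fun x =>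
    Subgroup.mem_map_of_mem φ (Subgroup.mem_subgroupOf.mpr x.2.2)
  have hf : Function.Surjective f := by
    rintro ⟨_, m, hm, rfl⟩
    exact ⟨⟨(m : G), m.2, hm⟩, Subtype.ext rfl⟩
  have hFD : (Cfsg.fittingSubgroup ↥D).map D.subtype ≤ ThompsonWielandt.coreOne M N := by
    rintro _ ⟨x, hx, rfl⟩
    have h1 := Cores.map_fittingSubgroup_le f hf (Subgroup.mem_map_of_mem f hx)
    rw [hF, Subgroup.mem_bot] at h1
    have h2 : φ ⟨(x : G), x.2.1⟩ = 1 := congrArg Subtype.val h1
    refine ThompsonWielandt.mem_relCore.mpr ⟨x.2.1, fun m hm => Subgroup.mem_inf.mpr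
      ⟨mul_mem (mul_mem hm x.2.1) (inv_mem hm), MulAction.mem_stabilizer_iff.mpr ?_⟩⟩
    have h3 := congrArg Subtype.val (Equiv.Perm.ext_iff.mp h2
      ⟨(⟨m, hm⟩⁻¹ : ↥M) • b, MulAction.mem_orbit b _⟩)
    have h4 : (x : G) • m⁻¹ • b = m⁻¹ • b := h3
    show (m * (x : G) * m⁻¹) • b = b
    rw [mul_smul, mul_smul, h4, smul_inv_smul]
  have hbot := hP.fitting_inf_eq_bot hFD
  refine ⟨hbot, ThompsonWielandt.card_dvd_of_coreTwo_eq_bot hd ?_⟩
  by_contra h
  rw [not_or] at h
  obtain ⟨p, hp, hpg, -, h1, -⟩ := hP.exists_prime h.1 h.2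
  haveI : Fact p.Prime := ⟨hp⟩
  apply h.1
  set A := ThompsonWielandt.coreOne M N with hA
  have hAD : A ≤ D := le_inf (ThompsonWielandt.coreOne_le_left _ _)
    (ThompsonWielandt.coreOne_le_right _ _)
  have hAn : D ≤ Subgroup.normalizer (A : Set G) :=
    inf_le_left.trans (ThompsonWielandt.le_normalizer_relCore _ _)
  have hA2D : ThompsonWielandt.coreTwo M N ≤ D :=
    ((ThompsonWielandt.coreTwo_le M N).trans inf_le_left).trans hAD
  have h2 := ThompsonWielandt.le_pCoreOf hA2D (hpg.to_le le_sup_left)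
    (ThompsonWielandt.isSubnormal_subgroupOf_of_normal
      (inf_le_left.trans (ThompsonWielandt.le_normalizer_relCore _ _)))
  have h3 : Cfsg.pCore p ↥D = ⊥ :=
    le_bot_iff.mp (hbot ▸ Cores.pCore_le_fittingSubgroup p)
  rw [Cfsg.pCoreOf, h3, Subgroup.map_bot] at h2
  exact le_bot_iff.mp h2

end Cfsg.Agent.S3693
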