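import Cfsg.Statements.S3696
import Cfsg.Agent.EqLemmas

set_option autoImplicit false
open Cfsg

namespace Cfsg.Agent.S3696

theorem card_pow_prod_le {ι : Type*} (s : Finset ι) (x : ι → ℕ) :
    s.card ^ s.card * ∏ i ∈ s, x i ≤ (∑ i ∈ s, x i) ^ s.card := by
  rcases Nat.eq_zero_or_pos s.card with h | h
  · rw [Finset.card_eq_zero.mp h]; simp
  have hk : (0 : ℝ) < s.card := by exact_mod_cast h
  have key := Real.geom_mean_le_arith_mean_weighted s (fun _ => (1 : ℝ) / s.card) (fun i => (x i : ℝ))
    (fun i _ => by positivity) (by rw [Finset.sum_const, nsmul_eq_mul]; field_simp) (fun i _ => by positivity)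
  rw [Real.finset_prod_rpow s _ (fun i _ => by positivity)] at key
  have hp : (0 : ℝ) ≤ ∏ i ∈ s, (x i : ℝ) := by positivity
  have key2 := pow_le_pow_left₀ (by positivity) key s.card
  rw [← Real.rpow_natCast (_ ^ _), ← Real.rpow_mul hp, one_div, inv_mul_cancel₀ hk.ne', Real.rpow_one,
    ← Finset.mul_sum, mul_pow, inv_pow, ← div_eq_inv_mul, le_div_iff₀ (by positivity)] at key2
  rw [mul_comm]
  exact_mod_cast key2

theorem sum_le_prod_of_two_le {ι : Type*} (s : Finset ι) (m : ι → ℕ) (h : ∀ i ∈ s, 2 ≤ m i) :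
    ∑ i ∈ s, m i ≤ ∏ i ∈ s, m i := by
  classical
  induction s using Finset.induction_on with
  | empty => simp
  | @insert a t ha ih =>
    rw [Finset.sum_insert ha, Finset.prod_insert ha]
    rcases t.eq_empty_or_nonempty with ht | ht
    · subst ht; simp
    · have h2 : 2 ≤ m a := h a (Finset.mem_insert_self _ _)
      have hb := ih (fun i hi => h i (Finset.mem_insert_of_mem hi))
      obtain ⟨i, hi⟩ := ht
      have h3 : 2 ≤ ∏ j ∈ t, m j := le_trans (h i (Finset.mem_insert_of_mem hi))
        (Nat.le_of_dvd (Finset.prod_pos fun j hj => by have := h j (Finset.mem_insert_of_mem hj); omega) (Finset.dvd_prod_of_mem m hi))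
      nlinarith

/-- An abelian group of permutations has a jointly injective family of homomorphisms to cyclic groups
whose orders add up to at most the degree. -/
theorem cyclic_family.{v} {Ω : Type v} [Fintype Ω] [DecidableEq Ω] (A : Subgroup (Equiv.Perm Ω)) [IsMulCommutative A] :
    ∃ (I : Type v) (_ : Fintype I) (m : I → ℕ) (f : ∀ i, A →* Multiplicative (ZMod (m i))),
      (∀ i, 2 ≤ m i) ∧ ∑ i, m i ≤ Fintype.card Ω ∧ ∀ a : A, (∀ i, f i a = 1) → a = 1 := by
  classical
  let O := MulAction.orbitRel.Quotient A Ω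
  haveI : Fintype O := Fintype.ofFinite O
  letI : CommGroup A := { (inferInstance : Group A) with mul_comm := fun a b => IsMulCommutative.is_comm.comm a b }
  have hex := fun o : O => CommGroup.equiv_prod_multiplicative_zmod_of_finite (A ⧸ MulAction.stabilizer A o.out)
  choose ι hι m hm e using hex
  let g : ∀ o, A ⧸ MulAction.stabilizer A o.out ≃* ((i : ι o) → Multiplicative (ZMod (m o i))) := fun o => (e o).some
  refine ⟨Σ o : O, ι o, inferInstance, fun i => m i.1 i.2,
    fun i => ((Pi.evalMonoidHom (fun j => Multiplicative (ZMod (m i.1 j))) i.2).comp (g i.1).toMonoidHom).comp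
      (QuotientGroup.mk' _), fun i => hm _ _, ?_, ?_⟩
  · rw [Fintype.sum_sigma]
    have h1 : ∀ o : O, Fintype.card (MulAction.orbit A o.out) = ∏ i, m o i := fun o => by
      rw [← Nat.card_eq_fintype_card, Nat.card_congr (MulAction.orbitEquivQuotientStabilizer A o.out),
        Nat.card_congr (g o).toEquiv, Nat.card_pi]
      exact Finset.prod_congr rfl fun i _ => by
        rw [Nat.card_congr Multiplicative.toAdd]; exact Nat.card_zmod _
    calc ∑ o, ∑ i, m o i ≤ ∑ o : O, Fintype.card (MulAction.orbit A o.out) :=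
          Finset.sum_le_sum fun o _ => (sum_le_prod_of_two_le _ _ (fun i _ => hm o i)).trans (h1 o).ge
      _ = Fintype.card Ω := by
          rw [← Fintype.card_sigma]
          exact (Fintype.card_congr (MulAction.selfEquivSigmaOrbits A Ω)).symm
  · intro a ha
    have hst : ∀ o : O, a • o.out = o.out := fun o => by
      have : g o (QuotientGroup.mk a) = 1 := funext fun i => ha ⟨o, i⟩
      rw [map_eq_one_iff _ (g o).injective, QuotientGroup.eq_one_iff] at this
      exact this
    refine Subtype.ext (Equiv.ext fun x => ?_)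
    obtain ⟨b, hb⟩ : (Quotient.mk (MulAction.orbitRel A Ω) x : O).out ∈ MulAction.orbit A x :=
      MulAction.orbitRel_apply.mp (Quotient.mk_out x)
    change b • x = _ at hb
    have e1 : a • b • x = b • x := hb ▸ hst _
    rw [smul_smul, mul_comm, ← smul_smul] at e1
    exact smul_left_cancel b e1


/-- Let p be a prime, Ω a finite set with n ≥ p elements, and A an abelian p-subgroup of the symmetric group on Ω whose elements of order dividing p number p^k (so k is the rank of A). Then |A| · k^k ≤ n^k, that is, |A| ≤ (n/k)^k. -/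
theorem result {Ω : Type*} [Fintype Ω] [DecidableEq Ω]
    (p : ℕ) (hp : p.Prime) (hn : p ≤ Fintype.card Ω) (A : Subgroup (Equiv.Perm Ω)) (hA : IsPGroup p A) (hab : IsMulCommutative A)
    (k : ℕ) (hk : Nat.card {x : A // x ^ p = 1} = p ^ k) :
    Nat.card A * k ^ k ≤ Fintype.card Ω ^ k := by
  classical
  haveI := Fact.mk hp
  haveI := hab
  letI : CommGroup A := { (inferInstance : Group A) with mul_comm := fun a b => IsMulCommutative.is_comm.comm a b }
  obtain ⟨I, _, m, f, hm2, hmn, hinj⟩ := cyclic_family A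
  have greedy : ∀ j : ℕ, ∀ U : Subgroup A, (∀ u ∈ U, u ^ p = 1) → Nat.card U = p ^ j →
      ∃ J : Finset I, J.card = j ∧ (∀ i ∈ J, ∃ u ∈ U, f i u ≠ 1) ∧ ∀ u ∈ U, (∀ i ∈ J, f i u = 1) → u = 1 := by
    intro j
    induction j with
    | zero =>
      intro U _ hU
      rw [pow_zero, Subgroup.card_eq_one] at hU
      exact ⟨∅, rfl, by simp, fun u hu _ => Subgroup.mem_bot.mp (hU ▸ hu)⟩
    | succ j ih =>
      intro U hexp hU
      have : ∃ i, ∃ u ∈ U, f i u ≠ 1 := by
        by_contra hc; push Not at hc
        have : U = ⊥ := (Subgroup.eq_bot_iff_forall _).mpr fun u hu => hinj u fun i => hc i u hu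
        rw [this, Subgroup.card_bot, pow_succ] at hU
        nlinarith [hp.two_le, Nat.one_le_pow j p hp.pos]
      obtain ⟨i, u, hu, hfu⟩ := this
      haveI : NeZero (m i) := ⟨by have := hm2 i; omega⟩
      let φ : U →* Multiplicative (ZMod (m i)) := (f i).comp U.subtype
      have hr : Nat.card φ.range ≤ p := by
        rw [Nat.card_eq_fintype_card]
        refine le_trans ?_ (IsCyclic.card_pow_eq_one_le (α := Multiplicative (ZMod (m i))) hp.pos)
        rw [← Fintype.card_coe]
        refine Fintype.card_le_of_injective (fun x => ⟨x.1, ?_⟩) fun x y e => Subtype.ext (congrArg Subtype.val e :)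
        obtain ⟨w, hw⟩ := x.2
        rw [Finset.mem_filter]
        exact ⟨Finset.mem_univ _, by rw [← hw, ← map_pow, show w ^ p = 1 from Subtype.ext (hexp w w.2), map_one]⟩
      have hcard : Nat.card φ.ker * Nat.card φ.range = p ^ (j + 1) := by
        rw [← hU, ← Nat.card_congr (QuotientGroup.quotientKerEquivRange φ).toEquiv, mul_comm]
        exact (Subgroup.card_eq_card_quotient_mul_card_subgroup φ.ker).symm
      obtain ⟨t, ht, ht'⟩ := (Nat.dvd_prime_pow hp).mp (hcard ▸ dvd_mul_left (Nat.card φ.range) _)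
      have htle : t = 1 := by
        have h1 : t ≤ 1 := by
          by_contra hc
          have : p ^ 2 ≤ p ^ t := Nat.pow_le_pow_right hp.pos (by omega)
          rw [← ht'] at this; nlinarith [hp.two_le]
        have h2 : t ≠ 0 := by
          intro h0; rw [h0, pow_zero, Subgroup.card_eq_one] at ht'
          exact hfu (Subgroup.mem_bot.mp (ht' ▸ (⟨⟨u, hu⟩, rfl⟩ : f i u ∈ φ.range)))
        omega
      have hk' : Nat.card φ.ker = p ^ j := by
        rw [ht', htle, pow_one, pow_succ] at hcard
        exact Nat.eq_of_mul_eq_mul_right hp.pos hcard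
      obtain ⟨J, hJ, hJne, hJinj⟩ := ih (φ.ker.map U.subtype) (by
          rintro _ ⟨w, _, rfl⟩; exact hexp w w.2)
        (by rw [← hk']; exact (Nat.card_congr (Subgroup.equivMapOfInjective _ _ U.subtype_injective).toEquiv).symm)
      have hiJ : ∀ w ∈ φ.ker.map U.subtype, f i w = 1 := by rintro _ ⟨w, hw, rfl⟩; exact hw
      have hi : i ∉ J := fun h => by
        obtain ⟨w, hw, hw'⟩ := hJne i h
        exact hw' (hiJ w hw)
      refine ⟨insert i J, by rw [Finset.card_insert_of_notMem hi, hJ], fun l hl => ?_, fun w hw h => ?_⟩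
      · rcases Finset.mem_insert.mp hl with e | e
        · subst e; exact ⟨u, hu, hfu⟩
        · obtain ⟨_, ⟨w, _, rfl⟩, hw'⟩ := hJne l e
          exact ⟨w, w.2, hw'⟩
      · exact hJinj w ⟨⟨w, hw⟩, h i (Finset.mem_insert_self _ _), rfl⟩ fun l hl => h l (Finset.mem_insert_of_mem hl)
  let Om : Subgroup A :=
    { carrier := {x | x ^ p = 1}
      one_mem' := one_pow p
      mul_mem' := fun {a b} ha hb => by
        simp only [Set.mem_setOf_eq] at ha hb ⊢; rw [mul_pow, ha, hb, one_mul]
      inv_mem' := fun {a} ha => by simp only [Set.mem_setOf_eq] at ha ⊢; rw [inv_pow, ha, inv_one] }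
  obtain ⟨J, hJk, -, hJ⟩ := greedy k Om (fun u hu => hu) hk
  let F : A →* ((i : J) → Multiplicative (ZMod (m i))) := MonoidHom.pi fun i : J => f i
  have hF : Function.Injective F := by
    rw [injective_iff_map_eq_one]
    intro a ha
    by_contra ha1
    obtain ⟨t, ht⟩ := (IsPGroup.iff_orderOf.mp hA) a
    rcases t with _ | t
    · rw [pow_zero, orderOf_eq_one_iff] at ht; exact ha1 ht
    have hb : a ^ p ^ t = 1 := hJ _ (by
        change (a ^ p ^ t) ^ p = 1
        rw [← pow_mul, ← pow_succ, ← ht, pow_orderOf_eq_one]) fun i hi => by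
      rw [map_pow, show f i a = 1 from congrFun ha ⟨i, hi⟩, one_pow]
    have := Nat.le_of_dvd (pow_pos hp.pos t) (orderOf_dvd_of_pow_eq_one hb)
    rw [ht] at this
    exact absurd this (not_le.mpr (Nat.pow_lt_pow_right hp.one_lt (by omega)))
  haveI : ∀ i, NeZero (m i) := fun i => ⟨by have := hm2 i; omega⟩
  have hle : Nat.card A ≤ ∏ i ∈ J, m i := by
    refine (Nat.card_le_card_of_injective F hF).trans (le_of_eq ?_)
    rw [Nat.card_pi, ← Finset.prod_coe_sort J m]
    exact Finset.prod_congr rfl fun i _ => by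
      rw [Nat.card_congr Multiplicative.toAdd]; exact Nat.card_zmod _
  calc Nat.card A * k ^ k ≤ (∏ i ∈ J, m i) * k ^ k := Nat.mul_le_mul_right _ hle
    _ = J.card ^ J.card * ∏ i ∈ J, m i := by rw [hJk, mul_comm]
    _ ≤ (∑ i ∈ J, m i) ^ J.card := card_pow_prod_le J m
    _ ≤ Fintype.card Ω ^ k := by
      rw [hJk]; exact Nat.pow_le_pow_left ((Finset.sum_le_univ_sum_of_nonneg fun _ => Nat.zero_le _).trans hmn) k

end Cfsg.Agent.S3696
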