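import Cfsg.Statements.S3702
import Cfsg.Agent.Lib.ThreeCubedSymFour.Embedding
import Cfsg.Agent.S3701

set_option autoImplicit false
open Cfsg

namespace Cfsg.Agent.S3702

open Cfsg.Agent.ThreeCubedSymFour

/-- The three-core of the model. -/
def plane : Subgroup Q := (SemidirectProduct.rightHom : Q →* Mon).ker

theorem mem_plane (x : Q) : x ∈ plane ↔ x.right = 1 := Iff.rfl

theorem card_plane : Nat.card plane = 27 := by
  have h : plane = (SemidirectProduct.inl : Multiplicative V3 →* Q).range :=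
    SemidirectProduct.range_inl_eq_ker_rightHom.symm
  rw [h, ← Nat.card_congr (MonoidHom.ofInjective SemidirectProduct.inl_injective).toEquiv,
    Nat.card_congr Multiplicative.toAdd]
  simp [Nat.card_prod, Nat.card_zmod]

theorem embedded_id : Embedded (MonoidHom.id Q) where
  inj := fun _ _ h => h
  cent := fun _ _ _ g _ => ⟨g, rfl⟩
  plane_ti := fun {_ _} _ _ _ {g} _ => ⟨g, rfl⟩

theorem pCore_eq {H : Type*} [Group H] (e : Q ≃* H) : pCore 3 H = plane.map e.toMonoidHom := by
  refine le_antisymm (sSup_le ?_) (le_sSup ⟨?_, ?_⟩)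
  · rintro N ⟨hN, hN3⟩ n hn
    refine ⟨e.symm n, ?_, e.apply_symm_apply n⟩
    have hnine : ∀ x : Q, e x ∈ N → x * x * x * (x * x * x) * (x * x * x) = 1 := by
      intro x hx
      obtain ⟨k, hk⟩ := hN3 ⟨e x, hx⟩
      refine embedded_id.nine (n := k) (e.injective ?_)
      rw [map_one, MonoidHom.id_apply, map_pow]
      simpa using congrArg Subtype.val hk
    by_contra hout
    set x := e.symm n
    have hxN : e x ∈ N := by simpa [x] using hn
    refine normal_three x (hnine x hxN) hout (hnine _ ?_)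
    rw [map_mul, map_mul, map_mul, map_inv, map_inv, mul_assoc, mul_assoc]
    refine mul_mem hxN ?_
    rw [← mul_assoc]
    exact hN.conj_mem _ (N.inv_mem hxN) _
  · exact Subgroup.Normal.map (MonoidHom.normal_ker _) _ e.surjective
  · rintro ⟨_, x, hx, rfl⟩
    refine ⟨1, Subtype.ext ?_⟩
    simp only [pow_one, SubgroupClass.coe_pow, OneMemClass.coe_one, ← map_pow]
    rw [pow_succ, pow_two, cube_of_right x hx, map_one]


/-- Let K ≤ Sym(9) be generated by (1 2 3), (1 4 7)(2 5 8)(3 6 9), (1 2)(4 5) and (1 4)(2 5)(3 6)(7 8) (the normalizer in Alt(9) of the elementary abelian group generated by (1 2 3), (4 5 6), (7 8 9)). Let G be a finite group with a subgroup H ≅ K and J = O₃(H). If C_G(j) ≤ H for every j ≠ 1 in J and J is strongly closed in H with respect to G (a G-conjugate of an element of J lying in H lies in J), then G = H. -/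
theorem result {G : Type*} [Group G] [Finite G] (H : Subgroup G)
    (hH : Nonempty (↥H ≃* ↥(Subgroup.closure ({Equiv.swap (0 : Fin 9) 1 * Equiv.swap 1 2,
        Equiv.swap (0 : Fin 9) 3 * Equiv.swap 3 6 * (Equiv.swap (1 : Fin 9) 4 * Equiv.swap 4 7) * (Equiv.swap (2 : Fin 9) 5 * Equiv.swap 5 8),
        Equiv.swap (0 : Fin 9) 1 * Equiv.swap 3 4, Equiv.swap (0 : Fin 9) 3 * Equiv.swap 1 4 * Equiv.swap 2 5 * Equiv.swap 6 7} : Set (Equiv.Perm (Fin 9))))))
    (J : Subgroup G) (hJ : J = (Cfsg.pCore 3 ↥H).map H.subtype)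
    (hC : ∀ j ∈ J, j ≠ 1 → Subgroup.centralizer ({j} : Set G) ≤ H) (hsc : Cfsg.IsStronglyClosed J H) : H = ⊤ := by
  classical
  have := Fintype.ofFinite G
  obtain ⟨e0⟩ := hH
  let e : Q ≃* ↥H := (MonoidHom.ofInjective toPerm_injective).trans
    ((MulEquiv.subgroupCongr range_toPerm).trans e0.symm)
  let π : Q →* G := H.subtype.comp e.toMonoidHom
  have hinj : Function.Injective π := Subtype.val_injective.comp e.injective
  have hrange : π.range = H :=
    le_antisymm (by rintro _ ⟨x, rfl⟩; exact (e x).2)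
      fun g hg => ⟨e.symm ⟨g, hg⟩, congrArg Subtype.val (e.apply_symm_apply ⟨g, hg⟩)⟩
  have hJ' : J = plane.map π := by rw [hJ, pCore_eq e, Subgroup.map_map]
  have hclosed : ∀ x : Q, x.right = 1 → ∀ g : G, g * π x * g⁻¹ ∈ π.range →
      ∃ y : Q, y.right = 1 ∧ π y = g * π x * g⁻¹ := fun x hx g hg => by
    rw [hrange] at hg
    have hmem := hsc.2 (π x) (hJ' ▸ Subgroup.mem_map_of_mem π hx) g hg
    rw [hJ'] at hmem
    exact hmem
  have E : Embedded π := by
    refine Embedded.of_closed hinj (fun x hx hx1 => ?_) hclosed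
    rw [hrange]
    exact hC _ (hJ' ▸ Subgroup.mem_map_of_mem π hx) fun h => hx1 (hinj (h.trans (map_one π).symm))
  obtain ⟨N, hN, hNmem⟩ := E.exists_normal
  have hplane : ∀ x : Q, x.right = 1 → x ∈ smallSub := fun x hx => by
    rw [mem_smallSub, hx]; exact ⟨rfl, rfl⟩
  let A : Subgroup G := smallSub.map π
  have hAN : A ≤ N := by rintro _ ⟨x, hx, rfl⟩; exact (hNmem x).2 hx
  have hJA : J ≤ A := by
    rw [hJ']; rintro _ ⟨x, hx, rfl⟩; exact Subgroup.mem_map_of_mem π (hplane x hx)
  have hin : ∀ n ∈ N, n ∈ π.range → n ∈ A := by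
    rintro _ hn ⟨x, rfl⟩; exact Subgroup.mem_map_of_mem π ((hNmem x).1 hn)
  have htop : A.subgroupOf N = ⊤ := by
    refine S3701.result (A.subgroupOf N)
      ⟨(Subgroup.subgroupOfEquivOfLe hAN).trans ((smallSub.equivMapOfInjective π hinj).symm.trans
        ((smallSub.equivMapOfInjective toPerm toPerm_injective).trans
          (MulEquiv.subgroupCongr map_toPerm_small)))⟩
      (J.subgroupOf N) (Subgroup.comap_mono hJA) ?_ ?_ ?_
    · rw [Nat.card_congr (Subgroup.subgroupOfEquivOfLe (hJA.trans hAN)).toEquiv, hJ',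
        ← Nat.card_congr (plane.equivMapOfInjective π hinj).toEquiv, card_plane]
    · refine le_antisymm (fun n hn => Subgroup.mem_subgroupOf.2 (hin _ n.2 ?_)) fun n hn => ?_
      · refine E.mem_range_of_normalize fun s hs => ?_
        have hsJ : π s ∈ J := hJ' ▸ Subgroup.mem_map_of_mem π hs
        have hmem : ((n : G) * π s * (n : G)⁻¹) ∈ J := Subgroup.mem_subgroupOf.1
          ((Subgroup.mem_normalizer_iff.1 hn ⟨π s, hAN (hJA hsJ)⟩).1 (Subgroup.mem_subgroupOf.2 hsJ))
        rw [hJ'] at hmem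
        exact hmem
      · obtain ⟨x, -, hxe⟩ := Subgroup.mem_subgroupOf.1 hn
        have hconj : ∀ z : Q, ∀ g : G, g ∈ J → π z * g * (π z)⁻¹ ∈ J := by
          intro z g hg
          rw [hJ'] at hg ⊢
          obtain ⟨y, hy, rfl⟩ := hg
          refine ⟨z * y * z⁻¹, ?_, by simp⟩
          rw [SetLike.mem_coe, mem_plane] at hy ⊢
          simp [hy]
        refine Subgroup.mem_normalizer_iff.2 fun m => ?_
        simp only [SetLike.mem_coe, Subgroup.mem_subgroupOf, Subgroup.coe_mul, InvMemClass.coe_inv, ← hxe]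
        refine ⟨hconj x _, fun h => ?_⟩
        have h' := hconj x⁻¹ _ h
        rw [map_inv] at h'
        simpa [mul_assoc] using h'
    · intro t ht ht1 c hc
      refine Subgroup.mem_subgroupOf.2 (hin _ c.2 ?_)
      rw [hrange]
      refine hC _ (Subgroup.mem_subgroupOf.1 ht) (fun h => ht1 (Subtype.ext h))
        (Subgroup.mem_centralizer_singleton_iff.2 ?_)
      exact congrArg Subtype.val (Subgroup.mem_centralizer_singleton_iff.1 hc)
  have hNH : ∀ n ∈ N, n ∈ π.range := fun n hn => by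
    have h : (⟨n, hn⟩ : ↥N) ∈ A.subgroupOf N := htop ▸ Subgroup.mem_top _
    obtain ⟨x, -, hx⟩ := Subgroup.mem_subgroupOf.1 h
    exact ⟨x, hx⟩
  refine eq_top_iff.2 fun g _ => hrange ▸ E.mem_range_of_normalize fun s hs => ?_
  exact hclosed s hs g (hNH _ (hN.conj_mem _ ((hNmem s).2 (hplane s hs)) g))

end Cfsg.Agent.S3702
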