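import Cfsg.Statements.S3703
import Cfsg.Agent.EqLemmas
import Cfsg.Agent.Lib.Frobenius.Basic
import Cfsg.Agent.Lib.Coprime.Invariant
import Cfsg.Agent.Lib.Coprime.Frattini
import Cfsg.Agent.Lib.PGroup.Basic

set_option autoImplicit false
open Cfsg

namespace Cfsg.Agent.S3703

open scoped Pointwise

variable {G : Type*} [Group G]

/-- A lift of a complement generator with the wrong order gives the element. -/
theorem exists_of_pow_ne_one [Finite G] (N : Subgroup G) [N.Normal] {y : G} {n : ℕ} (hn : 0 < n)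
    (hy : orderOf (QuotientGroup.mk' N y) = n) (h1 : y ^ n ≠ 1) :
    ∃ p : ℕ, p.Prime ∧ p ∣ Nat.card N ∧ ∃ g : G, orderOf g = p * n := by
  have hdvd : n ∣ orderOf y := hy ▸ orderOf_map_dvd _ y
  obtain ⟨m, hm⟩ := hdvd
  have hmo : orderOf (y ^ n) = m := by
    rw [orderOf_pow_of_dvd hn.ne' ⟨m, hm⟩, hm, Nat.mul_div_cancel_left _ hn]
  have hm1 : m ≠ 1 := fun e => h1 (orderOf_eq_one_iff.mp (hmo.trans e))
  obtain ⟨p, hp, hpm⟩ := Nat.exists_prime_and_dvd hm1
  have hmem : y ^ n ∈ N := by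
    rw [← QuotientGroup.eq_one_iff (N := N)]
    change QuotientGroup.mk' N (y ^ n) = 1
    rw [map_pow, ← hy, pow_orderOf_eq_one]
  refine ⟨p, hp, hpm.trans ?_, y ^ (m / p), ?_⟩
  · rw [← hmo, ← Subgroup.orderOf_mk _ hmem]
    exact orderOf_dvd_natCard _
  · have hpos : 0 < m := Nat.pos_of_ne_zero fun e => by
      rw [e, mul_zero] at hm; exact (orderOf_pos y).ne' hm
    rw [orderOf_pow_of_dvd (Nat.div_pos (Nat.le_of_dvd hpos hpm) hp.pos).ne'
      (hm ▸ dvd_mul_of_dvd_right (Nat.div_dvd_of_dvd hpm) n), hm]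
    obtain ⟨r, rfl⟩ := hpm
    rw [Nat.mul_div_cancel_left _ hp.pos, ← mul_assoc, Nat.mul_div_cancel _ (Nat.pos_of_mul_pos_left hpos), mul_comm]

/-- The powers of `v * x` in an abelian image. -/
theorem pow_mul_formula {P : Subgroup G} {L : Subgroup G} (hL : L ≤ Subgroup.normalizer (P : Set G))
    (x : L) (v : P) : ∀ j : ℕ, ∃ u : P, ((v : G) * x) ^ j = u * (x : G) ^ j ∧
      ∀ {W : Type*} [CommGroup W] (χ : P →* W),
        χ u = ∏ i ∈ Finset.range j, χ (P.normalizerMonoidHom (Subgroup.inclusion hL (x ^ i)) v)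
  | 0 => ⟨1, by simp, fun χ => by simp⟩
  | j + 1 => by
    obtain ⟨u, hu, hχ⟩ := pow_mul_formula hL x v j
    refine ⟨u * P.normalizerMonoidHom (Subgroup.inclusion hL (x ^ j)) v, ?_, fun χ => by
      rw [map_mul, hχ χ, Finset.prod_range_succ]⟩
    rw [pow_succ, hu, pow_succ (x : G)]
    simp only [Subgroup.coe_mul, Subgroup.normalizerMonoidHom_apply_apply_coe, Subgroup.coe_inclusion,
      SubgroupClass.coe_pow]
    group


/-- Let N be a normal subgroup of the finite group G such that G/N is a Frobenius group with kernel F and cyclic complement H, where the order of F is coprime to that of N and F is not contained in the image of C_G(N) in G/N. Then G has an element of order p·#H for some prime p dividing the order of N. (A standard tool in recognising groups by their element orders.) -/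
theorem result {G : Type*} [Group G] [Finite G] (N : Subgroup G) [N.Normal]
    (Fb Hb : Subgroup (G ⧸ N)) [Fb.Normal] (hHb : Cfsg.IsFrobeniusComplement Hb) (hker : Cfsg.frobeniusKernel Hb = (Fb : Set (G ⧸ N)))
    (hcyc : IsCyclic Hb) (hcop : (Nat.card Fb).Coprime (Nat.card N))
    (hnot : ¬ Fb ≤ (Subgroup.centralizer (N : Set G)).map (QuotientGroup.mk' N)) :
    ∃ p : ℕ, p.Prime ∧ p ∣ Nat.card N ∧ ∃ g : G, orderOf g = p * Nat.card Hb := by
  classical
  haveI : Fintype G := Fintype.ofFinite G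
  set π := QuotientGroup.mk' N with hπ
  set n := Nat.card Hb with hn
  -- the Frobenius structure of the quotient
  have hFH : Disjoint Fb Hb := by
    rw [disjoint_iff]
    refine (Subgroup.eq_bot_iff_forall _).mpr fun z hz => ?_
    refine Frobenius.eq_one_of_mem_kernel_of_mem (H := Hb) (g := 1) ?_ (by simpa using hz.2)
    rw [hker]; exact hz.1
  have hfpf : Frobenius.FPF Hb Fb := Frobenius.fpf_of_isFrobeniusComplement hHb hFH
  have hFidx : Nat.card Fb = Hb.index := by
    rw [← Frobenius.card_kernel hHb, hker]; rfl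
  have hcompl : Subgroup.IsComplement' Fb Hb :=
    Subgroup.isComplement'_of_card_mul_and_disjoint (by rw [hFidx, mul_comm, Subgroup.card_mul_index]) hFH
  -- a Sylow subgroup of the preimage of the kernel not centralizing `N`
  set M := Fb.comap π with hM
  set C := Subgroup.centralizer (N : Set G) with hC
  have hrel : (C.map π ⊓ Fb).subgroupOf Fb ≠ ⊤ := fun h =>
    hnot ((Subgroup.subgroupOf_eq_top.mp h).trans inf_le_left)
  obtain ⟨q, hq, hqdvd⟩ := Nat.exists_prime_and_dvd (n := ((C.map π ⊓ Fb).subgroupOf Fb).index)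
    (fun h => hrel (Subgroup.index_eq_one.mp h))
  haveI := Fact.mk hq
  have hqF : q ∣ Nat.card Fb := hqdvd.trans (Subgroup.index_dvd_card _)
  have hqN : ¬ q ∣ Nat.card N := fun h => hq.not_dvd_one (hcop ▸ Nat.dvd_gcd hqF h)
  obtain ⟨QM⟩ := (inferInstance : Nonempty (Sylow q M))
  set Q0 : Subgroup G := (QM : Subgroup M).map M.subtype with hQ0
  have hQM : Q0 ≤ M := Subgroup.map_subtype_le _
  have hQcard : Nat.card Q0 = q ^ (Nat.card M).factorization q := by
    rw [hQ0, Subgroup.card_map_of_injective M.subtype_injective, QM.card_eq_multiplicity]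
  have hQp : IsPGroup q Q0 := QM.isPGroup'.map _
  have hcopQN : (Nat.card Q0).Coprime (Nat.card N) := by
    rw [hQcard]; exact Nat.Coprime.pow_left _ (hq.coprime_iff_not_dvd.mpr hqN)
  have hQN : ∀ y ∈ Q0, π y = 1 → y = 1 := fun y hy h1 =>
    Coprime.eq_one_of_mem_of_mem hcopQN hy ((QuotientGroup.eq_one_iff y).mp h1)
  have hMcard : Nat.card M = Nat.card Fb * Nat.card N := by
    have h1 := Subgroup.card_eq_card_quotient_mul_card_subgroup (π.comp M.subtype).ker
    have hr : (π.comp M.subtype).range = Fb := by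
      rw [MonoidHom.range_comp, Subgroup.range_subtype, hM,
        Subgroup.map_comap_eq_self_of_surjective (QuotientGroup.mk'_surjective N)]
    have hk : (π.comp M.subtype).ker = N.subgroupOf M := by
      ext z
      simp [hπ, Subgroup.mem_subgroupOf]
    have hNM : N ≤ M := fun z hz => by
      rw [hM, Subgroup.mem_comap, hπ, QuotientGroup.mk'_apply, (QuotientGroup.eq_one_iff z).mpr hz]
      exact one_mem _
    rw [Nat.card_congr (QuotientGroup.quotientKerEquivRange _).toEquiv, hr, hk,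
      Nat.card_congr (Subgroup.subgroupOfEquivOfLe hNM).toEquiv] at h1
    exact h1
  have hQnC : ¬ Q0 ≤ C := by
    intro h
    have hle : Q0.map π ≤ C.map π ⊓ Fb := le_inf (Subgroup.map_mono h) (Subgroup.map_le_iff_le_comap.mpr hQM)
    have hcardmap : Nat.card (Q0.map π) = Nat.card Q0 :=
      (Nat.card_congr (Equiv.ofBijective (fun y : Q0 => (⟨π y, Subgroup.mem_map_of_mem π y.2⟩ : Q0.map π))
        ⟨fun a b e => by
            have e' : π a = π b := congrArg Subtype.val e
            exact Subtype.ext (inv_mul_eq_one.mp (hQN _ (Q0.mul_mem (Q0.inv_mem a.2) b.2)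
              (by rw [map_mul, map_inv, e', inv_mul_cancel]))),
          fun z => by
            obtain ⟨y, hy, hyz⟩ := z.2
            exact ⟨⟨y, hy⟩, Subtype.ext hyz⟩⟩)).symm
    have hd := Subgroup.card_dvd_of_le hle
    rw [hcardmap, hQcard, hMcard, Nat.factorization_mul Nat.card_pos.ne' Nat.card_pos.ne', Finsupp.add_apply,
      Nat.factorization_eq_zero_of_not_dvd hqN, add_zero] at hd
    have h2 := ((C.map π ⊓ Fb).subgroupOf Fb).card_mul_index
    rw [Nat.card_congr (Subgroup.subgroupOfEquivOfLe inf_le_right).toEquiv] at h2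
    have h3 := mul_dvd_mul hd hqdvd
    rw [h2, ← pow_succ] at h3
    exact absurd ((hq.pow_dvd_iff_le_factorization Nat.card_pos.ne').mp h3) (by omega)
  -- an invariant Sylow subgroup of `N` which is not centralized
  have hAN : Q0 ≤ Subgroup.normalizer (N : Set G) := by rw [Subgroup.normalizer_eq_top]; exact le_top
  have hsolv : Group.IsSolvable Q0 := by
    haveI := hQp.isNilpotent
    infer_instance
  have hexP : ∃ p : ℕ, p.Prime ∧ ∃ P : Sylow p N,
      Q0 ≤ Subgroup.normalizer ((P : Subgroup N).map N.subtype : Set G) ∧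
      ¬ Q0 ≤ Subgroup.centralizer (((P : Subgroup N).map N.subtype : Subgroup G) : Set G) := by
    by_contra hcon
    push Not at hcon
    refine hQnC (Subgroup.le_centralizer_iff.mp ?_)
    have h1 : N ⊓ Subgroup.centralizer (Q0 : Set G) = N := by
      refine Subgroup.eq_of_le_of_card_ge inf_le_left (Nat.le_of_dvd Nat.card_pos ?_)
      rw [Nat.dvd_iff_prime_pow_dvd_dvd]
      intro p k hp hk
      haveI := Fact.mk hp
      obtain ⟨P, hP⟩ := Coprime.exists_invariant_sylow hAN hcopQN (Or.inl hsolv) p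
      refine dvd_trans ?_ (Subgroup.card_dvd_of_le (le_inf (Subgroup.map_subtype_le (P : Subgroup N))
        (Subgroup.le_centralizer_iff.mp (hcon p hp P hP))))
      rw [Subgroup.card_map_of_injective N.subtype_injective, P.card_eq_multiplicity]
      exact pow_dvd_pow p ((hp.pow_dvd_iff_le_factorization Nat.card_pos.ne').1 hk)
    exact h1.ge.trans inf_le_right
  obtain ⟨p, hp, PN, hQP, hQPc⟩ := hexP
  haveI := Fact.mk hp
  set P : Subgroup G := (PN : Subgroup N).map N.subtype with hP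
  have hPN : P ≤ N := Subgroup.map_subtype_le _
  set L := Subgroup.normalizer (P : Set G) with hL
  -- a lift of a complement generator normalizing both `P` and `Q0`
  obtain ⟨h0, hh0⟩ := hcyc.exists_generator
  have hord0 : orderOf (h0 : G ⧸ N) = n := by
    rw [Subgroup.orderOf_coe, orderOf_eq_card_of_forall_mem_zpowers hh0]
  obtain ⟨g, hg⟩ := QuotientGroup.mk'_surjective N (h0 : G ⧸ N)
  have hPtop := Sylow.normalizer_sup_eq_top PN
  obtain ⟨l, hl, z, hz, hlz⟩ := Subgroup.mem_sup_of_normal_right.mp (hPtop ▸ Subgroup.mem_top g : g ∈ L ⊔ N)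
  have hlQ : ∃ k ∈ L ⊓ M, k⁻¹ * l ∈ Subgroup.normalizer (Q0 : Set G) := by
    have hQLM : Q0 ≤ L ⊓ M := le_inf hQP hQM
    have hidx : ¬ q ∣ (Q0.subgroupOf (L ⊓ M)).index := by
      intro h
      have h1 := (Q0.subgroupOf (L ⊓ M)).card_mul_index
      rw [Nat.card_congr (Subgroup.subgroupOfEquivOfLe hQLM).toEquiv, hQcard] at h1
      have h2 : q ^ ((Nat.card M).factorization q + 1) ∣ Nat.card M := by
        rw [pow_succ]
        exact (mul_dvd_mul_left _ h).trans (h1 ▸ Subgroup.card_dvd_of_le inf_le_right)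
      exact absurd ((hq.pow_dvd_iff_le_factorization Nat.card_pos.ne').mp h2) (by omega)
    set S : Sylow q ↥(L ⊓ M) :=
      (IsPGroup.of_equiv hQp (Subgroup.subgroupOfEquivOfLe hQLM).symm).toSylow hidx with hS
    have hSmap : (S : Subgroup ↥(L ⊓ M)).map (L ⊓ M).subtype = Q0 := by
      rw [hS, IsPGroup.toSylow_coe, Subgroup.subgroupOf_map_subtype, inf_of_le_left hQLM]
    have hln : l ∈ Subgroup.normalizer ((L ⊓ M : Subgroup G) : Set G) := by
      refine Coprime.mem_normalizer_of_forall fun w hw => ⟨L.mul_mem (L.mul_mem hl hw.1) (L.inv_mem hl), ?_⟩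
      exact (inferInstance : M.Normal).conj_mem w hw.2 l
    obtain ⟨S', hS'⟩ := Coprime.exists_sylow_conj_eq hln S
    obtain ⟨k, hk⟩ := MulAction.exists_smul_eq ↥(L ⊓ M) S S'
    refine ⟨k, k.2, Coprime.mem_normalizer_of_conj_eq ?_⟩
    have h3 : (MulAut.conj (k : G)) • Q0 = (MulAut.conj l) • Q0 := by
      conv_lhs => rw [← hSmap]
      conv_rhs => rw [← hSmap]
      rw [← hS', ← hk, Coprime.map_subtype_smul]
    rw [map_mul, mul_smul, map_inv, ← h3, inv_smul_smul]
  obtain ⟨k, hk, hkl⟩ := hlQ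
  set x := k⁻¹ * l with hx
  have hxL : x ∈ L := L.mul_mem (L.inv_mem hk.1) hl
  have hπx : π x = (π k)⁻¹ * (h0 : G ⧸ N) := by
    rw [hx, map_mul, map_inv, ← hg, ← hlz, map_mul, (QuotientGroup.eq_one_iff z).mpr hz |> (fun e : π z = 1 => e), mul_one]
  have hk0 : (π k)⁻¹ ∈ Fb := Fb.inv_mem hk.2
  have hh1 : (h0 : G ⧸ N) ≠ 1 := fun e => by
    rw [e, orderOf_one] at hord0
    exact hHb.1 (Subgroup.card_eq_one.mp hord0.symm)
  obtain ⟨w, hw, hwe⟩ := hfpf.exists_conj h0.2 hh1 (by rw [Subgroup.normalizer_eq_top]; trivial) hk0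
  rw [← hπx] at hwe
  have hordx : orderOf (π x) = n := by
    rw [← hwe, ← MulAut.conj_apply, MulEquiv.orderOf_eq, hord0]
  have hnpos : 0 < n := Nat.card_pos
  -- powers of the lift act without fixed points on `Q0`
  have hfree : ∀ i, 0 < i → i < n → ∀ y ∈ Q0, x ^ i * y = y * x ^ i → y = 1 := by
    intro i hi hin y hy e
    refine hQN y hy ?_
    have e' : π x ^ i * π y = π y * π x ^ i := by rw [← map_pow, ← map_mul, ← map_mul, e]
    rw [← hwe, conj_pow] at e'
    have hne : (h0 : G ⧸ N) ^ i ≠ 1 := pow_ne_one_of_lt_orderOf hi.ne' (hord0 ▸ hin)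
    have h4 := hfpf _ (Hb.pow_mem h0.2 i) hne _ ((inferInstance : Fb.Normal).conj_mem _ (hQM hy) w⁻¹)
      (by
        calc (h0 : G ⧸ N) ^ i * (w⁻¹ * π y * w⁻¹⁻¹) = w⁻¹ * (w * (h0 : G ⧸ N) ^ i * w⁻¹ * π y) * w := by group
          _ = w⁻¹ * (π y * (w * (h0 : G ⧸ N) ^ i * w⁻¹)) * w := by rw [e']
          _ = _ := by group)
    calc π y = w * (w⁻¹ * π y * w⁻¹⁻¹) * w⁻¹ := by group
      _ = 1 := by rw [h4]; group
  by_cases hxn : x ^ n = 1
  swap
  · exact exists_of_pow_ne_one N hnpos hordx hxn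
  -- some `v * x` has the wrong order
  by_contra hres
  have hall : ∀ v : P, ((v : G) * x) ^ n = 1 := fun v => by
    by_contra h
    refine hres (exists_of_pow_ne_one N hnpos ?_ h)
    have hv : QuotientGroup.mk' N (v : G) = 1 := (QuotientGroup.eq_one_iff _).mpr (hPN v.2)
    rw [map_mul, hv, one_mul]; exact hordx
  have hPp : IsPGroup p P := PN.isPGroup'.map _
  letI : CommGroup (↥P ⧸ frattini ↥P) :=
    { (inferInstance : Group (↥P ⧸ frattini ↥P)) with
      mul_comm := fun a b => by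
        obtain ⟨a, rfl⟩ := QuotientGroup.mk'_surjective _ a
        obtain ⟨b, rfl⟩ := QuotientGroup.mk'_surjective _ b
        rw [← map_mul, ← map_mul, QuotientGroup.mk'_apply, QuotientGroup.mk'_apply, QuotientGroup.eq]
        have := PGroup.commutatorElement_mem_frattini hPp b⁻¹ a⁻¹
        rw [commutatorElement_def] at this
        simpa [mul_assoc] using this }
  set ψ := QuotientGroup.mk' (frattini ↥P) with hψ
  let c : L →* MulAut P := P.normalizerMonoidHom
  let xL : L := ⟨x, hxL⟩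
  let yL : Q0 → L := fun y => ⟨y, hQP y.2⟩
  have hc : ∀ (a : L) (u : P), ((c a u : P) : G) = a * u * (a : G)⁻¹ := fun _ _ => rfl
  have hT : ∀ (y : Q0) (u : P), ∏ i ∈ Finset.range n, ψ (c (yL y * xL ^ i * (yL y)⁻¹) u) = 1 := by
    intro y u
    obtain ⟨w', hw', hχ⟩ := pow_mul_formula (le_refl L) xL (c (yL y)⁻¹ u) n
    have h1 := hall (c (yL y)⁻¹ u)
    rw [hw', hxn, mul_one] at h1
    have h2 := hχ (ψ.comp (c (yL y)).toMonoidHom)
    rw [show w' = 1 from Subtype.ext h1, map_one] at h2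
    rw [h2]
    refine Finset.prod_congr rfl fun i _ => ?_
    simp only [MonoidHom.comp_apply, MulEquiv.coe_toMonoidHom]
    congr 1
    refine Subtype.ext ?_
    simp only [hc, Subgroup.normalizerMonoidHom_apply_apply_coe, Subgroup.coe_inclusion, Subgroup.coe_mul, Subgroup.coe_inv, SubgroupClass.coe_pow]
    group
  set S : P → ↥P ⧸ frattini ↥P := fun u => ∏ y : Q0, ψ (c (yL y) u) with hS
  have hSinv : ∀ (z : Q0) u, S (c (yL z) u) = S u := fun z u =>
    Fintype.prod_equiv (Equiv.mulRight z) _ _ fun y => congrArg ψ (Subtype.ext (by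
      simp only [hc, Equiv.coe_mulRight, yL, Subgroup.coe_mul]; group))
  have hmain : ∀ u : P, ψ u ^ Nat.card Q0 * ∏ i ∈ Finset.Ico 1 n, S (c (xL ^ i) u) = 1 := by
    intro u
    have hkey : ∏ y : Q0, ∏ i ∈ Finset.range n, ψ (c (yL y * xL ^ i * (yL y)⁻¹) u) = 1 :=
      Finset.prod_eq_one fun y _ => hT y u
    rw [← hkey, Finset.prod_comm (s := Finset.univ) (t := Finset.range n), Finset.range_eq_Ico, Finset.prod_eq_prod_Ico_succ_bot hnpos]
    congr 1
    · rw [Finset.prod_congr rfl fun y (_ : y ∈ Finset.univ) => show ψ (c (yL y * xL ^ 0 * (yL y)⁻¹) u) = ψ u by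
        rw [pow_zero, mul_one, mul_inv_cancel, map_one]; rfl, Finset.prod_const, Finset.card_univ, Nat.card_eq_fintype_card]
    · refine Finset.prod_congr rfl fun i hi => ?_
      rw [Finset.mem_Ico] at hi
      have hxQ : ∀ y : Q0, x ^ i * (y : G) * (x ^ i)⁻¹ ∈ Q0 := fun y =>
        (Subgroup.mem_normalizer_iff.mp (Subgroup.pow_mem _ hkl i) _).mp y.2
      let θ : Q0 → Q0 := fun y => ⟨(y : G) * (x ^ i * (y⁻¹ : Q0) * (x ^ i)⁻¹), Q0.mul_mem y.2 (hxQ y⁻¹)⟩
      have hθ : Function.Bijective θ := by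
        rw [← Finite.injective_iff_bijective]
        intro a b e
        have e' : (a : G) * (x ^ i * (a : G)⁻¹ * (x ^ i)⁻¹) = (b : G) * (x ^ i * (b : G)⁻¹ * (x ^ i)⁻¹) := congrArg Subtype.val e
        have h5 : ((b : G)⁻¹ * a) = 1 := hfree i hi.1 hi.2 _ (Q0.mul_mem (Q0.inv_mem b.2) a.2) (by
          calc x ^ i * ((b : G)⁻¹ * a) = (b : G)⁻¹ * ((b : G) * (x ^ i * (b : G)⁻¹ * (x ^ i)⁻¹)) * x ^ i * a := by group
            _ = (b : G)⁻¹ * ((a : G) * (x ^ i * (a : G)⁻¹ * (x ^ i)⁻¹)) * x ^ i * a := by rw [e']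
            _ = _ := by group)
        exact Subtype.ext (inv_mul_eq_one.mp h5).symm
      rw [hS]
      refine (Fintype.prod_equiv (Equiv.ofBijective θ hθ) _ _ fun y => congrArg ψ (Subtype.ext ?_)).symm
      simp only [hc, Equiv.ofBijective_apply, θ, yL, xL, Subgroup.coe_mul, Subgroup.coe_inv, SubgroupClass.coe_pow]
      group
  refine hQPc ?_
  refine Coprime.le_centralizer_of_forall_mem_frattini hQP ?_ fun a ha v hv => ?_
  · obtain ⟨j, hj⟩ := IsPGroup.iff_card.mp (hPp.to_subgroup (frattini ↥P))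
    rw [hj, hQcard]
    refine Nat.Coprime.pow _ _ ((Nat.coprime_primes hq hp).mpr fun e => ?_)
    subst e
    refine hQPc fun y hy => ?_
    exfalso
    obtain ⟨j', hj'⟩ := IsPGroup.iff_card.mp hPp
    rcases j' with _ | j'
    · rw [pow_zero, Subgroup.card_eq_one] at hj'
      exact hQPc (by rw [hj']; intro z _ t ht; rw [Subgroup.mem_bot.mp ht, one_mul, mul_one])
    · exact hqN ((dvd_pow_self q (by omega)).trans (hj' ▸ Subgroup.card_dvd_of_le hPN))
  · set zz : Q0 := ⟨a, ha⟩
    set u : P := ⟨v, hv⟩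
    have h6 := hmain (c (yL zz) u)
    rw [Finset.prod_congr rfl fun i _ => show S (c (xL ^ i) (c (yL zz) u)) = S (c (xL ^ i) u) from ?_, ← hmain u, mul_left_inj] at h6
    · have hcop2 : (Nat.card Q0).Coprime (Nat.card (↥P ⧸ frattini ↥P)) := by
        obtain ⟨j, hj⟩ := IsPGroup.iff_card.mp (hPp.to_quotient (frattini ↥P))
        rw [hj, hQcard]
        refine Nat.Coprime.pow _ _ ((Nat.coprime_primes hq hp).mpr fun e => ?_)
        subst e
        obtain ⟨j', hj'⟩ := IsPGroup.iff_card.mp hPp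
        rcases j' with _ | j'
        · rw [pow_zero, Subgroup.card_eq_one] at hj'
          exact hQPc (by rw [hj']; intro z _ t ht; rw [Subgroup.mem_bot.mp ht, one_mul, mul_one])
        · exact hqN ((dvd_pow_self q (by omega)).trans (hj' ▸ Subgroup.card_dvd_of_le hPN))
      have h7 : ψ (c (yL zz) u) = ψ u := (powCoprime hcop2.symm).injective h6
      refine ⟨c (yL zz) u * u⁻¹, ?_, rfl⟩
      rw [SetLike.mem_coe, ← QuotientGroup.eq_one_iff]
      change ψ (c (yL zz) u * u⁻¹) = 1
      rw [map_mul, map_inv, h7, mul_inv_cancel]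
    · have hz : x ^ i * (zz : G) * (x ^ i)⁻¹ ∈ Q0 :=
        (Subgroup.mem_normalizer_iff.mp (Subgroup.pow_mem _ hkl i) _).mp zz.2
      rw [show c (xL ^ i) (c (yL zz) u) = c (yL ⟨_, hz⟩) (c (xL ^ i) u) from Subtype.ext (by
        simp only [hc, yL, xL, SubgroupClass.coe_pow]; group), hSinv]

end Cfsg.Agent.S3703
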