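import Cfsg.Statements.S3708
import Cfsg.Agent.Lib.Phan.Pair
import Cfsg.Agent.S3709
import Cfsg.Agent.EqLemmas

set_option autoImplicit false
open Cfsg

namespace Cfsg.Agent.S3708

open Cfsg.Agent.Phan Cfsg.Agent.Unitary

/-- Two SU_2-subgroups with commuting tori generating an SU_3 form a standard pair. -/
theorem standard_of_tori {G : Type*} [Group G] {F : Type*} [Field F] [Fintype F] {q : ℕ}
    (hF : Fintype.card F = q ^ 2) (hq : 4 ≤ q) {A B DA DB : Subgroup G}
    (eA : Cfsg.SU 2 F q ≃* A) (eB : Cfsg.SU 2 F q ≃* B)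
    (hDA : DA ≤ A ∧ IsCyclic DA ∧ Nat.card DA = q + 1)
    (hDB : DB ≤ B ∧ IsCyclic DB ∧ Nat.card DB = q + 1)
    (hD : ∀ x ∈ DA, ∀ y ∈ DB, x * y = y * x)
    (ε : ↥(A ⊔ B) ≃* ↥(Cfsg.SU 3 F q)) : Cfsg.IsStandardUnitaryPair (A ⊔ B) A B F q := by
  classical
  let fA := ε.toMonoidHom.comp ((Subgroup.inclusion (le_sup_left : A ≤ A ⊔ B)).comp eA.toMonoidHom)
  let fB := ε.toMonoidHom.comp ((Subgroup.inclusion (le_sup_right : B ≤ A ⊔ B)).comp eB.toMonoidHom)
  have hA : Function.Injective fA :=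
    ε.injective.comp ((Subgroup.inclusion_injective (le_sup_left : A ≤ A ⊔ B)).comp eA.injective)
  have hB : Function.Injective fB :=
    ε.injective.comp ((Subgroup.inclusion_injective (le_sup_right : B ≤ A ⊔ B)).comp eB.injective)
  have mem_A : ∀ x, x ∈ fA.range ↔ (ε.symm x : G) ∈ A := fun x => by
    constructor
    · rintro ⟨g, rfl⟩
      rw [show ε.symm (fA g) = Subgroup.inclusion le_sup_left (eA g) from ε.symm_apply_apply _]
      exact (eA g).2
    · intro h
      refine ⟨eA.symm ⟨_, h⟩, ?_⟩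
      show ε (Subgroup.inclusion le_sup_left (eA (eA.symm ⟨_, h⟩))) = x
      rw [eA.apply_symm_apply]
      exact ε.apply_symm_apply x
  have mem_B : ∀ x, x ∈ fB.range ↔ (ε.symm x : G) ∈ B := fun x => by
    constructor
    · rintro ⟨g, rfl⟩
      rw [show ε.symm (fB g) = Subgroup.inclusion le_sup_right (eB g) from ε.symm_apply_apply _]
      exact (eB g).2
    · intro h
      refine ⟨eB.symm ⟨_, h⟩, ?_⟩
      show ε (Subgroup.inclusion le_sup_right (eB (eB.symm ⟨_, h⟩))) = x
      rw [eB.apply_symm_apply]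
      exact ε.apply_symm_apply x
  have := hDA.2.1
  have := hDB.2.1
  obtain ⟨a, ha⟩ := IsCyclic.exists_generator (α := DA)
  obtain ⟨b, hb⟩ := IsCyclic.exists_generator (α := DB)
  have hao : orderOf a = q + 1 := by rw [orderOf_eq_card_of_forall_mem_zpowers ha, hDA.2.2]
  have hbo : orderOf b = q + 1 := by rw [orderOf_eq_card_of_forall_mem_zpowers hb, hDB.2.2]
  let a' : ↥(A ⊔ B) := Subgroup.inclusion (hDA.1.trans le_sup_left) a
  let b' : ↥(A ⊔ B) := Subgroup.inclusion (hDB.1.trans le_sup_right) b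
  have hne : fA.range ≠ fB.range := by
    intro h
    have hAB : A = B := by
      ext x
      constructor <;> intro hx
      · have h1 := (mem_B (ε ⟨x, le_sup_left (b := B) hx⟩)).1
          (h ▸ (mem_A _).2 (by rw [ε.symm_apply_apply]; exact hx))
        rwa [ε.symm_apply_apply] at h1
      · have h1 := (mem_A (ε ⟨x, le_sup_right (a := A) hx⟩)).1
          (h.symm ▸ (mem_B _).2 (by rw [ε.symm_apply_apply]; exact hx))
        rwa [ε.symm_apply_apply] at h1
    have htop : fA.range = ⊤ := eq_top_iff.2 fun x _ => by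
      refine (mem_A x).2 ?_
      have h1 := (ε.symm x).2
      exact (show A ⊔ B ≤ A from sup_le le_rfl hAB.ge) h1
    obtain ⟨w, hw, hfix⟩ := exists_fixed_unit hF hq (MonoidHom.ofInjective hA)
    obtain ⟨g, hg⟩ := exists_move_three hF (by omega) hw
    obtain ⟨W, hW1, -⟩ := exists_swap_two hF
    have hmem : g * emb c12 W * g⁻¹ ∈ fixV w := by rw [← hfix, htop]; trivial
    rw [mem_fixV, suAct_mul, suAct_mul, suAct_inv_of hg, ← c12_one, suAct_emb_single, hW1,
      ext_single, c12_zero] at hmem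
    have h2 := suAct_inv_of hmem
    rw [suAct_inv_of hg] at h2
    have h3 := congrFun h2 1
    simp at h3
  obtain ⟨φ, h1, h2⟩ := exists_standard hF hq (MonoidHom.ofInjective hA) (MonoidHom.ofInjective hB)
    (a := ε a') (b := ε b') ((mem_A _).2 (by rw [ε.symm_apply_apply]; exact hDA.1 a.2))
    (by rw [show ε a' = ε.toMonoidHom a' from rfl, orderOf_injective ε.toMonoidHom ε.injective,
      orderOf_injective _ (Subgroup.inclusion_injective _), hao])
    ((mem_B _).2 (by rw [ε.symm_apply_apply]; exact hDB.1 b.2))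
    (by rw [show ε b' = ε.toMonoidHom b' from rfl, orderOf_injective ε.toMonoidHom ε.injective,
      orderOf_injective _ (Subgroup.inclusion_injective _), hbo])
    (by rw [← map_mul, ← map_mul]; exact congrArg ε (Subtype.ext (hD _ a.2 _ b.2))) hne
  refine Or.inl ⟨φ.trans ε.symm, ?_, ?_⟩
  · rw [show (A ⊔ B).subtype.comp (φ.trans ε.symm).toMonoidHom =
      ((A ⊔ B).subtype.comp ε.symm.toMonoidHom).comp φ.toMonoidHom from rfl, ← Subgroup.map_map, h1]
    ext x
    constructor
    · rintro ⟨y, hy, rfl⟩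
      exact (mem_A y).1 hy
    · intro hx
      refine ⟨ε ⟨x, le_sup_left (b := B) hx⟩, (mem_A _).2 ?_, ?_⟩
      · rw [ε.symm_apply_apply]; exact hx
      · show ((ε.symm (ε _)) : G) = x
        rw [ε.symm_apply_apply]
  · rw [show (A ⊔ B).subtype.comp (φ.trans ε.symm).toMonoidHom =
      ((A ⊔ B).subtype.comp ε.symm.toMonoidHom).comp φ.toMonoidHom from rfl, ← Subgroup.map_map, h2]
    ext x
    constructor
    · rintro ⟨y, hy, rfl⟩
      exact (mem_B y).1 hy
    · intro hx
      refine ⟨ε ⟨x, le_sup_right (a := A) hx⟩, (mem_B _).2 ?_, ?_⟩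
      · rw [ε.symm_apply_apply]; exact hx
      · show ((ε.symm (ε _)) : G) = x
        rw [ε.symm_apply_apply]

/-- Phan's recognition of unitary groups. Let F be a finite field with q² elements, q > 4, and n ≥ 2. Let G be a group generated by subgroups U_0, …, U_{n−1}, each isomorphic to the special unitary group SU(2, q²) (determinant-one isometries of the standard Hermitian form in two variables over F), and let D_i ≤ U_i be cyclic subgroups of order q + 1. Suppose that U_i and U_j commute elementwise whenever the indices differ by at least 2, that the subgroup generated by U_i and U_{i+1} is isomorphic to SU(3, q²) for each i, and that D_i and D_j commute elementwise for all i, j. Then G is a homomorphic image of SU(n+1, q²). (Generation of G by the U_i is part of the hypothesis; G is not assumed finite.) -/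
theorem result {G : Type*} [Group G] (n : ℕ) (hn : 2 ≤ n)
    (F : Type*) [Field F] [Fintype F] (q : ℕ) (hq : 4 < q) (hF : Fintype.card F = q ^ 2)
    (U : Fin n → Subgroup G) (e : ∀ i, ↥(Cfsg.SU 2 F q) ≃* ↥(U i)) (hgen : ⨆ i, U i = ⊤)
    (D : Fin n → Subgroup G) (hD : ∀ i, D i ≤ U i ∧ IsCyclic ↥(D i) ∧ Nat.card ↥(D i) = q + 1)
    (h1 : ∀ i j : Fin n, (i : ℕ) + 2 ≤ j → ∀ x ∈ U i, ∀ y ∈ U j, x * y = y * x)
    (h2 : ∀ i j : Fin n, (i : ℕ) + 1 = j → Nonempty (↥(U i ⊔ U j) ≃* ↥(Cfsg.SU 3 F q)))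
    (h3 : ∀ i j : Fin n, i ≠ j → ∀ x ∈ D i, ∀ y ∈ D j, x * y = y * x) :
    ∃ f : ↥(Cfsg.SU (n + 1) F q) →* G, Function.Surjective f := by
  rcases Nat.eq_or_lt_of_le hn with hn2 | hn3
  · subst hn2
    obtain ⟨ε⟩ := h2 0 1 rfl
    refine ⟨(U 0 ⊔ U 1).subtype.comp ε.symm.toMonoidHom, fun x => ?_⟩
    have hx : x ∈ U 0 ⊔ U 1 := by
      have htop : (⊤ : Subgroup G) ≤ U 0 ⊔ U 1 := hgen ▸ iSup_le fun i => by
        fin_cases i
        · exact le_sup_left
        · exact le_sup_right
      exact htop (Subgroup.mem_top x)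
    obtain ⟨y, hy⟩ := ε.symm.surjective ⟨x, hx⟩
    exact ⟨y, congrArg Subtype.val hy⟩
  refine Cfsg.Agent.S3709.result n (by omega) F q (by omega) hF U e (fun i j => U i ⊔ U j) h1
    (fun i j hij => ?_) (by rw [hgen, top_sup_eq])
  obtain ⟨ε⟩ := h2 i j hij
  exact standard_of_tori hF (by omega) (e i) (e j) (hD i) (hD j)
    (h3 i j (fun h => by rw [h] at hij; omega)) ε

end Cfsg.Agent.S3708
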