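import Cfsg.Statements.S3710
import Cfsg.Agent.Lib.Phan.Three
import Cfsg.Agent.EqLemmas

set_option autoImplicit false
open Cfsg

namespace Cfsg.Agent.S3710

/-- Recognition of unitary groups over the field with 9 elements from a weak Phan system. Let F be a field with 9 elements and n ≥ 4. Let G be a group with subgroups U_0, …, U_{n−1}, each isomorphic to SU(2, 9), and, for consecutive indices, subgroups V_{i,i+1} in which U_i and U_{i+1} form a standard pair (via an isomorphism from SU(3, 9) or PSU(3, 9) carrying the block-diagonal subgroups, or their images, onto U_i and U_{i+1}); suppose U_i and U_j commute elementwise whenever the indices differ by at least 2, that G is generated by the U_i and the V_{i,i+1}, and moreover that for each i the subgroup generated by V_{i,i+1} and V_{i+1,i+2} is a homomorphic image of SU(4, 9). Then G is a homomorphic image of SU(n+1, 9). (G is not assumed finite.) -/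
theorem result {G : Type*} [Group G] (n : ℕ) (hn : 4 ≤ n)
    (F : Type*) [Field F] [Fintype F] (hF : Fintype.card F = 9)
    (U : Fin n → Subgroup G) (e : ∀ i, ↥(Cfsg.SU 2 F 3) ≃* ↥(U i))
    (V : Fin n → Fin n → Subgroup G)
    (h1 : ∀ i j : Fin n, (i : ℕ) + 2 ≤ j → ∀ x ∈ U i, ∀ y ∈ U j, x * y = y * x)
    (h2 : ∀ i j : Fin n, (i : ℕ) + 1 = j → Cfsg.IsStandardUnitaryPair (V i j) (U i) (U j) F 3)
    (hgen : (⨆ i, U i) ⊔ (⨆ (i : Fin n) (j : Fin n) (_ : (i : ℕ) + 1 = j), V i j) = ⊤)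
    (h4 : ∀ i j k : Fin n, (i : ℕ) + 1 = j → (j : ℕ) + 1 = k →
      ∃ g : ↥(Cfsg.SU 4 F 3) →* ↥(V i j ⊔ V j k), Function.Surjective g) :
    ∃ f : ↥(Cfsg.SU (n + 1) F 3) →* G, Function.Surjective f := by
  classical
  have hF9 : Fintype.card F = 3 ^ 2 := by rw [hF]; norm_num
  obtain ⟨m, rfl⟩ : ∃ m, n = m + 2 := ⟨n - 2, by omega⟩
  let U' : ℕ → Subgroup G := fun i => if h : i < m + 2 then U ⟨i, h⟩ else ⊥
  let V' : ℕ → Subgroup G := fun i =>
    if h : i + 1 < m + 2 then V ⟨i, by omega⟩ ⟨i + 1, h⟩ else ⊥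
  have hgood : ∀ i, i ≤ m →
      ∃ φ : Cfsg.SU 3 F 3 →* G, Agent.Phan.IsGood φ (V' i) (U' i) (U' (i + 1)) := fun i hi => by
    have h0 : i < m + 2 := by omega
    have hi' : i + 1 < m + 2 := by omega
    simp only [U', V', h0, hi', dite_true]
    exact Agent.Phan.exists_good hF9 (h2 _ _ rfl)
  have hcomm : ∀ i j, i + 2 ≤ j → j ≤ m + 1 → ∀ x ∈ U' i, ∀ y ∈ U' j, x * y = y * x :=
    fun i j h hj x hx y hy => by
      have hi' : i < m + 2 := by omega
      have hj' : j < m + 2 := by omega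
      simp only [U', hi', hj', dite_true] at hx hy
      exact h1 _ _ (by simpa using h) x hx y hy
  have key : ∀ k, k + 1 ≤ m →
      ∃ ψ : Cfsg.SU (k + 1 + 3) F 3 →* G, Agent.Phan.ChainState U' V' (k + 1) ψ := by
    intro k hk
    induction k with
    | zero =>
      obtain ⟨φ, hφ⟩ := hgood 0 (by omega)
      obtain ⟨φ', hφ'⟩ := hgood 1 (by omega)
      have e0 : V' 0 = V ⟨0, by omega⟩ ⟨1, by omega⟩ := by
        have h : 0 + 1 < m + 2 := by omega
        simp only [V', h, dite_true]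
      have e1 : V' 1 = V ⟨1, by omega⟩ ⟨2, by omega⟩ := by
        have h : 1 + 1 < m + 2 := by omega
        simp only [V', h, dite_true]
      obtain ⟨g, hg⟩ := h4 ⟨0, by omega⟩ ⟨1, by omega⟩ ⟨2, by omega⟩ rfl rfl
      refine Agent.Phan.exists_base_three hF9 hφ hφ' (hcomm 0 2 le_rfl (by omega))
        ((V ⟨0, by omega⟩ ⟨1, by omega⟩ ⊔ V ⟨1, by omega⟩ ⟨2, by omega⟩).subtype.comp g) ?_
      rw [MonoidHom.range_comp, MonoidHom.range_eq_top.2 hg, ← MonoidHom.range_eq_map,
        Subgroup.range_subtype, e0, e1]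
    | succ k ih =>
      obtain ⟨ψ, hψ⟩ := ih (by omega)
      obtain ⟨χ₀, hχ₀⟩ := hgood (k + 2) (by omega)
      obtain ⟨χ, hχ, hag⟩ := Agent.Phan.exists_align hF9 hψ.last hχ₀
        (hcomm (k + 1) (k + 3) (by omega) (by omega))
      exact Agent.Phan.chain_step hF9 le_rfl (fun h => by omega) hψ hχ hag
        (fun i hi => hcomm i (k + 3) (by omega) (by omega))
  obtain ⟨k, rfl⟩ : ∃ k, m = k + 1 := ⟨m - 1, by omega⟩
  obtain ⟨ψ, hψ⟩ := key k le_rfl
  refine ⟨ψ, Agent.Phan.chain_surjective hψ hgen (sup_le (iSup_le fun i => ?_)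
    (iSup_le fun i => iSup_le fun j => iSup_le fun hij => ?_))⟩
  · refine le_sup_of_le_left (le_iSup₂_of_le (i : ℕ) (by omega) ?_)
    simp [U', i.2]
  · refine le_sup_of_le_right (le_iSup₂_of_le (i : ℕ) (by omega) ?_)
    have hi' : (i : ℕ) + 1 < k + 1 + 2 := by omega
    simp only [V', hi', dite_true]
    rw [show (⟨(i : ℕ) + 1, hi'⟩ : Fin (k + 1 + 2)) = j from Fin.ext hij]

end Cfsg.Agent.S3710
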