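import Cfsg.Statements.S3711
import Cfsg.Agent.Lib.Phan.TwoChain
import Cfsg.Agent.EqLemmas

set_option autoImplicit false
open Cfsg

namespace Cfsg.Agent.S3711

/-- Recognition of unitary groups over the field with 4 elements from a weak Phan system. Let F be a field with 4 elements and n ≥ 4. Let G be a group with subgroups U_0, …, U_{n−1}, each isomorphic to SU(2, 4), and, for consecutive indices, subgroups V_{i,i+1} in which U_i and U_{i+1} form a standard pair (via an isomorphism from SU(3, 4) or PSU(3, 4) carrying the block-diagonal subgroups, or their images, onto U_i and U_{i+1}); suppose U_i and U_j commute elementwise whenever the indices differ by at least 2, that G is generated by the U_i and the V_{i,i+1}, that for each i the subgroup generated by V_{i,i+1} and V_{i+1,i+2} is a homomorphic image of SU(4, 4), that U_i and V_{j,j+1} commute elementwise whenever i ≤ j − 2 or i ≥ j + 3, and that V_{i,i+1} and V_{k,k+1} commute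 elementwise whenever k ≥ i + 3. Then G is a homomorphic image of SU(n+1, 4). (G is not assumed finite.) -/
theorem result {G : Type*} [Group G] (n : ℕ) (hn : 4 ≤ n)
    (F : Type*) [Field F] [Fintype F] (hF : Fintype.card F = 4)
    (U : Fin n → Subgroup G) (e : ∀ i, ↥(Cfsg.SU 2 F 2) ≃* ↥(U i))
    (V : Fin n → Fin n → Subgroup G)
    (h1 : ∀ i j : Fin n, (i : ℕ) + 2 ≤ j → ∀ x ∈ U i, ∀ y ∈ U j, x * y = y * x)
    (h2 : ∀ i j : Fin n, (i : ℕ) + 1 = j → Cfsg.IsStandardUnitaryPair (V i j) (U i) (U j) F 2)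
    (hgen : (⨆ i, U i) ⊔ (⨆ (i : Fin n) (j : Fin n) (_ : (i : ℕ) + 1 = j), V i j) = ⊤)
    (h4 : ∀ i j k : Fin n, (i : ℕ) + 1 = j → (j : ℕ) + 1 = k →
      ∃ g : ↥(Cfsg.SU 4 F 2) →* ↥(V i j ⊔ V j k), Function.Surjective g)
    (h5 : ∀ i j k : Fin n, (j : ℕ) + 1 = k → ((i : ℕ) + 2 ≤ j ∨ (k : ℕ) + 2 ≤ i) →
      ∀ x ∈ U i, ∀ y ∈ V j k, x * y = y * x)
    (h6 : ∀ i j k l : Fin n, (i : ℕ) + 1 = j → (k : ℕ) + 1 = l → (j : ℕ) + 2 ≤ k →
      ∀ x ∈ V i j, ∀ y ∈ V k l, x * y = y * x) :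
    ∃ f : ↥(Cfsg.SU (n + 1) F 2) →* G, Function.Surjective f := by
  classical
  have hF4 : Fintype.card F = 2 ^ 2 := by rw [hF]; norm_num
  obtain ⟨m, rfl⟩ : ∃ m, n = m + 3 := ⟨n - 3, by omega⟩
  let U' : ℕ → Subgroup G := fun i => if h : i < m + 3 then U ⟨i, h⟩ else ⊥
  let V' : ℕ → Subgroup G := fun i =>
    if h : i + 1 < m + 3 then V ⟨i, by omega⟩ ⟨i + 1, h⟩ else ⊥
  have eU : ∀ i (h : i < m + 3), U' i = U ⟨i, h⟩ := fun i h => dif_pos h
  have eV : ∀ i (h : i + 1 < m + 3), V' i = V ⟨i, by omega⟩ ⟨i + 1, h⟩ := fun i h => dif_pos h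
  obtain ⟨ψ, hψ⟩ := Agent.Phan.exists_chain_two hF4 (U := U') (V := V') m
    (fun i j h hj x hx y hy => by
      rw [eU i (by omega)] at hx; rw [eU j (by omega)] at hy
      exact h1 _ _ (show i + 2 ≤ j from h) x hx y hy)
    (fun i j h hj x hx y hy => by
      rw [eV i (by omega)] at hx; rw [eU j (by omega)] at hy
      exact (h5 _ _ _ rfl (Or.inr (show i + 1 + 2 ≤ j by omega)) y hy x hx).symm)
    (fun i j h hj x hx y hy => by
      rw [eU i (by omega)] at hx; rw [eV j (by omega)] at hy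
      exact h5 _ _ _ rfl (Or.inl (show i + 2 ≤ j from h)) x hx y hy)
    (fun i j h hj x hx y hy => by
      rw [eV i (by omega)] at hx; rw [eV j (by omega)] at hy
      exact h6 _ _ _ _ rfl rfl (show i + 1 + 2 ≤ j by omega) x hx y hy)
    (fun i hi => by
      rw [eV i (by omega), eU i (by omega), eU (i + 1) (by omega)]
      exact Agent.Phan.exists_good hF4 (h2 _ _ rfl))
    (fun i hi => by
      rw [eV i (by omega), eV (i + 1) (by omega)]
      obtain ⟨g, hg⟩ := h4 ⟨i, by omega⟩ ⟨i + 1, by omega⟩ ⟨i + 1 + 1, by omega⟩ rfl rfl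
      exact ⟨(V ⟨i, _⟩ ⟨i + 1, _⟩ ⊔ V ⟨i + 1, _⟩ ⟨i + 1 + 1, _⟩).subtype.comp g, by
        rw [MonoidHom.range_comp, MonoidHom.range_eq_top.2 hg, ← MonoidHom.range_eq_map,
          Subgroup.range_subtype]⟩)
  refine ⟨ψ, ?_⟩
  rw [← MonoidHom.range_eq_top, eq_top_iff, ← hgen]
  refine sup_le (iSup_le fun i => ?_) (iSup_le fun i => iSup_le fun j => iSup_le fun hij => ?_)
  · have hi : (i : ℕ) + 2 ≤ m + 4 := by omega
    have h := hψ.block i hi
    rw [eU i i.2] at h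
    rw [show U i = U ⟨(i : ℕ), i.2⟩ from rfl, ← h]
    rintro _ ⟨g, rfl⟩
    exact ⟨_, rfl⟩
  · have hi : (i : ℕ) + 1 < m + 3 := by omega
    have h := hψ.window i (by omega)
    rw [eV i hi, show (⟨(i : ℕ) + 1, hi⟩ : Fin (m + 3)) = j from Fin.ext hij] at h
    rw [show V i j = V ⟨(i : ℕ), i.2⟩ j from rfl, ← h]
    rintro _ ⟨g, rfl⟩
    exact ⟨_, rfl⟩

end Cfsg.Agent.S3711
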