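import Cfsg.Statements.S3713
import Cfsg.Agent.EqLemmas
import Cfsg.Agent.Lib.SpAmalgam.Main

set_option autoImplicit false
open Cfsg Cfsg.Agent.SpAmalgam

namespace Cfsg.Agent.S3713

/-- A presentation of the symplectic group as the universal completion of an amalgam of small subgroups. Let F be a field with more than two elements, n ≥ 2, and Sp the group of 2n × 2n matrices over F preserving the standard alternating form, acting on column vectors; write e_k, f_k for the standard basis vectors of the two halves (a hyperbolic basis). For each k let S_k be the subgroup of Sp fixing e_l and f_l for all l ≠ k (a copy of SL(2, F) on the plane of e_k, f_k), and for each i with i + 1 < n let M_i be the subgroup fixing every e_l and fixing f_l for all l other than i, i+1 (an abelian group isomorphic to the additive group of F³). Then Sp is the universal completion of the amalgam formed by the S_k, the M_i and the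 subgroups generated by two of them: for every group H and homomorphisms σ_k : S_k → H, μ_i : M_i → H such that for each pair of these subgroups some homomorphism on the subgroup they generate restricts to the given ones, there is exactly one homomorphism Sp → H restricting to every σ_k and μ_i. -/
theorem result
    (F : Type*) [Field F] (hF : ∃ a : F, a ≠ 0 ∧ a ≠ 1) (n : ℕ) (hn : 2 ≤ n)
    (S M : Fin n → Subgroup ↥(Matrix.symplecticGroup (Fin n) F))
    (hS : ∀ j : Fin n, S j = Subgroup.closure {A : ↥(Matrix.symplecticGroup (Fin n) F) | ∀ k : Fin n, k ≠ j →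
      ((A : ↥(Matrix.symplecticGroup (Fin n) F)) : Matrix (Fin n ⊕ Fin n) (Fin n ⊕ Fin n) F).mulVec (Pi.single (Sum.inl k) (1 : F)) = (Pi.single (Sum.inl k) (1 : F)) ∧ ((A : ↥(Matrix.symplecticGroup (Fin n) F)) : Matrix (Fin n ⊕ Fin n) (Fin n ⊕ Fin n) F).mulVec (Pi.single (Sum.inr k) (1 : F)) = (Pi.single (Sum.inr k) (1 : F))})
    (hM : ∀ i : Fin n, (i : ℕ) + 1 < n → M i = Subgroup.closure {A : ↥(Matrix.symplecticGroup (Fin n) F) |
      (∀ k : Fin n, ((A : ↥(Matrix.symplecticGroup (Fin n) F)) : Matrix (Fin n ⊕ Fin n) (Fin n ⊕ Fin n) F).mulVec (Pi.single (Sum.inl k) (1 : F)) = (Pi.single (Sum.inl k) (1 : F))) ∧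
        ∀ k : Fin n, (k : ℕ) ≠ i → (k : ℕ) ≠ (i : ℕ) + 1 → ((A : ↥(Matrix.symplecticGroup (Fin n) F)) : Matrix (Fin n ⊕ Fin n) (Fin n ⊕ Fin n) F).mulVec (Pi.single (Sum.inr k) (1 : F)) = (Pi.single (Sum.inr k) (1 : F))})
    {H : Type*} [Group H] (σ : ∀ j : Fin n, ↥(S j) →* H) (μ : ∀ i : Fin n, ↥(M i) →* H)
    (hSS : ∀ j l : Fin n, j ≠ l → ∃ Ψ : ↥(S j ⊔ S l) →* H,
      (∀ (g : ↥(Matrix.symplecticGroup (Fin n) F)) (hg : g ∈ S j), Ψ ⟨g, Subgroup.mem_sup_left hg⟩ = σ j ⟨g, hg⟩) ∧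
        (∀ (g : ↥(Matrix.symplecticGroup (Fin n) F)) (hg : g ∈ S l), Ψ ⟨g, Subgroup.mem_sup_right hg⟩ = σ l ⟨g, hg⟩))
    (hMM : ∀ i i' : Fin n, i ≠ i' → (i : ℕ) + 1 < n → (i' : ℕ) + 1 < n → ∃ Ψ : ↥(M i ⊔ M i') →* H,
      (∀ (g : ↥(Matrix.symplecticGroup (Fin n) F)) (hg : g ∈ M i), Ψ ⟨g, Subgroup.mem_sup_left hg⟩ = μ i ⟨g, hg⟩) ∧
        (∀ (g : ↥(Matrix.symplecticGroup (Fin n) F)) (hg : g ∈ M i'), Ψ ⟨g, Subgroup.mem_sup_right hg⟩ = μ i' ⟨g, hg⟩))
    (hMS : ∀ i j : Fin n, (i : ℕ) + 1 < n → ∃ Ψ : ↥(M i ⊔ S j) →* H,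
      (∀ (g : ↥(Matrix.symplecticGroup (Fin n) F)) (hg : g ∈ M i), Ψ ⟨g, Subgroup.mem_sup_left hg⟩ = μ i ⟨g, hg⟩) ∧
        (∀ (g : ↥(Matrix.symplecticGroup (Fin n) F)) (hg : g ∈ S j), Ψ ⟨g, Subgroup.mem_sup_right hg⟩ = σ j ⟨g, hg⟩)) :
    ∃! Φ : ↥(Matrix.symplecticGroup (Fin n) F) →* H,
      (∀ (j : Fin n) (g : ↥(Matrix.symplecticGroup (Fin n) F)) (hg : g ∈ S j), Φ g = σ j ⟨g, hg⟩) ∧
        (∀ (i : Fin n), (i : ℕ) + 1 < n → ∀ (g : ↥(Matrix.symplecticGroup (Fin n) F)) (hg : g ∈ M i), Φ g = μ i ⟨g, hg⟩) := by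
  have hSeq : ∀ k, S k = Sn F k := fun k => by
    rw [hS k, ← Subgroup.closure_eq (Sn F k)]
    congr 1
    ext A
    rw [SetLike.mem_coe, mem_Kfix]
    exact Iff.rfl
  have hMeq : ∀ i r : Fin n, (i : ℕ) + 1 = r → M i = Mn F i r := fun i r h => by
    rw [hM i (h ▸ r.2), ← Subgroup.closure_eq (Mn F i r)]
    congr 1
    ext A
    rw [SetLike.mem_coe, mem_Mn]
    refine and_congr Iff.rfl (forall_congr' fun l => ?_)
    have h1 : ((l : ℕ) ≠ i) ↔ l ≠ i := not_congr Fin.val_inj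
    have h2 : ((l : ℕ) ≠ (i : ℕ) + 1) ↔ l ≠ r := by rw [h]; exact not_congr Fin.val_inj
    rw [h1, h2]
    exact Iff.rfl
  let A : Amalgam F n H :=
    { small := .inl hF
      σ := fun k => (σ k).comp (Subgroup.inclusion (hSeq k).ge)
      μ := fun i r h => (μ i).comp (Subgroup.inclusion (hMeq i r h).ge)
      hSS := fun k l hkl => by
        obtain ⟨Ψ, h1, h2⟩ := hSS k l hkl
        exact ⟨Ψ.comp (Subgroup.inclusion (sup_le_sup (hSeq k).ge (hSeq l).ge)),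
          fun g hg => h1 g ((hSeq k).ge hg), fun g hg => h2 g ((hSeq l).ge hg)⟩
      hMM := fun i r h i' r' h' hne => by
        obtain ⟨Ψ, h1, h2⟩ := hMM i i' hne (h ▸ r.2) (h' ▸ r'.2)
        exact ⟨Ψ.comp (Subgroup.inclusion (sup_le_sup (hMeq i r h).ge (hMeq i' r' h').ge)),
          fun g hg => h1 g ((hMeq i r h).ge hg), fun g hg => h2 g ((hMeq i' r' h').ge hg)⟩
      hMS := fun i r h k => by
        obtain ⟨Ψ, h1, h2⟩ := hMS i k (h ▸ r.2)
        exact ⟨Ψ.comp (Subgroup.inclusion (sup_le_sup (hMeq i r h).ge (hSeq k).ge)),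
          fun g hg => h1 g ((hMeq i r h).ge hg), fun g hg => h2 g ((hSeq k).ge hg)⟩ }
  obtain ⟨Φ, ⟨h1, h2⟩, huniq⟩ := A.existsUnique
  refine ⟨Φ, ⟨fun k g hg => h1 k g ((hSeq k).le hg),
    fun i hi g hg => h2 i ⟨(i : ℕ) + 1, hi⟩ rfl g ((hMeq i ⟨(i : ℕ) + 1, hi⟩ rfl).le hg)⟩, ?_⟩
  rintro Φ' ⟨h1', h2'⟩
  exact huniq Φ' ⟨fun k g hg => h1' k g ((hSeq k).ge hg),
    fun i r h g hg => h2' i (h ▸ r.2) g ((hMeq i r h).ge hg)⟩

end Cfsg.Agent.S3713
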