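import Cfsg.Statements.S3717
import Cfsg.Agent.S3331
import Cfsg.Agent.Lib.M11Local.Setup
import Cfsg.Agent.Lib.M11Local.CaseA
import Cfsg.Agent.Lib.M11Local.CaseB
import Cfsg.Agent.Lib.M11Local.CaseC

set_option autoImplicit false
open Cfsg

namespace Cfsg.Agent.S3717

open Subgroup Cfsg.Agent.M11Local

/-- The quotient of `C(s)` by `⟨s⟩` is one of the groups of `S3331`, and only the nilpotent case occurs. -/
theorem of_local {G : Type*} [Group G] [Finite G] [IsSimpleGroup G] (hG : ¬ IsMulCommutative G)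
    (P : Sylow 3 G) (hP : Nat.card (P : Subgroup G) = 9) {g g' a s : G}
    (L : Local (P : Subgroup G) g g' a s) : Cfsg.Spor.IsoM11 G := by
  classical
  let H : Subgroup G := centralizer ({s} : Set G)
  let sH : H := ⟨s, mem_centralizer_singleton_iff.2 rfl⟩
  let gH : H := ⟨g, mem_centralizer_singleton_iff.2 L.sg.symm⟩
  let zH : H := ⟨a ^ 4, mem_centralizer_singleton_iff.2 L.s_z.symm⟩
  let K : Subgroup H := zpowers sH
  have hKc : ∀ k ∈ K, ∀ x : H, x * k = k * x := fun k hk x => by
    obtain ⟨n, rfl⟩ := mem_zpowers_iff.1 hk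
    exact ((show Commute x sH from Subtype.ext (mem_centralizer_singleton_iff.1 x.2)).zpow_right n).eq
  haveI hKn : K.Normal := ⟨fun k hk x => by rw [hKc k hk x, mul_inv_cancel_right]; exact hk⟩
  let p : H →* H ⧸ K := QuotientGroup.mk' K
  have hp : Function.Surjective p := QuotientGroup.mk'_surjective K
  have hpker : ∀ x : H, p x = 1 ↔ (x : G) = 1 ∨ (x : G) = s := by
    intro x
    refine (QuotientGroup.eq_one_iff x).trans ⟨fun h => ?_, fun h => ?_⟩
    · rcases mem_zpowers_sq (show sH * sH = 1 from Subtype.ext L.s_sq) h with e | e <;> rw [e]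
      · exact Or.inl rfl
      · exact Or.inr rfl
    · rcases h with h | h
      · rw [show x = 1 from Subtype.ext h]; exact one_mem K
      · rw [show x = sH from Subtype.ext h]; exact mem_zpowers sH
  have hg3 : p gH ^ 3 = 1 := by
    rw [← map_pow, show gH ^ 3 = 1 from Subtype.ext L.g_cube, map_one]
  have hg1 : p gH ≠ 1 := fun h => by
    rcases (hpker _).1 h with e | e
    · exact L.g_ne e
    · exact L.s_ne (eq_one_of_cube_sq (by rw [← (show g = s from e)]; exact L.g_cube) L.s_sq)
  have hX : Nat.card (zpowers (p gH)) = 3 := by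
    rw [Nat.card_zpowers, orderOf_eq_prime hg3 hg1]
  have hC : centralizer (zpowers (p gH) : Set (H ⧸ K)) = zpowers (p gH) := by
    refine le_antisymm (fun u hu => ?_) (Subgroup.le_centralizer (zpowers (p gH)))
    obtain ⟨x, rfl⟩ := hp u
    have hxg : p gH * p x = p x * p gH := mem_centralizer_iff.1 hu _ (mem_zpowers _)
    have hc : cj (x : G) g = g := by
      have h1 : p (gH⁻¹ * (x * gH * x⁻¹)) = 1 := by
        rw [map_mul, map_mul, map_mul, map_inv, map_inv, ← hxg]; group
      rcases (hpker _).1 h1 with h2 | h2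
      · exact (inv_mul_eq_one.1 h2).symm
      · exfalso
        have h3 : cj (x : G) g = g * s := inv_mul_eq_iff_eq_mul.1 h2
        have h4 : (g * s) ^ 3 = 1 := by rw [← h3, ← cj_pow, L.g_cube]; simp [cj]
        rw [(show Commute g s from L.sg.symm).mul_pow, L.g_cube, one_mul] at h4
        exact L.s_ne (eq_one_of_cube_sq h4 L.s_sq)
    obtain ⟨i, hi | hi⟩ := L.cent3 L.g_cube L.g_ne L.s_sq L.s_ne L.sg (cj_eq_self.1 hc)
      (mem_centralizer_singleton_iff.1 x.2)
    · rw [show x = gH ^ i from Subtype.ext (by push_cast; exact hi), map_pow]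
      exact pow_mem (mem_zpowers _) i
    · rw [show x = gH ^ i * sH from Subtype.ext (by push_cast; exact hi), map_mul,
        (hpker sH).2 (Or.inr rfl), mul_one, map_pow]
      exact pow_mem (mem_zpowers _) i
  rcases Cfsg.Agent.S3331.result (zpowers (p gH)) hX hC with
    ⟨N, hN, hnil, hcop, h3 | ⟨⟨e⟩⟩⟩ | ⟨N, hN, hcomm, hsq, ⟨e⟩⟩ | ⟨⟨e⟩⟩
  · exfalso
    let q : H →* (H ⧸ K) ⧸ N := (QuotientGroup.mk' N).comp p
    have hz : q zH = 1 := by
      have h1 : q zH ^ 3 = 1 := by rw [← h3]; exact pow_card_eq_one'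
      have h2 : q zH * q zH = 1 := by
        rw [← map_mul, show zH * zH = 1 from Subtype.ext L.z_sq, map_one]
      exact eq_one_of_cube_sq h1 h2
    have hzg : q zH * q gH * (q zH)⁻¹ = (q gH)⁻¹ := by
      rw [← map_inv, ← map_inv, ← map_mul, ← map_mul]
      exact congrArg q (Subtype.ext L.z_g)
    rw [hz, one_mul, inv_one, mul_one] at hzg
    have hgN : q gH = 1 := eq_one_of_cube_sq (by rw [← map_pow, show gH ^ 3 = 1 from
      Subtype.ext L.g_cube, map_one]) (by nth_rewrite 1 [hzg]; exact inv_mul_cancel _)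
    have hmem : p gH ∈ N := (QuotientGroup.eq_one_iff (p gH)).1 hgN
    have hd := Subgroup.orderOf_dvd_natCard N hmem
    rw [orderOf_eq_prime hg3 hg1] at hd
    have := Nat.eq_one_of_dvd_coprimes hcop hd dvd_rfl
    norm_num at this
  · let q : H →* Equiv.Perm (Fin 3) := e.toMonoidHom.comp ((QuotientGroup.mk' N).comp p)
    have hq : ∀ x, q x = 1 ↔ p x ∈ N := fun x => by
      show e (QuotientGroup.mk' N (p x)) = 1 ↔ _
      rw [MulEquiv.map_eq_one_iff]
      exact QuotientGroup.eq_one_iff (p x)
    have hker : q.ker = N.comap p := Subgroup.ext fun x => hq x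
    haveI := hnil
    have hnilker : Group.IsNilpotent q.ker := by
      let r : q.ker →* N :=
        MonoidHom.mk' (fun x => ⟨p (x : H), (hq _).1 x.2⟩) fun x y => Subtype.ext (map_mul p _ _)
      refine Subgroup.isNilpotent_of_ker_le_center r fun x hx => mem_center_iff.2 fun y => ?_
      have hxK : (x : H) ∈ K := (QuotientGroup.eq_one_iff (x : H)).1 (congrArg Subtype.val hx)
      exact Subtype.ext (hKc _ hxK y)
    have hpc : ¬ 3 ∣ Nat.card q.ker := by
      intro hd
      rw [hker] at hd
      haveI := Fact.mk Nat.prime_three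
      obtain ⟨x, hx⟩ := exists_prime_orderOf_dvd_card' (G := N.comap p) 3 hd
      rw [← orderOf_coe] at hx
      have hx3 : (x : H) ^ 3 = 1 := hx ▸ pow_orderOf_eq_one (x : H)
      have hpx1 : p (x : H) ≠ 1 := fun h => by
        have hx1 : (x : H) ≠ 1 := fun h => by rw [h, orderOf_one] at hx; omega
        rcases (hpker _).1 h with e1 | e1
        · exact hx1 (Subtype.ext e1)
        · exact L.s_ne (eq_one_of_cube_sq (by
            rw [← e1]; exact congrArg Subtype.val hx3) L.s_sq)
      have hpx := Subgroup.orderOf_dvd_natCard N x.2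
      rw [orderOf_eq_prime (by rw [← map_pow, hx3, map_one]) hpx1] at hpx
      have := Nat.eq_one_of_dvd_coprimes hcop hpx dvd_rfl
      norm_num at this
    let T : TypeA s :=
      { hom := q
        surj := e.surjective.comp ((QuotientGroup.mk'_surjective N).comp hp)
        nil := hnilker
        prime_to := hpc
        ker_s := (hq sH).2 (by rw [(hpker sH).2 (Or.inr rfl)]; exact one_mem N) }
    exact T.iso L hG P hP
  · exfalso
    let f : H ⧸ K →* alternatingGroup (Fin 5) := e.toMonoidHom.comp (QuotientGroup.mk' N)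
    have hf : ∀ u, f u = 1 → u ∈ N := fun u h => by
      rw [show f u = e (QuotientGroup.mk' N u) from rfl, MulEquiv.map_eq_one_iff] at h
      exact (QuotientGroup.eq_one_iff u).1 h
    refine L.caseB hG p hp hpker f (e.surjective.comp (QuotientGroup.mk'_surjective N))
      (fun u v hu hv => congrArg Subtype.val (hcomm.is_comm.comm ⟨u, hf u hu⟩ ⟨v, hf v hv⟩))
      fun u hu => by rw [← pow_two]; exact hsq u (hf u hu)
  · exfalso
    exact L.caseC hG (e.toMonoidHom.comp p) (e.surjective.comp hp) fun x => by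
      rw [← hpker x]
      show e (p x) = 1 ↔ _
      exact MulEquiv.map_eq_one_iff e


/-- Let G be a finite non-abelian simple group with an elementary abelian Sylow 3-subgroup M of order 9 which is self-centralizing (C_G(M) = M), let N = N_G(M), and suppose C_G(g) ≤ N for every nonidentity g ∈ M. If the Sylow 2-subgroups of N are semidihedral of order 16 (order 16, generated by a of order 8 and an involution b with b a b⁻¹ = a³), then G is isomorphic to the Mathieu group of degree 11. -/
theorem result {G : Type*} [Group G] [Finite G] [IsSimpleGroup G] (hG : ¬ IsMulCommutative G) (M : Sylow 3 G) (hM9 : Nat.card ↥(M : Subgroup G) = 9)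
    (hMel : ∀ m ∈ (M : Subgroup G), m ^ 3 = 1)
    (hCM : Subgroup.centralizer ((M : Subgroup G) : Set G) = (M : Subgroup G))
    (N : Subgroup G) (hN : N = Subgroup.normalizer ((M : Subgroup G) : Set G))
    (hCg : ∀ g ∈ (M : Subgroup G), g ≠ 1 → Subgroup.centralizer ({g} : Set G) ≤ N)
    (hS : ∀ S : Sylow 2 ↥N, Nat.card ↥(S : Subgroup ↥N) = 16 ∧
      ∃ a ∈ (S : Subgroup ↥N), ∃ b ∈ (S : Subgroup ↥N), orderOf a = 8 ∧ orderOf b = 2 ∧ b * a * b⁻¹ = a ^ 3) :
    Cfsg.Spor.IsoM11 G := by
  classical
  subst hN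
  let S : Sylow 2 ↥(normalizer ((M : Subgroup G) : Set G)) := default
  obtain ⟨-, a, -, b, -, ha, hb, hab⟩ := hS S
  obtain ⟨g, g', L⟩ := exists_local M hM9 hMel hCM hCg a.2 b.2 ((orderOf_coe a).trans ha)
    ((orderOf_coe b).trans hb) (congrArg Subtype.val hab)
  exact of_local hG M hM9 L

end Cfsg.Agent.S3717
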