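import Cfsg.Statements.S3730
import Cfsg.Agent.EqLemmas
import Cfsg.Agent.Lib.NormEven.Reduce
import Cfsg.Agent.Lib.NormEven.AutTwo

set_option autoImplicit false
open Cfsg

namespace Cfsg.Agent.S3730

/-- Let G be a nontrivial finite group with no nontrivial solvable normal subgroup, such that for every cyclic subgroup X of even order and every nontrivial subgroup Y of X one has N_G(X) = N_G(Y) (every nontrivial subgroup of a cyclic subgroup of even order has the same normalizer as the whole cyclic subgroup). Then G is isomorphic to PSL(2, q) or to PGL(2, q) for some prime power q > 3. -/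
theorem result
    {G : Type*} [Group G] [Finite G] [Nontrivial G]
    (hss : ∀ N : Subgroup G, N.Normal → Group.IsSolvable ↥N → N = ⊥)
    (hii : ∀ X : Subgroup G, IsCyclic ↥X → Even (Nat.card ↥X) → ∀ Y : Subgroup G, Y ≤ X → Y ≠ ⊥ →
      Subgroup.normalizer (X : Set G) = Subgroup.normalizer (Y : Set G)) :
    ∃ (F : Type) (_ : Field F) (_ : Fintype F), 3 < Fintype.card F ∧
      (Nonempty (G ≃* Matrix.ProjectiveSpecialLinearGroup (Fin 2) F) ∨
        Nonempty (G ≃* Matrix.ProjGenLinGroup (Fin 2) F)) := by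
  classical
  have hII := NormEven.II.of_normalizers hii
  obtain ⟨N, hNn, hsimple, hna, hcent⟩ := hII.exists_simple_normal hss
  obtain ⟨F, iF, iF', h3, h4, ⟨e⟩⟩ := (hII.subgroup N).psl_of_simple hna
  refine ⟨F, iF, iF', h3, ?_⟩
  -- `G` acts faithfully on `N`
  let f : G →* MulAut (Matrix.ProjectiveSpecialLinearGroup (Fin (0 + 2)) F) :=
    (MulAut.congr e).toMonoidHom.comp MulAut.conjNormal
  have hf : ∀ g x, f g x = e (MulAut.conjNormal g (e.symm x)) := fun g x => rfl
  have hfN : ∀ n : N, f (n : G) = MulAut.conj (e n) := fun n => MulEquiv.ext fun x => by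
    have hc : MulAut.conjNormal (n : G) (e.symm x) = n * e.symm x * n⁻¹ := Subtype.ext (by simp)
    rw [hf, hc, map_mul, map_mul, map_inv, MulEquiv.apply_symm_apply, MulAut.conj_apply]
  have hinj : Function.Injective f := by
    rw [injective_iff_map_eq_one]
    intro g hg
    rw [← Subgroup.mem_bot, ← hcent, Subgroup.mem_centralizer_iff]
    intro n hn
    have h1 := DFunLike.congr_fun hg (e ⟨n, hn⟩)
    rw [hf, MulEquiv.symm_apply_apply, MulAut.one_apply] at h1
    have h2 := congrArg Subtype.val (e.injective h1)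
    rw [MulAut.conjNormal_apply, mul_inv_eq_iff_eq_mul] at h2
    exact h2.symm
  have hInn : Cfsg.Inn (Matrix.ProjectiveSpecialLinearGroup (Fin (0 + 2)) F) ≤ f.range := by
    rintro _ ⟨x, rfl⟩
    obtain ⟨n, rfl⟩ := e.surjective x
    exact ⟨n, hfN n⟩
  have hIIH : NormEven.II f.range := hII.of_mulEquiv (MonoidHom.ofInjective hinj).symm
  rcases NormEven.eq_inn_or_range f.range hInn hIIH h3 h4 with hle | heq
  · left
    have hsurj : Function.Surjective (N.subtype) := fun g => by
      obtain ⟨x, hx⟩ := hle ⟨g, rfl⟩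
      obtain ⟨n, rfl⟩ := e.surjective x
      exact ⟨n, hinj ((hfN n).trans hx)⟩
    exact ⟨(MulEquiv.ofBijective N.subtype ⟨N.subtype_injective, hsurj⟩).symm.trans e⟩
  · right
    obtain ⟨e'⟩ := NormEven.pglEquiv (F := F)
    exact ⟨((MonoidHom.ofInjective hinj).trans (MulEquiv.subgroupCongr heq)).trans e'⟩


end Cfsg.Agent.S3730
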