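import Cfsg.Statements.S3733
import Cfsg.Agent.EqLemmas

set_option autoImplicit false
open Cfsg

namespace Cfsg.Agent.S3733

open scoped IsMulCommutative

theorem norm_fixed {G : Type*} [Group G] [Fintype G] (A V : Subgroup G) [IsMulCommutative V]
    (hAV : A ≤ Subgroup.normalizer (V : Set G)) (f : A → V)
    (hf : ∀ a : A, ∀ b : A, ((f (b * a) : V) : G) = (b : G) * (f a : V) * (b : G)⁻¹)
    (B : Subgroup A) [Fintype B] (c : B) :
    ((c : A) : G) * ((∏ b : B, f b : V) : G) = ((∏ b : B, f b : V) : G) * ((c : A) : G) := by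
  have hc := Subgroup.mem_normalizer_iff.mp (hAV (c : A).2)
  let φ : V →* V :=
    { toFun := fun v => ⟨((c : A) : G) * v * ((c : A) : G)⁻¹, (hc v).mp v.2⟩
      map_one' := by ext; simp
      map_mul' := fun x y => by ext; simp only [Subgroup.coe_mul]; group }
  have h1 : φ (∏ b : B, f b) = ∏ b : B, f b := by
    rw [map_prod]
    refine Fintype.prod_equiv (Equiv.mulLeft c) _ _ fun b => ?_
    ext
    exact (hf b c).symm
  have h2 := congrArg (fun v : V => (v : G)) h1
  simp only [φ, MonoidHom.coe_mk, OneHom.coe_mk] at h2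
  exact mul_inv_eq_iff_eq_mul.mp h2


/-- Let A and V be subgroups of a finite group with V abelian and nontrivial and A normalizing V. Suppose a nonempty finite family of proper subgroups of A partitions A: every non-identity element of A lies in exactly one member. If the number of members minus one is coprime to the order of V, then some member B of the family has a non-identity fixed point on V, that is V ∩ C(B) ≠ 1. -/
theorem result {G : Type*} [Group G] [Finite G] (A V : Subgroup G) (hVab : IsMulCommutative V) (hV : V ≠ ⊥) (hAV : A ≤ Subgroup.normalizer (V : Set G)) (𝒜 : Finset (Subgroup G)) (hne : 𝒜.Nonempty) (hprop : ∀ B ∈ 𝒜, B < A) (hpart : ∀ a ∈ A, a ≠ 1 → ∃! B, B ∈ 𝒜 ∧ a ∈ B) (hk : (𝒜.card - 1).Coprime (Nat.card V)) : ∃ B ∈ 𝒜, V ⊓ Subgroup.centralizer (B : Set G) ≠ ⊥ := by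
  classical
  haveI : Fintype G := Fintype.ofFinite G
  haveI := hVab
  by_contra hcon
  push Not at hcon
  obtain ⟨v, hv, hv1⟩ := (Subgroup.ne_bot_iff_exists_ne_one.mp hV) |> fun ⟨v, h⟩ => (⟨(v : G), v.2, fun e => h (Subtype.ext e)⟩ : ∃ v, v ∈ V ∧ v ≠ 1)
  let f : A → V := fun a => ⟨(a : G) * v * (a : G)⁻¹, (Subgroup.mem_normalizer_iff.mp (hAV a.2) v).mp hv⟩
  have hf : ∀ a b : A, ((f (b * a) : V) : G) = (b : G) * (f a : V) * (b : G)⁻¹ := fun a b => by
    simp only [f, Subgroup.coe_mul]; group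
  have hsum : ∀ B ∈ 𝒜, (∏ b : B.subgroupOf A, f b) = 1 := fun B hB => by
    have hmem : ((∏ b : B.subgroupOf A, f b : V) : G) ∈ V ⊓ Subgroup.centralizer (B : Set G) := by
      refine ⟨SetLike.coe_mem _, Subgroup.mem_centralizer_iff.mpr fun c hc => ?_⟩
      exact norm_fixed A V hAV f hf (B.subgroupOf A) ⟨⟨c, (hprop B hB).le hc⟩, hc⟩
    rw [hcon B hB, Subgroup.mem_bot] at hmem
    exact Subtype.ext hmem
  have hall : (∏ a : (⊤ : Subgroup A), f a) = 1 := by
    obtain ⟨B, hB⟩ := hne
    have hmem : ((∏ a : (⊤ : Subgroup A), f a : V) : G) ∈ V ⊓ Subgroup.centralizer (B : Set G) := by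
      refine ⟨SetLike.coe_mem _, Subgroup.mem_centralizer_iff.mpr fun c hc => ?_⟩
      exact norm_fixed A V hAV f hf ⊤ ⟨⟨c, (hprop B hB).le hc⟩, trivial⟩
    rw [hcon B hB, Subgroup.mem_bot] at hmem
    exact Subtype.ext hmem
  have hall' : ∏ a : A, f a = 1 := by
    rw [← hall]; exact (Fintype.prod_equiv Subgroup.topEquiv.toEquiv _ _ fun _ => rfl).symm
  have hsum' : ∀ B ∈ 𝒜, f 1 * ∏ a ∈ Finset.univ.filter (fun a : A => a ≠ 1 ∧ (a : G) ∈ B), f a = 1 := fun B hB => by
    rw [← hsum B hB, ← Finset.prod_insert (by simp)]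
    exact Finset.prod_subtype _ (fun a => by
      rw [Finset.mem_insert, Finset.mem_filter, Subgroup.mem_subgroupOf]
      by_cases h : a = 1
      · subst h; simp
      · simp [h]) f
  have hun : ∏ B ∈ 𝒜, ∏ a ∈ Finset.univ.filter (fun a : A => a ≠ 1 ∧ (a : G) ∈ B), f a
      = ∏ a ∈ Finset.univ.erase (1 : A), f a := by
    rw [← Finset.prod_biUnion]
    · congr 1
      ext a
      simp only [Finset.mem_biUnion, Finset.mem_filter, Finset.mem_univ, true_and, Finset.mem_erase, and_true]
      constructor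
      · rintro ⟨_, _, h, _⟩; exact h
      · intro h
        obtain ⟨B, ⟨hB, haB⟩, _⟩ := hpart a a.2 (fun e => h (Subtype.ext e))
        exact ⟨B, hB, h, haB⟩
    · intro B hB C hC hne'
      rw [Function.onFun, Finset.disjoint_left]
      intro a ha ha'
      simp only [Finset.mem_filter, Finset.mem_univ, true_and] at ha ha'
      exact hne' ((hpart a a.2 (fun e => ha.1 (Subtype.ext e))).unique ⟨hB, ha.2⟩ ⟨hC, ha'.2⟩)
  have h1 : f 1 ^ 𝒜.card * ∏ a ∈ Finset.univ.erase (1 : A), f a = 1 := by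
    rw [← hun, ← Finset.prod_const, ← Finset.prod_mul_distrib]
    exact Finset.prod_eq_one hsum'
  have hk1 : 1 ≤ 𝒜.card := hne.card_pos
  rw [show 𝒜.card = 𝒜.card - 1 + 1 by omega, pow_succ, mul_assoc,
    Finset.mul_prod_erase _ f (Finset.mem_univ 1), hall', mul_one] at h1
  have h2 : f 1 = 1 := by
    have := Nat.dvd_gcd (orderOf_dvd_of_pow_eq_one h1) (orderOf_dvd_natCard (f 1))
    rw [hk] at this
    exact orderOf_eq_one_iff.mp (Nat.dvd_one.mp this)
  exact hv1 (by simpa [f] using congrArg Subtype.val h2)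

end Cfsg.Agent.S3733
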