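import Cfsg.Statements.S3734
import Cfsg.Agent.EqLemmas
import Cfsg.Agent.Lib.Coprime.Invariant
import Cfsg.Agent.Lib.Coprime.Generation

set_option autoImplicit false
open Cfsg

namespace Cfsg.Agent.S3734

open scoped Pointwise commutatorElement

/-- Let A and G be subgroups of a finite group with A abelian, A normalizing G and the orders of A and G coprime. Then G is generated by the fixed-point subgroups C_G(B) of those subgroups B of A for which A/B is cyclic (that is, A = ⟨B, a⟩ for some a), and [G, A] is generated by the commutator subgroups [C_G(B), A] over the same subgroups B. -/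
theorem result {X : Type*} [Group X] [Finite X] (A G : Subgroup X) (hAab : IsMulCommutative A) (hAG : A ≤ Subgroup.normalizer (G : Set X)) (hcop : (Nat.card A).Coprime (Nat.card G)) : (⨆ B ∈ {B : Subgroup X | B ≤ A ∧ ∃ a ∈ A, B ⊔ Subgroup.zpowers a = A}, G ⊓ Subgroup.centralizer (B : Set X)) = G ∧ (⨆ B ∈ {B : Subgroup X | B ≤ A ∧ ∃ a ∈ A, B ⊔ Subgroup.zpowers a = A}, ⁅G ⊓ Subgroup.centralizer (B : Set X), A⁆) = ⁅G, A⁆ := by
  haveI := hAab
  have hsA : Group.IsSolvable A := Group.isSolvable_of_comm fun a b => hAab.is_comm.comm a b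
  have hsolv : Group.IsSolvable A ∨ Group.IsSolvable G := Or.inl hsA
  set S := {B : Subgroup X | B ≤ A ∧ ∃ a ∈ A, B ⊔ Subgroup.zpowers a = A} with hS
  have hmemS : ∀ B : Subgroup X, B ≤ A → (∃ g ∈ A, A ≤ B ⊔ Subgroup.zpowers g) → B ∈ S := by
    rintro B hB ⟨g, hg, hle⟩
    exact ⟨hB, g, hg, le_antisymm (sup_le hB (Subgroup.zpowers_le.mpr hg)) hle⟩
  constructor
  · refine le_antisymm (iSup₂_le fun B _ => inf_le_left) (Coprime.le_of_cyclic_quotient hAG hcop fun B hB hc => ?_)
    exact le_iSup₂ (f := fun B (_ : B ∈ S) => G ⊓ Subgroup.centralizer (B : Set X)) B (hmemS B hB hc)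
  set W := ⨆ B ∈ S, ⁅G ⊓ Subgroup.centralizer (B : Set X), A⁆ with hW
  set K := ⁅G, A⁆ with hKdef
  refine le_antisymm (iSup₂_le fun B _ => Subgroup.commutator_mono inf_le_left le_rfl) ?_
  have hWle : ∀ B ∈ S, ⁅G ⊓ Subgroup.centralizer (B : Set X), A⁆ ≤ W := fun B hB =>
    le_iSup₂ (f := fun B (_ : B ∈ S) => ⁅G ⊓ Subgroup.centralizer (B : Set X), A⁆) B hB
  have hAK : A ≤ Subgroup.normalizer (K : Set X) := Subgroup.normalizer_commutator_ge_right G A
  have hKG : K ≤ G := Coprime.commutator_le_left' hAG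
  have hcopK : (Nat.card A).Coprime (Nat.card K) := hcop.coprime_dvd_right (Subgroup.card_dvd_of_le hKG)
  set C := K ⊓ Subgroup.centralizer (A : Set X) with hC
  have hAW : A ≤ Subgroup.normalizer (W : Set X) := fun a ha => by
    refine Coprime.mem_normalizer_of_forall fun w hw => ?_
    have : W.map (MulAut.conj a).toMonoidHom ≤ W := by
      rw [hW, Subgroup.map_iSup]
      refine iSup_le fun B => ?_
      rw [Subgroup.map_iSup]
      refine iSup_le fun hB => le_trans ?_ (hWle B hB)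
      rintro _ ⟨x, hx, rfl⟩
      exact (Subgroup.mem_normalizer_iff.mp
        (Subgroup.normalizer_commutator_ge_right (G ⊓ Subgroup.centralizer (B : Set X)) A ha) x).mp hx
    exact this ⟨w, hw, rfl⟩
  have hCW : C ≤ Subgroup.normalizer (W : Set X) := fun c hc => by
    refine Coprime.mem_normalizer_of_forall fun w hw => ?_
    have : W.map (MulAut.conj c).toMonoidHom ≤ W := by
      rw [hW, Subgroup.map_iSup]
      refine iSup_le fun B => ?_
      rw [Subgroup.map_iSup]
      refine iSup_le fun hB => le_trans ?_ (hWle B hB)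
      rw [Subgroup.map_commutator]
      refine Subgroup.commutator_mono ?_ ?_
      · rintro _ ⟨x, ⟨hxG, hxB⟩, rfl⟩
        refine ⟨G.mul_mem (G.mul_mem (hKG hc.1) hxG) (G.inv_mem (hKG hc.1)), fun b hb => ?_⟩
        have h1 : b * c = c * b := hc.2 b (hB.1 hb)
        have h2 : b * x = x * b := hxB b hb
        have h3 : b * c⁻¹ = c⁻¹ * b := (Subgroup.centralizer (A : Set X)).inv_mem hc.2 b (hB.1 hb)
        simp only [MulEquiv.coe_toMonoidHom, MulAut.conj_apply]
        rw [← mul_assoc, ← mul_assoc, h1, mul_assoc c, h2, mul_assoc, mul_assoc x, h3, ← mul_assoc, ← mul_assoc]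
      · rintro _ ⟨x, hx, rfl⟩
        simp only [MulEquiv.coe_toMonoidHom, MulAut.conj_apply]
        have h1 : x * c = c * x := hc.2 x hx
        rw [← h1, mul_inv_cancel_right]; exact hx
    exact this ⟨w, hw, rfl⟩
  have hgen : K ≤ W ⊔ C := Coprime.le_of_cyclic_quotient hAK hcopK fun B hB hc => by
    have hAB : A ≤ Subgroup.normalizer ((K ⊓ Subgroup.centralizer (B : Set X) : Subgroup X) : Set X) := fun a ha => by
      refine Coprime.mem_normalizer_of_forall fun x hx =>
        ⟨(Subgroup.mem_normalizer_iff.mp (hAK ha) x).mp hx.1, fun b hb => ?_⟩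
      have h1 : b * a = a * b := congrArg Subtype.val (hAab.is_comm.comm ⟨b, hB hb⟩ ⟨a, ha⟩)
      have h2 : b * x = x * b := hx.2 b hb
      have h3 : b * a⁻¹ = a⁻¹ * b := congrArg Subtype.val (hAab.is_comm.comm ⟨b, hB hb⟩ ⟨a⁻¹, A.inv_mem ha⟩)
      rw [← mul_assoc, ← mul_assoc, h1, mul_assoc a, h2, mul_assoc, mul_assoc x, h3, ← mul_assoc, ← mul_assoc]
    rw [← Coprime.commutator_sup_centralizer hAB (hcopK.coprime_dvd_right (Subgroup.card_dvd_of_le inf_le_left)) (Or.inl hsA)]
    refine sup_le (le_trans (le_trans ?_ (hWle B (hmemS B hB hc))) le_sup_left) (le_trans ?_ le_sup_right)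
    · exact Subgroup.commutator_mono (inf_le_inf hKG le_rfl) le_rfl
    · exact inf_le_inf inf_le_left le_rfl
  have hKA : ⁅K, A⁆ ≤ W := by
    rw [Subgroup.commutator_le]
    intro k hk a ha
    have hk' : k ∈ ((C : Set X) * (W : Set X)) := by
      rw [← Subgroup.coe_mul_of_left_le_normalizer_right C W hCW, sup_comm]; exact hgen hk
    obtain ⟨c, hc, w, hw, rfl⟩ := hk'
    have h1 : c * a = a * c := (hc.2 a ha).symm
    have h2 : ⁅c * w, a⁆ = c * (w * (a * w⁻¹ * a⁻¹)) * c⁻¹ := by
      have h3 : c⁻¹ * a⁻¹ = a⁻¹ * c⁻¹ := by rw [← mul_inv_rev, ← mul_inv_rev, h1]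
      rw [commutatorElement_def, mul_inv_rev]
      calc c * w * a * (w⁻¹ * c⁻¹) * a⁻¹ = c * w * a * w⁻¹ * (c⁻¹ * a⁻¹) := by group
        _ = _ := by rw [h3]; group
    rw [h2]
    exact (Subgroup.mem_normalizer_iff.mp (hCW hc) _).mp
      (W.mul_mem hw ((Subgroup.mem_normalizer_iff.mp (hAW ha) _).mp (W.inv_mem hw)))
  rwa [hKdef, Coprime.commutator_commutator_eq hAG hcop hsolv] at hKA

end Cfsg.Agent.S3734
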