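import Cfsg.Statements.S3735
import Cfsg.Agent.EqLemmas

set_option autoImplicit false
open Cfsg

namespace Cfsg.Agent.S3735

open scoped Pointwise

variable {G : Type*} [Group G]

theorem normalizes_iff [Finite G] {A U : Subgroup G} :
    A ≤ Subgroup.normalizer (U : Set G) ↔ ∀ a ∈ A, ∀ u ∈ U, a * u * a⁻¹ ∈ U := by
  constructor
  · intro h a ha u hu
    exact (Subgroup.mem_normalizer_iff.mp (h ha) u).mp hu
  · intro h a ha
    refine Subgroup.mem_normalizer_iff.mpr fun u => ⟨fun hu => h a ha u hu, fun hu => ?_⟩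
    have := h a⁻¹ (A.inv_mem ha) _ hu
    simpa [mul_assoc] using this


/-- Clifford's Theorem for actions on finite abelian groups, first part. Let H and V be subgroups of a finite group with V abelian and H normalizing V, and let A be a normal subgroup of H. If every H-invariant subgroup of V has an H-invariant complement in V, then every A-invariant subgroup of V has an A-invariant complement in V. -/
theorem result {G : Type*} [Group G] [Finite G] (H A V : Subgroup G) (hVab : IsMulCommutative V) (hHV : H ≤ Subgroup.normalizer (V : Set G)) (hAH : A ≤ H) (hAn : H ≤ Subgroup.normalizer (A : Set G)) (hss : ∀ U : Subgroup G, U ≤ V → H ≤ Subgroup.normalizer (U : Set G) → ∃ W : Subgroup G, W ≤ V ∧ H ≤ Subgroup.normalizer (W : Set G) ∧ U ⊓ W = ⊥ ∧ U ⊔ W = V) (U : Subgroup G) (hUV : U ≤ V) (hAU : A ≤ Subgroup.normalizer (U : Set G)) : ∃ W : Subgroup G, W ≤ V ∧ A ≤ Subgroup.normalizer (W : Set G) ∧ U ⊓ W = ⊥ ∧ U ⊔ W = V := by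
  classical
  let inv : Subgroup G → Prop := fun M => M ≤ V ∧ A ≤ Subgroup.normalizer (M : Set G)
  let atom : Subgroup G → Prop := fun M => inv M ∧ M ≠ ⊥ ∧ ∀ N, inv N → N ≤ M → N = ⊥ ∨ N = M
  have ex_atom : ∀ C, inv C → C ≠ ⊥ → ∃ M, atom M ∧ M ≤ C := fun C hC hC1 => by
    obtain ⟨M, hM, hmin⟩ := (Set.toFinite {M | inv M ∧ M ≠ ⊥ ∧ M ≤ C}).exists_minimal ⟨C, hC, hC1, le_rfl⟩
    refine ⟨M, ⟨hM.1, hM.2.1, fun N hN hNM => ?_⟩, hM.2.2⟩
    by_cases h : N = ⊥
    · exact Or.inl h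
    · exact Or.inr (le_antisymm hNM (hmin ⟨hN, h, hNM.trans hM.2.2⟩ hNM))
  set S := sSup {M | atom M} with hS
  have hSV : S ≤ V := sSup_le fun M hM => hM.1.1
  have hconj : ∀ h ∈ H, ∀ M, atom M → atom (M.map (MulAut.conj h).toMonoidHom) := by
    have hinv : ∀ h ∈ H, ∀ M, inv M → inv (M.map (MulAut.conj h).toMonoidHom) := by
      intro h hh M hM
      refine ⟨?_, normalizes_iff.mpr ?_⟩
      · rintro _ ⟨m, hm, rfl⟩
        exact (normalizes_iff.mp hHV) h hh m (hM.1 hm)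
      · rintro a ha _ ⟨m, hm, rfl⟩
        have ha' : h⁻¹ * a * h ∈ A := by
          simpa using (normalizes_iff.mp hAn) h⁻¹ (H.inv_mem hh) a ha
        refine ⟨(h⁻¹ * a * h) * m * (h⁻¹ * a * h)⁻¹, (normalizes_iff.mp hM.2) _ ha' m hm, ?_⟩
        simp only [MulEquiv.coe_toMonoidHom, MulAut.conj_apply]
        group
    intro h hh M hM
    have cancel : ∀ (k : G) (N : Subgroup G), (N.map (MulAut.conj k⁻¹).toMonoidHom).map (MulAut.conj k).toMonoidHom = N := fun k N => by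
      rw [Subgroup.map_map]
      convert Subgroup.map_id N
      ext x; simp [mul_assoc]
    refine ⟨hinv h hh M hM.1, fun e => hM.2.1 ((Subgroup.map_eq_bot_iff_of_injective _ (MulAut.conj h).injective).mp e), fun N hN hle => ?_⟩
    have hN' := hinv h⁻¹ (H.inv_mem hh) N hN
    have hle' : N.map (MulAut.conj h⁻¹).toMonoidHom ≤ M := by
      rintro _ ⟨x, hx, rfl⟩
      obtain ⟨m, hm, rfl⟩ := hle hx
      simpa [mul_assoc] using hm
    rcases hM.2.2 _ hN' hle' with h1 | h1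
    · exact Or.inl ((Subgroup.map_eq_bot_iff_of_injective _ (MulAut.conj h⁻¹).injective).mp h1)
    · right; rw [← h1, cancel]
  have hHS : H ≤ Subgroup.normalizer (S : Set G) := normalizes_iff.mpr fun h hh u hu => by
    have : S.map (MulAut.conj h).toMonoidHom ≤ S := by
      rw [Subgroup.map_le_iff_le_comap]
      exact sSup_le fun M hM => Subgroup.map_le_iff_le_comap.mp (le_sSup (hconj h hh M hM))
    exact this ⟨u, hu, rfl⟩
  have hSeq : S = V := by
    obtain ⟨C, hCV, hHC, hinf, hsup⟩ := hss S hSV hHS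
    by_cases hC : C = ⊥
    · rw [hC, sup_bot_eq] at hsup; exact hsup
    · obtain ⟨M, hM, hMC⟩ := ex_atom C ⟨hCV, hAH.trans hHC⟩ hC
      have : M ≤ S ⊓ C := le_inf (le_sSup hM) hMC
      rw [hinf, le_bot_iff] at this
      exact absurd this hM.2.1
  obtain ⟨W, hW, hmax⟩ := (Set.toFinite {W | inv W ∧ U ⊓ W = ⊥}).exists_maximal
    ⟨⊥, ⟨bot_le, normalizes_iff.mpr fun a _ u hu => by simp [Subgroup.mem_bot.mp hu]⟩, inf_bot_eq _⟩
  refine ⟨W, hW.1.1, hW.1.2, hW.2, le_antisymm (sup_le hUV hW.1.1) ?_⟩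
  rw [← hSeq]
  refine sSup_le fun M hM => ?_
  by_contra hMle
  have hinvsup : ∀ P Q : Subgroup G, inv P → inv Q → inv (P ⊔ Q) := fun P Q hP hQ => by
    refine ⟨sup_le hP.1 hQ.1, normalizes_iff.mpr fun a ha u hu => ?_⟩
    have : (P ⊔ Q).map (MulAut.conj a).toMonoidHom ≤ P ⊔ Q := by
      rw [Subgroup.map_sup]
      refine sup_le_sup ?_ ?_
      · rintro _ ⟨x, hx, rfl⟩; exact normalizes_iff.mp hP.2 a ha x hx
      · rintro _ ⟨x, hx, rfl⟩; exact normalizes_iff.mp hQ.2 a ha x hx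
    exact this ⟨u, hu, rfl⟩
  have hinvinf : ∀ P Q : Subgroup G, inv P → inv Q → inv (P ⊓ Q) := fun P Q hP hQ =>
    ⟨inf_le_left.trans hP.1, normalizes_iff.mpr fun a ha u hu =>
      ⟨normalizes_iff.mp hP.2 a ha u hu.1, normalizes_iff.mp hQ.2 a ha u hu.2⟩⟩
  have hMint : M ⊓ (U ⊔ W) = ⊥ := by
    rcases hM.2.2 _ (hinvinf _ _ hM.1 (hinvsup U W ⟨hUV, hAU⟩ hW.1)) inf_le_left with h | h
    · exact h
    · exact absurd (inf_eq_left.mp h) hMle
  have hnew : U ⊓ (W ⊔ M) = ⊥ := by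
    refine (Subgroup.eq_bot_iff_forall _).mpr fun x hx => ?_
    obtain ⟨hxU, hxWM⟩ := hx
    have hnm : W ≤ Subgroup.normalizer (M : Set G) := normalizes_iff.mpr fun w hw m hm => by
      have := hVab.1.1 ⟨w, hW.1.1 hw⟩ ⟨m, hM.1.1 hm⟩
      have e : w * m = m * w := congrArg Subtype.val this
      rw [e, mul_inv_cancel_right]; exact hm
    have hx' : x ∈ ((W : Set G) * (M : Set G)) := by
      rw [← Subgroup.coe_mul_of_left_le_normalizer_right W M hnm]; exact hxWM
    obtain ⟨w, hw, m, hm, rfl⟩ := hx'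
    have hm' : m ∈ U ⊔ W := by
      have := (U ⊔ W).mul_mem ((U ⊔ W).inv_mem (le_sup_right (a := U) hw)) (le_sup_left (b := W) hxU)
      simpa using this
    have hm1 : m = 1 := Subgroup.mem_bot.mp (hMint ▸ ⟨hm, hm'⟩)
    subst hm1
    simp only [mul_one] at hxU ⊢
    exact Subgroup.mem_bot.mp (hW.2 ▸ ⟨hxU, hw⟩)
  exact hMle (le_sup_right.trans ((hmax ⟨hinvsup W M hW.1 hM.1, hnew⟩ le_sup_left).trans le_sup_right))

end Cfsg.Agent.S3735
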