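import Cfsg.Statements.S3736
import Cfsg.Agent.EqLemmas
import Cfsg.Agent.Lib.BaerTrick.Basic
import Cfsg.Agent.Lib.Coprime.Invariant
import Cfsg.Agent.Lib.Coprime.PQ
import Cfsg.Agent.Lib.PGroup.Basic
import Cfsg.Agent.Lib.PGroup.Power

set_option autoImplicit false
open Cfsg

namespace Cfsg.Agent.S3736

open scoped commutatorElement

theorem normalizes_map_frattini {X : Type*} [Group X] [Finite X] {B P : Subgroup X}
    (hBP : B ≤ Subgroup.normalizer (P : Set X)) :
    B ≤ Subgroup.normalizer (((frattini ↥P).map P.subtype : Subgroup X) : Set X) := fun b hb => by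
  refine Coprime.mem_normalizer_of_forall ?_
  rintro _ ⟨x, hx, rfl⟩
  refine ⟨P.normalizerMonoidHom ⟨b, hBP hb⟩ x, ?_, rfl⟩
  exact (Subgroup.characteristic_iff_le_comap.1 inferInstance _) hx


/-- The Hall–Higman reduction for a minimal non-trivial action. Let B, A and P be subgroups of a finite group with P a p-group, B normalizing P, and A a normal subgroup of B of order prime to p. Suppose A does not centralize P but centralizes every proper B-invariant subgroup of P. Then [P, A] = P; P is elementary abelian or special; B acts irreducibly on P/Φ(P), that is, the only B-invariant subgroups of P containing Φ(P) are Φ(P) and P; and if p is odd then every element of P has order dividing p. -/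
theorem result {X : Type*} [Group X] [Finite X] {p : ℕ} [Fact p.Prime] (B A P : Subgroup X) (hP : IsPGroup p P) (hBP : B ≤ Subgroup.normalizer (P : Set X)) (hAB : A ≤ B) (hAn : B ≤ Subgroup.normalizer (A : Set X)) (hAp : (Nat.card A).Coprime p) (hnt : ⁅P, A⁆ ≠ ⊥) (hmin : ∀ U : Subgroup X, U < P → B ≤ Subgroup.normalizer (U : Set X) → ⁅U, A⁆ = ⊥) : ⁅P, A⁆ = P ∧ (Cfsg.IsElementaryAbelian p P ∨ Cfsg.IsSpecial p ↥P) ∧ (∀ U : Subgroup X, (frattini ↥P).map P.subtype ≤ U → U ≤ P → B ≤ Subgroup.normalizer (U : Set X) → U = (frattini ↥P).map P.subtype ∨ U = P) ∧ (p ≠ 2 → ∀ x ∈ P, x ^ p = 1) := by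
  classical
  have hp := (Fact.out : p.Prime)
  have hAP : A ≤ Subgroup.normalizer (P : Set X) := hAB.trans hBP
  have hsolv := Coprime.isSolvable_of_isPGroup hP
  have hcop := Coprime.coprime_of_isPGroup hAp hP
  have hBc : B ≤ Subgroup.normalizer ((⁅P, A⁆ : Subgroup X) : Set X) := Coprime.le_normalizer_commutator hBP hAn
  have hgen : ⁅P, A⁆ = P := by
    rcases (Coprime.commutator_le_left' hAP).lt_or_eq with h | h
    · have h1 := hmin _ h hBc
      rw [Coprime.commutator_commutator_eq hAP hcop (Or.inr hsolv)] at h1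
      exact absurd h1 hnt
    · exact h
  set M : Subgroup X := (frattini ↥P).map P.subtype with hM
  have hPbot : P ≠ ⊥ := fun e => hnt (by rw [e, Subgroup.commutator_bot_left])
  have hMlt : M < P := lt_of_le_of_ne (Subgroup.map_subtype_le _) fun he => hPbot <| by
    have h1 : frattini ↥P = ⊤ := Subgroup.map_injective P.subtype_injective (by
      rw [← hM, he, ← MonoidHom.range_eq_map, Subgroup.range_subtype])
    have h2 : (⊥ : Subgroup P) = ⊤ := frattini_nongenerating (by rw [bot_sup_eq, h1])
    rw [← Subgroup.range_subtype P, MonoidHom.range_eq_map, ← h2, Subgroup.map_bot]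
  have hMA : ⁅M, A⁆ = ⊥ := hmin M hMlt (normalizes_map_frattini hBP)
  have hcomm_le : _root_.commutator ↥P ≤ frattini ↥P := PGroup.commutator_le_frattini hP
  -- fixed points lie in the derived subgroup
  have hfixed : ∀ x : P, (x : X) ∈ Subgroup.centralizer (A : Set X) → x ∈ _root_.commutator ↥P :=
    fun x hx => BaerTrick.mem_commutator_of_fixed hAP hcop hgen hx
  have hMcen : frattini ↥P ≤ Subgroup.center ↥P := by
    have h1 : ⁅⁅P, A⁆, M⁆ = ⊥ := by
      refine Subgroup.commutator_commutator_eq_bot_of_rotate ?_ ?_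
      · rw [Subgroup.commutator_comm A M, hMA, Subgroup.commutator_bot_left]
      · have : ⁅M, P⁆ ≤ M := Subgroup.le_normalizer_iff_commutator_le_left.1
          (normalizes_map_frattini (B := P) Subgroup.le_normalizer)
        exact le_bot_iff.mp ((Subgroup.commutator_mono this le_rfl).trans hMA.le)
    rw [hgen] at h1
    intro z hz
    refine Subgroup.mem_center_iff.mpr fun y => Subtype.ext ?_
    exact ((Subgroup.commutator_eq_bot_iff_le_centralizer.1 h1) y.2 (z : X) ⟨z, hz, rfl⟩).symm
  have hMfix : ∀ z ∈ frattini ↥P, (z : X) ∈ Subgroup.centralizer (A : Set X) := fun z hz =>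
    (Subgroup.commutator_eq_bot_iff_le_centralizer.1 hMA) ⟨z, hz, rfl⟩
  refine ⟨hgen, ?_, ?_, ?_⟩
  · by_cases hab : ∀ x y : P, x * y = y * x
    · left
      haveI : IsMulCommutative P := ⟨⟨hab⟩⟩
      refine ⟨‹_›, fun x hx => ?_⟩
      have h1 := hfixed ((⟨x, hx⟩ : P) ^ p) (hMfix _ (PGroup.pow_mem_frattini hP _))
      have h2 : _root_.commutator ↥P = ⊥ := by
        rw [_root_.commutator_def, Subgroup.commutator_eq_bot_iff_le_centralizer]
        exact fun y _ z _ => hab z y
      rw [h2, Subgroup.mem_bot] at h1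
      exact congrArg Subtype.val h1
    · right
      have hZ : Subgroup.center ↥P ≤ _root_.commutator ↥P := by
        intro z hz
        refine hfixed z ?_
        set Z : Subgroup X := (Subgroup.center ↥P).map P.subtype
        have hZlt : Z < P := lt_of_le_of_ne (Subgroup.map_subtype_le _) fun he => hab fun x y => by
          have : x ∈ Subgroup.center ↥P := by
            obtain ⟨w, hw, hwx⟩ := he.ge x.2
            rwa [show x = w from Subtype.ext hwx.symm]
          exact (Subgroup.mem_center_iff.mp this y).symm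
        have hBZ : B ≤ Subgroup.normalizer (Z : Set X) := fun b hb => by
          refine Coprime.mem_normalizer_of_forall ?_
          rintro _ ⟨x, hx, rfl⟩
          refine ⟨P.normalizerMonoidHom ⟨b, hBP hb⟩ x, ?_, rfl⟩
          exact (Subgroup.characteristic_iff_le_comap.1 inferInstance _) hx
        exact (Subgroup.commutator_eq_bot_iff_le_centralizer.1 (hmin Z hZlt hBZ)) ⟨z, hz, rfl⟩
      exact ⟨hP, le_antisymm hMcen (hZ.trans hcomm_le), le_antisymm (hcomm_le.trans hMcen) hZ⟩
  · intro U hMU hUP hBU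
    by_cases hU : U = P
    · exact Or.inr hU
    · refine Or.inl (le_antisymm ?_ hMU)
      intro x hx
      refine ⟨⟨x, hUP hx⟩, hcomm_le (hfixed _ ?_), rfl⟩
      exact (Subgroup.commutator_eq_bot_iff_le_centralizer.1 (hmin U (lt_of_le_of_ne hUP hU) hBU)) hx
  · intro hp2 x hx
    have hcen : ∀ u v : P, ⁅u, v⁆ ∈ Subgroup.center ↥P := fun u v =>
      hMcen (PGroup.commutatorElement_mem_frattini hP u v)
    have hcp : ∀ u v : P, ⁅u, v⁆ ^ p = 1 := fun u v => by
      rw [← PGroup.commutator_pow_left (Subgroup.mem_center_iff.mp (hcen u v) u) p]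
      exact commutatorElement_eq_one_iff_mul_comm.mpr
        (Subgroup.mem_center_iff.mp (hMcen (PGroup.pow_mem_frattini hP u)) v).symm
    let Z := Subgroup.center ↥P
    letI : CommGroup Z := { (inferInstance : Group Z) with
      mul_comm := fun a b => Subtype.ext (Subgroup.mem_center_iff.mp b.2 a) }
    let π : P →* Z := MonoidHom.mk' (fun u => ⟨u ^ p, hMcen (PGroup.pow_mem_frattini hP u)⟩) fun u v =>
      Subtype.ext (PGroup.mul_pow_prime_eq hp hp2 (Subgroup.mem_center_iff.mp (hcen v u) u)
        (Subgroup.mem_center_iff.mp (hcen v u) v) (hcp v u))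
    haveI : A ≤ Subgroup.normalizer (P : Set X) := hAP
    let c : A →* MulAut P := P.normalizerMonoidHom.comp (Subgroup.inclusion hAP)
    have hle : ⁅P, A⁆ ≤ π.ker.map P.subtype := Subgroup.commutator_le.mpr fun y hy a ha => by
      refine ⟨⟨y, hy⟩ * c ⟨a, ha⟩ ⟨y, hy⟩⁻¹, ?_, ?_⟩
      · have h1 : π (c ⟨a, ha⟩ ⟨y, hy⟩) = π ⟨y, hy⟩ := Subtype.ext (Subtype.ext (by
          change (a * y * a⁻¹) ^ p = y ^ p
          rw [conj_pow, mul_inv_eq_iff_eq_mul]
          have := hMfix _ (PGroup.pow_mem_frattini hP (⟨y, hy⟩ : P)) a ha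
          rwa [SubgroupClass.coe_pow] at this))
        rw [SetLike.mem_coe, MonoidHom.mem_ker, map_inv, map_mul, map_inv, h1, mul_inv_cancel]
      · simp [c, commutatorElement_def, mul_assoc]
    obtain ⟨w, hw, hwx⟩ := hle (hgen.ge hx)
    have h2 : (w : P) ^ p = 1 := congrArg Subtype.val (MonoidHom.mem_ker.mp hw)
    rw [← hwx]
    exact congrArg Subtype.val h2

end Cfsg.Agent.S3736
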