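import Cfsg.Statements.S3737
import Cfsg.Agent.EqLemmas
import Cfsg.Agent.S3736

set_option autoImplicit false
open Cfsg

namespace Cfsg.Agent.S3737

open scoped commutatorElement

/-- Thompson's strengthening of the P × Q lemma for odd primes. Let p be an odd prime and let P, Q and G be subgroups of a finite group with P a p-group, Q of order prime to p and normalized by P, and G a p-group normalized by both P and Q. If every element of G centralized by P is centralized by Q, then Q centralizes G. -/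
theorem result {X : Type*} [Group X] [Finite X] {p : ℕ} [Fact p.Prime] (hp : p ≠ 2) (P Q G : Subgroup X) (hP : IsPGroup p P) (hQ : (Nat.card Q).Coprime p) (hPQ : P ≤ Subgroup.normalizer (Q : Set X)) (hG : IsPGroup p G) (hPG : P ≤ Subgroup.normalizer (G : Set X)) (hQG : Q ≤ Subgroup.normalizer (G : Set X)) (hC : G ⊓ Subgroup.centralizer (P : Set X) ≤ Subgroup.centralizer (Q : Set X)) : Q ≤ Subgroup.centralizer (G : Set X) := by
  classical
  induction hn : Nat.card G using Nat.strong_induction_on generalizing G with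
  | _ n ih =>
  subst hn
  by_contra hcon
  have hBG : P ⊔ Q ≤ Subgroup.normalizer (G : Set X) := sup_le hPG hQG
  have hQn : P ⊔ Q ≤ Subgroup.normalizer (Q : Set X) := sup_le hPQ Subgroup.le_normalizer
  have hnt : ⁅G, Q⁆ ≠ ⊥ := fun h =>
    hcon (Subgroup.le_centralizer_iff.1 (Subgroup.commutator_eq_bot_iff_le_centralizer.1 h))
  have hmin : ∀ U : Subgroup X, U < G → P ⊔ Q ≤ Subgroup.normalizer (U : Set X) → ⁅U, Q⁆ = ⊥ := by
    intro U hU hn
    rw [Subgroup.commutator_eq_bot_iff_le_centralizer]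
    refine Subgroup.le_centralizer_iff.1 (ih (Nat.card U) ?_ U (hG.to_le hU.le) (le_sup_left.trans hn)
      (le_sup_right.trans hn) ((inf_le_inf hU.le le_rfl).trans hC) rfl)
    exact (Subgroup.card_le_of_le hU.le).lt_of_ne fun he => hU.ne (Subgroup.eq_of_le_of_card_ge hU.le he.ge)
  obtain ⟨-, hsp, -, -⟩ := Cfsg.Agent.S3736.result (P ⊔ Q) Q G hG hBG le_sup_right hQn hQ hnt hmin
  have hc : ∀ x y : G, ⁅x, y⁆ ∈ Subgroup.center ↥G := fun x y => by
    rcases hsp with ⟨hab, -⟩ | ⟨-, -, h3⟩
    · rw [Subgroup.mem_center_iff]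
      intro g
      exact hab.is_comm.comm g _
    · rw [← h3, _root_.commutator_def]
      exact Subgroup.commutator_mem_commutator (Subgroup.mem_top x) (Subgroup.mem_top y)
  let α : P →* MulAut G := G.normalizerMonoidHom.comp (Subgroup.inclusion hPG)
  let β : Q →* MulAut G := G.normalizerMonoidHom.comp (Subgroup.inclusion hQG)
  let θ : P → Q ≃ Q := fun g => ((Q.normalizerMonoidHom.comp (Subgroup.inclusion hPQ)) g).toEquiv
  have hne : ∃ a x, β a x ≠ x := by
    by_contra h
    push Not at h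
    exact hcon fun a ha x hx => (mul_inv_eq_iff_eq_mul.mp (congrArg Subtype.val (h ⟨a, ha⟩ ⟨x, hx⟩))).symm
  obtain ⟨x, hx, a, ha⟩ := BaerTrick.exists_fixed_outside hG hP hQ hc hp α β θ (fun g a x => Subtype.ext (by
    change (g : X) * ((a : X) * x * (a : X)⁻¹) * (g : X)⁻¹ =
      (g : X) * a * (g : X)⁻¹ * ((g : X) * x * (g : X)⁻¹) * ((g : X) * a * (g : X)⁻¹)⁻¹
    group)) hne
  refine ha (Subtype.ext ?_)
  have hxP : (x : X) ∈ Subgroup.centralizer (P : Set X) := fun g hg =>
    mul_inv_eq_iff_eq_mul.mp (congrArg Subtype.val (hx ⟨g, hg⟩))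
  exact mul_inv_eq_iff_eq_mul.mpr (hC ⟨x.2, hxP⟩ a a.2)

end Cfsg.Agent.S3737
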