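import Cfsg.Statements.S3738
import Cfsg.Agent.Lib.Squaring.RankTwo
import Cfsg.Agent.Lib.Squaring.RankTwoSetup

set_option autoImplicit false
set_option linter.style.haveILetI false
open Cfsg

namespace Cfsg.Agent.S3738

/-- Let d be a non-identity 3-element of a finite group and P a 2-subgroup normalized by d on which ⟨d⟩ acts faithfully (no non-identity power of d centralizes P) and without non-identity fixed points (C_P(d) = 1). If every abelian subgroup of P has 2-rank at most 2, then d has order 3. -/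
theorem result {X : Type*} [Group X] [Finite X] (d : X) (n : ℕ) (hn : 1 ≤ n) (hd : orderOf d = 3 ^ n) (P : Subgroup X) (hP : IsPGroup 2 P) (hdP : d ∈ Subgroup.normalizer (P : Set X)) (hfaith : Subgroup.zpowers d ⊓ Subgroup.centralizer (P : Set X) = ⊥) (hfpf : P ⊓ Subgroup.centralizer {d} = ⊥) (hrank : ∀ V : Subgroup X, V ≤ P → IsMulCommutative V → Cfsg.PRankLE 2 2 V) : orderOf d = 3 := by
  classical
  haveI : Fact (Nat.Prime 2) := ⟨Nat.prime_two⟩
  by_contra hne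
  have hn2 : 2 ≤ n := by
    by_contra h
    apply hne
    rw [hd, show n = 1 by omega, pow_one]
  have hdPm : ∀ x ∈ P, d * x * d⁻¹ ∈ P := fun x hx => (Subgroup.mem_normalizer_iff.mp hdP x).mp hx
  have hrankP : ∀ E : Subgroup X, E ≤ P → Cfsg.IsElementaryAbelian 2 E → Nat.card E ≤ 4 := by
    intro E hEP hE
    have h := hrank E hEP hE.1 ⊤ ⟨⟨fun a b => Subtype.ext (hE.1.is_comm.comm a.1 b.1)⟩⟩
      (fun a _ => Subtype.ext (hE.2 a a.2))
    rwa [Subgroup.card_top] at h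
  have hfpf' : ∀ x ∈ P, d * x * d⁻¹ = x → x = 1 := fun x hx e => by
    have : x ∈ P ⊓ Subgroup.centralizer {d} :=
      ⟨hx, Subgroup.mem_centralizer_singleton_iff.mpr (mul_inv_eq_iff_eq_mul.mp e).symm⟩
    rwa [hfpf, Subgroup.mem_bot] at this
  let W : Subgroup X :=
    { carrier := {z | z ∈ P ∧ z * z = 1 ∧ ∀ x ∈ P, Commute z x}
      one_mem' := ⟨one_mem _, one_mul 1, fun x _ => Commute.one_left x⟩
      mul_mem' := fun {a b} ha hb => ⟨mul_mem ha.1 hb.1, by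
        rw [(ha.2.2 b hb.1).symm.mul_mul_mul_comm, ha.2.1, hb.2.1, one_mul],
        fun x hx => (ha.2.2 x hx).mul_left (hb.2.2 x hx)⟩
      inv_mem' := fun {a} ha => ⟨inv_mem ha.1, by rw [← mul_inv_rev, ha.2.1, inv_one],
        fun x hx => (ha.2.2 x hx).inv_left⟩ }
  have hWel : Cfsg.IsElementaryAbelian 2 W := ⟨⟨⟨fun a b => Subtype.ext (a.2.2.2 b b.2.1)⟩⟩,
    fun a ha => by rw [pow_two]; exact ha.2.1⟩
  set c := d ^ (3 ^ (n - 1)) with hc
  have hd1 : c ≠ 1 := fun e => by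
    have h := orderOf_dvd_of_pow_eq_one e
    rw [hd] at h
    exact absurd (Nat.le_of_dvd (by positivity) h)
      (not_le.mpr (Nat.pow_lt_pow_right (by norm_num) (by omega)))
  have hcP : ∃ x ∈ P, c * x * c⁻¹ ≠ x := by
    by_contra h
    push Not at h
    have : c ∈ Subgroup.zpowers d ⊓ Subgroup.centralizer (P : Set X) :=
      ⟨pow_mem (Subgroup.mem_zpowers d) _, Subgroup.mem_centralizer_iff.mpr fun x hx =>
        (mul_inv_eq_iff_eq_mul.mp (h x hx)).symm⟩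
    rw [hfaith, Subgroup.mem_bot] at this
    exact hd1 this
  have hW1 : W ≠ ⊥ := by
    obtain ⟨x, hx, hx'⟩ := hcP
    have hPne : (⊤ : Subgroup P) ≠ ⊥ := fun h => hx' (by
      have h1 := (h ▸ Subgroup.mem_top (⟨x, hx⟩ : P) : (⟨x, hx⟩ : P) ∈ (⊥ : Subgroup P))
      rw [Subgroup.mem_bot] at h1
      have h2 : x = 1 := congrArg Subtype.val h1
      simp [h2])
    obtain ⟨z, -, hzc, hzo⟩ := Cfsg.Agent.PGroup.exists_central_order_p hP hPne
    intro h
    have hzW : (z : X) ∈ W := ⟨z.2, by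
      rw [← pow_two, ← SubgroupClass.coe_pow, ← hzo, pow_orderOf_eq_one]; rfl,
      fun y hy => (congrArg Subtype.val (Subgroup.mem_center_iff.mp hzc ⟨y, hy⟩)).symm⟩
    rw [h, Subgroup.mem_bot] at hzW
    rw [Subtype.ext hzW (a2 := (1 : P)), orderOf_one] at hzo
    norm_num at hzo
  have hdk : ∀ g ∈ Subgroup.zpowers d, ∀ x ∈ P, g * x * g⁻¹ ∈ P := fun g hg x hx =>
    (Subgroup.mem_normalizer_iff.mp ((Subgroup.zpowers_le.mpr hdP) hg) x).mp hx
  have hgW : ∀ g ∈ Subgroup.zpowers d, ∀ w ∈ W, g * w * g⁻¹ ∈ W := fun g hg w hw =>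
    ⟨hdk g hg w hw.1, by rw [show g * w * g⁻¹ * (g * w * g⁻¹) = g * (w * w) * g⁻¹ by group, hw.2.1]; simp,
      fun x hx => by
        have h1 := (hw.2.2 _ (hdk g⁻¹ (inv_mem hg) x hx)).eq
        show g * w * g⁻¹ * x = x * (g * w * g⁻¹)
        calc g * w * g⁻¹ * x = g * (w * (g⁻¹ * x * g⁻¹⁻¹)) * g⁻¹ := by group
          _ = g * ((g⁻¹ * x * g⁻¹⁻¹) * w) * g⁻¹ := by rw [h1]
          _ = _ := by group⟩
  obtain ⟨h4, hinv, hWc, hd3⟩ := Cfsg.Agent.Squaring.rankTwo_setup hd hP hdPm hrankP hWel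
    (fun (z : X) (hz : z ∈ W) => hz.1) hW1 (hgW d (Subgroup.mem_zpowers d)) (fun w hw => hfpf' w hw.1)
  have hcd : c ∈ Subgroup.zpowers d := pow_mem (Subgroup.mem_zpowers d) _
  have hc3 : c ^ 3 = 1 := by
    rw [hc, ← pow_mul, ← pow_succ, show n - 1 + 1 = n by omega, ← hd, pow_orderOf_eq_one]
  refine Cfsg.Agent.Squaring.rankTwo_contra (D := Subgroup.zpowers d) (c := c) hP (fun (z : X) (hz : z ∈ W) => hz.1)
    hinv (fun w hw => hw.2.1) hWc h4.le hdk hgW hcd hc3 ?_ ?_ hcP ?_ ?_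
  · intro g hg
    obtain ⟨i, rfl⟩ := Subgroup.mem_zpowers_iff.mp hg
    exact ((Commute.refl d).pow_left _).zpow_right i
  · intro w hw
    have h3 : Commute (d ^ 3) w := mul_inv_eq_iff_eq_mul.mp (hd3 w hw)
    have e : c = (d ^ 3) ^ (3 ^ (n - 2)) := by
      rw [hc, ← pow_mul, ← pow_succ', show n - 2 + 1 = n - 1 by omega]
    exact mul_inv_eq_iff_eq_mul.mpr (e ▸ h3.pow_left _)
  · rw [Nat.card_zpowers, hd]
    exact pow_dvd_pow 3 hn2
  · intro g hg hg1
    exact Or.inl (Cfsg.Agent.Squaring.mem_zpowers_of_order_three hd hg hg1 hcd hc3)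


end Cfsg.Agent.S3738
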