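import Cfsg.Statements.S3739
import Cfsg.Agent.Lib.Squaring.RankTwo
import Cfsg.Agent.Lib.Squaring.RankTwoSetup
import Cfsg.Agent.Lib.Cores.Basic

set_option autoImplicit false
set_option linter.style.haveILetI false
open Cfsg

namespace Cfsg.Agent.S3739

/-- Let G be a finite group with C_G(O₂(G)) ≤ O₂(G) containing an element of order 6, and let d be a non-identity 3-element of G normalizing a nontrivial elementary abelian 2-subgroup W with C_W(d) = 1. Then G has an elementary abelian subgroup of order 8. -/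
theorem result {G : Type*} [Group G] [Finite G] (hchar : Subgroup.centralizer (Cfsg.pCore 2 G : Set G) ≤ Cfsg.pCore 2 G) (hsix : ∃ g : G, orderOf g = 6) (d : G) (hd1 : d ≠ 1) (hd : IsPGroup 3 ↥(Subgroup.zpowers d)) (W : Subgroup G) (hW : Cfsg.IsElementaryAbelian 2 W) (hW1 : W ≠ ⊥) (hdW : d ∈ Subgroup.normalizer (W : Set G)) (hfpf : W ⊓ Subgroup.centralizer {d} = ⊥) : ∃ E : Subgroup G, Cfsg.IsElementaryAbelian 2 E ∧ Nat.card E = 8 := by
  classical
  haveI : Fact (Nat.Prime 2) := ⟨Nat.prime_two⟩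
  haveI : Fact (Nat.Prime 3) := ⟨Nat.prime_three⟩
  by_contra hno
  have hrank : ∀ E : Subgroup G, Cfsg.IsElementaryAbelian 2 E → Nat.card E ≤ 4 := by
    intro E hE
    by_contra hlt
    obtain ⟨k, hk⟩ := IsPGroup.iff_card.mp (show IsPGroup 2 E from fun v => ⟨1, by
      rw [pow_one]; exact Subtype.ext (by rw [SubgroupClass.coe_pow]; exact hE.2 v v.2)⟩)
    have hk3 : 3 ≤ k := by
      by_contra h
      have := Nat.pow_le_pow_right (n := 2) (i := k) (j := 2) (by norm_num) (by omega)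
      omega
    obtain ⟨F, hF⟩ := Sylow.exists_subgroup_card_pow_prime 2 (G := E) (n := 3)
      (hk ▸ pow_dvd_pow 2 hk3)
    refine hno ⟨F.map E.subtype, ⟨⟨⟨?_⟩⟩, ?_⟩, ?_⟩
    · rintro ⟨_, a, ha, rfl⟩ ⟨_, b, hb, rfl⟩
      exact Subtype.ext (congrArg Subtype.val (hE.1.is_comm.comm a b) :)
    · rintro _ ⟨a, ha, rfl⟩
      exact hE.2 a a.2
    · rw [Subgroup.card_map_of_injective E.subtype_injective, hF]; norm_num
  set Q := Cfsg.pCore 2 G with hQdef
  haveI hQn : Q.Normal := Cfsg.Agent.Cores.pCore_normal 2 G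
  have hQ2 : IsPGroup 2 Q := Cfsg.Agent.Cores.isPGroup_pCore 2 G
  have hW2 : IsPGroup 2 W := fun v => ⟨1, by
    rw [pow_one]; exact Subtype.ext (by rw [SubgroupClass.coe_pow]; exact hW.2 v v.2)⟩
  set R := W ⊔ Q with hR
  have hR2 : IsPGroup 2 R := hW2.to_sup_of_normal_right hQ2
  obtain ⟨n, hn⟩ := IsPGroup.iff_orderOf.mp hd ⟨d, Subgroup.mem_zpowers d⟩
  rw [Subgroup.orderOf_mk] at hn
  have hdWm : ∀ w ∈ W, d * w * d⁻¹ ∈ W := fun w hw => (Subgroup.mem_normalizer_iff.mp hdW w).mp hw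
  have hdR : ∀ x ∈ R, d * x * d⁻¹ ∈ R := by
    have hle : R ≤ R.comap (MulAut.conj d).toMonoidHom := sup_le
      (fun w hw => Subgroup.mem_sup_left (hdWm w hw))
      (fun q hq => Subgroup.mem_sup_right (hQn.conj_mem q hq d))
    exact fun x hx => hle hx
  have hfpf' : ∀ w ∈ W, d * w * d⁻¹ = w → w = 1 := fun w hw e => by
    have : w ∈ W ⊓ Subgroup.centralizer {d} :=
      ⟨hw, Subgroup.mem_centralizer_singleton_iff.mpr (mul_inv_eq_iff_eq_mul.mp e).symm⟩
    rwa [hfpf, Subgroup.mem_bot] at this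
  obtain ⟨h4, hinvR, hWcR, hd3⟩ := Cfsg.Agent.Squaring.rankTwo_setup hn hR2
    hdR (fun E _ hE => hrank E hE) hW
    le_sup_left hW1 hdWm hfpf'
  have hWQ : W ≤ Q := fun w hw => hchar (Subgroup.mem_centralizer_iff.mpr fun q hq =>
    (hWcR w hw q (Subgroup.mem_sup_right hq)).symm)
  have hinvQ : ∀ x ∈ Q, x * x = 1 → x ∈ W := fun x hx => hinvR x (Subgroup.mem_sup_right hx)
  have hWc : ∀ w ∈ W, ∀ x ∈ Q, Commute w x := fun w hw x hx => hWcR w hw x (Subgroup.mem_sup_right hx)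
  have hW2' : ∀ w ∈ W, w * w = 1 := fun w hw => by rw [← pow_two]; exact hW.2 w hw
  haveI hWn : W.Normal := ⟨fun w hw g => hinvQ _ (hQn.conj_mem w (hWQ hw) g) (by
    rw [show g * w * g⁻¹ * (g * w * g⁻¹) = g * (w * w) * g⁻¹ by group, hW2' w hw]; simp)⟩
  -- an element of order three centralising `W`
  obtain ⟨g, hg⟩ := hsix
  set t := g ^ 3 with ht
  set c₀ := g ^ 2 with hc₀
  have htc : Commute t c₀ := (Commute.refl g).pow_pow 3 2
  have hg6 : g ^ 6 = 1 := orderOf_dvd_iff_pow_eq_one.mp (dvd_of_eq hg)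
  have hc₀3 : c₀ ^ 3 = 1 := by rw [hc₀, ← pow_mul]; exact hg6
  have ht2 : t * t = 1 := by rw [ht, ← pow_add]; exact hg6
  have hc₀1 : c₀ ≠ 1 := fun e => by
    have := orderOf_dvd_of_pow_eq_one e
    rw [hg] at this; norm_num at this
  have ht1 : t ≠ 1 := fun e => by
    have := orderOf_dvd_of_pow_eq_one e
    rw [hg] at this; norm_num at this
  have hcW : ∀ a ∈ W, ∀ b ∈ W, a * b = b * a := fun a ha b hb =>
    congrArg Subtype.val (hW.1.is_comm.comm ⟨a, ha⟩ ⟨b, hb⟩)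
  -- `t` fixes exactly one involution `w₀` of `W` that `c₀` also fixes
  obtain ⟨w₀, hw₀, hw₀1, hw₀c⟩ : ∃ w₀ ∈ W, w₀ ≠ 1 ∧ c₀ * w₀ * c₀⁻¹ = w₀ := by
    by_cases htW : t ∈ W
    · exact ⟨t, htW, ht1, by rw [← htc.eq, mul_inv_cancel_right]⟩
    obtain ⟨w, hw, hwt⟩ : ∃ w ∈ W, t * w * t⁻¹ ≠ w := by
      by_contra h
      push Not at h
      have hte : Cfsg.IsElementaryAbelian 2 (Subgroup.zpowers t) := ⟨inferInstance, fun a ha => by
        obtain ⟨i, rfl⟩ := Subgroup.mem_zpowers_iff.mp ha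
        rw [← zpow_natCast, zpow_comm, zpow_natCast, pow_two, ht2, one_zpow]⟩
      have hle := hrank (W ⊔ Subgroup.zpowers t) (Cfsg.Agent.Squaring.sup_elementary hW hte
        fun a ha b hb => by
          obtain ⟨i, rfl⟩ := Subgroup.mem_zpowers_iff.mp hb
          exact (show Commute t a from mul_inv_eq_iff_eq_mul.mp (h a ha)).symm.zpow_right i)
      have e : W = W ⊔ Subgroup.zpowers t := Subgroup.eq_of_le_of_card_ge le_sup_left (by omega)
      exact htW (e ▸ Subgroup.mem_sup_right (Subgroup.mem_zpowers t))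
    set v := t * w * t⁻¹ with hv
    have hvW : v ∈ W := hWn.conj_mem w hw t
    set w₀ := w * v with hw₀
    have hw₀W : w₀ ∈ W := mul_mem hw hvW
    have hw₀t : t * w₀ * t⁻¹ = w₀ := by
      calc t * w₀ * t⁻¹ = (t * w * t⁻¹) * ((t * t) * w * (t * t)⁻¹) := by rw [hw₀, hv]; group
        _ = v * w := by rw [ht2, ← hv]; simp
        _ = _ := hcW v hvW w hw
    have hw₀1 : w₀ ≠ 1 := fun e => hwt (by
      rw [hw₀] at e
      rw [eq_inv_of_mul_eq_one_right e, inv_eq_of_mul_eq_one_right (hW2' w hw)])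
    refine ⟨w₀, hw₀W, hw₀1, ?_⟩
    set y := c₀ * w₀ * c₀⁻¹ with hy
    have hyW : y ∈ W := hWn.conj_mem w₀ hw₀W c₀
    have hyt : t * y * t⁻¹ = y := by
      calc t * y * t⁻¹ = (t * c₀) * w₀ * (t * c₀)⁻¹ := by rw [hy]; group
        _ = (c₀ * t) * w₀ * (c₀ * t)⁻¹ := by rw [htc.eq]
        _ = c₀ * (t * w₀ * t⁻¹) * c₀⁻¹ := by group
        _ = y := by rw [hw₀t]
    by_contra hne
    -- then `t` fixes two independent elements, so all of `W`
    have hy1 : y ≠ 1 := fun e => hw₀1 (by simpa [hy] using e)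
    let F : Subgroup G :=
      { carrier := {a | a ∈ W ∧ t * a * t⁻¹ = a}
        one_mem' := ⟨one_mem _, by simp⟩
        mul_mem' := fun {a b} ha hb => ⟨mul_mem ha.1 hb.1, by
          rw [show t * (a * b) * t⁻¹ = (t * a * t⁻¹) * (t * b * t⁻¹) by group, ha.2, hb.2]⟩
        inv_mem' := fun {a} ha => ⟨inv_mem ha.1, by
          rw [show t * a⁻¹ * t⁻¹ = (t * a * t⁻¹)⁻¹ by group, ha.2]⟩ }
    have hF3 : 3 ≤ Nat.card F :=
      Cfsg.Agent.Squaring.three_le_card (a := w₀) (b := y) ⟨hw₀W, hw₀t⟩ ⟨hyW, hyt⟩ hw₀1 hy1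
        (fun e => hne e.symm)
    obtain ⟨k, hk⟩ := IsPGroup.iff_card.mp (hW2.to_le (show F ≤ W from fun a ha => ha.1))
    have hFW : F = W := Subgroup.eq_of_le_of_card_ge (fun a ha => ha.1) (by
      have hk2 : 2 ≤ k := by
        by_contra h
        have := Nat.pow_le_pow_right (n := 2) (i := k) (j := 1) (by norm_num) (by omega)
        omega
      have := Nat.pow_le_pow_right (n := 2) (i := 2) (j := k) (by norm_num) hk2
      omega)
    exact hwt (hFW ▸ hw : w ∈ F).2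
  have hc₀W : ∀ w ∈ W, c₀ * w * c₀⁻¹ = w := by
    intro w hw
    by_contra hne
    set v := c₀ * w * c₀⁻¹ with hv
    set u := c₀ * v * c₀⁻¹ with hu
    have hvW : v ∈ W := hWn.conj_mem w hw c₀
    have huW : u ∈ W := hWn.conj_mem v hvW c₀
    have hback : c₀ * u * c₀⁻¹ = w := by
      calc c₀ * u * c₀⁻¹ = c₀ ^ 3 * w * (c₀ ^ 3)⁻¹ := by rw [hu, hv, pow_succ, pow_two]; group
        _ = w := by rw [hc₀3]; simp
    have hw1 : w ≠ 1 := fun e => hne (by rw [hv, e]; simp)
    have hv1 : v ≠ 1 := fun e => hw1 (by simpa [hv] using e)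
    have hu1 : u ≠ 1 := fun e => hv1 (by simpa [hu] using e)
    have huv : u ≠ v := fun e => hne (by
      apply (MulAut.conj c₀).injective
      simp only [MulAut.conj_apply]
      rw [← hu, ← hv, e])
    have huw : u ≠ w := fun e => hne (by
      have h2 : c₀ * w * c₀⁻¹ = w := by rw [← e] at hback ⊢; exact hback
      rw [hv, h2])
    have hw0w : w₀ ≠ w := fun e => hne (by rw [hv, ← e, hw₀c])
    have hw0v : w₀ ≠ v := fun e => hne ((MulAut.conj c₀).injective (by
      simp only [MulAut.conj_apply]; rw [← hu, ← hv, ← e] ; rw [hu, ← e, hw₀c]))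
    have hw0u : w₀ ≠ u := fun e => hw0w (by rw [← hback, ← e, hw₀c])
    rcases Cfsg.Agent.Squaring.mem_of_card_four h4 hW2' hw hvW hw1 hv1 (Ne.symm hne) huW
      with e | e | e | e
    · exact hu1 e
    · exact huw e
    · exact huv e
    rcases Cfsg.Agent.Squaring.mem_of_card_four h4 hW2' hw hvW hw1 hv1 (Ne.symm hne) hw₀
      with e' | e' | e' | e'
    · exact hw₀1 e'
    · exact hw0w e'
    · exact hw0v e'
    · exact hw0u (e'.trans e.symm)
  set CW := Subgroup.centralizer (W : Set G) with hCW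
  have hc₀C : c₀ ∈ CW := Subgroup.mem_centralizer_iff.mpr fun w hw =>
    (mul_inv_eq_iff_eq_mul.mp (hc₀W w hw)).symm
  have hnotC : ∀ x : G, orderOf x = 3 → ∃ q ∈ Q, x * q * x⁻¹ ≠ q := by
    intro x hx
    by_contra h
    push Not at h
    have hxQ : x ∈ Q := hchar (Subgroup.mem_centralizer_iff.mpr fun q hq =>
      (mul_inv_eq_iff_eq_mul.mp (h q hq)).symm)
    obtain ⟨k, hk⟩ := IsPGroup.iff_orderOf.mp hQ2 ⟨x, hxQ⟩
    rw [Subgroup.orderOf_mk, hx] at hk
    rcases k with _ | k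
    · norm_num at hk
    · rw [pow_succ] at hk; omega
  have hd3C : d ^ 3 ∈ CW := Subgroup.mem_centralizer_iff.mpr fun w hw =>
    (mul_inv_eq_iff_eq_mul.mp (hd3 w hw)).symm
  have hdC : d ∉ CW := fun h => by
    obtain ⟨w, hw, hw1⟩ : ∃ w ∈ W, w ≠ 1 := ⟨w₀, hw₀, hw₀1⟩
    exact hw1 (hfpf' w hw (mul_inv_eq_iff_eq_mul.mpr (Subgroup.mem_centralizer_iff.mp h w hw).symm))
  rcases Nat.lt_or_ge n 2 with hn1 | hn2
  · have hn' : n = 1 := by
      rcases n with _ | n
      · rw [pow_zero, orderOf_eq_one_iff] at hn; exact absurd hn hd1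
      · omega
    rw [hn', pow_one] at hn
    obtain ⟨T, hT⟩ := hd.exists_le_sylow
    have hdT : d ∈ (T : Subgroup G) := hT (Subgroup.mem_zpowers d)
    have hc₀o : orderOf c₀ = 3 := orderOf_eq_prime hc₀3 hc₀1
    obtain ⟨T', hT'⟩ := (IsPGroup.of_card (G := Subgroup.zpowers c₀) (n := 1)
      (by rw [Nat.card_zpowers, hc₀o, pow_one])).exists_le_sylow
    obtain ⟨a, ha⟩ := MulAction.exists_smul_eq G T' T
    set c₁ := a * c₀ * a⁻¹ with hc₁
    have hc₁T : c₁ ∈ (T : Subgroup G) := by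
      rw [← ha, Sylow.coe_subgroup_smul]
      exact ⟨c₀, hT' (Subgroup.mem_zpowers c₀), rfl⟩
    haveI : CW.Normal := inferInstance
    have hne : CW.subgroupOf (T : Subgroup G) ≠ ⊥ := fun h => hc₀1 (by
      have h1 : (⟨c₁, hc₁T⟩ : (T : Subgroup G)) ∈ CW.subgroupOf (T : Subgroup G) :=
        Subgroup.Normal.conj_mem inferInstance _ hc₀C a
      rw [h, Subgroup.mem_bot] at h1
      have h2 : c₁ = 1 := congrArg Subtype.val h1
      simpa [hc₁] using h2)
    obtain ⟨⟨c, hcT⟩, hcC, hcen, hco⟩ := Cfsg.Agent.PGroup.exists_central_order_p T.isPGroup' hne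
    rw [Subgroup.orderOf_mk] at hco
    rw [Subgroup.mem_subgroupOf] at hcC
    have hcd : Commute c d :=
      (congrArg Subtype.val (Subgroup.mem_center_iff.mp hcen ⟨d, hdT⟩)).symm
    have hcW' : ∀ w ∈ W, c * w * c⁻¹ = w := fun w hw =>
      mul_inv_eq_iff_eq_mul.mpr (Subgroup.mem_centralizer_iff.mp hcC w hw).symm
    have hcom : ∀ (x : Subgroup.zpowers c) (y : Subgroup.zpowers d),
        Commute ((Subgroup.zpowers c).subtype x) ((Subgroup.zpowers d).subtype y) := by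
      rintro ⟨x, hx⟩ ⟨y, hy⟩
      obtain ⟨i, rfl⟩ := Subgroup.mem_zpowers_iff.mp hx
      obtain ⟨j, rfl⟩ := Subgroup.mem_zpowers_iff.mp hy
      exact hcd.zpow_zpow i j
    let ψ := (Subgroup.zpowers c).subtype.noncommCoprod (Subgroup.zpowers d).subtype hcom
    have hdzC : ∀ j : ℤ, d ^ j ∈ CW → d ^ j = 1 := by
      intro j hj
      by_contra hne
      haveI : Fact (Nat.card (Subgroup.zpowers d)).Prime := ⟨by rw [Nat.card_zpowers, hn]; norm_num⟩
      have hmem : (⟨d, Subgroup.mem_zpowers d⟩ : Subgroup.zpowers d) ∈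
          Subgroup.zpowers (⟨d ^ j, Subgroup.zpow_mem_zpowers d j⟩ : Subgroup.zpowers d) :=
        mem_zpowers_of_prime_card rfl (fun e => hne (congrArg Subtype.val e))
      obtain ⟨i, hi⟩ := Subgroup.mem_zpowers_iff.mp hmem
      have h2 : (d ^ j) ^ i = d := by simpa using congrArg Subtype.val hi
      exact hdC (h2 ▸ zpow_mem hj i)
    have hinj : Function.Injective ψ := by
      refine (MonoidHom.noncommCoprod_injective _ _ hcom).mpr
        ⟨Subgroup.subtype_injective _, Subgroup.subtype_injective _, ?_⟩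
      rw [Subgroup.range_subtype, Subgroup.range_subtype, Subgroup.disjoint_def]
      intro x hx hx'
      obtain ⟨j, rfl⟩ := Subgroup.mem_zpowers_iff.mp hx'
      exact hdzC j (Subgroup.zpowers_le.mpr hcC hx)
    refine Cfsg.Agent.Squaring.rankTwo_contra (D := ψ.range) (c := c) hQ2 hWQ hinvQ hW2' hWc h4.le
      (fun g _ x hx => hQn.conj_mem x hx g) (fun g _ w hw => hWn.conj_mem w hw g)
      ⟨(⟨c, Subgroup.mem_zpowers c⟩, 1), by simp [ψ]⟩
      (by rw [← hco]; exact pow_orderOf_eq_one c) ?_ hcW' (hnotC c hco) ?_ ?_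
    · rintro _ ⟨⟨⟨x, hx⟩, ⟨y, hy⟩⟩, rfl⟩
      obtain ⟨i, rfl⟩ := Subgroup.mem_zpowers_iff.mp hx
      obtain ⟨j, rfl⟩ := Subgroup.mem_zpowers_iff.mp hy
      exact ((Commute.refl c).zpow_right i).mul_right (hcd.zpow_right j)
    · rw [← Nat.card_congr (MonoidHom.ofInjective hinj).toEquiv, Nat.card_prod, Nat.card_zpowers,
        Nat.card_zpowers, hco, hn]
    · rintro _ ⟨⟨⟨x, hx⟩, ⟨y, hy⟩⟩, rfl⟩ hne1
      obtain ⟨i, rfl⟩ := Subgroup.mem_zpowers_iff.mp hx
      obtain ⟨j, rfl⟩ := Subgroup.mem_zpowers_iff.mp hy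
      change c ^ i * d ^ j ≠ 1 at hne1
      change c ∈ Subgroup.zpowers (c ^ i * d ^ j) ∨ ∀ w ∈ W,
        c ^ i * d ^ j * w * (c ^ i * d ^ j)⁻¹ = w → w = 1
      by_cases hj : d ^ j = 1
      · left
        rw [hj, mul_one] at hne1 ⊢
        haveI : Fact (Nat.card (Subgroup.zpowers c)).Prime := ⟨by rw [Nat.card_zpowers, hco]; norm_num⟩
        have hmem : (⟨c, Subgroup.mem_zpowers c⟩ : Subgroup.zpowers c) ∈
            Subgroup.zpowers (⟨c ^ i, Subgroup.zpow_mem_zpowers c i⟩ : Subgroup.zpowers c) :=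
          mem_zpowers_of_prime_card rfl (fun e => hne1 (congrArg Subtype.val e))
        obtain ⟨k, hk⟩ := Subgroup.mem_zpowers_iff.mp hmem
        exact Subgroup.mem_zpowers_iff.mpr ⟨k, by simpa using congrArg Subtype.val hk⟩
      · right
        intro w hw e
        have hwW : d ^ j * w * (d ^ j)⁻¹ ∈ W := hWn.conj_mem w hw _
        have hci : Commute (c ^ i) (d ^ j * w * (d ^ j)⁻¹) :=
          Commute.zpow_left (Subgroup.mem_centralizer_iff.mp hcC _ hwW).symm i
        have h2 : d ^ j * w * (d ^ j)⁻¹ = w := by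
          refine Eq.trans ?_ e
          calc d ^ j * w * (d ^ j)⁻¹ = (c ^ i * (d ^ j * w * (d ^ j)⁻¹)) * (c ^ i)⁻¹ := by
                rw [hci.eq, mul_inv_cancel_right]
            _ = _ := by group
        haveI : Fact (Nat.card (Subgroup.zpowers d)).Prime := ⟨by rw [Nat.card_zpowers, hn]; norm_num⟩
        have hmem : (⟨d, Subgroup.mem_zpowers d⟩ : Subgroup.zpowers d) ∈
            Subgroup.zpowers (⟨d ^ j, Subgroup.zpow_mem_zpowers d j⟩ : Subgroup.zpowers d) :=
          mem_zpowers_of_prime_card rfl (fun e => hj (congrArg Subtype.val e))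
        obtain ⟨k, hk⟩ := Subgroup.mem_zpowers_iff.mp hmem
        have h3 : (d ^ j) ^ k = d := by simpa using congrArg Subtype.val hk
        have h4' : Commute d w := h3 ▸ Commute.zpow_left (mul_inv_eq_iff_eq_mul.mp h2) k
        exact hfpf' w hw (mul_inv_eq_iff_eq_mul.mpr h4'.eq)
  · set c := d ^ (3 ^ (n - 1)) with hc
    have hc3 : c ^ 3 = 1 := by
      rw [hc, ← pow_mul, ← pow_succ, show n - 1 + 1 = n by omega, ← hn, pow_orderOf_eq_one]
    have hco : orderOf c = 3 := orderOf_eq_prime hc3 (fun e => by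
      have h := orderOf_dvd_of_pow_eq_one e
      rw [hn] at h
      exact absurd (Nat.le_of_dvd (by positivity) h)
        (not_le.mpr (Nat.pow_lt_pow_right (by norm_num) (by omega))))
    have hcd : c ∈ Subgroup.zpowers d := pow_mem (Subgroup.mem_zpowers d) _
    have hcC : c ∈ CW := by
      rw [hc, show 3 ^ (n - 1) = 3 * 3 ^ (n - 2) by rw [← pow_succ']; congr 1; omega, pow_mul]
      exact pow_mem hd3C _
    refine Cfsg.Agent.Squaring.rankTwo_contra (D := Subgroup.zpowers d) (c := c) hQ2 hWQ hinvQ hW2'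
      hWc h4.le (fun g _ x hx => hQn.conj_mem x hx g) (fun g _ w hw => hWn.conj_mem w hw g) hcd hc3
      ?_ (fun w hw => mul_inv_eq_iff_eq_mul.mpr (Subgroup.mem_centralizer_iff.mp hcC w hw).symm)
      (hnotC c hco) ?_ ?_
    · intro g hg
      obtain ⟨i, rfl⟩ := Subgroup.mem_zpowers_iff.mp hg
      exact ((Commute.refl d).pow_left _).zpow_right i
    · rw [Nat.card_zpowers, hn]
      exact pow_dvd_pow 3 hn2
    · intro g hg hg1
      exact Or.inl (Cfsg.Agent.Squaring.mem_zpowers_of_order_three hn hg hg1 hcd hc3)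


end Cfsg.Agent.S3739
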