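import Cfsg.Statements.S3740
import Cfsg.Agent.EqLemmas
import Cfsg.Agent.S0261
import Cfsg.Agent.Lib.GL2Odd.Main
import Cfsg.Agent.Lib.Coprime.Invariant
import Cfsg.Agent.Lib.Coprime.Abelian
import Cfsg.Agent.Lib.Transfer.QuaternionFusion
-- import your own Cfsg.Agent.* helpers here

set_option autoImplicit false
open Cfsg

namespace Cfsg.Agent.S3740

open PSL2

variable {F : Type} [Field F] {p : ℕ} [Fact p.Prime] [CharP F p]

/-- A semisimple element with trace `±2` is central. -/
theorem mem_center_of_tr (hp : p ≠ 2) {x : SL2 F} (hx : (orderOf x).Coprime p) (h : tr x = 2 ∨ tr x = -2) :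
    x ∈ Subgroup.center (SL2 F) := by
  have h1 : (x * x) ^ p = 1 := by
    rw [(Commute.refl x).mul_pow]
    rcases h with h | h
    · rw [GL2Odd.pow_char_of_tr_two p h, mul_one]
    · rw [GL2Odd.pow_char_of_tr_neg_two p hp h, neg_one_mul, neg_neg]
  refine mem_center_of_mul_self (GL2Odd.two_ne_zero' p hp) ?_
  have h2 : x * x ∈ (⊥ : Subgroup (SL2 F)) := by
    refine Coprime.mem_of_pow_mem (n := p) ?_ (Subgroup.mem_bot.mpr h1)
    rw [← pow_two]
    exact hx.coprime_dvd_left (orderOf_pow_dvd 2)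
  exact Subgroup.mem_bot.mp h2

/-- A semisimple element commuting with a nontrivial unipotent element is central. -/
theorem mem_center_of_commute (hp : p ≠ 2) {a x : SL2 F} (ha : a ∉ Subgroup.center (SL2 F)) (hta : tr a = 2)
    (hx : (orderOf x).Coprime p) (hc : Commute a x) : x ∈ Subgroup.center (SL2 F) := by
  obtain ⟨α, β, hab⟩ := exists_lin_of_commute ha (congrArg Subtype.val hc.symm.eq)
  refine mem_center_of_tr hp hx ?_
  have hd : (lin a α β).det = 1 := hab ▸ x.2
  rw [det_lin, hta] at hd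
  have ht : tr x = 2 * (α + β) := by
    rw [GL2Odd.tr_lin a x hab, hta]; ring
  rcases sq_eq_one_iff.1 (show (α + β) ^ 2 = 1 by linear_combination hd) with h | h
  · left; rw [ht, h, mul_one]
  · right; rw [ht, h]; ring

/-- An element of odd order conjugating a semisimple element into its centraliser commutes with it. -/
theorem commute_of_conj_commute (hp : p ≠ 2) {a x : SL2 F} (ha : Odd (orderOf a)) (hx : (orderOf x).Coprime p)
    (hc : Commute (a * x * a⁻¹) x) : Commute a x := by
  by_cases hxc : x ∈ Subgroup.center (SL2 F)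
  · exact (Subgroup.mem_center_iff.1 hxc a)
  obtain ⟨α, β, hab⟩ := exists_lin_of_commute hxc (congrArg Subtype.val hc.eq)
  have hd : (lin x α β).det = 1 := hab ▸ (a * x * a⁻¹).2
  rw [det_lin] at hd
  have ht : tr x = 2 * α + β * tr x := (tr_conj x a).symm.trans (GL2Odd.tr_lin x (a * x * a⁻¹) hab)
  have hne : tr x ^ 2 - 4 ≠ 0 := by
    intro h
    refine hxc (mem_center_of_tr hp hx (sq_eq_sq_iff_eq_or_eq_neg.1 ?_))
    linear_combination h
  have h2 := GL2Odd.two_ne_zero' (F := F) p hp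
  have hb : β ^ 2 = 1 := by
    have : (β ^ 2 - 1) * (tr x ^ 2 - 4) = 0 := by
      linear_combination (-4 : F) * hd - (2 * α + tr x * β + tr x) * ht
    exact sub_eq_zero.1 ((mul_eq_zero.1 this).resolve_right hne)
  rcases sq_eq_one_iff.1 hb with h | h
  · have hα : α = 0 := (mul_eq_zero.1 (show (2 : F) * α = 0 by rw [h] at ht; linear_combination -ht)).resolve_left h2
    have h3 : a * x * a⁻¹ = x := Subtype.ext (by rw [hab, h, hα]; simp [lin])
    exact mul_inv_eq_iff_eq_mul.1 h3
  · have hα : α = tr x := mul_left_cancel₀ h2 (by rw [h] at ht; linear_combination -ht)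
    have h4 : (a * x * a⁻¹).1 * x.1 = 1 := by
      rw [hab, h, hα, lin, add_mul, neg_one_smul, neg_mul, coe_sq, smul_mul_assoc, one_mul]; abel
    have h3 : a * x * a⁻¹ = x⁻¹ := eq_inv_of_mul_eq_one_left (Subtype.ext h4)
    have h5 : Commute (a ^ 2) x := by
      refine mul_inv_eq_iff_eq_mul.1 ?_
      calc a ^ 2 * x * (a ^ 2)⁻¹ = a * (a * x * a⁻¹) * a⁻¹ := by rw [pow_two]; group
        _ = (a * x * a⁻¹)⁻¹ := by conv_lhs => rw [h3]
                                  group
        _ = x := by rw [h3, inv_inv]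
    obtain ⟨k, hk⟩ := exists_pow_eq_self_of_coprime (x := a) (n := 2)
      ((Nat.coprime_two_left.2 ha))
    exact hk ▸ h5.pow_left k


/-- Let F be a finite field of odd characteristic p and let a be a p-element of SL₂(F) normalizing a subgroup R of order prime to p with [R, a] ≠ 1. Then p = 3, R is a quaternion group of order 8, and R⟨a⟩ is isomorphic to SL₂(3). -/
theorem result (F : Type) [Field F] [Fintype F] {p : ℕ} [Fact p.Prime] [CharP F p] (hp : p ≠ 2) (a : Matrix.SpecialLinearGroup (Fin 2) F) (ha : IsPGroup p ↥(Subgroup.zpowers a)) (R : Subgroup (Matrix.SpecialLinearGroup (Fin 2) F)) (hR : (Nat.card R).Coprime p) (haR : a ∈ Subgroup.normalizer (R : Set (Matrix.SpecialLinearGroup (Fin 2) F))) (hnt : ⁅R, Subgroup.zpowers a⁆ ≠ ⊥) : p = 3 ∧ Nonempty (↥R ≃* QuaternionGroup 2) ∧ Nonempty (↥(R ⊔ Subgroup.zpowers a) ≃* Matrix.SpecialLinearGroup (Fin 2) (ZMod 3)) := by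
  classical
  have hpP := (Fact.out : p.Prime)
  have h2F := GL2Odd.two_ne_zero' (F := F) p hp
  set A := Subgroup.zpowers a with hA
  -- `a` is a noncentral element of order `p`
  obtain ⟨k, hk⟩ := ha ⟨a, Subgroup.mem_zpowers a⟩
  have hta : tr a = 2 := GL2Odd.tr_eq_two_of_pow p (congrArg Subtype.val hk : a ^ p ^ k = 1)
  have hap : a ^ p = 1 := GL2Odd.pow_char_of_tr_two p hta
  have hac : a ∉ Subgroup.center (SL2 F) := by
    intro h
    refine hnt (Subgroup.commutator_eq_bot_iff_le_centralizer.2 fun r _ => ?_)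
    intro b hb
    exact (Subgroup.mem_center_iff.1 (Subgroup.zpowers_le.2 h hb) r).symm
  have hao : orderOf a = p := orderOf_eq_prime hap fun h => hac (h ▸ Subgroup.one_mem _)
  have hodd : Odd (orderOf a) := hao ▸ hpP.odd_of_ne_two hp
  have hAc : Nat.card A = p := (Nat.card_zpowers a).trans hao
  have hcop : (Nat.card A).Coprime (Nat.card R) := by rw [hAc]; exact hR.symm
  have hAR : A ≤ Subgroup.normalizer (R : Set (SL2 F)) := Subgroup.zpowers_le.2 haR
  have hxp : ∀ x ∈ R, (orderOf x).Coprime p := fun x hx =>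
    hR.coprime_dvd_left (Subgroup.orderOf_mk x hx ▸ orderOf_dvd_natCard (⟨x, hx⟩ : R))
  -- invariant abelian subgroups are central
  have habel : ∀ Q : Subgroup (SL2 F), Q ≤ R → a ∈ Subgroup.normalizer (Q : Set (SL2 F)) →
      (∀ x ∈ Q, ∀ y ∈ Q, Commute x y) → Q ≤ Subgroup.center (SL2 F) := fun Q hQ haQ hc x hx =>
    mem_center_of_commute hp hac hta (hxp x (hQ hx))
      (commute_of_conj_commute hp hodd (hxp x (hQ hx))
        (hc _ ((Subgroup.mem_normalizer_iff.1 haQ x).1 hx) x hx))
  -- `R` is a 2-group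
  have hR2 : IsPGroup 2 R := by
    refine IsPGroup.iff_card.2 ⟨_, Nat.eq_prime_pow_of_unique_prime_dvd Nat.card_pos.ne' fun {q} hq hd => ?_⟩
    by_contra hq2
    haveI : Fact q.Prime := ⟨hq⟩
    obtain ⟨P, hP⟩ := Coprime.exists_invariant_sylow hAR hcop (Or.inl inferInstance) q
    set Q := (P : Subgroup R).map R.subtype
    have hQq : IsPGroup q Q := P.2.map _
    have hcen : ∀ z ∈ Q, z ∈ Subgroup.center (SL2 F) → z = 1 := by
      intro z hz hzc
      have h2 : z ^ 2 = 1 := by
        rcases mem_center_iff'.1 hzc with h | h <;> simp [h]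
      obtain ⟨j, hj⟩ := hQq ⟨z, hz⟩
      have hj' : z ^ q ^ j = 1 := congrArg Subtype.val hj
      have := pow_gcd_eq_one.mpr ⟨h2, hj'⟩
      rwa [(((Nat.coprime_primes Nat.prime_two hq).2 (Ne.symm hq2)).pow_right j).gcd_eq_one, pow_one] at this
    have hQ1 : Q ≠ ⊥ := by
      rw [Ne, Subgroup.map_eq_bot_iff_of_injective _ R.subtype_injective]
      exact P.ne_bot_of_dvd_card hd
    have hab : ∀ x ∈ Q, ∀ y ∈ Q, Commute x y := by
      haveI : Nontrivial Q := (Subgroup.nontrivial_iff_ne_bot Q).2 hQ1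
      haveI := hQq.center_nontrivial
      obtain ⟨z, hz, hz1⟩ := (Subgroup.nontrivial_iff_exists_ne_one (Subgroup.center Q)).1 inferInstance
      intro x hx y hy
      exact commute_of_commute (fun h => hz1 (Subtype.ext (hcen _ z.2 h)))
        (congrArg Subtype.val (Subgroup.mem_center_iff.1 hz ⟨x, hx⟩))
        (congrArg Subtype.val (Subgroup.mem_center_iff.1 hz ⟨y, hy⟩))
    exact hQ1 (eq_bot_iff.2 fun x hx => hcen x hx
      (habel Q (Subgroup.map_subtype_le _) (hP (Subgroup.mem_zpowers a)) hab hx))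
  have hnc : a ∉ Subgroup.centralizer (R : Set (SL2 F)) := by
    intro h
    exact hnt (Subgroup.commutator_eq_bot_iff_le_centralizer.2
      (Subgroup.le_centralizer_iff.1 (Subgroup.zpowers_le.2 h)))
  have h2cop : Nat.Coprime (orderOf a) 2 := Nat.coprime_two_right.2 hodd
  -- `R` is quaternion of order 8
  haveI : Fact (Nat.Prime 2) := ⟨Nat.prime_two⟩
  obtain ⟨P, hRP⟩ := hR2.exists_le_sylow
  obtain ⟨m, -, ⟨e⟩⟩ := S0261.result (F := F) (by
    rw [← Nat.card_eq_fintype_card]
    obtain ⟨n, -, hn⟩ := FiniteField.card F p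
    rw [Nat.card_eq_fintype_card, hn]
    exact (hpP.odd_of_ne_two hp).pow) P
  have hemb : Nonempty (R ≃* ((R.subgroupOf (P : Subgroup (SL2 F))).map e.toMonoidHom : Subgroup (QuaternionGroup (2 ^ m)))) :=
    ⟨(Subgroup.subgroupOfEquivOfLe hRP).symm.trans ((R.subgroupOf (P : Subgroup (SL2 F))).equivMapOfInjective _ e.injective)⟩
  obtain ⟨e1⟩ := hemb
  obtain ⟨eR⟩ : Nonempty (R ≃* QuaternionGroup 2) := by
    rcases Transfer.quaternion_subgroup_cases (n := m) rfl
      ((R.subgroupOf (P : Subgroup (SL2 F))).map e.toMonoidHom) with h | h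
    · exact absurd (Transfer.centralizes_of_isPGroup_mulAut (Transfer.isPGroup_mulAut_of_equiv e1 h) haR h2cop) hnc
    · exact h.map fun h' => e1.trans h'
  -- `p = 3`
  have hp3 : p = 3 := by
    set f : MulAut R := R.normalizerMonoidHom ⟨a, haR⟩ with hf
    have hf1 : f ≠ 1 := fun h => hnc (Transfer.conj_eq_of_hom_eq_one (y := ⟨a, haR⟩) h)
    have hf12 : f ^ 12 = 1 := by
      apply (MulAut.congr eR).injective
      rw [map_pow, map_one]
      obtain ⟨h1, h2⟩ := S5997.mulAut_quat_pow_twelve (MulAut.congr eR f)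
      refine MulEquiv.ext fun g => ?_
      obtain ⟨j, rfl | rfl⟩ := S5997.quat_decomp g
      · rw [map_pow, h1]; rfl
      · rw [map_mul, map_pow, h1, h2]; rfl
    have hfp : f ^ p = 1 := by
      rw [hf, ← map_pow, show (⟨a, haR⟩ : Subgroup.normalizer (R : Set (SL2 F))) ^ p = 1 from Subtype.ext hap, map_one]
    have hd : p ∣ 12 := by
      by_contra hd
      have := pow_gcd_eq_one.mpr ⟨hfp, hf12⟩
      rw [(hpP.coprime_iff_not_dvd.2 hd).gcd_eq_one, pow_one] at this
      exact hf1 this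
    have hle := Nat.le_of_dvd (by norm_num) hd
    interval_cases p <;> first | rfl | (exfalso; revert hd hp hpP; norm_num)
  subst hp3
  refine ⟨rfl, ⟨eR⟩, ?_⟩
  -- the group `R⟨a⟩`
  set H := R ⊔ A with hH
  have hcard : Nat.card H = 24 := by
    rw [hH, Coprime.card_sup_of_coprime hAR hcop.symm, Nat.card_congr eR.toEquiv, hAc,
      Nat.card_eq_fintype_card, QuaternionGroup.card]
  set R' := R.subgroupOf H with hR'
  set y : H := ⟨a, Subgroup.mem_sup_right (Subgroup.mem_zpowers a)⟩ with hy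
  obtain ⟨H', K', hK', ⟨e2⟩⟩ := Transfer.exists_slTwoThree_section (Q := R')
    ((Subgroup.subgroupOfEquivOfLe (le_sup_left : R ≤ H)).trans eR) (y := y)
    (Subgroup.mem_normalizer_iff.2 fun z => Subgroup.mem_normalizer_iff.1 haR (z : SL2 F))
    (by rw [hy, Subgroup.orderOf_mk]; exact h2cop)
    (fun h => hnc fun r hr => congrArg Subtype.val (h ⟨r, Subgroup.mem_sup_left hr⟩ hr))
  have h24 : Nat.card (H' ⧸ K'.subgroupOf H') = 24 := by
    rw [Nat.card_congr e2.toEquiv, Nat.card_eq_fintype_card]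
    decide +kernel
  have hle : Nat.card H' ≤ 24 := hcard ▸ Subgroup.card_le_card_group H'
  have hmul := Subgroup.card_eq_card_quotient_mul_card_subgroup (K'.subgroupOf H')
  rw [h24] at hmul
  have hK1 : Nat.card (K'.subgroupOf H') = 1 := by
    have := Nat.card_pos (α := K'.subgroupOf H')
    nlinarith
  have hK0 : K'.subgroupOf H' = ⊥ := Subgroup.card_eq_one.1 hK1
  have htop : H' = ⊤ := Subgroup.eq_top_of_card_eq _ (by rw [hmul, hK1, mul_one, hcard])
  exact ⟨((MulEquiv.subgroupCongr htop).trans Subgroup.topEquiv).symm.trans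
    (((QuotientGroup.quotientMulEquivOfEq hK0).trans QuotientGroup.quotientBot).symm.trans e2)⟩

end Cfsg.Agent.S3740
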