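import Cfsg.Statements.S3741
import Cfsg.Agent.EqLemmas
import Cfsg.Agent.Lib.Extraspecial.Basic
import Cfsg.Agent.Lib.Cores.Subnormal

set_option autoImplicit false
open Cfsg

namespace Cfsg.Agent.S3741

/-- Let A and B be subgroups of a finite p-group with [A, B] ≤ A ∩ B and [A, B] of order at most p. Then |A : C_A(B)| = |B : C_B(A)|. -/
theorem result {G : Type*} [Group G] [Finite G] {p : ℕ} [Fact p.Prime] (hG : IsPGroup p G) (A B : Subgroup G) (hAB : ⁅A, B⁆ ≤ A ⊓ B) (hcard : Nat.card ↥⁅A, B⁆ ≤ p) : (A ⊓ Subgroup.centralizer (B : Set G)).relIndex A = (B ⊓ Subgroup.centralizer (A : Set G)).relIndex B := by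
  by_cases hK : ⁅A, B⁆ = ⊥
  · have h1 : A ≤ Subgroup.centralizer (B : Set G) := Subgroup.commutator_eq_bot_iff_le_centralizer.mp hK
    have h2 : B ≤ Subgroup.centralizer (A : Set G) :=
      Subgroup.commutator_eq_bot_iff_le_centralizer.mp (Subgroup.commutator_comm A B ▸ hK)
    rw [inf_eq_left.mpr h1, inf_eq_left.mpr h2, Subgroup.relIndex_self, Subgroup.relIndex_self]
  have hKp : Nat.card ↥⁅A, B⁆ = p := by
    obtain ⟨k, hk⟩ := IsPGroup.iff_card.mp (hG.to_subgroup ⁅A, B⁆)
    cases k with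
    | zero => exact absurd (Subgroup.eq_bot_of_card_eq _ (by simpa using hk)) hK
    | succ k =>
      refine le_antisymm hcard ?_
      rw [hk]
      exact Nat.le_self_pow k.succ_ne_zero p
  set K := ⁅A, B⁆
  haveI hn : (K.subgroupOf (A ⊔ B)).Normal := Subgroup.normal_subgroupOf_of_le_normalizer
    (sup_le (Cfsg.Agent.Cores.commutator_normalizer_left A B) (Cfsg.Agent.Cores.commutator_normalizer_right A B))
  have hKle : K ≤ A ⊔ B := (hAB.trans inf_le_left).trans le_sup_left
  have hcen : K.subgroupOf (A ⊔ B) ≤ Subgroup.center ↥(A ⊔ B) :=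
    Cfsg.Agent.PGroup.le_center_of_card_eq (hG.to_subgroup _)
      ((Nat.card_congr (Subgroup.subgroupOfEquivOfLe hKle).toEquiv).trans hKp)
  exact Cfsg.Agent.Extraspecial.relIndex_centralizer_eq A B K hKp
    (fun k hk g hg => (congrArg Subtype.val
      (Subgroup.mem_center_iff.mp (hcen (show (⟨k, hKle hk⟩ : ↥(A ⊔ B)) ∈ K.subgroupOf (A ⊔ B) from hk)) ⟨g, hg⟩) :
      g * k = k * g).symm)
    (fun a ha b hb => Subgroup.commutator_mem_commutator ha hb)

end Cfsg.Agent.S3741
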