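import Cfsg.Statements.S3744
import Cfsg.Agent.Lib.Solvable.SylowSystem

set_option autoImplicit false
open Cfsg

namespace Cfsg.Agent.S3744

/-- A finite p-soluble group has a p-complement, all its p-complements are conjugate, and every subgroup of order prime to p lies in one of them. Here a p-complement is a subgroup of order prime to p whose index is a power of p. -/
theorem result {G : Type*} [Group G] [Finite G] {p : ℕ} [Fact p.Prime] (hG : Cfsg.IsPSolvable p G) : (∃ H : Subgroup G, (Nat.card H).Coprime p ∧ ∃ n : ℕ, H.index = p ^ n) ∧ (∀ H₁ H₂ : Subgroup G, (Nat.card H₁).Coprime p → (∃ n : ℕ, H₁.index = p ^ n) → (Nat.card H₂).Coprime p → (∃ n : ℕ, H₂.index = p ^ n) → ∃ g : G, H₂ = H₁.map (MulAut.conj g).toMonoidHom) ∧ (∀ U : Subgroup G, (Nat.card U).Coprime p → ∃ H : Subgroup G, (Nat.card H).Coprime p ∧ (∃ n : ℕ, H.index = p ^ n) ∧ ∃ g : G, U.map (MulAut.conj g).toMonoidHom ≤ H) := by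
  have hp : p.Prime := Fact.out
  have hsep : Solvable.IsPiSeparable ({p}ᶜ : Set ℕ) G :=
    (Solvable.isPiSeparable_of_isPSolvable hG).compl
  have hyp : Solvable.HallHyp ({p}ᶜ : Set ℕ) G := Solvable.hallHyp_compl_singleton
  have key : ∀ H : Subgroup G, Cfsg.IsPiHall ({p}ᶜ : Set ℕ) H ↔
      ((Nat.card H).Coprime p ∧ ∃ n : ℕ, H.index = p ^ n) := by
    intro H
    rw [Solvable.isPiHall_iff, compl_compl, Solvable.isPiNum_compl_singleton_iff hp,
      Solvable.isPiNum_singleton_iff Subgroup.index_ne_zero_of_finite hp, Nat.coprime_comm,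
      hp.coprime_iff_not_dvd]
  refine ⟨?_, fun H₁ H₂ a b c d => ?_, fun U hU => ?_⟩
  · obtain ⟨H, hH⟩ := Solvable.exists_piHall hsep hyp
    exact ⟨H, (key H).1 hH⟩
  · obtain ⟨g, hg⟩ := Solvable.piHall_conj hsep hyp ((key H₁).2 ⟨a, b⟩) ((key H₂).2 ⟨c, d⟩)
    exact ⟨g, hg.symm⟩
  · obtain ⟨H, hH, hle⟩ := Solvable.exists_piHall_ge hsep hyp (U := U)
      ((Solvable.isPiNum_compl_singleton_iff hp).2 (hp.coprime_iff_not_dvd.1 hU.symm))
    refine ⟨H, ((key H).1 hH).1, ((key H).1 hH).2, 1, ?_⟩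
    rw [← Solvable.conj_eq_map, Solvable.conj_one_smul]
    exact hle

end Cfsg.Agent.S3744
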