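import Cfsg.Statements.S3746
import Cfsg.Agent.EqLemmas
import Cfsg.Agent.Lib.Components.GenFitting
-- import your own Cfsg.Agent.* helpers here

set_option autoImplicit false
open Cfsg

open scoped commutatorElement

namespace Cfsg.Agent.S3746

/-- Let Z ≤ Z(G) be a central subgroup of a finite group G and E a subgroup of G containing Z whose image E/Z is a component of G/Z (subnormal and quasisimple). Then the derived subgroup [E, E] is a component of G. -/
theorem result {G : Type*} [Group G] [Finite G] (Z : Subgroup G) (hZ : Z ≤ Subgroup.center G) [Z.Normal] (E : Subgroup G) (hZE : Z ≤ E) (hE : Cfsg.IsComponent (E.map (QuotientGroup.mk' Z))) : Cfsg.IsComponent ⁅E, E⁆ := by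
  set X := E
  let g : ↥E →* ↥(E.map (QuotientGroup.mk' Z)) := (QuotientGroup.mk' Z).subgroupMap E
  have hg : Function.Surjective g := (QuotientGroup.mk' Z).subgroupMap_surjective E
  have hker : g.ker ≤ Subgroup.center ↥E := by
    intro x hx
    have h1 : ((x : G) : G ⧸ Z) = 1 := congrArg Subtype.val hx
    refine Subgroup.mem_center_iff.mpr fun y => Subtype.ext ?_
    exact Subgroup.mem_center_iff.mp (hZ ((QuotientGroup.eq_one_iff _).mp h1)) y
  have hperf := hE.2.1
  have hcomap : (Subgroup.center ↥(E.map (QuotientGroup.mk' Z))).comap g = Subgroup.center ↥E := by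
    refine le_antisymm (fun m hm => ?_) fun m hm => ?_
    · have hc : ∀ x : ↥E, ⁅m, x⁆ ∈ Subgroup.center ↥E := fun x => hker (by
        rw [MonoidHom.mem_ker, map_commutatorElement, commutatorElement_eq_one_iff_mul_comm]
        exact (Subgroup.mem_center_iff.mp hm (g x)).symm)
      let φ : ↥E →* Subgroup.center ↥E := MonoidHom.mk' (fun x => ⟨⁅m, x⁆, hc x⟩) fun x y => Subtype.ext (by
        show ⁅m, x * y⁆ = ⁅m, x⁆ * ⁅m, y⁆
        rw [show ⁅m, x * y⁆ = ⁅m, x⁆ * (x * ⁅m, y⁆ * x⁻¹) by simp only [commutatorElement_def]; group,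
          Subgroup.mem_center_iff.mp (hc y) x, mul_inv_cancel_right])
      letI : CommGroup (Subgroup.center ↥E) :=
        { (Subgroup.center ↥E).toGroup with mul_comm := fun a b => Subtype.ext (Subgroup.mem_center_iff.mp b.2 a) }
      have hφ := Abelianization.commutator_subset_ker (G := ↥E) (A := Subgroup.center ↥E) φ
      refine Subgroup.mem_center_iff.mpr fun x => ?_
      have hx : g x ∈ (_root_.commutator ↥E).map g := by
        rw [commutator_def, Subgroup.map_commutator, Subgroup.map_top_of_surjective g hg, ← commutator_def]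
        rw [hperf.commutator_eq_top]; trivial
      obtain ⟨c, hc', hce⟩ := hx
      have h1 : c⁻¹ * x ∈ Subgroup.center ↥E := hker (by
        rw [MonoidHom.mem_ker, map_mul, map_inv, hce, inv_mul_cancel])
      have h2 : ⁅m, c⁆ = 1 := congrArg Subtype.val (hφ hc')
      have h3 : ⁅m, x⁆ = 1 := by
        rw [show ⁅m, x⁆ = ⁅m, c⁆ * (c * ⁅m, c⁻¹ * x⁆ * c⁻¹) by simp only [commutatorElement_def]; group, h2,
          (commutatorElement_eq_one_iff_mul_comm.mpr (Subgroup.mem_center_iff.mp h1 m))]
        group
      exact (commutatorElement_eq_one_iff_mul_comm.mp h3).symm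
    · refine Subgroup.mem_center_iff.mpr fun q => ?_
      obtain ⟨x, rfl⟩ := hg q
      rw [← map_mul, ← map_mul, Subgroup.mem_center_iff.mp hm x]
  let h : ↥E →* _ := (QuotientGroup.mk' (Subgroup.center ↥(E.map (QuotientGroup.mk' Z)))).comp g
  have hh : Function.Surjective h := (QuotientGroup.mk'_surjective _).comp hg
  have hkh : h.ker = Subgroup.center ↥E := by
    rw [← hcomap, ← MonoidHom.comap_ker, QuotientGroup.ker_mk']
  let e : ↥E ⧸ Subgroup.center ↥E ≃* _ :=
    (QuotientGroup.quotientMulEquivOfEq hkh.symm).trans (QuotientGroup.quotientKerEquivOfSurjective h hh)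
  haveI := hE.2.2
  have hs : IsSimpleGroup (↥E ⧸ Subgroup.center ↥E) := MulEquiv.isSimpleGroup e
  have hna : ¬ IsMulCommutative (↥E ⧸ Subgroup.center ↥E) := by
    intro hc
    have hperf' : Group.IsPerfect (↥E ⧸ Subgroup.center ↥E) := by
      haveI := hperf
      haveI : Group.IsPerfect (↥(E.map (QuotientGroup.mk' Z)) ⧸ Subgroup.center ↥(E.map (QuotientGroup.mk' Z))) :=
        Group.IsPerfect.ofSurjective (f := QuotientGroup.mk' _) (QuotientGroup.mk'_surjective _)
      exact Group.IsPerfect.ofSurjective (f := e.symm.toMonoidHom) e.symm.surjective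
    exact Group.IsPerfect.not_isMulCommutative (↥E ⧸ Subgroup.center ↥E) hc
  obtain ⟨-, hq⟩ := Cfsg.Agent.Components.isQuasisimple_commutator hs hna
  have hEsn : E.IsSubnormal := by
    have h1 := hE.1.comap (QuotientGroup.mk' Z)
    rwa [Subgroup.comap_map_eq, QuotientGroup.ker_mk', sup_eq_left.mpr hZE] at h1
  rw [← Subgroup.map_subtype_commutator]
  exact ⟨(Subgroup.Normal.isSubnormal inferInstance).trans' hEsn,
    (Cfsg.Agent.Components.isQuasisimple_map_iff E.subtype_injective _).mpr hq⟩

end Cfsg.Agent.S3746
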