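import Cfsg.Statements.S3747
import Cfsg.Agent.EqLemmas
import Cfsg.Agent.Lib.Components.GenFitting
-- import your own Cfsg.Agent.* helpers here

set_option autoImplicit false
open Cfsg

namespace Cfsg.Agent.S3747

/-- Let G be a finite group. (a) If K is a component of G with trivial centre, then the normal closure of K in G is a minimal normal subgroup of G. (b) If the Fitting subgroup of G is trivial, then the layer E(G) is generated by the minimal normal subgroups of G. -/
theorem result {G : Type*} [Group G] [Finite G] : (∀ K : Subgroup G, Cfsg.IsComponent K → Subgroup.center ↥K = ⊥ → (Subgroup.normalClosure (K : Set G) ≠ ⊥ ∧ ∀ N : Subgroup G, N.Normal → N ≤ Subgroup.normalClosure (K : Set G) → N = ⊥ ∨ N = Subgroup.normalClosure (K : Set G))) ∧ (Cfsg.fittingSubgroup G = ⊥ → sSup {N : Subgroup G | N ≠ ⊥ ∧ N.Normal ∧ ∀ N' : Subgroup G, N'.Normal → N' ≤ N → N' = ⊥ ∨ N' = N} = Cfsg.layer G) := by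
  have hA : ∀ K : Subgroup G, Cfsg.IsComponent K → Subgroup.center ↥K = ⊥ →
      (Subgroup.normalClosure (K : Set G) ≠ ⊥ ∧ ∀ N : Subgroup G, N.Normal → N ≤ Subgroup.normalClosure (K : Set G) →
        N = ⊥ ∨ N = Subgroup.normalClosure (K : Set G)) := by
    intro K hK hZ
    refine ⟨fun h => Cfsg.Agent.Components.IsComponent.ne_bot hK (le_bot_iff.mp (h ▸ Subgroup.le_normalClosure)), ?_⟩
    intro N hN hNM
    haveI := hN
    by_cases hex : ∃ g : G, K.map (MulAut.conj g).toMonoidHom ≤ N
    · obtain ⟨g, hg⟩ := hex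
      refine Or.inr (le_antisymm hNM (Subgroup.normalClosure_le_normal fun k hk => ?_))
      have h1 := hN.conj_mem _ (hg ⟨k, hk, rfl⟩) g⁻¹
      simpa [mul_assoc] using h1
    push Not at hex
    left
    set S : Set (Subgroup G) := {L | ∃ g : G, L = K.map (MulAut.conj g).toMonoidHom} with hS
    have hSc : ∀ L ∈ S, Cfsg.IsComponent L := by
      rintro L ⟨g, rfl⟩; exact Cfsg.Agent.Components.IsComponent.conj hK g
    have hMS : Subgroup.normalClosure (K : Set G) ≤ sSup S := by
      rw [Subgroup.normalClosure, Subgroup.closure_le]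
      intro x hx
      obtain ⟨k, hk, hkx⟩ := Group.mem_conjugatesOfSet_iff.mp hx
      obtain ⟨g, rfl⟩ := isConj_iff.mp hkx
      exact (le_sSup (show K.map (MulAut.conj g).toMonoidHom ∈ S from ⟨g, rfl⟩)) ⟨k, hk, rfl⟩
    have hNC : N ≤ Subgroup.centralizer ((sSup S : Subgroup G) : Set G) := by
      refine Subgroup.le_centralizer_iff.mp (sSup_le ?_)
      rintro L ⟨g, rfl⟩
      refine Subgroup.commutator_eq_bot_iff_le_centralizer.mp ?_
      exact ((Cfsg.Agent.Components.IsComponent.le_or_commutes (Cfsg.Agent.Components.IsComponent.conj hK g)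
        hN.isSubnormal).resolve_left (hex g))
    refine le_bot_iff.mp ((le_inf (hNM.trans hMS) hNC).trans
      ((Cfsg.Agent.Components.sSup_components_inf_centralizer_le hSc).trans (iSup₂_le fun L hL => ?_)))
    obtain ⟨g, rfl⟩ := hL
    rintro x ⟨⟨k, hk, rfl⟩, hx⟩
    rw [Subgroup.mem_bot]
    have hkc : (⟨k, hk⟩ : ↥K) ∈ Subgroup.center ↥K := by
      refine Subgroup.mem_center_iff.mpr fun y => Subtype.ext ((MulAut.conj g).injective ?_)
      have := Subgroup.mem_centralizer_iff.mp hx _ ⟨y, y.2, rfl⟩
      simpa using this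
    rw [hZ, Subgroup.mem_bot] at hkc
    rw [show k = 1 from congrArg Subtype.val hkc, map_one]
  refine ⟨hA, fun hF => le_antisymm (sSup_le ?_) ?_⟩
  · rintro N ⟨hN1, hNn, hNmin⟩
    haveI := hNn
    have hnil : ¬ Group.IsNilpotent ↥N := fun h => hN1 (le_bot_iff.mp
      ((Cfsg.Agent.Cores.le_fittingSubgroup_of_isSubnormal hNn.isSubnormal h).trans hF.le))
    obtain ⟨K, hK, hKN⟩ := Cfsg.Agent.Components.exists_component_le hNn.isSubnormal
      (by
        rw [hF]
        intro x _
        exact Subgroup.mem_centralizer_iff.mpr fun y hy => by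
          rw [SetLike.mem_coe, Subgroup.mem_bot] at hy
          rw [hy, one_mul, mul_one]) hnil
    rcases hNmin _ Subgroup.normalClosure_normal (Subgroup.normalClosure_le_normal hKN) with h | h
    · exact absurd (le_bot_iff.mp (h ▸ Subgroup.le_normalClosure)) (Cfsg.Agent.Components.IsComponent.ne_bot hK)
    · rw [← h]
      refine Subgroup.normalClosure_le_normal (N := Cfsg.layer G) ?_
      exact Cfsg.Agent.Components.IsComponent.le_layer hK
  · refine Cfsg.Agent.Components.layer_le fun K hK => ?_
    have hZ : Subgroup.center ↥K = ⊥ := by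
      rw [← Subgroup.map_eq_bot_iff_of_injective _ K.subtype_injective]
      refine le_bot_iff.mp ((Cfsg.Agent.Cores.le_fittingSubgroup_of_isSubnormal
        ((Subgroup.Normal.isSubnormal inferInstance).trans' hK.1) ?_).trans hF.le)
      letI : CommGroup (Subgroup.center ↥K) :=
        { (Subgroup.center ↥K).toGroup with mul_comm := fun a b => Subtype.ext (Subgroup.mem_center_iff.mp b.2 a) }
      haveI : Group.IsNilpotent (Subgroup.center ↥K) := CommGroup.isNilpotent
      exact Group.nilpotent_of_mulEquiv ((Subgroup.center ↥K).equivMapOfInjective _ K.subtype_injective)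
    obtain ⟨h1, h2⟩ := hA K hK hZ
    exact Subgroup.le_normalClosure.trans (le_sSup (show Subgroup.normalClosure (K : Set G) ∈ {N : Subgroup G |
      N ≠ ⊥ ∧ N.Normal ∧ ∀ N' : Subgroup G, N'.Normal → N' ≤ N → N' = ⊥ ∨ N' = N} from
        ⟨h1, Subgroup.normalClosure_normal, h2⟩))

end Cfsg.Agent.S3747
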