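import Cfsg.Statements.S3748
import Cfsg.Agent.EqLemmas
import Cfsg.Agent.Lib.Cores.Fitting

set_option autoImplicit false
open Cfsg

namespace Cfsg.Agent.S3748

/-- Call a proper subgroup M of G primitive when M = N_G(N) for every non-trivial normal subgroup N of M. If M is a primitive subgroup of the finite group G, then no non-trivial subnormal subgroup of G is contained in M; in particular M ∩ F(G) = 1. -/
theorem result {G : Type*} [Group G] [Finite G] (M : Subgroup G) (hM : M ≠ ⊤) (hprim : ∀ N : Subgroup G, N ≤ M → M ≤ Subgroup.normalizer (N : Set G) → N ≠ ⊥ → Subgroup.normalizer (N : Set G) = M) : (∀ L : Subgroup G, L.IsSubnormal → L ≤ M → L = ⊥) ∧ M ⊓ Cfsg.fittingSubgroup G = ⊥ := by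
  open scoped Pointwise in
  have main : ∀ L : Subgroup G, L.IsSubnormal → L ≤ M → L = ⊥ := by
    intro L hL hLM
    by_contra hne
    haveI : Nontrivial G := (Subgroup.nontrivial_iff (G := G)).mp ⟨⟨_, _, hne⟩⟩
    obtain ⟨R, hR, hRne, hRmin⟩ := Cfsg.Agent.Cores.exists_minimal_normal (G := G)
    haveI := hR
    let K : Subgroup G := ⨆ m : M, MulAut.conj (m : G) • L
    have hKM : K ≤ M := iSup_le fun m z hz => by
      rw [Cfsg.Agent.Cores.mem_conj_smul] at hz
      have := M.mul_mem (M.mul_mem m.2 (hLM hz)) (M.inv_mem m.2)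
      simpa [mul_assoc] using this
    have hMK : M ≤ Subgroup.normalizer (K : Set G) := by
      intro m hm
      rw [← Cfsg.Agent.Cores.conj_smul_eq_self_iff, ← Cfsg.Agent.Cores.conj_smul_le_iff_eq]
      rw [Subgroup.pointwise_smul_subset_iff]
      refine iSup_le fun a => ?_
      rw [← Subgroup.pointwise_smul_subset_iff]
      refine le_trans (le_of_eq ?_) (le_iSup (fun a : M => MulAut.conj (a : G) • L) (⟨m, hm⟩ * a))
      show MulAut.conj m • MulAut.conj (a : G) • L = MulAut.conj (m * (a : G)) • L
      rw [smul_smul, ← map_mul]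
    have hKne : K ≠ ⊥ := by
      intro h
      apply hne
      rw [← le_bot_iff, ← h]
      exact le_trans (le_of_eq (by simp)) (le_iSup (fun a : M => MulAut.conj (a : G) • L) 1)
    have hRK : R ≤ Subgroup.normalizer (K : Set G) := by
      intro r hr
      rw [← Cfsg.Agent.Cores.conj_smul_eq_self_iff, ← Cfsg.Agent.Cores.conj_smul_le_iff_eq]
      rw [Subgroup.pointwise_smul_subset_iff]
      refine iSup_le fun a => ?_
      rw [← Subgroup.pointwise_smul_subset_iff]
      refine le_trans (le_of_eq ?_) (le_iSup (fun a : M => MulAut.conj (a : G) • L) a)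
      exact Cfsg.Agent.Cores.conj_smul_eq_self_iff.mpr
        (Cfsg.Agent.Cores.minimalNormal_le_normalizer R hRmin
          (Cfsg.Agent.Cores.isSubnormal_conj_smul hL _) hr)
    rw [hprim K hKM hMK hKne] at hRK
    have h := hprim R hRK ((Subgroup.normalizer_eq_top R).symm ▸ le_top) hRne
    exact hM (h.symm.trans (Subgroup.normalizer_eq_top R))
  refine ⟨main, main _ ?_ inf_le_left⟩
  exact Cfsg.Agent.Cores.isSubnormal_of_le_fittingSubgroup inf_le_right

end Cfsg.Agent.S3748
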