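import Cfsg.Statements.S3749
import Cfsg.Agent.EqLemmas
import Cfsg.Agent.Lib.Coprime.Invariant
import Cfsg.Agent.Lib.Cores.Basic

set_option autoImplicit false
open Cfsg

namespace Cfsg.Agent.S3749

/-- Call a proper subgroup M of G primitive when M = N_G(N) for every non-trivial normal subgroup N of M. Let M be a primitive subgroup of the finite group G, p a prime with O_p(M) ≠ 1, and N a normal subgroup of G with M ∩ N = 1. Then p does not divide the order of N; for every prime q there is exactly one Sylow q-subgroup of N normalized by M; and if the order of N has at least two prime divisors then M is not a maximal subgroup of G. -/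
theorem result {G : Type*} [Group G] [Finite G] (M : Subgroup G) (hM : M ≠ ⊤) (hprim : ∀ N : Subgroup G, N ≤ M → M ≤ Subgroup.normalizer (N : Set G) → N ≠ ⊥ → Subgroup.normalizer (N : Set G) = M) {p : ℕ} [Fact p.Prime] (hOp : Cfsg.pCore p ↥M ≠ ⊥) (N : Subgroup G) [N.Normal] (hMN : M ⊓ N = ⊥) : ¬ p ∣ Nat.card N ∧ (∀ q : ℕ, [Fact q.Prime] → ∃! Q : Sylow q ↥N, M ≤ Subgroup.normalizer ((Q : Subgroup ↥N).map N.subtype : Set G)) ∧ ((∃ q r : ℕ, q.Prime ∧ r.Prime ∧ q ≠ r ∧ q ∣ Nat.card N ∧ r ∣ Nat.card N) → ¬ IsCoatom M) := by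
  have hp : p.Prime := Fact.out
  set P := (Cfsg.pCore p ↥M).map M.subtype with hP
  have hPp : IsPGroup p P := (Cfsg.Agent.Cores.isPGroup_pCore p ↥M).map _
  have hPM : P ≤ M := Subgroup.map_subtype_le _
  have hMP : M ≤ Subgroup.normalizer (P : Set G) :=
    Subgroup.le_normalizer.trans (Cfsg.Agent.Cores.normalizer_le_normalizer_map (Cfsg.pCore p ↥M))
  have hPne : P ≠ ⊥ := fun h => hOp ((Subgroup.map_eq_bot_iff_of_injective _ M.subtype_injective).mp h)
  have hNP := hprim P hPM hMP hPne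
  have hfix : ∀ x ∈ N, x ∈ Subgroup.centralizer (P : Set G) → x = 1 := fun x hxN hxC => by
    have h1 : x ∈ M ⊓ N := ⟨hNP.le (Subgroup.centralizer_le_normalizer _ hxC), hxN⟩
    rwa [hMN, Subgroup.mem_bot] at h1
  have hpN : ¬ p ∣ Nat.card N := by
    intro hd
    letI : MulAction P N := MulAction.compHom N ((MulAut.conjNormal (H := N)).comp P.subtype)
    obtain ⟨x, hx, hx1⟩ := hPp.exists_fixed_point_of_prime_dvd_card_of_fixed_point N hd
      (show (1 : N) ∈ MulAction.fixedPoints P N from fun y => map_one (MulAut.conjNormal (y : G)))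
    refine hx1 (Subtype.ext (hfix x x.2 (Subgroup.mem_centralizer_iff.mpr fun y hy => ?_))).symm
    have h1 : y * (x : G) * y⁻¹ = x := congrArg Subtype.val (hx ⟨y, hy⟩)
    exact mul_inv_eq_iff_eq_mul.mp h1
  have hNN : P ≤ Subgroup.normalizer (N : Set G) := by
    rw [Subgroup.normalizer_eq_top]; exact le_top
  have hcop : (Nat.card P).Coprime (Nat.card N) := by
    obtain ⟨k, hk⟩ := IsPGroup.iff_card.mp hPp
    rw [hk]; exact Nat.Coprime.pow_left k (hp.coprime_iff_not_dvd.mpr hpN)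
  haveI : Group.IsSolvable P := by
    haveI := hPp.isNilpotent
    infer_instance
  have hsylow : ∀ q : ℕ, [Fact q.Prime] → ∃! Q : Sylow q ↥N,
      M ≤ Subgroup.normalizer ((Q : Subgroup ↥N).map N.subtype : Set G) := by
    intro q _
    have huniq : ∀ Q R : Sylow q ↥N, P ≤ Subgroup.normalizer ((Q : Subgroup ↥N).map N.subtype : Set G) →
        P ≤ Subgroup.normalizer ((R : Subgroup ↥N).map N.subtype : Set G) → Q = R := by
      intro Q R hQ hR
      obtain ⟨c, hc, hcQ⟩ := Cfsg.Agent.Coprime.invariant_sylow_conj hNN hcop (Or.inl inferInstance) Q R hQ hR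
      have : c = 1 := Subtype.ext (hfix _ c.2 hc)
      rwa [this, one_smul] at hcQ
    obtain ⟨Q, hQ⟩ := Cfsg.Agent.Coprime.exists_invariant_sylow hNN hcop (Or.inl inferInstance) q
    refine ⟨Q, fun m hm => ?_, fun R hR => huniq R Q (hPM.trans hR) hQ⟩
    obtain ⟨R, hR⟩ := Cfsg.Agent.Coprime.exists_sylow_conj_eq (K := N) (g := m)
      (by rw [Subgroup.normalizer_eq_top]; trivial) Q
    have hRP : P ≤ Subgroup.normalizer ((R : Subgroup ↥N).map N.subtype : Set G) := by
      intro y hy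
      rw [hR, Subgroup.mem_normalizer_iff]
      have hy' : m⁻¹ * y * m ∈ P := by
        refine (Subgroup.mem_normalizer_iff.mp (hMP hm) _).mpr ?_
        simpa [mul_assoc] using hy
      intro z
      simp only [Cfsg.Agent.Coprime.mem_conj]
      rw [Subgroup.mem_normalizer_iff.mp (hQ hy') (m⁻¹ * z * m)]
      simp [mul_assoc]
    rw [huniq R Q hRP hQ] at hR
    exact Cfsg.Agent.Coprime.mem_normalizer_of_conj_eq hR.symm
  refine ⟨hpN, hsylow, ?_⟩
  rintro ⟨q, r, hq, hr, hqr, hqd, hrd⟩ hmax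
  haveI : Fact q.Prime := ⟨hq⟩
  obtain ⟨Q, hQ, -⟩ := hsylow q
  set Q' := (Q : Subgroup ↥N).map N.subtype with hQ'
  have hQN : Q' ≤ N := Subgroup.map_subtype_le _
  have hQcard : Nat.card Q' = Nat.card (Q : Subgroup ↥N) := Subgroup.card_map_of_injective N.subtype_injective
  have hQne : Nat.card Q' ≠ 1 := by
    rw [hQcard, Sylow.card_eq_multiplicity]
    intro h
    rcases Nat.pow_eq_one.mp h with h' | h'
    · exact hq.ne_one h'
    · exact (hq.factorization_pos_of_dvd Nat.card_pos.ne' hqd).ne' h'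
  have htop : M ⊔ Q' = ⊤ := hmax.2 _ (lt_of_le_of_ne le_sup_left fun h => hQne (by
    have h2 : Q' ≤ M ⊓ N := le_inf (le_sup_right.trans h.ge) hQN
    rw [hMN] at h2
    rw [le_bot_iff.mp h2, Subgroup.card_bot]))
  have hNQ : N ≤ Q' := by
    intro x hx
    have h : x ∈ ((M ⊔ Q' : Subgroup G) : Set G) := by rw [htop]; trivial
    rw [Subgroup.coe_mul_of_left_le_normalizer_right M Q' hQ] at h
    obtain ⟨m, hm, y, hy, rfl⟩ := h
    have h1 : m ∈ M ⊓ N := ⟨hm, by simpa using N.mul_mem hx (N.inv_mem (hQN hy))⟩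
    rw [hMN, Subgroup.mem_bot] at h1
    show m * y ∈ Q'
    rw [h1, one_mul]; exact hy
  have hrQ : r ∣ Nat.card Q' := hrd.trans (Subgroup.card_dvd_of_le hNQ)
  rw [hQcard, Sylow.card_eq_multiplicity] at hrQ
  exact hqr ((Nat.prime_dvd_prime_iff_eq hr hq).mp (hr.dvd_of_dvd_pow hrQ)).symm

end Cfsg.Agent.S3749
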