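import Cfsg.Statements.S3750
import Cfsg.Agent.Lib.Components.GenFitting
import Cfsg.Agent.EqLemmas
-- import your own Cfsg.Agent.* helpers here

set_option autoImplicit false
open Cfsg

open scoped commutatorElement

namespace Cfsg.Agent.S3750

/-- Call a proper subgroup M of G primitive when M = N_G(N) for every non-trivial normal subgroup N of M. Let M be a primitive subgroup of the finite group G and N a normal subgroup of G with M ∩ F*(N) ≠ 1. Then F(G) = 1 and F*(N) = F*(G) = E(G); in particular every minimal normal subgroup of G is contained in N. -/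
theorem result {G : Type*} [Group G] [Finite G] (M : Subgroup G) (hM : M ≠ ⊤) (hprim : ∀ N : Subgroup G, N ≤ M → M ≤ Subgroup.normalizer (N : Set G) → N ≠ ⊥ → Subgroup.normalizer (N : Set G) = M) (N : Subgroup G) [N.Normal] (hMF : M ⊓ (Cfsg.generalizedFittingSubgroup ↥N).map N.subtype ≠ ⊥) : Cfsg.fittingSubgroup G = ⊥ ∧ (Cfsg.generalizedFittingSubgroup ↥N).map N.subtype = Cfsg.generalizedFittingSubgroup G ∧ Cfsg.generalizedFittingSubgroup G = Cfsg.layer G ∧ ∀ K : Subgroup G, K.Normal → K ≠ ⊥ → (∀ K' : Subgroup G, K'.Normal → K' ≤ K → K' = ⊥ ∨ K' = K) → K ≤ N := by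
  classical
  set Fs := Cfsg.generalizedFittingSubgroup G
  set A : Subgroup G := M ⊓ (Cfsg.generalizedFittingSubgroup ↥N).map N.subtype with hA
  have hNinf : (Cfsg.generalizedFittingSubgroup ↥N).map N.subtype = Fs ⊓ N :=
    (Components.genFitting_inf_of_normal N).symm
  -- `M` contains no nontrivial normal subgroup
  have hcore : ∀ K : Subgroup G, K.Normal → K ≤ M → K = ⊥ := by
    intro K hK hKM
    by_contra h
    haveI := hK
    have hn : Subgroup.normalizer (K : Set G) = ⊤ := Subgroup.normalizer_eq_top K
    exact hM ((hprim K hKM (hn ▸ le_top) h).symm.trans hn)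
  have hCA : Subgroup.centralizer (A : Set G) ≤ M := by
    have hn : M ≤ Subgroup.normalizer (A : Set G) := by
      rw [hA, hNinf]
      intro m hm
      refine Subgroup.mem_normalizer_iff.mpr fun x => ?_
      have hFN : (Fs ⊓ N).Normal := inferInstance
      simp only [Subgroup.mem_inf]
      constructor
      · exact fun ⟨h1, h2⟩ => ⟨M.mul_mem (M.mul_mem hm h1) (M.inv_mem hm), hFN.conj_mem x h2 m⟩
      · rintro ⟨h1, h2⟩
        have a := M.mul_mem (M.mul_mem (M.inv_mem hm) h1) hm
        have b := hFN.conj_mem _ h2 m⁻¹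
        group at a b
        exact ⟨by simpa using a, by simpa using b⟩
    intro c hc
    rw [← hprim A inf_le_left hn hMF]
    refine Subgroup.mem_normalizer_iff.mpr fun x => ?_
    constructor
    · intro hx
      rwa [← hc x hx, mul_inv_cancel_right]
    · intro hx
      have h1 := hc _ hx
      rw [mul_assoc (c * x), inv_mul_cancel, mul_one] at h1
      rwa [← mul_left_cancel h1] at hx
  have hAF : A ≤ Fs := inf_le_right.trans (hNinf.trans_le inf_le_left)
  have hAN : A ≤ N := inf_le_right.trans (Subgroup.map_subtype_le _)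
  have hCN : Subgroup.centralizer (N : Set G) = ⊥ :=
    hcore _ inferInstance ((Subgroup.centralizer_le (SetLike.coe_subset_coe.mpr hAN)).trans hCA)
  have hF : Cfsg.fittingSubgroup G = ⊥ := by
    by_contra hF
    set F := Cfsg.fittingSubgroup G
    have hK : (F ⊓ Subgroup.centralizer (F : Set G)) ⊓ N = ⊥ := by
      refine hcore _ inferInstance (le_trans ?_ hCA)
      refine le_trans ?_ (Subgroup.centralizer_le (SetLike.coe_subset_coe.mpr hAF))
      rw [← Subgroup.le_centralizer_iff]
      refine sup_le ?_ ?_
      · exact Components.layer_le_centralizer_fitting.trans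
          (Subgroup.centralizer_le (SetLike.coe_subset_coe.mpr (inf_le_left.trans inf_le_left)))
      · rw [Subgroup.le_centralizer_iff]
        exact inf_le_left.trans inf_le_right
    have hZ : F ⊓ Subgroup.centralizer (F : Set G) = ⊥ := by
      rw [eq_bot_iff, ← hCN]
      intro z hz x hx
      exact ((Subgroup.commute_of_normal_of_disjoint _ N inferInstance inferInstance
        (disjoint_iff.mpr hK) z x hz hx).symm).eq
    haveI : Nontrivial F := (Subgroup.nontrivial_iff_ne_bot _).mpr hF
    haveI : Group.IsNilpotent F := Cores.isNilpotent_of_le_fittingSubgroup le_rfl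
    obtain ⟨z, hz, hz1⟩ := (Subgroup.nontrivial_iff_exists_ne_one (Subgroup.center F)).mp ((Subgroup.nontrivial_iff_ne_bot _).mpr (fun h => Cores.inf_center_ne_bot (G := F) ⊤ top_ne_bot (by rw [h, inf_bot_eq])))
    have : (z : G) ∈ F ⊓ Subgroup.centralizer (F : Set G) :=
      ⟨z.2, fun y hy => congrArg Subtype.val (Subgroup.mem_center_iff.mp hz ⟨y, hy⟩)⟩
    rw [hZ, Subgroup.mem_bot] at this
    exact hz1 (Subtype.ext this)
  have hlay : Fs = Cfsg.layer G := by
    show Cfsg.layer G ⊔ Cfsg.fittingSubgroup G = _
    rw [hF, sup_bot_eq]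
  refine ⟨hF, ?_, hlay, ?_⟩
  · rw [hNinf, inf_eq_left, hlay]
    refine Components.layer_le fun L hL => ?_
    refine (Components.IsComponent.le_or_commutes hL (Subgroup.Normal.isSubnormal inferInstance)).resolve_right
      fun h => Components.IsComponent.ne_bot hL ?_
    exact eq_bot_iff.mpr (hCN ▸ Subgroup.commutator_eq_bot_iff_le_centralizer.mp h)
  · intro K hK hK1 hmin
    rcases hmin (K ⊓ N) inferInstance inf_le_left with h | h
    · refine absurd (eq_bot_iff.mpr (hCN ▸ ?_)) hK1
      intro z hz x hx
      exact ((Subgroup.commute_of_normal_of_disjoint _ N hK inferInstance (disjoint_iff.mpr h) z x hz hx).symm).eq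
    · exact inf_eq_left.mp h

end Cfsg.Agent.S3750
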