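import Cfsg.Statements.S3751
import Cfsg.Agent.EqLemmas
import Cfsg.Agent.Lib.Cores.Subnormal

set_option autoImplicit false
open Cfsg

namespace Cfsg.Agent.S3751

open scoped Pointwise

variable {G : Type*} [Group G] {p : ℕ}

/-- A `p`-local subgroup. -/
abbrev IsPLocalAt (p : ℕ) (M : Subgroup G) : Prop :=
  ∃ T : Subgroup G, IsPGroup p T ∧ T ≠ ⊥ ∧ M = Subgroup.normalizer (T : Set G)

/-- A maximal `p`-local subgroup. -/
abbrev IsMaxLocalAt (p : ℕ) (M : Subgroup G) : Prop :=
  IsPLocalAt p M ∧ ∀ L : Subgroup G, IsPLocalAt p L → M ≤ L → L = M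

/-- The `p`-core of a subgroup, inside the group. -/
abbrev coreIn (p : ℕ) (M : Subgroup G) : Subgroup G := (Cfsg.pCore p M).map M.subtype

lemma isPGroup_coreIn (M : Subgroup G) : IsPGroup p (coreIn p M) :=
  (Cores.isPGroup_pCore p M).map _

lemma normalizer_le_normalizer_coreIn (M : Subgroup G) :
    Subgroup.normalizer (M : Set G) ≤ Subgroup.normalizer (coreIn p M : Set G) :=
  Cores.normalizer_le_normalizer_map (Cfsg.pCore p M)

lemma coreIn_le (M : Subgroup G) : coreIn p M ≤ M := Subgroup.map_subtype_le _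

lemma le_coreIn {M N : Subgroup G} (hN : IsPGroup p N) (hNM : N ≤ M)
    (h : M ≤ Subgroup.normalizer (N : Set G)) : N ≤ coreIn p M := by
  rw [← Subgroup.map_subgroupOf_eq_of_le hNM]
  exact Subgroup.map_mono (Cores.le_pCore (Subgroup.normal_subgroupOf_of_le_normalizer h)
    hN.comap_subtype)

lemma coreIn_ne_bot {M : Subgroup G} (hM : IsPLocalAt p M) : coreIn p M ≠ ⊥ := by
  obtain ⟨T, hT, hTne, rfl⟩ := hM
  intro h
  exact hTne (le_bot_iff.mp (h ▸ le_coreIn hT Subgroup.le_normalizer le_rfl))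

lemma IsMaxLocalAt.normalizer_coreIn {M : Subgroup G} (hM : IsMaxLocalAt p M) :
    Subgroup.normalizer (coreIn p M : Set G) = M :=
  hM.2 _ ⟨_, isPGroup_coreIn M, coreIn_ne_bot hM.1, rfl⟩
    (Subgroup.le_normalizer.trans (normalizer_le_normalizer_coreIn M))

lemma IsMaxLocalAt.normalizer_eq {M : Subgroup G} (hM : IsMaxLocalAt p M) :
    Subgroup.normalizer (M : Set G) = M :=
  le_antisymm ((normalizer_le_normalizer_coreIn M).trans hM.normalizer_coreIn.le) Subgroup.le_normalizer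

lemma IsMaxLocalAt.conj {M : Subgroup G} (hM : IsMaxLocalAt p M) (g : G) :
    IsMaxLocalAt p (MulAut.conj g • M) := by
  have key : ∀ (g : G) (L : Subgroup G), IsPLocalAt p L → IsPLocalAt p (MulAut.conj g • L) := by
    rintro g L ⟨T, hT, hTne, rfl⟩
    refine ⟨MulAut.conj g • T, hT.map _, fun h => hTne ?_, ?_⟩
    · rwa [← Subgroup.smul_bot (MulAut.conj g), smul_left_cancel_iff] at h
    · ext y
      rw [Cores.mem_conj_smul, ← Cores.conj_smul_eq_self_iff, ← Cores.conj_smul_eq_self_iff]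
      conv_rhs => rw [← smul_left_cancel_iff (MulAut.conj g)⁻¹, inv_smul_smul, smul_smul, smul_smul,
        ← map_inv, ← map_mul, ← map_mul]
  refine ⟨key g M hM.1, fun L hL hle => ?_⟩
  have h1 := hM.2 _ (key g⁻¹ L hL) (by
    rw [map_inv]; exact Subgroup.pointwise_smul_subset_iff.mp hle)
  rw [← h1, smul_smul, ← map_mul, mul_inv_cancel, map_one, one_smul]

lemma exists_maxLocal_ge [Finite G] {T : Subgroup G} (hT : IsPGroup p T) (hne : T ≠ ⊥) :
    ∃ L : Subgroup G, IsMaxLocalAt p L ∧ Subgroup.normalizer (T : Set G) ≤ L := by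
  obtain ⟨L, hL, hmax⟩ := exists_maximal_ge_of_wellFoundedGT (fun L : Subgroup G => IsPLocalAt p L)
    (Subgroup.normalizer (T : Set G)) ⟨T, hT, hne, rfl⟩
  exact ⟨L, ⟨hmax.1, fun K hK hle => le_antisymm (hmax.2 hK hle) hle⟩, hL⟩

/-- `T` is a maximal `p`-subgroup of `A`. -/
abbrev MaxPIn (p : ℕ) (T A : Subgroup G) : Prop :=
  ∀ P : Subgroup G, IsPGroup p P → P ≤ A → T ≤ P → P = T

lemma MaxPIn.coreIn_le {T A : Subgroup G} (h : MaxPIn p T A) (hT : IsPGroup p T) (hTA : T ≤ A) :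
    coreIn p A ≤ T := by
  have hnorm : T ≤ Subgroup.normalizer (coreIn p A : Set G) :=
    hTA.trans (Subgroup.le_normalizer.trans (normalizer_le_normalizer_coreIn A))
  have := h _ (hT.to_sup_of_normal_right' (isPGroup_coreIn A) hnorm)
    (sup_le hTA (Cfsg.Agent.S3751.coreIn_le A)) le_sup_left
  exact this ▸ le_sup_right

/-- Two distinct subgroups M₁, M₂ of G form a primitive pair when, for {i, j} = {1, 2}, every non-trivial normal subgroup A of M_i contained in M₁ ∩ M₂ satisfies N_{M_j}(A) = M₁ ∩ M₂; the pair has characteristic p when moreover C_{M_i}(O_p(M_i)) ≤ O_p(M_i) for both i and O_p(M₁)O_p(M₂) ≤ M₁ ∩ M₂. Let G be a finite group, p a prime dividing its order, with O_p(G) = 1 and every p-local subgroup of characteristic p. Then either G has a primitive pair of characteristic p, or every maximal p-local subgroup M of G is strongly p-embedded in G: M is a proper subgroup, p divides its order, and for every g ∉ M the order of M ∩ gMg⁻¹ is prime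 to p. -/
theorem result {G : Type*} [Group G] [Finite G] {p : ℕ} [Fact p.Prime] (hloc : Cfsg.IsOfLocalCharacteristic p G) (hOp : Cfsg.pCore p G = ⊥) : (∃ M₁ M₂ : Subgroup G, M₁ ≠ M₂ ∧ (∀ A : Subgroup G, A ≠ ⊥ → A ≤ M₁ ⊓ M₂ → (M₁ ≤ Subgroup.normalizer (A : Set G) → M₂ ⊓ Subgroup.normalizer (A : Set G) = M₁ ⊓ M₂) ∧ (M₂ ≤ Subgroup.normalizer (A : Set G) → M₁ ⊓ Subgroup.normalizer (A : Set G) = M₁ ⊓ M₂)) ∧ Subgroup.centralizer (Cfsg.pCore p ↥M₁ : Set ↥M₁) ≤ Cfsg.pCore p ↥M₁ ∧ Subgroup.centralizer (Cfsg.pCore p ↥M₂ : Set ↥M₂) ≤ Cfsg.pCore p ↥M₂ ∧ (Cfsg.pCore p ↥M₁).map M₁.subtype ⊔ (Cfsg.pCore p ↥M₂).map M₂.subtype ≤ M₁ ⊓ M₂) ∨ (∀ M : Subgroup G, (∃ T : Subgroup G, IsPGroup p T ∧ T ≠ ⊥ ∧ M = Subgroup.normalizer (T : Set G)) → (∀ L : Subgroup G, (∃ T : Subgroup G, IsPGroup p T ∧ T ≠ ⊥ ∧ L = Subgroup.normalizer (T : Set G)) → M ≤ L → L = M) → M ≠ ⊤ ∧ p ∣ Nat.card M ∧ ∀ g : G, g ∉ M → ¬ p ∣ Nat.card ↥(M ⊓ M.map (MulAut.conj g).toMonoidHom)) := by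
  rw [or_iff_not_imp_left]
  intro hno M hM1 hM2
  have hM : IsMaxLocalAt p M := ⟨hM1, hM2⟩
  obtain ⟨T₀, hT₀, hT₀ne, hMT₀⟩ := hM1
  refine ⟨fun htop => hT₀ne ?_, ?_, fun g hg hd => ?_⟩
  · haveI : T₀.Normal := Subgroup.normalizer_eq_top_iff.mp (hMT₀ ▸ htop)
    exact le_bot_iff.mp (hOp ▸ Cores.le_pCore inferInstance hT₀)
  · obtain ⟨k, hk⟩ := IsPGroup.iff_card.mp hT₀
    cases k with
    | zero => exact absurd (Subgroup.eq_bot_of_card_eq _ (by simpa using hk)) hT₀ne
    | succ k =>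
      exact (hk ▸ dvd_pow_self p (Nat.succ_ne_zero k)).trans
        (Subgroup.card_dvd_of_le (hMT₀ ▸ Subgroup.le_normalizer))
  -- a primitive pair arises from two maximal locals sharing both cores
  have pair : ∀ A B : Subgroup G, IsMaxLocalAt p A → IsMaxLocalAt p B → A ≠ B →
      coreIn p A ≤ B → coreIn p B ≤ A → False := by
    intro A B hA hB hne hAB hBA
    apply hno
    have hchar : ∀ C : Subgroup G, IsMaxLocalAt p C →
        Subgroup.centralizer (Cfsg.pCore p C : Set C) ≤ Cfsg.pCore p C := by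
      rintro C ⟨⟨T, hT, hTne, rfl⟩, _⟩
      exact hloc.2 T hT hTne
    have key : ∀ A B X : Subgroup G, IsMaxLocalAt p A → X ≠ ⊥ → X ≤ A ⊓ B →
        A ≤ Subgroup.normalizer (X : Set G) → B ⊓ Subgroup.normalizer (X : Set G) = A ⊓ B := by
      intro A B X hA hX hXAB hAX
      have hXA : X ≤ A := hXAB.trans inf_le_left
      have hY : coreIn p X ≠ ⊥ := by
        intro h
        apply hX
        have hQ : X ⊓ coreIn p A = ⊥ := le_bot_iff.mp <| h ▸ le_coreIn
          ((isPGroup_coreIn A).to_le inf_le_right) inf_le_left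
          (fun x hx => Subgroup.mem_normalizer_iff.mpr fun y => and_congr
            (Subgroup.mem_normalizer_iff.mp (Subgroup.le_normalizer hx) y)
            (Subgroup.mem_normalizer_iff.mp
              ((Subgroup.le_normalizer.trans (normalizer_le_normalizer_coreIn A)) (hXA hx)) y))
        rw [← Subgroup.map_subgroupOf_eq_of_le hXA] at hQ ⊢
        rw [← Subgroup.map_inf _ _ _ A.subtype_injective, Subgroup.map_eq_bot_iff_of_injective _
          A.subtype_injective] at hQ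
        rw [Subgroup.map_eq_bot_iff_of_injective _ A.subtype_injective]
        have hn : (X.subgroupOf A).Normal := Subgroup.normal_subgroupOf_of_le_normalizer hAX
        have hle : X.subgroupOf A ≤ Subgroup.centralizer (Cfsg.pCore p A : Set A) := by
          rw [← Subgroup.commutator_eq_bot_iff_le_centralizer, eq_bot_iff, ← hQ]
          exact Subgroup.commutator_le_inf _ _
        exact le_bot_iff.mp (hQ ▸ le_inf le_rfl (hle.trans (hchar A hA)))
      have hA' : Subgroup.normalizer (coreIn p X : Set G) = A :=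
        hA.2 _ ⟨_, isPGroup_coreIn X, hY, rfl⟩ (hAX.trans (normalizer_le_normalizer_coreIn X))
      apply le_antisymm
      · exact le_inf (inf_le_right.trans ((normalizer_le_normalizer_coreIn X).trans hA'.le)) inf_le_left
      · exact le_inf inf_le_right (inf_le_left.trans hAX)
    refine ⟨A, B, hne, fun X hX hXAB => ⟨key A B X hA hX hXAB, fun h => ?_⟩, hchar A hA, hchar B hB,
      sup_le (le_inf (Cfsg.Agent.S3751.coreIn_le A) hAB) (le_inf hBA (Cfsg.Agent.S3751.coreIn_le B))⟩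
    rw [inf_comm A B] at hXAB ⊢
    exact key B A X hB hX hXAB h
  -- choose two maximal locals with a largest common p-subgroup
  let S : Set (Subgroup G) := {T | IsPGroup p T ∧ T ≠ ⊥ ∧ ∃ A B : Subgroup G,
    IsMaxLocalAt p A ∧ IsMaxLocalAt p B ∧ A ≠ B ∧ T ≤ A ∧ T ≤ B}
  have hS : S.Nonempty := by
    obtain ⟨x, hx⟩ := exists_prime_orderOf_dvd_card' p hd
    rw [← Subgroup.orderOf_coe] at hx
    refine ⟨Subgroup.zpowers (x : G), IsPGroup.of_card (n := 1) (by rw [Nat.card_zpowers, hx, pow_one]),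
      ?_, M, MulAut.conj g • M, hM, hM.conj g, ?_, ?_, ?_⟩
    · rw [ne_eq, Subgroup.zpowers_eq_bot, ← orderOf_eq_one_iff, hx]
      exact (Fact.out : p.Prime).ne_one
    · intro h
      exact hg (hM.normalizer_eq ▸ Cores.conj_smul_eq_self_iff.mp h.symm)
    · exact Subgroup.zpowers_le.mpr x.2.1
    · exact Subgroup.zpowers_le.mpr x.2.2
  obtain ⟨T, hTS, hTmax⟩ := (Set.toFinite S).exists_maximal hS
  obtain ⟨hT, hTne, A, B, hA, hB, hAB, hTA, hTB⟩ := hTS
  have grow : ∀ P : Subgroup G, IsPGroup p P → T < P → ∀ C D : Subgroup G, IsMaxLocalAt p C →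
      IsMaxLocalAt p D → P ≤ C → P ≤ D → C = D := by
    intro P hP hTP C D hC hD hPC hPD
    by_contra hne
    exact absurd (hTmax ⟨hP, fun h => hTne (le_bot_iff.mp (h ▸ hTP.le)), C, D, hC, hD, hne, hPC, hPD⟩
      hTP.le) hTP.not_ge
  -- the normalizer condition
  have step : ∀ C : Subgroup G, T ≤ C → ¬ MaxPIn p T C → ∃ u, u ∈ C ∧ u ∉ T ∧
      u ∈ Subgroup.normalizer (T : Set G) ∧ IsPGroup p ↥(T ⊔ Subgroup.zpowers u) := by
    intro C hTC h
    simp only [MaxPIn, not_forall] at h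
    obtain ⟨P, hP, hPC, hTP, hne⟩ := h
    haveI := hP.isNilpotent
    have hlt := Group.normalizerCondition_of_isNilpotent (G := P) (T.subgroupOf P) (lt_of_le_of_ne le_top (by
      intro h
      exact hne (le_antisymm (Subgroup.subgroupOf_eq_top.mp h) hTP)))
    obtain ⟨u, hu, huT⟩ := SetLike.exists_of_lt hlt
    have hu' : (u : G) ∈ Subgroup.normalizer (T : Set G) := by
      rw [Subgroup.mem_normalizer_iff]
      intro y
      constructor
      · intro hy
        exact (Subgroup.mem_normalizer_iff.mp hu ⟨y, hTP hy⟩).mp hy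
      · intro hy
        have hyP : y ∈ P := by
          have h2 := P.mul_mem (P.mul_mem (P.inv_mem u.2) (hTP hy)) u.2
          simpa [mul_assoc] using h2
        exact (Subgroup.mem_normalizer_iff.mp hu ⟨y, hyP⟩).mpr hy
    exact ⟨u, hPC u.2, huT, hu', hP.to_le (sup_le hTP (Subgroup.zpowers_le.mpr u.2))⟩
  obtain ⟨L, hL, hTL⟩ := exists_maxLocal_ge hT hTne
  have nonmax : ∀ C : Subgroup G, IsMaxLocalAt p C → T ≤ C → ¬ MaxPIn p T C → L = C := by
    intro C hC hTC h
    obtain ⟨u, huC, huT, hun, hP⟩ := step C hTC h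
    refine (grow _ hP (lt_of_le_of_ne le_sup_left fun h => huT (by
      rw [h]; exact Subgroup.mem_sup_right (Subgroup.mem_zpowers u))) C L hC hL
      (sup_le hTC (Subgroup.zpowers_le.mpr huC)) (sup_le (Subgroup.le_normalizer.trans hTL)
      (Subgroup.zpowers_le.mpr (hTL hun)))).symm
  have oneSided : ∀ C D : Subgroup G, IsMaxLocalAt p C → IsMaxLocalAt p D → C ≠ D → T ≤ C → T ≤ D →
      MaxPIn p T D → ¬ MaxPIn p T C → False := by
    intro C D hC hD hne hTC hTD hDmax hCmax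
    obtain ⟨u, huC, huT, hun, hP⟩ := step C hTC hCmax
    have huD : u ∉ D := fun h => huT (by
      rw [← hDmax _ hP (sup_le hTD (Subgroup.zpowers_le.mpr h)) le_sup_left]
      exact Subgroup.mem_sup_right (Subgroup.mem_zpowers u))
    have hTu : MulAut.conj u • T = T := Cores.conj_smul_eq_self_iff.mpr hun
    have hTDu : T ≤ MulAut.conj u • D := hTu ▸ Subgroup.pointwise_smul_le_pointwise_smul_iff.mpr hTD
    have hDumax : MaxPIn p T (MulAut.conj u • D) := by
      intro P hP hPD hTP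
      have := hDmax ((MulAut.conj u)⁻¹ • P) (hP.map _) (Subgroup.pointwise_smul_subset_iff.mpr (by
        rwa [inv_inv])) (Subgroup.subset_pointwise_smul_iff.mpr (by rwa [inv_inv, hTu]))
      rwa [inv_smul_eq_iff, hTu] at this
    refine pair D (MulAut.conj u • D) hD (hD.conj u) (fun h => huD ?_)
      ((hDmax.coreIn_le hT hTD).trans hTDu) ((hDumax.coreIn_le hT hTDu).trans hTD)
    exact hD.normalizer_eq ▸ Cores.conj_smul_eq_self_iff.mp h.symm
  by_cases hAm : MaxPIn p T A <;> by_cases hBm : MaxPIn p T B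
  · exact pair A B hA hB hAB ((hAm.coreIn_le hT hTA).trans hTB) ((hBm.coreIn_le hT hTB).trans hTA)
  · exact oneSided B A hB hA (Ne.symm hAB) hTB hTA hAm hBm
  · exact oneSided A B hA hB hAB hTA hTB hBm hAm
  · exact hAB ((nonmax A hA hTA hAm).symm.trans (nonmax B hB hTB hBm))

end Cfsg.Agent.S3751
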