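import Cfsg.Statements.S3752
import Cfsg.Agent.EqLemmas
import Cfsg.Agent.Lib.ThompsonWielandt.Basic
import Cfsg.Agent.Lib.Coprime.Basic
-- import your own Cfsg.Agent.* helpers here

set_option autoImplicit false
open Cfsg

namespace Cfsg.Agent.S3752

open Cfsg.Agent.ThompsonWielandt

/-- In a group with `C(F) ≤ F`: a `p`-element centralising every `O_r`, `r ≠ p`, commutes with an element of
order prime to `p` centralising `O_p`. -/
theorem commute_of_cores {M : Type*} [Group M] [Finite M] {p : ℕ} [Fact p.Prime]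
    (hC : Subgroup.centralizer (Cfsg.fittingSubgroup M : Set M) ≤ Cfsg.fittingSubgroup M) {x y : M}
    (hy : ∃ k, y ^ p ^ k = 1)
    (hyc : ∀ r : ℕ, r.Prime → r ≠ p → y ∈ Subgroup.centralizer (Cfsg.pCore r M : Set M))
    (hx : (orderOf x).Coprime p) (hxc : x ∈ Subgroup.centralizer (Cfsg.pCore p M : Set M)) :
    Commute x y := by
  classical
  set z := y * x * y⁻¹ * x⁻¹ with hz
  set P := Cfsg.pCore p M
  set F' := sSup {N : Subgroup M | ∃ r : ℕ, r.Prime ∧ r ≠ p ∧ N = Cfsg.pCore r M} with hF'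
  haveI hF'n : F'.Normal := Subgroup.sSup_normal _ (by rintro _ ⟨r, -, -, rfl⟩; exact Cores.pCore_normal r M)
  haveI hPn : P.Normal := Cores.pCore_normal p M
  have hF'y : F' ≤ Subgroup.centralizer {y} := sSup_le (by
    rintro _ ⟨r, hr, hrp, rfl⟩ w hw
    exact Subgroup.mem_centralizer_singleton_iff.mpr (hyc r hr hrp w hw))
  have hF'c : F' ≤ Cfsg.pPrimeCore p M := sSup_le (by
    rintro _ ⟨r, hr, hrp, rfl⟩
    haveI : Fact r.Prime := ⟨hr⟩
    refine Cores.le_pPrimeCore (Cores.pCore_normal r M) ?_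
    obtain ⟨n, hn⟩ := IsPGroup.iff_card.mp (Cores.isPGroup_pCore r M)
    rw [hn]
    exact Nat.Coprime.pow_left n ((Nat.coprime_primes hr Fact.out).mpr hrp))
  have hsplit : Cfsg.fittingSubgroup M ≤ P ⊔ F' := by
    rw [Cores.fittingSubgroup_eq_iSup_pCore]
    refine iSup_le fun r => ?_
    by_cases h : (r : ℕ) = p
    · exact le_sup_of_le_left (by rw [h])
    · exact le_sup_of_le_right (le_sSup ⟨r, r.2, h, rfl⟩)
  have hzc : z ∈ Subgroup.centralizer (Cfsg.fittingSubgroup M : Set M) := by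
    have h1 : Cfsg.fittingSubgroup M ≤ Subgroup.centralizer {z} := by
      rw [Cores.fittingSubgroup_eq_iSup_pCore]
      refine iSup_le fun r w hw => Subgroup.mem_centralizer_singleton_iff.mpr ?_
      haveI := Cores.pCore_normal (r : ℕ) M
      have hCn : (Subgroup.centralizer (Cfsg.pCore r M : Set M)).Normal := inferInstance
      suffices h : z ∈ Subgroup.centralizer (Cfsg.pCore r M : Set M) from h w hw
      by_cases h : (r : ℕ) = p
      · have hx' : x ∈ Subgroup.centralizer (Cfsg.pCore r M : Set M) := by rw [h]; exact hxc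
        exact mul_mem (hCn.conj_mem x hx' y) (inv_mem hx')
      · have h1 := hyc r r.2 h
        rw [show z = y * (x * y⁻¹ * x⁻¹) by rw [hz]; group]
        exact mul_mem h1 (hCn.conj_mem _ (inv_mem h1) x)
    intro w hw
    exact Subgroup.mem_centralizer_singleton_iff.mp (h1 hw)
  obtain ⟨a, ha, b, hb, hab⟩ := (Coprime.mem_sup_iff (N := P)
    (le_top.trans (Subgroup.normalizer_eq_top P).ge)).mp (hsplit (hC hzc))
  have hdis : P ⊓ F' = ⊥ := by
    obtain ⟨n, hn⟩ := IsPGroup.iff_card.mp (Cores.isPGroup_pCore p M)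
    exact Coprime.inf_eq_bot (by
      rw [hn]
      exact (((Cores.coprime_card_pPrimeCore p).coprime_dvd_left (Subgroup.card_dvd_of_le hF'c)).pow_right n).symm)
  have hab' : Commute a b :=
    Subgroup.commute_of_normal_of_disjoint P F' hPn hF'n (disjoint_iff.mpr hdis) a b ha hb
  have hax : Commute a x := (hxc a ha : a * x = x * a)
  set n := orderOf x with hn
  have hconj : (a * (b * x)) ^ n = 1 := by
    have h1 : a * (b * x) = y * x * y⁻¹ := by
      rw [← mul_assoc, show a * b = z by first | exact hab | exact hab.symm, hz, inv_mul_cancel_right]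
    rw [h1, conj_pow, hn, pow_orderOf_eq_one, mul_one, mul_inv_cancel]
  rw [(hab'.mul_right hax).mul_pow] at hconj
  have hbxn : (b * x) ^ n ∈ F' := by
    rw [← QuotientGroup.eq_one_iff, QuotientGroup.mk_pow, QuotientGroup.mk_mul,
      (QuotientGroup.eq_one_iff b).mpr hb, one_mul, ← QuotientGroup.mk_pow, hn, pow_orderOf_eq_one,
      QuotientGroup.mk_one]
  have han : a ^ n = 1 := by
    rw [← Subgroup.mem_bot, ← hdis]
    exact ⟨P.pow_mem ha n, by rw [eq_inv_of_mul_eq_one_left hconj]; exact F'.inv_mem hbxn⟩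
  have ha1 : a = 1 := by
    obtain ⟨k, hk⟩ := Cores.isPGroup_pCore p M ⟨a, ha⟩
    have hk' : a ^ p ^ k = 1 := congrArg Subtype.val hk
    have := pow_gcd_eq_one.mpr ⟨han, hk'⟩
    rwa [(hx.pow_right k).gcd_eq_one, pow_one] at this
  have hzb : z = b := by
    rw [show z = a * b by first | exact hab | exact hab.symm, ha1, one_mul]
  have hzy : Commute y z :=
    (Subgroup.mem_centralizer_singleton_iff.mp (hF'y (hzb ▸ hb : z ∈ F'))).symm
  have hiter : ∀ i : ℕ, y ^ i * x * (y ^ i)⁻¹ = z ^ i * x := by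
    intro i
    induction i with
    | zero => simp
    | succ i ih =>
      calc y ^ (i + 1) * x * (y ^ (i + 1))⁻¹ = y * (y ^ i * x * (y ^ i)⁻¹) * y⁻¹ := by rw [pow_succ']; group
        _ = (y * z ^ i) * x * y⁻¹ := by rw [ih]; group
        _ = z ^ i * (y * x * y⁻¹) := by rw [(hzy.pow_right i).eq]; group
        _ = z ^ (i + 1) * x := by rw [pow_succ, hz]; group
  obtain ⟨k, hk⟩ := hy
  have h1 := hiter (p ^ k)
  rw [hk, one_mul, inv_one, mul_one] at h1
  have hzk : z ^ p ^ k = 1 := right_eq_mul.mp h1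
  have hzo : z ^ Nat.card F' = 1 := congrArg Subtype.val (pow_card_eq_one' (x := (⟨z, hzb ▸ hb⟩ : F')))
  have hz1 := pow_gcd_eq_one.mpr ⟨hzk, hzo⟩
  rw [((((Cores.coprime_card_pPrimeCore p).coprime_dvd_left (Subgroup.card_dvd_of_le hF'c)).pow_right k).symm).gcd_eq_one,
    pow_one, hz, mul_inv_eq_one, mul_inv_eq_iff_eq_mul] at hz1
  exact hz1.symm

variable {G : Type*} [Group G] [Finite G]

/-- One half of the pair condition. -/
def Half (M N : Subgroup G) : Prop :=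
  ∀ A : Subgroup G, A ≠ ⊥ → A ≤ M ⊓ N → M ≤ Subgroup.normalizer (A : Set G) → N ⊓ Subgroup.normalizer (A : Set G) = M ⊓ N

theorem eq_bot_of_both {M N : Subgroup G} (h₁ : Half M N) (h₂ : Half N M) (hne : M ≠ N) {A : Subgroup G}
    (hA : A ≤ M ⊓ N) (hM : M ≤ Subgroup.normalizer (A : Set G)) (hN : N ≤ Subgroup.normalizer (A : Set G)) :
    A = ⊥ := by
  by_contra h
  have e1 := h₁ A h hA hM
  have e2 := h₂ A h (by rwa [inf_comm]) hN
  rw [inf_eq_left.mpr hN] at e1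
  rw [inf_eq_left.mpr hM, inf_comm] at e2
  exact hne (e2.trans e1.symm)

theorem layerOf_le_layerOf {M N : Subgroup G}
    (hM : (Cfsg.generalizedFittingSubgroup ↥M).map M.subtype ≤ N)
    (hN : (Cfsg.generalizedFittingSubgroup ↥N).map N.subtype ≤ M) : layerOf M ≤ layerOf N := by
  rw [layerOf, Subgroup.map_le_iff_le_comap]
  refine Components.layer_le fun K' hK' => ?_
  rw [← Subgroup.map_le_iff_le_comap]
  set K := K'.map M.subtype with hKdef
  set F₁ := (Cfsg.generalizedFittingSubgroup ↥M).map M.subtype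
  set F₂ := (Cfsg.generalizedFittingSubgroup ↥N).map N.subtype
  have hF1 : F₁ ≤ M ⊓ N := le_inf (Subgroup.map_subtype_le _) hM
  have hF2 : F₂ ≤ M ⊓ N := le_inf hN (Subgroup.map_subtype_le _)
  have hK : Cfsg.IsComponent (K.subgroupOf M) := by
    rwa [hKdef, show (K'.map M.subtype).subgroupOf M = K' from
      Subgroup.comap_map_eq_self_of_injective (Subgroup.subtype_injective M) K']
  have hKF : K ≤ F₁ := Subgroup.map_mono ((Components.IsComponent.le_layer hK').trans Components.layer_le_genFitting)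
  have hL : Cfsg.IsComponent (K.subgroupOf (M ⊓ N)) :=
    isComponent_transfer hKF hF1 (Subgroup.map_subtype_le _) hK
      (isSubnormal_subgroupOf_of_normal (inf_le_left.trans (le_normalizer_map_subtype _)))
  have hK2 : K ≤ F₂ := by
    rcases component_le_or_commutes (hKF.trans hF1) hF2 hL
      (isSubnormal_subgroupOf_of_normal (inf_le_right.trans (le_normalizer_map_subtype _))) with h | h
    · exact h
    · intro k hk
      have hkN : k ∈ N := ((hKF.trans hF1) hk).2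
      refine ⟨⟨k, hkN⟩, Components.centralizer_genFitting_le fun w hw => Subtype.ext ?_, rfl⟩
      exact Subgroup.commutator_eq_bot_iff_le_centralizer.mp h hk (w : G) ⟨w, hw, rfl⟩
  have hc : Cfsg.IsComponent (K.subgroupOf N) :=
    isComponent_transfer hK2 (Subgroup.map_subtype_le _) hF2 hL
      (isSubnormal_subgroupOf_of_normal (le_normalizer_map_subtype _))
  intro k hk
  exact ⟨⟨k, Subgroup.map_subtype_le _ (hK2 hk)⟩, Components.IsComponent.le_layer hc hk, rfl⟩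

theorem pCoreOf_le_inf {M N : Subgroup G} (hM : (Cfsg.generalizedFittingSubgroup ↥M).map M.subtype ≤ N)
    (r : ℕ) [Fact r.Prime] : Cfsg.pCoreOf r M ≤ M ⊓ N :=
  le_inf (pCoreOf_le r M) ((Subgroup.map_mono ((Cores.pCore_le_fittingSubgroup r).trans
    Components.fitting_le_genFitting)).trans hM)

/-- Cores of coprime primes in the intersection commute. -/
theorem commute_cores {L : Subgroup G} {p q : ℕ} [Fact p.Prime] [Fact q.Prime] (hne : p ≠ q) {a b : G}
    (ha : a ∈ Cfsg.pCoreOf p L) (hb : b ∈ Cfsg.pCoreOf q L) : Commute a b := by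
  obtain ⟨a', ha', rfl⟩ := ha
  obtain ⟨b', hb', rfl⟩ := hb
  exact (Cores.pCore_commute hne ha' hb').map L.subtype

theorem pCoreOf_le_pCoreOf {M L : Subgroup G} {r : ℕ} (h : Cfsg.pCoreOf r M ≤ L) (hL : L ≤ M) :
    Cfsg.pCoreOf r M ≤ Cfsg.pCoreOf r L :=
  le_pCoreOf h (isPGroup_pCoreOf r M)
    (isSubnormal_subgroupOf_of_normal (hL.trans (le_normalizer_pCoreOf r M)))

theorem key {M N : Subgroup G}
    (hM : (Cfsg.generalizedFittingSubgroup ↥M).map M.subtype ≤ N)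
    (hN : (Cfsg.generalizedFittingSubgroup ↥N).map N.subtype ≤ M)
    (hCF : Subgroup.centralizer (Cfsg.fittingSubgroup ↥M : Set ↥M) ≤ Cfsg.fittingSubgroup ↥M)
    (h₂ : Half N M) {p q : ℕ} [Fact p.Prime] [Fact q.Prime] (hpq : p ≠ q) (hQ : Cfsg.pCoreOf q N ≠ ⊥) :
    Cfsg.pCoreOf p (M ⊓ N) ≤ Cfsg.pCoreOf p M := by
  classical
  set T := Cfsg.pCoreOf p (M ⊓ N) with hT
  have hTM : T ≤ M := (pCoreOf_le p _).trans inf_le_left
  have hQL : Cfsg.pCoreOf q N ≤ M ⊓ N := by rw [inf_comm]; exact pCoreOf_le_inf hN q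
  -- the `p`-elements centralising all other cores
  let S : Set ↥M := {y | (∃ k, y ^ p ^ k = 1) ∧
    ∀ r : ℕ, r.Prime → r ≠ p → y ∈ Subgroup.centralizer (Cfsg.pCore r ↥M : Set ↥M)}
  set K0 := Subgroup.closure S
  haveI hKn : K0.Normal := by
    refine ⟨fun x hx g => ?_⟩
    have hle : K0 ≤ K0.comap (MulAut.conj g).toMonoidHom := by
      refine (Subgroup.closure_le _).2 fun y hy => Subgroup.subset_closure ⟨?_, fun r hr hrp => ?_⟩
      · obtain ⟨k, hk⟩ := hy.1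
        exact ⟨k, by rw [← map_pow, hk, map_one]⟩
      · haveI := Cores.pCore_normal r ↥M
        exact (inferInstance : (Subgroup.centralizer (Cfsg.pCore r ↥M : Set ↥M)).Normal).conj_mem y (hy.2 r hr hrp) g
    exact hle hx
  have hQc : M ⊓ Subgroup.normalizer (Cfsg.pCoreOf q N : Set G) = N ⊓ M :=
    h₂ _ hQ (by rwa [inf_comm]) (le_normalizer_pCoreOf q N)
  have hK0L : K0 ≤ (M ⊓ N).subgroupOf M := by
    refine (Subgroup.closure_le _).2 fun y hy => ?_
    show (y : G) ∈ M ⊓ N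
    rw [inf_comm, ← hQc]
    refine ⟨y.2, Subgroup.centralizer_le_normalizer _ fun w hw => ?_⟩
    have hwM : w ∈ M := (hQL hw).1
    have hcom : Commute (⟨w, hwM⟩ : M) y := by
      refine commute_of_cores hCF hy.1 hy.2 ?_ fun u hu => Subtype.ext ?_
      · rw [Subgroup.orderOf_mk]
        obtain ⟨k, hk⟩ := IsPGroup.iff_orderOf.mp (isPGroup_pCoreOf q N) ⟨w, hw⟩
        rw [Subgroup.orderOf_mk] at hk
        rw [hk]
        exact Nat.Coprime.pow_left k ((Nat.coprime_primes Fact.out Fact.out).mpr hpq.symm)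
      · exact (commute_cores (L := M ⊓ N) hpq
          (pCoreOf_le_pCoreOf (pCoreOf_le_inf hM p) inf_le_left ⟨u, hu, rfl⟩)
          (pCoreOf_le_pCoreOf hQL inf_le_right hw)).eq
    exact congrArg Subtype.val hcom.eq
  have hTK : T ≤ K0.map M.subtype := by
    intro t ht
    refine ⟨⟨t, hTM ht⟩, Subgroup.subset_closure ⟨?_, fun r hr hrp u hu => Subtype.ext ?_⟩, rfl⟩
    · obtain ⟨k, hk⟩ := isPGroup_pCoreOf p (M ⊓ N) ⟨t, ht⟩
      exact ⟨k, Subtype.ext (congrArg Subtype.val hk : t ^ p ^ k = 1)⟩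
    · haveI : Fact r.Prime := ⟨hr⟩
      exact (commute_cores (L := M ⊓ N) hrp
        (pCoreOf_le_pCoreOf (pCoreOf_le_inf hM r) inf_le_left ⟨u, hu, rfl⟩) ht).eq
  refine le_pCoreOf hTM (isPGroup_pCoreOf p _) (isSubnormal_subgroupOf_step hTK ?_
    (isSubnormal_subgroupOf_of_normal (le_normalizer_map_subtype _)))
  refine le_trans ?_ (le_normalizer_pCoreOf p (M ⊓ N))
  rintro _ ⟨y, hy, rfl⟩
  exact hK0L hy

theorem no_two_primes {M N : Subgroup G} (hne : M ≠ N) (h₁ : Half M N) (h₂ : Half N M)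
    (hM : (Cfsg.generalizedFittingSubgroup ↥M).map M.subtype ≤ N)
    (hN : (Cfsg.generalizedFittingSubgroup ↥N).map N.subtype ≤ M)
    (hCM : Subgroup.centralizer (Cfsg.fittingSubgroup ↥M : Set ↥M) ≤ Cfsg.fittingSubgroup ↥M)
    (hCN : Subgroup.centralizer (Cfsg.fittingSubgroup ↥N : Set ↥N) ≤ Cfsg.fittingSubgroup ↥N)
    {p q : ℕ} [Fact p.Prime] [Fact q.Prime] (hpq : p ≠ q) (hP : Cfsg.pCoreOf p M ≠ ⊥) :
    Cfsg.pCoreOf q N = ⊥ := by
  by_contra hQ
  have hTP : Cfsg.pCoreOf p (M ⊓ N) ≤ Cfsg.pCoreOf p M := key hM hN hCM h₂ hpq hQ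
  have hPT : Cfsg.pCoreOf p M ≤ Cfsg.pCoreOf p (M ⊓ N) :=
    pCoreOf_le_pCoreOf (pCoreOf_le_inf hM p) inf_le_left
  have hQ1 : Cfsg.pCoreOf q M = ⊥ := by
    by_contra hQ1
    have h3 : Cfsg.pCoreOf p (N ⊓ M) ≤ Cfsg.pCoreOf p N := key hN hM hCN h₁ hpq hQ1
    rw [inf_comm N M] at h3
    have hPN : Cfsg.pCoreOf p N ≤ Cfsg.pCoreOf p M :=
      (pCoreOf_le_pCoreOf (by rw [inf_comm]; exact pCoreOf_le_inf hN p) inf_le_right).trans hTP
    have he : Cfsg.pCoreOf p M = Cfsg.pCoreOf p N := le_antisymm (hPT.trans h3) hPN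
    refine hP (eq_bot_of_both h₁ h₂ hne (pCoreOf_le_inf hM p) (le_normalizer_pCoreOf p M) ?_)
    rw [he]
    exact le_normalizer_pCoreOf p N
  apply hQ
  have hQL : Cfsg.pCoreOf q N ≤ M ⊓ N := by rw [inf_comm]; exact pCoreOf_le_inf hN q
  have hQM : Cfsg.pCoreOf q N ≤ M := hQL.trans inf_le_left
  have hsub : (Cfsg.pCoreOf q N).subgroupOf M ≤ Cfsg.fittingSubgroup ↥M := by
    intro w hw
    refine hCM fun u hu => ?_
    have hle : Cfsg.fittingSubgroup ↥M ≤ Subgroup.centralizer {w} := by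
      rw [Cores.fittingSubgroup_eq_iSup_pCore]
      refine iSup_le fun r v hv => Subgroup.mem_centralizer_singleton_iff.mpr (Subtype.ext ?_)
      haveI : Fact (r : ℕ).Prime := ⟨r.2⟩
      by_cases hrq : (r : ℕ) = q
      · have hv1 : (v : G) ∈ Cfsg.pCoreOf q M := ⟨v, hrq ▸ hv, rfl⟩
        rw [hQ1, Subgroup.mem_bot] at hv1
        simp [hv1]
      · exact (commute_cores (L := M ⊓ N) hrq
          (pCoreOf_le_pCoreOf (pCoreOf_le_inf hM (r : ℕ)) inf_le_left ⟨v, hv, rfl⟩)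
          (pCoreOf_le_pCoreOf hQL inf_le_right hw)).eq
    exact Subgroup.mem_centralizer_singleton_iff.mp (hle hu)
  exact eq_bot_iff.mpr (hQ1 ▸ le_pCoreOf hQM (isPGroup_pCoreOf q N)
    (Cores.isSubnormal_of_le_fittingSubgroup hsub))

theorem exists_pCoreOf_ne_bot {M : Subgroup G} (hM : M ≠ ⊥)
    (hCM : Subgroup.centralizer (Cfsg.fittingSubgroup ↥M : Set ↥M) ≤ Cfsg.fittingSubgroup ↥M) :
    ∃ p : ℕ, p.Prime ∧ Cfsg.pCoreOf p M ≠ ⊥ := by
  by_contra h
  push Not at h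
  have hF : Cfsg.fittingSubgroup ↥M = ⊥ := by
    rw [Cores.fittingSubgroup_eq_iSup_pCore, eq_bot_iff]
    exact iSup_le fun r => ((Subgroup.map_eq_bot_iff_of_injective _ (Subgroup.subtype_injective M)).mp (h r r.2)).le
  apply hM
  rw [eq_bot_iff]
  intro m hm
  have hm' : (⟨m, hm⟩ : M) ∈ Cfsg.fittingSubgroup ↥M := hCM fun u hu => by
    rw [hF, SetLike.mem_coe, Subgroup.mem_bot] at hu
    rw [hu, one_mul, mul_one]
  rw [hF, Subgroup.mem_bot] at hm'
  exact congrArg Subtype.val hm'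

theorem fitting_eq_pCore {M : Subgroup G} {p : ℕ} (h : ∀ r : ℕ, r.Prime → r ≠ p → Cfsg.pCoreOf r M = ⊥) :
    Cfsg.fittingSubgroup ↥M ≤ Cfsg.pCore p ↥M := by
  rw [Cores.fittingSubgroup_eq_iSup_pCore]
  refine iSup_le fun r => ?_
  by_cases hr : (r : ℕ) = p
  · rw [hr]
  · rw [(Subgroup.map_eq_bot_iff_of_injective _ (Subgroup.subtype_injective M)).mp (h r r.2 hr)]
    exact bot_le


/-- Bender's Theorem on primitive pairs. Two distinct subgroups M₁, M₂ of G form a primitive pair when, for {i, j} = {1, 2}, every non-trivial normal subgroup A of M_i contained in M₁ ∩ M₂ satisfies N_{M_j}(A) = M₁ ∩ M₂; the pair has characteristic p when moreover C_{M_i}(O_p(M_i)) ≤ O_p(M_i) for both i and O_p(M₁)O_p(M₂) ≤ M₁ ∩ M₂. If (M₁, M₂) is a primitive pair of the finite group G with F*(M₁) ≤ M₂ and F*(M₂) ≤ M₁, then for some prime p the pair has characteristic p. -/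
theorem result {G : Type*} [Group G] [Finite G] (M₁ M₂ : Subgroup G) (hne : M₁ ≠ M₂) (hP : ∀ A : Subgroup G, A ≠ ⊥ → A ≤ M₁ ⊓ M₂ → (M₁ ≤ Subgroup.normalizer (A : Set G) → M₂ ⊓ Subgroup.normalizer (A : Set G) = M₁ ⊓ M₂) ∧ (M₂ ≤ Subgroup.normalizer (A : Set G) → M₁ ⊓ Subgroup.normalizer (A : Set G) = M₁ ⊓ M₂)) (h₁ : (Cfsg.generalizedFittingSubgroup ↥M₁).map M₁.subtype ≤ M₂) (h₂ : (Cfsg.generalizedFittingSubgroup ↥M₂).map M₂.subtype ≤ M₁) : ∃ p : ℕ, p.Prime ∧ Subgroup.centralizer (Cfsg.pCore p ↥M₁ : Set ↥M₁) ≤ Cfsg.pCore p ↥M₁ ∧ Subgroup.centralizer (Cfsg.pCore p ↥M₂ : Set ↥M₂) ≤ Cfsg.pCore p ↥M₂ ∧ (Cfsg.pCore p ↥M₁).map M₁.subtype ⊔ (Cfsg.pCore p ↥M₂).map M₂.subtype ≤ M₁ ⊓ M₂ := by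
  have hP₁ : Half M₁ M₂ := fun A hA hle hn => (hP A hA hle).1 hn
  have hP₂ : Half M₂ M₁ := fun A hA hle hn => by
    rw [inf_comm M₂ M₁] at hle ⊢
    exact (hP A hA hle).2 hn
  -- no components
  have hE : layerOf M₁ = ⊥ := by
    have he : layerOf M₁ = layerOf M₂ := le_antisymm (layerOf_le_layerOf h₁ h₂) (layerOf_le_layerOf h₂ h₁)
    refine eq_bot_of_both hP₁ hP₂ hne
      (le_inf (Subgroup.map_subtype_le _) ((Subgroup.map_mono Components.layer_le_genFitting).trans h₁))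
      (le_normalizer_layerOf M₁) ?_
    rw [he]
    exact le_normalizer_layerOf M₂
  have hE₂ : layerOf M₂ = ⊥ := le_bot_iff.mp (hE ▸ layerOf_le_layerOf h₂ h₁)
  have hC₁ := Components.layer_eq_bot_iff_centralizer_fitting_le.mpr
    ((Subgroup.map_eq_bot_iff_of_injective _ (Subgroup.subtype_injective M₁)).mp hE)
  have hC₂ := Components.layer_eq_bot_iff_centralizer_fitting_le.mpr
    ((Subgroup.map_eq_bot_iff_of_injective _ (Subgroup.subtype_injective M₂)).mp hE₂)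
  have hM2 : M₂ ≠ ⊥ := by
    intro h
    apply hne
    rw [h]
    by_contra hM1
    obtain ⟨p, hp, hpc⟩ := exists_pCoreOf_ne_bot hM1 hC₁
    haveI : Fact p.Prime := ⟨hp⟩
    exact hpc (eq_bot_iff.mpr ((pCoreOf_le_inf h₁ p).trans (inf_le_right.trans h.le)))
  obtain ⟨p, hp, hpN⟩ := exists_pCoreOf_ne_bot hM2 hC₂
  haveI : Fact p.Prime := ⟨hp⟩
  have h1 : ∀ r : ℕ, r.Prime → r ≠ p → Cfsg.pCoreOf r M₁ = ⊥ := fun r hr hrp => by
    haveI : Fact r.Prime := ⟨hr⟩
    exact no_two_primes hne.symm hP₂ hP₁ h₂ h₁ hC₂ hC₁ hrp.symm hpN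
  have hp1 : Cfsg.pCoreOf p M₁ ≠ ⊥ := by
    intro h
    have hM1 : M₁ ≠ ⊥ := fun h0 => by
      obtain ⟨p', hp', hpc'⟩ := exists_pCoreOf_ne_bot hM2 hC₂
      haveI : Fact p'.Prime := ⟨hp'⟩
      exact hpc' (eq_bot_iff.mpr ((pCoreOf_le_inf h₂ p').trans (inf_le_right.trans h0.le)))
    obtain ⟨q, hq, hqc⟩ := exists_pCoreOf_ne_bot hM1 hC₁
    by_cases hqp : q = p
    · exact hqc (hqp ▸ h)
    · exact hqc (h1 q hq hqp)
  have h2 : ∀ r : ℕ, r.Prime → r ≠ p → Cfsg.pCoreOf r M₂ = ⊥ := fun r hr hrp => by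
    haveI : Fact r.Prime := ⟨hr⟩
    exact no_two_primes hne hP₁ hP₂ h₁ h₂ hC₁ hC₂ hrp.symm hp1
  refine ⟨p, hp, ?_, ?_, sup_le (pCoreOf_le_inf h₁ p) (by rw [inf_comm]; exact pCoreOf_le_inf h₂ p)⟩
  · exact ((Subgroup.centralizer_le (SetLike.coe_subset_coe.mpr (fitting_eq_pCore h1))).trans hC₁).trans (fitting_eq_pCore h1)
  · exact ((Subgroup.centralizer_le (SetLike.coe_subset_coe.mpr (fitting_eq_pCore h2))).trans hC₂).trans (fitting_eq_pCore h2)

end Cfsg.Agent.S3752
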