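import Cfsg.Statements.S3753
import Cfsg.Agent.EqLemmas
import Cfsg.Agent.Lib.KInfinity.Replace
import Cfsg.Agent.Lib.PGroup.Critical
import Cfsg.Agent.Lib.PLocal.ZJControl
import Cfsg.Agent.Lib.FunctorControl.WeakClosureMain
import Cfsg.Agent.Lib.ThompsonWielandt.Basic
-- import your own Cfsg.Agent.* helpers here

set_option autoImplicit false
open Cfsg

open scoped commutatorElement

namespace Cfsg.Agent.S3753

universe u

/-- With abelian Sylow 2-subgroups `K_∞(S)` is normal for every `p`-subgroup `S` containing `O_p`, `p` odd. -/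
theorem kInfLower_normal {G : Type u} [Group G] [Finite G] {p : ℕ} [Fact p.Prime] (hp : p ≠ 2)
    (hab : ∀ T : Sylow 2 G, IsMulCommutative (T : Subgroup G))
    (hC : Subgroup.centralizer (Cfsg.pCore p G : Set G) ≤ Cfsg.pCore p G)
    (S : Subgroup G) (hS : Cfsg.pCore p G ≤ S) :
    (Cfsg.inducedFunctor Cfsg.kInfLower S).Normal := by
  have hfree : PLocal.SL2Free p G := by
    rintro ⟨H, K, hK, hiso⟩
    obtain ⟨T⟩ : Nonempty (Sylow 2 ↥(⊤ : Subgroup G)) := inferInstance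
    refine Quadratic.not_comm_sylow_two_of_section hp (H := ⊤) ⟨H, K, hK, le_top, hiso⟩ T ⟨⟨?_⟩⟩
    intro a b
    haveI : Fact (Nat.Prime 2) := ⟨Nat.prime_two⟩
    obtain ⟨T', hT'⟩ := (T.isPGroup'.map (⊤ : Subgroup G).subtype).exists_le_sylow
    have h1 := congrArg Subtype.val
      ((hab T').is_comm.comm ⟨_, hT' ⟨a.1, a.2, rfl⟩⟩ ⟨_, hT' ⟨b.1, b.2, rfl⟩⟩)
    exact Subtype.ext (Subtype.ext h1)
  by_contra hn
  set T := Cfsg.pCore p G with hTdef
  have hTp : IsPGroup p T := Cores.isPGroup_pCore p G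
  obtain ⟨H, hH⟩ := PGroup.exists_critical hTp
  haveI := hH.char
  set A := H.map T.subtype with hAdef
  haveI hAn : A.Normal := Cores.map_subtype_normal_of_characteristic T H
  have hAT : A ≤ T := Subgroup.map_subtype_le H
  have hZmap : (H ⊓ Subgroup.centralizer (H : Set T)).map T.subtype = A ⊓ Subgroup.centralizer (A : Set G) :=
    KInfinity.map_inf_centralizer H
  have hA1 : ∀ a ∈ A, a ^ p ∈ A ⊓ Subgroup.centralizer (A : Set G) := by
    rintro _ ⟨x, hx, rfl⟩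
    exact hZmap.le ⟨x ^ p, ⟨pow_mem hx p, hH.pow_mem x hx⟩, map_pow _ x p⟩
  have hA3 : ⁅T, A⁆ ≤ A ⊓ Subgroup.centralizer (A : Set G) := by
    rw [Subgroup.commutator_comm]
    refine Subgroup.commutator_le.2 ?_
    rintro _ ⟨x, hx, rfl⟩ t ht
    exact hZmap.le ⟨⁅x, ⟨t, ht⟩⁆, hH.comm_mem x hx ⟨t, ht⟩, rfl⟩
  have hA2 : ⁅A, A⁆ ≤ Subgroup.centralizer (A : Set G) :=
    ((Subgroup.commutator_mono hAT le_rfl).trans hA3).trans inf_le_right
  have hA5 : ∀ φ : MulAut ↥T, (orderOf φ).Coprime p → (∀ a : ↥T, (a : G) ∈ A → φ a = a) → φ = 1 :=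
    fun φ hφ hfix => PGroup.aut_eq_one_of_fix_selfCentralizing hTp hH.self_centralizing hφ
      fun x hx => hfix x ⟨x, hx, rfl⟩
  obtain ⟨g, -, -, -, -, hgC⟩ := KInfinity.exists_cubic_element_of_le S hS A hAT hA1 hA2 hA3 hA5 (Or.inl hn)
  obtain ⟨U, V, hUV, hUA, hq, hne⟩ := hgC hC
  obtain ⟨N, hN, hns⟩ := KInfinity.not_pStable_quotient hUV (hTp.to_le (hUA.trans hAT)) hq hne
  refine hns fun P hP w hw hq' => ?_
  set W := Subgroup.normalizer (P : Set (G ⧸ N))
  haveI : (P.subgroupOf W).Normal := Subgroup.normal_in_normalizer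
  have hCeq : Subgroup.centralizer ((P.subgroupOf W : Subgroup W) : Set W) =
      (Subgroup.centralizer (P : Set (G ⧸ N))).subgroupOf W := by
    ext x
    rw [Subgroup.mem_subgroupOf, Subgroup.mem_centralizer_iff, Subgroup.mem_centralizer_iff]
    exact ⟨fun h v hv => congrArg Subtype.val (h ⟨v, Subgroup.le_normalizer hv⟩ hv),
      fun h v hv => Subtype.ext (h v hv)⟩
  have hmem : (QuotientGroup.mk (⟨w, hw⟩ : W) : W ⧸ Subgroup.centralizer ((P.subgroupOf W : Subgroup W) : Set W)) ∈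
      Cfsg.pCore p (W ⧸ Subgroup.centralizer ((P.subgroupOf W : Subgroup W) : Set W)) := by
    refine (PLocal.SL2Free.pStableOn hp ((hfree.quotient N).subgroup W) (P.subgroupOf W) hP.comap_subtype) ⟨w, hw⟩ ?_
    refine (Subgroup.map_eq_bot_iff_of_injective _ W.subtype_injective).1 (eq_bot_iff.2 (le_trans ?_ hq'.le))
    rw [Subgroup.map_commutator, Subgroup.map_commutator, MonoidHom.map_zpowers,
      Subgroup.map_subgroupOf_eq_of_le Subgroup.le_normalizer]
    exact le_rfl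
  have h2 := Cores.map_pCore_le (QuotientGroup.quotientMulEquivOfEq hCeq).toMonoidHom
    (QuotientGroup.quotientMulEquivOfEq hCeq).surjective p (Subgroup.mem_map_of_mem _ hmem)
  simpa using h2

/-- A finite group of characteristic 2 with an abelian Sylow 2-subgroup has it as `O_2`. -/
theorem pCore_two_of_abelian {G : Type*} [Group G] [Finite G]
    (hab : ∀ T : Sylow 2 G, IsMulCommutative (T : Subgroup G))
    (hC : Subgroup.centralizer (Cfsg.pCore 2 G : Set G) ≤ Cfsg.pCore 2 G) (P : Subgroup G) (hP : IsPGroup 2 P) :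
    P ≤ Cfsg.pCore 2 G := by
  haveI : Fact (Nat.Prime 2) := ⟨Nat.prime_two⟩
  obtain ⟨T, hT⟩ := hP.exists_le_sylow
  have hTO : (T : Subgroup G) ≤ Cfsg.pCore 2 G := fun t ht => hC fun u hu =>
    congrArg Subtype.val ((hab T).is_comm.comm ⟨u, Cores.pCore_le_sylow T hu⟩ ⟨t, ht⟩)
  exact hT.trans hTO


/-- Two distinct subgroups M₁, M₂ of G form a primitive pair when, for {i, j} = {1, 2}, every non-trivial normal subgroup A of M_i contained in M₁ ∩ M₂ satisfies N_{M_j}(A) = M₁ ∩ M₂; the pair has characteristic p when moreover C_{M_i}(O_p(M_i)) ≤ O_p(M_i) for both i and O_p(M₁)O_p(M₂) ≤ M₁ ∩ M₂. If the finite group G has a primitive pair (M₁, M₂) of characteristic p for some prime p, then M₁ or M₂ has non-abelian Sylow 2-subgroups. In particular no group of odd order has a primitive pair of characteristic p. -/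
theorem result {G : Type*} [Group G] [Finite G] {p : ℕ} [Fact p.Prime] (M₁ M₂ : Subgroup G) (hne : M₁ ≠ M₂) (hP : ∀ A : Subgroup G, A ≠ ⊥ → A ≤ M₁ ⊓ M₂ → (M₁ ≤ Subgroup.normalizer (A : Set G) → M₂ ⊓ Subgroup.normalizer (A : Set G) = M₁ ⊓ M₂) ∧ (M₂ ≤ Subgroup.normalizer (A : Set G) → M₁ ⊓ Subgroup.normalizer (A : Set G) = M₁ ⊓ M₂)) (hc₁ : Subgroup.centralizer (Cfsg.pCore p ↥M₁ : Set ↥M₁) ≤ Cfsg.pCore p ↥M₁) (hc₂ : Subgroup.centralizer (Cfsg.pCore p ↥M₂ : Set ↥M₂) ≤ Cfsg.pCore p ↥M₂) (hO : (Cfsg.pCore p ↥M₁).map M₁.subtype ⊔ (Cfsg.pCore p ↥M₂).map M₂.subtype ≤ M₁ ⊓ M₂) : (∃ S : Sylow 2 ↥M₁, ¬ IsMulCommutative (S : Subgroup ↥M₁)) ∨ (∃ S : Sylow 2 ↥M₂, ¬ IsMulCommutative (S : Subgroup ↥M₂)) := by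
  by_contra hno
  push Not at hno
  obtain ⟨hab₁, hab₂⟩ := hno
  have hboth : ∀ A : Subgroup G, A ≤ M₁ ⊓ M₂ → M₁ ≤ Subgroup.normalizer (A : Set G) →
      M₂ ≤ Subgroup.normalizer (A : Set G) → A = ⊥ := by
    intro A hA h1 h2
    by_contra h
    have e1 := (hP A h hA).1 h1
    have e2 := (hP A h hA).2 h2
    rw [inf_eq_left.mpr h2] at e1
    rw [inf_eq_left.mpr h1] at e2
    exact hne (e2.trans e1.symm)
  set P₁ := (Cfsg.pCore p ↥M₁).map M₁.subtype with hP₁
  set P₂ := (Cfsg.pCore p ↥M₂).map M₂.subtype with hP₂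
  have hn₁ : M₁ ≤ Subgroup.normalizer (P₁ : Set G) := ThompsonWielandt.le_normalizer_pCoreOf p M₁
  have hn₂ : M₂ ≤ Subgroup.normalizer (P₂ : Set G) := ThompsonWielandt.le_normalizer_pCoreOf p M₂
  have hp₁ : IsPGroup p P₁ := (Cores.isPGroup_pCore p ↥M₁).map _
  have hp₂ : IsPGroup p P₂ := (Cores.isPGroup_pCore p ↥M₂).map _
  -- a `p`-subgroup of the intersection containing both cores
  set T := P₁ ⊔ P₂ with hT
  have hTp : IsPGroup p T :=
    hp₁.to_sup_of_normal_left' hp₂ (((le_sup_right).trans hO).trans (inf_le_left.trans hn₁))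
  have hT1 : T ≤ M₁ := hO.trans inf_le_left
  have hT2 : T ≤ M₂ := hO.trans inf_le_right
  have hPT : P₁ = ⊥ → M₁ = ⊥ := by
    intro h
    rw [eq_bot_iff]
    intro m hm
    have hb : Cfsg.pCore p ↥M₁ = ⊥ := (Subgroup.map_eq_bot_iff_of_injective _ M₁.subtype_injective).1 h
    have := hc₁ (show (⟨m, hm⟩ : M₁) ∈ Subgroup.centralizer (Cfsg.pCore p ↥M₁ : Set ↥M₁) by
      intro u hu
      rw [hb, SetLike.mem_coe, Subgroup.mem_bot] at hu
      rw [hu, one_mul, mul_one])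
    rw [hb, Subgroup.mem_bot] at this
    exact congrArg Subtype.val this
  by_cases h2 : p = 2
  · subst h2
    have e : ∀ (M : Subgroup G) (hTM : T ≤ M), (∀ S : Sylow 2 ↥M, IsMulCommutative (S : Subgroup ↥M)) →
        Subgroup.centralizer (Cfsg.pCore 2 ↥M : Set ↥M) ≤ Cfsg.pCore 2 ↥M → T ≤ (Cfsg.pCore 2 ↥M).map M.subtype := by
      intro M hTM hab hc
      rw [← Subgroup.map_subgroupOf_eq_of_le hTM]
      exact Subgroup.map_mono (pCore_two_of_abelian hab hc _ hTp.comap_subtype)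
    have e1 : P₁ = T := le_antisymm le_sup_left (e M₁ hT1 hab₁ hc₁)
    have e2 : P₂ = T := le_antisymm le_sup_right (e M₂ hT2 hab₂ hc₂)
    have hbot := hboth P₁ (le_sup_left.trans hO) hn₁ (by rw [e1, ← e2]; exact hn₂)
    have h1 := hPT hbot
    have hP2 : P₂ = ⊥ := by rw [e2, ← e1, hbot]
    refine hne ?_
    rw [h1, eq_comm, eq_bot_iff]
    intro m hm
    have hb : Cfsg.pCore 2 ↥M₂ = ⊥ := (Subgroup.map_eq_bot_iff_of_injective _ M₂.subtype_injective).1 hP2
    have := hc₂ (show (⟨m, hm⟩ : M₂) ∈ Subgroup.centralizer (Cfsg.pCore 2 ↥M₂ : Set ↥M₂) by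
      intro u hu
      rw [hb, SetLike.mem_coe, Subgroup.mem_bot] at hu
      rw [hu, one_mul, mul_one])
    rw [hb, Subgroup.mem_bot] at this
    exact congrArg Subtype.val this
  -- odd primes
  have hW := KInfinity.isCharPFunctor_kInfLower.{u_1} p
  set K := Cfsg.inducedFunctor Cfsg.kInfLower T with hK
  have hKn : ∀ (M : Subgroup G) (hTM : T ≤ M), (∀ S : Sylow 2 ↥M, IsMulCommutative (S : Subgroup ↥M)) →
      Subgroup.centralizer (Cfsg.pCore p ↥M : Set ↥M) ≤ Cfsg.pCore p ↥M → (Cfsg.pCore p ↥M).map M.subtype ≤ T →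
      M ≤ Subgroup.normalizer (K : Set G) := by
    intro M hTM hab hc hle
    haveI := kInfLower_normal h2 hab hc (T.subgroupOf M) (Subgroup.map_le_iff_le_comap.1 hle)
    have e := FunctorControl.map_inducedFunctor hW M.subtype M.subtype_injective (P := T.subgroupOf M) hTp.comap_subtype
    rw [Subgroup.map_subgroupOf_eq_of_le hTM] at e
    rw [hK, e]
    exact ThompsonWielandt.le_normalizer_map_subtype _
  have hKT : K ≤ T := FunctorControl.inducedFunctor_le _ T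
  have hbot : K = ⊥ := hboth K (hKT.trans hO) (hKn M₁ hT1 hab₁ hc₁ le_sup_left) (hKn M₂ hT2 hab₂ hc₂ le_sup_right)
  have hTbot : T = ⊥ := by
    by_contra hT0
    haveI : Nontrivial T := (Subgroup.nontrivial_iff_ne_bot _).2 hT0
    haveI := hTp.center_nontrivial
    obtain ⟨z, hz, hz1⟩ := (Subgroup.nontrivial_iff_exists_ne_one (Subgroup.center T)).1 inferInstance
    have : (z : G) ∈ K := FunctorControl.center_le_kInfLower T hTp
      ⟨z.2, fun y hy => congrArg Subtype.val (Subgroup.mem_center_iff.1 hz ⟨y, hy⟩)⟩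
    rw [hbot, Subgroup.mem_bot] at this
    exact hz1 (Subtype.ext this)
  refine hne ?_
  rw [hPT (le_bot_iff.1 (hTbot ▸ le_sup_left)), eq_comm, eq_bot_iff]
  intro m hm
  have hb : Cfsg.pCore p ↥M₂ = ⊥ :=
    (Subgroup.map_eq_bot_iff_of_injective _ M₂.subtype_injective).1 (le_bot_iff.1 (hTbot ▸ le_sup_right))
  have := hc₂ (show (⟨m, hm⟩ : M₂) ∈ Subgroup.centralizer (Cfsg.pCore p ↥M₂ : Set ↥M₂) by
    intro u hu
    rw [hb, SetLike.mem_coe, Subgroup.mem_bot] at hu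
    rw [hu, one_mul, mul_one])
  rw [hb, Subgroup.mem_bot] at this
  exact congrArg Subtype.val this

end Cfsg.Agent.S3753
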