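import Cfsg.Statements.S3754
import Cfsg.Agent.EqLemmas
import Cfsg.Agent.Lib.Coprime.Generation
import Cfsg.Agent.Lib.HallHigman.PSolvable
import Cfsg.Agent.Lib.PReduced.Tools
import Cfsg.Agent.Lib.PGroup.Basic
-- import your own Cfsg.Agent.* helpers here

set_option autoImplicit false
open Cfsg

open scoped commutatorElement

namespace Cfsg.Agent.S3754

variable {G : Type*} [Group G]

/-- An element of `p'`-order in `L A` lies in `L` when `A` is a `p`-group normalising `L`. -/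
theorem mem_left_of_coprime {p : ℕ} {L A : Subgroup G} (hAL : A ≤ Subgroup.normalizer (L : Set G))
    (hA : IsPGroup p A) {u : G} (hu : u ∈ L ⊔ A) (ho : (orderOf u).Coprime p) : u ∈ L := by
  obtain ⟨l, hl, a, ha, rfl⟩ := (Coprime.mem_sup_iff hAL).mp hu
  have hpow : ∀ k : ℕ, ∃ l' ∈ L, (l * a) ^ k = l' * a ^ k := by
    intro k
    induction k with
    | zero => exact ⟨1, L.one_mem, by simp⟩
    | succ k ih =>
      obtain ⟨l', hl', he⟩ := ih
      refine ⟨l * (a * l' * a⁻¹), L.mul_mem hl ((Subgroup.mem_normalizer_iff.mp (hAL ha) l').mp hl'), ?_⟩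
      rw [pow_succ', he, pow_succ']
      group
  obtain ⟨m, hm⟩ := hA ⟨a, ha⟩
  obtain ⟨l', hl', he⟩ := hpow (p ^ m)
  refine Coprime.mem_of_pow_mem (ho.pow_right m) (he.symm ▸ ?_)
  have hm' : a ^ p ^ m = 1 := congrArg Subtype.val hm
  rwa [hm', mul_one]

theorem sup_conj_le {A : Subgroup G} {x : G} {K : Subgroup G} (hA : A ≤ K) (hx : x ∈ K) :
    A ⊔ A.map (MulAut.conj x).toMonoidHom ≤ K :=
  sup_le hA (Subgroup.map_le_iff_le_comap.mpr fun _ ha => K.mul_mem (K.mul_mem hx (hA ha)) (K.inv_mem hx))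


/-- Let M be a finite p-soluble group and A a p-subgroup of M with Φ(A) ≤ O_p(M) but A ≰ O_p(M). Then there is x ∈ O_{p,p'}(M) such that L = ⟨A, xAx⁻¹⟩ satisfies: x ∈ O^p(L) and O^p(L) ≤ O_{p,p'}(M); [O^p(L), A] = O^p(L); A ∩ O_p(L) has index p in A; and [A ∩ O_p(L), L] ≤ O_p(M). Here O^p(L) is the subgroup generated by the p'-elements of L and O_{p,p'}(M) the preimage of O_{p'}(M/O_p(M)). -/
theorem result {M : Type*} [Group M] [Finite M] {p : ℕ} [Fact p.Prime] (hM : Cfsg.IsPSolvable p M) (A : Subgroup M) (hA : IsPGroup p A) (hΦ : (frattini ↥A).map A.subtype ≤ Cfsg.pCore p M) (hnot : ¬ A ≤ Cfsg.pCore p M) : ∃ x ∈ (Cfsg.pPrimeCore p (M ⧸ Cfsg.pCore p M)).comap (QuotientGroup.mk' (Cfsg.pCore p M)), x ∈ (Cfsg.pResidual p ↥(A ⊔ A.map (MulAut.conj x).toMonoidHom)).map (A ⊔ A.map (MulAut.conj x).toMonoidHom).subtype ∧ (Cfsg.pResidual p ↥(A ⊔ A.map (MulAut.conj x).toMonoidHom)).map (A ⊔ A.map (MulAut.conj x).toMonoidHom).subtype ≤ (Cfsg.pPrimeCore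 p (M ⧸ Cfsg.pCore p M)).comap (QuotientGroup.mk' (Cfsg.pCore p M)) ∧ ⁅(Cfsg.pResidual p ↥(A ⊔ A.map (MulAut.conj x).toMonoidHom)).map (A ⊔ A.map (MulAut.conj x).toMonoidHom).subtype, A⁆ = (Cfsg.pResidual p ↥(A ⊔ A.map (MulAut.conj x).toMonoidHom)).map (A ⊔ A.map (MulAut.conj x).toMonoidHom).subtype ∧ (A ⊓ (Cfsg.pCore p ↥(A ⊔ A.map (MulAut.conj x).toMonoidHom)).map (A ⊔ A.map (MulAut.conj x).toMonoidHom).subtype).relIndex A = p ∧ ⁅A ⊓ (Cfsg.pCore p ↥(A ⊔ A.map (MulAut.conj x).toMonoidHom)).map (A ⊔ A.map (MulAut.conj x).toMonoidHom).subtype, A ⊔ A.map (MulAut.conj x).toMonoidHom⁆ ≤ Cfsg.pCore p M := by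
  classical
  set N := Cfsg.pCore p M with hN
  set π := QuotientGroup.mk' N with hπdef
  set Hb := Cfsg.pPrimeCore p (M ⧸ N) with hHb
  have hπN : ∀ y, π y = 1 ↔ y ∈ N := fun y => QuotientGroup.eq_one_iff y
  have hfr : ∀ y : A, y ∈ frattini A → π y = 1 := fun y hy => (hπN _).mpr (hΦ ⟨y, hy, rfl⟩)
  have hAb : ∀ a ∈ A, ∀ b ∈ A, π a * π b = π b * π a := by
    intro a ha b hb
    rw [← commutatorElement_eq_one_iff_mul_comm, ← map_commutatorElement]
    exact hfr ⁅(⟨a, ha⟩ : A), ⟨b, hb⟩⁆ (PGroup.commutatorElement_mem_frattini hA _ _)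
  have hAp : ∀ a ∈ A, π a ^ p = 1 := fun a ha => by
    rw [← map_pow]
    exact hfr (⟨a, ha⟩ ^ p) (PGroup.pow_mem_frattini hA _)
  set Ab := A.map π with hAbdef
  haveI : IsMulCommutative Ab := ⟨⟨fun a b => by
    obtain ⟨_, a', ha', rfl⟩ := a
    obtain ⟨_, b', hb', rfl⟩ := b
    exact Subtype.ext (hAb a' ha' b' hb')⟩⟩
  have hAbP : IsPGroup p Ab := hA.map π
  have hcopH : (Nat.card Hb).Coprime p := Cores.coprime_card_pPrimeCore p
  have hAH : Ab ≤ Subgroup.normalizer (Hb : Set (M ⧸ N)) :=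
    le_top.trans (Subgroup.normalizer_eq_top Hb).ge
  have hcop : (Nat.card Ab).Coprime (Nat.card Hb) := by
    obtain ⟨k, hk⟩ := IsPGroup.iff_card.mp hAbP
    rw [hk]
    exact (hcopH.pow_right k).symm
  have hsep : Solvable.IsPiSeparable ({p}ᶜ : Set ℕ) (M ⧸ N) :=
    ((Solvable.isPiSeparable_of_isPSolvable hM).quotient N).compl
  have hCH : Subgroup.centralizer (Hb : Set (M ⧸ N)) ≤ Hb := by
    have h := Solvable.centralizer_piCore_le hsep
      (by rw [compl_compl, ← Cores.pCore_eq_piCore]; exact Cores.pCore_quotient_self p M)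
    rwa [Solvable.piCore_compl_singleton_eq_pPrimeCore] at h
  -- a hyperplane with a centraliser not centralised by `A`
  obtain ⟨Bb, hBb, g, hg, hgen, x₀, hx₀H, hx₀B, hx₀A⟩ : ∃ Bb ≤ Ab, ∃ g ∈ Ab, Ab ≤ Bb ⊔ Subgroup.zpowers g ∧
      ∃ x, x ∈ Hb ∧ x ∈ Subgroup.centralizer (Bb : Set (M ⧸ N)) ∧ x ∉ Subgroup.centralizer (Ab : Set (M ⧸ N)) := by
    by_contra hno
    push Not at hno
    have hle : Hb ≤ Hb ⊓ Subgroup.centralizer (Ab : Set (M ⧸ N)) := by
      refine Coprime.le_of_cyclic_quotient hAH hcop fun Bb hBb ⟨g, hg, hgen⟩ x hx => ⟨hx.1, ?_⟩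
      exact hno Bb hBb g hg hgen x hx.1 hx.2
    have h1 : Ab ≤ Hb := (Subgroup.le_centralizer_iff.mp (hle.trans inf_le_right)).trans hCH
    refine hnot fun a ha => (hπN a).mp ?_
    have h2 : Ab ⊓ Hb = ⊥ := Coprime.inf_eq_bot hcop
    exact Subgroup.mem_bot.mp (h2 ▸ ⟨⟨a, ha, rfl⟩, h1 ⟨a, ha, rfl⟩⟩)
  obtain ⟨a, ha, rfl⟩ := hg
  set H := Hb.comap π with hH
  -- admissible elements
  let Adm : M → Prop := fun x => π x ∈ Hb ∧ π x ∈ Subgroup.centralizer (Bb : Set (M ⧸ N)) ∧ π a * π x ≠ π x * π a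
  have hne : ∃ x, Adm x := by
    obtain ⟨x, rfl⟩ := QuotientGroup.mk'_surjective N x₀
    refine ⟨x, hx₀H, hx₀B, fun he => hx₀A ?_⟩
    intro b hb
    have hle : Bb ⊔ Subgroup.zpowers (π a) ≤ Subgroup.centralizer {π x} :=
      sup_le (fun b hb => Subgroup.mem_centralizer_singleton_iff.mpr (hx₀B b hb))
        (Subgroup.zpowers_le.mpr (Subgroup.mem_centralizer_singleton_iff.mpr he))
    exact Subgroup.mem_centralizer_singleton_iff.mp (hle (hgen hb))
  obtain ⟨x, hx, hmin⟩ := Set.exists_min_image {x : M | Adm x}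
    (fun x => Nat.card ↥(A ⊔ A.map (MulAut.conj x).toMonoidHom)) (Set.toFinite _) hne
  set X := A ⊔ A.map (MulAut.conj x).toMonoidHom with hX
  have hAX : A ≤ X := le_sup_left
  -- a good element inside `X` of order prime to `p`
  obtain ⟨y, hyX, hyo, hy⟩ : ∃ y ∈ X, (orderOf y).Coprime p ∧ Adm y := by
    obtain ⟨hxH, hxB, hxa⟩ := hx
    set z := ⁅x, a⁆
    have hzX : z ∈ X := by
      rw [show z = MulAut.conj x a * a⁻¹ by simp [z, commutatorElement_def]]
      exact X.mul_mem (Subgroup.mem_sup_right ⟨a, ha, rfl⟩) (X.inv_mem (hAX ha))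
    have hzH : π z ∈ Hb := by
      rw [map_commutatorElement, show ⁅π x, π a⁆ = π x * (π a * (π x)⁻¹ * (π a)⁻¹) by rw [commutatorElement_def]; group]
      exact Hb.mul_mem hxH ((Cores.pPrimeCore_normal p _).conj_mem _ (Hb.inv_mem hxH) _)
    have hzB : π z ∈ Subgroup.centralizer (Bb : Set (M ⧸ N)) := by
      have haB : π a ∈ Subgroup.centralizer (Bb : Set (M ⧸ N)) := fun b hb =>
        setLike_mul_comm (hBb hb) (⟨a, ha, rfl⟩ : π a ∈ Ab)
      rw [map_commutatorElement, commutatorElement_def]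
      exact mul_mem (mul_mem (mul_mem hxB haB) (inv_mem hxB)) (inv_mem haB)
    have hza : π a * π z ≠ π z * π a := by
      intro he
      have hc : Commute (π a) ⁅π x, π a⁆ := by rw [← map_commutatorElement]; exact he
      have hpw : ∀ k : ℕ, π x * π a ^ k * (π x)⁻¹ = ⁅π x, π a⁆ ^ k * π a ^ k := by
        intro k
        induction k with
        | zero => simp
        | succ k ih =>
          rw [pow_succ (π a) k, show π x * (π a ^ k * π a) * (π x)⁻¹ = (π x * π a ^ k * (π x)⁻¹) * (⁅π x, π a⁆ * π a) by rw [commutatorElement_def]; group, ih,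
            pow_succ, mul_assoc _ (π a ^ k), ← mul_assoc (π a ^ k), (hc.pow_left k).eq]
          group
      have h1 := hpw p
      rw [hAp a ha, mul_one, mul_one, mul_inv_cancel] at h1
      have h3 : ⁅π x, π a⁆ ∈ (⊥ : Subgroup (M ⧸ N)) := by
        refine Coprime.mem_of_pow_mem (n := p) ?_ (Subgroup.mem_bot.mpr h1.symm)
        rw [← map_commutatorElement]
        exact hcopH.coprime_dvd_left (Subgroup.orderOf_mk (π z) hzH ▸ orderOf_dvd_natCard (⟨π z, hzH⟩ : Hb))
      rw [Subgroup.mem_bot, commutatorElement_eq_one_iff_mul_comm] at h3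
      exact hxa h3.symm
    have hcz : (orderOf (π z)).Coprime p :=
      hcopH.coprime_dvd_left (Subgroup.orderOf_mk (π z) hzH ▸ orderOf_dvd_natCard (⟨π z, hzH⟩ : Hb))
    set f := (orderOf z).factorization p
    have hu : (orderOf (z ^ p ^ f)).Coprime p := by
      rw [orderOf_pow_of_dvd (pow_ne_zero _ (Fact.out : p.Prime).ne_zero) (Nat.ordProj_dvd _ _)]
      exact (Nat.coprime_ordCompl (Fact.out : p.Prime) (orderOf_pos z).ne').symm
    obtain ⟨r, hr⟩ := exists_pow_eq_self_of_coprime (x := π z) (n := p ^ f) (hcz.pow_right f).symm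
    refine ⟨(z ^ p ^ f) ^ r, X.pow_mem (X.pow_mem hzX _) _, hu.coprime_dvd_left (orderOf_pow_dvd r), ?_⟩
    show π _ ∈ Hb ∧ π _ ∈ _ ∧ _
    rw [map_pow, map_pow, hr]
    exact ⟨hzH, hzB, hza⟩
  have hXy : A ⊔ A.map (MulAut.conj y).toMonoidHom = X :=
    Subgroup.eq_of_le_of_card_ge (sup_conj_le hAX hyX) (hmin y hy)
  refine ⟨y, hy.1, ?_⟩
  rw [hXy]
  obtain ⟨hyH, hyB, hya⟩ := hy
  clear hmin hx
  set R := (Cfsg.pResidual p X).map X.subtype with hR
  have hRmem : ∀ u ∈ X, (orderOf u).Coprime p → u ∈ R := fun u hu ho =>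
    ⟨⟨u, hu⟩, Subgroup.subset_closure (by show (orderOf (⟨u, hu⟩ : X)).Coprime p; rwa [Subgroup.orderOf_mk]), rfl⟩
  have hRle : ∀ K : Subgroup M, (∀ u ∈ X, (orderOf u).Coprime p → u ∈ K) → R ≤ K := by
    intro K hK
    refine Subgroup.map_le_iff_le_comap.mpr ((Subgroup.closure_le _).mpr fun u hu => ?_)
    exact hK u u.2 (by rw [Subgroup.orderOf_coe]; exact hu)
  have hXR : X ≤ Subgroup.normalizer (R : Set M) := fun u hu => Coprime.mem_normalizer_of_forall (by
    rintro _ ⟨w, hw, rfl⟩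
    exact ⟨⟨u, hu⟩ * w * (⟨u, hu⟩ : X)⁻¹, (PReduced.pResidual_normal p X).conj_mem w hw _, rfl⟩)
  have hRX : R ≤ X := Subgroup.map_subtype_le _
  have hXsup : X ≤ R ⊔ A :=
    hXy ▸ sup_conj_le le_sup_right (Subgroup.mem_sup_left (hRmem y hyX hyo))
  have hAH' : A ≤ Subgroup.normalizer (H : Set M) := le_top.trans (Subgroup.normalizer_eq_top H).ge
  refine ⟨hRmem y hyX hyo, ?_, ?_, ?_⟩
  · refine hRle H fun u hu ho => mem_left_of_coprime hAH' hA ?_ ho
    exact (hXy ▸ sup_conj_le le_sup_right (Subgroup.mem_sup_left (show y ∈ H from hyH)) : X ≤ H ⊔ A) hu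
  · refine le_antisymm (Subgroup.le_normalizer_iff_commutator_le_left.mp (hAX.trans hXR)) ?_
    have hS : X ≤ Subgroup.normalizer ((⁅R, A⁆ : Subgroup M) : Set M) :=
      hXsup.trans (sup_le (Subgroup.normalizer_commutator_ge_left R A) (Subgroup.normalizer_commutator_ge_right R A))
    have hXS : X ≤ ⁅R, A⁆ ⊔ A := by
      refine hXy ▸ sup_le le_sup_right ?_
      rintro _ ⟨b, hb, rfl⟩
      rw [show (MulAut.conj y).toMonoidHom b = ⁅y, b⁆ * b by simp [commutatorElement_def]]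
      exact Subgroup.mul_mem_sup (Subgroup.commutator_mem_commutator (hRmem y hyX hyo) hb) hb
    exact hRle _ fun u hu ho => mem_left_of_coprime (hAX.trans hS) hA (hXS hu) ho
  · -- the hyperplane
    set B := A ⊓ Bb.comap π with hB
    set Q := (Cfsg.pCore p X).map X.subtype with hQ
    have hcent : ∀ b ∈ B, ∀ u ∈ X, π b * π u = π u * π b := by
      intro b hb u hu
      have hle : X ≤ (Subgroup.centralizer {π b}).comap π := hXy ▸ sup_conj_le
        (fun c hc => Subgroup.mem_centralizer_singleton_iff.mpr (hAb c hc b hb.1))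
        (Subgroup.mem_centralizer_singleton_iff.mpr (hyB _ hb.2).symm)
      exact (Subgroup.mem_centralizer_singleton_iff.mp (hle hu)).symm
    have hBQ : B ≤ Q := by
      set Bx := B ⊔ (X ⊓ N)
      have hBxX : Bx ≤ X := sup_le (inf_le_left.trans hAX) inf_le_left
      have hBxP : IsPGroup p Bx :=
        ((hA.to_le inf_le_left).to_sup_of_normal_right (Cores.isPGroup_pCore p M)).to_le
          (sup_le_sup (le_refl B) inf_le_right)
      have hBxc : ∀ w ∈ Bx, ∀ u ∈ X, π w * π u = π u * π w := by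
        intro w hw u hu
        have hle : Bx ≤ (Subgroup.centralizer {π u}).comap π :=
          sup_le (fun b hb => Subgroup.mem_centralizer_singleton_iff.mpr (hcent b hb u hu))
            (fun n hn => Subgroup.mem_centralizer_singleton_iff.mpr (by rw [(hπN n).mpr hn.2, one_mul, mul_one]))
        exact Subgroup.mem_centralizer_singleton_iff.mp (hle hw)
      have hn : (Bx.subgroupOf X).Normal := by
        refine ⟨fun w hw u => ?_⟩
        rw [Subgroup.mem_subgroupOf] at hw ⊢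
        push_cast
        have h1 : (u : M) * w * (u : M)⁻¹ * (w : M)⁻¹ ∈ X ⊓ N := by
          refine ⟨X.mul_mem (X.mul_mem (X.mul_mem u.2 w.2) (X.inv_mem u.2)) (X.inv_mem w.2), (hπN _).mp ?_⟩
          rw [map_mul, map_mul, map_mul, map_inv, map_inv, ← hBxc _ hw _ u.2]
          group
        have h2 := Bx.mul_mem (Subgroup.mem_sup_right h1 : _ ∈ Bx) hw
        rwa [inv_mul_cancel_right] at h2
      refine le_trans (le_sup_left : B ≤ Bx) ?_
      intro w hw
      exact ⟨⟨w, hBxX hw⟩, Cores.le_pCore hn (hBxP.comap_subtype) hw, rfl⟩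
    have hAQ : ¬ A ≤ Q := by
      intro h
      have hQn : X ≤ Subgroup.normalizer (Q : Set M) := fun u hu => Coprime.mem_normalizer_of_forall (by
        rintro _ ⟨w, hw, rfl⟩
        exact ⟨⟨u, hu⟩ * w * (⟨u, hu⟩ : X)⁻¹, (Cores.pCore_normal p X).conj_mem w hw _, rfl⟩)
      have hXQ : X ≤ Q := hXy ▸ sup_le h (by
        rintro _ ⟨b, hb, rfl⟩
        exact (Subgroup.mem_normalizer_iff.mp (hQn hyX) b).mp (h hb))
      obtain ⟨k, hk⟩ := ((Cores.isPGroup_pCore p X).map X.subtype) ⟨y, hXQ hyX⟩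
      have h1 : y ∈ (⊥ : Subgroup M) :=
        Coprime.mem_of_pow_mem (hyo.pow_right k) (Subgroup.mem_bot.mpr (congrArg Subtype.val hk))
      rw [Subgroup.mem_bot] at h1
      exact hya (by rw [h1, map_one, one_mul, mul_one])
    have hindex : ∀ D : Subgroup M, B ≤ D → D.relIndex A ≤ p := by
      intro D hD
      have hap : ∀ k : ℕ, a ^ (p * k) ∈ B := fun k => ⟨A.pow_mem ha _, by
        show π (a ^ (p * k)) ∈ Bb
        rw [map_pow, pow_mul, hAp a ha, one_pow]; exact Bb.one_mem⟩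
      let F : Fin p → A ⧸ (D.subgroupOf A) := fun i => QuotientGroup.mk ((⟨a, ha⟩ : A) ^ (i : ℕ))
      have hF : Function.Surjective F := by
        intro q
        obtain ⟨b, rfl⟩ := QuotientGroup.mk_surjective q
        have hsup : π b ∈ Bb ⊔ Subgroup.zpowers (π a) := hgen ⟨b, b.2, rfl⟩
        have hnz : Subgroup.zpowers (π a) ≤ Subgroup.normalizer (Bb : Set (M ⧸ N)) :=
          Subgroup.zpowers_le.mpr (Coprime.mem_normalizer_of_forall fun w hw => by
            rwa [setLike_mul_comm (⟨a, ha, rfl⟩ : π a ∈ Ab) (hBb hw), mul_inv_cancel_right])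
        obtain ⟨β, hβ, _, ⟨k, rfl⟩, hk⟩ := (Coprime.mem_sup_iff hnz).mp hsup
        have hm : (0 : ℤ) ≤ k % p ∧ k % p < p := ⟨Int.emod_nonneg _ (by exact_mod_cast (Fact.out : p.Prime).ne_zero),
          Int.emod_lt_of_pos _ (by exact_mod_cast (Fact.out : p.Prime).pos)⟩
        refine ⟨⟨(k % p).toNat, by omega⟩, ?_⟩
        rw [QuotientGroup.eq, Subgroup.mem_subgroupOf]
        apply hD
        refine ⟨A.mul_mem (A.inv_mem (Subgroup.pow_mem _ ha _)) b.2, ?_⟩
        show π ((a ^ (k % (p : ℤ)).toNat)⁻¹ * (b : M)) ∈ Bb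
        have hz : π a ^ k = π a ^ (k % (p : ℤ)).toNat := by
          rw [← zpow_natCast (π a) (k % (p : ℤ)).toNat, Int.toNat_of_nonneg hm.1]
          conv_lhs => rw [← Int.mul_ediv_add_emod k p, zpow_add, zpow_mul, zpow_natCast, hAp a ha, one_zpow, one_mul]
        have hk' : π (b : M) = β * π a ^ k := by first | exact hk | exact hk.symm
        have hc : Commute (π a) β := setLike_mul_comm (⟨a, ha, rfl⟩ : π a ∈ Ab) (hBb hβ)
        rw [map_mul, map_inv, map_pow, hk', hz, ← mul_assoc, ((hc.pow_left _).inv_left).eq, mul_assoc,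
          inv_mul_cancel, mul_one]
        exact hβ
      have := Nat.card_le_card_of_surjective F hF
      rwa [Nat.card_fin] at this
    have hDB : B ≤ A ⊓ Q := le_inf inf_le_left hBQ
    have hpd : ∀ D : Subgroup M, ¬ A ≤ D → p ∣ D.relIndex A := by
      intro D hD
      obtain ⟨k, hk⟩ := hA.index (D.subgroupOf A)
      rw [Subgroup.relIndex, hk]
      rcases k with - | k
      · exact absurd (Subgroup.subgroupOf_eq_top.mp (Subgroup.index_eq_one.mp (by rw [hk, pow_zero]))) hD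
      · exact dvd_pow_self p k.succ_ne_zero
    have hD : (A ⊓ Q).relIndex A = p := by
      refine le_antisymm (hindex _ hDB) (Nat.le_of_dvd ?_ (hpd _ fun h => hAQ (h.trans inf_le_right)))
      exact Nat.pos_of_ne_zero Subgroup.index_ne_zero_of_finite
    refine ⟨hD, ?_⟩
    have hDB' : A ⊓ Q ≤ B := by
      have h1 := Subgroup.relIndex_mul_relIndex B (A ⊓ Q) A hDB inf_le_left
      have h2 := hindex B le_rfl
      rw [← h1, hD] at h2
      have h3 : B.relIndex (A ⊓ Q) ≠ 0 := Subgroup.index_ne_zero_of_finite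
      have hp0 := (Fact.out : p.Prime).pos
      have h4 : B.relIndex (A ⊓ Q) = 1 := by nlinarith [Nat.pos_of_ne_zero h3]
      exact Subgroup.relIndex_eq_one.mp h4
    rw [Subgroup.commutator_le]
    intro b hb u hu
    rw [← hπN, map_commutatorElement, commutatorElement_eq_one_iff_mul_comm]
    exact hcent b (hDB' hb) u hu

end Cfsg.Agent.S3754
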