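import Cfsg.Statements.S3755
import Cfsg.Agent.Lib.Signalizer.PAction
import Cfsg.Agent.Lib.Involves.Basic
import Cfsg.Agent.Lib.Cores.Basic

set_option autoImplicit false
open Cfsg

namespace Cfsg.Agent.S3755

open Subgroup

theorem exists_mem_ne_one {X : Type*} [Group X] {Y : Subgroup X} (h : Y ≠ ⊥) :
    ∃ y ∈ Y, y ≠ 1 := by
  by_contra hc
  push Not at hc
  exact h ((eq_bot_iff_forall Y).mpr hc)

/-- `S₃` as a dihedral group. -/
theorem exists_equiv_dihedral : Nonempty (DihedralGroup 3 ≃* Equiv.Perm (Fin 3)) := by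
  refine ⟨MulEquiv.ofBijective (Involves.dihedralHom (x := Equiv.swap (0 : Fin 3) 1)
    (y := Equiv.swap (0 : Fin 3) 1 * Equiv.swap 1 2) (by decide +kernel) (by decide +kernel)
    (by decide +kernel)) ?_⟩
  rw [Fintype.bijective_iff_injective_and_card]
  refine ⟨?_, by simp [DihedralGroup.card, Fintype.card_perm, Nat.factorial]⟩
  intro a b hab
  rcases a with i | i <;> rcases b with j | j <;>
    simp only [Involves.dihedralHom_r, Involves.dihedralHom_sr] at hab <;>
    revert hab <;> revert i j <;> decide +kernel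

/-- An element of order three inverted by an involution gives an `S₃` section. -/
theorem involves_of_inverted {X : Type*} [Group X] [Finite X] {M : Subgroup X} {a x : X}
    (ha : a ∈ M) (hx : x ∈ M) (ha2 : a * a = 1) (hx3 : orderOf x = 3)
    (hax : a * x * a⁻¹ = x⁻¹) : Cfsg.Involves (Equiv.Perm (Fin 3)) ↥M := by
  obtain ⟨e⟩ := exists_equiv_dihedral
  have hy : (⟨x, hx⟩ : M) ^ 3 = 1 := Subtype.ext (by rw [← hx3]; exact pow_orderOf_eq_one x)
  let f := Involves.dihedralHom (n := 3) (x := (⟨a, ha⟩ : M)) (y := ⟨x, hx⟩) hy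
    (Subtype.ext ha2) (Subtype.ext hax)
  have haz : a ∉ zpowers x := fun h => by
    obtain ⟨i, rfl⟩ := mem_zpowers_iff.mp h
    rw [show x ^ i * x * (x ^ i)⁻¹ = x by group, eq_inv_iff_mul_eq_one] at hax
    have h2 := orderOf_dvd_of_pow_eq_one (show x ^ 2 = 1 by rw [pow_two]; exact hax)
    rw [hx3] at h2; norm_num at h2
  have hinj : Function.Injective f := by
    intro c d hcd
    have key : ∀ i j : ZMod 3, x ^ i.val = x ^ j.val → i = j := fun i j h =>
      ZMod.val_injective 3 (pow_injOn_Iio_orderOf (by rw [hx3]; exact ZMod.val_lt i)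
        (by rw [hx3]; exact ZMod.val_lt j) h)
    rcases c with i | i <;> rcases d with j | j <;>
      replace hcd := congrArg Subtype.val hcd <;>
      simp only [f, Involves.dihedralHom_r, Involves.dihedralHom_sr, Subgroup.coe_mul,
        SubgroupClass.coe_pow] at hcd
    · exact congrArg _ (key i j hcd)
    · refine (haz ?_).elim
      rw [eq_mul_inv_of_mul_eq hcd.symm]
      exact mul_mem (pow_mem (mem_zpowers x) _) (inv_mem (pow_mem (mem_zpowers x) _))
    · refine (haz ?_).elim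
      rw [eq_mul_inv_of_mul_eq hcd]
      exact mul_mem (pow_mem (mem_zpowers x) _) (inv_mem (pow_mem (mem_zpowers x) _))
    · exact congrArg _ (key i j (mul_left_cancel hcd))
  exact Involves.involves_of_hom (K := f.range)
    (e.toMonoidHom.comp (MonoidHom.ofInjective hinj).symm.toMonoidHom)
    (e.surjective.comp (MonoidHom.ofInjective hinj).symm.surjective)

/-- An inverted element of prime order at least five moves at least two dimensions. -/
theorem four_le_relIndex {X : Type*} [Group X] [Finite X] {W : Subgroup X}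
    (hW : Cfsg.IsElementaryAbelian 2 W) {a x : X} {q : ℕ} (hq : q.Prime) (hq5 : 5 ≤ q)
    (hxo : orderOf x = q) (ha2 : a * a = 1) (hax : a * x * a⁻¹ = x⁻¹)
    (hxW : ∀ w ∈ W, x * w * x⁻¹ ∈ W) {w : X} (hw : w ∈ W) (hnc : ¬ Commute x w) :
    4 ≤ (W ⊓ centralizer ({a} : Set X)).relIndex W := by
  by_contra hlt
  have hxk : ∀ (k : ℕ), ∀ v ∈ W, x ^ k * v * (x ^ k)⁻¹ ∈ W := by
    intro k
    induction k with
    | zero => intro v hv; simpa using hv
    | succ k ih =>
      intro v hv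
      rw [show x ^ (k + 1) * v * (x ^ (k + 1))⁻¹ = x * (x ^ k * v * (x ^ k)⁻¹) * x⁻¹ by
        rw [pow_succ']; group]
      exact hxW _ (ih v hv)
  set a' := x * a * x⁻¹ with ha'
  have hmap : ∀ b : X, ∀ k : ℕ, (W ⊓ centralizer ({x ^ k * b * (x ^ k)⁻¹} : Set X)) =
      (W ⊓ centralizer ({b} : Set X)).map (MulAut.conj (x ^ k)).toMonoidHom := by
    intro b k
    ext v
    constructor
    · rintro ⟨hv, hvc⟩
      refine ⟨(x ^ k)⁻¹ * v * x ^ k, ⟨?_, ?_⟩, ?_⟩
      · have e : (x ^ k)⁻¹ = x ^ (k * (q - 1)) := by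
          refine inv_eq_of_mul_eq_one_right ?_
          rw [← pow_add, ← orderOf_dvd_iff_pow_eq_one, hxo]
          refine ⟨k, ?_⟩
          obtain ⟨r, rfl⟩ : ∃ r, q = r + 1 := ⟨q - 1, by omega⟩
          rw [Nat.add_sub_cancel]
          ring
        have := hxk (k * (q - 1)) v hv
        rwa [← e, inv_inv] at this
      · replace hvc := mem_centralizer_singleton_iff.mp hvc
        refine mem_centralizer_singleton_iff.mpr ?_
        calc (x ^ k)⁻¹ * v * x ^ k * b
            = (x ^ k)⁻¹ * (v * (x ^ k * b * (x ^ k)⁻¹)) * x ^ k := by group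
          _ = (x ^ k)⁻¹ * (x ^ k * b * (x ^ k)⁻¹ * v) * x ^ k := by rw [hvc]
          _ = _ := by group
      · simp only [MulEquiv.toMonoidHom_eq_coe, MonoidHom.coe_coe, MulAut.conj_apply]
        group
    · rintro ⟨u, ⟨hu, huc⟩, rfl⟩
      refine ⟨hxk k u hu, ?_⟩
      replace huc := mem_centralizer_singleton_iff.mp huc
      refine mem_centralizer_singleton_iff.mpr ?_
      simp only [MulEquiv.toMonoidHom_eq_coe, MonoidHom.coe_coe, MulAut.conj_apply]
      calc x ^ k * u * (x ^ k)⁻¹ * (x ^ k * b * (x ^ k)⁻¹) = x ^ k * (u * b) * (x ^ k)⁻¹ := by group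
        _ = x ^ k * (b * u) * (x ^ k)⁻¹ := by rw [huc]
        _ = _ := by group
  set C₀ := W ⊓ centralizer ({a} : Set X) with hC₀
  set C₁ := W ⊓ centralizer ({a'} : Set X) with hC₁
  have hcardW : ∀ C : Subgroup X, C ≤ W → Nat.card C * C.relIndex W = Nat.card W := fun C hC => by
    rw [← relIndex_bot_left, ← relIndex_bot_left, relIndex_mul_relIndex _ _ _ bot_le hC]
  have hle2 : C₀.relIndex W ≤ 2 := by
    haveI : Fact (Nat.Prime 2) := ⟨Nat.prime_two⟩
    obtain ⟨m, hm⟩ := (IsPGroup.iff_card).mp (show IsPGroup 2 W from fun v => ⟨1, by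
      rw [pow_one]; exact Subtype.ext (by rw [SubgroupClass.coe_pow]; exact hW.2 v v.2)⟩)
    have hd : C₀.relIndex W ∣ 2 ^ m := hm ▸ Dvd.intro_left _ (hcardW C₀ inf_le_left)
    obtain ⟨j, -, hj⟩ := (Nat.dvd_prime_pow Nat.prime_two).mp hd
    rw [hj] at hlt ⊢
    rcases Nat.lt_or_ge j 2 with h | h
    · interval_cases j <;> norm_num
    · exact absurd (Nat.pow_le_pow_right (by norm_num : 0 < 2) h) (by simpa using hlt)
  have hle2' : C₁.relIndex W ≤ 2 := by
    have e : C₁ = C₀.map (MulAut.conj (x ^ 1)).toMonoidHom := by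
      rw [← hmap a 1, pow_one]
    have hc : Nat.card C₁ = Nat.card C₀ := by
      rw [e, card_map_of_injective (MulAut.conj (x ^ 1)).injective]
    have h1 := hcardW C₁ inf_le_left
    rw [hc, ← hcardW C₀ inf_le_left] at h1
    rw [Nat.eq_of_mul_eq_mul_left Nat.card_pos h1]
    exact hle2
  set D := C₀ ⊓ C₁ with hD
  have hD4 : D.relIndex W ≤ 4 :=
    (relIndex_inf_le (H := C₀) (K := C₁) (L := W)).trans (Nat.mul_le_mul hle2 hle2')
  have hDx : ∀ d ∈ D, Commute x d := by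
    rintro d ⟨⟨-, h0⟩, -, h1⟩
    replace h0 := mem_centralizer_singleton_iff.mp h0
    replace h1 := mem_centralizer_singleton_iff.mp h1
    have e : x ^ 2 = a' * a⁻¹ := by
      rw [ha', pow_two]
      calc x * x = x * (x⁻¹)⁻¹ := by group
        _ = x * (a * x * a⁻¹)⁻¹ := by rw [hax]
        _ = _ := by group
    have h2 : Commute (x ^ 2) d := by
      rw [e]; exact (Commute.mul_left (show Commute a' d from h1.symm) (Commute.inv_left h0.symm))
    have e2 : x = (x ^ 2) ^ ((q + 1) / 2) := by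
      obtain ⟨r, hr⟩ := hq.odd_of_ne_two (by omega)
      rw [← pow_mul, show 2 * ((q + 1) / 2) = q + 1 by omega, pow_succ, ← hxo, pow_orderOf_eq_one,
        one_mul]
    rw [e2]; exact h2.pow_left _
  let F : Fin q → ↥W ⧸ D.subgroupOf W := fun k =>
    ((⟨x ^ (k : ℕ) * w * (x ^ (k : ℕ))⁻¹, hxk k w hw⟩ : W) : ↥W ⧸ D.subgroupOf W)
  have hinj : Function.Injective F := by
    suffices h : ∀ i j : Fin q, (i : ℕ) < j → F i ≠ F j by
      intro i j hij
      rcases lt_trichotomy (i : ℕ) j with h' | h' | h'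
      · exact absurd hij (h i j h')
      · exact Fin.ext h'
      · exact absurd hij.symm (h j i h')
    intro i j hlt' hij
    rw [QuotientGroup.eq, mem_subgroupOf] at hij
    set u := x ^ (i : ℕ) * w * (x ^ (i : ℕ))⁻¹ with hu
    set y := x ^ ((j : ℕ) - i) with hy
    set d := u⁻¹ * (y * u * y⁻¹) with hd
    have hdD : d ∈ D := by
      have e : y * u * y⁻¹ = x ^ (j : ℕ) * w * (x ^ (j : ℕ))⁻¹ := by
        rw [hu, hy]
        rw [show x ^ (j : ℕ) = x ^ ((j : ℕ) - i) * x ^ (i : ℕ) by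
          rw [← pow_add]; congr 1; omega]
        group
      rw [hd, e]; exact hij
    have hyd : Commute y d := (hDx d hdD).pow_left _
    have hstep : ∀ n : ℕ, y ^ n * u * (y ^ n)⁻¹ = u * d ^ n := by
      intro n
      induction n with
      | zero => simp
      | succ n ih =>
        calc y ^ (n + 1) * u * (y ^ (n + 1))⁻¹ = y * (y ^ n * u * (y ^ n)⁻¹) * y⁻¹ := by
              rw [pow_succ']; group
          _ = (y * u * y⁻¹) * (y * d ^ n * y⁻¹) := by rw [ih]; group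
          _ = u * d * d ^ n := by
              rw [(hyd.pow_right n).eq, mul_inv_cancel_right, hd, mul_inv_cancel_left]
          _ = _ := by rw [pow_succ', mul_assoc]
    have hyq : y ^ q = 1 := by
      have hxq : x ^ q = 1 := orderOf_dvd_iff_pow_eq_one.mp (dvd_of_eq hxo)
      rw [hy, ← pow_mul, mul_comm, pow_mul, hxq, one_pow]
    have h1 := hstep q
    rw [hyq, one_mul, inv_one, mul_one, eq_comm, mul_eq_left] at h1
    have hd1 : d = 1 := by
      obtain ⟨r, hr⟩ := hq.odd_of_ne_two (by omega)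
      rw [hr, pow_succ, pow_mul, hW.2 d hdD.1.1, one_pow, one_mul] at h1
      exact h1
    apply hnc
    have hyu : Commute y u := by
      rw [hd, inv_mul_eq_one] at hd1
      exact mul_inv_eq_iff_eq_mul.mp hd1.symm
    have hyw : Commute y w := by
      have e : w = (x ^ (i : ℕ))⁻¹ * u * x ^ (i : ℕ) := by rw [hu]; group
      rw [e]
      have hxy : Commute y (x ^ (i : ℕ)) := (Commute.refl x).pow_pow _ _
      exact (hxy.inv_right.mul_right hyu).mul_right hxy
    have hcop : ((j : ℕ) - i).Coprime (orderOf x) := by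
      rw [hxo]
      refine ((hq.coprime_iff_not_dvd).mpr fun h => ?_).symm
      have := Nat.le_of_dvd (by omega) h
      omega
    obtain ⟨m, hm⟩ := exists_pow_eq_self_of_coprime hcop
    rw [← hm]
    exact hyw.pow_left m
  have h := Nat.card_le_card_of_injective F hinj
  rw [Nat.card_fin] at h
  change q ≤ D.relIndex W at h
  omega

/-- A nontrivial elementary abelian 2-group normalised by an elementary abelian 2-group `H` has a
nontrivial element centralised by `H`. -/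
theorem exists_fixed {X : Type*} [Group X] [Finite X] {Y H : Subgroup X}
    (hY : Cfsg.IsElementaryAbelian 2 Y) (hH : Cfsg.IsElementaryAbelian 2 H)
    (hn : ∀ h ∈ H, ∀ y ∈ Y, h * y * h⁻¹ ∈ Y) (hne : Y ≠ ⊥) :
    ∃ y ∈ Y, y ≠ 1 ∧ ∀ h ∈ H, Commute h y := by
  obtain ⟨y₀, hy₀, hy₀1⟩ := exists_mem_ne_one hne
  obtain ⟨S, -, hmax⟩ := Finite.exists_le_maximal (α := Subgroup X)
    (p := fun S => S ≤ H ∧ ∃ y ∈ Y, y ≠ 1 ∧ ∀ h ∈ S, Commute h y) (a := ⊥)
    ⟨bot_le, y₀, hy₀, hy₀1, fun h hh => by rw [mem_bot.mp hh]; exact Commute.one_left _⟩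
  obtain ⟨hSH, y, hy, hy1, hyS⟩ := hmax.prop
  refine ⟨y, hy, hy1, fun h hh => ?_⟩
  set y' := y * (h * y * h⁻¹) with hy'
  have hyY' : h * y * h⁻¹ ∈ Y := hn h hh y hy
  have hcY : ∀ u ∈ Y, ∀ v ∈ Y, u * v = v * u := fun u hu v hv =>
    congrArg Subtype.val (hY.1.is_comm.comm ⟨u, hu⟩ ⟨v, hv⟩)
  have hh2 : h * h = 1 := by rw [← pow_two]; exact hH.2 h hh
  have hinv : y⁻¹ = y := inv_eq_of_mul_eq_one_right (by rw [← pow_two]; exact hY.2 y hy)
  by_cases he : y' = 1
  · rw [hy', mul_eq_one_iff_eq_inv', hinv] at he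
    exact mul_inv_eq_iff_eq_mul.mp he
  have hfix : Commute h y' := by
    refine mul_inv_eq_iff_eq_mul.mp ?_
    rw [hy']
    calc h * (y * (h * y * h⁻¹)) * h⁻¹ = (h * y * h⁻¹) * ((h * h) * y * (h * h)⁻¹) := by group
      _ = (h * y * h⁻¹) * y := by rw [hh2]; simp
      _ = _ := hcY _ hyY' _ hy
  have hS' : ∀ s ∈ S ⊔ zpowers h, Commute s y' := by
    intro s hs
    have hle : S ⊔ zpowers h ≤ centralizer ({y'} : Set X) := by
      refine sup_le (fun t ht => mem_centralizer_singleton_iff.mpr ?_)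
        (zpowers_le.mpr (mem_centralizer_singleton_iff.mpr hfix.eq))
      have hth : Commute t h := congrArg Subtype.val (hH.1.is_comm.comm ⟨t, hSH ht⟩ ⟨h, hh⟩)
      exact ((hyS t ht).mul_right ((hth.mul_right (hyS t ht)).mul_right hth.inv_right)).eq
    exact mem_centralizer_singleton_iff.mp (hle hs)
  have hle := hmax.2 ⟨sup_le hSH (zpowers_le.mpr hh), y', mul_mem hy hyY', he, hS'⟩ le_sup_left
  exact hyS h (hle (mem_sup_right (mem_zpowers h)))

/-- Let M and V be subgroups of a finite group with V an elementary abelian 2-group, M normalizing V and acting faithfully on it (M ∩ C(V) = 1), and C_M(O_{2'}(M)) ≤ O_{2'}(M). If some elementary abelian 2-subgroup A of M satisfies |V : C_V(A)| < |A|², then M has a section isomorphic to the symmetric group of degree 3. -/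
theorem result {X : Type*} [Group X] [Finite X] (M V : Subgroup X) (hV : Cfsg.IsElementaryAbelian 2 V) (hMV : M ≤ Subgroup.normalizer (V : Set X)) (hfaith : M ⊓ Subgroup.centralizer (V : Set X) = ⊥) (hcon : Subgroup.centralizer (Cfsg.pPrimeCore 2 ↥M : Set ↥M) ≤ Cfsg.pPrimeCore 2 ↥M) (A : Subgroup X) (hAM : A ≤ M) (hA : Cfsg.IsElementaryAbelian 2 A) (hsmall : (V ⊓ Subgroup.centralizer (A : Set X)).relIndex V < Nat.card A ^ 2) : Cfsg.Involves (Equiv.Perm (Fin 3)) ↥M := by
  classical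
  by_contra hno
  set O : Subgroup X := (Cfsg.pPrimeCore 2 ↥M).map M.subtype with hO
  have hOM : O ≤ M := map_subtype_le _
  have hOodd : ¬ 2 ∣ Nat.card O := by
    haveI : Fact (Nat.Prime 2) := ⟨Nat.prime_two⟩
    rw [hO, card_map_of_injective M.subtype_injective]
    exact Cfsg.Agent.Cores.not_dvd_card_pPrimeCore
  have hMO : ∀ m ∈ M, ∀ o ∈ O, m * o * m⁻¹ ∈ O := by
    rintro m hm _ ⟨o, ho, rfl⟩
    haveI := Cfsg.Agent.Cores.pPrimeCore_normal 2 ↥M
    exact ⟨⟨m, hm⟩ * o * ⟨m, hm⟩⁻¹, Normal.conj_mem inferInstance o ho _, rfl⟩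
  have hfaithA : ∀ a ∈ A, (∀ o ∈ O, a * o = o * a) → a = 1 := by
    intro a ha h
    have h1 : (⟨a, hAM ha⟩ : M) ∈ centralizer (Cfsg.pPrimeCore 2 ↥M : Set ↥M) :=
      mem_centralizer_iff.mpr fun o ho => Subtype.ext (h o ⟨o, ho, rfl⟩).symm
    have h2 : a ∈ O := ⟨_, hcon h1, rfl⟩
    by_contra hne
    apply hOodd
    have h3 : orderOf a = 2 := orderOf_eq_prime (hA.2 a ha) hne
    rw [← h3, ← Subgroup.orderOf_mk _ h2]
    exact orderOf_dvd_natCard _
  have hVn : ∀ m ∈ M, ∀ v ∈ V, m * v * m⁻¹ ∈ V := fun m hm v hv =>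
    (mem_normalizer_iff.mp (hMV hm) v).mp hv
  suffices key : ∀ n : ℕ, ∀ B : Subgroup X, B ≤ A → Nat.card B = n →
      n ^ 2 ≤ (V ⊓ centralizer (B : Set X)).relIndex V from
    absurd hsmall (not_lt.mpr (key _ A le_rfl rfl))
  intro n
  induction n using Nat.strong_induction_on with
  | _ n ih =>
  intro B hBA hBn
  subst hBn
  have hB : Cfsg.IsElementaryAbelian 2 B := ⟨⟨⟨fun a b => Subtype.ext (congrArg Subtype.val
    (hA.1.is_comm.comm ⟨a, hBA a.2⟩ ⟨b, hBA b.2⟩) :)⟩⟩, fun b hb => hA.2 b (hBA hb)⟩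
  by_cases hB1 : B = ⊥
  · subst hB1
    rw [card_bot, one_pow]
    exact Nat.one_le_iff_ne_zero.mpr index_ne_zero_of_finite
  haveI : Fact (Nat.Prime 2) := ⟨Nat.prime_two⟩
  have hBO : B ≤ normalizer (O : Set X) := by
    intro b hb
    rw [mem_normalizer_iff]
    intro o
    refine ⟨fun ho => hMO b (hAM (hBA hb)) o ho, fun ho => ?_⟩
    have := hMO b⁻¹ (inv_mem (hAM (hBA hb))) _ ho
    simpa [mul_assoc] using this
  obtain ⟨H, hHB, hHi, hnle⟩ : ∃ H : Subgroup X, H ≤ B ∧ H.relIndex B = 2 ∧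
      ¬ O ⊓ centralizer (H : Set X) ≤ centralizer (B : Set X) := by
    by_contra hcon'
    push Not at hcon'
    have h := Cfsg.Agent.Signalizer.le_of_hyperplanes hB hB1 (centralizer (B : Set X)) O hOodd hBO hcon'
    obtain ⟨b, hb, hb1⟩ := exists_mem_ne_one hB1
    exact hb1 (hfaithA b (hBA hb) fun o ho => mem_centralizer_iff.mp (h ho) b hb)
  obtain ⟨o, ⟨hoO, hoH⟩, hoB⟩ := SetLike.not_le_iff_exists.mp hnle
  obtain ⟨a, haB, hao⟩ : ∃ a ∈ B, a * o ≠ o * a := by
    by_contra hcon'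
    push Not at hcon'
    exact hoB (mem_centralizer_iff.mpr hcon')
  have haH : a ∉ H := fun h => hao (mem_centralizer_iff.mp hoH a h)
  have ha2 : a * a = 1 := by rw [← pow_two]; exact hB.2 a haB
  set y := o⁻¹ * (a * o * a⁻¹) with hy
  have hy1 : y ≠ 1 := fun h => hao (mul_inv_eq_iff_eq_mul.mp (inv_mul_eq_one.mp h).symm)
  have hyinv : a * y * a⁻¹ = y⁻¹ := by
    rw [hy]
    calc a * (o⁻¹ * (a * o * a⁻¹)) * a⁻¹ = (a * o⁻¹ * a⁻¹) * ((a * a) * o * (a * a)⁻¹) := by group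
      _ = _ := by rw [ha2]; group
  have hyO : y ∈ O := mul_mem (inv_mem hoO) (hMO a (hAM (hBA haB)) o hoO)
  have hyH : ∀ h ∈ H, Commute h y := by
    intro h hh
    have h1 : Commute h o := mem_centralizer_iff.mp hoH h hh
    have h2 : Commute h a := congrArg Subtype.val (hB.1.is_comm.comm ⟨h, hHB hh⟩ ⟨a, haB⟩)
    exact h1.inv_right.mul_right ((h2.mul_right h1).mul_right h2.inv_right)
  obtain ⟨q, hq, hqy⟩ := Nat.exists_prime_and_dvd (n := orderOf y) (fun h => hy1 (orderOf_eq_one_iff.mp h))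
  set x := y ^ (orderOf y / q) with hx
  have hxo : orderOf x = q := orderOf_pow_orderOf_div (orderOf_pos y).ne' hqy
  have hxinv : a * x * a⁻¹ = x⁻¹ := by rw [hx, ← conj_pow, hyinv, inv_pow]
  have hxM : x ∈ M := hOM (pow_mem hyO _)
  have hq5 : 5 ≤ q := by
    have hq2 : q ≠ 2 := fun h => hOodd (by
      rw [← h, ← hxo, ← Subgroup.orderOf_mk _ (pow_mem hyO (orderOf y / q) : x ∈ O)]
      exact orderOf_dvd_natCard _)
    have hq3 : q ≠ 3 := fun h => hno (involves_of_inverted (hAM (hBA haB)) hxM ha2 (hxo.trans h) hxinv)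
    have hq4 : q ≠ 4 := fun h => by rw [h] at hq; norm_num at hq
    have := hq.two_le
    omega
  set W := V ⊓ centralizer (H : Set X) with hW
  have hWab : Cfsg.IsElementaryAbelian 2 W := ⟨⟨⟨fun u v => Subtype.ext (congrArg Subtype.val
    (hV.1.is_comm.comm ⟨u, u.2.1⟩ ⟨v, v.2.1⟩) :)⟩⟩, fun v hv => hV.2 v hv.1⟩
  have hxH : ∀ h ∈ H, Commute h x := fun h hh => (hyH h hh).pow_right _
  have hxW : ∀ w ∈ W, x * w * x⁻¹ ∈ W := fun w hw => ⟨hVn x hxM w hw.1, mem_centralizer_iff.mpr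
    fun h hh => (((hxH h hh).mul_right (mem_centralizer_iff.mp hw.2 h hh)).mul_right
      (hxH h hh).inv_right).eq⟩
  obtain ⟨w, hwW, hxw⟩ : ∃ w ∈ W, ¬ Commute x w := by
    have hcV : ∀ u ∈ V, ∀ v ∈ V, u * v = v * u := fun u hu v hv =>
      congrArg Subtype.val (hV.1.is_comm.comm ⟨u, hu⟩ ⟨v, hv⟩)
    let τ : ↥V →* X := MonoidHom.mk' (fun v => x * v * x⁻¹ * (v : X)⁻¹) (fun u v => by
      show x * ((u : X) * v) * x⁻¹ * ((u : X) * v)⁻¹ = _
      have hu' : x * (u : X) * x⁻¹ ∈ V := hVn x hxM u u.2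
      have hv' : x * (v : X) * x⁻¹ ∈ V := hVn x hxM v v.2
      calc x * ((u : X) * v) * x⁻¹ * ((u : X) * v)⁻¹
          = (x * u * x⁻¹) * ((x * v * x⁻¹ * (v : X)⁻¹) * (u : X)⁻¹) := by group
        _ = (x * u * x⁻¹) * ((u : X)⁻¹ * (x * v * x⁻¹ * (v : X)⁻¹)) := by
            rw [hcV _ (mul_mem hv' (inv_mem v.2)) _ (inv_mem u.2)]
        _ = _ := by group)
    have hτV : τ.range ≤ V := by
      rintro _ ⟨v, rfl⟩
      exact mul_mem (hVn x hxM v v.2) (inv_mem v.2)
    have hne : τ.range ≠ ⊥ := fun h => by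
      have h1 : x ∈ M ⊓ centralizer (V : Set X) := ⟨hxM, mem_centralizer_iff.mpr fun v hv => by
        have h2 : τ ⟨v, hv⟩ ∈ τ.range := ⟨_, rfl⟩
        rw [h, mem_bot] at h2
        exact (mul_inv_eq_iff_eq_mul.mp (mul_inv_eq_one.mp h2)).symm⟩
      rw [hfaith, mem_bot] at h1
      rw [h1, orderOf_one] at hxo
      exact hq.one_lt.ne hxo
    have hYab : Cfsg.IsElementaryAbelian 2 τ.range := ⟨⟨⟨fun u v => Subtype.ext
      (hcV u (hτV u.2) v (hτV v.2))⟩⟩, fun v hv => hV.2 v (hτV hv)⟩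
    obtain ⟨c, hc, hc1, hcH⟩ := exists_fixed hYab
      (⟨⟨⟨fun u v => Subtype.ext (congrArg Subtype.val
        (hB.1.is_comm.comm ⟨u, hHB u.2⟩ ⟨v, hHB v.2⟩) :)⟩⟩, fun h hh => hB.2 h (hHB hh)⟩ :
        Cfsg.IsElementaryAbelian 2 H)
      (fun h hh => by
        rintro _ ⟨v, rfl⟩
        refine ⟨⟨h * v * h⁻¹, hVn h (hAM (hBA (hHB hh))) v v.2⟩, ?_⟩
        have hhx := (hxH h hh).eq
        show x * (h * v * h⁻¹) * x⁻¹ * (h * v * h⁻¹)⁻¹ = h * (x * v * x⁻¹ * (v : X)⁻¹) * h⁻¹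
        calc x * (h * v * h⁻¹) * x⁻¹ * (h * v * h⁻¹)⁻¹
            = (x * h) * v * (x * h)⁻¹ * h * (v : X)⁻¹ * h⁻¹ := by group
          _ = (h * x) * v * (h * x)⁻¹ * h * (v : X)⁻¹ * h⁻¹ := by rw [hhx]
          _ = _ := by group) hne
    refine ⟨c, ⟨hτV hc, mem_centralizer_iff.mpr fun h hh => (hcH h hh).eq⟩, fun hxc => ?_⟩
    obtain ⟨v, rfl⟩ := hc
    apply hc1
    set d := τ v with hd
    have hstep : ∀ k : ℕ, x ^ k * v * (x ^ k)⁻¹ = d ^ k * v := by
      intro k
      induction k with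
      | zero => simp
      | succ k ih =>
        calc x ^ (k + 1) * v * (x ^ (k + 1))⁻¹ = x * (x ^ k * v * (x ^ k)⁻¹) * x⁻¹ := by
              rw [pow_succ']; group
          _ = (x * d ^ k) * v * x⁻¹ := by rw [ih]; group
          _ = (d ^ k * x) * v * x⁻¹ := by rw [(hxc.pow_right k).eq]
          _ = d ^ k * (x * v * x⁻¹ * (v : X)⁻¹) * v := by group
          _ = _ := by rw [pow_succ]; rfl
    have h1 := hstep q
    rw [← hxo, pow_orderOf_eq_one, one_mul, inv_one, mul_one, hxo, right_eq_mul] at h1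
    obtain ⟨r, hr⟩ := hq.odd_of_ne_two (by omega)
    rw [hr, pow_succ, pow_mul, hV.2 d (hτV ⟨v, rfl⟩), one_pow, one_mul] at h1
    exact h1
  have h4 := four_le_relIndex hWab hq hq5 hxo ha2 hxinv hxW hwW hxw
  have hcard : Nat.card H * 2 = Nat.card B := Cfsg.Agent.Signalizer.card_hyperplane_mul hHB hHi
  have hlt : Nat.card H < Nat.card B := by
    have := Nat.card_pos (α := H)
    omega
  have hind := ih _ hlt H (hHB.trans hBA) rfl
  have hsub : V ⊓ centralizer (B : Set X) ≤ W ⊓ centralizer ({a} : Set X) :=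
    fun v hv => ⟨⟨hv.1, centralizer_le hHB hv.2⟩,
      centralizer_le (Set.singleton_subset_iff.mpr haB) hv.2⟩
  have hmul := relIndex_mul_relIndex (V ⊓ centralizer (B : Set X)) (W ⊓ centralizer ({a} : Set X)) V
    hsub (inf_le_left.trans inf_le_left)
  have hmul2 := relIndex_mul_relIndex (W ⊓ centralizer ({a} : Set X)) W V inf_le_left inf_le_left
  have hpos : 1 ≤ (V ⊓ centralizer (B : Set X)).relIndex (W ⊓ centralizer ({a} : Set X)) :=
    Nat.one_le_iff_ne_zero.mpr index_ne_zero_of_finite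
  rw [← hcard, mul_pow, ← hmul]
  calc Nat.card H ^ 2 * 2 ^ 2 ≤ W.relIndex V * (W ⊓ centralizer ({a} : Set X)).relIndex W :=
        Nat.mul_le_mul hind h4
    _ = (W ⊓ centralizer ({a} : Set X)).relIndex V := by rw [mul_comm, hmul2]
    _ ≤ _ := Nat.le_mul_of_pos_left _ hpos


end Cfsg.Agent.S3755
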