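import Cfsg.Statements.S3756
import Cfsg.Agent.Lib.StellmacherW.Main

set_option autoImplicit false
open Cfsg

namespace Cfsg.Agent.S3756

open Subgroup Cfsg.Agent.StellmacherW

variable {G : Type*} [Group G] [Finite G]

/-- A 2-local subgroup normalises `W` of its Sylow subgroups. -/
theorem le_normalizer_WOf
    (hloc : ∀ M : Subgroup G, Cfsg.IsTwoLocal M → Group.IsSolvable M ∧ Cfsg.IsOfCharacteristicTwo ↥M ∧
      ¬ Cfsg.Involves (Equiv.Perm (Fin 4)) ↥M)
    {H : Subgroup G} (hH : Cfsg.IsTwoLocal H) (R : Sylow 2 H) :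
    H ≤ normalizer ((WOf ((R : Subgroup H).map H.subtype) : Subgroup G) : Set G) := by
  obtain ⟨h1, h2, h3⟩ := hloc H hH
  rw [← map_WOf H.subtype_injective]
  refine le_trans ?_ (le_normalizer_map H.subtype)
  rw [normalizer_eq_top_iff.2 (WOf_normal h1 h3 h2 R), ← MonoidHom.range_eq_map, range_subtype]

theorem exists_normalizer_not_mem {S R : Subgroup G} (hS : IsPGroup 2 S) (hlt : R < S) :
    ∃ g ∈ S, g ∈ normalizer (R : Set G) ∧ g ∉ R := by
  haveI : Group.IsNilpotent S := hS.isNilpotent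
  have h1 : R.subgroupOf S < ⊤ :=
    lt_of_le_of_ne le_top fun e => hlt.not_ge (subgroupOf_eq_top.mp e)
  obtain ⟨⟨g, hgS⟩, hg, hgR⟩ := SetLike.exists_of_lt (normalizerCondition_of_isNilpotent _ h1)
  exact ⟨g, hgS, Coprime.mem_normalizer_of_forall fun r hr =>
    (mem_normalizer_iff.mp hg ⟨r, hlt.le hr⟩).mp hr, hgR⟩

theorem eq_bot_of_isTwoLocal_top (hO : Cfsg.pCore 2 G = ⊥) {T : Subgroup G} (hT : IsPGroup 2 T)
    (h : normalizer (T : Set G) = ⊤) : T = ⊥ :=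
  eq_bot_iff.2 ((Cores.le_pCore (normalizer_eq_top_iff.1 h) hT).trans hO.le)

/-- A Sylow subgroup of a maximal 2-local subgroup is one of `G` and determines it. -/
theorem maximal_facts
    (hloc : ∀ M : Subgroup G, Cfsg.IsTwoLocal M → Group.IsSolvable M ∧ Cfsg.IsOfCharacteristicTwo ↥M ∧
      ¬ Cfsg.Involves (Equiv.Perm (Fin 4)) ↥M)
    {M : Subgroup G} (hM : Cfsg.IsMaximalTwoLocal M) (R : Sylow 2 M) :
    ∃ S : Sylow 2 G, (S : Subgroup G) = (R : Subgroup M).map M.subtype ∧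
      M = normalizer ((WOf (S : Subgroup G) : Subgroup G) : Set G) ∧
      normalizer (S : Set G) ≤ M := by
  haveI : Fact (Nat.Prime 2) := ⟨Nat.prime_two⟩
  set R0 := (R : Subgroup M).map M.subtype
  have hR0 : IsPGroup 2 R0 := R.isPGroup'.map _
  obtain ⟨T, hT, hT1, hMT⟩ := hM.1
  have hTM : T ≤ M := hMT ▸ le_normalizer
  have hne : R0 ≠ ⊥ := by
    intro h
    obtain ⟨R1, hR1⟩ := (hT.comap_subtype (K := M)).exists_le_sylow
    have h1 : (R1 : Subgroup M) = ⊥ := by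
      refine card_eq_one.1 ?_
      rw [Sylow.card_eq_multiplicity, ← Sylow.card_eq_multiplicity R]
      exact card_eq_one.2 ((map_eq_bot_iff_of_injective _ M.subtype_injective).1 h)
    refine hT1 ?_
    rw [← inf_eq_left.2 hTM, ← subgroupOf_map_subtype,
      (eq_bot_iff.2 (hR1.trans h1.le) : T.subgroupOf M = ⊥), Subgroup.map_bot]
  have hW : Cfsg.IsTwoLocal (normalizer ((WOf R0 : Subgroup G) : Set G)) :=
    ⟨WOf R0, hR0.to_le (WOf_le _), WOf_ne_bot hR0 hne, rfl⟩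
  have heq : normalizer ((WOf R0 : Subgroup G) : Set G) = M :=
    hM.2 _ hW (le_normalizer_WOf hloc hM.1 R)
  have hN : normalizer (R0 : Set G) ≤ M := heq ▸ normalizer_le_normalizer_WOf R0
  obtain ⟨S, hS⟩ := hR0.exists_le_sylow
  have hSeq : R0 = (S : Subgroup G) := by
    by_contra h
    obtain ⟨g, hgS, hg, hgR⟩ := exists_normalizer_not_mem S.isPGroup' (lt_of_le_of_ne hS h)
    have h1 : (S : Subgroup G).subgroupOf M = R :=
      R.is_maximal' S.isPGroup'.comap_subtype fun x hx => mem_subgroupOf.2 (hS (mem_map_of_mem _ hx))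
    refine hgR ⟨⟨g, hN hg⟩, ?_, rfl⟩
    rw [SetLike.mem_coe, ← h1, mem_subgroupOf]
    exact hgS
  refine ⟨S, hSeq.symm, ?_, ?_⟩
  · rw [← hSeq]; exact heq.symm
  · show normalizer (((S : Subgroup G)) : Set G) ≤ M
    rw [← hSeq]
    exact hN

theorem normalizer_le
    (hloc : ∀ M : Subgroup G, Cfsg.IsTwoLocal M → Group.IsSolvable M ∧ Cfsg.IsOfCharacteristicTwo ↥M ∧
      ¬ Cfsg.Involves (Equiv.Perm (Fin 4)) ↥M)
    {M : Subgroup G} (hM : Cfsg.IsMaximalTwoLocal M) {T : Subgroup G} (hT : IsPGroup 2 T)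
    (hT1 : T ≠ ⊥) (hTM : T ≤ M) : normalizer (T : Set G) ≤ M := by
  haveI : Fact (Nat.Prime 2) := ⟨Nat.prime_two⟩
  by_contra hne
  obtain ⟨⟨T₀, R⟩, ⟨hT₀, hT₀1, hT₀M, hT₀N, hR, hRN, hRM⟩, hmax⟩ := Set.exists_max_image
    {p : Subgroup G × Subgroup G | IsPGroup 2 p.1 ∧ p.1 ≠ ⊥ ∧ p.1 ≤ M ∧
      ¬ normalizer (p.1 : Set G) ≤ M ∧ IsPGroup 2 p.2 ∧ p.2 ≤ normalizer (p.1 : Set G) ∧ p.2 ≤ M}
    (fun p => Nat.card p.2) (Set.toFinite _) ⟨(T, T), hT, hT1, hTM, hne, hT, le_normalizer, hTM⟩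
  dsimp only at hT₀ hT₀1 hT₀M hT₀N hR hRN hRM hmax
  set H := normalizer (T₀ : Set G)
  have hTR : T₀ ≤ R := by
    have h1 : IsPGroup 2 (R ⊔ T₀ : Subgroup G) := hR.to_sup_of_normal_right' hT₀ hRN
    have h2 := hmax (T₀, R ⊔ T₀) ⟨hT₀, hT₀1, hT₀M, hT₀N, h1, sup_le hRN le_normalizer, sup_le hRM hT₀M⟩
    exact le_sup_right.trans (eq_of_le_of_card_ge le_sup_left h2).ge
  have hR1 : R ≠ ⊥ := fun h => hT₀1 (eq_bot_iff.2 (hTR.trans h.le))
  -- a Sylow subgroup of `M` above `R`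
  obtain ⟨R', hR'⟩ := (hR.comap_subtype (K := M)).exists_le_sylow
  obtain ⟨S, hS, hMW, -⟩ := maximal_facts hloc hM R'
  have hSM : (S : Subgroup G) ≤ M := hS ▸ map_subtype_le _
  have hRS : R ≤ (S : Subgroup G) := by
    rw [hS, ← inf_eq_left.2 hRM, ← subgroupOf_map_subtype]
    exact map_mono hR'
  -- a strictly larger 2-subgroup gives containment in `M`
  have hgrow : ∀ {X Y : Subgroup G}, IsPGroup 2 X → X ≠ ⊥ → X ≤ M → IsPGroup 2 Y → R < Y →
      Y ≤ normalizer (X : Set G) → Y ≤ M → normalizer (X : Set G) ≤ M := by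
    intro X Y hX hX1 hXM hY hlt hYN hYM
    by_contra h
    exact (hmax (X, Y) ⟨hX, hX1, hXM, h, hY, hYN, hYM⟩).not_gt
      (lt_of_not_ge fun hc => hlt.ne (eq_of_le_of_card_ge hlt.le hc))
  -- `R` is Sylow in `H`
  have hRH : ∀ Y : Subgroup G, IsPGroup 2 Y → Y ≤ H → R ≤ Y → Y = R := by
    intro Y hY hYH hRY
    by_contra h
    have hlt : R < Y := lt_of_le_of_ne hRY (Ne.symm h)
    by_cases hRS' : R = (S : Subgroup G)
    · exact h ((S.is_maximal' hY (hRS' ▸ hRY)).trans hRS'.symm)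
    obtain ⟨g, hgS, hg, hgR⟩ := exists_normalizer_not_mem S.isPGroup' (lt_of_le_of_ne hRS hRS')
    have hNR : normalizer (R : Set G) ≤ M :=
      hgrow hR hR1 hRM (S.isPGroup'.to_le (inf_le_left : (S : Subgroup G) ⊓ normalizer (R : Set G) ≤ _))
        (lt_of_le_of_ne (le_inf hRS le_normalizer) fun e => hgR (e.ge ⟨hgS, hg⟩)) inf_le_right
        (inf_le_left.trans hSM)
    obtain ⟨g', hgY, hg', hgR'⟩ := exists_normalizer_not_mem hY hlt
    exact hT₀N (hgrow hT₀ hT₀1 hT₀M (hY.to_le (inf_le_left : Y ⊓ normalizer (R : Set G) ≤ _))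
      (lt_of_le_of_ne (le_inf hRY le_normalizer) fun e => hgR' (e.ge ⟨hgY, hg'⟩))
      (inf_le_left.trans hYH) (inf_le_right.trans hNR))
  -- so `H` normalises `W(R)`
  obtain ⟨RH, hRH'⟩ := (hR.comap_subtype (K := H)).exists_le_sylow
  have hmap : (RH : Subgroup H).map H.subtype = R := by
    refine hRH _ (RH.isPGroup'.map _) (map_subtype_le _) ?_
    rw [← inf_eq_left.2 hRN, ← subgroupOf_map_subtype]
    exact map_mono hRH'
  have hHW := le_normalizer_WOf hloc (H := H) ⟨T₀, hT₀, hT₀1, rfl⟩ RH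
  rw [hmap] at hHW
  refine hT₀N (hHW.trans ?_)
  by_cases hRS' : R = (S : Subgroup G)
  · rw [hRS', ← hMW]
  · obtain ⟨g, hgS, hg, hgR⟩ := exists_normalizer_not_mem S.isPGroup' (lt_of_le_of_ne hRS hRS')
    exact hgrow (hR.to_le (WOf_le R)) (WOf_ne_bot hR hR1) ((WOf_le R).trans hRM)
      (S.isPGroup'.to_le (inf_le_left : (S : Subgroup G) ⊓ normalizer (R : Set G) ≤ _))
      (lt_of_le_of_ne (le_inf hRS le_normalizer) fun e => hgR (e.ge ⟨hgS, hg⟩))
      (inf_le_right.trans (normalizer_le_normalizer_WOf R)) (inf_le_left.trans hSM)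

/-- Let G be a finite group of even order with O₂(G) = 1 such that every 2-local subgroup of G is solvable, of characteristic 2, and has no section isomorphic to the symmetric group of degree 4. Then every maximal 2-local subgroup of G is strongly embedded in G. -/
theorem result {G : Type*} [Group G] [Finite G] (heven : Even (Nat.card G)) (hO : Cfsg.pCore 2 G = ⊥) (hloc : ∀ M : Subgroup G, Cfsg.IsTwoLocal M → Group.IsSolvable M ∧ Cfsg.IsOfCharacteristicTwo ↥M ∧ ¬ Cfsg.Involves (Equiv.Perm (Fin 4)) ↥M) (M : Subgroup G) (hM : Cfsg.IsMaximalTwoLocal M) : Cfsg.IsStronglyEmbedded M := by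
  haveI : Fact (Nat.Prime 2) := ⟨Nat.prime_two⟩
  obtain ⟨T, hT, hT1, hMT⟩ := hM.1
  have hTM : T ≤ M := hMT ▸ Subgroup.le_normalizer
  have heven' : Even (Nat.card M) := by
    obtain ⟨n, hn⟩ := IsPGroup.iff_card.1 hT
    have hn0 : n ≠ 0 := fun h => hT1 (Subgroup.card_eq_one.1 (by rw [hn, h, pow_zero]))
    exact even_iff_two_dvd.2 ((dvd_pow_self 2 hn0).trans (hn ▸ Subgroup.card_dvd_of_le hTM))
  refine ⟨fun h => hT1 (eq_bot_of_isTwoLocal_top hO hT (hMT.symm.trans h)), heven', fun g hg => ?_⟩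
  by_contra hodd
  rw [Nat.not_odd_iff_even, even_iff_two_dvd] at hodd
  set D := M ⊓ M.map (MulAut.conj g).toMonoidHom
  obtain ⟨P⟩ : Nonempty (Sylow 2 D) := inferInstance
  set P0 := (P : Subgroup D).map D.subtype
  have hP0 : IsPGroup 2 P0 := P.isPGroup'.map _
  have hP1 : P0 ≠ ⊥ := fun h => by
    have h1 := P.dvd_card_of_dvd_card hodd
    rw [(Subgroup.map_eq_bot_iff_of_injective _ D.subtype_injective).1 h, Subgroup.card_bot] at h1
    norm_num at h1
  have hP0D : P0 ≤ D := Subgroup.map_subtype_le _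
  have hN : Subgroup.normalizer (P0 : Set G) ≤ D := by
    refine le_inf (normalizer_le hloc hM hP0 hP1 (hP0D.trans inf_le_left)) fun x hx => ?_
    have h1 : cj g⁻¹ P0 ≤ M := fun z hz => by
      rw [mem_cj, inv_inv] at hz
      have h2 : g * z * g⁻¹ ∈ cj g M := (hP0D hz).2
      rw [mem_cj] at h2
      simpa [mul_assoc] using h2
    have h3 := normalizer_le hloc hM (hP0.map (MulAut.conj g⁻¹).toMonoidHom)
      (fun h => hP1 ((Subgroup.map_eq_bot_iff_of_injective _ (MulAut.conj g⁻¹).injective).1 h)) h1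
    have h4 : g⁻¹ * x * g ∈ M := by
      refine h3 (cj_eq_self_iff.1 ?_)
      show cj (g⁻¹ * x * g) (cj g⁻¹ P0) = cj g⁻¹ P0
      rw [cj_cj, show g⁻¹ * x * g * g⁻¹ = g⁻¹ * x by group, ← cj_cj, cj_eq_self_iff.2 hx]
    exact mem_cj.2 h4
  obtain ⟨S, hS⟩ := hP0.exists_le_sylow
  have hPS : P0 = (S : Subgroup G) := by
    by_contra h
    obtain ⟨z, hzS, hz, hzP⟩ := exists_normalizer_not_mem S.isPGroup' (lt_of_le_of_ne hS h)
    have h1 : (S : Subgroup G).subgroupOf D = P :=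
      P.is_maximal' S.isPGroup'.comap_subtype fun w hw =>
        Subgroup.mem_subgroupOf.2 (hS (Subgroup.mem_map_of_mem _ hw))
    refine hzP ⟨⟨z, hN hz⟩, ?_, rfl⟩
    rw [SetLike.mem_coe, ← h1, Subgroup.mem_subgroupOf]
    exact hzS
  have hSM : (S : Subgroup G) ≤ M := hPS ▸ hP0D.trans inf_le_left
  have hSM' : (S : Subgroup G) ≤ cj g M := hPS ▸ hP0D.trans inf_le_right
  have hSM'' : ((g⁻¹ • S : Sylow 2 G) : Subgroup G) ≤ M := by
    intro z hz
    rw [Sylow.coe_subgroup_smul, Subgroup.mem_pointwise_smul_iff_inv_smul_mem, MulAut.smul_def,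
      ← map_inv, inv_inv, MulAut.conj_apply] at hz
    have h2 := hSM' hz
    rw [mem_cj] at h2
    simpa [mul_assoc] using h2
  obtain ⟨m, hm⟩ := MulAction.exists_smul_eq M (S.subtype hSM) ((g⁻¹ • S : Sylow 2 G).subtype hSM'')
  rw [Sylow.smul_subtype] at hm
  have h5 : (m : G) • S = g⁻¹ • S := Sylow.subtype_injective hm
  have h6 : g * (m : G) ∈ Subgroup.normalizer (S : Set G) := by
    rw [← Sylow.smul_eq_iff_mem_normalizer, mul_smul, h5, smul_inv_smul]
  have h7 : g * (m : G) ∈ M :=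
    normalizer_le hloc hM S.isPGroup' (fun h => hP1 (hPS.trans h)) hSM h6
  exact hg (by simpa using M.mul_mem h7 (M.inv_mem m.2))

end Cfsg.Agent.S3756
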