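import Cfsg.Statements.S3760
import Cfsg.Agent.EqLemmas

set_option autoImplicit false
open Cfsg

namespace Cfsg.Agent.S3760

/-- Let the group G act transitively on a set X, let x ∈ X with stabilizer H = G_x, and let K ≤ H. Then N_G(K) acts transitively on the set of fixed points of K if and only if every G-conjugate of K contained in H is already an H-conjugate of K. -/
theorem result {G : Type*} [Group G] {X : Type*} [MulAction G X] (htrans : ∀ a b : X, ∃ g : G, g • a = b) (x : X) (K : Subgroup G) (hK : K ≤ MulAction.stabilizer G x) : (∀ a b : X, (∀ k ∈ K, k • a = a) → (∀ k ∈ K, k • b = b) → ∃ g ∈ Subgroup.normalizer (K : Set G), g • a = b) ↔ ∀ g : G, K.map (MulAut.conj g).toMonoidHom ≤ MulAction.stabilizer G x → ∃ h ∈ MulAction.stabilizer G x, K.map (MulAut.conj g).toMonoidHom = K.map (MulAut.conj h).toMonoidHom := by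
  constructor
  · intro h g hg
    have hgx : ∀ k ∈ K, k • (g⁻¹ • x) = g⁻¹ • x := by
      intro k hk
      have h1 : (g * k * g⁻¹) • x = x := hg ⟨k, hk, rfl⟩
      rw [mul_smul, mul_smul] at h1
      exact eq_inv_smul_iff.mpr h1
    obtain ⟨n, hn, hnx⟩ := h x (g⁻¹ • x) (fun k hk => hK hk) hgx
    refine ⟨g * n, ?_, ?_⟩
    · show (g * n) • x = x
      rw [mul_smul, hnx, smul_inv_smul]
    · ext y
      simp only [Subgroup.mem_map, MulEquiv.coe_toMonoidHom, MulAut.conj_apply]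
      constructor
      · rintro ⟨k, hk, rfl⟩
        refine ⟨n⁻¹ * k * n, ?_, by group⟩
        have := (Subgroup.mem_normalizer_iff.mp (Subgroup.inv_mem _ hn) k).mp hk
        simpa using this
      · rintro ⟨k, hk, rfl⟩
        exact ⟨n * k * n⁻¹, (Subgroup.mem_normalizer_iff.mp hn k).mp hk, by group⟩
  · intro h
    suffices key : ∀ a : X, (∀ k ∈ K, k • a = a) → ∃ n ∈ Subgroup.normalizer (K : Set G), n • x = a by
      intro a b ha hb
      obtain ⟨na, hna, rfl⟩ := key a ha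
      obtain ⟨nb, hnb, rfl⟩ := key b hb
      exact ⟨nb * na⁻¹, Subgroup.mul_mem _ hnb (Subgroup.inv_mem _ hna), by rw [mul_smul, inv_smul_smul]⟩
    intro a ha
    obtain ⟨u, rfl⟩ := htrans x a
    have hu : K.map (MulAut.conj u⁻¹).toMonoidHom ≤ MulAction.stabilizer G x := by
      rintro _ ⟨k, hk, rfl⟩
      show (u⁻¹ * k * u⁻¹⁻¹) • x = x
      rw [inv_inv, mul_smul, mul_smul, ha k hk, inv_smul_smul]
    obtain ⟨s, hs, he⟩ := h u⁻¹ hu
    refine ⟨u * s, Subgroup.mem_normalizer_iff.mpr fun k => ⟨fun hk => ?_, fun hk => ?_⟩, ?_⟩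
    · have h1 : s * k * s⁻¹ ∈ K.map (MulAut.conj u⁻¹).toMonoidHom := he ▸ ⟨k, hk, rfl⟩
      obtain ⟨k', hk', hk''⟩ := h1
      have h2 : u⁻¹ * k' * u⁻¹⁻¹ = s * k * s⁻¹ := hk''
      have : k' = u * s * k * (u * s)⁻¹ := by
        calc k' = u * (u⁻¹ * k' * u⁻¹⁻¹) * u⁻¹ := by group
          _ = _ := by rw [h2]; group
      exact this ▸ hk'
    · have h1 : u⁻¹ * (u * s * k * (u * s)⁻¹) * u⁻¹⁻¹ ∈ K.map (MulAut.conj s).toMonoidHom :=
        he ▸ ⟨_, hk, rfl⟩
      obtain ⟨k', hk', hk''⟩ := h1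
      have h2 : s * k' * s⁻¹ = u⁻¹ * (u * s * k * (u * s)⁻¹) * u⁻¹⁻¹ := hk''
      have : k' = k := by
        calc k' = s⁻¹ * (s * k' * s⁻¹) * s := by group
          _ = _ := by rw [h2]; group
      exact this ▸ hk'
    · rw [mul_smul, hs]

end Cfsg.Agent.S3760
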