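import Cfsg.Statements.S3761
import Cfsg.Agent.Lib.PGroup.CyclicMaximal

set_option autoImplicit false
set_option linter.style.haveILetI false
open Cfsg
open scoped commutatorElement

namespace Cfsg.Agent.S3761

open Subgroup Cfsg.Agent.PGroup

theorem mem_zpowers_of_centralizer {G : Type*} [Group G] {u x : G}
    (hC : Subgroup.centralizer (zpowers u : Set G) = zpowers u) (h : Commute x u) :
    x ∈ zpowers u := by
  rw [← hC, mem_centralizer_iff]
  intro y hy
  obtain ⟨i, rfl⟩ := mem_zpowers_iff.mp hy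
  exact (h.symm.zpow_left i).eq

/-- A criterion for index two. -/
theorem index_two_of_mul_mem {G : Type*} [Group G] {U : Subgroup G} (hne : ∃ a, a ∉ U)
    (h : ∀ x y, x ∉ U → y ∉ U → x * y ∈ U) : U.index = 2 := by
  obtain ⟨a, ha⟩ := hne
  rw [index_eq_two_iff]
  refine ⟨a, fun b => ?_⟩
  by_cases hb : b ∈ U
  · exact Or.inr ⟨hb, fun h' => ha ((mul_mem_cancel_left hb).mp h')⟩
  · exact Or.inl ⟨h b a hb ha, hb⟩

/-- The groups of order `2 ^ (n + 1)` with a self-centralizing cyclic subgroup of index two. -/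
theorem left_of_index_two {G : Type*} [Group G] [Finite G] {n : ℕ} (hn : 2 ≤ n) {u : G}
    (hu : orderOf u = 2 ^ n) (hidx : (zpowers u).index = 2)
    (hC : Subgroup.centralizer (zpowers u : Set G) = zpowers u)
    (hM : n = 2 ∨ ∀ x, Commute x (u ^ 2) → x ∈ zpowers u) :
    Nat.card G = 2 ^ (n + 1) ∧ ((∃ m : ℕ, Nonempty (G ≃* DihedralGroup m)) ∨
      (∃ m : ℕ, Nonempty (G ≃* QuaternionGroup m)) ∨ Cfsg.IsQuasiDihedral G) := by
  have hcard : Nat.card G = 2 ^ (n + 1) := by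
    rw [← card_mul_index (zpowers u), Nat.card_zpowers, hu, hidx, pow_succ]
  refine ⟨hcard, ?_⟩
  haveI := normal_of_index_eq_two hidx
  obtain ⟨b, hb⟩ : ∃ b, b ∉ zpowers u := by
    by_contra hcon
    push Not at hcon
    rw [(eq_top_iff' _).mpr hcon, index_top] at hidx
    omega
  obtain ⟨-, i, h⟩ := two_local hu (Subgroup.Normal.conj_mem inferInstance _ (mem_zpowers u) b)
    (sq_mem_of_index_two hidx b) (fun h => hb (mem_zpowers_of_centralizer hC h))
  have hb0 : b * u ^ i ∉ zpowers u :=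
    fun h' => hb ((mul_mem_cancel_right (zpow_mem (mem_zpowers u) i)).mp h')
  generalize b * u ^ i = c at h hb0
  rcases h with ⟨h2, hc⟩ | ⟨h2, hc⟩ | ⟨hn3, h2, hc⟩ | ⟨hn3, h2, hc⟩
  · left
    haveI : NeZero (2 ^ n) := ⟨by positivity⟩
    obtain ⟨e⟩ := dihedralEquivOfGen hu h2 hc hb0 (by rw [hcard, pow_succ']; )
    exact ⟨_, ⟨e.symm⟩⟩
  · right; left
    haveI : NeZero (2 ^ (n - 1)) := ⟨by positivity⟩
    have e1 : 2 ^ n = 2 * 2 ^ (n - 1) := by rw [← pow_succ']; congr 1; omega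
    obtain ⟨e⟩ := quaternionEquivOfGen (hu.trans e1) h2 hc hb0
      (by rw [hcard, pow_succ', e1]; ring)
    exact ⟨_, ⟨e.symm⟩⟩
  · rcases hM with rfl | hM
    · omega
    · refine absurd (hM c ?_) hb0
      have h3 : c * u ^ 2 * c⁻¹ = u ^ 2 := by
        rw [← conj_pow, hc, ← pow_mul]
        have e1 : (1 + 2 ^ (n - 1)) * 2 = 2 + 2 ^ n := by
          rw [add_mul, one_mul, ← pow_succ]; congr 2; omega
        rw [e1, pow_add, ← hu, pow_orderOf_eq_one, mul_one]
      exact mul_inv_eq_iff_eq_mul.mp h3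
  · right; right
    refine ⟨n, hn3, hcard, u, c, hu, orderOf_eq_prime h2 ?_, hc⟩
    rintro rfl
    exact hb0 (one_mem _)

/-- Let G be a finite non-abelian p-group with a cyclic normal subgroup U of order p^n such that C_G(U) = U. Then either p = 2 and G is dihedral, generalized quaternion or semidihedral of order 2^(n+1); or, writing U₁ for the subgroup generated by the p-th powers of elements of U and M = C_G(U₁), the subgroup U has index p in M and the subgroup Ω₁(M) generated by the elements of M of order dividing p is elementary abelian of order p² and characteristic in G. -/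
theorem result {G : Type*} [Group G] [Finite G] {p : ℕ} [Fact p.Prime] (hG : IsPGroup p G) (hna : ¬ IsMulCommutative G) (U : Subgroup G) [U.Normal] (hU : IsCyclic U) (n : ℕ) (hUn : Nat.card U = p ^ n) (hC : Subgroup.centralizer (U : Set G) = U) : (p = 2 ∧ Nat.card G = 2 ^ (n + 1) ∧ ((∃ m : ℕ, Nonempty (G ≃* DihedralGroup m)) ∨ (∃ m : ℕ, Nonempty (G ≃* QuaternionGroup m)) ∨ Cfsg.IsQuasiDihedral G)) ∨ (U.relIndex (Subgroup.centralizer (Cfsg.powerClosure p 1 U : Set G)) = p ∧ Cfsg.IsElementaryAbelian p (Cfsg.omegaOne p (Subgroup.centralizer (Cfsg.powerClosure p 1 U : Set G))) ∧ Nat.card ↥(Cfsg.omegaOne p (Subgroup.centralizer (Cfsg.powerClosure p 1 U : Set G))) = p ^ 2 ∧ (Cfsg.omegaOne p (Subgroup.centralizer (Cfsg.powerClosure p 1 U : Set G))).Characteristic) := by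
  classical
  haveI hp : p.Prime := Fact.out
  obtain ⟨⟨u, huU⟩, hgen⟩ := hU.exists_generator
  have hUeq : U = zpowers u := le_antisymm (fun x hx => by
      obtain ⟨i, hi⟩ := mem_zpowers_iff.mp (hgen ⟨x, hx⟩)
      exact mem_zpowers_iff.mpr ⟨i, by simpa using congrArg Subtype.val hi⟩)
    (zpowers_le.mpr huU)
  have huo : orderOf u = p ^ n := by rw [← Nat.card_zpowers, ← hUeq, hUn]
  have hCu : Subgroup.centralizer (zpowers u : Set G) = zpowers u := by rw [← hUeq]; exact hC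
  have hnotU : ∃ a, a ∉ U := by
    by_contra hcon
    push Not at hcon
    refine hna ⟨⟨fun a b => ?_⟩⟩
    obtain ⟨i, rfl⟩ := mem_zpowers_iff.mp (hUeq ▸ hcon a)
    obtain ⟨j, rfl⟩ := mem_zpowers_iff.mp (hUeq ▸ hcon b)
    exact ((Commute.refl u).zpow_zpow i j).eq
  have hconjU : ∀ x : G, ∃ r : ℤ, x * u * x⁻¹ = u ^ r := fun x => by
    obtain ⟨r, hr⟩ := mem_zpowers_iff.mp (hUeq ▸ Subgroup.Normal.conj_mem (H := U) inferInstance u huU x)
    exact ⟨r, hr.symm⟩
  have hzp : ∀ {i j : ℤ}, u ^ i = u ^ j ↔ ((p : ℤ) ^ n) ∣ i - j := by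
    intro i j; rw [zpow_eq_zpow_iff_dvd huo]; simp
  have hp0 : (p : ℤ) ≠ 0 := by exact_mod_cast hp.ne_zero
  have hn2 : 2 ≤ n := by
    by_contra hcon
    obtain ⟨a, ha⟩ := hnotU
    obtain ⟨r, hr⟩ := hconjU a
    obtain ⟨k, hk⟩ := hG a
    have hd := dvd_pow_sub_one huo hr (n := p ^ k) (by rw [hk]; exact Commute.one_left u)
    refine ha (hUeq ▸ mem_zpowers_of_centralizer hCu (mul_inv_eq_iff_eq_mul.mp ?_))
    rw [hr]
    nth_rewrite 2 [← zpow_one u]
    rw [hzp]
    interval_cases n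
    · simp
    · rw [pow_one]
      rw [pow_one, ← ZMod.intCast_zmod_eq_zero_iff_dvd] at hd
      rw [← ZMod.intCast_zmod_eq_zero_iff_dvd]
      simpa [ZMod.pow_card_pow] using hd
  obtain ⟨m, rfl⟩ : ∃ m, n = m + 2 := ⟨n - 2, by omega⟩
  have hPC : Cfsg.powerClosure p 1 U = zpowers (u ^ p) := by
    refine le_antisymm ((closure_le _).mpr ?_) ?_
    · rintro y ⟨x, hx, rfl⟩
      obtain ⟨i, rfl⟩ := mem_zpowers_iff.mp (hUeq ▸ hx)
      rw [pow_one, SetLike.mem_coe, ← zpow_natCast (u ^ i) p, zpow_comm, zpow_natCast]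
      exact zpow_mem (mem_zpowers _) i
    · exact zpowers_le.mpr (subset_closure ⟨u, huU, by rw [pow_one]⟩)
  rw [hPC]
  set M := Subgroup.centralizer (zpowers (u ^ p) : Set G) with hMdef
  have hMmem : ∀ x, x ∈ M ↔ Commute x (u ^ p) := fun x => by
    rw [hMdef, mem_centralizer_iff]
    refine ⟨fun h => (h _ (mem_zpowers _)).symm, fun h y hy => ?_⟩
    obtain ⟨i, rfl⟩ := mem_zpowers_iff.mp hy
    exact (h.symm.zpow_left i).eq
  have hMr : ∀ {x : G} {r : ℤ}, x * u * x⁻¹ = u ^ r →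
      (x ∈ M ↔ (p : ℤ) ^ (m + 1) ∣ r - 1) := by
    intro x r hr
    have h1 : x * u ^ (p : ℤ) * x⁻¹ = u ^ (p : ℤ) ↔ (p : ℤ) ^ (m + 1) ∣ r - 1 := by
      rw [conj_zpow_of_conj_eq hr, hzp, pow_succ' (p : ℤ) (m + 1),
        show r * (p : ℤ) - p = p * (r - 1) by ring]
      exact mul_dvd_mul_iff_left hp0
    rw [hMmem, ← h1, zpow_natCast, mul_inv_eq_iff_eq_mul]
    rfl
  have hUM : U ≤ M := fun x hx => by
    obtain ⟨i, rfl⟩ := mem_zpowers_iff.mp (hUeq ▸ hx)
    exact (hMmem _).mpr (((Commute.refl u).zpow_left i).pow_right p)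
  by_cases hA : p = 2 ∧ m = 0
  · -- `U` has order four
    obtain ⟨rfl, rfl⟩ := hA
    have hinv : ∀ x, x ∉ U → x * u * x⁻¹ = u⁻¹ := by
      intro x hx
      obtain ⟨r, hr⟩ := hconjU x
      have ho : orderOf (u ^ r) = 4 := by
        rw [← hr, show x * u * x⁻¹ = MulAut.conj x u from rfl, MulEquiv.orderOf_eq, huo]; norm_num
      rw [hr, ← zpow_neg_one, hzp]
      rcases Int.even_or_odd r with ⟨k, rfl⟩ | ⟨k, rfl⟩
      · exfalso
        have h2 : (u ^ (k + k)) ^ 2 = 1 := by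
          rw [← zpow_natCast, ← zpow_mul, ← orderOf_dvd_iff_zpow_eq_one, huo]
          exact ⟨k, by push_cast; ring⟩
        have := orderOf_dvd_of_pow_eq_one h2
        rw [ho] at this; norm_num at this
      · rcases Int.even_or_odd k with ⟨l, rfl⟩ | ⟨l, rfl⟩
        · refine absurd (hUeq ▸ mem_zpowers_of_centralizer hCu (mul_inv_eq_iff_eq_mul.mp ?_)) hx
          rw [hr]
          nth_rewrite 2 [← zpow_one u]
          rw [hzp]
          exact ⟨l, by push_cast; ring⟩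
        · exact ⟨l + 1, by push_cast; ring⟩
    have hidx : (zpowers u).index = 2 := by
      rw [← hUeq]
      refine index_two_of_mul_mem hnotU (fun x y hx hy => hUeq ▸
        mem_zpowers_of_centralizer hCu (mul_inv_eq_iff_eq_mul.mp ?_))
      rw [show x * y * u * (x * y)⁻¹ = x * (y * u * y⁻¹) * x⁻¹ by group, hinv y hy, ← conj_inv,
        hinv x hx, inv_inv]
    exact Or.inl ⟨rfl, left_of_index_two hn2 huo hidx hCu (Or.inl rfl)⟩
  by_cases hMU : M ≤ U
  · -- `G / U` acts faithfully on `℧₁(U)`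
    have hp2 : p = 2 := by
      by_contra hp2
      obtain ⟨a, ha⟩ := hnotU
      have main : ∀ (k : ℕ) (y : G), y ^ (p ^ k) ∈ U → y ∈ U := by
        intro k
        induction k with
        | zero => simp
        | succ k ih =>
          intro y hy
          rw [pow_succ', pow_mul] at hy
          have hyp := ih _ hy
          obtain ⟨r, hr⟩ := hconjU y
          obtain ⟨j, hj⟩ := mem_zpowers_iff.mp (hUeq ▸ hyp)
          have hd := dvd_pow_sub_one huo hr (n := p) (hj ▸ (Commute.refl u).zpow_left j)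
          refine hMU ((hMr hr).mpr ?_)
          simpa using (int_dvd_sub_one_of_pow hp hp2 hd (by omega)).2
      obtain ⟨k, hk⟩ := hG a
      exact ha (main k a (by rw [hk]; exact one_mem _))
    subst hp2
    have hm : 1 ≤ m := by
      by_contra hcon
      exact hA ⟨rfl, by omega⟩
    have hP : ∀ x, x ∉ U → x ^ 2 ∈ U →
        ∃ r : ℤ, x * u * x⁻¹ = u ^ r ∧ (2 : ℤ) ^ (m + 1) ∣ r + 1 := by
      intro x hx hx2
      obtain ⟨r, hr⟩ := hconjU x
      obtain ⟨j, hj⟩ := mem_zpowers_iff.mp (hUeq ▸ hx2)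
      have hd := dvd_pow_sub_one huo hr (n := 2) (hj ▸ (Commute.refl u).zpow_left j)
      push_cast at hd
      exact ⟨r, hr, (two_dvd_sub_one_or_add_one hd).resolve_left
        (fun h => hx (hMU ((hMr hr).mpr (by exact_mod_cast h))))⟩
    have hsq : ∀ (k : ℕ) (y : G), y ^ (2 ^ k) ∈ U → y ^ 2 ∈ U := by
      intro k
      induction k with
      | zero => intro y hy; exact pow_mem (by simpa using hy) 2
      | succ k ih =>
        intro y hy
        rw [pow_succ', pow_mul] at hy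
        have h4 := ih _ hy
        by_contra hx
        obtain ⟨r, hr, hr1⟩ := hP _ hx h4
        obtain ⟨s, hs⟩ := hconjU y
        have hrs : u ^ (s ^ 2) = u ^ r := by rw [← hr, ← conj_pow_of_conj_eq hs]
        rw [hzp] at hrs
        push_cast at hrs
        have h4d : (2 : ℤ) ^ 2 ∣ s ^ 2 + 1 := by
          have h5 : (2 : ℤ) ^ 2 ∣ (2 : ℤ) ^ (m + 1) := pow_dvd_pow 2 (by omega)
          have h6 : (2 : ℤ) ^ 2 ∣ (2 : ℤ) ^ (m + 2) := pow_dvd_pow 2 (by omega)
          have := dvd_add (h6.trans hrs) (h5.trans hr1)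
          rwa [show s ^ 2 - r + (r + 1) = s ^ 2 + 1 by ring] at this
        obtain ⟨q, hq⟩ := h4d
        rcases Int.even_or_odd s with ⟨t, rfl⟩ | ⟨t, rfl⟩
        · ring_nf at hq; omega
        · ring_nf at hq; omega
    have hall : ∀ y : G, y ^ 2 ∈ U := fun y => by
      obtain ⟨k, hk⟩ := hG y
      exact hsq k y (by rw [hk]; exact one_mem _)
    have hidx : (zpowers u).index = 2 := by
      rw [← hUeq]
      refine index_two_of_mul_mem hnotU (fun x y hx hy => hMU ?_)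
      obtain ⟨r, hr, hr1⟩ := hP x hx (hall x)
      obtain ⟨s, hs, hs1⟩ := hP y hy (hall y)
      have hxy : x * y * u * (x * y)⁻¹ = u ^ (r * s) := by
        rw [← conj_zpow_of_conj_eq hr, ← hs]; group
      refine (hMr hxy).mpr ?_
      have := dvd_sub (hr1.mul_right s) hs1
      rw [show (r + 1) * s - (s + 1) = r * s - 1 by ring] at this
      exact_mod_cast this
    exact Or.inl ⟨rfl, left_of_index_two hn2 huo hidx hCu
      (Or.inr (fun x hx => hUeq ▸ hMU ((hMmem x).mpr hx)))⟩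
  -- the generic case
  right
  have hpm : p ≠ 2 ∨ 1 ≤ m := by
    rcases Nat.eq_zero_or_pos m with h | h
    · exact Or.inl (fun h' => hA ⟨h', h⟩)
    · exact Or.inr h
  obtain ⟨b, hbM, hbU⟩ := SetLike.not_le_iff_exists.mp hMU
  set z : G := u ^ (p ^ (m + 1)) with hz
  have hzo : orderOf z = p := by
    rw [hz, orderOf_pow' _ (pow_ne_zero _ hp.ne_zero), huo,
      Nat.gcd_eq_right (pow_dvd_pow p (by omega)), Nat.pow_div (by omega) hp.pos]
    simp
  have hzmem : ∀ i : ℤ, u ^ i ∈ zpowers z ↔ (p : ℤ) ^ (m + 1) ∣ i := by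
    intro i
    rw [mem_zpowers_iff]
    constructor
    · rintro ⟨k, hk⟩
      rw [hz, ← zpow_natCast, ← zpow_mul, hzp] at hk
      push_cast at hk
      have h1 : (p : ℤ) ^ (m + 1) ∣ (p : ℤ) ^ (m + 1) * k - i :=
        (pow_dvd_pow _ (by omega)).trans hk
      exact (dvd_sub_right (dvd_mul_right _ k)).mp h1
    · rintro ⟨k, rfl⟩
      exact ⟨k, by rw [hz, ← zpow_natCast, ← zpow_mul]; push_cast; rfl⟩
  have hzU : z ∈ U := pow_mem huU _
  have hzc : ∀ {x : G}, x ∈ M → ∀ {d : G}, d ∈ zpowers z → Commute x d := by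
    intro x hx d hd
    obtain ⟨k, rfl⟩ := mem_zpowers_iff.mp hd
    rw [hz, pow_succ', pow_mul]
    exact (((hMmem x).mp hx).pow_right _).zpow_right k
  have hzpow : ∀ {d : G}, d ∈ zpowers z → d ^ p = 1 := by
    intro d hd
    obtain ⟨k, rfl⟩ := mem_zpowers_iff.mp hd
    rw [← zpow_natCast, ← zpow_mul, ← orderOf_dvd_iff_zpow_eq_one, hzo]
    exact dvd_mul_left _ _
  have hcomm : ∀ {y x : G}, y ∈ M → x ∈ U → ⁅y, x⁆ ∈ zpowers z := by
    intro y x hy hx
    obtain ⟨i, rfl⟩ := mem_zpowers_iff.mp (hUeq ▸ hx)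
    obtain ⟨r, hr⟩ := hconjU y
    rw [commutatorElement_def, conj_zpow_of_conj_eq hr, ← zpow_sub, hzmem,
      show r * i - i = (r - 1) * i by ring]
    exact ((hMr hr).mp hy).mul_right i
  have hpow : ∀ {x y : G}, x ∈ U → y ∈ M →
      (x * y) ^ p = ⁅y, x⁆ ^ (p.choose 2) * x ^ p * y ^ p := fun {x y} hx hy =>
    mul_pow_eq (hzc (hUM hx) (hcomm hy hx)) (hzc hy (hcomm hy hx)) p
  have hchoose : ∀ {d : G}, d ∈ zpowers z → p ≠ 2 → d ^ (p.choose 2) = 1 := by
    intro d hd hp2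
    obtain ⟨k, hk⟩ := hp.dvd_choose_self (k := 2) (by norm_num)
      (lt_of_le_of_ne hp.two_le (Ne.symm hp2))
    rw [hk, pow_mul, hzpow hd, one_pow]
  -- the homomorphism `x ↦ ⁅x, u⁆` of `M` onto `⟨z⟩`
  let φ : ↥M →* ↥(zpowers z) := MonoidHom.mk' (fun x => ⟨⁅(x : G), u⁆, hcomm x.2 huU⟩) (by
    rintro ⟨x, hx⟩ ⟨y, hy⟩
    refine Subtype.ext ?_
    show ⁅x * y, u⁆ = ⁅x, u⁆ * ⁅y, u⁆
    rw [commutator_mul_left (hzc hx (hcomm hy huU))]
    exact (hzc (hUM (zpowers_le.mpr hzU (hcomm hy huU))) (hcomm hx huU)).eq)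
  have hker : φ.ker = U.subgroupOf M := by
    ext ⟨x, hx⟩
    simp only [MonoidHom.mem_ker, mem_subgroupOf]
    show (⟨⁅x, u⁆, _⟩ : ↥(zpowers z)) = 1 ↔ x ∈ U
    rw [Subtype.ext_iff, OneMemClass.coe_one, commutatorElement_eq_one_iff_mul_comm]
    constructor
    · exact fun h => hUeq ▸ mem_zpowers_of_centralizer hCu h
    · intro h
      obtain ⟨i, rfl⟩ := mem_zpowers_iff.mp (hUeq ▸ h)
      exact ((Commute.refl u).zpow_left i).eq
  have hφb : φ ⟨b, hbM⟩ ≠ 1 := fun h => hbU (by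
    have : (⟨b, hbM⟩ : ↥M) ∈ φ.ker := h
    rwa [hker, mem_subgroupOf] at this)
  have hzcard : Nat.card ↥(zpowers z) = p := by rw [Nat.card_zpowers, hzo]
  have hrel : U.relIndex M = p := by
    rw [relIndex, ← hker, index_ker]
    haveI : Fact (Nat.card ↥(zpowers z)).Prime := ⟨hzcard.symm ▸ hp⟩
    rcases φ.range.eq_bot_or_eq_top_of_prime_card with h | h
    · exact absurd ((mem_bot).mp (h ▸ (⟨⟨b, hbM⟩, rfl⟩ : φ ⟨b, hbM⟩ ∈ φ.range))) hφb
    · rw [h, card_top, hzcard]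
  -- `b ^ p ∈ ⟨u ^ p⟩`
  obtain ⟨j, hj⟩ : ∃ j : ℤ, (u ^ p) ^ j = b ^ p := by
    have hc := hcomm hbM huU
    have hbpU : b ^ p ∈ U := by
      rw [hUeq]
      refine mem_zpowers_of_centralizer hCu (commutatorElement_eq_one_iff_mul_comm.mp ?_)
      rw [commutator_pow_left (hzc hbM hc), hzpow hc]
    obtain ⟨i, hi⟩ := mem_zpowers_iff.mp (hUeq ▸ hbpU)
    obtain ⟨r, hr⟩ := hconjU b
    have h1 : b * u ^ i * b⁻¹ = u ^ i := by rw [hi]; group
    rw [conj_zpow_of_conj_eq hr, hzp, show r * i - i = (r - 1) * i by ring] at h1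
    by_cases hpi : (p : ℤ) ∣ i
    · obtain ⟨j, rfl⟩ := hpi
      exact ⟨j, by rw [← hi, ← zpow_natCast, ← zpow_mul]⟩
    · exfalso
      apply hbU
      have hco : IsCoprime ((p : ℤ) ^ (m + 2)) i :=
        ((Nat.prime_iff_prime_int.mp hp).coprime_iff_not_dvd.mpr hpi).pow_left
      have h2 := hco.dvd_of_dvd_mul_right h1
      rw [hUeq]
      refine mem_zpowers_of_centralizer hCu (mul_inv_eq_iff_eq_mul.mp ?_)
      rw [hr]
      nth_rewrite 2 [← zpow_one u]
      rw [hzp]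
      exact h2
  obtain ⟨b0, hb0M, hb0U, hb0p⟩ : ∃ b0, b0 ∈ M ∧ b0 ∉ U ∧ b0 ^ p = 1 := by
    have ht : u ^ (-j) ∈ U := zpow_mem huU _
    have hd := hcomm hbM ht
    have h1 : (u ^ (-j) * b) ^ p = ⁅b, u ^ (-j)⁆ ^ (p.choose 2) := by
      rw [hpow ht hbM, ← hj, mul_assoc, ← zpow_natCast (u ^ (-j)) p, ← zpow_natCast u p,
        ← zpow_mul, ← zpow_mul, ← zpow_add, show -j * (p : ℤ) + p * j = 0 by ring, zpow_zero,
        mul_one]
    have hb1 : u ^ (-j) * b ∈ M := mul_mem (hUM ht) hbM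
    have hb2 : u ^ (-j) * b ∉ U := fun h => hbU ((mul_mem_cancel_left ht).mp h)
    rcases hpm with hp2 | hm
    · exact ⟨_, hb1, hb2, by rw [h1, hchoose hd hp2]⟩
    · obtain ⟨k, hk⟩ := mem_zpowers_iff.mp (pow_mem hd (p.choose 2))
      obtain ⟨l, rfl⟩ : ∃ l, m = l + 1 := ⟨m - 1, by omega⟩
      have hs : ((u ^ p) ^ (p ^ l)) ^ (-k) ∈ U := zpow_mem (pow_mem (pow_mem huU _) _) _
      refine ⟨((u ^ p) ^ (p ^ l)) ^ (-k) * (u ^ (-j) * b), mul_mem (hUM hs) hb1,
        fun h => hb2 ((mul_mem_cancel_left hs).mp h), ?_⟩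
      have hc : Commute (((u ^ p) ^ (p ^ l)) ^ (-k)) (u ^ (-j) * b) :=
        ((((hMmem _).mp hb1).pow_right _).zpow_right _).symm
      rw [hc.mul_pow, h1, ← hk]
      have e : (((u ^ p) ^ (p ^ l)) ^ (-k)) ^ p = z ^ (-k) := by
        rw [← zpow_natCast (((u ^ p) ^ (p ^ l)) ^ (-k)) p, zpow_comm, zpow_natCast, hz, ← pow_mul,
          ← pow_mul]
        congr 2
        ring
      rw [e, ← zpow_add, neg_add_cancel, zpow_zero]
  have hb0z : Commute b0 z := hzc hb0M (mem_zpowers z)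
  have hK : ∀ {x y : G}, x ∈ U → y ∈ M → (x * y) ^ p = 1 → y ^ p = 1 → x ∈ zpowers z := by
    intro x y hx hy hxy hyp
    rw [hpow hx hy, hyp, mul_one] at hxy
    obtain ⟨i, rfl⟩ := mem_zpowers_iff.mp (hUeq ▸ hx)
    have hfin : (u ^ i) ^ p = 1 → u ^ i ∈ zpowers z := by
      intro h
      rw [← zpow_natCast, ← zpow_mul, ← zpow_zero u, hzp, sub_zero] at h
      rw [hzmem]
      rw [pow_succ, mul_comm i] at h
      rw [mul_comm _ (p : ℤ)] at h
      exact (mul_dvd_mul_iff_left hp0).mp h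
    rcases hpm with hp2 | hm
    · rw [hchoose (hcomm hy hx) hp2, one_mul] at hxy
      exact hfin hxy
    · have h1 : (u ^ i) ^ p ∈ zpowers z := by
        rw [eq_inv_of_mul_eq_one_right hxy]
        exact inv_mem (pow_mem (hcomm hy hx) _)
      rw [← zpow_natCast, ← zpow_mul, hzmem, pow_succ] at h1
      have hpi : (p : ℤ) ∣ i :=
        (dvd_pow_self (p : ℤ) (by omega : m ≠ 0)).trans ((mul_dvd_mul_iff_right hp0).mp h1)
      obtain ⟨k, hk⟩ := hpi
      have hc : Commute y (u ^ i) := by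
        rw [hk, zpow_mul, zpow_natCast]
        exact ((hMmem y).mp hy).zpow_right k
      rw [commutatorElement_eq_one_iff_mul_comm.mpr hc, one_pow, one_mul] at hxy
      exact hfin hxy
  set W : Subgroup G := zpowers z ⊔ zpowers b0 with hW
  have hcom : ∀ (a : ↥(zpowers z)) (c : ↥(zpowers b0)),
      Commute ((zpowers z).subtype a) ((zpowers b0).subtype c) := by
    rintro ⟨a, ha⟩ ⟨c, hc⟩
    obtain ⟨k, rfl⟩ := mem_zpowers_iff.mp hc
    exact ((hzc hb0M ha).zpow_left k).symm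
  let ψ : ↥(zpowers z) × ↥(zpowers b0) →* G :=
    (zpowers z).subtype.noncommCoprod (zpowers b0).subtype hcom
  have hψr : ψ.range = W := by
    rw [hW]
    show (MonoidHom.noncommCoprod _ _ hcom).range = _
    rw [MonoidHom.noncommCoprod_range, range_subtype, range_subtype]
  have hWmem : ∀ w ∈ W, ∃ i k : ℤ, w = z ^ i * b0 ^ k := by
    intro w hw
    rw [← hψr] at hw
    obtain ⟨⟨⟨a, ha⟩, ⟨c, hc⟩⟩, rfl⟩ := hw
    obtain ⟨i, rfl⟩ := mem_zpowers_iff.mp ha
    obtain ⟨k, rfl⟩ := mem_zpowers_iff.mp hc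
    exact ⟨i, k, rfl⟩
  have hWp : ∀ w ∈ W, w ^ p = 1 := by
    intro w hw
    obtain ⟨i, k, rfl⟩ := hWmem w hw
    rw [(hb0z.symm.zpow_zpow i k).mul_pow, hzpow (zpow_mem (mem_zpowers z) i), one_mul,
      ← zpow_natCast, zpow_comm, zpow_natCast, hb0p, one_zpow]
  have hin : ∀ w, w ∈ M → w ^ p = 1 → w ∈ W := by
    intro w hw hwp
    have hb0φ : φ ⟨b0, hb0M⟩ ≠ 1 := fun h => hb0U (by
      have : (⟨b0, hb0M⟩ : ↥M) ∈ φ.ker := h
      rwa [hker, mem_subgroupOf] at this)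
    obtain ⟨k, hk⟩ := mem_zpowers_iff.mp
      (mem_zpowers_of_prime_card (g' := φ ⟨w, hw⟩) hzcard hb0φ)
    have hx : w * (b0 ^ k)⁻¹ ∈ U := by
      have : (⟨w, hw⟩ : ↥M) * ((⟨b0, hb0M⟩ : ↥M) ^ k)⁻¹ ∈ φ.ker := by
        rw [MonoidHom.mem_ker, map_mul, map_inv, map_zpow, hk, mul_inv_cancel]
      rw [hker, mem_subgroupOf] at this
      simpa using this
    have hbk : (b0 ^ k) ^ p = 1 := by
      rw [← zpow_natCast, zpow_comm, zpow_natCast, hb0p, one_zpow]
    have := hK hx (zpow_mem hb0M k) (by rw [inv_mul_cancel_right]; exact hwp) hbk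
    rw [← inv_mul_cancel_right w (b0 ^ k)]
    exact mul_mem (mem_sup_left this) (mem_sup_right (zpow_mem (mem_zpowers _) k))
  have hOm : Cfsg.omegaOne p M = W := by
    refine le_antisymm ((closure_le _).mpr fun w hw => hin w hw.1 hw.2) ?_
    refine sup_le (zpowers_le.mpr ?_) (zpowers_le.mpr ?_)
    · exact subset_closure ⟨hUM hzU, hzpow (mem_zpowers z)⟩
    · exact subset_closure ⟨hb0M, hb0p⟩
  refine ⟨hrel, ?_, ?_, ?_⟩
  · rw [hOm]
    refine ⟨⟨⟨?_⟩⟩, hWp⟩
    rintro ⟨v, hv⟩ ⟨w, hw⟩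
    obtain ⟨i, k, rfl⟩ := hWmem v hv
    obtain ⟨i', k', rfl⟩ := hWmem w hw
    refine Subtype.ext ?_
    exact (((((Commute.refl z).zpow_zpow i i').mul_right (hb0z.symm.zpow_zpow i k'))).mul_left
      ((hb0z.zpow_zpow k i').mul_right ((Commute.refl b0).zpow_zpow k k'))).eq
  · have hinj : Function.Injective ψ := by
      refine (MonoidHom.noncommCoprod_injective (zpowers z).subtype _ hcom).mpr
        ⟨subtype_injective _, subtype_injective _, ?_⟩
      rw [range_subtype, range_subtype, disjoint_def]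
      intro x hx hx'
      obtain ⟨k, rfl⟩ := mem_zpowers_iff.mp hx'
      by_contra hne
      have ho : orderOf b0 = p := orderOf_eq_prime hb0p (fun h => hb0U (h ▸ one_mem _))
      have hc' : Nat.card ↥(zpowers b0) = p := by rw [Nat.card_zpowers, ho]
      have := mem_zpowers_of_prime_card (g := (⟨b0 ^ k, zpow_mem (mem_zpowers b0) k⟩ : zpowers b0))
        (g' := ⟨b0, mem_zpowers b0⟩) hc' (fun h => hne (congrArg Subtype.val h))
      obtain ⟨l, hl⟩ := mem_zpowers_iff.mp this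
      apply hb0U
      rw [show b0 = (b0 ^ k) ^ l from (congrArg Subtype.val hl).symm.trans (by simp)]
      exact zpow_mem (zpowers_le.mpr hzU hx) l
    rw [hOm, ← hψr, ← Nat.card_congr (MonoidHom.ofInjective hinj).toEquiv, Nat.card_prod,
      hzcard, Nat.card_zpowers,
      orderOf_eq_prime hb0p (fun h => hb0U (h ▸ one_mem _)), sq]
  · rw [hOm]
    have hnorm : W.Normal := by
      refine ⟨fun w hw g => hin _ ?_ ?_⟩
      · have hwM : w ∈ M := by
          obtain ⟨i, k, rfl⟩ := hWmem w hw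
          exact mul_mem (zpow_mem (hUM hzU) i) (zpow_mem hb0M k)
        obtain ⟨r, hr⟩ := hconjU g⁻¹
        rw [hMmem]
        have h1 : Commute w (g⁻¹ * u ^ (p : ℤ) * g⁻¹⁻¹) := by
          rw [conj_zpow_of_conj_eq hr, mul_comm r, zpow_mul, zpow_natCast]
          exact ((hMmem w).mp hwM).zpow_right r
        have h2 := h1.map (MulAut.conj g).toMonoidHom
        simpa [MulAut.conj_apply, mul_assoc] using h2
      · rw [conj_pow, hWp w hw, mul_one, mul_inv_cancel]
    rw [characteristic_iff_map_le]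
    intro e x hx
    haveI hVn : (W.map e.toMonoidHom).Normal := hnorm.map _ e.surjective
    have hVp : ∀ v ∈ W.map e.toMonoidHom, v ^ p = 1 := by
      rintro v ⟨w, hw, rfl⟩
      rw [← map_pow, hWp w hw, map_one]
    refine hin x ?_ (hVp x hx)
    have hcV : ⁅x, u⁆ ∈ W.map e.toMonoidHom := by
      rw [commutatorElement_def, show x * u * x⁻¹ * u⁻¹ = x * (u * x⁻¹ * u⁻¹) by group]
      exact mul_mem hx (hVn.conj_mem _ (inv_mem hx) u)
    obtain ⟨r, hr⟩ := hconjU x
    have hc1 := hVp _ hcV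
    rw [commutatorElement_def, hr, ← zpow_sub_one, ← zpow_natCast, ← zpow_mul, ← zpow_zero u,
      hzp, sub_zero, pow_succ] at hc1
    exact (hMr hr).mpr ((mul_dvd_mul_iff_right hp0).mp hc1)


end Cfsg.Agent.S3761
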