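import Cfsg.Statements.S3762
import Cfsg.Agent.Lib.PGroup.Critical
import Cfsg.Agent.Lib.Extraspecial.Basic
import Cfsg.Agent.S0110
import Cfsg.Agent.S3761

set_option autoImplicit false
set_option linter.style.haveILetI false
open Cfsg
open scoped commutatorElement

namespace Cfsg.Agent.S3762

open Subgroup

theorem mem_zpowers_of_pow_eq_one {X : Type*} [Group X] [Finite X] [IsCyclic X] {p : ℕ}
    (hp : 0 < p) {x y : X} (hx : orderOf x = p) (hy : y ^ p = 1) : y ∈ zpowers x := by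
  classical
  have := Fintype.ofFinite X
  have hsub : Finset.univ.filter (fun a => a ∈ zpowers x) ⊆
      Finset.univ.filter (fun a : X => a ^ p = 1) := by
    intro a ha
    obtain ⟨i, rfl⟩ := mem_zpowers_iff.mp (Finset.mem_filter.mp ha).2
    refine Finset.mem_filter.mpr ⟨Finset.mem_univ _, ?_⟩
    rw [← zpow_natCast, zpow_comm, zpow_natCast, ← hx, pow_orderOf_eq_one, one_zpow]
  have hcard : (Finset.univ.filter (fun a : X => a ^ p = 1)).card ≤
      (Finset.univ.filter (fun a => a ∈ zpowers x)).card := by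
    refine (IsCyclic.card_pow_eq_one_le hp).trans (le_of_eq ?_)
    rw [← Fintype.card_subtype, ← Nat.card_eq_fintype_card]
    exact hx.symm.trans (Nat.card_zpowers x).symm
  have : y ∈ Finset.univ.filter (fun a => a ∈ zpowers x) := by
    rw [Finset.eq_of_subset_of_card_le hsub hcard]; simp [hy]
  exact (Finset.mem_filter.mp this).2

/-- A `p`-th-power bounded normal subgroup splits over a central part. -/
theorem exists_complement {G : Type*} [Group G] [Finite G] {p : ℕ} [hp : Fact p.Prime]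
    (Z B Z₁ : Subgroup G) (hB : Z₁ ≤ B) (hpow : ∀ b ∈ B, b ^ p ∈ Z₁)
    (hcomm : ∀ g : G, ∀ b ∈ B, ⁅g, b⁆ ∈ Z₁) :
    ∃ E : Subgroup G, Z₁ ≤ E ∧ E ≤ B ∧ E ⊓ Z ≤ Z₁ ∧
      ∀ b ∈ B, ∃ e ∈ E, ∃ z ∈ Z, z ∈ B ∧ b = e * z := by
  obtain ⟨E, -, hmax⟩ := Finite.exists_le_maximal (α := Subgroup G)
    (p := fun E => Z₁ ≤ E ∧ E ≤ B ∧ E ⊓ Z ≤ Z₁) (a := Z₁) ⟨le_rfl, hB, inf_le_left⟩
  obtain ⟨h1, h2, h3⟩ := hmax.prop
  haveI hn : E.Normal := ⟨fun e he g => by
    have h := E.mul_mem (h1 (hcomm g e (h2 he))) he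
    simpa [commutatorElement_def] using h⟩
  refine ⟨E, h1, h2, h3, fun x hx => ?_⟩
  suffices hsup : x ∈ E ⊔ (Z ⊓ B) by
    obtain ⟨e, he, z, hz, rfl⟩ := mem_sup_of_normal_left.mp hsup
    exact ⟨e, he, z, hz.1, hz.2, rfl⟩
  by_contra hxS
  have hlt : ¬ (E ⊔ zpowers x) ⊓ Z ≤ Z₁ := by
    intro h
    have hle := hmax.2 ⟨h1.trans le_sup_left, sup_le h2 (zpowers_le.mpr hx), h⟩ le_sup_left
    exact hxS (mem_sup_left (hle (mem_sup_right (mem_zpowers x))))
  obtain ⟨y, ⟨hyK, hyZ⟩, hy1⟩ := SetLike.not_le_iff_exists.mp hlt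
  obtain ⟨e, he, w, hw, rfl⟩ := mem_sup_of_normal_left.mp hyK
  obtain ⟨i, rfl⟩ := mem_zpowers_iff.mp hw
  by_cases hpi : (p : ℤ) ∣ i
  · obtain ⟨j, rfl⟩ := hpi
    rw [zpow_mul, zpow_natCast] at hyZ hy1
    exact hy1 (h3 ⟨E.mul_mem he (E.zpow_mem (h1 (hpow x hx)) j), hyZ⟩)
  · apply hxS
    obtain ⟨a, b, hab⟩ : IsCoprime (p : ℤ) i :=
      (Nat.prime_iff_prime_int.mp hp.out).coprime_iff_not_dvd.mpr hpi
    rw [← zpow_one x, ← hab, zpow_add, mul_comm a, mul_comm b, zpow_mul, zpow_mul, zpow_natCast]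
    refine mul_mem (zpow_mem (mem_sup_left (h1 (hpow x hx))) a) (zpow_mem ?_ b)
    rw [← inv_mul_cancel_left e (x ^ i)]
    exact mul_mem (mem_sup_left (E.inv_mem he))
      (mem_sup_right ⟨hyZ, mul_mem (h2 he) (zpow_mem hx i)⟩)

/-- Let G be a finite p-group of symplectic type: every characteristic abelian subgroup of G is cyclic. Then G = E ∗ R is a central product of subgroups E and R (they commute elementwise and generate G) where E is extraspecial or trivial, and R is cyclic, or p = 2 and R is dihedral, semidihedral or generalized quaternion of order at least 16. -/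
theorem result {G : Type*} [Group G] [Finite G] {p : ℕ} [Fact p.Prime] (hG : IsPGroup p G) (hsymp : ∀ A : Subgroup G, A.Characteristic → IsMulCommutative A → IsCyclic A) : ∃ E R : Subgroup G, (∀ e ∈ E, ∀ r ∈ R, e * r = r * e) ∧ E ⊔ R = ⊤ ∧ (E = ⊥ ∨ Cfsg.IsExtraspecial p ↥E) ∧ (IsCyclic R ∨ (p = 2 ∧ 16 ≤ Nat.card R ∧ ((∃ m : ℕ, Nonempty (↥R ≃* DihedralGroup m)) ∨ (∃ m : ℕ, Nonempty (↥R ≃* QuaternionGroup m)) ∨ Cfsg.IsQuasiDihedral ↥R))) := by
  classical
  have hp : p.Prime := Fact.out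
  obtain ⟨H, hH⟩ := PGroup.exists_critical hG
  haveI := hH.char
  set Z := centralizer (H : Set G) with hZdef
  have hZH : Z ≤ H := hH.self_centralizing
  have hcz : ∀ z ∈ Z, ∀ h ∈ H, Commute h z := fun z hz h hh =>
    mem_centralizer_iff.mp hz h hh
  have hZab : IsMulCommutative Z := ⟨⟨fun a b => Subtype.ext (hcz b b.2 a (hZH a.2))⟩⟩
  have hZcyc : IsCyclic Z := hsymp Z inferInstance hZab
  obtain ⟨⟨ζ, hζZ⟩, hgen⟩ := hZcyc.exists_generator
  have hZeq : ∀ z ∈ Z, ∃ i : ℤ, ζ ^ i = z := fun z hz => by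
    obtain ⟨i, hi⟩ := mem_zpowers_iff.mp (hgen ⟨z, hz⟩)
    exact ⟨i, by simpa using congrArg Subtype.val hi⟩
  obtain ⟨k, hk⟩ := IsPGroup.iff_orderOf.mp hG ζ
  by_cases hk0 : k = 0
  · subst hk0
    rw [pow_zero, orderOf_eq_one_iff] at hk
    have hZbot : Z = ⊥ := (eq_bot_iff_forall _).mpr fun z hz => by
      obtain ⟨i, rfl⟩ := hZeq z hz
      rw [hk, one_zpow]
    haveI : Subsingleton G := by
      by_contra hns
      haveI := not_subsingleton_iff_nontrivial.mp hns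
      haveI := hG.center_nontrivial
      obtain ⟨⟨c, hc⟩, hc1⟩ := exists_ne (1 : center G)
      refine hc1 (Subtype.ext ?_)
      have : c ∈ Z := mem_centralizer_iff.mpr fun h _ => mem_center_iff.mp hc h
      rwa [hZbot, mem_bot] at this
    refine ⟨⊥, ⊤, fun e _ r _ => Subsingleton.elim _ _, bot_sup_eq _, Or.inl rfl,
      Or.inl inferInstance⟩
  obtain ⟨k, rfl⟩ : ∃ j, k = j + 1 := ⟨k - 1, by omega⟩
  have hzp : ∀ {i j : ℤ}, ζ ^ i = ζ ^ j ↔ ((p : ℤ) ^ (k + 1)) ∣ i - j := by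
    intro i j; rw [PGroup.zpow_eq_zpow_iff_dvd hk]; simp
  set z₁ : G := ζ ^ (p ^ k) with hz₁
  have hz₁o : orderOf z₁ = p := by
    rw [hz₁, orderOf_pow' _ (pow_ne_zero _ hp.ne_zero), hk, Nat.gcd_eq_right (pow_dvd_pow p (by omega)),
      Nat.pow_div (by omega) hp.pos]
    simp
  set Z₁ : Subgroup G := zpowers z₁ with hZ₁
  have hZ₁Z : Z₁ ≤ Z := zpowers_le.mpr (pow_mem hζZ _)
  have hZ₁p : ∀ x ∈ Z₁, x ^ p = 1 := by
    intro x hx
    obtain ⟨i, rfl⟩ := mem_zpowers_iff.mp hx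
    rw [← zpow_natCast, zpow_comm, zpow_natCast, ← hz₁o, pow_orderOf_eq_one, one_zpow]
  have hZ₁mem : ∀ x ∈ Z, x ^ p = 1 → x ∈ Z₁ := by
    intro x hx hxp
    obtain ⟨i, hi⟩ := mem_zpowers_iff.mp (mem_zpowers_of_pow_eq_one (X := ↥Z) hp.pos
      (x := ⟨z₁, pow_mem hζZ _⟩) (y := ⟨x, hx⟩) (by rw [← Subgroup.orderOf_coe]; exact hz₁o)
      (Subtype.ext hxp))
    exact mem_zpowers_iff.mpr ⟨i, by simpa using congrArg Subtype.val hi⟩
  haveI hZ₁n : Z₁.Normal := ⟨fun x hx g => hZ₁mem _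
    (Normal.conj_mem inferInstance x (hZ₁Z hx) g) (by rw [conj_pow, hZ₁p x hx, mul_one, mul_inv_cancel])⟩
  have hZ₁card : Nat.card Z₁ = p := by rw [hZ₁, Nat.card_zpowers, hz₁o]
  have hZ₁c : Z₁ ≤ center G := PGroup.le_center_of_card_eq hG hZ₁card
  have hcomH : ∀ x ∈ H, ∀ g : G, ⁅g, x⁆ ∈ Z := fun x hx g => by
    rw [← commutatorElement_inv x g]; exact inv_mem (hH.comm_mem x hx g).2
  have hcomm1 : ∀ x ∈ H, ∀ g : G, Commute g (x ^ p) → ⁅g, x⁆ ∈ Z₁ := fun x hx g hg => by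
    refine hZ₁mem _ (hcomH x hx g) ?_
    rw [← PGroup.commutator_pow_right (hcz _ (hcomH x hx g) x hx) p]
    exact commutatorElement_eq_one_iff_mul_comm.mpr hg.eq
  have hHH : ∀ x ∈ H, ∀ y ∈ H, ⁅y, x⁆ ∈ Z₁ := fun x hx y hy =>
    hcomm1 x hx y (hcz _ (hH.pow_mem x hx) y hy)
  have hmulpow : ∀ {x y : G}, x ∈ H → y ∈ H → ∃ c ∈ Z₁, (x * y) ^ p = c * x ^ p * y ^ p ∧
      (p ≠ 2 → c = 1) := fun {x y} hx hy => by
    refine ⟨⁅y, x⁆ ^ p.choose 2, pow_mem (hHH x hx y hy) _,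
      PGroup.mul_pow_eq (hcz _ (hZ₁Z (hHH x hx y hy)) x hx) (hcz _ (hZ₁Z (hHH x hx y hy)) y hy) p, ?_⟩
    intro hp2
    obtain ⟨j, hj⟩ := hp.dvd_choose_self (k := 2) (by norm_num)
      (lt_of_le_of_ne hp.two_le (Ne.symm hp2))
    rw [hj, pow_mul, hZ₁p _ (hHH x hx y hy), one_pow]
  -- `℧₁(Z)`
  set P : Subgroup G := zpowers (ζ ^ p) with hPdef
  have hPZ : P ≤ Z := zpowers_le.mpr (pow_mem hζZ _)
  haveI hPchar : P.Characteristic := PGroup.characteristic_of_forall_mem fun φ x hx => by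
    obtain ⟨i, rfl⟩ := mem_zpowers_iff.mp hx
    obtain ⟨j, hj⟩ := hZeq (φ ζ) ((PGroup.aut_mem_iff φ ζ).mpr hζZ)
    rw [map_zpow, map_pow, ← hj, ← zpow_natCast (ζ ^ j) p, zpow_comm ζ j, zpow_natCast]
    exact zpow_mem (zpow_mem (mem_zpowers _) j) i
  have hZ₁P : 1 ≤ k → Z₁ ≤ P := fun hk1 => by
    refine zpowers_le.mpr ?_
    obtain ⟨j, rfl⟩ : ∃ j, k = j + 1 := ⟨k - 1, by omega⟩
    rw [hz₁, pow_succ', pow_mul]
    exact pow_mem (mem_zpowers _) _
  -- every element of `H` is a `p`-th power in `Z` up to `p`-th roots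
  have hroot : 1 ≤ k → ∀ x ∈ H, x ^ p ∈ P := by
    intro hk1
    let H₂ : Subgroup G :=
      { carrier := {x | x ∈ H ∧ x ^ p ∈ P}
        one_mem' := ⟨one_mem _, by simp⟩
        mul_mem' := fun {x y} hx hy => ⟨mul_mem hx.1 hy.1, by
          obtain ⟨c, hc, h, -⟩ := hmulpow hx.1 hy.1
          rw [h]; exact mul_mem (mul_mem (hZ₁P hk1 hc) hx.2) hy.2⟩
        inv_mem' := fun {x} hx => ⟨inv_mem hx.1, by rw [inv_pow]; exact inv_mem hx.2⟩ }
    have hH₂H : H₂ ≤ H := fun x hx => hx.1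
    haveI : H₂.Characteristic := PGroup.characteristic_of_forall_mem fun φ x hx =>
      ⟨(PGroup.aut_mem_iff φ x).mpr hx.1, by rw [← map_pow]; exact (PGroup.aut_mem_iff φ _).mpr hx.2⟩
    have hZH₂ : Z ≤ H₂ := fun z hz => ⟨hZH hz, by
      obtain ⟨i, rfl⟩ := hZeq z hz
      rw [← zpow_natCast, zpow_comm, zpow_natCast]
      exact zpow_mem (mem_zpowers _) i⟩
    suffices h : H ≤ H₂ from fun x hx => (h hx).2
    have hgen2 : ∀ c ∈ H, c ∉ H₂ → ∀ x ∈ H, x ∈ H₂ ⊔ zpowers c := by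
      intro c hc hcn x hx
      obtain ⟨i, hi⟩ := hZeq _ (hH.pow_mem c hc)
      obtain ⟨j, hj⟩ := hZeq _ (hH.pow_mem x hx)
      have hpi : ¬ (p : ℤ) ∣ i := fun ⟨l, hl⟩ => hcn ⟨hc, by
        rw [← hi, hl, zpow_mul, zpow_natCast]; exact zpow_mem (mem_zpowers _) l⟩
      obtain ⟨a, b, hab⟩ : IsCoprime (p : ℤ) i :=
        (Nat.prime_iff_prime_int.mp hp).coprime_iff_not_dvd.mpr hpi
      have hcl : c ^ (-(b * j)) ∈ H := zpow_mem hc _
      have hx2 : c ^ (-(b * j)) * x ∈ H₂ := by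
        refine ⟨mul_mem hcl hx, ?_⟩
        obtain ⟨d, hd, h, -⟩ := hmulpow hcl hx
        have e : (c ^ (-(b * j))) ^ p = ζ ^ (i * -(b * j)) := by
          rw [← zpow_natCast, zpow_comm, zpow_natCast, ← hi, ← zpow_mul]
        rw [h, e, ← hj, mul_assoc, ← zpow_add]
        refine mul_mem (hZ₁P hk1 hd) ?_
        rw [show i * -(b * j) + j = (p : ℤ) * (a * j) by linear_combination (-j) * hab, zpow_mul,
          zpow_natCast]
        exact zpow_mem (mem_zpowers _) _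
      rw [← inv_mul_cancel_left (c ^ (-(b * j))) x]
      exact mul_mem (mem_sup_right (inv_mem (zpow_mem (mem_zpowers c) _))) (mem_sup_left hx2)
    have hle : H ⊓ centralizer (H₂ : Set G) ≤ Z := by
      rintro c ⟨hc, hcC⟩
      have hcH₂ : c ∈ H₂ := by
        by_contra hcn
        apply hcn
        refine hZH₂ (mem_centralizer_iff.mpr fun x hx => ?_)
        have hle : H₂ ⊔ zpowers c ≤ centralizer ({c} : Set G) :=
          sup_le (fun y hy => mem_centralizer_singleton_iff.mpr (mem_centralizer_iff.mp hcC y hy))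
            (zpowers_le.mpr (mem_centralizer_singleton_iff.mpr rfl))
        exact mem_centralizer_singleton_iff.mp (hle (hgen2 c hc hcn x hx))
      have hab2 : IsMulCommutative ↥(H₂ ⊓ centralizer (H₂ : Set G)) :=
        ⟨⟨fun a b => Subtype.ext (mem_centralizer_iff.mp b.2.2 a a.2.1)⟩⟩
      haveI := hsymp _ inferInstance hab2
      have hz₁A : z₁ ∈ H₂ ⊓ centralizer (H₂ : Set G) :=
        ⟨hZH₂ (hZ₁Z (mem_zpowers _)), mem_centralizer_iff.mpr fun y hy =>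
          hcz _ (hZ₁Z (mem_zpowers _)) y (hH₂H hy)⟩
      obtain ⟨j, hj⟩ := mem_zpowers_iff.mp hcH₂.2
      have hy : c * (ζ ^ j)⁻¹ ∈ H₂ ⊓ centralizer (H₂ : Set G) :=
        mul_mem ⟨hcH₂, hcC⟩ (inv_mem ⟨hZH₂ (zpow_mem hζZ j), mem_centralizer_iff.mpr fun y hy =>
          hcz _ (zpow_mem hζZ j) y (hH₂H hy)⟩)
      have hyp : (c * (ζ ^ j)⁻¹) ^ p = 1 := by
        rw [(hcz _ (zpow_mem hζZ j) c hc).inv_right.mul_pow, ← hj, inv_pow, ← zpow_natCast ζ p,
          ← zpow_natCast (ζ ^ j), ← zpow_mul, ← zpow_mul, mul_comm j, mul_inv_cancel]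
      obtain ⟨i, hi⟩ := mem_zpowers_iff.mp (mem_zpowers_of_pow_eq_one
        (X := ↥(H₂ ⊓ centralizer (H₂ : Set G))) hp.pos (x := ⟨z₁, hz₁A⟩)
        (y := ⟨c * (ζ ^ j)⁻¹, hy⟩) (by rw [← Subgroup.orderOf_coe]; exact hz₁o) (Subtype.ext hyp))
      have hi' : z₁ ^ i = c * (ζ ^ j)⁻¹ := by simpa using congrArg Subtype.val hi
      rw [← inv_mul_cancel_right c (ζ ^ j), ← hi']
      exact mul_mem (zpow_mem (hZ₁Z (mem_zpowers _)) i) (zpow_mem hζZ j)
    have e1 : H ⊓ centralizer (H₂ : Set G) = Z :=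
      le_antisymm hle fun z hz => ⟨hZH hz, centralizer_le hH₂H hz⟩
    have e2 : H₂ ⊓ centralizer (H : Set G) = Z := inf_eq_right.mpr hZH₂
    have hrel := Extraspecial.relIndex_centralizer_eq (p := p) H H₂ Z₁ hZ₁card
      (fun z hz g _ => (mem_center_iff.mp (hZ₁c hz) g).symm)
      (fun a ha b hb => hHH b (hH₂H hb) a ha)
    rw [e1, e2] at hrel
    have h3 := relIndex_mul_relIndex Z H₂ H hZH₂ hH₂H
    rw [hrel] at h3
    have h4 : H₂.relIndex H = 1 :=
      (Nat.mul_eq_left (Subgroup.index_ne_zero_of_finite)).mp h3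
    exact relIndex_eq_one.mp h4
  -- the bounded part `B` and the extraspecial part `E`
  set T : Subgroup G := if p ≠ 2 ∧ 1 ≤ k then ⊥ else Z₁ with hTdef
  have hTZ₁ : T ≤ Z₁ := by rw [hTdef]; split_ifs <;> simp
  have hT1 : ∀ c ∈ Z₁, (p ≠ 2 → c = 1) → c ∈ T := by
    intro c hc h
    rw [hTdef]; split_ifs with h'
    · exact mem_bot.mpr (h h'.1)
    · exact hc
  let B : Subgroup G :=
    { carrier := {x | x ∈ H ∧ x ^ p ∈ T}
      one_mem' := ⟨one_mem _, by simp⟩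
      mul_mem' := fun {x y} hx hy => ⟨mul_mem hx.1 hy.1, by
        obtain ⟨c, hc, h, h1⟩ := hmulpow hx.1 hy.1
        rw [h]; exact mul_mem (mul_mem (hT1 c hc h1) hx.2) hy.2⟩
      inv_mem' := fun {x} hx => ⟨inv_mem hx.1, by rw [inv_pow]; exact inv_mem hx.2⟩ }
  have hZ₁B : Z₁ ≤ B := fun x hx => ⟨hZH (hZ₁Z hx), by rw [hZ₁p x hx]; exact one_mem _⟩
  haveI hTchar : T.Characteristic := by
    rw [hTdef]; split_ifs
    · infer_instance
    · refine PGroup.characteristic_of_forall_mem fun φ x hx => hZ₁mem _ ((PGroup.aut_mem_iff φ x).mpr (hZ₁Z hx)) ?_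
      rw [← map_pow, hZ₁p x hx, map_one]
  haveI : B.Characteristic := PGroup.characteristic_of_forall_mem fun φ x hx =>
    ⟨(PGroup.aut_mem_iff φ x).mpr hx.1, by rw [← map_pow]; exact (PGroup.aut_mem_iff φ _).mpr hx.2⟩
  have hBH : ∀ x ∈ H, ∃ b ∈ B, ∃ z ∈ Z, x = b * z := by
    intro x hx
    rcases Nat.eq_zero_or_pos k with hk1 | hk1
    · subst hk1
      refine ⟨x, ⟨hx, ?_⟩, 1, one_mem _, (mul_one x).symm⟩
      have hT : T = Z₁ := by rw [hTdef, if_neg]; omega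
      rw [hT]
      obtain ⟨i, hi⟩ := hZeq _ (hH.pow_mem x hx)
      rw [← hi, hZ₁, hz₁, pow_zero, pow_one]
      exact zpow_mem (mem_zpowers ζ) i
    · obtain ⟨j, hj⟩ := mem_zpowers_iff.mp (hroot hk1 x hx)
      refine ⟨x * (ζ ^ j)⁻¹, ⟨mul_mem hx (inv_mem (hZH (zpow_mem hζZ j))), ?_⟩, ζ ^ j,
        zpow_mem hζZ j, (inv_mul_cancel_right _ _).symm⟩
      rw [(hcz _ (zpow_mem hζZ j) x hx).inv_right.mul_pow, ← hj, inv_pow, ← zpow_natCast ζ p,
        ← zpow_natCast (ζ ^ j), ← zpow_mul, ← zpow_mul, mul_comm j, mul_inv_cancel]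
      exact one_mem _
  have hBcomm : ∀ g : G, ∀ b ∈ B, ⁅g, b⁆ ∈ Z₁ := fun g b hb =>
    hcomm1 b hb.1 g (mem_center_iff.mp (hZ₁c (hTZ₁ hb.2)) g)
  obtain ⟨E, hZ₁E, hEB, hEZ, hEdec⟩ :=
    exists_complement Z B Z₁ hZ₁B (fun b hb => hTZ₁ hb.2) hBcomm
  have hEH : E ≤ H := fun x hx => (hEB hx).1
  have hHEZ : ∀ x ∈ H, ∃ e ∈ E, ∃ z ∈ Z, x = e * z := by
    intro x hx
    obtain ⟨b, hb, z, hz, rfl⟩ := hBH x hx
    obtain ⟨e, he, z', hz', -, rfl⟩ := hEdec b hb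
    exact ⟨e, he, z' * z, mul_mem hz' hz, mul_assoc _ _ _⟩
  set K := centralizer (E : Set G) with hKdef
  have hZK : Z ≤ K := fun z hz => mem_centralizer_iff.mpr fun e he => hcz z hz e (hEH he)
  have hKZ : ∀ x ∈ K, Commute x ζ → x ∈ Z := by
    intro x hx hxζ
    refine mem_centralizer_iff.mpr fun h hh => ?_
    obtain ⟨e, he, z, hz, rfl⟩ := hHEZ h hh
    obtain ⟨i, rfl⟩ := hZeq z hz
    exact Commute.mul_left (mem_centralizer_iff.mp hx e he) (hxζ.symm.zpow_left i)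
  have hEK : E ⊓ K = Z₁ := le_antisymm (fun x hx => hEZ ⟨hx.1, hKZ x hx.2
      (hcz ζ hζZ x (hEH hx.1))⟩) (le_inf hZ₁E (hZ₁Z.trans hZK))
  have hcenE : (center E).map E.subtype = E ⊓ K := by
    ext x
    constructor
    · rintro ⟨y, hy, rfl⟩
      exact ⟨y.2, mem_centralizer_iff.mpr fun e he =>
        congrArg Subtype.val (mem_center_iff.mp hy ⟨e, he⟩)⟩
    · rintro ⟨hxE, hxC⟩
      exact ⟨⟨x, hxE⟩, mem_center_iff.mpr fun e =>
        Subtype.ext (mem_centralizer_iff.mp hxC e e.2), rfl⟩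
  -- a criterion for being extraspecial
  have hES : ∀ (F : Subgroup G), ¬ IsMulCommutative F →
      (center F).map F.subtype = Z₁ → (∀ x ∈ F, x ^ p ∈ Z₁) →
      (∀ x ∈ F, ∀ y ∈ F, ⁅x, y⁆ ∈ Z₁) → Cfsg.IsExtraspecial p F := by
    intro F hnc hcen hpw hcm
    have hcard : Nat.card (center F) = p := by
      rw [← card_map_of_injective F.subtype_injective, hcen, hZ₁card]
    have hmem : ∀ y : F, y ∈ center F ↔ (y : G) ∈ Z₁ := fun y => by
      rw [← hcen]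
      exact ⟨fun h => ⟨y, h, rfl⟩, fun ⟨y', h, e⟩ => Subtype.ext e ▸ h⟩
    have hFp : IsPGroup p F := hG.to_subgroup F
    have hle : commutator F ≤ center F := by
      rw [commutator_def, commutator_le]
      intro a _ b _
      rw [hmem]; exact hcm a a.2 b b.2
    have hcomm : commutator F = center F := by
      rcases (Nat.dvd_prime hp).mp (hcard ▸ card_dvd_of_le hle) with h | h
      · refine absurd ⟨⟨fun a b => ?_⟩⟩ hnc
        exact commutatorElement_eq_one_iff_mul_comm.mp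
          (mem_bot.mp ((card_eq_one.mp h).le (commutator_mem_commutator (mem_top a) (mem_top b))))
      · exact eq_of_le_of_card_ge hle (by rw [h, hcard])
    refine ⟨⟨hFp, le_antisymm ?_ ?_, hcomm⟩, hcard⟩
    · refine PGroup.frattini_le_of_quotient_elementary (p := p) hle fun a => ?_
      rw [hmem]; exact hpw a a.2
    · rw [← hcomm]; exact PGroup.commutator_le_frattini hFp
  have hEpow : ∀ x ∈ E, x ^ p ∈ Z₁ := fun x hx => hTZ₁ (hEB hx).2
  have hEES : ¬ IsMulCommutative E → Cfsg.IsExtraspecial p E := fun hnc =>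
    hES E hnc (hcenE.trans hEK) hEpow fun x _ y hy => hBcomm x y (hEB hy)
  have hsup : E ⊔ K = ⊤ ∧ (IsMulCommutative E → K = ⊤) := by
    have hab : IsMulCommutative E → K = ⊤ := fun h => eq_top_iff.mpr fun g _ =>
      mem_centralizer_iff.mpr fun e he => by
        have h1 : e ∈ E ⊓ K := ⟨he, mem_centralizer_iff.mpr fun e' he' =>
          congrArg Subtype.val (h.is_comm.comm ⟨e', he'⟩ ⟨e, he⟩)⟩
        exact (mem_center_iff.mp (hZ₁c (hEK ▸ h1)) g).symm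
    refine ⟨?_, hab⟩
    by_cases h : IsMulCommutative E
    · rw [hab h, sup_top_eq]
    · refine Cfsg.Agent.S0110.result hG E (hEES h) (commutator_le.mpr fun g _ e he => ?_)
      rw [hEK]; exact hBcomm g e (hEB he)
  haveI hEn : E.Normal := ⟨fun e he g => by
    have h := E.mul_mem (hZ₁E (hBcomm g e (hEB he))) he
    simpa [commutatorElement_def] using h⟩
  have hEeK : ∀ e ∈ E, ∀ r ∈ K, e * r = r * e := fun e he r hr => mem_centralizer_iff.mp hr e he
  have hfinish : (IsCyclic K ∨ (p = 2 ∧ 16 ≤ Nat.card K ∧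
      ((∃ m : ℕ, Nonempty (↥K ≃* DihedralGroup m)) ∨ (∃ m : ℕ, Nonempty (↥K ≃* QuaternionGroup m)) ∨
        Cfsg.IsQuasiDihedral ↥K))) →
      ∃ E R : Subgroup G, (∀ e ∈ E, ∀ r ∈ R, e * r = r * e) ∧ E ⊔ R = ⊤ ∧
        (E = ⊥ ∨ Cfsg.IsExtraspecial p ↥E) ∧ (IsCyclic R ∨ (p = 2 ∧ 16 ≤ Nat.card R ∧
        ((∃ m : ℕ, Nonempty (↥R ≃* DihedralGroup m)) ∨ (∃ m : ℕ, Nonempty (↥R ≃* QuaternionGroup m)) ∨
          Cfsg.IsQuasiDihedral ↥R))) := by
    intro hR
    by_cases h : IsMulCommutative E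
    · refine ⟨⊥, K, fun e he r _ => ?_, by rw [bot_sup_eq, hsup.2 h], Or.inl rfl, hR⟩
      rw [mem_bot.mp he, one_mul, mul_one]
    · exact ⟨E, K, hEeK, hsup.1, Or.inr (hEES h), hR⟩
  by_cases hKleZ : K ≤ Z
  · refine hfinish (Or.inl ?_)
    haveI := hZcyc
    exact isCyclic_of_injective (inclusion hKleZ) (inclusion_injective hKleZ)
  obtain ⟨κ, hκK, hκZ⟩ := SetLike.not_le_iff_exists.mp hKleZ
  have hk1 : 1 ≤ k := by
    by_contra hcon
    obtain rfl : k = 0 := by omega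
    refine hκZ (hKZ κ hκK ?_)
    have : ζ ∈ Z₁ := by rw [hZ₁, hz₁, pow_zero, pow_one]; exact mem_zpowers ζ
    exact mem_center_iff.mp (hZ₁c this) κ
  haveI hZn : Z.Normal := inferInstance
  by_cases hsmall : p = 2 ∧ k = 1
  · -- `G` itself is extraspecial
    obtain ⟨rfl, rfl⟩ := hsmall
    have hZ4 : ∀ z ∈ Z, z ^ 2 ∈ Z₁ := fun z hz => hZ₁mem _ (pow_mem hz 2) (by
      obtain ⟨i, rfl⟩ := hZeq z hz
      rw [← pow_mul, ← zpow_natCast, zpow_comm, zpow_natCast, show 2 * 2 = orderOf ζ by rw [hk]; norm_num,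
        pow_orderOf_eq_one, one_zpow])
    have hconj : ∀ x ∈ K, x ∉ Z → x * ζ * x⁻¹ = ζ⁻¹ := by
      intro x hx hxZ
      obtain ⟨i, hi⟩ := hZeq _ (hZn.conj_mem ζ hζZ x)
      rw [← hi, ← zpow_neg_one, hzp]
      have hne : ¬ (2 : ℤ) ^ 2 ∣ i - 1 := fun h => hxZ (hKZ x hx (by
        have h2 : ζ ^ i = ζ ^ (1 : ℤ) := hzp.mpr (by simpa using h)
        rw [hi, zpow_one] at h2
        exact mul_inv_eq_iff_eq_mul.mp h2))
      have ho : orderOf (ζ ^ i) = 4 := by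
        rw [hi, show x * ζ * x⁻¹ = MulAut.conj x ζ from rfl, MulEquiv.orderOf_eq, hk]; norm_num
      rcases Int.even_or_odd i with ⟨l, rfl⟩ | ⟨l, rfl⟩
      · exfalso
        have h2 : (ζ ^ (l + l)) ^ 2 = 1 := by
          rw [← zpow_natCast, ← zpow_mul, ← orderOf_dvd_iff_zpow_eq_one, hk]
          exact ⟨l, by push_cast; ring⟩
        have := orderOf_dvd_of_pow_eq_one h2
        rw [ho] at this; norm_num at this
      · rcases Int.even_or_odd l with ⟨m, rfl⟩ | ⟨m, rfl⟩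
        · exact absurd ⟨m, by ring⟩ hne
        · exact ⟨m + 1, by push_cast; ring⟩
    have hKpow : ∀ x ∈ K, x ^ 2 ∈ Z₁ := by
      intro x hx
      by_cases hxZ : x ∈ Z
      · exact hZ4 x hxZ
      have h := hconj x hx hxZ
      have h2 : x ^ 2 ∈ Z := hKZ _ (pow_mem hx 2) (mul_inv_eq_iff_eq_mul.mp (by
        rw [show x ^ 2 * ζ * (x ^ 2)⁻¹ = x * (x * ζ * x⁻¹) * x⁻¹ by rw [pow_two]; group, h,
          ← conj_inv, h, inv_inv]))
      obtain ⟨i, hi⟩ := hZeq _ h2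
      refine hZ₁mem _ h2 ?_
      have h3 : x * ζ ^ i * x⁻¹ = ζ ^ i := by rw [hi]; group
      rw [← conj_zpow, h, inv_zpow] at h3
      rw [← hi, pow_two]
      exact mul_eq_one_iff_eq_inv.mpr h3.symm
    have hGpow : ∀ g : G, g ^ 2 ∈ Z₁ := fun g => by
      obtain ⟨e, he, r, hr, rfl⟩ := mem_sup_of_normal_left.mp (hsup.1.symm ▸ mem_top g : g ∈ E ⊔ K)
      rw [Commute.mul_pow (hEeK e he r hr)]
      exact mul_mem (hEpow e he) (hKpow r hr)
    have hGcomm : ∀ a b : G, ⁅a, b⁆ ∈ Z₁ := fun a b => by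
      rw [commutatorElement_def, show a * b * a⁻¹ * b⁻¹ = a ^ 2 * (a⁻¹ * b) ^ 2 * (b ^ 2)⁻¹ by
        simp [pow_two, mul_assoc]]
      exact mul_mem (mul_mem (hGpow _) (hGpow _)) (inv_mem (hGpow _))
    have hcenG : center G = Z₁ := by
      refine le_antisymm (fun x hx => hZ₁mem _ ?_ ?_) hZ₁c
      · exact mem_centralizer_iff.mpr fun h _ => mem_center_iff.mp hx h
      · obtain ⟨i, rfl⟩ := hZeq x (mem_centralizer_iff.mpr fun h _ => mem_center_iff.mp hx h)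
        have h3 : κ * ζ ^ i * κ⁻¹ = ζ ^ i := by rw [mem_center_iff.mp hx κ]; group
        rw [← conj_zpow, hconj κ hκK hκZ, inv_zpow] at h3
        rw [pow_two]
        exact mul_eq_one_iff_eq_inv.mpr h3.symm
    refine ⟨⊤, ⊥, fun e _ r hr => by rw [mem_bot.mp hr, one_mul, mul_one], sup_bot_eq _,
      Or.inr (hES ⊤ ?_ ?_ (fun x _ => hGpow x) fun x _ y _ => hGcomm x y), Or.inl inferInstance⟩
    · intro h
      exact hκZ (hKZ κ hκK (congrArg Subtype.val
        (h.is_comm.comm ⟨κ, mem_top κ⟩ ⟨ζ, mem_top ζ⟩)))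
    · ext x
      constructor
      · rintro ⟨y, hy, rfl⟩
        rw [← hcenG]
        exact mem_center_iff.mpr fun g => congrArg Subtype.val (mem_center_iff.mp hy ⟨g, mem_top g⟩)
      · intro hx
        exact ⟨⟨x, mem_top x⟩, mem_center_iff.mpr fun y =>
          Subtype.ext (mem_center_iff.mp (hZ₁c hx) y), rfl⟩
  -- the remaining case: `K` has a self-centralizing cyclic normal subgroup `Z`
  set U : Subgroup K := Z.subgroupOf K with hU
  have hUcyc : IsCyclic U := by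
    haveI := hZcyc
    exact isCyclic_of_surjective (subgroupOfEquivOfLe hZK).symm (MulEquiv.surjective _)
  have hUcard : Nat.card U = p ^ (k + 1) := by
    rw [hU, Nat.card_congr (subgroupOfEquivOfLe hZK).toEquiv, ← hk, ← Nat.card_zpowers]
    congr 2
    exact le_antisymm (fun z hz => mem_zpowers_iff.mpr (hZeq z hz)) (zpowers_le.mpr hζZ)
  have hUcent : centralizer (U : Set K) = U := by
    ext x
    rw [mem_centralizer_iff, hU, mem_subgroupOf]
    constructor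
    · intro h
      exact hKZ x x.2 (congrArg Subtype.val (h ⟨ζ, hZK hζZ⟩ hζZ)).symm
    · intro hx y hy
      exact Subtype.ext (hcz _ hx y (hZH hy))
  have hKna : ¬ IsMulCommutative K := fun h => hκZ (hKZ κ hκK
    (congrArg Subtype.val (h.is_comm.comm ⟨κ, hκK⟩ ⟨ζ, hZK hζZ⟩)))
  rcases Cfsg.Agent.S3761.result (hG.to_subgroup K) hKna U hUcyc (k + 1) hUcard hUcent with
    ⟨hp2, hcard, htype⟩ | ⟨-, hea, hWcard, -⟩
  · refine hfinish (Or.inr ⟨hp2, ?_, htype⟩)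
    have hk2 : 2 ≤ k := by
      rcases Nat.lt_or_ge k 2 with h | h
      · exact absurd ⟨hp2, by omega⟩ hsmall
      · exact h
    rw [hcard]
    calc 16 = 2 ^ 4 := by norm_num
      _ ≤ _ := Nat.pow_le_pow_right (by norm_num) (by omega)
  exfalso
  set M := centralizer (Cfsg.powerClosure p 1 U : Set K) with hM
  set L : Subgroup G := centralizer (B : Set G) ⊓ centralizer (P : Set G) with hL
  have hBP : ∀ z ∈ Z, z ∈ B → z ∈ P := by
    intro z hz hzB
    obtain ⟨i, rfl⟩ := hZeq z hz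
    have h := hzB.2
    by_cases hp2 : p = 2
    · subst hp2
      obtain ⟨l, rfl⟩ : ∃ l, k = l + 2 := ⟨k - 2, by
        rcases Nat.lt_or_ge k 2 with h' | h'
        · exact absurd ⟨rfl, by omega⟩ hsmall
        · omega⟩
      have h' := hZ₁p _ (hTZ₁ h)
      rw [← pow_mul, ← zpow_natCast, ← zpow_mul, ← zpow_zero ζ, hzp, sub_zero] at h'
      have h2 : (2 : ℤ) ∣ i := by
        have h3 : (2 : ℤ) ^ (l + 1) * 4 ∣ i * 4 := by
          refine dvd_trans (dvd_of_eq ?_) (h'.trans (dvd_of_eq ?_))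
          · push_cast; ring
          · push_cast; ring
        exact (dvd_pow_self 2 (Nat.succ_ne_zero l)).trans ((mul_dvd_mul_iff_right (by norm_num)).mp h3)
      obtain ⟨j, rfl⟩ := h2
      rw [zpow_mul, zpow_ofNat]
      exact zpow_mem (mem_zpowers (ζ ^ 2)) j
    · have hT : T = ⊥ := by rw [hTdef, if_pos ⟨hp2, hk1⟩]
      exact hZ₁P hk1 (hZ₁mem _ hz (mem_bot.mp (hT ▸ h)))
  have hMmem : ∀ x : K, x ∈ M ↔ (x : G) ∈ L := by
    intro x
    constructor
    · intro hx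
      have hP' : (x : G) ∈ centralizer (P : Set G) := by
        refine mem_centralizer_iff.mpr fun y hy => ?_
        obtain ⟨i, rfl⟩ := mem_zpowers_iff.mp hy
        have h1 : ((⟨ζ, hZK hζZ⟩ : K) ^ p) ∈ Cfsg.powerClosure p 1 U :=
          subset_closure ⟨⟨ζ, hZK hζZ⟩, hζZ, by rw [pow_one]⟩
        exact (Commute.zpow_left (congrArg Subtype.val
          (mem_centralizer_iff.mp hx _ h1) : Commute (ζ ^ p) (x : G)) i)
      refine ⟨mem_centralizer_iff.mpr fun b hb => ?_, hP'⟩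
      obtain ⟨e, he, z, hz, hzB, rfl⟩ := hEdec b hb
      exact Commute.mul_left (mem_centralizer_iff.mp x.2 e he)
        (mem_centralizer_iff.mp hP' z (hBP z hz hzB))
    · intro hx
      rw [hM, Cfsg.powerClosure, centralizer_closure, mem_centralizer_iff]
      rintro y ⟨w, hw, rfl⟩
      refine Subtype.ext (mem_centralizer_iff.mp hx.2 _ ?_)
      have hw' : (w : G) ∈ Z := hw
      obtain ⟨i, hi⟩ := hZeq _ hw'
      rw [SubgroupClass.coe_pow, pow_one, ← hi, ← zpow_natCast, zpow_comm, zpow_natCast]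
      exact zpow_mem (mem_zpowers _) i
  have hLK : L ≤ K := fun x hx => centralizer_le hEB hx.1
  have hW : (Cfsg.omegaOne p M).map K.subtype = Cfsg.omegaOne p L := by
    rw [Cfsg.omegaOne, MonoidHom.map_closure, Cfsg.omegaOne]
    congr 1
    ext x
    constructor
    · rintro ⟨y, ⟨hy, hyp⟩, rfl⟩
      exact ⟨(hMmem y).mp hy, by rw [← map_pow, hyp, map_one]⟩
    · rintro ⟨hx, hxp⟩
      exact ⟨⟨x, hLK hx⟩, ⟨(hMmem _).mpr hx, Subtype.ext hxp⟩, rfl⟩
  have hWab : IsMulCommutative ↥(Cfsg.omegaOne p L) := by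
    rw [← hW]
    refine ⟨⟨?_⟩⟩
    rintro ⟨_, a, ha, rfl⟩ ⟨_, b, hb, rfl⟩
    refine Subtype.ext ?_
    exact congrArg (fun w => (Subtype.val (Subtype.val w) : G)) (hea.1.is_comm.comm ⟨a, ha⟩ ⟨b, hb⟩)
  haveI : (Cfsg.omegaOne p L).Characteristic := PGroup.characteristic_of_forall_mem fun φ x hx => by
    induction hx using closure_induction with
    | mem x hx => exact subset_closure ⟨(PGroup.aut_mem_iff φ x).mpr hx.1, by rw [← map_pow, hx.2, map_one]⟩
    | one => simp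
    | mul x y _ _ hx hy => rw [map_mul]; exact mul_mem hx hy
    | inv x _ hx => rw [map_inv]; exact inv_mem hx
  haveI := hsymp _ inferInstance hWab
  obtain ⟨⟨w, hw⟩, hwo⟩ := IsCyclic.exists_ofOrder_eq_natCard (α := ↥(Cfsg.omegaOne p L))
  have hwp : w ^ p = 1 := by
    rw [← hW] at hw
    obtain ⟨a, ha, rfl⟩ := hw
    rw [← map_pow, hea.2 a ha, map_one]
  have h2 : Nat.card ↥(Cfsg.omegaOne p L) = p ^ 2 := by
    rw [← hW, card_map_of_injective K.subtype_injective, hWcard]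
  rw [h2] at hwo
  have h3 : p ^ 2 ∣ p := hwo ▸ orderOf_dvd_of_pow_eq_one (Subtype.ext hwp)
  have h4 := Nat.le_of_dvd hp.pos h3
  nlinarith [hp.two_le]


end Cfsg.Agent.S3762
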