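import Cfsg.Statements.S3763
import Cfsg.Agent.EqLemmas
import Cfsg.Agent.Lib.PGroup.Extraspecial
-- import your own Cfsg.Agent.* helpers here

set_option autoImplicit false
open Cfsg

open scoped commutatorElement

namespace Cfsg.Agent.S3763

open Cfsg.Agent.PGroup

universe u v

theorem le_center_or_involution {G : Type u} [Group G] [Finite G] {A : Subgroup G} (h : IsES 2 G)
    (hinv : ∀ x : G, x ^ 2 = 1 → x ∈ Subgroup.center G) (hA : ∀ a ∈ A, a ^ 2 = 1) : Nat.card A ≤ 2 ^ 1 := by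
  rw [pow_one, ← h.card_center]
  exact Subgroup.card_le_of_le fun a ha => hinv a (hA a ha)

theorem card_lt_of_elementary {G : Type u} [Group G] [Finite G] {k : ℕ} (h : IsES 2 G)
    (hG : Nat.card G = 2 ^ (k + 3)) (A : Subgroup G) (hA : IsMulCommutative A) : Nat.card A ≤ 2 ^ (k + 2) := by
  obtain ⟨j, -, hj⟩ := (Nat.dvd_prime_pow Nat.prime_two).mp (hG ▸ A.card_subgroup_dvd_card)
  rw [hj]
  refine Nat.pow_le_pow_right (by norm_num) ?_
  by_contra hlt
  push Not at hlt
  have htop : A = ⊤ := Subgroup.eq_top_of_card_eq A (le_antisymm (Subgroup.card_le_card_group A)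
    (by rw [hG, hj]; exact Nat.pow_le_pow_right (by norm_num) hlt))
  have hc : Subgroup.center G = ⊤ := by
    refine eq_top_iff.mpr fun x _ => Subgroup.mem_center_iff.mpr fun y => ?_
    exact congrArg Subtype.val (hA.is_comm.comm ⟨y, htop ▸ Subgroup.mem_top y⟩ ⟨x, htop ▸ Subgroup.mem_top x⟩)
  have := h.card_center
  rw [hc, Subgroup.card_top, hG] at this
  have h4 : 2 ^ 3 ≤ 2 ^ (k + 3) := Nat.pow_le_pow_right (by norm_num) (by omega)
  omega

/-- Joining a commuting involution outside an elementary abelian subgroup. -/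
theorem exists_bigger {G : Type u} [Group G] [Finite G] (K : Subgroup G) (hKc : IsMulCommutative K)
    (hK : ∀ k ∈ K, k ^ 2 = 1) (c : G) (hc : c ^ 2 = 1) (hcK : ∀ k ∈ K, c * k = k * c) (hcn : c ∉ K) :
    ∃ B : Subgroup G, IsMulCommutative B ∧ (∀ b ∈ B, b ^ 2 = 1) ∧ c ∈ B ∧ K ≤ B ∧
      (∀ b ∈ B, b ∈ K ∨ b * c ∈ K) ∧ Nat.card B = 2 * Nat.card K := by
  have hcc : c * c = 1 := (pow_two c).symm.trans hc
  have hKm : ∀ a ∈ K, ∀ b ∈ K, a * b = b * a := fun a ha b hb => congrArg Subtype.val (hKc.is_comm.comm ⟨a, ha⟩ ⟨b, hb⟩)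
  have hrep : ∀ b : G, b ∈ K ∨ b * c ∈ K → ∃ k ∈ K, b = k ∨ b = k * c := by
    rintro b (hb | hb)
    · exact ⟨b, hb, Or.inl rfl⟩
    · exact ⟨b * c, hb, Or.inr (by rw [mul_assoc, hcc, mul_one])⟩
  let B : Subgroup G :=
    { carrier := {b | b ∈ K ∨ b * c ∈ K}
      one_mem' := Or.inl K.one_mem
      mul_mem' := by
        rintro a b (ha | ha) hb
        · rcases hb with hb | hb
          · exact Or.inl (K.mul_mem ha hb)
          · exact Or.inr (by rw [mul_assoc]; exact K.mul_mem ha hb)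
        · rcases hb with hb | hb
          · exact Or.inr (by rw [mul_assoc, ← hcK b hb, ← mul_assoc]; exact K.mul_mem ha hb)
          · refine Or.inl ?_
            have hbc : c * (b * c) = b := by rw [hcK _ hb, mul_assoc, hcc, mul_one]
            have h3 : a * b = (a * c) * (b * c) := by
              calc a * b = a * (c * (b * c)) := by rw [hbc]
                _ = _ := (mul_assoc _ _ _).symm
            rw [h3]; exact K.mul_mem ha hb
      inv_mem' := by
        rintro a (ha | ha)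
        · exact Or.inl (K.inv_mem ha)
        · refine Or.inr ?_
          have h3 := K.inv_mem ha
          rw [mul_inv_rev, inv_eq_of_mul_eq_one_right hcc] at h3
          obtain ⟨k, hk, rfl⟩ : ∃ k ∈ K, a = k * c := ⟨a * c, ha, by rw [mul_assoc, hcc, mul_one]⟩
          rw [mul_inv_rev, inv_eq_of_mul_eq_one_right hcc, hcK _ (K.inv_mem hk), mul_assoc, hcc, mul_one]
          exact K.inv_mem hk }
  have hcB : c ∈ B := Or.inr (by rw [hcc]; exact K.one_mem)
  refine ⟨B, ⟨⟨fun a b => Subtype.ext ?_⟩⟩, ?_, hcB, fun k hk => Or.inl hk, fun b hb => hb, ?_⟩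
  · obtain ⟨k, hk, h1 | h1⟩ := hrep a a.2 <;> obtain ⟨l, hl, h2 | h2⟩ := hrep b b.2 <;>
      simp only [Subgroup.coe_mul] <;> rw [h1, h2]
    · exact hKm k hk l hl
    · rw [← mul_assoc, hKm k hk l hl, mul_assoc, ← hcK k hk, ← mul_assoc]
    · rw [mul_assoc, hcK l hl, ← mul_assoc, hKm k hk l hl, mul_assoc]
    · rw [mul_assoc, ← mul_assoc c l c, hcK l hl, mul_assoc l c c, hcc, mul_one, mul_assoc l c, ← mul_assoc c k c,
        hcK k hk, mul_assoc k c c, hcc, mul_one, hKm k hk l hl]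
  · intro b hb
    obtain ⟨k, hk, h1 | h1⟩ := hrep b hb <;> rw [h1]
    · exact hK k hk
    · rw [Commute.mul_pow (hcK k hk).symm, hK k hk, hc, one_mul]
  · have h1 : K.relIndex B = 2 := by
      refine Subgroup.index_eq_two_iff.mpr ⟨⟨c, hcB⟩, fun b => ?_⟩
      simp only [Subgroup.mem_subgroupOf, Subgroup.coe_mul]
      rcases b.2 with h | h
      · exact Or.inr ⟨h, fun h' => hcn (by simpa [← mul_assoc] using K.mul_mem (K.inv_mem h) h')⟩
      · exact Or.inl ⟨h, fun h' => hcn (by simpa [← mul_assoc] using K.mul_mem (K.inv_mem h') h)⟩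
    rw [← Subgroup.relIndex_bot_left K, ← Subgroup.relIndex_bot_left B,
      ← Subgroup.relIndex_mul_relIndex ⊥ K B bot_le (fun k hk => Or.inl hk), h1, mul_comm]

theorem zero_one (P : ℕ) (hP : P < 2) : P = 0 ∨ P = 1 := by omega

/-- Passing to the centralizer of a pair of involutions lowers the rank by one. -/
theorem rank_step {G : Type u} [Group G] [Finite G] (h : IsES 2 G) (P : Pair 2 G)
    (hP : P.x ^ 2 = P.z ^ 0 ∧ P.y ^ 2 = P.z ^ 0) (k : ℕ) :
    Cfsg.PRankLE 2 (k + 1) G ↔ Cfsg.PRankLE 2 k P.C := by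
  have hx2 : P.x ^ 2 = 1 := by rw [hP.1, pow_zero]
  have hy2 : P.y ^ 2 = 1 := by rw [hP.2, pow_zero]
  have hxC : P.x ∉ P.C := fun hx => P.hz (by
    rw [← P.hc, commutatorElement_eq_one_iff_commute]
    exact ((P.mem_C.mp hx).2).symm)
  constructor
  · intro hG A hAc hA
    obtain ⟨B, hBc, hB, -, -, -, hcard⟩ := exists_bigger (A.map P.C.subtype)
      ⟨⟨fun a b => by
        obtain ⟨_, a', ha', rfl⟩ := a
        obtain ⟨_, b', hb', rfl⟩ := b
        exact Subtype.ext (congrArg (fun w : A => ((w : P.C) : G)) (hAc.is_comm.comm ⟨a', ha'⟩ ⟨b', hb'⟩))⟩⟩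
      (by rintro _ ⟨a, ha, rfl⟩; exact congrArg Subtype.val (hA a ha)) P.x hx2
      (by rintro _ ⟨a, _, rfl⟩; exact ((P.mem_C.mp a.2).1).symm.eq)
      (fun hx => hxC (Subgroup.map_subtype_le A hx))
    rw [Subgroup.card_map_of_injective P.C.subtype_injective] at hcard
    have := hG B hBc hB
    rw [hcard, pow_succ'] at this
    omega
  · intro hC A hAc hA
    have hAm : ∀ a ∈ A, ∀ b ∈ A, a * b = b * a := fun a ha b hb => congrArg Subtype.val (hAc.is_comm.comm ⟨a, ha⟩ ⟨b, hb⟩)
    suffices hex : ∃ B : Subgroup P.C, IsMulCommutative B ∧ (∀ b ∈ B, b ^ 2 = 1) ∧ Nat.card A ≤ 2 * Nat.card B by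
      obtain ⟨B, h1, h2, h3⟩ := hex
      exact h3.trans (by rw [pow_succ']; exact Nat.mul_le_mul_left 2 (hC B h1 h2))
    set K : Subgroup P.C := A.subgroupOf P.C
    have hKc : IsMulCommutative K := ⟨⟨fun a b => Subtype.ext (Subtype.ext (hAm _ a.2 _ b.2))⟩⟩
    have hK : ∀ a ∈ K, a ^ 2 = 1 := fun a ha => Subtype.ext (hA _ ha)
    -- coordinates of the elements of `A`
    have hcoord : ∀ a ∈ A, ∃ i j : ℕ, i < 2 ∧ j < 2 ∧ ∃ c : P.C, a = P.x ^ i * P.y ^ j * c := by
      intro a _
      obtain ⟨i, j, c, rfl⟩ := P.exists_decomp h a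
      refine ⟨i % 2, j % 2, Nat.mod_lt _ (by norm_num), Nat.mod_lt _ (by norm_num), c, ?_⟩
      rw [← pow_eq_pow_mod i hx2, ← pow_eq_pow_mod j hy2]
    by_cases hbig : Nat.card A ≤ 2 * Nat.card K
    · exact ⟨K, hKc, hK, hbig⟩
    -- two elements of `A` with independent coordinates
    have hcount : Nat.card A ≤ 4 * Nat.card K ∧ ∀ i₀ j₀ : ℕ, i₀ < 2 → j₀ < 2 → ∃ c : P.C, P.x ^ i₀ * P.y ^ j₀ * c ∈ A := by
      classical
      choose fi fj hfi hfj fc hf using hcoord
      let φ : A → Fin 2 × Fin 2 := fun a => (⟨fi a a.2, hfi a a.2⟩, ⟨fj a a.2, hfj a a.2⟩)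
      haveI := Fintype.ofFinite A
      have hfib : ∀ v : Fin 2 × Fin 2, (Finset.univ.filter fun a => φ a = v).card ≤ Nat.card K := by
        intro v
        rcases (Finset.univ.filter fun a => φ a = v).eq_empty_or_nonempty with he | ⟨a₀, ha₀⟩
        · rw [he]; exact Nat.zero_le _
        rw [← Fintype.card_coe, ← Nat.card_eq_fintype_card]
        refine Nat.card_le_card_of_injective (fun a => ⟨⟨(a₀ : G)⁻¹ * (a.1 : A), ?_⟩, A.mul_mem (A.inv_mem a₀.2) a.1.2⟩) ?_
        · have e1 := (Finset.mem_filter.mp a.2).2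
          have e2 := (Finset.mem_filter.mp ha₀).2
          have e := e1.trans e2.symm
          simp only [φ, Prod.mk.injEq, Fin.mk.injEq] at e
          rw [hf _ a₀.2, hf _ a.1.2, e.1, e.2]
          rw [mul_inv_rev, mul_assoc, inv_mul_cancel_left]
          exact P.C.mul_mem (P.C.inv_mem (fc _ a₀.2).2) (fc _ a.1.2).2
        · intro a b hab
          exact Subtype.ext (Subtype.ext (mul_left_cancel (congrArg (fun w : K => ((w : P.C) : G)) hab)))
      refine ⟨?_, fun i₀ j₀ hi hj => ?_⟩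
      · rw [Nat.card_eq_fintype_card, ← Finset.card_univ, Finset.card_eq_sum_card_fiberwise (f := φ) (t := Finset.univ) (by simp)]
        refine (Finset.sum_le_sum fun v _ => hfib v).trans (le_of_eq ?_)
        simp
      · by_contra hno
        push Not at hno
        apply hbig
        set v₀ : Fin 2 × Fin 2 := (⟨i₀, hi⟩, ⟨j₀, hj⟩)
        -- the occurring coordinates form a group missing one point
        have himg : ∀ v, v ∈ Finset.univ.image φ → v ≠ v₀ := by
          intro v hv he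
          obtain ⟨a, -, rfl⟩ := Finset.mem_image.mp hv
          simp only [φ, v₀, Prod.mk.injEq, Fin.mk.injEq] at he
          refine hno (fc _ a.2) ?_
          rw [← he.1, ← he.2, ← hf _ a.2]; exact a.2
        have hsz : (Finset.univ.image φ).card ≤ 3 :=
          le_trans (Finset.card_le_card (fun v hv => Finset.mem_erase.mpr ⟨himg v hv, Finset.mem_univ v⟩))
            (le_of_eq (by rw [Finset.card_erase_of_mem (Finset.mem_univ v₀)]; simp))
        have h3 : Nat.card A ≤ 3 * Nat.card K := by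
          rw [Nat.card_eq_fintype_card, ← Finset.card_univ,
            Finset.card_eq_sum_card_fiberwise (f := φ) (t := Finset.univ.image φ) (fun a _ => Finset.mem_image_of_mem φ (Finset.mem_univ a))]
          refine (Finset.sum_le_sum fun v _ => hfib v).trans ?_
          rw [Finset.sum_const, smul_eq_mul]
          exact Nat.mul_le_mul_right _ hsz
        obtain ⟨a, ha⟩ := IsPGroup.iff_card.mp (h.isPGroup.to_subgroup A)
        obtain ⟨b, hb⟩ := IsPGroup.iff_card.mp ((h.isPGroup.to_subgroup P.C).to_subgroup K)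
        rw [ha, hb] at h3 ⊢
        have hlt : a < b + 2 := by
          by_contra hh
          push Not at hh
          have := Nat.pow_le_pow_right (show 1 ≤ 2 by norm_num) hh
          rw [pow_add] at this
          have := pow_pos (show 0 < 2 by norm_num) b
          omega
        calc 2 ^ a ≤ 2 ^ (b + 1) := Nat.pow_le_pow_right (by norm_num) (by omega)
          _ = 2 * 2 ^ b := pow_succ' 2 b
    obtain ⟨hle, hex⟩ := hcount
    obtain ⟨c₁, hc₁⟩ := hex 1 0 (by norm_num) (by norm_num)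
    obtain ⟨c₂, hc₂⟩ := hex 0 1 (by norm_num) (by norm_num)
    simp only [pow_one, pow_zero, mul_one, one_mul] at hc₁ hc₂
    obtain ⟨hc₁x, hc₁y⟩ := P.mem_C.mp c₁.2
    obtain ⟨hc₂x, hc₂y⟩ := P.mem_C.mp c₂.2
    have hc₁sq : (c₁ : G) ^ 2 = 1 := by
      have := hA _ hc₁
      rwa [hc₁x.symm.mul_pow, hx2, one_mul] at this
    have hne : ¬ Commute (c₁ : G) (c₂ : G) := by
      intro hc
      apply P.hz
      rw [← P.hc, commutatorElement_eq_one_iff_commute]
      have h1 : Commute (P.x * (c₁ : G)) (P.y * c₂) := hAm _ hc₁ _ hc₂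
      have h2 : Commute (P.x * (c₁ : G) * (c₁ : G)⁻¹) (P.y * c₂ * (c₂ : G)⁻¹) := by
        have a1 : Commute (P.x * (c₁ : G)) (c₂ : G) := (hc₂x.symm).mul_left hc
        have a2 : Commute (c₁ : G) (P.y * (c₂ : G)) := hc₁y.mul_right hc
        exact ((h1.mul_right a1.inv_right).mul_left (a2.inv_left.mul_right ((hc.inv_left).inv_right)))
      rw [mul_inv_cancel_right, mul_inv_cancel_right] at h2
      exact h2.symm
    have hKcomm : ∀ k ∈ K, c₁ * k = k * c₁ := by
      intro k hk
      refine Subtype.ext ?_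
      have h1 : Commute (P.x * (c₁ : G)) (k : G) := hAm _ hc₁ _ hk
      have h2 : Commute P.x (k : G) := ((P.mem_C.mp k.2).1).symm
      have h3 := h2.inv_left.mul_left h1
      rw [inv_mul_cancel_left] at h3
      exact h3.eq
    have hcn : c₁ ∉ K := fun hk => hne (by
      have h1 : Commute (c₁ : G) (P.y * c₂) := hAm _ hk _ hc₂
      have h2 := hc₁y.inv_right.mul_right h1
      rwa [inv_mul_cancel_left] at h2)
    obtain ⟨B, hBc, hB, -, -, -, hcard⟩ := exists_bigger K hKc hK c₁ (Subtype.ext hc₁sq) hKcomm hcn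
    exact ⟨B, hBc, hB, by omega⟩

theorem classify : ∀ (m : ℕ) (G : Type u) [Group G] [Finite G], IsES 2 G → Nat.card G = 2 ^ (2 * m + 3) →
    ((Cfsg.PRankLE 2 (m + 1) G ∧ ¬ Cfsg.PRankLE 2 m G) ∨ (Cfsg.PRankLE 2 (m + 2) G ∧ ¬ Cfsg.PRankLE 2 (m + 1) G)) ∧
    ∀ (G' : Type v) [Group G'] [Finite G'], IsES 2 G' → Nat.card G' = 2 ^ (2 * m + 3) →
      (∀ k, Cfsg.PRankLE 2 k G ↔ Cfsg.PRankLE 2 k G') → Nonempty (G ≃* G') := by
  haveI : Fact (Nat.Prime 2) := ⟨Nat.prime_two⟩
  intro m
  induction m with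
  | zero =>
    intro G _ _ h hcard
    have h8 : Nat.card G = 8 := by rw [hcard]; norm_num
    have hcases : ∀ (H : Type u) [Group H] [Finite H], IsES 2 H → Nat.card H = 8 →
        ((∃ P : Pair 2 H, P.x ^ 2 = P.z ^ 0 ∧ P.y ^ 2 = P.z ^ 0) ∧ Cfsg.PRankLE 2 2 H ∧ ¬ Cfsg.PRankLE 2 1 H) ∨
        ((∃ P : Pair 2 H, P.x ^ 2 = P.z ^ 1 ∧ P.y ^ 2 = P.z ^ 1) ∧ Cfsg.PRankLE 2 1 H ∧ ¬ Cfsg.PRankLE 2 0 H) := by
      intro H _ _ hH hH8
      have hZ : ¬ Cfsg.PRankLE 2 0 H := fun hh => by
        have := hh (Subgroup.center H) inferInstance fun a ha => hH.pow_eq_one ha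
        rw [hH.card_center] at this
        norm_num at this
      rcases two_pair_cases hH (by omega) with ⟨P, hP⟩ | ⟨hinv, P, hP⟩
      · refine Or.inl ⟨⟨P, hP⟩, fun A hA _ => card_lt_of_elementary (k := 0) hH (by rw [hH8]; norm_num) A hA, ?_⟩
        rw [rank_step hH P hP 0]
        intro hh
        have := hh (Subgroup.center P.C) inferInstance fun a ha => (P.isES hH).pow_eq_one ha
        rw [(P.isES hH).card_center] at this
        norm_num at this
      · exact Or.inr ⟨⟨P, hP⟩, fun A _ hA => le_center_or_involution hH hinv hA, hZ⟩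
    refine ⟨?_, ?_⟩
    · rcases hcases G h h8 with ⟨-, a, b⟩ | ⟨-, a, b⟩
      · exact Or.inr ⟨a, b⟩
      · exact Or.inl ⟨a, b⟩
    · intro G' _ _ h' hcard' hiff
      have h8' : Nat.card G' = 8 := by rw [hcard']; norm_num
      have hZ : ∀ P : Pair 2 G, ∀ Q : Pair 2 G', Nonempty (P.C ≃* Q.C) := fun P Q =>
        equiv_of_card_two (card_C_eq_two h P h8) (card_C_eq_two h' Q h8')
      rcases two_pair_cases h (by omega) with ⟨P, hP⟩ | ⟨hinv, P, hP⟩ <;>
        rcases two_pair_cases h' (by omega) with ⟨Q, hQ⟩ | ⟨hinv', Q, hQ⟩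
      · exact glue_two h h' P Q hP hQ (hZ P Q)
      · exfalso
        have h1 : Cfsg.PRankLE 2 1 G := (hiff 1).mpr fun A _ hA => le_center_or_involution h' hinv' hA
        rw [rank_step h P hP 0] at h1
        have := h1 (Subgroup.center P.C) inferInstance fun a ha => (P.isES h).pow_eq_one ha
        rw [(P.isES h).card_center] at this
        norm_num at this
      · exfalso
        have h1 : Cfsg.PRankLE 2 1 G' := (hiff 1).mp fun A _ hA => le_center_or_involution h hinv hA
        rw [rank_step h' Q hQ 0] at h1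
        have := h1 (Subgroup.center Q.C) inferInstance fun a ha => (Q.isES h').pow_eq_one ha
        rw [(Q.isES h').card_center] at this
        norm_num at this
      · exact glue_two h h' P Q hP hQ (hZ P Q)
  | succ m ih =>
    intro G _ _ h hcard
    have hbig : 8 < 2 ^ (2 * (m + 1) + 3) :=
      lt_of_lt_of_le (by norm_num) (Nat.pow_le_pow_right (show 1 ≤ 2 by norm_num) (show 5 ≤ 2 * (m + 1) + 3 by omega))
    obtain ⟨P, hP⟩ := two_pair_of_large h (hcard ▸ hbig)
    have hC : Nat.card P.C = 2 ^ (2 * m + 3) := by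
      have := P.card_eq h
      rw [hcard, show 2 * (m + 1) + 3 = 2 + (2 * m + 3) by ring, pow_add] at this
      exact (Nat.eq_of_mul_eq_mul_left (by norm_num) this).symm
    obtain ⟨hr, hiso⟩ := ih P.C (P.isES h) hC
    refine ⟨?_, ?_⟩
    · rwa [rank_step h P hP, rank_step h P hP, rank_step h P hP]
    · intro G' _ _ h' hcard' hiff
      obtain ⟨Q, hQ⟩ := two_pair_of_large h' (hcard' ▸ hbig)
      have hC' : Nat.card Q.C = 2 ^ (2 * m + 3) := by
        have := Q.card_eq h'
        rw [hcard', show 2 * (m + 1) + 3 = 2 + (2 * m + 3) by ring, pow_add] at this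
        exact (Nat.eq_of_mul_eq_mul_left (by norm_num) this).symm
      exact glue_two h h' P Q hP hQ (hiso Q.C (Q.isES h') hC' fun k => by
        rw [← rank_step h P hP k, ← rank_step h' Q hQ k]; exact hiff (k + 1))

/-- Let E be an extraspecial 2-group of order 2^(2n+1). Then the largest elementary abelian subgroups of E have order 2^n or 2^(n+1); and two extraspecial 2-groups of the same order whose largest elementary abelian subgroups have the same order are isomorphic. -/
theorem result {E : Type*} [Group E] [Finite E] (hE : Cfsg.IsExtraspecial 2 E) (n : ℕ) (hn : Nat.card E = 2 ^ (2 * n + 1)) : ((Cfsg.PRankLE 2 n E ∧ ¬ Cfsg.PRankLE 2 (n - 1) E) ∨ (Cfsg.PRankLE 2 (n + 1) E ∧ ¬ Cfsg.PRankLE 2 n E)) ∧ ∀ (E' : Type*) [Group E'] [Finite E'], Cfsg.IsExtraspecial 2 E' → Nat.card E' = Nat.card E → (∀ k : ℕ, Cfsg.PRankLE 2 k E ↔ Cfsg.PRankLE 2 k E') → Nonempty (E ≃* E') := by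
  haveI : Fact (Nat.Prime 2) := ⟨Nat.prime_two⟩
  have h := Cfsg.Agent.PGroup.isES_of_isExtraspecial hE
  obtain ⟨m, rfl⟩ : ∃ m, n = m + 1 := by
    refine ⟨n - 1, ?_⟩
    rcases Nat.eq_zero_or_pos n with rfl | hpos
    · exfalso
      have hz := hE.2
      have h1 : Subgroup.center E = ⊤ := Subgroup.eq_top_of_card_eq _ (by rw [hz, hn]; norm_num)
      have h2 : commutator E = ⊥ := (commutator_eq_bot_iff_center_eq_top E).mpr h1
      rw [hE.1.2.2] at h2
      rw [h2, Subgroup.card_bot] at hz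
      norm_num at hz
    · omega
  obtain ⟨h1, -⟩ := classify.{_, 0} m E h (by rw [hn]; ring_nf)
  refine ⟨by simpa using h1, fun E' _ _ hE' hcard hiff => ?_⟩
  obtain ⟨-, h2⟩ := classify m E h (by rw [hn]; ring_nf)
  exact h2 E' (Cfsg.Agent.PGroup.isES_of_isExtraspecial hE') (by rw [hcard, hn]; ring_nf) hiff

end Cfsg.Agent.S3763
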