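import Cfsg.Statements.S3764
import Cfsg.Agent.EqLemmas
import Cfsg.Agent.Lib.HallHigman.FixedPointGroup
import Cfsg.Agent.Lib.Extraspecial.Basic

set_option autoImplicit false
open Cfsg
open scoped commutatorElement

namespace Cfsg.Agent.S3764

/-- Let p, q, r be distinct primes and let X, Q, V be subgroups of a finite group with X of order r, Q an extraspecial q-group normalized by X with C_Q(X) = Z(Q), and V an elementary abelian p-group normalized by X and Q on which XQ acts faithfully ((X ⊔ Q) ∩ C(V) = 1). If C_V(X) = 1, then q = 2, r = 2^n + 1 for some n, and Q has order 2^(2n+1). -/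
theorem result {G : Type*} [Group G] [Finite G] {p q r : ℕ} (hp : p.Prime) (hq : q.Prime) (hr : r.Prime) (hpq : p ≠ q) (hpr : p ≠ r) (hqr : q ≠ r) (X Q V : Subgroup G) (hX : Nat.card X = r) (hQ : Cfsg.IsExtraspecial q ↥Q) (hXQ : X ≤ Subgroup.normalizer (Q : Set G)) (hCQ : Q ⊓ Subgroup.centralizer (X : Set G) = (Subgroup.center ↥Q).map Q.subtype) (hV : Cfsg.IsElementaryAbelian p V) (hXV : X ≤ Subgroup.normalizer (V : Set G)) (hQV : Q ≤ Subgroup.normalizer (V : Set G)) (hfaith : (X ⊔ Q) ⊓ Subgroup.centralizer (V : Set G) = ⊥) (hCV : V ⊓ Subgroup.centralizer (X : Set G) = ⊥) : q = 2 ∧ ∃ n : ℕ, r = 2 ^ n + 1 ∧ Nat.card Q = 2 ^ (2 * n + 1) := by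
  haveI : Fact q.Prime := ⟨hq⟩
  obtain ⟨x, hxX, hxr, hx1⟩ := HallHigman.exists_zpowers_of_card_prime hr hX
  have hxm : x ∈ X := hxX ▸ Subgroup.mem_zpowers x
  have hQp : IsPGroup q Q := hQ.1.1
  set Z := (Subgroup.center ↥Q).map Q.subtype with hZ
  have hcC : ∀ a ∈ Q, ∀ b ∈ Q, ⁅a, b⁆ ∈ Z := fun a ha b hb =>
    ⟨⁅⟨a, ha⟩, ⟨b, hb⟩⁆, Extraspecial.commutatorElement_mem_center hQ _ _, rfl⟩
  have hZx : Z ≤ Subgroup.centralizer ({x} : Set G) := by
    rw [← HallHigman.centralizer_zpowers_eq, hxX, ← hCQ]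
    exact inf_le_right
  have hD : ⁅Q, Q⁆ ≤ Subgroup.centralizer ({x} : Set G) := by
    rw [Subgroup.commutator_le]
    exact fun a ha b hb => hZx (hcC a ha b hb)
  have hcop : (Nat.card X).Coprime (Nat.card Q) := by
    obtain ⟨e, he⟩ := IsPGroup.iff_card.mp hQp
    rw [hX, he]
    exact ((Nat.coprime_primes hr hq).mpr hqr.symm).pow_right e
  haveI : Fact r.Prime := ⟨hr⟩
  have hXs : Group.IsSolvable X :=
    Solvable.isSolvable_of_isPGroup (IsPGroup.of_card (p := r) (n := 1) (by rw [pow_one]; exact hX))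
  have hQA : ⁅Q, Subgroup.zpowers x⁆ = Q := by
    have h1 := Coprime.commutator_sup_centralizer hXQ hcop (Or.inl hXs)
    rw [hCQ] at h1
    have hle : ⁅Q, X⁆ ≤ Q := Coprime.commutator_le_left' hXQ
    have h2 : ⁅Q, X⁆.subgroupOf Q ⊔ Subgroup.center ↥Q = ⊤ := by
      apply Subgroup.map_injective Q.subtype_injective
      rw [Subgroup.map_sup, Subgroup.map_subgroupOf_eq_of_le hle, h1, ← MonoidHom.range_eq_map,
        Subgroup.range_subtype]
    rw [← hQ.1.2.1] at h2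
    have h3 := frattini_nongenerating h2
    rw [hxX]
    exact le_antisymm hle (fun g hg => by
      have : (⟨g, hg⟩ : Q) ∈ ⁅Q, X⁆.subgroupOf Q := h3 ▸ Subgroup.mem_top _
      exact this)
  obtain ⟨h1, h2, h3⟩ := HallHigman.critical_hyps (Subgroup.zpowers_le.mpr (hXQ hxm)) hQA hD
  have hZcard : Nat.card Z = q := by
    rw [hZ, Subgroup.card_map_of_injective Q.subtype_injective]
    exact hQ.2
  have hne : ¬ Q ≤ Subgroup.centralizer (V : Set G) := fun h => by
    have h5 : Q = ⊥ := le_bot_iff.mp (hfaith ▸ le_inf le_sup_right h)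
    have h6 : Z ≤ ⊥ := h5 ▸ Subgroup.map_subtype_le _
    rw [le_bot_iff.mp h6, Subgroup.card_bot] at hZcard
    exact hq.one_lt.ne hZcard
  rcases HallHigman.fixed_or_exceptional_group hp hq hr hpq hpr hqr hV (hXV hxm) hQV (hXQ hxm) hxr
    hQp h1 h2 h3 hne with h | ⟨hq2, m, -, hrm, -, N, ⟨a, ha, b, hb, hab⟩, K₀, k1, k2, k3, k4⟩
  · rw [← HallHigman.centralizer_zpowers_eq, hxX, hCV] at h
    exact absurd rfl h
  refine ⟨hq2, m, hrm, ?_⟩
  have hK₀ : K₀ = Z := by
    refine le_antisymm ?_ ?_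
    · intro k hk
      refine ⟨⟨k, k1 hk⟩, Subgroup.mem_center_iff.mpr fun g => ?_, rfl⟩
      by_contra hne'
      refine hab ?_
      have h5 : ⁅k, (g : G)⁆ ≠ 1 := fun h5 =>
        hne' (Subtype.ext (commutatorElement_eq_one_iff_commute.mp h5).eq.symm)
      have h6 : Subgroup.zpowers ⁅k, (g : G)⁆ = Z := by
        refine Subgroup.eq_of_le_of_card_ge (Subgroup.zpowers_le.mpr (hcC k (k1 hk) g g.2)) ?_
        rcases (Nat.dvd_prime hq).mp (hZcard ▸ Subgroup.orderOf_dvd_natCard Z (hcC k (k1 hk) g g.2))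
          with h7 | h7
        · exact absurd (orderOf_eq_one_iff.mp h7) h5
        · rw [hZcard, Nat.card_zpowers, h7]
      have h8 : Z ≤ N := h6 ▸ Subgroup.zpowers_le.mpr (k4 k hk g g.2)
      exact h8 (hcC a ha b hb)
    · rintro _ ⟨c, hc, rfl⟩
      exact k3 _ c.2 fun g hg =>
        congrArg Subtype.val (Subgroup.mem_center_iff.mp hc ⟨g, hg⟩).symm
  rw [hK₀] at k2
  have h9 := Subgroup.card_mul_index (Z.subgroupOf Q)
  rw [Nat.card_congr (Subgroup.subgroupOfEquivOfLe (Subgroup.map_subtype_le _ : Z ≤ Q)).toEquiv,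
    hZcard, hq2] at h9
  rw [← h9, show (Z.subgroupOf Q).index = 2 ^ m * 2 ^ m from k2]
  ring

end Cfsg.Agent.S3764
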