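import Cfsg.Statements.S3765
import Cfsg.Agent.EqLemmas
import Cfsg.Agent.Lib.HallHigman.FixedPointGroup

set_option autoImplicit false
open Cfsg

namespace Cfsg.Agent.S3765

/-- Let p, q, r be distinct primes and let X, Q, V be subgroups of a finite group with X of order r normalizing the q-group Q and acting faithfully on it (X ∩ C(Q) = 1), and V a nontrivial elementary abelian p-group normalized by X and Q on which XQ acts faithfully. If q = 2 and r has the form 2^n + 1, assume in addition that Q is abelian. Then C_V(X) ≠ 1. -/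
theorem result {G : Type*} [Group G] [Finite G] {p q r : ℕ} (hp : p.Prime) (hq : q.Prime) (hr : r.Prime) (hpq : p ≠ q) (hpr : p ≠ r) (hqr : q ≠ r) (X Q V : Subgroup G) (hX : Nat.card X = r) (hQ : IsPGroup q Q) (hXQ : X ≤ Subgroup.normalizer (Q : Set G)) (hXfaith : X ⊓ Subgroup.centralizer (Q : Set G) = ⊥) (hV : Cfsg.IsElementaryAbelian p V) (hV1 : V ≠ ⊥) (hXV : X ≤ Subgroup.normalizer (V : Set G)) (hQV : Q ≤ Subgroup.normalizer (V : Set G)) (hfaith : (X ⊔ Q) ⊓ Subgroup.centralizer (V : Set G) = ⊥) (hexc : q = 2 → (∃ n : ℕ, r = 2 ^ n + 1) → IsMulCommutative Q) : V ⊓ Subgroup.centralizer (X : Set G) ≠ ⊥ := by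
  haveI : Fact q.Prime := ⟨hq⟩
  haveI : Fact r.Prime := ⟨hr⟩
  obtain ⟨x, hxX, hxr, hx1⟩ := HallHigman.exists_zpowers_of_card_prime hr hX
  have hxm : x ∈ X := hxX ▸ Subgroup.mem_zpowers x
  have hy : x ^ r ^ 0 = x := by rw [pow_zero, pow_one]
  have hnc : ¬ Q ≤ Subgroup.centralizer ({x ^ r ^ 0} : Set G) := by
    rw [hy]
    intro h
    refine hx1 ?_
    have h1 : x ∈ X ⊓ Subgroup.centralizer (Q : Set G) :=
      ⟨hxm, Subgroup.mem_centralizer_iff.mpr fun g hg =>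
        Subgroup.mem_centralizer_singleton_iff.mp (h hg)⟩
    rwa [hXfaith, Subgroup.mem_bot] at h1
  obtain ⟨Q₁, hQ₁, hxQ₁, h1, h2, h3, h4⟩ := HallHigman.exists_critical_le x (p := r) (n := 0)
    (by rwa [zero_add, pow_one]) hqr hQ (hXQ hxm) hnc
  rw [hy] at h1 h2 h3
  have hne : ¬ Q₁ ≤ Subgroup.centralizer (V : Set G) := fun h =>
    h4 (le_bot_iff.mp (hfaith ▸ le_inf (hQ₁.trans le_sup_right) h))
  rcases HallHigman.fixed_or_exceptional_group hp hq hr hpq hpr hqr hV (hXV hxm) (hQ₁.trans hQV)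
    hxQ₁ hxr (hQ.to_le hQ₁) h1 h2 h3 hne with h | ⟨hq2, m, -, hrm, ⟨a, ha, b, hb, hab⟩, -⟩
  · rwa [← hxX, HallHigman.centralizer_zpowers_eq]
  · have hc := hexc hq2 ⟨m, hrm⟩
    exact absurd (congrArg Subtype.val (hc.is_comm.comm ⟨a, hQ₁ ha⟩ ⟨b, hQ₁ hb⟩)) hab

end Cfsg.Agent.S3765
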