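import Cfsg.Statements.S3766
import Cfsg.Agent.EqLemmas
import Cfsg.Agent.Lib.Cores.Fitting
import Cfsg.Agent.Lib.Solvable.Fitting
-- import your own Cfsg.Agent.* helpers here

set_option autoImplicit false
open Cfsg

open scoped commutatorElement

namespace Cfsg.Agent.S3766

/-- Let G be a finite solvable group and N a normal subgroup of G. Call a pair V < U of normal subgroups of G a chief factor of G when no normal subgroup of G lies strictly between them; an element g centralizes the chief factor U/V when u g u⁻¹ g⁻¹ ∈ V for all u ∈ U. Then an element of G lies in the Fitting subgroup F(N) if and only if it lies in N and centralizes every chief factor of G; and also if and only if it lies in N and centralizes every chief factor U/V of G with U ≤ F(N). -/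
theorem result {G : Type*} [Group G] [Finite G] (hG : Group.IsSolvable G) (N : Subgroup G) [N.Normal] (g : G) : (g ∈ (Cfsg.fittingSubgroup ↥N).map N.subtype ↔ g ∈ N ∧ ∀ U V : Subgroup G, (U.Normal ∧ V.Normal ∧ V < U ∧ ∀ W : Subgroup G, W.Normal → V ≤ W → W ≤ U → W = V ∨ W = U) → ∀ u ∈ U, u * g * u⁻¹ * g⁻¹ ∈ V) ∧ (g ∈ (Cfsg.fittingSubgroup ↥N).map N.subtype ↔ g ∈ N ∧ ∀ U V : Subgroup G, (U.Normal ∧ V.Normal ∧ V < U ∧ ∀ W : Subgroup G, W.Normal → V ≤ W → W ≤ U → W = V ∨ W = U) → U ≤ (Cfsg.fittingSubgroup ↥N).map N.subtype → ∀ u ∈ U, u * g * u⁻¹ * g⁻¹ ∈ V) := by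
  haveI := hG
  set F := (Cfsg.fittingSubgroup ↥N).map N.subtype with hF
  have hFG : F = Cfsg.fittingSubgroup G ⊓ N := Cfsg.Agent.Cores.fittingSubgroup_map_subtype N
  haveI hFn : F.Normal := hFG ▸ inferInstance
  have hC : ∀ x ∈ N, x ∈ Subgroup.centralizer (F : Set G) → x ∈ F := fun x hx hxC => by
    refine ⟨⟨x, hx⟩, Cfsg.Agent.Solvable.centralizer_fitting_le ↥N (Subgroup.mem_centralizer_iff.mpr fun y hy => ?_), rfl⟩
    exact Subtype.ext (Subgroup.mem_centralizer_iff.mp hxC y ⟨y, hy, rfl⟩)
  let Chief : Subgroup G → Subgroup G → Prop := fun U V =>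
    U.Normal ∧ V.Normal ∧ V < U ∧ ∀ W : Subgroup G, W.Normal → V ≤ W → W ≤ U → W = V ∨ W = U
  have hforw : g ∈ F → g ∈ N ∧ ∀ U V : Subgroup G, Chief U V → ∀ u ∈ U, u * g * u⁻¹ * g⁻¹ ∈ V := by
    intro hgF
    rw [hFG] at hgF
    refine ⟨hgF.2, ?_⟩
    rintro U V ⟨hU, hV, hlt, hmin⟩ u hu
    haveI := hV
    set π := QuotientGroup.mk' V with hπ
    have hsurj : Function.Surjective π := QuotientGroup.mk'_surjective V
    haveI : (U.map π).Normal := Subgroup.Normal.map hU _ hsurj
    have h := Cfsg.Agent.Cores.fitting_le_centralizer_minimalNormal (U.map π) (fun K hK hKU => by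
        rcases hmin (K.comap π) (hK.comap π) (by
            intro x hx
            rw [Subgroup.mem_comap, show π x = 1 from (QuotientGroup.eq_one_iff x).mpr hx]
            exact one_mem K) (by
            refine (Subgroup.comap_mono hKU).trans ?_
            rw [Subgroup.comap_map_eq, hπ, QuotientGroup.ker_mk']
            exact sup_le le_rfl hlt.le) with h | h
        · left
          rw [← Subgroup.map_comap_eq_self_of_surjective hsurj K, h, Subgroup.map_eq_bot_iff, hπ, QuotientGroup.ker_mk']
        · right
          rw [← Subgroup.map_comap_eq_self_of_surjective hsurj K, h])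
      (Cfsg.Agent.Cores.map_fittingSubgroup_le π hsurj ⟨g, hgF.1, rfl⟩)
    have h2 := Subgroup.mem_centralizer_iff.mp h (π u) ⟨u, hu, rfl⟩
    rw [← QuotientGroup.eq_one_iff]
    show π (u * g * u⁻¹ * g⁻¹) = 1
    rw [map_mul, map_mul, map_mul, map_inv, map_inv, h2]
    group
  have hback : g ∈ N → (∀ U V : Subgroup G, Chief U V → U ≤ F → ∀ u ∈ U, u * g * u⁻¹ * g⁻¹ ∈ V) → g ∈ F := by
    intro hgN hg
    -- a descending chief series through `F`
    have hnext : ∀ U : Subgroup G, U.Normal → U ≠ ⊥ → ∃ V, Chief U V := by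
      intro U hU hne
      obtain ⟨V, ⟨hV, hVU⟩, hmax⟩ := (Set.toFinite {V : Subgroup G | V.Normal ∧ V < U}).exists_maximal
        ⟨⊥, inferInstance, bot_lt_iff_ne_bot.mpr hne⟩
      refine ⟨V, hU, hV, hVU, fun W hW hVW hWU => ?_⟩
      by_cases h : W = U
      · exact Or.inr h
      · exact Or.inl (le_antisymm (hmax ⟨hW, lt_of_le_of_ne hWU h⟩ hVW) hVW)
    classical
    let step : Subgroup G → Subgroup G := fun U =>
      if h : U.Normal ∧ U ≠ ⊥ then (hnext U h.1 h.2).choose else ⊥
    let ser : ℕ → Subgroup G := fun k => step^[k] F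
    have hser : ∀ k, (ser k).Normal ∧ ser k ≤ F ∧ (ser k ≠ ⊥ → Chief (ser k) (ser (k + 1))) ∧
        ser (k + 1) ≤ ser k := by
      have hstep : ∀ U : Subgroup G, U.Normal → (U ≠ ⊥ → Chief U (step U)) ∧ (step U).Normal ∧ step U ≤ U := by
        intro U hU
        by_cases h : U ≠ ⊥
        · have he : step U = (hnext U hU h).choose := dif_pos ⟨hU, h⟩
          have hc := (hnext U hU h).choose_spec
          rw [← he] at hc
          exact ⟨fun _ => hc, hc.2.1, hc.2.2.1.le⟩
        · have he : step U = ⊥ := dif_neg fun h' => h h'.2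
          exact ⟨fun h' => absurd h' h, he ▸ inferInstance, he ▸ bot_le⟩
      intro k
      have hsucc : ∀ k, ser (k + 1) = step (ser k) := fun k => Function.iterate_succ_apply' step k F
      have hn : ∀ k, (ser k).Normal ∧ ser k ≤ F := by
        intro k
        induction k with
        | zero => exact ⟨hFn, le_rfl⟩
        | succ k ih => rw [hsucc]; exact ⟨(hstep _ ih.1).2.1, (hstep _ ih.1).2.2.trans ih.2⟩
      rw [hsucc]
      exact ⟨(hn k).1, (hn k).2, (hstep _ (hn k).1).1, (hstep _ (hn k).1).2.2⟩
    have hend : ∃ L, ser L = ⊥ := by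
      by_contra h
      push Not at h
      have hdec : ∀ k, Nat.card (ser k) + k ≤ Nat.card F := by
        intro k
        induction k with
        | zero => exact le_rfl
        | succ k ih =>
          have hlt : Nat.card (ser (k + 1)) < Nat.card (ser k) := by
            refine lt_of_le_of_ne (Subgroup.card_le_of_le (hser k).2.2.2) fun he => ?_
            exact ((hser k).2.2.1 (h k)).2.2.1.ne (Subgroup.eq_of_le_of_card_ge (hser k).2.2.2 he.ge)
          omega
      have := hdec (Nat.card F)
      have := Nat.card_pos (α := ser (Nat.card F))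
      omega
    obtain ⟨L, hL⟩ := hend
    let M : Subgroup G := N ⊓ ⨅ k : ℕ, Subgroup.comap (MulAut.conj (1 : G)).toMonoidHom
      ((Subgroup.centralizer (((ser k).map (QuotientGroup.mk' (ser (k + 1)).normalCore) : Subgroup _) : Set (G ⧸ (ser (k + 1)).normalCore))).comap
        (QuotientGroup.mk' (ser (k + 1)).normalCore))
    have hM : ∀ x, x ∈ M ↔ x ∈ N ∧ ∀ k, ∀ u ∈ ser k, ⁅u, x⁆ ∈ ser (k + 1) := by
      intro x
      simp only [M, Subgroup.mem_inf, Subgroup.mem_iInf, Subgroup.mem_comap]
      refine and_congr_right fun _ => forall_congr' fun k => ?_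
      haveI := (hser (k + 1)).1
      rw [show (MulAut.conj (1 : G)).toMonoidHom x = x by simp, Subgroup.mem_centralizer_iff]
      constructor
      · intro h u hu
        have h1 := h _ ⟨u, hu, rfl⟩
        rw [← Subgroup.normalCore_eq_self (ser (k + 1)), ← QuotientGroup.eq_one_iff]
        show QuotientGroup.mk' _ ⁅u, x⁆ = 1
        rw [map_commutatorElement, commutatorElement_eq_one_iff_mul_comm]
        exact h1
      · rintro h _ ⟨u, hu, rfl⟩
        have h1 := h u hu
        rw [← Subgroup.normalCore_eq_self (ser (k + 1)), ← QuotientGroup.eq_one_iff] at h1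
        replace h1 : QuotientGroup.mk' _ ⁅u, x⁆ = 1 := h1
        rw [map_commutatorElement, commutatorElement_eq_one_iff_mul_comm] at h1
        exact h1
    have hgM : g ∈ M := (hM g).mpr ⟨hgN, fun k u hu => by
      by_cases h : ser k = ⊥
      · rw [h, Subgroup.mem_bot] at hu
        rw [hu, commutatorElement_one_left]; exact one_mem _
      · exact hg _ _ ((hser k).2.2.1 h) (hser k).2.1 u hu⟩
    haveI hMn : M.Normal := by
      refine ⟨fun x hx a => ?_⟩
      obtain ⟨h1, h2⟩ := (hM x).mp hx
      refine (hM _).mpr ⟨(inferInstance : N.Normal).conj_mem x h1 a, fun k u hu => ?_⟩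
      have h3 := (hser (k + 1)).1.conj_mem _ (h2 k _ ((hser k).1.conj_mem u hu a⁻¹)) a
      rw [conjugate_commutatorElement] at h3
      simpa [mul_assoc] using h3
    have hstab : ∀ i k, ⁅ser k, M.lowerCentralSeries i⁆ ≤ ser (k + i + 1) := by
      intro i
      induction i with
      | zero =>
        intro k
        rw [Subgroup.lowerCentralSeries_zero, Subgroup.commutator_le]
        exact fun u hu x hx => ((hM x).mp hx).2 k u hu
      | succ i ih =>
        intro k
        rw [Subgroup.lowerCentralSeries_succ, Subgroup.commutator_comm]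
        set T := ser (k + (i + 1) + 1)
        haveI := (hser (k + (i + 1) + 1)).1
        have hker : ∀ {H : Subgroup G}, H ≤ T → H.map (QuotientGroup.mk' T) = ⊥ := fun h =>
          (Subgroup.map_eq_bot_iff _).mpr (by rwa [QuotientGroup.ker_mk'])
        have e : (⁅⁅M.lowerCentralSeries i, M⁆, ser k⁆).map (QuotientGroup.mk' T) = ⊥ := by
          rw [Subgroup.map_commutator, Subgroup.map_commutator]
          refine Subgroup.commutator_commutator_eq_bot_of_rotate ?_ ?_
          · rw [← Subgroup.map_commutator, ← Subgroup.map_commutator]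
            refine hker ((Subgroup.commutator_mono ?_ le_rfl).trans
              ((ih (k + 1)).trans (le_of_eq (by rw [show k + 1 + i + 1 = k + (i + 1) + 1 by omega]))))
            rw [Subgroup.commutator_comm]
            rw [Subgroup.commutator_le]
            exact fun u hu x hx => ((hM x).mp hx).2 k u hu
          · rw [← Subgroup.map_commutator, ← Subgroup.map_commutator]
            refine hker ((Subgroup.commutator_mono (ih k) le_rfl).trans ?_)
            rw [Subgroup.commutator_le]
            exact fun u hu x hx => ((hM x).mp hx).2 (k + i + 1) u hu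
        rwa [Subgroup.map_eq_bot_iff, QuotientGroup.ker_mk'] at e
    have hbot : ∀ k, L ≤ k → ser k = ⊥ := by
      intro k hk
      induction k, hk using Nat.le_induction with
      | base => exact hL
      | succ k _ ih => exact le_bot_iff.mp ((hser k).2.2.2.trans ih.le)
    have hγ : M.lowerCentralSeries L ≤ F := by
      intro x hx
      refine hC x ((hM x).mp (Subgroup.lowerCentralSeries_le_self M L hx)).1 (Subgroup.mem_centralizer_iff.mpr fun u hu => ?_)
      have h1 := hstab L 0 (Subgroup.commutator_mem_commutator (show u ∈ ser 0 from hu) hx)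
      rw [hbot _ (by omega), Subgroup.mem_bot, commutatorElement_eq_one_iff_mul_comm] at h1
      exact h1
    have hdown : ∀ j, M.lowerCentralSeries (L + j) ≤ ser j := by
      intro j
      induction j with
      | zero => exact hγ
      | succ j ih =>
        rw [← add_assoc, Subgroup.lowerCentralSeries_succ]
        refine (Subgroup.commutator_mono ih le_rfl).trans ?_
        rw [Subgroup.commutator_le]
        exact fun u hu x hx => ((hM x).mp hx).2 j u hu
    have hnil : Group.IsNilpotent M :=
      Subgroup.isNilpotent_of_lowerCentralSeries_eq_bot (n := L + L) (le_bot_iff.mp ((hdown L).trans hL.le))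
    rw [hFG]
    exact ⟨Cfsg.Agent.Cores.le_fittingSubgroup hMn hnil hgM, hgN⟩
  exact ⟨⟨hforw, fun h => hback h.1 fun U V hUV _ => h.2 U V hUV⟩,
    ⟨fun h => ⟨(hforw h).1, fun U V hUV _ => (hforw h).2 U V hUV⟩, fun h => hback h.1 h.2⟩⟩

end Cfsg.Agent.S3766
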