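import Cfsg.Statements.S3767
import Cfsg.Agent.Lib.Extraspecial.FpfCyclic

set_option autoImplicit false
open Cfsg

namespace Cfsg.Agent.S3767

/-- Let P be an extraspecial p-group of order p^(2n+1) and H a cyclic group of order h prime to p acting on P (inside a common finite group: H normalizes P) so that C_P(x) = Z(P) for every non-identity x ∈ H. Then h divides p^n + 1 or h divides p^n − 1. -/
theorem result {G : Type*} [Group G] [Finite G] {p : ℕ} [Fact p.Prime] (P H : Subgroup G) (hP : Cfsg.IsExtraspecial p ↥P) (n : ℕ) (hn : Nat.card P = p ^ (2 * n + 1)) (hH : IsCyclic H) (hcop : (Nat.card H).Coprime p) (hHP : H ≤ Subgroup.normalizer (P : Set G)) (hfix : ∀ x ∈ H, x ≠ 1 → P ⊓ Subgroup.centralizer {x} = (Subgroup.center ↥P).map P.subtype) : Nat.card H ∣ p ^ n + 1 ∨ Nat.card H ∣ p ^ n - 1 := by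
  classical
  obtain ⟨⟨g, hgH⟩, hgen⟩ := hH.exists_generator
  have hHeq : Subgroup.zpowers g = H := le_antisymm (Subgroup.zpowers_le.mpr hgH) fun x hx => by
    obtain ⟨i, hi⟩ := Subgroup.mem_zpowers_iff.mp (hgen ⟨x, hx⟩)
    exact Subgroup.mem_zpowers_iff.mpr ⟨i, by simpa using congrArg Subtype.val hi⟩
  have hh : orderOf g = Nat.card H := by rw [← Nat.card_zpowers, hHeq]
  by_cases h1 : Nat.card H = 1
  · rw [h1]; exact Or.inl (one_dvd _)
  have hcenfix : ∀ u : ↥P, u ∈ Subgroup.center ↥P → g * (u : G) = u * g := fun u hu => by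
    have hg1 : g ≠ 1 := fun e => h1 (by rw [← hh, e, orderOf_one])
    have h2 : (u : G) ∈ P ⊓ Subgroup.centralizer {g} := by
      rw [hfix g hgH hg1]
      exact ⟨u, hu, rfl⟩
    exact (Subgroup.mem_centralizer_singleton_iff.mp h2.2).symm
  let φ : MulAut ↥P := P.normalizerMonoidHom ⟨g, hHP hgH⟩
  have hφ : ∀ (k : ℕ) (u : ↥P), (((φ ^ k) u : ↥P) : G) = g ^ k * u * (g ^ k)⁻¹ := by
    intro k u
    rw [← map_pow]
    rfl
  refine Cfsg.Agent.Extraspecial.dvd_pow_pm hP hn φ Nat.card_pos hcop ?_ ?_ ?_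
  · ext u
    rw [hφ, ← hh, pow_orderOf_eq_one]
    simp
  · intro k hk u hu
    have hgk : g ^ k ≠ 1 := fun e => hk (hh ▸ orderOf_dvd_of_pow_eq_one e)
    have h3 : (u : G) ∈ P ⊓ Subgroup.centralizer {g ^ k} := ⟨u.2, by
      refine Subgroup.mem_centralizer_singleton_iff.mpr ?_
      have := congrArg Subtype.val hu
      rw [hφ, mul_inv_eq_iff_eq_mul] at this
      exact this.symm⟩
    rw [hfix _ (pow_mem hgH k) hgk] at h3
    obtain ⟨v, hv, e⟩ := h3
    rwa [← Subtype.ext e]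
  · intro u hu
    refine Subtype.ext ?_
    rw [← pow_one φ, hφ, pow_one, hcenfix u hu, mul_inv_cancel_right]


end Cfsg.Agent.S3767
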