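import Cfsg.Statements.S3768
import Cfsg.Agent.EqLemmas
import Cfsg.Agent.Lib.Frobenius.Basic
import Cfsg.Agent.Lib.Frobenius.Kernel
-- import your own Cfsg.Agent.* helpers here

set_option autoImplicit false
open Cfsg

namespace Cfsg.Agent.S3768

/-- Let G be a finite Frobenius group with Frobenius complement R and Frobenius kernel K (the identity together with the elements in no conjugate of R), and let N be a normal subgroup of G not containing K. Then G/N is a Frobenius group with Frobenius complement RN/N whose Frobenius kernel is the image of K. -/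
theorem result {G : Type*} [Group G] [Finite G] (R : Subgroup G) (hR : Cfsg.IsFrobeniusComplement R) (N : Subgroup G) [N.Normal] (hKN : ¬ Cfsg.frobeniusKernel R ⊆ N) : Cfsg.IsFrobeniusComplement (R.map (QuotientGroup.mk' N)) ∧ Cfsg.frobeniusKernel (R.map (QuotientGroup.mk' N)) = QuotientGroup.mk' N '' Cfsg.frobeniusKernel R := by
  set K := Cfsg.Agent.Frobenius.frobKernel hR
  haveI hKn : K.Normal := Cfsg.Agent.Frobenius.frobKernel_normal hR
  have hc := Cfsg.Agent.Frobenius.frobKernel_isComplement hR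
  have hf := Cfsg.Agent.Frobenius.fpf_frobKernel hR
  have hKc : (K : Set G) = Cfsg.frobeniusKernel R := Cfsg.Agent.Frobenius.coe_frobKernel hR
  have hKN' : ¬ K ≤ N := fun h => hKN (hKc ▸ SetLike.coe_subset_coe.mpr h)
  have hNK : N ≤ K := by
    intro x hxN
    by_contra hxK
    obtain ⟨k, -, hkR⟩ := hf.exists_conj_mem hc hxK
    have hN' : k⁻¹ * x * k ∈ N := by simpa using (inferInstance : N.Normal).conj_mem x hxN k⁻¹
    have hne : k⁻¹ * x * k ≠ 1 := fun h => hxK (by
      have : x = 1 := by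
        have := congrArg (fun y => k * y * k⁻¹) h
        simpa [mul_assoc] using this
      rw [this]; exact one_mem _)
    refine hKN' fun k₀ hk₀ => ?_
    obtain ⟨l, -, hl⟩ := hf.exists_conj hkR hne (by rw [Subgroup.normalizer_eq_top]; trivial) hk₀
    have h1 : k₀ * (k⁻¹ * x * k) ∈ N := hl ▸ (inferInstance : N.Normal).conj_mem _ hN' l
    have h2 := N.mul_mem h1 (N.inv_mem hN')
    rwa [mul_inv_cancel_right] at h2
  set π := QuotientGroup.mk' N with hπ
  have hker : π.ker = N := QuotientGroup.ker_mk' N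
  have hfpf : Cfsg.Agent.Frobenius.FPF (R.map π) (K.map π) := by
    rintro _ ⟨a, ha, rfl⟩ ha1 _ ⟨k, hk, rfl⟩ he
    have ha1' : a ≠ 1 := fun h => ha1 (by rw [h, map_one])
    have hn : k * a * k⁻¹ * a⁻¹ ∈ N := by
      rw [← hker, MonoidHom.mem_ker, map_mul, map_mul, map_mul, map_inv, map_inv, ← he]
      group
    obtain ⟨l, hl, hle⟩ := (hf.mono le_rfl hNK).exists_conj ha ha1' (by rw [Subgroup.normalizer_eq_top]; trivial) hn
    rw [inv_mul_cancel_right] at hle
    have : l⁻¹ * k = 1 := hf a ha ha1' _ (K.mul_mem (K.inv_mem (hNK hl)) hk) (by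
      calc a * (l⁻¹ * k) = l⁻¹ * (l * a * l⁻¹) * k := by group
        _ = l⁻¹ * k * a := by rw [hle]; group)
    rw [← MonoidHom.mem_ker, hker, ← inv_mul_eq_one.mp this]
    exact hl
  have hK1 : K.map π ≠ ⊥ := by
    rw [Ne, Subgroup.map_eq_bot_iff, hker]; exact hKN'
  have hR1 : R.map π ≠ ⊥ := by
    rw [Ne, Subgroup.map_eq_bot_iff, hker]
    intro h
    refine hR.1 (le_bot_iff.mp ?_)
    exact (le_inf (h.trans hNK) le_rfl).trans hc.disjoint.le_bot
  haveI : (K.map π).Normal := Subgroup.Normal.map hKn _ (QuotientGroup.mk'_surjective N)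
  have hc' : Subgroup.IsComplement' (K.map π) (R.map π) := by
    refine Subgroup.isComplement'_of_disjoint_and_mul_eq_univ
      (disjoint_iff.mpr hfpf.inf_eq_bot) ?_
    rw [Set.eq_univ_iff_forall]
    intro q
    obtain ⟨g, rfl⟩ := QuotientGroup.mk'_surjective N q
    obtain ⟨⟨⟨k, hk⟩, ⟨r, hr⟩⟩, he, -⟩ := hc.existsUnique g
    exact ⟨π k, ⟨k, hk, rfl⟩, π r, ⟨r, hr, rfl⟩, by rw [← he]; exact (map_mul π k r).symm⟩
  have hF := hfpf.isFrobeniusComplement hc' hK1 hR1
  refine ⟨hF, ?_⟩
  rw [← Cfsg.Agent.Frobenius.kernel_eq_of_normal_complement hF hc', ← hKc]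
  exact Subgroup.coe_map π K

end Cfsg.Agent.S3768
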