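import Cfsg.Statements.S3769
import Cfsg.Agent.Lib.HallHigman.PrimeOrderGroup
import Cfsg.Agent.EqLemmas

set_option autoImplicit false
open Cfsg

namespace Cfsg.Agent.S3769

/-- Let G and V be subgroups of a finite group with G solvable of odd order normalizing V, V an elementary abelian ℓ-group for a prime ℓ not dividing the order of G, and suppose G has a normal Hall subgroup K with a complement R of prime order. If C_V(R) = 1, then [R, K] centralizes V. -/
theorem result {X : Type*} [Group X] [Finite X] (G : Subgroup X) (hsolv : Group.IsSolvable G) (hodd : Odd (Nat.card G)) (V : Subgroup X) {ℓ : ℕ} (hℓ : ℓ.Prime) (hV : Cfsg.IsElementaryAbelian ℓ V) (hℓG : ¬ ℓ ∣ Nat.card G) (hGV : G ≤ Subgroup.normalizer (V : Set X)) (K R : Subgroup X) (hKG : K ≤ G) (hKn : G ≤ Subgroup.normalizer (K : Set X)) (hHall : (Nat.card K).Coprime (K.relIndex G)) (hRG : R ≤ G) (hR : (Nat.card R).Prime) (hKR : K ⊓ R = ⊥) (hKRG : K ⊔ R = G) (hCV : V ⊓ Subgroup.centralizer (R : Set X) = ⊥) : ⁅R, K⁆ ≤ Subgroup.centralizer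 (V : Set X) := by
  classical
  have : Fact (Nat.card R).Prime := ⟨hR⟩
  have hsolvK : Group.IsSolvable K := Coprime.isSolvable_of_le hKG hsolv
  have hrel : K.relIndex G = Nat.card R := by
    have h2 : Nat.card ↥(K ⊔ R) = Nat.card K * Nat.card R := by
      rw [← Subgroup.IsComplement'.card_mul (H := K.subgroupOf (K ⊔ R))
        (K := R.subgroupOf (K ⊔ R)), Cores.card_subgroupOf le_sup_left,
        Cores.card_subgroupOf le_sup_right]
      · refine Subgroup.isComplement'_of_disjoint_and_mul_eq_univ ?_ ?_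
        · rw [disjoint_iff, Subgroup.subgroupOf, Subgroup.subgroupOf, ← Subgroup.comap_inf, hKR]
          exact Subgroup.bot_subgroupOf _
        · refine Set.eq_univ_of_forall fun y => ?_
          obtain ⟨k, hk, t, ht, e⟩ := (Coprime.mem_sup_iff ((hRG).trans hKn)).1 y.2
          exact ⟨⟨k, Subgroup.mem_sup_left hk⟩, hk, ⟨t, Subgroup.mem_sup_right ht⟩, ht, Subtype.ext e⟩
    have h3 := Subgroup.card_mul_index (K.subgroupOf G)
    rw [Cores.card_subgroupOf hKG] at h3
    rw [hKRG] at h2
    rw [h2] at h3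
    exact Nat.eq_of_mul_eq_mul_left Nat.card_pos h3
  refine HallHigman.commutator_le_centralizer_of_fpf_coprime hℓ
    (fun h => hℓG (h ▸ Subgroup.card_dvd_of_le hRG)) rfl hsolvK
    (hodd.of_dvd_nat (Subgroup.card_dvd_of_le hKG)) (fun hd => ?_)
    (fun hd => hℓG (hd.trans (Subgroup.card_dvd_of_le hKG))) hV (hRG.trans hGV) (hKG.trans hGV)
    (hRG.trans hKn) hCV
  rw [hrel] at hHall
  exact hR.one_lt.ne' (Nat.eq_one_of_dvd_coprimes hHall hd dvd_rfl)

end Cfsg.Agent.S3769
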