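import Cfsg.Statements.S3770
import Cfsg.Agent.EqLemmas
import Cfsg.Agent.Lib.FPF.Kernel
import Cfsg.Agent.Lib.HallHigman.FixedPointGroup
import Cfsg.Agent.Lib.HallHigman.FrobeniusLine

set_option autoImplicit false
open Cfsg
open scoped commutatorElement

namespace Cfsg.Agent.S3770

/-- Let G and V be subgroups of a finite group with G a Frobenius group with complement R of prime order and kernel K, G normalizing V, and V an elementary abelian ℓ-group for a prime ℓ not dividing the order of G. If C_V(R) has order ℓ, then the derived subgroup of K centralizes V. -/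
theorem result {X : Type*} [Group X] [Finite X] (G : Subgroup X) (V : Subgroup X) {ℓ : ℕ} (hℓ : ℓ.Prime) (hV : Cfsg.IsElementaryAbelian ℓ V) (hℓG : ¬ ℓ ∣ Nat.card G) (hGV : G ≤ Subgroup.normalizer (V : Set X)) (R : Subgroup ↥G) (hR : Cfsg.IsFrobeniusComplement R) (hRp : (Nat.card R).Prime) (hCV : Nat.card ↥(V ⊓ Subgroup.centralizer ((R.map G.subtype : Subgroup X) : Set X)) = ℓ) : ⁅Subgroup.closure (Subtype.val '' Cfsg.frobeniusKernel R), Subgroup.closure (Subtype.val '' Cfsg.frobeniusKernel R)⁆ ≤ Subgroup.centralizer (V : Set X) := by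
  classical
  have : Fact ℓ.Prime := ⟨hℓ⟩
  obtain ⟨x, hxR, hxr, hx1⟩ := HallHigman.exists_zpowers_of_card_prime hRp (X := R) rfl
  have hxm : x ∈ R := hxR ▸ Subgroup.mem_zpowers x
  let r := Nat.card R
  obtain ⟨W, _, _, _, π, ρ₀, hπ, hπ1, hρ₀⟩ := HallHigman.exists_module_of_normalized V hV
  have : FiniteDimensional (ZMod ℓ) W := Module.Finite.of_finite
  let ρ : G →* Module.End (ZMod ℓ) W := ρ₀.comp (Subgroup.inclusion hGV)
  have hact : ∀ (g : G) (v : V) (w : G → V → V), (∀ g v, (w g v : X) = g * v * (g : X)⁻¹) →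
      ρ g (π v) = π (w g v) := fun g v w hw => by
    show ρ₀ (Subgroup.inclusion hGV g) (π v) = _
    rw [hρ₀]
    exact congrArg π (Subtype.ext (hw g v).symm)
  let conjV : G → V → V := fun g v =>
    ⟨g * v * (g : X)⁻¹, (Subgroup.mem_normalizer_iff.mp (hGV g.2) v).mp v.2⟩
  have hρ : ∀ g v, ρ g (π v) = π (conjV g v) := fun g v => hact g v conjV fun _ _ => rfl
  let CR : Subgroup X := V ⊓ Subgroup.centralizer ((R.map G.subtype : Subgroup X) : Set X)
  let Fx : Submodule (ZMod ℓ) W := LinearMap.ker (ρ x - 1)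
  have hFx : ∀ w, w ∈ Fx ↔ ρ x w = w := fun w => by
    rw [LinearMap.mem_ker, LinearMap.sub_apply, sub_eq_zero]; rfl
  have hcardFx : Nat.card Fx = ℓ := by
    refine Eq.trans ?_ hCV
    refine (Nat.card_congr (Equiv.ofBijective (fun c : CR => (⟨π ⟨c, c.2.1⟩, ?_⟩ : Fx)) ⟨?_, ?_⟩)).symm
    · rw [hFx, hρ]
      refine congrArg π (Subtype.ext ?_)
      show (x : X) * c * (x : X)⁻¹ = c
      rw [Subgroup.mem_centralizer_iff.mp c.2.2 (x : X) ⟨x, hxm, rfl⟩, mul_inv_cancel_right]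
    · intro c c' h
      exact Subtype.ext (congrArg (fun v : V => (v : X)) (hπ.1 (congrArg Subtype.val h)))
    · rintro ⟨w, hw⟩
      obtain ⟨v, rfl⟩ := hπ.2 w
      rw [hFx, hρ] at hw
      have h1 : (x : X) * v * (x : X)⁻¹ = v := congrArg Subtype.val (hπ.1 hw)
      refine ⟨⟨v, v.2, ?_⟩, rfl⟩
      refine Subgroup.mem_centralizer_iff.mpr ?_
      rintro _ ⟨y, hy, rfl⟩
      obtain ⟨k, rfl⟩ := Subgroup.mem_zpowers_iff.mp (hxR.symm ▸ hy : y ∈ Subgroup.zpowers x)
      have hc : Commute (x : X) v := mul_inv_eq_iff_eq_mul.mp h1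
      simpa using (hc.zpow_left k).eq
  have hFne : Fx ≠ ⊥ := fun h => by
    rw [h, Nat.card_unique] at hcardFx
    exact hℓ.ne_one hcardFx.symm
  obtain ⟨u, hu, hu0⟩ := (Submodule.ne_bot_iff Fx).mp hFne
  have hline : ∀ w ∈ Fx, ∃ c : ZMod ℓ, w = c • u := by
    intro w hw
    have h1 : Submodule.span (ZMod ℓ) {u} ≤ Fx := (Submodule.span_singleton_le_iff_mem u Fx).mpr hu
    have h2 : Module.finrank (ZMod ℓ) Fx = 1 := by
      have h3 := Module.natCard_eq_pow_finrank (K := ZMod ℓ) (V := Fx)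
      rw [hcardFx, Nat.card_zmod] at h3
      exact (Nat.pow_eq_self_iff hℓ.one_lt).mp h3.symm
    have h4 := Submodule.eq_of_le_of_finrank_eq h1 (by rw [finrank_span_singleton hu0, h2])
    rw [← h4, Submodule.mem_span_singleton] at hw
    exact hw.imp fun c hc => hc.symm
  have hxmul : ∀ g h : G, ∀ w, ρ (g * h) w = ρ g (ρ h w) := fun g h w => by
    rw [map_mul, Module.End.mul_apply]
  have hrange : ∀ v, ∃ c : ZMod ℓ, (∑ i ∈ Finset.range r, ρ (x ^ i)) v = c • u := by
    intro v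
    refine hline _ ((hFx _).mpr ?_)
    simp only [LinearMap.sum_apply, map_sum, ← hxmul, ← pow_succ']
    have h1 := Finset.sum_range_succ' (fun i => ρ (x ^ i) v) r
    have h2 := Finset.sum_range_succ (fun i => ρ (x ^ i) v) r
    rw [h1, hxr, pow_zero] at h2
    exact add_right_cancel h2
  have hrℓ : (r : ZMod ℓ) ≠ 0 := fun h =>
    hℓG (((ZMod.natCast_eq_zero_iff _ _).mp h).trans (Subgroup.card_subgroup_dvd_card R))
  obtain ⟨k, _, _, _, d, σ, u', hσ, hσline⟩ :=
    HallHigman.exists_algClosed_rep_line (p := ℓ) ρ x r hrℓ u hrange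
  have hG0 : (Nat.card G : k) ≠ 0 := fun h => hℓG ((CharP.cast_eq_zero_iff k ℓ _).mp h)
  let K := Frobenius.frobKernel hR
  have hKn : K.Normal := Frobenius.frobKernel_normal hR
  have hKnil : Group.IsNilpotent K := FPF.isNilpotent_frobKernel hR
  have hfpf : ∀ g ∈ K, Commute x g → g = 1 := fun g hg hc =>
    Frobenius.fpf_frobKernel hR x hxm hx1 g hg hc.eq
  have key := HallHigman.commutator_trivial_of_fixed_line σ hG0 K x hRp hxr hfpf u' hσline
  have hKset : Subgroup.closure (Subtype.val '' Cfsg.frobeniusKernel R) = K.map G.subtype := by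
    rw [← Frobenius.coe_frobKernel hR, ← Subgroup.closure_eq (K.map G.subtype)]
    rfl
  rw [hKset, Subgroup.commutator_le]
  rintro _ ⟨a, ha, rfl⟩ _ ⟨b, hb, rfl⟩
  refine Subgroup.mem_centralizer_iff.mpr fun v hv => ?_
  have h1 := hρ ⁅a, b⁆ ⟨v, hv⟩
  rw [hσ _ (key a ha b hb), Module.End.one_apply] at h1
  have h2 : v = (⁅a, b⁆ : G) * v * ((⁅a, b⁆ : G) : X)⁻¹ := congrArg Subtype.val (hπ.1 h1)
  have h3 : G.subtype ⁅a, b⁆ = ⁅(a : X), (b : X)⁆ := map_commutatorElement _ _ _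
  show v * ⁅(a : X), (b : X)⁆ = ⁅(a : X), (b : X)⁆ * v
  rw [← h3]
  conv_lhs => rw [h2]
  exact inv_mul_cancel_right _ _

end Cfsg.Agent.S3770
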