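import Cfsg.Statements.S3771
import Cfsg.Agent.EqLemmas
import Cfsg.Agent.Lib.PGroup.NormalAbelian

set_option autoImplicit false
open Cfsg

namespace Cfsg.Agent.S3771

/-- Let p be a prime and R a finite p-group of p-rank at most 2 (no elementary abelian subgroup of order p³) in which every element has order dividing p. Then R has order at most p³. -/
theorem result {R : Type*} [Group R] [Finite R] {p : ℕ} [Fact p.Prime] (hR : IsPGroup p R) (hrank : Cfsg.PRankLE p 2 R) (hexp : ∀ x : R, x ^ p = 1) : Nat.card R ≤ p ^ 3 := by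
  obtain ⟨A, -, hAn, hAc, hAe, hmax⟩ := Cfsg.Agent.PGroup.exists_maximal_normal_elementary (p := p) (⊥ : Subgroup R)
    inferInstance (fun a ha b hb => by rw [Subgroup.mem_bot] at ha hb; rw [ha, hb]) (fun a _ => hexp a)
  haveI := hAn
  have hC : Subgroup.centralizer (A : Set R) = A :=
    Cfsg.Agent.PGroup.centralizer_eq_of_maximal_normal_abelian hR hAc
      (fun B hB hBc hle => hmax B hB hBc (fun b _ => hexp b) hle)
  obtain ⟨a, ha⟩ := IsPGroup.iff_card.mp (hR.to_subgroup A)
  have hp : p.Prime := Fact.out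
  have ha2 : a ≤ 2 := (Nat.pow_le_pow_iff_right hp.one_lt).mp (ha ▸ hrank A
    ⟨⟨fun x y => Subtype.ext (hAc _ x.2 _ y.2)⟩⟩ hAe)
  have hi := Cfsg.Agent.PGroup.index_centralizer_le hR a A hAn ha
  rw [hC] at hi
  calc Nat.card R = Nat.card A * A.index := (A.card_mul_index).symm
    _ ≤ p ^ a * p ^ (a * (a - 1) / 2) := Nat.mul_le_mul ha.le hi
    _ = p ^ (a + a * (a - 1) / 2) := (pow_add _ _ _).symm
    _ ≤ p ^ 3 := Nat.pow_le_pow_right hp.pos (by interval_cases a <;> norm_num)

end Cfsg.Agent.S3771
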