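import Cfsg.Statements.S3772
import Cfsg.Agent.EqLemmas
import Cfsg.Agent.Lib.PGroup.Basic
-- import your own Cfsg.Agent.* helpers here

set_option autoImplicit false
open Cfsg

open scoped commutatorElement

namespace Cfsg.Agent.S3772

/-- Let G be a finite 2-group whose Frattini subgroup Φ(G) has order 2, with |G : Φ(G)| = 2^d, and let j be the number of elements x of G with x² = 1. Then j = 2^d, or j = 2^d + 2^(d−r) or j = 2^d − 2^(d−r) for some positive integer r with 2r ≤ d. Moreover if d = 2r and j is 2^d + 2^r or 2^d − 2^r, then G is extraspecial. -/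
theorem result {G : Type*} [Group G] [Finite G] (hG : IsPGroup 2 G) (hΦ : Nat.card (frattini G) = 2) (d : ℕ) (hd : (frattini G).index = 2 ^ d) : (Nat.card {x : G // x ^ 2 = 1} = 2 ^ d ∨ ∃ r : ℕ, 1 ≤ r ∧ 2 * r ≤ d ∧ (Nat.card {x : G // x ^ 2 = 1} = 2 ^ d + 2 ^ (d - r) ∨ Nat.card {x : G // x ^ 2 = 1} + 2 ^ (d - r) = 2 ^ d)) ∧ (∀ r : ℕ, d = 2 * r → (Nat.card {x : G // x ^ 2 = 1} = 2 ^ d + 2 ^ r ∨ Nat.card {x : G // x ^ 2 = 1} + 2 ^ r = 2 ^ d) → Cfsg.IsExtraspecial 2 G) := by
  classical
  haveI := Fintype.ofFinite G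
  set Φ := frattini G with hΦdef
  have hΦZ : Φ ≤ Subgroup.center G := Cfsg.Agent.PGroup.le_center_of_card_eq hG hΦ
  have hsq : ∀ x : G, x * x ∈ Φ := fun x => (pow_two x) ▸ Cfsg.Agent.PGroup.pow_mem_frattini hG x
  have hcm : ∀ x y : G, ⁅x, y⁆ ∈ Φ := Cfsg.Agent.PGroup.commutatorElement_mem_frattini hG
  have hmul2 : ∀ a ∈ Φ, ∀ b ∈ Φ, a ≠ 1 → b ≠ 1 → a = b := by
    intro a ha b hb ha1 hb1
    by_contra hne
    have h3 : 3 ≤ Nat.card Φ := by
      rw [Nat.card_eq_fintype_card]
      refine le_trans ?_ (Finset.card_le_univ ({⟨1, Φ.one_mem⟩, ⟨a, ha⟩, ⟨b, hb⟩} : Finset Φ))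
      rw [Finset.card_eq_three.mpr ⟨_, _, _, fun h => ha1 (congrArg Subtype.val h).symm,
        fun h => hb1 (congrArg Subtype.val h).symm, fun h => hne (congrArg Subtype.val h), rfl⟩]
    omega
  let sg : G → ℤ := fun k => if k = 1 then 1 else -1
  have hsgmul : ∀ a ∈ Φ, ∀ b ∈ Φ, sg (a * b) = sg a * sg b := by
    intro a ha b hb
    by_cases ha1 : a = 1
    · simp [sg, ha1]
    by_cases hb1 : b = 1
    · simp [sg, hb1]
    have hab : a * b = 1 := by
      by_contra h
      exact hb1 (mul_left_cancel ((hmul2 _ (Φ.mul_mem ha hb) _ ha h ha1).trans (mul_one a).symm))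
    simp [sg, ha1, hb1, hab]
  have hsgsq : ∀ k, sg k * sg k = 1 := fun k => by simp only [sg]; split_ifs <;> rfl
  let χ : G → ℤ := fun x => sg (x * x)
  have hcen : ∀ k ∈ Φ, ∀ g : G, g * k = k * g := fun k hk g => Subgroup.mem_center_iff.mp (hΦZ hk) g
  have hχmul : ∀ x a, χ (x * a) = χ x * χ a * sg ⁅a, x⁆ := by
    intro x a
    have h1 : x * a * (x * a) = x * x * (a * a) * ⁅a, x⁆ := by
      calc x * a * (x * a) = x * (⁅a, x⁆ * (x * a)) * a := by simp only [commutatorElement_def]; group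
        _ = x * ((x * a) * ⁅a, x⁆) * a := by rw [← hcen _ (hcm a x) (x * a)]
        _ = x * x * a * (⁅a, x⁆ * a) := by group
        _ = x * x * (a * a) * ⁅a, x⁆ := by rw [← hcen _ (hcm a x) a]; group
    show sg (x * a * (x * a)) = _
    rw [h1, hsgmul _ (Φ.mul_mem (hsq x) (hsq a)) _ (hcm a x), hsgmul _ (hsq x) _ (hsq a)]
  have hlin : ∀ a x y : G, sg ⁅a, x * y⁆ = sg ⁅a, x⁆ * sg ⁅a, y⁆ := by
    intro a x y
    rw [show ⁅a, x * y⁆ = ⁅a, x⁆ * (x * ⁅a, y⁆ * x⁻¹) by simp only [commutatorElement_def]; group,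
      hcen _ (hcm a y) x, mul_inv_cancel_right, hsgmul _ (hcm a x) _ (hcm a y)]
  have hinner : ∀ a : G, ∑ x : G, sg ⁅a, x⁆ = if a ∈ Subgroup.center G then (Fintype.card G : ℤ) else 0 := by
    intro a
    by_cases ha : a ∈ Subgroup.center G
    · rw [if_pos ha, Finset.sum_congr rfl (g := fun _ => (1 : ℤ)) fun x _ => by
        rw [(commutatorElement_eq_one_iff_mul_comm.mpr (Subgroup.mem_center_iff.mp ha x).symm)]; simp [sg]]
      simp
    · rw [if_neg ha]
      obtain ⟨x₀, hx₀⟩ : ∃ x₀ : G, ⁅a, x₀⁆ ≠ 1 := by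
        by_contra h
        push Not at h
        exact ha (Subgroup.mem_center_iff.mpr fun g => (commutatorElement_eq_one_iff_mul_comm.mp (h g)).symm)
      have h1 : sg ⁅a, x₀⁆ = -1 := by simp [sg, hx₀]
      have h2 := Equiv.sum_comp (Equiv.mulLeft x₀) fun x : G => sg ⁅a, x⁆
      simp only [Equiv.coe_mulLeft, hlin, ← Finset.mul_sum, h1] at h2
      linarith
  set T : ℤ := ∑ x : G, χ x with hT
  have hT2 : T * T = (Fintype.card G : ℤ) * ∑ a ∈ Finset.univ.filter (· ∈ Subgroup.center G), χ a := by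
    calc T * T = ∑ x : G, ∑ a : G, χ x * χ (x * a) := by
          rw [hT, Finset.sum_mul]
          refine Finset.sum_congr rfl fun x _ => ?_
          rw [Finset.mul_sum, ← Equiv.sum_comp (Equiv.mulLeft x) fun y => χ x * χ y]
          rfl
      _ = ∑ a : G, χ a * ∑ x : G, sg ⁅a, x⁆ := by
          rw [Finset.sum_comm]
          refine Finset.sum_congr rfl fun a _ => ?_
          rw [Finset.mul_sum]
          refine Finset.sum_congr rfl fun x _ => ?_
          rw [hχmul, ← mul_assoc, ← mul_assoc, hsgsq (x * x), one_mul]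
      _ = _ := by
          rw [Finset.mul_sum, Finset.sum_filter]
          refine Finset.sum_congr rfl fun a _ => ?_
          rw [hinner]; split_ifs <;> ring
  have hZsum : (∑ a ∈ Finset.univ.filter (· ∈ Subgroup.center G), χ a = 0) ∨
      ((∀ a ∈ Subgroup.center G, a * a = 1) ∧
        ∑ a ∈ Finset.univ.filter (· ∈ Subgroup.center G), χ a = (Nat.card (Subgroup.center G) : ℤ)) := by
    by_cases hall : ∀ a ∈ Subgroup.center G, a * a = 1
    · refine Or.inr ⟨hall, ?_⟩
      rw [Finset.sum_congr rfl (g := fun _ => (1 : ℤ)) fun a ha => by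
        simp [χ, sg, hall a (Finset.mem_filter.mp ha).2]]
      rw [Finset.sum_const, nsmul_eq_mul, mul_one, Nat.card_eq_fintype_card, Fintype.card_subtype]
    · push Not at hall
      obtain ⟨z, hz, hz1⟩ := hall
      left
      have h1 : χ z = -1 := by simp [χ, sg, hz1]
      have h2 : ∑ a ∈ Finset.univ.filter (· ∈ Subgroup.center G), χ a =
          ∑ a ∈ Finset.univ.filter (· ∈ Subgroup.center G), χ (z * a) := by
        refine Finset.sum_nbij' (fun a => z⁻¹ * a) (fun a => z * a) ?_ ?_ ?_ ?_ ?_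
        · intro a ha; simp at ha ⊢; exact Subgroup.mul_mem _ (Subgroup.inv_mem _ hz) ha
        · intro a ha; simp at ha ⊢; exact Subgroup.mul_mem _ hz ha
        · intros; simp
        · intros; simp
        · intros; simp
      have h3 : ∀ a, χ (z * a) = -χ a := fun a => by
        rw [hχmul, h1, (commutatorElement_eq_one_iff_mul_comm.mpr (Subgroup.mem_center_iff.mp hz a))]
        simp [sg]
      simp only [h3, Finset.sum_neg_distrib] at h2
      linarith
  obtain ⟨z, hz⟩ := IsPGroup.iff_card.mp (hG.to_subgroup (Subgroup.center G))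
  have hGcard : Fintype.card G = 2 ^ (d + 1) := by
    rw [← Nat.card_eq_fintype_card, ← Φ.card_mul_index, hΦ, hd, pow_succ']
  set j := Nat.card {x : G // x ^ 2 = 1} with hj
  have hTj : T = 2 * (j : ℤ) - (2 ^ (d + 1) : ℕ) := by
    have e : ∀ x : G, χ x = 2 * (if x ^ 2 = 1 then (1 : ℤ) else 0) - 1 := fun x => by
      simp only [χ, sg, pow_two]; split_ifs <;> norm_num
    rw [hT, Finset.sum_congr rfl fun x _ => e x, Finset.sum_sub_distrib, ← Finset.mul_sum, Finset.sum_boole,
      Finset.sum_const, Finset.card_univ, hGcard, hj, Nat.card_eq_fintype_card, Fintype.card_subtype]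
    simp
  have hz1 : 1 ≤ z := by
    have h1 := Subgroup.card_le_of_le hΦZ
    rw [hΦ, hz] at h1
    by_contra h
    rw [show z = 0 by omega] at h1
    simp at h1
  have key : j = 2 ^ d ∨ (∃ r, 1 ≤ r ∧ d + 1 = z + 2 * r ∧
      (j = 2 ^ d + 2 ^ (d - r) ∨ j + 2 ^ (d - r) = 2 ^ d)) := by
    rcases hZsum with h0 | ⟨hel, hsum⟩
    · left
      rw [h0, mul_zero, mul_self_eq_zero, hTj, pow_succ] at hT2
      push_cast at hT2
      have h1 : (j : ℤ) = (2 ^ d : ℕ) := by push_cast; linarith
      exact_mod_cast h1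
    · right
      have h1 : T * T = ((2 ^ (d + 1 + z) : ℕ) : ℤ) := by
        rw [hT2, hsum, hGcard, hz, pow_add]; push_cast; ring
      set t := T.natAbs
      have h2 : t * t = 2 ^ (d + 1 + z) := by
        have := congrArg Int.natAbs h1
        rwa [Int.natAbs_mul, Int.natAbs_natCast] at this
      obtain ⟨e, -, he⟩ := (Nat.dvd_prime_pow Nat.prime_two).mp (Dvd.intro t h2)
      have he2 : e + e = d + 1 + z := by
        rw [he, ← pow_add] at h2
        exact Nat.pow_right_injective le_rfl h2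
      have hzd : z < d + 1 := by
        have hle : 2 ^ z ≤ 2 ^ (d + 1) := by rw [← hz, ← hGcard, ← Nat.card_eq_fintype_card]; exact Subgroup.card_le_card_group _
        refine lt_of_le_of_ne ((Nat.pow_le_pow_iff_right (by norm_num)).mp hle) fun hzd => ?_
        have htop : Subgroup.center G = ⊤ := Subgroup.eq_top_of_card_eq _ (by rw [hz, hzd, ← hGcard, Nat.card_eq_fintype_card])
        have hΦbot : Φ = ⊥ := by
          rw [hΦdef, Cfsg.Agent.PGroup.frattini_eq hG, sup_eq_bot_iff]
          refine ⟨(commutator_eq_bot_iff_center_eq_top G).mpr htop, Subgroup.closure_eq_bot_iff.mpr ?_⟩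
          rintro _ ⟨x, rfl⟩
          exact Set.mem_singleton_iff.mpr ((pow_two x).trans (hel x (htop ▸ Subgroup.mem_top x)))
        rw [hΦbot, Subgroup.card_bot] at hΦ
        omega
      refine ⟨d + 1 - e, by omega, by omega, ?_⟩
      rw [show d - (d + 1 - e) = e - 1 by omega]
      obtain ⟨f, rfl⟩ : ∃ f, e = f + 1 := ⟨e - 1, by omega⟩
      rw [Nat.add_sub_cancel]
      have h4 : T = ((2 ^ (f + 1) : ℕ) : ℤ) ∨ T = -((2 ^ (f + 1) : ℕ) : ℤ) := he ▸ Int.natAbs_eq T
      rw [hTj, pow_succ, pow_succ] at h4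
      push_cast at h4
      rcases h4 with h4 | h4
      · left
        have h5 : (j : ℤ) = ((2 ^ d + 2 ^ f : ℕ) : ℤ) := by push_cast; linarith
        exact_mod_cast h5
      · right
        have h5 : ((j + 2 ^ f : ℕ) : ℤ) = ((2 ^ d : ℕ) : ℤ) := by push_cast; linarith
        exact_mod_cast h5
  refine ⟨?_, ?_⟩
  · rcases key with h | ⟨r, hr, hdr, h⟩
    · exact Or.inl h
    · exact Or.inr ⟨r, hr, by omega, h⟩
  · intro r hdr hjr
    have hr2 : 0 < 2 ^ r := by positivity
    rcases key with h | ⟨r', hr', hdr', h⟩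
    · exfalso; omega
    · have hrr : d - r' = r := by
        refine Nat.pow_right_injective le_rfl (show 2 ^ (d - r') = 2 ^ r from ?_)
        have : 0 < 2 ^ (d - r') := by positivity
        omega
      have hz' : z = 1 := by omega
      have hcent : Φ = Subgroup.center G := Subgroup.eq_of_le_of_card_ge hΦZ (by rw [hΦ, hz, hz', pow_one])
      refine ⟨⟨hG, hcent, le_antisymm ((Cfsg.Agent.PGroup.commutator_le_frattini hG).trans hcent.le) ?_⟩, by rw [hz, hz', pow_one]⟩
      have hne : _root_.commutator G ≠ ⊥ := by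
        rw [Ne, commutator_eq_bot_iff_center_eq_top]
        intro htop
        rw [htop, Subgroup.card_top, Nat.card_eq_fintype_card, hGcard, hz'] at hz
        have := Nat.pow_right_injective le_rfl hz
        omega
      rw [← hcent]
      refine (Subgroup.eq_of_le_of_card_ge (Cfsg.Agent.PGroup.commutator_le_frattini hG) ?_).ge
      rw [hΦ]
      haveI : Nontrivial (_root_.commutator G) := (Subgroup.nontrivial_iff_ne_bot _).mpr hne
      exact Finite.one_lt_card

end Cfsg.Agent.S3772
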