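import Cfsg.Statements.S3773
import Cfsg.Agent.EqLemmas
import Cfsg.Agent.Lib.Squaring.Basic
import Cfsg.Agent.Lib.PGroup.Basic
-- import your own Cfsg.Agent.* helpers here

set_option autoImplicit false
open Cfsg

open scoped commutatorElement

namespace Cfsg.Agent.S3773

/-- Let G be a finite 2-group of nilpotency class at most 2 and exponent dividing 4 in which the elements x with x² = 1 form a subgroup N. Then |G| ≤ |N|³, and |G| < |N|³ unless G is special. -/
theorem result {G : Type*} [Group G] [Finite G] (hG : IsPGroup 2 G) (hcl : (⊤ : Subgroup G).lowerCentralSeries 2 = ⊥) (hexp : ∀ x : G, x ^ 4 = 1) (hN : ∀ x y : G, x ^ 2 = 1 → y ^ 2 = 1 → (x * y) ^ 2 = 1) : Nat.card G ≤ Nat.card {x : G // x ^ 2 = 1} ^ 3 ∧ (¬ Cfsg.IsSpecial 2 G → Nat.card G < Nat.card {x : G // x ^ 2 = 1} ^ 3) := by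
  classical
  have hcc : _root_.commutator G ≤ Subgroup.center G := by
    rw [← Subgroup.commutator_top_right_eq_bot_iff_le_center, ← Subgroup.top_lowerCentralSeries_one,
      ← Subgroup.lowerCentralSeries_succ]
    exact hcl
  have hcomm : ∀ x y : G, ⁅x, y⁆ ∈ _root_.commutator G := fun x y =>
    Subgroup.commutator_mem_commutator (Subgroup.mem_top x) (Subgroup.mem_top y)
  have hd : ∀ x y : G, ∃ d, d * d = 1 ∧ (∀ w, w * d = d * w) ∧ y * x = x * y * d := by
    intro x y
    refine ⟨⁅y⁻¹, x⁻¹⁆, ?_, Subgroup.mem_center_iff.mp (hcc (hcomm _ _)), by simp only [commutatorElement_def]; group⟩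
    set d := ⁅y⁻¹, x⁻¹⁆
    have hdc : ∀ w, w * d = d * w := Subgroup.mem_center_iff.mp (hcc (hcomm _ _))
    have hyx : y * x = x * y * d := by simp only [d, commutatorElement_def]; group
    have hdd : ∀ w, w * (d * d) = (d * d) * w := fun w => by
      rw [← mul_assoc, hdc w, mul_assoc d w, hdc w, ← mul_assoc]
    have hyxx : y * (x * x) = x * x * y * (d * d) :=
      calc y * (x * x) = x * y * (d * x) := by rw [← mul_assoc, hyx]; group
        _ = x * (y * x) * d := by rw [← hdc x]; group
        _ = x * x * y * (d * d) := by rw [hyx]; group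
    have hyyxx : y * y * (x * x) = x * x * (y * y) * (d * d * (d * d)) :=
      calc y * y * (x * x) = (y * (x * x)) * y * (d * d) := by rw [mul_assoc y y]; nth_rw 1 [hyxx]; group
        _ = x * x * y * ((d * d) * y) * (d * d) := by rw [hyxx]; group
        _ = x * x * (y * y) * (d * d * (d * d)) := by rw [← hdd y]; group
    have hsq : x * y * (x * y) = x * x * (y * y) * d :=
      calc x * y * (x * y) = x * (y * x) * y := by group
        _ = x * x * y * (d * y) := by rw [hyx]; group
        _ = x * x * (y * y) * d := by rw [← hdc y]; group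
    have hfour : ∀ g : G, g * g * (g * g) = 1 := fun g => by
      have := hexp g
      rw [pow_succ, pow_succ, pow_two, mul_assoc (g * g)] at this
      exact this
    have h4 : (x * x * (y * y) * d) * (x * x * (y * y) * d) = 1 := by
      rw [← hsq]; exact hfour (x * y)
    have hd2 : d * d * (d * d) = 1 := hfour d
    rw [hd2, mul_one] at hyyxx
    have h5 : (x * x * (y * y)) * (x * x * (y * y)) = 1 := by
      rw [mul_assoc (x * x), ← mul_assoc (y * y) (x * x), hyyxx]
      rw [mul_assoc (x * x) (y * y), hfour y, mul_one, hfour x]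
    calc d * d = (x * x * (y * y)) * (x * x * (y * y)) * (d * d) := by rw [h5, one_mul]
      _ = (x * x * (y * y) * d) * (x * x * (y * y) * d) := by
          rw [mul_assoc (x * x * (y * y)) d, ← mul_assoc d, ← hdc (x * x * (y * y))]
          group
      _ = 1 := h4
  have hsqc : ∀ x : G, x * x ∈ Subgroup.center G := fun x => Subgroup.mem_center_iff.mpr fun y => by
    obtain ⟨d, hd1, hd2, hd3⟩ := hd x y
    rw [← mul_assoc, hd3, mul_assoc (x * y), ← hd2 x, ← mul_assoc, mul_assoc x y x, hd3]
    rw [show x * (x * y * d) * d = x * x * y * (d * d) by group, hd1, mul_one]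
  set K : Subgroup G := Subgroup.closure (Set.range fun x : G => x * x) with hK
  have hKsq : ∀ x : G, x * x ∈ K := fun x => Subgroup.subset_closure ⟨x, rfl⟩
  have hKZ : K ≤ Subgroup.center G := (Subgroup.closure_le _).mpr (by rintro _ ⟨x, rfl⟩; exact hsqc x)
  let Nsub : Subgroup G :=
    { carrier := {x | x ^ 2 = 1}
      one_mem' := one_pow 2
      mul_mem' := fun {a b} ha hb => hN a b ha hb
      inv_mem' := fun {a} (ha : a ^ 2 = 1) => show a⁻¹ ^ 2 = 1 by rw [inv_pow, ha, inv_one] }
  have hKN : K ≤ Nsub := (Subgroup.closure_le _).mpr (by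
    rintro _ ⟨x, rfl⟩
    show (x * x) ^ 2 = 1
    rw [← pow_two, ← pow_mul]; exact hexp x)
  have hexpK : ∀ k ∈ K, k * k = 1 := fun k hk => (pow_two k).symm.trans (hKN hk)
  have hGK : _root_.commutator G ≤ K := by
    rw [commutator_def, Subgroup.commutator_le]
    intro a _ b _
    have h1 := Cfsg.Agent.Squaring.swap_mem K hKsq a⁻¹ b
    rw [inv_inv] at h1
    simpa [commutatorElement_def] using h1
  have hΦ : frattini G = K := by
    rw [Cfsg.Agent.PGroup.frattini_eq hG]
    simp only [pow_two]
    exact sup_eq_right.mpr hGK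
  set n := Nat.card {x : G // x ^ 2 = 1} with hn
  have hnN : Nat.card Nsub = n := rfl
  have hbase : Nat.card G ≤ n * Nat.card K ^ 2 := by
    have h := Cfsg.Agent.Squaring.card_mul_sq_le K hKsq hKZ hexpK ⊥ bot_le
    rw [Subgroup.card_bot, one_pow, mul_one] at h
    refine h.trans (le_of_eq ?_)
    rw [hn, Nat.card_congr (Equiv.subtypeEquivRight fun x : G => show (x * x ∈ (⊥ : Subgroup G)) ↔ x ^ 2 = 1 by
      rw [Subgroup.mem_bot, pow_two])]
  have hKn : Nat.card K ≤ n := hnN ▸ Subgroup.card_le_of_le hKN
  refine ⟨hbase.trans (by rw [show n ^ 3 = n * n ^ 2 by ring]; exact Nat.mul_le_mul_left _ (Nat.pow_le_pow_left hKn 2)), fun hns => ?_⟩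
  have hnpos : 0 < n := hnN ▸ Nat.card_pos
  rcases lt_or_eq_of_le hKn with hlt | heq
  · refine hbase.trans_lt ?_
    rw [show n ^ 3 = n * n ^ 2 by ring]
    exact mul_lt_mul_of_pos_left (Nat.pow_lt_pow_left hlt two_ne_zero) hnpos
  have hKeq : K = Nsub := Subgroup.eq_of_le_of_card_ge hKN (hnN.trans heq.symm).le
  by_cases hG' : _root_.commutator G = K
  · -- the centre is bigger than `K`
    have hZ : K ≠ Subgroup.center G := fun h => hns ⟨hG, hΦ.trans h, hG'.trans h⟩
    let σ : Subgroup.center G →* G := MonoidHom.mk' (fun z => (z : G) * z) fun a b => by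
      push_cast
      rw [mul_assoc, mul_assoc, ← mul_assoc (b : G) a b, Subgroup.mem_center_iff.mp a.2 (b : G), mul_assoc (a : G) b b]
    have hEK : σ.range ≤ K := by rintro _ ⟨z, rfl⟩; exact hKsq _
    have h := Cfsg.Agent.Squaring.card_mul_sq_le K hKsq hKZ hexpK σ.range hEK
    have hsub : Nat.card {x : G // x * x ∈ σ.range} ≤ Nat.card (Subgroup.center G) := by
      refine Nat.card_le_card_of_injective (fun x => ⟨x.1, ?_⟩) fun x y h => Subtype.ext (congrArg Subtype.val h :)
      obtain ⟨z, hz⟩ := x.2
      have hz' : (z : G) * z = x.1 * x.1 := hz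
      have : x.1 * (z : G)⁻¹ ∈ Subgroup.center G := hKZ (hKeq.ge (show (x.1 * (z : G)⁻¹) ^ 2 = 1 by
        rw [pow_two, mul_assoc, ← mul_assoc (z : G)⁻¹ x.1, ← Subgroup.mem_center_iff.mp ((Subgroup.center G).inv_mem z.2) x.1,
          mul_assoc x.1 _ _, ← mul_assoc, ← hz']
        group))
      simpa using (Subgroup.center G).mul_mem this z.2
    have hcardZ : Nat.card (Subgroup.center G) = n * Nat.card σ.range := by
      rw [← σ.ker.card_mul_index, Subgroup.index_ker, ← hnN]
      congr 1
      refine Nat.card_congr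
        { toFun := fun z => ⟨((z : Subgroup.center G) : G), (pow_two _).trans z.2⟩
          invFun := fun x => ⟨⟨x, hKZ (hKeq.ge x.2)⟩, (pow_two (x : G)).symm.trans x.2⟩
          left_inv := fun z => rfl
          right_inv := fun x => rfl }
    have hne : 2 ≤ Nat.card σ.range := by
      rw [← heq] at hcardZ
      have h1 : Nat.card K < Nat.card (Subgroup.center G) :=
        lt_of_not_ge fun h => hZ (Subgroup.eq_of_le_of_card_ge hKZ h)
      rw [hcardZ] at h1
      nlinarith [Nat.card_pos (α := K)]
    have h2 : Nat.card G * Nat.card σ.range ≤ n * n ^ 2 := by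
      refine Nat.le_of_mul_le_mul_right (c := Nat.card σ.range) ?_ Nat.card_pos
      have h3 := h.trans (Nat.mul_le_mul_right _ hsub)
      rw [hcardZ, heq] at h3
      nlinarith
    have hGpos := Nat.card_pos (α := G)
    nlinarith
  · -- the commutator subgroup is smaller than `K`
    set D := _root_.commutator G with hD
    haveI hDK : (D.subgroupOf K).Normal := inferInstance
    let τ : G →* K ⧸ D.subgroupOf K := MonoidHom.mk' (fun x => ((⟨x * x, hKsq x⟩ : K) : K ⧸ D.subgroupOf K))
      fun a b => by
        rw [← QuotientGroup.mk_mul, eq_comm, QuotientGroup.eq, Subgroup.mem_subgroupOf]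
        push_cast
        obtain ⟨d, hd1, hd2, hd3⟩ := hd a b
        have hmem : d ∈ D := by
          have : d = ⁅b⁻¹, a⁻¹⁆ := by
            rw [show d = (a * b)⁻¹ * (b * a) by rw [hd3]; group, commutatorElement_def]; group
          rw [this]; exact hcomm _ _
        have h1 : a * b * (a * b) = a * a * (b * b) * d := by
          calc a * b * (a * b) = a * (b * a) * b := by group
            _ = a * a * b * (d * b) := by rw [hd3]; group
            _ = a * a * (b * b) * d := by rw [← hd2 b]; group
        rw [h1]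
        simpa [mul_assoc] using hmem
    have hker : Nat.card τ.ker ≤ n * Nat.card D ^ 2 := by
      have hDk : D ≤ τ.ker := fun x hx => by
        show ((⟨x * x, hKsq x⟩ : K) : K ⧸ D.subgroupOf K) = 1
        rw [QuotientGroup.eq_one_iff, Subgroup.mem_subgroupOf]
        exact D.mul_mem hx hx
      have h := Cfsg.Agent.Squaring.card_mul_sq_le (H := τ.ker) (D.subgroupOf τ.ker)
        (fun x => by
          have := x.2
          rw [MonoidHom.mem_ker] at this
          exact Subgroup.mem_subgroupOf.mp ((QuotientGroup.eq_one_iff (⟨(x : G) * x, hKsq x⟩ : K)).mp this))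
        (fun x hx => Subgroup.mem_center_iff.mpr fun y => Subtype.ext
          (Subgroup.mem_center_iff.mp (hcc hx) y))
        (fun x hx => Subtype.ext (hexpK _ (hGK hx))) ⊥ bot_le
      rw [Subgroup.card_bot, one_pow, mul_one, Nat.card_congr (Subgroup.subgroupOfEquivOfLe hDk).toEquiv] at h
      refine h.trans (Nat.mul_le_mul_right _ ?_)
      refine Nat.card_le_card_of_injective (fun x => ⟨((x.1 : τ.ker) : G), ?_⟩) fun x y h =>
        Subtype.ext (Subtype.ext (congrArg Subtype.val h :))
      rw [pow_two]
      exact congrArg (fun z : τ.ker => (z : G)) (Subgroup.mem_bot.mp x.2)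
    have hindex : τ.ker.index * Nat.card D ≤ Nat.card K := by
      rw [Subgroup.index_ker, ← (D.subgroupOf K).card_mul_index, Subgroup.index_eq_card, mul_comm,
        Nat.card_congr (Subgroup.subgroupOfEquivOfLe hGK).toEquiv]
      exact Nat.mul_le_mul_left _ (Subgroup.card_le_card_group _)
    have hDlt : Nat.card D < Nat.card K := lt_of_not_ge fun h => hG' (Subgroup.eq_of_le_of_card_ge hGK h)
    have hmul := τ.ker.card_mul_index
    rw [heq] at hindex hDlt
    have h1 : Nat.card G ≤ n * Nat.card D * (τ.ker.index * Nat.card D) := by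
      calc Nat.card G = Nat.card τ.ker * τ.ker.index := hmul.symm
        _ ≤ n * Nat.card D ^ 2 * τ.ker.index := Nat.mul_le_mul_right _ hker
        _ = _ := by ring
    refine (h1.trans (Nat.mul_le_mul_left _ hindex)).trans_lt ?_
    rw [show n ^ 3 = n * n * n by ring]
    exact mul_lt_mul_of_pos_right (mul_lt_mul_of_pos_left hDlt hnpos) hnpos

end Cfsg.Agent.S3773
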