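import Cfsg.Statements.S3774
import Cfsg.Agent.EqLemmas

set_option autoImplicit false
open Cfsg

namespace Cfsg.Agent.S3774

/-- Let G be a nontrivial finite 2-group whose automorphism group permutes the involutions of G transitively. Then every involution of G is central, so that the involutions together with 1 form the subgroup Ω₁(Z(G)), and if this subgroup has order q then |G| is a power of q. -/
theorem result {G : Type*} [Group G] [Finite G] [Nontrivial G] (hG : IsPGroup 2 G) (htrans : ∀ x y : G, x ≠ 1 → x ^ 2 = 1 → y ≠ 1 → y ^ 2 = 1 → ∃ a : MulAut G, a x = y) : (∀ x : G, x ^ 2 = 1 → x ∈ Subgroup.center G) ∧ ∃ m : ℕ, Nat.card G = Nat.card {z : G // z ^ 2 = 1} ^ m := by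
  classical
  haveI : Fact (Nat.Prime 2) := ⟨Nat.prime_two⟩
  haveI := Fintype.ofFinite G
  -- a canonical involution below each non-trivial element
  have hroot : ∀ x : G, x ≠ 1 → x ^ (orderOf x / 2) ≠ 1 ∧ (x ^ (orderOf x / 2)) ^ 2 = 1 := by
    intro x hx
    obtain ⟨k, hk⟩ := IsPGroup.iff_orderOf.mp hG x
    cases k with
    | zero => exact absurd (orderOf_eq_one_iff.mp (by simpa using hk)) hx
    | succ k =>
      have hd : orderOf x / 2 = 2 ^ k := by rw [hk, pow_succ]; omega
      refine ⟨fun h => ?_, ?_⟩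
      · have h1 := orderOf_dvd_of_pow_eq_one h
        rw [hd, hk, Nat.pow_dvd_pow_iff_le_right (by norm_num : 1 < 2)] at h1
        omega
      · rw [hd, ← pow_mul, ← pow_succ, ← hk]; exact pow_orderOf_eq_one x
  have hcentral : ∀ x : G, x ^ 2 = 1 → x ∈ Subgroup.center G := by
    intro x hx
    by_cases hx1 : x = 1
    · exact hx1 ▸ one_mem _
    haveI := hG.center_nontrivial
    obtain ⟨⟨c, hc⟩, hc1⟩ := exists_ne (1 : Subgroup.center G)
    have hc1' : c ≠ 1 := fun h => hc1 (Subtype.ext h)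
    obtain ⟨a, ha⟩ := htrans _ x (hroot c hc1').1 (hroot c hc1').2 hx1 hx
    have := (Subgroup.characteristic_iff_comap_eq.mp Subgroup.centerCharacteristic a.symm)
    have h2 : c ^ (orderOf c / 2) ∈ Subgroup.center G := Subgroup.pow_mem _ hc _
    rw [← ha]
    rw [← this] at h2 ⊢
    rw [Subgroup.mem_comap] at h2 ⊢
    rw [Subgroup.mem_center_iff] at h2 ⊢
    intro g
    have h3 := h2 (a.symm (a.symm (a g)))
    apply a.injective
    apply a.symm.injective
    apply a.symm.injective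
    simpa using h3
  refine ⟨hcentral, ?_⟩
  let W : Subgroup G :=
    { carrier := {z | z ^ 2 = 1}
      one_mem' := one_pow 2
      mul_mem' := by
        intro x y hx hy
        have : Commute x y := (Subgroup.mem_center_iff.mp (hcentral x hx) y).symm
        show (x * y) ^ 2 = 1
        rw [this.mul_pow, hx, hy, one_mul]
      inv_mem' := by intro x hx; show (x⁻¹) ^ 2 = 1; rw [inv_pow, hx, inv_one] }
  have hWcard : Nat.card {z : G // z ^ 2 = 1} = Nat.card W := rfl
  obtain ⟨n, hn⟩ := IsPGroup.iff_card.mp (hG.to_subgroup W)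
  obtain ⟨N, hN⟩ := IsPGroup.iff_card.mp hG
  let X := {x : G // x ≠ 1}
  let I := {z : W // z ≠ 1}
  let f : X → I := fun x => ⟨⟨_, (hroot x.1 x.2).2⟩, fun h => (hroot x.1 x.2).1 (congrArg Subtype.val h)⟩
  haveI : Nonempty I := by
    obtain ⟨x, hx⟩ := exists_ne (1 : G)
    exact ⟨f ⟨x, hx⟩⟩
  let z₀ : I := Classical.arbitrary I
  have hfib : ∀ z : I, Nonempty ({x : X // f x = z} ≃ {x : X // f x = z₀}) := by
    intro z
    obtain ⟨a, ha⟩ := htrans (z.1 : G) (z₀.1 : G) (fun h => z.2 (Subtype.ext h)) z.1.2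
      (fun h => z₀.2 (Subtype.ext h)) z₀.1.2
    let e : X ≃ X := a.toEquiv.subtypeEquiv (fun x => by simp)
    refine ⟨e.subtypeEquiv (fun x => ?_)⟩
    show f x = z ↔ f (e x) = z₀
    rw [Subtype.ext_iff, Subtype.ext_iff, Subtype.ext_iff, Subtype.ext_iff]
    show x.1 ^ (orderOf x.1 / 2) = (z.1 : G) ↔ (a x.1) ^ (orderOf (a x.1) / 2) = (z₀.1 : G)
    rw [← ha, MulEquiv.orderOf_eq, ← map_pow]
    exact a.injective.eq_iff.symm
  have hcard : Nat.card X = Nat.card I * Nat.card {x : X // f x = z₀} := by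
    rw [← Nat.card_prod]
    exact Nat.card_congr ((Equiv.sigmaFiberEquiv f).symm.trans
      (Equiv.sigmaEquivProdOfEquiv (fun z => Classical.choice (hfib z))))
  have hX : Nat.card X + 1 = 2 ^ N := by
    rw [← hN, ← Finite.card_option]
    exact Nat.card_congr (Equiv.optionSubtypeNe (1 : G))
  have hI : Nat.card I + 1 = 2 ^ n := by
    rw [← hn, ← Finite.card_option]
    exact Nat.card_congr (Equiv.optionSubtypeNe (1 : W))
  have hdvd : 2 ^ n - 1 ∣ 2 ^ N - 1 := by
    rw [← hX, ← hI, Nat.add_sub_cancel, Nat.add_sub_cancel, hcard]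
    exact Dvd.intro _ rfl
  have hgcd : 2 ^ Nat.gcd n N - 1 = 2 ^ n - 1 := by
    rw [← Nat.pow_sub_one_gcd_pow_sub_one]
    exact Nat.gcd_eq_left hdvd
  have hnN : Nat.gcd n N = n := by
    apply Nat.pow_right_injective (le_refl 2)
    show 2 ^ Nat.gcd n N = 2 ^ n
    have := Nat.one_le_two_pow (n := Nat.gcd n N)
    have := Nat.one_le_two_pow (n := n)
    omega
  obtain ⟨m, hm⟩ : n ∣ N := hnN ▸ Nat.gcd_dvd_right n N
  exact ⟨m, by rw [hN, hWcard, hn, ← pow_mul, ← hm]⟩

end Cfsg.Agent.S3774
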