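import Cfsg.Statements.S3775
import Cfsg.Agent.EqLemmas
-- import your own Cfsg.Agent.* helpers here

set_option autoImplicit false
open Cfsg

namespace Cfsg.Agent.S3775

variable {A : Type*} [CommGroup A] [Finite A]

/-- A finite endomorphism has an idempotent positive power. -/
theorem exists_idempotent_power {M : Type*} [Monoid M] [Finite M] (f : M) :
    ∃ m : ℕ, 0 < m ∧ f ^ m * f ^ m = f ^ m := by
  obtain ⟨a, c, hne, h⟩ := Finite.exists_ne_map_eq_of_infinite (fun i : ℕ => f ^ i)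
  wlog hac : a < c generalizing a c
  · exact this c a hne.symm h.symm (lt_of_le_of_ne (not_lt.mp hac) hne.symm)
  obtain ⟨b, rfl⟩ : ∃ b, c = a + b := ⟨c - a, by omega⟩
  have hper : ∀ j i, a ≤ i → f ^ (i + j * b) = f ^ i := by
    intro j
    induction j with
    | zero => intro i _; rw [Nat.zero_mul, Nat.add_zero]
    | succ j ih =>
      intro i hi
      obtain ⟨r, rfl⟩ := Nat.exists_eq_add_of_le hi
      rw [show a + r + (j + 1) * b = (a + r + j * b) + b by ring, pow_add, ih (a + r) (by omega),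
        ← pow_add, show a + r + b = a + b + r by ring, pow_add, ← h, ← pow_add]
  have hb : 0 < b := by omega
  refine ⟨(a + 1) * b, by positivity, ?_⟩
  rw [← pow_add]
  exact hper (a + 1) _ (le_trans (Nat.le_succ a) (Nat.le_mul_of_pos_right _ hb))

theorem exists_proj {p : ℕ} [Fact p.Prime] {M : Type*} [AddCommGroup M] [Module (ZMod p) M] (U : Submodule (ZMod p) M) :
    ∃ f : M →+ M, (∀ x, f x ∈ U) ∧ ∀ x ∈ U, f x = x := by
  obtain ⟨C, hC⟩ := Submodule.exists_isCompl U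
  exact ⟨(U.subtype.comp (Submodule.projectionOnto U C hC)).toAddMonoidHom,
    fun x => (Submodule.projectionOnto U C hC x).2,
    fun x hx => congrArg Subtype.val (Submodule.projectionOnto_apply_left hC ⟨x, hx⟩)⟩

/-- Projections of the elements of order `p` onto a group of `p`-th roots extend to endomorphisms. -/
theorem exists_extension {p : ℕ} [Fact p.Prime] (hA : IsPGroup p A) (m : ℕ) (hm : Monoid.exponent A = p * m)
    (V : Subgroup A) (hV : ∀ v ∈ V, v ^ p = 1) (hVm : ∀ v ∈ V, ∃ a : A, a ^ m = v) :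
    ∃ π : A →* A, (∀ a : A, a ^ p = 1 → π a ∈ V) ∧ ∀ v ∈ V, π v = v := by
  classical
  let Ω : Subgroup A := (powMonoidHom p : A →* A).ker
  have hΩ : ∀ a, a ∈ Ω ↔ a ^ p = 1 := fun a => MonoidHom.mem_ker
  letI : Module (ZMod p) (Additive Ω) := AddCommGroup.zmodModule fun x => by
    apply Additive.toMul.injective
    exact Subtype.ext ((hΩ _).mp (Additive.toMul x).2)
  let Vs : Submodule (ZMod p) (Additive Ω) :=
    AddSubgroup.toZModSubmodule p (Subgroup.toAddSubgroup (V.subgroupOf Ω))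
  obtain ⟨L, hL, hLid⟩ := exists_proj Vs
  let P : Ω →* A := Ω.subtype.comp (AddMonoidHom.toMultiplicative L)
  have hPV : ∀ w, P w ∈ V := fun w => hL (Additive.ofMul w)
  have hPid : ∀ w : Ω, (w : A) ∈ V → P w = w := fun w hw =>
    congrArg (fun z : Additive Ω => ((Additive.toMul z : Ω) : A)) (hLid (Additive.ofMul w) hw)
  obtain ⟨ι, hι, n, hn, ⟨e⟩⟩ := CommGroup.equiv_prod_multiplicative_zmod_of_finite A
  have hdiv : ∀ i, ∃ r, n i = p * r ∧ r ∣ m := by
    intro i
    have ho : orderOf (e.symm (Pi.mulSingle i (Multiplicative.ofAdd (1 : ZMod (n i))))) = n i := by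
      rw [MulEquiv.orderOf_eq, ← MonoidHom.mulSingle_apply (f := fun j => Multiplicative (ZMod (n j))), orderOf_injective _ (Pi.mulSingle_injective (M := fun j => Multiplicative (ZMod (n j))) i),
        orderOf_ofAdd_eq_addOrderOf, ZMod.addOrderOf_one]
    have hexp : n i ∣ Monoid.exponent A := ho ▸ Monoid.order_dvd_exponent _
    obtain ⟨k, hk⟩ := IsPGroup.iff_orderOf.mp hA (e.symm (Pi.mulSingle i (Multiplicative.ofAdd (1 : ZMod (n i)))))
    rw [ho] at hk
    obtain ⟨k', rfl⟩ : ∃ k', k = k' + 1 := ⟨k - 1, by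
      rcases Nat.eq_zero_or_pos k with rfl | h
      · exact absurd hk (by simpa using (hn i).ne')
      · omega⟩
    refine ⟨p ^ k', by rw [hk, pow_succ'], ?_⟩
    rw [hk, hm, pow_succ'] at hexp
    exact (Nat.mul_dvd_mul_iff_left (Fact.out : p.Prime).pos).mp hexp
  choose r hr hrm using hdiv
  have hw : ∀ i, (e.symm (Pi.mulSingle i (Multiplicative.ofAdd (r i : ZMod (n i))))) ∈ Ω := by
    intro i
    rw [hΩ, ← map_pow, ← Pi.mulSingle_pow, ← ofAdd_nsmul]
    have : p • (r i : ZMod (n i)) = 0 := by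
      rw [nsmul_eq_mul, ← Nat.cast_mul, ← hr i, ZMod.natCast_self]
    rw [this, ofAdd_zero, Pi.mulSingle_one, map_one]
  have hh : ∀ i, ∃ h : A, h ^ r i = P ⟨_, hw i⟩ := by
    intro i
    obtain ⟨a, ha⟩ := hVm _ (hPV ⟨_, hw i⟩)
    obtain ⟨t, ht⟩ := hrm i
    exact ⟨a ^ t, by rw [← pow_mul, mul_comm, ← ht, ha]⟩
  choose h hh using hh
  have hhn : ∀ i, h i ^ n i = 1 := fun i => by
    rw [hr i, mul_comm, pow_mul, hh i]; exact hV _ (hPV _)
  haveI : ∀ i, NeZero (n i) := fun i => ⟨by have := hn i; omega⟩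
  let π : A →* A :=
    { toFun := fun a => ∏ i, h i ^ (Multiplicative.toAdd (e a i)).val
      map_one' := by simp
      map_mul' := fun a b => by
        simp only [map_mul, Pi.mul_apply, toAdd_mul]
        rw [← Finset.prod_mul_distrib]
        refine Finset.prod_congr rfl fun i _ => ?_
        rw [← pow_add, ZMod.val_add, ← pow_eq_pow_mod _ (hhn i)] }
  have key : ∀ a : A, ∀ ha : a ∈ Ω, π a = P ⟨a, ha⟩ := by
    intro a ha
    have hc : ∀ i, ∃ c, (Multiplicative.toAdd (e a i)).val = r i * c := by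
      intro i
      have h0 : p • Multiplicative.toAdd (e a i) = 0 := by
        rw [← toAdd_pow, ← Pi.pow_apply, ← map_pow, (hΩ a).mp ha, map_one, Pi.one_apply, toAdd_one]
      set x := Multiplicative.toAdd (e a i)
      rw [nsmul_eq_mul, ← ZMod.natCast_zmod_val x, ← Nat.cast_mul, ZMod.natCast_eq_zero_iff] at h0
      exact (Nat.mul_dvd_mul_iff_left (Fact.out : p.Prime).pos).mp (show p * r i ∣ p * x.val from hr i ▸ h0)
    choose c hc using hc
    have ha' : (⟨a, ha⟩ : Ω) = ∏ i, (⟨_, hw i⟩ : Ω) ^ c i := by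
      refine Subtype.ext ?_
      rw [Subgroup.val_finsetProd]
      apply e.injective
      simp only [SubgroupClass.coe_pow, map_prod, map_pow, MulEquiv.apply_symm_apply, ← Pi.mulSingle_pow, ← ofAdd_nsmul]
      conv_lhs => rw [← Finset.univ_prod_mulSingle (e a)]
      refine Finset.prod_congr rfl fun i _ => ?_
      congr 1
      apply Multiplicative.toAdd.injective
      rw [toAdd_ofAdd, nsmul_eq_mul, ← Nat.cast_mul, mul_comm, ← hc i, ZMod.natCast_zmod_val]
    rw [ha', map_prod]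
    refine Finset.prod_congr rfl fun i _ => ?_
    rw [map_pow, ← hh i, ← pow_mul, hc i]
  exact ⟨π, fun a ha => key a ((hΩ a).mpr ha) ▸ hPV _,
    fun v hv => (key v ((hΩ v).mpr (hV v hv))).trans (hPid _ hv)⟩

/-- An invariant group of `p`-th roots fills up the elements of order `p` in the indecomposable case. -/
theorem roots_eq {p : ℕ} [Fact p.Prime] (hA : IsPGroup p A) (X : Subgroup (MulAut A))
    (hX : (Nat.card X).Coprime p)
    (hind : ¬ ∃ B C : Subgroup A, B ≠ ⊥ ∧ C ≠ ⊥ ∧ (∀ x ∈ X, B.map x.toMonoidHom = B) ∧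
      (∀ x ∈ X, C.map x.toMonoidHom = C) ∧ B ⊓ C = ⊥ ∧ B ⊔ C = ⊤)
    (m : ℕ) (hm : Monoid.exponent A = p * m)
    (V : Subgroup A) (hinv : ∀ x ∈ X, V.map x.toMonoidHom = V) (hV : ∀ v ∈ V, v ^ p = 1)
    (hVm : ∀ v ∈ V, ∃ a : A, a ^ m = v) (hne : V ≠ ⊥) : ∀ a : A, a ^ p = 1 → a ∈ V := by
  classical
  obtain ⟨π, hπ, hid⟩ := exists_extension hA m hm V hV hVm
  haveI := Fintype.ofFinite X
  let f : A →* A := ∏ x : X, ((x : MulAut A).toMonoidHom).comp (π.comp ((x : MulAut A)⁻¹).toMonoidHom)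
  have hf : ∀ a, f a = ∏ x : X, (x : MulAut A) (π ((x : MulAut A)⁻¹ a)) := fun a => by
    simp [f, MonoidHom.finsetProd_apply]
  have hinv' : ∀ x : X, ∀ v ∈ V, (x : MulAut A) v ∈ V := fun x v hv => by
    rw [← hinv x x.2]; exact Subgroup.mem_map_of_mem _ hv
  have hfΩ : ∀ a : A, a ^ p = 1 → f a ∈ V := fun a ha => by
    rw [hf]
    exact V.prod_mem fun x _ => hinv' x _ (hπ _ (by rw [← map_pow, ha, map_one]))
  have hfV : ∀ v ∈ V, f v = v ^ Nat.card X := fun v hv => by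
    rw [hf, Nat.card_eq_fintype_card, ← Finset.card_univ, ← Finset.prod_const]
    refine Finset.prod_congr rfl fun x _ => ?_
    rw [hid _ (by simpa using hinv' x⁻¹ v hv), MulAut.apply_inv_self]
  have heq : ∀ y ∈ X, ∀ a, f (y a) = y (f a) := fun y hy a => by
    rw [hf, hf, map_prod]
    exact Fintype.prod_equiv (Equiv.mulLeft (⟨y, hy⟩ : X)⁻¹) _ _ fun x => by simp
  haveI : Finite (Monoid.End A) := Finite.of_injective (fun g : Monoid.End A => (g : A → A)) DFunLike.coe_injective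
  let F : Monoid.End A := f
  obtain ⟨k, hk, hidem⟩ := exists_idempotent_power F
  set g : A →* A := F ^ k with hg
  have hgit : ∀ a, g a = f^[k] a := fun a => congrFun (Monoid.End.coe_pow A F k) a
  have hgid : ∀ a, g (g a) = g a := fun a => DFunLike.congr_fun hidem a
  have heqk : ∀ y ∈ X, ∀ a, g (y a) = y (g a) := fun y hy a => by
    rw [hgit, hgit]
    exact (Function.Commute.iterate_left (fun b => heq y hy b) k) a
  have hker : g.ker = ⊥ := by
    by_contra hk0
    refine hind ⟨g.ker, g.range, hk0, ?_, ?_, ?_, ?_, ?_⟩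
    · intro hr
      apply hne
      rw [eq_bot_iff]
      intro v hv
      have hit : ∀ j, f^[j] v = v ^ (Nat.card X) ^ j := by
        intro j
        induction j with
        | zero => simp
        | succ j ih =>
          rw [Function.iterate_succ_apply', ih, hfV _ (V.pow_mem hv _), ← pow_mul, ← pow_succ]
      have h1 : v ^ (Nat.card X) ^ k = 1 := by
        rw [← hit k, ← hgit]
        exact Subgroup.mem_bot.mp (hr ▸ ⟨v, rfl⟩)
      have h2 := pow_gcd_eq_one.mpr ⟨h1, hV v hv⟩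
      rw [(hX.pow_left k).gcd_eq_one, pow_one] at h2
      exact h2
    · intro y hy
      refine Subgroup.ext fun a => ⟨?_, fun ha => ⟨y⁻¹ a, ?_, MulAut.apply_inv_self A y a⟩⟩
      · rintro ⟨b, hb, rfl⟩
        exact MonoidHom.mem_ker.mpr (by rw [MulEquiv.coe_toMonoidHom, heqk y hy, MonoidHom.mem_ker.mp hb, map_one])
      · exact MonoidHom.mem_ker.mpr (by rw [heqk _ (X.inv_mem hy), MonoidHom.mem_ker.mp ha, map_one])
    · intro y hy
      refine Subgroup.ext fun a => ⟨?_, ?_⟩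
      · rintro ⟨_, ⟨b, rfl⟩, rfl⟩
        exact ⟨y b, heqk y hy b⟩
      · rintro ⟨b, rfl⟩
        exact ⟨g (y⁻¹ b), ⟨_, rfl⟩, by rw [heqk _ (X.inv_mem hy)]; exact MulAut.apply_inv_self A y _⟩
    · rw [eq_bot_iff]
      rintro a ⟨ha, b, rfl⟩
      have ha' : g (g b) = 1 := ha
      rw [hgid] at ha'
      exact Subgroup.mem_bot.mpr ha'
    · rw [eq_top_iff]
      intro a _
      rw [← inv_mul_cancel_right a (g a)]
      exact Subgroup.mul_mem_sup (MonoidHom.mem_ker.mpr (by rw [map_mul, map_inv, hgid, mul_inv_cancel])) ⟨a, rfl⟩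
  have hfinj : ∀ a, f a = 1 → a = 1 := fun a ha => by
    have : g a = 1 := by
      obtain ⟨j, rfl⟩ : ∃ j, k = j + 1 := ⟨k - 1, by omega⟩
      rw [hgit, Function.iterate_succ_apply, ha, iterate_map_one]
    exact Subgroup.mem_bot.mp (hker ▸ (MonoidHom.mem_ker.mpr this))
  intro a ha
  have hle : V ≤ (powMonoidHom p : A →* A).ker := fun v hv => MonoidHom.mem_ker.mpr (hV v hv)
  have hcard : Nat.card (powMonoidHom p : A →* A).ker ≤ Nat.card V :=
    Nat.card_le_card_of_injective (fun w => ⟨f w, hfΩ _ (MonoidHom.mem_ker.mp w.2)⟩) fun w w' hww => by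
      have h1 : f ((w : A) * (w' : A)⁻¹) = 1 := by
        have h' : f w = f w' := congrArg Subtype.val hww
        rw [map_mul, map_inv, h', mul_inv_cancel]
      exact Subtype.ext (mul_inv_eq_one.mp (hfinj _ h1))
  rw [Subgroup.eq_of_le_of_card_ge hle hcard]
  exact MonoidHom.mem_ker.mpr ha


/-- Let A be a finite abelian p-group and X a group of automorphisms of A of order prime to p. Call a subgroup of A invariant when every element of X maps it onto itself. Then the following are equivalent: (i) A is not the direct product of two nontrivial invariant subgroups; (ii) every invariant subgroup of A is one of the subgroups Ω_i(A) = {a : a^(p^i) = 1}; (iii) the subgroup Ω₁(A) of elements of order dividing p has no invariant subgroups other than 1 and itself. -/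
theorem result {A : Type*} [CommGroup A] [Finite A] {p : ℕ} [Fact p.Prime] (hA : IsPGroup p A) (X : Subgroup (MulAut A)) (hX : (Nat.card X).Coprime p) : ((¬ ∃ B C : Subgroup A, B ≠ ⊥ ∧ C ≠ ⊥ ∧ (∀ x ∈ X, B.map x.toMonoidHom = B) ∧ (∀ x ∈ X, C.map x.toMonoidHom = C) ∧ B ⊓ C = ⊥ ∧ B ⊔ C = ⊤) ↔ (∀ B : Subgroup A, (∀ x ∈ X, B.map x.toMonoidHom = B) → ∃ i : ℕ, ∀ a : A, a ∈ B ↔ a ^ p ^ i = 1)) ∧ ((∀ B : Subgroup A, (∀ x ∈ X, B.map x.toMonoidHom = B) → ∃ i : ℕ, ∀ a : A, a ∈ B ↔ a ^ p ^ i = 1) ↔ (∀ B : Subgroup A, (∀ x ∈ X, B.map x.toMonoidHom = B) → (∀ b ∈ B, b ^ p = 1) → B = ⊥ ∨ ∀ a : A, a ∈ B ↔ a ^ p = 1)) := by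
  have hΩ : ∀ B : Subgroup A, ∀ q : ℕ, ((∀ a : A, a ∈ B ↔ a ^ q = 1) → ∀ x ∈ X, B.map x.toMonoidHom = B) := by
    intro B q hB x hx
    refine Subgroup.ext fun a => ⟨?_, fun ha => ⟨x⁻¹ a, ?_, MulAut.apply_inv_self A x a⟩⟩
    · rintro ⟨b, hb, rfl⟩
      exact (hB _).mpr (by rw [MulEquiv.coe_toMonoidHom, ← map_pow, (hB b).mp hb, map_one])
    · exact (hB _).mpr (by rw [← map_pow, (hB a).mp ha, map_one])
  -- uniserial implies indecomposable
  have h21 : (∀ B : Subgroup A, (∀ x ∈ X, B.map x.toMonoidHom = B) → ∃ i : ℕ, ∀ a : A, a ∈ B ↔ a ^ p ^ i = 1) →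
      ¬ ∃ B C : Subgroup A, B ≠ ⊥ ∧ C ≠ ⊥ ∧ (∀ x ∈ X, B.map x.toMonoidHom = B) ∧
        (∀ x ∈ X, C.map x.toMonoidHom = C) ∧ B ⊓ C = ⊥ ∧ B ⊔ C = ⊤ := by
    rintro h2 ⟨B, C, hB, hC, hBi, hCi, hBC, -⟩
    have hsoc : ∀ D : Subgroup A, D ≠ ⊥ → (∀ x ∈ X, D.map x.toMonoidHom = D) → ∀ a : A, a ^ p = 1 → a ∈ D := by
      intro D hD hDi a ha
      obtain ⟨i, hi⟩ := h2 D hDi
      rcases i with - | i
      · exact absurd (eq_bot_iff.mpr fun d hd => by simpa using (hi d).mp hd) hD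
      · rw [hi, pow_succ', pow_mul, ha, one_pow]
    obtain ⟨z, hz⟩ := exists_prime_orderOf_dvd_card' (G := B) p
      ((hA.to_subgroup B).card_eq_or_dvd.resolve_left (mt Subgroup.card_eq_one.mp hB))
    have hzp : (z : A) ^ p = 1 := by rw [← hz, ← Subgroup.orderOf_coe, pow_orderOf_eq_one]
    have : (z : A) ∈ B ⊓ C := ⟨z.2, hsoc C hC hCi _ hzp⟩
    rw [hBC, Subgroup.mem_bot] at this
    rw [← Subgroup.orderOf_coe, this, orderOf_one] at hz
    exact (Fact.out : p.Prime).ne_one hz.symm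
  -- irreducible socle implies uniserial
  have h32 : (∀ B : Subgroup A, (∀ x ∈ X, B.map x.toMonoidHom = B) → (∀ b ∈ B, b ^ p = 1) → B = ⊥ ∨ ∀ a : A, a ∈ B ↔ a ^ p = 1) →
      ∀ B : Subgroup A, (∀ x ∈ X, B.map x.toMonoidHom = B) → ∃ i : ℕ, ∀ a : A, a ∈ B ↔ a ^ p ^ i = 1 := by
    intro h3
    suffices hind : ∀ i : ℕ, ∀ B : Subgroup A, (∀ x ∈ X, B.map x.toMonoidHom = B) → (∀ b ∈ B, b ^ p ^ i = 1) →
        ∃ j : ℕ, ∀ a : A, a ∈ B ↔ a ^ p ^ j = 1 by
      intro B hB
      obtain ⟨i, hi⟩ := IsPGroup.iff_card.mp hA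
      exact hind i B hB fun b _ => hi ▸ pow_card_eq_one'
    intro i
    induction i with
    | zero => exact fun B _ hb => ⟨0, fun a => ⟨hb a, fun ha => by simp only [pow_zero, pow_one] at ha; exact ha ▸ B.one_mem⟩⟩
    | succ i ih =>
      intro B hBi hb
      have hPi : ∀ x ∈ X, (B.map (powMonoidHom p : A →* A)).map x.toMonoidHom = B.map (powMonoidHom p) := by
        intro x hx
        conv_rhs => rw [← hBi x hx]
        rw [Subgroup.map_map, Subgroup.map_map]
        congr 1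
        ext a
        simp
      obtain ⟨j, hj⟩ := ih _ hPi (by rintro _ ⟨b, hb', rfl⟩; simp [← pow_mul, ← pow_succ', hb b hb'])
      have hmem : ∀ a, a ∈ B ⊓ (powMonoidHom p : A →* A).ker ↔ a ∈ B ∧ a ^ p = 1 := fun a => Iff.rfl
      rcases h3 (B ⊓ (powMonoidHom p : A →* A).ker) (fun x hx => by
        refine (Subgroup.map_inf _ _ _ (MulEquiv.injective x)).trans ?_
        rw [hBi x hx, hΩ _ p (fun a => MonoidHom.mem_ker) x hx]) (fun b hb' => hb'.2) with h0 | h1
      · refine ⟨0, fun a => ⟨fun ha => ?_, fun ha => by simp only [pow_zero, pow_one] at ha; exact ha ▸ B.one_mem⟩⟩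
        rw [pow_zero, pow_one]
        by_contra ha1
        have hne : B ≠ ⊥ := fun h => ha1 (Subgroup.mem_bot.mp (h ▸ ha))
        obtain ⟨z, hz⟩ := exists_prime_orderOf_dvd_card' (G := B) p
          ((hA.to_subgroup B).card_eq_or_dvd.resolve_left (mt Subgroup.card_eq_one.mp hne))
        have : (z : A) ∈ B ⊓ (powMonoidHom p : A →* A).ker :=
          (hmem _).mpr ⟨z.2, by rw [← hz, ← Subgroup.orderOf_coe, pow_orderOf_eq_one]⟩
        rw [h0, Subgroup.mem_bot] at this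
        rw [← Subgroup.orderOf_coe, this, orderOf_one] at hz
        exact (Fact.out : p.Prime).ne_one hz.symm
      · refine ⟨j + 1, fun a => ⟨fun ha => ?_, fun ha => ?_⟩⟩
        · rw [pow_succ', pow_mul]
          exact (hj _).mp ⟨a, ha, rfl⟩
        · rw [pow_succ', pow_mul] at ha
          obtain ⟨b, hb', hbe⟩ := (hj _).mpr ha
          have : a * b⁻¹ ∈ B := ((hmem _).mp ((h1 _).mpr (by
            rw [mul_pow, inv_pow, show b ^ p = a ^ p from hbe, mul_inv_cancel]))).1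
          simpa using B.mul_mem this hb'
  have h23 : (∀ B : Subgroup A, (∀ x ∈ X, B.map x.toMonoidHom = B) → ∃ i : ℕ, ∀ a : A, a ∈ B ↔ a ^ p ^ i = 1) →
      ∀ B : Subgroup A, (∀ x ∈ X, B.map x.toMonoidHom = B) → (∀ b ∈ B, b ^ p = 1) → B = ⊥ ∨ ∀ a : A, a ∈ B ↔ a ^ p = 1 := by
    intro h2 B hBi hb
    obtain ⟨i, hi⟩ := h2 B hBi
    rcases i with - | i
    · exact Or.inl (eq_bot_iff.mpr fun d hd => by simpa using (hi d).mp hd)
    · exact Or.inr fun a => ⟨hb a, fun ha => (hi a).mpr (by rw [pow_succ', pow_mul, ha, one_pow])⟩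
  -- indecomposable implies irreducible socle
  have h13 : (¬ ∃ B C : Subgroup A, B ≠ ⊥ ∧ C ≠ ⊥ ∧ (∀ x ∈ X, B.map x.toMonoidHom = B) ∧
        (∀ x ∈ X, C.map x.toMonoidHom = C) ∧ B ⊓ C = ⊥ ∧ B ⊔ C = ⊤) →
      ∀ B : Subgroup A, (∀ x ∈ X, B.map x.toMonoidHom = B) → (∀ b ∈ B, b ^ p = 1) → B = ⊥ ∨ ∀ a : A, a ∈ B ↔ a ^ p = 1 := by
    intro h1 B hBi hb
    rcases eq_or_ne B ⊥ with h | h
    · exact Or.inl h
    refine Or.inr fun a => ⟨hb a, ?_⟩
    obtain ⟨z, hz⟩ := exists_prime_orderOf_dvd_card' (G := B) p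
      ((hA.to_subgroup B).card_eq_or_dvd.resolve_left (mt Subgroup.card_eq_one.mp h))
    obtain ⟨m, hm⟩ : p ∣ Monoid.exponent A :=
      (hz ▸ Subgroup.orderOf_coe z ▸ Monoid.order_dvd_exponent (z : A))
    let W : Subgroup A := (powMonoidHom m : A →* A).range
    have hWp : ∀ w ∈ W, w ^ p = 1 := by
      rintro _ ⟨c, rfl⟩
      rw [powMonoidHom_apply, ← pow_mul, mul_comm, ← hm, Monoid.pow_exponent_eq_one]
    have hWi : ∀ x ∈ X, W.map x.toMonoidHom = W := by
      intro x hx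
      refine Subgroup.ext fun w => ⟨?_, ?_⟩
      · rintro ⟨_, ⟨c, rfl⟩, rfl⟩; exact ⟨x c, by simp⟩
      · rintro ⟨c, rfl⟩; exact ⟨_, ⟨x⁻¹ c, rfl⟩, by simp⟩
    have hWne : W ≠ ⊥ := by
      intro hW
      have hmpos : 0 < m := by
        rcases Nat.eq_zero_or_pos m with h0 | h0
        · exact absurd (hm.trans (by rw [h0, mul_zero])) Monoid.exponent_ne_zero_of_finite
        · exact h0
      have := Monoid.exponent_dvd_of_forall_pow_eq_one (G := A) (n := m) fun c =>
        Subgroup.mem_bot.mp (hW ▸ ⟨c, rfl⟩)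
      rw [hm] at this
      have := Nat.le_of_dvd hmpos this
      have := Nat.mul_lt_mul_of_pos_right (Fact.out : p.Prime).one_lt hmpos
      omega
    have hroots : ∀ v ∈ B, ∃ c : A, c ^ m = v := fun v hv =>
      roots_eq hA X hX h1 m hm W hWi hWp (fun w hw => hw) hWne v (hb v hv)
    exact roots_eq hA X hX h1 m hm B hBi hb hroots h a
  exact ⟨⟨fun h => h32 (h13 h), h21⟩, ⟨h23, h32⟩⟩

end Cfsg.Agent.S3775
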