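import Cfsg.Agent.EqLemmas
import Cfsg.Agent.Lib.SuzukiGross.Transitive
-- import your own Cfsg.Agent.* helpers here

set_option autoImplicit false
open Cfsg
open scoped commutatorElement

namespace Cfsg.Agent.S3776

/-- Let G be a finite non-abelian 2-group with more than one involution admitting a solvable group of automorphisms that permutes its involutions transitively. Then the derived subgroup, the Frattini subgroup and the centre of G coincide and consist exactly of the elements x with x² = 1. -/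
theorem result {G : Type*} [Group G] [Finite G] (hG : IsPGroup 2 G) (hna : ¬ IsMulCommutative G) (htwo : ∃ x y : G, x ≠ y ∧ x ≠ 1 ∧ x ^ 2 = 1 ∧ y ≠ 1 ∧ y ^ 2 = 1) (hY : ∃ Y : Subgroup (MulAut G), Group.IsSolvable Y ∧ ∀ x y : G, x ≠ 1 → x ^ 2 = 1 → y ≠ 1 → y ^ 2 = 1 → ∃ a ∈ Y, a x = y) : commutator G = frattini G ∧ frattini G = Subgroup.center G ∧ ∀ x : G, x ∈ Subgroup.center G ↔ x ^ 2 = 1 := by
  classical
  haveI := Fact.mk Nat.prime_two
  obtain ⟨Y, hsol, htr⟩ := hY
  obtain ⟨u, u', huu', hu1, hu2, hu'1, hu'2⟩ := htwo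
  have hne : ∃ x y : G, x * y ≠ y * x := by
    by_contra h
    simp only [not_exists, not_not] at h
    exact hna ⟨⟨h⟩⟩
  obtain ⟨F, _, _, _, ⟨d⟩⟩ := Cfsg.Agent.SuzukiGross.exists_grossData hG hne
    ⟨u, u', huu', hu1, by rwa [← pow_two], hu'1, by rwa [← pow_two]⟩ Y
    (fun x y h1 h2 h3 h4 => htr x y h1 (by rwa [pow_two]) h3 (by rwa [pow_two]))
  have hZ := d.center_eq_V
  have hdC : commutator G ≤ d.V := by
    rw [commutator_eq_closure, Subgroup.closure_le]
    rintro _ ⟨x, y, rfl⟩
    exact d.comm_mem_V x y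
  have hVC : d.V ≤ commutator G := by
    obtain ⟨x, y, hxy⟩ := hne
    set c := ⁅x, y⁆ with hc
    have hc1 : c ≠ 1 := fun h => hxy (commutatorElement_eq_one_iff_mul_comm.1 h)
    intro v hv
    by_cases hv1 : v = 1
    · rw [hv1]; exact one_mem _
    obtain ⟨a, -, rfl⟩ := htr c v hc1 (by rw [pow_two]; exact d.comm_mem_V x y) hv1
      (by rw [pow_two]; exact hv)
    exact Subgroup.characteristic_iff_comap_eq.1 inferInstance a |>.symm.le
      (Subgroup.commutator_mem_commutator (Subgroup.mem_top x) (Subgroup.mem_top y))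
  have hCV : commutator G = d.V := le_antisymm hdC hVC
  have hF : frattini G = commutator G :=
    le_antisymm (Cfsg.Agent.PGroup.frattini_le_of_quotient_elementary le_rfl fun x => by
      rw [hCV, pow_two]; exact d.sq_mem_V x) (Cfsg.Agent.PGroup.commutator_le_frattini hG)
  exact ⟨hF.symm, by rw [hF, hZ, hCV], fun x => by rw [hZ, pow_two]; rfl⟩

end Cfsg.Agent.S3776
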