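import Cfsg.Statements.S3778
import Cfsg.Agent.EqLemmas
-- import your own Cfsg.Agent.* helpers here

set_option autoImplicit false
open Cfsg

open scoped commutatorElement

namespace Cfsg.Agent.S3778

/-- If G is a finite p-group in which every conjugacy class has at most p^b elements (every element has centralizer of index at most p^b), then G is abelian when b = 0, and when b ≥ 1 its nilpotency class c satisfies (c − 1)(p − 1) < bp, that is c < bp/(p − 1) + 1, and hence c ≤ 2b. -/
theorem result {G : Type*} [Group G] [Finite G] {p : ℕ} [Fact p.Prime] (hG : IsPGroup p G) (b : ℕ) (hb : ∀ x : G, (Subgroup.centralizer ({x} : Set G)).index ≤ p ^ b) : ∃ c : ℕ, (⊤ : Subgroup G).lowerCentralSeries c = ⊥ ∧ (b ≠ 0 → (c - 1) * (p - 1) < b * p ∧ c ≤ 2 * b) ∧ (b = 0 → c ≤ 1) := by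
  classical
  have hp := (Fact.out : p.Prime)
  haveI := hG.isNilpotent
  have hex := Subgroup.nilpotent_iff_lowerCentralSeries.mp (inferInstance : Group.IsNilpotent G)
  obtain ⟨c, hc, hmin⟩ : ∃ c, (⊤ : Subgroup G).lowerCentralSeries c = ⊥ ∧
      ∀ i, i < c → (⊤ : Subgroup G).lowerCentralSeries i ≠ ⊥ :=
    ⟨Nat.find hex, Nat.find_spec hex, fun i hi => Nat.find_min hex hi⟩
  let γ : ℕ → Subgroup G := fun i => (⊤ : Subgroup G).lowerCentralSeries i
  refine ⟨c, hc, ?_, ?_⟩
  swap
  · intro hb0
    by_contra hlt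
    push Not at hlt
    apply hmin 1 hlt
    rw [Subgroup.lowerCentralSeries_one_eq_bot_iff]
    refine ⟨⟨fun x y => ?_⟩⟩
    have h1 := hb x
    rw [hb0, pow_zero] at h1
    have h2 : Subgroup.centralizer ({x} : Set G) = ⊤ :=
      Subgroup.index_eq_one.mp (le_antisymm h1 (Nat.one_le_iff_ne_zero.mpr Subgroup.index_ne_zero_of_finite))
    exact (Subgroup.mem_centralizer_singleton_iff.mp (h2 ▸ Subgroup.mem_top y : y ∈ Subgroup.centralizer ({x} : Set G))).symm
  intro hb0
  -- two-step centralisers
  let C : ℕ → Subgroup G := fun i => Subgroup.comap (QuotientGroup.mk' (γ (i + 2)))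
    (Subgroup.centralizer (((γ i).map (QuotientGroup.mk' (γ (i + 2))) : Subgroup _) : Set (G ⧸ γ (i + 2))))
  have hC : ∀ i x, x ∈ C i ↔ ∀ a ∈ γ i, ⁅a, x⁆ ∈ γ (i + 2) := by
    intro i x
    simp only [C, Subgroup.mem_comap, Subgroup.mem_centralizer_iff]
    constructor
    · intro h a ha
      have h1 := h _ ⟨a, ha, rfl⟩
      rw [← commutatorElement_eq_one_iff_mul_comm, ← map_commutatorElement] at h1
      exact (QuotientGroup.eq_one_iff _).mp h1
    · rintro h _ ⟨a, ha, rfl⟩
      rw [← commutatorElement_eq_one_iff_mul_comm, ← map_commutatorElement]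
      exact (QuotientGroup.eq_one_iff _).mpr (h a ha)
  have hproper : ∀ i, i + 1 < c → C i ≠ ⊤ := by
    intro i hi htop
    apply hmin (i + 1) hi
    have h1 : γ (i + 1) ≤ γ (i + 2) := by
      show ⁅γ i, (⊤ : Subgroup G)⁆ ≤ γ (i + 2)
      rw [Subgroup.commutator_le]
      exact fun a ha x _ => (hC i x).mp (htop ▸ Subgroup.mem_top x) a ha
    have hs : ∀ t, γ (i + 1) ≤ γ (i + 1 + t) := by
      intro t
      induction t with
      | zero => exact le_rfl
      | succ t ih => exact h1.trans (Subgroup.commutator_mono ih le_rfl)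
    refine le_bot_iff.mp ((hs c).trans ?_)
    exact (Subgroup.lowerCentralSeries_antitone _ (Nat.le_add_left c (i + 1))).trans hc.le
  -- each jump contributes to the breadth
  have hjump : ∀ x : G, ((Finset.range (c - 1)).filter fun i => x ∉ C i).card ≤ b := by
    intro x
    set D := Subgroup.centralizer ({x} : Set G)
    have hstep : ∀ i, x ∉ C i → p * (D ⊔ γ i).index ≤ (D ⊔ γ (i + 1)).index := by
      intro i hx
      rw [hC] at hx
      push Not at hx
      obtain ⟨a, ha, hax⟩ := hx
      have hle : D ⊔ γ (i + 1) ≤ D ⊔ γ i := sup_le_sup_left (Subgroup.lowerCentralSeries_antitone _ (Nat.le_succ i)) D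
      have hne : a ∉ D ⊔ γ (i + 1) := by
        intro ha'
        obtain ⟨d, hd, e, he, hde⟩ := Subgroup.mem_sup_of_normal_right.mp ha'
        apply hax
        rw [← hde]
        have hd' : ⁅d, x⁆ = 1 := commutatorElement_eq_one_iff_mul_comm.mpr (Subgroup.mem_centralizer_singleton_iff.mp hd)
        rw [show ⁅d * e, x⁆ = d * ⁅e, x⁆ * d⁻¹ * ⁅d, x⁆ by simp only [commutatorElement_def]; group, hd', mul_one]
        exact (Subgroup.lowerCentralSeries_normal _ _).conj_mem _ (Subgroup.commutator_mem_commutator he (Subgroup.mem_top x)) d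
      rw [← Subgroup.relIndex_mul_index hle]
      refine Nat.mul_le_mul_right _ ?_
      obtain ⟨k, hk⟩ := (hG.to_subgroup (D ⊔ γ i)).index ((D ⊔ γ (i + 1)).subgroupOf (D ⊔ γ i))
      change (D ⊔ γ (i + 1)).relIndex (D ⊔ γ i) = p ^ k at hk
      rw [hk]
      rcases Nat.eq_zero_or_pos k with rfl | hk0
      · exact absurd (Subgroup.mem_sup_right ha) fun h => hne (Subgroup.relIndex_eq_one.mp (by rw [hk, pow_zero]) h)
      · exact Nat.le_self_pow hk0.ne' p
    have hsum : ∀ m, p ^ ((Finset.range m).filter fun i => x ∉ C i).card ≤ (D ⊔ γ m).index := by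
      intro m
      induction m with
      | zero =>
        simp only [Finset.range_zero, Finset.filter_empty, Finset.card_empty, pow_zero]
        exact Nat.one_le_iff_ne_zero.mpr Subgroup.index_ne_zero_of_finite
      | succ m ih =>
        rw [Finset.range_add_one, Finset.filter_insert]
        by_cases h : x ∈ C m
        · rw [if_neg (not_not.mpr h)]
          refine ih.trans (Nat.le_of_dvd (Nat.pos_of_ne_zero Subgroup.index_ne_zero_of_finite) (Subgroup.index_dvd_of_le ?_))
          exact sup_le_sup_left (Subgroup.lowerCentralSeries_antitone _ (Nat.le_succ m)) D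
        · rw [if_pos h, Finset.card_insert_of_notMem (by simp), pow_succ']
          exact (Nat.mul_le_mul_left p ih).trans (hstep m h)
    refine (Nat.pow_le_pow_iff_right hp.one_lt).mp ((hsum (c - 1)).trans (le_trans ?_ (hb x)))
    exact Nat.le_of_dvd (Nat.pos_of_ne_zero Subgroup.index_ne_zero_of_finite) (Subgroup.index_dvd_of_le le_sup_left)
  haveI := Fintype.ofFinite G
  have hcount : ∀ i, i + 1 < c → (p - 1) * Fintype.card G ≤ p * (Finset.univ.filter fun x => x ∉ C i).card := by
    intro i hi
    obtain ⟨k, hk⟩ := hG.index (C i)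
    have hk0 : k ≠ 0 := fun h => hproper i hi (Subgroup.index_eq_one.mp (by rw [hk, h, pow_zero]))
    have h1 : p * Nat.card (C i) ≤ Fintype.card G := by
      rw [← Nat.card_eq_fintype_card, ← (C i).card_mul_index, hk, mul_comm p]
      exact Nat.mul_le_mul_left _ (Nat.le_self_pow hk0 p)
    have h2 : (Finset.univ.filter fun x => x ∉ C i).card + Nat.card (C i) = Fintype.card G := by
      rw [Nat.card_eq_fintype_card, Fintype.card_subtype, add_comm]
      exact Finset.card_filter_add_card_filter_not _
    rw [← h2] at h1 ⊢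
    obtain ⟨q, rfl⟩ : ∃ q, p = q + 1 := ⟨p - 1, by have := hp.one_le; omega⟩
    rw [Nat.add_sub_cancel]
    nlinarith
  have hmain : (c - 1) * (p - 1) < b * p := by
    by_contra hlt
    push Not at hlt
    have h1 : (c - 1) * ((p - 1) * Fintype.card G) ≤
        p * ∑ x : G, ((Finset.range (c - 1)).filter fun i => x ∉ C i).card := by
      calc (c - 1) * ((p - 1) * Fintype.card G) = ∑ _i ∈ Finset.range (c - 1), (p - 1) * Fintype.card G := by simp
        _ ≤ ∑ i ∈ Finset.range (c - 1), p * (Finset.univ.filter fun x => x ∉ C i).card :=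
            Finset.sum_le_sum fun i hi => hcount i (by have := Finset.mem_range.mp hi; omega)
        _ = _ := by
          rw [Finset.mul_sum]
          simp only [Finset.card_filter, Finset.mul_sum]
          exact Finset.sum_comm
    have h2 : ∑ x : G, ((Finset.range (c - 1)).filter fun i => x ∉ C i).card < ∑ _x : G, b := by
      refine Finset.sum_lt_sum (fun x _ => hjump x) ⟨1, Finset.mem_univ _, ?_⟩
      rw [Finset.filter_false_of_mem (fun i _ => not_not.mpr (C i).one_mem), Finset.card_empty]
      exact Nat.pos_of_ne_zero hb0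
    rw [Finset.sum_const, Finset.card_univ, smul_eq_mul] at h2
    have h3 : p * (∑ x : G, ((Finset.range (c - 1)).filter fun i => x ∉ C i).card) < p * (Fintype.card G * b) :=
      mul_lt_mul_of_pos_left h2 hp.pos
    nlinarith [Nat.mul_le_mul_right (Fintype.card G) hlt]
  refine ⟨hmain, ?_⟩
  by_contra hlt
  push Not at hlt
  have hp2 := hp.two_le
  have h1 : 2 * b * (p - 1) ≤ (c - 1) * (p - 1) := Nat.mul_le_mul_right _ (by omega)
  have h2 : b * p ≤ 2 * b * (p - 1) := by
    rw [mul_comm 2 b, mul_assoc]
    exact Nat.mul_le_mul_left _ (by omega)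
  omega

end Cfsg.Agent.S3778
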