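import Cfsg.Statements.S3780
import Cfsg.Agent.EqLemmas

set_option autoImplicit false
open Cfsg

namespace Cfsg.Agent.S3780

variable {V : Type*} [CommGroup V] [Finite V] {p : ℕ} [Fact p.Prime]

/-- A finite abelian `p`-group is generated by as many elements as the rank of its socle. -/
lemma exists_generators (hV : IsPGroup p V) (r : ℕ)
    (hr : Nat.card (powMonoidHom p : V →* V).ker = p ^ r) :
    ∃ S : Finset V, S.card ≤ r ∧ Subgroup.closure (S : Set V) = ⊤ := by
  classical
  set P := (powMonoidHom p : V →* V).range with hP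
  have hQ : IsPGroup p (V ⧸ P) := hV.to_quotient P
  have hcQ : Nat.card (V ⧸ P) = p ^ r := by
    rw [← hr]
    have h1 := Subgroup.card_mul_index (powMonoidHom p : V →* V).ker
    rw [Subgroup.index_ker] at h1
    have h2 := Subgroup.card_mul_index P
    rw [Subgroup.index_eq_card] at h2
    have hpos : 0 < Nat.card P := Nat.card_pos
    apply Nat.eq_of_mul_eq_mul_left hpos
    rw [h2, ← h1, mul_comm]
  -- greedily pick generators of the quotient
  have main : ∀ k (H : Subgroup (V ⧸ P)), H.index = p ^ k →
      ∃ S : Finset V, S.card ≤ k ∧ H ⊔ (Subgroup.closure (S : Set V)).map (QuotientGroup.mk' P) = ⊤ := by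
    intro k
    induction k using Nat.strong_induction_on with
    | _ k ih =>
      intro H hH
      by_cases htop : H = ⊤
      · exact ⟨∅, by simp, by simp [htop]⟩
      obtain ⟨x, hx⟩ : ∃ x, x ∉ H := by
        by_contra h; push Not at h; exact htop ((Subgroup.eq_top_iff' H).mpr h)
      obtain ⟨v, rfl⟩ := QuotientGroup.mk'_surjective P x
      set H' := H ⊔ Subgroup.zpowers (QuotientGroup.mk' P v) with hH'
      have hlt : H < H' := lt_of_le_of_ne le_sup_left (fun h => hx (h ▸ Subgroup.mem_sup_right (Subgroup.mem_zpowers _)))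
      obtain ⟨k', hk'⟩ := hQ.index H'
      have hkk : k' < k := by
        have := Subgroup.index_strictAnti hlt
        rw [hH, hk'] at this
        exact (Nat.pow_lt_pow_iff_right (Fact.out : p.Prime).one_lt).mp this
      obtain ⟨S, hS, hgen⟩ := ih k' hkk H' hk'
      refine ⟨insert v S, (Finset.card_insert_le v S).trans (by omega), ?_⟩
      rw [← top_le_iff, ← hgen, hH']
      refine sup_le (sup_le le_sup_left (le_sup_of_le_right ?_)) (le_sup_of_le_right ?_)
      · rw [Subgroup.zpowers_le]
        exact ⟨v, Subgroup.subset_closure (by simp), rfl⟩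
      · exact Subgroup.map_mono (Subgroup.closure_mono (by simp))
  obtain ⟨S, hS, hgen⟩ := main r ⊥ (by rw [Subgroup.index_bot, hcQ])
  refine ⟨S, hS, ?_⟩
  rw [bot_sup_eq] at hgen
  set T := Subgroup.closure (S : Set V)
  have hsplit : ∀ v : V, ∃ t ∈ T, ∃ w, v = t * w ^ p := by
    intro v
    obtain ⟨t, ht, hte⟩ : QuotientGroup.mk' P v ∈ T.map (QuotientGroup.mk' P) := hgen ▸ Subgroup.mem_top _
    obtain ⟨w, hw⟩ := QuotientGroup.eq.mp hte
    exact ⟨t, ht, w, by rw [show w ^ p = t⁻¹ * v from hw, mul_inv_cancel_left]⟩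
  have hdeep : ∀ k (v : V), ∃ t ∈ T, ∃ w, v = t * w ^ p ^ k := by
    intro k
    induction k with
    | zero => intro v; exact ⟨1, one_mem _, v, by simp⟩
    | succ k ih =>
      intro v
      obtain ⟨t, ht, w, rfl⟩ := ih v
      obtain ⟨t', ht', w', rfl⟩ := hsplit w
      exact ⟨t * t' ^ p ^ k, mul_mem ht (pow_mem ht' _), w',
        by rw [mul_pow, ← pow_mul, mul_assoc, pow_succ']⟩
  obtain ⟨m, hm⟩ := IsPGroup.iff_card.mp hV
  rw [Subgroup.eq_top_iff']
  intro v
  obtain ⟨t, ht, w, rfl⟩ := hdeep m v
  rw [← hm, pow_card_eq_one', mul_one]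
  exact ht

/-- An endomorphism whose kernel has at most `q` elements has `k`-th iterated kernel of at most `q ^ k`. -/
lemma card_ker_iterate {W : Type*} [AddCommGroup W] [Finite W] (D : AddMonoid.End W) (q : ℕ)
    (hq : Nat.card (AddMonoidHom.ker D) ≤ q) : ∀ k, Nat.card (AddMonoidHom.ker (D ^ k)) ≤ q ^ k
  | 0 => by
    have : AddMonoidHom.ker (D ^ 0) = ⊥ := by
      rw [eq_bot_iff]; intro x hx; exact hx
    rw [this]; simp
  | k + 1 => by
    have hmem : ∀ x ∈ AddMonoidHom.ker (D ^ (k + 1)), D x ∈ AddMonoidHom.ker (D ^ k) := by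
      intro x hx
      have h0 : (D ^ (k + 1)) x = 0 := hx
      rw [pow_succ] at h0
      exact h0
    let f : AddMonoidHom.ker (D ^ (k + 1)) →+ AddMonoidHom.ker (D ^ k) :=
      { toFun := fun x => ⟨D x, hmem x x.2⟩
        map_zero' := by ext; simp
        map_add' := by intro x y; ext; simp }
    have h1 := AddSubgroup.card_mul_index f.ker
    rw [AddSubgroup.index_ker] at h1
    refine h1.symm.trans_le ?_
    calc Nat.card f.ker * Nat.card f.range ≤ q * q ^ k := by
          refine Nat.mul_le_mul ?_ ((Nat.card_le_card_of_injective _ Subtype.val_injective).trans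
            (card_ker_iterate D q hq k))
          refine le_trans ?_ hq
          refine Nat.card_le_card_of_injective
            (fun x => (⟨x.1.1, congrArg Subtype.val x.2⟩ : AddMonoidHom.ker D)) ?_
          intro x y h
          exact Subtype.ext (Subtype.ext (congrArg Subtype.val h :))
      _ = q ^ (k + 1) := by ring


/-- Let V be a finite abelian p-group and α an automorphism of V of order p whose fixed-point subgroup has order p^n. Then V can be generated by pn elements: some subset of V with at most pn elements generates V. -/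
theorem result {V : Type*} [CommGroup V] [Finite V] {p : ℕ} [Fact p.Prime] (hV : IsPGroup p V) (α : MulAut V) (hα : orderOf α = p) (n : ℕ) (hfix : Nat.card {v : V // α v = v} = p ^ n) : ∃ S : Finset V, S.card ≤ p * n ∧ Subgroup.closure (S : Set V) = ⊤ := by
  classical
  set W := (powMonoidHom p : V →* V).ker with hW
  obtain ⟨r, hr⟩ := IsPGroup.iff_card.mp (hV.to_subgroup W)
  obtain ⟨S, hS, hgen⟩ := exists_generators hV r hr
  refine ⟨S, hS.trans ?_, hgen⟩
  let a : AddMonoid.End (Additive W) := MonoidHom.toAdditive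
    ((α.toMonoidHom.comp W.subtype).codRestrict W (fun x => by
      have hx : (x : V) ^ p = 1 := x.2
      show (α x.1) ^ p = 1
      rw [← map_pow, hx, map_one]))
  have ha : ∀ w, ((Additive.toMul (a w) : W) : V) = α (Additive.toMul w : W) := fun w => rfl
  have hpow : ∀ k w, ((Additive.toMul ((a ^ k) w) : W) : V) = (α ^ k) (Additive.toMul w : W) := by
    intro k
    induction k with
    | zero => intro w; rfl
    | succ k ih => intro w; rw [pow_succ, pow_succ]; exact ih (a w)
  have hap : a ^ p = 1 := by
    refine AddMonoidHom.ext fun w => ?_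
    apply Additive.toMul.injective
    apply Subtype.ext
    refine (hpow p w).trans ?_
    rw [← hα, pow_orderOf_eq_one]
    rfl
  have hchar : (p : AddMonoid.End (Additive W)) = 0 := by
    refine AddMonoidHom.ext fun w => ?_
    show (p : AddMonoid.End (Additive W)) w = 0
    rw [AddMonoid.End.natCast_apply]
    apply Additive.toMul.injective
    apply Subtype.ext
    rw [toMul_nsmul, SubmonoidClass.coe_pow]
    exact (Additive.toMul w).2
  have hnil : (a - 1) ^ p = 0 := by
    obtain ⟨c, hc⟩ := ((Commute.one_right (a - 1))).exists_add_pow_prime_eq (Fact.out : p.Prime)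
    rw [sub_add_cancel, hap, hchar, one_pow, zero_mul, zero_mul, zero_mul, add_zero] at hc
    exact add_eq_right.mp hc.symm
  have hker : Nat.card (AddMonoidHom.ker (a - 1)) ≤ p ^ n := by
    rw [← hfix]
    refine Nat.card_le_card_of_injective (fun x =>
      (⟨((Additive.toMul x.1 : W) : V), ?_⟩ : {v : V // α v = v})) ?_
    · have h := x.2
      rw [AddMonoidHom.mem_ker] at h
      have h' : a x.1 = x.1 := sub_eq_zero.mp h
      exact (ha x.1).symm.trans (by rw [h'])
    · intro x y h
      exact Subtype.ext (Additive.toMul.injective (Subtype.ext (congrArg Subtype.val h :)))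
  have := card_ker_iterate (a - 1) (p ^ n) hker p
  have htop : AddMonoidHom.ker ((a - 1) ^ p : AddMonoid.End (Additive W)) = ⊤ :=
    (AddSubgroup.eq_top_iff' _).mpr fun x => by
      show ((a - 1) ^ p) x = 0
      rw [hnil]; rfl
  replace this : Nat.card (⊤ : AddSubgroup (Additive W)) ≤ (p ^ n) ^ p := htop ▸ this
  rw [AddSubgroup.card_top, Nat.card_congr Additive.toMul, hr, ← pow_mul, mul_comm n p] at this
  exact (Nat.pow_le_pow_iff_right (Fact.out : p.Prime).one_lt).mp this

end Cfsg.Agent.S3780
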