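import Cfsg.Statements.S3781
import Cfsg.Agent.EqLemmas

set_option autoImplicit false
open Cfsg

namespace Cfsg.Agent.S3781

variable {G : Type*} [Group G]

/-- `[A, G, …, G]` with `m` copies of `G`. -/
abbrev iterG (A : Subgroup G) : ℕ → Subgroup G
  | 0 => A
  | m + 1 => ⁅iterG A m, ⊤⁆

lemma iterG_shift (A : Subgroup G) : ∀ m, iterG ⁅A, (⊤ : Subgroup G)⁆ m = iterG A (m + 1)
  | 0 => rfl
  | m + 1 => congrArg (fun X => ⁅X, (⊤ : Subgroup G)⁆) (iterG_shift A m)

lemma iterG_normal (A : Subgroup G) [hA : A.Normal] : ∀ m, (iterG A m).Normal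
  | 0 => hA
  | m + 1 => by
    haveI := iterG_normal A m
    show (⁅iterG A m, (⊤ : Subgroup G)⁆).Normal
    infer_instance

lemma three_le (H₁ H₂ H₃ N : Subgroup G) [N.Normal] (h1 : ⁅⁅H₂, H₃⁆, H₁⁆ ≤ N)
    (h2 : ⁅⁅H₃, H₁⁆, H₂⁆ ≤ N) : ⁅⁅H₁, H₂⁆, H₃⁆ ≤ N := by
  have key : ∀ X : Subgroup G, X ≤ N ↔ X.map (QuotientGroup.mk' N) = ⊥ := by
    intro X; rw [Subgroup.map_eq_bot_iff, QuotientGroup.ker_mk']
  rw [key, Subgroup.map_commutator, Subgroup.map_commutator] at h1 h2 ⊢
  exact Subgroup.commutator_commutator_eq_bot_of_rotate h1 h2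

lemma commutator_gamma_le : ∀ (m : ℕ) (A : Subgroup G), A.Normal →
    ⁅A, (⊤ : Subgroup G).lowerCentralSeries m⁆ ≤ iterG A (m + 1)
  | 0, _, _ => le_rfl
  | m + 1, A, hA => by
    haveI := hA
    haveI := iterG_normal A (m + 2)
    rw [Subgroup.lowerCentralSeries_succ, Subgroup.commutator_comm]
    apply three_le
    · have h1 := Subgroup.commutator_mono (commutator_gamma_le m ⁅A, (⊤ : Subgroup G)⁆ inferInstance)
        (le_refl (⊤ : Subgroup G))
      calc ⁅⁅(⊤ : Subgroup G), A⁆, (⊤ : Subgroup G).lowerCentralSeries m⁆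
          = ⁅⁅A, (⊤ : Subgroup G)⁆, (⊤ : Subgroup G).lowerCentralSeries m⁆ := by
            rw [Subgroup.commutator_comm ⊤ A]
        _ ≤ iterG ⁅A, (⊤ : Subgroup G)⁆ (m + 1) := commutator_gamma_le m _ inferInstance
        _ = _ := iterG_shift A (m + 1)
    · calc ⁅⁅A, (⊤ : Subgroup G).lowerCentralSeries m⁆, (⊤ : Subgroup G)⁆
          ≤ ⁅iterG A (m + 1), (⊤ : Subgroup G)⁆ :=
            Subgroup.commutator_mono (commutator_gamma_le m A hA) le_rfl
        _ = _ := rfl


/-- Let G be a finite p-group and n ≥ 1, and write γ_1(G) = G, γ_{k+1}(G) = [γ_k(G), G], and likewise γ_k(N) for a subgroup N. Let N be a normal subgroup of G contained in γ_n(G). If i > 1 and γ_{i+1}(N) ≠ 1, then |γ_i(N) : γ_{i+1}(N)| ≥ p^n. -/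
theorem result {G : Type*} [Group G] [Finite G] {p : ℕ} [Fact p.Prime] (hG : IsPGroup p G) (n : ℕ) (hn : 1 ≤ n) (N : Subgroup G) [N.Normal] (hN : N ≤ (⊤ : Subgroup G).lowerCentralSeries (n - 1)) (i : ℕ) (hi : 1 < i) (hne : N.lowerCentralSeries i ≠ ⊥) : p ^ n ≤ (N.lowerCentralSeries i).relIndex (N.lowerCentralSeries (i - 1)) := by
  haveI := hG.isNilpotent
  by_contra hlt
  push Not at hlt
  have hnorm : ∀ k, (N.lowerCentralSeries k).Normal := by
    intro k
    induction k with
    | zero => exact inferInstance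
    | succ k ih => haveI := ih; rw [Subgroup.lowerCentralSeries_succ]; infer_instance
  obtain ⟨j, rfl⟩ : ∃ j, i = j + 1 := ⟨i - 1, by omega⟩
  obtain ⟨n, rfl⟩ : ∃ k, n = k + 1 := ⟨n - 1, by omega⟩
  simp only [Nat.add_sub_cancel] at hlt hN
  set A := N.lowerCentralSeries j with hA
  set B := N.lowerCentralSeries (j + 1) with hB
  haveI : A.Normal := hnorm _
  haveI : B.Normal := hnorm _
  obtain ⟨c, hc⟩ := nilpotent_iff_lowerCentralSeries.mp (hG.isNilpotent)
  have hiter : ∀ k, iterG A k ≤ (⊤ : Subgroup G).lowerCentralSeries k := by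
    intro k
    induction k with
    | zero => exact le_top
    | succ k ih => exact Subgroup.commutator_mono ih le_rfl
  have hdec : ∀ k, iterG A (k + 1) ≤ iterG A k := fun k => by
    haveI := iterG_normal A k
    exact Subgroup.commutator_le_left _ _
  -- stabilisation
  have hstab : ∀ k, iterG A k ⊔ B = iterG A (k + 1) ⊔ B → iterG A k ≤ B := by
    intro k hk
    have : ∀ l, iterG A k ≤ iterG A (k + l) ⊔ B := by
      intro l
      induction l with
      | zero => exact le_sup_left
      | succ l ih =>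
        refine le_sup_left.trans (hk.le.trans (sup_le ?_ le_sup_right))
        haveI := iterG_normal A (k + l + 1)
        haveI : (iterG A (k + (l + 1)) ⊔ B).Normal := by
          haveI := iterG_normal A (k + (l + 1)); infer_instance
        have key : ∀ X : Subgroup G, X ≤ iterG A (k + (l + 1)) ⊔ B ↔
            X.map (QuotientGroup.mk' (iterG A (k + (l + 1)) ⊔ B)) = ⊥ := by
          intro X; rw [Subgroup.map_eq_bot_iff, QuotientGroup.ker_mk']
        show ⁅iterG A k, (⊤ : Subgroup G)⁆ ≤ _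
        rw [key, Subgroup.map_commutator]
        have h1 : ⁅iterG A (k + l), (⊤ : Subgroup G)⁆ ≤ iterG A (k + (l + 1)) ⊔ B := le_sup_left
        rw [key, Subgroup.map_commutator] at h1
        refine le_bot_iff.mp (le_trans (Subgroup.commutator_mono (Subgroup.map_mono ih) le_rfl) ?_)
        rw [Subgroup.map_sup, ← h1]
        refine Subgroup.commutator_mono (sup_le le_rfl ?_) le_rfl
        rw [(key B).mp le_sup_right]
        exact bot_le
    have h2 := this c
    have h3 : iterG A (k + c) = ⊥ := le_bot_iff.mp <|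
      hc ▸ (hiter (k + c)).trans (Subgroup.lowerCentralSeries_antitone ⊤ (by omega))
    rwa [h3, bot_sup_eq] at h2
  have hbound : ∀ k, iterG A k ≤ B ∨ B.relIndex (iterG A k ⊔ B) * p ^ k ≤ B.relIndex A := by
    intro k
    induction k with
    | zero =>
      right
      have hBA : B ≤ A := Subgroup.lowerCentralSeries_antitone N (Nat.le_succ j)
      show B.relIndex (A ⊔ B) * p ^ 0 ≤ _
      rw [sup_eq_left.mpr hBA, pow_zero, mul_one]
    | succ k ih =>
      rcases ih with h | h
      · exact Or.inl ((hdec k).trans h)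
      by_cases hk : iterG A k ≤ B
      · exact Or.inl ((hdec k).trans hk)
      right
      have hle : iterG A (k + 1) ⊔ B ≤ iterG A k ⊔ B := sup_le_sup_right (hdec k) B
      have hne : (iterG A (k + 1) ⊔ B).relIndex (iterG A k ⊔ B) ≠ 1 := fun h1 =>
        hk (hstab k (le_antisymm (Subgroup.relIndex_eq_one.mp h1) hle))
      have hp : p ≤ (iterG A (k + 1) ⊔ B).relIndex (iterG A k ⊔ B) := by
        obtain ⟨e, he⟩ := (hG.to_subgroup (iterG A k ⊔ B)).index
          ((iterG A (k + 1) ⊔ B).subgroupOf (iterG A k ⊔ B))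
        have he' : (iterG A (k + 1) ⊔ B).relIndex (iterG A k ⊔ B) = p ^ e := he
        rw [he'] at hne ⊢
        cases e with
        | zero => exact absurd (pow_zero p) hne
        | succ e => exact Nat.le_self_pow (Nat.succ_ne_zero e) p
      rw [← Subgroup.relIndex_mul_relIndex B _ _ le_sup_right hle] at h
      calc B.relIndex (iterG A (k + 1) ⊔ B) * p ^ (k + 1)
          = B.relIndex (iterG A (k + 1) ⊔ B) * p * p ^ k := by ring
        _ ≤ B.relIndex (iterG A (k + 1) ⊔ B) *
              (iterG A (k + 1) ⊔ B).relIndex (iterG A k ⊔ B) * p ^ k := by gcongr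
        _ ≤ _ := h
  have hn' : iterG A n ≤ B := by
    rcases hbound n with h | h
    · exact h
    by_contra hk
    have hp : p ≤ B.relIndex (iterG A n ⊔ B) := by
      obtain ⟨e, he⟩ := (hG.to_subgroup (iterG A n ⊔ B)).index (B.subgroupOf (iterG A n ⊔ B))
      have he' : B.relIndex (iterG A n ⊔ B) = p ^ e := he
      rw [he']
      cases e with
      | zero =>
        rw [pow_zero] at he'
        exact absurd (le_sup_left.trans (Subgroup.relIndex_eq_one.mp he')) hk
      | succ e => exact Nat.le_self_pow (Nat.succ_ne_zero e) p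
    have : p ^ (n + 1) ≤ B.relIndex A := by
      calc p ^ (n + 1) = p * p ^ n := by ring
        _ ≤ _ := le_trans (Nat.mul_le_mul_right _ hp) h
    omega
  have hBB : B ≤ ⁅B, (⊤ : Subgroup G)⁆ := by
    calc B = ⁅A, N⁆ := rfl
      _ ≤ ⁅A, (⊤ : Subgroup G).lowerCentralSeries n⁆ := Subgroup.commutator_mono le_rfl hN
      _ ≤ iterG A (n + 1) := commutator_gamma_le n A inferInstance
      _ ≤ _ := Subgroup.commutator_mono hn' le_rfl
  apply hne
  rw [← le_bot_iff, ← hc]
  suffices ∀ k, B ≤ (⊤ : Subgroup G).lowerCentralSeries k from this c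
  intro k
  induction k with
  | zero => exact le_top
  | succ k ih => exact hBB.trans (Subgroup.commutator_mono ih le_rfl)

end Cfsg.Agent.S3781
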