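import Cfsg.Statements.S3784
import Cfsg.Agent.EqLemmas

set_option autoImplicit false
open Cfsg

namespace Cfsg.Agent.S3784

lemma geom_even_step (p : ℕ) (m : ℕ) (hp : Odd p) :
    ∃ S : ℤ, Odd S ∧ (p : ℤ) ^ (2 * m + 1) - 1 = ((p : ℤ) - 1) * S := by
  induction m with
  | zero => exact ⟨1, odd_one, by simp⟩
  | succ m ih =>
    obtain ⟨S, hS, he⟩ := ih
    refine ⟨(p : ℤ) ^ 2 * S + ((p : ℤ) + 1), ?_, ?_⟩
    · have hp' : Odd (p : ℤ) := by exact_mod_cast hp
      exact (hp'.pow.mul hS).add_even (hp'.add_odd odd_one)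
    · linear_combination (p : ℤ) ^ 2 * he

lemma alt_step (q : ℕ) (m : ℕ) (hq : Odd q) :
    ∃ S : ℤ, Odd S ∧ (q : ℤ) ^ (2 * m + 1) + 1 = ((q : ℤ) + 1) * S := by
  induction m with
  | zero => exact ⟨1, odd_one, by simp⟩
  | succ m ih =>
    obtain ⟨S, hS, he⟩ := ih
    refine ⟨(q : ℤ) ^ 2 * S - ((q : ℤ) - 1), ?_, ?_⟩
    · have hq' : Odd (q : ℤ) := by exact_mod_cast hq
      exact (hq'.pow.mul hS).sub_even (hq'.sub_odd odd_one)
    · linear_combination (q : ℤ) ^ 2 * he

lemma odd_factor {S : ℤ} {x : ℤ} {n : ℕ} (hS : Odd S) (h : (2 : ℤ) ^ n = x * S) (hx : 0 < x) :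
    S = 1 := by
  have hSpos : 0 < S := by
    by_contra hn
    push Not at hn
    have : x * S ≤ 0 := mul_nonpos_of_nonneg_of_nonpos hx.le hn
    have h2 : (0 : ℤ) < 2 ^ n := by positivity
    omega
  have hd : S.natAbs ∣ 2 ^ n := by
    have : S ∣ (2 : ℤ) ^ n := ⟨x, by rw [h, mul_comm]⟩
    simpa [Int.natAbs_pow] using Int.natAbs_dvd_natAbs.mpr this
  obtain ⟨k, -, hk⟩ := (Nat.dvd_prime_pow Nat.prime_two).mp hd
  cases k with
  | zero => omega
  | succ k =>
    exfalso
    have : Odd S.natAbs := Int.natAbs_odd.mpr hS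
    rw [hk] at this
    exact (Nat.not_even_iff_odd.mpr this) (Nat.even_pow.mpr ⟨even_two, k.succ_ne_zero⟩)


/-- Let p, q be primes and a, b positive integers with p^a = q^b + 1. Then either p = 2, b = 1, a is prime and q = 2^a − 1; or q = 2, a = 1, b is a power of 2 and p = 2^b + 1; or p^a = 9 and q^b = 8. -/
theorem result (p q a b : ℕ) (hp : p.Prime) (hq : q.Prime) (ha : 1 ≤ a) (hb : 1 ≤ b) (h : p ^ a = q ^ b + 1) : (p = 2 ∧ b = 1 ∧ a.Prime ∧ q + 1 = 2 ^ a) ∨ (q = 2 ∧ a = 1 ∧ (∃ m : ℕ, b = 2 ^ m) ∧ p = 2 ^ b + 1) ∨ (p ^ a = 9 ∧ q ^ b = 8) := by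
  rcases Nat.even_or_odd (p ^ a) with he | ho
  · have hp2 : p = 2 := (Nat.prime_dvd_prime_iff_eq Nat.prime_two hp).mp
      (Nat.prime_two.dvd_of_dvd_pow he.two_dvd) |>.symm
    subst hp2
    left
    have hqo : Odd q := by
      rcases Nat.even_or_odd q with h' | h'
      · exfalso
        have : Even (q ^ b) := Nat.even_pow.mpr ⟨h', by omega⟩
        rw [h] at he
        exact Nat.not_even_iff_odd.mpr this.add_one he
      · exact h'
    have hb1 : b = 1 := by
      rcases Nat.even_or_odd b with ⟨m, rfl⟩ | ⟨m, rfl⟩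
      · exfalso
        have h4 : (q ^ m) % 2 = 1 := Nat.odd_iff.mp hqo.pow
        obtain ⟨k, hk⟩ : ∃ k, q ^ m = 2 * k + 1 := ⟨q ^ m / 2, by omega⟩
        rw [pow_add, hk] at h
        have h5 : 2 ^ a = 4 * (k * k + k) + 2 := by rw [h]; ring
        rcases a with _ | _ | a
        · omega
        · have : q ^ m = 1 := by
            have : k * k + k = 0 := by omega
            have : k = 0 := by nlinarith
            omega
          rcases Nat.pow_eq_one.mp this with h6 | h6
          · exact hq.one_lt.ne' h6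
          · omega
        · rw [pow_succ, pow_succ] at h5; omega
      · obtain ⟨S, hS, he'⟩ := alt_step q m hqo
        have h' : ((2 : ℕ) : ℤ) ^ a = (q : ℤ) ^ (2 * m + 1) + 1 := by exact_mod_cast h
        have h2 := odd_factor hS (h'.trans he') (by positivity)
        rw [h2, mul_one, add_left_inj] at he'
        have h3 : q ^ (2 * m + 1) = q ^ 1 := by rw [pow_one]; exact_mod_cast he'
        exact Nat.pow_right_injective hq.two_le h3
    subst hb1
    rw [pow_one] at h
    refine ⟨rfl, rfl, ?_, h.symm⟩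
    refine (Nat.prime_of_pow_sub_one_prime ?_ (show Nat.Prime (2 ^ a - 1) by rwa [h, Nat.add_sub_cancel])).2
    rintro rfl
    have := hq.two_le
    omega
  · have hpo : Odd p := (Nat.odd_pow_iff (by omega)).mp ho
    have hq2 : q = 2 := by
      have : Even (q ^ b) := by
        rcases Nat.even_or_odd (q ^ b) with h' | h'
        · exact h'
        · exact absurd (h ▸ ho) (Nat.not_odd_iff_even.mpr h'.add_one)
      exact ((Nat.prime_dvd_prime_iff_eq Nat.prime_two hq).mp
        (Nat.prime_two.dvd_of_dvd_pow this.two_dvd)).symm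
    subst hq2
    right
    rcases Nat.even_or_odd a with ⟨c, rfl⟩ | ⟨c, rfl⟩
    · right
      obtain ⟨x, hx⟩ : ∃ x, p ^ c = x + 1 := ⟨p ^ c - 1, by
        have := Nat.one_le_pow c p hp.pos
        omega⟩
      have h1 : 2 ^ b = x * (x + 2) := by
        rw [pow_add, hx] at h
        nlinarith
      obtain ⟨i, -, hi⟩ := (Nat.dvd_prime_pow Nat.prime_two).mp (Dvd.intro _ h1.symm)
      obtain ⟨j, -, hj⟩ := (Nat.dvd_prime_pow Nat.prime_two).mp (Dvd.intro_left _ h1.symm)
      have hx2 : x = 2 := by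
        rw [hi] at hj
        rcases i with _ | _ | i
        · exfalso
          have h3 : Even (2 ^ j) := Nat.even_pow.mpr ⟨even_two, by rintro rfl; simp at hj⟩
          rw [← hj] at h3
          simp [Nat.even_iff] at h3
        · simpa using hi
        · exfalso
          rcases j with _ | _ | j
          · omega
          · simp only [pow_succ, pow_zero] at hj; have := Nat.one_le_two_pow (n := i); generalize 2 ^ i = z at hj this; omega
          · simp only [pow_succ] at hj; generalize 2 ^ i = z at hj; generalize 2 ^ j = w at hj; omega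
      rw [hx2] at hx h1
      refine ⟨?_, by omega⟩
      rw [pow_add, hx]; try norm_num
    · left
      obtain ⟨S, hS, he⟩ := geom_even_step p c hpo
      have h' : (p : ℤ) ^ (2 * c + 1) = (2 : ℤ) ^ b + 1 := by exact_mod_cast h
      have h1 : (2 : ℤ) ^ b = ((p : ℤ) - 1) * S := by linarith
      have h2 := odd_factor hS h1 (by have := hp.two_le; omega)
      rw [h2, mul_one] at he
      have h3 : p ^ (2 * c + 1) = p ^ 1 := by rw [pow_one]; exact_mod_cast (sub_left_inj.mp he)
      have hc : 2 * c + 1 = 1 := Nat.pow_right_injective hp.two_le h3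
      rw [hc, pow_one] at h
      exact ⟨rfl, hc, Nat.pow_of_pow_add_prime (by norm_num) (by omega) (h ▸ hp), h⟩

end Cfsg.Agent.S3784
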