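import Cfsg.Statements.S3785
import Cfsg.Agent.EqLemmas
import Cfsg.Agent.Lib.Coprime.PQ
import Cfsg.Agent.Lib.Cores.Fitting
import Cfsg.Agent.Lib.Solvable.Fitting
import Cfsg.Agent.Lib.Transfer.Criteria
-- import your own Cfsg.Agent.* helpers here

set_option autoImplicit false
open Cfsg

namespace Cfsg.Agent.S3785

theorem le_of_primePow {G : Type*} [Group G] [Finite G] (A H : Subgroup G)
    (h : ∀ z ∈ A, ∀ q k : ℕ, q.Prime → orderOf z = q ^ k → z ∈ H) : A ≤ H := fun a ha =>
  Cfsg.Agent.Transfer.mem_of_forall_primePow fun q hq z hz ⟨k, hk⟩ =>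
    h z (Subgroup.zpowers_le.mpr ha hz) q k hq hk

theorem centralizer_normal {G : Type*} [Group G] (S : Set G) (h : ∀ a : G, ∀ x ∈ S, a * x * a⁻¹ ∈ S) :
    (Subgroup.centralizer S).Normal := by
  refine ⟨fun c hc a => Subgroup.mem_centralizer_iff.mpr fun x hx => ?_⟩
  have h1 := Subgroup.mem_centralizer_iff.mp hc _ (h a⁻¹ x hx)
  have h2 := congrArg (fun y => a * y * a⁻¹) h1
  simpa [mul_assoc] using h2

/-- Let G be a finite solvable group whose Fitting subgroup F(G) has odd order. If an element g of G commutes with every element of prime order of F(G), then g ∈ F(G). -/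
theorem result {G : Type*} [Group G] [Finite G] (hG : Group.IsSolvable G) (hodd : Odd (Nat.card (Cfsg.fittingSubgroup G))) (g : G) (hg : ∀ x ∈ Cfsg.fittingSubgroup G, (orderOf x).Prime → g * x = x * g) : g ∈ Cfsg.fittingSubgroup G := by
  haveI := hG
  set F := Cfsg.fittingSubgroup G with hF
  haveI hFn : F.Normal := Subgroup.sSup_normal _ fun _ h => h.1
  -- elements fixing all elements of prime order
  let H : Subgroup G := Subgroup.centralizer {x | x ∈ F ∧ (orderOf x).Prime}
  have hgH : g ∈ H := Subgroup.mem_centralizer_iff.mpr fun x hx => (hg x hx.1 hx.2).symm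
  have hkey : ∀ x ∈ H, ∀ p : ℕ, p.Prime → (orderOf x).Coprime p → ∀ k, ∀ y ∈ F, orderOf y = p ^ k → Commute x y := by
    intro x hx p hp hco k y hy hyk
    haveI : Fact p.Prime := ⟨hp⟩
    rcases Nat.eq_zero_or_pos k with rfl | hk
    · rw [pow_zero, orderOf_eq_one_iff] at hyk
      rw [hyk]; exact Commute.one_right x
    have hp2 : p ≠ 2 := by
      rintro rfl
      have h1 : 2 ∣ Nat.card F := ((dvd_pow_self 2 hk.ne').trans hyk.symm.dvd).trans (Subgroup.orderOf_dvd_natCard (s := F) hy)
      exact (Nat.not_even_iff_odd.mpr hodd) (even_iff_two_dvd.mpr h1)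
    haveI : (Cfsg.pCore p G).Normal := Cfsg.Agent.Cores.pCore_normal p G
    have hD : IsPGroup p (Cfsg.pCore p G) := Cfsg.Agent.Cores.isPGroup_pCore p G
    have hA := Cfsg.Agent.Coprime.le_centralizer_of_fixing_order_p p hp2 (A := Subgroup.zpowers x) hD
      (by rw [Subgroup.normalizer_eq_top]; exact le_top) (by rwa [Nat.card_zpowers]) (fun z hz hzp => by
        refine Subgroup.mem_centralizer_iff.mpr ?_
        rintro _ ⟨i, rfl⟩
        have hc : Commute x z := (Subgroup.mem_centralizer_iff.mp hx z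
          ⟨Cfsg.Agent.Cores.pCore_le_fittingSubgroup p hz, hzp ▸ hp⟩).symm
        exact (hc.zpow_left i).eq)
    refine (Subgroup.mem_centralizer_iff.mp (hA (Subgroup.mem_zpowers x)) y ?_).symm
    have h2 : y ∈ (Cfsg.pCore p ↥F).map F.subtype := by
      refine ⟨⟨y, hy⟩, ?_, rfl⟩
      have hpg : IsPGroup p (Subgroup.zpowers (⟨y, hy⟩ : ↥F)) :=
        IsPGroup.of_card (n := k) (by rw [Nat.card_zpowers, Subgroup.orderOf_mk, hyk])
      obtain ⟨P, hP⟩ := hpg.exists_le_sylow
      haveI := Sylow.normal_of_normalizerCondition Group.normalizerCondition_of_isNilpotent P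
      exact Cfsg.Agent.Cores.le_pCore inferInstance P.2 (hP (Subgroup.mem_zpowers _))
    have h4 := Cfsg.Agent.Cores.pCore_map_le_of_isSubnormal (K := F) hFn.isSubnormal p h2
    exact h4
  have hhom : ∀ x : G, ∀ y ∈ F, (∀ k p, p.Prime → ∀ z ∈ F, orderOf z = p ^ k → Commute x z) → Commute x y := by
    intro x y hy h
    have hle : Subgroup.zpowers y ≤ Subgroup.centralizer {x} := by
      refine le_of_primePow _ _ fun z hz p k hp hzk => ?_
      exact Subgroup.mem_centralizer_singleton_iff.mpr (h k p hp z (Subgroup.zpowers_le.mpr hy hz) hzk).symm.eq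
    exact (Subgroup.mem_centralizer_singleton_iff.mp (hle (Subgroup.mem_zpowers y))).symm
  -- each prime power part of `g` lies in `F`
  suffices hpart : ∀ u ∈ H, ∀ q k : ℕ, q.Prime → orderOf u = q ^ k → u ∈ F by
    exact le_of_primePow _ _ (fun u hu q k hq huk => hpart u (Subgroup.zpowers_le.mpr hgH hu) q k hq huk)
      (Subgroup.mem_zpowers g)
  intro u hu q k hq huk
  haveI : Fact q.Prime := ⟨hq⟩
  let S : Set G := {y | y ∈ F ∧ ∃ p j, p.Prime ∧ p ≠ q ∧ orderOf y = p ^ j}
  let K : Subgroup G := H ⊓ Subgroup.centralizer S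
  have hHn : H.Normal := centralizer_normal _ fun a x hx =>
    ⟨hFn.conj_mem x hx.1 a, by rw [show a * x * a⁻¹ = MulAut.conj a x from rfl, MulEquiv.orderOf_eq]; exact hx.2⟩
  have hSn : (Subgroup.centralizer S).Normal := centralizer_normal _ fun a x hx =>
    ⟨hFn.conj_mem x hx.1 a, by
      obtain ⟨p, j, h1, h2, h3⟩ := hx.2
      exact ⟨p, j, h1, h2, by rw [show a * x * a⁻¹ = MulAut.conj a x from rfl, MulEquiv.orderOf_eq]; exact h3⟩⟩
  haveI hKn : K.Normal := Subgroup.normal_inf_normal H _
  have huK : u ∈ K := by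
    refine ⟨hu, Subgroup.mem_centralizer_iff.mpr ?_⟩
    rintro y ⟨hy, p, j, hp, hpq, hyj⟩
    exact (hkey u hu p hp (by rw [huk]; exact Nat.Coprime.pow_left k ((Nat.coprime_primes hq hp).mpr hpq.symm)) j y hy hyj).symm.eq
  refine Cfsg.Agent.Cores.le_fittingSubgroup hKn ?_ huK
  have hq' : IsPGroup q (↥K ⧸ Subgroup.center ↥K) := by
    intro x
    induction x using QuotientGroup.induction_on with
    | _ x =>
      obtain ⟨a, m, hm, hn⟩ := Nat.exists_eq_pow_mul_and_not_dvd (orderOf_pos x).ne' q hq.ne_one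
      refine ⟨a, ?_⟩
      rw [← QuotientGroup.mk_pow, QuotientGroup.eq_one_iff]
      set v := x ^ q ^ a
      have hv : orderOf v = m := by
        rw [orderOf_pow' _ (pow_ne_zero _ hq.ne_zero), hn, Nat.gcd_eq_right (Dvd.intro m rfl),
          Nat.mul_div_cancel_left _ (pow_pos hq.pos a)]
      have hvco : (orderOf (v : G)).Coprime q := by
        rw [Subgroup.orderOf_coe, hv]; exact ((hq.coprime_iff_not_dvd).mpr hm).symm
      have hvC : (v : G) ∈ Subgroup.centralizer (F : Set G) := by
        refine Subgroup.mem_centralizer_iff.mpr fun y hy => ?_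
        refine (hhom v y hy fun j p hp z hz hzj => ?_).symm.eq
        by_cases hpq : p = q
        · subst hpq; exact hkey v v.2.1 p hp hvco j z hz hzj
        · exact (Subgroup.mem_centralizer_iff.mp v.2.2 z ⟨hz, p, j, hp, hpq, hzj⟩).symm
      have hvF : (v : G) ∈ F := Cfsg.Agent.Solvable.centralizer_fitting_le G hvC
      refine Subgroup.mem_center_iff.mpr fun w => Subtype.ext ?_
      have hvS : (v : G) ∈ Subgroup.centralizer ({(w : G)} : Set G) := by
        refine le_of_primePow (Subgroup.zpowers (v : G)) _ (fun z hz p j hp hzj => ?_) (Subgroup.mem_zpowers _)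
        have hzF : z ∈ F := Subgroup.zpowers_le.mpr hvF hz
        refine Subgroup.mem_centralizer_singleton_iff.mpr ?_
        rcases Nat.eq_zero_or_pos j with rfl | hj
        · rw [pow_zero, orderOf_eq_one_iff] at hzj
          rw [hzj, one_mul, mul_one]
        have hpq : p ≠ q := by
          rintro rfl
          have h1 : p ∣ orderOf (v : G) := ((dvd_pow_self p hj.ne').trans hzj.symm.dvd).trans
            ((Subgroup.orderOf_dvd_natCard (s := Subgroup.zpowers (v : G)) hz).trans (Nat.card_zpowers _).dvd)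
          exact hp.coprime_iff_not_dvd.mp hvco.symm h1
        exact Subgroup.mem_centralizer_iff.mp w.2.2 z ⟨hzF, p, j, hp, hpq, hzj⟩
      exact (Subgroup.mem_centralizer_singleton_iff.mp hvS).symm
  haveI := hq'.isNilpotent
  exact Group.of_quotient_center_nilpotent inferInstance

end Cfsg.Agent.S3785
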