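import Cfsg.Statements.S3788
import Cfsg.Agent.EqLemmas
import Cfsg.Agent.Lib.HallHigman.CyclicNormal

set_option autoImplicit false
open Cfsg

namespace Cfsg.Agent.S3788

/-- Let G be a finite p-soluble group, P a Sylow p-subgroup of G and A a cyclic normal subgroup of P. If p is odd, or if no section of G is isomorphic to the symmetric group of degree 4, then A ≤ O_{p',p}(G). -/
theorem result {G : Type*} [Group G] [Finite G] {p : ℕ} [Fact p.Prime] (hG : Cfsg.IsPSolvable p G) (P : Sylow p G) (A : Subgroup G) (hAP : A ≤ (P : Subgroup G)) (hAn : (P : Subgroup G) ≤ Subgroup.normalizer (A : Set G)) (hA : IsCyclic A) (h : p ≠ 2 ∨ ¬ Cfsg.Involves (Equiv.Perm (Fin 4)) G) : A ≤ Cfsg.pPrimePCore p G := by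
  set N := Cfsg.pPrimeCore p G
  let f := QuotientGroup.mk' N
  have hfs : Function.Surjective f := QuotientGroup.mk'_surjective N
  let P' : Sylow p (G ⧸ N) := P.mapSurjective hfs
  have hP' : (P' : Subgroup (G ⧸ N)) = (P : Subgroup G).map f := Sylow.coe_mapSurjective hfs P
  have hmap : A.map f ≤ Cfsg.pCore p (G ⧸ N) := by
    refine HallHigman.cyclic_normal_le_pCore ((Solvable.isPiSeparable_of_isPSolvable hG).quotient N)
      (Cores.pPrimeCore_quotient_self p) P' (A.map f) ?_ ?_ ?_ ?_
    · rw [hP']; exact Subgroup.map_mono hAP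
    · rw [hP']; exact (Subgroup.map_mono hAn).trans (Subgroup.le_normalizer_map f)
    · exact isCyclic_of_surjective (f.subgroupMap A) (f.subgroupMap_surjective A)
    · exact h.imp_right fun hn hI => hn (Involves.involves_of_surjective f hfs hI)
  exact Subgroup.map_le_iff_le_comap.mp hmap

end Cfsg.Agent.S3788
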