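import Cfsg.Statements.S3789
import Cfsg.Agent.EqLemmas
import Cfsg.Agent.Lib.HallHigman.DerivedAbelian
import Cfsg.Agent.Lib.HallHigman.PLengthBasic

set_option autoImplicit false
open Cfsg

namespace Cfsg.Agent.S3789

universe u

theorem aux {p : ℕ} [hp : Fact p.Prime] (hp2 : p ≠ 2) : ∀ (d : ℕ) (G : Type u) [Group G] [Finite G],
    Agent.Solvable.IsPiSeparable {p} G →
    (∀ P : Sylow p G, derivedSeries ↥(P : Subgroup G) d = ⊥) → Cfsg.PLengthLE p d G := by
  intro d
  induction d with
  | zero =>
    intro G _ _ _ hd
    refine HallHigman.pLengthLE_zero (HallHigman.pExpDvd_of_sylow fun P x hx => ?_)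
    have h := hd P
    rw [derivedSeries_zero] at h
    have h1 : (⟨x, hx⟩ : (P : Subgroup G)) ∈ (⊥ : Subgroup (P : Subgroup G)) := h ▸ Subgroup.mem_top _
    rw [Subgroup.mem_bot] at h1
    rw [show x = 1 from congrArg Subtype.val h1, one_pow]
  | succ d ih =>
    intro G _ _ hsep hd
    have hN : (Cfsg.pCore p (G ⧸ Cfsg.pPrimeCore p G)).Normal := Cores.pCore_normal p _
    refine HallHigman.pLengthLE_step G ?_
    set A := G ⧸ Cfsg.pPrimeCore p G
    have hsepA : Agent.Solvable.IsPiSeparable {p} A := hsep.quotient _
    have hdA : ∀ S : Sylow p A, derivedSeries (S : Subgroup A) (d + 1) = ⊥ :=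
      HallHigman.sylow_derivedSeries_of_surjective _ (QuotientGroup.mk'_surjective _) hd
    have hOA : Cfsg.pPrimeCore p A = ⊥ := Cores.pPrimeCore_quotient_self p
    have key : ∀ S : Sylow p A,
        (derivedSeries (S : Subgroup A) d).map (S : Subgroup A).subtype ≤ Cfsg.pCore p A := by
      intro S
      have h := hdA S
      rw [derivedSeries_succ] at h
      have hcomm : ∀ b ∈ derivedSeries (S : Subgroup A) d, ∀ c ∈ derivedSeries (S : Subgroup A) d,
          Commute b c := fun b hb c hc => commutatorElement_eq_one_iff_commute.mp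
        (Subgroup.mem_bot.mp (h ▸ Subgroup.commutator_mem_commutator hb hc))
      rcases d with _ | e
      · refine le_trans ?_ (Agent.Solvable.centralizer_pCore_le hsepA hOA)
        rintro _ ⟨b, hb, rfl⟩
        refine Subgroup.mem_centralizer_iff.mpr fun v hv => ?_
        exact congrArg Subtype.val (hcomm ⟨v, Cores.pCore_le_sylow S hv⟩
          (by rw [derivedSeries_zero]; trivial) b hb).eq
      · have hnorm : ((S : Subgroup A) : Subgroup A) ≤ Subgroup.normalizer
            (((derivedSeries (S : Subgroup A) e).map (S : Subgroup A).subtype : Subgroup A) : Set A) := by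
          have h1 := Subgroup.le_normalizer_map (H := derivedSeries (S : Subgroup A) e)
            (S : Subgroup A).subtype
          rw [Subgroup.normalizer_eq_top_iff.mpr (derivedSeries_normal _ e), ← MonoidHom.range_eq_map,
            Subgroup.range_subtype] at h1
          exact h1
        have h2 := HallHigman.derived_abelian_le_pCore hp2 hsepA hOA S _ (Subgroup.map_subtype_le _) hnorm (by
          rw [← Subgroup.map_commutator, ← derivedSeries_succ]
          rintro _ ⟨b, hb, rfl⟩ _ ⟨c, hc, rfl⟩
          exact (hcomm b hb c hc).map _)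
        rwa [← Subgroup.map_commutator, ← derivedSeries_succ] at h2
    refine ih _ (hsepA.quotient _) fun T => ?_
    obtain ⟨S, rfl⟩ := Sylow.mapSurjective_surjective (QuotientGroup.mk'_surjective (Cfsg.pCore p A)) p T
    have h1 := map_derivedSeries_eq ((QuotientGroup.mk' (Cfsg.pCore p A)).subgroupMap_surjective
      (S : Subgroup A)) d
    refine h1.symm.trans ((Subgroup.map_eq_bot_iff _).mpr fun b hb => ?_)
    exact Subtype.ext ((QuotientGroup.eq_one_iff _).mpr (key S ⟨b, hb, rfl⟩))

/-- Let p be an odd prime and G a finite p-soluble group whose Sylow p-subgroups have derived length at most d. Then G has p-length at most d. -/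
theorem result {G : Type*} [Group G] [Finite G] {p : ℕ} [Fact p.Prime] (hp : p ≠ 2) (hG : Cfsg.IsPSolvable p G) (d : ℕ) (hd : ∀ P : Sylow p G, derivedSeries ↥(P : Subgroup G) d = ⊥) : Cfsg.PLengthLE p d G := by
  exact aux hp d G (Agent.Solvable.isPiSeparable_of_isPSolvable hG) hd

end Cfsg.Agent.S3789
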