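import Cfsg.Statements.S3796
import Cfsg.Agent.EqLemmas
import Cfsg.Agent.Lib.FPF.Chief
import Cfsg.Agent.Lib.Cores.Fitting

set_option autoImplicit false
open Cfsg

namespace Cfsg.Agent.S3796

open FPF

theorem commute_of_coprime_orderOf {G : Type*} [Group G] [Finite G] [Group.IsNilpotent G] (x y : G)
    (h : (orderOf x).Coprime (orderOf y)) : x * y = y * x := by
  obtain ⟨e⟩ := ((Group.isNilpotent_of_finite_tfae (G := G)).out 0 4).mp (inferInstance : Group.IsNilpotent G)
  apply e.symm.injective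
  rw [map_mul, map_mul]
  funext p P
  haveI : Fact (Nat.Prime (p : ℕ)) := ⟨Nat.prime_of_mem_primeFactors p.2⟩
  set u := e.symm x p P with hu
  set v := e.symm y p P with hv
  show u * v = v * u
  let π : G →* (P : Subgroup G) :=
    (Pi.evalMonoidHom _ P).comp ((Pi.evalMonoidHom _ p).comp e.symm.toMonoidHom)
  have hx : orderOf u ∣ orderOf x := orderOf_map_dvd π x
  have hy : orderOf v ∣ orderOf y := orderOf_map_dvd π y
  obtain ⟨i, hi⟩ := IsPGroup.iff_orderOf.mp P.isPGroup' u
  obtain ⟨j, hj⟩ := IsPGroup.iff_orderOf.mp P.isPGroup' v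
  have hc : (orderOf u).Coprime (orderOf v) := (h.coprime_dvd_left hx).coprime_dvd_right hy
  rw [hi, hj] at hc
  have hp : Nat.Prime (p : ℕ) := Fact.out
  rcases Nat.eq_zero_or_pos i with rfl | hi0
  · rw [pow_zero, orderOf_eq_one_iff] at hi; rw [hi, one_mul, mul_one]
  rcases Nat.eq_zero_or_pos j with rfl | hj0
  · rw [pow_zero, orderOf_eq_one_iff] at hj; rw [hj, one_mul, mul_one]
  rw [Nat.coprime_pow_left_iff hi0, Nat.coprime_pow_right_iff hj0, Nat.coprime_self] at hc
  exact absurd hc hp.ne_one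

section wrapper

variable {A : Type*} [Group A] [Finite A] {H : Type*} [Group H] [Finite H] {V : Type*} [AddCommGroup V]

/-- An `r`-group with a fixed-point-free action of a group of prime order acts trivially on a module of
characteristic `l ≠ r` on which that group has no fixed points. -/
theorem trivial_of_cyclic_pgroup (act : A →* MulAut H) (ρ : H →* AddMonoid.End V)
    (S : A →* AddMonoid.End V) {p : ℕ} [Fact p.Prime] (hA : Nat.card A = p) {r l : ℕ} [Fact r.Prime]
    (hl : l.Prime) (hrl : l ≠ r) (hH : IsPGroup r H) (hchar : ∀ v : V, l • v = 0)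
    (hS : ∀ a h v, S a (ρ h v) = ρ (act a h) (S a v)) (hfix : NoFix act)
    (hfixV : ∀ v, (∀ a, S a v = v) → v = 0) (h : H) : ρ h = 1 := by
  have hApG : IsPGroup p A := IsPGroup.of_card (n := 1) (by rw [hA, pow_one])
  haveI : ρ.ker.Normal := ρ.normal_ker
  have hK : Inv act ρ.ker := by
    intro a x hx
    rw [MonoidHom.mem_ker]
    refine AddMonoidHom.ext fun v => ?_
    have := hS a x (S a⁻¹ v)
    rw [MonoidHom.mem_ker.mp hx] at this
    have h2 : S a (S a⁻¹ v) = v := by
      have := DFunLike.congr_fun (map_mul S a a⁻¹) v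
      rw [mul_inv_cancel, map_one] at this
      exact this.symm
    show ρ (act a x) v = v
    exact (congrArg (ρ (act a x)) h2).symm.trans (this.symm.trans h2)
  let ρ' : H ⧸ ρ.ker →* AddMonoid.End V := QuotientGroup.lift _ ρ (fun _ hx => hx)
  let act' := quotAct act ρ.ker hK
  have hfix' : NoFix act' := noFix_quot act hApG hfix _ hK
  by_contra hne
  haveI : Nontrivial (H ⧸ ρ.ker) := QuotientGroup.nontrivial_iff.mpr
    (fun h' => hne (MonoidHom.mem_ker.mp (h'.ge (Subgroup.mem_top h))))
  have hQ := hH.to_quotient ρ.ker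
  haveI := hQ.center_nontrivial
  obtain ⟨z, hz⟩ := exists_ne (1 : Subgroup.center (H ⧸ ρ.ker))
  have hzi : Inv act' (Subgroup.center (H ⧸ ρ.ker)) := inv_of_characteristic act' _
  have hcop : l.Coprime (Nat.card (Subgroup.center (H ⧸ ρ.ker))) := by
    obtain ⟨k, hk⟩ := IsPGroup.iff_card.mp (hQ.to_subgroup (Subgroup.center (H ⧸ ρ.ker)))
    exact hk ▸ Nat.Coprime.pow_right k ((Nat.coprime_primes hl Fact.out).mpr hrl)
  open scoped IsMulCommutative in
  have h1 : ρ' (z : H ⧸ ρ.ker) = 1 := rho_eq_one_of_cyclic (ρ'.comp (Subgroup.center _).subtype)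
    (resAct act' _ hzi) S hA hl hchar hcop
    (fun a w v => by
      obtain ⟨x, hx⟩ := QuotientGroup.mk'_surjective ρ.ker (w : H ⧸ ρ.ker)
      show S a (ρ' (w : H ⧸ ρ.ker) v) = ρ' (act' a (w : H ⧸ ρ.ker)) (S a v)
      rw [← hx]
      exact hS a x v)
    (noFix_res act' hfix' _ hzi) hfixV z
  obtain ⟨x, hx⟩ := QuotientGroup.mk'_surjective ρ.ker (z : H ⧸ ρ.ker)
  rw [← hx] at h1
  exact hz (Subtype.ext (hx.symm.trans ((QuotientGroup.eq_one_iff x).mpr (MonoidHom.mem_ker.mpr h1))))

end wrapper

theorem cycProd_fixed {A Z : Type*} [Group A] [CommGroup Z] (act : A →* MulAut Z) {p : ℕ} [Fact p.Prime]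
    {t : A} (ht : t ^ p = 1) (z : Z) :
    act t (∏ i : ZMod p, act (t ^ i.val) z) = ∏ i : ZMod p, act (t ^ i.val) z := by
  haveI : NeZero p := ⟨(Fact.out : p.Prime).ne_zero⟩
  rw [map_prod]
  refine Fintype.prod_equiv (Equiv.addRight (1 : ZMod p)) _ _ fun i => ?_
  rw [← MulAut.mul_apply, ← map_mul, ← pow_succ']
  show act (t ^ (i.val + 1)) z = act (t ^ (i + 1 : ZMod p).val) z
  congr 2
  rw [pow_eq_pow_mod (i.val + 1) ht, ZMod.val_add, ZMod.val_one_eq_one_mod, Nat.add_mod_mod]

section wardMain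

variable {A : Type*} [Group A] [Finite A] {p : ℕ} [Fact p.Prime]
  (hexp : ∀ x : A, x ^ p = 1) (hcard : Nat.card A = p ^ 2) (hcomm : ∀ x y : A, x * y = y * x)
  {H : Type*} [Group H] [Finite H] (act : A →* MulAut H) (hfix : NoFix act)
  {V : Type*} [AddCommGroup V] (ρ : H →* AddMonoid.End V) (hinj : Function.Injective ρ)
  (S : A →* AddMonoid.End V) (hS : ∀ a h v, S a (ρ h v) = ρ (act a h) (S a v))
  (hfixV : ∀ v, (∀ a, S a v = v) → v = 0) {l : ℕ} [Fact l.Prime] (hchar : ∀ v : V, l • v = 0)
  (hnil : ∀ c : A, c ≠ 1 → Group.IsNilpotent (fixBy act c))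

include hexp hcard hcomm hfix hinj hS hfixV hchar hnil

open scoped IsMulCommutative in
theorem commute_coprime (hirr : ∀ Z : Subgroup H, Z.Normal → Inv act Z → Z ≠ ⊥ →
      ∀ v, (∀ z ∈ Z, ρ z v = v) → v = 0)
    {r : ℕ} [Fact r.Prime] (hrl : l ≠ r) (R : Subgroup H) [R.Normal] (hRinv : Inv act R)
    (hR : IsPGroup r R) {a : A} (ha : a ≠ 1) (y : H) (hy : act a y = y)
    (hyr : (orderOf y).Coprime r) : ∀ x ∈ R, y * x = x * y := by
  classical
  have := Fintype.ofFinite A
  have hp : p.Prime := Fact.out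
  haveI : NeZero p := ⟨hp.ne_zero⟩
  have hApG : IsPGroup p A := fun x => ⟨1, by rw [pow_one]; exact hexp x⟩
  have hpH := not_dvd_card act hApG hfix
  by_cases hRb : R = ⊥
  · intro x hx; rw [hRb, Subgroup.mem_bot] at hx; rw [hx, mul_one, one_mul]
  -- the centre of `R`
  set Z : Subgroup H := (Subgroup.center R).map R.subtype with hZ
  haveI hZn : Z.Normal := inferInstance
  have hZinv : Inv act Z := by
    rintro b _ ⟨z, hz, rfl⟩
    exact ⟨resAct act R hRinv b z, inv_of_characteristic (resAct act R hRinv) _ b z hz, rfl⟩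
  have hZR : Z ≤ R := Subgroup.map_subtype_le _
  have hZcentral : ∀ z ∈ Z, ∀ x ∈ R, z * x = x * z := by
    rintro _ ⟨z, hz, rfl⟩ x hx
    exact (congrArg Subtype.val (Subgroup.mem_center_iff.mp hz ⟨x, hx⟩)).symm
  have hZb : Z ≠ ⊥ := by
    haveI : Nontrivial R := (Subgroup.nontrivial_iff_ne_bot R).mpr hRb
    haveI := hR.center_nontrivial
    rw [hZ, ne_eq, Subgroup.map_eq_bot_iff_of_injective _ R.subtype_injective]
    exact (Subgroup.nontrivial_iff_ne_bot _).mp inferInstance
  haveI : IsMulCommutative Z := ⟨⟨fun u v => Subtype.ext (hZcentral _ u.2 _ (hZR v.2))⟩⟩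
  let ρZ : Z →* AddMonoid.End V := ρ.comp Z.subtype
  let actZ := resAct act Z hZinv
  have hZfix : NoFix actZ := noFix_res act hfix Z hZinv
  have hcopZ : l.Coprime (Nat.card Z) := by
    obtain ⟨k, hk⟩ := IsPGroup.iff_card.mp (hR.to_le hZR)
    exact hk ▸ Nat.Coprime.pow_right k ((Nat.coprime_primes Fact.out Fact.out).mpr hrl)
  have hpZ : ¬ p ∣ Nat.card Z := not_dvd_card_subgroup hpH Z
  -- powers of elements fixing a function
  have hpowfix : ∀ {β : Type _} (F : Z → β) (t : A), (∀ z, F (actZ t z) = F z) →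
      ∀ b ∈ Subgroup.zpowers t, ∀ z, F (actZ b z) = F z := by
    intro β F t ht b hb
    obtain ⟨k, rfl⟩ := mem_powers_iff_mem_zpowers.mpr hb
    clear hb
    induction k with
    | zero => intro z; simp
    | succ k ih =>
      intro z
      show F (actZ (t ^ (k + 1)) z) = _
      rw [pow_succ', map_mul, MulAut.mul_apply, ht]; exact ih z
  have hzp : ∀ t : A, ∀ b ∈ Subgroup.zpowers t, b ≠ 1 → t ∈ Subgroup.zpowers b := by
    intro t b hb hb1
    have h : Subgroup.zpowers b = Subgroup.zpowers t := by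
      apply Subgroup.eq_of_le_of_card_ge (Subgroup.zpowers_le.mpr hb)
      rw [Nat.card_zpowers, Nat.card_zpowers, orderOf_eq_prime (hexp b) hb1]
      exact Nat.le_of_dvd hp.pos (orderOf_dvd_of_pow_eq_one (hexp t))
    exact h ▸ Subgroup.mem_zpowers t
  -- the norm argument for one element
  have hnorm : ∀ {L : Type _} [CommRing L] [IsDomain L] (f : Z →* L) (t : A),
      (∀ z, f (actZ t z) = f z) → ∀ z, f (∏ i : ZMod p, actZ (t ^ i.val) z) = 1 → f z = 1 := by
    intro L _ _ f t ht z hz
    rw [map_prod, Finset.prod_congr rfl (fun i _ => hpowfix (fun z => f z) t ht _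
      (Subgroup.pow_mem _ (Subgroup.mem_zpowers t) i.val) z), Finset.prod_const, Finset.card_univ,
      ZMod.card] at hz
    have h2 : f z ^ Nat.card Z = 1 := by rw [← map_pow, pow_card_eq_one', map_one]
    have h3 := pow_gcd_eq_one.mpr ⟨hz, h2⟩
    rwa [(hp.coprime_iff_not_dvd.mpr hpZ).gcd_eq_one, pow_one] at h3
  have hpoint : ∀ {L : Type _} [CommRing L] [IsDomain L] (φ : opRing ρZ →+* L),
      ∃ t : A, t ≠ 1 ∧ ∀ z, φ (gen ρZ (actZ t z)) = φ (gen ρZ z) := by
    intro L _ _ φ
    obtain ⟨t, -, ht, h⟩ := exists_fix ρZ actZ S (fun b z v => hS b z v) Finset.univ (Finset.mem_univ 1) 1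
      (fun z => Commute.one_left _) (fun v => sum_S_eq_zero S hfixV v) φ (fun x hx => by
        rw [one_mul] at hx; rw [show x = 0 from Subtype.ext hx, map_zero])
    exact ⟨t, ht, h⟩
  let C := fixBy act a
  haveI hCnil : Group.IsNilpotent C := hnil a ha
  have hCcop : ∀ g : H, act a g = g → ∀ x ∈ R, act a x = x → (orderOf g).Coprime r →
      g * x = x * g := by
    intro g hg x hx hxa hgr
    obtain ⟨k, hk⟩ := IsPGroup.iff_orderOf.mp hR ⟨x, hx⟩
    rw [Subgroup.orderOf_mk] at hk
    exact congrArg Subtype.val (commute_of_coprime_orderOf (⟨g, hg⟩ : C) ⟨x, hxa⟩ (by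
      rw [← orderOf_injective C.subtype C.subtype_injective, ← orderOf_injective C.subtype C.subtype_injective]
      show (orderOf g).Coprime (orderOf x)
      rw [hk]; exact hgr.pow_right k))
  have hfixd : ∀ d : A, d ∉ Subgroup.zpowers a → ∀ g : H, act a g = g → act d g = g → g = 1 :=
    fun d hd g h1 h2 => act_eq_of_two act hexp hcard hcomm ha hd hfix h1 h2
  have hswap : ∀ (b c : A) (g : H), act b (act c g) = act c (act b g) := by
    intro b c g; rw [← MulAut.mul_apply, ← map_mul, hcomm, map_mul]; rfl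
  -- writing an element fixed by `a` as a commutator with `d`
  have hsurj : ∀ (P : H → Prop), (∀ g, P g → act a g = g) → ∀ d : A, d ∉ Subgroup.zpowers a →
      (∀ g, P g → P (g⁻¹ * act d g)) → ∀ u, P u → ∃ g, P g ∧ g⁻¹ * act d g = u := by
    intro P hPa d hd hPc u hu
    let f : {g // P g} → {g // P g} := fun g => ⟨g.1⁻¹ * act d g.1, hPc _ g.2⟩
    have finj : Function.Injective f := by
      rintro ⟨g, hg⟩ ⟨g', hg'⟩ he
      have he' : g⁻¹ * act d g = g'⁻¹ * act d g' := congrArg Subtype.val he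
      have h1 : act d (g * g'⁻¹) = g * g'⁻¹ := by
        have : act d g = g * (g'⁻¹ * act d g') := by rw [← he']; group
        rw [map_mul, map_inv, this]; group
      exact Subtype.ext (mul_inv_eq_one.mp (hfixd d hd _
        (by rw [map_mul, map_inv, hPa g hg, hPa g' hg']) h1))
    obtain ⟨⟨g, hg⟩, hge⟩ := Finite.surjective_of_injective finj ⟨u, hu⟩
    exact ⟨g, hg, congrArg Subtype.val hge⟩
  -- conjugation on `Z`
  let cj : H → Z → Z := fun u z => ⟨u * z * u⁻¹, hZn.conj_mem z z.2 u⟩
  have hcj_mul : ∀ u v z, cj (u * v) z = cj u (cj v z) := fun u v z => Subtype.ext (by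
    show u * v * z * (u * v)⁻¹ = u * (v * z * v⁻¹) * u⁻¹; group)
  have hcj_act : ∀ b u z, actZ b (cj u z) = cj (act b u) (actZ b z) := fun b u z => Subtype.ext (by
    show act b (u * z * u⁻¹) = act b u * act b z * (act b u)⁻¹; simp)
  have hcj_one : ∀ z, cj 1 z = z := fun z => Subtype.ext (by show 1 * (z : H) * 1⁻¹ = z; group)
  let conjHom : H → (opRing ρZ →+* opRing ρZ) := fun u => opConj ρZ (ρ u) (ρ u⁻¹)
    (by rw [← map_mul, mul_inv_cancel, map_one]) (by rw [← map_mul, inv_mul_cancel, map_one]) (cj u)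
    (fun z => by show ρ u * ρ (z : H) * ρ u⁻¹ = ρ (u * z * u⁻¹); rw [← map_mul, ← map_mul])
  -- `y` centralizes `Z`
  have stepZ : ∀ z : Z, cj y z = z := by
    intro z₀
    set w : Z := z₀⁻¹ * cj y z₀ with hw
    suffices h : ρZ w = 1 by
      have h' : w = 1 := Subtype.ext (hinj (h.trans (map_one ρ).symm))
      exact (inv_mul_eq_one.mp (hw ▸ h')).symm
    have h0 := eq_zero_of_points ρZ Fact.out hchar hcopZ 1 (fun z => Commute.one_left _) (gen ρZ w - 1) ?_
    · rw [one_mul] at h0; exact sub_eq_zero.mp h0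
    intro L _ _ φ _
    let f : Z →* L := (φ : opRing ρZ →* L).comp (gen ρZ)
    suffices hfy : f w = 1 by rw [map_sub, map_one]; exact sub_eq_zero.mpr hfy
    by_cases hfa : ∀ z, f (actZ a z) = f z
    · apply hnorm f a hfa
      suffices h : ∏ i : ZMod p, actZ (a ^ i.val) w = 1 by rw [h, map_one]
      rw [hw]
      simp only [map_mul, map_inv, Finset.prod_mul_distrib, Finset.prod_inv_distrib]
      rw [inv_mul_eq_one]
      set n := ∏ i : ZMod p, actZ (a ^ i.val) z₀ with hn
      have hyi : ∀ i : ℕ, act (a ^ i) y = y := fun i => Subgroup.pow_mem (stabOf act y) hy i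
      have hconj : ∏ i : ZMod p, actZ (a ^ i.val) (cj y z₀) = cj y n := by
        simp only [hcj_act, hyi]
        let hom : Z →* Z := MonoidHom.mk' (cj y) (fun u v => Subtype.ext (by
          show y * (u * v : H) * y⁻¹ = y * u * y⁻¹ * (y * v * y⁻¹); group))
        exact (map_prod hom _ _).symm
      rw [hconj]
      have hna : actZ a n = n := cycProd_fixed actZ (hexp a) z₀
      apply Subtype.ext
      show (n : H) = y * n * y⁻¹
      rw [eq_mul_inv_iff_mul_eq]
      exact (hCcop y hy _ (hZR n.2) (congrArg Subtype.val hna) hyr).symm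
    -- now `a` moves `f`
    obtain ⟨d, hd1, hd⟩ := hpoint φ
    have hd : ∀ z, f (actZ d z) = f z := hd
    have hda : d ∉ Subgroup.zpowers a := fun h => hfa fun z =>
      hpowfix (fun z => f z) d hd a (hzp a d h hd1) z
    have hdinv : ∀ z, f (actZ d⁻¹ z) = f z :=
      hpowfix (fun z => f z) d hd _ (Subgroup.inv_mem _ (Subgroup.mem_zpowers d))
    -- every translate of `f` by `C` is a translate by `a`
    have claim1 : ∀ u, act a u = u → ∃ i : ℕ, ∀ z, f (cj u z) = f (actZ (a ^ i) z) := by
      intro u hu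
      obtain ⟨g, hg, rfl⟩ := hsurj (fun g => act a g = g) (fun _ h => h) d hda
        (fun g hg => by rw [map_mul, map_inv, hswap, hg]) u hu
      obtain ⟨e, he1, he⟩ := hpoint (φ.comp (conjHom g⁻¹))
      have he : ∀ z, f (cj g⁻¹ (actZ e z)) = f (cj g⁻¹ z) := by
        intro z
        have := he z
        simp only [conjHom, RingHom.comp_apply, opConj_gen] at this
        exact this
      have hga : act a g⁻¹ = g⁻¹ := by rw [map_inv, hg]
      have hea : e ∉ Subgroup.zpowers a := by
        intro h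
        apply hfa
        intro z
        have := hpowfix (fun z => f (cj g⁻¹ z)) e he a (hzp a e h he1) (cj g z)
        rw [hcj_act, hg, ← hcj_mul, ← hcj_mul, inv_mul_cancel, hcj_one, hcj_one] at this
        exact this
      obtain ⟨i, j, hij⟩ := exists_pow_mul_pow hexp hcard hcomm ha hea d
      refine ⟨i, fun z => ?_⟩
      have h1 : cj (g⁻¹ * act d g) z = cj g⁻¹ (actZ (a ^ i) (actZ (e ^ j) (cj g (actZ d⁻¹ z)))) := by
        rw [hcj_mul, ← MulAut.mul_apply, ← map_mul, ← hij, hcj_act]
        congr 1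
        show cj (act d g) z = cj (act d g) (actZ d (actZ d⁻¹ z))
        rw [apply_inv_apply]
      rw [h1, hcomm] at *
      have hgi : ∀ k : ℕ, act (a ^ k) g = g := fun k => Subgroup.pow_mem (stabOf act g) hg k
      have hgi' : act (a ^ i) g⁻¹ = g⁻¹ := by rw [map_inv, hgi]
      rw [← MulAut.mul_apply, ← map_mul, hcomm (a ^ i), map_mul, MulAut.mul_apply,
        hpowfix (fun z => f (cj g⁻¹ z)) e he _ (Subgroup.pow_mem _ (Subgroup.mem_zpowers e) j),
        hcj_act, hgi, ← hcj_mul, inv_mul_cancel, hcj_one, ← MulAut.mul_apply, ← map_mul, hcomm (a ^ i),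
        map_mul, MulAut.mul_apply]
      exact hdinv _
    -- hence fixed
    obtain ⟨g, hg, hgy⟩ := hsurj (fun g => act a g = g) (fun _ h => h) d hda
      (fun g hg => by rw [map_mul, map_inv, hswap, hg]) y hy
    obtain ⟨i, hi⟩ := claim1 g⁻¹ (by rw [map_inv, hg])
    have hν : ∀ z, f (cj g⁻¹ (actZ d z)) = f (cj g⁻¹ z) := by
      intro z
      rw [hi, hi, ← MulAut.mul_apply, ← map_mul, hcomm (a ^ i), map_mul, MulAut.mul_apply, hd]
    have hfy : f (cj y z₀) = f z₀ := by
      have h1 : cj y z₀ = cj g⁻¹ (actZ d (cj g (actZ d⁻¹ z₀))) := by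
        rw [hcj_act, ← hcj_mul, hgy, apply_inv_apply]
      rw [h1, hν, ← hcj_mul, inv_mul_cancel, hcj_one, hdinv]
    rw [hw, map_mul, hfy, ← map_mul, inv_mul_cancel, map_one]
  -- the kernels
  let K : A → Subgroup H := fun d =>
    { carrier := {k | k ∈ R ∧ ∀ n ∈ Z, act d n = n → ρ k * (ρ n - 1) = ρ n - 1}
      one_mem' := ⟨R.one_mem, fun n _ _ => by rw [map_one, one_mul]⟩
      mul_mem' := by
        rintro u v ⟨hu, hu'⟩ ⟨hv, hv'⟩
        exact ⟨R.mul_mem hu hv, fun n hn hdn => by rw [map_mul, mul_assoc, hv' n hn hdn, hu' n hn hdn]⟩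
      inv_mem' := by
        rintro u ⟨hu, hu'⟩
        refine ⟨R.inv_mem hu, fun n hn hdn => ?_⟩
        conv_lhs => rw [← hu' n hn hdn]
        rw [← mul_assoc, ← map_mul, inv_mul_cancel, map_one, one_mul] }
  have hKconj : ∀ d g, (∀ n ∈ Z, g * n = n * g) → ∀ k ∈ K d, g * k * g⁻¹ ∈ K d := by
    rintro d g hg k ⟨hk, hk'⟩
    refine ⟨‹R.Normal›.conj_mem k hk g, fun n hn hdn => ?_⟩
    have hc : ∀ u : H, (u * n = n * u) → Commute (ρ u) (ρ n - 1) := fun u hu =>
      (show Commute (ρ u) (ρ n) by show _ * _ = _ * _; rw [← map_mul, hu, map_mul]).sub_right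
        (Commute.one_right _)
    have hg' : g⁻¹ * n = n * g⁻¹ := by
      rw [inv_mul_eq_iff_eq_mul, ← mul_assoc, hg n hn, mul_inv_cancel_right]
    rw [map_mul, map_mul, mul_assoc, (hc g⁻¹ hg').eq, mul_assoc, ← mul_assoc (ρ k), hk' n hn hdn,
      ← mul_assoc, (hc g (hg n hn)).eq, mul_assoc, ← map_mul, mul_inv_cancel, map_one, mul_one]
  have hKR : ∀ d, ∀ g ∈ R, ∀ k ∈ K d, g * k * g⁻¹ ∈ K d := fun d g hg =>
    hKconj d g fun n hn => (hZcentral n hn g hg).symm
  have hKinv : ∀ d, Inv act (K d) := by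
    rintro d b k ⟨hk, hk'⟩
    refine ⟨hRinv b k hk, fun n hn hdn => ?_⟩
    have hn' : act b⁻¹ n ∈ Z := hZinv _ n hn
    have h1 := hk' _ hn' (by rw [hswap, hdn])
    refine AddMonoidHom.ext fun v => ?_
    show ρ (act b k) (ρ n v - v) = ρ n v - v
    have hbn : act b (act b⁻¹ n) = n := apply_inv_apply act b n
    have hv : S b (S b⁻¹ v) = v := by
      show (S b * S b⁻¹) v = v
      rw [← map_mul, mul_inv_cancel, map_one]; rfl
    have := congrArg (S b) (DFunLike.congr_fun h1 (S b⁻¹ v))
    change S b (ρ k (ρ (act b⁻¹ n) (S b⁻¹ v) - S b⁻¹ v)) = S b (ρ (act b⁻¹ n) (S b⁻¹ v) - S b⁻¹ v) at this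
    rwa [hS, map_sub, hS, hv, hbn] at this
  have hKfix : ∀ c d : A, c ≠ 1 → d ≠ 1 → c ∉ Subgroup.zpowers d →
      ∀ x ∈ R, act c x = x → x ∈ K d := by
    intro c d hc hd hcd x hx hcx
    refine ⟨hx, fun n hn hdn => ?_⟩
    obtain ⟨e, he⟩ : ∃ e, e ∉ Subgroup.zpowers c := ⟨d, fun h => hcd (hzp c d h hd)⟩
    -- `x` fixes the fixed points of `c`
    have hxW : ∀ v, S c v = v → ρ x v = v := by
      intro v hv
      let W : AddSubgroup V := AddMonoidHom.ker (S c - 1 : AddMonoid.End V)
      have hW : ∀ w, w ∈ W ↔ S c w = w := fun w => by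
        show (S c - 1) w = 0 ↔ _
        exact sub_eq_zero
      let X := R ⊓ fixBy act c
      let ρW : X →* AddMonoid.End W :=
        { toFun := fun u => AddMonoidHom.mk' (fun w => ⟨ρ (u : H) w, by
              rw [hW, hS, (u.2.2 : act c (u : H) = u), (hW _).mp w.2]⟩)
            (fun w w' => Subtype.ext (map_add _ _ _))
          map_one' := AddMonoidHom.ext fun w => Subtype.ext (by show ρ (1 : H) (w : V) = w; rw [map_one]; rfl)
          map_mul' := fun u u' => AddMonoidHom.ext fun w => Subtype.ext (by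
            show ρ ((u : H) * u') (w : V) = ρ (u : H) (ρ (u' : H) w); rw [map_mul]; rfl) }
      let SW : Subgroup.zpowers e →* AddMonoid.End W :=
        { toFun := fun b => AddMonoidHom.mk' (fun w => ⟨S (b : A) w, by
              rw [hW]
              show (S c * S (b : A)) (w : V) = _
              rw [← map_mul, hcomm, map_mul]
              show S (b : A) (S c w) = _
              rw [(hW _).mp w.2]⟩)
            (fun w w' => Subtype.ext (map_add _ _ _))
          map_one' := AddMonoidHom.ext fun w => Subtype.ext (by show S (1 : A) (w : V) = w; rw [map_one]; rfl)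
          map_mul' := fun u u' => AddMonoidHom.ext fun w => Subtype.ext (by
            show S ((u : A) * u') (w : V) = S (u : A) (S (u' : A) w); rw [map_mul]; rfl) }
      have hXinv : Inv act X := fun b u hu => ⟨hRinv b u hu.1, inv_fixBy act hcomm c b u hu.2⟩
      have htriv := trivial_of_cyclic_pgroup (A := Subgroup.zpowers e)
        ((resAct act X hXinv).comp (Subgroup.zpowers e).subtype) ρW SW (p := p)
        (by rw [Nat.card_zpowers, orderOf_eq_prime (hexp e) (fun h => he (h ▸ one_mem _))])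
        Fact.out hrl (hR.to_le inf_le_left) (fun w => Subtype.ext (by simpa using hchar w))
        (fun b u w => Subtype.ext (hS b u w))
        (fun u hu => Subtype.ext (act_eq_of_two act hexp hcard hcomm hc he hfix u.2.2
          (congrArg Subtype.val (hu ⟨e, Subgroup.mem_zpowers e⟩))))
        (fun w hw => Subtype.ext (hfixV _ (fun b => by
          obtain ⟨i, j, rfl⟩ := exists_pow_mul_pow hexp hcard hcomm hc he b
          have h1 : ∀ k : ℕ, S (c ^ k) (w : V) = w := by
            intro k
            induction k with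
            | zero => rw [pow_zero, map_one]; rfl
            | succ k ih =>
              rw [pow_succ', map_mul]
              show S c (S (c ^ k) (w : V)) = w
              rw [ih, (hW _).mp w.2]
          rw [map_mul]
          show S (c ^ i) (S (e ^ j) (w : V)) = w
          have h2 : S (e ^ j) (w : V) = w :=
            congrArg Subtype.val (hw ⟨e ^ j, Subgroup.pow_mem _ (Subgroup.mem_zpowers e) j⟩)
          rw [h2, h1])))
        ⟨x, hx, hcx⟩
      exact congrArg Subtype.val (DFunLike.congr_fun htriv ⟨v, (hW v).mpr hv⟩)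
    set D : AddMonoid.End V := ρ x - 1 with hD
    have hDc : ∀ z : Z, Commute D (ρZ z) := fun z =>
      (show Commute (ρ x) (ρ (z : H)) by
        show _ * _ = _ * _; rw [← map_mul, ← hZcentral _ z.2 x hx, map_mul]).sub_left (Commute.one_left _)
    have h0 := eq_zero_of_points ρZ Fact.out hchar hcopZ D hDc (gen ρZ ⟨n, hn⟩ - 1) ?_
    · change (ρ x - 1) * (ρ n - 1) = 0 at h0
      rwa [sub_mul, one_mul, sub_eq_zero] at h0
    intro L _ _ φ hφ
    let I : Finset A := Finset.univ.filter (fun b => b ∈ Subgroup.zpowers c)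
    obtain ⟨t, htI, ht1, ht⟩ := exists_fix ρZ actZ S (fun b z v => hS b z v) I
      (by simp [I]) D hDc (fun v => by
        rw [← map_sum]
        show ρ x _ - _ = 0
        rw [sub_eq_zero]
        apply hxW
        rw [map_sum]
        refine Finset.sum_nbij (fun b => c * b) (fun b hb => ?_) (fun b _ b' _ h => mul_left_cancel h)
          (fun b hb => ?_) (fun b _ => by show S c (S b v) = S (c * b) v; rw [map_mul]; rfl)
        · simp only [I, Finset.mem_filter, Finset.mem_univ, true_and] at hb ⊢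
          exact mul_mem (Subgroup.mem_zpowers c) hb
        · refine ⟨c⁻¹ * b, ?_, by simp⟩
          simp only [I, Finset.coe_filter, Finset.mem_univ, true_and, Set.mem_setOf_eq] at hb ⊢
          exact mul_mem (Subgroup.inv_mem _ (Subgroup.mem_zpowers c)) hb) φ hφ
    have htc : t ∈ Subgroup.zpowers c := by simpa [I] using htI
    let f : Z →* L := (φ : opRing ρZ →* L).comp (gen ρZ)
    have hfc : ∀ z, f (actZ c z) = f z := hpowfix (fun z => f z) t ht c (hzp c t htc ht1)
    suffices h : f ⟨n, hn⟩ = 1 by rw [map_sub, map_one]; exact sub_eq_zero.mpr h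
    apply hnorm f c hfc
    suffices h : ∏ i : ZMod p, actZ (c ^ i.val) (⟨n, hn⟩ : Z) = 1 by rw [h, map_one]
    apply Subtype.ext
    refine act_eq_of_two act hexp hcard hcomm hc (fun h => hcd (hzp c d h hd)) hfix
      (congrArg Subtype.val (cycProd_fixed actZ (hexp c) _)) ?_
    show ((actZ d (∏ i : ZMod p, actZ (c ^ i.val) (⟨n, hn⟩ : Z)) : Z) : H) = _
    congr 1
    rw [map_prod]
    refine Finset.prod_congr rfl fun i _ => Subtype.ext ?_
    show act d (act (c ^ i.val) n) = act (c ^ i.val) n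
    rw [hswap, hdn]
  -- generation
  have hgen : ∀ d : A, d ≠ 1 → ∀ (φ : H → H), (∀ u v, φ (u * v) = φ u * φ v) →
      (∀ k ∈ K d, φ k ∈ K d) → (∀ x ∈ R, φ x ∈ R) →
      (∀ x ∈ R, act d x = x → φ x * x⁻¹ ∈ K d) → ∀ x ∈ R, φ x * x⁻¹ ∈ K d := by
    intro d hd φ hmul hK hφR hdfix
    have hφ1 : φ 1 = 1 := by
      have := hmul 1 1; rw [one_mul] at this; exact left_eq_mul.mp this
    let T : Subgroup R :=
      { carrier := {x | φ x.1 * x.1⁻¹ ∈ K d}
        one_mem' := by show φ 1 * 1⁻¹ ∈ K d; rw [hφ1, one_mul, inv_one]; exact one_mem _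
        mul_mem' := by
          intro u v hu hv
          show φ ((u : H) * v) * ((u : H) * v)⁻¹ ∈ K d
          have : φ ((u : H) * v) * ((u : H) * v)⁻¹
              = (φ (u : H) * (φ v * (v : H)⁻¹) * (φ (u : H))⁻¹) * (φ u * (u : H)⁻¹) := by
            rw [hmul]; group
          rw [this]
          exact mul_mem (hKR d _ (hφR _ u.2) _ hv) hu
        inv_mem' := by
          intro u hu
          show φ (u : H)⁻¹ * (u : H)⁻¹⁻¹ ∈ K d
          have h1 : φ (u : H)⁻¹ = (φ (u : H))⁻¹ := by
            apply eq_inv_of_mul_eq_one_left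
            rw [← hmul, inv_mul_cancel, hφ1]
          have : φ (u : H)⁻¹ * (u : H)⁻¹⁻¹ = (u : H)⁻¹ * (φ u * (u : H)⁻¹)⁻¹ * (u : H)⁻¹⁻¹ := by
            rw [h1]; group
          rw [this]
          exact hKR d _ (R.inv_mem u.2) _ (inv_mem hu) }
    haveI : Group.IsNilpotent R := hR.isNilpotent
    have htop : T = ⊤ := eq_top_of_fixBy_le (resAct act R hRinv) hexp hcard hcomm
      (noFix_res act hfix R hRinv) (fun c hc x hx => by
        have hx' : act c (x : H) = x := congrArg Subtype.val hx
        by_cases hcd : c ∈ Subgroup.zpowers d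
        · refine hdfix _ x.2 ?_
          exact (Subgroup.zpowers_le.mpr (show c ∈ stabOf act (x : H) from hx')) (hzp d c hcd hc)
        · have hk := hKfix c d hc hd hcd _ x.2 hx'
          exact mul_mem (hK _ hk) (inv_mem hk))
    intro x hx
    exact (htop.ge (Subgroup.mem_top (⟨x, hx⟩ : R)) :)
  have hcomZ : ∀ n ∈ Z, y * n = n * y := fun n hn =>
    mul_inv_eq_iff_eq_mul.mp (congrArg Subtype.val (stepZ ⟨n, hn⟩))
  -- `y` centralizes `R`
  intro x hx
  set w := y * x * y⁻¹ * x⁻¹ with hw
  have hwR : w ∈ R := mul_mem (‹R.Normal›.conj_mem x hx y) (R.inv_mem hx)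
  have hwK : ∀ d : A, d ≠ 1 → w ∈ K d := by
    intro d hd
    by_cases hda : d ∈ Subgroup.zpowers a
    · refine hgen d hd (fun u => y * u * y⁻¹) (fun u v => by group) (hKconj d y hcomZ)
        (fun u hu => ‹R.Normal›.conj_mem u hu y) (fun u hu hdu => ?_) x hx
      have hau : act a u = u :=
        (Subgroup.zpowers_le.mpr (show d ∈ stabOf act u from hdu)) (hzp a d hda hd)
      rw [show y * u * y⁻¹ * u⁻¹ = (y * u) * (u * y)⁻¹ by group, hCcop y hy u hu hau hyr, mul_inv_cancel]
      exact one_mem _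
    · obtain ⟨g, ⟨hga, hgZ⟩, hgy⟩ := hsurj (fun g => act a g = g ∧ ∀ n ∈ Z, g * n = n * g)
        (fun _ h => h.1) d hda (fun g hg => ⟨by rw [map_mul, map_inv, hswap, hg.1], fun n hn => by
          have h1 : act d g * n = n * act d g := by
            have := congrArg (act d) (hg.2 _ (hZinv d⁻¹ n hn))
            rwa [map_mul, map_mul, apply_inv_apply] at this
          rw [mul_assoc, h1, ← mul_assoc, ← mul_assoc]
          congr 1
          rw [inv_mul_eq_iff_eq_mul, ← mul_assoc, hg.2 n hn, mul_inv_cancel_right]⟩) y ⟨hy, hcomZ⟩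
      have hdK : ∀ u ∈ R, act d u * u⁻¹ ∈ K d :=
        hgen d hd (act d) (map_mul _) (hKinv d d) (hRinv d) (fun u _ hdu => by
          rw [hdu, mul_inv_cancel]; exact one_mem _)
      set x' := act d⁻¹ x
      have hx' : x' ∈ R := hRinv _ x hx
      set u := g * x' * g⁻¹
      have hu : u ∈ R := ‹R.Normal›.conj_mem _ hx' g
      have e1 : act d g * x * (act d g)⁻¹ = act d u := by
        show _ = act d (g * x' * g⁻¹)
        rw [map_mul, map_mul, apply_inv_apply, map_inv]
      have h2 : x' * x⁻¹ ∈ K d := by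
        have := inv_mem (hdK x' hx')
        rwa [apply_inv_apply, mul_inv_rev, inv_inv] at this
      have h3 : act d g * x * (act d g)⁻¹ * (g * x * g⁻¹)⁻¹ ∈ K d := by
        rw [e1, show act d u * (g * x * g⁻¹)⁻¹ = (act d u * u⁻¹) * (g * (x' * x⁻¹) * g⁻¹) by simp only [u]; group]
        exact mul_mem (hdK u hu) (hKconj d g hgZ _ h2)
      have h4 := hKconj d g⁻¹ (fun n hn => by
        rw [inv_mul_eq_iff_eq_mul, ← mul_assoc, hgZ n hn, mul_inv_cancel_right]) _ h3
      convert h4 using 1
      rw [hw, ← hgy]; group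
  set D : AddMonoid.End V := ρ w - 1 with hD
  have hDc : ∀ z : Z, Commute D (ρZ z) := fun z =>
    (show Commute (ρ w) (ρ (z : H)) by
      show _ * _ = _ * _; rw [← map_mul, ← hZcentral _ z.2 w hwR, map_mul]).sub_left (Commute.one_left _)
  have hall : ∀ z : Z, D * (ρZ z - 1) = 0 := by
    intro z
    refine eq_zero_of_points ρZ Fact.out hchar hcopZ D hDc (gen ρZ z - 1) ?_
    intro L _ _ φ hφ
    obtain ⟨t, ht1, ht⟩ := hpoint φ
    let f : Z →* L := (φ : opRing ρZ →* L).comp (gen ρZ)
    suffices h : f z = 1 by rw [map_sub, map_one]; exact sub_eq_zero.mpr h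
    apply hnorm f t ht
    set n := ∏ i : ZMod p, actZ (t ^ i.val) z
    have h1 := (hwK t ht1).2 _ n.2 (congrArg Subtype.val (cycProd_fixed actZ (hexp t) z))
    have h2 := hφ (gen ρZ n - 1) (by
      show D * (ρ (n : H) - 1) = 0
      rw [hD, sub_mul, one_mul, h1, sub_self])
    rwa [map_sub, map_one, sub_eq_zero] at h2
  have hw1 : ρ w = 1 := by
    refine AddMonoidHom.ext fun v => sub_eq_zero.mp (hirr Z hZn hZinv hZb _ fun z hz => ?_)
    have h1 : (ρ z - 1) * D = 0 := by
      rw [← (show Commute D (ρ z - 1) from (hDc ⟨z, hz⟩).sub_right (Commute.one_right _)).eq]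
      exact hall ⟨z, hz⟩
    exact sub_eq_zero.mp (DFunLike.congr_fun h1 v)
  have h5 : w = 1 := hinj (hw1.trans (map_one ρ).symm)
  exact mul_inv_eq_iff_eq_mul.mp (mul_inv_eq_one.mp (hw ▸ h5))

end wardMain

open scoped IsMulCommutative Pointwise in
theorem main {A : Type*} [Group A] [Finite A] {p : ℕ} [Fact p.Prime]
    (hexp : ∀ x : A, x ^ p = 1) (hcard : Nat.card A = p ^ 2) (hcomm : ∀ x y : A, x * y = y * x) (n : ℕ) :
    ∀ (G : Type*) [Group G] [Finite G], Nat.card G ≤ n → Group.IsSolvable G →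
      ∀ act : A →* MulAut G, NoFix act → ∃ N : Subgroup G, N.Normal ∧ Group.IsNilpotent N ∧
        ∃ k, (⊤ : Subgroup G).lowerCentralSeries k ≤ N := by
  induction n with
  | zero =>
    intro G _ _ hc
    have := Nat.card_pos (α := G)
    omega
  | succ n ih =>
    intro G _ _ hc hG act hfix
    rcases subsingleton_or_nontrivial G with hs | hnt
    · exact ⟨⊤, inferInstance, inferInstance, 0, le_rfl⟩
    have hApG : IsPGroup p A := fun x => ⟨1, by rw [pow_one]; exact hexp x⟩
    haveI := hG
    obtain ⟨V, hV⟩ := exists_minInv act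
    haveI := hV.normal
    haveI : IsMulCommutative V :=
      ⟨⟨fun a b => Subtype.ext (hV.commute act hG _ a.2 _ b.2)⟩⟩
    obtain ⟨l, hl, hlexp⟩ := hV.exists_prime act hG
    haveI : Fact l.Prime := ⟨hl⟩
    set C := Subgroup.centralizer (V : Set G) with hC
    have hVC : V ≤ C := fun x hx => Subgroup.mem_centralizer_iff.mpr fun v hv => hV.commute act hG v hv x hx
    have hCb : C ≠ ⊥ := fun h => hV.ne_bot (le_bot_iff.mp (h ▸ hVC))
    set q := quotAct act C (inv_centralizer act hV.invariant) with hq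
    have hqfix : NoFix q := noFix_quot act hApG hfix C _
    obtain ⟨N₀, hN₀, hN₀nil, k₀, hk₀⟩ := ih (G ⧸ C) (by have := card_quot_lt hCb; omega) inferInstance q hqfix
    -- the quotient acting faithfully on `V` is nilpotent
    have hnilH : Group.IsNilpotent (G ⧸ C) := by
      set F := Cfsg.fittingSubgroup (G ⧸ C) with hF
      have hquot : Group.IsNilpotent ((G ⧸ C) ⧸ F) := by
        rw [nilpotent_iff_lowerCentralSeries]
        refine ⟨k₀, ?_⟩
        rw [← Subgroup.map_top_of_surjective _ (QuotientGroup.mk'_surjective F),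
          ← Subgroup.map_lowerCentralSeries, Subgroup.map_eq_bot_iff, QuotientGroup.ker_mk']
        exact hk₀.trans (Cores.le_fittingSubgroup hN₀ hN₀nil)
      refine ((Group.isNilpotent_of_finite_tfae (G := G ⧸ C)).out 0 3).mpr ?_
      intro s hs
      letI : MulDistribMulAction A (G ⧸ C) := MulDistribMulAction.compHom _ q
      have hpS : ¬ p ∣ Nat.card (Sylow s (G ⧸ C)) := fun h =>
        not_dvd_card q hApG hqfix (h.trans
          ((Sylow.card_dvd_index (default : Sylow s (G ⧸ C))).trans (Subgroup.index_dvd_card _)))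
      obtain ⟨Q, hQ⟩ := hApG.nonempty_fixed_point_of_prime_not_dvd_card (Sylow s (G ⧸ C)) hpS
      have hQinv : Inv q (Q : Subgroup (G ⧸ C)) := fun b x hx => by
        have h1 : b • (Q : Subgroup (G ⧸ C)) = (Q : Subgroup (G ⧸ C)) :=
          congrArg Sylow.toSubgroup (hQ b)
        rw [← h1]
        exact Subgroup.smul_mem_pointwise_smul x b _ hx
      haveI : Group.IsNilpotent (Q : Subgroup (G ⧸ C)) := Q.isPGroup'.isNilpotent
      have hFQ : F ≤ Subgroup.normalizer ((Q : Subgroup (G ⧸ C)) : Set (G ⧸ C)) := by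
        rw [hF, Cores.fittingSubgroup_eq_iSup_pCore]
        refine iSup_le fun r => ?_
        haveI : Fact (r : ℕ).Prime := ⟨r.2⟩
        by_cases hrs : (r : ℕ) = s
        · rw [hrs]
          exact (Cores.pCore_le_sylow Q).trans Subgroup.le_normalizer
        set R := Cfsg.pCore (r : ℕ) (G ⧸ C)
        have hRinv : Inv q R := inv_of_characteristic q R
        by_cases hRb : R = ⊥
        · rw [hRb]; exact bot_le
        have hrl : l ≠ r := fun h => (mod_prime_ne act V hV hlexp R hRinv hRb
          (Cores.isPGroup_pCore (r : ℕ) (G ⧸ C))) h.symm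
        let T : Subgroup (Q : Subgroup (G ⧸ C)) :=
          (Subgroup.centralizer (R : Set (G ⧸ C))).subgroupOf (Q : Subgroup (G ⧸ C))
        have hT : T = ⊤ := eq_top_of_fixBy_le (resAct q _ hQinv) hexp hcard hcomm
          (noFix_res q hqfix _ hQinv) (fun c hc x hx => by
            rw [Subgroup.mem_subgroupOf, Subgroup.mem_centralizer_iff]
            intro z hz
            refine (commute_coprime hexp hcard hcomm q hqfix (modRep V) (modRep_injective V)
              (modS act V hV.invariant) (modS_compat act V hV.invariant) (modS_noFix act V hV.invariant hfix)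
              (mod_char V hlexp) ?_ (fun Z hZ hZi hZb v hv => by
                haveI := hZ; exact modRep_irred act V hV Z hZi hZb v hv)
              hrl R hRinv (Cores.isPGroup_pCore (r : ℕ) (G ⧸ C)) hc (x : G ⧸ C)
              (congrArg Subtype.val hx) ?_ z hz).symm
            · intro c hc
              obtain ⟨e, he⟩ : ∃ e, e ∉ Subgroup.zpowers c := by
                by_contra h
                push Not at h
                have h1 : Nat.card (Subgroup.zpowers c) = p := by
                  rw [Nat.card_zpowers, orderOf_eq_prime (hexp c) hc]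
                rw [(Subgroup.eq_top_iff' _).mpr h, Subgroup.card_top, hcard] at h1
                nlinarith [(Fact.out : p.Prime).two_le]
              exact isNilpotent_of_fpf_prime (A := Subgroup.zpowers e) (p := p)
                (by rw [Nat.card_zpowers, orderOf_eq_prime (hexp e) (fun h => he (h ▸ one_mem _))])
                _ _ le_rfl inferInstance
                ((resAct q (fixBy q c) (inv_fixBy q hcomm c)).comp (Subgroup.zpowers e).subtype)
                (fun u hu => Subtype.ext (act_eq_of_two q hexp hcard hcomm hc he hqfix u.2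
                  (congrArg Subtype.val (hu ⟨e, Subgroup.mem_zpowers e⟩))))
            · obtain ⟨i, hi⟩ := IsPGroup.iff_orderOf.mp Q.isPGroup' x
              rw [Subgroup.orderOf_coe, hi]
              exact Nat.Coprime.pow_left _ ((Nat.coprime_primes hs.out r.2).mpr (Ne.symm hrs)))
        intro z hz
        rw [Subgroup.mem_normalizer_iff]
        intro u
        constructor
        · intro hu
          have h1 : z * u = u * z :=
            Subgroup.mem_centralizer_iff.mp (hT.ge (Subgroup.mem_top (⟨u, hu⟩ : (Q : Subgroup (G ⧸ C))))) z hz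
          rwa [h1, mul_inv_cancel_right]
        · intro hu
          have h1 : z * (z * u * z⁻¹) = (z * u * z⁻¹) * z :=
            Subgroup.mem_centralizer_iff.mp (hT.ge (Subgroup.mem_top (⟨_, hu⟩ : (Q : Subgroup (G ⧸ C))))) z hz
          rw [inv_mul_cancel_right] at h1
          have : z * u * z⁻¹ = u := mul_left_cancel h1
          rwa [this] at hu
      set QF := (Q : Subgroup (G ⧸ C)) ⊔ F with hQF
      haveI hQFn : QF.Normal := by
        haveI := hquot
        haveI : ((Q.mapSurjective (QuotientGroup.mk'_surjective F) : Sylow s ((G ⧸ C) ⧸ F)) :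
            Subgroup ((G ⧸ C) ⧸ F)).Normal := inferInstance
        have h1 : QF = ((Q : Subgroup (G ⧸ C)).map (QuotientGroup.mk' F)).comap (QuotientGroup.mk' F) := by
          rw [Subgroup.comap_map_eq, QuotientGroup.ker_mk']
        rw [h1]
        exact Subgroup.Normal.comap this _
      have hnorm : ∀ g : G ⧸ C, MulAut.conj g • (Q : Subgroup (G ⧸ C)) = (Q : Subgroup (G ⧸ C)) := by
        intro g
        have hle : MulAut.conj g • (Q : Subgroup (G ⧸ C)) ≤
            Subgroup.normalizer ((Q : Subgroup (G ⧸ C)) : Set (G ⧸ C)) :=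
          (Cores.conj_smul_le_of_normal le_sup_left g).trans (sup_le Subgroup.le_normalizer hFQ)
        have hp' : IsPGroup s ↥(MulAut.conj g • (Q : Subgroup (G ⧸ C))) := Q.isPGroup'.map _
        have h1 := Q.is_maximal' (hp'.to_sup_of_normal_right' Q.isPGroup' hle) le_sup_right
        exact Cores.conj_smul_le_iff_eq.mp (le_sup_left.trans h1.le)
      intro P
      have hQn : (Q : Subgroup (G ⧸ C)).Normal := Subgroup.normalizer_eq_top_iff.mp
        ((Subgroup.eq_top_iff' _).mpr fun g => Cores.conj_smul_eq_self_iff.mp (hnorm g))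
      letI := Sylow.unique_of_normal Q hQn
      rw [Subsingleton.elim P Q]
      exact hQn
    -- combine
    obtain ⟨N₁, hN₁, hN₁nil, k₁, hk₁⟩ := ih (G ⧸ V) (by have := card_quot_lt hV.ne_bot; omega)
      inferInstance (quotAct act V hV.invariant) (noFix_quot act hApG hfix V hV.invariant)
    haveI := hN₁
    haveI := hN₁nil
    refine ⟨N₁.comap (QuotientGroup.mk' V) ⊓ C, inferInstance, ?_, ?_⟩
    · let f : ↥(N₁.comap (QuotientGroup.mk' V) ⊓ C) →* N₁ :=
        ((QuotientGroup.mk' V).comp (N₁.comap (QuotientGroup.mk' V) ⊓ C).subtype).codRestrict N₁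
          (fun x => x.2.1)
      refine Subgroup.isNilpotent_of_ker_le_center f ?_
      intro x hx
      have hxV : (x : G) ∈ V := (QuotientGroup.eq_one_iff _).mp (congrArg Subtype.val (MonoidHom.mem_ker.mp hx))
      rw [Subgroup.mem_center_iff]
      intro y
      exact Subtype.ext (Subgroup.mem_centralizer_iff.mp y.2.2 _ hxV).symm
    · obtain ⟨k₂, hk₂⟩ := nilpotent_iff_lowerCentralSeries.mp hnilH
      refine ⟨max k₁ k₂, le_inf ?_ ?_⟩
      · refine (Subgroup.lowerCentralSeries_antitone _ (le_max_left _ _)).trans ?_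
        rw [← Subgroup.map_le_iff_le_comap, Subgroup.map_lowerCentralSeries,
          Subgroup.map_top_of_surjective _ (QuotientGroup.mk'_surjective V)]
        exact hk₁
      · refine (Subgroup.lowerCentralSeries_antitone _ (le_max_right _ _)).trans ?_
        rw [← QuotientGroup.ker_mk' C, ← Subgroup.map_eq_bot_iff, Subgroup.map_lowerCentralSeries,
          Subgroup.map_top_of_surjective _ (QuotientGroup.mk'_surjective C)]
        exact hk₂


/-- Ward's Theorem: let G be a finite solvable group and A an elementary abelian group of automorphisms of G of order p² (p a prime) with no non-identity common fixed point. Then G has Fitting height at most 2: G has Fitting height at most m when there is a chain of normal subgroups 1 = F₀ ≤ F₁ ≤ ⋯ ≤ F_m = G with each F_{i+1}/F_i nilpotent. -/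
theorem result {G : Type*} [Group G] [Finite G] (hG : Group.IsSolvable G) {p : ℕ} (hp : p.Prime) (A : Subgroup (MulAut G)) (hA : Cfsg.IsElementaryAbelian p A) (hcard : Nat.card A = p ^ 2) (hfpf : ∀ g : G, (∀ a ∈ A, a g = g) → g = 1) : ∃ F : Fin (2 + 1) → Subgroup G, F 0 = ⊥ ∧ F (Fin.last 2) = ⊤ ∧ Monotone F ∧ (∀ i, (F i).Normal) ∧ ∀ i : Fin 2, ∃ k : ℕ, (F i.succ).lowerCentralSeries k ≤ F i.castSucc := by
  haveI : Fact p.Prime := ⟨hp⟩
  obtain ⟨N, hN, hNnil, k, hk⟩ := main (A := A) (fun x => Subtype.ext (hA.2 x x.2)) hcard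
    (fun x y => hA.1.is_comm.comm x y) (Nat.card G) G le_rfl hG A.subtype
    (fun g hg => hfpf g fun a ha => hg ⟨a, ha⟩)
  refine ⟨![⊥, N, ⊤], rfl, rfl, Fin.monotone_iff_le_succ.mpr ?_, ?_, ?_⟩
  · intro i; fin_cases i <;> simp
  · intro i
    fin_cases i
    · exact (inferInstance : (⊥ : Subgroup G).Normal)
    · exact hN
    · exact (inferInstance : (⊤ : Subgroup G).Normal)
  · intro i
    fin_cases i
    · obtain ⟨m, hm⟩ := (Subgroup.isNilpotent_iff_lowerCentralSeries N).mp hNnil
      exact ⟨m, hm.le⟩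
    · exact ⟨k, hk⟩

end Cfsg.Agent.S3796
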