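import Cfsg.Statements.S3797
import Cfsg.Agent.EqLemmas
import Cfsg.Agent.Lib.HallHigman.OneClass
import Cfsg.Agent.Lib.HallHigman.Homocyclic
import Cfsg.Agent.Lib.HallHigman.PLength
import Cfsg.Agent.Lib.HallHigman.FrattiniModule

set_option autoImplicit false
open Cfsg

namespace Cfsg.Agent.S3797

/-- Let G be a finite solvable group of even order whose Sylow 2-subgroups contain more than one involution, and suppose all involutions of G are conjugate. Then G has 2-length at most 1, and a Sylow 2-subgroup S of G is either homocyclic (a direct product of cyclic groups of one common order) or a non-abelian 2-group with more than one involution admitting a solvable group of automorphisms transitive on its involutions. -/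
theorem result {G : Type*} [Group G] [Finite G] (hG : Group.IsSolvable G) (heven : Even (Nat.card G)) (S : Sylow 2 G) (htwo : ∃ x y : G, x ∈ (S : Subgroup G) ∧ y ∈ (S : Subgroup G) ∧ x ≠ y ∧ x ≠ 1 ∧ x ^ 2 = 1 ∧ y ≠ 1 ∧ y ^ 2 = 1) (hconj : ∀ x y : G, x ≠ 1 → x ^ 2 = 1 → y ≠ 1 → y ^ 2 = 1 → IsConj x y) : Cfsg.PLengthLE 2 1 G ∧ ((∃ m r : ℕ, Nonempty (↥(S : Subgroup G) ≃* (Fin r → Multiplicative (ZMod (2 ^ m))))) ∨ (¬ IsMulCommutative (S : Subgroup G) ∧ ∃ Y : Subgroup (MulAut ↥(S : Subgroup G)), Group.IsSolvable Y ∧ ∀ x y : ↥(S : Subgroup G), x ≠ 1 → x ^ 2 = 1 → y ≠ 1 → y ^ 2 = 1 → ∃ a ∈ Y, a x = y)) := by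
  classical
  set N := Cfsg.pPrimeCore 2 G
  have hN : N.Normal := Cores.pPrimeCore_normal 2 G
  have hQn : (Cfsg.pCore 2 (G ⧸ N)).Normal := Cores.pCore_normal 2 _
  set π := QuotientGroup.mk' N
  have hπ : Function.Surjective π := QuotientGroup.mk'_surjective N
  have hAsolv : Group.IsSolvable (G ⧸ N) := solvable_of_surjective hπ
  have hinjS : ∀ g ∈ (S : Subgroup G), π g = 1 → g = 1 := fun g hg h => by
    obtain ⟨k, hk⟩ := IsPGroup.iff_card.mp S.2
    exact Coprime.eq_one_of_mem_of_mem (A := (S : Subgroup G)) (K := N)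
      (by rw [hk]; exact ((Cores.coprime_card_pPrimeCore 2).symm).pow_left k) hg
      ((QuotientGroup.eq_one_iff g).1 h)
  obtain ⟨x, y, hx, hy, hxy, hx1, hx2, hy1, hy2⟩ := htwo
  have hlift : ∀ w : G ⧸ N, w ≠ 1 → w ^ 2 = 1 → ∃ g : G, g ≠ 1 ∧ g ^ 2 = 1 ∧ π g = w := by
    intro w hw1 hw2
    obtain ⟨g, hg, k, hk⟩ := HallHigman.exists_pElement_preimage π hπ (x := w) (p := 2)
      ⟨1, by rw [pow_one]; exact hw2⟩
    have hgN : g ^ 2 ∈ N := (QuotientGroup.eq_one_iff _).mp (by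
      rw [QuotientGroup.mk_pow, show (g : G ⧸ N) = w from hg]; exact hw2)
    refine ⟨g, fun h => hw1 (by rw [← hg, h, map_one]), ?_, hg⟩
    refine orderOf_eq_one_iff.mp (Nat.eq_one_of_dvd_coprimes ?_
      (orderOf_dvd_of_pow_eq_one (n := 2 ^ k) (by rw [← pow_mul, mul_comm, pow_mul, hk, one_pow]))
      ((Subgroup.orderOf_coe (⟨_, hgN⟩ : N)).dvd.trans (orderOf_dvd_natCard _)))
    exact ((Cores.coprime_card_pPrimeCore 2).symm).pow_left k
  have hconjA : ∀ v w : G ⧸ N, v ≠ 1 → v ^ 2 = 1 → w ≠ 1 → w ^ 2 = 1 → IsConj v w := by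
    intro v w hv1 hv2 hw1 hw2
    obtain ⟨g, hg1, hg2, rfl⟩ := hlift v hv1 hv2
    obtain ⟨h, hh1, hh2, rfl⟩ := hlift w hw1 hw2
    exact π.map_isConj (hconj g h hg1 hg2 hh1 hh2)
  have hodd := HallHigman.not_two_dvd_quotient_pCore_of_one_class (A := G ⧸ N)
    (Cores.pPrimeCore_quotient_self (G := G) 2) (a := π x) (b := π y) (fun h => hx1 (hinjS x hx h))
    (by rw [← map_pow, hx2, map_one]) (fun h => hy1 (hinjS y hy h))
    (by rw [← map_pow, hy2, map_one])
    (fun h => hxy (mul_inv_eq_one.1 (hinjS _ (mul_mem hx (inv_mem hy))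
      (by rw [map_mul, map_inv, h, mul_inv_cancel])))) hconjA
  set Q := Cfsg.pCore 2 (G ⧸ N)
  refine ⟨HallHigman.pLengthLE_step G (HallHigman.pLengthLE_zero ?_), ?_⟩
  · intro z hz
    rw [pow_zero, pow_one]
    obtain ⟨k, hk⟩ := hz
    exact orderOf_eq_one_iff.mp (Nat.eq_one_of_dvd_coprimes
      (((Nat.prime_two.coprime_iff_not_dvd).mpr hodd).pow_left k)
      (orderOf_dvd_of_pow_eq_one hk) (orderOf_dvd_natCard z))
  -- `S` is isomorphic to `O_2` of the quotient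
  let P : Sylow 2 (G ⧸ N) := S.mapSurjective hπ
  have hPQ : (P : Subgroup (G ⧸ N)) = Q := by
    refine le_antisymm (fun v hv => ?_) (Cores.pCore_le_sylow P)
    obtain ⟨k, hk⟩ := P.2 ⟨v, hv⟩
    have hvk : v ^ 2 ^ k = 1 := congrArg Subtype.val hk
    rw [← QuotientGroup.eq_one_iff, ← orderOf_eq_one_iff]
    exact Nat.eq_one_of_dvd_coprimes (((Nat.prime_two.coprime_iff_not_dvd).mpr hodd).pow_left k)
      (orderOf_dvd_of_pow_eq_one (by rw [← QuotientGroup.mk_pow, hvk, QuotientGroup.mk_one]))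
      (orderOf_dvd_natCard (v : (G ⧸ N) ⧸ Q))
  let f : (S : Subgroup G) →* Q := (π.comp (S : Subgroup G).subtype).codRestrict Q fun g => by
    rw [← hPQ]; exact ⟨g, g.2, rfl⟩
  have hf : Function.Bijective f := by
    refine ⟨(injective_iff_map_eq_one f).2 fun g hg => Subtype.ext
      (hinjS g g.2 (congrArg Subtype.val hg)), fun v => ?_⟩
    obtain ⟨g, hg, hgv⟩ : (v : G ⧸ N) ∈ (P : Subgroup (G ⧸ N)) := by rw [hPQ]; exact v.2
    exact ⟨⟨g, hg⟩, Subtype.ext hgv⟩
  let e := MulEquiv.ofBijective f hf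
  let ψ : G ⧸ N →* MulAut (S : Subgroup G) :=
    (MulAut.congr e.symm).toMonoidHom.comp (MulAut.conjNormal (H := Q))
  have htr : ∀ u v : (S : Subgroup G), u ≠ 1 → u ^ 2 = 1 → v ≠ 1 → v ^ 2 = 1 → ∃ a ∈ ψ.range, a u = v := by
    intro u v hu1 hu2 hv1 hv2
    have hne : ∀ w : (S : Subgroup G), w ≠ 1 → ((e w : Q) : G ⧸ N) ≠ 1 := fun w hw h =>
      hw ((MulEquiv.map_eq_one_iff e).1 (Subtype.ext h))
    have hsq : ∀ w : (S : Subgroup G), w ^ 2 = 1 → ((e w : Q) : G ⧸ N) ^ 2 = 1 := fun w hw => by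
      rw [← Subgroup.coe_pow, ← map_pow, hw, map_one, Subgroup.coe_one]
    obtain ⟨c, hc⟩ := isConj_iff.1 (hconjA _ _ (hne u hu1) (hsq u hu2) (hne v hv1) (hsq v hv2))
    refine ⟨ψ c, ⟨c, rfl⟩, ?_⟩
    show e.symm (MulAut.conjNormal c (e u)) = v
    rw [show MulAut.conjNormal c (e u) = e v from Subtype.ext ((MulAut.conjNormal_apply c (e u)).trans hc),
      MulEquiv.symm_apply_apply]
  by_cases hab : IsMulCommutative (S : Subgroup G)
  · left
    letI : CommGroup (S : Subgroup G) := { (inferInstance : Group (S : Subgroup G)) with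
      mul_comm := hab.is_comm.comm }
    exact HallHigman.homocyclic_of_transitive_involutions S.2 fun u v h1 h2 h3 h4 =>
      let ⟨a, _, ha⟩ := htr u v h1 h2 h3 h4
      ⟨a, ha⟩
  · exact Or.inr ⟨hab, ψ.range, solvable_of_surjective ψ.rangeRestrict_surjective, htr⟩

end Cfsg.Agent.S3797
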