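import Cfsg.Statements.S3798
import Cfsg.Agent.EqLemmas
import Cfsg.Agent.Lib.HallHigman.Transitive

set_option autoImplicit false
open Cfsg

namespace Cfsg.Agent.S3798

/-- The Gaschütz–Yen Theorem: let G be a finite p-soluble group, p an odd prime dividing its order, such that the automorphism group of G permutes the subgroups of G of order p transitively. Then G has p-length at most 1. -/
theorem result {G : Type*} [Group G] [Finite G] {p : ℕ} [Fact p.Prime] (hp : p ≠ 2) (hdvd : p ∣ Nat.card G) (hG : Cfsg.IsPSolvable p G) (htrans : ∀ U V : Subgroup G, Nat.card U = p → Nat.card V = p → ∃ a : MulAut G, U.map a.toMonoidHom = V) : Cfsg.PLengthLE p 1 G := by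
  have hp' : p.Prime := Fact.out
  set N := Cfsg.pPrimeCore p G
  have hN : (Cfsg.pCore p (G ⧸ N)).Normal := Cores.pCore_normal p _
  refine HallHigman.pLengthLE_step G (HallHigman.pLengthLE_zero ?_)
  have hsep : Agent.Solvable.IsPiSeparable {p} (G ⧸ N) :=
    (Agent.Solvable.isPiSeparable_of_isPSolvable hG).quotient N
  have hlift : ∀ U : Subgroup (G ⧸ N), Nat.card U = p →
      ∃ U₀ : Subgroup G, Nat.card U₀ = p ∧ U₀.map (QuotientGroup.mk' N) = U := by
    intro U hU
    obtain ⟨y, hyU⟩ := exists_prime_orderOf_dvd_card' (G := U) p (by rw [hU])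
    have hyo : orderOf (y : G ⧸ N) = p := (Subgroup.orderOf_coe y).trans hyU
    obtain ⟨g, hg, k, hk⟩ := HallHigman.exists_pElement_preimage (QuotientGroup.mk' N)
      (QuotientGroup.mk'_surjective N) (x := (y : G ⧸ N))
      ⟨1, by rw [pow_one]; exact orderOf_dvd_iff_pow_eq_one.mp hyo.dvd⟩
    have hgN : g ^ p ∈ N := (QuotientGroup.eq_one_iff _).mp (by
      rw [QuotientGroup.mk_pow, show (g : G ⧸ N) = y from hg]
      exact orderOf_dvd_iff_pow_eq_one.mp hyo.dvd)
    have hgp : g ^ p = 1 := by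
      refine orderOf_eq_one_iff.mp (Nat.eq_one_of_dvd_coprimes ?_
        (orderOf_dvd_of_pow_eq_one (n := p ^ k) (by rw [← pow_mul, mul_comm, pow_mul, hk, one_pow]))
        ((Subgroup.orderOf_coe (⟨_, hgN⟩ : N)).dvd.trans (orderOf_dvd_natCard _)))
      exact ((Cores.coprime_card_pPrimeCore p).symm).pow_left k
    have hg1 : g ≠ 1 := fun h => hp'.one_lt.ne (by rw [← hyo, ← hg, h, map_one, orderOf_one])
    refine ⟨Subgroup.zpowers g, by rw [Nat.card_zpowers, orderOf_eq_prime hgp hg1], ?_⟩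
    rw [MonoidHom.map_zpowers, hg]
    exact Subgroup.eq_of_le_of_card_ge (Subgroup.zpowers_le.mpr y.2)
      (by rw [hU, Nat.card_zpowers, hyo])
  have htr : ∀ U V : Subgroup (G ⧸ N), Nat.card U = p → Nat.card V = p →
      ∃ a : MulAut (G ⧸ N), U.map a.toMonoidHom = V := by
    intro U V hU hV
    obtain ⟨U₀, hU₀, rfl⟩ := hlift U hU
    obtain ⟨V₀, hV₀, rfl⟩ := hlift V hV
    obtain ⟨a, rfl⟩ := htrans U₀ V₀ hU₀ hV₀
    refine ⟨QuotientGroup.congr N N a (Cores.pPrimeCore_map_mulEquiv a p), ?_⟩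
    rw [Subgroup.map_map, Subgroup.map_map]
    rfl
  intro y hy
  rw [pow_zero, pow_one]
  obtain ⟨k, hk⟩ := hy
  have hnd := HallHigman.pCore_eq_sylow_of_transitive hp hsep (Cores.pPrimeCore_quotient_self p) htr
  obtain ⟨j, -, hj⟩ := (Nat.dvd_prime_pow hp').mp (orderOf_dvd_of_pow_eq_one hk)
  rcases j with _ | j
  · exact orderOf_eq_one_iff.mp (by rw [hj, pow_zero])
  · exact absurd (((hj ▸ dvd_pow_self p j.succ_ne_zero) : p ∣ orderOf y).trans (orderOf_dvd_natCard y)) hnd

end Cfsg.Agent.S3798
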