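import Cfsg.Statements.S3799
import Cfsg.Agent.EqLemmas
import Cfsg.Agent.Lib.PGroup.Basic
import Cfsg.Agent.Lib.Extraspecial.Basic

set_option autoImplicit false
open Cfsg
attribute [local instance] commutatorElement

namespace Cfsg.Agent.S3799

variable (p n : ℕ)

/-- The Heisenberg group of width `n` over `ZMod p`. -/
structure Heis where
  a : Fin n → ZMod p
  b : Fin n → ZMod p
  c : ZMod p

variable {p n}

theorem Heis.ext' {x y : Heis p n} (ha : x.a = y.a) (hb : x.b = y.b) (hc : x.c = y.c) : x = y := by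
  cases x; cases y; simp_all

instance : Mul (Heis p n) := ⟨fun x y => ⟨x.a + y.a, x.b + y.b, x.c + y.c + ∑ i, x.a i * y.b i⟩⟩
instance : One (Heis p n) := ⟨⟨0, 0, 0⟩⟩
instance : Inv (Heis p n) := ⟨fun x => ⟨-x.a, -x.b, -x.c + ∑ i, x.a i * x.b i⟩⟩

@[simp] theorem mul_a (x y : Heis p n) : (x * y).a = x.a + y.a := rfl
@[simp] theorem mul_b (x y : Heis p n) : (x * y).b = x.b + y.b := rfl
@[simp] theorem mul_c (x y : Heis p n) : (x * y).c = x.c + y.c + ∑ i, x.a i * y.b i := rfl
@[simp] theorem one_a : (1 : Heis p n).a = 0 := rfl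
@[simp] theorem one_b : (1 : Heis p n).b = 0 := rfl
@[simp] theorem one_c : (1 : Heis p n).c = 0 := rfl
@[simp] theorem inv_a (x : Heis p n) : x⁻¹.a = -x.a := rfl
@[simp] theorem inv_b (x : Heis p n) : x⁻¹.b = -x.b := rfl
@[simp] theorem inv_c (x : Heis p n) : x⁻¹.c = -x.c + ∑ i, x.a i * x.b i := rfl

instance : Group (Heis p n) where
  mul_assoc x y z := by
    apply Heis.ext' <;> simp [add_mul, mul_add, Finset.sum_add_distrib] <;> abel
  one_mul x := by apply Heis.ext' <;> simp
  mul_one x := by apply Heis.ext' <;> simp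
  inv_mul_cancel x := by
    apply Heis.ext' <;> simp [Finset.sum_neg_distrib]

/-- The triples. -/
def heisEquiv : Heis p n ≃ (Fin n → ZMod p) × (Fin n → ZMod p) × ZMod p where
  toFun x := (x.a, x.b, x.c)
  invFun x := ⟨x.1, x.2.1, x.2.2⟩
  left_inv x := rfl
  right_inv x := rfl

variable [hp : Fact p.Prime]

instance : Finite (Heis p n) := Finite.of_equiv _ (heisEquiv (p := p) (n := n)).symm

theorem card_heis : Nat.card (Heis p n) = p ^ (1 + 2 * n) := by
  rw [Nat.card_congr heisEquiv, Nat.card_prod, Nat.card_prod, Nat.card_fun, Nat.card_zmod, Nat.card_fin]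
  ring

theorem pow_eq (x : Heis p n) (k : ℕ) :
    (x ^ k).a = k • x.a ∧ (x ^ k).b = k • x.b ∧
      (x ^ k).c = k • x.c + k.choose 2 • ∑ i, x.a i * x.b i := by
  induction k with
  | zero => simp
  | succ k ih =>
    obtain ⟨h1, h2, h3⟩ := ih
    rw [pow_succ]
    refine ⟨by rw [mul_a, h1, succ_nsmul], by rw [mul_b, h2, succ_nsmul], ?_⟩
    rw [mul_c, h3, h1, Nat.choose_succ_succ', Nat.choose_one_right, succ_nsmul, add_nsmul]
    simp only [Pi.smul_apply, smul_mul_assoc, ← Finset.smul_sum]
    abel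

theorem pow_p (hp2 : p ≠ 2) (x : Heis p n) : x ^ p = 1 := by
  obtain ⟨h1, h2, h3⟩ := pow_eq x p
  have hz : ∀ (M : Type) [AddCommGroup M] [Module (ZMod p) M] (v : M), p • v = 0 := fun M _ _ v => by
    rw [← Nat.cast_smul_eq_nsmul (ZMod p), ZMod.natCast_self, zero_smul]
  have hch : ((p.choose 2 : ℕ) : ZMod p) = 0 := (ZMod.natCast_eq_zero_iff _ _).mpr
    (hp.out.dvd_choose_self two_ne_zero (lt_of_le_of_ne hp.out.two_le (Ne.symm hp2)))
  apply Heis.ext'
  · rw [h1, hz]; rfl
  · rw [h2, hz]; rfl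
  · rw [h3, hz, zero_add, nsmul_eq_mul, hch, zero_mul]; rfl

theorem mem_center_iff (x : Heis p n) : x ∈ Subgroup.center (Heis p n) ↔ x.a = 0 ∧ x.b = 0 := by
  classical
  rw [Subgroup.mem_center_iff]
  constructor
  · intro h
    constructor <;> funext j
    · have := congrArg Heis.c (h ⟨0, Pi.single j 1, 0⟩)
      simpa [Pi.single_apply, eq_comm] using this
    · have := congrArg Heis.c (h ⟨Pi.single j 1, 0, 0⟩)
      simpa [Pi.single_apply, eq_comm] using this
  · rintro ⟨ha, hb⟩ g
    apply Heis.ext' <;> simp [ha, hb, add_comm]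

theorem isExtraspecial (hp2 : p ≠ 2) (hn : 1 ≤ n) : Cfsg.IsExtraspecial p (Heis p n) := by
  classical
  have hG : IsPGroup p (Heis p n) := IsPGroup.of_card card_heis
  have hcomm : _root_.commutator (Heis p n) = Subgroup.center (Heis p n) := by
    refine le_antisymm ?_ fun x hx => ?_
    · rw [commutator_def, Subgroup.commutator_le]
      intro u _ v _
      rw [mem_center_iff]
      constructor <;> simp [commutatorElement_def]
    · obtain ⟨ha, hb⟩ := (mem_center_iff x).mp hx
      have : x = ⁅(⟨Pi.single ⟨0, hn⟩ 1, 0, 0⟩ : Heis p n), (⟨0, Pi.single ⟨0, hn⟩ x.c, 0⟩ : Heis p n)⁆ := by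
        apply Heis.ext' <;>
          simp [commutatorElement_def, ha, hb, Pi.single_apply]
      rw [this]
      exact Subgroup.commutator_mem_commutator (Subgroup.mem_top _) (Subgroup.mem_top _)
  refine ⟨⟨hG, ?_, hcomm⟩, ?_⟩
  · refine le_antisymm (Cfsg.Agent.PGroup.frattini_le_of_quotient_elementary (p := p) hcomm.le
      fun x => ?_) (hcomm ▸ Cfsg.Agent.PGroup.commutator_le_frattini hG)
    rw [pow_p hp2]; exact one_mem _
  · conv_rhs => rw [← Nat.card_zmod p]
    exact Nat.card_congr
      { toFun := fun x => x.1.c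
        invFun := fun c => ⟨⟨0, 0, c⟩, (mem_center_iff _).mpr ⟨rfl, rfl⟩⟩
        left_inv := fun x => by
          obtain ⟨ha, hb⟩ := (mem_center_iff _).mp x.2
          exact Subtype.ext (Heis.ext' ha.symm hb.symm rfl)
        right_inv := fun c => rfl }

/-- A vector supported on the middle coordinates. -/
def mid (v : Fin n → ZMod p) : Fin (n + 2) → ZMod p := Fin.cons 0 (Fin.snoc v 0)

theorem mid_zero' (v : Fin n → ZMod p) : mid v 0 = 0 := rfl

theorem mid_last (v : Fin n → ZMod p) : mid v (Fin.last (n + 1)) = 0 := by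
  rw [← Fin.succ_last, mid, Fin.cons_succ, Fin.snoc_last]

theorem mid_mid (v : Fin n → ZMod p) (i : Fin n) : mid v i.castSucc.succ = v i := by
  rw [mid, Fin.cons_succ, Fin.snoc_castSucc]

theorem mid_add (v w : Fin n → ZMod p) : mid (v + w) = mid v + mid w := by
  funext i
  refine Fin.cases ?_ (fun j => ?_) i
  · simp [mid]
  · refine Fin.lastCases ?_ (fun k => ?_) j <;> simp [mid]

theorem mid_dot (v w : Fin n → ZMod p) : mid v ⬝ᵥ mid w = ∑ i, v i * w i := by
  rw [dotProduct, Fin.sum_univ_succ, Fin.sum_univ_castSucc]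
  simp [mid]

/-- The nilpotent part of the matrix. -/
def nil (x : Heis p n) : Matrix (Fin (n + 2)) (Fin (n + 2)) (ZMod p) :=
  Matrix.vecMulVec (Pi.single 0 1) (mid x.a) + Matrix.vecMulVec (mid x.b) (Pi.single (Fin.last (n + 1)) 1) +
    x.c • Matrix.vecMulVec (Pi.single 0 1) (Pi.single (Fin.last (n + 1)) 1)

theorem nil_mul (x y : Heis p n) : nil x * nil y =
    (∑ i, x.a i * y.b i) • Matrix.vecMulVec (Pi.single 0 1) (Pi.single (Fin.last (n + 1)) 1) := by
  classical
  have h0 : mid x.a ⬝ᵥ (Pi.single 0 1 : Fin (n + 2) → ZMod p) = 0 := by simp [mid_zero']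
  have h1 : (Pi.single (Fin.last (n + 1)) 1 : Fin (n + 2) → ZMod p) ⬝ᵥ (Pi.single 0 1) = 0 := by
    simp [Fin.ext_iff]
  have h2 : (Pi.single (Fin.last (n + 1)) 1 : Fin (n + 2) → ZMod p) ⬝ᵥ mid y.b = 0 := by simp [mid_last]
  simp only [nil, add_mul, mul_add, smul_mul_assoc, mul_smul_comm, Matrix.vecMulVec_mul_vecMulVec,
    h0, h1, h2, mid_dot, zero_smul, Matrix.vecMulVec_zero, smul_zero, add_zero, zero_add,
    Matrix.vecMulVec_smul]

/-- The matrix representation. -/
def toMat : Heis p n →* Matrix (Fin (n + 2)) (Fin (n + 2)) (ZMod p) where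
  toFun x := 1 + nil x
  map_one' := by
    have : mid (0 : Fin n → ZMod p) = 0 := by
      have h := mid_add (0 : Fin n → ZMod p) 0
      rwa [add_zero, left_eq_add] at h
    simp [nil, this]
  map_mul' x y := by
    rw [add_mul, one_mul, mul_add, mul_one, nil_mul]
    simp only [nil, mul_a, mul_b, mul_c, mid_add, Matrix.vecMulVec_add, Matrix.add_vecMulVec, add_smul]
    abel

theorem toMat_injective : Function.Injective (toMat (p := p) (n := n)) := by
  classical
  intro x y h
  have hn : nil x = nil y := add_left_cancel h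
  have hl : (Fin.last (n + 1) : Fin (n + 2)) ≠ 0 := by simp [Fin.ext_iff]
  apply Heis.ext'
  · funext i
    have := congrFun (congrFun hn 0) i.castSucc.succ
    simpa [nil, Matrix.vecMulVec_apply, mid_mid, mid_zero', Fin.ext_iff, i.isLt.ne] using this
  · funext i
    have := congrFun (congrFun hn i.castSucc.succ) (Fin.last (n + 1))
    simpa [nil, Matrix.vecMulVec_apply, mid_mid, mid_last, Fin.ext_iff] using this
  · have := congrFun (congrFun hn 0) (Fin.last (n + 1))
    simpa [nil, Matrix.vecMulVec_apply, mid_zero', mid_last] using this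


/-- For every odd prime p and every n ≥ 1 there is an extraspecial p-group of order p^(1+2n) and exponent p; concretely, the general linear group of degree n + 2 over the field with p elements contains such a subgroup. -/
theorem result (p : ℕ) [Fact p.Prime] (hp : p ≠ 2) (n : ℕ) (hn : 1 ≤ n) : ∃ E : Subgroup (Matrix.GeneralLinearGroup (Fin (n + 2)) (ZMod p)), Cfsg.IsExtraspecial p ↥E ∧ Nat.card E = p ^ (1 + 2 * n) ∧ ∀ x ∈ E, x ^ p = 1 := by
  let f : Heis p n →* Matrix.GeneralLinearGroup (Fin (n + 2)) (ZMod p) := (toMat (p := p) (n := n)).toHomUnits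
  have hf : Function.Injective f := fun x y h => toMat_injective (congrArg Units.val h)
  have hE := isExtraspecial (p := p) hp hn
  let e : Heis p n ≃* f.range := MonoidHom.ofInjective hf
  have hcen : (Subgroup.center (Heis p n)).map e.toMonoidHom = Subgroup.center f.range := by
    ext y
    constructor
    · rintro ⟨x, hx, rfl⟩
      rw [Subgroup.mem_center_iff]
      intro g
      obtain ⟨g, rfl⟩ := e.surjective g
      show e g * e x = e x * e g
      rw [← map_mul, ← map_mul, Subgroup.mem_center_iff.mp hx g]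
    · intro hy
      obtain ⟨x, rfl⟩ := e.surjective y
      refine ⟨x, Subgroup.mem_center_iff.mpr fun g => e.injective ?_, rfl⟩
      rw [map_mul, map_mul, Subgroup.mem_center_iff.mp hy (e g)]
  have hpG : IsPGroup p f.range := hE.1.1.of_equiv e
  refine ⟨f.range, ⟨⟨hpG, ?_, ?_⟩, ?_⟩, ?_, ?_⟩
  · rw [← Cfsg.Agent.PGroup.frattini_map hE.1.1 (f := e.toMonoidHom) e.surjective, hE.1.2.1, hcen]
  · rw [← hcen, ← hE.1.2.2, commutator_def, commutator_def, Subgroup.map_commutator,
      Subgroup.map_top_of_surjective e.toMonoidHom e.surjective]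
  · rw [← hcen, Subgroup.card_map_of_injective (f := e.toMonoidHom) e.injective]; exact hE.2
  · rw [← Nat.card_congr e.toEquiv, card_heis]
  · rintro _ ⟨x, rfl⟩
    rw [← map_pow, pow_p hp, map_one]

end Cfsg.Agent.S3799
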