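import Cfsg.Statements.S3800
import Cfsg.Agent.EqLemmas
import Cfsg.Agent.Lib.Solvable.SchurZassenhaus

set_option autoImplicit false
open Cfsg
open scoped Pointwise

namespace Cfsg.Agent.S3800

/-- Let G be a finite group, N a normal subgroup of G whose order is prime to p, and P a p-subgroup of G. Then in G/N the normalizer of the image of P is the image of N_G(P), and the centralizer of the image of P is the image of C_G(P). -/
theorem result {G : Type*} [Group G] [Finite G] {p : ℕ} [Fact p.Prime] (N : Subgroup G) [N.Normal] (hN : (Nat.card N).Coprime p) (P : Subgroup G) (hP : IsPGroup p P) : Subgroup.normalizer ((P.map (QuotientGroup.mk' N)) : Set (G ⧸ N)) = (Subgroup.normalizer (P : Set G)).map (QuotientGroup.mk' N) ∧ Subgroup.centralizer ((P.map (QuotientGroup.mk' N)) : Set (G ⧸ N)) = (Subgroup.centralizer (P : Set G)).map (QuotientGroup.mk' N) := by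
  set π := QuotientGroup.mk' N with hπ
  have hpN : ¬ p ∣ Nat.card N := fun h => (Fact.out : p.Prime).one_lt.ne'
    (Nat.eq_one_of_dvd_coprimes hN h dvd_rfl)
  have hcP : (Nat.card P).Coprime (Nat.card N) := by
    obtain ⟨k, hk⟩ := IsPGroup.iff_card.mp hP
    rw [hk]; exact (Nat.Coprime.pow_right k hN).symm
  have hdisj : ∀ x ∈ P, x ∈ N → x = 1 := fun x hx hxN => by
    have h1 : orderOf x ∣ Nat.card P := Subgroup.orderOf_dvd_natCard (s := P) hx
    have h2 : orderOf x ∣ Nat.card N := Subgroup.orderOf_dvd_natCard (s := N) hxN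
    exact orderOf_eq_one_iff.mp (Nat.eq_one_of_dvd_coprimes hcP h1 h2)
  haveI : Group.IsSolvable P := by
    haveI := hP.isNilpotent
    infer_instance
  have hnorm : ∀ g : G, π g ∈ Subgroup.normalizer ((P.map π : Subgroup (G ⧸ N)) : Set (G ⧸ N)) →
      ∃ m ∈ Subgroup.normalizer (P : Set G), π m = π g := by
    intro g hg
    have hsup : (MulAut.conj g • P) ⊔ N = P ⊔ N := by
      have h1 : (MulAut.conj g • P).map π = P.map π := by
        ext x
        constructor
        · rintro ⟨_, ⟨y, hy, rfl⟩, rfl⟩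
          show π (g * y * g⁻¹) ∈ P.map π
          rw [map_mul, map_mul, map_inv]
          exact (Subgroup.mem_normalizer_iff.mp hg _).mp ⟨y, hy, rfl⟩
        · intro hx
          have h2 : (π g)⁻¹ * x * π g ∈ P.map π := by
            refine (Subgroup.mem_normalizer_iff.mp hg _).mpr ?_
            simpa [mul_assoc] using hx
          obtain ⟨y, hy, hye⟩ := h2
          refine ⟨g * y * g⁻¹, ⟨y, hy, rfl⟩, ?_⟩
          rw [map_mul, map_mul, map_inv, hye]; group
      have h3 := congrArg (Subgroup.comap π) h1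
      rwa [Subgroup.comap_map_eq, Subgroup.comap_map_eq, hπ, QuotientGroup.ker_mk'] at h3
    obtain ⟨n, hn, hne⟩ := Cfsg.Agent.Solvable.exists_conj_of_sup_eq (N := N)
      (H := P) (K := MulAut.conj g • P) (Or.inr inferInstance) hsup.symm hcP (by
        rw [Nat.card_congr (Subgroup.equivSMul (MulAut.conj g) P).toEquiv.symm]; exact hcP)
    refine ⟨n⁻¹ * g, ?_, ?_⟩
    · have h4 : MulAut.conj (n⁻¹ * g) • P = P := by
        rw [map_mul, mul_smul, ← hne, map_inv, inv_smul_smul]
      rw [Subgroup.mem_normalizer_iff]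
      intro x
      constructor
      · intro hx
        exact h4.le ⟨x, hx, rfl⟩
      · intro hx
        obtain ⟨y, hy, hye⟩ := h4.ge hx
        have : n⁻¹ * g * y * (n⁻¹ * g)⁻¹ = n⁻¹ * g * x * (n⁻¹ * g)⁻¹ := hye
        exact mul_left_cancel (mul_right_cancel this) ▸ hy
    · rw [map_mul, map_inv, (QuotientGroup.eq_one_iff n).mpr hn |> fun h => (show π n = 1 from h), inv_one, one_mul]
  constructor
  · refine le_antisymm (fun q hq => ?_) (Subgroup.le_normalizer_map _)
    obtain ⟨g, rfl⟩ := QuotientGroup.mk'_surjective N q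
    exact hnorm g hq
  · refine le_antisymm (fun q hq => ?_) ?_
    · obtain ⟨g, rfl⟩ := QuotientGroup.mk'_surjective N q
      obtain ⟨m, hm, hme⟩ := hnorm g (Subgroup.centralizer_le_normalizer _ hq)
      refine ⟨m, ?_, hme⟩
      rw [SetLike.mem_coe, Subgroup.mem_centralizer_iff]
      intro x hx
      have h1 : m * x * m⁻¹ * x⁻¹ = 1 := by
        refine hdisj _ (P.mul_mem ((Subgroup.mem_normalizer_iff.mp hm x).mp hx) (P.inv_mem hx)) ?_
        rw [← QuotientGroup.eq_one_iff]
        show π (m * x * m⁻¹ * x⁻¹) = 1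
        rw [map_mul, map_mul, map_mul, map_inv, map_inv, hme,
          ← Subgroup.mem_centralizer_iff.mp hq (π x) ⟨x, hx, rfl⟩, mul_inv_cancel_right, mul_inv_cancel]
      exact (mul_inv_eq_iff_eq_mul.mp (mul_inv_eq_one.mp h1)).symm
    · rintro _ ⟨m, hm, rfl⟩
      rw [Subgroup.mem_centralizer_iff]
      rintro _ ⟨x, hx, rfl⟩
      rw [← map_mul, ← map_mul, Subgroup.mem_centralizer_iff.mp hm x hx]

end Cfsg.Agent.S3800
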