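import Cfsg.Statements.S3802
import Cfsg.Agent.EqLemmas
import Cfsg.Agent.Lib.Cores.Subnormal

set_option autoImplicit false
open Cfsg

namespace Cfsg.Agent.S3802

/-- Let G be a finite group, M a maximal subgroup of G and N a subnormal subgroup of G contained in M. Then N is contained in every conjugate of M, that is, N lies in the core of M in G. -/
theorem result {G : Type*} [Group G] [Finite G] (M N : Subgroup G) (hM : IsCoatom M) (hN : N.IsSubnormal) (hNM : N ≤ M) :
    N ≤ Subgroup.normalCore M := by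
  open scoped Pointwise in
  have hker : (QuotientGroup.mk' (Subgroup.normalCore M)).ker ≤ M := by
    rw [QuotientGroup.ker_mk']; exact Subgroup.normalCore_le M
  set C := Subgroup.normalCore M
  set π := QuotientGroup.mk' C
  by_cases hN1 : N.map π = ⊥
  · rwa [Subgroup.map_eq_bot_iff, QuotientGroup.ker_mk'] at hN1
  haveI : Nontrivial (G ⧸ C) := (Subgroup.nontrivial_iff (G := G ⧸ C)).mp ⟨⟨_, _, hN1⟩⟩
  obtain ⟨R, hR, hRne, hRmin⟩ := Cfsg.Agent.Cores.exists_minimal_normal (G := G ⧸ C)
  haveI := hR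
  have hMπ : (M.map π).comap π = M := Subgroup.comap_map_eq_self hker
  have hRM : ¬ R.comap π ≤ M := by
    intro h
    apply hRne
    have : R.comap π ≤ C := Subgroup.normal_le_normalCore.mpr h
    rw [← Subgroup.map_comap_eq_self_of_surjective (QuotientGroup.mk'_surjective C) R,
      Subgroup.map_eq_bot_iff, QuotientGroup.ker_mk']
    exact this
  have htop : R.comap π ⊔ M = ⊤ := hM.2 _ (lt_of_le_of_ne le_sup_right fun h => hRM (le_sup_left.trans_eq h.symm))
  refine le_trans Subgroup.le_normalClosure (Subgroup.normal_le_normalCore.mpr ?_)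
  rw [Subgroup.normalClosure]
  refine (Subgroup.closure_le _).mpr fun x hx => ?_
  obtain ⟨y, hy, hxy⟩ := Group.mem_conjugatesOfSet_iff.mp hx
  obtain ⟨g, rfl⟩ := isConj_iff.mp hxy
  obtain ⟨r, hr, m, hm, rfl⟩ : ∃ r ∈ R.comap π, ∃ m ∈ M, r * m = g := by
    have : g ∈ ((R.comap π ⊔ M : Subgroup G) : Set G) := by rw [htop]; trivial
    rw [Subgroup.normal_mul] at this
    exact this
  have hsub : (MulAut.conj m • N).IsSubnormal := Cfsg.Agent.Cores.isSubnormal_conj_smul hN m
  have hle : MulAut.conj m • N ≤ M := by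
    intro z hz
    rw [Cfsg.Agent.Cores.mem_conj_smul] at hz
    have := M.mul_mem (M.mul_mem hm (hNM hz)) (M.inv_mem hm)
    simpa [mul_assoc] using this
  have hnorm : R ≤ Subgroup.normalizer (((MulAut.conj m • N).map π : Subgroup (G ⧸ C)) : Set (G ⧸ C)) :=
    Cfsg.Agent.Cores.minimalNormal_le_normalizer R hRmin hsub.quotient
  have h1 : π (m * y * m⁻¹) ∈ (MulAut.conj m • N).map π :=
    ⟨_, Cfsg.Agent.Cores.mem_conj_smul.mpr (by simpa [mul_assoc] using hy), rfl⟩
  have h2 := (Subgroup.mem_normalizer_iff.mp (hnorm hr) _).mp h1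
  rw [← map_inv, ← map_mul, ← map_mul] at h2
  have h3 : r * (m * y * m⁻¹) * r⁻¹ ∈ (M.map π).comap π := Subgroup.map_mono hle h2
  rw [hMπ] at h3
  show r * m * y * (r * m)⁻¹ ∈ M
  simpa [mul_assoc] using h3

end Cfsg.Agent.S3802
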