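import Cfsg.Statements.S3803
import Cfsg.Agent.EqLemmas
import Cfsg.Agent.Lib.SmallFix.Basic
import Cfsg.Agent.Lib.Coprime.Frattini
import Cfsg.Agent.Lib.PGroup.Basic
import Cfsg.Agent.Lib.Cores.Basic
-- import your own Cfsg.Agent.* helpers here

set_option autoImplicit false
open Cfsg

open scoped commutatorElement

namespace Cfsg.Agent.S3803

theorem centralizes_cyclic {X : Type*} [Group X] [Finite X] {A : Subgroup X} (hA : Odd (Nat.card A)) (g : X)
    (hg : IsPGroup 2 (Subgroup.zpowers g)) (hn : A ≤ Subgroup.normalizer ((Subgroup.zpowers g : Subgroup X) : Set X)) :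
    A ≤ Subgroup.centralizer ((Subgroup.zpowers g : Subgroup X) : Set X) := by
  refine Cfsg.Agent.SmallFix.le_centralizer_of_fixing_order_four 2 rfl hg hn (Nat.coprime_two_right.mpr hA) ?_
  intro x hx h4
  refine Subgroup.mem_centralizer_iff.mpr fun a ha => ?_
  obtain ⟨i, hi⟩ := Subgroup.mem_zpowers_iff.mp
    ((Subgroup.mem_normalizer_iff.mp (hn ha) g).mp (Subgroup.mem_zpowers g))
  obtain ⟨j, rfl⟩ := Subgroup.mem_zpowers_iff.mp hx
  set x := g ^ j
  have hconj : MulAut.conj a x = x ^ i := by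
    rw [map_zpow, MulAut.conj_apply, ← hi, ← zpow_mul, ← zpow_mul, mul_comm]
  have h2 : MulAut.conj a (MulAut.conj a x) = x := by
    rw [hconj, map_zpow, hconj, ← zpow_mul]
    have h4' : x ^ (4 : ℤ) = 1 := by rw [← h4, ← zpow_natCast]; norm_num
    rcases Int.even_or_odd i with ⟨k, rfl⟩ | ⟨k, rfl⟩
    · have hx2 : x ^ (2 : ℤ) = 1 := by
        apply (MulAut.conj a).injective
        rw [map_zpow, hconj, map_one, ← zpow_mul, show (k + k) * 2 = 4 * k by ring, zpow_mul, h4', one_zpow]
      have hx1 : x = 1 := by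
        apply (MulAut.conj a).injective
        rw [hconj, map_one, show k + k = 2 * k by ring, zpow_mul, hx2, one_zpow]
      rw [hx1, one_zpow]
    · rw [show (2 * k + 1) * (2 * k + 1) = 4 * (k * k + k) + 1 by ring, zpow_add, zpow_mul, h4', one_zpow,
        one_mul, zpow_one]
  have hodd : Odd (orderOf a) := hA.of_dvd_nat (Subgroup.orderOf_dvd_natCard (s := A) ha)
  obtain ⟨k, hk⟩ := hodd
  have ha' : a = (a * a) ^ (k + 1) := by
    rw [← pow_two, ← pow_mul, show 2 * (k + 1) = orderOf a + 1 by omega, pow_succ, pow_orderOf_eq_one, one_mul]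
  have hc : Commute (a * a) x := by
    rw [MulAut.conj_apply, MulAut.conj_apply] at h2
    calc a * a * x = (a * (a * x * a⁻¹) * a⁻¹) * (a * a) := by group
      _ = x * (a * a) := by rw [h2]
  rw [ha']
  exact (hc.pow_left (k + 1)).eq

/-- Let P be a 2-subgroup and A a subgroup of odd order of a finite group, with A normalizing P. Let D ≤ P with 1 < |D| < |P|. If every subgroup of P of order |D|, and also every subgroup of P of order 4 in case |D| = 2, is normalized by A, then A centralizes P. -/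
theorem result {X : Type*} [Group X] [Finite X] (P A D : Subgroup X) (hP : IsPGroup 2 P) (hA : Odd (Nat.card A))
    (hAP : A ≤ Subgroup.normalizer (P : Set X)) (hDP : D ≤ P) (hD1 : 1 < Nat.card D) (hD2 : Nat.card D < Nat.card P)
    (hinv : ∀ E : Subgroup X, E ≤ P → (Nat.card E = Nat.card D ∨ (Nat.card D = 2 ∧ Nat.card E = 4)) → A ≤ Subgroup.normalizer (E : Set X)) :
    A ≤ Subgroup.centralizer (P : Set X) := by
  classical
  haveI : Fact (Nat.Prime 2) := ⟨Nat.prime_two⟩
  have hcop : (Nat.card A).Coprime 2 := Nat.coprime_two_right.mpr hA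
  obtain ⟨m, hm⟩ := IsPGroup.iff_card.mp (hP.to_le hDP)
  have hm1 : 1 ≤ m := by
    by_contra h
    rw [hm, show m = 0 by omega] at hD1
    norm_num at hD1
  rw [hm] at hinv hD2
  clear hDP hm hD1
  induction hN : Nat.card P using Nat.strong_induction_on generalizing P with
  | _ N ih =>
  subst hN
  -- the Frattini subgroup, seen inside `P`
  set F : Subgroup X := (frattini ↥P).map P.subtype with hF
  have hFP : F ≤ P := Subgroup.map_subtype_le _
  have hnF : A ≤ Subgroup.normalizer (F : Set X) :=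
    hAP.trans (Cfsg.Agent.Cores.normalizer_le_normalizer_map (frattini ↥P))
  have hcopF : (Nat.card A).Coprime (Nat.card (frattini ↥P)) := by
    rw [← Subgroup.card_map_of_injective P.subtype_injective]
    exact Cfsg.Agent.Coprime.coprime_of_isPGroup hcop (hP.to_le (Subgroup.map_subtype_le _))
  have hFlt : ∀ H : Subgroup X, H ≤ P → H ≠ P → H ⊔ F ≠ P := by
    intro H hH hne h
    apply hne
    have h1 : H.subgroupOf P ⊔ frattini ↥P = ⊤ := by
      apply Subgroup.map_injective P.subtype_injective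
      rw [Subgroup.map_sup, Subgroup.map_subgroupOf_eq_of_le hH, ← MonoidHom.range_eq_map, Subgroup.range_subtype]
      exact h
    have h2 := frattini_nongenerating h1
    exact le_antisymm hH (Subgroup.subgroupOf_eq_top.mp h2)
  have hsub : ∀ Q : Subgroup X, Q < P → A ≤ Subgroup.normalizer (Q : Set X) → 2 ^ m < Nat.card Q →
      A ≤ Subgroup.centralizer (Q : Set X) := fun Q hQ hAQ hlt =>
    ih _ ((Subgroup.card_le_of_le hQ.le).lt_of_ne fun he => hQ.ne (Subgroup.eq_of_le_of_card_ge hQ.le he.ge))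
      Q (hP.to_le hQ.le) hAQ hlt (fun E hE => hinv E (hE.trans hQ.le)) rfl
  have hover : ∀ (K : Subgroup X) (k : ℕ), K ≤ P → Nat.card K = 2 ^ k → ∀ l, k ≤ l → 2 ^ l ≤ Nat.card P →
      ∃ H : Subgroup X, K ≤ H ∧ H ≤ P ∧ Nat.card H = 2 ^ l := by
    intro K k hK hk l hkl hl
    obtain ⟨n, hn⟩ := IsPGroup.iff_card.mp hP
    obtain ⟨H, hH, hKH⟩ := Sylow.exists_subgroup_card_pow_prime_le (p := 2) (G := P) (n := k) (m := l)
      (by rw [hn]; exact pow_dvd_pow 2 ((Nat.pow_le_pow_iff_right (by norm_num)).mp (hn ▸ hl))) (K.subgroupOf P)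
      (by rw [Nat.card_congr (Subgroup.subgroupOfEquivOfLe hK).toEquiv, hk]) hkl
    refine ⟨H.map P.subtype, ?_, Subgroup.map_subtype_le _, by rw [Subgroup.card_map_of_injective P.subtype_injective, hH]⟩
    rw [← Subgroup.map_subgroupOf_eq_of_le hK]
    exact Subgroup.map_mono hKH
  have hsqF : ∀ x ∈ P, x * x ∈ F := fun x hx =>
    ⟨(⟨x, hx⟩ : P) * ⟨x, hx⟩, (pow_two (⟨x, hx⟩ : P)) ▸ Cfsg.Agent.PGroup.pow_mem_frattini hP _, rfl⟩
  have hcommF : ∀ x ∈ P, ∀ y ∈ P, ⁅x, y⁆ ∈ F := fun x hx y hy =>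
    ⟨⁅(⟨x, hx⟩ : P), ⟨y, hy⟩⁆, Cfsg.Agent.PGroup.commutatorElement_mem_frattini hP _ _, rfl⟩
  -- adjoining an element to a subgroup containing `F`
  have hadj : ∀ (S : Subgroup X), F ≤ S → S ≤ P → ∀ u ∈ P, u ∉ S →
      Nat.card ↥(S ⊔ Subgroup.zpowers u) = 2 * Nat.card S ∧
        ∀ x ∈ S ⊔ Subgroup.zpowers u, x ∈ S ∨ x * u⁻¹ ∈ S := by
    intro S hFS hSP u hu huS
    have hun : u ∈ Subgroup.normalizer (S : Set X) := by
      refine Cfsg.Agent.Coprime.mem_normalizer_of_forall fun s hs => ?_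
      have h := S.mul_mem (hFS (hcommF u hu s (hSP hs))) hs
      simpa [commutatorElement_def, mul_assoc] using h
    have hU : Subgroup.zpowers u ≤ Subgroup.normalizer (S : Set X) := Subgroup.zpowers_le.mpr hun
    have hmem : ∀ x ∈ S ⊔ Subgroup.zpowers u, x ∈ S ∨ x * u⁻¹ ∈ S := by
      intro x hx
      rw [sup_comm] at hx
      have hx' : x ∈ (↑(Subgroup.zpowers u ⊔ S) : Set X) := hx
      rw [Subgroup.coe_mul_of_left_le_normalizer_right _ S hU] at hx'
      obtain ⟨v, hv, s, hs, rfl⟩ := hx'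
      obtain ⟨i, rfl⟩ := Subgroup.mem_zpowers_iff.mp hv
      have hu2 : ∀ k : ℤ, u ^ (2 * k) ∈ S := fun k => by
        rw [zpow_mul, zpow_two]; exact S.zpow_mem (hFS (hsqF u hu)) k
      rcases Int.even_or_odd i with ⟨k, rfl⟩ | ⟨k, rfl⟩
      · refine Or.inl (S.mul_mem ?_ hs)
        rw [← two_mul]; exact hu2 k
      · refine Or.inr ?_
        rw [zpow_add, zpow_one, mul_assoc, mul_assoc]
        exact S.mul_mem (hu2 k) ((mul_assoc u s u⁻¹) ▸ (Subgroup.mem_normalizer_iff.mp hun s).mp hs)
    refine ⟨?_, hmem⟩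
    have hle : S ≤ S ⊔ Subgroup.zpowers u := le_sup_left
    have huU : u ∈ S ⊔ Subgroup.zpowers u := Subgroup.mem_sup_right (Subgroup.mem_zpowers u)
    have hrel : S.relIndex (S ⊔ Subgroup.zpowers u) = 2 := by
      refine Subgroup.index_eq_two_iff.mpr ⟨⟨u⁻¹, Subgroup.inv_mem _ huU⟩, fun b => ?_⟩
      simp only [Subgroup.mem_subgroupOf, Subgroup.coe_mul]
      rcases hmem b b.2 with h | h
      · exact Or.inr ⟨h, fun h' => huS (by
          have h3 := S.mul_mem (S.inv_mem h') h
          simpa [mul_assoc] using h3)⟩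
      · exact Or.inl ⟨h, fun h' => huS (by
          have h3 := S.mul_mem (S.inv_mem h) h'
          simpa [mul_assoc] using h3)⟩
    rw [← Subgroup.relIndex_mul_relIndex ⊥ S _ bot_le hle |>.trans (Subgroup.relIndex_bot_left _),
      Subgroup.relIndex_bot_left, hrel, mul_comm]
  obtain ⟨f, hf⟩ := IsPGroup.iff_card.mp (hP.to_le hFP)
  obtain ⟨n, hn⟩ := IsPGroup.iff_card.mp hP
  have hmn : m < n := (Nat.pow_lt_pow_iff_right (by norm_num)).mp (hn ▸ hD2)
  -- if `F` is smaller than the given order, `A` is trivial on the Frattini quotient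
  by_cases hfm : f < m
  · have hdown : ∀ j : ℕ, ∀ S : Subgroup X, F ≤ S → S ≤ P → ∀ l, f < l → l + j = m → Nat.card S = 2 ^ l →
        A ≤ Subgroup.normalizer (S : Set X) := by
      intro j
      induction j with
      | zero => exact fun S _ hSP l _ hl hS => hinv S hSP (Or.inl (by rw [hS, show l = m by omega]))
      | succ j ihj =>
        intro S hFS hSP l hl hlm hS
        obtain ⟨u, hu, huS⟩ : ∃ u ∈ P, u ∉ S := by
          by_contra h
          push Not at h
          have h1 := Subgroup.card_le_of_le (show P ≤ S from h)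
          rw [hn, hS] at h1
          have := (Nat.pow_le_pow_iff_right (by norm_num : 1 < 2)).mp h1
          omega
        have h1 := (hadj S hFS hSP u hu huS).1
        have hS1P : S ⊔ Subgroup.zpowers u ≤ P := sup_le hSP (Subgroup.zpowers_le.mpr hu)
        obtain ⟨v, hv, hvS⟩ : ∃ v ∈ P, v ∉ S ⊔ Subgroup.zpowers u := by
          by_contra h
          push Not at h
          have h2 := Subgroup.card_le_of_le (show P ≤ S ⊔ Subgroup.zpowers u from h)
          rw [hn, h1, hS, ← pow_succ'] at h2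
          have := (Nat.pow_le_pow_iff_right (by norm_num : 1 < 2)).mp h2
          omega
        have h3 := (hadj S hFS hSP v hv (fun h => hvS (Subgroup.mem_sup_left h))).1
        have hS2P : S ⊔ Subgroup.zpowers v ≤ P := sup_le hSP (Subgroup.zpowers_le.mpr hv)
        have hn1 := ihj _ (hFS.trans le_sup_left) hS1P (l + 1) (by omega) (by omega) (by rw [h1, hS, pow_succ'])
        have hn2 := ihj _ (hFS.trans le_sup_left) hS2P (l + 1) (by omega) (by omega) (by rw [h3, hS, pow_succ'])
        have hint : S = (S ⊔ Subgroup.zpowers u) ⊓ (S ⊔ Subgroup.zpowers v) := by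
          refine le_antisymm (le_inf le_sup_left le_sup_left) fun x hx => ?_
          rcases (hadj S hFS hSP v hv (fun h => hvS (Subgroup.mem_sup_left h))).2 x hx.2 with h | h
          · exact h
          · exfalso
            apply hvS
            have h4 := (S ⊔ Subgroup.zpowers u).mul_mem (Subgroup.inv_mem _ (Subgroup.mem_sup_left h)) hx.1
            simpa [mul_assoc] using h4
        rw [hint]
        intro a ha
        refine Cfsg.Agent.Coprime.mem_normalizer_of_forall fun x hx => ⟨?_, ?_⟩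
        · exact (Subgroup.mem_normalizer_iff.mp (hn1 ha) x).mp hx.1
        · exact (Subgroup.mem_normalizer_iff.mp (hn2 ha) x).mp hx.2
    refine Cfsg.Agent.Coprime.le_centralizer_of_forall_mem_frattini hAP hcopF fun a ha x hx => ?_
    show a * x * a⁻¹ * x⁻¹ ∈ F
    by_cases hxF : x ∈ F
    · exact F.mul_mem ((Subgroup.mem_normalizer_iff.mp (hnF ha) x).mp hxF) (F.inv_mem hxF)
    obtain ⟨hT, hTmem⟩ := hadj F le_rfl hFP x hx hxF
    have hTn := hdown (m - (f + 1)) _ le_sup_left (sup_le hFP (Subgroup.zpowers_le.mpr hx)) (f + 1) (by omega)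
      (by omega) (by rw [hT, hf, pow_succ'])
    rcases hTmem _ ((Subgroup.mem_normalizer_iff.mp (hTn ha) x).mp (Subgroup.mem_sup_right (Subgroup.mem_zpowers x))) with h | h
    · exact absurd ((Subgroup.mem_normalizer_iff.mp (hnF ha) x).mpr h) hxF
    · exact h
  push Not at hfm
  -- subgroups of the given order other than `F` are centralized
  have hHC : ∀ H : Subgroup X, H ≤ P → Nat.card H = 2 ^ m → H ≠ F → A ≤ Subgroup.centralizer (H : Set X) := by
    intro H hH hHc hHF
    have hHP : H ≠ P := fun h => by rw [h] at hHc; omega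
    have hlt : 2 ^ m < Nat.card ↥(H ⊔ F) := by
      rw [← hHc]
      refine lt_of_le_of_ne (Subgroup.card_le_of_le le_sup_left) fun he => hHF ?_
      have h1 : H = H ⊔ F := Subgroup.eq_of_le_of_card_ge le_sup_left he.ge
      refine (Subgroup.eq_of_le_of_card_ge (h1 ▸ le_sup_right) ?_).symm
      rw [hHc, hf]
      exact Nat.pow_le_pow_right (by norm_num) hfm
    have hAH : A ≤ Subgroup.normalizer ((H ⊔ F : Subgroup X) : Set X) := fun a ha => by
      refine Cfsg.Agent.Coprime.mem_normalizer_of_forall fun x hx => ?_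
      have hle : H ⊔ F ≤ (H ⊔ F).comap (MulAut.conj a).toMonoidHom := sup_le
        (fun y hy => Subgroup.mem_sup_left ((Subgroup.mem_normalizer_iff.mp (hinv H hH (Or.inl hHc) ha) y).mp hy))
        (fun y hy => Subgroup.mem_sup_right ((Subgroup.mem_normalizer_iff.mp (hnF ha) y).mp hy))
      exact hle hx
    exact (hsub _ (lt_of_le_of_ne (sup_le hH hFP) (hFlt H hH hHP)) hAH hlt).trans
      (Subgroup.centralizer_le (SetLike.coe_subset_coe.mpr le_sup_left))
  set C : Subgroup X := P ⊓ Subgroup.centralizer (A : Set X) with hC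
  have hCle : ∀ Q : Subgroup X, Q ≤ P → A ≤ Subgroup.centralizer (Q : Set X) → Q ≤ C := fun Q hQ h =>
    le_inf hQ (Subgroup.le_centralizer_iff.mp h)
  -- `F` is centralized
  have hFC : A ≤ Subgroup.centralizer (F : Set X) := by
    by_cases hfl : m < f
    · have hFne : F ≠ P := fun h => hFlt ⊥ bot_le (fun h' => by
        rw [← h', Subgroup.card_bot] at hD2
        exact absurd hD2 (Nat.not_lt.mpr Nat.one_le_two_pow)) (by rw [bot_sup_eq, h])
      exact hsub F (lt_of_le_of_ne hFP hFne) hnF (hf ▸ Nat.pow_lt_pow_right (by norm_num) hfl)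
    have hfm' : f = m := by omega
    by_cases hall : P ≤ C
    · exact (Subgroup.le_centralizer_iff.mp (hall.trans inf_le_right)).trans
        (Subgroup.centralizer_le (SetLike.coe_subset_coe.mpr hFP))
    obtain ⟨y, hy, hyC, hyF⟩ : ∃ y ∈ P, y ∉ C ∧ y ∉ F := by
      obtain ⟨c, hc, hcC⟩ := SetLike.not_le_iff_exists.mp hall
      obtain ⟨d, hd, hdF⟩ : ∃ d ∈ P, d ∉ F := by
        by_contra h
        push Not at h
        have h1 := Subgroup.card_le_of_le (show P ≤ F from h)
        rw [hn, hf] at h1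
        have := (Nat.pow_le_pow_iff_right (by norm_num : 1 < 2)).mp h1
        omega
      by_cases hcF : c ∈ F
      · by_cases hdC : d ∈ C
        · exact ⟨c * d, P.mul_mem hc hd, fun h => hcC (by simpa using C.mul_mem h (C.inv_mem hdC)),
            fun h => hdF (by simpa using F.mul_mem (F.inv_mem hcF) h)⟩
        · exact ⟨d, hd, hdC, hdF⟩
      · exact ⟨c, hc, hcC, hcF⟩
    obtain ⟨k, hk⟩ := IsPGroup.iff_card.mp (hP.to_le (Subgroup.zpowers_le.mpr hy))
    have hkm : m < k := by
      by_contra h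
      push Not at h
      obtain ⟨H, hKH, hHP, hHc⟩ := hover _ k (Subgroup.zpowers_le.mpr hy) hk m h (hn ▸ Nat.pow_le_pow_right (by norm_num) hmn.le)
      exact hyC (hCle H hHP (hHC H hHP hHc fun h' => hyF (h' ▸ hKH (Subgroup.mem_zpowers y))) (hKH (Subgroup.mem_zpowers y)))
    have hsq : Subgroup.zpowers (y * y) = F := by
      refine Subgroup.eq_of_le_of_card_ge (Subgroup.zpowers_le.mpr (hsqF y hy)) ?_
      rw [Nat.card_zpowers, hf, hfm', ← pow_two, orderOf_pow' y (by norm_num), ← Nat.card_zpowers, hk,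
        Nat.gcd_eq_right (dvd_pow_self 2 (by omega)), Nat.le_div_iff_mul_le (by norm_num), ← pow_succ]
      exact Nat.pow_le_pow_right (by norm_num) hkm
    rw [← hsq]
    exact centralizes_cyclic hA _ (hP.to_le (hsq.trans_le hFP)) (hsq ▸ hnF)
  -- every element of order dividing four is centralized
  refine Cfsg.Agent.SmallFix.le_centralizer_of_fixing_order_four 2 rfl hP hAP hcop fun x hx h4 => ?_
  by_cases hxF : x ∈ F
  · exact (Subgroup.le_centralizer_iff.mp hFC) hxF
  obtain ⟨k, hk⟩ := IsPGroup.iff_card.mp (hP.to_le (Subgroup.zpowers_le.mpr hx))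
  have hk2 : k ≤ 2 := by
    have h1 : orderOf x ∣ 2 ^ 2 := orderOf_dvd_of_pow_eq_one h4
    rw [← Nat.card_zpowers, hk] at h1
    exact (Nat.pow_dvd_pow_iff_le_right (by norm_num)).mp h1
  by_cases hkm : k ≤ m
  · obtain ⟨H, hKH, hHP, hHc⟩ := hover _ k (Subgroup.zpowers_le.mpr hx) hk m hkm (hn ▸ Nat.pow_le_pow_right (by norm_num) hmn.le)
    exact (Subgroup.le_centralizer_iff.mp (hHC H hHP hHc fun h' => hxF (h' ▸ hKH (Subgroup.mem_zpowers x))))
      (hKH (Subgroup.mem_zpowers x))
  · have hnorm := hinv (Subgroup.zpowers x) (Subgroup.zpowers_le.mpr hx)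
      (Or.inr ⟨by rw [show m = 1 by omega, pow_one], by rw [hk, show k = 2 by omega]; rfl⟩)
    exact (Subgroup.le_centralizer_iff.mp (centralizes_cyclic hA x (hP.to_le (Subgroup.zpowers_le.mpr hx)) hnorm))
      (Subgroup.mem_zpowers x)

end Cfsg.Agent.S3803
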