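import Cfsg.Statements.S3804
import Cfsg.Agent.EqLemmas

set_option autoImplicit false
open Cfsg

namespace Cfsg.Agent.S3804

variable {X : Type*} [Group X] [Finite X]

/-- `|A| |B| ≤ |A ⊓ B| |A ⊔ B|`, with equality exactly when `A B = A ⊔ B`. -/
lemma card_mul_le (A B : Subgroup X) :
    Nat.card A * Nat.card B ≤ Nat.card ↥(A ⊓ B) * Nat.card ↥(A ⊔ B) ∧
      (Nat.card A * Nat.card B = Nat.card ↥(A ⊓ B) * Nat.card ↥(A ⊔ B) →
        ∀ x ∈ A ⊔ B, ∃ a ∈ A, ∃ b ∈ B, x = a * b) := by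
  classical
  have := Fintype.ofFinite ↥(A ⊔ B)
  let f : A × B → ↥(A ⊔ B) := fun x =>
    ⟨(x.1 : X) * x.2, mul_mem (Subgroup.mem_sup_left x.1.2) (Subgroup.mem_sup_right x.2.2)⟩
  have hfib : ∀ y, Nat.card {x : A × B // f x = y} ≤ Nat.card ↥(A ⊓ B) ∧
      ((∀ a ∈ A, ∀ b ∈ B, (y : X) ≠ a * b) → Nat.card {x : A × B // f x = y} = 0) := by
    intro y
    refine ⟨?_, fun h => ?_⟩
    · by_cases hne : IsEmpty {x : A × B // f x = y}
      · simp
      obtain ⟨⟨⟨a₀, b₀⟩, h₀⟩⟩ := not_isEmpty_iff.mp hne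
      refine Nat.card_le_card_of_injective (fun x => ⟨((a₀ : X))⁻¹ * x.1.1, ?_⟩) ?_
      · refine ⟨A.mul_mem (A.inv_mem a₀.2) x.1.1.2, ?_⟩
        have h : (a₀ : X) * b₀ = x.1.1 * x.1.2 := congrArg Subtype.val (h₀.trans x.2.symm)
        have : (a₀ : X)⁻¹ * x.1.1 = b₀ * (x.1.2 : X)⁻¹ := by
          rw [inv_mul_eq_iff_eq_mul, ← mul_assoc, h, mul_inv_cancel_right]
        rw [SetLike.mem_coe, this]
        exact B.mul_mem b₀.2 (B.inv_mem x.1.2.2)
      · intro x x' he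
        have h1 : (x.1.1 : X) = x'.1.1 := mul_left_cancel (congrArg Subtype.val he)
        have h2 : (x.1.1 : X) * x.1.2 = x'.1.1 * x'.1.2 := congrArg Subtype.val (x.2.trans x'.2.symm)
        rw [h1] at h2
        exact Subtype.ext (Prod.ext (Subtype.ext h1) (Subtype.ext (mul_left_cancel h2)))
    · rw [Nat.card_eq_zero]
      exact Or.inl ⟨fun x => h _ x.1.1.2 _ x.1.2.2 (congrArg Subtype.val x.2).symm⟩
  have hsum : Nat.card A * Nat.card B = ∑ y : ↥(A ⊔ B), Nat.card {x : A × B // f x = y} := by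
    rw [← Nat.card_prod, ← Nat.card_sigma, Nat.card_congr (Equiv.sigmaFiberEquiv f)]
  have hconst : Nat.card ↥(A ⊓ B) * Nat.card ↥(A ⊔ B) = ∑ _y : ↥(A ⊔ B), Nat.card ↥(A ⊓ B) := by
    rw [Finset.sum_const, Finset.card_univ, smul_eq_mul, ← Nat.card_eq_fintype_card, mul_comm]
  rw [hsum, hconst]
  refine ⟨Finset.sum_le_sum fun y _ => (hfib y).1, fun he x hx => ?_⟩
  by_contra hn
  push Not at hn
  have hall := (Finset.sum_eq_sum_iff_of_le (fun y _ => (hfib y).1)).mp he ⟨x, hx⟩ (Finset.mem_univ _)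
  rw [(hfib ⟨x, hx⟩).2 hn] at hall
  exact (Nat.card_pos.ne' hall.symm)


/-- Let G and H be subgroups of a finite group with G normalizing H, fix a real number α > 0, and for a subgroup A of G put m(A) = |A|^α · |C_H(A)|. Let A and B be nontrivial subgroups of G at which m attains its maximum over all nontrivial subgroups of G, and assume that A ∩ B ≠ 1 or that this maximum is at least |H|. Then AB = BA is a subgroup at which m is again maximal, C_H(A ∩ B) = C_H(A) C_H(B), and if A ∩ B ≠ 1 then m is maximal at A ∩ B as well. -/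
theorem result {X : Type*} [Group X] [Finite X] (G H : Subgroup X) (hGH : G ≤ Subgroup.normalizer (H : Set X)) (α : ℝ) (hα : 0 < α)
    (A B : Subgroup X) (hA : A ≤ G) (hB : B ≤ G) (hA1 : A ≠ ⊥) (hB1 : B ≠ ⊥)
    (hAmax : ∀ A' : Subgroup X, A' ≤ G → A' ≠ ⊥ → (fun A : Subgroup X => ((Nat.card A : ℝ) ^ α) * (Nat.card ↥(H ⊓ Subgroup.centralizer (A : Set X)) : ℝ)) A' ≤ (fun A : Subgroup X => ((Nat.card A : ℝ) ^ α) * (Nat.card ↥(H ⊓ Subgroup.centralizer (A : Set X)) : ℝ)) A)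
    (hBmax : ∀ A' : Subgroup X, A' ≤ G → A' ≠ ⊥ → (fun A : Subgroup X => ((Nat.card A : ℝ) ^ α) * (Nat.card ↥(H ⊓ Subgroup.centralizer (A : Set X)) : ℝ)) A' ≤ (fun A : Subgroup X => ((Nat.card A : ℝ) ^ α) * (Nat.card ↥(H ⊓ Subgroup.centralizer (A : Set X)) : ℝ)) B)
    (hcase : A ⊓ B ≠ ⊥ ∨ (Nat.card H : ℝ) ≤ (fun A : Subgroup X => ((Nat.card A : ℝ) ^ α) * (Nat.card ↥(H ⊓ Subgroup.centralizer (A : Set X)) : ℝ)) A) :
    (∀ a ∈ A, ∀ b ∈ B, ∃ b' ∈ B, ∃ a' ∈ A, a * b = b' * a') ∧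
    (∀ A' : Subgroup X, A' ≤ G → A' ≠ ⊥ → (fun A : Subgroup X => ((Nat.card A : ℝ) ^ α) * (Nat.card ↥(H ⊓ Subgroup.centralizer (A : Set X)) : ℝ)) A' ≤ (fun A : Subgroup X => ((Nat.card A : ℝ) ^ α) * (Nat.card ↥(H ⊓ Subgroup.centralizer (A : Set X)) : ℝ)) (A ⊔ B)) ∧
    (∀ h ∈ H ⊓ Subgroup.centralizer ((A ⊓ B : Subgroup X) : Set X), ∃ u ∈ H ⊓ Subgroup.centralizer (A : Set X), ∃ v ∈ H ⊓ Subgroup.centralizer (B : Set X), h = u * v) ∧
    (A ⊓ B ≠ ⊥ → ∀ A' : Subgroup X, A' ≤ G → A' ≠ ⊥ → (fun A : Subgroup X => ((Nat.card A : ℝ) ^ α) * (Nat.card ↥(H ⊓ Subgroup.centralizer (A : Set X)) : ℝ)) A' ≤ (fun A : Subgroup X => ((Nat.card A : ℝ) ^ α) * (Nat.card ↥(H ⊓ Subgroup.centralizer (A : Set X)) : ℝ)) (A ⊓ B)) := by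
  simp only at hAmax hBmax hcase ⊢
  set CA := H ⊓ Subgroup.centralizer (A : Set X) with hCA
  set CB := H ⊓ Subgroup.centralizer (B : Set X) with hCB
  set CI := H ⊓ Subgroup.centralizer ((A ⊓ B : Subgroup X) : Set X) with hCI
  set CJ := H ⊓ Subgroup.centralizer ((A ⊔ B : Subgroup X) : Set X) with hCJ
  set m : Subgroup X → ℝ := fun K => ((Nat.card K : ℝ) ^ α) *
    (Nat.card ↥(H ⊓ Subgroup.centralizer (K : Set X)) : ℝ) with hm
  have hmb : m (A ⊓ B) ≤ m A := by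
    by_cases hI : A ⊓ B = ⊥
    · have hH : H ⊓ Subgroup.centralizer ((⊥ : Subgroup X) : Set X) = H :=
        inf_eq_left.mpr fun x _ => Subgroup.mem_centralizer_iff.mpr fun y hy => by
          rw [Subgroup.mem_bot.mp hy, one_mul, mul_one]
      show _ * _ ≤ _
      rw [hI, hH, Subgroup.card_bot, Nat.cast_one, Real.one_rpow, one_mul]
      exact hcase.resolve_left (fun h => h hI)
    · exact hAmax _ (inf_le_left.trans hA) hI
  have hJne : A ⊔ B ≠ ⊥ := fun h => hA1 (le_bot_iff.mp (h ▸ le_sup_left))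
  have hmj : m (A ⊔ B) ≤ m A := hAmax _ (sup_le hA hB) hJne
  have hAB : m A = m B := le_antisymm (hBmax A hA hA1) (hAmax B hB hB1)
  have hsupI : CA ⊔ CB ≤ CI := sup_le (inf_le_inf_left _ (Subgroup.centralizer_le (inf_le_left : A ⊓ B ≤ A)))
    (inf_le_inf_left _ (Subgroup.centralizer_le (inf_le_right : A ⊓ B ≤ B)))
  have hinfJ : CA ⊓ CB = CJ := by
    refine le_antisymm (fun x hx => ⟨hx.1.1, ?_⟩) (le_inf (inf_le_inf_left _ (Subgroup.centralizer_le (SetLike.coe_subset_coe.mpr le_sup_left)))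
      (inf_le_inf_left _ (Subgroup.centralizer_le (SetLike.coe_subset_coe.mpr le_sup_right))))
    have h1 : A ⊔ B ≤ Subgroup.centralizer ({x} : Set X) := by
      refine sup_le (fun a ha => ?_) (fun b hb => ?_) <;> rw [Subgroup.mem_centralizer_iff] <;>
        intro y hy <;> rw [Set.mem_singleton_iff.mp hy]
      · exact (Subgroup.mem_centralizer_iff.mp hx.1.2 a ha).symm
      · exact (Subgroup.mem_centralizer_iff.mp hx.2.2 b hb).symm
    refine Subgroup.mem_centralizer_iff.mpr fun y hy => ?_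
    exact (Subgroup.mem_centralizer_iff.mp (h1 hy) x rfl).symm
  obtain ⟨hc1, hc2⟩ := card_mul_le CA CB
  obtain ⟨hd1, hd2⟩ := card_mul_le A B
  rw [hinfJ] at hc1 hc2
  have hc1' : Nat.card CA * Nat.card CB ≤ Nat.card CJ * Nat.card CI :=
    hc1.trans (Nat.mul_le_mul_left _ (Subgroup.card_le_of_le hsupI))
  have posA : (0 : ℝ) < (Nat.card A : ℝ) ^ α := Real.rpow_pos_of_pos (Nat.cast_pos.mpr Nat.card_pos) α
  have posB : (0 : ℝ) < (Nat.card B : ℝ) ^ α := Real.rpow_pos_of_pos (Nat.cast_pos.mpr Nat.card_pos) α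
  have e1 : (Nat.card A : ℝ) ^ α * (Nat.card B : ℝ) ^ α ≤
      (Nat.card ↥(A ⊓ B) : ℝ) ^ α * (Nat.card ↥(A ⊔ B) : ℝ) ^ α := by
    rw [← Real.mul_rpow (Nat.cast_nonneg _) (Nat.cast_nonneg _), ← Real.mul_rpow (Nat.cast_nonneg _) (Nat.cast_nonneg _)]
    exact Real.rpow_le_rpow (by positivity) (by exact_mod_cast hd1) hα.le
  have e2 : (Nat.card CA : ℝ) * (Nat.card CB : ℝ) ≤ (Nat.card CJ : ℝ) * (Nat.card CI : ℝ) := by
    exact_mod_cast hc1'
  have hMpos : 0 < m A := mul_pos posA (Nat.cast_pos.mpr Nat.card_pos)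
  have hge : m A * m A ≤ m (A ⊓ B) * m (A ⊔ B) := by
    calc m A * m A = m A * m B := by rw [← hAB]
      _ = ((Nat.card A : ℝ) ^ α * (Nat.card B : ℝ) ^ α) * ((Nat.card CA : ℝ) * (Nat.card CB : ℝ)) := by
          simp only [hm]; ring
      _ ≤ ((Nat.card ↥(A ⊓ B) : ℝ) ^ α * (Nat.card ↥(A ⊔ B) : ℝ) ^ α) * ((Nat.card CJ : ℝ) * (Nat.card CI : ℝ)) :=
          mul_le_mul e1 e2 (by positivity) (by positivity)
      _ = _ := by simp only [hm]; ring
  have hIpos : 0 ≤ m (A ⊓ B) := by positivity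
  have hJeq : m (A ⊔ B) = m A := by
    refine le_antisymm hmj ?_
    by_contra hlt
    push Not at hlt
    have := mul_le_mul hmb (le_refl (m (A ⊔ B))) (by positivity) hMpos.le
    nlinarith
  have hIeq : m (A ⊓ B) = m A := by
    refine le_antisymm hmb ?_
    by_contra hlt
    push Not at hlt
    rw [hJeq] at hge
    nlinarith
  have heq : ((Nat.card A : ℝ) ^ α * (Nat.card B : ℝ) ^ α) * ((Nat.card CA : ℝ) * (Nat.card CB : ℝ)) =
      ((Nat.card ↥(A ⊓ B) : ℝ) ^ α * (Nat.card ↥(A ⊔ B) : ℝ) ^ α) * ((Nat.card CJ : ℝ) * (Nat.card CI : ℝ)) := by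
    calc _ = m A * m B := by simp only [hm]; ring
      _ = m (A ⊓ B) * m (A ⊔ B) := by rw [hIeq, hJeq, ← hAB]
      _ = _ := by simp only [hm]; ring
  have f1 : (Nat.card A : ℝ) ^ α * (Nat.card B : ℝ) ^ α =
      (Nat.card ↥(A ⊓ B) : ℝ) ^ α * (Nat.card ↥(A ⊔ B) : ℝ) ^ α := by
    refine le_antisymm e1 ?_
    by_contra hlt
    push Not at hlt
    have hp2 : (0 : ℝ) < (Nat.card CA : ℝ) * (Nat.card CB : ℝ) :=
      mul_pos (Nat.cast_pos.mpr Nat.card_pos) (Nat.cast_pos.mpr Nat.card_pos)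
    have := mul_lt_mul hlt e2 hp2 (by positivity)
    linarith
  have f2 : Nat.card CA * Nat.card CB = Nat.card CJ * Nat.card CI := by
    refine le_antisymm hc1' ?_
    rw [f1] at heq
    have h3 : (Nat.card CA : ℝ) * (Nat.card CB : ℝ) = (Nat.card CJ : ℝ) * (Nat.card CI : ℝ) :=
      mul_left_cancel₀ (ne_of_gt (f1 ▸ mul_pos posA posB)) heq
    exact (Nat.cast_le (α := ℝ)).mp (by push_cast; linarith)
  have f1' : Nat.card A * Nat.card B = Nat.card ↥(A ⊓ B) * Nat.card ↥(A ⊔ B) := by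
    rw [← Real.mul_rpow (Nat.cast_nonneg _) (Nat.cast_nonneg _), ← Real.mul_rpow (Nat.cast_nonneg _) (Nat.cast_nonneg _)] at f1
    exact_mod_cast (Real.rpow_left_inj (by positivity) (by positivity) hα.ne').mp f1
  refine ⟨?_, fun A' h1 h2 => (hAmax A' h1 h2).trans hJeq.ge, ?_, fun _ A' h1 h2 => (hAmax A' h1 h2).trans hIeq.ge⟩
  · intro a ha b hb
    obtain ⟨a', ha', b', hb', he⟩ := hd2 f1' (a * b)⁻¹
      (inv_mem (mul_mem (Subgroup.mem_sup_left ha) (Subgroup.mem_sup_right hb)))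
    refine ⟨b'⁻¹, B.inv_mem hb', a'⁻¹, A.inv_mem ha', ?_⟩
    rw [← mul_inv_rev, ← he, inv_inv]
  · intro h hh
    have hcard : Nat.card ↥(CA ⊔ CB) = Nat.card CI :=
      le_antisymm (Subgroup.card_le_of_le hsupI) (Nat.le_of_mul_le_mul_left (f2 ▸ hc1) Nat.card_pos)
    have hsupeq : CA ⊔ CB = CI := Subgroup.eq_of_le_of_card_ge hsupI hcard.ge
    exact hc2 (by rw [hcard, f2]) h (hsupeq.ge hh)

end Cfsg.Agent.S3804
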