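import Cfsg.Statements.S3806
import Cfsg.Agent.EqLemmas
import Cfsg.Agent.Lib.PGroup.MaximalClass
import Cfsg.Agent.Lib.PGroup.PolySeq
-- import your own Cfsg.Agent.* helpers here

set_option autoImplicit false
open Cfsg

namespace Cfsg.Agent.S3806

open scoped commutatorElement IsMulCommutative

/-- The binomial expansion of a geometric product along an endomorphism. -/
theorem geom_prod {A : Type*} [CommGroup A] (φ : A →* A) (W : ℕ → A) (hW : ∀ i, W (i + 1) = φ (W i) * (W i)⁻¹)
    (P : ℕ → A) (h0 : P 0 = 1) (hP : ∀ m, P (m + 1) = φ (P m) * W 0) (m : ℕ) :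
    P m = ∏ i ∈ Finset.range m, W i ^ m.choose (i + 1) := by
  induction m with
  | zero => simpa using h0
  | succ m ih =>
    have hφ : ∀ i, φ (W i) = W (i + 1) * W i := fun i => by rw [hW i, inv_mul_cancel_right]
    rw [hP m, ih, map_prod]
    simp only [map_pow, hφ, mul_pow, Finset.prod_mul_distrib]
    have e1 : ∏ i ∈ Finset.range (m + 1), W i ^ (m + 1).choose (i + 1) =
        (∏ i ∈ Finset.range (m + 1), W i ^ m.choose i) * ∏ i ∈ Finset.range (m + 1), W i ^ m.choose (i + 1) := by
      rw [← Finset.prod_mul_distrib]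
      exact Finset.prod_congr rfl fun i _ => by rw [Nat.choose_succ_succ, pow_add]
    rw [e1, Finset.prod_range_succ' (fun i => W i ^ m.choose i),
      Finset.prod_range_succ (fun i => W i ^ m.choose (i + 1)), Nat.choose_succ_self, pow_zero, mul_one,
      Nat.choose_zero_right, pow_one, mul_right_comm]

variable {S : Type*} [Group S] [Finite S] {p : ℕ} [Fact p.Prime]

local notation "γ" => Subgroup.lowerCentralSeries (⊤ : Subgroup S)

theorem lcs_comm (a b : ℕ) : ⁅γ a, γ b⁆ ≤ γ (a + b + 1) := by
  have := (PolySeq.isFiltration_lowerCentralSeries (G := S)).comm (a + 1) (b + 1)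
  simp only [PolySeq.lcsFil] at this
  rw [show a + 1 + (b + 1) - 1 = a + b + 1 by omega, show a + 1 - 1 = a by omega, show b + 1 - 1 = b by omega] at this
  exact this

variable {n : ℕ}

theorem card_layer (hn : 3 ≤ n) (hS : Nat.card S = p ^ n) (hc : Group.nilpotencyClass S = n - 1) {j : ℕ}
    (h1 : 1 ≤ j) (h2 : j + 1 ≤ n - 1) : Nat.card (γ j) = p * Nat.card (γ (j + 1)) := by
  rw [PGroup.card_lcs_of_maximal_class hn hS hc h1 (by omega),
    PGroup.card_lcs_of_maximal_class hn hS hc (by omega) h2, ← pow_succ']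
  congr 1; omega

theorem layer_gen (hn : 3 ≤ n) (hS : Nat.card S = p ^ n) (hc : Group.nilpotencyClass S = n - 1) {j : ℕ}
    (h1 : 1 ≤ j) (h2 : j + 1 ≤ n - 1) {x : S} (hx : x ∈ γ j) (hx' : x ∉ γ (j + 1)) :
    Subgroup.zpowers x ⊔ γ (j + 1) = γ j := by
  have hle : Subgroup.zpowers x ⊔ γ (j + 1) ≤ γ j :=
    sup_le (Subgroup.zpowers_le.2 hx) (Subgroup.lowerCentralSeries_antitone _ (Nat.le_succ j))
  refine Subgroup.eq_of_le_of_card_ge hle ?_
  rw [card_layer hn hS hc h1 h2]
  exact PGroup.mul_card_le_of_lt (IsPGroup.of_card hS) (lt_of_le_of_ne le_sup_right fun h =>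
    hx' (h ▸ Subgroup.mem_sup_left (Subgroup.mem_zpowers x)))

/-- `x ^ p` lies deep in a group of maximal class. -/
theorem pow_mem (hn : 3 ≤ n) (hS : Nat.card S = p ^ n) (hc : Group.nilpotencyClass S = n - 1) :
    ∀ m, 1 ≤ m → m + 1 ≤ p → m + 2 ≤ n → ∀ s : S, s ^ p ∈ γ m := by
  have hP : IsPGroup p S := IsPGroup.of_card hS
  intro m hm
  induction m, hm using Nat.le_induction with
  | base =>
    intro _ _ s
    rw [Subgroup.top_lowerCentralSeries_one]
    by_contra hs
    have hcard : Nat.card (S ⧸ _root_.commutator S) = p ^ 2 := by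
      have h := Subgroup.card_eq_card_quotient_mul_card_subgroup (_root_.commutator S)
      have h2 := PGroup.card_lcs_of_maximal_class hn hS hc le_rfl (by omega : 1 ≤ n - 1)
      rw [Subgroup.top_lowerCentralSeries_one] at h2
      rw [hS, h2, show n = 2 + (n - 1 - 1) by omega, pow_add, show 2 + (n - 1 - 1) - 1 - 1 = n - 1 - 1 by omega] at h
      exact (Nat.eq_of_mul_eq_mul_right (pow_pos (Fact.out : p.Prime).pos _) h).symm
    have ho : orderOf (QuotientGroup.mk s : S ⧸ _root_.commutator S) = p ^ 2 := by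
      obtain ⟨i, hi, ho⟩ := (Nat.dvd_prime_pow (Fact.out : p.Prime)).1 (hcard ▸ orderOf_dvd_natCard (QuotientGroup.mk s : S ⧸ _root_.commutator S))
      by_cases h : i ≤ 1
      · refine absurd ((QuotientGroup.eq_one_iff _).1 ?_) hs
        rw [QuotientGroup.mk_pow]
        refine orderOf_dvd_iff_pow_eq_one.1 ?_
        rw [ho]
        exact (pow_dvd_pow p h).trans (pow_one p).dvd
      · rw [ho, show i = 2 by omega]
    haveI : IsCyclic (S ⧸ _root_.commutator S) := isCyclic_of_orderOf_eq_card _ (ho.trans hcard.symm)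
    haveI := PGroup.isCyclic_of_abelianization hP inferInstance
    haveI := hP.isNilpotent
    have : Group.nilpotencyClass S ≤ 1 := by
      rw [← Subgroup.lowerCentralSeries_eq_bot_iff_nilpotencyClass_le, Subgroup.top_lowerCentralSeries_one]
      exact commutator_eq_bot S
    omega
  | succ m hm ih =>
    intro hmp hmn
    have ih := ih (by omega) (by omega)
    set π' := QuotientGroup.mk' (γ (m + 2))
    set C := (Subgroup.centralizer ((γ m).map π' : Set (S ⧸ γ (m + 2)))).comap π'
    have hout : ∀ s, s ∉ C → s ^ p ∈ γ (m + 1) := by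
      intro s hs
      by_contra hsp
      apply hs
      rw [Subgroup.mem_comap, Subgroup.mem_centralizer_iff]
      rintro _ ⟨x, hx, rfl⟩
      have hle : γ m ≤ (Subgroup.centralizer {π' s}).comap π' := by
        rw [← layer_gen hn hS hc hm (by omega) (ih s) hsp]
        refine sup_le (Subgroup.zpowers_le.2 ?_) fun y hy => ?_
        · rw [Subgroup.mem_comap, map_pow, Subgroup.mem_centralizer_singleton_iff]
          exact ((Commute.refl (π' s)).pow_left p).eq
        · rw [Subgroup.mem_comap, Subgroup.mem_centralizer_singleton_iff, ← commutatorElement_eq_one_iff_mul_comm,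
            ← map_commutatorElement]
          refine (QuotientGroup.eq_one_iff _).2 ?_
          rw [Subgroup.lowerCentralSeries_succ]
          exact Subgroup.commutator_mem_commutator hy (Subgroup.mem_top s)
      exact Subgroup.mem_centralizer_singleton_iff.1 (hle hx)
    obtain ⟨t, ht⟩ : ∃ t, t ∉ C := by
      by_contra hall
      push Not at hall
      have hle : γ (m + 1) ≤ γ (m + 1 + 1) := by
        rw [Subgroup.lowerCentralSeries_succ _ m, Subgroup.commutator_le]
        intro x hx s _
        refine (QuotientGroup.eq_one_iff _).1 ?_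
        show π' ⁅x, s⁆ = 1
        rw [map_commutatorElement, commutatorElement_eq_one_iff_mul_comm]
        exact Subgroup.mem_centralizer_iff.1 (hall s) _ ⟨x, hx, rfl⟩
      have h1 := Subgroup.card_le_of_le hle
      rw [card_layer hn hS hc (by omega) (by omega : m + 1 + 1 ≤ n - 1)] at h1
      have := Nat.mul_lt_mul_of_pos_right (Fact.out : p.Prime).one_lt (Nat.card_pos (α := γ (m + 1 + 1)))
      omega
    intro s
    by_cases hs : s ∈ C
    swap
    · exact hout s hs
    set π := QuotientGroup.mk' (γ (m + 1))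
    have hts : t * s ∉ C := fun h => ht (by simpa using C.mul_mem h (C.inv_mem hs))
    have hXc : (⊤ : Subgroup (S ⧸ γ (m + 1))).lowerCentralSeries (p - 1) = ⊥ := by
      rw [← Subgroup.map_top_of_surjective π (QuotientGroup.mk'_surjective _), ← Subgroup.map_lowerCentralSeries,
        Subgroup.map_eq_bot_iff, QuotientGroup.ker_mk']
      exact Subgroup.lowerCentralSeries_antitone _ (by omega)
    have e : ∀ y, y ∉ C → π y ^ p = 1 := fun y hy => by
      rw [← map_pow]; exact (QuotientGroup.eq_one_iff _).2 (hout y hy)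
    have := PolySeq.mul_pow_eq_one_of_class_lt _ rfl (hP.to_quotient _) hXc (π t)⁻¹ (π (t * s))
      (by rw [inv_pow, e t ht, inv_one]) (e _ hts)
    rw [map_mul, inv_mul_cancel_left, ← map_pow] at this
    exact (QuotientGroup.eq_one_iff _).1 this

/-- An elementary abelian section of rank `k + 1`. -/
theorem rank_contradiction {k : ℕ} (hk : Cfsg.SectionalPRankLE p k S) (H L : Subgroup S) [L.Normal] (hLH : L ≤ H)
    (hcard : Nat.card H = p ^ (k + 1) * Nat.card L) (hab : ∀ a ∈ H, ∀ b ∈ H, ⁅a, b⁆ ∈ L)
    (hexp : ∀ a ∈ H, a ^ p ∈ L) : False := by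
  set N := L.subgroupOf H
  haveI : IsMulCommutative (H ⧸ N) := ⟨⟨fun q r => by
    obtain ⟨a, rfl⟩ := QuotientGroup.mk_surjective q
    obtain ⟨b, rfl⟩ := QuotientGroup.mk_surjective r
    rw [← QuotientGroup.mk'_apply, ← QuotientGroup.mk'_apply, ← commutatorElement_eq_one_iff_mul_comm,
      ← map_commutatorElement]
    exact (QuotientGroup.eq_one_iff _).2 (hab _ a.2 _ b.2)⟩⟩
  have h := hk H N ⊤ inferInstance fun q _ => by
    obtain ⟨a, rfl⟩ := QuotientGroup.mk_surjective q
    rw [← QuotientGroup.mk_pow]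
    exact (QuotientGroup.eq_one_iff _).2 (hexp _ a.2)
  have h2 := Subgroup.card_eq_card_quotient_mul_card_subgroup N
  rw [hcard, Nat.card_congr (Subgroup.subgroupOfEquivOfLe hLH).toEquiv] at h2
  rw [Subgroup.card_top, ← Nat.eq_of_mul_eq_mul_right Nat.card_pos h2] at h
  exact absurd h (Nat.not_le.2 (Nat.pow_lt_pow_right (Fact.out : p.Prime).one_lt (Nat.lt_succ_self k)))


/-- Let p be a prime and S a finite p-group of order pⁿ (n ≥ 2) of maximal nilpotency class n − 1 whose sectional p-rank is exactly k (every section has p-rank at most k, and some section has p-rank k). If p ≥ k + 2 then the order of S is at most p^(2k). -/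
theorem result {S : Type*} [Group S] [Finite S] (p : ℕ) [Fact p.Prime] (hS : IsPGroup p S) [Group.IsNilpotent S]
    (n : ℕ) (hn : 2 ≤ n) (hcard : Nat.card S = p ^ n) (hmax : Group.nilpotencyClass S = n - 1)
    (k : ℕ) (hk : 1 ≤ k) (hsr : Cfsg.SectionalPRankLE p k S ∧ ¬ Cfsg.SectionalPRankLE p (k - 1) S)
    (hpk : k + 2 ≤ p) : Nat.card S ≤ p ^ (2 * k) := by
  classical
  rw [hcard]
  refine Nat.pow_le_pow_right (Fact.out : p.Prime).pos ?_
  by_contra hlt
  push Not at hlt
  have hn3 : 3 ≤ n := by omega
  have hpm := pow_mem hn3 hcard hmax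
  have hcG := fun i (h1 : 1 ≤ i) (h2 : i ≤ n - 1) => PGroup.card_lcs_of_maximal_class hn3 hcard hmax h1 h2
  have hanti : Antitone (Subgroup.lowerCentralSeries (⊤ : Subgroup S)) := Subgroup.lowerCentralSeries_antitone _
  have hcomm : ∀ a b c, c ≤ a + b + 1 → ∀ x ∈ (Subgroup.lowerCentralSeries (⊤ : Subgroup S)) a, ∀ y ∈ (Subgroup.lowerCentralSeries (⊤ : Subgroup S)) b, ⁅x, y⁆ ∈ (Subgroup.lowerCentralSeries (⊤ : Subgroup S)) c := fun a b c h x hx y hy =>
    hanti h (lcs_comm a b (Subgroup.commutator_mem_commutator hx hy))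
  rcases eq_or_lt_of_le hk with rfl | hk2
  · refine rank_contradiction hsr.1 ⊤ ((Subgroup.lowerCentralSeries (⊤ : Subgroup S)) 1) le_top ?_ (fun a _ b _ => ?_) fun a _ => hpm 1 le_rfl (by omega) (by omega) a
    · rw [Subgroup.card_top, hcard, hcG 1 le_rfl (by omega), ← pow_add]
      congr 1; omega
    · exact hcomm 0 0 1 le_rfl a (by simp) b (by simp)
  set L := (Subgroup.lowerCentralSeries (⊤ : Subgroup S)) (2 * k) with hL
  haveI hLn : L.Normal := by rw [hL]; infer_instance
  set π := QuotientGroup.mk' L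
  have hπ : ∀ x, π x = 1 ↔ x ∈ L := fun x => QuotientGroup.eq_one_iff x
  -- `(Subgroup.lowerCentralSeries (⊤ : Subgroup S)) (k - 1)` is abelian modulo `L`
  have hab : ∀ a ∈ (Subgroup.lowerCentralSeries (⊤ : Subgroup S)) (k - 1), ∀ b ∈ (Subgroup.lowerCentralSeries (⊤ : Subgroup S)) (k - 1), ⁅a, b⁆ ∈ L := by
    obtain ⟨x, hx, hx'⟩ : ∃ x ∈ (Subgroup.lowerCentralSeries (⊤ : Subgroup S)) (k - 1), x ∉ (Subgroup.lowerCentralSeries (⊤ : Subgroup S)) k := by
      by_contra h
      push Not at h
      have h1 := Subgroup.card_le_of_le (show (Subgroup.lowerCentralSeries (⊤ : Subgroup S)) (k - 1) ≤ (Subgroup.lowerCentralSeries (⊤ : Subgroup S)) (k - 1 + 1) by rw [Nat.sub_add_cancel hk]; exact h)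
      rw [card_layer hn3 hcard hmax (j := k - 1) (by omega) (by omega)] at h1
      have := Nat.mul_lt_mul_of_pos_right (Fact.out : p.Prime).one_lt (Nat.card_pos (α := (Subgroup.lowerCentralSeries (⊤ : Subgroup S)) (k - 1 + 1)))
      omega
    have hgen := layer_gen hn3 hcard hmax (j := k - 1) (by omega) (by omega) hx (by rwa [Nat.sub_add_cancel hk])
    rw [Nat.sub_add_cancel hk] at hgen
    have hGk : ∀ y ∈ (Subgroup.lowerCentralSeries (⊤ : Subgroup S)) k, ∀ a ∈ (Subgroup.lowerCentralSeries (⊤ : Subgroup S)) (k - 1), Commute (π y) (π a) := fun y hy a ha => by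
      rw [← commutatorElement_eq_one_iff_commute, ← map_commutatorElement, hπ]
      exact hcomm k (k - 1) (2 * k) (by omega) y hy a ha
    intro a ha b hb
    rw [← hπ, map_commutatorElement, commutatorElement_eq_one_iff_commute]
    have hc : ∀ c ∈ (Subgroup.lowerCentralSeries (⊤ : Subgroup S)) (k - 1), Commute (π x) (π c) := by
      intro c hc
      have hle : (Subgroup.lowerCentralSeries (⊤ : Subgroup S)) (k - 1) ≤ (Subgroup.centralizer {π x}).comap π := hgen ▸ sup_le
        (Subgroup.zpowers_le.2 (Subgroup.mem_centralizer_singleton_iff.2 rfl))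
        fun y hy => Subgroup.mem_centralizer_singleton_iff.2 (hGk y hy x hx).eq
      exact (Subgroup.mem_centralizer_singleton_iff.1 (hle hc)).symm
    have hle : (Subgroup.lowerCentralSeries (⊤ : Subgroup S)) (k - 1) ≤ (Subgroup.centralizer {π b}).comap π := hgen ▸ sup_le
      (Subgroup.zpowers_le.2 (Subgroup.mem_centralizer_singleton_iff.2 (hc b hb).eq))
      fun y hy => Subgroup.mem_centralizer_singleton_iff.2 (hGk y hy b hb).eq
    exact Subgroup.mem_centralizer_singleton_iff.1 (hle ha)
  -- it has exponent `p` modulo `L`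
  have hexp : ∀ d j, j + d = 2 * k → k - 1 ≤ j → ∀ x ∈ (Subgroup.lowerCentralSeries (⊤ : Subgroup S)) j, x ^ p ∈ L := by
    intro d
    induction d with
    | zero =>
      intro j hj _ x hx
      exact L.pow_mem (by rw [hL, ← hj]; exact hx) p
    | succ d ih =>
      intro j hj hkj
      have ih := ih (j + 1) (by omega) (by omega)
      set A := ((Subgroup.lowerCentralSeries (⊤ : Subgroup S)) j).map π with hA
      haveI : IsMulCommutative A := ⟨⟨fun a b => by
        obtain ⟨_, a', ha', rfl⟩ := a
        obtain ⟨_, b', hb', rfl⟩ := b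
        refine Subtype.ext ?_
        show π a' * π b' = π b' * π a'
        rw [← commutatorElement_eq_one_iff_mul_comm, ← map_commutatorElement, hπ]
        exact hab _ (hanti hkj ha') _ (hanti hkj hb')⟩⟩
      have key : ∀ u ∈ (Subgroup.lowerCentralSeries (⊤ : Subgroup S)) (j - 1), ∀ s : S, π ⁅s, u⁆ ^ p = 1 := by
        intro u hu s
        have hin : ∀ (w : S) (i : ℕ), j - 1 ≤ i → w ∈ (Subgroup.lowerCentralSeries (⊤ : Subgroup S)) i → ∀ y : S, ⁅y, w⁆ ∈ (Subgroup.lowerCentralSeries (⊤ : Subgroup S)) (i + 1) := fun w i _ hw y => by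
          rw [← commutatorElement_inv]
          exact inv_mem (by rw [Subgroup.lowerCentralSeries_succ]; exact Subgroup.commutator_mem_commutator hw (Subgroup.mem_top y))
        have hv : ∀ y : S, ⁅y, u⁆ ∈ (Subgroup.lowerCentralSeries (⊤ : Subgroup S)) j := fun y => by
          have := hin u (j - 1) le_rfl hu y
          rwa [show j - 1 + 1 = j by omega] at this
        have hwi : ∀ i, (fun w => ⁅s, w⁆)^[i] ⁅s, u⁆ ∈ (Subgroup.lowerCentralSeries (⊤ : Subgroup S)) (j + i) := by
          intro i
          induction i with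
          | zero => exact hv s
          | succ i ihi =>
            rw [Function.iterate_succ_apply', show j + (i + 1) = j + i + 1 by omega]
            exact hin _ (j + i) (by omega) ihi s
        let W : ℕ → A := fun i => ⟨π ((fun w => ⁅s, w⁆)^[i] ⁅s, u⁆), _, hanti (Nat.le_add_right j i) (hwi i), rfl⟩
        let P : ℕ → A := fun m => ⟨π ⁅s ^ m, u⁆, _, hv _, rfl⟩
        haveI : ((Subgroup.lowerCentralSeries (⊤ : Subgroup S)) j).Normal := inferInstance
        haveI : A.Normal := Subgroup.Normal.map inferInstance π (QuotientGroup.mk'_surjective L)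
        let φ : A →* A := (MulAut.conjNormal (H := A) (π s)).toMonoidHom
        have hW : ∀ i, W (i + 1) = φ (W i) * (W i)⁻¹ := fun i => Subtype.ext (by
          simp only [W, φ, Function.iterate_succ_apply', map_commutatorElement, Subgroup.coe_mul, Subgroup.coe_inv,
            MulEquiv.coe_toMonoidHom, MulAut.conjNormal_apply]
          rw [commutatorElement_def])
        have hPs : ∀ m, P (m + 1) = φ (P m) * W 0 := fun m => Subtype.ext (by
          simp only [P, W, φ, Function.iterate_zero, id_eq, Subgroup.coe_mul, MulEquiv.coe_toMonoidHom,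
            MulAut.conjNormal_apply]
          rw [← map_inv, ← map_mul, ← map_mul, ← map_mul, pow_succ' s m, commutatorElement_mul_left_eq_conj_mul])
        have h := geom_prod φ W hW P (Subtype.ext (by simp [P])) hPs p
        have hPp : P p = 1 := Subtype.ext ((hπ _).2 (hcomm (k + 1) (j - 1) (2 * k) (by omega) _
          (hpm (k + 1) (by omega) (by omega) (by omega) s) u hu))
        rw [hPp, Finset.prod_eq_single 0] at h
        · rw [Nat.choose_one_right] at h
          exact (congrArg Subtype.val h).symm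
        · intro i hi hi0
          rw [Finset.mem_range] at hi
          by_cases hip : i + 1 = p
          · have : W i = 1 := Subtype.ext ((hπ _).2 (hanti (show 2 * k ≤ j + i by omega) (hwi i)))
            rw [this, one_pow]
          · obtain ⟨c, hc⟩ := (Fact.out : p.Prime).dvd_choose_self (Nat.succ_ne_zero i) (by omega)
            have hwp : W i ^ p = 1 := Subtype.ext (by
              show π _ ^ p = 1
              rw [← map_pow, hπ]
              exact ih _ (hanti (show j + 1 ≤ j + i by omega) (hwi i)))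
            rw [hc, pow_mul, hwp, one_pow]
        · intro h0
          exact absurd (Finset.mem_range.2 (Fact.out : p.Prime).pos) h0
      intro x hx
      have hgen : ∀ z ∈ ⁅(Subgroup.lowerCentralSeries (⊤ : Subgroup S)) (j - 1), (⊤ : Subgroup S)⁆, z ∈ (Subgroup.lowerCentralSeries (⊤ : Subgroup S)) j ∧ π z ^ p = 1 := by
        intro z hz
        rw [Subgroup.commutator_def] at hz
        induction hz using Subgroup.closure_induction with
        | mem z hz =>
          obtain ⟨u, hu, s, -, rfl⟩ := hz
          refine ⟨?_, ?_⟩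
          · have e : (Subgroup.lowerCentralSeries (⊤ : Subgroup S)) j = ⁅(Subgroup.lowerCentralSeries (⊤ : Subgroup S)) (j - 1), (⊤ : Subgroup S)⁆ := by
              rw [← Subgroup.lowerCentralSeries_succ, show j - 1 + 1 = j by omega]
            rw [e]; exact Subgroup.commutator_mem_commutator hu (Subgroup.mem_top s)
          · rw [← commutatorElement_inv, map_inv, inv_pow, key u hu s, inv_one]
        | one => exact ⟨one_mem _, by simp⟩
        | mul a b _ _ iha ihb =>
          refine ⟨mul_mem iha.1 ihb.1, ?_⟩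
          rw [map_mul, Commute.mul_pow, iha.2, ihb.2, mul_one]
          rw [← commutatorElement_eq_one_iff_commute, ← map_commutatorElement, hπ]
          exact hab _ (hanti hkj iha.1) _ (hanti hkj ihb.1)
        | inv a _ iha => exact ⟨inv_mem iha.1, by rw [map_inv, inv_pow, iha.2, inv_one]⟩
      rw [← hπ, map_pow]
      refine (hgen x ?_).2
      rw [← Subgroup.lowerCentralSeries_succ, show j - 1 + 1 = j by omega]
      exact hx
  refine rank_contradiction hsr.1 ((Subgroup.lowerCentralSeries (⊤ : Subgroup S)) (k - 1)) L (hanti (by omega)) ?_ hab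
    (hexp (k + 1) (k - 1) (by omega) le_rfl)
  rw [hL, hcG (k - 1) (by omega) (by omega), hcG (2 * k) (by omega) (by omega), ← pow_add]
  congr 1; omega

end Cfsg.Agent.S3806
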