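import Cfsg.Statements.S3807
import Cfsg.Agent.EqLemmas
import Cfsg.Agent.Lib.PGroup.Basic
import Cfsg.Agent.Lib.PGroup.MaximalClass
import Cfsg.Agent.Lib.PGroupFour.Basic
-- import your own Cfsg.Agent.* helpers here

set_option autoImplicit false
open Cfsg

namespace Cfsg.Agent.S3807

/-- Let S be a non-abelian finite p-group with an abelian subgroup A of index p. Then [S : Z(S)] = p·#[S,S], and either [S,S] has order p, S/Z(S) is elementary abelian of order p², and S has exactly p + 1 abelian subgroups of index p; or [S,S] has order at least p² and A is the only abelian subgroup of index p in S. -/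
theorem result {S : Type*} [Group S] [Finite S] (p : ℕ) [Fact p.Prime] (hS : IsPGroup p S) (hna : ¬ IsMulCommutative S)
    (A : Subgroup S) (hA : IsMulCommutative ↥A) (hAi : A.index = p) :
    (Subgroup.center S).index = p * Nat.card (commutator S) ∧
      ((Nat.card (commutator S) = p ∧ Cfsg.IsElementaryAbelian p (⊤ : Subgroup (S ⧸ Subgroup.center S)) ∧
          Nat.card (S ⧸ Subgroup.center S) = p ^ 2 ∧
          Nat.card {B : Subgroup S // IsMulCommutative ↥B ∧ B.index = p} = p + 1) ∨
        (p ^ 2 ≤ Nat.card (commutator S) ∧ ∀ B : Subgroup S, IsMulCommutative ↥B → B.index = p → B = A)) := by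
  have hp := (Fact.out : p.Prime)
  haveI := hA
  have hcoat : ∀ B : Subgroup S, B.index = p → IsCoatom B := fun B hB => by
    refine ⟨fun h => hp.ne_one (by rw [← hB, h, Subgroup.index_top]), fun K hK => ?_⟩
    have h1 := Subgroup.index_strictAnti hK
    have h2 : K.index ∣ B.index := Subgroup.index_dvd_of_le hK.le
    rw [hB] at h1 h2
    rcases (Nat.dvd_prime hp).mp h2 with h | h
    · exact Subgroup.index_eq_one.mp h
    · omega
  have hnabel : ¬ ∀ a b : S, a * b = b * a := fun h => hna ⟨⟨h⟩⟩
  have hZle : ∀ B : Subgroup S, IsMulCommutative ↥B → B.index = p → Subgroup.center S ≤ B := by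
    intro B hB hBi
    by_contra hle
    obtain ⟨z, hz, hzB⟩ := SetLike.not_le_iff_exists.mp hle
    have htop : B ⊔ Subgroup.zpowers z = ⊤ :=
      (hcoat B hBi).2 _ (lt_of_le_of_ne le_sup_left fun h => hzB (h ▸ Subgroup.mem_sup_right (Subgroup.mem_zpowers z)))
    have hcomm : ∀ a ∈ B, ∀ b ∈ B, a * b = b * a := fun a ha b hb =>
      congrArg Subtype.val (hB.is_comm.comm ⟨a, ha⟩ ⟨b, hb⟩)
    have h := Cfsg.Agent.PGroup.sup_zpowers_comm hcomm (x := z)
      (Subgroup.mem_centralizer_iff.mpr fun b _ => Subgroup.mem_center_iff.mp hz b)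
    exact hnabel fun a b => h a (htop ▸ trivial) b (htop ▸ trivial)
  haveI : A.Normal := Cfsg.Agent.PGroup.isCoatom_normal hS (hcoat A hAi)
  obtain ⟨x, hx⟩ : ∃ x, x ∉ A := by
    by_contra h
    push Not at h
    exact (hcoat A hAi).1 (eq_top_iff.mpr fun y _ => h y)
  have htop : A ⊔ Subgroup.zpowers x = ⊤ :=
    (hcoat A hAi).2 _ (lt_of_le_of_ne le_sup_left fun h => hx (h ▸ Subgroup.mem_sup_right (Subgroup.mem_zpowers x)))
  have hAx : A ⊓ Subgroup.centralizer {x} = Subgroup.center S := by
    refine le_antisymm (fun a ha => Subgroup.mem_center_iff.mpr fun g => ?_) (le_inf (hZle A hA hAi)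
      fun z hz => Subgroup.mem_centralizer_singleton_iff.mpr (Subgroup.mem_center_iff.mp hz x).symm)
    have h1 : A ⊔ Subgroup.zpowers x ≤ Subgroup.centralizer {a} := sup_le
      (fun b hb => Subgroup.mem_centralizer_singleton_iff.mpr
        (congrArg Subtype.val (hA.is_comm.comm ⟨b, hb⟩ ⟨a, ha.1⟩)))
      (Subgroup.zpowers_le.mpr (Subgroup.mem_centralizer_singleton_iff.mpr
        (Subgroup.mem_centralizer_singleton_iff.mp ha.2).symm))
    exact Subgroup.mem_centralizer_singleton_iff.mp (h1 (htop ▸ Subgroup.mem_top g))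
  have hcard := Cfsg.Agent.PGroupFour.card_commutator_mul_card_inf_centralizer A x htop
  rw [hAx] at hcard
  have hindex : (Subgroup.center S).index = p * Nat.card (commutator S) := by
    refine Nat.eq_of_mul_eq_mul_left (n := Nat.card (Subgroup.center S)) Nat.card_pos ?_
    rw [Subgroup.card_mul_index, ← A.card_mul_index, hAi, ← hcard]
    ring
  refine ⟨hindex, ?_⟩
  obtain ⟨d, hd⟩ := IsPGroup.iff_card.mp (hS.to_subgroup (commutator S))
  have hd1 : 1 ≤ d := by
    by_contra h
    have hbot : commutator S = ⊥ := Subgroup.eq_bot_of_card_eq _ (by rw [hd, show d = 0 by omega, pow_zero])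
    rw [commutator_eq_bot_iff] at hbot
    exact hna hbot
  rcases Nat.lt_or_ge d 2 with hlt | hge
  · left
    have hD : Nat.card (commutator S) = p := by rw [hd, show d = 1 by omega, pow_one]
    have hQ : Nat.card (S ⧸ Subgroup.center S) = p ^ 2 := by rw [← Subgroup.index_eq_card, hindex, hD, sq]
    have hQab : ∀ a b : S ⧸ Subgroup.center S, a * b = b * a :=
      (IsPGroup.isMulCommutative_of_card_eq_prime_sq hQ).is_comm.comm
    have hexp : ∀ q : S ⧸ Subgroup.center S, q ^ p = 1 := by
      by_contra hcon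
      push Not at hcon
      obtain ⟨q, hq⟩ := hcon
      obtain ⟨k, hk, hok⟩ := (Nat.dvd_prime_pow hp).mp (hQ ▸ orderOf_dvd_natCard q)
      have hk2 : k = 2 := by
        by_contra hk2
        apply hq
        rw [← orderOf_dvd_iff_pow_eq_one, hok]
        exact (pow_dvd_pow p (show k ≤ 1 by omega)).trans (pow_one p).dvd
      haveI : IsCyclic (S ⧸ Subgroup.center S) := isCyclic_of_orderOf_eq_card q (by rw [hok, hk2, hQ])
      haveI := isMulCommutative_of_isCyclic_quotient_center_self S
      exact hnabel fun a b => (‹IsMulCommutative S›).is_comm.comm a b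
    refine ⟨hD, ⟨⟨⟨fun a b => Subtype.ext (hQab a b)⟩⟩, fun q _ => hexp q⟩, hQ, ?_⟩
    rw [← Cfsg.Agent.PGroup.card_order_p_of_sq hQ hexp]
    set π := QuotientGroup.mk' (Subgroup.center S)
    have hidx : ∀ T : Subgroup (S ⧸ Subgroup.center S), T.index = p ↔ Nat.card T = p := by
      intro T
      have h := T.card_mul_index
      rw [hQ, sq] at h
      constructor
      · intro hT; rw [hT] at h; exact Nat.eq_of_mul_eq_mul_right hp.pos h
      · intro hT; rw [hT] at h; exact Nat.eq_of_mul_eq_mul_left hp.pos h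
    refine Nat.card_congr
      { toFun := fun B => ⟨B.1.map π, (hidx _).mp ?_⟩
        invFun := fun T => ⟨T.1.comap π, ?_, ?_⟩
        left_inv := fun B => Subtype.ext ?_
        right_inv := fun T => Subtype.ext (Subgroup.map_comap_eq_self_of_surjective
          (QuotientGroup.mk'_surjective _) T.1) }
    · rw [Subgroup.index_map, QuotientGroup.ker_mk', sup_eq_left.mpr (hZle _ B.2.1 B.2.2),
        MonoidHom.range_eq_top.mpr (QuotientGroup.mk'_surjective _), Subgroup.index_top, mul_one]
      exact B.2.2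
    · haveI : IsCyclic T.1 := isCyclic_of_prime_card (p := p) T.2
      let f : (T.1.comap π : Subgroup S) →* T.1 := π.subgroupComap T.1
      have hf : f.ker ≤ Subgroup.center _ := fun u hu => Subgroup.mem_center_iff.mpr fun v => Subtype.ext
        (Subgroup.mem_center_iff.mp ((QuotientGroup.eq_one_iff _).mp (congrArg Subtype.val hu)) v)
      exact ⟨⟨fun a b => commutative_of_cyclic_center_quotient f hf a b⟩⟩
    · rw [Subgroup.index_comap_of_surjective _ (QuotientGroup.mk'_surjective _)]
      exact (hidx _).mpr T.2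
    · show (B.1.map π).comap π = B.1
      rw [Subgroup.comap_map_eq, QuotientGroup.ker_mk', sup_eq_left.mpr (hZle _ B.2.1 B.2.2)]
  · right
    refine ⟨hd ▸ Nat.pow_le_pow_right hp.pos hge, fun B hB hBi => ?_⟩
    by_contra hne
    haveI : B.Normal := Cfsg.Agent.PGroup.isCoatom_normal hS (hcoat B hBi)
    have hsup : A ⊔ B = ⊤ := by
      refine (hcoat A hAi).2 _ (lt_of_le_of_ne le_sup_left fun h => hne ?_)
      have hle : B ≤ A := le_sup_right.trans h.ge
      exact ((hcoat B hBi).le_iff.mp hle).resolve_left (hcoat A hAi).1 |>.symm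
    have hZ : A ⊓ B ≤ Subgroup.center S := by
      intro z hz
      refine Subgroup.mem_center_iff.mpr fun g => ?_
      have h1 : A ⊔ B ≤ Subgroup.centralizer {z} := sup_le
        (fun b hb => Subgroup.mem_centralizer_singleton_iff.mpr
          (congrArg Subtype.val (hA.is_comm.comm ⟨b, hb⟩ ⟨z, hz.1⟩)))
        (fun b hb => Subgroup.mem_centralizer_singleton_iff.mpr
          (congrArg Subtype.val (hB.is_comm.comm ⟨b, hb⟩ ⟨z, hz.2⟩)))
      exact Subgroup.mem_centralizer_singleton_iff.mp (h1 (hsup ▸ Subgroup.mem_top g))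
    have h1 : (Subgroup.center S).index ≤ p * p := by
      refine (Nat.le_of_dvd (Nat.pos_of_ne_zero Subgroup.index_ne_zero_of_finite)
        (Subgroup.index_dvd_of_le hZ)).trans ?_
      refine Subgroup.index_inf_le.trans (le_of_eq ?_)
      rw [hAi, hBi]
    rw [hindex, hd] at h1
    have h2 := Nat.le_of_mul_le_mul_left h1 hp.pos
    have h3 : p ^ 2 ≤ p ^ d := Nat.pow_le_pow_right hp.pos hge
    have h4 : p < p ^ 2 := lt_self_pow₀ hp.one_lt (by norm_num)
    omega

end Cfsg.Agent.S3807
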