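import Cfsg.Statements.S3808
import Cfsg.Agent.EqLemmas
import Cfsg.Agent.Lib.Extraspecial.Basic

set_option autoImplicit false
open Cfsg

namespace Cfsg.Agent.S3808

/-- Let S be a finite p-group with an extraspecial subgroup Q of index p. Then either Z(S) = Z(Q), or S = Q·Z(S) and Z(S) has order p². -/
theorem result {S : Type*} [Group S] [Finite S] (p : ℕ) [Fact p.Prime] (hS : IsPGroup p S) (Q : Subgroup S) (hQ : Cfsg.IsExtraspecial p ↥Q) (hQi : Q.index = p) :
    Subgroup.center S = (Subgroup.center ↥Q).map Q.subtype ∨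
      (Q ⊔ Subgroup.center S = ⊤ ∧ Nat.card (Subgroup.center S) = p ^ 2) := by
  haveI : Q.Normal := Cfsg.Agent.PGroup.isCoatom_normal hS ?_
  swap
  · refine ⟨fun h => (Fact.out : p.Prime).ne_one (by rw [← hQi, h, Subgroup.index_top]), fun K hK => ?_⟩
    have h1 := Subgroup.index_strictAnti hK
    have h2 : K.index ∣ Q.index := Subgroup.index_dvd_of_le hK.le
    rw [hQi] at h1 h2
    rcases (Nat.dvd_prime Fact.out).mp h2 with h | h
    · exact Subgroup.index_eq_one.mp h
    · omega
  have hZ : ((Subgroup.center ↥Q).map Q.subtype) = Q ⊓ Subgroup.center S := by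
    have hn : ((Subgroup.center ↥Q).map Q.subtype).Normal := inferInstance
    have hc : ((Subgroup.center ↥Q).map Q.subtype) ≤ Subgroup.center S :=
      Cfsg.Agent.PGroup.le_center_of_card_eq hS
        ((Subgroup.card_map_of_injective Q.subtype_injective).trans hQ.2)
    refine le_antisymm (le_inf (Subgroup.map_subtype_le _) hc) ?_
    rintro x ⟨hxQ, hxZ⟩
    exact ⟨⟨x, hxQ⟩, Subgroup.mem_center_iff.mpr fun y => Subtype.ext (Subgroup.mem_center_iff.mp hxZ y), rfl⟩
  by_cases h : Subgroup.center S ≤ Q
  · exact Or.inl (by rw [hZ, inf_eq_right.mpr h])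
  right
  have htop : Q ⊔ Subgroup.center S = ⊤ := by
    have h2 : (Q ⊔ Subgroup.center S).index ∣ Q.index := Subgroup.index_dvd_of_le le_sup_left
    rw [hQi] at h2
    rcases (Nat.dvd_prime Fact.out).mp h2 with h3 | h3
    · exact Subgroup.index_eq_one.mp h3
    · exfalso
      apply h
      have hlt : Q = Q ⊔ Subgroup.center S := by
        refine Subgroup.eq_of_le_of_card_ge le_sup_left (le_of_eq ?_)
        have e1 := Q.card_mul_index
        have e2 := (Q ⊔ Subgroup.center S).card_mul_index
        rw [hQi] at e1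
        rw [h3] at e2
        exact Nat.eq_of_mul_eq_mul_right (Fact.out : p.Prime).pos (e2.trans e1.symm)
      exact hlt ▸ le_sup_right
  refine ⟨htop, ?_⟩
  have h4 : Q.relIndex (Subgroup.center S) = p := by
    rw [← Subgroup.relIndex_sup_right, sup_comm, htop, Subgroup.relIndex_top_right, hQi]
  have h5 := Subgroup.card_mul_index (Q.subgroupOf (Subgroup.center S))
  have h6 : Nat.card (Q.subgroupOf (Subgroup.center S)) = p := by
    rw [← Subgroup.inf_subgroupOf_right, Nat.card_congr (Subgroup.subgroupOfEquivOfLe inf_le_right).toEquiv,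
      ← hZ, Subgroup.card_map_of_injective Q.subtype_injective, hQ.2]
  rw [h6] at h5
  change p * Q.relIndex (Subgroup.center S) = _ at h5
  rw [← h5, h4, sq]

end Cfsg.Agent.S3808
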