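import Cfsg.Statements.S3809
import Cfsg.Agent.EqLemmas
import Cfsg.Agent.Lib.Extraspecial.Basic

set_option autoImplicit false
open Cfsg

namespace Cfsg.Agent.S3809

/-- Let S be a finite p-group with an extraspecial subgroup of index p. Then S has order p^(2+2n) for some n ≥ 1, derived length at most 3, and exponent dividing p³. -/
theorem result {S : Type*} [Group S] [Finite S] (p : ℕ) [Fact p.Prime] (hS : IsPGroup p S) (Q : Subgroup S) (hQ : Cfsg.IsExtraspecial p ↥Q) (hQi : Q.index = p) :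
    (∃ n : ℕ, 1 ≤ n ∧ Nat.card S = p ^ (2 + 2 * n)) ∧ derivedSeries S 3 = ⊥ ∧ ∀ x : S, x ^ (p ^ 3) = 1 := by
  obtain ⟨n, hn, hcard⟩ := Cfsg.Agent.Extraspecial.exists_card hQ
  haveI : Q.Normal := by
    refine Cfsg.Agent.PGroup.isCoatom_normal hS
      ⟨fun h => (Fact.out : p.Prime).ne_one (by rw [← hQi, h, Subgroup.index_top]), fun K hK => ?_⟩
    have h1 := Subgroup.index_strictAnti hK
    have h2 : K.index ∣ Q.index := Subgroup.index_dvd_of_le hK.le
    rw [hQi] at h1 h2
    rcases (Nat.dvd_prime Fact.out).mp h2 with h | h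
    · exact Subgroup.index_eq_one.mp h
    · omega
  refine ⟨⟨n, hn, ?_⟩, ?_, fun x => ?_⟩
  · rw [← Q.card_mul_index, hcard, hQi, ← pow_succ]
    congr 1; omega
  · have h1 : derivedSeries S 1 ≤ Q := by
      rw [derivedSeries_one]; exact Cfsg.Agent.PGroup.commutator_le_of_index_eq hQi
    have h2 : derivedSeries S 2 ≤ (Subgroup.center ↥Q).map Q.subtype := by
      rw [derivedSeries_succ]
      refine (Subgroup.commutator_mono h1 h1).trans ?_
      rw [← Subgroup.map_subtype_commutator, hQ.1.2.2]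
    rw [derivedSeries_succ, eq_bot_iff]
    refine (Subgroup.commutator_mono h2 h2).trans ?_
    rw [← Subgroup.map_commutator, le_bot_iff, Subgroup.map_eq_bot_iff_of_injective _ Q.subtype_injective,
      Subgroup.commutator_eq_bot_iff_le_centralizer]
    intro a ha
    rw [Subgroup.mem_centralizer_iff]
    exact fun b _ => Subgroup.mem_center_iff.mp ha b
  · have h1 : x ^ p ∈ Q := by
      have : ((x : S ⧸ Q)) ^ p = 1 := by
        rw [← hQi, Subgroup.index_eq_card]; exact pow_card_eq_one'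
      rwa [← QuotientGroup.mk_pow, QuotientGroup.eq_one_iff] at this
    have h2 := Cfsg.Agent.Extraspecial.pow_mem_center hQ ⟨x ^ p, h1⟩
    have h3 : (⟨(⟨x ^ p, h1⟩ : Q) ^ p, h2⟩ : Subgroup.center ↥Q) ^ p = 1 := by
      have := pow_card_eq_one' (x := (⟨_, h2⟩ : Subgroup.center ↥Q))
      rwa [hQ.2] at this
    have h4 : ((x ^ p) ^ p) ^ p = 1 := congrArg (fun z : Subgroup.center ↥Q => ((z : Q) : S)) h3
    rw [show p ^ 3 = p * p * p by ring, pow_mul, pow_mul]
    exact h4

end Cfsg.Agent.S3809
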