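import Cfsg.Statements.S3810
import Cfsg.Agent.EqLemmas
import Cfsg.Agent.Lib.Extraspecial.Basic
import Cfsg.Agent.Lib.PGroup.NormalAbelian
-- import your own Cfsg.Agent.* helpers here

set_option autoImplicit false
open Cfsg

namespace Cfsg.Agent.S3810

/-- Let S be a finite p-group with an extraspecial subgroup of index p. Then S has an abelian subgroup of index p if and only if S has order p⁴. -/
theorem result {S : Type*} [Group S] [Finite S] (p : ℕ) [Fact p.Prime] (hS : IsPGroup p S) (Q : Subgroup S) (hQ : Cfsg.IsExtraspecial p ↥Q) (hQi : Q.index = p) :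
    (∃ A : Subgroup S, IsMulCommutative ↥A ∧ A.index = p) ↔ Nat.card S = p ^ 4 := by
  have hp := (Fact.out : p.Prime)
  obtain ⟨n, hn, hcard⟩ := Cfsg.Agent.Extraspecial.exists_card hQ
  have hS4 : Nat.card S = p ^ (2 * n + 2) := by rw [← Q.card_mul_index, hcard, hQi, ← pow_succ]
  constructor
  · rintro ⟨A, hA, hAi⟩
    have hle : Nat.card (A.subgroupOf Q) * Nat.card (A.subgroupOf Q) ≤ p * Nat.card Q :=
      Cfsg.Agent.Extraspecial.card_abelian_sq_le hQ fun a ha b hb =>
        Subtype.ext (by have := congrArg (fun z : A => (z : S)) (hA.is_comm.comm ⟨_, ha⟩ ⟨_, hb⟩); exact this)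
    have hge : p ^ (2 * n) ≤ Nat.card (A.subgroupOf Q) := by
      have h1 := (A.subgroupOf Q).card_mul_index
      have h2 : (A.subgroupOf Q).index ≤ p := by
        rw [← hAi, ← Subgroup.relIndex_top_right A]; exact Subgroup.relIndex_le_of_le_right le_top (by rw [Subgroup.relIndex_top_right]; exact Subgroup.index_ne_zero_of_finite)
      rw [hcard, pow_succ] at h1
      refine Nat.le_of_mul_le_mul_right (c := p) ?_ hp.pos
      rw [← h1]
      exact Nat.mul_le_mul_left _ h2
    have h3 : p ^ (2 * n + 2 * n) ≤ p ^ (2 * n + 1 + 1) := by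
      rw [pow_add, pow_succ' p (2 * n + 1), ← hcard]
      exact (Nat.mul_le_mul hge hge).trans hle
    have h4 := (Nat.pow_le_pow_iff_right hp.one_lt).mp h3
    rw [hS4]; congr 1; omega
  · intro h4
    by_cases hab : ∀ a b : S, a * b = b * a
    · exact ⟨Q, ⟨⟨fun a b => Subtype.ext (hab a b)⟩⟩, hQi⟩
    obtain ⟨A, ⟨hAn, hAab⟩, hmax⟩ := (Set.toFinite {A : Subgroup S | A.Normal ∧ ∀ a ∈ A, ∀ b ∈ A, a * b = b * a}).exists_maximal
      ⟨⊥, inferInstance, fun a ha b hb => by rw [Subgroup.mem_bot] at ha hb; rw [ha, hb]⟩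
    haveI := hAn
    have hC := Cfsg.Agent.PGroup.centralizer_eq_of_maximal_normal_abelian hS hAab
      fun B hB hBab hle => le_antisymm (hmax ⟨hB, hBab⟩ hle) hle
    obtain ⟨a, ha⟩ := IsPGroup.iff_card.mp (hS.to_subgroup A)
    have hi := Cfsg.Agent.PGroup.index_centralizer_le hS a A hAn ha
    rw [hC] at hi
    obtain ⟨i, hi'⟩ := hS.index A
    have hmul := A.card_mul_index
    rw [ha, hi', h4, ← pow_add] at hmul
    have hsum : a + i = 4 := Nat.pow_right_injective hp.two_le hmul
    rw [hi'] at hi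
    have hle : i ≤ a * (a - 1) / 2 := (Nat.pow_le_pow_iff_right hp.one_lt).mp hi
    refine ⟨A, ⟨⟨fun u v => Subtype.ext (hAab _ u.2 _ v.2)⟩⟩, ?_⟩
    have hi1 : i ≠ 0 := by
      rintro rfl
      have : A = ⊤ := Subgroup.index_eq_one.mp (by rw [hi', pow_zero])
      exact hab fun x y => hAab x (this ▸ trivial) y (this ▸ trivial)
    have ha3 : i = 1 := by
      have : a ≤ 3 := by omega
      interval_cases a <;> omega
    rw [hi', ha3, pow_one]

end Cfsg.Agent.S3810
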