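import Cfsg.Statements.S3811
import Cfsg.Agent.Lib.Soft.Basic

set_option autoImplicit false
open Cfsg

namespace Cfsg.Agent.S3811

/-- Let P be a finite p-group and E an abelian subgroup of P that contains its centralizer, has index p in its normalizer, and has index at least p² in P. Then the subgroups of P containing E are totally ordered by inclusion, each proper one has index p in its normalizer (so they form the normalizer tower of E, with all steps of index p), and the i-th member of the tower above E has nilpotency class i + 1 whenever it is a proper subgroup of P. -/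
theorem result {P : Type*} [Group P] [Finite P] (p : ℕ) [Fact p.Prime] (hP : IsPGroup p P)
    (E : Subgroup P) (hEab : IsMulCommutative ↥E) (hC : Subgroup.centralizer (E : Set P) ≤ E)
    (hN : (E.subgroupOf (Subgroup.normalizer (E : Set P))).index = p) (hidx : p ^ 2 ≤ E.index) :
    (∀ K L : Subgroup P, E ≤ K → E ≤ L → K ≤ L ∨ L ≤ K) ∧
      (∀ K : Subgroup P, E ≤ K → K ≠ ⊤ → (K.subgroupOf (Subgroup.normalizer (K : Set P))).index = p) ∧
      ∀ (i : ℕ) (K : Subgroup P) [Group.IsNilpotent ↥K], E ≤ K → K ≠ ⊤ → K.index * p ^ i = E.index →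
        Group.nilpotencyClass ↥K = i + 1 := by
  classical
  have hp : p.Prime := Fact.out
  have hcardN : Nat.card (Subgroup.normalizer (E : Set P)) = p * Nat.card E := by
    have h := (E.subgroupOf (Subgroup.normalizer (E : Set P))).card_mul_index
    rw [hN, Nat.card_congr (Subgroup.subgroupOfEquivOfLe Subgroup.le_normalizer).toEquiv] at h
    rw [← h, mul_comm]
  have hsoft : Cfsg.Agent.Soft.IsSoft p E :=
    ⟨fun a ha b hb => congrArg Subtype.val (hEab.is_comm.comm ⟨a, ha⟩ ⟨b, hb⟩), hC, hcardN⟩
  obtain ⟨hchain, hstep, hclass⟩ := Cfsg.Agent.Soft.good _ P hP rfl E hsoft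
  have hEne : E ≠ ⊥ := by
    intro h
    subst h
    have h1 : Subgroup.centralizer ((⊥ : Subgroup P) : Set P) = ⊤ :=
      (Subgroup.eq_top_iff' _).mpr fun g => Subgroup.mem_centralizer_iff.mpr fun e he => by
        rw [Subgroup.mem_bot.mp he, one_mul, mul_one]
    rw [h1] at hC
    have hn : Subgroup.normalizer ((⊥ : Subgroup P) : Set P) = ⊥ := eq_bot_iff.mpr (le_top.trans hC)
    rw [hn, Subgroup.card_bot, mul_one] at hcardN
    exact hp.one_lt.ne hcardN
  refine ⟨hchain, fun K hK hK' => ?_, ?_⟩
  · have h := (K.subgroupOf (Subgroup.normalizer (K : Set P))).card_mul_index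
    rw [Nat.card_congr (Subgroup.subgroupOfEquivOfLe Subgroup.le_normalizer).toEquiv, hstep K hK hK',
      mul_comm p] at h
    exact Nat.eq_of_mul_eq_mul_left Nat.card_pos h
  · intro i K _ hEK hK' hidx'
    have hcard : Nat.card K = p ^ i * Nat.card E := by
      have h1 := K.card_mul_index
      rw [← E.card_mul_index, ← hidx'] at h1
      have h2 : 0 < K.index := Nat.pos_of_ne_zero Subgroup.index_ne_zero_of_finite
      refine Nat.eq_of_mul_eq_mul_right h2 ?_
      rw [h1]; ring
    exact le_antisymm (hclass i K hEK hK' hcard)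
      (Cfsg.Agent.Soft.le_class hP hC hchain hstep hEK hcard hEne)


end Cfsg.Agent.S3811
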