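import Cfsg.Statements.S3815
import Cfsg.Agent.EqLemmas

set_option autoImplicit false
open Cfsg

namespace Cfsg.Agent.S3815

/-- Let G be a finite group, p a prime and d ∈ G an element of order prime to p. If dg has order prime to p for every element g ∈ G of order prime to p, then d ∈ O_{p'}(G). -/
theorem result {G : Type*} [Group G] [Finite G] {p : ℕ} [Fact p.Prime]
    (d : G) (hd : (orderOf d).Coprime p)
    (h : ∀ g : G, (orderOf g).Coprime p → (orderOf (d * g)).Coprime p) :
    d ∈ Cfsg.pPrimeCore p G := by
  classical
  let D : Subgroup G :=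
    { carrier := {d | ∀ g : G, (orderOf g).Coprime p → (orderOf (d * g)).Coprime p}
      one_mem' := fun g hg => by simpa using hg
      mul_mem' := fun {a b} ha hb g hg => by
        rw [mul_assoc]; exact ha _ (hb _ hg)
      inv_mem' := fun {a} ha g hg => by
        have key : ∀ k : ℕ, (orderOf (a ^ k * g)).Coprime p := by
          intro k
          induction k with
          | zero => simpa using hg
          | succ k ih => rw [pow_succ', mul_assoc]; exact ha _ ih
        obtain ⟨k, hk⟩ := (mem_powers_iff_mem_zpowers (x := a) (y := a⁻¹)).mpr ⟨-1, by simp⟩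
        simp only at hk
        rw [← hk]; exact key k }
  have hn : D.Normal := by
    constructor
    intro a ha c g hg
    have h1 : c * a * c⁻¹ * g = c * (a * (c⁻¹ * g * c)) * c⁻¹ := by group
    have hord : ∀ (u y : G), orderOf (u * y * u⁻¹) = orderOf y := fun u y => by
      rw [← MulAut.conj_apply]; exact (MulAut.conj u).orderOf_eq y
    rw [h1, hord]
    apply ha
    have := hord c⁻¹ g
    rw [inv_inv] at this
    rwa [this]
  have hc : (Nat.card D).Coprime p := by
    rw [Nat.coprime_comm, (Fact.out : p.Prime).coprime_iff_not_dvd]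
    intro hdvd
    obtain ⟨y, hy⟩ := exists_prime_orderOf_dvd_card' (G := D) p hdvd
    have h2 := y.2 1 (by simp)
    rw [mul_one, Subgroup.orderOf_coe, hy, Nat.coprime_self] at h2
    exact (Fact.out : p.Prime).ne_one h2
  exact le_sSup (show D ∈ {N : Subgroup G | N.Normal ∧ (Nat.card N).Coprime p} from ⟨hn, hc⟩) h

end Cfsg.Agent.S3815
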