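import Cfsg.Statements.S3816
import Cfsg.Agent.EqLemmas
import Cfsg.Agent.Lib.FlavellGen.Main

set_option autoImplicit false
open Cfsg

namespace Cfsg.Agent.S3816

/-- Let p be an odd prime, H a finite solvable group of order prime to p, and x an automorphism of H of order p (so P = ⟨x⟩ has prime order p > 2 and acts coprimely on H). For h ∈ H let [h, P] be the subgroup generated by the commutators h⁻¹·xⁱ(h), and let [H, P] be the subgroup generated by all of these. Then the fixed points of x in [H, P] are generated by the fixed points of x in the subgroups [h, P], h ∈ H. -/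
theorem result {H : Type*} [Group H] [Finite H]
    [Group.IsSolvable H] {p : ℕ} [Fact p.Prime] (hp : p ≠ 2) (hcop : (Nat.card H).Coprime p)
    (x : MulAut H) (hx : orderOf x = p) :
    Subgroup.closure {c : H | ∃ h : H, ∃ i : ℕ, c = h⁻¹ * (x ^ i) h} ⊓ (x : H →* H).eqLocus (MonoidHom.id H) =
      ⨆ h : H, Subgroup.closure {c : H | ∃ i : ℕ, c = h⁻¹ * (x ^ i) h} ⊓ (x : H →* H).eqLocus (MonoidHom.id H) := by
  have hp' := (Fact.out : p.Prime)
  set X := Subgroup.zpowers x
  let φ : X →* MulAut H := X.subtype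
  let inl : H →* SemidirectProduct H X φ := SemidirectProduct.inl
  let a : SemidirectProduct H X φ := SemidirectProduct.inr ⟨x, Subgroup.mem_zpowers x⟩
  haveI : Finite (SemidirectProduct H X φ) := Finite.of_equiv _ SemidirectProduct.equivProd.symm
  set K : Subgroup (SemidirectProduct H X φ) := inl.range with hK
  haveI hKn : K.Normal := by
    rw [hK]
    show (SemidirectProduct.inl : H →* SemidirectProduct H X φ).range.Normal
    rw [SemidirectProduct.range_inl_eq_ker_rightHom]; infer_instance
  have hord : orderOf a = p := by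
    rw [orderOf_injective _ SemidirectProduct.inr_injective, ← Subgroup.orderOf_coe]
    exact hx
  have hcardK : Nat.card K = Nat.card H :=
    (Nat.card_congr (MonoidHom.ofInjective (f := inl) SemidirectProduct.inl_injective).toEquiv).symm
  have hnd : ¬ p ∣ Nat.card K := by
    rw [hcardK]; exact hp'.coprime_iff_not_dvd.mp hcop.symm
  have hconj : ∀ (i : ℕ) (h : H), a ^ i * inl h * (a ^ i)⁻¹ = inl ((x ^ i) h) := by
    intro i h
    show SemidirectProduct.inr _ ^ i * _ * _ = _
    rw [← map_pow, ← map_inv]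
    exact (SemidirectProduct.inl_aut (φ := φ) _ h).symm
  have hgen : ∀ (i : ℕ) (h : H), inl (h⁻¹ * (x ^ i) h) = (inl h)⁻¹ * a ^ i * inl h * (a ^ i)⁻¹ := by
    intro i h
    rw [map_mul, map_inv, ← hconj]
    group
  have hcc : ∀ h : H, FlavellGen.cc a (inl h) =
      (Subgroup.closure {c : H | ∃ i : ℕ, c = h⁻¹ * (x ^ i) h}).map inl := by
    intro h
    rw [MonoidHom.map_closure, FlavellGen.cc]
    congr 1
    ext y
    constructor
    · rintro ⟨i, rfl⟩
      exact ⟨_, ⟨i, rfl⟩, hgen i h⟩
    · rintro ⟨_, ⟨i, rfl⟩, rfl⟩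
      exact ⟨i, (hgen i h).symm⟩
  have hfix : ∀ y : H, Commute a (inl y) ↔ x y = y := by
    intro y
    have h1 := hconj 1 y
    rw [pow_one, pow_one] at h1
    constructor
    · intro h
      rw [h.eq, mul_inv_cancel_right] at h1
      exact (SemidirectProduct.inl_injective h1).symm
    · intro h
      rw [h, mul_inv_eq_iff_eq_mul] at h1
      exact h1
  refine le_antisymm ?_ (iSup_le fun h => inf_le_inf_right _ (Subgroup.closure_mono ?_))
  · rintro y ⟨hy, hyx⟩
    have hy1 : inl y ∈ ⁅K, Subgroup.zpowers a⁆ := by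
      have hle : Subgroup.closure {c : H | ∃ h : H, ∃ i : ℕ, c = h⁻¹ * (x ^ i) h} ≤
          (⁅K, Subgroup.zpowers a⁆).comap inl := by
        rw [Subgroup.closure_le]
        rintro _ ⟨h, i, rfl⟩
        show inl (h⁻¹ * (x ^ i) h) ∈ ⁅K, Subgroup.zpowers a⁆
        rw [hgen]
        exact FlavellGen.cc_le_commutator (K := K) ⟨h, rfl⟩ (FlavellGen.gen_mem_cc a (inl h) i)
      exact hle hy
    have hy2 : inl y ∈ FlavellGen.dd a K :=
      FlavellGen.fix_le_dd hp' hp (Nat.card K) (SemidirectProduct H X φ) a K rfl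
        (by rw [Subgroup.normalizer_eq_top]; trivial) hord hnd
        (Group.isSolvable_of_surjective (MonoidHom.rangeRestrict_surjective inl))
        ⟨FlavellGen.mem_centralizer_of_commute ((hfix y).mpr hyx), hy1⟩
    have hle : FlavellGen.dd a K ≤ (⨆ h : H, Subgroup.closure {c : H | ∃ i : ℕ, c = h⁻¹ * (x ^ i) h} ⊓
        (x : H →* H).eqLocus (MonoidHom.id H)).map inl := by
      refine iSup₂_le ?_
      rintro _ ⟨h, rfl⟩ z ⟨hz, hzc⟩
      rw [hcc] at hz
      obtain ⟨w, hw, rfl⟩ := hz
      exact ⟨w, Subgroup.mem_iSup_of_mem h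
        ⟨hw, (hfix w).mp (FlavellGen.commute_of_mem_centralizer hzc)⟩, rfl⟩
    obtain ⟨w, hw, hwy⟩ := hle hy2
    rwa [← SemidirectProduct.inl_injective hwy]
  · rintro c ⟨i, hi⟩
    exact ⟨h, i, hi⟩

end Cfsg.Agent.S3816
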