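import Cfsg.Statements.S3818
import Cfsg.Agent.Lib.FixedHalf.Main

set_option autoImplicit false
open Cfsg

namespace Cfsg.Agent.S3818

/-- Let G be a finite solvable group and P a subgroup of G of prime order p > 3 whose conjugates generate G. Let V be a faithful irreducible representation of G over a field of positive characteristic, finite-dimensional. Then the subspace of V fixed by P has dimension less than half the dimension of V. -/
theorem result {G : Type*} [Group G] [Finite G] [Group.IsSolvable G]
    {p : ℕ} [Fact p.Prime] (hp : 3 < p) (P : Subgroup G) (hP : Nat.card P = p) (hgen : Subgroup.normalClosure (P : Set G) = ⊤)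
    {k : Type*} [Field k] (ℓ : ℕ) [Fact ℓ.Prime] [CharP k ℓ]
    {V : Type*} [AddCommGroup V] [Module k V] [FiniteDimensional k V]
    (ρ : Representation k G V) [ρ.IsIrreducible] (hfaith : Function.Injective ρ) :
    2 * Module.finrank k ↥(⨅ g : ↥P, LinearMap.ker (ρ (g : G) - LinearMap.id)) < Module.finrank k V := by
  obtain ⟨x, hxP⟩ : ∃ x : P, x ≠ 1 :=
    haveI : Nontrivial P := Finite.one_lt_card_iff_nontrivial.mp (hP ▸ (Fact.out : p.Prime).one_lt)
    exists_ne 1
  have hx : orderOf (x : G) = p := by
    rw [Subgroup.orderOf_coe]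
    exact orderOf_eq_prime (hP ▸ pow_card_eq_one') hxP
  have hzp : Subgroup.zpowers (x : G) = P := Subgroup.eq_of_le_of_card_ge
    (Subgroup.zpowers_le.mpr x.2) (by rw [Nat.card_zpowers, hx, hP])
  have hgen' : Subgroup.normalClosure ({(x : G)} : Set G) = ⊤ := by
    rw [eq_top_iff, ← hgen]
    refine Subgroup.normalClosure_le_normal ?_
    exact SetLike.coe_subset_coe.mpr (hzp.ge.trans (Subgroup.zpowers_le.mpr
      (Subgroup.subset_normalClosure rfl)))
  have h5 : 5 ≤ p := by
    have hp' : p.Prime := Fact.out
    by_contra h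
    have : p = 4 := by omega
    rw [this] at hp'
    exact absurd hp' (by decide)
  have hsimple : IsSimpleOrder (Subrepresentation ρ) := inferInstance
  have hirr : Cfsg.Agent.HallHigman.IsIrred ρ ⊤ := fun U hU => by
    let S : Subrepresentation ρ := ⟨U, fun g v hv => hU g (Subgroup.mem_top g) v hv⟩
    rcases IsSimpleOrder.eq_bot_or_eq_top S with h | h
    · exact Or.inl (congrArg Subrepresentation.toSubmodule h)
    · exact Or.inr (congrArg Subrepresentation.toSubmodule h)
  have hpos : 0 < Module.finrank k V := by
    rw [Module.finrank_pos_iff]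
    by_contra hs
    rw [not_nontrivial_iff_subsingleton] at hs
    haveI := hs
    obtain ⟨a, b, hab⟩ := exists_pair_ne (Subrepresentation ρ)
    exact hab (Subrepresentation.toSubmodule_injective (Subsingleton.elim _ _))
  have key := Cfsg.Agent.FixedHalf.two_mul_finrank_fixSub_lt_of_solvable ℓ ρ hirr hfaith
    (Fact.out : p.Prime) h5 hx hgen' hpos
  refine lt_of_le_of_lt (Nat.mul_le_mul_left 2 (Submodule.finrank_mono ?_)) key
  intro v hv
  have h := (Submodule.mem_iInf _).mp hv x
  rw [LinearMap.mem_ker, LinearMap.sub_apply, LinearMap.id_apply, sub_eq_zero] at h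
  exact Cfsg.Agent.FixedHalf.mem_fixSub.mpr h

end Cfsg.Agent.S3818
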