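import Cfsg.Statements.S3819
import Cfsg.Agent.EqLemmas
import Cfsg.Agent.Lib.Coprime.Invariant
import Cfsg.Agent.Lib.Cores.Subnormal
import Cfsg.Agent.Lib.ClassIndex.PxQ
import Cfsg.Agent.Lib.Solvable.Fitting

set_option autoImplicit false
open Cfsg

namespace Cfsg.Agent.S3819

open scoped commutatorElement

/-- The core control lemma when `K` has no `q'`-core. -/
theorem core_control {G : Type*} [Group G] [Finite G] {q : ℕ} [Fact q.Prime] (K A : Subgroup G)
    [K.Normal] (hKA : K ⊔ A = ⊤) (hcop : (Nat.card A).Coprime (Nat.card K))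
    (hA : Group.IsSolvable A) (hsol : Group.IsSolvable ↥⁅K, A⁆)
    (hcore : ∀ L : Subgroup G, L ≤ K → K ≤ Subgroup.normalizer (L : Set G) →
      (Nat.card L).Coprime q → L = ⊥)
    {z : G} (hzK : z ∈ K) (hz : ∃ k : ℕ, orderOf z = q ^ k)
    {X : Subgroup G} (hX : X ≤ K ⊓ Subgroup.centralizer ({z} : Set G))
    (hXn : K ⊓ Subgroup.centralizer ({z} : Set G) ≤ Subgroup.normalizer (X : Set G))
    (hXA : A ≤ Subgroup.normalizer (X : Set G)) (hXq : (Nat.card X).Coprime q)
    {Y : Subgroup G} (hY : Y ≤ K ⊓ Subgroup.centralizer (A : Set G))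
    (hYn : K ⊓ Subgroup.centralizer (A : Set G) ≤ Subgroup.normalizer (Y : Set G))
    (hYq : (Nat.card Y).Coprime q) :
    ⁅X, A⁆ = ⊥ ∧ X ⊓ Y = ⊥ := by
  have hq := (Fact.out : q.Prime)
  have hAK : A ≤ Subgroup.normalizer (K : Set G) := by simp [Subgroup.normalizer_eq_top]
  set M : Subgroup G := ⁅K, A⁆ with hM
  have hMn : M.Normal := Subgroup.normalizer_eq_top_iff.mp (top_le_iff.mp (hKA ▸
    sup_le (Cores.commutator_normalizer_left K A) (Cores.commutator_normalizer_right K A)))
  have hMK : M ≤ K := Subgroup.commutator_le_left K A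
  have hKM : K ≤ Subgroup.normalizer (M : Set G) := by simp [Subgroup.normalizer_eq_top]
  set Q : Subgroup G := (Cfsg.pCore q M).map M.subtype with hQdef
  have hQn : Q.Normal := Cores.map_subtype_normal_of_characteristic M _
  have hQM : Q ≤ M := Subgroup.map_subtype_le _
  have hQp : IsPGroup q Q := (Cores.isPGroup_pCore q M).map _
  have hqcore : Cfsg.pPrimeCore q M = ⊥ := by
    haveI : ((Cfsg.pPrimeCore q M).map M.subtype).Normal :=
      Cores.map_subtype_normal_of_characteristic M _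
    have := hcore ((Cfsg.pPrimeCore q M).map M.subtype) ((Subgroup.map_subtype_le _).trans hMK)
      (by rw [Subgroup.normalizer_eq_top]; exact le_top)
      (by rw [Cores.card_map_subtype]; exact Cores.coprime_card_pPrimeCore q)
    exact (Subgroup.map_eq_bot_iff_of_injective _ M.subtype_injective).mp this
  have hCQ : ∀ m ∈ M, (∀ c ∈ Q, Commute c m) → m ∈ Q := by
    intro m hm hc
    haveI := hsol
    have := Solvable.centralizer_pCore_le_of_isSolvable (G := M) hqcore
    have hmem : (⟨m, hm⟩ : M) ∈ Cfsg.pCore q M := this (Subgroup.mem_centralizer_iff.mpr fun c hc' =>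
      Subtype.ext (hc c ⟨c, hc', rfl⟩).eq)
    exact ⟨⟨m, hm⟩, hmem, rfl⟩
  obtain ⟨n, hn⟩ := IsPGroup.iff_card.mp hQp
  have hXQ : ∀ y ∈ X, ∀ c ∈ Q, Commute c y := by
    intro y hy
    have hyK := (hX hy).1
    have hyz : Commute y z := Subgroup.mem_centralizer_singleton_iff.mp (hX hy).2
    refine ClassIndex.commute_of_pxq hQp hz (by simp [Subgroup.normalizer_eq_top]) (fun hdvd => ?_)
      (by simp [Subgroup.normalizer_eq_top]) hyz.symm fun c hc hcz => ?_
    · have h1 : q ∣ Nat.card X := hdvd.trans (by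
        have := orderOf_dvd_natCard (⟨y, hy⟩ : X)
        rwa [← Subgroup.orderOf_coe] at this)
      exact (hq.coprime_iff_not_dvd.mp hXq.symm) h1
    · have hcC : c ∈ K ⊓ Subgroup.centralizer ({z} : Set G) :=
        ⟨(hQM.trans hMK) hc, Subgroup.mem_centralizer_singleton_iff.mpr hcz⟩
      have h1 : c * y * c⁻¹ * y⁻¹ ∈ X :=
        X.mul_mem ((Subgroup.mem_normalizer_iff.mp (hXn hcC) y).mp hy) (X.inv_mem hy)
      have h2 : c * y * c⁻¹ * y⁻¹ ∈ Q := by
        rw [show c * y * c⁻¹ * y⁻¹ = c * (y * c⁻¹ * y⁻¹) by group]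
        exact Q.mul_mem hc (hQn.conj_mem _ (Q.inv_mem hc) y)
      have := Coprime.eq_one_of_mem_of_mem (A := X) (K := Q) (by rw [hn]; exact hXq.pow_right n) h1 h2
      exact commutatorElement_eq_one_iff_commute.mp this
  have hXM : X ⊓ M = ⊥ := by
    rw [eq_bot_iff]
    rintro y ⟨hy, hyM⟩
    exact Subgroup.mem_bot.mpr (Coprime.eq_one_of_mem_of_mem (A := X) (K := Q)
      (by rw [hn]; exact hXq.pow_right n) hy (hCQ y hyM (hXQ y hy)))
  refine ⟨?_, ?_⟩
  · rw [eq_bot_iff, ← hXM]
    refine le_inf ?_ (Subgroup.commutator_mono (fun y hy => (hX hy).1) le_rfl)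
    rw [Subgroup.commutator_le]
    intro y hy a ha
    rw [commutatorElement_def, show y * a * y⁻¹ * a⁻¹ = y * (a * y⁻¹ * a⁻¹) by group]
    exact X.mul_mem hy ((Subgroup.mem_normalizer_iff.mp (hXA ha) _).mp (X.inv_mem hy))
  · -- elements of `X ⊓ Y` centralise `M`
    have hXYM : ∀ y ∈ X ⊓ Y, ∀ m ∈ M, Commute m y := by
      rintro y ⟨hyX, -⟩ m hm
      set f := m⁻¹ * (y * m * y⁻¹) with hf
      have hfM : f ∈ M := M.mul_mem (M.inv_mem hm) (hMn.conj_mem m hm y)
      have hfQ : f ∈ Q := by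
        refine hCQ f hfM fun c hc => ?_
        have h1 : Commute (m * c * m⁻¹) y := hXQ y hyX _ (hQn.conj_mem c hc m)
        have h1' : Commute c (m⁻¹ * y * m) := by
          show c * (m⁻¹ * y * m) = m⁻¹ * y * m * c
          calc c * (m⁻¹ * y * m) = m⁻¹ * ((m * c * m⁻¹) * y) * m := by group
            _ = m⁻¹ * (y * (m * c * m⁻¹)) * m := by rw [h1.eq]
            _ = m⁻¹ * y * m * c := by group
        have h2 : Commute c y⁻¹ := (hXQ y hyX c hc).inv_right
        rw [hf, show m⁻¹ * (y * m * y⁻¹) = m⁻¹ * y * m * y⁻¹ by group]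
        exact h1'.mul_right h2
      have hfy : Commute f y := hXQ y hyX f hfQ
      have hpow : ∀ j : ℕ, y ^ j * m * (y ^ j)⁻¹ = m * f ^ j := by
        intro j
        induction j with
        | zero => simp
        | succ j ih =>
          calc y ^ (j + 1) * m * (y ^ (j + 1))⁻¹ = y * (y ^ j * m * (y ^ j)⁻¹) * y⁻¹ := by
                rw [pow_succ']; group
            _ = (y * m * y⁻¹) * (y * f ^ j * y⁻¹) := by rw [ih]; group
            _ = (m * f) * f ^ j := by
                rw [(hfy.pow_left j).symm.eq]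
                rw [hf]; group
            _ = m * f ^ (j + 1) := by rw [pow_succ', mul_assoc]
      have h0 := hpow (orderOf y)
      rw [pow_orderOf_eq_one, inv_one, mul_one, one_mul, left_eq_mul] at h0
      have hd1 : orderOf f ∣ orderOf y := orderOf_dvd_of_pow_eq_one h0
      have hd2 : orderOf f ∣ q ^ n := by
        rw [← hn]
        have := orderOf_dvd_natCard (⟨f, hfQ⟩ : Q)
        rwa [← Subgroup.orderOf_coe] at this
      have hd3 : orderOf y ∣ Nat.card X := by
        have := orderOf_dvd_natCard (⟨y, hyX⟩ : X)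
        rwa [← Subgroup.orderOf_coe] at this
      have hf1 : f = 1 := orderOf_eq_one_iff.mp
        (Nat.dvd_one.mp ((hXq.pow_right n) ▸ Nat.dvd_gcd (hd1.trans hd3) hd2))
      rw [hf, inv_mul_eq_one, eq_mul_inv_iff_mul_eq] at hf1
      exact hf1
    have hW : X ⊓ Y ≤ Y ⊓ Subgroup.centralizer (M : Set G) := fun y hy =>
      ⟨hy.2, Subgroup.mem_centralizer_iff.mpr fun m hm => (hXYM y hy m hm).eq⟩
    refine le_bot_iff.mp (hW.trans (le_of_eq (hcore _ (inf_le_left.trans (hY.trans inf_le_left)) ?_ ?_)))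
    · have hdec := Coprime.commutator_sup_centralizer hAK hcop (Or.inl hA)
      conv_lhs => rw [← hdec]
      refine sup_le (fun m hm => ?_) (fun c hc => ?_)
      · refine Coprime.mem_normalizer_of_forall fun w hw => ?_
        have : m * w = w * m := Subgroup.mem_centralizer_iff.mp hw.2 m hm
        rwa [this, mul_inv_cancel_right]
      · refine Coprime.mem_normalizer_of_forall fun w hw =>
          ⟨(Subgroup.mem_normalizer_iff.mp (hYn hc) w).mp hw.1, ?_⟩
        refine Subgroup.mem_centralizer_iff.mpr fun m hm => ?_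
        have h1 := Subgroup.mem_centralizer_iff.mp hw.2 (c⁻¹ * m * c) (by simpa using hMn.conj_mem m hm c⁻¹)
        calc m * (c * w * c⁻¹) = c * ((c⁻¹ * m * c) * w) * c⁻¹ := by group
          _ = c * (w * (c⁻¹ * m * c)) * c⁻¹ := by rw [h1]
          _ = c * w * c⁻¹ * m := by group
    · exact hYq.coprime_dvd_left (Subgroup.card_dvd_of_le inf_le_left)

/-- Lifting a centraliser through a coprime normal subgroup. -/
theorem exists_mul_commute {G : Type*} [Group G] [Finite G] {N : Subgroup G} [N.Normal] {z k : G}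
    (hcop : (orderOf z).Coprime (Nat.card N)) (hk : k * z * k⁻¹ * z⁻¹ ∈ N) :
    ∃ n ∈ N, Commute (n * k) z := by
  have hnz : Subgroup.zpowers z ≤ Subgroup.normalizer (N : Set G) := by simp [Subgroup.normalizer_eq_top]
  have hc : (Nat.card (Subgroup.zpowers z)).Coprime (Nat.card N) := by rwa [Nat.card_zpowers]
  have hmem : k * z * k⁻¹ ∈ N ⊔ Subgroup.zpowers z := by
    have := Subgroup.mul_mem_sup hk (Subgroup.mem_zpowers z)
    simpa using this
  have hL : Subgroup.zpowers (k * z * k⁻¹) ≤ N ⊔ Subgroup.zpowers z := Subgroup.zpowers_le.mpr hmem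
  obtain ⟨m, hm, hmk⟩ := Coprime.exists_conj_eq_of_le_sup hnz hc
    (Or.inl (Group.isSolvable_of_comm fun a b => mul_comm' a b))
    hL (by rw [Nat.card_zpowers, Nat.card_zpowers]
           exact (SemiconjBy.orderOf_eq k (x := z) (y := k * z * k⁻¹) (by simp [SemiconjBy, mul_assoc])).symm)
  refine ⟨m⁻¹, N.inv_mem hm, ?_⟩
  have h1 : m⁻¹ * (k * z * k⁻¹) * m ∈ Subgroup.zpowers z :=
    Coprime.mem_conj.mp (hmk ▸ Subgroup.mem_zpowers _)
  have h2 : m⁻¹ * (k * z * k⁻¹) * m * z⁻¹ ∈ N := by
    rw [show m⁻¹ * (k * z * k⁻¹) * m * z⁻¹ = m⁻¹ * (k * z * k⁻¹ * z⁻¹) * (z * m * z⁻¹) by group]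
    exact N.mul_mem (N.mul_mem (N.inv_mem hm) hk) ((inferInstance : N.Normal).conj_mem m hm z)
  have h3 := Coprime.eq_one_of_mem_of_mem hc
    ((Subgroup.zpowers z).mul_mem h1 (inv_mem (Subgroup.mem_zpowers z))) h2
  rw [mul_inv_eq_one] at h3
  show m⁻¹ * k * z = z * (m⁻¹ * k)
  calc m⁻¹ * k * z = (m⁻¹ * (k * z * k⁻¹) * m) * (m⁻¹ * k) := by group
    _ = z * (m⁻¹ * k) := by rw [h3]

/-- Let G be a finite group with Sylow p-subgroup P and H = O_{p'}(G), and suppose G = PH and the commutator subgroup [H, P] is solvable. Let q be a prime and z an element of q-power order of C_H(P). Then (O_{q'}(C_H(z)) ∩ O_{q'}(C_H(P))) · [O_{q'}(C_H(z)), P] ≤ O_{q'}(H). -/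
theorem result {G : Type*} [Group G] [Finite G] {p : ℕ} [Fact p.Prime]
    (P : Sylow p G) (hPH : Cfsg.pPrimeCore p G ⊔ (P : Subgroup G) = ⊤)
    (hsol : Group.IsSolvable ↥⁅Cfsg.pPrimeCore p G, (P : Subgroup G)⁆)
    {q : ℕ} [Fact q.Prime] (z : G) (hzH : z ∈ Cfsg.pPrimeCore p G) (hzP : z ∈ Subgroup.centralizer ((P : Subgroup G) : Set G))
    (hz : ∃ k : ℕ, orderOf z = q ^ k) :
    ((Cfsg.pPrimeCore q ↥(Cfsg.pPrimeCore p G ⊓ Subgroup.centralizer ({z} : Set G))).map
        (Cfsg.pPrimeCore p G ⊓ Subgroup.centralizer ({z} : Set G)).subtype ⊓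
      (Cfsg.pPrimeCore q ↥(Cfsg.pPrimeCore p G ⊓ Subgroup.centralizer ((P : Subgroup G) : Set G))).map
        (Cfsg.pPrimeCore p G ⊓ Subgroup.centralizer ((P : Subgroup G) : Set G)).subtype) ⊔
    ⁅(Cfsg.pPrimeCore q ↥(Cfsg.pPrimeCore p G ⊓ Subgroup.centralizer ({z} : Set G))).map
        (Cfsg.pPrimeCore p G ⊓ Subgroup.centralizer ({z} : Set G)).subtype, (P : Subgroup G)⁆ ≤
    (Cfsg.pPrimeCore q ↥(Cfsg.pPrimeCore p G)).map (Cfsg.pPrimeCore p G).subtype := by
  have hp := (Fact.out : p.Prime)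
  have hq := (Fact.out : q.Prime)
  obtain ⟨e, he⟩ := hz
  set K := Cfsg.pPrimeCore p G
  set A : Subgroup G := (P : Subgroup G)
  set N : Subgroup G := (Cfsg.pPrimeCore q K).map K.subtype with hNdef
  haveI hNn : N.Normal := Cores.map_subtype_normal_of_characteristic K _
  have hNK : N ≤ K := Subgroup.map_subtype_le _
  have hNq : (Nat.card N).Coprime q := by
    rw [hNdef, Cores.card_map_subtype]; exact Cores.coprime_card_pPrimeCore q
  have hAp : IsPGroup p A := P.2
  have hcop : (Nat.card A).Coprime (Nat.card K) := by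
    obtain ⟨a, ha⟩ := IsPGroup.iff_card.mp hAp
    rw [ha]; exact (Cores.coprime_card_pPrimeCore p).symm.pow_left a
  haveI : Group.IsNilpotent A := hAp.isNilpotent
  have hAsol : Group.IsSolvable A := inferInstance
  have hAK : A ≤ Subgroup.normalizer (K : Set G) := by simp [Subgroup.normalizer_eq_top]
  -- the two cores
  set CZ : Subgroup G := K ⊓ Subgroup.centralizer ({z} : Set G) with hCZ
  set CP : Subgroup G := K ⊓ Subgroup.centralizer (A : Set G) with hCP
  set X : Subgroup G := (Cfsg.pPrimeCore q CZ).map CZ.subtype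
  set Y : Subgroup G := (Cfsg.pPrimeCore q CP).map CP.subtype
  have hX : X ≤ CZ := Subgroup.map_subtype_le _
  have hY : Y ≤ CP := Subgroup.map_subtype_le _
  have hXq : (Nat.card X).Coprime q := by rw [Cores.card_map_subtype]; exact Cores.coprime_card_pPrimeCore q
  have hYq : (Nat.card Y).Coprime q := by rw [Cores.card_map_subtype]; exact Cores.coprime_card_pPrimeCore q
  have hXn : Subgroup.normalizer (CZ : Set G) ≤ Subgroup.normalizer (X : Set G) :=
    Cores.normalizer_le_normalizer_map _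
  have hYn : Subgroup.normalizer (CP : Set G) ≤ Subgroup.normalizer (Y : Set G) :=
    Cores.normalizer_le_normalizer_map _
  have hAz : A ≤ Subgroup.normalizer (CZ : Set G) := by
    intro a ha
    refine Coprime.mem_normalizer_of_forall fun x hx =>
      ⟨(inferInstance : K.Normal).conj_mem x hx.1 a, Subgroup.mem_centralizer_singleton_iff.mpr ?_⟩
    have h1 : Commute a z := Subgroup.mem_centralizer_iff.mp hzP a ha
    have h2 : Commute x z := Subgroup.mem_centralizer_singleton_iff.mp hx.2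
    exact (h1.mul_left h2).mul_left h1.inv_left
  -- pass to the quotient
  set f := QuotientGroup.mk' N with hf
  have hfs : Function.Surjective f := QuotientGroup.mk'_surjective N
  have hker : ∀ {S : Subgroup G}, S.map f = ⊥ → S ≤ N := fun {S} h => by
    simpa [hf] using (Subgroup.map_eq_bot_iff S).mp h
  haveI : (K.map f).Normal := (inferInstance : K.Normal).map f hfs
  have hdvd : ∀ S : Subgroup G, Nat.card (S.map f) ∣ Nat.card S := fun S => S.card_map_dvd f
  obtain ⟨h1, h2⟩ := core_control (q := q) (K.map f) (A.map f)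
    (by rw [← Subgroup.map_sup, hPH, Subgroup.map_top_of_surjective f hfs])
    ((hcop.coprime_dvd_left (hdvd A)).coprime_dvd_right (hdvd K))
    (Group.isSolvable_of_surjective (f.subgroupMap_surjective A))
    (by
      rw [← Subgroup.map_commutator]
      exact Group.isSolvable_of_surjective (f.subgroupMap_surjective _))
    (fun L hLK hLn hLq => by
      set L' := L.comap f
      have hL'K : L' ≤ K := (Subgroup.comap_mono hLK).trans (by
        rw [Subgroup.comap_map_eq_self (by simpa [hf] using hNK)])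
      haveI : (L'.subgroupOf K).Normal := Cores.subgroupOf_normal_of_le_normalizer fun k hk => by
        refine Coprime.mem_normalizer_of_forall fun x hx => ?_
        show f (k * x * k⁻¹) ∈ L
        rw [map_mul, map_mul, map_inv]
        exact (Subgroup.mem_normalizer_iff.mp (hLn ⟨k, hk, rfl⟩) _).mp hx
      have hc : (Nat.card L').Coprime q := by
        rw [← Cores.card_map_mul_ker f L' (f.ker_le_comap L),
          Subgroup.map_comap_eq_self_of_surjective hfs]
        rw [hf, QuotientGroup.ker_mk']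
        exact hLq.mul_left hNq
      have hle : L' ≤ N := fun x hx =>
        ⟨⟨x, hL'K hx⟩, Cores.le_pPrimeCore inferInstance
          (by rw [Cores.card_subgroupOf hL'K]; exact hc) hx, rfl⟩
      rw [← Subgroup.map_comap_eq_self_of_surjective hfs L, Subgroup.map_eq_bot_iff, hf,
        QuotientGroup.ker_mk']
      exact hle)
    (z := f z) ⟨z, hzH, rfl⟩
    (by
      obtain ⟨k, -, hk⟩ := (Nat.dvd_prime_pow hq).mp (he ▸ orderOf_map_dvd f z)
      exact ⟨k, hk⟩)
    (X := X.map f)
    (by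
      rintro _ ⟨x, hx, rfl⟩
      exact ⟨⟨x, (hX hx).1, rfl⟩, Subgroup.mem_centralizer_singleton_iff.mpr
        (Commute.map (show Commute x z from Subgroup.mem_centralizer_singleton_iff.mp (hX hx).2) f)⟩)
    (by
      rintro _ ⟨⟨k, hk, rfl⟩, hkz⟩
      have hkN : k * z * k⁻¹ * z⁻¹ ∈ N := (QuotientGroup.eq_one_iff _).mp (by
        have h : Commute (f k) (f z) := Subgroup.mem_centralizer_singleton_iff.mp hkz
        show f (k * z * k⁻¹ * z⁻¹) = 1
        rw [map_mul, map_mul, map_mul, map_inv, map_inv, h.eq]; group)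
      obtain ⟨n, hn, hcn⟩ := exists_mul_commute (by rw [he]; exact hNq.symm.pow_left e) hkN
      have hnk : n * k ∈ CZ := ⟨K.mul_mem (hNK hn) hk, Subgroup.mem_centralizer_singleton_iff.mpr hcn⟩
      have hfk : f k = f (n * k) := by
        rw [map_mul, show f n = 1 from (QuotientGroup.eq_one_iff n).mpr hn, one_mul]
      rw [hfk]
      exact Subgroup.le_normalizer_map f ⟨_, hXn (Subgroup.le_normalizer hnk), rfl⟩)
    ((Subgroup.map_mono (hAz.trans hXn)).trans (Subgroup.le_normalizer_map f))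
    (hXq.coprime_dvd_left (hdvd X))
    (Y := Y.map f)
    (by
      rintro _ ⟨y, hy, rfl⟩
      refine ⟨⟨y, (hY hy).1, rfl⟩, ?_⟩
      rintro _ ⟨a, ha, rfl⟩
      rw [← map_mul, ← map_mul, Subgroup.mem_centralizer_iff.mp (hY hy).2 a ha])
    (by
      rintro _ ⟨⟨k, hk, rfl⟩, hka⟩
      have hfix : ∀ a ∈ A, a * k * a⁻¹ * k⁻¹ ∈ N := fun a ha => (QuotientGroup.eq_one_iff _).mp (by
        have h := Subgroup.mem_centralizer_iff.mp hka (f a) ⟨a, ha, rfl⟩
        show f (a * k * a⁻¹ * k⁻¹) = 1
        rw [map_mul, map_mul, map_mul, map_inv, map_inv, h]; group)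
      obtain ⟨c, hc, hcN⟩ := Coprime.exists_mem_centralizer_of_coset hAK hcop (Or.inl hAsol) hNK
        (by simp [Subgroup.normalizer_eq_top]) hk hfix
      have hfk : f k = f c := by
        rw [← mul_inv_eq_one, ← map_inv, ← map_mul]
        exact (QuotientGroup.eq_one_iff _).mpr (by simpa using N.inv_mem hcN)
      rw [hfk]
      exact Subgroup.le_normalizer_map f ⟨_, hYn (Subgroup.le_normalizer hc), rfl⟩)
    (hYq.coprime_dvd_left (hdvd Y))
  refine sup_le (hker ?_) (hker (by rw [Subgroup.map_commutator]; exact h1))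
  exact le_bot_iff.mp ((Subgroup.map_inf_le X Y f).trans h2.le)

end Cfsg.Agent.S3819
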