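import Cfsg.Statements.S3820
import Cfsg.Agent.EqLemmas

set_option autoImplicit false
open Cfsg

namespace Cfsg.Agent.S3820

/-- Call a subgroup H of G pronormal if H and gHg⁻¹ are conjugate inside ⟨H, gHg⁻¹⟩ for every g ∈ G. Let S ≤ H ≤ G be subgroups of a finite group with S pronormal in G (for instance S a Sylow subgroup). Then H is pronormal in G if and only if H and gHg⁻¹ are conjugate inside ⟨H, gHg⁻¹⟩ for every g ∈ N_G(S). In particular H is pronormal whenever N_G(S) ≤ H. -/
theorem result {G : Type*} [Group G] [Finite G] (S H : Subgroup G) (hSH : S ≤ H)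
    (hS : Cfsg.IsPronormal S) :
    Cfsg.IsPronormal H ↔
      ∀ g ∈ Subgroup.normalizer (S : Set G), ∃ w ∈ H ⊔ H.map (MulAut.conj g).toMonoidHom,
        H.map (MulAut.conj g).toMonoidHom = H.map (MulAut.conj w).toMonoidHom := by
  constructor
  · intro hp g _; exact hp g
  intro hcond g
  have hmem : ∀ (K : Subgroup G) (c z : G), z ∈ K.map (MulAut.conj c).toMonoidHom ↔ c⁻¹ * z * c ∈ K := by
    intro K c z
    constructor
    · rintro ⟨w, hw, rfl⟩
      simpa [mul_assoc] using hw
    · intro hz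
      exact ⟨_, hz, by simp [mul_assoc]⟩
  have hcomp : ∀ (K : Subgroup G) (c d : G),
      (K.map (MulAut.conj d).toMonoidHom).map (MulAut.conj c).toMonoidHom =
        K.map (MulAut.conj (c * d)).toMonoidHom := by
    intro K c d
    rw [Subgroup.map_map]
    congr 1
    exact MonoidHom.ext fun z => by simp [mul_assoc]
  obtain ⟨x, hx, he⟩ := hS g
  set J := H ⊔ H.map (MulAut.conj g).toMonoidHom with hJ
  have hxJ : x ∈ J := sup_le_sup hSH (Subgroup.map_mono hSH) hx
  have hn : x⁻¹ * g ∈ Subgroup.normalizer (S : Set G) := by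
    rw [← inv_mem_iff, Subgroup.mem_normalizer_iff]
    intro y
    have h1 := hmem S g (x * y * x⁻¹)
    have h2 := hmem S x (x * y * x⁻¹)
    rw [← he] at h2
    have h3 := h2.symm.trans h1
    simpa [mul_assoc] using h3
  obtain ⟨w, hw, hwe⟩ := hcond _ hn
  have hHh : H.map (MulAut.conj (x⁻¹ * g)).toMonoidHom ≤ J := by
    rintro _ ⟨y, hy, rfl⟩
    have : g * y * g⁻¹ ∈ J := le_sup_right (a := H) ⟨y, hy, rfl⟩
    have := J.mul_mem (J.mul_mem (J.inv_mem hxJ) this) hxJ
    simpa [mul_assoc] using this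
  have hwJ : w ∈ J := sup_le le_sup_left hHh hw
  refine ⟨x * w, J.mul_mem hxJ hwJ, ?_⟩
  rw [← hcomp H x w, ← hwe, hcomp, mul_inv_cancel_left]

end Cfsg.Agent.S3820
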