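import Cfsg.Statements.S3821
import Cfsg.Agent.EqLemmas

set_option autoImplicit false
open Cfsg

namespace Cfsg.Agent.S3821

/-- Let A be a normal subgroup of the finite group G and H a subgroup of A. Then H is pronormal in G (H and gHg⁻¹ conjugate inside ⟨H, gHg⁻¹⟩ for every g ∈ G) if and only if H is pronormal in A and G = A · N_G(H). -/
theorem result {G : Type*} [Group G] [Finite G] (A H : Subgroup G) [A.Normal] (hHA : H ≤ A) :
    Cfsg.IsPronormal H ↔ (Cfsg.IsPronormal (H.subgroupOf A) ∧ A ⊔ Subgroup.normalizer (H : Set G) = ⊤) := by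
  constructor
  · intro hp
    constructor
    · intro a
      obtain ⟨x, hx, he⟩ := hp (a : G)
      have hle : H ⊔ H.map (MulAut.conj (a : G)).toMonoidHom ≤ A := by
        refine sup_le hHA ?_
        rintro _ ⟨y, hy, rfl⟩
        exact (inferInstance : A.Normal).conj_mem y (hHA hy) _
      have hxA : x ∈ A := hle hx
      have hmap : ∀ b : A, ((H.subgroupOf A).map (MulAut.conj b).toMonoidHom).map A.subtype =
          H.map (MulAut.conj (b : G)).toMonoidHom := by
        intro b
        rw [Subgroup.map_map, show A.subtype.comp (MulAut.conj b).toMonoidHom =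
          (MulAut.conj (b : G)).toMonoidHom.comp A.subtype from MonoidHom.ext fun z => by simp,
          ← Subgroup.map_map, Subgroup.map_subgroupOf_eq_of_le hHA]
      refine ⟨⟨x, hxA⟩, ?_, Subgroup.map_injective A.subtype_injective ?_⟩
      · rw [← Subgroup.mem_map_iff_mem A.subtype_injective, Subgroup.map_sup, hmap,
          Subgroup.map_subgroupOf_eq_of_le hHA]
        exact hx
      · rw [hmap, hmap]; exact he
    · rw [eq_top_iff]
      intro g _
      obtain ⟨x, hx, he⟩ := hp g
      have hxA : x ∈ A := by
        refine (sup_le hHA ?_ : H ⊔ H.map (MulAut.conj g).toMonoidHom ≤ A) hx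
        rintro _ ⟨y, hy, rfl⟩
        exact (inferInstance : A.Normal).conj_mem y (hHA hy) _
      have hn : x⁻¹ * g ∈ Subgroup.normalizer (H : Set G) := by
        rw [← inv_mem_iff, Subgroup.mem_normalizer_iff]
        intro y
        have hmem : ∀ (c z : G), z ∈ H.map (MulAut.conj c).toMonoidHom ↔ c⁻¹ * z * c ∈ H := by
          intro c z
          constructor
          · rintro ⟨w, hw, rfl⟩
            simpa [mul_assoc] using hw
          · intro hz
            exact ⟨_, hz, by simp [mul_assoc]⟩
        have h1 := hmem g (x * y * x⁻¹)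
        have h2 := hmem x (x * y * x⁻¹)
        rw [← he] at h2
        have h3 := h2.symm.trans h1
        simpa [mul_assoc] using h3
      have : g = x * (x⁻¹ * g) := by group
      rw [this]
      exact Subgroup.mul_mem_sup hxA hn
  · rintro ⟨hp, htop⟩ g
    have hg : g ∈ A ⊔ Subgroup.normalizer (H : Set G) := htop ▸ Subgroup.mem_top g
    obtain ⟨a, ha, n, hn, rfl⟩ := Subgroup.mem_sup_of_normal_left.mp hg
    have hna : H.map (MulAut.conj n).toMonoidHom = H := by
      ext z
      rw [Subgroup.mem_normalizer_iff] at hn
      constructor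
      · rintro ⟨w, hw, rfl⟩
        exact (hn w).mp hw
      · intro hz
        refine ⟨n⁻¹ * z * n, (hn _).mpr (by simpa [mul_assoc] using hz), by simp [mul_assoc]⟩
    have heq : H.map (MulAut.conj (a * n)).toMonoidHom = H.map (MulAut.conj a).toMonoidHom := by
      rw [show (MulAut.conj (a * n)).toMonoidHom =
        (MulAut.conj a).toMonoidHom.comp (MulAut.conj n).toMonoidHom from
          MonoidHom.ext fun z => by simp [mul_assoc], ← Subgroup.map_map, hna]
    obtain ⟨x, hx, he⟩ := hp ⟨a, ha⟩
    have hmap : ∀ b : A, ((H.subgroupOf A).map (MulAut.conj b).toMonoidHom).map A.subtype =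
        H.map (MulAut.conj (b : G)).toMonoidHom := by
      intro b
      rw [Subgroup.map_map, show A.subtype.comp (MulAut.conj b).toMonoidHom =
        (MulAut.conj (b : G)).toMonoidHom.comp A.subtype from MonoidHom.ext fun z => by simp,
        ← Subgroup.map_map, Subgroup.map_subgroupOf_eq_of_le hHA]
    rw [heq]
    refine ⟨(x : G), ?_, ?_⟩
    · have := Subgroup.mem_map_of_mem A.subtype hx
      rwa [Subgroup.map_sup, hmap, Subgroup.map_subgroupOf_eq_of_le hHA] at this
    · have := congrArg (Subgroup.map A.subtype) he
      rwa [hmap, hmap] at this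

end Cfsg.Agent.S3821
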