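import Cfsg.Statements.S3822
import Cfsg.Agent.Lib.FixedHalf.TwoGen
import Cfsg.Agent.Lib.Cores.Fitting

set_option autoImplicit false
open Cfsg

namespace Cfsg.Agent.S3822

open Cfsg.Agent

universe u

variable {G : Type u} [Group G] [Finite G]

theorem commute_pCore {H : Type*} [Group H] [Finite H] {q r : ℕ} [Fact q.Prime] [Fact r.Prime]
    (hqr : q ≠ r) {a b : H} (ha : a ∈ Cfsg.pCore q H) (hb : b ∈ Cfsg.pCore r H) : Commute a b :=
  Subgroup.commute_of_normal_of_disjoint _ _ (Cores.pCore_normal q H) (Cores.pCore_normal r H)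
    (IsPGroup.disjoint_of_ne q r hqr _ _ (Cores.isPGroup_pCore q H) (Cores.isPGroup_pCore r H)) a b ha hb

/-- The normalizer of `V` normalises the cores of `V`. -/
theorem normalizer_le_normalizer_pCore (V : Subgroup G) (s : ℕ) :
    Subgroup.normalizer (V : Set G) ≤
      Subgroup.normalizer (((Cfsg.pCore s V).map V.subtype : Subgroup G) : Set G) := by
  intro g hg
  refine Subgroup.mem_normalizer_fintype ?_
  rintro _ ⟨w, hw, rfl⟩
  refine ⟨V.normalizerMonoidHom ⟨g, hg⟩ w, ?_, rfl⟩
  exact (Subgroup.characteristic_iff_map_eq.mp (inferInstance : (Cfsg.pCore s V).Characteristic)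
    (V.normalizerMonoidHom ⟨g, hg⟩)).le ⟨w, hw, rfl⟩

/-- Let G be a finite group and P a subgroup of prime order p > 3. Consider the solvable subgroups A of G of the form A = ⟨P, aPa⁻¹⟩ for some a ∈ A, and let A be maximal under inclusion among them. Then for every nilpotent subgroup V of G normalized by A, the subgroup F(A)V generated by the Fitting subgroup of A and V is nilpotent. -/
theorem result {G : Type*} [Group G] [Finite G]
    {p : ℕ} [Fact p.Prime] (hp : 3 < p) (P : Subgroup G) (hP : Nat.card P = p) (A : Subgroup G)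
    (hA : Group.IsSolvable ↥A ∧ ∃ a ∈ A, A = P ⊔ P.map (MulAut.conj a).toMonoidHom)
    (hmax : ∀ B : Subgroup G, A ≤ B → Group.IsSolvable ↥B → (∃ b ∈ B, B = P ⊔ P.map (MulAut.conj b).toMonoidHom) → B = A)
    (V : Subgroup G) (hV : Group.IsNilpotent ↥V) (hAV : A ≤ Subgroup.normalizer (V : Set G)) :
    Group.IsNilpotent ↥((Cfsg.fittingSubgroup ↥A).map A.subtype ⊔ V) := by
  obtain ⟨hsol, a, haA, hAeq⟩ := hA
  haveI := hsol
  have hp' : p.Prime := Fact.out
  have h5 : 5 ≤ p := by
    by_contra h
    have : p = 4 := by omega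
    rw [this] at hp'
    exact absurd hp' (by decide)
  obtain ⟨x, hxP⟩ : ∃ x : P, x ≠ 1 :=
    haveI : Nontrivial P := Finite.one_lt_card_iff_nontrivial.mp (hP ▸ hp'.one_lt)
    exists_ne 1
  have hxo : orderOf (x : G) = p := by
    rw [Subgroup.orderOf_coe]
    exact orderOf_eq_prime (hP ▸ pow_card_eq_one') hxP
  have hPx : P = Subgroup.closure {(x : G)} := by
    rw [← Subgroup.zpowers_eq_closure]
    exact (Subgroup.eq_of_le_of_card_ge (Subgroup.zpowers_le.mpr x.2)
      (by rw [Nat.card_zpowers, hxo, hP])).symm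
  have hpair : ∀ b : G, P ⊔ P.map (MulAut.conj b).toMonoidHom =
      Subgroup.closure {(x : G), b * x * b⁻¹} := by
    intro b
    suffices e : ∀ H : Subgroup G, H = Subgroup.closure {(x : G)} →
        H ⊔ H.map (MulAut.conj b).toMonoidHom = Subgroup.closure {(x : G), b * x * b⁻¹} from e P hPx
    rintro H rfl
    rw [MonoidHom.map_closure, ← Subgroup.closure_union, Set.image_singleton, Set.singleton_union]
    rfl
  have hA' : A = Subgroup.closure {(x : G), a * x * a⁻¹} := hAeq.trans (hpair a)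
  -- the Fitting subgroup of `A` centralises invariant groups of coprime order
  have core : ∀ q r : ℕ, [Fact q.Prime] → [Fact r.Prime] → q ≠ r → ∀ n : ℕ, ∀ U : Subgroup G,
      Nat.card U = n → IsPGroup r U → A ≤ Subgroup.normalizer (U : Set G) →
      ∀ u ∈ U, ∀ t ∈ (Cfsg.pCore q A).map A.subtype, Commute u t := by
    intro q r _ _ hqr n
    induction n using Nat.strong_induction_on with
    | _ n ih =>
    intro U hn hU hAU
    by_cases hUA : U ≤ A
    · rintro u hu _ ⟨t, ht, rfl⟩
      haveI hUn : (U.subgroupOf A).Normal := ⟨fun w hw g =>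
        (Subgroup.mem_normalizer_iff.mp (hAU g.2) _).mp hw⟩
      have hur : (⟨u, hUA hu⟩ : A) ∈ Cfsg.pCore r A :=
        Cores.le_pCore hUn (hU.of_equiv (Subgroup.subgroupOfEquivOfLe hUA).symm) hu
      exact (commute_pCore hqr.symm hur ht).map A.subtype
    by_contra hne
    let L : Subgroup G := A ⊔ U
    have hAL : A ≤ L := le_sup_left
    have hUL : U ≤ L := le_sup_right
    have hLU : L ≤ Subgroup.normalizer (U : Set G) := sup_le hAU Subgroup.le_normalizer
    haveI hUn : (U.subgroupOf L).Normal := ⟨fun w hw g =>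
      (Subgroup.mem_normalizer_iff.mp (hLU g.2) _).mp hw⟩
    set Q := (Cfsg.pCore q A).map A.subtype
    have hQA : Q ≤ A := Subgroup.map_subtype_le _
    have htop : A.subgroupOf L ⊔ U.subgroupOf L = ⊤ := by
      rw [← Subgroup.subgroupOf_sup hAL hUL, Subgroup.subgroupOf_self]
    have hsolA : Group.IsSolvable (A.subgroupOf L) :=
      Group.isSolvable_of_isSolvable_injective (f := (Subgroup.subgroupOfEquivOfLe hAL).toMonoidHom)
        (Subgroup.subgroupOfEquivOfLe hAL).injective
    have hxA : (x : G) ∈ A := hA' ▸ Subgroup.subset_closure (Or.inl rfl)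
    obtain ⟨b, hb⟩ := FixedHalf.exists_gen (A := A.subgroupOf L) (U := U.subgroupOf L)
      (Q := Q.subgroupOf L) (q := q) (r := r) (p := p) (x := (⟨x, hAL hxA⟩ : L))
      (a := (⟨a, hAL haA⟩ : L)) htop hsolA hqr (hU.of_equiv (Subgroup.subgroupOfEquivOfLe hUL).symm)
      (fun h => hUA fun u hu => h (show (⟨u, hUL hu⟩ : L) ∈ U.subgroupOf L from hu))
      (fun t ht => hQA ht)
      (((Cores.isPGroup_pCore q A).map A.subtype).of_equiv
        (Subgroup.subgroupOfEquivOfLe (hQA.trans hAL)).symm)
      (fun g hg => Subgroup.mem_normalizer_fintype fun t ht => by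
        obtain ⟨t', ht', he⟩ := (ht : (t : G) ∈ Q)
        refine ⟨(⟨g, hg⟩ : A) * t' * (⟨g, hg⟩ : A)⁻¹,
          (Cores.pCore_normal q A).conj_mem t' ht' _, ?_⟩
        show (g : G) * t' * (g : G)⁻¹ = (g : G) * t * (g : G)⁻¹
        rw [show (t' : G) = t from he])
      hp' h5 (Subtype.ext (by
        rw [SubgroupClass.coe_pow, OneMemClass.coe_one, ← hxo]; exact pow_orderOf_eq_one _))
      (show a ∈ A from haA) (by
        refine Subgroup.map_injective L.subtype_injective ?_
        rw [Subgroup.subgroupOf_map_subtype, inf_eq_left.mpr hAL, MonoidHom.map_closure, Set.image_pair]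
        exact hA')
      (by
        intro W hW hWA u hu t ht
        have hWU : W.map L.subtype < U := by
          refine lt_of_lt_of_eq ((Subgroup.map_lt_map_iff_of_injective L.subtype_injective).mpr hW) ?_
          rw [Subgroup.subgroupOf_map_subtype, inf_eq_left.mpr hUL]
        have hcard : Nat.card (W.map L.subtype) < n :=
          hn ▸ lt_of_le_of_ne (Subgroup.card_le_of_le hWU.le)
            fun e => hWU.ne (Subgroup.eq_of_le_of_card_ge hWU.le e.ge)
        have h := ih _ hcard (W.map L.subtype) rfl (hU.to_le hWU.le) (fun g hg => by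
          refine Subgroup.mem_normalizer_fintype ?_
          rintro _ ⟨w, hw, rfl⟩
          exact ⟨(⟨g, hAL hg⟩ : L) * w * (⟨g, hAL hg⟩ : L)⁻¹, (Subgroup.mem_normalizer_iff.mp
            (hWA (show (⟨g, hAL hg⟩ : L) ∈ A.subgroupOf L from hg)) w).mp hw, rfl⟩)
          _ ⟨u, hu, rfl⟩ _ ht
        exact Subtype.ext h.eq)
      (fun h => hne fun u hu t ht =>
        (h ⟨u, hUL hu⟩ hu ⟨t, hAL (hQA ht)⟩ ht).map L.subtype)
    haveI : Group.IsNilpotent (U.subgroupOf L) :=
      (hU.of_equiv (Subgroup.subgroupOfEquivOfLe hUL).symm).isNilpotent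
    have hsolQ : Group.IsSolvable (↥L ⧸ U.subgroupOf L) :=
      haveI := hsolA
      Group.isSolvable_of_surjective
        (f := (QuotientGroup.mk' (U.subgroupOf L)).comp (A.subgroupOf L).subtype) fun y => by
        obtain ⟨l, rfl⟩ := QuotientGroup.mk'_surjective _ y
        have hl : l ∈ A.subgroupOf L ⊔ U.subgroupOf L := htop ▸ Subgroup.mem_top l
        obtain ⟨α, hα, w, hw, rfl⟩ := Subgroup.mem_sup_of_normal_right.mp hl
        exact ⟨⟨α, hα⟩, by
          rw [map_mul, show QuotientGroup.mk' (U.subgroupOf L) w = 1 from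
            (QuotientGroup.eq_one_iff w).mpr hw, mul_one]
          rfl⟩
    have hsolL : Group.IsSolvable L :=
      (Group.isSolvable_iff_subgroup_quotient (U.subgroupOf L)).mpr ⟨inferInstance, hsolQ⟩
    have hgenL : L = P ⊔ P.map (MulAut.conj (b : G)).toMonoidHom := by
      rw [hpair]
      have h1 := congrArg (Subgroup.map L.subtype) hb
      rw [MonoidHom.map_closure, Set.image_pair, ← MonoidHom.range_eq_map, Subgroup.range_subtype] at h1
      exact h1.symm
    exact hUA (hUL.trans (hmax L hAL hsolL ⟨b, b.2, hgenL⟩).le)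
  -- `F(A) V` is generated by commuting groups of prime power order
  haveI := hV
  let FA : Nat.Primes → Subgroup G := fun s => (Cfsg.pCore (s : ℕ) A).map A.subtype
  let VV : Nat.Primes → Subgroup G := fun s => (Cfsg.pCore (s : ℕ) V).map V.subtype
  set W := (Cfsg.fittingSubgroup A).map A.subtype ⊔ V
  have hW : W = ⨆ s : Nat.Primes, FA s ⊔ VV s := by
    rw [iSup_sup_eq]
    simp only [FA, VV, W]
    rw [← Subgroup.map_iSup, ← Cores.fittingSubgroup_eq_iSup_pCore, ← Subgroup.map_iSup,
      Cores.iSup_pCore_eq_top, ← MonoidHom.range_eq_map, Subgroup.range_subtype]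
  have hFN : ∀ s t : Nat.Primes, FA s ≤ Subgroup.normalizer (VV t : Set G) := fun s t =>
    ((Subgroup.map_subtype_le _).trans hAV).trans (normalizer_le_normalizer_pCore V _)
  have hFV : ∀ s t : Nat.Primes, s ≠ t → FA s ≤ Subgroup.centralizer (VV t : Set G) := by
    intro s t hst g hg v hv
    haveI := Fact.mk s.2
    haveI := Fact.mk t.2
    exact (core (s : ℕ) (t : ℕ) (fun h => hst (Subtype.ext h)) _ (VV t) rfl
      ((Cores.isPGroup_pCore _ _).map _) (hAV.trans (normalizer_le_normalizer_pCore V _)) v hv g hg).eq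
  have hcen : ∀ s t : Nat.Primes, s ≠ t →
      FA s ⊔ VV s ≤ Subgroup.centralizer ((FA t ⊔ VV t : Subgroup G) : Set G) := by
    intro s t hst
    haveI := Fact.mk s.2
    haveI := Fact.mk t.2
    have hne : (s : ℕ) ≠ (t : ℕ) := fun h => hst (Subtype.ext h)
    rw [Subgroup.le_centralizer_iff]
    refine sup_le ?_ ?_ <;> rw [Subgroup.le_centralizer_iff] <;> refine sup_le ?_ ?_
    · rintro _ ⟨u, hu, rfl⟩ _ ⟨v, hv, rfl⟩
      exact ((commute_pCore hne.symm hv hu).map A.subtype).eq
    · exact Subgroup.le_centralizer_iff.mp (hFV t s hst.symm)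
    · exact hFV s t hst
    · rintro _ ⟨u, hu, rfl⟩ _ ⟨v, hv, rfl⟩
      exact ((commute_pCore hne.symm hv hu).map V.subtype).eq
  suffices htop : Cfsg.fittingSubgroup W = ⊤ by
    exact Cores.fittingSubgroup_eq_top_iff.mp htop
  refine top_le_iff.mp fun w _ => ?_
  have hle : ∀ s : Nat.Primes, FA s ⊔ VV s ≤ (Cfsg.fittingSubgroup W).map W.subtype := by
    intro s
    haveI := Fact.mk s.2
    have hsW : FA s ⊔ VV s ≤ W := hW ▸ le_iSup (fun s => FA s ⊔ VV s) s
    have hnorm : W ≤ Subgroup.normalizer ((FA s ⊔ VV s : Subgroup G) : Set G) := by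
      rw [hW]
      refine iSup_le fun t => ?_
      rcases eq_or_ne t s with rfl | hts
      · exact Subgroup.le_normalizer
      · exact (hcen t s hts).trans (Subgroup.centralizer_le_normalizer _)
    have hn : ((FA s ⊔ VV s).subgroupOf W).Normal :=
      ⟨fun v hv g => (Subgroup.mem_normalizer_iff.mp (hnorm g.2) _).mp hv⟩
    have hpg : IsPGroup (s : ℕ) (FA s ⊔ VV s : Subgroup G) :=
      IsPGroup.to_sup_of_normal_right' ((Cores.isPGroup_pCore _ _).map _)
        ((Cores.isPGroup_pCore _ _).map _) (hFN s s)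
    intro g hg
    exact ⟨⟨g, hsW hg⟩, Cores.le_fittingSubgroup hn
      ((hpg.of_equiv (Subgroup.subgroupOfEquivOfLe hsW).symm).isNilpotent) hg, rfl⟩
  obtain ⟨w', hw', he⟩ := (hW.le.trans (iSup_le hle)) w.2
  exact Subtype.ext he ▸ hw'

end Cfsg.Agent.S3822
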