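import Cfsg.Statements.S3824
import Cfsg.Agent.Lib.CharApp.Burnside

set_option autoImplicit false
open Cfsg

namespace Cfsg.Agent.S3824

universe v

theorem aux : ∀ (N : ℕ) {G : Type v} [Group G] [Finite G] (A : Subgroup G), IsMulCommutative A →
    ∀ k : ℕ, A.index = 2 ^ k → Nat.card G = N → Group.IsSolvable G := by
  intro N
  induction N using Nat.strong_induction_on with
  | _ N ih =>
    intro G _ _ A hA k hk hN
    have h2 : (2 : ℕ).Prime := Nat.prime_two
    rcases subsingleton_or_nontrivial G with h | h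
    · infer_instance
    by_cases hS : IsSimpleGroup G
    · by_cases hb : A = ⊥
      · rw [hb, Subgroup.index_bot] at hk
        haveI : Fact (Nat.Prime 2) := ⟨h2⟩
        haveI := (IsPGroup.of_card (p := 2) (n := k) hk).isNilpotent
        infer_instance
      · obtain ⟨a, ha, ha1⟩ := A.bot_or_exists_ne_one.resolve_left hb
        have hle : A ≤ Subgroup.centralizer ({a} : Set G) := fun x hx =>
          Subgroup.mem_centralizer_singleton_iff.mpr (congrArg Subtype.val (hA.is_comm.comm ⟨x, hx⟩ ⟨a, ha⟩))
        obtain ⟨j, -, hj⟩ := (Nat.dvd_prime_pow h2).mp (hk ▸ Subgroup.index_dvd_of_le hle)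
        have hp := Cfsg.Agent.CharApp.prime_card_of_simple_prime_pow_class 2 j h2 a ha1 hj
        haveI : Fact (Nat.Prime (Nat.card G)) := ⟨hp⟩
        haveI := (IsPGroup.of_card (p := Nat.card G) (n := 1) (pow_one _).symm).isNilpotent
        infer_instance
    · obtain ⟨K, hKn, hK1, hK2⟩ : ∃ K : Subgroup G, K.Normal ∧ K ≠ ⊥ ∧ K ≠ ⊤ := by
        by_contra hno
        exact hS ⟨fun K hK => by
          by_contra hc
          push Not at hc
          exact hno ⟨K, hK, hc.1, hc.2⟩⟩
      have hKlt : Nat.card K < N :=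
        hN ▸ lt_of_le_of_ne (Subgroup.card_le_card_group K) fun he => hK2 (Subgroup.eq_top_of_card_eq K he)
      have hQlt : Nat.card (G ⧸ K) < N := by
        rw [← hN, ← K.card_mul_index, ← Subgroup.index]
        exact (Nat.lt_mul_iff_one_lt_left (Nat.pos_of_ne_zero Subgroup.index_ne_zero_of_finite)).mpr
          ((Subgroup.one_lt_card_iff_ne_bot K).mpr hK1)
      have hKc : IsMulCommutative (A.subgroupOf K) := ⟨⟨fun x y => Subtype.ext (Subtype.ext
        (congrArg Subtype.val (hA.is_comm.comm ⟨_, x.2⟩ ⟨_, y.2⟩) :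
          ((x : K) : G) * ((y : K) : G) = ((y : K) : G) * ((x : K) : G)))⟩⟩
      have hd1 : (A.subgroupOf K).index ∣ A.index := by
        show A.relIndex K ∣ A.index
        have h1 : (A ⊓ K).relIndex A * A.relIndex (A ⊔ K) = (A ⊓ K).relIndex K * K.relIndex (A ⊔ K) := by
          rw [Subgroup.relIndex_mul_relIndex _ _ _ inf_le_left le_sup_left,
            Subgroup.relIndex_mul_relIndex _ _ _ inf_le_right le_sup_right]
        rw [Subgroup.relIndex_sup_right, Subgroup.inf_relIndex_left, Subgroup.inf_relIndex_right,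
          mul_comm (A.relIndex K)] at h1
        rw [← Nat.eq_of_mul_eq_mul_left (Nat.pos_of_ne_zero Subgroup.index_ne_zero_of_finite) h1]
        exact Subgroup.relIndex_dvd_index_of_le le_sup_left
      obtain ⟨j, -, hj⟩ := (Nat.dvd_prime_pow h2).mp (hk ▸ hd1)
      have hsK := ih _ hKlt (A.subgroupOf K) hKc j hj rfl
      obtain ⟨i, -, hi⟩ := (Nat.dvd_prime_pow h2).mp
        (hk ▸ A.index_map_dvd (QuotientGroup.mk'_surjective K))
      have hAc : IsMulCommutative (A.map (QuotientGroup.mk' K)) := ⟨⟨fun x y => by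
        obtain ⟨_, ⟨a, ha, rfl⟩⟩ := x
        obtain ⟨_, ⟨b, hb, rfl⟩⟩ := y
        exact Subtype.ext (show QuotientGroup.mk' K a * QuotientGroup.mk' K b =
          QuotientGroup.mk' K b * QuotientGroup.mk' K a by
          rw [← map_mul, ← map_mul, show a * b = b * a from
            congrArg Subtype.val (hA.is_comm.comm ⟨a, ha⟩ ⟨b, hb⟩)])⟩⟩
      have hsQ := ih _ hQlt _ hAc i hi rfl
      exact Group.isSolvable_of_ker_le_range K.subtype (QuotientGroup.mk' K) (by simp)


/-- Every finite group having an abelian subgroup whose index is a power of 2 is solvable. -/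
theorem result {G : Type*} [Group G] [Finite G]
    (A : Subgroup G) (hA : IsMulCommutative A) (hidx : ∃ k : ℕ, A.index = 2 ^ k) : Group.IsSolvable G := by
  obtain ⟨k, hk⟩ := hidx
  exact aux (Nat.card G) A hA k hk rfl

end Cfsg.Agent.S3824
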