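import Cfsg.Statements.S3825
import Cfsg.Agent.EqLemmas

set_option autoImplicit false
open Cfsg

namespace Cfsg.Agent.S3825

/-- Let U be a subgroup of a finite group H and w an involution of H normalizing U and commuting with exactly two elements of U, the identity and y. If V is a non-cyclic elementary abelian 2-subgroup of U containing y which is normal in U and invariant under w, then V is a Sylow 2-subgroup of U, V has order 4, and U/V is abelian. -/
theorem result {H : Type*} [Group H] [Finite H] (U : Subgroup H) (w : H) (hw : orderOf w = 2)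
    (hwU : w ∈ Subgroup.normalizer (U : Set H)) (y : H) (hy : y ≠ 1) (hyU : y ∈ U)
    (hfix : ∀ u ∈ U, w * u * w⁻¹ = u ↔ (u = 1 ∨ u = y))
    (V : Subgroup H) (hVU : V ≤ U) (hVn : (V.subgroupOf U).Normal) (hVw : ∀ v ∈ V, w * v * w⁻¹ ∈ V)
    (hVe : Cfsg.IsElementaryAbelian 2 V) (hVc : ¬ IsCyclic ↥V) (hyV : y ∈ V) :
    ¬ 2 ∣ V.relIndex U ∧ Nat.card ↥V = 4 ∧ ⁅U, U⁆ ≤ V := by
  classical
  have hcm : ∀ a ∈ V, ∀ b ∈ V, a * b = b * a := fun a ha b hb =>
    congrArg Subtype.val (hVe.1.is_comm.comm ⟨a, ha⟩ ⟨b, hb⟩)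
  have hinv : ∀ a ∈ V, a⁻¹ = a := fun a ha => by
    have := hVe.2 a ha
    rw [pow_two] at this
    exact inv_eq_of_mul_eq_one_right this
  have hww : w * w = 1 := by rw [← pow_two, ← hw, pow_orderOf_eq_one]
  have hwinv : w⁻¹ = w := inv_eq_of_mul_eq_one_right hww
  have hσσ : ∀ u : H, w * (w * u * w⁻¹) * w⁻¹ = u := fun u => by
    calc w * (w * u * w⁻¹) * w⁻¹ = (w * w) * u * (w * w)⁻¹ := by group
      _ = u := by rw [hww]; group
  have hσmul : ∀ a b : H, w * (a * b) * w⁻¹ = (w * a * w⁻¹) * (w * b * w⁻¹) := fun a b => by group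
  have hσy : w * y * w⁻¹ = y := (hfix y hyU).mpr (Or.inr rfl)
  -- the map `v ↦ v * σ v` on `V`
  let φ : V →* H :=
    { toFun := fun v => (v : H) * (w * (v : H) * w⁻¹)
      map_one' := by simp
      map_mul' := fun a b => by
        simp only [Subgroup.coe_mul]
        rw [hσmul, mul_assoc (a : H) b, ← mul_assoc (b : H), hcm b b.2 _ (hVw a a.2)]
        simp only [mul_assoc] }
  have hrange : ∀ v : V, φ v = 1 ∨ φ v = y := by
    intro v
    have hmem : φ v ∈ V := V.mul_mem v.2 (hVw v v.2)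
    refine (hfix _ (hVU hmem)).mp ?_
    show w * ((v : H) * (w * (v : H) * w⁻¹)) * w⁻¹ = _
    rw [hσmul, hσσ]
    exact hcm _ (hVw v v.2) _ v.2
  have hker : ∀ v : V, φ v = 1 → (v : H) = 1 ∨ (v : H) = y := by
    intro v hv
    refine (hfix _ (hVU v.2)).mp ?_
    have : w * (v : H) * w⁻¹ = (v : H)⁻¹ := eq_inv_of_mul_eq_one_right hv
    rw [this, hinv _ v.2]
  have hcard : Nat.card V = 4 := by
    have h1 : Nat.card φ.range ≤ 2 := by
      refine le_trans ?_ (Set.ncard_pair (Ne.symm hy)).le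
      rw [← Nat.card_coe_set_eq]
      exact Nat.card_mono (Set.toFinite _) (by rintro _ ⟨v, rfl⟩; exact hrange v)
    have h2 : Nat.card φ.ker ≤ 2 := by
      refine le_trans ?_ (Set.ncard_pair (Ne.symm hy)).le
      rw [← Nat.card_coe_set_eq]
      refine Nat.card_le_card_of_injective (fun v => ⟨((v : V) : H), hker v v.2⟩) ?_
      intro a b hab
      exact Subtype.ext (Subtype.ext (congrArg (fun z : ({1, y} : Set H) => (z : H)) hab))
    have h3 : Nat.card V ≤ 4 := by
      rw [← φ.ker.card_mul_index, Subgroup.index_ker]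
      exact Nat.mul_le_mul h2 h1
    have hpos : 0 < Nat.card V := Nat.card_pos
    by_contra h4
    apply hVc
    rcases (show Nat.card V = 1 ∨ Nat.card V = 2 ∨ Nat.card V = 3 by omega) with h | h | h
    · have := (Nat.card_eq_one_iff_unique.mp h).1
      exact isCyclic_of_subsingleton
    · exact isCyclic_of_prime_card (hp := ⟨Nat.prime_two⟩) h
    · exact isCyclic_of_prime_card (hp := ⟨Nat.prime_three⟩) h
  obtain ⟨v₀, hv₀V, hv₀⟩ : ∃ v ∈ V, ¬ (v = 1 ∨ v = y) := by
    by_contra hno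
    push Not at hno
    have : Nat.card V ≤ 2 := by
      refine le_trans ?_ (Set.ncard_pair (Ne.symm hy)).le
      rw [← Nat.card_coe_set_eq]
      exact Nat.card_mono (Set.toFinite _) (fun v hv => hno v hv)
    omega
  have hσv₀ : w * v₀ * w⁻¹ = v₀ * y := by
    rcases hrange ⟨v₀, hv₀V⟩ with h | h
    · exact absurd (hker ⟨v₀, hv₀V⟩ h) hv₀
    · have h' : v₀ * (w * v₀ * w⁻¹) = y := h
      rw [← hinv v₀ hv₀V, ← eq_inv_mul_iff_mul_eq.mpr h', hinv v₀ hv₀V]
  -- fixed points on the quotient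
  have hfpf : ∀ u ∈ U, w * u * w⁻¹ * u⁻¹ ∈ V → u ∈ V := by
    intro u hu hc
    set c := w * u * w⁻¹ * u⁻¹ with hcdef
    have hsu : w * u * w⁻¹ = c * u := by rw [hcdef]; group
    have hc2 : w * c * w⁻¹ * c = 1 := by
      have := hσσ u
      rw [hsu, hσmul, hsu, ← mul_assoc] at this
      exact mul_eq_right.mp this
    have hcfix : w * c * w⁻¹ = c := by
      rw [eq_inv_of_mul_eq_one_left hc2, hinv c hc]
    rcases (hfix c (hVU hc)).mp hcfix with h | h
    · rw [h, one_mul] at hsu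
      rcases (hfix u hu).mp hsu with h' | h' <;> rw [h']
      · exact V.one_mem
      · exact hyV
    · have hfixed : w * (v₀ * u) * w⁻¹ = v₀ * u := by
        rw [hσmul, hσv₀, hsu, h, mul_assoc v₀ y, ← mul_assoc y y u]
        have := hVe.2 y hyV
        rw [pow_two] at this
        rw [this, one_mul]
      have hv₀u : v₀ * u ∈ V := by
        rcases (hfix _ (U.mul_mem (hVU hv₀V) hu)).mp hfixed with h' | h' <;> rw [h']
        · exact V.one_mem
        · exact hyV
      simpa using V.mul_mem (V.inv_mem hv₀V) hv₀u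
  have hwU' : ∀ u ∈ U, w * u * w⁻¹ ∈ U := fun u hu => (Subgroup.mem_normalizer_iff.mp hwU u).mp hu
  let σ : U →* U :=
    { toFun := fun u => ⟨w * u * w⁻¹, hwU' u u.2⟩
      map_one' := Subtype.ext (by simp)
      map_mul' := fun a b => Subtype.ext (hσmul a b) }
  set V' := V.subgroupOf U with hV'
  let ψ : U ⧸ V' →* U ⧸ V' := QuotientGroup.map V' V' σ (fun u hu => hVw u hu)
  have hψ : MonoidHom.FixedPointFree ψ := by
    intro q
    obtain ⟨u, rfl⟩ := QuotientGroup.mk_surjective q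
    intro hq
    change (QuotientGroup.mk (σ u) : U ⧸ V') = QuotientGroup.mk u at hq
    have hq' := hq
    rw [QuotientGroup.eq] at hq'
    refine (QuotientGroup.eq_one_iff u).mpr (hfpf u u.2 ?_)
    have h0 : (σ u)⁻¹ * u ∈ V' := hq'
    have h1 := (hVn.mem_comm h0)
    have h2 := V'.inv_mem h1
    rw [mul_inv_rev, inv_inv] at h2
    exact h2
  have hψ2 : Function.Involutive ψ := by
    intro q
    obtain ⟨u, rfl⟩ := QuotientGroup.mk_surjective q
    show (QuotientGroup.mk (σ (σ u)) : U ⧸ V') = QuotientGroup.mk u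
    rw [show σ (σ u) = u from Subtype.ext (hσσ u)]
  refine ⟨?_, hcard, ?_⟩
  · have hodd := hψ.odd_card_of_involutive hψ2
    intro h2
    exact (Nat.not_even_iff_odd.mpr hodd) (even_iff_two_dvd.mpr h2)
  · rw [Subgroup.commutator_le]
    intro a ha b hb
    have hab := hψ.commute_all_of_involutive hψ2 (QuotientGroup.mk ⟨a, ha⟩) (QuotientGroup.mk ⟨b, hb⟩)
    have h1 := (QuotientGroup.eq (s := V')).mp
      (show ((⟨b, hb⟩ * ⟨a, ha⟩ : U) : U ⧸ V') = ((⟨a, ha⟩ * ⟨b, hb⟩ : U) : U ⧸ V') from hab.symm.eq)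
    have h2 : (⟨a, ha⟩ : U) * ⟨b, hb⟩ * (⟨b, hb⟩ * ⟨a, ha⟩)⁻¹ ∈ V' := hVn.mem_comm h1
    have h3 : a * b * (b * a)⁻¹ ∈ V := h2
    rwa [commutatorElement_def, mul_assoc, ← mul_inv_rev]

end Cfsg.Agent.S3825
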