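import Cfsg.Statements.S3835
import Cfsg.Agent.Lib.Qd.Basic

set_option autoImplicit false
open Cfsg

namespace Cfsg.Agent.S3835

variable (p : ℕ) [Fact p.Prime]

/-- The affine action on the plane. -/
def affine (M : ↥(Cfsg.qd p)) (v : ZMod p × ZMod p) : ZMod p × ZMod p :=
  let m : Matrix (Fin 3) (Fin 3) (ZMod p) := ((M : Matrix.SpecialLinearGroup (Fin 3) (ZMod p)) : Matrix (Fin 3) (Fin 3) (ZMod p))
  (m 0 0 * v.1 + m 0 1 * v.2 + m 0 2, m 1 0 * v.1 + m 1 1 * v.2 + m 1 2)

theorem affine_el (a b c e x y : ZMod p) (h : a * e - b * c = 1) (v : ZMod p × ZMod p) :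
    affine p (Qd.el p a b c e x y h) v = (a * v.1 + b * v.2 + x, c * v.1 + e * v.2 + y) := by
  simp [affine, Qd.el]

theorem affine_mul (M N : ↥(Cfsg.qd p)) (v : ZMod p × ZMod p) :
    affine p (M * N) v = affine p M (affine p N v) := by
  obtain ⟨a, b, c, e, x, y, h, rfl⟩ := Qd.exists_el p M
  obtain ⟨a', b', c', e', x', y', h', rfl⟩ := Qd.exists_el p N
  rw [Qd.el_mul, affine_el, affine_el, affine_el]
  exact Prod.ext (by ring) (by ring)

theorem affine_one (v : ZMod p × ZMod p) : affine p 1 v = v := by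
  rw [← Qd.el_one, affine_el]
  simp

/-- The affine action as a permutation representation. -/
def affineHom : ↥(Cfsg.qd p) →* Equiv.Perm (ZMod p × ZMod p) :=
  MonoidHom.mk'
    (fun M =>
      { toFun := affine p M
        invFun := affine p M⁻¹
        left_inv := fun v => by rw [← affine_mul, inv_mul_cancel, affine_one]
        right_inv := fun v => by rw [← affine_mul, mul_inv_cancel, affine_one] })
    (fun M N => Equiv.ext (affine_mul p M N))

theorem affineHom_injective : Function.Injective (affineHom p) := by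
  intro M N hMN
  obtain ⟨a, b, c, e, x, y, h, rfl⟩ := Qd.exists_el p M
  obtain ⟨a', b', c', e', x', y', h', rfl⟩ := Qd.exists_el p N
  have hv : ∀ v : ZMod p × ZMod p, (a * v.1 + b * v.2 + x, c * v.1 + e * v.2 + y) =
      (a' * v.1 + b' * v.2 + x', c' * v.1 + e' * v.2 + y') := fun v => by
    have := Equiv.congr_fun hMN v
    rwa [show affineHom p (Qd.el p a b c e x y h) v = affine p (Qd.el p a b c e x y h) v from rfl,
      show affineHom p (Qd.el p a' b' c' e' x' y' _) v = affine p (Qd.el p a' b' c' e' x' y' _) v from rfl,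
      affine_el, affine_el] at this
  obtain ⟨h1, h2⟩ := Prod.mk.inj (hv (0, 0))
  obtain ⟨h3, h4⟩ := Prod.mk.inj (hv (1, 0))
  obtain ⟨h5, h6⟩ := Prod.mk.inj (hv (0, 1))
  simp only [mul_zero, mul_one, zero_add, add_zero] at h1 h2 h3 h4 h5 h6
  exact Qd.el_congr p (by linear_combination h3 - h1) (by linear_combination h5 - h1)
    (by linear_combination h4 - h2) (by linear_combination h6 - h2) h1 h2

/-- Homomorphisms into a group of exponent two are trivial for odd `p`. -/
theorem hom_eq_one (hp : p ≠ 2) {A : Type*} [Group A] (χ : ↥(Cfsg.qd p) →* A)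
    (hA : ∀ a : A, a ^ 2 = 1) : χ = 1 := by
  have key : ∀ g : ↥(Cfsg.qd p), g ^ p = 1 → g ∈ χ.ker := fun g hg => by
    have h1 : χ g ^ p = 1 := by rw [← map_pow, hg, map_one]
    have h2 := pow_gcd_eq_one.mpr ⟨h1, hA (χ g)⟩
    rwa [(Nat.coprime_primes Fact.out Nat.prime_two).mpr hp |>.gcd_eq_one, pow_one] at h2
  have hl : ∀ z : ZMod p, Qd.low p z ^ p = 1 := fun z => by
    rw [show z = -(-z) by ring, ← Qd.wgt_conj_up, conj_pow, Qd.up_pow, ZMod.natCast_self, zero_mul]
    rw [show Qd.up p (0 : ZMod p) = 1 from Qd.el_one p, mul_one, mul_inv_cancel]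
  have htop : χ.ker = ⊤ := Qd.eq_top_of_mem p
    (fun x y => key _ (by rw [Qd.tr_pow, ZMod.natCast_self, zero_mul, zero_mul, Qd.tr_zero]))
    (fun x => key _ (by rw [Qd.up_pow, ZMod.natCast_self, zero_mul]; exact Qd.el_one p))
    (fun x => key _ (hl x))
  exact MonoidHom.ext fun g => MonoidHom.mem_ker.mp (htop ▸ Subgroup.mem_top g)

/-- `Qd(p)` has a nonabelian `p`-subgroup. -/
theorem exists_nonabelian : ∃ T : Subgroup ↥(Cfsg.qd p), IsPGroup p T ∧ ¬ IsMulCommutative T := by
  haveI hn : (Qd.transE p).Normal := by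
    constructor
    rintro q ⟨u, v, rfl⟩ g
    obtain ⟨a, b, c, e, x, y, h, rfl⟩ := Qd.exists_el p g
    rw [Qd.conj_tr]
    exact Qd.tr_mem p _ _
  have hu : IsPGroup p (Subgroup.zpowers (Qd.up p (1 : ZMod p))) := fun q => by
    obtain ⟨_, ⟨i, rfl⟩⟩ := q
    refine ⟨1, Subtype.ext ?_⟩
    show (Qd.up p 1 ^ i) ^ p ^ 1 = 1
    rw [pow_one, ← zpow_natCast, ← zpow_mul, mul_comm, zpow_mul, zpow_natCast, Qd.up_pow,
      ZMod.natCast_self, zero_mul, show Qd.up p (0 : ZMod p) = 1 from Qd.el_one p, one_zpow]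
  refine ⟨Qd.transE p ⊔ Subgroup.zpowers (Qd.up p 1),
    (Qd.isPGroup_transE p).to_sup_of_normal_left hu, fun hab => ?_⟩
  have h : Qd.up p 1 * Qd.tr p 0 1 = Qd.tr p 0 1 * Qd.up p 1 := congrArg Subtype.val (hab.is_comm.comm
    ⟨Qd.up p 1, Subgroup.mem_sup_right (Subgroup.mem_zpowers _)⟩
    ⟨Qd.tr p 0 1, Subgroup.mem_sup_left (Qd.tr_mem p 0 1)⟩)
  simp only [Qd.up, Qd.tr, Qd.el_mul, Qd.el_eq_iff] at h
  simp at h

/-- The `p`-subgroups of a symmetric group of degree less than `p ^ 2` are abelian. -/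
theorem isMulCommutative_of_lt (n : ℕ) (hn : n < p ^ 2) (H : Subgroup (Equiv.Perm (Fin n))) (hH : IsPGroup p H) :
    IsMulCommutative H := by
  classical
  have hp : p.Prime := Fact.out
  set k := n / p with hk
  let t : (Multiplicative (Fin k → ZMod p)) →* Equiv.Perm (Fin k × ZMod p) :=
    MonoidHom.mk' (fun f =>
      { toFun := fun w => (w.1, w.2 + f.toAdd w.1)
        invFun := fun w => (w.1, w.2 - f.toAdd w.1)
        left_inv := fun w => by simp
        right_inv := fun w => by simp })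
      (fun f g => Equiv.ext fun w => by
        show (w.1, w.2 + (f.toAdd + g.toAdd) w.1) = (w.1, w.2 + g.toAdd w.1 + f.toAdd w.1)
        rw [Pi.add_apply]; congr 1; ring)
  have ht : Function.Injective t := fun f g h => by
    refine Multiplicative.toAdd.injective (funext fun i => ?_)
    have := congrArg Prod.snd (Equiv.congr_fun h (i, 0))
    simpa [t] using this
  obtain ⟨ι⟩ : Nonempty ((Fin k × ZMod p) ↪ Fin n) := by
    refine Function.Embedding.nonempty_of_card_le ?_
    rw [Fintype.card_prod, Fintype.card_fin, ZMod.card, Fintype.card_fin]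
    exact Nat.div_mul_le_self n p
  let s := (Equiv.Perm.viaEmbeddingHom ι).comp t
  have hs : Function.Injective s := (Equiv.Perm.viaEmbeddingHom_injective ι).comp ht
  have hv : (n.factorial).factorization p = k := by
    rw [Nat.factorization_def _ hp, padicValNat_factorial (b := 2) (Nat.log_lt_of_lt_pow' (by norm_num) hn)]
    simp [hk]
  let Q : Sylow p (Equiv.Perm (Fin n)) := Sylow.ofCard s.range (by
    rw [Nat.card_perm, Nat.card_fin, hv, ← Nat.card_congr (MonoidHom.ofInjective hs).toEquiv,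
      Nat.card_congr Multiplicative.toAdd, Nat.card_pi]
    simp)
  obtain ⟨P, hP⟩ := hH.exists_le_sylow
  obtain ⟨g, hg⟩ := MulAction.exists_smul_eq (Equiv.Perm (Fin n)) Q P
  have hPc : ∀ a ∈ (P : Subgroup (Equiv.Perm (Fin n))), ∀ b ∈ (P : Subgroup (Equiv.Perm (Fin n))), a * b = b * a := by
    intro a ha b hb
    rw [← hg, Sylow.coe_subgroup_smul] at ha hb
    obtain ⟨_, ⟨u, rfl⟩, rfl⟩ := ha
    obtain ⟨_, ⟨v, rfl⟩, rfl⟩ := hb
    simp only [MulDistribMulAction.toMonoidEnd_apply, MulDistribMulAction.toMonoidHom_apply]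
    rw [← smul_mul', ← smul_mul', ← map_mul, ← map_mul, mul_comm]
  exact ⟨⟨fun a b => Subtype.ext (hPc _ (hP a.2) _ (hP b.2))⟩⟩

variable {p}

theorem not_involves (n : ℕ) (hn : n < p ^ 2) :
    ¬ Cfsg.Involves ↥(Cfsg.qd p) ↥(alternatingGroup (Fin n)) := by
  rintro ⟨K, R, hR, ⟨e⟩⟩
  haveI := hR
  obtain ⟨T, hT, hTnc⟩ := exists_nonabelian p
  apply hTnc
  let f : K →* ↥(Cfsg.qd p) := e.toMonoidHom.comp (QuotientGroup.mk' (R.subgroupOf K))
  have hf : Function.Surjective f := e.surjective.comp (QuotientGroup.mk'_surjective _)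
  obtain ⟨S⟩ := (inferInstance : Nonempty (Sylow p K))
  let S' := S.mapSurjective hf
  obtain ⟨T', hT'⟩ := hT.exists_le_sylow
  obtain ⟨g, hg⟩ := MulAction.exists_smul_eq ↥(Cfsg.qd p) S' T'
  let j : K →* Equiv.Perm (Fin n) := (alternatingGroup (Fin n)).subtype.comp K.subtype
  have hj : Function.Injective j := Subtype.val_injective.comp Subtype.val_injective
  have hSc := isMulCommutative_of_lt p n hn _ (S.2.map j)
  refine ⟨⟨fun a b => Subtype.ext ?_⟩⟩
  have hc : ∀ x ∈ (T' : Subgroup ↥(Cfsg.qd p)), ∀ y ∈ (T' : Subgroup ↥(Cfsg.qd p)), x * y = y * x := by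
    intro x hx y hy
    rw [← hg, Sylow.coe_subgroup_smul] at hx hy
    obtain ⟨_, ⟨u, hu, rfl⟩, rfl⟩ := hx
    obtain ⟨_, ⟨v, hv, rfl⟩, rfl⟩ := hy
    simp only [MulDistribMulAction.toMonoidEnd_apply, MulDistribMulAction.toMonoidHom_apply]
    rw [← smul_mul', ← smul_mul', ← map_mul, ← map_mul]
    have := congrArg Subtype.val (hSc.is_comm.comm ⟨j u, u, hu, rfl⟩ ⟨j v, v, hv, rfl⟩)
    simp only [Subgroup.coe_mul, ← map_mul] at this
    rw [hj this]
  exact hc _ (hT' a.2) _ (hT' b.2)


/-- Let p be an odd prime and n a natural number. The alternating group of degree n has a subgroup isomorphic to Qd(p) (the natural semidirect product of an elementary abelian group of order p² by SL₂(p)) if and only if n ≥ p²; and if n < p² then Qd(p) is not even involved in it. -/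
theorem result {p : ℕ} [Fact p.Prime] (hp : p ≠ 2) (n : ℕ) : ((∃ H : Subgroup (alternatingGroup (Fin n)), Nonempty (↥H ≃* ↥(Cfsg.qd p))) ↔ p ^ 2 ≤ n) ∧ (n < p ^ 2 → ¬ Cfsg.Involves ↥(Cfsg.qd p) ↥(alternatingGroup (Fin n))) := by
  refine ⟨⟨fun ⟨H, ⟨e⟩⟩ => ?_, fun hn => ?_⟩, fun hn => not_involves n hn⟩
  · by_contra hlt
    haveI : ((⊥ : Subgroup (alternatingGroup (Fin n))).subgroupOf H).Normal := by
      rw [Subgroup.bot_subgroupOf]; infer_instance
    refine not_involves n (not_le.mp hlt) ⟨H, ⊥, this, ⟨?_⟩⟩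
    exact (QuotientGroup.quotientMulEquivOfEq (Subgroup.bot_subgroupOf (H := H))).trans
      ((QuotientGroup.quotientBot).trans e)
  · classical
    obtain ⟨ι⟩ : Nonempty ((ZMod p × ZMod p) ↪ Fin n) := by
      refine Function.Embedding.nonempty_of_card_le ?_
      rw [Fintype.card_prod, ZMod.card, Fintype.card_fin, ← pow_two]
      exact hn
    let f := (Equiv.Perm.viaEmbeddingHom ι).comp (affineHom p)
    have hev : ∀ g, f g ∈ alternatingGroup (Fin n) := fun g => by
      rw [Equiv.Perm.mem_alternatingGroup]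
      exact DFunLike.congr_fun (hom_eq_one p hp (Equiv.Perm.sign.comp f) (fun a => by
        rcases Int.units_eq_one_or a with h | h <;> simp [h])) g
    let f' := f.codRestrict (alternatingGroup (Fin n)) hev
    have hf' : Function.Injective f' := fun a b h =>
      ((Equiv.Perm.viaEmbeddingHom_injective ι).comp (affineHom_injective p)) (congrArg Subtype.val h)
    exact ⟨f'.range, ⟨(MonoidHom.ofInjective hf').symm⟩⟩

end Cfsg.Agent.S3835
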