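import Cfsg.Statements.S3838
import Cfsg.Agent.Lib.Transfer.Residual
import Cfsg.Agent.Lib.Solvable.SchurZassenhaus

set_option autoImplicit false
open Cfsg

namespace Cfsg.Agent.S3838

open Cfsg.Agent.Transfer
open scoped Pointwise commutatorElement

theorem map_commutator_equiv {A B : Type*} [Group A] [Group B] (e : A ≃* B) :
    (commutator A).map e.toMonoidHom = commutator B := by
  rw [commutator_def, commutator_def, Subgroup.map_commutator,
    Subgroup.map_top_of_surjective _ e.surjective]

theorem map_frattini_equiv {A B : Type*} [Group A] [Group B] (e : A ≃* B) :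
    (frattini A).map e.toMonoidHom = frattini B := by
  apply le_antisymm
  · exact Subgroup.map_le_iff_le_comap.mpr (frattini_le_comap_frattini_of_surjective e.surjective)
  · intro b hb
    exact ⟨e.symm b, frattini_le_comap_frattini_of_surjective (φ := e.symm.toMonoidHom) e.symm.surjective hb,
      e.apply_symm_apply b⟩

/-- If `N(P)` is `p`-nilpotent and `Q` is normal with `[P, P] ≤ Q ≤ Φ(P)`, then so is the group. -/
theorem core {M : Type*} [Group M] [Finite M] {p : ℕ} [Fact p.Prime] (P : Sylow p M)
    (Q : Subgroup M) [Q.Normal]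
    (hN : HasNormalPComplement p ↥(Subgroup.normalizer ((P : Subgroup M) : Set M)))
    (h1 : (commutator ↥(P : Subgroup M)).map (P : Subgroup M).subtype ≤ Q)
    (h2 : Q ≤ (frattini ↥(P : Subgroup M)).map (P : Subgroup M).subtype) :
    HasNormalPComplement p M := by
  classical
  have hp : p.Prime := Fact.out
  have hQP : Q ≤ (P : Subgroup M) := h2.trans (Subgroup.map_subtype_le _)
  have hQp : IsPGroup p Q := P.2.to_le hQP
  set π := QuotientGroup.mk' Q with hπ
  let Pb : Sylow p (M ⧸ Q) := P.mapSurjective (QuotientGroup.mk'_surjective Q)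
  have hcomap : ((Pb : Subgroup (M ⧸ Q))).comap π = (P : Subgroup M) := by
    show ((P : Subgroup M).map π).comap π = _
    rw [Subgroup.comap_map_eq, QuotientGroup.ker_mk', sup_eq_left.mpr hQP]
  -- the normalizer of the image centralizes the image
  have hcent : Subgroup.normalizer (Pb : Set (M ⧸ Q)) ≤ Subgroup.centralizer (Pb : Set (M ⧸ Q)) := by
    intro q hq
    obtain ⟨g, rfl⟩ := QuotientGroup.mk_surjective q
    have hg : g ∈ Subgroup.normalizer ((P : Subgroup M) : Set M) := by
      have hq' : π g ∈ Subgroup.normalizer ((Pb : Subgroup (M ⧸ Q)) : Set (M ⧸ Q)) := hq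
      rw [Subgroup.mem_normalizer_iff] at hq' ⊢
      intro y
      have := hq' (π y)
      rw [← map_inv, ← map_mul, ← map_mul, ← Subgroup.mem_comap, ← Subgroup.mem_comap, hcomap] at this
      exact this
    obtain ⟨x, y, hxy, hx, hy, ⟨k, hxo⟩, hyo⟩ := exists_pPart_mul (p := p)
      (⟨g, hg⟩ : ↥(Subgroup.normalizer ((P : Subgroup M) : Set M)))
    have hgxy : g = (x : M) * (y : M) := congrArg Subtype.val hxy
    -- the p-part lies in `P`
    have hxP : (x : M) ∈ (P : Subgroup M) := by
      have hpz : IsPGroup p ↥(Subgroup.zpowers (x : M)) :=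
        IsPGroup.of_card (n := k) (by rw [Nat.card_zpowers, Subgroup.orderOf_coe, hxo])
      have hmem : (x : M) ∈ Subgroup.zpowers (x : M) ⊓ Subgroup.normalizer (P : Set M) :=
        ⟨Subgroup.mem_zpowers _, x.2⟩
      rw [hpz.inf_normalizer_sylow P] at hmem
      exact hmem.2
    -- the p'-part centralizes `P`
    have hyC : y ∈ Subgroup.centralizer
        (((P : Subgroup M).subgroupOf (Subgroup.normalizer ((P : Subgroup M) : Set M)) : Subgroup _) : Set _) := by
      refine mem_centralizer_of_coprime hN (P.2.comap_of_injective _ Subtype.val_injective) ?_ hyo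
      rw [Subgroup.mem_normalizer_iff]
      intro z
      exact Subgroup.mem_normalizer_iff.mp y.2 z
    rintro z hz
    obtain ⟨c, hc, rfl⟩ := (show z ∈ (P : Subgroup M).map π from hz)
    have hyc : c * (y : M) = (y : M) * c :=
      congrArg Subtype.val (hyC ⟨c, Subgroup.le_normalizer hc⟩ hc)
    have hmem : (c * g) * (g * c)⁻¹ ∈ Q := by
      have e : (c * g) * (g * c)⁻¹ = c * (x : M) * c⁻¹ * (x : M)⁻¹ := by
        calc (c * g) * (g * c)⁻¹ = c * (x : M) * (y : M) * ((x : M) * ((y : M) * c))⁻¹ := by
              rw [hgxy]; group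
          _ = c * (x : M) * (y : M) * ((x : M) * (c * (y : M)))⁻¹ := by rw [hyc]
          _ = c * (x : M) * c⁻¹ * (x : M)⁻¹ := by group
      rw [e]
      exact h1 ⟨⁅(⟨c, hc⟩ : (P : Subgroup M)), ⟨x, hxP⟩⁆,
        Subgroup.commutator_mem_commutator (Subgroup.mem_top _) (Subgroup.mem_top _), rfl⟩
    show π c * π g = π g * π c
    rw [← map_mul, ← map_mul]
    have h3 := (QuotientGroup.eq_one_iff _).mpr hmem
    rw [QuotientGroup.mk_mul, QuotientGroup.mk_inv, mul_inv_eq_one] at h3
    exact h3
  have hbar : HasNormalPComplement p (M ⧸ Q) :=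
    ⟨Pb, _, MonoidHom.normal_ker _, MonoidHom.ker_transferSylow_isComplement' Pb hcent⟩
  -- the preimage of the complement
  set R := (pResidual p (M ⧸ Q)).comap π with hR
  have hRn : R.Normal := inferInstance
  obtain ⟨k, hk⟩ := exists_index_pResidual (G := M ⧸ Q) (p := p)
  have hRidx : R.index = p ^ k := by
    rw [hR, Subgroup.index_comap_of_surjective _ (QuotientGroup.mk'_surjective Q), hk]
  have hQR : Q ≤ R := fun x hx => by
    rw [hR, Subgroup.mem_comap, show π x = 1 from (QuotientGroup.eq_one_iff x).mpr hx]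
    exact one_mem _
  have hco : (Nat.card (pResidual p (M ⧸ Q))).Coprime p := hasNormalPComplement_iff_coprime.mp hbar
  have hrel : Q.relIndex R = Nat.card (pResidual p (M ⧸ Q)) := by
    have h := Subgroup.relIndex_comap (⊥ : Subgroup (M ⧸ Q)) π R
    rw [MonoidHom.comap_bot, QuotientGroup.ker_mk', Subgroup.relIndex_bot_left, hR,
      Subgroup.map_comap_eq_self_of_surjective (QuotientGroup.mk'_surjective Q)] at h
    exact h
  obtain ⟨a, ha⟩ := IsPGroup.iff_card.mp hQp
  have hcop' : (Nat.card ↥(Q.subgroupOf R)).Coprime (Q.subgroupOf R).index := by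
    rw [Nat.card_congr (Subgroup.subgroupOfEquivOfLe hQR).toEquiv, ha]
    show (p ^ a).Coprime (Q.relIndex R)
    rw [hrel]
    exact (hco.symm).pow_left a
  obtain ⟨K', hK'⟩ := Subgroup.exists_right_complement'_of_coprime hcop'
  set K := K'.map R.subtype with hK
  have hKcard : Nat.card K = Nat.card (pResidual p (M ⧸ Q)) := by
    rw [hK, Subgroup.card_map_of_injective R.subtype_injective, ← hrel]
    exact hK'.symm.index_eq_card.symm
  have hsup : K ⊔ Q = R := by
    have := congrArg (Subgroup.map R.subtype) hK'.sup_eq_top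
    rw [Subgroup.map_sup, Subgroup.map_subgroupOf_eq_of_le hQR, ← MonoidHom.range_eq_map,
      Subgroup.range_subtype, sup_comm] at this
    exact this
  have hKQ : (Nat.card K).Coprime (Nat.card Q) := by
    rw [hKcard, ha]; exact hco.pow_right a
  -- Frattini argument
  have hQs : Group.IsSolvable Q := by
    have := hQp.isNilpotent
    infer_instance
  have htop : Subgroup.normalizer (K : Set M) ⊔ Q = ⊤ := by
    rw [eq_top_iff]
    intro g _
    have hsup' : (MulAut.conj g • K) ⊔ Q = K ⊔ Q := by
      rw [hsup]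
      conv_rhs => rw [← show MulAut.conj g • R = R from Subgroup.Normal.map_conj_eq R g, ← hsup]
      rw [Subgroup.smul_sup, show MulAut.conj g • Q = Q from Subgroup.Normal.map_conj_eq Q g]
    have hcard' : Nat.card ↥(MulAut.conj g • K) = Nat.card K :=
      (Nat.card_congr (Subgroup.equivSMul (MulAut.conj g) K).toEquiv).symm
    obtain ⟨n, hn, hne⟩ := Cfsg.Agent.Solvable.exists_conj_of_sup_eq (Or.inl hQs) hsup'
      (hcard' ▸ hKQ) hKQ
    rw [smul_smul, ← map_mul] at hne
    have hng : n * g ∈ Subgroup.normalizer (K : Set M) := by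
      rw [Subgroup.mem_normalizer_iff_map_conj_eq]
      exact hne
    rw [show g = n⁻¹ * (n * g) by group]
    exact Subgroup.mul_mem _ (Subgroup.mem_sup_right (Q.inv_mem hn)) (Subgroup.mem_sup_left hng)
  have hPle : (P : Subgroup M) ≤ Subgroup.normalizer (K : Set M) := by
    have h3 : (Subgroup.normalizer (K : Set M)).subgroupOf (P : Subgroup M) ⊔ frattini ↥(P : Subgroup M) = ⊤ := by
      rw [eq_top_iff]
      rintro ⟨u, hu⟩ -
      have hu' : u ∈ Subgroup.normalizer (K : Set M) ⊔ Q := htop ▸ Subgroup.mem_top u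
      obtain ⟨a, ha', b, hb, rfl⟩ := Subgroup.mem_sup_of_normal_right.mp hu'
      obtain ⟨c, hc, hcb⟩ := h2 hb
      have haP : a ∈ (P : Subgroup M) := by
        simpa using (P : Subgroup M).mul_mem hu ((P : Subgroup M).inv_mem (hQP hb))
      rw [show (⟨a * b, hu⟩ : ↥(P : Subgroup M)) = ⟨a, haP⟩ * c from Subtype.ext (congrArg (a * ·) hcb.symm)]
      exact Subgroup.mul_mem _ (Subgroup.mem_sup_left ha') (Subgroup.mem_sup_right hc)
    exact Subgroup.subgroupOf_eq_top.mp (frattini_nongenerating h3)
  have hKn : K.Normal := by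
    rw [← Subgroup.normalizer_eq_top_iff, ← htop, sup_eq_left.mpr (hQP.trans hPle)]
  have hKidx : K.index = p ^ (a + k) := by
    have hKR : K ≤ R := Subgroup.map_subtype_le _
    rw [← Subgroup.relIndex_mul_index hKR, hRidx, pow_add, ← ha]
    congr 1
    rw [Subgroup.relIndex, hK, Subgroup.subgroupOf, Subgroup.comap_map_eq_self_of_injective R.subtype_injective,
      hK'.index_eq_card, Nat.card_congr (Subgroup.subgroupOfEquivOfLe hQR).toEquiv]
  rw [hasNormalPComplement_iff_coprime]
  exact Nat.Coprime.coprime_dvd_left (Subgroup.card_dvd_of_le (pResidual_le_of_index hKidx))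
    (hKcard ▸ hco)

/-- Let G be a finite group with Sylow p-subgroup P such that N_G(P) has a normal p-complement. Then N_G(Q) has a normal p-complement for every subgroup Q with [P, P] ≤ Q ≤ Φ(P). -/
theorem result {G : Type*} [Group G] [Finite G] {p : ℕ} [Fact p.Prime] (P : Sylow p G) (hN : Cfsg.HasNormalPComplement p ↥(Subgroup.normalizer ((P : Subgroup G) : Set G))) (Q : Subgroup G) (h1 : (commutator ↥(P : Subgroup G)).map (P : Subgroup G).subtype ≤ Q) (h2 : Q ≤ (frattini ↥(P : Subgroup G)).map (P : Subgroup G).subtype) : Cfsg.HasNormalPComplement p ↥(Subgroup.normalizer (Q : Set G)) := by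
  have hQP : Q ≤ (P : Subgroup G) := h2.trans (Subgroup.map_subtype_le _)
  set M := Subgroup.normalizer (Q : Set G) with hM
  have hPM : (P : Subgroup G) ≤ M := by
    intro x hx
    rw [hM, Subgroup.mem_normalizer_iff]
    intro y
    have key : ∀ u ∈ (P : Subgroup G), ∀ z ∈ Q, u * z * u⁻¹ ∈ Q := by
      intro u hu z hz
      have hc : u * z * u⁻¹ * z⁻¹ ∈ (commutator ↥(P : Subgroup G)).map (P : Subgroup G).subtype :=
        ⟨⁅(⟨u, hu⟩ : (P : Subgroup G)), ⟨z, hQP hz⟩⁆,
          Subgroup.commutator_mem_commutator (Subgroup.mem_top _) (Subgroup.mem_top _), rfl⟩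
      simpa [mul_assoc] using Q.mul_mem (h1 hc) hz
    refine ⟨key x hx y, fun h => ?_⟩
    simpa [mul_assoc] using key x⁻¹ ((P : Subgroup G).inv_mem hx) _ h
  refine core (P.subtype hPM) (Q.subgroupOf M) ?_ ?_ ?_
  · have hn := hasNormalPComplement_subgroup hN
      (M.subgroupOf (Subgroup.normalizer ((P : Subgroup G) : Set G)))
    let f : ↥(Subgroup.normalizer (((P.subtype hPM : Sylow p M) : Subgroup M) : Set M)) →*
        ↥(M.subgroupOf (Subgroup.normalizer ((P : Subgroup G) : Set G))) :=
      { toFun := fun y => ⟨⟨((y : M) : G), by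
          rw [Subgroup.mem_normalizer_iff]
          intro z
          have hy := Subgroup.mem_normalizer_iff.mp y.2
          constructor
          · intro hz
            exact (hy ⟨z, hPM hz⟩).mp hz
          · intro hz
            have hzM : z ∈ M := by
              simpa [mul_assoc] using M.mul_mem (M.mul_mem (M.inv_mem (y : M).2) (hPM hz)) (y : M).2
            exact (hy ⟨z, hzM⟩).mpr hz⟩, (y : M).2⟩
        map_one' := rfl
        map_mul' := fun _ _ => rfl }
    refine hasNormalPComplement_of_injective hn f ?_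
    intro a b hab
    exact Subtype.ext (Subtype.ext (congrArg
      (fun w : ↥(M.subgroupOf (Subgroup.normalizer ((P : Subgroup G) : Set G))) => ((w : ↥(Subgroup.normalizer ((P : Subgroup G) : Set G))) : G)) hab))
  · rintro _ ⟨c, hc, rfl⟩
    show (((c : ↥(P.subtype hPM : Subgroup M)) : M) : G) ∈ Q
    let e : ↥(P.subtype hPM : Subgroup M) ≃* ↥(P : Subgroup G) := Subgroup.subgroupOfEquivOfLe hPM
    apply h1
    exact ⟨e c, by rw [← map_commutator_equiv e]; exact ⟨c, hc, rfl⟩, rfl⟩
  · intro q hq
    obtain ⟨c, hc, hce⟩ := h2 hq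
    let e : ↥(P.subtype hPM : Subgroup M) ≃* ↥(P : Subgroup G) := Subgroup.subgroupOfEquivOfLe hPM
    refine ⟨e.symm c, ?_, Subtype.ext hce⟩
    rw [← map_frattini_equiv e.symm]
    exact ⟨c, hc, rfl⟩

end Cfsg.Agent.S3838
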