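import Cfsg.Statements.S3839
import Cfsg.Agent.Lib.Transfer.Alperin

set_option autoImplicit false
open Cfsg

namespace Cfsg.Agent.S3839

open scoped Pointwise

open Cfsg.Agent.Transfer

universe v

/-- Frattini argument: if the elements of order prime to `p` of the normalizer of a Sylow subgroup of a normal
subgroup `K` lie in `K`, then so do all such elements. -/
theorem mem_of_frattini {L : Type v} [Group L] [Finite L] {p : ℕ} [Fact p.Prime] (Q : Sylow p L)
    (K : Subgroup L) [K.Normal]
    (h : ∀ y ∈ Subgroup.normalizer ((K ⊓ (Q : Subgroup L) : Subgroup L) : Set L),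
      (orderOf y).Coprime p → y ∈ K)
    {n : L} (hn : (orderOf n).Coprime p) : n ∈ K := by
  have hidx : ¬ p ∣ ((Q : Subgroup L).subgroupOf K).index := by
    intro hd
    have h1 : ((Q : Subgroup L) ⊓ K).relIndex (Q : Subgroup L) * (Q : Subgroup L).relIndex ((Q : Subgroup L) ⊔ K) =
        ((Q : Subgroup L) ⊓ K).relIndex K * K.relIndex ((Q : Subgroup L) ⊔ K) := by
      rw [Subgroup.relIndex_mul_relIndex _ _ _ inf_le_left le_sup_left,
        Subgroup.relIndex_mul_relIndex _ _ _ inf_le_right le_sup_right]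
    rw [Subgroup.relIndex_sup_right, Subgroup.inf_relIndex_left, Subgroup.inf_relIndex_right,
      mul_comm ((Q : Subgroup L).relIndex K)] at h1
    change p ∣ (Q : Subgroup L).relIndex K at hd
    rw [← Nat.eq_of_mul_eq_mul_left (Nat.pos_of_ne_zero Subgroup.index_ne_zero_of_finite) h1] at hd
    exact Q.not_dvd_index (hd.trans (Subgroup.relIndex_dvd_index_of_le le_sup_left))
  let QK : Sylow p K := (Q.2.comap_of_injective K.subtype K.subtype_injective).toSylow hidx
  have hmap : QK.toSubgroup.map K.subtype = K ⊓ (Q : Subgroup L) := by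
    show ((Q : Subgroup L).subgroupOf K).map K.subtype = _
    rw [Subgroup.subgroupOf_map_subtype, inf_comm]
  have htop : Subgroup.normalizer ((K ⊓ (Q : Subgroup L) : Subgroup L) : Set L) ⊔ K = ⊤ := by
    rw [← hmap]
    exact Sylow.normalizer_sup_eq_top QK
  have hq : IsPGroup p (L ⧸ K) := by
    intro q
    obtain ⟨g, rfl⟩ := QuotientGroup.mk_surjective q
    obtain ⟨y, hy, k, hk, rfl⟩ := Subgroup.mem_sup_of_normal_right.mp (htop ▸ Subgroup.mem_top g)
    obtain ⟨u, z, huz, -, hz, ⟨a, ha⟩, hzc⟩ := exists_pPart_mul (p := p)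
      (⟨y, hy⟩ : ↥(Subgroup.normalizer ((K ⊓ (Q : Subgroup L) : Subgroup L) : Set L)))
    have hzK : (z : L) ∈ K := h _ z.2 (by rwa [Subgroup.orderOf_coe])
    refine ⟨a, ?_⟩
    rw [QuotientGroup.mk_mul, (QuotientGroup.eq_one_iff k).mpr hk, mul_one,
      show y = (u : L) * (z : L) from congrArg Subtype.val huz, QuotientGroup.mk_mul,
      (QuotientGroup.eq_one_iff (z : L)).mpr hzK, mul_one, ← QuotientGroup.mk_pow, ← ha, ← Subgroup.orderOf_coe,
      pow_orderOf_eq_one, QuotientGroup.mk_one]
  have := map_eq_one_of_coprime hq (QuotientGroup.mk' K) hn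
  exact (QuotientGroup.eq_one_iff n).mp this

theorem centralizes_of_local {M : Type v} [Group M] [Finite M] {p : ℕ} [Fact p.Prime] {V R : Subgroup M}
    (hV : Cfsg.HasNormalPComplement p ↥(Subgroup.normalizer (V : Set M))) (hR : IsPGroup p R)
    (hRV : R ≤ Subgroup.normalizer (V : Set M)) {y : M} (hyV : y ∈ Subgroup.normalizer (V : Set M))
    (hyR : y ∈ Subgroup.normalizer (R : Set M)) (hy : (orderOf y).Coprime p) :
    y ∈ Subgroup.centralizer (R : Set M) := by
  set N := Subgroup.normalizer (V : Set M)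
  have h := mem_centralizer_of_coprime hV (Q := R.subgroupOf N) (hR.comap_of_injective _ Subtype.val_injective)
    (g := ⟨y, hyV⟩) (Subgroup.mem_normalizer_iff.mpr fun z => Subgroup.mem_normalizer_iff.mp hyR (z : M))
    (by rwa [← Subgroup.orderOf_coe])
  rw [Subgroup.mem_centralizer_iff]
  intro z hz
  exact congrArg Subtype.val (Subgroup.mem_centralizer_iff.mp h ⟨z, hRV hz⟩ hz)

theorem core {M : Type v} [Group M] [Finite M] {p : ℕ} [Fact p.Prime] (P : Sylow p M) (D : Subgroup M)
    (hD : Cfsg.IsStronglyClosed D (P : Subgroup M)) (W : Subgroup M) [W.Normal] (hWD : W ≤ D)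
    (hW : ¬ D ⊓ Subgroup.centralizer (W : Set M) ≤ W)
    (hbig : ∀ V : Subgroup M, V ≤ D → W < V → Cfsg.HasNormalPComplement p ↥(Subgroup.normalizer (V : Set M))) :
    Cfsg.HasNormalPComplement p M := by
  classical
  obtain ⟨hDP, hclosed⟩ := hD
  have hDconj : ∀ u ∈ (P : Subgroup M), ∀ d ∈ D, u * d * u⁻¹ ∈ D := fun u hu d hd =>
    hclosed d hd u ((P : Subgroup M).mul_mem ((P : Subgroup M).mul_mem hu (hDP hd)) ((P : Subgroup M).inv_mem hu))
  have hWp : IsPGroup p W := P.2.to_le (hWD.trans hDP)
  -- elements of order prime to `p` centralize `W`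
  have hcW : ∀ n : M, (orderOf n).Coprime p → n ∈ Subgroup.centralizer (W : Set M) := by
    intro n hn
    refine mem_of_frattini P (Subgroup.centralizer (W : Set M)) (fun y hy hyc => ?_) hn
    set V := W ⊔ (Subgroup.centralizer (W : Set M) ⊓ (P : Subgroup M) ⊓ D) with hV
    have hVD : V ≤ D := sup_le hWD inf_le_right
    have hlt : W < V := lt_of_le_of_ne le_sup_left fun he => hW fun d hd =>
      he ▸ (le_sup_right : _ ≤ V) ⟨⟨hd.2, hDP hd.1⟩, hd.1⟩
    have hyV : y ∈ Subgroup.normalizer (V : Set M) := by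
      rw [Subgroup.mem_normalizer_iff_map_conj_eq]
      refine Subgroup.eq_of_le_of_card_ge ?_ (Subgroup.card_map_of_injective (MulAut.conj y).injective).ge
      rw [hV, Subgroup.map_sup]
      refine sup_le_sup (le_of_eq (Subgroup.Normal.map_conj_eq W y)) ?_
      rintro _ ⟨d, hd, rfl⟩
      have h1 := (Subgroup.mem_normalizer_iff.mp hy d).mp hd.1
      exact ⟨h1, hclosed d hd.2 y h1.2⟩
    have hWV : W ≤ Subgroup.normalizer (V : Set M) := le_sup_left.trans Subgroup.le_normalizer
    exact centralizes_of_local (hbig V hVD hlt) hWp hWV hyV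
      (by rw [Subgroup.normalizer_eq_top_iff.mpr inferInstance]; exact Subgroup.mem_top y) hyc
  -- the key case: fully normalized subgroups containing `W`
  have key : ∀ R : Subgroup M, IsFullyNormalized p (P : Subgroup M) R → W ≤ R →
      ∀ n ∈ Subgroup.normalizer (R : Set M), (orderOf n).Coprime p → n ∈ Subgroup.centralizer (R : Set M) := by
    intro R hR hWR n hn hnc
    obtain ⟨hRP, hRi⟩ := hR
    have hRp : IsPGroup p R := P.2.to_le hRP
    rcases (le_inf hWR hWD : W ≤ R ⊓ D).eq_or_lt with hRD | hlt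
    swap
    · have hnorm : Subgroup.normalizer (R : Set M) ≤ Subgroup.normalizer ((R ⊓ D : Subgroup M) : Set M) := by
        intro y hy
        rw [Subgroup.mem_normalizer_iff_map_conj_eq]
        refine Subgroup.eq_of_le_of_card_ge ?_ (Subgroup.card_map_of_injective (MulAut.conj y).injective).ge
        rintro _ ⟨d, hd, rfl⟩
        have h1 := (Subgroup.mem_normalizer_iff.mp hy d).mp hd.1
        exact ⟨h1, hclosed d hd.2 y (hRP h1)⟩
      exact centralizes_of_local (hbig _ inf_le_right hlt) hRp (Subgroup.le_normalizer.trans hnorm) (hnorm hn) hn hnc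
    set L := Subgroup.normalizer (R : Set M) with hL
    let π := QuotientGroup.mk' W
    let C0 : Subgroup M := (Subgroup.centralizer ((R.map π : Subgroup (M ⧸ W)) : Set (M ⧸ W))).comap π
    have hC0 : ∀ c, c ∈ C0 ↔ ∀ x ∈ R, c * x * c⁻¹ * x⁻¹ ∈ W := by
      intro c
      rw [Subgroup.mem_comap, Subgroup.mem_centralizer_iff]
      constructor
      · intro h x hx
        have := h (π x) ⟨x, hx, rfl⟩
        rw [← QuotientGroup.eq_one_iff]
        simp only [QuotientGroup.mk_mul, QuotientGroup.mk_inv]
        rw [show (c : M ⧸ W) * x = x * c from this.symm]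
        group
      · rintro h _ ⟨x, hx, rfl⟩
        have := (QuotientGroup.eq_one_iff _).mpr (h x hx)
        simp only [QuotientGroup.mk_mul, QuotientGroup.mk_inv] at this
        rw [mul_inv_eq_one, mul_inv_eq_iff_eq_mul] at this
        exact this.symm
    have hC0n : ∀ u ∈ L, ∀ c ∈ C0, u * c * u⁻¹ ∈ C0 := by
      intro u hu c hc
      rw [hC0] at hc ⊢
      intro x hx
      have hx' : u⁻¹ * x * u ∈ R := by
        have := (Subgroup.mem_normalizer_iff.mp (L.inv_mem hu) x).mp hx
        rwa [inv_inv] at this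
      have := (inferInstance : W.Normal).conj_mem _ (hc _ hx') u
      convert this using 1
      group
    let K : Subgroup L := C0.subgroupOf L
    haveI : K.Normal := ⟨fun c hc u => hC0n u u.2 c hc⟩
    let Q : Sylow p L := (P.2.comap_of_injective L.subtype L.subtype_injective).toSylow (by
      show ¬ p ∣ (P : Subgroup M).relIndex L
      rwa [← Subgroup.inf_relIndex_right])
    have hQ : ∀ u : L, u ∈ (Q : Subgroup L) ↔ (u : M) ∈ (P : Subgroup M) := fun u => Iff.rfl
    -- an element of `D` normalizing `R` outside `W`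
    obtain ⟨d, hdD, hdW, hdN⟩ : ∃ d ∈ D, d ∉ W ∧ d ∈ L := by
      have hRnD : R ≤ Subgroup.normalizer (D : Set M) := by
        intro u hu
        rw [Subgroup.mem_normalizer_iff_map_conj_eq]
        refine Subgroup.eq_of_le_of_card_ge ?_ (Subgroup.card_map_of_injective (MulAut.conj u).injective).ge
        rintro _ ⟨d, hd, rfl⟩
        exact hDconj u (hRP hu) d hd
      obtain ⟨d₀, hd₀, hd₀W⟩ : ∃ d ∈ D, d ∉ W := by
        by_contra hno
        push Not at hno
        exact hW fun d hd => hno d hd.1
      set S := R ⊔ D with hS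
      have hSP : S ≤ (P : Subgroup M) := sup_le hRP hDP
      haveI := (P.2.to_le hSP).isNilpotent
      have hlt : R.subgroupOf S < ⊤ := lt_top_iff_ne_top.mpr fun he =>
        hd₀W (hRD ▸ ⟨Subgroup.subgroupOf_eq_top.mp he (Subgroup.mem_sup_right hd₀), hd₀⟩)
      obtain ⟨⟨y, hyS⟩, hy1, hy2⟩ := SetLike.exists_of_lt (Group.normalizerCondition_of_isNilpotent _ hlt)
      have hyL : y ∈ L := by
        rw [hL, Subgroup.mem_normalizer_iff]
        rw [Subgroup.mem_normalizer_iff] at hy1
        intro x
        constructor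
        · intro hx
          exact (hy1 ⟨x, Subgroup.mem_sup_left hx⟩).mp hx
        · intro hx
          have hxS : x ∈ S := by
            simpa [mul_assoc] using S.mul_mem (S.mul_mem (S.inv_mem hyS) (Subgroup.mem_sup_left hx)) hyS
          exact (hy1 ⟨x, hxS⟩).mpr hx
      have hyRD : y ∈ (R : Set M) * (D : Set M) := by
        rw [← Subgroup.coe_mul_of_left_le_normalizer_right R D hRnD]
        exact hyS
      obtain ⟨r, hr, d, hd, rfl⟩ := hyRD
      refine ⟨d, hd, fun hdW => hy2 (R.mul_mem hr (hWR hdW)), ?_⟩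
      have hinv : r⁻¹ ∈ L := L.inv_mem (Subgroup.le_normalizer hr)
      simpa using L.mul_mem hinv hyL
    have hfr : (⟨n, hn⟩ : L) ∈ K := by
      refine mem_of_frattini Q K (fun y hy hyc => ?_) (by rwa [← Subgroup.orderOf_coe])
      set T := (K ⊓ (Q : Subgroup L)).map L.subtype with hT
      set V := T ⊓ D with hV
      have hWV : W ≤ V := by
        refine le_inf ?_ hWD
        intro w hw
        refine ⟨⟨w, Subgroup.le_normalizer (hWR hw)⟩, ⟨?_, (hQ _).mpr (hDP (hWD hw))⟩, rfl⟩
        refine (hC0 w).mpr fun x _ => ?_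
        rw [show w * x * w⁻¹ * x⁻¹ = w * (x * w⁻¹ * x⁻¹) by group]
        exact W.mul_mem hw ((inferInstance : W.Normal).conj_mem _ (W.inv_mem hw) x)
      have hdV : d ∈ V := by
        refine ⟨⟨⟨d, hdN⟩, ⟨?_, (hQ _).mpr (hDP hdD)⟩, rfl⟩, hdD⟩
        refine (hC0 d).mpr fun x hx => ?_
        rw [hRD]
        refine ⟨R.mul_mem ((Subgroup.mem_normalizer_iff.mp hdN x).mp hx) (R.inv_mem hx), ?_⟩
        rw [show d * x * d⁻¹ * x⁻¹ = d * (x * d⁻¹ * x⁻¹) by group]
        exact D.mul_mem hdD (hDconj x (hRP hx) _ (D.inv_mem hdD))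
      have hyV : (y : M) ∈ Subgroup.normalizer (V : Set M) := by
        rw [Subgroup.mem_normalizer_iff_map_conj_eq]
        refine Subgroup.eq_of_le_of_card_ge ?_ (Subgroup.card_map_of_injective (MulAut.conj (y : M)).injective).ge
        rintro _ ⟨z, ⟨⟨⟨z', hz'⟩, hz1, rfl⟩, hz2⟩, rfl⟩
        have h1 := (Subgroup.mem_normalizer_iff.mp hy _).mp hz1
        exact ⟨⟨_, h1, rfl⟩, hclosed _ hz2 (y : M) ((hQ _).mp h1.2)⟩
      have hRV : R ≤ Subgroup.normalizer (V : Set M) := by
        intro u hu
        have huL : u ∈ L := Subgroup.le_normalizer hu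
        rw [Subgroup.mem_normalizer_iff_map_conj_eq]
        refine Subgroup.eq_of_le_of_card_ge ?_ (Subgroup.card_map_of_injective (MulAut.conj u).injective).ge
        rintro _ ⟨z, ⟨⟨⟨z', hz'⟩, hz1, rfl⟩, hz2⟩, rfl⟩
        refine ⟨⟨⟨u, huL⟩ * ⟨z', hz'⟩ * ⟨u, huL⟩⁻¹, ⟨hC0n u huL z' hz1.1, ?_⟩, rfl⟩, hDconj u (hRP hu) _ hz2⟩
        exact (P : Subgroup M).mul_mem ((P : Subgroup M).mul_mem (hRP hu) ((hQ _).mp hz1.2))
          ((P : Subgroup M).inv_mem (hRP hu))
      have hc := centralizes_of_local (hbig V inf_le_right (lt_of_le_of_ne hWV fun he => hdW (he ▸ hdV)))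
        hRp hRV hyV y.2 (by rwa [Subgroup.orderOf_coe])
      refine (hC0 (y : M)).mpr fun x hx => ?_
      rw [show (y : M) * x = x * y from (Subgroup.mem_centralizer_iff.mp hc x hx).symm, mul_inv_cancel_right,
        mul_inv_cancel]
      exact W.one_mem
    -- trivial on `W` and on `R / W`
    rw [Subgroup.mem_centralizer_iff]
    intro x hx
    set w := x⁻¹ * (n * x * n⁻¹) with hw
    have hwW : w ∈ W := by
      have h1 := (hC0 n).mp hfr x hx
      have h2 := (inferInstance : W.Normal).conj_mem _ h1 x⁻¹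
      convert h2 using 1
      rw [hw]; group
    have hiter : ∀ k : ℕ, n ^ k * x * (n ^ k)⁻¹ = x * w ^ k := by
      intro k
      induction k with
      | zero => simp
      | succ k ih =>
        have hnw : Commute n (w ^ k) :=
          (show Commute n w from (Subgroup.mem_centralizer_iff.mp (hcW n hnc) w hwW).symm).pow_right k
        calc n ^ (k + 1) * x * (n ^ (k + 1))⁻¹ = n * (n ^ k * x * (n ^ k)⁻¹) * n⁻¹ := by rw [pow_succ']; group
          _ = (n * x * n⁻¹) * (n * w ^ k * n⁻¹) := by rw [ih]; group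
          _ = x * w * w ^ k := by rw [hnw.eq, mul_inv_cancel_right, hw, mul_inv_cancel_left]
          _ = x * w ^ (k + 1) := by rw [pow_succ', mul_assoc]
    have hw1 : w ^ orderOf n = 1 := by
      have := hiter (orderOf n)
      rw [pow_orderOf_eq_one, one_mul, inv_one, mul_one] at this
      exact left_eq_mul.mp this
    obtain ⟨k, hk⟩ := hWp ⟨w, hwW⟩
    have hk' : w ^ p ^ k = 1 := by simpa using congrArg Subtype.val hk
    have h3 := pow_gcd_eq_one.mpr ⟨hw1, hk'⟩
    rw [(hnc.pow_right k).gcd_eq_one, pow_one, hw, inv_mul_eq_one] at h3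
    exact (eq_mul_inv_iff_mul_eq.mp h3)
  refine hasNormalPComplement_of_local P fun R hR _ n hn hnc => ?_
  set R' := R ⊔ W with hR'
  have hnR' : n ∈ Subgroup.normalizer (R' : Set M) := by
    rw [Subgroup.mem_normalizer_iff_map_conj_eq, hR', Subgroup.map_sup,
      Subgroup.mem_normalizer_iff_map_conj_eq.mp hn]
    congr 1
    exact Subgroup.Normal.map_conj_eq W n
  obtain ⟨a, ha⟩ := exists_fullyNormalized_conj P (P.2.to_le (sup_le hR.1 (hWD.trans hDP)) : IsPGroup p ↥R')
  have hWa : W ≤ R'.map (MulAut.conj a).toMonoidHom :=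
    (Subgroup.Normal.map_conj_eq W a).ge.trans (Subgroup.map_mono le_sup_right)
  have hna : a * n * a⁻¹ ∈ Subgroup.normalizer ((R'.map (MulAut.conj a).toMonoidHom : Subgroup M) : Set M) := by
    rw [← map_conj_normalizer]
    exact ⟨n, hnR', rfl⟩
  have hc := key _ ha hWa _ hna (by rwa [← MulAut.conj_apply, MulEquiv.orderOf_eq])
  rw [Subgroup.mem_centralizer_iff]
  intro x hx
  have h1 := Subgroup.mem_centralizer_iff.mp hc (a * x * a⁻¹) ⟨x, Subgroup.mem_sup_left hx, rfl⟩
  have e1 : a * x * a⁻¹ * (a * n * a⁻¹) = a * (x * n) * a⁻¹ := by group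
  have e2 : a * n * a⁻¹ * (a * x * a⁻¹) = a * (n * x) * a⁻¹ := by group
  rw [e1, e2] at h1
  exact mul_left_cancel (mul_right_cancel h1)


/-- A Frobenius normal p-complement criterion relative to a strongly closed subgroup. Let G be a finite group, S a Sylow p-subgroup and D a subgroup of S strongly closed in S with respect to G. Then G has a normal p-complement if and only if N_G(U) has a normal p-complement for every subgroup U of D with C_D(U) ≤ U. -/
theorem result {G : Type*} [Group G] [Finite G] {p : ℕ} [Fact p.Prime] (S : Sylow p G) (D : Subgroup G) (hD : Cfsg.IsStronglyClosed D (S : Subgroup G)) : Cfsg.HasNormalPComplement p G ↔ ∀ U : Subgroup G, U ≤ D → D ⊓ Subgroup.centralizer (U : Set G) ≤ U → Cfsg.HasNormalPComplement p ↥(Subgroup.normalizer (U : Set G)) := by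
  refine ⟨fun h U _ _ => hasNormalPComplement_subgroup h _, fun h => ?_⟩
  obtain ⟨hDS, hclosed⟩ := hD
  suffices hall : ∀ (m : ℕ) (W : Subgroup G), W ≤ D → Nat.card D - Nat.card W = m →
      Cfsg.HasNormalPComplement p ↥(Subgroup.normalizer (W : Set G)) by
    have hb := hall _ ⊥ bot_le rfl
    have htop : Subgroup.normalizer ((⊥ : Subgroup G) : Set G) = ⊤ :=
      Subgroup.normalizer_eq_top_iff.mpr inferInstance
    exact hasNormalPComplement_of_equiv hb ((MulEquiv.subgroupCongr htop).trans Subgroup.topEquiv)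
  intro m
  induction m using Nat.strong_induction_on with
  | _ m ih =>
    intro W hWD hm
    obtain ⟨a, haS, hai⟩ := exists_fullyNormalized_conj S (S.2.to_le (hWD.trans hDS))
    set W' := W.map (MulAut.conj a).toMonoidHom with hW'
    have hW'D : W' ≤ D := by
      rintro _ ⟨w, hw, rfl⟩
      exact hclosed w (hWD hw) a (haS ⟨w, hw, rfl⟩)
    suffices hgoal : Cfsg.HasNormalPComplement p ↥(Subgroup.normalizer (W' : Set G)) by
      exact hasNormalPComplement_of_equiv hgoal
        (((MulAut.conj a).subgroupMap (Subgroup.normalizer (W : Set G))).trans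
          (MulEquiv.subgroupCongr (map_conj_normalizer W a))).symm
    by_cases hcase : D ⊓ Subgroup.centralizer (W' : Set G) ≤ W'
    · exact h W' hW'D hcase
    set M := Subgroup.normalizer (W' : Set G) with hM
    let PM : Sylow p M := (S.2.comap_of_injective M.subtype M.subtype_injective).toSylow (by
      show ¬ p ∣ (S : Subgroup G).relIndex M
      rwa [← Subgroup.inf_relIndex_right])
    haveI : (W'.subgroupOf M).Normal := Subgroup.normal_in_normalizer
    refine core PM (D.subgroupOf M) ⟨fun x hx => hDS hx, fun x hx g hg => hclosed _ hx _ hg⟩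
      (W'.subgroupOf M) (fun x hx => hW'D hx) ?_ ?_
    · intro hle
      apply hcase
      intro d hd
      have hdM : d ∈ M := Subgroup.centralizer_le_normalizer _ hd.2
      refine hle (x := ⟨d, hdM⟩) ⟨hd.1, Subgroup.mem_centralizer_iff.mpr fun z hz => ?_⟩
      exact Subtype.ext (Subgroup.mem_centralizer_iff.mp hd.2 z hz)
    · intro V hVD hlt
      set V' := V.map M.subtype with hV'
      have hV'D : V' ≤ D := by
        rintro _ ⟨z, hz, rfl⟩
        exact hVD hz
      have hlt' : Nat.card W < Nat.card V' := by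
        rw [← card_map_conj W a, ← hW', hV', Subgroup.card_map_of_injective M.subtype_injective,
          ← Nat.card_congr (Subgroup.subgroupOfEquivOfLe (Subgroup.le_normalizer : W' ≤ M)).toEquiv]
        exact lt_of_le_of_ne (Subgroup.card_le_of_le hlt.le)
          fun he => hlt.ne (Subgroup.eq_of_le_of_card_ge hlt.le he.ge)
      have hle' : Nat.card V' ≤ Nat.card D := Subgroup.card_le_of_le hV'D
      have hN := ih (Nat.card D - Nat.card V') (by omega) V' hV'D rfl
      let f : ↥(Subgroup.normalizer (V : Set M)) →* ↥(Subgroup.normalizer (V' : Set G)) :=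
        (M.subtype.comp (Subgroup.normalizer (V : Set M)).subtype).codRestrict _ (fun y => by
          show ((y : M) : G) ∈ _
          have hy := Subgroup.mem_normalizer_iff_map_conj_eq.mp y.2
          rw [Subgroup.mem_normalizer_iff_map_conj_eq, hV', Subgroup.map_map]
          conv_rhs => rw [← hy, Subgroup.map_map]
          congr 1)
      exact hasNormalPComplement_of_injective hN f
        (fun x y hxy => Subtype.ext (Subtype.ext
          (congrArg (fun z : ↥(Subgroup.normalizer (V' : Set G)) => (z : G)) hxy)))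

end Cfsg.Agent.S3839
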