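import Cfsg.Statements.S3858
import Cfsg.Agent.EqLemmas

set_option autoImplicit false
open Cfsg

namespace Cfsg.Agent.S3858

/-- Let G be a finite group with a normal non-abelian simple subgroup T whose centralizer is trivial (G almost simple with socle T), r a prime and R a Sylow r-subgroup of G meeting T nontrivially. Then R lies in exactly one maximal subgroup of G if and only if G has exactly one conjugacy class of maximal subgroups whose index is prime to r. -/
theorem result {G : Type*} [Group G] [Finite G] (T : Subgroup G) [T.Normal] (hT : IsSimpleGroup T) (hna : ¬ IsMulCommutative T)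
    (hC : Subgroup.centralizer (T : Set G) = ⊥) {r : ℕ} [Fact r.Prime] (R : Sylow r G) (hR0 : (R : Subgroup G) ⊓ T ≠ ⊥) :
    (∃! M : Subgroup G, IsCoatom M ∧ (R : Subgroup G) ≤ M) ↔
      ((∃ M : Subgroup G, IsCoatom M ∧ ¬ r ∣ M.index) ∧
        ∀ M₁ M₂ : Subgroup G, IsCoatom M₁ → ¬ r ∣ M₁.index → IsCoatom M₂ → ¬ r ∣ M₂.index → ∃ g : G, M₂ = M₁.map (MulAut.conj g).toMonoidHom) := by
  classical
  have hmem : ∀ (K : Subgroup G) (c z : G), z ∈ K.map (MulAut.conj c).toMonoidHom ↔ c⁻¹ * z * c ∈ K := by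
    intro K c z
    constructor
    · rintro ⟨w, hw, rfl⟩
      simpa [mul_assoc] using hw
    · intro hz
      exact ⟨_, hz, by simp [mul_assoc]⟩
  have hfix : ∀ (K : Subgroup G), ∀ m ∈ K, K.map (MulAut.conj m).toMonoidHom = K := by
    intro K m hm
    ext z
    rw [hmem]
    constructor
    · intro h
      simpa [mul_assoc] using K.mul_mem (K.mul_mem hm h) (K.inv_mem hm)
    · intro h
      exact K.mul_mem (K.mul_mem (K.inv_mem hm) h) hm
  -- Sylow subgroup of `G` inside a subgroup of index prime to `r`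
  have hsyl : ∀ (M : Subgroup G), ¬ r ∣ M.index → ∃ g : G, (g • R : Sylow r G).toSubgroup ≤ M := by
    intro M hM
    obtain ⟨Q⟩ := (inferInstance : Nonempty (Sylow r M))
    have hQ : ¬ r ∣ (Q.toSubgroup.map M.subtype).index := by
      rw [Subgroup.index_map_subtype]
      exact (Nat.Prime.not_dvd_mul Fact.out Q.not_dvd_index hM)
    let S : Sylow r G := (Q.2.map M.subtype).toSylow hQ
    obtain ⟨g, hg⟩ := MulAction.exists_smul_eq G R S
    exact ⟨g, hg ▸ Subgroup.map_subtype_le _⟩
  have hdvd : ∀ (M : Subgroup G), (R : Subgroup G) ≤ M → ¬ r ∣ M.index := fun M hM hd =>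
    R.not_dvd_index (hd.trans (Subgroup.index_dvd_of_le hM))
  constructor
  · rintro ⟨M, ⟨hMc, hRM⟩, hMu⟩
    refine ⟨⟨M, hMc, hdvd M hRM⟩, ?_⟩
    have key : ∀ M₁ : Subgroup G, IsCoatom M₁ → ¬ r ∣ M₁.index →
        ∃ g : G, M₁ = M.map (MulAut.conj g).toMonoidHom := by
      intro M₁ hc hi
      obtain ⟨g, hg⟩ := hsyl M₁ hi
      refine ⟨g, ?_⟩
      have hle : (R : Subgroup G) ≤ M₁.map (MulAut.conj g⁻¹).toMonoidHom := by
        intro z hz
        rw [hmem, inv_inv]
        exact hg (by rw [Sylow.coe_subgroup_smul]; exact ⟨z, hz, by simp⟩)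
      have hc' : IsCoatom (M₁.map (MulAut.conj g⁻¹).toMonoidHom) :=
        ((MulEquiv.mapSubgroup (MulAut.conj g⁻¹)).isCoatom_iff M₁).mpr hc
      have := hMu _ ⟨hc', hle⟩
      rw [← this]
      ext z
      rw [hmem, hmem]
      simp [mul_assoc]
    intro M₁ M₂ hc₁ hi₁ hc₂ hi₂
    obtain ⟨a, rfl⟩ := key M₁ hc₁ hi₁
    obtain ⟨b, rfl⟩ := key M₂ hc₂ hi₂
    refine ⟨b * a⁻¹, ?_⟩
    ext z
    rw [hmem, hmem, hmem]
    simp [mul_assoc]
  · rintro ⟨-, hconj⟩
    have hN : Subgroup.normalizer ((R : Subgroup G) : Set G) ≠ ⊤ := by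
      intro htop
      have hRn : (R : Subgroup G).Normal := Subgroup.normalizer_eq_top_iff.mp htop
      have hDn' : ((R : Subgroup G).subgroupOf T).Normal := hRn.subgroupOf T
      rcases hT.eq_bot_or_eq_top_of_normal _ hDn' with hb | ht
      · rw [Subgroup.subgroupOf_eq_bot, disjoint_iff] at hb
        exact hR0 hb
      · have hTp : IsPGroup r T := R.2.to_le (Subgroup.subgroupOf_eq_top.mp ht)
        have : Nontrivial T := hT.toNontrivial
        have := hTp.center_nontrivial
        rcases hT.eq_bot_or_eq_top_of_normal (Subgroup.center T) inferInstance with hb | ht'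
        · exact (Subgroup.center T).nontrivial_iff_ne_bot.mp this hb
        · exact hna ⟨⟨fun a b => (Subgroup.mem_center_iff.mp (ht' ▸ Subgroup.mem_top b) a)⟩⟩
    obtain ⟨M, hMc, hle⟩ := (eq_top_or_exists_le_coatom _).resolve_left hN
    have hRM : (R : Subgroup G) ≤ M := Subgroup.le_normalizer.trans hle
    refine ⟨M, ⟨hMc, hRM⟩, ?_⟩
    rintro M' ⟨hc', hle'⟩
    obtain ⟨g, hg⟩ := hconj M M' hMc (hdvd M hRM) hc' (hdvd M' hle')
    have hleg : (g⁻¹ • R : Sylow r G).toSubgroup ≤ M := by
      rw [Sylow.coe_subgroup_smul]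
      rintro _ ⟨z, hz, rfl⟩
      have := (hmem M g z).mp (hg ▸ hle' hz)
      simpa using this
    obtain ⟨m, hm⟩ := MulAction.exists_smul_eq M (R.subtype hRM) ((g⁻¹ • R).subtype hleg)
    have hm' : ((m : G) • R : Sylow r G) = g⁻¹ • R := by
      have h' := (Sylow.smul_subtype hRM m).symm.trans hm
      exact Sylow.subtype_injective h'
    have hgm : g * (m : G) ∈ M := by
      apply hle
      have hs : (g * (m : G)) • R = R := by rw [mul_smul, hm', smul_inv_smul]
      simpa using Sylow.smul_eq_iff_mem_normalizer.mp hs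
    have hgM : g ∈ M := by
      simpa using M.mul_mem hgm (M.inv_mem m.2)
    rw [hg, hfix M g hgM]

end Cfsg.Agent.S3858
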