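import Cfsg.Statements.S3859
import Cfsg.Agent.EqLemmas

set_option autoImplicit false
open Cfsg

namespace Cfsg.Agent.S3859

/-- Let G be a finite group with a normal non-abelian simple subgroup T whose centralizer is trivial (G almost simple with socle T), r a prime and R a Sylow r-subgroup of G meeting T nontrivially. If R lies in exactly one maximal subgroup of G, then G/T is an r-group. -/
theorem result {G : Type*} [Group G] [Finite G] (T : Subgroup G) [T.Normal] (hT : IsSimpleGroup T) (hna : ¬ IsMulCommutative T)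
    (hC : Subgroup.centralizer (T : Set G) = ⊥) {r : ℕ} [Fact r.Prime] (R : Sylow r G) (hR0 : (R : Subgroup G) ⊓ T ≠ ⊥)
    (huniq : ∃! M : Subgroup G, IsCoatom M ∧ (R : Subgroup G) ≤ M) : IsPGroup r (G ⧸ T) := by
  classical
  obtain ⟨M, ⟨hMc, hRM⟩, hMu⟩ := huniq
  have hTM_top : T ⊔ (R : Subgroup G) = ⊤ := by
    by_contra hne
    obtain ⟨M', hM'c, hle⟩ := (eq_top_or_exists_le_coatom (T ⊔ (R : Subgroup G))).resolve_left hne
    have hM' : M' = M := hMu M' ⟨hM'c, le_sup_right.trans hle⟩
    subst hM'
    set D : Subgroup G := (R : Subgroup G) ⊓ T with hD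
    have hDT : D ≤ T := inf_le_right
    have hidx : ¬ r ∣ (D.subgroupOf T).index := by
      have h1 : D.relIndex T * T.relIndex ((R : Subgroup G) ⊔ T) =
          D.relIndex (R : Subgroup G) * (R : Subgroup G).relIndex ((R : Subgroup G) ⊔ T) := by
        rw [Subgroup.relIndex_mul_relIndex _ _ _ hDT le_sup_right,
          Subgroup.relIndex_mul_relIndex _ _ _ inf_le_left le_sup_left]
      have h2 : T.relIndex ((R : Subgroup G) ⊔ T) = D.relIndex (R : Subgroup G) := by
        rw [Subgroup.relIndex_sup_right, hD, Subgroup.inf_relIndex_left]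
      rw [h2, mul_comm] at h1
      have h3 : D.relIndex T = (R : Subgroup G).relIndex ((R : Subgroup G) ⊔ T) :=
        Nat.eq_of_mul_eq_mul_left (Nat.pos_of_ne_zero Subgroup.index_ne_zero_of_finite) h1
      intro hd
      change r ∣ D.relIndex T at hd
      rw [h3] at hd
      exact R.not_dvd_index (hd.trans (Subgroup.relIndex_dvd_index_of_le le_sup_left))
    let RT : Sylow r T :=
      ((R.2.to_le (inf_le_left : D ≤ (R : Subgroup G))).comap_of_injective T.subtype
        T.subtype_injective).toSylow hidx
    have hRT : RT.toSubgroup.map T.subtype = D := by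
      show (D.subgroupOf T).map T.subtype = D
      exact Subgroup.map_subgroupOf_eq_of_le hDT
    have hfr : Subgroup.normalizer (D : Set G) ⊔ T = ⊤ := by
      have := Sylow.normalizer_sup_eq_top RT
      rwa [hRT] at this
    have hND : Subgroup.normalizer (D : Set G) ≠ ⊤ := by
      intro htop
      have hDn : D.Normal := Subgroup.normalizer_eq_top_iff.mp htop
      have hDn' : (D.subgroupOf T).Normal := hDn.subgroupOf T
      rcases hT.eq_bot_or_eq_top_of_normal _ hDn' with hb | ht
      · rw [Subgroup.subgroupOf_eq_bot, disjoint_iff, inf_eq_left.mpr hDT] at hb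
        exact hR0 hb
      · have hTR : T ≤ (R : Subgroup G) := le_trans (Subgroup.subgroupOf_eq_top.mp ht) inf_le_left
        have hTp : IsPGroup r T := R.2.to_le hTR
        have : Nontrivial T := hT.toNontrivial
        have := hTp.center_nontrivial
        rcases hT.eq_bot_or_eq_top_of_normal (Subgroup.center T) inferInstance with hb | ht'
        · exact (Subgroup.center T).nontrivial_iff_ne_bot.mp this hb
        · exact hna ⟨⟨fun a b => (Subgroup.mem_center_iff.mp (ht' ▸ Subgroup.mem_top b) a)⟩⟩
    obtain ⟨M'', hM''c, hle''⟩ := (eq_top_or_exists_le_coatom _).resolve_left hND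
    have hRN : (R : Subgroup G) ≤ Subgroup.normalizer (D : Set G) := by
      intro x hx
      rw [Subgroup.mem_normalizer_iff]
      intro y
      simp only [hD, Subgroup.mem_inf]
      constructor
      · rintro ⟨h1, h2⟩
        exact ⟨(R : Subgroup G).mul_mem ((R : Subgroup G).mul_mem hx h1) ((R : Subgroup G).inv_mem hx),
          (inferInstance : T.Normal).conj_mem y h2 x⟩
      · rintro ⟨h1, h2⟩
        refine ⟨?_, ?_⟩
        · have := (R : Subgroup G).mul_mem ((R : Subgroup G).mul_mem ((R : Subgroup G).inv_mem hx) h1) hx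
          simpa [mul_assoc] using this
        · simpa [mul_assoc] using (inferInstance : T.Normal).conj_mem _ h2 x⁻¹
    have hM'' : M'' = M' := hMu M'' ⟨hM''c, hRN.trans hle''⟩
    subst hM''
    exact hMc.1 (top_le_iff.mp (hfr ▸ sup_le hle'' (le_sup_left.trans hle)))
  intro q
  obtain ⟨g, rfl⟩ := QuotientGroup.mk_surjective q
  have hg : g ∈ T ⊔ (R : Subgroup G) := hTM_top ▸ Subgroup.mem_top g
  obtain ⟨t, ht, x, hx, rfl⟩ := Subgroup.mem_sup_of_normal_left.mp hg
  obtain ⟨k, hk⟩ := R.2 ⟨x, hx⟩
  refine ⟨k, ?_⟩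
  rw [QuotientGroup.mk_mul, (QuotientGroup.eq_one_iff t).mpr ht, one_mul, ← QuotientGroup.mk_pow]
  have hk' : x ^ r ^ k = 1 := by simpa using congrArg Subtype.val hk
  rw [hk', QuotientGroup.mk_one]

end Cfsg.Agent.S3859
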