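import Cfsg.Statements.S3863
import Cfsg.Agent.EqLemmas

set_option autoImplicit false
open Cfsg

namespace Cfsg.Agent.S3863

/-- Let x be an element of the finite group G that is conjugate to its inverse. Then some 2-element conjugates x to its inverse; if the conjugacy class of x has odd size then x ^ 2 = 1; and x lies in, and is conjugate to its inverse inside, every normal subgroup of odd index. -/
theorem result {G : Type*} [Group G] [Finite G] (x : G) (hx : IsConj x x⁻¹) : (∃ t : G, (∃ j : ℕ, orderOf t = 2 ^ j) ∧ t * x * t⁻¹ = x⁻¹) ∧ (Odd (Subgroup.centralizer ({x} : Set G)).index → x ^ 2 = 1) ∧ ∀ (N : Subgroup G) [N.Normal], Odd N.index → ∃ hxN : x ∈ N, IsConj (⟨x, hxN⟩ : N) (⟨x, hxN⟩ : N)⁻¹ := by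
  classical
  obtain ⟨t, ht⟩ := isConj_iff.mp hx
  have hA : ∀ (u z : G), u * z * u⁻¹ = x⁻¹ → z = x → u * x⁻¹ * u⁻¹ = x := by
    rintro u z hu rfl
    rw [← inv_inj, mul_inv_rev, mul_inv_rev, inv_inv, inv_inv, ← mul_assoc]
    exact hu
  have hodd : ∀ m : ℕ, Odd m → (t ^ m) * x * (t ^ m)⁻¹ = x⁻¹ := by
    intro m hm
    obtain ⟨k, rfl⟩ := hm
    induction k with
    | zero => simpa using ht
    | succ k ih =>
      have h2 := hA _ _ ih rfl
      rw [show 2 * (k + 1) + 1 = (1 + (2 * k + 1)) + 1 from by ring, pow_succ, pow_add, pow_one]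
      calc t * t ^ (2 * k + 1) * t * x * (t * t ^ (2 * k + 1) * t)⁻¹
          = t * (t ^ (2 * k + 1) * (t * x * t⁻¹) * (t ^ (2 * k + 1))⁻¹) * t⁻¹ := by group
        _ = x⁻¹ := by rw [ht, h2, ht]
  obtain ⟨e, m, hm, heq⟩ := Nat.exists_eq_two_pow_mul_odd (orderOf_pos t).ne'
  set s := t ^ m with hs
  have hso : orderOf s = 2 ^ e := by
    rw [hs, orderOf_pow' _ hm.pos.ne', heq, Nat.gcd_eq_right (dvd_mul_left _ _),
      Nat.mul_div_cancel _ hm.pos]
  have hsx : s * x * s⁻¹ = x⁻¹ := hodd m hm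
  refine ⟨⟨s, ⟨e, hso⟩, hsx⟩, ?_, ?_⟩
  · intro hC
    by_contra hne
    have hxx : x⁻¹ ≠ x := fun h => hne (by rw [pow_two, ← eq_inv_iff_mul_eq_one]; exact h.symm)
    let C := Subgroup.centralizer ({x} : Set G)
    let E : Subgroup G :=
      { carrier := {g | g * x * g⁻¹ = x ∨ g * x * g⁻¹ = x⁻¹}
        one_mem' := Or.inl (by simp)
        mul_mem' := fun {a b} ha hb => by
          have e1 : a * b * x * (a * b)⁻¹ = a * (b * x * b⁻¹) * a⁻¹ := by group
          show a * b * x * (a * b)⁻¹ = x ∨ a * b * x * (a * b)⁻¹ = x⁻¹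
          rw [e1]
          rcases hb with hb | hb <;> rw [hb]
          · exact ha
          · rcases ha with ha | ha
            · right
              rw [← inv_inj, inv_inv, mul_inv_rev, mul_inv_rev, inv_inv, inv_inv, ← mul_assoc]
              exact ha
            · exact Or.inl (hA a x ha rfl)
        inv_mem' := fun {a} ha => by
          show a⁻¹ * x * a⁻¹⁻¹ = x ∨ a⁻¹ * x * a⁻¹⁻¹ = x⁻¹
          rw [inv_inv]
          rcases ha with ha | ha
          · left
            calc a⁻¹ * x * a = a⁻¹ * (a * x * a⁻¹) * a := by rw [ha]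
              _ = x := by group
          · right
            calc a⁻¹ * x * a = a⁻¹ * (a * x⁻¹ * a⁻¹) * a := by rw [hA a x ha rfl]
              _ = x⁻¹ := by group }
    have hCE : C ≤ E := fun g hg => Or.inl (by
      rw [Subgroup.mem_centralizer_singleton_iff.mp hg, mul_inv_cancel_right])
    have h2 : C.relIndex E = 2 := by
      rw [Subgroup.relIndex, Subgroup.index_eq_two_iff]
      refine ⟨⟨s, Or.inr hsx⟩, fun b => ?_⟩
      have hb : (b : G) * x * (b : G)⁻¹ = x ∨ (b : G) * x * (b : G)⁻¹ = x⁻¹ := b.2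
      have hbs : (b : G) * s * x * ((b : G) * s)⁻¹ = (b : G) * (s * x * s⁻¹) * (b : G)⁻¹ := by group
      have hmemC : ∀ g : G, g ∈ C ↔ g * x * g⁻¹ = x := fun g => by
        rw [show g ∈ C ↔ g * x = x * g from Subgroup.mem_centralizer_singleton_iff, mul_inv_eq_iff_eq_mul]
      simp only [Subgroup.mem_subgroupOf, Subgroup.coe_mul, hmemC, hbs, hsx]
      rcases hb with hb | hb
      · refine Or.inr ⟨hb, fun h => hxx ?_⟩
        have e : (b : G) * x⁻¹ * (b : G)⁻¹ = ((b : G) * x * (b : G)⁻¹)⁻¹ := by group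
        rw [hb] at e
        exact e.symm.trans h
      · exact Or.inl ⟨hA _ _ hb rfl, fun h => hxx (hb.symm.trans h)⟩
    have := Subgroup.relIndex_dvd_index_of_le hCE
    rw [h2] at this
    exact (Nat.not_even_iff_odd.mpr hC) (even_iff_two_dvd.mpr this)
  · intro N hN hNi
    have key : ∀ g : G, ∀ k : ℕ, g ^ 2 ^ k ∈ N → g ∈ N := by
      intro g k hg
      have h1 : (g : G ⧸ N) ^ 2 ^ k = 1 := by
        rw [← QuotientGroup.mk_pow]; exact (QuotientGroup.eq_one_iff _).mpr hg
      have h2 : (g : G ⧸ N) ^ N.index = 1 := by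
        rw [Subgroup.index]; exact pow_card_eq_one'
      have h3 := pow_gcd_eq_one.mpr ⟨h1, h2⟩
      rw [Nat.Coprime.pow_left k (Nat.coprime_two_left.mpr hNi), pow_one] at h3
      exact (QuotientGroup.eq_one_iff g).mp h3
    have hsN : s ∈ N := key s e (by rw [← hso, pow_orderOf_eq_one]; exact N.one_mem)
    have hxN : x ∈ N := by
      apply key x 1
      have h1 : s * (x * s⁻¹ * x⁻¹) ∈ N := N.mul_mem hsN (hN.conj_mem _ (N.inv_mem hsN) x)
      have h2 := N.inv_mem h1
      have h3 : (s * (x * s⁻¹ * x⁻¹))⁻¹ = x ^ (2 ^ 1) := by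
        rw [← mul_assoc, ← mul_assoc, hsx, pow_one, pow_two, mul_inv_rev, inv_inv]
      rwa [h3] at h2
    exact ⟨hxN, isConj_iff.mpr ⟨⟨s, hsN⟩, Subtype.ext hsx⟩⟩

end Cfsg.Agent.S3863
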