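import Cfsg.Statements.S3861
import Cfsg.Agent.S3863
import Cfsg.Agent.Lib.Involution.BaerSuzuki
import Cfsg.Agent.Lib.Solvable.SchurZassenhaus

set_option autoImplicit false
open Cfsg

namespace Cfsg.Agent.S3861

open scoped Pointwise

theorem mem_of_normal_sylow {G : Type*} [Group G] [Finite G] (P : Sylow 2 G)
    [(P : Subgroup G).Normal] {s : G} {j : ℕ} (hj : orderOf s = 2 ^ j) : s ∈ (P : Subgroup G) := by
  haveI : Fact (Nat.Prime 2) := ⟨Nat.prime_two⟩
  obtain ⟨Q, hQ⟩ := (IsPGroup.of_card (p := 2) (n := j)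
    (by rw [Nat.card_zpowers, hj] : Nat.card (Subgroup.zpowers s) = 2 ^ j)).exists_le_sylow
  have := Sylow.unique_of_normal P inferInstance
  rw [Subsingleton.elim Q P] at hQ
  exact hQ (Subgroup.mem_zpowers s)

universe v

theorem aux : ∀ (m : ℕ) {G : Type v} [Group G] [Finite G] (P : Sylow 2 G),
    (∀ x : G, x ≠ 1 → Odd (orderOf x) → ¬ IsConj x x⁻¹) → Nat.card G = m → (P : Subgroup G).Normal := by
  intro m
  induction m using Nat.strong_induction_on with
  | _ m ih =>
    intro G _ _ P hreal hm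
    haveI : Fact (Nat.Prime 2) := ⟨Nat.prime_two⟩
    by_cases hev : 2 ∣ Nat.card G
    swap
    · have : (P : Subgroup G) = ⊥ := by
        rw [← Subgroup.card_eq_one]
        obtain ⟨k, hk⟩ := IsPGroup.iff_card.mp P.2
        rcases Nat.eq_zero_or_pos k with rfl | hk0
        · simpa using hk
        · exact absurd ((hk ▸ dvd_pow_self 2 hk0.ne').trans (Subgroup.card_subgroup_dvd_card _)) hev
      rw [this]
      infer_instance
    obtain ⟨t, ht⟩ := exists_prime_orderOf_dvd_card' 2 hev
    by_cases hN : ∀ N : Subgroup G, N.Normal → IsPGroup 2 N → t ∉ N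
    · obtain ⟨h, h1, hodd, hinv⟩ := Cfsg.Agent.Involution.exists_inverted_odd ht hN
      exact absurd (isConj_iff.mpr ⟨t, hinv⟩) (hreal h h1 hodd)
    push Not at hN
    obtain ⟨N, hNn, hNp, htN⟩ := hN
    haveI := hNn
    have hNP : N ≤ (P : Subgroup G) := hNp.le_sylow_of_normal P
    have hlt : Nat.card (G ⧸ N) < m := by
      rw [← hm, ← N.card_mul_index, ← Subgroup.index]
      refine (Nat.lt_mul_iff_one_lt_left (Nat.pos_of_ne_zero Subgroup.index_ne_zero_of_finite)).mpr ?_
      rw [Subgroup.one_lt_card_iff_ne_bot]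
      intro hb
      rw [hb, Subgroup.mem_bot] at htN
      rw [htN, orderOf_one] at ht
      omega
    have hq : ∀ q : G ⧸ N, q ≠ 1 → Odd (orderOf q) → ¬ IsConj q q⁻¹ := by
      intro q hq hodd hc
      obtain ⟨x₀, rfl⟩ := QuotientGroup.mk_surjective q
      obtain ⟨e, o, ho, hord⟩ := Nat.exists_eq_two_pow_mul_odd (orderOf_pos x₀).ne'
      set x := x₀ ^ 2 ^ e with hx
      have hxo : Odd (orderOf x) := by
        rw [hx, orderOf_pow, hord, Nat.gcd_eq_right (dvd_mul_right _ _),
          Nat.mul_div_cancel_left _ (by positivity)]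
        exact ho
      obtain ⟨c, hc⟩ := isConj_iff.mp hc
      obtain ⟨g, rfl⟩ := QuotientGroup.mk_surjective c
      have hqx : (x : G ⧸ N) ≠ 1 := by
        intro h
        rw [hx, QuotientGroup.mk_pow, ← orderOf_dvd_iff_pow_eq_one] at h
        obtain ⟨i, -, hi⟩ := (Nat.dvd_prime_pow Nat.prime_two).mp h
        rcases Nat.eq_zero_or_pos i with rfl | hi0
        · exact hq (orderOf_eq_one_iff.mp (by simpa using hi))
        · exact Nat.not_even_iff_odd.mpr hodd (by rw [hi, Nat.even_pow]; exact ⟨even_two, hi0.ne'⟩)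
      have hgx : ((g * x * g⁻¹ : G) : G ⧸ N) = ((x⁻¹ : G) : G ⧸ N) := by
        simp only [hx, QuotientGroup.mk_mul, QuotientGroup.mk_inv, QuotientGroup.mk_pow]
        rw [← conj_pow, hc, inv_pow]
      have hcop : (Nat.card (Subgroup.zpowers x)).Coprime (Nat.card N) := by
        obtain ⟨k, hk⟩ := IsPGroup.iff_card.mp hNp
        rw [Nat.card_zpowers, hk]
        exact ((Nat.coprime_two_right).mpr hxo).pow_right k
      have hH : Nat.card ↥(MulAut.conj g • Subgroup.zpowers x) = Nat.card (Subgroup.zpowers x) :=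
        (Nat.card_congr (Subgroup.equivSMul (MulAut.conj g) _).toEquiv).symm
      have hsup : (MulAut.conj g • Subgroup.zpowers x) ⊔ N = Subgroup.zpowers x ⊔ N := by
        have e1 : MulAut.conj g • Subgroup.zpowers x = Subgroup.zpowers (g * x * g⁻¹) := by
          rw [Subgroup.pointwise_smul_def]
          exact MonoidHom.map_zpowers _ x
        rw [e1]
        refine le_antisymm (sup_le (Subgroup.zpowers_le.mpr ?_) le_sup_right)
          (sup_le (Subgroup.zpowers_le.mpr ?_) le_sup_right)
        · have h := QuotientGroup.eq.mp hgx.symm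
          have := Subgroup.mul_mem _ (Subgroup.mem_sup_left (T := N) (Subgroup.inv_mem _ (Subgroup.mem_zpowers x)))
            (Subgroup.mem_sup_right h)
          rwa [mul_inv_cancel_left] at this
        · have h := QuotientGroup.eq.mp hgx
          have := Subgroup.mul_mem _ (Subgroup.mem_sup_left (T := N) (Subgroup.mem_zpowers (g * x * g⁻¹)))
            (Subgroup.mem_sup_right h)
          rw [mul_inv_cancel_left] at this
          have h5 := Subgroup.inv_mem _ this
          rwa [inv_inv] at h5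
      haveI := hNp.isNilpotent
      obtain ⟨n, hn, hne⟩ := Cfsg.Agent.Solvable.exists_conj_of_sup_eq (Or.inl inferInstance) hsup
        (hH ▸ hcop) hcop
      have hy : n * g * x * (n * g)⁻¹ ∈ Subgroup.zpowers x := by
        rw [← hne, smul_smul, ← map_mul, Subgroup.pointwise_smul_def]
        exact ⟨x, Subgroup.mem_zpowers x, rfl⟩
      have hyN : (n * g * x * (n * g)⁻¹) * x ∈ N := by
        rw [← QuotientGroup.eq_one_iff, QuotientGroup.mk_mul,
          show n * g * x * (n * g)⁻¹ = n * (g * x * g⁻¹) * n⁻¹ by group]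
        simp only [QuotientGroup.mk_mul, QuotientGroup.mk_inv] at hgx
        simp only [QuotientGroup.mk_mul, QuotientGroup.mk_inv,
          (QuotientGroup.eq_one_iff n).mpr hn, one_mul, inv_one, mul_one]
        rw [hgx, inv_mul_cancel]
      have hy2 : (n * g * x * (n * g)⁻¹) * x ∈ Subgroup.zpowers x ⊓ N :=
        ⟨Subgroup.mul_mem _ hy (Subgroup.mem_zpowers x), hyN⟩
      rw [Subgroup.inf_eq_bot_of_coprime hcop, Subgroup.mem_bot] at hy2
      exact hreal x (fun h => hqx (by rw [h, QuotientGroup.mk_one])) hxo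
        (isConj_iff.mpr ⟨n * g, eq_inv_of_mul_eq_one_left hy2⟩)
    have hn := ih _ hlt (P.mapSurjective (QuotientGroup.mk'_surjective N)) hq rfl
    have : (P : Subgroup G) = ((P.mapSurjective (QuotientGroup.mk'_surjective N)) : Subgroup (G ⧸ N)).comap
        (QuotientGroup.mk' N) := by
      show _ = ((P : Subgroup G).map (QuotientGroup.mk' N)).comap (QuotientGroup.mk' N)
      rw [Subgroup.comap_map_eq, QuotientGroup.ker_mk', sup_eq_left.mpr hNP]
    rw [this]
    exact hn.comap _


/-- A finite group G has no non-identity element of odd order that is conjugate to its inverse if and only if the Sylow 2-subgroups of G are normal. -/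
theorem result {G : Type*} [Group G] [Finite G] (P : Sylow 2 G) : (∀ x : G, x ≠ 1 → Odd (orderOf x) → ¬ IsConj x x⁻¹) ↔ (P : Subgroup G).Normal := by
  constructor
  · intro h
    exact aux (Nat.card G) P h rfl
  · intro hP x hx hodd hreal
    haveI := hP
    obtain ⟨⟨s, ⟨j, hj⟩, hs⟩, -, -⟩ := Cfsg.Agent.S3863.result x hreal
    have hsP : s ∈ (P : Subgroup G) := mem_of_normal_sylow P hj
    have h1 : (x ^ 2)⁻¹ ∈ (P : Subgroup G) := by
      have : s * (x * s⁻¹ * x⁻¹) ∈ (P : Subgroup G) :=
        (P : Subgroup G).mul_mem hsP (hP.conj_mem _ ((P : Subgroup G).inv_mem hsP) x)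
      rwa [← mul_assoc, ← mul_assoc, hs, ← mul_inv_rev, ← pow_two] at this
    obtain ⟨k, hk⟩ := IsPGroup.iff_orderOf.mp P.2 ⟨_, h1⟩
    rw [← Subgroup.orderOf_coe, orderOf_inv, orderOf_pow, Nat.Coprime.gcd_eq_one
      ((Nat.coprime_two_right).mpr hodd), Nat.div_one] at hk
    rcases Nat.eq_zero_or_pos k with rfl | hk0
    · exact hx (orderOf_eq_one_iff.mp (by simpa using hk))
    · exact Nat.not_even_iff_odd.mpr hodd (by rw [hk, Nat.even_pow]; exact ⟨even_two, hk0.ne'⟩)

end Cfsg.Agent.S3861
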