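import Cfsg.Statements.S3862
import Cfsg.Agent.Lib.Transfer.Alperin
import Cfsg.Agent.Lib.FusionChain.SmallElements

set_option autoImplicit false
open Cfsg

namespace Cfsg.Agent.S3862

/-- If every 2-element of the finite group G that is conjugate to its inverse lies in the centre of G, then G has a normal 2-complement. -/
theorem result {G : Type*} [Group G] [Finite G] (h : ∀ x : G, (∃ j : ℕ, orderOf x = 2 ^ j) → IsConj x x⁻¹ → x ∈ Subgroup.center G) : Cfsg.HasNormalPComplement 2 G := by
  haveI : Fact (Nat.Prime 2) := ⟨Nat.prime_two⟩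
  obtain ⟨P⟩ := (inferInstance : Nonempty (Sylow 2 G))
  refine Cfsg.Agent.Transfer.hasNormalPComplement_of_local P fun R hR _ n hn hco => ?_
  have hRp : IsPGroup 2 R := P.2.to_le hR.1
  let β : MulAut R :=
    (MulEquiv.subgroupMap (MulAut.conj n) R).trans (MulEquiv.subgroupCongr (Subgroup.mem_normalizer_iff_map_conj_eq.mp hn))
  have hβ : ∀ x : R, ((β x : R) : G) = n * (x : G) * n⁻¹ := fun x => rfl
  have hβpow : ∀ (k : ℕ) (x : R), (((β ^ k) x : R) : G) = n ^ k * (x : G) * (n ^ k)⁻¹ := by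
    intro k
    induction k with
    | zero => intro x; simp
    | succ k ih => intro x; rw [pow_succ', MulAut.mul_apply, hβ, ih, pow_succ']; group
  have hord : orderOf β ∣ orderOf n := orderOf_dvd_of_pow_eq_one (MulEquiv.ext fun x => Subtype.ext (by
    rw [hβpow, pow_orderOf_eq_one, one_mul, inv_one, mul_one]; rfl))
  have h2el : ∀ x : R, ∃ j : ℕ, orderOf (x : G) = 2 ^ j := fun x => by
    obtain ⟨j, hj⟩ := IsPGroup.iff_orderOf.mp hRp x
    exact ⟨j, by rw [Subgroup.orderOf_coe, hj]⟩
  have hcentral : ∀ x : R, (x : G) ^ 2 = 1 → (x : G) ∈ Subgroup.center G := fun x hx => by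
    refine h _ (h2el x) ?_
    rw [pow_two] at hx
    rw [inv_eq_of_mul_eq_one_right hx]
  have hfix : β = 1 := by
    refine Cfsg.Agent.FusionChain.eq_one_of_fixes_small hRp β (Nat.Coprime.coprime_dvd_left hord hco) ?_
    intro x hsmall
    apply Subtype.ext
    rw [hβ]
    have h4 : ((x : G) ^ 2) ^ 2 = 1 := by
      rcases hsmall with hs | ⟨-, hs⟩
      · rw [← Subgroup.coe_pow, hs, OneMemClass.coe_one, one_pow]
      · rw [← pow_mul, ← Subgroup.coe_pow, hs, OneMemClass.coe_one]
    have hz : (x : G) ^ 2 ∈ Subgroup.center G := by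
      have := hcentral (x ^ 2) (by rwa [Subgroup.coe_pow])
      rwa [Subgroup.coe_pow] at this
    set z := (x : G) ^ 2 with hzdef
    set y := n * (x : G) * n⁻¹ with hy
    have hyz : y ^ 2 = z := by
      rw [hy, conj_pow, ← hzdef, Subgroup.mem_center_iff.mp hz n, mul_inv_cancel_right]
    have hinv : ∀ u : G, u ^ 2 = z → u⁻¹ = u * z := by
      intro u hu
      rw [inv_eq_iff_mul_eq_one, ← mul_assoc, ← pow_two, hu, ← pow_two, h4]
    have hreal : IsConj ((x : G) * y) ((x : G) * y)⁻¹ := by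
      refine isConj_iff.mpr ⟨(x : G)⁻¹, ?_⟩
      rw [inv_inv, mul_inv_rev, hinv _ hyz, hinv _ rfl,
        show y * z * ((x : G) * z) = y * (z * (x : G)) * z by group,
        ← Subgroup.mem_center_iff.mp hz (x : G), ← mul_assoc y, mul_assoc (y * (x : G)), ← pow_two, h4, mul_one]
      rw [Subgroup.mem_center_iff.mp hz (x : G), ← mul_assoc (z * (x : G)), mul_assoc z (x : G) (x : G), ← pow_two (x : G), ← hzdef,
        ← pow_two, h4, one_mul]
    have hxy : (x : G) * y = y * (x : G) := by
      have hm := h _ ((h2el (x * β x)).imp (fun j hj => by rwa [Subgroup.coe_mul, hβ, ← hy] at hj)) hreal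
      have h3 := Subgroup.mem_center_iff.mp hm (x : G)
      exact mul_left_cancel (h3.trans (mul_assoc _ _ _))
    have hc1 : ((x : G)⁻¹ * y) ^ 2 = 1 := by
      rw [Commute.mul_pow ((Commute.inv_left (show Commute (x : G) y from hxy))), hyz, inv_pow, ← hzdef, inv_mul_cancel]
    have hc : (x : G)⁻¹ * y ∈ Subgroup.center G := by
      have hR' : (x : G)⁻¹ * y ∈ R := R.mul_mem (R.inv_mem x.2) (by have := (β x).2; rwa [hβ, ← hy] at this)
      exact hcentral ⟨_, hR'⟩ hc1
    set c := (x : G)⁻¹ * y with hcdef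
    have hiter : ∀ k : ℕ, n ^ k * (x : G) * (n ^ k)⁻¹ = (x : G) * c ^ k := by
      intro k
      induction k with
      | zero => simp
      | succ k ih =>
        rw [pow_succ' n, mul_inv_rev, show n * n ^ k * (x : G) * ((n ^ k)⁻¹ * n⁻¹) =
          n * (n ^ k * (x : G) * (n ^ k)⁻¹) * n⁻¹ by group, ih,
          show n * ((x : G) * c ^ k) * n⁻¹ = y * (n * c ^ k * n⁻¹) by rw [hy]; group,
          Subgroup.mem_center_iff.mp (Subgroup.pow_mem _ hc k) n, mul_inv_cancel_right,
          show y = (x : G) * c by rw [hcdef, mul_inv_cancel_left], mul_assoc, ← pow_succ']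
    have hck : c ^ orderOf n = 1 := by
      have := hiter (orderOf n)
      rw [pow_orderOf_eq_one, one_mul, inv_one, mul_one] at this
      exact left_eq_mul.mp this
    have hgcd : c ^ (Nat.gcd 2 (orderOf n)) = 1 := pow_gcd_eq_one.mpr ⟨hc1, hck⟩
    rw [Nat.Coprime.gcd_eq_one hco.symm, pow_one, hcdef] at hgcd
    exact (inv_mul_eq_one.mp hgcd).symm
  rw [Subgroup.mem_centralizer_iff]
  intro x hx
  have := hβ ⟨x, hx⟩
  rw [hfix] at this
  exact mul_inv_eq_iff_eq_mul.mp this.symm |>.symm

end Cfsg.Agent.S3862
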