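import Cfsg.Statements.S3865
import Cfsg.Agent.EqLemmas
import Cfsg.Agent.Lib.MaxClassSylow.Global

set_option autoImplicit false
open Cfsg
open Subgroup
open scoped Pointwise commutatorElement

namespace Cfsg.Agent.S3865

/-- Let G be a finite group whose Sylow p-subgroup P has order p ^ n with n ≥ 2 and nilpotency class n - 1 (maximal class), whose largest normal subgroup of order prime to p is trivial, and which has no proper normal subgroup of index prime to p. Then either some x ∈ P has a centralizer in G whose order has p-part p ^ 2, or G is quasisimple with centre of order at most p. -/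
theorem result {G : Type*} [Group G] [Finite G] (p : ℕ) [Fact p.Prime] (P : Sylow p G) (n : ℕ) (hP : Nat.card P = p ^ n) (hn : 2 ≤ n) (hmax : Group.nilpotencyClass ↥(P : Subgroup G) = n - 1) (hcore : Cfsg.pPrimeCore p G = ⊥) (hres : ∀ N : Subgroup G, N.Normal → (N.index).Coprime p → N = ⊤) : (∃ x ∈ (P : Subgroup G), (Nat.card (Subgroup.centralizer ({x} : Set G))).factorization p = 2) ∨ (Cfsg.IsQuasisimple G ∧ Nat.card (Subgroup.center G) ≤ p) := by
  classical
  have hp : p.Prime := Fact.out
  rcases hn.lt_or_eq with hn3 | rfl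
  swap
  · left
    refine ⟨1, one_mem _, ?_⟩
    have hC : centralizer ({1} : Set G) = ⊤ :=
      eq_top_iff.mpr fun g _ => mem_centralizer_singleton_iff.mpr (by simp)
    rw [hC, card_top]
    exact Nat.pow_right_injective hp.two_le (P.card_eq_multiplicity.symm.trans hP)
  by_cases hgood : ∃ x ∈ (P : Subgroup G), (Nat.card (centralizer ({x} : Set G))).factorization p = 2
  · exact Or.inl hgood
  right
  have hnoP : ∀ x ∈ (P : Subgroup G), (Nat.card (centralizer ({x} : Set G))).factorization p ≠ 2 :=
    fun x hx h => hgood ⟨x, hx, h⟩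
  have hno : ∀ g : G, (∃ k : ℕ, orderOf g = p ^ k) →
      (Nat.card (centralizer ({g} : Set G))).factorization p ≠ 2 := by
    rintro g ⟨k, hk⟩
    obtain ⟨Q, hQ⟩ := (IsPGroup.of_card (p := p) (n := k) (by rw [Nat.card_zpowers, hk]) :
      IsPGroup p (zpowers g)).exists_le_sylow
    obtain ⟨h, rfl⟩ := MulAction.exists_smul_eq G P Q
    have hg : g ∈ MulAut.conj h • (P : Subgroup G) := hQ (mem_zpowers g)
    obtain ⟨x, hx, rfl⟩ := hg
    have h1 := MaxClassSylow.card_inter_conj (⊤ : Subgroup G) h x
    have htop : MulAut.conj h • (⊤ : Subgroup G) = ⊤ := by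
      ext u; simp [Subgroup.mem_pointwise_smul_iff_inv_smul_mem]
    rw [htop, top_inf_eq, top_inf_eq] at h1
    show (Nat.card (centralizer ({h * x * h⁻¹} : Set G))).factorization p ≠ 2
    rw [h1]
    exact hnoP x hx
  have mP : MaxClassPower.Mc ↥(P : Subgroup G) p n := ⟨hP, hn3, hmax⟩
  have hnn : ¬ Group.IsNilpotent G := by
    intro hG
    haveI : (P : Subgroup G).Normal := Sylow.normal_of_normalizerCondition Group.normalizerCondition_of_isNilpotent P
    have hPtop : (P : Subgroup G) = ⊤ := hres _ inferInstance
      (Nat.Coprime.symm (hp.coprime_iff_not_dvd.mpr P.not_dvd_index))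
    obtain ⟨s, hs⟩ := mP.exists_good
    refine hnoP s s.2 ?_
    have h1 := hs.cent
    rw [show ({s} : Set ↥(P : Subgroup G)) = {⟨(s : G), s.2⟩} from rfl,
      MaxClassSylow.card_centralizer_subtype _ s.2] at h1
    have h2 : ∀ g : G, Nat.card ↥((P : Subgroup G) ⊓ centralizer {g}) = Nat.card (centralizer ({g} : Set G)) :=
      fun g => by rw [hPtop, top_inf_eq]
    rw [h2] at h1
    rw [h1, hp.factorization_pow, Finsupp.single_eq_same]
  have key : ∀ N : Subgroup G, N.Normal → N ≠ ⊤ → N ≤ center G ∧ Nat.card N ≤ p := by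
    intro N hN hne
    rcases Nat.lt_trichotomy ((Nat.card N).factorization p) 1 with h | h | h
    · have hco : (Nat.card N).Coprime p := (hp.coprime_iff_not_dvd.mpr fun hd => by
        have := (hp.dvd_iff_one_le_factorization Nat.card_pos.ne').mp hd
        omega).symm
      have hle := Agent.Cores.le_pPrimeCore (G := G) hN hco
      rw [hcore, le_bot_iff] at hle
      subst hle
      exact ⟨bot_le, by rw [card_bot]; exact hp.one_le⟩
    · obtain ⟨h1, h2⟩ := MaxClassSylow.central_of_sylow_prime hn3 P mP hcore hres (N := N) h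
      exact ⟨h1, h2.le⟩
    · exact absurd (MaxClassSylow.eq_top_of_sq_dvd hn3 P mP hno hres (N := N)
        ((hp.pow_dvd_iff_le_factorization Nat.card_pos.ne').mpr h)) hne
  have hZ : center G ≠ ⊤ := fun h => hnn (by
    refine Subgroup.nilpotent_iff_lowerCentralSeries.mpr ⟨1, ?_⟩
    rw [Subgroup.top_lowerCentralSeries_one, commutator_def, eq_bot_iff, commutator_le]
    intro a _ b _
    rw [mem_bot, commutatorElement_eq_one_iff_mul_comm]
    exact (mem_center_iff.mp (h ▸ mem_top a : a ∈ center G) b).symm)
  refine ⟨⟨Group.isPerfect_def.mpr ?_, ?_⟩, (key _ inferInstance hZ).2⟩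
  · by_contra hne
    apply hnn
    have hle := (key _ inferInstance hne).1
    refine Subgroup.nilpotent_iff_lowerCentralSeries.mpr ⟨2, ?_⟩
    rw [Subgroup.lowerCentralSeries_succ, Subgroup.top_lowerCentralSeries_one, eq_bot_iff, commutator_le]
    intro a ha b _
    rw [mem_bot, commutatorElement_eq_one_iff_mul_comm]
    exact (mem_center_iff.mp (hle ha) b).symm
  · haveI : Nontrivial (G ⧸ center G) := QuotientGroup.nontrivial_iff.mpr hZ
    refine ⟨fun N hN => ?_⟩
    by_cases h : N.comap (QuotientGroup.mk' (center G)) = ⊤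
    · right
      rw [← Subgroup.map_comap_eq_self_of_surjective (QuotientGroup.mk'_surjective (center G)) N, h,
        map_top_of_surjective _ (QuotientGroup.mk'_surjective _)]
    · left
      rw [← Subgroup.map_comap_eq_self_of_surjective (QuotientGroup.mk'_surjective (center G)) N,
        Subgroup.map_eq_bot_iff, QuotientGroup.ker_mk']
      exact (key _ inferInstance h).1

end Cfsg.Agent.S3865
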