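import Cfsg.Statements.S3866
import Cfsg.Agent.EqLemmas

set_option autoImplicit false
open Cfsg

namespace Cfsg.Agent.S3866

/-- Let A be a commutative normal subgroup of the finite group G with G generated by A and an element x. Then a ↦ x a x⁻¹ a⁻¹ is a surjective homomorphism from A onto the commutator subgroup of G whose kernel is the centralizer of x in A; in particular the commutator subgroup has order equal to the index in A of that centralizer. -/
theorem result {G : Type*} [Group G] [Finite G] (A : Subgroup G) [A.Normal] (hA : IsMulCommutative A) (x : G) (hgen : A ⊔ Subgroup.zpowers x = ⊤) : (∀ a ∈ A, x * a * x⁻¹ * a⁻¹ ∈ commutator G) ∧ (∀ c ∈ commutator G, ∃ a ∈ A, x * a * x⁻¹ * a⁻¹ = c) ∧ (∀ a ∈ A, ∀ b ∈ A, x * (a * b) * x⁻¹ * (a * b)⁻¹ = (x * a * x⁻¹ * a⁻¹) * (x * b * x⁻¹ * b⁻¹)) ∧ Nat.card (commutator G) * Nat.card ↥(A ⊓ Subgroup.centralizer ({x} : Set G)) = Nat.card A := by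
  classical
  have hn : A.Normal := inferInstance
  have hcm : ∀ a ∈ A, ∀ b ∈ A, a * b = b * a := fun a ha b hb =>
    congrArg Subtype.val (hA.is_comm.comm ⟨a, ha⟩ ⟨b, hb⟩)
  have hmem : ∀ a ∈ A, x * a * x⁻¹ * a⁻¹ ∈ A := fun a ha =>
    A.mul_mem (hn.conj_mem a ha x) (A.inv_mem ha)
  have hcomm : ∀ a ∈ A, x * a * x⁻¹ * a⁻¹ ∈ commutator G := fun a _ =>
    Subgroup.commutator_mem_commutator (Subgroup.mem_top x) (Subgroup.mem_top a)
  have hmul : ∀ a ∈ A, ∀ b ∈ A, x * (a * b) * x⁻¹ * (a * b)⁻¹ =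
      (x * a * x⁻¹ * a⁻¹) * (x * b * x⁻¹ * b⁻¹) := by
    intro a ha b hb
    have e1 : x * (a * b) * x⁻¹ * (a * b)⁻¹ = (x * a * x⁻¹) * ((x * b * x⁻¹ * b⁻¹) * a⁻¹) := by group
    rw [e1, hcm _ (hmem b hb) _ (A.inv_mem ha), ← mul_assoc]
  let φ : A →* G :=
    { toFun := fun a => x * (a : G) * x⁻¹ * (a : G)⁻¹
      map_one' := by simp
      map_mul' := fun a b => hmul a a.2 b b.2 }
  have hker : Nat.card φ.ker = Nat.card ↥(A ⊓ Subgroup.centralizer ({x} : Set G)) := by
    refine Nat.card_congr ⟨fun a => ⟨(a : A), (a : A).2, ?_⟩, fun a => ⟨⟨a, a.2.1⟩, ?_⟩,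
      fun a => rfl, fun a => rfl⟩
    · have := a.2
      rw [MonoidHom.mem_ker] at this
      refine Subgroup.mem_centralizer_singleton_iff.mpr ?_
      simp only [φ, MonoidHom.coe_mk, OneHom.coe_mk] at this
      rw [mul_inv_eq_one, mul_inv_eq_iff_eq_mul] at this
      exact this.symm
    · rw [MonoidHom.mem_ker]
      have := Subgroup.mem_centralizer_singleton_iff.mp a.2.2
      simp only [φ, MonoidHom.coe_mk, OneHom.coe_mk]
      rw [← this, mul_inv_cancel_right, mul_inv_cancel]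
  have hrA : φ.range ≤ A := by
    rintro _ ⟨a, rfl⟩; exact hmem a a.2
  have hrn : φ.range.Normal := by
    constructor
    intro c hc g
    have hg : g ∈ A ⊔ Subgroup.zpowers x := hgen ▸ Subgroup.mem_top g
    obtain ⟨a, ha, y, hy, rfl⟩ := Subgroup.mem_sup_of_normal_left.mp hg
    obtain ⟨b, rfl⟩ := hc
    have hy1 : y * x = x * y := by
      obtain ⟨k, rfl⟩ := hy
      exact (Commute.zpow_self x k).eq
    have hy2 : y * φ b * y⁻¹ = φ ⟨y * b * y⁻¹, hn.conj_mem _ b.2 y⟩ := by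
      simp only [φ, MonoidHom.coe_mk, OneHom.coe_mk]
      have : x⁻¹ * y = y * x⁻¹ := by
        rw [inv_mul_eq_iff_eq_mul, ← mul_assoc, ← hy1, mul_inv_cancel_right]
      calc y * (x * (b : G) * x⁻¹ * (b : G)⁻¹) * y⁻¹
          = (y * x) * b * (x⁻¹ * y⁻¹) * (y * (b : G)⁻¹ * y⁻¹) := by group
        _ = (x * y) * b * (y⁻¹ * x⁻¹) * (y * (b : G)⁻¹ * y⁻¹) := by
            rw [hy1, ← mul_inv_rev, hy1, mul_inv_rev]
        _ = x * (y * b * y⁻¹) * x⁻¹ * (y * (b : G) * y⁻¹)⁻¹ := by group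
    have : a * y * φ b * (a * y)⁻¹ = a * (y * φ b * y⁻¹) * a⁻¹ := by group
    rw [this, hy2, hcm a ha _ (hrA ⟨_, rfl⟩), mul_inv_cancel_right]
    exact ⟨_, rfl⟩
  have hle : commutator G ≤ φ.range := by
    have hcA : ∀ a ∈ A, ∀ g : G, Commute (QuotientGroup.mk a : G ⧸ φ.range) (QuotientGroup.mk g) := by
      intro a ha g
      have hg : g ∈ A ⊔ Subgroup.zpowers x := hgen ▸ Subgroup.mem_top g
      obtain ⟨b, hb, y, ⟨k, rfl⟩, rfl⟩ := Subgroup.mem_sup_of_normal_left.mp hg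
      rw [QuotientGroup.mk_mul]
      refine Commute.mul_right ?_ ?_
      · show (QuotientGroup.mk a : G ⧸ φ.range) * QuotientGroup.mk b = _
        rw [← QuotientGroup.mk_mul, hcm a ha b hb, QuotientGroup.mk_mul]
      · rw [QuotientGroup.mk_zpow]
        refine Commute.zpow_right ?_ k
        have : (QuotientGroup.mk (x * a * x⁻¹ * a⁻¹) : G ⧸ φ.range) = 1 :=
          (QuotientGroup.eq_one_iff _).mpr ⟨⟨a, ha⟩, rfl⟩
        simp only [QuotientGroup.mk_mul, QuotientGroup.mk_inv] at this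
        rw [mul_inv_eq_one, mul_inv_eq_iff_eq_mul] at this
        exact this.symm
    have hall : ∀ g h : G, Commute (QuotientGroup.mk g : G ⧸ φ.range) (QuotientGroup.mk h) := by
      intro g h
      have hg : g ∈ A ⊔ Subgroup.zpowers x := hgen ▸ Subgroup.mem_top g
      have hh : h ∈ A ⊔ Subgroup.zpowers x := hgen ▸ Subgroup.mem_top h
      obtain ⟨a, ha, y, ⟨k, rfl⟩, rfl⟩ := Subgroup.mem_sup_of_normal_left.mp hg
      obtain ⟨b, hb, z, ⟨l, rfl⟩, rfl⟩ := Subgroup.mem_sup_of_normal_left.mp hh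
      simp only [QuotientGroup.mk_mul]
      refine Commute.mul_left ?_ ?_
      · rw [← QuotientGroup.mk_mul]
        exact hcA a ha _
      · refine Commute.mul_right (hcA b hb _).symm ?_
        rw [QuotientGroup.mk_zpow, QuotientGroup.mk_zpow]
        exact (Commute.refl _).zpow_zpow k l
    rw [commutator_def, Subgroup.commutator_le]
    intro g _ h _
    rw [← QuotientGroup.eq_one_iff (N := φ.range)]
    rw [commutatorElement_def]
    simp only [QuotientGroup.mk_mul, QuotientGroup.mk_inv]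
    rw [(hall g h).eq]
    group
  have hEq : commutator G = φ.range := le_antisymm hle (by rintro _ ⟨a, rfl⟩; exact hcomm a a.2)
  refine ⟨hcomm, fun c hc => ?_, hmul, ?_⟩
  · obtain ⟨a, ha⟩ := hle hc
    exact ⟨a, a.2, ha⟩
  · rw [hEq, ← hker, ← Subgroup.index_ker, Subgroup.index_mul_card]

end Cfsg.Agent.S3866
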