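import Cfsg.Statements.S3867
import Cfsg.Agent.EqLemmas

set_option autoImplicit false
open Cfsg

namespace Cfsg.Agent.S3867

private theorem relIndex_sup_eq {G : Type*} [Group G] [Finite G] (H K : Subgroup G) [K.Normal] :
    H.relIndex (H ⊔ K) = H.relIndex K := by
  have h1 : (H ⊓ K).relIndex H * H.relIndex (H ⊔ K) = (H ⊓ K).relIndex K * K.relIndex (H ⊔ K) := by
    rw [Subgroup.relIndex_mul_relIndex _ _ _ inf_le_left le_sup_left,
      Subgroup.relIndex_mul_relIndex _ _ _ inf_le_right le_sup_right]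
  rw [Subgroup.relIndex_sup_right, Subgroup.inf_relIndex_left, Subgroup.inf_relIndex_right,
    mul_comm (H.relIndex K)] at h1
  exact Nat.eq_of_mul_eq_mul_left (Nat.pos_of_ne_zero Subgroup.index_ne_zero_of_finite) h1

/-- Let M and N be nontrivial normal subgroups of the finite group G with M ⊓ N trivial, and let p be a prime. Writing n(X) for the number of Sylow p-subgroups of a group X, one has n(G) · n(G/MN) = n(G/M) · n(G/N). -/
theorem result {G : Type*} [Group G] [Finite G] (p : ℕ) [Fact p.Prime] (M N : Subgroup G) [M.Normal] [N.Normal] (hM : M ≠ ⊥) (hN : N ≠ ⊥) (hMN : M ⊓ N = ⊥) : Nat.card (Sylow p G) * Nat.card (Sylow p (G ⧸ (M ⊔ N))) = Nat.card (Sylow p (G ⧸ M)) * Nat.card (Sylow p (G ⧸ N)) := by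
  classical
  obtain ⟨P⟩ := (inferInstance : Nonempty (Sylow p G))
  set NP := Subgroup.normalizer ((P : Subgroup G) : Set G) with hNP
  -- the number of Sylow subgroups of a quotient
  have hq : ∀ (K : Subgroup G) [K.Normal], Nat.card (Sylow p (G ⧸ K)) = (NP ⊔ K).index := by
    intro K _
    let Q := P.mapSurjective (QuotientGroup.mk'_surjective K)
    rw [Q.card_eq_index_normalizer]
    have hQ : (Q : Subgroup (G ⧸ K)) = (P : Subgroup G).map (QuotientGroup.mk' K) := rfl
    have h1 : ((P : Subgroup G).map (QuotientGroup.mk' K)).comap (QuotientGroup.mk' K) = (P : Subgroup G) ⊔ K := by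
      rw [Subgroup.comap_map_eq, QuotientGroup.ker_mk']
    have h2 : (Subgroup.normalizer ((Q : Subgroup (G ⧸ K)) : Set (G ⧸ K))).comap (QuotientGroup.mk' K) = NP ⊔ K := by
      apply le_antisymm
      · intro g hg
        rw [Subgroup.mem_comap, Subgroup.mem_normalizer_iff] at hg
        have hgL : ∀ y : G, y ∈ (P : Subgroup G) ⊔ K ↔ g * y * g⁻¹ ∈ (P : Subgroup G) ⊔ K := by
          intro y
          have := hg (QuotientGroup.mk' K y)
          rw [hQ, ← Subgroup.mem_comap, ← map_mul, ← map_inv, ← map_mul, ← Subgroup.mem_comap, h1] at this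
          exact this
        have hPle : (P : Subgroup G) ≤ (P : Subgroup G) ⊔ K := le_sup_left
        have hgle : (g • P : Sylow p G).toSubgroup ≤ (P : Subgroup G) ⊔ K := by
          rw [Sylow.coe_subgroup_smul]
          rintro _ ⟨z, hz, rfl⟩
          simpa using (hgL z).mp (hPle hz)
        obtain ⟨m, hm⟩ := MulAction.exists_smul_eq ↥((P : Subgroup G) ⊔ K) (P.subtype hPle) ((g • P).subtype hgle)
        have h' := (Sylow.smul_subtype hPle m).symm.trans hm
        have hm' : ((m : G) • P : Sylow p G) = g • P := Sylow.subtype_injective h'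
        have hn : (m : G)⁻¹ * g ∈ NP := by
          have hs : ((m : G)⁻¹ * g) • P = P := by rw [mul_smul, ← hm', inv_smul_smul]
          simpa [hNP] using Sylow.smul_eq_iff_mem_normalizer.mp hs
        have hgeq : g = (m : G) * ((m : G)⁻¹ * g) := by group
        rw [hgeq]
        exact Subgroup.mul_mem _ (sup_le_sup_right Subgroup.le_normalizer K m.2) (Subgroup.mem_sup_left hn)
      · refine sup_le ?_ ?_
        · intro g hg
          rw [Subgroup.mem_comap, Subgroup.mem_normalizer_iff]
          rw [hNP, Subgroup.mem_normalizer_iff] at hg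
          intro y
          rw [hQ]
          constructor
          · rintro ⟨z, hz, rfl⟩
            exact ⟨g * z * g⁻¹, (hg z).mp hz, by simp⟩
          · rintro ⟨z, hz, hzy⟩
            refine ⟨g⁻¹ * z * g, (hg _).mpr ?_, ?_⟩
            · rw [show g * (g⁻¹ * z * g) * g⁻¹ = z by group]; exact hz
            · rw [map_mul, map_mul, map_inv, hzy]; group
        · intro k hk
          rw [Subgroup.mem_comap, show QuotientGroup.mk' K k = 1 from (QuotientGroup.eq_one_iff k).mpr hk]
          exact Subgroup.one_mem _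
    rw [← h2, Subgroup.index_comap_of_surjective _ (QuotientGroup.mk'_surjective K)]
    rfl
  have hcoe : Subgroup.normalizer (P : Set G) = NP := rfl
  rw [P.card_eq_index_normalizer, hq M, hq N, hq (M ⊔ N), hcoe]
  have hint : (NP ⊔ M) ⊓ (NP ⊔ N) = NP := by
    refine le_antisymm ?_ (le_inf le_sup_left le_sup_left)
    rintro g ⟨hgM, hgN⟩
    have hnorm : ∀ (K : Subgroup G) [K.Normal], NP ⊔ K ≤ Subgroup.normalizer ((((P : Subgroup G) ⊔ K : Subgroup G)) : Set G) := by
      intro K _
      refine sup_le ?_ (le_sup_right.trans Subgroup.le_normalizer)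
      intro a ha
      rw [hNP, Subgroup.mem_normalizer_iff_map_conj_eq] at ha
      rw [Subgroup.mem_normalizer_iff_map_conj_eq, Subgroup.map_sup, ha]
      congr 1
      exact Subgroup.Normal.map_conj_eq K a
    have hgP : (g • P : Sylow p G).toSubgroup ≤ ((P : Subgroup G) ⊔ M) ⊓ ((P : Subgroup G) ⊔ N) := by
      rw [Sylow.coe_subgroup_smul]
      rintro _ ⟨z, hz, rfl⟩
      constructor
      · simpa using (Subgroup.mem_normalizer_iff.mp (hnorm M hgM) z).mp (Subgroup.mem_sup_left hz)
      · simpa using (Subgroup.mem_normalizer_iff.mp (hnorm N hgN) z).mp (Subgroup.mem_sup_left hz)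
    -- the intersection is a `p`-group
    have hpg : IsPGroup p ↥(((P : Subgroup G) ⊔ M) ⊓ ((P : Subgroup G) ⊔ N)) := by
      intro y
      obtain ⟨⟨a, ha, m, hm, e1⟩, ⟨b, hb, n, hn, e2⟩⟩ :=
        And.intro (Subgroup.mem_sup_of_normal_right.mp y.2.1) (Subgroup.mem_sup_of_normal_right.mp y.2.2)
      obtain ⟨i, hi⟩ := P.2 ⟨a, ha⟩
      obtain ⟨j, hj⟩ := P.2 ⟨b, hb⟩
      have hi' : a ^ p ^ i = 1 := by simpa using congrArg Subtype.val hi
      have hj' : b ^ p ^ j = 1 := by simpa using congrArg Subtype.val hj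
      refine ⟨i + j, Subtype.ext ?_⟩
      have hM' : (y : G) ^ p ^ (i + j) ∈ M := by
        rw [← QuotientGroup.eq_one_iff, QuotientGroup.mk_pow, ← e1, QuotientGroup.mk_mul,
          (QuotientGroup.eq_one_iff m).mpr hm, mul_one, ← QuotientGroup.mk_pow, pow_add, pow_mul, hi',
          one_pow, QuotientGroup.mk_one]
      have hN' : (y : G) ^ p ^ (i + j) ∈ N := by
        rw [← QuotientGroup.eq_one_iff, QuotientGroup.mk_pow, ← e2, QuotientGroup.mk_mul,
          (QuotientGroup.eq_one_iff n).mpr hn, mul_one, ← QuotientGroup.mk_pow, add_comm, pow_add,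
          pow_mul, hj', one_pow, QuotientGroup.mk_one]
      have : (y : G) ^ p ^ (i + j) ∈ M ⊓ N := ⟨hM', hN'⟩
      rw [hMN, Subgroup.mem_bot] at this
      simpa using this
    have hP : ((P : Subgroup G) ⊔ M) ⊓ ((P : Subgroup G) ⊔ N) = (P : Subgroup G) :=
      P.3 hpg (le_inf le_sup_left le_sup_left)
    rw [hP] at hgP
    have : g • P = P := Sylow.ext ((g • P).3 P.2 hgP).symm
    simpa [hNP] using Sylow.smul_eq_iff_mem_normalizer.mp this
  -- index arithmetic
  have h1 : NP.relIndex (NP ⊔ M) * (NP ⊔ M).index = NP.index := Subgroup.relIndex_mul_index le_sup_left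
  have h2 : (NP ⊔ N).relIndex (NP ⊔ (M ⊔ N)) * (NP ⊔ (M ⊔ N)).index = (NP ⊔ N).index :=
    Subgroup.relIndex_mul_index (sup_le_sup_left le_sup_right _)
  have h3 : NP.relIndex (NP ⊔ M) = (NP ⊔ N).relIndex (NP ⊔ (M ⊔ N)) := by
    have hA : (NP ⊔ N).relIndex (NP ⊔ (M ⊔ N)) = (NP ⊔ N).relIndex M := by
      rw [show NP ⊔ (M ⊔ N) = (NP ⊔ N) ⊔ M by rw [sup_assoc, sup_comm M N]]
      exact relIndex_sup_eq (NP ⊔ N) M
    rw [hA, relIndex_sup_eq NP M, ← Subgroup.inf_relIndex_right (NP ⊔ N) M, ← Subgroup.inf_relIndex_right NP M]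
    congr 1
    refine le_antisymm (inf_le_inf_right M le_sup_left) (le_inf ?_ inf_le_right)
    exact le_trans (le_inf (inf_le_right.trans le_sup_right) inf_le_left) hint.le
  rw [← h1, ← h2, h3]
  ring

end Cfsg.Agent.S3867
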