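import Cfsg.Statements.S3869
import Cfsg.Agent.Lib.MinNonClosed.Basic

set_option autoImplicit false
open Cfsg

namespace Cfsg.Agent.S3869

/-- Let p and q be distinct primes and G a finite non-abelian group with a normal elementary abelian q-subgroup A that is a minimal normal subgroup of G and has index p. Then A has order q^e with e the multiplicative order of q modulo p, and G is minimal non-p-closed: its Sylow p-subgroups are not normal, while in every proper subgroup and in every proper quotient of G the Sylow p-subgroups are normal. -/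
theorem result {G : Type*} [Group G] [Finite G] {p q : ℕ} [Fact p.Prime] (hq : q.Prime) (hpq : q ≠ p)
    (hna : ¬ IsMulCommutative G) (A : Subgroup G) [A.Normal] (hA : Cfsg.IsElementaryAbelian q A) (hidx : A.index = p)
    (hmin : ∀ B : Subgroup G, B.Normal → B ≤ A → B = ⊥ ∨ B = A) :
    Nat.card ↥A = q ^ orderOf (q : ZMod p) ∧ ¬ Cfsg.IsPClosed p G ∧ (∀ H : Subgroup G, H ≠ ⊤ → Cfsg.IsPClosed p ↥H) ∧
      ∀ (N : Subgroup G) [N.Normal], N ≠ ⊥ → Cfsg.IsPClosed p (G ⧸ N) := by
  classical
  have hp : p.Prime := Fact.out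
  haveI : Fact q.Prime := ⟨hq⟩
  have hcard := Cfsg.Agent.MinNonClosed.card_eq_of_minimal_normal hq hpq hna A hA hidx hmin
  have hA2 : ¬ p ∣ Nat.card A := by
    rw [hcard]
    intro h
    exact hpq ((Nat.prime_dvd_prime_iff_eq hp hq).mp (hp.dvd_of_dvd_pow h)).symm
  have hAp : ∀ R : Subgroup G, IsPGroup p R → R ⊓ A = ⊥ := by
    intro R hR
    obtain ⟨k, hk⟩ := IsPGroup.iff_card.mp hR
    exact Subgroup.inf_eq_bot_of_coprime (hk ▸ ((hp.coprime_iff_not_dvd).mpr hA2).pow_left k)
  have hpg : ∀ (X : Type _) [Group X] [Finite X], IsPGroup p X → Cfsg.IsPClosed p X := by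
    intro X _ _ hX S
    haveI : (S : Subgroup X).Normal := by
      rw [S.3 (hX.to_subgroup ⊤) le_top |>.symm]
      infer_instance
    assumption
  -- two commuting elements generating modulo `A` force `G` to be abelian
  have hab : ∀ y : G, y ∉ A → ¬ ∀ a ∈ A, a * y = y * a := by
    intro y hy h
    apply hna
    have hgen : A ⊔ Subgroup.zpowers y = ⊤ := by
      rw [← Subgroup.index_eq_one]
      rcases (Nat.dvd_prime hp).mp (hidx ▸ Subgroup.index_dvd_of_le (le_sup_left : A ≤ A ⊔ Subgroup.zpowers y)) with h' | h'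
      · exact h'
      · exfalso
        have h1 : Nat.card ↥A = Nat.card ↥(A ⊔ Subgroup.zpowers y) := by
          refine Nat.eq_of_mul_eq_mul_right hp.pos ?_
          conv_rhs => rw [← h', Subgroup.card_mul_index]
          rw [← hidx, Subgroup.card_mul_index]
        exact hy ((Subgroup.eq_of_le_of_card_ge le_sup_left h1.ge) ▸ Subgroup.mem_sup_right (Subgroup.mem_zpowers y))
    refine ⟨⟨fun g g' => ?_⟩⟩
    obtain ⟨a, ha, u, ⟨k, rfl⟩, rfl⟩ := Subgroup.mem_sup_of_normal_left.mp (hgen ▸ Subgroup.mem_top g)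
    obtain ⟨b, hb, v, ⟨l, rfl⟩, rfl⟩ := Subgroup.mem_sup_of_normal_left.mp (hgen ▸ Subgroup.mem_top g')
    have h1 : Commute a b := congrArg Subtype.val (hA.1.is_comm.comm ⟨a, ha⟩ ⟨b, hb⟩)
    exact (Commute.mul_left (h1.mul_right ((show Commute a y from h a ha).zpow_right l))
      (((show Commute y b from (h b hb).symm).zpow_left k).mul_right ((Commute.refl y).zpow_zpow k l))).eq
  have hbot : ∀ R : Subgroup G, R.Normal → R ⊓ A = ⊥ → R = ⊥ := by
    intro R hR hd
    haveI := hR
    rw [eq_bot_iff]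
    intro y hy
    by_contra hy1
    refine hab y (fun hyA => hy1 (hd ▸ ⟨hy, hyA⟩)) fun a ha => ?_
    exact (Subgroup.commute_of_normal_of_disjoint A R inferInstance hR
      (by rw [disjoint_iff, inf_comm]; exact hd) a y ha hy).eq
  refine ⟨hcard, ?_, ?_, ?_⟩
  · intro hc
    obtain ⟨S⟩ := (inferInstance : Nonempty (Sylow p G))
    refine S.ne_bot_of_dvd_card ?_ (hbot _ (hc S) (hAp _ S.2))
    exact hidx ▸ A.index_dvd_card
  · intro H hH S
    by_cases hHA : H ≤ A
    · have : (S : Subgroup H) = ⊥ := by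
        obtain ⟨k, hk⟩ := IsPGroup.iff_card.mp S.2
        rw [← Subgroup.card_eq_one, hk]
        rcases Nat.eq_zero_or_pos k with rfl | hk0
        · rfl
        · exact absurd (((dvd_pow_self p hk0.ne').trans (hk ▸ Subgroup.card_subgroup_dvd_card _)).trans
            (Subgroup.card_dvd_of_le hHA)) hA2
      rw [this]
      infer_instance
    obtain ⟨x, hxH, hxA⟩ := SetLike.not_le_iff_exists.mp hHA
    have hgen : A ⊔ Subgroup.zpowers x = ⊤ := by
      rw [← Subgroup.index_eq_one]
      rcases (Nat.dvd_prime hp).mp (hidx ▸ Subgroup.index_dvd_of_le (le_sup_left : A ≤ A ⊔ Subgroup.zpowers x)) with h' | h'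
      · exact h'
      · exfalso
        have h1 : Nat.card ↥A = Nat.card ↥(A ⊔ Subgroup.zpowers x) := by
          refine Nat.eq_of_mul_eq_mul_right hp.pos ?_
          conv_rhs => rw [← h', Subgroup.card_mul_index]
          rw [← hidx, Subgroup.card_mul_index]
        exact hxA ((Subgroup.eq_of_le_of_card_ge le_sup_left h1.ge) ▸ Subgroup.mem_sup_right (Subgroup.mem_zpowers x))
    have hnormal : (H ⊓ A).Normal := by
      rw [← Subgroup.normalizer_eq_top_iff, eq_top_iff, ← hgen]
      refine sup_le ?_ (Subgroup.zpowers_le.mpr ?_)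
      · refine le_trans ?_ (Subgroup.centralizer_le_normalizer _)
        intro a ha
        rw [Subgroup.mem_centralizer_iff]
        exact fun b hb => congrArg Subtype.val (hA.1.is_comm.comm ⟨b, hb.2⟩ ⟨a, ha⟩)
      · rw [Subgroup.mem_normalizer_iff]
        intro y
        constructor
        · rintro ⟨h1, h2⟩
          exact ⟨H.mul_mem (H.mul_mem hxH h1) (H.inv_mem hxH), (inferInstance : A.Normal).conj_mem y h2 x⟩
        · rintro ⟨h1, h2⟩
          refine ⟨?_, ?_⟩
          · simpa [mul_assoc] using H.mul_mem (H.mul_mem (H.inv_mem hxH) h1) hxH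
          · simpa [mul_assoc] using (inferInstance : A.Normal).conj_mem _ h2 x⁻¹
    rcases hmin _ hnormal inf_le_right with hd | hd
    · refine hpg H (IsPGroup.of_card (n := (Nat.card H).factorization p) ?_) S
      have h1 := Cfsg.Agent.Solvable.card_sup_of_disjoint H A hd
      have h2 : H ⊔ A = ⊤ := top_le_iff.mp (hgen ▸ sup_le le_sup_right (le_sup_left.trans' (Subgroup.zpowers_le.mpr hxH)))
      rw [h2, Subgroup.card_top, ← A.card_mul_index, hidx, mul_comm (Nat.card ↥H)] at h1
      rw [← Nat.eq_of_mul_eq_mul_left Nat.card_pos h1, Nat.Prime.factorization_self hp, pow_one]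
    · exact absurd (top_le_iff.mp (hgen ▸ sup_le (hd ▸ inf_le_left) (Subgroup.zpowers_le.mpr hxH))) hH
  · intro N hN hN1
    rcases hmin _ (Subgroup.normal_inf_normal N A) inf_le_right with hd | hd
    · exact absurd (hbot N hN hd) hN1
    · refine hpg (G ⧸ N) ?_
      have hAN : A ≤ N := hd ▸ inf_le_left
      obtain ⟨j, -, hj⟩ := (Nat.dvd_prime_pow hp).mp
        (by rw [pow_one, ← hidx]; exact Subgroup.index_dvd_of_le hAN : N.index ∣ p ^ 1)
      exact IsPGroup.of_card (n := j) hj

end Cfsg.Agent.S3869
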