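import Cfsg.Statements.S3870
import Cfsg.Agent.EqLemmas

set_option autoImplicit false
open Cfsg

namespace Cfsg.Agent.S3870

/-- Let G be a finite simple group whose Sylow p-subgroups are not normal but such that every proper subgroup of G has a normal Sylow p-subgroup. Then any two distinct Sylow p-subgroups of G intersect trivially, and for every Sylow p-subgroup P the normalizer of every non-identity subgroup of P lies in the normalizer of P. -/
theorem result {G : Type*} [Group G] [Finite G] [IsSimpleGroup G] {p : ℕ} [Fact p.Prime]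
    (hnc : ¬ Cfsg.IsPClosed p G) (hsub : ∀ H : Subgroup G, H ≠ ⊤ → Cfsg.IsPClosed p ↥H) :
    (∀ P Q : Sylow p G, P ≠ Q → (P : Subgroup G) ⊓ (Q : Subgroup G) = ⊥) ∧
      ∀ (P : Sylow p G) (R : Subgroup G), R ≤ P → R ≠ ⊥ →
        Subgroup.normalizer (R : Set G) ≤ Subgroup.normalizer ((P : Subgroup G) : Set G) := by
  classical
  have h1 : ∀ P Q : Sylow p G, P ≠ Q → (P : Subgroup G) ⊓ (Q : Subgroup G) = ⊥ := by
    suffices ∀ k : ℕ, ∀ P Q : Sylow p G, P ≠ Q →
        Nat.card G - Nat.card ↥((P : Subgroup G) ⊓ (Q : Subgroup G)) = k →
          (P : Subgroup G) ⊓ (Q : Subgroup G) = ⊥ from fun P Q h => this _ P Q h rfl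
    intro k
    induction k using Nat.strong_induction_on with
    | _ k ih =>
      intro P Q hPQ hk
      by_contra hD
      set D : Subgroup G := (P : Subgroup G) ⊓ (Q : Subgroup G) with hDdef
      have hPne : D < (P : Subgroup G) := lt_of_le_of_ne inf_le_left fun he => hPQ
        (Sylow.ext ((P.3 Q.2 (inf_eq_left.mp he)).symm))
      have hQne : D < (Q : Subgroup G) := lt_of_le_of_ne inf_le_right fun he => hPQ
        (Sylow.ext (Q.3 P.2 (inf_eq_right.mp he)))
      have hN : Subgroup.normalizer (D : Set G) ≠ ⊤ := by
        intro htop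
        rcases (Subgroup.normalizer_eq_top_iff.mp htop).eq_bot_or_eq_top with hb | ht
        · exact hD hb
        · exact (ht ▸ hPne : ⊤ < (P : Subgroup G)).not_ge le_top
      have hclosed := hsub _ hN
      obtain ⟨T⟩ := (inferInstance : Nonempty (Sylow p ↥(Subgroup.normalizer (D : Set G))))
      have : T.toSubgroup.Normal := hclosed T
      obtain ⟨R, hR⟩ := (T.2.map (Subgroup.normalizer (D : Set G)).subtype).exists_le_sylow
      have key : ∀ S : Sylow p G, D < (S : Subgroup G) →
          D < (R : Subgroup G) ⊓ (S : Subgroup G) := by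
        intro S hS
        have hne : Group.IsNilpotent (S : Subgroup G) := S.2.isNilpotent
        have hcond := Group.normalizerCondition_of_isNilpotent (G := (S : Subgroup G))
        have hlt : D.subgroupOf (S : Subgroup G) < ⊤ :=
          lt_top_iff_ne_top.mpr fun he => hS.not_ge (Subgroup.subgroupOf_eq_top.mp he)
        obtain ⟨z, hz, hz'⟩ := SetLike.exists_of_lt (hcond _ hlt)
        have hzN : (z : G) ∈ Subgroup.normalizer (D : Set G) := by
          rw [Subgroup.mem_normalizer_iff] at hz ⊢
          intro y
          constructor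
          · intro hy
            have := (hz ⟨y, hS.le hy⟩).mp hy
            exact this
          · intro hy
            have hyS : y ∈ (S : Subgroup G) := by
              simpa [mul_assoc] using (S : Subgroup G).mul_mem
                ((S : Subgroup G).mul_mem ((S : Subgroup G).inv_mem z.2) (hS.le hy)) z.2
            exact (hz ⟨y, hyS⟩).mpr hy
        have hsub' : (S : Subgroup G) ⊓ Subgroup.normalizer (D : Set G) ≤ (R : Subgroup G) := by
          intro w hw
          apply hR
          refine ⟨⟨w, hw.2⟩, ?_, rfl⟩
          have hp' : IsPGroup p ↥((S : Subgroup G).subgroupOf (Subgroup.normalizer (D : Set G))) :=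
            S.2.comap_of_injective _ Subtype.val_injective
          obtain ⟨Q', hQ'⟩ := hp'.exists_le_sylow
          have := Sylow.unique_of_normal T (by assumption)
          have hQT : Q' = T := Subsingleton.elim _ _
          exact hQT ▸ hQ' hw.1
        refine lt_of_le_of_ne (le_inf (fun d hd => hsub' ⟨hS.le hd, Subgroup.le_normalizer hd⟩) hS.le) ?_
        intro he
        exact hz' (show (z : G) ∈ D from he.symm ▸ ⟨hsub' ⟨z.2, hzN⟩, z.2⟩)
      have hcard : ∀ E : Subgroup G, D < E → Nat.card G - Nat.card E < k := by
        intro E hE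
        have h1 : Nat.card D < Nat.card E := lt_of_le_of_ne (Subgroup.card_le_of_le hE.le)
          fun he => hE.ne (Subgroup.eq_of_le_of_card_ge hE.le he.ge)
        have h2 : Nat.card E ≤ Nat.card G := Subgroup.card_le_card_group E
        omega
      have hRP : R = P := by
        by_contra hne
        have := key P hPne
        exact (this.trans_le (ih _ (hcard _ this) R P hne rfl).le).not_ge bot_le
      have hRQ : R = Q := by
        by_contra hne
        have := key Q hQne
        exact (this.trans_le (ih _ (hcard _ this) R Q hne rfl).le).not_ge bot_le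
      exact hPQ (hRP.symm.trans hRQ)
  refine ⟨h1, fun P R hR hR0 g hg => ?_⟩
  suffices hs : g • P = P from by simpa using Sylow.smul_eq_iff_mem_normalizer.mp hs
  by_contra hne
  apply hR0
  rw [eq_bot_iff, ← h1 (g • P) P hne]
  refine le_inf ?_ hR
  intro y hy
  rw [Sylow.coe_subgroup_smul]
  rw [Subgroup.mem_normalizer_iff] at hg
  refine ⟨g⁻¹ * y * g, hR ((hg _).mpr (by simpa [mul_assoc] using hy)), by simp [mul_assoc]⟩

end Cfsg.Agent.S3870
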