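import Cfsg.Statements.S3872
import Cfsg.Agent.Lib.PGroup.PolySeq
import Cfsg.Agent.Lib.PGroup.MaximalClass

set_option autoImplicit false
open Cfsg

namespace Cfsg.Agent.S3872

/-- Say that a finite group is p-exponent closed when its elements of order dividing p form a subgroup. Let G be a finite p-group that is not p-exponent closed, but all of whose proper subgroups and proper quotients are. Then G is generated by two elements, has nilpotency class at least p, has exponent p², has cyclic center, and has order at least p^(p+1). -/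
theorem result {G : Type*} [Group G] [Finite G] {p : ℕ} [Fact p.Prime] (hG : IsPGroup p G)
    (hnc : ¬ (∃ H : Subgroup G, (H : Set G) = {g : G | g ^ p = 1})) (hsub : ∀ K : Subgroup G, K ≠ ⊤ → (∃ H : Subgroup ↥K, (H : Set ↥K) = {g : ↥K | g ^ p = 1}))
    (hquo : ∀ (N : Subgroup G) [N.Normal], N ≠ ⊥ → (∃ H : Subgroup (G ⧸ N), (H : Set (G ⧸ N)) = {g : (G ⧸ N) | g ^ p = 1})) :
    (∃ x y : G, Subgroup.closure ({x, y} : Set G) = ⊤) ∧ (⊤ : Subgroup G).lowerCentralSeries (p - 1) ≠ ⊥ ∧
      Monoid.exponent G = p ^ 2 ∧ IsCyclic ↥(Subgroup.center G) ∧ p ^ (p + 1) ≤ Nat.card G := by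
  have hp := (Fact.out : p.Prime)
  -- two non-closing elements of order `p`
  obtain ⟨a, b, ha, hb, hab⟩ : ∃ a b : G, a ^ p = 1 ∧ b ^ p = 1 ∧ (a * b) ^ p ≠ 1 := by
    by_contra h
    push Not at h
    exact hnc ⟨{ carrier := {g : G | g ^ p = 1}
                 mul_mem' := fun {x y} hx hy => h x y hx hy
                 one_mem' := one_pow _
                 inv_mem' := fun {x} (hx : x ^ p = 1) => by
                   show x⁻¹ ^ p = 1
                   rw [inv_pow, hx, inv_one] }, rfl⟩
  have hgen : Subgroup.closure ({a, b} : Set G) = ⊤ := by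
    by_contra hne
    obtain ⟨H, hH⟩ := hsub _ hne
    have h1 : (⟨a, Subgroup.subset_closure (by simp)⟩ : Subgroup.closure ({a, b} : Set G)) ∈ (H : Set _) := by
      rw [hH]; exact Subtype.ext ha
    have h2 : (⟨b, Subgroup.subset_closure (by simp)⟩ : Subgroup.closure ({a, b} : Set G)) ∈ (H : Set _) := by
      rw [hH]; exact Subtype.ext hb
    have h3 := SetLike.mem_coe.mpr (H.mul_mem h1 h2)
    rw [hH] at h3
    exact hab (congrArg Subtype.val h3)
  have hpow : ∀ z : G, z ∈ Subgroup.center G → orderOf z = p → ∀ g : G, g ^ p ∈ Subgroup.zpowers z := by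
    intro z hz hzo g
    haveI : (Subgroup.zpowers z).Normal := ⟨fun n hn g => by
      rwa [Subgroup.mem_center_iff.mp (Subgroup.zpowers_le.mpr hz hn) g, mul_inv_cancel_right]⟩
    have hne : Subgroup.zpowers z ≠ ⊥ := fun h => hp.one_lt.ne' (by
      rw [← hzo, Subgroup.zpowers_eq_bot.mp h, orderOf_one])
    obtain ⟨H, hH⟩ := hquo _ hne
    have hm : ∀ u : G, u ^ p = 1 → (QuotientGroup.mk' (Subgroup.zpowers z) u) ∈ (H : Set _) := by
      intro u hu
      rw [hH]
      show _ ^ p = 1
      rw [← map_pow, hu, map_one]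
    have hle : Subgroup.closure ({a, b} : Set G) ≤ H.comap (QuotientGroup.mk' (Subgroup.zpowers z)) :=
      (Subgroup.closure_le _).mpr (by
        rintro u (rfl | rfl)
        · exact hm _ ha
        · exact hm _ hb)
    have hg : QuotientGroup.mk' (Subgroup.zpowers z) g ∈ (H : Set _) := hle (hgen ▸ Subgroup.mem_top g)
    rw [hH] at hg
    exact (QuotientGroup.eq_one_iff (g ^ p)).mp hg
  have hnb : (⊤ : Subgroup G) ≠ ⊥ := fun h => hab (by
    rw [(Subgroup.mem_bot.mp (h ▸ Subgroup.mem_top (a * b)) : a * b = 1), one_pow])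
  obtain ⟨z₀, -, hz₀, hz₀o⟩ := PGroup.exists_central_order_p hG hnb
  have hexp : Monoid.exponent G = p ^ 2 := by
    have hdvd : Monoid.exponent G ∣ p ^ 2 := Monoid.exponent_dvd_of_forall_pow_eq_one fun g => by
      obtain ⟨k, hk⟩ := Subgroup.mem_zpowers_iff.mp (hpow z₀ hz₀ hz₀o g)
      have hzp : z₀ ^ p = 1 := hz₀o ▸ pow_orderOf_eq_one z₀
      rw [sq, pow_mul, ← hk, ← zpow_natCast, zpow_comm, zpow_natCast, hzp, one_zpow]
    obtain ⟨k, hk, hke⟩ := (Nat.dvd_prime_pow hp).mp hdvd
    rcases Nat.lt_or_ge k 2 with hk1 | hk1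
    · exact absurd (orderOf_dvd_iff_pow_eq_one.mp ((Monoid.order_dvd_exponent (a * b)).trans
        (by rw [hke]; simpa using pow_dvd_pow p (Nat.lt_succ_iff.mp hk1)))) hab
    · rw [hke, show k = 2 by omega]
  have hcl : (⊤ : Subgroup G).lowerCentralSeries (p - 1) ≠ ⊥ := fun h =>
    hnc (PolySeq.exists_subgroup_pow_eq_one_of_class_lt hG h)
  refine ⟨⟨a, b, hgen⟩, hcl, hexp, ?_, ?_⟩
  · obtain ⟨c, -, hc⟩ := PGroup.isCyclic_of_abelian_unique hG (A := Subgroup.center G)
      (fun x _ y hy => Subgroup.mem_center_iff.mp hy x) (fun x hx y hy hxo hyp => by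
        rcases eq_or_ne y 1 with rfl | hy1
        · exact one_mem _
        have hyo : orderOf y = p := orderOf_eq_prime hyp hy1
        -- both subgroups contain the non-trivial `(a * b) ^ p`
        have h1 := hpow x hx hxo (a * b)
        have h2 := hpow y hy hyo (a * b)
        have e : ∀ w : G, orderOf w = p → (a * b) ^ p ∈ Subgroup.zpowers w →
            Subgroup.zpowers ((a * b) ^ p) = Subgroup.zpowers w := by
          intro w hw hmem
          refine Subgroup.eq_of_le_of_card_ge (Subgroup.zpowers_le.mpr hmem) ?_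
          rw [Nat.card_zpowers, Nat.card_zpowers, hw]
          have hdv := orderOf_dvd_of_mem_zpowers hmem
          rw [hw] at hdv
          have := (hp.eq_one_or_self_of_dvd _ hdv).resolve_left
            (fun h => hab (orderOf_eq_one_iff.mp h))
          exact this.ge
        rw [← e x hxo h1, e y hyo h2]
        exact Subgroup.mem_zpowers y)
    rw [← hc]
    infer_instance
  · -- order
    have hlt : ∀ i, (⊤ : Subgroup G).lowerCentralSeries i ≠ ⊥ →
        p * Nat.card ((⊤ : Subgroup G).lowerCentralSeries (i + 1)) ≤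
          Nat.card ((⊤ : Subgroup G).lowerCentralSeries i) := fun i hi => by
      refine PGroup.mul_card_le_of_lt hG ?_
      rw [Subgroup.lowerCentralSeries_succ]
      exact PGroup.commutator_lt_of_ne_bot hG hi
    have hne : ∀ i, i ≤ p - 1 → (⊤ : Subgroup G).lowerCentralSeries i ≠ ⊥ := fun i hi h =>
      hcl (le_bot_iff.mp (h ▸ Subgroup.lowerCentralSeries_antitone _ hi))
    have key : ∀ j, j ≤ p - 1 → p ^ (j + 1) ≤
        Nat.card ((⊤ : Subgroup G).lowerCentralSeries (p - 1 - j)) := by
      intro j
      induction j with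
      | zero =>
        intro _
        obtain ⟨k, hk⟩ := IsPGroup.iff_card.mp
          (hG.to_subgroup ((⊤ : Subgroup G).lowerCentralSeries (p - 1)))
        rw [Nat.sub_zero, hk]
        refine Nat.pow_le_pow_right hp.pos (Nat.one_le_iff_ne_zero.mpr fun h0 => hcl ?_)
        rw [h0, pow_zero] at hk
        exact Subgroup.eq_bot_of_card_eq _ hk
      | succ j ih =>
        intro hj
        have h := hlt (p - 1 - (j + 1)) (hne _ (by omega))
        rw [show p - 1 - (j + 1) + 1 = p - 1 - j by omega] at h
        rw [pow_succ']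
        exact le_trans (Nat.mul_le_mul le_rfl (ih (by omega))) h
    have h1 : p ^ (p - 1) ≤ Nat.card (_root_.commutator G) := by
      have h := key (p - 2) (by omega)
      rwa [show p - 1 - (p - 2) = 1 by have := hp.two_le; omega,
        show p - 2 + 1 = p - 1 by have := hp.two_le; omega, Subgroup.lowerCentralSeries_succ,
        Subgroup.lowerCentralSeries_zero, ← commutator_def] at h
    have hcne : _root_.commutator G ≠ ⊥ := fun h => hne 1 (by have := hp.two_le; omega) (by
      rw [Subgroup.lowerCentralSeries_succ, Subgroup.lowerCentralSeries_zero, ← commutator_def, h])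
    have h2 := PGroup.index_commutator_ge hG hcne
    calc p ^ (p + 1) = p ^ (p - 1) * p ^ 2 := by
          rw [← pow_add]; congr 1; have := hp.two_le; omega
      _ ≤ Nat.card (_root_.commutator G) * (_root_.commutator G).index := Nat.mul_le_mul h1 h2
      _ = Nat.card G := Subgroup.card_mul_index _

end Cfsg.Agent.S3872
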