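import Cfsg.Statements.S3873
import Cfsg.Agent.Lib.MinNonClosed.Basic

set_option autoImplicit false
open Cfsg

namespace Cfsg.Agent.S3873

/-- Say that a finite group is p-exponent closed when its elements of order dividing p form a subgroup. Let G be a finite group that is not p-exponent closed, but all of whose proper subgroups and proper quotients are, and suppose G is neither simple nor a p-group. Then there is a prime q ≠ p such that G has order p · q^e, where e is the multiplicative order of q modulo p, and G has a normal elementary abelian subgroup of order q^e that is a minimal normal subgroup of G. -/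
theorem result {G : Type*} [Group G] [Finite G] {p : ℕ} [Fact p.Prime]
    (hnc : ¬ (∃ H : Subgroup G, (H : Set G) = {g : G | g ^ p = 1})) (hsub : ∀ K : Subgroup G, K ≠ ⊤ → (∃ H : Subgroup ↥K, (H : Set ↥K) = {g : ↥K | g ^ p = 1}))
    (hquo : ∀ (N : Subgroup G) [N.Normal], N ≠ ⊥ → (∃ H : Subgroup (G ⧸ N), (H : Set (G ⧸ N)) = {g : (G ⧸ N) | g ^ p = 1}))
    (hns : ¬ IsSimpleGroup G) (hnp : ¬ IsPGroup p G) :
    ∃ q : ℕ, q.Prime ∧ q ≠ p ∧ Nat.card G = p * q ^ orderOf (q : ZMod p) ∧
      ∃ A : Subgroup G, A.Normal ∧ Nat.card ↥A = q ^ orderOf (q : ZMod p) ∧ Cfsg.IsElementaryAbelian q A ∧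
        ∀ B : Subgroup G, B.Normal → B ≤ A → B = ⊥ ∨ B = A := by
  classical
  have hp : p.Prime := Fact.out
  haveI : Nontrivial G := by
    by_contra h
    rw [not_nontrivial_iff_subsingleton] at h
    exact hnc ⟨⊥, Set.ext fun g => by simp [Subsingleton.elim g 1]⟩
  -- quotients by nontrivial normal subgroups have exponent dividing `p`
  have hexp : ∀ N : Subgroup G, N.Normal → N ≠ ⊥ → ∀ g : G, g ^ p ∈ N := by
    intro N hN hb
    haveI := hN
    have hgen : Subgroup.closure {g : G | g ^ p = 1} = ⊤ := by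
      by_contra h
      obtain ⟨H, hH⟩ := hsub _ h
      refine hnc ⟨H.map (Subgroup.closure {g : G | g ^ p = 1}).subtype, ?_⟩
      ext g
      constructor
      · rintro ⟨y, hy, rfl⟩
        have h1 : y ^ p = 1 := hH.le hy
        simpa using congrArg Subtype.val h1
      · intro hg
        exact ⟨⟨g, Subgroup.subset_closure hg⟩, hH.ge (Subtype.ext (by simpa using hg)), rfl⟩
    obtain ⟨E, hE⟩ := hquo N hb
    have htop : (E.comap (QuotientGroup.mk' N)) = ⊤ := by
      rw [eq_top_iff, ← hgen, Subgroup.closure_le]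
      intro g hg
      refine hE.ge ?_
      show (QuotientGroup.mk' N g) ^ p = 1
      rw [← map_pow, show g ^ p = 1 from hg, map_one]
    intro g
    rw [← QuotientGroup.eq_one_iff, QuotientGroup.mk_pow]
    exact hE.le (htop.ge (Subgroup.mem_top g))
  have hpq : ∀ (N : Subgroup G) [N.Normal], N ≠ ⊥ → IsPGroup p (G ⧸ N) := by
    intro N hN hb q
    obtain ⟨g, rfl⟩ := QuotientGroup.mk_surjective q
    exact ⟨1, by rw [pow_one, ← QuotientGroup.mk_pow, QuotientGroup.eq_one_iff]; exact hexp N hN hb g⟩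
  obtain ⟨N, hNn, hN1, hN2⟩ : ∃ K : Subgroup G, K.Normal ∧ K ≠ ⊥ ∧ K ≠ ⊤ := by
    by_contra hno
    exact hns ⟨fun K hK => by
      by_contra hc
      push Not at hc
      exact hno ⟨K, hK, hc.1, hc.2⟩⟩
  haveI := hNn
  obtain ⟨A, hAn, hA1, hAN, hAmin⟩ := Cfsg.Agent.Solvable.exists_minimal_normal hN1
  haveI := hAn
  have hA2 : A ≠ ⊤ := fun h => hN2 (top_le_iff.mp (h ▸ hAN))
  -- the minimal normal subgroup has order prime to `p`
  have hAp : ¬ p ∣ Nat.card A := by
    intro hd
    obtain ⟨M, hM⟩ := hsub A hA2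
    haveI hMc : M.Characteristic := by
      rw [Subgroup.characteristic_iff_comap_eq]
      intro e
      ext a
      show e a ∈ (M : Set A) ↔ a ∈ (M : Set A)
      rw [hM]
      show e a ^ p = 1 ↔ a ^ p = 1
      rw [← map_pow, e.map_eq_one_iff]
    rcases hAmin (M.map A.subtype) inferInstance (Subgroup.map_subtype_le M) with h | h
    · obtain ⟨a, ha⟩ := exists_prime_orderOf_dvd_card' p hd
      have h2 : (a : G) ∈ M.map A.subtype := ⟨a, hM.ge (show a ^ p = 1 by rw [← ha, pow_orderOf_eq_one]), rfl⟩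
      rw [h, Subgroup.mem_bot, ← orderOf_eq_one_iff, Subgroup.orderOf_coe, ha] at h2
      exact hp.ne_one h2
    · apply hnp
      intro g
      have hmem : g ^ p ∈ A := hexp A hAn hA1 g
      have hmem' : g ^ p ∈ M.map A.subtype := by rw [h]; exact hmem
      obtain ⟨b, hb, hbe⟩ := hmem'
      have hb1 : b ^ p = 1 := hM.le hb
      refine ⟨2, ?_⟩
      rw [pow_two, pow_mul, ← hbe]
      simpa using congrArg Subtype.val hb1
  -- p-subgroups have exponent dividing `p`
  have hpexp : ∀ (g : G) (k : ℕ), g ^ p ^ k = 1 → g ^ p = 1 := by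
    intro g k hg
    have h1 : (⟨g ^ p, hexp A hAn hA1 g⟩ : A) ^ p ^ k = 1 := by
      apply Subtype.ext
      show (g ^ p) ^ p ^ k = 1
      rw [← pow_mul, mul_comm, pow_mul, hg, one_pow]
    have h2 : (⟨g ^ p, hexp A hAn hA1 g⟩ : A) ^ Nat.card A = 1 := pow_card_eq_one'
    have h3 := pow_gcd_eq_one.mpr ⟨h1, h2⟩
    rw [(((hp.coprime_iff_not_dvd).mpr hAp).pow_left k).gcd_eq_one, pow_one] at h3
    exact congrArg Subtype.val h3
  have hclosed : ∀ H : Subgroup G, (∃ E : Subgroup H, (E : Set H) = {g : H | g ^ p = 1}) →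
      Cfsg.IsPClosed p H := by
    rintro H ⟨E, hE⟩ S
    have hle : (S : Subgroup H) ≤ E := by
      intro s hs
      obtain ⟨k, hk⟩ := S.2 ⟨s, hs⟩
      refine hE.ge (Subtype.ext ?_)
      show (s : G) ^ p = 1
      exact hpexp _ k (by simpa using congrArg Subtype.val (congrArg Subtype.val hk))
    have hEp : IsPGroup p E := fun y => ⟨1, by
      apply Subtype.ext
      have := hE.le y.2
      simpa using this⟩
    have hSE : E = (S : Subgroup H) := S.3 hEp hle
    rw [← hSE]
    constructor
    intro y hy h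
    refine hE.ge ?_
    show (h * y * h⁻¹) ^ p = 1
    rw [conj_pow, show y ^ p = 1 from hE.le hy, mul_one, mul_inv_cancel]
  refine Cfsg.Agent.MinNonClosed.structure_of_not_simple ?_ (fun H hH => hclosed H (hsub H hH)) ?_ hns
  · intro hc
    obtain ⟨S⟩ := (inferInstance : Nonempty (Sylow p G))
    refine hnc ⟨(S : Subgroup G), Set.ext fun g => ⟨fun hg => ?_, fun hg => ?_⟩⟩
    · obtain ⟨k, hk⟩ := S.2 ⟨g, hg⟩
      exact hpexp g k (by simpa using congrArg Subtype.val hk)
    · exact Cfsg.Agent.MinNonClosed.le_of_pClosed hc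
        (show IsPGroup p (Subgroup.zpowers g) from fun y => ⟨1, by
          obtain ⟨_, ⟨i, rfl⟩⟩ := y
          apply Subtype.ext
          show (g ^ i) ^ p ^ 1 = 1
          rw [pow_one, ← zpow_natCast, ← zpow_mul, mul_comm, zpow_mul, zpow_natCast,
            show g ^ p = 1 from hg, one_zpow]⟩) S (Subgroup.mem_zpowers g)
  · intro M hM hb S
    haveI : (S : Subgroup (G ⧸ M)).Normal := by
      rw [S.3 ((hpq M hb).to_subgroup ⊤) le_top |>.symm]
      infer_instance
    assumption

end Cfsg.Agent.S3873
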