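import Cfsg.Statements.S3875
import Cfsg.Agent.Lib.MinNonPClosed.Simple
import Cfsg.Agent.Lib.Signalizer.PAction
import Cfsg.Agent.Lib.PSL2.Existence

set_option autoImplicit false
open Cfsg

namespace Cfsg.Agent.S3875

open MinNonPClosed

/-- A normal `p`-subgroup of the order of a Sylow `p`-subgroup makes the group `p`-closed. -/
theorem closed_of_normal {H : Type*} [Group H] [Finite H] {p : ℕ} [Fact p.Prime] (R : Subgroup H)
    [hR : R.Normal] (hRp : IsPGroup p R) (hRi : ¬ p ∣ R.index) : Cfsg.IsPClosed p H := by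
  intro P
  have hle : R ≤ (P : Subgroup H) := hRp.le_sylow_of_normal P
  have := (hRp.toSylow hRi).is_maximal' P.isPGroup' hle
  rw [this]
  exact hR

/-- A `p`-group acting non-trivially on a normal `p'`-subgroup gives a large order. -/
theorem le_card_of_not_centralize {H : Type*} [Group H] [Finite H] {p : ℕ} [Fact p.Prime] {m : ℕ}
    (hleast : ∀ k : ℕ, IsPrimePow k → k % p = 1 → m ≤ k) {P N : Subgroup H} [N.Normal] (hP : IsPGroup p P)
    (hN : ¬ p ∣ Nat.card N) (hPN : ¬ N ≤ Subgroup.centralizer (P : Set H)) : m ≤ Nat.card N := by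
  classical
  by_contra hlt
  refine hPN (inf_eq_left.mp (Subgroup.eq_of_le_of_card_ge inf_le_left ?_))
  refine Nat.le_of_dvd Nat.card_pos ((Nat.dvd_iff_prime_pow_dvd_dvd _ _).mpr fun q k hq hqk => ?_)
  haveI : Fact q.Prime := ⟨hq⟩
  obtain ⟨S, hS, hPS⟩ := Signalizer.exists_invariant_sylow (q := q) hP N hN
    (le_of_le_of_eq le_top (Subgroup.normalizer_eq_top_iff.mpr inferInstance).symm)
  obtain ⟨s, hs⟩ := hS.exists_sylow
  have hqk' : q ^ k ∣ Nat.card S := by
    rw [← hs, Subgroup.card_map_of_injective N.subtype_injective]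
    rw [s.card_eq_multiplicity]
    exact pow_dvd_pow q ((hq.pow_dvd_iff_le_factorization Nat.card_pos.ne').mp hqk)
  refine hqk'.trans (Subgroup.card_dvd_of_le (le_inf hS.1 ?_))
  by_contra hSC
  let f : P →* MulAut S := (S.normalizerMonoidHom).comp (Subgroup.inclusion hPS)
  letI : MulAction P S := MulAction.compHom S f
  have hfix : ∀ y : S, y ∈ MulAction.fixedPoints P S ↔ (y : H) ∈ Subgroup.centralizer (P : Set H) := by
    intro y
    rw [Subgroup.mem_centralizer_iff]
    refine ⟨fun h a ha => ?_, fun h a => Subtype.ext ?_⟩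
    · exact mul_inv_eq_iff_eq_mul.mp (congrArg Subtype.val (h ⟨a, ha⟩) :)
    · show (a : H) * y * (a : H)⁻¹ = y
      rw [h a a.2, mul_inv_cancel_right]
  have hmod := hP.card_modEq_card_fixedPoints S
  have hfx : Nat.card (MulAction.fixedPoints P S) =
      Nat.card ((S ⊓ Subgroup.centralizer (P : Set H)) : Subgroup H) :=
    Nat.card_congr
      { toFun := fun y => ⟨(y.1 : H), y.1.2, (hfix y.1).mp y.2⟩
        invFun := fun z => ⟨⟨z.1, z.2.1⟩, (hfix _).mpr z.2.2⟩
        left_inv := fun _ => rfl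
        right_inv := fun _ => rfl }
  obtain ⟨a, ha⟩ := hS.2.1.exists_card_eq
  obtain ⟨b, hb⟩ := (hS.2.1.to_le (inf_le_left (b := Subgroup.centralizer (P : Set H)))).exists_card_eq
  rw [hfx, ha, hb] at hmod
  have hba : b < a := by
    refine (Nat.pow_lt_pow_iff_right hq.one_lt).mp ?_
    rw [← ha, ← hb]
    refine lt_of_le_of_ne (Subgroup.card_le_of_le inf_le_left) fun h => hSC ?_
    exact inf_eq_left.mp (Subgroup.eq_of_le_of_card_ge inf_le_left h.ge)
  have hqp : q ≠ p := fun h => hN <| by
    have : q ∣ Nat.card S := by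
      rw [ha]; exact dvd_pow_self q (by omega)
    exact h ▸ this.trans (Subgroup.card_dvd_of_le hS.1)
  have hp1 : q ^ (a - b) % p = 1 := by
    rw [show q ^ a = q ^ b * q ^ (a - b) by rw [← pow_add]; congr 1; omega] at hmod
    have h1 : q ^ b * q ^ (a - b) ≡ q ^ b * 1 [MOD p] := by rwa [mul_one]
    have h2 := Nat.ModEq.cancel_left_of_coprime
      (((Nat.coprime_primes Fact.out hq).mpr hqp.symm).pow_right b) h1
    rw [Nat.ModEq, Nat.mod_eq_of_lt (Fact.out : p.Prime).one_lt] at h2
    exact h2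
  have hqpp : IsPrimePow (q ^ (a - b)) := hq.prime.isPrimePow.pow (by omega)
  refine hlt ((hleast _ hqpp hp1).trans ?_)
  calc q ^ (a - b) ≤ q ^ a := Nat.pow_le_pow_right hq.pos (Nat.sub_le a b)
    _ = Nat.card S := ha.symm
    _ ≤ Nat.card N := Subgroup.card_le_of_le hS.1

theorem closed_of_small (p : ℕ) [Fact p.Prime] (hp : p ≠ 2) (m : ℕ)
    (hleast : ∀ k : ℕ, IsPrimePow k → k % p = 1 → m ≤ k) :
    ∀ (n : ℕ) (H : Type) [Group H] [Finite H], Nat.card H = n →
      Nat.card H < min (p * m) (p * (p ^ 2 - 1) / 2) → Cfsg.IsPClosed p H := by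
  intro n
  induction n using Nat.strong_induction_on with
  | _ n ih =>
    intro H _ _ hn hlt P
    have hpp : p.Prime := Fact.out
    obtain ⟨hlt1, hlt2⟩ := lt_min_iff.mp hlt
    have hlt2' : 2 * Nat.card H < p * (p ^ 2 - 1) := by omega
    by_cases hdvd : p ∣ Nat.card H
    swap
    · have : (P : Subgroup H) = ⊥ := by
        refine Subgroup.card_eq_one.mp ?_
        rw [P.card_eq_multiplicity, Nat.factorization_eq_zero_of_not_dvd hdvd, pow_zero]
      rw [this]; infer_instance
    have hmul : (P : Subgroup H).index * Nat.card P = Nat.card H := Subgroup.index_mul_card _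
    by_cases hsq : p ^ 2 ∣ Nat.card H
    · by_contra hP
      have h1 : Nat.card (Sylow p H) ≠ 1 := fun h => hP (Subgroup.normalizer_eq_top_iff.mp
        (Subgroup.index_eq_one.mp (P.card_eq_index_normalizer.symm.trans h)))
      have h2 : p + 1 ≤ Nat.card (Sylow p H) := by
        have hpos : 1 ≤ Nat.card (Sylow p H) := Nat.card_pos
        obtain ⟨k, hk⟩ := (Nat.modEq_iff_dvd' hpos).mp (card_sylow_modEq_one p H).symm
        have : p ≤ p * k := Nat.le_mul_of_pos_right p (Nat.pos_of_ne_zero fun h0 => by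
          rw [h0, Nat.mul_zero] at hk; omega)
        omega
      have h3 : p ^ 2 ≤ Nat.card P := by
        rw [P.card_eq_multiplicity]
        exact Nat.pow_le_pow_right hpp.pos ((hpp.pow_dvd_iff_le_factorization Nat.card_pos.ne').mp hsq)
      have h4 : p ^ 2 * (p + 1) ≤ Nat.card H := by
        rw [← hmul, mul_comm (P : Subgroup H).index]
        refine Nat.mul_le_mul h3 (h2.trans (Nat.le_of_dvd (Nat.pos_of_ne_zero Subgroup.index_ne_zero_of_finite) ?_))
        exact Sylow.card_dvd_index P
      have h5 : p * (p ^ 2 - 1) ≤ p ^ 2 * (p + 1) := by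
        have : p * (p ^ 2 - 1) ≤ p * p ^ 2 := Nat.mul_le_mul_left p (Nat.sub_le _ _)
        calc _ ≤ p * p ^ 2 := this
          _ = p ^ 2 * p := mul_comm _ _
          _ ≤ _ := Nat.mul_le_mul_left _ (Nat.le_succ p)
      omega
    have hPc : Nat.card P = p := by
      rw [P.card_eq_multiplicity]
      have h1 : (Nat.card H).factorization p = 1 := le_antisymm
        (not_lt.mp fun h => hsq ((hpp.pow_dvd_iff_le_factorization Nat.card_pos.ne').mpr h))
        (hpp.dvd_iff_one_le_factorization Nat.card_pos.ne' |>.mp hdvd)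
      rw [h1, pow_one]
    have hnt : Nontrivial H := (Finite.one_lt_card_iff_nontrivial (α := H)).mp
      (lt_of_lt_of_le hpp.one_lt (Nat.le_of_dvd Nat.card_pos hdvd))
    by_cases hsimp : IsSimpleGroup H
    · by_cases hc : IsMulCommutative H
      · exact ⟨fun a ha g => by rw [mul_comm' g a, mul_inv_cancel_right]; exact ha⟩
      · have := two_mul_card_ge hc hp hdvd hsq
        omega
    obtain ⟨N, hN, hNb, hNt⟩ : ∃ N : Subgroup H, N.Normal ∧ N ≠ ⊥ ∧ N ≠ ⊤ := by
      by_contra h
      push Not at h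
      exact hsimp ⟨fun N hN => or_iff_not_imp_left.mpr (h N hN)⟩
    have hsmall : ∀ (K : Subgroup H), K.Normal → K ≠ ⊤ → ¬ p ∣ K.index → Cfsg.IsPClosed p H := by
      intro K hK hKt hKi
      have hlt' : Nat.card K < Nat.card H := by
        refine lt_of_le_of_ne (Subgroup.card_le_card_group K) fun h => hKt (Subgroup.card_eq_iff_eq_top K |>.mp h)
      obtain ⟨Q⟩ := (inferInstance : Nonempty (Sylow p K))
      have := ih _ (hn ▸ hlt') K rfl (hlt'.trans hlt) Q
      have := Sylow.characteristic_of_normal Q this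
      refine closed_of_normal ((Q : Subgroup K).map K.subtype) (Q.isPGroup'.map _) ?_
      rw [Subgroup.index_map_subtype]
      exact fun h => (hpp.dvd_or_dvd h).elim Q.not_dvd_index hKi
    by_cases hpN : p ∣ Nat.card N
    · refine hsmall N hN hNt (fun h => hsq ?_) P
      rw [pow_two, ← N.card_mul_index]
      exact Nat.mul_dvd_mul hpN h
    have hltq : Nat.card (H ⧸ N) < Nat.card H := by
      rw [N.card_eq_card_quotient_mul_card_subgroup]
      exact lt_mul_of_one_lt_right Nat.card_pos (N.one_lt_card_iff_ne_bot.mpr hNb)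
    let π := QuotientGroup.mk' N
    have hπ : Function.Surjective π := QuotientGroup.mk'_surjective N
    have hPn := ih _ (hn ▸ hltq) (H ⧸ N) rfl (hltq.trans hlt) (P.mapSurjective hπ)
    rw [Sylow.coe_mapSurjective] at hPn
    have hK : ((P : Subgroup H) ⊔ N).Normal := by
      have := hPn.comap π
      rwa [Subgroup.comap_map_eq, QuotientGroup.ker_mk'] at this
    by_cases hKt : (P : Subgroup H) ⊔ N = ⊤
    swap
    · exact hsmall _ hK hKt (fun h => P.not_dvd_index (h.trans (Subgroup.index_dvd_of_le le_sup_left))) P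
    by_contra hP
    have hPN : ¬ N ≤ Subgroup.centralizer ((P : Subgroup H) : Set H) := by
      intro h
      refine hP (Subgroup.normalizer_eq_top_iff.mp (top_le_iff.mp (hKt ▸ sup_le Subgroup.le_normalizer
        (h.trans (Subgroup.centralizer_le_normalizer _)))))
    have hm' := le_card_of_not_centralize hleast P.isPGroup' hpN hPN
    have hco : (Nat.card P).Coprime (Nat.card N) := by
      rw [hPc]; exact hpp.coprime_iff_not_dvd.mpr hpN
    have hcd : Nat.card P * Nat.card N ∣ Nat.card H :=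
      Nat.Coprime.mul_dvd_of_dvd_of_dvd hco (Subgroup.card_subgroup_dvd_card _) (Subgroup.card_subgroup_dvd_card _)
    have h1 := Nat.le_of_dvd Nat.card_pos hcd
    have h2 : p * m ≤ Nat.card P * Nat.card N := by rw [hPc]; exact Nat.mul_le_mul_left p hm'
    omega

/-- A non-`p`-closed group of order `p * m`. -/
theorem exists_semidirect (p : ℕ) [Fact p.Prime] (m : ℕ) (hm : IsPrimePow m) (hm1 : m % p = 1) :
    ∃ (H : Type) (_ : Group H) (_ : Finite H), Nat.card H = p * m ∧ ¬ Cfsg.IsPClosed p H := by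
  classical
  obtain ⟨q, k, hq, hk, rfl⟩ := (isPrimePow_nat_iff m).mp hm
  have : Fact q.Prime := ⟨hq⟩
  have hF : Nat.card (GaloisField q k) = q ^ k := GaloisField.card q k hk.ne'
  have := Fintype.ofFinite (GaloisField q k)
  have hd : p ∣ Nat.card (GaloisField q k)ˣ := by
    rw [Nat.card_units, hF]
    exact hm1 ▸ Nat.dvd_sub_mod _
  obtain ⟨u, hu⟩ := exists_prime_orderOf_dvd_card' p hd
  let φ : Subgroup.zpowers u →* MulAut (Multiplicative (GaloisField q k)) :=
    { toFun := fun t => AddEquiv.toMultiplicative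
        { toFun := fun a => ((t : (GaloisField q k)ˣ) : GaloisField q k) * a
          invFun := fun a => ((t⁻¹ : (GaloisField q k)ˣ) : GaloisField q k) * a
          left_inv := fun a => Units.inv_mul_cancel_left _ a
          right_inv := fun a => Units.mul_inv_cancel_left _ a
          map_add' := fun a b => mul_add _ a b }
      map_one' := MulEquiv.ext fun a => by
        show Multiplicative.ofAdd (((1 : (GaloisField q k)ˣ) : GaloisField q k) * Multiplicative.toAdd a) = a
        rw [Units.val_one, one_mul, ofAdd_toAdd]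
      map_mul' := fun s t => MulEquiv.ext fun a => by
        show Multiplicative.ofAdd (((s * t : Subgroup.zpowers u) : (GaloisField q k)ˣ).val * Multiplicative.toAdd a) =
          Multiplicative.ofAdd ((s : (GaloisField q k)ˣ).val *
            ((t : (GaloisField q k)ˣ).val * Multiplicative.toAdd a))
        rw [Subgroup.coe_mul, Units.val_mul, mul_assoc] }
  haveI : Finite (Multiplicative (GaloisField q k) ⋊[φ] Subgroup.zpowers u) :=
    Finite.of_equiv _ SemidirectProduct.equivProd.symm
  refine ⟨Multiplicative (GaloisField q k) ⋊[φ] Subgroup.zpowers u, inferInstance, inferInstance, ?_, ?_⟩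
  · rw [SemidirectProduct.card, Nat.card_congr Multiplicative.toAdd, hF, Nat.card_zpowers, hu, mul_comm]
  intro hcl
  have hR : IsPGroup p (SemidirectProduct.inr : _ →* Multiplicative (GaloisField q k) ⋊[φ] Subgroup.zpowers u).range := by
    refine IsPGroup.of_card (n := 1) ?_
    rw [← Nat.card_congr (MonoidHom.ofInjective SemidirectProduct.inr_injective).toEquiv, Nat.card_zpowers, hu,
      pow_one]
  obtain ⟨P, hP⟩ := hR.exists_le_sylow
  have hPe : (P : Subgroup _) = (SemidirectProduct.inr : _ →* Multiplicative (GaloisField q k) ⋊[φ] Subgroup.zpowers u).range := by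
    refine (Subgroup.eq_of_le_of_card_ge hP ?_).symm
    rw [P.card_eq_multiplicity, SemidirectProduct.card, Nat.card_congr Multiplicative.toAdd, hF,
      ← Nat.card_congr (MonoidHom.ofInjective SemidirectProduct.inr_injective).toEquiv, Nat.card_zpowers, hu]
    have hnd : ¬ p ∣ q ^ k := fun h => by
      rw [Nat.mod_eq_zero_of_dvd h] at hm1
      exact zero_ne_one hm1
    rw [Nat.factorization_mul (pow_ne_zero _ hq.ne_zero) (Fact.out : p.Prime).ne_zero, Finsupp.add_apply,
      Nat.factorization_eq_zero_of_not_dvd hnd, Nat.Prime.factorization_self Fact.out, zero_add, pow_one]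
  let t : Subgroup.zpowers u := ⟨u, Subgroup.mem_zpowers u⟩
  let a : Multiplicative (GaloisField q k) := Multiplicative.ofAdd 1
  have hmem := (hcl P).conj_mem _ (hP ⟨t, rfl⟩) (SemidirectProduct.inl a)
  rw [hPe] at hmem
  obtain ⟨r, hr⟩ := hmem
  have hl := congrArg (fun z => Multiplicative.toAdd z.left) hr
  simp [φ, a, t, SemidirectProduct.mul_left, SemidirectProduct.inv_left] at hl
  have hu1 : u ≠ 1 := fun h => (Fact.out : p.Prime).ne_one (by rw [← hu, h, orderOf_one])
  exact hu1 (Units.ext (by rw [Units.val_one]; linear_combination hl))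

/-- `PSL₂(p)` is not `p`-closed. -/
theorem exists_psl (p : ℕ) [Fact p.Prime] (hp : p ≠ 2) :
    ∃ (H : Type) (_ : Group H) (_ : Finite H), Nat.card H = p * (p ^ 2 - 1) / 2 ∧ ¬ Cfsg.IsPClosed p H := by
  classical
  have hpp : p.Prime := Fact.out
  have h3 : 3 ≤ p := by have := hpp.two_le; omega
  have hev : 2 ∣ p - 1 := by
    obtain ⟨i, hi⟩ := hpp.odd_of_ne_two hp
    omega
  have hc := PSL2.card_psl_mul (F := ZMod p)
  rw [Nat.card_zmod, Nat.gcd_eq_left hev, show (p + 1) * (p - 1) = p ^ 2 - 1 by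
    rw [← Nat.sq_sub_sq, one_pow]] at hc
  refine ⟨PSL2.PSL2 (ZMod p), inferInstance, inferInstance, by omega, ?_⟩
  intro hcl
  let A : PSL2.SL2 (ZMod p) := ⟨!![1, 1; 0, 1], by simp [Matrix.det_fin_two]⟩
  let B : PSL2.SL2 (ZMod p) := ⟨!![1, 0; 1, 1], by simp [Matrix.det_fin_two]⟩
  have hA : A ^ p = 1 := by
    have h : ∀ n : ℕ, ((A ^ n : PSL2.SL2 (ZMod p)) : Matrix (Fin 2) (Fin 2) (ZMod p)) = !![1, (n : ZMod p); 0, 1] := by
      intro n
      induction n with
      | zero => simp [Matrix.one_fin_two]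
      | succ n ih => rw [pow_succ, Matrix.SpecialLinearGroup.coe_mul, ih]; simp [A, Matrix.mul_fin_two, add_comm]
    refine Subtype.ext ?_
    rw [h p]; simp [Matrix.one_fin_two]
  have hB : B ^ p = 1 := by
    have h : ∀ n : ℕ, ((B ^ n : PSL2.SL2 (ZMod p)) : Matrix (Fin 2) (Fin 2) (ZMod p)) = !![1, 0; (n : ZMod p), 1] := by
      intro n
      induction n with
      | zero => simp [Matrix.one_fin_two]
      | succ n ih => rw [pow_succ, Matrix.SpecialLinearGroup.coe_mul, ih]; simp [B, Matrix.mul_fin_two, add_comm]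
    refine Subtype.ext ?_
    rw [h p]; simp [Matrix.one_fin_two]
  let π : PSL2.SL2 (ZMod p) →* PSL2.PSL2 (ZMod p) := QuotientGroup.mk' _
  obtain ⟨P⟩ := (inferInstance : Nonempty (Sylow p (PSL2.PSL2 (ZMod p))))
  have hPc : Nat.card P ≤ p := by
    rw [P.card_eq_multiplicity]
    refine (Nat.pow_le_pow_right hpp.pos ?_).trans_eq (pow_one p)
    by_contra h
    have h2 : p ^ 2 ∣ Nat.card (PSL2.PSL2 (ZMod p)) :=
      (hpp.pow_dvd_iff_le_factorization Nat.card_pos.ne').mpr (by omega)
    have h4 : p * p ∣ p * (p ^ 2 - 1) := hc ▸ (pow_two p ▸ h2).mul_left 2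
    have h5 : p ∣ p ^ 2 - 1 := (Nat.mul_dvd_mul_iff_left hpp.pos).mp h4
    have h6 : 1 ≤ p ^ 2 := Nat.one_le_pow _ _ hpp.pos
    have h7 : p ∣ p ^ 2 - (p ^ 2 - 1) := Nat.dvd_sub (dvd_pow_self p two_ne_zero) h5
    rw [Nat.sub_sub_self h6] at h7
    exact hpp.ne_one (Nat.dvd_one.mp h7)
  have hin : ∀ g : PSL2.SL2 (ZMod p), g ^ p = 1 → π g ∈ (P : Subgroup _) := by
    intro g hg
    have hpg : IsPGroup p (Subgroup.zpowers (π g)) := by
      obtain ⟨i, -, hi⟩ := (Nat.dvd_prime_pow hpp).mp (show orderOf (π g) ∣ p ^ 1 by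
        rw [pow_one]; exact orderOf_dvd_of_pow_eq_one (by rw [← map_pow, hg, map_one]))
      exact IsPGroup.of_card (n := i) (by rw [Nat.card_zpowers, hi])
    obtain ⟨Q, hQ⟩ := hpg.exists_le_sylow
    have := hcl P
    letI := Sylow.unique_of_normal P this
    exact Subsingleton.elim Q P ▸ hQ (Subgroup.mem_zpowers _)
  obtain ⟨i, hi⟩ := P.isPGroup'.exists_card_eq
  have hcyc : IsCyclic (P : Subgroup (PSL2.PSL2 (ZMod p))) := by
    have hi1 : i ≤ 1 := (Nat.pow_le_pow_iff_right hpp.one_lt).mp (by rw [← hi, pow_one]; exact hPc)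
    interval_cases i
    · haveI : Subsingleton P := (Nat.card_eq_one_iff_unique.mp (by rw [hi, pow_zero])).1
      exact isCyclic_of_subsingleton
    · exact isCyclic_of_prime_card (by rw [hi, pow_one])
  have hcm := IsCyclic.commutative (α := (P : Subgroup (PSL2.PSL2 (ZMod p))))
  have hAB : π (A * B) = π (B * A) := by
    rw [map_mul, map_mul]
    exact congrArg Subtype.val (hcm.is_comm.comm ⟨_, hin A hA⟩ ⟨_, hin B hB⟩)
  obtain ⟨z, hz, hzz⟩ := (QuotientGroup.mk'_eq_mk' _).mp hAB
  obtain ⟨c, -, hc'⟩ := Matrix.SpecialLinearGroup.mem_center_iff.mp hz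
  have hv := congrArg (fun g : PSL2.SL2 (ZMod p) => (g : Matrix (Fin 2) (Fin 2) (ZMod p))) hzz
  simp only [Matrix.SpecialLinearGroup.coe_mul, ← hc'] at hv
  have h01 := congrFun (congrFun hv 0) 1
  have h00 := congrFun (congrFun hv 0) 0
  simp [A, B, Matrix.mul_fin_two, Matrix.scalar_apply] at h01 h00
  rw [h01] at h00
  have : (1 : ZMod p) = 0 := by linear_combination h00
  exact one_ne_zero this

/-- Let p be an odd prime and let m be the least prime power congruent to 1 modulo p. Then the least order of a finite group whose Sylow p-subgroups are not normal is the smaller of p · m and p(p² − 1)/2: every finite group whose Sylow p-subgroups are not normal has at least that order, and some group of exactly that order has non-normal Sylow p-subgroups. -/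
theorem result (p : ℕ) [Fact p.Prime] (hp : p ≠ 2) (m : ℕ) (hm : IsPrimePow m) (hm1 : m % p = 1)
    (hleast : ∀ k : ℕ, IsPrimePow k → k % p = 1 → m ≤ k) :
    (∀ (H : Type) [Group H] [Finite H], ¬ Cfsg.IsPClosed p H → min (p * m) (p * (p ^ 2 - 1) / 2) ≤ Nat.card H) ∧
      ∃ (H : Type) (_ : Group H) (_ : Finite H), Nat.card H = min (p * m) (p * (p ^ 2 - 1) / 2) ∧ ¬ Cfsg.IsPClosed p H := by
  refine ⟨fun H _ _ hH => le_of_not_gt fun hlt => hH (closed_of_small p hp m hleast _ H rfl hlt), ?_⟩
  rcases le_total (p * m) (p * (p ^ 2 - 1) / 2) with h | h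
  · rw [min_eq_left h]; exact exists_semidirect p m hm hm1
  · rw [min_eq_right h]; exact exists_psl p hp

end Cfsg.Agent.S3875
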