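import Cfsg.Statements.S3878
import Cfsg.Agent.EqLemmas

set_option autoImplicit false
open Cfsg

namespace Cfsg.Agent.S3878

/-- A prime in `π` : every `π`-Hall subgroup contains a conjugate of each `p`-element. -/
theorem exists_conj_mem {G : Type*} [Group G] [Finite G] {π : Set ℕ} {H : Subgroup G}
    (hH : Cfsg.IsPiHall π H) {p : ℕ} [Fact p.Prime] (hp : p ∈ π) (c : G) {k : ℕ}
    (hc : c ^ p ^ k = 1) : ∃ g : G, g * c * g⁻¹ ∈ H := by
  obtain ⟨Q⟩ : Nonempty (Sylow p H) := inferInstance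
  let P : Sylow p G := (Q.2.map H.subtype).toSylow (by
    intro h
    have hle : (Q : Subgroup H).map H.subtype ≤ H := Subgroup.map_subtype_le _
    rw [← Subgroup.relIndex_mul_index hle] at h
    rcases (Fact.out : p.Prime).dvd_mul.mp h with h | h
    · rw [Subgroup.relIndex, Subgroup.subgroupOf,
        Subgroup.comap_map_eq_self_of_injective H.subtype_injective] at h
      exact Q.not_dvd_index h
    · exact hH.2 p Fact.out hp (by simpa using h))
  have hz : IsPGroup p (Subgroup.zpowers c) := by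
    rintro ⟨x, hx⟩
    obtain ⟨i, rfl⟩ := Subgroup.mem_zpowers_iff.mp hx
    exact ⟨k, Subtype.ext (by
      show (c ^ i) ^ p ^ k = 1
      rw [← zpow_natCast (c ^ i), zpow_comm, zpow_natCast, hc, one_zpow])⟩
  obtain ⟨P', hP'⟩ := hz.exists_le_sylow
  obtain ⟨g, rfl⟩ := MulAction.exists_smul_eq G P P'
  refine ⟨g⁻¹, ?_⟩
  have := hP' (Subgroup.mem_zpowers c)
  rw [Sylow.coe_subgroup_smul, Subgroup.mem_pointwise_smul_iff_inv_smul_mem] at this
  have h2 : g⁻¹ * c * g⁻¹⁻¹ ∈ (P : Subgroup G) := by simpa using this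
  exact Subgroup.map_subtype_le _ h2

open Equiv Equiv.Perm in
/-- A `p`-cycle in `Perm (Fin n)`. -/
theorem exists_cycle (n p : ℕ) (h2 : 2 ≤ p) (hpn : p ≤ n) :
    ∃ c : Equiv.Perm (Fin n), c.IsCycle ∧ c.support.card = p := by
  obtain ⟨l, hl, hlen⟩ : ∃ l : List (Fin n), l.Nodup ∧ l.length = p :=
    ⟨(List.finRange n).take p, (List.nodup_finRange n).sublist (List.take_sublist _ _), by simp [hpn]⟩
  refine ⟨l.formPerm, List.isCycle_formPerm hl (by omega), ?_⟩
  rw [List.support_formPerm_of_nodup _ hl (fun x hx => by simp [hx] at hlen; omega),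
    List.toFinset_card_of_nodup hl, hlen]

open Equiv.Perm in
/-- No Hall `π`-subgroup in `S_q` when `π` contains primes `p < q` but not `2`, or `2` but not `3`. -/
theorem not_isEPi_perm {π : Set ℕ} {p q : ℕ} (hp : p.Prime) (hq : q.Prime) (hpπ : p ∈ π)
    (hqπ : q ∈ π) (hpq : p < q) (h : 2 ∉ π ∨ (p = 2 ∧ 3 ∉ π)) :
    ¬ Cfsg.IsEPiGroup π (Equiv.Perm (Fin q)) := by
  classical
  rintro ⟨H, hH⟩
  haveI := Fact.mk hp
  haveI := Fact.mk hq
  obtain ⟨σ, hσ, hσc⟩ := exists_cycle q q hq.two_le le_rfl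
  obtain ⟨c, hc, hcc⟩ := exists_cycle q p hp.two_le hpq.le
  obtain ⟨u, hu⟩ := exists_conj_mem hH hqπ σ (k := 1) (by
    rw [pow_one]; simpa [hσ.orderOf, hσc] using pow_orderOf_eq_one σ)
  obtain ⟨v, hv⟩ := exists_conj_mem hH hpπ c (k := 1) (by
    rw [pow_one]; simpa [hc.orderOf, hcc] using pow_orderOf_eq_one c)
  have hτ := hc.conj (g := v)
  have hτc : (v * c * v⁻¹).support.card = p := by rw [card_support_conj, hcc]
  have hρ := hσ.conj (g := u)
  have hρc : (u * σ * u⁻¹).support = Finset.univ := Finset.eq_univ_of_card _ (by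
    rw [card_support_conj, hσc, Fintype.card_fin])
  haveI : MulAction.IsPretransitive H (Fin q) := ⟨fun x y => by
    obtain ⟨i, hi⟩ := hρ.exists_zpow_eq (x := x) (y := y)
      (mem_support.mp (hρc ▸ Finset.mem_univ x)) (mem_support.mp (hρc ▸ Finset.mem_univ y))
    exact ⟨⟨(u * σ * u⁻¹) ^ i, H.zpow_mem hu i⟩, hi⟩⟩
  have hprim : MulAction.IsPreprimitive H (Fin q) :=
    MulAction.IsPreprimitive.of_prime_card (by rwa [Nat.card_eq_fintype_card, Fintype.card_fin])
  rcases h with h | ⟨h2, h3⟩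
  · -- 2-transitive groups have even order
    set s : Set (Fin q) := ((v * c * v⁻¹).support : Set (Fin q))ᶜ with hs
    have hsc : s.ncard = q - p := by
      rw [hs, Set.ncard_compl, Set.ncard_coe_finset, hτc, Nat.card_eq_fintype_card, Fintype.card_fin]
    have h2t : MulAction.IsMultiplyPretransitive H (Fin q) 2 :=
      hprim.is_two_pretransitive (n := q - p - 1) (s := s) (by omega)
        (by rw [Nat.card_eq_fintype_card, Fintype.card_fin]; have := hp.two_le; omega)
        (isPretransitive_of_isCycle_mem hτ hv)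
    have hne : (⟨0, hq.pos⟩ : Fin q) ≠ ⟨1, hq.one_lt⟩ := by simp
    obtain ⟨g, hg1, hg2⟩ := MulAction.is_two_pretransitive_iff.mp h2t hne hne.symm
    refine h (hH.1 2 Nat.prime_two (dvd_trans ?_ (orderOf_dvd_natCard g)))
    by_contra hodd
    obtain ⟨m, hm⟩ := Nat.odd_iff.mpr (by omega : orderOf g % 2 = 1)
    have hfix : ∀ j : ℕ, (g * g) ^ j • (⟨0, hq.pos⟩ : Fin q) = ⟨0, hq.pos⟩ := fun j => by
      induction j with
      | zero => simp
      | succ j ih => rw [pow_succ, mul_smul, mul_smul, hg1, hg2, ih]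
    refine hne ?_
    have h1 : g ^ (2 * m + 1) = 1 := hm ▸ pow_orderOf_eq_one g
    have := congrArg (· • (⟨0, hq.pos⟩ : Fin q)) h1
    simp only [one_smul] at this
    rw [pow_succ', pow_mul, sq, mul_smul, hfix, hg1] at this
    exact this.symm
  · -- a transposition generates everything
    have htop := subgroup_eq_top_of_isPreprimitive_of_isSwap_mem hprim _
      (card_support_eq_two.mp (hτc.trans h2)) hv
    refine h3 (hH.1 3 Nat.prime_three ?_)
    rw [htop, Subgroup.card_top, Nat.card_eq_fintype_card, Fintype.card_perm, Fintype.card_fin]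
    exact Nat.dvd_factorial (by norm_num) (by have := hq.two_le; omega)

/-- No subgroup of prime index `r ≥ 5` in `S_(r+1)`. -/
theorem index_ne_prime {r : ℕ} (hr : r.Prime) (h5 : 5 ≤ r) (H : Subgroup (Equiv.Perm (Fin (r + 1)))) :
    H.index ≠ r := by
  classical
  intro hidx
  have hA : IsSimpleGroup (alternatingGroup (Fin (r + 1))) :=
    alternatingGroup.isSimpleGroup (by rw [Nat.card_eq_fintype_card, Fintype.card_fin]; omega)
  have hidx2 : (alternatingGroup (Fin (r + 1))).index = 2 := by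
    haveI : Nontrivial (Fin (r + 1)) := Fin.nontrivial_iff_two_le.mpr (by omega)
    exact alternatingGroup.index_eq_two
  set K := H.normalCore
  have hK : K.Normal := inferInstance
  rcases hA.eq_bot_or_eq_top_of_normal (K.subgroupOf (alternatingGroup (Fin (r + 1))))
      inferInstance with h | h
  · -- the core is too small
    have hdisj := Subgroup.subgroupOf_eq_bot.mp h
    have hK2 : Nat.card K ≤ 2 := by
      rw [← hidx2, ← Subgroup.relIndex_bot_left]
      calc (⊥ : Subgroup _).relIndex K = (alternatingGroup (Fin (r + 1))).relIndex K := by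
            rw [← Subgroup.inf_relIndex_right (alternatingGroup (Fin (r + 1))), hdisj.symm.eq_bot]
        _ ≤ _ := by
            rw [← Subgroup.relIndex_top_right (alternatingGroup (Fin (r + 1)))]
            exact Subgroup.relIndex_le_of_le_right le_top (by simp [hidx2])
    have hdvd : K.index ∣ r.factorial := by
      have h' : H.normalCore.index ∣ H.index.factorial := by
        rw [Subgroup.normalCore_eq_ker, Subgroup.index_ker, Subgroup.index,
          ← Nat.card_perm]
        exact Subgroup.card_subgroup_dvd_card _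
      rwa [hidx] at h'
    have hle := Nat.le_of_dvd (Nat.factorial_pos r) hdvd
    have hcard := K.card_mul_index
    rw [Nat.card_eq_fintype_card (α := Equiv.Perm _), Fintype.card_perm, Fintype.card_fin,
      Nat.factorial_succ] at hcard
    have h1 : Nat.card K * K.index ≤ 2 * r.factorial := Nat.mul_le_mul hK2 hle
    have h2 : 3 * r.factorial ≤ (r + 1) * r.factorial := Nat.mul_le_mul_right _ (by omega)
    have := Nat.factorial_pos r
    omega
  · have hle : alternatingGroup (Fin (r + 1)) ≤ H :=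
      (Subgroup.subgroupOf_eq_top.mp h).trans H.normalCore_le
    have := Nat.le_of_dvd (by norm_num) (hidx2 ▸ Subgroup.index_dvd_of_le hle)
    omega

/-- No Hall `π`-subgroup in `S_(r+1)` when `r ≥ 5` is the first prime outside `π`. -/
theorem not_isEPi_perm_succ {π : Set ℕ} {r : ℕ} (hr : r.Prime) (h5 : 5 ≤ r) (hrπ : r ∉ π)
    (hlt : ∀ p, p.Prime → p < r → p ∈ π) : ¬ Cfsg.IsEPiGroup π (Equiv.Perm (Fin (r + 1))) := by
  rintro ⟨H, hH⟩
  have hnp : ¬ (r + 1).Prime := fun h => by
    have h1 := h.eq_two_or_odd; have h2 := hr.eq_two_or_odd; omega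
  have hcard : H.index ∣ (r + 1) * r.factorial := by
    rw [← Nat.factorial_succ]
    simpa [Fintype.card_perm] using H.index_dvd_card
  have honly : ∀ {p}, p.Prime → p ∣ H.index → p = r := by
    intro p hp hdvd
    have hle : p ≤ r + 1 := by
      have := hdvd.trans hcard
      rw [← Nat.factorial_succ] at this
      exact hp.dvd_factorial.mp this
    by_contra hne
    rcases lt_or_gt_of_ne hne with hl | hl
    · exact hH.2 p hp (hlt p hp hl) hdvd
    · exact hnp (show r + 1 = p by omega ▸ hp)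
  obtain ⟨m, hm⟩ : ∃ m, H.index = r ^ m :=
    ⟨_, Nat.eq_prime_pow_of_unique_prime_dvd H.index_ne_zero_of_finite honly⟩
  have hm1 : m ≤ 1 := by
    by_contra hm2
    have h2 : r ^ 2 ∣ (r + 1) * r.factorial := (pow_dvd_pow r (by omega)).trans (hm ▸ hcard)
    have hco : Nat.Coprime (r ^ 2) (r + 1) := (Nat.coprime_self_add_right.mpr (Nat.coprime_one_right r)).pow_left 2
    have h3 := hco.dvd_of_dvd_mul_left h2
    obtain ⟨k, hk⟩ : ∃ k, r = k + 1 := ⟨r - 1, by omega⟩
    rw [hk, Nat.factorial_succ, sq] at h3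
    have h4 := Nat.dvd_of_mul_dvd_mul_left (by omega) h3
    rw [← hk] at h4
    have := hr.dvd_factorial.mp h4
    omega
  interval_cases m
  · rw [pow_zero, Subgroup.index_eq_one] at hm
    refine hrπ (hH.1 r hr ?_)
    rw [hm, Subgroup.card_top, Nat.card_eq_fintype_card, Fintype.card_perm, Fintype.card_fin]
    exact Nat.dvd_factorial hr.pos (by omega)
  · exact index_ne_prime hr h5 H (by simpa using hm)

/-- `D_π` implies `E_π`. -/
theorem isEPi_of_isDPi {G : Type} [Group G] [Finite G] {π : Set ℕ} (hD : Cfsg.IsDPiGroup π G) :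
    Cfsg.IsEPiGroup π G := by
  have hbot : Cfsg.IsPiSubgroup π (⊥ : Subgroup G) := fun p hp h => absurd h (by simp [hp.ne_one])
  obtain ⟨H, -, hH⟩ := Finite.exists_le_maximal hbot
  refine ⟨H, hH.prop, fun p hp hpπ h => ?_⟩
  haveI := Fact.mk hp
  obtain ⟨P⟩ : Nonempty (Sylow p G) := inferInstance
  have hP : Cfsg.IsPiSubgroup π (P : Subgroup G) := fun r hr hdvd => by
    obtain ⟨k, hk⟩ := IsPGroup.iff_card.mp P.2
    rwa [(Nat.prime_dvd_prime_iff_eq hr hp).mp (hr.dvd_of_dvd_pow (hk ▸ hdvd))]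
  obtain ⟨K, hPK, hK⟩ := Finite.exists_le_maximal hP
  obtain ⟨g, rfl⟩ := hD H K hH hK
  refine P.not_dvd_index (dvd_trans ?_ (Subgroup.index_dvd_of_le hPK))
  rwa [Subgroup.index_map_of_bijective (MulEquiv.bijective _)]

/-- The positive direction. -/
theorem isDPi_of_small {G : Type} [Group G] [Finite G] {π : Set ℕ}
    (h : (∀ p q : ℕ, p.Prime → q.Prime → p ∈ π → q ∈ π → p = q) ∨ ∀ p : ℕ, p.Prime → p ∈ π) :
    Cfsg.IsDPiGroup π G := by
  intro H K hH hK
  rcases h with h | h
  · by_cases hex : ∃ p, p.Prime ∧ p ∈ π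
    · obtain ⟨p, hp, hpπ⟩ := hex
      haveI := Fact.mk hp
      have key : ∀ L : Subgroup G, Maximal (Cfsg.IsPiSubgroup π) L → ∃ P : Sylow p G, (P : Subgroup G) = L := by
        intro L hL
        have hpg : IsPGroup p L := IsPGroup.iff_card.mpr ⟨_, Nat.eq_prime_pow_of_unique_prime_dvd
          Nat.card_pos.ne' fun {r} hr hdvd => h r p hr hp (hL.prop r hr hdvd) hpπ⟩
        obtain ⟨P, hP⟩ := hpg.exists_le_sylow
        refine ⟨P, le_antisymm (hL.le_of_ge (fun r hr hdvd => ?_) hP) hP⟩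
        obtain ⟨k, hk⟩ := IsPGroup.iff_card.mp P.2
        rwa [(Nat.prime_dvd_prime_iff_eq hr hp).mp (hr.dvd_of_dvd_pow (hk ▸ hdvd))]
      obtain ⟨P, rfl⟩ := key H hH
      obtain ⟨Q, rfl⟩ := key K hK
      obtain ⟨g, rfl⟩ := MulAction.exists_smul_eq G P Q
      exact ⟨g, rfl⟩
    · push Not at hex
      have key : ∀ L : Subgroup G, Maximal (Cfsg.IsPiSubgroup π) L → L = ⊥ := fun L hL => by
        refine Subgroup.eq_bot_of_card_eq _ ?_
        by_contra hne
        obtain ⟨r, hr, hdvd⟩ := Nat.exists_prime_and_dvd hne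
        exact hex r hr (hL.prop r hr hdvd)
      exact ⟨1, by rw [key H hH, key K hK, Subgroup.map_bot]⟩
  · have key : ∀ L : Subgroup G, Maximal (Cfsg.IsPiSubgroup π) L → L = ⊤ := fun L hL =>
      top_le_iff.mp (hL.le_of_ge (fun r hr _ => h r hr) le_top)
    exact ⟨1, by rw [key H hH, key K hK, Subgroup.map_top_of_surjective _ (MulEquiv.surjective _)]⟩

/-- The negative direction. -/
theorem exists_not_isEPi {π : Set ℕ}
    (h1 : ¬ ∀ p q : ℕ, p.Prime → q.Prime → p ∈ π → q ∈ π → p = q) (h2 : ¬ ∀ p : ℕ, p.Prime → p ∈ π) :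
    ∃ n : ℕ, ¬ Cfsg.IsEPiGroup π (Equiv.Perm (Fin n)) := by
  classical
  push Not at h1 h2
  obtain ⟨p, q, hp, hq, hpπ, hqπ, hne⟩ := h1
  have hex : ∃ r, r.Prime ∧ r ∉ π := h2
  obtain ⟨hr, hrπ⟩ := Nat.find_spec hex
  set r := Nat.find hex
  have hlt : ∀ s, s.Prime → s < r → s ∈ π := fun s hs hl => by
    by_contra hs'
    exact Nat.find_min hex hl ⟨hs, hs'⟩
  have hr4 : r ≠ 4 := fun h => absurd (h ▸ hr) (by norm_num)
  rcases Nat.lt_or_ge r 5 with h5 | h5
  · have : r = 2 ∨ r = 3 := by have := hr.two_le; omega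
    rcases this with hr2 | hr3
    · rw [hr2] at hrπ
      rcases lt_or_gt_of_ne hne with hl | hl
      · exact ⟨q, not_isEPi_perm hp hq hpπ hqπ hl (Or.inl hrπ)⟩
      · exact ⟨p, not_isEPi_perm hq hp hqπ hpπ hl (Or.inl hrπ)⟩
    · rw [hr3] at hrπ
      have h2π : 2 ∈ π := hlt 2 Nat.prime_two (by omega)
      rcases eq_or_ne p 2 with rfl | hp2
      · exact ⟨q, not_isEPi_perm Nat.prime_two hq h2π hqπ (by have := hq.two_le; omega) (Or.inr ⟨rfl, hrπ⟩)⟩
      · exact ⟨p, not_isEPi_perm Nat.prime_two hp h2π hpπ (by have := hp.two_le; omega) (Or.inr ⟨rfl, hrπ⟩)⟩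
  · exact ⟨r + 1, not_isEPi_perm_succ hr h5 hrπ hlt⟩

/-- For a set of primes π the following are equivalent: every finite group has a Hall π-subgroup; in every finite group the maximal π-subgroups are pairwise conjugate; π contains at most one prime or contains every prime. -/
theorem result (π : Set ℕ) :
    ((∀ (G : Type) [Group G] [Finite G], Cfsg.IsEPiGroup π G) ↔
      ((∀ p q : ℕ, p.Prime → q.Prime → p ∈ π → q ∈ π → p = q) ∨ ∀ p : ℕ, p.Prime → p ∈ π)) ∧
    ((∀ (G : Type) [Group G] [Finite G], Cfsg.IsDPiGroup π G) ↔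
      ((∀ p q : ℕ, p.Prime → q.Prime → p ∈ π → q ∈ π → p = q) ∨ ∀ p : ℕ, p.Prime → p ∈ π)) := by
  by_cases h : (∀ p q : ℕ, p.Prime → q.Prime → p ∈ π → q ∈ π → p = q) ∨ ∀ p : ℕ, p.Prime → p ∈ π
  · exact ⟨iff_of_true (fun G _ _ => isEPi_of_isDPi (isDPi_of_small h)) h,
      iff_of_true (fun G _ _ => isDPi_of_small h) h⟩
  · obtain ⟨n, hn⟩ := exists_not_isEPi (fun h' => h (Or.inl h')) (fun h' => h (Or.inr h'))
    exact ⟨iff_of_false (fun hE => hn (hE _)) h,
      iff_of_false (fun hD => hn (isEPi_of_isDPi (hD _))) h⟩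

end Cfsg.Agent.S3878
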