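import Cfsg.Statements.S3880
import Cfsg.Agent.Lib.Metacyclic.Subgroups

set_option autoImplicit false
open Cfsg

namespace Cfsg.Agent.S3880

/-- Let p be an odd prime and G a finite metacyclic p-group (G has a cyclic normal subgroup with cyclic quotient). Then a subgroup L of G is abelian if and only if |L| ≤ |G : G'|, and L is a maximal abelian subgroup of G if and only if |L| = |G : G'|. -/
theorem result {G : Type*} [Group G] [Finite G] {p : ℕ} [Fact p.Prime] (hp : p ≠ 2) (hG : IsPGroup p G) (hmc : Cfsg.IsMetacyclic G) (L : Subgroup G) :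
    (IsMulCommutative ↥L ↔ Nat.card ↥L ≤ (commutator G).index) ∧
      (Maximal (fun K : Subgroup G => IsMulCommutative ↥K) L ↔ Nat.card ↥L = (commutator G).index) := by
  obtain ⟨D⟩ := Cfsg.Agent.Metacyclic.exists_data hp hG hmc
  refine ⟨by rw [D.isMulCommutative_iff hG, D.card_le_iff hG], ?_⟩
  rw [D.maximal_abelian_iff hG]
  have h1 := D.index_commutator_mul
  have h2 := L.card_mul_index
  have hpos : 0 < p ^ D.n := pow_pos (Fact.out : p.Prime).pos _
  constructor
  · intro h
    rw [h, ← h1] at h2
    exact Nat.eq_of_mul_eq_mul_right hpos h2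
  · intro h
    rw [← h1, h] at h2
    have hpos' : 0 < (commutator G).index := Subgroup.index_ne_zero_of_finite.bot_lt
    exact Nat.eq_of_mul_eq_mul_left hpos' h2

end Cfsg.Agent.S3880
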