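import Cfsg.Statements.S3881
import Cfsg.Agent.Lib.Metacyclic.Subgroups

set_option autoImplicit false
open Cfsg

namespace Cfsg.Agent.S3881

/-- Let p be an odd prime and G a finite metacyclic p-group (G has a cyclic normal subgroup with cyclic quotient). Suppose G is non-abelian with |G'| = p^n. Then for 1 ≤ i ≤ n the number of elements of G whose conjugacy class has exactly p^i elements is |Z(G)| · (p^(2i) − p^(2i−2)). -/
theorem result {G : Type*} [Group G] [Finite G] {p : ℕ} [Fact p.Prime] (hp : p ≠ 2) (hG : IsPGroup p G) (hmc : Cfsg.IsMetacyclic G) (n : ℕ) (hn : n ≠ 0) (hGn : Nat.card ↥(commutator G) = p ^ n) (i : ℕ) (hi : 1 ≤ i) (hin : i ≤ n) :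
    Nat.card {g : G // (Subgroup.centralizer ({g} : Set G)).index = p ^ i} =
      Nat.card ↥(Subgroup.center G) * (p ^ (2 * i) - p ^ (2 * i - 2)) := by
  classical
  obtain ⟨D⟩ := Cfsg.Agent.Metacyclic.exists_data hp hG hmc
  have hp' : p.Prime := Fact.out
  have hn' : D.n = n := Nat.pow_right_injective hp'.two_le (D.card_commutator.symm.trans hGn)
  subst hn'
  have hs1 : D.n - i ≤ D.n := Nat.sub_le _ _
  have hs2 : D.n - i + 1 ≤ D.n := by omega
  have hiff : ∀ g : G, (Subgroup.centralizer ({g} : Set G)).index = p ^ i ↔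
      g ∈ D.level (D.n - i) ∧ g ∉ D.level (D.n - i + 1) := by
    intro g
    obtain ⟨S⟩ := D.exists_shape hG (Subgroup.centralizer ({g} : Set G))
    rw [← D.index_centralizer_le_iff hs1, ← D.index_centralizer_le_iff hs2, S.index_eq,
      Nat.sub_sub_self hin, show D.n - (D.n - i + 1) = i - 1 by omega,
      Nat.pow_le_pow_iff_right hp'.one_lt, Nat.pow_le_pow_iff_right hp'.one_lt,
      Nat.pow_right_inj hp'.two_le]
    omega
  have hsub : D.level (D.n - i + 1) ≤ D.level (D.n - i) := by
    intro g hg
    rw [← D.index_centralizer_le_iff hs1]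
    refine ((D.index_centralizer_le_iff hs2 g).mpr hg).trans (Nat.pow_le_pow_right hp'.pos ?_)
    omega
  have h : Nat.card {g : G // (Subgroup.centralizer ({g} : Set G)).index = p ^ i} =
      Nat.card ↥(D.level (D.n - i)) - Nat.card ↥(D.level (D.n - i + 1)) := by
    rw [show Nat.card {g : G // (Subgroup.centralizer ({g} : Set G)).index = p ^ i} =
        ((D.level (D.n - i) : Set G) \ (D.level (D.n - i + 1) : Set G)).ncard from ?_]
    · rw [Set.ncard_diff hsub (Set.toFinite _), ← Nat.card_coe_set_eq, ← Nat.card_coe_set_eq]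
      rfl
    · rw [← Nat.card_coe_set_eq]
      exact Nat.card_congr (Equiv.subtypeEquivRight fun g => hiff g)
  rw [h, D.card_level hs1, D.card_level hs2, ← Nat.mul_sub, Nat.sub_sub_self hin,
    show D.n - (D.n - i + 1) = i - 1 by omega, ← pow_mul, ← pow_mul]
  congr 3 <;> omega

end Cfsg.Agent.S3881
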