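import Cfsg.Statements.S3883
import Cfsg.Agent.Lib.Metacyclic.Subgroups
import Cfsg.Agent.Lib.PGroup.Basic

set_option autoImplicit false
open Cfsg

namespace Cfsg.Agent.S3883

/-- Let p be an odd prime and G a finite metacyclic p-group (G has a cyclic normal subgroup with cyclic quotient). Suppose G is non-abelian. Then an element g of G lies outside the Frattini subgroup if and only if its centralizer C_G(g) is abelian. -/
theorem result {G : Type*} [Group G] [Finite G] {p : ℕ} [Fact p.Prime] (hp : p ≠ 2) (hG : IsPGroup p G) (hmc : Cfsg.IsMetacyclic G) (hna : ¬ IsMulCommutative G) (g : G) :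
    g ∉ frattini G ↔ IsMulCommutative ↥(Subgroup.centralizer ({g} : Set G)) := by
  obtain ⟨D⟩ := Cfsg.Agent.Metacyclic.exists_data hp hG hmc
  have hp' : p.Prime := Fact.out
  have hn : 1 ≤ D.n := by
    by_contra h
    apply hna
    have hc := D.card_commutator
    rw [show D.n = 0 by omega, pow_zero, Subgroup.card_eq_one, commutator_def,
      Subgroup.commutator_eq_bot_iff_le_centralizer] at hc
    exact ⟨⟨fun x y => (Subgroup.mem_centralizer_iff.mp (hc (Subgroup.mem_top y)) x (Subgroup.mem_top x))⟩⟩
  have hfr : frattini G = D.level 1 := by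
    rw [Cfsg.Agent.PGroup.frattini_eq hG, ← D.closure_pow_eq hn]
    have hset : (Set.range fun x : G => x ^ p) = {x : G | ∃ y : G, y ^ p ^ 1 = x} := by
      ext x; simp
    rw [hset, sup_eq_right, commutator_def, Subgroup.commutator_le]
    intro x _ y _
    obtain ⟨i, j, rfl⟩ := D.hgen x
    obtain ⟨k, l, rfl⟩ := D.hgen y
    rw [D.commutator_eq]
    refine Subgroup.zpow_mem _ (Subgroup.subset_closure ?_) _
    obtain ⟨c, hc⟩ := D.hd
    exact ⟨D.a ^ c, by rw [pow_one, ← pow_mul, hc, mul_comm]⟩
  obtain ⟨S⟩ := D.exists_shape hG (Subgroup.centralizer ({g} : Set G))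
  rw [hfr, ← D.index_centralizer_le_iff hn, S.isMulCommutative_iff, S.index_eq,
    Nat.pow_le_pow_iff_right hp'.one_lt]
  omega

end Cfsg.Agent.S3883
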