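import Cfsg.Statements.S3884
import Cfsg.Agent.Lib.Metacyclic.Subgroups

set_option autoImplicit false
open Cfsg

namespace Cfsg.Agent.S3884

/-- Let p be an odd prime and G a finite metacyclic p-group (G has a cyclic normal subgroup with cyclic quotient). Then G is the product of two cyclic subgroups with trivial intersection: there are cyclic subgroups A and B with A ∩ B = 1 and |A| · |B| = |G|. -/
theorem result {G : Type*} [Group G] [Finite G] {p : ℕ} [Fact p.Prime] (hp : p ≠ 2) (hG : IsPGroup p G) (hmc : Cfsg.IsMetacyclic G) : ∃ A B : Subgroup G, IsCyclic ↥A ∧ IsCyclic ↥B ∧ A ⊓ B = ⊥ ∧ Nat.card ↥A * Nat.card ↥B = Nat.card G := by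
  classical
  obtain ⟨D⟩ := Cfsg.Agent.Metacyclic.exists_data hp hG hmc
  have hpp : p.Prime := Fact.out
  obtain ⟨S⟩ := D.exists_shape hG (Subgroup.zpowers D.a)
  have hα : S.α = 0 := by
    have := S.dvdA 1 (Subgroup.pow_mem _ (Subgroup.mem_zpowers _) _)
    rcases Nat.eq_zero_or_pos S.α with h | h
    · exact h
    · exact absurd (Nat.eq_one_of_dvd_one this) (Nat.one_lt_pow h.ne' hpp.one_lt).ne'
  obtain ⟨m, hm⟩ := IsPGroup.iff_orderOf.mp hG D.a
  have hcard : Nat.card G = p ^ m * p ^ S.β := by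
    rw [← (Subgroup.zpowers D.a).card_mul_index, S.index_eq, hα, zero_add, Nat.card_zpowers, hm]
  have hbk : D.b ^ p ^ S.β ∈ Subgroup.zpowers D.a := by
    have := (Subgroup.zpowers D.a).mul_mem
      ((Subgroup.zpowers D.a).inv_mem (Subgroup.pow_mem _ (Subgroup.mem_zpowers _) S.i)) S.memX
    rwa [inv_mul_cancel_left] at this
  obtain ⟨s₀, hs₀⟩ := Metacyclic.Data.exists_pow_eq hbk
  obtain ⟨s, hs, hsm⟩ : ∃ s, D.b ^ p ^ S.β = D.a ^ s ∧ s < p ^ m :=
    ⟨s₀ % orderOf D.a, by rw [pow_mod_orderOf, hs₀], hm ▸ Nat.mod_lt _ (orderOf_pos _)⟩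
  have hdvdB : ∀ v : ℕ, D.b ^ v ∈ Subgroup.zpowers D.a → p ^ S.β ∣ v := fun v hv =>
    S.dvdB 0 v (by rwa [pow_zero, one_mul])
  have hinf : ∀ A B : G, (∀ e : ℕ, B ^ e ∈ Subgroup.zpowers A → B ^ e = 1) →
      Subgroup.zpowers A ⊓ Subgroup.zpowers B = ⊥ := by
    intro A B h
    rw [eq_bot_iff]
    rintro y ⟨hyA, hyB⟩
    obtain ⟨e, rfl⟩ := Metacyclic.Data.exists_pow_eq hyB
    exact h e hyA
  by_cases hcase : p ^ S.β ∣ s
  · obtain ⟨s', rfl⟩ := hcase
    obtain ⟨w, hw, ⟨uw, huw⟩⟩ := Metacyclic.geom_prime_pow_unit (m := m) D.hodd D.cast_succ_d S.β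
    set i := (-(s' : ZMod (p ^ m)) * (uw⁻¹ : (ZMod (p ^ m))ˣ)).val with hi
    set g := D.a ^ i * D.b ^ 1 with hg
    have hiw : ((i * w + s' : ℕ) : ZMod (p ^ m)) = 0 := by
      rw [Nat.cast_add, Nat.cast_mul, hi, ZMod.natCast_zmod_val, ← huw]
      linear_combination (-(s' : ZMod (p ^ m))) * uw.inv_mul
    have hgk : g ^ p ^ S.β = 1 := by
      rw [hg, D.pow_eq, one_mul, hs, ← pow_add, pow_one, hw, ← orderOf_dvd_iff_pow_eq_one, hm,
        show i * (p ^ S.β * w) + p ^ S.β * s' = p ^ S.β * (i * w + s') by ring]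
      exact dvd_mul_of_dvd_right ((ZMod.natCast_eq_zero_iff _ _).mp hiw) _
    have hdiv : ∀ e : ℕ, g ^ e ∈ Subgroup.zpowers D.a → p ^ S.β ∣ e := fun e he => by
      rw [hg, D.pow_eq, one_mul] at he
      exact S.dvdB _ e he
    have hord : orderOf g = p ^ S.β := Nat.dvd_antisymm (orderOf_dvd_of_pow_eq_one hgk)
      (hdiv _ (by rw [pow_orderOf_eq_one]; exact one_mem _))
    refine ⟨Subgroup.zpowers D.a, Subgroup.zpowers g, inferInstance, inferInstance,
      hinf _ _ (fun e he => ?_), by rw [Nat.card_zpowers, Nat.card_zpowers, hm, hord, hcard]⟩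
    obtain ⟨c, rfl⟩ := hdiv e he
    rw [pow_mul, hgk, one_pow]
  · have hs0 : s ≠ 0 := fun h => hcase (h ▸ dvd_zero _)
    obtain ⟨σ, s', hs', rfl⟩ := Nat.exists_eq_pow_mul_and_not_dvd hs0 p hpp.ne_one
    have hσβ : σ < S.β := by
      by_contra h
      exact hcase (dvd_mul_of_dvd_left (pow_dvd_pow p (not_lt.mp h)) _)
    have hσm : σ < m := by
      by_contra h
      have h1 : p ^ σ ≤ p ^ σ * s' := Nat.le_mul_of_pos_right _ (Nat.pos_of_ne_zero fun h => hs' (h ▸ dvd_zero p))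
      have h2 : p ^ m ≤ p ^ σ := Nat.pow_le_pow_right hpp.pos (not_lt.mp h)
      omega
    have hcs' : Nat.Coprime p s' := (hpp.coprime_iff_not_dvd).mpr hs'
    have hbord : orderOf D.b = p ^ S.β * p ^ (m - σ) := by
      apply Nat.dvd_antisymm
      · apply orderOf_dvd_of_pow_eq_one
        rw [pow_mul, hs, ← pow_mul, ← orderOf_dvd_iff_pow_eq_one, hm,
          show p ^ σ * s' * p ^ (m - σ) = p ^ σ * p ^ (m - σ) * s' by ring, ← pow_add,
          Nat.add_sub_cancel' hσm.le]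
        exact dvd_mul_right _ _
      · obtain ⟨f, hf⟩ := hdvdB (orderOf D.b) (by rw [pow_orderOf_eq_one]; exact one_mem _)
        rw [hf]
        refine Nat.mul_dvd_mul_left _ ?_
        have h1 : D.a ^ (p ^ σ * s' * f) = 1 := by rw [pow_mul, ← hs, ← pow_mul, ← hf, pow_orderOf_eq_one]
        rw [← orderOf_dvd_iff_pow_eq_one, hm] at h1
        rw [show p ^ m = p ^ σ * p ^ (m - σ) by rw [← pow_add, Nat.add_sub_cancel' hσm.le], mul_assoc] at h1
        exact (Nat.Coprime.pow_left (m - σ) hcs').dvd_of_dvd_mul_left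
          ((Nat.mul_dvd_mul_iff_left (pow_pos hpp.pos σ)).mp h1)
    have hr' : (((D.d + 1) ^ p ^ (S.β - σ) : ℕ) : ZMod p) = 1 := by
      rw [Nat.cast_pow, D.cast_succ_d, one_pow]
    obtain ⟨w, hw, ⟨uw, huw⟩⟩ := Metacyclic.geom_prime_pow_unit (m := m) D.hodd hr' σ
    set i := (-(s' : ZMod (p ^ m)) * (uw⁻¹ : (ZMod (p ^ m))ˣ)).val with hi
    set x := D.a ^ i * D.b ^ p ^ (S.β - σ) with hx
    have hiw : ((i * w + s' : ℕ) : ZMod (p ^ m)) = 0 := by
      rw [Nat.cast_add, Nat.cast_mul, hi, ZMod.natCast_zmod_val, ← huw]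
      linear_combination (-(s' : ZMod (p ^ m))) * uw.inv_mul
    have hxk : x ^ p ^ σ = 1 := by
      rw [hx, D.pow_eq, ← pow_add p, Nat.sub_add_cancel hσβ.le, hs, ← pow_add, hw,
        ← orderOf_dvd_iff_pow_eq_one, hm,
        show i * (p ^ σ * w) + p ^ σ * s' = p ^ σ * (i * w + s') by ring]
      exact dvd_mul_of_dvd_right ((ZMod.natCast_eq_zero_iff _ _).mp hiw) _
    have hpi : ¬ p ∣ i := fun h => hs' (by
      have h1 : p ∣ i * w + s' := (dvd_pow_self p (by omega)).trans ((ZMod.natCast_eq_zero_iff _ _).mp hiw)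
      exact (Nat.dvd_add_right (dvd_mul_of_dvd_left h _)).mp h1)
    have hdiv : ∀ e : ℕ, x ^ e ∈ Subgroup.zpowers D.b → p ^ σ ∣ e := by
      intro e he
      rw [hx, D.pow_eq] at he
      have he' := Subgroup.mul_mem _ he (Subgroup.inv_mem _ (Subgroup.pow_mem _ (Subgroup.mem_zpowers D.b) (p ^ (S.β - σ) * e)))
      rw [mul_inv_cancel_right] at he'
      obtain ⟨h, hh⟩ := Metacyclic.Data.exists_pow_eq he'
      obtain ⟨h', rfl⟩ := hdvdB h (hh ▸ Subgroup.pow_mem _ (Subgroup.mem_zpowers _) _)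
      rw [pow_mul D.b, hs, ← pow_mul, pow_eq_pow_iff_modEq, hm] at hh
      have h1 : p ^ σ ∣ i * Metacyclic.geom ((D.d + 1) ^ p ^ (S.β - σ)) e :=
        (hh.dvd_iff (pow_dvd_pow p hσm.le)).mpr (dvd_mul_of_dvd_left (dvd_mul_right _ _) _)
      exact (Metacyclic.pow_dvd_geom_iff D.hodd hr' σ e).mp
        ((Nat.Coprime.pow_left σ ((hpp.coprime_iff_not_dvd).mpr hpi)).dvd_of_dvd_mul_left h1)
    have hord : orderOf x = p ^ σ := Nat.dvd_antisymm (orderOf_dvd_of_pow_eq_one hxk)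
      (hdiv _ (by rw [pow_orderOf_eq_one]; exact one_mem _))
    refine ⟨Subgroup.zpowers D.b, Subgroup.zpowers x, inferInstance, inferInstance,
      hinf _ _ (fun e he => ?_), ?_⟩
    · obtain ⟨c, rfl⟩ := hdiv e he
      rw [pow_mul, hxk, one_pow]
    · rw [Nat.card_zpowers, Nat.card_zpowers, hord, hbord, hcard, mul_assoc, ← pow_add,
        Nat.sub_add_cancel hσm.le, mul_comm]

end Cfsg.Agent.S3884
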