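import Cfsg.Statements.S3885
import Cfsg.Agent.Lib.Metacyclic.Subgroups

set_option autoImplicit false
open Cfsg

namespace Cfsg.Agent.S3885

/-- Let p be an odd prime and G a finite metacyclic p-group (G has a cyclic normal subgroup with cyclic quotient). Then every abelian subgroup K of G containing the center of G is the center of its own centralizer: K = Z(C_G(K)). -/
theorem result {G : Type*} [Group G] [Finite G] {p : ℕ} [Fact p.Prime] (hp : p ≠ 2) (hG : IsPGroup p G) (hmc : Cfsg.IsMetacyclic G) (K : Subgroup G) (hK : IsMulCommutative ↥K) (hZ : Subgroup.center G ≤ K) :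
    K = Subgroup.centralizer (K : Set G) ⊓ Subgroup.centralizer (Subgroup.centralizer (K : Set G) : Set G) := by
  classical
  obtain ⟨D⟩ := Cfsg.Agent.Metacyclic.exists_data hp hG hmc
  have hpp : p.Prime := Fact.out
  obtain ⟨S⟩ := D.exists_shape hG K
  have hab := S.isMulCommutative_iff.mp hK
  have hmemZ : ∀ i j : ℕ, p ^ D.n ∣ i → p ^ D.n ∣ j → D.a ^ i * D.b ^ j ∈ Subgroup.center G := by
    intro i j hi hj
    rw [← D.level_self, D.mem_level_iff le_rfl rfl]
    exact ⟨hi, hj⟩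
  have hα : S.α ≤ D.n := by
    have h := S.dvdA (p ^ D.n) (hZ (by simpa using hmemZ (p ^ D.n) 0 dvd_rfl (dvd_zero _)))
    exact (Nat.pow_dvd_pow_iff_le_right hpp.one_lt).mp h
  have hβ : S.β ≤ D.n := by
    have h := S.dvdB 0 (p ^ D.n) (hZ (hmemZ 0 (p ^ D.n) (dvd_zero _) dvd_rfl))
    exact (Nat.pow_dvd_pow_iff_le_right hpp.one_lt).mp h
  set R := ZMod (p ^ D.n)
  have hcd : ∀ c : ℕ, (((D.d + 1) ^ c : ℕ) : ZMod p) = 1 := fun c => by
    rw [Nat.cast_pow, D.cast_succ_d, one_pow]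
  have hzero : ∀ c : ℕ, D.n ≤ c → ((p ^ c : ℕ) : R) = 0 := fun c hc =>
    (ZMod.natCast_eq_zero_iff _ _).mpr (pow_dvd_pow p hc)
  -- commuting with both generators is commuting with all of `K`
  have hCK : ∀ h : G, Commute (D.a ^ p ^ S.α) h → Commute S.x h → h ∈ Subgroup.centralizer (K : Set G) := by
    intro h h1 h2
    rw [Subgroup.mem_centralizer_iff]
    intro g hg
    obtain ⟨u, q, rfl⟩ := S.exists_rep hg
    exact ((h1.pow_left u).mul_left (h2.pow_left q)).eq
  have hKC : ∀ k ∈ K, k ∈ Subgroup.centralizer (K : Set G) := fun k hk => by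
    rw [Subgroup.mem_centralizer_iff]
    exact fun g hg => congrArg Subtype.val (hK.is_comm.comm ⟨g, hg⟩ ⟨k, hk⟩)
  refine le_antisymm (fun k hk => ⟨hKC k hk, Subgroup.mem_centralizer_iff.mpr fun g hg =>
    (Subgroup.mem_centralizer_iff.mp hg k hk).symm⟩) ?_
  rintro y ⟨hy1, hy2⟩
  have ca : ∀ c : ℕ, D.coord (D.a ^ c) = ((c : R), 0) := fun c => by
    simpa [Metacyclic.geom_zero] using D.coord_mk c 0
  obtain ⟨w, hw, ⟨uw, huw⟩⟩ := Metacyclic.geom_prime_pow_unit (m := D.n) D.hodd D.cast_succ_d S.β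
  obtain ⟨v, hv, hv1⟩ := Metacyclic.geom_prime_pow_unit (m := D.n) D.hodd D.cast_succ_d (D.n - S.α)
  obtain ⟨w', hw', hw'1⟩ := Metacyclic.geom_prime_pow_unit (m := D.n) D.hodd (hcd (p ^ S.β)) (D.n - S.β)
  -- the first exponent of the second generator
  obtain ⟨i', hi'⟩ : p ^ (S.α + S.β - D.n) ∣ S.i := by
    have hmem := K.pow_mem S.memX (p ^ (D.n - S.β))
    rw [D.pow_eq, hw', ← pow_add p, Nat.add_sub_cancel' hβ] at hmem
    have hb := hZ (hmemZ 0 (p ^ D.n) (dvd_zero _) dvd_rfl)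
    rw [pow_zero, one_mul] at hb
    have h1 := S.dvdA _ ((Subgroup.mul_mem_cancel_right K hb).mp hmem)
    rcases Nat.eq_zero_or_pos D.n with hn | hn
    · rw [show S.α = 0 by omega, show S.β = 0 by omega, hn]; simp
    have hwc : Nat.Coprime p w' :=
      (Nat.Coprime.coprime_dvd_right (dvd_pow_self p hn.ne') ((ZMod.isUnit_iff_coprime _ _).mp hw'1)).symm
    rw [← mul_assoc] at h1
    have h2 : p ^ S.α ∣ S.i * p ^ (D.n - S.β) := (Nat.Coprime.pow_left _ hwc).dvd_of_dvd_mul_right h1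
    rw [show p ^ S.α = p ^ (S.α + S.β - D.n) * p ^ (D.n - S.β) by rw [← pow_add]; congr 1; omega] at h2
    exact Nat.dvd_of_mul_dvd_mul_right (pow_pos hpp.pos _) h2
  -- two elements of the centralizer
  have h1 : D.a ^ p ^ (D.n - S.β) ∈ Subgroup.centralizer (K : Set G) := by
    refine hCK _ (Commute.pow_pow_self _ _ _) ?_
    rw [D.commute_iff, Metacyclic.Shape.x, D.coord_mk, ca, Metacyclic.Data.det]
    simp only [mul_zero, zero_sub, neg_eq_zero, hw, Nat.cast_mul]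
    rw [mul_right_comm, ← Nat.cast_mul, ← pow_add, Nat.add_sub_cancel' hβ, hzero _ le_rfl, zero_mul]
  set κ := ((i' : R) * (v : R) * (uw⁻¹ : Rˣ)).val with hκ
  have h2 : D.a ^ κ * D.b ^ p ^ (D.n - S.α) ∈ Subgroup.centralizer (K : Set G) := by
    refine hCK _ ?_ ?_
    · rw [D.commute_iff, ca, D.coord_mk, Metacyclic.Data.det]
      simp only [zero_mul, sub_zero, hv, Nat.cast_mul]
      rw [← mul_assoc, ← Nat.cast_mul, ← pow_add, Nat.add_sub_cancel' hα, hzero _ le_rfl, zero_mul]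
    · rw [D.commute_iff, Metacyclic.Shape.x, D.coord_mk, D.coord_mk, Metacyclic.Data.det]
      simp only [hv, hw, Nat.cast_mul]
      rw [hκ, ZMod.natCast_zmod_val, hi', Nat.cast_mul, ← huw]
      have e : ((p ^ (S.α + S.β - D.n) : ℕ) : R) * ((p ^ (D.n - S.α) : ℕ) : R) = ((p ^ S.β : ℕ) : R) := by
        rw [← Nat.cast_mul, ← pow_add]; congr 2; omega
      linear_combination ((i' : R) * (v : R)) * e - ((p ^ S.β : ℕ) : R) * ((i' : R) * (v : R)) * uw.mul_inv
  -- the double centralizer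
  obtain ⟨u, q, rfl⟩ := D.hgen y
  have hq : p ^ S.β ∣ q := by
    have hc : Commute (D.a ^ p ^ (D.n - S.β)) (D.a ^ u * D.b ^ q) := Subgroup.mem_centralizer_iff.mp hy2 _ h1
    rw [D.commute_iff, ca, D.coord_mk, Metacyclic.Data.det, zero_mul, sub_zero, ← Nat.cast_mul,
      ZMod.natCast_eq_zero_iff] at hc
    refine (Metacyclic.pow_dvd_geom_iff D.hodd D.cast_succ_d _ _).mp ?_
    rw [show p ^ D.n = p ^ (D.n - S.β) * p ^ S.β by rw [← pow_add]; congr 1; omega] at hc
    exact Nat.dvd_of_mul_dvd_mul_left (pow_pos hpp.pos _) hc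
  obtain ⟨q', rfl⟩ := hq
  have hz : D.a ^ u * D.b ^ (p ^ S.β * q') * (S.x ^ q')⁻¹ ∈ Subgroup.zpowers D.a := by
    rw [Metacyclic.Shape.x, D.pow_eq, mul_inv_rev]
    simp only [mul_assoc, mul_inv_cancel_left]
    exact Subgroup.mul_mem _ (Subgroup.pow_mem _ (Subgroup.mem_zpowers _) _)
      (Subgroup.inv_mem _ (Subgroup.pow_mem _ (Subgroup.mem_zpowers _) _))
  obtain ⟨e, he⟩ := Metacyclic.Data.exists_pow_eq hz
  have hxC : S.x ∈ Subgroup.centralizer (Subgroup.centralizer (K : Set G) : Set G) :=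
    Subgroup.mem_centralizer_iff.mpr fun g hg => (Subgroup.mem_centralizer_iff.mp hg _ S.memX).symm
  have heC : D.a ^ e ∈ Subgroup.centralizer (Subgroup.centralizer (K : Set G) : Set G) :=
    he ▸ Subgroup.mul_mem _ hy2 (Subgroup.inv_mem _ (Subgroup.pow_mem _ hxC q'))
  have hde : p ^ S.α ∣ e := by
    have hc : Commute (D.a ^ κ * D.b ^ p ^ (D.n - S.α)) (D.a ^ e) := Subgroup.mem_centralizer_iff.mp heC _ h2
    rw [D.commute_iff, D.coord_mk, ca, Metacyclic.Data.det, mul_zero, zero_sub, neg_eq_zero, hv,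
      Nat.cast_mul, mul_right_comm, hv1.mul_left_eq_zero, ← Nat.cast_mul, ZMod.natCast_eq_zero_iff,
      show p ^ D.n = p ^ (D.n - S.α) * p ^ S.α by rw [← pow_add]; congr 1; omega] at hc
    exact Nat.dvd_of_mul_dvd_mul_left (pow_pos hpp.pos _) hc
  obtain ⟨e', rfl⟩ := hde
  rw [eq_mul_inv_iff_mul_eq.mp he.symm |>.symm]
  exact K.mul_mem (by rw [pow_mul]; exact K.pow_mem S.memA _) (K.pow_mem S.memX _)

end Cfsg.Agent.S3885
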