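import Cfsg.Statements.S3886
import Cfsg.Agent.Lib.Metacyclic.Subgroups

set_option autoImplicit false
open Cfsg

namespace Cfsg.Agent.S3886

/-- Let p be an odd prime and G a finite metacyclic p-group (G has a cyclic normal subgroup with cyclic quotient). Then the largest value of |R| · |Z(R)| over subgroups R of G is |G : G'|², and the subgroups attaining it (the centrally large subgroups) are exactly the non-abelian subgroups together with the maximal abelian subgroups of G. -/
theorem result {G : Type*} [Group G] [Finite G] {p : ℕ} [Fact p.Prime] (hp : p ≠ 2) (hG : IsPGroup p G) (hmc : Cfsg.IsMetacyclic G) : Cfsg.maxCentralProduct G = (commutator G).index ^ 2 ∧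
    ∀ R : Subgroup G, Cfsg.IsCentrallyLarge R ↔ (¬ IsMulCommutative ↥R ∨ Maximal (fun K : Subgroup G => IsMulCommutative ↥K) R) := by
  classical
  obtain ⟨D⟩ := Cfsg.Agent.Metacyclic.exists_data hp hG hmc
  have hp' : p.Prime := Fact.out
  have hab : ∀ R : Subgroup G, IsMulCommutative ↥R →
      Nat.card ↥R * Nat.card ↥(Subgroup.center ↥R) = Nat.card ↥R ^ 2 := by
    intro R hR
    rw [(Subgroup.eq_top_iff' _).mpr (fun x => Subgroup.mem_center_iff.mpr fun y => hR.is_comm.comm y x),
      Subgroup.card_top, pow_two]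
  have hle : ∀ R : Subgroup G, Nat.card ↥R * Nat.card ↥(Subgroup.center ↥R) ≤ (commutator G).index ^ 2 := by
    intro R
    by_cases hR : IsMulCommutative ↥R
    · rw [hab R hR]
      exact Nat.pow_le_pow_left ((D.card_le_iff hG R).mpr ((D.isMulCommutative_iff hG R).mp hR)) 2
    · exact (D.card_mul_card_center hG hR).le
  obtain ⟨A, hA⟩ : ∃ A : Subgroup G, A.index = p ^ D.n := by
    obtain ⟨f, hf⟩ := IsPGroup.iff_card.mp hG
    have h1 := (commutator G).card_mul_index
    rw [D.card_commutator, hf] at h1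
    have hnf : D.n ≤ f := (Nat.pow_dvd_pow_iff_le_right hp'.one_lt).mp ⟨_, h1.symm⟩
    obtain ⟨A, hA⟩ := Sylow.exists_subgroup_card_pow_prime (G := G) p (n := f - D.n)
      (hf ▸ pow_dvd_pow p (Nat.sub_le _ _))
    refine ⟨A, Nat.eq_of_mul_eq_mul_left (pow_pos hp'.pos (f - D.n)) ?_⟩
    rw [← hA, A.card_mul_index, hA, hf, ← pow_add, Nat.sub_add_cancel hnf]
  have hAcard : Nat.card ↥A = (commutator G).index := by
    have h1 := A.card_mul_index
    rw [hA, ← D.index_commutator_mul] at h1
    exact Nat.eq_of_mul_eq_mul_right (pow_pos hp'.pos _) h1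
  have hAab : IsMulCommutative ↥A := (D.isMulCommutative_iff hG A).mpr hA.ge
  have hmax : Cfsg.maxCentralProduct G = (commutator G).index ^ 2 := by
    unfold Cfsg.maxCentralProduct
    refine IsGreatest.csSup_eq ⟨⟨A, by rw [hab A hAab, hAcard]⟩, ?_⟩
    rintro k ⟨R, rfl⟩
    exact hle R
  refine ⟨hmax, fun R => ?_⟩
  unfold Cfsg.IsCentrallyLarge
  rw [hmax]
  by_cases hR : IsMulCommutative ↥R
  · rw [hab R hR, Nat.pow_left_injective two_ne_zero |>.eq_iff, D.maximal_abelian_iff hG]
    have h1 := R.card_mul_index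
    rw [← D.index_commutator_mul] at h1
    constructor
    · intro h
      rw [h] at h1
      exact Or.inr (Nat.eq_of_mul_eq_mul_left Subgroup.index_ne_zero_of_finite.bot_lt h1)
    · rintro (h | h)
      · exact absurd hR h
      · rw [h] at h1
        exact Nat.eq_of_mul_eq_mul_right (pow_pos hp'.pos _) h1
  · exact ⟨fun _ => Or.inl hR, fun _ => D.card_mul_card_center hG hR⟩

end Cfsg.Agent.S3886
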