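import Cfsg.Statements.S3892
import Cfsg.Agent.Lib.Cover.SymAlt
import Cfsg.Agent.EqLemmas

set_option autoImplicit false
set_option maxRecDepth 8000
open Cfsg

namespace Cfsg.Agent.S3892

theorem not_mem_zpowers_of_not_comm {H : Type*} [Group H] {x y : H} (h : x * y ≠ y * x) : x ∉ Subgroup.zpowers y :=
  fun ⟨k, hk⟩ => h (hk ▸ (((Commute.refl y).zpow_right k).symm).eq)

theorem ne_of_coe_ne {n : ℕ} {a b : alternatingGroup (Fin n)} (h : (a : Equiv.Perm (Fin n)) ≠ b) : a ≠ b :=
  fun e => h (congrArg Subtype.val e)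


/-- A cover of a group is a finite set of proper subgroups whose union is the whole group; it is minimal when no cover has fewer members, and nilpotent when all its members are nilpotent. The alternating groups of degree at least 5 and the symmetric groups of degree at least 4 have no nilpotent minimal cover. -/
theorem result (n : ℕ) :
    (5 ≤ n → ¬ ∃ 𝓐 : Finset (Subgroup ↥(alternatingGroup (Fin n))), ((∀ A ∈ 𝓐, A ≠ ⊤) ∧ (∀ g : ↥(alternatingGroup (Fin n)), ∃ A ∈ 𝓐, g ∈ A)) ∧ (∀ 𝓑 : Finset (Subgroup ↥(alternatingGroup (Fin n))), (∀ A ∈ 𝓑, A ≠ ⊤) ∧ (∀ g : ↥(alternatingGroup (Fin n)), ∃ A ∈ 𝓑, g ∈ A) → 𝓐.card ≤ 𝓑.card) ∧ (∀ A ∈ 𝓐, Group.IsNilpotent ↥A)) ∧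
    (4 ≤ n → ¬ ∃ 𝓐 : Finset (Subgroup (Equiv.Perm (Fin n))), ((∀ A ∈ 𝓐, A ≠ ⊤) ∧ (∀ g : (Equiv.Perm (Fin n)), ∃ A ∈ 𝓐, g ∈ A)) ∧ (∀ 𝓑 : Finset (Subgroup (Equiv.Perm (Fin n))), (∀ A ∈ 𝓑, A ≠ ⊤) ∧ (∀ g : (Equiv.Perm (Fin n)), ∃ A ∈ 𝓑, g ∈ A) → 𝓐.card ≤ 𝓑.card) ∧ (∀ A ∈ 𝓐, Group.IsNilpotent ↥A)) := by
  refine ⟨fun hn => ?_, fun hn => ?_⟩
  · rcases (by omega : n = 5 ∨ 6 ≤ n) with rfl | h6
    · refine Cfsg.Agent.NilCover.no_cover
        (Cfsg.Agent.NilCover.center_eq_bot_of_embedding (by norm_num) (alternatingGroup (Fin 5)).subtype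
          Subtype.val_injective (fun π hπ => ⟨⟨π, Equiv.Perm.mem_alternatingGroup.2 hπ⟩, rfl⟩))
        (q := 3) Nat.prime_three
        (σ := ⟨Equiv.swap 0 2 * Equiv.swap 0 1, Equiv.Perm.mem_alternatingGroup.2 (by decide)⟩) ?_ ?_
        (M := (MulAction.stabilizer (Equiv.Perm (Fin 5)) (4 : Fin 5)).subgroupOf (alternatingGroup (Fin 5))) ?_ ?_
        (τ := ⟨Equiv.swap 0 3 * Equiv.swap 0 1, Equiv.Perm.mem_alternatingGroup.2 (by decide)⟩) ?_ ?_
      · have : Fact (Nat.Prime 3) := ⟨Nat.prime_three⟩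
        exact orderOf_eq_prime (Subtype.ext (by decide +kernel)) (ne_of_coe_ne (by decide +kernel))
      · rw [nat_card_alternatingGroup, Nat.card_eq_fintype_card, Fintype.card_fin]; decide +kernel
      · intro h
        have := (h ▸ Subgroup.mem_top _ :
          (⟨Equiv.swap 0 4 * Equiv.swap 0 1, Equiv.Perm.mem_alternatingGroup.2 (by decide)⟩ : alternatingGroup (Fin 5)) ∈
            (MulAction.stabilizer (Equiv.Perm (Fin 5)) (4 : Fin 5)).subgroupOf (alternatingGroup (Fin 5)))
        rw [Subgroup.mem_subgroupOf, MulAction.mem_stabilizer_iff] at this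
        exact absurd this (by decide +kernel)
      · intro g hg
        rw [Subgroup.mem_subgroupOf, MulAction.mem_stabilizer_iff]
        have key : ∀ π : Equiv.Perm (Fin 5), π * (Equiv.swap 0 2 * Equiv.swap 0 1) =
            Equiv.swap 0 2 * Equiv.swap 0 1 * π → Equiv.Perm.sign π = 1 → π 4 = 4 := by decide +kernel
        exact key g (congrArg Subtype.val hg) g.2
      · rw [Subgroup.mem_subgroupOf, MulAction.mem_stabilizer_iff]
        decide +kernel
      · exact not_mem_zpowers_of_not_comm (ne_of_coe_ne (by decide +kernel))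
    · exact Cfsg.Agent.NilCover.no_cover_of_embedding h6 (alternatingGroup (Fin n)).subtype
        Subtype.val_injective (fun π hπ => ⟨⟨π, Equiv.Perm.mem_alternatingGroup.2 hπ⟩, rfl⟩)
  · rcases (by omega : n = 4 ∨ n = 5 ∨ 6 ≤ n) with rfl | rfl | h6
    · refine Cfsg.Agent.NilCover.no_cover
        (Cfsg.Agent.NilCover.center_eq_bot_of_embedding (by norm_num) (MonoidHom.id _) Function.injective_id
          (fun π _ => ⟨π, rfl⟩))
        (q := 3) Nat.prime_three (σ := Equiv.swap 0 2 * Equiv.swap 0 1) ?_ ?_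
        (M := alternatingGroup (Fin 4)) ?_ ?_ (τ := Equiv.swap 0 3 * Equiv.swap 0 1) ?_ ?_
      · have : Fact (Nat.Prime 3) := ⟨by norm_num⟩
        exact orderOf_eq_prime (by decide +kernel) (by decide +kernel)
      · rw [Nat.card_eq_fintype_card, Fintype.card_perm, Fintype.card_fin]; decide +kernel
      · intro h
        have : Equiv.swap (0 : Fin 4) 1 ∈ alternatingGroup (Fin 4) := h ▸ Subgroup.mem_top _
        rw [Equiv.Perm.mem_alternatingGroup] at this
        exact absurd this (by decide +kernel)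
      · intro g hg
        have key : ∀ π : Equiv.Perm (Fin 4), π * (Equiv.swap 0 2 * Equiv.swap 0 1) = (Equiv.swap 0 2 * Equiv.swap 0 1) * π → Equiv.Perm.sign π = 1 := by
          decide +kernel
        exact Equiv.Perm.mem_alternatingGroup.2 (key g hg)
      · exact Equiv.Perm.mem_alternatingGroup.2 (by decide +kernel)
      · exact not_mem_zpowers_of_not_comm (by decide +kernel)
    · refine Cfsg.Agent.NilCover.no_cover
        (Cfsg.Agent.NilCover.center_eq_bot_of_embedding (by norm_num) (MonoidHom.id _) Function.injective_id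
          (fun π _ => ⟨π, rfl⟩))
        (q := 5) Nat.prime_five (σ := finRotate 5) ?_ ?_
        (M := alternatingGroup (Fin 5)) ?_ ?_ (τ := Equiv.swap 0 2 * Equiv.swap 0 1) ?_ ?_
      · have : Fact (Nat.Prime 5) := ⟨by norm_num⟩
        exact orderOf_eq_prime (by decide +kernel) (by decide +kernel)
      · rw [Nat.card_eq_fintype_card, Fintype.card_perm, Fintype.card_fin]; decide +kernel
      · intro h
        have : Equiv.swap (0 : Fin 5) 1 ∈ alternatingGroup (Fin 5) := h ▸ Subgroup.mem_top _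
        rw [Equiv.Perm.mem_alternatingGroup] at this
        exact absurd this (by decide +kernel)
      · intro g hg
        have key : ∀ π : Equiv.Perm (Fin 5), π * (finRotate 5) = (finRotate 5) * π → Equiv.Perm.sign π = 1 := by
          decide +kernel
        exact Equiv.Perm.mem_alternatingGroup.2 (key g hg)
      · exact Equiv.Perm.mem_alternatingGroup.2 (by decide +kernel)
      · exact not_mem_zpowers_of_not_comm (by decide +kernel)
    · exact Cfsg.Agent.NilCover.no_cover_of_embedding h6 (MonoidHom.id _) Function.injective_id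
        (fun π _ => ⟨π, rfl⟩)

end Cfsg.Agent.S3892
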