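import Cfsg.Statements.S3893
import Cfsg.Agent.Lib.Suzuki.Cover

set_option autoImplicit false
open Cfsg

namespace Cfsg.Agent.S3893

/-- A cover of a group is a finite set of proper subgroups whose union is the whole group; it is minimal when no cover has fewer members, and nilpotent when all its members are nilpotent. The Suzuki groups Sz(q), q = 2^(2m+1) with m ≥ 1, have no nilpotent minimal cover. -/
theorem result {F : Type*} [Field F] [Fintype F] (m : ℕ) (hm : 1 ≤ m) (hF : Fintype.card F = 2 ^ (2 * m + 1)) :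
    ¬ ∃ 𝓐 : Finset (Subgroup ↥(Cfsg.Lie.Sz F (2 ^ (m + 1)))), ((∀ A ∈ 𝓐, A ≠ ⊤) ∧ (∀ g : ↥(Cfsg.Lie.Sz F (2 ^ (m + 1))), ∃ A ∈ 𝓐, g ∈ A)) ∧ (∀ 𝓑 : Finset (Subgroup ↥(Cfsg.Lie.Sz F (2 ^ (m + 1)))), (∀ A ∈ 𝓑, A ≠ ⊤) ∧ (∀ g : ↥(Cfsg.Lie.Sz F (2 ^ (m + 1))), ∃ A ∈ 𝓑, g ∈ A) → 𝓐.card ≤ 𝓑.card) ∧ (∀ A ∈ 𝓐, Group.IsNilpotent ↥A) := by
  intro ⟨𝓐, ⟨htop, hcov⟩, hmin, hnil⟩
  classical
  set e := Cfsg.Agent.Suzuki.lieEquiv hm hF
  set Φ := e.mapSubgroup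
  refine Cfsg.Agent.Suzuki.no_nilpotent_minimal_cover hm hF
    ⟨𝓐.image Φ.symm, ⟨?_, ?_⟩, ?_, ?_⟩
  · intro A hA h
    obtain ⟨B, hB, rfl⟩ := Finset.mem_image.mp hA
    exact htop B hB ((map_eq_top_iff Φ.symm).mp h)
  · intro g
    obtain ⟨B, hB, hg⟩ := hcov (e g)
    exact ⟨Φ.symm B, Finset.mem_image_of_mem _ hB, e g, hg, e.symm_apply_apply g⟩
  · intro 𝓑 h𝓑
    refine Finset.card_image_le.trans ((hmin (𝓑.image Φ) ⟨?_, ?_⟩).trans Finset.card_image_le)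
    · intro A hA h
      obtain ⟨B, hB, rfl⟩ := Finset.mem_image.mp hA
      exact h𝓑.1 B hB ((map_eq_top_iff Φ).mp h)
    · intro g
      obtain ⟨B, hB, hg⟩ := h𝓑.2 (e.symm g)
      exact ⟨Φ B, Finset.mem_image_of_mem _ hB, e.symm g, hg, e.apply_symm_apply g⟩
  · intro A hA
    obtain ⟨B, hB, rfl⟩ := Finset.mem_image.mp hA
    haveI := hnil B hB
    exact Group.nilpotent_of_mulEquiv (e.symm.subgroupMap B)

end Cfsg.Agent.S3893
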