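import Cfsg.Statements.S3894
import Cfsg.Agent.EqLemmas
import Cfsg.Agent.Lib.NilCoverPGL.GeThree
import Cfsg.Agent.Lib.NilCoverPGL.Two

set_option autoImplicit false
open Cfsg

namespace Cfsg.Agent.S3894

/-- A cover of a group is a finite set of proper subgroups whose union is the whole group; it is minimal when no cover has fewer members, and nilpotent when all its members are nilpotent. Let F be a finite field with q elements and n ≥ 3, or n = 2 and q ≥ 4. Then no subgroup of PGL_n(F) = GL_n(F)/Z(GL_n(F)) containing the image of SL_n(F) has a nilpotent minimal cover. -/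
theorem result {F : Type*} [Field F] [Fintype F] (n : ℕ) (hn : 3 ≤ n ∨ (n = 2 ∧ 4 ≤ Fintype.card F))
    (G : Subgroup (GL (Fin n) F ⧸ Subgroup.center (GL (Fin n) F)))
    (hG : ((Matrix.SpecialLinearGroup.toGL : Matrix.SpecialLinearGroup (Fin n) F →* GL (Fin n) F).range).map
      (QuotientGroup.mk' (Subgroup.center (GL (Fin n) F))) ≤ G) :
    ¬ ∃ 𝓐 : Finset (Subgroup ↥G), ((∀ A ∈ 𝓐, A ≠ ⊤) ∧ (∀ g : ↥G, ∃ A ∈ 𝓐, g ∈ A)) ∧ (∀ 𝓑 : Finset (Subgroup ↥G), (∀ A ∈ 𝓑, A ≠ ⊤) ∧ (∀ g : ↥G, ∃ A ∈ 𝓑, g ∈ A) → 𝓐.card ≤ 𝓑.card) ∧ (∀ A ∈ 𝓐, Group.IsNilpotent ↥A) := by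
  rintro ⟨𝓐, hcov, hmin, hnil⟩
  have hG' : ∀ s : Matrix.SpecialLinearGroup (Fin n) F,
      QuotientGroup.mk' (Subgroup.center (GL (Fin n) F)) (Matrix.SpecialLinearGroup.toGL s) ∈ G :=
    fun s => hG ⟨_, ⟨s, rfl⟩, rfl⟩
  obtain ⟨p, hpc⟩ := CharP.exists F
  have hp : Fact p.Prime := ⟨CharP.char_is_prime F p⟩
  rcases hn with hn | ⟨rfl, hq⟩
  · obtain ⟨m, rfl⟩ : ∃ m, n = m + 3 := ⟨n - 3, by omega⟩
    exact Cfsg.Agent.NilCoverPGL.false_of_cover_ge_three m G hG' 𝓐 hcov hmin hnil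
  · have hq' : 4 ≤ Nat.card F := by rwa [Nat.card_eq_fintype_card]
    by_cases hodd : ∃ r, r.Prime ∧ r ≠ 2 ∧ r ∣ Nat.card F - 1
    · obtain ⟨r, hr, hr2, hrq⟩ := hodd
      haveI : Fact r.Prime := ⟨hr⟩
      exact Cfsg.Agent.NilCoverPGL.false_of_split p (G := G) hG' 𝓐 hcov hmin hnil hr2 hrq
    push Not at hodd
    obtain ⟨a, ha⟩ | ⟨r, hr, hrq, hro⟩ := Nat.eq_two_pow_or_exists_odd_prime_and_dvd (Nat.card F - 1)
    swap
    · exact absurd hrq (hodd r hr (fun h => absurd (h ▸ hro) (by decide)))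
    have hp2 : p ≠ 2 := by
      rintro rfl
      obtain ⟨f, -, hf⟩ := FiniteField.card F 2
      have h1 : Fintype.card F = 2 * 2 ^ ((f : ℕ) - 1) := by
        rw [hf, ← pow_succ', Nat.sub_add_cancel f.pos]
      rcases Nat.eq_zero_or_pos a with h0 | h0
      · rw [h0] at ha; omega
      · obtain ⟨b, rfl⟩ : ∃ b, a = b + 1 := ⟨a - 1, by omega⟩
        rw [pow_succ, Nat.card_eq_fintype_card] at ha
        omega
    obtain ⟨m, hm, hm1⟩ : ∃ m, Nat.card F + 1 = 2 * m ∧ m % 2 = 1 := by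
      rcases Nat.lt_or_ge a 2 with h0 | h0
      · have : 2 ^ a ≤ 2 := by
          calc 2 ^ a ≤ 2 ^ 1 := Nat.pow_le_pow_right (by norm_num) (by omega)
            _ = 2 := by norm_num
        omega
      · obtain ⟨b, rfl⟩ : ∃ b, a = b + 2 := ⟨a - 2, by omega⟩
        refine ⟨2 * 2 ^ b + 1, ?_, by omega⟩
        rw [pow_succ, pow_succ] at ha
        omega
    have hmne : m ≠ 1 := by omega
    haveI : Fact m.minFac.Prime := ⟨Nat.minFac_prime hmne⟩
    refine Cfsg.Agent.NilCoverPGL.false_of_two_power p (G := G) hG' 𝓐 hcov hmin hnil ha hp2 hq'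
      (r := m.minFac) ?_ ?_
    · intro h
      have h2 := Nat.minFac_dvd m
      rw [h] at h2
      omega
    · exact (Nat.minFac_dvd m).trans ⟨2, by omega⟩

end Cfsg.Agent.S3894
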