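import Cfsg.Statements.S3897
import Cfsg.Agent.Lib.IsolatedElts.Basic
import Cfsg.Agent.EqLemmas

set_option autoImplicit false
open Cfsg

namespace Cfsg.Agent.S3897

/-- Let p be an odd prime and G a finite group with Sylow p-subgroup P, and write k_p(G) for the number of conjugacy classes of G consisting of p-elements (elements of p-power order, the identity included). Then k_p(G) > (p + 1)|P|/(2p) if and only if G has a normal p-complement and P is abelian. -/
theorem result {G : Type*} [Group G] [Finite G] {p : ℕ} [Fact p.Prime] (hp : p ≠ 2) (P : Sylow p G) :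
    (p + 1) * Nat.card ↥(P : Subgroup G) < 2 * p * Nat.card {c : ConjClasses G // ∀ x ∈ c.carrier, ∃ k : ℕ, orderOf x = p ^ k} ↔
      Cfsg.HasNormalPComplement p G ∧ IsMulCommutative ↥(P : Subgroup G) := by
  constructor
  · intro hk
    have hb := IsolatedElts.two_mul_card_pClasses_le P
    have hW : IsolatedElts.isolatedElts P = (P : Subgroup G) := by
      obtain ⟨n, hn⟩ := IsPGroup.iff_card.1 P.2
      obtain ⟨m, -, hm⟩ := (Nat.dvd_prime_pow Fact.out).1
        (hn ▸ Subgroup.card_dvd_of_le (IsolatedElts.isolatedElts_le P))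
      have h1 : Nat.card (P : Subgroup G) < p * Nat.card (IsolatedElts.isolatedElts P) := by
        change (p + 1) * Nat.card (P : Subgroup G) < 2 * p * Nat.card (IsolatedElts.PClasses p G) at hk
        have := Nat.mul_le_mul_left p hb
        nlinarith
      rw [hn, hm, ← pow_succ'] at h1
      have h2 : n < m + 1 := (Nat.pow_lt_pow_iff_right (Fact.out : p.Prime).one_lt).1 h1
      refine Subgroup.eq_of_le_of_card_ge (IsolatedElts.isolatedElts_le P) ?_
      rw [hn, hm]
      exact Nat.pow_le_pow_right (Fact.out : p.Prime).pos (by omega)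
    have hiso : ∀ x ∈ (P : Subgroup G), IsolatedElts.IsIsolatedElt (P : Subgroup G) x := fun x hx => by
      rw [← hW] at hx
      exact hx
    refine ⟨(IsolatedElts.hasNormalPComplement_iff_noFusion P).2 fun x hx y hy ⟨g, hg⟩ => ?_,
      ⟨⟨fun a b => Subtype.ext ((hiso b b.2).commute a.2)⟩⟩⟩
    subst hg
    exact ⟨1, (P : Subgroup G).one_mem, by rw [(hiso x hx).2 g hy]; simp⟩
  · rintro ⟨hc, hab⟩
    have h := IsolatedElts.card_pClasses_of_noFusion P ((IsolatedElts.hasNormalPComplement_iff_noFusion P).1 hc)
    have h2 : Nat.card (ConjClasses (P : Subgroup G)) = Nat.card (P : Subgroup G) := by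
      refine (Nat.card_eq_of_bijective ConjClasses.mk ⟨fun a b hab' => ?_, ConjClasses.mk_surjective⟩).symm
      obtain ⟨c, hc⟩ := isConj_iff.1 (ConjClasses.mk_eq_mk_iff_isConj.1 hab')
      rw [← hc, hab.is_comm.comm c a, mul_inv_cancel_right]
    change _ < 2 * p * Nat.card (IsolatedElts.PClasses p G)
    rw [h, h2]
    have hP : 0 < Nat.card (P : Subgroup G) := Nat.card_pos
    have : 1 < p := (Fact.out : p.Prime).one_lt
    nlinarith

end Cfsg.Agent.S3897
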