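import Cfsg.Statements.S3901
import Cfsg.Agent.EqLemmas
import Cfsg.Agent.Lib.OuterPrimePower.Main

set_option autoImplicit false
open Cfsg

namespace Cfsg.Agent.S3901

/-- Let N be a non-trivial normal subgroup of the finite group G such that every element of G outside N has prime power order. If N is not solvable, then G/N is solvable. -/
theorem result {G : Type*} [Group G] [Finite G] (N : Subgroup G) [N.Normal] (hN : N ≠ ⊥) (hns : ¬ Group.IsSolvable ↥N)
    (h : ∀ x : G, x ∉ N → IsPrimePow (orderOf x)) : Group.IsSolvable (G ⧸ N) := by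
  refine OuterPrimePower.main _ G rfl N h ?_
  by_contra hno
  push Not at hno
  apply hns
  rcases eq_or_ne (Nat.card N) 1 with h1 | h1
  · exact absurd (Subgroup.eq_bot_of_card_eq N h1) hN
  obtain ⟨r, hr, hrN⟩ := Nat.exists_prime_and_dvd h1
  haveI : Fact r.Prime := ⟨hr⟩
  have hp : IsPGroup r N := OuterPrimePower.isPGroup_of_forall_prime_dvd fun t ht htd =>
    Classical.byContradiction fun hne => hno r t hr ht (Ne.symm hne) hrN htd
  haveI := hp.isNilpotent
  infer_instance

end Cfsg.Agent.S3901
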