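import Cfsg.Statements.S3904
import Cfsg.Agent.Lib.MaxCentralizer.Main
import Cfsg.Agent.EqLemmas

set_option autoImplicit false
open Cfsg

namespace Cfsg.Agent.S3904

/-- Let G be a non-abelian finite group in which the centralizer of every non-central element is a maximal subgroup. Then G/Z(G) is either an elementary abelian p-group for some prime p, or a minimal non-abelian group (non-abelian with all proper subgroups abelian) of order p^a · q for distinct primes p, q with a normal Sylow p-subgroup. -/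
theorem result {G : Type*} [Group G] [Finite G] (hna : ¬ IsMulCommutative G)
    (h : ∀ x : G, x ∉ Subgroup.center G → IsCoatom (Subgroup.centralizer ({x} : Set G))) :
    (∃ p : ℕ, p.Prime ∧ Cfsg.IsElementaryAbelian p (⊤ : Subgroup (G ⧸ Subgroup.center G))) ∨
    (¬ IsMulCommutative (G ⧸ Subgroup.center G) ∧ (∀ H : Subgroup (G ⧸ Subgroup.center G), H ≠ ⊤ → IsMulCommutative ↥H) ∧
      ∃ p q a : ℕ, p.Prime ∧ q.Prime ∧ p ≠ q ∧ Nat.card (G ⧸ Subgroup.center G) = p ^ a * q ∧
        ∀ P : Subgroup (G ⧸ Subgroup.center G), Nat.card ↥P = p ^ a → P.Normal) := by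
  have hh : Cfsg.Agent.MaxCentralizer.Hyp (⊤ : Subgroup G) := by
    intro x _ hx
    refine h x fun hc => hx (fun g _ => ?_)
    exact Subgroup.mem_center_iff.1 hc g
  let e : (↥(⊤ : Subgroup G) ⧸ Subgroup.center ↥(⊤ : Subgroup G)) ≃* (G ⧸ Subgroup.center G) :=
    QuotientGroup.congr _ _ Subgroup.topEquiv (by
      refine le_antisymm ?_ fun z hz => ⟨⟨z, trivial⟩, ?_, rfl⟩
      · rintro _ ⟨z, hz, rfl⟩
        exact Subgroup.mem_center_iff.2 fun g => congrArg Subtype.val (Subgroup.mem_center_iff.1 hz ⟨g, trivial⟩)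
      · exact Subgroup.mem_center_iff.2 fun g => Subtype.ext (Subgroup.mem_center_iff.1 hz g))
  rcases Cfsg.Agent.MaxCentralizer.main hh with ⟨p, hp, hab, hexp⟩ | ⟨x, K, r, hr, hF, hpr, hKn, -, hc, hel, hmin⟩
  · refine Or.inl ⟨p, hp, ⟨⟨fun a b => Subtype.ext ?_⟩⟩, fun a _ => ?_⟩
    · have h1 := congrArg Subtype.val (hab.is_comm.comm ⟨e.symm a, trivial⟩ ⟨e.symm b, trivial⟩)
      simpa using congrArg e h1
    · have := congrArg e (hexp (e.symm a) trivial)
      simpa using this
  · right
    have hmin' : ∀ R ≤ K, R.Normal → R = ⊥ ∨ R = K := fun R hR hn => hmin R hR fun g _ z hz => by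
      have h1 := Cfsg.Agent.MaxCentralizer.act_eq_conj (N := (⊤ : Subgroup G)) ⟨g, trivial⟩ z
      rw [show ((⟨g, trivial⟩ : ↥(⊤ : Subgroup G)) : G) = g from rfl] at h1
      rw [h1]
      exact hn.conj_mem z hz _
    obtain ⟨hne, hsub, p, q, a, hp, hq, hpq, hcard, hnorm⟩ :=
      Cfsg.Agent.MaxCentralizer.minimal_nonabelian hr hF hpr hKn hc hel hmin'
    refine ⟨fun hcm => hne ⟨⟨fun u v => e.injective (by rw [map_mul, map_mul, hcm.is_comm.comm])⟩⟩, fun H hH => ?_,
      p, q, a, hp, hq, hpq, by rw [← hcard]; exact Nat.card_congr e.symm.toEquiv, fun P hP => ?_⟩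
    · have h1 := hsub (H.comap e.toMonoidHom) (fun ht => hH (eq_top_iff.2 fun z _ => by
        have : e.symm z ∈ H.comap e.toMonoidHom := ht ▸ Subgroup.mem_top _
        simpa using this))
      refine ⟨⟨fun u v => Subtype.ext ?_⟩⟩
      have h2 := h1.is_comm.comm (⟨e.symm u, by simp⟩ : H.comap e.toMonoidHom) (⟨e.symm v, by simp⟩ : H.comap e.toMonoidHom)
      have h3 : e (e.symm u * e.symm v) = e (e.symm v * e.symm u) := congrArg (fun t : H.comap e.toMonoidHom => e t.1) h2
      rw [map_mul, map_mul, e.apply_symm_apply, e.apply_symm_apply] at h3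
      exact h3
    · have h1 : (P.comap e.toMonoidHom).Normal := hnorm _ (by
        rw [← hP]
        exact Nat.card_congr ⟨fun z => ⟨e z.1, z.2⟩, fun z => ⟨e.symm z.1, by simp⟩,
          fun z => Subtype.ext (by simp), fun z => Subtype.ext (by simp)⟩)
      refine ⟨fun z hz g => ?_⟩
      have := h1.conj_mem (e.symm z) (by simpa using hz) (e.symm g)
      simpa using this

end Cfsg.Agent.S3904
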