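import Cfsg.Statements.S3907
import Cfsg.Agent.EqLemmas
import Cfsg.Agent.Lib.CoprimeNilClass.Families

set_option autoImplicit false
open Cfsg

namespace Cfsg.Agent.S3907

/-- Let p be a prime and let k ≥ 3 and c ≥ 0 be integers. There is a bound B depending only on p, k and c such that the following holds for every finite group G of order prime to p and every elementary abelian subgroup A of order p^k of the automorphism group of G: if, for every non-identity a ∈ A, the (k−2)-th term of the lower central series of the fixed-point subgroup C_G(a) (the first term being the whole group) is nilpotent of class at most c, then the (k−2)-th term of the lower central series of G is nilpotent of class at most B. -/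
theorem result (p k c : ℕ) (hp : p.Prime) (hk : 3 ≤ k) :
    ∃ B : ℕ, ∀ (G : Type) [Group G] [Finite G], (Nat.card G).Coprime p →
      ∀ A : Subgroup (MulAut G), Cfsg.IsElementaryAbelian p A → Nat.card ↥A = p ^ k →
        (∀ a ∈ A, a ≠ 1 → ((⊤ : Subgroup ↥((a : MulAut G).toMonoidHom.eqLocus (MonoidHom.id G))).lowerCentralSeries (k - 3)).lowerCentralSeries c = ⊥) →
        ((⊤ : Subgroup G).lowerCentralSeries (k - 3)).lowerCentralSeries B = ⊥ := by
  haveI := Fact.mk hp
  refine ⟨CoprimeNilClass.classBound p (CoprimeNilClass.numL (p ^ k) (k - 3)) (c + 1) (k - 3 + c), fun G _ _ hG A hA hcard hyp => ?_⟩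
  haveI : Finite A := Nat.finite_of_card_ne_zero (by rw [hcard]; exact pow_ne_zero k hp.ne_zero)
  have hexp : ∀ a : A, a ^ p = 1 := fun a => Subtype.ext (by rw [SubgroupClass.coe_pow]; exact hA.2 a a.2)
  have hAc : ∀ a b : A, a * b = b * a := fun a b => hA.1.is_comm.comm a b
  have hpG : ¬ p ∣ Nat.card G := hp.coprime_iff_not_dvd.mp hG.symm
  refine CoprimeNilClass.lower_class_bound A.subtype (c := c) (i := k - 3) ?_ hAc hexp hcard (by omega) hpG
    fun a ha => ?_
  · rw [hcard]; exact (Nat.Coprime.pow_left k hG.symm)
  have h := congrArg (Subgroup.map ((a : MulAut G).toMonoidHom.eqLocus (MonoidHom.id G)).subtype)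
    (hyp a a.2 fun h => ha (Subtype.ext h))
  rw [Subgroup.map_lowerCentralSeries, Subgroup.map_bot, Subgroup.top_subtype_lowerCentralSeries] at h
  exact h

end Cfsg.Agent.S3907
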