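import Cfsg.Statements.S3908
import Cfsg.Agent.EqLemmas
import Cfsg.Agent.Lib.PGroup.UniqueOrderP

set_option autoImplicit false
open Cfsg

namespace Cfsg.Agent.S3908

/-- A Sylow subgroup has exponent `p`, or is cyclic, or is generalized quaternion. -/
theorem cyclic_or_exponent {G : Type*} [Group G] [Finite G]
    (hB : ∀ A B : Subgroup G, IsMulCommutative ↥A → IsMulCommutative ↥B → Nat.card ↥A = Nat.card ↥B →
      ∃ g : G, B = A.map (MulAut.conj g).toMonoidHom) {p : ℕ} [Fact p.Prime] (P : Sylow p G) :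
    (∀ x ∈ (P : Subgroup G), x ^ p = 1) ∨ IsCyclic ↥(P : Subgroup G) ∨
      (p = 2 ∧ ∃ k : ℕ, Nonempty (↥(P : Subgroup G) ≃* QuaternionGroup (2 ^ k))) := by
  have hp : p.Prime := Fact.out
  by_cases hexp : ∀ x ∈ (P : Subgroup G), x ^ p = 1
  · exact Or.inl hexp
  refine Or.inr ?_
  refine (Cfsg.Agent.PGroup.unique_order_p_cases P.isPGroup' ?_).imp_right id
  push Not at hexp
  obtain ⟨x, hx, hxp⟩ := hexp
  obtain ⟨k, hk⟩ := IsPGroup.iff_orderOf.1 P.isPGroup' ⟨x, hx⟩
  rw [Subgroup.orderOf_mk] at hk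
  have hk2 : 2 ≤ k := by
    by_contra hlt
    apply hxp
    rw [← orderOf_dvd_iff_pow_eq_one, hk]
    exact (pow_dvd_pow p (by omega : k ≤ 1)).trans (pow_one p).dvd
  have hy : orderOf (x ^ p ^ (k - 2)) = p ^ 2 := by
    rw [orderOf_pow_of_dvd (pow_ne_zero _ hp.ne_zero) (hk ▸ pow_dvd_pow p (by omega)), hk,
      Nat.pow_div (by omega) hp.pos]
    congr 1
    omega
  have hbot : (⊤ : Subgroup ↥(P : Subgroup G)) ≠ ⊥ := by
    intro h
    apply hxp
    have h1 := h.le (Subgroup.mem_top (⟨x, hx⟩ : ↥(P : Subgroup G)))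
    rw [Subgroup.mem_bot] at h1
    have h2 : x = 1 := congrArg Subtype.val h1
    simp [h2]
  obtain ⟨z, -, hzc, hzo⟩ := Cfsg.Agent.PGroup.exists_central_order_p P.isPGroup' hbot
  have key : ∀ w : ↥(P : Subgroup G), w ^ p = 1 → w ∈ Subgroup.zpowers z := by
    intro w hw
    by_contra hwz
    let T : Set ↥(P : Subgroup G) := {z, w}
    have hTc : ∀ a ∈ T, ∀ b ∈ T, a * b = b * a := by
      rintro a (rfl | rfl) b (rfl | rfl)
      · rfl
      · exact (Subgroup.mem_center_iff.1 hzc _).symm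
      · exact Subgroup.mem_center_iff.1 hzc _
      · rfl
    haveI := Subgroup.isMulCommutative_closure hTc
    letI cgE : CommGroup ↥(Subgroup.closure T) :=
      { (inferInstance : Group ↥(Subgroup.closure T)) with mul_comm := fun a b => mul_comm' a b }
    have hexpT : ∀ a ∈ Subgroup.closure T, a ^ p = 1 := by
      have hle : Subgroup.closure T ≤
          (powMonoidHom p : ↥(Subgroup.closure T) →* _).ker.map (Subgroup.closure T).subtype := by
        refine (Subgroup.closure_le _).2 fun a ha => ?_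
        refine ⟨⟨a, Subgroup.subset_closure ha⟩, Subtype.ext ?_, rfl⟩
        show a ^ p = 1
        rcases ha with rfl | rfl
        · have h0 := pow_orderOf_eq_one a
          rwa [hzo] at h0
        · exact hw
      intro a ha
      obtain ⟨b, hb, rfl⟩ := hle ha
      exact congrArg Subtype.val (MonoidHom.mem_ker.1 hb)
    obtain ⟨n, hn⟩ := IsPGroup.iff_card.1 (P.isPGroup'.to_subgroup (Subgroup.closure T))
    have hz' : Subgroup.zpowers z ≤ Subgroup.closure T :=
      Subgroup.zpowers_le.2 (Subgroup.subset_closure (by simp [T]))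
    have hn2 : 2 ≤ n := by
      by_contra hlt
      apply hwz
      have heq := Subgroup.eq_of_le_of_card_ge hz' (by
        rw [Nat.card_zpowers, hzo, hn]
        calc p ^ n ≤ p ^ 1 := Nat.pow_le_pow_right hp.pos (by omega)
          _ = p := pow_one p)
      rw [heq]
      exact Subgroup.subset_closure (by simp [T])
    obtain ⟨E, hEc⟩ := Sylow.exists_subgroup_card_pow_prime (G := ↥(Subgroup.closure T)) p (n := 2)
      (hn ▸ pow_dvd_pow p hn2)
    let A : Subgroup G := (E.map (Subgroup.closure T).subtype).map (P : Subgroup G).subtype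
    have hAc : IsMulCommutative ↥A := by
      refine ⟨⟨?_⟩⟩
      rintro ⟨_, ⟨_, ⟨a, ha, rfl⟩, rfl⟩⟩ ⟨_, ⟨_, ⟨b, hb, rfl⟩, rfl⟩⟩
      apply Subtype.ext
      show ((a.1 : ↥(P : Subgroup G)) : G) * _ = _
      exact congrArg (fun t : ↥(Subgroup.closure T) => ((t : ↥(P : Subgroup G)) : G)) (mul_comm a b)
    have hAcard : Nat.card ↥A = p ^ 2 := by
      rw [Subgroup.card_map_of_injective (P : Subgroup G).subtype_injective,
        Subgroup.card_map_of_injective (Subgroup.closure T).subtype_injective, hEc]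
    obtain ⟨g, hg⟩ := hB A (Subgroup.zpowers (x ^ p ^ (k - 2))) hAc inferInstance
      (by rw [hAcard, Nat.card_zpowers, hy])
    have hy2 : x ^ p ^ (k - 2) ∈ A.map (MulAut.conj g).toMonoidHom := hg ▸ Subgroup.mem_zpowers _
    obtain ⟨_, ⟨_, ⟨b, hb, rfl⟩, rfl⟩, hbeq⟩ := hy2
    have h1 : (x ^ p ^ (k - 2)) ^ p = 1 := by
      rw [← hbeq, ← map_pow, ← map_pow, ← map_pow]
      have h2 := hexpT _ b.2
      rw [show b ^ p = 1 from Subtype.ext h2]
      simp
    rw [← orderOf_dvd_iff_pow_eq_one, hy] at h1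
    have := Nat.le_of_dvd hp.pos h1
    nlinarith [hp.two_le]
  intro a b ha hb
  have haz := key a (by
    have h0 := pow_orderOf_eq_one a
    rwa [ha] at h0)
  have heq := Subgroup.eq_of_le_of_card_ge (Subgroup.zpowers_le.2 haz)
    (by rw [Nat.card_zpowers, Nat.card_zpowers, ha, hzo])
  exact heq ▸ key b hb


/-- Let G be a finite group in which any two abelian subgroups of the same order are conjugate. Then a Sylow 2-subgroup of G is cyclic, elementary abelian or generalized quaternion, and for an odd prime p a Sylow p-subgroup of G is cyclic or has exponent dividing p. -/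
theorem result {G : Type*} [Group G] [Finite G] (hB : ∀ A B : Subgroup G, IsMulCommutative ↥A → IsMulCommutative ↥B → Nat.card ↥A = Nat.card ↥B → ∃ g : G, B = A.map (MulAut.conj g).toMonoidHom) :
    (∀ P : Sylow 2 G, IsCyclic ↥(P : Subgroup G) ∨ Cfsg.IsElementaryAbelian 2 (P : Subgroup G) ∨ ∃ k : ℕ, Nonempty (↥(P : Subgroup G) ≃* QuaternionGroup (2 ^ k))) ∧
    ∀ (p : ℕ) [Fact p.Prime], p ≠ 2 → ∀ P : Sylow p G, IsCyclic ↥(P : Subgroup G) ∨ ∀ x ∈ (P : Subgroup G), x ^ p = 1 := by
  refine ⟨fun P => ?_, fun p _ hp P => ?_⟩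
  · rcases cyclic_or_exponent hB P with h | h | ⟨-, h⟩
    · refine Or.inr (Or.inl ⟨⟨⟨fun a b => Subtype.ext ?_⟩⟩, h⟩)
      have hsq : ∀ x ∈ (P : Subgroup G), x⁻¹ = x := fun x hx =>
        inv_eq_of_mul_eq_one_right (by rw [← sq]; exact h x hx)
      have h1 := hsq _ ((P : Subgroup G).mul_mem a.2 b.2)
      rw [mul_inv_rev, hsq _ a.2, hsq _ b.2] at h1
      exact h1.symm
    · exact Or.inl h
    · exact Or.inr (Or.inr h)
  · rcases cyclic_or_exponent hB P with h | h | ⟨h, -⟩
    · exact Or.inr h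
    · exact Or.inl h
    · exact absurd h hp

end Cfsg.Agent.S3908
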