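import Cfsg.Statements.S3909
import Cfsg.Agent.EqLemmas

set_option autoImplicit false
open Cfsg

namespace Cfsg.Agent.S3909

/-- Let G be a finite group in which any two abelian subgroups of the same order are conjugate. Let M be a normal subgroup of G. If M contains an element of the same order as a ∈ G, then a ∈ M; and if M is elementary abelian of order p^t with p prime and t ≥ 2, then M is the unique Sylow p-subgroup of G. -/
theorem result {G : Type*} [Group G] [Finite G] (hB : ∀ A B : Subgroup G, IsMulCommutative ↥A → IsMulCommutative ↥B → Nat.card ↥A = Nat.card ↥B → ∃ g : G, B = A.map (MulAut.conj g).toMonoidHom) (M : Subgroup G) [M.Normal] :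
    (∀ a : G, (∃ m ∈ M, orderOf m = orderOf a) → a ∈ M) ∧
    ∀ (p t : ℕ) [Fact p.Prime], 2 ≤ t → Nat.card ↥M = p ^ t → Cfsg.IsElementaryAbelian p M → ∀ P : Sylow p G, (P : Subgroup G) = M := by
  have part1 : ∀ a : G, (∃ m ∈ M, orderOf m = orderOf a) → a ∈ M := by
    rintro a ⟨m, hm, hma⟩
    obtain ⟨g, hg⟩ := hB (Subgroup.zpowers m) (Subgroup.zpowers a) inferInstance inferInstance
      (by rw [Nat.card_zpowers, Nat.card_zpowers, hma])
    have ha : a ∈ (Subgroup.zpowers m).map (MulAut.conj g).toMonoidHom := hg ▸ Subgroup.mem_zpowers a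
    obtain ⟨b, hb, rfl⟩ := Subgroup.mem_map.1 ha
    exact Subgroup.Normal.conj_mem ‹M.Normal› b ((Subgroup.zpowers_le.2 hm) hb) g
  refine ⟨part1, ?_⟩
  intro p t _ ht hcard hel P
  have hp : p.Prime := Fact.out
  have hMP : M ≤ (P : Subgroup G) := by
    obtain ⟨Q, hQ⟩ := (IsPGroup.of_card hcard).exists_le_sylow
    obtain ⟨g, hg⟩ := MulAction.exists_smul_eq G Q P
    rw [← hg, Sylow.coe_subgroup_smul]
    intro m hm
    rw [Subgroup.mem_pointwise_smul_iff_inv_smul_mem]
    exact hQ (by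
      simpa using Subgroup.Normal.conj_mem ‹M.Normal› m hm g⁻¹)
  refine le_antisymm ?_ hMP
  intro x hx
  obtain ⟨m, hm, hmo⟩ : ∃ m ∈ M, orderOf m = p := by
    obtain ⟨m, hm⟩ := exists_prime_orderOf_dvd_card' (G := ↥M) p
      (hcard ▸ dvd_pow_self p (by omega))
    exact ⟨m, m.2, by rw [Subgroup.orderOf_coe]; exact hm⟩
  obtain ⟨k, hk⟩ := (IsPGroup.iff_orderOf.1 P.isPGroup') ⟨x, hx⟩
  rw [Subgroup.orderOf_mk] at hk
  rcases k with _ | _ | k
  · rw [pow_zero, orderOf_eq_one_iff] at hk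
    exact hk ▸ M.one_mem
  · exact part1 x ⟨m, hm, by simpa [hk] using hmo⟩
  exfalso
  have hy : orderOf (x ^ p ^ k) = p ^ 2 := by
    rw [orderOf_pow' x (pow_ne_zero _ hp.ne_zero), hk,
      Nat.gcd_eq_right (pow_dvd_pow p (by omega)), Nat.pow_div (by omega) hp.pos]
    congr 1
    omega
  obtain ⟨A', hA'⟩ := Sylow.exists_subgroup_card_pow_prime (G := ↥M) p (n := 2)
    (hcard ▸ pow_dvd_pow p ht)
  have hAM : A'.map M.subtype ≤ M := by
    intro a ha
    obtain ⟨b, -, rfl⟩ := Subgroup.mem_map.1 ha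
    exact b.2
  have hAc : IsMulCommutative ↥(A'.map M.subtype) := by
    refine ⟨⟨fun a b => Subtype.ext ?_⟩⟩
    have h2 := congrArg Subtype.val (hel.1.is_comm.comm ⟨a, hAM a.2⟩ ⟨b, hAM b.2⟩)
    simpa using h2
  obtain ⟨g, hg⟩ := hB (A'.map M.subtype) (Subgroup.zpowers (x ^ p ^ k)) hAc inferInstance
    (by rw [Subgroup.card_map_of_injective M.subtype_injective, hA', Nat.card_zpowers, hy])
  have hy2 : x ^ p ^ k ∈ (A'.map M.subtype).map (MulAut.conj g).toMonoidHom :=
    hg ▸ Subgroup.mem_zpowers (x ^ p ^ k)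
  obtain ⟨b, hb, hbeq⟩ := Subgroup.mem_map.1 hy2
  have h1 : (x ^ p ^ k) ^ p = 1 := by
    rw [← hbeq, ← map_pow, hel.2 b (hAM hb), map_one]
  rw [← orderOf_dvd_iff_pow_eq_one, hy] at h1
  have := Nat.le_of_dvd hp.pos h1
  nlinarith [hp.two_le]

end Cfsg.Agent.S3909
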