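import Cfsg.Statements.S3910
import Cfsg.Agent.EqLemmas

set_option autoImplicit false
open Cfsg

namespace Cfsg.Agent.S3910

/-- A finite nilpotent group in which any two abelian subgroups of the same order are conjugate is cyclic. -/
theorem result {G : Type*} [Group G] [Finite G] (hB : ∀ A B : Subgroup G, IsMulCommutative ↥A → IsMulCommutative ↥B → Nat.card ↥A = Nat.card ↥B → ∃ g : G, B = A.map (MulAut.conj g).toMonoidHom) (hnil : Group.IsNilpotent G) : IsCyclic G := by
  obtain ⟨e⟩ := (Group.isNilpotent_of_finite_tfae (G := G)).out 0 4 rfl rfl |>.mp hnil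
  have hcomm : ∀ x y : G, (orderOf x).Coprime (orderOf y) → Commute x y := by
    intro x y hxy
    have key : Commute (e.symm x) (e.symm y) := by
      funext q P
      haveI : Fact (q : ℕ).Prime := ⟨Nat.prime_of_mem_primeFactors q.2⟩
      have h1 : orderOf ((e.symm x) q P) ∣ orderOf x := by
        apply orderOf_dvd_of_pow_eq_one
        show (e.symm x ^ orderOf x) q P = 1
        rw [← map_pow, pow_orderOf_eq_one, map_one]
        rfl
      have h2 : orderOf ((e.symm y) q P) ∣ orderOf y := by
        apply orderOf_dvd_of_pow_eq_one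
        show (e.symm y ^ orderOf y) q P = 1
        rw [← map_pow, pow_orderOf_eq_one, map_one]
        rfl
      obtain ⟨a, ha⟩ := IsPGroup.iff_orderOf.1 P.isPGroup' ((e.symm x) q P)
      obtain ⟨b, hb⟩ := IsPGroup.iff_orderOf.1 P.isPGroup' ((e.symm y) q P)
      have hc := Nat.Coprime.coprime_dvd_left h1 (Nat.Coprime.coprime_dvd_right h2 hxy)
      have hor : orderOf ((e.symm x) q P) = 1 ∨ orderOf ((e.symm y) q P) = 1 := by
        rcases Nat.eq_zero_or_pos a with h | h
        · exact Or.inl (by rw [ha, h, pow_zero])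
        rcases Nat.eq_zero_or_pos b with h' | h'
        · exact Or.inr (by rw [hb, h', pow_zero])
        exfalso
        rw [ha, hb, Nat.coprime_pow_left_iff h, Nat.coprime_pow_right_iff h'] at hc
        exact (Nat.prime_of_mem_primeFactors q.2).ne_one ((Nat.coprime_self _).1 hc)
      show (e.symm x) q P * (e.symm y) q P = (e.symm y) q P * (e.symm x) q P
      rcases hor with h | h
      · rw [orderOf_eq_one_iff] at h
        simp [h]
      · rw [orderOf_eq_one_iff] at h
        simp [h]
    exact key.of_map e.symm.injective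
  obtain ⟨x, hx⟩ := Finite.exists_max (fun g : G => orderOf g)
  have hdiv : ∀ y : G, orderOf y ∣ orderOf x := by
    intro y
    rw [← Nat.factorization_le_iff_dvd (orderOf_pos y).ne' (orderOf_pos x).ne']
    intro q
    by_contra hlt
    push_neg at hlt
    have hq : q.Prime := Nat.prime_of_mem_primeFactors
      (Nat.support_factorization _ ▸ Finsupp.mem_support_iff.2 (Nat.ne_zero_of_lt hlt))
    have hox : orderOf (x ^ q ^ (orderOf x).factorization q) =
        orderOf x / q ^ (orderOf x).factorization q :=
      orderOf_pow_of_dvd (pow_ne_zero _ hq.ne_zero) (Nat.ordProj_dvd _ q)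
    have hoy : orderOf (y ^ (orderOf y / q ^ (orderOf y).factorization q)) =
        q ^ (orderOf y).factorization q :=
      orderOf_pow_orderOf_div (orderOf_pos y).ne' (Nat.ordProj_dvd _ q)
    have hcop : (orderOf (x ^ q ^ (orderOf x).factorization q)).Coprime
        (orderOf (y ^ (orderOf y / q ^ (orderOf y).factorization q))) := by
      rw [hox, hoy]
      exact (Nat.coprime_ordCompl hq (orderOf_pos x).ne').symm.pow_right _
    have h := hx (x ^ q ^ (orderOf x).factorization q *
      y ^ (orderOf y / q ^ (orderOf y).factorization q))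
    rw [(hcomm _ _ hcop).orderOf_mul_eq_mul_orderOf_of_coprime hcop, hox, hoy] at h
    have h2 : orderOf x / q ^ (orderOf x).factorization q * q ^ (orderOf x).factorization q = orderOf x :=
      Nat.div_mul_cancel (Nat.ordProj_dvd _ q)
    have hpos : 0 < orderOf x / q ^ (orderOf x).factorization q :=
      Nat.div_pos (Nat.le_of_dvd (orderOf_pos x) (Nat.ordProj_dvd _ q)) (pow_pos hq.pos _)
    have h3 : q ^ (orderOf x).factorization q < q ^ (orderOf y).factorization q :=
      Nat.pow_lt_pow_right hq.one_lt hlt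
    nlinarith
  refine ⟨x, fun y => ?_⟩
  suffices htop : Subgroup.zpowers x = ⊤ by
    exact Subgroup.mem_zpowers_iff.1 (htop ▸ Subgroup.mem_top y)
  by_contra hne
  obtain ⟨M, hM, hxM⟩ := (eq_top_or_exists_le_coatom (Subgroup.zpowers x)).resolve_left hne
  haveI : M.Normal := (Group.isNilpotent_of_finite_tfae (G := G)).out 0 2 rfl rfl |>.mp hnil M hM
  apply hM.1
  rw [eq_top_iff]
  intro z _
  obtain ⟨c, hc⟩ := hdiv z
  have hcpos : c ≠ 0 := by
    rintro rfl
    rw [mul_zero] at hc
    exact (orderOf_pos x).ne' hc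
  have hxc : orderOf (x ^ c) = orderOf z := by
    rw [orderOf_pow_of_dvd hcpos (Dvd.intro_left _ hc.symm), hc, Nat.mul_div_cancel _ (Nat.pos_of_ne_zero hcpos)]
  obtain ⟨g, hg⟩ := hB (Subgroup.zpowers (x ^ c)) (Subgroup.zpowers z) inferInstance inferInstance
    (by rw [Nat.card_zpowers, Nat.card_zpowers, hxc])
  have hz : z ∈ (Subgroup.zpowers (x ^ c)).map (MulAut.conj g).toMonoidHom := hg ▸ Subgroup.mem_zpowers z
  obtain ⟨b, hb, rfl⟩ := Subgroup.mem_map.1 hz
  refine Subgroup.Normal.conj_mem ‹M.Normal› b ?_ g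
  exact hxM (Subgroup.zpowers_le.2 (Subgroup.npow_mem_zpowers x c) hb)

end Cfsg.Agent.S3910
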