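import Cfsg.Statements.S3911
import Cfsg.Agent.EqLemmas
import Cfsg.Agent.S3908
import Cfsg.Agent.S3909
import Cfsg.Agent.Lib.NilGroup.Basic

set_option autoImplicit false
open Cfsg
open scoped Pointwise

namespace Cfsg.Agent.S3911

/-- An abelian subgroup of the quotient lifts to an abelian subgroup whose order depends only on its order. -/
theorem lift {G : Type*} [Group G] [Finite G]
    (hB : ∀ A B : Subgroup G, IsMulCommutative ↥A → IsMulCommutative ↥B → Nat.card ↥A = Nat.card ↥B →
      ∃ g : G, B = A.map (MulAut.conj g).toMonoidHom)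
    (M : Subgroup G) [M.Normal] (hM : Odd (Nat.card ↥M)) (A : Subgroup (G ⧸ M)) (hA : IsMulCommutative ↥A) :
    ∃ L : Subgroup G, L.map (QuotientGroup.mk' M) = A ∧ IsMulCommutative ↥L ∧
      ∀ p : ℕ, (Nat.card ↥L).factorization p = if p ∣ Nat.card ↥A
        then (Nat.card ↥A).factorization p + (Nat.card ↥M).factorization p else 0 := by
  set f := QuotientGroup.mk' M with hf
  obtain ⟨L, -, hLmap, hmin⟩ := exists_minimal_le_of_wellFoundedLT
    (fun L : Subgroup G => L.map f = A) (A.comap f)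
    (Subgroup.map_comap_eq_self_of_surjective (QuotientGroup.mk'_surjective M) A)
  have hmin' : ∀ K : Subgroup ↥L, (K.map L.subtype).map f = A → K = ⊤ := by
    intro K hK
    rw [eq_top_iff]
    intro x _
    obtain ⟨y, hy, hyx⟩ := Subgroup.mem_map.1 (hmin hK (Subgroup.map_subtype_le K) x.2)
    exact Subtype.ext hyx ▸ hy
  let g : ↥L →* G ⧸ M := f.comp L.subtype
  have hgr : g.range = A := by rw [MonoidHom.range_comp, Subgroup.range_subtype, hLmap]
  have hcom : ∀ x y : ↥L, g x * g y = g y * g x := fun x y =>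
    congrArg Subtype.val (hA.is_comm.comm ⟨g x, hgr ▸ ⟨x, rfl⟩⟩ ⟨g y, hgr ▸ ⟨y, rfl⟩⟩)
  have hsup : ∀ K : Subgroup ↥L, g.ker ⊔ K = ⊤ → K = ⊤ := by
    intro K hK
    apply hmin'
    rw [Subgroup.map_map]
    apply le_antisymm
    · rw [← hgr]; exact Subgroup.map_le_range g K
    · have h := congrArg (Subgroup.map g) hK
      rw [Subgroup.map_sup, ← MonoidHom.range_eq_map, hgr] at h
      rw [← h]
      exact sup_le (by
        rintro _ ⟨x, hx, rfl⟩
        rw [MonoidHom.mem_ker.1 hx]
        exact Subgroup.one_mem _) le_rfl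
  have hnil : Group.IsNilpotent ↥L := by
    refine ((Group.isNilpotent_of_finite_tfae (G := ↥L)).out 0 2 rfl rfl).mpr fun K hK => ?_
    have hker : g.ker ≤ K := by
      by_contra hnot
      exact hK.1 (hsup K (hK.2 _ (by
        refine lt_of_le_of_ne le_sup_right fun h => hnot ?_
        rw [h]; exact le_sup_left)))
    refine ⟨fun k hk x => ?_⟩
    have h1 : x * k * x⁻¹ * k⁻¹ ∈ g.ker := by
      rw [MonoidHom.mem_ker, map_mul, map_mul, map_mul, map_inv, map_inv, hcom x k]
      simp
    simpa using K.mul_mem (hker h1) hk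
  haveI := hnil
  have hnodvd : ∀ p : ℕ, p.Prime → ¬ p ∣ Nat.card ↥A → ¬ p ∣ Nat.card ↥L := by
    intro p hp hpA hpL
    haveI : Fact p.Prime := ⟨hp⟩
    obtain ⟨P⟩ : Nonempty (Sylow p ↥L) := Sylow.nonempty
    have hPn : (P : Subgroup ↥L).Normal := inferInstance
    obtain ⟨K, hK⟩ := Subgroup.exists_right_complement'_of_coprime P.card_coprime_index
    have hPker : (P : Subgroup ↥L) ≤ g.ker := by
      intro x hx
      obtain ⟨n, hn⟩ := IsPGroup.iff_orderOf.1 P.isPGroup' ⟨x, hx⟩
      rw [Subgroup.orderOf_mk] at hn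
      have hxA : g x ∈ A := hgr ▸ ⟨x, rfl⟩
      have h1 : orderOf (g x) ∣ Nat.card ↥A := (Subgroup.orderOf_mk (g x) hxA) ▸ orderOf_dvd_natCard _
      obtain ⟨i, -, hi⟩ := (Nat.dvd_prime_pow hp).1 (hn ▸ orderOf_map_dvd g x)
      rw [MonoidHom.mem_ker, ← orderOf_eq_one_iff, hi]
      rcases i with _ | i
      · exact pow_zero p
      · exact absurd ((dvd_pow_self p i.succ_ne_zero).trans (hi ▸ h1)) hpA
    have hKtop : K = ⊤ := hsup K (top_le_iff.1 (hK.sup_eq_top ▸ sup_le_sup_right hPker K))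
    exact P.ne_bot_of_dvd_card hpL (by
      have := hK.disjoint
      rw [hKtop, disjoint_top] at this
      exact this)
  have hcase : ∀ p : ℕ, p.Prime → p ∣ Nat.card ↥A → p ∣ Nat.card ↥M →
      ∀ P : Sylow p G, IsCyclic ↥(P : Subgroup G) := by
    intro p hp hpA hpM P
    haveI : Fact p.Prime := ⟨hp⟩
    have hp2 : p ≠ 2 := by
      rintro rfl
      exact (Nat.not_even_iff_odd.2 hM) (even_iff_two_dvd.2 hpM)
    rcases (Cfsg.Agent.S3908.result hB).2 p hp2 P with h | h
    · exact h
    exfalso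
    obtain ⟨m, hm⟩ := exists_prime_orderOf_dvd_card' (G := ↥M) p hpM
    have hPM : (P : Subgroup G) ≤ M := by
      intro x hx
      by_cases hx1 : x = 1
      · exact hx1 ▸ M.one_mem
      · exact (Cfsg.Agent.S3909.result hB M).1 x
          ⟨m, m.2, by rw [Subgroup.orderOf_coe, hm, orderOf_eq_prime (h x hx) hx1]⟩
    apply P.not_dvd_index
    refine dvd_trans ?_ (Subgroup.index_dvd_of_le hPM)
    rw [Subgroup.index_eq_card]
    exact hpA.trans (Subgroup.card_subgroup_dvd_card A)
  refine ⟨L, hLmap, ⟨⟨fun x y => ?_⟩⟩, fun p => ?_⟩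
  · refine (Cfsg.Agent.NilGroup.commute_of_sylow hnil (fun p hp P a ha b hb => ?_) x y).eq
    haveI : Fact p.Prime := ⟨hp⟩
    by_cases hpM : p ∣ Nat.card ↥M
    · by_cases hpA : p ∣ Nat.card ↥A
      · obtain ⟨Q, hQ⟩ := (P.isPGroup'.map L.subtype).exists_le_sylow
        haveI := hcase p hp hpA hpM Q
        letI := IsCyclic.commGroup (α := ↥(Q : Subgroup G))
        have h1 := congrArg Subtype.val (mul_comm (⟨(a : G), hQ ⟨a, ha, rfl⟩⟩ : ↥(Q : Subgroup G))
          ⟨(b : G), hQ ⟨b, hb, rfl⟩⟩)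
        exact Subtype.ext h1
      · have hbot : (P : Subgroup ↥L) = ⊥ := by
          obtain ⟨n, hn⟩ := IsPGroup.iff_card.1 P.isPGroup'
          rcases n with _ | n
          · rw [pow_zero] at hn; exact Subgroup.card_eq_one.1 hn
          · exact absurd ((dvd_pow_self p n.succ_ne_zero).trans (hn ▸ Subgroup.card_subgroup_dvd_card _))
              (hnodvd p hp hpA)
        rw [hbot, Subgroup.mem_bot] at ha
        rw [ha]
        exact Commute.one_left b
    · have hinj : ∀ c ∈ (P : Subgroup ↥L), g c = 1 → c = 1 := by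
        intro c hc hgc
        obtain ⟨n, hn⟩ := IsPGroup.iff_orderOf.1 P.isPGroup' ⟨c, hc⟩
        rw [Subgroup.orderOf_mk, ← Subgroup.orderOf_coe] at hn
        have hcM : (c : G) ∈ M := (QuotientGroup.eq_one_iff _).1 hgc
        have hdvd : orderOf (c : G) ∣ Nat.card ↥M :=
          (Subgroup.orderOf_mk (c : G) hcM) ▸ orderOf_dvd_natCard _
        rcases n with _ | n
        · rw [pow_zero, orderOf_eq_one_iff] at hn
          exact Subtype.ext hn
        · exact absurd ((dvd_pow_self p n.succ_ne_zero).trans (hn ▸ hdvd)) hpM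
      have h1 := hinj (a * b * a⁻¹ * b⁻¹) (Subgroup.mul_mem _ (Subgroup.mul_mem _
        (Subgroup.mul_mem _ ha hb) (Subgroup.inv_mem _ ha)) (Subgroup.inv_mem _ hb)) (by
          rw [map_mul, map_mul, map_mul, map_inv, map_inv, hcom a b]; simp)
      rw [mul_inv_eq_one, mul_inv_eq_iff_eq_mul] at h1
      exact h1
  · by_cases hp : p.Prime
    swap
    · simp [Nat.factorization_eq_zero_of_not_prime _ hp]
    haveI : Fact p.Prime := ⟨hp⟩
    by_cases hpA : p ∣ Nat.card ↥A
    swap
    · rw [if_neg hpA]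
      exact Nat.factorization_eq_zero_of_not_dvd (hnodvd p hp hpA)
    rw [if_pos hpA]
    have hcardL : Nat.card ↥L = Nat.card ↥A * Nat.card ↥g.ker := by
      rw [← hgr, ← Subgroup.index_ker, mul_comm, Subgroup.card_mul_index]
    have hkM : Nat.card ↥g.ker ∣ Nat.card ↥M := by
      rw [← Subgroup.card_map_of_injective L.subtype_injective]
      refine Subgroup.card_dvd_of_le ?_
      rintro _ ⟨x, hx, rfl⟩
      exact (QuotientGroup.eq_one_iff _).1 hx
    rw [hcardL, Nat.factorization_mul Nat.card_pos.ne' Nat.card_pos.ne', Finsupp.add_apply]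
    congr 1
    refine le_antisymm ((Nat.factorization_le_iff_dvd Nat.card_pos.ne' Nat.card_pos.ne').2 hkM p) ?_
    rw [← hp.pow_dvd_iff_le_factorization Nat.card_pos.ne']
    by_cases hpM : p ∣ Nat.card ↥M
    swap
    · simp [Nat.factorization_eq_zero_of_not_dvd hpM]
    -- the cyclic case
    obtain ⟨PL⟩ : Nonempty (Sylow p ↥L) := Sylow.nonempty
    obtain ⟨Q, hQ⟩ := (PL.isPGroup'.map L.subtype).exists_le_sylow
    haveI := hcase p hp hpA hpM Q
    obtain ⟨PM⟩ : Nonempty (Sylow p ↥M) := Sylow.nonempty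
    obtain ⟨Q', hQ'⟩ := (PM.isPGroup'.map M.subtype).exists_le_sylow
    obtain ⟨c, hc⟩ := MulAction.exists_smul_eq G Q' Q
    have hRle : ((PM : Subgroup ↥M).map M.subtype).map (MulAut.conj c).toMonoidHom ≤ (Q : Subgroup G) ⊓ M := by
      rintro _ ⟨_, ⟨r, hr, rfl⟩, rfl⟩
      refine ⟨?_, Subgroup.Normal.conj_mem ‹M.Normal› _ r.2 c⟩
      rw [← hc]
      show _ ∈ MulAut.conj c • (Q' : Subgroup G)
      rw [Subgroup.mem_pointwise_smul_iff_inv_smul_mem]
      simpa [mul_assoc] using hQ' ⟨r, hr, rfl⟩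
    have hdivs : ∀ H K : Subgroup ↥(Q : Subgroup G), Nat.card ↥H ≤ Nat.card ↥K → H ≤ K := by
      intro H K hle
      obtain ⟨i, hi⟩ := IsPGroup.iff_card.1 (Q.isPGroup'.to_subgroup H)
      obtain ⟨j, hj⟩ := IsPGroup.iff_card.1 (Q.isPGroup'.to_subgroup K)
      intro h hh
      have h1 : (⟨h, hh⟩ : ↥H) ^ Nat.card ↥H = 1 := pow_card_eq_one'
      have h2 : h ^ Nat.card ↥K = 1 := by
        have hd : Nat.card ↥H ∣ Nat.card ↥K := by
          rw [hi, hj] at hle ⊢
          exact pow_dvd_pow p ((Nat.pow_le_pow_iff_right hp.one_lt).1 hle)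
        obtain ⟨d, hd⟩ := hd
        rw [hd, pow_mul, show h ^ Nat.card ↥H = 1 from congrArg Subtype.val h1, one_pow]
      letI := IsCyclic.commGroup (α := ↥(Q : Subgroup G))
      classical
      letI := Fintype.ofFinite ↥(Q : Subgroup G)
      have hsub : (Finset.univ.filter fun a : ↥(Q : Subgroup G) => a ∈ K) ⊆
          Finset.univ.filter fun a => a ^ Nat.card ↥K = 1 := by
        intro a ha
        simp only [Finset.mem_filter, Finset.mem_univ, true_and] at ha ⊢
        exact congrArg Subtype.val (pow_card_eq_one' (x := (⟨a, ha⟩ : ↥K)))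
      have hle2 : (Finset.univ.filter fun a : ↥(Q : Subgroup G) => a ^ Nat.card ↥K = 1).card ≤
          (Finset.univ.filter fun a : ↥(Q : Subgroup G) => a ∈ K).card := by
        refine (IsCyclic.card_pow_eq_one_le Nat.card_pos).trans ?_
        rw [Nat.card_eq_fintype_card, Fintype.card_subtype]
      have heq := Finset.eq_of_subset_of_card_le hsub hle2
      have hmem : h ∈ Finset.univ.filter fun a : ↥(Q : Subgroup G) => a ^ Nat.card ↥K = 1 := by
        simpa using h2
      rw [← heq] at hmem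
      simpa using hmem
    have hnotM : ¬ (PL : Subgroup ↥L) ≤ g.ker := by
      intro hle
      have h1 := Subgroup.index_dvd_of_le hle
      rw [Subgroup.index_ker, hgr] at h1
      exact PL.not_dvd_index (hpA.trans h1)
    set SL := ((PL : Subgroup ↥L).map L.subtype).subgroupOf (Q : Subgroup G)
    set SM := ((Q : Subgroup G) ⊓ M).subgroupOf (Q : Subgroup G)
    have hSMSL : SM ≤ SL := by
      rcases le_total (Nat.card ↥SM) (Nat.card ↥SL) with h | h
      · exact hdivs _ _ h
      · exfalso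
        apply hnotM
        intro x hx
        have hx' : (⟨(x : G), hQ ⟨x, hx, rfl⟩⟩ : ↥(Q : Subgroup G)) ∈ SM :=
          hdivs _ _ h (Subgroup.mem_subgroupOf.2 ⟨x, hx, rfl⟩)
        exact (QuotientGroup.eq_one_iff _).2 (Subgroup.mem_subgroupOf.1 hx').2
    have hQMker : (Q : Subgroup G) ⊓ M ≤ g.ker.map L.subtype := by
      intro x hx
      obtain ⟨y, -, hyx⟩ := Subgroup.mem_map.1 (hSMSL (show (⟨x, hx.1⟩ : ↥(Q : Subgroup G)) ∈ SM from hx))
      refine ⟨y, ?_, hyx⟩
      show f (y : G) = 1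
      rw [show (y : G) = x from hyx]
      exact (QuotientGroup.eq_one_iff _).2 hx.2
    calc p ^ (Nat.card ↥M).factorization p = Nat.card ↥(PM : Subgroup ↥M) := (Sylow.card_eq_multiplicity PM).symm
      _ = Nat.card ↥(((PM : Subgroup ↥M).map M.subtype).map (MulAut.conj c).toMonoidHom) := by
          rw [Subgroup.card_map_of_injective (MulAut.conj c).injective,
            Subgroup.card_map_of_injective M.subtype_injective]
      _ ∣ Nat.card ↥(g.ker.map L.subtype) := Subgroup.card_dvd_of_le (hRle.trans hQMker)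
      _ = Nat.card ↥g.ker := Subgroup.card_map_of_injective L.subtype_injective


/-- Let G be a finite group in which any two abelian subgroups of the same order are conjugate. If M is a normal subgroup of G of odd order, then any two abelian subgroups of G/M of the same order are conjugate in G/M. -/
theorem result {G : Type*} [Group G] [Finite G] (hB : ∀ A B : Subgroup G, IsMulCommutative ↥A → IsMulCommutative ↥B → Nat.card ↥A = Nat.card ↥B → ∃ g : G, B = A.map (MulAut.conj g).toMonoidHom) (M : Subgroup G) [M.Normal] (hM : Odd (Nat.card ↥M)) :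
    ∀ A B : Subgroup (G ⧸ M), IsMulCommutative ↥A → IsMulCommutative ↥B → Nat.card ↥A = Nat.card ↥B →
      ∃ g : G ⧸ M, B = A.map (MulAut.conj g).toMonoidHom := by
  intro A B hA hB' hcard
  obtain ⟨LA, hAmap, hAc, hAfac⟩ := lift hB M hM A hA
  obtain ⟨LB, hBmap, hBc, hBfac⟩ := lift hB M hM B hB'
  have heq : Nat.card ↥LA = Nat.card ↥LB := by
    refine Nat.eq_of_factorization_eq Nat.card_pos.ne' Nat.card_pos.ne' fun p => ?_
    rw [hAfac p, hBfac p, hcard]
  obtain ⟨g, hg⟩ := hB LA LB hAc hBc heq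
  refine ⟨QuotientGroup.mk' M g, ?_⟩
  rw [← hBmap, hg, ← hAmap, Subgroup.map_map, Subgroup.map_map]
  congr 1

end Cfsg.Agent.S3911
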