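import Cfsg.Statements.S3917
import Cfsg.Agent.EqLemmas

set_option autoImplicit false
open Cfsg

namespace Cfsg.Agent.S3917

/-- Say that a group has self-centralizing non-cyclic subgroups when every non-cyclic subgroup H satisfies C_G(H) ≤ H. A finite abelian group with self-centralizing non-cyclic subgroups is cyclic or elementary abelian of order p² for a prime p. -/
theorem result {G : Type*} [CommGroup G] [Finite G] (hX : (∀ H : Subgroup G, ¬ IsCyclic ↥H → Subgroup.centralizer (H : Set G) ≤ H)) :
    IsCyclic G ∨ ∃ p : ℕ, p.Prime ∧ Nat.card G = p ^ 2 ∧ Monoid.exponent G = p := by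
  by_cases hc : IsCyclic G
  · exact Or.inl hc
  refine Or.inr ?_
  have hprop : ∀ H : Subgroup G, H ≠ ⊤ → IsCyclic ↥H := by
    intro H hH
    by_contra hcy
    apply hH
    rw [eq_top_iff]
    intro x _
    exact hX H hcy (Subgroup.mem_centralizer_iff.2 fun h _ => mul_comm h x)
  obtain ⟨p, hp, hP⟩ : ∃ p : ℕ, p.Prime ∧ IsPGroup p G := by
    by_contra hcon
    push_neg at hcon
    have hz : IsZGroup G := ⟨fun q hq P => hprop P fun htop => hcon q hq (by
      have h2 := P.isPGroup'
      rw [htop] at h2
      exact h2.of_equiv Subgroup.topEquiv)⟩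
    exact hc inferInstance
  haveI : Fact p.Prime := ⟨hp⟩
  have hexp : ∀ x : G, x ^ p = 1 := by
    by_contra hne
    let T : Subgroup G := (powMonoidHom p : G →* G).ker
    have hT : T ≠ ⊤ := by
      intro h
      apply hne
      intro x
      have : x ∈ T := h ▸ Subgroup.mem_top x
      simpa [T] using this
    let R : Subgroup G := (powMonoidHom p : G →* G).range
    have hR : R ≠ ⊤ := by
      intro h
      push_neg at hne
      obtain ⟨x, hx⟩ := hne
      obtain ⟨y, hy⟩ := exists_prime_orderOf_dvd_card' (G := G) p (by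
        rcases (IsPGroup.iff_card.1 hP) with ⟨n, hn⟩
        rw [hn]
        refine dvd_pow_self p ?_
        rintro rfl
        rw [pow_zero] at hn
        haveI := (Nat.card_eq_one_iff_unique.1 hn).1
        exact hx (Subsingleton.elim _ _))
      have hs : Function.Surjective (powMonoidHom p : G →* G) := MonoidHom.range_eq_top.1 h
      have hi : Function.Injective (powMonoidHom p : G →* G) := Finite.injective_iff_surjective.2 hs
      have hy1 : y = 1 := hi (by simp [← hy, pow_orderOf_eq_one])
      rw [hy1, orderOf_one] at hy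
      exact hp.ne_one hy.symm
    haveI := hprop R hR
    obtain ⟨⟨b, a, hab⟩, hb⟩ := IsCyclic.exists_generator (α := ↥R)
    push_neg at hne
    obtain ⟨x₀, hx₀⟩ := hne
    have hap : a ^ p ≠ 1 := by
      intro h
      apply hx₀
      obtain ⟨i, hi⟩ := Subgroup.mem_zpowers_iff.1 (hb ⟨x₀ ^ p, x₀, rfl⟩)
      have hb1 : b = 1 := by rw [← hab]; simpa using h
      have h2 := congrArg Subtype.val hi
      simp [hb1] at h2
      exact h2.symm
    haveI := hprop T hT
    have hcardT : ∀ U : Subgroup G, U ≤ T → U ≠ ⊥ → U = T := by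
      intro U hU hne'
      have hexpT : Monoid.exponent ↥T ∣ p := Monoid.exponent_dvd_iff_forall_pow_eq_one.2
        (fun t => Subtype.ext (MonoidHom.mem_ker.1 t.2))
      rw [IsCyclic.exponent_eq_card] at hexpT
      refine Subgroup.eq_of_le_of_card_ge hU ?_
      rcases (Nat.dvd_prime hp).1 hexpT with h | h
      · rw [h]; exact Nat.card_pos
      · rcases (Nat.dvd_prime hp).1 (h ▸ Subgroup.card_dvd_of_le hU) with h1 | h1
        · exact absurd (Subgroup.card_eq_one.1 h1) hne'
        · rw [h1, h]
    have hTa : T ≤ Subgroup.zpowers a := by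
      have h1 := hcardT (T ⊓ Subgroup.zpowers a) inf_le_left ?_
      · exact inf_eq_left.1 h1
      obtain ⟨k, hk⟩ := IsPGroup.iff_orderOf.1 hP a
      have hk2 : 1 ≤ k := by
        rcases k with _ | k
        · exfalso; apply hap; rw [pow_zero] at hk; simp [orderOf_eq_one_iff.1 hk]
        · omega
      intro hbot
      have hmem : a ^ p ^ (k - 1) ∈ T ⊓ Subgroup.zpowers a := by
        refine ⟨?_, Subgroup.npow_mem_zpowers a _⟩
        show (a ^ p ^ (k - 1)) ^ p = 1
        rw [← pow_mul, ← pow_succ, Nat.sub_add_cancel hk2, ← hk, pow_orderOf_eq_one]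
      rw [hbot, Subgroup.mem_bot, ← orderOf_dvd_iff_pow_eq_one, hk,
        Nat.pow_dvd_pow_iff_le_right hp.one_lt] at hmem
      omega
    apply hc
    refine ⟨a, fun x => ?_⟩
    obtain ⟨i, hi⟩ := Subgroup.mem_zpowers_iff.1 (hb ⟨x ^ p, x, rfl⟩)
    have h2 : b ^ i = x ^ p := congrArg Subtype.val hi
    have hmem : x * (a ^ i)⁻¹ ∈ T := by
      show (x * (a ^ i)⁻¹) ^ p = 1
      rw [mul_pow, inv_pow, ← h2, ← hab]
      simp [← zpow_natCast, ← zpow_mul, mul_comm]
    exact Subgroup.mem_zpowers_iff.1 (by
      simpa using Subgroup.mul_mem _ (hTa hmem) (Subgroup.zpow_mem_zpowers a i))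
  obtain ⟨n, hn⟩ := IsPGroup.iff_card.1 hP
  have hn2 : 2 ≤ n := by
    by_contra hlt
    apply hc
    have h1 : Nat.card G ∣ p := by
      rw [hn]
      rcases n with _ | _ | n
      · simp
      · simp
      · omega
    rcases (Nat.dvd_prime hp).1 h1 with h | h
    · haveI := (Nat.card_eq_one_iff_unique.1 h).1
      exact isCyclic_of_subsingleton
    · exact isCyclic_of_prime_card h
  have hexpG : Monoid.exponent G ∣ p := Monoid.exponent_dvd_iff_forall_pow_eq_one.2 hexp
  refine ⟨p, hp, ?_, ?_⟩
  · obtain ⟨H, hH⟩ := Sylow.exists_subgroup_card_pow_prime (G := G) p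
      (n := 2) (hn ▸ pow_dvd_pow p hn2)
    have hHtop : H = ⊤ := by
      by_contra hne
      haveI := hprop H hne
      have h1 : Monoid.exponent ↥H ∣ p := Monoid.exponent_dvd_iff_forall_pow_eq_one.2
        (fun t => Subtype.ext (by simpa using hexp t))
      rw [IsCyclic.exponent_eq_card, hH] at h1
      have := Nat.le_of_dvd hp.pos h1
      nlinarith [hp.two_le]
    rw [hHtop, Subgroup.card_top] at hH
    exact hH
  · rcases (Nat.dvd_prime hp).1 hexpG with h | h
    · exfalso
      haveI := Monoid.exp_eq_one_iff.1 h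
      exact hc isCyclic_of_subsingleton
    · exact h

end Cfsg.Agent.S3917
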