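import Cfsg.Statements.S3919
import Cfsg.Agent.Lib.SelfCentNC.Basic
import Cfsg.Agent.EqLemmas

set_option autoImplicit false
open Cfsg

namespace Cfsg.Agent.S3919

/-- Say that a group has self-centralizing non-cyclic subgroups when every non-cyclic subgroup H satisfies C_G(H) ≤ H. A finite non-abelian 2-group G of order 2^n has self-centralizing non-cyclic subgroups if and only if G has nilpotency class n − 1 (that is, G is dihedral, semidihedral or generalized quaternion). -/
theorem result {G : Type*} [Group G] [Finite G] (hna : ¬ IsMulCommutative G) (n : ℕ) (hG : Nat.card G = 2 ^ n) :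
    (∀ H : Subgroup G, ¬ IsCyclic ↥H → Subgroup.centralizer (H : Set G) ≤ H) ↔ (⊤ : Subgroup G).lowerCentralSeries (n - 2) ≠ ⊥ := by
  have : Fact (Nat.Prime 2) := ⟨Nat.prime_two⟩
  have hn := Cfsg.Agent.SelfCentNC.three_le_exponent hna hG
  have := (IsPGroup.of_card hG : IsPGroup 2 G).isNilpotent
  constructor
  · intro h hbot
    have h1 := Cfsg.Agent.SelfCentNC.class_of_sc hna hG h
    have h2 : Group.nilpotencyClass G ≤ n - 2 := Subgroup.lowerCentralSeries_eq_bot_iff_nilpotencyClass_le.1 hbot
    omega
  · intro h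
    refine Cfsg.Agent.SelfCentNC.sc_of_class hn hna hG ?_
    have h2 : ¬ Group.nilpotencyClass G ≤ n - 2 := fun h2 =>
      h (Subgroup.lowerCentralSeries_eq_bot_iff_nilpotencyClass_le.2 h2)
    have h3 : Group.nilpotencyClass G ≤ max 1 (n - 1) := Cfsg.Agent.SelfCentNC.class_le_of_card n G hG
    omega

end Cfsg.Agent.S3919
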