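import Cfsg.Statements.S3947
import Cfsg.Agent.EqLemmas
import Cfsg.Agent.Lib.Zipper.General

set_option autoImplicit false
open Cfsg

namespace Cfsg.Agent.S3947

/-- The proper subgroups containing `A` that are generated by their own conjugates of `A`. -/
def Members {G : Type*} [Group G] (A : Subgroup G) : Set (Subgroup G) :=
  {H : Subgroup G | A ≤ H ∧ H ≠ ⊤ ∧ Subgroup.normalClosure ((A.subgroupOf H : Subgroup ↥H) : Set ↥H) = ⊤}

theorem unique_maximal {G : Type*} [Group G] [Finite G] (A : Subgroup G)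
    (hA : Subgroup.normalClosure (A : Set G) = ⊤) (hAG : A ≠ ⊤) (hY : sSup (Members A) ≠ ⊤) :
    ∀ L₁ L₂ : Subgroup G, IsCoatom L₁ → IsCoatom L₂ → A ≤ L₁ → A ≤ L₂ → L₁ = L₂ := by
  induction A using WellFoundedGT.induction with
  | ind A ih =>
  obtain ⟨M₀, hM₀, hYM₀⟩ := (eq_top_or_exists_le_coatom _).resolve_left hY
  refine Cfsg.Agent.Zipper.unique_maximal_of_one_exception A hA hAG M₀ fun L hL hAL hne => ?_
  -- the smallest subnormal subgroup of `L` over `A`
  obtain ⟨K, hKmin, ⟨hAK, hKL, hKsn⟩, hmin⟩ := exists_minimal_le_of_wellFoundedLT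
    (fun K : Subgroup G => A ≤ K ∧ K ≤ L ∧ (K.subgroupOf L).IsSubnormal) L ⟨hAL, le_rfl, by simp⟩
  have hKmem : K ∈ Members A := by
    refine ⟨hAK, fun h => hL.1 (top_le_iff.1 (h ▸ hKL)), ?_⟩
    set N := Subgroup.normalClosure ((A.subgroupOf K : Subgroup ↥K) : Set ↥K)
    have hNn : N.Normal := Subgroup.normalClosure_normal
    have hN : A ≤ N.map K.subtype := fun a ha =>
      ⟨⟨a, hAK ha⟩, Subgroup.le_normalClosure ha, rfl⟩
    have hsn : ((N.map K.subtype).subgroupOf L).IsSubnormal := by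
      refine Subgroup.IsSubnormal.step _ (K.subgroupOf L) ?_ hKsn ?_
      · exact Subgroup.comap_mono (Subgroup.map_subtype_le N)
      · refine ⟨fun x hx y => ?_⟩
        obtain ⟨n, hn, hnx⟩ := Subgroup.mem_map.1 (Subgroup.mem_subgroupOf.1 hx)
        refine Subgroup.mem_map.2 ⟨⟨_, y.2⟩ * n * ⟨_, y.2⟩⁻¹, hNn.conj_mem n hn _, ?_⟩
        have hnx' : (n : G) = _ := hnx
        simp [hnx']
    have hle : K ≤ N.map K.subtype :=
      hmin ⟨hN, (Subgroup.map_subtype_le N).trans hKL, hsn⟩ (Subgroup.map_subtype_le N)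
    rw [eq_top_iff]
    intro x _
    obtain ⟨y, hy, hyx⟩ := Subgroup.mem_map.1 (hle x.2)
    exact Subtype.ext hyx ▸ hy
  by_cases hKA : K = A
  · exact hKA ▸ hKsn
  exfalso
  apply hne
  have hlt : A < K := lt_of_le_of_ne hAK (Ne.symm hKA)
  have hmem : Members K ⊆ Members A := by
    rintro H ⟨hKH, hH, hcl⟩
    refine ⟨hAK.trans hKH, hH, ?_⟩
    rw [eq_top_iff, ← hcl]
    refine Subgroup.normalClosure_le_normal ?_
    intro x hx
    -- `K` is generated by its conjugates of `A`, which are conjugates in `H`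
    let f : ↥K →* ↥H := Subgroup.inclusion hKH
    have hle : Subgroup.normalClosure ((A.subgroupOf K : Subgroup ↥K) : Set ↥K) ≤
        (Subgroup.normalClosure ((A.subgroupOf H : Subgroup ↥H) : Set ↥H)).comap f :=
      Subgroup.normalClosure_le_normal fun a ha => Subgroup.le_normalClosure (show (a : G) ∈ A from ha)
    have h2 := hle (hKmem.2.2 ▸ Subgroup.mem_top (⟨(x : G), hx⟩ : ↥K))
    exact h2
  refine ih K hlt ?_ hKmem.2.1 ?_ L M₀ hL hM₀ hKL ((le_sSup hKmem).trans hYM₀)
  · rw [eq_top_iff, ← hA]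
    exact Subgroup.normalClosure_mono hAK
  · exact fun h => hY (top_le_iff.1 (h ▸ sSup_le_sSup hmem))


/-- Let G be a finite group and A a proper subgroup of G whose normal closure is G. Let Y be the join of all proper subgroups H of G that contain A and are generated by their own conjugates of A (the normal closure of A in H is H). Then either Y = G, or A is contained in exactly one maximal subgroup of G. -/
theorem result {G : Type*} [Group G] [Finite G] (A : Subgroup G) (hA : Subgroup.normalClosure (A : Set G) = ⊤) (hAG : A ≠ ⊤) :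
    sSup {H : Subgroup G | A ≤ H ∧ H ≠ ⊤ ∧ Subgroup.normalClosure ((A.subgroupOf H : Subgroup ↥H) : Set ↥H) = ⊤} = ⊤ ∨
      ∃! M : Subgroup G, IsCoatom M ∧ A ≤ M := by
  by_cases hY : sSup (Members A) = ⊤
  · exact Or.inl hY
  refine Or.inr ?_
  obtain ⟨M, hM, hAM⟩ := (eq_top_or_exists_le_coatom A).resolve_left hAG
  exact ⟨M, ⟨hM, hAM⟩, fun L hL => unique_maximal A hA hAG hY L M hL.1 hM hL.2 hAM⟩

end Cfsg.Agent.S3947
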