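import Cfsg.Statements.S3927
import Cfsg.Agent.EqLemmas
import Cfsg.Agent.S3947
import Cfsg.Agent.Lib.Zipper.General

set_option autoImplicit false
open Cfsg
open scoped Pointwise

namespace Cfsg.Agent.S3927

universe w

variable {G : Type w} [Group G]

/-- The commutation map of an automorphism. -/
def comm (α : MulAut G) : G → G := fun c => c * (α c)⁻¹

theorem comm_iterate_apply (α : MulAut G) (k : ℕ) (c : G) : α ((comm α)^[k] c) = (comm α)^[k] (α c) := by
  induction k generalizing c with
  | zero => rfl
  | succ k ih =>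
    rw [Function.iterate_succ_apply, Function.iterate_succ_apply, ih]
    congr 1
    simp [comm]

/-- The subgroup generated by a set invariant under an automorphism is invariant. -/
theorem closure_invariant (α : MulAut G) (s : Set G) (hs : ∀ x ∈ s, α x ∈ s) :
    ∀ x ∈ Subgroup.closure s, α x ∈ Subgroup.closure s :=
  fun x hx => (Subgroup.closure_le ((Subgroup.closure s).comap α.toMonoidHom)).2
    (fun y hy => Subgroup.subset_closure (hs y hy)) hx

/-- The group extended by the cyclic group generated by `α`. -/
abbrev Ext (α : MulAut G) : Type w := G ⋊[(Subgroup.zpowers α).subtype] ↥(Subgroup.zpowers α)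

/-- The subgroup generated by `Q` and `α`, for an invariant subgroup `Q`. -/
theorem mem_product [Finite G] (α : MulAut G) (Q : Subgroup G) (hQ : ∀ x ∈ Q, α x ∈ Q) :
    ∀ x : Ext α, x ∈ Q.map SemidirectProduct.inl ⊔
        (SemidirectProduct.inr : ↥(Subgroup.zpowers α) →* Ext α).range → x.left ∈ Q := by
  have hpow : ∀ (n : ℕ) (x : G), x ∈ Q → (α ^ n) x ∈ Q := by
    intro n
    induction n with
    | zero => intro x hx; simpa using hx
    | succ n ih => intro x hx; rw [pow_succ]; exact ih _ (hQ x hx)
  have hinv : ∀ β : ↥(Subgroup.zpowers α), ∀ x ∈ Q, (β : MulAut G) x ∈ Q := by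
    rintro ⟨β, hβ⟩ x hx
    haveI : Finite (MulAut G) := Finite.of_injective (fun φ => (φ : G → G)) fun a b h => MulEquiv.ext (congrFun h)
    obtain ⟨n, rfl⟩ := (mem_powers_iff_mem_zpowers.2 hβ)
    exact hpow n x hx
  let S : Subgroup (Ext α) :=
    { carrier := {x | x.left ∈ Q}
      one_mem' := by simp
      mul_mem' := fun {a b} ha hb => by
        show (a * b).left ∈ Q
        rw [SemidirectProduct.mul_left]
        exact Q.mul_mem ha (hinv _ _ hb)
      inv_mem' := fun {a} ha => by
        show a⁻¹.left ∈ Q
        rw [SemidirectProduct.inv_left]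
        exact hinv a.right⁻¹ _ (Q.inv_mem ha) }
  have hle : Q.map SemidirectProduct.inl ⊔
      (SemidirectProduct.inr : ↥(Subgroup.zpowers α) →* Ext α).range ≤ S := by
    refine sup_le ?_ ?_
    · rintro _ ⟨q, hq, rfl⟩
      exact hq
    · rintro _ ⟨β, rfl⟩
      exact Q.one_mem
  exact fun x hx => hle hx

theorem iterate_generates_aux (n : ℕ) : ∀ {G : Type w} [Group G] [Finite G], Nat.card G = n →
    ∀ α : MulAut G, Subgroup.closure (Set.range (comm α)) = ⊤ → ∀ k : ℕ,
      Subgroup.closure (Set.range ((comm α)^[k])) = ⊤ := by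
  induction n using Nat.strong_induction_on with
  | _ n ih =>
  intro G _ _ hn α hG k
  rcases subsingleton_or_nontrivial G with hsub | hnt
  · exact Subsingleton.elim _ _
  haveI : Finite (MulAut G) := Finite.of_injective (fun φ => (φ : G → G)) fun a b h => MulEquiv.ext (congrFun h)
  haveI : Finite (Ext α) := Finite.of_equiv _ SemidirectProduct.equivProd.symm
  set Q := Subgroup.closure (Set.range ((comm α)^[k]))
  have hQ : ∀ x ∈ Q, α x ∈ Q := closure_invariant α _ (by
    rintro _ ⟨c, rfl⟩
    exact ⟨α c, (comm_iterate_apply α k c).symm⟩)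
  let t : Ext α := SemidirectProduct.inr ⟨α, Subgroup.mem_zpowers α⟩
  let A : Subgroup (Ext α) := (SemidirectProduct.inr : ↥(Subgroup.zpowers α) →* Ext α).range
  have htA : t ∈ A := ⟨_, rfl⟩
  have hcomm : ∀ c : G, SemidirectProduct.inl (comm α c) =
      SemidirectProduct.inl c * t * (SemidirectProduct.inl c)⁻¹ * t⁻¹ := by
    intro c
    have h1 := SemidirectProduct.inl_aut (φ := (Subgroup.zpowers α).subtype)
      ⟨α, Subgroup.mem_zpowers α⟩ c⁻¹
    simp only [Subgroup.coe_subtype, map_inv] at h1
    rw [comm, map_mul, map_inv, h1]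
    simp [t, mul_assoc]
  have hAG : Subgroup.normalClosure (A : Set (Ext α)) = ⊤ := by
    rw [eq_top_iff]
    intro x _
    rw [← SemidirectProduct.inl_left_mul_inr_right x]
    refine Subgroup.mul_mem _ ?_ (Subgroup.le_normalClosure ⟨_, rfl⟩)
    have h1 : Subgroup.closure (Set.range (comm α)) ≤
        (Subgroup.normalClosure (A : Set (Ext α))).comap SemidirectProduct.inl := by
      refine (Subgroup.closure_le _).2 ?_
      rintro _ ⟨c, rfl⟩
      rw [Subgroup.coe_comap, Set.mem_preimage, SetLike.mem_coe, hcomm]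
      exact Subgroup.mul_mem _
        (Subgroup.normalClosure_normal.conj_mem _ (Subgroup.le_normalClosure htA) _)
        (Subgroup.inv_mem _ (Subgroup.le_normalClosure htA))
    exact h1 (hG ▸ Subgroup.mem_top _)
  have hAne : A ≠ ⊤ := by
    intro h
    obtain ⟨g, hg⟩ := exists_ne (1 : G)
    apply hg
    obtain ⟨β, hβ⟩ := h ▸ Subgroup.mem_top (SemidirectProduct.inl g : Ext α)
    simpa using (congrArg SemidirectProduct.left hβ).symm
  set J := Q.map SemidirectProduct.inl ⊔ A
  by_contra hne
  have hJ : J ≠ ⊤ := fun h => hne (eq_top_iff.2 fun g _ => by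
    simpa using mem_product α Q hQ (SemidirectProduct.inl g)
      (h ▸ Subgroup.mem_top _ : SemidirectProduct.inl g ∈ J))
  rcases Cfsg.Agent.S3947.result A hAG hAne with hY | ⟨M, ⟨hM, hAM⟩, huniq⟩
  · apply hJ
    rw [eq_top_iff, ← hY]
    refine sSup_le ?_
    rintro H ⟨hAH, hH, hcl⟩
    set G₁ := H.comap (SemidirectProduct.inl : G →* Ext α)
    have htH : t ∈ H := hAH htA
    have hG₁ : ∀ x ∈ G₁, α x ∈ G₁ := by
      intro x hx
      show SemidirectProduct.inl (α x) ∈ H
      have h1 := SemidirectProduct.inl_aut (φ := (Subgroup.zpowers α).subtype)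
        ⟨α, Subgroup.mem_zpowers α⟩ x
      simp only [Subgroup.coe_subtype] at h1
      rw [h1]
      exact H.mul_mem (H.mul_mem htH hx) (hAH ⟨_, rfl⟩)
    have hG₁inv : ∀ x ∈ G₁, α.symm x ∈ G₁ := by
      intro x hx
      have hpow : ∀ (i : ℕ), (α ^ i) x ∈ G₁ := by
        intro i
        induction i with
        | zero => simpa using hx
        | succ i ihi => rw [pow_succ']; exact hG₁ _ ihi
      have hi : α⁻¹ = α ^ (orderOf α - 1) := by
        apply inv_eq_of_mul_eq_one_right
        rw [← pow_succ', Nat.sub_add_cancel (orderOf_pos α), pow_orderOf_eq_one]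
      have h2 := hpow (orderOf α - 1)
      rw [← hi] at h2
      exact h2
    let β : MulAut ↥G₁ :=
      { toFun := fun x => ⟨α x, hG₁ x x.2⟩
        invFun := fun x => ⟨α.symm x, hG₁inv x x.2⟩
        left_inv := fun x => Subtype.ext (by simp)
        right_inv := fun x => Subtype.ext (by simp)
        map_mul' := fun x y => Subtype.ext (map_mul α _ _) }
    have hval : ∀ (i : ℕ) (x : ↥G₁), (((comm β)^[i] x : ↥G₁) : G) = (comm α)^[i] (x : G) := by
      intro i
      induction i with
      | zero => intro x; rfl
      | succ i ihi => intro x; rw [Function.iterate_succ_apply, Function.iterate_succ_apply, ihi]; rfl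
    -- `G₁` is generated by its commutators with `α`
    set Q₂ := (Subgroup.closure (Set.range (comm β))).map G₁.subtype
    have hQ₂ : ∀ x ∈ Q₂, α x ∈ Q₂ := by
      rintro _ ⟨y, hy, rfl⟩
      exact ⟨β y, closure_invariant β _ (by
        rintro _ ⟨c, rfl⟩
        exact ⟨β c, by simp [comm]⟩) y hy, rfl⟩
    have hHsub : H ≤ Q₂.map SemidirectProduct.inl ⊔ A := by
      set P := Q₂.map SemidirectProduct.inl ⊔ A
      have hcj : ∀ h ∈ H, h * t * h⁻¹ ∈ P := by
        intro h hh
        have hl : h.left ∈ G₁ := by
          show SemidirectProduct.inl h.left ∈ H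
          have e : SemidirectProduct.inl h.left = h * (SemidirectProduct.inr h.right)⁻¹ :=
            eq_mul_inv_of_mul_eq (SemidirectProduct.inl_left_mul_inr_right h)
          rw [e]
          exact H.mul_mem hh (H.inv_mem (hAH ⟨_, rfl⟩))
        have hct : (SemidirectProduct.inr h.right : Ext α) * t * (SemidirectProduct.inr h.right)⁻¹ = t := by
          rw [← map_inv, ← map_mul, ← map_mul]
          congr 1
          apply Subtype.ext
          obtain ⟨i, hi⟩ := Subgroup.mem_zpowers_iff.1 h.right.2
          simp only [Subgroup.coe_mul, InvMemClass.coe_inv, ← hi]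
          group
        have e : h * t * h⁻¹ = SemidirectProduct.inl (comm α h.left) * t := by
          conv_lhs => rw [← SemidirectProduct.inl_left_mul_inr_right h]
          rw [hcomm, inv_mul_cancel_right, mul_inv_rev]
          calc SemidirectProduct.inl h.left * SemidirectProduct.inr h.right * t *
              ((SemidirectProduct.inr h.right)⁻¹ * (SemidirectProduct.inl h.left)⁻¹)
              = SemidirectProduct.inl h.left * (SemidirectProduct.inr h.right * t *
                (SemidirectProduct.inr h.right)⁻¹) * (SemidirectProduct.inl h.left)⁻¹ := by group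
            _ = _ := by rw [hct]
        rw [e]
        exact Subgroup.mul_mem_sup (Subgroup.mem_map_of_mem _
          ⟨_, Subgroup.subset_closure ⟨⟨h.left, hl⟩, rfl⟩, rfl⟩) htA
      intro x hx
      have hall : Subgroup.normalClosure ((A.subgroupOf H : Subgroup ↥H) : Set ↥H) ≤ P.subgroupOf H := by
        refine (Subgroup.closure_le _).2 ?_
        intro y hy
        obtain ⟨a, ha, hay⟩ := Group.mem_conjugatesOfSet_iff.1 hy
        obtain ⟨c, hc⟩ := isConj_iff.1 hay
        obtain ⟨γ, hγ'⟩ := (ha : (a : Ext α) ∈ A)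
        have hγ : SemidirectProduct.inr γ = (a : Ext α) := hγ'
        obtain ⟨i, hi⟩ := Subgroup.mem_zpowers_iff.1 γ.2
        have hat : (a : Ext α) = t ^ i := by
          rw [← hγ, ← map_zpow]
          congr 1
          exact Subtype.ext hi.symm
        show (y : Ext α) ∈ P
        rw [← hc]
        simp only [Subgroup.coe_mul, InvMemClass.coe_inv, hat, ← conj_zpow]
        exact P.zpow_mem (hcj c c.2) i
      exact hall (hcl ▸ Subgroup.mem_top (⟨x, hx⟩ : ↥H))
    have hgen : Subgroup.closure (Set.range (comm β)) = ⊤ := by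
      rw [eq_top_iff]
      intro x _
      have h1 := mem_product α Q₂ hQ₂ (SemidirectProduct.inl (x : G)) (hHsub x.2)
      obtain ⟨y, hy, hyx⟩ : (x : G) ∈ Q₂ := by simpa using h1
      exact Subtype.ext hyx ▸ hy
    have hlt : Nat.card ↥G₁ < n := by
      rw [← hn]
      refine lt_of_le_of_ne (Subgroup.card_le_card_group G₁) fun hc => hH ?_
      have htop : G₁ = ⊤ := Subgroup.eq_top_of_card_eq _ hc
      rw [eq_top_iff]
      intro x _
      rw [← SemidirectProduct.inl_left_mul_inr_right x]
      exact H.mul_mem (htop ▸ Subgroup.mem_top x.left : x.left ∈ G₁) (hAH ⟨_, rfl⟩)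
    have hind := ih _ hlt rfl β hgen k
    refine hHsub.trans (sup_le ?_ le_sup_right)
    rintro _ ⟨_, ⟨y, -, rfl⟩, rfl⟩
    refine Subgroup.mem_sup_left (Subgroup.mem_map_of_mem _ ?_)
    have h2 : Subgroup.closure (Set.range ((comm β)^[k])) ≤ Q.comap G₁.subtype := by
      refine (Subgroup.closure_le _).2 ?_
      rintro _ ⟨c, rfl⟩
      exact Subgroup.subset_closure ⟨(c : G), (hval k c).symm⟩
    exact h2 (hind ▸ Subgroup.mem_top y)
  · have hMN : Subgroup.normalizer (M : Set (Ext α)) = M :=
      Cfsg.Agent.Zipper.normalizer_coatom_eq hAG hM hAM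
    have hout : ∀ g : G, SemidirectProduct.inl g ∉ M → SemidirectProduct.inl (comm α g) ∉ M := by
      intro g hg hc
      apply hg
      have h1 : SemidirectProduct.inl g * t * (SemidirectProduct.inl g)⁻¹ ∈ M := by
        have := M.mul_mem hc (hAM htA)
        rwa [hcomm, inv_mul_cancel_right] at this
      have h2 : A ≤ MulAut.conj (SemidirectProduct.inl g : Ext α)⁻¹ • M := by
        rintro _ ⟨γ, rfl⟩
        obtain ⟨i, hi⟩ := Subgroup.mem_zpowers_iff.1 γ.2
        have hat : (SemidirectProduct.inr γ : Ext α) = t ^ i := by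
          rw [← map_zpow]
          congr 1
          exact Subtype.ext hi.symm
        rw [hat, Cfsg.Agent.Cores.mem_conj_smul, inv_inv, ← conj_zpow]
        exact M.zpow_mem h1 i
      have h3 := huniq _ ⟨Cfsg.Agent.Zipper.isCoatom_conj_smul hM _, h2⟩
      rw [Cfsg.Agent.Cores.conj_smul_eq_self_iff, hMN] at h3
      simpa using M.inv_mem h3
    obtain ⟨g, hg⟩ : ∃ g : G, SemidirectProduct.inl g ∉ M := by
      by_contra hall
      push Not at hall
      apply hM.1
      rw [eq_top_iff]
      intro x _
      rw [← SemidirectProduct.inl_left_mul_inr_right x]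
      exact M.mul_mem (hall _) (hAM ⟨_, rfl⟩)
    have hit : ∀ i : ℕ, SemidirectProduct.inl ((comm α)^[i] g) ∉ M := by
      intro i
      induction i with
      | zero => exact hg
      | succ i ihi => rw [Function.iterate_succ_apply']; exact hout _ ihi
    obtain ⟨L, hL, hJL⟩ := (eq_top_or_exists_le_coatom J).resolve_left hJ
    apply hit k
    rw [← huniq L ⟨hL, le_sup_right.trans hJL⟩]
    exact hJL (Subgroup.mem_sup_left (Subgroup.mem_map_of_mem _ (Subgroup.subset_closure ⟨g, rfl⟩)))

theorem iterate_generates [Finite G] (α : MulAut G) (hG : Subgroup.closure (Set.range (comm α)) = ⊤)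
    (k : ℕ) : Subgroup.closure (Set.range ((comm α)^[k])) = ⊤ :=
  iterate_generates_aux (Nat.card G) rfl α hG k


/-- Let G be a finite group and α an automorphism of G with [G, α] = G, that is, the elements g·α(g)⁻¹ generate G. Then for every k ≥ 1 the iterated commutators [g, α, …, α] with k entries α — the values of the k-th iterate of the map c ↦ c·α(c)⁻¹ — also generate G. -/
theorem result {G : Type*} [Group G] [Finite G] (α : MulAut G) (hG : Subgroup.closure (Set.range (fun c : G => c * (α c)⁻¹)) = ⊤) (k : ℕ) (hk : 1 ≤ k) :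
    Subgroup.closure (Set.range ((fun c : G => c * (α c)⁻¹)^[k])) = ⊤ := by
  exact iterate_generates α hG k

end Cfsg.Agent.S3927
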