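import Cfsg.Statements.S3928
import Cfsg.Agent.S3927
import Cfsg.Agent.Lib.InvertedOdd.Main
-- import your own Cfsg.Agent.* helpers here

set_option autoImplicit false
open Cfsg

namespace Cfsg.Agent.S3928

/-- There is a function f such that for every non-trivial finite group G and every automorphism α of G of order 2 with [G, α] = G (the elements g·α(g)⁻¹ generate G), the order of G is at most f(m), where m is the number of elements of odd order inverted by α. -/
theorem result : ∃ f : ℕ → ℕ, ∀ (G : Type) [Group G] [Finite G] [Nontrivial G] (α : MulAut G), orderOf α = 2 →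
    Subgroup.closure (Set.range (fun c : G => c * (α c)⁻¹)) = ⊤ →
      Nat.card G ≤ f (Nat.card {g : G // Odd (orderOf g) ∧ α g = g⁻¹}) := by
  choose f hf using fun m => Cfsg.Agent.InvertedOdd.order_bound.{0} m
  refine ⟨f, fun G _ _ _ α hα hG => ?_⟩
  have hsq : α * α = 1 := by rw [← pow_two, ← hα, pow_orderOf_eq_one]
  refine hf _ G α hsq ?_ le_rfl
  -- iterated commutators of large depth have odd order
  obtain ⟨k, o, ho, hk⟩ := Nat.exists_eq_two_pow_mul_odd (Nat.card_pos (α := G)).ne'
  rw [eq_top_iff, ← Cfsg.Agent.S3927.result α hG (k + 1) (Nat.succ_pos k)]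
  refine (Subgroup.closure_le _).2 ?_
  rintro _ ⟨c, rfl⟩
  refine Subgroup.subset_closure ?_
  set x := c * (α c)⁻¹ with hx
  have hxinv : α x = x⁻¹ := by
    rw [hx, map_mul, map_inv, Cfsg.Agent.InvertedOdd.apply_apply hsq, mul_inv_rev, inv_inv]
  have hit : ∀ i : ℕ, (fun c : G => c * (α c)⁻¹)^[i + 1] c = x ^ (2 ^ i) := by
    intro i
    induction i with
    | zero => simp [hx]
    | succ i ih =>
      rw [Function.iterate_succ_apply', ih]
      show x ^ 2 ^ i * (α (x ^ 2 ^ i))⁻¹ = _
      rw [map_pow, hxinv, inv_pow, inv_inv, ← pow_add, pow_succ, mul_two]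
  rw [hit k]
  refine ⟨ho.of_dvd_nat (orderOf_dvd_of_pow_eq_one ?_), by rw [map_pow, hxinv, inv_pow]⟩
  rw [← pow_mul, ← hk, pow_card_eq_one']

end Cfsg.Agent.S3928
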