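import Cfsg.Statements.S3930
import Cfsg.Agent.Lib.Pyramidal.Witness
import Cfsg.Agent.Lib.Pyramidal.Main

set_option autoImplicit false
open Cfsg

namespace Cfsg.Agent.S3930

/-- Call a finite group m-pyramidal when it has exactly m involutions and they form a single conjugacy class. Let p be an odd prime and k ≥ 1. Then every p^k-pyramidal finite group is solvable if and only if k is odd or p^k = 9. -/
theorem result (p k : ℕ) (hp : p.Prime) (hp2 : p ≠ 2) (hk : 1 ≤ k) :
    (∀ (G : Type) [Group G] [Finite G], Nat.card {x : G // orderOf x = 2} = p ^ k →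
      (∀ x y : G, orderOf x = 2 → orderOf y = 2 → ∃ g : G, g * x * g⁻¹ = y) → Group.IsSolvable G) ↔ (Odd k ∨ p ^ k = 9) := by
  refine ⟨fun h => ?_, fun hk' G _ _ hcard hconj => Pyramidal.isSolvable_of_class hp hp2 hk' hcard hconj⟩
  by_contra hcon
  rw [not_or, Nat.not_odd_iff_even] at hcon
  obtain ⟨⟨j, rfl⟩, h9⟩ := hcon
  have hp3 : 3 ≤ p := by have := hp.two_le; omega
  have hj : 1 ≤ j := by omega
  have h4 : 4 ≤ p ^ j := by
    by_cases hj1 : j = 1
    · subst hj1
      rw [pow_one]
      by_contra h3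
      obtain rfl : p = 3 := by omega
      exact h9 (by norm_num)
    · calc 4 ≤ 3 ^ 2 := by norm_num
        _ ≤ p ^ 2 := Nat.pow_le_pow_left hp3 2
        _ ≤ p ^ j := Nat.pow_le_pow_right hp.pos (by omega)
  obtain ⟨G, _, _, hcard, hconj, hns⟩ := Pyramidal.exists_not_solvable hp hp2 hj h4
  rw [two_mul] at hcard
  exact hns (h G hcard hconj)

end Cfsg.Agent.S3930
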