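import Cfsg.Statements.S3933
import Cfsg.Agent.S0144
import Cfsg.Agent.Lib.SylowCount.Basic
import Cfsg.Agent.Lib.Solvable.SylowSystem
import Cfsg.Agent.Lib.OddUse.Hyp

set_option autoImplicit false
open Cfsg

namespace Cfsg.Agent.S3933

section Helpers

universe u

open Subgroup

/-- every Sylow number is 1 or a prime power -/
def PowCount (G : Type*) [Group G] : Prop :=
  ∀ (r : ℕ) [Fact r.Prime], Nat.card (Sylow r G) = 1 ∨ IsPrimePow (Nat.card (Sylow r G))

theorem of_dvd {a b : ℕ} (hb : b = 1 ∨ IsPrimePow b) (h : a ∣ b) : a = 1 ∨ IsPrimePow a := by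
  rcases hb with rfl | hb
  · exact Or.inl (Nat.dvd_one.1 h)
  · by_cases ha : a = 1
    · exact Or.inl ha
    · exact Or.inr (hb.dvd h ha)

theorem PowCount.quotient {G : Type*} [Group G] [Finite G] (h : PowCount G) (N : Subgroup G) [N.Normal] :
    PowCount (G ⧸ N) := fun r _ => by
  obtain ⟨P⟩ : Nonempty (Sylow r G) := inferInstance
  exact of_dvd (h r) ⟨_, SylowCount.card_sylow_eq_quotient_mul N P⟩

theorem PowCount.normal {G : Type*} [Group G] [Finite G] (h : PowCount G) (N : Subgroup G) [N.Normal] :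
    PowCount N := fun r _ => by
  obtain ⟨R⟩ : Nonempty (Sylow r N) := inferInstance
  obtain ⟨P, hP⟩ := R.exists_comap_subtype_eq
  refine of_dvd (h r) ?_
  have h1 : Nat.card (Sylow r N) ∣ (normalizer ((P : Subgroup G) : Set G)).relIndex N := by
    rw [Sylow.card_eq_index_normalizer R]
    refine index_dvd_of_le fun x hx => mem_normalizer_iff.2 fun y => ?_
    rw [mem_subgroupOf] at hx
    rw [← hP]
    exact mem_normalizer_iff.1 hx y
  exact h1.trans ⟨_, (SylowCount.card_sylow_eq_quotient_mul N P).trans (by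
    rw [SylowCount.card_sylow_sup_eq, mul_comm])⟩

/-- the primes `t, r` cannot both miss the Sylow number of `s`, if `r` is the prime of that of `t` -/
theorem false_of_pair {G : Type*} [Group G] [Finite G] [IsSimpleGroup G] {t r s : ℕ} [Fact t.Prime]
    [Fact r.Prime] [Fact s.Prime] (htG : t ∣ Nat.card G) (hs1 : Nat.card (Sylow s G) ≠ 1)
    (hqt : ∀ l : ℕ, l.Prime → l ∣ Nat.card (Sylow t G) → l = r)
    (hts : ¬ t ∣ Nat.card (Sylow s G)) (hrs : ¬ r ∣ Nat.card (Sylow s G)) : False := by
  obtain ⟨S⟩ : Nonempty (Sylow s G) := inferInstance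
  set X : Subgroup G := normalizer ((S : Subgroup G) : Set G) with hX
  have hXi : X.index = Nat.card (Sylow s G) := (Sylow.card_eq_index_normalizer S).symm
  have hfull : ∀ (l : ℕ) [Fact l.Prime], ¬ l ∣ Nat.card (Sylow s G) → ∃ L : Sylow l G, (L : Subgroup G) ≤ X := by
    intro l _ hl
    obtain ⟨Q⟩ : Nonempty (Sylow l X) := inferInstance
    refine ⟨(Q.2.map X.subtype).toSylow ?_, map_subtype_le _⟩
    rw [index_map_subtype]
    exact fun hd => ((Fact.out : l.Prime).dvd_mul.1 hd).elim Q.not_dvd_index (hXi ▸ hl)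
  obtain ⟨T, hT⟩ := hfull t hts
  obtain ⟨R, hR⟩ := hfull r hrs
  have hco : ((R : Subgroup G).index).Coprime (normalizer ((T : Subgroup G) : Set G)).index := by
    refine Nat.coprime_of_dvd fun l hl h1 h2 => ?_
    obtain rfl := hqt l hl (Sylow.card_eq_index_normalizer T ▸ h2)
    exact R.not_dvd_index h1
  have hle : Subgroup.normalClosure ((T : Subgroup G) : Set G) ≤ X := by
    refine (closure_le _).2 fun w hw => ?_
    obtain ⟨y, hy, hc⟩ := Group.mem_conjugatesOfSet_iff.1 hw
    obtain ⟨g, rfl⟩ := isConj_iff.1 hc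
    obtain ⟨x, hx, k, hk, rfl⟩ := Solvable.exists_mul_of_coprime_index hco.symm g
    have h1 := (mem_normalizer_iff.1 hk y).1 hy
    rw [show x * k * y * (x * k)⁻¹ = x * (k * y * k⁻¹) * x⁻¹ by group]
    exact X.mul_mem (X.mul_mem (hR hx) (hT h1)) (X.inv_mem (hR hx))
  rcases (Subgroup.normalClosure_normal (s := ((T : Subgroup G) : Set G))).eq_bot_or_eq_top with hb | ht
  · exact T.ne_bot_of_dvd_card htG (le_bot_iff.1 (hb ▸ subset_normalClosure))
  · rw [ht, top_le_iff] at hle
    exact hs1 (hXi ▸ hle ▸ index_top)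

theorem exists_two_primes {G : Type*} [Group G] [Finite G] (h : (Nat.card G).primeFactors.card ≤ 2) :
    ∃ p q a b : ℕ, p.Prime ∧ q.Prime ∧ Nat.card G = p ^ a * q ^ b := by
  have hn := (Nat.card G).prod_factorization_pow_eq_self Nat.card_pos.ne'
  rw [Finsupp.prod, Nat.support_factorization] at hn
  interval_cases hc : (Nat.card G).primeFactors.card
  · rw [Finset.card_eq_zero.1 hc, Finset.prod_empty] at hn
    exact ⟨2, 3, 0, 0, Nat.prime_two, Nat.prime_three, by rw [← hn]; rfl⟩
  · obtain ⟨p, hp⟩ := Finset.card_eq_one.1 hc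
    rw [hp, Finset.prod_singleton] at hn
    exact ⟨p, 3, (Nat.card G).factorization p, 0, Nat.prime_of_mem_primeFactors (hp ▸ Finset.mem_singleton_self p), Nat.prime_three,
      by rw [pow_zero, mul_one]; exact hn.symm⟩
  · obtain ⟨p, q, hne, hpq⟩ := Finset.card_eq_two.1 hc
    rw [hpq, Finset.prod_pair hne] at hn
    exact ⟨p, q, _, _, Nat.prime_of_mem_primeFactors (hpq ▸ Finset.mem_insert_self p _),
      Nat.prime_of_mem_primeFactors (hpq ▸ Finset.mem_insert_of_mem (Finset.mem_singleton_self q)), hn.symm⟩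

theorem isSolvable_aux (k : ℕ) : ∀ (G : Type u) [Group G] [Finite G],
    Nat.card G = k → PowCount G → Group.IsSolvable G := by
  induction k using Nat.strong_induction_on with
  | _ k ih =>
    intro G _ _ hk h
    by_cases hN : ∃ N : Subgroup G, N.Normal ∧ N ≠ ⊥ ∧ N ≠ ⊤
    · obtain ⟨N, hNn, hb, ht⟩ := hN
      haveI := hNn
      have hlt1 : Nat.card N < k := hk ▸ lt_of_le_of_ne (card_le_card_group N) fun e => ht (eq_top_of_card_eq N e)
      have hlt2 : Nat.card (G ⧸ N) < k := by
        rw [← hk, Subgroup.card_eq_card_quotient_mul_card_subgroup N]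
        exact lt_mul_of_one_lt_right Nat.card_pos ((Subgroup.one_lt_card_iff_ne_bot N).mpr hb)
      haveI := ih _ hlt1 N rfl (h.normal N)
      haveI := ih _ hlt2 (G ⧸ N) rfl (h.quotient N)
      exact OddUse.isSolvable_of_normal N
    by_contra hns
    haveI : Nontrivial G := by
      by_contra hnt
      haveI := not_nontrivial_iff_subsingleton.1 hnt
      exact hns inferInstance
    haveI : IsSimpleGroup G := ⟨fun N hN' => by
      by_contra hc
      push Not at hc
      exact hN ⟨N, hN', hc.1, hc.2⟩⟩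
    have hπ : 2 < (Nat.card G).primeFactors.card := by
      by_contra hc
      obtain ⟨p, q, a, b, hp, hq, hcard⟩ := exists_two_primes (G := G) (by omega)
      exact hns (Cfsg.Agent.S0144.result p q a b hp hq hcard)
    have hq : ∀ r ∈ (Nat.card G).primeFactors, ∃ q ∈ (Nat.card G).primeFactors, q ≠ r ∧
        Nat.card (Sylow r G) ≠ 1 ∧ ∀ l : ℕ, l.Prime → l ∣ Nat.card (Sylow r G) → l = q := by
      intro r hr
      obtain ⟨hrp, hrd, -⟩ := Nat.mem_primeFactors.1 hr
      haveI := Fact.mk hrp
      obtain ⟨P⟩ : Nonempty (Sylow r G) := inferInstance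
      have hne : Nat.card (Sylow r G) ≠ 1 := fun h1 => by
        haveI : Subsingleton (Sylow r G) := (Nat.card_eq_one_iff_unique.1 h1).1
        haveI : (P : Subgroup G).Normal := Sylow.normal_of_subsingleton P
        rcases (inferInstance : (P : Subgroup G).Normal).eq_bot_or_eq_top with hb | ht
        · exact P.ne_bot_of_dvd_card hrd hb
        · have hG : IsPGroup r (⊤ : Subgroup G) := ht ▸ P.2
          haveI : Group.IsNilpotent G := (hG.of_equiv Subgroup.topEquiv).isNilpotent
          exact hns inferInstance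
      obtain ⟨q, a, hqp, ha, e⟩ := (isPrimePow_nat_iff _).1 ((h r).resolve_left hne)
      refine ⟨q, Nat.mem_primeFactors.2 ⟨hqp, ?_, Nat.card_pos.ne'⟩, ?_, hne, fun l hl hd =>
        (Nat.prime_dvd_prime_iff_eq hl hqp).1 (hl.dvd_of_dvd_pow (e ▸ hd))⟩
      · exact ((dvd_pow_self q ha.ne').trans (dvd_of_eq e)).trans
          (by rw [Sylow.card_eq_index_normalizer P]; exact index_dvd_card _)
      · rintro rfl
        exact not_dvd_card_sylow q G (e ▸ dvd_pow_self q ha.ne')
    choose! f hf1 hf2 hf3 hf4 using hq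
    have key : ∀ t ∈ (Nat.card G).primeFactors, ∀ s ∈ (Nat.card G).primeFactors, f s = t ∨ f s = f t := by
      intro t ht s hs
      by_contra hc
      push Not at hc
      haveI := Fact.mk (Nat.prime_of_mem_primeFactors ht)
      haveI := Fact.mk (Nat.prime_of_mem_primeFactors hs)
      haveI := Fact.mk (Nat.prime_of_mem_primeFactors (hf1 t ht))
      exact false_of_pair (Nat.dvd_of_mem_primeFactors ht) (hf3 s hs) (hf4 t ht)
        (fun hd => hc.1 (hf4 s hs t Fact.out hd).symm) (fun hd => hc.2 (hf4 s hs (f t) Fact.out hd).symm)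
    obtain ⟨r, hr⟩ := Finset.card_pos.1 (show 0 < (Nat.card G).primeFactors.card by omega)
    have hqr : f (f r) = r :=
      (key r hr (f r) (hf1 r hr)).resolve_right fun e => hf2 (f r) (hf1 r hr) e
    obtain ⟨s, hs, hsn⟩ := Finset.exists_mem_notMem_of_card_lt_card
      (s := ({r, f r} : Finset ℕ)) (t := (Nat.card G).primeFactors) ((Finset.card_le_two).trans_lt hπ)
    simp only [Finset.mem_insert, Finset.mem_singleton, not_or] at hsn
    rcases key r hr s hs with e | e
    · rcases key s hs r hr with e' | e'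
      · exact hsn.2 e'.symm
      · exact hf2 r hr (e'.trans e)
    · rcases key s hs (f r) (hf1 r hr) with e' | e'
      · exact hsn.1 (e'.symm.trans hqr)
      · exact hf2 r hr ((e.symm.trans e'.symm).trans hqr)

end Helpers

/-- If for every prime r the number of Sylow r-subgroups of the finite group G is a prime power or 1, then G is solvable. -/
theorem result {G : Type*} [Group G] [Finite G] (h : ∀ (r : ℕ) [Fact r.Prime], Nat.card (Sylow r G) = 1 ∨ IsPrimePow (Nat.card (Sylow r G))) :
    Group.IsSolvable G := by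
  exact isSolvable_aux _ G rfl h

end Cfsg.Agent.S3933
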