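import Cfsg.Statements.S3937
import Cfsg.Agent.EqLemmas
import Cfsg.Agent.Lib.Zipper.General
import Cfsg.Agent.Lib.Cores.Fitting

set_option autoImplicit false
open Cfsg
open scoped Pointwise

namespace Cfsg.Agent.S3937

universe w

theorem zpowers_subnormal_aux (n : ℕ) : ∀ {G : Type w} [Group G] [Finite G], Nat.card G = n →
    ∀ g : G, (∀ x : G, ∃ n : ℕ, (List.replicate n g).foldl (fun a b => a * b * a⁻¹ * b⁻¹) x = 1) →
      (Subgroup.zpowers g).IsSubnormal := by
  induction n using Nat.strong_induction_on with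
  | _ n ih =>
  intro G _ _ hn g hg
  by_contra hns
  have hS : ∀ H : Subgroup G, Subgroup.zpowers g ≤ H → H ≠ ⊤ →
      ((Subgroup.zpowers g).subgroupOf H).IsSubnormal := by
    intro H hgH hH
    have hgm : g ∈ H := hgH (Subgroup.mem_zpowers g)
    have e : (Subgroup.zpowers g).subgroupOf H = Subgroup.zpowers (⟨g, hgm⟩ : ↥H) := by
      apply Subgroup.map_injective H.subtype_injective
      rw [Subgroup.map_subgroupOf_eq_of_le hgH, MonoidHom.map_zpowers]
      rfl
    rw [e]
    refine ih _ (hn ▸ lt_of_le_of_ne (Subgroup.card_le_card_group H)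
      fun hc => hH (Subgroup.eq_top_of_card_eq H hc)) rfl _ fun x => ?_
    obtain ⟨i, hi⟩ := hg x
    refine ⟨i, ?_⟩
    apply Subtype.ext
    have key : ∀ (i : ℕ) (x : ↥H),
        (((List.replicate i (⟨g, hgm⟩ : ↥H)).foldl (fun a b => a * b * a⁻¹ * b⁻¹) x : ↥H) : G) =
          (List.replicate i g).foldl (fun a b => a * b * a⁻¹ * b⁻¹) (x : G) := by
      intro i
      induction i with
      | zero => intro x; rfl
      | succ i ihi =>
        intro x
        simp only [List.replicate_succ, List.foldl_cons]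
        rw [ihi]
        rfl
    rw [key, hi]
    rfl
  have hne : Subgroup.zpowers g ≠ ⊤ := fun h => hns (h ▸ Subgroup.IsSubnormal.top)
  obtain ⟨M, hM, hgM, huniq⟩ := Cfsg.Agent.Cores.wielandt_zipper _ hS hns
  have hcl : Subgroup.normalClosure ((Subgroup.zpowers g : Subgroup G) : Set G) = ⊤ := by
    by_contra hcl
    exact hns ((hS _ Subgroup.le_normalClosure hcl).trans Subgroup.le_normalClosure
      Subgroup.normalClosure_normal.isSubnormal)
  have hMN := Cfsg.Agent.Zipper.normalizer_coatom_eq hcl hM hgM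
  have hout : ∀ x : G, x ∉ M → x * g * x⁻¹ * g⁻¹ ∉ M := by
    intro x hx hc
    apply hx
    have h1 : x * g * x⁻¹ ∈ M := by
      have := M.mul_mem hc (hgM (Subgroup.mem_zpowers g))
      simpa [mul_assoc] using this
    have h2 : Subgroup.zpowers g ≤ MulAut.conj x⁻¹ • M := by
      refine Subgroup.zpowers_le.2 ?_
      rw [Cfsg.Agent.Cores.mem_conj_smul, inv_inv]
      exact h1
    have h3 := huniq _ (Cfsg.Agent.Zipper.isCoatom_conj_smul hM _) h2
    rw [Cfsg.Agent.Cores.conj_smul_eq_self_iff, hMN] at h3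
    simpa using M.inv_mem h3
  obtain ⟨x, -, hx⟩ := SetLike.exists_of_lt hM.lt_top
  obtain ⟨i, hi⟩ := hg x
  have hit : ∀ (i : ℕ) (x : G), x ∉ M →
      (List.replicate i g).foldl (fun a b => a * b * a⁻¹ * b⁻¹) x ∉ M := by
    intro i
    induction i with
    | zero => intro x hx; simpa using hx
    | succ i ihi =>
      intro x hx
      simp only [List.replicate_succ, List.foldl_cons]
      exact ihi _ (hout x hx)
  exact hit i x hx (hi ▸ M.one_mem)

theorem zpowers_subnormal {G : Type w} [Group G] [Finite G] (g : G)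
    (hg : ∀ x : G, ∃ n : ℕ, (List.replicate n g).foldl (fun a b => a * b * a⁻¹ * b⁻¹) x = 1) :
    (Subgroup.zpowers g).IsSubnormal :=
  zpowers_subnormal_aux (Nat.card G) rfl g hg

theorem engel_of_mem_fitting {G : Type w} [Group G] [Finite G] {g : G}
    (hg : g ∈ Cfsg.fittingSubgroup G) (x : G) :
    ∃ n : ℕ, (List.replicate n g).foldl (fun a b => a * b * a⁻¹ * b⁻¹) x = 1 := by
  haveI := Cfsg.Agent.Cores.fittingSubgroup_normal (G := G)
  set F := Cfsg.fittingSubgroup G
  obtain ⟨c, hc⟩ := Subgroup.nilpotent_iff_lowerCentralSeries.1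
    (inferInstance : Group.IsNilpotent ↥F)
  refine ⟨c + 1, ?_⟩
  have h1 : x * g * x⁻¹ * g⁻¹ ∈ F := F.mul_mem (Subgroup.Normal.conj_mem ‹_› g hg x) (F.inv_mem hg)
  have key : ∀ (i j : ℕ) (y : ↥F), y ∈ (⊤ : Subgroup ↥F).lowerCentralSeries j →
      ∃ z ∈ (⊤ : Subgroup ↥F).lowerCentralSeries (j + i),
        (List.replicate i g).foldl (fun a b => a * b * a⁻¹ * b⁻¹) (y : G) = (z : G) := by
    intro i
    induction i with
    | zero => intro j y hy; exact ⟨y, hy, rfl⟩
    | succ i ihi =>
      intro j y hy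
      obtain ⟨z, hz, he⟩ := ihi (j + 1) (y * ⟨g, hg⟩ * y⁻¹ * (⟨g, hg⟩ : ↥F)⁻¹) (by
        rw [Subgroup.lowerCentralSeries_succ]
        exact Subgroup.commutator_mem_commutator hy (Subgroup.mem_top _))
      refine ⟨z, by rwa [show j + (i + 1) = j + 1 + i by omega], ?_⟩
      simp only [List.replicate_succ, List.foldl_cons]
      exact he
  obtain ⟨z, hz, he⟩ := key c 0 ⟨_, h1⟩ (by simp)
  simp only [List.replicate_succ, List.foldl_cons]
  rw [Nat.zero_add, hc, Subgroup.mem_bot] at hz
  exact he.trans (by rw [hz]; rfl)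


/-- Baer's characterization of the Fitting subgroup: in a finite group G, an element g lies in the Fitting subgroup if and only if g is a left Engel element, that is, for every x there is n with [x, g, g, …, g] = 1 (n entries g, [a, b] = aba⁻¹b⁻¹). -/
theorem result {G : Type*} [Group G] [Finite G] (g : G) :
    g ∈ Cfsg.fittingSubgroup G ↔ ∀ x : G, ∃ n : ℕ, (List.replicate n g).foldl (fun a b => a * b * a⁻¹ * b⁻¹) x = 1 := by
  constructor
  · intro hg x
    exact engel_of_mem_fitting hg x
  · intro h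
    have hsn := zpowers_subnormal g h
    exact Cfsg.Agent.Cores.le_fittingSubgroup_of_isSubnormal hsn (by
      letI := IsCyclic.commGroup (α := ↥(Subgroup.zpowers g))
      infer_instance) (Subgroup.mem_zpowers g)

end Cfsg.Agent.S3937
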