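import Cfsg.Statements.S3939
import Cfsg.Agent.EqLemmas
import Cfsg.Agent.Lib.NilGroup.Basic

set_option autoImplicit false
open Cfsg

namespace Cfsg.Agent.S3939

universe w

variable {G : Type w} [Group G] [Finite G]

omit [Finite G] in
theorem upperCentralSeries_subgroupOf (H : Subgroup G) : ∀ (n : ℕ) (x : ↥H),
    (x : G) ∈ Subgroup.upperCentralSeries G n → x ∈ Subgroup.upperCentralSeries ↥H n := by
  intro n
  induction n with
  | zero =>
    intro x hx
    rw [Subgroup.upperCentralSeries_zero, Subgroup.mem_bot] at hx ⊢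
    exact Subtype.ext hx
  | succ n ih =>
    intro x hx
    rw [Subgroup.mem_upperCentralSeries_succ_iff] at hx ⊢
    exact fun y => ih _ (hx y)

omit [Finite G] in
theorem exists_upper (g : G) (hg : g ∈ ⨆ n : ℕ, Subgroup.upperCentralSeries G n) :
    ∃ n, g ∈ Subgroup.upperCentralSeries G n :=
  (Subgroup.mem_iSup_of_directed (Monotone.directed_le (Subgroup.upperCentralSeries_mono G))).1 hg

omit [Finite G] in
theorem isNilpotent_closure (g : G) (hg : g ∈ ⨆ n : ℕ, Subgroup.upperCentralSeries G n) (x : G) :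
    Group.IsNilpotent ↥(Subgroup.closure ({x, g} : Set G)) := by
  obtain ⟨n, hn⟩ := exists_upper g hg
  set H := Subgroup.closure ({x, g} : Set G)
  refine ⟨⟨n + 1, ?_⟩⟩
  rw [eq_top_iff]
  intro a _
  rw [Subgroup.mem_upperCentralSeries_succ_iff]
  intro b
  set N := Subgroup.upperCentralSeries ↥H n
  let xx : ↥H := ⟨x, Subgroup.subset_closure (by simp)⟩
  have hgen : ∀ y : ↥H, (QuotientGroup.mk' N y) ∈ Subgroup.zpowers (QuotientGroup.mk' N xx) := by
    have htop : Subgroup.closure (Subtype.val ⁻¹' ({x, g} : Set G) : Set ↥H) = ⊤ :=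
      Subgroup.closure_closure_coe_preimage
    intro y
    have hle : Subgroup.closure (Subtype.val ⁻¹' ({x, g} : Set G) : Set ↥H) ≤
        (Subgroup.zpowers (QuotientGroup.mk' N xx)).comap (QuotientGroup.mk' N) := by
      refine (Subgroup.closure_le _).2 ?_
      rintro z (hz | hz)
      · have e : z = xx := Subtype.ext hz
        subst e
        exact Subgroup.mem_zpowers _
      · rw [Subgroup.coe_comap, Set.mem_preimage, SetLike.mem_coe]
        have h1 : QuotientGroup.mk' N z = 1 := (QuotientGroup.eq_one_iff _).2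
          (upperCentralSeries_subgroupOf H n z (by rw [Set.mem_singleton_iff.1 hz]; exact hn))
        rw [h1]
        exact Subgroup.one_mem _
    exact hle (htop ▸ Subgroup.mem_top y)
  obtain ⟨i, hi⟩ := Subgroup.mem_zpowers_iff.1 (hgen a)
  obtain ⟨j, hj⟩ := Subgroup.mem_zpowers_iff.1 (hgen b)
  rw [← QuotientGroup.eq_one_iff]
  show QuotientGroup.mk' N (a * b * a⁻¹ * b⁻¹) = 1
  rw [map_mul, map_mul, map_mul, map_inv, map_inv, ← hi, ← hj]
  group

/-- The centre of `G` modulo a normal subgroup contains a normal `p`-subgroup centralised by all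
`p'`-elements, by induction along the upper central series of a Sylow subgroup. -/
theorem le_upper_of_centralised {p : ℕ} [Fact p.Prime] (V : Subgroup G) [V.Normal] (hV : IsPGroup p V)
    (hcen : ∀ v ∈ V, ∀ y : G, ¬ p ∣ orderOf y → Commute v y) :
    ∃ n, V ≤ Subgroup.upperCentralSeries G n := by
  obtain ⟨P, hVP⟩ := hV.exists_le_sylow
  haveI : Group.IsNilpotent ↥(P : Subgroup G) := P.isPGroup'.isNilpotent
  obtain ⟨c, hc⟩ := Group.IsNilpotent.nilpotent ↥(P : Subgroup G)
  refine ⟨c, ?_⟩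
  suffices h : ∀ j, ∀ v : ↥(P : Subgroup G), (v : G) ∈ V →
      v ∈ Subgroup.upperCentralSeries ↥(P : Subgroup G) j → (v : G) ∈ Subgroup.upperCentralSeries G j by
    intro v hv
    exact h c ⟨v, hVP hv⟩ hv (hc ▸ Subgroup.mem_top _)
  intro j
  induction j with
  | zero =>
    intro v _ hv
    rw [Subgroup.upperCentralSeries_zero, Subgroup.mem_bot] at hv
    rw [hv]
    exact Subgroup.one_mem _
  | succ j ih =>
    intro v hvV hv
    rw [Subgroup.mem_upperCentralSeries_succ_iff]
    set N := Subgroup.upperCentralSeries G j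
    set K := (Subgroup.centralizer ({QuotientGroup.mk' N (v : G)} : Set (G ⧸ N))).comap
      (QuotientGroup.mk' N)
    have hK : ∀ y : G, y ∈ K ↔ (v : G) * y * (v : G)⁻¹ * y⁻¹ ∈ N := by
      intro y
      rw [Subgroup.mem_comap, Subgroup.mem_centralizer_singleton_iff, ← QuotientGroup.eq_one_iff]
      show _ ↔ QuotientGroup.mk' N ((v : G) * y * (v : G)⁻¹ * y⁻¹) = 1
      rw [map_mul, map_mul, map_mul, map_inv, map_inv, mul_inv_eq_one, mul_inv_eq_iff_eq_mul]
      exact eq_comm
    have hPK : (P : Subgroup G) ≤ K := by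
      intro y hy
      rw [hK]
      exact ih (v * ⟨y, hy⟩ * v⁻¹ * (⟨y, hy⟩ : ↥(P : Subgroup G))⁻¹)
        (by
          have h1 := Subgroup.Normal.conj_mem ‹V.Normal› _ (V.inv_mem hvV) y
          have h2 := V.mul_mem hvV h1
          simpa [mul_assoc] using h2)
        (Subgroup.mem_upperCentralSeries_succ_iff.1 hv ⟨y, hy⟩)
    intro y
    show (v : G) * y * (v : G)⁻¹ * y⁻¹ ∈ N
    rw [← hK]
    suffices htop : K = ⊤ from htop ▸ Subgroup.mem_top y
    refine Subgroup.eq_top_of_card_eq K (Nat.dvd_antisymm (Subgroup.card_subgroup_dvd_card K) ?_)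
    rw [← Nat.factorization_prime_le_iff_dvd Nat.card_pos.ne' Nat.card_pos.ne']
    intro q hq
    haveI : Fact q.Prime := ⟨hq⟩
    rw [← hq.pow_dvd_iff_le_factorization Nat.card_pos.ne']
    obtain ⟨Q⟩ : Nonempty (Sylow q G) := Sylow.nonempty
    rw [← Sylow.card_eq_multiplicity Q]
    by_cases hqp : q = p
    · subst hqp
      rw [Sylow.card_eq_multiplicity Q, ← Sylow.card_eq_multiplicity P]
      exact Subgroup.card_dvd_of_le hPK
    · refine Subgroup.card_dvd_of_le fun y hy => ?_
      rw [hK]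
      obtain ⟨a, ha⟩ := IsPGroup.iff_orderOf.1 Q.isPGroup' ⟨y, hy⟩
      rw [Subgroup.orderOf_mk] at ha
      have hc2 : Commute (v : G) y := hcen v hvV y fun hd => hqp (((Nat.prime_dvd_prime_iff_eq Fact.out hq).1
        ((Fact.out : p.Prime).dvd_of_dvd_pow (ha ▸ hd))).symm)
      rw [hc2.eq]
      simp

theorem pPart_mem {p : ℕ} [Fact p.Prime] {u : G} {k : ℕ} (hu : orderOf u = p ^ k)
    (h : ∀ x : G, Group.IsNilpotent ↥(Subgroup.closure ({x, u} : Set G))) :
    u ∈ ⨆ n : ℕ, Subgroup.upperCentralSeries G n := by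
  have hp : p.Prime := Fact.out
  let S : Set G := {y | ¬ p ∣ orderOf y}
  set D := Subgroup.centralizer S with hD
  haveI hDn : D.Normal := ⟨fun d hd g => by
    rw [hD, Subgroup.mem_centralizer_iff] at hd ⊢
    intro y hy
    have h1 := hd (g⁻¹ * y * g) (by
      show ¬ p ∣ orderOf (g⁻¹ * y * g)
      have e : orderOf (g⁻¹ * y * g) = orderOf y := by
        have := MulEquiv.orderOf_eq (MulAut.conj g⁻¹) y
        simpa using this
      rw [e]
      exact hy)
    have h2 := congrArg (fun t => g * t * g⁻¹) h1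
    simpa [mul_assoc] using h2⟩
  have huD : u ∈ D := by
    rw [hD, Subgroup.mem_centralizer_iff]
    intro y hy
    have hcop : (orderOf (⟨y, Subgroup.subset_closure (by simp)⟩ : ↥(Subgroup.closure ({y, u} : Set G)))).Coprime
        (orderOf (⟨u, Subgroup.subset_closure (by simp)⟩ : ↥(Subgroup.closure ({y, u} : Set G)))) := by
      rw [Subgroup.orderOf_mk, Subgroup.orderOf_mk, hu]
      exact (hp.coprime_iff_not_dvd.2 hy).symm.pow_right k
    exact congrArg Subtype.val (Cfsg.Agent.NilGroup.commute_of_coprime (h y) hcop).eq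
  have hDnil : Group.IsNilpotent ↥D := by
    refine Group.of_quotient_center_nilpotent ?_
    refine IsPGroup.isNilpotent (p := p) fun q => ?_
    obtain ⟨d, rfl⟩ := QuotientGroup.mk_surjective q
    obtain ⟨a, m, hm, ham⟩ := Nat.exists_eq_pow_mul_and_not_dvd (orderOf_pos (d : G)).ne' p hp.ne_one
    refine ⟨a, ?_⟩
    rw [← QuotientGroup.mk_pow, QuotientGroup.eq_one_iff, Subgroup.mem_center_iff]
    intro e
    apply Subtype.ext
    have hS : ((d ^ p ^ a : ↥D) : G) ∈ S := by
      show ¬ p ∣ orderOf _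
      rw [Subgroup.coe_pow, orderOf_pow_of_dvd (pow_ne_zero _ hp.ne_zero) (ham ▸ dvd_mul_right _ _), ham,
        Nat.mul_div_cancel_left _ (pow_pos hp.pos _)]
      exact hm
    exact ((Subgroup.mem_centralizer_iff.1 e.2) _ hS).symm
  obtain ⟨Q, hQ⟩ : ∃ Q : Sylow p ↥D, (⟨u, huD⟩ : ↥D) ∈ (Q : Subgroup ↥D) := by
    have hpg : IsPGroup p (Subgroup.zpowers (⟨u, huD⟩ : ↥D)) :=
      IsPGroup.of_card (n := k) (by rw [Nat.card_zpowers, Subgroup.orderOf_mk, hu])
    obtain ⟨Q, hQ⟩ := hpg.exists_le_sylow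
    exact ⟨Q, hQ (Subgroup.mem_zpowers _)⟩
  haveI := hDnil
  haveI : (Q : Subgroup ↥D).Characteristic := Sylow.characteristic_of_normal Q inferInstance
  haveI : ((Q : Subgroup ↥D).map D.subtype).Normal := inferInstance
  obtain ⟨n, hn⟩ := le_upper_of_centralised ((Q : Subgroup ↥D).map D.subtype) (Q.isPGroup'.map _) (by
    rintro _ ⟨v, -, rfl⟩ y hy
    exact ((Subgroup.mem_centralizer_iff.1 v.2) y hy).symm)
  exact Subgroup.mem_iSup_of_mem n (hn ⟨⟨u, huD⟩, hQ, rfl⟩)

theorem mem_hypercenter (g : G) (h : ∀ x : G, Group.IsNilpotent ↥(Subgroup.closure ({x, g} : Set G))) :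
    g ∈ ⨆ n : ℕ, Subgroup.upperCentralSeries G n := by
  have hsub : ∀ (i : ℕ) (x : G), Group.IsNilpotent ↥(Subgroup.closure ({x, g ^ i} : Set G)) := by
    intro i x
    haveI := h x
    have hle : Subgroup.closure ({x, g ^ i} : Set G) ≤ Subgroup.closure ({x, g} : Set G) := by
      refine (Subgroup.closure_le _).2 ?_
      rintro y (rfl | rfl)
      · exact Subgroup.subset_closure (by simp)
      · exact Subgroup.pow_mem _ (Subgroup.subset_closure (by simp)) i
    exact Group.nilpotent_of_mulEquiv (Subgroup.subgroupOfEquivOfLe hle)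
  obtain ⟨d, hd⟩ : ∃ d, d = orderOf g := ⟨_, rfl⟩
  induction d using Nat.strong_induction_on generalizing g with
  | _ d ih =>
  by_cases hd1 : d = 1
  · have h1 : g = 1 := orderOf_eq_one_iff.1 (hd.symm.trans hd1)
    rw [h1]
    exact Subgroup.one_mem _
  obtain ⟨p, hp, hpd⟩ := Nat.exists_prime_and_dvd hd1
  haveI : Fact p.Prime := ⟨hp⟩
  obtain ⟨a, m, hm, ham⟩ := Nat.exists_eq_pow_mul_and_not_dvd (orderOf_pos g).ne' p hp.ne_one
  have hm0 : m ≠ 0 := fun h0 => hm (h0 ▸ dvd_zero p)
  have h1 : g ^ m ∈ ⨆ n : ℕ, Subgroup.upperCentralSeries G n := by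
    refine pPart_mem (p := p) (k := a) ?_ (hsub m)
    rw [orderOf_pow_of_dvd hm0 (ham ▸ dvd_mul_left _ _), ham,
      Nat.mul_div_cancel _ (Nat.pos_of_ne_zero hm0)]
  have ha : a ≠ 0 := by
    rintro rfl
    rw [pow_zero, one_mul] at ham
    exact hm (ham ▸ hd ▸ hpd)
  have hord : orderOf (g ^ p ^ a) = m := by
    rw [orderOf_pow_of_dvd (pow_ne_zero _ hp.ne_zero) (ham ▸ dvd_mul_right _ _), ham,
      Nat.mul_div_cancel_left _ (pow_pos hp.pos _)]
  have h2 : g ^ p ^ a ∈ ⨆ n : ℕ, Subgroup.upperCentralSeries G n := by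
    refine ih m ?_ _ (hsub (p ^ a)) (fun i x => ?_) hord.symm
    · rw [hd, ham]
      exact lt_mul_of_one_lt_left (Nat.pos_of_ne_zero hm0) (Nat.one_lt_pow ha hp.one_lt)
    · rw [← pow_mul]
      exact hsub _ x
  have hb := Nat.gcd_eq_gcd_ab (p ^ a) m
  rw [(Nat.Coprime.pow_left a (hp.coprime_iff_not_dvd.2 hm)).gcd_eq_one] at hb
  have hy : g = (g ^ p ^ a) ^ (Nat.gcdA (p ^ a) m) * (g ^ m) ^ (Nat.gcdB (p ^ a) m) := by
    rw [← zpow_natCast, ← zpow_natCast, ← zpow_mul, ← zpow_mul, ← zpow_add, ← hb]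
    simp
  rw [hy]
  exact Subgroup.mul_mem _ (Subgroup.zpow_mem _ h2 _) (Subgroup.zpow_mem _ h1 _)


/-- In a finite group G the set of elements g such that the subgroup generated by g and x is nilpotent for every x ∈ G is exactly the hypercenter of G (the last term of the upper central series). -/
theorem result {G : Type*} [Group G] [Finite G] (g : G) :
    (∀ x : G, Group.IsNilpotent ↥(Subgroup.closure ({x, g} : Set G))) ↔ g ∈ ⨆ n : ℕ, Subgroup.upperCentralSeries G n := by
  constructor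
  · intro h
    exact mem_hypercenter g h
  · intro hg x
    exact isNilpotent_closure g hg x

end Cfsg.Agent.S3939
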