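import Cfsg.Statements.S3941
import Cfsg.Agent.EqLemmas

set_option autoImplicit false
open Cfsg

namespace Cfsg.Agent.S3941

/-- Let n ≥ 5 and p an odd prime with p ≤ n, and suppose that every proper subgroup of the alternating group of degree n whose order is divisible by p has a normal Sylow p-subgroup. Then n = p. -/
theorem result (n p : ℕ) (hn : 5 ≤ n) [Fact p.Prime] (hp : p ≠ 2) (hpn : p ≤ n)
    (h : ∀ H : Subgroup ↥(alternatingGroup (Fin n)), H ≠ ⊤ → p ∣ Nat.card ↥H → Cfsg.IsPClosed p ↥H) : n = p := by
  by_contra hne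
  obtain ⟨m, rfl⟩ : ∃ m, n = m + 1 := ⟨n - 1, by omega⟩
  have hpm : p ≤ m := by omega
  have hm4 : 4 ≤ m := by omega
  let f : alternatingGroup (Fin m) →* alternatingGroup (Fin (m + 1)) :=
    MonoidHom.codRestrict ((Equiv.Perm.extendDomainHom (Fin.castSuccEmb.toEquivRange)).comp
      (alternatingGroup (Fin m)).subtype) _ (fun σ => by
        simp only [MonoidHom.coe_comp, Function.comp_apply, Subgroup.coe_subtype,
          Equiv.Perm.extendDomainHom_apply, Equiv.Perm.mem_alternatingGroup,
          Equiv.Perm.sign_extendDomain]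
        exact σ.2)
  have hf : Function.Injective f := by
    intro a b hab
    have h2 := congrArg Subtype.val hab
    exact Subtype.ext (Equiv.Perm.extendDomainHom_injective _ h2)
  haveI : Nontrivial (Fin m) := Fin.nontrivial_iff_two_le.2 (by omega)
  haveI : Nontrivial (Fin (m + 1)) := Fin.nontrivial_iff_two_le.2 (by omega)
  have hp' : p.Prime := Fact.out
  have hcardm : 2 * Nat.card (alternatingGroup (Fin m)) = m.factorial := by
    rw [two_mul_nat_card_alternatingGroup]
    simp [Fintype.card_perm]
  have hcardn : 2 * Nat.card (alternatingGroup (Fin (m + 1))) = (m + 1).factorial := by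
    rw [two_mul_nat_card_alternatingGroup]
    simp [Fintype.card_perm]
  have hcf : Nat.card f.range = Nat.card (alternatingGroup (Fin m)) :=
    (Nat.card_congr (MonoidHom.ofInjective hf).toEquiv).symm
  have hne' : f.range ≠ ⊤ := by
    intro h
    rw [h, Subgroup.card_top] at hcf
    rw [hcf, hcardm, Nat.factorial_succ] at hcardn
    nlinarith [Nat.factorial_pos m]
  have hdvd : p ∣ Nat.card (alternatingGroup (Fin m)) := by
    have h1 : p ∣ 2 * Nat.card (alternatingGroup (Fin m)) :=
      hcardm ▸ Nat.dvd_factorial hp'.pos hpm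
    exact (((Nat.coprime_primes hp' Nat.prime_two).2 hp).dvd_of_dvd_mul_left h1)
  have hcl := h f.range hne' (hcf ▸ hdvd)
  obtain ⟨P⟩ : Nonempty (Sylow p (alternatingGroup (Fin m))) := Sylow.nonempty
  have hnorm : (P : Subgroup (alternatingGroup (Fin m))).Normal := by
    obtain ⟨Q, hQ⟩ := (P.isPGroup'.map (MonoidHom.ofInjective hf).toMonoidHom).exists_le_sylow
    haveI := hcl Q
    have hQ2 : (P : Subgroup (alternatingGroup (Fin m))) =
        (Q : Subgroup f.range).comap (MonoidHom.ofInjective hf).toMonoidHom := by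
      refine (P.is_maximal' ?_ ?_).symm
      · exact Q.isPGroup'.comap_of_injective _ (MonoidHom.ofInjective hf).injective
      · exact Subgroup.map_le_iff_le_comap.1 hQ
    rw [hQ2]
    infer_instance
  have hPne : (P : Subgroup (alternatingGroup (Fin m))) ≠ ⊥ := P.ne_bot_of_dvd_card hdvd
  rcases Nat.lt_or_ge m 5 with h5 | h5
  · -- `m = 4`, `p = 3`
    obtain rfl : m = 4 := by omega
    obtain rfl : p = 3 := by
      have := hp'.two_le
      interval_cases p <;> simp_all (config := { decide := true })
    haveI := Sylow.unique_of_normal P hnorm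
    have hall : ∀ σ : alternatingGroup (Fin 4), σ ^ 3 = 1 → σ ∈ (P : Subgroup _) := by
      intro σ hσ
      have hpg : IsPGroup 3 (Subgroup.zpowers σ) := by
        rw [IsPGroup.iff_card]
        rcases (Nat.dvd_prime hp').1 (orderOf_dvd_of_pow_eq_one hσ) with h | h
        · exact ⟨0, by rw [Nat.card_zpowers, h, pow_zero]⟩
        · exact ⟨1, by rw [Nat.card_zpowers, h, pow_one]⟩
      obtain ⟨R, hR⟩ := hpg.exists_le_sylow
      exact (Subsingleton.elim R P) ▸ hR (Subgroup.mem_zpowers σ)
    have hP3 : Nat.card (P : Subgroup (alternatingGroup (Fin 4))) ≤ 3 := by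
      obtain ⟨k, hk⟩ := IsPGroup.iff_card.1 P.isPGroup'
      have hA : Nat.card (alternatingGroup (Fin 4)) = 12 := by
        have h24 : (4 : ℕ).factorial = 24 := rfl
        omega
      have := (Subgroup.card_subgroup_dvd_card (P : Subgroup (alternatingGroup (Fin 4))))
      rw [hA, hk] at this
      have hk1 : k ≤ 1 := by
        by_contra hk1
        have : 3 ^ 2 ∣ 12 := (pow_dvd_pow 3 (by omega)).trans this
        omega
      rw [hk]
      exact (Nat.pow_le_pow_right (by omega) hk1).trans (by simp)
    have hcard : Nat.card {σ : alternatingGroup (Fin 4) // σ ^ 3 = 1} = 9 := by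
      rw [Nat.card_eq_fintype_card]
      decide
    have := Nat.card_le_card_of_injective
      (fun σ : {σ : alternatingGroup (Fin 4) // σ ^ 3 = 1} =>
        (⟨σ.1, hall σ.1 σ.2⟩ : (P : Subgroup (alternatingGroup (Fin 4)))))
      (fun a b h => Subtype.ext (by simpa using h))
    omega
  · haveI := alternatingGroup.isSimpleGroup (α := Fin m) (by simpa using h5)
    rcases hnorm.eq_bot_or_eq_top with h0 | h0
    · exact hPne h0
    obtain ⟨k, hk⟩ := IsPGroup.iff_card.1 P.isPGroup'
    rw [h0, Subgroup.card_top] at hk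
    rw [hk] at hcardm
    have h4 : (4 : ℕ) ∣ 2 * p ^ k := hcardm ▸ Nat.dvd_factorial (by omega) hm4
    have h2 : 2 ∣ p ^ k := by omega
    exact hp ((Nat.prime_dvd_prime_iff_eq Nat.prime_two hp').1 (Nat.prime_two.dvd_of_dvd_pow h2)).symm

end Cfsg.Agent.S3941
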