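import Cfsg.Statements.S3949
import Cfsg.Agent.EqLemmas

set_option autoImplicit false
open Cfsg

namespace Cfsg.Agent.S3949

/-- Let G be a finite group and α an automorphism of G of order 2 such that the elements g·α(g)⁻¹ generate G. Let j be a positive integer such that 2^j divides the order of no element inverted by α. Then the set of values of the j-th iterate of the map c ↦ c·α(c)⁻¹ is exactly the set of elements of odd order inverted by α. -/
theorem result {G : Type*} [Group G] [Finite G] (α : MulAut G) (hα : orderOf α = 2) (hG : Subgroup.closure (Set.range (fun c : G => c * (α c)⁻¹)) = ⊤)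
    (j : ℕ) (hj : ∀ g : G, α g = g⁻¹ → ¬ 2 ^ j ∣ orderOf g) :
    Set.range ((fun c : G => c * (α c)⁻¹)^[j]) = {g : G | Odd (orderOf g) ∧ α g = g⁻¹} := by
  rcases Nat.eq_zero_or_pos j with hj0 | hjpos
  · exfalso
    subst hj0
    exact hj 1 (by simp) (by simp)
  have hsq : ∀ y : G, α y = y⁻¹ → ∀ i : ℕ, (fun c : G => c * (α c)⁻¹)^[i] y = y ^ (2 ^ i) := by
    intro y hy i
    induction i with
    | zero => simp
    | succ i ih =>
      rw [Function.iterate_succ_apply', ih]
      show y ^ 2 ^ i * (α (y ^ 2 ^ i))⁻¹ = _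
      rw [map_pow, hy, inv_pow, inv_inv, ← pow_add, pow_succ]
      ring_nf
  have hαα : ∀ x : G, α (α x) = x := by
    intro x
    have h2 : α ^ 2 = 1 := hα ▸ pow_orderOf_eq_one α
    rw [pow_two] at h2
    exact congrArg (fun φ : MulAut G => φ x) h2
  ext g
  constructor
  · rintro ⟨c, rfl⟩
    obtain ⟨i, rfl⟩ : ∃ i, j = i + 1 := ⟨j - 1, by omega⟩
    rw [Function.iterate_succ_apply]
    have hy : α (c * (α c)⁻¹) = (c * (α c)⁻¹)⁻¹ := by simp [hαα]
    rw [hsq _ hy]
    refine ⟨?_, by rw [map_pow, hy, inv_pow]⟩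
    generalize c * (α c)⁻¹ = y at hy ⊢
    rw [← Nat.not_even_iff_odd]
    intro hev
    apply hj y hy
    obtain ⟨k, m, hm, hkm⟩ := Nat.exists_eq_two_pow_mul_odd (orderOf_pos y).ne'
    rcases le_or_gt (i + 1) k with hk | hk
    · exact hkm ▸ Dvd.dvd.mul_right (pow_dvd_pow 2 hk) m
    · exfalso
      have h1 : (y ^ 2 ^ i) ^ m = 1 := by
        rw [← pow_mul, ← orderOf_dvd_iff_pow_eq_one, hkm]
        exact mul_dvd_mul_right (pow_dvd_pow 2 (by omega)) m
      exact (Nat.not_even_iff_odd.2 (hm.of_dvd_nat (orderOf_dvd_of_pow_eq_one h1))) hev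
  · rintro ⟨hodd, hg⟩
    have hcop : Nat.Coprime (2 ^ j) (orderOf g) :=
      Nat.Coprime.pow_left _ (Nat.coprime_two_left.2 hodd)
    obtain ⟨k, hk⟩ := exists_pow_eq_self_of_coprime hcop
    refine ⟨g ^ k, ?_⟩
    rw [hsq _ (by rw [map_pow, hg, inv_pow]), ← pow_mul, mul_comm, pow_mul]
    exact hk

end Cfsg.Agent.S3949
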