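import Cfsg.Statements.S3950
import Cfsg.Agent.EqLemmas

set_option autoImplicit false
open Cfsg

namespace Cfsg.Agent.S3950

/-- The central extension of `G` by `ZMod p` with cocycle `(g, h) ↦ φ₁ g * φ₂ h`. -/
structure Cent (p : ℕ) {G : Type*} [CommGroup G] (φ₁ φ₂ : G →* Multiplicative (ZMod p)) where
  /-- The central coordinate. -/
  z : ZMod p
  /-- The coordinate in the group. -/
  g : G

namespace Cent

variable {p : ℕ} {G : Type*} [CommGroup G] {φ₁ φ₂ : G →* Multiplicative (ZMod p)}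

theorem ext' {x y : Cent p φ₁ φ₂} (h1 : x.z = y.z) (h2 : x.g = y.g) : x = y := by
  cases x; cases y; simp_all

instance instMulCent : Mul (Cent p φ₁ φ₂) :=
  ⟨fun x y => ⟨x.z + y.z + (φ₁ x.g).toAdd * (φ₂ y.g).toAdd, x.g * y.g⟩⟩

instance instOneCent : One (Cent p φ₁ φ₂) := ⟨⟨0, 1⟩⟩

instance instInvCent : Inv (Cent p φ₁ φ₂) :=
  ⟨fun x => ⟨-x.z + (φ₁ x.g).toAdd * (φ₂ x.g).toAdd, x.g⁻¹⟩⟩

theorem mul_z (x y : Cent p φ₁ φ₂) : (x * y).z = x.z + y.z + (φ₁ x.g).toAdd * (φ₂ y.g).toAdd := rfl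
theorem mul_g (x y : Cent p φ₁ φ₂) : (x * y).g = x.g * y.g := rfl
theorem one_z : (1 : Cent p φ₁ φ₂).z = 0 := rfl
theorem one_g : (1 : Cent p φ₁ φ₂).g = 1 := rfl
theorem inv_z (x : Cent p φ₁ φ₂) : x⁻¹.z = -x.z + (φ₁ x.g).toAdd * (φ₂ x.g).toAdd := rfl
theorem inv_g (x : Cent p φ₁ φ₂) : x⁻¹.g = x.g⁻¹ := rfl

instance instGroupCent : Group (Cent p φ₁ φ₂) where
  mul_assoc x y z := by
    refine ext' ?_ (mul_assoc _ _ _)
    simp [mul_z, mul_g]
    ring
  one_mul x := ext' (by simp [mul_z, one_z, one_g]) (one_mul _)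
  mul_one x := ext' (by simp [mul_z, one_z, one_g]) (mul_one _)
  inv_mul_cancel x := ext' (by simp [mul_z, inv_z, inv_g, one_z]) (inv_mul_cancel _)

instance instFiniteCent [NeZero p] [Finite G] : Finite (Cent p φ₁ φ₂) :=
  Finite.of_injective (fun x : Cent p φ₁ φ₂ => (x.z, x.g)) fun x y h => by
    simp only [Prod.mk.injEq] at h
    exact ext' h.1 h.2

end Cent

/-- The projection of the extension onto `G`. -/
def proj (p : ℕ) {G : Type*} [CommGroup G] (φ₁ φ₂ : G →* Multiplicative (ZMod p)) :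
    Cent p φ₁ φ₂ →* G where
  toFun x := x.g
  map_one' := rfl
  map_mul' _ _ := rfl

theorem isStem (p : ℕ) {G : Type*} [CommGroup G] (φ₁ φ₂ : G →* Multiplicative (ZMod p)) (a b : G)
    (ha1 : φ₁ a = Multiplicative.ofAdd 1) (ha2 : φ₂ a = 1) (hb1 : φ₁ b = 1)
    (hb2 : φ₂ b = Multiplicative.ofAdd 1) : Cfsg.IsStemExtension (proj p φ₁ φ₂) := by
  refine ⟨fun g => ⟨⟨0, g⟩, rfl⟩, ?_, ?_⟩
  · intro x hx
    have hg : x.g = 1 := hx
    rw [Subgroup.mem_center_iff]
    intro y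
    refine Cent.ext' ?_ (mul_comm _ _)
    simp [Cent.mul_z, hg, add_comm]
  · intro x hx
    have hg : x.g = 1 := hx
    have hc : ∀ k : ℕ, (⟨(k : ZMod p), 1⟩ : Cent p φ₁ φ₂) ∈ commutator (Cent p φ₁ φ₂) := by
      intro k
      have h1 : (⟨0, a⟩ : Cent p φ₁ φ₂) * ⟨0, b⟩ * (⟨0, a⟩ : Cent p φ₁ φ₂)⁻¹ *
          (⟨0, b⟩ : Cent p φ₁ φ₂)⁻¹ = ⟨1, 1⟩ := by
        refine Cent.ext' ?_ ?_
        · simp [Cent.mul_z, Cent.mul_g, Cent.inv_z, Cent.inv_g, ha1, ha2, hb1, hb2]
        · simp [Cent.mul_g, Cent.inv_g]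
      induction k with
      | zero =>
        have : (⟨((0 : ℕ) : ZMod p), 1⟩ : Cent p φ₁ φ₂) = 1 := Cent.ext' (by simp [Cent.one_z]) rfl
        rw [this]
        exact Subgroup.one_mem _
      | succ k ih =>
        have : (⟨((k + 1 : ℕ) : ZMod p), 1⟩ : Cent p φ₁ φ₂) = ⟨(k : ZMod p), 1⟩ * ⟨1, 1⟩ :=
          Cent.ext' (by simp [Cent.mul_z]) (by simp [Cent.mul_g])
        rw [this]
        refine Subgroup.mul_mem _ ih ?_
        rw [← h1, commutator_def]
        exact Subgroup.commutator_mem_commutator (Subgroup.mem_top _) (Subgroup.mem_top _)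
    obtain ⟨k, hk⟩ := ZMod.intCast_surjective x.z
    obtain ⟨n, hn⟩ | ⟨n, hn⟩ : (∃ n : ℕ, x.z = n) ∨ ∃ n : ℕ, x.z = -n := by
      rcases k with n | n
      · exact Or.inl ⟨n, by simp [← hk]⟩
      · exact Or.inr ⟨n + 1, by simp [← hk]⟩
    · have : x = ⟨(n : ZMod p), 1⟩ := Cent.ext' hn hg
      exact this ▸ hc n
    · have : x = (⟨(n : ZMod p), 1⟩ : Cent p φ₁ φ₂)⁻¹ :=
        Cent.ext' (by simp [Cent.inv_z, hn]) (by simp [Cent.inv_g, hg])
      exact this ▸ Subgroup.inv_mem _ (hc n)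

/-- A finite abelian group that is not cyclic maps onto an elementary abelian group of order `p ^ 2`. -/
theorem exists_two_characters {G : Type*} [CommGroup G] [Finite G] (h : ¬ IsCyclic G) :
    ∃ (p : ℕ) (_ : p.Prime) (φ₁ φ₂ : G →* Multiplicative (ZMod p)) (a b : G),
      φ₁ a = Multiplicative.ofAdd 1 ∧ φ₂ a = 1 ∧ φ₁ b = 1 ∧ φ₂ b = Multiplicative.ofAdd 1 := by
  classical
  obtain ⟨ι, _, n, hn, ⟨e⟩⟩ := CommGroup.equiv_prod_multiplicative_zmod_of_finite G
  have hco : ¬ Pairwise (fun i j => (n i).Coprime (n j)) := by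
    intro hco
    apply h
    let e2 := e.trans ((MulEquiv.piMultiplicative (fun i => ZMod (n i))).symm.trans
      (ZMod.prodEquivPi n hco).symm.toAddEquiv.toMultiplicative)
    exact isCyclic_of_surjective e2.symm e2.symm.surjective
  simp only [Pairwise, not_forall] at hco
  obtain ⟨i, j, hij, hcop⟩ := hco
  obtain ⟨p, hp, hpi, hpj⟩ := Nat.Prime.not_coprime_iff_dvd.1 hcop
  let f : ∀ k : ι, p ∣ n k → (G →* Multiplicative (ZMod p)) := fun k hk =>
    ((ZMod.castHom hk (ZMod p)).toAddMonoidHom.toMultiplicative.comp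
      (Pi.evalMonoidHom (fun k => Multiplicative (ZMod (n k))) k)).comp e.toMonoidHom
  refine ⟨p, hp, f i hpi, f j hpj, e.symm (Pi.mulSingle i (Multiplicative.ofAdd 1)),
    e.symm (Pi.mulSingle j (Multiplicative.ofAdd 1)), ?_, ?_, ?_, ?_⟩
  · simp [f]
    exact ZMod.cast_one hpi
  · simp [f, hij.symm]
  · simp [f, hij]
  · simp [f]
    exact ZMod.cast_one hpj

/-- A finite abelian group has trivial Schur multiplier if and only if it is cyclic. -/
theorem result {G : Type*} [CommGroup G] [Finite G] : Cfsg.HasCyclicSchurMultiplier G 1 ↔ IsCyclic G := by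
  constructor
  · intro hM
    by_contra hnc
    obtain ⟨p, hp, φ₁, φ₂, a, b, ha1, ha2, hb1, hb2⟩ := exists_two_characters hnc
    haveI : NeZero p := ⟨hp.ne_zero⟩
    obtain ⟨π, hπ⟩ := hM.2 (Cent p φ₁ φ₂) (proj p φ₁ φ₂) (isStem p φ₁ φ₂ a b ha1 ha2 hb1 hb2)
    have h1 : Nat.card (proj p φ₁ φ₂).ker ≤ Nat.card (Multiplicative (ZMod 1)) :=
      Nat.card_le_card_of_surjective π hπ
    have h2 : p ≤ Nat.card (proj p φ₁ φ₂).ker := by
      haveI : NeZero p := ⟨hp.ne_zero⟩
      have h3 := Nat.card_le_card_of_injective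
        (fun z : ZMod p => (⟨⟨z, 1⟩, rfl⟩ : (proj p φ₁ φ₂).ker))
        (fun z w h => congrArg Cent.z (congrArg Subtype.val h))
      simpa using h3
    have h3 : Nat.card (Multiplicative (ZMod 1)) = 1 := by simp
    have := hp.two_le
    omega
  · intro hc
    refine ⟨⟨G, inferInstance, inferInstance, MonoidHom.id G, ⟨Function.surjective_id, ?_, ?_⟩, ?_⟩, ?_⟩
    · intro x hx
      rw [MonoidHom.mem_ker] at hx
      simp only [MonoidHom.id_apply] at hx
      exact hx ▸ Subgroup.one_mem _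
    · intro x hx
      rw [MonoidHom.mem_ker] at hx
      simp only [MonoidHom.id_apply] at hx
      exact hx ▸ Subgroup.one_mem _
    · haveI : Subsingleton ↥(MonoidHom.id G).ker := ⟨fun x y => by
        have hx := x.2
        have hy := y.2
        rw [MonoidHom.mem_ker] at hx hy
        exact Subtype.ext ((hx.trans hy.symm))⟩
      haveI : Subsingleton (Multiplicative (ZMod 1)) := inferInstanceAs (Subsingleton (ZMod 1))
      exact ⟨{ toFun := fun _ => 1, invFun := fun _ => 1, left_inv := fun _ => Subsingleton.elim _ _,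
               right_inv := fun _ => Subsingleton.elim _ _, map_mul' := fun _ _ => (one_mul 1).symm }⟩
    · intro Γ _ _ σ hσ
      have hcomm : commutator Γ = ⊥ := by
        rw [eq_bot_iff, commutator_def, Subgroup.commutator_le]
        intro g _ h _
        rw [Subgroup.mem_bot, commutatorElement_eq_one_iff_mul_comm]
        exact _root_.commutative_of_cyclic_center_quotient σ hσ.2.1 g h
      refine ⟨1, fun y => ⟨1, ?_⟩⟩
      have hy : (y : Γ) ∈ commutator Γ := hσ.2.2 y.2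
      rw [hcomm, Subgroup.mem_bot] at hy
      exact Subtype.ext (by simpa using hy.symm)

end Cfsg.Agent.S3950
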