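import Cfsg.Statements.S3951
import Cfsg.Agent.EqLemmas
import Cfsg.Agent.S3950

set_option autoImplicit false
open Cfsg

namespace Cfsg.Agent.S3951

theorem cyclic_bound (m n : ℕ) [NeZero m] [NeZero n] {Γ : Type} [Group Γ]
    (σ : Γ →* Multiplicative (ZMod m × ZMod n)) (hσ : Cfsg.IsStemExtension σ) :
    ∃ π : Multiplicative (ZMod n) →* σ.ker, Function.Surjective π := by
  obtain ⟨hsurj, hc, hd⟩ := hσ
  obtain ⟨a, ha⟩ := hsurj (Multiplicative.ofAdd (1, 0))
  obtain ⟨b, hb⟩ := hsurj (Multiplicative.ofAdd (0, 1))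
  set c := a * b * a⁻¹ * b⁻¹ with hcdef
  have hck : c ∈ σ.ker := by
    rw [MonoidHom.mem_ker, hcdef, map_mul, map_mul, map_mul, map_inv, map_inv,
      mul_comm (σ a) (σ b)]
    simp
  have hcc : ∀ g : Γ, g * c = c * g := Subgroup.mem_center_iff.1 (hc hck)
  haveI : (Subgroup.zpowers c).Normal := ⟨fun x hx g => by
    obtain ⟨i, rfl⟩ := Subgroup.mem_zpowers_iff.1 hx
    rw [(Commute.zpow_right (hcc g : Commute g c) i).eq, mul_inv_cancel_right]
    exact Subgroup.zpow_mem_zpowers c i⟩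
  let f := QuotientGroup.mk' (Subgroup.zpowers c)
  have hab : Commute (f a) (f b) := by
    have h1 : f (a * b * a⁻¹ * b⁻¹) = 1 := (QuotientGroup.eq_one_iff _).2 (Subgroup.mem_zpowers c)
    rw [map_mul, map_mul, map_mul, map_inv, map_inv, mul_inv_eq_one, mul_inv_eq_iff_eq_mul] at h1
    exact h1
  have hdec : ∀ g : Γ, ∃ (i j : ℕ) (z : Γ), z ∈ σ.ker ∧ g = z * (a ^ i * b ^ j) := by
    intro g
    refine ⟨(σ g).toAdd.1.val, (σ g).toAdd.2.val,
      g * (a ^ (σ g).toAdd.1.val * b ^ (σ g).toAdd.2.val)⁻¹, ?_, (inv_mul_cancel_right _ _).symm⟩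
    rw [MonoidHom.mem_ker, map_mul, map_inv, map_mul, map_pow, map_pow, ha, hb, mul_inv_eq_one]
    apply Multiplicative.toAdd.injective
    simp [Prod.ext_iff]
  have hfz : ∀ z ∈ σ.ker, ∀ g, Commute (f z) (f g) := fun z hz g =>
    Commute.map (show Commute z g from (Subgroup.mem_center_iff.1 (hc hz) g).symm) f
  have hcomm : ∀ g h : Γ, Commute (f g) (f h) := by
    intro g h
    obtain ⟨i, j, z, hz, rfl⟩ := hdec g
    obtain ⟨i', j', z', hz', rfl⟩ := hdec h
    have key : ∀ (i j i' j' : ℕ), Commute (f a ^ i * f b ^ j) (f a ^ i' * f b ^ j') := fun i j i' j' =>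
      ((((Commute.refl (f a)).pow_pow i i').mul_right (hab.pow_pow i j'))).mul_left
        ((hab.symm.pow_pow j i').mul_right ((Commute.refl (f b)).pow_pow j j'))
    rw [map_mul, map_mul]
    refine (Commute.mul_right (hfz z hz z') (hfz z hz _)).mul_left
      ((hfz z' hz' _).symm.mul_right ?_)
    simpa using key i j i' j'
  have hle : commutator Γ ≤ Subgroup.zpowers c := by
    rw [commutator_def, Subgroup.commutator_le]
    intro g _ h _
    rw [← QuotientGroup.eq_one_iff]
    show f (g * h * g⁻¹ * h⁻¹) = 1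
    rw [map_mul, map_mul, map_mul, map_inv, map_inv, (hcomm g h).eq]
    simp
  have hbn : b ^ n ∈ σ.ker := by
    rw [MonoidHom.mem_ker, map_pow, hb]
    apply Multiplicative.toAdd.injective
    simp
  have hcn : c ^ n = 1 := by
    have hconj : ∀ i : ℕ, a * b ^ i * a⁻¹ = c ^ i * b ^ i := by
      intro i
      rw [← conj_pow, show a * b * a⁻¹ = c * b by rw [hcdef]; group,
        (show Commute c b from (hcc b).symm).mul_pow]
    have h1 := hconj n
    rw [Subgroup.mem_center_iff.1 (hc hbn) a, mul_inv_cancel_right] at h1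
    simpa using h1.symm
  have hker : σ.ker = Subgroup.zpowers c :=
    le_antisymm (hd.trans hle) (Subgroup.zpowers_le.2 hck)
  let π₀ : ZMod n →+ Additive ↥σ.ker :=
    ZMod.lift n ⟨zmultiplesHom (Additive ↥σ.ker) (Additive.ofMul ⟨c, hck⟩), by
      simp only [zmultiplesHom_apply, natCast_zsmul]
      apply Additive.toMul.injective
      exact Subtype.ext hcn⟩
  refine ⟨AddMonoidHom.toMultiplicativeLeft π₀, ?_⟩
  rintro ⟨x, hx⟩
  obtain ⟨i, rfl⟩ := Subgroup.mem_zpowers_iff.1 (hker ▸ hx)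
  refine ⟨Multiplicative.ofAdd (i : ZMod n), ?_⟩
  show Additive.toMul (π₀ (i : ZMod n)) = _
  rw [ZMod.lift_coe]
  rfl


/-- For positive integers `m` and `n` with `n` dividing `m`, the Schur multiplier of the abelian group `ZMod m × ZMod n` (written multiplicatively) is cyclic of order `n`. In particular the elementary abelian group of order `p ^ 2` has multiplier of order `p`. -/
theorem result (m n : ℕ) [NeZero m] [NeZero n] (hnm : n ∣ m) : Cfsg.HasCyclicSchurMultiplier (Multiplicative (ZMod m × ZMod n)) n := by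
  let φ₁ : Multiplicative (ZMod m × ZMod n) →* Multiplicative (ZMod n) :=
    ((ZMod.castHom hnm (ZMod n)).toAddMonoidHom.comp (AddMonoidHom.fst (ZMod m) (ZMod n))).toMultiplicative
  let φ₂ : Multiplicative (ZMod m × ZMod n) →* Multiplicative (ZMod n) :=
    (AddMonoidHom.snd (ZMod m) (ZMod n)).toMultiplicative
  have hst : Cfsg.IsStemExtension (Cfsg.Agent.S3950.proj n φ₁ φ₂) :=
    Cfsg.Agent.S3950.isStem n φ₁ φ₂ (Multiplicative.ofAdd (1, 0)) (Multiplicative.ofAdd (0, 1))
      (by simp [φ₁, ZMod.cast_one hnm]) (by simp [φ₂]) (by simp [φ₁]) (by simp [φ₂])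
  refine ⟨⟨Cfsg.Agent.S3950.Cent n φ₁ φ₂, inferInstance, inferInstance,
    Cfsg.Agent.S3950.proj n φ₁ φ₂, hst, ⟨?_⟩⟩, fun Γ _ _ σ hσ => cyclic_bound m n σ hσ⟩
  exact
    { toFun := fun x => Multiplicative.ofAdd x.1.z
      invFun := fun z => ⟨⟨z.toAdd, 1⟩, rfl⟩
      left_inv := fun x => Subtype.ext (Cfsg.Agent.S3950.Cent.ext' rfl (show (1 : _) = x.1.g from x.2.symm))
      right_inv := fun z => rfl
      map_mul' := fun x y => by
        have hx : x.1.g = 1 := x.2
        show Multiplicative.ofAdd (x.1 * y.1).z = _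
        rw [Cfsg.Agent.S3950.Cent.mul_z, hx]
        simp }

end Cfsg.Agent.S3951
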