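import Cfsg.Statements.S3953
import Cfsg.Agent.EqLemmas
import Cfsg.Agent.Lib.SchurCover.Restriction
import Cfsg.Agent.S3952

set_option autoImplicit false
open Cfsg

namespace Cfsg.Agent.S3953

/-- The `p`-part of the multiplier is a summand of the multiplier of a Sylow `p`-subgroup. -/
theorem primary_summand {G : Type*} [Group G] [Finite G] (p : ℕ) [Fact p.Prime] (P : Sylow p G)
    {A B : Type*} [CommGroup A] [CommGroup B] (hA : Cfsg.HasSchurMultiplier G A)
    (hB : Cfsg.HasSchurMultiplier P B) :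
    ∃ C D : Subgroup B, C ⊓ D = ⊥ ∧ C ⊔ D = ⊤ ∧ Nonempty (CommGroup.primaryComponent A p ≃* C) := by
  obtain ⟨res, cor, hrc⟩ := Cfsg.Agent.SchurCover.exists_res_cor (P : Subgroup G)
  obtain ⟨eA⟩ := Cfsg.Agent.SchurCover.nonempty_equiv hA
  obtain ⟨eB⟩ : Nonempty (Cfsg.Agent.SchurCover.mult ↥(P : Subgroup G) ≃* B) :=
    Cfsg.Agent.SchurCover.nonempty_equiv hB
  haveI : Finite A := Finite.of_equiv _ eA.toEquiv
  haveI : Finite B := Finite.of_equiv _ eB.toEquiv
  have hBp : ∀ b : B, ∃ k : ℕ, b ^ p ^ k = 1 := by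
    intro b
    obtain ⟨n, hn⟩ := IsPGroup.iff_card.1 P.isPGroup'
    refine ⟨n, ?_⟩
    have h1 : Monoid.exponent B ^ 2 ∣ Nat.card ↥(P : Subgroup G) := Cfsg.Agent.S3952.result hB
    rw [← orderOf_dvd_iff_pow_eq_one, ← hn]
    exact ((Monoid.order_dvd_exponent b).trans (dvd_pow_self _ two_ne_zero)).trans h1
  let res' : A →* B := eB.toMonoidHom.comp (res.comp eA.symm.toMonoidHom)
  let cor' : B →* A := eA.toMonoidHom.comp (cor.comp eB.symm.toMonoidHom)
  have hcomp : ∀ a, cor' (res' a) = a ^ (P : Subgroup G).index := fun a => by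
    show eA (cor (eB.symm (eB (res (eA.symm a))))) = _
    rw [MulEquiv.symm_apply_apply, hrc, map_pow, MulEquiv.apply_symm_apply]
  set Ap := CommGroup.primaryComponent A p
  let r : B →* Ap := cor'.codRestrict Ap fun b => by
    obtain ⟨k, hk⟩ := hBp b
    exact ⟨k, by rw [← map_pow, hk, map_one]⟩
  let i : Ap →* B := res'.comp Ap.subtype
  have hri : ∀ a, r (i a) = a ^ (P : Subgroup G).index := fun a => Subtype.ext (hcomp a)
  have hcop : (Nat.card Ap).Coprime (P : Subgroup G).index := by
    have hpg : IsPGroup p Ap := fun a => by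
      obtain ⟨k, hk⟩ := a.2
      exact ⟨k, Subtype.ext hk⟩
    obtain ⟨n, hn⟩ := IsPGroup.iff_card.1 hpg
    rw [hn]
    exact (((Fact.out : p.Prime).coprime_iff_not_dvd).2 P.not_dvd_index).pow_left n
  have hbij : Function.Bijective fun a : Ap => r (i a) := by
    have h1 : (fun a : Ap => r (i a)) = powCoprime hcop := funext fun a => hri a
    rw [h1]
    exact (powCoprime hcop).bijective
  refine ⟨i.range, r.ker, ?_, ?_,
    ⟨MonoidHom.ofInjective (Function.Injective.of_comp (f := r) hbij.1)⟩⟩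
  · rw [eq_bot_iff]
    rintro _ ⟨⟨a, rfl⟩, ha⟩
    have h1 : a = 1 := hbij.1 (show r (i a) = r (i 1) by
      rw [MonoidHom.mem_ker.1 ha, map_one, map_one])
    rw [h1, map_one]
    exact Subgroup.one_mem _
  · rw [eq_top_iff]
    intro b _
    obtain ⟨a, ha⟩ := hbij.2 (r b)
    have ha' : r (i a) = r b := ha
    have h1 := Subgroup.mul_mem_sup (S := i.range) (T := r.ker) ⟨a, rfl⟩
      (show (i a)⁻¹ * b ∈ r.ker by rw [MonoidHom.mem_ker, map_mul, map_inv, ha', inv_mul_cancel])
    rwa [mul_inv_cancel_left] at h1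


/-- Let `P` be a Sylow `p`-subgroup of the finite group `G`, let `A` be the Schur multiplier of `G` and `B` that of `P`. Then the `p`-primary component of `A` is isomorphic to a direct factor of `B`: there are subgroups `C` and `D` of `B` meeting trivially and generating `B`, with `C` isomorphic to the `p`-primary component of `A`. -/
theorem result {G : Type*} [Group G] [Finite G] (p : ℕ) [Fact p.Prime] (P : Sylow p G) {A B : Type*} [CommGroup A] [CommGroup B] (hA : Cfsg.HasSchurMultiplier G A) (hB : Cfsg.HasSchurMultiplier P B) : ∃ C D : Subgroup B, C ⊓ D = ⊥ ∧ C ⊔ D = ⊤ ∧ Nonempty (CommGroup.primaryComponent A p ≃* C) := by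
  exact primary_summand p P hA hB

end Cfsg.Agent.S3953
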