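import Cfsg.Statements.S3954
import Cfsg.Agent.EqLemmas
import Cfsg.Agent.Lib.SchurCover.Restriction

set_option autoImplicit false
open Cfsg

namespace Cfsg.Agent.S3954

/-- In finite abelian groups, a quotient is isomorphic to a subgroup. -/
theorem exists_subgroup_equiv_of_surjective {B C : Type*} [CommGroup B] [Finite B] [CommGroup C]
    (f : B →* C) (hf : Function.Surjective f) : ∃ S : Subgroup B, Nonempty (C ≃* S) := by
  haveI : Finite C := Finite.of_surjective f hf
  obtain ⟨eC⟩ := CommGroup.monoidHom_mulEquiv_of_hasEnoughRootsOfUnity C ℂ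
  obtain ⟨eB⟩ := CommGroup.monoidHom_mulEquiv_of_hasEnoughRootsOfUnity B ℂ
  let φ : C →* B := eB.toMonoidHom.comp
    ((MonoidHom.mk' (fun χ : C →* ℂˣ => χ.comp f) (fun _ _ => rfl)).comp eC.symm.toMonoidHom)
  have hφ : Function.Injective φ := by
    intro x y h
    apply eC.symm.injective
    have h1 : (eC.symm x).comp f = (eC.symm y).comp f := eB.injective h
    exact MonoidHom.ext fun c => by
      obtain ⟨b, rfl⟩ := hf c
      exact DFunLike.congr_fun h1 b
  exact ⟨φ.range, ⟨MonoidHom.ofInjective hφ⟩⟩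


/-- Let `U` be a subgroup of index `m` in the finite group `G`, let `A` be the Schur multiplier of `G` and `B` that of `U`. Then the subgroup of `m`-th powers of `A` is isomorphic to a subgroup of `B`. -/
theorem result {G : Type*} [Group G] [Finite G] (U : Subgroup G) {A B : Type*} [CommGroup A] [CommGroup B] (hA : Cfsg.HasSchurMultiplier G A) (hB : Cfsg.HasSchurMultiplier U B) : ∃ C : Subgroup B, Nonempty ((powMonoidHom U.index : A →* A).range ≃* C) := by
  obtain ⟨res, cor, hrc⟩ := Cfsg.Agent.SchurCover.exists_res_cor U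
  obtain ⟨eA⟩ := Cfsg.Agent.SchurCover.nonempty_equiv hA
  obtain ⟨eB⟩ := Cfsg.Agent.SchurCover.nonempty_equiv hB
  haveI : Finite B := Finite.of_equiv _ eB.toEquiv
  let res' : A →* B := eB.toMonoidHom.comp (res.comp eA.symm.toMonoidHom)
  let cor' : B →* A := eA.toMonoidHom.comp (cor.comp eB.symm.toMonoidHom)
  have hcomp : ∀ a, cor' (res' a) = a ^ U.index := fun a => by
    show eA (cor (eB.symm (eB (res (eA.symm a))))) = _
    rw [MulEquiv.symm_apply_apply, hrc, map_pow, MulEquiv.apply_symm_apply]
  let f : res'.range →* (powMonoidHom U.index : A →* A).range :=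
    (cor'.comp res'.range.subtype).codRestrict _ (by
      rintro ⟨_, a, rfl⟩
      exact ⟨a, (hcomp a).symm⟩)
  have hf : Function.Surjective f := by
    rintro ⟨_, a, rfl⟩
    exact ⟨⟨res' a, a, rfl⟩, Subtype.ext (hcomp a)⟩
  obtain ⟨S, ⟨e⟩⟩ := exists_subgroup_equiv_of_surjective f hf
  exact ⟨S.map res'.range.subtype, ⟨e.trans (S.equivMapOfInjective _ res'.range.subtype_injective)⟩⟩

end Cfsg.Agent.S3954
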