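import Cfsg.Statements.S3955
import Cfsg.Agent.EqLemmas
import Cfsg.Agent.Lib.SchurCover.Projective

set_option autoImplicit false
open Cfsg

namespace Cfsg.Agent.S3955

open Cfsg.Agent.SchurCover

/-- Projective representations lift along a covering group. -/
theorem lift_along {Q : Type*} [Group Q] [Finite Q] {Γ : Type*} [Group Γ] [Finite Γ] (σ : Γ →* Q)
    (hσ : Cfsg.IsStemExtension σ) (hcard : Nat.card σ.ker = Nat.card (mult Q)) (n : ℕ)
    (γ : Q →* (GL (Fin n) ℂ ⧸ Subgroup.center (GL (Fin n) ℂ))) :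
    ∃ ρ : Γ →* GL (Fin n) ℂ,
      (QuotientGroup.mk' (Subgroup.center (GL (Fin n) ℂ))).comp ρ = γ.comp σ := by
  obtain ⟨β, hβ⟩ := exists_lift σ hσ.1 hσ.2.1
  obtain ⟨ρ, hρ⟩ := exists_lift_projective γ
  have hbij : Function.Bijective (multMap hβ) :=
    (Nat.bijective_iff_surjective_and_card _).2 ⟨multMap_surjective hσ hβ, hcard.symm⟩
  have hinf : β.ker ⊓ commutator (Pres Q) = ⊥ := by
    rw [eq_bot_iff]
    rintro x ⟨hx1, hx2⟩
    have hxM : x ∈ mult Q := ⟨by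
      show proj Q x = 1
      rw [← hβ, MonoidHom.comp_apply, MonoidHom.mem_ker.1 hx1, map_one], hx2⟩
    have h2 : multMap hβ ⟨x, hxM⟩ = multMap hβ 1 := by
      rw [map_one]
      exact Subtype.ext hx1
    rw [Subgroup.mem_bot]
    exact congrArg Subtype.val (hbij.1 h2)
  have hmem : ∀ x : β.ker, ρ x ∈ Scal n := by
    intro x
    rw [← QuotientGroup.eq_one_iff]
    have h1 : QuotientGroup.mk' (Scal n) (ρ x) = γ (proj Q x) := DFunLike.congr_fun hρ (x : Pres Q)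
    refine h1.trans ?_
    rw [← hβ, MonoidHom.comp_apply, MonoidHom.mem_ker.1 x.2, map_one, map_one]
  obtain ⟨χ, hχ⟩ := exists_extension_to_center β.ker hinf
    ((ρ.comp β.ker.subtype).codRestrict (Scal n) hmem)
  let ρ' : Pres Q →* GL (Fin n) ℂ := MonoidHom.mk' (fun x => ρ x * ((χ x : GL (Fin n) ℂ))⁻¹) (by
    intro a b
    rw [map_mul, map_mul, Subgroup.coe_mul, mul_inv_rev]
    have hc := Subgroup.mem_center_iff.1 (Subgroup.inv_mem _ (χ a).2) (ρ b * ((χ b : GL (Fin n) ℂ))⁻¹)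
    calc ρ a * ρ b * (((χ b : GL (Fin n) ℂ))⁻¹ * ((χ a : GL (Fin n) ℂ))⁻¹)
        = ρ a * (ρ b * ((χ b : GL (Fin n) ℂ))⁻¹ * ((χ a : GL (Fin n) ℂ))⁻¹) := by simp [mul_assoc]
      _ = _ := by rw [hc, ← mul_assoc])
  have hker : β.ker ≤ ρ'.ker := fun x hx => by
    show ρ x * ((χ x : GL (Fin n) ℂ))⁻¹ = 1
    rw [mul_inv_eq_one]
    exact (congrArg Subtype.val (hχ ⟨x, hx⟩)).symm
  refine ⟨MonoidHom.liftOfSurjective β (lift_surjective hσ hβ) ⟨ρ', hker⟩, MonoidHom.ext fun g => ?_⟩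
  obtain ⟨x, rfl⟩ := lift_surjective hσ hβ g
  have h1 : MonoidHom.liftOfSurjective β (lift_surjective hσ hβ) ⟨ρ', hker⟩ (β x) = ρ' x :=
    MonoidHom.liftOfRightInverse_comp_apply β _ (Function.rightInverse_surjInv _) ⟨ρ', hker⟩ x
  rw [MonoidHom.comp_apply, h1, MonoidHom.comp_apply, ← MonoidHom.comp_apply σ β, hβ,
    ← MonoidHom.comp_apply γ (proj Q), ← hρ]
  show QuotientGroup.mk' _ (ρ x * ((χ x : GL (Fin n) ℂ))⁻¹) = _
  have h0 : QuotientGroup.mk' (Scal n) ((χ x : Scal n) : GL (Fin n) ℂ) = 1 :=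
    (QuotientGroup.eq_one_iff _).2 (χ x).2
  rw [map_mul, map_inv, h0, inv_one, mul_one]
  rfl


/-- Let `Q` be a finite group with Schur multiplier `A`, and let `σ : Γ →* Q` be a finite stem extension whose kernel is isomorphic to `A` (a Schur covering group of `Q`). Then every homomorphism `γ` from `Q` to the quotient of `GL n ℂ` by its centre lifts along `σ`: there is a homomorphism `ρ : Γ →* GL n ℂ` which, followed by the quotient map, equals `γ ∘ σ`. -/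
theorem result {Q : Type*} [Group Q] [Finite Q] {A : Type*} [CommGroup A] (hA : Cfsg.HasSchurMultiplier Q A) {Γ : Type*} [Group Γ] [Finite Γ] (σ : Γ →* Q) (hσ : Cfsg.IsStemExtension σ) (hk : Nonempty (σ.ker ≃* A)) (n : ℕ) (γ : Q →* (GL (Fin n) ℂ ⧸ Subgroup.center (GL (Fin n) ℂ))) : ∃ ρ : Γ →* GL (Fin n) ℂ, (QuotientGroup.mk' (Subgroup.center (GL (Fin n) ℂ))).comp ρ = γ.comp σ := by
  obtain ⟨e⟩ := Cfsg.Agent.SchurCover.nonempty_equiv hA
  obtain ⟨eσ⟩ := hk
  exact lift_along σ hσ (Nat.card_congr (eσ.trans e.symm).toEquiv) n γ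

end Cfsg.Agent.S3955
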