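import Cfsg.Statements.S3956
import Cfsg.Agent.EqLemmas
import Cfsg.Agent.Lib.SchurCover.Projective

set_option autoImplicit false
universe u v
open Cfsg

namespace Cfsg.Agent.S3956

open Cfsg.Agent.SchurCover

/-- A stem extension lifting all projective representations has the whole multiplier as kernel. -/
theorem mult_equiv {Q : Type*} [Group Q] [Finite Q] {Γ : Type*} [Group Γ] [Finite Γ] (σ : Γ →* Q)
    (hσ : Cfsg.IsStemExtension σ)
    (hlift : ∀ (n : ℕ) (γ : Q →* (GL (Fin n) ℂ ⧸ Subgroup.center (GL (Fin n) ℂ))),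
      ∃ ρ : Γ →* GL (Fin n) ℂ,
        (QuotientGroup.mk' (Subgroup.center (GL (Fin n) ℂ))).comp ρ = γ.comp σ) :
    Nonempty (mult Q ≃* σ.ker) := by
  obtain ⟨β, hβ⟩ := exists_lift σ hσ.1 hσ.2.1
  refine ⟨MulEquiv.ofBijective (multMap hβ) ⟨?_, multMap_surjective hσ hβ⟩⟩
  rw [injective_iff_map_eq_one]
  rintro ⟨m, hm⟩ hmone
  by_contra hne
  obtain ⟨n, γ, ρ, hρ, hρm⟩ := exists_rep_detecting hm fun h => hne (Subtype.ext h)
  obtain ⟨ρ₁, hρ₁⟩ := hlift n γ
  apply hρm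
  have hmemC : ∀ x, ρ x * (ρ₁ (β x))⁻¹ ∈ Scal n := by
    intro x
    rw [← QuotientGroup.eq_one_iff]
    show QuotientGroup.mk' (Scal n) (ρ x * (ρ₁ (β x))⁻¹) = 1
    rw [map_mul, map_inv, ← MonoidHom.comp_apply, hρ, ← MonoidHom.comp_apply (QuotientGroup.mk' _) ρ₁,
      hρ₁, MonoidHom.comp_apply, MonoidHom.comp_apply, ← MonoidHom.comp_apply σ β, hβ, mul_inv_cancel]
  let δ : Pres Q →* GL (Fin n) ℂ := MonoidHom.mk' (fun x => ρ x * (ρ₁ (β x))⁻¹) (by
    intro a b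
    rw [map_mul, map_mul, map_mul, mul_inv_rev]
    have hc := Subgroup.mem_center_iff.1 (hmemC b) ((ρ₁ (β a))⁻¹)
    calc ρ a * ρ b * ((ρ₁ (β b))⁻¹ * (ρ₁ (β a))⁻¹)
        = ρ a * (ρ b * (ρ₁ (β b))⁻¹ * (ρ₁ (β a))⁻¹) := by simp [mul_assoc]
      _ = ρ a * ((ρ₁ (β a))⁻¹ * (ρ b * (ρ₁ (β b))⁻¹)) := by rw [hc]
      _ = _ := by rw [← mul_assoc])
  have hδ : commutator (Pres Q) ≤ δ.ker := by
    rw [commutator_def, Subgroup.commutator_le]
    intro a _ b _
    rw [MonoidHom.mem_ker, map_commutatorElement, commutatorElement_eq_one_iff_mul_comm]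
    exact (Subgroup.mem_center_iff.1 (hmemC a) (δ b)).symm
  have h1 : ρ m * (ρ₁ (β m))⁻¹ = 1 := hδ (mult_le_commutator Q hm)
  have h2 : β m = 1 := congrArg Subtype.val hmone
  rwa [h2, map_one, inv_one, mul_one] at h1


/-- Let `σ : Γ →* Q` be a finite stem extension of the finite group `Q` such that every homomorphism from `Q` to the quotient of `GL n ℂ` by its centre, for every `n`, lifts along `σ` to a homomorphism `Γ →* GL n ℂ`. Then `σ` is a Schur covering group of `Q`: for every finite stem extension `τ : Δ →* Q` with `Δ` in the same universe as `Q`, the kernel of `τ` is a homomorphic image of the kernel of `σ`. -/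
theorem result {Q : Type u} [Group Q] [Finite Q] {Γ : Type v} [Group Γ] [Finite Γ] (σ : Γ →* Q) (hσ : Cfsg.IsStemExtension σ) (hlift : ∀ (n : ℕ) (γ : Q →* (GL (Fin n) ℂ ⧸ Subgroup.center (GL (Fin n) ℂ))), ∃ ρ : Γ →* GL (Fin n) ℂ, (QuotientGroup.mk' (Subgroup.center (GL (Fin n) ℂ))).comp ρ = γ.comp σ) (Δ : Type u) [Group Δ] [Finite Δ] (τ : Δ →* Q) (hτ : Cfsg.IsStemExtension τ) : ∃ π : σ.ker →* τ.ker, Function.Surjective π := by
  obtain ⟨βτ, hβτ⟩ := Cfsg.Agent.SchurCover.exists_lift τ hτ.1 hτ.2.1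
  obtain ⟨e⟩ := mult_equiv σ hσ hlift
  exact ⟨(Cfsg.Agent.SchurCover.multMap hβτ).comp e.symm.toMonoidHom,
    (Cfsg.Agent.SchurCover.multMap_surjective hτ hβτ).comp e.symm.surjective⟩

end Cfsg.Agent.S3956
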