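import Cfsg.Statements.S3958
import Cfsg.Agent.EqLemmas
import Cfsg.Agent.Lib.SchurCover.Basic

set_option autoImplicit false
universe u v
open Cfsg

namespace Cfsg.Agent.S3958

universe u' v'

/-- A stem extension of a group with trivial multiplier has the whole multiplier as kernel. -/
theorem nonempty_mult_equiv {Q : Type u'} [Group Q] [Finite Q] {Γ : Type v'} [Group Γ] [Finite Γ]
    (σ : Γ →* Q) (hσ : Cfsg.IsStemExtension σ) (hΓ : Cfsg.HasCyclicSchurMultiplier Γ 1) :
    Nonempty (Cfsg.Agent.SchurCover.mult Q ≃* σ.ker) := by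
  obtain ⟨N, hNn, hN, hfin, -, -, hstem, ⟨e'⟩, β, hβ, hcomp⟩ := Cfsg.Agent.SchurCover.exists_cover σ hσ
  set Γ₀ := Cfsg.Agent.SchurCover.Pres Q ⧸ N
  set σ₀ := QuotientGroup.lift N (Cfsg.Agent.SchurCover.proj Q) hN
  have hle : β.ker ≤ σ₀.ker := fun x hx => by
    rw [MonoidHom.mem_ker, ← hcomp, MonoidHom.comp_apply, MonoidHom.mem_ker.1 hx, map_one]
  -- move the covering group into the universe of `Γ`
  haveI : Countable Γ₀ := Finite.to_countable
  let em : Shrink.{v'} Γ₀ ≃* Γ₀ := Shrink.mulEquiv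
  haveI : Finite (Shrink.{v'} Γ₀) := Finite.of_equiv _ em.symm.toEquiv
  have hst : Cfsg.IsStemExtension (β.comp em.toMonoidHom) := by
    refine ⟨hβ.comp em.surjective, fun x hx => ?_, fun x hx => ?_⟩
    · have h1 : em x ∈ Subgroup.center Γ₀ := hstem.2.1 (hle hx)
      rw [Subgroup.mem_center_iff]
      intro g
      apply em.injective
      rw [map_mul, map_mul]
      exact Subgroup.mem_center_iff.1 h1 (em g)
    · have h1 : em x ∈ commutator Γ₀ := hstem.2.2 (hle hx)
      have h2 : em.symm (em x) ∈ (commutator Γ₀).map em.symm.toMonoidHom := Subgroup.mem_map_of_mem _ h1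
      rw [commutator_def, Subgroup.map_commutator, ← MonoidHom.range_eq_map,
        MonoidHom.range_eq_top_of_surjective _ em.symm.surjective, MulEquiv.symm_apply_apply] at h2
      exact h2
  obtain ⟨π, hπ⟩ := hΓ.2 _ _ hst
  have hinj : Function.Injective β := by
    rw [injective_iff_map_eq_one]
    intro x hx
    obtain ⟨a, ha⟩ := hπ ⟨em.symm x, by simp [MonoidHom.mem_ker, hx]⟩
    have h1 : π a = 1 := by
      rw [show a = 1 from Subsingleton.elim (α := ZMod 1) _ _, map_one]
    rw [h1] at ha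
    have h2 := congrArg (fun y : (β.comp em.toMonoidHom).ker => em y) ha
    simpa using h2.symm
  let b : σ₀.ker →* σ.ker := (β.comp σ₀.ker.subtype).codRestrict σ.ker fun x => by
    rw [MonoidHom.mem_ker]
    show (σ.comp β) x.1 = 1
    rw [hcomp]
    exact x.2
  have hb : Function.Bijective b := by
    refine ⟨fun x y h => Subtype.ext (hinj (congrArg Subtype.val h)), ?_⟩
    rintro ⟨y, hy⟩
    obtain ⟨x, rfl⟩ := hβ y
    refine ⟨⟨x, ?_⟩, rfl⟩
    rw [MonoidHom.mem_ker, ← hcomp]
    exact hy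
  exact ⟨e'.trans (MulEquiv.ofBijective b hb)⟩


/-- Let `σ : Γ →* Q` be a finite stem extension of the finite group `Q` with `Γ` of trivial Schur multiplier. Then `σ` is a Schur covering group of `Q`: for every finite stem extension `τ : Δ →* Q` with `Δ` in the same universe as `Q`, the kernel of `τ` is a homomorphic image of the kernel of `σ`. -/
theorem result {Q : Type u} [Group Q] [Finite Q] {Γ : Type v} [Group Γ] [Finite Γ] (σ : Γ →* Q) (hσ : Cfsg.IsStemExtension σ) (hΓ : Cfsg.HasCyclicSchurMultiplier Γ 1) (Δ : Type u) [Group Δ] [Finite Δ] (τ : Δ →* Q) (hτ : Cfsg.IsStemExtension τ) : ∃ π : σ.ker →* τ.ker, Function.Surjective π := by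
  obtain ⟨π⟩ := nonempty_mult_equiv σ hσ hΓ
  obtain ⟨β, hβ⟩ := Cfsg.Agent.SchurCover.exists_lift τ hτ.1 hτ.2.1
  exact ⟨(Cfsg.Agent.SchurCover.multMap hβ).comp π.symm.toMonoidHom,
    (Cfsg.Agent.SchurCover.multMap_surjective hτ hβ).comp π.symm.surjective⟩

end Cfsg.Agent.S3958
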