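import Cfsg.Statements.S3960
import Cfsg.Agent.EqLemmas
import Cfsg.Agent.Lib.SchurCover.Basic

set_option autoImplicit false
universe u
open Cfsg

namespace Cfsg.Agent.S3960

universe u'

open Cfsg.Agent.SchurCover

theorem universal {Q : Type u'} [Group Q] [Finite Q] (hQ : Group.IsPerfect Q) :
    Group.IsPerfect (commutator (Pres Q)) ∧
    Function.Surjective ((proj Q).comp (commutator (Pres Q)).subtype) ∧
    ((proj Q).comp (commutator (Pres Q)).subtype).ker ≤ Subgroup.center (commutator (Pres Q)) ∧
    ∀ (X : Type u') [Group X] (ξ : X →* Q), Function.Surjective ξ → ξ.ker ≤ Subgroup.center X →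
      ∃! η : commutator (Pres Q) →* X, ξ.comp η = (proj Q).comp (commutator (Pres Q)).subtype := by
  set D := commutator (Pres Q) with hD
  have hsurj : Function.Surjective ((proj Q).comp D.subtype) := by
    intro q
    have h1 : q ∈ D.map (proj Q) := by
      rw [hD, commutator_def, Subgroup.map_commutator, ← MonoidHom.range_eq_map,
        MonoidHom.range_eq_top_of_surjective _ (proj_surjective Q), ← commutator_def,
        hQ.commutator_eq_top]
      exact Subgroup.mem_top q
    obtain ⟨x, hx, rfl⟩ := h1
    exact ⟨⟨x, hx⟩, rfl⟩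
  have hc : ((proj Q).comp D.subtype).ker ≤ Subgroup.center D := fun x hx =>
    Subgroup.mem_center_iff.2 fun g => Subtype.ext (Subgroup.mem_center_iff.1 (ker_le_center Q hx) g)
  have hperf : Group.IsPerfect D := by
    rw [Subgroup.isPerfect_iff]
    refine le_antisymm (Subgroup.commutator_le_self D) ?_
    refine Cfsg.Agent.CentralExt.commutator_le_of_mul_center fun g => ?_
    obtain ⟨k, hk⟩ := hsurj (proj Q g)
    refine ⟨k, k.2, ker_le_center Q ?_⟩
    have hk' : proj Q (k : Pres Q) = proj Q g := hk
    rw [MonoidHom.mem_ker, map_mul, map_inv, hk', inv_mul_cancel]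
  refine ⟨hperf, hsurj, hc, fun X _ ξ hξ hξc => ?_⟩
  obtain ⟨β, hβ⟩ := exists_lift ξ hξ hξc
  refine ⟨β.comp D.subtype, by show ξ.comp (β.comp D.subtype) = _; rw [← MonoidHom.comp_assoc, hβ], fun η hη => ?_⟩
  have hz : ∀ a, η a * (β.comp D.subtype a)⁻¹ ∈ Subgroup.center X := fun a => hξc (by
    rw [MonoidHom.mem_ker, map_mul, map_inv, ← MonoidHom.comp_apply, hη, ← MonoidHom.comp_apply,
      ← MonoidHom.comp_assoc, hβ, mul_inv_cancel])
  let δ : D →* X := MonoidHom.mk' (fun a => η a * (β.comp D.subtype a)⁻¹) (by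
    intro a b
    rw [map_mul, map_mul, mul_inv_rev]
    calc η a * η b * ((β.comp D.subtype b)⁻¹ * (β.comp D.subtype a)⁻¹)
        = η a * (η b * (β.comp D.subtype b)⁻¹) * (β.comp D.subtype a)⁻¹ := by simp [mul_assoc]
      _ = η a * ((η b * (β.comp D.subtype b)⁻¹) * (β.comp D.subtype a)⁻¹) := mul_assoc _ _ _
      _ = η a * ((β.comp D.subtype a)⁻¹ * (η b * (β.comp D.subtype b)⁻¹)) := by
          rw [Subgroup.mem_center_iff.1 (hz b) ((β.comp D.subtype a)⁻¹)]
      _ = η a * (β.comp D.subtype a)⁻¹ * (η b * (β.comp D.subtype b)⁻¹) := (mul_assoc _ _ _).symm)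
  have hker : commutator D ≤ δ.ker := by
    rw [commutator_def, Subgroup.commutator_le]
    intro a _ b _
    rw [MonoidHom.mem_ker, map_commutatorElement, commutatorElement_eq_one_iff_mul_comm]
    exact (Subgroup.mem_center_iff.1 (hz a) (δ b)).symm
  rw [hperf.commutator_eq_top] at hker
  exact MonoidHom.ext fun a => mul_inv_eq_one.1 (hker (Subgroup.mem_top a))


/-- A finite perfect group `Q` has a universal central extension: a finite perfect group `G` in the universe of `Q` and a surjective homomorphism `π : G →* Q` with central kernel such that for every group `X` in that universe and every surjective homomorphism `ξ : X →* Q` with central kernel there is exactly one homomorphism `η : G →* X` with `ξ ∘ η = π`. -/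
theorem result {Q : Type u} [Group Q] [Finite Q] (hQ : Group.IsPerfect Q) : ∃ (G : Type u) (_ : Group G) (_ : Finite G) (π : G →* Q), Group.IsPerfect G ∧ Function.Surjective π ∧ π.ker ≤ Subgroup.center G ∧ ∀ (X : Type u) [Group X] (ξ : X →* Q), Function.Surjective ξ → ξ.ker ≤ Subgroup.center X → ∃! η : G →* X, ξ.comp η = π := by
  obtain ⟨hperf, hsurj, hc, huniv⟩ := universal hQ
  haveI : Finite (commutator (Cfsg.Agent.SchurCover.Pres Q)) :=
    Cfsg.Agent.CentralExt.finite_commutator_of_ker_le_center _ (Cfsg.Agent.SchurCover.ker_le_center Q)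
  exact ⟨_, inferInstance, inferInstance, _, hperf, hsurj, hc, fun X _ ξ hξ hξc => huniv X ξ hξ hξc⟩

end Cfsg.Agent.S3960
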