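import Cfsg.Statements.S3962
import Cfsg.Agent.EqLemmas

set_option autoImplicit false
open Cfsg

namespace Cfsg.Agent.S3962

/-- Let `G` be a perfect group and `π : G →* Q` a surjective homomorphism whose kernel is central. Then `π` maps the centre of `G` onto the centre of `Q`. Taking `π` to be the map to `G ⧸ Z(G)` shows that the central quotient of a perfect group has trivial centre. -/
theorem result {G Q : Type*} [Group G] [Group Q] (hG : Group.IsPerfect G) (π : G →* Q) (hπ : Function.Surjective π) (hker : π.ker ≤ Subgroup.center G) : (Subgroup.center G).map π = Subgroup.center Q := by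
  ext q
  constructor
  · rintro ⟨g, hg, rfl⟩
    rw [Subgroup.mem_center_iff]
    intro a
    obtain ⟨b, rfl⟩ := hπ a
    rw [← map_mul, ← map_mul, Subgroup.mem_center_iff.mp hg b]
  · intro hq
    obtain ⟨g, rfl⟩ := hπ q
    refine ⟨g, ?_, rfl⟩
    rw [SetLike.mem_coe, Subgroup.mem_center_iff]
    have hc : ∀ x : G, g * x * g⁻¹ * x⁻¹ ∈ Subgroup.center G := fun x => hker (by
      rw [MonoidHom.mem_ker, map_mul, map_mul, map_mul, map_inv, map_inv,
        ← Subgroup.mem_center_iff.mp hq (π x)]
      group)
    let f : G →* Subgroup.center G :=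
      { toFun := fun x => ⟨g * x * g⁻¹ * x⁻¹, hc x⟩
        map_one' := by ext; simp
        map_mul' := fun x y => by
          ext
          push_cast
          calc g * (x * y) * g⁻¹ * (x * y)⁻¹
              = g * x * g⁻¹ * ((g * y * g⁻¹ * y⁻¹) * x⁻¹) := by group
            _ = g * x * g⁻¹ * (x⁻¹ * (g * y * g⁻¹ * y⁻¹)) := by
                rw [Subgroup.mem_center_iff.mp (hc y) x⁻¹]
            _ = g * x * g⁻¹ * x⁻¹ * (g * y * g⁻¹ * y⁻¹) := by group }
    have hf : commutator G ≤ f.ker := by
      rw [commutator_def, Subgroup.commutator_le]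
      intro a _ b _
      rw [MonoidHom.mem_ker, map_commutatorElement, commutatorElement_eq_one_iff_commute]
      exact Subtype.ext (Subgroup.mem_center_iff.mp (f b).2 _)
    intro x
    have h1 : f x = 1 := hf (by rw [Group.IsPerfect.commutator_eq_top]; trivial)
    have h2 : g * x * g⁻¹ * x⁻¹ = 1 := congrArg Subtype.val h1
    have h3 := congrArg (fun z => z * x * g) h2
    simpa [mul_assoc] using h3.symm

end Cfsg.Agent.S3962
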