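import Cfsg.Statements.S3961
import Cfsg.Agent.Lib.CentralExt.Basic
import Cfsg.Agent.Lib.StemTwoGen.Basic
import Cfsg.Agent.S3962

set_option autoImplicit false
universe u v
open Cfsg Cfsg.Agent
open scoped commutatorElement

namespace Cfsg.Agent.S3961

/-- Let `π : G →* Q` be a surjective homomorphism with central kernel from a finite perfect group `G` (a perfect cover of `Q`). Then `π` is universal, in the sense that every surjective homomorphism `ξ : X →* Q` with central kernel from a group `X` in the universe of `G` admits a homomorphism `η : G →* X` with `ξ ∘ η = π`, if and only if `G` has trivial Schur multiplier. -/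
theorem result {G : Type u} {Q : Type v} [Group G] [Group Q] [Finite G] (hG : Group.IsPerfect G) (π : G →* Q) (hπ : Function.Surjective π) (hker : π.ker ≤ Subgroup.center G) : (∀ (X : Type u) [Group X] (ξ : X →* Q), Function.Surjective ξ → ξ.ker ≤ Subgroup.center X → ∃ η : G →* X, ξ.comp η = π) ↔ Cfsg.HasCyclicSchurMultiplier G 1 := by
  have hGtop : commutator G = ⊤ := Group.IsPerfect.commutator_eq_top
  constructor
  · intro huniv
    refine StemTwoGen.hasCyclic_one (fun Γ _ _ σ hσ => ?_)
    obtain ⟨hs, hc, hd⟩ := hσ
    have hΓ : commutator Γ = ⊤ := by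
      have h1 : (commutator Γ).map σ = ⊤ := by
        rw [commutator_def, Subgroup.map_commutator, ← MonoidHom.range_eq_map,
          MonoidHom.range_eq_top.mpr hs, ← commutator_def, hGtop]
      have h2 := Subgroup.comap_map_eq_self hd
      rw [h1, Subgroup.comap_top] at h2
      exact h2.symm
    have hker' : (π.comp σ).ker ≤ Subgroup.center Γ := by
      intro g hg
      have h1 : σ g ∈ Subgroup.center G := hker hg
      rw [← Cfsg.Agent.S3962.result (Group.isPerfect_def.mpr hΓ) σ hs hc] at h1
      obtain ⟨z, hz, hze⟩ := h1
      have : z⁻¹ * g ∈ σ.ker := by rw [MonoidHom.mem_ker, map_mul, map_inv, hze, inv_mul_cancel]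
      simpa using (Subgroup.center Γ).mul_mem hz (hc this)
    obtain ⟨η, hη⟩ := huniv Γ (π.comp σ) (hπ.comp hs) hker'
    have hid : ∀ x, σ (η x) = x := by
      let f : G →* Subgroup.center G :=
        { toFun := fun x => ⟨x⁻¹ * σ (η x), hker (by
            rw [MonoidHom.mem_ker, map_mul, map_inv]
            have : π (σ (η x)) = π x := DFunLike.congr_fun hη x
            rw [this, inv_mul_cancel])⟩
          map_one' := by ext; simp
          map_mul' := fun x y => by
            have hx : x⁻¹ * σ (η x) ∈ Subgroup.center G := hker (by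
              rw [MonoidHom.mem_ker, map_mul, map_inv]
              have : π (σ (η x)) = π x := DFunLike.congr_fun hη x
              rw [this, inv_mul_cancel])
            ext
            push_cast
            rw [map_mul, map_mul, mul_inv_rev]
            calc y⁻¹ * x⁻¹ * (σ (η x) * σ (η y)) = y⁻¹ * (x⁻¹ * σ (η x)) * σ (η y) := by group
              _ = (x⁻¹ * σ (η x)) * y⁻¹ * σ (η y) := by rw [Subgroup.mem_center_iff.mp hx]
              _ = _ := by group }
      intro x
      have hf : commutator G ≤ f.ker := by
        rw [commutator_def, Subgroup.commutator_le]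
        intro a _ b _
        rw [MonoidHom.mem_ker, map_commutatorElement, commutatorElement_eq_one_iff_commute]
        exact Subtype.ext (Subgroup.mem_center_iff.mp (f b).2 _)
      have h1 : x⁻¹ * σ (η x) = 1 := congrArg Subtype.val (show f x = 1 from hf (hGtop ▸ Subgroup.mem_top x))
      exact (eq_of_inv_mul_eq_one h1).symm
    have hall : commutator Γ ≤ η.range := by
      refine (CentralExt.commutator_le_of_mul_center (K := η.range) (fun g => ⟨η (σ g), ⟨_, rfl⟩, hc ?_⟩)).trans
        (Subgroup.commutator_le_self _)
      rw [MonoidHom.mem_ker, map_mul, map_inv, hid, inv_mul_cancel]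
    rw [eq_bot_iff]
    intro g hg
    obtain ⟨x, rfl⟩ := hall (hd hg)
    rw [MonoidHom.mem_ker, hid] at hg
    rw [Subgroup.mem_bot, hg, map_one]
  · intro hM X _ ξ hξ hξk
    let Y : Subgroup (G × X) := MonoidHom.eqLocus (π.comp (MonoidHom.fst G X)) (ξ.comp (MonoidHom.snd G X))
    let p1 : Y →* G := (MonoidHom.fst G X).comp Y.subtype
    have hp1 : Function.Surjective p1 := by
      intro g
      obtain ⟨x, hx⟩ := hξ (π g)
      exact ⟨⟨(g, x), hx.symm⟩, rfl⟩
    have hp1k : p1.ker ≤ Subgroup.center Y := by
      intro y hy
      rw [Subgroup.mem_center_iff]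
      intro w
      have hy1 : (y : G × X).1 = 1 := hy
      have hy2 : (y : G × X).2 ∈ Subgroup.center X := hξk (by
        have := y.2
        change π (y : G × X).1 = ξ (y : G × X).2 at this
        rw [hy1, map_one] at this
        exact this.symm)
      refine Subtype.ext (Prod.ext ?_ ?_)
      · simp [hy1]
      · exact Subgroup.mem_center_iff.mp hy2 _
    haveI := CentralExt.finite_commutator_of_ker_le_center p1 hp1k
    let σ : commutator Y →* G := p1.comp (commutator Y).subtype
    have hσs : Function.Surjective σ := by
      have h1 : (commutator Y).map p1 = ⊤ := by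
        rw [commutator_def, Subgroup.map_commutator, ← MonoidHom.range_eq_map,
          MonoidHom.range_eq_top.mpr hp1, ← commutator_def, hGtop]
      intro g
      obtain ⟨y, hy, rfl⟩ := h1 ▸ Subgroup.mem_top g
      exact ⟨⟨y, hy⟩, rfl⟩
    have hstem : Cfsg.IsStemExtension σ := by
      refine ⟨hσs, fun y hy => ?_, ?_⟩
      · rw [Subgroup.mem_center_iff]
        intro w
        exact Subtype.ext (Subgroup.mem_center_iff.mp (hp1k hy) _)
      · have hp : Group.IsPerfect (commutator Y) := by
          refine CentralExt.isPerfect_of_mul_center (fun y => ?_) rfl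
          obtain ⟨w, hw⟩ := hσs (p1 y)
          refine ⟨w, w.2, hp1k ?_⟩
          rw [MonoidHom.mem_ker, map_mul, map_inv]
          show (σ w)⁻¹ * p1 y = 1
          rw [hw, inv_mul_cancel]
        rw [Group.IsPerfect.commutator_eq_top (G := commutator Y)]
        exact le_top
    obtain ⟨τ, hτ⟩ := hM.2 _ σ hstem
    have hinj : Function.Injective σ := by
      rw [← MonoidHom.ker_eq_bot_iff, eq_bot_iff]
      intro y hy
      obtain ⟨a, ha⟩ := hτ ⟨y, hy⟩
      rw [Subsingleton.elim a 1, map_one] at ha
      exact Subgroup.mem_bot.mpr (congrArg Subtype.val ha).symm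
    let e := MulEquiv.ofBijective σ ⟨hinj, hσs⟩
    refine ⟨((MonoidHom.snd G X).comp (Y.subtype.comp (commutator Y).subtype)).comp e.symm.toMonoidHom, ?_⟩
    ext g
    have h1 := (e.symm g).1.2
    change π _ = ξ _ at h1
    show ξ _ = π g
    conv_rhs => rw [← show σ (e.symm g) = g from e.apply_symm_apply g]
    exact h1.symm

end Cfsg.Agent.S3961
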