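import Cfsg.Statements.S3963
import Cfsg.Agent.Lib.StemTwoGen.Basic

set_option autoImplicit false
open Cfsg Cfsg.Agent.StemTwoGen

namespace Cfsg.Agent.S3963

/-- For every `n ≥ 1` the dicyclic (generalized quaternion) group of order `4 n` has trivial Schur multiplier. -/
theorem result (n : ℕ) [NeZero n] : Cfsg.HasCyclicSchurMultiplier (QuaternionGroup n) 1 := by
  refine hasCyclic_one (fun Γ _ _ σ hσ => ?_)
  obtain ⟨A, hA⟩ := hσ.1 (QuaternionGroup.a 1)
  obtain ⟨X, hX⟩ := hσ.1 (QuaternionGroup.xa 0)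
  have hord : orderOf (σ A) = 2 * n := by rw [hA]; exact QuaternionGroup.orderOf_a_one
  have hcen : (X * X) * (A ^ n)⁻¹ ∈ σ.ker := by
    rw [MonoidHom.mem_ker, map_mul, map_mul, map_inv, map_pow, hX, hA, QuaternionGroup.a_one_pow,
      QuaternionGroup.xa_mul_xa]
    simp
  have hrel : σ X * σ A * (σ X)⁻¹ = (σ A)⁻¹ := by rw [hA, hX]; exact quaternion_rel n
  refine ker_le_bot hσ A X (by rw [hA, hX]; exact closure_pair_quaternion n) hrel n ?_ ?_
  · have h1 : Commute X ((X * X) * (A ^ n)⁻¹) := Subgroup.mem_center_iff.mp (hσ.2.1 hcen) X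
    have h2 := (((Commute.refl X).mul_right (Commute.refl X)).inv_right).mul_right h1
    have e : ((X * X)⁻¹ * (X * X * (A ^ n)⁻¹))⁻¹ = A ^ n := by group
    exact e ▸ h2.inv_right
  · have h2 : σ (X * A * X⁻¹ * A⁻¹) = (σ A ^ 2)⁻¹ := by
      rw [map_mul, map_mul, map_mul, map_inv, map_inv, hrel, sq, mul_inv_rev]
    rw [h2, orderOf_inv, orderOf_pow, hord, Nat.gcd_eq_right (dvd_mul_right 2 n),
      Nat.mul_div_cancel' (dvd_mul_right 2 n)]

end Cfsg.Agent.S3963
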