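import Cfsg.Statements.S3964
import Cfsg.Agent.Lib.StemTwoGen.Basic

set_option autoImplicit false
open Cfsg Cfsg.Agent.StemTwoGen

namespace Cfsg.Agent.S3964

/-- For odd `n` the dihedral group of order `2 n` has trivial Schur multiplier. -/
theorem result (n : ℕ) (hn : Odd n) : Cfsg.HasCyclicSchurMultiplier (DihedralGroup n) 1 := by
  haveI : NeZero n := ⟨by rintro rfl; simp at hn⟩
  refine hasCyclic_one (fun Γ _ _ σ hσ => ?_)
  obtain ⟨A, hA⟩ := hσ.1 (DihedralGroup.r 1)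
  obtain ⟨X, hX⟩ := hσ.1 (DihedralGroup.sr 0)
  have hord : orderOf (σ A) = n := by rw [hA]; exact DihedralGroup.orderOf_r_one
  have hrel : σ X * σ A * (σ X)⁻¹ = (σ A)⁻¹ := by rw [hA, hX]; exact dihedral_rel n
  have hcen : A ^ n ∈ σ.ker := by
    rw [MonoidHom.mem_ker, map_pow, orderOf_dvd_iff_pow_eq_one.mp hord.dvd]
  refine ker_le_bot hσ A X (by rw [hA, hX]; exact closure_pair_dihedral n) hrel n
    (Subgroup.mem_center_iff.mp (hσ.2.1 hcen) X) ?_
  have h2 : σ (X * A * X⁻¹ * A⁻¹) = (σ A ^ 2)⁻¹ := by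
    rw [map_mul, map_mul, map_mul, map_inv, map_inv, hrel, sq, mul_inv_rev]
  rw [h2, orderOf_inv, orderOf_pow, hord, Nat.Coprime.gcd_eq_one (Nat.coprime_two_right.mpr hn), Nat.div_one]

end Cfsg.Agent.S3964
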