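import Cfsg.Statements.S3965
import Cfsg.Agent.Lib.StemTwoGen.Basic
import Cfsg.Agent.S3966

set_option autoImplicit false
open Cfsg Cfsg.Agent.StemTwoGen

namespace Cfsg.Agent.S3965

/-- For even `n ≥ 2` the dihedral group of order `2 n` has Schur multiplier cyclic of order `2`. -/
theorem result (n : ℕ) [NeZero n] (hn : Even n) : Cfsg.HasCyclicSchurMultiplier (DihedralGroup n) 2 := by
  refine ⟨?_, fun Γ _ _ σ hσ => ?_⟩
  · obtain ⟨σ, hσ, hc⟩ := Cfsg.Agent.S3966.result n hn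
    haveI : Fact (Nat.Prime 2) := ⟨Nat.prime_two⟩
    exact ⟨QuaternionGroup n, inferInstance, inferInstance, σ, hσ,
      ⟨mulEquivOfPrimeCardEq (p := 2) hc (by simp [Nat.card_congr Multiplicative.toAdd])⟩⟩
  obtain ⟨A, hA⟩ := hσ.1 (DihedralGroup.r 1)
  obtain ⟨X, hX⟩ := hσ.1 (DihedralGroup.sr 0)
  have hord : orderOf (σ A) = n := by rw [hA]; exact DihedralGroup.orderOf_r_one
  have hrel : σ X * σ A * (σ X)⁻¹ = (σ A)⁻¹ := by rw [hA, hX]; exact dihedral_rel n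
  have hcen : A ^ n ∈ σ.ker := by
    rw [MonoidHom.mem_ker, map_pow, orderOf_dvd_iff_pow_eq_one.mp hord.dvd]
  have hz : X * A * X⁻¹ * A ∈ Subgroup.center Γ := hσ.2.1 (by
    rw [MonoidHom.mem_ker, map_mul, map_mul, map_mul, map_inv, hrel, inv_mul_cancel])
  obtain ⟨k, hk⟩ := hn
  have h2 : σ (X * A * X⁻¹ * A⁻¹) = (σ A ^ 2)⁻¹ := by
    rw [map_mul, map_mul, map_mul, map_inv, map_inv, hrel, sq, mul_inv_rev]
  have ho : orderOf (σ (X * A * X⁻¹ * A⁻¹)) = k := by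
    rw [h2, orderOf_inv, orderOf_pow, hord, hk, ← two_mul, Nat.gcd_eq_right (dvd_mul_right 2 k),
      Nat.mul_div_cancel_left _ two_pos]
  have hn2 := pow_comm_eq_one A X n hz (Subgroup.mem_center_iff.mp (hσ.2.1 hcen) X)
  set c := X * A * X⁻¹ * A⁻¹
  have hd : c ^ k ∈ σ.ker := by
    rw [MonoidHom.mem_ker, map_pow, orderOf_dvd_iff_pow_eq_one.mp ho.dvd]
  let d : σ.ker := ⟨c ^ k, hd⟩
  have hd2 : d ^ 2 = 1 := Subtype.ext (by simp [d, ← pow_mul, mul_two, ← hk, hn2])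
  let f : {f : ℤ →+ Additive σ.ker // f ((2 : ℕ) : ℤ) = 0} :=
    ⟨zmultiplesHom _ (Additive.ofMul d), by
      rw [zmultiplesHom_apply, natCast_zsmul, ← ofMul_pow, hd2]; rfl⟩
  refine ⟨AddMonoidHom.toMultiplicativeLeft (ZMod.lift 2 f), fun g => ?_⟩
  have hg := g.2
  obtain ⟨j, hj⟩ := Subgroup.mem_zpowers_iff.mp (ker_le_zpowers hσ A X
    (by rw [hA, hX]; exact closure_pair_dihedral n) hrel g.2)
  rw [← hj, MonoidHom.mem_ker, map_zpow, ← orderOf_dvd_iff_zpow_eq_one, ho] at hg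
  obtain ⟨t, rfl⟩ := hg
  refine ⟨Multiplicative.ofAdd (t : ZMod 2), ?_⟩
  apply Subtype.ext
  rw [← hj, zpow_mul, zpow_natCast]
  show ((Additive.toMul ((ZMod.lift 2 f) ((t : ℤ) : ZMod 2))) : σ.ker).1 = _
  rw [ZMod.lift_coe, show f.1 t = t • Additive.ofMul d from rfl, toMul_zsmul]
  rfl

end Cfsg.Agent.S3965
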