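import Cfsg.Statements.S3967
import Cfsg.Agent.Lib.StemMetacyclic.Model

set_option autoImplicit false
open Cfsg

namespace Cfsg.Agent.S3967

/-- Let `m, n ≥ 1`, `r ≥ 1` with `r ^ n ≡ 1 (mod m)`, and `l` a natural number; put `d = gcd(m, r - 1)`, `t = m l / d` and `h = d · gcd(m, 1 + r + ⋯ + r^(n-1)) / m`. The group presented by generators `a, b` and relations `a ^ m = 1`, `b ^ n = a ^ t`, `b a b⁻¹ = a ^ r` (a metacyclic group of order `m n`) has Schur multiplier cyclic of order `gcd(l, h)`. -/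
theorem result (m n r l : ℕ) (hm : 0 < m) (hn : 0 < n) (hr : 0 < r) (hrn : r ^ n ≡ 1 [MOD m]) : Cfsg.HasCyclicSchurMultiplier (PresentedGroup ({FreeGroup.of true ^ m, (FreeGroup.of false) ^ n * (FreeGroup.of true ^ (m * l / Nat.gcd m (r - 1)))⁻¹, FreeGroup.of false * FreeGroup.of true * (FreeGroup.of false)⁻¹ * (FreeGroup.of true ^ r)⁻¹} : Set (FreeGroup Bool))) (Nat.gcd l (Nat.gcd m (r - 1) * Nat.gcd m (∑ i ∈ Finset.range n, r ^ i) / m)) := by
  obtain ⟨d, hd⟩ : ∃ d, d = Nat.gcd m (r - 1) := ⟨_, rfl⟩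
  set S := ∑ i ∈ Finset.range n, r ^ i with hSdef
  have hdpos : 0 < d := hd ▸ Nat.gcd_pos_of_pos_left _ hm
  obtain ⟨m', hm'⟩ : d ∣ m := hd ▸ Nat.gcd_dvd_left _ _
  obtain ⟨r', hr'⟩ : d ∣ r - 1 := hd ▸ Nat.gcd_dvd_right _ _
  have hm'pos : 0 < m' := by
    rcases Nat.eq_zero_or_pos m' with h | h
    · rw [h, mul_zero] at hm'; omega
    · exact h
  have hcop : Nat.Coprime m' r' := by
    have h1 : Nat.gcd m (r - 1) = d * Nat.gcd m' r' := by rw [hm', hr', Nat.gcd_mul_left]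
    rw [← hd] at h1
    exact (Nat.eq_of_mul_eq_mul_left hdpos (by rw [← h1, mul_one])).symm
  have hreq : r = d * r' + 1 := by omega
  have hdS : m ∣ d * S := by
    have h1 : m ∣ r ^ n - 1 := (Nat.modEq_iff_dvd' (Nat.one_le_pow _ _ hr)).mp hrn.symm
    have h2 : (r - 1) * S + 1 = r ^ n := by
      have := geom_sum_mul_add (r - 1) n
      rw [Nat.sub_add_cancel (show 1 ≤ r by omega)] at this
      rw [← this, mul_comm]
    have h3 : m ∣ (r - 1) * S := by rwa [← h2, Nat.add_sub_cancel] at h1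
    rw [hd, ← Nat.gcd_mul_right]
    exact Nat.dvd_gcd (Dvd.intro _ rfl) h3
  have hde : m ∣ d * Nat.gcd m S := by
    rw [← Nat.gcd_mul_left]
    exact Nat.dvd_gcd (Dvd.intro_left _ rfl) hdS
  obtain ⟨h, hh⟩ := hde
  have he : Nat.gcd m S = m' * h := Nat.eq_of_mul_eq_mul_left hdpos (by rw [hh, hm', mul_assoc])
  have hh' : d * Nat.gcd m S / m = h := by rw [hh, Nat.mul_div_cancel_left _ hm]
  have ht : m * l / d = m' * l := by rw [hm', mul_assoc, Nat.mul_div_cancel_left _ hdpos]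
  have hhd : h ∣ d := by
    have h1 : m' * h ∣ m' * d := by rw [← he, mul_comm m' d, ← hm']; exact Nat.gcd_dvd_left _ _
    exact Nat.dvd_of_mul_dvd_mul_left hm'pos h1
  rw [← hd, hh', ht]
  set N := Nat.gcd l h with hN
  have hNpos : 0 < N := Nat.gcd_pos_of_pos_right _ (Nat.pos_of_dvd_of_pos hhd hdpos)
  obtain ⟨q, hq⟩ : N ∣ d := (Nat.gcd_dvd_right _ _).trans hhd
  obtain ⟨q₂, hq₂⟩ : m' * N ∣ S :=
    (mul_dvd_mul_left m' (Nat.gcd_dvd_right l h)).trans (he ▸ Nat.gcd_dvd_right m S)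
  obtain ⟨q₃, hq₃⟩ : N ∣ l := Nat.gcd_dvd_left _ _
  obtain ⟨z, u, hzu⟩ := Int.isCoprime_iff_gcd_eq_one.mpr (show Int.gcd (m' : ℤ) (r' : ℤ) = 1 by
    rw [Int.gcd_natCast_natCast]; exact hcop)
  let P : Agent.StemMetacyclic.Params := ⟨m, n, r, l, d, m', r', N, u, z, q, q₂, q₃, hm', hreq,
    by linear_combination hzu, hq, hq₂, hq₃, hn, hm, hNpos⟩
  refine ⟨Agent.StemMetacyclic.exists_stem P, fun Γ _ _ σ hσ => ?_⟩
  exact Agent.StemMetacyclic.exists_surjective σ hσ hm' hreq hcop hdpos he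
    (Agent.StemMetacyclic.ga P) (Agent.StemMetacyclic.gb P) (Agent.StemMetacyclic.closure_gens P)
    (Agent.StemMetacyclic.orderOf_ga P) hm (Agent.StemMetacyclic.gb_conj P) (Agent.StemMetacyclic.gb_pow P)

end Cfsg.Agent.S3967
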