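import Cfsg.Statements.S3968
import Cfsg.Agent.Lib.CharApp.Burnside
import Cfsg.Agent.Lib.Char.Integral
import Cfsg.Agent.Lib.Char.Linear

set_option autoImplicit false
open Cfsg

namespace Cfsg.Agent.S3968

/-- Let `p` be a prime and `G` a finite group with a faithful irreducible complex character of degree `p` (so `G` is an irreducible linear group in `p` variables). If `p ^ 2` divides the order of `G`, then the centre of `G` is nontrivial. -/
theorem result {G : Type*} [Group G] [Finite G] (p : ℕ) (hp : p.Prime) (χ : Cfsg.IrrCharacter G) (hdeg : χ.1 1 = p) (hfaith : ∀ g : G, χ.1 g = χ.1 1 → g = 1) (hdiv : p ^ 2 ∣ Nat.card G) : Subgroup.center G ≠ ⊥ := by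
  classical
  haveI : Fact p.Prime := ⟨hp⟩
  obtain ⟨d, ρ, hirr, hρ⟩ := χ.2
  haveI := hirr
  have hd : d = p := by
    have h1 := congrFun hρ 1
    rw [Representation.char_one, Module.finrank_fin_fun, hdeg] at h1
    exact_mod_cast h1
  have hinj : Function.Injective ρ := by
    intro a b hab
    have h1 : ρ (a⁻¹ * b) = 1 := by rw [map_mul, ← hab, ← map_mul, inv_mul_cancel, map_one]
    have h2 : χ.1 (a⁻¹ * b) = χ.1 1 := by
      rw [← hρ]
      show LinearMap.trace ℂ _ (ρ (a⁻¹ * b)) = LinearMap.trace ℂ _ (ρ 1)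
      rw [h1, map_one ρ]
    exact inv_mul_eq_one.mp (hfaith _ h2)
  intro hZ
  obtain ⟨P⟩ := (inferInstance : Nonempty (Sylow p G))
  -- `χ` vanishes on the non-identity elements of `Z(P)`
  have hvan : ∀ x ∈ (P : Subgroup G), (∀ y ∈ (P : Subgroup G), x * y = y * x) → x ≠ 1 → χ.1 x = 0 := by
    intro x _ hx hx1
    have hidx : ¬ p ∣ (Subgroup.centralizer ({x} : Set G)).index := fun h =>
      P.not_dvd_index (h.trans (Subgroup.index_dvd_of_le (fun y hy => Subgroup.mem_centralizer_singleton_iff.mpr (hx y hy).symm)))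
    have hcop : Nat.Coprime (Module.finrank ℂ (Fin d → ℂ)) (Subgroup.centralizer ({x} : Set G)).index := by
      rw [Module.finrank_fin_fun, hd]; exact hp.coprime_iff_not_dvd.mpr hidx
    rcases Cfsg.Agent.CharApp.zero_or_norm_eq_of_coprime ρ x hcop with h | h
    · rw [← hρ]; exact h
    · exfalso
      obtain ⟨c, hc⟩ := (Cfsg.Agent.Char.norm_character_eq_iff ρ x).mp h
      have hxc : x ∈ Subgroup.center G := by
        rw [Subgroup.mem_center_iff]
        intro g
        apply hinj
        rw [map_mul, map_mul, hc]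
        simp [← Module.End.one_eq_id]
      rw [hZ, Subgroup.mem_bot] at hxc
      exact hx1 hxc
  set Z : Subgroup G := (Subgroup.center (P : Subgroup G)).map (P : Subgroup G).subtype with hZdef
  have hZmem : ∀ z : G, z ∈ Z → z ∈ (P : Subgroup G) ∧ ∀ y ∈ (P : Subgroup G), z * y = y * z := by
    rintro z ⟨w, hw, rfl⟩
    exact ⟨w.2, fun y hy => (congrArg Subtype.val (Subgroup.mem_center_iff.mp hw ⟨y, hy⟩)).symm⟩
  letI : Fintype Z := Fintype.ofFinite _
  have hcharZ : IsCharacter Z (fun z => χ.1 z) :=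
    Cfsg.Agent.Char.IsCharacter.restrict (Cfsg.Agent.Char.IsIrrCharacter.isCharacter χ.2) Z
  obtain ⟨m, hm⟩ := Cfsg.Agent.Char.IsCharacter.classInner_nat hcharZ Cfsg.Agent.Char.isCharacter_one
  rw [Cfsg.classInner, Finset.sum_eq_single (1 : Z) (fun z _ hz => by
      rw [hvan z (hZmem z z.2).1 (hZmem z z.2).2 (fun e => hz (Subtype.ext e)), zero_mul])
    (fun h => absurd (Finset.mem_univ _) h)] at hm
  simp only [Pi.one_apply, map_one, mul_one, Subgroup.coe_one, hdeg] at hm
  have hmz : m * Nat.card Z = p := by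
    have hne : (Fintype.card Z : ℂ) ≠ 0 := by exact_mod_cast Fintype.card_ne_zero
    have h1 : (m : ℂ) * (Nat.card Z : ℂ) = (p : ℂ) := by
      rw [← hm, Nat.card_eq_fintype_card]
      field_simp
    exact_mod_cast h1
  have hpP : Nontrivial (P : Subgroup G) := by
    rw [Subgroup.nontrivial_iff_ne_bot]
    exact P.ne_bot_of_dvd_card ((dvd_pow_self p two_ne_zero).trans hdiv)
  have hZcard : Nat.card Z = p := by
    rcases hp.eq_one_or_self_of_dvd _ ⟨m, by rw [← hmz, mul_comm]⟩ with h | h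
    · exfalso
      haveI := P.isPGroup'.center_nontrivial
      rw [hZdef, Subgroup.card_map_of_injective (Subgroup.subtype_injective _)] at h
      exact absurd h (Finite.one_lt_card (α := Subgroup.center (P : Subgroup G))).ne'
    · exact h
  -- `P` is not abelian
  have hnc : ¬ ∀ a b : (P : Subgroup G), a * b = b * a := by
    intro h
    have hPZ : (P : Subgroup G) ≤ Z := fun y hy => ⟨⟨y, hy⟩, Subgroup.mem_center_iff.mpr (fun w => h w _), rfl⟩
    have h2 : p ^ 2 ∣ Nat.card Z := by
      refine Dvd.dvd.trans ?_ (Subgroup.card_dvd_of_le hPZ)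
      rw [Sylow.card_eq_multiplicity]
      exact pow_dvd_pow p ((hp.pow_dvd_iff_le_factorization Nat.card_pos.ne').mp hdiv)
    rw [hZcard] at h2
    have := Nat.le_of_dvd hp.pos h2
    nlinarith [hp.two_le]
  letI : Fintype (P : Subgroup G) := Fintype.ofFinite _
  letI : Fintype (IrrCharacter (P : Subgroup G)) := Fintype.ofFinite _
  obtain ⟨a, hdec, -⟩ := Cfsg.Agent.Char.IsCharacter.decompose
    (Cfsg.Agent.Char.IsCharacter.restrict (Cfsg.Agent.Char.IsIrrCharacter.isCharacter χ.2) (P : Subgroup G))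
  have hval : ∀ y : (P : Subgroup G), χ.1 y = ∑ φ : IrrCharacter (P : Subgroup G), (a φ : ℂ) * φ.1 y := by
    intro y
    have := congrFun hdec y
    simpa using this
  have hdeg' : ∀ φ : IrrCharacter (P : Subgroup G),
      ∃ n : ℕ, φ.1 1 = (n : ℂ) ∧ 0 < n ∧ n ∣ Nat.card (P : Subgroup G) := fun φ => by
    obtain ⟨n, h1, h2, h3⟩ := Cfsg.Agent.Char.IsIrrCharacter.degree_dvd_card φ.2
    exact ⟨n, h2, h1, h3⟩
  choose e he hed using hdeg'
  have hsum : p = ∑ φ : IrrCharacter (P : Subgroup G), a φ * e φ := by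
    have := hval 1
    rw [Subgroup.coe_one, hdeg] at this
    simp only [he] at this
    exact_mod_cast this
  obtain ⟨z, hz, hz1⟩ := Subgroup.bot_or_exists_ne_one Z |>.resolve_left (fun h => by
    rw [h, Subgroup.card_bot] at hZcard
    exact hp.ne_one hZcard.symm)
  obtain ⟨hzP, hzc⟩ := hZmem z hz
  have hχz : χ.1 z = 0 := hvan z hzP hzc hz1
  by_cases hbig : ∃ φ, a φ ≠ 0 ∧ e φ ≠ 1
  · obtain ⟨φ, hφa, hφe⟩ := hbig
    obtain ⟨n, hn⟩ := IsPGroup.iff_card.mp P.isPGroup'
    obtain ⟨j, -, hj⟩ := (Nat.dvd_prime_pow hp).mp (hn ▸ (hed φ).2)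
    have hpe : p ≤ e φ := by
      rw [hj] at hφe ⊢
      exact Nat.le_self_pow (fun h => hφe (by rw [h, pow_zero])) p
    have hone : a φ * e φ ≤ p := hsum ▸ Finset.single_le_sum (f := fun ψ => a ψ * e ψ) (fun _ _ => Nat.zero_le _) (Finset.mem_univ φ)
    have hle : e φ ≤ a φ * e φ := Nat.le_mul_of_pos_left _ (Nat.pos_of_ne_zero hφa)
    have haφ : a φ = 1 := by
      have h3 : a φ * e φ = 1 * e φ := by omega
      exact Nat.eq_of_mul_eq_mul_right (hed φ).1 h3
    have hrest : ∀ ψ, ψ ≠ φ → a ψ = 0 := by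
      intro ψ hψ
      by_contra hne
      have h2 : a φ * e φ + a ψ * e ψ ≤ p := by
        rw [hsum, ← Finset.sum_pair (Ne.symm hψ) (f := fun ψ => a ψ * e ψ)]
        exact Finset.sum_le_sum_of_subset (Finset.subset_univ _)
      have h3 : 0 < a ψ * e ψ := Nat.mul_pos (Nat.pos_of_ne_zero hne) (hed ψ).1
      omega
    have hres : χ.1 z = φ.1 ⟨z, hzP⟩ := by
      rw [hval ⟨z, hzP⟩, Finset.sum_eq_single φ (fun ψ _ hψ => by rw [hrest ψ hψ, Nat.cast_zero, zero_mul])
        (fun h => absurd (Finset.mem_univ _) h), haφ, Nat.cast_one, one_mul]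
    obtain ⟨k, σ, hσ, hσc⟩ := φ.2
    haveI := hσ
    obtain ⟨c, hc⟩ := Cfsg.Agent.CharApp.exists_scalar_of_mem_center σ (z := (⟨z, hzP⟩ : (P : Subgroup G)))
      (Subgroup.mem_center_iff.mpr (fun w => Subtype.ext (hzc w w.2).symm))
    rw [hres, ← hσc] at hχz
    simp only [Representation.character, hc, map_smul, LinearMap.trace_one, smul_eq_mul, Module.finrank_fin_fun] at hχz
    rcases mul_eq_zero.mp hχz with h | h
    · have h1 : σ (1 : (P : Subgroup G)) = 0 := by
        rw [← mul_inv_cancel (⟨z, hzP⟩ : (P : Subgroup G)), map_mul, hc, h, zero_smul, zero_mul]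
      rw [map_one] at h1
      have h2 := congrArg (LinearMap.trace ℂ (Fin k → ℂ)) h1
      rw [LinearMap.trace_one, map_zero, Module.finrank_fin_fun] at h2
      have h3 : φ.1 1 = (k : ℂ) := by rw [← hσc, Representation.char_one, Module.finrank_fin_fun]
      rw [he, h2] at h3
      exact (hed φ).1.ne' (by exact_mod_cast h3)
    · have h3 : φ.1 1 = (k : ℂ) := by rw [← hσc, Representation.char_one, Module.finrank_fin_fun]
      rw [he, h] at h3
      exact (hed φ).1.ne' (by exact_mod_cast h3)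
  · push Not at hbig
    -- otherwise every commutator of `P` lies in the kernel of `χ`
    refine hnc (fun u v => ?_)
    have hker : χ.1 ((u * v * u⁻¹ * v⁻¹ : (P : Subgroup G)) : G) = χ.1 1 := by
      have h1 := hval 1
      rw [Subgroup.coe_one] at h1
      rw [h1, hval]
      refine Finset.sum_congr rfl (fun φ _ => ?_)
      by_cases hφ : a φ = 0
      · rw [hφ, Nat.cast_zero, zero_mul, zero_mul]
      · have hφ1 : φ.1 1 = 1 := by simp [he, hbig φ hφ]
        rw [hφ1, Cfsg.Agent.CharApp.apply_commutator_of_degree_one (Cfsg.Agent.Char.IsIrrCharacter.isCharacter φ.2) hφ1]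
    have h2 : u * v * u⁻¹ * v⁻¹ = 1 := Subtype.ext (hfaith _ hker)
    exact commutatorElement_eq_one_iff_mul_comm.mp h2

end Cfsg.Agent.S3968
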