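import Cfsg.Statements.S3969
import Cfsg.Agent.Lib.PAutPrime.Basic
import Cfsg.Agent.Lib.Transfer.Tate

set_option autoImplicit false
open Cfsg

namespace Cfsg.Agent.S3969

/-- Burnside transfer, when no prime of `|G|` can act on an abelian Sylow subgroup. -/
theorem of_primes {G : Type*} [Group G] [Finite G] (p : ℕ) [Fact p.Prime] (P : Sylow p G)
    (hab : IsMulCommutative (P : Subgroup G))
    (h : ∀ q i : ℕ, q.Prime → q ∣ Nat.card G → 1 ≤ i → i ≤ Group.rank (P : Subgroup G) → q ∣ p ^ i - 1 → False) :
    Cfsg.HasNormalPComplement p G := by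
  refine Cfsg.Agent.Transfer.hasNormalPComplement_of_normalizer_le_centralizer P (fun n hn => ?_)
  by_contra hnc
  obtain ⟨s, hs1, hs2⟩ := Group.rank_spec (P : Subgroup G)
  have hcop : (orderOf (Subgroup.normalizerMonoidHom (P : Subgroup G) ⟨n, hn⟩)).Coprime p := by
    have hPk : (P : Subgroup G).subgroupOf (Subgroup.normalizer ((P : Subgroup G) : Set G)) ≤
        (Subgroup.normalizerMonoidHom (P : Subgroup G)).ker := fun x hx => by
      rw [(P : Subgroup G).normalizerMonoidHom_ker]
      exact fun y hy => congrArg Subtype.val (hab.is_comm.comm ⟨y, hy⟩ ⟨x, hx⟩)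
    refine ((Fact.out : p.Prime).coprime_iff_not_dvd.mpr (fun hd => ?_)).symm
    have h1 : p ∣ (Subgroup.normalizerMonoidHom (P : Subgroup G)).ker.index := by
      rw [Subgroup.index_ker]
      refine hd.trans ?_
      rw [← Nat.card_zpowers]
      exact Subgroup.card_dvd_of_le (Subgroup.zpowers_le.mpr ⟨_, rfl⟩)
    exact P.not_dvd_index (h1.trans ((Subgroup.index_dvd_of_le hPk).trans
      (Subgroup.relIndex_dvd_index_of_le Subgroup.le_normalizer)))
  obtain ⟨q, i, hq, _, hqn, h1, h2, h3⟩ :=
    Cfsg.Agent.PAutPrime.exists_prime_of_not_centralizing P.isPGroup' s hs2 hn hcop hnc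
  exact h q i hq (hqn.trans (orderOf_dvd_natCard n)) h1 (hs1 ▸ h2) h3


/-- Let `P` be an abelian Sylow `p`-subgroup of the finite group `G`, generated by `d` elements (`d` its minimal number of generators). If the order of `G` is coprime to `(p - 1)(p ^ 2 - 1) ⋯ (p ^ d - 1)`, then `G` has a normal `p`-complement. (The classical statement needs only the largest number of cyclic factors of `P` of equal order in place of `d`; the form here follows from it.) -/
theorem result {G : Type*} [Group G] [Finite G] (p : ℕ) [Fact p.Prime] (P : Sylow p G) (hab : IsMulCommutative (P : Subgroup G)) (hcop : Nat.Coprime (Nat.card G) (∏ i ∈ Finset.Icc 1 (Group.rank (P : Subgroup G)), (p ^ i - 1))) : Cfsg.HasNormalPComplement p G := by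
  refine of_primes p P hab (fun q i hq hqG h1 h2 h3 => hq.not_dvd_one ?_)
  rw [← hcop.gcd_eq_one]
  exact Nat.dvd_gcd hqG (h3.trans (Finset.dvd_prod_of_mem _ (Finset.mem_Icc.mpr ⟨h1, h2⟩)))

end Cfsg.Agent.S3969
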