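import Cfsg.Statements.S3970
import Cfsg.Agent.S3969

set_option autoImplicit false
open Cfsg

namespace Cfsg.Agent.S3970

/-- Let `G` be a finite group such that for every prime `p` dividing its order, other than the largest such prime, the Sylow `p`-subgroups are abelian and generated by at most two elements, and suppose `12` does not divide the order of `G`. Then `G` is solvable. In particular a group of cube-free order not divisible by `12` is solvable. -/
theorem result {G : Type*} [Group G] [Finite G] (h : ∀ p : ℕ, p.Prime → p ∣ Nat.card G → (∃ q : ℕ, q.Prime ∧ q ∣ Nat.card G ∧ p < q) → ∀ P : Sylow p G, IsMulCommutative (P : Subgroup G) ∧ Group.rank (P : Subgroup G) ≤ 2) (h12 : ¬ 12 ∣ Nat.card G) : Group.IsSolvable G := by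
  induction hc : Nat.card G using Nat.strong_induction_on generalizing G with
  | _ c IH =>
  subst hc
  rcases subsingleton_or_nontrivial G with hs | hs
  · infer_instance
  obtain ⟨p, hp, hpG, hmin⟩ : ∃ p, p.Prime ∧ p ∣ Nat.card G ∧ ∀ q, q.Prime → q ∣ Nat.card G → p ≤ q := by
    refine ⟨(Nat.card G).minFac, Nat.minFac_prime Finite.one_lt_card.ne', Nat.minFac_dvd _,
      fun q hq hd => Nat.minFac_le_of_dvd hq.two_le hd⟩
  haveI := Fact.mk hp
  obtain ⟨P⟩ := (inferInstance : Nonempty (Sylow p G))
  by_cases hq : ∀ q : ℕ, q.Prime → q ∣ Nat.card G → q = p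
  · haveI := (IsPGroup.of_card (Nat.eq_prime_pow_of_unique_prime_dvd Nat.card_pos.ne'
      (fun {q} a b => hq q a b))).isNilpotent
    infer_instance
  push Not at hq
  obtain ⟨r, hr, hrG, hrp⟩ := hq
  obtain ⟨hab, hrank⟩ := h p hp hpG ⟨r, hr, hrG, lt_of_le_of_ne (hmin r hr hrG) hrp.symm⟩ P
  obtain ⟨T, K, hKn, hK⟩ := Cfsg.Agent.S3969.of_primes p P hab (fun q i hq hqG h1 h2 h3 => by
    have hpq := hmin q hq hqG
    have hqp : q ≠ p := by
      rintro rfl
      have hd : q ∣ q ^ i := dvd_pow_self q (by omega)
      have := Nat.dvd_sub hd h3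
      rw [Nat.sub_sub_self (Nat.one_le_pow _ _ hq.pos)] at this
      exact hq.not_dvd_one this
    have hp1 : ¬ q ∣ p - 1 := fun hd => by
      have := Nat.le_of_dvd (by have := hp.two_le; omega) hd
      omega
    have hi2 : i ≤ 2 := le_trans h2 hrank
    obtain rfl | rfl : i = 1 ∨ i = 2 := by omega
    · rw [pow_one] at h3; exact hp1 h3
    · rw [show p ^ 2 - 1 = (p + 1) * (p - 1) by
        obtain ⟨d, rfl⟩ : ∃ d, p = d + 1 := ⟨p - 1, by have := hp.two_le; omega⟩
        rw [show (d + 1) ^ 2 = (d + 1 + 1) * d + 1 by ring, Nat.add_sub_cancel, Nat.add_sub_cancel]] at h3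
      have hd := (hq.dvd_mul.mp h3).resolve_right hp1
      have := Nat.le_of_dvd (by omega) hd
      have hq1 : q = p + 1 := by omega
      have hp2 : p = 2 := by
        rcases Nat.Prime.eq_two_or_odd hp with h | h
        · exact h
        · exfalso
          rcases Nat.Prime.eq_two_or_odd hq with h' | h' <;> (have := hp.two_le; omega)
      subst hp2
      have hq3 : q = 3 := by omega
      subst hq3
      -- the Sylow 2-subgroup has order 2, hence is cyclic
      have hP2 : Nat.card (P : Subgroup G) ∣ 2 := by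
        obtain ⟨k, hk⟩ := IsPGroup.iff_card.mp P.isPGroup'
        rw [hk]
        rcases Nat.lt_or_ge k 2 with hk2 | hk2
        · exact (pow_dvd_pow 2 (show k ≤ 1 by omega)).trans (by norm_num)
        · exfalso
          refine h12 (show 2 ^ 2 * 3 ∣ Nat.card G from Nat.Coprime.mul_dvd_of_dvd_of_dvd (by norm_num) ?_ hqG)
          exact (pow_dvd_pow 2 hk2).trans (hk ▸ Subgroup.card_subgroup_dvd_card _)
      have hle : Group.rank (P : Subgroup G) ≤ 1 := by
        haveI : IsCyclic (P : Subgroup G) := by
          rcases (Nat.dvd_prime Nat.prime_two).mp hP2 with h | h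
          · haveI := (Nat.card_eq_one_iff_unique.mp h).1
            infer_instance
          · exact isCyclic_of_prime_card h
        obtain ⟨g, hg⟩ := IsCyclic.exists_generator (α := (P : Subgroup G))
        refine (Group.rank_le (S := {g}) ?_).trans (by simp)
        rw [Finset.coe_singleton, ← Subgroup.zpowers_eq_closure, eq_top_iff]
        exact fun x _ => hg x
      omega)
  haveI := hKn
  have hcard : Nat.card K * Nat.card (T : Subgroup G) = Nat.card G := hK.card_mul
  have hlt : Nat.card K < Nat.card G := by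
    rw [← hcard]
    refine lt_mul_of_one_lt_right Nat.card_pos ((T : Subgroup G).one_lt_card_iff_ne_bot.mpr ?_)
    exact T.ne_bot_of_dvd_card hpG
  have hsolvK : Group.IsSolvable K := by
    refine IH _ hlt (G := K) (fun q hq hqK hex Q => ?_) (fun h' => h12 (h'.trans K.card_subgroup_dvd_card)) rfl
    haveI := Fact.mk hq
    obtain ⟨s, hs, hsK, hqs⟩ := hex
    have hqp : q ≠ p := by
      rintro rfl
      have hco : ¬ q ∣ Nat.card K := by
        intro hd
        apply T.not_dvd_index
        rwa [hK.index_eq_card]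
      exact hco hqK
    obtain ⟨Q', hQ'⟩ := (Q.isPGroup'.map K.subtype).exists_le_sylow
    have heq : (Q : Subgroup K).map K.subtype = (Q' : Subgroup G) := by
      refine Subgroup.eq_of_le_of_card_ge hQ' (le_of_eq ?_)
      rw [Subgroup.card_map_of_injective K.subtype_injective, Q.card_eq_multiplicity, Q'.card_eq_multiplicity,
        ← hcard, Nat.factorization_mul Nat.card_pos.ne' Nat.card_pos.ne', Finsupp.add_apply]
      congr 1
      obtain ⟨m, hm⟩ := IsPGroup.iff_card.mp T.isPGroup'
      rw [hm, hp.factorization_pow, Finsupp.single_eq_of_ne hqp, add_zero]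
    have e : (Q : Subgroup K) ≃* (Q' : Subgroup G) :=
      ((Q : Subgroup K).equivMapOfInjective _ K.subtype_injective).trans (MulEquiv.subgroupCongr heq)
    obtain ⟨hab', hrk⟩ := h q hq (hqK.trans K.card_subgroup_dvd_card) ⟨s, hs, hsK.trans K.card_subgroup_dvd_card, hqs⟩ Q'
    refine ⟨⟨⟨fun a b => e.injective ?_⟩⟩, (Group.rank_congr e).trans_le hrk⟩
    rw [map_mul, map_mul]; exact hab'.is_comm.comm _ _
  haveI : Group.IsNilpotent (T : Subgroup G) := T.isPGroup'.isNilpotent
  exact solvable_of_ker_le_range K.subtype (QuotientGroup.mk' K) (by rw [QuotientGroup.ker_mk', Subgroup.range_subtype])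
    (G'' := G ⧸ K) (hG'' := solvable_of_surjective (f := ((QuotientGroup.mk' K).comp (T : Subgroup G).subtype)) (fun y => by
      obtain ⟨g, rfl⟩ := QuotientGroup.mk'_surjective K y
      obtain ⟨⟨k, t⟩, hkt⟩ := hK.2 g
      refine ⟨t, ?_⟩
      simp only at hkt
      rw [MonoidHom.comp_apply, ← hkt, map_mul, show QuotientGroup.mk' K (k : G) = 1 from (QuotientGroup.eq_one_iff _).mpr k.2,
        one_mul]
      rfl))

end Cfsg.Agent.S3970
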