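import Cfsg.Statements.S3971
import Cfsg.Agent.Lib.PAutPrime.Basic
import Cfsg.Agent.Lib.Transfer.Alperin

set_option autoImplicit false
open Cfsg

namespace Cfsg.Agent.S3971

/-- Let `G` be a finite group of order `2 ^ a * n` with `n` odd and not divisible by `3`, and suppose `G` has an element of order `2 ^ (a - 1)` (so a Sylow `2`-subgroup has a cyclic subgroup of index at most `2`). Then `G` has a normal subgroup of order `n`. -/
theorem result {G : Type*} [Group G] [Finite G] (a n : ℕ) (hG : Nat.card G = 2 ^ a * n) (hn : Odd n) (h3 : ¬ 3 ∣ n) (hx : ∃ x : G, orderOf x = 2 ^ (a - 1)) : ∃ N : Subgroup G, N.Normal ∧ Nat.card N = n := by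
  haveI : Fact (Nat.Prime 2) := ⟨Nat.prime_two⟩
  obtain ⟨x, hx⟩ := hx
  obtain ⟨P, hP⟩ := (IsPGroup.of_card (p := 2) (n := a - 1) ((Nat.card_zpowers x).trans hx)).exists_le_sylow
  have hPc : Nat.card (P : Subgroup G) = 2 ^ a := by
    rw [Sylow.card_eq_multiplicity, hG, Nat.factorization_mul (pow_ne_zero _ two_ne_zero) (fun e => by simp [e] at hn),
      Finsupp.add_apply, Nat.prime_two.factorization_pow, Finsupp.single_eq_same,
      Nat.factorization_eq_zero_of_not_dvd (fun hd => Nat.not_even_iff_odd.mpr hn (even_iff_two_dvd.mpr hd)), add_zero]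
  have hn3 : ¬ 3 ∣ Nat.card G := by
    rw [hG]
    intro hd
    rcases Nat.prime_three.dvd_mul.mp hd with h | h
    · exact absurd (Nat.prime_three.dvd_of_dvd_pow h) (by norm_num)
    · exact h3 h
  obtain ⟨T, N, hNn, hN⟩ : Cfsg.HasNormalPComplement 2 G := by
    refine Cfsg.Agent.Transfer.hasNormalPComplement_of_local P (fun R hR _ m hm hmo => ?_)
    by_contra hnc
    -- a subgroup of `P` is generated by two elements
    obtain ⟨R', hR'le, ⟨e⟩⟩ : ∃ R' : Subgroup G, R' ≤ (P : Subgroup G) ∧ Nonempty (R ≃* R') :=
      ⟨R, hR.1, ⟨MulEquiv.refl _⟩⟩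
    obtain ⟨s, hs, hsc⟩ : ∃ s : Finset R', Subgroup.closure (s : Set R') = ⊤ ∧ s.card ≤ 2 := by
      classical
      set C := (Subgroup.zpowers x).subgroupOf R'
      haveI : IsCyclic C := isCyclic_of_injective ((R'.subtype.comp C.subtype).codRestrict (Subgroup.zpowers x) (fun c => c.2))
        (fun c d h => Subtype.ext (Subtype.ext (congrArg Subtype.val h :)))
      obtain ⟨g, hg⟩ := IsCyclic.exists_generator (α := C)
      have hidx : C.index ∣ 2 := by
        have h1 : (Subgroup.zpowers x).relIndex (P : Subgroup G) ∣ 2 := by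
          have := Subgroup.card_mul_index ((Subgroup.zpowers x).subgroupOf (P : Subgroup G))
          rw [Nat.card_congr (Subgroup.subgroupOfEquivOfLe hP).toEquiv, Nat.card_zpowers, hx, hPc] at this
          rcases a.eq_zero_or_pos with rfl | ha
          · exact ⟨2, by simp at this; simp [Subgroup.relIndex, this]⟩
          · refine dvd_of_eq (Nat.eq_of_mul_eq_mul_left (pow_pos two_pos (a - 1)) ?_)
            rw [Subgroup.relIndex, this, ← pow_succ]
            congr 1
            omega
        have h2 : C.index ≤ (Subgroup.zpowers x).relIndex (P : Subgroup G) :=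
          Subgroup.relIndex_le_of_le_right hR'le Subgroup.index_ne_zero_of_finite
        have h4 : 0 < C.index := Nat.pos_of_ne_zero Subgroup.index_ne_zero_of_finite
        rcases (Nat.dvd_prime Nat.prime_two).mp h1 with h | h <;> rcases (show C.index = 1 ∨ C.index = 2 by omega) with h' | h' <;>
          simp [h']
      by_cases htop : ∀ r : R', r ∈ C
      · refine ⟨{(g : R')}, ?_, by simp⟩
        rw [Finset.coe_singleton, eq_top_iff]
        intro r _
        obtain ⟨i, hi⟩ := Subgroup.mem_zpowers_iff.mp (hg ⟨r, htop r⟩)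
        have := congrArg Subtype.val hi
        simp only [Subgroup.coe_zpow] at this
        rw [← this]
        exact Subgroup.zpow_mem _ (Subgroup.mem_closure_singleton_self _) i
      · push Not at htop
        obtain ⟨b, hb⟩ := htop
        refine ⟨{(g : R'), b}, ?_, Finset.card_le_two⟩
        rw [eq_top_iff]
        intro r _
        have hgC : ∀ c ∈ C, c ∈ Subgroup.closure (({(g : R'), b} : Finset R') : Set R') := by
          intro c hc
          obtain ⟨i, hi⟩ := Subgroup.mem_zpowers_iff.mp (hg ⟨c, hc⟩)
          have := congrArg Subtype.val hi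
          simp only [Subgroup.coe_zpow] at this
          rw [← this]
          exact Subgroup.zpow_mem _ (Subgroup.subset_closure (by simp)) i
        rcases (Nat.dvd_prime Nat.prime_two).mp hidx with h | h
        · exact absurd (Subgroup.index_eq_one.mp h ▸ Subgroup.mem_top b) hb
        · by_cases hr : r ∈ C
          · exact hgC r hr
          · have h5 : r * b⁻¹ ∈ C := by
              rw [Subgroup.mul_mem_iff_of_index_two h, Subgroup.inv_mem_iff]
              exact iff_of_false hr hb
            have h6 : b ∈ Subgroup.closure (({(g : R'), b} : Finset R') : Set R') := Subgroup.subset_closure (by simp)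
            rw [show r = r * b⁻¹ * b by group]
            exact Subgroup.mul_mem _ (hgC _ h5) h6
    classical
    have hsR : Subgroup.closure ((s.image e.symm : Finset R) : Set R) = ⊤ := by
      rw [Finset.coe_image, show (e.symm '' (s : Set R')) = e.symm.toMonoidHom '' (s : Set R') from rfl,
        ← MonoidHom.map_closure, hs]
      exact Subgroup.map_top_of_surjective _ (MulEquiv.surjective _)
    have hco : (orderOf (Subgroup.normalizerMonoidHom R ⟨m, hm⟩)).Coprime 2 :=
      Nat.Coprime.coprime_dvd_left ((orderOf_map_dvd _ _).trans (by rw [← orderOf_submonoid])) hmo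
    obtain ⟨q, i, hq, hq2, hqm, h1, h2, hdvd⟩ := Cfsg.Agent.PAutPrime.exists_prime_of_not_centralizing
      (P.isPGroup'.to_le hR.1) _ hsR hm hco hnc
    have hi : i ≤ 2 := h2.trans (Finset.card_image_le.trans hsc)
    interval_cases i
    · norm_num at hdvd; exact hq.ne_one hdvd
    · norm_num at hdvd
      exact hn3 ((Nat.prime_dvd_prime_iff_eq hq Nat.prime_three).mp hdvd ▸ hqm.trans (orderOf_dvd_natCard m))
  refine ⟨N, hNn, ?_⟩
  have hT : Nat.card (T : Subgroup G) = 2 ^ a := by rw [T.card_eq_multiplicity, ← P.card_eq_multiplicity, hPc]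
  have := hN.card_mul
  rw [hT, hG, mul_comm] at this
  exact Nat.eq_of_mul_eq_mul_left (pow_pos two_pos a) this

end Cfsg.Agent.S3971
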