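import Cfsg.Statements.S3973
import Cfsg.Agent.Lib.CentralExt.Basic

set_option autoImplicit false
open Cfsg Cfsg.Agent
open scoped commutatorElement

namespace Cfsg.Agent.S3973

theorem ab_surjective (n : ℕ) :
    Function.Surjective (FreeGroup.lift (fun i : Fin n => Multiplicative.ofAdd (Pi.single i (1 : ℤ)))) := by
  intro x
  rw [← MonoidHom.mem_range, FreeGroup.range_lift_eq_closure]
  have e : x = ∏ i, Multiplicative.ofAdd (Pi.single i (1 : ℤ)) ^ (Multiplicative.toAdd x i) := by
    apply Multiplicative.toAdd.injective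
    rw [toAdd_prod]
    funext j
    simp [Pi.single_apply, Finset.sum_apply]
  rw [e]
  exact Subgroup.prod_mem _ (fun i _ => Subgroup.zpow_mem _ (Subgroup.subset_closure (Set.mem_range_self i)) _)

/-- If `r` elements generate a subgroup of `A × ℤ^ι` containing `A` and a lattice of full rank, then `A` needs `r - |ι|` generators. -/
theorem rank_le_of_relators {A : Type*} [Group A] [Finite A] {ι κ : Type*} [Fintype ι] [Fintype κ]
    (hab : ∀ a b : A, a * b = b * a) (w : κ → A × Multiplicative (ι → ℤ)) (N : ℕ) (hN : 0 < N)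
    (hA : ∀ a : A, ((a, 1) : A × Multiplicative (ι → ℤ)) ∈ Subgroup.closure (Set.range w))
    (hlat : ∀ x, ∃ a, ((a, x ^ N) : A × Multiplicative (ι → ℤ)) ∈ Subgroup.closure (Set.range w)) :
    Group.rank A ≤ Fintype.card κ - Fintype.card ι := by
  classical
  letI : CommGroup A := { ‹Group A› with mul_comm := hab }
  let T : (κ → ℤ) →ₗ[ℤ] Additive (A × Multiplicative (ι → ℤ)) := Fintype.linearCombination ℤ (fun k => Additive.ofMul (w k))
  have hTr : ∀ y ∈ Subgroup.closure (Set.range w), ∃ c, T c = Additive.ofMul y := by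
    intro y hy
    induction hy using Subgroup.closure_induction with
    | mem y hy =>
      obtain ⟨k, rfl⟩ := hy
      exact ⟨Pi.single k 1, by simp [T, Fintype.linearCombination_apply_single]⟩
    | one => exact ⟨0, by simp⟩
    | mul a b _ _ ha hb =>
      obtain ⟨c, hc⟩ := ha
      obtain ⟨d, hd⟩ := hb
      exact ⟨c + d, by rw [map_add, hc, hd]; rfl⟩
    | inv a _ ha =>
      obtain ⟨c, hc⟩ := ha
      exact ⟨-c, by rw [map_neg, hc]; rfl⟩
  let p2 : Additive (A × Multiplicative (ι → ℤ)) →+ (ι → ℤ) :=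
    { toFun := fun y => Multiplicative.toAdd (Additive.toMul y).2
      map_zero' := rfl
      map_add' := fun _ _ => rfl }
  let g : (κ → ℤ) →ₗ[ℤ] (ι → ℤ) := p2.toIntLinearMap ∘ₗ T
  have hrange : Module.finrank ℤ (LinearMap.range g) = Fintype.card ι := by
    refine le_antisymm ((Submodule.finrank_le _).trans (le_of_eq (Module.finrank_pi ℤ))) ?_
    rw [← Module.finrank_pi ℤ (ι := ι)]
    let j : (ι → ℤ) →ₗ[ℤ] LinearMap.range g := LinearMap.codRestrict _ ((N : ℤ) • LinearMap.id) (fun x => by
      obtain ⟨a, ha⟩ := hlat (Multiplicative.ofAdd x)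
      obtain ⟨c, hc⟩ := hTr _ ha
      refine ⟨c, ?_⟩
      simp [g, p2, hc])
    refine LinearMap.finrank_le_finrank_of_injective (f := j) (fun x y h => ?_)
    have h' := congrArg Subtype.val h
    simp [j] at h'
    funext i
    have hi := congrFun h' i
    simp [hN.ne'] at hi
    exact hi
  have hker : Module.finrank ℤ (LinearMap.ker g) ≤ Fintype.card κ - Fintype.card ι := by
    have := g.quotKerEquivRange.finrank_eq
    have h2 := Submodule.finrank_quotient_add_finrank (LinearMap.ker g)
    rw [this, hrange, Module.finrank_pi] at h2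
    omega
  let b := Module.finBasis ℤ (LinearMap.ker g)
  let u : Fin (Module.finrank ℤ (LinearMap.ker g)) → A := fun i => (Additive.toMul (T (b i).1)).1
  have hu : Subgroup.closure (Set.range u) = ⊤ := by
    rw [eq_top_iff]
    intro a _
    obtain ⟨c, hc⟩ := hTr _ (hA a)
    have hck : c ∈ LinearMap.ker g := by
      rw [LinearMap.mem_ker]
      simp [g, p2, hc]
    have hs := b.sum_repr ⟨c, hck⟩
    have h2 := congrArg (fun z : LinearMap.ker g => (Additive.toMul (T z.1)).1) hs
    simp only [hc, toMul_ofMul] at h2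
    rw [← h2]
    simp only [Submodule.coe_sum, Submodule.coe_smul_of_tower, map_sum, map_zsmul, toMul_sum, toMul_zsmul,
      Prod.fst_prod, Prod.pow_fst]
    exact Subgroup.prod_mem _ (fun i _ => Subgroup.zpow_mem _ (Subgroup.subset_closure (Set.mem_range_self i)) _)
  calc Group.rank A ≤ (Finset.univ.image u).card := Group.rank_le (by rw [Finset.coe_image, Finset.coe_univ, Set.image_univ, hu])
    _ ≤ _ := (Finset.card_image_le.trans (by simp)).trans hker


/-- If a finite group is presented by `n` generators and a finite set of `r` relators, then its Schur multiplier can be generated by `r - n` elements. In particular a finite group with a presentation having as many relators as generators has trivial Schur multiplier. -/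
theorem result (n : ℕ) (rels : Finset (FreeGroup (Fin n))) [Finite (PresentedGroup (rels : Set (FreeGroup (Fin n))))] {A : Type*} [CommGroup A] [Finite A] (hA : Cfsg.HasSchurMultiplier (PresentedGroup (rels : Set (FreeGroup (Fin n)))) A) : Group.rank A ≤ rels.card - n := by
  obtain ⟨⟨Γ, _, _, σ, ⟨hs, hc, hd⟩, ⟨e⟩⟩, _⟩ := hA
  set R := PresentedGroup.mk (rels : Set (FreeGroup (Fin n)))
  let v : Fin n → Γ := fun i => (hs (PresentedGroup.of i)).choose
  let φ : FreeGroup (Fin n) →* Γ := FreeGroup.lift v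
  have hφ : ∀ w, σ (φ w) = R w := DFunLike.congr_fun (show σ.comp φ = R from FreeGroup.ext_hom _ _ (fun i => by
    simp [φ, v, R, (hs (PresentedGroup.of i)).choose_spec]; rfl))
  let ab : FreeGroup (Fin n) →* Multiplicative (Fin n → ℤ) :=
    FreeGroup.lift (fun i => Multiplicative.ofAdd (Pi.single i 1))
  haveI hK : R.ker.Normal := R.normal_ker
  let f : R.ker →* σ.ker × Multiplicative (Fin n → ℤ) :=
    ((φ.comp R.ker.subtype).codRestrict σ.ker (fun w => by
      rw [MonoidHom.mem_ker]; exact (hφ _).trans w.2)).prod (ab.comp R.ker.subtype)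
  -- `f` kills commutators with the free group
  have hcentral : ∀ (g : FreeGroup (Fin n)) (w : R.ker), f ⟨g * w * g⁻¹, hK.conj_mem _ w.2 g⟩ = f w := by
    intro g w
    have h1 : φ w ∈ σ.ker := by rw [MonoidHom.mem_ker, hφ]; exact w.2
    refine Prod.ext (Subtype.ext ?_) ?_
    · show φ (g * w * g⁻¹) = φ w
      rw [map_mul, map_mul, map_inv, Subgroup.mem_center_iff.mp (hc h1) (φ g), mul_inv_cancel_right]
    · show ab (g * w * g⁻¹) = ab w
      rw [map_mul, map_mul, map_inv, mul_comm (ab g), mul_inv_cancel_right]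
  -- the image is generated by the relators
  have hgen : f.range = Subgroup.closure (f '' {w | (w : FreeGroup (Fin n)) ∈ rels}) := by
    refine le_antisymm ?_ ((Subgroup.closure_le _).mpr (by rintro _ ⟨w, _, rfl⟩; exact ⟨w, rfl⟩))
    rintro _ ⟨⟨w, hw⟩, rfl⟩
    set T := Subgroup.closure (f '' {w | (w : FreeGroup (Fin n)) ∈ rels})
    let S : Subgroup (FreeGroup (Fin n)) := (T.comap f).map R.ker.subtype
    haveI : S.Normal := ⟨by
      rintro _ ⟨u, hu, rfl⟩ g
      refine ⟨⟨g * u * g⁻¹, hK.conj_mem _ u.2 g⟩, ?_, rfl⟩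
      rw [SetLike.mem_coe, Subgroup.mem_comap, hcentral]
      exact hu⟩
    have hle : Subgroup.normalClosure (rels : Set (FreeGroup (Fin n))) ≤ S := by
      refine Subgroup.normalClosure_le_normal (fun u hu => ?_)
      refine ⟨⟨u, MonoidHom.mem_ker.mpr (PresentedGroup.one_of_mem hu)⟩, ?_, rfl⟩
      exact Subgroup.subset_closure ⟨_, hu, rfl⟩
    obtain ⟨u, hu, he⟩ := hle (QuotientGroup.eq_one_iff w |>.mp hw)
    obtain rfl : u = ⟨w, hw⟩ := Subtype.ext he
    exact hu
  -- the image contains `A × 1` and a full lattice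
  have hA1 : ∀ a : σ.ker, ((a, 1) : σ.ker × Multiplicative (Fin n → ℤ)) ∈ f.range := by
    intro a
    have hsup : ∀ g : Γ, ∃ k ∈ φ.range, k⁻¹ * g ∈ Subgroup.center Γ := by
      intro g
      obtain ⟨w, hw⟩ := PresentedGroup.mk_surjective _ (σ g)
      exact ⟨φ w, ⟨w, rfl⟩, hc (by rw [MonoidHom.mem_ker, map_mul, map_inv, hφ, hw, inv_mul_cancel])⟩
    have h1 : (a : Γ) ∈ (commutator (FreeGroup (Fin n))).map φ := by
      rw [commutator_def, Subgroup.map_commutator, ← MonoidHom.range_eq_map]
      exact CentralExt.commutator_le_of_mul_center hsup (hd a.2)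
    obtain ⟨w, hw, hwa⟩ := h1
    refine ⟨⟨w, by rw [MonoidHom.mem_ker, ← hφ, hwa]; exact a.2⟩, Prod.ext (Subtype.ext hwa) ?_⟩
    have : commutator (FreeGroup (Fin n)) ≤ ab.ker := by
      rw [commutator_def, Subgroup.commutator_le]
      intro u _ v _
      rw [MonoidHom.mem_ker, map_commutatorElement, commutatorElement_eq_one_iff_commute]
      exact mul_comm _ _
    exact this hw
  -- pass to modules
  let w : rels → σ.ker × Multiplicative (Fin n → ℤ) :=
    fun r => f ⟨r.1, MonoidHom.mem_ker.mpr (PresentedGroup.one_of_mem r.2)⟩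
  let N := Nat.card (PresentedGroup (rels : Set (FreeGroup (Fin n))))
  have hN : ∀ x : Multiplicative (Fin n → ℤ), ∃ b, f b = ((f b).1, x ^ N) := by
    intro x
    obtain ⟨g, hg⟩ := ab_surjective n x
    refine ⟨⟨g ^ N, by rw [MonoidHom.mem_ker, map_pow]; exact pow_card_eq_one'⟩, Prod.ext rfl ?_⟩
    show ab (g ^ N) = x ^ N
    rw [map_pow, hg]
  have hset : Set.range w = f '' {w | (w : FreeGroup (Fin n)) ∈ rels} := by
    ext y
    constructor
    · rintro ⟨r, rfl⟩; exact ⟨_, r.2, rfl⟩
    · rintro ⟨u, hu, rfl⟩; exact ⟨⟨u.1, hu⟩, rfl⟩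
  have hclo : Subgroup.closure (Set.range w) = f.range := by rw [hgen, hset]
  have key := rank_le_of_relators (A := σ.ker) (ι := Fin n) (fun a b => Subtype.ext ?_) w N Nat.card_pos
    (fun a => hclo ▸ hA1 a) (fun x => by
      obtain ⟨b, hb⟩ := hN x
      exact ⟨(f b).1, hclo ▸ ⟨b, hb⟩⟩)
  · rw [Fintype.card_coe, Fintype.card_fin] at key
    rwa [Group.rank_congr e] at key
  · exact (Subgroup.mem_center_iff.mp (hc b.2) (a : Γ))

end Cfsg.Agent.S3973
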