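import Cfsg.Statements.S3974
import Cfsg.Agent.EqLemmas
import Cfsg.Agent.Lib.SchurCover.Basic

set_option autoImplicit false
universe u v
open Cfsg

namespace Cfsg.Agent.S3974

open Cfsg.Agent.SchurCover

variable {Q : Type u} [Group Q]

theorem freeAb_surjective : Function.Surjective (freeAb Q) := by
  have h1 : ∀ v : Q →₀ ℤ, Multiplicative.ofAdd v ∈ (freeAb Q).range := by
    intro v
    induction v using Finsupp.induction with
    | zero => exact Subgroup.one_mem _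
    | single_add q n v _ _ ih =>
      rw [ofAdd_add]
      refine Subgroup.mul_mem _ ?_ ih
      refine ⟨((FreeGroup.of q : FreeGroup Q) : Pres Q) ^ n, ?_⟩
      rw [map_zpow]
      show (FreeGroup.lift (fun q => Multiplicative.ofAdd (Finsupp.single q (1 : ℤ))) (FreeGroup.of q)) ^ n = _
      rw [FreeGroup.lift_apply_of, ← ofAdd_zsmul, Finsupp.smul_single, smul_eq_mul, mul_one]
  exact fun v => h1 (Multiplicative.toAdd v)

theorem index_image : ((proj Q).ker.map (freeAb Q)).index = Nat.card (Abelianization Q) := by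
  have hk : (freeAb Q).ker = commutator (Pres Q) := by
    ext x
    exact freeAb_eq_one_iff x
  have hm : (commutator (Pres Q)).map (proj Q) = commutator Q := by
    rw [commutator_def, Subgroup.map_commutator, ← MonoidHom.range_eq_map,
      MonoidHom.range_eq_top_of_surjective _ (proj_surjective Q), commutator_def]
  calc ((proj Q).ker.map (freeAb Q)).index
      = (((proj Q).ker.map (freeAb Q)).comap (freeAb Q)).index :=
        (Subgroup.index_comap_of_surjective _ freeAb_surjective).symm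
    _ = ((commutator Q).comap (proj Q)).index := by
        rw [Subgroup.comap_map_eq, hk, ← hm, Subgroup.comap_map_eq, sup_comm]
    _ = (commutator Q).index := Subgroup.index_comap_of_surjective _ (proj_surjective Q)
    _ = _ := rfl

theorem card_abelianization_ne_zero [Finite Q] : Nat.card (Abelianization Q) ≠ 0 := by
  have : Finite (Abelianization Q) := Finite.of_surjective _ (QuotientGroup.mk'_surjective (commutator Q))
  exact Nat.card_pos.ne'

theorem map_eq_one_of_mem_ker {Γ : Type*} [Group Γ] {σ : Γ →* Q} {β : Pres Q →* Γ}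
    (hβ : σ.comp β = proj Q) {x : Pres Q} (hx : x ∈ (proj Q).ker) : β x ∈ σ.ker := by
  rw [MonoidHom.mem_ker, ← MonoidHom.comp_apply, hβ]
  exact hx

theorem multMap_bijective [Finite Q] {Γ : Type*} [Group Γ] {σ : Γ →* Q} (hσ : Cfsg.IsStemExtension σ)
    {β : Pres Q →* Γ} (hβ : σ.comp β = proj Q) (hc : Nat.card σ.ker = Nat.card (mult Q)) :
    Function.Bijective (multMap hβ) :=
  (Nat.bijective_iff_surjective_and_card _).2 ⟨multMap_surjective hσ hβ, hc.symm⟩

theorem unique_cover [Finite Q] {Γ₁ Γ₂ : Type*} [Group Γ₁] [Group Γ₂] [Finite Γ₂] {σ₁ : Γ₁ →* Q}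
    {σ₂ : Γ₂ →* Q} (h₁ : Cfsg.IsStemExtension σ₁) (h₂ : Cfsg.IsStemExtension σ₂)
    (c₁ : Nat.card σ₁.ker = Nat.card (mult Q)) (c₂ : Nat.card σ₂.ker = Nat.card (mult Q))
    (hcop : Nat.Coprime (Nat.card (Abelianization Q)) (Nat.card σ₂.ker)) :
    ∃ e : Γ₁ ≃* Γ₂, σ₂.comp e.toMonoidHom = σ₁ := by
  classical
  letI : CommGroup σ₂.ker :=
    { (inferInstance : Group σ₂.ker) with
      mul_comm := fun a b => Subtype.ext (Subgroup.mem_center_iff.1 (h₂.2.1 b.2) a) }
  obtain ⟨β₁, hβ₁⟩ := exists_lift σ₁ h₁.1 h₁.2.1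
  obtain ⟨β₂, hβ₂⟩ := exists_lift σ₂ h₂.1 h₂.2.1
  let f₁ := MulEquiv.ofBijective (multMap hβ₁) (multMap_bijective h₁ hβ₁ c₁)
  let f₂ := MulEquiv.ofBijective (multMap hβ₂) (multMap_bijective h₂ hβ₂ c₂)
  let e : σ₁.ker ≃* σ₂.ker := f₁.symm.trans f₂
  let r₁ : (proj Q).ker →* σ₁.ker :=
    (β₁.comp (proj Q).ker.subtype).codRestrict _ fun x => map_eq_one_of_mem_ker hβ₁ x.2
  let r₂ : (proj Q).ker →* σ₂.ker :=
    (β₂.comp (proj Q).ker.subtype).codRestrict _ fun x => map_eq_one_of_mem_ker hβ₂ x.2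
  let δ : (proj Q).ker →* σ₂.ker := (e.toMonoidHom.comp r₁) / r₂
  have hδ : ∀ k : (proj Q).ker, (k : Pres Q) ∈ mult Q → δ k = 1 := by
    intro k hk
    show e (r₁ k) / r₂ k = 1
    rw [div_eq_one]
    show f₂ (f₁.symm (r₁ k)) = r₂ k
    rw [show r₁ k = f₁ ⟨k, hk⟩ from Subtype.ext rfl, MulEquiv.symm_apply_apply]
    exact Subtype.ext rfl
  have hwd : ∀ k k' : (proj Q).ker, freeAb Q (k : Pres Q) = freeAb Q (k' : Pres Q) → δ k = δ k' := by
    intro k k' h
    have h' : ((k⁻¹ * k' : (proj Q).ker) : Pres Q) ∈ mult Q := by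
      refine ⟨(k⁻¹ * k').2, ?_⟩
      show _ ∈ commutator (Pres Q)
      rw [← freeAb_eq_one_iff, Subgroup.coe_mul, Subgroup.coe_inv, map_mul,
        map_inv, h, inv_mul_cancel]
    have := hδ _ h'
    rwa [map_mul, map_inv, inv_mul_eq_one] at this
  set m := Nat.card (Abelianization Q) with hmdef
  have hmem : ∀ x : Pres Q, ∃ k : (proj Q).ker, freeAb Q (k : Pres Q) = freeAb Q x ^ m := by
    intro x
    haveI : ((proj Q).ker.map (freeAb Q)).FiniteIndex := ⟨by
      rw [index_image]; exact card_abelianization_ne_zero⟩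
    have := Subgroup.pow_index_mem ((proj Q).ker.map (freeAb Q)) (freeAb Q x)
    rw [index_image] at this
    obtain ⟨k, hk, hk'⟩ := this
    exact ⟨⟨k, hk⟩, hk'⟩
  choose c hc using hmem
  let η : Pres Q →* σ₂.ker :=
    { toFun := fun x => δ (c x)
      map_one' := by
        rw [← map_one δ]
        exact hwd _ _ (by rw [hc]; simp)
      map_mul' := fun x y => by
        rw [← map_mul δ]
        exact hwd _ _ (by rw [hc, Subgroup.coe_mul, map_mul, map_mul, mul_pow, hc, hc]) }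
  have hηK : ∀ k : (proj Q).ker, η k = δ k ^ m := fun k => by
    show δ (c (k : Pres Q)) = _
    rw [← map_pow δ]
    exact hwd _ _ (by rw [hc, Subgroup.coe_pow, map_pow])
  let p : σ₂.ker ≃* σ₂.ker := MulEquiv.ofBijective (powMonoidHom m)
    (powCoprime (G := σ₂.ker) hcop.symm).bijective
  let ψ : Pres Q →* σ₂.ker := p.symm.toMonoidHom.comp η
  have hψK : ∀ k : (proj Q).ker, ψ k = δ k := fun k => by
    show p.symm (η k) = δ k
    rw [hηK, MulEquiv.symm_apply_eq]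
    rfl
  let γ : Pres Q →* Γ₂ :=
    { toFun := fun x => (ψ x : Γ₂) * β₂ x
      map_one' := by simp
      map_mul' := fun x y => by
        rw [map_mul, map_mul, Subgroup.coe_mul]
        have := Subgroup.mem_center_iff.1 (h₂.2.1 (ψ y).2) (β₂ x)
        rw [mul_assoc, mul_assoc, ← mul_assoc (ψ y : Γ₂), ← this, mul_assoc] }
  have hγ : σ₂.comp γ = proj Q := MonoidHom.ext fun x => by
    show σ₂ ((ψ x : Γ₂) * β₂ x) = _
    rw [map_mul, MonoidHom.mem_ker.1 (ψ x).2, one_mul, ← MonoidHom.comp_apply, hβ₂]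
  have hγK : ∀ k : (proj Q).ker, γ k = (e (r₁ k) : Γ₂) := fun k => by
    show (ψ k : Γ₂) * β₂ k = _
    rw [hψK]
    show ((e (r₁ k) / r₂ k : σ₂.ker) : Γ₂) * ((r₂ k : σ₂.ker) : Γ₂) = _
    rw [← Subgroup.coe_mul, div_mul_cancel]
  have hker : β₁.ker = γ.ker := by
    ext x
    constructor <;> intro hx
    · have hxK : x ∈ (proj Q).ker := by
        rw [MonoidHom.mem_ker, ← hβ₁, MonoidHom.comp_apply, MonoidHom.mem_ker.1 hx, map_one]
      rw [MonoidHom.mem_ker, hγK ⟨x, hxK⟩, show r₁ ⟨x, hxK⟩ = 1 from Subtype.ext hx, map_one,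
        Subgroup.coe_one]
    · have hxK : x ∈ (proj Q).ker := by
        rw [MonoidHom.mem_ker, ← hγ, MonoidHom.comp_apply, MonoidHom.mem_ker.1 hx, map_one]
      rw [MonoidHom.mem_ker, hγK ⟨x, hxK⟩, OneMemClass.coe_eq_one, map_eq_one_iff e e.injective] at hx
      exact congrArg Subtype.val hx
  let h := MonoidHom.liftOfSurjective β₁ (lift_surjective h₁ hβ₁) ⟨γ, hker.le⟩
  have hh : ∀ x, h (β₁ x) = γ x := fun x =>
    MonoidHom.liftOfRightInverse_comp_apply _ _
      (Function.rightInverse_surjInv (lift_surjective h₁ hβ₁)) _ x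
  have hbij : Function.Bijective h := by
    constructor
    · rw [injective_iff_map_eq_one]
      intro y hy
      obtain ⟨x, rfl⟩ := lift_surjective h₁ hβ₁ y
      rw [hh] at hy
      exact hker.ge hy
    · intro y
      obtain ⟨x, rfl⟩ := lift_surjective h₂ hγ y
      exact ⟨β₁ x, hh x⟩
  refine ⟨MulEquiv.ofBijective h hbij, MonoidHom.ext fun y => ?_⟩
  obtain ⟨x, rfl⟩ := lift_surjective h₁ hβ₁ y
  show σ₂ (h (β₁ x)) = σ₁ (β₁ x)
  rw [hh, ← MonoidHom.comp_apply, ← MonoidHom.comp_apply, hγ, hβ₁]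

theorem cover_of_complement [Finite Q] (N : Subgroup (Pres Q)) [N.Normal] (hN : N ≤ (proj Q).ker)
    (hinf : N ⊓ mult Q = ⊥) (hsup : N ⊔ mult Q = (proj Q).ker) :
    Finite (Pres Q ⧸ N) ∧ Cfsg.IsStemExtension (QuotientGroup.lift N (proj Q) hN) ∧
      Nat.card (QuotientGroup.lift N (proj Q) hN).ker = Nat.card (mult Q) := by
  set σ := QuotientGroup.lift N (proj Q) hN with hσdef
  have hker : σ.ker = (mult Q).map (QuotientGroup.mk' N) := by
    rw [hσdef, QuotientGroup.ker_lift, ← hsup, Subgroup.map_sup, QuotientGroup.map_mk'_self, bot_sup_eq]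
  let e : mult Q →* σ.ker := ((QuotientGroup.mk' N).comp (mult Q).subtype).codRestrict σ.ker fun x =>
    hker ▸ Subgroup.mem_map_of_mem _ x.2
  have he : Function.Bijective e := by
    constructor
    · rw [injective_iff_map_eq_one]
      intro x hx
      have h1 : (x : Pres Q) ∈ N := (QuotientGroup.eq_one_iff _).1 (congrArg Subtype.val hx)
      have h2 : (x : Pres Q) ∈ N ⊓ mult Q := ⟨h1, x.2⟩
      rw [hinf] at h2
      exact Subtype.ext (Subgroup.mem_bot.1 h2)
    · rintro ⟨y, hy⟩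
      obtain ⟨m, hm, rfl⟩ := hker.le hy
      exact ⟨⟨m, hm⟩, rfl⟩
  have hfin : Finite (Pres Q ⧸ N) := by
    have : Finite σ.ker := Finite.of_surjective e he.2
    have : Finite ((Pres Q ⧸ N) ⧸ σ.ker) := Finite.of_injective _ (QuotientGroup.kerLift_injective σ)
    exact Finite.of_equiv _ (Subgroup.groupEquivQuotientProdSubgroup (s := σ.ker)).symm
  refine ⟨hfin, ⟨fun q => ?_, ?_, ?_⟩, (Nat.card_eq_of_bijective e he).symm⟩
  · obtain ⟨x, hx⟩ := proj_surjective Q q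
    exact ⟨(x : Pres Q ⧸ N), hx⟩
  · rw [hker]
    rintro _ ⟨m, hm, rfl⟩
    rw [Subgroup.mem_center_iff]
    intro g
    obtain ⟨g, rfl⟩ := QuotientGroup.mk_surjective g
    exact congrArg (QuotientGroup.mk' N) (Subgroup.mem_center_iff.1 (mult_le_center Q hm) g)
  · rw [hker, commutator_def, ← MonoidHom.range_eq_top_of_surjective _ (QuotientGroup.mk'_surjective N),
      MonoidHom.range_eq_map, ← Subgroup.map_commutator]
    exact Subgroup.map_mono (mult_le_commutator Q)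

/-- A map on a finite-index subgroup of a free abelian group which does not extend. -/
theorem exists_functional [Finite Q] {l : ℕ} (hl : l.Prime) (L : AddSubgroup (Q →₀ ℤ)) (x : Q →₀ ℤ)
    (hx : x ∉ L) (hy : (l : ℤ) • x ∈ L) : ∃ φ : L →+ ℤ, ¬ (l : ℤ) ∣ φ ⟨(l : ℤ) • x, hy⟩ := by
  classical
  set M := AddSubgroup.toIntSubmodule L
  let b := Module.Free.chooseBasis ℤ M
  haveI : Fintype (Module.Free.ChooseBasisIndex ℤ M) := Module.Free.ChooseBasisIndex.fintype ℤ M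
  set y : M := ⟨(l : ℤ) • x, hy⟩
  by_contra hcon
  push_neg at hcon
  have h1 : ∀ i, (l : ℤ) ∣ b.repr y i := fun i => hcon (b.coord i).toAddMonoidHom
  choose c hc using h1
  set z : M := ∑ i, c i • b i
  have hz : y = (l : ℤ) • z := by
    conv_lhs => rw [← b.sum_repr y]
    rw [Finset.smul_sum]
    exact Finset.sum_congr rfl fun i _ => by rw [hc i, mul_smul]
  refine hx ?_
  have e : (l : ℤ) • x = (l : ℤ) • (z : Q →₀ ℤ) := congrArg Subtype.val hz
  have : x = (z : Q →₀ ℤ) := smul_right_injective _ (Int.natCast_ne_zero.2 hl.ne_zero) e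
  rw [this]
  exact z.2

theorem exists_second_cover [Finite Q] {Γ₁ : Type*} [Group Γ₁] [Finite Γ₁] {σ₁ : Γ₁ →* Q}
    (h₁ : Cfsg.IsStemExtension σ₁) (c₁ : Nat.card σ₁.ker = Nat.card (mult Q)) {l : ℕ} (hl : l.Prime)
    (hlQ : l ∣ Nat.card (Abelianization Q)) (hlA : l ∣ Nat.card σ₁.ker) :
    ∃ (N : Subgroup (Pres Q)) (_ : N.Normal) (hN : N ≤ (proj Q).ker) (_ : Finite (Pres Q ⧸ N)),
      Cfsg.IsStemExtension (QuotientGroup.lift N (proj Q) hN) ∧
      Nat.card (QuotientGroup.lift N (proj Q) hN).ker = Nat.card (mult Q) ∧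
      ¬ ∃ e : Γ₁ ≃* Pres Q ⧸ N, (QuotientGroup.lift N (proj Q) hN).comp e.toMonoidHom = σ₁ := by
  classical
  letI : CommGroup σ₁.ker :=
    { (inferInstance : Group σ₁.ker) with
      mul_comm := fun a b => Subtype.ext (Subgroup.mem_center_iff.1 (h₁.2.1 b.2) a) }
  haveI := Fact.mk hl
  obtain ⟨β₁, hβ₁⟩ := exists_lift σ₁ h₁.1 h₁.2.1
  let f₁ := MulEquiv.ofBijective (multMap hβ₁) (multMap_bijective h₁ hβ₁ c₁)
  let r₁ : (proj Q).ker →* σ₁.ker :=
    (β₁.comp (proj Q).ker.subtype).codRestrict _ fun x => map_eq_one_of_mem_ker hβ₁ x.2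
  obtain ⟨a, ha⟩ : ∃ a : σ₁.ker, ∀ b : σ₁.ker, b ^ l ≠ a := by
    by_contra hh
    push_neg at hh
    have hsur : Function.Surjective fun b : σ₁.ker => b ^ l := hh
    obtain ⟨b, hb⟩ := exists_prime_orderOf_dvd_card' l hlA
    have hb1 : b = 1 := Finite.injective_iff_surjective.2 hsur
      (by show b ^ l = 1 ^ l; rw [one_pow, ← hb, pow_orderOf_eq_one])
    rw [hb1, orderOf_one] at hb
    exact hl.ne_one hb.symm
  set L := (proj Q).ker.map (freeAb Q) with hLdef
  obtain ⟨x, hxL, hxl⟩ : ∃ x, x ∉ L ∧ x ^ l ∈ L := by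
    haveI : L.FiniteIndex := ⟨by rw [index_image]; exact card_abelianization_ne_zero⟩
    have hd : l ∣ Nat.card (Multiplicative (Q →₀ ℤ) ⧸ L) := by
      rw [← Subgroup.index_eq_card, index_image]
      exact hlQ
    obtain ⟨x', hx'⟩ := exists_prime_orderOf_dvd_card' l hd
    obtain ⟨x, rfl⟩ := QuotientGroup.mk_surjective x'
    refine ⟨x, fun h => ?_, ?_⟩
    · rw [(QuotientGroup.eq_one_iff x).2 h, orderOf_one] at hx'
      exact hl.ne_one hx'.symm
    · rw [← QuotientGroup.eq_one_iff, QuotientGroup.mk_pow, ← hx', pow_orderOf_eq_one]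
  let La : AddSubgroup (Q →₀ ℤ) := Subgroup.toAddSubgroup' L
  have hxa : Multiplicative.toAdd x ∉ La := hxL
  have hya : (l : ℤ) • Multiplicative.toAdd x ∈ La := by
    show Multiplicative.ofAdd ((l : ℤ) • Multiplicative.toAdd x) ∈ L
    rw [natCast_zsmul, ofAdd_nsmul]
    exact hxl
  obtain ⟨φ, hφ⟩ := exists_functional hl La _ hxa hya
  let inL : (proj Q).ker → La := fun k =>
    ⟨Multiplicative.toAdd (freeAb Q (k : Pres Q)), ⟨(k : Pres Q), k.2, rfl⟩⟩
  let δ : (proj Q).ker →* σ₁.ker :=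
    { toFun := fun k => a ^ φ (inL k)
      map_one' := by
        have : inL 1 = 0 := Subtype.ext (by simp [inL])
        rw [this, map_zero, zpow_zero]
      map_mul' := fun k k' => by
        have : inL (k * k') = inL k + inL k' := Subtype.ext (by simp [inL])
        rw [this, map_add, zpow_add] }
  have hδ : ∀ k : (proj Q).ker, (k : Pres Q) ∈ mult Q → δ k = 1 := fun k hk => by
    have : inL k = 0 := Subtype.ext (by
      show Multiplicative.toAdd (freeAb Q (k : Pres Q)) = 0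
      rw [toAdd_eq_zero, freeAb_eq_one_iff]
      exact hk.2)
    show a ^ φ (inL k) = 1
    rw [this, map_zero, zpow_zero]
  let f : (proj Q).ker →* σ₁.ker := r₁ * δ
  have hf : ∀ m : mult Q, f ⟨m, mult_le_ker Q m.2⟩ = f₁ m := fun m => by
    show r₁ _ * δ _ = _
    rw [hδ _ m.2, mul_one]
    exact Subtype.ext rfl
  let N : Subgroup (Pres Q) := f.ker.map (proj Q).ker.subtype
  have hN : N ≤ (proj Q).ker := Subgroup.map_subtype_le _
  haveI hNn : N.Normal := ⟨fun x hx g => by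
    rw [Subgroup.mem_center_iff.1 (ker_le_center Q (hN hx)) g, mul_inv_cancel_right]
    exact hx⟩
  have hinf : N ⊓ mult Q = ⊥ := by
    rw [eq_bot_iff]
    rintro _ ⟨⟨k, hk, rfl⟩, hm⟩
    have hk' : f k = 1 := hk
    rw [show k = ⟨((⟨(k : Pres Q), hm⟩ : mult Q) : Pres Q), k.2⟩ from Subtype.ext rfl,
      hf ⟨(k : Pres Q), hm⟩, map_eq_one_iff f₁ f₁.injective] at hk'
    exact Subgroup.mem_bot.2 (congrArg Subtype.val hk' :)
  have hsup : N ⊔ mult Q = (proj Q).ker := by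
    refine le_antisymm (sup_le hN (mult_le_ker Q)) fun k hk => ?_
    set m := f₁.symm (f ⟨k, hk⟩) with hmdef
    have h1 : (⟨k, hk⟩ * ⟨(m : Pres Q), mult_le_ker Q m.2⟩⁻¹ : (proj Q).ker) ∈ f.ker := by
      rw [MonoidHom.mem_ker, map_mul, map_inv, hf, hmdef, MulEquiv.apply_symm_apply, mul_inv_cancel]
    have h2 := Subgroup.mul_mem_sup (S := N) (T := mult Q)
      (Subgroup.mem_map_of_mem (proj Q).ker.subtype h1) m.2
    simpa using h2
  obtain ⟨hfin, hstem, hcard⟩ := cover_of_complement N hN hinf hsup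
  refine ⟨N, hNn, hN, hfin, hstem, hcard, ?_⟩
  rintro ⟨e, he⟩
  set σ₂ := QuotientGroup.lift N (proj Q) hN
  have hmk : σ₂.comp (QuotientGroup.mk' N) = proj Q := MonoidHom.ext fun y => rfl
  let f₂ := MulEquiv.ofBijective (multMap hmk) (multMap_bijective hstem hmk hcard)
  let h : σ₂.ker →* σ₁.ker := f₁.toMonoidHom.comp f₂.symm.toMonoidHom
  have hh : ∀ (k : (proj Q).ker) (hk : ((k : Pres Q) : Pres Q ⧸ N) ∈ σ₂.ker),
      h ⟨_, hk⟩ = f k := by
    intro k hk
    obtain ⟨m, hm⟩ := f₂.surjective ⟨_, hk⟩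
    show f₁ (f₂.symm _) = _
    rw [← hm, MulEquiv.symm_apply_apply, ← hf m]
    have e0 : (((m : Pres Q)) : Pres Q ⧸ N) = ((k : Pres Q) : Pres Q ⧸ N) := congrArg Subtype.val hm
    rw [QuotientGroup.eq] at e0
    obtain ⟨n, hn, hn'⟩ := e0
    have : k = ⟨(m : Pres Q), mult_le_ker Q m.2⟩ * n := Subtype.ext (by
      rw [Subgroup.coe_mul, show ((n : Pres Q)) = (m : Pres Q)⁻¹ * (k : Pres Q) from hn', mul_inv_cancel_left])
    rw [this, map_mul, MonoidHom.mem_ker.1 hn, mul_one]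
  have he' : ∀ y, σ₂ (e (β₁ y)) = proj Q y := fun y => by
    rw [← hβ₁, MonoidHom.comp_apply, ← he]
    rfl
  have hd : ∀ y, (e (β₁ y))⁻¹ * (y : Pres Q ⧸ N) ∈ σ₂.ker := fun y => by
    rw [MonoidHom.mem_ker, map_mul, map_inv, he']
    exact inv_mul_cancel _
  let χ : Pres Q →* σ₁.ker :=
    { toFun := fun y => h ⟨(e (β₁ y))⁻¹ * (y : Pres Q ⧸ N), hd y⟩
      map_one' := by
        rw [← map_one h]
        congr 1
        exact Subtype.ext (by simp)
      map_mul' := fun y z => by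
        rw [← map_mul h]
        congr 1
        refine Subtype.ext ?_
        show (e (β₁ (y * z)))⁻¹ * ((y * z : Pres Q) : Pres Q ⧸ N) =
          (e (β₁ y))⁻¹ * (y : Pres Q ⧸ N) * ((e (β₁ z))⁻¹ * (z : Pres Q ⧸ N))
        rw [map_mul, map_mul, mul_inv_rev, QuotientGroup.mk_mul]
        have hc := Subgroup.mem_center_iff.1 (hstem.2.1 (hd y)) (e (β₁ z))⁻¹
        rw [← mul_assoc ((e (β₁ y))⁻¹ * (y : Pres Q ⧸ N)) (e (β₁ z))⁻¹ (z : Pres Q ⧸ N), ← hc]
        simp only [mul_assoc] }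
  have hχδ : ∀ k : (proj Q).ker, χ k = δ k := by
    intro k
    obtain ⟨m, hm⟩ := f₁.surjective (r₁ k)
    have hm' : β₁ (m : Pres Q) = β₁ (k : Pres Q) := congrArg Subtype.val hm
    have h0 : χ (m : Pres Q) = 1 := MonoidHom.mem_ker.1 (Abelianization.commutator_subset_ker χ m.2.2)
    have hkm : ((k : Pres Q) : Pres Q ⧸ N) ∈ σ₂.ker := k.2
    have hmm : (((m : Pres Q)) : Pres Q ⧸ N) ∈ σ₂.ker := mult_le_ker Q m.2
    have h3 : χ (k : Pres Q) = (h ⟨_, hmm⟩)⁻¹ * h ⟨_, hkm⟩ * χ (m : Pres Q) := by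
      show h _ = (h _)⁻¹ * h _ * h _
      rw [← map_inv h, ← map_mul h, ← map_mul h]
      congr 1
      refine Subtype.ext ?_
      show _ = (((m : Pres Q) : Pres Q ⧸ N))⁻¹ * ((k : Pres Q) : Pres Q ⧸ N) *
        ((e (β₁ (m : Pres Q)))⁻¹ * ((m : Pres Q) : Pres Q ⧸ N))
      have hc := Subgroup.mem_center_iff.1 (hstem.2.1 (Subgroup.mul_mem _ (Subgroup.inv_mem _ hmm) hkm))
        ((e (β₁ (m : Pres Q)))⁻¹ * ((m : Pres Q) : Pres Q ⧸ N))
      rw [← hc, hm', mul_assoc, mul_inv_cancel_left]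
    rw [h3, h0, mul_one, hh k hkm, hh ⟨_, mult_le_ker Q m.2⟩ hmm, hf, hm]
    show (r₁ k)⁻¹ * (r₁ k * δ k) = δ k
    rw [inv_mul_cancel_left]
  obtain ⟨x', hx'⟩ := freeAb_surjective (Q := Q) x
  obtain ⟨ky, hky, hky'⟩ := hxl
  have hcomm : (x' ^ l)⁻¹ * ky ∈ commutator (Pres Q) := by
    rw [← freeAb_eq_one_iff, map_mul, map_inv, map_pow, hky', hx', inv_mul_cancel]
  have h4 : χ ky = χ x' ^ l := by
    have h5 := MonoidHom.mem_ker.1 (Abelianization.commutator_subset_ker χ hcomm)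
    rw [map_mul, map_inv, map_pow, inv_mul_eq_one] at h5
    exact h5.symm
  rw [hχδ ⟨ky, hky⟩] at h4
  have h6 : inL ⟨ky, hky⟩ = ⟨(l : ℤ) • Multiplicative.toAdd x, hya⟩ := Subtype.ext (by
    show Multiplicative.toAdd (freeAb Q ky) = _
    rw [hky', toAdd_pow]
    exact (natCast_zsmul _ _).symm)
  have h7 : a ^ φ (inL ⟨ky, hky⟩) = χ x' ^ l := h4
  rw [h6] at h7
  obtain ⟨u, v, huv⟩ := (Prime.coprime_iff_not_dvd (Nat.prime_iff_prime_int.1 hl)).2 hφ
  refine ha (a ^ u * (χ x') ^ v) ?_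
  have e1 : a = a ^ (u * (l : ℤ) + v * φ ⟨(l : ℤ) • Multiplicative.toAdd x, hya⟩) := by
    rw [huv, zpow_one]
  conv_rhs => rw [e1, zpow_add, zpow_mul, zpow_mul', h7, zpow_natCast]
  rw [mul_pow, ← zpow_natCast (χ x') l, ← zpow_natCast ((χ x') ^ v) l, ← zpow_mul, ← zpow_mul,
    mul_comm v]

/-- Let `Q` be a finite group with Schur multiplier `A`. Any two Schur covering groups of `Q` (finite stem extensions `σ₁ : Γ₁ →* Q`, `σ₂ : Γ₂ →* Q` with kernels isomorphic to `A`, `Γ₁, Γ₂` in the universe of `Q`) are isomorphic over `Q` — there is a group isomorphism `e : Γ₁ ≃* Γ₂` with `σ₂ ∘ e = σ₁` — if and only if the order of the commutator quotient of `Q` is coprime to the order of `A`. In particular a finite perfect group has a unique Schur covering group up to isomorphism over it. -/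
theorem result {Q : Type u} [Group Q] [Finite Q] {A : Type v} [CommGroup A] (hA : Cfsg.HasSchurMultiplier Q A) : (∀ (Γ₁ Γ₂ : Type u) [Group Γ₁] [Finite Γ₁] [Group Γ₂] [Finite Γ₂] (σ₁ : Γ₁ →* Q) (σ₂ : Γ₂ →* Q), Cfsg.IsStemExtension σ₁ → Cfsg.IsStemExtension σ₂ → Nonempty (σ₁.ker ≃* A) → Nonempty (σ₂.ker ≃* A) → ∃ e : Γ₁ ≃* Γ₂, σ₂.comp e.toMonoidHom = σ₁) ↔ Nat.Coprime (Nat.card (Abelianization Q)) (Nat.card A) := by
  obtain ⟨eA⟩ := nonempty_equiv hA
  have hcA : Nat.card (mult Q) = Nat.card A := Nat.card_congr eA.toEquiv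
  constructor
  · intro hu
    by_contra hcop
    obtain ⟨l, hl, hlQ, hlA⟩ := Nat.Prime.not_coprime_iff_dvd.1 hcop
    obtain ⟨⟨Γ₁, _, _, σ₁, hσ₁, ⟨e₁⟩⟩, -⟩ := hA
    have hc₁ : Nat.card σ₁.ker = Nat.card (mult Q) := (Nat.card_congr e₁.toEquiv).trans hcA.symm
    obtain ⟨N, _, hN, _, hstem, hcard, hno⟩ :=
      exists_second_cover hσ₁ hc₁ hl hlQ (by rwa [hc₁, hcA])
    obtain ⟨β, hβ⟩ := exists_lift _ hstem.1 hstem.2.1
    exact hno (hu Γ₁ (Pres Q ⧸ N) σ₁ _ hσ₁ hstem ⟨e₁⟩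
      ⟨(MulEquiv.ofBijective _ (multMap_bijective hstem hβ hcard)).symm.trans eA⟩)
  · intro hcop Γ₁ Γ₂ _ _ _ _ σ₁ σ₂ h₁ h₂ he₁ he₂
    obtain ⟨e₁⟩ := he₁
    obtain ⟨e₂⟩ := he₂
    exact unique_cover h₁ h₂ ((Nat.card_congr e₁.toEquiv).trans hcA.symm)
      ((Nat.card_congr e₂.toEquiv).trans hcA.symm) (by rwa [Nat.card_congr e₂.toEquiv])

end Cfsg.Agent.S3974
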