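import Cfsg.Statements.S3977
import Cfsg.Agent.S0016

set_option autoImplicit false
open Cfsg

namespace Cfsg.Agent.S3977

/-- Let `p` be a prime and `G` a group of order `p ^ m` which has exactly one subgroup of order `p ^ s`, where `1 ≤ s < m`, and where `s ≥ 2` if `p = 2`. Then `G` is cyclic. (For `p = 2` and `s = 1` the generalized quaternion groups also occur; that case is the classical criterion for a unique involution.) -/
theorem result {G : Type*} [Group G] [Finite G] (p m s : ℕ) (hp : p.Prime) (hG : Nat.card G = p ^ m) (hs : 1 ≤ s) (hsm : s < m) (h2 : p ≠ 2 ∨ 2 ≤ s) (huniq : ∀ H K : Subgroup G, Nat.card H = p ^ s → Nat.card K = p ^ s → H = K) : IsCyclic G := by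
  haveI : Fact p.Prime := ⟨hp⟩
  have hpG : IsPGroup p G := IsPGroup.of_card hG
  obtain ⟨H, hH, _⟩ := Sylow.exists_subgroup_card_pow_prime_le p (hG ▸ pow_dvd_pow p hsm.le) (⊥ : Subgroup G)
    (n := 0) (by simp) (Nat.zero_le s)
  have hmem : ∀ K : Subgroup G, (∃ j ≤ s, Nat.card K = p ^ j) → K ≤ H := by
    intro K ⟨j, hj, hK⟩
    obtain ⟨L, hL, hKL⟩ := Sylow.exists_subgroup_card_pow_prime_le p (hG ▸ pow_dvd_pow p hsm.le) K hK hj
    rwa [huniq L H hL hH] at hKL
  obtain ⟨x, hx⟩ : ∃ x, x ∉ H := by
    by_contra h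
    push Not at h
    have : H = ⊤ := eq_top_iff.mpr (fun g _ => h g)
    rw [this, Subgroup.card_top, hG] at hH
    exact hsm.ne' (Nat.pow_right_injective hp.two_le hH)
  obtain ⟨j, hj⟩ := IsPGroup.iff_card.mp (hpG.to_subgroup (Subgroup.zpowers x))
  have hsj : s ≤ j := by
    by_contra hlt
    exact hx (hmem _ ⟨j, by omega, hj⟩ (Subgroup.mem_zpowers x))
  obtain ⟨L, hL⟩ := Sylow.exists_subgroup_card_pow_prime (G := Subgroup.zpowers x) p (n := s) (hj ▸ pow_dvd_pow p hsj)
  have hHL : H = L.map (Subgroup.zpowers x).subtype :=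
    huniq _ _ hH (by rw [Subgroup.card_map_of_injective (Subgroup.subtype_injective _)]; exact hL)
  have hcyc : IsCyclic H := by
    rw [hHL]
    exact isCyclic_of_surjective (L.equivMapOfInjective _ (Subgroup.subtype_injective _)).toMonoidHom (MulEquiv.surjective _)
  have hu : ∀ K L : Subgroup G, Nat.card K = p → Nat.card L = p → K = L := by
    intro K L hK hL
    have key : ∀ M : Subgroup G, Nat.card M = p → M ≤ H := fun M hM => hmem M ⟨1, hs, by rw [pow_one]; exact hM⟩
    haveI := hcyc
    have e : K.subgroupOf H = L.subgroupOf H := by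
      have hc : ∀ M : Subgroup G, Nat.card M = p → Nat.card (M.subgroupOf H) = p := fun M hM =>
        (Nat.card_congr (Subgroup.subgroupOfEquivOfLe (key M hM)).toEquiv).trans hM
      classical
      letI := Fintype.ofFinite H
      have key2 : ∀ M : Subgroup H, Nat.card M = p →
          Finset.univ.filter (fun a => a ∈ M) = Finset.univ.filter (fun a : H => a ^ p = 1) := by
        intro M hM
        refine Finset.eq_of_subset_of_card_le (fun a ha => ?_) ?_
        · simp only [Finset.mem_filter, Finset.mem_univ, true_and] at ha ⊢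
          have h1 : a ^ Nat.card M = 1 := congrArg Subtype.val (pow_card_eq_one' (x := (⟨a, ha⟩ : M)))
          rwa [hM] at h1
        · refine (IsCyclic.card_pow_eq_one_le hp.pos).trans ?_
          rw [← Fintype.card_subtype, ← Nat.card_eq_fintype_card]
          exact hM.ge
      ext a
      have := congrArg (fun T : Finset H => a ∈ T) ((key2 _ (hc K hK)).trans (key2 _ (hc L hL)).symm)
      simpa using this
    rw [← inf_eq_left.mpr (key K hK), ← inf_eq_left.mpr (key L hL), ← Subgroup.subgroupOf_map_subtype,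
      ← Subgroup.subgroupOf_map_subtype, e]
  rcases Cfsg.Agent.S0016.result p hpG hu with h | ⟨rfl, n, ⟨e⟩⟩
  · exact h
  · exfalso
    haveI : NeZero (2 ^ n) := ⟨pow_ne_zero _ two_ne_zero⟩
    have hs2 : 2 ≤ s := h2.resolve_left (fun h => h rfl)
    have hxa : ∀ i, e.symm (QuaternionGroup.xa i) ∈ H := by
      intro i
      refine hmem _ ⟨2, hs2, ?_⟩ (Subgroup.mem_zpowers _)
      rw [Nat.card_zpowers, MulEquiv.orderOf_eq, QuaternionGroup.orderOf_xa]
      norm_num
    apply hx
    rw [← e.symm_apply_apply x]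
    rcases e x with i | i
    · have : QuaternionGroup.a i = (QuaternionGroup.xa 0 : QuaternionGroup (2 ^ n)) * QuaternionGroup.xa (i - ((2 ^ n : ℕ) : ZMod (2 * 2 ^ n))) := by
        rw [QuaternionGroup.xa_mul_xa]
        congr 1
        ring
      rw [this, map_mul]
      exact H.mul_mem (hxa _) (hxa _)
    · exact hxa i

end Cfsg.Agent.S3977
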