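import Cfsg.Statements.S3978
import Cfsg.Agent.EqLemmas
import Cfsg.Agent.Lib.SchurCover.Projective

set_option autoImplicit false
open Cfsg

namespace Cfsg.Agent.S3978

open Cfsg.Agent.SchurCover

theorem lifts_of_trivial {Q : Type*} [Group Q] [Finite Q] (h : ∀ m ∈ mult Q, m = 1) (n : ℕ)
    (γ : Q →* GL (Fin n) ℂ ⧸ Scal n) :
    ∃ ρ : Q →* GL (Fin n) ℂ, (QuotientGroup.mk' (Scal n)).comp ρ = γ := by
  obtain ⟨ρ, hρ⟩ := exists_lift_projective γ
  have hK : ∀ x : (proj Q).ker, ρ x ∈ Scal n := fun x => by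
    rw [← QuotientGroup.eq_one_iff, ← QuotientGroup.mk'_apply, ← MonoidHom.comp_apply, hρ,
      MonoidHom.comp_apply, MonoidHom.mem_ker.1 x.2, map_one]
  let f : (proj Q).ker →* Scal n := (ρ.comp (proj Q).ker.subtype).codRestrict _ hK
  have hbot : (proj Q).ker ⊓ commutator (Pres Q) = ⊥ := by
    rw [eq_bot_iff]
    exact fun m hm => Subgroup.mem_bot.2 (h m hm)
  obtain ⟨χ, hχ⟩ := exists_extension_to_center (proj Q).ker hbot f
  let ρ' : Pres Q →* GL (Fin n) ℂ :=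
    { toFun := fun x => ((χ x)⁻¹ : Scal n) * ρ x
      map_one' := by simp
      map_mul' := fun x y => by
        rw [map_mul, map_mul, mul_inv, Subgroup.coe_mul]
        have hc := Subgroup.mem_center_iff.1 ((χ y)⁻¹).2 (ρ x)
        rw [mul_assoc, mul_assoc, ← mul_assoc _ (ρ x) (ρ y), ← hc]
        group }
  have hker : (proj Q).ker ≤ ρ'.ker := fun x hx => by
    show ((χ x)⁻¹ : Scal n) * ρ x = (1 : GL (Fin n) ℂ)
    rw [hχ ⟨x, hx⟩]
    exact inv_mul_cancel (ρ x)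
  refine ⟨MonoidHom.liftOfSurjective (proj Q) (proj_surjective Q) ⟨ρ', hker⟩, MonoidHom.ext fun q => ?_⟩
  obtain ⟨x, rfl⟩ := proj_surjective Q q
  have h1 : MonoidHom.liftOfSurjective (proj Q) (proj_surjective Q) ⟨ρ', hker⟩ (proj Q x) = ρ' x :=
    MonoidHom.liftOfRightInverse_comp_apply _ _ (Function.rightInverse_surjInv (proj_surjective Q)) _ x
  rw [MonoidHom.comp_apply, h1]
  show QuotientGroup.mk' (Scal n) (((χ x)⁻¹ : Scal n) * ρ x) = _
  rw [map_mul, ← MonoidHom.comp_apply γ, ← hρ, MonoidHom.comp_apply]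
  have h2 : QuotientGroup.mk' (Scal n) (((χ x)⁻¹ : Scal n) : GL (Fin n) ℂ) = 1 :=
    (QuotientGroup.eq_one_iff _).2 ((χ x)⁻¹).2
  rw [h2, one_mul]

theorem trivial_of_lifts {Q : Type*} [Group Q] [Finite Q]
    (h : ∀ (n : ℕ) (γ : Q →* GL (Fin n) ℂ ⧸ Scal n),
      ∃ ρ : Q →* GL (Fin n) ℂ, (QuotientGroup.mk' (Scal n)).comp ρ = γ) :
    ∀ m ∈ mult Q, m = 1 := by
  intro m hm
  by_contra hm1
  obtain ⟨n, γ, ρ, hρ, hne⟩ := exists_rep_detecting hm hm1
  obtain ⟨ρ₀, hρ₀⟩ := h n γ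
  have hs : ∀ x, (ρ₀ (proj Q x))⁻¹ * ρ x ∈ Scal n := fun x => by
    rw [← QuotientGroup.eq]
    show (QuotientGroup.mk' (Scal n)).comp ρ₀ (proj Q x) = (QuotientGroup.mk' (Scal n)).comp ρ x
    rw [hρ₀, hρ]
    rfl
  let χ : Pres Q →* Scal n :=
    { toFun := fun x => ⟨(ρ₀ (proj Q x))⁻¹ * ρ x, hs x⟩
      map_one' := Subtype.ext (by simp)
      map_mul' := fun x y => Subtype.ext (by
        show (ρ₀ (proj Q (x * y)))⁻¹ * ρ (x * y) =
          (ρ₀ (proj Q x))⁻¹ * ρ x * ((ρ₀ (proj Q y))⁻¹ * ρ y)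
        have hc := Subgroup.mem_center_iff.1 (hs x) (ρ₀ (proj Q y))⁻¹
        rw [← mul_assoc ((ρ₀ (proj Q x))⁻¹ * ρ x), ← hc]
        simp only [map_mul, mul_inv_rev, mul_assoc]) }
  have h1 : χ m = 1 := by
    rw [← MonoidHom.mem_ker]
    exact Abelianization.commutator_subset_ker χ hm.2
  have h2 : (ρ₀ (proj Q m))⁻¹ * ρ m = 1 := congrArg Subtype.val h1
  rw [MonoidHom.mem_ker.1 hm.1, map_one, inv_one, one_mul] at h2
  exact hne h2

/-- A finite group `Q` has trivial Schur multiplier if and only if, for every `n`, every homomorphism from `Q` to the projective general linear group (the quotient of `GL n ℂ` by its centre) lifts to a homomorphism into `GL n ℂ`. -/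
theorem result {Q : Type*} [Group Q] [Finite Q] : Cfsg.HasCyclicSchurMultiplier Q 1 ↔ ∀ (n : ℕ) (γ : Q →* (GL (Fin n) ℂ ⧸ Subgroup.center (GL (Fin n) ℂ))), ∃ ρ : Q →* GL (Fin n) ℂ, (QuotientGroup.mk' (Subgroup.center (GL (Fin n) ℂ))).comp ρ = γ := by
  constructor
  · intro h
    obtain ⟨e⟩ := nonempty_equiv h
    refine lifts_of_trivial fun m hm => ?_
    have h1 : (⟨m, hm⟩ : mult Q) = 1 := e.injective (Subsingleton.elim _ _)
    exact congrArg Subtype.val h1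
  · intro h
    have ht := trivial_of_lifts h
    have : Subsingleton (mult Q) :=
      ⟨fun a b => Subtype.ext ((ht a a.2).trans (ht b b.2).symm)⟩
    let e : mult Q ≃* Multiplicative (ZMod 1) :=
      { toFun := fun _ => 1
        invFun := fun _ => 1
        left_inv := fun _ => Subsingleton.elim _ _
        right_inv := fun _ => Subsingleton.elim _ _
        map_mul' := fun _ _ => Subsingleton.elim _ _ }
    obtain ⟨⟨Γ, i₁, i₂, σ, hσ, ⟨e₀⟩⟩, h2⟩ := hasSchurMultiplier_mult Q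
    refine ⟨⟨Γ, i₁, i₂, σ, hσ, ⟨e₀.trans e⟩⟩, fun Δ _ _ τ hτ => ?_⟩
    obtain ⟨π, hπ⟩ := h2 Δ τ hτ
    exact ⟨π.comp e.symm.toMonoidHom, hπ.comp e.symm.surjective⟩

end Cfsg.Agent.S3978
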