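import Cfsg.Statements.S3980
import Cfsg.Agent.EqLemmas
import Cfsg.Agent.Lib.SchurCover.Product

set_option autoImplicit false
universe u v w
open Cfsg

namespace Cfsg.Agent.S3980

open scoped TensorProduct
open Cfsg.Agent.SchurCover

theorem subsingleton_tensor {M N : Type*} [AddCommGroup M] [AddCommGroup N] [Finite M] [Finite N]
    (h : Nat.Coprime (Nat.card M) (Nat.card N)) : Subsingleton (M ⊗[ℤ] N) := by
  have h0 : ∀ z : M ⊗[ℤ] N, z = 0 := by
    intro z
    induction z using TensorProduct.induction_on with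
    | zero => rfl
    | tmul a b =>
      have hb : ∀ k : ℤ, k • (a ⊗ₜ[ℤ] b) = a ⊗ₜ[ℤ] (k • b) := fun k => (TensorProduct.tmul_smul k a b).symm
      have h1 : (Nat.card M : ℤ) • (a ⊗ₜ[ℤ] b) = 0 := by
        rw [TensorProduct.smul_tmul', natCast_zsmul, card_nsmul_eq_zero', TensorProduct.zero_tmul]
      have h2 : (Nat.card N : ℤ) • (a ⊗ₜ[ℤ] b) = 0 := by
        rw [hb, natCast_zsmul, card_nsmul_eq_zero', TensorProduct.tmul_zero]
      obtain ⟨x, y, hxy⟩ := (Nat.isCoprime_iff_coprime.2 h : IsCoprime (Nat.card M : ℤ) (Nat.card N : ℤ))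
      rw [← one_smul ℤ (a ⊗ₜ[ℤ] b), ← hxy, add_smul, mul_smul, mul_smul, h1, h2, smul_zero, smul_zero,
        add_zero]
    | add a b ha hb => rw [ha, hb, add_zero]
  exact ⟨fun a b => (h0 a).trans (h0 b).symm⟩

/-- Let `Q₁` and `Q₂` be finite groups whose commutator quotients have coprime orders, with Schur multipliers `A` and `B`. Then the Schur multiplier of `Q₁ × Q₂` is isomorphic to `A × B`. -/
theorem result {Q₁ : Type u} {Q₂ : Type v} [Group Q₁] [Group Q₂] [Finite Q₁] [Finite Q₂] {A B : Type w} [CommGroup A] [CommGroup B] (hA : Cfsg.HasSchurMultiplier Q₁ A) (hB : Cfsg.HasSchurMultiplier Q₂ B) (hcop : Nat.Coprime (Nat.card (Abelianization Q₁)) (Nat.card (Abelianization Q₂))) : Cfsg.HasSchurMultiplier (Q₁ × Q₂) (A × B) := by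
  haveI : Finite (Abelianization Q₁) := Finite.of_surjective _ (QuotientGroup.mk'_surjective (commutator Q₁))
  haveI : Finite (Abelianization Q₂) := Finite.of_surjective _ (QuotientGroup.mk'_surjective (commutator Q₂))
  haveI : Finite (Additive (Abelianization Q₁)) := Finite.of_equiv _ Additive.ofMul
  haveI : Finite (Additive (Abelianization Q₂)) := Finite.of_equiv _ Additive.ofMul
  haveI := subsingleton_tensor (M := Additive (Abelianization Q₁)) (N := Additive (Abelianization Q₂))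
    (by rwa [Nat.card_congr Additive.ofMul.symm, Nat.card_congr Additive.ofMul.symm])
  haveI : Subsingleton (AbTensor Q₁ Q₂) := Multiplicative.toAdd.subsingleton
  let e : A × B × AbTensor Q₁ Q₂ ≃* A × B :=
    { toFun := fun x => (x.1, x.2.1)
      invFun := fun x => (x.1, x.2, 1)
      left_inv := fun x => Prod.ext rfl (Prod.ext rfl (Subsingleton.elim _ _))
      right_inv := fun x => rfl
      map_mul' := fun x y => rfl }
  obtain ⟨⟨Γ, i₁, i₂, σ, hσ, ⟨e₀⟩⟩, h2⟩ := hasSchurMultiplier_prod hA hB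
  refine ⟨⟨Γ, i₁, i₂, σ, hσ, ⟨e₀.trans e⟩⟩, fun Δ _ _ τ hτ => ?_⟩
  obtain ⟨π, hπ⟩ := h2 Δ τ hτ
  exact ⟨π.comp e.symm.toMonoidHom, hπ.comp e.symm.surjective⟩

end Cfsg.Agent.S3980
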