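import Cfsg.Statements.S3981
import Cfsg.Agent.Lib.Isolated.Basic

set_option autoImplicit false
open Cfsg

namespace Cfsg.Agent.S3981

theorem reduce {G : Type*} [Group G] (y : G) (h : y * y = 1) (g : G) : y * (y * g) = g := by
  rw [← mul_assoc, h, one_mul]


/-- Let p be an odd prime, Q a p-subgroup of the finite group G and y an involution normalizing Q. Then Q is maximal among the p-subgroups of G normalized by y if and only if the image of y in N_G(Q) ⧸ Q neither inverts nor centralizes any element of order p there; the latter is phrased inside N_G(Q): for every x in N_G(Q) outside Q with x ^ p ∈ Q, neither y x y⁻¹ x nor y x y⁻¹ x⁻¹ lies in Q. -/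
theorem result {G : Type*} [Group G] [Finite G] (p : ℕ) [Fact p.Prime] (hp2 : p ≠ 2) (Q : Subgroup G) (hQ : IsPGroup p ↥Q) (y : G) (hy : orderOf y = 2) (hyQ : y ∈ Subgroup.normalizer (Q : Set G)) : (∀ R : Subgroup G, IsPGroup p ↥R → Q ≤ R → y ∈ Subgroup.normalizer (R : Set G) → R = Q) ↔ ∀ x : G, x ∈ Subgroup.normalizer (Q : Set G) → x ∉ Q → x ^ p ∈ Q → (y * x * y⁻¹ * x ∉ Q ∧ y * x * y⁻¹ * x⁻¹ ∉ Q) := by
  haveI hF : Fact (Nat.Prime p) := inferInstance
  have hy2 : y * y = 1 := by rw [← sq, ← hy, pow_orderOf_eq_one]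
  have hyinv : y⁻¹ = y := inv_eq_of_mul_eq_one_right hy2
  constructor
  · intro hmax x hxN hxQ hxp
    by_contra hc
    have hcase : y * x * y⁻¹ * x ∈ Q ∨ y * x * y⁻¹ * x⁻¹ ∈ Q := by tauto
    apply hxQ
    have hxpg : IsPGroup p (Subgroup.zpowers x) := by
      obtain ⟨k, hk⟩ := hQ ⟨_, hxp⟩
      obtain ⟨j, -, hj⟩ := (Nat.dvd_prime_pow hF.out).mp (orderOf_dvd_of_pow_eq_one
        (show x ^ p ^ (k + 1) = 1 by rw [pow_succ', pow_mul]; simpa using congrArg Subtype.val hk))
      exact IsPGroup.of_card (n := j) ((Nat.card_zpowers x).trans hj)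
    set R := Subgroup.zpowers x ⊔ Q
    have hR : IsPGroup p R := hxpg.to_sup_of_normal_right' hQ (Subgroup.zpowers_le.mpr hxN)
    have hxR : x ∈ R := Subgroup.mem_sup_left (Subgroup.mem_zpowers x)
    have hyx : y * x * y⁻¹ ∈ R := by
      rcases hcase with h | h
      · simpa using R.mul_mem (Subgroup.mem_sup_right h) (R.inv_mem hxR)
      · simpa using R.mul_mem (Subgroup.mem_sup_right h) hxR
    have hyR : y ∈ Subgroup.normalizer (R : Set G) := by
      have h1 : R.map (MulAut.conj y).toMonoidHom ≤ R := by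
        rw [Subgroup.map_sup, MonoidHom.map_zpowers]
        refine sup_le (Subgroup.zpowers_le.mpr hyx) ?_
        rintro _ ⟨q, hq, rfl⟩
        exact Subgroup.mem_sup_right ((Subgroup.mem_normalizer_iff.mp hyQ q).mp hq)
      rw [Subgroup.mem_normalizer_iff]
      intro g
      refine ⟨fun hg => h1 ⟨g, hg, rfl⟩, fun hg => ?_⟩
      have := h1 ⟨_, hg, rfl⟩
      rw [MulEquiv.coe_toMonoidHom, MulAut.conj_apply] at this
      simpa [mul_assoc, hyinv, hy2, reduce y hy2] using this
    rw [← hmax R hR le_sup_right hyR]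
    exact hxR
  · intro hcond R hR hQR hyR
    by_contra hne
    -- the normaliser of `Q` in `R` properly contains `Q`
    obtain ⟨g, hgR, hgN, hgQ⟩ : ∃ g ∈ R, g ∈ Subgroup.normalizer (Q : Set G) ∧ g ∉ Q := by
      by_contra h
      push Not at h
      exact hne (Cfsg.Agent.Isolated.eq_of_normalizer_le hR hQR (fun g hg hn => h g hg hn)).symm
    set M := R ⊓ Subgroup.normalizer (Q : Set G)
    have hQM : Q ≤ M := le_inf hQR Subgroup.le_normalizer
    haveI hQn : (Q.subgroupOf M).Normal :=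
      Subgroup.normal_subgroupOf_of_le_normalizer inf_le_right
    have hMq : IsPGroup p (M ⧸ Q.subgroupOf M) := (hR.to_le inf_le_left).to_quotient _
    haveI : Nontrivial (M ⧸ Q.subgroupOf M) :=
      ⟨⟨QuotientGroup.mk ⟨g, hgR, hgN⟩, 1, fun e => hgQ (Subgroup.mem_subgroupOf.mp ((QuotientGroup.eq_one_iff _).mp e))⟩⟩
    haveI := hMq.center_nontrivial
    obtain ⟨c, hc⟩ : ∃ c : Subgroup.center (M ⧸ Q.subgroupOf M), orderOf c = p := by
      obtain ⟨n, hn⟩ := IsPGroup.iff_card.mp (hMq.to_subgroup (Subgroup.center _))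
      refine exists_prime_orderOf_dvd_card' p (hn ▸ dvd_pow_self p (fun e => ?_))
      rw [e, pow_zero] at hn
      exact absurd hn (Finite.one_lt_card (α := Subgroup.center (M ⧸ Q.subgroupOf M))).ne'
    obtain ⟨a, ha⟩ := QuotientGroup.mk'_surjective (Q.subgroupOf M) c.1
    have hbM : y * (a : G) * y⁻¹ ∈ M := by
      refine ⟨(Subgroup.mem_normalizer_iff.mp hyR _).mp a.2.1, ?_⟩
      exact (Subgroup.normalizer (Q : Set G)).mul_mem ((Subgroup.normalizer (Q : Set G)).mul_mem hyQ a.2.2)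
        ((Subgroup.normalizer (Q : Set G)).inv_mem hyQ)
    have hQconj : ∀ q : G, q ∈ Q ↔ y * q * y⁻¹ ∈ Q := Subgroup.mem_normalizer_iff.mp hyQ
    have hmem : ∀ u : M, QuotientGroup.mk' (Q.subgroupOf M) u = 1 ↔ (u : G) ∈ Q := fun u =>
      (QuotientGroup.eq_one_iff u).trans Subgroup.mem_subgroupOf
    set b : M := ⟨_, hbM⟩
    have hap : (a : G) ^ p ∈ Q := (hmem (a ^ p)).mp (by
      rw [map_pow, ha, ← hc, ← Subgroup.coe_pow, pow_orderOf_eq_one, Subgroup.coe_one])
    have hbp : (b : G) ^ p ∈ Q := by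
      show (y * (a : G) * y⁻¹) ^ p ∈ Q
      rw [conj_pow]
      exact (hQconj _).mp hap
    have hac : Commute (QuotientGroup.mk' (Q.subgroupOf M) a) (QuotientGroup.mk' (Q.subgroupOf M) b) :=
      ha ▸ (Subgroup.mem_center_iff.mp c.2 _).symm
    have ha1 : (a : G) ∉ Q := fun h => by
      have h1 := (hmem a).mpr h
      rw [ha] at h1
      rw [show c = 1 from Subtype.ext h1, orderOf_one] at hc
      exact hF.out.ne_one hc.symm
    by_cases hab : ((a * b : M) : G) ∈ Q
    · apply (hcond a a.2.2 ha1 hap).1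
      have h2 : QuotientGroup.mk' (Q.subgroupOf M) (b * a) = 1 := by
        rw [map_mul, ← hac.eq, ← map_mul]
        exact (hmem _).mpr hab
      exact (hmem _).mp h2
    · have h3 : ((a * b : M) : G) ^ p ∈ Q := (hmem ((a * b) ^ p)).mp (by
        rw [map_pow, map_mul, hac.mul_pow, ← map_pow, ← map_pow,
          (hmem (a ^ p)).mpr hap, (hmem (b ^ p)).mpr hbp, one_mul])
      apply (hcond _ (a * b).2.2 hab h3).2
      have h4 : QuotientGroup.mk' (Q.subgroupOf M) (b * a * (a * b)⁻¹) = 1 := by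
        rw [map_mul, map_mul, map_inv, map_mul, hac.eq, mul_inv_cancel]
      have h5 : y * ((a * b : M) : G) * y⁻¹ * ((a * b : M) : G)⁻¹ = ((b * a * (a * b)⁻¹ : M) : G) := by
        simp only [Subgroup.coe_mul, Subgroup.coe_inv]
        show y * ((a : G) * (y * a * y⁻¹)) * y⁻¹ * ((a : G) * (y * a * y⁻¹))⁻¹ = y * a * y⁻¹ * a * ((a : G) * (y * a * y⁻¹))⁻¹
        congr 1
        rw [hyinv]
        calc y * ((a : G) * (y * a * y)) * y = y * (a : G) * y * a * (y * y) := by group
          _ = _ := by rw [hy2, mul_one]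
      rw [h5]
      exact (hmem _).mp h4

end Cfsg.Agent.S3981
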