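import Cfsg.Statements.S3982
import Cfsg.Agent.Lib.Isolated.Basic
import Cfsg.Agent.Lib.Coprime.Invariant
import Cfsg.Agent.Lib.PowEqOne.Basic

set_option autoImplicit false
open Cfsg
open scoped Pointwise

namespace Cfsg.Agent.S3982

theorem normalizer_smul {G : Type*} [Group G] (g : G) (H : Subgroup G) :
    Subgroup.normalizer ((MulAut.conj g • H : Subgroup G) : Set G) =
      (Subgroup.normalizer (H : Set G)).map (MulAut.conj g).toMonoidHom := by
  rw [Subgroup.map_equiv_normalizer_eq]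
  rfl

/-- an involution normalising a group `K` of odd order, modulo which it commutes with `u`, commutes with some element of `K u` -/
theorem exists_fix {G : Type*} [Group G] [Finite G] {t : G} (hto : orderOf t = 2) {K : Subgroup G}
    (htK : ∀ x ∈ K, t * x * t⁻¹ ∈ K) (hodd : Odd (Nat.card K)) (u : G) (hu : t * u * t⁻¹ * u⁻¹ ∈ K) :
    ∃ c ∈ K, Commute t (c * u) := by
  have htt : t * t = 1 := by rw [← sq, ← hto, pow_orderOf_eq_one]
  have htinv : t⁻¹ = t := inv_eq_of_mul_eq_one_right htt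
  set d := t * u * t⁻¹ * u⁻¹ with hd
  have hdinv : t * d * t⁻¹ = d⁻¹ := by
    rw [hd, htinv]
    calc t * (t * u * t * u⁻¹) * t = (t * t) * u * t * u⁻¹ * t := by group
      _ = u * t⁻¹ * u⁻¹ * t⁻¹ := by rw [htt, one_mul, htinv]
      _ = _ := by group
  obtain ⟨m, hm⟩ := hodd
  have hdpow : d ^ (2 * (m + 1)) = d := by
    have h1 : d ^ Nat.card K = 1 := congrArg Subtype.val (pow_card_eq_one' (x := (⟨d, hu⟩ : K)))
    rw [show 2 * (m + 1) = Nat.card K + 1 by omega, pow_succ, h1, one_mul]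
  refine ⟨d ^ (m + 1), K.pow_mem hu _, ?_⟩
  have e : t * (d ^ (m + 1) * u) * t⁻¹ = d ^ (m + 1) * u := by
    calc t * (d ^ (m + 1) * u) * t⁻¹ = (t * d ^ (m + 1) * t⁻¹) * (t * u * t⁻¹ * u⁻¹) * u := by group
      _ = (d ^ (m + 1))⁻¹ * d ^ (2 * (m + 1)) * u := by rw [← conj_pow, hdinv, inv_pow, hdpow]
      _ = _ := by rw [two_mul (m + 1), pow_add d (m + 1) (m + 1), inv_mul_cancel_left]
  exact mul_inv_eq_iff_eq_mul.mp e


/-- Let p be an odd prime and G a finite group of even order divisible by p in which the centralizer of every non-identity p-element has odd order. If some nontrivial p-subgroup of G has a normalizer of even order, then the normalizer of every Sylow p-subgroup of G has even order. -/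
theorem result {G : Type*} [Group G] [Finite G] (p : ℕ) [Fact p.Prime] (hp2 : p ≠ 2) (hpG : p ∣ Nat.card G) (h2G : 2 ∣ Nat.card G) (hC : ∀ g : G, g ≠ 1 → (∃ k : ℕ, orderOf g = p ^ k) → Odd (Nat.card ↥(Subgroup.centralizer ({g} : Set G)))) (Q : Subgroup G) (hQ : IsPGroup p ↥Q) (hQ1 : Q ≠ ⊥) (hev : Even (Nat.card ↥(Subgroup.normalizer (Q : Set G)))) (P : Sylow p G) : Even (Nat.card ↥(Subgroup.normalizer ((P : Subgroup G) : Set G))) := by
  haveI hF : Fact (Nat.Prime p) := inferInstance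
  haveI : Fact (Nat.Prime 2) := ⟨Nat.prime_two⟩
  obtain ⟨R, -, ⟨hRp, hR1, hRev⟩, hRmax⟩ := Finite.exists_le_maximal (α := Subgroup G)
    (p := fun R : Subgroup G => IsPGroup p R ∧ R ≠ ⊥ ∧ Even (Nat.card ↥(Subgroup.normalizer (R : Set G)))) (a := Q) ⟨hQ, hQ1, hev⟩
  by_cases hSyl : ∃ S : Sylow p G, (S : Subgroup G) = R
  · obtain ⟨S, rfl⟩ := hSyl
    obtain ⟨g, rfl⟩ := MulAction.exists_smul_eq G S P
    rw [Sylow.coe_subgroup_smul, normalizer_smul, Subgroup.card_map_of_injective (MulEquiv.injective _)]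
    exact hRev
  exfalso
  obtain ⟨tN, ht⟩ := exists_prime_orderOf_dvd_card' 2 (even_iff_two_dvd.mp hRev)
  set t : G := (tN : G)
  have hto : orderOf t = 2 := (orderOf_submonoid tN).trans ht
  have htt : t * t = 1 := by rw [← sq, ← hto, pow_orderOf_eq_one]
  have htinv : t⁻¹ = t := inv_eq_of_mul_eq_one_right htt
  have htR := Subgroup.mem_normalizer_iff.mp tN.2
  -- no non-trivial `p`-element commutes with an involution
  have hkey : ∀ w : G, (∃ k, orderOf w = p ^ k) → Commute t w → w = 1 := by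
    intro w hw hc
    by_contra hne
    refine Nat.not_even_iff_odd.mpr (hC w hne hw) (even_iff_two_dvd.mpr ?_)
    rw [← hto]
    exact Subgroup.orderOf_dvd_natCard _ (Subgroup.mem_centralizer_singleton_iff.mpr hc.eq)
  have hpel : ∀ r ∈ R, ∃ k, orderOf r = p ^ k := fun r hr => by
    obtain ⟨k, hk⟩ := hRp ⟨r, hr⟩
    obtain ⟨j, -, hj⟩ := (Nat.dvd_prime_pow hF.out).mp (orderOf_dvd_of_pow_eq_one (congrArg Subtype.val hk : r ^ p ^ k = 1))
    exact ⟨j, hj⟩
  -- `t` inverts `R`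
  have hinv : ∀ r ∈ R, t * r * t⁻¹ = r⁻¹ := by
    let f : R → R := fun r => ⟨(r : G)⁻¹ * (t * r * t⁻¹), R.mul_mem (R.inv_mem r.2) ((htR r).mp r.2)⟩
    have hf : Function.Injective f := by
      intro a b h
      have h1 : (a : G)⁻¹ * (t * a * t⁻¹) = (b : G)⁻¹ * (t * b * t⁻¹) := congrArg Subtype.val h
      have h2 : t * ((b : G) * (a : G)⁻¹)⁻¹ * t⁻¹ = ((b : G) * (a : G)⁻¹)⁻¹ := by
        have h3 : (a : G) * ((a : G)⁻¹ * (t * a * t⁻¹)) * (t * (b : G) * t⁻¹)⁻¹ =
            (a : G) * ((b : G)⁻¹ * (t * b * t⁻¹)) * (t * (b : G) * t⁻¹)⁻¹ := by rw [h1]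
        calc t * ((b : G) * (a : G)⁻¹)⁻¹ * t⁻¹ = (a : G) * ((a : G)⁻¹ * (t * a * t⁻¹)) * (t * (b : G) * t⁻¹)⁻¹ := by group
          _ = (a : G) * ((b : G)⁻¹ * (t * b * t⁻¹)) * (t * (b : G) * t⁻¹)⁻¹ := h3
          _ = _ := by group
      have h4 := hkey _ (hpel _ (R.inv_mem (R.mul_mem b.2 (R.inv_mem a.2)))) (mul_inv_eq_iff_eq_mul.mp h2)
      rw [inv_eq_one, mul_inv_eq_one] at h4
      exact Subtype.ext h4.symm
    intro r hr
    obtain ⟨s, hs⟩ := (Finite.injective_iff_surjective.mp hf) ⟨r, hr⟩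
    have h1 : (s : G)⁻¹ * (t * s * t⁻¹) = r := congrArg Subtype.val hs
    rw [← h1, htinv, mul_inv_rev, inv_inv]
    calc t * ((s : G)⁻¹ * (t * s * t)) * t = t * (s : G)⁻¹ * t * s * (t * t) := by group
      _ = t⁻¹ * (s : G)⁻¹ * t⁻¹ * s := by rw [htt, mul_one, htinv]
      _ = (t * s * t)⁻¹ * s := by group
  have hab : ∀ a ∈ R, ∀ b ∈ R, a * b = b * a := by
    intro a ha b hb
    have h := hinv _ (R.mul_mem ha hb)
    rw [show t * (a * b) * t⁻¹ = (t * a * t⁻¹) * (t * b * t⁻¹) by group, hinv a ha, hinv b hb, ← mul_inv_rev, inv_inj] at h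
    exact h.symm
  set C := Subgroup.centralizer (R : Set G)
  obtain ⟨r0, hr0, hr01⟩ := Subgroup.bot_or_exists_ne_one R |>.resolve_left hR1
  have hCodd : Odd (Nat.card C) :=
    (hC r0 hr01 (hpel r0 hr0)).of_dvd_nat (Subgroup.card_dvd_of_le (Subgroup.centralizer_le (Set.singleton_subset_iff.mpr hr0)))
  -- every `p`-element of `N(R)` lies in `C(R)`
  have hpC : ∀ u ∈ Subgroup.normalizer (R : Set G), (∃ k, orderOf u = p ^ k) → u ∈ C := by
    intro u hu ⟨k, hk⟩
    rw [Subgroup.mem_centralizer_iff]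
    intro r hr
    have hur : u * r * u⁻¹ ∈ R := (Subgroup.mem_normalizer_iff.mp hu r).mp hr
    have hcc : t * u * t⁻¹ * u⁻¹ ∈ C := by
      rw [Subgroup.mem_centralizer_iff]
      intro s hs
      have h1 : u⁻¹ * s * u ∈ R := by
        rw [Subgroup.mem_normalizer_iff.mp hu]; simpa [mul_assoc] using hs
      have e : t * u * t⁻¹ * u⁻¹ * s * (t * u * t⁻¹ * u⁻¹)⁻¹ = s := by
        calc t * u * t⁻¹ * u⁻¹ * s * (t * u * t⁻¹ * u⁻¹)⁻¹ = t * (u * (t⁻¹ * (u⁻¹ * s * u) * t) * u⁻¹) * t⁻¹ := by group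
          _ = t * (u * (u⁻¹ * s * u)⁻¹ * u⁻¹) * t⁻¹ := by
              have := hinv _ h1
              rw [htinv] at this ⊢
              rw [this]
          _ = t * s⁻¹ * t⁻¹ := by group
          _ = s := by rw [hinv _ (R.inv_mem hs), inv_inv]
      exact (mul_inv_eq_iff_eq_mul.mp e).symm
    -- the image of `u` commutes with that of `t`; split off a fixed point
    obtain ⟨c, hcC, hcfix⟩ := exists_fix (t := t) hto (K := C) (fun x hx => by
        rw [Subgroup.mem_centralizer_iff] at hx ⊢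
        intro s hs
        have h1 := hx _ (R.inv_mem hs)
        have e := hinv _ (R.inv_mem hs)
        rw [inv_inv] at e
        rw [← e]
        simp only [mul_assoc, inv_mul_cancel_left]
        rw [← mul_assoc s⁻¹ x, h1, mul_assoc]) hCodd u hcc
    set z := c * u
    obtain ⟨e, f, hef⟩ := Cfsg.Agent.PowEqOne.exists_split (G := G) (u := p ^ (Nat.card G).factorization p)
      (q := Nat.card G / p ^ (Nat.card G).factorization p)
      (Nat.Coprime.pow_left _ (Nat.coprime_ordCompl hF.out Nat.card_pos.ne'))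
    obtain ⟨h1, h2, h3, -⟩ := hef z (by rw [Nat.ordProj_mul_ordCompl_eq_self]; exact pow_card_eq_one')
    have hze : z ^ e = 1 := hkey _ (by
      obtain ⟨j, -, hj⟩ := (Nat.dvd_prime_pow hF.out).mp (orderOf_dvd_of_pow_eq_one h1)
      exact ⟨j, hj⟩) (Commute.pow_right hcfix e)
    rw [hze, one_mul] at h3
    have hzq : z ^ (Nat.card G / p ^ (Nat.card G).factorization p) = 1 := h3 ▸ h2
    -- so the conjugation action of `u` has order prime to `p`
    have hcN : c ∈ Subgroup.normalizer (R : Set G) := Subgroup.centralizer_le_normalizer _ hcC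
    set φ := Subgroup.normalizerMonoidHom R
    have hφ : φ ⟨u, hu⟩ = φ ⟨z, (Subgroup.normalizer (R : Set G)).mul_mem hcN hu⟩ := by
      rw [show (⟨z, (Subgroup.normalizer (R : Set G)).mul_mem hcN hu⟩ : Subgroup.normalizer (R : Set G)) = ⟨c, hcN⟩ * ⟨u, hu⟩ from rfl,
        map_mul, show φ ⟨c, hcN⟩ = 1 from ?_, one_mul]
      refine MulEquiv.ext (fun s => Subtype.ext ?_)
      show c * (s : G) * c⁻¹ = s
      rw [← Subgroup.mem_centralizer_iff.mp hcC s s.2, mul_inv_cancel_right]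
    have hφ1 : φ ⟨u, hu⟩ = 1 := by
      refine orderOf_eq_one_iff.mp (Nat.eq_one_of_dvd_coprimes
        (k := orderOf (φ ⟨u, hu⟩)) (Nat.Coprime.pow_left k (Nat.coprime_ordCompl (n := Nat.card G) hF.out Nat.card_pos.ne')) ?_ ?_)
      · exact (orderOf_map_dvd φ _).trans (by rw [← hk, ← orderOf_submonoid])
      · rw [hφ]
        exact orderOf_dvd_of_pow_eq_one (by rw [← map_pow, show (⟨z, _⟩ : Subgroup.normalizer (R : Set G)) ^ _ = 1 from Subtype.ext hzq, map_one])
    have h6 := congrArg Subtype.val (DFunLike.congr_fun hφ1 ⟨r, hr⟩)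
    have h5 : u * r * u⁻¹ = r := by simpa [φ] using h6
    exact (mul_inv_eq_iff_eq_mul.mp h5).symm
  have hRC : R ≤ C := fun a ha => Subgroup.mem_centralizer_iff.mpr (fun b hb => hab b hb a ha)
  have htC : Subgroup.zpowers t ≤ Subgroup.normalizer (C : Set G) :=
    Subgroup.zpowers_le.mpr (by
      have hmem : ∀ x ∈ C, t * x * t⁻¹ ∈ C := by
        intro x hx
        rw [Subgroup.mem_centralizer_iff] at hx ⊢
        intro s hs
        have h1 := hx _ (R.inv_mem hs)
        have e := hinv _ (R.inv_mem hs)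
        rw [inv_inv] at e
        rw [← e]
        simp only [mul_assoc, inv_mul_cancel_left]
        rw [← mul_assoc s⁻¹ x, h1, mul_assoc]
      rw [Subgroup.mem_normalizer_iff]
      intro x
      refine ⟨hmem x, fun hx => ?_⟩
      have h2 := hmem _ hx
      rwa [htinv, show t * (t * x * t) * t = (t * t) * x * (t * t) by group, htt, one_mul, mul_one] at h2)
  obtain ⟨S, hRS, hSt⟩ := Cfsg.Agent.Coprime.exists_invariant_sylow_ge (A := Subgroup.zpowers t) (K := C) htC
    (by rw [Nat.card_zpowers, hto]; exact Nat.coprime_two_left.mpr hCodd)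
    (Or.inl (isSolvable_of_comm (fun a b => by
      obtain ⟨a, i, rfl⟩ := a
      obtain ⟨b, j, rfl⟩ := b
      exact Subtype.ext ((Commute.refl t).zpow_zpow i j).eq))) hRC hRp (Subgroup.zpowers_le.mpr tN.2)
  set S' := (S : Subgroup C).map C.subtype
  have hS'p : IsPGroup p S' := S.isPGroup'.map _
  have hSR : S' ≤ R := hRmax ⟨hS'p, fun e => hR1 (le_bot_iff.mp (e ▸ hRS)), even_iff_two_dvd.mpr
    (hto ▸ Subgroup.orderOf_dvd_natCard _ (Subgroup.zpowers_le.mp hSt))⟩ hRS
  -- but `R` is a proper subgroup of a Sylow subgroup, hence of one of `N(R)`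
  obtain ⟨T, hT⟩ := hRp.exists_le_sylow
  obtain ⟨g, hgT, hgN, hgR⟩ : ∃ g ∈ (T : Subgroup G), g ∈ Subgroup.normalizer (R : Set G) ∧ g ∉ R := by
    by_contra h
    push Not at h
    exact hSyl ⟨T, (Cfsg.Agent.Isolated.eq_of_normalizer_le T.isPGroup' hT h).symm⟩
  obtain ⟨k, hk⟩ := T.isPGroup' ⟨g, hgT⟩
  obtain ⟨j, -, hj⟩ := (Nat.dvd_prime_pow hF.out).mp (orderOf_dvd_of_pow_eq_one (congrArg Subtype.val hk : g ^ p ^ k = 1))
  have hgC := hpC g hgN ⟨j, hj⟩
  -- `R ⊔ ⟨g⟩` is a `p`-subgroup of `C`, while the Sylow subgroup of `C` has order at most `|R|`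
  have hW : IsPGroup p (Subgroup.zpowers g ⊔ R : Subgroup G) :=
    (IsPGroup.of_card (n := j) ((Nat.card_zpowers g).trans hj)).to_sup_of_normal_right' hRp (Subgroup.zpowers_le.mpr hgN)
  have hWC : Subgroup.zpowers g ⊔ R ≤ C := sup_le (Subgroup.zpowers_le.mpr hgC) hRC
  have hWd : Nat.card (Subgroup.zpowers g ⊔ R : Subgroup G) ≤ Nat.card S' := by
    obtain ⟨n, hn⟩ := IsPGroup.iff_card.mp hW
    rw [Subgroup.card_map_of_injective C.subtype_injective, hn]
    refine Nat.le_of_dvd Nat.card_pos ?_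
    rw [Sylow.card_eq_multiplicity]
    refine pow_dvd_pow p ((hF.out.pow_dvd_iff_le_factorization Nat.card_pos.ne').mp ?_)
    rw [← hn]
    exact Subgroup.card_dvd_of_le hWC
  have := Subgroup.eq_of_le_of_card_ge (le_sup_right : R ≤ Subgroup.zpowers g ⊔ R) (hWd.trans (Subgroup.card_le_of_le hSR))
  exact hgR (this.symm ▸ Subgroup.mem_sup_left (Subgroup.mem_zpowers g))

end Cfsg.Agent.S3982
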