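import Cfsg.Statements.S3983
import Cfsg.Agent.EqLemmas

set_option autoImplicit false
open scoped Pointwise
open Cfsg

namespace Cfsg.Agent.S3983

/-- Let P be a Sylow p-subgroup of the finite group G that meets each conjugate g P g⁻¹ with g outside N_G(P) trivially, and let U be a subgroup of G of order divisible by p. Then a Sylow p-subgroup Q of U has the same property inside U: Q meets each conjugate u Q u⁻¹ with u ∈ U outside N_U(Q) trivially. -/
theorem result {G : Type*} [Group G] [Finite G] (p : ℕ) [Fact p.Prime] (P : Sylow p G) (hTI : ∀ g : G, g ∉ Subgroup.normalizer ((P : Subgroup G) : Set G) → (P : Subgroup G) ⊓ (MulAut.conj g • (P : Subgroup G)) = ⊥) (U : Subgroup G) (hU : p ∣ Nat.card ↥U) (Q : Sylow p ↥U) : ∀ u : ↥U, u ∉ Subgroup.normalizer ((Q : Subgroup ↥U) : Set ↥U) → (Q : Subgroup ↥U) ⊓ (MulAut.conj u • (Q : Subgroup ↥U)) = ⊥ := by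
  intro u hu
  have hQ : IsPGroup p ((Q : Subgroup ↥U).map U.subtype) := Q.isPGroup'.map _
  obtain ⟨R, hR⟩ := hQ.exists_le_sylow
  obtain ⟨g, rfl⟩ := MulAction.exists_smul_eq G P R
  have hQeq : (Q : Subgroup ↥U) = ((g • P : Sylow p G) : Subgroup G).subgroupOf U := by
    refine (Q.is_maximal' ?_ ?_).symm
    · exact (g • P).isPGroup'.comap_of_injective U.subtype U.subtype_injective
    · intro x hx
      exact hR (Subgroup.mem_map_of_mem U.subtype hx)
  have hne : g⁻¹ * (u : G) * g ∉ Subgroup.normalizer ((P : Subgroup G) : Set G) := by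
    intro hN
    replace hN : (g⁻¹ * (u : G) * g) • P = P := Sylow.smul_eq_iff_mem_normalizer.2 hN
    apply hu
    refine Sylow.smul_eq_iff_mem_normalizer.1 ?_
    have hfix : (u : G) • (g • P) = g • P := by
      have := congrArg (g • ·) hN
      simpa [smul_smul, mul_assoc] using this
    apply Sylow.ext
    rw [Sylow.coe_subgroup_smul, hQeq]
    ext x
    have := congrArg (fun S : Sylow p G => ((x : G) ∈ (S : Subgroup G))) hfix
    simpa [Subgroup.mem_pointwise_smul_iff_inv_smul_mem, Subgroup.mem_subgroupOf,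
      Sylow.coe_subgroup_smul] using this
  rw [eq_bot_iff]
  intro x hx
  obtain ⟨hx1, hx2⟩ := Subgroup.mem_inf.1 hx
  rw [hQeq, Subgroup.mem_subgroupOf, Sylow.coe_subgroup_smul,
    Subgroup.mem_pointwise_smul_iff_inv_smul_mem] at hx1
  rw [Subgroup.mem_pointwise_smul_iff_inv_smul_mem, hQeq, Subgroup.mem_subgroupOf,
    Sylow.coe_subgroup_smul, Subgroup.mem_pointwise_smul_iff_inv_smul_mem] at hx2
  have h : g⁻¹ * (x : G) * g ∈ (⊥ : Subgroup G) := by
    rw [← hTI _ hne, Subgroup.mem_inf]
    refine ⟨by simpa using hx1, ?_⟩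
    rw [Subgroup.mem_pointwise_smul_iff_inv_smul_mem]
    simpa [mul_assoc] using hx2
  rw [Subgroup.mem_bot] at h ⊢
  ext
  have : (x : G) = g * (g⁻¹ * (x : G) * g) * g⁻¹ := by group
  rw [this, h]; simp

end Cfsg.Agent.S3983
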