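import Cfsg.Statements.S3984
import Cfsg.Agent.Lib.Solvable.SchurZassenhaus

set_option autoImplicit false
open scoped Pointwise
open Cfsg
open scoped Pointwise

namespace Cfsg.Agent.S3984

theorem smul_eq_map {K : Type*} [Group K] (g : K) (H : Subgroup K) :
    MulAut.conj g • H = H.map (MulAut.conj g).toMonoidHom := rfl

theorem exists_conj_mem {G : Type*} [Group G] [Finite G] {p : ℕ} [Fact p.Prime] (P' R : Sylow p G)
    {N : Subgroup G} [N.Normal] (hN : (Nat.card N).Coprime p) (a b : G) (ha : a ∈ (P' : Subgroup G))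
    (hb : b ∈ (R : Subgroup G)) (hba : QuotientGroup.mk' N b = QuotientGroup.mk' N a) :
    ∃ m ∈ N, m * a * m⁻¹ ∈ (R : Subgroup G) := by
  have hcop : ∀ (S : Sylow p G) (c : G), c ∈ (S : Subgroup G) → (Nat.card (Subgroup.zpowers c)).Coprime (Nat.card N) := by
    intro S c hc
    obtain ⟨k, hk⟩ := S.isPGroup' ⟨c, hc⟩
    rw [Nat.card_zpowers]
    exact Nat.Coprime.coprime_dvd_left (orderOf_dvd_of_pow_eq_one (congrArg Subtype.val hk : c ^ p ^ k = 1))
      (Nat.Coprime.pow_left k hN.symm)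
  have hsup : Subgroup.zpowers a ⊔ N = Subgroup.zpowers b ⊔ N := by
    apply le_antisymm <;> refine sup_le (Subgroup.zpowers_le.mpr ?_) le_sup_right
    · rw [← SetLike.mem_coe, Subgroup.mul_normal]
      exact ⟨b, Subgroup.mem_zpowers b, b⁻¹ * a, QuotientGroup.eq.mp hba, by group⟩
    · rw [← SetLike.mem_coe, Subgroup.mul_normal]
      exact ⟨a, Subgroup.mem_zpowers a, a⁻¹ * b, QuotientGroup.eq.mp hba.symm, by group⟩
  obtain ⟨m, hm, hmc⟩ := Cfsg.Agent.Solvable.exists_conj_of_sup_eq (N := N)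
    (Or.inr (isSolvable_of_comm (fun p q => by
      obtain ⟨p, i, rfl⟩ := p
      obtain ⟨q, j, rfl⟩ := q
      exact Subtype.ext ((Commute.refl a).zpow_zpow i j).eq))) hsup (hcop P' a ha) (hcop R b hb)
  refine ⟨m, hm, Subgroup.zpowers_le.mpr hb ?_⟩
  rw [← hmc]
  exact ⟨a, Subgroup.mem_zpowers a, rfl⟩

theorem ti_conj {G : Type*} [Group G] [Finite G] {p : ℕ} [Fact p.Prime] (P : Sylow p G)
    (hTI : ∀ g : G, g ∉ Subgroup.normalizer ((P : Subgroup G) : Set G) → (P : Subgroup G) ⊓ (MulAut.conj g • (P : Subgroup G)) = ⊥)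
    (A B : Sylow p G) (h : A ≠ B) : (A : Subgroup G) ⊓ (B : Subgroup G) = ⊥ := by
  obtain ⟨g, rfl⟩ := MulAction.exists_smul_eq G P A
  obtain ⟨k, rfl⟩ := MulAction.exists_smul_eq G P B
  have hnot : g⁻¹ * k ∉ Subgroup.normalizer ((P : Subgroup G) : Set G) := by
    intro hn
    apply h
    conv_lhs => rw [← (Sylow.smul_eq_iff_mem_normalizer.mpr hn : (g⁻¹ * k) • P = P)]
    rw [← mul_smul, mul_inv_cancel_left]
  have h1 := hTI _ hnot
  rw [map_mul, map_inv, mul_smul] at h1
  rw [Sylow.coe_subgroup_smul, Sylow.coe_subgroup_smul, eq_bot_iff]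
  rintro y ⟨hy1, hy2⟩
  have : (MulAut.conj g)⁻¹ • y ∈ (P : Subgroup G) ⊓ ((MulAut.conj g)⁻¹ • (MulAut.conj k • (P : Subgroup G))) :=
    ⟨Subgroup.mem_pointwise_smul_iff_inv_smul_mem.mp hy1, Subgroup.smul_mem_pointwise_smul _ _ _ hy2⟩
  rw [h1, Subgroup.mem_bot] at this
  rw [Subgroup.mem_bot]
  exact (smul_eq_iff_eq_inv_smul (g := (MulAut.conj g)⁻¹)).mp this |>.trans (by simp)


/-- Let P be a Sylow p-subgroup of the finite group G that meets each conjugate g P g⁻¹ with g outside N_G(P) trivially, and let N be a normal subgroup of G of order prime to p. Then every Sylow p-subgroup Q of G ⧸ N meets each conjugate x Q x⁻¹ with x outside its normalizer trivially. -/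
theorem result {G : Type*} [Group G] [Finite G] (p : ℕ) [Fact p.Prime] (P : Sylow p G) (hTI : ∀ g : G, g ∉ Subgroup.normalizer ((P : Subgroup G) : Set G) → (P : Subgroup G) ⊓ (MulAut.conj g • (P : Subgroup G)) = ⊥) (N : Subgroup G) [N.Normal] (hN : (Nat.card ↥N).Coprime p) (Q : Sylow p (G ⧸ N)) : ∀ x : G ⧸ N, x ∉ Subgroup.normalizer ((Q : Subgroup (G ⧸ N)) : Set (G ⧸ N)) → (Q : Subgroup (G ⧸ N)) ⊓ (MulAut.conj x • (Q : Subgroup (G ⧸ N))) = ⊥ := by
  -- every Sylow subgroup of the quotient is the image of a conjugate of `P`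
  obtain ⟨P', hP'⟩ := Sylow.mapSurjective_surjective (QuotientGroup.mk'_surjective N) p Q
  intro x hx
  by_contra hne
  obtain ⟨g, rfl⟩ := QuotientGroup.mk'_surjective N x
  obtain ⟨z, hz, hz1⟩ := Subgroup.bot_or_exists_ne_one _ |>.resolve_left hne
  set R := g • P' with hR
  have hRQ : MulAut.conj (QuotientGroup.mk' N g) • (Q : Subgroup (G ⧸ N)) = (R : Subgroup G).map (QuotientGroup.mk' N) := by
    rw [← hP', Sylow.coe_mapSurjective, hR, Sylow.coe_subgroup_smul, smul_eq_map, smul_eq_map, Subgroup.map_map, Subgroup.map_map]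
    congr 1
  have hzQ : z ∈ (P' : Subgroup G).map (QuotientGroup.mk' N) := by
    have := hz.1
    rw [← hP', SetLike.mem_coe, Sylow.coe_mapSurjective] at this
    exact this
  have hzR : z ∈ (R : Subgroup G).map (QuotientGroup.mk' N) := hRQ ▸ hz.2
  obtain ⟨a, ha, rfl⟩ := hzQ
  obtain ⟨b, hb, hba⟩ := hzR
  -- move `b` onto `a` inside the common preimage
  obtain ⟨m, hmN, hm⟩ := exists_conj_mem P' R hN a b ha hb hba
  by_cases hRn : R = m • P'
  · apply hx
    rw [Subgroup.mem_normalizer_iff]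
    intro y
    have hPR : (R : Subgroup G).map (QuotientGroup.mk' N) = (P' : Subgroup G).map (QuotientGroup.mk' N) := by
      rw [hRn, Sylow.coe_subgroup_smul, smul_eq_map, Subgroup.map_map]
      congr 1
      ext a
      simp [(QuotientGroup.eq_one_iff m).mpr hmN]
    rw [hPR, ← Sylow.coe_mapSurjective (QuotientGroup.mk'_surjective N) P', hP'] at hRQ
    have h1 : ∀ w, w ∈ (Q : Subgroup (G ⧸ N)) ↔ QuotientGroup.mk' N g * w * (QuotientGroup.mk' N g)⁻¹ ∈ (Q : Subgroup (G ⧸ N)) := by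
      intro w
      conv_rhs => rw [← hRQ, ← MulAut.conj_apply]
      exact (Subgroup.smul_mem_pointwise_smul_iff (a := MulAut.conj (QuotientGroup.mk' N g))).symm
    exact h1 y
  · have hint := ti_conj P hTI (m • P') R (fun e => hRn e.symm)
    have : m * a * m⁻¹ ∈ ((m • P' : Sylow p G) : Subgroup G) ⊓ (R : Subgroup G) :=
      ⟨by rw [Sylow.coe_subgroup_smul]; exact ⟨a, ha, rfl⟩, hm⟩
    rw [hint, Subgroup.mem_bot, mul_inv_eq_one] at this
    exact hz1 (by rw [mul_eq_left.mp this, map_one])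

end Cfsg.Agent.S3984
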