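import Cfsg.Statements.S3985
import Cfsg.Agent.EqLemmas

set_option autoImplicit false
open scoped Pointwise
open Cfsg
open scoped Pointwise

namespace Cfsg.Agent.S3985

theorem coprime_fix {G : Type*} [Group G] [Finite G] {p : ℕ} [Fact p.Prime] (P : Sylow p G)
    (hcyc : IsCyclic ↥(P : Subgroup G)) {x c : G} (hx : x ∈ (P : Subgroup G)) (hx1 : x ≠ 1)
    (hn : c ∈ Subgroup.normalizer ((P : Subgroup G) : Set G)) (hc : Commute c x) {u : ℕ} (hu : ¬ p ∣ u)
    (hcu : c ^ u = 1) {y : G} (hy : y ∈ (P : Subgroup G)) : Commute y c := by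
  haveI := hcyc
  obtain ⟨g, hg⟩ := IsCyclic.exists_generator (α := (P : Subgroup G))
  set a := Subgroup.normalizerMonoidHom (P : Subgroup G) ⟨c, hn⟩ with ha
  obtain ⟨k, hk⟩ := Subgroup.mem_zpowers_iff.mp (hg (a g))
  have hall : ∀ z : (P : Subgroup G), a z = z ^ k := by
    intro z
    obtain ⟨j, rfl⟩ := Subgroup.mem_zpowers_iff.mp (hg z)
    rw [map_zpow, ← hk, ← zpow_mul, ← zpow_mul, mul_comm]
  have hiter : ∀ (n : ℕ) (z : (P : Subgroup G)), (a ^ n) z = z ^ (k ^ n) := by
    intro n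
    induction n with
    | zero => intro z; simp
    | succ n ih => intro z; rw [pow_succ, MulAut.mul_apply, hall, map_zpow, ih, ← zpow_mul, pow_succ]
  have hau : a ^ u = 1 := by
    rw [ha, ← map_pow, show (⟨c, hn⟩ : Subgroup.normalizer ((P : Subgroup G) : Set G)) ^ u = 1 from Subtype.ext hcu, map_one]
  obtain ⟨n, hn'⟩ := IsPGroup.iff_card.mp P.isPGroup'
  have hgo : orderOf g = p ^ n := (orderOf_eq_card_of_forall_mem_zpowers hg).trans hn'
  -- `k` has order dividing `u` modulo `p ^ n` and is `1` modulo `p`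
  have h1 : ((p ^ n : ℕ) : ℤ) ∣ k ^ u - 1 := by
    rw [← hgo, orderOf_dvd_iff_zpow_eq_one, zpow_sub_one, ← hiter, hau, MulAut.one_apply, mul_inv_cancel]
  have h2 : (p : ℤ) ∣ k - 1 := by
    have hxx : a ⟨x, hx⟩ = ⟨x, hx⟩ := Subtype.ext (by
      show c * x * c⁻¹ = x
      rw [hc.eq, mul_inv_cancel_right])
    rw [hall] at hxx
    have : (orderOf (⟨x, hx⟩ : (P : Subgroup G)) : ℤ) ∣ k - 1 := by
      rw [orderOf_dvd_iff_zpow_eq_one, zpow_sub_one, hxx, mul_inv_cancel]
    refine dvd_trans (Int.natCast_dvd_natCast.mpr ?_) this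
    obtain ⟨j, -, hj⟩ := (Nat.dvd_prime_pow (Fact.out : p.Prime)).mp (hn' ▸ orderOf_dvd_natCard (⟨x, hx⟩ : (P : Subgroup G)))
    rw [hj]
    refine dvd_pow_self p (fun e => ?_)
    rw [e, pow_zero, orderOf_eq_one_iff] at hj
    exact hx1 (congrArg Subtype.val hj)
  have h3 : ((p ^ n : ℕ) : ℤ) ∣ k - 1 := by
    rw [← geom_sum_mul] at h1
    refine IsCoprime.dvd_of_dvd_mul_left ?_ h1
    rw [Nat.cast_pow]
    refine IsCoprime.pow_left ((Prime.coprime_iff_not_dvd (Nat.prime_iff_prime_int.mp Fact.out)).mpr (fun hd => hu ?_))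
    have hsum : (p : ℤ) ∣ (∑ i ∈ Finset.range u, k ^ i) - u := by
      have : (u : ℤ) = ∑ _i ∈ Finset.range u, (1 : ℤ) := by simp
      rw [this, ← Finset.sum_sub_distrib]
      exact Finset.dvd_sum (fun i _ => h2.trans (sub_one_dvd_pow_sub_one k i))
    have := dvd_sub hd hsum
    rw [sub_sub_cancel] at this
    exact Int.natCast_dvd_natCast.mp this
  rw [← hgo, orderOf_dvd_iff_zpow_eq_one, zpow_sub_one, mul_inv_eq_one] at h3
  have hag : a ⟨y, hy⟩ = ⟨y, hy⟩ := by
    obtain ⟨j, hj⟩ := Subgroup.mem_zpowers_iff.mp (hg ⟨y, hy⟩)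
    rw [← hj, map_zpow, hall, h3]
  have h4 : c * y * c⁻¹ = y := congrArg Subtype.val hag
  exact (mul_inv_eq_iff_eq_mul.mp h4).symm


/-- Let P be a cyclic Sylow p-subgroup of the finite group G. Then P meets each conjugate g P g⁻¹ with g outside N_G(P) trivially if and only if P is weakly self-centralizing: C_G(x) = C_G(P) for every non-identity x ∈ P. -/
theorem result {G : Type*} [Group G] [Finite G] (p : ℕ) [Fact p.Prime] (P : Sylow p G) (hcyc : IsCyclic ↥(P : Subgroup G)) : (∀ g : G, g ∉ Subgroup.normalizer ((P : Subgroup G) : Set G) → (P : Subgroup G) ⊓ (MulAut.conj g • (P : Subgroup G)) = ⊥) ↔ ∀ x : G, x ∈ (P : Subgroup G) → x ≠ 1 → Subgroup.centralizer ({x} : Set G) = Subgroup.centralizer ((P : Subgroup G) : Set G) := by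
  constructor
  · intro hTI x hx hx1
    refine le_antisymm (fun c hc => ?_) (fun c hc => ?_)
    swap
    · rw [Subgroup.mem_centralizer_singleton_iff]
      exact (Subgroup.mem_centralizer_iff.mp hc x hx).symm
    rw [Subgroup.mem_centralizer_singleton_iff] at hc
    have hn : c ∈ Subgroup.normalizer ((P : Subgroup G) : Set G) := by
      by_contra hn
      have h1 : x ∈ (P : Subgroup G) ⊓ (MulAut.conj c • (P : Subgroup G)) :=
        ⟨hx, x, hx, by show c * x * c⁻¹ = x; rw [hc, mul_inv_cancel_right]⟩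
      rw [hTI c hn] at h1
      exact hx1 h1
    obtain ⟨a, u, hu, hco⟩ := Nat.exists_eq_pow_mul_and_not_dvd (orderOf_pos c).ne' p (Fact.out : p.Prime).ne_one
    obtain ⟨e1, e2⟩ : ∃ i j : ℤ, ((p ^ a : ℕ) : ℤ) * i + (u : ℤ) * j = 1 := by
      have hcop : Nat.Coprime (p ^ a) u := Nat.Coprime.pow_left a ((Fact.out : p.Prime).coprime_iff_not_dvd.mpr hu)
      exact ⟨Nat.gcdA (p ^ a) u, Nat.gcdB (p ^ a) u, by rw [← Nat.gcd_eq_gcd_ab, hcop.gcd_eq_one]; rfl⟩
    obtain ⟨j, e⟩ := e2
    have hsplit : c = (c ^ p ^ a) ^ e1 * (c ^ u) ^ j := by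
      rw [← zpow_natCast, ← zpow_natCast c u, ← zpow_mul, ← zpow_mul, ← zpow_add, e, zpow_one]
    rw [Subgroup.mem_centralizer_iff]
    intro y hy
    have hP : Commute y (c ^ u) := by
      have hmem : c ^ u ∈ (P : Subgroup G) := by
        have hp' : IsPGroup p (Subgroup.zpowers (c ^ u)) := by
          refine IsPGroup.of_card (n := a) ((Nat.card_zpowers _).trans ?_)
          rw [orderOf_pow, hco, Nat.gcd_mul_left_left,
            Nat.mul_div_left _ (Nat.pos_of_ne_zero (fun h => hu (by rw [h]; exact dvd_zero p)))]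
        have hsup := hp'.to_sup_of_normal_right' P.isPGroup' (Subgroup.zpowers_le.mpr (Subgroup.pow_mem _ hn u))
        exact (P.is_maximal' hsup le_sup_right) ▸ Subgroup.mem_sup_left (Subgroup.mem_zpowers _)
      exact congrArg Subtype.val ((hcyc.commutative).is_comm.comm ⟨y, hy⟩ ⟨_, hmem⟩)
    have hP2 : Commute y (c ^ p ^ a) :=
      coprime_fix P hcyc hx hx1 (Subgroup.pow_mem _ hn _) ((Commute.pow_left hc (p ^ a))) hu
        (by rw [← pow_mul, ← hco, pow_orderOf_eq_one]) hy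
    rw [hsplit]
    exact ((hP2.zpow_right e1).mul_right (hP.zpow_right j)).eq
  · intro hC g hg
    by_contra hne
    obtain ⟨x, hx, hx1⟩ := Subgroup.bot_or_exists_ne_one _ |>.resolve_left hne
    apply hg
    obtain ⟨y, hy, hyx⟩ := hx.2
    change g * y * g⁻¹ = x at hyx
    have hy1 : y ≠ 1 := by rintro rfl; exact hx1 (by rw [← hyx, mul_one, mul_inv_cancel])
    -- `P` and its conjugate centralise `x`, hence each other
    have hcent : ∀ z ∈ (P : Subgroup G), g * z * g⁻¹ ∈ Subgroup.centralizer ((P : Subgroup G) : Set G) := by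
      intro z hz
      rw [← hC x hx.1 hx1, Subgroup.mem_centralizer_singleton_iff, ← hyx]
      have hzy : z * y = y * z := congrArg Subtype.val ((hcyc.commutative).is_comm.comm ⟨z, hz⟩ ⟨y, hy⟩)
      calc g * z * g⁻¹ * (g * y * g⁻¹) = g * (z * y) * g⁻¹ := by group
        _ = _ := by rw [hzy]; group
    have hle : ((g • P : Sylow p G) : Subgroup G) ≤ (P : Subgroup G) := by
      have hn : ((g • P : Sylow p G) : Subgroup G) ≤ Subgroup.normalizer ((P : Subgroup G) : Set G) := by
        rintro _ ⟨z, hz, rfl⟩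
        exact Subgroup.centralizer_le_normalizer _ (hcent z hz)
      have hsup := (g • P : Sylow p G).isPGroup'.to_sup_of_normal_right' P.isPGroup' hn
      exact le_sup_left.trans (P.is_maximal' hsup le_sup_right).le
    refine Sylow.smul_eq_iff_mem_normalizer.mp ?_
    exact Sylow.ext (((g • P : Sylow p G).is_maximal' P.isPGroup' hle).symm)

end Cfsg.Agent.S3985
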