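import Cfsg.Statements.S3986
import Cfsg.Agent.Lib.PowEqOne.Basic

set_option autoImplicit false
open Cfsg

namespace Cfsg.Agent.S3986

theorem mem_of_normal {G : Type*} [Group G] [Finite G] {p : ℕ} [Fact p.Prime] (P : Sylow p G)
    (hPn : (P : Subgroup G).Normal) {x : G} {a : ℕ} (hx : orderOf x = p ^ a) : x ∈ (P : Subgroup G) := by
  have h := (IsPGroup.of_card (n := a) ((Nat.card_zpowers x).trans hx)).to_sup_of_normal_right P.isPGroup'
  exact (P.is_maximal' h le_sup_right) ▸ Subgroup.mem_sup_left (Subgroup.mem_zpowers x)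

theorem eq_top_of_primary {K : Type*} [Group K] [Finite K] {H : Subgroup K}
    (h : ∀ (w : K) (q b : ℕ), q.Prime → orderOf w = q ^ b → w ∈ H) : H = ⊤ := by
  rw [← Subgroup.index_eq_one]
  by_contra hne
  obtain ⟨q, hq, hqd⟩ := Nat.exists_prime_and_dvd hne
  haveI := Fact.mk hq
  obtain ⟨Q⟩ := (inferInstance : Nonempty (Sylow q K))
  refine Q.not_dvd_index (hqd.trans (Subgroup.index_dvd_of_le (fun w hw => ?_)))
  obtain ⟨k, hk⟩ := Q.isPGroup' ⟨w, hw⟩
  obtain ⟨j, -, hj⟩ := (Nat.dvd_prime_pow hq).mp (orderOf_dvd_of_pow_eq_one (congrArg Subtype.val hk : w ^ q ^ k = 1))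
  exact h w q j hq hj

theorem eq_top_of_primary_or_sylow {G : Type*} [Group G] [Finite G] {p : ℕ} [Fact p.Prime] (P : Sylow p G)
    {H : Subgroup G} (hP : (P : Subgroup G) ≤ H) (h : ∀ w : G, (orderOf w).Coprime p → w ∈ H) : H = ⊤ := by
  rw [← Subgroup.index_eq_one]
  by_contra hne
  obtain ⟨q, hq, hqd⟩ := Nat.exists_prime_and_dvd hne
  by_cases hqp : q = p
  · subst hqp
    exact P.not_dvd_index (hqd.trans (Subgroup.index_dvd_of_le hP))
  haveI := Fact.mk hq
  obtain ⟨Q⟩ := (inferInstance : Nonempty (Sylow q G))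
  refine Q.not_dvd_index (hqd.trans (Subgroup.index_dvd_of_le (fun w hw => ?_)))
  obtain ⟨k, hk⟩ := Q.isPGroup' ⟨w, hw⟩
  exact h w (Nat.Coprime.coprime_dvd_left (orderOf_dvd_of_pow_eq_one (congrArg Subtype.val hk : w ^ q ^ k = 1))
    (Nat.Coprime.pow_left k ((Nat.coprime_primes hq Fact.out).mpr hqp)))


/-- Let p be a prime and G a finite group. Then some Sylow p-subgroup of G is a direct factor of G (it is normal and has a normal complement) if and only if every element of p-power order commutes with every element whose order is a power of a prime other than p. -/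
theorem result {G : Type*} [Group G] [Finite G] (p : ℕ) [Fact p.Prime] : (∃ (P : Sylow p G) (K : Subgroup G), (P : Subgroup G).Normal ∧ K.Normal ∧ (P : Subgroup G) ⊓ K = ⊥ ∧ (P : Subgroup G) ⊔ K = ⊤) ↔ ∀ x y : G, (∃ a : ℕ, orderOf x = p ^ a) → (∃ q b : ℕ, q.Prime ∧ q ≠ p ∧ orderOf y = q ^ b) → x * y = y * x := by
  constructor
  · rintro ⟨P, K, hPn, hKn, hinf, hsup⟩ x y ⟨a, hx⟩ ⟨q, b, hq, hqp, hy⟩
    have hcomm : ∀ u ∈ (P : Subgroup G), ∀ k ∈ K, u * k = k * u := fun u hu k hk =>
      Subgroup.commute_of_normal_of_disjoint _ _ hPn hKn (disjoint_iff.mpr hinf) u k hu hk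
    have hxP : x ∈ (P : Subgroup G) := mem_of_normal P hPn hx
    have hcard : Nat.card G = Nat.card (P : Subgroup G) * Nat.card K :=
      (Subgroup.isComplement'_of_disjoint_and_mul_eq_univ (disjoint_iff.mpr hinf)
        (by rw [← Subgroup.normal_mul, hsup, Subgroup.coe_top])).card_mul.symm
    have hyK : y ∈ K := by
      have hy1 : y ^ Nat.card (P : Subgroup G) ∈ K := by
        have hy' : y ∈ (P : Subgroup G) ⊔ K := hsup ▸ Subgroup.mem_top y
        rw [← SetLike.mem_coe, Subgroup.normal_mul] at hy'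
        obtain ⟨u, hu, k, hk, rfl⟩ := hy'
        rw [(show Commute u k from hcomm u hu k hk).mul_pow,
          show u ^ Nat.card (P : Subgroup G) = 1 from congrArg Subtype.val (pow_card_eq_one' (x := (⟨u, hu⟩ : (P : Subgroup G)))),
          one_mul]
        exact K.pow_mem hk _
      obtain ⟨n, hn⟩ := IsPGroup.iff_card.mp P.isPGroup'
      rw [hn] at hy1
      have hcop : (orderOf y).Coprime (p ^ n) := by
        rw [hy]; exact Nat.Coprime.pow _ _ ((Nat.coprime_primes hq Fact.out).mpr hqp)
      obtain ⟨m, hm⟩ := exists_pow_eq_self_of_coprime hcop.symm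
      rw [← hm]
      exact K.pow_mem hy1 m
    exact hcomm x hxP y hyK
  · intro h
    obtain ⟨P⟩ := (inferInstance : Nonempty (Sylow p G))
    have h' : ∀ x y : G, (∃ a, orderOf x = p ^ a) → (orderOf y).Coprime p → x * y = y * x := by
      intro x y hx hcop
      have hH : (Subgroup.centralizer ({x} : Set G)).subgroupOf (Subgroup.zpowers y) = ⊤ := by
        refine eq_top_of_primary (fun w q b hq hw => ?_)
        rw [Subgroup.mem_subgroupOf, Subgroup.mem_centralizer_singleton_iff]
        by_cases hb : b = 0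
        · rw [hb, pow_zero, orderOf_eq_one_iff] at hw
          rw [hw, Subgroup.coe_one, one_mul, mul_one]
        refine (h x w hx ⟨q, b, hq, fun e => ?_, by rw [orderOf_submonoid]; exact hw⟩).symm
        have hd : p ∣ orderOf y := by
          rw [← Nat.card_zpowers]
          exact (dvd_pow_self p hb).trans (e ▸ hw ▸ orderOf_dvd_natCard w)
        exact (Fact.out : p.Prime).not_dvd_one (hcop.gcd_eq_one ▸ Nat.dvd_gcd hd dvd_rfl)
      have := Subgroup.mem_subgroupOf.mp (hH ▸ Subgroup.mem_top (⟨y, Subgroup.mem_zpowers y⟩ : Subgroup.zpowers y))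
      exact (Subgroup.mem_centralizer_singleton_iff.mp this).symm
    have hcent : ∀ u ∈ (P : Subgroup G), ∀ y : G, (orderOf y).Coprime p → u * y = y * u := by
      intro u hu y hy
      refine h' u y ?_ hy
      obtain ⟨k, hk⟩ := P.isPGroup' ⟨u, hu⟩
      obtain ⟨j, -, hj⟩ := (Nat.dvd_prime_pow Fact.out).mp (orderOf_dvd_of_pow_eq_one (congrArg Subtype.val hk : u ^ p ^ k = 1))
      exact ⟨j, hj⟩
    have hPn : (P : Subgroup G).Normal := by
      rw [← Subgroup.normalizer_eq_top_iff]
      refine eq_top_of_primary_or_sylow P Subgroup.le_normalizer (fun w hw => ?_)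
      exact Subgroup.centralizer_le_normalizer _ (Subgroup.mem_centralizer_iff.mpr (fun u hu => hcent u hu w hw))
    have hcop : (Nat.card (P : Subgroup G)).Coprime (P : Subgroup G).index := P.card_coprime_index
    obtain ⟨K, hK⟩ := Subgroup.exists_right_complement'_of_coprime hcop
    have hKc : ∀ k ∈ K, (orderOf k).Coprime p := fun k hk => by
      refine Nat.Coprime.coprime_dvd_left (Subgroup.orderOf_dvd_natCard K hk) ?_
      rw [← hK.symm.index_eq_card]
      exact ((Fact.out : p.Prime).coprime_iff_not_dvd.mpr P.not_dvd_index).symm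
    refine ⟨P, K, hPn, ?_, hK.disjoint.eq_bot, hK.sup_eq_top⟩
    rw [← Subgroup.normalizer_eq_top_iff, eq_top_iff, ← hK.sup_eq_top]
    refine sup_le (fun u hu => ?_) Subgroup.le_normalizer
    exact Subgroup.centralizer_le_normalizer _ (Subgroup.mem_centralizer_iff.mpr (fun k hk => (hcent u hu k (hKc k hk)).symm))

end Cfsg.Agent.S3986
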