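import Cfsg.Statements.S3987
import Cfsg.Agent.S3986

set_option autoImplicit false
open Cfsg

namespace Cfsg.Agent.S3987

theorem primary {G : Type*} [Group G] [Finite G] {p : ℕ} [Fact p.Prime] (P : Sylow p G) {u : G}
    (hu : u ∈ (P : Subgroup G)) : ∃ a, orderOf u = p ^ a := by
  obtain ⟨k, hk⟩ := P.isPGroup' ⟨u, hu⟩
  obtain ⟨j, -, hj⟩ := (Nat.dvd_prime_pow Fact.out).mp (orderOf_dvd_of_pow_eq_one (congrArg Subtype.val hk : u ^ p ^ k = 1))
  exact ⟨j, hj⟩

theorem index_inf_eq {G : Type*} [Group G] [Finite G] {A B : Subgroup G}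
    (h : ∀ g : G, ∃ a ∈ A, ∃ b ∈ B, a * b = g) : (A ⊓ B).index = A.index * B.index := by
  rw [Subgroup.index_eq_card, Subgroup.index_eq_card, Subgroup.index_eq_card, ← Nat.card_prod]
  refine Nat.card_eq_of_bijective (fun q => (Quotient.liftOn' q (fun g => ((g : G ⧸ A), (g : G ⧸ B))) ?_)) ⟨?_, ?_⟩
  · intro a b hab
    rw [QuotientGroup.leftRel_apply] at hab
    exact Prod.ext (QuotientGroup.eq.mpr hab.1) (QuotientGroup.eq.mpr hab.2)
  · intro q r
    induction q using QuotientGroup.induction_on
    induction r using QuotientGroup.induction_on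
    intro e
    exact QuotientGroup.eq.mpr ⟨QuotientGroup.eq.mp (congrArg Prod.fst e), QuotientGroup.eq.mp (congrArg Prod.snd e)⟩
  · rintro ⟨q, r⟩
    induction q using QuotientGroup.induction_on with | _ g => ?_
    induction r using QuotientGroup.induction_on with | _ k => ?_
    obtain ⟨a, ha, b, hb, hab⟩ := h (g⁻¹ * k)
    refine ⟨((g * a : G) : G ⧸ (A ⊓ B)), Prod.ext (QuotientGroup.eq.mpr ?_) (QuotientGroup.eq.mpr ?_)⟩
    · simpa using A.inv_mem ha
    · have : (g * a)⁻¹ * k = b := by rw [mul_inv_rev, mul_assoc, ← hab]; group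
      rw [this]; exact hb


/-- Let p be a prime and G a finite group. Then some Sylow p-subgroup of G is a direct factor of G (normal with a normal complement) if and only if for every element x of p-power order and every element y whose order is a power of a prime other than p, the conjugacy class of x y has as many elements as the product of the sizes of the classes of x and of y. -/
theorem result {G : Type*} [Group G] [Finite G] (p : ℕ) [Fact p.Prime] : (∃ (P : Sylow p G) (K : Subgroup G), (P : Subgroup G).Normal ∧ K.Normal ∧ (P : Subgroup G) ⊓ K = ⊥ ∧ (P : Subgroup G) ⊔ K = ⊤) ↔ ∀ x y : G, (∃ a : ℕ, orderOf x = p ^ a) → (∃ q b : ℕ, q.Prime ∧ q ≠ p ∧ orderOf y = q ^ b) → (Subgroup.centralizer ({x * y} : Set G)).index = (Subgroup.centralizer ({x} : Set G)).index * (Subgroup.centralizer ({y} : Set G)).index := by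
  rw [Cfsg.Agent.S3986.result p]
  constructor
  · intro h x y hx hy
    have hc : Commute x y := h x y hx hy
    obtain ⟨P, K, hPn, hKn, hinf, hsup⟩ := (Cfsg.Agent.S3986.result p).mpr h
    obtain ⟨a, ha⟩ := hx
    have hxP := Cfsg.Agent.S3986.mem_of_normal P hPn ha
    -- `K` centralises `x` and `P` centralises `y`
    have hKc : ∀ u ∈ (P : Subgroup G), ∀ k ∈ K, u * k = k * u := fun u hu k hk =>
      Subgroup.commute_of_normal_of_disjoint _ _ hPn hKn (disjoint_iff.mpr hinf) u k hu hk
    have hcxy : Subgroup.centralizer ({x * y} : Set G) =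
        Subgroup.centralizer ({x} : Set G) ⊓ Subgroup.centralizer ({y} : Set G) := by
      ext g
      simp only [Subgroup.mem_inf, Subgroup.mem_centralizer_singleton_iff]
      obtain ⟨q, b, hq, hqp, hy⟩ := hy
      constructor
      · intro hg
        obtain ⟨e, f, hef⟩ := Cfsg.Agent.PowEqOne.exists_split (G := G) (u := p ^ a) (q := q ^ b)
          (Nat.Coprime.pow _ _ ((Nat.coprime_primes Fact.out hq).mpr (fun e => hqp e.symm)))
        have hxy : (x * y) ^ (p ^ a * q ^ b) = 1 := by
          rw [hc.mul_pow, pow_mul, ← ha, pow_orderOf_eq_one, one_pow, one_mul, mul_comm, pow_mul, ← hy,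
            pow_orderOf_eq_one, one_pow]
        obtain ⟨h1, h2⟩ := (hef _ hxy).2.2.2 x y hc (ha ▸ pow_orderOf_eq_one x) (hy ▸ pow_orderOf_eq_one y) rfl
        have hg' : Commute g (x * y) := hg
        exact ⟨h1 ▸ (hg'.pow_right e).eq, h2 ▸ (hg'.pow_right f).eq⟩
      · rintro ⟨h1, h2⟩
        exact ((show Commute g x from h1).mul_right h2).eq
    rw [hcxy]
    refine index_inf_eq (fun g => ?_)
    have hg : g ∈ (P : Subgroup G) ⊔ K := hsup ▸ Subgroup.mem_top g
    rw [sup_comm, ← SetLike.mem_coe, Subgroup.normal_mul] at hg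
    obtain ⟨k, hk, u, hu, rfl⟩ := hg
    exact ⟨k, Subgroup.mem_centralizer_singleton_iff.mpr (hKc x hxP k hk).symm, u,
      Subgroup.mem_centralizer_singleton_iff.mpr (h u y (primary P hu) hy), rfl⟩
  · intro h x y hx hy
    have heq := h x y hx hy
    classical
    let cl : G → Finset G := fun z => (Set.toFinite (MulAction.orbit (ConjAct G) z)).toFinset
    have hcl : ∀ z : G, (cl z).card = (Subgroup.centralizer ({z} : Set G)).index := by
      intro z
      rw [← Set.ncard_eq_toFinset_card, ← Nat.card_coe_set_eq,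
        Nat.card_congr (MulAction.orbitEquivQuotientStabilizer (ConjAct G) z), ← Subgroup.index_eq_card]
      have e : MulAction.stabilizer (ConjAct G) z =
          (Subgroup.centralizer ({z} : Set G)).comap ConjAct.ofConjAct.toMonoidHom := by
        ext g
        refine Iff.trans ?_ (Subgroup.mem_centralizer_singleton_iff (g := z) (k := ConjAct.ofConjAct g)).symm
        rw [← mul_inv_eq_iff_eq_mul]
        rfl
      rw [e]
      exact Subgroup.index_comap_of_surjective _ (MulEquiv.surjective _)
    let D := cl x ×ˢ cl y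
    have hsub : cl (x * y) ⊆ D.image (fun w => w.1 * w.2) := by
      intro z hz
      simp only [cl, Set.Finite.mem_toFinset, MulAction.mem_orbit_iff] at hz
      obtain ⟨g, rfl⟩ := hz
      refine Finset.mem_image.mpr ⟨(g • x, g • y), ?_, (smul_mul' g x y).symm⟩
      simp only [D, cl, Finset.mem_product, Set.Finite.mem_toFinset]
      exact ⟨MulAction.mem_orbit _ _, MulAction.mem_orbit _ _⟩
    have hcard : (D.image (fun w => w.1 * w.2)).card = D.card := by
      refine le_antisymm Finset.card_image_le ((le_of_eq ?_).trans (Finset.card_le_card hsub))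
      rw [Finset.card_product, hcl, hcl, hcl, heq]
    have hinj := Finset.card_image_iff.mp hcard
    set g := ConjAct.toConjAct (x * y)
    have h1 : (g • x, g • y) = (x, y) := by
      refine hinj ?_ ?_ ?_
      · simp only [D, cl, Finset.coe_product, Set.mem_prod, Finset.mem_coe, Set.Finite.mem_toFinset]
        exact ⟨MulAction.mem_orbit _ _, MulAction.mem_orbit _ _⟩
      · simp only [D, cl, Finset.coe_product, Set.mem_prod, Finset.mem_coe, Set.Finite.mem_toFinset]
        exact ⟨MulAction.mem_orbit_self _, MulAction.mem_orbit_self _⟩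
      · show g • x * g • y = x * y
        rw [← smul_mul', ConjAct.smul_def]
        simp [g, mul_assoc]
    have h2 : x * y * x * (x * y)⁻¹ = x := by
      have := congrArg Prod.fst h1
      simpa [g, ConjAct.smul_def] using this
    rw [mul_inv_eq_iff_eq_mul, mul_assoc, mul_right_inj] at h2
    exact h2.symm

end Cfsg.Agent.S3987
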