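import Cfsg.Statements.S3989
import Cfsg.Agent.S0071
import Cfsg.Agent.Lib.ClassIndex.FourSizesCross
import Cfsg.Agent.Lib.ClassIndex.PSolvable

set_option autoImplicit false
open Cfsg

namespace Cfsg.Agent.S3989

section Helpers

universe u

open Subgroup
open Cfsg.Agent.ClassGraph (cls stab mem_stab)
open Cfsg.Agent.FourSizes

/-- products of a conjugate of a `p`-element and a conjugate of a prime power `p'`-element form one class -/
def ClassMul (p : ℕ) (G : Type*) [Group G] : Prop :=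
  ∀ x y : G, (∃ a : ℕ, orderOf x = p ^ a) → (∃ q b : ℕ, q.Prime ∧ q ≠ p ∧ orderOf y = q ^ b) →
    ∀ z : G, IsConj (x * y) z ↔ ∃ a b : G, z = a * x * a⁻¹ * (b * y * b⁻¹)

theorem exists_prim_lift {G : Type*} [Group G] [Finite G] {V : Subgroup G} [V.Normal] {p : ℕ}
    (hp : p.Prime) {x : G ⧸ V} (hx : ∃ a : ℕ, orderOf x = p ^ a) :
    ∃ u : G, (∃ a : ℕ, orderOf u = p ^ a) ∧ (u : G ⧸ V) = x := by
  obtain ⟨g, rfl⟩ := QuotientGroup.mk_surjective x
  obtain ⟨u, w, rfl, hc, humem, hwmem, hu, hw, -⟩ := exists_part g hp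
  obtain ⟨k, hk⟩ := hu.2
  refine ⟨u, hu.2, ?_⟩
  obtain ⟨a, ha⟩ := hx
  have hwp : (w : G ⧸ V) ^ (p ^ a) ^ 1 = 1 := by
    obtain ⟨i, hi⟩ := mem_zpowers_iff.1 hwmem
    rw [pow_one, ← hi, QuotientGroup.mk_zpow, ← zpow_natCast, ← zpow_mul, mul_comm, zpow_mul,
      zpow_natCast, ← ha, pow_orderOf_eq_one, one_zpow]
  have h1 : (w : G ⧸ V) = 1 := orderOf_eq_one_iff.1 (Nat.eq_one_of_dvd_coprimes
    (Nat.Coprime.pow_left a ((Nat.Prime.coprime_iff_not_dvd hp).2 hw))
    (orderOf_dvd_of_pow_eq_one (by rwa [pow_one] at hwp)) (orderOf_map_dvd (QuotientGroup.mk' V) w))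
  rw [QuotientGroup.mk_mul, h1, mul_one]

theorem ClassMul.quotient {G : Type*} [Group G] [Finite G] {p : ℕ} (hp : p.Prime) (h : ClassMul p G)
    (V : Subgroup G) [V.Normal] : ClassMul p (G ⧸ V) := by
  rintro x y hx ⟨q, b, hq, hqp, hy⟩ z
  obtain ⟨x', hx', rfl⟩ := exists_prim_lift hp hx
  obtain ⟨y', ⟨k, hk⟩, rfl⟩ := exists_prim_lift hq ⟨b, hy⟩
  have key := h x' y' hx' ⟨q, k, hq, hqp, hk⟩
  constructor
  · intro hz
    obtain ⟨c, hc⟩ := isConj_iff.1 hz
    obtain ⟨c, rfl⟩ := QuotientGroup.mk_surjective c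
    obtain ⟨a, b, hab⟩ := (key (c * (x' * y') * c⁻¹)).1 (isConj_iff.2 ⟨c, rfl⟩)
    refine ⟨(a : G ⧸ V), (b : G ⧸ V), hc.symm.trans ?_⟩
    exact congrArg (QuotientGroup.mk (s := V)) hab
  · rintro ⟨a, b, rfl⟩
    obtain ⟨a, rfl⟩ := QuotientGroup.mk_surjective a
    obtain ⟨b, rfl⟩ := QuotientGroup.mk_surjective b
    obtain ⟨c, hc⟩ := isConj_iff.1 ((key _).2 ⟨a, b, rfl⟩)
    exact isConj_iff.2 ⟨(c : G ⧸ V), congrArg (QuotientGroup.mk (s := V)) hc⟩

/-- the key step: a minimal normal subgroup has a normal `p`-complement -/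
theorem ClassMul.exists_complement {G : Type*} [Group G] [Finite G] {p : ℕ} [Fact p.Prime] (h : ClassMul p G)
    (V : Subgroup G) [V.Normal] (hmin : ∀ W : Subgroup G, W.Normal → W ≠ ⊥ → W ≤ V → W = V)
    (P : Sylow p V) : ∃ N : Subgroup V, N.Normal ∧ N.IsComplement' (P : Subgroup V) := by
  refine (Cfsg.Agent.S0071.result P).2 fun Q hQ g hg hco => ?_
  refine mem_centralizer_iff.2 fun u hu => ?_
  refine (commute_of_parts fun q y hy hmem => ?_).eq
  by_cases hy1 : y = 1
  · rw [hy1]; exact Commute.one_right u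
  have hqp : q ≠ p := fun e => by
    subst e
    obtain ⟨-, k, hk⟩ := hy
    exact hy1 (orderOf_eq_one_iff.1 (Nat.eq_one_of_dvd_coprimes (hco.pow_right k)
      (orderOf_dvd_of_mem_zpowers hmem) (dvd_of_eq hk)))
  by_contra hne
  have hyQ : y ∈ Subgroup.normalizer (Q : Set V) := (zpowers_le.2 hg) hmem
  set x : V := u * (y * u⁻¹ * y⁻¹) with hx
  have hxQ : x ∈ Q := Q.mul_mem hu ((mem_normalizer_iff.1 hyQ _).1 (Q.inv_mem hu))
  have hx1 : x ≠ 1 := fun e => hne (by
    rw [hx, ← mul_assoc, ← mul_assoc, mul_inv_eq_one, mul_inv_eq_iff_eq_mul] at e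
    exact e)
  obtain ⟨a, ha⟩ := IsPGroup.iff_orderOf.1 P.2 ⟨x, hQ hxQ⟩
  rw [orderOf_mk] at ha
  obtain ⟨hqpr, k, hk⟩ := hy
  have key := h (x : G) (y : G) ⟨a, by rw [orderOf_coe]; exact ha⟩ ⟨q, k, hqpr, hqp, by rw [orderOf_coe]; exact hk⟩
  have hxy : (x : G) * (y : G) ∈ cls (y : G) := ⟨(u : G), by simp only [hx]; push_cast; group⟩
  have hstab : ∀ c : G, c * (x : G) * c⁻¹ ∈ stab (y : G) := fun c => mem_stab.2 fun w hw => by
    obtain ⟨b, rfl⟩ := hw
    obtain ⟨d, hd⟩ := isConj_iff.1 ((key _).2 ⟨c, b, rfl⟩)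
    rw [← cls_eq_of_mem hxy]
    exact ⟨d, hd⟩
  have hle : Subgroup.normalClosure {(x : G)} ≤ stab (y : G) := by
    refine (closure_le _).2 fun w hw => ?_
    obtain ⟨a, ha, hc⟩ := Group.mem_conjugatesOfSet_iff.1 hw
    rw [Set.mem_singleton_iff] at ha
    subst ha
    obtain ⟨c, rfl⟩ := isConj_iff.1 hc
    exact hstab c
  have hW : Subgroup.normalClosure {(x : G)} = V := hmin _ inferInstance
    (fun e => hx1 (Subtype.ext ((Subgroup.mem_bot).1 (e ▸ Subgroup.subset_normalClosure (Set.mem_singleton _)))))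
    (Subgroup.normalClosure_le_normal (Set.singleton_subset_iff.2 x.2))
  have h1 : (y : G)⁻¹ * (y : G) ∈ cls (y : G) :=
    mem_stab.1 (hle (hW.symm ▸ V.inv_mem y.2)) _ (TwoLargest.mem_cls_self _)
  rw [inv_mul_cancel] at h1
  obtain ⟨c, hc⟩ := h1
  exact hy1 (Subtype.ext (conj_eq_one_iff.1 hc))

theorem main {p : ℕ} [Fact p.Prime] (k : ℕ) : ∀ (G : Type u) [Group G] [Finite G],
    Nat.card G = k → ClassMul p G → Cfsg.IsPSolvable p G := by
  induction k using Nat.strong_induction_on with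
  | _ k ih =>
    intro G _ _ hk h
    by_cases hs : Subsingleton G
    · exact ClassIndex.isPSolvable_of_subsingleton G p
    haveI := not_subsingleton_iff_nontrivial.mp hs
    obtain ⟨V, -, ⟨hVn, hV⟩, hmin⟩ := exists_minimal_le_of_wellFoundedLT
      (fun W : Subgroup G => W.Normal ∧ W ≠ ⊥) ⊤ ⟨inferInstance, top_ne_bot⟩
    haveI := hVn
    have hmin' : ∀ W : Subgroup G, W.Normal → W ≠ ⊥ → W ≤ V → W = V :=
      fun W hWn hW hle => le_antisymm hle (hmin ⟨hWn, hW⟩ hle)
    have hlt : Nat.card (G ⧸ V) < k := by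
      rw [← hk, Subgroup.card_eq_card_quotient_mul_card_subgroup V]
      exact lt_mul_of_one_lt_right Nat.card_pos ((Subgroup.one_lt_card_iff_ne_bot V).mpr hV)
    refine ClassIndex.isPSolvable_of_ext V ?_ (ih _ hlt (G ⧸ V) rfl (h.quotient Fact.out V))
    obtain ⟨P⟩ : Nonempty (Sylow p V) := inferInstance
    obtain ⟨N, hN, hc⟩ := h.exists_complement V hmin' P
    haveI := hN
    have hcop : (Nat.card N).Coprime (Nat.card (P : Subgroup V)) := by
      have h1 : N.index = Nat.card (P : Subgroup V) := hc.symm.index_eq_card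
      have h2 := P.card_coprime_index
      rw [hc.index_eq_card] at h2
      exact h2.symm
    haveI : N.Characteristic := by
      refine Subgroup.characteristic_iff_map_le.2 fun φ => ?_
      rintro - ⟨z, hz, rfl⟩
      refine Transfer.mem_of_pow_mem_of_coprime (H := N) (a := N.index) (b := Nat.card N) ?_
        (Subgroup.pow_index_mem N _) ?_
      · rw [hc.symm.index_eq_card]; exact hcop.symm
      · rw [← map_pow, show z ^ Nat.card N = 1 from
          congrArg Subtype.val (pow_card_eq_one' (x := (⟨z, hz⟩ : N))), map_one]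
        exact one_mem _
    haveI : (N.map V.subtype).Normal := inferInstance
    by_cases hNb : N = ⊥
    · left
      subst hNb
      obtain ⟨m, hm⟩ := IsPGroup.iff_card.1 P.2
      refine ⟨m, ?_⟩
      have := hc.card_mul_card
      rw [Subgroup.card_bot, one_mul] at this
      rw [← this, hm]
    · right
      have e := hmin' (N.map V.subtype) inferInstance
        (fun e => hNb ((Subgroup.map_eq_bot_iff_of_injective _ V.subtype_injective).1 e)) (map_subtype_le N)
      have hcard : Nat.card N = Nat.card V := by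
        rw [Nat.card_congr (N.equivMapOfInjective _ V.subtype_injective).toEquiv, e]
      rw [← hcard]
      have h3 := hc.card_mul_card
      rw [hcard] at h3
      have h4 : Nat.card (P : Subgroup V) = 1 :=
        Nat.eq_of_mul_eq_mul_left Nat.card_pos (h3.trans (mul_one _).symm)
      exact (Nat.coprime_comm.1 ((Fact.out : p.Prime).coprime_iff_not_dvd.2 fun hd =>
        P.ne_bot_of_dvd_card (hcard ▸ hd) (Subgroup.card_eq_one.1 h4)))

end Helpers

/-- Let p be a prime and G a finite group such that for every element x of p-power order and every element y whose order is a power of a prime other than p, the conjugacy class of x y is the set of all products of a conjugate of x with a conjugate of y. Then G is p-solvable. -/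
theorem result {G : Type*} [Group G] [Finite G] (p : ℕ) [Fact p.Prime] (h : ∀ x y : G, (∃ a : ℕ, orderOf x = p ^ a) → (∃ q b : ℕ, q.Prime ∧ q ≠ p ∧ orderOf y = q ^ b) → ∀ z : G, IsConj (x * y) z ↔ ∃ a b : G, z = a * x * a⁻¹ * (b * y * b⁻¹)) : Cfsg.IsPSolvable p G := by
  exact main _ G rfl h

end Cfsg.Agent.S3989
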