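import Cfsg.Statements.S3994
import Cfsg.Agent.Lib.PowEqOne.Split

set_option autoImplicit false
open Cfsg

namespace Cfsg.Agent.S3994

/-- Let G be a finite group and n a positive integer. The number of elements of G whose order is divisible by n is either 0 or divisible by the largest divisor of the order of G that is coprime to n. -/
theorem result {G : Type*} [Group G] [Finite G] (n : ℕ) (hn : 0 < n) :
    Nat.card {g : G // n ∣ orderOf g} = 0 ∨
      (Nat.card G / Nat.gcd (Nat.card G) (n ^ Nat.card G)) ∣ Nat.card {g : G // n ∣ orderOf g} := by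
  classical
  right
  set N := Nat.card G with hN
  set q := Nat.gcd N (n ^ N) with hq
  have hNpos : 0 < N := Nat.card_pos
  have hqpos : 0 < q := Nat.gcd_pos_of_pos_left _ hNpos
  obtain ⟨u, hu⟩ : ∃ u, N = q * u := Nat.gcd_dvd_left _ _
  rw [show N / q = u from by rw [hu]; exact Nat.mul_div_cancel_left u hqpos]
  have hu0 : u ≠ 0 := fun e => hNpos.ne' (by rw [hu, e, mul_zero])
  -- the prime divisors of `u` do not divide `n`
  have hsep : ∀ p : ℕ, p.Prime → p ∣ u → ¬ p ∣ n := by
    intro p hp hpu hpn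
    have h1 : p ^ N.factorization p ∣ q := Nat.dvd_gcd (Nat.ordProj_dvd N p)
      ((pow_dvd_pow p (Nat.factorization_lt p hNpos.ne').le).trans (pow_dvd_pow_of_dvd hpn N))
    have h2 : p ^ (N.factorization p + 1) ∣ N := by
      rw [pow_succ]
      exact (Nat.mul_dvd_mul h1 hpu).trans (dvd_of_eq hu.symm)
    have := (hp.pow_dvd_iff_le_factorization hNpos.ne').mp h2
    omega
  have hqu : q.Coprime u := by
    refine Nat.coprime_of_dvd (fun p hp h1 h2 => hsep p hp h2 ?_)
    exact hp.dvd_of_dvd_pow (h1.trans (Nat.gcd_dvd_right _ _))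
  have hnu : n.Coprime u := Nat.coprime_of_dvd (fun p hp h1 h2 => hsep p hp h2 h1)
  letI : Fintype {y : G // y ^ q = 1 ∧ n ∣ orderOf y} := Fintype.ofFinite _
  have key := Cfsg.Agent.PowEqOne.card_split_pred (G := G) hqu (fun y => n ∣ orderOf y) (fun g => n ∣ orderOf g)
    (fun g y z hy hz hc hg => by
      subst hg
      have hco : (orderOf y).Coprime (orderOf z) :=
        (hqu.coprime_dvd_left (orderOf_dvd_of_pow_eq_one hy)).coprime_dvd_right (orderOf_dvd_of_pow_eq_one hz)
      rw [hc.orderOf_mul_eq_mul_orderOf_of_coprime hco]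
      exact ⟨fun h => (hnu.coprime_dvd_right (orderOf_dvd_of_pow_eq_one hz)).dvd_of_dvd_mul_right h,
        fun h => h.trans (dvd_mul_right _ _)⟩)
  have htot : Nat.card {g : G // g ^ (q * u) = 1 ∧ n ∣ orderOf g} = Nat.card {g : G // n ∣ orderOf g} :=
    Nat.card_congr (Equiv.subtypeEquivRight (fun g =>
      ⟨fun h => h.2, fun h => ⟨by rw [← hu]; exact pow_card_eq_one', h⟩⟩))
  rw [← htot, key]
  have hP : ∀ a y : G, (y ^ q = 1 ∧ n ∣ orderOf y) → ((a * y * a⁻¹) ^ q = 1 ∧ n ∣ orderOf (a * y * a⁻¹)) :=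
    fun a y h => ⟨by rw [conj_pow, h.1, mul_one, mul_inv_cancel], by
      rw [← MulAut.conj_apply, MulEquiv.orderOf_eq]; exact h.2⟩
  letI := Cfsg.Agent.PowEqOne.conjSubtype (fun y : G => y ^ q = 1 ∧ n ∣ orderOf y) hP
  refine Cfsg.Agent.PowEqOne.dvd_sum_of_orbit (A := ConjAct G) _
    (fun a y => Cfsg.Agent.PowEqOne.card_pow_conj _ _ _) (fun y => ?_)
  rw [Cfsg.Agent.PowEqOne.card_conj_orbit]
  exact Cfsg.Agent.PowEqOne.dvd_index_mul_card (hN ▸ ⟨q, by rw [hu, mul_comm]⟩) _

end Cfsg.Agent.S3994
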