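import Cfsg.Statements.S3995
import Cfsg.Agent.EqLemmas
import Cfsg.Agent.Lib.SameOrder.Basic
import Cfsg.Agent.Lib.PGroup.UniqueOrderP

set_option autoImplicit false
open Cfsg

namespace Cfsg.Agent.S3995

open Cfsg.Agent.SameOrder

variable {G : Type*} [Group G] [Finite G]

theorem eq_n {n m : ℕ} (hval : ∀ m, numOrder G m ≠ 0 → numOrder G m = 1 ∨ numOrder G m = n)
    (h0 : numOrder G m ≠ 0) (hm : 2 < m) : numOrder G m = n := by
  refine (hval m h0).resolve_left fun h1 => ?_
  have h2 := totient_dvd (G := G) m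
  rw [h1, Nat.dvd_one, Nat.totient_eq_one_iff] at h2
  omega

theorem even_n {n m : ℕ} (hval : ∀ m, numOrder G m ≠ 0 → numOrder G m = 1 ∨ numOrder G m = n)
    (h0 : numOrder G m ≠ 0) (hm : 2 < m) : 2 ∣ n := by
  rw [← eq_n hval h0 hm]
  exact (even_iff_two_dvd.1 (Nat.totient_even hm)).trans (totient_dvd m)

theorem unique_involution (h : numOrder G 2 = 1) {x y : G} (hx : orderOf x = 2) (hy : orderOf y = 2) :
    y = x := by
  obtain ⟨hs, -⟩ := Nat.card_eq_one_iff_unique.1 h
  exact congrArg Subtype.val (hs.elim ⟨y, hy⟩ ⟨x, hx⟩)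

theorem odd_case {n p : ℕ} (hp : p.Prime) (hp2 : p ≠ 2) (hpG : p ∣ Nat.card G)
    (hval : ∀ m, numOrder G m ≠ 0 → numOrder G m = 1 ∨ numOrder G m = n) :
    (IsPGroup p G ∧ 3 ≤ Nat.card G ∧ Monoid.exponent G = p) ∨
      ∃ (P : Type) (_ : Group P) (_ : Finite P), IsPGroup p P ∧ Monoid.exponent P = p ∧
        Nonempty (G ≃* Multiplicative (ZMod 2) × P) := by
  classical
  haveI := Fact.mk hp
  have hp3 : 2 < p := lt_of_le_of_ne hp.two_le (Ne.symm hp2)
  have hNp : ∀ l : ℕ, l.Prime → l ≠ 2 → l ∣ Nat.card G → numOrder G l = n := fun l hl hl2 hlG =>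
    eq_n hval (numOrder_prime_ne_zero hl hlG) (lt_of_le_of_ne hl.two_le (Ne.symm hl2))
  have hpn : p ∣ 1 + n := hNp p hp hp2 hpG ▸ dvd_prime hp hpG
  have h2n : 2 ∣ n := even_n hval (numOrder_prime_ne_zero hp hpG) hp3
  have hnot : ¬ p ∣ n := fun h => hp.ne_one (Nat.dvd_one.1 ((Nat.dvd_add_left h).1 hpn))
  have hothers : ∀ l : ℕ, l.Prime → l ∣ Nat.card G → l = 2 ∨ l = p := by
    intro l hl hlG
    by_contra hh
    push Not at hh
    have h1 := (dvd_mul_right p l).trans (dvd_two_primes hp hl (Ne.symm hh.2) hpG hlG)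
    rw [hNp p hp hp2 hpG, hNp l hl hh.1 hlG] at h1
    have hpl : numOrder G (p * l) = 0 ∨ numOrder G (p * l) = n := by
      by_cases h0 : numOrder G (p * l) = 0
      · exact Or.inl h0
      · refine Or.inr (eq_n hval h0 ?_)
        nlinarith [hl.two_le]
    rcases hpl with h0 | h0 <;> rw [h0] at h1
    · have : p ∣ n := (Nat.dvd_add_right hpn).1 (by simpa using h1)
      exact hnot this
    · have h2 : p ∣ 3 * (1 + n) := hpn.mul_left 3
      rw [show 3 * (1 + n) = 2 + (1 + n + n + n) by ring] at h2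
      have := Nat.le_of_dvd two_pos ((Nat.dvd_add_left h1).1 h2)
      omega
  have hsq : numOrder G (p ^ 2) = 0 := by
    by_contra h0
    have h1 := eq_n hval h0 (by nlinarith)
    have h2 := totient_dvd (G := G) (p ^ 2)
    rw [h1, Nat.totient_prime_pow_succ hp 1, pow_one] at h2
    exact hnot ((dvd_mul_right _ _).trans h2)
  have hord : ∀ g : G, ¬ p ^ 2 ∣ orderOf g := fun g hg =>
    numOrder_ne_zero_iff.2 ⟨g ^ (orderOf g / p ^ 2),
      orderOf_pow_orderOf_div (orderOf_pos g).ne' hg⟩ hsq
  by_cases h2G : 2 ∣ Nat.card G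
  · right
    haveI : Fact (Nat.Prime 2) := ⟨Nat.prime_two⟩
    have hN2 : numOrder G 2 = 1 := by
      refine (hval 2 (numOrder_prime_ne_zero Nat.prime_two h2G)).resolve_right fun h => ?_
      have h1 := dvd_prime Nat.prime_two h2G
      rw [h] at h1
      omega
    obtain ⟨z, hz⟩ := exists_prime_orderOf_dvd_card' 2 h2G
    have hzc : ∀ g : G, g * z = z * g := fun g => by
      have := unique_involution hN2 hz (y := g * z * g⁻¹) (by rw [← MulAut.conj_apply, MulEquiv.orderOf_eq, hz])
      rw [mul_inv_eq_iff_eq_mul] at this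
      exact this
    have hN2p : numOrder G (2 * p) = n := by
      obtain ⟨y, hy⟩ := exists_prime_orderOf_dvd_card' p hpG
      refine eq_n hval (numOrder_ne_zero_iff.2 ⟨z * y, ?_⟩) (by omega)
      rw [Commute.orderOf_mul_eq_mul_orderOf_of_coprime (hzc y).symm
        (by rw [hz, hy]; exact (Nat.coprime_primes Nat.prime_two hp).2 (Ne.symm hp2)), hz, hy]
    have hN4 : numOrder G 4 = 0 := by
      by_contra h0
      have h4 := eq_n hval h0 (by norm_num)
      obtain ⟨x, hx⟩ := numOrder_ne_zero_iff.1 h0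
      have h4G : 4 ∣ Nat.card G := hx ▸ orderOf_dvd_natCard x
      have hcop : Nat.Coprime 4 p := (Nat.coprime_primes Nat.prime_two hp).2 (Ne.symm hp2) |>.pow_left 2
      have h1 := (dvd_mul_left p 4).trans (dvd_sum_numOrder (hcop.mul_dvd_of_dvd_of_dvd h4G hpG))
      have hd : (4 * p).divisors = {1, 2, 4, p, 2 * p, 4 * p} := by
        ext d
        simp only [Nat.mem_divisors, Finset.mem_insert, Finset.mem_singleton]
        refine ⟨fun h => ?_, ?_⟩
        · obtain ⟨a, b, ha, hb, rfl⟩ := Nat.dvd_mul.1 h.1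
          have : a ≤ 4 := Nat.le_of_dvd (by norm_num) ha
          rcases (Nat.dvd_prime hp).1 hb with rfl | rfl <;> interval_cases a <;> simp_all
        · rintro (rfl | rfl | rfl | rfl | rfl | rfl) <;>
            refine ⟨?_, mul_ne_zero (by norm_num) hp.ne_zero⟩
          exacts [one_dvd _, dvd_mul_of_dvd_left (by norm_num) _, dvd_mul_right _ _, dvd_mul_left _ _,
            mul_dvd_mul_right (by norm_num) _, dvd_rfl]
      have hp4 : p ≠ 4 := by rintro rfl; norm_num at hp
      rw [hd, Finset.sum_insert (by simp; omega), Finset.sum_insert (by simp; omega),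
        Finset.sum_insert (by simp; omega), Finset.sum_insert (by simp; omega),
        Finset.sum_insert (by simp; omega), Finset.sum_singleton, numOrder_one, hN2, h4,
        hNp p hp hp2 hpG, hN2p] at h1
      have h2 : p ∣ 3 * (1 + n) := hpn.mul_left 3
      by_cases h40 : numOrder G (4 * p) = 0
      · rw [h40] at h1
        rw [show 3 * (1 + n) = 1 + (1 + (1 + (n + (n + (n + 0))))) by ring] at h2
        exact hp.ne_one (Nat.dvd_one.1 ((Nat.dvd_add_left h1).1 h2))
      · rw [eq_n hval h40 (by omega)] at h1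
        have h3 : p ∣ 4 * (1 + n) := hpn.mul_left 4
        rw [show 4 * (1 + n) = 2 + (1 + (1 + (n + (n + (n + n))))) by ring] at h3
        have := Nat.le_of_dvd two_pos ((Nat.dvd_add_left h1).1 h3)
        omega
    have hexp : ∀ g : G, orderOf g ∣ 2 * p := fun g => by
      refine (Nat.dvd_iff_prime_pow_dvd_dvd _ _).2 fun l k hl hlk => ?_
      rcases Nat.eq_zero_or_pos k with rfl | hk0
      · simp
      rcases hothers l hl ((dvd_pow_self l hk0.ne').trans (hlk.trans (orderOf_dvd_natCard g))) with rfl | rfl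
      · rcases Nat.lt_or_ge k 2 with hk | hk
        · exact (pow_dvd_pow 2 (by omega : k ≤ 1)).trans (by rw [pow_one]; exact dvd_mul_right _ _)
        · exact absurd hN4 (numOrder_ne_zero_iff.2 ⟨g ^ (orderOf g / 4),
            orderOf_pow_orderOf_div (orderOf_pos g).ne' ((pow_dvd_pow 2 hk).trans hlk)⟩)
      · rcases Nat.lt_or_ge k 2 with hk | hk
        · exact (pow_dvd_pow l (by omega : k ≤ 1)).trans (by rw [pow_one]; exact dvd_mul_left _ _)
        · exact absurd ((pow_dvd_pow l hk).trans hlk) (hord g)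
    set Z := Subgroup.zpowers z
    haveI : Z.Normal := ⟨fun x hx g => by
      obtain ⟨k, rfl⟩ := hx
      rw [((show Commute g z from hzc g).zpow_right k).eq, mul_inv_cancel_right]
      exact Subgroup.zpow_mem_zpowers _ _⟩
    have hq : IsPGroup p (G ⧸ Z) := fun x => by
      obtain ⟨g, rfl⟩ := QuotientGroup.mk_surjective x
      refine ⟨1, ?_⟩
      rw [pow_one, ← QuotientGroup.mk_pow, QuotientGroup.eq_one_iff]
      have h1 : orderOf (g ^ p) ∣ 2 := by
        refine orderOf_dvd_of_pow_eq_one ?_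
        rw [← pow_mul, mul_comm]
        exact orderOf_dvd_iff_pow_eq_one.1 (hexp g)
      rcases (Nat.dvd_prime Nat.prime_two).1 h1 with h | h
      · rw [orderOf_eq_one_iff.1 h]; exact Z.one_mem
      · rw [unique_involution hN2 hz h]; exact Subgroup.mem_zpowers z
    obtain ⟨b, hb⟩ := hq.exists_card_eq
    have hcard : Nat.card G = 2 * p ^ b := by
      rw [Subgroup.card_eq_card_quotient_mul_card_subgroup Z, hb, Nat.card_zpowers, hz, mul_comm]
    obtain ⟨P, hP⟩ := Sylow.exists_subgroup_card_pow_prime p (G := G) (n := b) (hcard ▸ dvd_mul_left _ _)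
    let φ : Z × P →* G := MonoidHom.noncommCoprod Z.subtype P.subtype fun x y => by
      obtain ⟨k, hk⟩ := x.2
      show Commute (x : G) (y : G)
      rw [← hk]
      exact (show Commute z (y : G) from (hzc y).symm).zpow_left k
    have hdisj : Disjoint Z P := by
      rw [disjoint_iff]
      refine Subgroup.inf_eq_bot_of_coprime ?_
      rw [Nat.card_zpowers, hz, hP]
      exact Nat.Coprime.pow_right b ((Nat.coprime_primes Nat.prime_two hp).2 (Ne.symm hp2))
    have hφ : Function.Bijective φ := by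
      refine (Nat.bijective_iff_injective_and_card φ).2 ⟨?_, ?_⟩
      · rw [injective_iff_map_eq_one]
        rintro ⟨x, y⟩ hxy
        have h1 : (x : G) * (y : G) = 1 := hxy
        have h2 : (x : G) ∈ Z ⊓ P := ⟨x.2, by rw [mul_eq_one_iff_eq_inv.1 h1]; exact P.inv_mem y.2⟩
        rw [hdisj.eq_bot, Subgroup.mem_bot] at h2
        rw [h2, one_mul] at h1
        exact Prod.ext (Subtype.ext h2) (Subtype.ext h1)
      · rw [Nat.card_prod, Nat.card_zpowers, hz, hP, hcard]
    have hexpP : ∀ y : P, y ^ p = 1 := fun y => by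
      obtain ⟨k, -, hk⟩ := (Nat.dvd_prime_pow hp).1 (hP ▸ orderOf_dvd_natCard y)
      rw [← Subgroup.orderOf_coe] at hk
      have h1 := hexp (y : G)
      rw [hk] at h1
      have h2 : p ^ k ∣ p := (Nat.Coprime.pow_left k ((Nat.coprime_primes hp Nat.prime_two).2 hp2)).dvd_of_dvd_mul_left h1
      exact Subtype.ext (orderOf_dvd_iff_pow_eq_one.1 (hk ▸ h2))
    have hexpP' : Monoid.exponent P = p := by
      rcases (Nat.dvd_prime hp).1 (Monoid.exponent_dvd_of_forall_pow_eq_one hexpP) with h | h
      · have := Monoid.exp_eq_one_iff.1 h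
        have h1 : Nat.card P = 1 := Nat.card_of_subsingleton (1 : P)
        rw [hP] at h1
        rw [h1, mul_one] at hcard
        rw [hcard] at hpG
        exact absurd (Nat.le_of_dvd two_pos hpG) (by omega)
      · exact h
    let e₀ : Z ≃* Multiplicative (ZMod 2) := mulEquivOfPrimeCardEq (p := 2)
      (by rw [Nat.card_zpowers, hz]) (by simp)
    refine ⟨Shrink.{0} P, inferInstance, inferInstance,
      (IsPGroup.of_card hP).of_equiv (Shrink.mulEquiv.symm), ?_,
      ⟨(MulEquiv.ofBijective φ hφ).symm.trans (e₀.prodCongr Shrink.mulEquiv.symm)⟩⟩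
    rw [Monoid.exponent_eq_of_mulEquiv (Shrink.mulEquiv : Shrink.{0} P ≃* P), hexpP']
  · left
    have hall : ∀ g : G, g ^ p = 1 := fun g => by
      refine orderOf_dvd_iff_pow_eq_one.1 ((Nat.dvd_iff_prime_pow_dvd_dvd _ _).2 fun l k hl hlk => ?_)
      rcases Nat.eq_zero_or_pos k with rfl | hk0
      · simp
      rcases hothers l hl ((dvd_pow_self l hk0.ne').trans (hlk.trans (orderOf_dvd_natCard g))) with rfl | rfl
      · exact absurd ((dvd_pow_self 2 hk0.ne').trans (hlk.trans (orderOf_dvd_natCard g))) h2G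
      · rcases Nat.lt_or_ge k 2 with hk | hk
        · exact (pow_dvd_pow l (by omega : k ≤ 1)).trans (pow_one l).dvd
        · exact absurd ((pow_dvd_pow l hk).trans hlk) (hord g)
    refine ⟨fun g => ⟨1, by rw [pow_one]; exact hall g⟩, ?_, ?_⟩
    · have := Nat.le_of_dvd Nat.card_pos hpG
      omega
    · rcases (Nat.dvd_prime hp).1 (Monoid.exponent_dvd_of_forall_pow_eq_one hall) with h | h
      · obtain ⟨y, hy⟩ := exists_prime_orderOf_dvd_card' p hpG
        have := hy ▸ Monoid.order_dvd_exponent y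
        rw [h, Nat.dvd_one] at this
        exact absurd this hp.ne_one
      · exact h

theorem two_case {n : ℕ} (hn : n ≠ 1) (hG : IsPGroup 2 G)
    (hval : ∀ m, numOrder G m ≠ 0 → numOrder G m = 1 ∨ numOrder G m = n) (hatt : ∃ m, numOrder G m = n ∧ numOrder G m ≠ 0) :
    (3 ≤ Nat.card G ∧ Monoid.exponent G = 2) ∨ Nonempty (G ≃* QuaternionGroup 2) ∨
      (IsCyclic G ∧ Nat.card G = 4) := by
  haveI : Fact (Nat.Prime 2) := ⟨Nat.prime_two⟩
  obtain ⟨m, hm, hm0⟩ := hatt
  obtain ⟨e, he⟩ := hG.exists_card_eq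
  have hord : ∀ g : G, ∃ k, orderOf g = 2 ^ k := fun g => by
    obtain ⟨k, -, hk⟩ := (Nat.dvd_prime_pow Nat.prime_two).1 (he ▸ orderOf_dvd_natCard g)
    exact ⟨k, hk⟩
  by_cases h4 : numOrder G 4 = 0
  · left
    have hall : ∀ g : G, g ^ 2 = 1 := fun g => by
      obtain ⟨k, hk⟩ := hord g
      rcases Nat.lt_or_ge k 2 with h | h
      · exact orderOf_dvd_iff_pow_eq_one.1 (hk ▸ (pow_dvd_pow 2 (by omega : k ≤ 1)).trans (pow_one 2).dvd)
      · exact absurd h4 (numOrder_ne_zero_iff.2 ⟨g ^ (orderOf g / 4),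
          orderOf_pow_orderOf_div (orderOf_pos g).ne' (hk ▸ pow_dvd_pow 2 h)⟩)
    obtain ⟨g, hg⟩ := numOrder_ne_zero_iff.1 hm0
    have hm2 : m = 2 := by
      have h1 : m ∣ 2 := hg ▸ orderOf_dvd_of_pow_eq_one (hall g)
      rcases (Nat.dvd_prime Nat.prime_two).1 h1 with h | h
      · exact absurd (hm.symm.trans (by rw [h]; exact numOrder_one)) hn
      · exact h
    subst hm2
    refine ⟨?_, ?_⟩
    · have h1 : numOrder G 2 + 1 ≤ Nat.card G := by
        have h2 := Nat.card_le_card_of_injective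
          (fun x : Option {g : G // orderOf g = 2} => x.elim 1 Subtype.val) (by
            rintro (_ | ⟨a, ha⟩) (_ | ⟨b, hb⟩) hab
            · rfl
            · exact absurd (show (1 : G) = b from hab) fun e => by rw [← e, orderOf_one] at hb; omega
            · exact absurd (show a = (1 : G) from hab) fun e => by rw [e, orderOf_one] at ha; omega
            · exact congrArg some (Subtype.ext hab))
        rwa [Finite.card_option] at h2
      omega
    · rcases (Nat.dvd_prime Nat.prime_two).1 (Monoid.exponent_dvd_of_forall_pow_eq_one hall) with h | h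
      · have := hg ▸ Monoid.order_dvd_exponent g
        rw [h] at this
        omega
      · exact h
  · right
    have hn4 := eq_n hval h4 (by norm_num)
    have h2n := even_n hval h4 (by norm_num)
    obtain ⟨x, hx⟩ := numOrder_ne_zero_iff.1 h4
    have h4G : 2 ^ 2 ∣ Nat.card G := by
      have := hx ▸ orderOf_dvd_natCard x
      exact this
    have hN2 : numOrder G 2 = 1 := by
      refine (hval 2 (numOrder_prime_ne_zero Nat.prime_two ((dvd_pow_self 2 two_ne_zero).trans h4G))).resolve_right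
        fun h => ?_
      have h1 := dvd_prime Nat.prime_two ((dvd_pow_self 2 two_ne_zero).trans h4G)
      rw [h] at h1
      omega
    have h8 : ∀ g : G, g ^ 4 = 1 := fun g => by
      obtain ⟨k, hk⟩ := hord g
      rcases Nat.lt_or_ge k 3 with h | h
      · exact orderOf_dvd_iff_pow_eq_one.1 (hk ▸ pow_dvd_pow 2 (by omega : k ≤ 2))
      · exfalso
        have h0 : numOrder G 8 ≠ 0 := numOrder_ne_zero_iff.2 ⟨g ^ (orderOf g / 8),
          orderOf_pow_orderOf_div (orderOf_pos g).ne' (hk ▸ pow_dvd_pow 2 h)⟩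
        have ht := totient_dvd (G := G) 8
        rw [eq_n hval h0 (by norm_num), show Nat.totient 8 = 4 by decide] at ht
        have h1 := dvd_prime_sq Nat.prime_two h4G
        rw [hN2, show numOrder G (2 ^ 2) = n from hn4] at h1
        norm_num at h1
        omega
    have huniq : ∀ a b : G, orderOf a = 2 → b ^ 2 = 1 → b ∈ Subgroup.zpowers a := fun a b ha hb => by
      rcases (Nat.dvd_prime Nat.prime_two).1 (orderOf_dvd_of_pow_eq_one hb) with h | h
      · rw [orderOf_eq_one_iff.1 h]; exact Subgroup.one_mem _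
      · rw [unique_involution hN2 ha h]; exact Subgroup.mem_zpowers a
    have hcyc : IsCyclic G → Nat.card G = 4 := fun hc => by
      refine Nat.dvd_antisymm ?_ h4G
      rw [← IsCyclic.exponent_eq_card (α := G)]
      exact Monoid.exponent_dvd_of_forall_pow_eq_one h8
    rcases Cfsg.Agent.PGroup.unique_order_p_cases hG huniq with hc | ⟨-, k, ⟨f⟩⟩
    · exact Or.inr ⟨hc, hcyc hc⟩
    · have h1 : orderOf (f.symm (QuaternionGroup.a 1)) ∣ 4 := orderOf_dvd_of_pow_eq_one (h8 _)
      haveI : NeZero (2 ^ k) := ⟨by positivity⟩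
      rw [MulEquiv.orderOf_eq, QuaternionGroup.orderOf_a_one] at h1
      have hk : k ≤ 1 := by
        by_contra hk
        have h2 : 4 ≤ 2 ^ k := Nat.pow_le_pow_right two_pos (by omega : 2 ≤ k)
        have := Nat.le_of_dvd (by norm_num) h1
        omega
      interval_cases k
      · refine Or.inr ?_
        have hcard : Nat.card G = 4 := by
          rw [Nat.card_congr f.toEquiv, Nat.card_eq_fintype_card, QuaternionGroup.card]
          rfl
        exact ⟨isCyclic_of_orderOf_eq_card x (by rw [hx, hcard]), hcard⟩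
      · exact Or.inl ⟨f⟩

/-- Let G be a finite group such that the numbers of elements of each order that occurs in G (the numbers #{g : o(g) = m}, m ranging over the element orders of G) take exactly two values, 1 and some n ≠ 1. Then either G is a p-group of exponent p and order at least 3 for some prime p, or G is the quaternion group of order 8, or G is cyclic of order 4, or G ≅ Z₂ × P for a p-group P of exponent p with p an odd prime. -/
theorem result {G : Type*} [Group G] [Finite G] (n : ℕ) (hn : n ≠ 1) (h : ((fun m : ℕ => Nat.card {g : G // orderOf g = m}) '' Set.range (orderOf : G → ℕ)) = {1, n}) :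
    (∃ p : ℕ, p.Prime ∧ IsPGroup p G ∧ 3 ≤ Nat.card G ∧ Monoid.exponent G = p) ∨
      Nonempty (G ≃* QuaternionGroup 2) ∨ (IsCyclic G ∧ Nat.card G = 4) ∨
      (∃ (p : ℕ) (P : Type) (_ : Group P) (_ : Finite P), p.Prime ∧ p ≠ 2 ∧ IsPGroup p P ∧ Monoid.exponent P = p ∧
        Nonempty (G ≃* Multiplicative (ZMod 2) × P)) := by
  have hval : ∀ m, numOrder G m ≠ 0 → numOrder G m = 1 ∨ numOrder G m = n := fun m hm => by
    obtain ⟨g, hg⟩ := numOrder_ne_zero_iff.1 hm
    have : numOrder G m ∈ ((fun m : ℕ => Nat.card {g : G // orderOf g = m}) '' Set.range (orderOf : G → ℕ)) :=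
      ⟨m, ⟨g, hg⟩, rfl⟩
    rw [h] at this
    exact this
  have hatt : ∃ m, numOrder G m = n ∧ numOrder G m ≠ 0 := by
    have : n ∈ ((fun m : ℕ => Nat.card {g : G // orderOf g = m}) '' Set.range (orderOf : G → ℕ)) := by
      rw [h]; exact Or.inr rfl
    obtain ⟨m, ⟨g, hg⟩, hm⟩ := this
    exact ⟨m, hm, numOrder_ne_zero_iff.2 ⟨g, hg⟩⟩
  by_cases hodd : ∃ p, p.Prime ∧ p ≠ 2 ∧ p ∣ Nat.card G
  · obtain ⟨p, hp, hp2, hpG⟩ := hodd
    rcases odd_case hp hp2 hpG hval with h1 | ⟨P, i1, i2, h1, h2, h3⟩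
    · exact Or.inl ⟨p, hp, h1⟩
    · exact Or.inr (Or.inr (Or.inr ⟨p, P, i1, i2, hp, hp2, h1, h2, h3⟩))
  · have hG : IsPGroup 2 G := by
      have hpf : ∀ l : ℕ, l.Prime → l ∣ Nat.card G → l = 2 := fun l hl hd => by
        by_contra hne
        exact hodd ⟨l, hl, hne, hd⟩
      exact IsPGroup.of_card (n := (Nat.card G).primeFactorsList.length)
        (Nat.eq_prime_pow_of_unique_prime_dvd Nat.card_pos.ne' fun {l} hl hd => hpf l hl hd)
    rcases two_case hn hG hval hatt with h1 | h1 | h1
    · exact Or.inl ⟨2, Nat.prime_two, hG, h1⟩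
    · exact Or.inr (Or.inl h1)
    · exact Or.inr (Or.inr (Or.inl h1))

end Cfsg.Agent.S3995
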