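import Cfsg.Statements.S4004
import Cfsg.Agent.EqLemmas
import Cfsg.Agent.Lib.SameOrder.Basic
import Cfsg.Agent.Lib.FpfAction.Basic
import Cfsg.Agent.Lib.Frobenius.Structure
import Cfsg.Agent.Lib.Solvable.Basic
import Cfsg.Agent.Lib.CharApp.Burnside
import Cfsg.Agent.Lib.Frobenius.Kernel

set_option autoImplicit false
open Cfsg

namespace Cfsg.Agent.S4004

open Cfsg.Agent.SameOrder
open scoped IsMulCommutative Pointwise

variable {G : Type*} [Group G] [Finite G]

theorem cast_dvd {p e : ℕ} (h : p ∣ e) : (e : ZMod p) = 0 := (ZMod.natCast_eq_zero_iff e p).2 h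

theorem sum_divisors_mul_prime {M : Type*} [AddCommMonoid M] (f : ℕ → M) {a r : ℕ} (ha : a ≠ 0)
    (hr : r.Prime) (hra : ¬ r ∣ a) :
    ∑ d ∈ (a * r).divisors, f d = ∑ d ∈ a.divisors, f d + ∑ d ∈ a.divisors, f (d * r) := by
  classical
  have h : (a * r).divisors = a.divisors ∪ a.divisors.image (· * r) := by
    ext d
    simp only [Nat.mem_divisors, Finset.mem_union, Finset.mem_image]
    constructor
    · rintro ⟨hd, -⟩
      obtain ⟨x, y, hx, hy, rfl⟩ := Nat.dvd_mul.1 hd
      rcases (Nat.dvd_prime hr).1 hy with rfl | rfl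
      · exact Or.inl ⟨by rwa [mul_one], ha⟩
      · exact Or.inr ⟨x, ⟨hx, ha⟩, rfl⟩
    · rintro (⟨h, -⟩ | ⟨x, ⟨hx, -⟩, rfl⟩)
      · exact ⟨h.trans (dvd_mul_right _ _), mul_ne_zero ha hr.ne_zero⟩
      · exact ⟨mul_dvd_mul_right hx r, mul_ne_zero ha hr.ne_zero⟩
  rw [h, Finset.sum_union, Finset.sum_image]
  · intro x _ y _ hxy
    exact Nat.eq_of_mul_eq_mul_right hr.pos hxy
  · rw [Finset.disjoint_left]
    intro d hd hd'
    obtain ⟨x, -, rfl⟩ := Finset.mem_image.1 hd'
    exact hra ((dvd_mul_left r x).trans (Nat.mem_divisors.1 hd).1)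

theorem sum_three_primes {M : Type*} [AddCommMonoid M] (f : ℕ → M) {p q r : ℕ} (hp : p.Prime)
    (hq : q.Prime) (hr : r.Prime) (hpq : p ≠ q) (hpr : p ≠ r) (hqr : q ≠ r) :
    ∑ d ∈ (p * q * r).divisors, f d =
      (f 1 + f p + f q + f (p * q)) + (f r + f (p * r) + f (q * r) + f (p * q * r)) := by
  have hq' : ¬ q ∣ p := fun h => hpq ((Nat.prime_dvd_prime_iff_eq hq hp).1 h).symm
  have hr' : ¬ r ∣ p * q := fun h => (hr.dvd_mul.1 h).elim
    (fun h => hpr ((Nat.prime_dvd_prime_iff_eq hr hp).1 h).symm)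
    (fun h => hqr ((Nat.prime_dvd_prime_iff_eq hr hq).1 h).symm)
  rw [sum_divisors_mul_prime f (mul_ne_zero hp.ne_zero hq.ne_zero) hr hr',
    sum_divisors_mul_prime f hp.ne_zero hq hq',
    sum_divisors_mul_prime (fun d => f (d * r)) hp.ne_zero hq hq']
  simp only [hp.divisors, Finset.sum_pair hp.ne_one.symm, one_mul]
  abel

theorem sum_prime_sq_mul {M : Type*} [AddCommMonoid M] (f : ℕ → M) {p q : ℕ} (hp : p.Prime)
    (hq : q.Prime) (hpq : p ≠ q) :
    ∑ d ∈ (p ^ 2 * q).divisors, f d = f 1 + f p + f (p ^ 2) + f q + f (p * q) + f (p ^ 2 * q) := by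
  have hq' : ¬ q ∣ p ^ 2 := fun h => hpq ((Nat.prime_dvd_prime_iff_eq hq hp).1 (hq.dvd_of_dvd_pow h)).symm
  rw [sum_divisors_mul_prime f (pow_ne_zero _ hp.ne_zero) hq hq', Nat.sum_divisors_prime_pow hp,
    Nat.sum_divisors_prime_pow hp, Finset.sum_range_succ, Finset.sum_range_succ, Finset.sum_range_one,
    Finset.sum_range_succ, Finset.sum_range_succ, Finset.sum_range_one, pow_zero, pow_one, one_mul]
  abel

theorem no_sq_of {p : ℕ} (hp : p.Prime) (hval : numOrder G (p ^ 2) ≠ 0 → ¬ p ∣ numOrder G (p ^ 2)) :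
    ∀ g : G, ¬ p ^ 2 ∣ orderOf g := fun g hg => by
  refine hval (numOrder_ne_zero_iff.2 ⟨g ^ (orderOf g / p ^ 2),
    orderOf_pow_orderOf_div (orderOf_pos g).ne' hg⟩) ((dvd_mul_right p (p - 1)).trans ?_)
  have h := totient_dvd (G := G) (p ^ 2)
  rwa [Nat.totient_prime_pow_succ hp 1, pow_one] at h

theorem pow_dvd_one_add {p : ℕ} (hp : p.Prime) (hpG : p ∣ Nat.card G) (hsq : ∀ g : G, ¬ p ^ 2 ∣ orderOf g) :
    p ^ (Nat.card G).factorization p ∣ 1 + numOrder G p := by
  have ha := hp.factorization_pos_of_dvd Nat.card_pos.ne' hpG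
  have h := PowEqOne.pow_dvd_card_pow_eq_one (G := G) hp _ le_rfl
  have e : Nat.card {g : G // g ^ p ^ (Nat.card G).factorization p = 1} = Nat.card {g : G // g ^ p = 1} := by
    refine Nat.card_congr (Equiv.subtypeEquivRight fun g => ⟨fun hg => ?_, fun hg => ?_⟩)
    · obtain ⟨k, -, hk⟩ := (Nat.dvd_prime_pow hp).1 (orderOf_dvd_of_pow_eq_one hg)
      refine orderOf_dvd_iff_pow_eq_one.1 ?_
      rw [hk]
      rcases Nat.lt_or_ge k 2 with h2 | h2
      · exact (pow_dvd_pow p (by omega : k ≤ 1)).trans (pow_one p).dvd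
      · exact absurd (hk ▸ pow_dvd_pow p h2) (hsq g)
    · exact orderOf_dvd_iff_pow_eq_one.1 ((orderOf_dvd_of_pow_eq_one hg).trans (dvd_pow_self p ha.ne'))
  rw [e, card_pow_eq_sum hp.ne_zero, hp.divisors, Finset.sum_pair hp.ne_one.symm, numOrder_one] at h
  exact h

/-- Two primes with the same count. -/
theorem pair_same {p q : ℕ} (hp : p.Prime) (hq : q.Prime) (hpq : p ≠ q) (hp2 : p ≠ 2)
    (hpG : p ∣ Nat.card G) (hqG : q ∣ Nat.card G) (he : numOrder G q = numOrder G p) :
    numOrder G (p * q) ≠ 0 ∧ numOrder G (p * q) ≠ numOrder G p ∧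
      (numOrder G (p * q) : ZMod p) = 1 ∧ (numOrder G p : ZMod p) = -1 := by
  haveI := Fact.mk hp
  have h1 : (numOrder G p : ZMod p) = -1 := by
    have := cast_dvd (dvd_prime hp hpG)
    push_cast at this
    linear_combination this
  have h2 : (numOrder G (p * q) : ZMod p) = 1 := by
    have := cast_dvd ((dvd_mul_right p q).trans (dvd_two_primes hp hq hpq hpG hqG))
    rw [he] at this
    push_cast at this
    linear_combination this - 2 * h1
  have hne : (-1 : ZMod p) ≠ 1 := fun e => hp2 (by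
    have e2 : ((2 : ℕ) : ZMod p) = 0 := by push_cast; linear_combination -e
    exact (Nat.prime_dvd_prime_iff_eq hp Nat.prime_two).1 ((ZMod.natCast_eq_zero_iff 2 p).1 e2))
  refine ⟨fun e => ?_, fun e => hne (by rw [← h1, ← e, h2]), h2, h1⟩
  rw [e, Nat.cast_zero] at h2
  exact zero_ne_one h2

theorem not_all_same (hodd : Odd (Nat.card G)) {n m : ℕ}
    (hval : ∀ d, d ≠ 1 → numOrder G d ≠ 0 → numOrder G d = n ∨ numOrder G d = m)
    (hall : ∀ l, l.Prime → l ∣ Nat.card G → numOrder G l = n) {p q : ℕ} (hp : p.Prime) (hq : q.Prime)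
    (hpq : p ≠ q) (hpG : p ∣ Nat.card G) (hqG : q ∣ Nat.card G) : False := by
  classical
  have hne2 : ∀ l, l.Prime → l ∣ Nat.card G → l ≠ 2 := fun l _ hlG e =>
    (Nat.not_even_iff_odd.2 hodd) (even_iff_two_dvd.2 (e ▸ hlG))
  have hdvd : Nat.card G ∣ 1 + n := by
    refine (Nat.dvd_iff_prime_pow_dvd_dvd _ _).2 fun l k hl hlk => ?_
    rcases Nat.eq_zero_or_pos k with rfl | hk
    · simp
    have hlG : l ∣ Nat.card G := (dvd_pow_self l hk.ne').trans hlk
    haveI := Fact.mk hl
    obtain ⟨r, hr, hrG, hlr⟩ : ∃ r, r.Prime ∧ r ∣ Nat.card G ∧ l ≠ r := by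
      by_cases h : l = p
      · exact ⟨q, hq, hqG, h ▸ hpq⟩
      · exact ⟨p, hp, hpG, h⟩
    obtain ⟨a1, a2, a3, a4⟩ := pair_same hl hr hlr (hne2 l hl hlG) hlG hrG
      ((hall r hr hrG).trans (hall l hl hlG).symm)
    rw [hall l hl hlG] at a2 a4
    have hm : numOrder G (l * r) = m := (hval _ (by
      have := hl.two_le; have := hr.two_le; nlinarith) a1).resolve_left a2
    rw [hm] at a3
    have hsq := no_sq_of (G := G) hl fun h0 hd => by
      rcases hval _ (Nat.one_lt_pow two_ne_zero hl.one_lt).ne' h0 with h | h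
      · rw [h] at hd
        rw [cast_dvd hd] at a4
        exact one_ne_zero (neg_eq_zero.1 a4.symm)
      · rw [h] at hd
        rw [cast_dvd hd] at a3
        exact zero_ne_one a3
    exact (pow_dvd_pow l ((hl.pow_dvd_iff_le_factorization Nat.card_pos.ne').1 hlk)).trans
      (hall l hl hlG ▸ pow_dvd_one_add hl hlG hsq)
  obtain ⟨b1, -, -, -⟩ := pair_same hp hq hpq (hne2 p hp hpG) hpG hqG
    ((hall q hq hqG).trans (hall p hp hpG).symm)
  obtain ⟨w, hw⟩ := numOrder_ne_zero_iff.1 b1
  have h3 : n + 2 ≤ Nat.card G := by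
    letI := Fintype.ofFinite G
    have h4 : (1 : G) ≠ w := fun e => by
      rw [← e, orderOf_one] at hw
      have := hp.two_le; have := hq.two_le; nlinarith
    let f : {g : G // orderOf g = p} ⊕ Fin 2 → G := Sum.elim Subtype.val ![1, w]
    have hf : Function.Injective f := by
      refine Subtype.val_injective.sumElim ?_ ?_
      · intro i j hij
        fin_cases i <;> fin_cases j <;> simp_all
      · rintro ⟨a, ha⟩ j
        fin_cases j
        · intro e
          have e' : a = 1 := e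
          rw [e', orderOf_one] at ha
          exact hp.ne_one ha.symm
        · intro e
          have e' : a = w := e
          rw [e', hw] at ha
          have := hq.two_le; have := hp.pos; nlinarith
    have := Nat.card_le_card_of_injective f hf
    rwa [Nat.card_sum, Nat.card_fin, show Nat.card {g : G // orderOf g = p} = n from hall p hp hpG] at this
  have := Nat.le_of_dvd (by omega) hdvd
  omega

theorem three_false {p q r : ℕ} (hp : p.Prime) (hq : q.Prime) (hr : r.Prime) (hpq : p ≠ q) (hpr : p ≠ r)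
    (hqr : q ≠ r) (hp2 : p ≠ 2) (hq2 : q ≠ 2) (hr2 : r ≠ 2) (hpG : p ∣ Nat.card G) (hqG : q ∣ Nat.card G)
    (hrG : r ∣ Nat.card G) {n m : ℕ}
    (hval : ∀ d, d ≠ 1 → numOrder G d ≠ 0 → numOrder G d = n ∨ numOrder G d = m)
    (h1 : numOrder G p = n) (h2 : numOrder G q = n) (h3 : numOrder G r = m) : False := by
  haveI := Fact.mk hp; haveI := Fact.mk hr
  obtain ⟨a1, a2, a3, a4⟩ := pair_same hp hq hpq hp2 hpG hqG (h2.trans h1.symm)
  rw [h1] at a2 a4
  have hpqm : numOrder G (p * q) = m := (hval _ (by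
    have := hp.two_le; have := hq.two_le; nlinarith) a1).resolve_left a2
  rw [hpqm] at a3
  haveI := Fact.mk hq
  obtain ⟨-, -, b3, b4⟩ := pair_same hq hp (Ne.symm hpq) hq2 hqG hpG (h1.trans h2.symm)
  rw [mul_comm, hpqm] at b3
  rw [h2] at b4
  have key : ∀ l : ℕ, l.Prime → l ≠ 2 → l ∣ Nat.card G → l ≠ r → numOrder G l = n →
      (m : ZMod l) = 1 → (n : ZMod l) = -1 → numOrder G (l * r) = n := by
    intro l hl hl2 hlG hlr hln hm1 hn1
    haveI := Fact.mk hl
    have e := cast_dvd ((dvd_mul_right l r).trans (dvd_two_primes hl hr hlr hlG hrG))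
    rw [hln, h3] at e
    push_cast at e
    have e' : (numOrder G (l * r) : ZMod l) = -1 := by linear_combination e - hn1 - hm1
    have h0 : numOrder G (l * r) ≠ 0 := fun h => by
      rw [h, Nat.cast_zero] at e'
      exact one_ne_zero (neg_eq_zero.1 e'.symm)
    refine (hval _ (by have := hl.two_le; have := hr.two_le; nlinarith) h0).resolve_right fun h => ?_
    rw [h, hm1] at e'
    have e2 : ((2 : ℕ) : ZMod l) = 0 := by push_cast; linear_combination e'
    exact hl2 ((Nat.prime_dvd_prime_iff_eq hl Nat.prime_two).1 ((ZMod.natCast_eq_zero_iff 2 l).1 e2))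
  have hprn := key p hp hp2 hpG hpr h1 a3 a4
  have hqrn := key q hq hq2 hqG hqr h2 b3 b4
  have hmr : (m : ZMod r) = -1 := by
    have e := cast_dvd (dvd_prime hr hrG)
    rw [h3] at e
    push_cast at e
    linear_combination e
  have hnr : (n : ZMod r) = 0 := by
    have e := cast_dvd ((dvd_mul_left r p).trans (dvd_two_primes hp hr hpr hpG hrG))
    rw [h1, h3, hprn] at e
    push_cast at e
    have e2 : ((2 : ℕ) : ZMod r) * (n : ZMod r) = 0 := by push_cast; linear_combination e - hmr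
    refine (mul_eq_zero.1 e2).resolve_left fun h => hr2 ?_
    exact (Nat.prime_dvd_prime_iff_eq hr Nat.prime_two).1 ((ZMod.natCast_eq_zero_iff 2 r).1 h)
  have hdG : p * q * r ∣ Nat.card G :=
    (Nat.Coprime.mul_left ((Nat.coprime_primes hp hr).2 hpr) ((Nat.coprime_primes hq hr).2 hqr)).mul_dvd_of_dvd_of_dvd
      (((Nat.coprime_primes hp hq).2 hpq).mul_dvd_of_dvd_of_dvd hpG hqG) hrG
  have hs := dvd_sum_numOrder (G := G) hdG
  rw [sum_three_primes _ hp hq hr hpq hpr hqr, numOrder_one, h1, h2, hpqm, h3, hprn, hqrn] at hs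
  have ep := cast_dvd (((dvd_mul_right p q).trans (dvd_mul_right _ r)).trans hs)
  push_cast at ep
  have eN : (numOrder G (p * q * r) : ZMod p) = 1 := by linear_combination ep - 4 * a4 - 2 * a3
  have h0 : numOrder G (p * q * r) ≠ 0 := fun h => by
    rw [h, Nat.cast_zero] at eN
    exact zero_ne_one eN
  have hN : numOrder G (p * q * r) = m := by
    refine (hval _ (fun e => hr.ne_one (Nat.eq_one_of_mul_eq_one_left e)) h0).resolve_left fun h => ?_
    rw [h, a4] at eN
    have e2 : ((2 : ℕ) : ZMod p) = 0 := by push_cast; linear_combination -eN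
    exact hp2 ((Nat.prime_dvd_prime_iff_eq hp Nat.prime_two).1 ((ZMod.natCast_eq_zero_iff 2 p).1 e2))
  have er := cast_dvd ((dvd_mul_left r (p * q)).trans hs)
  rw [hN] at er
  push_cast at er
  have e2 : ((2 : ℕ) : ZMod r) = 0 := by push_cast; linear_combination -er + 4 * hnr + 3 * hmr
  exact hr2 ((Nat.prime_dvd_prime_iff_eq hr Nat.prime_two).1 ((ZMod.natCast_eq_zero_iff 2 r).1 e2))

theorem no_mixed {p q : ℕ} (hp : p.Prime) (hq : q.Prime) (hpq : p ≠ q) (hq2 : q ≠ 2) (hpG : p ∣ Nat.card G)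
    (hqG : q ∣ Nat.card G) (h : numOrder G (p * q) = numOrder G p) : False := by
  classical
  haveI := Fact.mk hp; haveI := Fact.mk hq
  have ha : (numOrder G p : ZMod p) = -1 := by
    have := cast_dvd (dvd_prime hp hpG)
    push_cast at this
    linear_combination this
  have hb : (numOrder G q : ZMod p) = 1 := by
    have := cast_dvd ((dvd_mul_right p q).trans (dvd_two_primes hp hq hpq hpG hqG))
    rw [h] at this
    push_cast at this
    linear_combination this - 2 * ha
  obtain ⟨P⟩ := (inferInstance : Nonempty (Sylow p G))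
  letI : MulAction (P : Subgroup G) {g : G // orderOf g = q} :=
    { smul := fun a g => ⟨(a : G) * g.1 * (a : G)⁻¹,
        by rw [← MulAut.conj_apply, MulEquiv.orderOf_eq, g.2]⟩
      one_smul := fun g => Subtype.ext (by show ((1 : (P : Subgroup G)) : G) * g.1 * _ = g.1; simp)
      mul_smul := fun a b g => Subtype.ext (by
        show ((a * b : (P : Subgroup G)) : G) * g.1 * _ = (a : G) * ((b : G) * g.1 * (b : G)⁻¹) * (a : G)⁻¹
        simp [mul_assoc]) }
  have hnd : ¬ p ∣ Nat.card {g : G // orderOf g = q} := fun hd => by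
    rw [show (numOrder G q : ZMod p) = 0 from cast_dvd hd] at hb
    exact zero_ne_one hb
  obtain ⟨⟨z, hzo⟩, hz⟩ := P.isPGroup'.nonempty_fixed_point_of_prime_not_dvd_card {g : G // orderOf g = q} hnd
  have hcomm : ∀ y ∈ (P : Subgroup G), y * z = z * y := fun y hy => by
    have e : y * z * y⁻¹ = z := congrArg Subtype.val (hz ⟨y, hy⟩)
    rwa [mul_inv_eq_iff_eq_mul] at e
  have hw : ∀ x : {g : G // orderOf g = p}, ∃ w : G, orderOf w = q ∧ Commute x.1 w := by
    rintro ⟨x, hx⟩
    obtain ⟨S, hS⟩ := (IsPGroup.of_card (G := Subgroup.zpowers x) (p := p) (n := 1)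
      (by rw [Nat.card_zpowers, hx, pow_one])).exists_le_sylow
    obtain ⟨g, hg⟩ := MulAction.exists_smul_eq G P S
    have hxS : x ∈ ((g • P : Sylow p G) : Subgroup G) := by rw [hg]; exact hS (Subgroup.mem_zpowers x)
    rw [Sylow.coe_subgroup_smul, Subgroup.mem_pointwise_smul_iff_inv_smul_mem] at hxS
    have hc : ((MulAut.conj g)⁻¹ x) * z = z * ((MulAut.conj g)⁻¹ x) := hcomm _ hxS
    refine ⟨MulAut.conj g z, by rw [MulEquiv.orderOf_eq, hzo], ?_⟩
    have hh := congrArg (MulAut.conj g) hc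
    rw [map_mul, map_mul, MulAut.apply_inv_self] at hh
    exact hh
  choose w hwo hwc using hw
  have hcop : ∀ i : Fin 2, Nat.Coprime q ((i : ℕ) + 1) := fun i => by
    refine (Nat.Prime.coprime_iff_not_dvd hq).2 fun hd => hq2 ?_
    have := Nat.le_of_dvd (Nat.succ_pos _) hd
    have := hq.two_le
    have := i.2
    omega
  have hcpq : Nat.Coprime q p := (Nat.coprime_primes hq hp).2 (Ne.symm hpq)
  have hord : ∀ (x : {g : G // orderOf g = p}) (i : Fin 2), orderOf (x.1 * w x ^ ((i : ℕ) + 1)) = p * q := by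
    intro x i
    have e : orderOf (w x ^ ((i : ℕ) + 1)) = q := by
      rw [Nat.Coprime.orderOf_pow (by rw [hwo]; exact hcop i), hwo]
    rw [((hwc x).pow_right _).orderOf_mul_eq_mul_orderOf_of_coprime (by rw [x.2, e]; exact hcpq.symm), x.2, e]
  let f : {g : G // orderOf g = p} × Fin 2 → {g : G // orderOf g = p * q} := fun x =>
    ⟨x.1.1 * w x.1 ^ ((x.2 : ℕ) + 1), hord x.1 x.2⟩
  have hf : Function.Injective f := by
    rintro ⟨x, i⟩ ⟨y, j⟩ hxy
    have h' : x.1 * w x ^ ((i : ℕ) + 1) = y.1 * w y ^ ((j : ℕ) + 1) := congrArg Subtype.val hxy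
    have e1 : ∀ (x : {g : G // orderOf g = p}) (k : ℕ), (x.1 * w x ^ k) ^ q = x.1 ^ q := fun x k => by
      rw [((hwc x).pow_right k).mul_pow, ← pow_mul, mul_comm k, pow_mul]
      have : w x ^ q = 1 := by
        conv_lhs => rw [← hwo x]
        exact pow_orderOf_eq_one _
      rw [this, one_pow, mul_one]
    have e2 : x.1 ^ q = y.1 ^ q := by rw [← e1 x, h', e1]
    obtain ⟨c, hc⟩ := exists_pow_eq_self_of_coprime (x := x.1) (n := q) (by rw [x.2]; exact hcpq)
    have hy : (y.1 ^ q) ^ c = y.1 := by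
      have hx1 := hc
      rw [← pow_mul] at hx1 ⊢
      have hm := pow_eq_pow_iff_modEq.1 (hx1.trans (pow_one _).symm)
      rw [x.2] at hm
      conv_rhs => rw [← pow_one y.1]
      exact pow_eq_pow_iff_modEq.2 (by rw [y.2]; exact hm)
    obtain rfl : x = y := Subtype.ext (by rw [← hc, e2, hy])
    refine Prod.ext rfl (Fin.ext ?_)
    have h5 := mul_left_cancel h'
    have h6 := pow_eq_pow_iff_modEq.1 h5
    rw [hwo] at h6
    have hq3 : 3 ≤ q := by have := hq.two_le; omega
    have := h6.eq_of_lt_of_lt (show (i : ℕ) + 1 < q by omega) (show (j : ℕ) + 1 < q by omega)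
    show (i : ℕ) = (j : ℕ)
    omega
  have hle := Nat.card_le_card_of_injective f hf
  rw [Nat.card_prod, Nat.card_fin] at hle
  have hpos : numOrder G p ≠ 0 := numOrder_prime_ne_zero hp hpG
  change numOrder G p * 2 ≤ numOrder G (p * q) at hle
  omega

theorem no_sq {p q : ℕ} (hp : p.Prime) (hq : q.Prime) (hpq : p ≠ q)
    (hpG : p ∣ Nat.card G) (hqG : q ∣ Nat.card G)
    (hval : ∀ d, d ≠ 1 → numOrder G d ≠ 0 → numOrder G d = numOrder G p ∨ numOrder G d = numOrder G q)
    (h : numOrder G (p * q) = 0) : ∀ g : G, ¬ p ^ 2 ∣ orderOf g := by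
  haveI := Fact.mk hp; haveI := Fact.mk hq
  intro g hg
  have h0 : numOrder G (p ^ 2) ≠ 0 := numOrder_ne_zero_iff.2
    ⟨g ^ (orderOf g / p ^ 2), orderOf_pow_orderOf_div (orderOf_pos g).ne' hg⟩
  have hp2 : p ∣ numOrder G (p ^ 2) := by
    have h1 := totient_dvd (G := G) (p ^ 2)
    rw [Nat.totient_prime_pow_succ hp 1, pow_one] at h1
    exact (dvd_mul_right p (p - 1)).trans h1
  have hb : numOrder G (p ^ 2) = numOrder G q := by
    refine (hval _ (Nat.one_lt_pow two_ne_zero hp.one_lt).ne' h0).resolve_left fun e => ?_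
    rw [e] at hp2
    exact hp.ne_one (Nat.dvd_one.1 ((Nat.dvd_add_left hp2).1 (dvd_prime hp hpG)))
  have hnm : numOrder G (p ^ 2 * q) = 0 := by
    by_contra hne
    obtain ⟨w, hw⟩ := numOrder_ne_zero_iff.1 hne
    exact numOrder_ne_zero_iff.2 ⟨w ^ (orderOf w / (p * q)), orderOf_pow_orderOf_div (orderOf_pos w).ne'
      (hw ▸ mul_dvd_mul_right (dvd_pow_self p two_ne_zero) q)⟩ h
  have hdG : p ^ 2 * q ∣ Nat.card G :=
    (((Nat.coprime_primes hp hq).2 hpq).pow_left 2).mul_dvd_of_dvd_of_dvd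
      (hg.trans (orderOf_dvd_natCard g)) hqG
  have hs := dvd_sum_numOrder (G := G) hdG
  rw [sum_prime_sq_mul _ hp hq hpq, numOrder_one, hb, h, hnm] at hs
  have e1 := cast_dvd ((dvd_mul_left q (p ^ 2)).trans hs)
  have e2 := cast_dvd ((dvd_mul_left q p).trans (dvd_two_primes hp hq hpq hpG hqG))
  have e3 := cast_dvd (dvd_prime hq hqG)
  rw [h] at e2
  push_cast at e1 e2 e3
  have : (1 : ZMod q) = 0 := by linear_combination e3 + e2 - e1
  exact one_ne_zero this

/-- Two actions without fixed points, with the partition identity. -/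
theorem pow_card_eq_one_of_prod {Q X V : Subgroup G} [IsMulCommutative V]
    (hXQ : X ≤ Subgroup.normalizer (Q : Set G)) (hQV : Q ≤ Subgroup.normalizer (V : Set G))
    (hXV : X ≤ Subgroup.normalizer (V : Set G))
    (hfree : ∀ x ∈ X, x ≠ 1 → Q ⊓ Subgroup.centralizer ({x} : Set G) = ⊥)
    (hQfix : V ⊓ Subgroup.centralizer (Q : Set G) = ⊥) [Fintype X]
    (hX1 : ∀ w : V, ∏ x : X, Coprime.conjAut hXV x w = 1) (v : V) : v ^ Nat.card Q = 1 := by
  classical
  cases nonempty_fintype Q
  have hQ1 : ∀ w : V, ∏ a : Q, Coprime.conjAut hQV a w = 1 := fun w => by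
    have := Coprime.conjProd_mem_centralizer hQV w
    rw [hQfix, Subgroup.mem_bot, OneMemClass.coe_eq_one, Coprime.conjProd_apply] at this
    exact this
  have htot : ∏ x : X, ∏ a : Q, Coprime.conjAut hQV a (Coprime.conjAut hXV x (Coprime.conjAut hQV a⁻¹ v)) = 1 := by
    rw [Finset.prod_comm]
    refine Finset.prod_eq_one fun a _ => ?_
    rw [← map_prod, hX1, map_one]
  rw [Finset.prod_eq_single (1 : X)] at htot
  · simpa using htot
  · intro x _ hx
    have hx1 : (x : G) ≠ 1 := fun h => hx (OneMemClass.coe_eq_one.1 h)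
    let f : Q → Q := fun a => ⟨(a : G) * ((x : G) * (a : G)⁻¹ * (x : G)⁻¹), mul_mem a.2
      ((Subgroup.mem_normalizer_iff.1 (hXQ x.2) _).1 (inv_mem a.2))⟩
    have hf : Function.Bijective f := by
      refine Finite.injective_iff_bijective.1 fun a b h => ?_
      have h' : (a : G) * ((x : G) * (a : G)⁻¹ * (x : G)⁻¹) =
          (b : G) * ((x : G) * (b : G)⁻¹ * (x : G)⁻¹) := congrArg Subtype.val h
      have hc : (b : G)⁻¹ * a ∈ Q ⊓ Subgroup.centralizer ({(x : G)} : Set G) := by
        refine Subgroup.mem_inf.2 ⟨Q.mul_mem (Q.inv_mem b.2) a.2, Subgroup.mem_centralizer_singleton_iff.2 ?_⟩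
        calc (b : G)⁻¹ * a * x
            = (b : G)⁻¹ * ((a : G) * ((x : G) * (a : G)⁻¹ * (x : G)⁻¹)) * x * a := by group
          _ = (b : G)⁻¹ * ((b : G) * ((x : G) * (b : G)⁻¹ * (x : G)⁻¹)) * x * a := by rw [h']
          _ = x * ((b : G)⁻¹ * a) := by group
      rw [hfree _ x.2 hx1, Subgroup.mem_bot, inv_mul_eq_one] at hc
      exact Subtype.ext hc.symm
    refine Eq.trans (Fintype.prod_bijective f hf _
      (fun c => Coprime.conjAut hQV c (Coprime.conjAut hXV x v)) fun a => ?_) (hQ1 _)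
    apply Subtype.ext
    simp only [Coprime.coe_conjAut, Subgroup.coe_inv, f]
    group
  · simp

theorem frobenius_two {r s : ℕ} (hr : r.Prime) (hs : s.Prime) (hrs : r ≠ s) (hs2 : s ≠ 2)
    (hrG : r ∣ Nat.card G) (hsG : s ∣ Nat.card G) (hord : ∀ g : G, g ^ r = 1 ∨ g ^ s = 1)
    (V : Subgroup G) [V.Normal] [IsMulCommutative V] (hV0 : V ≠ ⊥) (hV : ∀ v ∈ V, v ^ r = 1) :
    ∃ C : Subgroup G, Cfsg.IsFrobeniusComplement C ∧ (Nat.card C).Prime := by
  classical
  haveI := Fact.mk hr; haveI := Fact.mk hs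
  have hcop : Nat.Coprime r s := (Nat.coprime_primes hr hs).2 hrs
  have hno : ∀ a b : G, a * b = b * a → a ^ r = 1 → b ^ s = 1 → a = 1 ∨ b = 1 := fun a b hc ha hb => by
    have e : (a * b) ^ r = b ^ r := by rw [Commute.mul_pow hc, ha, one_mul]
    have e' : (a * b) ^ s = a ^ s := by rw [Commute.mul_pow hc, hb, mul_one]
    have key : ∀ x : G, ∀ u v : ℕ, Nat.Coprime u v → x ^ u = 1 → x ^ v = 1 → x = 1 := fun x u v huv hu hv => by
      rw [← pow_one x, ← huv.gcd_eq_one]
      exact pow_gcd_eq_one.2 ⟨hu, hv⟩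
    rcases hord (a * b) with h | h
    · exact Or.inr (key b r s hcop (e ▸ h) hb)
    · exact Or.inl (key a r s hcop ha (e' ▸ h))
  obtain ⟨S⟩ := (inferInstance : Nonempty (Sylow s G))
  have hS1 : ∀ x ∈ (S : Subgroup G), x ^ s = 1 := fun x hx => by
    refine (hord x).elim (fun h => ?_) id
    obtain ⟨k, hk⟩ := S.isPGroup' ⟨x, hx⟩
    have h' : x ^ s ^ k = 1 := congrArg Subtype.val hk
    have : x = 1 := by
      rw [← pow_one x, ← (hcop.pow_right k).gcd_eq_one]
      exact pow_gcd_eq_one.2 ⟨h, h'⟩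
    rw [this, one_pow]
  have hfpf : Frobenius.FPF (S : Subgroup G) V := fun a ha ha1 k hk e =>
    (hno k a e.symm (hV k hk) (hS1 a ha)).resolve_right ha1
  have hcyc : IsCyclic (S : Subgroup G) := by
    have h1 := Frobenius.smallCyclic_of_fpf hV0 (by rw [Subgroup.normalizer_eq_top]; exact le_top) hfpf
    have h2 := Frobenius.SmallCyclic.isCyclic_of_pgroup_odd h1 hs2 (P := (⊤ : Subgroup (S : Subgroup G)))
      (S.isPGroup'.to_subgroup ⊤)
    exact (Subgroup.topEquiv (G := (S : Subgroup G))).isCyclic.1 h2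
  have hScard : Nat.card (S : Subgroup G) = s := by
    have h1 : Nat.card (S : Subgroup G) ∣ s := by
      rw [← IsCyclic.exponent_eq_card (α := (S : Subgroup G))]
      exact Monoid.exponent_dvd_of_forall_pow_eq_one fun x => Subtype.ext (hS1 x x.2)
    rcases (Nat.dvd_prime hs).1 h1 with h | h
    · exfalso
      have := S.dvd_card_of_dvd_card hsG
      rw [h, Nat.dvd_one] at this
      exact hs.ne_one this
    · exact h
  refine ⟨(S : Subgroup G), ?_, hScard.symm ▸ hs⟩
  have hnorm : Subgroup.normalizer ((S : Subgroup G) : Set G) ≤ (S : Subgroup G) := by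
    intro x hx
    by_contra hxS
    have hxr : x ^ r = 1 := by
      refine (hord x).resolve_right fun h => hxS ?_
      have hp : IsPGroup s (Subgroup.zpowers x) := fun y => ⟨1, by
        obtain ⟨y, k, rfl⟩ := y
        refine Subtype.ext ?_
        show (x ^ k) ^ s ^ 1 = 1
        rw [pow_one, ← zpow_natCast, ← zpow_mul, mul_comm, zpow_mul, zpow_natCast, h, one_zpow]⟩
      exact (S.3 (IsPGroup.to_sup_of_normal_right' hp S.isPGroup' (Subgroup.zpowers_le.2 hx)) le_sup_right).le
        (Subgroup.mem_sup_left (Subgroup.mem_zpowers x))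
    have hx1 : x ≠ 1 := fun h => hxS (h ▸ Subgroup.one_mem _)
    set X := Subgroup.zpowers x with hX
    letI : Fintype X := Fintype.ofFinite X
    have hXV : X ≤ Subgroup.normalizer (V : Set G) := by rw [Subgroup.normalizer_eq_top]; exact le_top
    have hox : orderOf x = r := orderOf_eq_prime hxr hx1
    have hfree : ∀ y ∈ X, y ≠ 1 → (S : Subgroup G) ⊓ Subgroup.centralizer ({y} : Set G) = ⊥ := by
      intro y hy hy1
      rw [eq_bot_iff]
      rintro a ⟨ha, hc⟩
      have hyr : y ^ r = 1 := by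
        have := orderOf_dvd_natCard (⟨y, hy⟩ : X)
        rw [Nat.card_zpowers, hox, ← Subgroup.orderOf_coe] at this
        exact orderOf_dvd_iff_pow_eq_one.1 this
      exact Subgroup.mem_bot.2 ((hno y a (Subgroup.mem_centralizer_singleton_iff.1 hc).symm hyr (hS1 a ha)).resolve_left hy1)
    have hfix : V ⊓ Subgroup.centralizer ((S : Subgroup G) : Set G) = ⊥ := by
      rw [eq_bot_iff]
      rintro v ⟨hv, hc⟩
      obtain ⟨a, ha⟩ := Subgroup.ne_bot_iff_exists_ne_one.1 (fun h : (S : Subgroup G) = ⊥ => by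
        rw [h, Subgroup.card_bot] at hScard; exact hs.ne_one hScard.symm)
      exact Subgroup.mem_bot.2 (hfpf a a.2 (fun h => ha (Subtype.ext h)) v hv
        (Subgroup.mem_centralizer_iff.1 hc a a.2))
    have hprod : ∀ w : V, ∏ y : X, Coprime.conjAut hXV y w = 1 := by
      intro w
      set x' : X := ⟨x, Subgroup.mem_zpowers x⟩
      have hwx : ((w : G) * x) ^ r = 1 := by
        refine (hord _).resolve_right fun h => hx1 ?_
        have hq : ((x : G) : G ⧸ V) ^ s = 1 := by
          have := congrArg (QuotientGroup.mk' V) h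
          rw [map_pow, map_mul, map_one, QuotientGroup.mk'_apply, QuotientGroup.mk'_apply,
            (QuotientGroup.eq_one_iff (w : G)).2 w.2, one_mul] at this
          exact this
        have hxV : x ∈ V := by
          rw [← QuotientGroup.eq_one_iff, ← pow_one (x : G ⧸ V), ← hcop.gcd_eq_one]
          exact pow_gcd_eq_one.2 ⟨by rw [← QuotientGroup.mk_pow, hxr, QuotientGroup.mk_one], hq⟩
        obtain ⟨a, ha⟩ := Subgroup.ne_bot_iff_exists_ne_one.1 (fun h : (S : Subgroup G) = ⊥ => by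
          rw [h, Subgroup.card_bot] at hScard; exact hs.ne_one hScard.symm)
        by_contra hxne
        have h1 : x * (a : G) * x⁻¹ * (a : G)⁻¹ ∈ (S : Subgroup G) ⊓ V :=
          ⟨Subgroup.mul_mem _ ((Subgroup.mem_normalizer_iff.1 hx _).1 a.2) (Subgroup.inv_mem _ a.2), by
            rw [mul_assoc x, mul_assoc x]
            exact V.mul_mem hxV (Subgroup.Normal.conj_mem inferInstance _ (V.inv_mem hxV) _)⟩
        have h2 : (S : Subgroup G) ⊓ V = ⊥ := inf_comm (a := V) (b := (S : Subgroup G)) ▸ hfpf.inf_eq_bot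
        rw [h2, Subgroup.mem_bot, mul_inv_eq_one, mul_inv_eq_iff_eq_mul] at h1
        exact hxne (hfpf a a.2 (fun h => ha (Subtype.ext h)) x hxV h1.symm)
      have hk : ∀ k : ℕ, ((w : G) * x) ^ k =
          ((∏ i ∈ Finset.range k, Coprime.conjAut hXV (x' ^ i) w : V) : G) * x ^ k := by
        intro k
        induction k with
        | zero => simp
        | succ k ih =>
          rw [pow_succ, ih, Finset.prod_range_succ, Subgroup.coe_mul, Coprime.coe_conjAut, pow_succ]
          simp [x', mul_assoc]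
      have h1 := hk r
      rw [hwx, hxr, mul_one] at h1
      have h2 : ∏ i ∈ Finset.range r, Coprime.conjAut hXV (x' ^ i) w = 1 := Subtype.ext h1.symm
      rw [← h2]
      have hox' : orderOf x' = r := by rw [← hox]; exact (Subgroup.orderOf_coe x').symm
      refine (Finset.prod_bij (fun i _ => x' ^ i) (fun _ _ => Finset.mem_univ _) ?_ ?_ (fun _ _ => rfl)).symm
      · intro i hi j hj e
        exact pow_injOn_Iio_orderOf (by simpa [hox'] using hi) (by simpa [hox'] using hj) e
      · intro y _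
        have hy' : y ∈ Submonoid.powers x' := by
          rw [mem_powers_iff_mem_zpowers]
          obtain ⟨y, k, rfl⟩ := y
          exact ⟨k, Subtype.ext (by simp [x'])⟩
        obtain ⟨i, hi⟩ := hy'
        refine ⟨i % r, Finset.mem_range.2 (Nat.mod_lt _ hr.pos), ?_⟩
        show x' ^ (i % r) = y
        rw [← hox', pow_mod_orderOf]
        exact hi
    obtain ⟨v, hv⟩ := Subgroup.ne_bot_iff_exists_ne_one.1 hV0
    have h4 := pow_card_eq_one_of_prod (Q := (S : Subgroup G)) (Subgroup.zpowers_le.2 hx)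
      (by rw [Subgroup.normalizer_eq_top]; exact le_top) hXV hfree hfix hprod v
    rw [hScard] at h4
    refine hv ?_
    rw [← pow_one v, ← hcop.gcd_eq_one]
    exact pow_gcd_eq_one.2 ⟨Subtype.ext (hV v v.2), h4⟩
  have hS0 : (S : Subgroup G) ≠ ⊥ := fun h => by
    rw [h, Subgroup.card_bot] at hScard; exact hs.ne_one hScard.symm
  refine ⟨hS0, fun h => hV0 ?_, fun g hg => ?_⟩
  · have h1 := hfpf.inf_eq_bot
    rwa [h, inf_top_eq] at h1
  · rw [eq_bot_iff]
    rintro y ⟨hy, hy'⟩
    rw [Subgroup.mem_bot]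
    by_contra hy1
    refine hg (hnorm ?_)
    have hgen : ∀ (K : Subgroup G), Nat.card K = s → ∀ z ∈ K, z ≠ 1 → Subgroup.zpowers z = K := by
      intro K hK z hz hz1
      refine Subgroup.eq_of_le_of_card_ge (Subgroup.zpowers_le.2 hz) ?_
      have h1 : orderOf z ∣ s := by
        rw [← hK]
        exact Subgroup.orderOf_coe (⟨z, hz⟩ : K) ▸ orderOf_dvd_natCard _
      rw [Nat.card_zpowers, hK, ((Nat.dvd_prime hs).1 h1).resolve_left fun e => hz1 (orderOf_eq_one_iff.1 e)]
    have e1 := hgen _ hScard y hy hy1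
    have e2 := hgen (MulAut.conj g • (S : Subgroup G)) ((Solvable.card_conj g _).trans hScard) y hy' hy1
    have e3 : MulAut.conj g • (S : Subgroup G) = (S : Subgroup G) := e2.symm.trans e1
    exact Solvable.mem_normalizer_iff_conj.2 e3

/-- Let G be a finite group of odd order in which the numbers of elements of each order that occurs (the numbers #{g : o(g) = m}, m ranging over the element orders of G) take exactly three different values. Then the order of G has at most two prime divisors; and if it has exactly two, then every Sylow subgroup of G for a prime dividing its order has prime exponent, G is a Frobenius group, and some Frobenius complement of G has prime order. -/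
theorem result {G : Type*} [Group G] [Finite G] (hodd : Odd (Nat.card G)) (h : (((fun m : ℕ => Nat.card {g : G // orderOf g = m}) '' Set.range (orderOf : G → ℕ))).ncard = 3) :
    (Nat.card G).primeFactors.card ≤ 2 ∧
      ((Nat.card G).primeFactors.card = 2 →
        (∀ (p : ℕ) [Fact p.Prime] (P : Sylow p G), p ∣ Nat.card G → Monoid.exponent ↥(P : Subgroup G) = p) ∧
        ∃ C : Subgroup G, Cfsg.IsFrobeniusComplement C ∧ (Nat.card ↥C).Prime) := by
  classical
  have hne2 : ∀ l, l.Prime → l ∣ Nat.card G → l ≠ 2 := fun l _ hlG e =>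
    (Nat.not_even_iff_odd.2 hodd) (even_iff_two_dvd.2 (e ▸ hlG))
  set img := ((fun m : ℕ => Nat.card {g : G // orderOf g = m}) '' Set.range (orderOf : G → ℕ))
  have h1mem : 1 ∈ img := ⟨1, ⟨1, orderOf_one⟩, numOrder_one⟩
  have himg : ∀ d, numOrder G d ≠ 0 → numOrder G d ∈ img := fun d hd => by
    obtain ⟨g, hg⟩ := numOrder_ne_zero_iff.1 hd
    exact ⟨d, ⟨g, hg⟩, rfl⟩
  have hne1 : ∀ d, d ≠ 1 → numOrder G d ≠ 0 → numOrder G d ≠ 1 := fun d hd h0 e => by
    obtain ⟨g, hg⟩ := numOrder_ne_zero_iff.1 h0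
    have h1 := totient_dvd (G := G) d
    rw [e, Nat.dvd_one, Nat.totient_eq_one_iff] at h1
    rcases h1 with rfl | rfl
    · exact hd rfl
    · exact hne2 2 Nat.prime_two (hg ▸ orderOf_dvd_natCard g) rfl
  obtain ⟨a, b, hab, hval⟩ : ∃ a b, a ≠ b ∧
      ∀ d, d ≠ 1 → numOrder G d ≠ 0 → numOrder G d = a ∨ numOrder G d = b := by
    have hfin : img.Finite := Set.finite_of_ncard_ne_zero (by omega)
    have h2 : (img \ {1}).ncard = 2 := by rw [Set.ncard_diff_singleton_of_mem h1mem]; omega
    obtain ⟨a, b, hab, hset⟩ := Set.ncard_eq_two.1 h2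
    refine ⟨a, b, hab, fun d hd h0 => ?_⟩
    have : numOrder G d ∈ img \ {1} := ⟨himg d h0, hne1 d hd h0⟩
    rwa [hset] at this
  have hvalp : ∀ l, l.Prime → l ∣ Nat.card G → numOrder G l = a ∨ numOrder G l = b := fun l hl hlG =>
    hval l hl.ne_one (numOrder_prime_ne_zero hl hlG)
  have hmem : ∀ l, l ∈ (Nat.card G).primeFactors → l.Prime ∧ l ∣ Nat.card G := fun l hl =>
    ⟨(Nat.mem_primeFactors.1 hl).1, (Nat.mem_primeFactors.1 hl).2.1⟩
  have hdiff : ∀ p q, p ∈ (Nat.card G).primeFactors → q ∈ (Nat.card G).primeFactors → p ≠ q →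
      ∃ l ∈ (Nat.card G).primeFactors, ∃ l' ∈ (Nat.card G).primeFactors, numOrder G l ≠ numOrder G l' := by
    intro p q hp hq hpq
    by_contra hcon
    push Not at hcon
    have hall : ∀ l, l.Prime → l ∣ Nat.card G → numOrder G l = numOrder G p := fun l hl hlG =>
      hcon l (Nat.mem_primeFactors.2 ⟨hl, hlG, Nat.card_pos.ne'⟩) p hp
    rcases hvalp p (hmem p hp).1 (hmem p hp).2 with e | e
    · exact not_all_same hodd (n := a) (m := b) hval (fun l hl hlG => (hall l hl hlG).trans e)
        (hmem p hp).1 (hmem q hq).1 hpq (hmem p hp).2 (hmem q hq).2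
    · exact not_all_same hodd (n := b) (m := a) (fun d hd h0 => (hval d hd h0).symm)
        (fun l hl hlG => (hall l hl hlG).trans e) (hmem p hp).1 (hmem q hq).1 hpq (hmem p hp).2 (hmem q hq).2
  have hcard : (Nat.card G).primeFactors.card ≤ 2 := by
    by_contra hcon
    push Not at hcon
    obtain ⟨x, y, z, hx, hy, hz, hxy, hxz, hyz⟩ := Finset.two_lt_card_iff.1 hcon
    obtain ⟨l, hl, l', hl', hll⟩ := hdiff x y hx hy hxy
    obtain ⟨w, hw, hwl, hwl'⟩ : ∃ w ∈ (Nat.card G).primeFactors, w ≠ l ∧ w ≠ l' := by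
      by_cases h1 : x ≠ l ∧ x ≠ l'
      · exact ⟨x, hx, h1⟩
      by_cases h2 : y ≠ l ∧ y ≠ l'
      · exact ⟨y, hy, h2⟩
      refine ⟨z, hz, ?_, ?_⟩ <;> rintro rfl <;> push Not at h1 h2
      · exact hxy ((h1 hxz).trans (h2 hyz).symm)
      · rcases Classical.em (x = l) with e | e
        · subst e; exact hyz (h2 (Ne.symm hxy))
        · exact hxz (h1 e)
    have hll' : l ≠ l' := fun e => hll (by rw [e])
    have key : ∀ l l', l ∈ (Nat.card G).primeFactors → l' ∈ (Nat.card G).primeFactors → l ≠ l' → w ≠ l → w ≠ l' →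
        numOrder G w = numOrder G l → numOrder G l ≠ numOrder G l' → False := by
      intro l l' hl hl' hne hwl hwl' he hd
      obtain ⟨pl, dl⟩ := hmem l hl
      obtain ⟨pl', dl'⟩ := hmem l' hl'
      obtain ⟨pw, dw⟩ := hmem w hw
      refine three_false pw pl pl' hwl hwl' hne (hne2 w pw dw) (hne2 l pl dl) (hne2 l' pl' dl') dw dl dl'
        (n := numOrder G l) (m := numOrder G l') (fun d hd' h0 => ?_) he rfl rfl
      have := hval d hd' h0
      have := hvalp l pl dl
      have := hvalp l' pl' dl'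
      omega
    have h1 := hvalp w (hmem w hw).1 (hmem w hw).2
    have h2 := hvalp l (hmem l hl).1 (hmem l hl).2
    have h3 := hvalp l' (hmem l' hl').1 (hmem l' hl').2
    rcases (show numOrder G w = numOrder G l ∨ numOrder G w = numOrder G l' by omega) with e | e
    · exact key l l' hl hl' hll' hwl hwl' e hll
    · exact key l' l hl' hl hll'.symm hwl' hwl e (Ne.symm hll)
  refine ⟨hcard, fun h2 => ?_⟩
  obtain ⟨p, q, hpq, hset⟩ := Finset.card_eq_two.1 h2
  obtain ⟨hp, hpG⟩ := hmem p (by rw [hset]; simp)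
  obtain ⟨hq, hqG⟩ := hmem q (by rw [hset]; simp)
  have hprimes : ∀ l, l.Prime → l ∣ Nat.card G → l = p ∨ l = q := fun l hl hlG => by
    have : l ∈ (Nat.card G).primeFactors := Nat.mem_primeFactors.2 ⟨hl, hlG, Nat.card_pos.ne'⟩
    rw [hset] at this
    simpa using this
  obtain ⟨l, hl, l', hl', hll⟩ := hdiff p q (by rw [hset]; simp) (by rw [hset]; simp) hpq
  have hpqne : numOrder G p ≠ numOrder G q := by
    rw [hset] at hl hl'
    simp only [Finset.mem_insert, Finset.mem_singleton] at hl hl'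
    rcases hl with rfl | rfl <;> rcases hl' with rfl | rfl <;> first | exact absurd rfl hll | exact hll | exact Ne.symm hll
  have hval' : ∀ d, d ≠ 1 → numOrder G d ≠ 0 → numOrder G d = numOrder G p ∨ numOrder G d = numOrder G q := by
    intro d hd h0
    have := hval d hd h0
    have := hvalp p hp hpG
    have := hvalp q hq hqG
    omega
  have hmix : numOrder G (p * q) = 0 := by
    by_contra h0
    rcases hval' _ (by have := hp.two_le; have := hq.two_le; nlinarith) h0 with e | e
    · exact no_mixed hp hq hpq (hne2 q hq hqG) hpG hqG e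
    · exact no_mixed hq hp hpq.symm (hne2 p hp hpG) hqG hpG (by rwa [mul_comm])
  have sp := no_sq hp hq hpq hpG hqG hval' hmix
  have sq := no_sq hq hp hpq.symm hqG hpG (fun d hd h0 => (hval' d hd h0).symm) (by rwa [mul_comm])
  have hord : ∀ g : G, g ^ p = 1 ∨ g ^ q = 1 := by
    intro g
    have hpqd : ¬ p * q ∣ orderOf g := fun hd =>
      numOrder_ne_zero_iff.2 ⟨g ^ (orderOf g / (p * q)), orderOf_pow_orderOf_div (orderOf_pos g).ne' hd⟩ hmix
    have key : ∀ p q : ℕ, p.Prime → (∀ l, l.Prime → l ∣ Nat.card G → l = p ∨ l = q) →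
        (∀ g : G, ¬ p ^ 2 ∣ orderOf g) → ¬ q ∣ orderOf g → g ^ p = 1 := by
      intro p q hp hpr hsq hnq
      refine orderOf_dvd_iff_pow_eq_one.1 ((Nat.dvd_iff_prime_pow_dvd_dvd _ _).2 fun l k hl hlk => ?_)
      rcases Nat.eq_zero_or_pos k with rfl | hk
      · simp
      have hld : l ∣ orderOf g := (dvd_pow_self l hk.ne').trans hlk
      rcases hpr l hl (hld.trans (orderOf_dvd_natCard g)) with rfl | rfl
      · rcases Nat.lt_or_ge k 2 with h | h
        · exact (pow_dvd_pow l (by omega : k ≤ 1)).trans (pow_one l).dvd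
        · exact absurd ((pow_dvd_pow l h).trans hlk) (hsq g)
      · exact absurd hld hnq
    by_cases hqd : q ∣ orderOf g
    · exact Or.inr (key q p hq (fun l hl hlG => (hprimes l hl hlG).symm) sq
        fun hpd => hpqd (((Nat.coprime_primes hp hq).2 hpq).mul_dvd_of_dvd_of_dvd hpd hqd))
    · exact Or.inl (key p q hp hprimes sp hqd)
  refine ⟨fun l _ P hlG => ?_, ?_⟩
  · have hl : l.Prime := Fact.out
    have hexp : Monoid.exponent ↥(P : Subgroup G) ∣ l := by
      refine Monoid.exponent_dvd_of_forall_pow_eq_one fun x => ?_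
      obtain ⟨k, hk⟩ := P.isPGroup' x
      obtain ⟨i, -, hi⟩ := (Nat.dvd_prime_pow hl).1 (orderOf_dvd_of_pow_eq_one hk)
      refine orderOf_dvd_iff_pow_eq_one.1 ?_
      rw [hi]
      rcases Nat.lt_or_ge i 2 with h | h
      · exact (pow_dvd_pow l (by omega : i ≤ 1)).trans (pow_one l).dvd
      · exfalso
        have hd : l ^ 2 ∣ orderOf (x : G) := by rw [Subgroup.orderOf_coe, hi]; exact pow_dvd_pow l h
        rcases hprimes l hl hlG with rfl | rfl
        · exact sp _ hd
        · exact sq _ hd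
    rcases (Nat.dvd_prime hl).1 hexp with h | h
    · exfalso
      obtain ⟨y, hy⟩ := exists_prime_orderOf_dvd_card' l (P.dvd_card_of_dvd_card hlG)
      have := hy ▸ Monoid.order_dvd_exponent y
      rw [h, Nat.dvd_one] at this
      exact hl.ne_one this
    · exact h
  · have hfac : Nat.card G = p ^ (Nat.card G).factorization p * q ^ (Nat.card G).factorization q := by
      conv_lhs => rw [← Nat.prod_factorization_pow_eq_self (n := Nat.card G) Nat.card_pos.ne']
      rw [Nat.prod_factorization_eq_prod_primeFactors, hset, Finset.prod_pair hpq]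
    haveI : Group.IsSolvable G := Cfsg.Agent.CharApp.isSolvable_of_card_eq_prime_pow_mul p q hp hq _ G rfl _ _ hfac
    haveI : Nontrivial G := Finite.one_lt_card_iff_nontrivial.1 (lt_of_lt_of_le hp.one_lt (Nat.le_of_dvd Nat.card_pos hpG))
    obtain ⟨r, hr, V, hVn, hV0, -, hVc, -, hVe, -⟩ :=
      Cfsg.Agent.Solvable.exists_minimal_normal_pGroup (N := (⊤ : Subgroup G)) top_ne_bot
    obtain ⟨v, hv⟩ := Subgroup.ne_bot_iff_exists_ne_one.1 hV0
    haveI := Fact.mk hr
    have hov : orderOf (v : G) = r := orderOf_eq_prime (hVe v v.2) fun e => hv (Subtype.ext e)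
    rcases hprimes r hr (hov ▸ orderOf_dvd_natCard (v : G)) with rfl | rfl
    · exact frobenius_two hp hq hpq (hne2 q hq hqG) hpG hqG hord V hV0 hVe
    · exact frobenius_two hq hp hpq.symm (hne2 p hp hpG) hqG hpG (fun g => (hord g).symm) V hV0 hVe

end Cfsg.Agent.S4004
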