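import Cfsg.Statements.S3996
import Cfsg.Agent.EqLemmas
import Cfsg.Agent.S4004
import Cfsg.Agent.Lib.SameOrder.Basic
import Cfsg.Agent.Lib.Involution.IndexTwo
import Cfsg.Agent.Lib.Solvable.Converse

set_option autoImplicit false
open Cfsg

namespace Cfsg.Agent.S3996

open Cfsg.Agent.SameOrder Cfsg.Agent.S4004

variable {G : Type*} [Group G] [Finite G]

theorem one_ne_neg_one {p : ℕ} (hp : p.Prime) (hp2 : p ≠ 2) : (1 : ZMod p) ≠ -1 := fun e => by
  haveI := Fact.mk hp
  have e2 : ((2 : ℕ) : ZMod p) = 0 := by push_cast; linear_combination e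
  exact hp2 ((Nat.prime_dvd_prime_iff_eq hp Nat.prime_two).1 ((ZMod.natCast_eq_zero_iff 2 p).1 e2))

/-- If `q` does not divide the number of elements of order `d`, each element of order `q` commutes with one. -/
theorem count {d q : ℕ} (hq : q.Prime) (hqd : d.Coprime q) (hnd : ¬ q ∣ numOrder G d) :
    Nat.totient d * numOrder G q ≤ numOrder G (d * q) := by
  classical
  haveI := Fact.mk hq
  have hw : ∀ x : {g : G // orderOf g = q}, ∃ y : G, orderOf y = d ∧ Commute x.1 y := by
    rintro ⟨x, hx⟩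
    have hP : IsPGroup q (Subgroup.zpowers x) := IsPGroup.of_card (n := 1) (by rw [Nat.card_zpowers, hx, pow_one])
    letI : MulAction (Subgroup.zpowers x) {g : G // orderOf g = d} :=
      { smul := fun a g => ⟨(a : G) * g.1 * (a : G)⁻¹,
          by rw [← MulAut.conj_apply, MulEquiv.orderOf_eq, g.2]⟩
        one_smul := fun g => Subtype.ext (by show ((1 : Subgroup.zpowers x) : G) * g.1 * _ = g.1; simp)
        mul_smul := fun a b g => Subtype.ext (by
          show ((a * b : Subgroup.zpowers x) : G) * g.1 * _ = (a : G) * ((b : G) * g.1 * (b : G)⁻¹) * (a : G)⁻¹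
          simp [mul_assoc]) }
    obtain ⟨⟨y, hy⟩, hfix⟩ := hP.nonempty_fixed_point_of_prime_not_dvd_card {g : G // orderOf g = d} hnd
    refine ⟨y, hy, ?_⟩
    have e : x * y * x⁻¹ = y := congrArg Subtype.val (hfix ⟨x, Subgroup.mem_zpowers x⟩)
    exact mul_inv_eq_iff_eq_mul.1 e
  choose w hwo hwc using hw
  let f : {g : G // orderOf g = q} × {k // k ∈ (Finset.range d).filter (d.Coprime ·)} →
      {g : G // orderOf g = d * q} := fun x => ⟨x.1.1 * w x.1 ^ x.2.1, by
    have hk := (Finset.mem_filter.1 x.2.2).2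
    have e : orderOf (w x.1 ^ x.2.1) = d := by
      rw [Nat.Coprime.orderOf_pow (by rw [hwo]; exact hk), hwo]
    rw [((hwc x.1).pow_right _).orderOf_mul_eq_mul_orderOf_of_coprime (by rw [x.1.2, e]; exact hqd.symm),
      x.1.2, e, mul_comm]⟩
  have hf : Function.Injective f := by
    rintro ⟨x, i⟩ ⟨y, j⟩ hxy
    have h' : x.1 * w x ^ i.1 = y.1 * w y ^ j.1 := congrArg Subtype.val hxy
    have e1 : ∀ (x : {g : G // orderOf g = q}) (k : ℕ), (x.1 * w x ^ k) ^ d = x.1 ^ d := fun x k => by
      have : (w x ^ k) ^ d = 1 := by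
        rw [← pow_mul, mul_comm, pow_mul]
        conv_lhs => rw [← hwo x, pow_orderOf_eq_one, one_pow]
      rw [((hwc x).pow_right k).mul_pow, this, mul_one]
    have e2 : x.1 ^ d = y.1 ^ d := by rw [← e1 x, h', e1]
    obtain ⟨c, -, hc⟩ := Nat.exists_mul_mod_eq_one_of_coprime hqd hq.one_lt
    have back : ∀ z : {g : G // orderOf g = q}, (z.1 ^ d) ^ c = z.1 := fun z => by
      rw [← pow_mul, ← pow_mod_orderOf, z.2, hc, pow_one]
    obtain rfl : x = y := Subtype.ext (by rw [← back x, e2, back y])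
    have e3 := mul_left_cancel h'
    have hi := Finset.mem_range.1 (Finset.mem_filter.1 i.2).1
    have hj := Finset.mem_range.1 (Finset.mem_filter.1 j.2).1
    obtain rfl : i = j := Subtype.ext (pow_injOn_Iio_orderOf (by simpa [hwo] using hi) (by simpa [hwo] using hj) e3)
    rfl
  have h := Nat.card_le_card_of_injective f hf
  rw [Nat.card_prod, Nat.card_eq_finsetCard, mul_comm] at h
  exact h

theorem pair_of_eq {p q a b : ℕ} (hp : p.Prime) (hq : q.Prime) (hpq : p ≠ q) (hp2 : p ≠ 2) (hq2 : q ≠ 2)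
    (hpG : p ∣ Nat.card G) (hqG : q ∣ Nat.card G)
    (hval : ∀ d, 2 < d → numOrder G d ≠ 0 → numOrder G d = a ∨ numOrder G d = b)
    (h1 : numOrder G p = a) (h2 : numOrder G q = a) :
    (a : ZMod p) = -1 ∧ numOrder G (p * q) = b ∧ (b : ZMod p) = 1 ∧ a ≠ b := by
  obtain ⟨e1, e2, e3, e4⟩ := pair_same hp hq hpq hp2 hpG hqG (h2.trans h1.symm)
  rw [h1] at e2 e4
  have h : numOrder G (p * q) = b := (hval _ (by have := hp.two_le; have := hq.two_le; nlinarith) e1).resolve_left e2
  rw [h] at e2 e3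
  exact ⟨e4, h, e3, Ne.symm e2⟩

theorem pair_of_ne {p q a b : ℕ} (hp : p.Prime) (hq : q.Prime) (hpq : p ≠ q) (hp2 : p ≠ 2) (hq2 : q ≠ 2)
    (hpG : p ∣ Nat.card G) (hqG : q ∣ Nat.card G)
    (hval : ∀ d, 2 < d → numOrder G d ≠ 0 → numOrder G d = a ∨ numOrder G d = b)
    (h1 : numOrder G p = a) (h2 : numOrder G q = b) : (a : ZMod p) = -1 ∧ (b : ZMod p) = 0 := by
  haveI := Fact.mk hp
  haveI := Fact.mk hq
  have ha : (a : ZMod p) = -1 := by
    have := cast_dvd (dvd_prime hp hpG)
    rw [h1] at this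
    push_cast at this
    linear_combination this
  refine ⟨ha, ?_⟩
  have h0 : numOrder G (p * q) = 0 := by
    by_contra h0
    rcases hval _ (by have := hp.two_le; have := hq.two_le; nlinarith) h0 with e | e
    · exact no_mixed hp hq hpq hq2 hpG hqG (e.trans h1.symm)
    · exact no_mixed hq hp hpq.symm hp2 hqG hpG (by rw [mul_comm, e, h2])
  have e := cast_dvd ((dvd_mul_right p q).trans (dvd_two_primes hp hq hpq hpG hqG))
  rw [h1, h2, h0] at e
  push_cast at e
  linear_combination e - ha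

theorem three_odd {p q r a b : ℕ} (hp : p.Prime) (hq : q.Prime) (hr : r.Prime) (hpq : p ≠ q) (hpr : p ≠ r)
    (hqr : q ≠ r) (hp2 : p ≠ 2) (hq2 : q ≠ 2) (hr2 : r ≠ 2) (hpG : p ∣ Nat.card G) (hqG : q ∣ Nat.card G)
    (hrG : r ∣ Nat.card G) (hval : ∀ d, 2 < d → numOrder G d ≠ 0 → numOrder G d = a ∨ numOrder G d = b)
    (h1 : numOrder G p = a) (h2 : numOrder G q = a) : False := by
  haveI := Fact.mk hp
  haveI := Fact.mk hq
  haveI := Fact.mk hr
  obtain ⟨ap, hm, bp, -⟩ := pair_of_eq hp hq hpq hp2 hq2 hpG hqG hval h1 h2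
  rcases hval r (lt_of_le_of_ne hr.two_le (Ne.symm hr2)) (numOrder_prime_ne_zero hr hrG) with h3 | h3
  · obtain ⟨-, hpr', -, -⟩ := pair_of_eq hp hr hpr hp2 hr2 hpG hrG hval h1 h3
    obtain ⟨-, hqr', -, -⟩ := pair_of_eq hq hr hqr hq2 hr2 hqG hrG hval h2 h3
    obtain ⟨ar, hrp, br, -⟩ := pair_of_eq hr hp hpr.symm hr2 hp2 hrG hpG hval h3 h1
    have hdG : p * q * r ∣ Nat.card G :=
      (Nat.Coprime.mul_left ((Nat.coprime_primes hp hr).2 hpr) ((Nat.coprime_primes hq hr).2 hqr)).mul_dvd_of_dvd_of_dvd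
        (((Nat.coprime_primes hp hq).2 hpq).mul_dvd_of_dvd_of_dvd hpG hqG) hrG
    have hs := dvd_sum_numOrder (G := G) hdG
    rw [sum_three_primes _ hp hq hr hpq hpr hqr, numOrder_one, h1, h2, hm, h3, hpr', hqr'] at hs
    have ep := cast_dvd (((dvd_mul_right p q).trans (dvd_mul_right _ r)).trans hs)
    push_cast at ep
    have eN : (numOrder G (p * q * r) : ZMod p) = -1 := by linear_combination ep - 3 * ap - 3 * bp
    have h0 : numOrder G (p * q * r) ≠ 0 := fun h => by
      rw [h, Nat.cast_zero] at eN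
      exact one_ne_zero (neg_eq_zero.1 eN.symm)
    have h2lt : 2 < p * q * r := by
      have := hp.two_le; have := hq.two_le; have := hr.two_le
      calc 2 < 2 * 2 * 2 := by norm_num
        _ ≤ p * q * r := by gcongr
    have hN : numOrder G (p * q * r) = a := (hval _ h2lt h0).resolve_right fun h => by
      rw [h, bp] at eN
      exact one_ne_neg_one hp hp2 eN
    have hc := count (G := G) (d := p * q) hr
      (Nat.Coprime.mul_left ((Nat.coprime_primes hp hr).2 hpr) ((Nat.coprime_primes hq hr).2 hqr))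
      (fun hd => one_ne_zero (α := ZMod r) (by rw [← br]; rw [hm] at hd; exact cast_dvd hd))
    rw [hN, h3] at hc
    have h4 : 2 < p * q := by have := hp.two_le; have := hq.two_le; nlinarith
    have h5 : 2 ≤ Nat.totient (p * q) := Nat.le_of_dvd (Nat.totient_pos.2 (by omega))
      (even_iff_two_dvd.1 (Nat.totient_even h4))
    have h6 : 0 < a := Nat.pos_of_ne_zero fun h => numOrder_prime_ne_zero (G := G) hp hpG (h1.trans h)
    nlinarith
  · obtain ⟨-, b0⟩ := pair_of_ne hp hr hpr hp2 hr2 hpG hrG hval h1 h3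
    rw [b0] at bp
    exact zero_ne_one bp

theorem sum_four_mul {M : Type*} [AddCommMonoid M] (f : ℕ → M) {p : ℕ} (hp : p.Prime) (hp2 : p ≠ 2) :
    ∑ d ∈ (4 * p).divisors, f d = f 1 + f 2 + f 4 + (f p + f (2 * p) + f (4 * p)) := by
  have h : ¬ p ∣ 4 := fun hd => hp2 ((Nat.prime_dvd_prime_iff_eq hp Nat.prime_two).1
    (hp.dvd_of_dvd_pow (show p ∣ 2 ^ 2 from hd)))
  rw [sum_divisors_mul_prime f (by norm_num) hp h, show (4 : ℕ).divisors = {1, 2, 4} by decide]
  simp [add_assoc]

theorem no_four {p q a b : ℕ} (hp : p.Prime) (hq : q.Prime) (hpq : p ≠ q) (hp2 : p ≠ 2) (hq2 : q ≠ 2)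
    (hpG : p ∣ Nat.card G) (hqG : q ∣ Nat.card G) (h4G : 4 ∣ Nat.card G) (hN2 : numOrder G 2 = 1)
    (hval : ∀ d, 2 < d → numOrder G d ≠ 0 → numOrder G d = a ∨ numOrder G d = b)
    (h1 : numOrder G p = a) : False := by
  classical
  haveI := Fact.mk hp
  haveI := Fact.mk hq
  have hcp : ∀ r : ℕ, r.Prime → r ≠ 2 → Nat.Coprime 4 r := fun r hr hr2 =>
    (show Nat.Coprime (2 ^ 2) r from ((Nat.coprime_primes Nat.prime_two hr).2 (Ne.symm hr2)).pow_left 2)
  have hN4 : numOrder G 4 ≠ 0 := fun h => by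
    have h' := dvd_prime_sq (G := G) Nat.prime_two (by norm_num; exact h4G)
    norm_num at h'
    rw [hN2, h] at h'
    norm_num at h'
  -- congruences at one odd prime
  have hone : ∀ (r : ℕ), r.Prime → r ≠ 2 → r ∣ Nat.card G →
      (numOrder G r : ZMod r) = -1 ∧ (numOrder G (2 * r) : ZMod r) = -1 ∧
      (numOrder G 4 : ZMod r) + (numOrder G (4 * r) : ZMod r) = 0 := by
    intro r hr hr2 hrG
    haveI := Fact.mk hr
    have e1 : (numOrder G r : ZMod r) = -1 := by
      have := cast_dvd (dvd_prime hr hrG)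
      push_cast at this
      linear_combination this
    have e2 : (numOrder G (2 * r) : ZMod r) = -1 := by
      have := cast_dvd ((dvd_mul_left r 2).trans (dvd_two_primes Nat.prime_two hr (Ne.symm hr2)
        ((show 2 ∣ 4 by norm_num).trans h4G) hrG))
      rw [hN2] at this
      push_cast at this
      linear_combination this - e1
    refine ⟨e1, e2, ?_⟩
    have := cast_dvd ((dvd_mul_left r 4).trans (dvd_sum_numOrder (G := G) ((hcp r hr hr2).mul_dvd_of_dvd_of_dvd h4G hrG)))
    rw [sum_four_mul _ hr hr2, numOrder_one, hN2] at this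
    push_cast at this
    linear_combination this - e1 - e2
  obtain ⟨e1, e2, e4⟩ := hone p hp hp2 hpG
  rw [h1] at e1
  rcases hval q (lt_of_le_of_ne hq.two_le (Ne.symm hq2)) (numOrder_prime_ne_zero hq hqG) with h2 | h2
  · -- equal counts
    obtain ⟨-, hm, bp, -⟩ := pair_of_eq hp hq hpq hp2 hq2 hpG hqG hval h1 h2
    obtain ⟨-, -, bq, -⟩ := pair_of_eq hq hp hpq.symm hq2 hp2 hqG hpG hval h2 h1
    obtain ⟨f1, f2, f4⟩ := hone q hq hq2 hqG
    rw [h2] at f1
    have ha0 : 0 < a := Nat.pos_of_ne_zero fun h => numOrder_prime_ne_zero (G := G) hp hpG (h1.trans h)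
    rcases hval 4 (by norm_num) hN4 with h | h
    · rw [h] at e4 f4
      have g4 : numOrder G (4 * p) = b := by
        have e : (numOrder G (4 * p) : ZMod p) = 1 := by linear_combination e4 - e1
        have h0 : numOrder G (4 * p) ≠ 0 := fun h => by rw [h, Nat.cast_zero] at e; exact zero_ne_one e
        refine (hval _ (by have := hp.two_le; omega) h0).resolve_left fun h => ?_
        rw [h, e1] at e
        exact one_ne_neg_one hp hp2 e.symm
      have g4q : numOrder G (4 * q) = b := by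
        have e : (numOrder G (4 * q) : ZMod q) = 1 := by linear_combination f4 - f1
        have h0 : numOrder G (4 * q) ≠ 0 := fun h => by rw [h, Nat.cast_zero] at e; exact zero_ne_one e
        refine (hval _ (by have := hq.two_le; omega) h0).resolve_left fun h => ?_
        rw [h, f1] at e
        exact one_ne_neg_one hq hq2 e.symm
      have hc4 : ¬ q ∣ 4 * p := fun hd => (hq.dvd_mul.1 hd).elim
        (fun h => (hq.coprime_iff_not_dvd.1 (hcp q hq hq2).symm) h)
        (fun h => hpq ((Nat.prime_dvd_prime_iff_eq hq hp).1 h).symm)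
      have hdG : 4 * p * q ∣ Nat.card G := ((hcp q hq hq2).mul_left ((Nat.coprime_primes hp hq).2 hpq)).mul_dvd_of_dvd_of_dvd
        ((hcp p hp hp2).mul_dvd_of_dvd_of_dvd h4G hpG) hqG
      have hs := cast_dvd (((dvd_mul_left p 4).trans (dvd_mul_right _ q)).trans (dvd_sum_numOrder (G := G) hdG))
      rw [sum_divisors_mul_prime _ (by have := hp.ne_zero; omega) hq hc4, sum_four_mul _ hp hp2,
        sum_four_mul (fun d => numOrder G (d * q)) hp hp2] at hs
      simp only [one_mul] at hs
      rw [numOrder_one, hN2, h, h1, g4, h2, g4q, hm] at hs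
      push_cast at hs
      have hs2 : p ∣ 1 + numOrder G 2 + numOrder G p + numOrder G (2 * p) + numOrder G q + numOrder G (2 * q) +
          numOrder G (p * q) + numOrder G (2 * p * q) := by
        have h2c : ¬ q ∣ 2 * p := fun hd => hc4 (hd.trans ⟨2, by ring⟩)
        have := dvd_sum_numOrder (G := G) (m := 2 * p * q) ((mul_dvd_mul_right (mul_dvd_mul_right (by norm_num : 2 ∣ 4) p) q).trans hdG)
        have h2p : ¬ p ∣ 2 := fun hd => hp2 ((Nat.prime_dvd_prime_iff_eq hp Nat.prime_two).1 hd)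
        rw [sum_divisors_mul_prime _ (by have := hp.ne_zero; omega) hq h2c,
          sum_divisors_mul_prime _ two_ne_zero hp h2p, sum_divisors_mul_prime (fun d => numOrder G (d * q)) two_ne_zero hp h2p,
          Nat.prime_two.divisors, Finset.sum_pair (by norm_num), Finset.sum_pair (by norm_num),
          Finset.sum_pair (by norm_num), Finset.sum_pair (by norm_num)] at this
        simp only [one_mul, numOrder_one] at this
        refine ((dvd_mul_left p 2).trans (dvd_mul_right _ q)).trans (this.trans (dvd_of_eq ?_))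
        ring
      have es := cast_dvd hs2
      rw [hN2, h1, h2, hm] at es
      push_cast at es
      have eN : (numOrder G (4 * p * q) : ZMod p) = -1 := by
        linear_combination hs - es - e1 - 2 * bp
      have h0 : numOrder G (4 * p * q) ≠ 0 := fun h => by
        rw [h, Nat.cast_zero] at eN
        exact one_ne_zero (neg_eq_zero.1 eN.symm)
      have hN : numOrder G (4 * p * q) = a := (hval _ (by
        have := hp.two_le; have := hq.two_le
        calc 2 < 4 * 2 * 2 := by norm_num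
          _ ≤ 4 * p * q := by gcongr) h0).resolve_right fun h => by
        rw [h, bp] at eN
        exact one_ne_neg_one hp hp2 eN
      have hc := count (G := G) (d := 4 * p) hq
        ((hcp q hq hq2).mul_left ((Nat.coprime_primes hp hq).2 hpq))
        (fun hd => one_ne_zero (α := ZMod q) (by rw [← bq]; rw [g4] at hd; exact cast_dvd hd))
      rw [hN, h2] at hc
      have h5 : 2 ≤ Nat.totient (4 * p) := Nat.le_of_dvd (Nat.totient_pos.2 (by have := hp.two_le; omega))
        (even_iff_two_dvd.1 (Nat.totient_even (by have := hp.two_le; omega)))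
      nlinarith
    · rw [h] at e4
      have e : (numOrder G (4 * p) : ZMod p) = -1 := by linear_combination e4 - bp
      have h0 : numOrder G (4 * p) ≠ 0 := fun h => by
        rw [h, Nat.cast_zero] at e
        exact one_ne_zero (neg_eq_zero.1 e.symm)
      have g : numOrder G (4 * p) = a := (hval _ (by have := hp.two_le; omega) h0).resolve_right fun h => by
        rw [h, bp] at e
        exact one_ne_neg_one hp hp2 e
      have hc := count (G := G) (d := 4) hp (hcp p hp hp2)
        (fun hd => one_ne_zero (α := ZMod p) (by rw [← bp]; rw [h] at hd; exact cast_dvd hd))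
      rw [g, h1, show Nat.totient 4 = 2 by decide] at hc
      omega
  · -- different counts
    have key : ∀ (r s x y : ℕ), r.Prime → s.Prime → r ≠ s → r ≠ 2 → s ≠ 2 → r ∣ Nat.card G → s ∣ Nat.card G →
        (∀ d, 2 < d → numOrder G d ≠ 0 → numOrder G d = x ∨ numOrder G d = y) →
        numOrder G r = x → numOrder G s = y → numOrder G 4 ≠ x := by
      intro r s x y hr hs hrs hr2 hs2 hrG hsG hv hx hy hc
      haveI := Fact.mk hr
      obtain ⟨ax, by0⟩ := pair_of_ne hr hs hrs hr2 hs2 hrG hsG hv hx hy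
      obtain ⟨-, -, g⟩ := hone r hr hr2 hrG
      rw [hc, ax] at g
      have e : (numOrder G (4 * r) : ZMod r) = 1 := by linear_combination g
      have h0 : numOrder G (4 * r) ≠ 0 := fun h => by rw [h, Nat.cast_zero] at e; exact zero_ne_one e
      rcases hv _ (by have := hr.two_le; omega) h0 with h | h <;> rw [h] at e
      · rw [ax] at e; exact one_ne_neg_one hr hr2 e.symm
      · rw [by0] at e; exact zero_ne_one e
    rcases hval 4 (by norm_num) hN4 with h | h
    · exact key p q a b hp hq hpq hp2 hq2 hpG hqG hval h1 h2 h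
    · exact key q p b a hq hp hpq.symm hq2 hp2 hqG hpG (fun d hd h0 => (hval d hd h0).symm) h2 h1 h

theorem two_odd_primes (hcard : ∀ p q r : ℕ, p.Prime → q.Prime → r.Prime → p ≠ 2 → q ≠ 2 → r ≠ 2 →
    p ∣ Nat.card G → q ∣ Nat.card G → r ∣ Nat.card G → p = q ∨ p = r ∨ q = r)
    (hfour : ∀ p q : ℕ, p.Prime → q.Prime → p ≠ 2 → q ≠ 2 → p ∣ Nat.card G → q ∣ Nat.card G →
      4 ∣ Nat.card G → p = q) : Group.IsSolvable G := by
  classical
  have hpair : ∀ (H : Type _) [Group H] [Finite H] (p q : ℕ), p.Prime → q.Prime → p ≠ q →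
      (∀ r : ℕ, r.Prime → r ∣ Nat.card H → r = p ∨ r = q) → Group.IsSolvable H := fun H _ _ p q hp hq hpq h =>
    Solvable.isSolvable_of_card_two_primes hp hq hpq fun r hr hd => h r hr hd
  by_cases h2 : ∀ r : ℕ, r.Prime → r ∣ Nat.card G → r = 2
  · exact hpair G 2 3 Nat.prime_two Nat.prime_three (by norm_num) fun r hr hd => Or.inl (h2 r hr hd)
  push Not at h2
  obtain ⟨p, hp, hpG, hp2⟩ := h2
  by_cases hq : ∀ r : ℕ, r.Prime → r ∣ Nat.card G → r = 2 ∨ r = p
  · exact hpair G 2 p Nat.prime_two hp (Ne.symm hp2) hq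
  push Not at hq
  obtain ⟨q, hq, hqG, hq2, hqp⟩ := hq
  have hodd : ∀ r : ℕ, r.Prime → r ≠ 2 → r ∣ Nat.card G → r = p ∨ r = q := fun r hr hr2 hd => by
    rcases hcard r p q hr hp hq hr2 hp2 hq2 hd hpG hqG with h | h | h
    · exact Or.inl h
    · exact Or.inr h
    · exact absurd h (Ne.symm hqp)
  by_cases h2G : 2 ∣ Nat.card G
  · have h4 : ¬ 4 ∣ Nat.card G := fun h4 => hqp (hfour q p hq hp hq2 hp2 hqG hpG h4)
    haveI : Fact (Nat.Prime 2) := ⟨Nat.prime_two⟩
    obtain ⟨T⟩ := (inferInstance : Nonempty (Sylow 2 G))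
    obtain ⟨k, hk⟩ := T.2.exists_card_eq
    have hk1 : Nat.card (T : Subgroup G) = 2 := by
      have h1 : 2 ∣ 2 ^ k := hk ▸ T.dvd_card_of_dvd_card h2G
      rcases k with _ | _ | k
      · norm_num at h1
      · rw [hk, zero_add, pow_one]
      · exact absurd (((pow_dvd_pow 2 (by omega : 2 ≤ k + 2)).trans hk.symm.dvd).trans (Subgroup.card_subgroup_dvd_card _)) h4
    obtain ⟨H, hH⟩ := Involution.exists_index_two (even_iff_two_dvd.2 h2G) T (isCyclic_of_prime_card hk1)
    haveI := Subgroup.normal_of_index_eq_two hH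
    haveI : Group.IsSolvable H := hpair H p q hp hq (Ne.symm hqp) fun r hr hd => by
      refine hodd r hr (fun e => h4 ?_) (hd.trans (Subgroup.card_subgroup_dvd_card H))
      rw [← H.card_mul_index, hH, show 4 = 2 * 2 by norm_num]
      exact mul_dvd_mul_right (e ▸ hd) 2
    haveI : Group.IsSolvable (G ⧸ H) := hpair (G ⧸ H) 2 3 Nat.prime_two Nat.prime_three (by norm_num)
      fun r hr hd => Or.inl ((Nat.prime_dvd_prime_iff_eq hr Nat.prime_two).1 (hH ▸ hd))
    exact Group.isSolvable_of_ker_le_range H.subtype (QuotientGroup.mk' H)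
      (by rw [QuotientGroup.ker_mk', Subgroup.range_subtype])
  · exact hpair G p q hp hq (Ne.symm hqp) fun r hr hd => hodd r hr (fun e => h2G (e ▸ hd)) hd

/-- A finite group in which the numbers of elements of each order that occurs (the numbers #{g : o(g) = m}, m ranging over the element orders) take exactly three different values is solvable. -/
theorem result {G : Type*} [Group G] [Finite G] (h : (((fun m : ℕ => Nat.card {g : G // orderOf g = m}) '' Set.range (orderOf : G → ℕ))).ncard = 3) : Group.IsSolvable G := by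
  classical
  set img := ((fun m : ℕ => Nat.card {g : G // orderOf g = m}) '' Set.range (orderOf : G → ℕ))
  have h1mem : 1 ∈ img := ⟨1, ⟨1, orderOf_one⟩, numOrder_one⟩
  have himg : ∀ d, numOrder G d ≠ 0 → numOrder G d ∈ img := fun d hd => by
    obtain ⟨g, hg⟩ := numOrder_ne_zero_iff.1 hd
    exact ⟨d, ⟨g, hg⟩, rfl⟩
  have heven : ∀ d, 2 < d → 2 ∣ numOrder G d := fun d hd =>
    (even_iff_two_dvd.1 (Nat.totient_even hd)).trans (totient_dvd d)
  have hfin : img.Finite := Set.finite_of_ncard_ne_zero (by omega)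
  obtain ⟨a, b, hab, hset⟩ : ∃ a b, a ≠ b ∧ img \ {1} = {a, b} := Set.ncard_eq_two.1 (by
    rw [Set.ncard_sdiff_singleton_of_mem h1mem]; omega)
  have hmem : ∀ d, numOrder G d ≠ 0 → numOrder G d ≠ 1 → numOrder G d = a ∨ numOrder G d = b := fun d h0 h1 => by
    have : numOrder G d ∈ img \ {1} := ⟨himg d h0, h1⟩
    rwa [hset] at this
  have hval : ∀ d, 2 < d → numOrder G d ≠ 0 → numOrder G d = a ∨ numOrder G d = b := fun d hd h0 =>
    hmem d h0 fun e => by
      have h' := heven d hd
      rw [e] at h'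
      norm_num at h'
  have h3 : ∀ r : ℕ, r.Prime → r ≠ 2 → 2 < r := fun r hr hr2 => lt_of_le_of_ne hr.two_le (Ne.symm hr2)
  refine two_odd_primes ?_ ?_
  · intro p q r hp hq hr hp2 hq2 hr2 hpG hqG hrG
    by_contra hh
    push Not at hh
    obtain ⟨hpq, hpr, hqr⟩ := hh
    have vp := hval p (h3 p hp hp2) (numOrder_prime_ne_zero hp hpG)
    have vq := hval q (h3 q hq hq2) (numOrder_prime_ne_zero hq hqG)
    have vr := hval r (h3 r hr hr2) (numOrder_prime_ne_zero hr hrG)
    have hval' : ∀ d, 2 < d → numOrder G d ≠ 0 → numOrder G d = b ∨ numOrder G d = a :=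
      fun d hd h0 => (hval d hd h0).symm
    rcases vp with e1 | e1 <;> rcases vq with e2 | e2 <;> rcases vr with e3 | e3
    · exact three_odd hp hq hr hpq hpr hqr hp2 hq2 hr2 hpG hqG hrG hval e1 e2
    · exact three_odd hp hq hr hpq hpr hqr hp2 hq2 hr2 hpG hqG hrG hval e1 e2
    · exact three_odd hp hr hq hpr hpq hqr.symm hp2 hr2 hq2 hpG hrG hqG hval e1 e3
    · exact three_odd hq hr hp hqr hpq.symm hpr.symm hq2 hr2 hp2 hqG hrG hpG hval' e2 e3
    · exact three_odd hq hr hp hqr hpq.symm hpr.symm hq2 hr2 hp2 hqG hrG hpG hval e2 e3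
    · exact three_odd hp hr hq hpr hpq hqr.symm hp2 hr2 hq2 hpG hrG hqG hval' e1 e3
    · exact three_odd hp hq hr hpq hpr hqr hp2 hq2 hr2 hpG hqG hrG hval' e1 e2
    · exact three_odd hp hq hr hpq hpr hqr hp2 hq2 hr2 hpG hqG hrG hval' e1 e2
  · intro p q hp hq hp2 hq2 hpG hqG h4
    by_contra hpq
    have h2G : 2 ∣ Nat.card G := (show 2 ∣ 4 by norm_num).trans h4
    have hN2 : numOrder G 2 = 1 := by
      by_contra h2
      have hodd2 : ¬ 2 ∣ numOrder G 2 := fun hd => by
        have := (Nat.dvd_add_left hd).1 (dvd_prime Nat.prime_two h2G)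
        norm_num at this
      -- all orders above 2 share one count
      obtain ⟨c, hc⟩ : ∃ c, ∀ d, 2 < d → numOrder G d ≠ 0 → numOrder G d = c := by
        rcases hmem 2 (numOrder_prime_ne_zero Nat.prime_two h2G) h2 with e | e <;> rw [e] at hodd2
        · exact ⟨b, fun d hd h0 => (hval d hd h0).resolve_left fun h => hodd2 (h ▸ heven d hd)⟩
        · exact ⟨a, fun d hd h0 => (hval d hd h0).resolve_right fun h => hodd2 (h ▸ heven d hd)⟩
      obtain ⟨-, -, -, hne⟩ := pair_of_eq hp hq hpq hp2 hq2 hpG hqG (fun d hd h0 => Or.inl (hc d hd h0))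
        (b := c) (hc p (h3 p hp hp2) (numOrder_prime_ne_zero hp hpG))
        (hc q (h3 q hq hq2) (numOrder_prime_ne_zero hq hqG))
      exact hne rfl
    rcases hval p (h3 p hp hp2) (numOrder_prime_ne_zero hp hpG) with e | e
    · exact no_four hp hq hpq hp2 hq2 hpG hqG h4 hN2 hval e
    · exact no_four hp hq hpq hp2 hq2 hpG hqG h4 hN2 (fun d hd h0 => (hval d hd h0).symm) e

end Cfsg.Agent.S3996
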