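import Cfsg.Statements.S3997
import Cfsg.Agent.Lib.OrderType.Basic

set_option autoImplicit false
open Cfsg Cfsg.Agent.OrderType

namespace Cfsg.Agent.S3997

/-- Let G and H be finite groups with the same order type: for every m they have the same number of elements of order m. If G is nilpotent then so is H. -/
theorem result {G H : Type*} [Group G] [Finite G] [Group H] [Finite H] (hT : (∀ m : ℕ, Nat.card {g : G // orderOf g = m} = Nat.card {h : H // orderOf h = m})) (hG : Group.IsNilpotent G) :
    Group.IsNilpotent H := by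
  obtain ⟨e, he⟩ := exists_equiv hT
  refine ((Group.isNilpotent_of_finite_tfae (G := H)).out 0 3 rfl rfl).mpr ?_
  intro p hp P
  obtain ⟨Q⟩ := (inferInstance : Nonempty (Sylow p G))
  haveI : (Q : Subgroup G).Normal := ((Group.isNilpotent_of_finite_tfae (G := G)).out 0 3 rfl rfl).mp hG p hp Q
  set S : Set H := {h : H | ∃ k : ℕ, h ^ p ^ k = 1} with hS
  have hcS : S.ncard ≤ Nat.card (P : Subgroup H) := by
    have h1 : S ⊆ e '' (Q : Set G) := by
      rintro h ⟨k, hk⟩
      refine ⟨e.symm h, ?_, e.apply_symm_apply h⟩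
      have h2 : IsPGroup p (Subgroup.zpowers (e.symm h)) := by
        obtain ⟨j, _, hj⟩ := (Nat.dvd_prime_pow hp.out).mp (orderOf_dvd_of_pow_eq_one hk)
        refine IsPGroup.of_card (n := j) ((Nat.card_zpowers _).trans ?_)
        rw [← he (e.symm h), e.apply_symm_apply, hj]
      obtain ⟨Q', hQ'⟩ := h2.exists_le_sylow
      have := Sylow.unique_of_normal Q ‹_›
      rw [Subsingleton.elim Q' Q] at hQ'
      exact hQ' (Subgroup.mem_zpowers _)
    refine (Set.ncard_le_ncard h1 (Set.toFinite _)).trans ?_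
    rw [Set.ncard_image_of_injective _ e.injective, ← Nat.card_coe_set_eq]
    rw [Sylow.card_eq_multiplicity P, ← Nat.card_congr e, ← Sylow.card_eq_multiplicity Q]
    rfl
  have hPS : (P : Set H) ⊆ S := by
    intro x hx
    obtain ⟨k, hk⟩ := P.isPGroup' ⟨x, hx⟩
    exact ⟨k, by simpa using congrArg Subtype.val hk⟩
  have heq : (P : Set H) = S := Set.eq_of_subset_of_ncard_le hPS
    (hcS.trans_eq (Nat.card_coe_set_eq _)) (Set.toFinite _)
  refine ⟨fun x hx a => ?_⟩
  have hx' : x ∈ S := heq ▸ hx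
  obtain ⟨k, hk⟩ := hx'
  show a * x * a⁻¹ ∈ (P : Set H)
  rw [heq]
  exact ⟨k, by rw [conj_pow, hk, mul_one, mul_inv_cancel]⟩

end Cfsg.Agent.S3997
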