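import Cfsg.Statements.S3998
import Cfsg.Agent.Lib.OrderType.Basic

set_option autoImplicit false
open Cfsg Cfsg.Agent.OrderType

namespace Cfsg.Agent.S3998

theorem primesGE_step {q n : ℕ} (hq : ¬ q.Prime) : PrimesGE q n ↔ PrimesGE (q + 1) n :=
  ⟨fun h p hp hd => Nat.lt_of_le_of_ne (h p hp hd) (fun e => hq (e ▸ hp)),
    fun h p hp hd => (Nat.le_succ q).trans (h p hp hd)⟩


/-- Let G and H be finite groups with the same order type (for every m the same number of elements of order m). If G is supersolvable then H is solvable. -/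
theorem result {G H : Type*} [Group G] [Finite G] [Group H] [Finite H] (hT : (∀ m : ℕ, Nat.card {g : G // orderOf g = m} = Nat.card {h : H // orderOf h = m})) (hG : Cfsg.IsSupersolvable G) :
    Group.IsSolvable H := by
  obtain ⟨e, he⟩ := exists_equiv hT
  have hcard : Nat.card G = Nat.card H := Nat.card_congr e
  have key : ∀ d, ∀ t, Nat.card H + 1 ≤ t + d →
      ∃ K : Subgroup H, (∀ g, g ∈ K ↔ PrimesGE t (orderOf g)) ∧ Group.IsSolvable K := by
    intro d
    induction d with
    | zero =>
      intro t ht
      refine ⟨⊥, fun g => ⟨fun hg => ?_, fun hg => ?_⟩, inferInstance⟩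
      · rw [Subgroup.mem_bot.mp hg, orderOf_one]; exact PrimesGE.one
      · rw [Subgroup.mem_bot]
        by_contra hne
        obtain ⟨p, hp, hpd⟩ := Nat.exists_prime_and_dvd (fun h => hne (orderOf_eq_one_iff.mp h))
        have h1 := hg p hp hpd
        have h2 := Nat.le_of_dvd Nat.card_pos (hpd.trans (orderOf_dvd_natCard g))
        omega
    | succ d ih =>
      intro q hq
      obtain ⟨K, hK, hKs⟩ := ih (q + 1) (by omega)
      by_cases hqp : q.Prime
      swap
      · exact ⟨K, fun g => (hK g).trans (primesGE_step hqp).symm, hKs⟩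
      haveI := Fact.mk hqp
      haveI hKn : K.Normal := ⟨fun x hx a => by
        rw [hK] at hx ⊢
        rwa [← MulAut.conj_apply, MulEquiv.orderOf_eq]⟩
      obtain ⟨Q⟩ := (inferInstance : Nonempty (Sylow q H))
      set J := K ⊔ (Q : Subgroup H) with hJ
      have hpow : ∀ g ∈ J, ∃ j : ℕ, g ^ q ^ j ∈ K := by
        intro g hg
        rw [← SetLike.mem_coe, hJ, Subgroup.normal_mul] at hg
        obtain ⟨k, hk, x, hx, rfl⟩ := hg
        obtain ⟨j, hj⟩ := Q.isPGroup' ⟨x, hx⟩
        refine ⟨j, ?_⟩
        rw [← QuotientGroup.eq_one_iff, QuotientGroup.mk_pow, QuotientGroup.mk_mul,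
          (QuotientGroup.eq_one_iff k).mpr hk, one_mul, ← QuotientGroup.mk_pow]
        have : x ^ q ^ j = 1 := congrArg Subtype.val hj
        rw [this]; rfl
      have hJS : ∀ g ∈ J, PrimesGE q (orderOf g) := by
        intro g hg
        obtain ⟨j, hj⟩ := hpow g hg
        refine (PrimesGE.mul (PrimesGE.pow (k := j) hqp le_rfl)
          (fun p hp hd => (Nat.le_succ q).trans ((hK _).mp hj p hp hd))).of_dvd ?_
        refine orderOf_dvd_of_pow_eq_one ?_
        rw [pow_mul]; exact pow_orderOf_eq_one _
      obtain ⟨L, hL⟩ := exists_subgroup_of_supersolvable hG q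
      have hLc : ({g : H | PrimesGE q (orderOf g)}).ncard = Nat.card L := by
        rw [← Nat.card_coe_set_eq]
        refine (Nat.card_congr (Equiv.subtypeEquiv e (fun g => ?_))).symm
        rw [Set.mem_setOf_eq, he]; exact hL g
      have hdvd : Nat.card L ∣ Nat.card J := by
        rw [← Nat.factorization_le_iff_dvd Nat.card_pos.ne' Nat.card_pos.ne']
        intro p
        rw [factorization_card_primesGE hL, hcard]
        split_ifs with hqle
        swap
        · exact Nat.zero_le _
        rcases Nat.lt_or_eq_of_le hqle with hlt | rfl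
        · have h1 := factorization_card_primesGE hK p
          rw [if_pos (show q + 1 ≤ p by omega)] at h1
          rw [← h1]
          exact (Nat.factorization_le_iff_dvd Nat.card_pos.ne' Nat.card_pos.ne').mpr (Subgroup.card_dvd_of_le le_sup_left) p
        · refine (hqp.pow_dvd_iff_le_factorization Nat.card_pos.ne').mp ?_
          rw [← Sylow.card_eq_multiplicity Q]
          exact Subgroup.card_dvd_of_le le_sup_right
      have hset : (J : Set H) = {g : H | PrimesGE q (orderOf g)} := by
        refine Set.eq_of_subset_of_ncard_le hJS ?_ (Set.toFinite _)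
        rw [hLc, ← Nat.card_coe_set_eq]
        exact Nat.le_of_dvd Nat.card_pos hdvd
      refine ⟨J, fun g => by rw [← SetLike.mem_coe, hset]; rfl, ?_⟩
      haveI : (K.subgroupOf J).Normal := Subgroup.normal_subgroupOf
      haveI : Group.IsSolvable (K.subgroupOf J) :=
        solvable_of_surjective (f := (Subgroup.subgroupOfEquivOfLe (le_sup_left : K ≤ J)).symm.toMonoidHom)
          (MulEquiv.surjective _)
      have hp : IsPGroup q (J ⧸ K.subgroupOf J) := by
        intro y
        induction y using QuotientGroup.induction_on with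
        | H z =>
          obtain ⟨j, hj⟩ := hpow z.1 z.2
          exact ⟨j, by rw [← QuotientGroup.mk_pow, QuotientGroup.eq_one_iff, Subgroup.mem_subgroupOf]; simpa using hj⟩
      haveI : Group.IsNilpotent (J ⧸ K.subgroupOf J) := hp.isNilpotent
      exact solvable_of_ker_le_range (K.subgroupOf J).subtype (QuotientGroup.mk' (K.subgroupOf J))
        (by rw [QuotientGroup.ker_mk', Subgroup.range_subtype])
  obtain ⟨K, hK, hKs⟩ := key (Nat.card H + 1) 0 (by omega)
  have hKt : K = ⊤ := eq_top_iff.mpr fun g _ => (hK g).mpr fun p _ _ => Nat.zero_le p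
  subst hKt
  exact solvable_of_surjective (f := (Subgroup.topEquiv : (⊤ : Subgroup H) ≃* H).toMonoidHom) (MulEquiv.surjective _)

end Cfsg.Agent.S3998
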