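import Cfsg.Statements.S3999
import Cfsg.Agent.Lib.OrderType.Frobenius
import Cfsg.Agent.Lib.Frobenius.SolvableCriterion
set_option linter.style.haveILetI false

set_option autoImplicit false
open Cfsg

namespace Cfsg.Agent.S3999

/-- Let F be a finite Frobenius group (it has a Frobenius complement) and G a finite group with the same order type as F (for every m the same number of elements of order m). Then G is a Frobenius group; moreover G is solvable if and only if F is. -/
theorem result {F G : Type*} [Group F] [Finite F] [Group G] [Finite G] (hF : (∃ C : Subgroup F, Cfsg.IsFrobeniusComplement C)) (hT : (∀ m : ℕ, Nat.card {g : F // orderOf g = m} = Nat.card {h : G // orderOf h = m})) :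
    (∃ C : Subgroup G, Cfsg.IsFrobeniusComplement C) ∧ (Group.IsSolvable G ↔ Group.IsSolvable F) := by
  obtain ⟨C, hC⟩ := hF
  obtain ⟨e, he⟩ := OrderType.exists_equiv hT
  obtain ⟨hn, hh, hco, hord, hp⟩ := OrderType.frobenius_data hC
  have hcard : Nat.card G = C.index * Nat.card C := by
    rw [← Nat.card_congr e, C.index_mul_card]
  obtain ⟨K, H, hKn, hKnil, hc, hK, hH, hfpf, hFrob⟩ := OrderType.split_frobenius hn hh hco hcard
    (fun x => by
      obtain ⟨y, rfl⟩ := e.surjective x
      rw [he]; exact hord y)
    (fun p hpp hpn => by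
      rw [← OrderType.card_subtype_orderOf e he (fun o => ∃ k, o = p ^ k)]
      exact hp p hpp hpn)
  refine ⟨⟨H, hFrob⟩, ?_⟩
  haveI := hKn
  haveI := hKnil
  haveI := Frobenius.frobKernel_normal hC
  haveI := FPF.isNilpotent_frobKernel hC
  have sG : Group.IsSolvable G ↔ Group.IsSolvable H := by
    refine ⟨fun h => inferInstance, fun h => ?_⟩
    haveI := h
    haveI : Group.IsSolvable (G ⧸ K) :=
      Group.isSolvable_of_surjective (f := (QuotientGroup.mk' K).comp H.subtype) fun q => by
        obtain ⟨g, rfl⟩ := QuotientGroup.mk'_surjective K q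
        obtain ⟨⟨⟨k, hk⟩, ⟨u, hu⟩⟩, hku, -⟩ := hc.existsUnique g
        refine ⟨⟨u, hu⟩, ?_⟩
        show QuotientGroup.mk' K u = QuotientGroup.mk' K g
        rw [← hku, map_mul, (QuotientGroup.eq_one_iff k).mpr hk |> (fun h => (show QuotientGroup.mk' K k = 1 from h)), one_mul]
    exact Group.isSolvable_of_ker_le_range K.subtype (QuotientGroup.mk' K) (by simp)
  have sF : Group.IsSolvable F ↔ Group.IsSolvable C := by
    refine ⟨fun h => inferInstance, fun h => ?_⟩
    haveI := h
    haveI : Group.IsSolvable (F ⧸ Frobenius.frobKernel hC) :=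
      Group.isSolvable_of_surjective (f := (QuotientGroup.mk' (Frobenius.frobKernel hC)).comp C.subtype) fun q => by
        obtain ⟨g, rfl⟩ := QuotientGroup.mk'_surjective _ q
        obtain ⟨⟨⟨k, hk⟩, ⟨u, hu⟩⟩, hku, -⟩ := (Frobenius.frobKernel_isComplement hC).existsUnique g
        refine ⟨⟨u, hu⟩, ?_⟩
        show QuotientGroup.mk' _ u = QuotientGroup.mk' _ g
        rw [← hku, map_mul, (show QuotientGroup.mk' (Frobenius.frobKernel hC) k = 1 from
          (QuotientGroup.eq_one_iff k).mpr hk), one_mul]
    exact Group.isSolvable_of_ker_le_range (Frobenius.frobKernel hC).subtype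
      (QuotientGroup.mk' (Frobenius.frobKernel hC)) (by simp)
  rw [sG, sF, Frobenius.SmallCyclic.isSolvable_iff_count (Frobenius.smallCyclic_complement hFrob),
    Frobenius.SmallCyclic.isSolvable_iff_count (Frobenius.smallCyclic_complement hC)]
  refine forall_congr' fun q => forall_congr' fun hq => forall_congr' fun _ => ?_
  suffices heq : Nat.card {x : H // orderOf x = q} = Nat.card {x : C // orderOf x = q} by rw [heq]
  by_cases hqh : q ∣ Nat.card C
  · have h1 := OrderType.card_orderOf_eq_mul hc hfpf hq.one_lt (hH ▸ hqh) (by rw [hK, hH]; exact hco)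
    have h2 := OrderType.card_orderOf_eq_mul (Frobenius.frobKernel_isComplement hC)
      (Frobenius.fpf_frobKernel hC) hq.one_lt hqh (by rw [Frobenius.card_frobKernel]; exact hco)
    rw [← OrderType.card_subtype_orderOf e he (fun o => o = q), h2, Frobenius.card_frobKernel, hK] at h1
    exact (Nat.eq_of_mul_eq_mul_left (by omega) h1).symm
  · haveI : IsEmpty {x : H // orderOf x = q} :=
      ⟨fun x => hqh (hH ▸ x.2 ▸ orderOf_dvd_natCard _)⟩
    haveI : IsEmpty {x : C // orderOf x = q} :=
      ⟨fun x => hqh (x.2 ▸ orderOf_dvd_natCard _)⟩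
    rw [Nat.card_of_isEmpty, Nat.card_of_isEmpty]

end Cfsg.Agent.S3999
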