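import Cfsg.Statements.S4001
import Cfsg.Agent.EqLemmas
import Cfsg.Agent.Lib.Frobenius.Structure
import Cfsg.Agent.Lib.Frobenius.Kernel
import Cfsg.Agent.Lib.FPF.Kernel
import Cfsg.Agent.Lib.FpfAction.Basic
import Cfsg.Agent.Lib.Solvable.Basic
import Mathlib.GroupTheory.SpecificGroups.ZGroup

set_option autoImplicit false
open Cfsg

namespace Cfsg.Agent.S4001

open Cfsg.Agent.Frobenius
open scoped IsMulCommutative Pointwise

theorem setup {M : Type*} [Group M] [Finite M] {C N : Subgroup M} [N.Normal]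
    (hC : Cfsg.IsFrobeniusComplement C) (hk : Cfsg.frobeniusKernel C = (N : Set M)) :
    Subgroup.IsComplement' N C ∧ FPF C N ∧ Nat.Coprime (Nat.card C) (Nat.card N) ∧ N ≠ ⊥ := by
  have hcard : Nat.card N = C.index := by
    rw [← card_kernel hC, hk]
    rfl
  have hd : Disjoint N C := by
    rw [disjoint_iff, eq_bot_iff]
    rintro x ⟨hx, hx'⟩
    have hx2 : x ∈ Cfsg.frobeniusKernel C := by rw [hk]; exact hx
    exact Subgroup.mem_bot.2 (eq_one_of_mem_kernel_of_mem hx2 (g := 1) (by simpa using hx'))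
  refine ⟨Subgroup.isComplement'_of_card_mul_and_disjoint (by rw [hcard, mul_comm, C.card_mul_index]) hd,
    fpf_of_isFrobeniusComplement hC hd, hcard ▸ coprime_card_index hC, fun h => ?_⟩
  rw [h, Subgroup.card_bot] at hcard
  exact hC.2.1 (Subgroup.index_eq_one.1 hcard.symm)

theorem eq_one_of_commute {M : Type*} [Group M] [Finite M] {C N : Subgroup M} [N.Normal]
    (hc : Subgroup.IsComplement' N C) (h : FPF C N) {x y : M} (hy : y ∈ N) (hx : x ∉ N)
    (hxy : x * y = y * x) : y = 1 := by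
  obtain ⟨k, hk, hkx⟩ := h.exists_conj_mem hc hx
  have hne : k⁻¹ * x * k ≠ 1 := fun e => hx (by
    have : x = 1 := by
      rw [mul_assoc, inv_mul_eq_one] at e
      exact mul_eq_right.1 e.symm
    rw [this]; exact N.one_mem)
  have h1 := h _ hkx hne (k⁻¹ * y * k) (N.mul_mem (N.mul_mem (N.inv_mem hk) hy) hk) (by
    calc k⁻¹ * x * k * (k⁻¹ * y * k) = k⁻¹ * (x * y) * k := by group
      _ = k⁻¹ * (y * x) * k := by rw [hxy]
      _ = _ := by group)
  rw [mul_assoc, inv_mul_eq_one] at h1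
  exact mul_eq_right.1 h1.symm

theorem orderOf_commute_mul {M : Type*} [Group M] {x y : M} {p q : ℕ} (hp : p.Prime) (hq : q.Prime)
    (hpq : p ≠ q) (h : Commute x y) (hx : orderOf x = p) (hy : orderOf y = q) : orderOf (x * y) = p * q := by
  rw [h.orderOf_mul_eq_mul_orderOf_of_coprime (by rw [hx, hy]; exact (Nat.coprime_primes hp hq).2 hpq), hx, hy]

theorem mem_normalizer_of_map {G : Type*} [Group G] {K : Subgroup G} (C : Subgroup K) {x : G} (hxK : x ∈ K)
    (hx : x ∈ Subgroup.normalizer ((C.map K.subtype) : Set G)) :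
    (⟨x, hxK⟩ : K) ∈ Subgroup.normalizer (C : Set K) := by
  rw [Subgroup.mem_normalizer_iff]
  intro u
  have h := Subgroup.mem_normalizer_iff.1 hx (u : G)
  constructor
  · intro hu
    obtain ⟨w, hw, hw'⟩ := h.1 ⟨u, hu, rfl⟩
    have : w = (⟨x, hxK⟩ : K) * u * (⟨x, hxK⟩ : K)⁻¹ := Subtype.ext hw'
    exact this ▸ hw
  · intro hu
    obtain ⟨w, hw, hw'⟩ := h.2 ⟨_, hu, rfl⟩
    exact (Subtype.ext hw' : w = u) ▸ hw

/-- Let G be a 2-Frobenius group: it has normal subgroups H < K with K a Frobenius group with kernel H and G/H a Frobenius group with kernel K/H. Then G is solvable; K/H has odd order coprime to the order of H and to the order of G/K (it is the image of an odd-order Hall subgroup); G/K is cyclic; and the prime graph of G has exactly two connected components, both complete: for distinct primes p, q dividing the order of G, G has an element of order pq exactly when p and q either both divide the order of K/H or both do not. -/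
theorem result {G : Type*} [Group G] [Finite G] (H K : Subgroup G) [H.Normal] [K.Normal] (hlt : H < K)
    (hK : ∃ C : Subgroup ↥K, Cfsg.IsFrobeniusComplement C ∧ Cfsg.frobeniusKernel C = (H.subgroupOf K : Set ↥K))
    (hGH : ∃ C : Subgroup (G ⧸ H), Cfsg.IsFrobeniusComplement C ∧ Cfsg.frobeniusKernel C = (K.map (QuotientGroup.mk' H) : Set (G ⧸ H))) :
    Group.IsSolvable G ∧ Odd (Nat.card (↥K ⧸ H.subgroupOf K)) ∧
      Nat.Coprime (Nat.card (↥K ⧸ H.subgroupOf K)) (Nat.card ↥H * Nat.card (G ⧸ K)) ∧ IsCyclic (G ⧸ K) ∧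
      ∀ p q : ℕ, p.Prime → q.Prime → p ≠ q → p ∣ Nat.card G → q ∣ Nat.card G →
        ((∃ g : G, orderOf g = p * q) ↔ (p ∣ Nat.card (↥K ⧸ H.subgroupOf K) ↔ q ∣ Nat.card (↥K ⧸ H.subgroupOf K))) := by
  classical
  obtain ⟨C₁, hC₁, hk₁⟩ := hK
  obtain ⟨C₂, hC₂, hk₂⟩ := hGH
  obtain ⟨hc₁, hf₁, hcop₁, hH'0⟩ := setup hC₁ hk₁
  obtain ⟨hc₂, hf₂, hcop₂, hKb0⟩ := setup hC₂ hk₂
  set Kb := K.map (QuotientGroup.mk' H) with hKb
  -- `K/H`
  let e₁ : (↥K ⧸ H.subgroupOf K) ≃* C₁ := hc₁.symm.QuotientMulEquiv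
  set k := Nat.card (↥K ⧸ H.subgroupOf K) with hkdef
  have hkC : k = Nat.card C₁ := Nat.card_congr e₁.toEquiv
  have hHsub : Nat.card (H.subgroupOf K) = Nat.card H :=
    Nat.card_congr (Subgroup.subgroupOfEquivOfLe hlt.le).toEquiv
  have hkerb : ((QuotientGroup.mk' H).domRestrict K).ker = H.subgroupOf K := by
    ext x
    rw [MonoidHom.mem_ker, MonoidHom.domRestrict_apply, QuotientGroup.mk'_apply, QuotientGroup.eq_one_iff]
    rfl
  have hrb : ((QuotientGroup.mk' H).domRestrict K).range = Kb := by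
    rw [hKb, MonoidHom.range_eq_map]
    ext x
    simp [Subgroup.mem_map, MonoidHom.domRestrict_apply]
  let eb : (↥K ⧸ H.subgroupOf K) ≃* Kb :=
    ((QuotientGroup.quotientMulEquivOfEq hkerb.symm).trans
      (QuotientGroup.quotientKerEquivRange ((QuotientGroup.mk' H).domRestrict K))).trans
      (MulEquiv.subgroupCongr hrb)
  have hKbcard : Nat.card Kb = k := (Nat.card_congr eb.toEquiv).symm
  -- `K/H` is a cyclic group of odd order
  have hsc : SmallCyclic Kb :=
    (smallCyclic_complement hC₁).of_injective (f := (eb.symm.trans e₁).toMonoidHom) (eb.symm.trans e₁).injective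
  haveI hnil : Group.IsNilpotent Kb := Cfsg.Agent.FPF.isNilpotent_of_fpf_subgroup (fun h => hC₂.1 h) hf₂
  have hoddk : ¬ 2 ∣ Nat.card Kb := fun h2 => by
    haveI : Fact (Nat.Prime 2) := ⟨Nat.prime_two⟩
    obtain ⟨u, hu⟩ := exists_prime_orderOf_dvd_card' 2 h2
    obtain ⟨c, hcC, hc1⟩ := exists_ne_one_mem hC₂
    have hconj : c * (u : G ⧸ H) * c⁻¹ ∈ Kb := Subgroup.Normal.conj_mem inferInstance _ u.2 c
    have := hsc.eq_of_involution hu (t := ⟨_, hconj⟩) (by
      rw [← Subgroup.orderOf_coe]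
      show orderOf (c * (u : G ⧸ H) * c⁻¹) = 2
      rw [← MulAut.conj_apply, MulEquiv.orderOf_eq, Subgroup.orderOf_coe, hu])
    have e : (u : G ⧸ H) = c * (u : G ⧸ H) * c⁻¹ := congrArg Subtype.val this
    have := hf₂ c hcC hc1 (u : G ⧸ H) u.2 (mul_inv_eq_iff_eq_mul.1 e.symm)
    rw [← Subgroup.orderOf_coe, this, orderOf_one] at hu
    omega
  haveI : IsZGroup Kb := hsc.isZGroup_of_odd hoddk
  haveI hKbcyc : IsCyclic Kb := inferInstance
  haveI hC₁cyc : IsCyclic C₁ := (eb.symm.trans e₁).isCyclic.1 hKbcyc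
  -- `G/K` is cyclic
  obtain ⟨⟨w, hw⟩, hgen⟩ := IsCyclic.exists_generator (α := Kb)
  have hgen' : ∀ y ∈ Kb, ∃ i : ℤ, w ^ i = y := fun y hy => by
    obtain ⟨i, hi⟩ := hgen ⟨y, hy⟩
    exact ⟨i, congrArg Subtype.val hi⟩
  have hab : ∀ a ∈ C₂, ∀ b ∈ C₂, a * b = b * a := by
    intro a ha b hb
    obtain ⟨i, hi⟩ := hgen' _ (Subgroup.Normal.conj_mem (inferInstance : Kb.Normal) _ hw a)
    obtain ⟨j, hj⟩ := hgen' _ (Subgroup.Normal.conj_mem (inferInstance : Kb.Normal) _ hw b)
    have hact : ∀ (g : G ⧸ H) (i j : ℤ), g * w * g⁻¹ = w ^ i → g * w ^ j * g⁻¹ = w ^ (i * j) := fun g i j h => by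
      rw [← conj_zpow, h, ← zpow_mul]
    have e : (a * b) * w * (a * b)⁻¹ = (b * a) * w * (b * a)⁻¹ := by
      calc (a * b) * w * (a * b)⁻¹ = a * (b * w * b⁻¹) * a⁻¹ := by group
        _ = w ^ (i * j) := by rw [← hj, hact a i j hi.symm]
        _ = w ^ (j * i) := by rw [mul_comm i]
        _ = b * (a * w * a⁻¹) * b⁻¹ := by rw [← hi, hact b j i hj.symm]
        _ = _ := by group
    by_contra hne
    have hcc : (b * a)⁻¹ * (a * b) ∈ C₂ :=
      C₂.mul_mem (C₂.inv_mem (C₂.mul_mem hb ha)) (C₂.mul_mem ha hb)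
    have hw1 := hf₂ _ hcc (fun h => hne (inv_mul_eq_one.1 h).symm) w hw (by
      calc (b * a)⁻¹ * (a * b) * w = (b * a)⁻¹ * ((a * b) * w * (a * b)⁻¹) * (a * b) := by group
        _ = (b * a)⁻¹ * ((b * a) * w * (b * a)⁻¹) * (a * b) := by rw [e]
        _ = _ := by group)
    refine hKb0 (eq_bot_iff.2 fun y hy => ?_)
    obtain ⟨i, rfl⟩ := hgen' y hy
    rw [hw1, one_zpow]
    exact Subgroup.one_mem _
  have hC₂cyc : IsCyclic C₂ := by
    letI : CommGroup C₂ := { (inferInstance : Group C₂) with mul_comm := fun a b => Subtype.ext (hab a a.2 b b.2) }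
    exact SmallCyclic.isCyclic_of_comm (smallCyclic_complement hC₂)
  let e₂ : (G ⧸ K) ≃* C₂ :=
    (QuotientGroup.quotientQuotientEquivQuotient H K hlt.le).symm.trans hc₂.symm.QuotientMulEquiv
  have hGKcyc : IsCyclic (G ⧸ K) := e₂.symm.isCyclic.1 hC₂cyc
  haveI hHnil : Group.IsNilpotent (H.subgroupOf K) :=
    Cfsg.Agent.FPF.isNilpotent_of_fpf_subgroup (fun h => hC₁.1 h) hf₁
  haveI hHnil' : Group.IsNilpotent H := Group.nilpotent_of_mulEquiv (Subgroup.subgroupOfEquivOfLe hlt.le)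
  have hsolv : Group.IsSolvable G := by
    haveI : Group.IsSolvable (G ⧸ K) := by
      haveI := hGKcyc
      exact isSolvable_of_comm fun a b => (IsCyclic.commutative (α := G ⧸ K)).is_comm.comm a b
    haveI : Group.IsSolvable (↥K ⧸ H.subgroupOf K) := by
      haveI : IsCyclic (↥K ⧸ H.subgroupOf K) := e₁.symm.isCyclic.1 hC₁cyc
      exact isSolvable_of_comm fun a b => (IsCyclic.commutative (α := ↥K ⧸ H.subgroupOf K)).is_comm.comm a b
    haveI : Group.IsSolvable ↥K := solvable_of_ker_le_range (H.subgroupOf K).subtype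
      (QuotientGroup.mk' (H.subgroupOf K)) (by rw [QuotientGroup.ker_mk', Subgroup.range_subtype])
    exact solvable_of_ker_le_range K.subtype (QuotientGroup.mk' K) (by rw [QuotientGroup.ker_mk', Subgroup.range_subtype])
  have hodd : Odd k := by
    rw [Nat.odd_iff, ← hKbcard]
    omega
  have hcopH : Nat.Coprime k (Nat.card H) := by rw [hkC, ← hHsub]; exact hcop₁
  have hcopGK : Nat.Coprime k (Nat.card (G ⧸ K)) := by
    rw [← hKbcard, Nat.card_congr e₂.toEquiv]
    exact hcop₂.symm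
  refine ⟨hsolv, hodd, Nat.Coprime.mul_right hcopH hcopGK, hGKcyc, ?_⟩
  intro p q hp hq hpq hpG hqG
  haveI := Fact.mk hp
  haveI := Fact.mk hq
  have hcardG : Nat.card G = k * Nat.card H * Nat.card (G ⧸ K) := by
    rw [Subgroup.card_eq_card_quotient_mul_card_subgroup K, Subgroup.card_eq_card_quotient_mul_card_subgroup
      (H.subgroupOf K), hHsub]
    ring
  -- no element of order `a b` with only `a` dividing `|K/H|`
  have hsep : ∀ a b : ℕ, a.Prime → b.Prime → a ∣ k → ¬ b ∣ k → ¬ ∃ g : G, orderOf g = a * b := by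
    rintro a b ha hb hak hbk ⟨g, hg⟩
    haveI := Fact.mk ha
    haveI := Fact.mk hb
    set y := g ^ b
    set z := g ^ a
    have hy : orderOf y = a := by
      rw [orderOf_pow' g hb.ne_zero, hg, Nat.gcd_eq_right (dvd_mul_left b a), Nat.mul_div_cancel _ hb.pos]
    have hz : orderOf z = b := by
      rw [orderOf_pow' g ha.ne_zero, hg, Nat.gcd_eq_right (dvd_mul_right a b), Nat.mul_div_cancel_left _ ha.pos]
    have hyz : y * z = z * y := by rw [← pow_add, ← pow_add, add_comm]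
    have haH : ¬ a ∣ Nat.card H := fun h => ha.ne_one (Nat.dvd_one.1 (hcopH.gcd_eq_one ▸ Nat.dvd_gcd hak h))
    have haGK : ¬ a ∣ Nat.card (G ⧸ K) := fun h => ha.ne_one (Nat.dvd_one.1 (hcopGK.gcd_eq_one ▸ Nat.dvd_gcd hak h))
    have hyK : y ∈ K := by
      rw [← QuotientGroup.eq_one_iff]
      by_contra hne
      refine haGK ?_
      rw [← orderOf_eq_prime (p := a) (by rw [← QuotientGroup.mk_pow, ← hy, pow_orderOf_eq_one, QuotientGroup.mk_one]) hne]
      exact orderOf_dvd_natCard _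
    have hyH : y ∉ H := fun h => haH (hy ▸ Subgroup.orderOf_coe (⟨y, h⟩ : H) ▸ orderOf_dvd_natCard _)
    by_cases hzK : z ∈ K
    · obtain ⟨c, hc, hcy⟩ := hf₁.exists_conj_mem hc₁ (x := (⟨y, hyK⟩ : K)) (fun h => hyH h)
      have hne : c⁻¹ * (⟨y, hyK⟩ : K) * c ≠ 1 := fun e => by
        rw [mul_assoc, inv_mul_eq_one] at e
        exact hyH ((show y = 1 from congrArg Subtype.val (mul_eq_right.1 e.symm)) ▸ H.one_mem)
      have hmem : c⁻¹ * (⟨z, hzK⟩ : K) * c ∈ C₁ := centralizer_le hC₁ hne hcy (by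
        rw [Subgroup.mem_centralizer_singleton_iff]
        have e : (⟨z, hzK⟩ : K) * ⟨y, hyK⟩ = ⟨y, hyK⟩ * ⟨z, hzK⟩ := Subtype.ext hyz.symm
        calc c⁻¹ * (⟨z, hzK⟩ : K) * c * (c⁻¹ * ⟨y, hyK⟩ * c) = c⁻¹ * (⟨z, hzK⟩ * ⟨y, hyK⟩) * c := by group
          _ = c⁻¹ * (⟨y, hyK⟩ * ⟨z, hzK⟩) * c := by rw [e]
          _ = _ := by group)
      refine hbk (hkC ▸ ?_)
      have ho : orderOf (c⁻¹ * (⟨z, hzK⟩ : K) * c) = b := by
        have e1 : c⁻¹ * (⟨z, hzK⟩ : K) * c = MulAut.conj c⁻¹ ⟨z, hzK⟩ := by simp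
        rw [e1, MulEquiv.orderOf_eq, ← Subgroup.orderOf_coe, ← hz]
      exact ho ▸ Subgroup.orderOf_coe (⟨_, hmem⟩ : C₁) ▸ orderOf_dvd_natCard _
    · refine hyH ((QuotientGroup.eq_one_iff y).1 ?_)
      refine eq_one_of_commute hc₂ hf₂ (x := (z : G ⧸ H)) ⟨y, hyK, rfl⟩ ?_ ?_
      · rintro ⟨u, hu, hue⟩
        have h1 : u⁻¹ * z ∈ H := QuotientGroup.eq.1 hue
        have := K.mul_mem hu (hlt.le h1)
        rw [mul_inv_cancel_left] at this
        exact hzK this
      · rw [← QuotientGroup.mk_mul, ← QuotientGroup.mk_mul, hyz]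
  -- a complement `N` of `H`
  set C₁' := C₁.map K.subtype with hC₁'
  set N := Subgroup.normalizer (C₁' : Set G)
  have hC₁K : C₁' ≤ K := Subgroup.map_subtype_le _
  have hcard₁' : Nat.card C₁' = k := by
    rw [hkC]
    exact (Nat.card_congr (C₁.equivMapOfInjective K.subtype K.subtype_injective).toEquiv).symm
  have hfrat : ∀ g : G, ∃ c : K, (c : G) * g ∈ N := by
    intro g
    obtain ⟨c, hc⟩ := exists_conj_eq hC₁ (isFrobeniusComplement_map hC₁ (MulAut.conjNormal g : MulAut K))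
    refine ⟨c, Subgroup.mem_normalizer_iff_map_conj_eq.2 ?_⟩
    conv_rhs => rw [hC₁', ← hc]
    rw [hC₁', Cfsg.Agent.Solvable.conj_eq_map, Subgroup.map_map, Subgroup.map_map, Subgroup.map_map]
    congr 1
    ext x
    simp [mul_assoc]
  have hNH : ∀ x ∈ N, x ∈ H → x = 1 := by
    intro x hxN hxH
    have hxK := hlt.le hxH
    have h1 := mem_normalizer_of_map C₁ hxK hxN
    rw [normalizer_eq_self hC₁] at h1
    exact congrArg Subtype.val (eq_one_of_mem_kernel_of_mem (H := C₁) (x := (⟨x, hxK⟩ : K))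
      (by rw [hk₁]; exact hxH) (g := 1) (by simpa using h1))
  have hN : ∀ g : G, ∃ u ∈ N, g⁻¹ * u ∈ H := by
    intro g
    obtain ⟨c, hc⟩ := hfrat g
    obtain ⟨⟨⟨h₀, hh₀⟩, ⟨c₀, hc₀⟩⟩, he, -⟩ := hc₁.existsUnique c⁻¹
    have he' : h₀ * c₀ = c⁻¹ := he
    refine ⟨(c₀ : G) * ((c : G) * g), N.mul_mem (Subgroup.le_normalizer ⟨c₀, hc₀, rfl⟩) hc, ?_⟩
    have hh : (h₀ : G) * (c₀ : G) = ((c : G))⁻¹ := congrArg Subtype.val he'
    have e : g⁻¹ * ((c₀ : G) * ((c : G) * g)) = g⁻¹ * (h₀ : G)⁻¹ * g⁻¹⁻¹ := by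
      have : (c₀ : G) = (h₀ : G)⁻¹ * ((c : G))⁻¹ := by rw [← hh, inv_mul_cancel_left]
      rw [this]
      group
    rw [e]
    exact Subgroup.Normal.conj_mem inferInstance _ (H.inv_mem hh₀) _
  have hbij : Function.Bijective (fun x : N => ((x : G) : G ⧸ H)) := by
    constructor
    · intro a b hab
      have h1 : (a : G)⁻¹ * b ∈ H := QuotientGroup.eq.1 hab
      exact Subtype.ext (inv_mul_eq_one.1 (hNH _ (N.mul_mem (N.inv_mem a.2) b.2) h1))
    · intro x
      obtain ⟨g, rfl⟩ := QuotientGroup.mk_surjective x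
      obtain ⟨u, hu, hgu⟩ := hN g
      exact ⟨⟨u, hu⟩, (QuotientGroup.eq.2 hgu).symm⟩
  have hNcard : Nat.card N = Nat.card Kb * Nat.card (G ⧸ K) := by
    rw [Nat.card_eq_of_bijective _ hbij, Nat.card_congr e₂.toEquiv, hc₂.card_mul]
  have hyes : ∀ a b : ℕ, a.Prime → b.Prime → a ≠ b → a ∣ Nat.card H → b ∣ Nat.card (G ⧸ K) →
      ∃ g : G, orderOf g = a * b := by
    intro a b ha hb hne haH hbGK
    haveI := Fact.mk ha
    haveI := Fact.mk hb
    obtain ⟨z, hz⟩ := exists_prime_orderOf_dvd_card' (G := N) b (hNcard ▸ hbGK.mul_left _)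
    rw [← Subgroup.orderOf_coe] at hz
    have hbk : ¬ b ∣ k := fun h => hb.ne_one (Nat.dvd_one.1 (hcopGK.gcd_eq_one ▸ Nat.dvd_gcd h hbGK))
    have hzpow : ∀ y ∈ Subgroup.zpowers (z : G), y ≠ 1 → orderOf y = b := fun y hy hy1 => by
      refine orderOf_eq_prime ?_ hy1
      obtain ⟨i, rfl⟩ := hy
      show ((z : G) ^ i) ^ b = 1
      rw [← zpow_natCast, ← zpow_mul, mul_comm, zpow_mul, zpow_natCast, ← hz, pow_orderOf_eq_one, one_zpow]
    obtain ⟨A⟩ := (inferInstance : Nonempty (Sylow a H))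
    haveI hAn : (A : Subgroup H).Normal := A.normal_of_normalizerCondition Group.normalizerCondition_of_isNilpotent
    haveI hAchar : (A : Subgroup H).Characteristic := A.characteristic_of_normal hAn
    let A' := (A : Subgroup H).map H.subtype
    have hA'H : A' ≤ H := Subgroup.map_subtype_le _
    have hA0 : A' ≠ ⊥ := by
      rw [Ne, Subgroup.map_eq_bot_iff_of_injective _ H.subtype_injective]
      exact A.ne_bot_of_dvd_card haH
    haveI : A'.Normal := ConjAct.normal_of_characteristic_of_normal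
    haveI : Group.IsSolvable A' := Cfsg.Agent.Solvable.isSolvable_of_le (K := (⊤ : Subgroup G)) le_top
    obtain ⟨a', ha', V, hVn, hV0, hVA, hVc, hVp, hVe, -⟩ := Cfsg.Agent.Solvable.exists_minimal_normal_pGroup hA0
    have haa : a' = a := by
      obtain ⟨v, hv⟩ := Subgroup.ne_bot_iff_exists_ne_one.1 hV0
      haveI := Fact.mk ha'
      have h1 : orderOf (v : G) = a' := orderOf_eq_prime (hVe v v.2) fun e => hv (Subtype.ext e)
      obtain ⟨i, hi⟩ := (A.isPGroup'.map H.subtype).exists_card_eq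
      have h2 : a' ∣ Nat.card A' := h1 ▸ Subgroup.orderOf_coe (⟨(v : G), hVA v.2⟩ : A') ▸ orderOf_dvd_natCard _
      rw [hi] at h2
      exact (Nat.prime_dvd_prime_iff_eq ha' ha).1 (ha'.dvd_of_dvd_pow h2)
    subst haa
    haveI := hVn
    by_contra hno
    have hVX : V ⊓ Subgroup.centralizer ((Subgroup.zpowers (z : G) : Subgroup G) : Set G) = ⊥ := by
      rw [eq_bot_iff]
      rintro v ⟨hv, hvc⟩
      rw [Subgroup.mem_bot]
      by_contra hv1
      exact hno ⟨v * z, orderOf_commute_mul ha hb hne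
        (Subgroup.mem_centralizer_iff.1 hvc _ (Subgroup.mem_zpowers (z : G))).symm (orderOf_eq_prime (hVe v hv) hv1) hz⟩
    have hVQ : V ⊓ Subgroup.centralizer (C₁' : Set G) = ⊥ := by
      rw [eq_bot_iff]
      rintro v ⟨hv, hvc⟩
      obtain ⟨c, hc, hc1⟩ := exists_ne_one_mem hC₁
      have hvH : v ∈ H := hA'H (hVA hv)
      have e : c * ⟨v, hlt.le hvH⟩ = ⟨v, hlt.le hvH⟩ * c :=
        Subtype.ext (Subgroup.mem_centralizer_iff.1 hvc (c : G) ⟨c, hc, rfl⟩)
      exact Subgroup.mem_bot.2 (congrArg Subtype.val (hf₁ c hc hc1 ⟨v, hlt.le hvH⟩ hvH e))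
    have hfree : ∀ y ∈ Subgroup.zpowers (z : G), y ≠ 1 → C₁' ⊓ Subgroup.centralizer ({y} : Set G) = ⊥ := by
      intro y hy hy1
      rw [eq_bot_iff]
      rintro c ⟨hc, hcy⟩
      rw [Subgroup.mem_bot]
      have hyK : y ∉ K := fun hyK => by
        have hyC : (⟨y, hyK⟩ : K) ∈ C₁ := by
          have hyN : y ∈ N := Subgroup.zpowers_le.2 z.2 hy
          have h1 := mem_normalizer_of_map C₁ hyK hyN
          rwa [normalizer_eq_self hC₁] at h1
        refine hbk (hkC ▸ ?_)
        have h2 := orderOf_dvd_natCard (⟨⟨y, hyK⟩, hyC⟩ : C₁)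
        rwa [← Subgroup.orderOf_coe, ← Subgroup.orderOf_coe, hzpow y hy hy1] at h2
      have h1 : ((c : G) : G ⧸ H) = 1 := by
        refine eq_one_of_commute hc₂ hf₂ (x := (y : G ⧸ H)) ⟨c, hC₁K hc, rfl⟩ ?_ ?_
        · rintro ⟨u, hu, hue⟩
          have h1 := K.mul_mem hu (hlt.le (QuotientGroup.eq.1 hue))
          rw [mul_inv_cancel_left] at h1
          exact hyK h1
        · rw [← QuotientGroup.mk_mul, ← QuotientGroup.mk_mul,
            show y * c = c * y from (Subgroup.mem_centralizer_singleton_iff.1 hcy).symm]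
      exact hNH c (Subgroup.le_normalizer hc) ((QuotientGroup.eq_one_iff c).1 h1)
    haveI := hVc
    obtain ⟨v, hv⟩ := Subgroup.ne_bot_iff_exists_ne_one.1 hV0
    have hpow := Cfsg.Agent.FpfAction.pow_card_eq_one (Q := C₁') (X := Subgroup.zpowers (z : G)) (V := V)
      (Subgroup.zpowers_le.2 z.2) (by rw [Subgroup.normalizer_eq_top]; exact le_top)
      (by rw [Subgroup.normalizer_eq_top]; exact le_top) hfree hVQ hVX v
    rw [hcard₁'] at hpow
    refine hv ?_
    have hak : Nat.Coprime a' k := (hcopH.coprime_dvd_right haH).symm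
    rw [← pow_one v, ← hak.gcd_eq_one]
    exact pow_gcd_eq_one.2 ⟨Subtype.ext (hVe v v.2), hpow⟩
  have hdiv : ∀ a, a.Prime → a ∣ Nat.card G → ¬ a ∣ k → a ∣ Nat.card H ∨ a ∣ Nat.card (G ⧸ K) := by
    intro a ha haG hak
    rw [hcardG] at haG
    rcases ha.dvd_mul.1 haG with h | h
    · exact Or.inl ((ha.dvd_mul.1 h).resolve_left hak)
    · exact Or.inr h
  constructor
  · rintro ⟨g, hg⟩
    constructor
    · intro hpk
      by_contra hqk
      exact hsep p q hp hq hpk hqk ⟨g, hg⟩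
    · intro hqk
      by_contra hpk
      exact hsep q p hq hp hqk hpk ⟨g, by rw [hg, mul_comm]⟩
  · intro hiff
    by_cases hpk : p ∣ k
    · obtain ⟨g, hg⟩ := IsCyclic.exists_generator (α := C₁)
      have hog : orderOf g = k := by rw [hkC]; exact orderOf_eq_card_of_forall_mem_zpowers hg
      refine ⟨((g ^ (k / (p * q)) : C₁) : K), ?_⟩
      have hd : p * q ∣ orderOf g := by
        rw [hog]
        exact ((Nat.coprime_primes hp hq).2 hpq).mul_dvd_of_dvd_of_dvd hpk (hiff.1 hpk)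
      rw [Subgroup.orderOf_coe, Subgroup.orderOf_coe, ← hog,
        orderOf_pow_orderOf_div (by rw [hog]; exact hodd.pos.ne') hd]
    · have hqk : ¬ q ∣ k := fun h => hpk (hiff.2 h)
      rcases hdiv p hp hpG hpk with hpH | hpGK
      · rcases hdiv q hq hqG hqk with hqH | hqGK
        · obtain ⟨x, hx⟩ := exists_prime_orderOf_dvd_card' (G := H) p hpH
          obtain ⟨y, hy⟩ := exists_prime_orderOf_dvd_card' (G := H) q hqH
          obtain ⟨A, hA⟩ := (IsPGroup.of_card (G := Subgroup.zpowers x) (p := p) (n := 1)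
            (by rw [Nat.card_zpowers, hx, pow_one])).exists_le_sylow
          obtain ⟨B, hB⟩ := (IsPGroup.of_card (G := Subgroup.zpowers y) (p := q) (n := 1)
            (by rw [Nat.card_zpowers, hy, pow_one])).exists_le_sylow
          haveI : (A : Subgroup H).Normal := A.normal_of_normalizerCondition Group.normalizerCondition_of_isNilpotent
          haveI : (B : Subgroup H).Normal := B.normal_of_normalizerCondition Group.normalizerCondition_of_isNilpotent
          have hdis : Disjoint (A : Subgroup H) (B : Subgroup H) :=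
            IsPGroup.disjoint_of_ne p q hpq _ _ A.isPGroup' B.isPGroup'
          have hc : Commute x y := Subgroup.commute_of_normal_of_disjoint _ _ inferInstance inferInstance hdis _ _
            (hA (Subgroup.mem_zpowers x)) (hB (Subgroup.mem_zpowers y))
          exact ⟨((x * y : H) : G), by rw [Subgroup.orderOf_coe]; exact orderOf_commute_mul hp hq hpq hc hx hy⟩
        · exact hyes p q hp hq hpq hpH hqGK
      · rcases hdiv q hq hqG hqk with hqH | hqGK
        · obtain ⟨g, hg⟩ := hyes q p hq hp hpq.symm hqH hpGK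
          exact ⟨g, by rw [hg, mul_comm]⟩
        · obtain ⟨x, hx⟩ := IsCyclic.exists_generator (α := G ⧸ K)
          obtain ⟨g, rfl⟩ := QuotientGroup.mk_surjective x
          have hd : p * q ∣ orderOf g := by
            refine (((Nat.coprime_primes hp hq).2 hpq).mul_dvd_of_dvd_of_dvd hpGK hqGK).trans ?_
            rw [← orderOf_eq_card_of_forall_mem_zpowers hx]
            exact orderOf_map_dvd (QuotientGroup.mk' K) g
          exact ⟨g ^ (orderOf g / (p * q)), orderOf_pow_orderOf_div (orderOf_pos g).ne' hd⟩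

end Cfsg.Agent.S4001
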