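import Cfsg.Statements.S4002
import Cfsg.Agent.Lib.Solvable.ThreePrimes

set_option autoImplicit false
open Cfsg

namespace Cfsg.Agent.S4002

/-- If the set of element orders of a finite group G is {1, 2, …, n} with n ≥ 7, then G is not solvable. -/
theorem result {G : Type*} [Group G] [Finite G] (n : ℕ) (hn : 7 ≤ n) (h : Set.range (orderOf : G → ℕ) = {k : ℕ | 1 ≤ k ∧ k ≤ n}) : ¬ Group.IsSolvable G := by
  intro hs
  have hle : ∀ x : G, orderOf x ≤ n := fun x => by
    have h1 : orderOf x ∈ Set.range (orderOf : G → ℕ) := ⟨x, rfl⟩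
    rw [h] at h1; exact h1.2
  have hdvd : ∀ p, 1 ≤ p → p ≤ n → p ∣ Nat.card G := fun p h1 h2 => by
    obtain ⟨x, hx⟩ : p ∈ Set.range (orderOf : G → ℕ) := by rw [h]; exact ⟨h1, h2⟩
    exact hx ▸ orderOf_dvd_natCard x
  have key : ∀ p q r : ℕ, p.Prime → q.Prime → r.Prime → p ≤ n → q ≤ n → r ≤ n → p ≠ q → p ≠ r → q ≠ r →
      n < p * q → n < p * r → n < q * r → False := by
    intro p q r hp hq hr hpn hqn hrn a b c d e f
    obtain ⟨g, hg⟩ := Solvable.exists_orderOf_eq_mul_of_three_primes hp hq hr a b c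
      (hdvd p hp.one_le hpn) (hdvd q hq.one_le hqn) (hdvd r hr.one_le hrn)
    have := hle g
    rcases hg with hg | hg | hg <;> omega
  rcases lt_or_ge n 15 with h15 | h15
  · exact key 3 5 7 (by norm_num) (by norm_num) (by norm_num) (by omega) (by omega) (by omega)
      (by omega) (by omega) (by omega) (by omega) (by omega) (by omega)
  rcases lt_or_ge n 32 with h32 | h32
  · exact key 7 11 13 (by norm_num) (by norm_num) (by norm_num) (by omega) (by omega) (by omega)
      (by omega) (by omega) (by omega) (by omega) (by omega) (by omega)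
  obtain ⟨p, hp, hp1, hp2⟩ := Nat.exists_prime_lt_and_le_two_mul (n / 2) (by omega)
  obtain ⟨q, hq, hq1, hq2⟩ := Nat.exists_prime_lt_and_le_two_mul (n / 4) (by omega)
  obtain ⟨r, hr, hr1, hr2⟩ := Nat.exists_prime_lt_and_le_two_mul (n / 8) (by omega)
  have a1 : n < 2 * p := by omega
  have a2 : n < 4 * q := by omega
  have a3 : n < 8 * r := by omega
  refine key p q r hp hq hr (by omega) (by omega) (by omega) (by omega) (by omega) (by omega) ?_ ?_ ?_
  · nlinarith
  · nlinarith
  · nlinarith

end Cfsg.Agent.S4002
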