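import Cfsg.Statements.S4003
import Cfsg.Agent.EqLemmas
import Cfsg.Agent.Lib.PowEqOne.Basic
import Cfsg.Agent.Lib.PGroup.UniqueOrderP

set_option autoImplicit false
open Cfsg

namespace Cfsg.Agent.S4003

variable {G : Type*} [Group G] [Finite G]

/-- A set closed under changing generators of cyclic subgroups is counted by cyclic subgroups. -/
theorem card_eq_sum_totient [Fintype (Subgroup G)] (Pr : G → Prop)
    (hcl : ∀ x y, Pr x → Subgroup.zpowers y = Subgroup.zpowers x → Pr y)
    [DecidablePred fun C : Subgroup G => ∃ x, Pr x ∧ Subgroup.zpowers x = C] :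
    Nat.card {g : G // Pr g} =
      ∑ C ∈ Finset.univ.filter (fun C : Subgroup G => ∃ x, Pr x ∧ Subgroup.zpowers x = C),
        Nat.totient (Nat.card C) := by
  classical
  letI : Fintype G := Fintype.ofFinite G
  rw [Nat.card_eq_fintype_card, Fintype.card_subtype,
    Finset.card_eq_sum_card_fiberwise (f := fun g : G => Subgroup.zpowers g)
      (t := Finset.univ.filter (fun C : Subgroup G => ∃ x, Pr x ∧ Subgroup.zpowers x = C))]
  · refine Finset.sum_congr rfl fun C hC => ?_
    obtain ⟨x, hx, rfl⟩ := (Finset.mem_filter.1 hC).2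
    rw [← IsCyclic.card_orderOf_eq_totient (α := Subgroup.zpowers x) (d := Nat.card (Subgroup.zpowers x))
      (by rw [Nat.card_eq_fintype_card])]
    refine (Finset.card_bij (fun (g : G) hg => (⟨g, ?_⟩ : Subgroup.zpowers x)) ?_ ?_ ?_)
    · rw [← (Finset.mem_filter.1 hg).2]; exact Subgroup.mem_zpowers g
    · intro g hg
      rw [Finset.mem_filter]
      refine ⟨Finset.mem_univ _, ?_⟩
      rw [← Subgroup.orderOf_coe, ← Nat.card_zpowers]
      show Nat.card (Subgroup.zpowers g) = _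
      rw [(Finset.mem_filter.1 hg).2]
    · intro a _ b _ h
      exact congrArg Subtype.val h
    · intro y hy
      have hy' := (Finset.mem_filter.1 hy).2
      rw [← Subgroup.orderOf_coe, ← Nat.card_zpowers] at hy'
      have he : Subgroup.zpowers (y : G) = Subgroup.zpowers x :=
        Subgroup.eq_of_le_of_card_ge (Subgroup.zpowers_le.2 y.2) hy'.ge
      exact ⟨y, Finset.mem_filter.2 ⟨Finset.mem_filter.2 ⟨Finset.mem_univ _, hcl x y hx he⟩, he⟩, rfl⟩
  · intro g hg
    exact Finset.mem_filter.2 ⟨Finset.mem_univ _, g, (Finset.mem_filter.1 hg).2, rfl⟩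

theorem totient_split {p s : ℕ} (hp : p.Prime) (hs : 1 ≤ s) :
    p * Nat.totient (p ^ s) = p ^ s * (p - 1) := by
  obtain ⟨t, rfl⟩ : ∃ t, s = t + 1 := ⟨s - 1, by omega⟩
  rw [Nat.totient_prime_pow_succ hp t, pow_succ]
  ring

omit [Finite G] in
/-- Right multiplication by a normal elementary abelian subgroup of order `p²` keeps `p`-th powers. -/
theorem pow_prime_mul {p : ℕ} [hp : Fact p.Prime] (hodd : p ≠ 2) {E : Subgroup G}
    (hEp : ∀ e ∈ E, e ^ p = 1) (hc : ∀ x : G, ∀ e ∈ E, e * x * e⁻¹ * x⁻¹ ∈ Subgroup.center G ⊓ E)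
    (x : G) {e : G} (he : e ∈ E) : (x * e) ^ p = x ^ p := by
  obtain ⟨c, hcC, hce⟩ : ∃ c, c ∈ Subgroup.center G ⊓ E ∧ e * x = c * (x * e) :=
    ⟨_, hc x e he, by group⟩
  have hcc : ∀ g : G, Commute c g := fun g => (Subgroup.mem_center_iff.1 hcC.1 g).symm
  have h1 : ∀ k : ℕ, e ^ k * x = c ^ k * (x * e ^ k) := by
    intro k
    induction k with
    | zero => simp
    | succ k ih =>
      rw [pow_succ, mul_assoc, hce, ← mul_assoc, ((hcc (e ^ k)).symm).eq, mul_assoc, ← mul_assoc (e ^ k),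
        ih, ← mul_assoc, ← mul_assoc, ← pow_succ', mul_assoc, mul_assoc, ← pow_succ]
  have h2 : ∀ k : ℕ, (x * e) ^ k = x ^ k * e ^ k * c ^ k.choose 2 := by
    intro k
    induction k with
    | zero => simp
    | succ k ih =>
      calc (x * e) ^ (k + 1) = x ^ k * e ^ k * c ^ k.choose 2 * (x * e) := by rw [pow_succ, ih]
        _ = x ^ k * (e ^ k * x) * e * c ^ k.choose 2 := by
            rw [mul_assoc _ (c ^ _), ((hcc (x * e)).pow_left _).eq, ← mul_assoc]
            simp only [mul_assoc]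
        _ = x ^ k * (c ^ k * (x * e ^ k)) * e * c ^ k.choose 2 := by rw [h1]
        _ = x ^ (k + 1) * e ^ (k + 1) * (c ^ k * c ^ k.choose 2) := by
            rw [((hcc (x * e ^ k)).pow_left k).eq, pow_succ x, pow_succ e]
            simp only [mul_assoc]
            rw [← mul_assoc (c ^ k) e, ((hcc e).pow_left k).eq, mul_assoc]
        _ = _ := by rw [← pow_add, Nat.choose_succ_succ' k 1, Nat.choose_one_right]
  obtain ⟨d, hd⟩ := hp.out.dvd_choose_self two_ne_zero (lt_of_le_of_ne hp.out.two_le (Ne.symm hodd))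
  rw [h2, hEp e he, hd, pow_mul, hEp c hcC.2, one_pow, mul_one, mul_one]

/-- Miller's count inside a noncyclic p-group. -/
theorem pow_dvd_card_orderOf_pGroup {p : ℕ} [hp : Fact p.Prime] (hodd : p ≠ 2) {P : Type*} [Group P]
    [Finite P] (hP : IsPGroup p P) (hnc : ¬ IsCyclic P) {s : ℕ} (hs : 1 < s) :
    p ^ s ∣ Nat.card {g : P // orderOf g = p ^ s} := by
  classical
  obtain ⟨t, rfl⟩ : ∃ t, s = t + 2 := ⟨s - 2, by omega⟩
  obtain ⟨E, -, hEn, ⟨hEc, hEp⟩, hEcard⟩ := Cfsg.Agent.PGroup.exists_normal_elementary_sq hodd hP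
    (S := (⊤ : Subgroup P)) (fun h => hnc (isCyclic_of_surjective _ (Subgroup.topEquiv (G := P)).surjective))
  haveI := hEn
  have hE0 : E ≠ ⊥ := fun h => by
    rw [h, Subgroup.card_bot] at hEcard
    exact absurd hEcard.symm (Nat.one_lt_pow two_ne_zero hp.out.one_lt).ne'
  have hcc : ⁅E, (⊤ : Subgroup P)⁆ ≤ Subgroup.center P := by
    have hlt := Cfsg.Agent.PGroup.commutator_lt_of_ne_bot hP hE0
    obtain ⟨i, hi, hi'⟩ := (Nat.dvd_prime_pow hp.out).1 (hEcard ▸ Subgroup.card_dvd_of_le hlt.le)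
    rcases Nat.lt_or_ge i 1 with h | h
    · have : i = 0 := by omega
      rw [this, pow_zero] at hi'
      rw [Subgroup.eq_bot_of_card_eq _ hi']
      exact bot_le
    · rcases eq_or_lt_of_le hi with h2 | h2
      · exact absurd (Subgroup.eq_of_le_of_card_ge hlt.le (by rw [hi', h2, hEcard])) hlt.ne
      · have : i = 1 := by omega
        rw [this, pow_one] at hi'
        exact Cfsg.Agent.PGroup.le_center_of_card_eq hP hi'
  have hpow : ∀ x : P, ∀ e ∈ E, (x * e) ^ p = x ^ p := fun x e he =>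
    pow_prime_mul hodd hEp (fun x e he => by
      have h1 : e * x * e⁻¹ * x⁻¹ ∈ ⁅E, (⊤ : Subgroup P)⁆ :=
        Subgroup.commutator_mem_commutator he (Subgroup.mem_top x)
      exact ⟨hcc h1, Subgroup.commutator_le_left E ⊤ h1⟩) x he
  have hmem : ∀ x : P, orderOf x = p ^ (t + 2) → ∀ e ∈ E, orderOf (x * e) = p ^ (t + 2) := by
    intro x hx e he
    refine orderOf_eq_prime_pow ?_ ?_
    · rw [pow_succ', pow_mul, hpow x e he, ← pow_mul, ← pow_succ']
      exact pow_ne_one_of_lt_orderOf (pow_ne_zero _ hp.out.ne_zero)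
        (hx ▸ Nat.pow_lt_pow_right hp.out.one_lt (by omega))
    · rw [pow_succ', pow_mul, hpow x e he, ← pow_mul, ← pow_succ', ← hx, pow_orderOf_eq_one]
  let Pr : P ⧸ E → Prop := fun y => ∃ x : P, orderOf x = p ^ (t + 2) ∧ (x : P ⧸ E) = y
  have hcard : Nat.card {g : P // orderOf g = p ^ (t + 2)} = p ^ 2 * Nat.card {y : P ⧸ E // Pr y} := by
    rw [← hEcard, mul_comm, ← Nat.card_prod]
    refine (Nat.card_eq_of_bijective (fun x : {y : P ⧸ E // Pr y} × E =>
      (⟨x.1.2.choose * (x.2 : P), hmem _ x.1.2.choose_spec.1 _ x.2.2⟩ : {g : P // orderOf g = p ^ (t + 2)})) ⟨?_, ?_⟩).symm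
    · rintro ⟨a, u⟩ ⟨b, v⟩ h
      have h' : a.2.choose * (u : P) = b.2.choose * (v : P) := congrArg Subtype.val h
      have e1 := congrArg (QuotientGroup.mk' E) h'
      rw [map_mul, map_mul] at e1
      have hu : QuotientGroup.mk' E (u : P) = 1 := (QuotientGroup.eq_one_iff _).2 u.2
      have hv : QuotientGroup.mk' E (v : P) = 1 := (QuotientGroup.eq_one_iff _).2 v.2
      rw [hu, hv, mul_one, mul_one] at e1
      have hab : a = b := Subtype.ext (a.2.choose_spec.2.symm.trans (e1.trans b.2.choose_spec.2))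
      subst hab
      exact Prod.ext rfl (Subtype.ext (mul_left_cancel h'))
    · rintro ⟨g, hg⟩
      have hy : Pr (g : P ⧸ E) := ⟨g, hg, rfl⟩
      refine ⟨(⟨_, hy⟩, ⟨hy.choose⁻¹ * g, QuotientGroup.eq.1 hy.choose_spec.2⟩), Subtype.ext ?_⟩
      exact mul_inv_cancel_left _ _
  letI : Fintype (Subgroup (P ⧸ E)) := Fintype.ofFinite _
  rw [hcard, pow_add, mul_comm (p ^ t), card_eq_sum_totient Pr ?_]
  · refine mul_dvd_mul_left _ (Finset.dvd_sum fun C hC => ?_)
    obtain ⟨y, ⟨x, hx, rfl⟩, rfl⟩ := (Finset.mem_filter.1 hC).2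
    obtain ⟨i, hi, hi'⟩ := (Nat.dvd_prime_pow hp.out).1
      (hx ▸ orderOf_map_dvd (QuotientGroup.mk' E) x : orderOf (x : P ⧸ E) ∣ p ^ (t + 2))
    have hti : t + 1 ≤ i := by
      by_contra hlt
      have h1 : x ^ p ^ i ∈ E := by
        rw [← QuotientGroup.eq_one_iff, QuotientGroup.mk_pow, ← hi', pow_orderOf_eq_one]
      have h2 := hEp _ h1
      rw [← pow_mul, ← pow_succ] at h2
      exact pow_ne_one_of_lt_orderOf (pow_ne_zero _ hp.out.ne_zero)
        (hx ▸ Nat.pow_lt_pow_right hp.out.one_lt (by omega)) h2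
    rw [Nat.card_zpowers, hi', show i = (i - 1) + 1 by omega, Nat.totient_prime_pow_succ hp.out]
    exact dvd_mul_of_dvd_left (pow_dvd_pow p (by omega)) _
  · rintro y z ⟨x, hx, rfl⟩ hz
    obtain ⟨k, hk⟩ : ∃ k : ℕ, (x : P ⧸ E) ^ k = z :=
      mem_powers_iff_mem_zpowers.2 (by rw [← hz]; exact Subgroup.mem_zpowers z)
    refine ⟨x ^ k, ?_, by rw [QuotientGroup.mk_pow, hk]⟩
    have hne : 1 < orderOf (x : P ⧸ E) := by
      by_contra hle
      have h1 : orderOf (x : P ⧸ E) = 1 := by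
        have := orderOf_pos (x : P ⧸ E)
        omega
      have h2 := hEp x ((QuotientGroup.eq_one_iff x).1 (orderOf_eq_one_iff.1 h1))
      exact pow_ne_one_of_lt_orderOf hp.out.ne_zero
        (hx ▸ (lt_self_pow₀ hp.out.one_lt (by omega))) h2
    have hcop : Nat.Coprime k p := by
      refine ((hp.out.coprime_iff_not_dvd).2 fun hpk => ?_).symm
      have h1 : orderOf z = orderOf (x : P ⧸ E) := by
        rw [← Nat.card_zpowers, ← Nat.card_zpowers, hz]
      rw [← hk, orderOf_pow] at h1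
      obtain ⟨i, -, hi'⟩ := (Nat.dvd_prime_pow hp.out).1
        (hx ▸ orderOf_map_dvd (QuotientGroup.mk' E) x : orderOf (x : P ⧸ E) ∣ p ^ (t + 2))
      have hi0 : i ≠ 0 := fun h => by rw [hi', h, pow_zero] at hne; omega
      have h3 : p ∣ (orderOf (x : P ⧸ E)).gcd k := Nat.dvd_gcd (hi' ▸ dvd_pow_self p hi0) hpk
      have h4 : 1 < (orderOf (x : P ⧸ E)).gcd k := lt_of_lt_of_le hp.out.one_lt
        (Nat.le_of_dvd (Nat.gcd_pos_of_pos_left _ (orderOf_pos _)) h3)
      exact (Nat.div_lt_self (orderOf_pos _) h4).ne h1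
    rw [Nat.Coprime.orderOf_pow (by rw [hx]; exact (hcop.pow_right _).symm), hx]

/-- Miller's theorem on cyclic subgroups. -/
theorem pow_dvd_card_orderOf {p : ℕ} [hp : Fact p.Prime] (hodd : p ≠ 2) {H : Type*} [Group H] [Finite H]
    (P : Sylow p H) (hnc : ¬ IsCyclic (P : Subgroup H)) {s : ℕ} (hs : 1 < s) :
    p ^ s ∣ Nat.card {g : H // orderOf g = p ^ s} := by
  classical
  rw [Nat.card_congr (Equiv.sumCompl (fun g : {g : H // orderOf g = p ^ s} => (g : H) ∈ (P : Subgroup H))).symm,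
    Nat.card_sum]
  refine dvd_add ?_ ?_
  · rw [Nat.card_congr (β := {y : (P : Subgroup H) // orderOf y = p ^ s})
      { toFun := fun g => ⟨⟨g.1.1, g.2⟩, by rw [← Subgroup.orderOf_coe]; exact g.1.2⟩
        invFun := fun y => ⟨⟨y.1.1, by rw [Subgroup.orderOf_coe]; exact y.2⟩, y.1.2⟩
        left_inv := fun g => rfl
        right_inv := fun y => rfl }]
    exact pow_dvd_card_orderOf_pGroup hodd P.isPGroup' hnc hs
  · rw [Nat.card_congr (Equiv.subtypeSubtypeEquivSubtypeInter (fun g : H => orderOf g = p ^ s)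
      (fun g => ¬ g ∈ (P : Subgroup H)))]
    letI : Fintype (Subgroup H) := Fintype.ofFinite _
    rw [card_eq_sum_totient (fun g : H => orderOf g = p ^ s ∧ g ∉ (P : Subgroup H)) fun x y hx hy => by
      refine ⟨by rw [← Nat.card_zpowers, hy, Nat.card_zpowers, hx.1], fun h => hx.2 ?_⟩
      exact Subgroup.zpowers_le.2 h (hy ▸ Subgroup.mem_zpowers x)]
    set T := Finset.univ.filter fun C : Subgroup H =>
      ∃ x, (orderOf x = p ^ s ∧ x ∉ (P : Subgroup H)) ∧ Subgroup.zpowers x = C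
    have hT : ∀ C : Subgroup H, C ∈ T ↔ IsCyclic C ∧ Nat.card C = p ^ s ∧ ¬ C ≤ (P : Subgroup H) := by
      intro C
      rw [Finset.mem_filter]
      constructor
      · rintro ⟨-, x, ⟨hx, hxP⟩, rfl⟩
        exact ⟨inferInstance, by rw [Nat.card_zpowers, hx], fun h => hxP (h (Subgroup.mem_zpowers x))⟩
      · rintro ⟨hc, hcard, hle⟩
        obtain ⟨x, hx⟩ := Subgroup.isCyclic_iff_exists_zpowers_eq_top C |>.1 hc
        refine ⟨Finset.mem_univ _, x, ⟨by rw [← Nat.card_zpowers, hx, hcard], fun h => hle ?_⟩, hx⟩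
        rw [← hx]
        exact Subgroup.zpowers_le.2 h
    rw [Finset.sum_congr rfl (fun (C : Subgroup H) (hC : C ∈ T) =>
      show Nat.totient (Nat.card C) = Nat.totient (p ^ s) by rw [((hT C).1 hC).2.1]), Finset.sum_const, smul_eq_mul]
    have hstab : ∀ (g : (P : Subgroup H)) (C : Subgroup H), C ∈ T → C.map (MulAut.conj (g : H)).toMonoidHom ∈ T := by
      intro g C hC
      rw [hT] at hC ⊢
      let e := (C.equivMapOfInjective (MulAut.conj (g : H)).toMonoidHom (MulAut.conj (g : H)).injective)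
      refine ⟨e.isCyclic.1 hC.1, by rw [← Nat.card_congr e.toEquiv, hC.2.1], fun h => hC.2.2 fun c hc => ?_⟩
      have h1 : (g : H) * c * (g : H)⁻¹ ∈ (P : Subgroup H) := h ⟨c, hc, rfl⟩
      have h2 := (P : Subgroup H).mul_mem ((P : Subgroup H).mul_mem ((P : Subgroup H).inv_mem g.2) h1) g.2
      simpa [mul_assoc] using h2
    letI : MulAction (P : Subgroup H) {C : Subgroup H // C ∈ T} :=
      { smul := fun g C => ⟨C.1.map (MulAut.conj (g : H)).toMonoidHom, hstab g C.1 C.2⟩
        one_smul := fun C => Subtype.ext (by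
          show C.1.map _ = C.1
          ext x; simp)
        mul_smul := fun a b C => Subtype.ext (by
          show C.1.map _ = (C.1.map _).map _
          rw [Subgroup.map_map]
          congr 1
          ext x; simp [mul_assoc]) }
    have hmod := P.isPGroup'.card_modEq_card_fixedPoints {C : Subgroup H // C ∈ T}
    haveI hempty : IsEmpty (MulAction.fixedPoints (P : Subgroup H) {C : Subgroup H // C ∈ T}) := ⟨fun ⟨C, hC⟩ => by
      have hCT := (hT C.1).1 C.2
      refine hCT.2.2 ?_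
      have hn : (P : Subgroup H) ≤ Subgroup.normalizer (C.1 : Set H) := fun g hg => by
        have h1 : C.1.map (MulAut.conj g).toMonoidHom = C.1 := congrArg Subtype.val (hC ⟨g, hg⟩)
        refine Subgroup.mem_normalizer_iff.2 fun x => ⟨fun hx => ?_, fun hx => ?_⟩
        · rw [← h1]; exact ⟨x, hx, rfl⟩
        · rw [← h1] at hx
          obtain ⟨y, hy, hy'⟩ := hx
          exact ((MulAut.conj g).injective hy') ▸ hy
      have hpg : IsPGroup p C.1 := IsPGroup.of_card hCT.2.1
      exact le_sup_right.trans (P.3 (IsPGroup.to_sup_of_normal_right' P.isPGroup' hpg hn) le_sup_left).le⟩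
    rw [Nat.card_of_isEmpty (α := MulAction.fixedPoints (P : Subgroup H) {C : Subgroup H // C ∈ T}),
      Nat.card_eq_fintype_card, Fintype.card_coe] at hmod
    obtain ⟨c, hc⟩ := Nat.modEq_zero_iff_dvd.1 hmod
    rw [hc, show p * c * Nat.totient (p ^ s) = c * (p * Nat.totient (p ^ s)) by ring,
      totient_split hp.out (by omega)]
    exact dvd_mul_of_dvd_right (dvd_mul_right _ _) _

/-- Let G be a finite group, p an odd prime dividing the order of G whose Sylow p-subgroups are not cyclic, and n = p^s·m with s > 1 and m coprime to p. Then the number of elements of G of order n is a multiple of p^s. -/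
theorem result {G : Type*} [Group G] [Finite G] (p : ℕ) [Fact p.Prime] (hodd : p ≠ 2) (hpG : p ∣ Nat.card G)
    (P : Sylow p G) (hP : ¬ IsCyclic ↥(P : Subgroup G)) (s m : ℕ) (hs : 1 < s) (hm : Nat.Coprime p m) :
    p ^ s ∣ Nat.card {g : G // orderOf g = p ^ s * m} := by
  classical
  have hp := (Fact.out : p.Prime)
  have hcop : Nat.Coprime m (p ^ s) := (hm.pow_left s).symm
  have hm0 : m ≠ 0 := by
    rintro rfl
    simp [Nat.coprime_zero_right, hp.ne_one] at hm
  letI := Fintype.ofFinite G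
  obtain ⟨e, f, hs'⟩ := Cfsg.Agent.PowEqOne.exists_split (G := G) hcop
  let Y : G → Type _ := fun z => {y : Subgroup.centralizer ({z} : Set G) // orderOf y = p ^ s}
  have hbij : Nat.card {g : G // orderOf g = p ^ s * m} =
      ∑ z : {z : G // orderOf z = m}, Nat.card (Y z) := by
    rw [← Nat.card_sigma]
    refine (Nat.card_eq_of_bijective (fun x : Σ z : {z : G // orderOf z = m}, Y z =>
      (⟨(x.1 : G) * (x.2.1 : G), ?_⟩ : {g : G // orderOf g = p ^ s * m})) ⟨?_, ?_⟩).symm
    · have hc : Commute (x.1 : G) (x.2.1 : G) := Cfsg.Agent.PowEqOne.mem_centralizer_iff_commute.mp x.2.1.2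
      have hy : orderOf (x.2.1 : G) = p ^ s := by rw [Subgroup.orderOf_coe]; exact x.2.2
      rw [hc.orderOf_mul_eq_mul_orderOf_of_coprime (by rw [x.1.2, hy]; exact hcop), x.1.2, hy, mul_comm]
    · rintro ⟨⟨z, hz⟩, ⟨⟨y, hy⟩, hyo⟩⟩ ⟨⟨z', hz'⟩, ⟨⟨y', hy'⟩, hyo'⟩⟩ h
      have h' : z * y = z' * y' := congrArg Subtype.val h
      have hyo2 : orderOf y = p ^ s := by rw [← hyo, ← Subgroup.orderOf_coe]
      have hyo2' : orderOf y' = p ^ s := by rw [← hyo', ← Subgroup.orderOf_coe]
      have p1 : ∀ {a : G} {k : ℕ}, orderOf a = k → a ^ k = 1 := fun h => h ▸ pow_orderOf_eq_one _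
      have hc := Cfsg.Agent.PowEqOne.mem_centralizer_iff_commute.mp hy
      have hc' := Cfsg.Agent.PowEqOne.mem_centralizer_iff_commute.mp hy'
      have hg : (z * y) ^ (m * p ^ s) = 1 := by
        rw [hc.mul_pow, pow_mul, p1 hz, one_pow, one_mul, mul_comm, pow_mul, p1 hyo2, one_pow]
      obtain ⟨e1, e2⟩ := (hs' _ hg).2.2.2 z y hc (p1 hz) (p1 hyo2) rfl
      obtain ⟨e1', e2'⟩ := (hs' _ hg).2.2.2 z' y' hc' (p1 hz') (p1 hyo2') h'.symm
      obtain rfl : z = z' := e1.symm.trans e1'
      obtain rfl : y = y' := e2.symm.trans e2'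
      rfl
    · rintro ⟨g, hg⟩
      have hg1 : g ^ (m * p ^ s) = 1 := by rw [mul_comm, ← hg, pow_orderOf_eq_one]
      obtain ⟨h1, h2, h3, -⟩ := hs' g hg1
      have hc := Commute.pow_pow_self g e f
      have d1 := orderOf_dvd_of_pow_eq_one h1
      have d2 := orderOf_dvd_of_pow_eq_one h2
      have hmul : orderOf (g ^ e) * orderOf (g ^ f) = p ^ s * m := by
        rw [← hc.orderOf_mul_eq_mul_orderOf_of_coprime (Nat.Coprime.coprime_dvd_left d1 (hcop.coprime_dvd_right d2)),
          h3, hg]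
      have o1 : orderOf (g ^ e) = m := by
        refine Nat.dvd_antisymm d1 ?_
        have h4 : m ∣ orderOf (g ^ e) * orderOf (g ^ f) := hmul ▸ dvd_mul_left _ _
        exact (hcop.coprime_dvd_right d2).dvd_of_dvd_mul_right h4
      have o2 : orderOf (g ^ f) = p ^ s := by
        rw [o1, mul_comm (p ^ s)] at hmul
        exact Nat.eq_of_mul_eq_mul_left (Nat.pos_of_ne_zero hm0) hmul
      exact ⟨⟨⟨g ^ e, o1⟩, ⟨⟨g ^ f, Cfsg.Agent.PowEqOne.mem_centralizer_iff_commute.mpr hc⟩,
        by rw [← Subgroup.orderOf_coe]; exact o2⟩⟩, Subtype.ext h3⟩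
  rw [hbij]
  have hconj : ∀ a z : G, orderOf z = m → orderOf (a * z * a⁻¹) = m := fun a z hz => by
    rw [← MulAut.conj_apply, MulEquiv.orderOf_eq, hz]
  letI := Cfsg.Agent.PowEqOne.conjSubtype (fun z : G => orderOf z = m) hconj
  refine Cfsg.Agent.PowEqOne.dvd_sum_of_orbit (A := ConjAct G) _ ?_ ?_
  · intro a z
    let g := ConjAct.ofConjAct a
    have hm' : ∀ (b w : G) (y : Subgroup.centralizer ({w} : Set G)),
        b * (y : G) * b⁻¹ ∈ Subgroup.centralizer ({b * w * b⁻¹} : Set G) := fun b w y => by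
      have hc := Cfsg.Agent.PowEqOne.mem_centralizer_iff_commute.mp y.2
      exact Cfsg.Agent.PowEqOne.mem_centralizer_iff_commute.mpr (Commute.map hc (MulAut.conj b).toMonoidHom)
    show Nat.card (Y (g * z.1 * g⁻¹)) = Nat.card (Y z.1)
    refine Nat.card_congr
      { toFun := fun y => ⟨⟨g⁻¹ * (y.1 : G) * g⁻¹⁻¹, ?_⟩, ?_⟩
        invFun := fun y => ⟨⟨g * (y.1 : G) * g⁻¹, hm' g z.1 y.1⟩, by
          rw [← Subgroup.orderOf_coe]; show orderOf (g * (y.1 : G) * g⁻¹) = _
          rw [← MulAut.conj_apply, MulEquiv.orderOf_eq, Subgroup.orderOf_coe]; exact y.2⟩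
        left_inv := fun y => Subtype.ext (Subtype.ext (by simp [mul_assoc]))
        right_inv := fun y => Subtype.ext (Subtype.ext (by simp [mul_assoc])) }
    · simpa [mul_assoc] using hm' g⁻¹ _ y.1
    · rw [← Subgroup.orderOf_coe]; show orderOf (g⁻¹ * (y.1 : G) * g⁻¹⁻¹) = _
      rw [← MulAut.conj_apply, MulEquiv.orderOf_eq, Subgroup.orderOf_coe]; exact y.2
  · intro z
    rw [Cfsg.Agent.PowEqOne.card_conj_orbit (fun z : G => orderOf z = m) hconj z]
    set C := Subgroup.centralizer ({(z : G)} : Set G)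
    obtain ⟨S⟩ := (inferInstance : Nonempty (Sylow p C))
    by_cases hS : IsCyclic (S : Subgroup C)
    · have hdvd : p ∣ C.index := by
        by_contra hnd
        have hmap : Nat.card ((S : Subgroup C).map C.subtype) = p ^ (Nat.card G).factorization p := by
          rw [← Nat.card_congr ((S : Subgroup C).equivMapOfInjective _ C.subtype_injective).toEquiv,
            S.card_eq_multiplicity, ← C.card_mul_index,
            Nat.factorization_mul Nat.card_pos.ne' Subgroup.index_ne_zero_of_finite, Finsupp.add_apply,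
            Nat.factorization_eq_zero_of_not_dvd hnd, add_zero]
        let S' : Sylow p G := Sylow.ofCard _ hmap
        let e' : (S : Subgroup C) ≃* (P : Subgroup G) :=
          ((S : Subgroup C).equivMapOfInjective _ C.subtype_injective).trans (S'.equiv P)
        exact hP (e'.isCyclic.1 hS)
      obtain ⟨c, hc⟩ := Cfsg.Agent.PowEqOne.totient_dvd_card_orderOf (G := C) (p ^ s)
      obtain ⟨d, hd⟩ := hdvd
      show p ^ s ∣ C.index * Nat.card {y : C // orderOf y = p ^ s}
      rw [hc, hd, show p * d * (Nat.totient (p ^ s) * c) = d * c * (p * Nat.totient (p ^ s)) by ring,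
        totient_split hp (by omega)]
      exact dvd_mul_of_dvd_right (dvd_mul_right _ _) _
    · exact dvd_mul_of_dvd_right (pow_dvd_card_orderOf hodd S hS hs) _

end Cfsg.Agent.S4003
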