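import Cfsg.Statements.S4005
import Cfsg.Agent.EqLemmas
import Cfsg.Agent.Lib.CharApp.Burnside
import Cfsg.Agent.Lib.Solvable.Basic

set_option autoImplicit false
open Cfsg

namespace Cfsg.Agent.S4005

variable {G : Type*} [Group G]

theorem no_six (hord : ∀ g : G, g ^ 2 = 1 ∨ g ^ 3 = 1) {a b : G} (hab : a * b = b * a)
    (ha : a ^ 2 = 1) (hb : b ^ 3 = 1) : a = 1 ∨ b = 1 := by
  have e2 : (a * b) ^ 2 = b ^ 2 := by rw [Commute.mul_pow hab, ha, one_mul]
  have e3 : (a * b) ^ 3 = a := by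
    rw [Commute.mul_pow hab, hb, mul_one, pow_succ, ha, one_mul]
  rcases hord (a * b) with h | h
  · right
    rw [e2] at h
    rwa [pow_succ, h, one_mul] at hb
  · left
    rwa [e3] at h

theorem conj_cube (x y : G) : x ^ 3 * y * (x ^ 3)⁻¹ = x * (x * (x * y * x⁻¹) * x⁻¹) * x⁻¹ := by
  simp only [pow_succ, pow_zero, one_mul, mul_inv_rev, mul_assoc]

theorem normal_centralizer (A : Subgroup G) [A.Normal] : (Subgroup.centralizer (A : Set G)).Normal :=
  inferInstance

theorem three_case (hord : ∀ g : G, g ^ 2 = 1 ∨ g ^ 3 = 1) (A : Subgroup G) [A.Normal]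
    (hA : ∀ a ∈ A, a ^ 3 = 1) (hc : ∀ a ∈ A, ∀ b ∈ A, a * b = b * a) {a₀ : G} (ha₀ : a₀ ∈ A)
    (hne : a₀ ≠ 1) (t : G) (ht : t ^ 2 = 1) (ht1 : t ≠ 1) :
    ∃ N : Subgroup G, N.Normal ∧ Cfsg.IsElementaryAbelian 3 N ∧ N.index = 2 := by
  set C := Subgroup.centralizer (A : Set G) with hC
  have hmemC : ∀ g : G, g ∈ C ↔ ∀ a ∈ A, g * a * g⁻¹ = a := fun g => by
    rw [hC, Subgroup.mem_centralizer_iff]
    exact ⟨fun h a ha => by rw [← h a ha, mul_inv_cancel_right],
      fun h a ha => by conv_lhs => rw [← h a ha]; simp⟩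
  have hC2 : ∀ x ∈ C, x ^ 2 = 1 → x = 1 := fun x hx h2 =>
    (no_six hord ((Subgroup.mem_centralizer_iff.1 hx a₀ ha₀).symm) h2 (hA a₀ ha₀)).resolve_right hne
  have hC3 : ∀ x ∈ C, x ^ 3 = 1 := fun x hx => (hord x).elim
    (fun h => by rw [hC2 x hx h, one_pow]) id
  have hinv : ∀ u : G, u ^ 2 = 1 → u ≠ 1 → ∀ a ∈ A, u * a * u⁻¹ = a⁻¹ := by
    intro u hu hu1 a ha
    have hm : u * a * u⁻¹ ∈ A := Subgroup.Normal.conj_mem ‹A.Normal› a ha u
    have hu' : u⁻¹ = u := inv_eq_of_mul_eq_one_right (by rw [← pow_two, hu])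
    have hfix : u * (a * (u * a * u⁻¹)) = a * (u * a * u⁻¹) * u := by
      calc u * (a * (u * a * u⁻¹)) = u * ((u * a * u⁻¹) * a) := by rw [hc a ha _ hm]
        _ = u * u * a * u⁻¹ * a := by simp only [mul_assoc]
        _ = a * u * a := by rw [← pow_two, hu, hu', one_mul]
        _ = a * (u * a * u⁻¹) * u := by
          rw [mul_assoc a (u * a * u⁻¹) u, inv_mul_cancel_right, mul_assoc]
    have h3 : (a * (u * a * u⁻¹)) ^ 3 = 1 := hA _ (A.mul_mem ha hm)
    have h1 := (no_six hord hfix hu h3).resolve_left hu1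
    exact (inv_eq_of_mul_eq_one_right h1).symm
  have hsq : ∀ g : G, g ∉ C → g ^ 2 = 1 := by
    intro g hg
    refine (hord g).resolve_right fun hg3 => hg ?_
    have hg1 : g ≠ 1 := fun h => hg (h ▸ C.one_mem)
    by_cases hh : t * g = 1
    · rw [mul_eq_one_iff_inv_eq] at hh
      rw [← hh, inv_pow, inv_eq_one] at hg3
      rw [pow_succ, ht, one_mul] at hg3
      exact absurd hg3 ht1
    rcases hord (t * g) with h2 | h3
    · rw [hmemC]
      intro a ha
      have e1 : t * g * a * (t * g)⁻¹ = a⁻¹ := hinv _ h2 hh a ha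
      have e2 := hinv t ht ht1 (g * a * g⁻¹) (Subgroup.Normal.conj_mem ‹A.Normal› a ha g)
      have e3 : t * (g * a * g⁻¹) * t⁻¹ = t * g * a * (t * g)⁻¹ := by group
      rw [e3, e1, inv_inj] at e2
      exact e2.symm
    · exfalso
      apply hne
      have act : ∀ a ∈ A, t * g * a * (t * g)⁻¹ = (g * a * g⁻¹)⁻¹ := fun a ha => by
        rw [← hinv t ht ht1 _ (Subgroup.Normal.conj_mem ‹A.Normal› a ha g)]
        group
      have m1 : g * a₀ * g⁻¹ ∈ A := Subgroup.Normal.conj_mem ‹A.Normal› a₀ ha₀ g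
      have m2 : g * (g * a₀ * g⁻¹) * g⁻¹ ∈ A := Subgroup.Normal.conj_mem ‹A.Normal› _ m1 g
      have hconj : ∀ x y : G, x * y⁻¹ * x⁻¹ = (x * y * x⁻¹)⁻¹ := fun x y => by group
      have e : (t * g) ^ 3 * a₀ * ((t * g) ^ 3)⁻¹ = (g ^ 3 * a₀ * (g ^ 3)⁻¹)⁻¹ := by
        calc (t * g) ^ 3 * a₀ * ((t * g) ^ 3)⁻¹
            = t * g * (t * g * (t * g * a₀ * (t * g)⁻¹) * (t * g)⁻¹) * (t * g)⁻¹ := conj_cube _ _
          _ = t * g * (g * (g * a₀ * g⁻¹) * g⁻¹) * (t * g)⁻¹ := by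
              rw [act a₀ ha₀, hconj (t * g), act _ m1, inv_inv]
          _ = (g * (g * (g * a₀ * g⁻¹) * g⁻¹) * g⁻¹)⁻¹ := act _ m2
          _ = _ := by rw [conj_cube]
      rw [h3, hg3, one_mul, inv_one, mul_one] at e
      have h2' : a₀ ^ 2 = 1 := by rw [pow_two]; exact mul_eq_one_iff_eq_inv.2 e
      have := hA a₀ ha₀
      rwa [pow_succ, h2', one_mul] at this
  have htC : t ∉ C := fun h => ht1 (hC2 t h ht)
  refine ⟨C, normal_centralizer A, ⟨⟨⟨fun x y => Subtype.ext ?_⟩⟩, fun x hx => hC3 x hx⟩, ?_⟩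
  · have hi : ∀ z : C, t * (z : G) * t = (z : G)⁻¹ := fun z => by
      have h := hsq ((z : G) * t) (fun h => htC ((C.mul_mem_cancel_left z.2).1 h))
      rw [pow_two, mul_assoc, mul_eq_one_iff_inv_eq] at h
      rw [mul_assoc, ← h]
    have htt : t * t = 1 := by rw [← pow_two, ht]
    have e : ((x : G) * y)⁻¹ = (x : G)⁻¹ * (y : G)⁻¹ := by
      rw [← hi x, ← hi y, show ((x : G) * y) = ((x * y : C) : G) from rfl, ← hi (x * y),
        Subgroup.coe_mul]
      simp only [mul_assoc]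
      rw [← mul_assoc t t, htt, one_mul]
    show (x : G) * y = y * x
    rw [← inv_inj, e, mul_inv_rev]
  · rw [Subgroup.index_eq_two_iff]
    refine ⟨t, fun b => ?_⟩
    by_cases hb : b ∈ C
    · exact Or.inr ⟨hb, fun h => htC ((C.mul_mem_cancel_left hb).1 h)⟩
    · refine Or.inl ⟨?_, hb⟩
      have hb1 : b ≠ 1 := fun h => hb (h ▸ C.one_mem)
      rw [hmemC]
      intro a ha
      have e1 := hinv t ht ht1 a ha
      have e2 := hinv b (hsq b hb) hb1 _ (A.inv_mem ha)
      calc b * t * a * (b * t)⁻¹ = b * (t * a * t⁻¹) * b⁻¹ := by group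
        _ = b * a⁻¹ * b⁻¹ := by rw [e1]
        _ = a := by rw [e2, inv_inv]

theorem two_case [Finite G] (hord : ∀ g : G, g ^ 2 = 1 ∨ g ^ 3 = 1) (A : Subgroup G) [A.Normal]
    (hA : ∀ a ∈ A, a ^ 2 = 1) (hc : ∀ a ∈ A, ∀ b ∈ A, a * b = b * a) {a₀ : G} (ha₀ : a₀ ∈ A)
    (hne : a₀ ≠ 1) (q : G) (hq : q ^ 3 = 1) (hq1 : q ≠ 1) :
    ∃ N : Subgroup G, N.Normal ∧ Cfsg.IsElementaryAbelian 2 N ∧ N.index = 3 := by
  set C := Subgroup.centralizer (A : Set G) with hC
  haveI : C.Normal := normal_centralizer A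
  have hC3 : ∀ x ∈ C, x ^ 3 = 1 → x = 1 := fun x hx h3 =>
    (no_six hord (Subgroup.mem_centralizer_iff.1 hx a₀ ha₀) (hA a₀ ha₀) h3).resolve_left hne
  have hC2 : ∀ x ∈ C, x ^ 2 = 1 := fun x hx => (hord x).elim id
    (fun h => by rw [hC3 x hx h, one_pow])
  have hinvC : ∀ u : G, u ^ 2 = 1 → u ∈ C := by
    intro u hu
    rw [hC, Subgroup.mem_centralizer_iff]
    intro a ha
    have hu' : u⁻¹ = u := inv_eq_of_mul_eq_one_right (by rw [← pow_two, hu])
    have ha' : a⁻¹ = a := inv_eq_of_mul_eq_one_right (by rw [← pow_two, hA a ha])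
    rcases hord (a * u) with h2 | h3
    · rw [pow_two, mul_eq_one_iff_eq_inv, mul_inv_rev, hu', ha'] at h2
      exact h2
    · have m : (a * u) ^ 2 ∈ A := by
        have e : (a * u) ^ 2 = a * (u * a * u⁻¹) := by rw [hu', pow_two, mul_assoc, mul_assoc]
        rw [e]
        exact A.mul_mem ha (Subgroup.Normal.conj_mem ‹A.Normal› a ha u)
      rw [pow_succ, mul_eq_one_iff_inv_eq] at h3
      have m' : a * u ∈ A := h3 ▸ A.inv_mem m
      exact hc a ha u ((A.mul_mem_cancel_left ha).1 m')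
  have hcube : ∀ g : G, g ^ 3 = 1 ∨ g ∈ C := fun g => (hord g).symm.imp id (hinvC g)
  have hrel : ∀ g : G, g ∉ C → ∀ a ∈ A, g * (g * a * g⁻¹) * g⁻¹ = g * a * g⁻¹ * a := by
    intro g hg a ha
    have g3 := (hcube g).resolve_right hg
    have hg1 : g ≠ 1 := fun h => hg (h ▸ C.one_mem)
    have m1 : g * a * g⁻¹ ∈ A := Subgroup.Normal.conj_mem ‹A.Normal› a ha g
    have m2 : g * (g * a * g⁻¹) * g⁻¹ ∈ A := Subgroup.Normal.conj_mem ‹A.Normal› _ m1 g
    set σ : G →* G := (MulAut.conj g).toMonoidHom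
    have hσ : ∀ x, σ x = g * x * g⁻¹ := fun x => rfl
    set b := a * (g * a * g⁻¹) * (g * (g * a * g⁻¹) * g⁻¹) with hb
    have hb3 : g * (g * (g * a * g⁻¹) * g⁻¹) * g⁻¹ = a := by
      calc g * (g * (g * a * g⁻¹) * g⁻¹) * g⁻¹ = g ^ 3 * a * (g ^ 3)⁻¹ := (conj_cube g a).symm
        _ = a := by rw [g3, one_mul, inv_one, mul_one]
    have hbσ : g * b * g⁻¹ = b := by
      rw [← hσ, hb, map_mul, map_mul, hσ, hσ, hσ, hb3, hc _ (A.mul_mem m1 m2) a ha, ← mul_assoc]
    have hbA : b ∈ A := A.mul_mem (A.mul_mem ha m1) m2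
    have hcomm : b * g = g * b := by
      conv_lhs => rw [← hbσ, inv_mul_cancel_right]
    have hb1 := (no_six hord hcomm (hA b hbA) g3).resolve_right hg1
    rw [hb, mul_eq_one_iff_inv_eq] at hb1
    rw [← hb1, mul_inv_rev]
    have ia : a⁻¹ = a := inv_eq_of_mul_eq_one_right (by rw [← pow_two, hA a ha])
    have i1 : (g * a * g⁻¹)⁻¹ = g * a * g⁻¹ :=
      inv_eq_of_mul_eq_one_right (by rw [← pow_two, hA _ m1])
    rw [ia, i1]
  refine ⟨C, inferInstance, ⟨⟨⟨fun x y => Subtype.ext ?_⟩⟩, hC2⟩, ?_⟩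
  · have e : ∀ z : C, (z : G)⁻¹ = z := fun z =>
      inv_eq_of_mul_eq_one_right (by rw [← pow_two, hC2 z z.2])
    have := e (x * y)
    rw [Subgroup.coe_mul, mul_inv_rev, e x, e y] at this
    exact this.symm
  · have hexp : ∀ x : G ⧸ C, x ^ 3 = 1 := fun x => by
      obtain ⟨g, rfl⟩ := QuotientGroup.mk_surjective x
      rcases hcube g with h | h
      · rw [← QuotientGroup.mk_pow, h, QuotientGroup.mk_one]
      · rw [(QuotientGroup.eq_one_iff g).2 h, one_pow]
    haveI : Fact (Nat.Prime 3) := ⟨Nat.prime_three⟩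
    have hpg : IsPGroup 3 (G ⧸ C) := fun x => ⟨1, by rw [pow_one]; exact hexp x⟩
    haveI : Nontrivial (G ⧸ C) := ⟨(q : G ⧸ C), 1, fun h =>
      hq1 (hC3 q ((QuotientGroup.eq_one_iff q).1 h) hq)⟩
    haveI := hpg.center_nontrivial
    obtain ⟨⟨x', hx'⟩, hx'1⟩ := exists_ne (1 : Subgroup.center (G ⧸ C))
    have hx'1 : x' ≠ 1 := fun h => hx'1 (Subtype.ext h)
    have hox : orderOf x' = 3 := orderOf_eq_prime (hexp x') hx'1
    have htop : Subgroup.zpowers x' = ⊤ := by
      rw [eq_top_iff]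
      intro z' _
      by_contra hz
      obtain ⟨x, rfl⟩ := QuotientGroup.mk_surjective x'
      obtain ⟨z, rfl⟩ := QuotientGroup.mk_surjective z'
      have hxC : x ∉ C := fun h => hx'1 ((QuotientGroup.eq_one_iff x).2 h)
      have hzC : z ∉ C := fun h => hz (by
        rw [(QuotientGroup.eq_one_iff z).2 h]; exact Subgroup.one_mem _)
      have hxzC : x * z ∉ C := fun h => hz (by
        have : (x : G ⧸ C) * (z : G ⧸ C) = 1 := (QuotientGroup.eq_one_iff _).2 h
        rw [← inv_eq_of_mul_eq_one_right this]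
        exact Subgroup.inv_mem _ (Subgroup.mem_zpowers _))
      have hxz : x⁻¹ * z ∈ C := by
        rw [hC, Subgroup.mem_centralizer_iff]
        intro a ha
        set σ : G →* G := (MulAut.conj x).toMonoidHom
        set τ : G →* G := (MulAut.conj z).toMonoidHom
        have hσ : ∀ y, σ y = x * y * x⁻¹ := fun y => rfl
        have hτ : ∀ y, τ y = z * y * z⁻¹ := fun y => rfl
        have mσ : ∀ y ∈ A, σ y ∈ A := fun y hy => Subgroup.Normal.conj_mem ‹A.Normal› y hy x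
        have mτ : ∀ y ∈ A, τ y ∈ A := fun y hy => Subgroup.Normal.conj_mem ‹A.Normal› y hy z
        have hk : (x * z)⁻¹ * (z * x) ∈ C := by
          rw [← QuotientGroup.eq, QuotientGroup.mk_mul, QuotientGroup.mk_mul]
          exact (Subgroup.mem_center_iff.1 hx' (z : G ⧸ C)).symm
        have hcomm : ∀ y ∈ A, τ (σ y) = σ (τ y) := by
          intro y hy
          have e := Subgroup.mem_centralizer_iff.1 hk y hy
          rw [hσ, hσ, hτ, hτ]
          calc z * (x * y * x⁻¹) * z⁻¹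
              = x * z * ((x * z)⁻¹ * (z * x) * y) * (z * x)⁻¹ := by group
            _ = x * z * (y * ((x * z)⁻¹ * (z * x))) * (z * x)⁻¹ := by rw [← e]
            _ = x * (z * y * z⁻¹) * x⁻¹ := by group
        have s2 : ∀ y ∈ A, σ (σ y) = σ y * y := fun y hy => hrel x hxC y hy
        have t2 : τ (τ a) = τ a * a := hrel z hzC a ha
        have w2 : σ (τ (σ (τ a))) = σ (τ a) * a := by
          have := hrel (x * z) hxzC a ha
          calc σ (τ (σ (τ a))) = x * z * (x * z * a * (x * z)⁻¹) * (x * z)⁻¹ := by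
                rw [hσ, hσ, hτ, hτ]; group
            _ = x * z * a * (x * z)⁻¹ * a := this
            _ = σ (τ a) * a := by rw [hσ, hτ]; group
        rw [hcomm _ (mτ a ha), t2, map_mul σ, map_mul σ, s2 _ (mτ a ha), s2 a ha, mul_assoc,
          mul_right_inj] at w2
        rw [← mul_assoc, mul_eq_right, mul_eq_one_iff_eq_inv] at w2
        have i1 : (σ a)⁻¹ = σ a := inv_eq_of_mul_eq_one_right (by rw [← pow_two, hA _ (mσ a ha)])
        rw [i1] at w2
        have e : z * a * z⁻¹ = x * a * x⁻¹ := w2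
        calc a * (x⁻¹ * z) = x⁻¹ * (x * a * x⁻¹) * z := by group
          _ = x⁻¹ * (z * a * z⁻¹) * z := by rw [e]
          _ = x⁻¹ * z * a := by group
      apply hz
      rw [← QuotientGroup.eq] at hxz
      rw [← hxz]
      exact Subgroup.mem_zpowers _
    rw [Subgroup.index_eq_card, ← Subgroup.card_top, ← htop, Nat.card_zpowers, hox]

/-- A finite group whose set of element orders is exactly {1, 2, 3} has either a normal elementary abelian 3-subgroup of index 2 or a normal elementary abelian 2-subgroup of index 3. -/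
theorem result {G : Type*} [Group G] [Finite G] (h : Set.range (orderOf : G → ℕ) = {k : ℕ | 1 ≤ k ∧ k ≤ 3}) :
    (∃ N : Subgroup G, N.Normal ∧ Cfsg.IsElementaryAbelian 3 N ∧ N.index = 2) ∨
      (∃ N : Subgroup G, N.Normal ∧ Cfsg.IsElementaryAbelian 2 N ∧ N.index = 3) := by
  have hrange : ∀ g : G, 1 ≤ orderOf g ∧ orderOf g ≤ 3 := fun g => by
    have : orderOf g ∈ Set.range (orderOf : G → ℕ) := ⟨g, rfl⟩
    rw [h] at this
    exact this
  have hord : ∀ g : G, g ^ 2 = 1 ∨ g ^ 3 = 1 := fun g => by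
    obtain ⟨h1, h3⟩ := hrange g
    have := pow_orderOf_eq_one g
    interval_cases ho : orderOf g
    · left; rw [orderOf_eq_one_iff.1 ho, one_pow]
    · left; exact this
    · right; exact this
  obtain ⟨t, ht⟩ : (2 : ℕ) ∈ Set.range (orderOf : G → ℕ) := by
    rw [h]; exact ⟨one_le_two, Nat.le_succ 2⟩
  obtain ⟨q, hq⟩ : (3 : ℕ) ∈ Set.range (orderOf : G → ℕ) := by
    rw [h]; exact ⟨by norm_num, le_rfl⟩
  have ht2 : t ^ 2 = 1 := by rw [← ht]; exact pow_orderOf_eq_one t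
  have ht1 : t ≠ 1 := fun e => by rw [e, orderOf_one] at ht; omega
  have hq3 : q ^ 3 = 1 := by rw [← hq]; exact pow_orderOf_eq_one q
  have hq1 : q ≠ 1 := fun e => by rw [e, orderOf_one] at hq; omega
  have hprime : ∀ l : ℕ, l.Prime → l ∣ Nat.card G → l = 2 ∨ l = 3 := fun l hl hd => by
    haveI := Fact.mk hl
    obtain ⟨g, hg⟩ := exists_prime_orderOf_dvd_card' l hd
    have := hrange g
    have := hl.two_le
    omega
  have hfac : Nat.card G = 2 ^ (Nat.card G).factorization 2 * 3 ^ (Nat.card G).factorization 3 := by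
    refine Nat.eq_of_factorization_eq (Nat.card_pos.ne') (by positivity) fun l => ?_
    rw [Nat.factorization_mul (by positivity) (by positivity), Finsupp.add_apply,
      Nat.Prime.factorization_pow Nat.prime_two, Nat.Prime.factorization_pow Nat.prime_three]
    rcases eq_or_ne l 2 with rfl | hl2
    · simp
    rcases eq_or_ne l 3 with rfl | hl3
    · simp
    have : (Nat.card G).factorization l = 0 := by
      by_contra hne
      have hne : l ∈ (Nat.card G).factorization.support := Finsupp.mem_support_iff.2 hne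
      rw [Nat.support_factorization, Nat.mem_primeFactors] at hne
      exact (hprime l hne.1 hne.2.1).elim hl2 hl3
    simp [this, hl2, hl3]
  haveI : Group.IsSolvable G := Cfsg.Agent.CharApp.isSolvable_of_card_eq_prime_pow_mul 2 3
    Nat.prime_two Nat.prime_three _ G rfl _ _ hfac
  haveI : Nontrivial G := ⟨t, 1, ht1⟩
  obtain ⟨p, hp, A, hAn, hA0, -, hAc, -, hAp, -⟩ :=
    Cfsg.Agent.Solvable.exists_minimal_normal_pGroup (N := (⊤ : Subgroup G)) top_ne_bot
  obtain ⟨a₀, ha₀, hne⟩ : ∃ a ∈ A, a ≠ 1 := by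
    by_contra hh
    push_neg at hh
    exact hA0 (eq_bot_iff.2 fun a ha => Subgroup.mem_bot.2 (hh a ha))
  have hc : ∀ a ∈ A, ∀ b ∈ A, a * b = b * a := fun a ha b hb =>
    congrArg Subtype.val (hAc.is_comm.comm ⟨a, ha⟩ ⟨b, hb⟩)
  haveI := Fact.mk hp
  have hop : orderOf a₀ = p := orderOf_eq_prime (hAp a₀ ha₀) hne
  rcases hprime p hp (hop ▸ orderOf_dvd_natCard a₀) with rfl | rfl
  · exact Or.inr (two_case hord A hAp hc ha₀ hne q hq3 hq1)
  · exact Or.inl (three_case hord A hAp hc ha₀ hne t ht2 ht1)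

end Cfsg.Agent.S4005
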