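import Cfsg.Statements.S4009
import Cfsg.Agent.Lib.MannDerivedBound

set_option autoImplicit false
open Cfsg

namespace Cfsg.Agent.S4009

open Cfsg.Agent.MannBound

theorem ds_derivedSeries {P : Type*} [Group P] : ∀ k j : ℕ,
    ds (derivedSeries P j) k = derivedSeries P (j + k)
  | 0, _ => rfl
  | k + 1, j => by
    rw [show j + (k + 1) = j + 1 + k by omega, ← ds_derivedSeries k (j + 1), derivedSeries_succ]
    rfl

/-- Let P be a finite p-group of order p^n whose derived length is exactly k + 1 (the k-th derived subgroup is nontrivial and the (k+1)-st is trivial). Then n ≥ 2^k + 2k − 2. -/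
theorem result {P : Type*} [Group P] [Finite P] (p : ℕ) [Fact p.Prime] (n k : ℕ) (hcard : Nat.card P = p ^ n) (hk : derivedSeries P k ≠ ⊥) (hk' : derivedSeries P (k + 1) = ⊥) : 2 ^ k + 2 * k ≤ n + 2 := by
  have hP : IsPGroup p P := IsPGroup.of_card hcard
  have hne : ds (⊤ : Subgroup P) k ≠ ⊥ := by
    rw [← derivedSeries_zero, ds_derivedSeries, Nat.zero_add]
    exact hk
  have h := mann hP k 0 ⊤ inferInstance le_rfl hne
  have he := (ex_spec hP (⊤ : Subgroup P)).symm.trans (Subgroup.card_top.trans hcard)
  have := Nat.pow_right_injective (Fact.out : p.Prime).two_le he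
  omega

end Cfsg.Agent.S4009
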