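import Cfsg.Statements.S4010
import Cfsg.Agent.EqLemmas
import Cfsg.Agent.Lib.LinearPGroup.Basic
import Mathlib.FieldTheory.IsAlgClosed.AlgebraicClosure

set_option autoImplicit false
open Cfsg

namespace Cfsg.Agent.S4010

/-- Let F be a field, n ≥ 1, and P a finite p-group (p a prime) admitting an injective homomorphism into the general linear group of degree n over F. Then the derived length of P is at most ⌊log₂ n⌋ + 1: that term of the derived series of P is trivial. -/
theorem result {P : Type*} [Group P] [Finite P] (p : ℕ) [Fact p.Prime] (hP : IsPGroup p P) (F : Type*) [Field F] (n : ℕ) (hn : 1 ≤ n) (ρ : P →* Matrix.GeneralLinearGroup (Fin n) F) (hρ : Function.Injective ρ) : derivedSeries P (Nat.log 2 n + 1) = ⊥ := by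
  have hp := (Fact.out : p.Prime)
  by_cases hpF : (p : F) = 0
  · haveI : CharP F p := (CharP.charP_iff_prime_eq_zero hp).2 hpF
    let r : P →* Module.End F (Fin n → F) :=
      (Matrix.toLinAlgEquiv' : Matrix (Fin n) (Fin n) F ≃ₐ[F] _).toMonoidHom.comp
        ((Units.coeHom _).comp ρ)
    rw [eq_bot_iff]
    intro d hd
    have hb : Module.finrank F (Fin n → F) ≤ 2 ^ (Nat.log 2 n + 1) := by
      rw [Module.finrank_fin_fun]
      exact (Nat.lt_pow_succ_log_self one_lt_two n).le
    have h1 : r d = 1 := Cfsg.Agent.LinearPGroup.derivedSeries_le_ker_of_finrank_le hP _ _ r hb d hd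
    have h2 : ((ρ d : Matrix.GeneralLinearGroup (Fin n) F) : Matrix (Fin n) (Fin n) F) = 1 :=
      Matrix.toLinAlgEquiv'.injective (h1.trans (map_one _).symm)
    exact Subgroup.mem_bot.2 (hρ ((Units.ext h2).trans (map_one ρ).symm))
  · let L := AlgebraicClosure F
    have hpL : (p : L) ≠ 0 := by
      rw [← map_natCast (algebraMap F L), map_ne_zero]
      exact hpF
    let r : P →* Module.End L (Fin n → L) :=
      (Matrix.toLinAlgEquiv' : Matrix (Fin n) (Fin n) L ≃ₐ[L] _).toMonoidHom.comp
        ((algebraMap F L).mapMatrix.toMonoidHom.comp ((Units.coeHom _).comp ρ))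
    have hr : Function.Injective r := by
      intro a b hab
      refine hρ (Units.ext ?_)
      exact Matrix.map_injective (algebraMap F L).injective (Matrix.toLinAlgEquiv'.injective hab)
    haveI : Nonempty (Fin n) := ⟨⟨0, hn⟩⟩
    haveI : Nontrivial (Fin n → L) := Function.nontrivial
    have h := Cfsg.Agent.LinearPGroup.derivedSeries_eq_bot_of_ne_char hP hpL r hr
    rw [Module.finrank_fin_fun] at h
    refine eq_bot_iff.2 (le_trans (derivedSeries_antitone P ?_) h.le)
    exact Nat.succ_le_succ (Nat.log_anti_left one_lt_two hp.two_le)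

end Cfsg.Agent.S4010
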