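import Cfsg.Statements.S4013
import Cfsg.Agent.EqLemmas

set_option autoImplicit false
open Cfsg

namespace Cfsg.Agent.S4013

/-- Let G be a finite p-group (p prime) and N < M normal subgroups of G such that for some g ∈ M ∖ N the conjugacy class of g is exactly M ∖ N. Then p = 2 and N has index 2 in M. -/
theorem result {G : Type*} [Group G] [Finite G] (p : ℕ) [Fact p.Prime] (hG : IsPGroup p G) (N M : Subgroup G) [N.Normal] [M.Normal] (hNM : N < M) (g : G) (hgM : g ∈ M) (hgN : g ∉ N) (hcl : {h : G | IsConj g h} = (M : Set G) \ (N : Set G)) : p = 2 ∧ N.relIndex M = 2 := by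
  obtain ⟨n, hn⟩ := IsPGroup.iff_card.mp hG
  obtain ⟨m, _, hm⟩ := (Nat.dvd_prime_pow (Fact.out : p.Prime)).mp (hn ▸ Subgroup.card_subgroup_dvd_card M)
  obtain ⟨a, ha, hN⟩ := (Nat.dvd_prime_pow (Fact.out : p.Prime)).mp (hn ▸ Subgroup.card_subgroup_dvd_card N)
  have hc : ({h : G | IsConj g h}).ncard ∣ p ^ n := by
    have h1 : ({h : G | IsConj g h}) = MulAction.orbit (ConjAct G) g := by
      ext h
      rw [ConjAct.mem_orbit_conjAct, Set.mem_setOf_eq, isConj_comm]
    rw [h1, ← Nat.card_coe_set_eq, Nat.card_congr (MulAction.orbitEquivQuotientStabilizer (ConjAct G) g),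
      ← Subgroup.index_eq_card, ← hn, show Nat.card G = Nat.card (ConjAct G) from rfl]
    exact Subgroup.index_dvd_card _
  rw [hcl, Set.ncard_sdiff hNM.le (Set.toFinite _), ← Nat.card_coe_set_eq, ← Nat.card_coe_set_eq] at hc
  change Nat.card M - Nat.card N ∣ _ at hc
  obtain ⟨b, hb, hd⟩ := (Nat.dvd_prime_pow (Fact.out : p.Prime)).mp hc
  rw [hm, hN] at hd
  have hlt : Nat.card N < Nat.card M := by
    rcases Nat.lt_or_ge (Nat.card N) (Nat.card M) with h | h
    · exact h
    · exact absurd (Subgroup.eq_of_le_of_card_ge hNM.le h) hNM.ne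
  rw [hm, hN] at hlt
  have ham : a < m := (Nat.pow_lt_pow_iff_right (Fact.out : p.Prime).one_lt).mp hlt
  obtain ⟨d, rfl⟩ : ∃ d, m = a + (d + 1) := ⟨m - a - 1, by omega⟩
  rw [pow_add, show p ^ a * p ^ (d + 1) - p ^ a = p ^ a * (p ^ (d + 1) - 1) by rw [Nat.mul_sub, mul_one]] at hd
  have h1 : p ^ (d + 1) - 1 ∣ p ^ b := ⟨p ^ a, by rw [← hd, mul_comm]⟩
  obtain ⟨c, _, hc'⟩ := (Nat.dvd_prime_pow (Fact.out : p.Prime)).mp h1
  rcases c.eq_zero_or_pos with rfl | hc0
  · have h2 : p ^ (d + 1) = 2 := by simp at hc'; omega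
    have hp2 : p = 2 := by
      have := dvd_pow_self p (show d + 1 ≠ 0 by omega)
      rw [h2] at this
      exact (Nat.prime_dvd_prime_iff_eq Fact.out Nat.prime_two).mp this
    refine ⟨hp2, ?_⟩
    have h3 := N.card_mul_index
    have h4 : Nat.card N * N.relIndex M = Nat.card M := by
      have := (N.subgroupOf M).card_mul_index
      rwa [Nat.card_congr (Subgroup.subgroupOfEquivOfLe hNM.le).toEquiv] at this
    rw [hm, hN, pow_add, h2] at h4
    exact Nat.eq_of_mul_eq_mul_left (pow_pos (Fact.out : p.Prime).pos _) h4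
  · exfalso
    have h5 : p ∣ p ^ (d + 1) - 1 := hc' ▸ dvd_pow_self p hc0.ne'
    have h6 : p ∣ p ^ (d + 1) := dvd_pow_self p (by omega)
    have h7 : p ∣ 1 := by
      have := Nat.dvd_sub h6 h5
      rwa [Nat.sub_sub_self (Nat.one_le_pow _ _ (Fact.out : p.Prime).pos)] at this
    exact (Fact.out : p.Prime).not_dvd_one h7

end Cfsg.Agent.S4013
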