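import Cfsg.Statements.S4014
import Cfsg.Agent.EqLemmas
import Cfsg.Agent.Lib.SylowDerived.Basic
import Mathlib.GroupTheory.Perm.ViaEmbedding

set_option autoImplicit false
open Cfsg

namespace Cfsg.Agent.S4014

theorem exists_injective_to_sylow {G W : Type*} [Group G] [Finite G] [Group W] {p : ℕ} [Fact p.Prime]
    (P : Sylow p G) (g : W →* G) (hg : Function.Injective g) (hW : IsPGroup p W) :
    ∃ f : W →* (P : Subgroup G), Function.Injective f := by
  obtain ⟨S, hS⟩ := (hW.of_surjective g.rangeRestrict g.rangeRestrict_surjective).exists_le_sylow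
  exact ⟨(S.equiv P).toMonoidHom.comp ((Subgroup.inclusion hS).comp g.rangeRestrict),
    (S.equiv P).injective.comp ((Subgroup.inclusion_injective hS).comp
      (fun a b hab => hg (congrArg Subtype.val hab)))⟩

theorem isPGroup_iterated (p : ℕ) {C : Type} [Group C] [Finite C] (hC : Nat.card C = p) (k : ℕ) :
    IsPGroup p (IteratedWreathProduct C k) :=
  IsPGroup.of_card (n := ∑ i ∈ Finset.range k, Nat.card C ^ i)
    (by rw [IteratedWreathProduct.card, hC])

theorem derivedSeries_ne_bot (p : ℕ) [Fact p.Prime] (j n : ℕ) (h : p ^ (j + 1) ≤ n)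
    (P : Sylow p (Equiv.Perm (Fin n))) :
    derivedSeries ↥(P : Subgroup (Equiv.Perm (Fin n))) j ≠ ⊥ := by
  haveI : NeZero p := ⟨(Fact.out : p.Prime).ne_zero⟩
  haveI : Fact (1 < p) := ⟨(Fact.out : p.Prime).one_lt⟩
  obtain ⟨C, _, _, _, hC⟩ : ∃ (C : Type) (_ : Group C) (_ : Finite C) (_ : Nontrivial C), Nat.card C = p :=
    ⟨Multiplicative (ZMod p), inferInstance, inferInstance, inferInstance, by simp⟩
  have hcard : Nat.card (Fin (j + 1) → C) = p ^ (j + 1) := by rw [Nat.card_fun, Nat.card_fin, hC]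
  obtain ⟨emb⟩ : Nonempty ((Fin (j + 1) → C) ↪ Fin n) :=
    ⟨(Finite.equivFinOfCardEq hcard).toEmbedding.trans (Fin.castLEEmb h)⟩
  obtain ⟨f, hf⟩ := exists_injective_to_sylow P
    ((Equiv.Perm.viaEmbeddingHom emb).comp (iteratedWreathToPermHom C (j + 1)))
    ((Equiv.Perm.viaEmbeddingHom_injective emb).comp (iteratedWreathToPermHomInj C (j + 1)))
    (isPGroup_iterated p hC (j + 1))
  intro hb
  have h1 := map_derivedSeries_le_derivedSeries f j
  rw [hb, le_bot_iff, Subgroup.map_eq_bot_iff_of_injective _ hf] at h1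
  exact Cfsg.Agent.SylowDerived.derivedSeries_iterated_ne_bot j h1

/-- Let p be a prime, n ≥ 1, and P a Sylow p-subgroup of the symmetric group on n letters. Then the derived length of P is exactly k = ⌊log_p n⌋ (the largest k with p^k ≤ n): the k-th derived subgroup of P is trivial and, when k ≥ 1, the (k−1)-st is not. -/
theorem result (p : ℕ) [Fact p.Prime] (n : ℕ) (hn : 1 ≤ n) (P : Sylow p (Equiv.Perm (Fin n))) : derivedSeries ↥(P : Subgroup (Equiv.Perm (Fin n))) (Nat.log p n) = ⊥ ∧ (1 ≤ Nat.log p n → derivedSeries ↥(P : Subgroup (Equiv.Perm (Fin n))) (Nat.log p n - 1) ≠ ⊥) := by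
  have hp := (Fact.out : p.Prime)
  constructor
  · refine Cfsg.Agent.SylowDerived.derivedSeries_eq_bot_of_orbit P.isPGroup' (α := Fin n) fun a => ?_
    refine lt_of_le_of_lt ?_ (Nat.lt_pow_succ_log_self hp.one_lt n)
    exact (Finite.card_subtype_le _).trans (by rw [Nat.card_fin])
  · intro hk
    obtain ⟨j, hj⟩ : ∃ j, Nat.log p n = j + 1 := ⟨Nat.log p n - 1, by omega⟩
    rw [hj, Nat.add_sub_cancel]
    exact derivedSeries_ne_bot p j n (hj ▸ Nat.pow_log_le_self p (by omega)) P

end Cfsg.Agent.S4014
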