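import Cfsg.Statements.S4015
import Cfsg.Agent.EqLemmas
import Cfsg.Agent.Lib.LinearPGroup.Basic
import Cfsg.Agent.Lib.LinearPGroup.WreathRep
import Cfsg.Agent.S4014
import Mathlib.FieldTheory.IsAlgClosed.AlgebraicClosure
import Mathlib.FieldTheory.Finite.Extension

set_option autoImplicit false
open Cfsg

namespace Cfsg.Agent.S4015

theorem cast_ne_zero_of_not_dvd {p : ℕ} (hp : p.Prime) (F : Type*) [Field F] [Fintype F]
    (h : ¬ p ∣ Fintype.card F) : (p : F) ≠ 0 := fun h0 => by
  obtain ⟨l, hl⟩ := CharP.exists F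
  obtain ⟨f, hlp, hf⟩ := FiniteField.card F l
  have : l ∣ p := (CharP.cast_eq_zero_iff F l p).1 h0
  rcases (Nat.dvd_prime hp).1 this with h1 | h1
  · exact hlp.ne_one h1
  · exact h (h1 ▸ hf ▸ dvd_pow_self l f.pos.ne')

theorem upper (p : ℕ) [Fact p.Prime] (F : Type*) [Field F] [Fintype F]
    (hpq : ¬ p ∣ Fintype.card F) (n : ℕ) {P : Type*} [Group P] [Finite P] (hP : IsPGroup p P)
    (ρ : P →* Matrix.GeneralLinearGroup (Fin n) F) (hρ : Function.Injective ρ)
    (hn : orderOf (Fintype.card F : ZMod p) ≤ n) :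
    derivedSeries P (Nat.log p (n / orderOf (Fintype.card F : ZMod p)) + 1) = ⊥ := by
  classical
  have hp := (Fact.out : p.Prime)
  set q := Fintype.card F with hq
  set e := orderOf (q : ZMod p) with he
  have hq0 : (q : ZMod p) ≠ 0 := fun h => hpq ((ZMod.natCast_eq_zero_iff _ _).1 h)
  have hedvd : e ∣ p - 1 := ZMod.orderOf_dvd_card_sub_one hq0
  have hep : Nat.Coprime e p := (Nat.coprime_of_lt_prime (n := p - 1) (by
      have := hp.two_le
      omega) (by
      have := hp.two_le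
      omega) hp).symm.coprime_dvd_left hedvd
  have he0 : 0 < e := Nat.pos_of_dvd_of_pos hedvd (by have := hp.two_le; omega)
  let L := AlgebraicClosure F
  obtain ⟨l, hl⟩ := CharP.exists F
  obtain ⟨f, hlp, hf⟩ := FiniteField.card F l
  haveI := Fact.mk hlp
  haveI : CharP L l := charP_of_injective_algebraMap (algebraMap F L).injective l
  haveI : ExpChar L l := ExpChar.prime hlp
  have hqinj : ∀ i, Function.Injective fun x : L => x ^ q ^ i := fun i x y hxy => by
    refine (iterateFrobenius L l (f * i)).injective ?_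
    rw [iterateFrobenius_def, iterateFrobenius_def, pow_mul l, ← hf]
    exact hxy
  let r : P →* Module.End L (Fin n → L) :=
    (Matrix.toLinAlgEquiv' : Matrix (Fin n) (Fin n) L ≃ₐ[L] _).toMonoidHom.comp
      ((algebraMap F L).mapMatrix.toMonoidHom.comp ((Units.coeHom _).comp ρ))
  have hr : Function.Injective r := fun a b hab =>
    hρ (Units.ext (Matrix.map_injective (algebraMap F L).injective
      (Matrix.toLinAlgEquiv'.injective hab)))
  have hpL : (p : L) ≠ 0 := by
    rw [← map_natCast (algebraMap F L), map_ne_zero]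
    exact cast_ne_zero_of_not_dvd hp F hpq
  refine Cfsg.Agent.LinearPGroup.derivedSeries_eq_bot_of_weight_orbits hP hpL r hr _ fun A _ hAc χ hχ => ?_
  have hp1 : 1 < p ^ (Nat.log p (n / e) + 1) := Nat.one_lt_pow (Nat.succ_ne_zero _) hp.one_lt
  by_cases htriv : ∀ a : A, χ a = 1
  · refine lt_of_le_of_lt ?_ hp1
    have : (Set.range fun g : P => fun a : A => χ ((MulAut.conjNormal g)⁻¹ a)) ⊆ {fun _ => 1} := by
      rintro _ ⟨g, rfl⟩
      exact funext fun a => htriv _
    exact (Set.ncard_le_ncard this (Set.finite_singleton _)).trans (Set.ncard_singleton _).le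
  · obtain ⟨hfin, hcard⟩ := Cfsg.Agent.LinearPGroup.ncard_weights_le r A hAc
    rw [Module.finrank_fin_fun] at hcard
    set S := {χ : A → L | ∃ v : Fin n → L, v ≠ 0 ∧ ∀ a : A, r a v = χ a • v}
    set O := Set.range fun g : P => fun a : A => χ ((MulAut.conjNormal g)⁻¹ a)
    have hOS : O ⊆ S := by
      rintro _ ⟨g, rfl⟩
      exact Cfsg.Agent.LinearPGroup.weight_conj r A hχ g
    have hfrob : ∀ ψ ∈ S, ∀ i : ℕ, (fun a => ψ a ^ q ^ i) ∈ S := by
      rintro ψ ⟨v, hv, heig⟩ i
      let φ := iterateFrobenius L l (f * i)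
      have hφ : ∀ x : L, φ x = x ^ q ^ i := fun x => by
        rw [iterateFrobenius_def, pow_mul l, ← hf]
      refine ⟨φ ∘ v, fun h => hv (funext fun j => φ.injective (by rw [Pi.zero_apply, map_zero]; exact congrFun h j)),
        fun a => funext fun j => ?_⟩
      have h1 := congrArg φ (congrFun (heig a) j)
      show (((ρ a : Matrix (Fin n) (Fin n) F).map (algebraMap F L)).mulVec (φ ∘ v)) j = _
      change φ (((ρ a : Matrix (Fin n) (Fin n) F).map (algebraMap F L)).mulVec v j) = φ (ψ a * v j) at h1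
      rw [RingHom.map_mulVec, map_mul, hφ (ψ a)] at h1
      have hM : ((ρ a : Matrix (Fin n) (Fin n) F).map (algebraMap F L)).map φ =
          (ρ a : Matrix (Fin n) (Fin n) F).map (algebraMap F L) := by
        ext s t
        rw [Matrix.map_apply, Matrix.map_apply, hφ, ← map_pow, FiniteField.pow_card_pow]
      rw [hM] at h1
      exact h1
    have hroot : ∀ ψ ∈ S, ∀ a : A, ∃ u : ℕ, ψ a ^ p ^ u = 1 := by
      rintro ψ ⟨v, hv, heig⟩ a
      obtain ⟨u, hu⟩ := hP (a : P)
      refine ⟨u, ?_⟩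
      have h1 : ∀ m : ℕ, (r a ^ m) v = ψ a ^ m • v := by
        intro m
        induction m with
        | zero => simp
        | succ m ih => rw [pow_succ', Module.End.mul_apply, ih, map_smul, heig, smul_smul, pow_succ]
      have h2 := h1 (p ^ u)
      rw [← map_pow, hu, map_one, Module.End.one_apply] at h2
      by_contra hne
      have h3 : (ψ a ^ p ^ u - 1) • v = 0 := by rw [sub_smul, one_smul, ← h2, sub_self]
      exact hv ((smul_eq_zero.1 h3).resolve_left (sub_ne_zero.2 hne))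
    have hnontriv : ∀ ψ ∈ O, ∃ a : A, ψ a ≠ 1 := by
      rintro _ ⟨g, rfl⟩
      push Not at htriv
      obtain ⟨a, ha⟩ := htriv
      exact ⟨MulAut.conjNormal g a, by simpa using ha⟩
    have key : ∀ ψ₁ ∈ O, ∀ ψ₂ ∈ O, ∀ d : ℕ, d < e → (∀ a, ψ₁ a = ψ₂ a ^ q ^ d) → d = 0 := by
      intro ψ₁ h₁ ψ₂ h₂ d hd heq
      obtain ⟨g₁, rfl⟩ := h₁
      obtain ⟨g₂, rfl⟩ := h₂
      set ψ : A → L := fun a => χ ((MulAut.conjNormal g₂)⁻¹ a) with hψdef
      set h := g₁ * g₂⁻¹ with hhdef
      have hh : ∀ a : A, ψ ((MulAut.conjNormal h)⁻¹ a) = ψ a ^ q ^ d := fun a => by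
        rw [← heq a, hψdef]
        simp [hhdef]
      have hit : ∀ m : ℕ, ∀ a : A, ψ ((MulAut.conjNormal (h ^ m))⁻¹ a) = ψ a ^ q ^ (d * m) := by
        intro m
        induction m with
        | zero => intro a; simp
        | succ m ih =>
          intro a
          rw [pow_succ, map_mul, mul_inv_rev, MulAut.mul_apply, hh, ih, ← pow_mul, ← pow_add,
            Nat.mul_succ]
      obtain ⟨s, hs⟩ := hP h
      obtain ⟨a, ha⟩ := hnontriv ψ ⟨g₂, rfl⟩
      have hc := hit (p ^ s) a
      rw [hs, map_one, inv_one, MulAut.one_apply] at hc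
      obtain ⟨u, hu⟩ := hroot ψ (hOS ⟨g₂, rfl⟩) a
      have hc0 : ψ a ≠ 0 := fun h0 => by rw [h0, zero_pow (pow_ne_zero _ hp.ne_zero)] at hu; exact zero_ne_one hu
      have hQ : 1 ≤ q ^ (d * p ^ s) := Nat.one_le_pow _ _ Fintype.card_pos
      have h1 : ψ a ^ (q ^ (d * p ^ s) - 1) = 1 := by
        refine mul_right_cancel₀ hc0 ?_
        rw [← pow_succ, Nat.sub_add_cancel hQ, ← hc, one_mul]
      obtain ⟨w, -, hw⟩ := (Nat.dvd_prime_pow hp).1 (orderOf_dvd_of_pow_eq_one hu)
      have hw0 : w ≠ 0 := fun h0 => ha (orderOf_eq_one_iff.1 (by rw [hw, h0, pow_zero]))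
      have h2 : p ∣ q ^ (d * p ^ s) - 1 :=
        (hw ▸ dvd_pow_self p hw0).trans (orderOf_dvd_of_pow_eq_one h1)
      have h3 : (q : ZMod p) ^ (d * p ^ s) = 1 := by
        have h4 : ((q ^ (d * p ^ s) - 1 : ℕ) : ZMod p) = 0 := (ZMod.natCast_eq_zero_iff _ _).2 h2
        rw [Nat.cast_sub hQ, Nat.cast_pow, Nat.cast_one, sub_eq_zero] at h4
        exact h4
      have h5 : e ∣ d := (Nat.Coprime.pow_right s hep).dvd_of_dvd_mul_right (orderOf_dvd_of_pow_eq_one h3)
      exact Nat.eq_zero_of_dvd_of_lt h5 hd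
    let Φ : Fin e × O → S := fun x => ⟨fun a => (x.2 : A → L) a ^ q ^ (x.1 : ℕ), hfrob _ (hOS x.2.2) _⟩
    have hΦ : Function.Injective Φ := by
      suffices ∀ x y : Fin e × O, (x.1 : ℕ) ≤ y.1 → Φ x = Φ y → x = y by
        intro x y hxy
        rcases le_total (x.1 : ℕ) y.1 with h | h
        · exact this x y h hxy
        · exact (this y x h hxy.symm).symm
      rintro ⟨i, ψ₁⟩ ⟨j, ψ₂⟩ hij hxy
      have h1 : ∀ a, (ψ₁ : A → L) a = (ψ₂ : A → L) a ^ q ^ ((j : ℕ) - i) := fun a => by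
        refine hqinj i ?_
        show (ψ₁ : A → L) a ^ q ^ (i : ℕ) = ((ψ₂ : A → L) a ^ q ^ ((j : ℕ) - i)) ^ q ^ (i : ℕ)
        rw [← pow_mul, ← pow_add, Nat.sub_add_cancel hij]
        exact congrFun (congrArg Subtype.val hxy) a
      have h2 := key _ ψ₁.2 _ ψ₂.2 _ (by have := j.2; omega) h1
      have hij' : i = j := Fin.ext (by simp only at hij; omega)
      refine Prod.ext hij' (Subtype.ext (funext fun a => ?_))
      rw [h1 a, h2, pow_zero, pow_one]
    haveI : Finite S := hfin.to_subtype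
    have h6 := Nat.card_le_card_of_injective Φ hΦ
    rw [Nat.card_prod, Nat.card_fin, Nat.card_coe_set_eq, Nat.card_coe_set_eq] at h6
    refine lt_of_le_of_lt ((Nat.le_div_iff_mul_le he0).2 ?_) (Nat.lt_pow_succ_log_self hp.one_lt _)
    rw [mul_comm]
    exact h6.trans hcard

theorem lower (p : ℕ) [Fact p.Prime] (F : Type*) [Field F] [Fintype F]
    (hpq : ¬ p ∣ Fintype.card F) (n k : ℕ) (h : orderOf (Fintype.card F : ZMod p) * p ^ k ≤ n)
    (P : Sylow p (Matrix.GeneralLinearGroup (Fin n) F)) :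
    derivedSeries ↥(P : Subgroup (Matrix.GeneralLinearGroup (Fin n) F)) k ≠ ⊥ := by
  classical
  have hp := (Fact.out : p.Prime)
  set e := orderOf (Fintype.card F : ZMod p) with he
  have hq0 : (Fintype.card F : ZMod p) ≠ 0 := fun h => hpq ((ZMod.natCast_eq_zero_iff _ _).1 h)
  have he0 : 0 < e := Nat.pos_of_dvd_of_pos (ZMod.orderOf_dvd_card_sub_one hq0)
    (by have := hp.two_le; omega)
  haveI : NeZero e := ⟨he0.ne'⟩
  obtain ⟨l, hl⟩ := CharP.exists F
  obtain ⟨f, hlp, -⟩ := FiniteField.card F l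
  haveI := Fact.mk hlp
  let K := FiniteField.Extension F l e
  have hdvd : p ∣ Nat.card Kˣ := by
    rw [Nat.card_units, show Nat.card K = Nat.card F ^ e from FiniteField.natCard_extension F l e,
      Nat.card_eq_fintype_card, ← ZMod.natCast_eq_zero_iff, Nat.cast_sub (Nat.one_le_pow _ _ Fintype.card_pos),
      Nat.cast_pow, pow_orderOf_eq_one, Nat.cast_one, sub_self]
  obtain ⟨ζ, hζ⟩ := exists_prime_orderOf_dvd_card' p hdvd
  let C := Subgroup.zpowers ζ
  have hC : Nat.card C = p := by rw [Nat.card_zpowers, hζ]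
  haveI : Nontrivial C := Finite.one_lt_card_iff_nontrivial.1 (hC ▸ hp.one_lt)
  let μ : C →* Module.End F K := (Algebra.lmul F K).toMonoidHom.comp ((Units.coeHom K).comp C.subtype)
  have hμ : Function.Injective μ := fun a b hab => Subtype.ext (Units.ext (by
    simpa [μ] using LinearMap.congr_fun hab 1))
  obtain ⟨ρ, hρ⟩ := Cfsg.Agent.LinearPGroup.exists_rep_of_equiv
    (LinearEquiv.ofFinrankEq K (Fin e → F)
      (by rw [Module.finrank_fin_fun]; exact FiniteField.finrank_extension F l e)) μ hμ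
  obtain ⟨r, hr⟩ := Cfsg.Agent.LinearPGroup.exists_rep_iterated he0 ρ hρ k
  have hle : e * Nat.card C ^ k ≤ n := by rw [hC]; exact h
  obtain ⟨g, hg⟩ := Cfsg.Agent.LinearPGroup.exists_hom_GL hle r hr
  obtain ⟨φ, hφ⟩ := Cfsg.Agent.S4014.exists_injective_to_sylow (W := IteratedWreathProduct C (k + 1)) P g hg
    (Cfsg.Agent.S4014.isPGroup_iterated p hC (k + 1))
  intro hb
  have h1 := map_derivedSeries_le_derivedSeries φ k
  rw [hb, le_bot_iff, Subgroup.map_eq_bot_iff_of_injective _ hφ] at h1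
  exact Cfsg.Agent.SylowDerived.derivedSeries_iterated_ne_bot k h1

/-- Let p be an odd prime, F a finite field with q elements where p does not divide q, and e the multiplicative order of q modulo p. Let n ≥ e and write w = ⌊n/e⌋ and k = ⌊log_p w⌋. Then a Sylow p-subgroup of GL(n, F) has derived length exactly k + 1: its (k+1)-st derived subgroup is trivial and its k-th is not. -/
theorem result (p : ℕ) [Fact p.Prime] (hp : p ≠ 2) (F : Type*) [Field F] [Fintype F] (q : ℕ) (hq : Fintype.card F = q) (hpq : ¬ p ∣ q) (n : ℕ) (hn : orderOf (q : ZMod p) ≤ n) (P : Sylow p (Matrix.GeneralLinearGroup (Fin n) F)) : derivedSeries ↥(P : Subgroup (Matrix.GeneralLinearGroup (Fin n) F)) (Nat.log p (n / orderOf (q : ZMod p)) + 1) = ⊥ ∧ derivedSeries ↥(P : Subgroup (Matrix.GeneralLinearGroup (Fin n) F)) (Nat.log p (n / orderOf (q : ZMod p))) ≠ ⊥ := by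
  subst hq
  refine ⟨upper p F hpq n P.isPGroup' (P : Subgroup (Matrix.GeneralLinearGroup (Fin n) F)).subtype (P : Subgroup (Matrix.GeneralLinearGroup (Fin n) F)).subtype_injective hn,
    lower p F hpq n _ ?_ P⟩
  have hq0 : (Fintype.card F : ZMod p) ≠ 0 := fun h => hpq ((ZMod.natCast_eq_zero_iff _ _).1 h)
  have he0 : 0 < orderOf (Fintype.card F : ZMod p) := Nat.pos_of_dvd_of_pos (ZMod.orderOf_dvd_card_sub_one hq0)
    (by have := (Fact.out : p.Prime).two_le; omega)
  rw [mul_comm]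
  exact (Nat.le_div_iff_mul_le he0).1
    (Nat.pow_log_le_self p (Nat.div_pos hn he0).ne')

end Cfsg.Agent.S4015
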