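import Cfsg.Statements.S4020
import Cfsg.Agent.S0016
import Cfsg.Agent.Lib.ZStarPrimePower.Proved
import Cfsg.Agent.Lib.PGroup.RankTwoAut
import Cfsg.Agent.Lib.PGroup.RankTwo
import Cfsg.Agent.Lib.PGroup.UniqueOrderP
set_option linter.style.haveILetI false
set_option linter.unusedSectionVars false
-- import your own Cfsg.Agent.* helpers here

set_option autoImplicit false
open Cfsg

namespace Cfsg.Agent.S4020
universe u

open Subgroup
open scoped commutatorElement

/-- Conjugacy of all `p`-subgroups of equal order, for one prime. -/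
def EqOrderConj (G : Type u) [Group G] (p : ℕ) : Prop :=
  ∀ H K : Subgroup G, IsPGroup p H → IsPGroup p K → Nat.card H = Nat.card K →
    ∃ g : G, K = H.map (MulAut.conj g).toMonoidHom

variable {G : Type u} [Group G] [Finite G] {p : ℕ} [Fact p.Prime]

omit [Finite G] [Fact p.Prime] in
theorem orderOf_conj' (g a : G) : orderOf (g * a * g⁻¹) = orderOf a :=
  MulEquiv.orderOf_eq (MulAut.conj g) a

omit [Finite G] [Fact p.Prime] in
theorem comm_of_conj {H K : Subgroup G} {g : G} (h : K = H.map (MulAut.conj g).toMonoidHom)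
    (hc : ∀ x ∈ H, ∀ y ∈ H, x * y = y * x) : ∀ x ∈ K, ∀ y ∈ K, x * y = y * x := by
  rw [h]
  rintro _ ⟨x, hx, rfl⟩ _ ⟨y, hy, rfl⟩
  rw [← map_mul, ← map_mul, hc x hx y hy]

omit [Finite G] [Fact p.Prime] in
theorem pow_eq_one_of_conj {H K : Subgroup G} {g : G} {n : ℕ} (h : K = H.map (MulAut.conj g).toMonoidHom)
    (hc : ∀ x ∈ H, x ^ n = 1) : ∀ x ∈ K, x ^ n = 1 := by
  rw [h]
  rintro _ ⟨x, hx, rfl⟩
  rw [← map_pow, hc x hx, map_one]

omit [Finite G] [Fact p.Prime] in
theorem isPGroup_of_card {H : Subgroup G} {n : ℕ} (h : Nat.card H = p ^ n) : IsPGroup p H :=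
  IsPGroup.of_card h

/-- With an element of order above `p` in a `p`-group of conjugate subgroups, the subgroups of
order `p` of a Sylow subgroup coincide. -/
theorem unique_of_not_exponent (hD : EqOrderConj G p) (P : Sylow p G) {a : G} (ha : a ∈ P)
    (hap : a ^ p ≠ 1) :
    ∀ H K : Subgroup (P : Subgroup G), Nat.card H = p → Nat.card K = p → H = K := by
  haveI : Fact (Nat.Prime p) := inferInstance
  obtain ⟨k, hk⟩ := IsPGroup.iff_orderOf.1 P.isPGroup' ⟨a, ha⟩
  rw [Subgroup.orderOf_mk] at hk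
  have hk2 : 2 ≤ k := by
    by_contra hc
    apply hap
    apply orderOf_dvd_iff_pow_eq_one.1
    rw [hk]
    exact (pow_dvd_pow p (by omega : k ≤ 1)).trans (by rw [pow_one])
  set C := zpowers (a ^ p ^ (k - 2)) with hCdef
  have hCc : Nat.card C = p ^ 2 := by
    rw [Nat.card_zpowers, orderOf_pow' a (pow_ne_zero _ (Fact.out : p.Prime).ne_zero), hk,
      Nat.gcd_eq_right (pow_dvd_pow p (by omega)), Nat.pow_div (by omega) (Fact.out : p.Prime).pos]
    congr 1
    omega
  have hcyc : ∀ W : Subgroup G, Nat.card W = p ^ 2 → IsCyclic W := by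
    intro W hW
    obtain ⟨g, hg⟩ := hD C W (isPGroup_of_card hCc) (isPGroup_of_card hW) (hCc.trans hW.symm)
    rw [hg]
    exact isCyclic_of_surjective
      ((C.equivMapOfInjective _ (MulAut.conj g).injective).toMonoidHom) (MulEquiv.surjective _)
  have key : ∀ x y : G, x ∈ P → y ∈ P → orderOf x = p → orderOf y = p → x * y = y * x →
      y ∈ zpowers x := by
    intro x y hxP hyP hx hy hc
    by_contra hn
    have hN : zpowers y ≤ normalizer ((zpowers x : Subgroup G) : Set G) :=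
      zpowers_le.2 (centralizer_le_normalizer _ (show y ∈ centralizer (zpowers x : Set G) from
        mem_centralizer_iff.2 (by
          intro w hw
          obtain ⟨i, rfl⟩ := mem_zpowers_iff.1 hw
          exact (Commute.zpow_left hc i).eq)))
    set W := zpowers y ⊔ zpowers x with hW
    have hle : Nat.card W ≤ p ^ 2 := by
      refine (PGroup.card_sup_le hN).trans ?_
      rw [Nat.card_zpowers, Nat.card_zpowers, hx, hy, sq]
    have hWP : W ≤ (P : Subgroup G) := sup_le (zpowers_le.2 hyP) (zpowers_le.2 hxP)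
    obtain ⟨n, hn'⟩ := IsPGroup.iff_card.1 (P.isPGroup'.to_le hWP)
    have hlt : p < Nat.card W := by
      rw [← hx, ← Nat.card_zpowers]
      refine lt_of_le_of_ne (card_le_of_le le_sup_right) fun he => hn ?_
      have := Subgroup.eq_of_le_of_card_ge (le_sup_right : zpowers x ≤ W) he.ge
      rw [this]
      exact (le_sup_left : zpowers y ≤ W) (mem_zpowers y)
    have hn2 : n = 2 := by
      have h1 := (Nat.pow_le_pow_iff_right (Fact.out : p.Prime).one_lt).1 (hn' ▸ hle)
      have h2 : 1 < n := by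
        by_contra hc2
        exact absurd (hn' ▸ hlt) (not_lt.2 ((Nat.pow_le_pow_right (Fact.out : p.Prime).pos
          (by omega : n ≤ 1)).trans (by rw [pow_one])))
      omega
    rw [hn2] at hn'
    exact hn (PGroup.mem_zpowers_of_isCyclic (p := p) (hcyc W hn')
      ((le_sup_right : zpowers x ≤ W) (mem_zpowers x)) ((le_sup_left : zpowers y ≤ W) (mem_zpowers y)) hx
      (by rw [← hy]; exact pow_orderOf_eq_one y))
  haveI : Nontrivial (P : Subgroup G) := ⟨⟨⟨a, ha⟩, 1, fun e => hap (by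
    rw [show a = 1 from congrArg Subtype.val e, one_pow])⟩⟩
  haveI := P.isPGroup'.center_nontrivial
  obtain ⟨m, hm, hmc⟩ := (P.isPGroup'.to_subgroup (center (P : Subgroup G))).nontrivial_iff_card.1
    inferInstance
  obtain ⟨z, hz⟩ := exists_prime_orderOf_dvd_card' (G := center (P : Subgroup G)) p
    (hmc ▸ dvd_pow_self p hm.ne')
  rw [← Subgroup.orderOf_coe, ← Subgroup.orderOf_coe] at hz
  intro H K hH hK
  have hsame : ∀ J : Subgroup (P : Subgroup G), Nat.card J = p → J = zpowers (z : (P : Subgroup G)) := by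
    intro J hJ
    symm
    obtain ⟨y, hy⟩ := exists_prime_orderOf_dvd_card' (G := J) p (by rw [hJ])
    rw [← Subgroup.orderOf_coe, ← Subgroup.orderOf_coe] at hy
    have hmem := key _ _ (z : (P : Subgroup G)).2 (y : (P : Subgroup G)).2 hz hy
      (congrArg Subtype.val (Subgroup.mem_center_iff.1 z.2 (y : (P : Subgroup G)))).symm
    obtain ⟨i, hi⟩ := mem_zpowers_iff.1 hmem
    have hyz : ((y : (P : Subgroup G))) ∈ zpowers (z : (P : Subgroup G)) :=
      mem_zpowers_iff.2 ⟨i, Subtype.ext (by simpa using hi)⟩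
    have hy' : J = zpowers (y : (P : Subgroup G)) := by
      symm
      refine Subgroup.eq_of_le_of_card_ge (zpowers_le.2 y.2) ?_
      rw [hJ, Nat.card_zpowers, ← Subgroup.orderOf_coe, hy]
    rw [hy']
    refine (Subgroup.eq_of_le_of_card_ge (zpowers_le.2 hyz) ?_).symm
    rw [Nat.card_zpowers, Nat.card_zpowers, ← Subgroup.orderOf_coe, ← Subgroup.orderOf_coe, hz, hy]
  rw [hsame H hH, hsame K hK]

omit [Finite G] [Fact p.Prime] in
theorem mem_of_xa {n : ℕ} {y : QuaternionGroup n} {i : ZMod (2 * n)} (hy : y = QuaternionGroup.a i) :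
    ∀ k : ℕ, ∃ j, y ^ k = QuaternionGroup.a j := by
  intro k
  induction k with
  | zero => exact ⟨0, rfl⟩
  | succ k ih =>
    obtain ⟨j, hj⟩ := ih
    exact ⟨j + i, by rw [pow_succ, hj, hy, QuaternionGroup.a_mul_a]⟩

/-- The prime two. -/
theorem two_case (hD : EqOrderConj G 2) (P : Sylow 2 G) :
    IsCyclic P ∨ Cfsg.IsElementaryAbelian 2 (P : Subgroup G) ∨
      Nonempty ((P : Subgroup G) ≃* QuaternionGroup 2) := by
  haveI : Fact (Nat.Prime 2) := ⟨Nat.prime_two⟩
  by_cases he : ∀ a ∈ (P : Subgroup G), a ^ 2 = 1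
  · refine Or.inr (Or.inl ⟨⟨⟨fun a b => Subtype.ext ?_⟩⟩, he⟩)
    have h1 := he _ (P.mul_mem a.2 b.2)
    have h2 := he _ a.2
    have h3 := he _ b.2
    rw [sq] at h1 h2 h3
    show (a : G) * b = b * a
    have := inv_eq_of_mul_eq_one_right h1
    rw [mul_inv_rev, inv_eq_of_mul_eq_one_right h2, inv_eq_of_mul_eq_one_right h3] at this
    exact this.symm
  · push Not at he
    obtain ⟨a, ha, ha2⟩ := he
    rcases S0016.result 2 P.isPGroup' (unique_of_not_exponent hD P ha ha2) with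
      h | ⟨-, n, ⟨e⟩⟩
    · exact Or.inl h
    have hcard : Nat.card (P : Subgroup G) = 4 * 2 ^ n := by
      rw [Nat.card_congr e.toEquiv, Nat.card_eq_fintype_card, QuaternionGroup.card]
    have hxa : orderOf (e.symm (QuaternionGroup.xa 0)) = 4 := by
      rw [MulEquiv.orderOf_eq]
      exact QuaternionGroup.orderOf_xa 0
    match n, e, hcard, hxa with
    | 0, e, hcard, hxa => exact Or.inl (isCyclic_of_orderOf_eq_card _ (hxa.trans (by rw [hcard]; rfl)))
    | 1, e, _, _ => exact Or.inr (Or.inr ⟨e⟩)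
    | n + 2, e, hcard, hxa =>
      exfalso
      set x : G := ((e.symm (QuaternionGroup.xa 0) : (P : Subgroup G)) : G) with hx
      set b : G := ((e.symm (QuaternionGroup.a 1) : (P : Subgroup G)) : G) with hb
      have hb8 : orderOf b = 2 * 2 ^ (n + 2) := by
        rw [hb, Subgroup.orderOf_coe, MulEquiv.orderOf_eq]
        exact QuaternionGroup.orderOf_a_one
      set C := zpowers (b ^ 2 ^ n) with hC
      have hCc : Nat.card C = 8 := by
        rw [hC, Nat.card_zpowers, orderOf_pow' b (by positivity), hb8, show 2 * 2 ^ (n + 2) = 8 * 2 ^ n by ring,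
          Nat.gcd_mul_left_left, Nat.mul_div_cancel _ (by positivity)]
      obtain ⟨W, hW, hxW⟩ := Sylow.exists_subgroup_card_pow_prime_le (G := (P : Subgroup G)) 2
        (n := 2) (m := 3) (by rw [hcard]; exact ⟨2 ^ (n + 1), by ring⟩)
        (zpowers (e.symm (QuaternionGroup.xa 0))) (by rw [Nat.card_zpowers, hxa]; rfl) (by norm_num)
      set W' := W.map (P : Subgroup G).subtype with hW'
      have hW'c : Nat.card W' = 8 := by
        rw [hW', Nat.card_congr (W.equivMapOfInjective _ (Subgroup.subtype_injective _)).toEquiv.symm, hW]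
        rfl
      obtain ⟨g, hg⟩ := hD C W' (isPGroup_of_card (n := 3) (by rw [hCc]; rfl))
        (isPGroup_of_card (n := 3) (by rw [hW'c]; rfl)) (hCc.trans hW'c.symm)
      have hmapgen : W' = zpowers ((MulAut.conj g) (b ^ 2 ^ n)) := by
        rw [hg, hC, MonoidHom.map_zpowers]
        rfl
      have hyP : (MulAut.conj g) (b ^ 2 ^ n) ∈ (P : Subgroup G) := by
        have : (MulAut.conj g) (b ^ 2 ^ n) ∈ W' := hmapgen ▸ mem_zpowers _
        obtain ⟨w, -, hw⟩ := this
        exact hw ▸ w.2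
      set y : (P : Subgroup G) := ⟨_, hyP⟩ with hy
      have hy8 : orderOf (e y) = 8 := by
        rw [MulEquiv.orderOf_eq, hy, Subgroup.orderOf_mk, MulEquiv.orderOf_eq, ← Nat.card_zpowers]
        exact hCc
      have hxmem : x ∈ zpowers ((MulAut.conj g) (b ^ 2 ^ n)) :=
        hmapgen ▸ ⟨_, hxW (mem_zpowers _), rfl⟩
      obtain ⟨k, hk⟩ := mem_powers_iff_mem_zpowers.2 hxmem
      have hk' : (e y) ^ k = QuaternionGroup.xa 0 := by
        rw [← map_pow, show y ^ k = e.symm (QuaternionGroup.xa 0) from Subtype.ext (by simpa [hy, hx] using hk),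
          MulEquiv.apply_symm_apply]
      rcases hcase : e y with i | i
      · obtain ⟨j, hj⟩ := mem_of_xa hcase k
        rw [hk'] at hj
        cases hj
      · rw [hcase, QuaternionGroup.orderOf_xa] at hy8
        omega

omit [Finite G] [Fact p.Prime] in
theorem swap_identity {u v x z : G} (huz : u * z * u⁻¹ = z) (hux : u * x * u⁻¹ = x * z)
    (hvx : v * x * v⁻¹ = x) (hvz : v * z * v⁻¹ = z * x⁻¹) (hc : x * z = z * x) :
    u * v * u * x * (u * v * u)⁻¹ = z ∧ u * v * u * z * (u * v * u)⁻¹ = x⁻¹ := by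
  have conj : ∀ a, u * v * u * a * (u * v * u)⁻¹ = u * (v * (u * a * u⁻¹) * v⁻¹) * u⁻¹ :=
    fun a => by group
  constructor
  · rw [conj, hux, show v * (x * z) * v⁻¹ = v * x * v⁻¹ * (v * z * v⁻¹) by group, hvx, hvz,
      show x * (z * x⁻¹) = z by rw [← mul_assoc, hc, mul_inv_cancel_right], huz]
  · rw [conj, huz, hvz, show u * (z * x⁻¹) * u⁻¹ = u * z * u⁻¹ * (u * x * u⁻¹)⁻¹ by group, huz, hux,
      mul_inv_rev, ← mul_assoc, mul_inv_cancel, one_mul]

omit [Finite G] [Fact p.Prime] in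
theorem conj_pow_comp {w x : G} {n : ℕ} (h : w ^ n * x * (w ^ n)⁻¹ = x) (k : ℕ) :
    (w ^ n) ^ k * x * ((w ^ n) ^ k)⁻¹ = x := by
  induction k with
  | zero => simp
  | succ k ih =>
    rw [pow_succ', show w ^ n * (w ^ n) ^ k * x * (w ^ n * (w ^ n) ^ k)⁻¹ =
      w ^ n * ((w ^ n) ^ k * x * ((w ^ n) ^ k)⁻¹) * (w ^ n)⁻¹ by group, ih, h]

/-- An odd prime: a nonabelian Sylow subgroup of exponent `p` and order `p ^ 3` is impossible. -/
theorem no_extraspecial (hp2 : p ≠ 2) (hD : EqOrderConj G p) (hD2 : EqOrderConj G 2) (P : Sylow p G)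
    (hexp : ∀ a ∈ (P : Subgroup G), a ^ p = 1) (hcard : Nat.card (P : Subgroup G) = p ^ 3)
    (hnc : ¬ IsMulCommutative (P : Subgroup G)) : False := by
  haveI : Fact (Nat.Prime 2) := ⟨Nat.prime_two⟩
  have hp : p.Prime := Fact.out
  -- the centre
  haveI : Nontrivial (P : Subgroup G) := Finite.one_lt_card_iff_nontrivial.1 (by
    rw [hcard]; exact Nat.one_lt_pow (by norm_num) hp.one_lt)
  haveI := P.isPGroup'.center_nontrivial
  have hnc' : ¬ ∀ a b : (P : Subgroup G), a * b = b * a := fun h => hnc ⟨⟨h⟩⟩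
  obtain ⟨c, hc⟩ := IsPGroup.iff_card.1 (P.isPGroup'.to_subgroup (center (P : Subgroup G)))
  have hmul := Subgroup.card_eq_card_quotient_mul_card_subgroup (center (P : Subgroup G))
  rw [hcard, hc] at hmul
  have hZ : Nat.card (center (P : Subgroup G)) = p ∧
      ∀ a b : (P : Subgroup G) ⧸ center (P : Subgroup G), a * b = b * a := by
    have h1 : 1 ≤ c := by
      by_contra h0
      have : 1 < Nat.card (center (P : Subgroup G)) := Finite.one_lt_card
      rw [hc, show c = 0 by omega] at this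
      simp at this
    have hcle : c ≤ 3 := (Nat.pow_le_pow_iff_right hp.one_lt).1 (hc ▸ hcard ▸ Subgroup.card_le_card_group _)
    have hq : Nat.card ((P : Subgroup G) ⧸ center (P : Subgroup G)) = p ^ (3 - c) := by
      refine Nat.eq_of_mul_eq_mul_right (pow_pos hp.pos c) ?_
      rw [← hmul, ← pow_add, Nat.sub_add_cancel hcle]
    rcases (show c = 1 ∨ c = 2 ∨ c = 3 by omega) with h | h | h
    · rw [h] at hq
      refine ⟨by rw [hc, h, pow_one], fun a b => ?_⟩
      haveI : IsMulCommutative ((P : Subgroup G) ⧸ center (P : Subgroup G)) :=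
        IsPGroup.isMulCommutative_of_card_eq_prime_sq hq
      exact mul_comm' a b
    · rw [h, pow_one] at hq
      haveI := isCyclic_of_prime_card hq
      exact absurd (commutative_of_cyclic_center_quotient (QuotientGroup.mk' (center (P : Subgroup G)))
        (by rw [QuotientGroup.ker_mk'])) hnc'
    · exfalso
      apply hnc'
      intro a b
      have : center (P : Subgroup G) = ⊤ := Subgroup.eq_top_of_card_eq _ (by rw [hc, h, hcard])
      exact (Subgroup.mem_center_iff.1 (this ▸ mem_top b : b ∈ center _) a)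
  obtain ⟨z₀, hz₀⟩ := exists_prime_orderOf_dvd_card' (G := center (P : Subgroup G)) p (by rw [hZ.1])
  have hzgen : center (P : Subgroup G) = zpowers (z₀ : (P : Subgroup G)) := by
    symm
    refine Subgroup.eq_of_le_of_card_ge (zpowers_le.2 z₀.2) ?_
    rw [Nat.card_zpowers, Subgroup.orderOf_coe, hz₀, hZ.1]
  set z : G := ((z₀ : (P : Subgroup G)) : G) with hzdef
  have hzo : orderOf z = p := by rw [hzdef, Subgroup.orderOf_coe, Subgroup.orderOf_coe, hz₀]
  have hzP : z ∈ (P : Subgroup G) := (z₀ : (P : Subgroup G)).2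
  have comm_mem : ∀ a ∈ (P : Subgroup G), ∀ b ∈ (P : Subgroup G), a * b * a⁻¹ * b⁻¹ ∈ zpowers z := by
    intro a ha b hb
    have hmem : (⟨a, ha⟩ * ⟨b, hb⟩ * (⟨a, ha⟩ : (P : Subgroup G))⁻¹ * (⟨b, hb⟩ : (P : Subgroup G))⁻¹) ∈
        center (P : Subgroup G) := by
      rw [← QuotientGroup.eq_one_iff, QuotientGroup.mk_mul, QuotientGroup.mk_mul, QuotientGroup.mk_mul,
        QuotientGroup.mk_inv, QuotientGroup.mk_inv, hZ.2 (↑(⟨a, ha⟩ : (P : Subgroup G))) (↑(⟨b, hb⟩ : (P : Subgroup G))),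
        mul_inv_cancel_right, mul_inv_cancel]
    rw [hzgen] at hmem
    obtain ⟨i, hi⟩ := mem_zpowers_iff.1 hmem
    exact mem_zpowers_iff.2 ⟨i, by simpa [hzdef] using congrArg Subtype.val hi⟩
  have z_central : ∀ a ∈ (P : Subgroup G), a * z = z * a := fun a ha =>
    congrArg Subtype.val (Subgroup.mem_center_iff.1 z₀.2 ⟨a, ha⟩)
  have noncentral : ∀ a ∈ (P : Subgroup G), a ∉ zpowers z → ∃ b ∈ (P : Subgroup G), b * a ≠ a * b := by
    intro a ha haz
    by_contra hh
    push Not at hh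
    have hmem : (⟨a, ha⟩ : (P : Subgroup G)) ∈ center (P : Subgroup G) :=
      Subgroup.mem_center_iff.2 fun b => Subtype.ext (hh b b.2)
    rw [hzgen] at hmem
    obtain ⟨i, hi⟩ := mem_zpowers_iff.1 hmem
    exact haz (mem_zpowers_iff.2 ⟨i, by simpa [hzdef] using congrArg Subtype.val hi⟩)
  -- x outside the centre, conjugate to z
  obtain ⟨x, hxP, hxz⟩ : ∃ x ∈ (P : Subgroup G), x ∉ zpowers z := by
    by_contra hh
    push Not at hh
    refine hnc' fun a b => Subtype.ext ?_
    obtain ⟨i, hi⟩ := mem_zpowers_iff.1 (hh _ a.2)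
    show (a : G) * b = b * a
    rw [← hi]
    exact (Commute.zpow_left (z_central _ b.2).symm i).eq
  have hx1 : x ≠ 1 := fun h => hxz (h ▸ one_mem _)
  have hxo : orderOf x = p := orderOf_eq_prime (hexp x hxP) hx1
  obtain ⟨g, hg⟩ := hD (zpowers z) (zpowers x) (isPGroup_of_card (n := 1) (by rw [Nat.card_zpowers, hzo, pow_one]))
    (isPGroup_of_card (n := 1) (by rw [Nat.card_zpowers, hxo, pow_one]))
    (by rw [Nat.card_zpowers, Nat.card_zpowers, hzo, hxo])
  rw [MonoidHom.map_zpowers] at hg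
  set C := centralizer ({x} : Set G) with hCdef
  set R := (P : Subgroup G).map (MulAut.conj g).toMonoidHom with hR
  have hRC : R ≤ C := by
    rintro _ ⟨a, ha, rfl⟩
    have hx' : x ∈ zpowers ((MulAut.conj g).toMonoidHom z) := hg ▸ mem_zpowers x
    obtain ⟨i, hi⟩ := mem_zpowers_iff.1 hx'
    rw [hCdef, mem_centralizer_singleton_iff, ← hi]
    exact (Commute.zpow_right (Commute.map (z_central a ha) (MulAut.conj g).toMonoidHom) i).eq
  have hRcard : Nat.card R = p ^ 3 := by
    rw [hR, Nat.card_congr ((P : Subgroup G).equivMapOfInjective _ (MulAut.conj g).injective).toEquiv.symm, hcard]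
  have hzC : z ∈ C := mem_centralizer_singleton_iff.2 (z_central x hxP).symm
  have hxC : x ∈ C := mem_centralizer_singleton_iff.2 rfl
  set E := zpowers z ⊔ zpowers x with hE
  have hEC : E ≤ C := sup_le (zpowers_le.2 hzC) (zpowers_le.2 hxC)
  have hEP : E ≤ (P : Subgroup G) := sup_le (zpowers_le.2 hzP) (zpowers_le.2 hxP)
  obtain ⟨PR, hPR⟩ := ((IsPGroup.of_card hRcard).comap_of_injective C.subtype
    (Subgroup.subtype_injective _) : IsPGroup p (R.subgroupOf C)).exists_le_sylow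
  obtain ⟨PE, hPE⟩ := (((P.isPGroup'.to_le hEP)).comap_of_injective C.subtype
    (Subgroup.subtype_injective _) : IsPGroup p (E.subgroupOf C)).exists_le_sylow
  have hPRe : R.subgroupOf C = (PR : Subgroup C) := by
    refine Subgroup.eq_of_le_of_card_ge hPR ?_
    rw [Nat.card_congr (Subgroup.subgroupOfEquivOfLe hRC).toEquiv, hRcard, ← hcard]
    obtain ⟨T, hT⟩ := (PR.isPGroup'.map C.subtype).exists_le_sylow
    calc Nat.card (PR : Subgroup C) = Nat.card ((PR : Subgroup C).map C.subtype) :=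
          Nat.card_congr ((PR : Subgroup C).equivMapOfInjective _ (Subgroup.subtype_injective _)).toEquiv
      _ ≤ Nat.card (T : Subgroup G) := card_le_of_le hT
      _ = Nat.card (P : Subgroup G) := Nat.card_congr (T.equiv P).toEquiv
  obtain ⟨c, hc⟩ := MulAction.exists_smul_eq C PE PR
  set k : G := (c : G)⁻¹ * g with hk
  have hEQ : ∀ e ∈ E, k⁻¹ * e * k ∈ (P : Subgroup G) := by
    intro e he
    have h1 : (⟨e, hEC he⟩ : C) ∈ (PE : Subgroup C) := hPE (mem_subgroupOf.2 he)
    have h2 : c * ⟨e, hEC he⟩ * c⁻¹ ∈ (PR : Subgroup C) := by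
      rw [← hc, Sylow.coe_subgroup_smul]
      exact Subgroup.mem_pointwise_smul_iff_inv_smul_mem.2 (by simpa [MulAut.smul_def, mul_assoc] using h1)
    rw [← hPRe, mem_subgroupOf] at h2
    obtain ⟨a, ha, hae⟩ := h2
    have : k⁻¹ * e * k = a := by
      simp only [MulEquiv.coe_toMonoidHom, MulAut.conj_apply, Subgroup.coe_mul, InvMemClass.coe_inv] at hae
      rw [hk, show ((c : G)⁻¹ * g)⁻¹ * e * ((c : G)⁻¹ * g) = g⁻¹ * ((c : G) * e * (c : G)⁻¹) * g by group,
        ← hae]
      group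
    rw [this]; exact ha
  have hkz : k * z * k⁻¹ ∈ zpowers x := by
    have h1 : g * z * g⁻¹ ∈ zpowers x := by
      rw [hg]; exact mem_zpowers _
    obtain ⟨i, hi⟩ := mem_zpowers_iff.1 h1
    refine mem_zpowers_iff.2 ⟨i, ?_⟩
    have hcx : (c : G) * x = x * c := mem_centralizer_singleton_iff.1 c.2
    have : Commute (c : G)⁻¹ (x ^ i) := (Commute.inv_left hcx).zpow_right i
    rw [hk, show (c : G)⁻¹ * g * z * ((c : G)⁻¹ * g)⁻¹ = (c : G)⁻¹ * (g * z * g⁻¹) * c by group, ← hi,
      this.eq, inv_mul_cancel_right]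
  have hkgen : zpowers (k * z * k⁻¹) = zpowers x := Subgroup.eq_of_le_of_card_ge (zpowers_le.2 hkz)
    (by rw [Nat.card_zpowers, Nat.card_zpowers, hxo, orderOf_conj', hzo])
  -- u
  obtain ⟨u, huP, hu⟩ := noncentral x hxP hxz
  set z₁ := u * x * u⁻¹ * x⁻¹ with hz₁
  have hz₁z : z₁ ∈ zpowers z := comm_mem u huP x hxP
  have hz₁1 : z₁ ≠ 1 := fun h => hu (mul_inv_eq_iff_eq_mul.1 (mul_inv_eq_one.1 h))
  have hz₁P : z₁ ∈ (P : Subgroup G) := zpowers_le.2 hzP hz₁z
  have hz₁E : z₁ ∈ E := (le_sup_left : zpowers z ≤ E) hz₁z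
  have hz₁x : z₁ ∉ zpowers x := by
    intro h
    apply hxz
    obtain ⟨i, hi⟩ := mem_zpowers_iff.1 h
    have : zpowers z₁ = zpowers x := Subgroup.eq_of_le_of_card_ge (zpowers_le.2 h) (by
      rw [Nat.card_zpowers, Nat.card_zpowers, hxo, orderOf_eq_prime (hexp z₁ hz₁P) hz₁1])
    exact (zpowers_le.2 hz₁z) (this ▸ mem_zpowers x)
  have hcomm₁ : ∀ a ∈ (P : Subgroup G), a * z₁ = z₁ * a := by
    intro a ha
    obtain ⟨i, hi⟩ := mem_zpowers_iff.1 hz₁z
    rw [← hi]
    exact (Commute.zpow_right (z_central a ha) i).eq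
  have hux : u * x * u⁻¹ = x * z₁ := by
    rw [hcomm₁ x hxP, hz₁, inv_mul_cancel_right]
  have huz : u * z₁ * u⁻¹ = z₁ := by rw [hcomm₁ u huP, mul_inv_cancel_right]
  -- v
  set z' := k⁻¹ * z₁ * k with hz'
  have hz'P : z' ∈ (P : Subgroup G) := hEQ z₁ hz₁E
  have hz'z : z' ∉ zpowers z := by
    intro h
    apply hz₁x
    obtain ⟨i, hi⟩ := mem_zpowers_iff.1 h
    rw [← hkgen, mem_zpowers_iff]
    exact ⟨i, by rw [conj_zpow, hi, hz']; group⟩
  obtain ⟨v', hv'P, hv'⟩ := noncentral z' hz'P hz'z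
  set d := v' * z' * v'⁻¹ * z'⁻¹ with hd
  have hd1 : d ≠ 1 := fun h => hv' (mul_inv_eq_iff_eq_mul.1 (mul_inv_eq_one.1 h))
  have hdz : d ∈ zpowers z := comm_mem v' hv'P z' hz'P
  set v₀ := k * v' * k⁻¹ with hv₀
  have hv₀x : v₀ * x = x * v₀ := by
    obtain ⟨i, hi⟩ := mem_zpowers_iff.1 (hkgen.ge (mem_zpowers x))
    rw [← hi]
    refine (Commute.zpow_right ?_ i).eq
    show v₀ * (k * z * k⁻¹) = k * z * k⁻¹ * v₀
    rw [hv₀]
    simpa using congrArg (fun t => k * t * k⁻¹) (z_central v' hv'P)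
  have hdconj : v₀ * z₁ * v₀⁻¹ = k * d * k⁻¹ * z₁ := by
    rw [hd, hv₀, hz']; group
  have hdx : k * d * k⁻¹ ∈ zpowers x := by
    rw [← hkgen]
    obtain ⟨i, hi⟩ := mem_zpowers_iff.1 hdz
    exact mem_zpowers_iff.2 ⟨i, by rw [conj_zpow, hi]⟩
  have hgenx : zpowers (k * d * k⁻¹) = zpowers x := Subgroup.eq_of_le_of_card_ge (zpowers_le.2 hdx) (by
    rw [Nat.card_zpowers, Nat.card_zpowers, hxo, orderOf_conj',
      orderOf_eq_prime (hexp d (zpowers_le.2 hzP hdz)) hd1])
  obtain ⟨j, hj⟩ := mem_powers_iff_mem_zpowers.2 (hgenx.ge (inv_mem (mem_zpowers x)))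
  have hj' : (k * d * k⁻¹) ^ j = x⁻¹ := hj
  have hpowv : ∀ j : ℕ, v₀ ^ j * z₁ * (v₀ ^ j)⁻¹ = (k * d * k⁻¹) ^ j * z₁ := by
    intro j
    induction j with
    | zero => simp
    | succ j ih =>
      have hcj : Commute v₀ ((k * d * k⁻¹) ^ j) := by
        obtain ⟨i, hi⟩ := mem_zpowers_iff.1 hdx
        rw [← hi]
        exact ((Commute.zpow_right hv₀x i)).pow_right j
      rw [pow_succ', show v₀ * v₀ ^ j * z₁ * (v₀ * v₀ ^ j)⁻¹ = v₀ * (v₀ ^ j * z₁ * (v₀ ^ j)⁻¹) * v₀⁻¹ by group,
        ih, ← mul_assoc, hcj.eq, mul_assoc ((k * d * k⁻¹) ^ j), mul_assoc ((k * d * k⁻¹) ^ j), hdconj,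
        ← mul_assoc, ← pow_succ]
  set v := v₀ ^ j with hvdef
  have hvx : v * x * v⁻¹ = x := by
    rw [hvdef, (Commute.pow_left hv₀x j).eq, mul_inv_cancel_right]
  have hvz : v * z₁ * v⁻¹ = z₁ * x⁻¹ := by
    rw [hvdef, hpowv j, hj']
    exact (Commute.inv_left (hcomm₁ x hxP)).eq
  obtain ⟨hw1, hw2⟩ := swap_identity huz hux hvx hvz (hcomm₁ x hxP)
  set w := u * v * u with hw
  have hwsq : w ^ 2 * x * (w ^ 2)⁻¹ = x⁻¹ := by
    rw [sq, show w * w * x * (w * w)⁻¹ = w * (w * x * w⁻¹) * w⁻¹ by group, hw1, hw2]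
  have hw4 : w ^ 4 * x * (w ^ 4)⁻¹ = x := by
    rw [show w ^ 4 * x * (w ^ 4)⁻¹ = w ^ 2 * (w ^ 2 * x * (w ^ 2)⁻¹) * (w ^ 2)⁻¹ by group, hwsq,
      show w ^ 2 * x⁻¹ * (w ^ 2)⁻¹ = (w ^ 2 * x * (w ^ 2)⁻¹)⁻¹ by group, hwsq, inv_inv]
  have hxinv : x⁻¹ ≠ x := fun h => hx1 (by
    have h2 : x ^ 2 = 1 := by rw [sq]; nth_rw 1 [← h]; rw [inv_mul_cancel]
    have := (Nat.prime_dvd_prime_iff_eq hp Nat.prime_two).1 (hxo ▸ orderOf_dvd_of_pow_eq_one h2)
    exact absurd this hp2)
  -- odd order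
  have hodd : ∀ e : ℕ, w ^ e * x * (w ^ e)⁻¹ ≠ x → ¬ Odd (orderOf (w ^ e)) := by
    intro e hne ho
    apply hne
    have hcop : Nat.Coprime 4 (orderOf (w ^ e)) := by
      rw [show 4 = 2 ^ 2 by rfl]
      exact Nat.Coprime.pow_left 2 ho.coprime_two_left
    obtain ⟨i, hi⟩ := exists_pow_eq_self_of_coprime hcop
    rw [← hi, ← pow_mul, ← pow_mul, show e * (4 * i) = 4 * (e * i) by ring, pow_mul]
    exact conj_pow_comp hw4 _
  have hkey : ∀ N : Subgroup G, Odd (Nat.card N) → u ∈ N → v ∈ N → False := by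
    intro N hN huN hvN
    refine hodd 2 (by rw [hwsq]; exact hxinv) ?_
    exact Odd.of_dvd_nat hN (N.orderOf_dvd_natCard (pow_mem (mul_mem (mul_mem huN hvN) huN) 2))
  have hvp : v ^ p = 1 := by
    rw [hvdef, ← pow_mul, mul_comm, pow_mul, hv₀, conj_pow, hexp v' hv'P, mul_one, mul_inv_cancel, one_pow]
  -- a 2-element inverting x
  have h4w : 4 ∣ orderOf w := by
    by_contra h4
    have h2 : ¬ Odd (orderOf (w ^ 2)) := hodd 2 (by rw [hwsq]; exact hxinv)
    rw [Nat.not_odd_iff_even, even_iff_two_dvd, orderOf_pow' w two_ne_zero] at h2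
    apply h4
    have := Nat.mul_dvd_of_dvd_div (Nat.gcd_dvd_left _ _) h2
    rcases (Nat.dvd_prime Nat.prime_two).1 (Nat.gcd_dvd_right (orderOf w) 2) with hg | hg
    · rw [hg, one_mul] at this
      rw [Nat.gcd_comm, Nat.gcd_eq_left this] at hg
      omega
    · rw [hg] at this
      exact this
  obtain ⟨s, m, hm, hsm⟩ := Nat.exists_eq_two_pow_mul_odd (orderOf_pos w).ne'
  obtain ⟨T, hT⟩ := (IsPGroup.of_card (p := 2) (n := s) (G := zpowers (w ^ m)) (by
    rw [Nat.card_zpowers, orderOf_pow' w (Nat.pos_iff_ne_zero.1 hm.pos), hsm, Nat.gcd_mul_left_left,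
      Nat.mul_div_cancel _ hm.pos])).exists_le_sylow
  have hwmT : w ^ m ∈ T := hT (mem_zpowers _)
  have hwm : orderOf (w ^ m) = 2 ^ s := by
    rw [orderOf_pow' w (Nat.pos_iff_ne_zero.1 hm.pos), hsm, Nat.gcd_mul_left_left,
      Nat.mul_div_cancel _ hm.pos]
  have hs2 : 2 ≤ s := by
    by_contra hs
    rw [hsm] at h4w
    have := (Nat.Coprime.pow_left 2 hm.coprime_two_left).dvd_of_dvd_mul_right (show 2 ^ 2 ∣ 2 ^ s * m from h4w)
    have := (Nat.pow_dvd_pow_iff_le_right (by norm_num : 1 < 2)).1 this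
    omega
  rcases two_case hD2 T with hcyc | hel | hQ
  · -- cyclic: normal complement
    have hpos : 2 ∣ Nat.card G := dvd_trans ((dvd_pow_self 2 (by omega : s ≠ 0)).trans (hwm ▸ dvd_rfl))
      (orderOf_dvd_natCard (w ^ m))
    have hmin : (Nat.card G).minFac = 2 := (Nat.minFac_eq_two_iff _).2 hpos
    have hC' := IsCyclic.isComplement' hmin hcyc
    set φ := MonoidHom.transferSylow T (IsCyclic.normalizer_le_centralizer hmin hcyc)
    have hker : Odd (Nat.card φ.ker) := by
      rw [← hC'.index_eq_card]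
      exact Nat.not_even_iff_odd.1 fun h => T.not_dvd_index (even_iff_two_dvd.1 h)
    have hmemker : ∀ a : G, a ^ p = 1 → a ∈ φ.ker := by
      intro a ha
      rw [MonoidHom.mem_ker, ← orderOf_eq_one_iff]
      obtain ⟨i, hi⟩ := IsPGroup.iff_orderOf.1 T.isPGroup' (φ a)
      rcases (Nat.dvd_prime hp).1 (orderOf_dvd_of_pow_eq_one (show φ a ^ p = 1 by rw [← map_pow, ha, map_one]))
        with h | h
      · exact h
      · exfalso
        exact hp2 ((Nat.prime_dvd_prime_iff_eq hp Nat.prime_two).1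
          (hp.dvd_of_dvd_pow (dvd_of_eq (h.symm.trans hi))))
    exact hkey φ.ker hker (hmemker u (hexp u huP)) (hmemker v hvp)
  · -- elementary abelian
    have := orderOf_dvd_of_pow_eq_one (hel.2 (w ^ m) hwmT)
    rw [hwm] at this
    have := (Nat.pow_dvd_pow_iff_le_right (by norm_num : 1 < 2) (l := 1)).1 (by simpa using this)
    omega
  · -- quaternion
    obtain ⟨eQ⟩ := hQ
    have hs : s = 2 := by
      have h1 : orderOf (eQ ⟨w ^ m, hwmT⟩) = 2 ^ s := by
        rw [MulEquiv.orderOf_eq, Subgroup.orderOf_mk, hwm]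
      have h2 : 2 ^ s ≤ 2 ^ 2 := by
        rw [← h1]
        rcases eQ ⟨w ^ m, hwmT⟩ with i | i
        · rw [QuaternionGroup.orderOf_a]; exact Nat.div_le_self _ _
        · rw [QuaternionGroup.orderOf_xa]; rfl
      have := (Nat.pow_le_pow_iff_right (by norm_num : 1 < 2)).1 h2
      omega
    set t := (w ^ m) ^ 2 with ht
    have hto : orderOf t = 2 := by
      rw [ht, orderOf_pow' _ two_ne_zero, hwm, hs]; rfl
    have htT : t ∈ T := pow_mem hwmT 2
    have huni : ∀ i ∈ T, orderOf i = 2 → i = t := by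
      intro i hiT hi
      have key : ∀ q : QuaternionGroup 2, q ≠ 1 → q * q = 1 → q = QuaternionGroup.a 2 := by decide
      have toQ : ∀ (y : G) (hy : y ∈ (T : Subgroup G)), orderOf y = 2 → eQ ⟨y, hy⟩ = QuaternionGroup.a 2 := by
        intro y hy ho
        have hoo : orderOf (eQ ⟨y, hy⟩) = 2 := by rw [MulEquiv.orderOf_eq, Subgroup.orderOf_mk, ho]
        refine key _ (fun h => ?_) ?_
        · rw [h, orderOf_one] at hoo; omega
        · rw [← sq]
          have := pow_orderOf_eq_one (eQ ⟨y, hy⟩)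
          rwa [hoo] at this
      exact congrArg Subtype.val (eQ.injective ((toQ i hiT hi).trans (toQ t htT hto).symm))
    obtain ⟨N, hNn, hNodd, hN⟩ := ZStarPrimePower.uniqueInvolutionZStar_proved G t T hto htT huni
    have htx : t * x * t⁻¹ = x⁻¹ := by
      obtain ⟨q, hq⟩ : ∃ q, m = 2 * q + 1 := hm
      rw [ht, hq, show ((w ^ (2 * q + 1)) ^ 2) = w ^ 2 * (w ^ 4) ^ q by
        rw [← pow_mul, ← pow_mul, ← pow_add]; congr 1; ring,
        show w ^ 2 * (w ^ 4) ^ q * x * (w ^ 2 * (w ^ 4) ^ q)⁻¹ =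
          w ^ 2 * ((w ^ 4) ^ q * x * ((w ^ 4) ^ q)⁻¹) * (w ^ 2)⁻¹ by group,
        conj_pow_comp hw4 q, hwsq]
    have hxN : x ∈ N := by
      have h1 : x⁻¹ * x⁻¹ ∈ N := by
        have := hN x
        rwa [htx] at this
      have h2 : x ^ 2 ∈ N := by
        have := N.inv_mem h1
        rwa [mul_inv_rev, inv_inv, ← sq] at this
      have hcop : Nat.Coprime 2 (orderOf x) := by
        rw [hxo]
        exact (Nat.coprime_primes Nat.prime_two hp).2 (Ne.symm hp2)
      obtain ⟨i, hi⟩ := exists_pow_eq_self_of_coprime hcop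
      exact hi ▸ pow_mem h2 i
    have hall : ∀ a : G, a ^ p = 1 → a ∈ N := by
      intro a ha
      rcases eq_or_ne a 1 with rfl | ha1
      · exact one_mem _
      obtain ⟨h, hh⟩ := hD (zpowers x) (zpowers a)
        (isPGroup_of_card (n := 1) (by rw [Nat.card_zpowers, hxo, pow_one]))
        (isPGroup_of_card (n := 1) (by rw [Nat.card_zpowers, orderOf_eq_prime ha ha1, pow_one]))
        (by rw [Nat.card_zpowers, Nat.card_zpowers, orderOf_eq_prime ha ha1, hxo])
      rw [MonoidHom.map_zpowers] at hh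
      exact (zpowers_le.2 (hNn.conj_mem x hxN h)) (hh ▸ mem_zpowers a)
    exact hkey N hNodd (hall u (hexp u huP)) (hall v hvp)

/-- An odd prime. -/
theorem odd_case (hp2 : p ≠ 2) (hD : EqOrderConj G p) (hD2 : EqOrderConj G 2) (P : Sylow p G) :
    IsCyclic P ∨ Cfsg.IsElementaryAbelian p (P : Subgroup G) := by
  have hp : p.Prime := Fact.out
  by_cases he : ∀ a ∈ (P : Subgroup G), a ^ p = 1
  swap
  · push Not at he
    obtain ⟨a, ha, hap⟩ := he
    rcases S0016.result p P.isPGroup' (unique_of_not_exponent hD P ha hap) with h | ⟨h, -⟩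
    · exact Or.inl h
    · exact absurd h hp2
  by_cases hc : IsMulCommutative (P : Subgroup G)
  · exact Or.inr ⟨hc, he⟩
  exfalso
  obtain ⟨n, hn⟩ := IsPGroup.iff_card.1 P.isPGroup'
  rcases lt_trichotomy n 3 with h | h | h
  · apply hc
    rcases (show n ≤ 1 ∨ n = 2 by omega) with h1 | h1
    · haveI : IsCyclic (P : Subgroup G) := by
        rcases (show n = 0 ∨ n = 1 by omega) with h0 | h0
        · haveI : Subsingleton (P : Subgroup G) :=
            (Nat.card_eq_one_iff_unique.1 (by rw [hn, h0, pow_zero])).1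
          infer_instance
        · exact isCyclic_of_prime_card (p := p) (by rw [hn, h0, pow_one])
      exact IsCyclic.isMulCommutative
    · exact IsPGroup.isMulCommutative_of_card_eq_prime_sq (by rw [hn, h1])
  · exact no_extraspecial hp2 hD hD2 P he (h ▸ hn) hc
  -- order above p ^ 3
  have hgt : p ^ 3 < Nat.card (P : Subgroup G) := hn ▸ Nat.pow_lt_pow_right hp.one_lt h
  haveI : Nontrivial (P : Subgroup G) := Finite.one_lt_card_iff_nontrivial.1
    (lt_of_le_of_lt (Nat.one_le_pow _ _ hp.pos) hgt)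
  -- an abelian subgroup of order p ^ 3
  obtain ⟨A, hAc, hA⟩ : ∃ A : Subgroup G, (∀ x ∈ A, ∀ y ∈ A, x * y = y * x) ∧ Nat.card A = p ^ 3 := by
    by_contra hh
    refine absurd (PGroup.card_le_cube_of_exponent_rank_two P.isPGroup'
      (fun a => Subtype.ext (he a a.2)) ?_) (not_le.2 hgt)
    intro A hA
    by_contra hA2
    obtain ⟨a, hAcard⟩ := IsPGroup.iff_card.1 (P.isPGroup'.to_subgroup A)
    have ha3 : 3 ≤ a := by
      by_contra ha
      exact hA2 (hAcard ▸ Nat.pow_le_pow_right hp.pos (by omega))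
    obtain ⟨B, hB⟩ := Sylow.exists_subgroup_card_pow_prime p (G := A) (n := 3)
      (hAcard ▸ pow_dvd_pow p ha3)
    apply hh
    refine ⟨(B.map A.subtype).map (P : Subgroup G).subtype, ?_, ?_⟩
    · rintro _ ⟨_, ⟨⟨x, hx⟩, -, rfl⟩, rfl⟩ _ ⟨_, ⟨⟨y, hy⟩, -, rfl⟩, rfl⟩
      exact congrArg Subtype.val (hA x hx y hy)
    · rw [Nat.card_congr ((B.map A.subtype).equivMapOfInjective _ (Subgroup.subtype_injective _)).toEquiv.symm,
        Nat.card_congr (B.equivMapOfInjective _ (Subgroup.subtype_injective _)).toEquiv.symm, hB]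
  -- a nonabelian one
  obtain ⟨a, b, hab, hcc⟩ : ∃ a b : (P : Subgroup G), a * b ≠ b * a ∧ ⁅a, b⁆ ∈ center (P : Subgroup G) := by
    have hne : center (P : Subgroup G) ≠ ⊤ := fun h => hc
      ⟨⟨fun x y => Subgroup.mem_center_iff.1 (h ▸ mem_top y : y ∈ center _) x⟩⟩
    haveI : Nontrivial ((P : Subgroup G) ⧸ center (P : Subgroup G)) :=
      QuotientGroup.nontrivial_iff.2 hne
    haveI := (P.isPGroup'.to_quotient (center (P : Subgroup G))).center_nontrivial
    obtain ⟨⟨q, hq⟩, hq1⟩ := exists_ne (1 : center ((P : Subgroup G) ⧸ center (P : Subgroup G)))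
    obtain ⟨b, rfl⟩ := QuotientGroup.mk_surjective q
    have hb : b ∉ center (P : Subgroup G) := fun h => hq1 (Subtype.ext ((QuotientGroup.eq_one_iff b).2 h))
    rw [Subgroup.mem_center_iff] at hb
    push Not at hb
    obtain ⟨a, ha⟩ := hb
    refine ⟨a, b, ha, ?_⟩
    rw [← QuotientGroup.eq_one_iff, commutatorElement_def, QuotientGroup.mk_mul, QuotientGroup.mk_mul,
      QuotientGroup.mk_mul, QuotientGroup.mk_inv, QuotientGroup.mk_inv, Subgroup.mem_center_iff.1 hq,
      mul_inv_cancel_right, mul_inv_cancel]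
  set c := ⁅a, b⁆ with hcdef
  set L := zpowers c ⊔ zpowers b with hL
  have hbn : zpowers c ≤ normalizer ((zpowers b : Subgroup (P : Subgroup G)) : Set (P : Subgroup G)) :=
    zpowers_le.2 (centralizer_le_normalizer ((zpowers b : Subgroup (P : Subgroup G)) : Set (P : Subgroup G))
      (Subgroup.mem_centralizer_iff.2 fun y _ => Subgroup.mem_center_iff.1 hcc y))
  have hpow : ∀ y : (P : Subgroup G), Nat.card (zpowers y) ≤ p := fun y => by
    rw [Nat.card_zpowers]
    exact Nat.le_of_dvd hp.pos (orderOf_dvd_of_pow_eq_one (Subtype.ext (he y y.2)))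
  have hLc : Nat.card L ≤ p * p :=
    (PGroup.card_sup_le hbn).trans (Nat.mul_le_mul (hpow c) (hpow b))
  have han : zpowers a ≤ normalizer ((L : Subgroup (P : Subgroup G)) : Set (P : Subgroup G)) := by
    refine zpowers_le.2 ?_
    rw [mem_normalizer_iff_map_conj_eq]
    have hmap : L.map (MulAut.conj a).toMonoidHom ≤ L := by
      rw [hL, Subgroup.map_sup, MonoidHom.map_zpowers, MonoidHom.map_zpowers, sup_le_iff]
      refine ⟨zpowers_le.2 ?_, zpowers_le.2 ?_⟩
      · rw [MulEquiv.coe_toMonoidHom, MulAut.conj_apply, Subgroup.mem_center_iff.1 hcc a, mul_inv_cancel_right]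
        exact (le_sup_left : zpowers c ≤ L) (mem_zpowers c)
      · rw [MulEquiv.coe_toMonoidHom, MulAut.conj_apply,
          show a * b * a⁻¹ = c * b by rw [hcdef, commutatorElement_def]; group]
        exact mul_mem ((le_sup_left : zpowers c ≤ L) (mem_zpowers c))
          ((le_sup_right : zpowers b ≤ L) (mem_zpowers b))
    refine Subgroup.eq_of_le_of_card_ge hmap ?_
    exact (Nat.card_congr (L.equivMapOfInjective (MulAut.conj a).toMonoidHom
      (MulAut.conj a).injective).toEquiv).le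
  set H := zpowers a ⊔ L with hH
  have hHle : Nat.card H ≤ p ^ 3 :=
    (PGroup.card_sup_le han).trans ((Nat.mul_le_mul (hpow a) hLc).trans (by ring_nf; rfl))
  have hHa : a ∈ H := (le_sup_left : zpowers a ≤ H) (mem_zpowers a)
  have hHb : b ∈ H := (le_sup_right : L ≤ H) ((le_sup_right : zpowers b ≤ L) (mem_zpowers b))
  obtain ⟨k, hk⟩ := IsPGroup.iff_card.1 (P.isPGroup'.to_subgroup H)
  have hk3 : k = 3 := by
    have h1 := (Nat.pow_le_pow_iff_right hp.one_lt).1 (hk ▸ hHle)
    by_contra hk3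
    apply hab
    rcases (show k = 2 ∨ k ≤ 1 by omega) with h2 | h2
    · haveI := IsPGroup.isMulCommutative_of_card_eq_prime_sq (p := p) (G := H) (by rw [hk, h2])
      exact congrArg Subtype.val (mul_comm' (⟨a, hHa⟩ : H) ⟨b, hHb⟩)
    · haveI : IsCyclic H := by
        rcases (show k = 0 ∨ k = 1 by omega) with h0 | h0
        · haveI : Subsingleton H := (Nat.card_eq_one_iff_unique.1 (by rw [hk, h0, pow_zero])).1
          infer_instance
        · exact isCyclic_of_prime_card (p := p) (by rw [hk, h0, pow_one])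
      exact congrArg Subtype.val ((IsCyclic.isMulCommutative (α := H)).is_comm.comm ⟨a, hHa⟩ ⟨b, hHb⟩)
  have hHcard : Nat.card (H.map (P : Subgroup G).subtype) = p ^ 3 := by
    rw [Nat.card_congr (H.equivMapOfInjective _ (Subgroup.subtype_injective _)).toEquiv.symm, hk, hk3]
  obtain ⟨g, hg⟩ := hD A (H.map (P : Subgroup G).subtype) (isPGroup_of_card hA)
    (isPGroup_of_card hHcard) (hA.trans hHcard.symm)
  exact hab (Subtype.ext (comm_of_conj hg hAc _ ⟨a, hHa, rfl⟩ _ ⟨b, hHb, rfl⟩))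

/-- Let G be a finite group in which, for every prime p, any two p-subgroups of the same order are conjugate. Then every Sylow subgroup of G is cyclic, elementary abelian, or a quaternion group of order 8. -/
theorem result {G : Type*} [Group G] [Finite G]
    (hD : ∀ p : ℕ, p.Prime → ∀ H K : Subgroup G, IsPGroup p H → IsPGroup p K → Nat.card H = Nat.card K →
      ∃ g : G, K = H.map (MulAut.conj g).toMonoidHom) {p : ℕ} [Fact p.Prime] (P : Sylow p G) :
    IsCyclic P ∨ Cfsg.IsElementaryAbelian p (P : Subgroup G) ∨ Nonempty ((P : Subgroup G) ≃* QuaternionGroup 2) := by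
  rcases eq_or_ne p 2 with rfl | hp2
  · exact two_case (hD 2 Nat.prime_two) P
  · rcases odd_case hp2 (hD p Fact.out) (hD 2 Nat.prime_two) P with h | h
    · exact Or.inl h
    · exact Or.inr (Or.inl h)

end Cfsg.Agent.S4020
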