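import Cfsg.Statements.S4025
import Cfsg.Agent.EqLemmas
import Cfsg.Agent.Lib.ConjPSubgroups.SemiAffine

set_option autoImplicit false
open Cfsg

namespace Cfsg.Agent.S4025

/-- Let p be a prime and G a finite group in which any two p-subgroups of the same order are conjugate, and suppose a Sylow p-subgroup P of G is elementary abelian of order pⁿ with n ≥ 3. Let N be the normalizer of P and K the largest normal subgroup of N of order prime to p, and assume N/K is solvable. Then either n = 3 and N/K embeds in the one-dimensional semi-affine group over the field with p³ elements (and for p = 2 it is isomorphic to the affine or the semi-affine group over the field with 8 elements), or n = 5, p = 2 and N/K is isomorphic to the one-dimensional semi-affine group over the field with 32 elements. -/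
theorem result {G : Type*} [Group G] [Finite G]
    {p : ℕ} [Fact p.Prime] (hC : ∀ H K : Subgroup G, IsPGroup p H → IsPGroup p K → Nat.card H = Nat.card K →
      ∃ g : G, K = H.map (MulAut.conj g).toMonoidHom) (P : Sylow p G) (n : ℕ) (hn : 3 ≤ n)
    (hel : Cfsg.IsElementaryAbelian p (P : Subgroup G)) (hcard : Nat.card P = p ^ n)
    (N : Subgroup G) (hN : N = Subgroup.normalizer ((P : Subgroup G) : Set G))
    (hsolv : Group.IsSolvable (↥N ⧸ Cfsg.pPrimeCore p ↥N)) :
    (n = 3 ∧ (∃ f : ↥N ⧸ Cfsg.pPrimeCore p ↥N →* ↥(Cfsg.semiaffineGroup (GaloisField p 3)), Function.Injective f) ∧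
      (p = 2 → Nonempty (↥N ⧸ Cfsg.pPrimeCore p ↥N ≃* Cfsg.semiaffineGroup (GaloisField 2 3)) ∨
               Nonempty (↥N ⧸ Cfsg.pPrimeCore p ↥N ≃* Cfsg.affineGroup (GaloisField 2 3)))) ∨
    (n = 5 ∧ p = 2 ∧ Nonempty (↥N ⧸ Cfsg.pPrimeCore p ↥N ≃* Cfsg.semiaffineGroup (GaloisField 2 5))) := by
  subst hN
  set N := Subgroup.normalizer ((P : Subgroup G) : Set G)
  set M := Cfsg.pPrimeCore p ↥N
  set π := QuotientGroup.mk' M
  have hp : p.Prime := Fact.out
  have hsurj : Function.Surjective π := QuotientGroup.mk'_surjective M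
  have hPN : (P : Subgroup G) ≤ N := Subgroup.le_normalizer
  let PN : Sylow p N := P.subtype hPN
  let Pb : Sylow p (↥N ⧸ M) := PN.mapSurjective hsurj
  haveI hPNn : (PN : Subgroup N).Normal := Cores.subgroupOf_normal_of_le_normalizer le_rfl
  haveI hPbn : (Pb : Subgroup (↥N ⧸ M)).Normal := Subgroup.Normal.map hPNn π hsurj
  have hPNc : Nat.card (PN : Subgroup N) = p ^ n := (Cores.card_subgroupOf hPN).trans hcard
  have hdisj : ∀ x ∈ (PN : Subgroup N), π x = 1 → x = 1 := fun x hx h1 => by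
    have hbot : (PN : Subgroup N) ⊓ M = ⊥ := Subgroup.inf_eq_bot_of_coprime
      (by rw [hPNc]; exact (Cores.coprime_card_pPrimeCore p).symm.pow_left n)
    exact Subgroup.mem_bot.1 (hbot ▸ Subgroup.mem_inf.2 ⟨hx, (QuotientGroup.eq_one_iff x).1 h1⟩)
  have hcardmap : ∀ A : Subgroup N, A ≤ PN → Nat.card (A.map π) = Nat.card A := by
    intro A hA
    refine (Nat.card_eq_of_bijective (π.subgroupMap A) ⟨?_, π.subgroupMap_surjective A⟩).symm
    rw [injective_iff_map_eq_one]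
    intro x hx
    exact Subtype.ext (hdisj x (hA x.2) (congrArg Subtype.val hx))
  have hPb : (Pb : Subgroup (↥N ⧸ M)) = (PN : Subgroup N).map π := rfl
  have hPbc : Nat.card (Pb : Subgroup (↥N ⧸ M)) = p ^ n := by rw [hPb, hcardmap _ le_rfl, hPNc]
  haveI := hsolv
  refine ConjPSub.semiaffine_of_transitive (Pb : Subgroup (↥N ⧸ M)) hn hPbc ?_ ?_ ?_
    (Cores.pPrimeCore_quotient_self p) ?_
  · rintro _ ⟨a, ha, rfl⟩ _ ⟨b, hb, rfl⟩
    rw [← map_mul, ← map_mul]
    congr 1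
    have e := congrArg Subtype.val (hel.1.is_comm.comm (⟨_, ha⟩ : (P : Subgroup G)) ⟨_, hb⟩)
    exact Subtype.ext e
  · rintro _ ⟨a, ha, rfl⟩
    rw [← map_pow]
    have h : a ^ p = 1 := Subtype.ext (by rw [Subgroup.coe_pow]; exact hel.2 _ ha)
    rw [h, map_one]
  · rw [hPbc]
    exact ((hp.coprime_iff_not_dvd).2 Pb.not_dvd_index).pow_left n
  intro Hb Kb hHb hKb hcardHK
  let lift : Subgroup (↥N ⧸ M) → Subgroup G := fun A => (A.comap π ⊓ PN).map N.subtype
  have hliftle : ∀ A, lift A ≤ P := by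
    rintro A _ ⟨x, hx, rfl⟩
    exact hx.2
  have himg : ∀ A, A ≤ (Pb : Subgroup (↥N ⧸ M)) → (A.comap π ⊓ PN).map π = A := by
    intro A hA
    ext y
    constructor
    · rintro ⟨x, hx, rfl⟩
      exact hx.1
    · intro hy
      obtain ⟨x, hx, rfl⟩ := hA hy
      exact ⟨x, ⟨hy, hx⟩, rfl⟩
  have hliftc : ∀ A, A ≤ (Pb : Subgroup (↥N ⧸ M)) → Nat.card (lift A) = Nat.card A := fun A hA => by
    rw [Cores.card_map_subtype, ← hcardmap _ inf_le_right, himg A hA]
  obtain ⟨g, hg⟩ := hC (lift Hb) (lift Kb) (P.2.to_le (hliftle Hb)) (P.2.to_le (hliftle Kb))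
    (by rw [hliftc Hb hHb, hliftc Kb hKb, hcardHK])
  have hgK : ∀ a ∈ lift Hb, g * a * g⁻¹ ∈ lift Kb := fun a ha => hg ▸ ⟨a, ha, rfl⟩
  have hgK' : ∀ b ∈ lift Kb, ∃ a ∈ lift Hb, g * a * g⁻¹ = b := fun b hb => by
    rw [hg] at hb
    exact hb
  set C := Subgroup.centralizer (lift Kb : Set G)
  have hcommP : ∀ a ∈ (P : Subgroup G), ∀ b ∈ (P : Subgroup G), a * b = b * a := fun a ha b hb =>
    congrArg Subtype.val (hel.1.is_comm.comm (⟨a, ha⟩ : (P : Subgroup G)) ⟨b, hb⟩)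
  have h1 : (P : Subgroup G) ≤ C := fun a ha =>
    Subgroup.mem_centralizer_iff.2 fun b hb => hcommP b (hliftle Kb hb) a ha
  have h2 : ((g • P : Sylow p G) : Subgroup G) ≤ C := by
    intro y hy
    have hy' : y ∈ ((g • P : Sylow p G) : Set G) := hy
    rw [Sylow.coe_smul] at hy'
    obtain ⟨a, ha, rfl⟩ := Set.mem_smul_set.1 hy'
    refine Subgroup.mem_centralizer_iff.2 fun b hb => ?_
    obtain ⟨a', ha', rfl⟩ := hgK' b hb
    show g * a' * g⁻¹ * (g * a * g⁻¹) = g * a * g⁻¹ * (g * a' * g⁻¹)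
    calc g * a' * g⁻¹ * (g * a * g⁻¹) = g * (a' * a) * g⁻¹ := by group
      _ = g * (a * a') * g⁻¹ := by rw [hcommP a' (hliftle Hb ha') a ha]
      _ = g * a * g⁻¹ * (g * a' * g⁻¹) := by group
  obtain ⟨c, hc⟩ := MulAction.exists_smul_eq C ((g • P).subtype h2) (P.subtype h1)
  simp_rw [Sylow.smul_subtype, Subgroup.smul_def, smul_smul] at hc
  have hm : (c : G) * g ∈ N := Sylow.smul_eq_iff_mem_normalizer.mp (Sylow.subtype_injective hc)
  have hmconj : ∀ a ∈ lift Hb, (c : G) * g * a * ((c : G) * g)⁻¹ = g * a * g⁻¹ := fun a ha => by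
    have e := Subgroup.mem_centralizer_iff.1 c.2 _ (hgK a ha)
    rw [show (c : G) * g * a * ((c : G) * g)⁻¹ = (c : G) * (g * a * g⁻¹) * (c : G)⁻¹ by group, ← e,
      mul_inv_cancel_right]
  set m : N := ⟨(c : G) * g, hm⟩
  refine ⟨π m, fun y => ⟨fun hy => ?_, fun hy => ?_⟩⟩
  · obtain ⟨x, hx, rfl⟩ := hKb hy
    obtain ⟨_, ⟨x', hx', rfl⟩, hb⟩ := hgK' x ⟨x, ⟨hy, hx⟩, rfl⟩
    have e : m * x' * m⁻¹ = x := Subtype.ext ((hmconj _ ⟨x', hx', rfl⟩).trans hb)
    have e' : x' = m⁻¹ * x * m := by rw [← e]; group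
    rw [← map_inv, ← map_mul, ← map_mul, ← e']
    exact hx'.1
  · obtain ⟨x', hx', he⟩ := hHb hy
    have hl : (x' : G) ∈ lift Hb := ⟨x', ⟨show π x' ∈ Hb from he ▸ hy, hx'⟩, rfl⟩
    obtain ⟨x, hx, hxe⟩ := hgK _ hl
    have e : m * x' * m⁻¹ = x := Subtype.ext ((hmconj _ hl).trans hxe.symm)
    have e' : y = π x := by
      rw [← e, map_mul, map_mul, map_inv, he]
      group
    exact e' ▸ hx.1

end Cfsg.Agent.S4025
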