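import Cfsg.Statements.S4032
import Cfsg.Agent.Lib.Solvable.SchurZassenhaus

set_option autoImplicit false
open Cfsg

namespace Cfsg.Agent.S4032

/-- Let π be a set of primes and G a finite group in which N_G(⟨x⟩) = C_G(x) for every π-element x. If N is a normal subgroup of G whose order is divisible by no prime of π, then G/N has the same property: N_{G/N}(⟨y⟩) = C_{G/N}(y) for every π-element y of G/N. -/
theorem result {G : Type*} [Group G] [Finite G] (π : Set ℕ)
    (hirr : ∀ x : G, (∀ r : ℕ, r.Prime → r ∣ orderOf x → r ∈ π) →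
      Subgroup.normalizer ((Subgroup.zpowers x : Subgroup G) : Set G) ≤ Subgroup.centralizer {x})
    (N : Subgroup G) [N.Normal] (hN : ∀ r : ℕ, r.Prime → r ∣ Nat.card N → r ∉ π) :
    ∀ y : G ⧸ N, (∀ r : ℕ, r.Prime → r ∣ orderOf y → r ∈ π) →
      Subgroup.normalizer ((Subgroup.zpowers y : Subgroup (G ⧸ N)) : Set (G ⧸ N)) ≤ Subgroup.centralizer {y} := by
  intro y hy
  obtain ⟨g, rfl⟩ := QuotientGroup.mk'_surjective N y
  set m := orderOf (QuotientGroup.mk' N g) with hm
  have hmn : m.Coprime (Nat.card N) := Nat.coprime_of_dvd (fun r hr h1 h2 => hN r hr h2 (hy r hr h1))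
  obtain ⟨a, ha1, ha2⟩ := Nat.chineseRemainder hmn 1 0
  obtain ⟨b, hb⟩ := Nat.modEq_zero_iff_dvd.mp ha2
  set x := g ^ a with hx
  have hgm : g ^ m ∈ N := by
    rw [← QuotientGroup.eq_one_iff]; exact pow_orderOf_eq_one (QuotientGroup.mk' N g)
  have hxm : x ^ m = 1 := by
    rw [hx, ← pow_mul, hb, show Nat.card N * b * m = m * Nat.card N * b by ring, pow_mul, pow_mul]
    have : (g ^ m) ^ Nat.card N = 1 := congrArg Subtype.val (pow_card_eq_one' (x := (⟨_, hgm⟩ : N)))
    rw [this, one_pow]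
  have hxy : QuotientGroup.mk' N x = QuotientGroup.mk' N g := by
    rw [hx, map_pow]
    conv_rhs => rw [← pow_one (QuotientGroup.mk' N g)]
    exact pow_eq_pow_iff_modEq.mpr ha1
  have hxo : ∀ r : ℕ, r.Prime → r ∣ orderOf x → r ∈ π :=
    fun r hr hd => hy r hr (hd.trans (orderOf_dvd_of_pow_eq_one hxm))
  intro nb hnb
  obtain ⟨b', rfl⟩ := QuotientGroup.mk'_surjective N nb
  rw [Subgroup.mem_centralizer_singleton_iff]
  have hcx : (Nat.card (Subgroup.zpowers x)).Coprime (Nat.card N) := by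
    rw [Nat.card_zpowers]; exact hmn.coprime_dvd_left (orderOf_dvd_of_pow_eq_one hxm)
  set H' := (Subgroup.zpowers x).map (MulAut.conj b').toMonoidHom with hH'
  have hsup : H' ⊔ N = Subgroup.zpowers x ⊔ N := by
    apply Subgroup.comap_injective (f := MonoidHom.id G) Function.surjective_id
    simp only [Subgroup.comap_id]
    have e : ∀ K : Subgroup G, K ⊔ N = (K.map (QuotientGroup.mk' N)).comap (QuotientGroup.mk' N) := by
      intro K
      rw [Subgroup.comap_map_eq, QuotientGroup.ker_mk']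
    rw [e, e, MonoidHom.map_zpowers, hxy, hH', Subgroup.map_map, MonoidHom.map_zpowers]
    congr 1
    have hc : QuotientGroup.mk' N b' * QuotientGroup.mk' N g * (QuotientGroup.mk' N b')⁻¹ =
        ((QuotientGroup.mk' N).comp (MulAut.conj b').toMonoidHom) x := by
      rw [MonoidHom.comp_apply, MulEquiv.coe_toMonoidHom, MulAut.conj_apply, map_mul, map_mul, map_inv, hxy]
    rw [← hc]
    have h1 := Subgroup.mem_normalizer_iff.mp hnb
    refine Subgroup.eq_of_le_of_card_ge ?_ ?_
    · rw [Subgroup.zpowers_le]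
      exact (h1 _).mp (Subgroup.mem_zpowers _)
    · rw [Nat.card_zpowers, Nat.card_zpowers]
      exact le_of_eq (MulEquiv.orderOf_eq (MulAut.conj (QuotientGroup.mk' N b')) (QuotientGroup.mk' N g)).symm
  obtain ⟨n, hn, hnH⟩ := Cfsg.Agent.Solvable.exists_conj_of_sup_eq (N := N) (H := H') (K := Subgroup.zpowers x)
    (Or.inr (isSolvable_of_comm (fun p q => by
      obtain ⟨p, u, hu, rfl⟩ := p
      obtain ⟨q, w, hw, rfl⟩ := q
      obtain ⟨i, rfl⟩ := Subgroup.mem_zpowers_iff.mp hu
      obtain ⟨j, rfl⟩ := Subgroup.mem_zpowers_iff.mp hw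
      apply Subtype.ext
      show MulAut.conj b' (x ^ i) * MulAut.conj b' (x ^ j) = MulAut.conj b' (x ^ j) * MulAut.conj b' (x ^ i)
      rw [← map_mul, ← map_mul, ← zpow_add, ← zpow_add, add_comm]))) hsup
    (by rw [hH', Subgroup.card_map_of_injective (MulEquiv.injective _)]; exact hcx) hcx
  have hnorm : n * b' ∈ Subgroup.normalizer ((Subgroup.zpowers x : Subgroup G) : Set G) := by
    have h1 : ∀ h, h ∈ Subgroup.zpowers x → n * b' * h * (n * b')⁻¹ ∈ Subgroup.zpowers x := by
      intro h hh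
      rw [← hnH, Subgroup.pointwise_smul_def]
      refine ⟨b' * h * b'⁻¹, ⟨h, hh, rfl⟩, ?_⟩
      simp [mul_assoc]
    have h2 : (Subgroup.zpowers x).map (MulAut.conj (n * b')).toMonoidHom = Subgroup.zpowers x := by
      refine Subgroup.eq_of_le_of_card_ge ?_ (by rw [Subgroup.card_map_of_injective (MulEquiv.injective _)])
      rintro _ ⟨h, hh, rfl⟩
      exact h1 h hh
    rw [Subgroup.mem_normalizer_iff]
    intro h
    refine ⟨h1 h, fun hh => ?_⟩
    rw [← h2] at hh
    obtain ⟨k, hk, hke⟩ := hh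
    change n * b' * k * (n * b')⁻¹ = n * b' * h * (n * b')⁻¹ at hke
    rwa [mul_left_cancel (mul_right_cancel hke)] at hk
  have := congrArg (QuotientGroup.mk' N) (Subgroup.mem_centralizer_singleton_iff.mp (hirr x hxo hnorm))
  simp only [map_mul, hxy, show QuotientGroup.mk' N n = 1 from (QuotientGroup.eq_one_iff n).mpr hn,
    one_mul] at this
  exact this

end Cfsg.Agent.S4032
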