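import Cfsg.Statements.S4027
import Cfsg.Agent.Lib.Involution.BaerSuzuki
import Cfsg.Agent.S4032

set_option autoImplicit false
open Cfsg

namespace Cfsg.Agent.S4027

/-- Let G be a finite group in which every element x of odd order satisfies N_G(⟨x⟩) = C_G(x). Then the Sylow 2-subgroups of G are normal. -/
theorem result {G : Type*} [Group G] [Finite G]
    (hirr : ∀ x : G, (∀ r : ℕ, r.Prime → r ∣ orderOf x → r ≠ 2) →
      Subgroup.normalizer ((Subgroup.zpowers x : Subgroup G) : Set G) ≤ Subgroup.centralizer {x}) (P : Sylow 2 G) :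
    (P : Subgroup G).Normal := by
  induction hc : Nat.card G using Nat.strong_induction_on generalizing G with
  | _ c IH =>
  haveI : Fact (Nat.Prime 2) := ⟨Nat.prime_two⟩
  by_cases ht : ∃ t : G, orderOf t = 2
  · obtain ⟨t, ht⟩ := ht
    obtain ⟨N, hNn, hN2, htN⟩ : ∃ N : Subgroup G, N.Normal ∧ IsPGroup 2 N ∧ t ∈ N := by
      by_contra hno
      push Not at hno
      obtain ⟨h, h1, hodd, hinv⟩ := Cfsg.Agent.Involution.exists_inverted_odd ht hno
      have hh : ∀ r : ℕ, r.Prime → r ∣ orderOf h → r ≠ 2 := by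
        intro r _ hd e
        exact (Nat.not_even_iff_odd.mpr hodd) (even_iff_two_dvd.mpr (e ▸ hd))
      have hn : t ∈ Subgroup.normalizer ((Subgroup.zpowers h : Subgroup G) : Set G) := by
        have h2 : (Subgroup.zpowers h).map (MulAut.conj t).toMonoidHom = Subgroup.zpowers h := by
          rw [MonoidHom.map_zpowers]
          show Subgroup.zpowers (t * h * t⁻¹) = _
          rw [hinv, Subgroup.zpowers_inv]
        rw [Subgroup.mem_normalizer_iff]
        intro g
        constructor
        · intro hg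
          rw [← h2]
          exact ⟨g, hg, rfl⟩
        · intro hg
          rw [← h2] at hg
          obtain ⟨k, hk, hke⟩ := hg
          change t * k * t⁻¹ = t * g * t⁻¹ at hke
          rwa [mul_left_cancel (mul_right_cancel hke)] at hk
      have hcomm := Subgroup.mem_centralizer_singleton_iff.mp (hirr h hh hn)
      have h4 : h ^ 2 = 1 := by
        rw [sq, ← inv_eq_iff_mul_eq_one, ← hinv, hcomm]
        group
      have := (Nat.prime_two).eq_one_or_self_of_dvd _ (orderOf_dvd_of_pow_eq_one h4)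
      rcases this with h5 | h5
      · exact h1 (orderOf_eq_one_iff.mp h5)
      · exact absurd rfl (hh 2 Nat.prime_two (h5 ▸ dvd_rfl))
    haveI := hNn
    have hNP : N ≤ (P : Subgroup G) := by
      obtain ⟨Q, hQ⟩ := hN2.exists_le_sylow
      obtain ⟨g, rfl⟩ := MulAction.exists_smul_eq G Q P
      intro x hx
      exact ⟨g⁻¹ * x * g⁻¹⁻¹, hQ (hNn.conj_mem x hx g⁻¹), by simp [mul_assoc]⟩
    have hlt : Nat.card (G ⧸ N) < c := by
      rw [← hc, Subgroup.card_eq_card_quotient_mul_card_subgroup N]
      refine lt_mul_of_one_lt_right Nat.card_pos ?_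
      rw [Subgroup.one_lt_card_iff_ne_bot]
      rintro rfl
      rw [Subgroup.mem_bot] at htN
      rw [htN, orderOf_one] at ht
      omega
    have hq : ∀ x : G ⧸ N, (∀ r : ℕ, r.Prime → r ∣ orderOf x → r ≠ 2) →
        Subgroup.normalizer ((Subgroup.zpowers x : Subgroup (G ⧸ N)) : Set (G ⧸ N)) ≤ Subgroup.centralizer {x} := by
      obtain ⟨n, hn⟩ := IsPGroup.iff_card.mp hN2
      exact Cfsg.Agent.S4032.result {r | r ≠ 2} hirr N (fun r hr hd => not_not.mpr
        ((Nat.prime_dvd_prime_iff_eq hr Nat.prime_two).mp (hr.dvd_of_dvd_pow (hn ▸ hd))))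
    have hP' := IH _ hlt hq (P.mapSurjective (QuotientGroup.mk'_surjective N)) rfl
    have h := hP'.comap (QuotientGroup.mk' N)
    rwa [Sylow.coe_mapSurjective, Subgroup.comap_map_eq, QuotientGroup.ker_mk', sup_eq_left.mpr hNP] at h
  · have hP : (P : Subgroup G) = ⊥ := by
      rw [eq_bot_iff]
      intro x hx
      rw [Subgroup.mem_bot]
      by_contra hne
      obtain ⟨k, hk⟩ := P.isPGroup' ⟨x, hx⟩
      obtain ⟨j, hj, hjo⟩ := (Nat.dvd_prime_pow Nat.prime_two).mp (orderOf_dvd_of_pow_eq_one (congrArg Subtype.val hk : x ^ 2 ^ k = 1))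
      rcases j.eq_zero_or_pos with rfl | hj0
      · exact hne (orderOf_eq_one_iff.mp (by simpa using hjo))
      · refine ht ⟨x ^ (orderOf x / 2), orderOf_pow_orderOf_div (orderOf_pos x).ne' ?_⟩
        rw [hjo]; exact dvd_pow_self 2 hj0.ne'
    rw [hP]; infer_instance

end Cfsg.Agent.S4027
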