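import Cfsg.Statements.S4028
import Cfsg.Agent.EqLemmas

set_option autoImplicit false
open Cfsg

namespace Cfsg.Agent.S4028

theorem mem_normalizer_zpowers {K : Type*} [Group K] [Finite K] {w x : K}
    (h : ∃ i : ℤ, x ^ i = w * x * w⁻¹) :
    w ∈ Subgroup.normalizer ((Subgroup.zpowers x : Subgroup K) : Set K) := by
  obtain ⟨i, hi⟩ := h
  have h2 : (Subgroup.zpowers x).map (MulAut.conj w).toMonoidHom = Subgroup.zpowers x := by
    refine Subgroup.eq_of_le_of_card_ge ?_ (by rw [Subgroup.card_map_of_injective (MulEquiv.injective _)])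
    rw [MonoidHom.map_zpowers, Subgroup.zpowers_le]
    exact ⟨i, hi⟩
  rw [Subgroup.mem_normalizer_iff]
  intro g
  constructor
  · intro hg
    rw [← h2]
    exact ⟨g, hg, rfl⟩
  · intro hg
    rw [← h2] at hg
    obtain ⟨k, hk, hke⟩ := hg
    change w * k * w⁻¹ = w * g * w⁻¹ at hke
    rwa [mul_left_cancel (mul_right_cancel hke)] at hk

theorem two_pow_of_forall {K : Type*} [Group K] [Finite K] {x : K}
    (hx : ∀ r : ℕ, r.Prime → r ∣ orderOf x → r = 2) : ∃ j : ℕ, orderOf x = 2 ^ j :=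
  ⟨_, Nat.eq_prime_pow_of_unique_prime_dvd (orderOf_pos x).ne' (fun {r} hr hd => hx r hr hd)⟩

theorem odd_conj_fix {K : Type*} [Group K] [Finite K] {x v : K}
    (hx : ∀ r : ℕ, r.Prime → r ∣ orderOf x → r = 2)
    (hv : v ∈ Subgroup.normalizer ((Subgroup.zpowers x : Subgroup K) : Set K))
    {u : ℕ} (hu : Odd u) (hvu : v ^ u = 1) : v * x = x * v := by
  obtain ⟨j, hj⟩ := two_pow_of_forall hx
  set a := Subgroup.normalizerMonoidHom (Subgroup.zpowers x) ⟨v, hv⟩
  have h1 : orderOf a ∣ u := orderOf_dvd_of_pow_eq_one (by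
    rw [← map_pow, show (⟨v, hv⟩ : Subgroup.normalizer ((Subgroup.zpowers x : Subgroup K) : Set K)) ^ u = 1 from
      Subtype.ext hvu, map_one])
  have h2 : orderOf a ∣ 2 ^ j := by
    refine (orderOf_dvd_natCard a).trans ?_
    rw [IsCyclic.card_mulAut, Nat.card_zpowers, hj]
    rcases j with _ | j
    · simp
    · rw [Nat.totient_prime_pow Nat.prime_two j.succ_pos]
      simp [pow_succ]
  have ha : a = 1 := orderOf_eq_one_iff.mp
    (Nat.eq_one_of_dvd_coprimes ((Nat.coprime_two_right.mpr hu).pow_right j) h1 h2)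
  have h4 := congrArg Subtype.val (DFunLike.congr_fun ha ⟨x, Subgroup.mem_zpowers x⟩)
  have h3 : v * x * v⁻¹ = x := by simpa [a] using h4
  rw [← mul_inv_eq_iff_eq_mul]; exact h3

/-- Let G be a finite group with Sylow 2-subgroup P. Then N_G(⟨x⟩) = C_G(x) holds for every 2-element x of G if and only if N_P(⟨y⟩) = C_P(y) holds for every y ∈ P (computed inside P). -/
theorem result {G : Type*} [Group G] [Finite G] (P : Sylow 2 G) :
    (∀ x : G, (∀ r : ℕ, r.Prime → r ∣ orderOf x → r = 2) →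
      Subgroup.normalizer ((Subgroup.zpowers x : Subgroup G) : Set G) ≤ Subgroup.centralizer {x}) ↔
    (∀ y : ↥(P : Subgroup G), Subgroup.normalizer ((Subgroup.zpowers y : Subgroup ↥(P : Subgroup G)) : Set ↥(P : Subgroup G)) ≤
        Subgroup.centralizer {y}) := by
  constructor
  · intro h y w hw
    rw [Subgroup.mem_centralizer_singleton_iff]
    have hy : ∀ r : ℕ, r.Prime → r ∣ orderOf (y : G) → r = 2 := by
      intro r hr hd
      obtain ⟨k, hk⟩ := P.isPGroup' y
      rw [orderOf_submonoid] at hd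
      exact (Nat.prime_dvd_prime_iff_eq hr Nat.prime_two).mp
        (hr.dvd_of_dvd_pow (hd.trans (orderOf_dvd_of_pow_eq_one hk)))
    have hw' : (w : G) ∈ Subgroup.normalizer ((Subgroup.zpowers (y : G) : Subgroup G) : Set G) :=
      mem_normalizer_zpowers (by
        obtain ⟨i, hi⟩ := Subgroup.mem_zpowers_iff.mp ((Subgroup.mem_normalizer_iff.mp hw y).mp (Subgroup.mem_zpowers y))
        exact ⟨i, by simpa using congrArg Subtype.val hi⟩)
    exact Subtype.ext (Subgroup.mem_centralizer_singleton_iff.mp (h y hy hw'))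
  · intro h x hx
    haveI : Fact (Nat.Prime 2) := ⟨Nat.prime_two⟩
    set N := Subgroup.normalizer ((Subgroup.zpowers x : Subgroup G) : Set G)
    have hxN : x ∈ N := Subgroup.le_normalizer (Subgroup.mem_zpowers x)
    -- every 2-element of `N` centralises `x`
    have h2 : ∀ w ∈ N, (∃ k : ℕ, orderOf w = 2 ^ k) → w * x = x * w := by
      intro w hw ⟨k, hk⟩
      obtain ⟨j, hj⟩ := two_pow_of_forall hx
      have hK : IsPGroup 2 (Subgroup.zpowers w ⊔ Subgroup.zpowers x : Subgroup G) :=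
        (IsPGroup.of_card (n := k) ((Nat.card_zpowers w).trans hk)).to_sup_of_normal_right'
          (IsPGroup.of_card (n := j) ((Nat.card_zpowers x).trans hj)) (Subgroup.zpowers_le.mpr hw)
      obtain ⟨R, hR⟩ := hK.exists_le_sylow
      obtain ⟨g, hg⟩ := MulAction.exists_smul_eq G R P
      have hwR : g * w * g⁻¹ ∈ (P : Subgroup G) := by
        rw [← hg]; exact ⟨w, hR (Subgroup.mem_sup_left (Subgroup.mem_zpowers w)), rfl⟩
      have hxR : g * x * g⁻¹ ∈ (P : Subgroup G) := by
        rw [← hg]; exact ⟨x, hR (Subgroup.mem_sup_right (Subgroup.mem_zpowers x)), rfl⟩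
      obtain ⟨i, hi⟩ := Subgroup.mem_zpowers_iff.mp ((Subgroup.mem_normalizer_iff.mp hw x).mp (Subgroup.mem_zpowers x))
      have hn : (⟨_, hwR⟩ : (P : Subgroup G)) ∈ Subgroup.normalizer
          ((Subgroup.zpowers (⟨_, hxR⟩ : (P : Subgroup G)) : Subgroup _) : Set (P : Subgroup G)) := by
        refine mem_normalizer_zpowers ⟨i, ?_⟩
        apply Subtype.ext
        simp only [Subgroup.coe_zpow, Subgroup.coe_mul, Subgroup.coe_inv]
        rw [conj_zpow, hi]
        group
      have := congrArg Subtype.val (Subgroup.mem_centralizer_singleton_iff.mp (h _ hn))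
      simp only [Subgroup.coe_mul] at this
      calc w * x = g⁻¹ * ((g * w * g⁻¹) * (g * x * g⁻¹)) * g := by group
        _ = g⁻¹ * ((g * x * g⁻¹) * (g * w * g⁻¹)) * g := by rw [this]
        _ = x * w := by group
    intro w hw
    rw [Subgroup.mem_centralizer_singleton_iff]
    obtain ⟨i, hi⟩ := Subgroup.mem_zpowers_iff.mp ((Subgroup.mem_normalizer_iff.mp hw x).mp (Subgroup.mem_zpowers x))
    -- `N` acts on `⟨x⟩` through a 2-group
    obtain ⟨k, u, hu, hwk⟩ := Nat.exists_eq_two_pow_mul_odd (orderOf_pos w).ne'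
    have h3 : w ^ u * x = x * w ^ u := by
      refine h2 _ (Subgroup.pow_mem _ hw u) ⟨k, ?_⟩
      rw [orderOf_pow, hwk, Nat.gcd_mul_left_left, Nat.mul_div_left _ hu.pos]
    have h4 : w ^ (2 ^ k) * x = x * w ^ (2 ^ k) := odd_conj_fix hx (Subgroup.pow_mem _ hw _) hu
      (by rw [← pow_mul, ← hwk, pow_orderOf_eq_one])
    obtain ⟨c, d, hcd⟩ : ∃ c d : ℤ, (u : ℤ) * c + (2 ^ k : ℕ) * d = 1 := by
      have hcop : Nat.Coprime u (2 ^ k) := (Nat.coprime_two_right.mpr hu).pow_right k
      exact ⟨Nat.gcdA u (2 ^ k), Nat.gcdB u (2 ^ k), by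
        rw [← Nat.gcd_eq_gcd_ab, hcop.gcd_eq_one]; rfl⟩
    have e : w = (w ^ u) ^ c * (w ^ (2 ^ k)) ^ d := by
      rw [← zpow_natCast, ← zpow_mul, ← zpow_natCast w (2 ^ k), ← zpow_mul, ← zpow_add, hcd, zpow_one]
    rw [e]
    exact ((Commute.zpow_left h3 c).mul_left (Commute.zpow_left h4 d)).eq

end Cfsg.Agent.S4028
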