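import Cfsg.Statements.S4029
import Cfsg.Agent.Lib.CharApp.PermLemma
import Cfsg.Agent.Lib.Char.Linear
import Cfsg.Agent.Lib.PGroup.Basic

set_option autoImplicit false
open Cfsg

namespace Cfsg.Agent.S4029

/-- Let P be a finite 2-group in which N_P(⟨y⟩) = C_P(y) for every y ∈ P. If s is the number of conjugacy classes of involutions of P, then #(P/Φ(P)) ≤ s + 1; in particular the subgroup generated by the involutions of P has order at least #(P/Φ(P)). -/
theorem result {P : Type*} [Group P] [Finite P] (hP : IsPGroup 2 P)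
    (hirr : ∀ y : P, Subgroup.normalizer ((Subgroup.zpowers y : Subgroup P) : Set P) ≤ Subgroup.centralizer {y}) :
    Nat.card (P ⧸ frattini P) ≤ Nat.card {c : ConjClasses P // ∃ y : P, ConjClasses.mk y = c ∧ orderOf y = 2} + 1 ∧
    Nat.card (P ⧸ frattini P) ≤ Nat.card (Subgroup.closure {y : P | orderOf y = 2}) := by
  classical
  haveI : Fact (Nat.Prime 2) := ⟨Nat.prime_two⟩
  set R := {C : ConjClasses P // ∀ g : P, ConjClasses.mk g = C → IsConj g g⁻¹}
  set I := {c : ConjClasses P // ∃ y : P, ConjClasses.mk y = c ∧ orderOf y = 2}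
  -- real classes consist of elements of order at most two
  have hreal : ∀ g : P, IsConj g g⁻¹ → g ^ 2 = 1 := by
    intro g hg
    obtain ⟨c, hc⟩ := isConj_iff.mp hg
    have hn : c ∈ Subgroup.normalizer ((Subgroup.zpowers g : Subgroup P) : Set P) := by
      have h2 : (Subgroup.zpowers g).map (MulAut.conj c).toMonoidHom = Subgroup.zpowers g := by
        rw [MonoidHom.map_zpowers]
        show Subgroup.zpowers (c * g * c⁻¹) = _
        rw [hc, Subgroup.zpowers_inv]
      rw [Subgroup.mem_normalizer_iff]
      intro x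
      constructor
      · intro hx
        rw [← h2]
        exact ⟨x, hx, rfl⟩
      · intro hx
        rw [← h2] at hx
        obtain ⟨k, hk, hke⟩ := hx
        change c * k * c⁻¹ = c * x * c⁻¹ at hke
        rwa [mul_left_cancel (mul_right_cancel hke)] at hk
    have hcg := Subgroup.mem_centralizer_singleton_iff.mp (hirr g hn)
    rw [sq, ← inv_eq_iff_mul_eq_one, ← hc, hcg]
    group
  let f : R → Option I := fun C =>
    if h : ∃ y : P, ConjClasses.mk y = C.1 ∧ orderOf y = 2 then some ⟨C.1, h⟩ else none
  have hf : Function.Injective f := by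
    intro C D h
    have key : ∀ E : R, f E = none → E.1 = ConjClasses.mk 1 := by
      intro E hE
      obtain ⟨g, hg⟩ := ConjClasses.exists_rep E.1
      have h2 := hreal g (E.2 g hg)
      by_cases hg1 : g = 1
      · rw [← hg, hg1]
      · exfalso
        have he : ∃ y : P, ConjClasses.mk y = E.1 ∧ orderOf y = 2 := ⟨g, hg, orderOf_eq_prime h2 hg1⟩
        simp [f, dif_pos he] at hE
    rcases hC : f C with _ | c
    · exact Subtype.ext ((key C hC).trans (key D (h ▸ hC)).symm)
    · have hD : f D = some c := h ▸ hC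
      simp only [f] at hC hD
      split_ifs at hC hD
      exact Subtype.ext ((congrArg Subtype.val (Option.some.inj hC)).trans (congrArg Subtype.val (Option.some.inj hD)).symm)
  have hRI : Nat.card R ≤ Nat.card I + 1 :=
    (Nat.card_le_card_of_injective f hf).trans_eq (Finite.card_option)
  -- the Frattini quotient contributes real characters
  set Q := P ⧸ frattini P
  have hQ2 : ∀ q : Q, q * q = 1 := by
    intro q
    obtain ⟨g, rfl⟩ := QuotientGroup.mk'_surjective (frattini P) q
    rw [← map_mul, ← sq]
    exact (QuotientGroup.eq_one_iff _).mpr (Cfsg.Agent.PGroup.pow_mem_frattini hP g)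
  have hQc : ∀ a b : Q, a * b = b * a := fun a b => by
    have h1 : a⁻¹ = a := inv_eq_of_mul_eq_one_right (hQ2 a)
    have h2 : b⁻¹ = b := inv_eq_of_mul_eq_one_right (hQ2 b)
    have h3 : (a * b)⁻¹ = a * b := inv_eq_of_mul_eq_one_right (hQ2 _)
    rw [← h3, mul_inv_rev, h1, h2]
  have hQR : Nat.card Q ≤ Nat.card R := by
    rw [← Cfsg.Agent.CharApp.card_real_irr (G := P), ← Cfsg.Agent.Char.card_conjClasses_of_comm hQc,
      ← Cfsg.Agent.Char.card_irr_eq_card_conjClasses]
    refine Nat.card_le_card_of_injective (fun χ => ⟨⟨(χ : Q → ℂ) ∘ QuotientGroup.mk' (frattini P),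
      Cfsg.Agent.Char.IsIrrCharacter.comp_surjective χ.2 _ (QuotientGroup.mk'_surjective _)⟩, ?_⟩) ?_
    · refine (Cfsg.Agent.CharApp.isReal_iff (Cfsg.Agent.Char.IsIrrCharacter.isCharacter (Cfsg.Agent.Char.IsIrrCharacter.comp_surjective χ.2 _
        (QuotientGroup.mk'_surjective _)))).mpr ?_
      funext g
      show (χ : Q → ℂ) (QuotientGroup.mk' _ g⁻¹) = (χ : Q → ℂ) (QuotientGroup.mk' _ g)
      rw [map_inv, inv_eq_of_mul_eq_one_right (hQ2 _)]
    · intro χ ψ h
      apply Subtype.ext
      funext q
      obtain ⟨g, rfl⟩ := QuotientGroup.mk'_surjective (frattini P) q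
      exact congrFun (congrArg Subtype.val (congrArg Subtype.val h)) g
  refine ⟨hQR.trans hRI, hQR.trans (hRI.trans ?_)⟩
  rw [← Finite.card_option]
  let T := Subgroup.closure {y : P | orderOf y = 2}
  let e : Option I → T := fun o => match o with
    | none => 1
    | some c => ⟨c.2.choose, Subgroup.subset_closure c.2.choose_spec.2⟩
  refine Nat.card_le_card_of_injective e ?_
  intro a b h
  have h' := congrArg Subtype.val h
  rcases a with _ | a <;> rcases b with _ | b
  · rfl
  · exfalso
    have := b.2.choose_spec.2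
    simp only [e, Subgroup.coe_one] at h'
    rw [← h', orderOf_one] at this
    omega
  · exfalso
    have := a.2.choose_spec.2
    simp only [e, Subgroup.coe_one] at h'
    rw [h', orderOf_one] at this
    omega
  · simp only [e] at h'
    exact congrArg some (Subtype.ext (a.2.choose_spec.1.symm.trans ((congrArg ConjClasses.mk h').trans b.2.choose_spec.1)))

end Cfsg.Agent.S4029
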