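import Cfsg.Statements.S4036
import Cfsg.Agent.EqLemmas

set_option autoImplicit false
open Cfsg

namespace Cfsg.Agent.S4036

/-- Let P be a finite abelian p-group and K a group of automorphisms of P (a subgroup of Aut P) whose order is divisible by p. If all non-identity elements of K have the same fixed-point subgroup on P, then K has no non-trivial normal subgroup of order prime to p. -/
theorem result {P : Type*} [CommGroup P] [Finite P] {p : ℕ}
    [Fact p.Prime] (hP : IsPGroup p P) (K : Subgroup (MulAut P)) (hK : p ∣ Nat.card K)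
    (hfix : ∀ x y : MulAut P, x ∈ K → y ∈ K → x ≠ 1 → y ≠ 1 → ∀ v : P, x v = v ↔ y v = v) :
    ∀ N : Subgroup ↥K, N.Normal → ¬ p ∣ Nat.card N → N = ⊥ := by
  intro N hN hpN
  classical
  by_contra hNb
  obtain ⟨⟨n₀, hn₀N⟩, hn₀⟩ : ∃ n : N, (n : K) ≠ 1 := by
    by_contra hcon
    push Not at hcon
    exact hNb ((Subgroup.eq_bot_iff_forall N).2 fun a ha => hcon ⟨a, ha⟩)
  haveI := Fintype.ofFinite N
  haveI := hN
  let θ : P →* P :=
    { toFun := fun v => ∏ n : N, ((n : K) : MulAut P) v
      map_one' := by simp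
      map_mul' := fun a b => by simp [Finset.prod_mul_distrib] }
  have hθ : ∀ v, θ v = ∏ n : N, ((n : K) : MulAut P) v := fun _ => rfl
  -- the norm is fixed by N
  have hθfix : ∀ (m : N) v, ((m : K) : MulAut P) (θ v) = θ v := by
    intro m v
    rw [hθ, map_prod]
    exact Fintype.prod_equiv (Equiv.mulLeft m) _ _ fun n => by simp [MulAut.mul_apply]
  -- the norm commutes with K
  have hθeq : ∀ (k : K) v, θ ((k : MulAut P) v) = (k : MulAut P) (θ v) := by
    intro k v
    rw [hθ, hθ, map_prod]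
    refine Fintype.prod_equiv ((MulAut.conjNormal (H := N) k⁻¹).toEquiv) _ _ fun n => ?_
    show ((n : K) : MulAut P) ((k : MulAut P) v) =
      (k : MulAut P) ((((MulAut.conjNormal (H := N) k⁻¹ n : N) : K) : MulAut P) v)
    rw [MulAut.conjNormal_apply]
    simp [MulAut.mul_apply]
  set W := θ.ker with hW
  have hWfix : ∀ v ∈ W, (∀ m : N, ((m : K) : MulAut P) v = v) → v = 1 := by
    intro v hv hfx
    have h1 : θ v = v ^ Nat.card N := by
      rw [hθ, Finset.prod_congr rfl (fun m _ => hfx m), Finset.prod_const, Finset.card_univ, Nat.card_eq_fintype_card]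
    rw [MonoidHom.mem_ker.1 hv] at h1
    obtain ⟨j, hj⟩ := hP v
    have hco : Nat.Coprime (p ^ j) (Nat.card N) :=
      (((Fact.out : p.Prime).coprime_iff_not_dvd).2 hpN).pow_left j
    exact orderOf_eq_one_iff.1 (Nat.eq_one_of_dvd_coprimes hco (orderOf_dvd_of_pow_eq_one hj)
      (orderOf_dvd_of_pow_eq_one h1.symm))
  obtain ⟨σ, hσ⟩ := exists_prime_orderOf_dvd_card' (G := K) p hK
  have hσ1 : (σ : MulAut P) ≠ 1 := fun e => by
    rw [show σ = 1 from Subtype.ext e, orderOf_one] at hσ
    exact (Fact.out : p.Prime).ne_one hσ.symm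
  have hWbot : W = ⊥ := by
    by_contra hWne
    let Q := Subgroup.zpowers σ
    letI : SMul Q W := ⟨fun q v => ⟨((q : K) : MulAut P) v, by
      show θ _ = 1; rw [hθeq, show θ (v : P) = 1 from v.2, map_one]⟩⟩
    letI : MulAction Q W :=
      { one_smul := fun v => Subtype.ext rfl
        mul_smul := fun a b v => Subtype.ext rfl }
    have hQ : IsPGroup p Q := IsPGroup.of_card (n := 1) (by rw [Nat.card_zpowers, hσ, pow_one])
    have hdvd : p ∣ Nat.card W := by
      haveI : Nontrivial W := (Subgroup.nontrivial_iff_ne_bot W).2 hWne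
      obtain ⟨k, hk0, hk⟩ := (hP.to_subgroup W).nontrivial_iff_card.1 inferInstance
      exact hk ▸ dvd_pow_self p hk0.ne'
    obtain ⟨b, hb, hb1⟩ := hQ.exists_fixed_point_of_prime_dvd_card_of_fixed_point W hdvd
      (a := 1) (fun q => Subtype.ext (map_one ((q : K) : MulAut P)))
    have hbσ : (σ : MulAut P) (b : P) = b := congrArg Subtype.val (hb ⟨σ, Subgroup.mem_zpowers σ⟩)
    refine hb1 (Subtype.ext (hWfix b b.2 fun m => ?_)).symm
    by_cases hm : ((m : K) : MulAut P) = 1
    · rw [hm]; rfl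
    · exact ((hfix _ _ σ.2 (m : K).2 hσ1 hm (b : P)).1 hbσ)
  have hinj : Function.Injective θ := (MonoidHom.ker_eq_bot_iff θ).1 hWbot
  refine hn₀ (Subtype.ext (MulEquiv.ext fun v => ?_))
  obtain ⟨u, rfl⟩ := (Finite.injective_iff_surjective.1 hinj) v
  exact hθfix ⟨n₀, hn₀N⟩ u

end Cfsg.Agent.S4036
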