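import Cfsg.Statements.S4040
import Cfsg.Agent.EqLemmas
import Cfsg.Agent.Lib.PLocal.Complements
import Cfsg.Agent.Lib.PLocal.Action
import Cfsg.Agent.Lib.Transfer.NilpotentHall
import Cfsg.Agent.Lib.Coprime.Invariant
import Cfsg.Agent.Lib.Solvable.Basic

set_option autoImplicit false
open Cfsg

namespace Cfsg.Agent.S4040

universe u

section

variable {G : Type u} [Group G] [Finite G] {M : Subgroup G}

theorem normalizer_eq_of_coreFree (hmax : IsCoatom M) (hcore : ∀ N : Subgroup G, N.Normal → N ≤ M → N = ⊥)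
    {T : Subgroup G} (hT : T ≠ ⊥) (hTM : T ≤ M) (hMN : M ≤ Subgroup.normalizer (T : Set G)) :
    Subgroup.normalizer (T : Set G) = M := by
  rcases hmax.le_iff.1 hMN with h | h
  · exact absurd (hcore T (Subgroup.normalizer_eq_top_iff.1 h) hTM) hT
  · exact h

theorem exists_sylow_le (hmax : IsCoatom M) (hcore : ∀ N : Subgroup G, N.Normal → N ≤ M → N = ⊥)
    (hnil : Group.IsNilpotent M) {p : ℕ} [hp : Fact p.Prime] (hpM : p ∣ Nat.card M) :
    ∃ U : Sylow p G, (U : Subgroup G) ≤ M ∧ M ≤ Subgroup.normalizer ((U : Subgroup G) : Set G) ∧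
      (U : Subgroup G) ≠ ⊥ := by
  obtain ⟨R⟩ := (inferInstance : Nonempty (Sylow p M))
  have hRn : (R : Subgroup M).Normal := Sylow.normal_of_normalizerCondition Group.normalizerCondition_of_isNilpotent R
  set P := (R : Subgroup M).map M.subtype with hP
  have hPM : P ≤ M := Subgroup.map_subtype_le _
  have hP1 : P ≠ ⊥ := fun e => by
    rw [hP, Subgroup.map_eq_bot_iff_of_injective _ M.subtype_injective] at e
    exact R.ne_bot_of_dvd_card hpM e
  have hMN : M ≤ Subgroup.normalizer (P : Set G) := by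
    have h1 := Subgroup.le_normalizer_map M.subtype (H := (R : Subgroup M))
    rw [Subgroup.normalizer_eq_top, ← MonoidHom.range_eq_map, Subgroup.range_subtype] at h1
    exact h1
  have hNP := normalizer_eq_of_coreFree hmax hcore hP1 hPM hMN
  obtain ⟨U, hU⟩ := (R.isPGroup'.map M.subtype).exists_le_sylow
  have hUP : (U : Subgroup G) = P := by
    by_contra hne
    haveI := U.isPGroup'.isNilpotent
    have hlt : P.subgroupOf (U : Subgroup G) < ⊤ := by
      rw [lt_top_iff_ne_top, Ne, Subgroup.subgroupOf_eq_top]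
      exact fun h => hne (le_antisymm h hU)
    obtain ⟨x, hx, hxP⟩ := SetLike.exists_of_lt (Group.normalizerCondition_of_isNilpotent _ hlt)
    have hxN : (x : G) ∈ M := by
      rw [← hNP]
      refine Subgroup.mem_normalizer_iff.2 fun a => ⟨fun ha => ?_, fun ha => ?_⟩
      · exact (Subgroup.mem_normalizer_iff.1 hx ⟨a, hU ha⟩).1 ha
      · have haX : a ∈ (U : Subgroup G) := by
          have h1 := (U : Subgroup G).mul_mem ((U : Subgroup G).mul_mem ((U : Subgroup G).inv_mem x.2) (hU ha)) x.2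
          simpa [mul_assoc] using h1
        exact (Subgroup.mem_normalizer_iff.1 hx ⟨a, haX⟩).2 ha
    have hsub : ((U : Subgroup G).subgroupOf M) = R :=
      R.3 (U.isPGroup'.comap_of_injective M.subtype M.subtype_injective) (Subgroup.map_le_iff_le_comap.1 hU)
    exact hxP (Subgroup.mem_subgroupOf.2 ⟨⟨x, hxN⟩, hsub.le x.2, rfl⟩)
  exact ⟨U, hUP ▸ hPM, hUP ▸ hMN, hUP ▸ hP1⟩

/-- Thompson's criterion applies at the odd primes of a core-free nilpotent maximal subgroup. -/
theorem hasNormalPComplement_of_odd (hmax : IsCoatom M) (hcore : ∀ N : Subgroup G, N.Normal → N ≤ M → N = ⊥)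
    (hnil : Group.IsNilpotent M) {p : ℕ} [Fact p.Prime] (hp2 : p ≠ 2) (hpM : p ∣ Nat.card M) :
    Cfsg.HasNormalPComplement p G := by
  obtain ⟨U, hUM, hMU, hU1⟩ := exists_sylow_le hmax hcore hnil hpM
  have hsub : ∀ H : Subgroup G, H ≤ M → Cfsg.HasNormalPComplement p H := by
    intro H hH
    haveI : Group.IsNilpotent H :=
      Group.nilpotent_of_mulEquiv (Subgroup.subgroupOfEquivOfLe hH)
    exact Cfsg.Agent.Transfer.hasNormalPComplement_of_isNilpotent p
  obtain ⟨z, hz, hz1, hzp⟩ := Cfsg.Agent.PLocal.exists_central_of_order_p U.isPGroup' hU1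
  refine Cfsg.Agent.PLocal.thompson_complement hp2 U (hsub _ (le_of_eq ?_)) (hsub _ ?_)
  · refine normalizer_eq_of_coreFree hmax hcore (fun e => hz1 ?_) ?_
      (hMU.trans (Cfsg.Agent.PLocal.normalizer_le_normalizer_thompsonSubgroupOf _))
    · have h1 := (Cfsg.Agent.PLocal.central_le_centerThompsonOf hz hzp).1
      rw [e] at h1
      exact Subgroup.mem_bot.1 h1
    · exact (Cfsg.Agent.PLocal.thompsonSubgroupOf_le _).trans hUM
  · refine (Subgroup.centralizer_le_normalizer _).trans (le_of_eq ?_)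
    refine normalizer_eq_of_coreFree hmax hcore (fun e => hz1 ?_) (inf_le_left.trans hUM) ?_
    · rw [e] at hz
      exact Subgroup.mem_bot.1 hz
    · exact fun g hg => Subgroup.mem_normalizer_iff.2 fun x => and_congr (Subgroup.mem_normalizer_iff.1 (hMU hg) x)
        (Subgroup.mem_normalizer_iff.1 (Cfsg.Agent.PLocal.normalizer_le_normalizer_centralizer _ (hMU hg)) x)

/-- A core-free nilpotent maximal subgroup with all normal complements gives solvability. -/
theorem solvable_of_complements (hmax : IsCoatom M) (hcore : ∀ N : Subgroup G, N.Normal → N ≤ M → N = ⊥)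
    (hnil : Group.IsNilpotent M) (hM1 : M ≠ ⊥)
    (hc : ∀ p : ℕ, p.Prime → p ∣ Nat.card M → Cfsg.HasNormalPComplement p G) : Group.IsSolvable G := by
  classical
  set S := (Nat.card M).primeFactors with hS
  have hprime : ∀ p : S, (p : ℕ).Prime := fun p => (Nat.mem_primeFactors.1 p.2).1
  let K : S → Subgroup G := fun p => Cfsg.pResidual p G
  haveI hKn : ∀ p, (K p).Normal := fun p => Cfsg.Agent.Transfer.pResidual_normal
  set N := ⨅ p, K p with hN
  haveI : N.Normal := Subgroup.normal_iInf_normal hKn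
  have hco : ∀ p : S, (Nat.card (K p)).Coprime p := fun p => by
    haveI := Fact.mk (hprime p)
    exact Cfsg.Agent.Transfer.hasNormalPComplement_iff_coprime.1 (hc p (hprime p) (Nat.mem_primeFactors.1 p.2).2.1)
  have hNM : (Nat.card M).Coprime (Nat.card N) := by
    refine Nat.coprime_of_dvd fun q hq hqM hqN => ?_
    have hqS : q ∈ S := Nat.mem_primeFactors.2 ⟨hq, hqM, Nat.card_pos.ne'⟩
    have h1 := hqN.trans (Subgroup.card_dvd_of_le (iInf_le K ⟨q, hqS⟩))
    exact hq.ne_one (Nat.dvd_one.1 ((hco ⟨q, hqS⟩) ▸ Nat.dvd_gcd h1 dvd_rfl))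
  by_cases hN1 : N = ⊥
  · let φ : G →* (∀ p : S, G ⧸ K p) := Pi.monoidHom fun p => QuotientGroup.mk' (K p)
    have hinj : Function.Injective φ := by
      refine (MonoidHom.ker_eq_bot_iff φ).1 ((Subgroup.eq_bot_iff_forall _).2 fun x hx => ?_)
      have : x ∈ N := Subgroup.mem_iInf.2 fun p => (QuotientGroup.eq_one_iff x).1 (congrFun hx p)
      rwa [hN1, Subgroup.mem_bot] at this
    haveI : ∀ p : S, Group.IsNilpotent (G ⧸ K p) := fun p => by
      haveI := Fact.mk (hprime p)
      exact (Cfsg.Agent.Transfer.isPGroup_quotient_pResidual (G := G) (p := (p : ℕ))).isNilpotent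
    exact Group.isSolvable_of_isSolvable_injective hinj
  have hdisj : M ⊓ N = ⊥ := Cfsg.Agent.Coprime.inf_eq_bot hNM
  have hMN : M ≤ Subgroup.normalizer (N : Set G) := by rw [Subgroup.normalizer_eq_top]; exact le_top
  have hsupN : M ⊔ N = ⊤ := by
    rcases hmax.le_iff.1 (le_sup_left : M ≤ M ⊔ N) with h | h
    · exact h
    · exact absurd (hcore N inferInstance (h ▸ le_sup_right)) hN1
  haveI : Group.IsSolvable M := inferInstance
  obtain ⟨r, hr, hrN⟩ := Nat.exists_prime_and_dvd (N.one_lt_card_iff_ne_bot.2 hN1).ne'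
  haveI := Fact.mk hr
  obtain ⟨R, hR⟩ := Cfsg.Agent.Coprime.exists_invariant_sylow hMN hNM (Or.inl inferInstance) r
  set R' := (R : Subgroup N).map N.subtype with hR'
  have hR'N : R' ≤ N := Subgroup.map_subtype_le _
  have hRtop : M ⊔ R' = ⊤ := by
    rcases hmax.le_iff.1 (le_sup_left : M ≤ M ⊔ R') with h | h
    · exact h
    · exfalso
      have h1 : R' ≤ M ⊓ N := le_inf (h ▸ le_sup_right) hR'N
      rw [hdisj, le_bot_iff, hR', Subgroup.map_eq_bot_iff_of_injective _ N.subtype_injective] at h1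
      exact R.ne_bot_of_dvd_card hrN h1
  have hNR : N ≤ R' := by
    intro n hn
    have h1 : n ∈ R' ⊔ M := by rw [sup_comm, hRtop]; trivial
    obtain ⟨a, ha, m, hm, rfl⟩ := (Cfsg.Agent.Coprime.mem_sup_iff hR).1 h1
    have hmN : m ∈ M ⊓ N := ⟨hm, (N.mul_mem_cancel_left (hR'N ha)).1 hn⟩
    rw [hdisj, Subgroup.mem_bot] at hmN
    rwa [hmN, mul_one]
  haveI : Group.IsSolvable N := Cfsg.Agent.Solvable.isSolvable_of_isPGroup ((R.isPGroup'.map N.subtype).to_le hNR)
  haveI : Group.IsSolvable (G ⧸ N) := by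
    refine Group.isSolvable_of_surjective (f := (QuotientGroup.mk' N).comp M.subtype) fun y => ?_
    obtain ⟨g, rfl⟩ := QuotientGroup.mk'_surjective N y
    obtain ⟨m, hm, n, hn, rfl⟩ := Subgroup.mem_sup_of_normal_right.1 (show g ∈ M ⊔ N by rw [hsupN]; trivial)
    refine ⟨⟨m, hm⟩, ?_⟩
    show (m : G ⧸ N) = ((m * n : G) : G ⧸ N)
    rw [QuotientGroup.mk_mul_of_mem m hn]
  exact (Cfsg.Agent.Solvable.isSolvable_subgroup_quotient_iff N).2 ⟨inferInstance, inferInstance⟩

theorem solvable_of_bot (hmax : IsCoatom (⊥ : Subgroup G)) : Group.IsSolvable G := by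
  by_cases h : ∀ x : G, x = 1
  · haveI : Subsingleton G := ⟨fun a b => (h a).trans (h b).symm⟩
    infer_instance
  push Not at h
  obtain ⟨x, hx⟩ := h
  have h1 : Subgroup.zpowers x = ⊤ := hmax.2 _ (bot_lt_iff_ne_bot.2 fun e => hx (Subgroup.zpowers_eq_bot.1 e))
  haveI : IsCyclic G := ⟨⟨x, fun y => by
    have : y ∈ Subgroup.zpowers x := h1 ▸ Subgroup.mem_top y
    exact this⟩⟩
  exact Group.isSolvable_of_comm (IsCyclic.isMulCommutative (α := G)).is_comm.comm

theorem isCoatom_map (hmax : IsCoatom M) {N : Subgroup G} [N.Normal] (hNM : N ≤ M) :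
    IsCoatom (M.map (QuotientGroup.mk' N)) := by
  have hc : (M.map (QuotientGroup.mk' N)).comap (QuotientGroup.mk' N) = M := by
    rw [Subgroup.comap_map_eq, QuotientGroup.ker_mk', sup_eq_left.2 hNM]
  refine ⟨fun e => hmax.1 (by rw [← hc, e, Subgroup.comap_top]), fun B hB => ?_⟩
  have h1 : M < B.comap (QuotientGroup.mk' N) := by
    rw [← hc]
    exact (Subgroup.comap_lt_comap_of_surjective (QuotientGroup.mk'_surjective N)).2 hB
  rw [← Subgroup.map_comap_eq_self_of_surjective (QuotientGroup.mk'_surjective N) B, hmax.2 _ h1,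
    Subgroup.map_top_of_surjective _ (QuotientGroup.mk'_surjective N)]

end

theorem aux : ∀ (n : ℕ) (G : Type u) [Group G] [Finite G], Nat.card G ≤ n → ∀ M : Subgroup G, IsCoatom M →
    Group.IsNilpotent M → Odd (Nat.card M) → Group.IsSolvable G := by
  intro n
  induction n with
  | zero =>
    intro G _ _ hn
    have := Nat.card_pos (α := G)
    omega
  | succ n ih =>
    intro G _ _ hn M hmax hnil hodd
    haveI := hnil
    by_cases hM1 : M = ⊥
    · exact solvable_of_bot (hM1 ▸ hmax)
    by_cases hcore : ∀ N : Subgroup G, N.Normal → N ≤ M → N = ⊥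
    · refine solvable_of_complements hmax hcore hnil hM1 fun p hp hpM => ?_
      haveI := Fact.mk hp
      refine hasNormalPComplement_of_odd hmax hcore hnil (fun e => ?_) hpM
      exact Nat.not_even_iff_odd.2 hodd (even_iff_two_dvd.2 (e ▸ hpM))
    push Not at hcore
    obtain ⟨N, hNn, hNM, hN1⟩ := hcore
    haveI := hNn
    haveI : Group.IsNilpotent (M.map (QuotientGroup.mk' N)) :=
      Group.nilpotent_of_surjective ((QuotientGroup.mk' N).subgroupMap M) (MonoidHom.subgroupMap_surjective _ M)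
    haveI : Group.IsSolvable (G ⧸ N) := by
      refine ih (G ⧸ N) ?_ _ (isCoatom_map hmax hNM) inferInstance (hodd.of_dvd_nat (M.card_map_dvd _))
      have := Cfsg.Agent.Solvable.card_quotient_lt hN1
      omega
    haveI : Group.IsSolvable N := Cfsg.Agent.Solvable.isSolvable_of_le hNM
    exact (Cfsg.Agent.Solvable.isSolvable_subgroup_quotient_iff N).2 ⟨inferInstance, inferInstance⟩

/-- A finite group possessing a maximal subgroup that is nilpotent of odd order is solvable. -/
theorem result {G : Type*} [Group G] [Finite G]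
    (M : Subgroup G) (hmax : IsCoatom M) (hnil : Group.IsNilpotent M) (hodd : Odd (Nat.card M)) :
    Group.IsSolvable G := by
  exact aux _ G le_rfl M hmax hnil hodd

end Cfsg.Agent.S4040
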