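import Cfsg.Statements.S4039
import Cfsg.Agent.EqLemmas
import Cfsg.Agent.S4040
import Cfsg.Agent.Lib.NilGroup.Basic
import Cfsg.Agent.Lib.Cores.Subnormal
import Cfsg.Agent.Lib.PRankBound.Basic

set_option autoImplicit false
open Cfsg

open scoped commutatorElement

namespace Cfsg.Agent.S4039

universe u

theorem hasNormalPComplement_of_class_two {G : Type u} [Group G] [Finite G] {M : Subgroup G} (hmax : IsCoatom M)
    (hcore : ∀ N : Subgroup G, N.Normal → N ≤ M → N = ⊥) (hnil : Group.IsNilpotent M)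
    (hcl : _root_.commutator M ≤ Subgroup.center M)
    {p : ℕ} [Fact p.Prime] (hpM : p ∣ Nat.card M) : Cfsg.HasNormalPComplement p G := by
  obtain ⟨U, hUM, hMU, hU1⟩ := Cfsg.Agent.S4040.exists_sylow_le hmax hcore hnil hpM
  refine Cfsg.Agent.Transfer.hasNormalPComplement_of_local U fun R hR hRb n hn hco => ?_
  set L := Subgroup.normalizer (R : Set G) with hL
  set V := (U : Subgroup G) ⊓ Subgroup.centralizer (R : Set G) with hV
  have hVM : V ≤ M := inf_le_left.trans hUM
  have hcomm : ∀ u ∈ M, ∀ v ∈ M, ∀ w ∈ M, w * ⁅u, v⁆ = ⁅u, v⁆ * w := fun u hu v hv w hw =>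
    congrArg Subtype.val (Subgroup.mem_center_iff.1 (hcl (Subgroup.commutator_mem_commutator
      (Subgroup.mem_top (⟨u, hu⟩ : M)) (Subgroup.mem_top (⟨v, hv⟩ : M)))) ⟨w, hw⟩)
  have hV1 : V ≠ ⊥ := by
    obtain ⟨z, hz, hz1, -⟩ := Cfsg.Agent.PLocal.exists_central_of_order_p U.isPGroup' hU1
    intro e
    refine hz1 (Subgroup.mem_bot.1 (e ▸ (⟨hz.1, Subgroup.mem_centralizer_iff.2 fun r hr =>
      Subgroup.mem_centralizer_iff.1 hz.2 r (hR.1 hr)⟩ : z ∈ V)))
  have hUV : (U : Subgroup G) ≤ Subgroup.normalizer (V : Set G) := by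
    have key : ∀ u ∈ (U : Subgroup G), ∀ v ∈ V, u * v * u⁻¹ ∈ V := by
      intro u hu v hv
      rw [show u * v * u⁻¹ = ⁅u, v⁆ * v by rw [commutatorElement_def]; group]
      refine V.mul_mem ⟨(U : Subgroup G).mul_mem ((U : Subgroup G).mul_mem ((U : Subgroup G).mul_mem hu hv.1)
        ((U : Subgroup G).inv_mem hu)) ((U : Subgroup G).inv_mem hv.1), ?_⟩ hv
      exact Subgroup.mem_centralizer_iff.2 fun r hr => hcomm u (hUM hu) v (hVM hv) r (hUM (hR.1 hr))
    intro u hu
    refine Subgroup.mem_normalizer_iff.2 fun v => ⟨key u hu v, fun hv => ?_⟩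
    have := key u⁻¹ (inv_mem hu) _ hv
    simpa [mul_assoc] using this
  haveI := hnil
  have hcop : ∀ x ∈ M, (orderOf x).Coprime p → ∀ s ∈ (U : Subgroup G), x * s = s * x := by
    intro x hx hxp s hs
    obtain ⟨j, hj⟩ := IsPGroup.iff_orderOf.1 U.isPGroup' ⟨s, hs⟩
    rw [Subgroup.orderOf_mk] at hj
    have h1 := Cfsg.Agent.NilGroup.commute_of_coprime hnil (x := (⟨x, hx⟩ : M)) (y := ⟨s, hUM hs⟩) (by
      rw [Subgroup.orderOf_mk, Subgroup.orderOf_mk, hj]; exact hxp.pow_right j)
    exact congrArg Subtype.val h1.eq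
  -- `N(V) = M`
  have hMV : M ≤ Subgroup.normalizer (V : Set G) := by
    intro x hx
    obtain ⟨a, b, ha, hb, hab⟩ : ∃ a b : ℕ, (∃ k, (x ^ a) ^ p ^ k = 1) ∧ (orderOf (x ^ b)).Coprime p ∧ a.Coprime b := by
      refine ⟨orderOf x / p ^ (orderOf x).factorization p, p ^ (orderOf x).factorization p,
        ⟨(orderOf x).factorization p, ?_⟩, ?_, ?_⟩
      · rw [← pow_mul, Nat.div_mul_cancel (Nat.ordProj_dvd _ p), pow_orderOf_eq_one]
      · rw [orderOf_pow' x (pow_ne_zero _ (Fact.out : p.Prime).ne_zero), Nat.gcd_eq_right (Nat.ordProj_dvd _ p)]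
        exact (Nat.coprime_ordCompl Fact.out (orderOf_pos x).ne').symm
      · exact ((Nat.coprime_ordCompl Fact.out (orderOf_pos x).ne').pow_left _).symm
    refine Cfsg.Agent.Transfer.mem_of_pow_mem_of_coprime hab ?_ ?_
    · obtain ⟨k, hk⟩ := ha
      refine hUV ?_
      obtain ⟨R', hR'⟩ := (IsPGroup.of_card (n := (orderOf (x ^ a)).factorization p) (by
        obtain ⟨i, -, hi⟩ := (Nat.dvd_prime_pow (Fact.out : p.Prime)).1 (orderOf_dvd_of_pow_eq_one hk)
        rw [Nat.card_zpowers, hi, Nat.Prime.factorization_pow Fact.out, Finsupp.single_eq_same]) :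
        IsPGroup p (Subgroup.zpowers (x ^ a))).exists_le_sylow
      -- `U` is normal in `M`, so contains all its `p`-elements
      have hsup : (U : Subgroup G) ⊔ Subgroup.zpowers (x ^ a) = U :=
        U.3 (U.isPGroup'.to_sup_of_normal_left' (R'.isPGroup'.to_le hR')
          (Subgroup.zpowers_le.2 (hMU (M.pow_mem hx a)))) le_sup_left
      exact hsup.le (Subgroup.mem_sup_right (Subgroup.mem_zpowers _))
    · refine Subgroup.centralizer_le_normalizer _ (Subgroup.mem_centralizer_iff.2 fun v hv =>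
        (hcop _ (M.pow_mem hx b) hb v hv.1).symm)
  have hNV := Cfsg.Agent.S4040.normalizer_eq_of_coreFree hmax hcore hV1 hVM hMV
  -- Frattini argument inside `N(R)`
  set C := (Subgroup.centralizer (R : Set G)).subgroupOf L with hC
  haveI hCn : C.Normal := Subgroup.normal_subgroupOf_centralizer_normalizer _
  have hidx : ¬ p ∣ ((U : Subgroup G).subgroupOf L).index := by
    have h := hR.2
    rw [Subgroup.inf_relIndex_right] at h
    exact h
  let T : Sylow p L := (U.isPGroup'.comap_subtype (K := L)).toSylow hidx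
  obtain ⟨W, hW⟩ := Cfsg.Agent.Cores.sylow_inf_isSubnormal T hCn.isSubnormal
  have hWmap : ((W : Subgroup C).map C.subtype).map L.subtype = V := by
    rw [hW]
    show ((((U : Subgroup G).subgroupOf L).subgroupOf C).map C.subtype).map L.subtype = V
    rw [Subgroup.subgroupOf_map_subtype, hC, Subgroup.map_inf _ _ _ L.subtype_injective,
      Subgroup.subgroupOf_map_subtype, Subgroup.subgroupOf_map_subtype, hV]
    have hCL : Subgroup.centralizer (R : Set G) ≤ L := Subgroup.centralizer_le_normalizer _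
    rw [inf_eq_left.2 hCL, inf_assoc, inf_eq_right.2 hCL]
  obtain ⟨m, hm, c, hc, hmc⟩ := Subgroup.mem_sup_of_normal_right.1
    (show (⟨n, hn⟩ : L) ∈ Subgroup.normalizer ((W : Subgroup C).map C.subtype) ⊔ C by
      rw [Sylow.normalizer_sup_eq_top W]; trivial)
  have hmM : (m : G) ∈ M := by
    rw [← hNV, ← hWmap]
    exact Subgroup.le_normalizer_map L.subtype ⟨m, hm, rfl⟩
  set a := p ^ (orderOf (m : G)).factorization p with ha
  have hma : (⟨(m : G), m.2⟩ : L) ^ a ∈ C := by
    show ((m : G) ^ a) ∈ Subgroup.centralizer (R : Set G)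
    refine Subgroup.mem_centralizer_iff.2 fun r hr => (hcop _ (M.pow_mem hmM a) ?_ r (hR.1 hr)).symm
    rw [ha, orderOf_pow' _ (pow_ne_zero _ (Fact.out : p.Prime).ne_zero), Nat.gcd_eq_right (Nat.ordProj_dvd _ p)]
    exact (Nat.coprime_ordCompl Fact.out (orderOf_pos (m : G)).ne').symm
  have hna : (⟨n, hn⟩ : L) ^ a ∈ C := by
    rw [← QuotientGroup.eq_one_iff, QuotientGroup.mk_pow, ← hmc, QuotientGroup.mk_mul_of_mem m hc,
      ← QuotientGroup.mk_pow, QuotientGroup.eq_one_iff]
    exact hma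
  have hnC : (⟨n, hn⟩ : L) ∈ C := Cfsg.Agent.Transfer.mem_of_pow_mem_of_coprime
    (a := orderOf (⟨n, hn⟩ : L)) (by rw [Subgroup.orderOf_mk, ha]; exact hco.pow_right _)
    (by rw [pow_orderOf_eq_one]; exact C.one_mem) hna
  exact hnC

theorem aux : ∀ (n : ℕ) (G : Type u) [Group G] [Finite G], Nat.card G ≤ n → ∀ M : Subgroup G, IsCoatom M →
    Group.IsNilpotent M → _root_.commutator M ≤ Subgroup.center M → Group.IsSolvable G := by
  intro n
  induction n with
  | zero =>
    intro G _ _ hn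
    have := Nat.card_pos (α := G)
    omega
  | succ n ih =>
    intro G _ _ hn M hmax hnil hcl
    haveI := hnil
    by_cases hM1 : M = ⊥
    · exact Cfsg.Agent.S4040.solvable_of_bot (hM1 ▸ hmax)
    by_cases hcore : ∀ N : Subgroup G, N.Normal → N ≤ M → N = ⊥
    · refine Cfsg.Agent.S4040.solvable_of_complements hmax hcore hnil hM1 fun p hp hpM => ?_
      haveI := Fact.mk hp
      exact hasNormalPComplement_of_class_two hmax hcore hnil hcl hpM
    push Not at hcore
    obtain ⟨N, hNn, hNM, hN1⟩ := hcore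
    haveI := hNn
    set φ := (QuotientGroup.mk' N).subgroupMap M with hφ
    have hφs : Function.Surjective φ := MonoidHom.subgroupMap_surjective _ M
    haveI : Group.IsNilpotent (M.map (QuotientGroup.mk' N)) := Group.nilpotent_of_surjective φ hφs
    haveI : Group.IsSolvable (G ⧸ N) := by
      refine ih (G ⧸ N) ?_ _ (Cfsg.Agent.S4040.isCoatom_map hmax hNM) inferInstance ?_
      · have := Cfsg.Agent.Solvable.card_quotient_lt hN1
        omega
      · rw [_root_.commutator_def, Subgroup.commutator_le]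
        intro a _ b _
        obtain ⟨a, rfl⟩ := hφs a
        obtain ⟨b, rfl⟩ := hφs b
        refine Subgroup.mem_center_iff.2 fun c => ?_
        obtain ⟨c, rfl⟩ := hφs c
        rw [← map_commutatorElement, ← map_mul, ← map_mul,
          Subgroup.mem_center_iff.1 (hcl (Subgroup.commutator_mem_commutator (Subgroup.mem_top a) (Subgroup.mem_top b))) c]
    haveI : Group.IsSolvable N := Cfsg.Agent.Solvable.isSolvable_of_le hNM
    exact (Cfsg.Agent.Solvable.isSolvable_subgroup_quotient_iff N).2 ⟨inferInstance, inferInstance⟩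

/-- A finite group possessing a maximal subgroup that is nilpotent of class at most 2 is solvable. -/
theorem result {G : Type*} [Group G] [Finite G]
    (M : Subgroup G) (hmax : IsCoatom M) (hnil : Group.IsNilpotent M) (hcl : Group.nilpotencyClass ↥M ≤ 2) :
    Group.IsSolvable G := by
  haveI := hnil
  exact aux _ G le_rfl M hmax hnil (Cfsg.Agent.PRankBound.commutator_le_center_of_class_le_two hcl)

end Cfsg.Agent.S4039
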