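import Cfsg.Statements.S4041
import Cfsg.Agent.Lib.SThreeFpf.Main
import Cfsg.Agent.Lib.AbelianSylow.Cent.Main
import Cfsg.Agent.Lib.Solvable.NilpotentHall

set_option autoImplicit false
open Cfsg

namespace Cfsg.Agent.S4041

/-- Let G be a finite group in which the symmetric group of degree 3 is not involved, and let π be the set of primes dividing the order of G. Let a finite group A act on G by automorphisms so that the identity is the only element of G fixed by every element of A, and suppose A has a nilpotent Hall π-subgroup and a normal π-complement (a normal subgroup whose order is divisible by no prime of π and whose index is divisible only by primes of π). Then G is solvable. -/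
theorem result {G A : Type*} [Group G] [Finite G]
    [Group A] [Finite A] (φ : A →* MulAut G) (hfpf : ∀ g : G, (∀ a : A, φ a g = g) → g = 1)
    (hS3 : ¬ Cfsg.Involves (Equiv.Perm (Fin 3)) G)
    (hHall : ∃ H : Subgroup A, Cfsg.IsPiHall {r : ℕ | r.Prime ∧ r ∣ Nat.card G} H ∧ Group.IsNilpotent H)
    (hcomp : ∃ K : Subgroup A, K.Normal ∧ (∀ r : ℕ, r.Prime → r ∣ Nat.card K → ¬ r ∣ Nat.card G) ∧
      ∀ r : ℕ, r.Prime → r ∣ K.index → r ∣ Nat.card G) :
    Group.IsSolvable G := by
  obtain ⟨H, ⟨-, hH⟩, hnil⟩ := hHall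
  obtain ⟨K, hKn, hK, hKi⟩ := hcomp
  refine SThreeFpf.solvable_aux AbelianSylow.centTarget _ G le_rfl hS3 A φ hfpf fun p hp hpG => ?_
  haveI := Fact.mk hp
  haveI := hKn
  let q : A →* A ⧸ K := QuotientGroup.mk' K
  have hsur : H.map q = ⊤ := by
    rw [← Subgroup.index_eq_one]
    by_contra h
    obtain ⟨r, hr, hrd⟩ := Nat.exists_prime_and_dvd h
    have h1 : (H.map q).index ∣ H.index := Subgroup.index_map_dvd H (QuotientGroup.mk'_surjective K)
    have h2 : (H.map q).index ∣ K.index := Subgroup.index_dvd_card _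
    exact hH r hr ⟨hr, hKi r hr (hrd.trans h2)⟩ (hrd.trans h1)
  haveI : Group.IsNilpotent H := hnil
  haveI : Group.IsNilpotent (A ⧸ K) :=
    Group.nilpotent_of_surjective (q.comp H.subtype) (fun y => by
      obtain ⟨x, hx, rfl⟩ := hsur.ge (Subgroup.mem_top y)
      exact ⟨⟨x, hx⟩, rfl⟩)
  obtain ⟨P, N, hNn, hNP⟩ := Solvable.hasNormalPComplement_of_isNilpotent (G := A ⧸ K) (p := p)
  haveI := hNn
  refine ⟨N.comap q, inferInstance, fun hd => ?_, ?_⟩
  · have hidx : (N.comap q).index = N.index :=
      Subgroup.index_comap_of_surjective N (QuotientGroup.mk'_surjective K)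
    have h1 : Nat.card (N.comap q) * N.index = Nat.card K * Nat.card N * N.index := by
      rw [← hidx, Subgroup.card_mul_index, hidx, mul_assoc, Subgroup.card_mul_index, mul_comm,
        ← Subgroup.card_eq_card_quotient_mul_card_subgroup]
    rw [Nat.eq_of_mul_eq_mul_right (Nat.pos_of_ne_zero Subgroup.index_ne_zero_of_finite) h1] at hd
    rcases hp.dvd_mul.mp hd with h | h
    · exact hK p hp h hpG
    · have h2 := P.not_dvd_index
      rw [hNP.index_eq_card] at h2
      exact h2 h
  · obtain ⟨k, hk⟩ := IsPGroup.iff_card.mp P.isPGroup'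
    refine ⟨k, ?_⟩
    rw [Subgroup.index_comap_of_surjective N (QuotientGroup.mk'_surjective K),
      hNP.symm.index_eq_card, hk]

end Cfsg.Agent.S4041
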