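import Cfsg.Statements.S4043
import Cfsg.Agent.EqLemmas
import Cfsg.Agent.Lib.Solvable.SchurZassenhaus

set_option autoImplicit false
open Cfsg
open scoped Pointwise

namespace Cfsg.Agent.S4043


theorem exists_fixed_of_isPGroup {G : Type*} [Group G] [Finite G] {p : ℕ} [Fact p.Prime] {P C : Subgroup G}
    (hP : IsPGroup p P) (hC : IsPGroup p C) (hne : C ≠ ⊥) (hn : P ≤ Subgroup.normalizer (C : Set G)) :
    ∃ c ∈ C, c ≠ 1 ∧ ∀ x ∈ P, x * c = c * x := by
  letI act : MulAction P C := MulAction.compHom C ((C.normalizerMonoidHom).comp (Subgroup.inclusion hn))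
  have hval : ∀ (x : P) (c : C), ((x • c : C) : G) = x * c * (x : G)⁻¹ := fun x c => rfl
  have hdvd : p ∣ Nat.card C := by
    obtain ⟨k, hk⟩ := IsPGroup.iff_card.1 hC
    rcases Nat.eq_zero_or_pos k with rfl | hk0
    · rw [pow_zero] at hk
      exact absurd (Subgroup.eq_bot_of_card_eq _ hk) hne
    · exact hk ▸ dvd_pow_self p hk0.ne'
  have hone : (1 : C) ∈ MulAction.fixedPoints P C := fun x => Subtype.ext (by rw [hval]; simp)
  obtain ⟨c, hc, hc1⟩ := hP.exists_fixed_point_of_prime_dvd_card_of_fixed_point C hdvd hone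
  refine ⟨c, c.2, fun h => hc1 (Subtype.ext h.symm), fun x hx => ?_⟩
  have h1 := congrArg Subtype.val (hc ⟨x, hx⟩)
  rw [hval] at h1
  exact mul_inv_eq_iff_eq_mul.1 h1

/-- The p-complement of a complement `A`, pushed into the group. -/
theorem exists_pieces {G : Type*} [Group G] [Finite G] {p : ℕ} [Fact p.Prime]
    (N : Subgroup G) [N.Normal] (hN : IsPGroup p N) (A : Subgroup G) (hA : A.IsComplement' N)
    (hAp : Cfsg.HasNormalPComplement p A) :
    ∃ Q P : Subgroup G, Q ≤ A ∧ P ≤ A ∧ IsPGroup p P ∧ A ≤ Q ⊔ P ∧ A ≤ Subgroup.normalizer (Q : Set G) ∧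
      (Nat.card Q).Coprime p ∧ (Q ⊔ N).Normal ∧ ∃ k, (Q ⊔ N).index = p ^ k := by
  obtain ⟨P, Q, hQn, hQP⟩ := hAp
  have hcard : Nat.card Q = (P : Subgroup A).index := hQP.index_eq_card.symm
  have hQc : (Nat.card Q).Coprime p := by
    rw [hcard, Nat.coprime_comm, (Fact.out : p.Prime).coprime_iff_not_dvd]
    exact P.not_dvd_index
  have hQ' : Nat.card (Q.map A.subtype) = Nat.card Q :=
    (Nat.card_congr (Q.equivMapOfInjective _ A.subtype_injective).toEquiv).symm
  have hnorm : A ≤ Subgroup.normalizer ((Q.map A.subtype : Subgroup G) : Set G) := by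
    have := Subgroup.le_normalizer_map (H := Q) A.subtype
    rwa [Subgroup.normalizer_eq_top_iff.2 hQn, ← MonoidHom.range_eq_map, Subgroup.range_subtype] at this
  have hA2 : A ≤ Q.map A.subtype ⊔ (P : Subgroup A).map A.subtype := by
    rw [← Subgroup.map_sup, hQP.sup_eq_top, ← MonoidHom.range_eq_map, Subgroup.range_subtype]
  refine ⟨Q.map A.subtype, (P : Subgroup A).map A.subtype, Subgroup.map_subtype_le _,
    Subgroup.map_subtype_le _, P.isPGroup'.map _, hA2, hnorm, hQ' ▸ hQc, ?_, ?_⟩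
  · rw [← Subgroup.normalizer_eq_top_iff, eq_top_iff, ← hA.sup_eq_top]
    refine sup_le ?_ (le_trans le_sup_right Subgroup.le_normalizer)
    intro a ha
    rw [Cfsg.Agent.Solvable.mem_normalizer_iff_conj, Subgroup.smul_sup,
      (Cfsg.Agent.Solvable.mem_normalizer_iff_conj).1 (hnorm ha), Cfsg.Agent.Solvable.conj_normal]
  · obtain ⟨m, hm⟩ := P.2.exists_card_eq
    refine ⟨m, ?_⟩
    have hdisj : Q.map A.subtype ⊓ N = ⊥ :=
      le_bot_iff.1 ((inf_le_inf_right _ (Subgroup.map_subtype_le _)).trans hA.disjoint.eq_bot.le)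
    have h1 := (Q.map A.subtype ⊔ N).index_mul_card
    rw [Cfsg.Agent.Solvable.card_sup_of_disjoint _ _ hdisj, ← hA.card_mul_card, hQ',
      ← hQP.card_mul_card, hm] at h1
    have hpos : 0 < Nat.card Q * Nat.card N := Nat.mul_pos Nat.card_pos Nat.card_pos
    refine Nat.eq_of_mul_eq_mul_right hpos ?_
    rw [h1]; ring

theorem le_of_pieces {G : Type*} [Group G] [Finite G] {p : ℕ} [Fact p.Prime]
    (L Q : Subgroup G) [L.Normal] (hL : ∃ k, L.index = p ^ k) (hQ : (Nat.card Q).Coprime p) : Q ≤ L := by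
  intro x hx
  obtain ⟨k, hk⟩ := hL
  rw [← QuotientGroup.eq_one_iff (N := L), ← orderOf_eq_one_iff]
  refine Nat.eq_one_of_dvd_coprimes ((Nat.Coprime.coprime_dvd_left (Subgroup.orderOf_dvd_natCard _ hx) hQ).pow_right k)
    (orderOf_map_dvd (QuotientGroup.mk' L) x) ?_
  rw [← hk, Subgroup.index_eq_card]
  exact orderOf_dvd_natCard _

/-- Let G be a finite group that is the semidirect product of a normal p-subgroup N by a subgroup A, and also of N by a subgroup A₁, where p is a prime and A and A₁ both have normal p-complements. If C_N(A) = C_N(A₁) = 1, then A₁ is conjugate to A by an element of N. -/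
theorem result {G : Type*} [Group G] [Finite G] {p : ℕ}
    [Fact p.Prime] (N : Subgroup G) [N.Normal] (hN : IsPGroup p N) (A A₁ : Subgroup G)
    (hA : A.IsComplement' N) (hA₁ : A₁.IsComplement' N)
    (hAp : Cfsg.HasNormalPComplement p A) (hA₁p : Cfsg.HasNormalPComplement p A₁)
    (hC : ∀ n : G, n ∈ N → (∀ a : G, a ∈ A → a * n * a⁻¹ = n) → n = 1)
    (hC₁ : ∀ n : G, n ∈ N → (∀ a : G, a ∈ A₁ → a * n * a⁻¹ = n) → n = 1) :
    ∃ n : G, n ∈ N ∧ A₁ = A.map (MulAut.conj n).toMonoidHom := by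
  obtain ⟨Q, P, hQA, -, -, -, hQn, hQc, hL, hLi⟩ := exists_pieces N hN A hA hAp
  obtain ⟨Q₁, P₁, hQA₁, hPA₁, hP₁, hA₁2, hQn₁, hQc₁, hL₁, hLi₁⟩ := exists_pieces N hN A₁ hA₁ hA₁p
  haveI := hL
  haveI := hL₁
  have hsup : Q ⊔ N = Q₁ ⊔ N := le_antisymm
    (sup_le (le_of_pieces _ Q hLi₁ hQc) le_sup_right) (sup_le (le_of_pieces _ Q₁ hLi hQc₁) le_sup_right)
  obtain ⟨j, hj⟩ := IsPGroup.iff_card.1 hN
  have hcop : (Nat.card Q).Coprime (Nat.card N) := hj ▸ hQc.pow_right j
  have hcop₁ : (Nat.card Q₁).Coprime (Nat.card N) := hj ▸ hQc₁.pow_right j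
  haveI : Group.IsSolvable N := Cfsg.Agent.Solvable.isSolvable_of_isPGroup hN
  obtain ⟨n, hnN, hn⟩ := Cfsg.Agent.Solvable.exists_conj_of_sup_eq (Or.inl inferInstance) hsup hcop hcop₁
  refine ⟨n, hnN, ?_⟩
  set A' : Subgroup G := MulAut.conj n • A with hA'
  have hQ1A' : Q₁ ≤ A' := hn ▸ Cfsg.Agent.Solvable.conj_mono n hQA
  set M : Subgroup G := Subgroup.normalizer (Q₁ : Set G) with hM
  have hA'M : A' ≤ M := by
    intro y hy
    rw [hA', Cfsg.Agent.Solvable.mem_conj_iff] at hy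
    rw [hM, Cfsg.Agent.Solvable.mem_normalizer_iff_conj, ← hn]
    calc MulAut.conj y • MulAut.conj n • Q = MulAut.conj n • MulAut.conj (n⁻¹ * y * n) • Q := by
          rw [Cfsg.Agent.Solvable.conj_conj, Cfsg.Agent.Solvable.conj_conj]; congr 2; group
      _ = MulAut.conj n • Q := by rw [(Cfsg.Agent.Solvable.mem_normalizer_iff_conj).1 (hQn hy)]
  set C : Subgroup G := N ⊓ Subgroup.centralizer (Q₁ : Set G) with hCdef
  have hCbot : C = ⊥ := by
    by_contra hne
    have hnorm : A₁ ≤ Subgroup.normalizer (C : Set G) := by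
      refine le_trans (le_inf (le_top.trans (Subgroup.normalizer_eq_top N).ge)
        (hQn₁.trans ?_)) Subgroup.inf_normalizer_le_normalizer_inf
      intro y hy
      rw [Subgroup.mem_normalizer_iff]
      have key : ∀ z ∈ Subgroup.normalizer (Q₁ : Set G), ∀ c : G, c ∈ Subgroup.centralizer (Q₁ : Set G) →
          z * c * z⁻¹ ∈ Subgroup.centralizer (Q₁ : Set G) := by
        intro z hz c hc
        rw [Subgroup.mem_centralizer_iff]
        intro q hq
        have hq' : z⁻¹ * q * z ∈ Q₁ := (Subgroup.mem_normalizer_iff''.1 hz q).1 hq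
        have h := Subgroup.mem_centralizer_iff.1 hc _ hq'
        calc q * (z * c * z⁻¹) = z * ((z⁻¹ * q * z) * c) * z⁻¹ := by group
          _ = z * (c * (z⁻¹ * q * z)) * z⁻¹ := by rw [h]
          _ = z * c * z⁻¹ * q := by group
      refine fun c => ⟨key y hy c, fun h => ?_⟩
      have := key y⁻¹ (inv_mem hy) _ h
      simpa [mul_assoc] using this
    obtain ⟨c, hc, hc1, hcP⟩ := exists_fixed_of_isPGroup hP₁ (hN.to_le inf_le_left) hne (hPA₁.trans hnorm)
    refine hc1 (hC₁ c hc.1 fun a ha => ?_)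
    have hle : Q₁ ⊔ P₁ ≤ Subgroup.centralizer ({c} : Set G) := by
      refine sup_le (fun q hq => ?_) (fun x hx => ?_)
      · rw [Subgroup.mem_centralizer_singleton_iff]
        exact (Subgroup.mem_centralizer_iff.1 hc.2 q hq)
      · rw [Subgroup.mem_centralizer_singleton_iff]
        exact hcP x hx
    rw [mul_inv_eq_iff_eq_mul]
    exact Subgroup.mem_centralizer_singleton_iff.1 (hle (hA₁2 ha))
  have hMN : ∀ m ∈ M, m ∈ N → m = 1 := by
    intro m hm hmN
    rw [← Subgroup.mem_bot, ← hCbot, hCdef]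
    refine ⟨hmN, Subgroup.mem_centralizer_iff.2 fun q hq => ?_⟩
    have h1 : m * q * m⁻¹ * q⁻¹ ∈ Q₁ ⊓ N := by
      refine ⟨Q₁.mul_mem ((Subgroup.mem_normalizer_iff.1 hm q).1 hq) (Q₁.inv_mem hq), ?_⟩
      have := N.mul_mem hmN ((inferInstance : N.Normal).conj_mem _ (N.inv_mem hmN) q)
      simpa [mul_assoc] using this
    rw [Cfsg.Agent.Solvable.inf_eq_bot_of_coprime hcop₁, Subgroup.mem_bot] at h1
    exact (mul_inv_eq_iff_eq_mul.1 (mul_inv_eq_one.1 h1)).symm
  have hdec : ∀ B : Subgroup G, B ⊔ N = ⊤ → B ≤ M → M ≤ B := by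
    intro B hB hBM m hm
    have : m ∈ B ⊔ N := hB ▸ Subgroup.mem_top m
    rw [Subgroup.mem_sup_of_normal_right] at this
    obtain ⟨b, hb, k, hk, rfl⟩ := this
    rw [hMN k ((Subgroup.mul_mem_cancel_left _ (hBM hb)).1 hm) hk, mul_one]
    exact hb
  have hA'sup : A' ⊔ N = ⊤ := by
    rw [hA', ← Cfsg.Agent.Solvable.conj_normal n N, ← Subgroup.smul_sup, hA.sup_eq_top]
    exact Cfsg.Agent.Solvable.conj_normal n ⊤
  have e1 : A₁ = M := le_antisymm hQn₁ (hdec A₁ hA₁.sup_eq_top hQn₁)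
  have e2 : A' = M := le_antisymm hA'M (hdec A' hA'sup hA'M)
  rw [e1, ← e2, hA']
  exact Cfsg.Agent.Solvable.conj_eq_map n A

end Cfsg.Agent.S4043
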