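import Cfsg.Statements.S4049
import Cfsg.Agent.EqLemmas
import Cfsg.Agent.Lib.Cores.Basic
import Cfsg.Agent.Lib.Involution.BaerSuzuki
import Cfsg.Agent.Lib.Solvable.SchurZassenhaus

set_option autoImplicit false
open Cfsg
open scoped Pointwise

namespace Cfsg.Agent.S4049

/-- Let G be a finite group such that N_G(H)/C_G(H) has odd order for every nontrivial subgroup H of odd order. Then the Sylow 2-subgroups of G are normal. -/
theorem result {G : Type*} [Group G] [Finite G]
    (hhom : ∀ H : Subgroup G, H ≠ ⊥ → ¬ 2 ∣ Nat.card ↥H →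
        ¬ 2 ∣ (Subgroup.centralizer (H : Set G)).relIndex (Subgroup.normalizer (H : Set G))) (P : Sylow 2 G) :
    (P : Subgroup G).Normal := by
  haveI : Fact (Nat.Prime 2) := ⟨Nat.prime_two⟩
  set R : Subgroup G := Cfsg.pCore 2 G with hR
  haveI : R.Normal := Cfsg.Agent.Cores.pCore_normal 2 G
  have hRp : IsPGroup 2 R := Cfsg.Agent.Cores.isPGroup_pCore 2 G
  by_cases heven : 2 ∣ R.index
  swap
  · have hle : R ≤ (P : Subgroup G) := Cfsg.Agent.Cores.pCore_le_sylow P
    have heq : (P : Subgroup G) = R := by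
      have h1 : (hRp.toSylow heven : Subgroup G) = R := rfl
      exact ((hRp.toSylow heven).3 P.isPGroup' hle)
    rw [heq]; infer_instance
  exfalso
  set π := QuotientGroup.mk' R with hπ
  rw [Subgroup.index_eq_card] at heven
  obtain ⟨t, ht⟩ := exists_prime_orderOf_dvd_card' (G := G ⧸ R) 2 heven
  have hcore : ∀ N : Subgroup (G ⧸ R), N.Normal → IsPGroup 2 N → t ∉ N := by
    intro N hN hN2 htN
    have h1 := Cfsg.Agent.Cores.le_pCore hN hN2
    rw [Cfsg.Agent.Cores.pCore_quotient_self] at h1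
    have := Subgroup.mem_bot.1 (h1 htN)
    rw [this, orderOf_one] at ht
    omega
  obtain ⟨h, hh1, hhodd, hinv⟩ := Cfsg.Agent.Involution.exists_inverted_odd ht hcore
  -- pass to a power of odd prime order
  obtain ⟨r, hr, hrd⟩ := Nat.exists_prime_and_dvd (fun e => hh1 (orderOf_eq_one_iff.1 e))
  haveI : Fact r.Prime := ⟨hr⟩
  have hr2 : r ≠ 2 := by
    rintro rfl
    obtain ⟨m, hm⟩ := hrd
    obtain ⟨j, hj⟩ := hhodd
    omega
  set h' := h ^ (orderOf h / r) with hh'
  have hord : orderOf h' = r := orderOf_pow_orderOf_div (orderOf_pos h).ne' hrd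
  have hinv' : t * h' * t⁻¹ = h'⁻¹ := Cfsg.Agent.Involution.inverts_pow hinv _
  set L : Subgroup G := (Subgroup.zpowers h').comap π with hL
  have hLR : R ≤ L := by
    intro y hy
    show π y ∈ Subgroup.zpowers h'
    rw [show π y = 1 from (QuotientGroup.eq_one_iff y).2 hy]
    exact one_mem _
  have hmap : L.map π = Subgroup.zpowers h' := Subgroup.map_comap_eq_self_of_surjective (QuotientGroup.mk'_surjective R) _
  have hcardL : Nat.card L = r * Nat.card R := by
    rw [Cfsg.Agent.Solvable.card_eq_card_map_mul π L, hmap, Nat.card_zpowers, hord,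
      QuotientGroup.ker_mk', inf_eq_right.2 hLR]
  obtain ⟨x, hx⟩ := exists_prime_orderOf_dvd_card' (G := L) r (hcardL ▸ dvd_mul_right r _)
  have hxord : orderOf (x : G) = r := by rw [Subgroup.orderOf_coe, hx]
  obtain ⟨k, hk⟩ := IsPGroup.iff_card.1 hRp
  have hrk : ¬ r ∣ Nat.card R := by
    rw [hk]
    exact fun hd => hr2 ((Nat.prime_dvd_prime_iff_eq hr Nat.prime_two).1 (hr.dvd_of_dvd_pow hd))
  set X : Subgroup G := Subgroup.zpowers (x : G) with hX
  have hXcard : Nat.card X = r := by rw [hX, Nat.card_zpowers, hxord]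
  have hXp : IsPGroup r X := IsPGroup.of_card (n := 1) (by rw [hXcard, pow_one])
  have hXL : X ≤ L := Subgroup.zpowers_le.2 x.2
  have hrel : ∀ Y : Subgroup G, Y ≤ L → Nat.card Y = r → ¬ r ∣ Y.relIndex L := by
    intro Y hY hYc hd
    refine hrk ?_
    have e := Subgroup.card_mul_index (Y.subgroupOf L)
    rw [Nat.card_congr (Subgroup.subgroupOfEquivOfLe hY).toEquiv, hYc, hcardL] at e
    rw [Subgroup.relIndex] at hd
    rwa [← Nat.eq_of_mul_eq_mul_left hr.pos e]
  obtain ⟨u, hu⟩ := QuotientGroup.mk'_surjective R t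
  have hu_norm : ∀ y ∈ L, u * y * u⁻¹ ∈ L := by
    intro y hy
    show π (u * y * u⁻¹) ∈ Subgroup.zpowers h'
    rw [map_mul, map_mul, map_inv, hu]
    obtain ⟨i, hi⟩ := Subgroup.mem_zpowers_iff.1 hy
    rw [show π y = h' ^ i from hi.symm, Cfsg.Agent.Involution.inverts_zpow hinv' i]
    first
      | exact Subgroup.inv_mem _ (Subgroup.zpow_mem _ (Subgroup.mem_zpowers _) _)
      | exact Subgroup.zpow_mem _ (Subgroup.mem_zpowers _) _
      | exact Subgroup.zpow_mem _ (Subgroup.inv_mem _ (Subgroup.mem_zpowers _)) _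
  set Y : Subgroup G := MulAut.conj u • X with hY
  have hYL : Y ≤ L := by
    intro y hy
    rw [hY, Cfsg.Agent.Solvable.mem_conj_iff] at hy
    have := hu_norm _ (hXL hy)
    simpa [mul_assoc] using this
  have hYcard : Nat.card Y = r := by rw [hY, Cfsg.Agent.Solvable.card_conj, hXcard]
  obtain ⟨l, hl, hlY⟩ := Cfsg.Agent.Solvable.exists_conj_of_pGroup (IsPGroup.of_card (n := 1) (by rw [hYcard, pow_one]))
    hXp hYL hXL (hrel Y hYL hYcard) (hrel X hXL hXcard)
  set v : G := l * u with hv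
  have hvX : MulAut.conj v • X = X := by
    rw [hv, ← Cfsg.Agent.Solvable.conj_conj, ← hY, hlY]
  have hvN : v ∈ Subgroup.normalizer (X : Set G) := (Cfsg.Agent.Solvable.mem_normalizer_iff_conj).2 hvX
  have hvx : v * (x : G) * v⁻¹ = (x : G)⁻¹ := by
    have hin : v * (x : G) * v⁻¹ ∈ X := (Subgroup.mem_normalizer_iff.1 hvN _).1 (Subgroup.mem_zpowers _)
    have himg : π (v * (x : G) * v⁻¹) = π ((x : G)⁻¹) := by
      obtain ⟨i, hi⟩ := Subgroup.mem_zpowers_iff.1 (show π l ∈ Subgroup.zpowers h' from hl)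
      obtain ⟨j, hj⟩ := Subgroup.mem_zpowers_iff.1 (show π (x : G) ∈ Subgroup.zpowers h' from x.2)
      have hk : π (x : G) = h' ^ j := hj.symm
      rw [hv, map_mul, map_mul, map_inv, map_inv, map_mul, hu, ← hi, hk]
      calc h' ^ i * t * h' ^ j * (h' ^ i * t)⁻¹ = h' ^ i * (t * h' ^ j * t⁻¹) * (h' ^ i)⁻¹ := by group
        _ = (h' ^ j)⁻¹ := by
          rw [Cfsg.Agent.Involution.inverts_zpow hinv' j]
          group
    have hdiff : (v * (x : G) * v⁻¹)⁻¹ * (x : G)⁻¹ ∈ X ⊓ R := by
      refine ⟨X.mul_mem (X.inv_mem hin) (X.inv_mem (Subgroup.mem_zpowers _)), ?_⟩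
      exact (QuotientGroup.eq).1 himg
    have hbot : X ⊓ R = ⊥ := Cfsg.Agent.Solvable.inf_eq_bot_of_coprime
      (hXcard ▸ hr.coprime_iff_not_dvd.2 hrk)
    rw [hbot, Subgroup.mem_bot] at hdiff
    exact inv_mul_eq_one.1 hdiff
  have hXne : X ≠ ⊥ := fun e => hr.ne_one (by rw [← hXcard, e, Subgroup.card_bot])
  refine hhom X hXne (fun h2 => hr2 ?_) ?_
  · rw [hXcard] at h2
    exact ((Nat.prime_dvd_prime_iff_eq Nat.prime_two hr).1 h2).symm
  · set N : Subgroup G := Subgroup.normalizer (X : Set G) with hN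
    set C : Subgroup N := (Subgroup.centralizer (X : Set G)).subgroupOf N with hC
    haveI : C.Normal := by
      refine ⟨fun c hc g => ?_⟩
      rw [hC, Subgroup.mem_subgroupOf, Subgroup.mem_centralizer_iff] at hc ⊢
      intro y hy
      have hy' : (g : G)⁻¹ * y * g ∈ X := (Subgroup.mem_normalizer_iff''.1 g.2 y).1 hy
      have e := hc _ hy'
      show y * (g * c * (g : G)⁻¹) = g * c * (g : G)⁻¹ * y
      calc y * (g * c * (g : G)⁻¹) = g * ((g : G)⁻¹ * y * g * c) * (g : G)⁻¹ := by group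
        _ = g * (c * ((g : G)⁻¹ * y * g)) * (g : G)⁻¹ := by rw [e]
        _ = _ := by group
    have hvC : (⟨v, hvN⟩ : N) ∉ C := by
      intro hm
      have hm' := Subgroup.mem_centralizer_iff.1 (show v ∈ Subgroup.centralizer (X : Set G) from hm) x (Subgroup.mem_zpowers _)
      rw [← hm', mul_assoc, mul_inv_cancel, mul_one] at hvx
      have h2 : (x : G) ^ 2 = 1 := by
        rw [pow_two]
        nth_rewrite 1 [hvx]
        exact inv_mul_cancel _
      have := orderOf_dvd_of_pow_eq_one h2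
      rw [hxord] at this
      exact hr2 ((Nat.prime_dvd_prime_iff_eq hr Nat.prime_two).1 this)
    have hv2 : (⟨v, hvN⟩ : N) ^ 2 ∈ C := by
      show v ^ 2 ∈ Subgroup.centralizer (X : Set G)
      rw [Subgroup.mem_centralizer_iff]
      intro y hy
      obtain ⟨i, rfl⟩ := Subgroup.mem_zpowers_iff.1 hy
      have hvi := Cfsg.Agent.Involution.inverts_zpow hvx i
      have e2 : v ^ 2 * (x : G) ^ i * (v ^ 2)⁻¹ = (x : G) ^ i := by
        rw [pow_two]
        calc v * v * (x : G) ^ i * (v * v)⁻¹ = v * (v * (x : G) ^ i * v⁻¹) * v⁻¹ := by group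
          _ = (x : G) ^ i := by
            rw [hvi]
            first
              | (rw [← zpow_neg, Cfsg.Agent.Involution.inverts_zpow hvx (-i)]; group)
              | (rw [inv_zpow', Cfsg.Agent.Involution.inverts_zpow hvx (-i)]; group)
              | (rw [Cfsg.Agent.Involution.inverts_zpow hvx (-i)]; group)
      exact (mul_inv_eq_iff_eq_mul.1 e2).symm
    have hq : orderOf (QuotientGroup.mk' C (⟨v, hvN⟩ : N)) = 2 := by
      refine orderOf_eq_prime ?_ ?_
      · rw [← map_pow]; exact (QuotientGroup.eq_one_iff _).2 hv2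
      · exact fun h => hvC ((QuotientGroup.eq_one_iff _).1 h)
    have := orderOf_dvd_natCard (QuotientGroup.mk' C (⟨v, hvN⟩ : N))
    rw [hq] at this
    exact this

end Cfsg.Agent.S4049
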