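import Cfsg.Statements.S4050
import Cfsg.Agent.EqLemmas
import Cfsg.Agent.Lib.Cores.Basic
import Cfsg.Agent.Lib.Solvable.PiSeparable
import Cfsg.Agent.Lib.Coprime.Invariant
import Cfsg.Agent.Lib.Transfer.Residual

set_option autoImplicit false
open Cfsg
open scoped Pointwise

namespace Cfsg.Agent.S4050


open Cfsg.Agent.Solvable (IsPiNum IsPiSeparable)

section

variable {G : Type*} [Group G] [Finite G]

/-- An element whose prime-power parts lie in `H` lies in `H`. -/
theorem mem_of_parts {H : Subgroup G} {h : G}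
    (hp : ∀ r a : ℕ, r.Prime → r ^ a ∣ orderOf h → h ^ (orderOf h / r ^ a) ∈ H) : h ∈ H := by
  have hz : Subgroup.zpowers h ⊓ H = Subgroup.zpowers h := by
    refine Subgroup.eq_of_le_of_card_ge inf_le_left ?_
    refine Nat.le_of_dvd Nat.card_pos ((Nat.dvd_iff_prime_pow_dvd_dvd _ _).2 fun r a hr ha => ?_)
    rw [Nat.card_zpowers] at ha
    rw [← orderOf_pow_orderOf_div (orderOf_pos h).ne' ha]
    exact Subgroup.orderOf_dvd_natCard (s := Subgroup.zpowers h ⊓ H)
      (Subgroup.mem_inf.2 ⟨pow_mem (Subgroup.mem_zpowers h) _, hp r a hr ha⟩)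
  exact (inf_eq_left.1 hz) (Subgroup.mem_zpowers h)

/-- A `p`-element of a quotient lifts to a `p`-element. -/
theorem exists_lift_pElement {Q : Type*} [Group Q] (f : G →* Q) (hf : Function.Surjective f) {p : ℕ}
    [Fact p.Prime] {y : Q} {k : ℕ} (hy : orderOf y = p ^ k) : ∃ a : G, f a = y ∧ ∃ j, orderOf a = p ^ j := by
  obtain ⟨x, rfl⟩ := hf y
  obtain ⟨a, b, hab, -, hb, hak, hbp⟩ := Cfsg.Agent.Transfer.exists_pPart_mul (p := p) x
  refine ⟨a, ?_, hak⟩
  have h1 : orderOf (f b) = 1 := by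
    refine Nat.eq_one_of_dvd_coprimes (hbp.pow_right k) (orderOf_map_dvd f b) ?_
    obtain ⟨i, hi⟩ := hb
    rw [← hi, map_zpow, ← hy]
    exact orderOf_dvd_of_mem_zpowers (Subgroup.zpow_mem_zpowers _ _)
  have e : f x = f a * f b := by rw [← map_mul, ← hab]
  rw [e, orderOf_eq_one_iff.1 h1, mul_one]

variable {π : Set ℕ}

/-- Under π'-homogeneity, every element of prime power order (prime in π) centralises every normal
π'-subgroup of `G ⧸ R`, for a normal π-subgroup `R`. -/
theorem map_mem_centralizer {R : Subgroup G} [R.Normal] (hR : IsPiNum π (Nat.card R))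
    (hhom : ∀ H : Subgroup G, H ≠ ⊥ → (∀ p : ℕ, p.Prime → p ∣ Nat.card ↥H → p ∉ π) →
        ∀ p : ℕ, p.Prime → p ∣ (Subgroup.centralizer (H : Set G)).relIndex (Subgroup.normalizer (H : Set G)) → p ∉ π)
    {K : Subgroup (G ⧸ R)} [K.Normal] (hK : IsPiNum πᶜ (Nat.card K))
    {r : ℕ} [hr : Fact r.Prime] (hrπ : r ∈ π) {a : G} {k : ℕ} (ha : orderOf a = r ^ k) :
    QuotientGroup.mk' R a ∈ Subgroup.centralizer (K : Set (G ⧸ R)) := by
  set f := QuotientGroup.mk' R with hf
  set A : Subgroup (G ⧸ R) := Subgroup.zpowers (f a) with hA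
  have hAcard : Nat.card A ∣ r ^ k := by rw [hA, Nat.card_zpowers, ← ha]; exact orderOf_map_dvd f a
  have hApi : IsPiNum π (Nat.card A) := (Cfsg.Agent.Solvable.isPiNum_pow hr.out hrπ k).of_dvd hAcard
  suffices hle : K ≤ Subgroup.centralizer (A : Set (G ⧸ R)) by
    rw [Subgroup.mem_centralizer_iff]
    intro x hx
    exact (Subgroup.mem_centralizer_iff.1 (hle hx) _ (Subgroup.mem_zpowers _)).symm
  have key : K ⊓ Subgroup.centralizer (A : Set (G ⧸ R)) = K := by
    refine Subgroup.eq_of_le_of_card_ge inf_le_left ?_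
    refine Nat.le_of_dvd Nat.card_pos ((Nat.dvd_iff_prime_pow_dvd_dvd _ _).2 fun q e hq he => ?_)
    rcases Nat.eq_zero_or_pos e with rfl | he0
    · simp
    haveI : Fact q.Prime := ⟨hq⟩
    have hqπ : q ∉ π := hK q hq ((dvd_pow_self q he0.ne').trans he)
    obtain ⟨P, hP⟩ := Cfsg.Agent.Coprime.exists_invariant_sylow (A := A) (K := K)
      (le_top.trans (Subgroup.normalizer_eq_top K).ge) (hApi.coprime hK)
      (Or.inl (Group.isSolvable_of_comm fun x y => mul_comm' x y)) q
    set Q := (P : Subgroup K).map K.subtype with hQ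
    have hPcard : Nat.card Q = Nat.card (P : Subgroup K) :=
      (Nat.card_congr ((P : Subgroup K).equivMapOfInjective _ K.subtype_injective).toEquiv).symm
    refine (P.pow_dvd_card_of_pow_dvd_card he).trans (hPcard ▸ Subgroup.card_dvd_of_le ?_)
    refine le_inf (Subgroup.map_subtype_le _) ?_
    -- lift the invariant Sylow subgroup
    have hfa : f a ∈ Subgroup.normalizer (Q : Set (G ⧸ R)) := hP (Subgroup.mem_zpowers _)
    set T : Subgroup G := Q.comap f with hT
    have hRT : R ≤ T := by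
      intro x hx
      show f x ∈ Q
      rw [show f x = 1 from (QuotientGroup.eq_one_iff x).2 hx]
      exact one_mem _
    have hTmap : T.map f = Q := Subgroup.map_comap_eq_self_of_surjective (QuotientGroup.mk'_surjective R) _
    obtain ⟨S₀⟩ := (inferInstance : Nonempty (Sylow q T))
    set S : Subgroup G := (S₀ : Subgroup T).map T.subtype with hS
    have hST : S ≤ T := Subgroup.map_subtype_le _
    have hSp : IsPGroup q S := S₀.isPGroup'.map _
    have hScard : Nat.card S = Nat.card (S₀ : Subgroup T) :=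
      (Nat.card_congr ((S₀ : Subgroup T).equivMapOfInjective _ T.subtype_injective).toEquiv).symm
    have hqR : ¬ q ∣ Nat.card R := fun hd => hqπ (hR q hq hd)
    have hSR : S ⊓ R = ⊥ := by
      obtain ⟨n, hn⟩ := IsPGroup.iff_card.1 hSp
      refine Cfsg.Agent.Solvable.inf_eq_bot_of_coprime (hn ▸ ?_)
      exact (hq.coprime_iff_not_dvd.2 hqR).pow_left n
    have hTsup : S ⊔ R = T := by
      refine Subgroup.eq_of_le_of_card_ge (sup_le hST hRT) ?_
      refine Nat.le_of_dvd Nat.card_pos ?_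
      rw [Cfsg.Agent.Solvable.card_sup_of_disjoint _ _ hSR,
        Cfsg.Agent.Solvable.card_eq_card_map_mul f T, hTmap, QuotientGroup.ker_mk', inf_eq_right.2 hRT]
      refine Nat.mul_dvd_mul_right ?_ _
      obtain ⟨n, hn⟩ := IsPGroup.iff_card.1 (P.isPGroup'.map K.subtype : IsPGroup q Q)
      rw [hn, hScard]
      refine S₀.pow_dvd_card_of_pow_dvd_card ?_
      rw [Cfsg.Agent.Solvable.card_eq_card_map_mul f T, hTmap, hn]
      exact dvd_mul_right _ _
    have haT : MulAut.conj a • T = T := by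
      refine Subgroup.ext fun x => ?_
      rw [Cfsg.Agent.Solvable.mem_conj_iff]
      show f (a⁻¹ * x * a) ∈ Q ↔ f x ∈ Q
      rw [map_mul, map_mul, map_inv]
      exact (Subgroup.mem_normalizer_iff''.1 hfa (f x)).symm
    have hnd : ∀ S' : Subgroup G, S' ≤ T → Nat.card S' = Nat.card S → ¬ q ∣ S'.relIndex T := by
      intro S' hS' hc hd
      apply S₀.not_dvd_index
      have e1 := Subgroup.card_mul_index (S'.subgroupOf T)
      rw [Nat.card_congr (Subgroup.subgroupOfEquivOfLe hS').toEquiv, hc, hScard,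
        ← Subgroup.card_mul_index (S₀ : Subgroup T)] at e1
      rw [← Nat.eq_of_mul_eq_mul_left Nat.card_pos e1]
      exact hd
    have haS : MulAut.conj a • S ≤ T := haT ▸ Cfsg.Agent.Solvable.conj_mono a hST
    obtain ⟨t, ht, htS⟩ := Cfsg.Agent.Solvable.exists_conj_of_pGroup
      (P := S) (Q := MulAut.conj a • S) hSp (hSp.of_equiv (Subgroup.equivSMul (MulAut.conj a) S)) hST haS
      (hnd S hST rfl) (hnd _ haS (Cfsg.Agent.Solvable.card_conj a S))
    have ht' : t ∈ (R ⊔ S : Subgroup G) := by rw [sup_comm, hTsup]; exact ht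
    rw [Subgroup.mem_sup_of_normal_left] at ht'
    obtain ⟨ρ, hρ, s, hs, rfl⟩ := ht'
    rw [← Cfsg.Agent.Solvable.conj_conj, Cfsg.Agent.Solvable.conj_eq_self hs] at htS
    set v : G := ρ⁻¹ * a with hv
    have hvN : v ∈ Subgroup.normalizer (S : Set G) := by
      rw [Cfsg.Agent.Solvable.mem_normalizer_iff_conj, hv, ← Cfsg.Agent.Solvable.conj_conj, ← htS,
        Cfsg.Agent.Solvable.conj_inv_smul]
    have hvpi : IsPiNum π (orderOf v) := by
      refine IsPiNum.of_dvd (n := Nat.card (Subgroup.zpowers a ⊔ R : Subgroup G)) ?_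
        (Subgroup.orderOf_dvd_natCard _ (mul_mem (inv_mem (le_sup_right (a := Subgroup.zpowers a) hρ))
          (le_sup_left (b := R) (Subgroup.mem_zpowers a))))
      refine IsPiNum.of_dvd (IsPiNum.mul ?_ hR) (Cfsg.Agent.Solvable.card_sup_dvd _ R)
      rw [Nat.card_zpowers, ha]
      exact Cfsg.Agent.Solvable.isPiNum_pow hr.out hrπ k
    have hfv : f v = f a := by
      rw [hv, map_mul, map_inv, show f ρ = 1 from (QuotientGroup.eq_one_iff ρ).2 hρ, inv_one, one_mul]
    have hSne : S ≠ ⊥ := by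
      intro e1
      have h2 : q ∣ Nat.card (S₀ : Subgroup T) := by
        refine (dvd_pow_self q he0.ne').trans ((S₀.pow_dvd_card_of_pow_dvd_card ?_))
        rw [Cfsg.Agent.Solvable.card_eq_card_map_mul f T, hTmap, hPcard]
        exact (P.pow_dvd_card_of_pow_dvd_card he).mul_right _
      rw [← hScard, e1, Subgroup.card_bot] at h2
      exact hq.not_dvd_one h2
    have hvC : v ∈ Subgroup.centralizer (S : Set G) := by
      set N : Subgroup G := Subgroup.normalizer (S : Set G)
      set C : Subgroup N := (Subgroup.centralizer (S : Set G)).subgroupOf N with hC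
      haveI : C.Normal := by
        refine ⟨fun c hc g => ?_⟩
        rw [hC, Subgroup.mem_subgroupOf, Subgroup.mem_centralizer_iff] at hc ⊢
        intro y hy
        have hy' : (g : G)⁻¹ * y * g ∈ S := (Subgroup.mem_normalizer_iff''.1 g.2 y).1 hy
        have e := hc _ hy'
        show y * (g * c * (g : G)⁻¹) = g * c * (g : G)⁻¹ * y
        calc y * (g * c * (g : G)⁻¹) = g * ((g : G)⁻¹ * y * g * c) * (g : G)⁻¹ := by group
          _ = g * (c * ((g : G)⁻¹ * y * g)) * (g : G)⁻¹ := by rw [e]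
          _ = _ := by group
      have hSpi : ∀ p : ℕ, p.Prime → p ∣ Nat.card S → p ∉ π := by
        intro p hp hd
        obtain ⟨n, hn⟩ := IsPGroup.iff_card.1 hSp
        rw [hn] at hd
        rwa [(Nat.prime_dvd_prime_iff_eq hp hq).1 (hp.dvd_of_dvd_pow hd)]
      have h1 : orderOf (QuotientGroup.mk' C (⟨v, hvN⟩ : N)) = 1 := by
        refine Nat.eq_one_of_dvd_coprimes (k := orderOf (QuotientGroup.mk' C (⟨v, hvN⟩ : N)))
          (IsPiNum.coprime (π := π) (m := orderOf v) (n := C.index) hvpi (hhom S hSne hSpi)) ?_ ?_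
        · exact (orderOf_map_dvd _ _).trans (by rw [Subgroup.orderOf_mk])
        · rw [Subgroup.index_eq_card]; exact orderOf_dvd_natCard _
      exact ((QuotientGroup.eq_one_iff (N := C) (⟨v, hvN⟩ : N)).1 (orderOf_eq_one_iff.1 h1) :)
    intro y hy
    rw [← hTmap, ← hTsup] at hy
    obtain ⟨x, hx, rfl⟩ := hy
    have hx' : x ∈ (S ⊔ R : Subgroup G) := hx
    rw [Subgroup.mem_sup_of_normal_right] at hx'
    obtain ⟨s', hs', ρ', hρ', rfl⟩ := hx'
    rw [map_mul, show f ρ' = 1 from (QuotientGroup.eq_one_iff ρ').2 hρ', mul_one,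
      Subgroup.mem_centralizer_iff]
    rintro z ⟨i, rfl⟩
    refine (Commute.zpow_left ?_ i).eq
    rw [← hfv]
    exact (Commute.map (Subgroup.mem_centralizer_iff.1 hvC s' hs' : Commute s' v) f).symm
  exact inf_eq_left.1 key

/-- π-separable and π'-homogeneous implies π-closed. -/
theorem mem_piCore (hsep : IsPiSeparable π G)
    (hhom : ∀ H : Subgroup G, H ≠ ⊥ → (∀ p : ℕ, p.Prime → p ∣ Nat.card ↥H → p ∉ π) →
        ∀ p : ℕ, p.Prime → p ∣ (Subgroup.centralizer (H : Set G)).relIndex (Subgroup.normalizer (H : Set G)) → p ∉ π)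
    {x : G} (hx : IsPiNum π (orderOf x)) : x ∈ Cfsg.piCore π G := by
  set R := Cfsg.piCore π G with hRdef
  have hR : IsPiNum π (Nat.card R) := fun q hq hd => Cfsg.Agent.Cores.card_piCore π hq hd
  set f := QuotientGroup.mk' R with hf
  set K := Cfsg.piCore πᶜ (G ⧸ R) with hKdef
  have hK : IsPiNum πᶜ (Nat.card K) := fun q hq hd => Cfsg.Agent.Cores.card_piCore πᶜ hq hd
  by_cases hKtop : K = ⊤
  · rw [← QuotientGroup.eq_one_iff (N := R), ← orderOf_eq_one_iff]
    refine (IsPiNum.of_dvd hx (orderOf_map_dvd f x)).eq_one ?_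
    refine hK.of_dvd ?_
    exact Subgroup.orderOf_dvd_natCard K (hKtop ▸ Subgroup.mem_top (f x))
  exfalso
  obtain ⟨M, hMn, hlt, hidx⟩ := (hsep.quotient R) K inferInstance hKtop
  have hidx' : IsPiNum π (K.relIndex M) := by
    rcases hidx with h | h
    · exact h
    · exfalso
      refine hlt.not_ge (Cfsg.Agent.Cores.le_piCore hMn ?_)
      have e := Subgroup.card_mul_index (K.subgroupOf M)
      rw [Nat.card_congr (Subgroup.subgroupOfEquivOfLe hlt.le).toEquiv] at e
      intro q hq hd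
      rw [← e] at hd
      exact (hK.mul h) q hq hd
  -- every π-element of the quotient centralises K
  have hcent : ∀ y : G ⧸ R, IsPiNum π (orderOf y) → y ∈ Subgroup.centralizer (K : Set (G ⧸ R)) := by
    intro y hy
    refine mem_of_parts fun r e hr he => ?_
    rcases Nat.eq_zero_or_pos e with rfl | he0
    · simp
    haveI : Fact r.Prime := ⟨hr⟩
    obtain ⟨a, hfa, j, hj⟩ := exists_lift_pElement f (QuotientGroup.mk'_surjective R)
      (orderOf_pow_orderOf_div (orderOf_pos y).ne' he)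
    rw [← hfa]
    exact map_mem_centralizer hR hhom hK (hy r hr ((dvd_pow_self r he0.ne').trans he)) hj
  set C := Subgroup.centralizer (K : Set (G ⧸ R)) with hC
  haveI : C.Normal := inferInstance
  set W : Subgroup (G ⧸ R) := M ⊓ C with hW
  haveI : W.Normal := Subgroup.normal_inf_normal _ _
  set Z : Subgroup W := K.subgroupOf W with hZ
  have hZpi : IsPiNum πᶜ (Nat.card Z) := by
    refine hK.of_dvd ?_
    rw [hZ, ← Subgroup.inf_subgroupOf_right, Nat.card_congr (Subgroup.subgroupOfEquivOfLe inf_le_right).toEquiv]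
    exact Subgroup.card_dvd_of_le inf_le_left
  have hZidx : IsPiNum π Z.index :=
    hidx'.of_dvd (Cfsg.Agent.Solvable.relIndex_dvd_relIndex_of_normal (N := K) inf_le_left)
  obtain ⟨H, hH⟩ := Subgroup.exists_right_complement'_of_coprime (N := Z) (hZidx.coprime hZpi).symm
  have hHpi : IsPiNum π (Nat.card H) := hH.symm.index_eq_card ▸ hZidx
  have hZcomm : ∀ z ∈ Z, ∀ w : W, z * w = w * z := by
    intro z hz w
    exact Subtype.ext (Subgroup.mem_centralizer_iff.1 w.2.2 _ hz)
  haveI : H.Normal := by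
    refine ⟨fun h hh g => ?_⟩
    obtain ⟨⟨⟨z, hz⟩, ⟨u, hu⟩⟩, hg, -⟩ := hH.existsUnique g
    obtain rfl : z * u = g := hg
    have : z * u * h * (z * u)⁻¹ = u * h * u⁻¹ := by
      calc z * u * h * (z * u)⁻¹ = z * (u * h * u⁻¹) * z⁻¹ := by group
        _ = u * h * u⁻¹ * z * z⁻¹ := by rw [hZcomm z hz (u * h * u⁻¹)]
        _ = _ := by group
    rw [this]
    exact mul_mem (mul_mem hu hh) (inv_mem hu)
  have hHall : ∀ w : W, IsPiNum π (orderOf w) → w ∈ H := by
    intro w hw
    rw [← QuotientGroup.eq_one_iff (N := H), ← orderOf_eq_one_iff]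
    refine (hw.of_dvd (orderOf_map_dvd (QuotientGroup.mk' H) w)).eq_one ?_
    refine hZpi.of_dvd ?_
    rw [← hH.index_eq_card, Subgroup.index_eq_card]
    exact orderOf_dvd_natCard _
  set L : Subgroup (G ⧸ R) := H.map W.subtype with hL
  have hLn : L.Normal := by
    refine ⟨fun y hy g => ?_⟩
    obtain ⟨w, hw, rfl⟩ := hy
    refine ⟨⟨g * (w : G ⧸ R) * g⁻¹, (inferInstance : W.Normal).conj_mem _ w.2 g⟩, hHall _ ?_, rfl⟩
    rw [Subgroup.orderOf_mk, orderOf_conj', Subgroup.orderOf_coe]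
    exact hHpi.of_dvd (Subgroup.orderOf_dvd_natCard _ hw)
  have hLle : L ≤ Cfsg.piCore π (G ⧸ R) := Cfsg.Agent.Cores.le_piCore hLn fun q hq hd =>
    hHpi q hq (by rwa [Nat.card_congr (H.equivMapOfInjective _ W.subtype_injective).toEquiv])
  have hbot : Cfsg.piCore π (G ⧸ R) = ⊥ := Cfsg.Agent.Cores.piCore_quotient_self π
  rw [hbot, le_bot_iff] at hLle
  -- a prime order element of M outside K
  obtain ⟨r, hr, hrd⟩ := Nat.exists_prime_and_dvd (fun e => hlt.not_ge (Subgroup.relIndex_eq_one.1 e))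
  haveI : Fact r.Prime := ⟨hr⟩
  obtain ⟨⟨y, hyM⟩, hy⟩ := exists_prime_orderOf_dvd_card' (G := M) r (hrd.trans (by
    rw [Subgroup.relIndex]; exact Subgroup.index_dvd_card _))
  rw [Subgroup.orderOf_mk] at hy
  have hyπ : IsPiNum π (orderOf y) := by
    rw [hy, ← pow_one r]
    exact Cfsg.Agent.Solvable.isPiNum_pow hr (hidx' r hr hrd) 1
  have hyW : y ∈ W := ⟨hyM, hcent y hyπ⟩
  have hyL : y ∈ L := ⟨⟨y, hyW⟩, hHall _ (by rwa [Subgroup.orderOf_mk]), rfl⟩
  rw [hLle, Subgroup.mem_bot] at hyL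
  rw [hyL, orderOf_one] at hy
  exact hr.ne_one hy.symm
  where
  orderOf_conj' {Q : Type _} [Group Q] (g x : Q) : orderOf (g * x * g⁻¹) = orderOf x :=
    orderOf_injective (MulAut.conj g).toMonoidHom (MulAut.conj g).injective x

/-- π-closed implies π'-homogeneous. -/
theorem homogeneous_of_closed {K : Subgroup G}
    (hK : ∀ x : G, x ∈ K ↔ ∀ p : ℕ, p.Prime → p ∣ orderOf x → p ∈ π)
    (H : Subgroup G) (hHπ : ∀ p : ℕ, p.Prime → p ∣ Nat.card ↥H → p ∉ π) :
    ∀ p : ℕ, p.Prime → p ∣ (Subgroup.centralizer (H : Set G)).relIndex (Subgroup.normalizer (H : Set G)) → p ∉ π := by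
  intro p hp hd hpπ
  haveI : Fact p.Prime := ⟨hp⟩
  set N : Subgroup G := Subgroup.normalizer (H : Set G)
  set C : Subgroup N := (Subgroup.centralizer (H : Set G)).subgroupOf N with hC
  haveI : C.Normal := by
    refine ⟨fun c hc g => ?_⟩
    rw [hC, Subgroup.mem_subgroupOf, Subgroup.mem_centralizer_iff] at hc ⊢
    intro y hy
    have hy' : (g : G)⁻¹ * y * g ∈ H := (Subgroup.mem_normalizer_iff''.1 g.2 y).1 hy
    have e := hc _ hy'
    show y * (g * c * (g : G)⁻¹) = g * c * (g : G)⁻¹ * y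
    calc y * (g * c * (g : G)⁻¹) = g * ((g : G)⁻¹ * y * g * c) * (g : G)⁻¹ := by group
      _ = g * (c * ((g : G)⁻¹ * y * g)) * (g : G)⁻¹ := by rw [e]
      _ = _ := by group
  rw [Subgroup.relIndex, Subgroup.index_eq_card] at hd
  obtain ⟨z, hz⟩ := exists_prime_orderOf_dvd_card' p hd
  obtain ⟨a, ha, j, hj⟩ := exists_lift_pElement (QuotientGroup.mk' C) (QuotientGroup.mk'_surjective C)
    (show orderOf z = p ^ 1 by rw [hz, pow_one])
  have haK : (a : G) ∈ K := (hK _).2 fun q hq hqd => by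
    rw [Subgroup.orderOf_coe, hj] at hqd
    rwa [(Nat.prime_dvd_prime_iff_eq hq hp).1 (hq.dvd_of_dvd_pow hqd)]
  have haC : a ∈ C := by
    rw [hC, Subgroup.mem_subgroupOf, Subgroup.mem_centralizer_iff]
    intro h hh
    have h1 : (a : G) * h * (a : G)⁻¹ * h⁻¹ ∈ H :=
      H.mul_mem ((Subgroup.mem_normalizer_iff.1 a.2 h).1 hh) (H.inv_mem hh)
    have h2 : (a : G) * h * (a : G)⁻¹ * h⁻¹ ∈ K := by
      have hconj : h * (a : G)⁻¹ * h⁻¹ ∈ K := (hK _).2 fun q hq hqd => by
        refine (hK _).1 (K.inv_mem haK) q hq ?_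
        rwa [show h * (a : G)⁻¹ * h⁻¹ = MulAut.conj h ((a : G)⁻¹) from rfl,
          MulEquiv.orderOf_eq] at hqd
      simpa [mul_assoc] using K.mul_mem haK hconj
    have h3 : orderOf ((a : G) * h * (a : G)⁻¹ * h⁻¹) = 1 :=
      IsPiNum.eq_one (π := π) (fun q hq hqd => (hK _).1 h2 q hq hqd)
        (fun q hq hqd => hHπ q hq (hqd.trans (Subgroup.orderOf_dvd_natCard H h1)))
    have h4 := orderOf_eq_one_iff.1 h3
    exact (mul_inv_eq_iff_eq_mul.1 (mul_inv_eq_one.1 h4)).symm
  rw [show z = 1 from ha ▸ (QuotientGroup.eq_one_iff a).2 haC, orderOf_one] at hz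
  exact hp.ne_one hz.symm

end

/-- Let π be a set of primes and G a finite group. The π-elements of G (elements whose order is divisible only by primes of π) form a subgroup if and only if G is π-separable (it has a chain of normal subgroups from 1 to G with each successive index divisible only by primes in π or only by primes outside π) and N_G(H)/C_G(H) is a π'-group for every nontrivial π'-subgroup H of G. -/
theorem result {G : Type*} [Group G] [Finite G] (π : Set ℕ)
    (hπ : ∀ p ∈ π, p.Prime) :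
    (∃ K : Subgroup G, ∀ x : G, x ∈ K ↔ ∀ p : ℕ, p.Prime → p ∣ orderOf x → p ∈ π) ↔
    ((∃ (n : ℕ) (H : Fin (n + 1) → Subgroup G), H 0 = ⊥ ∧ H (Fin.last n) = ⊤ ∧ Monotone H ∧ (∀ i, (H i).Normal) ∧
      ∀ i : Fin n, (∀ q : ℕ, q.Prime → q ∣ (H i.castSucc).relIndex (H i.succ) → q ∈ π) ∨
        (∀ q : ℕ, q.Prime → q ∣ (H i.castSucc).relIndex (H i.succ) → q ∉ π)) ∧
     (∀ H : Subgroup G, H ≠ ⊥ → (∀ p : ℕ, p.Prime → p ∣ Nat.card ↥H → p ∉ π) →
        ∀ p : ℕ, p.Prime → p ∣ (Subgroup.centralizer (H : Set G)).relIndex (Subgroup.normalizer (H : Set G)) → p ∉ π)) := by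
  constructor
  · rintro ⟨K, hK⟩
    refine ⟨?_, fun H _ hH => homogeneous_of_closed hK H hH⟩
    have hKn : K.Normal := ⟨fun x hx g => (hK _).2 fun p hp hd => (hK x).1 hx p hp (by
      rwa [show g * x * g⁻¹ = MulAut.conj g x from rfl,
        MulEquiv.orderOf_eq] at hd)⟩
    refine ⟨2, ![⊥, K, ⊤], rfl, rfl, ?_, ?_, ?_⟩
    · rw [Fin.monotone_iff_le_succ]
      intro i
      fin_cases i <;> simp
    · intro i
      fin_cases i <;> simp <;> infer_instance
    · intro i
      fin_cases i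
      · refine Or.inl fun q hq hd => ?_
        have hd' : q ∣ Nat.card K := by simpa using hd
        haveI : Fact q.Prime := ⟨hq⟩
        obtain ⟨y, hy⟩ := exists_prime_orderOf_dvd_card' (G := K) q hd'
        exact (hK _).1 y.2 q hq (by rw [Subgroup.orderOf_coe, hy])
      · refine Or.inr fun q hq hd hqπ => ?_
        have hd' : q ∣ K.index := by simpa using hd
        haveI : Fact q.Prime := ⟨hq⟩
        obtain ⟨P⟩ := (inferInstance : Nonempty (Sylow q G))
        have hle : (P : Subgroup G) ≤ K := fun y hy => (hK y).2 fun r hr hrd => by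
          obtain ⟨j, hj⟩ := IsPGroup.iff_orderOf.1 P.isPGroup' ⟨y, hy⟩
          rw [Subgroup.orderOf_mk] at hj
          rw [hj] at hrd
          rwa [(Nat.prime_dvd_prime_iff_eq hr hq).1 (hr.dvd_of_dvd_pow hrd)]
        exact P.not_dvd_index (hd'.trans (Subgroup.index_dvd_of_le hle))
  · rintro ⟨⟨n, H, h0, hn, -, hnorm, hfac⟩, hhom⟩
    have hsep : Cfsg.Agent.Solvable.IsPiSeparable π G :=
      Cfsg.Agent.Solvable.isPiSeparable_of_chain H h0 hn hnorm fun i => (hfac i)
    exact ⟨Cfsg.piCore π G, fun x => ⟨fun hx q hq hd => Cfsg.Agent.Cores.card_piCore π hq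
      (hd.trans (Subgroup.orderOf_dvd_natCard _ hx)), fun hx => mem_piCore hsep hhom hx⟩⟩

end Cfsg.Agent.S4050
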