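import Cfsg.Statements.S4051
import Cfsg.Agent.EqLemmas
import Cfsg.Agent.S4050

set_option autoImplicit false
open Cfsg

namespace Cfsg.Agent.S4051


/-- A subgroup consisting of the π-elements is characteristic, a π-group, of π'-index. -/
theorem closed_props {G : Type*} [Group G] [Finite G] {π : Set ℕ} {K : Subgroup G}
    (hK : ∀ x : G, x ∈ K ↔ ∀ p : ℕ, p.Prime → p ∣ orderOf x → p ∈ π) :
    K.Characteristic ∧ (∀ q : ℕ, q.Prime → q ∣ Nat.card K → q ∈ π) ∧ ∀ q : ℕ, q.Prime → q ∣ K.index → q ∉ π := by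
  refine ⟨?_, ?_, ?_⟩
  · refine Subgroup.characteristic_iff_comap_eq.2 fun e => Subgroup.ext fun x => ?_
    rw [Subgroup.mem_comap, hK, hK]
    simp [MulEquiv.orderOf_eq]
  · intro q hq hd
    haveI : Fact q.Prime := ⟨hq⟩
    obtain ⟨y, hy⟩ := exists_prime_orderOf_dvd_card' (G := K) q hd
    exact (hK _).1 y.2 q hq (by rw [Subgroup.orderOf_coe, hy])
  · intro q hq hd hqπ
    haveI : Fact q.Prime := ⟨hq⟩
    obtain ⟨P⟩ := (inferInstance : Nonempty (Sylow q G))
    have hle : (P : Subgroup G) ≤ K := fun y hy => (hK y).2 fun r hr hrd => by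
      obtain ⟨j, hj⟩ := IsPGroup.iff_orderOf.1 P.isPGroup' ⟨y, hy⟩
      rw [Subgroup.orderOf_mk] at hj
      rw [hj] at hrd
      rwa [(Nat.prime_dvd_prime_iff_eq hr hq).1 (hr.dvd_of_dvd_pow hrd)]
    exact P.not_dvd_index (hd.trans (Subgroup.index_dvd_of_le hle))

/-- Let π be a set of primes and G a finite group such that N_G(H)/C_G(H) is a π'-group for every nontrivial π'-subgroup H of G. If K is a normal subgroup of G such that the π-elements of K form a subgroup and the π-elements of G/K form a subgroup, then the π-elements of G form a subgroup. -/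
theorem result {G : Type*} [Group G] [Finite G] (π : Set ℕ)
    (hπ : ∀ p ∈ π, p.Prime) (hhom : (∀ H : Subgroup G, H ≠ ⊥ → (∀ p : ℕ, p.Prime → p ∣ Nat.card ↥H → p ∉ π) →
        ∀ p : ℕ, p.Prime → p ∣ (Subgroup.centralizer (H : Set G)).relIndex (Subgroup.normalizer (H : Set G)) → p ∉ π))
    (K : Subgroup G) [K.Normal]
    (hK : ∃ L : Subgroup ↥K, ∀ x : ↥K, x ∈ L ↔ ∀ p : ℕ, p.Prime → p ∣ orderOf x → p ∈ π)
    (hQ : ∃ L : Subgroup (G ⧸ K), ∀ x : G ⧸ K, x ∈ L ↔ ∀ p : ℕ, p.Prime → p ∣ orderOf x → p ∈ π) :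
    (∃ K : Subgroup G, ∀ x : G, x ∈ K ↔ ∀ p : ℕ, p.Prime → p ∣ orderOf x → p ∈ π) := by
  obtain ⟨L, hL⟩ := hK
  obtain ⟨L₂, hL₂⟩ := hQ
  obtain ⟨hLc, hL1, hL2⟩ := closed_props hL
  obtain ⟨hL₂c, hL₂1, hL₂2⟩ := closed_props hL₂
  haveI := hLc
  haveI := hL₂c
  set L₁ : Subgroup G := L.map K.subtype with hL₁
  haveI hL₁n : L₁.Normal := by
    haveI : K.Normal := inferInstance
    exact ConjAct.normal_of_characteristic_of_normal
  set M : Subgroup G := L₂.comap (QuotientGroup.mk' K) with hM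
  have hKM : K ≤ M := by
    intro x hx
    show QuotientGroup.mk' K x ∈ L₂
    rw [show QuotientGroup.mk' K x = 1 from (QuotientGroup.eq_one_iff x).2 hx]
    exact one_mem _
  have hLK : L₁ ≤ K := Subgroup.map_subtype_le _
  refine (Cfsg.Agent.S4050.result π hπ).2 ⟨⟨4, ![⊥, L₁, K, M, ⊤], rfl, rfl, ?_, ?_, ?_⟩, hhom⟩
  · rw [Fin.monotone_iff_le_succ]
    intro i
    fin_cases i <;> simp [hLK, hKM]
  · intro i
    fin_cases i <;> simp <;> infer_instance
  · intro i
    fin_cases i
    · refine Or.inl fun q hq hd => hL1 q hq ?_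
      have hd' : q ∣ Nat.card L₁ := by simpa using hd
      rwa [hL₁, Nat.card_congr (L.equivMapOfInjective _ K.subtype_injective).toEquiv.symm] at hd'
    · refine Or.inr fun q hq hd => hL2 q hq ?_
      have hd' : q ∣ L₁.relIndex K := by simpa using hd
      rwa [Subgroup.relIndex, hL₁, Subgroup.subgroupOf, Subgroup.comap_map_eq_self_of_injective K.subtype_injective] at hd'
    · refine Or.inl fun q hq hd => hL₂1 q hq ?_
      have hd' : q ∣ K.relIndex M := by simpa using hd
      have e := Subgroup.relIndex_ker (QuotientGroup.mk' K) (K := M)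
      rw [QuotientGroup.ker_mk', hM, Subgroup.map_comap_eq_self_of_surjective (QuotientGroup.mk'_surjective K), ← hM] at e
      rw [← e]
      exact hd'
    · refine Or.inr fun q hq hd => hL₂2 q hq ?_
      have hd' : q ∣ M.index := by simpa using hd
      rwa [hM, Subgroup.index_comap_of_surjective _ (QuotientGroup.mk'_surjective K)] at hd'

end Cfsg.Agent.S4051
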