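import Cfsg.Statements.S4056
import Cfsg.Agent.EqLemmas
import Cfsg.Agent.Lib.PRankBound.Basic

set_option autoImplicit false
open Cfsg

open scoped commutatorElement

namespace Cfsg.Agent.S4056

/-- In a finite 2-group of nilpotency class at most 2 and exponent dividing 4, the Frattini subgroup lies in the centre and is elementary abelian. -/
theorem result {P : Type*} [Group P] [Finite P] (hP : IsPGroup 2 P)
    (hcl : Group.nilpotencyClass P ≤ 2) (hexp : Monoid.exponent P ∣ 4) :
    frattini P ≤ Subgroup.center P ∧ Cfsg.IsElementaryAbelian 2 (frattini P) := by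
  haveI := Fact.mk Nat.prime_two
  haveI := hP.isNilpotent
  have hcc := Cfsg.Agent.PRankBound.commutator_le_center_of_class_le_two (G := P) hcl
  have hcen : ∀ x y z : P, z * ⁅y, x⁆ = ⁅y, x⁆ * z := fun x y z =>
    Subgroup.mem_center_iff.1 (hcc (Subgroup.commutator_mem_commutator (Subgroup.mem_top y) (Subgroup.mem_top x))) z
  have h4 : ∀ x : P, x ^ 4 = 1 := fun x => orderOf_dvd_iff_pow_eq_one.1 ((Monoid.order_dvd_exponent x).trans hexp)
  have hkey : ∀ x y : P, ⁅y, x⁆ ^ 2 = 1 ∧ y ^ 2 * x = x * y ^ 2 := by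
    intro x y
    set c := ⁅y, x⁆ with hc
    have hyx : y * x = c * (x * y) := by rw [hc, commutatorElement_def]; group
    have hy2 : y ^ 2 * x = c ^ 2 * (x * y ^ 2) := by
      calc y ^ 2 * x = y * (y * x) := by rw [pow_two, mul_assoc]
        _ = y * c * (x * y) := by rw [hyx, mul_assoc]
        _ = c * (y * x) * y := by rw [hcen x y y]; simp only [mul_assoc]; rfl
        _ = c ^ 2 * (x * y ^ 2) := by rw [hyx]; simp only [pow_two, mul_assoc]
    have hc4 : c ^ 4 = 1 := h4 c
    have hc2c : ∀ z : P, z * c ^ 2 = c ^ 2 * z := fun z => by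
      have h1 : z * c = c * z := hcen x y z
      rw [pow_two, ← mul_assoc, h1, mul_assoc, h1, ← mul_assoc]
    have hy22 : y ^ 2 * x ^ 2 = x ^ 2 * y ^ 2 := by
      calc y ^ 2 * x ^ 2 = y ^ 2 * x * x := by rw [pow_two x, mul_assoc]
        _ = c ^ 2 * (x * y ^ 2) * x := by rw [hy2]
        _ = c ^ 2 * x * (y ^ 2 * x) := by simp only [mul_assoc]
        _ = c ^ 2 * (x * c ^ 2) * (x * y ^ 2) := by rw [hy2]; simp only [mul_assoc]
        _ = c ^ 4 * (x ^ 2 * y ^ 2) := by
          rw [hc2c x, show c ^ 4 = c ^ 2 * c ^ 2 by rw [← pow_add]]; simp only [pow_two x, mul_assoc]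
        _ = _ := by rw [hc4, one_mul]
    have hxy : (x * y) ^ 2 = c * (x ^ 2 * y ^ 2) := by
      calc (x * y) ^ 2 = x * (y * x) * y := by simp only [pow_two, mul_assoc]
        _ = x * c * (x * y * y) := by rw [hyx]; simp only [mul_assoc]
        _ = c * (x ^ 2 * y ^ 2) := by rw [hcen x y x]; simp only [pow_two, mul_assoc]; rfl
    have hcomm : Commute c (x ^ 2 * y ^ 2) := (hcen x y _).symm
    have hcomm2 : Commute (x ^ 2) (y ^ 2) := hy22.symm
    have hc21 : c ^ 2 = 1 := by
      have h1 : ((x * y) ^ 2) ^ 2 = 1 := by rw [← pow_mul]; exact h4 _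
      rw [hxy, hcomm.mul_pow, hcomm2.mul_pow, ← pow_mul, ← pow_mul, h4, h4, one_mul, mul_one] at h1
      exact h1
    exact ⟨hc21, by rw [hy2, hc21, one_mul]⟩
  let N : Subgroup P :=
    { carrier := {a | a ∈ Subgroup.center P ∧ a ^ 2 = 1}
      one_mem' := ⟨Subgroup.one_mem _, one_pow _⟩
      mul_mem' := fun {a b} ha hb => ⟨Subgroup.mul_mem _ ha.1 hb.1, by
        rw [Commute.mul_pow (Subgroup.mem_center_iff.1 hb.1 a), ha.2, hb.2, one_mul]⟩
      inv_mem' := fun {a} ha => ⟨Subgroup.inv_mem _ ha.1, by rw [inv_pow, ha.2, inv_one]⟩ }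
  have hNc : N ≤ Subgroup.center P := fun a ha => ha.1
  haveI : N.Normal := ⟨fun n hn g => by
    rwa [(Subgroup.mem_center_iff.1 (hNc hn) g), mul_inv_cancel_right]⟩
  have hle : frattini P ≤ N := by
    refine Cfsg.Agent.PGroup.frattini_le_of_quotient_elementary (p := 2) ?_ fun x => ⟨?_, ?_⟩
    · rw [_root_.commutator_def, Subgroup.commutator_le]
      exact fun y _ x _ => ⟨hcc (Subgroup.commutator_mem_commutator (Subgroup.mem_top y) (Subgroup.mem_top x)), (hkey x y).1⟩
    · exact Subgroup.mem_center_iff.2 fun z => (hkey z x).2.symm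
    · rw [← pow_mul]; exact h4 x
  exact ⟨hle.trans hNc, ⟨⟨fun a b => Subtype.ext (Subgroup.mem_center_iff.1 (hNc (hle b.2)) a)⟩⟩, fun a ha => (hle ha).2⟩

end Cfsg.Agent.S4056
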