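import Cfsg.Statements.S4057
import Cfsg.Agent.EqLemmas
import Cfsg.Agent.Lib.SubgroupRank.PCentral
import Cfsg.Agent.Lib.SubgroupRank.Triangle
import Cfsg.Agent.Lib.SubgroupRank.Flag
import Cfsg.Agent.Lib.Cores.Frattini

set_option autoImplicit false
open Cfsg

namespace Cfsg.Agent.S4057

/-- Let p be an odd prime and P a finite p-group in which every normal abelian subgroup can be generated by k elements. Then every subgroup of P can be generated by at most ⌊k(k+4)/4⌋ elements. -/
theorem result {P : Type*} [Group P] [Finite P] {p : ℕ} [Fact p.Prime]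
    (hp : p ≠ 2) (hP : IsPGroup p P) (k : ℕ)
    (hab : ∀ A : Subgroup P, A.Normal → IsMulCommutative A → ∃ S : Finset P, S.card ≤ k ∧ Subgroup.closure (S : Set P) = A) :
    ∀ H : Subgroup P, ∃ S : Finset P, S.card ≤ k * (k + 4) / 4 ∧ Subgroup.closure (S : Set P) = H := by
  classical
  have hpp : p.Prime := Fact.out
  intro H
  obtain ⟨A, -, hAn, hAc, hAe, hmax⟩ := PGroup.exists_maximal_normal_elementary (p := p)
    (⊥ : Subgroup P) inferInstance (fun a ha b hb => by simp_all) (fun a ha => by simp_all)
  haveI := hAn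
  have hAcomm : IsMulCommutative A := ⟨⟨fun x y => Subtype.ext (hAc x x.2 y y.2)⟩⟩
  obtain ⟨a, ha⟩ := PGroup.exists_subgroup_card_eq_pow hP A
  have hak : a ≤ k := by
    obtain ⟨S, hS, hcl⟩ := hab A hAn hAcomm
    have hSA : ∀ s ∈ S, s ∈ A := fun s hs => hcl ▸ Subgroup.subset_closure hs
    let S' : Finset A := S.attach.image fun s => ⟨s.1, hSA s.1 s.2⟩
    have htop : Subgroup.closure (S' : Set A) = ⊤ := by
      apply Subgroup.map_injective A.subtype_injective
      rw [MonoidHom.map_closure, ← MonoidHom.range_eq_map, Subgroup.range_subtype]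
      refine Eq.trans ?_ hcl
      congr 1
      ext x
      simp [S']
      exact hSA x
    have h := SubgroupRank.card_closure_le (p := p) (fun u v => hAcomm.is_comm.comm u v)
      (fun u => Subtype.ext (hAe u u.2)) S'
    rw [htop, Subgroup.card_top, ha] at h
    exact ((Nat.pow_le_pow_iff_right hpp.one_lt).mp h).trans
      ((Finset.card_image_le.trans (Finset.card_attach (s := S)).le).trans hS)
  obtain ⟨ρ, hρ, hρker⟩ := SubgroupRank.exists_flag_rep hP hAn hAc hAe ha
  let ρH : H →* Matrix (Fin a) (Fin a) (ZMod p) := ρ.comp H.subtype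
  have hHp : IsPGroup p H := hP.to_subgroup H
  have h1 := SubgroupRank.index_ker_sup_frattini_le hHp ρH fun h i j => hρ h i j
  set D := ρH.ker with hD
  have hinA : ∀ g : D, g ^ p = 1 → ((g : H) : P) ∈ A := fun g hg =>
    PGroup.mem_of_maximal_normal_elementary hP hp hAc hAe hmax (hρker _ g.2)
      (congrArg (fun u : D => ((u : H) : P)) hg)
  have h2 : (frattini D).index ≤ p ^ a := by
    refine (SubgroupRank.index_frattini_le_card hp (hHp.to_subgroup D) fun g hg => ?_).trans ?_
    · rw [Subgroup.mem_center_iff]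
      intro u
      have h := Subgroup.mem_centralizer_iff.mp (hρker _ u.2) _ (hinA g hg)
      exact Subtype.ext (Subtype.ext h.symm)
    · rw [← ha]
      exact Nat.card_le_card_of_injective (fun g : {g : D // g ^ p = 1} => (⟨_, hinA g.1 g.2⟩ : A))
        fun u v h => Subtype.ext (Subtype.ext (Subtype.ext (congrArg (fun z : A => (z : P)) h)))
  have h3 : (frattini H).index ≤ p ^ (a + a ^ 2 / 4) := by
    have hmap : (frattini D).map D.subtype ≤ frattini H := Cores.frattini_map_subtype_le D
    have h4 : (frattini H).relIndex D ≤ (frattini D).index := by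
      refine Nat.le_of_dvd (Nat.pos_of_ne_zero Subgroup.index_ne_zero_of_finite) (Subgroup.index_dvd_of_le ?_)
      exact Subgroup.map_le_iff_le_comap.mp hmap
    have h5 : (frattini H).index = (frattini H).relIndex (D ⊔ frattini H) * (D ⊔ frattini H).index :=
      (Subgroup.relIndex_mul_index le_sup_right).symm
    rw [h5, Subgroup.relIndex_sup_right, pow_add]
    exact Nat.mul_le_mul (h4.trans h2) h1
  obtain ⟨n, hn⟩ := IsPGroup.index hHp (frattini H)
  have hnk : n ≤ k * (k + 4) / 4 := by
    rw [hn] at h3
    refine ((Nat.pow_le_pow_iff_right hpp.one_lt).mp h3).trans ?_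
    rw [show k * (k + 4) = k ^ 2 + k * 4 by ring, Nat.add_mul_div_right _ _ (by norm_num : 0 < 4), add_comm a]
    exact Nat.add_le_add (Nat.div_le_div_right (Nat.pow_le_pow_left hak 2)) hak
  obtain ⟨T, -, hT, hTgen⟩ := Cores.exists_subset_generating hHp hn Set.univ Subgroup.closure_univ
  refine ⟨T.image H.subtype, (Finset.card_image_le.trans hT.le).trans hnk, ?_⟩
  rw [Finset.coe_image, ← MonoidHom.map_closure, hTgen, ← MonoidHom.range_eq_map, Subgroup.range_subtype]

end Cfsg.Agent.S4057
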