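import Cfsg.Statements.S4058
import Cfsg.Agent.EqLemmas
import Cfsg.Agent.Lib.Char.Orth
import Cfsg.Agent.Lib.Char.Integral
import Cfsg.Agent.Lib.PGroup.Basic
import Cfsg.Agent.S0158

set_option autoImplicit false
open Cfsg

namespace Cfsg.Agent.S4058


open scoped ComplexConjugate
open Cfsg.Agent.Char

section

variable {G : Type*} [Group G]

/-- The average of `χ (s * s)`. -/
noncomputable def nu [Fintype G] (χ : G → ℂ) : ℂ := (Nat.card G : ℂ)⁻¹ * ∑ s : G, χ (s * s)

theorem nu_int [Fintype G] (χ : IrrCharacter G) : ∃ z : ℤ, nu (χ : G → ℂ) = z := by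
  obtain ⟨n, ρ, hirr, he⟩ := χ.2
  haveI := hirr
  rw [nu, ← he]
  rcases (Cfsg.Agent.S0158.result ρ).1 with h | h | h
  · exact ⟨0, by rw [h]; simp⟩
  · exact ⟨1, by rw [h]; simp⟩
  · exact ⟨-1, by rw [h]; simp⟩

/-- The Frobenius-Schur count of solutions of `x * x = 1`. -/
theorem card_sq_eq_one [Fintype G] [Fintype (IrrCharacter G)] :
    (Nat.card {x : G // x ^ 2 = 1} : ℂ) = ∑ χ : IrrCharacter G, (χ : G → ℂ) 1 * nu (χ : G → ℂ) := by
  classical
  have h : ∑ χ : IrrCharacter G, (χ : G → ℂ) 1 * ∑ s : G, (χ : G → ℂ) (s * s) =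
      (Nat.card G : ℂ) * Nat.card {x : G // x ^ 2 = 1} := by
    simp only [Finset.mul_sum]
    rw [Finset.sum_comm]
    simp only [sum_degree_mul_apply]
    rw [Nat.card_eq_fintype_card (α := {x : G // x ^ 2 = 1}), Fintype.card_subtype]
    simp only [pow_two]
    rw [← Finset.sum_filter, Finset.sum_const, nsmul_eq_mul, mul_comm]
  have h0 : (Nat.card G : ℂ) ≠ 0 := Nat.cast_ne_zero.2 Nat.card_pos.ne'
  refine mul_left_cancel₀ h0 ?_
  rw [← h, Finset.mul_sum]
  refine Finset.sum_congr rfl fun χ _ => ?_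
  rw [nu]
  field_simp

variable (N : Subgroup G) [N.Normal]

/-- A homomorphism of the quotient as a linear character of the group. -/
noncomputable def lin (l : (G ⧸ N) →* ℂˣ) : G →* ℂ :=
  (Units.coeHom ℂ).comp (l.comp (QuotientGroup.mk' N))

theorem lin_apply (l : (G ⧸ N) →* ℂˣ) (g : G) : lin N l g = ((l (g : G ⧸ N) : ℂˣ) : ℂ) := rfl

/-- Linear characters of the quotient act on the irreducible characters by multiplication. -/
@[reducible] noncomputable def act [Fintype G] : MulAction ((G ⧸ N) →* ℂˣ) (IrrCharacter G) where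
  smul l χ := ⟨fun g => (χ : G → ℂ) g * lin N l g, IsIrrCharacter.mul_linear χ.2 (lin N l)⟩
  one_smul χ := Subtype.ext (funext fun g => by
    show (χ : G → ℂ) g * lin N 1 g = (χ : G → ℂ) g
    simp [lin_apply])
  mul_smul l m χ := Subtype.ext (funext fun g => by
    show (χ : G → ℂ) g * lin N (l * m) g = (χ : G → ℂ) g * lin N m g * lin N l g
    simp only [lin_apply, MonoidHom.mul_apply, Units.val_mul]
    ring)

variable [Fintype G]

theorem act_val (l : (G ⧸ N) →* ℂˣ) (χ : IrrCharacter G) (g : G) :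
    (letI := act N; ((l • χ : IrrCharacter G) : G → ℂ) g) = (χ : G → ℂ) g * lin N l g := rfl

/-- The stabiliser of a character has at most `χ(1)²` elements. -/
theorem card_stabilizer_le [Finite ((G ⧸ N) →* ℂˣ)] (χ : IrrCharacter G) {n : ℕ} (hn : (χ : G → ℂ) 1 = n) :
    (letI := act N; Nat.card (MulAction.stabilizer ((G ⧸ N) →* ℂˣ) χ)) ≤ n ^ 2 := by
  classical
  letI := act N
  haveI := Fintype.ofFinite (IrrCharacter G)
  haveI := Fintype.ofFinite (MulAction.stabilizer ((G ⧸ N) →* ℂˣ) χ)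
  set θ : G → ℂ := fun g => (χ : G → ℂ) g * conj ((χ : G → ℂ) g)
  have hθ : IsCharacter G θ :=
    IsCharacter.mul (IsIrrCharacter.isCharacter χ.2) (IsCharacter.conj (IsIrrCharacter.isCharacter χ.2))
  obtain ⟨m, hm, hmi⟩ := IsCharacter.decompose hθ
  let e : MulAction.stabilizer ((G ⧸ N) →* ℂˣ) χ → IrrCharacter G := fun l =>
    ⟨lin N l.1, isIrrCharacter_of_hom _⟩
  have hinj : Function.Injective e := by
    intro a b h
    refine Subtype.ext (MonoidHom.ext fun q => ?_)
    obtain ⟨g, rfl⟩ := QuotientGroup.mk_surjective q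
    exact Units.ext (congrFun (congrArg Subtype.val h) g)
  have hm1 : ∀ l, m (e l) = 1 := by
    intro l
    have h1 : classInner θ (e l : G → ℂ) = 1 := by
      have e2 : ∀ g, (χ : G → ℂ) g * lin N l.1 g = (χ : G → ℂ) g := fun g => by
        rw [← act_val]
        exact congrFun (congrArg Subtype.val (l.2 : l.1 • χ = χ)) g
      rw [← classInner_irr_self χ.2, classInner, classInner]
      refine congrArg _ (Finset.sum_congr rfl fun g _ => ?_)
      show (χ : G → ℂ) g * conj ((χ : G → ℂ) g) * conj (lin N l.1 g) = _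
      rw [mul_assoc, ← map_mul, e2]
    rw [hmi] at h1
    exact_mod_cast h1
  choose d hd using fun φ : IrrCharacter G => IsIrrCharacter.exists_degree φ.2
  have htot : n ^ 2 = ∑ φ, m φ * d φ := by
    have h1 : θ 1 = ((n ^ 2 : ℕ) : ℂ) := by
      show (χ : G → ℂ) 1 * conj ((χ : G → ℂ) 1) = _
      rw [hn, map_natCast]; push_cast; ring
    have h2 := congrFun hm 1
    rw [h1, Finset.sum_apply] at h2
    have h3 : ((n ^ 2 : ℕ) : ℂ) = ((∑ φ, m φ * d φ : ℕ) : ℂ) := by
      rw [h2, Nat.cast_sum]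
      refine Finset.sum_congr rfl fun φ _ => ?_
      rw [Pi.smul_apply, smul_eq_mul, (hd φ).2, Nat.cast_mul]
    exact_mod_cast h3
  rw [htot, Nat.card_eq_fintype_card]
  calc Fintype.card (MulAction.stabilizer ((G ⧸ N) →* ℂˣ) χ)
      = ∑ φ ∈ Finset.univ.image e, 1 := by
        rw [Finset.sum_const, Finset.card_image_of_injective _ hinj, Finset.card_univ]; simp
    _ ≤ ∑ φ ∈ Finset.univ.image e, m φ * d φ := by
        refine Finset.sum_le_sum fun φ hφ => ?_
        obtain ⟨l, -, rfl⟩ := Finset.mem_image.1 hφ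
        rw [hm1, one_mul]
        exact (hd _).1
    _ ≤ ∑ φ, m φ * d φ := Finset.sum_le_sum_of_subset (Finset.subset_univ _)

end

theorem pow_dvd_orbit_mul {G : Type*} [Group G] [Fintype G] (hG : IsPGroup 2 G) (N : Subgroup G) [N.Normal]
    [Finite ((G ⧸ N) →* ℂˣ)] {d k : ℕ} (hd : Nat.card ((G ⧸ N) →* ℂˣ) = 2 ^ d) (hk : 2 * k + 1 ≤ d)
    (χ : IrrCharacter G) {n : ℕ} (hn : (χ : G → ℂ) 1 = n) :
    2 ^ (k + 1) ∣ (letI := act N; Nat.card (MulAction.orbit ((G ⧸ N) →* ℂˣ) χ)) * n := by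
  letI := act N
  haveI : Fact (Nat.Prime 2) := ⟨Nat.prime_two⟩
  obtain ⟨a, ha⟩ := IsPGroup.iff_card.1 hG
  obtain ⟨n', -, hn1, hn2⟩ := IsIrrCharacter.degree_dvd_card χ.2
  have hnn : n' = n := by exact_mod_cast hn1.symm.trans hn
  subst hnn
  rw [ha] at hn2
  obtain ⟨e, -, he⟩ := (Nat.dvd_prime_pow Nat.prime_two).1 hn2
  have h1 : Nat.card (MulAction.orbit ((G ⧸ N) →* ℂˣ) χ) * Nat.card (MulAction.stabilizer ((G ⧸ N) →* ℂˣ) χ) = 2 ^ d := by
    rw [← hd, Nat.card_coe_set_eq, ← MulAction.index_stabilizer, Subgroup.index_mul_card]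
  obtain ⟨t, -, ht⟩ := (Nat.dvd_prime_pow Nat.prime_two).1 (Dvd.intro_left _ h1)
  have hle := card_stabilizer_le N χ hn
  rw [ht, he, ← pow_mul] at hle
  have hte : t ≤ e * 2 := (Nat.pow_le_pow_iff_right (by norm_num)).1 hle
  rw [he]
  by_cases hke : k + 1 ≤ e
  · exact (Nat.pow_dvd_pow 2 hke).mul_left _
  obtain ⟨o, -, ho⟩ := (Nat.dvd_prime_pow Nat.prime_two).1 (Dvd.intro _ h1)
  rw [ho, ← pow_add]
  rw [ho, ht, ← pow_add] at h1
  have h2 := Nat.pow_right_injective (le_refl 2) h1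
  exact Nat.pow_dvd_pow 2 (by omega)

/-- Let G be a finite 2-group with #(G/Φ(G)) ≥ 2^(2k+1). Then the number of elements x of G with x² = 1 is divisible by 2^(k+1). -/
theorem result {G : Type*} [Group G] [Finite G] (hG : IsPGroup 2 G) (k : ℕ)
    (hgen : 2 ^ (2 * k + 1) ≤ Nat.card (G ⧸ frattini G)) :
    2 ^ (k + 1) ∣ Nat.card {x : G // x ^ 2 = 1} := by
  classical
  haveI : Fact (Nat.Prime 2) := ⟨Nat.prime_two⟩
  haveI := Fintype.ofFinite G
  haveI := Fintype.ofFinite (IrrCharacter G)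
  let A := G ⧸ frattini G
  have hsq : ∀ a : A, a ^ 2 = 1 := by
    intro a
    obtain ⟨g, rfl⟩ := QuotientGroup.mk'_surjective (frattini G) a
    rw [← map_pow]
    exact (QuotientGroup.eq_one_iff _).2 (Cfsg.Agent.PGroup.pow_mem_frattini hG g)
  letI : CommGroup A := { (inferInstance : Group A) with
    mul_comm := fun a b => by
      obtain ⟨x, rfl⟩ := QuotientGroup.mk'_surjective (frattini G) a
      obtain ⟨y, rfl⟩ := QuotientGroup.mk'_surjective (frattini G) b
      rw [← map_mul, ← map_mul]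
      refine (QuotientGroup.eq).2 ?_
      have := Cfsg.Agent.PGroup.commutatorElement_mem_frattini hG y⁻¹ x⁻¹
      simpa [commutatorElement_def, mul_assoc] using this }
  haveI : NeZero (Monoid.exponent A) := ⟨Monoid.exponent_ne_zero_of_finite⟩
  haveI : NeZero ((Monoid.exponent A : ℕ) : ℂ) := ⟨Nat.cast_ne_zero.2 (NeZero.ne _)⟩
  have hcard : Nat.card (A →* ℂˣ) = Nat.card A := CommGroup.card_monoidHom_of_hasEnoughRootsOfUnity A ℂ
  haveI : Finite (A →* ℂˣ) := Nat.finite_of_card_ne_zero (hcard ▸ Nat.card_pos.ne')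
  obtain ⟨d, hd⟩ := IsPGroup.iff_card.1 (hG.to_quotient (frattini G))
  have hkd : 2 * k + 1 ≤ d := (Nat.pow_le_pow_iff_right (by norm_num)).1 (hd ▸ hgen)
  have hd' : Nat.card ((G ⧸ frattini G) →* ℂˣ) = 2 ^ d := hcard.trans hd
  letI := act (frattini G)
  choose z hz using fun χ : IrrCharacter G => nu_int χ
  choose n hn using fun χ : IrrCharacter G => IsIrrCharacter.exists_degree χ.2
  have hinv : ∀ (l : A →* ℂˣ) (χ : IrrCharacter G), n (l • χ) = n χ ∧ z (l • χ) = z χ := by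
    intro l χ
    have h1 : ((l • χ : IrrCharacter G) : G → ℂ) 1 = (χ : G → ℂ) 1 := by
      rw [act_val, map_one, mul_one]
    have h2 : nu ((l • χ : IrrCharacter G) : G → ℂ) = nu (χ : G → ℂ) := by
      rw [nu, nu]
      refine congrArg _ (Finset.sum_congr rfl fun x _ => ?_)
      rw [act_val]
      have : lin (frattini G) l (x * x) = 1 := by
        rw [lin_apply, QuotientGroup.mk_mul, ← pow_two, hsq]
        simp
      rw [this, mul_one]
    rw [(hn _).2, (hn _).2] at h1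
    rw [hz, hz] at h2
    exact ⟨by exact_mod_cast h1, by exact_mod_cast h2⟩
  have hcount : (Nat.card {x : G // x ^ 2 = 1} : ℤ) = ∑ χ : IrrCharacter G, (n χ : ℤ) * z χ := by
    have h1 := card_sq_eq_one (G := G)
    have h2 : ((Nat.card {x : G // x ^ 2 = 1} : ℤ) : ℂ) = ((∑ χ : IrrCharacter G, (n χ : ℤ) * z χ : ℤ) : ℂ) := by
      rw [Int.cast_natCast, h1, Int.cast_sum]
      refine Finset.sum_congr rfl fun χ _ => ?_
      rw [(hn χ).2, hz, Int.cast_mul, Int.cast_natCast]
    exact_mod_cast h2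
  rw [← Int.natCast_dvd_natCast, hcount, Nat.cast_pow]
  let r := MulAction.orbitRel (A →* ℂˣ) (IrrCharacter G)
  haveI : Fintype (Quotient r) := Fintype.ofFinite _
  rw [← Finset.sum_fiberwise Finset.univ (fun χ => Quotient.mk r χ)]
  refine Finset.dvd_sum fun q _ => ?_
  obtain ⟨χ, rfl⟩ := Quotient.exists_rep q
  have hmem : ∀ φ : IrrCharacter G, φ ∈ Finset.univ.filter (fun φ => Quotient.mk r φ = Quotient.mk r χ) ↔
      φ ∈ MulAction.orbit (A →* ℂˣ) χ := by
    intro φ
    rw [Finset.mem_filter, Quotient.eq (r := r)]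
    exact ⟨fun h => h.2, fun h => ⟨Finset.mem_univ _, h⟩⟩
  rw [Finset.sum_congr rfl (g := fun _ => (n χ : ℤ) * z χ) (fun φ hφ => by
    obtain ⟨l, rfl⟩ := (hmem φ).1 hφ
    show (n (l • χ) : ℤ) * z (l • χ) = _
    rw [(hinv l χ).1, (hinv l χ).2]), Finset.sum_const, nsmul_eq_mul]
  have hc : (Finset.univ.filter (fun φ => Quotient.mk r φ = Quotient.mk r χ)).card =
      Nat.card (MulAction.orbit (A →* ℂˣ) χ) := by
    rw [← Nat.card_eq_finsetCard]
    exact Nat.card_congr (Equiv.subtypeEquivRight hmem)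
  rw [hc, ← mul_assoc]
  refine Dvd.dvd.mul_right ?_ _
  exact_mod_cast pow_dvd_orbit_mul hG (frattini G) hd' hkd χ (hn χ).2

end Cfsg.Agent.S4058
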