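import Cfsg.Statements.S4059
import Cfsg.Agent.EqLemmas

set_option autoImplicit false
open Cfsg

open scoped commutatorElement

namespace Cfsg.Agent.S4059

/-- An element centralised by a Sylow 2-subgroup and inverted by some element squares to one. -/
theorem sq_eq_one_of_inverted {G : Type*} [Group G] [Finite G] (S : Sylow 2 G) {x g : G}
    (hx : x ∈ Subgroup.centralizer ((S : Subgroup G) : Set G)) (hg : g * x * g⁻¹ = x⁻¹) : x ^ 2 = 1 := by
  haveI : Fact (Nat.Prime 2) := ⟨Nat.prime_two⟩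
  by_contra h2
  set C := Subgroup.centralizer ({x} : Set G) with hC
  have hSC : (S : Subgroup G) ≤ C := fun s hs =>
    Subgroup.mem_centralizer_singleton_iff.2 (Subgroup.mem_centralizer_iff.1 hx s hs)
  have hconj : ∀ a : G, a * x⁻¹ * a⁻¹ = (a * x * a⁻¹)⁻¹ := fun a => by group
  let H : Subgroup G :=
    { carrier := {a | a * x * a⁻¹ = x ∨ a * x * a⁻¹ = x⁻¹}
      one_mem' := Or.inl (by simp)
      mul_mem' := fun {a b} ha hb => by
        show a * b * x * (a * b)⁻¹ = x ∨ a * b * x * (a * b)⁻¹ = x⁻¹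
        have e : a * b * x * (a * b)⁻¹ = a * (b * x * b⁻¹) * a⁻¹ := by group
        rw [e]
        rcases hb with hb | hb <;> rw [hb]
        · exact ha
        · rcases ha with ha | ha
          · exact Or.inr (by rw [hconj, ha])
          · exact Or.inl (by rw [hconj, ha, inv_inv])
      inv_mem' := fun {a} ha => by
        show a⁻¹ * x * a⁻¹⁻¹ = x ∨ a⁻¹ * x * a⁻¹⁻¹ = x⁻¹
        rcases ha with ha | ha
        · exact Or.inl (by conv_lhs => rw [← ha]
                           group)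
        · refine Or.inr ?_
          rw [inv_inv]
          calc a⁻¹ * x * a = (a⁻¹ * x⁻¹ * a)⁻¹ := by group
            _ = (a⁻¹ * (a * x * a⁻¹) * a)⁻¹ := by rw [ha]
            _ = _ := by group }
  have hCH : C ≤ H := fun a ha => Or.inl (mul_inv_eq_iff_eq_mul.2 (Subgroup.mem_centralizer_singleton_iff.1 ha))
  have hgH : g ∈ H := Or.inr hg
  have hgC : g ∉ C := fun hgc => h2 (by
    have h1 : x⁻¹ = x := hg.symm.trans (mul_inv_eq_iff_eq_mul.2 (Subgroup.mem_centralizer_singleton_iff.1 hgc))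
    rw [pow_two]
    conv_lhs => arg 1; rw [← h1]
    exact inv_mul_cancel x)
  have hmem : ∀ a : G, a ∈ C ↔ a * x * a⁻¹ = x := fun a => by
    rw [hC, Subgroup.mem_centralizer_singleton_iff]; exact mul_inv_eq_iff_eq_mul.symm
  have hidx : (C.subgroupOf H).index = 2 := by
    refine Subgroup.index_eq_two_iff.2 ⟨⟨g, hgH⟩, fun b => ?_⟩
    simp only [Subgroup.mem_subgroupOf, Subgroup.coe_mul, hmem]
    have e : (b : G) * g * x * ((b : G) * g)⁻¹ = ((b : G) * x * (b : G)⁻¹)⁻¹ := by
      rw [← hconj, ← hg]; group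
    rw [e]
    have hne : x⁻¹ ≠ x := fun e' => h2 (by
      rw [pow_two]
      conv_lhs => arg 1; rw [← e']
      exact inv_mul_cancel x)
    rcases b.2 with hb | hb <;> rw [hb]
    · exact Or.inr ⟨rfl, hne⟩
    · exact Or.inl ⟨inv_inv x, hne⟩
  refine S.not_dvd_index (?_ : 2 ∣ _)
  calc 2 = (C.subgroupOf H).index := hidx.symm
    _ ∣ C.index := Subgroup.relIndex_dvd_index_of_le hCH
    _ ∣ _ := Subgroup.index_dvd_of_le hSC


/-- Let G be a finite group in which every element is conjugate to its inverse. Then: every non-identity element commuting with all elements of some Sylow 2-subgroup is an involution; the centre of G is an elementary abelian 2-group; the commutator quotient G/G' is an elementary abelian 2-group; and G is generated by its 2-elements. -/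
theorem result {G : Type*} [Group G] [Finite G] (hamb : ∀ x : G, IsConj x x⁻¹) :
    (∀ (S : Sylow 2 G) (x : G), x ∈ Subgroup.centralizer ((S : Subgroup G) : Set G) → x ≠ 1 → orderOf x = 2) ∧
    (∀ z : G, z ∈ Subgroup.center G → z ^ 2 = 1) ∧
    (∀ x : G, x ^ 2 ∈ commutator G) ∧
    Subgroup.closure {x : G | ∃ k : ℕ, orderOf x = 2 ^ k} = ⊤ := by
  haveI : Fact (Nat.Prime 2) := ⟨Nat.prime_two⟩
  refine ⟨fun S x hx hx1 => ?_, fun z hz => ?_, fun x => ?_, ?_⟩
  · obtain ⟨g, hg⟩ := isConj_iff.1 (hamb x)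
    exact orderOf_eq_prime (sq_eq_one_of_inverted S hx hg) hx1
  · obtain ⟨g, hg⟩ := isConj_iff.1 (hamb z)
    rw [Subgroup.mem_center_iff.1 hz g, mul_inv_cancel_right] at hg
    rw [pow_two]
    conv_lhs => arg 2; rw [hg]
    exact mul_inv_cancel z
  · obtain ⟨g, hg⟩ := isConj_iff.1 (hamb x)
    have h1 : ⁅g, x⁆ = (x ^ 2)⁻¹ := by rw [commutatorElement_def, hg, pow_two]; group
    rw [← inv_inv (x ^ 2), ← h1]
    exact Subgroup.inv_mem _ (Subgroup.commutator_mem_commutator (Subgroup.mem_top g) (Subgroup.mem_top x))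
  · set K := Subgroup.closure {x : G | ∃ k : ℕ, orderOf x = 2 ^ k} with hK
    haveI : K.Normal := ⟨fun n hn a => by
      induction hn using Subgroup.closure_induction with
      | mem y hy =>
        refine Subgroup.subset_closure ?_
        obtain ⟨k, hk⟩ := hy
        refine ⟨k, ?_⟩
        show orderOf (MulAut.conj a y) = 2 ^ k
        rw [MulEquiv.orderOf_eq]; exact hk
      | one => simpa using K.one_mem
      | mul u v _ _ hu hv =>
        rw [show a * (u * v) * a⁻¹ = (a * u * a⁻¹) * (a * v * a⁻¹) by group]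
        exact K.mul_mem hu hv
      | inv u _ hu =>
        rw [show a * u⁻¹ * a⁻¹ = (a * u * a⁻¹)⁻¹ by group]
        exact K.inv_mem hu⟩
    obtain ⟨S⟩ := (inferInstance : Nonempty (Sylow 2 G))
    have hSK : (S : Subgroup G) ≤ K := fun s hs => Subgroup.subset_closure (by
      obtain ⟨k, hk⟩ := IsPGroup.iff_orderOf.1 S.isPGroup' ⟨s, hs⟩
      exact ⟨k, by rwa [Subgroup.orderOf_mk] at hk⟩)
    have hodd : ∀ y : G ⧸ K, Odd (orderOf y) := fun y => by
      refine Nat.not_even_iff_odd.1 fun he => S.not_dvd_index (he.two_dvd.trans ?_)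
      exact ((orderOf_dvd_natCard y).trans (dvd_of_eq (Subgroup.index_eq_card K).symm)).trans
        (Subgroup.index_dvd_of_le hSK)
    rw [eq_top_iff]
    intro x _
    rw [← QuotientGroup.eq_one_iff]
    obtain ⟨g, hg⟩ := isConj_iff.1 (hamb x)
    have hgq : (g : G ⧸ K) * x * (g : G ⧸ K)⁻¹ = (x : G ⧸ K)⁻¹ := by
      rw [← QuotientGroup.mk_inv, ← QuotientGroup.mk_mul, ← QuotientGroup.mk_mul, hg, QuotientGroup.mk_inv]
    have hpow : ∀ k : ℕ, (g : G ⧸ K) ^ (2 * k + 1) * x * ((g : G ⧸ K) ^ (2 * k + 1))⁻¹ = (x : G ⧸ K)⁻¹ := by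
      intro k
      induction k with
      | zero => simpa using hgq
      | succ k ih =>
        calc (g : G ⧸ K) ^ (2 * (k + 1) + 1) * x * ((g : G ⧸ K) ^ (2 * (k + 1) + 1))⁻¹
            = (g : G ⧸ K) * ((g : G ⧸ K) * ((g : G ⧸ K) ^ (2 * k + 1) * x * ((g : G ⧸ K) ^ (2 * k + 1))⁻¹) * (g : G ⧸ K)⁻¹) * (g : G ⧸ K)⁻¹ := by
              rw [show 2 * (k + 1) + 1 = 2 * k + 1 + 1 + 1 by ring, pow_succ', pow_succ']; group
          _ = (g : G ⧸ K) * ((g : G ⧸ K) * x * (g : G ⧸ K)⁻¹)⁻¹ * (g : G ⧸ K)⁻¹ := by rw [ih]; group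
          _ = _ := by rw [hgq, inv_inv, hgq]
    obtain ⟨k, hk⟩ := hodd (g : G ⧸ K)
    have h1 := hpow k
    rw [← hk, pow_orderOf_eq_one, one_mul, inv_one, mul_one] at h1
    have h2 : (x : G ⧸ K) ^ 2 = 1 := by
      rw [pow_two]
      conv_lhs => arg 2; rw [h1]
      exact mul_inv_cancel _
    obtain ⟨j, hj⟩ := hodd (x : G ⧸ K)
    have h3 := pow_orderOf_eq_one (x : G ⧸ K)
    rwa [hj, pow_succ, pow_mul, h2, one_pow, one_mul] at h3

end Cfsg.Agent.S4059
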