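import Cfsg.Statements.S4060
import Cfsg.Agent.EqLemmas
import Cfsg.Agent.S4059
import Cfsg.Agent.Lib.Solvable.Basic

set_option autoImplicit false
open Cfsg

namespace Cfsg.Agent.S4060

universe u

theorem aux : ∀ (n : ℕ) (G : Type u) [Group G] [Finite G] [Group.IsSolvable G], Nat.card G ≤ n →
    ∀ (S : Sylow 2 G) (x : G), x ≠ 1 → Odd (orderOf x) →
      x ∈ Subgroup.normalizer ((S : Subgroup G) : Set G) → ¬ IsConj x x⁻¹ := by
  intro n
  induction n with
  | zero =>
    intro G _ _ _ hn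
    have := Nat.card_pos (α := G)
    omega
  | succ n ih =>
    intro G _ _ _ hn S x hx hodd hnorm hconj
    haveI : Fact (Nat.Prime 2) := ⟨Nat.prime_two⟩
    haveI : Nontrivial G := ⟨⟨x, 1, hx⟩⟩
    obtain ⟨p, hp, N, hN, hN1, hpN⟩ := Cfsg.Agent.Solvable.exists_normal_pGroup_ne_bot G
    haveI := hN
    haveI := Fact.mk hp
    have hxN : x ∈ N := by
      by_contra hxN
      refine ih (G ⧸ N) ?_ (S.mapSurjective (QuotientGroup.mk'_surjective N)) (QuotientGroup.mk' N x) ?_ ?_ ?_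
        (hconj_map hconj)
      · have := Cfsg.Agent.Solvable.card_quotient_lt hN1
        omega
      · exact fun e => hxN ((QuotientGroup.eq_one_iff x).1 e)
      · exact hodd.of_dvd_nat (orderOf_map_dvd _ x)
      · refine Subgroup.le_normalizer_map _ ⟨x, hnorm, rfl⟩
    have hp2 : p ≠ 2 := by
      intro e
      subst e
      obtain ⟨k, hk⟩ := IsPGroup.iff_orderOf.1 hpN ⟨x, hxN⟩
      rw [Subgroup.orderOf_mk] at hk
      rcases Nat.eq_zero_or_pos k with hk0 | hk0
      · rw [hk0, pow_zero] at hk; exact hx (orderOf_eq_one_iff.1 hk)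
      · exact Nat.not_even_iff_odd.2 hodd (hk ▸ (Nat.even_pow.2 ⟨even_two, hk0.ne'⟩))
    have hcent : x ∈ Subgroup.centralizer ((S : Subgroup G) : Set G) := by
      refine Subgroup.mem_centralizer_iff.2 fun s hs => ?_
      have h1 : x * s * x⁻¹ * s⁻¹ ∈ (S : Subgroup G) :=
        Subgroup.mul_mem _ ((Subgroup.mem_normalizer_iff.1 hnorm s).1 hs) (Subgroup.inv_mem _ hs)
      have h2 : x * s * x⁻¹ * s⁻¹ ∈ N := by
        rw [show x * s * x⁻¹ * s⁻¹ = x * (s * x⁻¹ * s⁻¹) by group]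
        exact N.mul_mem hxN (hN.conj_mem _ (N.inv_mem hxN) s)
      have h3 := disjoint_iff.1 (IsPGroup.disjoint_of_ne p 2 hp2 N (S : Subgroup G) hpN S.isPGroup')
      have h4 : x * s * x⁻¹ * s⁻¹ = 1 := Subgroup.mem_bot.1 (h3 ▸ ⟨h2, h1⟩)
      exact ((mul_inv_eq_iff_eq_mul.1 (mul_inv_eq_one.1 h4))).symm
    obtain ⟨g, hg⟩ := isConj_iff.1 hconj
    have hsq := Cfsg.Agent.S4059.sq_eq_one_of_inverted S hcent hg
    obtain ⟨j, hj⟩ := hodd
    have h3 := pow_orderOf_eq_one x
    rw [hj, pow_succ, pow_mul, hsq, one_pow, one_mul] at h3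
    exact hx h3
where
  hconj_map {G : Type u} [Group G] {N : Subgroup G} [N.Normal] {x : G} (h : IsConj x x⁻¹) :
      IsConj (QuotientGroup.mk' N x) (QuotientGroup.mk' N x)⁻¹ := by
    have := MonoidHom.map_isConj (QuotientGroup.mk' N) h
    rwa [map_inv] at this

/-- Let G be a finite solvable group with Sylow 2-subgroup S, and let x ≠ 1 be an element of odd order normalizing S. Then x is not conjugate to its inverse in G. -/
theorem result {G : Type*} [Group G] [Finite G] [Group.IsSolvable G]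
    (S : Sylow 2 G) (x : G) (hx : x ≠ 1) (hodd : Odd (orderOf x))
    (hnorm : x ∈ Subgroup.normalizer ((S : Subgroup G) : Set G)) : ¬ IsConj x x⁻¹ := by
  exact aux _ G le_rfl S x hx hodd hnorm

end Cfsg.Agent.S4060
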