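import Cfsg.Statements.S4061
import Cfsg.Agent.EqLemmas
import Cfsg.Agent.S4059
import Cfsg.Agent.S0016
import Cfsg.Agent.Lib.Solvable.Basic
import Cfsg.Agent.Lib.ExtLayer.Basic

set_option autoImplicit false
open Cfsg

namespace Cfsg.Agent.S4061

section

variable {G : Type*} [Group G] [Finite G]

theorem oddCore_normal : (Cfsg.oddCore G).Normal := Subgroup.sSup_normal _ fun _ hN => hN.1

theorem eq_one_of_odd_of_inverted (hodd : Odd (Nat.card G)) (hamb : ∀ x : G, IsConj x x⁻¹) (x : G) : x = 1 := by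
  obtain ⟨g, hg⟩ := isConj_iff.1 (hamb x)
  have hpow : ∀ k : ℕ, g ^ (2 * k + 1) * x * (g ^ (2 * k + 1))⁻¹ = x⁻¹ := by
    intro k
    induction k with
    | zero => simpa using hg
    | succ k ih =>
      calc g ^ (2 * (k + 1) + 1) * x * (g ^ (2 * (k + 1) + 1))⁻¹
          = g * (g * (g ^ (2 * k + 1) * x * (g ^ (2 * k + 1))⁻¹) * g⁻¹) * g⁻¹ := by
            rw [show 2 * (k + 1) + 1 = 2 * k + 1 + 1 + 1 by ring, pow_succ', pow_succ']; group
        _ = g * (g * x * g⁻¹)⁻¹ * g⁻¹ := by rw [ih]; group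
        _ = _ := by rw [hg, inv_inv, hg]
  obtain ⟨k, hk⟩ := hodd
  have h1 := hpow k
  rw [← hk, pow_card_eq_one', one_mul, inv_one, mul_one] at h1
  have h2 : x ^ 2 = 1 := by
    rw [pow_two]
    conv_lhs => arg 2; rw [h1]
    exact mul_inv_cancel _
  have h3 := pow_card_eq_one' (x := x)
  rwa [hk, pow_succ, pow_mul, h2, one_pow, one_mul] at h3

/-- A minimal normal 2-subgroup containing all involutions is central when the group is ambivalent. -/
theorem minimal_central [Group.IsSolvable G] (hamb : ∀ x : G, IsConj x x⁻¹) (E : Subgroup G) [E.Normal]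
    (hE2 : IsPGroup 2 E) (hcomm : IsMulCommutative E)
    (hmin : ∀ K : Subgroup G, K.Normal → K ≤ E → K = ⊥ ∨ K = E)
    (hinv : ∀ x : G, orderOf x = 2 → x ∈ E) : Subgroup.centralizer (E : Set G) = ⊤ := by
  haveI : Fact (Nat.Prime 2) := ⟨Nat.prime_two⟩
  by_contra hD
  set D := Subgroup.centralizer (E : Set G) with hDdef
  haveI : D.Normal := Subgroup.normal_centralizer
  have hED : E ≤ D := fun a ha => Subgroup.mem_centralizer_iff.2 fun b hb =>
    congrArg Subtype.val (hcomm.is_comm.comm (⟨b, hb⟩ : E) ⟨a, ha⟩)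
  haveI : Nontrivial (G ⧸ D) := by
    obtain ⟨x, hx⟩ := not_forall.1 fun h => hD ((Subgroup.eq_top_iff' D).2 h)
    exact ⟨⟨(x : G ⧸ D), 1, fun e => hx ((QuotientGroup.eq_one_iff x).1 e)⟩⟩
  obtain ⟨q, hq, M, hMn, hM1, hMq⟩ := Cfsg.Agent.Solvable.exists_normal_pGroup_ne_bot (G ⧸ D)
  haveI := Fact.mk hq
  haveI := hMn
  set A := M.comap (QuotientGroup.mk' D) with hA
  haveI hAn : A.Normal := hMn.comap _
  have hDA : D ≤ A := QuotientGroup.le_comap_mk' D M
  have hAD : ¬ A ≤ D := by
    intro h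
    refine hM1 ((Subgroup.eq_bot_iff_forall _).2 fun m hm => ?_)
    obtain ⟨a, rfl⟩ := QuotientGroup.mk'_surjective D m
    exact (QuotientGroup.eq_one_iff a).2 (h hm)
  obtain ⟨W⟩ := (inferInstance : Nonempty (Sylow q A))
  set W' := (W : Subgroup A).map A.subtype with hW'
  -- `A` is `D` times a Sylow subgroup
  have hgen : A ≤ D ⊔ W' := by
    set B := D.subgroupOf A ⊔ (W : Subgroup A) with hB
    have h1 : B.index ∣ Nat.card M := by
      refine (Subgroup.index_dvd_of_le le_sup_left).trans (dvd_of_eq ?_)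
      show D.relIndex A = Nat.card M
      have hDcomap : D = (⊥ : Subgroup (G ⧸ D)).comap (QuotientGroup.mk' D) := by
        rw [MonoidHom.comap_bot, QuotientGroup.ker_mk']
      conv_lhs => arg 1; rw [hDcomap]
      rw [Subgroup.relIndex_comap, Subgroup.relIndex_bot_left, hA,
        Subgroup.map_comap_eq_self_of_surjective (QuotientGroup.mk'_surjective D)]
    have h2 : ¬ q ∣ B.index := fun hd => W.not_dvd_index (hd.trans (Subgroup.index_dvd_of_le le_sup_right))
    obtain ⟨j, hj⟩ := IsPGroup.iff_card.1 hMq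
    have h3 : B = ⊤ := Subgroup.index_eq_one.1 (Nat.eq_one_of_dvd_coprimes
      ((hq.coprime_iff_not_dvd.2 h2).pow_left j).symm dvd_rfl (hj ▸ h1))
    intro a ha
    have : a ∈ B.map A.subtype := ⟨⟨a, ha⟩, by rw [h3]; trivial, rfl⟩
    rw [hB, Subgroup.map_sup, Subgroup.subgroupOf_map_subtype, inf_eq_left.2 hDA] at this
    exact this
  -- no element of `E` centralises `A`
  have hfix : ∀ e ∈ E, (∀ w ∈ W', w * e = e * w) → e = 1 := by
    intro e he hw
    by_contra he1
    set F := E ⊓ Subgroup.centralizer (A : Set G) with hF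
    haveI : (Subgroup.centralizer (A : Set G)).Normal := Subgroup.normal_centralizer
    have heA : e ∈ Subgroup.centralizer (A : Set G) := by
      have hle : A ≤ Subgroup.centralizer ({e} : Set G) := hgen.trans (sup_le
        (fun d hd => Subgroup.mem_centralizer_singleton_iff.2 (Subgroup.mem_centralizer_iff.1 hd e he).symm)
        (fun w hw' => Subgroup.mem_centralizer_singleton_iff.2 (hw w hw')))
      exact Subgroup.mem_centralizer_iff.2 fun a ha => Subgroup.mem_centralizer_singleton_iff.1 (hle ha)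
    rcases hmin F inferInstance inf_le_left with h | h
    · exact he1 (Subgroup.mem_bot.1 (h ▸ (⟨he, heA⟩ : e ∈ F)))
    · exact hAD fun a ha => Subgroup.mem_centralizer_iff.2 fun b hb =>
        (Subgroup.mem_centralizer_iff.1 (h.ge hb).2 a ha).symm
  have hEW : W' ≤ Subgroup.normalizer (E : Set G) := by rw [Subgroup.normalizer_eq_top]; exact le_top
  have hWp : IsPGroup q W' := W.isPGroup'.map _
  by_cases hq2 : q = 2
  · -- a 2-group fixes a point of `E`
    subst hq2
    by_cases hE1 : E = ⊥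
    · apply hD
      refine (Subgroup.eq_top_iff' _).2 fun a => Subgroup.mem_centralizer_iff.2 fun b hb => ?_
      rw [Subgroup.mem_bot.1 (hE1.le hb), one_mul, mul_one]
    set X := W' ⊔ E with hX
    have hXp : IsPGroup 2 X := hWp.to_sup_of_normal_right hE2
    haveI := hXp.isNilpotent
    haveI : Nontrivial (E.subgroupOf X) := by
      rw [Subgroup.nontrivial_iff_ne_bot, Ne, Subgroup.subgroupOf_eq_bot, disjoint_iff, inf_eq_left.2 (le_sup_right : E ≤ X)]
      exact hE1
    haveI : (E.subgroupOf X).Normal := inferInstanceAs (Subgroup.comap X.subtype E).Normal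
    obtain ⟨z, hz, hz1⟩ := exists_center_mem hXp (E.subgroupOf X)
    exact hz1 (Subtype.ext (hfix _ hz.1 fun w hw =>
      congrArg Subtype.val (Subgroup.mem_center_iff.1 hz.2 ⟨w, Subgroup.mem_sup_left hw⟩)))
  · set N := Subgroup.normalizer (W' : Set G) with hN
    have hNodd : Odd (Nat.card N) := by
      rw [← Nat.not_even_iff_odd, even_iff_two_dvd]
      intro h2
      obtain ⟨⟨e, heN⟩, he⟩ := exists_prime_orderOf_dvd_card' (G := N) 2 h2
      rw [Subgroup.orderOf_mk] at he
      have heE := hinv e he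
      have he1 := hfix e heE fun w hw => by
        have h1 : e * w * e⁻¹ * w⁻¹ ∈ W' :=
          W'.mul_mem ((Subgroup.mem_normalizer_iff.1 heN w).1 hw) (W'.inv_mem hw)
        have h2' : e * w * e⁻¹ * w⁻¹ ∈ E := by
          rw [show e * w * e⁻¹ * w⁻¹ = e * (w * e⁻¹ * w⁻¹) by group]
          exact E.mul_mem heE (‹E.Normal›.conj_mem _ (E.inv_mem heE) w)
        have h4 : e * w * e⁻¹ * w⁻¹ = 1 := Subgroup.mem_bot.1
          ((disjoint_iff.1 (IsPGroup.disjoint_of_ne q 2 hq2 W' E hWp hE2)).le ⟨h1, h2'⟩)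
        exact (mul_inv_eq_iff_eq_mul.1 (mul_inv_eq_one.1 h4)).symm
      rw [he1, orderOf_one] at he
      omega
    have hfrat : N ⊔ A = ⊤ := Sylow.normalizer_sup_eq_top W
    have hND : N ⊔ D = ⊤ := by
      rw [eq_top_iff, ← hfrat]
      refine sup_le le_sup_left (hgen.trans (sup_le le_sup_right ?_))
      exact Subgroup.le_normalizer.trans le_sup_left
    have hsurj : Function.Surjective ((QuotientGroup.mk' D).comp N.subtype) := by
      intro y
      obtain ⟨g, rfl⟩ := QuotientGroup.mk'_surjective D y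
      obtain ⟨n, hn, d, hd, rfl⟩ := Subgroup.mem_sup_of_normal_right.1 (show g ∈ N ⊔ D by rw [hND]; trivial)
      refine ⟨⟨n, hn⟩, ?_⟩
      show (n : G ⧸ D) = ((n * d : G) : G ⧸ D)
      rw [QuotientGroup.mk_mul_of_mem n hd]
    have hQodd : Odd (Nat.card (G ⧸ D)) := hNodd.of_dvd_nat (Subgroup.card_dvd_of_surjective _ hsurj)
    have hQamb : ∀ x : G ⧸ D, IsConj x x⁻¹ := by
      intro x
      obtain ⟨g, rfl⟩ := QuotientGroup.mk'_surjective D x
      have := MonoidHom.map_isConj (QuotientGroup.mk' D) (hamb g)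
      rwa [map_inv] at this
    obtain ⟨a, b, hab⟩ := exists_pair_ne (G ⧸ D)
    exact hab ((eq_one_of_odd_of_inverted hQodd hQamb a).trans (eq_one_of_odd_of_inverted hQodd hQamb b).symm)
where
  exists_center_mem {X : Type _} [Group X] [Finite X] (hX : IsPGroup 2 X) (K : Subgroup X) [K.Normal] [Nontrivial K] :
      ∃ z, z ∈ K ⊓ Subgroup.center X ∧ z ≠ 1 := by
    haveI : Fact (Nat.Prime 2) := ⟨Nat.prime_two⟩
    letI : MulAction X K := MulAction.compHom K (MulAut.conjNormal (H := K))
    obtain ⟨j, hj0, hj⟩ := (hX.to_subgroup K).nontrivial_iff_card.1 inferInstance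
    obtain ⟨z, hz, hz1⟩ := hX.exists_fixed_point_of_prime_dvd_card_of_fixed_point K
      (hj ▸ dvd_pow_self 2 hj0.ne') (a := 1) (fun g => map_one (MulAut.conjNormal (H := K) g))
    refine ⟨z, ⟨z.2, Subgroup.mem_center_iff.2 fun g => ?_⟩, fun e => hz1 (Subtype.ext e).symm⟩
    have := congrArg Subtype.val (hz g)
    rw [show ((g • z : K) : X) = g * z * g⁻¹ from MulAut.conjNormal_apply g z] at this
    exact mul_inv_eq_iff_eq_mul.1 this

theorem unique_involution [Group.IsSolvable G] (hamb : ∀ x : G, IsConj x x⁻¹)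
    (hone : ∀ s t : G, orderOf s = 2 → orderOf t = 2 → IsConj s t) (S : Sylow 2 G)
    {s t : G} (hs : s ∈ (S : Subgroup G)) (ht : t ∈ (S : Subgroup G)) (hs2 : orderOf s = 2) (ht2 : orderOf t = 2) :
    s = t := by
  haveI : Fact (Nat.Prime 2) := ⟨Nat.prime_two⟩
  haveI hOn := oddCore_normal (G := G)
  set O := Cfsg.oddCore G with hO
  have hOodd : Odd (Nat.card O) := Cfsg.Agent.ExtLayer.oddCore_odd
  set f := QuotientGroup.mk' O with hf
  have hinj : ∀ a : G, a ∈ O → (∃ k : ℕ, orderOf a = 2 ^ k) → a = 1 := by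
    rintro a ha ⟨k, hk⟩
    exact orderOf_eq_one_iff.1 (Nat.eq_one_of_dvd_coprimes ((Nat.coprime_two_left.2 hOodd).pow_left k)
      hk.dvd (Subgroup.orderOf_dvd_natCard O ha))
  have hlift : ∀ y : G ⧸ O, orderOf y = 2 → ∃ g : G, orderOf g = 2 ∧ f g = y := by
    intro y hy
    obtain ⟨g, rfl⟩ := QuotientGroup.mk'_surjective O y
    obtain ⟨k, m, hm, hn⟩ := Nat.exists_eq_two_pow_mul_odd (orderOf_pos g).ne'
    obtain ⟨j, hj⟩ := hm
    have hy2 : f g ^ 2 = 1 := hy ▸ pow_orderOf_eq_one _
    have h1 : f (g ^ m) = f g := by rw [map_pow, hj, pow_succ, pow_mul, hy2, one_pow, one_mul]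
    have h2 : (g ^ m) ^ 2 ∈ O := (QuotientGroup.eq_one_iff _).1 (show f ((g ^ m) ^ 2) = 1 by rw [map_pow, h1, hy2])
    have h3 : (g ^ m) ^ 2 ^ k = 1 := by rw [← pow_mul, mul_comm, ← hn, pow_orderOf_eq_one]
    have h4 : (g ^ m) ^ 2 = 1 := hinj _ h2 (by
      obtain ⟨i, -, hi⟩ := (Nat.dvd_prime_pow Nat.prime_two).1
        ((orderOf_pow_dvd (x := g ^ m) 2).trans (orderOf_dvd_of_pow_eq_one h3))
      exact ⟨i, hi⟩)
    refine ⟨g ^ m, orderOf_eq_prime h4 fun e => ?_, h1⟩
    rw [e, map_one] at h1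
    rw [← h1, orderOf_one] at hy
    omega
  have himg : ∀ a, orderOf a = 2 → orderOf (f a) = 2 := fun a ha =>
    orderOf_eq_prime (by rw [← map_pow, ← ha, pow_orderOf_eq_one, map_one]) fun e => by
      have := hinj a ((QuotientGroup.eq_one_iff a).1 e) ⟨1, by rw [ha, pow_one]⟩
      rw [this, orderOf_one] at ha
      omega
  haveI : Nontrivial (G ⧸ O) := ⟨⟨f s, 1, fun e => by have := himg s hs2; rw [e, orderOf_one] at this; omega⟩⟩
  obtain ⟨p, hp, E, hEn, hE1, -, hEc, hEp, hEexp, hEmin⟩ :=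
    Cfsg.Agent.Solvable.exists_minimal_normal_pGroup (G := G ⧸ O) (N := ⊤) top_ne_bot
  haveI := hEn
  haveI := Fact.mk hp
  have hp2 : p = 2 := by
    by_contra hp2
    refine hE1 ((Subgroup.eq_bot_iff_forall _).2 fun y hy => ?_)
    obtain ⟨g, rfl⟩ := QuotientGroup.mk'_surjective O y
    have hle : E.comap f ≤ O := le_sSup ⟨hEn.comap f, by
      obtain ⟨k, hk⟩ := IsPGroup.iff_card.1 hEp
      have h1 : Nat.card (E.comap f) = p ^ k * Nat.card O := by
        rw [Cfsg.Agent.Solvable.card_eq_card_map_mul f (E.comap f),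
          Subgroup.map_comap_eq_self_of_surjective (QuotientGroup.mk'_surjective O), hk, QuotientGroup.ker_mk',
          inf_eq_right.2 (QuotientGroup.le_comap_mk' O E)]
      rw [h1]
      exact (((Nat.coprime_primes hp Nat.prime_two).2 hp2).pow_left k).mul_left (Nat.coprime_two_right.2 hOodd)⟩
    exact (QuotientGroup.eq_one_iff g).2 (hle hy)
  subst hp2
  have hQamb : ∀ x : G ⧸ O, IsConj x x⁻¹ := by
    intro x
    obtain ⟨g, rfl⟩ := QuotientGroup.mk'_surjective O x
    have := MonoidHom.map_isConj f (hamb g)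
    rwa [map_inv] at this
  have hQone : ∀ a b : G ⧸ O, orderOf a = 2 → orderOf b = 2 → IsConj a b := fun a b ha hb => by
    obtain ⟨x, hx, rfl⟩ := hlift a ha
    obtain ⟨y, hy, rfl⟩ := hlift b hb
    exact MonoidHom.map_isConj f (hone x y hx hy)
  have hinvE : ∀ x : G ⧸ O, orderOf x = 2 → x ∈ E := by
    intro x hx
    haveI : Nontrivial E := (Subgroup.nontrivial_iff_ne_bot E).2 hE1
    obtain ⟨⟨e, he⟩, he1⟩ := exists_ne (1 : E)
    obtain ⟨g, hg⟩ := isConj_iff.1 (hQone e x (orderOf_eq_prime (hEexp e he) fun e' => he1 (Subtype.ext e')) hx)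
    exact hg ▸ hEn.conj_mem e he g
  have hcen := minimal_central hQamb E hEp hEc hEmin hinvE
  have hst : f s = f t := by
    obtain ⟨g, hg⟩ := isConj_iff.1 (hQone (f s) (f t) (himg s hs2) (himg t ht2))
    have hc : g ∈ Subgroup.centralizer (E : Set (G ⧸ O)) := by rw [hcen]; trivial
    rw [← hg, ← Subgroup.mem_centralizer_iff.1 hc _ (hinvE _ (himg s hs2)), mul_inv_cancel_right]
  refine inv_mul_eq_one.1 (hinj _ ((QuotientGroup.eq).1 hst) ?_)
  obtain ⟨k, hk⟩ := IsPGroup.iff_orderOf.1 S.isPGroup' ⟨_, (S : Subgroup G).mul_mem ((S : Subgroup G).inv_mem hs) ht⟩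
  exact ⟨k, by rwa [Subgroup.orderOf_mk] at hk⟩

end

/-- Let G be a finite solvable group of even order in which every element is conjugate to its inverse and all involutions are conjugate. Then a Sylow 2-subgroup S of G has order 2 or is a generalized quaternion group (of order at least 8). Moreover, if S has order 2, then G is the semidirect product of its largest normal subgroup of odd order O(G) by S, O(G) equals the derived subgroup of G, and the involution of S inverts every element of O(G). -/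
theorem result {G : Type*} [Group G] [Finite G] [Group.IsSolvable G]
    (hamb : ∀ x : G, IsConj x x⁻¹) (heven : 2 ∣ Nat.card G) (hone : ∀ s t : G, orderOf s = 2 → orderOf t = 2 → IsConj s t) (S : Sylow 2 G) :
    (Nat.card S = 2 ∨ ∃ n : ℕ, Nonempty ((S : Subgroup G) ≃* QuaternionGroup (2 ^ (n + 1)))) ∧
    (Nat.card S = 2 → (S : Subgroup G).IsComplement' (Cfsg.oddCore G) ∧ Cfsg.oddCore G = commutator G ∧
        ∀ t : G, t ∈ S → t ≠ 1 → ∀ x : G, x ∈ Cfsg.oddCore G → t * x * t⁻¹ = x⁻¹) := by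
  haveI : Fact (Nat.Prime 2) := ⟨Nat.prime_two⟩
  haveI hOn := oddCore_normal (G := G)
  have hSdvd : 2 ∣ Nat.card S := S.dvd_card_of_dvd_card heven
  have huniq : ∀ H K : Subgroup (S : Subgroup G), Nat.card H = 2 → Nat.card K = 2 → H = K := by
    intro H K hH hK
    obtain ⟨⟨a, haH⟩, ha⟩ := exists_prime_orderOf_dvd_card' (G := H) 2 (dvd_of_eq hH.symm)
    obtain ⟨⟨b, hbK⟩, hb⟩ := exists_prime_orderOf_dvd_card' (G := K) 2 (dvd_of_eq hK.symm)
    rw [Subgroup.orderOf_mk] at ha hb
    have hab : a = b := Subtype.ext (unique_involution hamb hone S a.2 b.2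
      ((Subgroup.orderOf_coe a).trans ha) ((Subgroup.orderOf_coe b).trans hb))
    have h1 : Subgroup.zpowers a = H := Subgroup.eq_of_le_of_card_ge (Subgroup.zpowers_le.2 haH)
      (by rw [hH, Nat.card_zpowers, ha])
    have h2 : Subgroup.zpowers b = K := Subgroup.eq_of_le_of_card_ge (Subgroup.zpowers_le.2 hbK)
      (by rw [hK, Nat.card_zpowers, hb])
    rw [← h1, ← h2, hab]
  have hminFac : (Nat.card G).minFac = 2 := (Nat.minFac_eq_two_iff _).2 heven
  have hcyc : IsCyclic (S : Subgroup G) → Nat.card S = 2 := by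
    intro hc
    have hcomp := IsCyclic.isComplement' hminFac (P := S) hc
    set K := (MonoidHom.transferSylow S (hc.normalizer_le_centralizer hminFac)).ker with hK
    obtain ⟨g, hg⟩ := hc.exists_ofOrder_eq_natCard
    -- the generator is inverted modulo `K`
    obtain ⟨u, hu⟩ := isConj_iff.1 (hamb (g : G))
    obtain ⟨⟨⟨k, hk⟩, ⟨v, hv⟩⟩, rfl⟩ := hcomp.2 u
    have hKn : K.Normal := MonoidHom.normal_ker _
    have h1 : (g : G) * g ∈ K ⊓ (S : Subgroup G) := by
      refine ⟨?_, (S : Subgroup G).mul_mem g.2 g.2⟩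
      have hvg : v * g * v⁻¹ = (g : G) := by
        have e := congrArg Subtype.val ((IsCyclic.isMulCommutative (α := (S : Subgroup G))).is_comm.comm (⟨v, hv⟩ : (S : Subgroup G)) g)
        exact mul_inv_eq_iff_eq_mul.2 e
      have e : (g : G)⁻¹ = k * g * k⁻¹ := by
        rw [← hu]
        calc k * v * g * (k * v)⁻¹ = k * (v * g * v⁻¹) * k⁻¹ := by group
          _ = _ := by rw [hvg]
      have e2 : (g : G) * g = (k * ((g : G) * k⁻¹ * (g : G)⁻¹))⁻¹ := by
        rw [show k * ((g : G) * k⁻¹ * (g : G)⁻¹) = k * g * k⁻¹ * (g : G)⁻¹ by group, ← e]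
        simp only [mul_inv_rev, inv_inv]
      rw [e2]
      exact K.inv_mem (K.mul_mem hk (hKn.conj_mem _ (K.inv_mem hk) _))
    rw [disjoint_iff.1 hcomp.disjoint, Subgroup.mem_bot, ← pow_two] at h1
    have h2 : orderOf g ∣ 2 := orderOf_dvd_of_pow_eq_one (Subtype.ext (by simpa using h1))
    rw [hg] at h2
    exact Nat.dvd_antisymm h2 hSdvd
  refine ⟨?_, fun h2 => ?_⟩
  · rcases Cfsg.Agent.S0016.result 2 S.isPGroup' huniq with hc | ⟨-, n, ⟨e⟩⟩
    · exact Or.inl (hcyc hc)
    · rcases n with _ | n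
      · left
        haveI : IsCyclic (QuaternionGroup (2 ^ 0)) := by
          rw [pow_zero]; exact QuaternionGroup.quaternionGroup_one_isCyclic
        exact hcyc (e.isCyclic.2 inferInstance)
      · exact Or.inr ⟨n, ⟨e⟩⟩
  · haveI := isCyclic_of_prime_card h2
    have hc : IsCyclic (S : Subgroup G) := this
    have hcomp := IsCyclic.isComplement' hminFac (P := S) hc
    set K := (MonoidHom.transferSylow S (hc.normalizer_le_centralizer hminFac)).ker with hK
    have hKn : K.Normal := MonoidHom.normal_ker _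
    have hKodd : Odd (Nat.card K) := by
      rw [← Nat.not_even_iff_odd, even_iff_two_dvd]
      exact MonoidHom.not_dvd_card_ker_transferSylow S _
    have hKO : K = Cfsg.oddCore G := by
      refine le_antisymm (le_sSup ⟨hKn, Nat.coprime_two_right.2 hKodd⟩) fun x hx => ?_
      obtain ⟨⟨⟨k, hk⟩, ⟨v, hv⟩⟩, rfl⟩ := hcomp.2 x
      have hvO : v ∈ Cfsg.oddCore G := by
        have hkO : k ∈ Cfsg.oddCore G := le_sSup (show K ∈ {N : Subgroup G | N.Normal ∧ (Nat.card N).Coprime 2} from ⟨hKn, Nat.coprime_two_right.2 hKodd⟩) hk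
        exact (Subgroup.mul_mem_cancel_left _ hkO).1 hx
      have hv1 : v = 1 := by
        obtain ⟨j, hj⟩ := IsPGroup.iff_orderOf.1 S.isPGroup' ⟨v, hv⟩
        rw [Subgroup.orderOf_mk] at hj
        exact orderOf_eq_one_iff.1 (Nat.eq_one_of_dvd_coprimes
          ((Nat.coprime_two_left.2 Cfsg.Agent.ExtLayer.oddCore_odd).pow_left j) hj.dvd
          (Subgroup.orderOf_dvd_natCard _ hvO))
      show k * v ∈ K
      rw [hv1, mul_one]
      exact hk
    rw [← hKO]
    refine ⟨hcomp.symm, le_antisymm ?_ ?_, ?_⟩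
    · -- every element of `K` is a product of squares
      intro x hx
      obtain ⟨j, hj⟩ := hKodd.of_dvd_nat (Subgroup.orderOf_dvd_natCard K hx)
      have h3 := pow_orderOf_eq_one x
      rw [hj, pow_succ, pow_mul] at h3
      rw [eq_inv_of_mul_eq_one_right h3]
      exact Subgroup.inv_mem _ (Subgroup.pow_mem _ ((Cfsg.Agent.S4059.result hamb).2.2.1 x) j)
    · rw [_root_.commutator_def, Subgroup.commutator_le]
      intro a _ b _
      rw [hK, MonoidHom.mem_ker, map_commutatorElement, commutatorElement_eq_one_iff_mul_comm]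
      exact (IsCyclic.isMulCommutative (α := (S : Subgroup G))).is_comm.comm _ _
    · intro t ht ht1 x hx
      have ht2 : orderOf t = 2 := by
        have h := Subgroup.orderOf_dvd_natCard (S : Subgroup G) ht
        rw [h2] at h
        exact ((Nat.dvd_prime Nat.prime_two).1 h).resolve_left fun e => ht1 (orderOf_eq_one_iff.1 e)
      have htt : t * t = 1 := by rw [← pow_two, ← ht2, pow_orderOf_eq_one]
      have hti : t⁻¹ = t := inv_eq_of_mul_eq_one_right htt
      have hfpf : ∀ c ∈ K, t * c * t⁻¹ = c → c = 1 := by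
        intro c hc' e
        have hcS : c ∈ Subgroup.centralizer ((S : Subgroup G) : Set G) := by
          refine Subgroup.mem_centralizer_iff.2 fun a ha => ?_
          have hz : Subgroup.zpowers t = (S : Subgroup G) := Subgroup.eq_of_le_of_card_ge
            (Subgroup.zpowers_le.2 ht) (by rw [Nat.card_zpowers, ht2, h2])
          have hle : Subgroup.zpowers t ≤ Subgroup.centralizer ({c} : Set G) :=
            Subgroup.zpowers_le.2 (Subgroup.mem_centralizer_singleton_iff.2 (mul_inv_eq_iff_eq_mul.1 e))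
          exact Subgroup.mem_centralizer_singleton_iff.1 (hle (hz.ge ha))
        obtain ⟨g, hg⟩ := isConj_iff.1 (hamb c)
        have hsq := Cfsg.Agent.S4059.sq_eq_one_of_inverted S hcS hg
        obtain ⟨j, hj⟩ := hKodd.of_dvd_nat (Subgroup.orderOf_dvd_natCard K hc')
        have h3 := pow_orderOf_eq_one c
        rwa [hj, pow_succ, pow_mul, hsq, one_pow, one_mul] at h3
      let φ : K → K := fun c => ⟨(c : G)⁻¹ * (t * c * t⁻¹), K.mul_mem (K.inv_mem c.2) (hKn.conj_mem _ c.2 t)⟩
      have hinj : Function.Injective φ := by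
        intro a b e
        have e' : (a : G)⁻¹ * (t * a * t⁻¹) = (b : G)⁻¹ * (t * b * t⁻¹) := congrArg Subtype.val e
        refine Subtype.ext (mul_inv_eq_one.1 (hfpf _ (K.mul_mem b.2 (K.inv_mem a.2)) ?_)).symm
        calc t * ((b : G) * (a : G)⁻¹) * t⁻¹ = (b : G) * ((b : G)⁻¹ * (t * b * t⁻¹)) * (t * a * t⁻¹)⁻¹ := by group
          _ = (b : G) * ((a : G)⁻¹ * (t * a * t⁻¹)) * (t * a * t⁻¹)⁻¹ := by rw [e']
          _ = _ := by group
      obtain ⟨c, hc'⟩ := (Finite.injective_iff_surjective.1 hinj) ⟨x, hx⟩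
      have hcx : (c : G)⁻¹ * (t * c * t⁻¹) = x := congrArg Subtype.val hc'
      rw [← hcx, hti]
      simp only [mul_inv_rev, inv_inv, hti]
      calc t * ((c : G)⁻¹ * (t * c * t)) * t = t * (c : G)⁻¹ * t * c * (t * t) := by group
        _ = t * ((c : G)⁻¹ * (t * c)) := by rw [htt]; group
        _ = _ := by group

end Cfsg.Agent.S4061
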