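import Cfsg.Statements.S4062
import Cfsg.Agent.EqLemmas
import Cfsg.Agent.S4061
import Cfsg.Agent.Lib.PGroup.Basic

set_option autoImplicit false
open Cfsg

open scoped commutatorElement

namespace Cfsg.Agent.S4062

section

variable {H : Type*} [Group H] [Finite H]

/-- With trivial odd core, the one-class conditions force a cyclic Sylow 2-subgroup. -/
theorem not_generated_by_fours [Group.IsSolvable H] (hamb : ∀ x : H, IsConj x x⁻¹)
    (hone : ∀ s t : H, orderOf s = 2 → orderOf t = 2 → IsConj s t)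
    (hfour : ∀ s t : H, orderOf s = 4 → orderOf t = 4 → IsConj s t)
    (hO : ∀ N : Subgroup H, N.Normal → Odd (Nat.card N) → N = ⊥) (T : Sylow 2 H)
    (hgen : ∀ x ∈ (T : Subgroup H), ∃ u v : H, orderOf u = 4 ∧ orderOf v = 4 ∧ (x = u ∨ x = u * v))
    (hnc : ¬ IsCyclic (T : Subgroup H)) : False := by
  haveI : Fact (Nat.Prime 2) := ⟨Nat.prime_two⟩
  obtain ⟨x₀, -⟩ : ∃ x : H, x ≠ 1 := by
    by_contra hcon
    push Not at hcon
    haveI : Subsingleton (T : Subgroup H) := ⟨fun a b => Subtype.ext ((hcon a).trans (hcon b).symm)⟩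
    exact hnc inferInstance
  haveI : Nontrivial H := by
    by_contra hcon
    rw [not_nontrivial_iff_subsingleton] at hcon
    haveI := hcon
    exact hnc inferInstance
  obtain ⟨p, hp, E, hEn, hE1, -, hEc, hEp, hEexp, hEmin⟩ :=
    Cfsg.Agent.Solvable.exists_minimal_normal_pGroup (G := H) (N := ⊤) top_ne_bot
  haveI := hEn
  haveI := Fact.mk hp
  have hp2 : p = 2 := by
    by_contra hp2
    refine hE1 (hO E hEn ?_)
    obtain ⟨k, hk⟩ := IsPGroup.iff_card.1 hEp
    exact hk ▸ (hp.odd_of_ne_two hp2).pow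
  subst hp2
  have huniq : ∀ {U : Sylow 2 H} {a b : H}, a ∈ (U : Subgroup H) → b ∈ (U : Subgroup H) → orderOf a = 2 →
      orderOf b = 2 → a = b := fun ha hb h1 h2 => Cfsg.Agent.S4061.unique_involution hamb hone _ ha hb h1 h2
  have hE2 : Nat.card E ≤ 2 := by
    obtain ⟨U, hU⟩ := hEp.exists_le_sylow
    haveI : Nontrivial E := (Subgroup.nontrivial_iff_ne_bot E).2 hE1
    obtain ⟨e, he⟩ := exists_ne (1 : E)
    have hall : ∀ a : E, a = 1 ∨ a = e := by
      intro a
      by_cases ha : a = 1
      · exact Or.inl ha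
      · exact Or.inr (Subtype.ext (huniq (hU a.2) (hU e.2)
          (orderOf_eq_prime (hEexp _ a.2) fun e' => ha (Subtype.ext e'))
          (orderOf_eq_prime (hEexp _ e.2) fun e' => he (Subtype.ext e'))))
    have := Nat.card_le_card_of_surjective (α := Fin 2) (fun i => if i = 0 then (1 : E) else e) (fun a => by
      rcases hall a with h | h
      · exact ⟨0, by simp [h]⟩
      · exact ⟨1, by simp [h]⟩)
    simpa using this
  have hEcard : Nat.card E = 2 := le_antisymm hE2 (E.one_lt_card_iff_ne_bot.2 hE1)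
  have hET : ∀ x : H, x ^ 2 = 1 → x ∈ E := by
    intro x hx
    by_cases hx1 : x = 1
    · exact hx1 ▸ E.one_mem
    haveI : Nontrivial E := (Subgroup.nontrivial_iff_ne_bot E).2 hE1
    obtain ⟨e, he⟩ := exists_ne (1 : E)
    obtain ⟨g, hg⟩ := isConj_iff.1 (hone e x (orderOf_eq_prime (hEexp _ e.2) fun e' => he (Subtype.ext e'))
      (orderOf_eq_prime hx hx1))
    exact hg ▸ hEn.conj_mem _ e.2 g
  have hEcen : E ≤ Subgroup.center H := by
    intro e he
    refine Subgroup.mem_center_iff.2 fun g => ?_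
    by_cases he1 : e = 1
    · rw [he1, one_mul, mul_one]
    obtain ⟨U, hU⟩ := hEp.exists_le_sylow
    exact mul_inv_eq_iff_eq_mul.1 (huniq (hU (hEn.conj_mem e he g)) (hU he)
      (orderOf_eq_prime (hEexp _ (hEn.conj_mem e he g)) fun e' => he1 (conj_eq_one_iff.1 e'))
      (orderOf_eq_prime (hEexp _ he) he1))
  haveI : Nontrivial (H ⧸ E) := by
    by_contra hcon
    rw [not_nontrivial_iff_subsingleton] at hcon
    have htop : E = ⊤ := (Subgroup.eq_top_iff' E).2 fun x =>
      (QuotientGroup.eq_one_iff x).1 (hcon.elim _ _)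
    have h1 : Nat.card H = 2 := by rw [← hEcard, htop, Subgroup.card_top]
    haveI := isCyclic_of_prime_card h1
    exact hnc inferInstance
  obtain ⟨q, hq, M, hMn, hM1, hMq⟩ := Cfsg.Agent.Solvable.exists_normal_pGroup_ne_bot (H ⧸ E)
  haveI := Fact.mk hq
  haveI := hMn
  set A := M.comap (QuotientGroup.mk' E) with hA
  haveI hAn : A.Normal := hMn.comap _
  have hEA : E ≤ A := QuotientGroup.le_comap_mk' E M
  have hAcard : Nat.card A = Nat.card M * 2 := by
    rw [Cfsg.Agent.Solvable.card_eq_card_map_mul (QuotientGroup.mk' E) A, hA,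
      Subgroup.map_comap_eq_self_of_surjective (QuotientGroup.mk'_surjective E), QuotientGroup.ker_mk',
      inf_eq_right.2 (QuotientGroup.le_comap_mk' E M), hEcard]
  obtain ⟨j, hj⟩ := IsPGroup.iff_card.1 hMq
  by_cases hq2 : q = 2
  · subst hq2
    have hA2 : IsPGroup 2 A := IsPGroup.of_card (n := j + 1) (by rw [hAcard, hj, pow_succ])
    obtain ⟨a, ha, haE⟩ := SetLike.exists_of_lt (lt_of_le_of_ne hEA fun e => by
      rw [← e, hEcard] at hAcard
      have := M.one_lt_card_iff_ne_bot.2 hM1
      omega)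
    obtain ⟨k, hk⟩ := IsPGroup.iff_orderOf.1 hA2 ⟨a, ha⟩
    rw [Subgroup.orderOf_mk] at hk
    have hk2 : 2 ≤ k := by
      by_contra hk2
      exact haE (hET a (orderOf_dvd_iff_pow_eq_one.1 (hk ▸ pow_dvd_pow 2 (show k ≤ 1 by omega))))
    obtain ⟨i, rfl⟩ := Nat.le.dest hk2
    set b := a ^ 2 ^ i with hb
    have hb4 : orderOf b = 4 := by
      rw [hb, orderOf_pow' a (pow_ne_zero i two_ne_zero), hk, Nat.gcd_eq_right (pow_dvd_pow 2 (Nat.le_add_left i 2)),
        pow_add, Nat.mul_div_cancel _ (pow_pos two_pos i)]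
      norm_num
    have hb' : b ∈ A := A.pow_mem ha _
    have h4A : ∀ u, orderOf u = 4 → u ∈ A := fun u hu => by
      obtain ⟨g, hg⟩ := isConj_iff.1 (hfour b u hb4 hu)
      exact hg ▸ hAn.conj_mem b hb' g
    have hTA : (T : Subgroup H) ≤ A := by
      intro x hx
      obtain ⟨u, v, hu, hv, rfl | rfl⟩ := hgen x hx
      · exact h4A _ hu
      · exact A.mul_mem (h4A _ hu) (h4A _ hv)
    have hAT : A = (T : Subgroup H) := T.3 hA2 hTA
    -- the quotient by `A` is trivial
    have hodd : Odd (Nat.card (H ⧸ A)) := by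
      rw [← Nat.not_even_iff_odd, even_iff_two_dvd, ← Subgroup.index_eq_card, hAT]
      exact T.not_dvd_index
    have hqamb : ∀ x : H ⧸ A, IsConj x x⁻¹ := by
      intro x
      obtain ⟨g, rfl⟩ := QuotientGroup.mk'_surjective A x
      have := MonoidHom.map_isConj (QuotientGroup.mk' A) (hamb g)
      rwa [map_inv] at this
    have htop : A = ⊤ := (Subgroup.eq_top_iff' A).2 fun x =>
      (QuotientGroup.eq_one_iff x).1 (Cfsg.Agent.S4061.eq_one_of_odd_of_inverted hodd hqamb _)
    have hH : IsPGroup 2 H := IsPGroup.of_equiv hA2 ((MulEquiv.subgroupCongr htop).trans Subgroup.topEquiv)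
    have hcomm : ∀ u, orderOf u = 4 → u ∈ Subgroup.zpowers b ⊔ frattini H := by
      intro u hu
      obtain ⟨g, hg⟩ := isConj_iff.1 (hfour b u hb4 hu)
      have h1 : ⁅g, b⁆ * b = u := by rw [commutatorElement_def, ← hg]; group
      rw [← h1]
      exact Subgroup.mul_mem _ (Subgroup.mem_sup_right (Cfsg.Agent.PGroup.commutatorElement_mem_frattini hH g b))
        (Subgroup.mem_sup_left (Subgroup.mem_zpowers b))
    have hsup : Subgroup.zpowers b ⊔ frattini H = ⊤ := (Subgroup.eq_top_iff' _).2 fun x => by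
      obtain ⟨u, v, hu, hv, rfl | rfl⟩ := hgen x (hAT ▸ htop ▸ Subgroup.mem_top x)
      · exact hcomm _ hu
      · exact Subgroup.mul_mem _ (hcomm _ hu) (hcomm _ hv)
    haveI := Cfsg.Agent.PGroup.isCyclic_of_sup_frattini hsup
    exact hnc inferInstance
  · -- an odd normal subgroup would appear
    obtain ⟨R⟩ := (inferInstance : Nonempty (Sylow q A))
    have hEA' : E.subgroupOf A ≤ Subgroup.center A := fun e he =>
      Subgroup.mem_center_iff.2 fun g => Subtype.ext (Subgroup.mem_center_iff.1 (hEcen he) g)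
    have hRc : Nat.card (R : Subgroup A) = q ^ j := by
      rw [R.card_eq_multiplicity, hAcard, hj]
      congr 1
      rw [Nat.factorization_mul (pow_ne_zero _ hq.ne_zero) two_ne_zero, Finsupp.add_apply,
        Nat.Prime.factorization_pow hq, Finsupp.single_eq_same, Nat.Prime.factorization Nat.prime_two,
        Finsupp.single_eq_of_ne hq2, add_zero]
    have hRn : (R : Subgroup A).Normal := by
      rw [← Subgroup.normalizer_eq_top_iff]
      have h1 : (R : Subgroup A) ⊔ E.subgroupOf A ≤ Subgroup.normalizer ((R : Subgroup A) : Set A) :=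
        sup_le Subgroup.le_normalizer (hEA'.trans (by
          intro c hc
          refine Subgroup.mem_normalizer_iff.2 fun a => ?_
          rw [← Subgroup.mem_center_iff.1 hc a, mul_inv_cancel_right]))
      refine top_le_iff.1 (le_trans (le_of_eq ?_) h1)
      refine (Subgroup.eq_top_of_card_eq _ ?_).symm
      have hco : Nat.Coprime (q ^ j) 2 := ((Nat.coprime_primes hq Nat.prime_two).2 hq2).pow_left j
      refine Nat.dvd_antisymm (Subgroup.card_subgroup_dvd_card _) ?_
      rw [hAcard, hj]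
      refine hco.mul_dvd_of_dvd_of_dvd ?_ ?_
      · exact hRc ▸ Subgroup.card_dvd_of_le le_sup_left
      · refine (dvd_of_eq ?_).trans (Subgroup.card_dvd_of_le le_sup_right)
        rw [Nat.card_congr (Subgroup.subgroupOfEquivOfLe hEA).toEquiv, hEcard]
    haveI : (R : Subgroup A).Characteristic := Sylow.characteristic_of_normal R hRn
    have hR1 : (R : Subgroup A).map A.subtype = ⊥ := hO _ inferInstance (by
      rw [Subgroup.card_map_of_injective A.subtype_injective, hRc]
      exact (hq.odd_of_ne_two hq2).pow)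
    rw [Subgroup.map_eq_bot_iff_of_injective _ A.subtype_injective] at hR1
    rw [hR1, Subgroup.card_bot] at hRc
    rw [← hRc] at hj
    exact (M.one_lt_card_iff_ne_bot.2 hM1).ne' hj

end

/-- A finite solvable group in which any two elements of the same order are conjugate has order 1 or 2 or is isomorphic to the symmetric group of degree 3. -/
theorem result {G : Type*} [Group G] [Finite G] [Group.IsSolvable G]
    (h : ∀ x y : G, orderOf x = orderOf y → IsConj x y) :
    Nat.card G = 1 ∨ Nat.card G = 2 ∨ Nonempty (G ≃* Equiv.Perm (Fin 3)) := by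
  classical
  haveI : Fact (Nat.Prime 2) := ⟨Nat.prime_two⟩
  have hamb : ∀ x : G, IsConj x x⁻¹ := fun x => h x x⁻¹ (orderOf_inv x).symm
  by_cases heven : 2 ∣ Nat.card G
  swap
  · left
    haveI : Subsingleton G := ⟨fun a b => by
      have hodd : Odd (Nat.card G) := Nat.not_even_iff_odd.1 fun e => heven e.two_dvd
      rw [Cfsg.Agent.S4061.eq_one_of_odd_of_inverted hodd hamb a, Cfsg.Agent.S4061.eq_one_of_odd_of_inverted hodd hamb b]⟩
    exact Nat.card_of_subsingleton 1
  have hone : ∀ s t : G, orderOf s = 2 → orderOf t = 2 → IsConj s t := fun s t hs ht => h s t (hs.trans ht.symm)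
  obtain ⟨S⟩ := (inferInstance : Nonempty (Sylow 2 G))
  obtain ⟨hS, hS2⟩ := Cfsg.Agent.S4061.result hamb heven hone S
  rcases hS with hS | ⟨n, ⟨e⟩⟩
  · obtain ⟨hc, hOc, hinv⟩ := hS2 hS
    set K := Cfsg.oddCore G with hK
    haveI : K.Normal := Cfsg.Agent.S4061.oddCore_normal
    obtain ⟨⟨t, htS⟩, ht⟩ := exists_prime_orderOf_dvd_card' (G := (S : Subgroup G)) 2 (dvd_of_eq hS.symm)
    rw [Subgroup.orderOf_mk] at ht
    have ht1 : t ≠ 1 := fun e => by rw [e, orderOf_one] at ht; omega
    have hzp : Subgroup.zpowers t = (S : Subgroup G) := Subgroup.eq_of_le_of_card_ge (Subgroup.zpowers_le.2 htS)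
      (by rw [Nat.card_zpowers, ht, hS])
    have hKcomm : ∀ a ∈ K, ∀ b ∈ K, a * b = b * a := by
      intro a ha b hb
      have h1 := hinv t htS ht1 (a * b) (K.mul_mem ha hb)
      rw [show t * (a * b) * t⁻¹ = (t * a * t⁻¹) * (t * b * t⁻¹) by group, hinv t htS ht1 a ha, hinv t htS ht1 b hb,
        ← mul_inv_rev, inv_inj] at h1
      exact h1.symm
    have hclass : ∀ a ∈ K, ∀ b, orderOf b = orderOf a → b = a ∨ b = a⁻¹ := by
      intro a ha b hb
      obtain ⟨g, rfl⟩ := isConj_iff.1 (h a b hb.symm)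
      obtain ⟨⟨⟨v, hv⟩, ⟨k, hk⟩⟩, rfl⟩ := hc.2 g
      show v * k * a * (v * k)⁻¹ = a ∨ v * k * a * (v * k)⁻¹ = a⁻¹
      rw [show v * k * a * (v * k)⁻¹ = v * (k * a * k⁻¹) * v⁻¹ by group, hKcomm k hk a ha, mul_inv_cancel_right]
      by_cases hv1 : v = 1
      · left; rw [hv1]; group
      · exact Or.inr (hinv v hv hv1 a ha)
    have hKodd : Odd (Nat.card K) := Cfsg.Agent.ExtLayer.oddCore_odd
    have h3 : ∀ a ∈ K, a ≠ 1 → orderOf a = 3 := by
      intro a ha ha1
      have hco : (orderOf a).Coprime 2 := Nat.coprime_two_right.2 (hKodd.of_dvd_nat (Subgroup.orderOf_dvd_natCard K ha))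
      rcases hclass a ha (a ^ 2) hco.orderOf_pow with h1 | h1
      · exfalso
        rw [pow_two, mul_eq_left] at h1
        exact ha1 h1
      · refine orderOf_eq_prime ?_ ha1
        rw [pow_succ, h1, inv_mul_cancel]
    by_cases hK1 : K = ⊥
    · right; left
      rw [← hc.card_mul_card, hK1, Subgroup.card_bot, mul_one, hS]
    right; right
    haveI : Nontrivial K := (Subgroup.nontrivial_iff_ne_bot K).2 hK1
    obtain ⟨a, ha⟩ := exists_ne (1 : K)
    have hK3 : Nat.card K = 3 := by
      refine le_antisymm ?_ ?_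
      · have := Nat.card_le_card_of_surjective (α := Fin 3)
          (fun i => if i = 0 then (1 : K) else if i = 1 then a else a⁻¹) (fun b => by
            by_cases hb : b = 1
            · exact ⟨0, by simp [hb]⟩
            rcases hclass a a.2 b ((h3 b b.2 fun e => hb (Subtype.ext e)).trans (h3 a a.2 fun e => ha (Subtype.ext e)).symm) with h1 | h1
            · exact ⟨1, by simp [← Subtype.ext_iff.2 h1]⟩
            · exact ⟨2, by simp [Subtype.ext (h1.trans (Subgroup.coe_inv _ _).symm)]⟩)
        simpa using this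
      · have h2 : orderOf (a : G) = 3 := h3 a a.2 fun e => ha (Subtype.ext e)
        exact h2 ▸ Nat.le_of_dvd Nat.card_pos (Subgroup.orderOf_dvd_natCard K a.2)
    have hG6 : Nat.card G = 6 := by rw [← hc.card_mul_card, hS, hK3]
    have hidx : (S : Subgroup G).index = 3 := by
      have := Subgroup.index_mul_card (S : Subgroup G)
      rw [hG6, hS] at this
      omega
    have hcore : (S : Subgroup G).normalCore = ⊥ := by
      rw [Subgroup.eq_bot_iff_forall]
      intro x hx
      have hxS := Subgroup.normalCore_le _ hx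
      by_contra hx1
      have h1 : (a : G) * x * (a : G)⁻¹ ∈ (S : Subgroup G) :=
        Subgroup.normalCore_le _ ((Subgroup.normalCore_normal (S : Subgroup G)).conj_mem x hx a)
      have h2 : (a : G) * x * (a : G)⁻¹ * x⁻¹ ∈ (S : Subgroup G) ⊓ K :=
        ⟨(S : Subgroup G).mul_mem h1 ((S : Subgroup G).inv_mem hxS), by
          rw [show (a : G) * x * (a : G)⁻¹ * x⁻¹ = (a : G) * (x * (a : G)⁻¹ * x⁻¹) by group]
          exact K.mul_mem a.2 (‹K.Normal›.conj_mem _ (K.inv_mem a.2) x)⟩
      rw [disjoint_iff.1 hc.disjoint, Subgroup.mem_bot, mul_inv_eq_one, mul_inv_eq_iff_eq_mul] at h2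
      have h4 := hinv x hxS hx1 a a.2
      rw [mul_inv_eq_iff_eq_mul, ← h2, mul_left_inj] at h4
      exact (h3 a a.2 fun e => ha (Subtype.ext e)) |> fun h5 => by
        have h6 : (a : G) ^ 2 = 1 := by rw [pow_two]; conv_lhs => arg 1; rw [h4]
                                        exact inv_mul_cancel _
        have := orderOf_dvd_of_pow_eq_one h6
        rw [h5] at this
        omega
    let φ : G →* Equiv.Perm (G ⧸ (S : Subgroup G)) := MulAction.toPermHom G _
    have hinj : Function.Injective φ := (MonoidHom.ker_eq_bot_iff φ).1 (by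
      rw [← hcore, Subgroup.normalCore_eq_ker])
    haveI := Fintype.ofFinite (G ⧸ (S : Subgroup G))
    have hbij : Function.Bijective φ := by
      rw [Nat.bijective_iff_injective_and_card]
      refine ⟨hinj, ?_⟩
      rw [Nat.card_perm, ← Subgroup.index_eq_card, hidx, hG6]
      rfl
    exact ⟨(MulEquiv.ofBijective φ hbij).trans
      (Finite.equivFinOfCardEq ((Subgroup.index_eq_card _).symm.trans hidx)).permCongrHom⟩
  · exfalso
    haveI := Cfsg.Agent.S4061.oddCore_normal (G := G)
    set O := Cfsg.oddCore G with hO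
    have hOodd : Odd (Nat.card O) := Cfsg.Agent.ExtLayer.oddCore_odd
    set f := QuotientGroup.mk' O with hf
    have hinj : ∀ a : G, a ∈ O → (∃ k : ℕ, orderOf a = 2 ^ k) → a = 1 := by
      rintro a ha ⟨k, hk⟩
      exact orderOf_eq_one_iff.1 (Nat.eq_one_of_dvd_coprimes ((Nat.coprime_two_left.2 hOodd).pow_left k)
        hk.dvd (Subgroup.orderOf_dvd_natCard O ha))
    have hlift : ∀ (y : G ⧸ O) (k : ℕ), orderOf y = 2 ^ k → ∃ g : G, orderOf g = 2 ^ k ∧ f g = y := by
      intro y k hy
      obtain ⟨g, rfl⟩ := QuotientGroup.mk'_surjective O y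
      obtain ⟨l, m, hm, hn⟩ := Nat.exists_eq_two_pow_mul_odd (orderOf_pos g).ne'
      obtain ⟨j, hj⟩ := exists_pow_eq_self_of_coprime (x := f g) (n := m)
        (hy ▸ (Nat.coprime_two_right.2 hm).pow_right k)
      refine ⟨(g ^ m) ^ j, ?_, by rw [map_pow, map_pow, hj]⟩
      have h1 : ((g ^ m) ^ j) ^ 2 ^ k = 1 := by
        refine hinj _ ((QuotientGroup.eq_one_iff _).1 (show f _ = 1 by
          rw [map_pow, map_pow, map_pow, hj, ← hy, pow_orderOf_eq_one])) ?_
        obtain ⟨i, -, hi⟩ := (Nat.dvd_prime_pow Nat.prime_two).1 (orderOf_dvd_of_pow_eq_one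
          (show (((g ^ m) ^ j) ^ 2 ^ k) ^ 2 ^ l = 1 by
            rw [← pow_mul, ← pow_mul, ← pow_mul, show m * (j * (2 ^ k * 2 ^ l)) = 2 ^ l * m * (j * 2 ^ k) by ring,
              ← hn, pow_mul, pow_orderOf_eq_one, one_pow]))
        exact ⟨i, hi⟩
      refine Nat.dvd_antisymm (orderOf_dvd_of_pow_eq_one h1) ?_
      have h2 := orderOf_map_dvd f ((g ^ m) ^ j)
      rwa [map_pow, map_pow, hj, hy] at h2
    have hinjS : Function.Injective (f.comp (S : Subgroup G).subtype) := by
      refine (MonoidHom.ker_eq_bot_iff _).1 ((Subgroup.eq_bot_iff_forall _).2 fun a ha => Subtype.ext (hinj _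
        ((QuotientGroup.eq_one_iff _).1 ha) ?_))
      obtain ⟨k, hk⟩ := IsPGroup.iff_orderOf.1 S.isPGroup' a
      exact ⟨k, (Subgroup.orderOf_coe a).trans hk⟩
    have hQamb : ∀ x : G ⧸ O, IsConj x x⁻¹ := by
      intro x
      obtain ⟨g, rfl⟩ := QuotientGroup.mk'_surjective O x
      have := MonoidHom.map_isConj f (hamb g)
      rwa [map_inv] at this
    have hclassQ : ∀ (k : ℕ) (a b : G ⧸ O), orderOf a = 2 ^ k → orderOf b = 2 ^ k → IsConj a b := by
      intro k a b ha hb
      obtain ⟨x, hx, rfl⟩ := hlift a k ha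
      obtain ⟨y, hy, rfl⟩ := hlift b k hb
      exact MonoidHom.map_isConj f (h x y (hx.trans hy.symm))
    refine not_generated_by_fours hQamb (fun a b ha hb => hclassQ 1 a b (by rw [ha, pow_one]) (by rw [hb, pow_one]))
      (fun a b ha hb => hclassQ 2 a b (by rw [ha]; norm_num) (by rw [hb]; norm_num)) (fun N hN hodd => ?_)
      (S.mapSurjective (QuotientGroup.mk'_surjective O)) ?_ ?_
    · refine (Subgroup.eq_bot_iff_forall _).2 fun y hy => ?_
      obtain ⟨g, rfl⟩ := QuotientGroup.mk'_surjective O y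
      have hle : N.comap f ≤ O := le_sSup ⟨hN.comap f, Nat.coprime_two_right.2 (by
        rw [Cfsg.Agent.Solvable.card_eq_card_map_mul f (N.comap f),
          Subgroup.map_comap_eq_self_of_surjective (QuotientGroup.mk'_surjective O), QuotientGroup.ker_mk',
          inf_eq_right.2 (QuotientGroup.le_comap_mk' O N)]
        exact hodd.mul hOodd)⟩
      exact (QuotientGroup.eq_one_iff g).2 (hle hy)
    · rintro _ ⟨x, hx, rfl⟩
      haveI : NeZero (2 ^ (n + 1)) := ⟨by positivity⟩
      let F : (S : Subgroup G) →* G ⧸ O := f.comp (S : Subgroup G).subtype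
      have h4 : ∀ i, orderOf (F (e.symm (QuaternionGroup.xa i))) = 4 := fun i => by
        rw [orderOf_injective F hinjS, MulEquiv.orderOf_eq, QuaternionGroup.orderOf_xa]
      rcases he : e ⟨x, hx⟩ with i | i
      · refine ⟨F (e.symm (QuaternionGroup.xa 0)), F (e.symm (QuaternionGroup.xa (i - (2 ^ (n + 1) : ℕ)))),
          h4 _, h4 _, Or.inr ?_⟩
        rw [← map_mul, ← map_mul, QuaternionGroup.xa_mul_xa]
        show F ⟨x, hx⟩ = _
        congr 1
        apply e.injective
        rw [e.apply_symm_apply, he]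
        congr 1
        ring
      · refine ⟨F (e.symm (QuaternionGroup.xa i)), F (e.symm (QuaternionGroup.xa i)), h4 _, h4 _, Or.inl ?_⟩
        show F ⟨x, hx⟩ = _
        congr 1
        apply e.injective
        rw [e.apply_symm_apply, he]
    · intro hcyc
      have hcS : IsCyclic (S : Subgroup G) :=
        isCyclic_of_injective
          ((f.comp (S : Subgroup G).subtype).codRestrict (S.mapSurjective (QuotientGroup.mk'_surjective O) : Subgroup (G ⧸ O))
            fun a => ⟨a, a.2, rfl⟩) (fun a b e' => hinjS (congrArg Subtype.val e'))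
      haveI : IsCyclic (QuaternionGroup (2 ^ (n + 1))) := e.isCyclic.1 hcS
      haveI : NeZero (2 ^ (n + 1)) := ⟨by positivity⟩
      have h1 := IsCyclic.exponent_eq_card (α := QuaternionGroup (2 ^ (n + 1)))
      rw [QuaternionGroup.exponent, Nat.card_eq_fintype_card, QuaternionGroup.card] at h1
      have h2 : lcm (2 ^ (n + 1)) 2 = 2 ^ (n + 1) := Nat.lcm_eq_left (dvd_pow_self 2 (Nat.succ_ne_zero n))
      rw [h2] at h1
      have := pow_pos (two_pos : 0 < 2) (n + 1)
      omega

end Cfsg.Agent.S4062
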