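import Cfsg.Agent.Lib.CentralizerTI.Simple
import Cfsg.Agent.Lib.Linear.GenTools
import Cfsg.Agent.Lib.Solvable.Basic
-- import your own Cfsg.Agent.* helpers here

set_option autoImplicit false
open Cfsg

namespace Cfsg.Agent.S4064

open CentralizerTI

theorem no_p_sub {G : Type*} [Group G] [Finite G] (h : CTI G)
    (hnp : ∀ (p : ℕ), p.Prime → ∀ O : Subgroup G, O.Normal → IsPGroup p O → O = ⊥)
    (N : Subgroup G) [N.Normal] (T : Subgroup N) [T.Normal] [Group.IsSolvable T] : T = ⊥ := by
  by_contra hT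
  obtain ⟨p, hp, M, hMn, hM1, -, -, hMp, -, -⟩ := Solvable.exists_minimal_normal_pGroup hT
  haveI := Fact.mk hp
  obtain ⟨P⟩ := (inferInstance : Nonempty (Sylow p N))
  obtain ⟨hP1, hPn⟩ := (h.subgroup N).sylow_normal hMp hM1 P
  haveI := Sylow.characteristic_of_normal P hPn
  refine hP1 ((Subgroup.map_eq_bot_iff_of_injective _ N.subtype_injective).1
    (hnp p hp ((P : Subgroup N).map N.subtype) inferInstance (P.isPGroup'.map _)))

theorem simple_of_minimal {G : Type*} [Group G] [Finite G] (h : CTI G)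
    (hnp : ∀ (p : ℕ), p.Prime → ∀ O : Subgroup G, O.Normal → IsPGroup p O → O = ⊥)
    (N : Subgroup G) [hN : N.Normal] (hN1 : N ≠ ⊥)
    (hmin : ∀ K : Subgroup G, K.Normal → K ≤ N → K = ⊥ ∨ K = N) : IsSimpleGroup N := by
  haveI : Nontrivial N := (Subgroup.nontrivial_iff_ne_bot N).2 hN1
  refine { eq_bot_or_eq_top_of_normal := fun K hK => ?_ }
  by_contra hcon
  push Not at hcon
  obtain ⟨T, hT, hT1, hTK, hTmin⟩ := Solvable.exists_minimal_normal hcon.1
  haveI := hT
  set T' := T.map N.subtype with hT'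
  have hTN : T' ≤ N := Subgroup.map_subtype_le _
  obtain ⟨g, hg⟩ : ∃ g : G, ¬ T'.map (MulAut.conj g).toMonoidHom ≤ T' := by
    by_contra hall
    push Not at hall
    have hn : T'.Normal := ⟨fun x hx g => hall g ⟨x, hx, rfl⟩⟩
    rcases hmin T' hn hTN with e | e
    · exact hT1 ((Subgroup.map_eq_bot_iff_of_injective _ N.subtype_injective).1 e)
    · exact hcon.2 (top_le_iff.1 fun x _ => hTK (by
        obtain ⟨y, hy, hyx⟩ := e.symm.le x.2
        rwa [← Subtype.ext hyx]))
  let T₂ : Subgroup N := T.map (MulAut.conjNormal g).toMonoidHom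
  haveI hT₂ : T₂.Normal := hT.map _ (MulAut.conjNormal g).surjective
  have hinf : T ⊓ T₂ = ⊥ := by
    rcases hTmin (T ⊓ T₂) inferInstance inf_le_left with e | e
    · exact e
    exfalso
    refine hg ?_
    have hle : T ≤ T₂ := e ▸ inf_le_right
    have : T₂ = T := (Subgroup.eq_of_le_of_card_ge hle
      (Nat.card_congr ((T.equivMapOfInjective _ (MulAut.conjNormal g).injective).toEquiv)).ge).symm
    rintro _ ⟨_, ⟨x, hx, rfl⟩, rfl⟩
    exact ⟨MulAut.conjNormal g x, this.le ⟨x, hx, rfl⟩, MulAut.conjNormal_apply _ _⟩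
  obtain ⟨t, ht, ht1⟩ := (Subgroup.ne_bot_iff_exists_ne_one.1
    (fun e : T₂ = ⊥ => hT1 ((Subgroup.map_eq_bot_iff_of_injective _ (MulAut.conjNormal g).injective).1 e))
    |> fun ⟨t, ht⟩ => (⟨t.1, t.2, fun e => ht (Subtype.ext e)⟩ : ∃ t : N, t ∈ T₂ ∧ t ≠ 1))
  have hle : T ≤ Subgroup.centralizer ({t} : Set N) := fun x hx =>
    Subgroup.mem_centralizer_singleton_iff.2
      (Subgroup.commute_of_normal_of_disjoint T T₂ hT hT₂ (disjoint_iff.2 hinf) x t hx ht).eq
  haveI : Group.IsNilpotent (Subgroup.centralizer ({t} : Set N)) := (h.subgroup N).isCN t ht1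
  haveI : Group.IsNilpotent T := CN.isNilpotent_of_le hle
  haveI : Group.IsSolvable T := inferInstance
  exact hT1 (no_p_sub h hnp N T)


/-- Let G be a finite group in which the centralizer of every element meets each of its conjugates by elements outside its normalizer trivially. Then G is nilpotent; or G is a Frobenius group with a complement that is cyclic or isomorphic to the direct product of a cyclic group of odd order and the quaternion group of order 8; or G is isomorphic to PSL₂(2ⁿ) for some n ≥ 2. -/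
theorem result {G : Type*} [Group G] [Finite G] (hTI : ∀ x : G, Cfsg.IsTISubset (Subgroup.centralizer ({x} : Set G) : Set G)) :
    Group.IsNilpotent G ∨
    (∃ H : Subgroup G, Cfsg.IsFrobeniusComplement H ∧
      (IsCyclic H ∨ ∃ m : ℕ, Odd m ∧ Nonempty (H ≃* Multiplicative (ZMod m) × QuaternionGroup 2))) ∨
    (∃ n : ℕ, 2 ≤ n ∧ Nonempty (G ≃* Matrix.ProjectiveSpecialLinearGroup (Fin 2) (GaloisField 2 n))) := by
  have h : CTI G := hTI
  by_cases hex : ∃ (p : ℕ) (_ : p.Prime) (O : Subgroup G), O.Normal ∧ IsPGroup p O ∧ O ≠ ⊥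
  · obtain ⟨p, hp, O, hOn, hOp, hO1⟩ := hex
    haveI := Fact.mk hp
    rcases h.frobenius hOp hO1 with hn | hF
    · exact Or.inl hn
    · exact Or.inr (Or.inl hF)
  push Not at hex
  have hnp : ∀ (p : ℕ), p.Prime → ∀ O : Subgroup G, O.Normal → IsPGroup p O → O = ⊥ := hex
  rcases subsingleton_or_nontrivial G with hs | hnt
  · exact Or.inl inferInstance
  obtain ⟨N, hN, hN1, -, hNmin⟩ := Solvable.exists_minimal_normal (N := (⊤ : Subgroup G)) top_ne_bot
  haveI := hN
  haveI hsimp := simple_of_minimal h hnp N hN1 hNmin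
  have hns : ¬ Group.IsSolvable N := fun hsol => by
    obtain ⟨p, hp, M, hMn, hM1, -, -, hMp, -, -⟩ := Solvable.exists_minimal_normal_pGroup (N := N) hN1
    exact hM1 (hnp p hp M hMn hMp)
  have hnn : ¬ Group.IsNilpotent N := fun _ => hns inferInstance
  have hN' : CTI N := h.subgroup N
  have heven : 2 ∣ Nat.card N := by
    by_contra hodd
    exact hns (CN.isSolvable_of_odd _ N rfl
      (Nat.not_even_iff_odd.1 fun he => hodd he.two_dvd) hN'.isCN)
  haveI := Fact.mk Nat.prime_two
  obtain ⟨E⟩ := exists_setup hN' hnn heven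
  obtain ⟨hsq, F, iF, iFt, f, hf, hF, ⟨e⟩⟩ := E.classify hN'
  have htop : N = ⊤ := by
    refine top_le_iff.1 fun g _ => ?_
    obtain ⟨n, t, hnz, hnt', htinv, htA⟩ := E.exists_frame hsq (MulAut.conjNormal g)
    by_contra hgN
    set g' : G := (n : G) * g with hg'
    have hg'1 : g' ≠ 1 := fun e => hgN (by
      rw [show g = (n : G)⁻¹ * g' by rw [hg']; group, e, mul_one]; exact inv_mem n.2)
    have hfix : ∀ x : N, n * MulAut.conjNormal g x * n⁻¹ = x →
        (x : G) ∈ Subgroup.centralizer ({g'} : Set G) := by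
      intro x hx
      have hx' := congrArg Subtype.val hx
      rw [Subgroup.coe_mul, Subgroup.coe_mul, Subgroup.coe_inv, MulAut.conjNormal_apply] at hx'
      rw [Subgroup.mem_centralizer_singleton_iff, hg']
      calc (x : G) * ((n : G) * g) = ((n : G) * (g * x * g⁻¹) * (n : G)⁻¹) * ((n : G) * g) := by rw [hx']
        _ = (n : G) * g * x := by group
    set C := Subgroup.centralizer ({g'} : Set G) with hC
    have hCn : Group.IsNilpotent C := h.isCN g' hg'1
    obtain ⟨P⟩ := (inferInstance : Nonempty (Sylow 2 C))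
    have hinC : ∀ x : N, x * x = 1 → (x : G) ∈ C → (x : G) ∈ (P : Subgroup C).map C.subtype := by
      intro x hxx hxC
      have hPn : (P : Subgroup C).Normal :=
        ((Group.isNilpotent_of_finite_tfae (G := C)).out 0 3 rfl rfl).mp hCn 2 (Fact.mk Nat.prime_two) P
      have := Sylow.unique_of_normal P hPn
      have hp2 : IsPGroup 2 (Subgroup.zpowers (⟨(x : G), hxC⟩ : C)) := by
        intro y
        obtain ⟨y, hy⟩ := y
        obtain ⟨i, rfl⟩ := Subgroup.mem_zpowers_iff.1 hy
        refine ⟨1, Subtype.ext ?_⟩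
        show ((⟨(x : G), hxC⟩ : C) ^ i) ^ (2 ^ 1) = 1
        rw [pow_one, ← zpow_natCast, ← zpow_mul, mul_comm, zpow_mul, zpow_natCast, pow_two,
          show (⟨(x : G), hxC⟩ : C) * ⟨(x : G), hxC⟩ = 1 from Subtype.ext (by
            show (x : G) * x = 1
            rw [← Subgroup.coe_mul, hxx, Subgroup.coe_one]), one_zpow]
      obtain ⟨Q, hQ⟩ := hp2.exists_le_sylow
      exact ⟨⟨(x : G), hxC⟩, Subsingleton.elim Q P ▸ hQ (Subgroup.mem_zpowers _), rfl⟩
    set K := ((P : Subgroup C).map C.subtype).subgroupOf N with hK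
    have hzK : E.z ∈ K := hinC _ E.z_inv.2 (hfix _ hnz)
    have htK : t ∈ K := hinC _ htinv.2 (hfix _ hnt')
    have hKp : IsPGroup 2 K := (P.isPGroup'.map C.subtype).comap_of_injective _ N.subtype_injective
    haveI : Nontrivial K := ⟨⟨⟨t, htK⟩, 1, fun e => htinv.1 (congrArg Subtype.val e)⟩⟩
    haveI := hKp.center_nontrivial
    obtain ⟨w, hw⟩ := exists_ne (1 : Subgroup.center K)
    have hwc : ∀ x ∈ K, Commute ((w : K) : N) x := fun x hx =>
      (congrArg Subtype.val (Subgroup.mem_center_iff.1 w.2 ⟨x, hx⟩)).symm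
    have hw1 : ((w : K) : N) ≠ 1 := fun e => hw (Subtype.ext (Subtype.ext e))
    exact htA (E.cent_mem hw1 (E.mem_A.2 (hwc _ hzK)) (hwc _ htK).symm)
  refine Or.inr (Or.inr ⟨f, hf, ⟨?_⟩⟩)
  haveI : Fintype (GaloisField 2 f) := Fintype.ofFinite _
  have hcard : Fintype.card F = Fintype.card (GaloisField 2 f) := by
    rw [hF, ← Nat.card_eq_fintype_card, GaloisField.card 2 f (by omega)]
  exact (Subgroup.topEquiv.symm.trans ((MulEquiv.subgroupCongr htop.symm).trans e)).trans
    (Linear.pslMapEquiv (FiniteField.ringEquivOfCardEq hcard))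

end Cfsg.Agent.S4064
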