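import Cfsg.Statements.S4065
import Cfsg.Agent.EqLemmas

set_option autoImplicit false
open Cfsg

namespace Cfsg.Agent.S4065


open Matrix in
theorem comm_of_comm {F : Type*} [Field F] (A X Y : Matrix (Fin 2) (Fin 2) F)
    (hA : A 0 1 ≠ 0 ∨ A 1 0 ≠ 0 ∨ A 0 0 ≠ A 1 1) (hX : A * X = X * A) (hY : A * Y = Y * A) : X * Y = Y * X := by
  have eX := fun i j => congrFun (congrFun hX i) j
  have eY := fun i j => congrFun (congrFun hY i) j
  simp only [Matrix.mul_apply, Fin.sum_univ_two] at eX eY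
  have x00 := eX 0 0; have x01 := eX 0 1; have x10 := eX 1 0
  have y00 := eY 0 0; have y01 := eY 0 1; have y10 := eY 1 0
  clear eX eY hX hY
  have key : X 0 1 * Y 1 0 = X 1 0 * Y 0 1 ∧ (X 0 0 - X 1 1) * Y 0 1 = (Y 0 0 - Y 1 1) * X 0 1 ∧
      (X 0 0 - X 1 1) * Y 1 0 = (Y 0 0 - Y 1 1) * X 1 0 := by
    rcases hA with h | h | h
    · have k1 : X 0 1 * Y 1 0 = X 1 0 * Y 0 1 := mul_left_cancel₀ h (by
        linear_combination X 0 1 * y00 - Y 0 1 * x00)
      refine ⟨k1, mul_left_cancel₀ h ?_, mul_left_cancel₀ h ?_⟩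
      · linear_combination X 0 1 * y01 - Y 0 1 * x01
      · linear_combination X 1 0 * y01 - Y 1 0 * x01 + (A 0 0 - A 1 1) * k1
    · have k1 : X 0 1 * Y 1 0 = X 1 0 * Y 0 1 := mul_left_cancel₀ h (by
        linear_combination X 1 0 * y00 - Y 1 0 * x00)
      refine ⟨k1, mul_left_cancel₀ h ?_, mul_left_cancel₀ h ?_⟩
      · linear_combination Y 0 1 * x10 - X 0 1 * y10 - (A 0 0 - A 1 1) * k1
      · linear_combination Y 1 0 * x10 - X 1 0 * y10
    · have h' : A 0 0 - A 1 1 ≠ 0 := sub_ne_zero.2 h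
      have k3 : (X 0 0 - X 1 1) * Y 1 0 = (Y 0 0 - Y 1 1) * X 1 0 := mul_left_cancel₀ h' (by
        linear_combination (Y 0 0 - Y 1 1) * x10 - (X 0 0 - X 1 1) * y10)
      refine ⟨mul_left_cancel₀ h' ?_, mul_left_cancel₀ h' ?_, k3⟩
      · linear_combination Y 1 0 * x01 - X 1 0 * y01 + A 0 1 * k3
      · linear_combination (X 0 0 - X 1 1) * y01 - (Y 0 0 - Y 1 1) * x01
  obtain ⟨k1, k2, k3⟩ := key
  ext i j
  fin_cases i <;> fin_cases j <;> simp [Matrix.mul_apply, Fin.sum_univ_two]
  · linear_combination k1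
  · linear_combination k2
  · linear_combination -k3
  · linear_combination -k1

/-- Let F be a finite field with 2ⁿ elements, n ≥ 2. In PSL₂(F) the centralizer of every element meets each of its conjugates by elements outside its normalizer trivially. -/
theorem result (n : ℕ) (hn : 2 ≤ n)
    (x : Matrix.ProjectiveSpecialLinearGroup (Fin 2) (GaloisField 2 n)) :
    Cfsg.IsTISubset (Subgroup.centralizer ({x} : Set (Matrix.ProjectiveSpecialLinearGroup (Fin 2) (GaloisField 2 n))) :
      Set (Matrix.ProjectiveSpecialLinearGroup (Fin 2) (GaloisField 2 n))) := by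
  haveI : Finite (GaloisField 2 n) := inferInstance
  have hchar : (2 : GaloisField 2 n) = 0 := CharP.cast_eq_zero (GaloisField 2 n) 2
  -- the centre of SL₂ in characteristic 2 is trivial
  have hcen : ∀ z : Matrix.SpecialLinearGroup (Fin 2) (GaloisField 2 n),
      z ∈ Subgroup.center (Matrix.SpecialLinearGroup (Fin 2) (GaloisField 2 n)) → z = 1 := by
    intro z hz
    obtain ⟨r, hr, he⟩ := Matrix.SpecialLinearGroup.mem_center_iff.1 hz
    simp only [Fintype.card_fin] at hr
    have hr1 : r = 1 := by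
      have : (r - 1) ^ 2 = 0 := by linear_combination hr + (1 - r) * hchar
      exact sub_eq_zero.1 (pow_eq_zero_iff two_ne_zero |>.1 this)
    subst hr1
    apply Subtype.ext
    rw [← he, map_one]
    rfl
  let π := QuotientGroup.mk' (Subgroup.center (Matrix.SpecialLinearGroup (Fin 2) (GaloisField 2 n)))
  have hinj : Function.Injective π := by
    rw [← MonoidHom.ker_eq_bot_iff, QuotientGroup.ker_mk', Subgroup.eq_bot_iff_forall]
    exact hcen
  have hCA : ∀ a b c : Matrix.ProjectiveSpecialLinearGroup (Fin 2) (GaloisField 2 n),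
      a ≠ 1 → a * b = b * a → a * c = c * a → b * c = c * b := by
    intro a b c ha hab hac
    obtain ⟨A, rfl⟩ := QuotientGroup.mk'_surjective _ a
    obtain ⟨B, rfl⟩ := QuotientGroup.mk'_surjective _ b
    obtain ⟨C, rfl⟩ := QuotientGroup.mk'_surjective _ c
    have hAB : A * B = B * A := hinj (by rw [map_mul, map_mul]; exact hab)
    have hAC : A * C = C * A := hinj (by rw [map_mul, map_mul]; exact hac)
    have hA : A ≠ 1 := fun e => ha (e ▸ map_one _)
    have hns : (A : Matrix (Fin 2) (Fin 2) (GaloisField 2 n)) 0 1 ≠ 0 ∨ A 1 0 ≠ 0 ∨ A 0 0 ≠ A 1 1 := by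
      by_contra hcon
      simp only [ne_eq, not_or, not_not] at hcon
      obtain ⟨h1, h2, h3⟩ := hcon
      apply hA
      have hdet := A.det_coe
      rw [Matrix.det_fin_two, h1, h2, ← h3] at hdet
      have hr1 : A 0 0 = 1 := by
        have : (A 0 0 - 1) ^ 2 = 0 := by linear_combination hdet + (1 - A 0 0) * hchar
        exact sub_eq_zero.1 (pow_eq_zero_iff two_ne_zero |>.1 this)
      ext i j
      fin_cases i <;> fin_cases j <;> simp [h1, h2, hr1, ← h3]
    rw [← map_mul, ← map_mul]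
    congr 1
    apply Subtype.ext
    exact comm_of_comm A.1 B.1 C.1 hns (congrArg Subtype.val hAB) (congrArg Subtype.val hAC)
  intro g hg y hy hy'
  by_contra hy1
  apply hg
  by_cases hx : x = 1
  · subst hx
    rw [Subgroup.mem_set_normalizer_iff]
    simp [Subgroup.mem_centralizer_singleton_iff]
  have hmem : ∀ a : Matrix.ProjectiveSpecialLinearGroup (Fin 2) (GaloisField 2 n),
      a ∈ Subgroup.centralizer ({x} : Set (Matrix.ProjectiveSpecialLinearGroup (Fin 2) (GaloisField 2 n))) ↔ x * a = a * x :=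
    fun a => Subgroup.mem_centralizer_singleton_iff.trans eq_comm
  rw [SetLike.mem_coe, hmem] at hy hy'
  have hy1' : g * y * g⁻¹ ≠ 1 := fun e => hy1 (conj_eq_one_iff.1 e)
  rw [Subgroup.mem_set_normalizer_iff]
  intro a
  simp only [SetLike.mem_coe, hmem]
  constructor
  · intro ha
    have h1 : y * a = a * y := hCA x y a hx hy ha
    have h2 : (g * y * g⁻¹) * (g * a * g⁻¹) = (g * a * g⁻¹) * (g * y * g⁻¹) := by
      calc (g * y * g⁻¹) * (g * a * g⁻¹) = g * (y * a) * g⁻¹ := by group
        _ = g * (a * y) * g⁻¹ := by rw [h1]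
        _ = _ := by group
    exact hCA _ _ _ hy1' hy'.symm h2
  · intro ha
    have h1 : (g * y * g⁻¹) * (g * a * g⁻¹) = (g * a * g⁻¹) * (g * y * g⁻¹) := hCA x _ _ hx hy' ha
    have h2 : y * a = a * y := by
      calc y * a = g⁻¹ * ((g * y * g⁻¹) * (g * a * g⁻¹)) * g := by group
        _ = g⁻¹ * ((g * a * g⁻¹) * (g * y * g⁻¹)) * g := by rw [h1]
        _ = a * y := by group
    exact hCA _ _ _ hy1 hy.symm h2

end Cfsg.Agent.S4065
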