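import Cfsg.Statements.S4068
import Cfsg.Agent.EqLemmas
import Cfsg.Agent.Lib.CharApp.Burnside
import Cfsg.Agent.Lib.Coprime.Generation
import Cfsg.Agent.Lib.Frobenius.Complement
import Cfsg.Agent.Lib.PSL2.Groups

set_option autoImplicit false
open Cfsg

namespace Cfsg.Agent.S4068


section

variable {G : Type*} [Group G] [Finite G]

/-- Four automorphism orbits in a group with three primes: every element has prime order and the
automorphism group is transitive on the elements of each order. -/
theorem orders_of_four (T : Finset ℕ) (hT : ∀ p ∈ T, p.Prime ∧ p ∣ Nat.card G) (hT3 : 3 ≤ T.card)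
    (h4 : Nat.card (MulAction.orbitRel.Quotient (MulAut G) G) = 4) :
    T.card = 3 ∧ (∀ g : G, g ≠ 1 → orderOf g ∈ T) ∧
      ∀ x y : G, orderOf x = orderOf y → ∃ φ : MulAut G, φ x = y := by
  classical
  let F : MulAction.orbitRel.Quotient (MulAut G) G → ℕ := Quotient.lift orderOf (fun a b h => by
    obtain ⟨φ, hφ⟩ := h
    rw [← hφ]
    exact MulEquiv.orderOf_eq φ b)
  haveI := Fintype.ofFinite (MulAction.orbitRel.Quotient (MulAut G) G)
  have hF : ∀ g : G, F (Quotient.mk'' g) = orderOf g := fun g => rfl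
  have hsub : insert 1 T ⊆ Finset.univ.image F := by
    intro m hm
    rcases Finset.mem_insert.1 hm with rfl | hm
    · exact Finset.mem_image.2 ⟨Quotient.mk'' 1, Finset.mem_univ _, by rw [hF, orderOf_one]⟩
    · haveI := Fact.mk (hT m hm).1
      obtain ⟨x, hx⟩ := exists_prime_orderOf_dvd_card' (G := G) m (hT m hm).2
      exact Finset.mem_image.2 ⟨Quotient.mk'' x, Finset.mem_univ _, by rw [hF, hx]⟩
  have h1T : (1 : ℕ) ∉ T := fun h => Nat.not_prime_one (hT 1 h).1
  rw [Nat.card_eq_fintype_card] at h4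
  have hle : (Finset.univ.image F).card ≤ 4 := by rw [← h4]; exact Finset.card_image_le
  have hle' := (Finset.card_le_card hsub).trans hle
  rw [Finset.card_insert_of_notMem h1T] at hle'
  have hT' : T.card = 3 := by omega
  have heq : insert 1 T = Finset.univ.image F :=
    Finset.eq_of_subset_of_card_le hsub (by rw [Finset.card_insert_of_notMem h1T, hT']; exact hle)
  have hinj : Set.InjOn F (↑(Finset.univ : Finset (MulAction.orbitRel.Quotient (MulAut G) G))) :=
    Finset.injOn_of_card_image_eq (by rw [← heq, Finset.card_insert_of_notMem h1T, hT', Finset.card_univ, h4])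
  refine ⟨hT', fun g hg => ?_, fun a b hab => ?_⟩
  · have h : F (Quotient.mk'' g) ∈ insert 1 T := heq ▸ Finset.mem_image_of_mem _ (Finset.mem_univ _)
    rw [hF] at h
    exact (Finset.mem_insert.1 h).resolve_left (fun h => hg (orderOf_eq_one_iff.1 h))
  · have h : (Quotient.mk'' b : MulAction.orbitRel.Quotient (MulAut G) G) = Quotient.mk'' a :=
      hinj (Finset.mem_univ _) (Finset.mem_univ _) (by rw [hF, hF, hab])
    exact Quotient.eq''.1 h

/-- The hypotheses used in the counting. -/
structure Hyp (G : Type*) [Group G] (T : Finset ℕ) : Prop where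
  prime : ∀ p ∈ T, p.Prime
  card_three : T.card = 3
  primes : ∀ r : ℕ, r.Prime → r ∣ Nat.card G → r ∈ T
  dvd : ∀ p ∈ T, p ∣ Nat.card G
  order : ∀ g : G, g ≠ 1 → orderOf g ∈ T
  central : ∀ x y : G, orderOf x = orderOf y →
    Nat.card (Subgroup.centralizer ({x} : Set G)) = Nat.card (Subgroup.centralizer ({y} : Set G))
  not_solvable : ¬ Group.IsSolvable G

variable {T : Finset ℕ}

theorem Hyp.prime_order (h : Hyp G T) {g : G} (hg : g ≠ 1) : (orderOf g).Prime := h.prime _ (h.order g hg)

theorem Hyp.not_commute (h : Hyp G T) {x y : G} (hx : x ≠ 1) (hy : y ≠ 1) (hne : orderOf x ≠ orderOf y) :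
    ¬ Commute x y := by
  intro hc
  have hp := h.prime_order hx
  have hq := h.prime_order hy
  have hmul := hc.orderOf_mul_eq_mul_orderOf_of_coprime ((Nat.coprime_primes hp hq).2 hne)
  by_cases hxy : x * y = 1
  · rw [hxy, orderOf_one] at hmul
    exact hp.ne_one (Nat.eq_one_of_mul_eq_one_right hmul.symm)
  · have := h.prime_order hxy
    rw [hmul] at this
    exact Nat.not_prime_mul hp.ne_one hq.ne_one this

theorem Hyp.isPGroup_centralizer (h : Hyp G T) {p : ℕ} [hp : Fact p.Prime] {y : G} (hy : orderOf y = p) :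
    IsPGroup p (Subgroup.centralizer ({y} : Set G)) := by
  have hy1 : y ≠ 1 := fun e => hp.out.ne_one (by rw [← hy, e, orderOf_one])
  rintro ⟨x, hx⟩
  refine ⟨1, Subtype.ext ?_⟩
  show x ^ p ^ 1 = 1
  rw [pow_one]
  by_cases hx1 : x = 1
  · rw [hx1, one_pow]
  by_cases he : orderOf x = orderOf y
  · rw [← hy, ← he, pow_orderOf_eq_one]
  · exact absurd (Subgroup.mem_centralizer_singleton_iff.1 hx) (h.not_commute hx1 hy1 he)

theorem Hyp.orderOf_eq (h : Hyp G T) {p : ℕ} [hp : Fact p.Prime] {H : Subgroup G} (hH : IsPGroup p H)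
    {x : G} (hx : x ∈ H) (hx1 : x ≠ 1) : orderOf x = p := by
  obtain ⟨j, hj⟩ := IsPGroup.iff_orderOf.1 hH ⟨x, hx⟩
  rw [Subgroup.orderOf_mk] at hj
  have hpr := h.prime_order hx1
  exact (Nat.prime_dvd_prime_iff_eq hpr hp.out).1 (hpr.dvd_of_dvd_pow hj.dvd)

/-- The centre of a subgroup, as a subgroup of the group. -/
def zen (H : Subgroup G) : Subgroup G := H ⊓ Subgroup.centralizer (H : Set G)

instance zen_comm (H : Subgroup G) : IsMulCommutative (zen H) :=
  ⟨⟨fun a b => Subtype.ext (Subgroup.mem_centralizer_iff.1 b.2.2 _ a.2.1)⟩⟩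

theorem exists_zen_ne_one {p : ℕ} [hp : Fact p.Prime] {H : Subgroup G} (hH : IsPGroup p H) (hne : H ≠ ⊥) :
    ∃ z ∈ zen H, z ≠ 1 := by
  haveI : Nontrivial H := (Subgroup.nontrivial_iff_ne_bot H).2 hne
  haveI := hH.center_nontrivial
  obtain ⟨z, hz⟩ := exists_ne (1 : Subgroup.center H)
  refine ⟨((z : H) : G), ⟨(z : H).2, Subgroup.mem_centralizer_iff.2 fun a ha => ?_⟩,
    fun e => hz (Subtype.ext (Subtype.ext e))⟩
  exact congrArg Subtype.val (Subgroup.mem_center_iff.1 z.2 ⟨a, ha⟩)

theorem Hyp.centralizer_sylow (h : Hyp G T) {p : ℕ} [hp : Fact p.Prime] {y : G} (hy : orderOf y = p) :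
    ∃ Q : Sylow p G, (Q : Subgroup G) = Subgroup.centralizer ({y} : Set G) := by
  obtain ⟨P, hP⟩ := (IsPGroup.of_card (n := 1) (by rw [Nat.card_zpowers, hy, pow_one]) :
    IsPGroup p (Subgroup.zpowers y)).exists_le_sylow
  have hPne : (P : Subgroup G) ≠ ⊥ := fun e => by
    have : y ∈ (⊥ : Subgroup G) := e ▸ hP (Subgroup.mem_zpowers y)
    rw [Subgroup.mem_bot.1 this, orderOf_one] at hy
    exact hp.out.ne_one hy.symm
  obtain ⟨z, hz, hz1⟩ := exists_zen_ne_one P.isPGroup' hPne
  have hzp : orderOf z = p := h.orderOf_eq P.isPGroup' hz.1 hz1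
  have hPz : (P : Subgroup G) ≤ Subgroup.centralizer ({z} : Set G) := fun a ha =>
    Subgroup.mem_centralizer_singleton_iff.2 (Subgroup.mem_centralizer_iff.1 hz.2 a ha)
  have hCz : Subgroup.centralizer ({z} : Set G) = (P : Subgroup G) := P.3 (h.isPGroup_centralizer hzp) hPz
  have hcard : Nat.card (Subgroup.centralizer ({y} : Set G)) = p ^ (Nat.card G).factorization p := by
    rw [h.central y z (hy.trans hzp.symm), hCz, P.card_eq_multiplicity]
  refine ⟨Sylow.ofCard (Subgroup.centralizer ({y} : Set G)) hcard, ?_⟩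
  rfl

theorem Hyp.centralizer_eq (h : Hyp G T) {p : ℕ} [hp : Fact p.Prime] (P : Sylow p G) {z : G}
    (hz : z ∈ zen (P : Subgroup G)) (hz1 : z ≠ 1) : Subgroup.centralizer ({z} : Set G) = (P : Subgroup G) :=
  P.3 (h.isPGroup_centralizer (h.orderOf_eq P.isPGroup' hz.1 hz1)) fun a ha =>
    Subgroup.mem_centralizer_singleton_iff.2 (Subgroup.mem_centralizer_iff.1 hz.2 a ha)

theorem card_zen_ne_one (H : Subgroup G) :
    Nat.card {z : zen H // z ≠ 1} + 1 = Nat.card (zen H) := by
  classical
  haveI := Fintype.ofFinite (zen H)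
  rw [Nat.card_eq_fintype_card, Nat.card_eq_fintype_card, Fintype.card_subtype_compl,
    Fintype.card_subtype_eq]
  have : 0 < Fintype.card (zen H) := Fintype.card_pos
  omega

/-- Counting the elements of order `p`. -/
theorem Hyp.card_order (h : Hyp G T) {p : ℕ} [hp : Fact p.Prime] (P : Sylow p G) :
    Nat.card {x : G // orderOf x = p} = Nat.card (Sylow p G) * Nat.card {z : zen (P : Subgroup G) // z ≠ 1} := by
  classical
  let e : (Σ Q : Sylow p G, {z : zen (Q : Subgroup G) // z ≠ 1}) → {x : G // orderOf x = p} :=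
    fun a => ⟨((a.2.1 : zen (a.1 : Subgroup G)) : G), h.orderOf_eq a.1.isPGroup' a.2.1.2.1
      (fun e => a.2.2 (Subtype.ext e))⟩
  have he : Function.Bijective e := by
    constructor
    · rintro ⟨Q, z, hz⟩ ⟨Q', z', hz'⟩ hzz
      have hval : (z : G) = z' := congrArg Subtype.val hzz
      have h1 : Q = Q' := Sylow.ext (by
        rw [← h.centralizer_eq Q z.2 (fun e => hz (Subtype.ext e)),
          ← h.centralizer_eq Q' z'.2 (fun e => hz' (Subtype.ext e)), hval])
      subst h1
      obtain rfl : z = z' := Subtype.ext hval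
      rfl
    · rintro ⟨x, hx⟩
      obtain ⟨Q, hQ⟩ := h.centralizer_sylow hx
      have hmem : x ∈ zen (Q : Subgroup G) := by
        refine ⟨hQ.symm ▸ Subgroup.mem_centralizer_singleton_iff.2 rfl, Subgroup.mem_centralizer_iff.2 fun a ha => ?_⟩
        rw [hQ] at ha
        exact Subgroup.mem_centralizer_singleton_iff.1 ha
      exact ⟨⟨Q, ⟨x, hmem⟩, fun e => hp.out.ne_one (by
        rw [← hx, show x = 1 from congrArg Subtype.val e, orderOf_one])⟩, rfl⟩
  have := Fintype.ofFinite (Sylow p G)
  rw [← Nat.card_congr (Equiv.ofBijective e he), Nat.card_sigma, Nat.card_eq_fintype_card (α := Sylow p G),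
    ← Finset.card_univ, ← smul_eq_mul, ← Finset.sum_const]
  refine Finset.sum_congr rfl fun Q _ => ?_
  obtain ⟨g, hg⟩ := MulAction.exists_smul_eq G P Q
  have hmap : (zen (P : Subgroup G)).map (MulAut.conj g).toMonoidHom = zen (Q : Subgroup G) := by
    have hQ : (Q : Subgroup G) = (P : Subgroup G).map (MulAut.conj g).toMonoidHom := by
      rw [← hg, Sylow.coe_subgroup_smul]; rfl
    ext x
    rw [hQ]
    constructor
    · rintro ⟨a, ⟨ha1, ha2⟩, rfl⟩
      refine ⟨⟨a, ha1, rfl⟩, Subgroup.mem_centralizer_iff.2 ?_⟩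
      rintro _ ⟨b, hb, rfl⟩
      rw [← map_mul, ← map_mul, Subgroup.mem_centralizer_iff.1 ha2 b hb]
    · rintro ⟨⟨a, ha, rfl⟩, hx2⟩
      refine ⟨a, ⟨ha, Subgroup.mem_centralizer_iff.2 fun b hb => ?_⟩, rfl⟩
      refine (MulAut.conj g).injective ?_
      rw [map_mul, map_mul]
      exact Subgroup.mem_centralizer_iff.1 hx2 _ ⟨b, hb, rfl⟩
  have hc : Nat.card (zen (Q : Subgroup G)) = Nat.card (zen (P : Subgroup G)) := by
    rw [← hmap]; exact Subgroup.card_map_of_injective (MulAut.conj g).injective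
  have h1 := card_zen_ne_one (Q : Subgroup G)
  have h2 := card_zen_ne_one (P : Subgroup G)
  omega

/-- Everything the arithmetic needs to know about one prime. -/
theorem Hyp.prime_data (h : Hyp G T) {p : ℕ} (hpT : p ∈ T) :
    ∃ Pc z f c n : ℕ, Nat.card {x : G // orderOf x = p} = c ∧
      Pc = p ^ (Nat.card G).factorization p ∧ 1 < z ∧ p ∣ z ∧ z ∣ Pc ∧ c = n * (z - 1) ∧
      n * (f * Pc) = Nat.card G ∧ n % p = 1 ∧ f ∣ z - 1 ∧
      (f = 1 ∨ (f ∈ T ∧ f ≠ p)) ∧ (z = Pc → f ≠ 1) ∧ (z < Pc → z * p ^ 2 ≤ Pc ∧ 2 < p) ∧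
      ∀ P : Sylow p G, Nat.card (P : Subgroup G) = Pc ∧
        Nat.card (Subgroup.normalizer ((P : Subgroup G) : Set G)) = f * Pc := by
  classical
  haveI hp : Fact p.Prime := ⟨h.prime p hpT⟩
  obtain ⟨P⟩ := (inferInstance : Nonempty (Sylow p G))
  set N := Subgroup.normalizer ((P : Subgroup G) : Set G) with hN
  set Z := zen (P : Subgroup G) with hZ
  set f := ((P : Subgroup G).subgroupOf N).index with hf
  have hNcard : Nat.card N = f * Nat.card (P : Subgroup G) := by
    rw [hf, ← Nat.card_congr (Subgroup.subgroupOfEquivOfLe (Subgroup.le_normalizer (H := (P : Subgroup G)))).toEquiv,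
      Subgroup.index_mul_card]
  have hPne : (P : Subgroup G) ≠ ⊥ := P.ne_bot_of_dvd_card (h.dvd p hpT)
  obtain ⟨z₀, hz₀, hz₀1⟩ := exists_zen_ne_one P.isPGroup' hPne
  have hZle : Z ≤ (P : Subgroup G) := inf_le_left
  have hz1 : 1 < Nat.card Z := by
    rw [Finite.one_lt_card_iff_nontrivial]
    exact ⟨⟨⟨z₀, hz₀⟩, 1, fun e => hz₀1 (congrArg Subtype.val e)⟩⟩
  have hpz : p ∣ Nat.card Z := by
    obtain ⟨k, hk⟩ := IsPGroup.iff_card.1 (P.isPGroup'.to_le hZle)
    rw [hk] at hz1 ⊢
    exact dvd_pow_self p (fun e => by rw [e, pow_zero] at hz1; omega)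
  -- the normaliser acts on the centre
  have hNZ : N ≤ Subgroup.normalizer (Z : Set G) := by
    intro a ha
    rw [Subgroup.mem_normalizer_iff]
    have key : ∀ b ∈ N, ∀ u : G, u ∈ Z → b * u * b⁻¹ ∈ Z := by
      intro b hb u hu
      refine ⟨(Subgroup.mem_normalizer_iff.1 hb u).1 hu.1, Subgroup.mem_centralizer_iff.2 fun v hv => ?_⟩
      have hv' : b⁻¹ * v * b ∈ (P : Subgroup G) := (Subgroup.mem_normalizer_iff''.1 hb v).1 hv
      have e := Subgroup.mem_centralizer_iff.1 hu.2 _ hv'
      calc v * (b * u * b⁻¹) = b * ((b⁻¹ * v * b) * u) * b⁻¹ := by group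
        _ = b * (u * (b⁻¹ * v * b)) * b⁻¹ := by rw [e]
        _ = _ := by group
    exact fun u => ⟨key a ha u, fun hu => by simpa [mul_assoc] using key a⁻¹ (inv_mem ha) _ hu⟩
  have hstab : ∀ (a : G) (u : G), a ∈ N → u ∈ Z → u ≠ 1 → a * u = u * a → a ∈ (P : Subgroup G) := by
    intro a u _ hu hu1 e
    rw [← h.centralizer_eq P hu hu1]
    exact Subgroup.mem_centralizer_singleton_iff.2 e
  have hfdvd : f ∣ Nat.card {u : Z // u ≠ 1} := by
    letI : SMul N {u : Z // u ≠ 1} := ⟨fun a u => ⟨⟨(a : G) * u.1 * (a : G)⁻¹,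
      (Subgroup.mem_normalizer_iff.1 (hNZ a.2) _).1 u.1.2⟩, fun e => u.2 (Subtype.ext (by
        have e' : (a : G) * (u.1 : G) * (a : G)⁻¹ = 1 := congrArg Subtype.val e
        exact conj_eq_one_iff.1 e'))⟩⟩
    have hval : ∀ (a : N) (u : {u : Z // u ≠ 1}), (((a • u).1 : Z) : G) = (a : G) * u.1 * (a : G)⁻¹ := fun _ _ => rfl
    letI : MulAction N {u : Z // u ≠ 1} :=
      { one_smul := fun u => Subtype.ext (Subtype.ext (by rw [hval]; simp))
        mul_smul := fun a b u => Subtype.ext (Subtype.ext (by rw [hval, hval, hval]; simp [mul_assoc])) }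
    haveI : Fintype (MulAction.orbitRel.Quotient N {u : Z // u ≠ 1}) := Fintype.ofFinite _
    rw [Nat.card_congr (MulAction.selfEquivSigmaOrbits N {u : Z // u ≠ 1}), Nat.card_sigma]
    refine Finset.dvd_sum fun ω _ => ?_
    rw [Nat.card_coe_set_eq]
    generalize ω.out = u
    rw [← MulAction.index_stabilizer]
    refine dvd_of_eq ?_
    rw [hf]
    congr 1
    ext a
    rw [MulAction.mem_stabilizer_iff, Subgroup.mem_subgroupOf]
    constructor
    · intro ha
      have hm : (a : G) * u.1 = u.1 * a := by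
        have hpc := Subgroup.mem_centralizer_iff.1 u.1.2.2 _ ha
        exact hpc
      exact Subtype.ext (Subtype.ext (by rw [hval]; exact mul_inv_eq_iff_eq_mul.2 hm))
    · intro ha
      have e := congrArg (fun v : {u : Z // u ≠ 1} => ((v.1 : Z) : G)) ha
      simp only [hval] at e
      exact hstab a u.1 a.2 u.1.2 (fun e' => u.2 (Subtype.ext e')) (mul_inv_eq_iff_eq_mul.1 e)
  have hfp : ¬ p ∣ f := by
    intro hd
    refine P.not_dvd_index (hd.trans ?_)
    rw [hf]
    exact Subgroup.relIndex_dvd_index_of_le (Subgroup.le_normalizer) |> fun h => by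
      simpa [Subgroup.relIndex] using h
  have hfg : f ∣ Nat.card G := (Dvd.intro _ hNcard.symm).trans (Subgroup.card_subgroup_dvd_card N)
  -- elements of the normaliser of order prime to p act without fixed points
  have hfpf : ∀ a ∈ N, a ≠ 1 → orderOf a ≠ p → ∀ u ∈ Z, a * u = u * a → u = 1 := by
    intro a ha ha1 hap u hu e
    by_contra hu1
    exact hap (h.orderOf_eq P.isPGroup' (hstab a u ha hu hu1 e) ha1)
  have hsq : ∀ r : ℕ, r.Prime → r ≠ p → ¬ r ^ 2 ∣ f := by
    intro r hr hrp hd
    haveI := Fact.mk hr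
    obtain ⟨E, hE⟩ := Sylow.exists_subgroup_card_pow_prime r (G := N) (n := 2) (hd.trans (Dvd.intro _ hNcard.symm))
    set E' : Subgroup G := E.map N.subtype
    have hE' : Nat.card E' = r ^ 2 := (Nat.card_congr (E.equivMapOfInjective _ N.subtype_injective).toEquiv).symm.trans hE
    haveI : IsMulCommutative E' := IsPGroup.isMulCommutative_of_card_eq_prime_sq hE'
    have hpgE : IsPGroup r E' := IsPGroup.of_card hE'
    have hcyc : ¬ IsCyclic E' := by
      intro hc
      obtain ⟨g, hg⟩ := hc.exists_ofOrder_eq_natCard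
      rw [hE', ← Subgroup.orderOf_coe] at hg
      have hg1 : (g : G) ≠ 1 := fun e => by rw [e, orderOf_one] at hg; exact (Nat.one_lt_pow two_ne_zero hr.one_lt).ne hg
      exact Nat.Prime.not_prime_pow (le_refl 2) (hg ▸ h.prime_order hg1)
    have hle : Z ≤ ⊥ := by
      refine Cfsg.Agent.Coprime.le_of_noncyclic hcyc ((Subgroup.map_subtype_le E).trans hNZ) ?_ fun a ha ha1 => ?_
      · obtain ⟨k, hk⟩ := IsPGroup.iff_card.1 (P.isPGroup'.to_le hZle)
        rw [hE', hk]
        exact ((Nat.coprime_primes hr hp.out).2 hrp).pow _ _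
      · rintro u ⟨hu, hu'⟩
        exact Subgroup.mem_bot.2 (hfpf a (Subgroup.map_subtype_le E ha) ha1
          (fun e => hrp ((h.orderOf_eq hpgE ha ha1).symm.trans e)) u hu
          (Subgroup.mem_centralizer_singleton_iff.1 hu').symm)
    exact hz₀1 (Subgroup.mem_bot.1 (hle hz₀))
  have hfT : f = 1 ∨ (f ∈ T ∧ f ≠ p) := by
    by_cases hf1 : f = 1
    · exact Or.inl hf1
    obtain ⟨r, hr, hrd⟩ := Nat.exists_prime_and_dvd hf1
    have hrp : r ≠ p := fun e => hfp (e ▸ hrd)
    obtain ⟨c, hc⟩ := hrd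
    by_cases hc1 : c = 1
    · right
      have hfr : f = r := by rw [hc, hc1, mul_one]
      exact ⟨hfr ▸ h.primes r hr (hfr ▸ hfg), hfr ▸ hrp⟩
    exfalso
    obtain ⟨s, hs, hsd⟩ := Nat.exists_prime_and_dvd hc1
    have hsr : s ≠ r := fun e => hsq r hr hrp (by rw [hc, pow_two]; exact Nat.mul_dvd_mul_left r (e ▸ hsd))
    have hsp : s ≠ p := fun e => hfp (e ▸ hc ▸ hsd.mul_left r)
    have hTeq : ({p, r, s} : Finset ℕ) = T := by
      refine Finset.eq_of_subset_of_card_le ?_ ?_
      · intro m hm
        simp only [Finset.mem_insert, Finset.mem_singleton] at hm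
        rcases hm with rfl | rfl | rfl
        · exact hpT
        · exact h.primes _ hr ((hc ▸ dvd_mul_right m c).trans hfg)
        · exact h.primes _ hs ((hc ▸ hsd.mul_left r).trans hfg)
      · rw [h.card_three, Finset.card_insert_of_notMem (by simp [hrp.symm, hsp.symm]), Finset.card_pair hsr.symm]
    obtain ⟨d, hd⟩ := hsd
    have hd1 : d = 1 := by
      by_contra hd1
      obtain ⟨t, ht, htd⟩ := Nat.exists_prime_and_dvd hd1
      have htf : t ∣ f := by rw [hc, hd]; exact (htd.mul_left s).mul_left r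
      have := h.primes t ht (htf.trans hfg)
      rw [← hTeq] at this
      simp only [Finset.mem_insert, Finset.mem_singleton] at this
      rcases this with e | e | e <;> subst e
      · exact hfp htf
      · exact hsq t hr hrp (by
          obtain ⟨d', rfl⟩ := htd
          exact ⟨s * d', by rw [hc, hd]; ring⟩)
      · exact hsq t hs hsp (by
          obtain ⟨d', rfl⟩ := htd
          exact ⟨r * d', by rw [hc, hd]; ring⟩)
    rw [hd, hd1, mul_one] at hc
    haveI : ((P : Subgroup G).subgroupOf N).Normal := Subgroup.normal_in_normalizer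
    obtain ⟨K, hK⟩ := Subgroup.exists_right_complement'_of_coprime (N := (P : Subgroup G).subgroupOf N) (by
      rw [Nat.card_congr (Subgroup.subgroupOfEquivOfLe (Subgroup.le_normalizer (H := (P : Subgroup G)))).toEquiv,
        P.card_eq_multiplicity, ← hf]
      exact (hp.out.coprime_iff_not_dvd.2 hfp).pow_left _)
    set K' := K.map N.subtype with hK'
    have hKc : Nat.card K' = r * s := by
      rw [← hc, hK', Subgroup.card_map_of_injective N.subtype_injective, ← hK.symm.index_eq_card]
    have hFPF : Cfsg.Agent.Frobenius.FPF K' Z := by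
      intro a ha ha1 u hu e
      refine hfpf a (Subgroup.map_subtype_le K ha) ha1 (fun hap => ?_) u hu e
      have := Subgroup.orderOf_dvd_natCard K' ha
      rw [hap, hKc] at this
      rcases hp.out.dvd_mul.1 this with e' | e'
      · exact hrp ((Nat.prime_dvd_prime_iff_eq hp.out hr).1 e').symm
      · exact hsp ((Nat.prime_dvd_prime_iff_eq hp.out hs).1 e').symm
    have hZne : Z ≠ ⊥ := fun e => hz₀1 (Subgroup.mem_bot.1 (e ▸ hz₀))
    obtain ⟨g, hg⟩ := (Cfsg.Agent.Frobenius.isCyclic_of_card_mul_primes' hZne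
      ((Subgroup.map_subtype_le K).trans hNZ) hFPF hr hs hKc).exists_ofOrder_eq_natCard
    rw [hKc, ← Subgroup.orderOf_coe] at hg
    have hg1 : (g : G) ≠ 1 := fun e => by
      rw [e, orderOf_one] at hg
      exact hr.ne_one (Nat.eq_one_of_mul_eq_one_right hg.symm)
    exact Nat.not_prime_mul hr.ne_one hs.ne_one (hg ▸ h.prime_order hg1)
  refine ⟨Nat.card (P : Subgroup G), Nat.card Z, f, _, Nat.card (Sylow p G), rfl, P.card_eq_multiplicity, hz1, hpz,
    Subgroup.card_dvd_of_le hZle, ?_, ?_, ?_, ?_, hfT, ?_, ?_, ?_⟩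
  · rw [h.card_order P]
    congr 1
    have := card_zen_ne_one (P : Subgroup G)
    rw [← hZ] at this ⊢
    omega
  · rw [← hNcard, P.card_eq_index_normalizer]
    exact Subgroup.index_mul_card N
  · exact Eq.trans (card_sylow_modEq_one p G) (Nat.one_mod_eq_one.2 hp.out.ne_one)
  · have := card_zen_ne_one (P : Subgroup G)
    rw [← hZ] at this
    rw [← this, Nat.add_sub_cancel]
    exact hfdvd
  · intro hab hf1
    have hZP : Z = (P : Subgroup G) := Subgroup.eq_of_le_of_card_ge hZle hab.ge
    rw [hf1, one_mul] at hNcard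
    have hle : N ≤ Subgroup.centralizer ((P : Subgroup G) : Set G) :=
      (Subgroup.eq_of_le_of_card_ge (Subgroup.le_normalizer (H := (P : Subgroup G))) hNcard.le).ge.trans
        (hZP.ge.trans inf_le_right)
    set K := (MonoidHom.transferSylow P hle).ker with hK
    have hcomp := MonoidHom.ker_transferSylow_isComplement' P hle
    apply h.not_solvable
    obtain ⟨r, s, hrs, hT2⟩ := Finset.card_eq_two.1 (show (T.erase p).card = 2 by
      rw [Finset.card_erase_of_mem hpT, h.card_three])
    have hr : r.Prime := h.prime r (Finset.mem_of_mem_erase (a := p) (by rw [hT2]; simp))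
    have hs : s.Prime := h.prime s (Finset.mem_of_mem_erase (a := p) (by rw [hT2]; simp))
    have hKcard : Nat.card K = r ^ (Nat.card K).factorization r * s ^ (Nat.card K).factorization s := by
      have hsub : (Nat.card K).primeFactors ⊆ {r, s} := by
        intro t ht
        obtain ⟨ht1, ht2, -⟩ := Nat.mem_primeFactors.1 ht
        rw [← hT2, Finset.mem_erase]
        refine ⟨fun e => ?_, h.primes t ht1 (ht2.trans (Subgroup.card_subgroup_dvd_card K))⟩
        subst e
        rw [← hcomp.index_eq_card] at ht2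
        exact P.not_dvd_index ht2
      conv_lhs => rw [← Nat.prod_factorization_pow_eq_self (n := Nat.card K) Nat.card_pos.ne',
        Finsupp.prod_of_support_subset _ (s := {r, s}) (by rwa [Nat.support_factorization]) _ (by simp),
        Finset.prod_pair hrs]
    haveI : Group.IsSolvable K :=
      Cfsg.Agent.CharApp.isSolvable_of_card_eq_prime_pow_mul r s hr hs _ K rfl _ _ hKcard
    haveI : Group.IsSolvable (P : Subgroup G) := by
      haveI := P.isPGroup'.isNilpotent; infer_instance
    exact Group.isSolvable_of_ker_le_range K.subtype (MonoidHom.transferSylow P hle) (by rw [Subgroup.range_subtype, hK])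
  · intro hlt
    have hZc : Nat.card Z = Nat.card (Subgroup.center (P : Subgroup G)) := by
      have : (Subgroup.center (P : Subgroup G)).map (P : Subgroup G).subtype = Z := by
        ext u
        constructor
        · rintro ⟨v, hv, rfl⟩
          exact ⟨v.2, Subgroup.mem_centralizer_iff.2 fun w hw =>
            congrArg Subtype.val (Subgroup.mem_center_iff.1 hv ⟨w, hw⟩)⟩
        · rintro ⟨hu1, hu2⟩
          exact ⟨⟨u, hu1⟩, Subgroup.mem_center_iff.2 fun w =>
            Subtype.ext (Subgroup.mem_centralizer_iff.1 hu2 w w.2), rfl⟩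
      rw [← this, Subgroup.card_map_of_injective (P : Subgroup G).subtype_injective]
    have hnc : ¬ IsMulCommutative (P : Subgroup G) := by
      intro hc
      apply hlt.ne
      rw [hZc, Subgroup.center_eq_top_iff.2 hc] at *
      exact Subgroup.card_top
    constructor
    · obtain ⟨k, hk⟩ := IsPGroup.iff_card.1 (P.isPGroup'.to_quotient (Subgroup.center (P : Subgroup G)))
      have e := Subgroup.index_mul_card (Subgroup.center (P : Subgroup G))
      rw [Subgroup.index_eq_card, hk] at e
      rcases Nat.lt_or_ge k 2 with hk2 | hk2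
      · exfalso
        haveI : IsCyclic ((P : Subgroup G) ⧸ Subgroup.center (P : Subgroup G)) := by
          interval_cases k
          · haveI : Subsingleton ((P : Subgroup G) ⧸ Subgroup.center (P : Subgroup G)) :=
              (Nat.card_eq_one_iff_unique.1 (by rw [hk, pow_zero])).1
            exact isCyclic_of_subsingleton
          · exact isCyclic_of_prime_card (hk.trans (pow_one p))
        exact hnc ⟨⟨commutative_of_cyclic_center_quotient (QuotientGroup.mk' (Subgroup.center (P : Subgroup G)))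
          (by rw [QuotientGroup.ker_mk'])⟩⟩
      · rw [hZc, ← e, mul_comm]
        exact Nat.mul_le_mul_right _ (Nat.pow_le_pow_right hp.out.pos hk2)
    · by_contra h2
      have hp2 : p = 2 := le_antisymm (not_lt.1 h2) hp.out.two_le
      refine hnc ⟨⟨fun a b => ?_⟩⟩
      have hinv : ∀ c : (P : Subgroup G), c * c = 1 := by
        intro c
        by_cases hc : (c : G) = 1
        · exact Subtype.ext (by simp [hc])
        · apply Subtype.ext
          have := pow_orderOf_eq_one (c : G)
          rw [h.orderOf_eq P.isPGroup' c.2 hc] at this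
          subst hp2
          rw [pow_two] at this
          exact this
      calc a * b = a⁻¹ * b⁻¹ := by rw [← eq_inv_of_mul_eq_one_left (hinv a), ← eq_inv_of_mul_eq_one_left (hinv b)]
        _ = (b * a)⁻¹ := by group
        _ = b * a := (eq_inv_of_mul_eq_one_left (hinv (b * a))).symm
  · intro Q
    obtain ⟨g, hg⟩ := MulAction.exists_smul_eq G P Q
    refine ⟨by rw [Q.card_eq_multiplicity, P.card_eq_multiplicity], ?_⟩
    rw [← hNcard, hN]
    have h1 : (Subgroup.normalizer ((Q : Subgroup G) : Set G)).index = (Subgroup.normalizer ((P : Subgroup G) : Set G)).index :=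
      Q.card_eq_index_normalizer.symm.trans P.card_eq_index_normalizer
    have e1 := Subgroup.index_mul_card (Subgroup.normalizer ((Q : Subgroup G) : Set G))
    have e2 := Subgroup.index_mul_card (Subgroup.normalizer ((P : Subgroup G) : Set G))
    rw [h1] at e1
    exact Nat.eq_of_mul_eq_mul_left (Nat.pos_of_ne_zero Subgroup.index_ne_zero_of_finite) (e1.trans e2.symm)

theorem two_pow_add_one_eq {a b : ℕ} (h : 2 ^ a + 1 = 3 ^ b) (ha : 2 ≤ a) : a = 3 := by
  rcases Nat.even_or_odd b with ⟨c, hc⟩ | ⟨c, hc⟩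
  · have h1 : 1 ≤ 3 ^ c := Nat.one_le_pow _ _ (by norm_num)
    have e : (3 ^ c - 1) * (3 ^ c + 1) = 2 ^ a := by
      have : 3 ^ c * 3 ^ c = 2 ^ a + 1 := by rw [← pow_add, ← hc, h]
      zify [h1] at this ⊢
      linarith
    obtain ⟨i, -, hi⟩ := (Nat.dvd_prime_pow Nat.prime_two).1 (Dvd.intro _ e)
    obtain ⟨j, -, hj⟩ := (Nat.dvd_prime_pow Nat.prime_two).1 (Dvd.intro_left _ e)
    have hji : 2 ^ j = 2 ^ i + 2 := by omega
    have hi' : i = 1 := by
      rcases i with _ | _ | i
      · exfalso
        rcases j with _ | _ | j <;> simp [pow_succ] at hji <;> omega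
      · rfl
      · exfalso
        rcases j with _ | _ | j
        · simp [pow_succ] at hji
        · simp [pow_succ] at hji
        · rw [pow_succ, pow_succ, pow_succ, pow_succ] at hji
          omega
    subst hi'
    have h3c : 3 ^ c = 3 := by omega
    have : 2 ^ a = 2 ^ 3 := by rw [← e, h3c]; norm_num
    exact Nat.pow_right_injective (le_refl 2) this
  · exfalso
    have h4 : 4 ∣ 2 ^ a := Nat.pow_dvd_pow 2 ha
    have h3 : 3 ^ b % 4 = 3 := by
      rw [hc, pow_succ, pow_mul, Nat.mul_mod, Nat.pow_mod]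
      norm_num
    omega

/-- The arithmetic: equality case of the class equation. -/
theorem arith {p r q P R cp cr c2 fp fr e n : ℕ} (hp : p.Prime) (hr : r.Prime) (hpr : p ≠ r) (hp2 : p ≠ 2)
    (hr2 : r ≠ 2) (hP : ∃ a, P = p ^ a) (hR : ∃ b, R = r ^ b) (hq : ∃ a, q = 2 ^ a)
    (hpP : p ∣ P) (hrR : r ∣ R) (hsum : c2 + cp + cr + 1 = q * P * R)
    (he : e = p ∨ e = r) (he' : e ∣ q - 1) (hc2 : e * c2 + P * R = q * P * R)
    (hfp : fp = 2) (hfp' : fp * cp + q * R = q * P * R) (hn : 2 * n = q * R) (hn' : n % p = 1)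
    (hfr : fr = 2 ∨ fr = p) (hfr' : fr ∣ R - 1) (hfr'' : fr * cr + q * P = q * P * R)
    (hsym : fr = 2 → e = p) :
    (fr = 2 ∧ q = 4 ∧ P = 3 ∧ R = 5) ∨ (fr = 2 ∧ q = 8 ∧ P = 7 ∧ R = 9) := by
  obtain ⟨a, rfl⟩ := hq
  obtain ⟨pa, rfl⟩ := hP
  obtain ⟨rb, rfl⟩ := hR
  subst hfp
  have hp3 : 3 ≤ p := by have := hp.two_le; omega
  have hr3 : 3 ≤ r := by have := hr.two_le; omega
  have hpa : 1 ≤ pa := by
    rcases Nat.eq_zero_or_pos pa with e | e
    · rw [e, pow_zero] at hpP; exact absurd hpP hp.not_dvd_one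
    · exact e
  have hrb : 1 ≤ rb := by
    rcases Nat.eq_zero_or_pos rb with e | e
    · rw [e, pow_zero] at hrR; exact absurd hrR hr.not_dvd_one
    · exact e
  set q := 2 ^ a with hqdef
  set P := p ^ pa with hPdef
  set R := r ^ rb with hRdef
  have hPp : p ≤ P := Nat.le_of_dvd (by positivity) hpP
  have hRr : r ≤ R := Nat.le_of_dvd (by positivity) hrR
  have he3 : 3 ≤ e := by rcases he with rfl | rfl <;> assumption
  have hq1 : 1 ≤ q := Nat.one_le_pow _ _ (by norm_num)
  have hqe : q - 1 = 0 ∨ e ≤ q - 1 := by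
    rcases Nat.eq_zero_or_pos (q - 1) with h | h
    · exact Or.inl h
    · exact Or.inr (Nat.le_of_dvd h he')
  have hq4 : 4 ≤ q := by
    rcases hqe with h | h
    · exfalso
      have hq1' : q = 1 := by omega
      rw [hq1', one_mul] at hn hfp'
      rw [hq1', one_mul] at hfr''
      have hodd : Odd R := (hr.odd_of_ne_two hr2).pow
      obtain ⟨k, hk⟩ := hodd
      omega
    · omega
  rcases hfr with rfl | rfl
  · -- both odd primes have normaliser quotient of order 2
    obtain rfl : e = p := hsym rfl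
    have eq1 : e * q * (P + R) = 2 * P * R * (q - 1) + 2 * e := by
      zify [hq1] at hsum hc2 hfp' hfr'' ⊢
      linear_combination (e : ℤ) * hfp' + (e : ℤ) * hfr'' + 2 * hc2 - 2 * (e : ℤ) * hsum
    obtain ⟨A, hA⟩ := hpP
    have hA0 : 1 ≤ A := by
      rcases Nat.eq_zero_or_pos A with h0 | h0
      · rw [h0, mul_zero] at hA; omega
      · exact h0
    have eq2 : q * (e * A + R) = 2 * A * R * (q - 1) + 2 := by
      refine Nat.eq_of_mul_eq_mul_left hp.pos ?_
      rw [hA] at eq1
      linarith
    obtain ⟨u, hu⟩ : ∃ u, q = u + 1 := ⟨q - 1, by omega⟩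
    have hu' : q - 1 = u := by omega
    rw [hu'] at eq2 he'
    rw [hu] at eq2
    have hR2p : R < 2 * e := by
      by_contra hcon
      nlinarith [Nat.mul_le_mul_left (A * u) (not_lt.1 hcon), Nat.mul_le_mul_right (A * R) (show 3 ≤ u by omega),
        Nat.mul_le_mul_right R hA0]
    have hRmod : R % e = 2 % e := by
      have h1 : (2 * n) % e = 2 % e := by rw [Nat.mul_mod, hn', mul_one, Nat.mod_mod]
      have h2 : q % e = 1 := by
        obtain ⟨k, hk⟩ := he'
        rw [hu, hk, Nat.add_comm, Nat.add_mul_mod_self_left, Nat.one_mod_eq_one.2 hp.ne_one]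
      rw [hn, Nat.mul_mod, h2, one_mul, Nat.mod_mod] at h1
      exact h1
    have hReq : R = e + 2 := by
      rw [Nat.mod_eq_of_lt (show 2 < e by omega)] at hRmod
      have h1 := Nat.div_add_mod R e
      rw [hRmod] at h1
      have h2 : R / e < 2 := (Nat.div_lt_iff_lt_mul hp.pos).2 (by omega)
      interval_cases h3 : R / e
      · omega
      · omega
    have hA1 : A = 1 := by
      by_contra hA1
      have hAp : e ∣ A := by
        have h1 : A ∣ e ^ pa := ⟨e, by rw [← hPdef, hA, mul_comm]⟩
        obtain ⟨k, -, hk⟩ := (Nat.dvd_prime_pow hp).1 h1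
        rcases Nat.eq_zero_or_pos k with h0 | h0
        · rw [h0, pow_zero] at hk; exact absurd hk hA1
        · exact hk ▸ dvd_pow_self e h0.ne'
      have hAe : e ≤ A := Nat.le_of_dvd (by omega) hAp
      rw [hReq] at eq2
      nlinarith [Nat.mul_le_mul_right (A * (e + 2)) (show 3 ≤ u by omega), Nat.mul_le_mul hAe (show 3 ≤ u by omega)]
    subst hA1
    rw [hReq] at eq2
    have huv : u = e := by nlinarith
    subst huv
    rw [mul_one] at hA
    rcases Nat.lt_or_ge u 4 with hu4 | hu4
    · left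
      have : u = 3 := by omega
      subst this
      exact ⟨rfl, by omega, hA, hReq⟩
    · right
      have ha2 : 2 ≤ a := by
        by_contra hcon
        interval_cases a <;> simp [hqdef] at hu <;> omega
      -- one of `q - 1`, `q + 1` is divisible by three
      have h3 : 3 ∣ R := by
        have hq3 : q % 3 = 1 ∨ q % 3 = 2 := by
          rcases Nat.even_or_odd a with ⟨c, hc⟩ | ⟨c, hc⟩
          · left; rw [hqdef, hc, ← two_mul, pow_mul, Nat.pow_mod]; norm_num
          · right; rw [hqdef, hc, pow_succ, pow_mul, Nat.mul_mod, Nat.pow_mod]; norm_num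
        rcases hq3 with h | h
        · exfalso
          have : 3 ∣ u := by omega
          have := (Nat.prime_dvd_prime_iff_eq Nat.prime_three hp).1 this
          omega
        · omega
      have hr3' : r = 3 := ((Nat.prime_dvd_prime_iff_eq Nat.prime_three hr).1 (Nat.prime_three.dvd_of_dvd_pow h3)).symm
      have heqn : 2 ^ a + 1 = 3 ^ rb := by rw [← hr3', ← hRdef, ← hqdef]; omega
      have := two_pow_add_one_eq heqn ha2
      subst this
      refine ⟨rfl, by rw [hqdef]; norm_num, ?_, ?_⟩
      · rw [hA]; norm_num [hqdef] at hu; omega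
      · rw [hReq]; norm_num [hqdef] at hu; omega
  · exfalso
    -- the normaliser quotient at r has order p
    have hg : 0 < q * P * R := by positivity
    have hbp : 2 * cp < q * P * R := by
      have : 0 < q * R := by positivity
      omega
    have hbr : ∀ k, k ≤ fr → k * cr < q * P * R := by
      intro k hk
      have : 0 < q * P := by positivity
      have := Nat.mul_le_mul_right cr hk
      omega
    have hb2 : ∀ k, k ≤ e → k * c2 < q * P * R := by
      intro k hk
      have : 0 < P * R := by positivity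
      have := Nat.mul_le_mul_right c2 hk
      omega
    have hglarge : 4 * 3 * 3 ≤ q * P * R := Nat.mul_le_mul (Nat.mul_le_mul hq4 (by omega)) (by omega)
    have hR1 : fr ≤ R - 1 := Nat.le_of_dvd (by omega) hfr'
    by_cases hep : e = fr
    · subst hep
      rcases Nat.lt_or_ge e 5 with hp5 | hp5
      · have he3' : e = 3 := by
          interval_cases e
          · rfl
          · exact absurd hp (by norm_num)
        subst he3'
        have eq1 : q * P * R + 6 = 3 * q * R + 2 * q * P + 2 * P * R := by linarith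
        have hr5 : 5 ≤ r := by
          by_contra hcon
          interval_cases r
          · exact hpr rfl
          · exact absurd hr (by norm_num)
        have hR7 : 7 ≤ R := by
          obtain ⟨k, hk⟩ := hfr'
          obtain ⟨l, hl⟩ := (hr.odd_of_ne_two hr2).pow (n := rb)
          rw [← hRdef] at hl
          omega
        rcases Nat.eq_or_lt_of_le hpa with h1 | h1
        · rw [hPdef, ← h1] at eq1
          nlinarith
        · have hP9 : 9 ≤ P := by
            rw [hPdef]; exact Nat.le_trans (by norm_num) (Nat.pow_le_pow_right (by norm_num) h1)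
          rcases Nat.lt_or_ge q 16 with hq16 | hq16
          · have : q = 4 := by
              have ha4 : a < 4 := (Nat.pow_lt_pow_iff_right (by norm_num : 1 < 2)).1 (hqdef ▸ hq16)
              interval_cases a <;> norm_num [hqdef] at * <;> omega
            rw [this] at eq1
            rcases Nat.eq_or_lt_of_le h1 with h2 | h2
            · rw [hPdef, ← h2] at eq1
              norm_num at eq1
              obtain ⟨k, hk⟩ := hfr'
              omega
            · have hP27 : 27 ≤ P := by
                rw [hPdef]; exact Nat.le_trans (by norm_num) (Nat.pow_le_pow_right (by norm_num) h2)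
              nlinarith [Nat.mul_le_mul hP27 (le_refl R), Nat.mul_le_mul (le_refl P) hR7]
          · nlinarith [Nat.mul_le_mul (Nat.mul_le_mul hq16 hP9) (le_refl R), Nat.mul_le_mul (Nat.mul_le_mul hq16 (le_refl P)) (le_refl R),
              Nat.mul_le_mul (Nat.mul_le_mul (le_refl q) (le_refl P)) hR7, Nat.mul_le_mul (Nat.mul_le_mul (le_refl q) hP9) (le_refl R)]
      · have h1 := hbr 5 hp5
        have h2 := hb2 5 hp5
        omega
    · obtain rfl : e = r := he.resolve_left hep
      have h1 := hbr fr le_rfl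
      have h2 := hb2 e le_rfl
      rcases Nat.lt_or_ge fr 5 with hp5 | hp5
      · have hf3 : fr = 3 := by
          interval_cases fr
          · rfl
          · exact absurd hp (by norm_num)
        subst hf3
        rcases Nat.lt_or_ge e 11 with he11 | he11
        · interval_cases e
          all_goals first | (norm_num at hr; done) | exact hpr rfl | skip
          · -- the pair (3, 5)
            have eq1 : q * P * R + 30 = 15 * q * R + 10 * q * P + 6 * P * R := by linarith
            have hq16 : 16 ≤ q := by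
              by_contra hcon
              have ha4 : a < 4 := (Nat.pow_lt_pow_iff_right (by norm_num : 1 < 2)).1 (hqdef ▸ not_le.1 hcon)
              interval_cases a <;> norm_num [hqdef] at * <;> omega
            have hR25 : 25 ≤ R := by
              rcases Nat.eq_or_lt_of_le hrb with h | h
              · exfalso; rw [hRdef, ← h] at hfr'; norm_num at hfr'
              · rw [hRdef]; exact Nat.le_trans (by norm_num) (Nat.pow_le_pow_right (by norm_num) h)
            rcases Nat.lt_or_ge pa 4 with hpa4 | hpa4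
            · interval_cases pa
              · norm_num [hPdef] at eq1; nlinarith
              · norm_num [hPdef] at eq1; nlinarith
              · norm_num [hPdef] at eq1
                rcases Nat.lt_or_ge q 256 with hq256 | hq256
                · have hq16' : q = 16 := by
                    have ha8 : a < 8 := (Nat.pow_lt_pow_iff_right (by norm_num : 1 < 2)).1 (hqdef ▸ hq256)
                    interval_cases a <;> norm_num [hqdef] at * <;> omega
                  rw [hq16'] at eq1
                  have hR143 : R = 143 := by omega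
                  have : 13 ∣ 5 := (Nat.Prime.dvd_of_dvd_pow (by norm_num) (show 13 ∣ 5 ^ rb by rw [← hRdef, hR143]; norm_num))
                  norm_num at this
                · nlinarith
            · have hP81 : 81 ≤ P := by
                rw [hPdef]; exact Nat.le_trans (by norm_num) (Nat.pow_le_pow_right (by norm_num) hpa4)
              nlinarith [Nat.mul_le_mul (Nat.mul_le_mul hq16 hP81) (le_refl R), Nat.mul_le_mul (Nat.mul_le_mul hq16 (le_refl P)) (le_refl R),
                Nat.mul_le_mul (Nat.mul_le_mul (le_refl q) (le_refl P)) hR25, Nat.mul_le_mul (Nat.mul_le_mul (le_refl q) hP81) (le_refl R)]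
          · -- the pair (3, 7)
            have : 4 * 3 * 7 ≤ q * P * R := Nat.mul_le_mul (Nat.mul_le_mul hq4 (by omega)) (by omega)
            omega
        · have h2' := hb2 11 he11
          omega
      · rcases Nat.lt_or_ge e 5 with he5 | he5
        · have he3' : e = 3 := by
            interval_cases e
            · rfl
            · exact absurd hr (by norm_num)
          subst he3'
          rcases Nat.lt_or_ge fr 11 with hp11 | hp11
          · interval_cases fr
            all_goals first | (norm_num at hp; done) | skip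
            · -- the pair (5, 3)
              have eq1 : q * P * R + 30 = 15 * q * R + 6 * q * P + 10 * P * R := by linarith
              have hR81 : 81 ≤ R := by
                by_contra hcon
                have hb4 : rb < 4 := (Nat.pow_lt_pow_iff_right (by norm_num : 1 < 3)).1 (hRdef ▸ not_le.1 hcon)
                interval_cases rb <;> norm_num [hRdef] at hfr'
              rcases Nat.eq_or_lt_of_le hpa with h | h
              · rw [hPdef, ← h] at eq1; nlinarith
              have hP25 : 25 ≤ P := by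
                rw [hPdef]; exact Nat.le_trans (by norm_num) (Nat.pow_le_pow_right (by norm_num) h)
              rcases Nat.lt_or_ge q 64 with hq64 | hq64
              · have ha6 : a < 6 := (Nat.pow_lt_pow_iff_right (by norm_num : 1 < 2)).1 (hqdef ▸ hq64)
                interval_cases a
                all_goals first | (norm_num [hqdef] at he'; done) | (norm_num [hqdef] at hq4; done) | norm_num [hqdef] at eq1
                · nlinarith
                · rcases Nat.lt_or_ge pa 3 with hpa3 | hpa3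
                  · have : pa = 2 := by omega
                    subst this
                    norm_num [hPdef] at eq1
                    omega
                  · have hP125 : 125 ≤ P := by
                      rw [hPdef]; exact Nat.le_trans (by norm_num) (Nat.pow_le_pow_right (by norm_num) hpa3)
                    nlinarith [Nat.mul_le_mul hP125 (le_refl R), Nat.mul_le_mul (le_refl P) hR81]
              · nlinarith [Nat.mul_le_mul (Nat.mul_le_mul hq64 hP25) (le_refl R), Nat.mul_le_mul (Nat.mul_le_mul hq64 (le_refl P)) (le_refl R),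
                  Nat.mul_le_mul (Nat.mul_le_mul (le_refl q) (le_refl P)) hR81, Nat.mul_le_mul (Nat.mul_le_mul (le_refl q) hP25) (le_refl R)]
            · -- the pair (7, 3)
              have : 4 * 7 * 3 ≤ q * P * R := Nat.mul_le_mul (Nat.mul_le_mul hq4 (by omega)) (by omega)
              omega
          · have h1' := hbr 11 hp11
            omega
        · -- both at least 5, hence one of them at least 7
          have h1' := hbr 5 hp5
          have h2' := hb2 5 he5
          omega

/-- The order 504 case cannot occur. -/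
theorem no_504 (h : Hyp G T) (S : Sylow 2 G) [Fact (Nat.Prime 7)] (P : Sylow 7 G)
    (hS : Nat.card (S : Subgroup G) = 8) (hM : Nat.card (Subgroup.normalizer ((S : Subgroup G) : Set G)) = 56)
    (hP : Nat.card (P : Subgroup G) = 7) (hN : Nat.card (Subgroup.normalizer ((P : Subgroup G) : Set G)) = 14)
    (hT : ∀ t ∈ T, t = 2 ∨ t = 3 ∨ t = 7) (hG : Nat.card G = 504) : False := by
  classical
  haveI : Fact (Nat.Prime 2) := ⟨Nat.prime_two⟩
  set M := Subgroup.normalizer ((S : Subgroup G) : Set G) with hMdef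
  obtain ⟨⟨h₁, hh₁M⟩, hh₁⟩ := exists_prime_orderOf_dvd_card' (G := M) 7 (hM ▸ by norm_num)
  rw [Subgroup.orderOf_mk] at hh₁
  -- an involution inverting h₁
  obtain ⟨Q, hQ⟩ := (IsPGroup.of_card (n := 1) (by rw [Nat.card_zpowers, hh₁, pow_one]) :
    IsPGroup 7 (Subgroup.zpowers h₁)).exists_le_sylow
  obtain ⟨g, hg⟩ := MulAction.exists_smul_eq G P Q
  have hQc : Nat.card (Q : Subgroup G) = 7 := by rw [Q.card_eq_multiplicity, ← P.card_eq_multiplicity, hP]
  have hQz : Subgroup.zpowers h₁ = (Q : Subgroup G) :=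
    Subgroup.eq_of_le_of_card_ge hQ (by rw [Nat.card_zpowers, hh₁, hQc])
  have hNQ : Nat.card (Subgroup.normalizer ((Q : Subgroup G) : Set G)) = 14 := by
    rw [← hN]
    have h1 : (Subgroup.normalizer ((Q : Subgroup G) : Set G)).index = (Subgroup.normalizer ((P : Subgroup G) : Set G)).index :=
      Q.card_eq_index_normalizer.symm.trans P.card_eq_index_normalizer
    have e1 := Subgroup.index_mul_card (Subgroup.normalizer ((Q : Subgroup G) : Set G))
    have e2 := Subgroup.index_mul_card (Subgroup.normalizer ((P : Subgroup G) : Set G))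
    rw [h1] at e1
    exact Nat.eq_of_mul_eq_mul_left (Nat.pos_of_ne_zero Subgroup.index_ne_zero_of_finite) (e1.trans e2.symm)
  obtain ⟨⟨w, hwN⟩, hw⟩ := exists_prime_orderOf_dvd_card' (G := Subgroup.normalizer ((Q : Subgroup G) : Set G)) 2 (hNQ ▸ by norm_num)
  rw [Subgroup.orderOf_mk] at hw
  have hww : w * w = 1 := by rw [← pow_two, ← hw, pow_orderOf_eq_one]
  have hwi : w⁻¹ = w := inv_eq_of_mul_eq_one_right hww
  have hh1 : h₁ ≠ 1 := fun e => by rw [e, orderOf_one] at hh₁; omega
  have hw1 : w ≠ 1 := fun e => by rw [e, orderOf_one] at hw; omega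
  have hnc : ¬ Commute w h₁ := h.not_commute hw1 hh1 (by omega)
  obtain ⟨k, hk⟩ : ∃ k : ℕ, h₁ ^ k = w * h₁ * w⁻¹ := by
    have := (Subgroup.mem_normalizer_iff.1 hwN h₁).1 (hQ (Subgroup.mem_zpowers h₁))
    rw [← hQz] at this
    exact (IsOfFinOrder.mem_powers_iff_mem_zpowers (isOfFinOrder_of_finite h₁)).2 this
  have hinv : w * h₁ * w⁻¹ = h₁⁻¹ := by
    have h2 : h₁ ^ (k * k) = h₁ ^ 1 := by
      rw [pow_mul, hk, conj_pow, hk]
      calc w * (w * h₁ * w⁻¹) * w⁻¹ = (w * w) * h₁ * (w * w)⁻¹ := by group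
        _ = h₁ ^ 1 := by rw [hww]; group
    have h3 : ((k : ZMod 7)) * k = 1 := by
      have := pow_eq_pow_iff_modEq.1 h2
      rw [hh₁, ← ZMod.natCast_eq_natCast_iff] at this
      push_cast at this
      exact this
    rcases mul_self_eq_one_iff.1 h3 with h4 | h4
    · exfalso
      apply hnc
      have : h₁ ^ k = h₁ ^ 1 := pow_eq_pow_iff_modEq.2 (by rw [hh₁, ← ZMod.natCast_eq_natCast_iff]; simpa using h4)
      rw [hk, pow_one] at this
      exact mul_inv_eq_iff_eq_mul.1 this
    · rw [← hk, eq_inv_iff_mul_eq_one, ← pow_succ, ← orderOf_dvd_iff_pow_eq_one, hh₁, ← ZMod.natCast_eq_zero_iff]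
      push_cast
      rw [h4]; ring
  have hSM : (S : Subgroup G) ≤ M := Subgroup.le_normalizer
  have hScomm : ∀ a ∈ (S : Subgroup G), ∀ b ∈ (S : Subgroup G), a * b = b * a ∧ a * a = 1 := by
    have hinv2 : ∀ a ∈ (S : Subgroup G), a * a = 1 := by
      intro a ha
      by_cases ha1 : a = 1
      · rw [ha1, one_mul]
      · rw [← pow_two, ← h.orderOf_eq S.isPGroup' ha ha1, pow_orderOf_eq_one]
    intro a ha b hb
    refine ⟨?_, hinv2 a ha⟩
    calc a * b = a⁻¹ * b⁻¹ := by rw [inv_eq_of_mul_eq_one_right (hinv2 a ha), inv_eq_of_mul_eq_one_right (hinv2 b hb)]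
      _ = (b * a)⁻¹ := by group
      _ = b * a := inv_eq_of_mul_eq_one_right (hinv2 _ (mul_mem hb ha))
  have hwM : w ∉ M := by
    intro hwM
    haveI : ((S : Subgroup G).subgroupOf M).Normal := Subgroup.normal_in_normalizer
    have hwS : w ∈ (S : Subgroup G) := by
      have h1 : orderOf (QuotientGroup.mk' ((S : Subgroup G).subgroupOf M) ⟨w, hwM⟩) = 1 := by
        refine Nat.eq_one_of_dvd_coprimes (a := 2) (b := 7) (by norm_num) ?_ ?_
        · refine (orderOf_map_dvd _ _).trans ?_
          rw [Subgroup.orderOf_mk, hw]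
        · refine (orderOf_dvd_natCard _).trans (dvd_of_eq ?_)
          have e := Subgroup.index_mul_card ((S : Subgroup G).subgroupOf M)
          rw [Nat.card_congr (Subgroup.subgroupOfEquivOfLe hSM).toEquiv, hS, hM] at e
          rw [← Subgroup.index_eq_card]
          omega
      exact (QuotientGroup.eq_one_iff (N := (S : Subgroup G).subgroupOf M) _).1 (orderOf_eq_one_iff.1 h1)
    have h2 : w * h₁ * w⁻¹ * h₁⁻¹ ∈ (S : Subgroup G) := by
      have := (S : Subgroup G).mul_mem hwS ((Subgroup.mem_normalizer_iff.1 hh₁M w⁻¹).1 ((S : Subgroup G).inv_mem hwS))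
      simpa [mul_assoc] using this
    have h3 : w * h₁ * w⁻¹ * h₁⁻¹ ∈ (Q : Subgroup G) := by
      rw [hinv, ← hQz]; exact mul_mem (inv_mem (Subgroup.mem_zpowers _)) (inv_mem (Subgroup.mem_zpowers _))
    have h4 : orderOf (w * h₁ * w⁻¹ * h₁⁻¹) = 1 := Nat.eq_one_of_dvd_coprimes (a := 8) (b := 7) (by norm_num)
      (hS ▸ Subgroup.orderOf_dvd_natCard (S : Subgroup G) h2) (hQc ▸ Subgroup.orderOf_dvd_natCard (Q : Subgroup G) h3)
    exact hnc (mul_inv_eq_iff_eq_mul.1 (mul_inv_eq_one.1 (orderOf_eq_one_iff.1 h4)))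
  obtain ⟨⟨s₀, hs₀S⟩, hs₀⟩ := exists_prime_orderOf_dvd_card' (G := (S : Subgroup G)) 2 (hS ▸ by norm_num)
  rw [Subgroup.orderOf_mk] at hs₀
  have hs₀1 : s₀ ≠ 1 := fun e => by rw [e, orderOf_one] at hs₀; omega
  -- the seven involutions of `S`
  suffices key : ∀ h : G, h ∈ M → orderOf h = 7 → w * h * w⁻¹ = h⁻¹ →
      s₀ * (h * s₀ * h⁻¹) = h ^ (3 : ℤ) * s₀ * (h ^ (3 : ℤ))⁻¹ → False by
    let cj : ℤ → G := fun i => h₁ ^ i * s₀ * (h₁ ^ i)⁻¹
    have hcS : ∀ i, cj i ∈ (S : Subgroup G) := fun i =>
      (Subgroup.mem_normalizer_iff.1 (M.zpow_mem hh₁M i) s₀).1 hs₀S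
    have hper : ∀ i j : ℤ, (i - j) % 7 = 0 → cj i = cj j := by
      intro i j hij
      have : h₁ ^ i = h₁ ^ j := by
        rw [zpow_eq_zpow_iff_modEq, hh₁]
        exact Int.modEq_iff_dvd.2 (by push_cast; omega)
      simp only [cj, this]
    have hne : ∀ i j : ℤ, (i - j) % 7 ≠ 0 → cj i ≠ cj j := by
      intro i j hij e
      have hy : orderOf (h₁ ^ (i - j)) = 7 := by
        refine orderOf_eq_prime ?_ ?_
        · rw [← zpow_natCast, ← zpow_mul, mul_comm, zpow_mul, zpow_natCast, ← hh₁, pow_orderOf_eq_one, one_zpow]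
        · rw [Ne, ← orderOf_dvd_iff_zpow_eq_one, hh₁]
          omega
      refine h.not_commute (x := h₁ ^ (i - j)) (y := s₀) (fun e1 => by rw [e1, orderOf_one] at hy; omega) hs₀1 (by omega) ?_
      show h₁ ^ (i - j) * s₀ = s₀ * h₁ ^ (i - j)
      refine mul_inv_eq_iff_eq_mul.1 ?_
      calc h₁ ^ (i - j) * s₀ * (h₁ ^ (i - j))⁻¹ = (h₁ ^ j)⁻¹ * cj i * h₁ ^ j := by simp only [cj]; group
        _ = (h₁ ^ j)⁻¹ * cj j * h₁ ^ j := by rw [e]
        _ = s₀ := by simp only [cj]; group
    have hne1 : ∀ i, cj i ≠ 1 := fun i e => hs₀1 (conj_eq_one_iff.1 e)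
    -- every non-identity element of `S` is one of them
    obtain ⟨k, hk7, hkk⟩ : ∃ k : ℕ, k < 7 ∧ cj 0 * cj 1 = cj k := by
      by_contra hcon
      push Not at hcon
      let f : Option (Option (Fin 7)) → (S : Subgroup G) := fun o => match o with
        | none => 1
        | some none => ⟨cj 0 * cj 1, mul_mem (hcS 0) (hcS 1)⟩
        | some (some i) => ⟨cj (i : ℕ), hcS _⟩
      have h01 : cj 0 * cj 1 ≠ 1 := fun e => hne 0 1 (by norm_num) ((mul_eq_one_iff_eq_inv.1 e).trans
        (inv_eq_of_mul_eq_one_right (hScomm _ (hcS 1) _ (hcS 1)).2))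
      have hf : Function.Injective f := by
        rintro (_ | _ | i) (_ | _ | j) e
        · rfl
        · exact absurd (congrArg Subtype.val e).symm h01
        · exact absurd (congrArg Subtype.val e).symm (hne1 _)
        · exact absurd (congrArg Subtype.val e) h01
        · rfl
        · exact absurd (congrArg Subtype.val e) (hcon j j.2)
        · exact absurd (congrArg Subtype.val e) (hne1 _)
        · exact absurd (congrArg Subtype.val e).symm (hcon i i.2)
        · by_contra hij
          refine hne ((i : ℕ) : ℤ) ((j : ℕ) : ℤ) ?_ (congrArg Subtype.val e)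
          have := i.2
          have := j.2
          intro h0
          exact hij (by congr 2; ext; omega)
      have := Nat.card_le_card_of_injective f hf
      rw [hS] at this
      simp at this
    have hshift : ∀ i : ℤ, cj i * cj (i + 1) = cj (i + k) := by
      intro i
      have e : ∀ m : ℤ, h₁ ^ i * cj m * (h₁ ^ i)⁻¹ = cj (i + m) := fun m => by simp only [cj]; group
      calc cj i * cj (i + 1) = (h₁ ^ i * cj 0 * (h₁ ^ i)⁻¹) * (h₁ ^ i * cj 1 * (h₁ ^ i)⁻¹) := by rw [e, e, add_zero]
        _ = h₁ ^ i * (cj 0 * cj 1) * (h₁ ^ i)⁻¹ := by group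
        _ = cj (i + k) := by rw [hkk, e]
    have hcancel : ∀ a b c : ℤ, cj a * cj b = cj c → cj a * cj c = cj b := by
      intro a b c e
      rw [← e, ← mul_assoc, (hScomm _ (hcS a) _ (hcS a)).2, one_mul]
    have hcomm' : ∀ a b : ℤ, cj a * cj b = cj b * cj a := fun a b => (hScomm _ (hcS a) _ (hcS b)).1
    interval_cases k
    · exact hne1 1 (mul_left_cancel (hkk.trans (mul_one _).symm))
    · exact hne1 0 (mul_right_cancel (hkk.trans (one_mul _).symm))
    · -- k = 2
      have e1 := hshift 1
      norm_num at e1 hkk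
      refine hne 3 0 (by norm_num) ?_
      rw [← e1, ← hkk, ← mul_assoc, hcomm' 1 0, mul_assoc, (hScomm _ (hcS 1) _ (hcS 1)).2, mul_one]
    · -- k = 3
      refine key h₁ hh₁M hh₁ hinv ?_
      have := hkk
      simp only [cj, zpow_zero, one_mul, inv_one, mul_one, zpow_one] at this
      exact_mod_cast this
    · -- k = 4
      have e1 := hshift 3
      norm_num at e1 hkk
      rw [hper 7 0 (by norm_num), ← hkk, ← mul_assoc, hcomm' 3 0, mul_assoc] at e1
      refine hne 3 1 (by norm_num) ?_
      have e2 : cj 3 * cj 1 = 1 := mul_left_cancel (e1.trans (mul_one _).symm)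
      rw [mul_eq_one_iff_eq_inv, inv_eq_of_mul_eq_one_right (hScomm _ (hcS 1) _ (hcS 1)).2] at e2
      exact e2
    · -- k = 5: use the inverse generator
      have e1 := hshift 6
      norm_num at e1
      rw [hper 7 0 (by norm_num), hper 11 (-3) (by norm_num), hper 6 (-1) (by norm_num), hcomm'] at e1
      refine key h₁⁻¹ (inv_mem hh₁M) (by rw [orderOf_inv, hh₁]) ?_ ?_
      · rw [← conj_inv, hinv]
      · simp only [cj] at e1
        simpa [inv_zpow, zpow_neg] using e1
    · -- k = 6
      have e1 := hshift 6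
      norm_num at e1 hkk
      rw [hper 7 0 (by norm_num), hper 12 5 (by norm_num), hcomm'] at e1
      have e2 := hcancel _ _ _ hkk
      refine hne 5 1 (by norm_num) ?_
      rw [← e1, e2]
  have H := h
  intro h hhM hh7 hinv' hrel
  let cj : ℤ → G := fun i => h ^ i * s₀ * (h ^ i)⁻¹
  have hcS : ∀ i, cj i ∈ (S : Subgroup G) := fun i =>
    (Subgroup.mem_normalizer_iff.1 (M.zpow_mem hhM i) s₀).1 hs₀S
  have hper : ∀ i j : ℤ, (i - j) % 7 = 0 → cj i = cj j := by
    intro i j hij
    have : h ^ i = h ^ j := by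
      rw [zpow_eq_zpow_iff_modEq, hh7]
      exact Int.modEq_iff_dvd.2 (by push_cast; omega)
    simp only [cj, this]
  have hrel3 : ∀ i : ℤ, cj i * cj (i + 1) = cj (i + 3) := by
    intro i
    calc cj i * cj (i + 1) = h ^ i * (s₀ * (h * s₀ * h⁻¹)) * (h ^ i)⁻¹ := by simp only [cj]; group
      _ = cj (i + 3) := by rw [hrel]; simp only [cj]; group
  have hcomm' : ∀ a b : ℤ, cj a * cj b = cj b * cj a := fun a b => (hScomm _ (hcS a) _ (hcS b)).1
  have hcancel : ∀ a b c : ℤ, cj a * cj b = cj c → cj a * cj c = cj b := by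
    intro a b c e
    rw [← e, ← mul_assoc, (hScomm _ (hcS a) _ (hcS a)).2, one_mul]
  have hwz : ∀ i : ℤ, w * h ^ i = h ^ (-i) * w := by
    intro i
    rw [← mul_inv_eq_iff_eq_mul, ← conj_zpow, hinv', inv_zpow, ← zpow_neg]
  -- normalise the involution so that it fixes the point of s₀
  obtain ⟨j, hj⟩ : ∃ j : ℤ, ((w * s₀ * w : G) : G ⧸ M) = ((cj j * w : G) : G ⧸ M) := by
    by_contra hcon
    push Not at hcon
    let f : Option (Option (Option (Fin 7))) → G ⧸ M := fun o => match o with
      | none => ((1 : G) : G ⧸ M)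
      | some none => ((w : G) : G ⧸ M)
      | some (some none) => ((w * s₀ * w : G) : G ⧸ M)
      | some (some (some i)) => ((cj (i : ℕ) * w : G) : G ⧸ M)
    have hsep : ∀ a b : G, a ∈ (S : Subgroup G) → b ∈ (S : Subgroup G) → ((a * w : G) : G ⧸ M) = ((b * w : G) : G ⧸ M) → a = b := by
      intro a b ha hb e
      rw [QuotientGroup.eq] at e
      set c := a⁻¹ * b with hc
      have hcS' : c ∈ (S : Subgroup G) := mul_mem (inv_mem ha) hb
      have e' : w * c * w ∈ M := by
        have h2 : (a * w)⁻¹ * (b * w) = w * c * w := by rw [mul_inv_rev, hwi, hc]; group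
        rwa [h2] at e
      by_contra hab
      have hc1 : c ≠ 1 := fun e1 => hab (inv_mul_eq_one.1 e1)
      have hconj : w * c * w = MulAut.conj w c := by rw [MulAut.conj_apply, hwi]
      have hord2 : orderOf (w * c * w) = 2 := by
        rw [hconj, MulEquiv.orderOf_eq, H.orderOf_eq S.isPGroup' hcS' hc1]
      haveI : ((S : Subgroup G).subgroupOf M).Normal := Subgroup.normal_in_normalizer
      have hin : w * c * w ∈ (S : Subgroup G) := by
        have h1 : orderOf (QuotientGroup.mk' ((S : Subgroup G).subgroupOf M) ⟨_, e'⟩) = 1 := by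
          refine Nat.eq_one_of_dvd_coprimes (a := 2) (b := 7) (by norm_num) ?_ ?_
          · refine (orderOf_map_dvd _ _).trans ?_
            rw [Subgroup.orderOf_mk, hord2]
          · refine (orderOf_dvd_natCard _).trans (dvd_of_eq ?_)
            have e := Subgroup.index_mul_card ((S : Subgroup G).subgroupOf M)
            rw [Nat.card_congr (Subgroup.subgroupOfEquivOfLe hSM).toEquiv, hS, hM] at e
            rw [← Subgroup.index_eq_card]
            omega
        exact (QuotientGroup.eq_one_iff (N := (S : Subgroup G).subgroupOf M) _).1 (orderOf_eq_one_iff.1 h1)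
      -- the two Sylow subgroups share an involution
      obtain ⟨U, hU⟩ := H.centralizer_sylow (H.orderOf_eq S.isPGroup' hcS' hc1)
      have hSU : (S : Subgroup G) ≤ Subgroup.centralizer ({c} : Set G) := fun a ha =>
        Subgroup.mem_centralizer_singleton_iff.2 (hScomm a ha c hcS').1
      have hCc : Subgroup.centralizer ({c} : Set G) = (S : Subgroup G) :=
        S.3 (H.isPGroup_centralizer (H.orderOf_eq S.isPGroup' hcS' hc1)) hSU
      refine hwM (Subgroup.mem_normalizer_iff.2 fun a => ⟨fun ha => ?_, fun ha => ?_⟩)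
      · have h2 : Subgroup.centralizer ({w * c * w} : Set G) = (S : Subgroup G) :=
          S.3 (H.isPGroup_centralizer hord2) fun a ha => Subgroup.mem_centralizer_singleton_iff.2 (hScomm a ha _ hin).1
        rw [← h2, Subgroup.mem_centralizer_singleton_iff]
        have e1 := (hScomm a ha c hcS').1
        rw [hconj, MulAut.conj_apply]
        calc w * a * w⁻¹ * (w * c * w⁻¹) = w * (a * c) * w⁻¹ := by group
          _ = w * (c * a) * w⁻¹ := by rw [e1]
          _ = _ := by group
      · rw [← hCc, Subgroup.mem_centralizer_singleton_iff]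
        have e1 := (hScomm _ ha _ hin).1
        rw [hconj, MulAut.conj_apply] at e1
        calc a * c = w⁻¹ * ((w * a * w⁻¹) * (w * c * w⁻¹)) * w := by group
          _ = w⁻¹ * ((w * c * w⁻¹) * (w * a * w⁻¹)) * w := by rw [e1]
          _ = c * a := by group
    have hsM : ∀ a ∈ (S : Subgroup G), ((a * w : G) : G ⧸ M) ≠ ((1 : G) : G ⧸ M) := by
      intro a ha e
      rw [QuotientGroup.eq] at e
      have : w⁻¹ * a⁻¹ * 1 ∈ M := by simpa using e
      apply hwM
      have h2 : w⁻¹ ∈ M := by simpa [mul_assoc] using mul_mem this (hSM ha)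
      exact M.inv_mem_iff.1 h2
    have hw0 : ((w * s₀ * w : G) : G ⧸ M) ≠ ((1 : G) : G ⧸ M) := by
      intro e
      rw [QuotientGroup.eq] at e
      have h1 : w * s₀ * w ∈ M := by
        have h2 := M.inv_mem e
        simpa using h2
      refine hs₀1 (hsep 1 s₀ (one_mem _) hs₀S ?_).symm
      rw [one_mul, QuotientGroup.eq, hwi, ← mul_assoc]
      exact h1
    have hw1' : ((w * s₀ * w : G) : G ⧸ M) ≠ ((w : G) : G ⧸ M) := by
      intro e
      rw [QuotientGroup.eq] at e
      apply hwM
      have h1 : w * s₀⁻¹ * w * w ∈ M := by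
        have h2 : (w * s₀ * w)⁻¹ * w = w * s₀⁻¹ * w * w := by rw [mul_inv_rev, mul_inv_rev, hwi]; group
        rwa [h2] at e
      rw [mul_assoc, hww, mul_one] at h1
      simpa using mul_mem h1 (hSM hs₀S)
    have hne : ∀ i j : ℕ, i < 7 → j < 7 → cj i = cj j → i = j := by
      intro i j hi hj' e
      by_contra hij
      have hy : orderOf (h ^ ((i : ℤ) - j)) = 7 := by
        refine orderOf_eq_prime ?_ ?_
        · rw [← zpow_natCast, ← zpow_mul, mul_comm, zpow_mul, zpow_natCast, ← hh7, pow_orderOf_eq_one, one_zpow]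
        · rw [Ne, ← orderOf_dvd_iff_zpow_eq_one, hh7]
          omega
      refine ‹Hyp G T›.not_commute (x := h ^ ((i : ℤ) - j)) (y := s₀) (fun e1 => by rw [e1, orderOf_one] at hy; omega) hs₀1 (by omega) ?_
      show h ^ ((i : ℤ) - j) * s₀ = s₀ * h ^ ((i : ℤ) - j)
      refine mul_inv_eq_iff_eq_mul.1 ?_
      calc h ^ ((i : ℤ) - j) * s₀ * (h ^ ((i : ℤ) - j))⁻¹ = (h ^ (j : ℤ))⁻¹ * cj i * h ^ (j : ℤ) := by simp only [cj]; group
        _ = (h ^ (j : ℤ))⁻¹ * cj j * h ^ (j : ℤ) := by rw [e]
        _ = s₀ := by simp only [cj]; group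
    have hf : Function.Injective f := by
      rintro (_ | _ | _ | i) (_ | _ | _ | j) e
      all_goals simp only [f] at e
      · rfl
      · exact absurd (by rw [one_mul]; exact e.symm) (hsM 1 (one_mem _))
      · exact absurd e.symm hw0
      · exact absurd e.symm (hsM _ (hcS _))
      · exact absurd (by rw [one_mul]; exact e) (hsM 1 (one_mem _))
      · rfl
      · exact absurd e.symm hw1'
      · exact absurd (hsep _ _ (one_mem _) (hcS _) (by rwa [one_mul])).symm (fun e' => hs₀1 (conj_eq_one_iff.1 e'))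
      · exact absurd e hw0
      · exact absurd e hw1'
      · rfl
      · exact absurd e (hcon _)
      · exact absurd e (hsM _ (hcS _))
      · exact absurd (hsep _ _ (hcS _) (one_mem _) (by rwa [one_mul])) (fun e' => hs₀1 (conj_eq_one_iff.1 e'))
      · exact absurd e.symm (hcon _)
      · obtain rfl : i = j := Fin.ext (hne _ _ i.2 j.2 (hsep _ _ (hcS _) (hcS _) e))
        rfl
    have h1 := Nat.card_le_card_of_injective f hf
    simp only [Nat.card_eq_fintype_card (α := Option (Option (Option (Fin 7)))), Fintype.card_option, Fintype.card_fin] at h1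
    have h2 : Nat.card (G ⧸ M) * 56 = Nat.card G := by
      rw [← Subgroup.index_eq_card, ← hM, Subgroup.index_mul_card]
    omega
  -- the modified involution and its product with an involution of `S`
  have hright : ∀ x m : G, m ∈ M → ((x * m : G) : G ⧸ M) = ((x : G) : G ⧸ M) := fun x m hm =>
    QuotientGroup.mk_mul_of_mem x hm
  have hleft : ∀ a x y : G, ((x : G) : G ⧸ M) = ((y : G) : G ⧸ M) → ((a * x : G) : G ⧸ M) = ((a * y : G) : G ⧸ M) := by
    intro a x y e
    rw [QuotientGroup.eq] at e ⊢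
    rwa [mul_inv_rev, mul_assoc, inv_mul_cancel_left]
  have hwj : h ^ (-j) * w = w * h ^ j := (hwz j).symm
  have hflip : ∀ i : ℤ, ((h ^ (-j) * w * (cj i * w) : G) : G ⧸ M) = ((cj (-i) * w : G) : G ⧸ M) := by
    intro i
    have e1 : h ^ (-j) * w * (cj i * w) = h ^ (-j) * h ^ (-i) * (w * s₀ * w) * h ^ i := by
      have a1 := hwz i
      have a2 : (h ^ i)⁻¹ * w = w * h ^ i := by rw [← zpow_neg, ← hwz]
      calc h ^ (-j) * w * (cj i * w) = h ^ (-j) * (w * h ^ i) * s₀ * ((h ^ i)⁻¹ * w) := by
            simp only [cj, mul_assoc]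
        _ = _ := by rw [a1, a2]; simp only [mul_assoc]
    rw [e1, hright _ _ (M.zpow_mem hhM i), hleft _ _ _ hj]
    have e2 : h ^ (-j) * h ^ (-i) * (cj j * w) = h ^ (-i) * s₀ * (w * h ^ j) := by
      rw [← hwj]
      simp only [cj]
      group
    have e3 : cj (-i) * w = h ^ (-i) * s₀ * (w * h ^ (-i)) := by
      rw [hwz (-i), neg_neg]
      simp only [cj]
      group
    rw [e2, e3, ← mul_assoc, hright _ _ (M.zpow_mem hhM j), ← mul_assoc, hright _ _ (M.zpow_mem hhM (-i))]
  set g := cj 1 * (h ^ (-j) * w) with hgdef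
  have hstep : ∀ (i k : ℤ) (m : ℕ), cj 1 * cj (-i) = cj k → ((g ^ m : G) : G ⧸ M) = ((cj i * w : G) : G ⧸ M) →
      ((g ^ (m + 1) : G) : G ⧸ M) = ((cj k * w : G) : G ⧸ M) := by
    intro i k m hik hm
    rw [pow_succ', hleft _ _ _ hm, hgdef, mul_assoc (cj 1), hleft _ _ _ (hflip i), ← mul_assoc, hik]
  have g1 : ((g ^ 1 : G) : G ⧸ M) = ((cj 1 * w : G) : G ⧸ M) := by
    rw [pow_one, hgdef, hwj, ← mul_assoc, hright _ _ (M.zpow_mem hhM j)]
  have r561 : cj 5 * cj 6 = cj 1 := by
    have := hrel3 5
    norm_num at this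
    rw [this, hper 8 1 (by norm_num)]
  have r156 : cj 1 * cj 5 = cj 6 := by rw [hcomm', hcancel _ _ _ r561]
  have r013 : cj 1 * cj 0 = cj 3 := by
    have := hrel3 0
    norm_num at this
    rwa [hcomm'] at this
  have r124 : cj 1 * cj 2 = cj 4 := by
    have := hrel3 1
    norm_num at this
    exact this
  have g2 := hstep 1 5 1 (by rw [hper (-1) 6 (by norm_num)]; exact hcancel _ _ _ r156) g1
  have g3 := hstep 5 4 _ (by rw [hper (-5) 2 (by norm_num)]; exact r124) g2
  have g4 := hstep 4 0 _ (by rw [hper (-4) 3 (by norm_num)]; exact hcancel _ _ _ r013) g3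
  have g5 := hstep 0 3 _ (by rw [neg_zero]; exact r013) g4
  have g6 := hstep 3 2 _ (by rw [hper (-3) 4 (by norm_num)]; exact hcancel _ _ _ r124) g5
  have g7 := hstep 2 6 _ (by rw [hper (-2) 5 (by norm_num)]; exact r156) g6
  have hno : ∀ (i : ℤ) (m : ℕ), ((g ^ m : G) : G ⧸ M) = ((cj i * w : G) : G ⧸ M) → g ^ m ≠ 1 := by
    intro i m e em
    rw [em, QuotientGroup.eq, inv_one, one_mul] at e
    exact hwM ((M.mul_mem_cancel_left (hSM (hcS i))).1 e)
  have hg1 : g ≠ 1 := by simpa using hno 1 1 g1
  rcases hT _ (H.order g hg1) with e | e | e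
  · exact hno 5 2 g2 (e ▸ pow_orderOf_eq_one g)
  · exact hno 4 3 g3 (e ▸ pow_orderOf_eq_one g)
  · exact hno 6 7 g7 (e ▸ pow_orderOf_eq_one g)

/-- The two possible shapes of one prime's data: abelian Sylow subgroup, or a large non-abelian one. -/
theorem Hyp.cases (h : Hyp G T) {p : ℕ} (hp : p ∈ T) :
    ∃ Pc f c n : ℕ, Nat.card {x : G // orderOf x = p} = c ∧ Pc = p ^ (Nat.card G).factorization p ∧
      n * (f * Pc) = Nat.card G ∧ n % p = 1 ∧
      (∀ P : Sylow p G, Nat.card (P : Subgroup G) = Pc ∧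
        Nat.card (Subgroup.normalizer ((P : Subgroup G) : Set G)) = f * Pc) ∧
      ((f ∈ T ∧ f ≠ p ∧ f ∣ Pc - 1 ∧ f * c + n * f = Nat.card G) ∨ (2 < p ∧ p * p * c < Nat.card G)) := by
  obtain ⟨Pc, z, f, c, n, hc, hPc, hz1, hpz, hzP, hcz, hn, hmod, hf, hfT, hab, hna, hnorm⟩ := h.prime_data hp
  refine ⟨Pc, f, c, n, hc, hPc, hn, hmod, hnorm, ?_⟩
  have hPpos : 0 < Pc := hPc ▸ pow_pos (h.prime p hp).pos _
  rcases Nat.lt_or_ge z Pc with hlt | hge
  · right
    obtain ⟨hle, hp2⟩ := hna hlt
    refine ⟨hp2, ?_⟩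
    have hnf : 0 < n * (f * Pc) := hn ▸ Nat.card_pos
    have hn0 : 0 < n := Nat.pos_of_mul_pos_right hnf
    have hf0 : 0 < f := Nat.pos_of_mul_pos_right (Nat.pos_of_mul_pos_left hnf)
    rw [← hn, hcz]
    calc p * p * (n * (z - 1)) = n * ((z - 1) * p ^ 2) := by ring
      _ < n * Pc := Nat.mul_lt_mul_of_pos_left (lt_of_lt_of_le
          (Nat.mul_lt_mul_of_pos_right (by omega) (pow_pos (h.prime p hp).pos 2)) hle) hn0
      _ ≤ n * (f * Pc) := Nat.mul_le_mul_left n (Nat.le_mul_of_pos_left Pc hf0)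
  · left
    obtain rfl : z = Pc := le_antisymm (Nat.le_of_dvd hPpos hzP) hge
    obtain ⟨hfT', hfp⟩ := hfT.resolve_left (hab rfl)
    refine ⟨hfT', hfp, hf, ?_⟩
    rw [← hn, hcz]
    obtain ⟨k, rfl⟩ : ∃ k, z = k + 1 := ⟨z - 1, by omega⟩
    rw [Nat.add_sub_cancel]
    ring

theorem Hyp.sum_eq (h : Hyp G T) :
    ∑ p ∈ T, Nat.card {x : G // orderOf x = p} + 1 = Nat.card G := by
  classical
  haveI := Fintype.ofFinite G
  have h1T : (1 : ℕ) ∉ T := fun h1 => Nat.not_prime_one (h.prime 1 h1)
  have hmaps : Set.MapsTo (orderOf : G → ℕ) ((Finset.univ : Finset G) : Set G) ((insert 1 T : Finset ℕ) : Set ℕ) := by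
    intro x _
    rw [Finset.mem_coe, Finset.mem_insert]
    by_cases hx : x = 1
    · exact Or.inl (by rw [hx, orderOf_one])
    · exact Or.inr (h.order x hx)
  have hsum := Finset.card_eq_sum_card_fiberwise hmaps
  rw [Finset.sum_insert h1T] at hsum
  have h1 : (Finset.univ.filter fun x : G => orderOf x = 1).card = 1 := by
    rw [Finset.card_eq_one]
    exact ⟨1, by ext x; simp⟩
  rw [h1, Finset.card_univ] at hsum
  rw [Nat.card_eq_fintype_card (α := G), hsum, Nat.add_comm]
  congr 1
  refine Finset.sum_congr rfl fun p _ => ?_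
  rw [Nat.card_eq_fintype_card, Fintype.card_subtype]

/-- A prime among three whose data are favourably labelled determines the group. -/
theorem Hyp.finish (h : Hyp G T) {p r : ℕ} (h2 : 2 ∈ T) (hp : p ∈ T) (hr : r ∈ T) (hp2 : p ≠ 2) (hr2 : r ≠ 2)
    (hpr : p ≠ r) {q e c2 n2 P cp np R fr cr nr : ℕ}
    (hq : q = 2 ^ (Nat.card G).factorization 2) (hc2 : Nat.card {x : G // orderOf x = 2} = c2)
    (hn2 : n2 * (e * q) = Nat.card G) (heT : e ∈ T) (he2 : e ≠ 2) (he : e ∣ q - 1) (he' : e * c2 + n2 * e = Nat.card G)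
    (hP : P = p ^ (Nat.card G).factorization p) (hcp : Nat.card {x : G // orderOf x = p} = cp)
    (hnp : np * (2 * P) = Nat.card G) (hmp : np % p = 1) (hcp' : 2 * cp + np * 2 = Nat.card G)
    (hnormp : ∀ Q : Sylow p G, Nat.card (Q : Subgroup G) = P ∧
      Nat.card (Subgroup.normalizer ((Q : Subgroup G) : Set G)) = 2 * P)
    (hR : R = r ^ (Nat.card G).factorization r) (hcr : Nat.card {x : G // orderOf x = r} = cr)
    (hnr : nr * (fr * R) = Nat.card G) (hfrT : fr ∈ T) (hfrr : fr ≠ r) (hfr : fr ∣ R - 1)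
    (hcr' : fr * cr + nr * fr = Nat.card G)
    (hnormr : ∀ Q : Sylow r G, Nat.card (Q : Subgroup G) = R ∧
      Nat.card (Subgroup.normalizer ((Q : Subgroup G) : Set G)) = fr * R)
    (hnorm2 : ∀ Q : Sylow 2 G, Nat.card (Q : Subgroup G) = q ∧
      Nat.card (Subgroup.normalizer ((Q : Subgroup G) : Set G)) = e * q)
    (hsym : fr = 2 → e = p) : Nonempty (G ≃* alternatingGroup (Fin 5)) := by
  classical
  have hpp := h.prime p hp
  have hrp := h.prime r hr
  haveI := Fact.mk hpp
  haveI := Fact.mk hrp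
  haveI := Fact.mk Nat.prime_two
  have hTeq : ({2, p, r} : Finset ℕ) = T := by
    refine Finset.eq_of_subset_of_card_le ?_ ?_
    · intro x hx
      simp only [Finset.mem_insert, Finset.mem_singleton] at hx
      rcases hx with rfl | rfl | rfl <;> assumption
    · rw [h.card_three, Finset.card_insert_of_notMem (by simp [hp2.symm, hr2.symm]), Finset.card_pair hpr]
  have hTor : ∀ t ∈ T, t = 2 ∨ t = p ∨ t = r := fun t ht => by
    rw [← hTeq] at ht
    simpa using ht
  have hprod : Nat.card G = q * P * R := by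
    conv_lhs => rw [← Nat.prod_factorization_pow_eq_self (n := Nat.card G) Nat.card_pos.ne',
      Finsupp.prod_of_support_subset _ (s := T) (fun t ht => by
        rw [Nat.support_factorization, Nat.mem_primeFactors] at ht
        exact h.primes t ht.1 ht.2.1) _ (by simp)]
    rw [← hTeq, Finset.prod_insert (by simp [hp2.symm, hr2.symm]), Finset.prod_pair hpr, hq, hP, hR, mul_assoc]
  have hsum : c2 + cp + cr + 1 = q * P * R := by
    have e0 := h.sum_eq
    rw [← hTeq, Finset.sum_insert (by simp [hp2.symm, hr2.symm]), Finset.sum_pair hpr, hc2, hcp, hcr, hprod] at e0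
    omega
  have hq0 : 0 < q := hq ▸ pow_pos two_pos _
  have hP0 : 0 < P := hP ▸ pow_pos hpp.pos _
  have hR0 : 0 < R := hR ▸ pow_pos hrp.pos _
  have hn2' : n2 * e = P * R := Nat.eq_of_mul_eq_mul_left hq0 (by rw [← mul_assoc q P R, ← hprod, ← hn2]; ring)
  have hnp' : 2 * np = q * R := Nat.eq_of_mul_eq_mul_left hP0 (by
    rw [show P * (q * R) = q * P * R by ring, ← hprod, ← hnp]; ring)
  have hnr' : nr * fr = q * P := Nat.eq_of_mul_eq_mul_left hR0 (by
    rw [show R * (q * P) = q * P * R by ring, ← hprod, ← hnr]; ring)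
  rw [hn2', hprod] at he'
  rw [mul_comm np 2, hnp', hprod] at hcp'
  rw [hnr', hprod] at hcr'
  have heor : e = p ∨ e = r := (hTor e heT).resolve_left he2
  have hfror : fr = 2 ∨ fr = p := by
    rcases hTor fr hfrT with x | x | x
    · exact Or.inl x
    · exact Or.inr x
    · exact absurd x hfrr
  have hpdvd : ∀ t, t ∈ T → t ∣ t ^ (Nat.card G).factorization t := fun t ht =>
    dvd_pow_self t ((h.prime t ht).factorization_pos_of_dvd Nat.card_pos.ne' (h.dvd t ht)).ne'
  have hA := arith hpp hrp hpr hp2 hr2 ⟨_, hP⟩ ⟨_, hR⟩ ⟨_, hq⟩ (hP ▸ hpdvd p hp) (hR ▸ hpdvd r hr) hsum heor he he'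
    rfl hcp' hnp' hmp hfror hfr hcr' hsym
  rcases hA with ⟨rfl, rfl, rfl, rfl⟩ | ⟨rfl, rfl, rfl, rfl⟩
  · have hp3 : p = 3 := (Nat.prime_dvd_prime_iff_eq hpp Nat.prime_three).1 (hP.symm ▸ hpdvd p hp)
    have hr5 : r = 5 := (Nat.prime_dvd_prime_iff_eq hrp (by norm_num)).1 (hR.symm ▸ hpdvd r hr)
    subst hp3 hr5
    refine Cfsg.Agent.PSL2.mulEquiv_alternatingFive hprod (fun x => ?_) (fun h5 => ?_)
    · by_cases hx : x = 1
      · simp [hx]
      · rcases hTor _ (h.order x hx) with x' | x' | x' <;> simp [x']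
    · obtain ⟨Q⟩ := (inferInstance : Nonempty (Sylow 5 G))
      have e1 := Subgroup.index_mul_card (Subgroup.normalizer ((Q : Subgroup G) : Set G))
      rw [(hnormr Q).2, hprod,
        show (Subgroup.normalizer ((Q : Subgroup G) : Set G)).index = 1 from Q.card_eq_index_normalizer.symm.trans h5] at e1
      norm_num at e1
  · exfalso
    have hp7 : p = 7 := (Nat.prime_dvd_prime_iff_eq hpp (by norm_num)).1 (hP.symm ▸ hpdvd p hp)
    have hr3 : r = 3 := (Nat.prime_dvd_prime_iff_eq hrp Nat.prime_three).1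
      (hrp.dvd_of_dvd_pow (n := 2) (by have := hpdvd r hr; rw [← hR] at this; simpa using this))
    subst hp7 hr3
    obtain rfl : e = 7 := hsym rfl
    obtain ⟨S⟩ := (inferInstance : Nonempty (Sylow 2 G))
    obtain ⟨Q⟩ := (inferInstance : Nonempty (Sylow 7 G))
    refine no_504 h S Q (hnorm2 S).1 (hnorm2 S).2 (hnormp Q).1 (hnormp Q).2 (fun t ht => ?_) hprod
    rcases hTor t ht with x | x | x <;> omega

theorem Hyp.two_mem (h : Hyp G T) : 2 ∈ T := by
  classical
  by_contra h2
  have hodd : ∀ p ∈ T, 3 ≤ p := fun p hp => by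
    have h2' : p ≠ 2 := fun e => h2 (e ▸ hp)
    have := (h.prime p hp).two_le
    omega
  have key : ∀ p ∈ T, 3 * Nat.card {x : G // orderOf x = p} < Nat.card G ∧
      ((p = 3 ∨ 3 ∉ T) → 5 * Nat.card {x : G // orderOf x = p} < Nat.card G) := by
    intro p hp
    obtain ⟨Pc, f, c, n, rfl, -, hn, -, -, hcase⟩ := h.cases hp
    rcases hcase with ⟨hfT, hfp, -, he⟩ | ⟨-, hlt⟩
    · have hpos : 0 < n * f := by
        have h0 : 0 < n * f * Pc := by rw [mul_assoc, hn]; exact Nat.card_pos
        exact Nat.pos_of_mul_pos_right h0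
      refine ⟨?_, fun h' => ?_⟩
      · have := Nat.mul_le_mul_right (Nat.card {x : G // orderOf x = p}) (hodd f hfT)
        omega
      · have hf5 : 5 ≤ f := by
          by_contra hcon
          have hf3 := hodd f hfT
          rcases (show f = 3 ∨ f = 4 by omega) with rfl | rfl
          · rcases h' with e | e
            · exact hfp e.symm
            · exact e hfT
          · exact absurd (h.prime 4 hfT) (by norm_num)
        have := Nat.mul_le_mul_right (Nat.card {x : G // orderOf x = p}) hf5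
        omega
    · have := Nat.mul_le_mul_right (Nat.card {x : G // orderOf x = p}) (Nat.mul_le_mul (hodd p hp) (hodd p hp))
      exact ⟨by omega, fun _ => by omega⟩
  obtain ⟨a, haT, ha⟩ : ∃ a ∈ T, a = 3 ∨ 3 ∉ T := by
    by_cases h3 : 3 ∈ T
    · exact ⟨3, h3, Or.inl rfl⟩
    · obtain ⟨a, ha⟩ := Finset.card_pos.1 (by rw [h.card_three]; norm_num : 0 < T.card)
      exact ⟨a, ha, Or.inr h3⟩
  obtain ⟨b, d, hbd, hbd'⟩ := Finset.card_eq_two.1 (show (T.erase a).card = 2 by
    rw [Finset.card_erase_of_mem haT, h.card_three])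
  have hs := h.sum_eq
  rw [← Finset.add_sum_erase _ _ haT, hbd', Finset.sum_pair hbd] at hs
  have h1 := (key a haT).2 ha
  have h2' := (key b (Finset.mem_of_mem_erase (a := a) (by rw [hbd']; simp))).1
  have h3 := (key d (Finset.mem_of_mem_erase (a := a) (by rw [hbd']; simp))).1
  have hg : 3 ≤ Nat.card G := (hodd a haT).trans (Nat.le_of_dvd Nat.card_pos (h.dvd a haT))
  omega

theorem Hyp.main (h : Hyp G T) : Nonempty (G ≃* alternatingGroup (Fin 5)) := by
  classical
  have h2T := h.two_mem
  obtain ⟨q, e, c2, n2, hc2, hq, hn2, -, hnorm2, hcase⟩ := h.cases h2T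
  rcases hcase with ⟨heT, he2, he, he'⟩ | ⟨h22, -⟩
  swap
  · omega
  obtain ⟨a, b, hab, hT2⟩ := Finset.card_eq_two.1 (show (T.erase 2).card = 2 by
    rw [Finset.card_erase_of_mem h2T, h.card_three])
  have hmem : ∀ x, x ∈ ({a, b} : Finset ℕ) → x ∈ T ∧ x ≠ 2 := fun x hx => by
    rw [← hT2, Finset.mem_erase] at hx
    exact ⟨hx.2, hx.1⟩
  obtain ⟨haT, ha2⟩ := hmem a (by simp)
  obtain ⟨hbT, hb2⟩ := hmem b (by simp)
  have hTor : ∀ t ∈ T, t = 2 ∨ t = a ∨ t = b := fun t ht => by
    by_cases ht2 : t = 2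
    · exact Or.inl ht2
    · have : t ∈ T.erase 2 := Finset.mem_erase.2 ⟨ht2, ht⟩
      rw [hT2] at this
      simpa [ht2] using this
  have hge3 : ∀ t ∈ T, t ≠ 2 → 3 ≤ t := fun t ht ht2 => by
    have := (h.prime t ht).two_le
    omega
  have hne4 : ∀ t ∈ T, t ≠ 4 := fun t ht e4 => absurd (h.prime t ht) (by rw [e4]; norm_num)
  obtain ⟨A, fa, ca, na, hca, hA, hna, hma, hnorma, hcasea⟩ := h.cases haT
  obtain ⟨B, fb, cb, nb, hcb, hB, hnb, hmb, hnormb, hcaseb⟩ := h.cases hbT
  have hsum : c2 + ca + cb + 1 = Nat.card G := by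
    have e0 := h.sum_eq
    rw [← Finset.add_sum_erase _ _ h2T, hT2, Finset.sum_pair hab, hc2, hca, hcb] at e0
    omega
  have hg : 18 ≤ Nat.card G := by
    have hq4 : 4 ≤ q := by
      have := hge3 e heT he2
      rcases Nat.eq_zero_or_pos (q - 1) with h0 | h0
      · exfalso
        have hdv : 2 ∣ q := hq ▸ dvd_pow_self 2
          (Nat.prime_two.factorization_pos_of_dvd Nat.card_pos.ne' (h.dvd 2 h2T)).ne'
        have hqpos : 0 < q := hq ▸ pow_pos two_pos _
        have := Nat.le_of_dvd hqpos hdv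
        omega
      · have := Nat.le_of_dvd h0 he
        omega
    have hd : q ∣ Nat.card G := hq ▸ Nat.ordProj_dvd _ 2
    obtain ⟨k, hk⟩ := hd
    have hco : ∀ t ∈ T, t ≠ 2 → t ∣ k := fun t ht ht2 => by
      refine (Nat.Coprime.dvd_mul_left ?_).1 (hk ▸ h.dvd t ht)
      rw [hq]
      exact ((Nat.coprime_primes (h.prime t ht) Nat.prime_two).2 ht2).pow_right _
    have hk0 : 0 < k := by
      rcases Nat.eq_zero_or_pos k with h0 | h0
      · rw [h0, mul_zero] at hk; exact absurd hk Nat.card_pos.ne'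
      · exact h0
    have hab' : a * b ≤ k := Nat.le_of_dvd hk0 (((Nat.coprime_primes (h.prime a haT) (h.prime b hbT)).2 hab).mul_dvd_of_dvd_of_dvd
      (hco a haT ha2) (hco b hbT hb2))
    have := Nat.mul_le_mul hq4 ((Nat.mul_le_mul (hge3 a haT ha2) (hge3 b hbT hb2)).trans hab')
    omega
  have h2b : 3 * c2 < Nat.card G := by
    have := Nat.mul_le_mul_right c2 (hge3 e heT he2)
    have : 0 < n2 * e := by
      have h0 : 0 < n2 * e * q := by rw [mul_assoc, hn2]; exact Nat.card_pos
      exact Nat.pos_of_mul_pos_right h0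
    omega
  have bound : ∀ (p f c n : ℕ), p ∈ T → p ≠ 2 →
      ((f ∈ T ∧ f * c + n * f = Nat.card G) ∨ (2 < p ∧ p * p * c < Nat.card G)) →
      0 < n * f → 2 * c < Nat.card G := by
    intro p f c n hp hp2 hc hpos
    rcases hc with ⟨hf, he⟩ | ⟨-, hlt⟩
    · have := Nat.mul_le_mul_right c (h.prime f hf).two_le
      omega
    · have := Nat.mul_le_mul_right c (Nat.mul_le_mul (hge3 p hp hp2) (hge3 p hp hp2))
      omega
  have hposa : 0 < na * fa := by
    have h0 : 0 < na * fa * A := by rw [mul_assoc, hna]; exact Nat.card_pos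
    exact Nat.pos_of_mul_pos_right h0
  have hposb : 0 < nb * fb := by
    have h0 : 0 < nb * fb * B := by rw [mul_assoc, hnb]; exact Nat.card_pos
    exact Nat.pos_of_mul_pos_right h0
  -- both odd primes have abelian Sylow subgroups
  rcases hcasea with ⟨hfaT, hfaa, hfad, hea⟩ | ⟨-, hlta⟩
  swap
  · exfalso
    have h1 := Nat.mul_le_mul_right ca (Nat.mul_le_mul (hge3 a haT ha2) (hge3 a haT ha2))
    have h2 := bound b fb cb nb hbT hb2 (hcaseb.imp (fun x => ⟨x.1, x.2.2.2⟩) id) hposb
    omega
  rcases hcaseb with ⟨hfbT, hfbb, hfbd, heb⟩ | ⟨-, hltb⟩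
  swap
  · exfalso
    have h1 := Nat.mul_le_mul_right cb (Nat.mul_le_mul (hge3 b hbT hb2) (hge3 b hbT hb2))
    have h2 := bound a fa ca na haT ha2 (Or.inl ⟨hfaT, hea⟩) hposa
    omega
  have hfa : fa = 2 ∨ fa = b := by
    rcases hTor fa hfaT with x | x | x
    · exact Or.inl x
    · exact absurd x hfaa
    · exact Or.inr x
  have hfb : fb = 2 ∨ fb = a := by
    rcases hTor fb hfbT with x | x | x
    · exact Or.inl x
    · exact Or.inr x
    · exact absurd x hfbb
  have heab : e = a ∨ e = b := (hTor e heT).resolve_left he2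
  by_cases hfa2 : fa = 2
  · subst hfa2
    by_cases hsy : fb = 2 → e = a
    · exact h.finish h2T haT hbT ha2 hb2 hab hq hc2 hn2 heT he2 he he' hA hca hna hma hea hnorma hB hcb hnb
        hfbT hfbb hfbd heb hnormb hnorm2 hsy
    · push Not at hsy
      obtain ⟨rfl, hne⟩ := hsy
      exact h.finish h2T hbT haT hb2 ha2 hab.symm hq hc2 hn2 heT he2 he he' hB hcb hnb hmb heb hnormb hA hca hna
        hfaT hfaa hfad hea hnorma hnorm2 (fun _ => heab.resolve_left hne)
  · by_cases hfb2 : fb = 2
    · subst hfb2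
      exact h.finish h2T hbT haT hb2 ha2 hab.symm hq hc2 hn2 heT he2 he he' hB hcb hnb hmb heb hnormb hA hca hna
        hfaT hfaa hfad hea hnorma hnorm2 (fun e => absurd e hfa2)
    · exfalso
      obtain rfl : fa = b := hfa.resolve_left hfa2
      obtain rfl : fb = a := hfb.resolve_left hfb2
      have h3a := hge3 _ haT ha2
      have h3b := hge3 _ hbT hb2
      have h4a := hne4 _ haT
      have h4b := hne4 _ hbT
      rcases (show 5 ≤ fa ∨ 5 ≤ fb by omega) with h5 | h5
      · have := Nat.mul_le_mul_right ca h5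
        have := Nat.mul_le_mul_right cb h3a
        omega
      · have := Nat.mul_le_mul_right cb h5
        have := Nat.mul_le_mul_right ca h3b
        omega

end

/-- A finite non-solvable group on which its automorphism group has exactly four orbits is isomorphic to the alternating group of degree 5. -/
theorem result {G : Type*} [Group G] [Finite G] (hns : ¬ Group.IsSolvable G)
    (h4 : Nat.card (MulAction.orbitRel.Quotient (MulAut G) G) = 4) : Nonempty (G ≃* alternatingGroup (Fin 5)) := by
  classical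
  have hT : ∀ p ∈ (Nat.card G).primeFactors, p.Prime ∧ p ∣ Nat.card G := fun p hp =>
    ⟨(Nat.mem_primeFactors.1 hp).1, (Nat.mem_primeFactors.1 hp).2.1⟩
  have hT3 : 3 ≤ (Nat.card G).primeFactors.card := by
    by_contra hcon
    apply hns
    obtain ⟨p, q, hp, hq, hpq, hsub⟩ : ∃ p q, p.Prime ∧ q.Prime ∧ p ≠ q ∧ (Nat.card G).primeFactors ⊆ {p, q} := by
      rcases (show (Nat.card G).primeFactors.card = 0 ∨ (Nat.card G).primeFactors.card = 1 ∨
        (Nat.card G).primeFactors.card = 2 by omega) with e | e | e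
      · exact ⟨2, 3, Nat.prime_two, Nat.prime_three, by norm_num, by rw [Finset.card_eq_zero.1 e]; simp⟩
      · obtain ⟨p, hp⟩ := Finset.card_eq_one.1 e
        obtain ⟨q, hq, hqp⟩ : ∃ q : ℕ, q.Prime ∧ p ≠ q := by
          by_cases hp2 : p = 2
          · exact ⟨3, Nat.prime_three, by omega⟩
          · exact ⟨2, Nat.prime_two, hp2⟩
        exact ⟨p, q, (hT p (by rw [hp]; simp)).1, hq, hqp, by rw [hp]; simp⟩
      · obtain ⟨p, q, hpq, hT2⟩ := Finset.card_eq_two.1 e
        exact ⟨p, q, (hT p (by rw [hT2]; simp)).1, (hT q (by rw [hT2]; simp)).1, hpq, hT2.le⟩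
    have hcard : Nat.card G = p ^ (Nat.card G).factorization p * q ^ (Nat.card G).factorization q := by
      conv_lhs => rw [← Nat.prod_factorization_pow_eq_self (n := Nat.card G) Nat.card_pos.ne',
        Finsupp.prod_of_support_subset _ (s := {p, q}) (by rwa [Nat.support_factorization]) _ (by simp),
        Finset.prod_pair hpq]
    exact Cfsg.Agent.CharApp.isSolvable_of_card_eq_prime_pow_mul p q hp hq _ G rfl _ _ hcard
  obtain ⟨h3, hord, htr⟩ := orders_of_four _ hT hT3 h4
  refine Hyp.main (T := (Nat.card G).primeFactors) ⟨fun p hp => (hT p hp).1, h3, fun r hr hd =>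
    Nat.mem_primeFactors.2 ⟨hr, hd, Nat.card_pos.ne'⟩, fun p hp => (hT p hp).2, hord, fun x y hxy => ?_, hns⟩
  obtain ⟨φ, rfl⟩ := htr x y hxy
  have hmap : (Subgroup.centralizer ({x} : Set G)).map φ.toMonoidHom = Subgroup.centralizer ({φ x} : Set G) := by
    ext a
    constructor
    · rintro ⟨b, hb, rfl⟩
      refine Subgroup.mem_centralizer_singleton_iff.2 ?_
      show φ b * φ x = φ x * φ b
      rw [← map_mul, ← map_mul, Subgroup.mem_centralizer_singleton_iff.1 hb]
    · intro ha
      refine ⟨φ.symm a, Subgroup.mem_centralizer_singleton_iff.2 (φ.injective ?_), φ.apply_symm_apply a⟩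
      rw [map_mul, map_mul, φ.apply_symm_apply]
      exact Subgroup.mem_centralizer_singleton_iff.1 ha
  rw [← hmap, Subgroup.card_map_of_injective φ.injective]

end Cfsg.Agent.S4068
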