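import Cfsg.Statements.S4070
import Cfsg.Agent.Lib.VecCentralizer.Main

set_option autoImplicit false
open Cfsg

namespace Cfsg.Agent.S4070

/-- Let G be a finite solvable group acting faithfully by additive automorphisms on a finite vector space V over the field with p elements, completely reducibly (every G-invariant subspace has a G-invariant complement). Then some vector v ∈ V has stabilizer C_G(v) of derived length at most 9; and if both #G and p are odd, some vector has abelian stabilizer. -/
theorem result {G V : Type*} [Group G] [Finite G] [Group.IsSolvable G]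
    {p : ℕ} [Fact p.Prime] [AddCommGroup V] [Module (ZMod p) V] [Finite V] [DistribMulAction G V] [FaithfulSMul G V]
    (hcr : ∀ W : Submodule (ZMod p) V, (∀ (g : G) (w : V), w ∈ W → g • w ∈ W) →
      ∃ W' : Submodule (ZMod p) V, (∀ (g : G) (w : V), w ∈ W' → g • w ∈ W') ∧ IsCompl W W') :
    (∃ v : V, derivedSeries ↥(MulAction.stabilizer G v) 9 = ⊥) ∧
    (Odd (Nat.card G) → p ≠ 2 → ∃ v : V, IsMulCommutative ↥(MulAction.stabilizer G v)) := by
  open Cfsg.Agent.VecCentralizer in
  have hcr' : Cfsg.Agent.OddBaseTwo.CR G V := by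
    intro U hU
    obtain ⟨W, hW, hc⟩ := hcr (AddSubgroup.toZModSubmodule p U) fun g w hw => hU g w hw
    refine ⟨W.toAddSubgroup, fun g w hw => hW g w hw, ?_, ?_⟩
    · refine (AddSubgroup.eq_bot_iff_forall _).2 fun x hx => ?_
      have : x ∈ AddSubgroup.toZModSubmodule p U ⊓ W := ⟨hx.1, hx.2⟩
      rw [hc.inf_eq_bot] at this
      exact this
    · refine eq_top_iff.2 fun x _ => ?_
      obtain ⟨u, hu, w, hw, he⟩ := Submodule.mem_sup.1
        (hc.sup_eq_top ▸ Submodule.mem_top : x ∈ AddSubgroup.toZModSubmodule p U ⊔ W)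
      exact AddSubgroup.mem_sup.2 ⟨u, hu, w, hw, he⟩
  haveI : Finite G := inferInstance
  obtain ⟨⟨v, hv⟩, hodd⟩ := Cfsg.Agent.VecCentralizer.exists_vector hcr'
  have hbot : ∀ {L : ℕ} (v : V), Cfsg.Agent.VecCentralizer.Triv (MulAction.stabilizer G v) V L →
      derivedSeries ↥(MulAction.stabilizer G v) L = ⊥ := fun v hv =>
    (Subgroup.eq_bot_iff_forall _).2 fun g hg => Subtype.ext (eq_of_smul_eq_smul (α := V) fun x => by
      rw [OneMemClass.coe_one, one_smul]; exact hv g hg x)
  refine ⟨⟨v, hbot v hv⟩, fun hG hp => ?_⟩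
  obtain ⟨w, hw⟩ := hodd hG (by
    haveI : Module.Finite (ZMod p) V := Module.Finite.of_finite
    rw [Module.natCard_eq_pow_finrank (K := ZMod p), Nat.card_zmod]
    exact ((Fact.out : p.Prime).odd_of_ne_two hp).pow)
  refine ⟨w, ⟨⟨fun a b => ?_⟩⟩⟩
  have h1 := hbot w hw
  rw [derivedSeries_succ, derivedSeries_zero, Subgroup.commutator_eq_bot_iff_le_centralizer] at h1
  exact (Subgroup.mem_centralizer_iff.1 (h1 (Subgroup.mem_top a)) b (Subgroup.mem_top b)).symm

end Cfsg.Agent.S4070
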