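import Cfsg.Statements.S4071
import Cfsg.Agent.EqLemmas
import Cfsg.Agent.Lib.PByCyclic.Basic
import Cfsg.Agent.Lib.Coprime.Basic

set_option autoImplicit false
open Cfsg

namespace Cfsg.Agent.S4071

section

variable {G : Type*} [Group G] [Finite G]

/-- The elements of `M` whose order satisfies a multiplicative predicate. -/
def part (M : Subgroup G) [IsMulCommutative M] (P : ℕ → Prop) (h1 : P 1)
    (hdvd : ∀ a b, a ∣ b → P b → P a) (hmul : ∀ a b, P a → P b → P (a * b)) : Subgroup G where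
  carrier := {m | m ∈ M ∧ P (orderOf m)}
  one_mem' := ⟨M.one_mem, by rw [orderOf_one]; exact h1⟩
  mul_mem' {a b} ha hb := ⟨M.mul_mem ha.1 hb.1, hdvd _ _
    ((show Commute a b from Subgroup.mul_comm_of_mem_isMulCommutative M ha.1 hb.1).orderOf_mul_dvd_lcm.trans
      (Nat.lcm_dvd_mul _ _)) (hmul _ _ ha.2 hb.2)⟩
  inv_mem' {a} ha := ⟨M.inv_mem ha.1, by rw [orderOf_inv]; exact ha.2⟩

theorem part_normal (M : Subgroup G) [IsMulCommutative M] [hM : M.Normal] (P : ℕ → Prop) (h1 : P 1)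
    (hdvd : ∀ a b, a ∣ b → P b → P a) (hmul : ∀ a b, P a → P b → P (a * b)) :
    (part M P h1 hdvd hmul).Normal :=
  ⟨fun n hn g => ⟨hM.conj_mem n hn.1 g, by
    rw [show g * n * g⁻¹ = MulAut.conj g n from rfl, MulEquiv.orderOf_eq]; exact hn.2⟩⟩

theorem forward [Group.IsSolvable G] (hnn : ¬ Group.IsNilpotent G)
    (hN : ∀ H : Subgroup G, ¬ IsMulCommutative H → Subgroup.normalizer (H : Set G) = H) :
    ∃ (x : G) (A : Subgroup G) (p : ℕ), p.Prime ∧ A.Normal ∧ IsMulCommutative A ∧ (∃ k : ℕ, orderOf x = p ^ k) ∧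
      ¬ p ∣ Nat.card A ∧ (Subgroup.zpowers x).IsComplement' A ∧ x ^ p ∈ Subgroup.center G ∧
      ∀ a : G, a ∈ A → a ≠ 1 → x * a * x⁻¹ ≠ a := by
  have hnorm : ∀ H : Subgroup G, H.Normal → ¬ IsMulCommutative H → H = ⊤ := fun H hH hna => by
    rw [← hN H hna, Subgroup.normalizer_eq_top]
  haveI : Nontrivial G := by
    by_contra h
    rw [not_nontrivial_iff_subsingleton] at h
    exact hnn inferInstance
  -- a maximal normal subgroup containing the derived subgroup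
  obtain ⟨M, hDM, hMmax⟩ := Finite.exists_le_maximal (α := Subgroup G)
    (p := fun M => M ≠ ⊤) (a := commutator G) (Group.IsSolvable.commutator_lt_top_of_nontrivial G).ne
  haveI hMn : M.Normal := ⟨fun n hn g => by
    have h1 : g * n * g⁻¹ * n⁻¹ ∈ M := hDM (by
      rw [commutator_def]
      exact Subgroup.commutator_mem_commutator (Subgroup.mem_top g) (Subgroup.mem_top n))
    simpa using M.mul_mem h1 hn⟩
  have hMtop : M ≠ ⊤ := hMmax.prop
  haveI hMc : IsMulCommutative M := by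
    by_contra h
    exact hMtop (hnorm M hMn h)
  have hsimple : ∀ g : G, g ∉ M → M ⊔ Subgroup.zpowers g = ⊤ := by
    intro g hg
    by_contra h
    exact hg ((hMmax.2 h le_sup_left) (Subgroup.mem_sup_right (Subgroup.mem_zpowers g)))
  -- a prime `p` with `G = M ⟨x⟩`
  obtain ⟨g₀, -, hg₀⟩ := SetLike.exists_of_lt (lt_top_iff_ne_top.2 hMtop)
  obtain ⟨p, hp, hpd⟩ := Nat.exists_prime_and_dvd
    (n := orderOf (g₀ : G ⧸ M)) (fun h => hg₀ ((QuotientGroup.eq_one_iff g₀).1 (orderOf_eq_one_iff.1 h)))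
  haveI := Fact.mk hp
  set g₁ := g₀ ^ (orderOf (g₀ : G ⧸ M) / p) with hg₁
  have hg₁o : orderOf (g₁ : G ⧸ M) = p := by
    rw [hg₁, QuotientGroup.mk_pow,
      orderOf_pow_of_dvd (Nat.div_pos (Nat.le_of_dvd (orderOf_pos _) hpd) hp.pos).ne' (Nat.div_dvd_of_dvd hpd),
      Nat.div_div_self hpd (orderOf_pos _).ne']
  obtain ⟨k, m, hm, hkm⟩ := Nat.exists_eq_pow_mul_and_not_dvd (orderOf_pos g₁).ne' p hp.ne_one
  set x := g₁ ^ m with hx
  have hm0 : m ≠ 0 := fun e => hm (e ▸ dvd_zero p)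
  have hxo : orderOf x = p ^ k := by
    rw [hx, orderOf_pow' _ hm0, hkm, Nat.gcd_mul_left_left, Nat.mul_div_cancel _ (Nat.pos_of_ne_zero hm0)]
  have hxM : x ∉ M := by
    intro h
    rw [← QuotientGroup.eq_one_iff, hx, QuotientGroup.mk_pow, ← orderOf_dvd_iff_pow_eq_one, hg₁o] at h
    exact hm h
  have hxpM : x ^ p ∈ M := by
    rw [← QuotientGroup.eq_one_iff, hx, QuotientGroup.mk_pow, QuotientGroup.mk_pow, ← pow_mul, mul_comm, pow_mul,
      ← hg₁o, pow_orderOf_eq_one, one_pow]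
  have hgen : ∀ {Z : Subgroup G}, M ≤ Z → x ∈ Z → Z = ⊤ := fun {Z} h1 h2 =>
    top_unique ((hsimple x hxM).ge.trans (sup_le h1 (Subgroup.zpowers_le.2 h2)))
  have hxp : x ^ p ∈ Subgroup.center G := by
    rw [Subgroup.mem_center_iff]
    intro g
    have : Subgroup.centralizer ({x ^ p} : Set G) = ⊤ := hgen
      (fun a ha => Subgroup.mem_centralizer_singleton_iff.2 (Subgroup.mul_comm_of_mem_isMulCommutative M ha hxpM))
      (Subgroup.mem_centralizer_singleton_iff.2 ((Commute.refl x).pow_right p).eq)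
    exact Subgroup.mem_centralizer_singleton_iff.1 (this.ge trivial)
  let A := part M (fun n => ¬ p ∣ n) hp.not_dvd_one (fun a b h hb ha => hb (ha.trans h))
    (fun a b ha hb h => (hp.dvd_mul.1 h).elim ha hb)
  let B := part M (fun n => ∃ j, n = p ^ j) ⟨0, rfl⟩
    (fun a b h ⟨j, hj⟩ => let ⟨i, _, hi⟩ := (Nat.dvd_prime_pow hp).1 (hj ▸ h); ⟨i, hi⟩)
    (fun a b ⟨i, hi⟩ ⟨j, hj⟩ => ⟨i + j, by rw [hi, hj, pow_add]⟩)
  haveI hAn : A.Normal := part_normal M _ _ _ _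
  haveI hBn : B.Normal := part_normal M _ _ _ _
  have hAM : A ≤ M := fun a ha => ha.1
  haveI hAc : IsMulCommutative A :=
    ⟨⟨fun a b => Subtype.ext (Subgroup.mul_comm_of_mem_isMulCommutative M a.2.1 b.2.1)⟩⟩
  have hpA : ¬ p ∣ Nat.card A := fun h => by
    obtain ⟨a, ha⟩ := exists_prime_orderOf_dvd_card' p h
    exact a.2.2 (by rw [Subgroup.orderOf_coe, ha])
  have hsplit : M ≤ B ⊔ A := by
    intro y hy
    obtain ⟨i, l, hl, hil⟩ := Nat.exists_eq_pow_mul_and_not_dvd (orderOf_pos y).ne' p hp.ne_one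
    have hl0 : l ≠ 0 := fun e => hl (e ▸ dvd_zero p)
    have hcop : (p ^ i).Coprime l := ((Nat.Prime.coprime_iff_not_dvd hp).2 hl).pow_left i
    obtain ⟨a, b, hab⟩ : ∃ a b : ℤ, (p ^ i : ℕ) * a + (l : ℤ) * b = 1 :=
      ⟨_, _, by rw [← Nat.gcd_eq_gcd_ab, hcop]; rfl⟩
    have : y = (y ^ l) ^ b * (y ^ p ^ i) ^ a := by
      rw [← zpow_natCast y (p ^ i), ← zpow_natCast y l, ← zpow_mul, ← zpow_mul, ← zpow_add, add_comm, hab, zpow_one]
    rw [this]
    refine Subgroup.mul_mem _ (Subgroup.mem_sup_left (B.zpow_mem ⟨M.pow_mem hy _, i, ?_⟩ b))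
      (Subgroup.mem_sup_right (A.zpow_mem ⟨M.pow_mem hy _, ?_⟩ a))
    · rw [orderOf_pow' _ hl0, hil, Nat.gcd_mul_left_left, Nat.mul_div_cancel _ (Nat.pos_of_ne_zero hl0)]
    · rw [orderOf_pow' _ (pow_ne_zero _ hp.ne_zero), hil, Nat.gcd_mul_right_left,
        Nat.mul_div_cancel_left _ (pow_pos hp.pos i)]
      exact hl
  obtain ⟨P, hP⟩ := (IsPGroup.of_card (n := k) ((Nat.card_zpowers x).trans hxo) :
    IsPGroup p (Subgroup.zpowers x)).exists_le_sylow
  have hBP : B ≤ (P : Subgroup G) := by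
    refine IsPGroup.le_sylow_of_normal ?_ P
    intro b
    obtain ⟨j, hj⟩ := b.2.2
    exact ⟨j, Subtype.ext (hj ▸ pow_orderOf_eq_one _)⟩
  have hPA : ∀ a ∈ A, a ∈ (P : Subgroup G) → a = 1 := by
    intro a ha haP
    obtain ⟨j, hj⟩ := IsPGroup.iff_orderOf.1 P.isPGroup' ⟨a, haP⟩
    rw [Subgroup.orderOf_mk] at hj
    rcases Nat.eq_zero_or_pos j with rfl | hj0
    · exact orderOf_eq_one_iff.1 hj
    · exact absurd (hj ▸ dvd_pow_self p hj0.ne') ha.2
  have htopPA : (P : Subgroup G) ⊔ A = ⊤ :=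
    hgen (hsplit.trans (sup_le_sup_right hBP _)) (Subgroup.mem_sup_left (hP (Subgroup.mem_zpowers x)))
  set H := A ⊔ Subgroup.zpowers x with hH
  have hxA : ∃ a ∈ A, x * a ≠ a * x := by
    by_contra hcon
    push Not at hcon
    apply hnn
    -- then `G` is a product of commuting nilpotent groups
    have hc : ∀ a ∈ A, a ∈ Subgroup.center G := fun a ha => Subgroup.mem_center_iff.2 fun g => by
      have : Subgroup.centralizer ({a} : Set G) = ⊤ := hgen
        (fun b hb => Subgroup.mem_centralizer_singleton_iff.2 (Subgroup.mul_comm_of_mem_isMulCommutative M hb (hAM ha)))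
        (Subgroup.mem_centralizer_singleton_iff.2 (hcon a ha))
      exact Subgroup.mem_centralizer_singleton_iff.1 (this.ge trivial)
    haveI : Group.IsNilpotent (G ⧸ Subgroup.center G) := by
      haveI : Group.IsNilpotent (P : Subgroup G) := P.isPGroup'.isNilpotent
      refine Group.nilpotent_of_surjective
        ((QuotientGroup.mk' (Subgroup.center G)).comp (P : Subgroup G).subtype) fun q => ?_
      obtain ⟨g, rfl⟩ := QuotientGroup.mk_surjective q
      obtain ⟨u, hu, a, ha, rfl⟩ := Subgroup.mem_sup_of_normal_right.1 (htopPA.ge (Subgroup.mem_top g))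
      exact ⟨⟨u, hu⟩, (QuotientGroup.eq.2 (by simpa [mul_assoc] using hc a ha) : (u : G ⧸ Subgroup.center G) = _)⟩
    exact Group.of_quotient_center_nilpotent (inferInstance : Group.IsNilpotent (G ⧸ Subgroup.center G))
  have hHna : ¬ IsMulCommutative H := fun h => by
    obtain ⟨a, ha, hne⟩ := hxA
    exact hne (Subgroup.mul_comm_of_mem_isMulCommutative H (Subgroup.mem_sup_right (Subgroup.mem_zpowers x))
      (Subgroup.mem_sup_left ha))
  have hPx : (P : Subgroup G) ≤ Subgroup.zpowers x := by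
    by_contra hnot
    haveI : Group.IsNilpotent (P : Subgroup G) := P.isPGroup'.isNilpotent
    have hlt : (Subgroup.zpowers x).subgroupOf (P : Subgroup G) < ⊤ := by
      rw [lt_top_iff_ne_top, Ne, Subgroup.subgroupOf_eq_top]; exact hnot
    obtain ⟨y, hy, hyx⟩ := SetLike.exists_of_lt (Group.normalizerCondition_of_isNilpotent _ hlt)
    have hyN : (y : G) ∈ Subgroup.normalizer (Subgroup.zpowers x : Set G) :=
      Coprime.mem_normalizer_of_forall fun a ha => (Subgroup.mem_normalizer_iff.1 hy ⟨a, hP ha⟩).1 ha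
    have hyH : (y : G) ∈ H := by
      rw [← hN H hHna]
      refine Coprime.mem_normalizer_of_forall fun a ha => ?_
      obtain ⟨a₁, ha₁, c, hc, rfl⟩ := Subgroup.mem_sup_of_normal_left.1 ha
      have h1 : (y : G) * (a₁ * c) * (y : G)⁻¹ = ((y : G) * a₁ * (y : G)⁻¹) * ((y : G) * c * (y : G)⁻¹) := by group
      rw [h1]
      exact Subgroup.mul_mem_sup (hAn.conj_mem _ ha₁ _) ((Subgroup.mem_normalizer_iff.1 hyN c).1 hc)
    obtain ⟨a₁, ha₁, c, hc, hac⟩ := Subgroup.mem_sup_of_normal_left.1 hyH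
    have ha₁1 : a₁ = 1 := hPA a₁ ha₁ (by
      rw [eq_mul_inv_of_mul_eq hac]
      exact Subgroup.mul_mem _ y.2 (Subgroup.inv_mem _ (hP hc)))
    rw [ha₁1, one_mul] at hac
    exact hyx (hac ▸ hc : (y : G) ∈ Subgroup.zpowers x)
  have hHtop : Subgroup.zpowers x ⊔ A = ⊤ := top_unique (htopPA.ge.trans (sup_le_sup_right hPx _))
  have hdis : Subgroup.zpowers x ⊓ A = ⊥ := (Subgroup.eq_bot_iff_forall _).2 fun a ha => hPA a ha.2 (hP ha.1)
  refine ⟨x, A, p, hp, hAn, hAc, ⟨k, hxo⟩, hpA,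
    Subgroup.isComplement'_of_disjoint_and_mul_eq_univ (disjoint_iff.2 hdis)
      (by rw [← Subgroup.mul_normal, hHtop]; rfl), hxp, ?_⟩
  -- the commutator map of `x` on `A` is onto
  let f : A →* A :=
    { toFun := fun a => ⟨x * a * x⁻¹ * (a : G)⁻¹, A.mul_mem (hAn.conj_mem _ a.2 _) (A.inv_mem a.2)⟩
      map_one' := Subtype.ext (by simp)
      map_mul' := fun a b => Subtype.ext (by
        show x * ((a : G) * b) * x⁻¹ * ((a : G) * b)⁻¹ = x * a * x⁻¹ * (a : G)⁻¹ * (x * b * x⁻¹ * (b : G)⁻¹)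
        have h1 := Subgroup.mul_comm_of_mem_isMulCommutative A (A.inv_mem a.2) (hAn.conj_mem _ b.2 x)
        have h2 := Subgroup.mul_comm_of_mem_isMulCommutative A (A.inv_mem b.2) (A.inv_mem a.2)
        calc x * ((a : G) * b) * x⁻¹ * ((a : G) * b)⁻¹ = (x * a * x⁻¹) * ((x * b * x⁻¹) * ((b : G)⁻¹ * (a : G)⁻¹)) := by group
          _ = (x * a * x⁻¹) * ((x * b * x⁻¹) * ((a : G)⁻¹ * (b : G)⁻¹)) := by rw [h2]
          _ = (x * a * x⁻¹) * (((x * b * x⁻¹) * (a : G)⁻¹) * (b : G)⁻¹) := by group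
          _ = (x * a * x⁻¹) * (((a : G)⁻¹ * (x * b * x⁻¹)) * (b : G)⁻¹) := by rw [h1]
          _ = _ := by group) }
  set R := f.range.map A.subtype with hR
  have hRA : R ≤ A := Subgroup.map_subtype_le _
  have hfx : ∀ a ∈ R, x * a * x⁻¹ ∈ R := by
    rintro _ ⟨_, ⟨a, rfl⟩, rfl⟩
    refine ⟨f ⟨x * a * x⁻¹, hAn.conj_mem _ a.2 _⟩, ⟨_, rfl⟩, ?_⟩
    show x * (x * a * x⁻¹) * x⁻¹ * (x * a * x⁻¹)⁻¹ = x * (x * a * x⁻¹ * (a : G)⁻¹) * x⁻¹
    group
  have hxR : x ∈ Subgroup.normalizer (R : Set G) := Coprime.mem_normalizer_of_forall hfx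
  set K := R ⊔ Subgroup.zpowers x with hK
  have hKn : K.Normal := by
    refine Subgroup.normalizer_eq_top_iff.1 (top_unique (hHtop.ge.trans (sup_le ?_ ?_)))
    · exact (le_sup_right : _ ≤ K).trans Subgroup.le_normalizer
    · intro a ha
      have hax : a * x * a⁻¹ ∈ K := by
        have h1 : (x * a * x⁻¹ * a⁻¹)⁻¹ * x = a * x * a⁻¹ := by group
        rw [← h1]
        exact Subgroup.mul_mem_sup (R.inv_mem ⟨f ⟨a, ha⟩, ⟨_, rfl⟩, rfl⟩) (Subgroup.mem_zpowers x)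
      have hle : K ≤ K.comap (MulAut.conj a).toMonoidHom := by
        refine sup_le (fun r hr => ?_) (Subgroup.zpowers_le.2 hax)
        show a * r * a⁻¹ ∈ K
        rw [Subgroup.mul_comm_of_mem_isMulCommutative A ha (hRA hr), mul_inv_cancel_right]
        exact Subgroup.mem_sup_left hr
      exact Coprime.mem_normalizer_of_forall fun b hb => hle hb
  have hKna : ¬ IsMulCommutative K := fun h => by
    obtain ⟨a, ha, hne⟩ := hxA
    set c := x * a * x⁻¹ * a⁻¹ with hc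
    have hcA : c ∈ A := A.mul_mem (hAn.conj_mem _ ha _) (A.inv_mem ha)
    have hcx : Commute x c := Subgroup.mul_comm_of_mem_isMulCommutative K (Subgroup.mem_sup_right (Subgroup.mem_zpowers x))
      (Subgroup.mem_sup_left (⟨f ⟨a, ha⟩, ⟨_, rfl⟩, rfl⟩ : c ∈ R))
    have hiter : ∀ i : ℕ, x ^ i * a * (x ^ i)⁻¹ = c ^ i * a := by
      intro i
      induction i with
      | zero => simp
      | succ i ih =>
        calc x ^ (i + 1) * a * (x ^ (i + 1))⁻¹ = x * (x ^ i * a * (x ^ i)⁻¹) * x⁻¹ := by rw [pow_succ']; group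
          _ = x * (c ^ i * a) * x⁻¹ := by rw [ih]
          _ = (x * c ^ i) * a * x⁻¹ := by group
          _ = (c ^ i * x) * a * x⁻¹ := by rw [(hcx.pow_right i).eq]
          _ = c ^ (i + 1) * a := by rw [pow_succ, hc]; group
    have h1 := hiter (p ^ k)
    rw [← hxo, pow_orderOf_eq_one, one_mul, inv_one, mul_one, hxo] at h1
    have hd := orderOf_dvd_of_pow_eq_one (mul_eq_right.1 h1.symm)
    obtain ⟨j, -, hj⟩ := (Nat.dvd_prime_pow hp).1 hd
    rcases Nat.eq_zero_or_pos j with rfl | hj0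
    · refine hne ?_
      have hc1 : c = 1 := orderOf_eq_one_iff.1 hj
      rw [hc, mul_inv_eq_one, mul_inv_eq_iff_eq_mul] at hc1
      exact hc1
    · exact hcA.2 (hj ▸ dvd_pow_self p hj0.ne')
  have hKtop := hnorm K hKn hKna
  have hsurj : Function.Surjective f := by
    intro a
    obtain ⟨r, hr, c, hc, hrc⟩ := (by
      have h1 := hKtop.ge (Subgroup.mem_top (a : G))
      rw [hK, ← SetLike.mem_coe, Subgroup.coe_mul_of_right_le_normalizer_left R _ (Subgroup.zpowers_le.2 hxR)] at h1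
      exact h1 : ∃ r ∈ R, ∃ c ∈ Subgroup.zpowers x, r * c = (a : G))
    have hcA : c ∈ Subgroup.zpowers x ⊓ A :=
      ⟨hc, by rw [eq_inv_mul_of_mul_eq hrc]; exact A.mul_mem (A.inv_mem (hRA hr)) a.2⟩
    rw [hdis, Subgroup.mem_bot] at hcA
    rw [hcA, mul_one] at hrc
    obtain ⟨b, ⟨b', rfl⟩, hb⟩ := hr
    exact ⟨b', Subtype.ext (hb.trans hrc)⟩
  have hinj := Finite.injective_iff_surjective.2 hsurj
  intro a ha ha1 heq
  exact ha1 (congrArg Subtype.val (hinj (a₁ := ⟨a, ha⟩) (a₂ := 1)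
    (Subtype.ext (by show x * a * x⁻¹ * a⁻¹ = _; rw [heq, mul_inv_cancel, map_one]; rfl))))

theorem converse {x : G} {A : Subgroup G} {p : ℕ} (hp : p.Prime) [hAn : A.Normal] [IsMulCommutative A]
    (hk : ∃ k : ℕ, orderOf x = p ^ k)
    (hcompl : (Subgroup.zpowers x).IsComplement' A) (hxp : x ^ p ∈ Subgroup.center G)
    (hfpf : ∀ a : G, a ∈ A → a ≠ 1 → x * a * x⁻¹ ≠ a) {H : Subgroup G} (hH : ¬ IsMulCommutative H) :
    Subgroup.normalizer (H : Set G) = H := by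
  haveI := Fact.mk hp
  have hdec : ∀ g : G, ∃ i : ℤ, ∃ a ∈ A, g = x ^ i * a := by
    intro g
    obtain ⟨⟨⟨_, ⟨i, rfl⟩⟩, ⟨a, ha⟩⟩, h⟩ := hcompl.2 g
    exact ⟨i, a, ha, h.symm⟩
  obtain ⟨h₀, hh₀, hh₀A⟩ : ∃ h₀ ∈ H, x⁻¹ * h₀ ∈ A := by
    by_contra hcon
    push Not at hcon
    apply hH
    have hsub : ∀ h ∈ H, ∃ i : ℤ, ∃ a ∈ A, h = x ^ ((p : ℤ) * i) * a := by
      intro h hh
      obtain ⟨i, a, ha, rfl⟩ := hdec h
      by_cases hpi : (p : ℤ) ∣ i
      · obtain ⟨j, rfl⟩ := hpi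
        exact ⟨j, a, ha, rfl⟩
      exfalso
      obtain ⟨k, hk⟩ := hk
      have hgcd : Int.gcd i (p ^ k : ℕ) = 1 := by
        rw [Int.gcd, Int.natAbs_natCast]
        exact (((Nat.Prime.coprime_iff_not_dvd hp).2 fun hd => hpi (Int.natCast_dvd.2 hd)).pow_left k).symm
      obtain ⟨s, t, hst⟩ : ∃ s t : ℤ, i * s + (p ^ k : ℕ) * t = 1 :=
        ⟨_, _, by rw [← Int.gcd_eq_gcd_ab, hgcd]; rfl⟩
      refine hcon _ (H.zpow_mem hh s) ?_
      rw [← QuotientGroup.eq_one_iff, QuotientGroup.mk_mul, QuotientGroup.mk_zpow, QuotientGroup.mk_mul,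
        (QuotientGroup.eq_one_iff a).2 ha, mul_one, ← QuotientGroup.mk_zpow, ← QuotientGroup.mk_mul,
        ← zpow_mul, show i * s = 1 - (p ^ k : ℕ) * t by linarith, zpow_sub, zpow_one, zpow_mul, zpow_natCast, ← hk,
        pow_orderOf_eq_one, one_zpow, inv_one, mul_one, inv_mul_cancel, QuotientGroup.mk_one]
    refine ⟨⟨fun g h => Subtype.ext ?_⟩⟩
    obtain ⟨i, a, ha, hg⟩ := hsub g g.2
    obtain ⟨j, b, hb, hh⟩ := hsub h h.2
    have hc : ∀ (i : ℤ) (y : G), Commute (x ^ ((p : ℤ) * i)) y := fun i y => by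
      rw [zpow_mul, zpow_natCast]
      exact (show Commute (x ^ p) y from (Subgroup.mem_center_iff.1 hxp y).symm).zpow_left i
    simp only [Subgroup.coe_mul, hg, hh]
    exact (((hc i _).mul_right (hc i b)).mul_left ((hc j a).symm.mul_right
      (Subgroup.mul_comm_of_mem_isMulCommutative A ha hb))).eq
  set b := x⁻¹ * h₀ with hb
  have hact : ∀ a ∈ A, h₀ * a * h₀⁻¹ = x * a * x⁻¹ := by
    intro a ha
    rw [show h₀ = x * b by rw [hb, mul_inv_cancel_left]]
    calc x * b * a * (x * b)⁻¹ = x * (b * a) * b⁻¹ * x⁻¹ := by group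
      _ = x * (a * b) * b⁻¹ * x⁻¹ := by rw [Subgroup.mul_comm_of_mem_isMulCommutative A hh₀A ha]
      _ = x * a * x⁻¹ := by group
  refine le_antisymm (fun y hy => ?_) Subgroup.le_normalizer
  obtain ⟨i, a₀, ha₀, hy'⟩ := hdec y
  set a := (h₀ ^ i)⁻¹ * y with ha'
  have haA : a ∈ A := by
    rw [← QuotientGroup.eq_one_iff, ha', hy', QuotientGroup.mk_mul, QuotientGroup.mk_mul, QuotientGroup.mk_inv,
      QuotientGroup.mk_zpow, QuotientGroup.mk_zpow, (QuotientGroup.eq_one_iff a₀).2 ha₀, mul_one,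
      show ((h₀ : G) : G ⧸ A) = (x : G ⧸ A) from (QuotientGroup.eq.2 hh₀A).symm, inv_mul_cancel]
  have haN : a ∈ Subgroup.normalizer (H : Set G) :=
    Subgroup.mul_mem _ (Subgroup.inv_mem _ (Subgroup.le_normalizer (H.zpow_mem hh₀ i))) hy
  let f : ↥(H ⊓ A) → ↥(H ⊓ A) := fun d => ⟨h₀ * d * h₀⁻¹ * (d : G)⁻¹,
    H.mul_mem (H.mul_mem (H.mul_mem hh₀ d.2.1) (H.inv_mem hh₀)) (H.inv_mem d.2.1),
    A.mul_mem (hAn.conj_mem _ d.2.2 _) (A.inv_mem d.2.2)⟩
  have hinj0 : ∀ u v : G, u ∈ A → v ∈ A → h₀ * u * h₀⁻¹ * u⁻¹ = h₀ * v * h₀⁻¹ * v⁻¹ → u = v := by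
    intro u v hu hv h
    by_contra hne
    have hw : u * v⁻¹ ∈ A := A.mul_mem hu (A.inv_mem hv)
    refine hfpf _ hw (fun e => hne (mul_inv_eq_one.1 e)) ?_
    rw [← hact _ hw]
    have hK := hAn.conj_mem _ hv h₀
    calc h₀ * (u * v⁻¹) * h₀⁻¹ = (h₀ * u * h₀⁻¹ * u⁻¹) * u * (h₀ * v * h₀⁻¹)⁻¹ := by group
      _ = (h₀ * v * h₀⁻¹ * v⁻¹) * u * (h₀ * v * h₀⁻¹)⁻¹ := by rw [h]
      _ = (h₀ * v * h₀⁻¹) * (v⁻¹ * u) * (h₀ * v * h₀⁻¹)⁻¹ := by group
      _ = (v⁻¹ * u) * (h₀ * v * h₀⁻¹) * (h₀ * v * h₀⁻¹)⁻¹ := by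
        rw [Subgroup.mul_comm_of_mem_isMulCommutative A hK (A.mul_mem (A.inv_mem hv) hu)]
      _ = u * v⁻¹ := by
        rw [mul_inv_cancel_right, Subgroup.mul_comm_of_mem_isMulCommutative A (A.inv_mem hv) hu]
  have hfinj : Function.Injective f := fun u v h =>
    Subtype.ext (hinj0 u v u.2.2 v.2.2 (congrArg Subtype.val h))
  have hmem : h₀ * a * h₀⁻¹ * a⁻¹ ∈ H := by
    have := H.mul_mem hh₀ ((Subgroup.mem_normalizer_iff.1 haN _).1 (H.inv_mem hh₀))
    simpa [mul_assoc] using this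
  obtain ⟨d, hd⟩ := Finite.injective_iff_surjective.1 hfinj
    ⟨_, hmem, A.mul_mem (hAn.conj_mem _ haA _) (A.inv_mem haA)⟩
  have hda : (d : G) = a := hinj0 d a d.2.2 haA (congrArg Subtype.val hd)
  have : y = h₀ ^ i * a := by rw [ha', mul_inv_cancel_left]
  rw [this, ← hda]
  exact H.mul_mem (H.zpow_mem hh₀ i) d.2.1

end

/-- Let G be a finite solvable non-nilpotent group. Every non-abelian subgroup of G is self-normalizing if and only if G is a semidirect product ⟨x⟩ ⋉ A in which ⟨x⟩ is a p-group for some prime p, A is a normal abelian subgroup of order prime to p, x^p is central in G, and x acts fixed-point-freely on A (no non-identity element of A commutes with x). -/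
theorem result {G : Type*} [Group G] [Finite G]
    [Group.IsSolvable G] (hnn : ¬ Group.IsNilpotent G) :
    (∀ H : Subgroup G, ¬ IsMulCommutative H → Subgroup.normalizer (H : Set G) = H) ↔
    ∃ (x : G) (A : Subgroup G) (p : ℕ), p.Prime ∧ A.Normal ∧ IsMulCommutative A ∧ (∃ k : ℕ, orderOf x = p ^ k) ∧
      ¬ p ∣ Nat.card A ∧ (Subgroup.zpowers x).IsComplement' A ∧ x ^ p ∈ Subgroup.center G ∧
      ∀ a : G, a ∈ A → a ≠ 1 → x * a * x⁻¹ ≠ a := by
  constructor
  · exact forward hnn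
  · rintro ⟨x, A, p, hp, hAn, hAc, hk, -, hcompl, hxp, hfpf⟩ H hH
    haveI := hAn
    haveI := hAc
    exact converse hp hk hcompl hxp hfpf hH

end Cfsg.Agent.S4071
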