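import Cfsg.Statements.S4072
import Cfsg.Agent.EqLemmas
import Cfsg.Agent.Lib.Transfer.Alperin
import Cfsg.Agent.Lib.Solvable.Basic

set_option autoImplicit false
open Cfsg

namespace Cfsg.Agent.S4072

section

/-- A prime-to-`p` element acting nontrivially on a normal abelian `p`-subgroup. -/
theorem exists_abelian_kernel {L : Type*} [Group L] [Finite L]
    (hS : ∀ J : Subgroup L, ¬ IsMulCommutative J → Subgroup.normalizer (J : Set L) = J)
    {p q : ℕ} [Fact p.Prime] [Fact q.Prime] (hqp : q ≠ p) (T : Subgroup L) [T.Normal] (hT : IsPGroup p T)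
    {y : L} (hy : ∃ k : ℕ, y ^ q ^ k = 1) (hyT : y ∉ Subgroup.centralizer (T : Set L)) :
    ∃ (K : Subgroup L) (_ : K.Normal), IsMulCommutative K ∧ Group.IsSolvable L ∧
      ∀ x : L, (∃ k : ℕ, x ^ p ^ k = 1) → x ∈ K := by
  classical
  obtain ⟨k, hk⟩ := hy
  obtain ⟨Q, hQ⟩ := (IsPGroup.of_card (n := (orderOf y).factorization q) (by
    obtain ⟨i, -, hi⟩ := (Nat.dvd_prime_pow (Fact.out : q.Prime)).1 (orderOf_dvd_of_pow_eq_one hk)
    rw [Nat.card_zpowers, hi, Nat.Prime.factorization_pow Fact.out, Finsupp.single_eq_same]) :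
    IsPGroup q (Subgroup.zpowers y)).exists_le_sylow
  have hdisj : T ⊓ (Q : Subgroup L) = ⊥ :=
    disjoint_iff.1 (IsPGroup.disjoint_of_ne p q hqp.symm T (Q : Subgroup L) hT Q.isPGroup')
  have hyQ : y ∈ (Q : Subgroup L) := hQ (Subgroup.mem_zpowers y)
  set J := T ⊔ Subgroup.zpowers y with hJ
  have hJnc : ¬ IsMulCommutative J := fun hc => hyT (Subgroup.mem_centralizer_iff.2 fun t ht =>
    congrArg Subtype.val (hc.is_comm.comm (⟨t, Subgroup.mem_sup_left ht⟩ : J) ⟨y, Subgroup.mem_sup_right (Subgroup.mem_zpowers y)⟩))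
  -- `Q` is generated by `y`
  have hQy : (Q : Subgroup L) = Subgroup.zpowers y := by
    refine le_antisymm ?_ hQ
    by_contra hnot
    haveI := Q.isPGroup'.isNilpotent
    set Z := (Subgroup.zpowers y).subgroupOf (Q : Subgroup L) with hZ
    have hlt : Z < ⊤ := by
      rw [lt_top_iff_ne_top, Ne, hZ, Subgroup.subgroupOf_eq_top]
      exact hnot
    obtain ⟨x, hx, hxZ⟩ := SetLike.exists_of_lt (Group.normalizerCondition_of_isNilpotent _ hlt)
    have hxJ : (x : L) ∈ Subgroup.normalizer (J : Set L) := by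
      have key : ∀ z : (Q : Subgroup L), z ∈ Subgroup.normalizer (Z : Set (Q : Subgroup L)) →
          ∀ j ∈ J, (z : L) * j * (z : L)⁻¹ ∈ J := by
        intro z hz j hj
        obtain ⟨t, ht, u, hu, rfl⟩ := Subgroup.mem_sup_of_normal_left.1 hj
        rw [show (z : L) * (t * u) * (z : L)⁻¹ = ((z : L) * t * (z : L)⁻¹) * ((z : L) * u * (z : L)⁻¹) by group]
        exact J.mul_mem (Subgroup.mem_sup_left (‹T.Normal›.conj_mem t ht _))
          (Subgroup.mem_sup_right ((Subgroup.mem_normalizer_iff.1 hz ⟨u, hQ hu⟩).1 hu))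
      refine Subgroup.mem_normalizer_iff.2 fun j => ⟨key x hx j, fun hj => ?_⟩
      have := key x⁻¹ (inv_mem hx) _ hj
      simpa [mul_assoc] using this
    rw [hS J hJnc] at hxJ
    obtain ⟨t, ht, u, hu, he⟩ := Subgroup.mem_sup_of_normal_left.1 hxJ
    have ht1 : t ∈ T ⊓ (Q : Subgroup L) :=
      ⟨ht, ((Q : Subgroup L).mul_mem_cancel_right (hQ hu)).1 (he.symm ▸ x.2)⟩
    rw [hdisj, Subgroup.mem_bot] at ht1
    rw [ht1, one_mul] at he
    exact hxZ (Subgroup.mem_subgroupOf.2 (he ▸ hu))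
  haveI hQc : IsMulCommutative (Q : Subgroup L) := by
    rw [hQy]; infer_instance
  have hN : Subgroup.normalizer ((Q : Subgroup L) : Set L) ≤ Subgroup.centralizer ((Q : Subgroup L) : Set L) := by
    intro n hn
    have hnJ : n ∈ Subgroup.normalizer (J : Set L) := by
      have key : ∀ z ∈ Subgroup.normalizer ((Q : Subgroup L) : Set L), ∀ j ∈ J, z * j * z⁻¹ ∈ J := by
        intro z hz j hj
        obtain ⟨t, ht, u, hu, rfl⟩ := Subgroup.mem_sup_of_normal_left.1 hj
        rw [show z * (t * u) * z⁻¹ = (z * t * z⁻¹) * (z * u * z⁻¹) by group]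
        exact J.mul_mem (Subgroup.mem_sup_left (‹T.Normal›.conj_mem t ht _))
          (Subgroup.mem_sup_right (hQy.le ((Subgroup.mem_normalizer_iff.1 hz u).1 (hQy.ge hu))))
      refine Subgroup.mem_normalizer_iff.2 fun j => ⟨key n hn j, fun hj => ?_⟩
      have := key n⁻¹ (inv_mem hn) _ hj
      simpa [mul_assoc] using this
    rw [hS J hJnc] at hnJ
    obtain ⟨t, ht, u, hu, rfl⟩ := Subgroup.mem_sup_of_normal_left.1 hnJ
    have huQ := hQ hu
    have htN : t ∈ Subgroup.normalizer ((Q : Subgroup L) : Set L) :=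
      ((Subgroup.normalizer _).mul_mem_cancel_right (Subgroup.le_normalizer huQ)).1 hn
    refine Subgroup.mem_centralizer_iff.2 fun w hw => ?_
    have h1 : t * w * t⁻¹ * w⁻¹ ∈ T ⊓ (Q : Subgroup L) := by
      refine ⟨?_, (Q : Subgroup L).mul_mem ((Subgroup.mem_normalizer_iff.1 htN w).1 hw) ((Q : Subgroup L).inv_mem hw)⟩
      rw [show t * w * t⁻¹ * w⁻¹ = t * (w * t⁻¹ * w⁻¹) by group]
      exact T.mul_mem ht (‹T.Normal›.conj_mem _ (T.inv_mem ht) w)
    rw [hdisj, Subgroup.mem_bot, mul_inv_eq_one, mul_inv_eq_iff_eq_mul] at h1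
    have h2 : w * u = u * w := congrArg Subtype.val
      (hQc.is_comm.comm (⟨w, hw⟩ : (Q : Subgroup L)) ⟨u, huQ⟩)
    rw [← mul_assoc, ← h1, mul_assoc, h2, ← mul_assoc]
  set K := (MonoidHom.transferSylow Q hN).ker with hK
  have hcomp := MonoidHom.ker_transferSylow_isComplement' Q hN
  haveI hKn : K.Normal := MonoidHom.normal_ker _
  have hKc : IsMulCommutative K := by
    by_contra hc
    have h1 := hS K hc
    rw [Subgroup.normalizer_eq_top] at h1
    have h2 : y ∈ K ⊓ (Q : Subgroup L) := ⟨h1 ▸ Subgroup.mem_top y, hyQ⟩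
    rw [disjoint_iff.1 hcomp.disjoint, Subgroup.mem_bot] at h2
    exact hyT (h2 ▸ Subgroup.one_mem _)
  haveI : Group.IsSolvable (Q : Subgroup L) := Cfsg.Agent.Solvable.isSolvable_of_isPGroup Q.isPGroup'
  haveI : Group.IsSolvable K := Group.isSolvable_of_comm hKc.is_comm.comm
  refine ⟨K, hKn, hKc, ?_, fun x ⟨i, hi⟩ => ?_⟩
  · exact Group.isSolvable_of_ker_le_range K.subtype (MonoidHom.transferSylow Q hN) (by rw [Subgroup.range_subtype, hK])
  · rw [hK, MonoidHom.mem_ker]
    set v := MonoidHom.transferSylow Q hN x with hv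
    obtain ⟨j, hj⟩ := IsPGroup.iff_orderOf.1 Q.isPGroup' v
    have hvp : v ^ p ^ i = 1 := by rw [hv, ← map_pow, hi, map_one]
    exact orderOf_eq_one_iff.1 (Nat.eq_one_of_dvd_coprimes
      (((Nat.coprime_primes (Fact.out : q.Prime) (Fact.out : p.Prime)).2 hqp).pow j i)
      hj.dvd (orderOf_dvd_of_pow_eq_one hvp))

/-- An element of order prime to `p` outside a subgroup has a prime-power power outside it. -/
theorem exists_prime_power_not_mem {G : Type*} [Group G] [Finite G] {H : Subgroup G} {n : G} {p : ℕ}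
    (hco : (orderOf n).Coprime p) (hn : n ∉ H) :
    ∃ (q : ℕ) (y : G), q.Prime ∧ q ∣ orderOf n ∧ y ∈ Subgroup.zpowers n ∧ (∃ k, y ^ q ^ k = 1) ∧ y ∉ H := by
  classical
  have hex : ∃ d, 0 < d ∧ n ^ d ∈ H := ⟨orderOf n, orderOf_pos n, by rw [pow_orderOf_eq_one]; exact H.one_mem⟩
  set m := Nat.find hex with hm
  obtain ⟨hm0, hmH⟩ := Nat.find_spec hex
  have hdiv : ∀ e : ℕ, n ^ e ∈ H → m ∣ e := by
    intro e he
    apply Nat.dvd_of_mod_eq_zero
    by_contra hne
    refine Nat.find_min hex (Nat.mod_lt e hm0) ⟨Nat.pos_of_ne_zero hne, ?_⟩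
    rw [← Nat.mod_add_div e m, pow_add, pow_mul] at he
    exact (H.mul_mem_cancel_right (H.pow_mem hmH _)).1 he
  have hm1 : m ≠ 1 := fun e => hn (by rw [← hm, e, pow_one] at hmH; exact hmH)
  obtain ⟨q, hq, hqm⟩ := Nat.exists_prime_and_dvd hm1
  have hqn : q ∣ orderOf n := hqm.trans (hdiv _ (by rw [pow_orderOf_eq_one]; exact H.one_mem))
  refine ⟨q, n ^ (orderOf n / q ^ (orderOf n).factorization q), hq, hqn, Subgroup.pow_mem _ (Subgroup.mem_zpowers n) _,
    ⟨(orderOf n).factorization q, ?_⟩, fun hmem => ?_⟩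
  · rw [← pow_mul, Nat.div_mul_cancel (Nat.ordProj_dvd _ q), pow_orderOf_eq_one]
  · exact Nat.not_dvd_ordCompl hq (orderOf_pos n).ne' (hqm.trans (hdiv _ hmem))

end

/-- A finite group in which every non-abelian subgroup is self-normalizing is solvable or simple. -/
theorem result {G : Type*} [Group G] [Finite G] (hS : ∀ H : Subgroup G, ¬ IsMulCommutative H → Subgroup.normalizer (H : Set G) = H) :
    Group.IsSolvable G ∨ IsSimpleGroup G := by
  classical
  by_contra hcon
  push Not at hcon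
  obtain ⟨hns, hnsimple⟩ := hcon
  haveI : Nontrivial G := by
    by_contra h
    rw [not_nontrivial_iff_subsingleton] at h
    haveI := h
    exact hns inferInstance
  have hprop : ∀ N : Subgroup G, N.Normal → N ≠ ⊤ → IsMulCommutative N := by
    intro N hN hN'
    by_contra hc
    have h1 := hS N hc
    rw [Subgroup.normalizer_eq_top] at h1
    exact hN' h1.symm
  have hperf : commutator G = ⊤ := by
    by_contra hne
    have hc := hprop (commutator G) inferInstance hne
    haveI : Group.IsSolvable (commutator G) := Group.isSolvable_of_comm hc.is_comm.comm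
    haveI : Group.IsSolvable (G ⧸ commutator G) :=
      Group.isSolvable_of_comm (Subgroup.Normal.quotient_commutative_iff_commutator_le.mpr le_rfl).is_comm.comm
    exact hns ((Cfsg.Agent.Solvable.isSolvable_subgroup_quotient_iff (commutator G)).2 ⟨inferInstance, inferInstance⟩)
  obtain ⟨N, hNn, hN0, hN1⟩ : ∃ N : Subgroup G, N.Normal ∧ N ≠ ⊥ ∧ N ≠ ⊤ := by
    by_contra hcon
    push Not at hcon
    exact hnsimple { eq_bot_or_eq_top_of_normal := fun N hN => or_iff_not_imp_left.2 (hcon N hN) }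
  haveI := hNn
  haveI : Group.IsSolvable N := Group.isSolvable_of_comm (hprop N hNn hN1).is_comm.comm
  obtain ⟨p, hp, A, hAn, hA0, -, -, hAp, hAexp, -⟩ := Cfsg.Agent.Solvable.exists_minimal_normal_pGroup hN0
  haveI := hAn
  haveI := Fact.mk hp
  -- elements of order prime to `p` centralise `A`
  have hcen : ∀ n : G, (orderOf n).Coprime p → n ∈ Subgroup.centralizer (A : Set G) := by
    intro n hn
    by_contra hnA
    obtain ⟨q, y, hq, hqn, -, hy, hyA⟩ := exists_prime_power_not_mem hn hnA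
    haveI := Fact.mk hq
    have hqp : q ≠ p := by
      rintro rfl
      exact hq.ne_one (Nat.dvd_one.1 (hn ▸ Nat.dvd_gcd hqn dvd_rfl))
    obtain ⟨-, -, -, hsol, -⟩ := exists_abelian_kernel hS hqp A hAp hy hyA
    exact hns hsol
  have hAC : Subgroup.centralizer (A : Set G) = ⊤ := by
    by_contra hne
    set C := Subgroup.centralizer (A : Set G) with hC
    haveI : C.Normal := Subgroup.normal_centralizer
    haveI : Group.IsSolvable C := Group.isSolvable_of_comm (hprop C inferInstance hne).is_comm.comm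
    have hq : IsPGroup p (G ⧸ C) := by
      intro x
      obtain ⟨g, rfl⟩ := QuotientGroup.mk'_surjective C x
      refine ⟨(orderOf g).factorization p, ?_⟩
      rw [← map_pow]
      refine (QuotientGroup.eq_one_iff _).2 (hcen _ ?_)
      rw [orderOf_pow' g (pow_ne_zero _ hp.ne_zero), Nat.gcd_eq_right (Nat.ordProj_dvd _ p)]
      exact (Nat.coprime_ordCompl hp (orderOf_pos g).ne').symm
    haveI := Cfsg.Agent.Solvable.isSolvable_of_isPGroup hq
    exact hns ((Cfsg.Agent.Solvable.isSolvable_subgroup_quotient_iff C).2 ⟨inferInstance, inferInstance⟩)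
  obtain ⟨P⟩ := (inferInstance : Nonempty (Sylow p G))
  have hPnc : ¬ IsMulCommutative (P : Subgroup G) := by
    intro hc
    haveI := hc
    refine hA0 ((Subgroup.eq_bot_iff_forall _).2 fun a ha => ?_)
    have haP : a ∈ (P : Subgroup G) :=
      (P.3 (P.isPGroup'.to_sup_of_normal_right hAp) le_sup_left).le (Subgroup.mem_sup_right ha)
    have hac : ∀ (k : ℕ) (g₀ : G), g₀⁻¹ * a ^ k * g₀ = a ^ k := by
      intro k g₀
      have h1 : g₀ ∈ Subgroup.centralizer (A : Set G) := by rw [hAC]; trivial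
      have h2 := Subgroup.mem_centralizer_iff.1 h1 _ (A.pow_mem ha k)
      rw [mul_assoc, h2, ← mul_assoc, inv_mul_cancel, one_mul]
    open scoped IsMulCommutative in
    have h3 : a ^ (P : Subgroup G).index = 1 := by
      have e := MonoidHom.transfer_eq_pow (H := (P : Subgroup G)) (ϕ := MonoidHom.id (P : Subgroup G)) a
        (fun k g₀ _ => hac k g₀)
      have e' : MonoidHom.transfer (MonoidHom.id (P : Subgroup G)) a = 1 :=
        MonoidHom.mem_ker.1 (Abelianization.commutator_subset_ker _ (by rw [hperf]; trivial))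
      rw [e'] at e
      exact (congrArg Subtype.val e).symm
    exact orderOf_eq_one_iff.1 (Nat.eq_one_of_dvd_coprimes (hp.coprime_iff_not_dvd.2 P.not_dvd_index)
      (orderOf_dvd_of_pow_eq_one (hAexp a ha)) (orderOf_dvd_of_pow_eq_one h3))
  have hcomp : Cfsg.HasNormalPComplement p G := by
    refine Cfsg.Agent.Transfer.hasNormalPComplement_of_local P fun R hR hRb n hn hco => ?_
    have hRp : IsPGroup p R := P.isPGroup'.to_le hR.1
    by_contra hnC
    have hRc : IsMulCommutative R := by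
      by_contra hc
      rw [hS R hc] at hn
      obtain ⟨j, hj⟩ := IsPGroup.iff_orderOf.1 hRp ⟨n, hn⟩
      rw [Subgroup.orderOf_mk] at hj
      exact hnC (by
        rw [orderOf_eq_one_iff.1 (Nat.eq_one_of_dvd_coprimes (hco.pow_right j) dvd_rfl hj.dvd)]
        exact Subgroup.one_mem _)
    -- a maximal such abelian subgroup is a Sylow subgroup
    obtain ⟨T, -, hmax⟩ := Finite.exists_le_maximal (α := Subgroup G)
      (p := fun T => IsPGroup p T ∧ IsMulCommutative T ∧
        ∃ m : G, (orderOf m).Coprime p ∧ m ∈ Subgroup.normalizer (T : Set G) ∧ m ∉ Subgroup.centralizer (T : Set G))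
      (a := R) ⟨hRp, hRc, n, hco, hn, hnC⟩
    obtain ⟨hTp, hTc, m, hmco, hmN, hmC⟩ := hmax.prop
    set L := Subgroup.normalizer (T : Set G) with hL
    have hSL : ∀ J : Subgroup L, ¬ IsMulCommutative J → Subgroup.normalizer (J : Set L) = J := by
      intro J hJ
      refine le_antisymm (fun x hx => ?_) Subgroup.le_normalizer
      have hJ' : ¬ IsMulCommutative (J.map L.subtype) := fun hc => hJ ⟨⟨fun a b => by
        have e : ((a : L) : G) * ((b : L) : G) = ((b : L) : G) * ((a : L) : G) :=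
          congrArg (fun z : (J.map L.subtype : Subgroup G) => (z : G))
            (hc.is_comm.comm ⟨_, ⟨_, a.2, rfl⟩⟩ ⟨_, ⟨_, b.2, rfl⟩⟩)
        exact Subtype.ext (Subtype.ext e)⟩⟩
      have h1 : (x : G) ∈ Subgroup.normalizer ((J.map L.subtype : Subgroup G) : Set G) :=
        Subgroup.le_normalizer_map L.subtype ⟨x, hx, rfl⟩
      rw [hS _ hJ'] at h1
      exact (Subgroup.mem_map_iff_mem L.subtype_injective).1 h1
    obtain ⟨q, y, hq, hqm, hym, ⟨k, hyk⟩, hyC⟩ := exists_prime_power_not_mem hmco hmC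
    haveI := Fact.mk hq
    have hqp : q ≠ p := by
      rintro rfl
      exact hq.ne_one (Nat.dvd_one.1 (hmco ▸ Nat.dvd_gcd hqm dvd_rfl))
    have hyL : y ∈ L := (Subgroup.zpowers_le.2 hmN) hym
    haveI : (T.subgroupOf L).Normal := Subgroup.normal_in_normalizer
    obtain ⟨K, hKn, hKc, -, hKp⟩ := exists_abelian_kernel hSL hqp (T.subgroupOf L)
      (hTp.comap_of_injective L.subtype L.subtype_injective) (y := ⟨y, hyL⟩) ⟨k, Subtype.ext hyk⟩ (fun h => hyC
        (Subgroup.mem_centralizer_iff.2 fun t ht =>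
          congrArg Subtype.val (Subgroup.mem_centralizer_iff.1 h ⟨t, Subgroup.le_normalizer ht⟩ ht)))
    -- the `p`-part of `K`
    let T2 : Subgroup G :=
      { carrier := {x | ∃ h : x ∈ L, (⟨x, h⟩ : L) ∈ K ∧ ∃ i : ℕ, x ^ p ^ i = 1}
        one_mem' := ⟨L.one_mem, K.one_mem, 0, one_pow _⟩
        mul_mem' := fun {a b} ⟨ha, haK, i, hi⟩ ⟨hb, hbK, j, hj⟩ => ⟨L.mul_mem ha hb, K.mul_mem haK hbK, i + j, by
          have hab : Commute a b := congrArg (fun z : L => (z : G))
            (congrArg Subtype.val (hKc.is_comm.comm (⟨_, haK⟩ : K) ⟨_, hbK⟩))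
          rw [hab.mul_pow, pow_add, pow_mul, hi, one_pow, one_mul, mul_comm (p ^ i), pow_mul, hj, one_pow]⟩
        inv_mem' := fun {a} ⟨ha, haK, i, hi⟩ => ⟨L.inv_mem ha, K.inv_mem haK, i, by rw [inv_pow, hi, inv_one]⟩ }
    have hTT2 : T ≤ T2 := fun t ht => by
      obtain ⟨i, hi⟩ := hTp ⟨t, ht⟩
      have hi' : t ^ p ^ i = 1 := congrArg Subtype.val hi
      exact ⟨Subgroup.le_normalizer ht, hKp _ ⟨i, Subtype.ext hi'⟩, i, hi'⟩
    have hT2p : IsPGroup p T2 := fun ⟨x, _, _, i, hi⟩ => ⟨i, Subtype.ext hi⟩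
    have hT2c : IsMulCommutative T2 := ⟨⟨fun ⟨a, _, haK, _⟩ ⟨b, _, hbK, _⟩ => Subtype.ext (congrArg (fun z : L => (z : G))
      (congrArg Subtype.val (hKc.is_comm.comm (⟨_, haK⟩ : K) ⟨_, hbK⟩)))⟩⟩
    have hLN : L ≤ Subgroup.normalizer (T2 : Set G) := by
      have key : ∀ u ∈ L, ∀ x ∈ T2, u * x * u⁻¹ ∈ T2 := fun u hu x ⟨hx, hxK, i, hi⟩ =>
        ⟨L.mul_mem (L.mul_mem hu hx) (L.inv_mem hu), hKn.conj_mem _ hxK ⟨u, hu⟩, i, by
          rw [conj_pow, hi, mul_one, mul_inv_cancel]⟩
      intro u hu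
      refine Subgroup.mem_normalizer_iff.2 fun x => ⟨key u hu x, fun hx => ?_⟩
      have := key u⁻¹ (L.inv_mem hu) _ hx
      simpa [mul_assoc] using this
    have hT2 : T2 ≤ T := hmax.2 ⟨hT2p, hT2c, m, hmco, hLN hmN,
      fun h => hmC (Subgroup.centralizer_le hTT2 h)⟩ hTT2
    obtain ⟨U, hU⟩ := hTp.exists_le_sylow
    have hTU : T = (U : Subgroup G) := by
      by_contra hne
      haveI := U.isPGroup'.isNilpotent
      have hlt : T.subgroupOf (U : Subgroup G) < ⊤ := by
        rw [lt_top_iff_ne_top, Ne, Subgroup.subgroupOf_eq_top]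
        exact fun h => hne (le_antisymm hU h)
      obtain ⟨x, hx, hxT⟩ := SetLike.exists_of_lt (Group.normalizerCondition_of_isNilpotent _ hlt)
      have hxL : (x : G) ∈ L := by
        refine Subgroup.mem_normalizer_iff.2 fun a => ⟨fun ha => ?_, fun ha => ?_⟩
        · exact (Subgroup.mem_normalizer_iff.1 hx ⟨a, hU ha⟩).1 ha
        · have haX : a ∈ (U : Subgroup G) := by
            have h1 := (U : Subgroup G).mul_mem ((U : Subgroup G).mul_mem ((U : Subgroup G).inv_mem x.2) (hU ha)) x.2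
            simpa [mul_assoc] using h1
          exact (Subgroup.mem_normalizer_iff.1 hx ⟨a, haX⟩).2 ha
      obtain ⟨i, hi⟩ := U.isPGroup' x
      exact hxT (hT2 ⟨hxL, hKp _ ⟨i, Subtype.ext (congrArg (fun z : (U : Subgroup G) => (z : G)) hi)⟩, i,
        congrArg (fun z : (U : Subgroup G) => (z : G)) hi⟩)
    apply hPnc
    obtain ⟨g, hg⟩ := MulAction.exists_smul_eq G U P
    have hmap : (P : Subgroup G) = T.map (MulAut.conj g).toMonoidHom := by
      rw [← hg, Sylow.coe_subgroup_smul, hTU]; rfl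
    rw [hmap]
    haveI := hTc
    infer_instance
  obtain ⟨P', K, hKn, hK⟩ := hcomp
  haveI := hKn
  have hKne : K ≠ ⊤ := by
    intro e
    have h1 := disjoint_iff.1 hK.disjoint
    rw [e, top_inf_eq] at h1
    refine hA0 ((Subgroup.eq_bot_iff_forall _).2 fun a ha => ?_)
    have haP : a ∈ (P' : Subgroup G) :=
      (P'.3 (P'.isPGroup'.to_sup_of_normal_right hAp) le_sup_left).le (Subgroup.mem_sup_right ha)
    rwa [h1, Subgroup.mem_bot] at haP
  haveI : Group.IsSolvable K := Group.isSolvable_of_comm (hprop K hKn hKne).is_comm.comm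
  have hq : IsPGroup p (G ⧸ K) := by
    obtain ⟨i, hi⟩ := IsPGroup.iff_card.1 P'.isPGroup'
    exact IsPGroup.of_card (n := i) (by rw [← Subgroup.index_eq_card, hK.symm.index_eq_card, hi])
  haveI := Cfsg.Agent.Solvable.isSolvable_of_isPGroup hq
  exact hns ((Cfsg.Agent.Solvable.isSolvable_subgroup_quotient_iff K).2 ⟨inferInstance, inferInstance⟩)

end Cfsg.Agent.S4072
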