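import Cfsg.Statements.S5748
import Cfsg.Agent.Lib.CAEven.Classify
import Cfsg.Agent.Lib.CN.Odd
-- import your own Cfsg.Agent.* helpers here

set_option autoImplicit false
open Cfsg

namespace Cfsg.Agent.S5748

/-- A finite non-abelian simple group in which commuting is a transitive relation on the non-identity elements (equivalently, every non-identity element has abelian centraliser) is isomorphic to PSL₂ over a field with 2^f elements for some f ≥ 2; conversely these groups have that property. -/
theorem result {G : Type*} [Group G] [Finite G] [IsSimpleGroup G] (hG : ¬ IsMulCommutative G) :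
    (∀ a b c : G, a ≠ 1 → b ≠ 1 → c ≠ 1 → Commute a b → Commute b c → Commute a c) ↔
    ∃ (F : Type) (_ : Field F) (_ : Fintype F) (f : ℕ), 2 ≤ f ∧ Fintype.card F = 2 ^ f ∧ Nonempty (G ≃* Matrix.ProjectiveSpecialLinearGroup (Fin 2) F) := by
  have hne : ¬ ∀ a b : G, Commute a b := fun h => hG ⟨⟨fun a b => h a b⟩⟩
  constructor
  · intro hct
    have hca : ∀ x y z : G, x ≠ 1 → Commute y x → Commute z x → Commute y z := by
      intro x y z hx hy hz
      rcases eq_or_ne y 1 with rfl | hy1
      · exact Commute.one_left z
      rcases eq_or_ne z 1 with rfl | hz1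
      · exact Commute.one_right y
      exact hct y x z hy1 hx hz1 hy hz.symm
    have heven : 2 ∣ Nat.card G := by
      by_contra hodd
      have hCN : Cfsg.IsCNGroup G := by
        intro g hg
        have hcomm : ∀ y z : Subgroup.centralizer ({g} : Set G), y * z = z * y := fun y z =>
          Subtype.ext (hca g y z hg (Subgroup.mem_centralizer_singleton_iff.1 y.2)
            (Subgroup.mem_centralizer_singleton_iff.1 z.2)).eq
        exact @CommGroup.isNilpotent _ { (inferInstance : Group (Subgroup.centralizer ({g} : Set G))) with mul_comm := hcomm }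
      haveI := CN.isSolvable_of_odd _ G rfl
        (Nat.odd_iff.2 (Nat.two_dvd_ne_zero.1 hodd)) hCN
      exact hne fun a b => IsSimpleGroup.comm_iff_isSolvable.2 this a b
    obtain ⟨E⟩ := CAEven.exists_setup hne hca heven
    exact E.classify
  · rintro ⟨F, iF, iFt, f, hf, hF, ⟨e⟩⟩ a b c _ hb _ hab hbc
    have h := CAEven.psl_commute (show 1 ≤ f by omega) hF (a := e a) (b := e b) (c := e c)
      (by simpa using hb) (hab.map e) (hbc.map e)
    exact e.injective (by rw [map_mul, map_mul]; exact h.eq)

end Cfsg.Agent.S5748
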