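import Cfsg.Statements.S4073
import Cfsg.Agent.Lib.SelfNormNonab.PSL
import Cfsg.Agent.S5748

set_option autoImplicit false
open Cfsg

namespace Cfsg.Agent.S4073

open SelfNormNonab in
theorem sn_of_equiv {G G' : Type*} [Group G] [Group G'] (e : G ≃* G') (h : SN G) : SN G' := by
  intro H hH
  refine le_antisymm (fun g hg => ?_) Subgroup.le_normalizer
  have hH' : ¬ IsMulCommutative (H.comap e.toMonoidHom) := fun hc => hH ⟨⟨fun a b => by
    have hm : ∀ c : H, e.symm (c : G') ∈ H.comap e.toMonoidHom := fun c => by simp [Subgroup.mem_comap]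
    refine Subtype.ext (e.symm.injective ?_)
    simpa using mem_comm hc (hm a) (hm b)⟩⟩
  have h1 := h.le_of_normalizes hH' (g := e.symm g) (Subgroup.mem_normalizer_iff.2 fun a => by
    have := Subgroup.mem_normalizer_iff.1 hg (e a)
    simpa [Subgroup.mem_comap] using this)
  simpa [Subgroup.mem_comap] using h1

theorem psl_equiv_galois {F : Type} [Field F] [Fintype F] {n : ℕ} (hn : n ≠ 0)
    (hF : Fintype.card F = 2 ^ n) :
    Nonempty (Matrix.ProjectiveSpecialLinearGroup (Fin 2) F ≃*
      Matrix.ProjectiveSpecialLinearGroup (Fin 2) (GaloisField 2 n)) := by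
  haveI := Fact.mk Nat.prime_two
  have hc : Nat.card F = Nat.card (GaloisField 2 n) := by
    rw [Nat.card_eq_fintype_card, hF, GaloisField.card 2 n hn]
  obtain ⟨φ⟩ := PSL2.exists_ringHom_of_card_pow (L := F) (F := GaloisField 2 n) (m := 1) (by rwa [pow_one])
  obtain ⟨f, hf⟩ := PSL2.exists_pslMap φ
  refine ⟨MulEquiv.ofBijective f ⟨hf, ?_⟩⟩
  have h1 := PSL2.card_psl_mul (F := F)
  have h2 := PSL2.card_psl_mul (F := GaloisField 2 n)
  rw [hc] at h1
  have heq := Nat.eq_of_mul_eq_mul_left (Nat.gcd_pos_of_pos_left _ two_pos) (h1.trans h2.symm)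
  exact ((Nat.bijective_iff_injective_and_card f).2 ⟨hf, heq⟩).2

/-- Let G be a finite non-abelian simple group. Every non-abelian subgroup of G is self-normalizing if and only if G is isomorphic to PSL₂(2ⁿ) for some n ≥ 2 with 2ⁿ − 1 prime (this includes the alternating group of degree 5 as PSL₂(4)). -/
theorem result {G : Type*} [Group G] [Finite G] [IsSimpleGroup G]
    (hna : ¬ IsMulCommutative G) :
    (∀ H : Subgroup G, ¬ IsMulCommutative H → Subgroup.normalizer (H : Set G) = H) ↔
    ∃ n : ℕ, 2 ≤ n ∧ (2 ^ n - 1).Prime ∧ Nonempty (G ≃* Matrix.ProjectiveSpecialLinearGroup (Fin 2) (GaloisField 2 n)) := by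
  haveI := Fact.mk Nat.prime_two
  constructor
  · intro h
    have hca := fun {z : G} (hz : z ≠ 1) => SelfNormNonab.SN.cent_comm h hna hz
    obtain ⟨F, iF, iF', n, hn, hF, ⟨e⟩⟩ := (S5748.result hna).1 (fun a b c _ hb _ hab hbc =>
      SelfNormNonab.mem_comm (hca hb) (Subgroup.mem_centralizer_singleton_iff.2 hab.eq)
        (Subgroup.mem_centralizer_singleton_iff.2 hbc.symm.eq))
    haveI : Finite F := inferInstance
    obtain ⟨e'⟩ := psl_equiv_galois (show n ≠ 0 by omega) hF
    exact ⟨n, hn, SelfNormNonab.prime_of_sn hn (F := F) (by rw [Nat.card_eq_fintype_card, hF])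
      (sn_of_equiv e h), ⟨e.trans e'⟩⟩
  · rintro ⟨n, hn, hl, ⟨e⟩⟩
    haveI : Finite (GaloisField 2 n) := inferInstance
    exact sn_of_equiv e.symm (SelfNormNonab.sn_of_prime hn (GaloisField.card 2 n (by omega)) hl
      (IsSimpleGroup.isSimpleGroup_of_surjective (f := e.toMonoidHom) e.surjective))

end Cfsg.Agent.S4073
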