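import Cfsg.Statements.S4074
import Cfsg.Agent.EqLemmas

set_option autoImplicit false
open Cfsg

namespace Cfsg.Agent.S4074

/-- For n > 2, every non-abelian subgroup of the dihedral group of order 2n is self-normalizing if and only if n = 4 or n is odd. -/
theorem result (n : ℕ) (hn : 2 < n) :
    (∀ H : Subgroup (DihedralGroup n), ¬ IsMulCommutative H → Subgroup.normalizer (H : Set (DihedralGroup n)) = H) ↔
    (n = 4 ∨ Odd n) := by
  haveI : NeZero n := ⟨by omega⟩
  constructor
  · intro h
    by_contra hcon
    push Not at hcon
    obtain ⟨hn4, hodd⟩ := hcon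
    have h2 : 2 ∣ n := (Nat.not_odd_iff_even.1 hodd).two_dvd
    let φ : ZMod n →+* ZMod 2 := ZMod.castHom h2 (ZMod 2)
    let par : DihedralGroup n → ZMod 2 := fun x => match x with
      | DihedralGroup.r i => φ i
      | DihedralGroup.sr i => φ i
    have hpar : ∀ x y, par (x * y) = par x + par y := by
      rintro (i | i) (j | j)
      · simp [par]
      · simp only [par, DihedralGroup.r_mul_sr, map_sub]
        rw [CharTwo.sub_eq_add, add_comm]
      · simp [par]
      · simp only [par, DihedralGroup.sr_mul_sr, map_sub]
        rw [CharTwo.sub_eq_add, add_comm]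
    have hpone : par 1 = 0 := by
      show φ 0 = 0
      rw [map_zero]
    let H : Subgroup (DihedralGroup n) :=
      { carrier := {x | par x = 0}
        one_mem' := hpone
        mul_mem' := fun {a b} ha hb => by
          show par (a * b) = 0
          rw [hpar, show par a = 0 from ha, show par b = 0 from hb, add_zero]
        inv_mem' := fun {a} ha => by
          show par a⁻¹ = 0
          have e := hpar a a⁻¹
          rw [mul_inv_cancel, hpone, show par a = 0 from ha, zero_add] at e
          exact e.symm }
    have hr2 : DihedralGroup.r (2 : ZMod n) ∈ H := by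
      show φ 2 = 0
      rw [map_ofNat]; rfl
    have hs0 : DihedralGroup.sr (0 : ZMod n) ∈ H := by
      show φ 0 = 0
      rw [map_zero]
    have hnab : ¬ IsMulCommutative H := by
      intro hc
      have e := congrArg Subtype.val (hc.is_comm.comm ⟨_, hr2⟩ ⟨_, hs0⟩)
      simp only [Subgroup.coe_mul, DihedralGroup.r_mul_sr, DihedralGroup.sr_mul_r, DihedralGroup.sr.injEq, zero_sub, zero_add] at e
      have h4 : ((4 : ℕ) : ZMod n) = 0 := by
        push_cast
        linear_combination -e
      rw [ZMod.natCast_eq_zero_iff] at h4
      have := Nat.le_of_dvd (by norm_num) h4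
      interval_cases n <;> omega
    have hnorm := h H hnab
    have h1 : DihedralGroup.r (1 : ZMod n) ∈ H := by
      rw [← hnorm]
      have key : ∀ g x : DihedralGroup n, par (g * x * g⁻¹) = par x := by
        intro g x
        rw [hpar, hpar, add_right_comm, ← hpar, mul_inv_cancel, hpone, zero_add]
      exact Subgroup.mem_normalizer_iff.2 fun x => by
        show par x = 0 ↔ par _ = 0
        rw [key]
    have : φ 1 = 0 := h1
    rw [map_one] at this
    exact one_ne_zero this
  · intro h H hH
    refine le_antisymm (fun g hg => ?_) Subgroup.le_normalizer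
    rcases h with rfl | hodd
    · -- order 8: the only non-abelian subgroup is the whole group
      have hcard : Nat.card H ∣ 8 := by
        have := Subgroup.card_subgroup_dvd_card H
        rwa [DihedralGroup.nat_card] at this
      haveI := Fact.mk Nat.prime_two
      have h8 : ¬ Nat.card H ≤ 4 := by
        intro h4
        apply hH
        obtain ⟨k, hk, hk'⟩ := (Nat.dvd_prime_pow Nat.prime_two).1 (show Nat.card H ∣ 2 ^ 3 from hcard)
        interval_cases k
        · haveI : Subsingleton H := (Nat.card_eq_one_iff_unique.1 hk').1
          exact ⟨⟨fun a b => Subsingleton.elim _ _⟩⟩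
        · haveI := isCyclic_of_prime_card (hk'.trans (pow_one 2))
          exact IsCyclic.isMulCommutative
        · exact IsPGroup.isMulCommutative_of_card_eq_prime_sq hk'
        · omega
      have hle := Nat.le_of_dvd (by norm_num) hcard
      have : Nat.card H = 8 := by
        obtain ⟨k, hk, hk'⟩ := (Nat.dvd_prime_pow Nat.prime_two).1 (show Nat.card H ∣ 2 ^ 3 from hcard)
        interval_cases k <;> omega
      rw [Subgroup.eq_top_of_card_eq H (by rw [this, DihedralGroup.nat_card])]
      trivial
    · -- odd `n`: `H` contains a reflection
      obtain ⟨i, hi⟩ : ∃ i, DihedralGroup.sr i ∈ H := by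
        by_contra hcon
        push Not at hcon
        apply hH
        refine ⟨⟨fun a b => Subtype.ext ?_⟩⟩
        obtain ⟨a | a, ha⟩ := a <;> obtain ⟨b | b, hb⟩ := b
        · show DihedralGroup.r a * DihedralGroup.r b = DihedralGroup.r b * DihedralGroup.r a
          rw [DihedralGroup.r_mul_r, DihedralGroup.r_mul_r, add_comm]
        · exact absurd hb (hcon _)
        · exact absurd ha (hcon _)
        · exact absurd ha (hcon _)
      have hrot : ∀ j, DihedralGroup.r j ∈ Subgroup.normalizer (H : Set (DihedralGroup n)) → DihedralGroup.r j ∈ H := by
        intro j hj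
        have h1 := H.mul_mem hi ((Subgroup.mem_normalizer_iff.1 hj _).1 hi)
        have e : DihedralGroup.sr i * (DihedralGroup.r j * DihedralGroup.sr i * (DihedralGroup.r j)⁻¹) =
            DihedralGroup.r (-(2 * j)) := by
          simp only [DihedralGroup.inv_r, DihedralGroup.r_mul_sr, DihedralGroup.sr_mul_r, DihedralGroup.sr_mul_sr]
          congr 1
          ring
        rw [e] at h1
        obtain ⟨m, hm⟩ := hodd
        have h2 := H.pow_mem h1 m
        have hpow : ∀ (t : ℕ), DihedralGroup.r (-(2 * j)) ^ t = DihedralGroup.r ((t : ZMod n) * -(2 * j)) := by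
          intro t
          induction t with
          | zero => simp
          | succ t ih => rw [pow_succ, ih, DihedralGroup.r_mul_r]; congr 1; push_cast; ring
        rw [hpow] at h2
        have hzero : (2 * (m : ZMod n) + 1) = 0 := by
          have := ZMod.natCast_self n
          rw [hm] at this ⊢
          push_cast at this
          exact this
        have : (m : ZMod n) * -(2 * j) = j := by linear_combination -j * hzero
        rwa [this] at h2
      rcases g with j | j
      · exact hrot j hg
      · have h1 : DihedralGroup.sr j * DihedralGroup.sr i ∈ Subgroup.normalizer (H : Set (DihedralGroup n)) :=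
          Subgroup.mul_mem _ hg (Subgroup.le_normalizer hi)
        rw [DihedralGroup.sr_mul_sr] at h1
        have h2 := H.mul_mem hi (hrot _ (DihedralGroup.inv_r (i := i - j) ▸ Subgroup.inv_mem _ h1))
        rw [DihedralGroup.sr_mul_r] at h2
        convert h2 using 2
        ring

end Cfsg.Agent.S4074
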