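import Cfsg.Statements.S4075
import Cfsg.Agent.EqLemmas

set_option autoImplicit false
open Cfsg

namespace Cfsg.Agent.S4075

/-- Let G be a finite nilpotent group. Every non-abelian subgroup of G is self-normalizing if and only if G is abelian or G is a minimal non-abelian p-group for some prime p (non-abelian of prime-power order with every proper subgroup abelian). -/
theorem result {G : Type*} [Group G] [Finite G]
    [Group.IsNilpotent G] :
    (∀ H : Subgroup G, ¬ IsMulCommutative H → Subgroup.normalizer (H : Set G) = H) ↔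
    (IsMulCommutative G ∨ (IsPrimePow (Nat.card G) ∧ ¬ IsMulCommutative G ∧ ∀ H : Subgroup G, H ≠ ⊤ → IsMulCommutative H)) := by
  constructor
  · intro h
    by_cases hab : IsMulCommutative G
    · exact Or.inl hab
    refine Or.inr ?_
    have hprop : ∀ H : Subgroup G, H ≠ ⊤ → IsMulCommutative H := by
      intro H hH
      by_contra hc
      exact absurd (h H hc) (Group.normalizerCondition_of_isNilpotent H (lt_top_iff_ne_top.2 hH)).ne'
    refine ⟨?_, hab, hprop⟩
    by_contra hpp
    refine hab ⟨⟨?_⟩⟩
    obtain ⟨e⟩ := ((Group.isNilpotent_of_finite_tfae (G := G)).out 0 4).1 ‹Group.IsNilpotent G›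
    intro a b
    obtain ⟨a', rfl⟩ := e.surjective a
    obtain ⟨b', rfl⟩ := e.surjective b
    rw [← map_mul, ← map_mul]
    congr 1
    funext q P
    haveI : Fact (q : ℕ).Prime := ⟨Nat.prime_of_mem_primeFactors q.2⟩
    have hP : (P : Subgroup G) ≠ ⊤ := by
      intro htop
      apply hpp
      obtain ⟨k, hk⟩ := IsPGroup.iff_card.1 P.isPGroup'
      rw [htop, Subgroup.card_top] at hk
      rw [hk]
      refine IsPrimePow.pow (Fact.out : (q : ℕ).Prime).isPrimePow fun h0 => ?_
      subst h0
      rw [pow_zero] at hk
      have := Nat.dvd_of_mem_primeFactors q.2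
      replace this := this.trans (dvd_of_eq hk)
      exact (Fact.out : (q : ℕ).Prime).ne_one (Nat.dvd_one.1 this)
    exact (hprop _ hP).is_comm.comm _ _
  · rintro (hab | ⟨-, -, hprop⟩) H hH
    · exact absurd ⟨⟨fun a b => Subtype.ext (hab.is_comm.comm (a : G) b)⟩⟩ hH
    · by_cases htop : H = ⊤
      · subst htop
        exact eq_top_iff.2 (Subgroup.le_normalizer)
      · exact absurd (hprop H htop) hH

end Cfsg.Agent.S4075
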