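import Cfsg.Statements.S4078
import Cfsg.Agent.Lib.TwoGen.Main

set_option autoImplicit false
open Cfsg

namespace Cfsg.Agent.S4078

/-- For an element x of a finite group G let Sol(x) be the set of y ∈ G such that x and y generate a solvable subgroup. Then G is solvable if and only if Sol(x) is (the carrier of) a subgroup of G for every x ∈ G. -/
theorem result {G : Type*} [Group G] [Finite G] :
    Group.IsSolvable G ↔ ∀ x : G, ∃ H : Subgroup G, (H : Set G) = {y : G | Group.IsSolvable ↥(Subgroup.closure ({x, y} : Set G))} := by
  constructor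
  · intro hG x
    refine ⟨⊤, ?_⟩
    ext y
    simp only [Subgroup.coe_top, Set.mem_univ, Set.mem_setOf_eq, true_iff]
    infer_instance
  intro h
  refine TwoGen.solvable_of_inherited
    (fun K [Group K] => ∀ x : K, ∃ L : Subgroup K,
      (L : Set K) = {y : K | Group.IsSolvable ↥(Subgroup.closure ({x, y} : Set K))}) ?_ ?_ ?_ G h
  · intro K _ _ H hK x
    obtain ⟨L, hL⟩ := hK (x : K)
    refine ⟨L.subgroupOf H, Set.ext fun y => ?_⟩
    have e : (Subgroup.closure ({x, y} : Set H)).map H.subtype = Subgroup.closure ({(x : K), (y : K)} : Set K) := by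
      rw [MonoidHom.map_closure, Set.image_pair]
      rfl
    set φ := ((Subgroup.closure ({x, y} : Set H)).equivMapOfInjective H.subtype H.subtype_injective).trans
      (MulEquiv.subgroupCongr e)
    show (y : K) ∈ (L : Set K) ↔ Group.IsSolvable ↥(Subgroup.closure ({x, y} : Set H))
    rw [hL]
    exact ⟨fun hs => by
      haveI : Group.IsSolvable ↥(Subgroup.closure ({(x : K), (y : K)} : Set K)) := hs
      exact Group.isSolvable_of_isSolvable_injective (f := φ.toMonoidHom) φ.injective, fun hs => by
      haveI := hs
      exact Group.isSolvable_of_surjective (f := φ.toMonoidHom) φ.surjective⟩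
  · intro K _ _ N _ hN hK x
    obtain ⟨a, rfl⟩ := QuotientGroup.mk'_surjective N x
    obtain ⟨L, hL⟩ := hK a
    have key : ∀ b : K, Group.IsSolvable ↥(Subgroup.closure ({a, b} : Set K)) ↔
        Group.IsSolvable ↥(Subgroup.closure
          ({QuotientGroup.mk' N a, QuotientGroup.mk' N b} : Set (K ⧸ N))) := by
      intro b
      have e : (Subgroup.closure ({a, b} : Set K)).map (QuotientGroup.mk' N) =
          Subgroup.closure ({QuotientGroup.mk' N a, QuotientGroup.mk' N b} : Set (K ⧸ N)) := by
        rw [MonoidHom.map_closure, Set.image_pair]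
      rw [← e]
      set C := Subgroup.closure ({a, b} : Set K)
      refine ⟨fun hs => ?_, fun hs => ?_⟩
      · haveI := hs
        exact Group.isSolvable_of_surjective (MonoidHom.subgroupMap_surjective (QuotientGroup.mk' N) C)
      · haveI := hs
        haveI := hN
        haveI : Group.IsSolvable (N.subgroupOf C) :=
          Group.isSolvable_of_isSolvable_injective (f := ((C.subtype.comp (N.subgroupOf C).subtype).codRestrict N
            fun v => v.2)) fun u v huv => Subtype.ext (Subtype.ext (congrArg (Subtype.val : N → K) huv))
        refine Group.isSolvable_of_ker_le_range (N.subgroupOf C).subtype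
          ((QuotientGroup.mk' N).subgroupMap C) ?_
        intro v hv
        rw [Subgroup.range_subtype, Subgroup.mem_subgroupOf, ← QuotientGroup.eq_one_iff]
        exact congrArg Subtype.val hv
    refine ⟨L.map (QuotientGroup.mk' N), Set.ext fun y => ?_⟩
    obtain ⟨b, rfl⟩ := QuotientGroup.mk'_surjective N y
    constructor
    · rintro ⟨c, hc, he⟩
      show Group.IsSolvable _
      rw [← he]
      exact (key c).1 (hL.le hc)
    · intro hb
      exact ⟨b, hL.ge ((key b).2 hb), rfl⟩
  · intro K _ _ hK hna hsol hall
    exact TwoGen.false_of_solubilizers hK hna hsol hall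

end Cfsg.Agent.S4078
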