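import Cfsg.Statements.S4079
import Cfsg.Agent.EqLemmas
import Cfsg.Agent.Lib.MetaAutOrd.Omega
import Cfsg.Agent.Lib.PearlRank.Basic

set_option autoImplicit false
open Cfsg

namespace Cfsg.Agent.S4079

open scoped commutatorElement

variable {L : Type*} [Group L] [Finite L] {p : ℕ} [Fact p.Prime]

theorem forward (hp : p ≠ 2) (hL : IsPGroup p L) (hmc : Cfsg.IsMetacyclic L)
    (hnc : ∀ C : Subgroup L, IsCyclic C → C.index ≠ p) (a : MulAut L) (ha : orderOf a = p) (m : ℕ)
    (hm : Nat.card L = p ^ m) (hmove : ∃ x : L, orderOf x = p ∧ a x ≠ x) :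
    p = 3 ∧ Group.nilpotencyClass (SemidirectProduct L ↥(Subgroup.zpowers a) (Subgroup.zpowers a).subtype) = m := by
  have hap : a ^ p = 1 := by rw [← ha]; exact pow_orderOf_eq_one a
  obtain ⟨h3, hfix⟩ := MetaAutOrd.fixedPoints_of_moves hp hL hmc hnc a hap hmove
  refine ⟨h3, ?_⟩
  let B := Subgroup.zpowers a
  haveI : Finite B := Nat.finite_of_card_ne_zero (by
    rw [Nat.card_zpowers, ha]; exact (Fact.out : p.Prime).ne_zero)
  have hB : Nat.card B = p := by rw [Nat.card_zpowers, ha]
  let s : SemidirectProduct L ↥B B.subtype := SemidirectProduct.inr ⟨a, Subgroup.mem_zpowers a⟩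
  have hX : Nat.card (SemidirectProduct L ↥B B.subtype) = p ^ (m + 1) := by
    rw [SemidirectProduct.card, hm, hB, pow_succ]
  have hbc : ∀ b : B, (⟨a, Subgroup.mem_zpowers a⟩ : B) * b = b * ⟨a, Subgroup.mem_zpowers a⟩ := fun b => by
    obtain ⟨k, hk⟩ := Subgroup.mem_zpowers_iff.mp b.2
    refine Subtype.ext ?_
    show a * (b : MulAut L) = (b : MulAut L) * a
    rw [← hk]
    exact (Commute.refl a).zpow_right k
  have hmem : ∀ g, g ∈ Subgroup.centralizer ({s} : Set (SemidirectProduct L ↥B B.subtype)) ↔ a g.left = g.left := by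
    intro g
    rw [Subgroup.mem_centralizer_singleton_iff, SemidirectProduct.ext_iff]
    simp only [s, SemidirectProduct.mul_left, SemidirectProduct.mul_right, SemidirectProduct.left_inr,
      SemidirectProduct.right_inr, map_one, mul_one, one_mul, Subgroup.coe_subtype]
    constructor
    · exact fun h => h.1.symm
    · exact fun h => ⟨h.symm, (hbc _).symm⟩
  have hcent : Nat.card (Subgroup.centralizer ({s} : Set (SemidirectProduct L ↥B B.subtype))) = p ^ 2 := by
    rw [sq, ← congrArg₂ (· * ·) hfix hB, ← Nat.card_prod]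
    exact Nat.card_congr
      { toFun := fun g => (⟨g.1.left, (hmem _).mp g.2⟩, g.1.right)
        invFun := fun x => ⟨⟨x.1, x.2⟩, (hmem _).mpr x.1.2⟩
        left_inv := fun _ => rfl
        right_inv := fun _ => rfl }
  haveI : Finite (SemidirectProduct L ↥B B.subtype) := Finite.of_equiv _ SemidirectProduct.equivProd.symm
  have h := PearlRank.maximal_of_cent hX hcent
  rw [Nat.add_sub_cancel] at h
  exact h

theorem backward (hL : IsPGroup p L) (hmc : Cfsg.IsMetacyclic L)
    (hnc : ∀ C : Subgroup L, IsCyclic C → C.index ≠ p) (hp : p ≠ 2) (a : MulAut L) (ha : orderOf a = p) (m : ℕ)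
    (hm : Nat.card L = p ^ m)
    (hcl : Group.nilpotencyClass (SemidirectProduct L ↥(Subgroup.zpowers a) (Subgroup.zpowers a).subtype) = m) :
    ∃ x : L, orderOf x = p ∧ a x ≠ x := by
  classical
  have hpp : p.Prime := Fact.out
  haveI : Nontrivial L := by
    rcases subsingleton_or_nontrivial L with h | h
    · have h1 : a = 1 := MulEquiv.ext fun x => Subsingleton.elim _ _
      rw [h1, orderOf_one] at ha
      exact absurd ha.symm hpp.one_lt.ne'
    · exact h
  obtain ⟨E, W, -, hEc, hE, hEcard, -, hWcard, -, -, -⟩ := MetaAutOrd.omega_two hp hL hmc hnc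
  have hm4 : 4 ≤ m := (Nat.pow_dvd_pow_iff_le_right hpp.one_lt).mp
    (hWcard ▸ hm ▸ Subgroup.card_subgroup_dvd_card W)
  by_contra hmove
  push Not at hmove
  have hfixE : ∀ x ∈ E, a x = x := by
    intro x hx
    rcases eq_or_ne x 1 with rfl | hx1
    · exact map_one a
    · exact hmove x (orderOf_eq_prime ((hE x).mp hx) hx1)
  let B := Subgroup.zpowers a
  haveI : Finite B := Nat.finite_of_card_ne_zero (by rw [Nat.card_zpowers, ha]; exact hpp.ne_zero)
  haveI : Finite (SemidirectProduct L ↥B B.subtype) := Finite.of_equiv _ SemidirectProduct.equivProd.symm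
  have hX : Nat.card (SemidirectProduct L ↥B B.subtype) = p ^ (m + 1) := by
    rw [SemidirectProduct.card, hm, Nat.card_zpowers, ha, pow_succ]
  have hcl' : Group.nilpotencyClass (SemidirectProduct L ↥B B.subtype) = m + 1 - 1 := by
    rw [Nat.add_sub_cancel]; exact hcl
  let ι : L →* SemidirectProduct L ↥B B.subtype := SemidirectProduct.inl
  have hι : Function.Injective ι := SemidirectProduct.inl_injective
  let ls : ℕ → Subgroup (SemidirectProduct L ↥B B.subtype) := fun i =>
    (⊤ : Subgroup (SemidirectProduct L ↥B B.subtype)).lowerCentralSeries i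
  have key : ∀ (N : Subgroup L) (k : ℕ), (N.map ι).Normal → Nat.card N = p ^ k → k + 2 ≤ m + 1 →
      N.map ι = ls (m - k) := by
    intro N k hN hk hk2
    haveI := hN
    have hidx : (N.map ι).index = p ^ (m + 1 - k) := by
      have h := (N.map ι).card_mul_index
      rw [Subgroup.card_map_of_injective hι, hk, hX,
        show p ^ (m + 1) = p ^ k * p ^ (m + 1 - k) by rw [← pow_add]; congr 1; omega] at h
      exact Nat.eq_of_mul_eq_mul_left (pow_pos hpp.pos k) h
    have h := PGroup.normal_eq_lcs (p := p) (n := m + 1) (by omega) hX hcl' (N := N.map ι)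
      (r := m + 1 - k) (by omega) hidx
    rwa [show m + 1 - k - 1 = m - k by omega] at h
  haveI hnι : ι.range.Normal := by
    rw [SemidirectProduct.range_inl_eq_ker_rightHom]; infer_instance
  -- `E`, the derived subgroup and the `p`-th powers are normal in the semidirect product
  have hEn : (E.map ι).Normal := ⟨by
    rintro _ ⟨n, hn, rfl⟩ g
    obtain ⟨n', hn'⟩ := hnι.conj_mem (ι n) ⟨n, rfl⟩ g
    refine ⟨n', (hE n').mpr (hι ?_), hn'⟩
    rw [map_pow, hn', conj_pow, ← map_pow, (hE n).mp hn, map_one, mul_one, mul_inv_cancel]⟩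
  have hE' : E.map ι = ls (m - 2) := key E 2 hEn hEcard (by omega)
  have hDn : ((commutator L).map ι).Normal := by
    rw [commutator_def, Subgroup.map_commutator, ← MonoidHom.range_eq_map]
    infer_instance
  obtain ⟨N, hN, hNc, hQc⟩ := hmc
  haveI := hN
  haveI := hNc
  haveI := hQc
  have hDN : commutator L ≤ N := by
    rw [commutator_def, Subgroup.commutator_le]
    intro x _ y _
    rw [← QuotientGroup.eq_one_iff]
    show QuotientGroup.mk' N ⁅x, y⁆ = 1
    rw [map_commutatorElement, commutatorElement_eq_one_iff_mul_comm]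
    exact IsCyclic.commGroup.mul_comm _ _
  haveI : IsCyclic (commutator L) :=
    isCyclic_of_injective (Subgroup.inclusion hDN) (Subgroup.inclusion_injective hDN)
  obtain ⟨j, hj⟩ := IsPGroup.iff_card.mp (hL.to_subgroup (commutator L))
  have hjm : j + 1 ≤ m := by
    haveI := hL.isNilpotent
    haveI : Group.IsSolvable L := inferInstance
    have hlt : commutator L < ⊤ := IsSolvable.commutator_lt_top_of_nontrivial L
    have h := PGroup.mul_card_le_of_lt hL hlt
    rw [Subgroup.card_top, hj, hm, ← pow_succ'] at h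
    exact (Nat.pow_le_pow_iff_right hpp.one_lt).mp h
  have hj1 : j ≤ 1 := by
    by_contra hj2
    have hD := key (commutator L) j hDn hj (by omega)
    have hle : E ≤ commutator L := by
      rw [← Subgroup.map_le_map_iff_of_injective hι, hE', hD]
      exact Subgroup.lowerCentralSeries_antitone _ (by omega)
    haveI : IsCyclic E := isCyclic_of_injective (Subgroup.inclusion hle) (Subgroup.inclusion_injective hle)
    obtain ⟨⟨e, he⟩, hgen⟩ := IsCyclic.exists_ofOrder_eq_natCard (α := E)
    have hdvd : orderOf (⟨e, he⟩ : E) ∣ p := orderOf_dvd_of_pow_eq_one (Subtype.ext ((hE e).mp he))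
    have hdvd2 : p ^ 2 ∣ p ^ 1 := by rw [← hEcard, ← hgen, pow_one]; exact hdvd
    exact absurd ((Nat.pow_dvd_pow_iff_le_right hpp.one_lt).mp hdvd2) (by omega)
  have hcp : ∀ x y : L, ⁅x, y⁆ ^ p = 1 := fun x y => by
    have hmem : ⁅x, y⁆ ∈ commutator L :=
      Subgroup.commutator_mem_commutator (Subgroup.mem_top x) (Subgroup.mem_top y)
    refine orderOf_dvd_iff_pow_eq_one.mp ?_
    rw [← Subgroup.orderOf_mk _ hmem]
    exact (orderOf_dvd_natCard _).trans (hj ▸ (Nat.pow_dvd_pow p hj1).trans (pow_one p).dvd)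
  have hcz : ∀ x y : L, ⁅x, y⁆ ∈ Subgroup.center L := by
    intro x y
    have hmem : ⁅x, y⁆ ∈ commutator L :=
      Subgroup.commutator_mem_commutator (Subgroup.mem_top x) (Subgroup.mem_top y)
    by_cases hbot : commutator L = ⊥
    · rw [hbot, Subgroup.mem_bot] at hmem
      rw [hmem]; exact one_mem _
    have hlt := PGroup.commutator_lt_of_ne_bot hL hbot
    have hc0 : ⁅commutator L, (⊤ : Subgroup L)⁆ = ⊥ := by
      refine Subgroup.eq_bot_of_card_le _ ?_
      have h := PGroup.mul_card_le_of_lt hL hlt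
      rw [hj] at h
      have h2 : p ^ j ≤ p := (Nat.pow_le_pow_right hpp.pos hj1).trans (pow_one p).le
      by_contra h3
      have : p * 2 ≤ p := ((Nat.mul_le_mul_left p (not_le.mp h3)).trans h).trans h2
      have := hpp.pos
      omega
    exact (Subgroup.commutator_top_right_eq_bot_iff_le_center.mp hc0) hmem
  have hpz : ∀ y : L, y ^ p ∈ Subgroup.center L := fun y => Subgroup.mem_center_iff.mpr fun g => by
    have h1 := PGroup.classTwo_pow_commutator hcz y g p
    rw [hcp] at h1
    exact (commutatorElement_eq_one_iff_mul_comm.mp h1.symm).symm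
  let π : L →* L :=
    { toFun := fun l => l ^ p
      map_one' := one_pow p
      map_mul' := fun x y => PGroup.mul_pow_classTwo hpp hp hcz (hpz y) }
  have hker : π.ker = E := Subgroup.ext fun x => ((hE x).symm : π x = 1 ↔ x ∈ E)
  have hPcard : Nat.card π.range = p ^ (m - 2) := by
    have h := π.ker.card_mul_index
    rw [Subgroup.index_ker, hker, hEcard, hm,
      show p ^ m = p ^ 2 * p ^ (m - 2) by rw [← pow_add]; congr 1; omega] at h
    exact Nat.eq_of_mul_eq_mul_left (pow_pos hpp.pos 2) h
  have hPn : (π.range.map ι).Normal := ⟨by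
    rintro _ ⟨_, ⟨r, rfl⟩, rfl⟩ g
    obtain ⟨r', hr'⟩ := hnι.conj_mem (ι r) ⟨r, rfl⟩ g
    refine ⟨π r', ⟨r', rfl⟩, ?_⟩
    show ι (r' ^ p) = g * ι (r ^ p) * g⁻¹
    rw [map_pow, hr', conj_pow, map_pow]⟩
  have hP := key π.range (m - 2) hPn hPcard (by omega)
  have hEP : E ≤ π.range := by
    rw [← Subgroup.map_le_map_iff_of_injective hι, hE', hP]
    exact Subgroup.lowerCentralSeries_antitone _ (by omega)
  have hEz : ∀ e ∈ E, e ∈ Subgroup.center L := fun e he => by
    obtain ⟨y, rfl⟩ := hEP he
    exact hpz y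
  have hcentral : E.map ι ≤ Subgroup.center (SemidirectProduct L ↥B B.subtype) := by
    rintro _ ⟨e, he, rfl⟩
    rw [Subgroup.mem_center_iff]
    intro g
    have hb : (g.right : MulAut L) e = e := by
      have hst : B ≤ MulAction.stabilizer (MulAut L) e := Subgroup.zpowers_le.mpr (hfixE e he)
      exact hst g.right.2
    refine SemidirectProduct.ext ?_ ?_
    · simp only [ι, SemidirectProduct.mul_left, SemidirectProduct.left_inl, SemidirectProduct.right_inl,
        map_one, MulAut.one_apply, Subgroup.coe_subtype, hb]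
      exact Subgroup.mem_center_iff.mp (hEz e he) g.left
    · simp [ι]
  rw [hE'] at hcentral
  have h0 := Subgroup.commutator_top_right_eq_bot_iff_le_center.mpr hcentral
  have hcardlast : Nat.card (ls (m - 1)) = p := by
    have := PGroup.card_lcs_of_maximal_class (p := p) (n := m + 1) (by omega) hX hcl' (i := m - 1)
      (by omega) (by omega)
    rw [show m + 1 - 1 - (m - 1) = 1 by omega, pow_one] at this
    exact this
  have hbot : ls (m - 1) = ⊥ := by
    rw [show m - 1 = (m - 2) + 1 by omega]
    show (⊤ : Subgroup (SemidirectProduct L ↥B B.subtype)).lowerCentralSeries ((m - 2) + 1) = ⊥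
    rw [Subgroup.lowerCentralSeries_succ]
    exact h0
  rw [hbot, Subgroup.card_bot] at hcardlast
  exact hpp.one_lt.ne hcardlast

end Cfsg.Agent.S4079

namespace Cfsg.Agent.S4079

/-- Let p be an odd prime and L a finite metacyclic p-group with no cyclic subgroup of index p, and let a be an automorphism of L of order p. Then a moves some element of order p of L if and only if p = 3 and the semidirect product L ⋊ ⟨a⟩ (of order 3·#L) has maximal class, i.e. nilpotency class m where #L = 3^m. -/
theorem result {L : Type*} [Group L] [Finite L] {p : ℕ} [Fact p.Prime]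
    (hp : p ≠ 2) (hL : IsPGroup p L) (hmc : Cfsg.IsMetacyclic L) (hnc : ∀ C : Subgroup L, IsCyclic C → C.index ≠ p)
    (a : MulAut L) (ha : orderOf a = p) (m : ℕ) (hm : Nat.card L = p ^ m) :
    (∃ x : L, orderOf x = p ∧ a x ≠ x) ↔
    (p = 3 ∧ Group.nilpotencyClass (SemidirectProduct L ↥(Subgroup.zpowers a) (Subgroup.zpowers a).subtype) = m) := by
  exact ⟨forward hp hL hmc hnc a ha m hm, fun h => backward hL hmc hnc hp a ha m hm h.2⟩

end Cfsg.Agent.S4079
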