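import Cfsg.Statements.S4080
import Cfsg.Agent.EqLemmas

set_option autoImplicit false
open Cfsg

namespace Cfsg.Agent.S4080

section

variable {p : ℕ} [hp : Fact p.Prime]

theorem exists_eq_mul (z : ZMod (p ^ 2)) (hz : (p : ZMod (p ^ 2)) * z = 0) : ∃ u : ZMod (p ^ 2), z = (p : ZMod (p ^ 2)) * u := by
  haveI : NeZero (p ^ 2) := ⟨pow_ne_zero 2 hp.out.ne_zero⟩
  have h1 : p ^ 2 ∣ p * z.val := (ZMod.natCast_eq_zero_iff _ _).1 (by push_cast; rwa [ZMod.natCast_zmod_val])
  obtain ⟨k, hk⟩ := Nat.dvd_of_mul_dvd_mul_left hp.out.pos (dvd_trans (dvd_of_eq (pow_two p).symm) h1)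
  exact ⟨(k : ZMod (p ^ 2)), by rw [← ZMod.natCast_zmod_val z, hk]; push_cast; rfl⟩

theorem nsmul_eq_nsmul_mod (z : ZMod (p ^ 2)) :
    (p : ZMod (p ^ 2)) * z = (p : ZMod (p ^ 2)) * ((z.val % p : ℕ) : ZMod (p ^ 2)) := by
  haveI : NeZero (p ^ 2) := ⟨pow_ne_zero 2 hp.out.ne_zero⟩
  have h : (p : ZMod (p ^ 2)) ^ 2 = 0 := by rw [← Nat.cast_pow, ZMod.natCast_self]
  conv_lhs => rw [← ZMod.natCast_zmod_val z, ← Nat.mod_add_div z.val p, Nat.cast_add, Nat.cast_mul, mul_add, ← mul_assoc,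
    ← pow_two, h, zero_mul, add_zero]

abbrev V (p : ℕ) := ZMod (p ^ 2) × ZMod (p ^ 2)

theorem key (hp3 : 3 < p) (A : AddMonoid.End (V p)) (hA : A ^ p = 1) :
    (p : AddMonoid.End (V p)) * (A - 1) = 0 := by
  classical
  haveI : NeZero (p ^ 2) := ⟨pow_ne_zero 2 hp.out.ne_zero⟩
  set N := A - 1 with hN
  have hNA : A = N + 1 := by rw [hN, sub_add_cancel]
  have hbin : ∑ m ∈ Finset.range (p + 1), N ^ m * (p.choose m : AddMonoid.End (V p)) = 1 := by
    rw [← hA, hNA, Commute.add_pow (Commute.one_right N)]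
    exact Finset.sum_congr rfl fun m _ => by rw [one_pow, mul_one]
  have hpp : (p : AddMonoid.End (V p)) * (p : AddMonoid.End (V p)) = 0 := by
    rw [← Nat.cast_mul, ← pow_two]
    refine AddMonoidHom.ext fun v => ?_
    show ((p ^ 2 : ℕ) : AddMonoid.End (V p)) v = 0
    rw [AddMonoid.End.natCast_apply]
    have h : (p : ZMod (p ^ 2)) ^ 2 = 0 := by rw [← Nat.cast_pow, ZMod.natCast_self]
    exact Prod.ext (by simp [nsmul_eq_mul, h]) (by simp [nsmul_eq_mul, h])
  have hchoose : ∀ m, m ≠ 0 → m < p → ∃ c : ℕ, p.choose m = p * c := fun m h0 h1 =>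
    hp.out.dvd_choose_self h0 h1
  -- modulo `p` the binomial collapses
  have hNp : (p : AddMonoid.End (V p)) * N ^ p = 0 := by
    have h := congrArg (fun e => (p : AddMonoid.End (V p)) * e) hbin
    replace h : (p : AddMonoid.End (V p)) * (∑ m ∈ Finset.range (p + 1), N ^ m * (p.choose m : AddMonoid.End (V p))) = (p : AddMonoid.End (V p)) * 1 := h
    rw [Finset.sum_range_succ, mul_add, Nat.choose_self, Nat.cast_one, mul_one, mul_one, Finset.mul_sum,
      Finset.sum_eq_single 0 ?_ ?_] at h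
    · rw [pow_zero, Nat.choose_zero_right, Nat.cast_one, one_mul, mul_one, add_eq_left] at h
      exact h
    · intro m hm hm0
      obtain ⟨c, hc⟩ := hchoose m hm0 (Finset.mem_range.1 hm)
      rw [hc, Nat.cast_mul, ← mul_assoc, ← mul_assoc, mul_assoc (p : AddMonoid.End (V p)) (N ^ m),
        ← (Nat.cast_commute p (N ^ m)).eq, ← mul_assoc, hpp, zero_mul, zero_mul]
    · intro h0
      exact absurd (Finset.mem_range.2 hp.out.pos) h0
  -- so `N` is square zero modulo `p`
  let I : ℕ → AddSubgroup (V p) := fun k => AddMonoidHom.range ((p : AddMonoid.End (V p)) * N ^ k : AddMonoid.End (V p))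
  have hsucc : ∀ k, I (k + 1) = (I k).map (N : V p →+ V p) := by
    intro k
    ext v
    constructor
    · rintro ⟨w, rfl⟩
      refine ⟨((p : AddMonoid.End (V p)) * N ^ k) w, ⟨w, rfl⟩, ?_⟩
      show (N * ((p : AddMonoid.End (V p)) * N ^ k)) w = _
      rw [← mul_assoc, ← (Nat.cast_commute p N).eq, mul_assoc, ← pow_succ' N k]
      rfl
    · rintro ⟨_, ⟨w, rfl⟩, rfl⟩
      refine ⟨w, ?_⟩
      show _ = (N * ((p : AddMonoid.End (V p)) * N ^ k)) w
      rw [← mul_assoc, ← (Nat.cast_commute p N).eq, mul_assoc, ← pow_succ' N k]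
      rfl
  have hle : ∀ k, I (k + 1) ≤ I k := by
    rintro k _ ⟨w, rfl⟩
    exact ⟨N w, by show _ = ((p : AddMonoid.End (V p)) * N ^ (k + 1)) w; rw [pow_succ N k, ← mul_assoc]; rfl⟩
  have hzero : ∀ k, p ≤ k → I k = ⊥ := by
    intro k hk
    obtain ⟨j, rfl⟩ := Nat.le.dest hk
    refine (AddSubgroup.eq_bot_iff_forall _).2 ?_
    rintro _ ⟨w, rfl⟩
    rw [pow_add, ← mul_assoc, hNp, zero_mul]
    rfl
  have hdrop : ∀ k, I (k + 1) = I k → I k = ⊥ := by
    intro k hk
    have : ∀ j, I (k + j) = I k := by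
      intro j
      induction j with
      | zero => rfl
      | succ j ih => rw [← Nat.add_assoc, hsucc, ih, ← hsucc, hk]
    rw [← this p]
    exact hzero _ (Nat.le_add_left p k)
  have hI0 : Nat.card (I 0) ≤ p ^ 2 := by
    let e : Fin p × Fin p → I 0 := fun ij => ⟨_, (((ij.1 : ℕ) : ZMod (p ^ 2)), ((ij.2 : ℕ) : ZMod (p ^ 2))), rfl⟩
    have he : Function.Surjective e := by
      rintro ⟨_, v, rfl⟩
      refine ⟨(⟨v.1.val % p, Nat.mod_lt _ hp.out.pos⟩, ⟨v.2.val % p, Nat.mod_lt _ hp.out.pos⟩), Subtype.ext ?_⟩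
      show ((p : AddMonoid.End (V p)) * N ^ 0) _ = ((p : AddMonoid.End (V p)) * N ^ 0) v
      rw [pow_zero, mul_one, AddMonoid.End.natCast_apply, AddMonoid.End.natCast_apply]
      refine Prod.ext ?_ ?_
      · simp only [Prod.smul_fst, nsmul_eq_mul]
        exact (nsmul_eq_nsmul_mod v.1).symm
      · simp only [Prod.smul_snd, nsmul_eq_mul]
        exact (nsmul_eq_nsmul_mod v.2).symm
    have := Nat.card_le_card_of_surjective e he
    simpa [pow_two] using this
  have hpow : ∀ k, ∃ i, Nat.card (I k) = p ^ i := by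
    intro k
    have h1 : Nat.card (I k) ∣ p ^ 4 := (AddSubgroup.card_addSubgroup_dvd_card (I k)).trans (dvd_of_eq (by
      rw [Nat.card_prod, Nat.card_zmod, ← pow_add]))
    obtain ⟨i, -, hi⟩ := (Nat.dvd_prime_pow hp.out).1 h1
    exact ⟨i, hi⟩
  have hstrict : ∀ k, I k ≠ ⊥ → Nat.card (I (k + 1)) < Nat.card (I k) := fun k hk =>
    lt_of_le_of_ne (Nat.card_mono (Set.toFinite _) (hle k)) fun e => hk (hdrop k
      (SetLike.coe_injective (Set.eq_of_subset_of_ncard_le (hle k) (by rw [← Nat.card_coe_set_eq, ← Nat.card_coe_set_eq]; exact e.ge) (Set.toFinite _))))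
  have hI2 : I 2 = ⊥ := by
    by_contra h2
    have h1 : I 1 ≠ ⊥ := fun e => h2 (le_bot_iff.1 ((hle 1).trans e.le))
    have h0 : I 0 ≠ ⊥ := fun e => h1 (le_bot_iff.1 ((hle 0).trans e.le))
    obtain ⟨i, hi⟩ := hpow 0
    obtain ⟨j, hj⟩ := hpow 1
    obtain ⟨l, hl⟩ := hpow 2
    have a1 := hstrict 0 h0
    have a2 := hstrict 1 h1
    simp only [zero_add, Nat.reduceAdd] at a1 a2
    rw [hi, hj, Nat.pow_lt_pow_iff_right hp.out.one_lt] at a1
    rw [hj, hl, Nat.pow_lt_pow_iff_right hp.out.one_lt] at a2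
    rw [hi, Nat.pow_le_pow_iff_right hp.out.one_lt] at hI0
    exact h2 (AddSubgroup.eq_bot_of_card_eq _ (by rw [hl, show l = 0 by omega, pow_zero]))
  have hpN2 : (p : AddMonoid.End (V p)) * N ^ 2 = 0 := AddMonoidHom.ext fun v =>
    (AddSubgroup.eq_bot_iff_forall _).1 hI2 _ ⟨v, rfl⟩
  have hN4 : N ^ 4 = 0 := by
    refine AddMonoidHom.ext fun v => ?_
    have h1 : ((p : AddMonoid.End (V p)) * N ^ 2) v = 0 := by rw [hpN2]; rfl
    have h1' : p • (N ^ 2 : AddMonoid.End (V p)) v = 0 := by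
      rw [← AddMonoid.End.natCast_apply]; exact h1
    obtain ⟨u1, hu1⟩ := exists_eq_mul ((N ^ 2) v).1 (by simpa [nsmul_eq_mul] using congrArg Prod.fst h1')
    obtain ⟨u2, hu2⟩ := exists_eq_mul ((N ^ 2) v).2 (by simpa [nsmul_eq_mul] using congrArg Prod.snd h1')
    have h2 : (N ^ 2) v = p • ((u1, u2) : V p) := Prod.ext
      (by rw [Prod.smul_fst, nsmul_eq_mul]; exact hu1) (by rw [Prod.smul_snd, nsmul_eq_mul]; exact hu2)
    show (N ^ (2 + 2)) v = 0
    rw [pow_add]
    show (N ^ 2) ((N ^ 2) v) = 0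
    rw [h2, map_nsmul, ← AddMonoid.End.natCast_apply]
    show ((p : AddMonoid.End (V p)) * N ^ 2) (u1, u2) = 0
    rw [hpN2]; rfl
  rw [Finset.sum_eq_sum_sdiff_singleton_add (Finset.mem_range.2 (Nat.succ_pos p)) ] at hbin
  rw [Finset.sum_eq_single 1 ?_ ?_, pow_one, Nat.choose_one_right, pow_zero, Nat.choose_zero_right, Nat.cast_one,
    one_mul, add_eq_right, ← (Nat.cast_commute p N).eq] at hbin
  · exact hbin
  · intro m hm hm1
    simp only [Finset.mem_sdiff, Finset.mem_range, Finset.mem_singleton] at hm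
    rcases Nat.lt_or_ge m p with hmp | hmp
    · obtain ⟨c, hc⟩ := hchoose m hm.2 hmp
      obtain ⟨j, rfl⟩ := Nat.le.dest (show 2 ≤ m by omega)
      rw [hc, Nat.cast_mul, ← mul_assoc, ← (Nat.cast_commute p (N ^ (2 + j))).eq, pow_add, ← mul_assoc _ (N ^ 2),
        hpN2, zero_mul, zero_mul]
    · obtain rfl : m = p := by omega
      obtain ⟨j, rfl⟩ := Nat.le.dest (show 4 ≤ m by omega)
      rw [pow_add, hN4, zero_mul, zero_mul]
  · intro h
    exfalso
    apply h
    rw [Finset.mem_sdiff, Finset.mem_range, Finset.mem_singleton]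
    have := hp.out.pos
    omega

end

/-- Let p > 3 be a prime and L the direct product of two cyclic groups of order p². Every automorphism of L of order p fixes every element of order p of L. -/
theorem result {p : ℕ} [Fact p.Prime] (hp : 3 < p)
    (a : MulAut (Multiplicative (ZMod (p ^ 2) × ZMod (p ^ 2)))) (ha : orderOf a = p)
    (x : Multiplicative (ZMod (p ^ 2) × ZMod (p ^ 2))) (hx : orderOf x = p) : a x = x := by
  let A : AddMonoid.End (V p) := (MulEquiv.toAdditive a).toAddMonoidHom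
  have hAapp : ∀ (k : ℕ) (v : V p), (A ^ k) v = Multiplicative.toAdd ((a ^ k) (Multiplicative.ofAdd v)) := by
    intro k
    induction k with
    | zero => intro v; rfl
    | succ k ih =>
      intro v
      rw [pow_succ' A k, pow_succ' a k]
      show A ((A ^ k) v) = _
      rw [ih]
      rfl
  have hA : A ^ p = 1 := AddMonoidHom.ext fun v => by
    have e : a ^ p = 1 := orderOf_dvd_iff_pow_eq_one.1 ha.dvd
    exact (hAapp p v).trans (by rw [e]; rfl)
  obtain ⟨hx1, -⟩ := orderOf_eq_iff (Fact.out : p.Prime).pos |>.1 hx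
  obtain ⟨u1, hu1⟩ := exists_eq_mul (Multiplicative.toAdd x).1
    (by simpa [nsmul_eq_mul] using congrArg (fun y => (Multiplicative.toAdd y).1) hx1)
  obtain ⟨u2, hu2⟩ := exists_eq_mul (Multiplicative.toAdd x).2
    (by simpa [nsmul_eq_mul] using congrArg (fun y => (Multiplicative.toAdd y).2) hx1)
  have hxe : Multiplicative.toAdd x = p • ((u1, u2) : V p) := Prod.ext (by simp [hu1]) (by simp [hu2])
  have h := DFunLike.congr_fun (key hp A hA) (u1, u2)
  rw [mul_sub, mul_one] at h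
  replace h : p • A (u1, u2) - p • ((u1, u2) : V p) = 0 := by
    rw [← AddMonoid.End.natCast_apply, ← AddMonoid.End.natCast_apply]; exact h
  rw [sub_eq_zero, ← map_nsmul, ← hxe] at h
  exact congrArg Multiplicative.ofAdd h

end Cfsg.Agent.S4080
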