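import Cfsg.Statements.S4081
import Cfsg.Agent.EqLemmas
import Cfsg.Agent.Lib.Coprime.Generation
import Cfsg.Agent.Lib.CharApp.Burnside
import Cfsg.Agent.Lib.Frobenius.Basic
import Cfsg.Agent.Lib.Solvable.Basic

set_option autoImplicit false
open Cfsg
open scoped IsMulCommutative

namespace Cfsg.Agent.S4081


open Polynomial

section Algebra

variable {p q : ℕ} [hp : Fact p.Prime] [hq : Fact q.Prime]
variable {V : Type*} [AddCommGroup V] [Module (ZMod p) V] [Finite V]

theorem comp_dvd_comp {R : Type*} [CommRing R] {f g : R[X]} (h : f ∣ g) (r : R[X]) :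
    f.comp r ∣ g.comp r := by
  obtain ⟨c, rfl⟩ := h
  exact ⟨c.comp r, Polynomial.mul_comp f c r⟩

theorem aeval_comp_pow (T : Module.End (ZMod p) V) (g : (ZMod p)[X]) (k : ℕ) :
    aeval T (g.comp (X ^ k)) = aeval (T ^ k) g := by
  rw [aeval_comp, map_pow, aeval_X]

theorem pow_eq_of_mod (T : Module.End (ZMod p) V) (hT : T ^ q = 1) {a : ℕ} (ha : a % q = 1) : T ^ a = T := by
  rw [← Nat.div_add_mod a q, ha, pow_add, pow_mul, hT, one_pow, one_mul, pow_one]

theorem equivariant_aeval (T S : Module.End (ZMod p) V) (L : V →+ V) (hL : ∀ z, L (T z) = S (L z))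
    (h : (ZMod p)[X]) (z : V) : L (aeval T h z) = aeval S h (L z) := by
  induction h using Polynomial.induction_on' generalizing z with
  | add a b ha hb => simp [ha, hb]
  | monomial j c =>
    have hj : ∀ z, L ((T ^ j) z) = (S ^ j) (L z) := by
      induction j with
      | zero => simp
      | succ j ih => intro z; rw [pow_succ', pow_succ', Module.End.mul_apply, Module.End.mul_apply, hL, ih]
    simp only [aeval_monomial, Module.End.mul_apply, Module.algebraMap_end_apply]
    rw [ZMod.map_smul L, hj]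

/-- An order `q` fixed-point-free operator with a large semilinear normaliser forces `p` to be a primitive root. -/
theorem primitive_root_of_transitive [Nontrivial V] (T : Module.End (ZMod p) V) (hT : T ^ q = 1)
    (hfix : ∀ v, T v = v → v = 0)
    (h1 : ∀ v w : V, v ≠ 0 → w ≠ 0 → ∃ k : ℕ, ¬ q ∣ k ∧ ∃ L : V ≃+ V, L v = w ∧ ∀ z, L (T z) = (T ^ k) (L z))
    (h2 : ∀ k : ℕ, ¬ q ∣ k → ∃ L : V ≃+ V, ∀ z, L (T z) = (T ^ k) (L z)) :
    orderOf (p : ZMod q) = q - 1 := by
  classical
  haveI : Finite (Module.End (ZMod p) V) := Finite.of_injective _ DFunLike.coe_injective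
  -- the minimal polynomial and an irreducible factor with non-zero kernel
  have hqX : aeval T ((X : (ZMod p)[X]) ^ q - 1) = 0 := by simp [hT]
  have hint : IsIntegral (ZMod p) T := Algebra.IsIntegral.isIntegral T
  obtain ⟨g, hg, u, hgu⟩ := WfDvdMonoid.exists_irreducible_factor
    (minpoly.not_isUnit (ZMod p) T) (minpoly.ne_zero hint)
  have hu : aeval T u ≠ 0 := by
    intro h
    have hd := minpoly.dvd (ZMod p) T h
    rw [hgu] at hd
    obtain ⟨c, hc⟩ := hd
    have hune : u ≠ 0 := fun e => minpoly.ne_zero hint (by rw [hgu, e, mul_zero])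
    refine hg.not_isUnit (IsUnit.of_mul_eq_one (b := c) ?_)
    apply mul_right_cancel₀ hune
    rw [one_mul]
    conv_rhs => rw [hc]
    ring
  obtain ⟨z, hz⟩ : ∃ z, aeval T u z ≠ 0 := by
    by_contra h; push Not at h; exact hu (LinearMap.ext fun z => by rw [h]; rfl)
  set v := aeval T u z with hv
  have hgv : aeval T g v = 0 := by
    rw [hv, ← Module.End.mul_apply, ← map_mul, ← hgu, minpoly.aeval]; rfl
  have kill : ∀ {w : V}, aeval T g w = 0 → w ≠ 0 → ∀ h : (ZMod p)[X], aeval T h w = 0 → g ∣ h := by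
    intro w hw hw0 h hh
    by_contra hd
    obtain ⟨a, b, hab⟩ := (hg.coprime_iff_not_dvd).2 hd
    apply hw0
    calc w = aeval T (a * g + b * h) w := by rw [hab, map_one]; rfl
      _ = 0 := by rw [map_add, map_mul, map_mul, LinearMap.add_apply, Module.End.mul_apply, Module.End.mul_apply, hw, hh, map_zero, map_zero, add_zero]
  -- moving along one exponent
  have step : ∀ k : ℕ, ¬ q ∣ k → g ∣ g.comp (X ^ k) → ∀ w, aeval (T ^ k) g w = 0 → aeval T g w = 0 := by
    intro k hk hd w hw
    have hit : ∀ i, g ∣ g.comp (X ^ k ^ i) := by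
      intro i
      induction i with
      | zero => simp
      | succ i ih =>
        refine ih.trans ?_
        have := comp_dvd_comp hd (X ^ k ^ i)
        rw [comp_assoc, pow_comp, X_comp, ← pow_mul] at this
        rwa [pow_succ]
    have h2q := hq.out.two_le
    obtain ⟨c, hc⟩ := comp_dvd_comp (hit (q - 2)) (X ^ k)
    have e : (g.comp (X ^ k ^ (q - 2))).comp (X ^ k) = g.comp (X ^ k ^ (q - 1)) := by
      rw [comp_assoc, pow_comp, X_comp, ← pow_mul, show q - 1 = q - 2 + 1 by omega, pow_succ']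
    rw [e] at hc
    have hmod : k ^ (q - 1) % q = 1 := by
      have h0 : ((k : ZMod q)) ≠ 0 := fun h => hk ((ZMod.natCast_eq_zero_iff k q).1 h) |>.elim
      have h1 := ZMod.pow_card_sub_one_eq_one h0
      rw [← Nat.cast_pow, ← @Nat.cast_one (ZMod q), ZMod.natCast_eq_natCast_iff', Nat.one_mod_eq_one.2 hq.out.ne_one] at h1
      exact h1
    have := aeval_comp_pow T g (k ^ (q - 1))
    rw [pow_eq_of_mod T hT hmod] at this
    rw [← this, hc, mul_comm, map_mul, Module.End.mul_apply, aeval_comp_pow, hw, map_zero]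
  have hv0 : v ≠ 0 := hz
  have hall : ∀ w, aeval T g w = 0 := by
    intro w
    by_contra hw
    have hw0 : w ≠ 0 := fun h => hw (by rw [h, map_zero])
    obtain ⟨k, hk, L, hLv, hL⟩ := h1 v w hv0 hw0
    have hkw : aeval (T ^ k) g w = 0 := by
      rw [← hLv, ← AddEquiv.coe_toAddMonoidHom, ← equivariant_aeval T (T ^ k) L.toAddMonoidHom hL, hgv]; simp
    have hvw : v + w ≠ 0 := fun h => hw (by rw [eq_neg_of_add_eq_zero_right h, map_neg, hgv, neg_zero])
    obtain ⟨k', hk', L', hLv', hL'⟩ := h1 v (v + w) hv0 hvw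
    have hk'w : aeval (T ^ k') g (v + w) = 0 := by
      rw [← hLv', ← AddEquiv.coe_toAddMonoidHom, ← equivariant_aeval T (T ^ k') L'.toAddMonoidHom hL', hgv]; simp
    have hprod : aeval T (g.comp (X ^ k) * g.comp (X ^ k')) v = 0 := by
      have h0 : aeval T (g.comp (X ^ k)) (aeval T (g.comp (X ^ k')) (v + w)) = 0 := by
        rw [aeval_comp_pow T g k', hk'w, map_zero]
      have hw2 : aeval T (g.comp (X ^ k)) (aeval T (g.comp (X ^ k')) w) = 0 := by
        rw [← Module.End.mul_apply, ← map_mul, mul_comm, map_mul, Module.End.mul_apply, aeval_comp_pow T g k, hkw, map_zero]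
      rw [map_add, map_add, hw2, add_zero] at h0
      rw [map_mul, Module.End.mul_apply, h0]
    rcases hg.prime.dvd_or_dvd (kill hgv hv0 _ hprod) with h | h
    · exact hw (step k hk h w hkw)
    · obtain ⟨c, hc⟩ := h
      have hv' : aeval (T ^ k') g v = 0 := by
        rw [← aeval_comp_pow, hc, mul_comm, map_mul, Module.End.mul_apply, hgv, map_zero]
      rw [map_add, hv', zero_add] at hk'w
      exact hw (step k' hk' ⟨c, hc⟩ w hk'w)
  have hroots : ∀ k : ℕ, ¬ q ∣ k → g ∣ g.comp (X ^ k) := by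
    intro k hk
    obtain ⟨L, hL⟩ := h2 k hk
    refine kill hgv hv0 _ ?_
    have := equivariant_aeval T (T ^ k) L.toAddMonoidHom hL g (L.symm v)
    rw [hall, map_zero] at this
    rw [aeval_comp_pow]
    simpa using this.symm
  -- work in the field defined by g
  haveI : Fact (Irreducible g) := ⟨hg⟩
  set ζ := AdjoinRoot.root g with hζ
  have hgq : g ∣ X ^ q - 1 := kill hgv hv0 _ (by rw [hqX]; rfl)
  have hζq : ζ ^ q = 1 := by
    have h := AdjoinRoot.mk_eq_zero.2 hgq
    rw [map_sub, map_pow, AdjoinRoot.mk_X, map_one, sub_eq_zero] at h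
    exact h
  have hζ1 : ζ ≠ 1 := by
    intro h
    have hd : g ∣ X - 1 := AdjoinRoot.mk_eq_zero.1 (by rw [map_sub, AdjoinRoot.mk_X, map_one]; exact sub_eq_zero.2 h)
    obtain ⟨c, hc⟩ := hd
    refine hv0 (hfix v ?_)
    have : aeval T (X - 1 : (ZMod p)[X]) v = 0 := by rw [hc, mul_comm, map_mul, Module.End.mul_apply, hgv, map_zero]
    simpa [sub_eq_zero] using this
  have hord : orderOf ζ = q := orderOf_eq_prime hζq hζ1
  have hdeg : q - 1 ≤ g.natDegree := by
    have hinj : Set.InjOn (fun k => ζ ^ k) (Finset.Icc 1 (q - 1) : Set ℕ) := by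
      intro a ha b hb hab
      simp only [Finset.coe_Icc, Set.mem_Icc] at ha hb
      have hu : IsUnit ζ := IsUnit.of_pow_eq_one hζq hq.out.ne_zero
      have h := (pow_inj_mod (x := hu.unit)).1 (Units.ext (by
        simp only [Units.val_pow_eq_pow_val, IsUnit.unit_spec]; exact hab))
      rw [← orderOf_units, IsUnit.unit_spec, hord, Nat.mod_eq_of_lt (by omega), Nat.mod_eq_of_lt (by omega)] at h
      exact h
    have hsub : (Finset.Icc 1 (q - 1)).image (fun k => ζ ^ k) ⊆
        ((g.map (AdjoinRoot.of g)).roots).toFinset := by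
      intro y hy
      obtain ⟨k, hk, rfl⟩ := Finset.mem_image.1 hy
      have hk' := Finset.mem_Icc.1 hk
      have hd := AdjoinRoot.mk_eq_zero.2 (hroots k (fun hd => by have := Nat.le_of_dvd (by omega) hd; omega))
      rw [Multiset.mem_toFinset, mem_roots (map_ne_zero hg.ne_zero), IsRoot.def, eval_map]
      rw [← AdjoinRoot.aeval_eq, aeval_comp, map_pow, aeval_X] at hd
      exact hd
    have := (Finset.card_le_card hsub).trans ((Multiset.toFinset_card_le _).trans (card_roots' _))
    rw [Finset.card_image_of_injOn hinj, Nat.card_Icc, natDegree_map] at this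
    omega
  have hp0 : ((p : ZMod q)) ≠ 0 := by
    intro h
    have hpq : q = p := (Nat.prime_dvd_prime_iff_eq hq.out hp.out).1 ((ZMod.natCast_eq_zero_iff p q).1 h)
    haveI : CharP (AdjoinRoot g) p := charP_of_injective_algebraMap (algebraMap (ZMod p) (AdjoinRoot g)).injective p
    refine hζ1 (sub_eq_zero.1 ((pow_eq_zero_iff hp.out.ne_zero).1 ?_))
    have hζp : ζ ^ p = 1 := (congrArg (fun m => ζ ^ m) hpq).symm.trans hζq
    rw [sub_pow_char, hζp, one_pow, sub_self]
  refine Nat.le_antisymm (Nat.le_of_dvd (by have := hq.out.two_le; omega)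
    (orderOf_dvd_of_pow_eq_one (ZMod.pow_card_sub_one_eq_one hp0))) ?_
  set j := orderOf (p : ZMod q) with hj
  have hjpos : 0 < j := orderOf_pos_iff.2 (isOfFinOrder_iff_pow_eq_one.2 ⟨q - 1, by have := hq.out.two_le; omega,
    ZMod.pow_card_sub_one_eq_one hp0⟩)
  refine hdeg.trans ?_
  haveI : CharP (AdjoinRoot g) p := charP_of_injective_algebraMap (algebraMap (ZMod p) (AdjoinRoot g)).injective p
  let pb := AdjoinRoot.powerBasis (f := g) hg.ne_zero
  haveI : Module.Finite (ZMod p) (AdjoinRoot g) := Module.Finite.of_basis pb.basis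
  haveI : Finite (AdjoinRoot g) := Module.finite_of_finite (ZMod p)
  have hcard : Nat.card (AdjoinRoot g) = p ^ g.natDegree := by
    rw [Module.natCard_eq_pow_finrank (K := ZMod p), Nat.card_zmod, pb.finrank, AdjoinRoot.powerBasis_dim]
  have hpj : p ^ j % q = 1 := by
    have := pow_orderOf_eq_one (p : ZMod q)
    rw [← hj, ← Nat.cast_pow, ← @Nat.cast_one (ZMod q), ZMod.natCast_eq_natCast_iff', Nat.one_mod_eq_one.2 hq.out.ne_one] at this
    exact this
  have hfixall : ∀ y : AdjoinRoot g, y ^ p ^ j = y := by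
    intro y
    induction y using AdjoinRoot.induction_on with
    | _ f =>
      induction f using Polynomial.induction_on' with
      | add a b ha hb => rw [map_add, add_pow_char_pow, ha, hb]
      | monomial i c =>
        rw [← C_mul_X_pow_eq_monomial, map_mul, map_pow, AdjoinRoot.mk_X, mul_pow, AdjoinRoot.mk_C, ← map_pow,
          ZMod.pow_card_pow, ← pow_mul, mul_comm i, pow_mul]
        congr 2
        rw [← Nat.div_add_mod (p ^ j) q, hpj, pow_add, pow_mul, hζq, one_pow, one_mul, pow_one]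
  have hle : Nat.card (AdjoinRoot g) ≤ p ^ j := by
    haveI := Fintype.ofFinite (AdjoinRoot g)
    have hne : (X ^ p ^ j - X : (AdjoinRoot g)[X]) ≠ 0 :=
      FiniteField.X_pow_card_pow_sub_X_ne_zero _ hjpos.ne' hp.out.one_lt
    have hsub : (Finset.univ : Finset (AdjoinRoot g)) ⊆ (X ^ p ^ j - X : (AdjoinRoot g)[X]).roots.toFinset := by
      intro y _
      rw [Multiset.mem_toFinset, mem_roots hne]
      simp [hfixall y]
    have := (Finset.card_le_card hsub).trans ((Multiset.toFinset_card_le _).trans (card_roots' _))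
    rw [FiniteField.X_pow_card_pow_sub_X_natDegree_eq _ hjpos.ne' hp.out.one_lt, Finset.card_univ, ← Nat.card_eq_fintype_card] at this
    exact this
  rw [hcard] at hle
  exact (Nat.pow_le_pow_iff_right hp.out.one_lt).1 hle

/-- When `p` is a primitive root mod `q`, the operator has a semilinear normaliser realising every exponent and transitive on non-zero vectors. -/
theorem exists_semilinear (T : Module.End (ZMod p) V) (hT : T ^ q = 1)
    (hfix : ∀ v, T v = v → v = 0) (hord : orderOf (p : ZMod q) = q - 1) :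
    (∀ v w : V, v ≠ 0 → w ≠ 0 → ∃ L : V ≃+ V, L v = w ∧ ∀ z, L (T z) = T (L z)) ∧
      ∀ k : ℕ, ¬ q ∣ k → ∃ L : V ≃+ V, ∀ z, L (T z) = (T ^ k) (L z) := by
  classical
  have h2q := hq.out.two_le
  have hp0 : ((p : ZMod q)) ≠ 0 := by
    intro h
    rw [h, orderOf_eq_zero_iff'.2 (fun n hn => by rw [zero_pow hn.ne']; exact zero_ne_one)] at hord
    omega
  have hpq : p ≠ q := fun h => hp0 (by rw [h]; exact ZMod.natCast_self q)
  set Φ : (ZMod p)[X] := cyclotomic q (ZMod p) with hΦ
  have hΦmul : Φ * (X - 1) = X ^ q - 1 := cyclotomic_prime_mul_X_sub_one (ZMod p) q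
  have hΦdeg : Φ.natDegree = q - 1 := by rw [natDegree_cyclotomic, Nat.totient_prime hq.out]
  have hΦ0 : Φ ≠ 0 := cyclotomic_ne_zero q _
  have hirr : Irreducible Φ := by
    obtain ⟨g, hg, hgd⟩ := WfDvdMonoid.exists_irreducible_factor
      (fun h => by have := natDegree_eq_zero_of_isUnit h; omega) hΦ0
    refine (associated_of_dvd_of_natDegree_le hgd hΦ0 ?_).irreducible hg
    haveI : Fact (Irreducible g) := ⟨hg⟩
    set ζ := AdjoinRoot.root g with hζ
    have hζq : ζ ^ q = 1 := by
      have h := AdjoinRoot.mk_eq_zero.2 (hgd.trans (Dvd.intro _ hΦmul))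
      rw [map_sub, map_pow, AdjoinRoot.mk_X, map_one, sub_eq_zero] at h
      exact h
    have hζ1 : ζ ≠ 1 := by
      intro h
      have hd := AdjoinRoot.mk_eq_zero.2 hgd
      have he : Φ.eval 1 = (q : ZMod p) := eval_one_cyclotomic_prime
      rw [← AdjoinRoot.aeval_eq, ← hζ, h, aeval_def, eval₂_at_one, he, map_natCast] at hd
      haveI : CharP (AdjoinRoot g) p := charP_of_injective_algebraMap (algebraMap (ZMod p) (AdjoinRoot g)).injective p
      exact hpq ((Nat.prime_dvd_prime_iff_eq hp.out hq.out).1 ((CharP.cast_eq_zero_iff (AdjoinRoot g) p q).1 hd))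
    let pb := AdjoinRoot.powerBasis (f := g) hg.ne_zero
    haveI : Module.Finite (ZMod p) (AdjoinRoot g) := Module.Finite.of_basis pb.basis
    haveI : Finite (AdjoinRoot g) := Module.finite_of_finite (ZMod p)
    haveI := Fintype.ofFinite (AdjoinRoot g)
    have hcard : Fintype.card (AdjoinRoot g) = p ^ g.natDegree := by
      rw [← Nat.card_eq_fintype_card, Module.natCard_eq_pow_finrank (K := ZMod p), Nat.card_zmod, pb.finrank, AdjoinRoot.powerBasis_dim]
    have hζ0 : ζ ≠ 0 := fun h => by rw [h, zero_pow (by omega)] at hζq; exact zero_ne_one hζq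
    have h1 := FiniteField.pow_card_sub_one_eq_one ζ hζ0
    rw [hcard, ← orderOf_dvd_iff_pow_eq_one, orderOf_eq_prime hζq hζ1] at h1
    have h3 : ((p : ZMod q)) ^ g.natDegree = 1 := by
      have := (ZMod.natCast_eq_zero_iff _ _).2 h1
      rw [Nat.cast_sub (Nat.one_le_pow _ _ hp.out.pos), sub_eq_zero] at this
      simpa using this
    have h4 := orderOf_dvd_of_pow_eq_one h3
    rw [hord] at h4
    rw [hΦdeg]
    exact Nat.le_of_dvd hg.natDegree_pos h4
  haveI : Fact (Irreducible Φ) := ⟨hirr⟩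
  have hΦT : aeval T Φ = 0 := by
    refine LinearMap.ext fun v => ?_
    have h : aeval T ((X - 1) * Φ) v = 0 := by rw [mul_comm, hΦmul]; simp [hT]
    rw [map_mul, Module.End.mul_apply] at h
    simp only [map_sub, aeval_X, map_one, LinearMap.sub_apply, Module.End.one_apply, sub_eq_zero] at h
    exact hfix _ h
  let φK : AdjoinRoot Φ →+* Module.End (ZMod p) V :=
    Ideal.Quotient.lift (Ideal.span {Φ}) (aeval T).toRingHom (fun a ha => by
      obtain ⟨c, rfl⟩ := Ideal.mem_span_singleton.1 ha
      show aeval T (Φ * c) = 0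
      rw [map_mul, hΦT, zero_mul])
  have hφroot : φK (AdjoinRoot.root Φ) = T := by
    show aeval T X = T
    exact aeval_X T
  letI : Module (AdjoinRoot Φ) V := Module.compHom V φK
  have hsmul : ∀ z : V, T z = AdjoinRoot.root Φ • z := fun z => by
    show T z = φK (AdjoinRoot.root Φ) z
    rw [hφroot]
  have hsmul' : ∀ (j : ℕ) (z : V), (T ^ j) z = AdjoinRoot.root Φ ^ j • z := fun j z => by
    show (T ^ j) z = φK (AdjoinRoot.root Φ ^ j) z
    rw [map_pow, hφroot]
  let b := Module.Basis.ofVectorSpace (AdjoinRoot Φ) V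
  refine ⟨fun v w hv hw => ?_, fun k hk => ?_⟩
  · obtain ⟨f, hfv, hfw⟩ : ∃ f : V →ₗ[AdjoinRoot Φ] AdjoinRoot Φ, f v = 1 ∧ f w ≠ 0 := by
      obtain ⟨i, hi⟩ : ∃ i, b.coord i v ≠ 0 := by
        by_contra h; push Not at h; exact hv (b.forall_coord_eq_zero_iff.1 h)
      obtain ⟨j, hj⟩ : ∃ j, b.coord j w ≠ 0 := by
        by_contra h; push Not at h; exact hw (b.forall_coord_eq_zero_iff.1 h)
      obtain ⟨f, h1, h2⟩ : ∃ f : V →ₗ[AdjoinRoot Φ] AdjoinRoot Φ, f v ≠ 0 ∧ f w ≠ 0 := by
        by_cases hiw : b.coord i w = 0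
        · by_cases hjv : b.coord j v = 0
          · exact ⟨b.coord i + b.coord j, by rw [LinearMap.add_apply, hjv, add_zero]; exact hi,
              by rw [LinearMap.add_apply, hiw, zero_add]; exact hj⟩
          · exact ⟨b.coord j, hjv, hj⟩
        · exact ⟨b.coord i, hi, hiw⟩
      exact ⟨(f v)⁻¹ • f, by simp [h1], by simp [h1, h2]⟩
    let F : V →ₗ[AdjoinRoot Φ] V := LinearMap.id + f.smulRight (w - v)
    have hinj : Function.Injective F := by
      rw [← LinearMap.ker_eq_bot, Submodule.eq_bot_iff]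
      intro z hz
      have hz' : z + f z • (w - v) = 0 := hz
      have h1 := congrArg f hz'
      rw [map_add, map_smul, map_sub, hfv, map_zero, smul_eq_mul, mul_sub, mul_one, add_sub_cancel] at h1
      have hfz : f z = 0 := (mul_eq_zero.1 h1).resolve_right hfw
      rwa [hfz, zero_smul, add_zero] at hz'
    refine ⟨AddEquiv.ofBijective F.toAddMonoidHom ⟨hinj, Finite.surjective_of_injective hinj⟩, ?_, fun z => ?_⟩
    · show v + f v • (w - v) = w
      rw [hfv, one_smul, add_sub_cancel]
    · show F (T z) = T (F z)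
      rw [hsmul, hsmul, map_smul]
  · set ζ := AdjoinRoot.root Φ with hζ
    have hζq : ζ ^ q = 1 := by
      have h := AdjoinRoot.mk_eq_zero.2 (Dvd.intro _ hΦmul : Φ ∣ X ^ q - 1)
      rw [map_sub, map_pow, AdjoinRoot.mk_X, map_one, sub_eq_zero] at h
      exact h
    have hζ1 : ζ ≠ 1 := by
      intro h
      have hd : aeval ζ Φ = 0 := by rw [hζ, AdjoinRoot.aeval_eq, AdjoinRoot.mk_self]
      have he : Φ.eval 1 = (q : ZMod p) := eval_one_cyclotomic_prime
      rw [h, aeval_def, eval₂_at_one, he, map_natCast] at hd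
      haveI : CharP (AdjoinRoot Φ) p := charP_of_injective_algebraMap (algebraMap (ZMod p) (AdjoinRoot Φ)).injective p
      exact hpq ((Nat.prime_dvd_prime_iff_eq hp.out hq.out).1 ((CharP.cast_eq_zero_iff (AdjoinRoot Φ) p q).1 hd))
    have hroot : eval₂ (algebraMap (ZMod p) (AdjoinRoot Φ)) (ζ ^ k) Φ = 0 := by
      have h := congrArg (aeval (ζ ^ k)) hΦmul
      simp only [map_mul, map_sub, aeval_X, map_one, map_pow] at h
      rw [← pow_mul, mul_comm k q, pow_mul, hζq, one_pow, sub_self, mul_eq_zero] at h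
      refine h.resolve_right fun h' => ?_
      rw [sub_eq_zero, ← orderOf_dvd_iff_pow_eq_one, orderOf_eq_prime hζq hζ1] at h'
      exact hk h'
    let σ : AdjoinRoot Φ →+* AdjoinRoot Φ := AdjoinRoot.lift (algebraMap (ZMod p) (AdjoinRoot Φ)) (ζ ^ k) hroot
    have hσ : σ ζ = ζ ^ k := AdjoinRoot.lift_root hroot
    let pb := AdjoinRoot.powerBasis (f := Φ) hΦ0
    haveI : Module.Finite (ZMod p) (AdjoinRoot Φ) := Module.Finite.of_basis pb.basis
    haveI : Finite (AdjoinRoot Φ) := Module.finite_of_finite (ZMod p)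
    let σe : AdjoinRoot Φ ≃+ AdjoinRoot Φ :=
      AddEquiv.ofBijective σ.toAddMonoidHom ⟨σ.injective, Finite.surjective_of_injective σ.injective⟩
    let L : V ≃+ V := (b.repr.toAddEquiv.trans (Finsupp.mapRange.addEquiv σe)).trans b.repr.symm.toAddEquiv
    refine ⟨L, fun z => ?_⟩
    rw [hsmul, hsmul']
    show b.repr.symm (Finsupp.mapRange σ (map_zero σ) (b.repr (ζ • z))) =
      ζ ^ k • b.repr.symm (Finsupp.mapRange σ (map_zero σ) (b.repr z))
    rw [← map_smul b.repr.symm, ← hσ, map_smul b.repr]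
    congr 1
    ext i
    simp [Finsupp.mapRange_apply]

end Algebra


section GroupPart

universe u

variable {G : Type u} [Group G] [Finite G]

/-- The automorphism orbits seen through element orders. -/
theorem orders_of_three {p q : ℕ} [hp : Fact p.Prime] [hq : Fact q.Prime] (hpq : p ≠ q) (hpd : p ∣ Nat.card G)
    (hqd : q ∣ Nat.card G) (h3 : Nat.card (MulAction.orbitRel.Quotient (MulAut G) G) = 3) :
    (∀ g : G, orderOf g = 1 ∨ orderOf g = p ∨ orderOf g = q) ∧
      ∀ x y : G, orderOf x = orderOf y → ∃ φ : MulAut G, φ x = y := by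
  classical
  let F : MulAction.orbitRel.Quotient (MulAut G) G → ℕ := Quotient.lift orderOf (fun a b h => by
    obtain ⟨φ, hφ⟩ := h
    rw [← hφ]
    exact MulEquiv.orderOf_eq φ b)
  haveI := Fintype.ofFinite (MulAction.orbitRel.Quotient (MulAut G) G)
  obtain ⟨x, hx⟩ := exists_prime_orderOf_dvd_card' (G := G) p hpd
  obtain ⟨y, hy⟩ := exists_prime_orderOf_dvd_card' (G := G) q hqd
  have hF : ∀ g : G, F (Quotient.mk'' g) = orderOf g := fun g => rfl
  have hsub : ({1, p, q} : Finset ℕ) ⊆ Finset.univ.image F := by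
    intro m hm
    simp only [Finset.mem_insert, Finset.mem_singleton] at hm
    rcases hm with rfl | rfl | rfl
    · exact Finset.mem_image.2 ⟨Quotient.mk'' 1, Finset.mem_univ _, by rw [hF, orderOf_one]⟩
    · exact Finset.mem_image.2 ⟨Quotient.mk'' x, Finset.mem_univ _, by rw [hF, hx]⟩
    · exact Finset.mem_image.2 ⟨Quotient.mk'' y, Finset.mem_univ _, by rw [hF, hy]⟩
  have hc3 : ({1, p, q} : Finset ℕ).card = 3 := by
    rw [Finset.card_insert_of_notMem, Finset.card_insert_of_notMem, Finset.card_singleton]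
    · simpa using hpq
    · simp only [Finset.mem_insert, Finset.mem_singleton, not_or]
      exact ⟨hp.out.ne_one.symm, hq.out.ne_one.symm⟩
  rw [Nat.card_eq_fintype_card] at h3
  have heq : ({1, p, q} : Finset ℕ) = Finset.univ.image F :=
    Finset.eq_of_subset_of_card_le hsub (by rw [hc3, ← h3]; exact Finset.card_image_le)
  have hinj : Set.InjOn F (↑(Finset.univ : Finset (MulAction.orbitRel.Quotient (MulAut G) G))) :=
    Finset.injOn_of_card_image_eq (by rw [← heq, hc3, ← h3]; rfl)
  refine ⟨fun g => ?_, fun a b hab => ?_⟩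
  · have h : F (Quotient.mk'' g) ∈ ({1, p, q} : Finset ℕ) := heq ▸ Finset.mem_image_of_mem _ (Finset.mem_univ _)
    rw [hF] at h
    simpa using h
  · have h : (Quotient.mk'' b : MulAction.orbitRel.Quotient (MulAut G) G) = Quotient.mk'' a :=
      hinj (Finset.mem_univ _) (Finset.mem_univ _) (by rw [hF, hF, hab])
    exact Quotient.eq''.1 h

theorem three_of_orders {p q : ℕ} [hp : Fact p.Prime] [hq : Fact q.Prime] (hpq : p ≠ q) (hpd : p ∣ Nat.card G)
    (hqd : q ∣ Nat.card G) (hord : ∀ g : G, orderOf g = 1 ∨ orderOf g = p ∨ orderOf g = q)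
    (htr : ∀ x y : G, orderOf x = orderOf y → ∃ φ : MulAut G, φ x = y) :
    Nat.card (MulAction.orbitRel.Quotient (MulAut G) G) = 3 := by
  classical
  let F : MulAction.orbitRel.Quotient (MulAut G) G → ℕ := Quotient.lift orderOf (fun a b h => by
    obtain ⟨φ, hφ⟩ := h
    rw [← hφ]
    exact MulEquiv.orderOf_eq φ b)
  obtain ⟨x, hx⟩ := exists_prime_orderOf_dvd_card' (G := G) p hpd
  obtain ⟨y, hy⟩ := exists_prime_orderOf_dvd_card' (G := G) q hqd
  have hinj : Function.Injective F := by
    intro a b hab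
    induction a using Quotient.inductionOn' with
    | _ a =>
      induction b using Quotient.inductionOn' with
      | _ b =>
        obtain ⟨φ, hφ⟩ := htr b a (hab.symm)
        exact Quotient.eq''.2 ⟨φ, hφ⟩
  have hrange : Set.range F = ({1, p, q} : Set ℕ) := by
    ext m
    simp only [Set.mem_range, Set.mem_insert_iff, Set.mem_singleton_iff]
    constructor
    · rintro ⟨a, rfl⟩
      induction a using Quotient.inductionOn' with
      | _ a => exact hord a
    · rintro (rfl | rfl | rfl)
      · exact ⟨Quotient.mk'' 1, orderOf_one⟩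
      · exact ⟨Quotient.mk'' x, hx⟩
      · exact ⟨Quotient.mk'' y, hy⟩
  rw [Nat.card_congr (Equiv.ofInjective F hinj), hrange, Nat.card_coe_set_eq, Set.ncard_insert_of_notMem,
    Set.ncard_pair hpq]
  simp only [Set.mem_insert_iff, Set.mem_singleton_iff, not_or]
  exact ⟨hp.out.ne_one.symm, hq.out.ne_one.symm⟩

/-- Conjugation by `x` on the normal subgroup `P`, written additively. -/
def conjAdd (P : Subgroup G) [hP : P.Normal] (x : G) : Additive P →+ Additive P :=
  MonoidHom.toAdditive
    { toFun := fun u => ⟨x * u * x⁻¹, hP.conj_mem _ u.2 x⟩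
      map_one' := Subtype.ext (by simp)
      map_mul' := fun a b => Subtype.ext (by simp [mul_assoc]) }

theorem conjAdd_coe (P : Subgroup G) [P.Normal] (x : G) (u : Additive P) :
    ((Additive.toMul (conjAdd P x u) : P) : G) = x * ((Additive.toMul u : P) : G) * x⁻¹ := rfl

/-- The linear algebra attached to an elementary abelian normal subgroup with a fixed-point-free element of prime order. -/
theorem linear_setup {p q : ℕ} [hp : Fact p.Prime] [hq : Fact q.Prime] (P : Subgroup G) [P.Normal]
    [IsMulCommutative P] [Module (ZMod p) (Additive P)] (x : G) (hx : orderOf x = q)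
    (hfpf : ∀ u ∈ P, x * u = u * x → u = 1) :
    ∃ T : Module.End (ZMod p) (Additive P), T ^ q = 1 ∧ (∀ v, T v = v → v = 0) ∧
      ∀ (j : ℕ) (v : Additive P), ((Additive.toMul ((T ^ j) v) : P) : G) = x ^ j * ((Additive.toMul v : P) : G) * (x ^ j)⁻¹ := by
  let T : Module.End (ZMod p) (Additive P) := (conjAdd P x).toZModLinearMap p
  have hpow : ∀ (j : ℕ) (v : Additive P),
      ((Additive.toMul ((T ^ j) v) : P) : G) = x ^ j * ((Additive.toMul v : P) : G) * (x ^ j)⁻¹ := by
    intro j
    induction j with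
    | zero => intro v; simp
    | succ j ih =>
      intro v
      rw [pow_succ', Module.End.mul_apply]
      show x * ((Additive.toMul ((T ^ j) v) : P) : G) * x⁻¹ = _
      rw [ih, pow_succ']
      group
  refine ⟨T, LinearMap.ext fun v => ?_, fun v hv => ?_, hpow⟩
  · apply Additive.toMul.injective
    refine Subtype.ext ((hpow q v).trans ?_)
    rw [← hx, pow_orderOf_eq_one]
    simp
  · have h := hpow 1 v
    rw [pow_one, pow_one, hv] at h
    have h' := hfpf _ (Additive.toMul v).2 (mul_inv_eq_iff_eq_mul.1 h.symm)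
    exact Additive.toMul.injective (Subtype.ext h')

/-- Extension of an equivariant map to an automorphism. -/
theorem exists_aut {q : ℕ} [hq : Fact q.Prime] (P : Subgroup G) [P.Normal] (x : G) (hx : orderOf x = q)
    (hc : P.IsComplement' (Subgroup.zpowers x)) (k : ℕ) (hk : ¬ q ∣ k) (L : P ≃* P)
    (hL : ∀ u u' : P, (u' : G) = x * u * x⁻¹ → ((L u' : P) : G) = x ^ k * (L u : G) * (x ^ k)⁻¹) :
    ∃ φ : MulAut G, φ x = x ^ k ∧ ∀ u : P, φ (u : G) = (L u : G) := by
  set Z := Subgroup.zpowers x with hZ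
  let f : Z →* Z :=
    { toFun := fun g => g ^ k
      map_one' := one_pow k
      map_mul' := fun a b => (show Commute a b from mul_comm' a b).mul_pow k }
  have hfinj : Function.Injective f := by
    rw [injective_iff_map_eq_one]
    intro g hg
    rw [← orderOf_eq_one_iff]
    have h1 : orderOf g ∣ q := by
      rw [← hx, ← Nat.card_zpowers x]; exact orderOf_dvd_natCard g
    exact Nat.eq_one_of_dvd_coprimes ((hq.out.coprime_iff_not_dvd).2 hk) h1 (orderOf_dvd_of_pow_eq_one hg)
  let fg : Z ≃* Z := MulEquiv.ofBijective f ⟨hfinj, Finite.surjective_of_injective hfinj⟩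
  let ψ : Z →* MulAut P := (P.normalizerMonoidHom).comp (Subgroup.inclusion (P.normalizer_eq_top ▸ le_top))
  have hψ : ∀ (g : Z) (u : P), ((ψ g u : P) : G) = (g : G) * u * (g : G)⁻¹ := fun g u => rfl
  have key : ∀ (j : ℕ) (u u' : P), (u' : G) = x ^ j * u * (x ^ j)⁻¹ →
      ((L u' : P) : G) = (x ^ k) ^ j * (L u : G) * ((x ^ k) ^ j)⁻¹ := by
    intro j
    induction j with
    | zero => intro u u' h; rw [Subtype.ext (h.trans (by simp)) (a1 := u') (a2 := u)]; simp
    | succ j ih =>
      intro u u' h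
      set m : P := ⟨x ^ j * u * (x ^ j)⁻¹, (inferInstance : P.Normal).conj_mem _ u.2 _⟩
      rw [hL m u' (by rw [h, pow_succ']; show _ = x * (x ^ j * u * (x ^ j)⁻¹) * x⁻¹; group), ih u m rfl, pow_succ' (x ^ k) j]
      group
  have hcond : ∀ g : Z, (ψ g).trans L = L.trans (ψ (fg g)) := by
    intro g
    refine MulEquiv.ext fun u => Subtype.ext ?_
    obtain ⟨j, hj⟩ := (IsOfFinOrder.mem_powers_iff_mem_zpowers (isOfFinOrder_of_finite x)).2 g.2
    show ((L (ψ g u) : P) : G) = ((ψ (fg g) (L u) : P) : G)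
    have hfg : ((fg g : Z) : G) = (x ^ k) ^ j := by
      show ((g ^ k : Z) : G) = _
      rw [Subgroup.coe_pow, ← hj, ← pow_mul, ← pow_mul, mul_comm]
    rw [hψ (fg g) (L u), hfg]
    exact key j u _ (by rw [hψ g u, ← hj])
  let e := SemidirectProduct.mulEquivSubgroup hc
  refine ⟨e.symm.trans ((SemidirectProduct.congr L fg hcond).trans e), ?_, fun u => ?_⟩
  · have h1 : e.symm x = SemidirectProduct.inr (⟨x, Subgroup.mem_zpowers x⟩ : Z) := by
      rw [MulEquiv.symm_apply_eq]
      show x = (1 : G) * x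
      rw [one_mul]
    show e (SemidirectProduct.congr L fg hcond (e.symm x)) = x ^ k
    rw [h1]
    show ((L 1 : P) : G) * ((fg ⟨x, Subgroup.mem_zpowers x⟩ : Z) : G) = x ^ k
    rw [map_one, Subgroup.coe_one, one_mul]
    rfl
  · have h1 : e.symm (u : G) = SemidirectProduct.inl u := by
      rw [MulEquiv.symm_apply_eq]
      show (u : G) = (u : G) * 1
      rw [mul_one]
    show e (SemidirectProduct.congr L fg hcond (e.symm (u : G))) = _
    rw [h1]
    show ((L u : P) : G) * ((fg 1 : Z) : G) = _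
    rw [map_one, Subgroup.coe_one, mul_one]

theorem forward {p q : ℕ} [hp : Fact p.Prime] [hq : Fact q.Prime] (hpq : p ≠ q) (hpd : p ∣ Nat.card G)
    (hqd : q ∣ Nat.card G) (hord : ∀ g : G, orderOf g = 1 ∨ orderOf g = p ∨ orderOf g = q)
    (htr : ∀ x y : G, orderOf x = orderOf y → ∃ φ : MulAut G, φ x = y) (A : Subgroup G) [A.Characteristic]
    (hA : IsMulCommutative A) (x : G) (hxA : x ∈ A) (hxp : orderOf x = p) :
    ∃ n : ℕ, 1 ≤ n ∧ Nat.card G = p ^ n * q ∧
      (∀ P : Sylow p G, (P : Subgroup G).Normal ∧ Cfsg.IsElementaryAbelian p (P : Subgroup G)) ∧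
      orderOf (p : ZMod q) = q - 1 ∧
      ∀ x y : G, orderOf x = q → orderOf y = p → x * y * x⁻¹ ≠ y := by
  classical
  have hnc : ∀ a b : G, orderOf a = q → orderOf b = p → ¬ Commute a b := by
    intro a b ha hb hab
    have h := hab.orderOf_mul_eq_mul_orderOf_of_coprime (by rw [ha, hb]; exact (Nat.coprime_primes hq.out hp.out).2 hpq.symm)
    rw [ha, hb] at h
    have h1 := hp.out.two_le
    have h2 := hq.out.two_le
    rcases hord (a * b) with h' | h' | h' <;> rw [h'] at h <;> nlinarith
  have hmem : ∀ g : G, g ∈ A ↔ orderOf g = 1 ∨ orderOf g = p := by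
    intro g
    constructor
    · intro hg
      rcases hord g with h | h | h
      · exact Or.inl h
      · exact Or.inr h
      · exact absurd (congrArg Subtype.val (hA.is_comm.comm ⟨g, hg⟩ ⟨x, hxA⟩)) (hnc g x h hxp)
    · rintro (h | h)
      · rw [orderOf_eq_one_iff] at h; rw [h]; exact one_mem A
      · obtain ⟨φ, rfl⟩ := htr x g (hxp.trans h.symm)
        have h0 := Subgroup.characteristic_iff_map_eq.1 ‹A.Characteristic› φ
        rw [← h0]
        exact Subgroup.mem_map_of_mem φ.toMonoidHom hxA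
  have hexp : ∀ a : A, a ^ p = 1 := fun a => Subtype.ext (by
    rw [Subgroup.coe_pow, Subgroup.coe_one, ← orderOf_dvd_iff_pow_eq_one]
    rcases (hmem a).1 a.2 with h | h <;> rw [h]
    exact one_dvd p)
  have hAp : IsPGroup p A := fun a => ⟨1, by rw [pow_one]; exact hexp a⟩
  haveI hAn : A.Normal := inferInstance
  have hsyl : ∀ P : Sylow p G, (P : Subgroup G) = A := by
    intro P
    refine (P.3 hAp ?_).symm
    intro g hg
    refine (hmem g).2 ?_
    rcases hord g with h | h | h
    · exact Or.inl h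
    · exact Or.inr h
    · obtain ⟨j, hj⟩ := IsPGroup.iff_orderOf.1 P.isPGroup' ⟨g, hg⟩
      rw [Subgroup.orderOf_mk, h] at hj
      exact absurd ((Nat.prime_dvd_prime_iff_eq hq.out hp.out).1 (hq.out.dvd_of_dvd_pow hj.dvd)).symm hpq
  obtain ⟨Q⟩ := (inferInstance : Nonempty (Sylow q G))
  have hQfpf : ∀ a ∈ (Q : Subgroup G), a ≠ 1 → A ⊓ Subgroup.centralizer {a} = ⊥ := by
    intro a ha ha1
    rw [Subgroup.eq_bot_iff_forall]
    rintro u ⟨huA, huC⟩
    by_contra hu1
    have hua : orderOf a = q := by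
      obtain ⟨j, hj⟩ := IsPGroup.iff_orderOf.1 Q.isPGroup' ⟨a, ha⟩
      rw [Subgroup.orderOf_mk] at hj
      rcases hord a with h | h | h
      · exact absurd (orderOf_eq_one_iff.1 h) ha1
      · rw [h] at hj
        exact absurd ((Nat.prime_dvd_prime_iff_eq hp.out hq.out).1 (hp.out.dvd_of_dvd_pow hj.dvd)) hpq
      · exact h
    exact hnc a u hua (((hmem u).1 huA).resolve_left (fun h => hu1 (orderOf_eq_one_iff.1 h)))
      (Subgroup.mem_centralizer_singleton_iff.1 huC).symm
  obtain ⟨b, hb⟩ := IsPGroup.iff_card.1 Q.isPGroup'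
  have hA1 : A ≠ ⊥ := fun h => by
    rw [h, Subgroup.mem_bot] at hxA
    rw [hxA, orderOf_one] at hxp
    exact hp.out.ne_one hxp.symm
  have hb1 : b = 1 := by
    have hb0 : b ≠ 0 := fun h => by
      have := Q.dvd_card_of_dvd_card hqd
      rw [hb, h, pow_zero] at this
      exact hq.out.not_dvd_one this
    by_contra hb1
    have hb2 : 2 ≤ b := by omega
    obtain ⟨E, hE⟩ := Sylow.exists_subgroup_card_pow_prime q (G := (Q : Subgroup G)) (n := 2) (hb ▸ Nat.pow_dvd_pow q hb2)
    set E' : Subgroup G := E.map (Q : Subgroup G).subtype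
    have hE' : Nat.card E' = q ^ 2 := (Nat.card_congr (E.equivMapOfInjective _ (Q : Subgroup G).subtype_injective).toEquiv).symm.trans hE
    haveI : IsMulCommutative E' := IsPGroup.isMulCommutative_of_card_eq_prime_sq hE'
    have hcyc : ¬ IsCyclic E' := by
      intro h
      obtain ⟨g, hg⟩ := h.exists_ofOrder_eq_natCard
      rw [hE', ← Subgroup.orderOf_coe] at hg
      have h2 := hq.out.two_le
      rcases hord (g : G) with h' | h' | h' <;> rw [hg] at h'
      · nlinarith
      · exact hpq ((Nat.prime_dvd_prime_iff_eq hq.out hp.out).1 (h' ▸ dvd_pow_self q two_ne_zero)).symm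
      · nlinarith
    refine hA1 (le_bot_iff.1 (Cfsg.Agent.Coprime.le_of_noncyclic hcyc (le_top.trans (Subgroup.normalizer_eq_top A).ge) ?_
      fun a ha ha1 => (hQfpf a (Subgroup.map_subtype_le E ha) ha1).le))
    obtain ⟨j, hj⟩ := IsPGroup.iff_card.1 hAp
    rw [hE', hj]
    exact ((Nat.coprime_primes hq.out hp.out).2 hpq.symm).pow _ _
  subst hb1
  rw [pow_one] at hb
  obtain ⟨n, hn⟩ := IsPGroup.iff_card.1 hAp
  have hn1 : 1 ≤ n := by
    rcases Nat.eq_zero_or_pos n with h | h
    · rw [h, pow_zero] at hn; exact absurd (Subgroup.eq_bot_of_card_eq _ hn) hA1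
    · exact h
  obtain ⟨P⟩ := (inferInstance : Nonempty (Sylow p G))
  have hcard : Nat.card G = p ^ n * q := by
    have e1 : p ^ (Nat.card G).factorization p = p ^ n := by rw [← P.card_eq_multiplicity, hsyl P, hn]
    have e2 : q ^ (Nat.card G).factorization q = q := by rw [← Q.card_eq_multiplicity, hb]
    have hsub : (Nat.card G).primeFactors = {p, q} := by
      ext r
      simp only [Nat.mem_primeFactors, Finset.mem_insert, Finset.mem_singleton]
      constructor
      · rintro ⟨hr, hrd, -⟩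
        haveI := Fact.mk hr
        obtain ⟨g, hg⟩ := exists_prime_orderOf_dvd_card' (G := G) r hrd
        rcases hord g with h | h | h <;> rw [hg] at h
        · exact absurd h hr.ne_one
        · exact Or.inl h
        · exact Or.inr h
      · rintro (rfl | rfl)
        · exact ⟨hp.out, hpd, Nat.card_pos.ne'⟩
        · exact ⟨hq.out, hqd, Nat.card_pos.ne'⟩
    conv_lhs => rw [← Nat.prod_factorization_pow_eq_self (n := Nat.card G) Nat.card_pos.ne', Finsupp.prod,
      Nat.support_factorization, hsub, Finset.prod_pair hpq, e1, e2]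
  refine ⟨n, hn1, hcard, fun S => ⟨by rw [hsyl S]; infer_instance, ?_⟩, ?_, fun a b ha hb' h => hnc a b ha hb' (mul_inv_eq_iff_eq_mul.1 h)⟩
  · rw [hsyl S]
    exact ⟨hA, fun a ha => congrArg Subtype.val (hexp ⟨a, ha⟩)⟩
  -- the primitive root
  obtain ⟨y, hy⟩ := exists_prime_orderOf_dvd_card' (G := G) q hqd
  have hfpf : ∀ u ∈ A, y * u = u * y → u = 1 := by
    intro u hu h
    by_contra hu1
    exact hnc y u hy (((hmem u).1 hu).resolve_left (fun h => hu1 (orderOf_eq_one_iff.1 h))) h
  have hc : A.IsComplement' (Subgroup.zpowers y) := by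
    refine Subgroup.isComplement'_of_coprime (by rw [Nat.card_zpowers, hy, hn, hcard]) ?_
    rw [Nat.card_zpowers, hy, hn]
    exact ((Nat.coprime_primes hp.out hq.out).2 hpq).pow_left n
  have hcomm : ∀ a b : A, a * b = b * a := fun a b => hA.is_comm.comm a b
  haveI : IsMulCommutative A := hA
  letI : Module (ZMod p) (Additive A) := AddCommGroup.zmodModule (n := p) (G := Additive A)
    (fun (a : Additive A) => Additive.toMul.injective (hexp (Additive.toMul a)))
  obtain ⟨T, hT, hTfix, hTpow⟩ := linear_setup (p := p) A y hy hfpf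
  haveI : Nontrivial (Additive A) := by
    haveI : Nontrivial A := (Subgroup.nontrivial_iff_ne_bot A).2 hA1
    infer_instance
  -- an automorphism gives an equivariant map
  have hres : ∀ (φ : MulAut G) (k : ℕ) (u₀ : G), u₀ ∈ A → φ y = u₀ * y ^ k →
      ∃ L : Additive A ≃+ Additive A, (∀ z : Additive A, L (T z) = (T ^ k) (L z)) ∧
        ∀ z, ((Additive.toMul (L z) : A) : G) = φ ((Additive.toMul z : A) : G) := by
    intro φ k u₀ hu₀ hφ
    have hin : ∀ (ψ : MulAut G) (u : A), ψ (u : G) ∈ A := fun ψ u =>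
      (Subgroup.characteristic_iff_le_comap.1 ‹A.Characteristic› ψ) u.2
    let L₀ : A ≃* A :=
      { toFun := fun u => ⟨φ u, hin φ u⟩
        invFun := fun u => ⟨φ⁻¹ u, hin φ⁻¹ u⟩
        left_inv := fun u => Subtype.ext (φ.symm_apply_apply u)
        right_inv := fun u => Subtype.ext (φ.apply_symm_apply u)
        map_mul' := fun a b => Subtype.ext (map_mul φ (a : G) b) }
    refine ⟨L₀.toAdditive, fun z => ?_, fun z => rfl⟩
    apply Additive.toMul.injective
    apply Subtype.ext
    rw [hTpow]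
    show φ ((Additive.toMul (T z) : A) : G) = y ^ k * φ ((Additive.toMul z : A) : G) * (y ^ k)⁻¹
    have h1 := hTpow 1 z
    rw [pow_one, pow_one] at h1
    rw [h1, map_mul, map_mul, map_inv, hφ]
    set w := φ ((Additive.toMul z : A) : G) with hw
    have hmemw : y ^ k * w * (y ^ k)⁻¹ ∈ A := hAn.conj_mem _ (hin φ _) _
    have hcw : u₀ * (y ^ k * w * (y ^ k)⁻¹) = y ^ k * w * (y ^ k)⁻¹ * u₀ :=
      congrArg Subtype.val (hcomm ⟨u₀, hu₀⟩ ⟨_, hmemw⟩)
    calc u₀ * y ^ k * w * (u₀ * y ^ k)⁻¹ = u₀ * (y ^ k * w * (y ^ k)⁻¹) * u₀⁻¹ := by group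
      _ = y ^ k * w * (y ^ k)⁻¹ := by rw [hcw, mul_inv_cancel_right]
  refine primitive_root_of_transitive T hT hTfix (fun v w hv hw => ?_) fun k hk => ?_
  · have ho : ∀ v : Additive A, v ≠ 0 → orderOf ((Additive.toMul v : A) : G) = p := fun v hv =>
      ((hmem _).1 (Additive.toMul v).2).resolve_left fun h =>
        hv (Additive.toMul.injective (Subtype.ext (orderOf_eq_one_iff.1 h)))
    obtain ⟨φ, hφ⟩ := htr _ _ ((ho v hv).trans (ho w hw).symm)
    obtain ⟨⟨⟨u₀, hu₀⟩, ⟨g, hg⟩⟩, he, -⟩ := hc.existsUnique (φ y)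
    obtain ⟨k, rfl⟩ := (IsOfFinOrder.mem_powers_iff_mem_zpowers (isOfFinOrder_of_finite y)).2 hg
    obtain ⟨L, hL, hLv⟩ := hres φ k u₀ hu₀ he.symm
    refine ⟨k, fun hd => ?_, L, Additive.toMul.injective (Subtype.ext ((hLv v).trans hφ)), hL⟩
    have h1 : y ^ k = 1 := orderOf_dvd_iff_pow_eq_one.1 (hy.symm ▸ hd)
    have h2 : φ y ∈ A := by rw [← he]; show u₀ * y ^ k ∈ A; rw [h1, mul_one]; exact hu₀
    rcases (hmem _).1 h2 with h3 | h3 <;> rw [MulEquiv.orderOf_eq, hy] at h3
    · exact hq.out.ne_one h3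
    · exact hpq h3.symm
  · obtain ⟨φ, hφ⟩ := htr y (y ^ k) (by rw [hy, Nat.Coprime.orderOf_pow (hy.symm ▸ (hq.out.coprime_iff_not_dvd).2 hk), hy])
    obtain ⟨L, hL, -⟩ := hres φ k 1 (one_mem A) (by rw [hφ, one_mul])
    exact ⟨L, hL⟩

theorem backward {p q n : ℕ} [hp : Fact p.Prime] [hq : Fact q.Prime] (hpq : p ≠ q) (hn1 : 1 ≤ n)
    (hcard : Nat.card G = p ^ n * q)
    (hS : ∀ P : Sylow p G, (P : Subgroup G).Normal ∧ Cfsg.IsElementaryAbelian p (P : Subgroup G))
    (hord : orderOf (p : ZMod q) = q - 1)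
    (hC : ∀ x y : G, orderOf x = q → orderOf y = p → x * y * x⁻¹ ≠ y) :
    Nat.card (MulAction.orbitRel.Quotient (MulAut G) G) = 3 := by
  classical
  have hpd : p ∣ Nat.card G := hcard ▸ (dvd_pow_self p (by omega)).mul_right q
  have hqd : q ∣ Nat.card G := hcard ▸ dvd_mul_left q _
  obtain ⟨S⟩ := (inferInstance : Nonempty (Sylow p G))
  obtain ⟨hSn, hSc, hSe⟩ := hS S
  haveI := hSn
  set P : Subgroup G := (S : Subgroup G) with hP
  have hcomm : ∀ a b : P, a * b = b * a := fun a b => hSc.is_comm.comm a b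
  have hexp : ∀ a : P, a ^ p = 1 := fun a => Subtype.ext (hSe a a.2)
  have hPcard : Nat.card P = p ^ n := by
    rw [hP, S.card_eq_multiplicity, hcard, Nat.factorization_mul (pow_ne_zero n hp.out.ne_zero) hq.out.ne_zero, Finsupp.add_apply,
      hp.out.factorization_pow, Finsupp.single_eq_same, Nat.factorization_eq_zero_of_not_dvd, add_zero]
    exact fun h => hpq ((Nat.prime_dvd_prime_iff_eq hp.out hq.out).1 h)
  obtain ⟨y, hy⟩ := exists_prime_orderOf_dvd_card' (G := G) q hqd
  set Y := Subgroup.zpowers y with hY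
  have hc : P.IsComplement' Y := by
    refine Subgroup.isComplement'_of_coprime (by rw [Nat.card_zpowers, hy, hPcard, hcard]) ?_
    rw [Nat.card_zpowers, hy, hPcard]
    exact ((Nat.coprime_primes hp.out hq.out).2 hpq).pow_left n
  have hPord : ∀ u : G, u ∈ P → u = 1 ∨ orderOf u = p := by
    intro u hu
    rcases (Nat.dvd_prime hp.out).1 (orderOf_dvd_of_pow_eq_one (hSe u hu)) with h | h
    · exact Or.inl (orderOf_eq_one_iff.1 h)
    · exact Or.inr h
  have hYord : ∀ a ∈ Y, a ≠ 1 → orderOf a = q := by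
    intro a ha ha1
    have hd : orderOf a ∣ q := hy ▸ orderOf_dvd_of_mem_zpowers ha
    exact ((Nat.dvd_prime hq.out).1 hd).resolve_left (fun h => ha1 (orderOf_eq_one_iff.1 h))
  have hF : Cfsg.Agent.Frobenius.FPF Y P := by
    intro a ha ha1 u hu h
    rcases hPord u hu with h' | h'
    · exact h'
    · exact absurd (mul_inv_eq_iff_eq_mul.2 h) (hC a u (hYord a ha ha1) h')
  have hform : ∀ g : G, g ∉ P → ∃ k : ℕ, ¬ q ∣ k ∧ ∃ c : G, c⁻¹ * g * c = y ^ k := by
    intro g hg
    obtain ⟨c, -, hc'⟩ := Cfsg.Agent.Frobenius.FPF.exists_conj_mem hc hF hg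
    obtain ⟨k, hk⟩ := (IsOfFinOrder.mem_powers_iff_mem_zpowers (isOfFinOrder_of_finite y)).2 hc'
    refine ⟨k, fun hd => hg ?_, c, hk.symm⟩
    have h1 : c⁻¹ * g * c = 1 := hk.symm.trans (orderOf_dvd_iff_pow_eq_one.1 (hy.symm ▸ hd))
    have h2 : g = 1 := by
      calc g = c * (c⁻¹ * g * c) * c⁻¹ := by group
        _ = 1 := by rw [h1]; group
    rw [h2]; exact one_mem P
  have hordq : ∀ g : G, g ∉ P → orderOf g = q := by
    intro g hg
    obtain ⟨k, hk, c, hc'⟩ := hform g hg
    have h1 : orderOf (y ^ k) = q := by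
      rw [Nat.Coprime.orderOf_pow (hy.symm ▸ (hq.out.coprime_iff_not_dvd).2 hk), hy]
    rw [← hc', show c⁻¹ * g * c = MulAut.conj c⁻¹ g by simp, MulEquiv.orderOf_eq] at h1
    exact h1
  haveI : IsMulCommutative P := hSc
  letI : Module (ZMod p) (Additive P) := AddCommGroup.zmodModule (n := p) (G := Additive P)
    (fun (a : Additive P) => Additive.toMul.injective (hexp (Additive.toMul a)))
  obtain ⟨T, hT, hTfix, hTpow⟩ := linear_setup (p := p) P y hy (fun u hu h => hF y (Subgroup.mem_zpowers y)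
    (fun h1 => hq.out.ne_one (by rw [← hy, h1, orderOf_one])) u hu h)
  obtain ⟨hL1, hL2⟩ := exists_semilinear T hT hTfix hord
  have hlift : ∀ (k : ℕ), ¬ q ∣ k → ∀ L : Additive P ≃+ Additive P, (∀ z : Additive P, L (T z) = (T ^ k) (L z)) →
      ∃ φ : MulAut G, φ y = y ^ k ∧ ∀ u : P, φ (u : G) = ((Additive.toMul (L (Additive.ofMul u)) : P) : G) := by
    intro k hk L hL
    refine exists_aut P y hy hc k hk
      { toFun := fun u => Additive.toMul (L (Additive.ofMul u))
        invFun := fun u => Additive.toMul (L.symm (Additive.ofMul u))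
        left_inv := fun u => congrArg Additive.toMul (L.symm_apply_apply (Additive.ofMul u))
        right_inv := fun u => congrArg Additive.toMul (L.apply_symm_apply (Additive.ofMul u))
        map_mul' := fun a b => congrArg Additive.toMul (map_add L (Additive.ofMul a) (Additive.ofMul b)) } ?_
    intro u u' hu
    have h1 : T (Additive.ofMul u) = Additive.ofMul u' := by
      apply Additive.toMul.injective
      apply Subtype.ext
      have := hTpow 1 (Additive.ofMul u)
      rw [pow_one, pow_one] at this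
      exact this.trans hu.symm
    show ((Additive.toMul (L (Additive.ofMul u')) : P) : G) = _
    rw [← h1, hL, hTpow]
    rfl
  refine three_of_orders hpq hpd hqd (fun g => ?_) fun a b hab => ?_
  · by_cases hg : g ∈ P
    · exact (hPord g hg).imp (fun h => by rw [h, orderOf_one]) Or.inl
    · exact Or.inr (Or.inr (hordq g hg))
  have hone : ¬ q ∣ 1 := hq.out.not_dvd_one
  by_cases ha : a ∈ P
  · have hb : b ∈ P := by
      by_contra hb
      rw [hordq b hb] at hab
      rcases hPord a ha with h | h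
      · rw [h, orderOf_one] at hab; exact hq.out.ne_one hab.symm
      · exact hpq (h.symm.trans hab)
    rcases hPord a ha with h | h
    · refine ⟨1, ?_⟩
      rw [h, orderOf_one] at hab
      show a = b
      rw [h, orderOf_eq_one_iff.1 hab.symm]
    · have ha0 : Additive.ofMul (⟨a, ha⟩ : P) ≠ 0 := fun e => hp.out.ne_one (by
        rw [← h, show a = 1 from congrArg Subtype.val (congrArg Additive.toMul e), orderOf_one])
      have hb0 : Additive.ofMul (⟨b, hb⟩ : P) ≠ 0 := fun e => hp.out.ne_one (by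
        rw [← h, hab, show b = 1 from congrArg Subtype.val (congrArg Additive.toMul e), orderOf_one])
      obtain ⟨L, hLa, hL⟩ := hL1 _ _ ha0 hb0
      obtain ⟨φ, -, hφ⟩ := hlift 1 hone L (fun z => by rw [pow_one]; exact hL z)
      refine ⟨φ, ?_⟩
      rw [hφ ⟨a, ha⟩, hLa]
      rfl
  · have hb : b ∉ P := by
      intro hb
      rw [hordq a ha] at hab
      rcases hPord b hb with h | h
      · rw [h, orderOf_one] at hab; exact hq.out.ne_one hab
      · exact hpq (h.symm.trans hab.symm)
    have hreach : ∀ g : G, g ∉ P → ∃ φ : MulAut G, φ y = g := by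
      intro g hg
      obtain ⟨k, hk, c, hc'⟩ := hform g hg
      obtain ⟨L, hL⟩ := hL2 k hk
      obtain ⟨φ, hφ, -⟩ := hlift k hk L hL
      refine ⟨MulAut.conj c * φ, ?_⟩
      rw [MulAut.mul_apply, hφ, MulAut.conj_apply, ← hc']
      group
    obtain ⟨φa, hφa⟩ := hreach a ha
    obtain ⟨φb, hφb⟩ := hreach b hb
    refine ⟨φb * φa⁻¹, ?_⟩
    rw [MulAut.mul_apply, ← hφa, MulAut.inv_apply_self, hφb]

end GroupPart

/-- Let G be a finite group whose order is not a prime power. Then the automorphism group of G has exactly three orbits on G if and only if there are distinct primes p, q with #G = pⁿ·q (n ≥ 1) such that G has a normal elementary abelian Sylow p-subgroup P, p is a primitive root modulo q (the multiplicative order of p mod q is q − 1), and every element of order q of G acts on P without non-identity fixed points. -/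
theorem result {G : Type*} [Group G] [Finite G] (hnpp : ¬ IsPrimePow (Nat.card G)) (hnt : Nat.card G ≠ 1) :
    Nat.card (MulAction.orbitRel.Quotient (MulAut G) G) = 3 ↔
    ∃ (p q n : ℕ) (_ : Fact p.Prime) (_ : Fact q.Prime), p ≠ q ∧ 1 ≤ n ∧ Nat.card G = p ^ n * q ∧
      (∀ P : Sylow p G, (P : Subgroup G).Normal ∧ Cfsg.IsElementaryAbelian p (P : Subgroup G)) ∧
      orderOf (p : ZMod q) = q - 1 ∧
      ∀ x y : G, orderOf x = q → orderOf y = p → x * y * x⁻¹ ≠ y := by
  classical
  constructor
  · intro h3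
    obtain ⟨p, hp, hpd⟩ := Nat.exists_prime_and_dvd hnt
    haveI := Fact.mk hp
    obtain ⟨q, hq, hqd, hne⟩ : ∃ q, q.Prime ∧ q ∣ Nat.card G ∧ p ≠ q := by
      by_contra hcon
      push Not at hcon
      apply hnpp
      obtain ⟨k, hk⟩ : ∃ k, Nat.card G = p ^ k :=
        ⟨_, Nat.eq_prime_pow_of_unique_prime_dvd Nat.card_pos.ne' fun hd hdd => (hcon _ hd hdd).symm⟩
      rw [hk]
      exact hp.isPrimePow.pow (fun h => hnt (by rw [hk, h, pow_zero]))
    haveI := Fact.mk hq
    obtain ⟨hord, htr⟩ := orders_of_three hne hpd hqd h3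
    have hsol : Group.IsSolvable G := by
      refine Cfsg.Agent.CharApp.isSolvable_of_card_eq_prime_pow_mul p q hp hq _ G rfl
        ((Nat.card G).factorization p) ((Nat.card G).factorization q) ?_
      have hsub : (Nat.card G).primeFactors = {p, q} := by
        ext r
        simp only [Nat.mem_primeFactors, Finset.mem_insert, Finset.mem_singleton]
        constructor
        · rintro ⟨hr, hrd, -⟩
          haveI := Fact.mk hr
          obtain ⟨g, hg⟩ := exists_prime_orderOf_dvd_card' (G := G) r hrd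
          rcases hord g with h | h | h <;> rw [hg] at h
          · exact absurd h hr.ne_one
          · exact Or.inl h
          · exact Or.inr h
        · rintro (rfl | rfl)
          · exact ⟨hp, hpd, Nat.card_pos.ne'⟩
          · exact ⟨hq, hqd, Nat.card_pos.ne'⟩
      conv_lhs => rw [← Nat.prod_factorization_pow_eq_self (n := Nat.card G) Nat.card_pos.ne', Finsupp.prod,
        Nat.support_factorization, hsub, Finset.prod_pair hne]
    obtain ⟨A, hAc, hA1, hAab⟩ : ∃ A : Subgroup G, A.Characteristic ∧ A ≠ ⊥ ∧ IsMulCommutative A := by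
      have hex := hsol.solvable
      have hn : Nat.find hex ≠ 0 := by
        intro h0
        have := Nat.find_spec hex
        rw [h0, derivedSeries_zero] at this
        exact hnt (by rw [← Subgroup.card_top (G := G), this, Subgroup.card_bot])
      obtain ⟨m, hm⟩ := Nat.exists_eq_succ_of_ne_zero hn
      refine ⟨derivedSeries G m, inferInstance, Nat.find_min hex (by omega), ⟨⟨fun a b => Subtype.ext ?_⟩⟩⟩
      have h := Nat.find_spec hex
      rw [hm, derivedSeries_succ, Subgroup.commutator_eq_bot_iff_le_centralizer] at h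
      exact Subgroup.mem_centralizer_iff.1 (h b.2) a a.2
    obtain ⟨a, ha, ha1⟩ : ∃ a ∈ A, a ≠ 1 := by
      by_contra h; push Not at h; exact hA1 ((Subgroup.eq_bot_iff_forall A).2 h)
    haveI := hAc
    rcases hord a with h | h | h
    · exact absurd (orderOf_eq_one_iff.1 h) ha1
    · obtain ⟨n, h1, h2, h3', h4, h5⟩ := forward hne hpd hqd hord htr A hAab a ha h
      exact ⟨p, q, n, inferInstance, inferInstance, hne, h1, h2, h3', h4, h5⟩
    · obtain ⟨n, h1, h2, h3', h4, h5⟩ := forward hne.symm hqd hpd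
        (fun g => (hord g).imp id Or.symm) htr A hAab a ha h
      exact ⟨q, p, n, inferInstance, inferInstance, hne.symm, h1, h2, h3', h4, h5⟩
  · rintro ⟨p, q, n, hp, hq, hpq, hn1, hcard, hS, hord, hC⟩
    exact backward hpq hn1 hcard hS hord hC

end Cfsg.Agent.S4081
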