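import Cfsg.Statements.S4082
import Cfsg.Agent.EqLemmas
import Cfsg.Agent.Lib.PByCyclic.Basic
import Cfsg.Agent.Lib.PGroup.CyclicMaximal
import Cfsg.Agent.Lib.Coprime.Basic

set_option autoImplicit false
open Cfsg

namespace Cfsg.Agent.S4082

open Cfsg.Agent.PByCyclic

section

variable {G : Type*} [Group G] [Finite G] {p : ℕ} [Fact p.Prime]

/-- `x` inverts `S`. -/
def Inverts (x : G) (S : Subgroup G) : Prop := ∀ s ∈ S, x * s * x⁻¹ = s⁻¹

theorem prime_odd (hp : p ≠ 2) : Odd p := (Fact.out : p.Prime).odd_of_ne_two hp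

theorem eq_one_of_inv_eq (hp : p ≠ 2) {S : Subgroup G} (hS : IsPGroup p S) {s : G} (hs : s ∈ S)
    (h : s⁻¹ = s) : s = 1 := by
  obtain ⟨k, hk⟩ := IsPGroup.iff_orderOf.1 hS ⟨s, hs⟩
  rw [Subgroup.orderOf_mk] at hk
  have h2 : s ^ 2 = 1 := by rw [pow_two]; nth_rw 1 [← h]; exact inv_mul_cancel s
  rw [← orderOf_eq_one_iff]
  exact Nat.eq_one_of_dvd_coprimes (((Nat.coprime_primes Fact.out Nat.prime_two).2 hp).pow_left k)
    hk.dvd (orderOf_dvd_of_pow_eq_one h2)

/-- A non-central `p'`-element normalizing a `p`-group `S` in a restricted situation. -/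
theorem invol_of_dihedral (hp : p ≠ 2) {S : Subgroup G} (hS : IsPGroup p S) {x : G}
    (hxS : x ∈ Subgroup.normalizer (S : Set G)) (hx : ¬ p ∣ orderOf x)
    (h : IsCyclic ↥(S ⊔ Subgroup.zpowers x) ∨ ∃ n : ℕ, Nonempty (↥(S ⊔ Subgroup.zpowers x) ≃* DihedralGroup (p ^ n))) :
    (∀ s ∈ S, Commute s x) ∨ (orderOf x = 2 ∧ Inverts x S) := by
  rcases h with h | ⟨n, ⟨e⟩⟩
  · left
    intro s hs
    have := Subgroup.mul_comm_of_mem_isMulCommutative (S ⊔ Subgroup.zpowers x) (Subgroup.mem_sup_left hs : s ∈ _)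
      (Subgroup.mem_sup_right (Subgroup.mem_zpowers x))
    exact this
  haveI : NeZero (p ^ n) := ⟨pow_ne_zero _ (Fact.out : p.Prime).ne_zero⟩
  set H := S ⊔ Subgroup.zpowers x with hH
  have hxH : x ∈ H := Subgroup.mem_sup_right (Subgroup.mem_zpowers x)
  have hcard : Nat.card S * orderOf x = 2 * p ^ n := by
    rw [← card_sup_zpowers hS hxS hx, Nat.card_congr e.toEquiv, DihedralGroup.nat_card]
  have h2 : orderOf x ∣ 2 := by
    have h1 : orderOf x ∣ 2 * p ^ n := hcard ▸ dvd_mul_left _ _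
    exact ((((Nat.Prime.coprime_iff_not_dvd Fact.out).2 hx).symm).pow_right n).dvd_of_dvd_mul_right h1
  rcases (Nat.dvd_prime Nat.prime_two).1 h2 with h2 | h2
  · left
    intro s _
    rw [orderOf_eq_one_iff.1 h2]
    exact Commute.one_right s
  have hev : ∀ s ∈ S, ∀ hsH : s ∈ H, ∃ i, e ⟨s, hsH⟩ = DihedralGroup.r i := by
    intro s hs hsH
    rcases hi : e ⟨s, hsH⟩ with i | i
    · exact ⟨i, rfl⟩
    · exfalso
      obtain ⟨k, hk⟩ := IsPGroup.iff_orderOf.1 hS ⟨s, hs⟩
      rw [Subgroup.orderOf_mk, ← Subgroup.orderOf_mk s hsH, ← MulEquiv.orderOf_eq e, hi, DihedralGroup.orderOf_sr] at hk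
      have := (prime_odd hp).pow (n := k)
      rw [← hk] at this
      exact absurd this (by decide)
  rcases hxe : e ⟨x, hxH⟩ with i | i
  · left
    intro s hs
    obtain ⟨j, hj⟩ := hev s hs (Subgroup.mem_sup_left hs)
    have : e (⟨s, Subgroup.mem_sup_left hs⟩ * ⟨x, hxH⟩) = e (⟨x, hxH⟩ * ⟨s, Subgroup.mem_sup_left hs⟩) := by
      rw [map_mul, map_mul, hj, hxe, DihedralGroup.r_mul_r, DihedralGroup.r_mul_r, add_comm]
    exact congrArg Subtype.val (e.injective this)
  · right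
    refine ⟨h2, fun s hs => ?_⟩
    obtain ⟨j, hj⟩ := hev s hs (Subgroup.mem_sup_left hs)
    have : e (⟨x, hxH⟩ * ⟨s, Subgroup.mem_sup_left hs⟩ * (⟨x, hxH⟩)⁻¹) = e (⟨s, Subgroup.mem_sup_left hs⟩)⁻¹ := by
      rw [map_mul, map_mul, map_inv, map_inv, hj, hxe, DihedralGroup.inv_sr, DihedralGroup.inv_r,
        DihedralGroup.sr_mul_r, DihedralGroup.sr_mul_sr, sub_add_cancel_left]
    exact congrArg Subtype.val (e.injective this)

theorem zero_lt_pow {y : G} {m k : ℕ} (h : orderOf y = p ^ k * m) : orderOf (y ^ p ^ k) = m := by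
  rw [orderOf_pow' y (pow_ne_zero _ (Fact.out : p.Prime).ne_zero), h, Nat.gcd_mul_right_left,
    Nat.mul_div_cancel_left _ (pow_pos (Fact.out : p.Prime).pos k)]

/-- `G` has a normal `p`-complement containing all `p'`-elements, so these centralize what they normalize. -/
theorem commute_of_burnside (P : Sylow p G)
    (hP : Subgroup.normalizer ((P : Subgroup G) : Set G) ≤ Subgroup.centralizer ((P : Subgroup G) : Set G))
    {S : Subgroup G} (hS : IsPGroup p S) {x : G} (hxS : x ∈ Subgroup.normalizer (S : Set G))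
    (hx : ¬ p ∣ orderOf x) : ∀ s ∈ S, Commute s x := by
  intro s hs
  set f := MonoidHom.transferSylow P hP with hf
  have hxK : x ∈ f.ker := by
    rw [MonoidHom.mem_ker, ← orderOf_eq_one_iff]
    obtain ⟨k, hk⟩ := IsPGroup.iff_orderOf.1 P.isPGroup' (f x)
    refine Nat.eq_one_of_dvd_coprimes (((Nat.Prime.coprime_iff_not_dvd Fact.out).2 hx).pow_left k) hk.dvd ?_
    exact orderOf_map_dvd f x
  have h1 : s * x * s⁻¹ * x⁻¹ ∈ f.ker :=
    Subgroup.mul_mem _ ((MonoidHom.normal_ker f).conj_mem _ hxK _) (Subgroup.inv_mem _ hxK)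
  have h2 : s * x * s⁻¹ * x⁻¹ ∈ S := by
    have := S.mul_mem hs ((Subgroup.mem_normalizer_iff.1 hxS _).1 (S.inv_mem hs))
    simpa [mul_assoc] using this
  have h3 := (MonoidHom.ker_transferSylow_disjoint P hP S hS).le_bot ⟨h1, h2⟩
  rw [Subgroup.mem_bot, mul_inv_eq_one, mul_inv_eq_iff_eq_mul] at h3
  exact h3

/-- The subgroup of order `p` of a cyclic `p`-group. -/
theorem exists_order_p {S : Subgroup G} (hS : IsPGroup p S) (hS1 : S ≠ ⊥) :
    ∃ Q : Subgroup G, Q ≤ S ∧ Nat.card Q = p := by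
  obtain ⟨k, hk⟩ := IsPGroup.iff_card.1 hS
  have hpd : p ∣ Nat.card S := by
    rw [hk]
    refine dvd_pow_self p ?_
    rintro rfl
    exact hS1 (Subgroup.card_eq_one.1 (by rw [hk, pow_zero]))
  obtain ⟨z, hz⟩ := exists_prime_orderOf_dvd_card' p hpd
  exact ⟨Subgroup.zpowers (z : G), Subgroup.zpowers_le.2 z.2, by rw [Nat.card_zpowers, Subgroup.orderOf_coe, hz]⟩

theorem eq_of_card_eq_cyclic {S A B : Subgroup G} [IsCyclic S] (hA : A ≤ S) (hB : B ≤ S)
    (h : Nat.card A = Nat.card B) : A = B := by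
  have key : ∀ C : Subgroup G, C ≤ S → ∀ x ∈ S, x ^ Nat.card C = 1 → x ∈ C := by
    intro C hC x hx hx1
    haveI : Fintype S := Fintype.ofFinite S
    classical
    obtain ⟨g, hg⟩ := IsCyclic.exists_generator (α := S)
    have hsub : (Finset.univ.filter fun a : S => (a : G) ∈ C) ⊆ Finset.univ.filter fun a : S => a ^ Nat.card C = 1 := by
      intro a ha
      simp only [Finset.mem_filter, Finset.mem_univ, true_and] at ha ⊢
      refine Subtype.ext ?_
      rw [Subgroup.coe_pow, Subgroup.coe_one]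
      exact congrArg Subtype.val (pow_card_eq_one' (x := (⟨(a : G), ha⟩ : C)))
    have hle : (Finset.univ.filter fun a : S => a ^ Nat.card C = 1).card ≤ Nat.card C :=
      IsCyclic.card_pow_eq_one_le Nat.card_pos
    have hcC : (Finset.univ.filter fun a : S => (a : G) ∈ C).card = Nat.card C := by
      rw [← Fintype.card_subtype, ← Nat.card_eq_fintype_card]
      exact Nat.card_congr { toFun := fun a => ⟨a.1.1, a.2⟩, invFun := fun c => ⟨⟨c.1, hC c.2⟩, c.2⟩,
                             left_inv := fun _ => rfl, right_inv := fun _ => rfl }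
    have heq := Finset.eq_of_subset_of_card_le hsub (hle.trans hcC.ge)
    have hxm : (⟨x, hx⟩ : S) ∈ Finset.univ.filter fun a : S => a ^ Nat.card C = 1 :=
      Finset.mem_filter.2 ⟨Finset.mem_univ _, Subtype.ext (by rw [Subgroup.coe_pow]; exact hx1)⟩
    rw [← heq] at hxm
    exact (Finset.mem_filter.1 hxm).2
  refine le_antisymm (fun x hx => key B hB x (hA hx) ?_) (fun x hx => key A hA x (hB hx) ?_)
  · rw [← h]; exact congrArg Subtype.val (pow_card_eq_one' (x := (⟨x, hx⟩ : A)))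
  · rw [h]; exact congrArg Subtype.val (pow_card_eq_one' (x := (⟨x, hx⟩ : B)))

theorem le_cent_of_cyclic {S Q : Subgroup G} [IsCyclic S] (hQ : Q ≤ S) : S ≤ Subgroup.centralizer (Q : Set G) :=
  fun _ hs => Subgroup.mem_centralizer_iff.2 fun _ hq => Subgroup.mul_comm_of_mem_isMulCommutative S (hQ hq) hs

theorem converse (hp : p ≠ 2) (P : Sylow p G) [IsCyclic (P : Subgroup G)]
    (hcase : Subgroup.normalizer ((P : Subgroup G) : Set G) ≤ Subgroup.centralizer ((P : Subgroup G) : Set G) ∨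
      ∀ Q : Subgroup G, Q ≤ P → Nat.card Q = p → IsMulCommutative ↥(Subgroup.centralizer (Q : Set G)) ∧
          ∀ x : G, x ∈ Subgroup.normalizer (Q : Set G) → x ∉ Subgroup.centralizer (Q : Set G) →
            orderOf x = 2 ∧ ∀ c : G, c ∈ Subgroup.centralizer (Q : Set G) → x * c * x⁻¹ = c⁻¹)
    {S : Subgroup G} (hS : IsPGroup p S) {x : G} (hxS : x ∈ Subgroup.normalizer (S : Set G))
    (hx : ¬ p ∣ orderOf x) :
    IsCyclic ↥(S ⊔ Subgroup.zpowers x) ∨ ∃ n : ℕ, Nonempty (↥(S ⊔ Subgroup.zpowers x) ≃* DihedralGroup (p ^ n)) := by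
  obtain ⟨T, hT⟩ := hS.exists_le_sylow
  obtain ⟨g, hg⟩ := MulAction.exists_smul_eq G T P
  let c : G ≃* G := MulAut.conj g
  have hSP : S.map c.toMonoidHom ≤ (P : Subgroup G) := by
    rintro _ ⟨s, hs, rfl⟩
    rw [← hg, Sylow.coe_subgroup_smul, Subgroup.mem_pointwise_smul_iff_inv_smul_mem]
    simpa [c, MulAut.smul_def, mul_assoc] using hT hs
  haveI hScyc : IsCyclic S := by
    let f : S →* (P : Subgroup G) :=
      { toFun := fun s => ⟨c s, hSP ⟨s, s.2, rfl⟩⟩
        map_one' := Subtype.ext (map_one c)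
        map_mul' := fun a b => Subtype.ext (map_mul c _ _) }
    exact isCyclic_of_injective f fun a b h => Subtype.ext (c.injective (congrArg Subtype.val h))
  rcases hcase with hN | hQ
  · exact Or.inl (isCyclic_sup hS hx (commute_of_burnside P hN hS hxS hx))
  rcases eq_or_ne S ⊥ with rfl | hS1
  · exact Or.inl (isCyclic_sup hS hx fun s hs => by rw [Subgroup.mem_bot.1 hs]; exact Commute.one_left x)
  obtain ⟨Q₀, hQ₀S, hQ₀⟩ := exists_order_p hS hS1
  set Q := Q₀.map c.toMonoidHom with hQdef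
  have hQP : Q ≤ (P : Subgroup G) := (Subgroup.map_mono hQ₀S).trans hSP
  have hQcard : Nat.card Q = p := by rw [hQdef, Subgroup.card_map_of_injective c.injective, hQ₀]
  obtain ⟨hab, hinv⟩ := hQ Q hQP hQcard
  set S' := S.map c.toMonoidHom with hS'
  haveI : IsCyclic S' := isCyclic_of_surjective (Subgroup.equivMapOfInjective S c.toMonoidHom c.injective)
    (MulEquiv.surjective _)
  set x' := c x with hx'
  have hx'S : x' ∈ Subgroup.normalizer (S' : Set G) := Subgroup.le_normalizer_map _ ⟨x, hxS, rfl⟩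
  have hx'Q : x' ∈ Subgroup.normalizer (Q : Set G) := by
    refine Subgroup.mem_normalizer_iff.2 fun q => ?_
    have hQS' : Q ≤ S' := Subgroup.map_mono hQ₀S
    have he : Q.map (MulAut.conj x').toMonoidHom = Q := by
      refine eq_of_card_eq_cyclic (S := S') ?_ hQS' (Subgroup.card_map_of_injective (MulAut.conj x').injective)
      rintro _ ⟨a, ha, rfl⟩
      exact (Subgroup.mem_normalizer_iff.1 hx'S a).1 (hQS' ha)
    constructor
    · intro hq
      exact he.le ⟨q, hq, rfl⟩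
    · intro hq
      obtain ⟨a, ha, hae⟩ := he.ge hq
      exact (MulAut.conj x').injective hae ▸ ha
  have hS'C : S' ≤ Subgroup.centralizer (Q : Set G) :=
    le_cent_of_cyclic (Subgroup.map_mono hQ₀S)
  by_cases hx'C : x' ∈ Subgroup.centralizer (Q : Set G)
  · refine Or.inl (isCyclic_sup hS hx fun s hs => ?_)
    have h1 := Subgroup.mul_comm_of_mem_isMulCommutative (Subgroup.centralizer (Q : Set G))
      (hS'C ⟨s, hs, rfl⟩) hx'C
    refine c.injective ?_
    rw [map_mul, map_mul]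
    exact h1
  right
  obtain ⟨ho, hi⟩ := hinv x' hx'Q hx'C
  have hox : orderOf x = 2 := (MulEquiv.orderOf_eq c x).symm.trans ho
  obtain ⟨⟨s, hs⟩, hgen⟩ := isCyclic_iff_exists_zpowers_eq_top.1 (inferInstance : IsCyclic S)
  obtain ⟨n, hn⟩ := IsPGroup.iff_card.1 hS
  have hos : orderOf s = p ^ n := by
    rw [← hn, ← Subgroup.orderOf_mk s hs, ← Nat.card_zpowers, hgen, Subgroup.card_top]
  haveI : NeZero (p ^ n) := ⟨pow_ne_zero _ (Fact.out : p.Prime).ne_zero⟩
  set H := S ⊔ Subgroup.zpowers x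
  have hsH : s ∈ H := Subgroup.mem_sup_left hs
  have hxH : x ∈ H := Subgroup.mem_sup_right (Subgroup.mem_zpowers x)
  refine ⟨n, (PGroup.dihedralEquivOfGen (a := (⟨s, hsH⟩ : H)) (b := ⟨x, hxH⟩) ?_ ?_ ?_ ?_ ?_).map MulEquiv.symm⟩
  · rw [Subgroup.orderOf_mk, hos]
  · exact Subtype.ext (by rw [Subgroup.coe_pow, Subgroup.coe_one, ← hox]; exact pow_orderOf_eq_one x)
  · refine Subtype.ext (c.injective ?_)
    simp only [Subgroup.coe_mul, Subgroup.coe_inv, map_mul, map_inv]
    exact hi _ (hS'C ⟨s, hs, rfl⟩)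
  · rintro ⟨j, hj⟩
    have hxS0 : x ∈ S := by
      have hj' : s ^ j = x := congrArg Subtype.val hj
      exact hj' ▸ S.zpow_mem hs j
    have := disjoint_zpowers hS hx
    have hmem : x ∈ S ⊓ Subgroup.zpowers x := ⟨hxS0, Subgroup.mem_zpowers x⟩
    rw [this, Subgroup.mem_bot] at hmem
    rw [hmem, orderOf_one] at hox
    exact absurd hox (by omega)
  · rw [card_sup_zpowers hS hxS hx, hn, hox, mul_comm]

theorem act_cases (hp : p ≠ 2) (hL : ∀ H : Subgroup G, Cond p H →
      IsCyclic H ∨ (∃ n : ℕ, Nonempty (H ≃* DihedralGroup (p ^ n))))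
    {S : Subgroup G} (hS : IsPGroup p S) {y : G} (hy : y ∈ Subgroup.normalizer (S : Set G))
    (hcent : ∀ u ∈ Subgroup.normalizer (S : Set G), (∃ k : ℕ, orderOf u = p ^ k) → ∀ s ∈ S, Commute s u) :
    (∀ s ∈ S, Commute s y) ∨
      ∃ k m : ℕ, orderOf y = p ^ k * m ∧ ¬ p ∣ m ∧ orderOf (y ^ p ^ k) = 2 ∧ Inverts (y ^ p ^ k) S ∧ Inverts y S := by
  obtain ⟨k, m, hm, hkm⟩ :=
    Nat.exists_eq_pow_mul_and_not_dvd (orderOf_pos y).ne' p (Fact.out : p.Prime).ne_one
  have hm0 : m ≠ 0 := fun e => hm (e ▸ dvd_zero p)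
  have hx : ¬ p ∣ orderOf (y ^ p ^ k) := by rw [zero_lt_pow hkm]; exact hm
  have hxS := Subgroup.pow_mem _ hy (p ^ k)
  have hu : orderOf (y ^ m) = p ^ k := by
    rw [orderOf_pow' y hm0, hkm, Nat.gcd_mul_left_left, Nat.mul_div_cancel _ (Nat.pos_of_ne_zero hm0)]
  have huc := hcent _ (Subgroup.pow_mem _ hy m) ⟨k, hu⟩
  have hcop : (p ^ k).Coprime m := ((Nat.Prime.coprime_iff_not_dvd Fact.out).2 hm).pow_left k
  rcases invol_of_dihedral hp hS hxS hx (hL _ (cond_sup hS hxS hx)) with h | ⟨h2, hi⟩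
  · left
    intro s hs
    obtain ⟨a, b, hab⟩ : ∃ a b : ℤ, (p ^ k : ℕ) * a + (m : ℤ) * b = 1 :=
      ⟨_, _, by rw [← Nat.gcd_eq_gcd_ab, hcop]; rfl⟩
    have : y = (y ^ p ^ k) ^ a * (y ^ m) ^ b := by
      rw [← zpow_natCast y (p ^ k), ← zpow_natCast y m, ← zpow_mul, ← zpow_mul, ← zpow_add, hab, zpow_one]
    rw [this]
    exact ((h s hs).zpow_right a).mul_right ((huc s hs).zpow_right b)
  · refine Or.inr ⟨k, m, hkm, hm, h2, hi, fun s hs => ?_⟩
    have hm2 : m = 2 := (zero_lt_pow hkm).symm.trans h2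
    subst hm2
    obtain ⟨j, hj⟩ : Odd (p ^ k) := (prime_odd hp).pow
    have : y = y ^ p ^ k * ((y ^ 2) ^ j)⁻¹ := by rw [← pow_mul, hj, pow_succ', mul_inv_cancel_right]
    rw [this]
    have hc := ((huc s hs).pow_right j).inv_right
    calc y ^ p ^ k * ((y ^ 2) ^ j)⁻¹ * s * (y ^ p ^ k * ((y ^ 2) ^ j)⁻¹)⁻¹
        = y ^ p ^ k * (((y ^ 2) ^ j)⁻¹ * s * ((y ^ 2) ^ j)) * (y ^ p ^ k)⁻¹ := by group
      _ = y ^ p ^ k * s * (y ^ p ^ k)⁻¹ := by rw [← hc.eq]; group
      _ = s⁻¹ := hi s hs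

theorem forward (hp : p ≠ 2) (P : Sylow p G) (hL : ∀ H : Subgroup G, Cond p H →
      IsCyclic H ∨ (∃ n : ℕ, Nonempty (H ≃* DihedralGroup (p ^ n)))) :
    IsCyclic P ∧
      (Subgroup.normalizer ((P : Subgroup G) : Set G) = Subgroup.centralizer ((P : Subgroup G) : Set G) ∨
       ((Subgroup.centralizer ((P : Subgroup G) : Set G)).relIndex (Subgroup.normalizer ((P : Subgroup G) : Set G)) = 2 ∧
        ∀ Q : Subgroup G, Q ≤ P → Nat.card Q = p →
          IsMulCommutative ↥(Subgroup.centralizer (Q : Set G)) ∧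
          ∀ x : G, x ∈ Subgroup.normalizer (Q : Set G) → x ∉ Subgroup.centralizer (Q : Set G) →
            orderOf x = 2 ∧ ∀ c : G, c ∈ Subgroup.centralizer (Q : Set G) → x * c * x⁻¹ = c⁻¹)) := by
  have hcyc : IsCyclic (P : Subgroup G) := by
    have h1 : (1 : G) ∈ Subgroup.normalizer ((P : Subgroup G) : Set G) := Subgroup.one_mem _
    have h0 := hL _ (cond_sup P.isPGroup' h1 (by rw [orderOf_one]; exact (Fact.out : p.Prime).not_dvd_one))
    rw [Subgroup.zpowers_one_eq_bot, sup_bot_eq] at h0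
    rcases h0 with h | ⟨n, ⟨e⟩⟩
    · exact h
    · haveI : NeZero (p ^ n) := ⟨pow_ne_zero _ (Fact.out : p.Prime).ne_zero⟩
      obtain ⟨k, hk⟩ := IsPGroup.iff_card.1 P.isPGroup'
      rw [Nat.card_congr e.toEquiv, DihedralGroup.nat_card] at hk
      have := Nat.prime_two.dvd_of_dvd_pow (Dvd.intro _ hk)
      exact absurd ((Nat.prime_dvd_prime_iff_eq Nat.prime_two Fact.out).1 this).symm hp
  refine ⟨hcyc, ?_⟩
  have hPC : ((P : Subgroup G)) ≤ Subgroup.centralizer ((P : Subgroup G) : Set G) :=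
    le_cent_of_cyclic le_rfl
  set N := Subgroup.normalizer ((P : Subgroup G) : Set G) with hN
  set C := Subgroup.centralizer ((P : Subgroup G) : Set G) with hC
  have hCN : C ≤ N := Subgroup.centralizer_le_normalizer _
  have hcases : ∀ y ∈ N, y ∈ C ∨ Inverts y P := by
    intro y hy
    have hc : ∀ u ∈ N, (∃ k : ℕ, orderOf u = p ^ k) → ∀ s ∈ (P : Subgroup G), Commute s u := by
      rintro u hu ⟨k, hk⟩ s hs
      have hp' : IsPGroup p (Subgroup.zpowers u) := IsPGroup.of_card ((Nat.card_zpowers u).trans hk)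
      have hpg : IsPGroup p ↥((P : Subgroup G) ⊔ Subgroup.zpowers u) :=
        IsPGroup.to_sup_of_normal_left' P.isPGroup' hp' (Subgroup.zpowers_le.2 hu)
      have huP : u ∈ (P : Subgroup G) := (P.3 hpg le_sup_left).le (Subgroup.mem_sup_right (Subgroup.mem_zpowers u))
      exact Subgroup.mul_comm_of_mem_isMulCommutative (P : Subgroup G) hs huP
    rcases act_cases hp hL P.isPGroup' hy hc with h | ⟨k, m, -, -, -, -, h⟩
    · exact Or.inl (Subgroup.mem_centralizer_iff.2 fun s hs => (h s hs).eq)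
    · exact Or.inr h
  rcases eq_or_lt_of_le hCN with heq | hlt
  · exact Or.inl heq.symm
  right
  obtain ⟨x, hxN, hxC⟩ := SetLike.exists_of_lt hlt
  have hxi := (hcases x hxN).resolve_left hxC
  refine ⟨?_, fun Q hQP hQ => ?_⟩
  · rw [Subgroup.relIndex, Subgroup.index_eq_two_iff]
    refine ⟨⟨x, hxN⟩, fun b => ?_⟩
    rcases hcases b.1 b.2 with hb | hb
    · refine Or.inr ⟨hb, fun h => hxC ?_⟩
      have := C.mul_mem (C.inv_mem hb) (Subgroup.mem_subgroupOf.1 h)
      simpa using this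
    · refine Or.inl ⟨Subgroup.mem_subgroupOf.2 (Subgroup.mem_centralizer_iff.2 fun s hs => ?_), fun h => hxC ?_⟩
      · have h1 : (b.1 * x) * s * (b.1 * x)⁻¹ = s := by
          calc (b.1 * x) * s * (b.1 * x)⁻¹ = b.1 * (x * s * x⁻¹) * b.1⁻¹ := by group
            _ = b.1 * s⁻¹ * b.1⁻¹ := by rw [hxi s hs]
            _ = (b.1 * s * b.1⁻¹)⁻¹ := by group
            _ = s := by rw [hb s hs, inv_inv]
        exact (mul_inv_eq_iff_eq_mul.1 h1).symm
      · refine Subgroup.mem_centralizer_iff.2 fun s hs => ?_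
        have h1 := hb s hs
        rw [← Subgroup.mem_centralizer_iff.1 (Subgroup.mem_subgroupOf.1 h) s hs, mul_inv_cancel_right] at h1
        rw [eq_one_of_inv_eq hp P.isPGroup' hs h1.symm, one_mul, mul_one]
  -- the subgroup of order `p`
  have hQp : IsPGroup p Q := P.isPGroup'.to_le hQP
  set CQ := Subgroup.centralizer (Q : Set G) with hCQ
  set NQ := Subgroup.normalizer (Q : Set G) with hNQ
  have hcent : ∀ u ∈ NQ, (∃ k : ℕ, orderOf u = p ^ k) → ∀ s ∈ Q, Commute s u := by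
    rintro u hu ⟨k, hk⟩ s hs
    have hp' : IsPGroup p (Subgroup.zpowers u) := IsPGroup.of_card ((Nat.card_zpowers u).trans hk)
    have hpg : IsPGroup p ↥(Q ⊔ Subgroup.zpowers u) :=
      IsPGroup.to_sup_of_normal_left' hQp hp' (Subgroup.zpowers_le.2 hu)
    obtain ⟨T, hT⟩ := hpg.exists_le_sylow
    obtain ⟨g, hg⟩ := MulAction.exists_smul_eq G P T
    have hconj : ∀ a ∈ (T : Subgroup G), g⁻¹ * a * g ∈ (P : Subgroup G) := fun a ha => by
      rw [← hg, Sylow.coe_subgroup_smul, Subgroup.mem_pointwise_smul_iff_inv_smul_mem] at ha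
      simpa [MulAut.smul_def, mul_assoc] using ha
    have h1 := Subgroup.mul_comm_of_mem_isMulCommutative (P : Subgroup G) (hconj s (hT (Subgroup.mem_sup_left hs)))
      (hconj u (hT (Subgroup.mem_sup_right (Subgroup.mem_zpowers u))))
    calc s * u = g * ((g⁻¹ * s * g) * (g⁻¹ * u * g)) * g⁻¹ := by group
      _ = g * ((g⁻¹ * u * g) * (g⁻¹ * s * g)) * g⁻¹ := by rw [h1]
      _ = u * s := by group
  obtain ⟨q₀, hq₀, hq1⟩ : ∃ q ∈ Q, q ≠ (1 : G) := by
    by_contra hcon
    push Not at hcon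
    have : Q = ⊥ := (Subgroup.eq_bot_iff_forall _).2 hcon
    rw [this, Subgroup.card_bot] at hQ
    exact (Fact.out : p.Prime).ne_one hQ.symm
  have hout : ∀ y ∈ NQ, y ∉ CQ → orderOf y = 2 := by
    intro y hy hyC
    rcases act_cases hp hL hQp hy hcent with h | ⟨k, m, hkm, hm, h2, hi, -⟩
    · exact absurd (Subgroup.mem_centralizer_iff.2 fun s hs => (h s hs).eq) hyC
    have hm2 : m = 2 := (zero_lt_pow hkm).symm.trans h2
    subst hm2
    suffices k = 0 by rw [hkm, this, pow_zero, one_mul]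
    by_contra hk0
    -- an element of order `p` commuting with the inverting involution
    set u := y ^ (2 * p ^ (k - 1)) with hu
    have hdvd : 2 * p ^ (k - 1) ∣ orderOf y := by
      rw [hkm, mul_comm (p ^ k)]
      exact Nat.mul_dvd_mul_left 2 (pow_dvd_pow p (Nat.sub_le k 1))
    have hou : orderOf u = p := by
      rw [hu, orderOf_pow_of_dvd (Nat.mul_ne_zero two_ne_zero (pow_ne_zero _ (Fact.out : p.Prime).ne_zero)) hdvd, hkm]
      conv_lhs => rw [show k = k - 1 + 1 by omega, pow_succ, Nat.add_sub_cancel]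
      rw [show p ^ (k - 1) * p * 2 = p * (2 * p ^ (k - 1)) by ring,
        Nat.mul_div_cancel _ (Nat.mul_pos two_pos (pow_pos (Fact.out : p.Prime).pos _))]
    have huN : u ∈ NQ := Subgroup.pow_mem _ hy _
    have hp' : IsPGroup p (Subgroup.zpowers u) := IsPGroup.of_card (n := 1) (by rw [Nat.card_zpowers, hou, pow_one])
    obtain ⟨T, hT⟩ := (IsPGroup.to_sup_of_normal_left' hQp hp' (Subgroup.zpowers_le.2 huN)).exists_le_sylow
    haveI : IsCyclic (T : Subgroup G) := isCyclic_of_surjective (P.equiv T) (MulEquiv.surjective _)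
    have hQu : Q = Subgroup.zpowers u := eq_of_card_eq_cyclic (S := (T : Subgroup G))
      (le_sup_left.trans hT) (le_sup_right.trans hT) (by rw [hQ, Nat.card_zpowers, hou])
    have hcomm : Commute q₀ (y ^ p ^ k) := by
      obtain ⟨j, hj⟩ := hQu.le hq₀
      rw [← hj]
      exact ((Commute.refl y).pow_pow _ _).zpow_left j
    have h1 := hi q₀ hq₀
    rw [← hcomm.eq, mul_inv_cancel_right] at h1
    exact hq1 (eq_one_of_inv_eq hp hQp hq₀ h1.symm)
  have hxQ : x ∈ NQ ∧ x ∉ CQ := by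
    have hxQ' : ∀ q ∈ Q, x * q * x⁻¹ = q⁻¹ := fun q hq => hxi q (hQP hq)
    refine ⟨Coprime.mem_normalizer_of_forall fun q hq => ?_, fun h => hq1 ?_⟩
    · rw [hxQ' q hq]; exact Q.inv_mem hq
    · have h1 := hxQ' q₀ hq₀
      rw [← Subgroup.mem_centralizer_iff.1 h q₀ hq₀, mul_inv_cancel_right] at h1
      exact eq_one_of_inv_eq hp hQp hq₀ h1.symm
  have hinv : ∀ y ∈ NQ, y ∉ CQ → ∀ c ∈ CQ, y * c * y⁻¹ = c⁻¹ := by
    intro y hy hyC c hc
    have hc' : c ∈ NQ := Subgroup.centralizer_le_normalizer _ hc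
    have hyc : y * c ∉ CQ := fun h => hyC (by simpa using CQ.mul_mem h (CQ.inv_mem hc))
    have h1 := hout y hy hyC
    have h2 := hout (y * c) (NQ.mul_mem hy hc') hyc
    have e1 : y * y = 1 := by rw [← pow_two, ← h1, pow_orderOf_eq_one]
    have e2 : y * c * (y * c) = 1 := by rw [← pow_two, ← h2, pow_orderOf_eq_one]
    rw [show y⁻¹ = y from inv_eq_of_mul_eq_one_left e1, eq_inv_iff_mul_eq_one]
    rw [mul_assoc (y * c)]
    exact e2
  refine ⟨⟨⟨fun a b => Subtype.ext ?_⟩⟩, fun y hy hyC => ⟨hout y hy hyC, hinv y hy hyC⟩⟩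
  have ha := hinv x hxQ.1 hxQ.2 _ a.2
  have hb := hinv x hxQ.1 hxQ.2 _ b.2
  have hab := hinv x hxQ.1 hxQ.2 _ (CQ.mul_mem a.2 b.2)
  have h3 : x * ((a : G) * b) * x⁻¹ = (a : G)⁻¹ * (b : G)⁻¹ := by rw [← ha, ← hb]; group
  rw [h3, mul_inv_rev] at hab
  have h4 := congrArg (·⁻¹) hab
  simp only [mul_inv_rev, inv_inv] at h4
  simp only [Subgroup.coe_mul]
  exact h4.symm

end

/-- Let p be an odd prime and G a finite group with Sylow p-subgroup P. Say that G has restricted p-by-cyclic subgroups when every subgroup H of G whose Sylow p-subgroup is normal in H with cyclic quotient is itself cyclic or dihedral of order 2pⁿ for some n. Then G has restricted p-by-cyclic subgroups if and only if P is cyclic and one of the following holds: (1) N_G(P) = C_G(P); or (2) N_G(P)/C_G(P) has order 2 and, for the subgroup Q of order p of P, the centralizer C_G(Q) is abelian and every element of N_G(Q) outside C_G(Q) is an involution inverting every element of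 C_G(Q). -/
theorem result {G : Type*} [Group G] [Finite G] {p : ℕ}
    [Fact p.Prime] (hp : p ≠ 2) (P : Sylow p G) :
    (∀ H : Subgroup G, (∀ S : Sylow p ↥H, (S : Subgroup ↥H).Normal) →
        (∀ (S : Sylow p ↥H) [(S : Subgroup ↥H).Normal], IsCyclic (↥H ⧸ (S : Subgroup ↥H))) →
        IsCyclic H ∨ (∃ n : ℕ, Nonempty (H ≃* DihedralGroup (p ^ n)))) ↔
    (IsCyclic P ∧
      (Subgroup.normalizer ((P : Subgroup G) : Set G) = Subgroup.centralizer ((P : Subgroup G) : Set G) ∨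
       ((Subgroup.centralizer ((P : Subgroup G) : Set G)).relIndex (Subgroup.normalizer ((P : Subgroup G) : Set G)) = 2 ∧
        ∀ Q : Subgroup G, Q ≤ P → Nat.card Q = p →
          IsMulCommutative ↥(Subgroup.centralizer (Q : Set G)) ∧
          ∀ x : G, x ∈ Subgroup.normalizer (Q : Set G) → x ∉ Subgroup.centralizer (Q : Set G) →
            orderOf x = 2 ∧ ∀ c : G, c ∈ Subgroup.centralizer (Q : Set G) → x * c * x⁻¹ = c⁻¹))) := by
  constructor
  · intro h
    exact forward hp P fun H hH => h H hH.1 hH.2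
  · rintro ⟨hcyc, hcase⟩ H h1 h2
    haveI := hcyc
    obtain ⟨S, x, hS, hxS, hx, rfl⟩ := PByCyclic.Cond.exists_gen ⟨h1, h2⟩
    exact converse hp P (hcase.imp (fun e => e.le) And.right) hS hxS hx

end Cfsg.Agent.S4082
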