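import Cfsg.Statements.S4083
import Cfsg.Agent.EqLemmas
import Cfsg.Agent.Lib.PByCyclic.Basic
import Cfsg.Agent.Lib.PGroup.CyclicMaximal
import Cfsg.Agent.Lib.Transfer.Dihedral
import Cfsg.Agent.Lib.PSL2.Groups
import Cfsg.Agent.Lib.PSL2.Facts
import Cfsg.Agent.Lib.SylowLift.Solvable

set_option autoImplicit false
open Cfsg

namespace Cfsg.Agent.S4083

open Cfsg.Agent.PByCyclic

section

/-- Few elements commute with a reflection. -/
theorem card_commute_sr (n : ℕ) (i : ZMod (2 ^ n)) :
    Nat.card {d : DihedralGroup (2 ^ n) // Commute d (DihedralGroup.sr i)} ≤ 4 := by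
  classical
  haveI : NeZero (2 ^ n) := ⟨pow_ne_zero _ two_ne_zero⟩
  have h2 : Nat.card {j : ZMod (2 ^ n) // j + j = 0} ≤ 2 := by
    rw [Nat.card_eq_fintype_card, Fintype.card_subtype]
    refine le_trans (le_of_eq (congrArg _ (Finset.filter_congr fun j _ => ?_))) (IsAddCyclic.card_nsmul_eq_zero_le two_pos)
    rw [two_nsmul]
  let f : {d : DihedralGroup (2 ^ n) // Commute d (DihedralGroup.sr i)} →
      {j : ZMod (2 ^ n) // j + j = 0} ⊕ {j : ZMod (2 ^ n) // j + j = 0} := fun d =>
    match d with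
    | ⟨DihedralGroup.r j, hd⟩ => Sum.inl ⟨j, by
        have := hd.eq
        rw [DihedralGroup.r_mul_sr, DihedralGroup.sr_mul_r, DihedralGroup.sr.injEq] at this
        linear_combination -this⟩
    | ⟨DihedralGroup.sr j, hd⟩ => Sum.inr ⟨j - i, by
        have := hd.eq
        rw [DihedralGroup.sr_mul_sr, DihedralGroup.sr_mul_sr, DihedralGroup.r.injEq] at this
        linear_combination -this⟩
  refine (Nat.card_le_card_of_injective f ?_).trans ?_
  · rintro ⟨a | a, ha⟩ ⟨b | b, hb⟩ h <;> simp [f] at h ⊢ <;> exact h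
  · rw [Nat.card_sum]
    omega

/-- Subgroups of dihedral 2-groups: cyclic, or dihedral and containing a four group. -/
theorem sub_dihedral {n : ℕ} (Q : Subgroup (DihedralGroup (2 ^ n))) :
    IsCyclic Q ∨ ((∃ j, Nonempty (Q ≃* DihedralGroup (2 ^ j))) ∧
      ∃ K : Subgroup (DihedralGroup (2 ^ n)), K ≤ Q ∧ Nat.card K = 4 ∧ ∀ k ∈ K, k ^ 2 = 1) := by
  haveI : NeZero (2 ^ n) := ⟨pow_ne_zero _ two_ne_zero⟩
  set A : Subgroup (DihedralGroup (2 ^ n)) := Subgroup.zpowers (DihedralGroup.r 1) with hA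
  have hAm : ∀ i, DihedralGroup.r i ∈ A := fun i => by
    rw [← ZMod.natCast_zmod_val i, ← DihedralGroup.r_one_pow]
    exact Subgroup.pow_mem _ (Subgroup.mem_zpowers _) _
  haveI : IsCyclic A := by rw [hA]; infer_instance
  by_cases hQA : Q ≤ A
  · exact Or.inl (isCyclic_of_injective (Subgroup.inclusion hQA) (Subgroup.inclusion_injective _))
  obtain ⟨b, hbQ, hbA⟩ := SetLike.not_le_iff_exists.1 hQA
  obtain ⟨i, rfl⟩ : ∃ i, b = DihedralGroup.sr i := by
    rcases b with i | i
    · exact absurd (hAm i) hbA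
    · exact ⟨i, rfl⟩
  haveI : IsCyclic ↥(Q ⊓ A) :=
    isCyclic_of_injective (Subgroup.inclusion (inf_le_right : Q ⊓ A ≤ A)) (Subgroup.inclusion_injective _)
  obtain ⟨⟨a, ha⟩, hgen⟩ := isCyclic_iff_exists_zpowers_eq_top.1 (inferInstance : IsCyclic ↥(Q ⊓ A))
  obtain ⟨j, hj⟩ : ∃ j, a = DihedralGroup.r j := by
    obtain ⟨k, hk⟩ := ha.2
    exact ⟨_, hk.symm.trans (DihedralGroup.r_one_zpow k)⟩
  have hmem : ∀ x ∈ Q ⊓ A, x ∈ Subgroup.zpowers a := fun x hx => by
    obtain ⟨k, hk⟩ := hgen.ge (Subgroup.mem_top (⟨x, hx⟩ : ↥(Q ⊓ A)))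
    exact ⟨k, congrArg Subtype.val hk⟩
  obtain ⟨k, hk⟩ : ∃ k, orderOf a = 2 ^ k := by
    have hd : IsPGroup 2 (DihedralGroup (2 ^ n)) := IsPGroup.of_card (n := n + 1) (by rw [DihedralGroup.nat_card, pow_succ'])
    exact IsPGroup.iff_orderOf.1 hd a
  have hcard : Nat.card Q = 2 * 2 ^ k := by
    have hidx : (A.subgroupOf Q).index = 2 := by
      rw [Subgroup.index_eq_two_iff]
      refine ⟨⟨_, hbQ⟩, fun x => ?_⟩
      rcases hx : x.1 with l | l
      · refine Or.inr ⟨Subgroup.mem_subgroupOf.2 (hx ▸ hAm l), fun h => hbA ?_⟩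
        have h1 : DihedralGroup.r l * DihedralGroup.sr i ∈ A := by
          have := Subgroup.mem_subgroupOf.1 h
          rwa [Subgroup.coe_mul, hx] at this
        exact (Subgroup.mul_mem_cancel_left _ (hAm l)).1 h1
      · refine Or.inl ⟨Subgroup.mem_subgroupOf.2 ?_, fun h => ?_⟩
        · rw [Subgroup.coe_mul, hx, DihedralGroup.sr_mul_sr]
          exact hAm _
        · have h1 : DihedralGroup.sr l ∈ A := hx ▸ Subgroup.mem_subgroupOf.1 h
          obtain ⟨m, hm⟩ := h1
          have := (DihedralGroup.r_one_zpow m).symm.trans hm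
          exact absurd this (by simp)
    have e : Nat.card (A.subgroupOf Q) = 2 ^ k := by
      rw [← hk, ← Nat.card_zpowers]
      exact Nat.card_congr
        { toFun := fun x => ⟨x.1.1, hmem _ ⟨x.1.2, x.2⟩⟩
          invFun := fun y => ⟨⟨y.1, (Subgroup.zpowers_le.2 ha y.2).1⟩, (Subgroup.zpowers_le.2 ha y.2).2⟩
          left_inv := fun _ => rfl
          right_inv := fun _ => rfl }
    rw [← Subgroup.card_mul_index (A.subgroupOf Q), hidx, e, mul_comm]
  rcases Nat.eq_zero_or_pos k with rfl | hk0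
  · left
    haveI := Fact.mk Nat.prime_two
    exact isCyclic_of_prime_card (p := 2) (by simpa using hcard)
  right
  haveI : NeZero (2 ^ k) := ⟨pow_ne_zero _ two_ne_zero⟩
  subst hj
  have hinv : DihedralGroup.sr i * DihedralGroup.r j * (DihedralGroup.sr i)⁻¹ = (DihedralGroup.r j)⁻¹ := by
    rw [DihedralGroup.inv_sr, DihedralGroup.inv_r, DihedralGroup.sr_mul_r, DihedralGroup.sr_mul_sr, sub_add_cancel_left]
  constructor
  · refine ⟨k, (PGroup.dihedralEquivOfGen (a := (⟨_, ha.1⟩ : Q)) (b := ⟨_, hbQ⟩)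
      ((Subgroup.orderOf_mk _ _).trans hk) (Subtype.ext ?_) (Subtype.ext hinv) ?_ hcard).map MulEquiv.symm⟩
    · rw [Subgroup.coe_pow, pow_two]
      exact DihedralGroup.sr_mul_self i
    · rintro ⟨m, hm⟩
      have hm' : (DihedralGroup.r j : DihedralGroup (2 ^ n)) ^ m = DihedralGroup.sr i := congrArg Subtype.val hm
      exact hbA (hm' ▸ A.zpow_mem (hAm j) m)
  · set z := (DihedralGroup.r j : DihedralGroup (2 ^ n)) ^ 2 ^ (k - 1) with hz
    have hoz : orderOf z = 2 := by
      rw [hz, orderOf_pow_of_dvd (pow_ne_zero _ two_ne_zero) (hk ▸ pow_dvd_pow 2 (Nat.sub_le k 1)), hk,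
        Nat.pow_div (Nat.sub_le k 1) two_pos, show k - (k - 1) = 1 by omega, pow_one]
    set s := (DihedralGroup.sr i : DihedralGroup (2 ^ n)) with hs
    have hs2 : s * s = 1 := DihedralGroup.sr_mul_self i
    have hz2 : z * z = 1 := by
      have h := pow_orderOf_eq_one z
      rwa [hoz, pow_two] at h
    have hcomm : s * z = z * s := by
      have h1 : s * z * s⁻¹ = z⁻¹ := by rw [hz, ← conj_pow, hinv, inv_pow]
      rw [inv_eq_of_mul_eq_one_right hz2] at h1
      exact mul_inv_eq_iff_eq_mul.1 h1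
    have hne : z ≠ s := fun e => hbA (e ▸ A.pow_mem (hAm j) _)
    have hz1 : z ≠ 1 := fun e => by rw [e, orderOf_one] at hoz; omega
    have hs1 : s ≠ 1 := fun e => hbA (e ▸ A.one_mem)
    let K : Subgroup (DihedralGroup (2 ^ n)) :=
      { carrier := {x | x = 1 ∨ x = z ∨ x = s ∨ x = z * s}
        one_mem' := Or.inl rfl
        mul_mem' := by
          have t1 : z * (z * s) = s := by rw [← mul_assoc, hz2, one_mul]
          have t3 : z * s * z = s := by rw [mul_assoc, hcomm, t1]
          have t4 : z * s * s = z := by rw [mul_assoc, hs2, mul_one]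
          have t2 : s * (z * s) = z := by rw [← mul_assoc, hcomm, t4]
          have t5 : z * s * (z * s) = 1 := by rw [mul_assoc, t2, hz2]
          intro x y hx hy
          rcases hx with hx | hx | hx | hx <;> rcases hy with hy | hy | hy | hy <;>
            (show x * y = 1 ∨ x * y = z ∨ x * y = s ∨ x * y = z * s
             rw [hx, hy]
             first
               | exact Or.inl (by first | exact one_mul _ | exact hz2 | exact hs2 | exact t5)
               | exact Or.inr (Or.inl (by first | exact one_mul _ | exact mul_one _ | exact t4 | exact t2))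
               | exact Or.inr (Or.inr (Or.inl (by first | exact one_mul _ | exact mul_one _ | exact t1 | exact t3)))
               | exact Or.inr (Or.inr (Or.inr (by first | exact one_mul _ | exact mul_one _ | exact hcomm | rfl))))
        inv_mem' := by
          rintro x (rfl | rfl | rfl | rfl)
          · simp
          · right; left; exact inv_eq_of_mul_eq_one_right hz2
          · right; right; left; exact inv_eq_of_mul_eq_one_right hs2
          · right; right; right
            refine inv_eq_of_mul_eq_one_right ?_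
            rw [mul_assoc, ← mul_assoc s, hcomm, mul_assoc, hs2, mul_one, hz2] }
    refine ⟨K, ?_, ?_, ?_⟩
    · rintro x (rfl | rfl | rfl | rfl)
      · exact Q.one_mem
      · exact Q.pow_mem ha.1 _
      · exact hbQ
      · exact Q.mul_mem (Q.pow_mem ha.1 _) hbQ
    · show Nat.card ↥({x | x = 1 ∨ x = z ∨ x = s ∨ x = z * s} : Set (DihedralGroup (2 ^ n))) = 4
      rw [Nat.card_coe_set_eq]
      have : ({x | x = 1 ∨ x = z ∨ x = s ∨ x = z * s} : Set (DihedralGroup (2 ^ n))) = {1, z, s, z * s} := by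
        ext x; simp
      rw [this, Set.ncard_insert_of_notMem, Set.ncard_insert_of_notMem, Set.ncard_pair]
      · exact fun e => hz1 (mul_eq_right.1 e.symm)
      · simp only [Set.mem_insert_iff, Set.mem_singleton_iff, not_or]
        exact ⟨hne, fun e => hs1 (mul_eq_left.1 e.symm)⟩
      · simp only [Set.mem_insert_iff, Set.mem_singleton_iff, not_or]
        refine ⟨fun e => hz1 e.symm, fun e => hs1 e.symm, fun e => hne ?_⟩
        rw [eq_inv_of_mul_eq_one_left e.symm, inv_eq_of_mul_eq_one_right hs2]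
    · rintro x (rfl | rfl | rfl | rfl) <;> rw [pow_two]
      · rw [one_mul]
      · exact hz2
      · exact hs2
      · rw [mul_assoc, ← mul_assoc s, hcomm, mul_assoc, hs2, mul_one, hz2]

variable {G : Type*} [Group G] [Finite G]

theorem not_cyclic_four {K : Subgroup G} (hK : Nat.card K = 4) (h2 : ∀ k ∈ K, k ^ 2 = 1) {H : Subgroup G}
    (hKH : K ≤ H) : ¬ IsCyclic H := fun hH => by
  haveI : IsCyclic K := isCyclic_of_injective (Subgroup.inclusion hKH) (Subgroup.inclusion_injective _)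
  obtain ⟨g, hg⟩ := IsCyclic.exists_ofOrder_eq_natCard (α := K)
  have := orderOf_dvd_of_pow_eq_one (Subtype.ext (h2 g g.2) : g ^ 2 = 1)
  rw [hg, hK] at this
  exact absurd this (by decide)

theorem eq_one_of_odd {x : G} {S : Subgroup G} (hS : IsPGroup 2 S) (hx : ¬ 2 ∣ orderOf x) (h : x ∈ S) : x = 1 := by
  haveI := Fact.mk Nat.prime_two
  have : x ∈ S ⊓ Subgroup.zpowers x := ⟨h, Subgroup.mem_zpowers x⟩
  rwa [disjoint_zpowers hS hx, Subgroup.mem_bot] at this

theorem forward (P : Sylow 2 G) (hL : ∀ H : Subgroup G, Cond 2 H →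
        IsCyclic H ∨ (∃ n : ℕ, Nonempty (H ≃* DihedralGroup (2 ^ n))) ∨ Nonempty (H ≃* alternatingGroup (Fin 4))) :
    IsCyclic P ∨
      ((∃ n : ℕ, 1 ≤ n ∧ Nonempty ((P : Subgroup G) ≃* DihedralGroup (2 ^ n))) ∧
        ∀ K : Subgroup G, K ≤ P → Nat.card K = 4 → (∀ k ∈ K, k ^ 2 = 1) → Subgroup.centralizer (K : Set G) = K) := by
  haveI := Fact.mk Nat.prime_two
  have h0 := hL _ (cond_sup P.isPGroup' (Subgroup.one_mem _) (by rw [orderOf_one]; exact Nat.prime_two.not_dvd_one))
  rw [Subgroup.zpowers_one_eq_bot, sup_bot_eq] at h0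
  obtain ⟨k, hk⟩ := IsPGroup.iff_card.1 P.isPGroup'
  rcases h0 with h | ⟨n, ⟨e⟩⟩ | he
  · exact Or.inl h
  swap
  · obtain ⟨e⟩ := he
    rw [Nat.card_congr e.toEquiv, PSL2.card_alt_four] at hk
    exact absurd (Nat.prime_three.dvd_of_dvd_pow (Dvd.intro 4 hk : 3 ∣ 2 ^ k)) (by decide)
  rcases Nat.eq_zero_or_pos n with rfl | hn
  · left
    exact isCyclic_of_prime_card (p := 2) (by rw [Nat.card_congr e.toEquiv, DihedralGroup.nat_card, pow_zero, mul_one])
  right
  refine ⟨⟨n, hn, ⟨e⟩⟩, fun K hKP hK h2 => ?_⟩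
  set C := Subgroup.centralizer (K : Set G) with hC
  have hKC : K ≤ C := fun x hx => Subgroup.mem_centralizer_iff.2 fun y hy => by
    have hxy := h2 _ (K.mul_mem hy hx)
    rw [pow_two] at hxy
    calc y * x = (y * x)⁻¹ := (inv_eq_of_mul_eq_one_right hxy).symm
      _ = x⁻¹ * y⁻¹ := mul_inv_rev y x
      _ = x * y := by
        rw [inv_eq_of_mul_eq_one_right (by rw [← pow_two]; exact h2 x hx),
          inv_eq_of_mul_eq_one_right (by rw [← pow_two]; exact h2 y hy)]
  have hKp : IsPGroup 2 K := P.isPGroup'.to_le hKP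
  -- no element of odd order centralizes `K`
  have hodd : ∀ x ∈ C, ¬ 2 ∣ orderOf x → x = 1 := by
    intro x hxC hx
    have hc : ∀ s ∈ K, Commute s x := fun s hs => Subgroup.mem_centralizer_iff.1 hxC s hs
    have hxN : x ∈ Subgroup.normalizer (K : Set G) := Subgroup.centralizer_le_normalizer _ hxC
    have hcard := card_sup_zpowers hKp hxN hx
    rcases hL _ (cond_sup hKp hxN hx) with h | ⟨m, ⟨e'⟩⟩ | he'
    · exact absurd h (not_cyclic_four hK h2 le_sup_left)
    · rw [Nat.card_congr e'.toEquiv, DihedralGroup.nat_card, hK, ← pow_succ'] at hcard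
      obtain ⟨l, -, hl⟩ := (Nat.dvd_prime_pow Nat.prime_two).1 (Dvd.intro_left _ hcard.symm : orderOf x ∣ 2 ^ (m + 1))
      rw [hl] at hx
      rcases Nat.eq_zero_or_pos l with rfl | hl0
      · exact orderOf_eq_one_iff.1 hl
      · exact absurd (dvd_pow_self 2 hl0.ne') hx
    · exfalso
      obtain ⟨e'⟩ := he'
      have hcomm : ∀ a b : ↥(K ⊔ Subgroup.zpowers x), a * b = b * a := by
        have hgen : ∀ y ∈ K ⊔ Subgroup.zpowers x, ∀ z ∈ K ⊔ Subgroup.zpowers x, Commute y z := by
          have hle1 : K ⊔ Subgroup.zpowers x ≤ Subgroup.centralizer ((K : Set G) ∪ {x}) := by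
            refine sup_le (fun y hy => ?_) (Subgroup.zpowers_le.2 ?_)
            · refine Subgroup.mem_centralizer_iff.2 ?_
              rintro z (hz | rfl)
              · exact Subgroup.mem_centralizer_iff.1 (hKC hy) z hz
              · exact (hc y hy).eq.symm
            · refine Subgroup.mem_centralizer_iff.2 ?_
              rintro z (hz | rfl)
              · exact (hc z hz).eq
              · rfl
          intro y hy z hz
          have hle2 : K ⊔ Subgroup.zpowers x ≤ Subgroup.centralizer ({y} : Set G) := by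
            refine sup_le (fun w hw => ?_) (Subgroup.zpowers_le.2 ?_) <;> rw [Subgroup.mem_centralizer_singleton_iff]
            · exact Subgroup.mem_centralizer_iff.1 (hle1 hy) w (Or.inl hw)
            · exact Subgroup.mem_centralizer_iff.1 (hle1 hy) x (Or.inr rfl)
          exact (Subgroup.mem_centralizer_singleton_iff.1 (hle2 hz)).symm
        exact fun a b => Subtype.ext (hgen a a.2 b b.2)
      have h4 : ∃ a b : alternatingGroup (Fin 4), a * b ≠ b * a := by decide
      obtain ⟨a, b, hab⟩ := h4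
      exact hab (e'.symm.injective (by rw [map_mul, map_mul, hcomm]))
  have hC2 : IsPGroup 2 C := by
    intro g
    obtain ⟨l, m, hm, hlm⟩ :=
      Nat.exists_eq_pow_mul_and_not_dvd (orderOf_pos (g : G)).ne' 2 (by decide)
    have h1 : orderOf ((g : G) ^ 2 ^ l) = m := by
      rw [orderOf_pow' _ (pow_ne_zero _ two_ne_zero), hlm, Nat.gcd_mul_right_left,
        Nat.mul_div_cancel_left _ (pow_pos two_pos l)]
    exact ⟨l, Subtype.ext (hodd _ (C.pow_mem g.2 _) (h1.symm ▸ hm))⟩
  obtain ⟨T, hT⟩ := hC2.exists_le_sylow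
  let f : (T : Subgroup G) ≃* DihedralGroup (2 ^ n) := (T.equiv P).trans e
  refine (Subgroup.eq_of_le_of_card_ge hKC ?_).symm
  haveI : NeZero (2 ^ n) := ⟨pow_ne_zero _ two_ne_zero⟩
  obtain ⟨s, hs, i, hi⟩ : ∃ s, ∃ hs : s ∈ K, ∃ i, f ⟨s, hT (hKC hs)⟩ = DihedralGroup.sr i := by
    by_contra hcon
    push Not at hcon
    refine not_cyclic_four hK h2 le_rfl ?_
    let g : K →* DihedralGroup (2 ^ n) := f.toMonoidHom.comp (Subgroup.inclusion (hKC.trans hT))
    have hg : Function.Injective g := f.injective.comp (Subgroup.inclusion_injective _)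
    have hle : g.range ≤ Subgroup.zpowers (DihedralGroup.r 1) := by
      rintro _ ⟨y, rfl⟩
      rcases hy : g y with j | j
      · rw [← ZMod.natCast_zmod_val j, ← DihedralGroup.r_one_pow]
        exact Subgroup.pow_mem _ (Subgroup.mem_zpowers _) _
      · exact absurd hy (hcon y.1 y.2 j)
    haveI : IsCyclic g.range := isCyclic_of_injective (Subgroup.inclusion hle) (Subgroup.inclusion_injective _)
    exact (MonoidHom.ofInjective hg).isCyclic.2 inferInstance
  refine le_trans ?_ (hK.ge)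
  refine le_trans (Nat.card_le_card_of_injective
    (fun c : C => (⟨f ⟨c, hT c.2⟩, ?_⟩ : {d // Commute d (DihedralGroup.sr i)})) ?_) (card_commute_sr n i)
  · rw [← hi, Commute, SemiconjBy, ← map_mul, ← map_mul]
    exact congrArg f (Subtype.ext (Subgroup.mem_centralizer_iff.1 c.2 s hs).symm)
  · intro a b h
    exact Subtype.ext (congrArg Subtype.val (f.injective (congrArg Subtype.val h)) :)

/-- An odd-order element normalizing a group with a 2-group of automorphisms centralizes it. -/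
theorem commute_of_aut {S : Subgroup G} (hA : IsPGroup 2 (MulAut S)) {x : G}
    (hxS : x ∈ Subgroup.normalizer (S : Set G)) (hx : ¬ 2 ∣ orderOf x) : ∀ s ∈ S, Commute s x := by
  set φ := S.normalizerMonoidHom ⟨x, hxS⟩ with hφ
  obtain ⟨k, hk⟩ := IsPGroup.iff_orderOf.1 hA φ
  have hdvd : orderOf φ ∣ orderOf x := by
    rw [← Subgroup.orderOf_mk x hxS]
    exact orderOf_map_dvd S.normalizerMonoidHom _
  have h1 : φ = 1 := orderOf_eq_one_iff.1
    (Nat.eq_one_of_dvd_coprimes (((Nat.Prime.coprime_iff_not_dvd Nat.prime_two).2 hx).pow_left k) hk.dvd hdvd)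
  intro s hs
  have h2 : x * s * x⁻¹ = s := congrArg Subtype.val (MulEquiv.congr_fun h1 (⟨s, hs⟩ : S))
  exact (mul_inv_eq_iff_eq_mul.1 h2).symm

theorem converse (P : Sylow 2 G)
    (h : IsCyclic P ∨
      ((∃ n : ℕ, 1 ≤ n ∧ Nonempty ((P : Subgroup G) ≃* DihedralGroup (2 ^ n))) ∧
        ∀ K : Subgroup G, K ≤ P → Nat.card K = 4 → (∀ k ∈ K, k ^ 2 = 1) → Subgroup.centralizer (K : Set G) = K))
    {S : Subgroup G} (hS : IsPGroup 2 S) {x : G} (hxS : x ∈ Subgroup.normalizer (S : Set G))
    (hx : ¬ 2 ∣ orderOf x) :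
    IsCyclic ↥(S ⊔ Subgroup.zpowers x) ∨ (∃ n : ℕ, Nonempty (↥(S ⊔ Subgroup.zpowers x) ≃* DihedralGroup (2 ^ n))) ∨
      Nonempty (↥(S ⊔ Subgroup.zpowers x) ≃* alternatingGroup (Fin 4)) := by
  haveI := Fact.mk Nat.prime_two
  obtain ⟨T, hT⟩ := hS.exists_le_sylow
  obtain ⟨g, hg⟩ := MulAction.exists_smul_eq G T P
  have hSP : ∀ s ∈ S, g * s * g⁻¹ ∈ (P : Subgroup G) := fun s hs => by
    rw [← hg, Sylow.coe_subgroup_smul, Subgroup.mem_pointwise_smul_iff_inv_smul_mem]
    simpa [MulAut.smul_def, mul_assoc] using hT hs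
  let ι : S →* (P : Subgroup G) :=
    { toFun := fun s => ⟨g * s * g⁻¹, hSP s s.2⟩
      map_one' := Subtype.ext (by simp)
      map_mul' := fun a b => Subtype.ext (by simp) }
  have hι : Function.Injective ι := fun a b h => Subtype.ext (by simpa [ι] using h)
  have hcyc : IsCyclic S → IsCyclic ↥(S ⊔ Subgroup.zpowers x) := fun hc => by
    haveI := hc
    exact isCyclic_sup hS hx (commute_of_aut (SylowLift.isPGroup_mulAut_of_isCyclic hS) hxS hx)
  rcases h with h | ⟨⟨n, -, ⟨e⟩⟩, hC⟩
  · haveI := h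
    exact Or.inl (hcyc (isCyclic_of_injective ι hι))
  let j : S →* DihedralGroup (2 ^ n) := e.toMonoidHom.comp ι
  have hj : Function.Injective j := e.injective.comp hι
  let f : S ≃* j.range := MonoidHom.ofInjective hj
  rcases sub_dihedral j.range with hc | ⟨⟨l, ⟨el⟩⟩, K, hKQ, hKcard, hK2⟩
  · exact Or.inl (hcyc (f.isCyclic.2 hc))
  -- `S` contains a four group with self-centralizing image in `P`
  set K' : Subgroup G := (K.comap j).map S.subtype with hK'
  have hK'S : K' ≤ S := Subgroup.map_subtype_le _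
  have hK'card : Nat.card K' = 4 := by
    rw [hK', Subgroup.card_map_of_injective S.subtype_injective, ← hKcard,
      ← Subgroup.card_map_of_injective (K := K.comap j) hj, Subgroup.map_comap_eq, inf_eq_right.2 hKQ]
  have hK'2 : ∀ k ∈ K', k ^ 2 = 1 := by
    rintro _ ⟨k, hk, rfl⟩
    have h1 : j (k ^ 2) = 1 := by rw [map_pow]; exact hK2 _ hk
    exact congrArg Subtype.val (hj (h1.trans (map_one j).symm))
  have hcentK : Subgroup.centralizer (K' : Set G) ≤ K' := by
    have himg := hC (K'.map (MulAut.conj g).toMonoidHom) ?_ ?_ ?_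
    · intro y hy
      have h1 : MulAut.conj g y ∈ Subgroup.centralizer ((K'.map (MulAut.conj g).toMonoidHom) : Set G) := by
        refine Subgroup.mem_centralizer_iff.2 ?_
        rintro _ ⟨k, hk, rfl⟩
        show MulAut.conj g k * MulAut.conj g y = MulAut.conj g y * MulAut.conj g k
        rw [← map_mul, ← map_mul, Subgroup.mem_centralizer_iff.1 hy k hk]
      rw [himg] at h1
      obtain ⟨k, hk, hke⟩ := h1
      exact (MulAut.conj g).injective hke ▸ hk
    · rintro _ ⟨k, hk, rfl⟩
      exact hSP k (hK'S hk)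
    · rw [Subgroup.card_map_of_injective (MulAut.conj g).injective, hK'card]
    · rintro _ ⟨k, hk, rfl⟩
      rw [← map_pow, hK'2 k hk, map_one]
  have hfix : (∀ s ∈ S, Commute s x) → x = 1 := fun hc =>
    eq_one_of_odd hS hx (hK'S (hcentK (Subgroup.mem_centralizer_iff.2 fun k hk => (hc k (hK'S hk)).eq)))
  have hdih : x = 1 → ∃ n : ℕ, Nonempty (↥(S ⊔ Subgroup.zpowers x) ≃* DihedralGroup (2 ^ n)) := fun hx1 =>
    ⟨l, ⟨(MulEquiv.subgroupCongr (by rw [hx1, Subgroup.zpowers_one_eq_bot, sup_bot_eq])).trans (f.trans el)⟩⟩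
  rcases Transfer.dihedral_subgroup_cases (a := n) rfl j.range with hA | hV
  · refine Or.inr (Or.inl (hdih (hfix (commute_of_aut ?_ hxS hx))))
    exact hA.of_equiv (MulAut.congr f).symm
  -- the Klein four group
  have hScard : Nat.card S = 4 := (Nat.card_congr f.toEquiv).trans hV.card_four
  have hKS : K' = S := Subgroup.eq_of_le_of_card_ge hK'S (by rw [hK'card, hScard])
  by_cases hx1 : x = 1
  · exact Or.inr (Or.inl (hdih hx1))
  right; right
  set φ := S.normalizerMonoidHom ⟨x, hxS⟩ with hφ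
  have hx3 : orderOf x = 3 := by
    -- conjugation permutes the three involutions
    classical
    haveI := Fintype.ofFinite S
    let X := {s : S // s ≠ 1}
    have hX : Fintype.card X = 3 := by
      rw [Fintype.card_subtype_compl, Fintype.card_subtype_eq, ← Nat.card_eq_fintype_card, hScard]
    let ψ : Equiv.Perm X := φ.toEquiv.subtypeEquiv fun a => not_congr (MulEquiv.map_eq_one_iff (h := φ)).symm
    have h6 : ψ ^ 6 = 1 := by
      have := pow_card_eq_one (x := ψ)
      rwa [Fintype.card_perm, hX] at this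
    have hpow : ∀ (m : ℕ) (a : X), ((ψ ^ m) a).1 = (φ ^ m) a.1 := by
      intro m
      induction m with
      | zero => simp
      | succ m ih =>
        intro a
        rw [pow_succ', pow_succ', Equiv.Perm.mul_apply, MulAut.mul_apply, ← ih a]
        rfl
    have hφ6 : φ ^ 6 = 1 := MulEquiv.ext fun s => by
      rcases eq_or_ne s 1 with rfl | hs
      · rw [map_one, map_one]
      · rw [← hpow 6 ⟨s, hs⟩, h6]; rfl
    have hx6 : x ^ 6 = 1 := by
      refine eq_one_of_odd hS (fun h => hx (h.trans (orderOf_pow_dvd 6))) (hK'S (hcentK ?_))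
      refine Subgroup.mem_centralizer_iff.2 fun k hk => ?_
      have h1 : S.normalizerMonoidHom (⟨x, hxS⟩ ^ 6) = 1 := by rw [map_pow]; exact hφ6
      have h2 : x ^ 6 * k * (x ^ 6)⁻¹ = k := congrArg Subtype.val (MulEquiv.congr_fun h1 (⟨k, hK'S hk⟩ : S))
      exact (mul_inv_eq_iff_eq_mul.1 h2).symm
    have h3 : orderOf x ∣ 3 :=
      ((Nat.Prime.coprime_iff_not_dvd Nat.prime_two).2 hx).symm.dvd_of_dvd_mul_left (orderOf_dvd_of_pow_eq_one hx6)
    exact ((Nat.dvd_prime Nat.prime_three).1 h3).resolve_left fun h => hx1 (orderOf_eq_one_iff.1 h)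
  set H := S ⊔ Subgroup.zpowers x with hH
  have hHcard : Nat.card H = 12 := by rw [hH, card_sup_zpowers hS hxS hx, hScard, hx3]
  refine PSL2.mulEquiv_alternatingFour_of_sylow hHcard fun h1 => hx1 (hfix fun s hs => ?_)
  haveI := Fact.mk Nat.prime_three
  obtain ⟨Q₃, hQ₃⟩ := (IsPGroup.of_card (n := 1) (by rw [Nat.card_zpowers, Subgroup.orderOf_mk, hx3, pow_one]) :
    IsPGroup 3 (Subgroup.zpowers (⟨x, Subgroup.mem_sup_right (Subgroup.mem_zpowers x)⟩ : H))).exists_le_sylow
  haveI : Subsingleton (Sylow 3 H) := (Nat.card_eq_one_iff_unique.1 h1).1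
  have hn : (Q₃ : Subgroup H).Normal := inferInstance
  set s' : H := ⟨s, Subgroup.mem_sup_left hs⟩
  set x' : H := ⟨x, Subgroup.mem_sup_right (Subgroup.mem_zpowers x)⟩
  have hc1 : s' * x' * s'⁻¹ * x'⁻¹ ∈ (Q₃ : Subgroup H) :=
    Subgroup.mul_mem _ (hn.conj_mem _ (hQ₃ (Subgroup.mem_zpowers x')) _) (Subgroup.inv_mem _ (hQ₃ (Subgroup.mem_zpowers x')))
  have hc2 : s * x * s⁻¹ * x⁻¹ ∈ S := by
    have := S.mul_mem hs ((Subgroup.mem_normalizer_iff.1 hxS _).1 (S.inv_mem hs))
    simpa [mul_assoc] using this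
  obtain ⟨a, ha⟩ := IsPGroup.iff_orderOf.1 Q₃.isPGroup' ⟨_, hc1⟩
  obtain ⟨b, hb⟩ := IsPGroup.iff_orderOf.1 hS ⟨_, hc2⟩
  rw [Subgroup.orderOf_mk] at hb
  rw [Subgroup.orderOf_mk, ← Subgroup.orderOf_coe] at ha
  have he : s * x * s⁻¹ * x⁻¹ = 1 := orderOf_eq_one_iff.1
    (Nat.eq_one_of_dvd_coprimes (Nat.Coprime.pow a b (by norm_num : Nat.Coprime 3 2)) ha.dvd hb.dvd)
  exact mul_inv_eq_iff_eq_mul.1 (mul_inv_eq_one.1 he)

end

/-- Let G be a finite group with Sylow 2-subgroup P. Every subgroup H of G whose Sylow 2-subgroup is normal in H with cyclic quotient is cyclic, dihedral of 2-power order, or isomorphic to the alternating group of degree 4, if and only if either P is cyclic, or P is dihedral (of order at least 4) and every elementary abelian subgroup K of order 4 of P satisfies C_G(K) = K. -/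
theorem result {G : Type*} [Group G] [Finite G] (P : Sylow 2 G) :
    (∀ H : Subgroup G, (∀ S : Sylow 2 ↥H, (S : Subgroup ↥H).Normal) →
        (∀ (S : Sylow 2 ↥H) [(S : Subgroup ↥H).Normal], IsCyclic (↥H ⧸ (S : Subgroup ↥H))) →
        IsCyclic H ∨ (∃ n : ℕ, Nonempty (H ≃* DihedralGroup (2 ^ n))) ∨ Nonempty (H ≃* alternatingGroup (Fin 4))) ↔
    (IsCyclic P ∨
      ((∃ n : ℕ, 1 ≤ n ∧ Nonempty ((P : Subgroup G) ≃* DihedralGroup (2 ^ n))) ∧
        ∀ K : Subgroup G, K ≤ P → Nat.card K = 4 → (∀ k ∈ K, k ^ 2 = 1) → Subgroup.centralizer (K : Set G) = K)) := by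
  haveI := Fact.mk Nat.prime_two
  constructor
  · intro h
    exact forward P fun H hH => h H hH.1 hH.2
  · intro hP H h1 h2
    obtain ⟨S, x, hS, hxS, hx, rfl⟩ := PByCyclic.Cond.exists_gen ⟨h1, h2⟩
    exact converse P hP hS hxS hx

end Cfsg.Agent.S4083
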