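import Cfsg.Statements.S4084
import Cfsg.Agent.EqLemmas

set_option autoImplicit false
open Cfsg

namespace Cfsg.Agent.S4084


/-- Having an element of order `pq` is visible in the commuting relation: some maximal set of pairwise
commuting elements has size divisible by `p` and `q`. -/
theorem iff_maximal_commuting_set {G : Type*} [Group G] [Finite G] {p q : ℕ} (hp : p.Prime) (hq : q.Prime) (hpq : p ≠ q) :
    (∃ g : G, orderOf g = p * q) ↔
      ∃ S : Set G, Maximal (fun T : Set G => ∀ x ∈ T, ∀ y ∈ T, Commute x y) S ∧ p * q ∣ S.ncard := by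
  haveI : Fact p.Prime := ⟨hp⟩
  haveI : Fact q.Prime := ⟨hq⟩
  have hsub : ∀ S : Set G, Maximal (fun T : Set G => ∀ x ∈ T, ∀ y ∈ T, Commute x y) S →
      (Subgroup.closure S : Set G) = S := by
    intro S hS
    refine (hS.eq_of_subset ?_ Subgroup.subset_closure).symm
    intro x hx y hy
    have hc : IsMulCommutative (Subgroup.closure S) := Subgroup.isMulCommutative_closure fun a ha b hb => hS.prop a ha b hb
    exact congrArg Subtype.val (hc.is_comm.comm ⟨x, hx⟩ ⟨y, hy⟩)
  constructor
  · rintro ⟨g, hg⟩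
    have hzc : ∀ x ∈ (Subgroup.zpowers g : Set G), ∀ y ∈ (Subgroup.zpowers g : Set G), Commute x y := by
      rintro x ⟨i, rfl⟩ y ⟨j, rfl⟩
      exact Commute.zpow_zpow_self g i j
    obtain ⟨S, hgS, hS⟩ := Set.Finite.exists_le_maximal (Set.toFinite _) hzc
      (s := {T : Set G | ∀ x ∈ T, ∀ y ∈ T, Commute x y})
    refine ⟨S, hS, ?_⟩
    have h1 : Subgroup.zpowers g ≤ Subgroup.closure S := fun x hx => Subgroup.subset_closure (hgS hx)
    have h2 := Subgroup.card_dvd_of_le h1
    rw [Nat.card_zpowers, hg] at h2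
    rwa [← hsub S hS, ← Nat.card_coe_set_eq]
  · rintro ⟨S, hS, hd⟩
    rw [← hsub S hS, ← Nat.card_coe_set_eq] at hd
    obtain ⟨x, hx⟩ := exists_prime_orderOf_dvd_card' (G := Subgroup.closure S) p (dvd_trans (dvd_mul_right p q) hd)
    obtain ⟨y, hy⟩ := exists_prime_orderOf_dvd_card' (G := Subgroup.closure S) q (dvd_trans (dvd_mul_left q p) hd)
    have hxS : (x : G) ∈ S := (Set.ext_iff.1 (hsub S hS) _).1 x.2
    have hyS : (y : G) ∈ S := (Set.ext_iff.1 (hsub S hS) _).1 y.2
    refine ⟨x * y, ?_⟩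
    have hxy : Commute (x : G) y := hS.prop _ hxS _ hyS
    rw [hxy.orderOf_mul_eq_mul_orderOf_of_coprime] <;>
      rw [Subgroup.orderOf_coe, Subgroup.orderOf_coe, hx, hy]
    exact (Nat.coprime_primes hp hq).2 hpq

/-- Let G and H be finite groups whose commuting graphs are isomorphic: there is a bijection e : G → H with x, y commuting exactly when e(x), e(y) commute. Then G and H have the same prime graph: for distinct primes p, q, G has an element of order pq if and only if H does (and #G = #H, so the prime divisors agree). -/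
theorem result {G H : Type*} [Group G] [Finite G] [Group H] [Finite H] (e : G ≃ H)
    (he : ∀ x y : G, Commute x y ↔ Commute (e x) (e y))
    {p q : ℕ} (hp : p.Prime) (hq : q.Prime) (hpq : p ≠ q) :
    (∃ g : G, orderOf g = p * q) ↔ (∃ h : H, orderOf h = p * q) := by
  rw [iff_maximal_commuting_set hp hq hpq, iff_maximal_commuting_set hp hq hpq]
  have key : ∀ S : Set G, Maximal (fun T : Set G => ∀ x ∈ T, ∀ y ∈ T, Commute x y) S →
      Maximal (fun T : Set H => ∀ x ∈ T, ∀ y ∈ T, Commute x y) (e '' S) := by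
    intro S hS
    refine ⟨?_, fun T hT hST => ?_⟩
    · rintro _ ⟨a, ha, rfl⟩ _ ⟨b, hb, rfl⟩
      exact (he a b).1 (hS.prop a ha b hb)
    · intro t ht
      have h1 : e ⁻¹' T ≤ S := hS.2 (fun a ha b hb => (he a b).2 (hT _ ha _ hb))
        fun a ha => hST ⟨a, ha, rfl⟩
      exact ⟨e.symm t, h1 (by simpa using ht), e.apply_symm_apply t⟩
  constructor
  · rintro ⟨S, hS, hd⟩
    exact ⟨e '' S, key S hS, by rwa [Set.ncard_image_of_injective S e.injective]⟩
  · rintro ⟨T, hT, hd⟩
    refine ⟨e ⁻¹' T, ⟨fun a ha b hb => (he a b).2 (hT.prop _ ha _ hb), fun U hU hTU a ha => ?_⟩, ?_⟩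
    · have h1 : e '' U ≤ T := hT.2 (by
        rintro _ ⟨x, hx, rfl⟩ _ ⟨y, hy, rfl⟩
        exact (he x y).1 (hU x hx y hy)) fun t ht => ⟨e.symm t, hTU (by simpa using ht), e.apply_symm_apply t⟩
      exact h1 ⟨a, ha, rfl⟩
    · rwa [Set.ncard_preimage_of_injective_subset_range e.injective (by simp)]

end Cfsg.Agent.S4084
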