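import Cfsg.Statements.S4085
import Cfsg.Agent.EqLemmas

set_option autoImplicit false
open Cfsg

namespace Cfsg.Agent.S4085

section

variable {G : Type*} [Group G] [Finite G]

/-- Adjacency in the power graph. -/
def adj (x y : G) : Prop := x ∈ Subgroup.zpowers y ∨ y ∈ Subgroup.zpowers x

theorem adj_symm {x y : G} (h : adj x y) : adj y x := h.symm

theorem adj_self (x : G) : adj x x := Or.inl (Subgroup.mem_zpowers x)

/-- Closed twins of `x`. -/
def twins (x : G) : Set G := {w | ∀ v : G, adj v w ↔ adj v x}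

theorem mem_twins_symm {x w : G} (h : w ∈ twins x) : x ∈ twins w := fun v => (h v).symm

theorem twins_adj {x w : G} (h : w ∈ twins x) : adj x w := (h x).2 (adj_self x)

theorem zpowers_eq_of_orderOf_eq {x w : G} (hw : w ∈ Subgroup.zpowers x) (he : orderOf w = orderOf x) :
    Subgroup.zpowers w = Subgroup.zpowers x :=
  Subgroup.eq_of_le_of_card_ge (Subgroup.zpowers_le.2 hw) (by rw [Nat.card_zpowers, Nat.card_zpowers, he])

theorem mem_zpowers_iff_dvd {g u v : G} (hu : u ∈ Subgroup.zpowers g) (hv : v ∈ Subgroup.zpowers g) :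
    u ∈ Subgroup.zpowers v ↔ orderOf u ∣ orderOf v := by
  refine ⟨fun h => orderOf_dvd_of_mem_zpowers h, fun hd => ?_⟩
  obtain ⟨a, rfl⟩ := (IsOfFinOrder.mem_powers_iff_mem_zpowers (isOfFinOrder_of_finite g)).2 hu
  obtain ⟨b, rfl⟩ := (IsOfFinOrder.mem_powers_iff_mem_zpowers (isOfFinOrder_of_finite g)).2 hv
  simp only at hd ⊢
  set n := orderOf g with hn
  have hA : Nat.gcd n b ∣ a := by
    have hn0 : 0 < n := orderOf_pos g
    rw [orderOf_pow, orderOf_pow] at hd
    obtain ⟨k, hk⟩ := hd
    refine dvd_trans ?_ (Nat.gcd_dvd_right n a)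
    refine ⟨k, Nat.eq_of_mul_eq_mul_left (Nat.div_pos (Nat.gcd_le_left b hn0) (Nat.gcd_pos_of_pos_left b hn0))
      (?_ : n / Nat.gcd n b * Nat.gcd n a = n / Nat.gcd n b * (Nat.gcd n b * k))⟩
    have e1 := Nat.div_mul_cancel (Nat.gcd_dvd_left n a)
    have e2 := Nat.div_mul_cancel (Nat.gcd_dvd_left n b)
    rw [← mul_assoc, e2]
    conv_rhs => rw [← e1]
    rw [hk]
    ring
  obtain ⟨c, hc⟩ := hA
  have hg : g ^ Nat.gcd n b ∈ Subgroup.zpowers (g ^ b) := by
    refine Subgroup.mem_zpowers_iff.2 ⟨Nat.gcdB n b, ?_⟩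
    rw [← zpow_natCast g b, ← zpow_mul, ← zpow_natCast g (Nat.gcd n b), Nat.gcd_eq_gcd_ab, zpow_add, zpow_mul g (n : ℤ),
      zpow_natCast g n, hn, pow_orderOf_eq_one, one_zpow, one_mul]
  rw [hc, pow_mul]
  exact Subgroup.pow_mem _ hg c

theorem exists_mem_orderOf {g : G} {d : ℕ} (hd : d ∣ orderOf g) :
    ∃ u ∈ Subgroup.zpowers g, orderOf u = d := by
  obtain ⟨k, hk⟩ := hd
  have hk0 : k ≠ 0 := fun e => (orderOf_pos g).ne' (by rw [hk, e, mul_zero])
  refine ⟨g ^ k, Subgroup.pow_mem _ (Subgroup.mem_zpowers g) _, ?_⟩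
  rw [orderOf_pow' g hk0, Nat.gcd_eq_right (Dvd.intro_left _ hk.symm), hk, Nat.mul_div_cancel _ (Nat.pos_of_ne_zero hk0)]

/-- A proper non-trivial power of an element whose order is not a prime power misses some power of it. -/
theorem exists_not_adj {g w : G} (hg : ¬ IsPrimePow (orderOf g)) (hw : w ∈ Subgroup.zpowers g) (hw1 : w ≠ 1)
    (hne : orderOf w ≠ orderOf g) : ∃ u ∈ Subgroup.zpowers g, ¬ adj u w := by
  set n := orderOf g with hn
  set e := orderOf w with he
  have hen : e ∣ n := orderOf_dvd_of_mem_zpowers hw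
  have hn0 : n ≠ 0 := (orderOf_pos g).ne'
  have he1 : e ≠ 1 := fun h => hw1 (orderOf_eq_one_iff.1 h)
  obtain ⟨t, ht⟩ : ∃ t, e.factorization t < n.factorization t := by
    by_contra hcon
    push Not at hcon
    exact hne (Nat.dvd_antisymm hen ((Nat.factorization_le_iff_dvd hn0 (orderOf_pos w).ne').1 hcon))
  have he0 : e ≠ 0 := (orderOf_pos w).ne'
  have htp : t.Prime := Nat.prime_of_mem_primeFactors (n := n) (by
    rw [← Nat.support_factorization, Finsupp.mem_support_iff]; omega)
  have key : ∃ d, d ∣ n ∧ ¬ d ∣ e ∧ ¬ e ∣ d := by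
    have hnot : ¬ t ^ n.factorization t ∣ e := fun h =>
      absurd ((htp.pow_dvd_iff_le_factorization he0).1 h) (by omega)
    by_cases hed : e ∣ t ^ n.factorization t
    · obtain ⟨j, -, hj⟩ := (Nat.dvd_prime_pow htp).1 hed
      obtain ⟨s, hs, hsn, hst⟩ : ∃ s, s.Prime ∧ s ∣ n ∧ s ≠ t := by
        by_contra hcon
        push Not at hcon
        apply hg
        rw [isPrimePow_nat_iff]
        refine ⟨t, n.factorization t, htp, by omega, ?_⟩
        obtain ⟨k, hk⟩ : ∃ k, n = t ^ k :=
          ⟨_, Nat.eq_prime_pow_of_unique_prime_dvd (p := t) hn0 fun {q} hq hqd => hcon q hq hqd⟩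
        rw [hk, Nat.Prime.factorization_pow htp, Finsupp.single_eq_same]
      refine ⟨s, hsn, fun h => hst ((Nat.prime_dvd_prime_iff_eq hs htp).1 (hs.dvd_of_dvd_pow (hj ▸ h))), fun h => ?_⟩
      rcases (Nat.dvd_prime hs).1 h with h | h
      · exact he1 h
      · exact hst ((Nat.prime_dvd_prime_iff_eq hs htp).1 (hs.dvd_of_dvd_pow (hj ▸ h.symm.dvd)))
    · exact ⟨_, Nat.ordProj_dvd n t, hnot, hed⟩
  obtain ⟨d, hdn, hde, hed⟩ := key
  obtain ⟨u, hu, hud⟩ := exists_mem_orderOf hdn
  refine ⟨u, hu, ?_⟩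
  rintro (h | h)
  · exact hde (hud ▸ orderOf_dvd_of_mem_zpowers h)
  · exact hed (hud ▸ orderOf_dvd_of_mem_zpowers h)

theorem twins_not_one (hu : ∀ x : G, x ≠ 1 → ∃ v, ¬ adj v x) {x w : G} (hx : x ≠ 1) (hw : w ∈ twins x) : w ≠ 1 := by
  rintro rfl
  obtain ⟨v, hv⟩ := hu x hx
  exact hv ((hw v).1 (Or.inr (Subgroup.one_mem _)))

/-- Twins of an element whose order is not a prime power generate the same subgroup. -/
theorem twins_nonpp (hu : ∀ x : G, x ≠ 1 → ∃ v, ¬ adj v x) {x w : G} (hx1 : x ≠ 1) (hx : ¬ IsPrimePow (orderOf x))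
    (hw : w ∈ twins x) : orderOf w = orderOf x ∧ w ∈ Subgroup.zpowers x := by
  have hw1 := twins_not_one hu hx1 hw
  by_cases he : orderOf w = orderOf x
  · refine ⟨he, ?_⟩
    rcases twins_adj hw with h | h
    · rw [zpowers_eq_of_orderOf_eq h he.symm]; exact Subgroup.mem_zpowers w
    · exact h
  exfalso
  rcases twins_adj hw with h | h
  · have hwnp : ¬ IsPrimePow (orderOf w) := fun hp => hx (hp.dvd (orderOf_dvd_of_mem_zpowers h)
      (fun e => hx1 (orderOf_eq_one_iff.1 e)))
    obtain ⟨u, hu1, hu2⟩ := exists_not_adj hwnp h hx1 (Ne.symm he)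
    exact hu2 ((hw u).1 (Or.inl hu1))
  · obtain ⟨u, hu1, hu2⟩ := exists_not_adj hx h hw1 he
    exact hu2 ((hw u).2 (Or.inl hu1))

theorem card_generators (x : G) :
    Nat.card {w : G | w ∈ Subgroup.zpowers x ∧ orderOf w = orderOf x} = Nat.totient (orderOf x) := by
  classical
  haveI := Fintype.ofFinite (Subgroup.zpowers x)
  rw [← IsCyclic.card_orderOf_eq_totient (α := Subgroup.zpowers x) (d := orderOf x)
    (by rw [← Nat.card_eq_fintype_card, Nat.card_zpowers]), ← Fintype.card_subtype, ← Nat.card_eq_fintype_card]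
  exact Nat.card_congr
    { toFun := fun w => ⟨⟨w.1, w.2.1⟩, by rw [Subgroup.orderOf_mk]; exact w.2.2⟩
      invFun := fun w => ⟨w.1, w.1.2, (Subgroup.orderOf_coe w.1).trans w.2⟩
      left_inv := fun _ => rfl
      right_inv := fun _ => rfl }

theorem totient_le_twins (x : G) : Nat.totient (orderOf x) ≤ Nat.card (twins x) := by
  rw [← card_generators x]
  refine Nat.card_mono (Set.toFinite _) fun w hw v => ?_
  have e := zpowers_eq_of_orderOf_eq hw.1 hw.2
  constructor <;> rintro (h | h)
  · exact Or.inl (e ▸ h)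
  · exact Or.inr (Subgroup.zpowers_le.1 (e.ge.trans (Subgroup.zpowers_le.2 h)))
  · exact Or.inl (e.symm ▸ h)
  · exact Or.inr (Subgroup.zpowers_le.1 (e.le.trans (Subgroup.zpowers_le.2 h)))

theorem twins_card_nonpp (hu : ∀ x : G, x ≠ 1 → ∃ v, ¬ adj v x) {x : G} (hx1 : x ≠ 1)
    (hx : ¬ IsPrimePow (orderOf x)) : Nat.card (twins x) = Nat.totient (orderOf x) := by
  refine le_antisymm ?_ (totient_le_twins x)
  rw [← card_generators x]
  exact Nat.card_mono (Set.toFinite _) fun w hw => ⟨(twins_nonpp hu hx1 hx hw).2, (twins_nonpp hu hx1 hx hw).1⟩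

theorem two_le_totient {k : ℕ} (hk : 3 ≤ k) : 2 ≤ Nat.totient k := by
  obtain ⟨j, hj⟩ := Nat.totient_even (n := k) (by omega)
  have := (Nat.totient_pos (n := k)).2 (by omega)
  omega

/-- Twin classes of proper powers of a maximal element are small. -/
theorem twins_bound (hu : ∀ x : G, x ≠ 1 → ∃ v, ¬ adj v x) {g : G} (hmax : ∀ v, g ∈ Subgroup.zpowers v → v ∈ Subgroup.zpowers g)
    (hg : ¬ IsPrimePow (orderOf g)) {x : G} (hx : x ∈ Subgroup.zpowers g) (hx1 : x ≠ 1) (hne : orderOf x ≠ orderOf g) :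
    Nat.card (twins x) < 2 * Nat.totient (orderOf g) ∧
      (Odd (orderOf g) → Nat.card (twins x) < Nat.totient (orderOf g)) := by
  classical
  set n := orderOf g with hn
  have hn0 : 0 < n := orderOf_pos g
  have hdn : orderOf x ∣ n := orderOf_dvd_of_mem_zpowers hx
  have hpos : 0 < Nat.totient n := Nat.totient_pos.2 hn0
  have hthree : ∀ k, Odd n → k ∣ n → k ≠ 1 → 3 ≤ k := by
    intro k hodd hk hk1
    obtain ⟨j, hj⟩ := hodd.of_dvd_nat hk
    omega
  by_cases hpp : IsPrimePow (orderOf x)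
  · obtain ⟨t, i, ht, hi, hti⟩ := (isPrimePow_nat_iff _).1 hpp
    set a := n.factorization t with ha
    obtain ⟨z, hz, hzo⟩ := exists_mem_orderOf (g := g) (Nat.ordProj_dvd n t)
    have hsub : twins x ⊆ {w : G | w ∈ Subgroup.zpowers z ∧ w ≠ 1} := by
      intro w hw
      have hw1 := twins_not_one hu hx1 hw
      have hwg : w ∈ Subgroup.zpowers g := by
        rcases (hw g).2 (Or.inr hx) with h | h
        · exact hmax w h
        · exact h
      have hwp : IsPrimePow (orderOf w) := by
        by_contra hwp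
        exact hwp ((twins_nonpp hu hw1 hwp (mem_twins_symm hw)).1 ▸ hpp)
      obtain ⟨s, j, hs, hj, hsj⟩ := (isPrimePow_nat_iff _).1 hwp
      have hst : s = t := by
        rcases twins_adj hw with h | h
        · have := orderOf_dvd_of_mem_zpowers h
          rw [← hsj, ← hti] at this
          exact ((Nat.prime_dvd_prime_iff_eq ht hs).1 (ht.dvd_of_dvd_pow ((dvd_pow_self t hi.ne').trans this))).symm
        · have := orderOf_dvd_of_mem_zpowers h
          rw [← hsj, ← hti] at this
          exact (Nat.prime_dvd_prime_iff_eq hs ht).1 (hs.dvd_of_dvd_pow ((dvd_pow_self s hj.ne').trans this))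
      subst hst
      refine ⟨(mem_zpowers_iff_dvd hwg hz).2 ?_, hw1⟩
      rw [hzo, ← hsj]
      exact Nat.pow_dvd_pow s ((ht.pow_dvd_iff_le_factorization hn0.ne').1 (hsj ▸ orderOf_dvd_of_mem_zpowers hwg))
    have hcard : Nat.card (twins x) + 1 ≤ t ^ a := by
      have h1 : Nat.card (twins x) ≤ Nat.card {w : G | w ∈ Subgroup.zpowers z ∧ w ≠ 1} := Nat.card_mono (Set.toFinite _) hsub
      have h2 : {w : G | w ∈ Subgroup.zpowers z ∧ w ≠ 1} = (Subgroup.zpowers z : Set G) \ {1} := rfl
      rw [h2, Nat.card_coe_set_eq, Nat.card_coe_set_eq, Set.ncard_sdiff_singleton_of_mem (Subgroup.one_mem _),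
        ← Nat.card_coe_set_eq, ← Nat.card_coe_set_eq, show Nat.card ↥(Subgroup.zpowers z : Set G) = t ^ a from
          (Nat.card_zpowers z).trans hzo] at h1
      have : 0 < t ^ a := pow_pos ht.pos _
      omega
    have ha1 : 1 ≤ a := by
      have hdn' : t ^ i ∣ n := hti.symm ▸ hdn
      have := (ht.pow_dvd_iff_le_factorization hn0.ne').1 hdn'
      omega
    have htot : t ^ a ≤ 2 * Nat.totient (t ^ a) := by
      rw [Nat.totient_prime_pow ht ha1]
      conv_lhs => rw [show a = a - 1 + 1 by omega, pow_succ]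
      have := ht.two_le
      calc t ^ (a - 1) * t ≤ t ^ (a - 1) * (2 * (t - 1)) := Nat.mul_le_mul_left _ (by omega)
        _ = 2 * (t ^ (a - 1) * (t - 1)) := by ring
    have hsplit : Nat.totient n = Nat.totient (t ^ a) * Nat.totient (n / t ^ a) := by
      rw [← Nat.totient_mul ((Nat.coprime_ordCompl ht hn0.ne').pow_left _), Nat.ordProj_mul_ordCompl_eq_self]
    have hr1 : n / t ^ a ≠ 1 := by
      intro e
      apply hg
      rw [← Nat.ordProj_mul_ordCompl_eq_self n t, ← ha, e, mul_one]
      exact ht.isPrimePow.pow (by omega)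
    have hrdvd : n / t ^ a ∣ n := Nat.ordCompl_dvd n t
    have hr0 : 0 < Nat.totient (n / t ^ a) := Nat.totient_pos.2 (Nat.ordCompl_pos t hn0.ne')
    have hmain : Nat.totient (t ^ a) ≤ Nat.totient n := hsplit ▸ Nat.le_mul_of_pos_right _ hr0
    refine ⟨by omega, fun hodd => ?_⟩
    have h2 := two_le_totient (hthree _ hodd hrdvd hr1)
    have := Nat.mul_le_mul_left (Nat.totient (t ^ a)) h2
    omega
  · rw [twins_card_nonpp hu hx1 hpp]
    have hle := Nat.le_of_dvd hpos (Nat.totient_dvd_of_dvd hdn)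
    refine ⟨by omega, fun hodd => ?_⟩
    obtain ⟨k, hk⟩ := hdn
    have hk3 := hthree k hodd (Dvd.intro_left _ hk.symm) (fun e => hne (by rw [hk, e, mul_one]))
    have h1 := Nat.totient_super_multiplicative (orderOf x) k
    have h2 := Nat.mul_le_mul_left (Nat.totient (orderOf x)) (two_le_totient hk3)
    have h3 := Nat.totient_pos.2 (orderOf_pos x)
    rw [← hk] at h1
    omega

theorem dvd_of_universal {w : G} (hw : w ≠ 1) (huniv : ∀ v, adj v w) {p q : ℕ} (hp : p.Prime) (hq : q.Prime)
    (hpq : p ≠ q) (hpG : p ∣ Nat.card G) (hqG : q ∣ Nat.card G) : p * q ∣ orderOf w := by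
  have key : ∀ r, r.Prime → r ∣ Nat.card G → r ∣ orderOf w := by
    intro r hr hrG
    haveI := Fact.mk hr
    obtain ⟨a, ha⟩ := exists_prime_orderOf_dvd_card' r hrG
    rcases huniv a with h | h
    · exact ha ▸ orderOf_dvd_of_mem_zpowers h
    · rcases (Nat.dvd_prime hr).1 (ha ▸ orderOf_dvd_of_mem_zpowers h) with e | e
      · exact absurd (orderOf_eq_one_iff.1 e) hw
      · exact e.symm.dvd
  exact ((Nat.coprime_primes hp hq).2 hpq).mul_dvd_of_dvd_of_dvd (key p hp hpG) (key q hq hqG)

theorem not_isPrimePow_of_dvd {p q n : ℕ} (hp : p.Prime) (hq : q.Prime) (hpq : p ≠ q) (h : p * q ∣ n) :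
    ¬ IsPrimePow n := by
  intro hn
  obtain ⟨t, k, ht, -, rfl⟩ := (isPrimePow_nat_iff _).1 hn
  exact hpq (((Nat.prime_dvd_prime_iff_eq hp ht).1 (hp.dvd_of_dvd_pow ((dvd_mul_right p q).trans h))).trans
    ((Nat.prime_dvd_prime_iff_eq hq ht).1 (hq.dvd_of_dvd_pow ((dvd_mul_left q p).trans h))).symm)

theorem direction {H : Type*} [Group H] [Finite H] (e : G ≃ H) (he : ∀ x y : G, adj x y ↔ adj (e x) (e y))
    {p q : ℕ} (hp : p.Prime) (hq : q.Prime) (hpq : p ≠ q) (hex : ∃ g : G, orderOf g = p * q) :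
    ∃ h : H, p * q ∣ orderOf h := by
  classical
  haveI := Fintype.ofFinite G
  obtain ⟨g₁, hg₁⟩ := hex
  have hpG : p ∣ Nat.card G := (dvd_mul_right p q).trans (hg₁ ▸ orderOf_dvd_natCard g₁)
  have hqG : q ∣ Nat.card G := (dvd_mul_left q p).trans (hg₁ ▸ orderOf_dvd_natCard g₁)
  have he' : ∀ v x, adj (e.symm v) x ↔ adj v (e x) := fun v x => by rw [he, e.apply_symm_apply]
  by_cases huH : ∀ w : H, w ≠ 1 → ∃ v, ¬ adj v w
  swap
  · push Not at huH
    obtain ⟨w, hw, huniv⟩ := huH
    rw [Nat.card_congr e] at hpG hqG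
    exact ⟨w, dvd_of_universal hw huniv hp hq hpq hpG hqG⟩
  have he1 : e 1 = 1 := by
    by_contra hne
    obtain ⟨v, hv⟩ := huH _ hne
    exact hv ((he' v 1).1 (Or.inr (Subgroup.one_mem _)))
  have hu : ∀ x : G, x ≠ 1 → ∃ v, ¬ adj v x := by
    intro x hx
    obtain ⟨v, hv⟩ := huH (e x) (fun h => hx (e.injective (h.trans he1.symm)))
    exact ⟨e.symm v, fun h => hv ((he' v x).1 h)⟩
  -- choose a maximal cyclic subgroup
  obtain ⟨g₀, hg₀, hg₀max⟩ := Finset.exists_max_image (Finset.univ.filter fun x : G => p * q ∣ orderOf x) orderOf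
    ⟨g₁, Finset.mem_filter.2 ⟨Finset.mem_univ _, hg₁.symm.dvd⟩⟩
  replace hg₀ := (Finset.mem_filter.1 hg₀).2
  obtain ⟨g, hgS, hgmax⟩ := Finset.exists_max_image
    (Finset.univ.filter fun x : G => x ∈ Subgroup.zpowers g₀ ∧ orderOf x = orderOf g₀) (fun x => orderOf (e x))
    ⟨g₀, Finset.mem_filter.2 ⟨Finset.mem_univ _, Subgroup.mem_zpowers g₀, rfl⟩⟩
  obtain ⟨hgz, hgo⟩ := (Finset.mem_filter.1 hgS).2
  have hgg : Subgroup.zpowers g = Subgroup.zpowers g₀ := zpowers_eq_of_orderOf_eq hgz hgo
  set n := orderOf g with hn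
  have hpqn : p * q ∣ n := hgo ▸ hg₀
  have hgpp : ¬ IsPrimePow n := not_isPrimePow_of_dvd hp hq hpq hpqn
  have hg1 : g ≠ 1 := fun h => by
    rw [hn, h, orderOf_one] at hpqn
    exact hp.ne_one (Nat.eq_one_of_mul_eq_one_right (Nat.dvd_one.1 hpqn))
  have hmax : ∀ v, g ∈ Subgroup.zpowers v → v ∈ Subgroup.zpowers g := by
    intro v hv
    have hd := orderOf_dvd_of_mem_zpowers hv
    have h1 : orderOf v = n := le_antisymm
      ((hg₀max v (Finset.mem_filter.2 ⟨Finset.mem_univ _, hpqn.trans hd⟩)).trans_eq hgo.symm)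
      (Nat.le_of_dvd (orderOf_pos v) hd)
    rw [zpowers_eq_of_orderOf_eq hv h1.symm]
    exact Subgroup.mem_zpowers v
  have hNg : ∀ v, adj v g ↔ v ∈ Subgroup.zpowers g := fun v =>
    ⟨fun h => h.elim id (hmax v), Or.inl⟩
  -- transport to `H`
  set h := e g with hh
  set m := orderOf h with hm
  have hh1 : h ≠ 1 := fun h' => hg1 (e.injective (h'.trans he1.symm))
  have htw : ∀ x, Nat.card (twins (e x)) = Nat.card (twins x) := by
    intro x
    refine (Nat.card_congr (e.subtypeEquiv fun w => ?_)).symm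
    constructor
    · intro hw v
      rw [← he' v w, ← he' v x]
      exact hw _
    · intro hw v
      rw [he v w, he v x]
      exact hw _
  have hth : Nat.card (twins h) = Nat.totient n := by rw [hh, htw, twins_card_nonpp hu hg1 hgpp]
  have hNh : Nat.card {v : H | adj v h} = n := by
    rw [hn, ← Nat.card_zpowers g]
    refine Nat.card_congr (e.symm.subtypeEquiv fun v => ?_)
    rw [← hNg, he']
    rfl
  -- elements above `h`
  set A := {v : H | adj v h ∧ v ∉ Subgroup.zpowers h} with hAdef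
  have hsum : m + Nat.card A = n := by
    rw [← hNh, hm, ← Nat.card_zpowers h, Nat.card_coe_set_eq, Nat.card_coe_set_eq,
      show Nat.card (Subgroup.zpowers h) = (Subgroup.zpowers h : Set H).ncard from Nat.card_coe_set_eq _]
    rw [← Set.ncard_union_eq (Set.disjoint_left.2 fun v hv hv' => hv'.2 hv) (Set.toFinite _) (Set.toFinite _)]
    congr 1
    ext v
    simp only [hAdef, Set.mem_union, SetLike.mem_coe, Set.mem_ofPred_eq]
    constructor
    · rintro (hv | hv)
      · exact Or.inl hv
      · exact hv.1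
    · intro hv
      by_cases hvz : v ∈ Subgroup.zpowers h
      · exact Or.inl hvz
      · exact Or.inr ⟨hv, hvz⟩
  have habove : ∀ y ∈ A, h ∈ Subgroup.zpowers y ∧ m ∣ orderOf y ∧ orderOf y ≠ m := by
    intro y hy
    have h1 : h ∈ Subgroup.zpowers y := hy.1.resolve_left hy.2
    refine ⟨h1, orderOf_dvd_of_mem_zpowers h1, fun e1 => hy.2 ?_⟩
    rw [zpowers_eq_of_orderOf_eq h1 e1.symm]
    exact Subgroup.mem_zpowers y
  have hpre : ∀ y ∈ A, y ∉ twins h → e.symm y ∈ Subgroup.zpowers g ∧ e.symm y ≠ 1 ∧ orderOf (e.symm y) ≠ n := by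
    intro y hy hyt
    have h1 : e.symm y ∈ Subgroup.zpowers g := (hNg _).1 ((he' y g).2 hy.1)
    refine ⟨h1, fun h2 => hy.2 ?_, fun h2 => hyt ?_⟩
    · rw [show y = 1 by rw [← e.apply_symm_apply y, h2, he1]]
      exact Subgroup.one_mem _
    · intro v
      have heq := zpowers_eq_of_orderOf_eq h1 h2
      rw [hh, ← e.apply_symm_apply y, ← he' v (e.symm y), ← he' v g]
      constructor <;> rintro (h3 | h3)
      · exact Or.inl (heq ▸ h3)
      · exact Or.inr (Subgroup.zpowers_le.1 (heq.ge.trans (Subgroup.zpowers_le.2 h3)))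
      · exact Or.inl (heq.symm ▸ h3)
      · exact Or.inr (Subgroup.zpowers_le.1 (heq.le.trans (Subgroup.zpowers_le.2 h3)))
  have heven : 3 ≤ m → Even (Nat.card A) := by
    intro hm3
    have key : ∀ S : Finset H, (∀ y ∈ S, y⁻¹ ∈ S ∧ y⁻¹ ≠ y) → Even S.card := by
      intro S hS
      have h0 : ∑ _y ∈ S, (1 : ZMod 2) = 0 := Finset.sum_involution (fun y _ => y⁻¹) (fun _ _ => rfl)
        (fun y hy _ => (hS y hy).2) (fun y hy => (hS y hy).1) (fun y _ => inv_inv y)
      rw [Finset.sum_const, nsmul_eq_mul, mul_one, ZMod.natCast_eq_zero_iff_even] at h0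
      exact h0
    haveI := Fintype.ofFinite H
    rw [Nat.card_eq_fintype_card, ← Set.toFinset_card]
    refine key _ fun y hy => ?_
    rw [Set.mem_toFinset] at hy ⊢
    obtain ⟨h1, h2, h3⟩ := habove y hy
    refine ⟨⟨?_, fun h4 => hy.2 (by simpa using Subgroup.inv_mem _ h4)⟩, fun h4 => ?_⟩
    · right
      rwa [Subgroup.zpowers_inv]
    · have : y ^ 2 = 1 := by rw [pow_two]; nth_rw 1 [← h4]; exact inv_mul_cancel y
      have := Nat.le_of_dvd two_pos (h2.trans (orderOf_dvd_of_pow_eq_one this))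
      omega
  by_cases hhpp : IsPrimePow m
  swap
  · -- then `h` generates a maximal cyclic subgroup
    have hm3 : 3 ≤ m := by
      by_contra hcon
      have hm0 := orderOf_pos h
      have hm1 : m ≠ 1 := fun e1 => hh1 (orderOf_eq_one_iff.1 e1)
      exact hhpp (by rw [show m = 2 by omega]; exact Nat.prime_two.isPrimePow)
    have hphi : Nat.totient m = Nat.totient n := by rw [← hth, twins_card_nonpp huH hh1 hhpp]
    have hA : Nat.card A = 0 := by
      by_contra hA
      obtain ⟨⟨y, hy⟩⟩ := (Nat.card_pos_iff.1 (Nat.pos_of_ne_zero hA)).1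
      obtain ⟨hhy, hdvd, hne⟩ := habove y hy
      have hyt : y ∉ twins h := fun ht => hne (twins_nonpp huH hh1 hhpp ht).1
      obtain ⟨hx, hx1, hxn⟩ := hpre y hy hyt
      obtain ⟨hb2, hb1⟩ := twins_bound hu hmax hgpp hx hx1 hxn
      rw [← htw, e.apply_symm_apply, ← hn] at hb1 hb2
      have hy' := totient_le_twins y
      have hle := Nat.le_of_dvd (Nat.totient_pos.2 (orderOf_pos y)) (Nat.totient_dvd_of_dvd hdvd)
      rcases Nat.even_or_odd n with hev | hodd
      · have hmev : Even m := by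
          rw [← hsum, Nat.even_add] at hev
          exact hev.2 (heven hm3)
        obtain ⟨k, hk⟩ := hdvd
        have hk2 : 2 ≤ k := by
          rcases (show k = 0 ∨ k = 1 ∨ 2 ≤ k by omega) with rfl | rfl | h2
          · exact absurd hk (by simpa using (orderOf_pos y).ne')
          · exact absurd (by simpa using hk) hne
          · exact h2
        have h2m : 2 * Nat.totient m ≤ Nat.totient (orderOf y) := by
          rw [hk]
          rcases Nat.lt_or_ge k 3 with h3 | h3
          · obtain rfl : k = 2 := by omega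
            rw [mul_comm m 2, Nat.totient_mul_of_prime_of_dvd Nat.prime_two hmev.two_dvd]
          · refine le_trans ?_ (Nat.totient_super_multiplicative m k)
            rw [mul_comm 2]
            exact Nat.mul_le_mul_left _ (two_le_totient h3)
        omega
      · have := hb1 hodd
        omega
    exact ⟨h, by rw [← hm, show m = n by omega]; exact hpqn⟩
  · exfalso
    obtain ⟨r, s, hr, hs, hrs⟩ := (isPrimePow_nat_iff _).1 hhpp
    -- all twins lie in `⟨h⟩`
    have htsub : twins h ⊆ (Subgroup.zpowers h : Set H) \ {1} := by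
      intro w hw
      have hw1 := twins_not_one huH hh1 hw
      refine ⟨?_, hw1⟩
      rcases twins_adj hw with h1 | h1
      · have hx : e.symm w ∈ Subgroup.zpowers g := (hNg _).1 ((he' w g).2 (adj_symm (twins_adj hw)))
        have hxt : e.symm w ∈ twins g := fun v => by
          have := hw (e v)
          rw [hh, ← e.apply_symm_apply w, ← he, ← he] at this
          exact this
        have hxo := (twins_nonpp hu hg1 hgpp hxt).1
        have hle : orderOf w ≤ m := by
          have := hgmax (e.symm w) (Finset.mem_filter.2 ⟨Finset.mem_univ _, hgg ▸ hx, hxo.trans hgo⟩)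
          rwa [e.apply_symm_apply] at this
        have := Nat.le_antisymm (Nat.le_of_dvd (orderOf_pos w) (orderOf_dvd_of_mem_zpowers h1)) hle
        rw [zpowers_eq_of_orderOf_eq h1 this]
        exact Subgroup.mem_zpowers w
      · exact h1
    have hsup : (Subgroup.zpowers h : Set H) \ {1} ⊆ twins h := by
      rintro z ⟨hz, hz1⟩
      have hNz : ∀ v, adj v h → adj v z := by
        rintro v (hv | hv)
        · have hzo : ∀ u ∈ Subgroup.zpowers h, ∃ i, orderOf u = r ^ i := fun u hu => by
            have hu' := orderOf_dvd_of_mem_zpowers hu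
            rw [← hm, ← hrs] at hu'
            obtain ⟨i, -, hi⟩ := (Nat.dvd_prime_pow hr).1 hu'
            exact ⟨i, hi⟩
          obtain ⟨i, hi⟩ := hzo v hv
          obtain ⟨j, hj⟩ := hzo z hz
          rcases le_total i j with hij | hij
          · exact Or.inl ((mem_zpowers_iff_dvd hv hz).2 (by rw [hi, hj]; exact pow_dvd_pow r hij))
          · exact Or.inr ((mem_zpowers_iff_dvd hz hv).2 (by rw [hi, hj]; exact pow_dvd_pow r hij))
        · exact Or.inr ((Subgroup.zpowers_le.2 hv) hz)
      have hx : e.symm z ∈ Subgroup.zpowers g := (hNg _).1 ((he' z g).2 (Or.inl hz))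
      have hx1 : e.symm z ≠ 1 := fun h2 => hz1 (by rw [← e.apply_symm_apply z, h2, he1]; rfl)
      have hxo : orderOf (e.symm z) = n := by
        by_contra hne
        obtain ⟨u, hu1, hu2⟩ := exists_not_adj hgpp hx hx1 hne
        apply hu2
        have := hNz (e u) ((he u g).1 (Or.inl hu1))
        rw [← e.apply_symm_apply z, ← he] at this
        exact this
      intro v
      have heq := zpowers_eq_of_orderOf_eq hx hxo
      rw [hh, ← e.apply_symm_apply z, ← he' v (e.symm z), ← he' v g]
      constructor <;> rintro (h3 | h3)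
      · exact Or.inl (heq ▸ h3)
      · exact Or.inr (Subgroup.zpowers_le.1 (heq.ge.trans (Subgroup.zpowers_le.2 h3)))
      · exact Or.inl (heq.symm ▸ h3)
      · exact Or.inr (Subgroup.zpowers_le.1 (heq.le.trans (Subgroup.zpowers_le.2 h3)))
    have hphi : Nat.totient n + 1 = m := by
      have h1 : Nat.card (twins h) = m - 1 := by
        rw [Set.Subset.antisymm htsub hsup, Nat.card_coe_set_eq,
          Set.ncard_sdiff_singleton_of_mem (Subgroup.one_mem _), ← Nat.card_coe_set_eq]
        exact congrArg (· - 1) (Nat.card_zpowers h)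
      have := orderOf_pos h
      rw [hth] at h1
      omega
    have hn3 : 3 ≤ n := by
      have := Nat.le_of_dvd (orderOf_pos g) hpqn
      have := Nat.mul_le_mul hp.two_le hq.two_le
      omega
    have hmodd : Odd m := by
      rw [← hphi]
      exact (Nat.totient_even (by omega)).add_one
    have hm3 : 3 ≤ m := by
      have := two_le_totient hn3
      omega
    have hnodd : Odd n := by
      rw [← hsum]
      exact hmodd.add_even (heven hm3)
    -- a power of `g` with few twins
    obtain ⟨t, ht, htn, hd⟩ : ∃ t, t.Prime ∧ t ∣ n ∧ ∀ l, l.Prime → ∀ i, 1 ≤ i → n / t = l ^ i → ¬ l ^ 2 ∣ n := by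
      by_cases hsq : ∃ t, t.Prime ∧ t ^ 2 ∣ n
      · obtain ⟨t, ht, ht2⟩ := hsq
        refine ⟨t, ht, (dvd_pow_self t two_ne_zero).trans ht2, fun l hl i hi he2 => absurd ?_ hgpp⟩
        obtain ⟨k, hk⟩ := ht2
        have hdiv : n / t = t * k := by rw [hk, pow_two, mul_assoc, Nat.mul_div_cancel_left _ ht.pos]
        have hlt : t = l := (Nat.prime_dvd_prime_iff_eq ht hl).1 (ht.dvd_of_dvd_pow (he2 ▸ hdiv ▸ dvd_mul_right t k))
        refine (isPrimePow_nat_iff n).2 ⟨l, i + 1, hl, by omega, ?_⟩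
        rw [pow_succ, ← he2, hdiv, hlt, hk, hlt]
        ring
      · push Not at hsq
        exact ⟨p, hp, (dvd_mul_right p q).trans hpqn, fun l hl i _ _ => hsq l hl⟩
    obtain ⟨x, hxg, hxo⟩ := exists_mem_orderOf (g := g) (Nat.div_dvd_of_dvd htn)
    have hxn : orderOf x ≠ n := by
      rw [hxo]
      exact (Nat.div_lt_self (by omega) ht.one_lt).ne
    have hx1 : x ≠ 1 := by
      intro e1
      rw [e1, orderOf_one] at hxo
      exact hgpp (by rw [← Nat.div_mul_cancel htn, ← hxo, one_mul]; exact ht.isPrimePow)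
    have hxt : Nat.card (twins x) ≤ Nat.totient (orderOf x) := by
      by_cases hxpp : IsPrimePow (orderOf x)
      · obtain ⟨l, i, hl, hi, hli⟩ := (isPrimePow_nat_iff _).1 hxpp
        have hl2 := hd l hl i hi (hxo ▸ hli.symm)
        rw [← card_generators x]
        refine Nat.card_mono (Set.toFinite _) fun w hw => ?_
        have hw1 := twins_not_one hu hx1 hw
        have hwg : w ∈ Subgroup.zpowers g := ((hw g).2 (Or.inr hxg)).elim (hmax w) id
        have hwp : IsPrimePow (orderOf w) := by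
          by_contra hwp
          exact hwp ((twins_nonpp hu hw1 hwp (mem_twins_symm hw)).1 ▸ hxpp)
        obtain ⟨l', i', hl', hi', hli'⟩ := (isPrimePow_nat_iff _).1 hwp
        have hone : ∀ l' i', l'.Prime → l' ^ i' ∣ n → ¬ l' ^ 2 ∣ n → i' ≤ 1 := fun l' i' _ h1 h2 => by
          by_contra hcon
          exact h2 ((pow_dvd_pow l' (show 2 ≤ i' by omega)).trans h1)
        have hwd : orderOf w ∣ n := orderOf_dvd_of_mem_zpowers hwg
        have hxd : orderOf x ∣ n := orderOf_dvd_of_mem_zpowers hxg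
        have hll : l' = l := by
          rcases twins_adj hw with h2 | h2 <;> have := orderOf_dvd_of_mem_zpowers h2 <;> rw [← hli, ← hli'] at this
          · exact ((Nat.prime_dvd_prime_iff_eq hl hl').1 (hl.dvd_of_dvd_pow ((dvd_pow_self l hi.ne').trans this))).symm
          · exact (Nat.prime_dvd_prime_iff_eq hl' hl).1 (hl'.dvd_of_dvd_pow ((dvd_pow_self l' hi'.ne').trans this))
        have hi1 := hone l i hl (hli ▸ hxd) hl2
        have hi'1 := hone l' i' hl' (hli' ▸ hwd) (hll ▸ hl2)
        have hoeq : orderOf w = orderOf x := by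
          rw [← hli, ← hli', hll, show i = 1 by omega, show i' = 1 by omega]
        refine ⟨?_, hoeq⟩
        exact (mem_zpowers_iff_dvd hwg hxg).2 hoeq.dvd
      · exact (twins_card_nonpp hu hx1 hxpp).le
    have hy1 : adj (e x) h := (he x g).1 (Or.inl hxg)
    have hy2 : e x ∉ Subgroup.zpowers h := by
      intro hz
      have ht' := hsup ⟨hz, fun h2 => hx1 (e.injective ((Set.mem_singleton_iff.1 h2).trans he1.symm))⟩
      have hxt' : x ∈ twins g := fun v => by
        have := ht' (e v)
        rw [hh, ← he, ← he] at this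
        exact this
      exact hxn (twins_nonpp hu hg1 hgpp hxt').1
    obtain ⟨-, hdvd, -⟩ := habove (e x) ⟨hy1, hy2⟩
    have h1 := Nat.le_of_dvd (Nat.totient_pos.2 (orderOf_pos (e x))) (Nat.totient_dvd_of_dvd hdvd)
    have h2 := totient_le_twins (e x)
    rw [htw] at h2
    -- compare the totients
    have h3 : 2 * Nat.totient (orderOf x) ≤ Nat.totient n := by
      have h5 : n = orderOf x * t := by rw [hxo, Nat.div_mul_cancel htn]
      have h6 := Nat.totient_super_multiplicative (orderOf x) t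
      have h8 : 3 ≤ t := by
        obtain ⟨j, hj⟩ := hnodd.of_dvd_nat htn
        have := ht.two_le
        omega
      have h7 := Nat.mul_le_mul_left (Nat.totient (orderOf x)) (two_le_totient h8)
      rw [← h5] at h6
      omega
    have h4 : m ≤ 2 * Nat.totient m := by
      rw [← hrs, Nat.totient_prime_pow hr hs]
      conv_lhs => rw [show s = s - 1 + 1 by omega, pow_succ]
      have := hr.two_le
      calc r ^ (s - 1) * r ≤ r ^ (s - 1) * (2 * (r - 1)) := Nat.mul_le_mul_left _ (by omega)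
        _ = 2 * (r ^ (s - 1) * (r - 1)) := by ring
    omega

end

/-- Let G and H be finite groups whose power graphs are isomorphic: there is a bijection e : G → H such that, for all x, y, one of x, y is a power of the other exactly when one of e(x), e(y) is a power of the other. Then G and H have the same prime graph: for distinct primes p, q, G has an element of order pq if and only if H does. -/
theorem result {G H : Type*} [Group G] [Finite G] [Group H] [Finite H] (e : G ≃ H)
    (he : ∀ x y : G, (x ∈ Subgroup.zpowers y ∨ y ∈ Subgroup.zpowers x) ↔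
      (e x ∈ Subgroup.zpowers (e y) ∨ e y ∈ Subgroup.zpowers (e x)))
    {p q : ℕ} (hp : p.Prime) (hq : q.Prime) (hpq : p ≠ q) :
    (∃ g : G, orderOf g = p * q) ↔ (∃ h : H, orderOf h = p * q) := by
  constructor
  · intro hex
    obtain ⟨a, ha⟩ := direction e he hp hq hpq hex
    obtain ⟨u, -, hu⟩ := exists_mem_orderOf ha
    exact ⟨u, hu⟩
  · intro hex
    have he' : ∀ x y : H, adj x y ↔ adj (e.symm x) (e.symm y) := fun x y => by
      have h := he (e.symm x) (e.symm y)
      rw [e.apply_symm_apply, e.apply_symm_apply] at h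
      exact h.symm
    obtain ⟨a, ha⟩ := direction e.symm he' hp hq hpq hex
    obtain ⟨u, -, hu⟩ := exists_mem_orderOf ha
    exact ⟨u, hu⟩

end Cfsg.Agent.S4085
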