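import Cfsg.Statements.S4086
import Cfsg.Agent.EqLemmas

set_option autoImplicit false
open Cfsg

namespace Cfsg.Agent.S4086

/-- For a finite group G the following are equivalent: every non-identity element has prime-power order; whenever two elements generate a cyclic subgroup, one of them is a power of the other (the enhanced power graph of G coincides with its power graph). -/
theorem result {G : Type*} [Group G] [Finite G] :
    (∀ g : G, g ≠ 1 → IsPrimePow (orderOf g)) ↔
    (∀ x y : G, IsCyclic ↥(Subgroup.closure ({x, y} : Set G)) → (x ∈ Subgroup.zpowers y ∨ y ∈ Subgroup.zpowers x)) := by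
  constructor
  · intro h x y hc
    obtain ⟨⟨g, hg⟩, hgen⟩ := hc.exists_generator
    have hmem : ∀ z ∈ Subgroup.closure ({x, y} : Set G), ∃ a : ℤ, g ^ a = z := fun z hz => by
      obtain ⟨a, ha⟩ := Subgroup.mem_zpowers_iff.1 (hgen ⟨z, hz⟩)
      exact ⟨a, by simpa using congrArg Subtype.val ha⟩
    obtain ⟨a, rfl⟩ := hmem x (Subgroup.subset_closure (by simp))
    obtain ⟨b, rfl⟩ := hmem y (Subgroup.subset_closure (by simp))
    by_cases hg1 : g = 1
    · exact Or.inl (by simp [hg1])
    obtain ⟨p, k, hp, -, hpk⟩ := (isPrimePow_nat_iff _).1 (h g hg1)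
    have key : ∀ a b : ℤ, (Int.gcd a (orderOf g) : ℤ) ∣ b → g ^ b ∈ Subgroup.zpowers (g ^ a) := by
      rintro a b ⟨c, rfl⟩
      rw [zpow_mul]
      refine Subgroup.zpow_mem _ ?_ c
      rw [Int.gcd_eq_gcd_ab, zpow_add, zpow_mul, zpow_mul, zpow_natCast, pow_orderOf_eq_one, one_zpow, mul_one]
      exact Subgroup.zpow_mem _ (Subgroup.mem_zpowers _) _
    have hdvd : ∀ a : ℤ, ∃ i, Int.gcd a (orderOf g) = p ^ i := fun a => by
      obtain ⟨i, -, hi⟩ := (Nat.dvd_prime_pow hp).1 (show Int.gcd a (orderOf g) ∣ p ^ k by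
        rw [hpk]; exact Int.natCast_dvd_natCast.1 (Int.gcd_dvd_right a _))
      exact ⟨i, hi⟩
    obtain ⟨i, hi⟩ := hdvd a
    obtain ⟨j, hj⟩ := hdvd b
    rcases le_total i j with hij | hij
    · refine Or.inr (key a b ?_)
      refine (Int.natCast_dvd_natCast.2 ?_).trans (Int.gcd_dvd_left b (orderOf g))
      rw [hi, hj]
      exact pow_dvd_pow p hij
    · refine Or.inl (key b a ?_)
      refine (Int.natCast_dvd_natCast.2 ?_).trans (Int.gcd_dvd_left a (orderOf g))
      rw [hi, hj]
      exact pow_dvd_pow p hij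
  · intro h g hg
    have hn1 : orderOf g ≠ 1 := fun e => hg (orderOf_eq_one_iff.1 e)
    obtain ⟨p, hp, hpn⟩ := Nat.exists_prime_and_dvd hn1
    have hn0 : orderOf g ≠ 0 := (orderOf_pos g).ne'
    set a := p ^ (orderOf g).factorization p with ha
    set b := orderOf g / a with hb
    have hab : a * b = orderOf g := Nat.ordProj_mul_ordCompl_eq_self _ p
    have hco : a.Coprime b := (Nat.coprime_ordCompl hp hn0).pow_left _
    by_cases hb1 : b = 1
    · rw [← hab, hb1, mul_one, ha]
      exact hp.isPrimePow.pow (hp.factorization_pos_of_dvd hn0 hpn).ne'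
    exfalso
    have ha1 : a ≠ 1 := (Nat.one_lt_pow (hp.factorization_pos_of_dvd hn0 hpn).ne' hp.one_lt).ne'
    have hoa : orderOf (g ^ a) = b := by
      rw [orderOf_pow' g (left_ne_zero_of_mul (hab ▸ hn0)), Nat.gcd_eq_right (Dvd.intro _ hab)]
    have hob : orderOf (g ^ b) = a := by
      rw [orderOf_pow' g (right_ne_zero_of_mul (hab ▸ hn0)), Nat.gcd_eq_right (Dvd.intro_left _ hab), ← hab,
        Nat.mul_div_cancel _ (Nat.pos_of_ne_zero (right_ne_zero_of_mul (hab ▸ hn0)))]
    have hle : Subgroup.closure ({g ^ a, g ^ b} : Set G) ≤ Subgroup.zpowers g := by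
      rw [Subgroup.closure_le]
      rintro z (rfl | rfl) <;> exact Subgroup.pow_mem _ (Subgroup.mem_zpowers g) _
    rcases h _ _ (Subgroup.isCyclic_of_le hle) with h' | h'
    · have := orderOf_dvd_of_mem_zpowers h'
      rw [hoa, hob] at this
      exact hb1 (Nat.eq_one_of_dvd_coprimes hco this dvd_rfl)
    · have := orderOf_dvd_of_mem_zpowers h'
      rw [hoa, hob] at this
      exact ha1 (Nat.eq_one_of_dvd_coprimes hco dvd_rfl this)

end Cfsg.Agent.S4086
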