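import Cfsg.Statements.S4089
import Cfsg.Agent.EqLemmas
import Cfsg.Agent.Lib.LargeSub.PReducedOf
import Cfsg.Agent.Lib.PReduced.Tools
import Cfsg.Agent.Lib.Cores.Subnormal

set_option autoImplicit false
open Cfsg

namespace Cfsg.Agent.S4089

section

variable {G : Type*} [Group G] [Finite G] {p : ℕ} [Fact p.Prime]

theorem subnormal_iff {H : Subgroup G} (hH : IsPGroup p H) (g : G) :
    (H.subgroupOf (H ⊔ Subgroup.zpowers g)).IsSubnormal ↔
      ∃ R : Subgroup G, H ≤ R ∧ Cfsg.pCoreOf p (Subgroup.normalizer (R : Set G)) = R ∧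
        g ∈ Subgroup.normalizer (R : Set G) := by
  set L := H ⊔ Subgroup.zpowers g with hL
  constructor
  · intro hsn
    have hHL : H ≤ L := le_sup_left
    have h0 : H ≤ Cfsg.pCoreOf p L := fun x hx =>
      ⟨⟨x, hHL hx⟩, Cfsg.Agent.PReduced.le_pCore_of_isSubnormal hsn
        (hH.of_equiv (Subgroup.subgroupOfEquivOfLe hHL).symm) hx, rfl⟩
    have hg0 : g ∈ Subgroup.normalizer (Cfsg.pCoreOf p L : Set G) :=
      Cfsg.Agent.LargeSub.self_le_normalizer_pCoreOf L (Subgroup.mem_sup_right (Subgroup.mem_zpowers g))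
    obtain ⟨R, hR0, hmax⟩ := Finite.exists_le_maximal (α := Subgroup G)
      (p := fun R => IsPGroup p R ∧ g ∈ Subgroup.normalizer (R : Set G)) (a := Cfsg.pCoreOf p L)
      ⟨Cfsg.Agent.LargeSub.isPGroup_pCoreOf L, hg0⟩
    obtain ⟨hRp, hgR⟩ := hmax.prop
    refine ⟨R, h0.trans hR0, ?_, hgR⟩
    have hle : R ≤ Cfsg.pCoreOf p (Subgroup.normalizer (R : Set G)) :=
      Cfsg.Agent.LargeSub.le_pCoreOf Subgroup.le_normalizer le_rfl hRp
    exact le_antisymm (hmax.2 ⟨Cfsg.Agent.LargeSub.isPGroup_pCoreOf _,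
      Cfsg.Agent.LargeSub.self_le_normalizer_pCoreOf _ hgR⟩ hle) hle
  · rintro ⟨R, hHR, hR, hg⟩
    have hRp : IsPGroup p R := hR ▸ Cfsg.Agent.LargeSub.isPGroup_pCoreOf _
    have hLR : L ≤ Subgroup.normalizer (R : Set G) :=
      sup_le (hHR.trans Subgroup.le_normalizer) (Subgroup.zpowers_le.2 hg)
    have hn : (R.subgroupOf L).Normal := Cfsg.Agent.Cores.subgroupOf_normal_of_le_normalizer hLR
    haveI : Group.IsNilpotent (R.subgroupOf L) :=
      (hRp.comap_of_injective L.subtype L.subtype_injective).isNilpotent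
    exact Subgroup.IsSubnormal.trans (fun x hx => hHR hx)
      (Cfsg.Agent.Cores.isSubnormal_of_nilpotent _) hn.isSubnormal

end

/-- Let G be a finite group, p a prime and H a p-subgroup of G. Then the set of elements g of G such that H is subnormal in the subgroup generated by H and g is the union of the normalizers N_G(R) over the subgroups R of G containing H with R = O_p(N_G(R)); and this set does not change when H is replaced by the intersection of all Sylow p-subgroups of G containing H. -/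
theorem result {G : Type*} [Group G] [Finite G] (p : ℕ) [Fact p.Prime]
    (H : Subgroup G) (hH : IsPGroup p H) :
    {g : G | ((H).subgroupOf (H ⊔ Subgroup.zpowers g)).IsSubnormal} =
      {g : G | ∃ R : Subgroup G, H ≤ R ∧ (Cfsg.pCore p (Subgroup.normalizer (R : Set G))).map (Subgroup.normalizer (R : Set G)).subtype = R ∧ g ∈ Subgroup.normalizer (R : Set G)} ∧
    ∀ g : G, (((H).subgroupOf (H ⊔ Subgroup.zpowers g)).IsSubnormal ↔
      (((sInf {K : Subgroup G | ∃ Q : Sylow p G, H ≤ (Q : Subgroup G) ∧ K = (Q : Subgroup G)})).subgroupOf ((sInf {K : Subgroup G | ∃ Q : Sylow p G, H ≤ (Q : Subgroup G) ∧ K = (Q : Subgroup G)}) ⊔ Subgroup.zpowers g)).IsSubnormal) := by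
  refine ⟨Set.ext fun g => subnormal_iff hH g, fun g => ?_⟩
  set I := sInf {K : Subgroup G | ∃ Q : Sylow p G, H ≤ (Q : Subgroup G) ∧ K = (Q : Subgroup G)} with hI
  have hHI : H ≤ I := le_sInf fun K ⟨Q, hQ, hK⟩ => hK ▸ hQ
  obtain ⟨Q₀, hQ₀⟩ := hH.exists_le_sylow
  have hIQ : ∀ Q : Sylow p G, H ≤ (Q : Subgroup G) → I ≤ (Q : Subgroup G) := fun Q hQ => sInf_le ⟨Q, hQ, rfl⟩
  have hIp : IsPGroup p I := Q₀.isPGroup'.to_le (hIQ Q₀ hQ₀)
  rw [subnormal_iff hH, subnormal_iff hIp]
  constructor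
  · rintro ⟨R, hHR, hR, hg⟩
    refine ⟨R, ?_, hR, hg⟩
    have hRp : IsPGroup p R := hR ▸ Cfsg.Agent.LargeSub.isPGroup_pCoreOf _
    set N := Subgroup.normalizer (R : Set G) with hN
    set X := sInf {K : Subgroup G | ∃ Q : Sylow p G, R ≤ (Q : Subgroup G) ∧ K = (Q : Subgroup G)} with hX
    have hIX : I ≤ X := le_sInf fun K ⟨Q, hQ, hK⟩ => hK ▸ hIQ Q (hHR.trans hQ)
    obtain ⟨Q₁, hQ₁⟩ := hRp.exists_le_sylow
    have hXQ : ∀ Q : Sylow p G, R ≤ (Q : Subgroup G) → X ≤ (Q : Subgroup G) := fun Q hQ => sInf_le ⟨Q, hQ, rfl⟩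
    have hRX : R ≤ X := le_sInf fun K ⟨Q, hQ, hK⟩ => hK ▸ hQ
    haveI hXn : Group.IsNilpotent X := (Q₁.isPGroup'.to_le (hXQ Q₁ hQ₁)).isNilpotent
    haveI : (R.subgroupOf N).Normal := Subgroup.normal_in_normalizer
    haveI : (Subgroup.comap N.subtype R).Normal := Subgroup.normal_in_normalizer
    -- `X ∩ N(R)` lies in every Sylow subgroup of `N(R)`
    have hXN : X ⊓ N ≤ R := by
      rintro x ⟨hxX, hxN⟩
      rw [← hR]
      refine ⟨⟨x, hxN⟩, ?_, rfl⟩
      obtain ⟨T, hT⟩ := ((hRp.comap_of_injective N.subtype N.subtype_injective) : IsPGroup p (R.subgroupOf N)).exists_le_sylow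
      have hall : ∀ T : Sylow p N, (⟨x, hxN⟩ : N) ∈ (T : Subgroup N) := by
        intro T
        have hRT : R.subgroupOf N ≤ (T : Subgroup N) :=
          (T.3 (T.isPGroup'.to_sup_of_normal_right (hRp.comap_of_injective N.subtype N.subtype_injective : IsPGroup p (R.subgroupOf N))) le_sup_left) ▸ le_sup_right
        obtain ⟨U, hU⟩ := (T.isPGroup'.map N.subtype).exists_le_sylow
        have hRU : R ≤ (U : Subgroup G) := fun r hr => hU ⟨⟨r, Subgroup.le_normalizer hr⟩, hRT hr, rfl⟩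
        have hT' : ((U : Subgroup G).subgroupOf N) = T :=
          T.3 (U.isPGroup'.comap_of_injective N.subtype N.subtype_injective) (Subgroup.map_le_iff_le_comap.1 hU)
        exact hT'.le (hXQ U hRU hxX)
      -- the intersection of all Sylow subgroups is a normal `p`-subgroup
      have hn : (⨅ T : Sylow p N, (T : Subgroup N)).Normal := by
        refine ⟨fun a ha b => ?_⟩
        rw [Subgroup.mem_iInf] at ha ⊢
        intro T
        have := ha (b⁻¹ • T)
        rw [Sylow.coe_subgroup_smul, Subgroup.mem_pointwise_smul_iff_inv_smul_mem] at this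
        simpa [MulAut.smul_def, mul_assoc] using this
      exact Cfsg.Agent.Cores.le_pCore hn (T.isPGroup'.to_le (iInf_le _ T)) (Subgroup.mem_iInf.2 hall)
    by_contra hnot
    have hlt : R.subgroupOf X < ⊤ := by
      rw [lt_top_iff_ne_top, Ne, Subgroup.subgroupOf_eq_top]
      exact fun h => hnot (hIX.trans h)
    obtain ⟨x, hx, hxR⟩ := SetLike.exists_of_lt (Group.normalizerCondition_of_isNilpotent _ hlt)
    refine hxR (hXN ⟨x.2, Subgroup.mem_normalizer_iff.2 fun a => ⟨fun ha => ?_, fun ha => ?_⟩⟩)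
    · exact (Subgroup.mem_normalizer_iff.1 hx ⟨a, hRX ha⟩).1 ha
    · have haX : a ∈ X := by
        have h1 := X.mul_mem (X.mul_mem (X.inv_mem x.2) (hRX ha)) x.2
        simpa [mul_assoc] using h1
      exact (Subgroup.mem_normalizer_iff.1 hx ⟨a, haX⟩).2 ha
  · rintro ⟨R, hIR, hR, hg⟩
    exact ⟨R, hHI.trans hIR, hR, hg⟩

end Cfsg.Agent.S4089
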