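import Cfsg.Statements.S4088
import Cfsg.Agent.EqLemmas
import Cfsg.Agent.Lib.SubnormalizerCount.Basic
import Cfsg.Agent.S4089

set_option autoImplicit false
open Cfsg

namespace Cfsg.Agent.S4088

section

variable {G : Type*} [Group G] [Finite G] {p : ℕ} [Fact p.Prime]

theorem subnormal_iff_invariant {H : Subgroup G} (hH : IsPGroup p H) (g : G) :
    (H.subgroupOf (H ⊔ Subgroup.zpowers g)).IsSubnormal ↔
      ∃ L : Subgroup G, H ≤ L ∧ IsPGroup p L ∧ g ∈ Subgroup.normalizer (L : Set G) := by
  constructor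
  · intro h
    obtain ⟨R, hHR, hR, hg⟩ := (S4089.subnormal_iff hH g).1 h
    exact ⟨R, hHR, hR ▸ Cfsg.Agent.LargeSub.isPGroup_pCoreOf _, hg⟩
  · rintro ⟨R, hHR, hRp, hg⟩
    set L := H ⊔ Subgroup.zpowers g with hL
    have hLR : L ≤ Subgroup.normalizer (R : Set G) :=
      sup_le (hHR.trans Subgroup.le_normalizer) (Subgroup.zpowers_le.2 hg)
    have hn : (R.subgroupOf L).Normal := Cfsg.Agent.Cores.subgroupOf_normal_of_le_normalizer hLR
    haveI : Group.IsNilpotent (R.subgroupOf L) :=
      (hRp.comap_of_injective L.subtype L.subtype_injective).isNilpotent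
    exact Subgroup.IsSubnormal.trans (fun x hx => hHR hx)
      (Cfsg.Agent.Cores.isSubnormal_of_nilpotent _) hn.isSubnormal

theorem card_into (H : Subgroup G) (P : Sylow p G) :
    Nat.card {g : G // H.map (MulAut.conj g⁻¹).toMonoidHom ≤ (P : Subgroup G)} =
      Nat.card {Q : Sylow p G // H ≤ (Q : Subgroup G)} * Nat.card (Subgroup.normalizer ((P : Subgroup G) : Set G)) := by
  classical
  haveI := Fintype.ofFinite G
  haveI := Fintype.ofFinite (Sylow p G)
  let f : {g : G // H ≤ ((g • P : Sylow p G) : Subgroup G)} → {Q : Sylow p G // H ≤ (Q : Subgroup G)} :=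
    fun g => ⟨g.1 • P, g.2⟩
  have hiff : ∀ g : G, H ≤ ((g • P : Sylow p G) : Subgroup G) ↔
      H.map (MulAut.conj g⁻¹).toMonoidHom ≤ (P : Subgroup G) := fun g => by
    rw [Sylow.coe_subgroup_smul, Subgroup.map_le_iff_le_comap]
    refine forall₂_congr fun x _ => ?_
    rw [Subgroup.mem_pointwise_smul_iff_inv_smul_mem, Subgroup.mem_comap]
    simp [MulAut.smul_def]
  have hQ : ∀ Q : {Q : Sylow p G // H ≤ (Q : Subgroup G)},
      Nat.card {g // f g = Q} = Nat.card (Subgroup.normalizer ((P : Subgroup G) : Set G)) := by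
    rintro ⟨Q, hHQ⟩
    obtain ⟨a, ha⟩ := MulAction.exists_smul_eq G P Q
    refine Nat.card_congr
      { toFun := fun g => ⟨a⁻¹ * g.1.1, ?_⟩
        invFun := fun n => ⟨⟨a * n.1, ?_⟩, Subtype.ext ?_⟩
        left_inv := fun g => Subtype.ext (Subtype.ext (mul_inv_cancel_left _ _))
        right_inv := fun n => Subtype.ext (inv_mul_cancel_left _ _) }
    · refine Sylow.smul_eq_iff_mem_normalizer.1 ?_
      rw [mul_smul, show g.1.1 • P = Q from congrArg Subtype.val g.2, ← ha, inv_smul_smul]
    · rw [mul_smul, Sylow.smul_eq_iff_mem_normalizer.2 n.2, ha]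
      exact hHQ
    · show (a * n.1) • P = Q
      rw [mul_smul, Sylow.smul_eq_iff_mem_normalizer.2 n.2, ha]
  have e1 := Nat.card_congr (Equiv.sigmaFiberEquiv f).symm
  rw [Nat.card_sigma, Finset.sum_congr rfl fun Q _ => hQ Q, Finset.sum_const, smul_eq_mul,
    Finset.card_univ, ← Nat.card_eq_fintype_card] at e1
  rw [← e1]
  exact (Nat.card_congr (Equiv.subtypeEquivRight hiff)).symm

theorem double_count (H : Subgroup G) (P : Sylow p G) :
    Nat.card {Q : Sylow p G // H ≤ (Q : Subgroup G)} * Nat.card (Subgroup.normalizer ((P : Subgroup G) : Set G)) =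
      Nat.card {K : Subgroup G // K ≤ (P : Subgroup G) ∧ ∃ g : G, K = H.map (MulAut.conj g).toMonoidHom} *
        Nat.card (Subgroup.normalizer (H : Set G)) := by
  classical
  haveI := Fintype.ofFinite G
  haveI := Fintype.ofFinite (Subgroup G)
  haveI := Fintype.ofFinite (Sylow p G)
  let f' : {g : G // H.map (MulAut.conj g⁻¹).toMonoidHom ≤ (P : Subgroup G)} →
      {K : Subgroup G // K ≤ (P : Subgroup G) ∧ ∃ g : G, K = H.map (MulAut.conj g).toMonoidHom} :=
    fun g => ⟨H.map (MulAut.conj g.1⁻¹).toMonoidHom, g.2, g.1⁻¹, rfl⟩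
  have hK : ∀ K : {K : Subgroup G // K ≤ (P : Subgroup G) ∧ ∃ g : G, K = H.map (MulAut.conj g).toMonoidHom},
      Nat.card {g // f' g = K} = Nat.card (Subgroup.normalizer (H : Set G)) := by
    rintro ⟨K, hKP, a, rfl⟩
    refine Nat.card_congr
      { toFun := fun g => ⟨g.1.1 * a, ?_⟩
        invFun := fun n => ⟨⟨n.1 * a⁻¹, ?_⟩, Subtype.ext ?_⟩
        left_inv := fun g => Subtype.ext (Subtype.ext (mul_inv_cancel_right _ _))
        right_inv := fun n => Subtype.ext (inv_mul_cancel_right _ _) }
    · have h := congrArg Subtype.val g.2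
      refine Subgroup.mem_normalizer_iff.2 fun x => ?_
      have h1 := SetLike.ext_iff.1 h (a * x * a⁻¹)
      simp only [f', Subgroup.mem_map, MulEquiv.toMonoidHom_eq_coe, MonoidHom.coe_coe, MulAut.conj_apply] at h1
      constructor
      · intro hx
        obtain ⟨y, hy, hye⟩ := h1.2 ⟨x, hx, rfl⟩
        rw [show g.1.1 * a * x * (g.1.1 * a)⁻¹ = g.1.1 * (a * x * a⁻¹) * g.1.1⁻¹ by group, ← hye]
        simpa [mul_assoc] using hy
      · intro hx
        obtain ⟨y, hy, hye⟩ := h1.1 ⟨_, hx, by group⟩
        exact mul_left_cancel (mul_right_cancel hye) ▸ hy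
    all_goals
      have hn : H.map (MulAut.conj (n.1 * a⁻¹)⁻¹).toMonoidHom = H.map (MulAut.conj a).toMonoidHom := by
        ext x
        simp only [Subgroup.mem_map, MulEquiv.toMonoidHom_eq_coe, MonoidHom.coe_coe, MulAut.conj_apply]
        constructor
        · rintro ⟨y, hy, rfl⟩
          exact ⟨n.1⁻¹ * y * n.1, (Subgroup.mem_normalizer_iff''.1 n.2 y).1 hy, by group⟩
        · rintro ⟨y, hy, rfl⟩
          exact ⟨n.1 * y * n.1⁻¹, (Subgroup.mem_normalizer_iff.1 n.2 y).1 hy, by group⟩
    · exact hn.le.trans hKP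
    · exact hn
  have e2 := Nat.card_congr (Equiv.sigmaFiberEquiv f').symm
  rw [Nat.card_sigma, Finset.sum_congr rfl fun K _ => hK K, Finset.sum_const, smul_eq_mul,
    Finset.card_univ, ← Nat.card_eq_fintype_card] at e2
  rw [← card_into H P, ← e2]

end

/-- Let G be a finite group, p a prime dividing the order of G, H a p-subgroup of G and P a Sylow p-subgroup of G. Call the subnormalizer of H the set of elements g of G such that H is subnormal in the subgroup generated by H and g. Then the number of elements of the subnormalizer of H equals the number of Sylow p-subgroups of G containing H times the order of N_G(P), and also equals the number of conjugates of H contained in P times the order of N_G(H). -/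
theorem result {G : Type*} [Group G] [Finite G] (p : ℕ) [Fact p.Prime]
    (hp : p ∣ Nat.card G) (H : Subgroup G) (hH : IsPGroup p H) (P : Sylow p G) :
    Nat.card {g : G // ((H).subgroupOf (H ⊔ Subgroup.zpowers g)).IsSubnormal} =
        Nat.card {Q : Sylow p G // H ≤ (Q : Subgroup G)} * Nat.card (Subgroup.normalizer ((P : Subgroup G) : Set G)) ∧
    Nat.card {g : G // ((H).subgroupOf (H ⊔ Subgroup.zpowers g)).IsSubnormal} =
        Nat.card {K : Subgroup G // K ≤ (P : Subgroup G) ∧ ∃ g : G, K = H.map (MulAut.conj g).toMonoidHom} *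
          Nat.card (Subgroup.normalizer (H : Set G)) := by
  have h : Nat.card {g : G // ((H).subgroupOf (H ⊔ Subgroup.zpowers g)).IsSubnormal} =
      Nat.card {Q : Sylow p G // H ≤ (Q : Subgroup G)} * Nat.card (Subgroup.normalizer ((P : Subgroup G) : Set G)) :=
    (Nat.card_congr (Equiv.subtypeEquivRight (subnormal_iff_invariant hH))).trans
      (SubnormalizerCount.count_invariant hH P)
  exact ⟨h, h.trans (double_count H P)⟩

end Cfsg.Agent.S4088
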