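import Cfsg.Statements.S4090
import Cfsg.Agent.EqLemmas
import Cfsg.Agent.S4088
import Cfsg.Agent.Lib.Solvable.Basic

set_option autoImplicit false
open scoped BigOperators
open Cfsg

namespace Cfsg.Agent.S4090

section

variable {G : Type*} [Group G] [Finite G] {p : ℕ} [Fact p.Prime]

/-- The elements conjugating `H` into `X`. -/
def into (H X : Subgroup G) : Set G := {g | ∀ h ∈ H, g⁻¹ * h * g ∈ X}

/-- The elements of `B` centralizing `H` modulo `A`. -/
def cmod (H A B : Subgroup G) : Set G := {u | u ∈ B ∧ ∀ h ∈ H, h * u * h⁻¹ * u⁻¹ ∈ A}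

theorem card_inf_eq (P : Sylow p G) {A B : Subgroup G} [A.Normal] (hAB : A ≤ B)
    (hcop : (A.relIndex B).Coprime p) : B ⊓ ((P : Subgroup G) ⊔ A) = A := by
  refine le_antisymm ?_ (le_inf hAB le_sup_right)
  obtain ⟨m, hm⟩ := IsPGroup.iff_card.1 P.isPGroup'
  have hle : A ≤ B ⊓ ((P : Subgroup G) ⊔ A) := le_inf hAB le_sup_right
  have h1 : A.relIndex (B ⊓ ((P : Subgroup G) ⊔ A)) ∣ A.relIndex B :=
    Dvd.intro _ (Subgroup.relIndex_mul_relIndex _ _ _ hle inf_le_left)
  have h2 : A.relIndex (B ⊓ ((P : Subgroup G) ⊔ A)) ∣ p ^ m := by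
    refine (Dvd.intro _ (Subgroup.relIndex_mul_relIndex _ _ _ hle inf_le_right)).trans ?_
    rw [Subgroup.relIndex_sup_right, ← hm]
    exact Subgroup.index_dvd_card _
  exact Subgroup.relIndex_eq_one.1 (Nat.eq_one_of_dvd_coprimes (hcop.pow_right m) h1 h2)

theorem exists_into (P : Sylow p G) {H A B : Subgroup G} [B.Normal] (hH : IsPGroup p H) {g : G}
    (hg : g ∈ into H ((P : Subgroup G) ⊔ B)) : ∃ x ∈ B, g * x ∈ into H ((P : Subgroup G) ⊔ A) := by
  set L := (P : Subgroup G) ⊔ B with hL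
  set K := H.map (MulAut.conj g⁻¹).toMonoidHom with hK
  have hKL : K ≤ L := by
    rintro - ⟨h, hh, rfl⟩
    simpa using hg h hh
  let PL : Sylow p L := P.subtype le_sup_left
  obtain ⟨Q, hQ⟩ := ((hH.map _).comap_of_injective L.subtype L.subtype_injective :
    IsPGroup p (K.subgroupOf L)).exists_le_sylow
  obtain ⟨l, hl⟩ := MulAction.exists_smul_eq L PL Q
  obtain ⟨b, hb, π, hπ, hbπ⟩ := Subgroup.mem_sup_of_normal_left.1
    (show (l : G) ∈ B ⊔ (P : Subgroup G) from sup_comm (P : Subgroup G) B ▸ l.2)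
  refine ⟨b, hb, fun h hh => Subgroup.mem_sup_left ?_⟩
  have hk : g⁻¹ * h * g ∈ K := ⟨h, hh, by simp⟩
  have hmem : (⟨g⁻¹ * h * g, hKL hk⟩ : L) ∈ (Q : Subgroup L) := hQ hk
  rw [← hl, Sylow.coe_subgroup_smul, Subgroup.mem_pointwise_smul_iff_inv_smul_mem] at hmem
  have h2 : (l : G)⁻¹ * (g⁻¹ * h * g) * l ∈ (P : Subgroup G) := by
    simpa [PL, MulAut.smul_def, Subgroup.mem_subgroupOf, mul_assoc] using hmem
  have h3 := P.mul_mem (P.mul_mem hπ h2) ((P : Subgroup G).inv_mem hπ)
  rw [← hbπ] at h3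
  simpa [mul_assoc] using h3

/-- The key step. -/
theorem step (P : Sylow p G) {H A B : Subgroup G} [A.Normal] [B.Normal] (hH : IsPGroup p H) (hAB : A ≤ B)
    (hcop : (A.relIndex B).Coprime p) :
    Nat.card (into H ((P : Subgroup G) ⊔ A)) * Nat.card B =
      Nat.card (into H ((P : Subgroup G) ⊔ B)) * Nat.card (cmod H A B) := by
  classical
  haveI := Fintype.ofFinite G
  set X := (P : Subgroup G) ⊔ A with hX
  set Y := (P : Subgroup G) ⊔ B with hY
  have hXY : X ≤ Y := sup_le_sup_left hAB _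
  have hinf := card_inf_eq P hAB hcop
  have hpairs : Nat.card (into H X) * Nat.card B =
      Nat.card (Σ g : into H Y, {x : B // (g : G) * x ∈ into H X}) := by
    rw [← Nat.card_prod]
    refine Nat.card_congr
      { toFun := fun sx => ⟨⟨sx.1.1 * (sx.2 : G)⁻¹, fun h hh => ?_⟩, sx.2, by simp⟩
        invFun := fun a => (⟨(a.1 : G) * (a.2.1 : G), a.2.2⟩, a.2.1)
        left_inv := fun sx => by ext <;> simp
        right_inv := fun ⟨⟨g, hg⟩, ⟨x, hx⟩⟩ => Sigma.subtype_ext (Subtype.ext (mul_inv_cancel_right _ _)) rfl }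
    have h1 := Y.mul_mem (Y.mul_mem (Subgroup.mem_sup_right sx.2.2) (hXY (sx.1.2 h hh)))
      (Y.inv_mem (Subgroup.mem_sup_right sx.2.2))
    simpa [mul_assoc] using h1
  have hfib : ∀ g : into H Y, Nat.card {x : B // (g : G) * x ∈ into H X} = Nat.card (cmod H A B) := by
    rintro ⟨g, hg⟩
    obtain ⟨x₀, hx₀, hs⟩ := exists_into (A := A) P hH hg
    have key : ∀ v ∈ B, ∀ h ∈ H, ((g * x₀ * v)⁻¹ * h * (g * x₀ * v) ∈ X ↔
        h * (g * x₀ * v * (g * x₀)⁻¹) * h⁻¹ * (g * x₀ * v * (g * x₀)⁻¹)⁻¹ ∈ A) := by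
      intro v hv h hh
      set s := g * x₀ with hsdef
      have hk := hs h hh
      set k := s⁻¹ * h * s with hkdef
      have e1 : (s * v)⁻¹ * h * (s * v) = v⁻¹ * k * v := by rw [hkdef]; group
      rw [e1]
      have hcomm : k⁻¹ * (v⁻¹ * k * v) ∈ B := by
        have h1 := B.mul_mem (Subgroup.Normal.conj_mem' ‹B.Normal› _ (B.inv_mem hv) k) hv
        simpa [mul_assoc] using h1
      have h4 : v⁻¹ * k * v ∈ X ↔ k⁻¹ * (v⁻¹ * k * v) ∈ A :=
        ⟨fun h5 => hinf.le ⟨hcomm, X.mul_mem (X.inv_mem hk) h5⟩, fun h5 => by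
          simpa using X.mul_mem hk (Subgroup.mem_sup_right h5)⟩
      rw [h4]
      set u := s * v * s⁻¹ with hu
      have e2 : k⁻¹ * (v⁻¹ * k * v) = s⁻¹ * (h⁻¹ * u⁻¹) * (h * u * h⁻¹ * u⁻¹) * (s⁻¹ * (h⁻¹ * u⁻¹))⁻¹ := by
        rw [hkdef, hu]; group
      constructor
      · intro h5
        rw [e2] at h5
        have h6 := Subgroup.Normal.conj_mem ‹A.Normal› _ h5 (s⁻¹ * (h⁻¹ * u⁻¹))⁻¹
        simpa [mul_assoc] using h6
      · intro h5
        rw [e2]
        exact Subgroup.Normal.conj_mem ‹A.Normal› _ h5 _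
    refine Nat.card_congr
      { toFun := fun x => ⟨(g * x₀) * (x₀⁻¹ * (x.1 : G)) * (g * x₀)⁻¹,
          Subgroup.Normal.conj_mem ‹B.Normal› _ (B.mul_mem (B.inv_mem hx₀) x.1.2) _, fun h hh => ?_⟩
        invFun := fun u => ⟨⟨x₀ * ((g * x₀)⁻¹ * u.1 * (g * x₀)),
          B.mul_mem hx₀ (Subgroup.Normal.conj_mem' ‹B.Normal› _ u.2.1 _)⟩, fun h hh => ?_⟩
        left_inv := fun x => Subtype.ext (Subtype.ext (by group))
        right_inv := fun u => Subtype.ext (by group) }
    · refine (key _ (B.mul_mem (B.inv_mem hx₀) x.1.2) h hh).1 ?_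
      have := x.2 h hh
      simpa [mul_assoc] using this
    · show (g * (x₀ * ((g * x₀)⁻¹ * u.1 * (g * x₀))))⁻¹ * h * (g * (x₀ * ((g * x₀)⁻¹ * u.1 * (g * x₀)))) ∈ X
      rw [← mul_assoc g x₀]
      refine (key _ (Subgroup.Normal.conj_mem' ‹B.Normal› _ u.2.1 _) h hh).2 ?_
      have := u.2.2 h hh
      simpa [mul_assoc] using this
  rw [hpairs, Nat.card_sigma, Finset.sum_congr rfl fun g _ => hfib g, Finset.sum_const, smul_eq_mul,
    Finset.card_univ, ← Nat.card_eq_fintype_card]

theorem card_dvd_cmod (H A B : Subgroup G) [A.Normal] (hAB : A ≤ B) : Nat.card A ∣ Nat.card (cmod H A B) := by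
  let f := QuotientGroup.mk' A
  let U : Subgroup G := B ⊓ (Subgroup.centralizer (H.map f : Set (G ⧸ A))).comap f
  have hUc : (U : Set G) = cmod H A B := by
    ext u
    simp only [U, f, cmod, Subgroup.coe_inf, Set.mem_inter_iff, SetLike.mem_coe, Subgroup.mem_comap,
      Subgroup.mem_centralizer_iff, Set.mem_ofPred_eq]
    refine and_congr Iff.rfl ⟨fun h k hk => ?_, ?_⟩
    · have h1 := h (QuotientGroup.mk' A k) (Subgroup.mem_map.2 ⟨k, hk, rfl⟩)
      rw [← QuotientGroup.eq_one_iff]
      rw [QuotientGroup.mk'_apply, QuotientGroup.mk'_apply] at h1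
      simp only [QuotientGroup.mk_mul, QuotientGroup.mk_inv, h1]
      group
    · rintro h y hy
      obtain ⟨k, hk, rfl⟩ := Subgroup.mem_map.1 hy
      have h1 := (QuotientGroup.eq_one_iff _).2 (h k hk)
      simp only [QuotientGroup.mk_mul, QuotientGroup.mk_inv, QuotientGroup.mk'_apply] at h1 ⊢
      rwa [mul_inv_eq_one, mul_inv_eq_iff_eq_mul] at h1
  have hAU : A ≤ U := by
    intro a ha
    refine ⟨hAB ha, Subgroup.mem_comap.2 ?_⟩
    rw [show f a = 1 from (QuotientGroup.eq_one_iff a).2 ha]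
    exact Subgroup.one_mem _
  have h := Subgroup.card_dvd_of_le hAU
  rwa [show Nat.card U = Nat.card (cmod H A B) from Nat.card_congr (Equiv.setCongr hUc)] at h

theorem product (P : Sylow p G) {H : Subgroup G} (hH : IsPGroup p H) (n : ℕ) (M : Fin (n + 1) → Subgroup G)
    (h0 : M 0 = ⊥) (hn : M (Fin.last n) = ⊤) (hmono : Monotone M) (hnormal : ∀ i, (M i).Normal)
    (hfac : ∀ i : Fin n, (∃ m : ℕ, (M i.castSucc).relIndex (M i.succ) = p ^ m) ∨
      ((M i.castSucc).relIndex (M i.succ)).Coprime p) :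
    Nat.card (into H (P : Subgroup G)) = Nat.card (P : Subgroup G) *
      ∏ i : Fin n, (if ((M i.castSucc).relIndex (M i.succ)).Coprime p then
        Nat.card (cmod H (M i.castSucc) (M i.succ)) / Nat.card (M i.castSucc) else 1) := by
  haveI := hnormal
  let c : Fin n → ℕ := fun i => if ((M i.castSucc).relIndex (M i.succ)).Coprime p then
        Nat.card (cmod H (M i.castSucc) (M i.succ)) / Nat.card (M i.castSucc) else 1
  let d : Fin n → ℕ := fun i => if ((M i.castSucc).relIndex (M i.succ)).Coprime p then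
        (M i.castSucc).relIndex (M i.succ) else 1
  let T : Fin (n + 1) → ℕ := fun i => Nat.card (into H ((P : Subgroup G) ⊔ M i))
  let Z : Fin (n + 1) → ℕ := fun i => Nat.card ↥((P : Subgroup G) ⊔ M i)
  have hstep : ∀ i : Fin n, T i.castSucc * d i = T i.succ * c i ∧ Z i.succ = Z i.castSucc * d i := by
    intro i
    have hAB : M i.castSucc ≤ M i.succ := hmono (Fin.castSucc_lt_succ).le
    have hrel := Subgroup.relIndex_mul_relIndex ⊥ _ _ bot_le hAB
    rw [Subgroup.relIndex_bot_left, Subgroup.relIndex_bot_left] at hrel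
    have hsup : ((P : Subgroup G) ⊔ M i.castSucc) ⊔ M i.succ = (P : Subgroup G) ⊔ M i.succ := by
      rw [sup_assoc, sup_eq_right.2 hAB]
    have hcard := Cfsg.Agent.Solvable.card_sup_mul_card_inf ((P : Subgroup G) ⊔ M i.castSucc) (M i.succ)
    rw [hsup] at hcard
    by_cases hcop : ((M i.castSucc).relIndex (M i.succ)).Coprime p
    · have hA : 0 < Nat.card (M i.castSucc) := Nat.card_pos
      simp only [T, Z, c, d, if_pos hcop]
      rw [inf_comm, card_inf_eq P hAB hcop] at hcard
      refine ⟨Nat.eq_of_mul_eq_mul_right hA ?_, Nat.eq_of_mul_eq_mul_right hA ?_⟩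
      · rw [mul_assoc, mul_comm ((M i.castSucc).relIndex _), hrel, step P hH hAB hcop, mul_assoc,
          Nat.div_mul_cancel (card_dvd_cmod H _ _ hAB)]
      · rw [hcard, mul_assoc, mul_comm ((M i.castSucc).relIndex _), hrel]
    · simp only [T, Z, c, d, if_neg hcop, mul_one]
      have heq : (P : Subgroup G) ⊔ M i.succ = (P : Subgroup G) ⊔ M i.castSucc := by
        obtain ⟨m, hm⟩ := (hfac i).resolve_right hcop
        set X := (P : Subgroup G) ⊔ M i.castSucc with hX
        refine le_antisymm (sup_le le_sup_left (Subgroup.relIndex_eq_one.1 ?_)) (sup_le_sup_left hAB _)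
        have h1 : X.relIndex (M i.succ) ∣ p ^ m := hm ▸ Subgroup.relIndex_dvd_of_le_left (M i.succ) le_sup_right
        have h2 : X.relIndex (M i.succ) * Nat.card X = Nat.card ↥((P : Subgroup G) ⊔ M i.succ) := by
          have h3 := Subgroup.relIndex_mul_relIndex ⊥ (X ⊓ M i.succ) (M i.succ) bot_le inf_le_right
          rw [Subgroup.relIndex_bot_left, Subgroup.relIndex_bot_left, Subgroup.inf_relIndex_right] at h3
          refine Nat.eq_of_mul_eq_mul_right (Nat.card_pos (α := ↥(X ⊓ M i.succ))) ?_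
          rw [hcard, ← h3]
          ring
        have h4 : X.relIndex (M i.succ) ∣ (P : Subgroup G).index := by
          have hx := Subgroup.index_mul_card ((P : Subgroup G) ⊔ M i.succ)
          rw [← h2, ← mul_assoc] at hx
          have hX2 := Subgroup.index_mul_card X
          rw [← hX2] at hx
          exact (Dvd.intro_left _ (Nat.eq_of_mul_eq_mul_right Nat.card_pos hx)).trans
            (Subgroup.index_dvd_of_le le_sup_left)
        exact Nat.eq_one_of_dvd_coprimes
          (Nat.Coprime.pow_right m ((Nat.Prime.coprime_iff_not_dvd Fact.out).2 P.not_dvd_index).symm) h4 h1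
      exact ⟨by rw [heq], by rw [heq]⟩
  have key : ∀ k : Fin (n + 1), T 0 * ∏ i with i.castSucc < k, d i = T k * ∏ i with i.castSucc < k, c i ∧
      Z k = Z 0 * ∏ i with i.castSucc < k, d i := by
    intro k
    induction k using Fin.induction with
    | zero => simp
    | succ j ih =>
      have hfilter : (Finset.univ.filter fun i : Fin n => i.castSucc < j.succ) =
          insert j (Finset.univ.filter fun i : Fin n => i.castSucc < j.castSucc) := by
        ext i
        simp only [Finset.mem_insert, Finset.mem_filter, Finset.mem_univ, true_and, Fin.lt_def, Fin.ext_iff,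
          Fin.val_succ, Fin.val_castSucc]
        omega
      have hnot : j ∉ Finset.univ.filter fun i : Fin n => i.castSucc < j.castSucc := by simp
      rw [hfilter, Finset.prod_insert hnot, Finset.prod_insert hnot]
      refine ⟨?_, by rw [(hstep j).2, ih.2]; ring⟩
      rw [mul_left_comm, ih.1, ← mul_assoc (T j.succ), ← (hstep j).1]
      ring
  obtain ⟨hT, hZ⟩ := key (Fin.last n)
  rw [Finset.filter_true_of_mem fun i _ => Fin.castSucc_lt_last i] at hT hZ
  simp only [T, Z, hn, h0, sup_top_eq, sup_bot_eq] at hT hZ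
  have hall : Nat.card (into H (⊤ : Subgroup G)) = Nat.card (⊤ : Subgroup G) := by
    refine Nat.card_congr (Equiv.setCongr ?_)
    ext g
    simp [into]
  rw [hall, hZ] at hT
  refine Nat.eq_of_mul_eq_mul_right (Finset.prod_pos (s := Finset.univ) (f := d) fun i _ => ?_) ?_
  · simp only [d]
    split_ifs with h
    · exact Nat.pos_of_ne_zero Subgroup.index_ne_zero_of_finite
    · exact one_pos
  · rw [hT]
    ring

end

/-- Let G be a finite p-solvable group, H a p-subgroup of G and P a Sylow p-subgroup, and fix a chain of normal subgroups 1 = M₀ ≤ M₁ ≤ ⋯ ≤ Mₙ = G of G each of whose factors is a p-group or a p'-group. Then the number of elements g of G such that H is subnormal in the subgroup generated by H and g equals the order of P times the product, over the factors Mᵢ₊₁/Mᵢ of order prime to p, of the order of the centralizer of H in Mᵢ₊₁/Mᵢ (counted as the number of u ∈ Mᵢ₊₁ with [h, u] ∈ Mᵢ for all h ∈ H, divided by the order of Mᵢ). -/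
theorem result {G : Type*} [Group G] [Finite G] (p : ℕ) [Fact p.Prime]
    (hG : Cfsg.IsPSolvable p G) (H : Subgroup G) (hH : IsPGroup p H) (P : Sylow p G)
    (n : ℕ) (M : Fin (n + 1) → Subgroup G) (h0 : M 0 = ⊥) (hn : M (Fin.last n) = ⊤) (hmono : Monotone M)
    (hnormal : ∀ i, (M i).Normal)
    (hfac : ∀ i : Fin n, (∃ m : ℕ, (M i.castSucc).relIndex (M i.succ) = p ^ m) ∨ ((M i.castSucc).relIndex (M i.succ)).Coprime p) :
    Nat.card {g : G // ((H).subgroupOf (H ⊔ Subgroup.zpowers g)).IsSubnormal} =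
      Nat.card (P : Subgroup G) *
        ∏ i : Fin n, (if ((M i.castSucc).relIndex (M i.succ)).Coprime p then
          Nat.card {u : G // u ∈ M i.succ ∧ ∀ h ∈ H, h * u * h⁻¹ * u⁻¹ ∈ M i.castSucc} / Nat.card (M i.castSucc)
          else 1) := by
  refine Eq.trans ?_ (product P hH n M h0 hn hmono hnormal hfac)
  rw [Nat.card_congr (Equiv.subtypeEquivRight (S4088.subnormal_iff_invariant hH)),
    SubnormalizerCount.count_invariant hH P, ← S4088.card_into H P]
  refine Nat.card_congr (Equiv.subtypeEquivRight fun g => ?_)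
  simp [into, Subgroup.map_le_iff_le_comap, SetLike.le_def]

end Cfsg.Agent.S4090
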