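import Cfsg.Statements.S4091
import Cfsg.Agent.EqLemmas
import Cfsg.Agent.S4090
import Cfsg.Agent.Lib.CoprimeFixProduct.Main

set_option autoImplicit false
open Cfsg

namespace Cfsg.Agent.S4091

open Cfsg.Agent.CoprimeFixProduct Cfsg.Agent.FixedFormula

section

variable {G : Type*} [Group G] [Finite G] {p : ℕ} [Fact p.Prime]

/-- The number of Sylow subgroups over `H`. -/
noncomputable def lam (p : ℕ) (H : Subgroup G) : ℕ := Nat.card {Q : Sylow p G // H ≤ (Q : Subgroup G)}

theorem lam_pos (H : Subgroup G) (hH : IsPGroup p H) : 0 < lam p H := by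
  obtain ⟨Q, hQ⟩ := hH.exists_le_sylow
  haveI : Nonempty {Q : Sylow p G // H ≤ (Q : Subgroup G)} := ⟨⟨Q, hQ⟩⟩
  exact Nat.card_pos

theorem card_into_eq (P : Sylow p G) (H : Subgroup G) :
    Nat.card (S4090.into H (P : Subgroup G)) =
      lam p H * Nat.card (Subgroup.normalizer ((P : Subgroup G) : Set G)) := by
  rw [lam, ← S4088.card_into H P]
  refine Nat.card_congr (Equiv.subtypeEquivRight fun g => ?_)
  simp [S4090.into, Subgroup.map_le_iff_le_comap, SetLike.le_def]

/-- Conjugation of `P` on `B / A`. -/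
def actQ (P : Subgroup G) (A B : Subgroup G) [A.Normal] [B.Normal] :
    P →* MulAut (B.map (QuotientGroup.mk' A)) :=
  haveI : (B.map (QuotientGroup.mk' A)).Normal :=
    Subgroup.Normal.map inferInstance _ (QuotientGroup.mk'_surjective A)
  MulAut.conjNormal.comp ((QuotientGroup.mk' A).comp P.subtype)

theorem card_cmod (P : Subgroup G) (A B : Subgroup G) [A.Normal] [B.Normal] (hAB : A ≤ B) (K : Subgroup P) :
    Nat.card (S4090.cmod (K.map P.subtype) A B) = Nat.card A * Nat.card (fixBy (actQ P A B) K) := by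
  let S : Set (G ⧸ A) := {q | q ∈ B.map (QuotientGroup.mk' A) ∧ ∀ k ∈ K, (k : G) * q * ((k : G) : G ⧸ A)⁻¹ = q}
  have h1 : S4090.cmod (K.map P.subtype) A B = QuotientGroup.mk ⁻¹' S := by
    ext u
    have hu : u ∈ B ↔ (u : G ⧸ A) ∈ B.map (QuotientGroup.mk' A) := by
      rw [show (u : G ⧸ A) = QuotientGroup.mk' A u from rfl, ← Subgroup.mem_comap, Subgroup.comap_map_eq,
        QuotientGroup.ker_mk', sup_eq_left.2 hAB]
    simp only [S4090.cmod, S, Set.mem_ofPred_eq, Set.mem_preimage, Subgroup.mem_map, Subgroup.coe_subtype,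
      forall_exists_index, and_imp, forall_apply_eq_imp_iff₂]
    refine and_congr hu (forall₂_congr fun k _ => ?_)
    rw [← QuotientGroup.eq_one_iff, QuotientGroup.mk_mul, QuotientGroup.mk_mul, QuotientGroup.mk_mul,
      QuotientGroup.mk_inv, QuotientGroup.mk_inv, mul_inv_eq_one]
  rw [h1, Nat.card_congr (QuotientGroup.preimageMkEquivSubgroupProdSet A S), Nat.card_prod]
  congr 1
  exact Nat.card_congr
    { toFun := fun q => ⟨⟨q.1, q.2.1⟩, fun k hk => Subtype.ext (q.2.2 k hk)⟩
      invFun := fun v => ⟨v.1.1, v.1.2, fun k hk => congrArg Subtype.val (v.2 k hk)⟩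
      left_inv := fun _ => rfl
      right_inv := fun _ => rfl }

theorem lam_prod_le (P : Sylow p G) (n : ℕ) (M : Fin (n + 1) → Subgroup G)
    (h0 : M 0 = ⊥) (hn : M (Fin.last n) = ⊤) (hmono : Monotone M) (hnormal : ∀ i, (M i).Normal)
    (hfac : ∀ i : Fin n, (∃ m : ℕ, (M i.castSucc).relIndex (M i.succ) = p ^ m) ∨
      ((M i.castSucc).relIndex (M i.succ)).Coprime p) [Fintype (P : Subgroup G)] :
    (∏ x : (P : Subgroup G), lam p (Subgroup.zpowers (x : G))) ^ p ≤
      Nat.card (Sylow p G) ^ Nat.card (P : Subgroup G) := by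
  classical
  haveI := hnormal
  set N := Nat.card (Subgroup.normalizer ((P : Subgroup G) : Set G)) with hN
  set m := Nat.card (P : Subgroup G) with hm
  let c : Fin n → Subgroup (P : Subgroup G) → ℕ := fun i K =>
    if ((M i.castSucc).relIndex (M i.succ)).Coprime p then
      Nat.card (fixBy (actQ (P : Subgroup G) (M i.castSucc) (M i.succ)) K) else 1
  have hform : ∀ K : Subgroup (P : Subgroup G),
      lam p (K.map (P : Subgroup G).subtype) * N = m * ∏ i, c i K := by
    intro K
    rw [← card_into_eq, S4090.product P ((P.isPGroup'.to_subgroup K).map _) n M h0 hn hmono hnormal hfac]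
    congr 1
    refine Finset.prod_congr rfl fun i _ => ?_
    simp only [c]
    split_ifs
    · rw [card_cmod _ _ _ (hmono Fin.castSucc_lt_succ.le), Nat.mul_div_cancel_left _ Nat.card_pos]
    · rfl
  have hbot : lam p ((⊥ : Subgroup (P : Subgroup G)).map (P : Subgroup G).subtype) = Nat.card (Sylow p G) := by
    rw [Subgroup.map_bot]
    exact Nat.card_congr (Equiv.subtypeUnivEquiv fun Q => bot_le)
  have htop : lam p ((⊤ : Subgroup (P : Subgroup G)).map (P : Subgroup G).subtype) = 1 := by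
    rw [← MonoidHom.range_eq_map, Subgroup.range_subtype, lam, Nat.card_eq_one_iff_unique]
    exact ⟨⟨fun a b => Subtype.ext (Sylow.ext ((P.3 a.1.isPGroup' a.2).trans (P.3 b.1.isPGroup' b.2).symm))⟩,
      ⟨⟨P, le_rfl⟩⟩⟩
  have hkey : ∀ i, (∏ x : (P : Subgroup G), c i (Subgroup.zpowers x)) ^ p ≤ c i ⊥ ^ m * c i ⊤ ^ ((p - 1) * m) := by
    intro i
    simp only [c]
    by_cases hcop : ((M i.castSucc).relIndex (M i.succ)).Coprime p
    · simp only [if_pos hcop]
      have hAB : M i.castSucc ≤ M i.succ := hmono Fin.castSucc_lt_succ.le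
      have hV : Nat.card ↥((M i.succ).map (QuotientGroup.mk' (M i.castSucc))) =
          (M i.castSucc).relIndex (M i.succ) := by
        refine Nat.eq_of_mul_eq_mul_right (Nat.card_pos (α := ↥(M i.castSucc))) ?_
        have h1 := Cfsg.Agent.Solvable.card_eq_card_map_mul (QuotientGroup.mk' (M i.castSucc)) (M i.succ)
        rw [QuotientGroup.ker_mk', inf_eq_right.2 hAB] at h1
        have h2 := Subgroup.relIndex_mul_relIndex ⊥ _ _ bot_le hAB
        rw [Subgroup.relIndex_bot_left, Subgroup.relIndex_bot_left] at h2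
        rw [← h1, ← h2, mul_comm]
      have hbotV : Nat.card (fixBy (actQ (P : Subgroup G) (M i.castSucc) (M i.succ)) ⊥) =
          Nat.card ↥((M i.succ).map (QuotientGroup.mk' (M i.castSucc))) := by
        refine Nat.card_congr (Equiv.subtypeUnivEquiv fun v k hk => ?_)
        rw [Subgroup.mem_bot.1 hk, map_one]; rfl
      rw [hbotV]
      exact prod_fix_le m rfl P.isPGroup'
        (fun h => (Nat.Prime.coprime_iff_not_dvd Fact.out).1 hcop.symm (hV ▸ h)) _
    · simp only [if_neg hcop, Finset.prod_const_one, one_pow, mul_one, le_refl]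
  have hN0 : 0 < N := Nat.card_pos
  refine Nat.le_of_mul_le_mul_right ?_ (pow_pos hN0 (m * p))
  have hz : ∀ x : (P : Subgroup G),
      Subgroup.zpowers (x : G) = (Subgroup.zpowers x).map (P : Subgroup G).subtype := fun x =>
    ((P : Subgroup G).subtype.map_zpowers x).symm
  have hp1 : (p - 1) + 1 = p := Nat.sub_add_cancel (Fact.out : p.Prime).one_le
  have hmp : m * p = m + (p - 1) * m := by
    conv_lhs => rw [← hp1]
    ring
  calc (∏ x : (P : Subgroup G), lam p (Subgroup.zpowers (x : G))) ^ p * N ^ (m * p) =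
      (∏ x : (P : Subgroup G), lam p (Subgroup.zpowers (x : G)) * N) ^ p := by
        rw [Finset.prod_mul_distrib, mul_pow, Finset.prod_const, Finset.card_univ, ← Nat.card_eq_fintype_card, ← pow_mul]
    _ = (m ^ m) ^ p * ∏ i, (∏ x : (P : Subgroup G), c i (Subgroup.zpowers x)) ^ p := by
        rw [Finset.prod_congr rfl fun x _ => by rw [hz x, hform], Finset.prod_mul_distrib, mul_pow, Finset.prod_const,
          Finset.card_univ, ← Nat.card_eq_fintype_card, Finset.prod_comm, Finset.prod_pow]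
    _ ≤ (m ^ m) ^ p * ∏ i, (c i ⊥ ^ m * c i ⊤ ^ ((p - 1) * m)) :=
        Nat.mul_le_mul_left _ (Finset.prod_le_prod' fun i _ => hkey i)
    _ = (m * ∏ i, c i ⊥) ^ m * (m * ∏ i, c i ⊤) ^ ((p - 1) * m) := by
        rw [Finset.prod_mul_distrib, Finset.prod_pow, Finset.prod_pow, mul_pow, mul_pow, ← pow_mul]
        rw [hmp, pow_add]
        ring
    _ = Nat.card (Sylow p G) ^ m * N ^ (m * p) := by
        rw [← hform, ← hform, hbot, htop, one_mul, mul_pow, mul_assoc, ← pow_add]
        congr 2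
        rw [hmp]

theorem lam_conj (g x : G) : lam p (Subgroup.zpowers (g * x * g⁻¹)) = lam p (Subgroup.zpowers x) := by
  refine (Nat.card_congr ((MulAction.toPerm g).subtypeEquiv fun Q => ?_)).symm
  rw [Subgroup.zpowers_le, Subgroup.zpowers_le, MulAction.toPerm_apply, Sylow.coe_subgroup_smul,
    Subgroup.mem_pointwise_smul_iff_inv_smul_mem]
  simp [MulAut.smul_def, mul_assoc]

theorem pel_sum (P : Sylow p G) [Fintype (P : Subgroup G)] :
    (Nat.card {g : G // ∃ k : ℕ, orderOf g = p ^ k} : ℝ) =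
      ∑ x : (P : Subgroup G), (Nat.card (Sylow p G) : ℝ) / (lam p (Subgroup.zpowers (x : G)) : ℝ) := by
  classical
  haveI := Fintype.ofFinite G
  haveI := Fintype.ofFinite (Sylow p G)
  let w : G → ℝ := fun g => ((lam p (Subgroup.zpowers g) : ℝ))⁻¹
  have h1 : (Nat.card {g : G // ∃ k : ℕ, orderOf g = p ^ k} : ℝ) =
      ∑ g : G, ∑ Q : Sylow p G, (if g ∈ (Q : Subgroup G) then w g else 0) := by
    rw [Nat.card_eq_fintype_card, Fintype.card_subtype, Finset.card_filter, Nat.cast_sum]
    refine Finset.sum_congr rfl fun g _ => ?_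
    rw [← Finset.sum_filter, Finset.sum_const, nsmul_eq_mul]
    have hl : (Finset.univ.filter fun Q : Sylow p G => g ∈ (Q : Subgroup G)).card = lam p (Subgroup.zpowers g) := by
      rw [lam, Nat.card_eq_fintype_card, Fintype.card_subtype]
      exact congrArg _ (Finset.filter_congr fun Q _ => Subgroup.zpowers_le.symm)
    rw [hl]
    split_ifs with hg
    · obtain ⟨k, hk⟩ := hg
      have hp' : IsPGroup p (Subgroup.zpowers g) := IsPGroup.of_card ((Nat.card_zpowers g).trans hk)
      rw [Nat.cast_one, mul_inv_cancel₀ (Nat.cast_ne_zero.2 (lam_pos _ hp').ne')]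
    · rw [Nat.cast_zero]
      by_cases hl0 : lam p (Subgroup.zpowers g) = 0
      · simp [hl0]
      exfalso
      obtain ⟨⟨Q, hQ⟩⟩ := (Nat.card_pos_iff.1 (Nat.pos_of_ne_zero hl0)).1
      obtain ⟨k, hk⟩ := IsPGroup.iff_card.1 (Q.isPGroup'.to_le hQ)
      exact hg ⟨k, (Nat.card_zpowers g).symm.trans hk⟩
  have h2 : ∀ Q : Sylow p G, (∑ g : G, if g ∈ (Q : Subgroup G) then w g else 0) = ∑ x : (P : Subgroup G), w x := by
    intro Q
    obtain ⟨a, ha⟩ := MulAction.exists_smul_eq G P Q
    rw [← Finset.sum_filter, Finset.sum_subtype (p := fun g => g ∈ (Q : Subgroup G))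
      (Finset.univ.filter fun g => g ∈ (Q : Subgroup G)) (fun g => by simp) w]
    have hmem : ∀ g, g ∈ (P : Subgroup G) ↔ MulAut.conj a g ∈ (Q : Subgroup G) := fun g => by
      rw [← ha, Sylow.coe_subgroup_smul, Subgroup.mem_pointwise_smul_iff_inv_smul_mem]
      simp [MulAut.smul_def, mul_assoc]
    refine (Fintype.sum_equiv ((MulAut.conj a).toEquiv.subtypeEquiv hmem) _ _ fun x => ?_).symm
    show w (x : G) = w (a * x * a⁻¹)
    simp only [w, lam_conj]
  rw [h1, Finset.sum_comm, Finset.sum_congr rfl fun Q _ => h2 Q, Finset.sum_const, nsmul_eq_mul, Finset.mul_sum,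
    Finset.card_univ, ← Nat.card_eq_fintype_card]
  exact Finset.sum_congr rfl fun x _ => (div_eq_mul_inv _ _).symm

end

/-- Let G be a finite p-solvable group, P a Sylow p-subgroup of G, u the number of p-elements of G (elements of p-power order, the identity included) and n the number of Sylow p-subgroups of G. Then u/#P ≥ n^((p−1)/p), stated as u^p ≥ #P^p · n^(p−1). -/
theorem result {G : Type*} [Group G] [Finite G] (p : ℕ) [Fact p.Prime]
    (hG : Cfsg.IsPSolvable p G) (P : Sylow p G) :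
    Nat.card (P : Subgroup G) ^ p * Nat.card (Sylow p G) ^ (p - 1) ≤ Nat.card {g : G // ∃ k : ℕ, orderOf g = p ^ k} ^ p := by
  classical
  obtain ⟨n, M, h0, hn, hmono, hnormal, hfac⟩ := hG
  haveI := Fintype.ofFinite (P : Subgroup G)
  have hle := lam_prod_le P n M h0 hn hmono hnormal hfac
  set m := Nat.card (P : Subgroup G) with hm
  set N := Nat.card (Sylow p G) with hN
  set u := Nat.card {g : G // ∃ k : ℕ, orderOf g = p ^ k} with hu
  set l : ↥(P : Subgroup G) → ℝ := fun x => (lam p (Subgroup.zpowers (x : G)) : ℝ) with hl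
  have hm0 : 0 < m := Nat.card_pos
  have hNpos : (0 : ℝ) < N := by exact_mod_cast (Nat.card_pos : 0 < Nat.card (Sylow p G))
  have hlpos : ∀ x, 0 < l x := fun x => Nat.cast_pos.2 (lam_pos _ (P.isPGroup'.to_le (Subgroup.zpowers_le.2 x.2)))
  have hs := pel_sum P
  have ham := Real.geom_mean_le_arith_mean Finset.univ (fun _ => (1 : ℝ))
    (fun x : (P : Subgroup G) => (N : ℝ) / l x) (fun _ _ => zero_le_one)
    (by simp only [Finset.sum_const, Finset.card_univ, nsmul_one]; exact_mod_cast Fintype.card_pos)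
    (fun x _ => (div_pos hNpos (hlpos x)).le)
  simp only [Real.rpow_one, one_mul, Finset.sum_const, Finset.card_univ, nsmul_one, ← Nat.card_eq_fintype_card,
    ← hm] at ham
  rw [← hs] at ham
  have h1 := pow_le_pow_left₀ (Real.rpow_nonneg (Finset.prod_nonneg fun x _ => (div_pos hNpos (hlpos x)).le) _) ham m
  rw [Real.rpow_inv_natCast_pow (Finset.prod_nonneg fun x _ => (div_pos hNpos (hlpos x)).le) hm0.ne',
    Finset.prod_div_distrib, Finset.prod_const, Finset.card_univ, ← Nat.card_eq_fintype_card, ← hm,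
    div_le_iff₀ (Finset.prod_pos fun x _ => hlpos x), div_pow, div_mul_eq_mul_div,
    le_div_iff₀ (pow_pos (Nat.cast_pos.2 hm0) m)] at h1
  have h2 : N ^ m * m ^ m ≤ u ^ m * ∏ x : (P : Subgroup G), lam p (Subgroup.zpowers (x : G)) := by
    rw [← Nat.cast_le (α := ℝ)]
    push_cast
    exact h1
  have h3 := (Nat.pow_le_pow_left h2 p).trans ((mul_pow _ _ p).trans_le (Nat.mul_le_mul_left _ hle))
  have hN0 : 0 < N := Nat.card_pos
  refine (Nat.pow_le_pow_iff_left hm0.ne').1 ?_
  refine Nat.le_of_mul_le_mul_right (le_of_eq_of_le ?_ (h3.trans_eq ?_)) (pow_pos hN0 m)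
  · have hmp : m * p = m + (p - 1) * m := by
      conv_lhs => rw [← Nat.sub_add_cancel (Fact.out : p.Prime).one_le]
      ring
    rw [mul_pow, mul_pow, ← pow_mul, ← pow_mul, ← pow_mul, ← pow_mul, mul_comm p m, hmp, pow_add, pow_add]
    ring
  · rw [← pow_mul, ← pow_mul, mul_comm m p]

end Cfsg.Agent.S4091
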