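import Cfsg.Statements.S4092
import Cfsg.Agent.EqLemmas

set_option autoImplicit false
open Cfsg

namespace Cfsg.Agent.S4092

/-- Let G be a finite group, p a prime and P a Sylow p-subgroup of G that is not normal in G. Then G has at least p·#P elements of p-power order (the identity included). -/
theorem result {G : Type*} [Group G] [Finite G] (p : ℕ) [Fact p.Prime]
    (P : Sylow p G) (hP : ¬ (P : Subgroup G).Normal) :
    p * Nat.card (P : Subgroup G) ≤ Nat.card {g : G // ∃ k : ℕ, orderOf g = p ^ k} := by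
  classical
  haveI := Fintype.ofFinite G
  haveI := Fintype.ofFinite (Sylow p G)
  have hne : ∃ Q : Sylow p G, Q ≠ P := by
    by_contra hcon
    push Not at hcon
    haveI : Subsingleton (Sylow p G) := ⟨fun a b => (hcon a).trans (hcon b).symm⟩
    exact hP (Sylow.normal_of_subsingleton P)
  obtain ⟨Q, hQ⟩ := hne
  obtain ⟨⟨S, T⟩, hST, hmax⟩ := Finset.exists_max_image
    ((Finset.univ : Finset (Sylow p G × Sylow p G)).filter fun a => a.1 ≠ a.2)
    (fun a => Nat.card ↥((a.1 : Subgroup G) ⊓ (a.2 : Subgroup G)))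
    ⟨(Q, P), Finset.mem_filter.2 ⟨Finset.mem_univ _, hQ⟩⟩
  replace hST := (Finset.mem_filter.1 hST).2
  set D := (S : Subgroup G) ⊓ (T : Subgroup G) with hD
  have hmax' : ∀ U V : Sylow p G, U ≠ V → Nat.card ↥((U : Subgroup G) ⊓ (V : Subgroup G)) ≤ Nat.card D :=
    fun U V hUV => hmax (U, V) (Finset.mem_filter.2 ⟨Finset.mem_univ _, hUV⟩)
  set H := Subgroup.normalizer (D : Set G) with hH
  have hDH : D ≤ H := Subgroup.le_normalizer
  -- the normaliser grows inside each of the two Sylow subgroups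
  have hgrow : ∀ U : Sylow p G, D ≤ (U : Subgroup G) → D ≠ U → ∃ x ∈ (U : Subgroup G) ⊓ H, x ∉ D := by
    intro U hDU hne
    haveI := U.isPGroup'.isNilpotent
    have hlt : D.subgroupOf (U : Subgroup G) < ⊤ := by
      rw [lt_top_iff_ne_top, Ne, Subgroup.subgroupOf_eq_top]
      exact fun h => hne (le_antisymm hDU h)
    obtain ⟨x, hx, hxD⟩ := SetLike.exists_of_lt (Group.normalizerCondition_of_isNilpotent _ hlt)
    refine ⟨x, ⟨x.2, Subgroup.mem_normalizer_iff.2 fun a => ⟨fun ha => ?_, fun ha => ?_⟩⟩, hxD⟩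
    · exact (Subgroup.mem_normalizer_iff.1 hx ⟨a, hDU ha⟩).1 ha
    · have haU : a ∈ (U : Subgroup G) := by
        have h1 := (U : Subgroup G).mul_mem ((U : Subgroup G).mul_mem ((U : Subgroup G).inv_mem x.2) (hDU ha)) x.2
        simpa [mul_assoc] using h1
      exact (Subgroup.mem_normalizer_iff.1 hx ⟨a, haU⟩).2 ha
  have hcard : ∀ U : Sylow p G, Nat.card (U : Subgroup G) = Nat.card (P : Subgroup G) := fun U => by
    rw [U.card_eq_multiplicity, P.card_eq_multiplicity]
  have hDS : D ≠ (S : Subgroup G) := fun e => hST (Sylow.ext (Subgroup.eq_of_le_of_card_ge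
    (inf_eq_left.1 e) ((hcard T).trans (hcard S).symm).le))
  have hDT : D ≠ (T : Subgroup G) := fun e => hST (Sylow.ext (Subgroup.eq_of_le_of_card_ge
    (inf_eq_right.1 e) ((hcard S).trans (hcard T).symm).le).symm)
  -- every Sylow subgroup of `H` contains `D`
  haveI : (D.subgroupOf H).Normal := Subgroup.normal_in_normalizer
  have hDR : ∀ R : Sylow p H, D ≤ (R : Subgroup H).map H.subtype := by
    intro R d hd
    have hDp : IsPGroup p (D.subgroupOf H) :=
      (S.isPGroup'.to_le inf_le_left).comap_of_injective H.subtype H.subtype_injective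
    have hsup : (R : Subgroup H) ⊔ D.subgroupOf H = R := R.3 (R.isPGroup'.to_sup_of_normal_right hDp) le_sup_left
    exact ⟨⟨d, hDH hd⟩, hsup.le ((le_sup_right : D.subgroupOf H ≤ _) hd), rfl⟩
  have hex : ∀ R : Sylow p H, ∃ U : Sylow p G, (R : Subgroup H).map H.subtype ≤ U := fun R =>
    (R.isPGroup'.map H.subtype).exists_le_sylow
  choose f hf using hex
  have hfinj : Function.Injective f := by
    intro R R' e
    have hK : IsPGroup p (((f R : Sylow p G) : Subgroup G).subgroupOf H) :=
      (f R).isPGroup'.comap_of_injective H.subtype H.subtype_injective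
    have h1 := R.3 hK (Subgroup.map_le_iff_le_comap.1 (hf R))
    have h2 := R'.3 hK (Subgroup.map_le_iff_le_comap.1 (e ▸ hf R'))
    exact Sylow.ext (h1.symm.trans h2)
  have hn : p + 1 ≤ Nat.card (Sylow p H) := by
    have h1 : Nat.card (Sylow p H) % p = 1 :=
      Eq.trans (card_sylow_modEq_one p H) (Nat.one_mod_eq_one.2 (Fact.out : p.Prime).ne_one)
    have h2 : Nat.card (Sylow p H) ≠ 1 := by
      intro h2
      haveI := (Nat.card_eq_one_iff_unique.1 h2).1
      obtain ⟨R⟩ := (inferInstance : Nonempty (Sylow p H))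
      have hSylow : ∀ U : Sylow p G, D ≤ (U : Subgroup G) → D ≠ U → U = f R := by
        intro U hDU hne
        obtain ⟨x, ⟨hxU, hxH⟩, hxD⟩ := hgrow U hDU hne
        obtain ⟨R', hR'⟩ := (U.isPGroup'.comap_of_injective H.subtype H.subtype_injective).exists_le_sylow
        rw [Subsingleton.elim R' R] at hR'
        by_contra hUR
        have hlt : D < (U : Subgroup G) ⊓ (f R : Subgroup G) := by
          refine lt_of_le_of_ne (le_inf hDU ((hDR R).trans (hf R))) fun e => hxD (e ▸ ⟨hxU, hf R ⟨⟨x, hxH⟩, hR' hxU, rfl⟩⟩)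
        exact hlt.ne (Subgroup.eq_of_le_of_card_ge hlt.le (hmax' U (f R) hUR))
      exact hST ((hSylow S inf_le_left hDS).trans (hSylow T inf_le_right hDT).symm)
    have h3 : p ≤ Nat.card (Sylow p H) - 1 := by
      have h0 : 0 < Nat.card (Sylow p H) := Nat.card_pos
      refine Nat.le_of_dvd (by omega) ?_
      rw [← h1]
      exact Nat.dvd_sub_mod _
    have h0 : 0 < Nat.card (Sylow p H) := Nat.card_pos
    omega
  -- counting
  haveI := Fintype.ofFinite (Sylow p H)
  let A : Sylow p H → Finset G := fun R => Finset.univ.filter fun x => x ∈ (f R : Subgroup G) ∧ x ∉ D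
  let B : Finset G := Finset.univ.filter fun x => x ∈ D
  have hcB : B.card = Nat.card D := by
    rw [← Fintype.card_subtype, ← Nat.card_eq_fintype_card]
  have hcA : ∀ R, (A R).card + Nat.card D = Nat.card (P : Subgroup G) := by
    intro R
    rw [← hcard (f R), ← hcB, ← Finset.card_union_of_disjoint
      (Finset.disjoint_left.2 fun x hx hx' => (Finset.mem_filter.1 hx).2.2 (Finset.mem_filter.1 hx').2),
      Nat.card_eq_fintype_card, Fintype.card_subtype]
    congr 1
    ext x
    simp only [A, B, Finset.mem_union, Finset.mem_filter, Finset.mem_univ, true_and]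
    constructor
    · rintro (⟨h, -⟩ | h)
      · exact h
      · exact hf R (hDR R h)
    · intro h
      by_cases hx : x ∈ D
      · exact Or.inr hx
      · exact Or.inl ⟨h, hx⟩
  have hdisj : ((Finset.univ : Finset (Sylow p H)) : Set (Sylow p H)).PairwiseDisjoint A := by
    intro R _ R' _ hne
    refine Finset.disjoint_left.2 fun x hx hx' => ?_
    obtain ⟨-, hx1, hx2⟩ := Finset.mem_filter.1 hx
    obtain ⟨-, hx3, -⟩ := Finset.mem_filter.1 hx'
    have hle : D ≤ (f R : Subgroup G) ⊓ (f R' : Subgroup G) :=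
      le_inf ((hDR R).trans (hf R)) ((hDR R').trans (hf R'))
    exact hx2 ((Subgroup.eq_of_le_of_card_ge hle (hmax' _ _ (hfinj.ne hne))).ge ⟨hx1, hx3⟩)
  have hdis2 : Disjoint (Finset.univ.biUnion A) B := Finset.disjoint_left.2 fun x hx hx' => by
    obtain ⟨R, -, hR⟩ := Finset.mem_biUnion.1 hx
    exact (Finset.mem_filter.1 hR).2.2 (Finset.mem_filter.1 hx').2
  have hsub : Finset.univ.biUnion A ∪ B ⊆ Finset.univ.filter fun g : G => ∃ k : ℕ, orderOf g = p ^ k := by
    intro x hx
    refine Finset.mem_filter.2 ⟨Finset.mem_univ _, ?_⟩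
    have : ∃ U : Sylow p G, x ∈ (U : Subgroup G) := by
      rcases Finset.mem_union.1 hx with hx | hx
      · obtain ⟨R, -, hR⟩ := Finset.mem_biUnion.1 hx
        exact ⟨f R, (Finset.mem_filter.1 hR).2.1⟩
      · exact ⟨S, ((Finset.mem_filter.1 hx).2).1⟩
    obtain ⟨U, hU⟩ := this
    obtain ⟨k, hk⟩ := IsPGroup.iff_orderOf.1 U.isPGroup' ⟨x, hU⟩
    exact ⟨k, by rwa [Subgroup.orderOf_mk] at hk⟩
  have hle := Finset.card_le_card hsub
  rw [Finset.card_union_of_disjoint hdis2, Finset.card_biUnion hdisj, hcB, ← Fintype.card_subtype,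
    ← Nat.card_eq_fintype_card] at hle
  refine le_trans ?_ hle
  have hDP : p * Nat.card D ≤ Nat.card (P : Subgroup G) := by
    obtain ⟨m, hm⟩ := IsPGroup.iff_card.1 (S.isPGroup'.to_le (inf_le_left : D ≤ (S : Subgroup G)))
    obtain ⟨k, hk⟩ := IsPGroup.iff_card.1 S.isPGroup'
    rw [← hcard S, hm, hk, ← pow_succ']
    refine Nat.pow_le_pow_right (Fact.out : p.Prime).pos (Nat.succ_le_of_lt ?_)
    by_contra hcon
    exact hDS (Subgroup.eq_of_le_of_card_ge inf_le_left (by
      rw [hk, hm]; exact Nat.pow_le_pow_right (Fact.out : p.Prime).pos (not_lt.1 hcon)))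
  obtain ⟨R₀⟩ := (inferInstance : Nonempty (Sylow p H))
  have hAeq : ∀ R, (A R).card = (A R₀).card := fun R => by
    have := hcA R
    have := hcA R₀
    omega
  rw [Finset.sum_congr rfl (fun R _ => hAeq R), Finset.sum_const, Finset.card_univ, smul_eq_mul,
    ← Nat.card_eq_fintype_card]
  have h5 := hcA R₀
  have h6 := Nat.mul_le_mul_right (A R₀).card hn
  have h7 : (p + 1) * (A R₀).card + (p + 1) * Nat.card D = (p + 1) * Nat.card (P : Subgroup G) := by
    rw [← mul_add, h5]
  rw [add_mul, add_mul, add_mul, one_mul, one_mul, one_mul] at h7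
  rw [add_mul, one_mul] at h6
  omega

end Cfsg.Agent.S4092
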