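import Cfsg.Statements.S4093
import Cfsg.Agent.EqLemmas

set_option autoImplicit false
open scoped BigOperators
open Cfsg

namespace Cfsg.Agent.S4093

/-- Let G be a finite group with a normal subgroup N complementing a Sylow p-subgroup P (a normal p-complement). Then the number of elements of G of p-power order equals the sum over x ∈ P of the index of C_N(x) in N. -/
theorem result {G : Type*} [Group G] [Finite G] (p : ℕ) [Fact p.Prime]
    (P : Sylow p G) (N : Subgroup G) [N.Normal] (hNP : N.IsComplement' (P : Subgroup G)) :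
    Nat.card {g : G // ∃ k : ℕ, orderOf g = p ^ k} =
      ∑ᶠ x : (P : Subgroup G), Nat.card N / Nat.card ↥(N ⊓ Subgroup.centralizer ({(x : G)} : Set G)) := by
  classical
  haveI := Fintype.ofFinite (P : Subgroup G)
  have huniq : ∀ (x y : (P : Subgroup G)) (n : G), n ∈ N → n * (x : G) * n⁻¹ = y → x = y := by
    intro x y n hn e
    have h1 : (x : G)⁻¹ * y ∈ N ⊓ (P : Subgroup G) := by
      refine ⟨?_, (P : Subgroup G).mul_mem ((P : Subgroup G).inv_mem x.2) y.2⟩
      rw [← e, show (x : G)⁻¹ * (n * x * n⁻¹) = ((x : G)⁻¹ * n * ((x : G)⁻¹)⁻¹) * n⁻¹ by group]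
      exact N.mul_mem (‹N.Normal›.conj_mem n hn _) (N.inv_mem hn)
    rw [disjoint_iff.1 hNP.disjoint, Subgroup.mem_bot, inv_mul_eq_one] at h1
    exact Subtype.ext h1
  let C : ↥(P : Subgroup G) → Subgroup N := fun x => (Subgroup.centralizer ({(x : G)} : Set G)).subgroupOf N
  let φ : (Σ x : (P : Subgroup G), N ⧸ C x) → {g : G // ∃ k : ℕ, orderOf g = p ^ k} := fun a =>
    Quotient.liftOn' a.2 (fun n => ⟨(n : G) * a.1 * (n : G)⁻¹, by
      obtain ⟨k, hk⟩ := IsPGroup.iff_orderOf.1 P.isPGroup' a.1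
      refine ⟨k, ?_⟩
      rw [← hk, ← Subgroup.orderOf_coe, ← MulAut.conj_apply, MulEquiv.orderOf_eq]⟩)
      (fun n m h => by
        rw [QuotientGroup.leftRel_apply] at h
        have e : ((n : G)⁻¹ * m) * a.1 = a.1 * ((n : G)⁻¹ * m) :=
          Subgroup.mem_centralizer_singleton_iff.1 h
        refine Subtype.ext ?_
        show (n : G) * a.1 * (n : G)⁻¹ = (m : G) * a.1 * (m : G)⁻¹
        calc (n : G) * a.1 * (n : G)⁻¹ = (n : G) * ((a.1 : G) * ((n : G)⁻¹ * m)) * (m : G)⁻¹ := by group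
          _ = (n : G) * (((n : G)⁻¹ * m) * a.1) * (m : G)⁻¹ := by rw [e]
          _ = _ := by group)
  have hφ : Function.Bijective φ := by
    constructor
    · rintro ⟨x, qn⟩ ⟨y, qm⟩ e
      induction qn using Quotient.inductionOn' with
      | h n =>
      induction qm using Quotient.inductionOn' with
      | h m =>
      have e' : (n : G) * x * (n : G)⁻¹ = (m : G) * y * (m : G)⁻¹ := congrArg Subtype.val e
      have hxy : x = y := huniq x y ((m : G)⁻¹ * n) (N.mul_mem (N.inv_mem m.2) n.2) (by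
        calc (m : G)⁻¹ * n * x * ((m : G)⁻¹ * n)⁻¹ = (m : G)⁻¹ * ((n : G) * x * (n : G)⁻¹) * m := by group
          _ = y := by rw [e']; group)
      subst hxy
      refine Sigma.ext rfl (heq_of_eq (QuotientGroup.eq.2 (Subgroup.mem_centralizer_singleton_iff.2 ?_)))
      show (n : G)⁻¹ * m * x = x * ((n : G)⁻¹ * m)
      calc (n : G)⁻¹ * m * x = (n : G)⁻¹ * ((m : G) * x * (m : G)⁻¹) * m := by group
        _ = _ := by rw [← e']; group
    · rintro ⟨g, k, hk⟩
      obtain ⟨Q, hQ⟩ := (IsPGroup.of_card (n := k) (by rw [Nat.card_zpowers, hk]) :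
        IsPGroup p (Subgroup.zpowers g)).exists_le_sylow
      obtain ⟨h, hh⟩ := MulAction.exists_smul_eq G P Q
      obtain ⟨⟨n, y⟩, rfl⟩ := hNP.2 h
      have hgQ : g ∈ ((((n : G) * y) • P : Sylow p G) : Subgroup G) := hh ▸ hQ (Subgroup.mem_zpowers g)
      rw [Sylow.coe_subgroup_smul, Subgroup.mem_pointwise_smul_iff_inv_smul_mem] at hgQ
      have h1 : ((n : G) * y)⁻¹ * g * ((n : G) * y) ∈ (P : Subgroup G) := by
        simpa [MulAut.smul_def, mul_assoc] using hgQ
      have h2 : (n : G)⁻¹ * g * n ∈ (P : Subgroup G) := by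
        have := (P : Subgroup G).mul_mem ((P : Subgroup G).mul_mem y.2 h1) ((P : Subgroup G).inv_mem y.2)
        rwa [show (y : G) * (((n : G) * y)⁻¹ * g * ((n : G) * y)) * (y : G)⁻¹ = (n : G)⁻¹ * g * n by group] at this
      exact ⟨⟨⟨_, h2⟩, QuotientGroup.mk n⟩, Subtype.ext (show (n : G) * ((n : G)⁻¹ * g * n) * (n : G)⁻¹ = g by group)⟩
  rw [← Nat.card_congr (Equiv.ofBijective φ hφ), Nat.card_sigma, finsum_eq_sum_of_fintype]
  refine Finset.sum_congr rfl fun x _ => ?_
  have e := Subgroup.index_mul_card (C x)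
  have hc : Nat.card (C x) = Nat.card ↥(N ⊓ Subgroup.centralizer ({(x : G)} : Set G)) := by
    rw [← Nat.card_congr (Subgroup.subgroupOfEquivOfLe
      (inf_le_left : N ⊓ Subgroup.centralizer ({(x : G)} : Set G) ≤ N)).toEquiv, Subgroup.inf_subgroupOf_left]
  rw [← hc, ← e, Subgroup.index_eq_card, Nat.mul_div_cancel _ Nat.card_pos]

end Cfsg.Agent.S4093
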