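import Cfsg.Statements.S4097
import Cfsg.Agent.EqLemmas
import Cfsg.Agent.Lib.Solvable.Basic
import Cfsg.Agent.Lib.Coprime.Invariant
import Cfsg.Agent.Lib.Frobenius.Kernel

set_option autoImplicit false
open Cfsg
open scoped Pointwise

namespace Cfsg.Agent.S4097


universe u

/-- A subgroup of the quotient by the centre is solvable only if its preimage is. -/
theorem isSolvable_comap_center {G : Type u} [Group G] (T : Subgroup (G ⧸ Subgroup.center G))
    (hT : Group.IsSolvable T) :
    Group.IsSolvable (T.comap (QuotientGroup.mk' (Subgroup.center G))) := by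
  haveI := hT
  let f := (QuotientGroup.mk' (Subgroup.center G)).subgroupComap T
  haveI : IsMulCommutative f.ker := ⟨⟨fun a b => by
    have ha : (((a : T.comap (QuotientGroup.mk' (Subgroup.center G))) : G)) ∈ Subgroup.center G :=
      (QuotientGroup.eq_one_iff _).1 (congrArg Subtype.val a.2)
    exact Subtype.ext (Subtype.ext (Subgroup.mem_center_iff.1 ha _).symm)⟩⟩
  haveI : Group.IsSolvable f.ker := Group.isSolvable_of_comm fun a b => mul_comm' a b
  exact Group.isSolvable_of_ker_le_range f.ker.subtype f (by rw [Subgroup.range_subtype])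

/-- The join of two solvable subgroups, one normalising the other, is solvable. -/
theorem isSolvable_sup_of_le_normalizer {G : Type u} [Group G] {Q A : Subgroup G}
    (h : A ≤ Subgroup.normalizer (Q : Set G)) (hQ : Group.IsSolvable Q) (hA : Group.IsSolvable A) :
    Group.IsSolvable (Q ⊔ A : Subgroup G) := by
  haveI := hQ
  haveI := hA
  set N : Subgroup G := Subgroup.normalizer (Q : Set G)
  haveI : (Q.subgroupOf N).Normal := Subgroup.normal_in_normalizer
  haveI := Cfsg.Agent.Solvable.isSolvable_subgroupOf (H := Q) N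
  haveI := Cfsg.Agent.Solvable.isSolvable_subgroupOf (H := A) N
  have h1 := Cfsg.Agent.Solvable.isSolvable_sup (A.subgroupOf N) (Q.subgroupOf N)
  haveI := h1
  have h2 := Cfsg.Agent.Solvable.isSolvable_map N.subtype (A.subgroupOf N ⊔ Q.subgroupOf N)
  rwa [Subgroup.map_sup, Subgroup.map_subgroupOf_eq_of_le h,
    Subgroup.map_subgroupOf_eq_of_le Subgroup.le_normalizer, sup_comm] at h2

open Cfsg.Agent.Frobenius in
theorem core (n : ℕ) : ∀ (G : Type u) [Group G] [Finite G], Nat.card G = n →
    ∀ (A : Subgroup G), Group.IsSolvable A →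
    (∀ S : Subgroup G, A ≤ S → Group.IsSolvable S → ∀ a ∈ A, ∀ s ∈ S, a * s = s * a) →
    A ≤ Subgroup.center G := by
  induction n using Nat.strong_induction_on with
  | _ n ih =>
    intro G _ _ hn A hA hc
    set C : Subgroup G := Subgroup.centralizer (A : Set G) with hC
    have hAA : A ≤ C := fun a ha => Subgroup.mem_centralizer_iff.2 fun b hb => hc A le_rfl hA b hb a ha
    by_contra hcon
    have hCtop : C ≠ ⊤ := fun h => hcon (by rwa [hC, Subgroup.centralizer_eq_top_iff_subset] at h)
    -- every proper overgroup of `A` centralises `A`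
    have hover : ∀ M : Subgroup G, A ≤ M → M ≠ ⊤ → M ≤ C := by
      intro M hAM hM m hm
      have hlt : Nat.card M < n := hn ▸ Cfsg.Agent.Solvable.card_lt_of_ne_top hM
      have hA' : Group.IsSolvable (A.subgroupOf M) := by
        haveI := hA; exact Cfsg.Agent.Solvable.isSolvable_subgroupOf M
      have h1 := ih _ hlt M rfl (A.subgroupOf M) hA' (fun S hS hSs a ha s hs => Subtype.ext
        (hc (S.map M.subtype)
          (fun x hx => ⟨⟨x, hAM hx⟩, hS (show (⟨x, hAM hx⟩ : M) ∈ A.subgroupOf M from hx), rfl⟩)
          (by haveI := hSs; exact Cfsg.Agent.Solvable.isSolvable_map _ _) (a : G) ha (s : G)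
          (Subgroup.mem_map_of_mem _ hs)))
      rw [hC, Subgroup.mem_centralizer_iff]
      intro a ha
      exact (congrArg Subtype.val
        (Subgroup.mem_center_iff.1 (h1 (show (⟨a, hAM ha⟩ : M) ∈ A.subgroupOf M from ha)) ⟨m, hm⟩)).symm
    -- two different conjugates generate the group
    have hgen : ∀ g : G, A ⊔ MulAut.conj g • A ≠ ⊤ → g ∈ Subgroup.normalizer (C : Set G) := by
      intro g hg
      have h1 : MulAut.conj g • A ≤ C := le_sup_right.trans (hover _ le_sup_left hg)
      have h2 : A ≤ MulAut.conj g • C := by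
        intro a ha
        rw [Cfsg.Agent.Solvable.mem_conj_iff, hC, Subgroup.mem_centralizer_iff]
        intro b hb
        have h3 := Subgroup.mem_centralizer_iff.1
          (h1 (Subgroup.smul_mem_pointwise_smul b (MulAut.conj g) A hb)) a ha
        rw [MulAut.smul_def, MulAut.conj_apply] at h3
        calc b * (g⁻¹ * a * g) = g⁻¹ * (g * b * g⁻¹ * a) * g := by group
          _ = g⁻¹ * (a * (g * b * g⁻¹)) * g := by rw [h3]
          _ = g⁻¹ * a * g * b := by group
      have hproper : MulAut.conj g • C ≠ ⊤ := by
        intro h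
        have := Cfsg.Agent.Solvable.card_conj g C
        rw [h, Subgroup.card_top] at this
        exact hCtop (Subgroup.eq_top_of_card_eq _ this.symm)
      rw [Cfsg.Agent.Solvable.mem_normalizer_iff_conj]
      exact Subgroup.eq_of_le_of_card_ge (hover _ h2 hproper) (Cfsg.Agent.Solvable.card_conj g C).ge
    have hNC : Subgroup.normalizer (C : Set G) = C := by
      refine le_antisymm ?_ Subgroup.le_normalizer
      refine hover _ (hAA.trans Subgroup.le_normalizer) fun htop => ?_
      haveI : C.Normal := Subgroup.normalizer_eq_top_iff.1 htop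
      set W : Subgroup G := Subgroup.normalClosure (A : Set G)
      have hWC : W ≤ C := Subgroup.normalClosure_le_normal hAA
      have hWW : W ≤ Subgroup.centralizer (W : Set G) :=
        Subgroup.normalClosure_le_normal fun a ha => Subgroup.mem_centralizer_iff.2 fun w hw =>
          (Subgroup.mem_centralizer_iff.1 (hWC hw) a ha).symm
      haveI : IsMulCommutative W :=
        ⟨⟨fun a b => Subtype.ext (Subgroup.mem_centralizer_iff.1 (hWW b.2) a a.2)⟩⟩
      apply hCtop
      rw [eq_top_iff]
      intro g _
      have hs : Group.IsSolvable (W ⊔ Subgroup.zpowers g : Subgroup G) :=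
        isSolvable_sup_of_le_normalizer (le_top.trans (Subgroup.normalizer_eq_top W).ge)
          (Group.isSolvable_of_comm fun a b => mul_comm' a b) (Group.isSolvable_of_comm fun a b => mul_comm' a b)
      rw [hC, Subgroup.mem_centralizer_iff]
      intro a ha
      exact hc _ (Subgroup.le_normalClosure.trans le_sup_left) hs a ha g
        (le_sup_right (a := W) (Subgroup.mem_zpowers g))
    have hTI : ∀ g y : G, g ∉ C → y ∈ C → g⁻¹ * y * g ∈ C → y ∈ Subgroup.center G := by
      intro g y hg hy hy'
      have htop : A ⊔ MulAut.conj g • A = ⊤ := by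
        by_contra h; exact hg (hNC ▸ hgen g h)
      have h1 : A ⊔ MulAut.conj g • A ≤ Subgroup.centralizer ({y} : Set G) := by
        refine sup_le (fun a ha => ?_) fun b hb => ?_
        · exact Subgroup.mem_centralizer_singleton_iff.2 (Subgroup.mem_centralizer_iff.1 hy a ha)
        · rw [Cfsg.Agent.Solvable.mem_conj_iff] at hb
          rw [Subgroup.mem_centralizer_singleton_iff]
          have h2 := Subgroup.mem_centralizer_iff.1 hy' _ hb
          calc b * y = g * (g⁻¹ * b * g * (g⁻¹ * y * g)) * g⁻¹ := by group
            _ = g * (g⁻¹ * y * g * (g⁻¹ * b * g)) * g⁻¹ := by rw [h2]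
            _ = y * b := by group
      rw [htop] at h1
      exact Subgroup.mem_center_iff.2 fun x =>
        Subgroup.mem_centralizer_singleton_iff.1 (h1 (Subgroup.mem_top x))
    set Z : Subgroup G := Subgroup.center G with hZ
    set π := QuotientGroup.mk' Z with hπ
    have hZC : Z ≤ C := Subgroup.center_le_centralizer _
    have hker : π.ker ≤ C := (QuotientGroup.ker_mk' Z).le.trans hZC
    set Cb := C.map π with hCb
    have hmemC : ∀ x : G, π x ∈ Cb → x ∈ C := by
      intro x hx
      have h1 : x ∈ Cb.comap π := hx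
      rwa [hCb, Subgroup.comap_map_eq_self hker] at h1
    have hAZ : ¬ A ≤ Z := hcon
    have hFrob : Cfsg.IsFrobeniusComplement Cb := by
      refine ⟨?_, ?_, fun g hg => ?_⟩
      · rw [hCb, Ne, Subgroup.map_eq_bot_iff]
        exact fun h => hAZ (hAA.trans (h.trans (QuotientGroup.ker_mk' Z).le))
      · intro h
        exact hCtop (eq_top_iff.2 fun x _ => hmemC x (h ▸ Subgroup.mem_top _))
      · obtain ⟨g, rfl⟩ := QuotientGroup.mk'_surjective Z g
        rw [Subgroup.eq_bot_iff_forall]
        rintro y ⟨hy, hy'⟩
        obtain ⟨y, rfl⟩ := QuotientGroup.mk'_surjective Z y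
        replace hy' : π y ∈ MulAut.conj (π g) • Cb := hy'
        rw [mem_conj_smul, ← map_inv, ← map_mul, ← map_mul] at hy'
        exact (QuotientGroup.eq_one_iff y).2
          (hTI g y (fun h => hg (Subgroup.mem_map_of_mem _ h)) (hmemC y hy) (hmemC _ hy'))
    set K := frobKernel hFrob
    haveI : K.Normal := frobKernel_normal hFrob
    have hK1 : Nat.card K ≠ 1 := fun h => frobKernel_ne_bot hFrob (Subgroup.eq_bot_of_card_eq _ h)
    obtain ⟨q, hq, hqK⟩ := Nat.exists_prime_and_dvd hK1
    haveI : Fact q.Prime := ⟨hq⟩
    have hcop : (Nat.card (A.map π)).Coprime (Nat.card K) := by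
      rw [card_frobKernel]
      exact (coprime_card_index hFrob).coprime_dvd_left (Subgroup.card_dvd_of_le (Subgroup.map_mono hAA))
    have hsA : Group.IsSolvable (A.map π) := by haveI := hA; exact Cfsg.Agent.Solvable.isSolvable_map _ _
    obtain ⟨P, hP⟩ := Cfsg.Agent.Coprime.exists_invariant_sylow
      (le_top.trans (Subgroup.normalizer_eq_top K).ge) hcop (Or.inl hsA) q
    set Q := (P : Subgroup K).map K.subtype
    have hQs : Group.IsSolvable Q := Cfsg.Agent.Solvable.isSolvable_of_isPGroup (P.isPGroup'.map _)
    have hT : Group.IsSolvable (Q ⊔ A.map π : Subgroup (G ⧸ Z)) := isSolvable_sup_of_le_normalizer hP hQs hsA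
    have hAle : A ≤ (Q ⊔ A.map π).comap π := fun a ha => le_sup_right (a := Q) (Subgroup.mem_map_of_mem _ ha)
    have hQC : Q ≤ Cb := by
      intro x hx
      obtain ⟨y, rfl⟩ := QuotientGroup.mk'_surjective Z x
      refine Subgroup.mem_map_of_mem _ ?_
      rw [hC, Subgroup.mem_centralizer_iff]
      intro a ha
      exact hc _ hAle (isSolvable_comap_center _ hT) a ha y (le_sup_left (b := A.map π) hx)
    have hQbot : Q = ⊥ := le_bot_iff.1
      ((le_inf (Subgroup.map_subtype_le _) hQC).trans (frobKernel_isComplement hFrob).disjoint.eq_bot.le)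
    have hPbot : (P : Subgroup K) = ⊥ := Subgroup.map_injective K.subtype_injective
      (hQbot.trans (Subgroup.map_bot _).symm)
    exact P.ne_bot_of_dvd_card hqK hPbot

/-- Let A be a solvable subgroup of a finite group G such that A lies in the centre of every solvable subgroup of G containing A. Then A lies in the centre of G. -/
theorem result {G : Type*} [Group G] [Finite G]
    (A : Subgroup G) (hA : Group.IsSolvable A)
    (hc : ∀ S : Subgroup G, A ≤ S → Group.IsSolvable S → ∀ a ∈ A, ∀ s ∈ S, a * s = s * a) : A ≤ Subgroup.center G := by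
  exact core _ G rfl A hA hc

end Cfsg.Agent.S4097
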