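import Cfsg.Statements.S4106
import Cfsg.Agent.EqLemmas
import Cfsg.Agent.Lib.Transfer.Residual

set_option autoImplicit false
open Cfsg

namespace Cfsg.Agent.S4106


universe u

/-- The classes all of whose element orders only involve primes of `s`. -/
abbrev PiClass (s : Finset ℕ) (G : Type u) [Group G] : Type u :=
  {C : ConjClasses G // ∀ g : G, ConjClasses.mk g = C → (orderOf g).primeFactors ⊆ s}

theorem bound (s : Finset ℕ) : (∀ q ∈ s, q.Prime) → ∀ (G : Type u) [Group G] [Finite G],
    Nat.card (PiClass s G) ≤ ∏ q ∈ s, q ^ (Nat.card G).factorization q := by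
  classical
  induction s using Finset.induction with
  | empty =>
    intro _ G _ _
    rw [Finset.prod_empty, Finite.card_le_one_iff_subsingleton]
    refine ⟨fun a b => Subtype.ext ?_⟩
    obtain ⟨x, hx⟩ := a
    obtain ⟨y, hy⟩ := b
    obtain ⟨g, rfl⟩ := ConjClasses.mk_surjective x
    obtain ⟨h, rfl⟩ := ConjClasses.mk_surjective y
    have one : ∀ z : G, (orderOf z).primeFactors ⊆ ∅ → z = 1 := fun z hz => by
      rcases Nat.primeFactors_eq_empty.1 (Finset.subset_empty.1 hz) with h0 | h1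
      · exact absurd h0 (orderOf_pos z).ne'
      · exact orderOf_eq_one_iff.1 h1
    show ConjClasses.mk g = ConjClasses.mk h
    rw [one g (hx g rfl), one h (hy h rfl)]
  | @insert p t hpt ih =>
    intro hprime G _ _
    haveI : Fact p.Prime := ⟨hprime p (Finset.mem_insert_self _ _)⟩
    have ht : ∀ q ∈ t, q.Prime := fun q hq => hprime q (Finset.mem_insert_of_mem hq)
    let Pc := {c : ConjClasses G // ∃ x : G, ConjClasses.mk x = c ∧ ∃ k, orderOf x = p ^ k}
    let rep : Pc → G := fun c => c.2.choose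
    have hrep : ∀ c, ConjClasses.mk (rep c) = c.1 := fun c => c.2.choose_spec.1
    -- decompose a representative of each class
    have hdec : ∀ C : PiClass (insert p t) G, ∃ c : Pc, ∃ y : Subgroup.centralizer ({rep c} : Set G),
        (orderOf y).primeFactors ⊆ t ∧ ConjClasses.mk (rep c * (y : G)) = C.1 := by
      rintro ⟨C, hC⟩
      obtain ⟨g, rfl⟩ := ConjClasses.mk_surjective C
      obtain ⟨x, y, hxy, hx, hy, hxk, hyp⟩ := Cfsg.Agent.Transfer.exists_pPart_mul (p := p) g
      refine ⟨⟨ConjClasses.mk x, x, rfl, hxk⟩, ?_⟩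
      obtain ⟨a, ha⟩ := isConj_iff.1 (ConjClasses.mk_eq_mk_iff_isConj.1 (hrep ⟨ConjClasses.mk x, x, rfl, hxk⟩).symm)
      have hcomm : x * y = y * x := by
        obtain ⟨i, rfl⟩ := hx
        obtain ⟨j, rfl⟩ := hy
        exact (Commute.zpow_zpow_self g i j).eq
      refine ⟨⟨a * y * a⁻¹, Subgroup.mem_centralizer_singleton_iff.2 ?_⟩, ?_, ?_⟩
      · rw [← ha]
        calc a * y * a⁻¹ * (a * x * a⁻¹) = a * (y * x) * a⁻¹ := by group
          _ = a * (x * y) * a⁻¹ := by rw [hcomm]
          _ = _ := by group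
      · rw [Subgroup.orderOf_mk, show a * y * a⁻¹ = MulAut.conj a y from rfl, MulEquiv.orderOf_eq]
        intro q hq
        obtain ⟨hq1, hq2, -⟩ := Nat.mem_primeFactors.1 hq
        have hdvd : orderOf y ∣ orderOf g := orderOf_dvd_of_mem_zpowers hy
        rcases Finset.mem_insert.1 (hC g rfl (Nat.mem_primeFactors.2
          ⟨hq1, hq2.trans hdvd, (orderOf_pos g).ne'⟩)) with e | e
        · subst e
          exact absurd hyp (Nat.not_coprime_of_dvd_of_dvd hq1.one_lt hq2 (dvd_refl q))
        · exact e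
      · rw [ConjClasses.mk_eq_mk_iff_isConj]
        refine (isConj_iff.2 ⟨a, ?_⟩).symm
        show a * g * a⁻¹ = rep _ * (a * y * a⁻¹)
        rw [← ha, hxy]
        group
    choose c y hy hmk using hdec
    let f : PiClass (insert p t) G → (Σ c : Pc, PiClass t (Subgroup.centralizer ({rep c} : Set G))) :=
      fun C => ⟨c C, ConjClasses.mk (y C), fun g hg => by
        obtain ⟨b, hb⟩ := isConj_iff.1 (ConjClasses.mk_eq_mk_iff_isConj.1 hg.symm)
        rw [← hb, show b * y C * b⁻¹ = MulAut.conj b (y C) from rfl, MulEquiv.orderOf_eq]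
        exact hy C⟩
    have hf : Function.Injective f := by
      intro C D h
      have key : ∀ (c₁ c₂ : Pc) (y₁ : Subgroup.centralizer ({rep c₁} : Set G))
          (y₂ : Subgroup.centralizer ({rep c₂} : Set G)) (h₁ : _) (h₂ : _),
          (⟨c₁, ⟨ConjClasses.mk y₁, h₁⟩⟩ : Σ c : Pc, PiClass t (Subgroup.centralizer ({rep c} : Set G))) =
            ⟨c₂, ⟨ConjClasses.mk y₂, h₂⟩⟩ →
          ConjClasses.mk (rep c₁ * (y₁ : G)) = ConjClasses.mk (rep c₂ * (y₂ : G)) := by
        intro c₁ c₂ y₁ y₂ h₁ h₂ e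
        obtain rfl : c₁ = c₂ := congrArg Sigma.fst e
        obtain ⟨b, hb⟩ := isConj_iff.1 (ConjClasses.mk_eq_mk_iff_isConj.1
          (congrArg Subtype.val (eq_of_heq (Sigma.mk.inj_iff.1 e).2)))
        rw [ConjClasses.mk_eq_mk_iff_isConj, isConj_iff]
        refine ⟨(b : G), ?_⟩
        have hb' : (b : G) * rep c₁ = rep c₁ * b := Subgroup.mem_centralizer_singleton_iff.1 b.2
        rw [← hb]
        calc (b : G) * (rep c₁ * y₁) * (b : G)⁻¹ = ((b : G) * rep c₁) * y₁ * (b : G)⁻¹ := by group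
          _ = (rep c₁ * b) * y₁ * (b : G)⁻¹ := by rw [hb']
          _ = rep c₁ * ((b : G) * y₁ * (b : G)⁻¹) := by group
      have := key _ _ _ _ _ _ h
      rw [hmk, hmk] at this
      exact Subtype.ext this
    haveI : Finite Pc := inferInstance
    have := Fintype.ofFinite Pc
    refine (Nat.card_le_card_of_injective f hf).trans ?_
    rw [Nat.card_sigma, Finset.prod_insert hpt]
    obtain ⟨P⟩ := (inferInstance : Nonempty (Sylow p G))
    have hPc : Fintype.card Pc ≤ p ^ (Nat.card G).factorization p := by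
      rw [← P.card_eq_multiplicity, ← Nat.card_eq_fintype_card]
      refine Nat.card_le_card_of_surjective
        (fun z : (P : Subgroup G) => (⟨ConjClasses.mk (z : G), (z : G), rfl, by
          obtain ⟨k, hk⟩ := IsPGroup.iff_orderOf.1 P.isPGroup' z
          exact ⟨k, by rw [Subgroup.orderOf_coe, hk]⟩⟩ : Pc)) ?_
      rintro ⟨c, x, rfl, k, hk⟩
      obtain ⟨Q, hQ⟩ := (IsPGroup.of_card (n := k) (by rw [Nat.card_zpowers, hk]) :
        IsPGroup p (Subgroup.zpowers x)).exists_le_sylow
      obtain ⟨g, hg⟩ := MulAction.exists_smul_eq G Q P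
      refine ⟨⟨g * x * g⁻¹, ?_⟩, Subtype.ext ?_⟩
      · rw [← hg, Sylow.coe_subgroup_smul]
        exact Subgroup.smul_mem_pointwise_smul x (MulAut.conj g) _ (hQ (Subgroup.mem_zpowers x))
      · exact (ConjClasses.mk_eq_mk_iff_isConj.2 (isConj_iff.2 ⟨g, rfl⟩)).symm
    calc ∑ c : Pc, Nat.card (PiClass t (Subgroup.centralizer ({rep c} : Set G)))
        ≤ ∑ _c : Pc, ∏ q ∈ t, q ^ (Nat.card G).factorization q := by
          refine Finset.sum_le_sum fun c _ => (ih ht _).trans (Finset.prod_le_prod' fun q hq => ?_)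
          exact Nat.pow_le_pow_right (ht q hq).pos
            (Nat.factorization_le_iff_dvd Nat.card_pos.ne' Nat.card_pos.ne' |>.2 (Subgroup.card_subgroup_dvd_card _) q)
      _ ≤ _ := by
          rw [Finset.sum_const, smul_eq_mul, Finset.card_univ]
          exact Nat.mul_le_mul_right _ hPc

/-- Let G be a finite group, π a set of primes and m the π-part of the order of G. Then the number of conjugacy classes of G consisting of π-elements (elements whose order is divisible only by primes in π) is at most m. -/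
theorem result {G : Type*} [Group G] [Finite G]
    (π : Set ℕ) (hπ : ∀ q ∈ π, q.Prime)
    (m : ℕ) (hm : m ∣ Nat.card G) (hmπ : ∀ q : ℕ, q.Prime → q ∣ m → q ∈ π)
    (hm' : ∀ q ∈ π, ¬ q ∣ Nat.card G / m) :
    Nat.card {C : ConjClasses G // ∀ q : ℕ, q.Prime → (∃ g : G, ConjClasses.mk g = C ∧ q ∣ orderOf g) → q ∈ π} ≤ m := by
  classical
  set s : Finset ℕ := (Nat.card G).primeFactors.filter (fun q => q ∈ π) with hs
  have hsp : ∀ q ∈ s, q.Prime := fun q hq => Nat.prime_of_mem_primeFactors (Finset.mem_filter.1 hq).1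
  have hprod : ∏ q ∈ s, q ^ (Nat.card G).factorization q ≤ m := by
    refine Nat.le_of_dvd (Nat.pos_of_dvd_of_pos hm Nat.card_pos) ?_
    refine Finset.prod_dvd_of_isRelPrime ?_ fun q hq => ?_
    · intro a ha b hb hab
      exact Nat.coprime_iff_isRelPrime.1 (((Nat.coprime_primes (hsp a ha) (hsp b hb)).2 hab).pow _ _)
    · obtain ⟨-, hqπ⟩ := Finset.mem_filter.1 hq
      have h1 : q ^ (Nat.card G).factorization q ∣ m * (Nat.card G / m) := by
        rw [Nat.mul_div_cancel' hm]; exact Nat.ordProj_dvd _ _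
      exact ((((hsp q hq).coprime_iff_not_dvd.2 (hm' q hqπ))).pow_left _).dvd_of_dvd_mul_right h1
  refine le_trans (Nat.card_le_card_of_injective (fun C => (⟨C.1, ?_⟩ : PiClass s G)) ?_)
    ((bound s hsp G).trans hprod)
  · intro g hg q hq
    obtain ⟨hq1, hq2, -⟩ := Nat.mem_primeFactors.1 hq
    exact Finset.mem_filter.2 ⟨Nat.mem_primeFactors.2 ⟨hq1, hq2.trans (orderOf_dvd_natCard g), Nat.card_pos.ne'⟩,
      C.2 q hq1 ⟨g, hg, hq2⟩⟩
  · intro C D h
    have h' := congrArg Subtype.val h
    exact Subtype.ext h'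

end Cfsg.Agent.S4106
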