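import Cfsg.Statements.S4107
import Cfsg.Agent.EqLemmas
import Cfsg.Agent.Lib.Cores.Basic

set_option autoImplicit false
open Cfsg

namespace Cfsg.Agent.S4107


/-- The Fitting subgroup lies in every subgroup containing all the `O_q(G)`. -/
theorem fitting_le {G : Type*} [Group G] [Finite G] {X : Subgroup G}
    (h : ∀ q : ℕ, q.Prime → Cfsg.pCore q G ≤ X) : Cfsg.fittingSubgroup G ≤ X := by
  refine sSup_le ?_
  rintro M ⟨hMn, hMnil⟩
  haveI := hMn
  haveI := hMnil
  have key : X.subgroupOf M = ⊤ := by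
    refine Subgroup.eq_top_of_card_eq _ ?_
    refine Nat.dvd_antisymm (Subgroup.card_subgroup_dvd_card _) ?_
    refine (Nat.dvd_iff_prime_pow_dvd_dvd _ _).2 fun q k hq hk => ?_
    haveI : Fact q.Prime := ⟨hq⟩
    obtain ⟨P⟩ := (inferInstance : Nonempty (Sylow q M))
    have hPn : (P : Subgroup M).Normal := inferInstance
    haveI : (P : Subgroup M).Characteristic := P.characteristic_of_normal hPn
    have h1 : (P : Subgroup M).map M.subtype ≤ X :=
      le_trans (Cfsg.Agent.Cores.le_pCore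
        (Cfsg.Agent.Cores.map_subtype_normal_of_characteristic M (P : Subgroup M))
        (P.isPGroup'.map _)) (h q hq)
    have h2 : (P : Subgroup M) ≤ X.subgroupOf M := fun m hm =>
      h1 (Subgroup.mem_map_of_mem _ hm)
    exact dvd_trans (P.pow_dvd_card_of_pow_dvd_card hk) (Subgroup.card_dvd_of_le h2)
  exact Subgroup.subgroupOf_eq_top.1 key

theorem isPGroup_of_not_le {G : Type*} [Group G] [Finite G] (N : Subgroup G) [N.Normal]
    (heq : ∀ x : G, x ∉ N → ∀ n ∈ N, orderOf (x * n) = orderOf x)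
    {p : ℕ} [hp : Fact p.Prime] (hp' : ¬ Cfsg.pCore p G ≤ N) : IsPGroup p N := by
  obtain ⟨x, hxW, hxN⟩ := SetLike.not_le_iff_exists.1 hp'
  haveI hWn : (Cfsg.pCore p G).Normal := Cfsg.Agent.Cores.pCore_normal p G
  obtain ⟨k, hk⟩ := Cfsg.Agent.Cores.isPGroup_pCore p G ⟨x, hxW⟩
  have hk' : x ^ p ^ k = 1 := congrArg Subtype.val hk
  intro n
  obtain ⟨n, hn⟩ := n
  let V : Subgroup G := Cfsg.pCore p G ⊓ N
  haveI : V.Normal := Subgroup.normal_inf_normal _ _
  have hc : Commute (QuotientGroup.mk' V x) (QuotientGroup.mk' V n) := by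
    show QuotientGroup.mk' V x * QuotientGroup.mk' V n = QuotientGroup.mk' V n * QuotientGroup.mk' V x
    rw [← map_mul, ← map_mul]
    refine (QuotientGroup.eq).2 ?_
    have e : (x * n)⁻¹ * (n * x) = n⁻¹ * x⁻¹ * n * x := by group
    rw [e]
    refine ⟨?_, ?_⟩
    · have := (Cfsg.pCore p G).mul_mem (hWn.conj_mem _ ((Cfsg.pCore p G).inv_mem hxW) n⁻¹) hxW
      simpa [mul_assoc] using this
    · have h1 : n⁻¹ * (x⁻¹ * n * x⁻¹⁻¹) ∈ N :=
        N.mul_mem (N.inv_mem hn) ((inferInstance : N.Normal).conj_mem n hn x⁻¹)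
      simpa [mul_assoc] using h1
  have hxn : (x * n) ^ p ^ k = 1 := by
    rw [← orderOf_dvd_iff_pow_eq_one, heq x hxN n hn]
    exact orderOf_dvd_of_pow_eq_one hk'
  have hv : n ^ p ^ k ∈ V := by
    rw [← QuotientGroup.eq_one_iff (N := V)]
    have := hc.mul_pow (p ^ k)
    rw [← map_mul, ← map_pow, ← map_pow, hxn, hk', map_one, one_mul, ← map_pow] at this
    simpa using this.symm
  obtain ⟨j, hj⟩ := Cfsg.Agent.Cores.isPGroup_pCore p G ⟨n ^ p ^ k, hv.1⟩
  refine ⟨k + j, Subtype.ext ?_⟩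
  have hj' : (n ^ p ^ k) ^ p ^ j = 1 := congrArg Subtype.val hj
  show n ^ p ^ (k + j) = 1
  rw [pow_add, pow_mul]
  exact hj'

/-- Let G be a finite group and N a proper non-trivial normal subgroup such that for every x outside N all elements of the coset xN have the same order as x. Then N ≤ F(G) or F(G) ≤ N, where F(G) is the Fitting subgroup; and if N is properly contained in F(G) then F(G) has prime-power order. -/
theorem result {G : Type*} [Group G] [Finite G] (N : Subgroup G) [N.Normal] (hN1 : N ≠ ⊥) (hN2 : N ≠ ⊤)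
    (heq : ∀ x : G, x ∉ N → ∀ n ∈ N, orderOf (x * n) = orderOf x) :
    (N ≤ Cfsg.fittingSubgroup G ∨ Cfsg.fittingSubgroup G ≤ N) ∧
    (N < Cfsg.fittingSubgroup G → IsPrimePow (Nat.card (Cfsg.fittingSubgroup G))) := by
  have hN1' : Nat.card N ≠ 1 := fun h => hN1 (Subgroup.eq_bot_of_card_eq _ h)
  by_cases hF : Cfsg.fittingSubgroup G ≤ N
  · exact ⟨Or.inr hF, fun h => absurd hF h.not_ge⟩
  obtain ⟨p, hp, hpN⟩ : ∃ p : ℕ, p.Prime ∧ ¬ Cfsg.pCore p G ≤ N := by
    by_contra hcon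
    exact hF (fitting_le fun q hq => by_contra fun h => hcon ⟨q, hq, h⟩)
  haveI : Fact p.Prime := ⟨hp⟩
  have hNp := isPGroup_of_not_le N heq hpN
  have hle : N ≤ Cfsg.pCore p G := Cfsg.Agent.Cores.le_pCore inferInstance hNp
  have hcore : Cfsg.pCore p G ≤ Cfsg.fittingSubgroup G :=
    le_sSup ⟨Cfsg.Agent.Cores.pCore_normal p G, (Cfsg.Agent.Cores.isPGroup_pCore p G).isNilpotent⟩
  refine ⟨Or.inl (hle.trans hcore), fun _ => ?_⟩
  have hFp : Cfsg.fittingSubgroup G ≤ Cfsg.pCore p G := by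
    refine fitting_le fun q hq => ?_
    by_cases hqp : q = p
    · rw [hqp]
    haveI : Fact q.Prime := ⟨hq⟩
    by_cases hqN : Cfsg.pCore q G ≤ N
    · exact hqN.trans hle
    · exfalso
      exact hN1 (le_bot_iff.1 (disjoint_iff_inf_le.1 (IsPGroup.disjoint_of_ne q p hqp _ _
        (isPGroup_of_not_le N heq hqN) hNp) |>.trans' (le_inf le_rfl le_rfl)))
  obtain ⟨j, hj⟩ := IsPGroup.iff_card.1 ((Cfsg.Agent.Cores.isPGroup_pCore p G).to_le hFp)
  refine ⟨p, j, hp.prime, ?_, hj.symm⟩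
  rcases Nat.eq_zero_or_pos j with h0 | h0
  · rw [h0, pow_zero] at hj
    exact absurd (Subgroup.eq_bot_of_card_eq _ hj) (fun h => hN1 (le_bot_iff.1 (h ▸ hle.trans hcore)))
  · exact h0

end Cfsg.Agent.S4107
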