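import Cfsg.Statements.S4108
import Cfsg.Agent.EqLemmas
import Cfsg.Agent.Lib.Frobenius.Basic

set_option autoImplicit false
open Cfsg

namespace Cfsg.Agent.S4108

/-- Let G be a finite group, p a prime and N a proper non-trivial normal p-subgroup such that for every x outside N all elements of the coset xN have the same order as x. Then every non-trivial subgroup H of G of order prime to p acts fixed-point-freely on N: NH is a Frobenius group with complement H and kernel N. -/
theorem result {G : Type*} [Group G] [Finite G] (N : Subgroup G) [N.Normal] (hN1 : N ≠ ⊥) (hN2 : N ≠ ⊤)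
    (heq : ∀ x : G, x ∉ N → ∀ n ∈ N, orderOf (x * n) = orderOf x)
    (p : ℕ) [Fact p.Prime] (hNp : IsPGroup p N) :
    ∀ H : Subgroup G, H ≠ ⊥ → (Nat.card H).Coprime p →
      Cfsg.IsFrobeniusComplement (H.subgroupOf (N ⊔ H)) ∧ Cfsg.frobeniusKernel (H.subgroupOf (N ⊔ H)) = (N.subgroupOf (N ⊔ H) : Set ↥(N ⊔ H)) := by
  intro H hH hco
  set L := N ⊔ H with hL
  set K := N.subgroupOf L with hK
  set A := H.subgroupOf L with hA
  haveI : K.Normal := inferInstanceAs (Subgroup.comap L.subtype N).Normal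
  have hd : ∀ x, x ∈ N → x ∈ H → x = 1 := fun x hxN hxH => by
    obtain ⟨k, hk⟩ := IsPGroup.iff_orderOf.1 hNp ⟨x, hxN⟩
    rw [Subgroup.orderOf_mk] at hk
    exact orderOf_eq_one_iff.1 (Nat.eq_one_of_dvd_coprimes (hco.pow_right k)
      (Subgroup.orderOf_dvd_natCard H hxH) hk.dvd)
  have hc : Subgroup.IsComplement' K A := by
    refine Subgroup.isComplement'_of_disjoint_and_mul_eq_univ ?_ ?_
    · rw [disjoint_iff, Subgroup.eq_bot_iff_forall]
      rintro ⟨x, hx⟩ ⟨h1, h2⟩
      exact Subtype.ext (hd x h1 h2)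
    · rw [Set.eq_univ_iff_forall]
      rintro ⟨x, hx⟩
      obtain ⟨n, hn, u, hu, rfl⟩ := Subgroup.mem_sup_of_normal_left.1 hx
      exact Set.mem_mul.2 ⟨⟨n, Subgroup.mem_sup_left hn⟩, hn, ⟨u, Subgroup.mem_sup_right hu⟩, hu, Subtype.ext rfl⟩
  have hfpf : Cfsg.Agent.Frobenius.FPF A K := by
    intro a ha ha1 k hk e
    by_contra hk1
    have haG : (a : G) ≠ 1 := fun e1 => ha1 (Subtype.ext e1)
    have hkG : (k : G) ≠ 1 := fun e1 => hk1 (Subtype.ext e1)
    have haN : (a : G) ∉ N := fun h => haG (hd _ h ha)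
    have hkN : (k : G) ∈ N := hk
    obtain ⟨j, hj⟩ := IsPGroup.iff_orderOf.1 hNp ⟨(k : G), hkN⟩
    rw [Subgroup.orderOf_mk] at hj
    have hcopr : (orderOf (a : G)).Coprime (orderOf (k : G)) :=
      hj ▸ (Nat.Coprime.coprime_dvd_left (Subgroup.orderOf_dvd_natCard H ha) (hco.pow_right j))
    have h1 := heq a haN k hk
    rw [(show Commute (a : G) k from congrArg Subtype.val e).orderOf_mul_eq_mul_orderOf_of_coprime hcopr] at h1
    exact hkG (orderOf_eq_one_iff.1 (mul_left_cancel₀ (orderOf_pos (a : G)).ne' (h1.trans (mul_one _).symm)))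
  have hK1 : K ≠ ⊥ := fun e => hN1 (by
    rw [Subgroup.subgroupOf_eq_bot, disjoint_iff, inf_eq_left.2 le_sup_left] at e
    exact e)
  have hA1 : A ≠ ⊥ := fun e => hH (by
    rw [Subgroup.subgroupOf_eq_bot, disjoint_iff, inf_eq_left.2 le_sup_right] at e
    exact e)
  have hF := hfpf.isFrobeniusComplement hc hK1 hA1
  exact ⟨hF, (Cfsg.Agent.Frobenius.kernel_eq_of_normal_complement hF hc).symm⟩

end Cfsg.Agent.S4108
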