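import Cfsg.Statements.S4113
import Cfsg.Agent.EqLemmas

set_option autoImplicit false
open Cfsg

namespace Cfsg.Agent.S4113

/-- Let G be a finite group, M ≤ N non-trivial proper normal subgroups, and H a subgroup with HM = G and H ∩ M = 1. Then every element of G outside N acts fixed-point-freely on M (C_G(x) ≤ N for every x ∈ M, x ≠ 1) if and only if H ∩ gHg⁻¹ ≤ H ∩ N for every g outside H, with H proper and non-trivial and H ∩ N proper in H. -/
theorem result {G : Type*} [Group G] [Finite G] (N M : Subgroup G) [N.Normal] [M.Normal] (hMN : M ≤ N) (hM1 : M ≠ ⊥) (hN2 : N ≠ ⊤)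
    (H : Subgroup G) (hHM : H ⊔ M = ⊤) (hHM' : H ⊓ M = ⊥) :
    (∀ x ∈ M, x ≠ 1 → Subgroup.centralizer ({x} : Set G) ≤ N) ↔
      (H ≠ ⊥ ∧ H ≠ ⊤ ∧ H ⊓ N < H ∧ ∀ g : G, g ∉ H → H ⊓ H.map (MulAut.conj g).toMonoidHom ≤ N) := by
  classical
  have hprod : ∀ y : G, ∃ h ∈ H, ∃ m ∈ M, y = h * m := by
    intro y
    have : y ∈ ((H ⊔ M : Subgroup G) : Set G) := by rw [hHM]; trivial
    rw [Subgroup.mul_normal] at this
    obtain ⟨h, hh, m, hm, rfl⟩ := this
    exact ⟨h, hh, m, hm, rfl⟩
  have hint : ∀ y : G, y ∈ H → y ∈ M → y = 1 := by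
    intro y h1 h2
    have : y ∈ H ⊓ M := ⟨h1, h2⟩
    rw [hHM'] at this
    exact this
  have hMn : M.Normal := inferInstance
  have hNn : N.Normal := inferInstance
  constructor
  · intro hfp
    refine ⟨?_, ?_, ?_, ?_⟩
    · rintro rfl
      rw [bot_sup_eq] at hHM
      subst hHM
      exact hN2 (top_le_iff.mp hMN)
    · rintro rfl
      rw [top_inf_eq] at hHM'
      exact hM1 hHM'
    · refine lt_of_le_of_ne inf_le_left ?_
      intro he
      have : H ≤ N := inf_eq_left.mp he
      exact hN2 (top_le_iff.mp (hHM ▸ sup_le this hMN))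
    · intro g hg y hy
      obtain ⟨hyH, hyg⟩ := hy
      obtain ⟨h, hh, m, hm, hgeq⟩ := hprod g
      obtain ⟨k, hk, hky⟩ := hyg
      simp only [MulEquiv.coe_toMonoidHom, MulAut.conj_apply] at hky
      -- g = h * m, so g = m' * h with m' in M
      set m' := h * m * h⁻¹ with hm'
      have hm'M : m' ∈ M := hMn.conj_mem m hm h
      have hg' : g = m' * h := by rw [hgeq, hm']; group
      have hk' : h * k * h⁻¹ ∈ H := H.mul_mem (H.mul_mem hh hk) (H.inv_mem hh)
      set k' := h * k * h⁻¹ with hkdef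
      have hy2 : y = m' * k' * m'⁻¹ := by rw [← hky, hg', hkdef]; group
      have hone : y * k'⁻¹ = 1 := by
        refine hint _ (H.mul_mem hyH (H.inv_mem hk')) ?_
        have : y * k'⁻¹ = m' * (k' * m'⁻¹ * k'⁻¹) := by rw [hy2]; group
        rw [this]
        exact M.mul_mem hm'M (hMn.conj_mem _ (M.inv_mem hm'M) k')
      have hyk : y = k' := mul_inv_eq_one.mp hone
      have hm1 : m' ≠ 1 := by
        intro h0
        rw [h0, one_mul] at hg'
        exact hg (hg' ▸ hh)
      refine hfp m' hm'M hm1 ?_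
      rw [Subgroup.mem_centralizer_singleton_iff]
      have := hy2
      rw [← hyk] at this
      calc y * m' = (m' * y * m'⁻¹) * m' := by rw [← this]
        _ = m' * y := by group
  · rintro ⟨-, -, -, hW⟩ x hx hx1 y hy
    by_contra hyN
    rw [Subgroup.mem_centralizer_singleton_iff] at hy
    obtain ⟨h, hh, m, hm, hyeq⟩ := hprod y
    have hhN : h ∉ N := fun h' => hyN (hyeq ▸ N.mul_mem h' (hMN hm))
    -- an element of M commuting with h is trivial
    have hfix : ∀ a ∈ M, a * h = h * a → a = 1 := by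
      intro a ha hcomm
      by_contra ha1
      have haH : a ∉ H := fun h' => ha1 (hint a h' ha)
      refine hhN (hW a haH ⟨hh, h, hh, ?_⟩)
      simp only [MulEquiv.coe_toMonoidHom, MulAut.conj_apply]
      rw [hcomm]; group
    let f : M → M := fun a => ⟨h⁻¹ * (a : G) * h * (a : G)⁻¹, M.mul_mem
      (by simpa using hMn.conj_mem _ a.2 h⁻¹) (M.inv_mem a.2)⟩
    have hinj : Function.Injective f := by
      intro a b hab
      have hab' : h⁻¹ * (a : G) * h * (a : G)⁻¹ = h⁻¹ * (b : G) * h * (b : G)⁻¹ := congrArg Subtype.val hab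
      have := hfix ((b : G)⁻¹ * a) (M.mul_mem (M.inv_mem b.2) a.2) (by
        have e : (a : G) * h * (a : G)⁻¹ = (b : G) * h * (b : G)⁻¹ := by
          have := congrArg (fun z => h * z) hab'
          simpa [mul_assoc] using this
        calc (b : G)⁻¹ * a * h = (b : G)⁻¹ * ((a : G) * h * (a : G)⁻¹) * a := by group
          _ = h * ((b : G)⁻¹ * a) := by rw [e]; group)
      exact Subtype.ext (inv_mul_eq_one.mp this).symm
    obtain ⟨a, ha⟩ := (Finite.injective_iff_surjective.mp hinj) ⟨m, hm⟩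
    have ha' : h⁻¹ * (a : G) * h * (a : G)⁻¹ = m := congrArg Subtype.val ha
    have hya : y = (a : G) * h * (a : G)⁻¹ := by rw [hyeq, ← ha']; group
    have := hfix ((a : G)⁻¹ * x * a) (by simpa using hMn.conj_mem x hx (a : G)⁻¹) (by
      rw [hya] at hy
      calc (a : G)⁻¹ * x * a * h = (a : G)⁻¹ * (x * ((a : G) * h * (a : G)⁻¹)) * a := by group
        _ = h * ((a : G)⁻¹ * x * a) := by rw [← hy]; group)
    apply hx1
    calc x = (a : G) * ((a : G)⁻¹ * x * a) * (a : G)⁻¹ := by group
      _ = 1 := by rw [this]; group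

end Cfsg.Agent.S4113
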