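import Cfsg.Statements.S4116
import Cfsg.Agent.EqLemmas

set_option autoImplicit false
open Cfsg

namespace Cfsg.Agent.S4116

section
variable {G : Type*} [Group G] [Finite G] {H : Subgroup G}

theorem conj_normalizes (hTI : Cfsg.IsTISubset (H : Set G)) {x g₁ g₂ : G} (hx : x ≠ 1)
    (h₁ : g₁⁻¹ * x * g₁ ∈ H) (h₂ : g₂⁻¹ * x * g₂ ∈ H) :
    g₁⁻¹ * g₂ ∈ Subgroup.normalizer (H : Set G) := by
  by_contra hn
  have := hTI _ hn _ h₂ (by
    have e : g₁⁻¹ * g₂ * (g₂⁻¹ * x * g₂) * (g₁⁻¹ * g₂)⁻¹ = g₁⁻¹ * x * g₁ := by group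
    rw [e]; exact h₁)
  apply hx
  calc x = g₂ * (g₂⁻¹ * x * g₂) * g₂⁻¹ := by group
    _ = 1 := by rw [this]; group

theorem conj_transfer (hTI : Cfsg.IsTISubset (H : Set G)) {x g₁ g₂ y : G} (hx : x ≠ 1)
    (h₁ : g₁⁻¹ * x * g₁ ∈ H) (h₂ : g₂⁻¹ * x * g₂ ∈ H) (hy : g₂⁻¹ * y * g₂ ∈ H) :
    g₁⁻¹ * y * g₁ ∈ H := by
  have hn := conj_normalizes hTI hx h₁ h₂
  have := (Subgroup.mem_normalizer_iff.mp hn _).mp hy
  have e : g₁⁻¹ * g₂ * (g₂⁻¹ * y * g₂) * (g₁⁻¹ * g₂)⁻¹ = g₁⁻¹ * y * g₁ := by group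
  rwa [e] at this

theorem mem_of_mem_normalizer (hHall : (Nat.card H).Coprime H.index) {w : G}
    (hw : ∀ q : ℕ, q.Prime → q ∣ orderOf w → q ∣ Nat.card H)
    (hwn : w ∈ Subgroup.normalizer (H : Set G)) : w ∈ H := by
  let Hn := H.subgroupOf (Subgroup.normalizer (H : Set G))
  haveI : Hn.Normal := Subgroup.normal_in_normalizer
  let w' : Subgroup.normalizer (H : Set G) := ⟨w, hwn⟩
  have h1 : orderOf (w' : _ ⧸ Hn) ∣ orderOf w := by
    have := orderOf_map_dvd (QuotientGroup.mk' Hn) w'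
    rwa [← Subgroup.orderOf_coe w'] at this
  have h2 : orderOf (w' : _ ⧸ Hn) ∣ H.index := by
    have : orderOf (w' : _ ⧸ Hn) ∣ H.relIndex (Subgroup.normalizer (H : Set G)) := by
      rw [Subgroup.relIndex, Subgroup.index_eq_card]; exact orderOf_dvd_natCard _
    exact this.trans (Subgroup.relIndex_dvd_index_of_le Subgroup.le_normalizer)
  have h3 : orderOf (w' : _ ⧸ Hn) = 1 := by
    by_contra hne
    obtain ⟨q, hq, hqd⟩ := Nat.exists_prime_and_dvd hne
    exact hq.not_dvd_one (hHall ▸ Nat.dvd_gcd (hw q hq (hqd.trans h1)) (hqd.trans h2))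
  rw [orderOf_eq_one_iff, QuotientGroup.eq_one_iff] at h3
  exact h3

theorem exists_conj_mem (hHall : (Nat.card H).Coprime H.index) (hTI : Cfsg.IsTISubset (H : Set G))
    {z : G} (hz : z ≠ 1) (hzπ : ∀ q : ℕ, q.Prime → q ∣ orderOf z → q ∣ Nat.card H) :
    ∃ g : G, g⁻¹ * z * g ∈ H := by
  obtain ⟨p, hp, hpd⟩ := Nat.exists_prime_and_dvd (orderOf_eq_one_iff.not.mpr hz)
  haveI := Fact.mk hp
  set x := z ^ (orderOf z / p) with hxdef
  have hxord : orderOf x = p := orderOf_pow_orderOf_div (orderOf_pos z).ne' hpd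
  have hx1 : x ≠ 1 := by
    intro h; rw [h, orderOf_one] at hxord; exact hp.ne_one hxord.symm
  obtain ⟨P, hP⟩ := IsPGroup.exists_le_sylow (IsPGroup.of_card (p := p) (n := 1) (by
    rw [Nat.card_zpowers, hxord, pow_one]) : IsPGroup p (Subgroup.zpowers x))
  -- a Sylow subgroup of H is a Sylow subgroup of G
  obtain ⟨Q⟩ : Nonempty (Sylow p H) := inferInstance
  have hndvd : ¬ p ∣ H.index := fun h =>
    hp.not_dvd_one (hHall ▸ Nat.dvd_gcd (hzπ p hp hpd) h)
  let Q' : Subgroup G := (Q : Subgroup H).map H.subtype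
  have hQ' : Nat.card Q' = p ^ (Nat.card G).factorization p := by
    rw [Subgroup.card_map_of_injective H.subtype_injective, Q.card_eq_multiplicity,
      ← Subgroup.card_mul_index H, Nat.factorization_mul Nat.card_pos.ne' Subgroup.index_ne_zero_of_finite,
      Finsupp.add_apply, Nat.factorization_eq_zero_of_not_dvd hndvd, add_zero]
  let Q'' : Sylow p G := Sylow.ofCard Q' hQ'
  obtain ⟨g, hg⟩ := MulAction.exists_smul_eq G Q'' P
  have hxP : x ∈ (g • Q'' : Sylow p G) := by rw [hg]; exact hP (Subgroup.mem_zpowers x)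
  change x ∈ ((g • Q'' : Sylow p G) : Subgroup G) at hxP
  rw [Sylow.coe_subgroup_smul, Subgroup.mem_pointwise_smul_iff_inv_smul_mem] at hxP
  have hxH : g⁻¹ * x * g ∈ H := by
    have : g⁻¹ * x * g ∈ Q' := by
      simpa [Q'', MulAut.smul_def, mul_assoc] using hxP
    exact Subgroup.map_subtype_le _ this
  refine ⟨g, mem_of_mem_normalizer hHall ?_ ?_⟩
  · intro q hq hqd
    refine hzπ q hq ?_
    have : orderOf (g⁻¹ * z * g) = orderOf z := by
      have := MulEquiv.orderOf_eq (MulAut.conj g⁻¹) z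
      simpa using this
    rwa [this] at hqd
  · by_contra hn
    have hne : g⁻¹ * x * g ≠ 1 := by
      intro h; apply hx1
      calc x = g * (g⁻¹ * x * g) * g⁻¹ := by group
        _ = 1 := by rw [h]; group
    apply hne
    refine hTI _ hn _ hxH ?_
    have e : g⁻¹ * z * g * (g⁻¹ * x * g) * (g⁻¹ * z * g)⁻¹ = g⁻¹ * (z * x * z⁻¹) * g := by group
    rw [e]
    have : z * x * z⁻¹ = x := by
      rw [hxdef, ← pow_succ', pow_succ, mul_inv_cancel_right]
    rw [this]; exact hxH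

end

/-- Let G be a finite group with a subgroup H whose order is coprime to its index (a Hall subgroup) and which meets each of its conjugates by elements outside N_G(H) trivially. Then every subgroup of G whose order is divisible only by primes dividing the order of H lies in a conjugate of H. -/
theorem result {G : Type*} [Group G] [Finite G] (H : Subgroup G)
    (hHall : (Nat.card H).Coprime H.index) (hTI : Cfsg.IsTISubset (H : Set G))
    (K : Subgroup G) (hK : ∀ q : ℕ, q.Prime → q ∣ Nat.card K → q ∣ Nat.card H) :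
    ∃ g : G, K ≤ H.map (MulAut.conj g).toMonoidHom := by
  classical
  have hKπ : ∀ z ∈ K, ∀ q : ℕ, q.Prime → q ∣ orderOf z → q ∣ Nat.card H := by
    intro z hz q hq hqd
    refine hK q hq (hqd.trans ?_)
    have := orderOf_dvd_natCard (⟨z, hz⟩ : K)
    rwa [← Subgroup.orderOf_coe (⟨z, hz⟩ : K)] at this
  have hcov : ∀ z ∈ K, z ≠ 1 → ∃ g : G, g⁻¹ * z * g ∈ H := fun z hz hz1 =>
    exists_conj_mem hHall hTI hz1 (hKπ z hz)
  let A : G → Subgroup K := fun g => (H.map (MulAut.conj g).toMonoidHom).subgroupOf K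
  have hmem : ∀ g (k : K), k ∈ A g ↔ g⁻¹ * (k : G) * g ∈ H := by
    intro g k
    show (k : G) ∈ H.map (MulAut.conj g).toMonoidHom ↔ _
    rw [Subgroup.mem_map_equiv, MulAut.conj_symm_apply]
  have hself : ∀ g (k a : K), a ≠ 1 → a ∈ A g → k * a * k⁻¹ ∈ A g → k ∈ A g := by
    intro g k a ha1 hag hkag
    rw [hmem] at hag hkag ⊢
    refine mem_of_mem_normalizer hHall ?_ ?_
    · intro q hq hqd
      refine hKπ k k.2 q hq ?_
      have : orderOf (g⁻¹ * (k : G) * g) = orderOf (k : G) := by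
        have := MulEquiv.orderOf_eq (MulAut.conj g⁻¹) (k : G)
        simpa using this
      rwa [this] at hqd
    · by_contra hn
      have := hTI _ hn _ hag (by
        have e : g⁻¹ * (k : G) * g * (g⁻¹ * (a : G) * g) * (g⁻¹ * (k : G) * g)⁻¹ =
            g⁻¹ * ((k * a * k⁻¹ : K) : G) * g := by
          simp only [Subgroup.coe_mul, InvMemClass.coe_inv]; group
        rw [e]; exact hkag)
      apply ha1
      apply Subtype.ext
      calc (a : G) = g * (g⁻¹ * (a : G) * g) * g⁻¹ := by group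
        _ = 1 := by rw [this]; group
  by_contra hcon
  push Not at hcon
  have hproper : ∀ g, A g ≠ ⊤ := by
    intro g h
    refine hcon g (fun z hz => ?_)
    have : (⟨z, hz⟩ : K) ∈ A g := by rw [h]; trivial
    exact this
  -- the conjugates in K of the nonidentity elements of A g
  let D : G → Type _ := fun g => (K ⧸ A g) × {a : A g // a ≠ 1}
  let f : ∀ g, D g → {z : K // z ≠ 1} := fun g x =>
    ⟨Quotient.out x.1 * (x.2.1 : K) * (Quotient.out x.1)⁻¹, fun h => x.2.2 (Subtype.ext (conj_eq_one_iff.mp h))⟩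
  have hinj : ∀ g, Function.Injective (f g) := by
    rintro g ⟨q₁, a₁, ha₁⟩ ⟨q₂, a₂, ha₂⟩ h
    have h' : Quotient.out q₁ * (a₁ : K) * (Quotient.out q₁)⁻¹ = Quotient.out q₂ * (a₂ : K) * (Quotient.out q₂)⁻¹ :=
      congrArg Subtype.val h
    have hk : (Quotient.out q₂)⁻¹ * Quotient.out q₁ ∈ A g := by
      refine hself g _ a₁ (fun h0 => ha₁ (Subtype.ext h0)) a₁.2 ?_
      have e : (Quotient.out q₂)⁻¹ * Quotient.out q₁ * (a₁ : K) * ((Quotient.out q₂)⁻¹ * Quotient.out q₁)⁻¹ =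
          (Quotient.out q₂)⁻¹ * (Quotient.out q₁ * (a₁ : K) * (Quotient.out q₁)⁻¹) * Quotient.out q₂ := by group
      rw [e, h']
      have e2 : (Quotient.out q₂)⁻¹ * (Quotient.out q₂ * (a₂ : K) * (Quotient.out q₂)⁻¹) * Quotient.out q₂ = a₂ := by group
      rw [e2]; exact a₂.2
    have hq : q₁ = q₂ := by
      have := (QuotientGroup.eq (a := Quotient.out q₂) (b := Quotient.out q₁)).mpr hk
      rw [QuotientGroup.out_eq', QuotientGroup.out_eq'] at this
      exact this.symm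
    subst hq
    have : (a₁ : K) = a₂ := mul_left_cancel (mul_right_cancel h')
    obtain rfl : a₁ = a₂ := Subtype.ext this
    rfl
  have hcard : ∀ g, Nat.card (D g) + (A g).index = Nat.card K := by
    intro g
    have h1 : Nat.card {a : A g // a ≠ 1} + 1 = Nat.card (A g) := by
      have : Nat.card (Option {a : A g // a ≠ 1}) = Nat.card (A g) :=
        Nat.card_congr (Equiv.optionSubtypeNe (1 : A g))
      rwa [Finite.card_option] at this
    have h2 : Nat.card (D g) = (A g).index * Nat.card {a : A g // a ≠ 1} := by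
      rw [Nat.card_prod, Subgroup.index_eq_card]
    rw [h2, ← Subgroup.index_mul_card (A g), ← h1]; ring
  have hind : ∀ g, 2 ≤ (A g).index := by
    intro g
    have h1 : (A g).index ≠ 1 := fun h => hproper g (Subgroup.index_eq_one.mp h)
    have h2 : (A g).index ≠ 0 := Subgroup.index_ne_zero_of_finite
    omega
  have htot : Nat.card {z : K // z ≠ 1} + 1 = Nat.card K := by
    have : Nat.card (Option {a : K // a ≠ 1}) = Nat.card K := Nat.card_congr (Equiv.optionSubtypeNe (1 : K))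
    rwa [Finite.card_option] at this
  -- K is nontrivial
  obtain ⟨z₀, hz₀⟩ : ∃ z : K, z ≠ 1 := by
    by_contra h
    push Not at h
    refine hcon 1 (fun z hz => ?_)
    have : z = 1 := congrArg Subtype.val (h ⟨z, hz⟩)
    rw [this]; exact Subgroup.one_mem _
  obtain ⟨g₁, hg₁⟩ := hcov z₀ z₀.2 (fun h => hz₀ (Subtype.ext h))
  obtain ⟨z₁, hz₁⟩ : ∃ z, z ∉ Set.range (f g₁) := by
    by_contra h
    push Not at h
    have := Nat.card_le_card_of_surjective (f g₁) h
    have := hcard g₁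
    have := hind g₁
    omega
  obtain ⟨g₂, hg₂⟩ := hcov (z₁ : K) (z₁ : K).2 (fun h => z₁.2 (Subtype.ext h))
  have hdisj : ∀ x y, f g₁ x ≠ f g₂ y := by
    rintro ⟨q₁, a₁, ha₁⟩ ⟨q₂, a₂, ha₂⟩ h
    have h' : Quotient.out q₁ * (a₁ : K) * (Quotient.out q₁)⁻¹ = Quotient.out q₂ * (a₂ : K) * (Quotient.out q₂)⁻¹ :=
      congrArg Subtype.val h
    -- k carries the nonidentity element a₂ of A g₂ into A g₁
    set k := (Quotient.out q₁)⁻¹ * Quotient.out q₂ with hk
    have hka : k * (a₂ : K) * k⁻¹ ∈ A g₁ := by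
      have e : k * (a₂ : K) * k⁻¹ =
          (Quotient.out q₁)⁻¹ * (Quotient.out q₂ * (a₂ : K) * (Quotient.out q₂)⁻¹) * Quotient.out q₁ := by rw [hk]; group
      have e2 : (Quotient.out q₁)⁻¹ * (Quotient.out q₁ * (a₁ : K) * (Quotient.out q₁)⁻¹) * Quotient.out q₁ = a₁ := by group
      rw [e, ← h', e2]; exact a₁.2
    -- hence it carries z₁ into A g₁
    have hkz : k * (z₁ : K) * k⁻¹ ∈ A g₁ := by
      have h2 := (hmem g₂ (a₂ : K)).mp a₂.2
      rw [hmem] at hka ⊢
      simp only [Subgroup.coe_mul, InvMemClass.coe_inv] at hka ⊢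
      have hx : ((k : G) * ((a₂ : K) : G) * (k : G)⁻¹) ≠ 1 := fun h0 =>
        ha₂ (Subtype.ext (Subtype.ext (conj_eq_one_iff.mp h0)))
      refine conj_transfer hTI (g₂ := (k : G) * g₂) hx hka ?_ ?_
      · have e : ((k : G) * g₂)⁻¹ * ((k : G) * ((a₂ : K) : G) * (k : G)⁻¹) * ((k : G) * g₂) = g₂⁻¹ * ((a₂ : K) : G) * g₂ := by group
        rw [e]; exact h2
      · have e : ((k : G) * g₂)⁻¹ * ((k : G) * ((z₁ : K) : G) * (k : G)⁻¹) * ((k : G) * g₂) = g₂⁻¹ * ((z₁ : K) : G) * g₂ := by group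
        rw [e]; exact hg₂
    apply hz₁
    -- so z₁ is one of the conjugates counted for g₁
    have hout : (Quotient.out (QuotientGroup.mk k⁻¹ : K ⧸ A g₁))⁻¹ * k⁻¹ ∈ A g₁ :=
      (QuotientGroup.eq).mp (QuotientGroup.out_eq' _)
    set o := Quotient.out (QuotientGroup.mk k⁻¹ : K ⧸ A g₁) with ho
    have hmem' : o⁻¹ * (z₁ : K) * o ∈ A g₁ := by
      have e : o⁻¹ * (z₁ : K) * o = (o⁻¹ * k⁻¹) * (k * (z₁ : K) * k⁻¹) * (o⁻¹ * k⁻¹)⁻¹ := by group
      rw [e]
      exact (A g₁).mul_mem ((A g₁).mul_mem hout hkz) ((A g₁).inv_mem hout)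
    refine ⟨(QuotientGroup.mk k⁻¹, ⟨⟨_, hmem'⟩, ?_⟩), Subtype.ext ?_⟩
    · intro h0
      have : o⁻¹ * (z₁ : K) * o = 1 := congrArg Subtype.val h0
      apply z₁.2
      calc (z₁ : K) = o * (o⁻¹ * (z₁ : K) * o) * o⁻¹ := by group
        _ = 1 := by rw [this]; group
    · show o * (o⁻¹ * (z₁ : K) * o) * o⁻¹ = z₁
      group
  have := Nat.card_le_card_of_injective (Sum.elim (f g₁) (f g₂)) ((hinj g₁).sumElim (hinj g₂) hdisj)
  rw [Nat.card_sum] at this
  have := hcard g₁
  have := hcard g₂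
  have h1 := hind g₁
  have h2 := hind g₂
  -- each index is at most half of |K|
  have hhalf : ∀ g, 2 ≤ Nat.card (A g) → 2 * (A g).index ≤ Nat.card K := by
    intro g h
    rw [← Subgroup.index_mul_card (A g), mul_comm 2]
    exact Nat.mul_le_mul_left _ h
  have hA1 : 2 ≤ Nat.card (A g₁) := by
    have : A g₁ ≠ ⊥ := fun h => hz₀ (by
      have : z₀ ∈ A g₁ := (hmem _ _).mpr hg₁
      rwa [h] at this)
    have := (Subgroup.one_lt_card_iff_ne_bot _).mpr this
    omega
  have hA2 : 2 ≤ Nat.card (A g₂) := by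
    have : A g₂ ≠ ⊥ := fun h => z₁.2 (by
      have : (z₁ : K) ∈ A g₂ := (hmem _ _).mpr hg₂
      rwa [h] at this)
    have := (Subgroup.one_lt_card_iff_ne_bot _).mpr this
    omega
  have := hhalf g₁ hA1
  have := hhalf g₂ hA2
  omega

end Cfsg.Agent.S4116
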