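import Cfsg.Statements.S4115
import Cfsg.Agent.EqLemmas
import Cfsg.Agent.S4116
import Cfsg.Agent.Lib.ClassIndex.TIKernel
import Cfsg.Agent.Lib.Coprime.Invariant
import Cfsg.Agent.Lib.Frobenius.Basic

set_option autoImplicit false
universe u
open Cfsg

namespace Cfsg.Agent.S4115


open scoped Pointwise

section
variable {G : Type u} [Group G] [Finite G] {H : Subgroup G}

theorem coprime_index (hTI : Cfsg.IsTISubset (H : Set G))
    (hHall : (Nat.card H).Coprime (H.subgroupOf (Subgroup.normalizer (H : Set G))).index) :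
    (Nat.card H).Coprime H.index := by
  refine Nat.coprime_of_dvd fun p hp hpH hpI => ?_
  haveI := Fact.mk hp
  obtain ⟨P⟩ : Nonempty (Sylow p H) := inferInstance
  let P' : Subgroup G := (P : Subgroup H).map H.subtype
  have hP'c : Nat.card P' = p ^ (Nat.card H).factorization p := by
    rw [Subgroup.card_map_of_injective H.subtype_injective, P.card_eq_multiplicity]
  have hP'H : P' ≤ H := Subgroup.map_subtype_le _
  obtain ⟨S, hS⟩ := (P.2.map H.subtype : IsPGroup p P').exists_le_sylow
  -- a `p`-subgroup of the normalizer containing `P'` is `P'`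
  have hmax : ∀ K : Subgroup G, P' ≤ K → K ≤ Subgroup.normalizer (H : Set G) → IsPGroup p K →
      K = P' := by
    intro K hPK hKN hKp
    obtain ⟨a, ha⟩ := IsPGroup.iff_card.mp hKp
    refine (Subgroup.eq_of_le_of_card_ge hPK ?_).symm
    have hd : p ^ a ∣ Nat.card H * (H.subgroupOf (Subgroup.normalizer (H : Set G))).index := by
      rw [← ha, ← Nat.card_congr (Subgroup.subgroupOfEquivOfLe
        (Subgroup.le_normalizer (H := H))).toEquiv, Subgroup.card_mul_index]
      exact Subgroup.card_dvd_of_le hKN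
    have hco : (p ^ a).Coprime (H.subgroupOf (Subgroup.normalizer (H : Set G))).index :=
      Nat.Coprime.pow_left a (Nat.Coprime.coprime_dvd_left hpH hHall)
    have hdH := hco.dvd_of_dvd_mul_right hd
    rw [ha, hP'c]
    exact Nat.pow_le_pow_right hp.pos
      ((hp.pow_dvd_iff_le_factorization Nat.card_pos.ne').mp hdH)
  have hfac : (Nat.card H).factorization p < (Nat.card G).factorization p := by
    rw [← Subgroup.card_mul_index H, Nat.factorization_mul Nat.card_pos.ne'
      Subgroup.index_ne_zero_of_finite, Finsupp.add_apply]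
    have := hp.factorization_pos_of_dvd Subgroup.index_ne_zero_of_finite hpI
    omega
  have hne : P' ≠ (S : Subgroup G) := fun h => by
    have h1 := S.card_eq_multiplicity
    rw [show Nat.card S = Nat.card (S : Subgroup G) from rfl, ← h, hP'c] at h1
    exact hfac.ne (Nat.pow_right_injective hp.two_le h1)
  have hPne : P'.subgroupOf S < ⊤ := by
    rw [lt_top_iff_ne_top, Ne, Subgroup.subgroupOf_eq_top]
    exact fun h => hne (le_antisymm hS h)
  obtain ⟨r, hr, hrP⟩ := SetLike.exists_of_lt
    (Group.normalizerCondition_of_isNilpotent (G := S) (h := S.2.isNilpotent) _ hPne)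
  have hrH : (r : G) ∈ Subgroup.normalizer (H : Set G) := by
    by_contra hn
    have hP'1 : P' ≠ ⊥ := fun h => by
      rw [h, Subgroup.card_bot] at hP'c
      have := hp.factorization_pos_of_dvd Nat.card_pos.ne' hpH
      exact (Nat.one_lt_pow this.ne' hp.one_lt).ne hP'c
    obtain ⟨x, hx, hx1⟩ := (Subgroup.ne_bot_iff_exists_ne_one.mp hP'1).elim
      fun x hx => (⟨x.1, x.2, fun h => hx (Subtype.ext h)⟩ : ∃ x, x ∈ P' ∧ x ≠ 1)
    exact hx1 (hTI _ hn x (hP'H hx) (hP'H ((Subgroup.mem_normalizer_iff.1 hr ⟨x, hS hx⟩).1 hx)))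
  have hK := hmax ((S : Subgroup G) ⊓ Subgroup.normalizer (H : Set G))
    (le_inf hS (hP'H.trans Subgroup.le_normalizer)) inf_le_right (S.2.to_le inf_le_left)
  exact hrP (hK.le ⟨r.2, hrH⟩)

theorem exists_normal_complement (hTI : Cfsg.IsTISubset (H : Set G))
    (hH : (Nat.card H).Coprime H.index) (K : Subgroup (Subgroup.normalizer (H : Set G)))
    (hK : K.Normal) (hc : K.IsComplement' (H.subgroupOf (Subgroup.normalizer (H : Set G)))) :
    ∃ N : Subgroup G, N.Normal ∧ N.IsComplement' H := by
  let H' := H.subgroupOf (Subgroup.normalizer (H : Set G))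
  haveI := hK
  haveI hH'n : H'.Normal := Subgroup.normal_in_normalizer
  have hH'c : Nat.card H' = Nat.card H :=
    Nat.card_congr (Subgroup.subgroupOfEquivOfLe Subgroup.le_normalizer).toEquiv
  have hKi : K.index = Nat.card H' := hc.symm.index_eq_card
  have hKc : (Nat.card H').Coprime (Nat.card K) := by
    rw [← hc.index_eq_card, hH'c]
    exact hH.coprime_dvd_right (Subgroup.relIndex_dvd_index_of_le Subgroup.le_normalizer)
  have hS : TIKernel.IsTIDiff K := by
    intro x hx g hg
    obtain ⟨⟨⟨k, hk⟩, ⟨h, hh⟩⟩, hkh, -⟩ := hc.existsUnique x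
    have hkh' : k * h = x := hkh
    have h1 : h ≠ 1 := fun h0 => hx (by rw [← hkh', h0, mul_one]; exact hk)
    have hcomm : Commute k h :=
      Subgroup.commute_of_normal_of_disjoint K H' hK hH'n hc.disjoint k h hk hh
    -- `h` is a power of `x`
    obtain ⟨j, hj⟩ : h ∈ Subgroup.zpowers (h ^ Nat.card K) := by
      have hco : (orderOf h).Coprime (Nat.card K) :=
        hKc.coprime_dvd_left (Subgroup.orderOf_dvd_natCard H' hh)
      obtain ⟨m, hm⟩ := exists_pow_eq_self_of_coprime hco.symm
      exact ⟨m, by simpa using hm⟩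
    have hxpow : x ^ Nat.card K = h ^ Nat.card K := by
      rw [← hkh', hcomm.mul_pow]
      have : k ^ Nat.card K = 1 := by
        have := pow_card_eq_one' (x := (⟨k, hk⟩ : K))
        exact congrArg Subtype.val this
      rw [this, one_mul]
    have hyL : g⁻¹ * (h : G) * g ∈ (Subgroup.normalizer (H : Set G)) := by
      have hxh : (h : G) = ((x : G) ^ Nat.card K) ^ j := by
        conv_lhs => rw [← hj]
        rw [← hxpow]
        simp
      rw [hxh]
      have e : ((g⁻¹ * (x : G) * g) ^ Nat.card K) ^ j = g⁻¹ * ((x : G) ^ Nat.card K) ^ j * g := by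
        rw [show g⁻¹ * (x : G) * g = g⁻¹ * (x : G) * g⁻¹⁻¹ by rw [inv_inv], conj_pow, conj_zpow,
          inv_inv]
      rw [← e]
      exact Subgroup.zpow_mem _ (Subgroup.pow_mem _ hg _) _
    have hyH : g⁻¹ * (h : G) * g ∈ H := by
      refine S4116.mem_of_mem_normalizer hH (fun q hq hqd => ?_) hyL
      have : orderOf (g⁻¹ * (h : G) * g) = orderOf (h : G) := by
        simpa using MulEquiv.orderOf_eq (MulAut.conj g⁻¹) (h : G)
      rw [this, Subgroup.orderOf_coe] at hqd
      exact hH'c ▸ hqd.trans (Subgroup.orderOf_dvd_natCard H' hh)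
    by_contra hn
    have : g⁻¹ ∉ (Subgroup.normalizer (H : Set G)) := fun hh' => hn (inv_mem_iff.mp hh')
    exact h1 (Subtype.ext (hTI g⁻¹ this (h : G) hh (by simpa using hyH)))
  obtain ⟨N, hN, hiff, hcard⟩ := TIKernel.exists_relative_kernel hS
  refine ⟨N, hN, Subgroup.isComplement'_of_card_mul_and_disjoint (by rw [← hcard, hKi, hH'c]) ?_⟩
  rw [disjoint_iff, Subgroup.eq_bot_iff_forall]
  rintro x ⟨hxN, hxH⟩
  have hxK : (⟨x, Subgroup.le_normalizer hxH⟩ : (Subgroup.normalizer (H : Set G))) ∈ K := (hiff _).1 hxN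
  exact congrArg Subtype.val (Subgroup.mem_bot.1
    (hc.disjoint.le_bot ⟨hxK, show (⟨x, _⟩ : (Subgroup.normalizer (H : Set G))) ∈ H' from hxH⟩))

theorem exists_frobenius (hTI : Cfsg.IsTISubset (H : Set G)) (hH : (Nat.card H).Coprime H.index)
    (hnn : ¬ H.Normal) {N : Subgroup G} (hN : N.Normal) (hc : N.IsComplement' H) :
    ∃ (F : Type u) (_ : Group F) (_ : Finite F) (C : Subgroup F),
      Cfsg.IsFrobeniusComplement C ∧ Nonempty (H ≃* C) := by
  haveI := hN
  have hHne : H ≠ ⊥ := fun h => hnn (by rw [h]; infer_instance)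
  have hcardN : Nat.card N = H.index := hc.index_eq_card.symm
  have hHN : (Nat.card H).Coprime (Nat.card N) := by rw [hcardN]; exact hH
  have hd : ∀ x, x ∈ N → x ∈ H → x = 1 := fun x hxN hxH =>
    Subgroup.mem_bot.1 (hc.disjoint.le_bot ⟨hxN, hxH⟩)
  -- an element of `N` centralizing a nonidentity element of `H` centralizes `H`
  have hcent : ∀ h ∈ H, h ≠ 1 → ∀ n ∈ N, n * h = h * n →
      n ∈ Subgroup.centralizer (H : Set G) := by
    intro h hh h1 n hn hcomm
    have hnL : n ∈ Subgroup.normalizer (H : Set G) := by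
      by_contra hn'
      exact h1 (hTI n hn' h hh (by rw [hcomm, mul_inv_cancel_right]; exact hh))
    rw [Subgroup.mem_centralizer_iff]
    intro h' hh'
    have hH1 : n * h' * n⁻¹ * h'⁻¹ ∈ H :=
      H.mul_mem ((Subgroup.mem_normalizer_iff.1 hnL h').1 hh') (H.inv_mem hh')
    have hN1 : n * h' * n⁻¹ * h'⁻¹ ∈ N := by
      have := N.mul_mem hn (hN.conj_mem _ (N.inv_mem hn) h')
      simpa [mul_assoc] using this
    have h2 := hd _ hN1 hH1
    rw [mul_inv_eq_one, mul_inv_eq_iff_eq_mul] at h2
    exact h2.symm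
  -- invariant Sylow subgroups
  have hinv : ∀ q : ℕ, q.Prime → ∃ Q : Subgroup G, Q ≤ N ∧
      Nat.card Q = q ^ (Nat.card N).factorization q ∧
      H ≤ Subgroup.normalizer (Q : Set G) := by
    intro q hq
    haveI := Fact.mk hq
    obtain ⟨P⟩ : Nonempty (Sylow q N) := inferInstance
    set Q₀ : Subgroup G := (P : Subgroup N).map N.subtype with hQ₀
    set M := Subgroup.normalizer (Q₀ : Set G) with hM
    have hsup : M ⊔ N = ⊤ := Sylow.normalizer_sup_eq_top P
    have hidx : (N.subgroupOf M).index = Nat.card H := by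
      show N.relIndex M = _
      rw [← Subgroup.relIndex_sup_right, hsup, Subgroup.relIndex_top_right]
      exact hc.symm.index_eq_card
    have hcop : (Nat.card (N.subgroupOf M)).Coprime (N.subgroupOf M).index := by
      rw [hidx]
      refine hHN.symm.coprime_dvd_left ?_
      rw [← Subgroup.card_map_of_injective M.subtype_injective, Subgroup.subgroupOf_map_subtype]
      exact Subgroup.card_dvd_of_le inf_le_left
    obtain ⟨H₁, hH₁⟩ := Subgroup.exists_right_complement'_of_coprime hcop
    have hH₁c : Nat.card (H₁.map M.subtype) = Nat.card H := by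
      rw [Subgroup.card_map_of_injective M.subtype_injective, ← hidx, hH₁.symm.index_eq_card]
    obtain ⟨g, hg⟩ := S4116.result H hH hTI (H₁.map M.subtype)
      (fun r _ hr => hH₁c ▸ hr)
    have heq := Subgroup.eq_of_le_of_card_ge hg (by
      rw [Subgroup.card_map_of_injective (MulAut.conj g).injective, hH₁c])
    refine ⟨Q₀.map (MulAut.conj g⁻¹).toMonoidHom, ?_, ?_, ?_⟩
    · rintro x ⟨y, hy, rfl⟩
      exact hN.conj_mem y (Subgroup.map_subtype_le _ hy) g⁻¹
    · rw [Subgroup.card_map_of_injective (MulAut.conj g⁻¹).injective,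
        Subgroup.card_map_of_injective N.subtype_injective, P.card_eq_multiplicity]
    · intro h hh
      rw [← Subgroup.map_equiv_normalizer_eq, Subgroup.mem_map_equiv]
      have hmem : g * h * g⁻¹ ∈ H₁.map M.subtype := heq ▸ ⟨h, hh, rfl⟩
      simpa using Subgroup.map_subtype_le _ hmem
  -- some prime has an invariant Sylow subgroup not centralized by `H`
  obtain ⟨q, hq, Q, hQN, hQc, hQH, hQcent⟩ : ∃ q : ℕ, q.Prime ∧ ∃ Q : Subgroup G, Q ≤ N ∧
      Nat.card Q = q ^ (Nat.card N).factorization q ∧ H ≤ Subgroup.normalizer (Q : Set G) ∧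
      ¬ Q ≤ Subgroup.centralizer (H : Set G) := by
    by_contra hall
    push Not at hall
    apply hnn
    have hle : N ≤ Subgroup.centralizer (H : Set G) := by
      have hd' : Nat.card N ∣ Nat.card (N ⊓ Subgroup.centralizer (H : Set G) : Subgroup G) := by
        rw [← Nat.factorization_prime_le_iff_dvd Nat.card_pos.ne' Nat.card_pos.ne']
        intro q hq
        obtain ⟨Q, hQN, hQc, hQH⟩ := hinv q hq
        rw [← hq.pow_dvd_iff_le_factorization Nat.card_pos.ne', ← hQc]
        exact Subgroup.card_dvd_of_le (le_inf hQN (hall q hq Q hQN hQc hQH))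
      have := Subgroup.eq_of_le_of_card_ge
        (inf_le_left : N ⊓ Subgroup.centralizer (H : Set G) ≤ N)
        (Nat.le_of_dvd Nat.card_pos hd')
      exact this ▸ inf_le_right
    rw [← Subgroup.normalizer_eq_top_iff, eq_top_iff, ← hc.sup_eq_top]
    exact sup_le (hle.trans (Subgroup.centralizer_le_normalizer _)) Subgroup.le_normalizer
  haveI := Fact.mk hq
  -- a minimal invariant subgroup not centralized by `H`
  obtain ⟨M, ⟨hMQ, hMH, hMcent⟩, hmin⟩ := (Set.toFinite
    {M : Subgroup G | M ≤ Q ∧ H ≤ Subgroup.normalizer (M : Set G) ∧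
      ¬ M ≤ Subgroup.centralizer (H : Set G)}).exists_minimal ⟨Q, le_rfl, hQH, hQcent⟩
  have hMN : M ≤ N := hMQ.trans hQN
  have hMp : IsPGroup q M := (IsPGroup.of_card hQc).to_le hMQ
  set W : Subgroup G := M ⊓ Subgroup.centralizer (H : Set G) with hW
  have hWH : H ≤ Subgroup.normalizer (W : Set G) := fun h hh => by
    rw [Subgroup.mem_normalizer_iff]
    intro x
    constructor
    · rintro ⟨hxM, hxC⟩
      have : h * x * h⁻¹ = x := by
        rw [Subgroup.mem_centralizer_iff.1 hxC h hh, mul_inv_cancel_right]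
      rw [this]; exact ⟨hxM, hxC⟩
    · rintro ⟨hxM, hxC⟩
      have h1 := Subgroup.mem_centralizer_iff.1 hxC h hh
      have : x = h * x * h⁻¹ := by
        calc x = h⁻¹ * (h * x * h⁻¹) * h := by group
          _ = h⁻¹ * (h * (h * x * h⁻¹)) := by rw [mul_assoc, ← h1]
          _ = _ := by group
      rw [this]; exact ⟨hxM, hxC⟩
  have hWM : W.subgroupOf M < ⊤ := by
    rw [lt_top_iff_ne_top, Ne, Subgroup.subgroupOf_eq_top]
    exact fun h => hMcent (h.trans inf_le_right)
  have hMW : M ≤ Subgroup.normalizer (W : Set G) := by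
    haveI : Group.IsNilpotent M := hMp.isNilpotent
    obtain ⟨r, hr, hrW⟩ := SetLike.exists_of_lt
      (Group.normalizerCondition_of_isNilpotent (G := M) _ hWM)
    have hr' : (r : G) ∈ Subgroup.normalizer (W : Set G) := by
      rw [Subgroup.mem_normalizer_iff]
      intro x
      constructor
      · intro hx
        exact (Subgroup.mem_normalizer_iff.1 hr ⟨x, hx.1⟩).1 hx
      · intro hx
        have hxM : x ∈ M := by
          have := M.mul_mem (M.mul_mem (M.inv_mem r.2) hx.1) r.2
          simpa [mul_assoc] using this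
        exact (Subgroup.mem_normalizer_iff.1 hr ⟨x, hxM⟩).2 hx
    set M₁ := M ⊓ Subgroup.normalizer (W : Set G) with hM₁
    have hM₁H : H ≤ Subgroup.normalizer (M₁ : Set G) :=
      fun h hh => Subgroup.inf_normalizer_le_normalizer_inf
        ⟨hMH hh, Subgroup.le_normalizer (hWH hh)⟩
    have hnc : ¬ M₁ ≤ Subgroup.centralizer (H : Set G) := fun hle =>
      hrW (show (r : G) ∈ W from ⟨r.2, hle ⟨r.2, hr'⟩⟩)
    exact (hmin ⟨inf_le_left.trans hMQ, hM₁H, hnc⟩ inf_le_left).trans inf_le_right
  -- the quotient of `M H` by `W`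
  set T : Subgroup G := M ⊔ H with hT
  haveI : (W.subgroupOf T).Normal :=
    Subgroup.normal_subgroupOf_of_le_normalizer (sup_le hMW hWH)
  haveI hMnT : (M.subgroupOf T).Normal :=
    Subgroup.normal_subgroupOf_of_le_normalizer (sup_le Subgroup.le_normalizer hMH)
  let π := QuotientGroup.mk' (W.subgroupOf T)
  let f : H →* T ⧸ W.subgroupOf T := π.comp (Subgroup.inclusion le_sup_right)
  have hfinj : Function.Injective f := by
    rw [injective_iff_map_eq_one]
    intro h hh
    have : (h : G) ∈ W := (QuotientGroup.eq_one_iff (N := W.subgroupOf T) _).1 hh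
    exact Subtype.ext (hd _ (hMN this.1) h.2)
  set K : Subgroup (T ⧸ W.subgroupOf T) := (M.subgroupOf T).map π with hK
  haveI : K.Normal := hMnT.map π (QuotientGroup.mk'_surjective _)
  refine ⟨T ⧸ W.subgroupOf T, inferInstance, inferInstance, f.range, ?_,
    ⟨MonoidHom.ofInjective hfinj⟩⟩
  have hcompl : K.IsComplement' f.range := by
    refine Subgroup.isComplement'_of_disjoint_and_mul_eq_univ ?_ ?_
    · rw [disjoint_iff, Subgroup.eq_bot_iff_forall]
      rintro _ ⟨⟨m, hm, rfl⟩, h, hh⟩
      have hW' : ((h : G))⁻¹ * (m : G) ∈ W := (QuotientGroup.eq (s := W.subgroupOf T)).1 hh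
      have hm' : (m : G) ∈ M := hm
      have : (h : G) ∈ M := by
        have := M.mul_mem hm' (M.inv_mem hW'.1)
        simpa [mul_assoc] using this
      have h1 : h = 1 := Subtype.ext (hd _ (hMN this) h.2)
      rw [← hh, h1, map_one]
    · rw [Set.eq_univ_iff_forall]
      intro z
      obtain ⟨⟨t, ht⟩, rfl⟩ := QuotientGroup.mk'_surjective _ z
      obtain ⟨m, hm, h, hh, rfl⟩ := (Coprime.mem_sup_iff hMH).1 ht
      exact ⟨π ⟨m, le_sup_left (a := M) hm⟩, ⟨_, hm, rfl⟩, f ⟨h, hh⟩, ⟨_, rfl⟩,
        (map_mul π _ _).symm⟩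
  refine Frobenius.FPF.isFrobeniusComplement hcompl ?_ ?_ ?_
  · rw [Ne, Subgroup.eq_bot_iff_forall]
    intro hall
    apply hMcent
    intro m hm
    have := hall _ ⟨(⟨m, le_sup_left (a := M) hm⟩ : T), hm, rfl⟩
    exact (show m ∈ W from (QuotientGroup.eq_one_iff (N := W.subgroupOf T) _).1 this).2
  · intro hbot
    apply hHne
    rw [Subgroup.eq_bot_iff_forall]
    intro h hh
    have : f ⟨h, hh⟩ = 1 := Subgroup.mem_bot.1 (hbot ▸ ⟨_, rfl⟩)
    exact congrArg Subtype.val (hfinj (this.trans (map_one f).symm))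
  · rintro _ ⟨h, rfl⟩ h1 _ ⟨m, hm, rfl⟩ hcomm
    have hh1 : (h : G) ≠ 1 := fun h0 => h1 (by
      rw [show h = 1 from Subtype.ext h0, map_one])
    set A := Subgroup.zpowers (h : G) with hA
    have hAH : A ≤ H := (Subgroup.zpowers_le).2 h.2
    have hfix : ∀ a ∈ A, a * (m : G) * a⁻¹ * (m : G)⁻¹ ∈ W := by
      rintro _ ⟨i, rfl⟩
      have hi : f h ^ i * π m = π m * f h ^ i := (Commute.zpow_left hcomm i).eq
      have hz : π ((Subgroup.inclusion le_sup_right h) ^ i * m *
          ((Subgroup.inclusion le_sup_right h) ^ i)⁻¹ * m⁻¹) = 1 := by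
        rw [map_mul, map_mul, map_mul, map_inv, map_inv, map_zpow]
        show f h ^ i * π m * (f h ^ i)⁻¹ * (π m)⁻¹ = 1
        rw [hi, mul_inv_cancel_right, mul_inv_cancel]
      have := (QuotientGroup.eq_one_iff _).1 hz
      simpa [Subgroup.mem_subgroupOf] using this
    obtain ⟨c, ⟨hcM, hcA⟩, hcW⟩ := Coprime.exists_mem_centralizer_of_coset
      (A := A) (K := M) (hAH.trans hMH)
      ((hHN.coprime_dvd_left (Subgroup.card_dvd_of_le hAH)).coprime_dvd_right
        (Subgroup.card_dvd_of_le hMN))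
      (Or.inl inferInstance) (inf_le_left : W ≤ M) (hAH.trans hWH) (show (m : G) ∈ M from hm) hfix
    have hcC := hcent h h.2 hh1 c (hMN hcM)
      (Subgroup.mem_centralizer_iff.1 hcA h (Subgroup.mem_zpowers _)).symm
    have hcW' : c ∈ W := ⟨hcM, hcC⟩
    have hmW : (m : G) ∈ W := by
      have := W.mul_mem (W.inv_mem hcW) hcW'
      simpa [mul_assoc] using this
    exact (QuotientGroup.eq_one_iff (N := W.subgroupOf T) _).2 hmW

end

/-- Let G be a finite group and H a subgroup that meets each of its conjugates by elements outside N_G(H) trivially and whose order is coprime to its index in N_G(H). Then H has a normal complement in N_G(H) if and only if H has a normal complement in G. Moreover, if H is not normal in G and has a normal complement in N_G(H), then H is isomorphic to a Frobenius complement of some finite Frobenius group. -/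
theorem result {G : Type u} [Group G] [Finite G] (H : Subgroup G)
    (hTI : Cfsg.IsTISubset (H : Set G)) (hHall : (Nat.card H).Coprime (H.subgroupOf (Subgroup.normalizer (H : Set G))).index) :
    ((∃ K : Subgroup (Subgroup.normalizer (H : Set G)), K.Normal ∧ K.IsComplement' (H.subgroupOf (Subgroup.normalizer (H : Set G)))) ↔
      (∃ N : Subgroup G, N.Normal ∧ N.IsComplement' H)) ∧
    (¬ H.Normal → (∃ K : Subgroup (Subgroup.normalizer (H : Set G)), K.Normal ∧ K.IsComplement' (H.subgroupOf (Subgroup.normalizer (H : Set G)))) →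
      ∃ (F : Type u) (_ : Group F) (_ : Finite F) (C : Subgroup F), Cfsg.IsFrobeniusComplement C ∧ Nonempty (H ≃* C)) := by
  have hH := coprime_index hTI hHall
  refine ⟨⟨fun ⟨K, hK, hc⟩ => exists_normal_complement hTI hH K hK hc, fun ⟨N, hN, hc⟩ => ?_⟩, ?_⟩
  · refine ⟨N.subgroupOf (Subgroup.normalizer (H : Set G)),
      hN.comap (Subgroup.subtype _), ?_⟩
    refine Subgroup.isComplement'_of_disjoint_and_mul_eq_univ ?_ ?_
    · rw [disjoint_iff, Subgroup.eq_bot_iff_forall]
      rintro x ⟨hxN, hxH⟩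
      exact Subtype.ext (Subgroup.mem_bot.1 (hc.disjoint.le_bot ⟨hxN, hxH⟩))
    · rw [Set.eq_univ_iff_forall]
      rintro ⟨l, hl⟩
      obtain ⟨⟨⟨n, hn⟩, ⟨h, hh⟩⟩, he, -⟩ := hc.existsUnique l
      obtain rfl : n * h = l := he
      have hnL : n ∈ Subgroup.normalizer (H : Set G) := by
        simpa using Subgroup.mul_mem _ hl (Subgroup.inv_mem _ (Subgroup.le_normalizer hh))
      exact ⟨⟨n, hnL⟩, hn, ⟨h, Subgroup.le_normalizer hh⟩, hh, rfl⟩
  · rintro hnn ⟨K, hK, hc⟩
    obtain ⟨N, hN, hNc⟩ := exists_normal_complement hTI hH K hK hc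
    exact exists_frobenius hTI hH hnn hN hNc

end Cfsg.Agent.S4115
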