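import Cfsg.Statements.S4117
import Cfsg.Agent.EqLemmas

set_option autoImplicit false
open Cfsg

namespace Cfsg.Agent.S4117

theorem eq_zpowers_of_card {H : Type*} [Group H] [Finite H] [IsCyclic H] {p : ℕ} [Fact p.Prime] {x y : H}
    (hx : orderOf x = p) (hy : orderOf y = p) : Subgroup.zpowers x = Subgroup.zpowers y := by
  classical
  haveI := Fintype.ofFinite H
  suffices h : x ∈ Subgroup.zpowers y from Subgroup.eq_of_le_of_card_ge (Subgroup.zpowers_le.mpr h)
    (by rw [Nat.card_zpowers, Nat.card_zpowers, hx, hy])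
  have h1 := IsCyclic.card_pow_eq_one_le (α := H) (Fact.out : p.Prime).pos
  by_contra hne
  have h2 : (Finset.univ.filter fun a : H => a ∈ Subgroup.zpowers y) ∪ {x} ⊆ Finset.univ.filter fun a : H => a ^ p = 1 := by
    intro a ha
    simp only [Finset.mem_union, Finset.mem_filter, Finset.mem_univ, true_and, Finset.mem_singleton] at ha ⊢
    rcases ha with ⟨i, rfl⟩ | rfl
    · show (y ^ i) ^ p = 1
      rw [← zpow_natCast, ← zpow_mul, mul_comm, zpow_mul, zpow_natCast, ← hy, pow_orderOf_eq_one, one_zpow]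
    · rw [← hx, pow_orderOf_eq_one]
  have h3 := (Finset.card_le_card h2).trans h1
  have h4 : (Finset.univ.filter fun a : H => a ∈ Subgroup.zpowers y).card = p := by
    rw [← Fintype.card_subtype]
    exact Fintype.card_eq_nat_card.trans ((Nat.card_zpowers y).trans hy)
  rw [Finset.card_union_of_disjoint (by simpa using hne), h4, Finset.card_singleton] at h3
  omega

section
variable {G A : Type*} [Group G] [Finite G] [Group A] [Finite A] [MulDistribMulAction A G]

theorem exists_root {D : Subgroup G} {n : ℕ} (hn : n.Coprime (Nat.card D)) {d : G} (hd : d ∈ D) :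
    ∃ r ∈ D, r ^ n = d := by
  obtain ⟨e, he⟩ := exists_pow_eq_self_of_coprime (x := (⟨d, hd⟩ : D))
    (Nat.Coprime.coprime_dvd_right (orderOf_dvd_natCard _) hn)
  refine ⟨d ^ e, D.pow_mem hd e, ?_⟩
  have h2 : (d ^ n) ^ e = d := congrArg Subtype.val he
  rw [← pow_mul, mul_comm, pow_mul]; exact h2

theorem commute_prod {D : Subgroup G} (hab : ∀ x ∈ D, ∀ y ∈ D, Commute x y) {ι : Type*} (s : Finset ι)
    (z : ι → G) (hz : ∀ i ∈ s, z i ∈ D) : (s : Set ι).Pairwise (Function.onFun Commute z) :=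
  fun i hi j hj _ => hab _ (hz i hi) _ (hz j hj)

/-- A coprime cocycle into an abelian subgroup is a coboundary. -/
theorem exists_fixed_in_coset (hcop : (Nat.card A).Coprime (Nat.card G)) (D : Subgroup G)
    (hab : ∀ x ∈ D, ∀ y ∈ D, Commute x y) (hinv : ∀ a : A, ∀ d ∈ D, a • d ∈ D) (g : G)
    (hg : ∀ a : A, g⁻¹ * a • g ∈ D) : ∃ m ∈ D, ∀ a : A, a • (g * m) = g * m := by
  classical
  haveI := Fintype.ofFinite A
  haveI : IsMulCommutative D := ⟨⟨fun x y => Subtype.ext (hab x x.2 y y.2)⟩⟩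
  letI : CommGroup D := { (inferInstance : Group D) with mul_comm := fun x y => Subtype.ext (hab x x.2 y y.2) }
  let z : A → D := fun a => ⟨g⁻¹ * a • g, hg a⟩
  let act : A → (D →* D) := fun a =>
    { toFun := fun d => ⟨a • (d : G), hinv a d d.2⟩
      map_one' := Subtype.ext (smul_one a)
      map_mul' := fun x y => Subtype.ext (smul_mul' a (x : G) (y : G)) }
  have hz : ∀ a b, z (a * b) = z a * act a (z b) := by
    intro a b
    refine Subtype.ext ?_
    show g⁻¹ * (a * b) • g = (g⁻¹ * a • g) * a • (g⁻¹ * b • g)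
    rw [smul_mul', smul_inv', mul_smul]; group
  obtain ⟨m, hm, hpow⟩ := exists_root (D := D) (n := Nat.card A)
    (hcop.coprime_dvd_right (Subgroup.card_subgroup_dvd_card D)) (∏ b : A, z b).2
  refine ⟨m, hm, fun a => ?_⟩
  let m' : D := ⟨m, hm⟩
  have hm' : m' ^ Nat.card A = ∏ b : A, z b := Subtype.ext hpow
  have key : z a ^ Nat.card A * act a (m' ^ Nat.card A) = m' ^ Nat.card A := by
    rw [hm', map_prod, Nat.card_eq_fintype_card, ← Finset.card_univ,
      ← Finset.prod_const, ← Finset.prod_mul_distrib]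
    exact Fintype.prod_equiv (Equiv.mulLeft a) _ _ (fun b => (hz a b).symm)
  rw [map_pow, ← mul_pow] at key
  have h2 : z a * act a m' = m' :=
    (Function.Bijective.injective (f := fun d : D => d ^ Nat.card A)
      (powCoprime ((hcop.coprime_dvd_right (Subgroup.card_subgroup_dvd_card D)).symm)).bijective) key
  have h3 : g⁻¹ * a • g * a • m = m := congrArg Subtype.val h2
  rw [smul_mul']
  calc a • g * a • m = g * (g⁻¹ * a • g * a • m) := by group
    _ = g * m := by rw [h3]

theorem eq_one_of_fixed_mem (hcop : (Nat.card A).Coprime (Nat.card G)) (D : Subgroup G)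
    (hab : ∀ x ∈ D, ∀ y ∈ D, Commute x y) (hinv : ∀ a : A, ∀ d ∈ D, a • d ∈ D)
    {y : G} (hy : y ∈ Subgroup.closure {v : G | ∃ (a : A) (d : G), d ∈ D ∧ v = d⁻¹ * a • d})
    (hfix : ∀ a : A, a • y = y) : y = 1 := by
  classical
  haveI := Fintype.ofFinite A
  letI : CommGroup D := { (inferInstance : Group D) with mul_comm := fun x y => Subtype.ext (hab x x.2 y y.2) }
  let π : D →* D :=
    { toFun := fun d => ∏ a : A, ⟨a • (d : G), hinv a d d.2⟩
      map_one' := Finset.prod_eq_one fun a _ => Subtype.ext (smul_one a)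
      map_mul' := fun x y => by
        rw [← Finset.prod_mul_distrib]
        exact Finset.prod_congr rfl fun a _ => Subtype.ext (smul_mul' a (x : G) (y : G)) }
  have hle : Subgroup.closure {v : G | ∃ (a : A) (d : G), d ∈ D ∧ v = d⁻¹ * a • d} ≤ π.ker.map D.subtype := by
    rw [Subgroup.closure_le]
    rintro _ ⟨a, d, hd, rfl⟩
    refine ⟨⟨d⁻¹ * a • d, D.mul_mem (D.inv_mem hd) (hinv a d hd)⟩, ?_, rfl⟩
    have hsame : π ⟨a • d, hinv a d hd⟩ = π ⟨d, hd⟩ :=
      Fintype.prod_equiv (Equiv.mulRight a) _ _ (fun b => Subtype.ext (mul_smul b a d).symm)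
    show π ((⟨d, hd⟩ : D)⁻¹ * ⟨a • d, hinv a d hd⟩) = 1
    rw [map_mul, map_inv, hsame, inv_mul_cancel]
  obtain ⟨⟨w, hwD⟩, hw, rfl⟩ := hle hy
  have h1 : π ⟨w, hwD⟩ = (⟨w, hwD⟩ : D) ^ Nat.card A := by
    show (∏ a : A, (⟨a • w, hinv a w hwD⟩ : D)) = _
    rw [Finset.prod_congr rfl (fun a _ => Subtype.ext (hfix a) : ∀ a ∈ Finset.univ, (⟨a • w, hinv a w hwD⟩ : D) = ⟨w, hwD⟩),
      Finset.prod_const, Finset.card_univ, Nat.card_eq_fintype_card]
  rw [MonoidHom.mem_ker.mp hw] at h1
  have h2 : orderOf (⟨w, hwD⟩ : D) ∣ Nat.card A := orderOf_dvd_of_pow_eq_one h1.symm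
  have h3 : orderOf (⟨w, hwD⟩ : D) ∣ Nat.card G := (orderOf_dvd_natCard _).trans (Subgroup.card_subgroup_dvd_card D)
  exact congrArg Subtype.val (orderOf_eq_one_iff.mp (Nat.eq_one_of_dvd_coprimes hcop h2 h3) : (⟨w, hwD⟩ : D) = 1)

end

/-- Let A be a finite group acting on the finite group G by automorphisms with the orders of A and G coprime, and suppose every Sylow subgroup of G is cyclic. Then the fixed-point subgroup C_G(A) is a Hall subgroup of G (its order is coprime to its index), the subgroup [G, A] generated by the elements g⁻¹·a(g) is cyclic and normal with [G, A] ∩ C_G(A) = 1 and [G, A]·C_G(A) = G. -/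
theorem result {G A : Type*} [Group G] [Finite G] [Group A] [Finite A]
    [MulDistribMulAction A G] (hcop : (Nat.card A).Coprime (Nat.card G))
    (hcyc : ∀ (p : ℕ) [Fact p.Prime] (P : Sylow p G), IsCyclic (P : Subgroup G)) :
    (Nat.card (MulAction.fixedPoints A G : Set G)).Coprime (Nat.card G / Nat.card (MulAction.fixedPoints A G : Set G)) ∧
    IsCyclic (Subgroup.closure {y : G | ∃ (a : A) (g : G), y = g⁻¹ * a • g}) ∧
    (Subgroup.closure {y : G | ∃ (a : A) (g : G), y = g⁻¹ * a • g}).Normal ∧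
    (Subgroup.closure {y : G | ∃ (a : A) (g : G), y = g⁻¹ * a • g} : Set G) ∩ MulAction.fixedPoints A G = {1} ∧
    Subgroup.closure {y : G | ∃ (a : A) (g : G), y = g⁻¹ * a • g} ⊔ Subgroup.closure (MulAction.fixedPoints A G) = ⊤ := by
  classical
  haveI : IsZGroup G := ⟨fun p hp P => by haveI := Fact.mk hp; exact hcyc p P⟩
  set D := Subgroup.closure {y : G | ∃ (a : A) (g : G), y = g⁻¹ * a • g} with hD
  let C : Subgroup G :=
    { carrier := MulAction.fixedPoints A G
      mul_mem' := fun {x y} hx hy a => by rw [smul_mul', hx a, hy a]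
      one_mem' := fun a => smul_one a
      inv_mem' := fun {x} hx a => by rw [smul_inv', hx a] }
  have hgenD : ∀ (a : A) (g : G), g⁻¹ * a • g ∈ D := fun a g => Subgroup.subset_closure ⟨a, g, rfl⟩
  have hDn : D.Normal := by
    refine ⟨fun d hd h => ?_⟩
    have hle : D ≤ D.comap (MulAut.conj h).toMonoidHom := by
      rw [hD, Subgroup.closure_le]
      rintro _ ⟨a, g, rfl⟩
      show h * (g⁻¹ * a • g) * h⁻¹ ∈ D
      have e : h * (g⁻¹ * a • g) * h⁻¹ = ((g * h⁻¹)⁻¹ * a • (g * h⁻¹)) * (h⁻¹⁻¹ * a • h⁻¹)⁻¹ := by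
        rw [smul_mul']; group
      rw [e]
      exact D.mul_mem (hgenD a _) (D.inv_mem (hgenD a _))
    exact hle hd
  haveI := hDn
  have hDinv : ∀ a : A, ∀ d ∈ D, a • d ∈ D := by
    intro a d hd
    have : a • d = d * (d⁻¹ * a • d) := by group
    rw [this]; exact D.mul_mem hd (hgenD a d)
  -- D centralizes the commutator subgroup
  set N := commutator G with hN
  haveI hNc : IsCyclic N := IsZGroup.isCyclic_commutator G
  have hNinv : ∀ a : A, ∀ n ∈ N, a • n ∈ N := by
    intro a n hn
    have h := Subgroup.mem_map_of_mem (MulDistribMulAction.toMulEquiv G a).toMonoidHom hn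
    rw [hN, commutator_def, Subgroup.map_commutator] at h
    rw [Subgroup.map_top_of_surjective (MulDistribMulAction.toMulEquiv G a).toMonoidHom
      (MulDistribMulAction.toMulEquiv G a).surjective] at h
    rw [hN, commutator_def]
    exact h
  have hDN : ∀ d ∈ D, ∀ n ∈ N, Commute d n := by
    obtain ⟨⟨n₀, hn₀⟩, hgen⟩ := IsCyclic.exists_zpow_surjective (G := N)
    have hgen' : ∀ n ∈ N, ∃ j : ℤ, n₀ ^ j = n := fun n hn => by
      obtain ⟨j, hj⟩ := hgen ⟨n, hn⟩; exact ⟨j, congrArg Subtype.val hj⟩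
    suffices hsuf : D ≤ Subgroup.centralizer (N : Set G) from fun d hd n hn => (hsuf hd n hn).symm
    rw [hD, Subgroup.closure_le]
    rintro _ ⟨a, g, rfl⟩ n hn
    obtain ⟨k, hk⟩ := hgen' _ ((inferInstance : N.Normal).conj_mem n₀ hn₀ g)
    have hall : ∀ n ∈ N, g * n * g⁻¹ = n ^ k := by
      intro n hn
      obtain ⟨j, rfl⟩ := hgen' n hn
      rw [← zpow_mul, mul_comm, zpow_mul, hk, conj_zpow]
    have hall' : ∀ n ∈ N, (a • g) * n * (a • g)⁻¹ = n ^ k := by
      intro n hn
      have h := congrArg (fun z => a • z) (hall (a⁻¹ • n) (hNinv _ n hn))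
      simp only [smul_mul', smul_inv', smul_zpow', smul_inv_smul] at h
      exact h
    calc n * (g⁻¹ * a • g) = g⁻¹ * (g * n * g⁻¹) * (a • g) := by group
      _ = g⁻¹ * ((a • g) * n * (a • g)⁻¹) * (a • g) := by rw [hall n hn, hall' n hn]
      _ = g⁻¹ * a • g * n := by group
  -- D is abelian, hence cyclic
  have hDab : ∀ x ∈ D, ∀ y ∈ D, Commute x y := by
    haveI : IsCyclic (G ⧸ N) := IsZGroup.isCyclic_abelianization
    let f : D →* G ⧸ N := (QuotientGroup.mk' N).comp D.subtype
    haveI : IsCyclic f.range := Subgroup.isCyclic _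
    have hker : f.rangeRestrict.ker ≤ Subgroup.center D := by
      intro d hd
      rw [MonoidHom.ker_rangeRestrict] at hd
      rw [Subgroup.mem_center_iff]
      intro e
      exact Subtype.ext (hDN e e.2 d ((QuotientGroup.eq_one_iff _).mp hd)).eq
    have hcm := f.rangeRestrict.isMulCommutative_of_isCyclic_of_ker_le_center hker
    intro x hx y hy
    exact congrArg Subtype.val (hcm.is_comm.comm (⟨x, hx⟩ : D) ⟨y, hy⟩)
  haveI : IsMulCommutative D := ⟨⟨fun x y => Subtype.ext (hDab x x.2 y y.2)⟩⟩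
  haveI : Group.IsNilpotent D := by
    letI : CommGroup D := { (inferInstance : Group D) with mul_comm := fun x y => Subtype.ext (hDab x x.2 y y.2) }
    infer_instance
  haveI hDc : IsCyclic D := inferInstance
  -- fixed points supplement D
  have hcov : ∀ g : G, ∃ c ∈ C, ∃ d ∈ D, g = c * d := by
    intro g
    obtain ⟨m, hm, hfix⟩ := exists_fixed_in_coset hcop D hDab hDinv g (fun a => hgenD a g)
    exact ⟨g * m, hfix, m⁻¹, D.inv_mem hm, by group⟩
  -- the intersection is trivial
  have hdisj : ∀ x ∈ D, x ∈ C → x = 1 := by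
    intro x hx hxC
    refine eq_one_of_fixed_mem hcop D hDab hDinv ?_ hxC
    have hle : D ≤ Subgroup.closure {v : G | ∃ (a : A) (d : G), d ∈ D ∧ v = d⁻¹ * a • d} := by
      conv_lhs => rw [hD]
      rw [Subgroup.closure_le]
      rintro _ ⟨a, g, rfl⟩
      obtain ⟨c, hc, d, hd, rfl⟩ := hcov g
      refine Subgroup.subset_closure ⟨a, d, hd, ?_⟩
      rw [smul_mul', hc a]; group
    exact hle hx
  have hclos : Subgroup.closure (MulAction.fixedPoints A G) = C := Subgroup.closure_eq C
  have htop : D ⊔ C = ⊤ := by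
    rw [eq_top_iff]; intro g _
    obtain ⟨c, hc, d, hd, rfl⟩ := hcov g
    exact Subgroup.mul_mem _ (Subgroup.mem_sup_right hc) (Subgroup.mem_sup_left hd)
  have hcompl : Subgroup.IsComplement' C D := by
    refine Subgroup.isComplement'_of_disjoint_and_mul_eq_univ ?_ ?_
    · rw [Subgroup.disjoint_def]; exact fun hxC hxD => hdisj _ hxD hxC
    · rw [Set.eq_univ_iff_forall]
      intro g
      obtain ⟨c, hc, d, hd, rfl⟩ := hcov g
      exact Set.mul_mem_mul hc hd
  have hcop2 : (Nat.card C).Coprime (Nat.card D) := by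
    rw [Nat.coprime_iff_gcd_eq_one]
    by_contra hne
    obtain ⟨p, hp, hpd⟩ := Nat.exists_prime_and_dvd hne
    haveI := Fact.mk hp
    obtain ⟨c, hc⟩ := exists_prime_orderOf_dvd_card' p (hpd.trans (Nat.gcd_dvd_left _ _))
    obtain ⟨d, hd⟩ := exists_prime_orderOf_dvd_card' p (hpd.trans (Nat.gcd_dvd_right _ _))
    rw [← Subgroup.orderOf_coe] at hc hd
    haveI hnd : (Subgroup.zpowers (d : G)).Normal := by
      have hchar : (Subgroup.zpowers d).Characteristic := by
        rw [Subgroup.characteristic_iff_map_eq]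
        intro φ
        refine Subgroup.eq_of_le_of_card_ge ?_ (by rw [Subgroup.card_map_of_injective φ.injective])
        rw [MonoidHom.map_zpowers, Subgroup.zpowers_le]
        obtain ⟨⟨d₀, hd₀⟩, hgen⟩ := IsCyclic.exists_zpow_surjective (G := D)
        obtain ⟨j, hj⟩ := hgen ⟨(d : G), d.2⟩
        obtain ⟨k, hk⟩ := hgen (φ ⟨d₀, hd₀⟩)
        refine ⟨k, ?_⟩
        show d ^ k = φ d
        have e1 : d = (⟨d₀, hd₀⟩ : D) ^ j := hj.symm
        rw [e1, map_zpow, ← hk, ← zpow_mul, ← zpow_mul, mul_comm]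
      have := hchar
      have h2 : ((Subgroup.zpowers d).map D.subtype).Normal := inferInstance
      rwa [MonoidHom.map_zpowers] at h2
    have hpg : IsPGroup p (Subgroup.zpowers (c : G) ⊔ Subgroup.zpowers (d : G) : Subgroup G) := by
      refine (IsPGroup.of_card (p := p) (n := 1) ?_).to_sup_of_normal_right (IsPGroup.of_card (p := p) (n := 1) ?_) <;>
        rw [Nat.card_zpowers, pow_one]
      · exact hc
      · exact hd
    obtain ⟨P, hP⟩ := hpg.exists_le_sylow
    haveI hPc := hcyc p P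
    have hcP : (c : G) ∈ (P : Subgroup G) := hP (Subgroup.mem_sup_left (Subgroup.mem_zpowers _))
    have hdP : (d : G) ∈ (P : Subgroup G) := hP (Subgroup.mem_sup_right (Subgroup.mem_zpowers _))
    have hzle : Subgroup.zpowers (c : G) = Subgroup.zpowers (d : G) := by
      have h1 : Subgroup.zpowers (⟨(c : G), hcP⟩ : (P : Subgroup G)) = Subgroup.zpowers (⟨(d : G), hdP⟩ : (P : Subgroup G)) := by
        haveI := hPc
        refine eq_zpowers_of_card (p := p) ?_ ?_ <;> rw [Subgroup.orderOf_mk]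
        · exact hc
        · exact hd
      have := congrArg (Subgroup.map (P : Subgroup G).subtype) h1
      rwa [MonoidHom.map_zpowers, MonoidHom.map_zpowers] at this
    have hcD : (c : G) ∈ D := by
      have := Subgroup.mem_zpowers (c : G)
      rw [hzle] at this
      exact (Subgroup.zpowers_le.mpr d.2) this
    rw [hdisj _ hcD c.2, orderOf_one] at hc
    exact hp.ne_one hc.symm
  refine ⟨?_, hDc, hDn, ?_, ?_⟩
  · show (Nat.card C).Coprime (Nat.card G / Nat.card C)
    rw [← hcompl.card_mul_card, Nat.mul_div_cancel_left _ Nat.card_pos]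
    exact hcop2
  · refine Set.eq_singleton_iff_unique_mem.mpr ⟨⟨D.one_mem, fun a => smul_one a⟩, fun x hx => hdisj x hx.1 hx.2⟩
  · rw [hclos]; exact htop

end Cfsg.Agent.S4117
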