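import Cfsg.Statements.S4125
import Cfsg.Agent.Lib.OrbitPower.Main
import Cfsg.Agent.Lib.OrbitPower.Classes

set_option autoImplicit false
open Cfsg

namespace Cfsg.Agent.S4125

open Subgroup QBaer

universe u

variable {G : Type u} [Group G] [Finite G] {q : ℕ}

theorem index_conj (g x : G) :
    (centralizer ({g * x * g⁻¹} : Set G)).index = (centralizer ({x} : Set G)).index := by
  rw [← card_conjugatesOf, ← card_conjugatesOf,
    (isConj_iff.2 ⟨g, rfl⟩ : IsConj x (g * x * g⁻¹)).conjugatesOf_eq]

theorem qel_conj (hq : q.Prime) (g : G) {x : G} (hx : ∃ k : ℕ, orderOf x = q ^ k) :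
    ∃ k : ℕ, orderOf (g * x * g⁻¹) = q ^ k :=
  map_qel (MulAut.conj g).toMonoidHom hq hx

theorem qel_of_mem [Fact q.Prime] (Q : Sylow q G) {x : G} (hx : x ∈ (Q : Subgroup G)) :
    ∃ k : ℕ, orderOf x = q ^ k := by
  obtain ⟨k, hk⟩ := IsPGroup.iff_orderOf.1 Q.isPGroup' ⟨x, hx⟩
  exact ⟨k, by rw [← hk, Subgroup.orderOf_mk]⟩

theorem exists_conj_mem [Fact q.Prime] (Q : Sylow q G) {x : G} (hx : ∃ k : ℕ, orderOf x = q ^ k) :
    ∃ g : G, g * x * g⁻¹ ∈ (Q : Subgroup G) := by
  obtain ⟨k, hk⟩ := hx
  obtain ⟨T, hT⟩ := (IsPGroup.of_card (p := q) (G := zpowers x) (n := k)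
    (by rw [Nat.card_zpowers, hk])).exists_le_sylow
  obtain ⟨g, rfl⟩ := MulAction.exists_smul_eq G T Q
  exact ⟨g, ⟨x, hT (mem_zpowers x), rfl⟩⟩

theorem mem_or_le_of_index [Fact q.Prime] (Q : Sylow q G) [hQn : (Q : Subgroup G).Normal] {x : G}
    (hidx : ¬ q ∣ (centralizer ({x} : Set G)).index) : x ∈ centralizer ((Q : Subgroup G) : Set G) := by
  obtain ⟨T₀⟩ : Nonempty (Sylow q (centralizer ({x} : Set G))) := inferInstance
  have h : ¬ q ∣ ((T₀ : Subgroup (centralizer ({x} : Set G))).map
      (centralizer ({x} : Set G)).subtype).index := by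
    rw [Subgroup.index_map_subtype]
    exact (Fact.out : q.Prime).not_dvd_mul T₀.not_dvd_index hidx
  letI := Sylow.unique_of_normal Q hQn
  let T₁ : Sylow q G := (T₀.isPGroup'.map _).toSylow h
  intro v hv
  have : (Q : Subgroup G) ≤ centralizer ({x} : Set G) := by
    rw [Subsingleton.elim Q T₁]
    exact map_subtype_le _
  exact Subgroup.mem_centralizer_singleton_iff.1 (this hv)

theorem not_dvd_prime_pow {r a : ℕ} (hq : q.Prime) (hr : r.Prime) (hne : r ≠ q) : ¬ q ∣ r ^ a :=
  fun h => hne ((Nat.prime_dvd_prime_iff_eq hq hr).1 (hq.dvd_of_dvd_pow h)).symm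


/-- Let G be a finite group and q a prime dividing its order such that every element of q-power order has a conjugacy class of prime-power size. Then G is q-solvable of q-length 1: there are normal subgroups K ≤ L of G with K of order prime to q, L/K a q-group and L of index prime to q. Moreover there is a prime p such that every element of q-power order has a class of p-power size (one prime serving for all of them), and for a Sylow q-subgroup Q: if p = q then Q is normal with a normal complement (a direct factor), while if p ≠ q then Q is abelian, the product of Q with the largest normal p-subgroup O_p(G) is normal in G, and G/O_{q'}(G) is solvable, where O_{q'}(G) is the largest normal subgroup of order prime to q. -/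
theorem result {G : Type*} [Group G] [Finite G] (q : ℕ) [Fact q.Prime] (hq : q ∣ Nat.card G)
    (hBaer : ∀ x : G, (∃ k : ℕ, orderOf x = q ^ k) → ∃ (r : ℕ) (a : ℕ), r.Prime ∧ (Subgroup.centralizer ({x} : Set G)).index = r ^ a) (Q : Sylow q G) :
    (∃ K L : Subgroup G, K.Normal ∧ L.Normal ∧ K ≤ L ∧ (Nat.card K).Coprime q ∧ (∃ m : ℕ, K.relIndex L = q ^ m) ∧ L.index.Coprime q) ∧
    ∃ p : ℕ, p.Prime ∧ (∀ x : G, (∃ k : ℕ, orderOf x = q ^ k) → ∃ a : ℕ, (Subgroup.centralizer ({x} : Set G)).index = p ^ a) ∧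
      (p = q → (Q : Subgroup G).Normal ∧ ∃ N : Subgroup G, N.Normal ∧ N.IsComplement' (Q : Subgroup G)) ∧
      (p ≠ q → IsMulCommutative (Q : Subgroup G) ∧ (Cfsg.pCore p G ⊔ (Q : Subgroup G)).Normal ∧
        ∀ _h : (Cfsg.pPrimeCore q G).Normal, Group.IsSolvable (G ⧸ Cfsg.pPrimeCore q G)) := by
  classical
  have hqp : q.Prime := Fact.out
  set K := Cfsg.pPrimeCore q G with hK
  set π := QuotientGroup.mk' K with hπ
  have hπs : Function.Surjective π := QuotientGroup.mk'_surjective K
  have hKco : (Nat.card K).Coprime q := Cores.coprime_card_pPrimeCore q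
  have hKQ : ∀ x ∈ K, (∃ k : ℕ, x ^ q ^ k = 1) → x = 1 := by
    rintro x hx ⟨k, hk⟩
    have h1 : orderOf x ∣ Nat.card K :=
      (Subgroup.orderOf_mk x hx).symm ▸ orderOf_dvd_natCard (⟨x, hx⟩ : K)
    have := Nat.dvd_gcd h1 (orderOf_dvd_of_pow_eq_one hk)
    rwa [(hKco.pow_right k).gcd_eq_one, Nat.dvd_one, orderOf_eq_one_iff] at this
  set Qb : Sylow q (G ⧸ K) := Q.mapSurjective hπs with hQb
  have hQbdef : (Qb : Subgroup (G ⧸ K)) = (Q : Subgroup G).map π := rfl
  have hQbO : (Qb : Subgroup (G ⧸ K)) = Cfsg.pCore q (G ⧸ K) := by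
    refine le_antisymm ?_ (Cores.pCore_le_sylow Qb)
    rintro _ ⟨x, hx, rfl⟩
    obtain ⟨r, a, hr, ha⟩ := hBaer x (qel_of_mem Q hx)
    exact image_mem_pCore (qel_of_mem Q hx) hr ha
  haveI hQbn : (Qb : Subgroup (G ⧸ K)).Normal := by rw [hQbO]; infer_instance
  -- two elements of `Q` commute if their images do
  have hcommQ : ∀ {x v : G}, x ∈ (Q : Subgroup G) → v ∈ (Q : Subgroup G) →
      π x * π v = π v * π x → x * v = v * x := by
    intro x v hx hv he
    have hmem : x * v * x⁻¹ * v⁻¹ ∈ K := (QuotientGroup.eq_one_iff _).1 (by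
      show π (x * v * x⁻¹ * v⁻¹) = 1
      rw [map_mul, map_mul, map_mul, map_inv, map_inv, he]; group)
    obtain ⟨k, hk⟩ := Q.isPGroup' ⟨_, mul_mem (mul_mem (mul_mem hx hv) (inv_mem hx)) (inv_mem hv)⟩
    have h1 := hKQ _ hmem ⟨k, by simpa using congrArg Subtype.val hk⟩
    exact mul_inv_eq_iff_eq_mul.1 (mul_inv_eq_one.1 h1)
  have himg : ∀ x : G, ∀ r a : ℕ, r.Prime → r ≠ q → (∃ k : ℕ, orderOf x = q ^ k) →
      (centralizer ({x} : Set G)).index = r ^ a →
        π x ∈ (Qb : Subgroup (G ⧸ K)) ∧ π x ∈ centralizer ((Qb : Subgroup (G ⧸ K)) : Set (G ⧸ K)) := by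
    intro x r a hr hne hx ha
    refine ⟨hQbO ▸ image_mem_pCore hx hr ha, mem_or_le_of_index Qb fun h => ?_⟩
    exact not_dvd_prime_pow hqp hr hne ((ha ▸ h.trans (dvd_index_map π hπs x) : q ∣ r ^ a))
  -- no two primes
  have hmixed : ∀ (x y : G) (r s a b : ℕ), r.Prime → s.Prime → r ≠ q → r ≠ s → a ≠ 0 → b ≠ 0 →
      (∃ k : ℕ, orderOf x = q ^ k) → (∃ k : ℕ, orderOf y = q ^ k) →
      (centralizer ({x} : Set G)).index = r ^ a → (centralizer ({y} : Set G)).index = s ^ b → False := by
    intro x y₀ r s a b hr hs hrq hrs ha0 hb0 hx hy₀ hxi hy₀i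
    haveI : Fact r.Prime := ⟨hr⟩
    haveI : Fact s.Prime := ⟨hs⟩
    obtain ⟨T₀⟩ : Nonempty (Sylow q (centralizer ({x} : Set G))) := inferInstance
    have hidx : ¬ q ∣ ((T₀ : Subgroup (centralizer ({x} : Set G))).map
        (centralizer ({x} : Set G)).subtype).index := by
      rw [Subgroup.index_map_subtype, hxi]
      exact hqp.not_dvd_mul T₀.not_dvd_index (not_dvd_prime_pow hqp hr hrq)
    obtain ⟨g₀, hg₀⟩ := exists_conj_mem ((T₀.isPGroup'.map _).toSylow hidx) hy₀
    set y := g₀ * y₀ * g₀⁻¹ with hydef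
    have hyi : (centralizer ({y} : Set G)).index = s ^ b := by rw [hydef, index_conj, hy₀i]
    have hy : ∃ k : ℕ, orderOf y = q ^ k := qel_conj hqp g₀ hy₀
    have hxy : Commute x y :=
      (Subgroup.mem_centralizer_singleton_iff.1 (map_subtype_le _ hg₀)).symm
    have hco : ((centralizer ({x} : Set G)).index).Coprime (centralizer ({y} : Set G)).index := by
      rw [hxi, hyi]; exact ((Nat.coprime_primes hr hs).2 hrs).pow a b
    have hz : ∃ k : ℕ, orderOf (x * y) = q ^ k := by
      obtain ⟨i, hi⟩ := hx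
      obtain ⟨j, hj⟩ := hy
      have hd : orderOf (x * y) ∣ q ^ (i + j) := by
        rw [pow_add, ← hi, ← hj]; exact hxy.orderOf_mul_dvd_mul_orderOf
      obtain ⟨k, -, hk⟩ := (Nat.dvd_prime_pow hqp).1 hd
      exact ⟨k, hk⟩
    obtain ⟨t, c, ht, htc⟩ := hBaer _ hz
    have hdvd : t ^ c ∣ r ^ a * s ^ b := by
      have hle : centralizer ({x} : Set G) ⊓ centralizer ({y} : Set G) ≤ centralizer ({x * y} : Set G) := by
        rintro v ⟨h1, h2⟩
        replace h1 : v * x = x * v := Subgroup.mem_centralizer_singleton_iff.1 h1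
        replace h2 : v * y = y * v := Subgroup.mem_centralizer_singleton_iff.1 h2
        rw [Subgroup.mem_centralizer_singleton_iff]
        exact ((show Commute v x from h1).mul_right (show Commute v y from h2)).eq
      have h := Subgroup.index_dvd_of_le hle
      rw [htc] at h
      refine h.trans (Eq.dvd ?_)
      rw [← hxi, ← hyi]
      refine le_antisymm Subgroup.index_inf_le (Nat.le_of_dvd ?_ ?_)
      · exact Nat.pos_of_ne_zero Subgroup.index_ne_zero_of_finite
      · exact hco.mul_dvd_of_dvd_of_dvd (index_dvd_of_le inf_le_left) (index_dvd_of_le inf_le_right)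
    have hsplit : (centralizer ({x * y} : Set G)).index ∣ r ^ a ∨
        (centralizer ({y * x} : Set G)).index ∣ s ^ b := by
      rw [← hxy.eq, htc]
      rcases eq_or_ne t r with rfl | htr
      · exact Or.inl ((((Nat.coprime_primes ht hs).2 hrs).pow c b).dvd_of_dvd_mul_right hdvd)
      · exact Or.inr ((((Nat.coprime_primes ht hr).2 htr).pow c a).dvd_of_dvd_mul_left hdvd)
    rcases hsplit with h | h
    · obtain ⟨W, hWn, hW, hmem⟩ := exists_normal_pGroup hxi hco h
      have hyW := Kazarin.commute_normal_pGroup hs hr hrs hyi hW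
      have hall : centralizer ({y} : Set G) = ⊤ := eq_top_iff.2 fun g _ =>
        Subgroup.mem_centralizer_singleton_iff.2
          (mul_inv_eq_iff_eq_mul.1 (mul_inv_eq_one.1 (eq_one_of_mem_pGroup hrq hy hW hyW (hmem g))))
      rw [hall, index_top] at hyi
      exact hs.one_lt.ne' ((Nat.pow_eq_one.1 hyi.symm).resolve_right hb0)
    · obtain ⟨W, hWn, hW, hmem⟩ := exists_normal_pGroup hyi hco.symm h
      have hall : centralizer ({x} : Set G) = ⊤ := by
        refine eq_top_iff.2 fun g _ => Subgroup.mem_centralizer_singleton_iff.2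
          (mul_inv_eq_iff_eq_mul.1 (mul_inv_eq_one.1 ?_))
        rcases eq_or_ne s q with rfl | hsq
        · obtain ⟨hxQ, hxC⟩ := himg x r a hr hrq hx hxi
          obtain ⟨g₁, hg₁⟩ := exists_conj_mem Q hy₀
          set y₁ := g₁ * y₀ * g₁⁻¹
          have hy₁i : (centralizer ({y₁} : Set G)).index = s ^ b := by rw [index_conj, hy₀i]
          have hy₁C : π y₁ ∉ centralizer ((Qb : Subgroup (G ⧸ K)) : Set (G ⧸ K)) := by
            intro hc
            have hle : (Q : Subgroup G) ≤ centralizer ({y₁} : Set G) := fun v hv =>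
              Subgroup.mem_centralizer_singleton_iff.2
                (hcommQ hv hg₁ (hc (π v) (hQbdef ▸ mem_map_of_mem π hv)))
            have := Subgroup.index_dvd_of_le hle
            rw [hy₁i] at this
            exact Q.not_dvd_index ((dvd_pow_self s hb0).trans this)
          have htop := mem_center_of_normal_sylow Qb (fun w hw => by
            obtain ⟨v, hv, rfl⟩ := hQbdef ▸ hw
            obtain ⟨r', k', hr', hk'⟩ := hBaer v (qel_of_mem Q hv)
            obtain ⟨j, -, hj⟩ := (Nat.dvd_prime_pow hr').1 (hk' ▸ dvd_index_map π hπs v)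
            exact ⟨r', j, hr', hj⟩) (hQbdef ▸ mem_map_of_mem π hg₁) hy₁C hxQ hxC
          have he : π g * π x = π x * π g :=
            Subgroup.mem_centralizer_singleton_iff.1 (htop ▸ mem_top (π g))
          have hmK : g * x * g⁻¹ * x⁻¹ ∈ K := (QuotientGroup.eq_one_iff _).1 (by
            show π (g * x * g⁻¹ * x⁻¹) = 1
            rw [map_mul, map_mul, map_mul, map_inv, map_inv, he]; group)
          obtain ⟨k, hk⟩ := hW ⟨_, hmem g⟩
          exact hKQ _ hmK ⟨k, by simpa using congrArg Subtype.val hk⟩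
        · exact eq_one_of_mem_pGroup hsq hx hW
            (Kazarin.commute_normal_pGroup hr hs hrs.symm hxi hW) (hmem g)
      rw [hall, index_top] at hxi
      exact hr.one_lt.ne' ((Nat.pow_eq_one.1 hxi.symm).resolve_right ha0)
  obtain ⟨p, hp, hall⟩ : ∃ p : ℕ, p.Prime ∧ ∀ x : G, (∃ k : ℕ, orderOf x = q ^ k) →
      ∃ a : ℕ, (centralizer ({x} : Set G)).index = p ^ a := by
    by_cases hnc : ∀ x : G, (∃ k : ℕ, orderOf x = q ^ k) → (centralizer ({x} : Set G)).index = 1
    · exact ⟨q, hqp, fun x hx => ⟨0, hnc x hx⟩⟩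
    push Not at hnc
    obtain ⟨x, hx, hx1⟩ := hnc
    obtain ⟨r, a, hr, ha⟩ := hBaer x hx
    refine ⟨r, hr, fun y hy => ?_⟩
    obtain ⟨s, b, hs, hb⟩ := hBaer y hy
    rcases eq_or_ne b 0 with rfl | hb0
    · exact ⟨0, by rw [hb, pow_zero, pow_zero]⟩
    rcases eq_or_ne r s with rfl | hrs
    · exact ⟨b, hb⟩
    have ha0 : a ≠ 0 := fun h => hx1 (by rw [ha, h, pow_zero])
    rcases eq_or_ne r q with rfl | hrq
    · exact (hmixed y x s r b a hs hr hrs.symm hrs.symm hb0 ha0 hy hx hb ha).elim
    · exact (hmixed x y r s a b hr hs hrq hrs ha0 hb0 hx hy ha hb).elim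
  refine ⟨⟨K, (Cfsg.pCore q (G ⧸ K)).comap π, inferInstance, inferInstance, ?_, hKco, ?_, ?_⟩,
    p, hp, hall, ?_, ?_⟩
  · intro k hk
    show π k ∈ Cfsg.pCore q (G ⧸ K)
    rw [show π k = 1 from (QuotientGroup.eq_one_iff k).2 hk]; exact one_mem _
  · obtain ⟨m, hm⟩ := IsPGroup.iff_card.1 (Cores.isPGroup_pCore q (G ⧸ K))
    refine ⟨m, ?_⟩
    have e : K = (⊥ : Subgroup (G ⧸ K)).comap π := by rw [MonoidHom.comap_bot, QuotientGroup.ker_mk']
    refine (congrArg (fun X : Subgroup G => X.relIndex ((Cfsg.pCore q (G ⧸ K)).comap π)) e).trans ?_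
    show ((⊥ : Subgroup (G ⧸ K)).comap π).relIndex ((Cfsg.pCore q (G ⧸ K)).comap π) = _
    rw [relIndex_comap, map_comap_eq_self_of_surjective hπs, relIndex_bot_left, hm]
  · rw [index_comap_of_surjective _ hπs, ← hQbO]
    exact (hqp.coprime_iff_not_dvd.2 Qb.not_dvd_index).symm
  · intro hpq
    subst hpq
    have hQn : (Q : Subgroup G).Normal := by
      have : (Q : Subgroup G) = Cfsg.pCore p G := by
        refine le_antisymm (fun x hx => ?_) (Cores.pCore_le_sylow Q)
        obtain ⟨a, ha⟩ := hall x (qel_of_mem Q hx)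
        exact mem_pCore_self (qel_of_mem Q hx) ha
      rw [this]; infer_instance
    refine ⟨hQn, ?_⟩
    obtain ⟨H, hH⟩ := Subgroup.exists_left_complement'_of_coprime (N := (Q : Subgroup G)) Q.card_coprime_index
    have hHC : H ≤ centralizer ((Q : Subgroup G) : Set G) := by
      intro h hh
      rw [← QuotientGroup.eq_one_iff, ← orderOf_eq_one_iff]
      by_contra hne
      obtain ⟨u, hu, hd⟩ := Nat.exists_prime_and_dvd hne
      haveI : Fact u.Prime := ⟨hu⟩
      have huH : u ∣ Nat.card H := (hd.trans (orderOf_map_dvd (QuotientGroup.mk' _) h)).trans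
        ((Subgroup.orderOf_mk h hh).symm ▸ orderOf_dvd_natCard (⟨h, hh⟩ : H))
      have hux : u ≠ p := fun e => Q.not_dvd_index (by rwa [hH.index_eq_card, ← e])
      obtain ⟨T⟩ : Nonempty (Sylow u G) := inferInstance
      exact T.not_dvd_index ((hd.trans (orderOf_dvd_natCard _)).trans (index_dvd_of_le
        (commute_sylow_of_classes Q (fun w hw => hall w (qel_of_mem Q hw)) hQn hux T)))
    refine ⟨H, normalizer_eq_top_iff.1 (top_le_iff.1 (hH.sup_eq_top ▸ sup_le le_normalizer ?_)), hH⟩
    intro v hv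
    rw [Subgroup.mem_normalizer_iff]
    intro h
    constructor
    · intro hh
      have e := hHC hh v hv
      rwa [show v * h * v⁻¹ = h by rw [e, mul_inv_cancel_right]]
    · intro hh
      have e := hHC hh v hv
      have : v * h * v⁻¹ = h := by
        have e' : v * (v * h * v⁻¹) * v⁻¹ = v * h * v⁻¹ := by rw [e, mul_inv_cancel_right]
        exact mul_left_cancel (mul_right_cancel e')
      rwa [this] at hh
  · intro hpq
    have hab : ∀ x ∈ (Qb : Subgroup (G ⧸ K)), ∀ w ∈ (Qb : Subgroup (G ⧸ K)), x * w = w * x := by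
      rintro _ ⟨x, hx, rfl⟩ w hw
      obtain ⟨a, ha⟩ := hall x (qel_of_mem Q hx)
      exact ((himg x p a hp hpq (qel_of_mem Q hx) ha).2 w hw).symm
    refine ⟨⟨⟨fun x v => Subtype.ext (hcommQ x.2 v.2
      (hab _ (hQbdef ▸ mem_map_of_mem π x.2) _ (hQbdef ▸ mem_map_of_mem π v.2)))⟩⟩, ?_, ?_⟩
    · set π' := QuotientGroup.mk' (Cfsg.pCore p G)
      have hπ' : Function.Surjective π' := QuotientGroup.mk'_surjective _
      have he : (Q : Subgroup G).map π' = Cfsg.pCore q (G ⧸ Cfsg.pCore p G) := by
        refine le_antisymm ?_ (Cores.pCore_le_sylow (Q.mapSurjective hπ'))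
        rintro _ ⟨x, hx, rfl⟩
        obtain ⟨a, ha⟩ := hall x (qel_of_mem Q hx)
        refine mem_pCore_of_commute_conj (map_qel π' hqp (qel_of_mem Q hx)) fun g h => ?_
        obtain ⟨g, rfl⟩ := hπ' g
        obtain ⟨h, rfl⟩ := hπ' h
        rw [← commutatorElement_eq_one_iff_commute, ← map_inv, ← map_inv, ← map_mul, ← map_mul,
          ← map_mul, ← map_mul, ← map_commutatorElement]
        exact (QuotientGroup.eq_one_iff _).2 (Kazarin.commutator_mem_pCore hp ha g h)
      have : Cfsg.pCore p G ⊔ (Q : Subgroup G) = (Cfsg.pCore q (G ⧸ Cfsg.pCore p G)).comap π' := by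
        rw [← he, comap_map_eq, QuotientGroup.ker_mk', sup_comm]
      rw [this]; infer_instance
    · intro _h
      set N := (Qb : Subgroup (G ⧸ K)) with hN
      haveI : IsMulCommutative N := ⟨⟨fun x w => Subtype.ext (hab x x.2 w w.2)⟩⟩
      letI : CommGroup N := { (inferInstance : Group N) with mul_comm := fun x w => Subtype.ext (hab x x.2 w w.2) }
      let f : G ⧸ K →* MulAut N := MulAut.conjNormal
      have hker : f.ker ≤ N := by
        obtain ⟨H, hH⟩ := Subgroup.exists_left_complement'_of_coprime (N := N) Qb.card_coprime_index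
        set M := H ⊓ centralizer (N : Set (G ⧸ K)) with hM
        have hMn : M.Normal := by
          refine normalizer_eq_top_iff.1 (top_le_iff.1 (hH.sup_eq_top ▸ sup_le ?_ ?_))
          · intro h hh
            rw [Subgroup.mem_normalizer_iff]
            intro m
            simp only [hM, mem_inf]
            rw [Subgroup.mul_mem_cancel_right _ (inv_mem hh), Subgroup.mul_mem_cancel_left _ hh,
              (inferInstance : (centralizer (N : Set (G ⧸ K))).Normal).mem_comm_iff,
              inv_mul_cancel_left]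
          · intro v hv
            rw [Subgroup.mem_normalizer_iff]
            intro m
            constructor
            · intro hm
              rwa [show v * m * v⁻¹ = m by rw [hm.2 v hv, mul_inv_cancel_right]]
            · intro hm
              have e := hm.2 v hv
              have : v * m * v⁻¹ = m := by
                have e' : v * (v * m * v⁻¹) * v⁻¹ = v * m * v⁻¹ := by rw [e, mul_inv_cancel_right]
                exact mul_left_cancel (mul_right_cancel e')
              rwa [this] at hm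
        have hMb : M = ⊥ := le_bot_iff.1 (by
          rw [← Cores.pPrimeCore_quotient_self (G := G) q]
          refine Cores.le_pPrimeCore hMn ?_
          have := hH.index_eq_card
          exact ((hqp.coprime_iff_not_dvd.2 Qb.not_dvd_index).symm).coprime_dvd_left
            ((card_dvd_of_le inf_le_left).trans this.symm.dvd))
        intro c hc
        have hcC : c ∈ centralizer (N : Set (G ⧸ K)) := fun v hv => by
          have := congrArg Subtype.val (DFunLike.congr_fun (MonoidHom.mem_ker.1 hc) ⟨v, hv⟩)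
          rw [MulAut.conjNormal_apply, MulAut.one_apply] at this
          exact (mul_inv_eq_iff_eq_mul.1 this).symm
        obtain ⟨⟨h, n⟩, rfl⟩ := hH.2 c
        have hn : (n : G ⧸ K) ∈ centralizer (N : Set (G ⧸ K)) := fun v hv => hab v hv n n.2
        have : (h : G ⧸ K) ∈ M := ⟨h.2, by
          have h' := mul_mem hcC (inv_mem hn)
          rwa [mul_inv_cancel_right] at h'⟩
        rw [hMb, mem_bot] at this
        show (h : G ⧸ K) * n ∈ N
        rw [this, one_mul]; exact n.2
      have hNk : N ≤ f.ker := fun v hv => MonoidHom.mem_ker.2 (MulEquiv.ext fun w => Subtype.ext (by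
        rw [MulAut.conjNormal_apply, MulAut.one_apply, hab v hv w w.2, mul_inv_cancel_right]))
      haveI : Group.IsSolvable f.range := OrbitPower.isSolvable_of_orbits (φ := f.range.subtype) hp hqp
        Subtype.val_injective (fun h => Qb.not_dvd_index ((h.trans (index_ker f ▸ dvd_rfl)).trans
          (index_dvd_of_le hNk))) Qb.isPGroup' (fun v => by
          obtain ⟨x, hx, hxv⟩ := (hQbdef ▸ v.2 : (v : G ⧸ K) ∈ (Q : Subgroup G).map π)
          obtain ⟨a, ha⟩ := hall x (qel_of_mem Q hx)
          have h1 : (OrbitPower.stab f.range.subtype v).index ∣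
              (centralizer ({(v : G ⧸ K)} : Set (G ⧸ K))).index := by
            refine dvd_trans (index_dvd_of_le ?_) ((centralizer ({(v : G ⧸ K)} : Set (G ⧸ K))).index_map_dvd
              f.rangeRestrict_surjective)
            rintro _ ⟨c, hc, rfl⟩
            refine Subtype.ext ?_
            show c * (v : G ⧸ K) * c⁻¹ = v
            rw [Subgroup.mem_centralizer_singleton_iff.1 hc, mul_inv_cancel_right]
          obtain ⟨j, -, hj⟩ := (Nat.dvd_prime_pow hp).1
            (h1.trans (ha ▸ hxv ▸ dvd_index_map π hπs x : _ ∣ p ^ a))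
          exact ⟨j, hj⟩)
      exact Group.isSolvable_of_ker_le_range N.subtype f.rangeRestrict
        (by rw [MonoidHom.ker_rangeRestrict, range_subtype]; exact hker)

end Cfsg.Agent.S4125
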