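import Cfsg.Statements.S4126
import Cfsg.Agent.Lib.ClassIndex.Basic
import Cfsg.Agent.Lib.ClassIndex.SmallOrder
import Cfsg.Agent.Lib.Solvable.Maximal
import Cfsg.Agent.Lib.Transfer.Alperin

set_option autoImplicit false
open Cfsg
open scoped commutatorElement Pointwise

namespace Cfsg.Agent.S4126

/-- Let G be a finite group and p a prime. Suppose every element of order p, and when p = 2 also every element of order 4, has a conjugacy class of p-power size. Then G has a normal p-complement. -/
theorem result {G : Type*} [Group G] [Finite G] (p : ℕ) [Fact p.Prime]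
    (h : ∀ x : G, (orderOf x = p ∨ (p = 2 ∧ orderOf x = 4)) → ∃ a : ℕ, (Subgroup.centralizer ({x} : Set G)).index = p ^ a) :
    Cfsg.HasNormalPComplement p G := by
  classical
  have hp : p.Prime := Fact.out
  obtain ⟨P⟩ : Nonempty (Sylow p G) := inferInstance
  -- the hypothesis for small elements
  have hidx : ∀ x : G, ClassIndex.IsSmall p x → ∃ a : ℕ, (Subgroup.centralizer ({x} : Set G)).index = p ^ a := by
    intro x hx
    by_cases hx1 : x = 1
    · refine ⟨0, ?_⟩
      rw [pow_zero, Subgroup.index_eq_one, eq_top_iff]
      intro g _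
      rw [ClassIndex.mem_cent, hx1]; simp
    rcases hx with hx | ⟨rfl, hx⟩
    · exact h x (Or.inl ((Nat.dvd_prime hp).mp (orderOf_dvd_of_pow_eq_one hx) |>.resolve_left
        (fun h0 => hx1 (orderOf_eq_one_iff.mp h0))))
    · obtain ⟨i, hi, hio⟩ := (Nat.dvd_prime_pow hp).mp (show orderOf x ∣ 2 ^ 2 from orderOf_dvd_of_pow_eq_one hx)
      interval_cases i
      · exact absurd (orderOf_eq_one_iff.mp (by simpa using hio)) hx1
      · exact h x (Or.inl (by simpa using hio))
      · exact h x (Or.inr ⟨rfl, by simpa using hio⟩)
  have hfact : ∀ x : G, ClassIndex.IsSmall p x → ∀ g : G, ∃ q ∈ (P : Subgroup G), g * x * g⁻¹ = q * x * q⁻¹ := by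
    intro x hx g
    obtain ⟨a, ha⟩ := hidx x hx
    have hcop : (Subgroup.centralizer ({x} : Set G)).index.Coprime (P : Subgroup G).index := by
      rw [ha]
      exact ((hp.coprime_iff_not_dvd).mpr P.not_dvd_index).pow_left a
    obtain ⟨q, hq, c, hc, hqc⟩ := Solvable.exists_mul_of_coprime_index hcop g
    refine ⟨q, hq, ?_⟩
    have hc' := ClassIndex.mem_cent.mp hc
    rw [hqc]
    calc q * c * x * (q * c)⁻¹ = q * (c * x) * c⁻¹ * q⁻¹ := by group
      _ = q * x * q⁻¹ := by rw [hc']; group
  have hconjsmall : ∀ x g : G, ClassIndex.IsSmall p x → ClassIndex.IsSmall p (g * x * g⁻¹) := by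
    intro x g hx
    rcases hx with hx | ⟨h2, hx⟩
    · left; rw [conj_pow, hx, mul_one, mul_inv_cancel]
    · right; exact ⟨h2, by rw [conj_pow, hx, mul_one, mul_inv_cancel]⟩
  -- p'-elements centralize small elements of normal p-subgroups, by induction
  have key : ∀ D : Subgroup G, D.Normal → IsPGroup p D → ∀ y : G, Nat.Coprime (orderOf y) p →
      ∀ x ∈ D, ClassIndex.IsSmall p x → Commute y x := by
    intro D
    induction hn : Nat.card D using Nat.strong_induction_on generalizing D with
    | _ n ih =>
      subst hn
      intro hDn hDp y hy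
      haveI := hDn
      have hDP : D ≤ (P : Subgroup G) := by
        obtain ⟨Q, hQ⟩ := hDp.exists_le_sylow
        obtain ⟨g, hg⟩ := MulAction.exists_smul_eq G Q P
        intro x hx
        rw [← hg, Sylow.coe_subgroup_smul, Subgroup.mem_pointwise_smul_iff_inv_smul_mem]
        exact hQ (by simpa [MulAut.smul_def] using hDn.conj_mem x hx g⁻¹)
      set E := Subgroup.closure {x : G | x ∈ D ∧ ClassIndex.IsSmall p x} with hE
      have hED : E ≤ D := (Subgroup.closure_le D).mpr fun x hx => hx.1
      have hEinv : ∀ g : G, ∀ e ∈ E, g * e * g⁻¹ ∈ E := by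
        intro g e he
        rw [hE] at he
        induction he using Subgroup.closure_induction with
        | mem x hx => exact Subgroup.subset_closure ⟨hDn.conj_mem x hx.1 g, hconjsmall x g hx.2⟩
        | one => simp
        | mul a b _ _ ha hb =>
          have : g * (a * b) * g⁻¹ = (g * a * g⁻¹) * (g * b * g⁻¹) := by group
          rw [this]; exact E.mul_mem ha hb
        | inv a _ ha =>
          have : g * a⁻¹ * g⁻¹ = (g * a * g⁻¹)⁻¹ := by group
          rw [this]; exact E.inv_mem ha
      haveI hEn : E.Normal := ⟨fun e he g => hEinv g e he⟩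
      set E' := ⁅(⊤ : Subgroup G), E⁆ with hE'
      haveI : E'.Normal := inferInstance
      have hE'le : E' ≤ E := Subgroup.commutator_le_right _ _
      -- the commutators are already those with P
      have hEP : E' ≤ ⁅(P : Subgroup G), E⁆ := by
        rw [hE', Subgroup.commutator_le]
        intro g _ e he
        have : ∀ g : G, ⁅g, e⁆ ∈ ⁅(P : Subgroup G), E⁆ := by
          rw [hE] at he
          induction he using Subgroup.closure_induction with
          | mem x hx =>
            intro g
            obtain ⟨q, hq, hqx⟩ := hfact x hx.2 g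
            have : ⁅g, x⁆ = ⁅q, x⁆ := by rw [commutatorElement_def, commutatorElement_def, hqx]
            rw [this]
            exact Subgroup.commutator_mem_commutator hq (Subgroup.subset_closure hx)
          | one => intro g; simp
          | mul a b ha _ iha ihb =>
            intro g
            have : ⁅g, a * b⁆ = ⁅g, a⁆ * (a * ⁅g, b⁆ * a⁻¹) := by simp only [commutatorElement_def]; group
            rw [this]
            refine Subgroup.mul_mem _ (iha g) ?_
            exact (Subgroup.mem_normalizer_iff.mp (Subgroup.normalizer_commutator_ge_right _ _ ha) _).mp (ihb g)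
          | inv a ha iha =>
            intro g
            have : ⁅g, a⁻¹⁆ = a⁻¹ * ⁅g, a⁆⁻¹ * a⁻¹⁻¹ := by simp only [commutatorElement_def]; group
            rw [this]
            exact (Subgroup.mem_normalizer_iff.mp (Subgroup.normalizer_commutator_ge_right _ _ (E.inv_mem ha)) _).mp
              (Subgroup.inv_mem _ (iha g))
        exact this g
      by_cases hE0 : E = ⊥
      · intro x hx hxs
        have : x ∈ E := Subgroup.subset_closure ⟨hx, hxs⟩
        rw [hE0, Subgroup.mem_bot] at this
        rw [this]; exact Commute.one_right y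
      have hlt : E' < E := by
        refine lt_of_le_of_ne hE'le fun he => hE0 ?_
        have hEP' : E ≤ (P : Subgroup G) := hED.trans hDP
        haveI : (E.subgroupOf (P : Subgroup G)).Normal := Subgroup.Normal.subgroupOf hEn _
        by_contra hne
        have hne' : E.subgroupOf (P : Subgroup G) ≠ ⊥ := fun h0 => hne (by
          rw [Subgroup.subgroupOf_eq_bot] at h0
          exact disjoint_self.mp (h0.mono_right hEP'))
        have hltP := PGroup.commutator_lt_of_ne_bot P.2 hne'
        have h2 := congrArg (Subgroup.map (P : Subgroup G).subtype) (le_antisymm hltP.le ?_)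
        · exact hltP.ne (Subgroup.map_injective (P : Subgroup G).subtype_injective h2)
        · -- E ≤ [E, P] from E = [⊤, E] ≤ [P, E]
          have h3 : ⁅E.subgroupOf (P : Subgroup G), (⊤ : Subgroup (P : Subgroup G))⁆.map (P : Subgroup G).subtype =
              ⁅(P : Subgroup G), E⁆ := by
            rw [Subgroup.map_commutator, ← MonoidHom.range_eq_map, Subgroup.range_subtype,
              Subgroup.subgroupOf_map_subtype, inf_eq_left.mpr hEP', Subgroup.commutator_comm]
          intro z hz
          have hz' : (z : G) ∈ ⁅E.subgroupOf (P : Subgroup G), (⊤ : Subgroup (P : Subgroup G))⁆.map (P : Subgroup G).subtype := by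
            rw [h3]; exact hEP (he.ge hz)
          obtain ⟨w, hw, hwz⟩ := hz'
          rwa [Subtype.ext hwz] at hw
      intro x hx hxs
      have hcard : Nat.card E' < Nat.card D := by
        refine lt_of_lt_of_le ?_ (Subgroup.card_le_of_le hED)
        rcases (Subgroup.card_le_of_le hlt.le).lt_or_eq with h | h
        · exact h
        · exact absurd (Subgroup.eq_of_le_of_card_ge hlt.le h.ge) hlt.ne
      have hE'p : IsPGroup p E' := hDp.to_le (hE'le.trans hED)
      have hcE' : ∀ z ∈ E', Commute y z :=
        ClassIndex.commute_of_commute_small hy E' hE'p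
          (by rw [Subgroup.normalizer_eq_top_iff.mpr inferInstance]; trivial)
          (fun z hz hzs => ih (Nat.card E') hcard E' rfl inferInstance hE'p y hy z hz hzs)
      have hxE : x ∈ E := Subgroup.subset_closure ⟨hx, hxs⟩
      have hu : x⁻¹ * (y * x * y⁻¹) ∈ E' := by
        have h1 : ⁅y, x⁆ ∈ E' := Subgroup.commutator_mem_commutator (Subgroup.mem_top y) hxE
        have : x⁻¹ * (y * x * y⁻¹) = x⁻¹ * ⁅y, x⁆ * x⁻¹⁻¹ := by rw [commutatorElement_def]; group
        rw [this]
        exact (inferInstance : E'.Normal).conj_mem _ h1 _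
      exact ClassIndex.commute_of_disp_commute hy hE'p hu (hcE' _ hu)
  -- every small p-element lies in a normal p-subgroup
  have hall : ∀ y : G, Nat.Coprime (orderOf y) p → ∀ x ∈ (P : Subgroup G), ClassIndex.IsSmall p x → Commute y x := by
    intro y hy x hxP hxs
    refine key (Subgroup.normalClosure ({x} : Set G)) Subgroup.normalClosure_normal ?_ y hy x
      (Subgroup.subset_normalClosure rfl) hxs
    refine P.2.to_le ?_
    rw [Subgroup.normalClosure, Subgroup.closure_le]
    intro z hz
    obtain ⟨w, hw, hwz⟩ := Group.mem_conjugatesOfSet_iff.mp hz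
    rw [Set.mem_singleton_iff.mp hw] at hwz
    obtain ⟨g, rfl⟩ := isConj_iff.mp hwz
    obtain ⟨q, hq, hqx⟩ := hfact x hxs g
    rw [hqx]
    exact Subgroup.mul_mem _ (Subgroup.mul_mem _ hq hxP) (Subgroup.inv_mem _ hq)
  refine Transfer.hasNormalPComplement_of_local P ?_
  intro R hR _ n hn hnp z hz
  have hRp : IsPGroup p R := P.2.to_le hR.1
  exact (ClassIndex.commute_of_commute_small hnp R hRp hn (fun x hx hxs => hall n hnp x (hR.1 hx) hxs) z hz).symm

end Cfsg.Agent.S4126
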