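import Cfsg.Statements.S4127
import Cfsg.Agent.Lib.ClassIndex.Basic
import Cfsg.Agent.Lib.ClassIndex.PxQ
import Cfsg.Agent.Lib.Transfer.Residual
import Cfsg.Agent.Lib.Solvable.Maximal

set_option autoImplicit false
open Cfsg
open scoped Pointwise

namespace Cfsg.Agent.S4127

theorem exists_mul_index {G : Type*} [Group G] [Finite G] {H K : Subgroup G}
    (h : H.index.Coprime K.index) (g : G) : ∃ k ∈ K, ∃ x ∈ H, g = k * x :=
  Solvable.exists_mul_of_coprime_index h g

section
variable {C : Type*} [Group C] [Finite C] {p : ℕ} [Fact p.Prime]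

/-- If every element of order prime to `p` centralizes some Sylow `p`-subgroup, then the Sylow
subgroup is normal and centralized by all these elements. -/
theorem sylow_normal_of_forall (h : ∀ y : C, ¬ p ∣ orderOf y →
      ∃ S : Sylow p C, (S : Subgroup C) ≤ Subgroup.centralizer ({y} : Set C)) (S : Sylow p C) :
    (S : Subgroup C).Normal ∧ ∀ y : C, ¬ p ∣ orderOf y → ∀ s ∈ (S : Subgroup C), Commute s y := by
  have hp : p.Prime := Fact.out
  set L := (S : Subgroup C) ⊔ Subgroup.centralizer ((S : Subgroup C) : Set C) with hL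
  have hcover : ∀ z : C, ∃ g : C, g⁻¹ * z * g ∈ L := by
    intro z
    obtain ⟨u, y, huy, ⟨i, hi⟩, ⟨j, hj⟩, ⟨k, hk⟩, hy⟩ := Transfer.exists_pPart_mul (p := p) z
    obtain ⟨Q, hQ⟩ := h y (fun hd => hp.not_dvd_one (hy ▸ Nat.dvd_gcd hd dvd_rfl))
    -- a Sylow subgroup containing u, centralized by y
    have hu : u ∈ Subgroup.centralizer ({y} : Set C) := by
      rw [ClassIndex.mem_cent, ← hi, ← hj]
      exact (Commute.zpow_zpow (Commute.refl z) i j).eq
    set D := Subgroup.centralizer ({y} : Set C)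
    let u' : D := ⟨u, hu⟩
    obtain ⟨R, hR⟩ := (IsPGroup.of_card (p := p) (n := k) (G := Subgroup.zpowers u') (by
      rw [Nat.card_zpowers, ← Subgroup.orderOf_coe u', hk])).exists_le_sylow
    have hRcard : Nat.card ((R : Subgroup D).map D.subtype) = p ^ (Nat.card C).factorization p := by
      rw [Subgroup.card_map_of_injective D.subtype_injective, R.card_eq_multiplicity]
      congr 1
      refine le_antisymm ?_ ?_
      · exact (Nat.factorization_le_iff_dvd Nat.card_pos.ne' Nat.card_pos.ne').mpr (Subgroup.card_subgroup_dvd_card D) p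
      · rw [← hp.pow_dvd_iff_le_factorization Nat.card_pos.ne', ← Q.card_eq_multiplicity]
        exact Subgroup.card_dvd_of_le hQ
    obtain ⟨g, hg⟩ := MulAction.exists_smul_eq C S (Sylow.ofCard _ hRcard)
    have hg' : MulAut.conj g • (S : Subgroup C) = (R : Subgroup D).map D.subtype := by
      rw [← Sylow.coe_subgroup_smul, hg]; rfl
    refine ⟨g, ?_⟩
    have huS : g⁻¹ * u * g ∈ (S : Subgroup C) := by
      have : u ∈ MulAut.conj g • (S : Subgroup C) := by
        rw [hg']; exact ⟨u', hR (Subgroup.mem_zpowers u'), rfl⟩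
      rw [Subgroup.mem_pointwise_smul_iff_inv_smul_mem] at this
      simpa [MulAut.smul_def, mul_assoc] using this
    have hyS : g⁻¹ * y * g ∈ Subgroup.centralizer ((S : Subgroup C) : Set C) := by
      intro s hs
      have : MulAut.conj g s ∈ D := by
        refine Subgroup.map_subtype_le (R : Subgroup D) ?_
        rw [← hg', Subgroup.mem_pointwise_smul_iff_inv_smul_mem]
        simp [MulAut.smul_def, mul_assoc]
        exact hs
      rw [ClassIndex.mem_cent, MulAut.conj_apply] at this
      calc s * (g⁻¹ * y * g) = g⁻¹ * ((g * s * g⁻¹) * y) * g := by group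
        _ = g⁻¹ * y * g * s := by rw [this]; group
    have : g⁻¹ * z * g = (g⁻¹ * u * g) * (g⁻¹ * y * g) := by rw [huy]; group
    rw [this]
    exact Subgroup.mul_mem _ (Subgroup.mem_sup_left huS) (Subgroup.mem_sup_right hyS)
  have htop : L = ⊤ := ClassIndex.eq_top_of_conj_cover hcover
  have hn : (S : Subgroup C).Normal := by
    rw [← Subgroup.normalizer_eq_top_iff, eq_top_iff, ← htop, hL]
    exact sup_le Subgroup.le_normalizer (Subgroup.centralizer_le_normalizer _)
  refine ⟨hn, fun y hy s hs => ?_⟩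
  obtain ⟨Q, hQ⟩ := h y hy
  haveI := hn
  haveI := Sylow.unique_of_normal S hn
  rw [Subsingleton.elim Q S] at hQ
  exact ClassIndex.mem_cent.mp (hQ hs)

/-- In a group with a normal Sylow subgroup centralized by all `p'`-elements, these elements
form a subgroup of order `|C|_p'`. -/
theorem exists_pPrime_subgroup (S : Sylow p C) (hn : (S : Subgroup C).Normal)
    (hc : ∀ y : C, ¬ p ∣ orderOf y → ∀ s ∈ (S : Subgroup C), Commute s y) :
    ∃ K : Subgroup C, Nat.card K * Nat.card (S : Subgroup C) = Nat.card C ∧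
      ∀ y : C, y ∈ K ↔ ¬ p ∣ orderOf y := by
  haveI := hn
  have hp : p.Prime := Fact.out
  obtain ⟨K, hK⟩ := Subgroup.exists_right_complement'_of_coprime (N := (S : Subgroup C)) S.card_coprime_index
  have hKp : ¬ p ∣ Nat.card K := by
    rw [← hK.symm.index_eq_card]; exact S.not_dvd_index
  have hKn : K.Normal := by
    rw [← Subgroup.normalizer_eq_top_iff, eq_top_iff, ← hK.sup_eq_top]
    refine sup_le (fun s hs => ?_) Subgroup.le_normalizer
    rw [Subgroup.mem_normalizer_iff]
    intro y
    have hfix : ∀ y' ∈ K, s * y' * s⁻¹ = y' := fun y' hy' => by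
      rw [(hc y' (fun hd => hKp (hd.trans (by rw [← Subgroup.orderOf_mk y' hy']; exact orderOf_dvd_natCard _))) s hs).eq,
        mul_inv_cancel_right]
    constructor
    · intro hy; rw [hfix y hy]; exact hy
    · intro hy
      have := hfix _ hy
      have h2 : s * y * s⁻¹ = y := by
        calc s * y * s⁻¹ = s⁻¹ * (s * (s * y * s⁻¹) * s⁻¹) * s := by group
          _ = y := by rw [this]; group
      rwa [h2] at hy
  refine ⟨K, by rw [mul_comm]; exact hK.card_mul_card, fun y => ⟨fun hy hd => ?_, fun hy => ?_⟩⟩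
  · exact hKp (hd.trans (by rw [← Subgroup.orderOf_mk y hy]; exact orderOf_dvd_natCard _))
  · rw [← QuotientGroup.eq_one_iff (N := K), ← orderOf_eq_one_iff]
    have h1 : orderOf (y : C ⧸ K) ∣ orderOf y := orderOf_map_dvd (QuotientGroup.mk' K) y
    have h2 : orderOf (y : C ⧸ K) ∣ Nat.card (S : Subgroup C) := by
      rw [← hK.index_eq_card, Subgroup.index_eq_card]; exact orderOf_dvd_natCard _
    obtain ⟨n, hn'⟩ := IsPGroup.iff_card.mp S.2
    rw [hn'] at h2
    obtain ⟨j, -, hj⟩ := (Nat.dvd_prime_pow hp).mp h2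
    rcases Nat.eq_zero_or_pos j with rfl | hpos
    · rw [hj, pow_zero]
    · exact absurd ((hj ▸ dvd_pow_self p hpos.ne').trans h1) hy

end

/-- Let G be a finite group, p a prime and p^a the largest power of p dividing the size of any conjugacy class of G. If some element of p-power order has a conjugacy class of size exactly p^a, then G has a normal p-complement. -/
theorem result {G : Type*} [Group G] [Finite G] (p : ℕ) [Fact p.Prime]
    (a : ℕ) (hmax : ∀ y : G, ¬ p ^ (a + 1) ∣ (Subgroup.centralizer ({y} : Set G)).index)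
    (hx : ∃ x : G, (∃ k : ℕ, orderOf x = p ^ k) ∧ (Subgroup.centralizer ({x} : Set G)).index = p ^ a) :
    Cfsg.HasNormalPComplement p G := by
  classical
  have hp : p.Prime := Fact.out
  obtain ⟨x, ⟨k, hk⟩, hidx⟩ := hx
  set C := Subgroup.centralizer ({x} : Set G) with hCdef
  have hxC : x ∈ C := ClassIndex.mem_cent.mpr rfl
  -- every p'-element of C centralizes a Sylow subgroup of C
  have hsyl : ∀ y : C, ¬ p ∣ orderOf y → ∃ S : Sylow p C, (S : Subgroup C) ≤ Subgroup.centralizer ({y} : Set C) := by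
    intro y hy
    set D := Subgroup.centralizer ({y} : Set C) with hD
    have hxy : Commute x (y : G) := (ClassIndex.mem_cent.mp y.2).symm
    have hsub : Subgroup.centralizer ({x * (y : G)} : Set G) ≤ D.map C.subtype := by
      intro g hg
      rw [ClassIndex.mem_cent] at hg
      have hyo : (orderOf (y : G)).Coprime (p ^ k) := by
        rw [Subgroup.orderOf_coe]
        exact ((hp.coprime_iff_not_dvd.mpr hy).symm).pow_right k
      obtain ⟨e, he⟩ := exists_pow_eq_self_of_coprime (x := x) (n := orderOf (y : G)) (by rw [hk]; exact hyo)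
      have hgx : Commute g x := by
        rw [← he]
        have hxpow : (x * (y : G)) ^ orderOf (y : G) = x ^ orderOf (y : G) := by
          rw [hxy.mul_pow, pow_orderOf_eq_one, mul_one]
        rw [← hxpow]
        exact (Commute.pow_right hg _).pow_right _
      have hgy : Commute g (y : G) := by
        have : Commute g (x⁻¹ * (x * (y : G))) := hgx.inv_right.mul_right hg
        rwa [inv_mul_cancel_left] at this
      exact ⟨⟨g, ClassIndex.mem_cent.mpr hgx⟩, ClassIndex.mem_cent.mpr (Subtype.ext hgy), rfl⟩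
    have hDidx : ¬ p ∣ D.index := by
      intro hd
      refine hmax (x * y) (dvd_trans ?_ (Subgroup.index_dvd_of_le hsub))
      rw [Subgroup.index_map_subtype, hidx, pow_succ']
      exact Nat.mul_dvd_mul hd dvd_rfl
    obtain ⟨S⟩ : Nonempty (Sylow p D) := inferInstance
    refine ⟨Sylow.ofCard ((S : Subgroup D).map D.subtype) ?_, Subgroup.map_subtype_le _⟩
    rw [Subgroup.card_map_of_injective D.subtype_injective, S.card_eq_multiplicity, ← Subgroup.card_mul_index D,
      Nat.factorization_mul Nat.card_pos.ne' Subgroup.index_ne_zero_of_finite, Finsupp.add_apply,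
      Nat.factorization_eq_zero_of_not_dvd hDidx, add_zero]
  obtain ⟨S⟩ : Nonempty (Sylow p C) := inferInstance
  obtain ⟨hSn, hSc⟩ := sylow_normal_of_forall hsyl S
  obtain ⟨K, hKcard, hKmem⟩ := exists_pPrime_subgroup S hSn hSc
  -- the normal p-subgroup generated by the conjugates of x
  obtain ⟨P, hP⟩ := (S.2.map C.subtype).exists_le_sylow
  have hxS : x ∈ (S : Subgroup C).map C.subtype := by
    obtain ⟨Q, hQ⟩ := (IsPGroup.of_card (p := p) (n := k) (G := Subgroup.zpowers (⟨x, hxC⟩ : C)) (by
      rw [Nat.card_zpowers, ← Subgroup.orderOf_coe (⟨x, hxC⟩ : C), hk])).exists_le_sylow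
    haveI := Sylow.unique_of_normal S hSn
    rw [Subsingleton.elim Q S] at hQ
    exact ⟨⟨x, hxC⟩, hQ (Subgroup.mem_zpowers _), rfl⟩
  have hxP : x ∈ (P : Subgroup G) := hP hxS
  have hcop : C.index.Coprime (P : Subgroup G).index := by
    rw [hidx]
    exact ((hp.coprime_iff_not_dvd).mpr P.not_dvd_index).pow_left a
  set R := Subgroup.normalClosure ({x} : Set G) with hR
  have hRP : R ≤ (P : Subgroup G) := by
    rw [hR, Subgroup.normalClosure, Subgroup.closure_le]
    intro z hz
    obtain ⟨w, hw, hwz⟩ := Group.mem_conjugatesOfSet_iff.mp hz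
    rw [Set.mem_singleton_iff] at hw
    rw [hw] at hwz
    obtain ⟨g, rfl⟩ := isConj_iff.mp hwz
    obtain ⟨q, hq, c, hc, hqc⟩ := exists_mul_index hcop g
    have hc' := ClassIndex.mem_cent.mp hc
    have : g * x * g⁻¹ = q * x * q⁻¹ := by
      rw [hqc]
      calc q * c * x * (q * c)⁻¹ = q * (c * x) * c⁻¹ * q⁻¹ := by group
        _ = q * x * q⁻¹ := by rw [hc']; group
    rw [this]
    exact Subgroup.mul_mem _ (Subgroup.mul_mem _ hq hxP) (Subgroup.inv_mem _ hq)
  have hRp : IsPGroup p R := P.2.to_le hRP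
  -- p'-elements of C centralize R
  have hyR : ∀ y : C, ¬ p ∣ orderOf y → ∀ r ∈ R, Commute r (y : G) := by
    intro y hy
    have hnorm : ∀ g : G, g ∈ Subgroup.normalizer (R : Set G) := fun g => by
      rw [Subgroup.normalizer_eq_top_iff.mpr (Subgroup.normalClosure_normal)]; trivial
    refine ClassIndex.commute_of_pxq hRp ⟨k, hk⟩ (hnorm x) (by rwa [Subgroup.orderOf_coe]) (hnorm y)
      (ClassIndex.mem_cent.mp y.2).symm ?_
    intro c hc hcx
    obtain ⟨j, hj⟩ := IsPGroup.iff_orderOf.mp hRp ⟨c, hc⟩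
    obtain ⟨Q, hQ⟩ := (IsPGroup.of_card (p := p) (n := j)
      (G := Subgroup.zpowers (⟨c, ClassIndex.mem_cent.mpr hcx⟩ : C)) (by
      rw [Nat.card_zpowers, ← Subgroup.orderOf_coe (⟨c, ClassIndex.mem_cent.mpr hcx⟩ : C)]
      rw [← Subgroup.orderOf_coe (⟨c, hc⟩ : R)] at hj
      exact hj)).exists_le_sylow
    haveI := Sylow.unique_of_normal S hSn
    rw [Subsingleton.elim Q S] at hQ
    exact congrArg Subtype.val (hSc y hy _ (hQ (Subgroup.mem_zpowers _))).eq
  have hKn : (K.map C.subtype).Normal := by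
    refine ⟨fun z hz g => ?_⟩
    obtain ⟨y, hy, rfl⟩ := hz
    have hy' : ¬ p ∣ orderOf y := (hKmem y).mp hy
    have hgx : g⁻¹ * x * g ∈ R := by
      simpa using (Subgroup.normalClosure_normal (s := ({x} : Set G))).conj_mem x (Subgroup.subset_normalClosure rfl) g⁻¹
    have hmem : g * (y : G) * g⁻¹ ∈ C := by
      rw [ClassIndex.mem_cent]
      have := (hyR y hy' _ hgx).eq
      calc g * (y : G) * g⁻¹ * x = g * ((y : G) * (g⁻¹ * x * g)) * g⁻¹ := by group
        _ = x * (g * (y : G) * g⁻¹) := by rw [← this]; group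
    refine ⟨⟨_, hmem⟩, (hKmem _).mpr ?_, rfl⟩
    rw [← Subgroup.orderOf_coe (⟨_, hmem⟩ : C)]
    show ¬ p ∣ orderOf (g * (y : G) * g⁻¹)
    rw [show g * (y : G) * g⁻¹ = MulAut.conj g (y : G) from rfl, MulEquiv.orderOf_eq, Subgroup.orderOf_coe]
    exact hy'
  refine ⟨P, K.map C.subtype, hKn, Subgroup.isComplement'_of_coprime ?_ ?_⟩
  · -- orders
    have h1 : Nat.card C * C.index = Nat.card G := Subgroup.card_mul_index C
    have h2 := Subgroup.card_mul_index (P : Subgroup G)
    have hKp : ¬ p ∣ Nat.card K := by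
      intro hd
      obtain ⟨z, hz⟩ := exists_prime_orderOf_dvd_card' p hd
      exact (hKmem z).mp z.2 (by rw [Subgroup.orderOf_coe, hz])
    obtain ⟨s, hs⟩ := IsPGroup.iff_card.mp S.2
    rw [hidx, ← hKcard, hs, mul_assoc, ← pow_add] at h1
    rw [P.card_eq_multiplicity, Subgroup.card_map_of_injective C.subtype_injective, ← h1,
      Nat.factorization_mul (fun h0 => Nat.card_pos.ne' h0) (pow_ne_zero _ hp.ne_zero), Finsupp.add_apply,
      Nat.factorization_eq_zero_of_not_dvd hKp, Nat.Prime.factorization_pow hp, Finsupp.single_eq_same, zero_add]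
  · rw [Subgroup.card_map_of_injective C.subtype_injective, P.card_eq_multiplicity]
    refine Nat.Coprime.pow_right _ ((hp.coprime_iff_not_dvd.mpr fun hd => ?_).symm)
    obtain ⟨z, hz⟩ := exists_prime_orderOf_dvd_card' p hd
    exact (hKmem z).mp z.2 (by rw [Subgroup.orderOf_coe, hz])

end Cfsg.Agent.S4127
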