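import Cfsg.Statements.S4135
import Cfsg.Agent.Lib.ClassIndex.SylowTwoSizes

set_option autoImplicit false
open Cfsg

namespace Cfsg.Agent.S4135

/-- Let G be a finite group, r a prime and R a Sylow r-subgroup of G that is not central, N a normal subgroup of G containing R, and m a natural number such that every element of N has a conjugacy class in G of size 1 or m. Then N is nilpotent. -/
theorem result {G : Type*} [Group G] [Finite G] (r : ℕ) [Fact r.Prime]
    (R : Sylow r G) (hR : ¬ (R : Subgroup G) ≤ Subgroup.center G) (N : Subgroup G) [N.Normal] (hRN : (R : Subgroup G) ≤ N)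
    (m : ℕ) (h : ∀ x ∈ N, (Subgroup.centralizer ({x} : Set G)).index = 1 ∨ (Subgroup.centralizer ({x} : Set G)).index = m) : Group.IsNilpotent N := by
  refine Agent.SylowTwoSizes.nilpotent (r := r) (m := m) ⟨inferInstance, fun R' => ?_, fun x hx hxz => ?_⟩ R hR
  · obtain ⟨g, rfl⟩ := MulAction.exists_smul_eq G R R'
    rintro - ⟨y, hy, rfl⟩
    exact (inferInstance : N.Normal).conj_mem y (hRN hy) g
  · refine (h x hx).resolve_left fun h1 => hxz (Agent.SylowTwoSizes.mem_center_iff_cent.2 ?_)
    exact Subgroup.index_eq_one.1 h1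

end Cfsg.Agent.S4135
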