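import Cfsg.Statements.S4140
import Cfsg.Agent.Lib.ClassIndex.Camina

set_option autoImplicit false
open Cfsg

namespace Cfsg.Agent.S4140

/-- Let G be a finite group and N a proper non-trivial normal subgroup such that for every g outside N the conjugacy class of g is a union of cosets of N (equivalently gn is conjugate to g for every n ∈ N). Then either every element of G outside N acts fixed-point-freely on N (C_G(x) ≤ N for all x ∈ N, x ≠ 1, so G is a Frobenius group with kernel N), or N has prime-power order, or G/N has prime-power order. -/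
theorem result {G : Type*} [Group G] [Finite G] (N : Subgroup G) [N.Normal] (hN1 : N ≠ ⊥) (hN2 : N ≠ ⊤)
    (hcam : ∀ g : G, g ∉ N → ∀ n ∈ N, ∃ x : G, x * g * x⁻¹ = g * n) :
    (∀ x ∈ N, x ≠ 1 → Subgroup.centralizer ({x} : Set G) ≤ N) ∨ IsPrimePow (Nat.card N) ∨ IsPrimePow N.index := by
  have hc : Camina.IsCam N := hcam
  by_contra hcon
  push Not at hcon
  obtain ⟨⟨x, hxN, hx1, hxle⟩, hNp, hIp⟩ := hcon
  obtain ⟨g, hgc, hgN⟩ := SetLike.not_le_iff_exists.1 hxle
  have hgx : Commute g x := Subgroup.mem_centralizer_singleton_iff.1 hgc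
  obtain ⟨p, hp, hpd⟩ := Nat.exists_prime_and_dvd
    (show orderOf (g : G ⧸ N) ≠ 1 from fun h => hgN ((QuotientGroup.eq_one_iff g).1 (orderOf_eq_one_iff.1 h)))
  have hpI : p ∣ N.index := hpd.trans (N.index_eq_card ▸ orderOf_dvd_natCard _)
  obtain ⟨k, m, hm, hgm⟩ := Nat.exists_eq_pow_mul_and_not_dvd (orderOf_pos g).ne' p hp.ne_one
  have hm0 : m ≠ 0 := fun h => hm (h ▸ dvd_zero p)
  have hk : orderOf (g ^ m) = p ^ k := by
    rw [orderOf_pow_of_dvd hm0 (hgm ▸ dvd_mul_left _ _), hgm,
      Nat.mul_div_cancel _ (Nat.pos_of_ne_zero hm0)]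
  have hgmN : g ^ m ∉ N := fun h => hm (hpd.trans (orderOf_dvd_of_pow_eq_one (by
    rw [← QuotientGroup.mk_pow]; exact (QuotientGroup.eq_one_iff _).2 h)))
  obtain ⟨i, -, hi⟩ := (Nat.dvd_prime_pow hp).1 (hk ▸ hc.orderOf_dvd_of_commute hgmN hxN (hgx.pow_left m))
  have hpN : p ∣ Nat.card N := by
    rcases Nat.eq_zero_or_pos i with rfl | hi0
    · rw [pow_zero, orderOf_eq_one_iff] at hi; exact absurd hi hx1
    · exact (dvd_pow_self p hi0.ne').trans (hi ▸ Subgroup.orderOf_dvd_natCard N hxN)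
  rcases Camina.isPrimePow_of_common_prime _ G le_rfl N hc p hp hpN hpI with h | h
  · exact hNp h
  · exact hIp h

end Cfsg.Agent.S4140
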