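import Cfsg.Statements.S4142
import Cfsg.Agent.Lib.ClassIndex.Basic

set_option autoImplicit false
open Cfsg

namespace Cfsg.Agent.S4142

section
variable {G : Type*} [Group G] [Finite G] (N : Subgroup G) [N.Normal]

/-- the union of the cosets in the class of `gN` -/
def fullSet (g : G) : Set G := {y : G | ∃ x : G ⧸ N, x * (g : G ⧸ N) * x⁻¹ = (y : G ⧸ N)}

theorem natCard_fullSet (g : G) :
    Nat.card (fullSet N g) * Nat.card (Subgroup.centralizer ({(g : G ⧸ N)} : Set (G ⧸ N))) = Nat.card G := by
  have h : Nat.card (fullSet N g) =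
      Nat.card N * Nat.card {z : G ⧸ N // ∃ x : G ⧸ N, x * (g : G ⧸ N) * x⁻¹ = z} := by
    rw [← Nat.card_prod]
    exact Nat.card_congr (QuotientGroup.preimageMkEquivSubgroupProdSet N
      {z : G ⧸ N | ∃ x : G ⧸ N, x * (g : G ⧸ N) * x⁻¹ = z})
  rw [h, mul_assoc, ClassIndex.natCard_conjSet_mul, ← Subgroup.index_eq_card, Subgroup.card_mul_index]

theorem subset_fullSet (g : G) : {y : G | ∃ x : G, x * g * x⁻¹ = y} ⊆ fullSet N g := by
  rintro y ⟨x, rfl⟩; exact ⟨x, rfl⟩

theorem coset_in_class_iff (g : G) :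
    (∀ n ∈ N, ∃ x : G, x * g * x⁻¹ = g * n) ↔
      Nat.card (Subgroup.centralizer ({g} : Set G)) =
        Nat.card (Subgroup.centralizer ({(g : G ⧸ N)} : Set (G ⧸ N))) := by
  have h1 : Nat.card {y : G | ∃ x : G, x * g * x⁻¹ = y} * _ = _ := ClassIndex.natCard_conjSet_mul g
  have h2 := natCard_fullSet N g
  constructor
  · intro h
    have heq : fullSet N g = {y : G | ∃ x : G, x * g * x⁻¹ = y} := by
      refine Set.Subset.antisymm ?_ (subset_fullSet N g)
      rintro y ⟨z, hz⟩
      obtain ⟨z, rfl⟩ := QuotientGroup.mk_surjective z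
      have hn : g⁻¹ * (z⁻¹ * y * z) ∈ N := by
        rw [← QuotientGroup.eq]
        simp only [QuotientGroup.mk_mul, QuotientGroup.mk_inv, ← hz]
        group
      obtain ⟨x, hx⟩ := h _ hn
      refine ⟨z * x, ?_⟩
      calc z * x * g * (z * x)⁻¹ = z * (x * g * x⁻¹) * z⁻¹ := by group
        _ = y := by rw [hx]; group
    rw [heq, ← h1] at h2
    refine (Nat.eq_of_mul_eq_mul_left ?_ h2).symm
    exact Nat.card_pos_iff.mpr ⟨⟨⟨g, 1, by simp⟩⟩, inferInstance⟩
  · intro he n hn
    rw [← he, ← h1] at h2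
    have hc := Nat.eq_of_mul_eq_mul_right Nat.card_pos h2
    have heq := Set.eq_of_subset_of_ncard_le (subset_fullSet N g) (by
      rw [← Nat.card_coe_set_eq, ← Nat.card_coe_set_eq, hc]) (Set.toFinite _)
    have : g * n ∈ fullSet N g := ⟨1, by
      rw [one_mul, inv_one, mul_one, QuotientGroup.mk_mul, (QuotientGroup.eq_one_iff n).mpr hn, mul_one]⟩
    rw [← heq] at this
    exact this

end

/-- Let G be a finite group and N a normal subgroup. Then the conjugacy class of every element g outside N is a union of cosets of N (gn is conjugate to g for all n ∈ N) if and only if for every g outside N the centralizer of g in G has the same order as the centralizer of gN in G/N. -/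
theorem result {G : Type*} [Group G] [Finite G] (N : Subgroup G) [N.Normal] :
    (∀ g : G, g ∉ N → ∀ n ∈ N, ∃ x : G, x * g * x⁻¹ = g * n) ↔
      ∀ g : G, g ∉ N → Nat.card (Subgroup.centralizer ({g} : Set G)) =
        Nat.card (Subgroup.centralizer ({(QuotientGroup.mk g : G ⧸ N)} : Set (G ⧸ N))) := by
  exact forall_congr' fun g => imp_congr_right fun _ => coset_in_class_iff N g

end Cfsg.Agent.S4142
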