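import Cfsg.Statements.S4143
import Cfsg.Agent.EqLemmas
import Cfsg.Agent.Lib.PGroup.Basic

set_option autoImplicit false
open Cfsg

namespace Cfsg.Agent.S4143

section
open Subgroup

theorem card_quotient_center {X : Type*} [Group X] [Finite X] {p n : ℕ} [Fact p.Prime]
    (hX : Nat.card X = p ^ (n + 1)) (hZ : Nat.card (center X) = p) : Nat.card (X ⧸ center X) = p ^ n := by
  have h := Subgroup.card_eq_card_quotient_mul_card_subgroup (center X)
  rw [hX, hZ, pow_succ] at h
  exact (Nat.eq_of_mul_eq_mul_right (Fact.out : p.Prime).pos h).symm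

theorem card_map_mk {X : Type*} [Group X] [Finite X] {p j : ℕ} [Fact p.Prime] {Z M : Subgroup X} [Z.Normal]
    (hZ : Nat.card Z = p) (hZM : Z ≤ M) (hM : Nat.card M = p ^ (j + 1)) :
    Nat.card (M.map (QuotientGroup.mk' Z)) = p ^ j := by
  have h := Subgroup.card_mul_index ((QuotientGroup.mk' Z).comp M.subtype).ker
  have hker : Nat.card ((QuotientGroup.mk' Z).comp M.subtype).ker = p := by
    rw [← hZ]
    refine Nat.card_congr ⟨fun y => ⟨((y : M) : X), (QuotientGroup.eq_one_iff _).mp y.2⟩,
      fun z => ⟨⟨z.1, hZM z.2⟩, (QuotientGroup.eq_one_iff _).mpr z.2⟩, fun y => rfl, fun z => rfl⟩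
  rw [Subgroup.index_ker, MonoidHom.range_comp, range_subtype, hker, hM, pow_succ'] at h
  exact Nat.eq_of_mul_eq_mul_left (Fact.out : p.Prime).pos h

/-- Suzuki: a `p`-group with a self-centralizing subgroup of order `p ^ 2` has maximal class. -/
theorem class_of_selfCentralizing {p : ℕ} [Fact p.Prime] : ∀ (n : ℕ) (X : Type*) [Group X] [Finite X],
    Nat.card X = p ^ (n + 2) → ∀ A : Subgroup X, Nat.card A = p ^ 2 →
      centralizer (A : Set X) ≤ A → Group.nilpotencyClass X = n + 1 := by
  intro n
  induction n with
  | zero =>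
    intro X _ _ hX A hA _
    have hp : p.Prime := Fact.out
    haveI := (IsPGroup.of_card hX).isNilpotent
    haveI : Nontrivial X := by
      rw [← Finite.one_lt_card_iff_nontrivial, hX]; exact Nat.one_lt_pow (by norm_num) hp.one_lt
    refine le_antisymm (Group.IsNilpotent.nilpotencyClass_le_one_iff.mpr
      (IsPGroup.isMulCommutative_of_card_eq_prime_sq hX)) ?_
    rw [Nat.one_le_iff_ne_zero, Ne, Group.nilpotencyClass_zero_iff_subsingleton]
    exact not_subsingleton X
  | succ n ih =>
    intro X _ _ hX A hA hC
    have hp : p.Prime := Fact.out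
    have hpX : IsPGroup p X := IsPGroup.of_card hX
    haveI := hpX.isNilpotent
    haveI : Nontrivial X := by
      rw [← Finite.one_lt_card_iff_nontrivial, hX]; exact Nat.one_lt_pow (by omega) hp.one_lt
    have hAc : IsMulCommutative A := IsPGroup.isMulCommutative_of_card_eq_prime_sq hA
    have hAne : A ≠ ⊤ := fun h => by
      have := hX
      rw [← Subgroup.card_top, ← h, hA] at this
      have := Nat.pow_right_injective hp.two_le this
      omega
    have hZA : center X ≤ A := (center_le_centralizer _).trans hC
    -- the centre has order p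
    have hZ : Nat.card (center X) = p := by
      obtain ⟨j, -, hj⟩ := (Nat.dvd_prime_pow hp).mp (hA ▸ Subgroup.card_dvd_of_le hZA)
      rcases j with _ | _ | j
      · exfalso
        have := IsPGroup.center_nontrivial hpX
        rw [← Finite.one_lt_card_iff_nontrivial, hj, pow_zero] at this
        exact lt_irrefl _ this
      · rw [hj, pow_one]
      · exfalso
        apply hAne
        have heq : center X = A := Subgroup.eq_of_le_of_card_ge hZA (by
          rw [hA, hj]; exact Nat.pow_le_pow_right hp.pos (by omega))
        rw [eq_top_iff]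
        intro g _
        refine hC ?_
        rw [← heq]
        intro z hz
        exact ((Subgroup.mem_center_iff.mp hz) g).symm
    set Z := center X with hZdef
    have hq := card_quotient_center (n := n + 2) hX hZ
    -- the normalizer of A
    set N := normalizer (A : Set X) with hN
    have hAN : A ≤ N := le_normalizer
    obtain ⟨a, haA, haZ⟩ : ∃ a ∈ A, a ∉ Z := by
      by_contra h
      push Not at h
      have := Subgroup.card_le_of_le (fun x hx => h x hx : A ≤ Z)
      rw [hA, hZ] at this
      nlinarith [hp.two_le]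
    have hAq : Nat.card (A.map (QuotientGroup.mk' Z)) = p ^ 1 := card_map_mk hZ hZA hA
    -- commutators of N with a are central
    have hcomm : ∀ g ∈ N, g * a * g⁻¹ * a⁻¹ ∈ Z := by
      intro g hg
      haveI : ((A.map (QuotientGroup.mk' Z)).subgroupOf (N.map (QuotientGroup.mk' Z))).Normal :=
        Subgroup.normal_subgroupOf_of_le_normalizer (le_trans (Subgroup.map_mono le_rfl)
          (Subgroup.le_normalizer_map (H := A) _))
      have hle := PGroup.le_center_of_card_eq ((hpX.to_quotient Z).to_subgroup (N.map (QuotientGroup.mk' Z)))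
        (N := (A.map (QuotientGroup.mk' Z)).subgroupOf (N.map (QuotientGroup.mk' Z))) (by
        rw [Nat.card_congr (Subgroup.subgroupOfEquivOfLe (Subgroup.map_mono hAN)).toEquiv, hAq, pow_one])
      have hmem : (⟨(a : X ⧸ Z), a, hAN haA, rfl⟩ : N.map (QuotientGroup.mk' Z)) ∈
          (A.map (QuotientGroup.mk' Z)).subgroupOf (N.map (QuotientGroup.mk' Z)) := ⟨a, haA, rfl⟩
      have h2 : (g : X ⧸ Z) * (a : X ⧸ Z) = (a : X ⧸ Z) * (g : X ⧸ Z) :=
        congrArg Subtype.val (Subgroup.mem_center_iff.mp (hle hmem) ⟨(g : X ⧸ Z), g, hg, rfl⟩)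
      rw [← QuotientGroup.eq_one_iff, QuotientGroup.mk_mul, QuotientGroup.mk_mul, QuotientGroup.mk_mul,
        h2, QuotientGroup.mk_inv, QuotientGroup.mk_inv]
      group
    -- A = Z <a>, so the centralizer of a in N is A
    have hcentr : ∀ g : X, g * a = a * g → g ∈ A := by
      intro g hg
      refine hC ?_
      have hgen : Z ⊔ zpowers a = A := by
        refine Subgroup.eq_of_le_of_card_ge (sup_le hZA (zpowers_le.mpr haA)) ?_
        have hlt : Z < Z ⊔ zpowers a := lt_of_le_of_ne le_sup_left
          (fun h => haZ (h ▸ mem_sup_right (mem_zpowers a)))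
        obtain ⟨j, -, hj⟩ := (Nat.dvd_prime_pow hp).mp (hA ▸ Subgroup.card_dvd_of_le
          (sup_le hZA (zpowers_le.mpr haA)))
        have h1 : Nat.card Z < Nat.card (Z ⊔ zpowers a : Subgroup X) := by
          rcases (Subgroup.card_le_of_le hlt.le).lt_or_eq with h | h
          · exact h
          · exact absurd (Subgroup.eq_of_le_of_card_ge hlt.le h.ge) hlt.ne
        rw [hZ, hj] at h1
        rw [hA, hj]
        refine Nat.pow_le_pow_right hp.pos ?_
        rcases j with _ | _ | j
        · simp at h1; have := hp.pos; omega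
        · simp at h1
        · omega
      intro y hy
      rw [← hgen] at hy
      have : Z ⊔ zpowers a ≤ centralizer ({g} : Set X) := by
        refine sup_le ?_ (zpowers_le.mpr ?_)
        · intro z hz
          rw [mem_centralizer_singleton_iff]
          exact (mem_center_iff.mp hz g).symm
        · rw [mem_centralizer_singleton_iff]; exact hg.symm
      exact mem_centralizer_singleton_iff.mp (this hy)
    have hNcard : Nat.card N = p ^ 3 := by
      have hlt : A < N := Group.normalizerCondition_of_isNilpotent A (lt_top_iff_ne_top.mpr hAne)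
      have hinj : Function.Injective (fun q : N ⧸ A.subgroupOf N =>
          (⟨_, hcomm (Quotient.out q : N) (Quotient.out q : N).2⟩ : Z)) := by
        intro q₁ q₂ h
        have h' := congrArg Subtype.val h
        simp only [mul_left_inj] at h'
        have := (QuotientGroup.eq (a := Quotient.out q₁) (b := Quotient.out q₂)).mpr (by
          rw [mem_subgroupOf]
          refine hcentr _ ?_
          simp only [Subgroup.coe_mul, InvMemClass.coe_inv]
          calc ((Quotient.out q₁ : N) : X)⁻¹ * (Quotient.out q₂ : N) * a
              = ((Quotient.out q₁ : N) : X)⁻¹ * (((Quotient.out q₂ : N) : X) * a * ((Quotient.out q₂ : N) : X)⁻¹) * (Quotient.out q₂ : N) := by group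
            _ = a * (((Quotient.out q₁ : N) : X)⁻¹ * (Quotient.out q₂ : N)) := by rw [← h']; group)
        rwa [QuotientGroup.out_eq', QuotientGroup.out_eq'] at this
      have h1 := Nat.card_le_card_of_injective _ hinj
      rw [hZ, ← Subgroup.index_eq_card] at h1
      obtain ⟨j, hj⟩ := IsPGroup.iff_card.mp (hpX.to_subgroup N)
      have h2 : Nat.card N = p ^ 2 * A.relIndex N := by
        rw [← hA, ← Nat.card_congr (Subgroup.subgroupOfEquivOfLe hAN).toEquiv, Subgroup.relIndex, Subgroup.card_mul_index]
      have h3 : p ^ j ≤ p ^ 3 := by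
        rw [← hj, h2, pow_succ p 2]; exact Nat.mul_le_mul_left _ h1
      have h4 : p ^ 2 < p ^ j := by
        rw [← hj, ← hA]
        rcases (Subgroup.card_le_of_le hlt.le).lt_or_eq with h | h
        · exact h
        · exact absurd (Subgroup.eq_of_le_of_card_ge hlt.le h.ge) hlt.ne
      have h5 := (Nat.pow_lt_pow_iff_right hp.one_lt).mp h4
      have h6 := (Nat.pow_le_pow_iff_right hp.one_lt).mp h3
      rw [hj, show j = 3 by omega]
    have hIH := ih (X ⧸ Z) hq (N.map (QuotientGroup.mk' Z)) (card_map_mk hZ (hZA.trans hAN) hNcard) ?_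
    · have hIH' : Group.nilpotencyClass (X ⧸ center X) = n + 1 := hIH
      rw [Group.nilpotencyClass_quotient_center] at hIH'
      omega
    · intro c hc
      obtain ⟨g, rfl⟩ := QuotientGroup.mk_surjective c
      refine ⟨g, ?_, rfl⟩
      show g ∈ normalizer (A : Set X)
      have hconj : ∀ y ∈ A, g * y * g⁻¹ ∈ A ∧ g⁻¹ * y * g ∈ A := by
        intro y hy
        have h2 : (y : X ⧸ Z) * (g : X ⧸ Z) = (g : X ⧸ Z) * (y : X ⧸ Z) := hc _ ⟨y, hAN hy, rfl⟩
        have h3 : g * y * g⁻¹ * y⁻¹ ∈ A := hZA (by
          rw [← QuotientGroup.eq_one_iff, QuotientGroup.mk_mul, QuotientGroup.mk_mul, QuotientGroup.mk_mul,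
            ← h2, QuotientGroup.mk_inv, QuotientGroup.mk_inv]
          group)
        have h4 : g⁻¹ * y * g * y⁻¹ ∈ A := hZA (by
          rw [← QuotientGroup.eq_one_iff, QuotientGroup.mk_mul, QuotientGroup.mk_mul, QuotientGroup.mk_mul,
            QuotientGroup.mk_inv, QuotientGroup.mk_inv, mul_assoc ((g : X ⧸ Z))⁻¹, h2]
          group)
        exact ⟨by simpa using A.mul_mem h3 hy, by simpa using A.mul_mem h4 hy⟩
      rw [mem_normalizer_iff]
      intro y
      refine ⟨fun hy => (hconj y hy).1, fun hy => ?_⟩
      have := (hconj _ hy).2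
      simpa [mul_assoc] using this

end

/-- Let X be a finite p-group of order p^n containing a non-abelian subgroup B of order p³ with C_X(B) ≤ B. Then X has nilpotency class n − 1 (maximal class). -/
theorem result {X : Type*} [Group X] [Finite X] {p : ℕ} [Fact p.Prime] (n : ℕ) (hX : Nat.card X = p ^ n)
    (B : Subgroup X) (hB : Nat.card B = p ^ 3) (hBna : ¬ IsMulCommutative B) (hC : Subgroup.centralizer (B : Set X) ≤ B) :
    Group.nilpotencyClass X = n - 1 := by
  classical
  open Subgroup in
  · have hp : p.Prime := Fact.out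
    have hn3 : 3 ≤ n := (Nat.pow_le_pow_iff_right hp.one_lt).mp (by rw [← hX, ← hB]; exact Subgroup.card_le_card_group B)
    obtain ⟨m, rfl⟩ : ∃ m, n = m + 3 := ⟨n - 3, by omega⟩
    have hpX : IsPGroup p X := IsPGroup.of_card hX
    haveI := hpX.isNilpotent
    haveI : Nontrivial X := by
      rw [← Finite.one_lt_card_iff_nontrivial, hX]; exact Nat.one_lt_pow (by omega) hp.one_lt
    -- two non-commuting generators of B
    obtain ⟨b₁, b₂, hb₁, hb₂, hb⟩ : ∃ b₁ b₂, b₁ ∈ B ∧ b₂ ∈ B ∧ b₁ * b₂ ≠ b₂ * b₁ := by
      by_contra h
      push Not at h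
      exact hBna ⟨⟨fun x y => Subtype.ext (h x y x.2 y.2)⟩⟩
    have hgen : closure ({b₁, b₂} : Set X) = B := by
      have hle : closure ({b₁, b₂} : Set X) ≤ B := by
        rw [closure_le]
        intro x hx
        rcases hx with rfl | rfl
        · exact hb₁
        · exact hb₂
      obtain ⟨j, hj3, hj⟩ := (Nat.dvd_prime_pow hp).mp (hB ▸ Subgroup.card_dvd_of_le hle)
      refine Subgroup.eq_of_le_of_card_ge hle ?_
      rw [hj, hB]
      refine Nat.pow_le_pow_right hp.pos ?_
      by_contra hj2
      apply hb
      have hcm : ∀ x y : closure ({b₁, b₂} : Set X), x * y = y * x := by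
        rcases j with _ | _ | _ | j
        · intro x y
          haveI := (Nat.card_eq_one_iff_unique.mp (by rw [hj, pow_zero])).1
          exact Subsingleton.elim _ _
        · intro x y
          haveI : IsCyclic (closure ({b₁, b₂} : Set X)) := isCyclic_of_prime_card (p := p) (by rw [hj, pow_one])
          exact IsCyclic.commGroup.mul_comm x y
        · exact IsPGroup.commutative_of_card_eq_prime_sq hj
        · omega
      exact congrArg Subtype.val (hcm ⟨b₁, subset_closure (Or.inl rfl)⟩ ⟨b₂, subset_closure (Or.inr rfl)⟩)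
    have hcentr : ∀ g : X, g * b₁ = b₁ * g → g * b₂ = b₂ * g → g ∈ centralizer (B : Set X) := by
      intro g h1 h2 y hy
      rw [SetLike.mem_coe, ← hgen] at hy
      have : closure ({b₁, b₂} : Set X) ≤ centralizer ({g} : Set X) := by
        rw [closure_le]
        rintro x (rfl | rfl)
        · exact mem_centralizer_singleton_iff.mpr h1.symm
        · exact mem_centralizer_singleton_iff.mpr h2.symm
      exact mem_centralizer_singleton_iff.mp (this hy)
    -- the centralizer of B is the centre of X, of order p
    have hcz : Nat.card (centralizer (B : Set X)) = p := by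
      obtain ⟨j, hj3, hj⟩ := (Nat.dvd_prime_pow hp).mp (hB ▸ Subgroup.card_dvd_of_le hC)
      rcases j with _ | _ | j
      · exfalso
        have := IsPGroup.center_nontrivial hpX
        rw [← Finite.one_lt_card_iff_nontrivial] at this
        have h2 := Subgroup.card_le_of_le (center_le_centralizer (B : Set X))
        rw [hj, pow_zero] at h2
        omega
      · rw [hj, pow_one]
      · exfalso
        apply hb
        set C := centralizer (B : Set X) with hCdef
        by_cases hb₁C : b₁ ∈ C
        · exact (hb₁C b₂ hb₂).symm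
        · -- ⟨C, b₁⟩ is all of B and commutative
          have hlt : C < C ⊔ zpowers b₁ := lt_of_le_of_ne le_sup_left
            (fun h => hb₁C (h ▸ mem_sup_right (mem_zpowers b₁)))
          have heq : C ⊔ zpowers b₁ = B := by
            have hle : C ⊔ zpowers b₁ ≤ B := sup_le hC (zpowers_le.mpr hb₁)
            obtain ⟨i, -, hi⟩ := (Nat.dvd_prime_pow hp).mp (hB ▸ Subgroup.card_dvd_of_le hle)
            refine Subgroup.eq_of_le_of_card_ge hle ?_
            rw [hi, hB]
            refine Nat.pow_le_pow_right hp.pos ?_
            have h1 : p ^ (j + 2) < p ^ i := by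
              rw [← hi, ← hj]
              rcases (Subgroup.card_le_of_le hlt.le).lt_or_eq with h | h
              · exact h
              · exact absurd (Subgroup.eq_of_le_of_card_ge hlt.le h.ge) hlt.ne
            have := (Nat.pow_lt_pow_iff_right hp.one_lt).mp h1
            omega
          have h2 : b₂ ∈ C ⊔ zpowers b₁ := by rw [heq]; exact hb₂
          have : C ⊔ zpowers b₁ ≤ centralizer ({b₁} : Set X) := by
            refine sup_le (fun z hz => mem_centralizer_singleton_iff.mpr (hz b₁ hb₁).symm) ?_
            exact zpowers_le.mpr (mem_centralizer_singleton_iff.mpr rfl)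
          exact (mem_centralizer_singleton_iff.mp (this h2)).symm
    have hZC : centralizer (B : Set X) = center X := by
      refine (Subgroup.eq_of_le_of_card_ge (center_le_centralizer _) ?_).symm
      rw [hcz]
      obtain ⟨k, hk, hk2⟩ := IsPGroup.card_center_eq_prime_pow (p := p) hX (by omega)
      rw [hk2]
      exact Nat.le_self_pow (by omega) p
    have hZB : center X ≤ B := hZC ▸ hC
    have hZ : Nat.card (center X) = p := by rw [← hZC, hcz]
    have hq := card_quotient_center (n := m + 2) hX hZ
    -- elements acting centrally on B lie in B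
    set C' : Subgroup X := (centralizer (((B.map (QuotientGroup.mk' (center X))) : Set (X ⧸ center X)))).comap
      (QuotientGroup.mk' (center X)) with hC'
    have hC'B : C' ≤ B := by
      have hle : ∀ g ∈ C', ∀ y ∈ B, g * y * g⁻¹ * y⁻¹ ∈ center X := by
        intro g hg y hy
        have h2 : (y : X ⧸ center X) * (g : X ⧸ center X) = (g : X ⧸ center X) * (y : X ⧸ center X) := hg _ ⟨y, hy, rfl⟩
        rw [← QuotientGroup.eq_one_iff, QuotientGroup.mk_mul, QuotientGroup.mk_mul, QuotientGroup.mk_mul,
          ← h2, QuotientGroup.mk_inv, QuotientGroup.mk_inv]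
        group
      have hBC' : B ≤ C' := by
        intro y hy
        rw [hC', mem_comap]
        rintro _ ⟨z, hz, rfl⟩
        have hBq : Nat.card (B.map (QuotientGroup.mk' (center X))) = p ^ 2 := card_map_mk hZ hZB hB
        exact congrArg Subtype.val (IsPGroup.commutative_of_card_eq_prime_sq hBq ⟨_, z, hz, rfl⟩ ⟨_, y, hy, rfl⟩)
      have hinj : Function.Injective (fun q : C' ⧸ (center X).subgroupOf C' =>
          ((⟨_, hle _ (Quotient.out q : C').2 b₁ hb₁⟩ : center X), (⟨_, hle _ (Quotient.out q : C').2 b₂ hb₂⟩ : center X))) := by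
        intro q₁ q₂ h
        have h1 := congrArg (fun z : center X × center X => (z.1 : X)) h
        have h2 := congrArg (fun z : center X × center X => (z.2 : X)) h
        simp only [mul_left_inj] at h1 h2
        have := (QuotientGroup.eq (a := Quotient.out q₁) (b := Quotient.out q₂)).mpr (by
          rw [mem_subgroupOf]
          refine hZC.le ?_
          simp only [Subgroup.coe_mul, InvMemClass.coe_inv]
          refine hcentr _ ?_ ?_
          · calc ((Quotient.out q₁ : C') : X)⁻¹ * (Quotient.out q₂ : C') * b₁
              = ((Quotient.out q₁ : C') : X)⁻¹ * (((Quotient.out q₂ : C') : X) * b₁ * ((Quotient.out q₂ : C') : X)⁻¹) * (Quotient.out q₂ : C') := by group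
            _ = b₁ * (((Quotient.out q₁ : C') : X)⁻¹ * (Quotient.out q₂ : C')) := by rw [← h1]; group
          · calc ((Quotient.out q₁ : C') : X)⁻¹ * (Quotient.out q₂ : C') * b₂
              = ((Quotient.out q₁ : C') : X)⁻¹ * (((Quotient.out q₂ : C') : X) * b₂ * ((Quotient.out q₂ : C') : X)⁻¹) * (Quotient.out q₂ : C') := by group
            _ = b₂ * (((Quotient.out q₁ : C') : X)⁻¹ * (Quotient.out q₂ : C')) := by rw [← h2]; group)
        rwa [QuotientGroup.out_eq', QuotientGroup.out_eq'] at this
      have h1 := Nat.card_le_card_of_injective _ hinj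
      rw [Nat.card_prod, hZ, ← Subgroup.index_eq_card] at h1
      refine (Subgroup.eq_of_le_of_card_ge hBC' ?_).ge
      rw [hB, ← Subgroup.card_mul_index ((center X).subgroupOf C'),
        Nat.card_congr (Subgroup.subgroupOfEquivOfLe (hZB.trans hBC')).toEquiv, hZ,
        show p ^ 3 = p * (p * p) by ring]
      exact Nat.mul_le_mul_left _ h1
    have hIH := class_of_selfCentralizing m (X ⧸ center X) hq (B.map (QuotientGroup.mk' (center X)))
      (card_map_mk hZ hZB hB) (by
        intro c hc
        obtain ⟨g, rfl⟩ := QuotientGroup.mk_surjective c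
        exact ⟨g, hC'B (mem_comap.mpr hc), rfl⟩)
    rw [Group.nilpotencyClass_quotient_center] at hIH
    omega

end Cfsg.Agent.S4143
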