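import Cfsg.Statements.S4144
import Cfsg.Agent.EqLemmas
import Cfsg.Agent.Lib.MaxClass.ExpPrime

set_option autoImplicit false
open Cfsg

namespace Cfsg.Agent.S4144

/-- Let X be a finite p-group of order p^n, n ≥ 2, of nilpotency class n − 1 (maximal class), and H any subgroup of X. Then the index in H of the subgroup generated by the p-th powers of elements of H is at most p^p. -/
theorem result {X : Type*} [Group X] [Finite X] {p : ℕ} [Fact p.Prime] (n : ℕ) (hn : 2 ≤ n) (hX : Nat.card X = p ^ n)
    (hmax : Group.nilpotencyClass X = n - 1) (H : Subgroup X) :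
    (Subgroup.closure {y : X | ∃ h ∈ H, y = h ^ p}).relIndex H ≤ p ^ p := by
  classical
  have hp : p.Prime := Fact.out
  set K := Subgroup.closure {y : X | ∃ h ∈ H, y = h ^ p} with hK
  by_cases hnp : n ≤ p
  · refine le_trans ?_ (Nat.pow_le_pow_right hp.pos hnp)
    rw [← hX]
    refine le_trans ?_ (Subgroup.card_le_card_group H)
    exact Nat.le_of_dvd Nat.card_pos (Subgroup.index_dvd_card _)
  have c : MaxClassPower.Mc X p n := ⟨hX, by have := hp.two_le; omega, hmax⟩
  obtain ⟨s, g⟩ := c.exists_good
  by_cases hH : H = ⊤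
  · -- the whole group
    subst hH
    rw [Subgroup.relIndex_top_right]
    haveI hKn : K.Normal := by
      refine ⟨fun y hy a => ?_⟩
      have hle : K ≤ K.comap (MulAut.conj a).toMonoidHom := by
        rw [hK, Subgroup.closure_le]
        rintro _ ⟨h, -, rfl⟩
        exact Subgroup.subset_closure ⟨a * h * a⁻¹, Subgroup.mem_top _,
          by simp [conj_pow]⟩
      exact hle hy
    obtain ⟨r, hr⟩ := c.pGroup.index K
    by_contra hlt
    rw [not_le, hr] at hlt
    have hrp : p + 1 ≤ r := (Nat.pow_lt_pow_iff_right hp.one_lt).mp hlt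
    have hKeq := PGroup.normal_eq_lcs c.three_le hX hmax (N := K) (by have := hp.two_le; omega : 2 ≤ r) hr
    have hKp : K ≤ PearlRank.L X p := hKeq.le.trans
      (Subgroup.lowerCentralSeries_antitone _ (by omega : p ≤ r - 1))
    refine (c.quot (k := p) hp.two_le (by omega)).false_of_exponent (fun q => ?_)
    induction q using QuotientGroup.induction_on with
    | H x =>
      rw [← QuotientGroup.mk_pow]
      exact (QuotientGroup.eq_one_iff _).mpr
        (hKp (Subgroup.subset_closure ⟨x, Subgroup.mem_top x, rfl⟩))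
  · -- a proper subgroup
    obtain ⟨M, hM, hHM⟩ := (IsCoatomic.eq_top_or_exists_le_coatom H).resolve_left hH
    haveI := PGroup.isCoatom_normal c.pGroup hM
    have hMi := PGroup.isCoatom_index c.pGroup hM
    have hLM : PearlRank.L X 1 ≤ M :=
      (Subgroup.top_lowerCentralSeries_one (G := X)).le.trans (PGroup.commutator_le_of_index_eq hMi)
    have hKH : K ≤ H := by
      rw [hK, Subgroup.closure_le]
      rintro _ ⟨h, hh, rfl⟩
      exact pow_mem hh p
    have hpow : ∀ h ∈ H, h ^ p ∈ K := fun h hh => Subgroup.subset_closure ⟨h, hh, rfl⟩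
    -- `|H| ≤ p * |H ⊓ L₁|`
    have h1 : Nat.card H ≤ p * Nat.card ↥(H ⊓ PearlRank.L X 1) := by
      have e := Solvable.card_eq_card_map_mul (QuotientGroup.mk' (PearlRank.L X 1)) H
      rw [QuotientGroup.ker_mk'] at e
      rw [e]
      refine Nat.mul_le_mul_right _ ?_
      refine (Subgroup.card_le_of_le (Subgroup.map_mono hHM)).trans ?_
      have e2 := Solvable.card_eq_card_map_mul (QuotientGroup.mk' (PearlRank.L X 1)) M
      rw [QuotientGroup.ker_mk', inf_of_le_right hLM, c.card_L le_rfl] at e2
      have e3 := M.card_mul_index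
      rw [hMi, hX, e2, show n = n - 1 - 1 + 1 + 1 by omega, pow_succ, pow_succ] at e3
      rw [show n - 1 - 1 + 1 + 1 - 1 - 1 = n - 1 - 1 by omega] at e3
      refine le_of_eq (Nat.eq_of_mul_eq_mul_right (pow_pos hp.pos (n - 1 - 1)) ?_)
      have h5 := Nat.eq_of_mul_eq_mul_right hp.pos e3
      rw [h5]
      ring
    have h2 := g.card_le_pow_closure K hpow (le_refl 1)
    have h3 : Nat.card H ≤ p ^ p * Nat.card K := by
      refine h1.trans ((Nat.mul_le_mul_left _ (h2.trans (Nat.mul_le_mul_left _
        (Subgroup.card_le_of_le inf_le_left)))).trans ?_)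
      rw [← mul_assoc, ← pow_succ', show p - 1 + 1 = p by have := hp.two_le; omega]
    have h4 := (K.subgroupOf H).card_mul_index
    rw [Nat.card_congr (Subgroup.subgroupOfEquivOfLe hKH).toEquiv] at h4
    rw [← h4, mul_comm (p ^ p)] at h3
    exact Nat.le_of_mul_le_mul_left h3 Nat.card_pos

end Cfsg.Agent.S4144
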