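import Cfsg.Statements.S4145
import Cfsg.Agent.Lib.ClassIndex.PSolvable
import Cfsg.Agent.Lib.Transfer.Tate
import Cfsg.Agent.Lib.Transfer.AbelianHall

set_option autoImplicit false
open Cfsg

namespace Cfsg.Agent.S4145

section
variable {G : Type*} [Group G] [Finite G] {p : ℕ} [Fact p.Prime]

theorem isCyclic_of_isPGroup (P : Sylow p G) (hP : IsCyclic (P : Subgroup G)) {S : Subgroup G}
    (hS : IsPGroup p S) : IsCyclic S := by
  obtain ⟨Q, hQ⟩ := hS.exists_le_sylow
  obtain ⟨g, rfl⟩ := MulAction.exists_smul_eq G P Q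
  haveI := hP
  haveI : IsCyclic ((g • P : Sylow p G) : Subgroup G) :=
    isCyclic_of_surjective _ (P.equiv (g • P)).surjective
  exact isCyclic_of_injective (Subgroup.inclusion hQ) (Subgroup.inclusion_injective hQ)

theorem mem_zpowers_of_pow_eq_one {H : Type*} [Group H] [Finite H] [IsCyclic H] {u d : H}
    (hu : orderOf u = p) (hd : d ^ p = 1) : d ∈ Subgroup.zpowers u := by
  classical
  haveI := Fintype.ofFinite H
  have h1 := IsCyclic.card_pow_eq_one_le (α := H) (Fact.out : p.Prime).pos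
  by_contra hne
  have h2 : (Finset.univ.filter fun a : H => a ∈ Subgroup.zpowers u) ∪ {d} ⊆ Finset.univ.filter fun a : H => a ^ p = 1 := by
    intro a ha
    simp only [Finset.mem_union, Finset.mem_filter, Finset.mem_univ, true_and, Finset.mem_singleton] at ha ⊢
    rcases ha with ⟨i, rfl⟩ | rfl
    · show (u ^ i) ^ p = 1
      rw [← zpow_natCast, ← zpow_mul, mul_comm, zpow_mul, zpow_natCast, ← hu, pow_orderOf_eq_one, one_zpow]
    · exact hd
  have h3 := (Finset.card_le_card h2).trans h1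
  have h4 : (Finset.univ.filter fun a : H => a ∈ Subgroup.zpowers u).card = p := by
    rw [← Fintype.card_subtype]
    exact Fintype.card_eq_nat_card.trans ((Nat.card_zpowers u).trans hu)
  rw [Finset.card_union_of_disjoint (by simpa using hne), h4, Finset.card_singleton] at h3
  omega

end

/-- Let G be a finite group with a cyclic Sylow p-subgroup and H a normal subgroup such that p divides both the order of H and the index of H. Then H has a normal p-complement and G is p-solvable. -/
theorem result {G : Type*} [Group G] [Finite G] (p : ℕ) [Fact p.Prime]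
    (P : Sylow p G) (hP : IsCyclic (P : Subgroup G)) (H : Subgroup G) [H.Normal] (h1 : p ∣ Nat.card H) (h2 : p ∣ H.index) :
    Cfsg.HasNormalPComplement p H ∧ Cfsg.IsPSolvable p G := by
  classical
  have hp : p.Prime := Fact.out
  -- part one
  obtain ⟨Q⟩ : Nonempty (Sylow p H) := inferInstance
  set P₀ : Subgroup G := (Q : Subgroup H).map H.subtype with hP₀
  have hP₀p : IsPGroup p P₀ := Q.2.map _
  obtain ⟨R, hR⟩ := hP₀p.exists_le_sylow
  have hRc : IsCyclic (R : Subgroup G) := isCyclic_of_isPGroup P hP R.2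
  -- Q is the intersection of H with R
  have hinf : ∀ x ∈ H, x ∈ (R : Subgroup G) → x ∈ P₀ := by
    intro x hxH hxR
    have hle : (Q : Subgroup H) ≤ (R : Subgroup G).subgroupOf H := fun y hy => hR ⟨y, hy, rfl⟩
    have heq := Q.3 (R.2.comap_subtype (K := H)) hle
    exact ⟨⟨x, hxH⟩, heq ▸ (show (⟨x, hxH⟩ : H) ∈ (R : Subgroup G).subgroupOf H from hxR), rfl⟩
  have hcommR : ∀ a ∈ (R : Subgroup G), ∀ b ∈ (R : Subgroup G), Commute a b := by
    intro a ha b hb
    haveI := hRc
    exact congrArg Subtype.val (IsCyclic.commGroup.mul_comm (⟨a, ha⟩ : (R : Subgroup G)) ⟨b, hb⟩)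
  have key : ∀ y ∈ H, y ∈ Subgroup.normalizer (P₀ : Set G) → ¬ p ∣ orderOf y → ∀ u ∈ P₀, Commute y u := by
    intro y hyH hyN hyp
    set M : Subgroup G := (H ⊓ Subgroup.normalizer (P₀ : Set G)) ⊔ (R : Subgroup G) with hM
    set D : Subgroup G := M ⊓ Subgroup.centralizer (P₀ : Set G) with hD
    have hRD : (R : Subgroup G) ≤ D := le_inf le_sup_right (fun a ha b hb => hcommR b (hR hb) a ha)
    have hyM : y ∈ M := Subgroup.mem_sup_left ⟨hyH, hyN⟩
    have hRD' : ((y • R : Sylow p G) : Subgroup G) ≤ D := by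
      rw [Sylow.coe_subgroup_smul]
      intro a ha
      rw [Subgroup.mem_pointwise_smul_iff_inv_smul_mem] at ha
      simp only [MulAut.smul_def, MulAut.conj_inv_apply] at ha
      refine ⟨?_, ?_⟩
      · have := M.mul_mem (M.mul_mem hyM (Subgroup.mem_sup_right ha)) (M.inv_mem hyM)
        simpa [mul_assoc] using this
      · intro b hb
        have hb' : y⁻¹ * b * y ∈ P₀ := (Subgroup.mem_normalizer_iff''.mp hyN b).mp hb
        have hc : Commute (y⁻¹ * b * y) (y⁻¹ * a * y) := hcommR _ (hR hb') _ ha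
        calc b * a = y * ((y⁻¹ * b * y) * (y⁻¹ * a * y)) * y⁻¹ := by group
          _ = a * b := by rw [hc.eq]; group
    obtain ⟨d, hd, hdR⟩ := Transfer.exists_conj_sylow_le R (y • R) hRD hRD'
    -- n normalizes R and acts as y on P₀
    set n := d⁻¹ * y with hn
    have hnR : ∀ z ∈ (R : Subgroup G), n * z * n⁻¹ ∈ (R : Subgroup G) := by
      intro z hz
      have h3 : y * z * y⁻¹ ∈ ((y • R : Sylow p G) : Subgroup G) := by
        rw [Sylow.coe_subgroup_smul, Subgroup.mem_pointwise_smul_iff_inv_smul_mem]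
        simp [MulAut.smul_def, mul_assoc]
        exact hz
      rw [← hdR] at h3
      obtain ⟨w, hw, hwz⟩ := h3
      simp only [MulEquiv.coe_toMonoidHom, MulAut.conj_apply] at hwz
      have : n * z * n⁻¹ = w := by
        rw [hn]
        calc d⁻¹ * y * z * (d⁻¹ * y)⁻¹ = d⁻¹ * (y * z * y⁻¹) * d := by group
          _ = w := by rw [← hwz]; group
      rw [this]; exact hw
    have hnM : n ∈ M := M.mul_mem (M.inv_mem hd.1) hyM
    have hmodH : ∀ z ∈ (R : Subgroup G), n * z * n⁻¹ * z⁻¹ ∈ H := by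
      intro z hz
      obtain ⟨j, hj, r, hr, hjr⟩ : ∃ j ∈ H, ∃ r ∈ (R : Subgroup G), j * r = n := by
        have hle : (R : Subgroup G) ≤ Subgroup.normalizer (((H ⊓ Subgroup.normalizer (P₀ : Set G)) : Subgroup G) : Set G) := by
          intro a ha
          rw [Subgroup.mem_normalizer_iff]
          have haN : a ∈ Subgroup.normalizer (P₀ : Set G) := Subgroup.centralizer_le_normalizer _ (hRD ha).2
          intro b
          constructor
          · rintro ⟨h3, h4⟩
            exact ⟨(inferInstance : H.Normal).conj_mem b h3 a, Subgroup.mul_mem _ (Subgroup.mul_mem _ haN h4) (Subgroup.inv_mem _ haN)⟩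
          · rintro ⟨h3, h4⟩
            refine ⟨by simpa [mul_assoc] using (inferInstance : H.Normal).conj_mem _ h3 a⁻¹, ?_⟩
            simpa [mul_assoc] using Subgroup.mul_mem _ (Subgroup.mul_mem _ (Subgroup.inv_mem _ haN) h4) haN
        have : n ∈ ((M : Subgroup G) : Set G) := hnM
        rw [hM, Subgroup.coe_mul_of_right_le_normalizer_left _ _ hle] at this
        obtain ⟨j, hj, r, hr, hjr⟩ := this
        exact ⟨j, hj.1, r, hr, hjr⟩
      have : n * z * n⁻¹ * z⁻¹ = j * (z * j⁻¹ * z⁻¹) := by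
        rw [← hjr]
        calc j * r * z * (j * r)⁻¹ * z⁻¹ = j * (r * z * r⁻¹) * j⁻¹ * z⁻¹ := by group
          _ = j * (z * j⁻¹ * z⁻¹) := by rw [(hcommR r hr z hz).eq]; group
      rw [this]
      exact H.mul_mem hj ((inferInstance : H.Normal).conj_mem _ (H.inv_mem hj) z)
    -- n acts on the cyclic group R by a power map congruent to 1 mod p
    obtain ⟨⟨z, hz⟩, hzgen⟩ := IsCyclic.exists_zpow_surjective (G := (R : Subgroup G))
    obtain ⟨i, hi⟩ := hzgen ⟨_, hnR z hz⟩
    have hi' : z ^ i = n * z * n⁻¹ := congrArg Subtype.val hi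
    obtain ⟨k, hk⟩ := IsPGroup.iff_card.mp R.2
    have hzord : z ^ (p ^ k : ℕ) = 1 := by
      have := pow_card_eq_one' (G := (R : Subgroup G)) (x := ⟨z, hz⟩)
      rw [hk] at this
      exact congrArg Subtype.val this
    have hdvd : (p : ℤ) ∣ i - 1 := by
      by_contra hnd
      have hzP : z ∈ P₀ := by
        have h3 : z ^ (i - 1) ∈ P₀ := by
          refine hinf _ ?_ (Subgroup.zpow_mem _ hz _)
          rw [zpow_sub, hi', zpow_one]; exact hmodH z hz
        have hco : IsCoprime (i - 1) ((p ^ k : ℕ) : ℤ) := by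
          push_cast
          exact (((Nat.prime_iff_prime_int.mp hp).coprime_iff_not_dvd.mpr hnd).symm).pow_right
        obtain ⟨a, b, hab⟩ := hco
        have : z = (z ^ (i - 1)) ^ a := by
          conv_lhs => rw [← zpow_one z, ← hab]
          rw [zpow_add, mul_comm a, zpow_mul, mul_comm b, zpow_mul, zpow_natCast, hzord, one_zpow, mul_one]
        rw [this]; exact Subgroup.zpow_mem _ h3 _
      have hle : (R : Subgroup G) ≤ H := by
        intro a ha
        obtain ⟨j, hj⟩ := hzgen ⟨a, ha⟩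
        have hj' : z ^ j = a := congrArg Subtype.val hj
        rw [← hj']
        exact H.zpow_mem (Subgroup.map_subtype_le _ hzP) j
      exact R.not_dvd_index (h2.trans (Subgroup.index_dvd_of_le hle))
    have hnpow : ∀ m : ℕ, n ^ m * z * (n ^ m)⁻¹ = z ^ (i ^ m) := by
      intro m
      induction m with
      | zero => simp
      | succ m ih =>
        calc n ^ (m + 1) * z * (n ^ (m + 1))⁻¹ = MulAut.conj n (n ^ m * z * (n ^ m)⁻¹) := by
              rw [MulAut.conj_apply, pow_succ']; group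
          _ = z ^ (i ^ (m + 1)) := by rw [ih, map_zpow, MulAut.conj_apply, ← hi', ← zpow_mul, pow_succ']
    intro u hu
    have hagree : ∀ m : ℕ, ∀ u ∈ P₀, y ^ m * u * (y ^ m)⁻¹ = n ^ m * u * (n ^ m)⁻¹ := by
      intro m
      induction m with
      | zero => intro u _; simp
      | succ m ih =>
        intro u hu
        have h3 : y * u * y⁻¹ ∈ P₀ := (Subgroup.mem_normalizer_iff.mp hyN u).mp hu
        have h5 : n * u * n⁻¹ = y * u * y⁻¹ := by
          have h4 : y * u * y⁻¹ * d = d * (y * u * y⁻¹) := hd.2 _ h3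
          rw [hn]
          calc d⁻¹ * y * u * (d⁻¹ * y)⁻¹ = d⁻¹ * (y * u * y⁻¹ * d) := by group
            _ = y * u * y⁻¹ := by rw [h4]; group
        calc y ^ (m + 1) * u * (y ^ (m + 1))⁻¹ = y ^ m * (y * u * y⁻¹) * (y ^ m)⁻¹ := by rw [pow_succ]; group
          _ = n ^ m * (n * u * n⁻¹) * (n ^ m)⁻¹ := by rw [ih _ h3, h5]
          _ = n ^ (m + 1) * u * (n ^ (m + 1))⁻¹ := by rw [pow_succ]; group
    have hcu : Commute (y ^ p ^ k) u := by
      obtain ⟨j, hj⟩ := hzgen ⟨u, hR hu⟩
      have hj' : z ^ j = u := congrArg Subtype.val hj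
      have h3 : n ^ p ^ k * z * (n ^ p ^ k)⁻¹ = z := by
        rw [hnpow]
        have h4 : ((p ^ k : ℕ) : ℤ) ∣ i ^ p ^ k - 1 := by
          refine dvd_trans ?_ (by simpa using dvd_sub_pow_of_dvd_sub hdvd k)
          push_cast
          exact pow_dvd_pow _ (by omega)
        obtain ⟨t, ht⟩ := h4
        calc z ^ (i ^ p ^ k) = z ^ (1 + ((p ^ k : ℕ) : ℤ) * t) := by rw [← ht]; ring_nf
          _ = z := by rw [zpow_add, zpow_one, zpow_mul, zpow_natCast, hzord, one_zpow, mul_one]
      have h5 : y ^ p ^ k * u * (y ^ p ^ k)⁻¹ = u := by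
        rw [hagree _ u hu, ← hj', ← MulAut.conj_apply, map_zpow, MulAut.conj_apply, h3]
      show y ^ p ^ k * u = u * y ^ p ^ k
      calc y ^ p ^ k * u = y ^ p ^ k * u * (y ^ p ^ k)⁻¹ * y ^ p ^ k := by group
        _ = u * y ^ p ^ k := by rw [h5]
    obtain ⟨e, he⟩ := exists_pow_eq_self_of_coprime (x := y) (n := p ^ k)
      (((hp.coprime_iff_not_dvd).mpr hyp).pow_left k)
    rw [← he]
    exact hcu.pow_left e
  have hnc : Cfsg.HasNormalPComplement p H := by
    refine Transfer.hasNormalPComplement_of_normalizer_le_centralizer Q ?_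
    intro y hy
    obtain ⟨u, v, huv, hu, hv, ⟨k, hk⟩, hvp⟩ := Transfer.exists_pPart_mul (p := p) y
    have huN : u ∈ Subgroup.normalizer ((Q : Subgroup H) : Set H) := (Subgroup.zpowers_le.mpr hy) hu
    have hvN : v ∈ Subgroup.normalizer ((Q : Subgroup H) : Set H) := (Subgroup.zpowers_le.mpr hy) hv
    have huQ : u ∈ (Q : Subgroup H) := by
      have hp' : IsPGroup p (Subgroup.zpowers u) := IsPGroup.of_card (p := p) (n := k) (by rw [Nat.card_zpowers, hk])
      have := Q.3 (hp'.to_sup_of_normal_right' Q.2 (Subgroup.zpowers_le.mpr huN)) le_sup_right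
      rw [← this]; exact Subgroup.mem_sup_left (Subgroup.mem_zpowers u)
    have hvN' : (v : G) ∈ Subgroup.normalizer (P₀ : Set G) := by
      rw [Subgroup.mem_normalizer_iff]
      intro b
      constructor
      · rintro ⟨b', hb', rfl⟩
        exact ⟨v * b' * v⁻¹, (Subgroup.mem_normalizer_iff.mp hvN b').mp hb', by simp⟩
      · rintro ⟨b', hb', hbb⟩
        refine ⟨v⁻¹ * b' * v, (Subgroup.mem_normalizer_iff''.mp hvN b').mp hb', ?_⟩
        simp only [Subgroup.coe_subtype] at hbb ⊢
        simp only [Subgroup.coe_mul, InvMemClass.coe_inv, hbb]; group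
    intro w hw
    have h3 : Commute u w := by
      haveI := hRc
      exact Subtype.ext (hcommR _ (hR ⟨u, huQ, rfl⟩) _ (hR ⟨w, hw, rfl⟩) : ((u : H) : G) * w = w * u)
    have h4 : Commute v w := Subtype.ext (key v v.2 hvN' (fun hd => by
      rw [Subgroup.orderOf_coe] at hd
      exact hp.not_dvd_one (hvp ▸ Nat.dvd_gcd hd dvd_rfl)) w ⟨w, hw, rfl⟩ : ((v : H) : G) * w = w * v)
    rw [huv]
    exact (h3.mul_left h4).symm
  refine ⟨hnc, ?_⟩
  -- part two
  obtain ⟨Q', N, hNn, hN⟩ := hnc
  haveI := hNn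
  haveI hNchar : N.Characteristic := by
    rw [Transfer.complement_eq_pResidual Q' hN]; infer_instance
  set K : Subgroup G := N.map H.subtype with hK
  haveI : K.Normal := inferInstance
  have hKH : K ≤ H := Subgroup.map_subtype_le N
  have hKp : (Nat.card K).Coprime p := by
    rw [Subgroup.card_map_of_injective H.subtype_injective, ← hN.index_eq_card]
    exact ((hp.coprime_iff_not_dvd).mpr Q'.not_dvd_index).symm
  set q := QuotientGroup.mk' K
  have hqs : Function.Surjective q := QuotientGroup.mk'_surjective K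
  set Hb := H.map q with hHb
  haveI : Hb.Normal := Subgroup.Normal.map inferInstance q hqs
  -- p-subgroups of the quotient are cyclic
  haveI hPb : IsCyclic ((P.mapSurjective hqs : Sylow p (G ⧸ K)) : Subgroup (G ⧸ K)) := by
    rw [Sylow.coe_mapSurjective]
    haveI := hP
    exact isCyclic_of_surjective _ (q.subgroupMap_surjective (P : Subgroup G))
  have hHbp : IsPGroup p Hb := by
    have hHQ : Hb = ((Q' : Subgroup H).map H.subtype).map q := by
      refine le_antisymm ?_ (Subgroup.map_mono (Subgroup.map_subtype_le _))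
      rintro _ ⟨h, hh, rfl⟩
      obtain ⟨⟨a, b⟩, hab⟩ := hN.2 ⟨h, hh⟩
      have : (a : H) * (b : H) = (⟨h, hh⟩ : H) := hab
      refine ⟨(b : H), ⟨b, b.2, rfl⟩, ?_⟩
      have h3 : h = ((a : H) : G) * ((b : H) : G) := (congrArg Subtype.val this).symm
      rw [h3, map_mul, show q ((a : H) : G) = 1 from (QuotientGroup.eq_one_iff _).mpr ⟨a, a.2, rfl⟩, one_mul]
    rw [hHQ]; exact (Q'.2.map _).map _
  haveI hHbc : IsCyclic Hb := isCyclic_of_isPGroup _ hPb hHbp
  have hHbne : p ∣ Nat.card Hb := by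
    have h3 : Nat.card Hb = K.relIndex H := by
      rw [hHb, ← Subgroup.relIndex_ker]
      exact congrArg (fun L : Subgroup G => L.relIndex H) (QuotientGroup.ker_mk' K)
    rw [h3]
    have h4 := Subgroup.relIndex_mul_relIndex ⊥ K H bot_le hKH
    rw [Subgroup.relIndex_bot_left, Subgroup.relIndex_bot_left] at h4
    rw [← h4] at h1
    exact hKp.symm.dvd_of_dvd_mul_left h1
  set C := Subgroup.centralizer (Hb : Set (G ⧸ K)) with hC
  haveI : C.Normal := inferInstance
  set D := (commutator C).map C.subtype with hD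
  haveI : D.Normal := inferInstance
  have hDp : (Nat.card D).Coprime p := by
    refine ((hp.coprime_iff_not_dvd).mpr fun hdiv => ?_).symm
    rw [Subgroup.card_map_of_injective C.subtype_injective] at hdiv
    obtain ⟨⟨d, hdC⟩, hdo⟩ := exists_prime_orderOf_dvd_card' p hdiv
    obtain ⟨⟨u, huH⟩, huo⟩ := exists_prime_orderOf_dvd_card' p hHbne
    have huC : u ∈ C := by
      intro w hw
      exact congrArg Subtype.val (IsCyclic.commGroup.mul_comm (⟨w, hw⟩ : Hb) ⟨u, huH⟩)
    let uC : C := ⟨u, huC⟩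
    have hdo' : orderOf d = p := by rw [← hdo, ← Subgroup.orderOf_coe (⟨d, hdC⟩ : commutator C)]
    have huo' : orderOf uC = p := by
      rw [← huo, ← Subgroup.orderOf_coe uC, ← Subgroup.orderOf_coe (⟨u, huH⟩ : Hb)]
    have huZ : uC ∈ Subgroup.center C := Subgroup.mem_center_iff.mpr fun c => Subtype.ext ((c.2 u huH).symm)
    obtain ⟨S, hS⟩ := (IsPGroup.of_card (p := p) (n := 1) (G := Subgroup.zpowers d) (by
      rw [Nat.card_zpowers, hdo', pow_one])).exists_le_sylow
    have hdS : d ∈ (S : Subgroup C) := hS (Subgroup.mem_zpowers d)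
    haveI hSc : IsCyclic (S : Subgroup C) := by
      have := isCyclic_of_isPGroup _ hPb (S.2.map C.subtype)
      exact isCyclic_of_surjective _ ((Subgroup.equivMapOfInjective (S : Subgroup C) _ C.subtype_injective).symm.surjective)
    have huS : uC ∈ (S : Subgroup C) := by
      have hle : Subgroup.zpowers uC ≤ Subgroup.normalizer ((S : Subgroup C) : Set C) :=
        (Subgroup.zpowers_le.mpr huZ).trans ((Subgroup.center_le_centralizer _).trans (Subgroup.centralizer_le_normalizer _))
      have hp' : IsPGroup p (Subgroup.zpowers uC) := IsPGroup.of_card (p := p) (n := 1) (by rw [Nat.card_zpowers, huo', pow_one])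
      rw [← S.3 (hp'.to_sup_of_normal_right' S.2 hle) le_sup_right]
      exact Subgroup.mem_sup_left (Subgroup.mem_zpowers uC)
    have hbot := Transfer.inf_commutator_inf_center_eq_bot (S : Subgroup C)
      ⟨⟨fun a b => IsCyclic.commGroup.mul_comm a b⟩⟩ S.card_coprime_index
    have hu1 : uC ∈ (S : Subgroup C) ⊓ commutator C ⊓ Subgroup.center C := by
      refine ⟨⟨huS, ?_⟩, huZ⟩
      have h5 : (⟨uC, huS⟩ : (S : Subgroup C)) ∈ Subgroup.zpowers (⟨d, hdS⟩ : (S : Subgroup C)) := by
        refine mem_zpowers_of_pow_eq_one (p := p) ?_ ?_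
        · rw [← Subgroup.orderOf_coe, hdo']
        · refine Subtype.ext ?_
          show uC ^ p = 1
          rw [← huo', pow_orderOf_eq_one]
      obtain ⟨j, hj⟩ := h5
      have hj' : d ^ j = uC := congrArg Subtype.val hj
      rw [← hj']
      exact Subgroup.zpow_mem _ hdC j
    rw [hbot, Subgroup.mem_bot] at hu1
    rw [hu1, orderOf_one] at huo'
    exact hp.ne_one huo'.symm
  refine ClassIndex.isPSolvable_of_ext K (Or.inr hKp) (ClassIndex.isPSolvable_of_ext D (Or.inr hDp)
    (ClassIndex.isPSolvable_of_isSolvable _ ?_))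
  -- the second derived subgroup lies in D
  have hle1 : commutator (G ⧸ K) ≤ C := by
    rw [commutator_def, Subgroup.commutator_le]
    intro a _ b _ w hw
    obtain ⟨⟨g₀, hg₀⟩, hgen⟩ := IsCyclic.exists_zpow_surjective (G := Hb)
    have hnorm : ∀ c : G ⧸ K, c * g₀ * c⁻¹ ∈ Hb := fun c => (inferInstance : Hb.Normal).conj_mem g₀ hg₀ c
    have hpow : ∀ c : G ⧸ K, ∃ i : ℤ, ∀ w ∈ Hb, MulAut.conj c w = w ^ i := by
      intro c
      obtain ⟨i, hi⟩ := hgen ⟨_, hnorm c⟩
      have hi' : g₀ ^ i = c * g₀ * c⁻¹ := congrArg Subtype.val hi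
      refine ⟨i, fun w hw => ?_⟩
      obtain ⟨j, hj⟩ := hgen ⟨w, hw⟩
      have hj' : g₀ ^ j = w := congrArg Subtype.val hj
      rw [← hj', map_zpow, MulAut.conj_apply, ← hi', ← zpow_mul, ← zpow_mul, mul_comm]
    obtain ⟨i, hi⟩ := hpow a
    obtain ⟨j, hj⟩ := hpow b
    have e1 : ∀ v ∈ Hb, a * v * a⁻¹ = v ^ i := fun v hv => by simpa [MulAut.conj_apply] using hi v hv
    have e2 : ∀ v ∈ Hb, b * v * b⁻¹ = v ^ j := fun v hv => by simpa [MulAut.conj_apply] using hj v hv
    set w' := (b * a)⁻¹ * w * (b * a) with hw'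
    have hw2 : w' ∈ Hb := by
      simpa [mul_assoc, hw'] using (inferInstance : Hb.Normal).conj_mem w hw (b * a)⁻¹
    have h6 : a * (b * w' * b⁻¹) * a⁻¹ = w := by
      rw [e2 w' hw2, e1 _ (Subgroup.zpow_mem _ hw2 _), ← zpow_mul, mul_comm, zpow_mul,
        ← e2 _ (Subgroup.zpow_mem _ hw2 _), ← e1 w' hw2, hw']
      group
    rw [commutatorElement_def]
    calc w * (a * b * a⁻¹ * b⁻¹) = a * (b * w' * b⁻¹) * a⁻¹ * (a * b * a⁻¹ * b⁻¹) := by rw [h6]
      _ = a * b * a⁻¹ * b⁻¹ * w := by rw [hw']; group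
  rw [Group.isSolvable_def]
  refine ⟨2, ?_⟩
  rw [← map_derivedSeries_eq (QuotientGroup.mk'_surjective D), Subgroup.map_eq_bot_iff, QuotientGroup.ker_mk']
  have h2d : derivedSeries (G ⧸ K) 2 ≤ ⁅C, C⁆ := by
    rw [derivedSeries_succ, derivedSeries_one]
    exact Subgroup.commutator_mono hle1 hle1
  refine h2d.trans (le_of_eq ?_)
  rw [hD, Subgroup.map_subtype_commutator]

end Cfsg.Agent.S4145
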