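import Cfsg.Statements.S4160
import Cfsg.Agent.EqLemmas

set_option autoImplicit false
open Cfsg

namespace Cfsg.Agent.S4160


section
variable {G : Type*} [Group G] [Finite G]

theorem exists_conj_mem_centralizer {p : ℕ} [hp : Fact p.Prime] (P : Sylow p G) (x : G)
    (h : ¬ p ∣ (Subgroup.centralizer ({x} : Set G)).index) :
    ∃ g : G, g⁻¹ * x * g ∈ Subgroup.centralizer ((P : Subgroup G) : Set G) := by
  set C := Subgroup.centralizer ({x} : Set G) with hC
  obtain ⟨S⟩ : Nonempty (Sylow p C) := inferInstance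
  have hS : Nat.card ((S : Subgroup C).map C.subtype) = p ^ (Nat.card G).factorization p := by
    rw [Subgroup.card_map_of_injective C.subtype_injective, S.card_eq_multiplicity,
      ← C.card_mul_index, Nat.factorization_mul Nat.card_pos.ne' Subgroup.index_ne_zero_of_finite,
      Finsupp.add_apply, Nat.factorization_eq_zero_of_not_dvd h, add_zero]
  let S' : Sylow p G := Sylow.ofCard ((S : Subgroup C).map C.subtype) hS
  obtain ⟨g, hg⟩ := MulAction.exists_smul_eq G P S'
  refine ⟨g, Subgroup.mem_centralizer_iff.2 fun y hy => ?_⟩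
  have hy' : g * y * g⁻¹ ∈ ((g • P : Sylow p G) : Subgroup G) := by
    rw [Sylow.coe_subgroup_smul, Subgroup.mem_pointwise_smul_iff_inv_smul_mem, MulAut.smul_def]
    simpa [mul_assoc] using! hy
  rw [hg] at hy'
  have hy2 : g * y * g⁻¹ ∈ (S : Subgroup C).map C.subtype := hy'
  have h1 := Subgroup.mem_centralizer_singleton_iff.1 (Subgroup.map_subtype_le _ hy2)
  calc y * (g⁻¹ * x * g) = g⁻¹ * ((g * y * g⁻¹) * x) * g := by group
    _ = g⁻¹ * (x * (g * y * g⁻¹)) * g := by rw [h1]
    _ = _ := by group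

/-- A subgroup with self-normalizing centralizer gives a normal complement. -/
theorem hnpc_of_normalizer_le {p : ℕ} [Fact p.Prime] (P : Sylow p G)
    (h : Subgroup.normalizer (Subgroup.centralizer ((P : Subgroup G) : Set G) : Set G) ≤
      Subgroup.centralizer ((P : Subgroup G) : Set G)) : Cfsg.HasNormalPComplement p G := by
  have hP : Subgroup.normalizer (P : Subgroup G) ≤ Subgroup.centralizer (P : Set G) := by
    intro g hg
    have hg' : g ∈ Subgroup.normalizer ((P : Subgroup G) : Set G) := hg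
    refine h (Subgroup.mem_normalizer_fintype fun z hz => ?_)
    rw [SetLike.mem_coe, Subgroup.mem_centralizer_iff] at hz ⊢
    intro y hy
    have hy' : g⁻¹ * y * g ∈ (P : Subgroup G) := by
      refine (Subgroup.mem_normalizer_iff.1 hg' _).2 ?_
      have e : g * (g⁻¹ * y * g) * g⁻¹ = y := by group
      rwa [e]
    calc y * (g * z * g⁻¹) = g * ((g⁻¹ * y * g) * z) * g⁻¹ := by group
      _ = g * (z * (g⁻¹ * y * g)) * g⁻¹ := by rw [hz _ hy']
      _ = _ := by group
  exact ⟨P, (MonoidHom.transferSylow P hP).ker, inferInstance,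
    MonoidHom.ker_transferSylow_isComplement' P hP⟩

theorem exists_self_normalizing (A B : Subgroup G)
    (h : ∀ x : G, ∃ g : G, g⁻¹ * x * g ∈ A ∨ g⁻¹ * x * g ∈ B) :
    Subgroup.normalizer (A : Set G) ≤ A ∨ Subgroup.normalizer (B : Set G) ≤ B := by
  classical
  by_contra hc
  rw [not_or] at hc
  obtain ⟨hA, hB⟩ := hc
  let D : Subgroup G → Type _ := fun H =>
    (G ⧸ Subgroup.normalizer (H : Set G)) × {a : H // a ≠ 1}
  let f : ∀ H : Subgroup G, D H → G := fun H z =>
    Quotient.out z.1 * (z.2.1 : G) * (Quotient.out z.1)⁻¹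
  have hsurj : ∀ (H : Subgroup G) (x g : G), x ≠ 1 → g⁻¹ * x * g ∈ H → x ∈ Set.range (f H) := by
    intro H x g hx hmem
    obtain ⟨n, hn⟩ := QuotientGroup.mk_out_eq_mul (Subgroup.normalizer (H : Set G)) g
    have hmem' : (n : G)⁻¹ * (g⁻¹ * x * g) * n ∈ H := by
      have := (Subgroup.mem_normalizer_iff.1 (Subgroup.inv_mem _ n.2) _).1 hmem
      rwa [inv_inv] at this
    refine ⟨((g : G ⧸ Subgroup.normalizer (H : Set G)), ⟨⟨_, hmem'⟩, fun h => hx ?_⟩), ?_⟩
    · have h' : (n : G)⁻¹ * (g⁻¹ * x * g) * n = 1 := congrArg Subtype.val h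
      calc x = g * n * ((n : G)⁻¹ * (g⁻¹ * x * g) * n) * (g * n)⁻¹ := by group
        _ = 1 := by rw [h']; group
    · show Quotient.out _ * _ * _ = x
      rw [hn]
      group
  have hle : Nat.card {x : G // x ≠ 1} ≤ Nat.card (D A ⊕ D B) := by
    have hf : ∀ x : {x : G // x ≠ 1}, ∃ z : D A ⊕ D B, Sum.elim (f A) (f B) z = x := by
      rintro ⟨x, hx⟩
      obtain ⟨g, hg | hg⟩ := h x
      · obtain ⟨z, hz⟩ := hsurj A x g hx hg
        exact ⟨Sum.inl z, hz⟩
      · obtain ⟨z, hz⟩ := hsurj B x g hx hg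
        exact ⟨Sum.inr z, hz⟩
    choose z hz using hf
    exact Nat.card_le_card_of_injective z fun a b hab => Subtype.ext (by rw [← hz a, ← hz b, hab])
  have hcard : ∀ H : Subgroup G, ¬ Subgroup.normalizer (H : Set G) ≤ H →
      2 * Nat.card (D H) + 2 ≤ Nat.card G := by
    intro H hH
    set i := (Subgroup.normalizer (H : Set G)).index
    have h1 : Nat.card {a : H // a ≠ 1} + 1 = Nat.card H := by
      have : Nat.card (Option {a : H // a ≠ 1}) = Nat.card H :=
        Nat.card_congr (Equiv.optionSubtypeNe (1 : H))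
      rwa [Finite.card_option] at this
    have h2 : 2 * Nat.card H ≤ Nat.card (Subgroup.normalizer (H : Set G)) := by
      obtain ⟨k, hk⟩ := Subgroup.card_dvd_of_le (Subgroup.le_normalizer (H := H))
      rcases Nat.lt_or_ge k 2 with hk2 | hk2
      · exfalso
        refine hH (Subgroup.eq_of_le_of_card_ge Subgroup.le_normalizer ?_).ge
        rw [hk]
        interval_cases k <;> simp
      · rw [hk, mul_comm 2]; exact Nat.mul_le_mul_left _ hk2
    have h3 := Nat.mul_le_mul_left i h2
    rw [Subgroup.index_mul_card] at h3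
    have h4 : Nat.card (D H) + i = i * Nat.card H := by
      rw [Nat.card_prod, ← Subgroup.index_eq_card, ← h1]; ring
    have h5 : 1 ≤ i := Nat.pos_of_ne_zero Subgroup.index_ne_zero_of_finite
    have h6 : i * (2 * Nat.card H) = 2 * (i * Nat.card H) := by ring
    omega
  have h1 := hcard A hA
  have h2 := hcard B hB
  have htot : Nat.card {x : G // x ≠ 1} + 1 = Nat.card G := by
    have : Nat.card (Option {a : G // a ≠ 1}) = Nat.card G := Nat.card_congr (Equiv.optionSubtypeNe (1 : G))
    rwa [Finite.card_option] at this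
  rw [Nat.card_sum] at hle
  omega

end

/-- Let G be a finite group and p ≠ q primes each dividing the size of some conjugacy class of G, such that no conjugacy class size is divisible by pq. Then G has a normal p-complement or a normal q-complement. -/
theorem result {G : Type*} [Group G] [Finite G] (p q : ℕ) (hp : p.Prime) (hq : q.Prime) (hpq : p ≠ q)
    (hp' : ∃ x : G, p ∣ (Subgroup.centralizer ({x} : Set G)).index) (hq' : ∃ x : G, q ∣ (Subgroup.centralizer ({x} : Set G)).index) (h : ∀ x : G, ¬ p * q ∣ (Subgroup.centralizer ({x} : Set G)).index) :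
    Cfsg.HasNormalPComplement p G ∨ Cfsg.HasNormalPComplement q G := by
  haveI := Fact.mk hp
  haveI := Fact.mk hq
  obtain ⟨P⟩ : Nonempty (Sylow p G) := inferInstance
  obtain ⟨Q⟩ : Nonempty (Sylow q G) := inferInstance
  have hcov : ∀ x : G, ∃ g : G, g⁻¹ * x * g ∈ Subgroup.centralizer ((P : Subgroup G) : Set G) ∨
      g⁻¹ * x * g ∈ Subgroup.centralizer ((Q : Subgroup G) : Set G) := by
    intro x
    by_cases hx : p ∣ (Subgroup.centralizer ({x} : Set G)).index
    · have hxq : ¬ q ∣ (Subgroup.centralizer ({x} : Set G)).index := fun hd =>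
        h x (((Nat.coprime_primes hp hq).2 hpq).mul_dvd_of_dvd_of_dvd hx hd)
      obtain ⟨g, hg⟩ := exists_conj_mem_centralizer Q x hxq
      exact ⟨g, Or.inr hg⟩
    · obtain ⟨g, hg⟩ := exists_conj_mem_centralizer P x hx
      exact ⟨g, Or.inl hg⟩
  rcases exists_self_normalizing _ _ hcov with h' | h'
  · exact Or.inl (hnpc_of_normalizer_le P h')
  · exact Or.inr (hnpc_of_normalizer_le Q h')

end Cfsg.Agent.S4160
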