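import Cfsg.Statements.S4149
import Cfsg.Agent.S4160

set_option autoImplicit false
open Cfsg

namespace Cfsg.Agent.S4149

/-- For a prime for which the group has no normal complement, at most half of the elements have
class size prime to it. -/
theorem two_mul_card_free_le {G : Type*} [Group G] [Finite G] {p : ℕ} [Fact p.Prime]
    (hnc : ¬ Cfsg.HasNormalPComplement p G) :
    2 * Nat.card {x : G // ¬ p ∣ (Subgroup.centralizer ({x} : Set G)).index} ≤ Nat.card G := by
  classical
  obtain ⟨P⟩ : Nonempty (Sylow p G) := inferInstance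
  set C := Subgroup.centralizer ((P : Subgroup G) : Set G) with hC
  set N := Subgroup.normalizer (C : Set G) with hN
  have hle : C ≤ N := Subgroup.le_normalizer
  have hlt : C < N := lt_of_le_of_ne hle fun he =>
    hnc (S4160.hnpc_of_normalizer_le P (le_of_eq he.symm))
  let F : (G ⧸ N) × {c : C // c ≠ 1} → G := fun t => t.1.out * (t.2.1 : G) * t.1.out⁻¹
  have hcov : {x : G | ¬ p ∣ (Subgroup.centralizer ({x} : Set G)).index} ⊆
      insert 1 (Set.range F) := by
    intro x hx
    obtain ⟨g, hg⟩ := S4160.exists_conj_mem_centralizer P x hx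
    by_cases h1 : x = 1
    · exact Or.inl h1
    refine Or.inr ?_
    set r := (QuotientGroup.mk g : G ⧸ N).out with hr
    have hn : r⁻¹ * g ∈ N := by
      rw [← QuotientGroup.eq, hr, QuotientGroup.out_eq']
    have hc : r⁻¹ * x * r ∈ C := by
      have h2 := (Subgroup.mem_normalizer_iff.1 hn (g⁻¹ * x * g)).1 hg
      have e : (r⁻¹ * g) * (g⁻¹ * x * g) * (r⁻¹ * g)⁻¹ = r⁻¹ * x * r := by group
      rwa [e] at h2
    refine ⟨(QuotientGroup.mk g, ⟨⟨_, hc⟩, fun hce => h1 ?_⟩), ?_⟩
    · have h3 : r⁻¹ * x * r = 1 := congrArg Subtype.val hce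
      calc x = r * (r⁻¹ * x * r) * r⁻¹ := by group
        _ = 1 := by rw [h3]; group
    · show r * (r⁻¹ * x * r) * r⁻¹ = x
      group
  have hcard : Nat.card {x : G // ¬ p ∣ (Subgroup.centralizer ({x} : Set G)).index} ≤
      N.index * (Nat.card C - 1) + 1 := by
    have h1 : Nat.card {c : C // c ≠ 1} = Nat.card C - 1 := by
      letI := Fintype.ofFinite C
      rw [Nat.card_eq_fintype_card, Nat.card_eq_fintype_card, Fintype.card_subtype_compl]
      simp
    calc Nat.card {x : G // ¬ p ∣ (Subgroup.centralizer ({x} : Set G)).index}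
        = Set.ncard {x : G | ¬ p ∣ (Subgroup.centralizer ({x} : Set G)).index} :=
          Nat.card_coe_set_eq _
      _ ≤ Set.ncard (insert 1 (Set.range F)) := Set.ncard_le_ncard hcov (Set.toFinite _)
      _ ≤ Set.ncard (Set.range F) + 1 := Set.ncard_insert_le _ _
      _ ≤ N.index * (Nat.card C - 1) + 1 := by
          rw [← Nat.card_coe_set_eq, ← h1, N.index_eq_card, ← Nat.card_prod]
          exact Nat.add_le_add_right (Finite.card_range_le F) 1
  obtain ⟨k, hk⟩ : Nat.card C ∣ Nat.card N := Subgroup.card_dvd_of_le hle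
  have hN2 : 2 ≤ k := by
    have hne : Nat.card C ≠ Nat.card N := fun he =>
      hlt.ne (Subgroup.eq_of_le_of_card_ge hle he.ge)
    rcases k with _ | _ | k
    · simp at hk; exact absurd hk Nat.card_pos.ne'
    · exact absurd (by simpa using hk.symm) hne
    · omega
  have hG : Nat.card C * k * N.index = Nat.card G := by rw [← hk, Subgroup.card_mul_index]
  have hi : 1 ≤ N.index := Nat.one_le_iff_ne_zero.2 Subgroup.index_ne_zero_of_finite
  have hc1 : 1 ≤ Nat.card C := Nat.card_pos
  obtain ⟨c, hc⟩ := Nat.exists_eq_add_of_le hc1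
  rw [hc, Nat.add_sub_cancel_left] at hcard
  rw [hc] at hG
  nlinarith [Nat.mul_le_mul_left ((1 + c) * N.index) hN2]

/-- Let G be a finite group that has a normal p-complement for at most one prime p dividing its order, and let σ be a natural number such that every conjugacy class size of G has at most σ distinct prime divisors. Then the number of primes dividing at least one conjugacy class size of G is at most 2σ. -/
theorem result {G : Type*} [Group G] [Finite G] (σ : ℕ)
    (hσ : ∀ x : G, ((Subgroup.centralizer ({x} : Set G)).index).primeFactors.card ≤ σ)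
    (hnil : ∀ p q : ℕ, p.Prime → q.Prime → p ∣ Nat.card G → q ∣ Nat.card G →
      Cfsg.HasNormalPComplement p G → Cfsg.HasNormalPComplement q G → p = q) :
    Nat.card {p : ℕ | p.Prime ∧ ∃ x : G, p ∣ (Subgroup.centralizer ({x} : Set G)).index} ≤ 2 * σ := by
  classical
  letI := Fintype.ofFinite G
  set idx : G → ℕ := fun x => (Subgroup.centralizer ({x} : Set G)).index with hidx
  have hdG : ∀ p : ℕ, (∃ x : G, p ∣ idx x) → p ∣ Nat.card G := fun p ⟨x, hx⟩ =>
    hx.trans (Subgroup.index_dvd_card _)
  set ρ : Finset ℕ := (Nat.card G).primeFactors.filter fun p => ∃ x : G, p ∣ idx x with hρ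
  have hset : {p : ℕ | p.Prime ∧ ∃ x : G, p ∣ (Subgroup.centralizer ({x} : Set G)).index} =
      (ρ : Set ℕ) := by
    ext p
    simp only [hρ, Finset.coe_filter, Nat.mem_primeFactors, Set.mem_setOf_eq]
    exact ⟨fun ⟨hp, hx⟩ => ⟨⟨hp, hdG p hx, Nat.card_pos.ne'⟩, hx⟩, fun ⟨⟨hp, _⟩, hx⟩ => ⟨hp, hx⟩⟩
  rw [hset, Nat.card_coe_set_eq, Set.ncard_coe_finset]
  -- count pairs
  set good : ℕ → Finset G := fun p => Finset.univ.filter fun x => p ∣ idx x with hgood
  have hupper : ∑ p ∈ ρ, (good p).card + σ ≤ σ * Nat.card G := by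
    have h1 : ∑ p ∈ ρ, (good p).card = ∑ x : G, (ρ.filter fun p => p ∣ idx x).card := by
      simp only [hgood, Finset.card_filter]
      exact Finset.sum_comm
    rw [h1, ← Finset.add_sum_erase _ _ (Finset.mem_univ (1 : G))]
    have h0 : (ρ.filter fun p => p ∣ idx 1).card = 0 := by
      rw [Finset.card_eq_zero, Finset.filter_eq_empty_iff]
      intro p hp hd
      have hp' := (Nat.mem_primeFactors.1 (Finset.mem_filter.1 hp).1).1
      have hi : idx 1 = 1 := by
        rw [hidx]
        exact Subgroup.index_eq_one.2 (eq_top_iff.2 fun g _ =>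
          Subgroup.mem_centralizer_singleton_iff.2 (by simp))
      rw [hi] at hd
      exact hp'.not_dvd_one hd
    have h2 : ∑ x ∈ (Finset.univ.erase (1 : G)), (ρ.filter fun p => p ∣ idx x).card ≤
        (Finset.univ.erase (1 : G)).card * σ := by
      refine (Finset.sum_le_card_nsmul _ _ σ fun x _ => ?_).trans (by simp)
      refine (Finset.card_le_card fun p hp => ?_).trans (hσ x)
      obtain ⟨hp1, hp2⟩ := Finset.mem_filter.1 hp
      exact Nat.mem_primeFactors.2 ⟨(Nat.mem_primeFactors.1 (Finset.mem_filter.1 hp1).1).1, hp2,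
        Subgroup.index_ne_zero_of_finite⟩
    rw [Finset.card_erase_of_mem (Finset.mem_univ _), Finset.card_univ,
      ← Nat.card_eq_fintype_card] at h2
    have hpos : 1 ≤ Nat.card G := Nat.card_pos
    obtain ⟨m, hm⟩ := Nat.exists_eq_add_of_le hpos
    rw [hm, Nat.add_sub_cancel_left] at h2
    rw [h0, hm]
    linarith [mul_comm m σ]
  have hhalf : ∀ p ∈ ρ, ¬ Cfsg.HasNormalPComplement p G → Nat.card G ≤ 2 * (good p).card := by
    intro p hp hnc
    haveI := Fact.mk (Nat.mem_primeFactors.1 (Finset.mem_filter.1 hp).1).1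
    have hb := two_mul_card_free_le hnc
    have hsum : (good p).card + (Finset.univ.filter fun x : G => ¬ p ∣ idx x).card = Nat.card G := by
      rw [Nat.card_eq_fintype_card, ← Finset.card_univ]
      exact Finset.card_filter_add_card_filter_not _
    rw [Nat.card_eq_fintype_card, Fintype.card_subtype] at hb
    simp only [hidx] at hsum
    omega
  set E := ρ.filter fun p => Cfsg.HasNormalPComplement p G with hE
  have hE1 : E.card ≤ 1 := Finset.card_le_one.2 fun p hp q hq => by
    obtain ⟨hp1, hp2⟩ := Finset.mem_filter.1 hp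
    obtain ⟨hq1, hq2⟩ := Finset.mem_filter.1 hq
    obtain ⟨hp3, hp4, -⟩ := Nat.mem_primeFactors.1 (Finset.mem_filter.1 hp1).1
    obtain ⟨hq3, hq4, -⟩ := Nat.mem_primeFactors.1 (Finset.mem_filter.1 hq1).1
    exact hnil p q hp3 hq3 hp4 hq4 hp2 hq2
  have hlow : (ρ \ E).card * Nat.card G + 2 * E.card ≤ 2 * ∑ p ∈ ρ, (good p).card := by
    rw [← Finset.sum_sdiff (Finset.filter_subset _ ρ : E ⊆ ρ), mul_add, Finset.mul_sum, Finset.mul_sum]
    refine add_le_add ?_ ?_
    · refine le_trans (le_of_eq ?_) (Finset.sum_le_sum fun p hp => hhalf p (Finset.mem_sdiff.1 hp).1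
        fun hc => (Finset.mem_sdiff.1 hp).2 (Finset.mem_filter.2 ⟨(Finset.mem_sdiff.1 hp).1, hc⟩))
      simp [hE]
    · refine le_trans (le_of_eq ?_) (Finset.sum_le_sum fun p hp => (?_ : (2 : ℕ) ≤ 2 * (good p).card))
      · simp [mul_comm, hE]
      · obtain ⟨x, hx⟩ := (Finset.mem_filter.1 (Finset.mem_filter.1 hp).1).2
        have : 0 < (good p).card := Finset.card_pos.2 ⟨x, by simp [hgood, hx]⟩
        omega
  have hsd : (ρ \ E).card + E.card = ρ.card :=
    Finset.card_sdiff_add_card_eq_card (Finset.filter_subset _ ρ)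
  have hpos : 0 < Nat.card G := Nat.card_pos
  by_contra hcon
  have h2 : 2 * σ ≤ (ρ \ E).card := by omega
  have h3 := Nat.mul_le_mul_right (Nat.card G) h2
  rcases Nat.eq_zero_or_pos σ with hs | hs
  · subst hs
    simp only [Nat.zero_mul, Nat.add_zero] at hupper
    have h4 : 0 < (ρ \ E).card + 2 * E.card := by omega
    rcases Nat.eq_zero_or_pos (ρ \ E).card with he | he
    · rw [he] at hlow; omega
    · have := Nat.mul_pos he hpos; omega
  · linarith

end Cfsg.Agent.S4149
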