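import Cfsg.Statements.S4150
import Cfsg.Agent.EqLemmas
import Cfsg.Agent.Lib.ClassIndex.GapPrimes
import Cfsg.Agent.Lib.ClassIndex.TwinDegree

set_option autoImplicit false
open Cfsg

namespace Cfsg.Agent.S4150


open Equiv Equiv.Perm PrimeCycles

section
variable {α : Type*} [Fintype α] [DecidableEq α] {H : Subgroup (Perm α)}

theorem exists_fixed_conj {K : Type*} [Group K] [Finite K] {p n : ℕ} (hp : p.Prime) {x : K}
    (hx : orderOf x = p) (M : Subgroup K) [M.Normal] (hsmall : Nat.card M ≤ p + 1) {t : M}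
    (ht : orderOf t = n) (hn : 1 < n) (hs : ∃ s : M, s ≠ 1 ∧ orderOf s ≠ n) :
    x * (t : K) * x⁻¹ = t := by
  classical
  haveI : Fintype M := Fintype.ofFinite M
  let S := {u : M // orderOf u = n}
  have hcard : Nat.card S < p := by
    obtain ⟨s, hs1, hsn⟩ := hs
    rw [Nat.card_eq_fintype_card, Fintype.card_subtype]
    have hsub : (Finset.univ.filter fun u : M => orderOf u = n) ⊆ ({1, s} : Finset M)ᶜ := by
      intro u hu
      rw [Finset.mem_filter] at hu
      simp only [Finset.mem_compl, Finset.mem_insert, Finset.mem_singleton]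
      rintro (rfl | rfl)
      · rw [orderOf_one] at hu; omega
      · exact hsn hu.2
    have h2 : ({1, s} : Finset M).card = 2 := Finset.card_pair hs1.symm
    have h3 := Finset.card_le_card hsub
    rw [Finset.card_compl, h2] at h3
    have h4 := Finset.card_le_univ ({1, s} : Finset M)
    rw [h2] at h4
    rw [Nat.card_eq_fintype_card] at hsmall
    omega
  let σ : MulAut M := MulAut.conjNormal x
  let τ : Perm S := Equiv.subtypeEquiv σ.toEquiv (fun u => by
    show _ ↔ orderOf (σ u) = n
    rw [MulEquiv.orderOf_eq])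
  have hτpow : ∀ (k : ℕ) (u : S), (((τ ^ k) u : S) : M) = (σ ^ k) (u : M) := by
    intro k
    induction k with
    | zero => simp
    | succ k ih =>
      intro u
      rw [pow_succ', pow_succ', Perm.mul_apply, MulAut.mul_apply, ← ih]
      rfl
  have hτ : τ = 1 := by
    have h11 : τ ^ p = 1 := by
      ext u
      rw [Perm.one_apply, hτpow p u, ← map_pow, show x ^ p = 1 by rw [← hx, pow_orderOf_eq_one],
        map_one, MulAut.one_apply]
    rcases (Nat.dvd_prime hp).1 (orderOf_dvd_of_pow_eq_one h11) with h | h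
    · exact orderOf_eq_one_iff.1 h
    · exfalso
      haveI := Fintype.ofFinite S
      have hd := orderOf_dvd_natCard τ
      rw [h, Nat.card_perm, hp.dvd_factorial] at hd
      omega
  rw [← MulAut.conjNormal_apply (H := M) x t]
  exact congrArg Subtype.val (congrArg Subtype.val (congrArg (fun e : Perm S => e ⟨t, ht⟩) hτ))

theorem index_cases {G : Type*} [Group G] [Finite G] [IsSimpleGroup G] (K : Subgroup G) (hK : K ≠ ⊤) :
    Nat.card G ∣ K.index.factorial := by
  have hker : (MulAction.toPermHom G (G ⧸ K)).ker = ⊥ := by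
    rcases IsSimpleGroup.eq_bot_or_eq_top_of_normal (MulAction.toPermHom G (G ⧸ K)).ker inferInstance with h | h
    · exact h
    · exfalso
      apply hK
      rw [← Subgroup.normalCore_eq_ker] at h
      exact top_le_iff.1 (h.ge.trans K.normalCore_le)
  have := Subgroup.card_dvd_of_injective _ ((MonoidHom.ker_eq_bot_iff _).1 hker)
  rwa [Nat.card_perm, ← Subgroup.index_eq_card] at this

theorem iso_five {G : Type*} [Group G] [Finite G] [IsSimpleGroup G] (K : Subgroup G) (hi : K.index = 6)
    (hG : Nat.card G = 360) : Nonempty (K ≃* alternatingGroup (Fin 5)) := by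
  classical
  haveI : Fintype (G ⧸ K) := Fintype.ofFinite _
  have hcard : Fintype.card (G ⧸ K) = 6 := by rw [← Nat.card_eq_fintype_card, ← Subgroup.index_eq_card, hi]
  have hKc : Nat.card K = 60 := by
    have := K.card_mul_index
    rw [hi, hG] at this
    omega
  set φ := MulAction.toPermHom G (G ⧸ K) with hφ
  have hinj : Function.Injective φ := by
    rw [← MonoidHom.ker_eq_bot_iff]
    rcases IsSimpleGroup.eq_bot_or_eq_top_of_normal φ.ker inferInstance with h | h
    · exact h
    · exfalso
      rw [hφ, ← Subgroup.normalCore_eq_ker] at h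
      have : K = ⊤ := top_le_iff.1 (h.ge.trans K.normalCore_le)
      rw [this, Subgroup.index_top] at hi
      omega
  have hsign : ∀ g, sign (φ g) = 1 := by
    rcases IsSimpleGroup.eq_bot_or_eq_top_of_normal ((sign : Perm (G ⧸ K) →* ℤˣ).comp φ).ker inferInstance with h | h
    · exfalso
      have := Nat.card_le_card_of_injective _ ((MonoidHom.ker_eq_bot_iff _).1 h)
      rw [hG, Nat.card_eq_fintype_card, Fintype.card_units_int] at this
      omega
    · intro g
      exact MonoidHom.mem_ker.1 (show g ∈ ((sign : Perm (G ⧸ K) →* ℤˣ).comp φ).ker by rw [h]; trivial)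
  let q0 : G ⧸ K := ((1 : G) : G ⧸ K)
  have hfix : ∀ k : K, φ k q0 = q0 := by
    intro k
    show ((((k : G) * 1 : G)) : G ⧸ K) = _
    rw [QuotientGroup.eq]
    simp
  have hpres : ∀ (k : K) q, φ k q ≠ q0 ↔ q ≠ q0 := fun k q =>
    not_congr ⟨fun h => (φ k).injective (h.trans (hfix k).symm), fun h => h ▸ hfix k⟩
  let ψ : K →* Perm {q : G ⧸ K // q ≠ q0} :=
    { toFun := fun k => (φ k).subtypePerm (hpres k)
      map_one' := by ext q; simp
      map_mul' := fun a b => Equiv.ext fun q => Subtype.ext (by simp only [Subgroup.coe_mul, map_mul]; rfl) }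
  have hψ : ∀ k, ψ k ∈ alternatingGroup {q : G ⧸ K // q ≠ q0} := by
    intro k
    rw [mem_alternatingGroup]
    show sign ((φ k).subtypePerm (hpres k)) = 1
    refine Eq.trans ?_ (hsign k)
    convert sign_subtypePerm (φ k) (hpres k) (fun q hq (h : q = q0) => hq (by rw [h]; exact hfix k))
  have hψinj : Function.Injective (ψ.codRestrict (alternatingGroup _) hψ) := by
    rw [injective_iff_map_eq_one]
    intro k hk
    refine Subtype.ext (hinj ?_)
    rw [OneMemClass.coe_one, map_one]
    ext q
    by_cases h : q = q0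
    · rw [h, hfix]; rfl
    · exact congrArg Subtype.val (congrArg (fun e : Perm {q : G ⧸ K // q ≠ q0} => e ⟨q, h⟩)
        (congrArg Subtype.val hk))
  have h5 : Fintype.card {q : G ⧸ K // q ≠ q0} = 5 := by
    simp [Fintype.card_subtype_compl, hcard]
  haveI : Nontrivial {q : G ⧸ K // q ≠ q0} := Fintype.one_lt_card_iff_nontrivial.1 (by omega)
  have hA : Nat.card (alternatingGroup {q : G ⧸ K // q ≠ q0}) = Nat.card K := by
    rw [nat_card_alternatingGroup, Nat.card_eq_fintype_card, h5, hKc]; rfl
  exact ⟨(MulEquiv.ofBijective _ ((Nat.bijective_iff_injective_and_card _).2 ⟨hψinj, hA.symm⟩)).trans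
    (Equiv.altCongrHom (Fintype.equivFinOfCardEq h5))⟩

theorem card_alternating (n : ℕ) (hn : 5 ≤ n) (hcard : Fintype.card α = n) :
    Nat.card (alternatingGroup α) = n.factorial / 2 := by
  haveI : Nontrivial α := Fintype.one_lt_card_iff_nontrivial.1 (by omega)
  rw [nat_card_alternatingGroup, Nat.card_eq_fintype_card, hcard]

theorem pow_eq_of_conj {x y : Perm α} {q n r : ℕ} (hy : orderOf y = q) (hx : x ^ n = 1)
    (hr : x * y * x⁻¹ = y ^ r) : r ^ n ≡ 1 [MOD q] := by
  have h := TwinDegree.pow_mul_conj hr n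
  rw [hx, one_mul, inv_one, mul_one] at h
  rw [← hy, ← pow_eq_pow_iff_modEq, pow_one]
  exact h.symm

theorem alternating_le_seven (hcard : Fintype.card α = 7) (hH : H ≤ alternatingGroup α)
    [MulAction.IsPretransitive H α] {x y : Perm α} (hx : x ∈ H) (hxc : x.IsCycle)
    (hx5 : x.support.card = 5) (hy : y ∈ H) (hyc : y.IsCycle) (hy7 : y.support.card = 7) :
    alternatingGroup α ≤ H := by
  classical
  have hyp : y.support.card.Prime := by rw [hy7]; norm_num
  have hG := isPreprimitive_of_big_cycle hy hyc hyp (by omega)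
  have h3 := isMultiplyPretransitive_three hG hx hxc (by rw [hx5]; norm_num) (by omega)
  have h210 : 210 ∣ Nat.card H := by
    obtain ⟨e⟩ : Nonempty (Fin 3 ↪ α) := Function.Embedding.nonempty_of_card_le (by simp [hcard])
    have hu : MulAction.orbit H e = Set.univ := Set.eq_univ_of_forall fun u => h3.exists_smul_eq e u
    have h := (MulAction.stabilizer H e).index_mul_card
    rw [MulAction.index_stabilizer] at h
    erw [hu] at h
    rw [Set.ncard_univ, Nat.card_eq_fintype_card, Fintype.card_embedding_eq, hcard,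
      Fintype.card_fin] at h
    exact ⟨Nat.card (MulAction.stabilizer H e), h.symm.trans rfl⟩
  haveI : IsSimpleGroup (alternatingGroup α) :=
    alternatingGroup.isSimpleGroup (by rw [Nat.card_eq_fintype_card]; omega)
  set K := H.subgroupOf (alternatingGroup α) with hK
  have hKc : Nat.card K = Nat.card H := Nat.card_congr (Subgroup.subgroupOfEquivOfLe hH).toEquiv
  have hmul := K.card_mul_index
  rw [card_alternating 7 (by norm_num) hcard, hKc] at hmul
  by_contra hnot
  have hKtop : K ≠ ⊤ := fun h => hnot (Subgroup.subgroupOf_eq_top.1 h)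
  have hdvd := index_cases K hKtop
  rw [card_alternating 7 (by norm_num) hcard] at hdvd
  have h12 : K.index ∣ 12 := by
    obtain ⟨t, ht⟩ := h210
    refine ⟨t, ?_⟩
    rw [ht] at hmul
    norm_num [Nat.factorial] at hmul
    linarith
  have hk12 : K.index = 12 := by
    have hle := Nat.le_of_dvd (by norm_num) h12
    interval_cases hk : K.index <;> first | rfl | omega | norm_num [Nat.factorial] at hdvd
  have hH210 : Nat.card H = 210 := by
    rw [hk12] at hmul
    norm_num [Nat.factorial] at hmul
    rw [Nat.card_eq_fintype_card]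
    omega
  haveI : Fact (Nat.Prime 7) := ⟨by norm_num⟩
  let y' : H := ⟨y, hy⟩
  have hy0 : orderOf y = 7 := hyc.orderOf.trans hy7
  have hy' : orderOf y' = 7 := by rw [← Subgroup.orderOf_coe]; exact hy0
  have hfac : (Nat.card H).factorization 7 = 1 := by
    rw [hH210]
    have h1 : 7 ^ 1 ∣ 210 := by norm_num
    have h2 : ¬ 7 ^ 2 ∣ 210 := by norm_num
    rw [(by norm_num : Nat.Prime 7).pow_dvd_iff_le_factorization (by norm_num)] at h1 h2
    omega
  let P : Sylow 7 H := Sylow.ofCard (Subgroup.zpowers y') (by rw [Nat.card_zpowers, hy', hfac, pow_one])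
  have hN := (Subgroup.normalizer (P : Set H)).index_mul_card
  rw [← Sylow.card_eq_index_normalizer, hH210] at hN
  have hmod := card_sylow_modEq_one 7 H
  have hdiv : Nat.card (Sylow 7 H) ∣ 30 := by
    have h := P.card_dvd_index
    have hP7 : Nat.card (P : Subgroup H) = 7 := by
      rw [show (P : Subgroup H) = Subgroup.zpowers y' from rfl, Nat.card_zpowers, hy']
    have hi : (P : Subgroup H).index * 7 = 210 := by
      have := (P : Subgroup H).index_mul_card
      rwa [hP7, hH210] at this
    rw [show (P : Subgroup H).index = 30 by omega] at h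
    exact h
  have heven : 2 ∣ Nat.card (Subgroup.normalizer (P : Set H)) := by
    have hle := Nat.le_of_dvd (by norm_num) hdiv
    rw [Nat.ModEq] at hmod
    generalize Nat.card (Subgroup.normalizer (P : Set H)) = t at hN ⊢
    interval_cases hs : Nat.card (Sylow 7 H) <;> omega
  haveI : Fact (Nat.Prime 2) := ⟨by norm_num⟩
  obtain ⟨u, hu⟩ := exists_prime_orderOf_dvd_card' 2 heven
  have hmem := (Subgroup.mem_normalizer_iff.1 u.2 y').1 (Subgroup.mem_zpowers y')
  obtain ⟨i, hi⟩ := Subgroup.mem_zpowers_iff.1 (show (u : H) * y' * (u : H)⁻¹ ∈ Subgroup.zpowers y' from hmem)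
  have hi' : y ^ i = ((u : H) : Perm α) * y * ((u : H) : Perm α)⁻¹ := congrArg Subtype.val hi
  obtain ⟨r, hr⟩ := (Submonoid.mem_powers_iff _ _).1 (mem_powers_iff_mem_zpowers.2 ⟨i, hi'⟩)
  have hu0 : orderOf ((u : H) : Perm α) = 2 := by rw [Subgroup.orderOf_coe, Subgroup.orderOf_coe, hu]
  have hr2 : r * r ≡ 1 [MOD 7] := by
    rw [← pow_two]
    exact pow_eq_of_conj hy0 (by rw [← hu0, pow_orderOf_eq_one]) hr.symm
  have hz := mem_zpowers_of_sq hyc hyp (by omega) (fun z hz => absurd (show z ∈ y.support by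
      rw [(Finset.card_eq_iff_eq_univ y.support).1 (by omega)]; exact Finset.mem_univ z) hz)
    (mem_alternatingGroup.1 (hH (u : H).2)) hr.symm (by rw [hy7]; exact hr2)
  have hd := Subgroup.orderOf_dvd_natCard (Subgroup.zpowers y) hz
  rw [Nat.card_zpowers, hy0, hu0] at hd
  norm_num at hd

theorem six_case (hcard : Fintype.card α = 6) (hH : H ≤ alternatingGroup α)
    {x y : Perm α} (hx : x ∈ H) (hx0 : orderOf x = 3) (hx6 : x.support.card = 6)
    (hy : y ∈ H) (hyc : y.IsCycle) (hy5 : y.support.card = 5) :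
    ∃ d, 5 ≤ d ∧ Nonempty (H ≃* alternatingGroup (Fin d)) := by
  classical
  haveI : IsSimpleGroup (alternatingGroup α) :=
    alternatingGroup.isSimpleGroup (by rw [Nat.card_eq_fintype_card]; omega)
  set K := H.subgroupOf (alternatingGroup α) with hK
  let e : K ≃* H := Subgroup.subgroupOfEquivOfLe hH
  by_cases htop : K = ⊤
  · refine ⟨6, by norm_num, ⟨?_⟩⟩
    exact e.symm.trans ((MulEquiv.subgroupCongr htop).trans
      (Subgroup.topEquiv.trans (Equiv.altCongrHom (Fintype.equivFinOfCardEq hcard))))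
  have hdvd := index_cases K htop
  have hA : Nat.card (alternatingGroup α) = 360 := by
    rw [card_alternating 6 (by norm_num) hcard]; rfl
  rw [hA] at hdvd
  by_cases hk : K.index = 6
  · obtain ⟨e'⟩ := iso_five K hk hA
    exact ⟨5, le_rfl, ⟨e.symm.trans e'⟩⟩
  exfalso
  have hy0 : orderOf y = 5 := hyc.orderOf.trans hy5
  have hmul := K.card_mul_index
  rw [hA, Nat.card_congr e.toEquiv] at hmul
  have h15 : 15 ∣ Nat.card H :=
    Nat.Coprime.mul_dvd_of_dvd_of_dvd (by norm_num : Nat.Coprime 3 5)
      (hx0 ▸ Subgroup.orderOf_dvd_natCard H hx) (hy0 ▸ Subgroup.orderOf_dvd_natCard H hy)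
  have h24 : K.index ∣ 24 := by
    obtain ⟨t, ht⟩ := h15
    refine ⟨t, ?_⟩
    rw [ht] at hmul
    linarith
  have hcases : Nat.card H = 45 ∨ Nat.card H = 30 ∨ Nat.card H = 15 := by
    have hle := Nat.le_of_dvd (by norm_num) h24
    generalize Nat.card H = t at hmul ⊢
    interval_cases hki : K.index <;> first | omega | norm_num [Nat.factorial] at hdvd
  haveI : Fact (Nat.Prime 5) := ⟨by norm_num⟩
  let y' : H := ⟨y, hy⟩
  have hy' : orderOf y' = 5 := by rw [← Subgroup.orderOf_coe]; exact hy0
  have hno : ¬ 5 * 5 ∣ Nat.card H := by rcases hcases with h | h | h <;> rw [h] <;> norm_num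
  have hfac : (Nat.card H).factorization 5 = 1 := by
    have h1 : 5 ^ 1 ∣ Nat.card H := by rcases hcases with h | h | h <;> rw [h] <;> norm_num
    have h2 : ¬ 5 ^ 2 ∣ Nat.card H := by rcases hcases with h | h | h <;> rw [h] <;> norm_num
    rw [(by norm_num : Nat.Prime 5).pow_dvd_iff_le_factorization Nat.card_pos.ne'] at h1 h2
    omega
  let P : Sylow 5 H := Sylow.ofCard (Subgroup.zpowers y') (by rw [Nat.card_zpowers, hy', hfac, pow_one])
  -- `x` cannot normalize `⟨y⟩`
  have hxn : (⟨x, hx⟩ : H) ∉ Subgroup.normalizer (P : Set H) := by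
    intro h
    obtain ⟨i, hi⟩ := Subgroup.mem_zpowers_iff.1 (show (⟨x, hx⟩ : H) * y' * (⟨x, hx⟩ : H)⁻¹ ∈
      Subgroup.zpowers y' from (Subgroup.mem_normalizer_iff.1 h y').1 (Subgroup.mem_zpowers y'))
    have hi' : y ^ i = x * y * x⁻¹ := congrArg Subtype.val hi
    obtain ⟨r, hr⟩ := (Submonoid.mem_powers_iff _ _).1 (mem_powers_iff_mem_zpowers.2 ⟨i, hi'⟩)
    have hr3 := pow_eq_of_conj hy0 (show x ^ 3 = 1 by rw [← hx0, pow_orderOf_eq_one]) hr.symm
    have hr1 : r ≡ 1 [MOD 5] := by
      rw [Nat.ModEq, Nat.pow_mod] at hr3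
      rw [Nat.ModEq]
      have : r % 5 < 5 := Nat.mod_lt _ (by norm_num)
      interval_cases h : r % 5 <;> simp at hr3 ⊢
    have hyr : y ^ r = y := by
      conv_rhs => rw [← pow_one y]
      rw [pow_eq_pow_iff_modEq, hy0]; exact hr1
    rw [hyr] at hr
    have hxy : x * y = y * x := mul_inv_eq_iff_eq_mul.1 hr.symm
    obtain ⟨z, hz⟩ := Finset.card_eq_one.1
      (show y.supportᶜ.card = 1 by rw [Finset.card_compl, hy5, hcard])
    have hyz : y z = z := notMem_support.1 (Finset.mem_compl.1 (hz ▸ Finset.mem_singleton_self z))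
    have h2 : y (x z) = x z := by rw [← Perm.mul_apply, ← hxy, Perm.mul_apply, hyz]
    have h3 : x z ∈ y.supportᶜ := Finset.mem_compl.2 (notMem_support.2 h2)
    rw [hz, Finset.mem_singleton] at h3
    have h4 : z ∈ x.support := by
      rw [(Finset.card_eq_iff_eq_univ x.support).1 (by omega)]; exact Finset.mem_univ z
    exact mem_support.1 h4 h3
  have hne1 : Nat.card (Sylow 5 H) ≠ 1 := by
    intro h
    apply hxn
    rw [Sylow.card_eq_index_normalizer P, Subgroup.index_eq_one] at h
    rw [h]; trivial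
  have hdiv := P.card_dvd_index
  have hP5 : Nat.card (P : Subgroup H) = 5 := by
    rw [show (P : Subgroup H) = Subgroup.zpowers y' from rfl, Nat.card_zpowers, hy']
  have hi : (P : Subgroup H).index * 5 = Nat.card H := by
    have := (P : Subgroup H).index_mul_card
    rwa [hP5] at this
  have hmod := card_sylow_modEq_one 5 H
  rw [Nat.ModEq] at hmod
  have h30 : Nat.card H = 30 ∧ Nat.card (Sylow 5 H) = 6 := by
    have hidx : ((P : Subgroup H).index = 9 ∧ Nat.card H = 45) ∨
        ((P : Subgroup H).index = 6 ∧ Nat.card H = 30) ∨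
        ((P : Subgroup H).index = 3 ∧ Nat.card H = 15) := by omega
    rcases hidx with ⟨h, h'⟩ | ⟨h, h'⟩ | ⟨h, h'⟩ <;>
      · rw [h] at hdiv
        have hle := Nat.le_of_dvd (by norm_num) hdiv
        interval_cases hs : Nat.card (Sylow 5 H) <;> omega
  have hN := (Subgroup.normalizer (P : Set H)).index_mul_card
  rw [← Sylow.card_eq_index_normalizer, h30.1, h30.2] at hN
  have hPN : (P : Subgroup H) = Subgroup.normalizer (P : Set H) :=
    Subgroup.eq_of_le_of_card_ge Subgroup.le_normalizer (by
      rw [show Nat.card (P : Subgroup H) = 5 by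
        rw [show (P : Subgroup H) = Subgroup.zpowers y' from rfl, Nat.card_zpowers, hy']]
      omega)
  have hself : ∀ g : H, g * y' * g⁻¹ ∈ Subgroup.zpowers y' → g ∈ Subgroup.zpowers y' := by
    intro g hg
    have h1 : g ∈ Subgroup.normalizer (P : Set H) := by
      have hle : (P : Subgroup H).map (MulAut.conj g).toMonoidHom ≤ P := by
        show (Subgroup.zpowers y').map _ ≤ Subgroup.zpowers y'
        rw [MonoidHom.map_zpowers, Subgroup.zpowers_le]
        exact hg
      have heq := Subgroup.eq_of_le_of_card_ge hle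
        (Nat.card_congr ((P : Subgroup H).equivMapOfInjective _ (MulEquiv.injective _)).toEquiv).le
      refine Subgroup.mem_normalizer_iff.2 fun z => ?_
      conv_rhs => rw [← heq]
      exact (Subgroup.mem_map_iff_mem (f := (MulAut.conj g).toMonoidHom) (MulEquiv.injective _)).symm
    rw [← hPN] at h1
    exact h1
  obtain ⟨M, hMn, hM, -⟩ := exists_normal_complement_of_prime hy' hno hself
  haveI := hMn
  have hM6 : Nat.card M = 6 := by omega
  haveI : Fact (Nat.Prime 3) := ⟨by norm_num⟩
  haveI : Fact (Nat.Prime 2) := ⟨by norm_num⟩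
  obtain ⟨t, ht⟩ := exists_prime_orderOf_dvd_card' (G := M) 3 (by rw [hM6]; norm_num)
  obtain ⟨w, hw⟩ := exists_prime_orderOf_dvd_card' (G := M) 2 (by rw [hM6]; norm_num)
  have hfix := exists_fixed_conj (by norm_num : Nat.Prime 5) hy' M hM6.le ht (by norm_num)
    ⟨w, fun h => by rw [h, orderOf_one] at hw; omega, by omega⟩
  have hmem : (t : H) ∈ Subgroup.zpowers y' := by
    refine hself _ ?_
    rw [mul_inv_eq_iff_eq_mul] at hfix
    rw [← hfix, mul_inv_cancel_right]
    exact Subgroup.mem_zpowers y'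
  have hd := Subgroup.orderOf_dvd_natCard (Subgroup.zpowers y') hmem
  rw [Nat.card_zpowers, hy', Subgroup.orderOf_coe, ht] at hd
  norm_num at hd

theorem support_card_cases {x : Perm α} {p : ℕ} (hp : p.Prime) (hx : orderOf x = p)
    (h : Fintype.card α ≤ 2 * p) :
    (x.support.card = p ∧ x.IsCycle) ∨ (x.support.card = 2 * p ∧ Fintype.card α = 2 * p) := by
  have hall : ∀ b ∈ x.cycleType, b = p := fun b hb => by
    have := (Nat.dvd_prime hp).1 (hx ▸ dvd_of_mem_cycleType hb)
    have := two_le_of_mem_cycleType hb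
    omega
  have hsum : x.cycleType.sum = Multiset.card x.cycleType * p := by
    conv_lhs => rw [Multiset.eq_replicate_of_mem hall, Multiset.sum_replicate, smul_eq_mul]
  rw [sum_cycleType] at hsum
  have hle := x.support.card_le_univ
  have hne : x.support.card ≠ 0 := fun h0 => by
    rw [Finset.card_eq_zero, support_eq_empty_iff] at h0
    rw [h0, orderOf_one] at hx
    exact hp.ne_one hx.symm
  have hc : Multiset.card x.cycleType ≤ 2 := by
    by_contra hc
    have := Nat.mul_le_mul_right p (show 3 ≤ Multiset.card x.cycleType by omega)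
    have := hp.pos
    omega
  interval_cases hc' : Multiset.card x.cycleType
  · omega
  · exact Or.inl ⟨by omega, isCycle_of_prime_order (hx ▸ hp) (by rw [hx]; have := hp.pos; omega)⟩
  · exact Or.inr ⟨by omega, by omega⟩

theorem covered_case {p q m : ℕ} (hp : p.Prime) (hq : q.Prime) (hpq : p < q) (hdm : Fintype.card α ≤ m)
    (h2p : m ≤ 2 * p)
    (hcase : (p + 4 ≤ q ∧ m < 2 * p) ∨ (p = 3 ∧ q = 5) ∨ (p = 5 ∧ q = 7) ∨ (p = 7 ∧ q = 11) ∨
      (p = 11 ∧ q = 13))
    {x y : Perm α} (hx : orderOf x = p) (hy : orderOf y = q)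
    (hcover : ∀ z, z ∈ x.support ∨ z ∈ y.support) :
    ∃ d, 5 ≤ d ∧ Nonempty (Subgroup.closure ({x, y} : Set (Perm α)) ≃* alternatingGroup (Fin d)) := by
  classical
  have hp3 : 3 ≤ p := by
    rcases hcase with ⟨h1, h2⟩ | h | h | h | h
    · rcases hp.eq_two_or_odd with h | h
      · subst h
        have := y.support.card_le_univ
        have hq6 : 6 ≤ q := h1
        have : q ≤ Fintype.card α := by
          rcases support_card_cases hq hy (by omega) with ⟨h, -⟩ | ⟨h, -⟩ <;> omega
        omega
      · have := hp.two_le; omega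
    all_goals omega
  obtain ⟨hys, hyc⟩ : y.support.card = q ∧ y.IsCycle := by
    rcases support_card_cases hq hy (by omega) with h | ⟨-, h⟩
    · exact h
    · omega
  have hqd : q ≤ Fintype.card α := hys ▸ y.support.card_le_univ
  have hq5 : 5 ≤ q := by
    rcases hcase with h | h | h | h | h <;> omega
  set H := Subgroup.closure ({x, y} : Set (Perm α)) with hH
  have hxm : x ∈ H := Subgroup.subset_closure (by simp)
  have hym : y ∈ H := Subgroup.subset_closure (by simp)
  have hodd : ∀ {σ : Perm α} {r : ℕ}, r.Prime → 3 ≤ r → orderOf σ = r → σ ∈ alternatingGroup α := by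
    intro σ r hr hr3 hσ
    exact mem_alternatingGroup.2 (sign_eq_one_of_odd_order
      (hσ ▸ hr.odd_of_ne_two (by omega)))
  have hle : H ≤ alternatingGroup α := by
    rw [hH, Subgroup.closure_le]
    rintro _ (rfl | rfl)
    · exact hodd hp hp3 hx
    · exact hodd hq (by omega) hy
  haveI htr : MulAction.IsPretransitive H α :=
    isPretransitive_closure hp hx hyc hcover (by omega)
  have hG := isPreprimitive_of_big_cycle hym hyc (hys ▸ hq) (by omega)
  have finish : alternatingGroup α ≤ H →
      ∃ d, 5 ≤ d ∧ Nonempty (H ≃* alternatingGroup (Fin d)) := fun h =>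
    ⟨Fintype.card α, by omega,
      ⟨(MulEquiv.subgroupCongr (le_antisymm hle h)).trans (Equiv.altCongrHom (Fintype.equivFin α))⟩⟩
  have jy : q + 3 ≤ Fintype.card α → alternatingGroup α ≤ H := fun h =>
    S0713.result H hG hq (by omega) h hyc hys hym
  rcases support_card_cases hp hx (hdm.trans h2p) with ⟨hxs, hxc⟩ | ⟨hxs, hxd⟩
  · have jx : p + 3 ≤ Fintype.card α → alternatingGroup α ≤ H := fun h =>
      S0713.result H hG hp (by omega) h hxc hxs hxm
    rcases hcase with ⟨h, -⟩ | ⟨rfl, rfl⟩ | ⟨rfl, rfl⟩ | ⟨rfl, rfl⟩ | ⟨rfl, rfl⟩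
    · exact finish (jx (by omega))
    · exact finish (alternatingGroup_le_of_isPreprimitive_of_isThreeCycle_mem hG
        (card_support_eq_three_iff.1 hxs) hxm)
    · by_cases h : Fintype.card α = 7
      · exact finish (alternating_le_seven h hle hxm hxc hxs hym hyc hys)
      · exact finish (jx (by omega))
    · exact finish (jx (by omega))
    · by_cases h : Fintype.card α = 13
      · exact finish (TwinDegree.alternating_le_thirteen h hle hxm hxc hxs)
      · exact finish (jx (by omega))
  · rcases hcase with ⟨-, h⟩ | ⟨rfl, rfl⟩ | ⟨rfl, rfl⟩ | ⟨rfl, rfl⟩ | ⟨rfl, rfl⟩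
    · omega
    · exact six_case (by omega) hle hxm hx hxs hym hyc hys
    · exact finish (jy (by omega))
    · exact finish (jy (by omega))
    · exact finish (jy (by omega))

theorem restrict_case {p q : ℕ} (hp : p.Prime) (hq : q.Prime) (hpq : p < q)
    (h2p : Fintype.card α ≤ 2 * p)
    (hcase : (p + 4 ≤ q ∧ Fintype.card α < 2 * p) ∨ (p = 3 ∧ q = 5) ∨ (p = 5 ∧ q = 7) ∨
      (p = 7 ∧ q = 11) ∨ (p = 11 ∧ q = 13))
    {x y : Perm α} (hx : orderOf x = p) (hy : orderOf y = q) :
    ∃ d, 5 ≤ d ∧ Nonempty (Subgroup.closure ({x, y} : Set (Perm α)) ≃* alternatingGroup (Fin d)) := by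
  classical
  let U := x.support ∪ y.support
  have hU : ∀ σ : Perm α, σ.support ⊆ U → ∀ z, σ z ∈ U ↔ z ∈ U := by
    intro σ h z
    by_cases hz : z ∈ σ.support
    · exact iff_of_true (h (apply_mem_support.2 hz)) (h hz)
    · rw [notMem_support.1 hz]
  let x' : Perm {z // z ∈ U} := x.subtypePerm (hU x Finset.subset_union_left)
  let y' : Perm {z // z ∈ U} := y.subtypePerm (hU y Finset.subset_union_right)
  have hx' : ofSubtype x' = x := ofSubtype_subtypePerm _ (fun z hz =>
    Finset.mem_union_left _ (mem_support.2 hz))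
  have hy' : ofSubtype y' = y := ofSubtype_subtypePerm _ (fun z hz =>
    Finset.mem_union_right _ (mem_support.2 hz))
  have hx0 : orderOf x' = p := by
    rw [← orderOf_injective ofSubtype ofSubtype_injective, hx', hx]
  have hy0 : orderOf y' = q := by
    rw [← orderOf_injective ofSubtype ofSubtype_injective, hy', hy]
  have hcover : ∀ z, z ∈ x'.support ∨ z ∈ y'.support := by
    rintro ⟨z, hz⟩
    rcases Finset.mem_union.1 hz with h | h
    · exact Or.inl (mem_support.2 fun e => mem_support.1 h (congrArg Subtype.val e))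
    · exact Or.inr (mem_support.2 fun e => mem_support.1 h (congrArg Subtype.val e))
  obtain ⟨d, hd, ⟨e⟩⟩ := covered_case (m := Fintype.card α) hp hq hpq (Fintype.card_subtype_le _) h2p
    hcase hx0 hy0 hcover
  have hmap : (Subgroup.closure ({x', y'} : Set (Perm {z // z ∈ U}))).map ofSubtype =
      Subgroup.closure {x, y} := by
    rw [MonoidHom.map_closure, Set.image_pair, hx', hy']
  exact ⟨d, hd, ⟨((MulEquiv.subgroupCongr hmap.symm).trans
    (Subgroup.equivMapOfInjective _ _ ofSubtype_injective).symm).trans e⟩⟩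

end

theorem exists_primes (m : ℕ) (hm : 5 ≤ m) :
    ∃ p q : ℕ, p.Prime ∧ q.Prime ∧ m ≤ 2 * p ∧ p < q ∧ q ≤ m ∧
      ((p + 4 ≤ q ∧ m < 2 * p) ∨ (p = 3 ∧ q = 5) ∨ (p = 5 ∧ q = 7) ∨ (p = 7 ∧ q = 11) ∨
        (p = 11 ∧ q = 13)) := by
  by_cases h17 : 17 ≤ m
  · obtain ⟨p, q, hp, hq, hlt, hgap, hle⟩ := TwoPrimesGap.exists_gap_primes ((m + 1) / 2) (by omega)
    have hodd := hq.eq_two_or_odd
    exact ⟨p, q, hp, hq, by omega, by omega, by omega, Or.inl ⟨hgap, by omega⟩⟩
  by_cases h1 : m ≤ 6
  · exact ⟨3, 5, by norm_num, by norm_num, by omega, by omega, by omega, by simp⟩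
  by_cases h2 : m ≤ 10
  · exact ⟨5, 7, by norm_num, by norm_num, by omega, by omega, by omega, by simp⟩
  by_cases h3 : m ≤ 14
  · exact ⟨7, 11, by norm_num, by norm_num, by omega, by omega, by omega, by simp⟩
  · exact ⟨11, 13, by norm_num, by norm_num, by omega, by omega, by omega, by simp⟩

/-- Let m ≥ 5. Then there are primes p < q with m/2 ≤ p and q ≤ m such that any two elements x, y of the alternating group of degree m with x of order p and y of order q generate a subgroup isomorphic to an alternating group of some degree d ≥ 5. -/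
theorem result (m : ℕ) (hm : 5 ≤ m) :
    ∃ p q : ℕ, p.Prime ∧ q.Prime ∧ m ≤ 2 * p ∧ p < q ∧ q ≤ m ∧
      ∀ x y : alternatingGroup (Fin m), orderOf x = p → orderOf y = q →
        ∃ d : ℕ, 5 ≤ d ∧ Nonempty (Subgroup.closure ({x, y} : Set (alternatingGroup (Fin m))) ≃* alternatingGroup (Fin d)) := by
  obtain ⟨p, q, hp, hq, h2p, hpq, hqm, hcase⟩ := exists_primes m hm
  refine ⟨p, q, hp, hq, h2p, hpq, hqm, fun x y hx hy => ?_⟩
  obtain ⟨d, hd, ⟨e⟩⟩ := restrict_case (α := Fin m) hp hq hpq (by simpa using h2p)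
    (by simpa using hcase) (x := (x : Equiv.Perm (Fin m))) (y := (y : Equiv.Perm (Fin m)))
    (by rw [Subgroup.orderOf_coe, hx]) (by rw [Subgroup.orderOf_coe, hy])
  have hmap : (Subgroup.closure ({x, y} : Set (alternatingGroup (Fin m)))).map
      (alternatingGroup (Fin m)).subtype =
      Subgroup.closure {(x : Equiv.Perm (Fin m)), (y : Equiv.Perm (Fin m))} := by
    rw [MonoidHom.map_closure, Set.image_pair]; rfl
  exact ⟨d, hd, ⟨((Subgroup.equivMapOfInjective _ _ (Subgroup.subtype_injective _)).trans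
    (MulEquiv.subgroupCongr hmap)).trans e⟩⟩

end Cfsg.Agent.S4150
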