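import Cfsg.Statements.S4151
import Cfsg.Agent.Lib.TIHall.Basic
import Cfsg.Agent.Lib.Coprime.Factorization

set_option autoImplicit false
open Cfsg

namespace Cfsg.Agent.S4151

/-- Let G be a finite group and H a non-normal subgroup meeting each of its conjugates by elements outside N_G(H) trivially, with the order of H coprime to its index in N_G(H), such that G is π-separable for π the set of primes dividing the order of H (G has a chain of normal subgroups from 1 to G each of whose factors has order divisible only by primes dividing the order of H or coprime to it). Suppose a Sylow 2-subgroup of H is abelian and Q is a complement of H in N_G(H). Then C_H(Q), the subgroup of elements of H commuting with Q, has order coprime to its index in G and has a normal complement in G. -/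
theorem result {G : Type*} [Group G] [Finite G] (H : Subgroup G)
    (hTI : Cfsg.IsTISubset (H : Set G)) (hnn : ¬ H.Normal)
    (hHall : (Nat.card H).Coprime (H.subgroupOf (Subgroup.normalizer (H : Set G))).index)
    (hsep : ∃ (n : ℕ) (M : Fin (n + 1) → Subgroup G), M 0 = ⊥ ∧ M (Fin.last n) = ⊤ ∧ Monotone M ∧ (∀ i, (M i).Normal) ∧
      ∀ i : Fin n, (∀ q : ℕ, q.Prime → q ∣ (M i.castSucc).relIndex (M i.succ) → q ∣ Nat.card H) ∨
        ((M i.castSucc).relIndex (M i.succ)).Coprime (Nat.card H))
    (h2 : ∀ P : Sylow 2 H, IsMulCommutative (P : Subgroup H))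
    (Q : Subgroup G) (hQ : Q ≤ Subgroup.normalizer (H : Set G)) (hQH : Q ⊓ H = ⊥) (hQH' : Q ⊔ H = Subgroup.normalizer (H : Set G)) :
    (Nat.card ↥(H ⊓ Subgroup.centralizer (Q : Set G))).Coprime (H ⊓ Subgroup.centralizer (Q : Set G)).index ∧
    ∃ N : Subgroup G, N.Normal ∧ N.IsComplement' (H ⊓ Subgroup.centralizer (Q : Set G)) := by
  
  classical
  set π : Set ℕ := {q | q ∣ Nat.card H} with hπ
  have hH : H ≠ ⊥ := fun h => hnn (h ▸ inferInstance)
  have hHp : Solvable.IsPiNum π (Nat.card H) := fun _ _ h => h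
  have hHG : (Nat.card H).Coprime H.index := TIHall.coprime_index_of_ti H hTI hHall
  have hHi : Solvable.IsPiNum πᶜ H.index := fun q hq hd hqH =>
    hq.not_dvd_one (hHG.gcd_eq_one ▸ Nat.dvd_gcd hqH hd)
  obtain ⟨n, M, h0, hn, -, hnorm, hM⟩ := hsep
  have hps : Solvable.IsPiSeparable π G := Solvable.isPiSeparable_of_chain M h0 hn hnorm fun i =>
    (hM i).imp id fun (h : Nat.Coprime ((M i.castSucc).relIndex (M i.succ)) (Nat.card H)) q hq hd hqH =>
      hq.not_dvd_one (h.gcd_eq_one ▸ Nat.dvd_gcd hd hqH)
  set K := Cfsg.piCore πᶜ G with hKdef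
  have hKp : Solvable.IsPiNum πᶜ (Nat.card K) := fun _ hq hd => Cores.card_piCore _ hq hd
  have hCK : Subgroup.centralizer (K : Set G) ≤ K := Solvable.centralizer_piCore_le hps.compl
    (by rw [compl_compl]; exact TIHall.piCore_eq_bot_of_ti hTI hnn hHp hHi)
  have hcopK : (Nat.card H).Coprime (Nat.card K) := hHp.coprime hKp
  have : IsZGroup H := TIHall.isZGroup_of_ti hTI hH hcopK hCK h2
  have htop : K ⊔ (Q ⊔ H) = ⊤ := by
    rw [hQH']; exact TIHall.sup_normalizer_eq_top hps hTI hH hHp hHi
  have hQc : Nat.card Q = H.relIndex (Subgroup.normalizer (H : Set G)) := by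
    have h1 := Coprime.card_mul_inf Q H
    rw [← Subgroup.coe_mul_of_left_le_normalizer_right Q H hQ, hQH, Subgroup.card_bot, mul_one,
      hQH'] at h1
    change Nat.card (Subgroup.normalizer (H : Set G)) = _ at h1
    have h2 : Nat.card H * H.relIndex (Subgroup.normalizer (H : Set G)) =
        Nat.card (Subgroup.normalizer (H : Set G)) := by
      rw [← Subgroup.relIndex_bot_left, ← Subgroup.relIndex_bot_left,
        Subgroup.relIndex_mul_relIndex ⊥ H _ bot_le Subgroup.le_normalizer]
    rw [h1, mul_comm] at h2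
    exact (Nat.eq_of_mul_eq_mul_right Nat.card_pos h2).symm
  have hcop : (Nat.card Q).Coprime (Nat.card H) := hQc ▸ hHall.symm
  obtain ⟨hC1, hC2⟩ := TIHall.hall_fixed_points hQ hcop
  set C := H ⊓ Subgroup.centralizer (Q : Set G) with hCdef
  have hCH : C ≤ H := inf_le_left
  refine ⟨?_, ?_⟩
  · rw [← Subgroup.relIndex_mul_index hCH]
    exact hC1.mul_right (hHG.coprime_dvd_left (Subgroup.card_dvd_of_le hCH))
  set D := ⁅H, Q⁆ with hDdef
  have hDH : D ≤ H := Coprime.commutator_le_left' hQ
  have hQD : Q ≤ Subgroup.normalizer (D : Set G) := Subgroup.normalizer_commutator_ge_right H Q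
  set N := K ⊔ (D ⊔ Q) with hNdef
  have hDC : D ⊔ C = H :=
    Coprime.commutator_sup_centralizer hQ hcop (Or.inr inferInstance)
  have hNC : N ⊔ C = ⊤ := by
    rw [← htop, ← hDC, hNdef]; ac_rfl
  have hCN : C ≤ Subgroup.normalizer (N : Set G) := fun c hc => by
    refine TIHall.normalizer_inf_le_normalizer_sup (Subgroup.le_normalizer_of_normal hc)
      (TIHall.normalizer_inf_le_normalizer_sup
        (Subgroup.normalizer_commutator_ge_left H Q hc.1) ?_)
    exact Subgroup.centralizer_le_normalizer _ hc.2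
  have hNn : N.Normal := Subgroup.normalizer_eq_top_iff.1 (top_le_iff.1
    (hNC ▸ sup_le Subgroup.le_normalizer hCN))
  have hNcop : (Nat.card N).Coprime (Nat.card C) := by
    refine Nat.Coprime.coprime_dvd_left ?_ ((Nat.Coprime.mul_left (Nat.Coprime.mul_left hC2.symm
      (hcop.coprime_dvd_right (Subgroup.card_dvd_of_le hCH)))
      (hcopK.symm.coprime_dvd_right (Subgroup.card_dvd_of_le hCH))))
    rw [← Coprime.card_sup_of_coprime hQD (hcop.symm.coprime_dvd_left (Subgroup.card_dvd_of_le hDH)),
      hNdef, sup_comm K]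
    exact Cores.card_sup_dvd (D ⊔ Q) K
  refine ⟨N, hNn, Subgroup.isComplement'_of_disjoint_and_mul_eq_univ
    (disjoint_iff.2 (Coprime.inf_eq_bot hNcop)) ?_⟩
  rw [← Subgroup.normal_mul, hNC, Subgroup.coe_top]


end Cfsg.Agent.S4151
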