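import Cfsg.Statements.S4152
import Cfsg.Agent.Lib.ClassIndex.Basic

set_option autoImplicit false
open Cfsg

namespace Cfsg.Agent.S4152

section
variable (π : Set ℕ) {G : Type*} [Group G]

def IsPiElt (g : G) : Prop := ∀ q : ℕ, q.Prime → q ∣ orderOf g → q ∈ π
def IsPiCoElt (g : G) : Prop := ∀ q : ℕ, q.Prime → q ∣ orderOf g → q ∉ π

theorem exists_split [Finite G] (n : G) :
    ∃ a b : G, a * b = n ∧ IsPiElt π a ∧ IsPiCoElt π b ∧ a ∈ Subgroup.zpowers n ∧ b ∈ Subgroup.zpowers n := by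
  classical
  set N₀ := orderOf n with hN₀
  let A := ∏ q ∈ N₀.primeFactors.filter (· ∈ π), q ^ N₀.factorization q
  let B := ∏ q ∈ N₀.primeFactors.filter (fun q => q ∉ π), q ^ N₀.factorization q
  have hAB : A * B = N₀ := by
    rw [Finset.prod_filter_mul_prod_filter_not]
    exact Nat.prod_factorization_pow_eq_self (orderOf_pos n).ne'
  have hA : ∀ q : ℕ, q.Prime → q ∣ A → q ∈ π := by
    intro q hq hd
    obtain ⟨r, hr, hqr⟩ := (hq.prime.dvd_finsetProd_iff _).mp hd
    rw [Finset.mem_filter, Nat.mem_primeFactors] at hr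
    rw [(Nat.prime_dvd_prime_iff_eq hq hr.1.1).mp (hq.dvd_of_dvd_pow hqr)]
    exact hr.2
  have hB : ∀ q : ℕ, q.Prime → q ∣ B → q ∉ π := by
    intro q hq hd
    obtain ⟨r, hr, hqr⟩ := (hq.prime.dvd_finsetProd_iff _).mp hd
    rw [Finset.mem_filter, Nat.mem_primeFactors] at hr
    rw [(Nat.prime_dvd_prime_iff_eq hq hr.1.1).mp (hq.dvd_of_dvd_pow hqr)]
    exact hr.2
  have hcop : A.Coprime B := by
    rw [Nat.coprime_iff_gcd_eq_one]
    by_contra hne
    obtain ⟨q, hq, hd⟩ := Nat.exists_prime_and_dvd hne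
    exact hB q hq (hd.trans (Nat.gcd_dvd_right _ _)) (hA q hq (hd.trans (Nat.gcd_dvd_left _ _)))
  have hbez : (1 : ℤ) = A * A.gcdA B + B * A.gcdB B := by
    have := Nat.gcd_eq_gcd_ab A B
    rwa [hcop.gcd_eq_one, Nat.cast_one] at this
  refine ⟨n ^ ((B : ℤ) * A.gcdB B), n ^ ((A : ℤ) * A.gcdA B), ?_, ?_, ?_,
    Subgroup.zpow_mem _ (Subgroup.mem_zpowers n) _, Subgroup.zpow_mem _ (Subgroup.mem_zpowers n) _⟩
  · rw [← zpow_add, add_comm, ← hbez, zpow_one]
  · intro q hq hd
    refine hA q hq (hd.trans (orderOf_dvd_of_pow_eq_one ?_))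
    rw [← zpow_natCast (n ^ _) A, ← zpow_mul, ← orderOf_dvd_iff_zpow_eq_one, ← hN₀, ← hAB]
    exact ⟨A.gcdB B, by push_cast; ring⟩
  · intro q hq hd
    refine hB q hq (hd.trans (orderOf_dvd_of_pow_eq_one ?_))
    rw [← zpow_natCast (n ^ _) B, ← zpow_mul, ← orderOf_dvd_iff_zpow_eq_one, ← hN₀, ← hAB]
    exact ⟨A.gcdA B, by push_cast; ring⟩

theorem split_unique [Finite G] {x x' b b' : G} (hx : IsPiElt π x) (hx' : IsPiElt π x')
    (hb : IsPiCoElt π b) (hb' : IsPiCoElt π b') (hc : Commute x b) (hc' : Commute x' b')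
    (h : x * b = x' * b') : x = x' := by
  set k := orderOf b * orderOf b' with hk
  have h1 : x ^ k = x' ^ k := by
    have := congrArg (· ^ k) h
    simp only [hc.mul_pow, hc'.mul_pow] at this
    rwa [orderOf_dvd_iff_pow_eq_one.mp (dvd_mul_right (orderOf b) _),
      orderOf_dvd_iff_pow_eq_one.mp (dvd_mul_left (orderOf b') _), mul_one, mul_one] at this
  have hcop : k.Coprime (orderOf (x, x')) := by
    rw [Nat.coprime_iff_gcd_eq_one]
    by_contra hne
    obtain ⟨q, hq, hd⟩ := Nat.exists_prime_and_dvd hne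
    have h2 := hd.trans (Nat.gcd_dvd_left _ _)
    have h3 := hd.trans (Nat.gcd_dvd_right _ _)
    rw [Prod.orderOf] at h3
    have h4 : q ∈ π := by
      rcases hq.dvd_mul.mp (h3.trans (Nat.lcm_dvd_mul _ _)) with h5 | h5
      · exact hx q hq h5
      · exact hx' q hq h5
    rcases hq.dvd_mul.mp h2 with h5 | h5
    · exact hb q hq h5 h4
    · exact hb' q hq h5 h4
  obtain ⟨e, he⟩ := exists_pow_eq_self_of_coprime hcop
  have he1 : (x ^ k) ^ e = x := congrArg Prod.fst he
  have he2 : (x' ^ k) ^ e = x' := congrArg Prod.snd he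
  rw [← he1, h1, he2]

/-- The number of pairs of a π-element and an element of its centraliser. -/
theorem natCard_pairs [Finite G] :
    Nat.card (Σ x : {x : G // IsPiElt π x}, Subgroup.centralizer ({(x : G)} : Set G)) =
      Nat.card {C : ConjClasses G // ∀ q : ℕ, q.Prime → (∃ g : G, ConjClasses.mk g = C ∧ q ∣ orderOf g) → q ∈ π} *
        Nat.card G := by
  classical
  haveI := Fintype.ofFinite G
  let P : ConjClasses G → Prop := fun C => ∀ q : ℕ, q.Prime → (∃ g : G, ConjClasses.mk g = C ∧ q ∣ orderOf g) → q ∈ π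
  have hord : ∀ {g g' : G}, ConjClasses.mk g' = ConjClasses.mk g → orderOf g' = orderOf g := by
    intro g g' h
    obtain ⟨c, hc⟩ := isConj_iff.mp (ConjClasses.mk_eq_mk_iff_isConj.mp h)
    rw [← hc]
    exact (MulEquiv.orderOf_eq (MulAut.conj c) g').symm
  have hP : ∀ g : G, P (ConjClasses.mk g) ↔ IsPiElt π g := by
    intro g
    refine ⟨fun h q hq hd => h q hq ⟨g, rfl, hd⟩, fun h q hq ⟨g', hg', hd⟩ => h q hq (hord hg' ▸ hd)⟩
  let e : {x : G // IsPiElt π x} → {C : ConjClasses G // P C} := fun x => ⟨ConjClasses.mk x.1, (hP _).mpr x.2⟩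
  haveI := Fintype.ofFinite {C : ConjClasses G // P C}
  rw [← Nat.card_congr (Equiv.sigmaFiberEquiv fun z : Σ x : {x : G // IsPiElt π x},
    Subgroup.centralizer ({(x : G)} : Set G) => e z.1), Nat.card_sigma]
  rw [Finset.sum_const_nat (m := Nat.card G) (fun C _ => ?_), Finset.card_univ, ← Nat.card_eq_fintype_card]
  obtain ⟨C, hC⟩ := C
  obtain ⟨g, rfl⟩ := ConjClasses.exists_rep C
  have e1 : {z : Σ x : {x : G // IsPiElt π x}, Subgroup.centralizer ({(x : G)} : Set G) // e z.1 = ⟨ConjClasses.mk g, hC⟩} ≃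
      (Σ x : {y : G // ∃ c : G, c * g * c⁻¹ = y}, Subgroup.centralizer ({(x : G)} : Set G)) :=
    { toFun := fun z => ⟨⟨z.1.1.1, isConj_iff.mp (ConjClasses.mk_eq_mk_iff_isConj.mp (congrArg Subtype.val z.2)).symm⟩, z.1.2⟩
      invFun := fun z => ⟨⟨⟨z.1.1, (hP _).mp (by
          have : ConjClasses.mk z.1.1 = ConjClasses.mk g :=
            (ConjClasses.mk_eq_mk_iff_isConj.mpr (isConj_iff.mpr z.1.2)).symm
          rw [this]; exact hC)⟩, z.2⟩, Subtype.ext
            (ConjClasses.mk_eq_mk_iff_isConj.mpr (isConj_iff.mpr z.1.2)).symm⟩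
      left_inv := fun z => rfl
      right_inv := fun z => rfl }
  rw [Nat.card_congr e1, Nat.card_sigma]
  rw [Finset.sum_const_nat (m := Nat.card (Subgroup.centralizer ({g} : Set G))) (fun x _ => ?_),
    Finset.card_univ, ← Nat.card_eq_fintype_card, ClassIndex.natCard_conjSet_mul]
  obtain ⟨x, c, hx⟩ := x
  refine (Nat.card_congr (((MulAut.conj c).toEquiv.subtypeEquiv fun y => ?_))).symm
  show y ∈ Subgroup.centralizer ({g} : Set G) ↔ MulAut.conj c y ∈ Subgroup.centralizer ({x} : Set G)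
  rw [ClassIndex.mem_cent, ClassIndex.mem_cent, ← hx, ← MulAut.conj_apply, ← map_mul, ← map_mul,
    (MulAut.conj c).injective.eq_iff]

end

section
variable (π : Set ℕ) {G : Type*} [Group G] [Finite G] (N : Subgroup G) [N.Normal]

/-- The pairs over one coset embed into the pairs of `N`. -/
theorem natCard_fibre_le (c : G ⧸ N) :
    Nat.card (Σ x : {x : G // IsPiElt π x ∧ (x : G ⧸ N) = c},
        {n : N // (n : G) * x = x * n}) ≤
      Nat.card (Σ a : {a : N // IsPiElt π a}, Subgroup.centralizer ({(a : N)} : Set N)) := by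
  classical
  let S := Σ x : {x : G // IsPiElt π x ∧ (x : G ⧸ N) = c}, {n : N // (n : G) * x = x * n}
  choose fa fb hab haπ hbπ haz hbz using fun s : S => exists_split π (s.2.1 : N)
  have hcomm : ∀ (s : S) (m : N), m ∈ Subgroup.zpowers (s.2.1 : N) → Commute (m : G) (s.1.1 : G) := by
    intro s m hm
    obtain ⟨i, rfl⟩ := hm
    rw [Subgroup.coe_zpow]
    exact Commute.zpow_left s.2.2 i
  -- a representative in the coset of the centraliser of a
  let Y : N → Set G := fun a => {y : G | (y : G ⧸ N) = c ∧ Commute (a : G) y}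
  let y₀ : N → G := fun a => if h : (Y a).Nonempty then h.choose else 1
  have hy₀ : ∀ s : S, (y₀ (fa s) : G ⧸ N) = c ∧ Commute (fa s : G) (y₀ (fa s)) := by
    intro s
    have h : (Y (fa s)).Nonempty := ⟨s.1.1, s.1.2.2, hcomm s _ (haz s)⟩
    simp only [y₀, dif_pos h]
    exact h.choose_spec
  have hmem : ∀ s : S, (y₀ (fa s))⁻¹ * (s.1.1 * (fb s : G)) ∈ N := by
    intro s
    rw [← QuotientGroup.eq, (hy₀ s).1, QuotientGroup.mk_mul, s.1.2.2,
      (QuotientGroup.eq_one_iff _).mpr (fb s).2, mul_one]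
  have hcab : ∀ s : S, Commute (fa s : G) (fb s : G) := by
    intro s
    obtain ⟨i, hi⟩ := haz s
    obtain ⟨j, hj⟩ := hbz s
    rw [← hi, ← hj, Subgroup.coe_zpow, Subgroup.coe_zpow]
    exact Commute.zpow_zpow (Commute.refl _) i j
  refine Nat.card_le_card_of_injective (fun s : S => (⟨⟨fa s, haπ s⟩, ⟨⟨_, hmem s⟩, ?_⟩⟩ :
    Σ a : {a : N // IsPiElt π a}, Subgroup.centralizer ({(a : N)} : Set N))) ?_
  · rw [ClassIndex.mem_cent]
    refine Subtype.ext ?_
    exact (((hy₀ s).2.inv_right).mul_right ((hcomm s _ (haz s)).mul_right (hcab s))).symm.eq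
  · intro s t h
    have h1 : fa s = fa t := congrArg (fun z => (z.1.1 : N)) h
    have h2 : (y₀ (fa s))⁻¹ * (s.1.1 * (fb s : G)) = (y₀ (fa t))⁻¹ * (t.1.1 * (fb t : G)) :=
      congrArg (fun z => ((z.2.1 : N) : G)) h
    rw [h1] at h2
    have h3 := mul_left_cancel h2
    have hco : ∀ u : S, IsPiCoElt π (fb u : G) := fun u q hq hd => hbπ u q hq (by rwa [Subgroup.orderOf_coe] at hd)
    have h4 : s.1.1 = t.1.1 := split_unique π s.1.2.1 t.1.2.1 (hco s) (hco t)
      (hcomm s _ (hbz s)).symm (hcomm t _ (hbz t)).symm h3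
    rw [h4] at h3
    have h5 : fb s = fb t := Subtype.ext (mul_left_cancel h3)
    have h6 : (s.2.1 : N) = t.2.1 := by rw [← hab s, ← hab t, h1, h5]
    obtain ⟨⟨x, hx⟩, ⟨n, hn⟩⟩ := s
    obtain ⟨⟨x', hx'⟩, ⟨n', hn'⟩⟩ := t
    subst h4
    subst h6
    rfl

theorem natCard_centralizer_le (x : G) :
    Nat.card (Subgroup.centralizer ({x} : Set G)) ≤
      Nat.card (Subgroup.centralizer ({(x : G ⧸ N)} : Set (G ⧸ N))) * Nat.card {n : N // (n : G) * x = x * n} := by
  let C := Subgroup.centralizer ({x} : Set G)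
  let f : C →* G ⧸ N := (QuotientGroup.mk' N).comp C.subtype
  rw [← Subgroup.card_mul_index f.ker, mul_comm, Subgroup.index_ker]
  refine Nat.mul_le_mul (Subgroup.card_le_of_le ?_) ?_
  · rintro _ ⟨y, rfl⟩
    rw [ClassIndex.mem_cent]
    show (y : G ⧸ N) * (x : G ⧸ N) = (x : G ⧸ N) * (y : G ⧸ N)
    rw [← QuotientGroup.mk_mul, ← QuotientGroup.mk_mul, ClassIndex.mem_cent.mp y.2]
  · refine Nat.card_le_card_of_injective
      (fun y : f.ker => (⟨⟨(y : C), (QuotientGroup.eq_one_iff _).mp y.2⟩, ClassIndex.mem_cent.mp (y : C).2⟩ :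
        {n : N // (n : G) * x = x * n})) ?_
    intro y z h
    have : ((y : C) : G) = ((z : C) : G) := congrArg (fun w : {n : N // (n : G) * x = x * n} => ((w.1 : N) : G)) h
    exact Subtype.ext (Subtype.ext this)

end

/-- Let G be a finite group, N a normal subgroup and π a set of primes. Then the number of conjugacy classes of π-elements of G (elements whose order is divisible only by primes in π) is at most the number of conjugacy classes of π-elements of N (under conjugation by N) times the number of conjugacy classes of π-elements of G/N. -/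
theorem result {G : Type*} [Group G] [Finite G] (N : Subgroup G) [N.Normal] (π : Set ℕ) :
    Nat.card {C : ConjClasses G // ∀ q : ℕ, q.Prime → (∃ g : G, ConjClasses.mk g = C ∧ q ∣ orderOf g) → q ∈ π} ≤ Nat.card {C : ConjClasses N // ∀ q : ℕ, q.Prime → (∃ g : N, ConjClasses.mk g = C ∧ q ∣ orderOf g) → q ∈ π} * Nat.card {C : ConjClasses (G ⧸ N) // ∀ q : ℕ, q.Prime → (∃ g : (G ⧸ N), ConjClasses.mk g = C ∧ q ∣ orderOf g) → q ∈ π} := by
  classical
  haveI := Fintype.ofFinite G
  haveI := Fintype.ofFinite (G ⧸ N)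
  refine Nat.le_of_mul_le_mul_right ?_ (Nat.card_pos (α := G))
  rw [← natCard_pairs π]
  set kN := Nat.card {C : ConjClasses N // ∀ q : ℕ, q.Prime → (∃ g : N, ConjClasses.mk g = C ∧ q ∣ orderOf g) → q ∈ π}
  set kQ := Nat.card {C : ConjClasses (G ⧸ N) // ∀ q : ℕ, q.Prime → (∃ g : (G ⧸ N), ConjClasses.mk g = C ∧ q ∣ orderOf g) → q ∈ π}
  let e : {x : G // IsPiElt π x} → {c : G ⧸ N // IsPiElt π c} := fun x =>
    ⟨(x.1 : G ⧸ N), fun q hq hd => x.2 q hq (hd.trans (orderOf_map_dvd (QuotientGroup.mk' N) x.1))⟩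
  rw [← Nat.card_congr (Equiv.sigmaFiberEquiv fun z : Σ x : {x : G // IsPiElt π x},
    Subgroup.centralizer ({(x : G)} : Set G) => e z.1), Nat.card_sigma]
  calc _ ≤ ∑ c : {c : G ⧸ N // IsPiElt π c},
        Nat.card (Subgroup.centralizer ({(c : G ⧸ N)} : Set (G ⧸ N))) * (kN * Nat.card N) := by
        refine Finset.sum_le_sum fun c _ => ?_
        have e1 : {z : Σ x : {x : G // IsPiElt π x}, Subgroup.centralizer ({(x : G)} : Set G) // e z.1 = c} ≃
            (Σ x : {x : G // IsPiElt π x ∧ (x : G ⧸ N) = c.1}, Subgroup.centralizer ({(x : G)} : Set G)) :=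
          { toFun := fun z => ⟨⟨z.1.1.1, z.1.1.2, congrArg Subtype.val z.2⟩, z.1.2⟩
            invFun := fun z => ⟨⟨⟨z.1.1, z.1.2.1⟩, z.2⟩, Subtype.ext z.1.2.2⟩
            left_inv := fun z => rfl
            right_inv := fun z => rfl }
        rw [Nat.card_congr e1, Nat.card_sigma]
        rw [← natCard_pairs (G := N) π]
        refine le_trans ?_ (Nat.mul_le_mul_left _ (natCard_fibre_le π N c.1))
        rw [Nat.card_sigma, Finset.mul_sum]
        refine Finset.sum_le_sum fun x _ => ?_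
        have := natCard_centralizer_le N x.1
        rwa [x.2.2] at this
    _ = kN * kQ * Nat.card G := by
        rw [← Finset.sum_mul, ← Nat.card_sigma, natCard_pairs (G := G ⧸ N) π,
          ← Subgroup.card_mul_index N, Subgroup.index_eq_card]
        ring

end Cfsg.Agent.S4152
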