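import Cfsg.Statements.S4153
import Cfsg.Agent.EqLemmas

set_option autoImplicit false
open Cfsg

namespace Cfsg.Agent.S4153

section
variable {G : Type*} [Group G] [Finite G] {p : ℕ} [Fact p.Prime] (N : Subgroup G) [N.Normal]

abbrev pEls (H : Type*) [Group H] (p : ℕ) : Type _ := {g : H // ∃ k : ℕ, orderOf g = p ^ k}

theorem exists_sylow_mem {H : Type*} [Group H] [Finite H] (g : pEls H p) : ∃ Q : Sylow p H, (g : H) ∈ (Q : Subgroup H) := by
  obtain ⟨k, hk⟩ := g.2
  obtain ⟨Q, hQ⟩ := (IsPGroup.of_card (p := p) (n := k) (G := Subgroup.zpowers (g : H)) (by rw [Nat.card_zpowers, hk])).exists_le_sylow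
  exact ⟨Q, hQ (Subgroup.mem_zpowers _)⟩

theorem isPEl_of_mem (Q : Sylow p G) {x : G} (hx : x ∈ (Q : Subgroup G)) : ∃ k : ℕ, orderOf x = p ^ k := by
  obtain ⟨k, hk⟩ := IsPGroup.iff_orderOf.mp Q.2 ⟨x, hx⟩
  exact ⟨k, by rwa [← Subgroup.orderOf_coe (⟨x, hx⟩ : (Q : Subgroup G))] at hk⟩

def red (g : pEls G p) : pEls (G ⧸ N) p :=
  ⟨(g.1 : G ⧸ N), by
    obtain ⟨k, hk⟩ := g.2
    obtain ⟨j, -, hj⟩ := (Nat.dvd_prime_pow (Fact.out : p.Prime)).mp (hk ▸ orderOf_map_dvd (QuotientGroup.mk' N) g.1)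
    exact ⟨j, hj⟩⟩

theorem card_inf_eq (P Q : Sylow p G) :
    Nat.card ↥(N ⊓ (P : Subgroup G)) = Nat.card ↥(N ⊓ (Q : Subgroup G)) := by
  obtain ⟨g, rfl⟩ := MulAction.exists_smul_eq G P Q
  refine Nat.card_congr ((MulAut.conj g).toEquiv.subtypeEquiv fun x => ?_)
  show x ∈ N ∧ x ∈ (P : Subgroup G) ↔ MulAut.conj g x ∈ N ∧ MulAut.conj g x ∈ ((g • P : Sylow p G) : Subgroup G)
  rw [Sylow.coe_subgroup_smul, Subgroup.mem_pointwise_smul_iff_inv_smul_mem]
  constructor
  · rintro ⟨h1, h2⟩; exact ⟨(inferInstance : N.Normal).conj_mem x h1 g, by simpa [MulAut.smul_def, mul_assoc] using h2⟩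
  · rintro ⟨h1, h2⟩
    exact ⟨by simpa [mul_assoc] using (inferInstance : N.Normal).conj_mem _ h1 g⁻¹,
      by simpa [MulAut.smul_def, mul_assoc] using h2⟩

/-- Every fibre of the p-elements contains at least `|N|_p` elements. -/
theorem le_fibre (P : Sylow p G) (c : pEls (G ⧸ N) p) :
    Nat.card ↥(N ⊓ (P : Subgroup G)) ≤ Nat.card {g : pEls G p // red N g = c} := by
  obtain ⟨R, hR⟩ := exists_sylow_mem c
  obtain ⟨a, ha⟩ := MulAction.exists_smul_eq (G ⧸ N) (P.mapSurjective (QuotientGroup.mk'_surjective N)) R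
  obtain ⟨b, rfl⟩ := QuotientGroup.mk_surjective a
  have hR' : (c : G ⧸ N) ∈ ((b • P : Sylow p G) : Subgroup G).map (QuotientGroup.mk' N) := by
    rw [← ha] at hR
    rw [Sylow.coe_subgroup_smul, Subgroup.mem_pointwise_smul_iff_inv_smul_mem, Sylow.coe_mapSurjective] at hR
    obtain ⟨y, hy, hyc⟩ := hR
    refine ⟨b * y * b⁻¹, ?_, ?_⟩
    · rw [SetLike.mem_coe, Sylow.coe_subgroup_smul, Subgroup.mem_pointwise_smul_iff_inv_smul_mem]
      simp [MulAut.smul_def, mul_assoc]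
      exact hy
    · rw [map_mul, map_mul, hyc, map_inv, QuotientGroup.mk'_apply]
      simp [MulAut.smul_def, mul_assoc]
  obtain ⟨g, hg, hgc⟩ := hR'
  rw [card_inf_eq N P (b • P)]
  refine Nat.card_le_card_of_injective (fun z : ↥(N ⊓ ((b • P : Sylow p G) : Subgroup G)) =>
    (⟨⟨g * z, isPEl_of_mem _ (Subgroup.mul_mem _ hg z.2.2)⟩, ?_⟩ : {g : pEls G p // red N g = c})) ?_
  · refine Subtype.ext ?_
    show ((g * z : G) : G ⧸ N) = c
    rw [QuotientGroup.mk_mul, (QuotientGroup.eq_one_iff _).mpr z.2.1, mul_one]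
    exact hgc
  · intro z w h
    exact Subtype.ext (mul_left_cancel (congrArg (fun u : {g : pEls G p // red N g = c} => u.1.1) h))

theorem fibre_le (hN : N ≤ Subgroup.center G) (P : Sylow p G) (c : pEls (G ⧸ N) p) :
    Nat.card {g : pEls G p // red N g = c} ≤ Nat.card ↥(N ⊓ (P : Subgroup G)) := by
  by_cases hne : Nonempty {g : pEls G p // red N g = c}
  swap
  · rw [not_nonempty_iff] at hne
    rw [Nat.card_of_isEmpty]; exact Nat.zero_le _
  obtain ⟨g₀⟩ := hne
  refine Nat.card_le_card_of_injective (fun g : {g : pEls G p // red N g = c} =>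
    (⟨g₀.1.1⁻¹ * g.1.1, ?_⟩ : ↥(N ⊓ (P : Subgroup G)))) ?_
  · have hn : g₀.1.1⁻¹ * g.1.1 ∈ N := by
      rw [← QuotientGroup.eq]
      exact (congrArg Subtype.val g₀.2).trans (congrArg Subtype.val g.2).symm
    refine ⟨hn, ?_⟩
    set n := g₀.1.1⁻¹ * g.1.1 with hndef
    have hz := Subgroup.mem_center_iff.mp (hN hn)
    obtain ⟨i, hi⟩ := g₀.1.2
    obtain ⟨j, hj⟩ := g.1.2
    have h1 : n ^ (p ^ (i + j)) = 1 := by
      have hg : g.1.1 = g₀.1.1 * n := by rw [hndef, mul_inv_cancel_left]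
      have h2 : g.1.1 ^ p ^ (i + j) = 1 := orderOf_dvd_iff_pow_eq_one.mp (hj ▸ pow_dvd_pow p (Nat.le_add_left j i))
      rw [hg, Commute.mul_pow (hz g₀.1.1),
        orderOf_dvd_iff_pow_eq_one.mp (hi ▸ pow_dvd_pow p (Nat.le_add_right i j)), one_mul] at h2
      exact h2
    obtain ⟨m, -, hm⟩ := (Nat.dvd_prime_pow (Fact.out : p.Prime)).mp (orderOf_dvd_of_pow_eq_one h1)
    obtain ⟨Q, hQ⟩ := exists_sylow_mem (⟨n, m, hm⟩ : pEls G p)
    obtain ⟨a, rfl⟩ := MulAction.exists_smul_eq G P Q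
    rw [Sylow.coe_subgroup_smul, Subgroup.mem_pointwise_smul_iff_inv_smul_mem] at hQ
    have : a⁻¹ * n * a = n := by rw [mul_assoc, ← hz a, inv_mul_cancel_left]
    simp [MulAut.smul_def, this] at hQ
    exact hQ
  · intro g h e
    have := congrArg (fun z : ↥(N ⊓ (P : Subgroup G)) => (z : G)) e
    exact Subtype.ext (Subtype.ext (mul_left_cancel this))

theorem card_sylow_eq (P : Sylow p G) (Pbar : Sylow p (G ⧸ N)) :
    Nat.card (P : Subgroup G) = Nat.card ↥(N ⊓ (P : Subgroup G)) * Nat.card (Pbar : Subgroup (G ⧸ N)) := by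
  let f : (P : Subgroup G) →* G ⧸ N := (QuotientGroup.mk' N).comp (P : Subgroup G).subtype
  rw [← Subgroup.card_mul_index f.ker, Subgroup.index_ker]
  congr 1
  · refine Nat.card_congr ⟨fun y => ⟨(y : (P : Subgroup G)), (QuotientGroup.eq_one_iff _).mp y.2, (y : (P : Subgroup G)).2⟩,
      fun y => ⟨⟨y.1, y.2.2⟩, (QuotientGroup.eq_one_iff _).mpr y.2.1⟩, fun y => rfl, fun y => rfl⟩
  · rw [MonoidHom.range_comp, Subgroup.range_subtype,
      Pbar.card_eq_multiplicity, ← (P.mapSurjective (QuotientGroup.mk'_surjective N)).card_eq_multiplicity,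
      Sylow.coe_mapSurjective]

end

/-- Let G be a finite group, p a prime, N a normal subgroup, P a Sylow p-subgroup of G and P̄ a Sylow p-subgroup of G/N. Count the elements of p-power order, the identity included. Then (number of such elements of G/N)/#P̄ ≤ (number of such elements of G)/#P, stated as a cross-multiplied inequality, with equality when N is central. -/
theorem result {G : Type*} [Group G] [Finite G] (p : ℕ) [Fact p.Prime] (N : Subgroup G) [N.Normal]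
    (P : Sylow p G) (Pbar : Sylow p (G ⧸ N)) :
    Nat.card {g : (G ⧸ N) // ∃ k : ℕ, orderOf g = p ^ k} * Nat.card (P : Subgroup G) ≤ Nat.card {g : G // ∃ k : ℕ, orderOf g = p ^ k} * Nat.card (Pbar : Subgroup (G ⧸ N)) ∧
    (N ≤ Subgroup.center G → Nat.card {g : (G ⧸ N) // ∃ k : ℕ, orderOf g = p ^ k} * Nat.card (P : Subgroup G) = Nat.card {g : G // ∃ k : ℕ, orderOf g = p ^ k} * Nat.card (Pbar : Subgroup (G ⧸ N))) := by
  classical
  haveI := Fintype.ofFinite (pEls (G ⧸ N) p)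
  have hsum : Nat.card (pEls G p) = ∑ c : pEls (G ⧸ N) p, Nat.card {g : pEls G p // red N g = c} := by
    rw [← Nat.card_congr (Equiv.sigmaFiberEquiv (red (p := p) N)), Nat.card_sigma]
  rw [card_sylow_eq N P Pbar]
  show Nat.card (pEls (G ⧸ N) p) * _ ≤ Nat.card (pEls G p) * _ ∧ (_ → Nat.card (pEls (G ⧸ N) p) * _ = Nat.card (pEls G p) * _)
  refine ⟨?_, fun hN => ?_⟩
  · rw [← mul_assoc, hsum]
    refine Nat.mul_le_mul_right _ ?_
    rw [Nat.card_eq_fintype_card, ← Finset.card_univ, ← smul_eq_mul]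
    exact Finset.card_nsmul_le_sum _ _ _ (fun c _ => le_fibre N P c)
  · rw [← mul_assoc, hsum, Finset.sum_congr rfl (fun c _ => le_antisymm (fibre_le N hN P c) (le_fibre N P c)),
      Finset.sum_const, smul_eq_mul, Finset.card_univ, Nat.card_eq_fintype_card]

end Cfsg.Agent.S4153
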