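import Cfsg.Statements.S4154
import Cfsg.Agent.EqLemmas

set_option autoImplicit false
open Cfsg

namespace Cfsg.Agent.S4154

/-- Let G be a finite group and α an automorphism of G such that every element of G is the product of an element fixed by α and an element of the form g⁻¹α(g). If N is a normal α-invariant subgroup, then the automorphism ᾱ induced on G/N has the same property, and every coset fixed by ᾱ contains an element fixed by α (so the fixed points of ᾱ are the images of the fixed points of α). -/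
theorem result {G : Type*} [Group G] [Finite G] (α : MulAut G)
    (hccp : ∀ x : G, ∃ c g : G, α c = c ∧ x = c * (g⁻¹ * α g))
    (N : Subgroup G) [N.Normal] (hN : ∀ n ∈ N, α n ∈ N) :
    (∀ x : G, ∃ c g : G, c⁻¹ * α c ∈ N ∧ x⁻¹ * (c * (g⁻¹ * α g)) ∈ N) ∧
    (∀ x : G, x⁻¹ * α x ∈ N → ∃ c : G, α c = c ∧ c⁻¹ * x ∈ N) := by
  classical
  refine ⟨fun x => ?_, ?_⟩
  · obtain ⟨c, g, hc, rfl⟩ := hccp x
    exact ⟨c, g, by rw [hc, inv_mul_cancel]; exact one_mem N, by rw [inv_mul_cancel]; exact one_mem N⟩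
  intro x hx
  have hNn : N.Normal := inferInstance
  -- the fixed points
  let C : Subgroup G :=
    { carrier := {c : G | α c = c}
      mul_mem' := fun {a b} ha hb => by
        show α (a * b) = a * b
        rw [map_mul, show α a = a from ha, show α b = b from hb]
      one_mem' := map_one α
      inv_mem' := fun {a} ha => by
        show α a⁻¹ = a⁻¹
        rw [map_inv, show α a = a from ha] }
  -- the fixed points of the quotient, pulled back
  let D : Subgroup G :=
    { carrier := {d : G | d⁻¹ * α d ∈ N}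
      mul_mem' := fun {a b} ha hb => by
        show (a * b)⁻¹ * α (a * b) ∈ N
        have e : (a * b)⁻¹ * α (a * b) = (b⁻¹ * (a⁻¹ * α a) * b) * (b⁻¹ * α b) := by
          rw [map_mul]; group
        rw [e]
        exact N.mul_mem (by simpa using hNn.conj_mem _ ha b⁻¹) hb
      one_mem' := by simp
      inv_mem' := fun {a} ha => by
        show a⁻¹⁻¹ * α a⁻¹ ∈ N
        have e : a⁻¹⁻¹ * α a⁻¹ = a * (a⁻¹ * α a)⁻¹ * a⁻¹ := by
          rw [map_inv]; group
        rw [e]
        exact hNn.conj_mem _ (N.inv_mem ha) a }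
  have hCD : C ≤ D := fun c hc => by
    show c⁻¹ * α c ∈ N
    rw [show α c = c from hc, inv_mul_cancel]; exact one_mem N
  have hND : N ≤ D := fun n hn => N.mul_mem (N.inv_mem hn) (hN n hn)
  let q := QuotientGroup.mk' N
  -- the commutators modulo N are counted by the cosets of D
  let K : Set (G ⧸ N) := Set.range fun g : G => q (g⁻¹ * α g)
  have hK : Nat.card K ≤ D.index := by
    let ψ : G ⧸ D → K := fun c => ⟨q ((Quotient.out c) * α (Quotient.out c)⁻¹), (Quotient.out c)⁻¹, by simp [q]⟩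
    rw [Subgroup.index_eq_card]
    refine Nat.card_le_card_of_surjective ψ ?_
    rintro ⟨k, g, rfl⟩
    refine ⟨QuotientGroup.mk g⁻¹, Subtype.ext ?_⟩
    set o := Quotient.out (QuotientGroup.mk g⁻¹ : G ⧸ D) with ho0
    have ho : o⁻¹ * g⁻¹ ∈ D := (QuotientGroup.eq).mp (QuotientGroup.out_eq' _)
    have ho' : (o⁻¹ * g⁻¹)⁻¹ * α (o⁻¹ * g⁻¹) ∈ N := ho
    show q (o * α o⁻¹) = q (g⁻¹ * α g)
    rw [QuotientGroup.mk'_eq_mk']
    refine ⟨(o * α o⁻¹)⁻¹ * (g⁻¹ * α g), ?_, by group⟩
    have e : (o * α o⁻¹)⁻¹ * (g⁻¹ * α g) =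
        (α g)⁻¹ * ((o⁻¹ * g⁻¹)⁻¹ * α (o⁻¹ * g⁻¹))⁻¹ * α g := by
      simp only [map_mul, map_inv]; group
    rw [e]
    simpa using hNn.conj_mem _ (N.inv_mem ho') (α g)⁻¹
  -- counting G/N as products
  have hcov : Nat.card (G ⧸ N) ≤ Nat.card (C.map q) * Nat.card K := by
    rw [← Nat.card_prod]
    refine Nat.card_le_card_of_surjective (fun ck : C.map q × K => (ck.1 : G ⧸ N) * ck.2) ?_
    intro y
    obtain ⟨y, rfl⟩ := QuotientGroup.mk'_surjective N y
    obtain ⟨c, g, hc, rfl⟩ := hccp y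
    exact ⟨(⟨q c, Subgroup.mem_map_of_mem q hc⟩, ⟨_, g, rfl⟩), (map_mul q _ _).symm⟩
  have hidx : (D.map q).index = D.index := by
    apply Subgroup.index_map_eq _ (QuotientGroup.mk'_surjective N)
    rw [QuotientGroup.ker_mk']; exact hND
  have hle : C.map q ≤ D.map q := Subgroup.map_mono hCD
  have hge : Nat.card (D.map q) ≤ Nat.card (C.map q) := by
    have h1 : Nat.card (D.map q) * D.index ≤ Nat.card (C.map q) * D.index := by
      rw [← hidx, Subgroup.card_mul_index, hidx]
      exact hcov.trans (Nat.mul_le_mul_left _ hK)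
    exact Nat.le_of_mul_le_mul_right h1 (Nat.pos_of_ne_zero Subgroup.index_ne_zero_of_finite)
  have heq := Subgroup.eq_of_le_of_card_ge hle hge
  have : q x ∈ C.map q := by rw [heq]; exact Subgroup.mem_map_of_mem q hx
  obtain ⟨c, hc, hcx⟩ := this
  exact ⟨c, hc, (QuotientGroup.eq).mp hcx⟩

end Cfsg.Agent.S4154
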