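import Cfsg.Statements.S4155
import Cfsg.Agent.Lib.Frobenius.Complement
import Cfsg.Agent.Lib.PGroup.UniqueOrderP
import Cfsg.Agent.Lib.Cores.Fitting
import Cfsg.Agent.Lib.NilGroup.Basic

set_option autoImplicit false
open Cfsg
open scoped Pointwise

namespace Cfsg.Agent.S4155

theorem sylow_map_normal {G : Type*} [Group G] [Finite G] (N : Subgroup G) [N.Normal]
    (hnil : Group.IsNilpotent N) {r : ℕ} [hr : Fact r.Prime] (R : Sylow r N) :
    ((R : Subgroup N).map N.subtype).Normal := by
  haveI := R.characteristic_of_normal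
    (((Group.isNilpotent_of_finite_tfae (G := N)).out 0 3 rfl rfl).mp hnil r hr R)
  infer_instance

theorem eq_one_of_fix {G : Type*} [Group G] [Finite G] (N : Subgroup G)
    (heq : ∀ x : G, x ∉ N → ∀ n ∈ N, orderOf (x * n) = orderOf x) {x n : G} (hx : x ∉ N) (hn : n ∈ N)
    (hc : Commute x n) (hcop : (orderOf x).Coprime (orderOf n)) : n = 1 := by
  have h := heq x hx n hn
  rw [hc.orderOf_mul_eq_mul_orderOf_of_coprime hcop] at h
  exact orderOf_eq_one_iff.mp ((mul_eq_left₀ (orderOf_pos x).ne').mp h)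

theorem exists_other_prime {m q : ℕ} (h1 : m ≠ 1) (h0 : m ≠ 0) (hnpp : ¬ IsPrimePow m) :
    ∃ r : ℕ, r.Prime ∧ r ≠ q ∧ r ∣ m := by
  by_contra h
  push Not at h
  apply hnpp
  obtain ⟨r, hr, hrd⟩ := Nat.exists_prime_and_dvd h1
  have hall : ∀ {s : ℕ}, s.Prime → s ∣ m → s = r := by
    intro s hs hsd
    by_contra hne
    by_cases hrq : r = q
    · exact h s hs (hrq ▸ hne) hsd
    · exact h r hr hrq hrd
  have := Nat.eq_prime_pow_of_unique_prime_dvd h0 hall
  rw [this]
  refine hr.isPrimePow.pow ?_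
  intro h00
  rw [h00, pow_zero] at this
  exact h1 this

/-- Let G be a finite group and N a proper non-trivial normal nilpotent subgroup whose order is not a prime power, such that for every x outside N all elements of the coset xN have the same order as x. Then N is the Fitting subgroup of G, and for every prime q every Sylow q-subgroup of G/N is cyclic or generalized quaternion. -/
theorem result {G : Type*} [Group G] [Finite G] (N : Subgroup G) [N.Normal] (hN1 : N ≠ ⊥) (hN2 : N ≠ ⊤)
    (heq : ∀ x : G, x ∉ N → ∀ n ∈ N, orderOf (x * n) = orderOf x)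
    (hnil : Group.IsNilpotent N) (hnpp : ¬ IsPrimePow (Nat.card N)) :
    N = Cfsg.fittingSubgroup G ∧
    ∀ (q : ℕ) [Fact q.Prime] (Q : Sylow q (G ⧸ N)), IsCyclic (Q : Subgroup (G ⧸ N)) ∨ ∃ n : ℕ, Nonempty ((Q : Subgroup (G ⧸ N)) ≃* QuaternionGroup (2 ^ n)) := by
  classical
  have hm1 : Nat.card N ≠ 1 := fun h => hN1 (Subgroup.card_eq_one.mp h)
  have hm0 : Nat.card N ≠ 0 := Nat.card_pos.ne'
  constructor
  · refine le_antisymm (Cores.le_fittingSubgroup inferInstance hnil) ?_
    set F := Cfsg.fittingSubgroup G with hF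
    have hNF : N ≤ F := Cores.le_fittingSubgroup inferInstance hnil
    intro g hg
    by_contra hgN
    -- a prime power power of g outside N
    obtain ⟨q, hq, hqd⟩ := Nat.exists_prime_and_dvd (show orderOf (g : G ⧸ N) ≠ 1 by
      rw [Ne, orderOf_eq_one_iff, QuotientGroup.eq_one_iff]; exact hgN)
    haveI := Fact.mk hq
    obtain ⟨e, c, hc, heqo⟩ := Nat.exists_eq_pow_mul_and_not_dvd (orderOf_pos g).ne' q hq.ne_one
    have hxN : g ^ c ∉ N := by
      intro h
      have h1 : (g : G ⧸ N) ^ c = 1 := by rw [← QuotientGroup.mk_pow]; exact (QuotientGroup.eq_one_iff _).mpr h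
      exact hc (hqd.trans (orderOf_dvd_of_pow_eq_one h1))
    have hxo : orderOf (g ^ c) ∣ q ^ e :=
      orderOf_dvd_of_pow_eq_one (by rw [← pow_mul, mul_comm, ← heqo, pow_orderOf_eq_one])
    obtain ⟨r, hr, hrq, hrd⟩ := exists_other_prime (q := q) hm1 hm0 hnpp
    haveI := Fact.mk hr
    obtain ⟨n, hn⟩ := exists_prime_orderOf_dvd_card' r hrd
    have hcop : (orderOf (g ^ c)).Coprime (orderOf (n : G)) := by
      rw [Subgroup.orderOf_coe, hn]
      exact Nat.Coprime.coprime_dvd_left hxo (((Nat.coprime_primes hq hr).mpr hrq.symm).pow_left e)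
    have hcomm : Commute (g ^ c) (n : G) := by
      have := NilGroup.commute_of_coprime (G := F) inferInstance
        (x := ⟨g ^ c, F.pow_mem hg c⟩) (y := ⟨(n : G), hNF n.2⟩)
        (by rw [Subgroup.orderOf_mk, Subgroup.orderOf_mk]; exact hcop)
      exact congrArg Subtype.val this.eq
    have := eq_one_of_fix N heq hxN n.2 hcomm hcop
    rw [← Subgroup.orderOf_coe, this, orderOf_one] at hn
    exact hr.ne_one hn.symm
  · intro q hqf Q
    have hq : q.Prime := Fact.out
    obtain ⟨r, hr, hrq, hrd⟩ := exists_other_prime (q := q) hm1 hm0 hnpp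
    haveI := Fact.mk hr
    obtain ⟨R⟩ : Nonempty (Sylow r N) := inferInstance
    obtain ⟨T⟩ : Nonempty (Sylow q N) := inferInstance
    set R' := (R : Subgroup N).map N.subtype with hR'
    set T' := (T : Subgroup N).map N.subtype with hT'
    haveI hTn : T'.Normal := sylow_map_normal N hnil T
    haveI hRn : R'.Normal := sylow_map_normal N hnil R
    -- a Sylow subgroup over Q
    obtain ⟨S⟩ : Nonempty (Sylow q G) := inferInstance
    have hfs : Function.Surjective (QuotientGroup.mk' N) := QuotientGroup.mk'_surjective N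
    obtain ⟨a, ha⟩ := MulAction.exists_smul_eq (G ⧸ N) (S.mapSurjective hfs) Q
    have heQ : (S.mapSurjective hfs : Subgroup (G ⧸ N)) = (S : Subgroup G).map (QuotientGroup.mk' N) :=
      Sylow.coe_mapSurjective hfs S
    let f : G →* G ⧸ T' := QuotientGroup.mk' T'
    set S' := (S : Subgroup G).map f
    set K := R'.map f
    have hTR : ∀ z ∈ R', z ∈ T' → z = 1 := by
      intro z h1 h2
      obtain ⟨i, hi⟩ := IsPGroup.iff_orderOf.mp (R.2.map N.subtype) ⟨z, h1⟩
      obtain ⟨j, hj⟩ := IsPGroup.iff_orderOf.mp (T.2.map N.subtype) ⟨z, h2⟩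
      rw [← Subgroup.orderOf_coe (⟨z, h1⟩ : R')] at hi
      rw [← Subgroup.orderOf_coe (⟨z, h2⟩ : T')] at hj
      exact orderOf_eq_one_iff.mp (Nat.eq_one_of_dvd_coprimes
        (((Nat.coprime_primes hr hq).mpr hrq).pow i j) (hi ▸ dvd_rfl) (hj ▸ dvd_rfl))
    have hNT : ∀ x ∈ (S : Subgroup G), x ∈ N → x ∈ T' := by
      intro x hxS hxN
      have hle : (T : Subgroup N) ≤ (S : Subgroup G).subgroupOf N := by
        intro z hz
        rw [Subgroup.mem_subgroupOf]
        obtain ⟨U, hU⟩ := (T.2.map N.subtype).exists_le_sylow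
        obtain ⟨b, hb⟩ := MulAction.exists_smul_eq G U S
        rw [← hb, Sylow.coe_subgroup_smul, Subgroup.mem_pointwise_smul_iff_inv_smul_mem]
        refine hU ?_
        simp only [MulAut.smul_def, ← map_inv, MulAut.conj_apply]
        exact hTn.conj_mem (z : G) ⟨z, hz, rfl⟩ b⁻¹
      have h2 : (S : Subgroup G).subgroupOf N = T := T.3 (S.2.comap_subtype (K := N)) hle
      exact ⟨⟨x, hxN⟩, h2 ▸ (show (⟨x, hxN⟩ : N) ∈ (S : Subgroup G).subgroupOf N from hxS), rfl⟩
    have hK : K ≠ ⊥ := by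
      intro h
      have hR1 : (R : Subgroup N) = ⊥ := by
        rw [eq_bot_iff]
        intro z hz
        have h1 : f (z : G) ∈ K := ⟨z, ⟨z, hz, rfl⟩, rfl⟩
        rw [h, Subgroup.mem_bot] at h1
        exact Subtype.ext (hTR z ⟨z, hz, rfl⟩ ((QuotientGroup.eq_one_iff _).mp h1))
      exact R.ne_bot_of_dvd_card hrd hR1
    have hfpf : Frobenius.FPF S' K := by
      rintro _ ⟨x, hx, rfl⟩ hx1 _ ⟨z, hz, rfl⟩ hc
      have hxN : x ∉ N := fun h => hx1 ((QuotientGroup.eq_one_iff _).mpr (hNT x hx h))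
      have hc' : x * z * x⁻¹ * z⁻¹ = 1 := by
        refine hTR _ (R'.mul_mem (hRn.conj_mem z hz x) (R'.inv_mem hz)) ?_
        rw [← QuotientGroup.eq_one_iff (N := T')]
        show f (x * z * x⁻¹ * z⁻¹) = 1
        rw [map_mul, map_mul, map_mul, hc, map_inv, map_inv]
        group
      have hc2 : Commute x z := by
        have h0 := mul_inv_eq_one.mp hc'
        calc x * z = (x * z * x⁻¹) * x := by group
          _ = z * x := by rw [h0]
      obtain ⟨i, hi⟩ := IsPGroup.iff_orderOf.mp S.2 ⟨x, hx⟩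
      obtain ⟨j, hj⟩ := IsPGroup.iff_orderOf.mp (R.2.map N.subtype) ⟨z, hz⟩
      rw [← Subgroup.orderOf_coe (⟨x, hx⟩ : (S : Subgroup G))] at hi
      rw [← Subgroup.orderOf_coe (⟨z, hz⟩ : R')] at hj
      rw [eq_one_of_fix N heq hxN (Subgroup.map_subtype_le _ hz) hc2
        (by rw [hi, hj]; exact ((Nat.coprime_primes hq hr).mpr hrq.symm).pow i j), map_one]
    haveI : K.Normal := Subgroup.Normal.map hRn f (QuotientGroup.mk'_surjective T')
    have hsc := Frobenius.smallCyclic_of_fpf hK (by rw [Subgroup.normalizer_eq_top_iff.mpr inferInstance]; exact le_top) hfpf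
    have hS'p : IsPGroup q S' := S.2.map f
    have hcase := PGroup.unique_order_p_cases hS'p (fun x y hx hy => by
      by_cases hy1 : y = 1
      · rw [hy1]; exact one_mem _
      have hyo : orderOf y = q := ((Nat.dvd_prime hq).mp (orderOf_dvd_of_pow_eq_one hy)).resolve_left
        (fun h0 => hy1 (orderOf_eq_one_iff.mp h0))
      exact hsc.mem_zpowers_of_orderOf_eq (P := ⊤) (hS'p.to_subgroup ⊤) trivial trivial hyo hx)
    -- S' is isomorphic to Q
    let u₁ : (S : Subgroup G) →* G ⧸ T' := f.comp (S : Subgroup G).subtype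
    let u₂ : (S : Subgroup G) →* G ⧸ N := (QuotientGroup.mk' N).comp (S : Subgroup G).subtype
    have hker : u₁.ker = u₂.ker := by
      ext x
      rw [MonoidHom.mem_ker, MonoidHom.mem_ker]
      show ((x : G) : G ⧸ T') = 1 ↔ ((x : G) : G ⧸ N) = 1
      rw [QuotientGroup.eq_one_iff, QuotientGroup.eq_one_iff]
      exact ⟨fun h => Subgroup.map_subtype_le _ h, hNT x x.2⟩
    let e₁ : S' ≃* u₁.range := MulEquiv.subgroupCongr (by rw [MonoidHom.range_comp, Subgroup.range_subtype])
    let e₂ : (S.mapSurjective hfs : Subgroup (G ⧸ N)) ≃* u₂.range :=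
      MulEquiv.subgroupCongr (by rw [MonoidHom.range_comp, Subgroup.range_subtype, heQ])
    let e : S' ≃* (Q : Subgroup (G ⧸ N)) :=
      e₁.trans ((QuotientGroup.quotientKerEquivRange u₁).symm.trans
        ((QuotientGroup.quotientMulEquivOfEq hker).trans ((QuotientGroup.quotientKerEquivRange u₂).trans
        (e₂.symm.trans (((S.mapSurjective hfs).equiv Q))))))
    rcases hcase with h | ⟨-, n, ⟨ψ⟩⟩
    · haveI := h
      exact Or.inl (isCyclic_of_surjective _ e.surjective)
    · exact Or.inr ⟨n, ⟨e.symm.trans ψ⟩⟩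

end Cfsg.Agent.S4155
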