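import Cfsg.Statements.S4156
import Cfsg.Agent.EqLemmas

set_option autoImplicit false
open Cfsg

namespace Cfsg.Agent.S4156

section
variable (n : ℕ) (F : Type*) [Field F]

/-- the sum-zero hyperplane of the permutation module -/
def W : Submodule F (Fin (n + 1) → F) where
  carrier := {v | ∑ i, v i = 0}
  add_mem' {a b} ha hb := by
    show ∑ i, (a + b) i = 0
    simp only [Pi.add_apply, Finset.sum_add_distrib, show ∑ i, a i = 0 from ha, show ∑ i, b i = 0 from hb, add_zero]
  zero_mem' := by simp
  smul_mem' c a ha := by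
    show ∑ i, (c • a) i = 0
    simp only [Pi.smul_apply, smul_eq_mul, ← Finset.mul_sum, show ∑ i, a i = 0 from ha, mul_zero]

def coord : W n F ≃ₗ[F] (Fin n → F) where
  toFun v i := (v : Fin (n + 1) → F) i.castSucc
  map_add' _ _ := rfl
  map_smul' _ _ := rfl
  invFun w := ⟨Fin.snoc w (-∑ i, w i), by
    show ∑ i, (Fin.snoc w (-∑ i, w i) : Fin (n + 1) → F) i = 0
    rw [Fin.sum_univ_castSucc]
    simp only [Fin.snoc_castSucc, Fin.snoc_last]
    exact add_neg_cancel _⟩
  left_inv v := by
    refine Subtype.ext (funext fun i => ?_)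
    have hv : ∑ i, (v : Fin (n + 1) → F) i = 0 := v.2
    rw [Fin.sum_univ_castSucc] at hv
    refine Fin.lastCases ?_ (fun i => ?_) i
    · simp only [Fin.snoc_last]; linear_combination -hv
    · simp only [Fin.snoc_castSucc]
  right_inv w := funext fun i => by simp only [Fin.snoc_castSucc]

/-- the action of permutations on the hyperplane -/
def act : Equiv.Perm (Fin (n + 1)) →* Module.End F (W n F) where
  toFun σ :=
    { toFun := fun v => ⟨fun i => (v : Fin (n + 1) → F) (σ.symm i), by
        show ∑ i, (v : Fin (n + 1) → F) (σ.symm i) = 0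
        rw [Equiv.sum_comp σ.symm (v : Fin (n + 1) → F)]
        exact v.2⟩
      map_add' := fun _ _ => rfl
      map_smul' := fun _ _ => rfl }
  map_one' := rfl
  map_mul' _ _ := rfl

noncomputable def matHom : Equiv.Perm (Fin (n + 1)) →* Matrix (Fin n) (Fin n) F :=
  ((LinearMap.toMatrixAlgEquiv (Module.Basis.ofEquivFun (coord n F))).toAlgHom.toMonoidHom).comp (act n F)

theorem eq_one_of_act_eq_one (hn : 2 ≤ n) {σ : Equiv.Perm (Fin (n + 1))} (h : act n F σ = 1) : σ = 1 := by
  refine Equiv.ext fun a => ?_
  by_contra hne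
  have hne' : σ a ≠ a := hne
  -- a third point
  obtain ⟨b, hba, hbσ⟩ : ∃ b : Fin (n + 1), b ≠ a ∧ b ≠ σ a := by
    by_contra hb
    push Not at hb
    have : (Finset.univ : Finset (Fin (n + 1))) ⊆ {a, σ a} := by
      intro b _
      by_cases hba : b = a
      · simp [hba]
      · simp [hb b hba]
    have := Finset.card_le_card this
    rw [Finset.card_univ, Fintype.card_fin] at this
    have := this.trans Finset.card_le_two
    omega
  have hv : (Pi.single a (1 : F) - Pi.single b 1 : Fin (n + 1) → F) ∈ W n F := by
    show ∑ i, (Pi.single a (1 : F) - Pi.single b 1 : Fin (n + 1) → F) i = 0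
    simp [Finset.sum_sub_distrib]
  have h2 := congrArg (fun f : Module.End F (W n F) => ((f ⟨_, hv⟩ : W n F) : Fin (n + 1) → F) (σ a)) h
  have h3 : (Pi.single a (1 : F) - Pi.single b 1 : Fin (n + 1) → F) (σ.symm (σ a)) =
      (Pi.single a (1 : F) - Pi.single b 1 : Fin (n + 1) → F) (σ a) := h2
  rw [Equiv.symm_apply_apply] at h3
  simp [hne', Ne.symm hba, Ne.symm hbσ] at h3

end

/-- Let n ≥ 5 and F a finite field. Then the projective special linear group PSL_n(F) contains a subgroup isomorphic to the alternating group of degree n + 1. -/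
theorem result (n : ℕ) (hn : 5 ≤ n) (F : Type*) [Field F] [Finite F] :
    ∃ f : alternatingGroup (Fin (n + 1)) →* Matrix.ProjectiveSpecialLinearGroup (Fin n) F, Function.Injective f := by
  classical
  let A := alternatingGroup (Fin (n + 1))
  have hA5 : 5 ≤ Nat.card (Fin (n + 1)) := by rw [Nat.card_eq_fintype_card, Fintype.card_fin]; omega
  have hperf : commutator A = ⊤ := commutator_alternatingGroup_eq_top hA5
  haveI : IsSimpleGroup A := alternatingGroup.isSimpleGroup (by first | omega | exact hA5)
  let φ : A →* Matrix (Fin n) (Fin n) F := (matHom n F).comp A.subtype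
  have hinjφ : Function.Injective φ.toHomUnits := by
    rw [injective_iff_map_eq_one]
    intro x hx
    have h1 : φ x = 1 := congrArg Units.val hx
    refine Subtype.ext (eq_one_of_act_eq_one n F (by omega) ?_)
    apply (LinearMap.toMatrixAlgEquiv (Module.Basis.ofEquivFun (coord n F))).injective
    rw [map_one]
    exact h1
  have hdet : ∀ x : A, Matrix.det (φ x) = 1 := by
    intro x
    let d : A →* Fˣ := Units.map Matrix.detMonoidHom |>.comp φ.toHomUnits
    have hd : commutator A ≤ d.ker := by
      rw [commutator_def, Subgroup.commutator_le]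
      intro a _ b _
      rw [MonoidHom.mem_ker, map_commutatorElement, commutatorElement_def, mul_comm (d a) (d b)]
      group
    rw [hperf] at hd
    exact congrArg Units.val (show d x = 1 from hd (Subgroup.mem_top x))
  let ψ : A →* Matrix.SpecialLinearGroup (Fin n) F :=
    { toFun := fun x => ⟨φ x, hdet x⟩
      map_one' := Subtype.ext (map_one φ)
      map_mul' := fun a b => Subtype.ext (map_mul φ a b) }
  refine ⟨(QuotientGroup.mk' _).comp ψ, ?_⟩
  rcases IsSimpleGroup.eq_bot_or_eq_top_of_normal (MonoidHom.ker ((QuotientGroup.mk' (Subgroup.center (Matrix.SpecialLinearGroup (Fin n) F))).comp ψ)) inferInstance with h | h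
  · exact (MonoidHom.ker_eq_bot_iff _).mp h
  · exfalso
    have hc : ∀ a : A, ψ a ∈ Subgroup.center (Matrix.SpecialLinearGroup (Fin n) F) := fun a => by
      have : a ∈ MonoidHom.ker ((QuotientGroup.mk' (Subgroup.center (Matrix.SpecialLinearGroup (Fin n) F))).comp ψ) := by
        rw [h]; trivial
      exact (QuotientGroup.eq_one_iff _).mp this
    have hk : commutator A ≤ ψ.ker := by
      rw [commutator_def, Subgroup.commutator_le]
      intro a _ b _
      rw [MonoidHom.mem_ker, map_commutatorElement, commutatorElement_eq_one_iff_mul_comm]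
      exact (Subgroup.mem_center_iff.mp (hc b)) (ψ a)
    rw [hperf] at hk
    obtain ⟨x, hx⟩ := exists_ne (1 : A)
    apply hx
    apply hinjφ
    rw [map_one]
    exact Units.ext (congrArg Subtype.val (show ψ x = 1 from hk (Subgroup.mem_top x)))

end Cfsg.Agent.S4156
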