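import Cfsg.Statements.S4163
import Cfsg.Agent.Lib.ClassIndex.Basic

set_option autoImplicit false
open Cfsg

namespace Cfsg.Agent.S4163

open scoped commutatorElement in
open Subgroup in
/-- Isaacs: for a normal abelian `A` and a noncentral element `x` of least class size, `⁅A, x⁆` is central. -/
theorem commutator_central {G : Type*} [Group G] [Finite G] (A : Subgroup G) [A.Normal] (hA : IsMulCommutative A)
    (x : G) (hmin : ∀ y : G, (centralizer ({y} : Set G)).index < (centralizer ({x} : Set G)).index →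
      y ∈ center G) (a : G) (ha : a ∈ A) : a * x * a⁻¹ * x⁻¹ ∈ center G := by
  classical
  set C := centralizer ({x} : Set G) with hC
  set c := a * x * a⁻¹ * x⁻¹ with hc
  have hAn : A.Normal := inferInstance
  have hcomm : ∀ u ∈ A, ∀ v ∈ A, u * v = v * u := fun u hu v hv =>
    congrArg Subtype.val (hA.is_comm.comm (⟨u, hu⟩ : A) ⟨v, hv⟩)
  have hcA : c ∈ A := by
    have : c = a * (x * a⁻¹ * x⁻¹) := by rw [hc]; group
    rw [this]
    exact A.mul_mem ha (hAn.conj_mem _ (A.inv_mem ha) x)
  by_cases hc1 : c = 1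
  · rw [hc1]; exact one_mem _
  set L := C ⊔ A with hL
  have hxL : x ∈ L := mem_sup_left (ClassIndex.mem_cent.mpr rfl)
  have hcL : c ∈ L := mem_sup_right hcA
  have hrel : ∀ (z : G) (hz : z ∈ L), (centralizer ({z} : Set G)).relIndex L =
      (centralizer ({(⟨z, hz⟩ : L)} : Set L)).index := by
    intro z hz
    refine congrArg Subgroup.index ?_
    ext g
    rw [mem_subgroupOf, ClassIndex.mem_cent, ClassIndex.mem_cent]
    exact ⟨fun h => Subtype.ext h, fun h => congrArg Subtype.val h⟩
  apply hmin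
  have hle : C.relIndex L * L.index = C.index := relIndex_mul_index le_sup_left
  have hub : (centralizer ({c} : Set G)).index ≤ (centralizer ({c} : Set G)).relIndex L * L.index := by
    rw [← inf_relIndex_right, relIndex_mul_index inf_le_right]
    exact Nat.le_of_dvd (Nat.pos_of_ne_zero index_ne_zero_of_finite) (index_dvd_of_le inf_le_left)
  refine lt_of_le_of_lt hub ?_
  rw [← hle]
  refine Nat.mul_lt_mul_of_pos_right ?_ (Nat.pos_of_ne_zero index_ne_zero_of_finite)
  rw [hC, hrel c hcL, hrel x hxL, ClassIndex.index_centralizer_eq, ClassIndex.index_centralizer_eq]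
  -- conjugates of c under L are displacements of conjugates of x other than x
  have key : ∀ g : L, ∃ h : L, ((h * ⟨x, hxL⟩ * h⁻¹ : L) : G) = ((g * ⟨c, hcL⟩ * g⁻¹ : L) : G) * x := by
    intro g
    have hg : (g : G) ∈ ((C ⊔ A : Subgroup G) : Set G) := g.2
    rw [mul_normal] at hg
    obtain ⟨u, hu, a', ha', hua⟩ := hg
    have hu' : u * x = x * u := ClassIndex.mem_cent.mp hu
    refine ⟨⟨u * a, L.mul_mem (mem_sup_left hu) (mem_sup_right ha)⟩, ?_⟩
    simp only [Subgroup.coe_mul, InvMemClass.coe_inv]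
    rw [← hua]
    have hfix : a' * c * a'⁻¹ = c := by rw [hcomm a' ha' c hcA, mul_inv_cancel_right]
    calc u * a * x * (u * a)⁻¹ = u * c * (x * u⁻¹) := by rw [hc]; group
      _ = u * c * (u⁻¹ * x) := by
        have : x * u⁻¹ = u⁻¹ * x := (Commute.inv_right (show Commute x u from hu'.symm)).eq
        rw [this]
      _ = u * (a' * c * a'⁻¹) * u⁻¹ * x := by rw [hfix]; group
      _ = u * a' * c * (u * a')⁻¹ * x := by group
  haveI : Finite {y : L // ∃ g : L, g * ⟨x, hxL⟩ * g⁻¹ = y} := inferInstance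
  let f : Option {y : L // ∃ g : L, g * ⟨c, hcL⟩ * g⁻¹ = y} → {y : L // ∃ g : L, g * ⟨x, hxL⟩ * g⁻¹ = y} :=
    fun o => match o with
    | none => ⟨⟨x, hxL⟩, 1, by simp⟩
    | some y => ⟨⟨(y.1 : G) * x, L.mul_mem y.1.2 hxL⟩, by
        obtain ⟨g, hg⟩ := y.2
        obtain ⟨h, hh⟩ := key g
        exact ⟨h, Subtype.ext (by rw [hh, hg])⟩⟩
  have hf : Function.Injective f := by
    have hne : ∀ y : {y : L // ∃ g : L, g * ⟨c, hcL⟩ * g⁻¹ = y}, (y.1 : G) * x ≠ x := by
      intro y h
      obtain ⟨g, hg⟩ := y.2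
      have h1 : g * ⟨c, hcL⟩ * g⁻¹ = 1 := by
        rw [hg]; exact Subtype.ext (mul_eq_right.mp h)
      exact hc1 (congrArg Subtype.val (conj_eq_one_iff.mp h1))
    rintro (_ | y) (_ | z) h
    · rfl
    · exact absurd (congrArg (fun w => ((w.1 : L) : G)) h).symm (hne z)
    · exact absurd (congrArg (fun w => ((w.1 : L) : G)) h) (hne y)
    · have := mul_right_cancel (congrArg (fun w => ((w.1 : L) : G)) h)
      exact congrArg some (Subtype.ext (Subtype.ext this))
  have := Nat.card_le_card_of_injective f hf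
  rw [Finite.card_option] at this
  omega

open scoped commutatorElement in
open Subgroup in
/-- The group generated by the elements of least class size has class at most 3. -/
theorem class_le_three {G : Type*} [Group G] [Finite G] (A : Subgroup G) [A.Normal] (hA : IsMulCommutative A)
    (hCA : centralizer (A : Set G) ≤ A) (T : Set G)
    (hT : ∀ x ∈ T, ∀ a ∈ A, a * x * a⁻¹ * x⁻¹ ∈ center G) :
    ∀ w s t : G, w ∈ closure T → s ∈ closure T → t ∈ closure T → ⁅⁅w, s⁆, t⁆ ∈ center G := by
  have hAn : A.Normal := inferInstance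
  have h1 : ∀ s ∈ closure T, ∀ a ∈ A, s * a * s⁻¹ * a⁻¹ ∈ center G := by
    intro s hs
    induction hs using closure_induction with
    | mem x hx =>
      intro a ha
      have : x * a * x⁻¹ * a⁻¹ = (a * x * a⁻¹ * x⁻¹)⁻¹ := by group
      rw [this]; exact (center G).inv_mem (hT x hx a ha)
    | one => intro a _; simp
    | mul u v _ _ iu iv =>
      intro a ha
      have : u * v * a * (u * v)⁻¹ * a⁻¹ =
          (u * (v * a * v⁻¹) * u⁻¹ * (v * a * v⁻¹)⁻¹) * (v * a * v⁻¹ * a⁻¹) := by group
      rw [this]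
      exact (center G).mul_mem (iu _ (hAn.conj_mem a ha v)) (iv a ha)
    | inv u _ iu =>
      intro a ha
      have : u⁻¹ * a * u⁻¹⁻¹ * a⁻¹ = (u * (u⁻¹ * a * u) * u⁻¹ * (u⁻¹ * a * u)⁻¹)⁻¹ := by group
      rw [this]
      exact (center G).inv_mem (iu _ (by simpa using hAn.conj_mem a ha u⁻¹))
  have h2 : ∀ w ∈ closure T, ∀ s ∈ closure T, ⁅w, s⁆ ∈ A := by
    intro w hw s hs
    refine hCA ?_
    intro a ha
    rw [commutatorElement_def]
    calc a * (w * s * w⁻¹ * s⁻¹) = (w * s) * ((w * s)⁻¹ * ((s * w) * ((s * w)⁻¹ * a * (s * w)) * (s * w)⁻¹) * (w * s)) * (s * w)⁻¹ := by group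
      _ = (w * s * w⁻¹ * s⁻¹) * a := by
        have e' : (w * s)⁻¹ * a * (w * s) = (s * w)⁻¹ * a * (s * w) := by
          -- both act on a by the inverse central factors
          obtain ⟨yw, hyw, hw2⟩ : ∃ z ∈ center G, w⁻¹ * a * w = z * a :=
            ⟨_, h1 w⁻¹ (inv_mem hw) a ha, by group⟩
          obtain ⟨ys, hys, hs2⟩ : ∃ z ∈ center G, s⁻¹ * a * s = z * a :=
            ⟨_, h1 s⁻¹ (inv_mem hs) a ha, by group⟩
          calc (w * s)⁻¹ * a * (w * s) = s⁻¹ * (w⁻¹ * a * w) * s := by group
            _ = yw * (s⁻¹ * a * s) := by rw [hw2, ← mul_assoc s⁻¹, mem_center_iff.mp hyw s⁻¹]; group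
            _ = ys * (w⁻¹ * a * w) := by rw [hw2, hs2, ← mul_assoc, ← mul_assoc, mem_center_iff.mp hyw ys]
            _ = w⁻¹ * (s⁻¹ * a * s) * w := by rw [hs2, ← mul_assoc w⁻¹, mem_center_iff.mp hys w⁻¹]; group
            _ = (s * w)⁻¹ * a * (s * w) := by group
        calc (w * s) * ((w * s)⁻¹ * ((s * w) * ((s * w)⁻¹ * a * (s * w)) * (s * w)⁻¹) * (w * s)) * (s * w)⁻¹
            = (w * s) * ((w * s)⁻¹ * a * (w * s)) * (s * w)⁻¹ := by group
          _ = (w * s) * ((s * w)⁻¹ * a * (s * w)) * (s * w)⁻¹ := by rw [e']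
          _ = (w * s * w⁻¹ * s⁻¹) * a := by group
  intro w s t hw hs ht
  have := h1 t ht _ (h2 w hw s hs)
  rw [← commutatorElement_def] at this
  rw [← commutatorElement_inv]
  exact (center G).inv_mem this

/-- Let G be a finite group with a normal abelian subgroup A satisfying C_G(A) = A. Suppose some conjugacy class of G has size greater than 1, let m be the smallest such size, and let M be the subgroup generated by the elements whose class has size 1 or m. Then M is nilpotent of class at most 3. -/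
theorem result {G : Type*} [Group G] [Finite G]
    (A : Subgroup G) [A.Normal] (hA : IsMulCommutative A) (hCA : Subgroup.centralizer (A : Set G) = A)
    (m : ℕ) (hm1 : 1 < m) (hm : ∃ x : G, (Subgroup.centralizer ({x} : Set G)).index = m) (hmin : ∀ x : G, 1 < (Subgroup.centralizer ({x} : Set G)).index → m ≤ (Subgroup.centralizer ({x} : Set G)).index) :
    Subgroup.upperCentralSeries ↥(Subgroup.closure {x : G | (Subgroup.centralizer ({x} : Set G)).index = 1 ∨ (Subgroup.centralizer ({x} : Set G)).index = m}) 3 = ⊤ := by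
  classical
  set T := {x : G | (Subgroup.centralizer ({x} : Set G)).index = 1 ∨ (Subgroup.centralizer ({x} : Set G)).index = m} with hTdef
  have hcent : ∀ y : G, (Subgroup.centralizer ({y} : Set G)).index = 1 → y ∈ Subgroup.center G := by
    intro y hy
    rw [Subgroup.mem_center_iff]
    intro g
    have : g ∈ Subgroup.centralizer ({y} : Set G) := by rw [Subgroup.index_eq_one.mp hy]; trivial
    exact ClassIndex.mem_cent.mp this
  have hT : ∀ x ∈ T, ∀ a ∈ A, a * x * a⁻¹ * x⁻¹ ∈ Subgroup.center G := by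
    intro x hx a ha
    refine commutator_central A hA x (fun y hy => hcent y ?_) a ha
    have hpos : 0 < (Subgroup.centralizer ({y} : Set G)).index :=
      Nat.pos_of_ne_zero Subgroup.index_ne_zero_of_finite
    by_contra hne
    have := hmin y (by omega)
    rcases hx with hx | hx <;> omega
  have key := class_le_three A hA hCA.le T hT
  rw [eq_top_iff]
  intro w _
  rw [Subgroup.mem_upperCentralSeries_succ_iff]
  intro s
  rw [Subgroup.mem_upperCentralSeries_succ_iff]
  intro t
  rw [Subgroup.upperCentralSeries_one, Subgroup.mem_center_iff]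
  intro u
  exact Subtype.ext (Subgroup.mem_center_iff.mp (key w s t w.2 s.2 t.2) u)

end Cfsg.Agent.S4163
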