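import Cfsg.Statements.S4168
import Cfsg.Agent.EqLemmas

set_option autoImplicit false
open Cfsg

namespace Cfsg.Agent.S4168

/-- Let L be a finite quasisimple group (perfect with L/Z(L) simple). Then every prime dividing the order of the centre Z(L) also divides the order of L/Z(L). -/
theorem result {L : Type*} [Group L] [Finite L] (hL : Cfsg.IsQuasisimple L)
    (p : ℕ) (hp : p.Prime) (hdiv : p ∣ Nat.card (Subgroup.center L)) : p ∣ (Subgroup.center L).index := by
  classical
  haveI := Fact.mk hp
  by_contra hnd
  set Z := Subgroup.center L with hZ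
  obtain ⟨P, hP⟩ : ∃ P : Sylow p L, True := ⟨default, trivial⟩
  have hPZ : (P : Subgroup L) ≤ Z := by
    intro x hx
    have hg : IsPGroup p (P : Subgroup L) := P.2
    obtain ⟨k, hk⟩ := hg ⟨x, hx⟩
    have hk' : x ^ p ^ k = 1 := congrArg Subtype.val hk
    rw [← QuotientGroup.eq_one_iff, ← orderOf_eq_one_iff]
    have h1 : orderOf (x : L ⧸ Z) ∣ p ^ k := by
      apply orderOf_dvd_of_pow_eq_one
      rw [← QuotientGroup.mk_pow, hk']; rfl
    have h2 : orderOf (x : L ⧸ Z) ∣ Z.index := by
      rw [Subgroup.index_eq_card]; exact orderOf_dvd_natCard _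
    have h3 : (p ^ k).Coprime Z.index := Nat.Coprime.pow_left k ((Nat.Prime.coprime_iff_not_dvd hp).mpr hnd)
    exact Nat.dvd_one.mp (h3 ▸ Nat.dvd_gcd h1 h2)
  have hnorm : Subgroup.normalizer ((P : Subgroup L) : Set L) ≤ Subgroup.centralizer ((P : Subgroup L) : Set L) := by
    intro g _ y hy
    exact ((Subgroup.mem_center_iff.mp (hPZ hy)) g).symm
  have hc := MonoidHom.ker_transferSylow_isComplement' P hnorm
  set K := (MonoidHom.transferSylow P hnorm).ker with hK
  obtain ⟨hperf, -⟩ := hL
  have hKtop : K = ⊤ := by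
    have : commutator L ≤ K := by
      rw [commutator_def, Subgroup.commutator_le]
      intro a _ b _
      rw [hK, MonoidHom.mem_ker, map_commutatorElement]
      apply Subtype.ext
      have ha : ((MonoidHom.transferSylow P hnorm a : (P : Subgroup L)) : L) ∈ Z := hPZ (Subtype.mem _)
      have := Subgroup.mem_center_iff.mp ha ((MonoidHom.transferSylow P hnorm b : (P : Subgroup L)) : L)
      simp only [commutatorElement_def, Subgroup.coe_mul, InvMemClass.coe_inv, Subgroup.coe_one]
      rw [← this]; group
    rw [hperf.commutator_eq_top] at this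
    exact top_le_iff.mp this
  rw [hKtop, Subgroup.isComplement'_top_left] at hc
  have hPbot : p ∣ Nat.card L := hdiv.trans (Subgroup.card_subgroup_dvd_card Z)
  have hne := P.ne_bot_of_dvd_card hPbot
  exact hne hc

end Cfsg.Agent.S4168
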