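import Cfsg.Statements.S4169
import Cfsg.Agent.S4163
import Cfsg.Agent.Lib.PGroup.NormalAbelian

set_option autoImplicit false
open Cfsg

namespace Cfsg.Agent.S4169

/-- Let P be a finite p-group whose conjugacy classes have exactly two sizes (1 and one other value). Then P has nilpotency class at most 3. -/
theorem result {P : Type*} [Group P] [Finite P] {p : ℕ} [Fact p.Prime] (hP : IsPGroup p P)
    (m : ℕ) (hm : 1 < m) (h : ∀ x : P, (Subgroup.centralizer ({x} : Set P)).index = 1 ∨ (Subgroup.centralizer ({x} : Set P)).index = m) :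
    upperCentralSeries P 3 = ⊤ := by
  classical
  obtain ⟨A, -, ⟨hAn, hAc⟩, hmax⟩ := Finite.exists_le_maximal (α := Subgroup P)
    (p := fun B => B.Normal ∧ ∀ a ∈ B, ∀ b ∈ B, a * b = b * a) (a := ⊥)
    ⟨inferInstance, fun a ha b _ => by rw [Subgroup.mem_bot.mp ha]; simp⟩
  haveI := hAn
  have hCA := PGroup.centralizer_eq_of_maximal_normal_abelian hP hAc
    (fun B hB hBc hle => le_antisymm (hmax ⟨hB, hBc⟩ hle) hle)
  have hA : IsMulCommutative A := ⟨⟨fun a b => Subtype.ext (hAc a a.2 b b.2)⟩⟩
  have hT : ∀ x ∈ (Set.univ : Set P), ∀ a ∈ A, a * x * a⁻¹ * x⁻¹ ∈ Subgroup.center P := by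
    intro x _ a ha
    refine S4163.commutator_central A hA x (fun y hy => ?_) a ha
    rw [Subgroup.mem_center_iff]
    intro g
    have hy1 : (Subgroup.centralizer ({y} : Set P)).index = 1 := by
      rcases h y with h1 | h1
      · exact h1
      · exfalso
        rcases h x with h2 | h2 <;> omega
    have : g ∈ Subgroup.centralizer ({y} : Set P) := by rw [Subgroup.index_eq_one.mp hy1]; trivial
    exact ClassIndex.mem_cent.mp this
  have key := S4163.class_le_three A hA hCA.le Set.univ hT
  rw [Subgroup.closure_univ] at key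
  rw [eq_top_iff]
  intro w _
  show w ∈ Subgroup.upperCentralSeries P (2 + 1)
  rw [Subgroup.mem_upperCentralSeries_succ_iff]
  intro s
  rw [Subgroup.mem_upperCentralSeries_succ_iff]
  intro t
  rw [Subgroup.upperCentralSeries_one]
  exact key w s t trivial trivial trivial

end Cfsg.Agent.S4169
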