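import Cfsg.Statements.S4172
import Cfsg.Agent.EqLemmas
import Cfsg.Agent.Lib.Components.GenFitting
import Cfsg.Agent.Lib.Transfer.Criteria
import Cfsg.Agent.Lib.PGroup.Basic
import Cfsg.Agent.Lib.PGroup.SylowCentral
import Cfsg.Agent.Lib.Solvable.Gaschutz

set_option autoImplicit false
open Cfsg

namespace Cfsg.Agent.S4172

open Subgroup Cfsg.Agent
open scoped Pointwise commutatorElement

section Helpers

variable {G : Type*} [Group G] [Finite G] {p : ℕ} [Fact p.Prime]

omit [Finite G] [Fact p.Prime] in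
/-- the Frattini subgroup of a Sylow subgroup, inside the group -/
abbrev phi (P : Sylow p G) : Subgroup G :=
  (frattini ↥(P : Subgroup G)).map (P : Subgroup G).subtype

theorem frattini_le_comap {A B : Type*} [Group A] [Group B] [Finite A] [Finite B]
    (hB : IsPGroup p B) (f : A →* B) : frattini A ≤ (frattini B).comap f := by
  refine PGroup.frattini_le_of_quotient_elementary (p := p) ?_
    (fun x => by rw [mem_comap, map_pow]; exact PGroup.pow_mem_frattini hB _)
  rw [commutator_def, commutator_le]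
  intro a _ b _
  rw [mem_comap, map_commutatorElement]
  exact PGroup.commutatorElement_mem_frattini hB _ _

/-- Tate's theorem for a subgroup normalised by a Sylow subgroup -/
theorem hasNormalPComplement_of_le_phi (P : Sylow p G) (A : Subgroup G)
    (hn : (P : Subgroup G) ≤ normalizer (A : Set G)) (h : A ⊓ (P : Subgroup G) ≤ phi P) :
    HasNormalPComplement p A := by
  set H := (P : Subgroup G) ⊔ A
  have hnA : (A.subgroupOf H).Normal :=
    normal_subgroupOf_of_le_normalizer (sup_le hn le_normalizer)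
  let P1 : Sylow p H := P.subtype le_sup_left
  have key : (A.subgroupOf H) ⊓ (P1 : Subgroup H) ≤
      (frattini ↥(P1 : Subgroup H)).map (P1 : Subgroup H).subtype := by
    intro z hz
    obtain ⟨hzA, hzP⟩ := mem_inf.mp hz
    obtain ⟨y, hy, hyz⟩ := h ⟨mem_subgroupOf.mp hzA, (mem_subgroupOf.mp hzP : (z : G) ∈ (P : Subgroup G))⟩
    let f : ↥(P : Subgroup G) →* ↥(P1 : Subgroup H) :=
      (subgroupOfEquivOfLe (le_sup_left : (P : Subgroup G) ≤ H)).symm.toMonoidHom
    exact ⟨f y, frattini_le_comap P1.2 f hy, Subtype.ext hyz⟩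
  exact Transfer.hasNormalPComplement_of_equiv
    (Transfer.frattini_hasNormalPComplement P1 _ key) (subgroupOfEquivOfLe le_sup_right)

/-- with trivial `p'`-core, a subnormal subgroup with a normal `p`-complement is a `p`-group -/
theorem isPGroup_of_hasNormalPComplement (hcore : Cfsg.pPrimeCore p G = ⊥) {A : Subgroup G}
    (hA : A.IsSubnormal) (h : HasNormalPComplement p A) : IsPGroup p A := by
  obtain ⟨Q, K, hK, hc⟩ := h
  have hsn : (K.map A.subtype).IsSubnormal := hK.isSubnormal.trans' hA
  have hcop : (Nat.card K).Coprime p := by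
    have h1 : ¬ p ∣ (Q : Subgroup A).index := Q.not_dvd_index
    rw [hc.index_eq_card] at h1
    exact Nat.coprime_comm.mp ((Fact.out : p.Prime).coprime_iff_not_dvd.mpr h1)
  have h1 : K.map A.subtype = ⊥ := by
    refine le_bot_iff.mp ((Cores.le_pPrimeCore_of_isSubnormal (p := p) hsn ?_).trans hcore.le)
    rwa [Nat.card_congr (K.equivMapOfInjective _ A.subtype_injective).toEquiv.symm]
  have hKb : K = ⊥ := (map_eq_bot_iff_of_injective _ A.subtype_injective).mp h1
  have hQ : (Q : Subgroup A) = ⊤ := by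
    have := hc.sup_eq_top
    rwa [hKb, bot_sup_eq] at this
  have := Q.2
  rw [hQ] at this
  exact this.of_equiv Subgroup.topEquiv

variable (P : Sylow p G) (hgen : (frattini ↥(P : Subgroup G)).index = p ^ 2)
include hgen

/-- a subgroup of `P` normalised by `P` outside `Φ(P)` has cyclic quotient in `P` -/
theorem exists_gen (A : Subgroup G) (hn : (P : Subgroup G) ≤ normalizer (A : Set G))
    (h : ¬ A ⊓ (P : Subgroup G) ≤ phi P) :
    ∃ x ∈ (P : Subgroup G), (A ⊓ (P : Subgroup G)) ⊔ zpowers x = P := by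
  set Q : Subgroup G := A ⊓ (P : Subgroup G) with hQdef
  set A' := Q.subgroupOf (P : Subgroup G) with hA'
  have hnQ : A'.Normal := normal_subgroupOf_of_le_normalizer
    ((le_inf hn le_normalizer).trans inf_normalizer_le_normalizer_inf)
  have hlt : frattini ↥(P : Subgroup G) < A' ⊔ frattini ↥(P : Subgroup G) := by
    refine lt_of_le_of_ne le_sup_right fun he => h ?_
    have hle : A' ≤ frattini ↥(P : Subgroup G) := he ▸ le_sup_left
    have := Subgroup.map_mono (f := (P : Subgroup G).subtype) hle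
    rwa [hA', map_subgroupOf_eq_of_le inf_le_right] at this
  have hi : (A' ⊔ frattini ↥(P : Subgroup G)).index ∣ p := by
    have h1 : (A' ⊔ frattini ↥(P : Subgroup G)).index ∣ p ^ 2 := by
      rw [← hgen]; exact index_dvd_of_le le_sup_right
    obtain ⟨k, hk, hk2⟩ := (Nat.dvd_prime_pow (Fact.out : p.Prime)).mp h1
    have h2 := relIndex_mul_index hlt.le
    rw [hgen, hk2] at h2
    rcases Nat.lt_or_ge k 2 with hk' | hk'
    · rw [hk2]; exact (pow_dvd_pow p (by omega : k ≤ 1)).trans (by rw [pow_one])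
    · exfalso
      have hk3 : k = 2 := by omega
      subst hk3
      have h3 : (frattini ↥(P : Subgroup G)).relIndex (A' ⊔ frattini ↥(P : Subgroup G)) = 1 :=
        Nat.eq_of_mul_eq_mul_right (pow_pos (Fact.out : p.Prime).pos 2) (by rw [h2, one_mul])
      exact hlt.not_ge (relIndex_eq_one.mp h3)
  obtain ⟨x, hx⟩ : ∃ x : ↥(P : Subgroup G),
      (A' ⊔ frattini ↥(P : Subgroup G)) ⊔ zpowers x = ⊤ := by
    rcases (Nat.dvd_prime (Fact.out : p.Prime)).mp hi with h1 | h1
    · exact ⟨1, by rw [index_eq_one.mp h1, top_sup_eq]⟩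
    · obtain ⟨x, hx⟩ : ∃ x, x ∉ A' ⊔ frattini ↥(P : Subgroup G) := by
        by_contra hall
        push Not at hall
        rw [show A' ⊔ frattini ↥(P : Subgroup G) = ⊤ from eq_top_iff' _ |>.mpr hall, index_top] at h1
        exact (Fact.out : p.Prime).ne_one h1.symm
      refine ⟨x, ?_⟩
      have hlt2 : A' ⊔ frattini ↥(P : Subgroup G) <
          (A' ⊔ frattini ↥(P : Subgroup G)) ⊔ zpowers x :=
        left_lt_sup.mpr (fun hh => hx (hh (mem_zpowers x)))
      have h2 : ((A' ⊔ frattini ↥(P : Subgroup G)) ⊔ zpowers x).index ∣ p :=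
        (index_dvd_of_le le_sup_left).trans (dvd_of_eq h1)
      rcases (Nat.dvd_prime (Fact.out : p.Prime)).mp h2 with h3 | h3
      · exact index_eq_one.mp h3
      · exact absurd (eq_of_le_of_card_ge hlt2.le (Nat.le_of_eq (by
          have e1 := card_mul_index (A' ⊔ frattini ↥(P : Subgroup G))
          have e2 := card_mul_index ((A' ⊔ frattini ↥(P : Subgroup G)) ⊔ zpowers x)
          rw [h1] at e1
          rw [h3] at e2
          exact Nat.eq_of_mul_eq_mul_right (Fact.out : p.Prime).pos (e2.trans e1.symm)))) hlt2.ne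
  have htop : A' ⊔ zpowers x = ⊤ :=
    PGroup.eq_top_of_sup_frattini (by rwa [sup_right_comm])
  refine ⟨x, x.2, ?_⟩
  have := congrArg (Subgroup.map (P : Subgroup G).subtype) htop
  rwa [Subgroup.map_sup, hA', map_subgroupOf_eq_of_le inf_le_right, MonoidHom.map_zpowers,
    ← MonoidHom.range_eq_map, range_subtype] at this

/-- such a subgroup contains `P'` -/
theorem commutator_le_of_outside (A : Subgroup G) (hn : (P : Subgroup G) ≤ normalizer (A : Set G))
    (h : ¬ A ⊓ (P : Subgroup G) ≤ phi P) : ⁅(P : Subgroup G), (P : Subgroup G)⁆ ≤ A := by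
  obtain ⟨x, hxP, hx⟩ := exists_gen P hgen A hn h
  set A' := (A ⊓ (P : Subgroup G)).subgroupOf (P : Subgroup G) with hA'
  have hnQ : A'.Normal := normal_subgroupOf_of_le_normalizer
    ((le_inf hn le_normalizer).trans inf_normalizer_le_normalizer_inf)
  have hgenq : ∀ a : ↥(P : Subgroup G) ⧸ A', a ∈ zpowers (QuotientGroup.mk' A' ⟨x, hxP⟩) := by
    intro a
    induction a using QuotientGroup.induction_on with
    | H g =>
      have htop : A' ⊔ zpowers (⟨x, hxP⟩ : ↥(P : Subgroup G)) = ⊤ := by
        apply Subgroup.map_injective (P : Subgroup G).subtype_injective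
        rw [Subgroup.map_sup, hA', map_subgroupOf_eq_of_le inf_le_right, MonoidHom.map_zpowers,
          ← MonoidHom.range_eq_map, range_subtype]
        exact hx
      have h1 := mem_map_of_mem (QuotientGroup.mk' A') (htop.ge (mem_top g))
      rwa [Subgroup.map_sup, QuotientGroup.map_mk'_self, bot_sup_eq, MonoidHom.map_zpowers] at h1
  haveI : IsCyclic (↥(P : Subgroup G) ⧸ A') := ⟨⟨_, fun a => mem_zpowers_iff.mp (hgenq a)⟩⟩
  have hc : _root_.commutator ↥(P : Subgroup G) ≤ A' :=
    Subgroup.Normal.quotient_commutative_iff_commutator_le.mp IsCyclic.isMulCommutative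
  have := Subgroup.map_mono (f := (P : Subgroup G).subtype) hc
  rw [hA', map_subgroupOf_eq_of_le inf_le_right, map_subtype_commutator] at this
  exact this.trans inf_le_left

omit hgen
variable (hna : ¬ IsMulCommutative (P : Subgroup G)) (hcore : Cfsg.pPrimeCore p G = ⊥)
  (hfrat : (phi P).normalCore = ⊥)
include hcore hfrat

theorem not_le_phi_of_normal (N : Subgroup G) [N.Normal] (hN : N ≠ ⊥) :
    ¬ N ⊓ (P : Subgroup G) ≤ phi P := by
  intro h
  have hp : IsPGroup p N := isPGroup_of_hasNormalPComplement hcore (Normal.isSubnormal inferInstance)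
    (hasNormalPComplement_of_le_phi P N (normalizer_eq_top (H := N) ▸ le_top) h)
  have hNP : N ≤ (P : Subgroup G) := hp.le_sylow_of_normal P
  rw [inf_eq_left.mpr hNP] at h
  exact hN (le_bot_iff.mp (hfrat ▸ (normal_le_normalCore.mpr h)))

include hgen hna

/-- there is a unique minimal normal subgroup -/
theorem inf_ne_bot (N M : Subgroup G) [N.Normal] [M.Normal] (hN : N ≠ ⊥) (hM : M ≠ ⊥) :
    N ⊓ M ≠ ⊥ := by
  intro h
  refine hna ?_
  have h1 := le_inf (commutator_le_of_outside P hgen N (normalizer_eq_top (H := N) ▸ le_top)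
      (not_le_phi_of_normal P hcore hfrat N hN))
    (commutator_le_of_outside P hgen M (normalizer_eq_top (H := M) ▸ le_top)
      (not_le_phi_of_normal P hcore hfrat M hM))
  rw [h, le_bot_iff, commutator_eq_bot_iff_le_centralizer] at h1
  exact le_centralizer_iff_isMulCommutative.mp h1

/-- the abelian case: `F*(G)` is the minimal normal subgroup -/
theorem abelian_case (N : Subgroup G) [N.Normal] (hN : N ≠ ⊥)
    (hmin : ∀ K : Subgroup G, K.Normal → K ≠ ⊥ → N ≤ K) (hR : Cfsg.pCore p G ≠ ⊥) :
    Cfsg.generalizedFittingSubgroup G = N ∧ IsMulCommutative N := by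
  have hRn := Cores.pCore_normal p G
  set R := Cfsg.pCore p G with hRdef
  have hRp : IsPGroup p R := Cores.isPGroup_pCore p G
  have hNR : N ≤ R := hmin R hRn hR
  have hRP : R ≤ (P : Subgroup G) := hRp.le_sylow_of_normal P
  -- `R` is elementary abelian
  have hΦR : (frattini ↥R).map R.subtype = ⊥ := by
    haveI : ((frattini ↥R).map R.subtype).Normal := ConjAct.normal_of_characteristic_of_normal
    refine le_bot_iff.mp (hfrat ▸ normal_le_normalCore.mpr ?_)
    rintro _ ⟨r, hr, rfl⟩
    exact ⟨inclusion hRP r, frattini_le_comap P.2 (inclusion hRP) hr, rfl⟩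
  have hΦ : frattini ↥R = ⊥ := (map_eq_bot_iff_of_injective _ R.subtype_injective).mp hΦR
  have hRc : ∀ a ∈ R, ∀ b ∈ R, a * b = b * a := fun a ha b hb => by
    have := PGroup.commutatorElement_mem_frattini hRp (⟨a, ha⟩ : R) ⟨b, hb⟩
    rw [hΦ, mem_bot, commutatorElement_eq_one_iff_mul_comm] at this
    exact congrArg Subtype.val this
  have hRe : ∀ a ∈ R, a ^ p = 1 := fun a ha => by
    have := PGroup.pow_mem_frattini hRp (⟨a, ha⟩ : R)
    rw [hΦ, mem_bot] at this
    exact congrArg Subtype.val this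
  have hNc : IsMulCommutative N :=
    ⟨⟨fun a b => Subtype.ext (hRc a (hNR a.2) b (hNR b.2))⟩⟩
  -- no components
  have hE : Cfsg.layer G = ⊥ := by
    by_contra hE
    have hNE : N ≤ Cfsg.layer G := hmin _ inferInstance hE
    refine not_le_phi_of_normal P hcore hfrat N hN ?_
    intro z hz
    have hperf : _root_.commutator ↥(Cfsg.layer G) = ⊤ := Group.IsPerfect.commutator_eq_top
    obtain ⟨Q⟩ : Nonempty (Sylow p ↥(Cfsg.layer G)) := inferInstance
    obtain ⟨Q', hQ'⟩ := (Q.2.map (Cfsg.layer G).subtype).exists_le_sylow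
    obtain ⟨g, rfl⟩ := MulAction.exists_smul_eq G P Q'
    rw [Sylow.coe_subgroup_smul] at hQ'
    let z' : G := g * z * g⁻¹
    have hz'N : z' ∈ N := Normal.conj_mem inferInstance z hz.1 g
    let w : ↥(Cfsg.layer G) := ⟨z', hNE hz'N⟩
    have hw : w ∈ center ↥(Cfsg.layer G) := by
      rw [mem_center_iff]
      intro e
      refine Subtype.ext ?_
      exact (Components.layer_le_centralizer_of_solvable (by haveI := hNc; exact isSolvable_of_comm (fun a b => IsMulCommutative.is_comm.comm a b))
        (normalizer_eq_top (H := N) ▸ le_top) e.2 z' hz'N).symm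
    have hwQ : w ∈ (Q : Subgroup ↥(Cfsg.layer G)) := by
      have hpn : IsPGroup p ↥(N.subgroupOf (Cfsg.layer G)) :=
        (hRp.to_le hNR).comap_of_injective _ (Cfsg.layer G).subtype_injective
      exact hpn.le_sylow_of_normal Q (mem_subgroupOf.mpr hz'N)
    have h1 := PGroup.mem_frattini_of_perfect_central hperf Q hwQ hw
    have hmem : ∀ q : ↥(Q : Subgroup ↥(Cfsg.layer G)),
        g⁻¹ * ((q : ↥(Cfsg.layer G)) : G) * g ∈ (P : Subgroup G) := by
      intro q
      have := hQ' (mem_map_of_mem (Cfsg.layer G).subtype q.2)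
      rw [mem_pointwise_smul_iff_inv_smul_mem] at this
      simpa [MulAut.smul_def, MulAut.conj_symm_apply, mul_assoc] using this
    let f : ↥(Q : Subgroup ↥(Cfsg.layer G)) →* ↥(P : Subgroup G) :=
      { toFun := fun q => ⟨g⁻¹ * ((q : ↥(Cfsg.layer G)) : G) * g, hmem q⟩
        map_one' := by ext; simp
        map_mul' := fun a b => by ext; simp [mul_assoc] }
    refine ⟨f ⟨w, hwQ⟩, frattini_le_comap P.2 f h1, ?_⟩
    simp [f, w, z', mul_assoc]
  have hF : Cfsg.generalizedFittingSubgroup G = R := Components.genFitting_eq_pCore_of hE hcore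
  refine ⟨hF.trans ?_, hNc⟩
  -- `R = N`
  refine le_antisymm ?_ hNR
  by_contra hne
  obtain ⟨r, hrR, hrN⟩ := SetLike.not_le_iff_exists.mp hne
  have hnN : (P : Subgroup G) ≤ normalizer (N : Set G) := normalizer_eq_top (H := N) ▸ le_top
  have hNP : N ⊓ (P : Subgroup G) = N := inf_eq_left.mpr (hNR.trans hRP)
  obtain ⟨x, hxP, hx⟩ := exists_gen P hgen N hnN (not_le_phi_of_normal P hcore hfrat N hN)
  rw [hNP] at hx
  obtain ⟨n, hn, y, hy, rfl⟩ := mem_sup_of_normal_left.mp (hx.ge (hRP hrR))
  have hyR : y ∈ R := by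
    have := R.mul_mem (R.inv_mem (hNR hn)) hrR
    simpa using this
  have hyN : y ∉ N := fun hh => hrN (N.mul_mem hn hh)
  have hyp : orderOf y = p :=
    orderOf_eq_prime (hRe y hyR) (fun h1 => hyN (h1 ▸ N.one_mem))
  have hdisj : zpowers x ⊓ N = ⊥ := by
    have hcyc : IsCyclic ↥(zpowers x) := inferInstance
    have hxp : IsPGroup p ↥(zpowers x) := P.2.to_le (zpowers_le.mpr hxP)
    have h2 : zpowers y ⊓ (zpowers x ⊓ N) = ⊥ := by
      rw [eq_bot_iff]
      intro a ha
      obtain ⟨ha1, -, ha2⟩ := ha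
      by_contra hane
      have hane' : a ≠ 1 := fun h => hane (mem_bot.mpr h)
      refine hyN ?_
      have hza : zpowers a = zpowers y := by
        refine eq_of_le_of_card_ge (zpowers_le.mpr ha1) ?_
        rw [Nat.card_zpowers, Nat.card_zpowers, hyp]
        exact le_of_eq (orderOf_eq_prime (hRe a (hNR ha2)) hane').symm
      exact (zpowers_le.mpr ha2) (hza ▸ mem_zpowers y)
    rcases Transfer.cyclic_subgroup_eq_bot_or hxp hcyc (zpowers_le.mpr hy) inf_le_left h2 with h3 | h3
    · exact absurd (zpowers_eq_bot.mp h3) (fun h1 => hyN (h1 ▸ N.one_mem))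
    · exact h3
  have hNle : N ≤ (P : Subgroup G) := hNR.trans hRP
  haveI := hNc
  have hcop : (Nat.card N).Coprime (P : Subgroup G).index :=
    P.card_coprime_index.coprime_dvd_left (card_dvd_of_le hNle)
  obtain ⟨H, hH⟩ := Solvable.gaschutz_exists hNle hcop hdisj hx
  have hnorm : (R ⊓ H).Normal := by
    rw [← normalizer_eq_top_iff, eq_top_iff, ← hH.sup_eq_top, sup_le_iff]
    refine ⟨?_, ?_⟩
    · refine le_trans ?_ (centralizer_le_normalizer _)
      intro a ha b hb
      exact hRc b hb.1 a (hNR ha)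
    · exact (le_inf (normalizer_eq_top (H := R) ▸ le_top) le_normalizer).trans
        inf_normalizer_le_normalizer_inf
  have hbot : R ⊓ H = ⊥ := by
    by_contra hb
    have h1 : N ≤ H := (hmin _ hnorm hb).trans inf_le_right
    exact hN (le_bot_iff.mp ((le_inf le_rfl h1).trans hH.disjoint.le_bot))
  obtain ⟨a, ha, b, hb, hab⟩ := mem_sup_of_normal_left.mp (hH.sup_eq_top.ge (mem_top y))
  have hbR : b ∈ R := by
    have := R.mul_mem (R.inv_mem (hNR ha)) (hab.symm ▸ hyR : a * b ∈ R)
    simpa using this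
  have hb1 : b = 1 := mem_bot.mp (hbot ▸ ⟨hbR, hb⟩)
  rw [hb1, mul_one] at hab
  exact hyN (hab ▸ ha)

/-- the semisimple case -/
theorem semisimple_case (N : Subgroup G) [N.Normal] (hN : N ≠ ⊥)
    (hmin : ∀ K : Subgroup G, K.Normal → K ≠ ⊥ → N ≤ K) (hR : Cfsg.pCore p G = ⊥) :
    Cfsg.generalizedFittingSubgroup G = N ∧
      ∀ K L : Subgroup G, Cfsg.IsComponent K → Cfsg.IsComponent L →
        ∃ x ∈ (P : Subgroup G), L = K.map (MulAut.conj x).toMonoidHom := by
  have hF : Cfsg.fittingSubgroup G = ⊥ := (Components.fitting_eq_pCore_of hcore).trans hR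
  have hFE : Cfsg.generalizedFittingSubgroup G = Cfsg.layer G := by
    rw [Cfsg.generalizedFittingSubgroup, hF, sup_bot_eq]
  have hC : centralizer (N : Set G) = ⊥ := by
    by_contra hne
    have h1 : N ≤ centralizer (N : Set G) := hmin _ normal_centralizer hne
    haveI := le_centralizer_iff_isMulCommutative.mp h1
    open scoped IsMulCommutative in
    have h2 : N ≤ Cfsg.fittingSubgroup G := Cores.le_fittingSubgroup inferInstance inferInstance
    exact hN (le_bot_iff.mp (hF ▸ h2))
  have hE : Cfsg.layer G ≠ ⊥ := by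
    intro hE
    have h1 := Components.centralizer_genFitting_le_fitting (G := G)
    rw [hFE, hE, coe_bot, centralizer_eq_top_iff_subset.mpr (by simp), hF] at h1
    exact hN (le_bot_iff.mp (le_top.trans h1))
  have hEN : Cfsg.generalizedFittingSubgroup G = N := by
    rw [hFE]
    refine le_antisymm (Components.layer_le fun K hK => ?_) (hmin _ inferInstance hE)
    rcases Components.IsComponent.le_or_commutes hK (Normal.isSubnormal (inferInstance : N.Normal))
      with h | h
    · exact h
    · rw [commutator_eq_bot_iff_le_centralizer, hC, le_bot_iff] at h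
      exact absurd h (Components.IsComponent.ne_bot hK)
  refine ⟨hEN, fun K L hK hL => ?_⟩
  by_contra hnot
  push Not at hnot
  set O1 : Set (Subgroup G) :=
    {M | ∃ x ∈ (P : Subgroup G), M = K.map (MulAut.conj x).toMonoidHom} with hO1
  set O2 : Set (Subgroup G) := {M | Cfsg.IsComponent M ∧ M ∉ O1} with hO2
  have hO1c : ∀ M ∈ O1, Cfsg.IsComponent M := by
    rintro M ⟨x, -, rfl⟩
    exact Components.IsComponent.conj hK x
  have hO2c : ∀ M ∈ O2, Cfsg.IsComponent M := fun M hM => hM.1
  have hmm : ∀ (M : Subgroup G) (a b : G), (M.map (MulAut.conj b).toMonoidHom).map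
      (MulAut.conj a).toMonoidHom = M.map (MulAut.conj (a * b)).toMonoidHom := by
    intro M a b
    rw [map_map]
    congr 1
    ext y
    simp [mul_assoc]
  have hone : ∀ M : Subgroup G, M.map (MulAut.conj (1 : G)).toMonoidHom = M := by
    intro M
    rw [show (MulAut.conj (1 : G)).toMonoidHom = MonoidHom.id G by ext; simp, Subgroup.map_id]
  have hinv1 : ∀ g ∈ (P : Subgroup G), ∀ M ∈ O1, M.map (MulAut.conj g).toMonoidHom ∈ O1 := by
    rintro g hg M ⟨x, hx, rfl⟩
    exact ⟨g * x, mul_mem hg hx, hmm K g x⟩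
  have hinv2 : ∀ g ∈ (P : Subgroup G), ∀ M ∈ O2, M.map (MulAut.conj g).toMonoidHom ∈ O2 := by
    rintro g hg M ⟨hM, hM'⟩
    refine ⟨Components.IsComponent.conj hM g, fun h => hM' ?_⟩
    have := hinv1 g⁻¹ (inv_mem hg) _ h
    rw [hmm, inv_mul_cancel, hone] at this
    exact this
  have hnorm : ∀ O : Set (Subgroup G),
      (∀ g ∈ (P : Subgroup G), ∀ M ∈ O, M.map (MulAut.conj g).toMonoidHom ∈ O) →
      (P : Subgroup G) ≤ normalizer ((sSup O : Subgroup G) : Set G) := by
    intro O hO g hg
    have hle : ∀ g ∈ (P : Subgroup G), ∀ y ∈ (sSup O : Subgroup G), g * y * g⁻¹ ∈ sSup O := by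
      intro g hg y hy
      have h1 : (sSup O : Subgroup G).map (MulAut.conj g).toMonoidHom ≤ sSup O := by
        rw [map_le_iff_le_comap]
        exact sSup_le fun M hM => map_le_iff_le_comap.mp (le_sSup (hO g hg M hM))
      exact h1 ⟨y, hy, rfl⟩
    rw [mem_normalizer_iff]
    intro y
    refine ⟨hle g hg y, fun h => ?_⟩
    have := hle g⁻¹ (inv_mem hg) _ h
    simpa [mul_assoc] using this
  set A := (sSup O1 : Subgroup G) with hA
  set B := (sSup O2 : Subgroup G) with hB
  have hAE : A ≤ Cfsg.layer G := sSup_le fun M hM => Components.IsComponent.le_layer (hO1c M hM)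
  have hBE : B ≤ Cfsg.layer G := sSup_le fun M hM => Components.IsComponent.le_layer (hO2c M hM)
  have hsub : ∀ O : Set (Subgroup G), (∀ M ∈ O, Cfsg.IsComponent M) →
      (sSup O : Subgroup G).IsSubnormal := by
    intro O hO
    have hOE : (sSup O : Subgroup G) ≤ Cfsg.layer G :=
      sSup_le fun M hM => Components.IsComponent.le_layer (hO M hM)
    refine IsSubnormal.step _ _ hOE (Normal.isSubnormal inferInstance) ?_
    refine normal_subgroupOf_of_le_normalizer ?_
    intro e he
    have hle : ∀ e ∈ Cfsg.layer G, (sSup O : Subgroup G).map (MulAut.conj e).toMonoidHom ≤ sSup O := by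
      intro e he
      rw [map_le_iff_le_comap]
      refine sSup_le fun M hM => ?_
      rw [← map_le_iff_le_comap]
      rintro _ ⟨y, hy, rfl⟩
      exact le_sSup hM ((mem_normalizer_iff.mp
        (Components.IsComponent.layer_le_normalizer (hO M hM) he) y).mp hy)
    rw [mem_normalizer_iff]
    intro y
    refine ⟨fun h => hle e he ⟨y, h, rfl⟩, fun h => ?_⟩
    have := hle e⁻¹ (inv_mem he) ⟨_, h, rfl⟩
    simpa [mul_assoc] using this
  have hnot_phi : ∀ O : Set (Subgroup G), (∀ M ∈ O, Cfsg.IsComponent M) → (∃ M, M ∈ O) →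
      (P : Subgroup G) ≤ normalizer ((sSup O : Subgroup G) : Set G) →
      ¬ (sSup O : Subgroup G) ⊓ (P : Subgroup G) ≤ phi P := by
    intro O hO ⟨M, hM⟩ hn h
    have hp := isPGroup_of_hasNormalPComplement hcore (hsub O hO)
      (hasNormalPComplement_of_le_phi P _ hn h)
    exact Components.IsQuasisimple.not_isNilpotent (hO M hM).2 (hp.to_le (le_sSup hM)).isNilpotent
  have h1 := commutator_le_of_outside P hgen A (hnorm O1 hinv1) (hnot_phi O1 hO1c
    ⟨K, 1, one_mem _, (hone K).symm⟩ (hnorm O1 hinv1))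
  have h2 := commutator_le_of_outside P hgen B (hnorm O2 hinv2) (hnot_phi O2 hO2c
    ⟨L, hL, fun ⟨x, hx, hLx⟩ => hnot x hx hLx⟩ (hnorm O2 hinv2))
  have hAB : A ⊓ B = ⊥ := by
    have hBA : B ≤ centralizer (A : Set G) :=
      sSup_le fun M hM => Components.IsComponent.le_centralizer_sSup hM.1 hO1c hM.2
    refine le_bot_iff.mp (((inf_le_inf le_rfl hBA).trans
      (Components.sSup_components_inf_centralizer_le hO1c)).trans ?_)
    refine iSup₂_le fun M hM => ?_
    have hz : M ⊓ centralizer (M : Set G) ≤ Cfsg.layer G ⊓ centralizer (Cfsg.layer G : Set G) := by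
      rw [← Components.center_map_subtype, ← Components.center_map_subtype,
        Components.center_layer_eq]
      exact le_iSup (fun T : {T : Subgroup G // Cfsg.IsComponent T} =>
        (center ↥(T : Subgroup G)).map (T : Subgroup G).subtype) ⟨M, hO1c M hM⟩
    refine hz.trans ?_
    rw [← Components.fitting_inf_layer_eq, hF, bot_inf_eq]
  refine hna ?_
  have h3 := le_inf h1 h2
  rw [hAB, le_bot_iff, commutator_eq_bot_iff_le_centralizer] at h3
  exact le_centralizer_iff_isMulCommutative.mp h3

end Helpers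

/-- Let p be a prime and G a finite group with a non-commutative Sylow p-subgroup P whose Frattini subgroup has index p² in P (P is generated by two elements). Suppose G has no nontrivial normal subgroup of order prime to p and the Frattini subgroup of P contains no nontrivial normal subgroup of G. Then the generalized Fitting subgroup F*(G) is the unique minimal normal subgroup of G, the image of P in G/F*(G) is cyclic, and if F*(G) is not commutative then P permutes the components of G transitively by conjugation. -/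
theorem result {G : Type*} [Group G] [Finite G] (p : ℕ) [Fact p.Prime] (P : Sylow p G) (hna : ¬ IsMulCommutative (P : Subgroup G)) (hgen : (frattini ↥(P : Subgroup G)).index = p ^ 2) (hcore : Cfsg.pPrimeCore p G = ⊥) (hfrat : ((frattini ↥(P : Subgroup G)).map (P : Subgroup G).subtype).normalCore = ⊥) [hFn : (Cfsg.generalizedFittingSubgroup G).Normal] :
    (Cfsg.generalizedFittingSubgroup G ≠ ⊥ ∧ ∀ K : Subgroup G, K.Normal → K ≠ ⊥ → Cfsg.generalizedFittingSubgroup G ≤ K) ∧
      IsCyclic ↥((P : Subgroup G).map (QuotientGroup.mk' (Cfsg.generalizedFittingSubgroup G))) ∧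
      (¬ IsMulCommutative (Cfsg.generalizedFittingSubgroup G) → ∀ K L : Subgroup G, Cfsg.IsComponent K → Cfsg.IsComponent L → ∃ x ∈ (P : Subgroup G), L = K.map (MulAut.conj x).toMonoidHom) := by
  have hG : (⊤ : Subgroup G) ≠ ⊥ := by
    intro h
    refine hna ⟨⟨fun a b => Subtype.ext ?_⟩⟩
    have ha : (a : G) = 1 := mem_bot.mp (h ▸ mem_top (a : G))
    have hb : (b : G) = 1 := mem_bot.mp (h ▸ mem_top (b : G))
    simp [ha, hb]
  obtain ⟨N, ⟨hNn, hN⟩, hNmin⟩ := Set.Finite.exists_minimal
    (Set.toFinite {K : Subgroup G | K.Normal ∧ K ≠ ⊥}) ⟨⊤, inferInstance, hG⟩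
  haveI := hNn
  have hmin : ∀ K : Subgroup G, K.Normal → K ≠ ⊥ → N ≤ K := by
    intro K hK hKne
    haveI := hK
    exact (hNmin ⟨inferInstance, inf_ne_bot P hgen hna hcore hfrat N K hN hKne⟩
      inf_le_left).trans inf_le_right
  have hmain : Cfsg.generalizedFittingSubgroup G = N ∧
      (¬ IsMulCommutative (Cfsg.generalizedFittingSubgroup G) → ∀ K L : Subgroup G,
        Cfsg.IsComponent K → Cfsg.IsComponent L →
        ∃ x ∈ (P : Subgroup G), L = K.map (MulAut.conj x).toMonoidHom) := by
    by_cases hR : Cfsg.pCore p G = ⊥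
    · obtain ⟨h1, h2⟩ := semisimple_case P hgen hna hcore hfrat N hN hmin hR
      exact ⟨h1, fun _ => h2⟩
    · obtain ⟨h1, h2⟩ := abelian_case P hgen hna hcore hfrat N hN hmin hR
      exact ⟨h1, fun h => absurd (h1 ▸ h2) h⟩
  obtain ⟨hFN, htrans⟩ := hmain
  refine ⟨⟨hFN ▸ hN, fun K hK hKne => hFN ▸ hmin K hK hKne⟩, ?_, htrans⟩
  obtain ⟨x, hxP, hx⟩ := exists_gen P hgen N (normalizer_eq_top (H := N) ▸ le_top)
    (not_le_phi_of_normal P hcore hfrat N hN)
  have hle : N ⊓ (P : Subgroup G) ≤ Cfsg.generalizedFittingSubgroup G := hFN ▸ inf_le_left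
  have hmap : (P : Subgroup G).map (QuotientGroup.mk' (Cfsg.generalizedFittingSubgroup G)) =
      zpowers (QuotientGroup.mk' (Cfsg.generalizedFittingSubgroup G) x) := by
    conv_lhs => rw [← hx]
    rw [Subgroup.map_sup, MonoidHom.map_zpowers, (Subgroup.map_eq_bot_iff (H := N ⊓ (P : Subgroup G))).mpr
      (by rwa [QuotientGroup.ker_mk']), bot_sup_eq]
  rw [hmap]
  infer_instance

end Cfsg.Agent.S4172
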