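import Cfsg.Statements.S4177
import Cfsg.Agent.EqLemmas

set_option autoImplicit false
open Cfsg

namespace Cfsg.Agent.S4177

section
variable {k V L : Type*} [Field k] [AddCommGroup V] [Module k V] [Group L] [Finite L]

/-- Averaging over a transitive group `L` of invertible order sends the span to a line. -/
theorem exists_average (σ : Representation k L V) (hne : (Nat.card L : k) ≠ 0) (a : V) (O : Set V)
    (hO : ∀ u ∈ O, ∃ l : L, σ l a = u) (hspan : Submodule.span k O = ⊤) :
    ∃ w : V, (∀ v : V, (∀ l : L, σ l v = v) → v ∈ Submodule.span k {w}) ∧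
      ∀ {ι : Type*} [Fintype ι] (f : ι → V), (∀ i, f i ∈ O) → (∀ l : L, σ l (∑ i, f i) = ∑ i, f i) →
        (Nat.card L : k) • (∑ i, f i) = (Fintype.card ι : k) • w := by
  classical
  haveI := Fintype.ofFinite L
  refine ⟨∑ l : L, σ l a, ?_⟩
  let e : V →ₗ[k] V := ∑ l : L, σ l
  have he : ∀ u ∈ O, e u = ∑ l : L, σ l a := by
    intro u hu
    obtain ⟨l₀, rfl⟩ := hO u hu
    simp only [e, LinearMap.coe_sum, Finset.sum_apply]
    refine Fintype.sum_equiv (Equiv.mulRight l₀) _ _ (fun l => ?_)
    rw [Equiv.coe_mulRight, map_mul]; rfl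
  have hrange : ∀ u : V, e u ∈ Submodule.span k {∑ l : L, σ l a} := by
    intro u
    have : u ∈ Submodule.span k O := by rw [hspan]; trivial
    induction this using Submodule.span_induction with
    | mem x hx => rw [he x hx]; exact Submodule.mem_span_singleton_self _
    | zero => rw [map_zero]; exact Submodule.zero_mem _
    | add x y _ _ hx hy => rw [map_add]; exact Submodule.add_mem _ hx hy
    | smul c x _ hx => rw [map_smul]; exact Submodule.smul_mem _ c hx
  have hev : ∀ v : V, (∀ l : L, σ l v = v) → e v = (Nat.card L : k) • v := by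
    intro v hv
    simp only [e, LinearMap.coe_sum, Finset.sum_apply, hv, Finset.sum_const, Finset.card_univ,
      Nat.card_eq_fintype_card, Nat.cast_smul_eq_nsmul]
  refine ⟨fun v hv => ?_, fun f hf hfix => ?_⟩
  · have := hrange v
    rw [hev v hv] at this
    exact (Submodule.smul_mem_iff _ hne).mp this
  · rw [← hev _ hfix, map_sum, Finset.sum_congr rfl (fun i _ => he _ (hf i)), Finset.sum_const,
      Finset.card_univ, Nat.cast_smul_eq_nsmul]

theorem finrank_le_one (W : Submodule k V) (w : V) (h : W ≤ Submodule.span k {w}) :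
    Module.finrank k W ≤ 1 :=
  (Submodule.finrank_mono h).trans (finrank_span_le_card ({w} : Set V) |>.trans (by simp))

end

section
variable {k V H : Type*} [Field k] [AddCommGroup V] [Module k V] [Group H] [Finite H]

def stab (ρ : Representation k H V) (b : V) : Subgroup H where
  carrier := {h : H | ρ h b = b}
  mul_mem' {x y} hx hy := by
    show ρ (x * y) b = b
    rw [map_mul, Module.End.mul_apply, show ρ y b = b from hy, show ρ x b = b from hx]
  one_mem' := by show ρ 1 b = b; rw [map_one]; rfl
  inv_mem' {x} hx := by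
    show ρ x⁻¹ b = b
    have := congrArg (ρ x⁻¹) (show ρ x b = b from hx)
    rw [← Module.End.mul_apply, ← map_mul, inv_mul_cancel, map_one] at this
    exact this.symm

theorem natCard_orbit (ρ : Representation k H V) (b : V) :
    Nat.card {u : V | ∃ h : H, ρ h b = u} = (stab ρ b).index := by
  rw [Subgroup.index_eq_card]
  refine (Nat.card_congr (Equiv.ofBijective (fun q : H ⧸ stab ρ b =>
    (⟨ρ (Quotient.out q) b, Quotient.out q, rfl⟩ : {u : V | ∃ h : H, ρ h b = u})) ⟨?_, ?_⟩)).symm
  · intro q₁ q₂ h
    have h' : ρ (Quotient.out q₁) b = ρ (Quotient.out q₂) b := congrArg Subtype.val h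
    have h2 : (Quotient.out q₁)⁻¹ * Quotient.out q₂ ∈ stab ρ b := by
      show ρ ((Quotient.out q₁)⁻¹ * Quotient.out q₂) b = b
      rw [map_mul, Module.End.mul_apply, ← h', ← Module.End.mul_apply, ← map_mul, inv_mul_cancel, map_one]
      rfl
    have := (QuotientGroup.eq (a := Quotient.out q₁) (b := Quotient.out q₂)).mpr h2
    rwa [QuotientGroup.out_eq', QuotientGroup.out_eq'] at this
  · rintro ⟨u, h, rfl⟩
    refine ⟨QuotientGroup.mk h, Subtype.ext ?_⟩
    have ho : (Quotient.out (QuotientGroup.mk h : H ⧸ stab ρ b))⁻¹ * h ∈ stab ρ b :=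
      (QuotientGroup.eq).mp (QuotientGroup.out_eq' _)
    have := congrArg (ρ (Quotient.out (QuotientGroup.mk h : H ⧸ stab ρ b))) (show ρ _ b = b from ho)
    rw [← Module.End.mul_apply, ← map_mul, mul_inv_cancel_left] at this
    exact this.symm

/-- Coprime orbit lengths: the stabilizer of `b` is transitive on the orbit of `a`. -/
theorem stab_transitive (ρ : Representation k H V) (a b : V)
    (hcop : (stab ρ a).index.Coprime (stab ρ b).index) (h : H) :
    ∃ l ∈ stab ρ b, ρ l a = ρ h a := by
  have h1 : (stab ρ a).index ∣ (stab ρ a).relIndex (stab ρ b) := by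
    have e1 := Subgroup.relIndex_mul_index (inf_le_right : stab ρ a ⊓ stab ρ b ≤ stab ρ b)
    have e2 := Subgroup.relIndex_mul_index (inf_le_left : stab ρ a ⊓ stab ρ b ≤ stab ρ a)
    rw [Subgroup.inf_relIndex_right] at e1
    rw [Subgroup.inf_relIndex_left] at e2
    have h2 : (stab ρ a).index ∣ (stab ρ a).relIndex (stab ρ b) * (stab ρ b).index := by
      rw [e1, ← e2]; exact dvd_mul_left _ _
    exact hcop.dvd_of_dvd_mul_right h2
  let f : stab ρ b ⧸ (stab ρ a).subgroupOf (stab ρ b) → H ⧸ stab ρ a :=
    fun q => QuotientGroup.mk ((Quotient.out q : stab ρ b) : H)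
  have hinj : Function.Injective f := by
    intro q₁ q₂ he
    have := (QuotientGroup.eq (a := Quotient.out q₁) (b := Quotient.out q₂)
      (s := (stab ρ a).subgroupOf (stab ρ b))).mpr (by
        rw [Subgroup.mem_subgroupOf]; simpa using (QuotientGroup.eq).mp he)
    rwa [QuotientGroup.out_eq', QuotientGroup.out_eq'] at this
  have hsurj : Function.Surjective f := by
    refine ((Nat.bijective_iff_injective_and_card f).mpr ⟨hinj, ?_⟩).2
    refine le_antisymm (Nat.card_le_card_of_injective f hinj) ?_
    rw [← Subgroup.index_eq_card, ← Subgroup.index_eq_card]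
    exact Nat.le_of_dvd (Nat.pos_of_ne_zero Subgroup.index_ne_zero_of_finite) h1
  obtain ⟨q, hq⟩ := hsurj (QuotientGroup.mk h)
  refine ⟨(Quotient.out q : stab ρ b), (Quotient.out q).2, ?_⟩
  have hmem : ((Quotient.out q : stab ρ b) : H)⁻¹ * h ∈ stab ρ a := (QuotientGroup.eq).mp hq
  have := congrArg (ρ ((Quotient.out q : stab ρ b) : H)) (show ρ _ a = a from hmem)
  rw [← Module.End.mul_apply, ← map_mul, mul_inv_cancel_left] at this
  exact this.symm

end

/-- Let k be a field whose characteristic does not divide the order of the finite group H (for instance a field of characteristic zero), and ρ a k-linear representation of H on V. Let a be a vector whose H-orbit spans V. Then the space of H-fixed vectors has dimension at most 1, and every vector b whose H-orbit has size coprime to the size of the orbit of a is fixed by H. -/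
theorem result {k V H : Type*} [Field k] [AddCommGroup V] [Module k V] [Group H] [Finite H]
    (hchar : ¬ ringChar k ∣ Nat.card H) (ρ : Representation k H V) (a : V)
    (hspan : Submodule.span k {u : V | ∃ h : H, ρ h a = u} = ⊤) :
    Module.finrank k ρ.invariants ≤ 1 ∧
    ∀ b : V, (Nat.card {u : V | ∃ h : H, ρ h a = u}).Coprime (Nat.card {u : V | ∃ h : H, ρ h b = u}) → ∀ h : H, ρ h b = b := by
  classical
  haveI := Fintype.ofFinite H
  have hne : ∀ L : Subgroup H, (Nat.card L : k) ≠ 0 := fun L h =>
    hchar ((ringChar.dvd h).trans (Subgroup.card_subgroup_dvd_card L))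
  refine ⟨?_, ?_⟩
  · obtain ⟨w, hw, -⟩ := exists_average.{_, _, _, 0} ρ (fun h => hchar (ringChar.dvd h)) a
      {u : V | ∃ h : H, ρ h a = u} (fun u hu => hu) hspan
    exact finrank_le_one _ w (fun v hv => hw v hv)
  · intro b hb h
    rw [natCard_orbit, natCard_orbit] at hb
    set L := stab ρ b
    haveI := Fintype.ofFinite L
    obtain ⟨w, hw, hw2⟩ := exists_average (ρ.comp L.subtype) (hne L) a {u : V | ∃ h : H, ρ h a = u}
      (fun u ⟨h, hu⟩ => by
        obtain ⟨l, hl, hla⟩ := stab_transitive ρ a b hb h
        exact ⟨⟨l, hl⟩, hla.trans hu⟩) hspan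
    -- w is fixed by H, as a multiple of the average over H
    have hW : ∀ g : H, ρ g (∑ x : H, ρ x a) = ∑ x : H, ρ x a := by
      intro g
      rw [map_sum]
      refine Fintype.sum_equiv (Equiv.mulLeft g) _ _ (fun x => ?_)
      rw [Equiv.coe_mulLeft, map_mul]; rfl
    have heq := hw2 (fun x : H => ρ x a) (fun x => ⟨x, rfl⟩) (fun l => hW l)
    have hHne : (Fintype.card H : k) ≠ 0 := fun h0 => hchar (by
      rw [Nat.card_eq_fintype_card]; exact ringChar.dvd h0)
    have hwfix : ρ h w = w := by
      have h2 := congrArg (ρ h) heq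
      rw [map_smul, map_smul, hW h, heq] at h2
      exact (smul_right_injective V hHne h2.symm)
    obtain ⟨c, hc⟩ := Submodule.mem_span_singleton.mp (hw b (fun l => l.2))
    rw [← hc, map_smul, hwfix]

end Cfsg.Agent.S4177
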