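import Cfsg.Statements.S4176
import Cfsg.Agent.S4177
import Cfsg.Agent.Lib.Solvable.Hall
import Cfsg.Agent.Lib.Solvable.Maximal

set_option autoImplicit false
open Cfsg

namespace Cfsg.Agent.S4176

open Cfsg.Agent.S4177 in
/-- A `p`-solvable group of transformations with orbit length prime to `p` has a transitive `p'`-subgroup. -/
theorem exists_transitive_pPrime {k V H : Type*} [Field k] [AddCommGroup V] [Module k V] [Group H] [Finite H]
    (p : ℕ) [Fact p.Prime] (hsol : Cfsg.IsPSolvable p H) (ρ : Representation k H V) (a : V) (U : Subgroup H)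
    (hp : ¬ p ∣ (stab ρ a).relIndex U) :
    ∃ L : Subgroup H, L ≤ U ∧ ¬ p ∣ Nat.card L ∧ ∀ u ∈ U, ∃ l ∈ L, ρ l a = ρ u a := by
  have hp' : p.Prime := Fact.out
  obtain ⟨L, hL1, hL2⟩ := Solvable.exists_piHall
    (((Solvable.isPiSeparable_of_isPSolvable hsol).subgroup U).compl)
    (Solvable.hallHyp_compl_singleton (p := p))
  refine ⟨L.map U.subtype, Subgroup.map_subtype_le L, ?_, ?_⟩
  · rw [Subgroup.card_map_of_injective U.subtype_injective]
    exact fun hd => hL1 p hp' hd rfl
  · intro u hu
    have hcop : ((stab ρ a).subgroupOf U).index.Coprime L.index := by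
      rw [Nat.coprime_iff_gcd_eq_one]
      by_contra hne
      obtain ⟨q, hq, hd⟩ := Nat.exists_prime_and_dvd hne
      by_cases hqp : q = p
      · exact hp (hqp ▸ hd.trans (Nat.gcd_dvd_left _ _))
      · exact hL2 q hq hqp (hd.trans (Nat.gcd_dvd_right _ _))
    obtain ⟨l, hl, x, hx, hux⟩ := Solvable.exists_mul_of_coprime_index hcop ⟨u, hu⟩
    refine ⟨(l : H), ⟨l, hl, rfl⟩, ?_⟩
    have hu' : u = (l : H) * (x : H) := congrArg Subtype.val hux
    rw [hu', map_mul, Module.End.mul_apply, show ρ (x : H) a = a from hx]

/-- Let k be a field of prime characteristic p, H a finite p-soluble group and ρ a k-linear representation of H on V. Let a be a vector that is fixed by some Sylow p-subgroup of H and whose H-orbit spans V. Then the space of H-fixed vectors has dimension at most 1, and every vector b whose H-orbit has size coprime to the size of the orbit of a is fixed by H. -/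
theorem result {k V H : Type*} [Field k] (p : ℕ) [Fact p.Prime] [CharP k p] [AddCommGroup V] [Module k V]
    [Group H] [Finite H] (hsol : Cfsg.IsPSolvable p H) (ρ : Representation k H V) (a : V)
    (hfix : ∃ P : Sylow p H, ∀ x : H, x ∈ (P : Subgroup H) → ρ x a = a)
    (hspan : Submodule.span k {u : V | ∃ h : H, ρ h a = u} = ⊤) :
    Module.finrank k ρ.invariants ≤ 1 ∧
    ∀ b : V, (Nat.card {u : V | ∃ h : H, ρ h a = u}).Coprime (Nat.card {u : V | ∃ h : H, ρ h b = u}) → ∀ h : H, ρ h b = b := by
  classical
  open Cfsg.Agent.S4177 in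
  · obtain ⟨P, hP⟩ := hfix
    have hp' : p.Prime := Fact.out
    set O := {u : V | ∃ h : H, ρ h a = u} with hOdef
    have hPA : (P : Subgroup H) ≤ stab ρ a := hP
    have hidx : ¬ p ∣ (stab ρ a).index := fun h => P.not_dvd_index (h.trans (Subgroup.index_dvd_of_le hPA))
    refine ⟨?_, fun b hb h => ?_⟩
    · obtain ⟨L, -, hLp, hLtr⟩ := exists_transitive_pPrime p hsol ρ a ⊤ (by rwa [Subgroup.relIndex_top_right])
      obtain ⟨w, hw, -⟩ := exists_average.{_, _, _, 0} (ρ.comp L.subtype)
        (fun h => hLp ((CharP.cast_eq_zero_iff k p _).mp h)) a O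
        (fun u ⟨h, hu⟩ => by
          obtain ⟨l, hl, hla⟩ := hLtr h (Subgroup.mem_top h)
          exact ⟨⟨l, hl⟩, hla.trans hu⟩) hspan
      exact finrank_le_one _ w (fun v hv => hw v (fun l => hv l))
    · rw [natCard_orbit, natCard_orbit] at hb
      -- the stabilizer of b is transitive on O
      have hUp : ¬ p ∣ (stab ρ a).relIndex (stab ρ b) := by
        intro hd
        have e1 := Subgroup.relIndex_mul_index (inf_le_right : stab ρ a ⊓ stab ρ b ≤ stab ρ b)
        have e2 := Subgroup.relIndex_mul_index (inf_le_left : stab ρ a ⊓ stab ρ b ≤ stab ρ a)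
        rw [Subgroup.inf_relIndex_right] at e1
        rw [Subgroup.inf_relIndex_left] at e2
        -- transitivity gives the exact value of the relative index
        have h3 : (stab ρ a).relIndex (stab ρ b) ≤ (stab ρ a).index :=
          Nat.le_of_mul_le_mul_right (e1.trans_le Subgroup.index_inf_le)
            (Nat.pos_of_ne_zero Subgroup.index_ne_zero_of_finite)
        have h4 : (stab ρ a).index ∣ (stab ρ a).relIndex (stab ρ b) :=
          hb.dvd_of_dvd_mul_right (by rw [e1, ← e2]; exact dvd_mul_left _ _)
        have h5 := le_antisymm h3 (Nat.le_of_dvd (Nat.pos_of_ne_zero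
          (Subgroup.index_ne_zero_of_finite (H := (stab ρ a).subgroupOf (stab ρ b)))) h4)
        exact hidx (h5 ▸ hd)
      obtain ⟨L, hLb, hLp, hLtr⟩ := exists_transitive_pPrime p hsol ρ a (stab ρ b) hUp
      haveI : Finite O := by
        have : O = Set.range (fun h : H => ρ h a) := rfl
        rw [this]; exact (Set.finite_range _).to_subtype
      haveI := Fintype.ofFinite O
      obtain ⟨w, hw, hw2⟩ := exists_average (ρ.comp L.subtype)
        (fun h => hLp ((CharP.cast_eq_zero_iff k p _).mp h)) a O
        (fun u ⟨g, hu⟩ => by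
          obtain ⟨l, hl, hla⟩ := stab_transitive ρ a b hb g
          obtain ⟨l', hl', hla'⟩ := hLtr l hl
          exact ⟨⟨l', hl'⟩, hla'.trans (hla.trans hu)⟩) hspan
      -- the orbit sum is fixed by everything
      have hW : ∀ g : H, ρ g (∑ x : O, (x : V)) = ∑ x : O, (x : V) := by
        intro g
        rw [map_sum]
        have hbij : Function.Bijective (fun x : O => (⟨ρ g x, by
            obtain ⟨x, h, rfl⟩ := x
            exact ⟨g * h, by rw [map_mul]; rfl⟩⟩ : O)) := by
          refine Finite.injective_iff_bijective.mp fun x y hxy => Subtype.ext ?_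
          have := congrArg (fun z => ρ g⁻¹ z) (congrArg Subtype.val hxy)
          simpa [← Module.End.mul_apply, ← map_mul] using this
        exact Fintype.sum_bijective _ hbij _ _ (fun x => rfl)
      have heq := hw2 (fun x : O => (x : V)) (fun x => x.2) (fun l => hW l)
      have hne : (Fintype.card O : k) ≠ 0 := by
        intro h0
        apply hidx
        rw [← natCard_orbit, ← hOdef, Nat.card_eq_fintype_card]
        exact (CharP.cast_eq_zero_iff k p _).mp h0
      have hwfix : ρ h w = w := by
        have h2 := congrArg (ρ h) heq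
        rw [map_smul, map_smul, hW h, heq] at h2
        exact smul_right_injective V hne h2.symm
      obtain ⟨c, hc⟩ := Submodule.mem_span_singleton.mp (hw b (fun l => hLb l.2))
      rw [← hc, map_smul, hwfix]

end Cfsg.Agent.S4176
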