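import Cfsg.Statements.S4178
import Cfsg.Agent.EqLemmas

set_option autoImplicit false
open Cfsg

namespace Cfsg.Agent.S4178

section
variable {F V : Type*} [Field F] [Fintype F] [AddCommGroup V] [Module F V] [FiniteDimensional F V]

theorem index_le_natCard_sub_one {U : Type*} [AddCommGroup U] [Finite U] {G : Type*} [Group G] [Finite G]
    (act : G → U → U) (hone : ∀ u, act 1 u = u) (hmul : ∀ g h u, act (g * h) u = act g (act h u))
    (hzero : ∀ g, act g 0 = 0) (K : Subgroup G) (v : U) (hv : v ≠ 0)
    (hstab : ∀ g, act g v = v → g ∈ K) : K.index ≤ Nat.card U - 1 := by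
  classical
  have hinj : Function.Injective (fun q : G ⧸ K => (⟨act (Quotient.out q) v, fun h => hv (by
      have := congrArg (act (Quotient.out q)⁻¹) h
      rwa [← hmul, inv_mul_cancel, hone, hzero] at this)⟩ : {u : U // u ≠ 0})) := by
    intro q₁ q₂ h
    have h' : act (Quotient.out q₁) v = act (Quotient.out q₂) v := congrArg Subtype.val h
    have h2 : (Quotient.out q₁)⁻¹ * Quotient.out q₂ ∈ K := by
      apply hstab
      rw [hmul, ← h', ← hmul, inv_mul_cancel, hone]
    have := (QuotientGroup.eq (a := Quotient.out q₁) (b := Quotient.out q₂)).mpr h2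
    rwa [QuotientGroup.out_eq', QuotientGroup.out_eq'] at this
  have h1 := Nat.card_le_card_of_injective _ hinj
  have h2 : Nat.card {u : U // u ≠ 0} + 1 = Nat.card U := by
    have : Nat.card (Option {u : U // u ≠ 0}) = Nat.card U := Nat.card_congr (Equiv.optionSubtypeNe (0 : U))
    rwa [Finite.card_option] at this
  rw [Subgroup.index_eq_card]
  omega

/-- A linear map fixing a nonzero vector modulo an invariant subspace fixes a nonzero vector. -/
theorem exists_fixed_of_fixed_mod (W : Submodule F V) (e : V ≃ₗ[F] V) (he : ∀ w ∈ W, e w ∈ W)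
    (v : V) (hv : v ∉ W) (hfix : e v - v ∈ W) : ∃ u : V, u ≠ 0 ∧ e u = u := by
  by_contra hcon
  push Not at hcon
  let f : W →ₗ[F] W := LinearMap.restrict ((e : V →ₗ[F] V) - LinearMap.id) (p := W) (q := W)
    (fun w hw => W.sub_mem (he w hw) hw)
  have hinj : Function.Injective f := by
    rw [← LinearMap.ker_eq_bot, LinearMap.ker_eq_bot']
    intro w hw
    have : e (w : V) - (w : V) = 0 := congrArg Subtype.val hw
    by_contra hne
    exact hcon w (fun h => hne (Subtype.ext h)) (sub_eq_zero.mp this)
  obtain ⟨w, hw⟩ := (LinearMap.injective_iff_surjective.mp hinj) ⟨e v - v, hfix⟩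
  have hw' : e (w : V) - (w : V) = e v - v := congrArg Subtype.val hw
  refine hcon (v - w) (fun h => hv ?_) ?_
  · rw [sub_eq_zero] at h; rw [h]; exact w.2
  · rw [map_sub]
    linear_combination (norm := abel) -hw'

end

/-- Let F be a finite field with q elements, V a non-zero finite-dimensional F-space of dimension d, H a group of invertible linear maps of V, and R the subgroup of H generated by the elements of H that fix some non-zero vector (have eigenvalue 1). Then the index of R in H is at most q^d − 1; and if H leaves invariant some proper non-zero subspace, the index is at most q^(d/2) − 1. -/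
theorem result {F V : Type*} [Field F] [Fintype F] [AddCommGroup V] [Module F V] [FiniteDimensional F V] [Nontrivial V]
    (H : Subgroup (V ≃ₗ[F] V)) :
    (Subgroup.closure {h : ↥H | ∃ v : V, v ≠ 0 ∧ (h : V ≃ₗ[F] V) v = v}).index ≤ Fintype.card F ^ Module.finrank F V - 1 ∧
    ((∃ W : Submodule F V, W ≠ ⊥ ∧ W ≠ ⊤ ∧ ∀ h ∈ H, ∀ w ∈ W, h w ∈ W) →
      ((Subgroup.closure {h : ↥H | ∃ v : V, v ≠ 0 ∧ (h : V ≃ₗ[F] V) v = v}).index : ℝ) ≤ Real.sqrt ((Fintype.card F : ℝ) ^ Module.finrank F V) - 1) := by
  classical
  haveI : Finite V := Module.finite_of_finite F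
  haveI : Finite (V ≃ₗ[F] V) := Finite.of_injective (fun e : V ≃ₗ[F] V => (e : V → V)) DFunLike.coe_injective
  set K := Subgroup.closure {h : ↥H | ∃ v : V, v ≠ 0 ∧ (h : V ≃ₗ[F] V) v = v} with hK
  have hfixK : ∀ (h : H) (v : V), v ≠ 0 → (h : V ≃ₗ[F] V) v = v → h ∈ K :=
    fun h v hv hfix => Subgroup.subset_closure ⟨v, hv, hfix⟩
  have hVcard : Nat.card V = Fintype.card F ^ Module.finrank F V := by
    rw [Module.natCard_eq_pow_finrank (K := F), Nat.card_eq_fintype_card]
  refine ⟨?_, ?_⟩
  · obtain ⟨v, hv⟩ := exists_ne (0 : V)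
    rw [← hVcard]
    exact index_le_natCard_sub_one (fun (g : H) u => (g : V ≃ₗ[F] V) u) (fun u => rfl) (fun g h u => rfl)
      (fun g => map_zero _) K v hv (fun g hg => hfixK g v hv hg)
  · rintro ⟨W, hW0, hW1, hWinv⟩
    have hW : ∀ h : H, ∀ w ∈ W, (h : V ≃ₗ[F] V) w ∈ W := fun h => hWinv h h.2
    -- the bound coming from W
    have h1 : K.index ≤ Fintype.card F ^ Module.finrank F W - 1 := by
      obtain ⟨w, hw, hw0⟩ := Submodule.exists_mem_ne_zero_of_ne_bot hW0
      have hc : Nat.card W = Fintype.card F ^ Module.finrank F W := by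
        rw [Module.natCard_eq_pow_finrank (K := F), Nat.card_eq_fintype_card]
      rw [← hc]
      exact index_le_natCard_sub_one (fun (g : H) (u : W) => (⟨(g : V ≃ₗ[F] V) u, hW g u u.2⟩ : W))
        (fun u => rfl) (fun g h u => rfl) (fun g => Subtype.ext (map_zero _)) K ⟨w, hw⟩
        (fun h => hw0 (congrArg Subtype.val h)) (fun g hg => hfixK g w hw0 (congrArg Subtype.val hg))
    -- the bound coming from the quotient by W
    haveI : Finite (V ⧸ W) := Module.finite_of_finite F
    have h2 : K.index ≤ Fintype.card F ^ Module.finrank F (V ⧸ W) - 1 := by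
      obtain ⟨v, -, hv⟩ := SetLike.exists_of_lt (lt_top_iff_ne_top.mpr hW1)
      have hc : Nat.card (V ⧸ W) = Fintype.card F ^ Module.finrank F (V ⧸ W) := by
        rw [Module.natCard_eq_pow_finrank (K := F), Nat.card_eq_fintype_card]
      rw [← hc]
      refine index_le_natCard_sub_one
        (fun (g : H) (u : V ⧸ W) => W.mapQ W ((g : V ≃ₗ[F] V) : V →ₗ[F] V) (fun x hx => hW g x hx) u)
        ?_ ?_ (fun g => map_zero _) K (Submodule.Quotient.mk v)
        (fun h => hv ((Submodule.Quotient.mk_eq_zero W).mp h)) ?_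
      · intro u
        induction u using Submodule.Quotient.induction_on with
        | H x => rfl
      · intro g h u
        induction u using Submodule.Quotient.induction_on with
        | H x => rfl
      · intro g hg
        rw [Submodule.mapQ_apply, Submodule.Quotient.eq] at hg
        obtain ⟨u, hu, hu'⟩ := exists_fixed_of_fixed_mod W (g : V ≃ₗ[F] V) (hW g) v hv hg
        exact hfixK g u hu hu'
    set q := Fintype.card F
    set d := Module.finrank F W
    set d' := Module.finrank F (V ⧸ W)
    have hn : d + d' = Module.finrank F V := by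
      rw [add_comm]; exact Submodule.finrank_quotient_add_finrank W
    have hq : (1 : ℝ) ≤ (q : ℝ) := by exact_mod_cast Fintype.card_pos
    have hm : 2 * min d d' ≤ Module.finrank F V := by omega
    have h3 : K.index + 1 ≤ q ^ min d d' := by
      have hpos : ∀ e : ℕ, 0 < q ^ e := fun e => pow_pos Fintype.card_pos e
      rcases min_cases d d' with ⟨he, -⟩ | ⟨he, -⟩ <;> rw [he]
      · have := hpos d; omega
      · have := hpos d'; omega
    have h4 : ((K.index : ℝ) + 1) ≤ (q : ℝ) ^ min d d' := by exact_mod_cast h3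
    have h5 : (q : ℝ) ^ min d d' ≤ Real.sqrt ((q : ℝ) ^ Module.finrank F V) := by
      apply Real.le_sqrt_of_sq_le
      rw [← pow_mul]
      exact pow_le_pow_right₀ hq (by omega)
    linarith

end Cfsg.Agent.S4178
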