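import Cfsg.Statements.S4181
import Cfsg.Agent.EqLemmas
import Cfsg.Agent.Lib.HalfFix.Cor

set_option autoImplicit false
open Cfsg

namespace Cfsg.Agent.S4181

/-- Let p be a prime and G a finite group generated by its elements of p-power order, and let H be a proper subgroup of G containing a Sylow p-subgroup of G. Then 2p − 1 times the number of Sylow p-subgroups of H is at most p − 1 times the number of Sylow p-subgroups of G. -/
theorem result {G : Type*} [Group G] [Finite G] (p : ℕ) [Fact p.Prime] (hgen : Subgroup.closure {g : G | ∃ k : ℕ, orderOf g = p ^ k} = ⊤)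
    (H : Subgroup G) (hH : H ≠ ⊤) (P : Sylow p G) (hP : (P : Subgroup G) ≤ H) :
    (2 * p - 1) * Nat.card (Sylow p ↥H) ≤ (p - 1) * Nat.card (Sylow p G) := by
  classical
  have hg : Cfsg.Agent.HalfFix.IsGen p G := by
    rw [Cfsg.Agent.HalfFix.IsGen, eq_top_iff, ← hgen, Subgroup.closure_le]
    rintro g ⟨k, hk⟩
    rw [hgen]
    exact Cfsg.Agent.HalfFix.mem_pGen (Subgroup.mem_top g) (by rw [← hk, pow_orderOf_eq_one])
  haveI : Nontrivial (G ⧸ H) := by
    rw [← Finite.one_lt_card_iff_nontrivial]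
    exact Subgroup.one_lt_index_of_ne_top hH
  set q0 : G ⧸ H := ((1 : G) : G ⧸ H) with hq0
  have hbase : ∀ S : Sylow p G, q0 ∈ Cfsg.Agent.HalfFix.pts (S : Subgroup G) ↔ (S : Subgroup G) ≤ H := by
    intro S
    rw [Cfsg.Agent.HalfFix.mem_pts, hq0, MulAction.stabilizer_quotient]
  have hcard0 : Nat.card {S : Sylow p G // q0 ∈ Cfsg.Agent.HalfFix.pts (S : Subgroup G)} =
      Nat.card (Sylow p ↥H) := by
    refine Nat.card_congr (Equiv.ofBijective (fun S => S.1.subtype ((hbase S.1).1 S.2)) ⟨?_, ?_⟩)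
    · intro S S' h
      exact Subtype.ext (Sylow.subtype_injective h)
    · intro R
      obtain ⟨h, hh⟩ := MulAction.exists_smul_eq ↥H (P.subtype hP) R
      rw [Sylow.smul_subtype] at hh
      exact ⟨⟨(h : G) • P, (hbase _).2 (Sylow.smul_le hP h)⟩, hh⟩
  have hcard : ∀ q : G ⧸ H, Nat.card {S : Sylow p G // q ∈ Cfsg.Agent.HalfFix.pts (S : Subgroup G)} =
      Nat.card (Sylow p ↥H) := by
    intro q
    obtain ⟨g, rfl⟩ := MulAction.exists_smul_eq G q0 q
    rw [← hcard0]
    refine (Nat.card_congr ((MulAction.toPerm g).subtypeEquiv fun S => ?_)).symm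
    rw [MulAction.toPerm_apply, Cfsg.Agent.HalfFix.pts_smul_sylow]
    exact Set.smul_mem_smul_set_iff.symm
  let e : (Σ q : G ⧸ H, {S : Sylow p G // q ∈ Cfsg.Agent.HalfFix.pts (S : Subgroup G)}) ≃
      (Σ S : Sylow p G, {q : G ⧸ H // q ∈ Cfsg.Agent.HalfFix.pts (S : Subgroup G)}) :=
    { toFun := fun x => ⟨x.2.1, x.1, x.2.2⟩
      invFun := fun x => ⟨x.2.1, x.1, x.2.2⟩
      left_inv := fun x => rfl
      right_inv := fun x => rfl }
  haveI := Fintype.ofFinite (G ⧸ H)
  haveI := Fintype.ofFinite (Sylow p G)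
  have hcount : Nat.card (G ⧸ H) * Nat.card (Sylow p ↥H) =
      Nat.card (Sylow p G) * Cfsg.Agent.HalfFix.fixCount p G (G ⧸ H) := by
    have h := Nat.card_congr e
    rw [Nat.card_sigma, Nat.card_sigma, Finset.sum_congr rfl (fun q _ => hcard q), Finset.sum_const,
      Finset.sum_congr rfl (fun (S : Sylow p G) _ => show Nat.card {q : G ⧸ H // q ∈ Cfsg.Agent.HalfFix.pts (S : Subgroup G)} =
        Cfsg.Agent.HalfFix.fixCount p G (G ⧸ H) by rw [Cfsg.Agent.HalfFix.fixCount_eq S]; exact Nat.card_coe_set_eq _),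
      Finset.sum_const, smul_eq_mul, smul_eq_mul, Finset.card_univ, Finset.card_univ,
      ← Nat.card_eq_fintype_card, ← Nat.card_eq_fintype_card] at h
    exact h
  have hb := Cfsg.Agent.HalfFix.fix_bound hg Finite.one_lt_card (α := G ⧸ H) P
  rw [← Cfsg.Agent.HalfFix.fixCount_eq P] at hb
  refine Nat.le_of_mul_le_mul_left ?_ (Nat.card_pos (α := G ⧸ H))
  calc Nat.card (G ⧸ H) * ((2 * p - 1) * Nat.card (Sylow p ↥H))
      = (2 * p - 1) * (Nat.card (G ⧸ H) * Nat.card (Sylow p ↥H)) := by ring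
    _ = Nat.card (Sylow p G) * ((2 * p - 1) * Cfsg.Agent.HalfFix.fixCount p G (G ⧸ H)) := by
        rw [hcount]; ring
    _ ≤ Nat.card (Sylow p G) * ((p - 1) * Nat.card (G ⧸ H)) := Nat.mul_le_mul_left _ hb
    _ = Nat.card (G ⧸ H) * ((p - 1) * Nat.card (Sylow p G)) := by ring

end Cfsg.Agent.S4181
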