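import Cfsg.Statements.S4182
import Cfsg.Agent.EqLemmas

set_option autoImplicit false
open Cfsg

namespace Cfsg.Agent.S4182

open scoped Pointwise

/-- the `p`-elements inside a subgroup -/
def pels {G : Type*} [Group G] (p : ℕ) (H : Subgroup G) : Set G :=
  {g : G | g ∈ H ∧ ∃ k : ℕ, orderOf g = p ^ k}

theorem mem_pels_of_isPGroup {G : Type*} [Group G] {p : ℕ} [Fact p.Prime] {P H : Subgroup G}
    (hP : IsPGroup p P) (hPH : P ≤ H) {g : G} (hg : g ∈ P) : g ∈ pels p H := by
  obtain ⟨k, hk⟩ := IsPGroup.iff_orderOf.mp hP ⟨g, hg⟩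
  exact ⟨hPH hg, k, by rwa [Subgroup.orderOf_mk] at hk⟩

/-- a `p`-subgroup covered by at most `p` subgroups lies in one of them -/
theorem le_of_cover {G : Type*} [Group G] [Finite G] {p : ℕ} [Fact p.Prime] {ι : Type*} [Fintype ι]
    (K : ι → Subgroup G) (hcard : Fintype.card ι ≤ p) (P : Subgroup G) (hP : IsPGroup p P)
    (hcov : ∀ g ∈ P, ∃ i, g ∈ K i) : ∃ i, P ≤ K i := by
  classical
  by_contra hne
  push Not at hne
  haveI := Fintype.ofFinite G
  set f : ι → Finset G := fun i => (Finset.univ.filter (fun g => g ∈ P ⊓ K i)).erase 1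
  have hsub : (Finset.univ.filter (fun g => g ∈ P)).erase 1 ⊆ Finset.univ.biUnion f := by
    intro g hg
    simp only [Finset.mem_erase, Finset.mem_filter, Finset.mem_univ, true_and] at hg
    obtain ⟨i, hi⟩ := hcov g hg.2
    simp only [Finset.mem_biUnion, Finset.mem_univ, true_and, f]
    exact ⟨i, by simp [hg.1, hg.2, hi]⟩
  have hcardP : ∀ H : Subgroup G,
      ((Finset.univ.filter (fun g => g ∈ H)).erase 1).card = Nat.card H - 1 := by
    intro H
    rw [Finset.card_erase_of_mem (by simp)]
    congr 1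
    rw [Nat.card_eq_fintype_card, Fintype.card_subtype]
  have h1 := (Finset.card_le_card hsub).trans Finset.card_biUnion_le
  obtain ⟨n, hn⟩ := IsPGroup.iff_card.mp hP
  have hn0 : n ≠ 0 := by
    intro h0
    obtain ⟨i, -⟩ := hcov 1 P.one_mem
    refine hne i ?_
    have hP1 : P = ⊥ := Subgroup.card_eq_one.mp (by rw [hn, h0, pow_zero])
    rw [hP1]
    exact bot_le
  obtain ⟨m, rfl⟩ := Nat.exists_eq_succ_of_ne_zero hn0
  have h2 : ∀ i, (f i).card ≤ p ^ m - 1 := by
    intro i
    simp only [f]
    rw [hcardP]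
    have hlt : P ⊓ K i < P := lt_of_le_of_ne inf_le_left (fun h => hne i (inf_eq_left.mp h))
    have hdvd : Nat.card (P ⊓ K i : Subgroup G) ∣ p ^ (m + 1) :=
      hn ▸ Subgroup.card_dvd_of_le hlt.le
    obtain ⟨j, hj, hj2⟩ := (Nat.dvd_prime_pow (Fact.out : p.Prime)).mp hdvd
    have hjm : j ≤ m := by
      by_contra hc
      have : j = m + 1 := by omega
      exact hlt.ne (Subgroup.eq_of_le_of_card_ge hlt.le (by rw [hj2, hn, this]))
    have := Nat.pow_le_pow_right (Fact.out : p.Prime).pos hjm
    omega
  have h3 : ∑ i, (f i).card ≤ p * (p ^ m - 1) := by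
    calc ∑ i, (f i).card ≤ ∑ _i : ι, (p ^ m - 1) := Finset.sum_le_sum (fun i _ => h2 i)
      _ = Fintype.card ι * (p ^ m - 1) := by simp
      _ ≤ p * (p ^ m - 1) := Nat.mul_le_mul_right _ hcard
  rw [hcardP, hn] at h1
  have hpm : 1 ≤ p ^ m := Nat.one_le_pow _ _ (Fact.out : p.Prime).pos
  have hp2 : 2 ≤ p := (Fact.out : p.Prime).two_le
  have h4 : p * (p ^ m - 1) + p = p ^ (m + 1) := by
    rw [pow_succ', ← Nat.mul_succ, Nat.succ_eq_add_one, Nat.sub_add_cancel hpm]
  simp only [Nat.succ_eq_add_one] at h1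
  omega

/-- a subgroup generated by its `p`-elements and covered on those by at most `p` subgroups
lies in one of them -/
theorem le_of_cover_pels {G : Type*} [Group G] [Finite G] {p : ℕ} [Fact p.Prime] {ι : Type*}
    [Fintype ι] (K : ι → Subgroup G) (hcard : Fintype.card ι ≤ p) :
    ∀ (n : ℕ) (H : Subgroup G), Nat.card H = n → Subgroup.closure (pels p H) = H →
      (∀ g ∈ pels p H, ∃ i, g ∈ K i) → ∃ i, H ≤ K i := by
  classical
  intro n
  induction n using Nat.strong_induction_on with
  | _ n IH =>
    intro H hHn hgen hcov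
    by_contra hne
    push Not at hne
    let T : ι → Subgroup G := fun i => Subgroup.closure (pels p (H ⊓ K i))
    have hTle : ∀ i, T i ≤ H ⊓ K i := fun i => (Subgroup.closure_le _).mpr (fun g hg => hg.1)
    have hTlt : ∀ i, T i < H := fun i =>
      lt_of_le_of_ne ((hTle i).trans inf_le_left)
        (fun h => hne i (h ▸ (hTle i).trans inf_le_right))
    have hTgen : ∀ i, Subgroup.closure (pels p (T i)) = T i := by
      intro i
      refine le_antisymm ((Subgroup.closure_le _).mpr (fun g hg => hg.1)) ?_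
      exact (Subgroup.closure_le _).mpr
        (fun g hg => Subgroup.subset_closure ⟨Subgroup.subset_closure hg, hg.2⟩)
    let S : Set (Subgroup G) := {M | Maximal (fun M => M < H ∧ Subgroup.closure (pels p M) = M) M}
    have hST : ∀ M ∈ S, ∃ i, M = T i := by
      intro M hM
      obtain ⟨⟨hMH, hMgen⟩, hmax⟩ := hM
      have hlt : Nat.card M < n := by
        rw [← hHn]
        by_contra hc
        exact hMH.ne (Subgroup.eq_of_le_of_card_ge hMH.le (not_lt.mp hc))
      obtain ⟨i, hi⟩ := IH _ hlt M rfl hMgen (fun g hg => hcov g ⟨hMH.le hg.1, hg.2⟩)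
      have hle : M ≤ T i := by
        calc M = Subgroup.closure (pels p M) := hMgen.symm
          _ ≤ T i := Subgroup.closure_mono (fun g hg => ⟨⟨hMH.le hg.1, hi hg.1⟩, hg.2⟩)
      exact ⟨i, le_antisymm hle (hmax ⟨hTlt i, hTgen i⟩ hle)⟩
    have hSfin : S.Finite := Set.toFinite _
    have hScard : S.ncard ≤ p := by
      have hsub : S ⊆ Set.range T := fun M hM => by
        obtain ⟨i, rfl⟩ := hST M hM
        exact ⟨i, rfl⟩
      refine (Set.ncard_le_ncard hsub (Set.toFinite _)).trans (le_trans ?_ hcard)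
      rw [← Set.image_univ]
      refine (Set.ncard_image_le Set.finite_univ).trans ?_
      simp [Set.ncard_univ]
    -- conjugation by elements of `H` permutes `S`
    have hconjP : ∀ h ∈ H, ∀ M : Subgroup G, M < H ∧ Subgroup.closure (pels p M) = M →
        MulAut.conj h • M < H ∧
          Subgroup.closure (pels p (MulAut.conj h • M)) = MulAut.conj h • M := by
      intro h hh M hM
      have hH : MulAut.conj h • H = H := Subgroup.conj_smul_eq_self_of_mem hh
      refine ⟨?_, ?_⟩
      · refine lt_of_le_of_ne ?_ ?_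
        · calc MulAut.conj h • M ≤ MulAut.conj h • H :=
              Subgroup.pointwise_smul_le_pointwise_smul_iff.mpr hM.1.le
            _ = H := hH
        · intro he
          exact hM.1.ne (smul_left_cancel (MulAut.conj h) (he.trans hH.symm))
      · refine le_antisymm ((Subgroup.closure_le _).mpr (fun g hg => hg.1)) ?_
        intro g hg
        rw [Subgroup.mem_pointwise_smul_iff_inv_smul_mem, ← hM.2] at hg
        have key : Subgroup.closure (pels p M) ≤
            (MulAut.conj h)⁻¹ • Subgroup.closure (pels p (MulAut.conj h • M)) := by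
          refine (Subgroup.closure_le _).mpr ?_
          intro x hx
          rw [SetLike.mem_coe, Subgroup.mem_inv_pointwise_smul_iff]
          refine Subgroup.subset_closure ⟨Subgroup.smul_mem_pointwise_smul _ _ _ hx.1, ?_⟩
          obtain ⟨k, hk⟩ := hx.2
          exact ⟨k, by rw [← hk]; exact MulEquiv.orderOf_eq (MulAut.conj h) x⟩
        have := key hg
        rwa [Subgroup.mem_inv_pointwise_smul_iff, smul_inv_smul] at this
    have hconjS : ∀ h ∈ H, ∀ M ∈ S, MulAut.conj h • M ∈ S := by
      intro h hh M hM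
      refine ⟨hconjP h hh M hM.1, ?_⟩
      intro N hN hle
      have hN' := hconjP h⁻¹ (inv_mem hh) N hN
      have h1 : M ≤ MulAut.conj h⁻¹ • N := by
        rw [map_inv]
        exact Subgroup.subset_pointwise_smul_iff.mpr (by simpa using hle)
      have h2 : MulAut.conj h⁻¹ • N ≤ M := hM.2 hN' h1
      rw [map_inv] at h2
      exact Subgroup.pointwise_smul_subset_iff.mp h2 |>.trans (by simp)
    -- every Sylow subgroup of `H` lies in a member of `S`
    have hsyl : ∀ P : Subgroup G, IsPGroup p P → P ≤ H → ∃ M ∈ S, P ≤ M := by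
      intro P hP hPH
      obtain ⟨i, hi⟩ := le_of_cover K hcard P hP
        (fun g hg => hcov g (mem_pels_of_isPGroup hP hPH hg))
      have hPT : P ≤ T i := fun g hg =>
        Subgroup.subset_closure (mem_pels_of_isPGroup hP (le_inf hPH hi) hg)
      obtain ⟨M, hle, hM⟩ := (Set.toFinite
        {M : Subgroup G | M < H ∧ Subgroup.closure (pels p M) = M}).exists_le_maximal
        (a := T i) ⟨hTlt i, hTgen i⟩
      exact ⟨M, hM, hPT.trans hle⟩
    -- the `p`-elements of `H` fix each member of `S`
    have hfix : ∀ x ∈ pels p H, ∀ M ∈ S, MulAut.conj x • M = M := by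
      intro x hx M hM
      obtain ⟨k, hk⟩ := hx.2
      let P := Subgroup.zpowers x
      have hP : IsPGroup p P := by
        rw [IsPGroup.iff_card]
        exact ⟨k, by rw [Nat.card_zpowers, hk]⟩
      obtain ⟨M₀, hM₀, hPM₀⟩ := hsyl P hP (Subgroup.zpowers_le.mpr hx.1)
      have hx0 : ∀ y ∈ P, MulAut.conj y • M₀ = M₀ := fun y hy =>
        Subgroup.conj_smul_eq_self_of_mem (hPM₀ hy)
      by_contra hne'
      letI : MulAction P (Subgroup G) := MulAction.compHom _ (MulAut.conj.comp P.subtype)
      obtain ⟨e, he⟩ := hP.card_orbit M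
      have hsub : MulAction.orbit P M ⊆ S \ {M₀} := by
        rintro _ ⟨y, rfl⟩
        have hyH : (y : G) ∈ H := Subgroup.zpowers_le.mpr hx.1 y.2
        refine ⟨hconjS _ hyH M hM, ?_⟩
        intro hy
        simp only [Set.mem_singleton_iff] at hy
        change MulAut.conj (y : G) • M = M₀ at hy
        have : M = M₀ := by
          rw [← hx0 _ y.2] at hy
          exact smul_left_cancel _ hy
        exact hne' (this ▸ hx0 x (Subgroup.mem_zpowers x))
      have hlt : Nat.card (MulAction.orbit P M) < p := by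
        rw [Nat.card_coe_set_eq]
        refine lt_of_le_of_lt (Set.ncard_le_ncard hsub (Set.toFinite _)) ?_
        exact lt_of_lt_of_le (Set.ncard_sdiff_singleton_lt_of_mem hM₀ hSfin) hScard
      rw [he] at hlt
      have he0 : e = 0 := by
        by_contra h0
        exact absurd (Nat.le_self_pow h0 p) (not_le.mpr hlt)
      rw [he0, pow_zero, Nat.card_eq_one_iff_unique] at he
      obtain ⟨hss, -⟩ := he
      exact hne' (congrArg Subtype.val (hss.elim
        (⟨_, MulAction.mem_orbit M (⟨x, Subgroup.mem_zpowers x⟩ : P)⟩ : MulAction.orbit P M)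
        ⟨M, MulAction.mem_orbit_self M⟩))
    -- conclusion
    obtain ⟨P⟩ : Nonempty (Sylow p H) := inferInstance
    have hP' : IsPGroup p ((P : Subgroup H).map H.subtype) := P.isPGroup'.map _
    obtain ⟨M, hM, hPM⟩ := hsyl _ hP' (Subgroup.map_subtype_le _)
    have hnorm : H ≤ Subgroup.normalizer (M : Set G) := by
      rw [← hgen, Subgroup.closure_le]
      intro x hx
      rw [SetLike.mem_coe, Subgroup.mem_normalizer_iff]
      intro g
      have := hfix x hx M hM
      nth_rw 2 [← this]
      rw [Subgroup.mem_pointwise_smul_iff_inv_smul_mem]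
      simp [MulAut.smul_def, MulAut.conj_symm_apply, mul_assoc]
    have hMn : (M.subgroupOf H).Normal := Subgroup.normal_subgroupOf_of_le_normalizer hnorm
    have hall : H ≤ M := by
      rw [← hgen, Subgroup.closure_le]
      intro x hx
      obtain ⟨k, hk⟩ := hx.2
      have hXp : IsPGroup p (Subgroup.zpowers (⟨x, hx.1⟩ : H)) := by
        rw [IsPGroup.iff_card]
        exact ⟨k, by rw [Nat.card_zpowers, Subgroup.orderOf_mk, hk]⟩
      obtain ⟨Q, hQ⟩ := hXp.exists_le_sylow
      obtain ⟨h, rfl⟩ := MulAction.exists_smul_eq H P Q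
      have hxQ := hQ (Subgroup.mem_zpowers (⟨x, hx.1⟩ : H))
      rw [Sylow.coe_subgroup_smul, Subgroup.mem_pointwise_smul_iff_inv_smul_mem] at hxQ
      have h1 : ((MulAut.conj h)⁻¹ • (⟨x, hx.1⟩ : H)) ∈ M.subgroupOf H := by
        rw [Subgroup.mem_subgroupOf]
        exact hPM (Subgroup.mem_map_of_mem H.subtype hxQ)
      have h2 := hMn.conj_mem _ h1 h
      simpa [MulAut.smul_def, MulAut.conj_symm_apply, mul_assoc, Subgroup.mem_subgroupOf] using h2
    exact hM.1.1.ne (le_antisymm hM.1.1.le hall)

/-- Let p be a prime and G a finite group generated by its p-elements. If a finite family of proper subgroups of G covers the set of p-elements of G (every element of p-power order lies in one of them), then the family has at least p + 1 members. -/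
theorem result {G : Type*} [Group G] [Finite G] (p : ℕ) [Fact p.Prime] (hgen : Subgroup.closure {g : G | ∃ k : ℕ, orderOf g = p ^ k} = ⊤)
    {ι : Type*} [Fintype ι] (K : ι → Subgroup G) (hK : ∀ i, K i ≠ ⊤)
    (hcov : ∀ g : G, (∃ k : ℕ, orderOf g = p ^ k) → ∃ i, g ∈ K i) :
    p + 1 ≤ Fintype.card ι := by
  by_contra hlt
  have htop : pels p (⊤ : Subgroup G) = {g : G | ∃ k : ℕ, orderOf g = p ^ k} := by
    ext g
    simp [pels]
  obtain ⟨i, hi⟩ := le_of_cover_pels K (by omega) (Nat.card (⊤ : Subgroup G)) ⊤ rfl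
    (by rw [htop, hgen]) (fun g hg => hcov g hg.2)
  exact hK i (top_le_iff.mp hi)

end Cfsg.Agent.S4182
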