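import Cfsg.Statements.S4184
import Cfsg.Agent.Lib.ClassGraph.Disconnected
import Cfsg.Agent.Lib.ClassIndex.PxQ

set_option autoImplicit false
open Cfsg

namespace Cfsg.Agent.S4184

open ClassGraph Subgroup

/-- The facts about the class sizes of `M` that are used: each is a divisor of `m` that is full on one of the
two parts but is not `m`. -/
structure Sizes (G : Type*) [Group G] (m : ℕ) (A : Set ℕ) : Prop where
  dvd : ∀ g : G, idx g ∣ m
  lt : ∀ g : G, idx g ≠ m
  full : ∀ g : G, g ≠ 1 → (∀ q, q.Prime → q ∈ A → (idx g).factorization q = m.factorization q) ∨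
    (∀ q, q.Prime → q ∉ A → (idx g).factorization q = m.factorization q)

theorem eq_of_full {G : Type*} [Group G] [Finite G] {m : ℕ} {A : Set ℕ} (hm : m ≠ 0) (hS : Sizes G m A) (g : G)
    (h1 : ∀ q, q.Prime → q ∈ A → m.factorization q ≤ (idx g).factorization q)
    (h2 : ∀ q, q.Prime → q ∉ A → m.factorization q ≤ (idx g).factorization q) : False := by
  refine hS.lt g (Nat.dvd_antisymm (hS.dvd g) ((Nat.factorization_le_iff_dvd hm index_ne_zero_of_finite).mp ?_))
  intro q
  by_cases hq : q.Prime
  · by_cases hA : q ∈ A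
    · exact h1 q hq hA
    · exact h2 q hq hA
  · rw [Nat.factorization_eq_zero_of_not_prime _ hq]; exact Nat.zero_le _

theorem exists_central {G : Type*} [Group G] [Finite G] {p : ℕ} [Fact p.Prime] (P : Sylow p G)
    (hd : p ∣ Nat.card G) : ∃ z ∈ (P : Subgroup G) ⊓ centralizer ((P : Subgroup G) : Set G),
      z ≠ 1 ∧ (∃ k, orderOf z = p ^ k) ∧ ¬ p ∣ idx z := by
  haveI : Nontrivial (P : Subgroup G) := (nontrivial_iff_ne_bot _).mpr (P.ne_bot_of_dvd_card hd)
  haveI := P.isPGroup'.center_nontrivial
  obtain ⟨z, hz⟩ := exists_ne (1 : center (P : Subgroup G))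
  have hcent : ∀ w ∈ (P : Subgroup G), w * (z : (P : Subgroup G)) = (z : (P : Subgroup G)) * w := fun w hw =>
    congrArg Subtype.val (mem_center_iff.mp z.2 ⟨w, hw⟩)
  obtain ⟨k, hk⟩ := IsPGroup.iff_orderOf.mp P.isPGroup' (z : (P : Subgroup G))
  refine ⟨((z : (P : Subgroup G)) : G), ⟨z.1.2, mem_centralizer_iff.mpr hcent⟩,
    fun h => hz (Subtype.ext (Subtype.ext h)), ⟨k, by rw [Subgroup.orderOf_coe, hk]⟩, fun hdz => ?_⟩
  exact P.not_dvd_index (hdz.trans (index_dvd_of_le fun w hw => mem_cent.mpr (hcent w hw)))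

/-- The `p`-part of the order of `G` is at most that of `m`, for `p ∈ A`. -/
theorem factorization_le {G : Type*} [Group G] [Finite G] {m : ℕ} {A : Set ℕ} (hm : m ≠ 0)
    (hZ : center G = ⊥) (hS : Sizes G m A) {q : ℕ} (hq : q.Prime) (hqA : q ∉ A) (hqG : q ∣ Nat.card G)
    (hqm : 0 < m.factorization q) {r : ℕ} (hr : r.Prime) (hrA : r ∈ A) :
    (Nat.card G).factorization r ≤ m.factorization r := by
  by_contra hlt
  push Not at hlt
  haveI := Fact.mk hr
  haveI := Fact.mk hq
  have hne1 : ∀ g : G, g ≠ 1 → idx g ≠ 1 := fun g hg h => hg (by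
    have := idx_eq_one_iff.mp h
    rwa [hZ, mem_bot] at this)
  have hr0 : r ∣ Nat.card G := Nat.dvd_of_factorization_pos (by omega)
  -- `r` divides `m`
  have hrm : 0 < m.factorization r := by
    by_contra h0
    push Not at h0
    have hnd : ∀ g : G, ¬ r ∣ idx g := fun g hd => by
      have := (hr.pow_dvd_iff_le_factorization hm).mp (show r ^ 1 ∣ m by rw [pow_one]; exact hd.trans (hS.dvd g))
      omega
    obtain ⟨R⟩ : Nonempty (Sylow r G) := inferInstance
    have htop : centralizer ((R : Subgroup G) : Set G) = ⊤ := ClassIndex.eq_top_of_conj_cover fun g => by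
      obtain ⟨P, hP⟩ := exists_sylow_le_cent (p := r) (hnd g)
      obtain ⟨a, ha⟩ := MulAction.exists_smul_eq G R P
      refine ⟨a, mem_centralizer_iff.mpr fun x hx => ?_⟩
      have h1 : a * x * a⁻¹ ∈ centralizer ({g} : Set G) := hP (by
        rw [← ha, Sylow.coe_subgroup_smul]
        exact smul_mem_pointwise_smul _ _ _ hx)
      rw [ClassGraph.mem_cent] at h1
      have := congrArg (fun t => a⁻¹ * t * a) h1
      simpa [mul_assoc] using this
    apply R.ne_bot_of_dvd_card hr0
    rw [eq_bot_iff, ← hZ]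
    exact centralizer_eq_top_iff_subset.mp htop
  set e := (Nat.card G).factorization r - m.factorization r with he
  -- the centre of a Sylow `r`-subgroup
  have hnotA : ∀ {t : ℕ} (g : G), t.Prime → t ∈ A → 0 < m.factorization t → ¬ t ∣ idx g → g ≠ 1 →
      ∀ s, s.Prime → s ∉ A → (idx g).factorization s = m.factorization s := by
    intro t g ht htA htm hd hg
    refine (hS.full g hg).resolve_left fun h => ?_
    have := h t ht htA
    rw [Nat.factorization_eq_zero_of_not_dvd hd] at this
    omega
  have hnotB : ∀ {t : ℕ} (g : G), t.Prime → t ∉ A → 0 < m.factorization t → ¬ t ∣ idx g → g ≠ 1 →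
      ∀ s, s.Prime → s ∈ A → (idx g).factorization s = m.factorization s := by
    intro t g ht htA htm hd hg
    refine (hS.full g hg).resolve_right fun h => ?_
    have := h t ht htA
    rw [Nat.factorization_eq_zero_of_not_dvd hd] at this
    omega
  obtain ⟨Q⟩ : Nonempty (Sylow q G) := inferInstance
  obtain ⟨w, hwQ, hw1, ⟨j, hwj⟩, hwd⟩ := exists_central Q hqG
  have hwA := hnotB w hq hqA hqm hwd hw1
  set C := centralizer ({w} : Set G) with hC
  obtain ⟨P⟩ : Nonempty (Sylow r C) := inferInstance
  set U := (P : Subgroup C).map C.subtype with hU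
  have hcardU : Nat.card U = r ^ e := by
    rw [hU, card_subtype, P.card_eq_multiplicity]
    congr 1
    have h1 := congrArg (fun k : ℕ => k.factorization r) C.card_mul_index
    simp only [Nat.factorization_mul Nat.card_pos.ne' C.index_ne_zero_of_finite, Finsupp.add_apply] at h1
    have h2 := hwA r hr hrA
    change C.index.factorization r = m.factorization r at h2
    omega
  have hUr : IsPGroup r U := IsPGroup.of_card hcardU
  haveI : Nontrivial U := Finite.one_lt_card_iff_nontrivial.mp (by
    rw [hcardU]; exact Nat.one_lt_pow (by omega) hr.one_lt)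
  haveI := hUr.center_nontrivial
  obtain ⟨u, hu1⟩ := exists_ne (1 : center U)
  have huA : ∀ x : G, x ∈ U → x ≠ 1 → ∀ s, s.Prime → s ∈ A → (idx x).factorization s = m.factorization s := by
    intro x hx hx1
    refine (hS.full x hx1).resolve_right fun h => ?_
    obtain ⟨i, hi⟩ := IsPGroup.iff_orderOf.mp hUr ⟨x, hx⟩
    rw [Subgroup.orderOf_mk] at hi
    have hxw : Commute x w := mem_cent.mp (map_subtype_le _ hx)
    have hco : (orderOf x).Coprime (orderOf w) := by
      rw [hi, hwj]; exact ((Nat.coprime_primes hr hq).mpr fun e => hqA (e ▸ hrA)).pow i j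
    refine eq_of_full hm hS (x * w) (fun s hs hsA => ?_) (fun s hs hsA => ?_)
    · rw [← hwA s hs hsA]
      exact (Nat.factorization_le_iff_dvd index_ne_zero_of_finite index_ne_zero_of_finite).mpr
        (idx_dvd_of_mem_zpowers (mem_zpowers_mul hxw hco)) s
    · rw [← h s hs hsA]
      refine (Nat.factorization_le_iff_dvd index_ne_zero_of_finite index_ne_zero_of_finite).mpr
        (idx_dvd_of_mem_zpowers ?_) s
      rw [hxw.eq]
      exact mem_zpowers_mul hxw.symm hco.symm
  obtain ⟨R, hR⟩ := hUr.exists_le_sylow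
  obtain ⟨z, hzR, hz1, -, hzd⟩ := exists_central R hr0
  have hzB := hnotA z hr hrA hrm hzd hz1
  have hzU : z ∉ U := fun h => eq_of_full hm hS z (fun s hs hsA => (huA z h hz1 s hs hsA).ge)
    (fun s hs hsA => (hzB s hs hsA).ge)
  set x : G := ((u : U) : G) with hx
  have hxU : x ∈ U := (u : U).2
  have hx1 : x ≠ 1 := fun h => hu1 (Subtype.ext (Subtype.ext h))
  set V := U ⊔ zpowers z with hV
  have hVR : V ≤ (R : Subgroup G) := sup_le hR (zpowers_le.mpr hzR.1)
  have hVC : V ≤ centralizer ({x} : Set G) := by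
    refine sup_le (fun a ha => mem_cent.mpr (congrArg Subtype.val (mem_center_iff.mp u.2 ⟨a, ha⟩))) (zpowers_le.mpr ?_)
    exact mem_cent.mpr (mem_centralizer_iff.mp hzR.2 x (hR hxU)).symm
  obtain ⟨i, hi⟩ := IsPGroup.iff_card.mp (R.isPGroup'.to_le hVR)
  have hle : i ≤ e := by
    have hdvd : r ^ i ∣ Nat.card (centralizer ({x} : Set G)) := hi ▸ card_dvd_of_le hVC
    have h1 := (hr.pow_dvd_iff_le_factorization Nat.card_pos.ne').mp hdvd
    have h2 := congrArg (fun k : ℕ => k.factorization r) (centralizer ({x} : Set G)).card_mul_index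
    simp only [Nat.factorization_mul Nat.card_pos.ne' index_ne_zero_of_finite, Finsupp.add_apply] at h2
    have h3 := huA x hxU hx1 r hr hrA
    change (centralizer ({x} : Set G)).index.factorization r = m.factorization r at h3
    omega
  apply hzU
  have hUV : U = V := eq_of_le_of_card_ge le_sup_left (by
    rw [hcardU, hi]; exact Nat.pow_le_pow_right hr.pos hle)
  rw [hUV]
  exact mem_sup_right (mem_zpowers z)

/-- Let G and M be finite groups with trivial centres and the same set of conjugacy class sizes, and suppose the prime graph of M is disconnected: the prime divisors of #M split into two non-empty parts such that M has no element of order pq with p in one part and q in the other. Then #G = #M. -/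
theorem result {G M : Type*}
    [Group G] [Finite G] [Group M] [Finite M] (hZG : Subgroup.center G = ⊥) (hZM : Subgroup.center M = ⊥)
    (h : Set.range (fun g : G => (Subgroup.centralizer ({g} : Set G)).index) = Set.range (fun g : M => (Subgroup.centralizer ({g} : Set M)).index))
    (hdisc : ∃ A : Set ℕ, (∃ a ∈ A, a.Prime ∧ a ∣ Nat.card M) ∧ (∃ b ∉ A, b.Prime ∧ b ∣ Nat.card M) ∧
      ∀ a ∈ A, ∀ b ∉ A, a.Prime → b.Prime → a ∣ Nat.card M → b ∣ Nat.card M → ¬ ∃ x : M, orderOf x = a * b) :
    Nat.card G = Nat.card M := by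
  obtain ⟨A, ⟨a, haA, ha, had⟩, ⟨b, hbA, hb, hbd⟩, hno⟩ := hdisc
  haveI := Fact.mk ha
  haveI := Fact.mk hb
  set m := Nat.card M with hm
  have hm0 : m ≠ 0 := Nat.card_pos.ne'
  have hmul : ∀ u : M, Nat.card (centralizer ({u} : Set M)) * idx u = m := fun u => card_mul_index _
  -- a centralizer has all its prime divisors on one side
  have hside : ∀ u : M, u ≠ 1 → Snum A (Nat.card (centralizer ({u} : Set M))) ∨
      Snum Aᶜ (Nat.card (centralizer ({u} : Set M))) := by
    intro u hu
    by_contra h
    simp only [not_or, Snum, not_forall] at h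
    obtain ⟨⟨q, hq, hqd, hqA⟩, ⟨p, hp, hpd, hpA⟩⟩ := h
    rw [Set.mem_compl_iff, not_not] at hpA
    obtain ⟨t, ht, htd⟩ := Nat.exists_prime_and_dvd (orderOf_eq_one_iff.not.mpr hu)
    have hbad : ∀ x y : ℕ, x.Prime → y.Prime → x ∈ A → y ∉ A → ∀ g k : M, orderOf g = x → orderOf k = y →
        Commute g k → False := fun x y hx hy hxA hyA g k hg hk hgk => by
      refine hno x hxA y hyA hx hy (hg ▸ orderOf_dvd_natCard g) (hk ▸ orderOf_dvd_natCard k) ⟨g * k, ?_⟩
      rw [hgk.orderOf_mul_eq_mul_orderOf_of_coprime, hg, hk]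
      rw [hg, hk]
      exact (Nat.coprime_primes hx hy).mpr fun e => hyA (e ▸ hxA)
    have hu' : orderOf (u ^ (orderOf u / t)) = t := orderOf_pow_orderOf_div (orderOf_pos u).ne' htd
    haveI := Fact.mk hp
    haveI := Fact.mk hq
    by_cases htA : t ∈ A
    · obtain ⟨k, hk⟩ := exists_prime_orderOf_dvd_card' q hqd
      exact hbad t q ht hq htA hqA _ (k : M) hu' (by rw [Subgroup.orderOf_coe, hk])
        ((show Commute (k : M) u from mem_cent.mp k.2).symm.pow_left _)
    · obtain ⟨k, hk⟩ := exists_prime_orderOf_dvd_card' p hpd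
      exact hbad p t hp ht hpA htA (k : M) _ (by rw [Subgroup.orderOf_coe, hk]) hu'
        ((show Commute (k : M) u from mem_cent.mp k.2).pow_right _)
  have hfull : ∀ (u : M) (q : ℕ), q.Prime → ¬ q ∣ Nat.card (centralizer ({u} : Set M)) →
      (idx u).factorization q = m.factorization q := by
    intro u q hq hd
    rw [← hmul u, Nat.factorization_mul Nat.card_pos.ne' index_ne_zero_of_finite, Finsupp.add_apply,
      Nat.factorization_eq_zero_of_not_dvd hd, zero_add]
  have hM : Sizes M m A := by
    refine ⟨fun u => Dvd.intro_left _ (hmul u), fun u he => ?_, fun u hu => ?_⟩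
    · have h1 := hmul u
      rw [he] at h1
      have h2 : Nat.card (centralizer ({u} : Set M)) = 1 := (Nat.mul_eq_right hm0).mp h1
      rw [card_eq_one] at h2
      have hu : u = 1 := by rw [← mem_bot, ← h2]; exact mem_cent.mpr rfl
      rw [hu, idx_eq_one_iff.mpr (one_mem _)] at he
      exact ha.ne_one (Nat.dvd_one.mp (he.symm ▸ had))
    · rcases hside u hu with h | h
      · exact Or.inr fun q hq hqA => hfull u q hq fun hd => hqA (h q hq hd)
      · exact Or.inl fun q hq hqA => hfull u q hq fun hd => h q hq hd hqA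
  have hMG : ∀ u : M, ∃ g : G, idx g = idx u := fun u => by
    have : idx u ∈ Set.range (fun g : M => (centralizer ({g} : Set M)).index) := ⟨u, rfl⟩
    rwa [← h] at this
  have hGM : ∀ g : G, ∃ u : M, idx u = idx g := fun g => by
    have : idx g ∈ Set.range (fun g : G => (centralizer ({g} : Set G)).index) := ⟨g, rfl⟩
    rwa [h] at this
  have hG : Sizes G m A := by
    refine ⟨fun g => ?_, fun g => ?_, fun g hg => ?_⟩ <;> obtain ⟨u, hu⟩ := hGM g <;> rw [← hu]
    · exact hM.dvd u
    · exact hM.lt u
    · refine hM.full u fun e => hg ?_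
      rw [e, idx_eq_one_iff.mpr (one_mem _)] at hu
      have := idx_eq_one_iff.mp hu.symm
      rwa [hZG, mem_bot] at this
  -- elements of prime order in either part
  obtain ⟨ua, hua⟩ := exists_prime_orderOf_dvd_card' a had
  obtain ⟨ub, hub⟩ := exists_prime_orderOf_dvd_card' b hbd
  have hpos : ∀ (u : M) (t : ℕ), t.Prime → orderOf u = t → t ∣ Nat.card (centralizer ({u} : Set M)) := fun u t _ hu =>
    hu ▸ (Subgroup.orderOf_dvd_natCard _ (mem_cent.mpr rfl))
  have hne : ∀ (u : M) (t : ℕ), t.Prime → orderOf u = t → u ≠ 1 := fun u t ht hu e => ht.ne_one (by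
    rw [← hu, e, orderOf_one])
  have hua' : ∀ q, q.Prime → q ∉ A → (idx ua).factorization q = m.factorization q := by
    intro q hq hqA
    refine hfull ua q hq fun hd => ?_
    rcases hside ua (hne ua a ha hua) with h' | h'
    · exact hqA (h' q hq hd)
    · exact h' a ha (hpos ua a ha hua) haA
  have hub' : ∀ q, q.Prime → q ∈ A → (idx ub).factorization q = m.factorization q := by
    intro q hq hqA
    refine hfull ub q hq fun hd => ?_
    rcases hside ub (hne ub b hb hub) with h' | h'
    · exact hbA (h' b hb (hpos ub b hb hub))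
    · exact h' q hq hd hqA
  have hle : ∀ q, q.Prime → m.factorization q ≤ (Nat.card G).factorization q := by
    intro q hq
    by_cases hqA : q ∈ A
    · obtain ⟨g, hg⟩ := hMG ub
      rw [← hub' q hq hqA, ← hg]
      exact (Nat.factorization_le_iff_dvd index_ne_zero_of_finite Nat.card_pos.ne').mpr (index_dvd_card _) q
    · obtain ⟨g, hg⟩ := hMG ua
      rw [← hua' q hq hqA, ← hg]
      exact (Nat.factorization_le_iff_dvd index_ne_zero_of_finite Nat.card_pos.ne').mpr (index_dvd_card _) q
  have ha0 : 0 < m.factorization a := ha.factorization_pos_of_dvd hm0 had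
  have hb0 : 0 < m.factorization b := hb.factorization_pos_of_dvd hm0 hbd
  refine Nat.eq_of_factorization_eq Nat.card_pos.ne' hm0 fun r => ?_
  by_cases hr : r.Prime
  swap
  · rw [Nat.factorization_eq_zero_of_not_prime _ hr, Nat.factorization_eq_zero_of_not_prime _ hr]
  refine le_antisymm ?_ (hle r hr)
  by_cases hrA : r ∈ A
  · exact factorization_le hm0 hZG hG hb hbA
      (Nat.dvd_of_factorization_pos (lt_of_lt_of_le hb0 (hle b hb)).ne') hb0 hr hrA
  · refine factorization_le (A := Aᶜ) hm0 hZG ⟨hG.dvd, hG.lt, fun g hg => ?_⟩ ha (by simpa using haA)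
      (Nat.dvd_of_factorization_pos (lt_of_lt_of_le ha0 (hle a ha)).ne') ha0 hr hrA
    simpa [or_comm] using hG.full g hg

end Cfsg.Agent.S4184
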