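import Cfsg.Statements.S4187
import Cfsg.Agent.Lib.RealClassGraph.Main

set_option autoImplicit false
open Cfsg

namespace Cfsg.Agent.S4187

open RealClassGraph

/-- Let G be a finite group. Call an element real when it is conjugate to its inverse, and consider the graph whose vertices are the primes dividing the size of some conjugacy class of real elements, two distinct primes being adjacent when their product divides such a class size. If this graph is disconnected — its vertex set splits into two non-empty parts such that no real class size is divisible by a prime from each part — then G is solvable. -/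
theorem result {G : Type*} [Group G] [Finite G] (π₁ π₂ : Set ℕ) (h₁ : π₁.Nonempty) (h₂ : π₂.Nonempty) (hcover : ∀ q : ℕ, q.Prime → (∃ n ∈ {n : ℕ | ∃ x : G, IsConj x x⁻¹ ∧ (Subgroup.centralizer ({x} : Set G)).index = n}, q ∣ n) → q ∈ π₁ ∨ q ∈ π₂) (hsub : ∀ q ∈ π₁ ∪ π₂, q.Prime ∧ ∃ n ∈ {n : ℕ | ∃ x : G, IsConj x x⁻¹ ∧ (Subgroup.centralizer ({x} : Set G)).index = n}, q ∣ n) (hdisj : Disjoint π₁ π₂) (hnoedge : ∀ a ∈ π₁, ∀ b ∈ π₂, ∀ n ∈ {n : ℕ | ∃ x : G, IsConj x x⁻¹ ∧ (Subgroup.centralizer ({x} : Set G)).index = n}, ¬ (a ∣ n ∧ b ∣ n)) : Group.IsSolvable G := by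
  classical
  haveI : Fact (Nat.Prime 2) := ⟨Nat.prime_two⟩
  by_cases h2 : ∃ x : G, IsConj x x⁻¹ ∧ 2 ∣ (Subgroup.centralizer ({x} : Set G)).index
  · obtain ⟨x, hx, hx2⟩ := h2
    rcases hcover 2 Nat.prime_two ⟨_, ⟨x, hx, rfl⟩, hx2⟩ with h | h
    · obtain ⟨q, hq⟩ := h₂
      obtain ⟨hqp, _, ⟨z, hz, rfl⟩, hqz⟩ := hsub q (Or.inr hq)
      obtain ⟨tz, htz⟩ := isConj_iff.1 hz
      refine Split.isSolvable (π₁ := π₁) (π₂ := π₂) ⟨h, fun x t ht r hr hrx => hcover r hr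
        ⟨_, ⟨x, isConj_iff.2 ⟨t, ht⟩, rfl⟩, hrx⟩, fun x t ht a ha b hb hax hbx =>
        hnoedge a ha b hb _ ⟨x, isConj_iff.2 ⟨t, ht⟩, rfl⟩ ⟨hax, hbx⟩⟩ htz hq hqp hqz
    · obtain ⟨q, hq⟩ := h₁
      obtain ⟨hqp, _, ⟨z, hz, rfl⟩, hqz⟩ := hsub q (Or.inl hq)
      obtain ⟨tz, htz⟩ := isConj_iff.1 hz
      refine Split.isSolvable (π₁ := π₂) (π₂ := π₁) ⟨h, fun x t ht r hr hrx => (hcover r hr
        ⟨_, ⟨x, isConj_iff.2 ⟨t, ht⟩, rfl⟩, hrx⟩).symm, fun x t ht a ha b hb hax hbx =>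
        hnoedge b hb a ha _ ⟨x, isConj_iff.2 ⟨t, ht⟩, rfl⟩ ⟨hbx, hax⟩⟩ htz hq hqp hqz
  · obtain ⟨P⟩ : Nonempty (Sylow 2 G) := inferInstance
    refine isSolvable_of_two_closed P (two_closed_of_no_real (fun y t hy _ hodd hinv => hy ?_) P)
    by_contra hy1
    exact h2 ⟨y, isConj_iff.2 ⟨t, hinv⟩, two_dvd_index hinv fun e => hy1 (eq_one_of_sq hodd e)⟩

end Cfsg.Agent.S4187
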