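import Cfsg.Statements.S4188
import Cfsg.Agent.Lib.TwoGroupRank.Odd

set_option autoImplicit false
open Cfsg

namespace Cfsg.Agent.S4188

/-- Let G be a finite group that is the semidirect product of a normal abelian subgroup N of odd order by a 2-subgroup P, and suppose N is the unique minimal normal subgroup of G. Then the index of the Frattini subgroup of P in P is at most #N − 1. -/
theorem result {G : Type*} [Group G] [Finite G] (N P : Subgroup G) (hN : N.Normal) (hNab : IsMulCommutative ↥N) (hNodd : Odd (Nat.card ↥N)) (hP : IsPGroup 2 ↥P) (hdisj : N ⊓ P = ⊥) (hprod : N ⊔ P = ⊤) (hmin : N ≠ ⊥ ∧ ∀ M : Subgroup G, M.Normal → M ≠ ⊥ → N ≤ M) : (frattini ↥P).index ≤ Nat.card ↥N - 1 := by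
  haveI := hN
  let φ : P →* MulAut ↥N := (MulAut.conjNormal : G →* MulAut ↥N).comp P.subtype
  have hker : Function.Injective φ := by
    rw [← MonoidHom.ker_eq_bot_iff]
    by_contra hne
    let M : Subgroup G := φ.ker.map P.subtype
    have hfix : ∀ x ∈ M, ∀ n ∈ N, x * n = n * x := by
      rintro _ ⟨x, hx, rfl⟩ n hn
      have h1 := congrArg Subtype.val (MulEquiv.congr_fun (MonoidHom.mem_ker.mp hx) ⟨n, hn⟩)
      simp [φ] at h1
      exact mul_inv_eq_iff_eq_mul.mp h1
    have hMn : M.Normal := by
      rw [← Subgroup.normalizer_eq_top_iff, eq_top_iff, ← hprod, sup_le_iff]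
      refine ⟨fun n hn => Subgroup.centralizer_le_normalizer (M : Set G)
        (Subgroup.mem_centralizer_iff.mpr fun x hx => hfix x hx n hn), ?_⟩
      calc P = (⊤ : Subgroup P).map P.subtype := by rw [← MonoidHom.range_eq_map, Subgroup.range_subtype]
        _ ≤ (Subgroup.normalizer (φ.ker : Set P)).map P.subtype := by rw [Subgroup.normalizer_eq_top_iff.mpr inferInstance]
        _ ≤ _ := Subgroup.le_normalizer_map _
    have hM : M ≠ ⊥ := fun h => hne ((Subgroup.map_eq_bot_iff_of_injective _ P.subtype_injective).mp h)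
    have hMP : M ≤ P := Subgroup.map_subtype_le _
    exact hmin.1 (le_bot_iff.mp (hdisj ▸ le_inf le_rfl ((hmin.2 M hMn hM).trans hMP)))
  letI : CommGroup ↥N := { mul_comm := fun a b => hNab.is_comm.comm a b }
  have h := TwoGroupRank.bound hNodd hP φ hker
  obtain ⟨k, hk⟩ := IsPGroup.iff_card.mp (hP.to_quotient (frattini ↥P))
  rw [← Subgroup.index_eq_card] at hk
  have h1 := (Subgroup.one_lt_card_iff_ne_bot N).mpr hmin.1
  rcases k with _ | k
  · rw [hk]; simp; omega
  · have h2 : (frattini ↥P).index ≤ Nat.card ↥N := h.1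
    obtain ⟨m, hm⟩ := hNodd
    have : (frattini ↥P).index = 2 * 2 ^ k := by rw [hk, pow_succ, mul_comm]
    omega

end Cfsg.Agent.S4188
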