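import Cfsg.Statements.S4190
import Cfsg.Agent.EqLemmas
import Cfsg.Agent.Lib.SolvClassNum.PrimeMain
import Mathlib.Analysis.SpecialFunctions.Log.Base

set_option autoImplicit false
open Cfsg

namespace Cfsg.Agent.S4190

/-- Let G be a finite solvable group and p a prime dividing the index of the Fitting subgroup of G. Then the number of conjugacy classes of G is at least p/(3·log₂ p). -/
theorem result {G : Type*} [Group G] [Finite G] (hG : Group.IsSolvable G) (p : ℕ) [Fact p.Prime] (hp : p ∣ (Cfsg.fittingSubgroup G).index) : (p : ℝ) / (3 * Real.logb 2 p) ≤ Nat.card (ConjClasses G) := by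
  let f : G ≃* Shrink.{0} G := (Shrink.mulEquiv : Shrink.{0} G ≃* G).symm
  haveI : Finite (Shrink.{0} G) := Finite.of_equiv G f.toEquiv
  haveI : Group.IsSolvable (Shrink.{0} G) := Group.isSolvable_of_surjective (f := f.toMonoidHom) f.surjective
  have hF : p ∣ (Cfsg.fittingSubgroup (Shrink.{0} G)).index := by
    have hle : Cfsg.fittingSubgroup (Shrink.{0} G) ≤ (Cfsg.fittingSubgroup G).comap f.symm.toMonoidHom := by
      refine sSup_le fun N ⟨hN, hnil⟩ => Subgroup.map_le_iff_le_comap.mp (le_sSup ⟨hN.map _ f.symm.surjective, ?_⟩)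
      haveI := hnil
      exact Group.nilpotent_of_surjective (f.symm.toMonoidHom.subgroupMap N) (f.symm.toMonoidHom.subgroupMap_surjective N)
    have h := Subgroup.index_dvd_of_le hle
    rw [Subgroup.index_comap_of_surjective _ f.symm.surjective] at h
    exact hp.trans h
  have hmain := SolvClassNum.fitting_prime_classes p (Shrink.{0} G) hF
  have hc : Nat.card (ConjClasses (Shrink.{0} G)) ≤ Nat.card (ConjClasses G) := by
    refine Nat.card_le_card_of_surjective (ConjClasses.map f.toMonoidHom) fun c => ?_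
    obtain ⟨x, rfl⟩ := ConjClasses.mk_surjective c
    exact ⟨ConjClasses.mk (f.symm x), congrArg ConjClasses.mk (f.apply_symm_apply x)⟩
  have hpp : p.Prime := Fact.out
  have hlog : (Nat.log 2 p : ℝ) ≤ Real.logb 2 p := by exact_mod_cast Real.natLog_le_logb p 2
  have hL : (1 : ℝ) ≤ Nat.log 2 p := by exact_mod_cast Nat.log_pos (by norm_num) hpp.two_le
  rw [div_le_iff₀ (by linarith)]
  have h1 : (p : ℝ) ≤ 3 * (Nat.log 2 p : ℝ) * Nat.card (ConjClasses G) := by
    exact_mod_cast hmain.trans (Nat.mul_le_mul_left _ hc)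
  have h2 : 3 * (Nat.log 2 p : ℝ) * Nat.card (ConjClasses G) ≤ Nat.card (ConjClasses G) * (3 * Real.logb 2 p) := by
    rw [mul_comm _ (Nat.card (ConjClasses G) : ℝ)]
    exact mul_le_mul_of_nonneg_left (by linarith) (Nat.cast_nonneg _)
  linarith

end Cfsg.Agent.S4190
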