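import Cfsg.Statements.S4192
import Cfsg.Agent.Lib.RealClassGraph.Structure

set_option autoImplicit false
open Cfsg

namespace Cfsg.Agent.S4192

open RealClassGraph

/-- Let G be a finite group; call an element real when it is conjugate to its inverse, and say that the real-class-size graph of a group is disconnected when the primes dividing its real class sizes split into two non-empty disjoint parts with no real class size divisible by a prime from each part. If the real-class-size graph of G is disconnected, then some real class size of G is even, and either the Sylow 2-subgroups of G are normal, or the subgroup K generated by the 2-elements of G (the smallest normal subgroup of odd index) again has a disconnected real-class-size graph and every real class size of K is odd or a power of 2. -/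
theorem result {G : Type*} [Group G] [Finite G] (h : (∃ π₁ π₂ : Set ℕ, π₁.Nonempty ∧ π₂.Nonempty ∧ Disjoint π₁ π₂ ∧ (∀ q ∈ π₁ ∪ π₂, q.Prime ∧ ∃ n ∈ {n : ℕ | ∃ x : G, IsConj x x⁻¹ ∧ (Subgroup.centralizer ({x} : Set G)).index = n}, q ∣ n) ∧ (∀ q : ℕ, q.Prime → (∃ n ∈ {n : ℕ | ∃ x : G, IsConj x x⁻¹ ∧ (Subgroup.centralizer ({x} : Set G)).index = n}, q ∣ n) → q ∈ π₁ ∨ q ∈ π₂) ∧ ∀ a ∈ π₁, ∀ b ∈ π₂, ∀ n ∈ {n : ℕ | ∃ x : G, IsConj x x⁻¹ ∧ (Subgroup.centralizer ({x} : Set G)).index = n}, ¬ (a ∣ n ∧ b ∣ n))) : (∃ n ∈ {n : ℕ | ∃ x : G, IsConj x x⁻¹ ∧ (Subgroup.centralizer ({x} : Set G)).index = n}, 2 ∣ n) ∧ ((∀ P : Sylow 2 G, (P : Subgroup G).Normal) ∨ ((∃ π₁ π₂ : Set ℕ, π₁.Nonempty ∧ π₂.Nonempty ∧ Disjoint π₁ π₂ ∧ (∀ q ∈ π₁ ∪ π₂, q.Prime ∧ ∃ n ∈ {n : ℕ | ∃ x : ↥(Subgroup.closure {g : G | ∃ k : ℕ, orderOf g = 2 ^ k}), IsConj x x⁻¹ ∧ (Subgroup.centralizer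 ({x} : Set ↥(Subgroup.closure {g : G | ∃ k : ℕ, orderOf g = 2 ^ k}))).index = n}, q ∣ n) ∧ (∀ q : ℕ, q.Prime → (∃ n ∈ {n : ℕ | ∃ x : ↥(Subgroup.closure {g : G | ∃ k : ℕ, orderOf g = 2 ^ k}), IsConj x x⁻¹ ∧ (Subgroup.centralizer ({x} : Set ↥(Subgroup.closure {g : G | ∃ k : ℕ, orderOf g = 2 ^ k}))).index = n}, q ∣ n) → q ∈ π₁ ∨ q ∈ π₂) ∧ ∀ a ∈ π₁, ∀ b ∈ π₂, ∀ n ∈ {n : ℕ | ∃ x : ↥(Subgroup.closure {g : G | ∃ k : ℕ, orderOf g = 2 ^ k}), IsConj x x⁻¹ ∧ (Subgroup.centralizer ({x} : Set ↥(Subgroup.closure {g : G | ∃ k : ℕ, orderOf g = 2 ^ k}))).index = n}, ¬ (a ∣ n ∧ b ∣ n)) ∧ ∀ n ∈ {n : ℕ | ∃ x : ↥(Subgroup.closure {g : G | ∃ k : ℕ, orderOf g = 2 ^ k}), IsConj x x⁻¹ ∧ (Subgroup.centralizer ({x} : Set ↥(Subgroup.closure {g : G | ∃ k : ℕ, orderOf g = 2 ^ k}))).index = n}, Odd n ∨ ∃ j : ℕ, n = 2 ^ j)) := by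
  classical
  obtain ⟨π₁, π₂, ⟨a, ha⟩, ⟨b, hb⟩, -, hsub, hcover, hnoedge⟩ := h
  have hcov : ∀ x t : G, t * x * t⁻¹ = x⁻¹ → ∀ q : ℕ, q.Prime →
      q ∣ (Subgroup.centralizer ({x} : Set G)).index → q ∈ π₁ ∨ q ∈ π₂ := fun x t ht q hq hqx =>
    hcover q hq ⟨_, ⟨x, isConj_iff.2 ⟨t, ht⟩, rfl⟩, hqx⟩
  have hno : ∀ x t : G, t * x * t⁻¹ = x⁻¹ → ∀ a ∈ π₁, ∀ b ∈ π₂,
      a ∣ (Subgroup.centralizer ({x} : Set G)).index → b ∣ (Subgroup.centralizer ({x} : Set G)).index → False :=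
    fun x t ht a ha b hb hax hbx => hnoedge a ha b hb _ ⟨x, isConj_iff.2 ⟨t, ht⟩, rfl⟩ ⟨hax, hbx⟩
  obtain ⟨hap, _, ⟨xa, hxa, rfl⟩, haxa⟩ := hsub a (Or.inl ha)
  obtain ⟨hbp, _, ⟨xb, hxb, rfl⟩, hbxb⟩ := hsub b (Or.inr hb)
  obtain ⟨ta, hta⟩ := isConj_iff.1 hxa
  obtain ⟨tb, htb⟩ := isConj_iff.1 hxb
  obtain ⟨x, t, hxt, hx2⟩ := Disconnected.exists_even (π₁ := π₁) (π₂ := π₂)
    ⟨hcov, hno, ⟨a, hap, ha, xa, ta, hta, haxa⟩, ⟨b, hbp, hb, xb, tb, htb, hbxb⟩⟩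
  refine ⟨⟨_, ⟨x, isConj_iff.2 ⟨t, hxt⟩, rfl⟩, hx2⟩, ?_⟩
  by_cases hns : ∀ P : Sylow 2 G, (P : Subgroup G).Normal
  · exact Or.inl hns
  refine Or.inr ?_
  obtain ⟨⟨y, u, hyu, hy2⟩, ⟨w, v, r, hr, hr2, hwv, hrw⟩, hall⟩ :=
    (hcov x t hxt 2 Nat.prime_two hx2).elim
      (fun h2 => Split.two_generated_structure (π₁ := π₁) (π₂ := π₂) ⟨h2, hcov, hno⟩ htb hb hbp hbxb hns rfl)
      (fun h2 => Split.two_generated_structure (π₁ := π₂) (π₂ := π₁)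
        ⟨h2, fun x t ht q hq hqx => (hcov x t ht q hq hqx).symm,
          fun x t ht p hp p' hp' hpx hp'x => hno x t ht p' hp' p hp hp'x hpx⟩ hta ha hap haxa hns rfl)
  have hn : ∀ n ∈ {n : ℕ | ∃ x : ↥(Subgroup.closure {g : G | ∃ k : ℕ, orderOf g = 2 ^ k}), IsConj x x⁻¹ ∧
      (Subgroup.centralizer ({x} : Set ↥(Subgroup.closure {g : G | ∃ k : ℕ, orderOf g = 2 ^ k}))).index = n},
      Odd n ∨ ∃ j : ℕ, n = 2 ^ j := by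
    rintro _ ⟨x, hx, rfl⟩
    obtain ⟨t, ht⟩ := isConj_iff.1 hx
    exact hall x t ht
  refine ⟨⟨{2}, {q | q.Prime ∧ q ≠ 2 ∧ ∃ n ∈ {n : ℕ | ∃ x : ↥(Subgroup.closure {g : G | ∃ k : ℕ,
    orderOf g = 2 ^ k}), IsConj x x⁻¹ ∧ (Subgroup.centralizer ({x} : Set ↥(Subgroup.closure {g : G | ∃ k : ℕ,
    orderOf g = 2 ^ k}))).index = n}, q ∣ n}, ⟨2, rfl⟩, ⟨r, hr, hr2, _, ⟨w, isConj_iff.2 ⟨v, hwv⟩, rfl⟩, hrw⟩,
    ?_, ?_, ?_, ?_⟩, hn⟩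
  · rw [Set.disjoint_singleton_left]
    exact fun h => h.2.1 rfl
  · rintro q (hq | ⟨hq, -, hqn⟩)
    · rw [Set.mem_singleton_iff] at hq
      subst hq
      exact ⟨Nat.prime_two, _, ⟨y, isConj_iff.2 ⟨u, hyu⟩, rfl⟩, hy2⟩
    · exact ⟨hq, hqn⟩
  · intro q hq hqn
    by_cases h2 : q = 2
    · exact Or.inl h2
    · exact Or.inr ⟨hq, h2, hqn⟩
  · rintro p hp q ⟨hq, hq2, -⟩ n hnmem ⟨hpn, hqn⟩
    rw [Set.mem_singleton_iff] at hp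
    subst hp
    rcases hn n hnmem with h | ⟨j, rfl⟩
    · exact Nat.two_dvd_ne_zero.2 (Nat.odd_iff.1 h) hpn
    · exact hq2 ((Nat.prime_dvd_prime_iff_eq hq Nat.prime_two).1 (hq.dvd_of_dvd_pow hqn))

end Cfsg.Agent.S4192
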