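import Cfsg.Statements.S4194
import Cfsg.Agent.EqLemmas
import Cfsg.Agent.Lib.TwoCentralElts.Main

set_option autoImplicit false
open Cfsg

namespace Cfsg.Agent.S4194

/-- A finite group G has commutative Sylow 2-subgroups if and only if every 2-element of G (element of order a power of 2) is 2-central, that is, its centralizer contains a Sylow 2-subgroup of G. -/
theorem result {G : Type*} [Group G] [Finite G] (P : Sylow 2 G) :
    IsMulCommutative (P : Subgroup G) ↔ ∀ x : G, (∃ k : ℕ, orderOf x = 2 ^ k) → (∃ Q : Sylow 2 G, (Q : Subgroup G) ≤ Subgroup.centralizer ({x} : Set G)) := by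
  constructor
  · intro hP x hx
    obtain ⟨Q, hQ⟩ := TwoCentralElts.exists_sylow_mem hx
    haveI : Fact (Nat.Prime 2) := ⟨Nat.prime_two⟩
    haveI : IsMulCommutative (P : Subgroup G) := hP
    obtain ⟨e⟩ : Nonempty ((P : Subgroup G) ≃* (Q : Subgroup G)) := ⟨Sylow.equiv P Q⟩
    refine ⟨Q, fun q hq => Subgroup.mem_centralizer_singleton_iff.2 ?_⟩
    obtain ⟨a, ha⟩ := e.surjective ⟨q, hq⟩
    obtain ⟨b, hb⟩ := e.surjective ⟨x, hQ⟩
    have h1 : e a * e b = e b * e a := by rw [← map_mul, ← map_mul, mul_comm']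
    rw [ha, hb] at h1
    exact congrArg Subtype.val h1
  · intro h
    refine TwoCentralElts.isMulCommutative (fun x hx hd => ?_) P
    obtain ⟨Q, hQ⟩ := h x hx
    haveI : Fact (Nat.Prime 2) := ⟨Nat.prime_two⟩
    exact Q.not_dvd_index (hd.trans (Subgroup.index_dvd_of_le hQ))

end Cfsg.Agent.S4194
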