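import Cfsg.Statements.S4195
import Cfsg.Agent.EqLemmas

set_option autoImplicit false
open Cfsg

namespace Cfsg.Agent.S4195

/-- A real element centralised by a Sylow 2-subgroup squares to one. -/
theorem sq_eq_one_of_sylow_le_centralizer {G : Type*} [Group G] [Finite G] (x : G) (P : Sylow 2 G)
    (hP : (P : Subgroup G) ≤ Subgroup.centralizer ({x} : Set G)) (hreal : IsConj x x⁻¹) : x ^ 2 = 1 := by
  by_contra hx2
  obtain ⟨c, hc⟩ := isConj_iff.mp hreal
  have hne : x⁻¹ ≠ x := fun h => hx2 (by rw [pow_two]; nth_rw 1 [← h]; simp)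
  let K : Subgroup G :=
    { carrier := {g | g * x * g⁻¹ = x ∨ g * x * g⁻¹ = x⁻¹}
      one_mem' := by left; simp
      mul_mem' := by
        intro a b ha hb
        have e : a * b * x * (a * b)⁻¹ = a * (b * x * b⁻¹) * a⁻¹ := by group
        have e' : a * x⁻¹ * a⁻¹ = (a * x * a⁻¹)⁻¹ := by group
        simp only [Set.mem_setOf_eq, e]
        rcases ha with ha | ha <;> rcases hb with hb | hb <;> simp [hb, ha, e']
      inv_mem' := by
        intro a ha
        rcases ha with ha | ha
        · left
          conv_lhs => rw [← ha]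
          group
        · right
          have : x = (a * x * a⁻¹)⁻¹ := by rw [ha, inv_inv]
          conv_lhs => rw [this]
          group }
  have hmemC : ∀ g : G, g ∈ Subgroup.centralizer ({x} : Set G) ↔ g * x * g⁻¹ = x := by
    intro g; rw [Subgroup.mem_centralizer_iff, mul_inv_eq_iff_eq_mul]; simp [eq_comm]
  have hle : Subgroup.centralizer ({x} : Set G) ≤ K := fun g hg => Or.inl ((hmemC g).mp hg)
  have h2 : (Subgroup.centralizer ({x} : Set G)).relIndex K = 2 := by
    rw [Subgroup.relIndex_eq_two_iff]
    refine ⟨c, Or.inr hc, fun b hb => ?_⟩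
    have e : b * c * x * (b * c)⁻¹ = (b * x * b⁻¹)⁻¹ := by
      rw [show b * c * x * (b * c)⁻¹ = b * (c * x * c⁻¹) * b⁻¹ by group, hc]; group
    rw [hmemC, hmemC, e, xor_iff_not_iff]
    rcases hb with hb | hb <;> simp [hb, hne]
  have hd : 2 ∣ (P : Subgroup G).index := (h2 ▸ Dvd.intro _ (Subgroup.relIndex_mul_index hle)).trans (Subgroup.index_dvd_of_le hP)
  exact P.not_dvd_index hd

/-- Let x be a non-identity element of a finite group G whose centralizer contains a Sylow 2-subgroup of G. If x is conjugate to its inverse, then x has order 2. -/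
theorem result {G : Type*} [Group G] [Finite G] (x : G) (hx : x ≠ 1) (P : Sylow 2 G) (hP : (P : Subgroup G) ≤ Subgroup.centralizer ({x} : Set G)) (hreal : IsConj x x⁻¹) : orderOf x = 2 := by
  apply orderOf_eq_prime _ hx
  exact sq_eq_one_of_sylow_le_centralizer x P hP hreal

end Cfsg.Agent.S4195
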