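import Cfsg.Statements.S4196
import Cfsg.Agent.EqLemmas
import Cfsg.Agent.S4195

set_option autoImplicit false
open Cfsg
open scoped Pointwise

namespace Cfsg.Agent.S4196

/-- A finite group G has elementary abelian Sylow 2-subgroups (commutative with every element squaring to the identity) if and only if every 2-element of G has a Sylow 2-subgroup in its centralizer and is conjugate to its inverse. -/
theorem result {G : Type*} [Group G] [Finite G] (P : Sylow 2 G) :
    (IsMulCommutative (P : Subgroup G) ∧ ∀ x ∈ (P : Subgroup G), x ^ 2 = 1) ↔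
      ∀ x : G, (∃ k : ℕ, orderOf x = 2 ^ k) → (∃ Q : Sylow 2 G, (Q : Subgroup G) ≤ Subgroup.centralizer ({x} : Set G)) ∧ IsConj x x⁻¹ := by
  constructor
  · rintro ⟨hc, h2⟩ x ⟨k, hk⟩
    have hZ : IsPGroup 2 (Subgroup.zpowers x) := IsPGroup.of_card (n := k) (by rw [Nat.card_zpowers, hk])
    obtain ⟨Q, hQ⟩ := hZ.exists_le_sylow
    obtain ⟨g, hg⟩ := MulAction.exists_smul_eq G P Q
    have hmem : ∀ y ∈ (Q : Subgroup G), g⁻¹ * y * g ∈ (P : Subgroup G) := by
      intro y hy
      rw [← hg, Sylow.coe_subgroup_smul, Subgroup.mem_pointwise_smul_iff_inv_smul_mem] at hy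
      simpa [MulAut.smul_def, MulAut.conj_symm_apply] using hy
    have hxQ : x ∈ (Q : Subgroup G) := hQ (Subgroup.mem_zpowers x)
    refine ⟨⟨Q, ?_⟩, ?_⟩
    · intro y hy
      rw [Subgroup.mem_centralizer_iff]
      intro z hz
      rw [Set.mem_singleton_iff] at hz
      subst hz
      have h := setLike_mul_comm (hmem z hxQ) (hmem y hy)
      simpa [mul_assoc] using congrArg (fun w => g * w * g⁻¹) h
    · have h := h2 _ (hmem x hxQ)
      have hxx : x * x = 1 := by
        simpa [pow_two, mul_assoc] using congrArg (fun w => g * w * g⁻¹) h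
      rw [← eq_inv_iff_mul_eq_one] at hxx
      rw [← hxx]
  · intro h
    have h2 : ∀ x ∈ (P : Subgroup G), x ^ 2 = 1 := by
      intro x hx
      obtain ⟨k, hk⟩ := P.isPGroup' ⟨x, hx⟩
      obtain ⟨j, _, hj⟩ := (Nat.dvd_prime_pow Nat.prime_two).mp (orderOf_dvd_of_pow_eq_one (congrArg Subtype.val hk : x ^ 2 ^ k = 1))
      obtain ⟨⟨Q, hQ⟩, hr⟩ := h x ⟨j, hj⟩
      exact Cfsg.Agent.S4195.sq_eq_one_of_sylow_le_centralizer x Q hQ hr
    refine ⟨⟨⟨fun a b => ?_⟩⟩, h2⟩
    have ha : a * a = 1 := Subtype.ext (by simpa [pow_two] using h2 _ a.2)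
    have hb : b * b = 1 := Subtype.ext (by simpa [pow_two] using h2 _ b.2)
    have hab : a * b * (a * b) = 1 := Subtype.ext (by simpa [pow_two] using h2 _ (a * b).2)
    rw [← eq_inv_iff_mul_eq_one] at ha hb hab
    rw [hab, mul_inv_rev, ← ha, ← hb]

end Cfsg.Agent.S4196
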