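import Cfsg.Statements.S4203
import Cfsg.Agent.Lib.Solvable.Basic

set_option autoImplicit false
open Cfsg

namespace Cfsg.Agent.S4203

open scoped commutatorElement

theorem comm_sq_perm_four : ∀ a b : Equiv.Perm (Fin 4), Equiv.Perm.sign a = 1 → Equiv.Perm.sign b = 1 →
    (a * b * a⁻¹ * b⁻¹) * (a * b * a⁻¹ * b⁻¹) = 1 := by decide +kernel

theorem klein_comm : ∀ a b : Equiv.Perm (Fin 4), Equiv.Perm.sign a = 1 → Equiv.Perm.sign b = 1 →
    a * a = 1 → b * b = 1 → a * b = b * a := by decide +kernel

/-- A perfect group has no nontrivial map to the symmetric group on four letters. -/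
theorem hom_perm_four_eq_one {N : Type*} [Group N] (hN : commutator N = ⊤) (f : N →* Equiv.Perm (Fin 4))
    (x : N) : f x = 1 := by
  have hsgn : ∀ y, Equiv.Perm.sign (f y) = 1 := by
    intro y
    have hy : y ∈ (Equiv.Perm.sign.comp f).ker := Abelianization.commutator_subset_ker _ (hN ▸ Subgroup.mem_top y)
    exact hy
  let W : Subgroup (Equiv.Perm (Fin 4)) :=
    { carrier := {a | Equiv.Perm.sign a = 1 ∧ a * a = 1}
      one_mem' := by simp
      mul_mem' := fun {a b} ha hb => ⟨by rw [map_mul, ha.1, hb.1, one_mul], by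
        rw [mul_assoc, ← mul_assoc b a b, ← klein_comm a b ha.1 hb.1 ha.2 hb.2, mul_assoc a b b, hb.2, mul_one, ha.2]⟩
      inv_mem' := fun {a} ha => ⟨by rw [map_inv, ha.1, inv_one], by rw [← mul_inv_rev, ha.2, inv_one]⟩ }
  have hW : ∀ y, f y ∈ W := by
    intro y
    have hle : commutator N ≤ W.comap f := by
      rw [commutator_def, Subgroup.commutator_le]
      intro a _ b _
      rw [Subgroup.mem_comap, commutatorElement_def, map_mul, map_mul, map_mul, map_inv, map_inv]
      exact ⟨by simp [hsgn], comm_sq_perm_four _ _ (hsgn a) (hsgn b)⟩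
    exact hle (hN ▸ Subgroup.mem_top y)
  have hle : commutator N ≤ f.ker := by
    rw [commutator_def, Subgroup.commutator_le]
    intro a _ b _
    rw [MonoidHom.mem_ker, map_commutatorElement, commutatorElement_eq_one_iff_mul_comm]
    exact klein_comm _ _ (hW a).1 (hW b).1 (hW a).2 (hW b).2
  exact hle (hN ▸ Subgroup.mem_top x)

/-- A finite group in which every maximal subgroup has index a prime or the square of a prime is solvable. -/
theorem result {G : Type*} [Group G] [Finite G] (h : ∀ M : Subgroup G, IsCoatom M → ∃ p : ℕ, p.Prime ∧ (M.index = p ∨ M.index = p ^ 2)) : Group.IsSolvable G := by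
  suffices ∀ n, ∀ (X : Type _) [Group X] [Finite X], Nat.card X = n →
      (∀ M : Subgroup X, IsCoatom M → ∃ p : ℕ, p.Prime ∧ (M.index = p ∨ M.index = p ^ 2)) → Group.IsSolvable X from
    this _ G rfl h
  intro n
  induction n using Nat.strong_induction_on with
  | _ n ih =>
  intro X _ _ hn hX
  rcases subsingleton_or_nontrivial X with hs | hs
  · infer_instance
  obtain ⟨N, hNn, hN0, -, hmin⟩ := Solvable.exists_minimal_normal (N := (⊤ : Subgroup X)) top_ne_bot
  haveI := hNn
  have hq : Group.IsSolvable (X ⧸ N) := by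
    refine ih _ ?_ _ rfl ?_
    · rw [← hn, ← Subgroup.index_eq_card, ← N.card_mul_index]
      exact lt_mul_left (Nat.pos_of_ne_zero Subgroup.index_ne_zero_of_finite) (Subgroup.one_lt_card_iff_ne_bot N |>.mpr hN0)
    · intro M hM
      obtain ⟨p, hp, hpM⟩ := hX (M.comap (QuotientGroup.mk' N)) (Subgroup.isCoatom_comap_of_surjective
        (QuotientGroup.mk'_surjective N) hM)
      rw [Subgroup.index_comap_of_surjective _ (QuotientGroup.mk'_surjective N)] at hpM
      exact ⟨p, hp, hpM⟩
  suffices hNs : Group.IsSolvable N from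
    Group.isSolvable_of_ker_le_range (f := N.subtype) (g := QuotientGroup.mk' N) (by simp)
  by_contra hns
  have hcard : Nat.card N ≠ 1 := fun h1 => hN0 (Subgroup.card_eq_one.mp h1)
  obtain ⟨p, hp, hpN, hmax⟩ : ∃ p, p.Prime ∧ p ∣ Nat.card N ∧ ∀ q, q.Prime → q ∣ Nat.card N → q ≤ p := by
    have hne := Nat.nonempty_primeFactors.mpr (show 1 < Nat.card N from Finite.one_lt_card_iff_nontrivial.mpr
      ((Subgroup.nontrivial_iff_ne_bot N).mpr hN0))
    refine ⟨(Nat.card N).primeFactors.max' hne, ?_, ?_, fun q hq hqN => Finset.le_max' _ _ ?_⟩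
    · exact Nat.prime_of_mem_primeFactors (Finset.max'_mem _ hne)
    · exact Nat.dvd_of_mem_primeFactors (Finset.max'_mem _ hne)
    · exact Nat.mem_primeFactors.mpr ⟨hq, hqN, Nat.card_pos.ne'⟩
  haveI := Fact.mk hp
  obtain ⟨P⟩ : Nonempty (Sylow p N) := inferInstance
  set P' : Subgroup X := (P : Subgroup N).map N.subtype with hP'
  have hP'N : P' ≤ N := Subgroup.map_subtype_le _
  have hfr : Subgroup.normalizer (P' : Set X) ⊔ N = ⊤ := Sylow.normalizer_sup_eq_top P
  rcases eq_top_or_exists_le_coatom (Subgroup.normalizer (P' : Set X)) with htop | ⟨M, hM, hle⟩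
  · apply hns
    haveI : P'.Normal := Subgroup.normalizer_eq_top_iff.mp htop
    have hP'ne : P' ≠ ⊥ := by
      rw [hP', Ne, Subgroup.map_eq_bot_iff_of_injective _ N.subtype_injective]
      exact P.ne_bot_of_dvd_card hpN
    have heq : P' = N := (hmin P' inferInstance hP'N).resolve_left hP'ne
    have hpg : IsPGroup p N := heq ▸ P.isPGroup'.map _
    haveI : Group.IsNilpotent N := hpg.isNilpotent
    infer_instance
  · obtain ⟨q, hq, hqM⟩ := hX M hM
    have hsup : M ⊔ N = ⊤ := top_le_iff.mp (hfr ▸ sup_le_sup_right hle N)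
    set M' : Subgroup N := M.subgroupOf N with hM'
    have hidx : M'.index = M.index := by
      show M.relIndex N = M.index
      rw [← Subgroup.relIndex_top_right M, ← hsup]
      have h1 : N.relIndex M = N.index := by
        rw [← Subgroup.relIndex_sup_right M N, hsup, Subgroup.relIndex_top_right]
      have eN : (M ⊓ N).relIndex N * N.index = (M ⊓ N).index := Subgroup.relIndex_mul_index inf_le_right
      have eM : (M ⊓ N).relIndex M * M.index = (M ⊓ N).index := Subgroup.relIndex_mul_index inf_le_left
      rw [Subgroup.inf_relIndex_right] at eN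
      rw [Subgroup.inf_relIndex_left, h1] at eM
      rw [hsup, Subgroup.relIndex_top_right]
      exact mul_right_cancel₀ Subgroup.index_ne_zero_of_finite (eN.trans (eM.symm.trans (mul_comm _ _)))
    have hnorm : Subgroup.normalizer ((P : Subgroup N) : Set N) ≤ M' := by
      intro x hx
      rw [hM', Subgroup.mem_subgroupOf]
      apply hle
      have := Subgroup.le_normalizer_map N.subtype (Subgroup.mem_map_of_mem N.subtype hx)
      exact this
    have hmod : M'.index ≡ 1 [MOD p] := by
      have h1 : Nat.card (Sylow p N) ≡ 1 [MOD p] := card_sylow_modEq_one p N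
      have hPM : (P : Subgroup N) ≤ M' := Subgroup.le_normalizer.trans hnorm
      have h2 : Nat.card (Sylow p M') ≡ 1 [MOD p] := card_sylow_modEq_one p M'
      have e1 : Nat.card (Sylow p N) = Nat.card (Sylow p M') * M'.index := by
        rw [P.card_eq_index_normalizer, (P.subtype hPM).card_eq_index_normalizer]
        show (Subgroup.normalizer ((P : Subgroup N) : Set N)).index =
          (Subgroup.normalizer (((P.subtype hPM : Sylow p M') : Subgroup M') : Set M')).index * M'.index
        rw [show ((P.subtype hPM : Sylow p M') : Subgroup M') = (P : Subgroup N).subgroupOf M' from Sylow.coe_subtype _ hPM,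
          ← Subgroup.subgroupOf_normalizer_eq hPM]
        exact (Subgroup.relIndex_mul_index hnorm).symm
      rw [e1] at h1
      have h3 : Nat.card (Sylow p M') * M'.index ≡ 1 * M'.index [MOD p] := h2.mul_right _
      rw [one_mul] at h3
      exact h3.symm.trans h1
    have hne : M'.index ≠ 1 := by
      rw [hidx]
      exact fun h1 => hM.1 (Subgroup.index_eq_one.mp h1)
    have hqN : q ∣ Nat.card N := by
      refine dvd_trans ?_ M'.index_dvd_card
      rcases hqM with h1 | h1 <;> rw [hidx, h1]
      exact dvd_pow_self q two_ne_zero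
    have hqp : q ≤ p := hmax q hq hqN
    have hqne : q ≠ p := by
      rintro rfl
      have h0 : M'.index ≡ 0 [MOD q] := by
        refine Nat.modEq_zero_iff_dvd.mpr ?_
        rcases hqM with h1 | h1 <;> rw [hidx, h1]
        exact dvd_pow_self q two_ne_zero
      have := Nat.modEq_zero_iff_dvd.mp (hmod.symm.trans h0)
      exact hq.one_lt.ne' (Nat.dvd_one.mp this)
    have hd : p ∣ M'.index - 1 := (Nat.modEq_iff_dvd' (Nat.pos_of_ne_zero Subgroup.index_ne_zero_of_finite)).mp hmod.symm
    have h4 : M'.index = 4 := by
      have hq2 := hq.two_le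
      rcases hqM with h1 | h1
      · rw [hidx, h1] at hd
        have := Nat.le_of_dvd (by omega) hd
        omega
      · have hd' : p ∣ (q - 1) * (q + 1) := by
          rwa [hidx, h1, show q ^ 2 - 1 = (q - 1) * (q + 1) by
            rw [Nat.sub_mul, one_mul, mul_add, mul_one, ← pow_two]; omega] at hd
        rcases (Nat.Prime.dvd_mul hp).mp hd' with hd'' | hd''
        · have := Nat.le_of_dvd (by omega) hd''
          omega
        · have h5 := Nat.le_of_dvd (by omega) hd''
          have h6 : p = q + 1 := by omega
          have h7 : q = 2 := by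
            rcases hq.eq_two_or_odd with h8 | h8
            · exact h8
            · rcases hp.eq_two_or_odd with h9 | h9 <;> omega
          rw [hidx, h1, h7]
          norm_num
    have hperf : commutator N = ⊤ := by
      have hh := hmin ⁅N, N⁆ inferInstance (Subgroup.commutator_le_self N)
      rcases hh with hh | hh
      · exfalso
        apply hns
        haveI : IsMulCommutative N := Subgroup.commutator_self_eq_bot_iff.mp hh
        exact Group.isSolvable_of_comm (fun a b => mul_comm' a b)
      · apply Subgroup.map_injective N.subtype_injective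
        rw [Subgroup.map_subtype_commutator, hh, ← MonoidHom.range_eq_map, Subgroup.range_subtype]
    obtain ⟨e⟩ : Nonempty ((N ⧸ M') ≃ Fin 4) := ⟨Nat.equivFinOfCardPos (by rw [← Subgroup.index_eq_card, h4]; norm_num) |>.trans (finCongr (by rw [← Subgroup.index_eq_card, h4]))⟩
    have htriv := hom_perm_four_eq_one hperf ((e.permCongrHom.toMonoidHom).comp (MulAction.toPermHom N (N ⧸ M')))
    apply hne
    rw [Subgroup.index_eq_one, eq_top_iff]
    intro x _
    have h1 : MulAction.toPermHom N (N ⧸ M') x = 1 := e.permCongrHom.injective (by rw [map_one]; exact htriv x)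
    have h2 : (x • ((1 : N) : N ⧸ M')) = ((1 : N) : N ⧸ M') := Equiv.Perm.ext_iff.mp h1 ((1 : N) : N ⧸ M')
    simpa [MulAction.Quotient.smul_mk, QuotientGroup.eq] using h2

end Cfsg.Agent.S4203
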