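import Cfsg.Statements.S4204
import Cfsg.Agent.EqLemmas

set_option autoImplicit false
open Cfsg

namespace Cfsg.Agent.S4204

open scoped commutatorElement

/-- A commutator with a join of subgroups, modulo a normal subgroup, is controlled by the parts. -/
theorem commutator_sup_le {G : Type*} [Group G] {ι : Sort*} (T : ι → Subgroup G) {A B N : Subgroup G} [N.Normal]
    (hA : ∀ i, ⁅T i, A⁆ ≤ N) (hB : ∀ i, ⁅T i, B⁆ ≤ N) : ⁅⨆ i, T i, A ⊔ B⁆ ≤ N := by
  have key : ∀ U V : Subgroup G, ⁅U, V⁆ ≤ N ↔
      U.map (QuotientGroup.mk' N) ≤ Subgroup.centralizer (V.map (QuotientGroup.mk' N) : Set (G ⧸ N)) := by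
    intro U V
    rw [← Subgroup.commutator_eq_bot_iff_le_centralizer, ← Subgroup.map_commutator, Subgroup.map_eq_bot_iff,
      QuotientGroup.ker_mk']
  rw [key, Subgroup.map_iSup, iSup_le_iff]
  intro i
  rw [Subgroup.le_centralizer_iff, Subgroup.map_sup, sup_le_iff]
  exact ⟨Subgroup.le_centralizer_iff.mp ((key _ _).mp (hA i)), Subgroup.le_centralizer_iff.mp ((key _ _).mp (hB i))⟩

/-- `⊤` followed by the lower central series of `H`. -/
def shifted {G : Type*} [Group G] (H : Subgroup G) : ℕ → Subgroup G
  | 0 => ⊤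
  | i + 1 => H.lowerCentralSeries i

theorem shifted_normal {G : Type*} [Group G] (H : Subgroup G) [H.Normal] : ∀ i, (shifted H i).Normal
  | 0 => show (⊤ : Subgroup G).Normal from inferInstance
  | 1 => show (H.lowerCentralSeries 0).Normal by rw [Subgroup.lowerCentralSeries_zero]; infer_instance
  | i + 2 => by
    have := shifted_normal H (i + 1)
    show (H.lowerCentralSeries (i + 1)).Normal
    rw [Subgroup.lowerCentralSeries_succ]
    haveI : (H.lowerCentralSeries i).Normal := this
    exact Subgroup.commutator_normal _ _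

theorem commutator_shifted_le {G : Type*} [Group G] (H : Subgroup G) [H.Normal] : ∀ i, ⁅shifted H i, H⁆ ≤ shifted H (i + 1)
  | 0 => by
    show ⁅(⊤ : Subgroup G), H⁆ ≤ H.lowerCentralSeries 0
    rw [Subgroup.lowerCentralSeries_zero]
    exact Subgroup.commutator_le_right _ _
  | _ + 1 => le_rfl

/-- If `H` and `K` are normal subgroups of a finite group with `H` nilpotent of class at most `c` and `K` nilpotent of class at most `d` (the terms with index `c`, respectively `d`, of their lower central series are trivial, indices starting at `0`), then `HK` is nilpotent of class at most `c + d`. -/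
theorem result {G : Type*} [Group G] [Finite G] (H K : Subgroup G) [H.Normal] [K.Normal] (c d : ℕ) (hH : H.lowerCentralSeries c = ⊥) (hK : K.lowerCentralSeries d = ⊥) : (H ⊔ K).lowerCentralSeries (c + d) = ⊥ := by
  let T : ℕ → ℕ → Subgroup G := fun i j => shifted H i ⊓ shifted K j
  let A : ℕ → Subgroup G := fun n => ⨆ i : Fin (n + 1), T i (n - i)
  haveI hnH := shifted_normal H
  haveI hnK := shifted_normal K
  have hAn : ∀ n, (A n).Normal := fun n => by
    haveI : ∀ i : Fin (n + 1), (T i (n - i)).Normal := fun i => Subgroup.normal_inf_normal _ _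
    exact Subgroup.iSup_normal (fun i : Fin (n + 1) => T i (n - i))
  have step : ∀ n, ⁅A n, H ⊔ K⁆ ≤ A (n + 1) := by
    intro n
    haveI := hAn (n + 1)
    refine commutator_sup_le _ (fun i => ?_) (fun i => ?_)
    · refine le_trans (le_inf ((Subgroup.commutator_mono inf_le_left le_rfl).trans (commutator_shifted_le H i))
        ((Subgroup.commutator_mono inf_le_right le_rfl).trans (Subgroup.commutator_le_left _ _))) ?_
      refine le_iSup_of_le (⟨i + 1, by omega⟩ : Fin (n + 1 + 1)) ?_
      simp only [T]
      rw [show n + 1 - ((i : ℕ) + 1) = n - i by omega]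
    · refine le_trans (le_inf ((Subgroup.commutator_mono inf_le_left le_rfl).trans (Subgroup.commutator_le_left _ _))
        ((Subgroup.commutator_mono inf_le_right le_rfl).trans (commutator_shifted_le K _))) ?_
      refine le_iSup_of_le (⟨i, by omega⟩ : Fin (n + 1 + 1)) ?_
      simp only [T]
      rw [show n + 1 - (i : ℕ) = n - i + 1 by omega]
  have main : ∀ n, (H ⊔ K).lowerCentralSeries n ≤ A (n + 1) := by
    intro n
    induction n with
    | zero =>
      rw [Subgroup.lowerCentralSeries_zero]
      refine sup_le (le_iSup_of_le (1 : Fin 2) ?_) (le_iSup_of_le (0 : Fin 2) ?_)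
      · simp [T, shifted]
      · simp [T, shifted]
    | succ n ih =>
      rw [Subgroup.lowerCentralSeries_succ]
      exact (Subgroup.commutator_mono ih le_rfl).trans (step (n + 1))
  rw [eq_bot_iff]
  refine (main (c + d)).trans (iSup_le fun i => ?_)
  by_cases hi : c < (i : ℕ)
  · obtain ⟨j, hj⟩ : ∃ j, (i : ℕ) = j + 1 := ⟨(i : ℕ) - 1, by omega⟩
    refine inf_le_left.trans ?_
    rw [hj, ← hH]
    exact Subgroup.lowerCentralSeries_antitone _ (by omega)
  · obtain ⟨j, hj⟩ : ∃ j, c + d + 1 - (i : ℕ) = j + 1 := ⟨c + d - (i : ℕ), by omega⟩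
    refine inf_le_right.trans ?_
    rw [hj, ← hK]
    exact Subgroup.lowerCentralSeries_antitone _ (by omega)

end Cfsg.Agent.S4204
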