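import Cfsg.Statements.S4208
import Cfsg.Agent.Lib.BurnsideBasis.Basic

set_option autoImplicit false
open Cfsg Cfsg.Agent.BurnsideBasis

namespace Cfsg.Agent.S4208

/-- Let `P` be a group of order `p^n` whose Frattini subgroup has index `p^r`. Then the order of the automorphism group of `P` divides `p^(r(n-r)) · (p^r - 1)(p^r - p) ⋯ (p^r - p^(r-1))`. -/
theorem result {P : Type*} [Group P] [Finite P] {p n r : ℕ} [Fact p.Prime] (hP : Nat.card P = p ^ n) (hr : (frattini P).index = p ^ r) : Nat.card (MulAut P) ∣ p ^ (r * (n - r)) * ∏ i ∈ Finset.range r, (p ^ r - p ^ i) := by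
  rw [← card_generating hP hr, ← Subgroup.card_top (G := MulAut P)]
  refine card_dvd_card_invariant_generating ⊤ {f : Fin r → P | Subgroup.closure (Set.range f) = ⊤} (fun f hf => hf) ?_
  intro α _ f hf
  show Subgroup.closure (Set.range fun i => α (f i)) = ⊤
  rw [show (Set.range fun i => α (f i)) = α.toMonoidHom '' Set.range f by rw [← Set.range_comp]; rfl,
    ← MonoidHom.map_closure, show Subgroup.closure (Set.range f) = ⊤ from hf]
  exact Subgroup.map_top_of_surjective _ α.surjective

end Cfsg.Agent.S4208
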