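import Cfsg.Statements.S4209
import Cfsg.Agent.Lib.PGroup.Regular
import Cfsg.Agent.Lib.PGroup.PolySeq

set_option autoImplicit false
open Cfsg Subgroup

namespace Cfsg.Agent.S4209

theorem lcs_map_le {A B : Type*} [Group A] [Group B] (f : A →* B) (H : Subgroup A) : ∀ n,
    (H.lowerCentralSeries n).map f ≤ (⊤ : Subgroup B).lowerCentralSeries n := by
  intro n
  induction n with
  | zero => exact le_top
  | succ n ih =>
    rw [Subgroup.lowerCentralSeries_succ, Subgroup.lowerCentralSeries_succ, map_commutator]
    exact commutator_mono ih le_top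

theorem lcs_le_map {A B : Type*} [Group A] [Group B] (f : A →* B) (hf : Function.Surjective f) : ∀ n,
    (⊤ : Subgroup B).lowerCentralSeries n ≤ ((⊤ : Subgroup A).lowerCentralSeries n).map f := by
  intro n
  induction n with
  | zero => exact (map_top_of_surjective f hf).ge
  | succ n ih =>
    rw [Subgroup.lowerCentralSeries_succ, Subgroup.lowerCentralSeries_succ, map_commutator,
      map_top_of_surjective f hf]
    exact commutator_mono ih le_rfl

/-- If the derived subgroup has exponent `p` and the class is less than `p`, the `p`-th power is a homomorphism. -/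
theorem mul_pow_prime {Q : Type*} [Group Q] {p : ℕ} (hp : p.Prime)
    (hcl : (⊤ : Subgroup Q).lowerCentralSeries (p - 1) = ⊥) (hexp : ∀ d ∈ _root_.commutator Q, d ^ p = 1)
    (a b : Q) : (a * b) ^ p = a ^ p * b ^ p := by
  have hF := PolySeq.isFiltration_lowerCentralSeries (G := Q)
  have hmem : ∀ g : Q, g ∈ PolySeq.lcsFil Q 1 := fun g => mem_top g
  have hfA : ∀ n, (a * b) ^ n * (b⁻¹) ^ n * (a⁻¹) ^ n ∈ _root_.commutator Q := by
    intro n
    rw [← Abelianization.ker_of Q, MonoidHom.mem_ker]
    simp only [map_mul, map_pow, map_inv, inv_pow, mul_pow]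
    group
  have key := PolySeq.IsPoly.apply_prime_eq_one hF hp (by simpa [PolySeq.lcsFil] using hcl) (_root_.commutator Q) hexp
    (((PolySeq.isPoly_pow hF (hmem (a * b))).mul hF (PolySeq.isPoly_pow hF (hmem b⁻¹))).mul hF
      (PolySeq.isPoly_pow hF (hmem a⁻¹))) hfA (by simp)
  rw [inv_pow, inv_pow, mul_inv_eq_one, mul_inv_eq_iff_eq_mul] at key
  exact key

/-- A finite `p`-group of nilpotency class less than `p` (the term of index `p - 1` of the lower central series of the whole group, indexed from `0`, is trivial) is a regular `p`-group. -/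
theorem result {G : Type*} [Group G] [Finite G] {p : ℕ} [Fact p.Prime] (hG : IsPGroup p G) (hcl : (⊤ : Subgroup G).lowerCentralSeries (p - 1) = ⊥) : Cfsg.IsRegularPGroup p G := by
  refine PGroup.regular_of_powerLaw_one hG fun a b => ?_
  set H := closure ({a, b} : Set G)
  have ha : a ∈ H := subset_closure (by simp)
  have hb : b ∈ H := subset_closure (by simp)
  set N := Cfsg.powerClosure p 1 (_root_.commutator H) with hN
  haveI : N.Normal := ⟨fun d hd g => by
    have hmap : (_root_.commutator H).map (MulAut.conj g).toMonoidHom = _root_.commutator H := by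
      rw [_root_.commutator_def, map_commutator, map_top_of_surjective _ (MulAut.conj g).surjective]
    have h1 : (MulAut.conj g).toMonoidHom d ∈ N.map (MulAut.conj g).toMonoidHom := mem_map_of_mem _ hd
    rw [PGroup.map_powerClosure, hmap] at h1
    exact h1⟩
  have hclQ : (⊤ : Subgroup (H ⧸ N)).lowerCentralSeries (p - 1) = ⊥ := by
    refine le_bot_iff.mp ((lcs_le_map _ (QuotientGroup.mk'_surjective N) _).trans (le_of_eq ?_))
    have h : (⊤ : Subgroup H).lowerCentralSeries (p - 1) = ⊥ := by
      rw [← map_eq_bot_iff_of_injective _ H.subtype_injective, ← le_bot_iff, ← hcl]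
      exact lcs_map_le H.subtype ⊤ _
    rw [h, Subgroup.map_bot]
  have hq := mul_pow_prime Fact.out hclQ (fun d hd => by
    rw [_root_.commutator_def (H ⧸ N),
      ← map_top_of_surjective (QuotientGroup.mk' N) (QuotientGroup.mk'_surjective N), ← map_commutator] at hd
    obtain ⟨d, hd, rfl⟩ := hd
    rw [← map_pow, QuotientGroup.mk'_apply, QuotientGroup.eq_one_iff]
    simpa [hN, _root_.commutator_def] using PGroup.pow_mem_powerClosure (p := p) 1 hd)
    (QuotientGroup.mk' N ⟨a, ha⟩) (QuotientGroup.mk' N ⟨b, hb⟩)
  rw [← map_mul, ← map_pow, ← map_pow, ← map_pow, ← map_mul, QuotientGroup.mk'_apply,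
    QuotientGroup.mk'_apply, eq_comm, QuotientGroup.eq] at hq
  refine ⟨(a ^ p * b ^ p)⁻¹ * (a * b) ^ p, ?_, by rw [pow_one]; group⟩
  have hmem := mem_map_of_mem H.subtype hq
  rw [hN, PGroup.map_powerClosure, map_subtype_commutator] at hmem
  simpa using hmem

end Cfsg.Agent.S4209
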