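import Cfsg.Statements.S4211
import Cfsg.Agent.Lib.Hamiltonian.Basic

set_option autoImplicit false
open Cfsg

namespace Cfsg.Agent.S4211

open scoped commutatorElement

variable {G : Type*} [Group G] [Finite G]

theorem eq_top_of_primary (K : Subgroup G)
    (h : ∀ (r : ℕ), r.Prime → ∀ g : G, (∃ k, orderOf g = r ^ k) → g ∈ K) : K = ⊤ := by
  rw [← Subgroup.index_eq_one]
  by_contra hne
  obtain ⟨r, hr, hd⟩ := Nat.exists_prime_and_dvd hne
  haveI := Fact.mk hr
  obtain ⟨P⟩ := (inferInstance : Nonempty (Sylow r G))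
  refine P.not_dvd_index (hd.trans (Subgroup.index_dvd_of_le fun g hg => h r hr g ?_))
  obtain ⟨k, hk⟩ := IsPGroup.iff_orderOf.mp P.isPGroup' ⟨g, hg⟩
  exact ⟨k, by rwa [Subgroup.orderOf_mk] at hk⟩

/-- Noncommuting primary elements are `2`-elements. -/
theorem commute_primary (hH : ∀ H : Subgroup G, H.Normal) {r r' : ℕ} (hr : r.Prime) (hr' : r'.Prime)
    {g g' : G} (hg : ∃ k, orderOf g = r ^ k) (hg' : ∃ k, orderOf g' = r' ^ k) (h2 : r ≠ 2) : Commute g g' := by
  haveI := Fact.mk hr
  by_contra hc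
  by_cases he : r = r'
  · subst he
    exact h2 (Hamiltonian.q8_of_not_commute hH hg hg' hc).1
  · refine hc (commutatorElement_eq_one_iff_mul_comm.mp ?_)
    obtain ⟨k, hk⟩ := hg
    obtain ⟨k', hk'⟩ := hg'
    have h1 : Subgroup.zpowers g ⊓ Subgroup.zpowers g' = ⊥ := disjoint_iff.mp <| Subgroup.disjoint_of_coprime_natCard (by
      rw [Nat.card_zpowers, Nat.card_zpowers, hk, hk']
      exact ((Nat.coprime_primes hr hr').mpr he).pow k k')
    exact Subgroup.mem_bot.mp (h1 ▸ ⟨Hamiltonian.comm_mem_left hH g g', Hamiltonian.comm_mem_right hH g g'⟩)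

theorem odd_primary_central (hH : ∀ H : Subgroup G, H.Normal) {r : ℕ} (hr : r.Prime) (h2 : r ≠ 2)
    {g : G} (hg : ∃ k, orderOf g = r ^ k) : g ∈ Subgroup.center G := by
  have h := eq_top_of_primary (Subgroup.centralizer ({g} : Set G)) fun r' hr' g' hg' =>
    Subgroup.mem_centralizer_singleton_iff.mpr (commute_primary hH hr hr' hg hg' h2).eq.symm
  exact Subgroup.mem_center_iff.mpr fun g' =>
    Subgroup.mem_centralizer_singleton_iff.mp (h ▸ Subgroup.mem_top g')

theorem odd_central (hH : ∀ H : Subgroup G, H.Normal) {g : G} (hg : Odd (orderOf g)) :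
    g ∈ Subgroup.center G := by
  haveI := Fact.mk Nat.prime_two
  obtain ⟨k, hk⟩ : ∃ k, (Subgroup.center G).index = 2 ^ k := by
    refine ⟨(Subgroup.center G).index.primeFactorsList.length,
      Nat.eq_prime_pow_of_unique_prime_dvd Subgroup.index_ne_zero_of_finite fun {r} hr hd => ?_⟩
    by_contra h2
    haveI := Fact.mk hr
    obtain ⟨P⟩ := (inferInstance : Nonempty (Sylow r G))
    refine P.not_dvd_index (hd.trans (Subgroup.index_dvd_of_le fun y hy => odd_primary_central hH hr h2 ?_))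
    obtain ⟨k, hk⟩ := IsPGroup.iff_orderOf.mp P.isPGroup' ⟨y, hy⟩
    exact ⟨k, by rwa [Subgroup.orderOf_mk] at hk⟩
  have h1 := (Subgroup.center G).pow_index_mem g
  rw [hk] at h1
  obtain ⟨m, hm⟩ := exists_pow_eq_self_of_coprime
    (show (2 ^ k).Coprime (orderOf g) from (Nat.coprime_two_left.mpr hg).pow_left k)
  rw [← hm]
  exact Subgroup.pow_mem _ h1 m

omit [Finite G] in
theorem involution_central (hH : ∀ H : Subgroup G, H.Normal) {w : G} (hw : w * w = 1) :
    w ∈ Subgroup.center G := by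
  refine Subgroup.mem_center_iff.mpr fun g => ?_
  obtain ⟨k, hk⟩ := Subgroup.mem_zpowers_iff.mp (Hamiltonian.conj_mem_zpowers hH g w)
  rcases Int.even_or_odd k with ⟨m, rfl⟩ | ⟨m, rfl⟩
  · rw [← two_mul, zpow_mul, zpow_two, hw, one_zpow] at hk
    have : w = 1 := by simpa using hk.symm
    simp [this]
  · rw [zpow_add, zpow_mul, zpow_two, hw, one_zpow, one_mul, zpow_one] at hk
    exact (mul_inv_eq_iff_eq_mul.mp hk.symm)

section quaternion

variable {x y : G} (hx : orderOf x = 4) (hy : y * y = x * x) (hyx : y * x * y⁻¹ = x⁻¹)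

include hx hy hyx

omit [Finite G] in
theorem exists_hom : ∃ f : QuaternionGroup 2 →* G,
    Function.Injective f ∧ f (QuaternionGroup.a 1) = x ∧ f (QuaternionGroup.xa 0) = y := by
  have h4 : x ^ 4 = 1 := hx ▸ pow_orderOf_eq_one x
  let X : ZMod (2 * 2) → G := fun i => x ^ i.val
  have hX : ∀ i j, X (i + j) = X i * X j := fun i j => by
    show x ^ (i + j).val = x ^ i.val * x ^ j.val
    rw [← pow_add, ZMod.val_add]
    have h := pow_mod_orderOf x (i.val + j.val)
    rwa [hx] at h
  have hX0 : X 0 = 1 := by simp [X]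
  have hXn : ∀ i, (X i)⁻¹ = X (-i) := fun i => inv_eq_of_mul_eq_one_right (by rw [← hX, add_neg_cancel, hX0])
  have hswap : ∀ i, X i * y = y * X (-i) := fun i => by
    have h1 : y * (X i)⁻¹ * y⁻¹ = X i := by
      show y * (x ^ i.val)⁻¹ * y⁻¹ = x ^ i.val
      rw [← inv_pow, ← conj_pow, show y * x⁻¹ * y⁻¹ = (y * x * y⁻¹)⁻¹ by group, hyx, inv_inv]
    rw [← hXn]
    exact (mul_inv_eq_iff_eq_mul.mp h1).symm
  let f : QuaternionGroup 2 →* G := MonoidHom.mk' (fun g => match g with
      | QuaternionGroup.a i => X i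
      | QuaternionGroup.xa i => y * X i) (fun g h => by
    rcases g with i | i <;> rcases h with j | j
    · simp only [QuaternionGroup.a_mul_a]; exact hX i j
    · simp only [QuaternionGroup.a_mul_xa]
      rw [← mul_assoc, hswap, mul_assoc, ← hX, neg_add_eq_sub]
    · simp only [QuaternionGroup.xa_mul_a]
      rw [hX, mul_assoc]
    · simp only [QuaternionGroup.xa_mul_xa]
      rw [mul_assoc y, ← mul_assoc (X i), hswap, ← mul_assoc, ← mul_assoc, hy, mul_assoc (x * x), ← hX,
        show x * x = X 2 from (pow_two x).symm, ← hX]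
      congr 1
      push_cast
      abel)
  refine ⟨f, (injective_iff_map_eq_one f).mpr fun g hg => ?_, ?_, ?_⟩
  · rcases g with i | i
    · change x ^ i.val = 1 at hg
      have hd := orderOf_dvd_of_pow_eq_one hg
      rw [hx] at hd
      have hi : i.val < 4 := i.val_lt
      have : i.val = 0 := Nat.eq_zero_of_dvd_of_lt hd hi
      rw [(ZMod.val_eq_zero i).mp this]
      rfl
    · exfalso
      change y * x ^ i.val = 1 at hg
      have : y = (x ^ i.val)⁻¹ := eq_inv_of_mul_eq_one_left hg
      have h1 : x⁻¹ = x := by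
        rw [← hyx, this]
        group
      have h2 : x ^ 2 = 1 := by rw [sq]; exact mul_eq_one_iff_eq_inv.mpr h1.symm
      have := Nat.le_of_dvd two_pos (orderOf_dvd_of_pow_eq_one h2)
      omega
  · show X 1 = x
    exact pow_one x
  · show y * X 0 = y
    rw [hX0, mul_one]

omit hy [Finite G] in
theorem center_range {f : QuaternionGroup 2 →* G} (ha : f (QuaternionGroup.a 1) = x)
    (hb : f (QuaternionGroup.xa 0) = y) (q : QuaternionGroup 2) (hq : f q ∈ Subgroup.center G) :
    f q = 1 ∨ f q = x * x := by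
  have hne : ¬ Commute x y := by
    intro h
    rw [← h.eq, mul_inv_cancel_right] at hyx
    have h2 : x ^ 2 = 1 := by rw [sq]; exact mul_eq_one_iff_eq_inv.mpr hyx
    have := Nat.le_of_dvd two_pos (orderOf_dvd_of_pow_eq_one h2)
    omega
  have hq1 := Subgroup.mem_center_iff.mp hq
  have hpow : ∀ i : ZMod (2 * 2), f (QuaternionGroup.a i) = x ^ i.val := fun i => by
    rw [← ha, ← map_pow, QuaternionGroup.a_one_pow, ZMod.natCast_zmod_val]
  have h4 : x ^ 4 = 1 := hx ▸ pow_orderOf_eq_one x
  rcases q with i | i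
  · rw [hpow] at hq1 ⊢
    have hi : i.val < 4 := i.val_lt
    obtain h | h | h | h : i.val = 0 ∨ i.val = 1 ∨ i.val = 2 ∨ i.val = 3 := by omega
    · left; rw [h, pow_zero]
    · exfalso; rw [h, pow_one] at hq1; exact hne (hq1 y).symm
    · right; rw [h, sq]
    · exfalso
      refine hne ?_
      have h3 : Commute y (x ^ 3) := h ▸ hq1 y
      have := h3.pow_right 3
      rw [← pow_mul, show 3 * 3 = 4 * 2 + 1 from rfl, pow_succ, pow_mul, h4, one_pow, one_mul] at this
      exact this.symm
  · exfalso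
    have : f (QuaternionGroup.xa i) = y * x ^ i.val := by
      rw [show QuaternionGroup.xa i = QuaternionGroup.xa 0 * QuaternionGroup.a i by
        rw [QuaternionGroup.xa_mul_a, zero_add], map_mul, hb, hpow]
    rw [this] at hq1
    refine hne ?_
    have h1 := hq1 x
    rw [mul_assoc y, ← pow_succ, pow_succ', ← mul_assoc y, ← mul_assoc] at h1
    exact mul_right_cancel h1

end quaternion

/-- A finite non-abelian group in which every subgroup is normal is the internal direct product of a subgroup isomorphic to the quaternion group of order `8`, an elementary abelian `2`-subgroup and an abelian subgroup of odd order. -/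
theorem result {G : Type*} [Group G] [Finite G] (hna : ¬ IsMulCommutative G) (hn : ∀ H : Subgroup G, H.Normal) : ∃ Q E A : Subgroup G, Nonempty (Q ≃* QuaternionGroup 2) ∧ Cfsg.IsElementaryAbelian 2 E ∧ IsMulCommutative A ∧ Odd (Nat.card A) ∧ E ⊓ A = ⊥ ∧ Q ⊓ (E ⊔ A) = ⊥ ∧ Q ⊔ (E ⊔ A) = ⊤ := by
  haveI : Fact (Nat.Prime 2) := ⟨Nat.prime_two⟩
  have hH := hn
  -- a quaternion pair
  obtain ⟨x, y, hx, hy, hyx⟩ : ∃ x y : G, orderOf x = 4 ∧ y * y = x * x ∧ y * x * y⁻¹ = x⁻¹ := by
    by_contra hno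
    refine hna ⟨⟨fun a b => ?_⟩⟩
    have : Subgroup.center G = ⊤ := eq_top_of_primary _ fun r hr g hg => by
      have h' := eq_top_of_primary (Subgroup.centralizer ({g} : Set G)) fun r' hr' g' hg' => by
        refine Subgroup.mem_centralizer_singleton_iff.mpr ?_
        by_cases h2 : r = 2
        · by_cases h2' : r' = 2
          · subst h2 h2'
            by_contra hc
            obtain ⟨-, hex⟩ := Hamiltonian.q8_of_not_commute hH hg hg' fun h => hc h.symm
            exact hno hex
          · exact (commute_primary hH hr' hr hg' hg h2').eq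
        · exact (commute_primary hH hr hr' hg hg' h2).eq.symm
      exact Subgroup.mem_center_iff.mpr fun g' =>
        Subgroup.mem_centralizer_singleton_iff.mp (h' ▸ Subgroup.mem_top g')
    exact (Subgroup.mem_center_iff.mp (this ▸ Subgroup.mem_top b) a)
  obtain ⟨f, hf, ha, hb⟩ := exists_hom hx hy hyx
  have h4 : x ^ 4 = 1 := hx ▸ pow_orderOf_eq_one x
  set c := x * x with hc
  have hcc : c * c = 1 := by rw [hc, ← mul_assoc, ← pow_three', ← pow_succ]; exact h4
  have hc1 : c ≠ 1 := by
    intro h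
    have := Nat.le_of_dvd two_pos (orderOf_dvd_of_pow_eq_one (n := 2) ((sq x).trans h))
    omega
  let Ω : Subgroup G :=
    { carrier := {w | w ∈ Subgroup.center G ∧ w * w = 1}
      one_mem' := ⟨one_mem _, one_mul 1⟩
      mul_mem' := fun {v w} hv hw => ⟨mul_mem hv.1 hw.1, by
        have : Commute v w := (Subgroup.mem_center_iff.mp hw.1 v)
        rw [this.symm.mul_mul_mul_comm, hv.2, hw.2, one_mul]⟩
      inv_mem' := fun {w} hw => ⟨inv_mem hw.1, by rw [← mul_inv_rev, hw.2, inv_one]⟩ }
  have hΩ : ∀ w : G, w * w = 1 → w ∈ Ω := fun w hw => ⟨involution_central hH hw, hw⟩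
  obtain ⟨E, hE, hEmax⟩ := (Set.toFinite {E : Subgroup G | E ≤ Ω ∧ c ∉ E}).exists_maximal
    ⟨⊥, bot_le, fun h => hc1 (Subgroup.mem_bot.mp h)⟩
  have hEΩ : ∀ w ∈ Ω, w ∈ E ∨ c * w ∈ E := by
    intro w hw
    by_cases h : w ∈ E
    · exact Or.inl h
    right
    haveI : E.Normal := hH E
    have hc' : c ∈ E ⊔ Subgroup.zpowers w := by
      by_contra hc'
      exact h (hEmax ⟨sup_le hE.1 (Subgroup.zpowers_le.mpr hw), hc'⟩ le_sup_left
        (Subgroup.mem_sup_right (Subgroup.mem_zpowers w)))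
    obtain ⟨e, he, v, hv, hev⟩ := Subgroup.mem_sup_of_normal_left.mp hc'
    obtain ⟨k, rfl⟩ := Subgroup.mem_zpowers_iff.mp hv
    rcases Int.even_or_odd k with ⟨m, rfl⟩ | ⟨m, rfl⟩
    · rw [← two_mul, zpow_mul, zpow_two, hw.2, one_zpow, mul_one] at hev
      exact absurd (hev ▸ he) hE.2
    · rw [zpow_add, zpow_mul, zpow_two, hw.2, one_zpow, one_mul, zpow_one] at hev
      rw [← hev, mul_assoc, hw.2, mul_one]
      exact he
  let A : Subgroup G :=
    { carrier := {g | g ∈ Subgroup.center G ∧ Odd (orderOf g)}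
      one_mem' := ⟨one_mem _, by simp⟩
      mul_mem' := fun {v w} hv hw => ⟨mul_mem hv.1 hw.1,
        ((hv.2.mul hw.2)).of_dvd_nat (Commute.orderOf_mul_dvd_mul_orderOf (Subgroup.mem_center_iff.mp hw.1 v))⟩
      inv_mem' := fun {w} hw => ⟨inv_mem hw.1, by rw [orderOf_inv]; exact hw.2⟩ }
  refine ⟨f.range, E, A, ⟨(MonoidHom.ofInjective hf).symm⟩,
    ⟨⟨⟨fun v w => Subtype.ext (Subgroup.mem_center_iff.mp (hE.1 w.2).1 v)⟩⟩,
      fun v hv => by rw [sq]; exact (hE.1 hv).2⟩,
    ⟨⟨fun v w => Subtype.ext (Subgroup.mem_center_iff.mp w.2.1 v)⟩⟩, ?_, ?_, ?_, ?_⟩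
  · rw [← Nat.not_even_iff_odd, even_iff_two_dvd]
    intro h2
    obtain ⟨a, ha'⟩ := exists_prime_orderOf_dvd_card' 2 h2
    have := a.2.2
    rw [Subgroup.orderOf_coe, ha'] at this
    exact absurd this (by decide)
  · refine eq_bot_iff.mpr fun v hv => Subgroup.mem_bot.mpr ?_
    have h1 : orderOf v ∣ 2 := orderOf_dvd_of_pow_eq_one (by rw [sq]; exact (hE.1 hv.1).2)
    rcases (Nat.dvd_prime Nat.prime_two).mp h1 with h | h
    · exact orderOf_eq_one_iff.mp h
    · exact absurd (h ▸ hv.2.2 : Odd 2) (by decide)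
  · refine eq_bot_iff.mpr fun v hv => Subgroup.mem_bot.mpr ?_
    obtain ⟨⟨q, rfl⟩, hv'⟩ := hv
    haveI : E.Normal := hH E
    obtain ⟨e, he, a, ha', hea⟩ := Subgroup.mem_sup_of_normal_left.mp hv'
    rcases center_range hx hyx ha hb q (hea ▸ mul_mem (hE.1 he).1 ha'.1) with h | h
    · exact h
    exfalso
    rw [h, ← hc] at hea
    have ha2 : a * a = 1 := by
      have : Commute e a := Subgroup.mem_center_iff.mp ha'.1 e
      have h' : e * a * (e * a) = 1 := by rw [hea, hcc]
      rwa [this.symm.mul_mul_mul_comm, (hE.1 he).2, one_mul] at h'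
    have ha1 : a = 1 := by
      rcases (Nat.dvd_prime Nat.prime_two).mp (orderOf_dvd_of_pow_eq_one (n := 2) ((sq a).trans ha2)) with h | h
      · exact orderOf_eq_one_iff.mp h
      · exact absurd (h ▸ ha'.2 : Odd 2) (by decide)
    rw [ha1, mul_one] at hea
    exact hE.2 (hea ▸ he)
  · refine eq_top_of_primary _ fun r hr g hg => ?_
    obtain ⟨k, hk⟩ := hg
    by_cases h2 : r ≠ 2
    · refine Subgroup.mem_sup_right (Subgroup.mem_sup_right ⟨odd_primary_central hH hr h2 ⟨k, hk⟩, ?_⟩)
      rw [hk]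
      exact (hr.odd_of_ne_two h2).pow
    rw [not_not] at h2
    subst h2
    -- adjust by an element of the quaternion group to centralise it
    have hmemQ : x ∈ f.range ∧ y ∈ f.range := ⟨⟨_, ha⟩, ⟨_, hb⟩⟩
    have hconj : ∀ z : G, orderOf z = 4 → z * z = c → ∀ u : G, u * z * u⁻¹ = z ∨ u * z * u⁻¹ = z⁻¹ := by
      intro z hz hzc u
      have ho : orderOf (u * z * u⁻¹) = 4 := ((MulAut.conj u).orderOf_eq z).trans hz
      obtain ⟨m, hm⟩ := mem_powers_iff_mem_zpowers.mpr (Hamiltonian.conj_mem_zpowers hH u z)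
      simp only at hm
      rw [← hm, ← pow_mod_orderOf, hz]
      have hmlt := Nat.mod_lt m (show 4 > 0 by norm_num)
      rw [← hm, ← pow_mod_orderOf, hz] at ho
      have hz4 : z ^ 4 = 1 := hz ▸ pow_orderOf_eq_one z
      obtain h | h | h | h : m % 4 = 0 ∨ m % 4 = 1 ∨ m % 4 = 2 ∨ m % 4 = 3 := by omega
      · rw [h, pow_zero, orderOf_one] at ho; omega
      · exact Or.inl (by rw [h, pow_one])
      · exfalso
        rw [h] at ho
        have h2 : (z ^ 2) ^ 2 = 1 := by rw [← pow_mul]; exact hz4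
        have := Nat.le_of_dvd two_pos (orderOf_dvd_of_pow_eq_one h2)
        omega
      · exact Or.inr (by rw [h, eq_inv_iff_mul_eq_one, ← pow_succ]; exact hz4)
    have hoy : orderOf y = 4 := by
      refine orderOf_eq_prime_pow (p := 2) (n := 1) ?_ ?_
      · rw [pow_one, sq, hy]; exact hc1
      · rw [show 2 ^ (1 + 1) = 2 * 2 from rfl, pow_mul, sq y, hy, sq]; exact hcc
    have hxy' : x * y * x⁻¹ = y⁻¹ := by
      calc x * y * x⁻¹ = y * (y⁻¹ * x * y) * x⁻¹ := by group
        _ = y * (y⁻¹ * (y * x * y⁻¹)⁻¹ * y) * x⁻¹ := by rw [hyx, inv_inv]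
        _ = y * (x * x)⁻¹ := by group
        _ = y⁻¹ := by rw [show x * x = y * y from hy.symm]; group
    -- choose `q`
    obtain ⟨q, hq, hqx, hqy⟩ : ∃ q ∈ f.range, (q⁻¹ * g) * x * (q⁻¹ * g)⁻¹ = x ∧ (q⁻¹ * g) * y * (q⁻¹ * g)⁻¹ = y := by
      have key : ∀ (q z : G), (q⁻¹ * g) * z * (q⁻¹ * g)⁻¹ = q⁻¹ * (g * z * g⁻¹) * q := fun q z => by group
      simp only [key]
      rcases hconj x hx rfl g with h1 | h1 <;> rcases hconj y hoy hy g with h2 | h2 <;> rw [h1, h2]
      · exact ⟨1, one_mem _, by group, by group⟩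
      · refine ⟨x, hmemQ.1, by group, ?_⟩
        rw [← hxy']; group
      · refine ⟨y, hmemQ.2, ?_, by group⟩
        rw [← hyx]; group
      · refine ⟨y * x, mul_mem hmemQ.2 hmemQ.1, ?_, ?_⟩
        · rw [← hyx]; group
        · calc (y * x)⁻¹ * y⁻¹ * (y * x) = x⁻¹ * y⁻¹ * x := by group
            _ = y := by rw [← hxy']; group
    set u := q⁻¹ * g with hu
    have hcx : Commute u x := mul_inv_eq_iff_eq_mul.mp hqx
    have hcy : Commute u y := mul_inv_eq_iff_eq_mul.mp hqy
    have hgu : g = q * u := by rw [hu, mul_inv_cancel_left]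
    -- `u` is a `2`-element
    have huP : ∃ i, orderOf u = 2 ^ i := by
      obtain ⟨P⟩ := (inferInstance : Nonempty (Sylow 2 G))
      haveI : (P : Subgroup G).Normal := hH _
      have hmem : ∀ z : G, (∃ i, orderOf z = 2 ^ i) → z ∈ (P : Subgroup G) := by
        intro z ⟨i, hi⟩
        obtain ⟨R, hR⟩ := (IsPGroup.of_card (n := i) (by rw [Nat.card_zpowers, hi]) : IsPGroup 2 (Subgroup.zpowers z)).exists_le_sylow
        haveI := Sylow.unique_of_normal P inferInstance
        exact Subsingleton.elim R P ▸ hR (Subgroup.mem_zpowers z)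
      have hqP : q ∈ (P : Subgroup G) := by
        obtain ⟨q', rfl⟩ := hq
        refine hmem _ ?_
        obtain ⟨i, -, hi⟩ := (Nat.dvd_prime_pow Nat.prime_two).mp
          ((orderOf_map_dvd f q').trans (show orderOf q' ∣ 2 ^ 3 by
            rw [show (2 : ℕ) ^ 3 = Fintype.card (QuaternionGroup 2) from QuaternionGroup.card.symm]
            exact orderOf_dvd_card))
        exact ⟨i, hi⟩
      have huP : u ∈ (P : Subgroup G) := mul_mem (inv_mem hqP) (hmem g ⟨k, hk⟩)
      obtain ⟨i, hi⟩ := IsPGroup.iff_orderOf.mp P.isPGroup' ⟨u, huP⟩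
      exact ⟨i, by rwa [Subgroup.orderOf_mk] at hi⟩
    -- so `u ^ 2 = 1`
    have hu2 : u * u = 1 := by
      by_contra hne
      obtain ⟨i, hi⟩ := huP
      have hi2 : 2 ≤ i := by
        by_contra hlt
        refine hne ?_
        have : u ^ (2 ^ i) = 1 := hi ▸ pow_orderOf_eq_one u
        rcases (by omega : i = 0 ∨ i = 1) with rfl | rfl
        · rw [pow_zero, pow_one] at this; simp [this]
        · rwa [pow_one, sq] at this
      obtain ⟨i, rfl⟩ : ∃ i', i = i' + 2 := ⟨i - 2, by omega⟩
      set w := u ^ 2 ^ i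
      have hw : orderOf w = 4 := by
        rw [orderOf_pow' u (by positivity), hi, Nat.gcd_eq_right (pow_dvd_pow 2 (by omega)), pow_add,
          Nat.mul_div_cancel_left _ (by positivity)]
        rfl
      have hwx : Commute w x := hcx.pow_left _
      have hwy : Commute w y := hcy.pow_left _
      set v := x * w
      have hv : y * v * y⁻¹ = v * c := by
        calc y * v * y⁻¹ = (y * x * y⁻¹) * (y * w * y⁻¹) := by simp only [v]; group
          _ = x⁻¹ * w := by rw [hyx, hwy.symm.eq, mul_inv_cancel_right]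
          _ = x * (w * c) := by
            rw [(Subgroup.mem_center_iff.mp (involution_central hH hcc) w), ← mul_assoc]
            congr 1
            rw [inv_eq_of_mul_eq_one_right]
            rw [← mul_assoc, ← hc]; exact hcc
          _ = v * c := (mul_assoc _ _ _).symm
      have hcv : c ∈ Subgroup.zpowers v := by
        have := mul_mem (inv_mem (Subgroup.mem_zpowers v)) (Hamiltonian.conj_mem_zpowers hH y v)
        rwa [hv, inv_mul_cancel_left] at this
      have hv2 : v * v = c * (w * w) := (hwx.symm.mul_mul_mul_comm x w).symm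
      have hw4 : (w * w) * (w * w) = 1 := by
        rw [← sq, ← sq, ← pow_mul, show 2 * 2 = orderOf w from hw.symm, pow_orderOf_eq_one]
      have hw2 : w * w ≠ 1 := fun h => by
        have := Nat.le_of_dvd two_pos (orderOf_dvd_of_pow_eq_one (n := 2) ((sq w).trans h))
        omega
      have hv4 : (v * v) * (v * v) = 1 := by
        rw [hv2, Commute.mul_mul_mul_comm (Subgroup.mem_center_iff.mp (involution_central hH hcc) (w * w)), hcc, hw4, one_mul]
      obtain ⟨m, hm⟩ := Subgroup.mem_zpowers_iff.mp hcv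
      rcases Int.even_or_odd m with ⟨t, rfl⟩ | ⟨t, rfl⟩
      · rw [← two_mul, zpow_mul, zpow_two] at hm
        rcases Int.even_or_odd t with ⟨s, rfl⟩ | ⟨s, rfl⟩
        · rw [← two_mul, zpow_mul, zpow_two, hv4, one_zpow] at hm
          exact hc1 hm.symm
        · rw [zpow_add, zpow_mul, zpow_two, hv4, one_zpow, one_mul, zpow_one, hv2] at hm
          exact hw2 (mul_eq_left.mp hm)
      · -- `v` would be a power of `c`
        have hvc : v * v = 1 := by
          have h1 : (v ^ (2 * t + 1)) ^ (2 : ℤ) = 1 := by rw [hm, zpow_two, hcc]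
          rw [← zpow_mul, show (2 * t + 1) * 2 = 4 * t + 2 by ring, zpow_add, zpow_mul,
            show v ^ (4 : ℤ) = 1 by rw [show (4 : ℤ) = 2 * 2 from rfl, zpow_mul, zpow_two, zpow_two, hv4],
            one_zpow, one_mul, zpow_two] at h1
          exact h1
        have hvcent := involution_central hH hvc
        have := Subgroup.mem_center_iff.mp hvcent y
        rw [this, mul_inv_cancel_right] at hv
        exact hc1 (mul_eq_left.mp hv.symm)
    rcases hEΩ u (hΩ u hu2) with h | h
    · rw [hgu]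
      exact mul_mem (Subgroup.mem_sup_left hq) (Subgroup.mem_sup_right (Subgroup.mem_sup_left h))
    · rw [hgu, show q * u = (q * c) * (c * u) by rw [mul_assoc, ← mul_assoc c, hcc, one_mul]]
      exact mul_mem (Subgroup.mem_sup_left (mul_mem hq (mul_mem hmemQ.1 hmemQ.1)))
        (Subgroup.mem_sup_right (Subgroup.mem_sup_left h))

end Cfsg.Agent.S4211
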