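import Cfsg.Statements.S4212
import Cfsg.Agent.Lib.PowEqOne.Central
import Cfsg.Agent.Lib.ClassIndex.Basic

set_option autoImplicit false
open Cfsg

namespace Cfsg.Agent.S4212

theorem card_roots_conj {G : Type*} [Group G] [Finite G] (c : G) (n : ℕ) :
    Nat.card {x : G // IsConj c (x ^ n)} = Nat.card {y : G // IsConj c y} * Nat.card {x : G // x ^ n = c} := by
  haveI : Fintype {y : G // IsConj c y} := Fintype.ofFinite _
  rw [Nat.card_congr (Equiv.sigmaFiberEquiv (fun x : {x : G // IsConj c (x ^ n)} =>
    (⟨(x : G) ^ n, x.2⟩ : {y : G // IsConj c y}))).symm, Nat.card_sigma,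
    Finset.sum_const_nat (m := Nat.card {x : G // x ^ n = c}) fun y _ => ?_, Finset.card_univ, ← Nat.card_eq_fintype_card]
  obtain ⟨a, ha⟩ := isConj_iff.mp y.2
  refine Nat.card_congr ((show {x : {x : G // IsConj c (x ^ n)} // (⟨(x : G) ^ n, x.2⟩ : {y : G // IsConj c y}) = y} ≃ {x : G // x ^ n = (y : G)} from
      { toFun := fun x => ⟨(x.1 : G), congrArg Subtype.val x.2⟩
        invFun := fun x => ⟨⟨(x : G), by rw [x.2]; exact y.2⟩, Subtype.ext x.2⟩
        left_inv := fun x => rfl
        right_inv := fun x => rfl }).trans ?_)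
  exact
    { toFun := fun x => ⟨a⁻¹ * (x : G) * a⁻¹⁻¹, by rw [conj_pow, x.2, ← ha]; group⟩
      invFun := fun x => ⟨a * (x : G) * a⁻¹, by rw [conj_pow, x.2, ha]⟩
      left_inv := fun x => Subtype.ext (by group)
      right_inv := fun x => Subtype.ext (by group) }

/-- Let `G` be a finite group of order `g`, `c` an element whose conjugacy class has `h` elements, and `n` a natural number. Then the number of elements `x` of `G` with `x^n` conjugate to `c` is a multiple of `gcd(hn, g)`. -/
theorem result {G : Type*} [Group G] [Finite G] (c : G) (n : ℕ) : Nat.gcd (Nat.card {y : G // IsConj c y} * n) (Nat.card G) ∣ Nat.card {x : G // IsConj c (x ^ n)} := by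
  have hidx : Nat.card {y : G // IsConj c y} = (Subgroup.centralizer ({c} : Set G)).index := by
    rw [ClassIndex.index_centralizer_eq]
    exact Nat.card_congr (Equiv.subtypeEquivRight fun y => isConj_iff)
  rcases eq_or_ne n 0 with rfl | hn
  · rw [mul_zero, Nat.gcd_zero_left]
    by_cases hc : IsConj c 1
    · rw [Nat.card_congr (Equiv.subtypeUnivEquiv fun x : G => (show IsConj c (x ^ 0) by rw [pow_zero]; exact hc))]
    · haveI : IsEmpty {x : G // IsConj c (x ^ 0)} := ⟨fun x => hc (pow_zero (x : G) ▸ x.2)⟩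
      rw [Nat.card_of_isEmpty (α := {x : G // IsConj c (x ^ 0)})]
      exact dvd_zero _
  rw [card_roots_conj]
  set C := Subgroup.centralizer ({c} : Set G)
  have hcC : c ∈ C := Subgroup.mem_centralizer_singleton_iff.mpr rfl
  have hcard : Nat.card {x : G // x ^ n = c} = Nat.card {x : C // x ^ n = ⟨c, hcC⟩} := Nat.card_congr
    { toFun := fun x => ⟨⟨x, Subgroup.mem_centralizer_singleton_iff.mpr (by have h := (Commute.self_pow (x : G) n).eq; rwa [x.2] at h)⟩,
        Subtype.ext x.2⟩
      invFun := fun x => ⟨x.1, congrArg Subtype.val x.2⟩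
      left_inv := fun x => rfl
      right_inv := fun x => rfl }
  rw [hcard, hidx, ← C.card_mul_index, mul_comm (Nat.card C), Nat.gcd_mul_left]
  refine Nat.mul_dvd_mul_left _ (PowEqOne.gcd_dvd_card_pow_eq_central hn (Subgroup.mem_center_iff.mpr fun g => ?_))
  exact Subtype.ext (Subgroup.mem_centralizer_singleton_iff.mp g.2)

end Cfsg.Agent.S4212
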