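import Cfsg.Statements.S4213
import Cfsg.Agent.Lib.Solvable.Hall
import Cfsg.Agent.Lib.PowEqOne.Basic

set_option autoImplicit false
open Cfsg

namespace Cfsg.Agent.S4213

open Cfsg.Agent.Solvable

theorem eq_of_card {G : Type*} [Group G] [Finite G] {n : ℕ} (hcount : Nat.card {x : G // x ^ n = 1} = n)
    (H : Subgroup G) (hH : ∀ x ∈ H, x ^ n = 1) (hcard : Nat.card H = n) :
    ∀ x, x ∈ H ↔ x ^ n = 1 := by
  refine fun x => ⟨hH x, fun hx => ?_⟩
  let f : H → {x : G // x ^ n = 1} := fun h => ⟨h, hH h h.2⟩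
  have hf : Function.Bijective f := (Nat.bijective_iff_injective_and_card f).2
    ⟨fun a b h => Subtype.ext (congrArg (fun z : {x : G // x ^ n = 1} => (z : G)) h), hcard.trans hcount.symm⟩
  obtain ⟨h, hh⟩ := hf.2 ⟨x, hx⟩
  have hx' : (h : G) = x := congrArg Subtype.val hh
  exact hx' ▸ h.2

theorem aux (c : ℕ) : ∀ {G : Type*} [Group G] [Finite G] [Group.IsSolvable G], Nat.card G = c →
    ∀ n, n ∣ Nat.card G → Nat.card {x : G // x ^ n = 1} = n →
    ∃ H : Subgroup G, ∀ x, x ∈ H ↔ x ^ n = 1 := by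
  induction c using Nat.strongRecOn with
  | _ c ih =>
    intro G _ _ _ hc n hn hcount
    subst hc
    have hn0 : n ≠ 0 := fun h => Nat.card_pos.ne' (Nat.eq_zero_of_zero_dvd (h ▸ hn))
    rcases subsingleton_or_nontrivial G with hG | hG
    · exact ⟨⊤, fun x => iff_of_true (Subgroup.mem_top x) (Subsingleton.elim _ _)⟩
    obtain ⟨p, hp, N, hNn, hN0, -, -, hNp, hNexp, -⟩ :=
      exists_minimal_normal_pGroup (N := (⊤ : Subgroup G)) top_ne_bot
    have := Fact.mk hp
    obtain ⟨a, ha⟩ := IsPGroup.iff_card.1 hNp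
    have ha0 : a ≠ 0 := fun h => hN0 (Subgroup.eq_bot_of_card_eq N (by rw [ha, h, pow_zero]))
    let f := QuotientGroup.mk' N
    have hq : Nat.card (G ⧸ N) * p ^ a = Nat.card G :=
      ha ▸ (Subgroup.card_eq_card_quotient_mul_card_subgroup N).symm
    obtain ⟨b, n1, hn1, rfl⟩ := Nat.exists_eq_pow_mul_and_not_dvd hn0 p hp.ne_one
    have hn1c : n1.Coprime p := (hp.coprime_iff_not_dvd.2 hn1).symm
    have hn1q : n1 ∣ Nat.card (G ⧸ N) := by
      rw [← hq] at hn
      exact (hn1c.pow_right a).dvd_of_dvd_mul_right ((dvd_mul_left n1 _).trans hn)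
    rcases Nat.eq_zero_or_pos b with rfl | hb
    · -- the part prime to `p`
      rw [pow_zero, one_mul] at hn hcount ⊢
      obtain ⟨e, he1, he2⟩ := Nat.chineseRemainder hn1c 1 0
      have hlift : ∀ z : G ⧸ N, z ^ n1 = 1 → ∃ x : G, x ^ n1 = 1 ∧ f x = z := by
        intro z hz
        obtain ⟨y, rfl⟩ := QuotientGroup.mk'_surjective N z
        have hy : y ^ n1 ∈ N := by
          rw [← QuotientGroup.eq_one_iff]; exact (map_pow f y n1).trans hz
        obtain ⟨d, rfl⟩ := Nat.modEq_zero_iff_dvd.1 he2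
        refine ⟨y ^ (p * d), ?_, ?_⟩
        · rw [← pow_mul, mul_comm, pow_mul, pow_mul, hNexp _ hy, one_pow]
        · rw [map_pow]
          have h1 : orderOf (f y) ∣ n1 := orderOf_dvd_of_pow_eq_one hz
          calc f y ^ (p * d) = f y ^ 1 := pow_eq_pow_iff_modEq.2 (he1.of_dvd h1)
            _ = f y := pow_one _
      have hle : Nat.card {z : G ⧸ N // z ^ n1 = 1} ≤ n1 := by
        refine le_of_le_of_eq ?_ hcount
        refine Nat.card_le_card_of_surjective (fun x : {x : G // x ^ n1 = 1} =>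
          (⟨f x, by rw [← map_pow, x.2, map_one]⟩ : {z : G ⧸ N // z ^ n1 = 1})) ?_
        rintro ⟨z, hz⟩
        obtain ⟨x, hx, rfl⟩ := hlift z hz
        exact ⟨⟨x, hx⟩, rfl⟩
      have : Nonempty {z : G ⧸ N // z ^ n1 = 1} := ⟨⟨1, one_pow _⟩⟩
      have heq : Nat.card {z : G ⧸ N // z ^ n1 = 1} = n1 :=
        le_antisymm hle (Nat.le_of_dvd Nat.card_pos (PowEqOne.dvd_card_pow_eq_one hn1q))
      obtain ⟨Hb, hHb⟩ := ih _ (card_quotient_lt hN0) rfl n1 hn1q heq
      have hHbc : Nat.card Hb = n1 := (Nat.card_congr (Equiv.subtypeEquivRight hHb)).trans heq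
      have hidx : N.relIndex (Hb.comap f) = n1 := by
        have h1 := Subgroup.relIndex_ker f (K := Hb.comap f)
        rwa [QuotientGroup.ker_mk', Subgroup.map_comap_eq_self_of_surjective
          (QuotientGroup.mk'_surjective N), hHbc] at h1
      obtain ⟨U, -, hUc, -⟩ := exists_lift_of_coprime (QuotientGroup.le_comap_mk' N Hb)
        (by rw [hidx, ha]; exact (hn1c.pow_right a).symm)
      rw [hidx] at hUc
      exact ⟨U, eq_of_card hcount U (fun x hx => by
        have := pow_card_eq_one' (x := (⟨x, hx⟩ : U))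
        rw [hUc] at this
        exact congrArg Subtype.val this) hUc⟩
    · set n2 := p ^ (b - a) * n1
      have hn2q : n2 ∣ Nat.card (G ⧸ N) := by
        refine Nat.Coprime.mul_dvd_of_dvd_of_dvd ((hn1c.pow_right _).symm) ?_ hn1q
        rcases le_total b a with h | h
        · rw [Nat.sub_eq_zero_of_le h, pow_zero]; exact one_dvd _
        · refine Nat.dvd_of_mul_dvd_mul_right (pow_pos hp.pos a) ?_
          rw [← pow_add, Nat.sub_add_cancel h, hq]
          exact (dvd_mul_right _ _).trans hn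
      have hpre : ∀ x : G, f x ^ n2 = 1 → x ^ (p ^ b * n1) = 1 := by
        intro x hx
        have hy : x ^ n2 ∈ N := by
          rw [← QuotientGroup.eq_one_iff]; exact (map_pow f x n2).trans hx
        have hd : n2 * p ∣ p ^ b * n1 := by
          rw [show n2 * p = p ^ (b - a + 1) * n1 by rw [pow_succ]; ring]
          exact mul_dvd_mul_right (pow_dvd_pow p (by omega)) _
        obtain ⟨d, hd⟩ := hd
        rw [hd, pow_mul, pow_mul, hNexp _ hy, one_pow]
      have hset : Nat.card {x : G // f x ^ n2 = 1} = p ^ a * Nat.card {z : G ⧸ N // z ^ n2 = 1} := by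
        rw [← ha, ← Nat.card_prod]
        exact Nat.card_congr (QuotientGroup.preimageMkEquivSubgroupProdSet N {z | z ^ n2 = 1})
      have hle : p ^ a * Nat.card {z : G ⧸ N // z ^ n2 = 1} ≤ p ^ b * n1 := by
        rw [← hset]
        refine le_of_le_of_eq ?_ hcount
        exact Nat.card_le_card_of_injective (fun x : {x : G // f x ^ n2 = 1} =>
          (⟨x.1, hpre x.1 x.2⟩ : {x : G // x ^ (p ^ b * n1) = 1}))
          (fun x y h => Subtype.ext (congrArg (fun z : {x : G // x ^ (p ^ b * n1) = 1} => z.1) h))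
      have : Nonempty {z : G ⧸ N // z ^ n2 = 1} := ⟨⟨1, one_pow _⟩⟩
      obtain ⟨k, hk⟩ := PowEqOne.dvd_card_pow_eq_one hn2q
      have hk1 : 1 ≤ k := by
        refine Nat.pos_of_ne_zero fun h => ?_
        rw [h, mul_zero] at hk
        exact Nat.card_pos.ne' hk
      rw [hk] at hle
      have hn1pos : 0 < n1 := Nat.pos_of_ne_zero fun h => hn1 (h ▸ dvd_zero p)
      have h2 : p ^ (a + (b - a)) * k ≤ p ^ b := by
        refine Nat.le_of_mul_le_mul_right ?_ hn1pos
        calc p ^ (a + (b - a)) * k * n1 = p ^ a * (n2 * k) := by rw [pow_add]; ring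
          _ ≤ _ := hle
      have hab : a + (b - a) ≤ b := by
        refine (Nat.pow_le_pow_iff_right hp.one_lt).1 (le_trans ?_ h2)
        exact Nat.le_mul_of_pos_right _ hk1
      rw [show a + (b - a) = b by omega] at h2
      have hk' : k = 1 := le_antisymm
        (Nat.le_of_mul_le_mul_left (by rw [mul_one]; exact h2) (pow_pos hp.pos b)) hk1
      rw [hk', mul_one] at hk
      obtain ⟨Hb, hHb⟩ := ih _ (card_quotient_lt hN0) rfl n2 hn2q hk
      have hHbc : Nat.card Hb = n2 := (Nat.card_congr (Equiv.subtypeEquivRight hHb)).trans hk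
      have hc : Nat.card (Hb.comap f) = p ^ b * n1 := by
        rw [show Nat.card (Hb.comap f) = Nat.card {x : G // f x ^ n2 = 1} from
          Nat.card_congr (Equiv.subtypeEquivRight fun x => hHb (f x)), hset, hk,
          show p ^ a * n2 = p ^ (a + (b - a)) * n1 by rw [pow_add]; ring,
          show a + (b - a) = b by omega]
      exact ⟨Hb.comap f, eq_of_card hcount _ (fun x hx => hpre x ((hHb (f x)).1 hx)) hc⟩

/-- If `G` is a finite solvable group and `n` divides the order of `G` and exactly `n` elements `x` of `G` satisfy `x^n = 1`, then these elements form a normal subgroup. -/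
theorem result {G : Type*} [Group G] [Finite G] [Group.IsSolvable G] (n : ℕ) (hn : n ∣ Nat.card G) (hcount : Nat.card {x : G // x ^ n = 1} = n) : ∃ H : Subgroup G, H.Normal ∧ (H : Set G) = {x : G | x ^ n = 1} := by
  obtain ⟨H, hH⟩ := aux _ rfl n hn hcount
  refine ⟨H, ⟨fun x hx g => ?_⟩, Set.ext fun x => hH x⟩
  rw [hH] at hx ⊢
  rw [conj_pow, hx, mul_one, mul_inv_cancel]

end Cfsg.Agent.S4213
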