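import Cfsg.Statements.S4217
import Cfsg.Agent.Lib.Solvable.Gaschutz

set_option autoImplicit false
open Cfsg
open scoped Pointwise

namespace Cfsg.Agent.S4217

theorem exists_complement_aux (n : ℕ) : ∀ (G : Type*) [Group G] [Finite G] (A : Subgroup G) [A.Normal],
    IsMulCommutative A → Nat.card A = n →
    (∀ q : ℕ, q.Prime → ∃ U K : Subgroup G, A ≤ U ∧ ¬ q ∣ U.index ∧ K ⊓ A = ⊥ ∧ K ⊔ A = U) →
    ∃ K : Subgroup G, K ⊓ A = ⊥ ∧ K ⊔ A = ⊤ := by
  induction n using Nat.strong_induction_on with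
  | _ n ih =>
  intro G _ _ A _ hA hn hloc
  haveI := hA
  rcases eq_or_ne (Nat.card A) 1 with h1 | h1
  · exact ⟨⊤, by rw [Subgroup.card_eq_one.mp h1, inf_bot_eq], top_sup_eq _⟩
  obtain ⟨p, hp, hpA⟩ := Nat.exists_prime_and_dvd h1
  haveI := Fact.mk hp
  obtain ⟨k, m, hm, hkm⟩ := Nat.exists_eq_pow_mul_and_not_dvd (Nat.card_pos (α := A)).ne' p hp.ne_one
  have hcomm : ∀ {x y}, x ∈ A → y ∈ A → x * y = y * x := fun hx hy => setLike_mul_comm hx hy
  let part : ℕ → Subgroup G := fun j =>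
    { carrier := {x | x ∈ A ∧ x ^ j = 1}
      one_mem' := ⟨one_mem A, one_pow j⟩
      mul_mem' := fun {x y} hx hy => ⟨mul_mem hx.1 hy.1, by
        rw [Commute.mul_pow (show Commute x y from hcomm hx.1 hy.1), hx.2, hy.2, one_mul]⟩
      inv_mem' := fun {x} hx => ⟨inv_mem hx.1, by rw [inv_pow, hx.2, inv_one]⟩ }
  have hpart : ∀ j, (part j).Normal := fun j => ⟨fun x hx g =>
    ⟨‹A.Normal›.conj_mem x hx.1 g, by rw [conj_pow, hx.2, mul_one, mul_inv_cancel]⟩⟩
  have hpartle : ∀ j, part j ≤ A := fun j x hx => hx.1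
  by_cases hC : part m = ⊥
  · -- `A` is a `p`-group
    obtain ⟨U, K, hAU, hpU, hKA, hKU⟩ := hloc p hp
    have hcop : (Nat.card A).Coprime U.index := by
      have hm1 : m = 1 := by
        by_contra hm1
        obtain ⟨r, hr, hrm⟩ := Nat.exists_prime_and_dvd hm1
        haveI := Fact.mk hr
        obtain ⟨x, hx⟩ := exists_prime_orderOf_dvd_card' r (hkm ▸ dvd_mul_of_dvd_right hrm _ : r ∣ Nat.card A)
        have hx' : (x : G) ∈ part m := ⟨x.2, by
          rw [← orderOf_dvd_iff_pow_eq_one, Subgroup.orderOf_coe, hx]; exact hrm⟩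
        rw [hC, Subgroup.mem_bot, OneMemClass.coe_eq_one] at hx'
        rw [hx', orderOf_one] at hx
        exact hr.one_lt.ne hx
      rw [hkm, hm1, mul_one]
      exact ((hp.coprime_iff_not_dvd).mpr hpU).pow_left k
    obtain ⟨H, hH⟩ := Cfsg.Agent.Solvable.gaschutz_exists hAU hcop hKA (by rw [sup_comm, hKU])
    exact ⟨H, by rw [inf_comm]; exact disjoint_iff.mp hH.disjoint, by rw [sup_comm]; exact hH.sup_eq_top⟩
  · -- split off the `p`-part
    have hB : part (p ^ k) ≠ ⊥ := by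
      obtain ⟨x, hx⟩ := exists_prime_orderOf_dvd_card' p hpA
      have hk0 : k ≠ 0 := fun h => hm (by rwa [hkm, h, pow_zero, one_mul] at hpA)
      intro h
      have hx' : (x : G) ∈ part (p ^ k) := ⟨x.2, by
        rw [← orderOf_dvd_iff_pow_eq_one, Subgroup.orderOf_coe, hx]; exact dvd_pow_self p hk0⟩
      rw [h, Subgroup.mem_bot, OneMemClass.coe_eq_one] at hx'
      rw [hx', orderOf_one] at hx
      exact hp.one_lt.ne hx
    have step : ∀ j, part j ≠ ⊥ → ∃ K : Subgroup G, part j ≤ K ∧ K ⊓ A = part j ∧ K ⊔ A = ⊤ := by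
      intro j hj
      haveI := hpart j
      let π := QuotientGroup.mk' (part j)
      haveI : (A.map π).Normal := Subgroup.Normal.map inferInstance π (QuotientGroup.mk'_surjective _)
      have hker : π.ker = part j := QuotientGroup.ker_mk' _
      have hcA : IsMulCommutative (A.map π) := ⟨⟨fun a b => Subtype.ext (by
        obtain ⟨_, x, hx, rfl⟩ := a
        obtain ⟨_, y, hy, rfl⟩ := b
        show π x * π y = π y * π x
        rw [← map_mul, ← map_mul, hcomm hx hy])⟩⟩
      have hlt : Nat.card (A.map π) < n := by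
        rw [← hn]
        have h := (part j).card_mul_index
        have h2 : Nat.card (A.map π) = (part j).relIndex A := by
          rw [← Subgroup.relIndex_bot_left, ← Subgroup.map_bot π, Subgroup.relIndex_map_map, hker, bot_sup_eq,
            sup_eq_left.mpr (hpartle j)]
        have h3 : Nat.card (part j) * (part j).relIndex A = Nat.card A := by
          rw [← Subgroup.relIndex_bot_left, Subgroup.relIndex_mul_relIndex _ _ _ bot_le (hpartle j), Subgroup.relIndex_bot_left]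
        rw [h2, ← h3]
        exact lt_mul_left (Nat.pos_of_ne_zero Subgroup.index_ne_zero_of_finite) (Subgroup.one_lt_card_iff_ne_bot _ |>.mpr hj)
      obtain ⟨K, hK1, hK2⟩ := ih _ hlt (G ⧸ part j) (A.map π) hcA rfl (fun q hq => by
        obtain ⟨U, K, hAU, hqU, hKA, hKU⟩ := hloc q hq
        refine ⟨U.map π, K.map π, Subgroup.map_mono hAU, fun h => hqU (h.trans ?_), ?_, by rw [← Subgroup.map_sup, hKU]⟩
        · exact Subgroup.index_map_dvd _ (QuotientGroup.mk'_surjective _)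
        · rw [eq_bot_iff]
          rintro _ ⟨⟨x, hx, rfl⟩, ⟨y, hy, hxy⟩⟩
          have hm' : y⁻¹ * x ∈ part j := hker ▸ (MonoidHom.mem_ker.mpr (by rw [map_mul, map_inv, hxy, inv_mul_cancel]))
          have hxA : x ∈ A := by
            have := mul_mem hy (hpartle j hm')
            simpa using this
          have : x ∈ K ⊓ A := ⟨hx, hxA⟩
          rw [hKA, Subgroup.mem_bot] at this
          rw [Subgroup.mem_bot, this, map_one])
      refine ⟨K.comap π, ?_, ?_, ?_⟩
      · exact hker.symm.trans_le (Subgroup.ker_le_comap _ _)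
      · refine le_antisymm ?_ (le_inf (hker.symm.trans_le (Subgroup.ker_le_comap _ _)) (hpartle j))
        rintro x ⟨hx, hxA⟩
        have : π x ∈ K ⊓ A.map π := ⟨hx, Subgroup.mem_map_of_mem π hxA⟩
        rw [hK1, Subgroup.mem_bot] at this
        exact hker ▸ MonoidHom.mem_ker.mpr this
      · have hA' : (A.map π).comap π = A := Subgroup.comap_map_eq_self (hker.trans_le (hpartle j))
        rw [← hA', Subgroup.comap_sup_eq _ _ _ (QuotientGroup.mk'_surjective _), hK2, Subgroup.comap_top]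
    obtain ⟨K₁, hB1, hK1, hK1'⟩ := step _ hB
    obtain ⟨K₂, hC2, hK2, hK2'⟩ := step _ hC
    have hco : Nat.Coprime (p ^ k) m := ((hp.coprime_iff_not_dvd).mpr hm).pow_left k
    have hdec : ∀ a ∈ A, ∃ b ∈ part (p ^ k), ∃ c ∈ part m, a = b * c := by
      intro a ha
      have hord : a ^ (p ^ k * m) = 1 := by
        rw [← hkm, ← orderOf_dvd_iff_pow_eq_one, ← Subgroup.orderOf_mk a ha]
        exact orderOf_dvd_natCard _
      have h := Nat.gcd_eq_gcd_ab (p ^ k) m
      rw [hco.gcd_eq_one, Nat.cast_one] at h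
      refine ⟨a ^ ((m : ℤ) * (p ^ k).gcdB m), ⟨zpow_mem ha _, ?_⟩,
        a ^ (((p ^ k : ℕ) : ℤ) * (p ^ k).gcdA m), ⟨zpow_mem ha _, ?_⟩, ?_⟩
      · rw [← zpow_natCast, ← zpow_mul]
        rw [show (m : ℤ) * (p ^ k).gcdB m * ((p ^ k : ℕ) : ℤ) = ((p ^ k * m : ℕ) : ℤ) * (p ^ k).gcdB m by push_cast; ring,
          zpow_mul, zpow_natCast, hord, one_zpow]
      · rw [← zpow_natCast, ← zpow_mul]
        rw [show ((p ^ k : ℕ) : ℤ) * (p ^ k).gcdA m * (m : ℤ) = ((p ^ k * m : ℕ) : ℤ) * (p ^ k).gcdA m by push_cast; ring,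
          zpow_mul, zpow_natCast, hord, one_zpow]
      · rw [← zpow_add, add_comm, ← h, zpow_one]
    refine ⟨K₁ ⊓ K₂, ?_, ?_⟩
    · rw [eq_bot_iff]
      rintro x ⟨⟨hx1, hx2⟩, hxA⟩
      have e1 : x ∈ part (p ^ k) := hK1 ▸ ⟨hx1, hxA⟩
      have e2 : x ∈ part m := hK2 ▸ ⟨hx2, hxA⟩
      rw [Subgroup.mem_bot, ← pow_one x, ← hco.gcd_eq_one]
      exact pow_gcd_eq_one.mpr ⟨e1.2, e2.2⟩
    · rw [eq_top_iff]
      intro g _
      have hg : g ∈ K₁ ⊔ A := hK1' ▸ Subgroup.mem_top g
      rw [Subgroup.mem_sup_of_normal_right] at hg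
      obtain ⟨k₁, hk₁, a, ha, rfl⟩ := hg
      obtain ⟨b, hb, c, hc, rfl⟩ := hdec a ha
      have hk : k₁ ∈ K₂ ⊔ A := hK2' ▸ Subgroup.mem_top k₁
      rw [Subgroup.mem_sup_of_normal_right] at hk
      obtain ⟨k₂, hk₂, a', ha', rfl⟩ := hk
      obtain ⟨b', hb', c', hc', rfl⟩ := hdec a' ha'
      refine mul_mem ?_ (Subgroup.mem_sup_right ha)
      have e : k₂ * (b' * c') = k₂ * c' * b' := by
        rw [hcomm (hpartle _ hb') (hpartle _ hc'), mul_assoc]
      rw [e] at hk₁ ⊢
      refine mul_mem (Subgroup.mem_sup_left ⟨?_, mul_mem hk₂ (hC2 hc')⟩) (Subgroup.mem_sup_right (hpartle _ hb'))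
      simpa using mul_mem hk₁ (inv_mem (hB1 hb'))

/-- Let `A` be an abelian normal subgroup of the finite group `G`. Then `A` has a complement in `G` if and only if, for every prime `p` dividing the index of `A`, there are a Sylow `p`-subgroup `S` of `G/A` and a subgroup `K` of `G` with `K ∩ A = 1` and `KA` equal to the preimage of `S` (that is, `A` has a complement in the preimage of a Sylow `p`-subgroup of `G/A`). -/
theorem result {G : Type*} [Group G] [Finite G] (A : Subgroup G) [A.Normal] (hA : IsMulCommutative A) : (∃ K : Subgroup G, K.IsComplement' A) ↔ ∀ p : ℕ, p.Prime → p ∣ A.index → ∃ (S : Sylow p (G ⧸ A)) (K : Subgroup G), K ⊓ A = ⊥ ∧ K ⊔ A = (S : Subgroup (G ⧸ A)).comap (QuotientGroup.mk' A) := by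
  constructor
  · rintro ⟨K, hK⟩ p hp hdvd
    haveI := Fact.mk hp
    obtain ⟨S⟩ : Nonempty (Sylow p (G ⧸ A)) := inferInstance
    refine ⟨S, K ⊓ (S : Subgroup (G ⧸ A)).comap (QuotientGroup.mk' A), ?_, ?_⟩
    · rw [eq_bot_iff, ← disjoint_iff.mp hK.disjoint]
      exact inf_le_inf_right _ inf_le_left
    · refine le_antisymm (sup_le inf_le_right fun a ha => ?_) fun x hx => ?_
      · rw [Subgroup.mem_comap, QuotientGroup.mk'_apply, (QuotientGroup.eq_one_iff a).mpr ha]
        exact one_mem _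
      · have hg : x ∈ K ⊔ A := hK.sup_eq_top ▸ Subgroup.mem_top x
        rw [Subgroup.mem_sup_of_normal_right] at hg
        obtain ⟨k, hk, a, ha, rfl⟩ := hg
        refine mul_mem (Subgroup.mem_sup_left ⟨hk, ?_⟩) (Subgroup.mem_sup_right ha)
        show QuotientGroup.mk' A k ∈ (S : Subgroup (G ⧸ A))
        rw [Subgroup.mem_comap, map_mul, show QuotientGroup.mk' A a = 1 from (QuotientGroup.eq_one_iff a).mpr ha, mul_one] at hx
        exact hx
  · intro h
    obtain ⟨K, hK1, hK2⟩ := exists_complement_aux _ G A hA rfl (fun q hq => by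
      by_cases hd : q ∣ A.index
      · haveI := Fact.mk hq
        obtain ⟨S, K, h1, h2⟩ := h q hq hd
        refine ⟨_, K, le_sup_right, ?_, h1, rfl⟩
        rw [h2, Subgroup.index_comap_of_surjective _ (QuotientGroup.mk'_surjective A)]
        exact S.not_dvd_index
      · exact ⟨A, ⊥, le_rfl, hd, bot_inf_eq _, bot_sup_eq _⟩)
    refine ⟨K, Subgroup.isComplement'_of_disjoint_and_mul_eq_univ (disjoint_iff.mpr hK1) ?_⟩
    rw [← Subgroup.mul_normal, hK2, Subgroup.coe_top]

end Cfsg.Agent.S4217
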