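import Cfsg.Statements.S4218
import Cfsg.Agent.Lib.HallHigman.PSolvable

set_option autoImplicit false
open Cfsg
open scoped commutatorElement

namespace Cfsg.Agent.S4218

/-- Let `G` be a finite `p`-solvable group, `N₀ = O_{p'}(G)`, `P₁ = O_{p',p}(G)`, and let `F ≤ P₁` be the preimage of the Frattini subgroup of `P₁/N₀`. Then an element `g` of `G` induces the identity on `P₁/F` by conjugation (that is, `g x g⁻¹ x⁻¹ ∈ F` for all `x ∈ P₁`) if and only if `g ∈ P₁`: the group `G/P₁` acts faithfully on `P₁/F`. -/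
theorem result {G : Type*} [Group G] [Finite G] {p : ℕ} [Fact p.Prime] (hG : Cfsg.IsPSolvable p G) (g : G) : (∀ x ∈ Cfsg.pPrimePCore p G, g * x * g⁻¹ * x⁻¹ ∈ ((frattini (↥(Cfsg.pPrimePCore p G) ⧸ (Cfsg.pPrimeCore p G).subgroupOf (Cfsg.pPrimePCore p G))).comap (QuotientGroup.mk' ((Cfsg.pPrimeCore p G).subgroupOf (Cfsg.pPrimePCore p G)))).map (Cfsg.pPrimePCore p G).subtype) ↔ g ∈ Cfsg.pPrimePCore p G := by
  set N₀ := Cfsg.pPrimeCore p G with hN₀
  set P₁ := Cfsg.pPrimePCore p G with hP₁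
  set f := QuotientGroup.mk' N₀ with hf
  set M : Subgroup (G ⧸ N₀) := Cfsg.pCore p (G ⧸ N₀) with hM
  set q := QuotientGroup.mk' (N₀.subgroupOf P₁)
  have hfM : ∀ a : P₁, f (a : G) ∈ M := fun a => a.2
  let φ : P₁ →* M := (f.comp P₁.subtype).codRestrict M hfM
  have hφ : Function.Surjective φ := by
    rintro ⟨y, hy⟩
    obtain ⟨x, rfl⟩ := QuotientGroup.mk'_surjective N₀ y
    exact ⟨⟨x, hy⟩, rfl⟩
  have hker : φ.ker = N₀.subgroupOf P₁ := by
    ext a
    rw [MonoidHom.mem_ker, Subgroup.mem_subgroupOf, Subtype.ext_iff]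
    exact QuotientGroup.eq_one_iff (a : G)
  let ψ : (P₁ ⧸ N₀.subgroupOf P₁) →* M := QuotientGroup.lift _ φ hker.ge
  have hψ : Function.Surjective ψ := fun y => by
    obtain ⟨a, rfl⟩ := hφ y; exact ⟨q a, rfl⟩
  have hψk : ψ.ker = ⊥ := by
    rw [eq_bot_iff]
    intro z hz
    obtain ⟨a, rfl⟩ := QuotientGroup.mk'_surjective (N₀.subgroupOf P₁) z
    have : a ∈ φ.ker := hz
    rw [hker] at this
    exact (QuotientGroup.eq_one_iff a).mpr this
  have hfr : (frattini (P₁ ⧸ N₀.subgroupOf P₁)).map ψ = frattini M :=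
    Cores.frattini_map_of_ker_le ψ hψ (by rw [hψk]; exact bot_le)
  have hmem : ∀ a : P₁, a ∈ (frattini (P₁ ⧸ N₀.subgroupOf P₁)).comap q ↔ φ a ∈ frattini M := by
    intro a
    rw [← hfr, Subgroup.mem_comap]
    refine ⟨fun h => ⟨_, h, rfl⟩, ?_⟩
    rintro ⟨z, hz, he⟩
    have : z = q a := (MonoidHom.ker_eq_bot_iff ψ).mp hψk he
    exact this ▸ hz
  have hn : P₁.Normal := inferInstance
  constructor
  · intro h
    have hC := HallHigman.centralizer_pCore_quotient_le (Solvable.isPiSeparable_of_isPSolvable hG)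
    refine HallHigman.mem_pCore_of_commutator_mem_frattini (g := f g) hC fun y hy => ?_
    obtain ⟨x, rfl⟩ := QuotientGroup.mk'_surjective N₀ y
    obtain ⟨a, ha, hae⟩ := h x hy
    refine ⟨φ a, (hmem a).mp ha, ?_⟩
    show f (a : G) = _
    rw [show (a : G) = g * x * g⁻¹ * x⁻¹ from hae]
    simp only [map_mul, map_inv, hf]
  · intro hg x hx
    refine ⟨⟨g, hg⟩ * ⟨x, hx⟩ * ⟨g, hg⟩⁻¹ * ⟨x, hx⟩⁻¹, (hmem _).mpr ?_, rfl⟩
    have : Group.IsNilpotent M := (Cores.isPGroup_pCore p _).isNilpotent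
    refine Cores.commutator_le_frattini ?_
    have h1 := Subgroup.commutator_mem_commutator (Subgroup.mem_top (φ ⟨g, hg⟩))
      (Subgroup.mem_top (φ ⟨x, hx⟩))
    rw [← commutator_def, commutatorElement_def] at h1
    rw [map_mul, map_mul, map_mul, map_inv, map_inv]
    exact h1

end Cfsg.Agent.S4218
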