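import Cfsg.Statements.S4219
import Cfsg.Agent.EqLemmas

set_option autoImplicit false
open Cfsg

namespace Cfsg.Agent.S4219

/-- Let a finite group `G` act `t`-fold transitively on a finite set, let `H` be the stabilizer of `t` distinct points and `P` a Sylow `p`-subgroup of `H`. Then the normalizer of `P` in `G` is `t`-fold transitive on the fixed points of `P`: any `t` distinct fixed points of `P` can be carried to any other `t` distinct fixed points of `P` by an element normalizing `P`. -/
theorem result {G : Type*} [Group G] [Finite G] {α : Type*} [Fintype α] [MulAction G α] {t : ℕ} (hG : MulAction.IsMultiplyPretransitive G α t) (x : Fin t ↪ α) {p : ℕ} [Fact p.Prime] (P : Sylow p (MulAction.stabilizer G x)) (a b : Fin t ↪ α) (ha : ∀ i, a i ∈ MulAction.fixedPoints ((P : Subgroup (MulAction.stabilizer G x)).map (MulAction.stabilizer G x).subtype) α) (hb : ∀ i, b i ∈ MulAction.fixedPoints ((P : Subgroup (MulAction.stabilizer G x)).map (MulAction.stabilizer G x).subtype) α) : ∃ g ∈ Subgroup.normalizer ((((P :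 Subgroup (MulAction.stabilizer G x)).map (MulAction.stabilizer G x).subtype) : Subgroup G) : Set G), g • a = b := by
  classical
  set P₀ : Subgroup G := (P : Subgroup (MulAction.stabilizer G x)).map (MulAction.stabilizer G x).subtype with hP₀
  have hp0 : IsPGroup p P₀ := P.isPGroup'.map _
  have hcard : Nat.card P₀ = p ^ (Nat.card (MulAction.stabilizer G x)).factorization p := by
    rw [hP₀, Subgroup.card_subtype]
    exact P.card_eq_multiplicity
  haveI : MulAction.IsPretransitive G (Fin t ↪ α) := hG
  have fixed : ∀ c : Fin t ↪ α, (∀ i, c i ∈ MulAction.fixedPoints P₀ α) → P₀ ≤ MulAction.stabilizer G c := by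
    intro c hc q hq
    rw [MulAction.mem_stabilizer_iff]
    ext i
    exact hc i ⟨q, hq⟩
  have cardStab : ∀ c : Fin t ↪ α, Nat.card (MulAction.stabilizer G c) = Nat.card (MulAction.stabilizer G x) := by
    intro c
    obtain ⟨g, hg⟩ := MulAction.exists_smul_eq G x c
    rw [← hg, MulAction.stabilizer_smul_eq_stabilizer_map_conj, Subgroup.card_map_of_injective (MulEquiv.injective _)]
  obtain ⟨g, hg⟩ := MulAction.exists_smul_eq G a b
  set P₁ : Subgroup G := P₀.map (MulAut.conj g).toMonoidHom with hP₁
  have h1 : P₁ ≤ MulAction.stabilizer G b := by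
    rw [← hg, MulAction.stabilizer_smul_eq_stabilizer_map_conj]
    exact Subgroup.map_mono (fixed a ha)
  have h0 : P₀ ≤ MulAction.stabilizer G b := fixed b hb
  have hc1 : Nat.card P₁ = Nat.card P₀ := Subgroup.card_map_of_injective (MulEquiv.injective _)
  let S₀ : Sylow p (MulAction.stabilizer G b) := Sylow.ofCard (P₀.subgroupOf _)
    (by rw [Nat.card_congr (Subgroup.subgroupOfEquivOfLe h0).toEquiv, hcard, cardStab b])
  let S₁ : Sylow p (MulAction.stabilizer G b) := Sylow.ofCard (P₁.subgroupOf _)
    (by rw [Nat.card_congr (Subgroup.subgroupOfEquivOfLe h1).toEquiv, hc1, hcard, cardStab b])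
  obtain ⟨h, hh⟩ := MulAction.exists_smul_eq (MulAction.stabilizer G b) S₁ S₀
  have hh' : P₀ = P₁.map (MulAut.conj (h : G)).toMonoidHom := by
    have e : ((h • S₁ : Sylow p _) : Subgroup (MulAction.stabilizer G b)) = P₀.subgroupOf _ := by rw [hh]; rfl
    have e2 := congrArg (Subgroup.map (MulAction.stabilizer G b).subtype) e
    rw [Subgroup.map_subgroupOf_eq_of_le h0] at e2
    rw [← e2]
    ext y
    simp only [Sylow.coe_subgroup_smul, S₁, Subgroup.mem_map]
    constructor
    · rintro ⟨z, hz, rfl⟩
      obtain ⟨w, hw, rfl⟩ := Subgroup.mem_map.mp hz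
      exact ⟨w, hw, rfl⟩
    · rintro ⟨w, hw, rfl⟩
      exact ⟨h * ⟨w, h1 hw⟩ * h⁻¹, Subgroup.mem_map.mpr ⟨⟨w, h1 hw⟩, hw, rfl⟩, rfl⟩
  refine ⟨(h : G) * g, ?_, ?_⟩
  · rw [Subgroup.mem_normalizer_iff_map_conj_eq]
    conv_rhs => rw [hh', hP₁, Subgroup.map_map]
    congr 1
    ext y; simp [mul_assoc]
  · rw [mul_smul, hg]; exact h.2

end Cfsg.Agent.S4219
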