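import Cfsg.Statements.S4220
import Cfsg.Agent.Lib.MultiTrans.Basic
import Cfsg.Agent.Lib.MultiTrans.Orbits
import Cfsg.Agent.Lib.MultiTrans.Symmetric

set_option autoImplicit false
open Cfsg

namespace Cfsg.Agent.S4220

open Equiv MulAction MultiTrans
open scoped Pointwise Nat commutatorElement

variable {α : Type*} [Fintype α] [DecidableEq α]

/-- A useful element supported on `Δ`. -/
theorem extract {G : Subgroup (Perm α)} {P : Subgroup (Perm α)} {Δ : Finset α} {p : ℕ} (h : Orbs P Δ p)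
    {g : Subgroup.normalizer (P : Set (Perm α))} (hgG : (g : Perm α) ∈ G) (hgD : ∀ x, (g : Perm α) x ∈ Δ ↔ x ∈ Δ)
    (hg : Orbs.Keeps Δ g) (hc : Orbs.cj g = 1) (t : Perm {x // x ∈ Δ}) (ht : (g : Perm α).subtypePerm hgD = t) :
    ∃ k ∈ G, k.cycleType = (t ^ p).cycleType := by
  refine ⟨(g : Perm α) ^ p, G.pow_mem hgG p, ?_⟩
  have heq : (g : Perm α) ^ p = Perm.ofSubtype (t ^ p) := by
    refine Equiv.ext fun x => ?_
    by_cases hx : x ∈ Δ
    · rw [Perm.ofSubtype_apply_of_mem _ hx, ← ht, Perm.subtypePerm_pow]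
      rfl
    · rw [Perm.ofSubtype_apply_of_not_mem _ hx, h.pow_fixes hg hc hx]
  rw [heq]
  exact Perm.cycleType_ofSubtype

theorem cycleType_pow_prime {D : Type*} [Fintype D] [DecidableEq D] (t : Perm D) {p q : ℕ} (hq : q.Prime)
    (ht : t.cycleType = ({q} : Multiset ℕ)) (hco : q.Coprime p) : (t ^ p).cycleType = ({q} : Multiset ℕ) := by
  have ho : orderOf t = q := by rw [← Perm.lcm_cycleType, ht, Multiset.lcm_singleton, normalize_eq]
  have hop : orderOf (t ^ p) = q := by rw [Nat.Coprime.orderOf_pow (ho ▸ hco), ho]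
  obtain ⟨j, hj⟩ := Perm.cycleType_prime_order (σ := t ^ p) (by rw [hop]; exact hq)
  rw [hop] at hj
  have hs : (t ^ p).support = t.support := Perm.support_pow_coprime (by rw [ho]; exact hco.symm)
  have h1 := Perm.sum_cycleType (t ^ p)
  rw [hj, hs, ← Perm.sum_cycleType, ht, Multiset.sum_replicate, Multiset.sum_singleton, smul_eq_mul] at h1
  have : j + 1 = 1 := Nat.eq_of_mul_eq_mul_right hq.pos (h1.trans (one_mul q).symm)
  rw [hj, this]; rfl

/-- Let `n = kp + r` with `p` prime, `1 ≤ k < p` and `r > k`, excluding the case `k = 1, r = 2`. Then a permutation group of degree `n` that is `(r + 1)`-fold transitive contains the alternating group. -/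
theorem result {α : Type*} [Fintype α] [DecidableEq α] (G : Subgroup (Equiv.Perm α)) {k p r : ℕ} (hp : p.Prime) (hn : Fintype.card α = k * p + r) (hk : 1 ≤ k) (hpk : k < p) (hrk : k < r) (hex : ¬ (k = 1 ∧ r = 2)) (hG : MulAction.IsMultiplyPretransitive G α (r + 1)) : alternatingGroup α ≤ G := by
  classical
  haveI := Fact.mk hp
  set n := Fintype.card α with hndef
  by_cases hsmall : k = 1 ∧ p ≤ 3
  · obtain ⟨rfl, hp3⟩ := hsmall
    refine le_of_tail (m := r + 1) (by omega) (by have := hp.two_le; omega) hG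
  have hr3 : 3 ≤ r := by omega
  have hp3 : 3 ≤ p := by
    rcases Nat.lt_or_ge p 3 with hlt | h
    · exfalso; omega
    · exact h
  have hpos : p ≤ k * p := Nat.le_mul_of_pos_left p hk
  have hmn : r + 1 ≤ Fintype.card α := by omega
  have hGr : IsMultiplyPretransitive G α r :=
    isMultiplyPretransitive_of_le (n := r + 1) (Nat.le_succ r) (by rwa [Nat.card_eq_fintype_card])
  obtain ⟨e⟩ : Nonempty (Fin r ↪ α) := Function.Embedding.nonempty_of_card_le (by rw [Fintype.card_fin]; omega)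
  set Δ : Finset α := Finset.univ.map e with hΔ
  have hΔc : Δ.card = r := by rw [hΔ, Finset.card_map, Finset.card_univ, Fintype.card_fin]
  have hΔm : ∀ x, x ∈ Δ ↔ ∃ i, e i = x := fun x => by simp [hΔ]
  have hcompl : Δᶜ.card = k * p := by rw [Finset.card_compl, hΔc]; omega
  -- the point stabiliser
  let S : Subgroup (Perm α) :=
    { carrier := {g | g ∈ G ∧ ∀ x ∈ Δ, g x = x}
      one_mem' := ⟨G.one_mem, fun _ _ => rfl⟩
      mul_mem' := fun {a b} ha hb => ⟨G.mul_mem ha.1 hb.1, fun x hx => by rw [Perm.mul_apply, hb.2 x hx, ha.2 x hx]⟩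
      inv_mem' := fun {a} ha => ⟨G.inv_mem ha.1, fun x hx => Perm.inv_eq_iff_eq.mpr (ha.2 x hx).symm⟩ }
  have htrans : ∀ x y, x ∉ Δ → y ∉ Δ → ∃ g ∈ S, g x = y := by
    intro x y hx hy
    have hx' : x ∉ Set.range e := fun ⟨i, hi⟩ => hx ((hΔm x).mpr ⟨i, hi⟩)
    have hy' : y ∉ Set.range e := fun ⟨i, hi⟩ => hy ((hΔm y).mpr ⟨i, hi⟩)
    obtain ⟨g, hg⟩ := hG.exists_smul_eq (finSuccEquivLast.toEmbedding.trans (e.optionElim x hx'))
      (finSuccEquivLast.toEmbedding.trans (e.optionElim y hy'))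
    have hg' : ∀ i, (g : Perm α) ((finSuccEquivLast.toEmbedding.trans (e.optionElim x hx')) i) =
        (finSuccEquivLast.toEmbedding.trans (e.optionElim y hy')) i :=
      fun i => congrArg (fun f : Fin (r + 1) ↪ α => f i) hg
    refine ⟨g, ⟨g.2, fun z hz => ?_⟩, ?_⟩
    · obtain ⟨i, rfl⟩ := (hΔm z).mp hz
      simpa using hg' i.castSucc
    · simpa using hg' (Fin.last r)
  have hSout : ∀ (g : S) x, x ∉ Δ → (g : Perm α) x ∉ Δ := fun g x hx hgx => hx (by
    have h1 := g.2.2 _ hgx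
    have h2 : (g : Perm α) x = x := (g : Perm α).injective h1
    rwa [h2] at hgx)
  obtain ⟨P'⟩ := (inferInstance : Nonempty (Sylow p S))
  set P : Subgroup (Perm α) := (P' : Subgroup S).map S.subtype with hPdef
  have hPS : P ≤ S := Subgroup.map_subtype_le _
  have hP : Orbs P Δ p := by
    refine ⟨hp, P'.isPGroup'.map _, fun u hu x hx => (hPS hu).2 x hx, fun x hx => ?_⟩
    obtain ⟨i, hi⟩ := (P'.isPGroup'.map S.subtype).card_orbit x
    rw [← hPdef] at hi
    have hle : Nat.card (orbit P x) ≤ k * p := by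
      rw [← hcompl, ← Nat.card_eq_finsetCard]
      refine Nat.card_le_card_of_injective (fun z => (⟨z.1, Finset.mem_compl.mpr ?_⟩ : (Δᶜ : Finset α))) fun a b hab => Subtype.ext (congrArg (fun w : (Δᶜ : Finset α) => w.1) hab)
      obtain ⟨u, hu⟩ := z.2
      exact hu ▸ hSout ⟨u, hPS u.2⟩ x hx
    have hi2 : i < 2 := (Nat.pow_lt_pow_iff_right hp.one_lt).mp (by
      rw [← hi, sq]; exact lt_of_le_of_lt hle (Nat.mul_lt_mul_of_pos_right hpk hp.pos))
    have hi0 : i ≠ 0 := by
      rintro rfl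
      rw [pow_zero] at hi
      have hfix : (P' : Subgroup S) ≤ stabilizer S x := by
        intro u hu
        haveI := (Nat.card_eq_one_iff_unique.mp hi).1
        exact congrArg (fun z : orbit P x => z.1) (Subsingleton.elim
          (⟨_, mem_orbit x (⟨u, Subgroup.mem_map_of_mem _ hu⟩ : P)⟩ : orbit P x) ⟨x, mem_orbit_self x⟩)
      have hidx : (stabilizer S x).index = k * p := by
        rw [index_stabilizer, ← hcompl, ← Set.ncard_coe_finset]
        congr 1
        ext y
        constructor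
        · rintro ⟨g, rfl⟩; exact Finset.mem_coe.mpr (Finset.mem_compl.mpr (hSout g x hx))
        · intro hy
          obtain ⟨g, hg, hgy⟩ := htrans x y hx (Finset.mem_compl.mp hy)
          exact ⟨⟨g, hg⟩, hgy⟩
      exact P'.not_dvd_index ((hidx ▸ dvd_mul_left p k).trans (Subgroup.index_dvd_of_le hfix))
    rw [hi, show i = 1 by omega, pow_one]
  -- the normaliser
  let N : Subgroup (Perm α) :=
    { carrier := {g | g ∈ G ∧ g ∈ Subgroup.normalizer (P : Set (Perm α)) ∧ ∀ x, g x ∈ Δ ↔ x ∈ Δ}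
      one_mem' := ⟨G.one_mem, one_mem _, fun _ => Iff.rfl⟩
      mul_mem' := fun {a b} ha hb => ⟨G.mul_mem ha.1 hb.1, mul_mem ha.2.1 hb.2.1, fun x => (ha.2.2 (b x)).trans (hb.2.2 x)⟩
      inv_mem' := fun {a} ha => ⟨G.inv_mem ha.1, inv_mem ha.2.1, fun x => by
        have := ha.2.2 (a⁻¹ x)
        rw [← Perm.mul_apply, mul_inv_cancel, Perm.one_apply] at this
        exact this.symm⟩ }
  let ι : N →* Subgroup.normalizer (P : Set (Perm α)) := Subgroup.inclusion fun g hg => hg.2.1
  let ρ : N →* Perm {x // x ∈ Δ} :=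
    { toFun := fun g => (g : Perm α).subtypePerm g.2.2.2
      map_one' := Equiv.ext fun _ => rfl
      map_mul' := fun a b => Equiv.ext fun _ => rfl }
  -- Frattini argument
  have hρ : Function.Surjective ρ := by
    intro σ
    let e' : Fin r ↪ α := ⟨fun i => σ ⟨e i, (hΔm _).mpr ⟨i, rfl⟩⟩, fun i j hij =>
      e.injective (congrArg Subtype.val (σ.injective (Subtype.ext hij)))⟩
    obtain ⟨g, hg⟩ := hGr.exists_smul_eq e e'
    have hge : ∀ z : {x // x ∈ Δ}, (g : Perm α) z = σ z := by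
      intro z
      obtain ⟨i, hi⟩ := (hΔm z.1).mp z.2
      have hz : z = ⟨e i, (hΔm _).mpr ⟨i, rfl⟩⟩ := Subtype.ext hi.symm
      rw [hz]
      exact congrArg (fun f : Fin r ↪ α => f i) hg
    have hgD : ∀ x, (g : Perm α) x ∈ Δ ↔ x ∈ Δ := by
      intro x
      refine ⟨fun hgx => ?_, fun hx => (hge ⟨x, hx⟩) ▸ (σ ⟨x, hx⟩).2⟩
      obtain ⟨z, hz⟩ := σ.surjective ⟨_, hgx⟩
      have := (hge z).trans (congrArg Subtype.val hz)
      exact (g : Perm α).injective this ▸ z.2
    have hgS : (g : Perm α) ∈ Subgroup.normalizer (S : Set (Perm α)) := by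
      rw [Subgroup.mem_normalizer_iff]
      intro u
      constructor
      · intro hu
        refine ⟨G.mul_mem (G.mul_mem g.2 hu.1) (G.inv_mem g.2), fun x hx => ?_⟩
        have hx' : (g : Perm α)⁻¹ x ∈ Δ := (hgD _).mp (by rwa [← Perm.mul_apply, mul_inv_cancel, Perm.one_apply])
        rw [Perm.mul_apply, Perm.mul_apply, hu.2 _ hx', ← Perm.mul_apply, mul_inv_cancel, Perm.one_apply]
      · intro hu
        refine ⟨by simpa [mul_assoc] using G.mul_mem (G.mul_mem (G.inv_mem g.2) hu.1) g.2, fun x hx => ?_⟩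
        have := hu.2 _ ((hgD x).mpr hx)
        rw [Perm.mul_apply, Perm.mul_apply, ← Perm.mul_apply (g : Perm α)⁻¹, inv_mul_cancel, Perm.one_apply] at this
        exact (g : Perm α).injective this
    let θ : MulAut S := Subgroup.normalizerMonoidHom S ⟨g, hgS⟩
    obtain ⟨s, hs⟩ := MulAction.exists_smul_eq S P' (θ • P')
    have key : ∀ x ∈ (P' : Subgroup S), s⁻¹ * θ x * s ∈ (P' : Subgroup S) := by
      intro x hx
      have h1 : θ x ∈ ((θ • P' : Sylow p S) : Subgroup S) := Subgroup.smul_mem_pointwise_smul x θ _ hx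
      rw [← hs] at h1
      obtain ⟨z, hz, hzx⟩ := h1
      have : s * z * s⁻¹ = θ x := hzx
      rw [← this, show s⁻¹ * (s * z * s⁻¹) * s = z by group]
      exact hz
    set w : Perm α := (s : Perm α)⁻¹ * g with hw
    have hwP : ∀ y ∈ P, w * y * w⁻¹ ∈ P := by
      rintro _ ⟨x, hx, rfl⟩
      refine ⟨s⁻¹ * θ x * s, key x hx, ?_⟩
      simp only [map_mul, map_inv, Subgroup.subtype_apply, hw, θ]
      show (s : Perm α)⁻¹ * ((g : Perm α) * x * (g : Perm α)⁻¹) * s = _
      group
    have hwn : w ∈ Subgroup.normalizer (P : Set (Perm α)) := by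
      rw [Subgroup.mem_normalizer_iff]
      let f : P → P := fun y => ⟨w * y * w⁻¹, hwP y y.2⟩
      have hf : Function.Injective f := fun a b hab => Subtype.ext (by simpa [f] using congrArg Subtype.val hab)
      intro y
      refine ⟨hwP y, fun hy => ?_⟩
      obtain ⟨z, hz⟩ := Finite.injective_iff_surjective.mp hf ⟨_, hy⟩
      have : w * (z : Perm α) * w⁻¹ = w * y * w⁻¹ := congrArg Subtype.val hz
      exact mul_left_cancel (mul_right_cancel this) ▸ z.2
    have hwD : ∀ z : {x // x ∈ Δ}, w z = σ z := fun z => by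
      rw [hw, Perm.mul_apply, hge]
      exact Perm.inv_eq_iff_eq.mpr (s.2.2 _ (σ z).2).symm
    have hwD' : ∀ x, w x ∈ Δ ↔ x ∈ Δ := by
      intro x
      refine ⟨fun hx => ?_, fun hx => (hwD ⟨x, hx⟩) ▸ (σ ⟨x, hx⟩).2⟩
      obtain ⟨z, hz⟩ := σ.surjective ⟨_, hx⟩
      have := (hwD z).trans (congrArg Subtype.val hz)
      exact w.injective this ▸ z.2
    exact ⟨⟨w, G.mul_mem (G.inv_mem s.2.1) g.2, hwn, hwD'⟩, Equiv.ext fun z => Subtype.ext (hwD z)⟩
  -- the action on the orbits
  let Orb := {s : Set α // ∃ x, x ∉ Δ ∧ orbit P x = s}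
  have himg : ∀ (g : N) (x : α), (g : Perm α) '' orbit P x = orbit P ((g : Perm α) x) := by
    intro g x
    ext y
    constructor
    · rintro ⟨_, ⟨u, rfl⟩, rfl⟩
      refine ⟨⟨_, (Subgroup.mem_normalizer_iff.mp g.2.2.1 u).mp u.2⟩, ?_⟩
      show ((g : Perm α) * u * (g : Perm α)⁻¹) ((g : Perm α) x) = (g : Perm α) ((u : Perm α) x)
      simp
    · rintro ⟨u, rfl⟩
      have hu : (g : Perm α)⁻¹ * u * (g : Perm α) ∈ P := by
        rw [Subgroup.mem_normalizer_iff.mp g.2.2.1]
        simp [mul_assoc]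
      refine ⟨_, ⟨⟨_, hu⟩, rfl⟩, ?_⟩
      show (g : Perm α) (((g : Perm α)⁻¹ * u * (g : Perm α)) x) = (u : Perm α) ((g : Perm α) x)
      simp
  letI : MulAction N Orb :=
    { smul := fun g s => ⟨(g : Perm α) '' s.1, by
        obtain ⟨x, hx, hxs⟩ := s.2
        exact ⟨(g : Perm α) x, fun hgx => hx ((g.2.2.2 x).mp hgx), by rw [← hxs, himg]⟩⟩
      one_smul := fun s => Subtype.ext (Set.image_id _)
      mul_smul := fun g g' s => Subtype.ext (show (((g : Perm α) * (g' : Perm α) : Perm α) : α → α) '' s.1 = _ by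
        rw [Perm.coe_mul, Set.image_comp]; rfl) }
  have hOrb : Nat.card Orb = k := by
    let f : {x // x ∈ Δᶜ} → Orb := fun x => ⟨orbit P x.1, x.1, Finset.mem_compl.mp x.2, rfl⟩
    have hfib : ∀ s : Orb, Nat.card {x // f x = s} = p := by
      rintro ⟨s, x, hx, rfl⟩
      rw [← hP.orbit_card x hx]
      refine Nat.card_congr
        { toFun := fun z => ⟨z.1.1, by
            have := congrArg Subtype.val z.2
            simp only [f] at this
            exact this.le (mem_orbit_self _)⟩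
          invFun := fun z => ⟨⟨z.1, Finset.mem_compl.mpr (hP.not_mem_of_mem_orbit hx z.2)⟩,
            Subtype.ext (orbit_eq_iff.mpr z.2)⟩
          left_inv := fun z => rfl
          right_inv := fun z => rfl }
    haveI : Fintype Orb := Fintype.ofFinite _
    have h1 : Nat.card {x // x ∈ Δᶜ} = Nat.card Orb * p := by
      rw [← Nat.card_congr (Equiv.sigmaFiberEquiv f), Nat.card_sigma, Finset.sum_congr rfl (fun s _ => hfib s),
        Finset.sum_const, Finset.card_univ, smul_eq_mul, ← Nat.card_eq_fintype_card]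
    rw [Nat.card_eq_finsetCard, hcompl] at h1
    exact (Nat.eq_of_mul_eq_mul_right hp.pos h1).symm
  let θ : N →* Perm Orb := MulAction.toPermHom N Orb
  let K : Subgroup N := θ.ker
  have hkeep : ∀ g ∈ K, Orbs.Keeps Δ (ι g) := by
    intro g hg x hx
    have h1 : (g : Perm α) '' orbit P x = orbit P x :=
      congrArg Subtype.val (Equiv.congr_fun (MonoidHom.mem_ker.mp hg) ⟨orbit P x, x, hx, rfl⟩)
    have h2 : (g : Perm α) x ∈ (g : Perm α) '' orbit P x := Set.mem_image_of_mem _ (mem_orbit_self x)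
    rwa [h1] at h2
  let M : Subgroup N := K ⊓ ((Subgroup.normalizerMonoidHom P).comp ι).ker
  have hgood : ∀ t ∈ M.map ρ, ∃ c ∈ G, c.cycleType = (t ^ p).cycleType := by
    rintro _ ⟨g, hg, rfl⟩
    exact extract hP (g := ι g) g.2.1 g.2.2.2 (hkeep g hg.1) hg.2 _ rfl
  have hKn : (K.map ρ).Normal := (inferInstance : K.Normal).map ρ hρ
  have hKb : K.map ρ ≠ ⊥ := by
    intro hbot
    have h1 : (K.map ρ).index ∣ K.index := Subgroup.index_map_dvd _ hρ
    rw [hbot, Subgroup.index_bot, Nat.card_perm, Nat.card_eq_fintype_card, Fintype.card_coe, hΔc] at h1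
    have h2 : K.index ∣ k ! := by
      rw [Subgroup.index_ker, ← hOrb, ← Nat.card_perm]
      exact θ.range.card_subgroup_dvd_card
    exact absurd (Nat.le_of_dvd (Nat.factorial_pos k) (h1.trans h2)) (not_le.mpr ((Nat.factorial_lt hk).mpr hrk))
  have hD : Fintype.card {x // x ∈ Δ} = r := by rw [Fintype.card_coe, hΔc]
  by_cases hr5 : 5 ≤ r
  · have hM : ⁅K, K⁆ ≤ M := by
      refine Subgroup.commutator_le.mpr fun g hg g' hg' => Subgroup.mem_inf.mpr ⟨?_, ?_⟩
      · rw [commutatorElement_def]; exact mul_mem (mul_mem (mul_mem hg hg') (inv_mem hg)) (inv_mem hg')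
      · rw [MonoidHom.mem_ker, map_commutatorElement, commutatorElement_eq_one_iff_mul_comm]
        exact hP.conj_comm (hkeep g hg) (hkeep g' hg')
    by_cases hp' : p = 3
    · obtain ⟨t, ht, htc⟩ := exists_cycle (hD.symm ▸ hr5) (K.map ρ) hKb (q := 5) (Or.inr rfl)
      rw [← Subgroup.map_commutator] at ht
      obtain ⟨c, hc, hcc⟩ := hgood t (Subgroup.map_mono hM ht)
      rw [cycleType_pow_prime t (by norm_num) htc (by rw [hp']; norm_num)] at hcc
      exact le_of_cycle (by omega : 2 ≤ r + 1) hmn hG hc (by norm_num) hcc (by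
        have : 2 ≤ k := by omega
        subst hp'; omega)
    · obtain ⟨t, ht, htc⟩ := exists_cycle (hD.symm ▸ hr5) (K.map ρ) hKb (q := 3) (Or.inl rfl)
      rw [← Subgroup.map_commutator] at ht
      obtain ⟨c, hc, hcc⟩ := hgood t (Subgroup.map_mono hM ht)
      rw [cycleType_pow_prime t Nat.prime_three htc ((Nat.coprime_primes Nat.prime_three hp).mpr (Ne.symm hp'))] at hcc
      exact le_of_three_cycle (by omega : 2 ≤ r + 1) hmn hG hc hcc
  have hk3 : k ≤ 3 := by omega
  rcases hP.cycle_or_power (hcompl.trans_le (Nat.mul_le_mul_right p hk3)) with ⟨u, hu, huc⟩ | hpow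
  · exact le_of_cycle (by omega : 2 ≤ r + 1) hmn hG (hPS hu).1 hp huc (by omega)
  have hM : ⁅(⊤ : Subgroup N), K⁆ ≤ M := by
    refine Subgroup.commutator_le.mpr fun m _ g hg => Subgroup.mem_inf.mpr ⟨?_, ?_⟩
    · rw [commutatorElement_def]
      exact mul_mem ((inferInstance : K.Normal).conj_mem g hg m) (inv_mem hg)
    · rw [MonoidHom.mem_ker, map_commutatorElement, commutatorElement_eq_one_iff_mul_comm]
      obtain ⟨a, ha⟩ := hpow (ι g) (hkeep g hg)
      refine MulEquiv.ext fun w => ?_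
      show Orbs.cj (ι m) (Orbs.cj (ι g) w) = Orbs.cj (ι g) (Orbs.cj (ι m) w)
      rw [ha, ha, map_pow]
  have hmap : ⁅(⊤ : Subgroup N), K⁆.map ρ = ⁅(⊤ : Subgroup (Perm {x // x ∈ Δ})), K.map ρ⁆ := by
    rw [Subgroup.map_commutator, Subgroup.map_top_of_surjective ρ hρ]
  rcases (by omega : r = 3 ∨ r = 4) with rfl | rfl
  · by_cases hp' : p = 3
    · subst hp'
      have : k = 2 := by omega
      exact nine (by omega) hG
    · obtain ⟨t, ht, htc⟩ := exists_three hD (K.map ρ) hKb
      obtain ⟨c, hc, hcc⟩ := hgood t (Subgroup.map_mono hM (hmap ▸ ht))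
      rw [cycleType_pow_prime t Nat.prime_three htc ((Nat.coprime_primes Nat.prime_three hp).mpr (Ne.symm hp'))] at hcc
      exact le_of_three_cycle (by omega : 2 ≤ 3 + 1) hmn hG hc hcc
  · obtain ⟨t, ht, htc⟩ := exists_double hD (K.map ρ) hKb
    obtain ⟨c, hc, hcc⟩ := hgood t (Subgroup.map_mono hM (hmap ▸ ht))
    have hodd : Odd p := hp.odd_of_ne_two (by omega)
    have htp : t ^ p = t := by
      obtain ⟨b, hb⟩ := hodd
      have h2 : t ^ 2 = 1 := orderOf_dvd_iff_pow_eq_one.mp (by rw [← Perm.lcm_cycleType, htc]; decide)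
      rw [hb, pow_succ, pow_mul, h2, one_pow, one_mul]
    rw [htp, htc] at hcc
    exact le_of_double_transposition (by omega : 4 ≤ 4 + 1) hmn (by omega) hG hc hcc

end Cfsg.Agent.S4220
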