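import Cfsg.Statements.S4222
import Cfsg.Agent.EqLemmas

set_option autoImplicit false
open Cfsg

namespace Cfsg.Agent.S4222

/-- If a normal subgroup `N` of a finite group is complete (its centre is trivial and every automorphism of `N` is inner), then the group is the internal direct product of `N` and the centralizer of `N`: the centralizer is a complement to `N`. -/
theorem result {T : Type*} [Group T] [Finite T] (N : Subgroup T) [N.Normal] (hz : Subgroup.center ↥N = ⊥) (ha : Function.Surjective (MulAut.conj : ↥N →* MulAut ↥N)) : (Subgroup.centralizer (N : Set T)).IsComplement' N := by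
  apply Subgroup.isComplement'_of_disjoint_and_mul_eq_univ
  · rw [disjoint_iff, eq_bot_iff]
    rintro z ⟨hz1, hz2⟩
    have : (⟨z, hz2⟩ : N) ∈ Subgroup.center N := by
      rw [Subgroup.mem_center_iff]
      intro w
      exact Subtype.ext (Subgroup.mem_centralizer_iff.mp hz1 w w.2)
    rw [hz, Subgroup.mem_bot] at this
    simpa using congrArg Subtype.val this
  · rw [Set.eq_univ_iff_forall]
    intro t
    obtain ⟨n, hn⟩ := ha (MulAut.conjNormal t)
    refine ⟨t * (n : T)⁻¹, ?_, (n : T), n.2, by simp⟩
    rw [SetLike.mem_coe, Subgroup.mem_centralizer_iff]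
    intro w hw
    have e := DFunLike.congr_fun hn ((n⁻¹ * ⟨w, hw⟩ * n : N))
    have e' : w = t * ((n : T)⁻¹ * w * n) * t⁻¹ := by
      have := congrArg Subtype.val e
      simpa [mul_assoc] using this
    calc w * (t * (n : T)⁻¹) = t * ((n : T)⁻¹ * w * n) * t⁻¹ * (t * (n : T)⁻¹) := by rw [← e']
      _ = t * (n : T)⁻¹ * w := by group

end Cfsg.Agent.S4222
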