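import Cfsg.Statements.S4227
import Cfsg.Agent.Lib.OddOrder.PLengthOne
import Cfsg.Agent.Lib.ClassIndex.PSolvable
import Cfsg.Agent.Lib.Solvable.Converse
import Cfsg.Agent.Lib.HallHigman.PLength
import Cfsg.Agent.S3783

set_option autoImplicit false
open Cfsg

namespace Cfsg.Agent.S4227

theorem pLengthLE_one_of_abelian_sylow {G : Type*} [Group G] [Finite G] {p : ℕ} [hp : Fact p.Prime]
    (hsol : Group.IsSolvable G) (S : Sylow p G) (hS : IsMulCommutative (S : Subgroup G)) : Cfsg.PLengthLE p 1 G := by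
  set q := QuotientGroup.mk' (Cfsg.pPrimeCore p G)
  have hsep := Solvable.isPiSeparable_of_isPSolvable (ClassIndex.isPSolvable_of_isSolvable (p := p) G hsol)
  have hk : q.ker = (Cfsg.upperPSeries p G (2 * 0 + 1)).1 := by
    rw [QuotientGroup.ker_mk', PSeries.upperPSeries_one]
  have hc := PSeries.centralizer_pCore_quotient_odd hsep 0 q (QuotientGroup.mk'_surjective _) hk
  have hle : (S : Subgroup G) ≤ Cfsg.pPrimePCore p G := by
    intro s hs
    refine hc (Subgroup.mem_centralizer_iff.mpr fun v hv => ?_)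
    obtain ⟨t, ht, rfl⟩ := Cores.pCore_le_sylow (S.mapSurjective (QuotientGroup.mk'_surjective _)) hv
    exact ((congrArg q (congrArg Subtype.val (hS.is_comm.comm ⟨t, ht⟩ ⟨s, hs⟩))).symm.trans (map_mul q t s) |>.symm.trans (map_mul q s t))
  refine PLengthOne.pLengthLE_one_iff.mpr ?_
  exact (Nat.Coprime.symm ((hp.out.coprime_iff_not_dvd).mpr S.not_dvd_index)).coprime_dvd_left
    (Subgroup.index_dvd_of_le hle)

/-- A finite group in which every element has order dividing `6` has `2`-length at most `1` and `3`-length at most `1`. -/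
theorem result {G : Type*} [Group G] [Finite G] (h : ∀ x : G, x ^ 6 = 1) : Cfsg.PLengthLE 2 1 G ∧ Cfsg.PLengthLE 3 1 G := by
  have hsol : Group.IsSolvable G := by
    refine Solvable.isSolvable_of_card_two_primes Nat.prime_two Nat.prime_three (by norm_num) fun r hr hrd => ?_
    haveI := Fact.mk hr
    obtain ⟨x, hx⟩ := exists_prime_orderOf_dvd_card' r hrd
    have h6 : r ∣ 2 * 3 := hx ▸ orderOf_dvd_of_pow_eq_one (h x)
    rcases hr.dvd_mul.mp h6 with h2 | h3
    · exact Or.inl ((Nat.prime_dvd_prime_iff_eq hr Nat.prime_two).mp h2)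
    · exact Or.inr ((Nat.prime_dvd_prime_iff_eq hr Nat.prime_three).mp h3)
  have hexp : ∀ (q : ℕ) [Fact q.Prime] (P : Sylow q G), ∀ x ∈ (P : Subgroup G), orderOf x ∣ 6 ∧ ∃ k, orderOf x = q ^ k := by
    intro q _ P x hx
    obtain ⟨k, hk⟩ := IsPGroup.iff_orderOf.mp P.isPGroup' ⟨x, hx⟩
    exact ⟨orderOf_dvd_of_pow_eq_one (h x), k, by rwa [Subgroup.orderOf_mk] at hk⟩
  have hab : ∀ (q : ℕ) [Fact q.Prime], q ≠ 3 → ∀ P : Sylow q G, IsMulCommutative (P : Subgroup G) := by
    intro q hq hq3 P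
    have h2 : ∀ x : (P : Subgroup G), x * x = 1 := by
      rintro ⟨x, hx⟩
      obtain ⟨hd, k, hk⟩ := hexp q P x hx
      have hco : Nat.Coprime (q ^ k) 3 := ((Nat.coprime_primes hq.out Nat.prime_three).mpr hq3).pow_left k
      have : orderOf x ∣ 2 := hk ▸ hco.dvd_of_dvd_mul_right (show q ^ k ∣ 2 * 3 from hk ▸ hd)
      exact Subtype.ext (by simpa [pow_two] using orderOf_dvd_iff_pow_eq_one.mp this)
    refine ⟨⟨fun a b => ?_⟩⟩
    have ha := eq_inv_of_mul_eq_one_left (h2 a)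
    have hb := eq_inv_of_mul_eq_one_left (h2 b)
    have hab := eq_inv_of_mul_eq_one_left (h2 (a * b))
    rw [mul_inv_rev, ← ha, ← hb] at hab
    exact hab
  haveI : Fact (Nat.Prime 3) := ⟨Nat.prime_three⟩
  obtain ⟨S⟩ := (inferInstance : Nonempty (Sylow 2 G))
  refine ⟨pLengthLE_one_of_abelian_sylow hsol S (hab 2 (by norm_num) S), ?_⟩
  refine S3783.result (ClassIndex.isPSolvable_of_isSolvable G hsol) (fun q _ hq P => hab q hq P) 1 fun P x hx => ?_
  obtain ⟨hd, k, hk⟩ := hexp 3 P x hx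
  have hco : Nat.Coprime (3 ^ k) 2 := (by norm_num : Nat.Coprime 3 2).pow_left k
  have : orderOf x ∣ 3 := hk ▸ hco.dvd_of_dvd_mul_left (show 3 ^ k ∣ 2 * 3 from hk ▸ hd)
  simpa using orderOf_dvd_iff_pow_eq_one.mp this

end Cfsg.Agent.S4227
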