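import Cfsg.Statements.S4230
import Cfsg.Agent.EqLemmas

set_option autoImplicit false
open Cfsg

namespace Cfsg.Agent.S4230

/-- Let p be an odd prime, q a natural number not divisible by p, and e the multiplicative order of q modulo p. For a natural number f, p divides the value at q of the f-th cyclotomic polynomial if and only if f = e·p^j for some j ≥ 0. -/
theorem result (p q f : ℕ) (hp : p.Prime) (hp2 : p ≠ 2) (hpq : ¬ p ∣ q) :
    ((p : ℤ) ∣ (Polynomial.cyclotomic f ℤ).eval (q : ℤ)) ↔ ∃ j : ℕ, f = orderOf (q : ZMod p) * p ^ j := by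
  haveI := Fact.mk hp
  set e := orderOf (q : ZMod p) with he
  have hq0 : (q : ZMod p) ≠ 0 := by rwa [Ne, ZMod.natCast_eq_zero_iff]
  have hediv : e ∣ p - 1 := ZMod.orderOf_dvd_card_sub_one hq0
  have hp1 : 0 < p - 1 := by have := hp.two_le; omega
  have hep : ¬ p ∣ e := fun h => absurd (Nat.le_of_dvd hp1 (h.trans hediv)) (by omega)
  have he0 : e ≠ 0 := fun h => hep (h ▸ dvd_zero p)
  rcases eq_or_ne f 0 with rfl | hf
  · rw [Polynomial.cyclotomic_zero, Polynomial.eval_one]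
    constructor
    · intro h
      exact absurd (by exact_mod_cast h : p ∣ 1) (fun h => hp.ne_one (Nat.dvd_one.mp h))
    · rintro ⟨j, hj⟩
      exact absurd hj.symm (Nat.mul_ne_zero he0 (pow_ne_zero _ hp.ne_zero))
  obtain ⟨k, m, hm, rfl⟩ := Nat.exists_eq_pow_mul_and_not_dvd hf p hp.ne_one
  haveI : NeZero (m : ZMod p) := ⟨by rwa [Ne, ZMod.natCast_eq_zero_iff]⟩
  have h1 : ((p : ℤ) ∣ (Polynomial.cyclotomic (p ^ k * m) ℤ).eval (q : ℤ)) ↔
      (Polynomial.cyclotomic (p ^ k * m) (ZMod p)).IsRoot (q : ZMod p) := by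
    rw [← ZMod.intCast_zmod_eq_zero_iff_dvd, Polynomial.IsRoot.def, ← Polynomial.map_cyclotomic _ (Int.castRingHom (ZMod p)),
      Polynomial.eval_map, show (q : ZMod p) = Int.castRingHom (ZMod p) (q : ℤ) by simp, Polynomial.eval₂_at_apply]
    rfl
  rw [h1, Polynomial.isRoot_cyclotomic_prime_pow_mul_iff_of_charP, IsPrimitiveRoot.iff_orderOf, ← he]
  constructor
  · rintro rfl
    exact ⟨k, mul_comm _ _⟩
  · rintro ⟨j, hj⟩
    have h2 : Nat.Coprime e (p ^ k) := ((hp.coprime_iff_not_dvd.mpr hep).symm).pow_right k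
    have h3 : Nat.Coprime m (p ^ j) := ((hp.coprime_iff_not_dvd.mpr hm).symm).pow_right j
    apply Nat.dvd_antisymm
    · exact h2.dvd_of_dvd_mul_left ⟨p ^ j, hj⟩
    · exact h3.dvd_of_dvd_mul_right ⟨p ^ k, by rw [← hj, mul_comm]⟩

end Cfsg.Agent.S4230
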