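import Cfsg.Statements.S4231
import Cfsg.Agent.Lib.AltAut.Odd

set_option autoImplicit false
open Cfsg

namespace Cfsg.Agent.S4231

open Equiv
open scoped Nat

theorem isMulCommutative_of_three_mul {n q : ℕ} (hn : 5 ≤ n) (hq : q.Prime) (h3 : n < 3 * q)
    (G : Subgroup (MulAut (alternatingGroup (Fin n)))) (hodd : q ≠ 2) (Q : Sylow q G) :
    IsMulCommutative (Q : Subgroup G) := by
  haveI := Fact.mk hq
  set Q' : Subgroup (MulAut (alternatingGroup (Fin n))) := (Q : Subgroup G).map G.subtype
  have hQ' : IsPGroup q Q' := Q.isPGroup'.map _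
  set c : Perm (Fin n) →* MulAut (alternatingGroup (Fin n)) := MulAut.conjNormal
  have hc : Function.Injective c := S2119.conjNormal_injective (by omega)
  have hR : IsPGroup q (Q'.comap c) := hQ'.comap_of_injective c hc
  have hcomm : IsMulCommutative (Q'.comap c) := by
    obtain ⟨k, hk⟩ := hR.exists_card_eq
    have hk2 : k ≤ 2 := by
      by_contra hlt
      have hd : q ^ 3 ∣ n ! := by
        have h1 := (Q'.comap c).card_subgroup_dvd_card
        rw [hk, Nat.card_eq_fintype_card (α := Perm (Fin n)), Fintype.card_perm, Fintype.card_fin] at h1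
        exact (pow_dvd_pow q (by omega : 3 ≤ k)).trans h1
      have hlog : Nat.log q n < 3 := by
        refine Nat.log_lt_of_lt_pow (by omega) (lt_of_lt_of_le h3 ?_)
        have := hq.two_le
        calc 3 * q ≤ (q * q) * q := Nat.mul_le_mul_right q (by nlinarith)
          _ = q ^ 3 := by ring
      rw [Nat.Prime.pow_dvd_factorial_iff hq hlog, Finset.sum_Ico_eq_sum_range] at hd
      simp only [show 3 - 1 = 2 from rfl, Finset.sum_range_succ, Finset.sum_range_zero, zero_add,
        Nat.add_zero, pow_one] at hd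
      have hq3 : 3 ≤ q := by have := hq.two_le; omega
      have h1 : n / q ≤ 2 := by
        have := Nat.div_lt_iff_lt_mul (x := n) (y := 3) hq.pos |>.mpr h3
        omega
      have h2 : n / q ^ (1 + 1) = 0 := Nat.div_eq_of_lt (lt_of_lt_of_le h3 (by rw [pow_succ, pow_one]; exact Nat.mul_le_mul_right q hq3))
      omega
    interval_cases k
    · haveI : Subsingleton (Q'.comap c) := (Nat.card_eq_one_iff_unique.mp (by simpa using hk)).1
      exact ⟨⟨fun _ _ => Subsingleton.elim _ _⟩⟩
    · haveI := isCyclic_of_prime_card (p := q) (α := ↥(Q'.comap c)) (by simpa using hk)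
      exact IsCyclic.isMulCommutative
    · exact IsPGroup.isMulCommutative_of_card_eq_prime_sq hk
  have hlift : ∀ a : (Q : Subgroup G), ∃ σ : Q'.comap c, c σ = ((a : G) : MulAut (alternatingGroup (Fin n))) := by
    intro a
    obtain ⟨j, hj⟩ := IsPGroup.iff_orderOf.mp Q.isPGroup' a
    obtain ⟨σ, hσ⟩ := AltAut.exists_conjNormal_of_odd hn ((a : G) : MulAut (alternatingGroup (Fin n))) (by
      rw [Subgroup.orderOf_coe, Subgroup.orderOf_coe, hj]
      exact (hq.odd_of_ne_two hodd).pow)
    exact ⟨⟨σ, show c σ ∈ Q' from hσ ▸ Subgroup.mem_map_of_mem _ a.2⟩, hσ⟩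
  refine ⟨⟨fun a b => Subtype.ext (Subtype.ext ?_)⟩⟩
  obtain ⟨σ, hσ⟩ := hlift a
  obtain ⟨τ, hτ⟩ := hlift b
  have := congrArg (fun x : Q'.comap c => c x) (hcomm.is_comm.comm σ τ)
  simp only [Subgroup.coe_mul, map_mul, hσ, hτ] at this
  exact this

theorem exists_orderOf {n : ℕ} (hn : 5 ≤ n) (G : Subgroup (MulAut (alternatingGroup (Fin n))))
    (hG : (MulAut.conj : alternatingGroup (Fin n) →* MulAut (alternatingGroup (Fin n))).range ≤ G)
    (m : Multiset ℕ) (hsum : m.sum ≤ n) (hm : ∀ a ∈ m, 2 ≤ a) (hev : Even (m.sum + Multiset.card m)) :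
    ∃ g : G, orderOf g = m.lcm := by
  obtain ⟨σ, hσ⟩ := (Perm.exists_with_cycleType_iff (Fin n)).mpr ⟨by rwa [Fintype.card_fin], hm⟩
  have hA : σ ∈ alternatingGroup (Fin n) := by
    rw [Perm.mem_alternatingGroup, Perm.sign_of_cycleType, hσ]
    exact hev.neg_one_pow
  refine ⟨⟨MulAut.conj ⟨σ, hA⟩, hG ⟨_, rfl⟩⟩, ?_⟩
  rw [← Subgroup.orderOf_coe]
  show orderOf (MulAut.conj (⟨σ, hA⟩ : alternatingGroup (Fin n))) = _
  rw [show MulAut.conj (⟨σ, hA⟩ : alternatingGroup (Fin n)) = MulAut.conjNormal σ from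
      MulEquiv.ext fun _ => Subtype.ext (by simp), orderOf_injective _ (S2119.conjNormal_injective (by omega)),
    ← Perm.lcm_cycleType, hσ]

theorem main {n : ℕ} (hn : 5 ≤ n) (G : Subgroup (MulAut (alternatingGroup (Fin n))))
    (hG : (MulAut.conj : alternatingGroup (Fin n) →* MulAut (alternatingGroup (Fin n))).range ≤ G)
    {p q : ℕ} (hp : p.Prime) (hq : q.Prime) (hlt : p < q) (h : ∀ g : G, orderOf g ≠ p * q) (Q : Sylow q G) :
    IsMulCommutative (Q : Subgroup G) := by
  have := hp.two_le
  refine isMulCommutative_of_three_mul hn hq ?_ G (by omega) Q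
  by_contra hle
  rcases hp.eq_two_or_odd' with rfl | hpodd
  · rcases (by omega : q = 3 ∨ 4 ≤ q) with rfl | hq4
    · obtain ⟨g, hg⟩ := exists_orderOf hn G hG {3, 2, 2} (by simp; omega) (by simp) (by decide)
      exact h g (hg.trans (by decide))
    · obtain ⟨g, hg⟩ := exists_orderOf hn G hG {q, 2, 2} (by simp; omega) (by simp; omega)
        (by simp; obtain ⟨r, rfl⟩ := hq.odd_of_ne_two (by omega); exact ⟨r + 4, by omega⟩)
      refine h g (hg.trans ?_)
      simp only [Multiset.insert_eq_cons, Multiset.lcm_cons, Multiset.lcm_singleton, normalize_eq]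
      simp only [lcm_eq_nat_lcm, Nat.lcm_self]
      rw [mul_comm]
      exact (Nat.Coprime.lcm_eq_mul ((Nat.coprime_primes hq hp).mpr (by omega)))
  · obtain ⟨g, hg⟩ := exists_orderOf hn G hG {q, p} (by simp; omega) (by simp; omega)
      (by simp; obtain ⟨r, rfl⟩ := hq.odd_of_ne_two (by omega); obtain ⟨t, rfl⟩ := hpodd; exact ⟨r + t + 2, by omega⟩)
    refine h g (hg.trans ?_)
    simp only [Multiset.insert_eq_cons, Multiset.lcm_cons, Multiset.lcm_singleton, normalize_eq]
    rw [lcm_eq_nat_lcm, mul_comm]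
    exact (Nat.Coprime.lcm_eq_mul ((Nat.coprime_primes hq hp).mpr (by omega)))

/-- Let n ≥ 5 and let G be a group of automorphisms of the alternating group of degree n containing all inner automorphisms. If p ≠ q are primes and G has no element of order pq, then every Sylow p-subgroup of G is abelian or every Sylow q-subgroup of G is abelian. -/
theorem result (n : ℕ) (hn : 5 ≤ n) (G : Subgroup (MulAut (alternatingGroup (Fin n))))
    (hG : (MulAut.conj : alternatingGroup (Fin n) →* MulAut (alternatingGroup (Fin n))).range ≤ G)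
    (p q : ℕ) [Fact p.Prime] [Fact q.Prime] (hpq : p ≠ q) (h : ∀ g : G, orderOf g ≠ p * q) :
    (∀ P : Sylow p G, IsMulCommutative (P : Subgroup G)) ∨ (∀ Q : Sylow q G, IsMulCommutative (Q : Subgroup G)) := by
  rcases hpq.lt_or_gt with hlt | hgt
  · exact Or.inr fun Q => main hn G hG Fact.out Fact.out hlt h Q
  · exact Or.inl fun P => main hn G hG Fact.out Fact.out hgt (fun g => mul_comm p q ▸ h g) P

end Cfsg.Agent.S4231
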