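import Cfsg.Statements.S4234
import Cfsg.Agent.EqLemmas
import Cfsg.Agent.Lib.PSL2.Thirteen

set_option autoImplicit false
open Cfsg

namespace Cfsg.Agent.S4234

open Subgroup in
/-- A subgroup of a product of groups of coprime orders is a product. -/
theorem eq_prod_of_coprime {K S : Type*} [Group K] [Group S] [Finite K] [Finite S]
    (h : (Nat.card K).Coprime (Nat.card S)) (H : Subgroup (K × S)) :
    H = (H.map (MonoidHom.fst K S)).prod (H.map (MonoidHom.snd K S)) := by
  refine le_antisymm (fun x hx => ⟨⟨x, hx, rfl⟩, ⟨x, hx, rfl⟩⟩) ?_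
  have key : ∀ x ∈ H, ((x.1, 1) : K × S) ∈ H := by
    intro x hx
    obtain ⟨k, hk⟩ := exists_pow_eq_self_of_coprime
      (x := x.1) (n := Nat.card S) (Nat.Coprime.coprime_dvd_right (_root_.orderOf_dvd_natCard x.1) h.symm)
    have h2 : x ^ (Nat.card S * k) ∈ H := pow_mem hx _
    rw [pow_mul] at h2
    rw [show (x ^ Nat.card S) ^ k = ((x.1, 1) : K × S) from Prod.ext_iff.2 ⟨(show ((x ^ Nat.card S) ^ k).1 = x.1 from hk),
      (show ((x ^ Nat.card S) ^ k).2 = 1 by rw [Prod.pow_snd, Prod.pow_snd, pow_card_eq_one', one_pow])⟩] at h2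
    exact h2
  rintro ⟨a, b⟩ ⟨⟨x, hx, rfl⟩, ⟨y, hy, rfl⟩⟩
  have h3 : ((1, y.2) : K × S) ∈ H := by
    have h4 := mul_mem (inv_mem (key y hy)) hy
    simpa [Prod.mul_def] using h4
  simpa using mul_mem (key x hx) h3

/-- Non-normal subgroups have maximal normalizers, given the same in a central quotient of the first factor. -/
theorem main {K S : Type*} [Group K] [CommGroup S] [Finite K] [Finite S]
    (hKS : (Nat.card K).Coprime (Nat.card S))
    (hK : ∀ A : Subgroup K, ¬ A.Normal → IsCoatom (Subgroup.normalizer (A : Set K)))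
    (H : Subgroup (K × S)) (hH : ¬ H.Normal) :
    IsCoatom (Subgroup.normalizer (H : Set (K × S))) := by
  set A := H.map (MonoidHom.fst K S) with hA
  set B := H.map (MonoidHom.snd K S)
  have hHe : H = A.prod B := eq_prod_of_coprime hKS H
  have hN : Subgroup.normalizer (H : Set (K × S)) =
      (Subgroup.normalizer (A : Set K)).comap (MonoidHom.fst K S) := by
    ext g
    rw [hHe, Subgroup.mem_comap, Subgroup.mem_normalizer_iff, Subgroup.mem_normalizer_iff]
    constructor
    · intro h a
      have := h (a, 1)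
      simpa [Subgroup.mem_prod, one_mem] using this
    · rintro h ⟨a, b⟩
      simp only [Subgroup.mem_prod, Prod.fst_mul, Prod.snd_mul, Prod.fst_inv, Prod.snd_inv]
      rw [mul_comm g.2, mul_inv_cancel_right]
      exact and_congr_left' (h a)
  rw [hN]
  refine PSL2.isCoatom_comap_surjective _ (fun a => ⟨(a, 1), rfl⟩) (hK A fun hAn => hH ?_)
  rw [← Subgroup.normalizer_eq_top_iff, hN, Subgroup.normalizer_eq_top_iff.2 hAn, Subgroup.comap_top]

/-- Let K be isomorphic to PSL(2, 13) or to SL(2, 13) and let S be a finite abelian group of order coprime to the order of K. Then in the direct product K × S every subgroup that is not normal has a normalizer that is a maximal subgroup. -/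
theorem result {K S : Type*} [Group K] [CommGroup S] [Finite K] [Finite S]
    (hK : Nonempty (K ≃* Matrix.ProjectiveSpecialLinearGroup (Fin 2) (ZMod 13)) ∨
      Nonempty (K ≃* Matrix.SpecialLinearGroup (Fin 2) (ZMod 13)))
    (hKS : (Nat.card K).Coprime (Nat.card S)) (H : Subgroup (K × S)) (hH : ¬ H.Normal) :
    IsCoatom (Subgroup.normalizer (H : Set (K × S))) := by
  have : Fact (Nat.Prime 13) := ⟨by norm_num⟩
  have hF : Nat.card (ZMod 13) = 13 := Nat.card_zmod 13
  refine main hKS (fun A hA => ?_) H hH
  rcases hK with ⟨⟨e⟩⟩ | ⟨⟨e⟩⟩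
  · refine PSL2.isCoatom_normalizer_of_central e.toMonoidHom e.surjective ?_
      (Or.inl ?_) (fun B => PSL2.isCoatom_normalizer_thirteen hF) A hA
    all_goals rw [(MonoidHom.ker_eq_bot_iff _).2 e.injective]
    exact bot_le
  · have hAe : ¬ (A.map e.toMonoidHom).Normal := fun h => hA (by
      have := h.comap e.toMonoidHom
      rwa [Subgroup.comap_map_eq_self_of_injective e.injective] at this)
    have h := PSL2.isCoatom_comap_surjective e.toMonoidHom e.surjective
      (PSL2.sl_isCoatom_normalizer_thirteen hF _ hAe)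
    rwa [Subgroup.comap_normalizer_eq_of_surjective _ e.surjective,
      Subgroup.comap_map_eq_self_of_injective e.injective] at h

end Cfsg.Agent.S4234
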