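import Cfsg.Statements.S4236
import Cfsg.Agent.Lib.SylowCount.Basic
import Cfsg.Agent.Lib.Transfer.Tate
import Cfsg.Agent.Lib.BurnsideBasis.Basic
import Cfsg.Agent.Lib.Coprime.Frattini

set_option autoImplicit false
open Cfsg
open scoped Pointwise

namespace Cfsg.Agent.S4236

open scoped commutatorElement

theorem stab_eq {G : Type*} [Group G] [Finite G] {p : ℕ} [Fact p.Prime] (A B : Sylow p G) :
    MulAction.stabilizer (A : Subgroup G) B = ((A : Subgroup G) ⊓ B).subgroupOf (A : Subgroup G) := by
  ext v
  rw [MulAction.mem_stabilizer_iff, Subgroup.smul_def, Sylow.smul_eq_iff_mem_normalizer, Subgroup.mem_subgroupOf]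
  constructor
  · intro h
    exact A.isPGroup'.inf_normalizer_sylow B ▸ (⟨v.2, h⟩ : (v : G) ∈ (A : Subgroup G) ⊓ Subgroup.normalizer ((B : Subgroup G) : Set G))
  · intro h; exact Subgroup.le_normalizer h.2

/-- No group in which the conjugation action on its Sylow 17-subgroups is faithful has 35 of them. -/
theorem faithful_case {G : Type*} [Group G] [Finite G] [Fact (Nat.Prime 17)]
    (hf : ∀ g : G, (∀ R : Sylow 17 G, g • R = R) → g = 1) : Nat.card (Sylow 17 G) ≠ 35 := by
  classical
  intro h35
  haveI : Fintype (Sylow 17 G) := Fintype.ofFinite _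
  have hn35 : Fintype.card (Sylow 17 G) = 35 := by rw [← Nat.card_eq_fintype_card, h35]
  obtain ⟨a, ha⟩ : ∃ a, ∀ R : Sylow 17 G, Nat.card (R : Subgroup G) = 17 ^ a :=
    ⟨_, fun R => R.card_eq_multiplicity⟩
  let O : Sylow 17 G → Sylow 17 G → Finset (Sylow 17 G) := fun A B =>
    Finset.univ.filter fun R => R ∈ MulAction.orbit (A : Subgroup G) B
  have hmemO : ∀ A B R, R ∈ O A B ↔ R ∈ MulAction.orbit (A : Subgroup G) B := fun A B R => by simp [O]
  have hcardO : ∀ A B, (O A B).card = Nat.card (MulAction.orbit (A : Subgroup G) B) := fun A B => by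
    rw [← Nat.card_eq_finsetCard]
    exact Nat.card_congr (Equiv.subtypeEquivRight fun R => hmemO A B R)
  have hne : ∀ A B, A ≠ B → A ∉ O A B := by
    intro A B hAB h
    rw [hmemO, MulAction.mem_orbit_symm] at h
    obtain ⟨v, hv⟩ := h
    exact hAB (((Sylow.smul_eq_iff_mem_normalizer (g := (v : G))).mpr (Subgroup.le_normalizer v.2)).symm.trans hv)
  have horb : ∀ A B, A ≠ B → (O A B).card = 17 := by
    intro A B hAB
    obtain ⟨t, ht⟩ := A.isPGroup'.card_orbit B
    rw [hcardO, ht]
    have hlt : 17 ^ t < 35 := by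
      rw [← ht, ← hcardO, ← hn35]
      exact Finset.card_lt_card (Finset.ssubset_iff_subset_ne.mpr ⟨Finset.subset_univ _, fun h => hne A B hAB (h ▸ Finset.mem_univ A)⟩)
    rcases t with _ | _ | t
    · exfalso
      rw [pow_zero] at ht
      have hfix : ∀ v : (A : Subgroup G), v ∈ MulAction.stabilizer (A : Subgroup G) B := fun v =>
        MulAction.mem_stabilizer_iff.mpr (congrArg Subtype.val (@Subsingleton.elim _ (Nat.card_eq_one_iff_unique.mp ht).1
          ⟨v • B, MulAction.mem_orbit B v⟩ ⟨B, MulAction.mem_orbit_self B⟩))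
      apply hAB
      refine (Sylow.ext (A.3 B.isPGroup' fun v hv => ?_)).symm
      have := hfix ⟨v, hv⟩
      rw [stab_eq] at this
      exact this.2
    · exact pow_one 17
    · rw [show t + 1 + 1 = t + 2 from rfl, pow_add] at hlt
      have : 1 ≤ 17 ^ t := Nat.one_le_pow _ _ (by norm_num)
      omega
  have hinter : ∀ A B : Sylow 17 G, A ≠ B → 17 * Nat.card ((A : Subgroup G) ⊓ B : Subgroup G) = 17 ^ a := by
    intro A B hAB
    have h := MulAction.index_stabilizer (A : Subgroup G) (x := B)
    rw [stab_eq] at h
    have h' : ((A : Subgroup G) ⊓ B).relIndex A = 17 := by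
      show (((A : Subgroup G) ⊓ B).subgroupOf (A : Subgroup G)).index = 17
      rw [h, ← Nat.card_coe_set_eq, ← hcardO, horb A B hAB]
    rw [← ha A, ← Subgroup.relIndex_bot_left (A : Subgroup G),
      ← Subgroup.relIndex_mul_relIndex ⊥ ((A : Subgroup G) ⊓ B) A bot_le inf_le_left, Subgroup.relIndex_bot_left, h', mul_comm]
  have htwo : ∀ A B C, A ≠ B → A ≠ C → C ∉ O A B → ∀ R, R ≠ A → R ∈ O A B ∨ R ∈ O A C := by
    intro A B C hAB hAC hC R hR
    by_contra hcon
    push Not at hcon
    have hdis : Disjoint (O A B) (O A C) := by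
      rw [Finset.disjoint_left]
      intro X h1 h2
      rw [hmemO] at h1 h2
      apply hC
      rw [hmemO, ← MulAction.orbit_eq_iff]
      rw [← MulAction.orbit_eq_iff] at h1 h2
      exact h2.symm.trans h1
    have hsub : O A B ∪ O A C ⊆ (Finset.univ.erase A).erase R := by
      intro X hX
      simp only [Finset.mem_erase, Finset.mem_univ, and_true]
      constructor
      · rintro rfl; rcases Finset.mem_union.mp hX with h | h
        · exact hcon.1 h
        · exact hcon.2 h
      · rintro rfl; rcases Finset.mem_union.mp hX with h | h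
        · exact hne _ _ hAB h
        · exact hne _ _ hAC h
    have := Finset.card_le_card hsub
    rw [Finset.card_union_of_disjoint hdis, horb A B hAB, horb A C hAC,
      Finset.card_erase_of_mem (by simp [hR]), Finset.card_erase_of_mem (Finset.mem_univ _), Finset.card_univ, hn35] at this
    omega
  obtain ⟨P⟩ : Nonempty (Sylow 17 G) := inferInstance
  obtain ⟨Q, hQ⟩ : ∃ Q : Sylow 17 G, Q ≠ P := Fintype.exists_ne_of_one_lt_card (by omega) P
  rcases eq_or_ne a 1 with rfl | ha1
  · -- Sylow subgroups of prime order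
    have hcardP : Nat.card (P : Subgroup G) = 17 := (ha P).trans (pow_one 17)
    haveI : IsCyclic (P : Subgroup G) := isCyclic_of_prime_card hcardP
    have hbot : ∀ A B : Sylow 17 G, A ≠ B → ((A : Subgroup G) ⊓ B) = ⊥ := fun A B h => by
      have := hinter A B h
      exact Subgroup.card_eq_one.mp (by omega)
    set C := Subgroup.centralizer ((P : Subgroup G) : Set G) with hC
    set N := Subgroup.normalizer ((P : Subgroup G) : Set G) with hN
    obtain ⟨Q', hQ', hQ'P⟩ : ∃ Q' : Sylow 17 G, Q' ∉ O P Q ∧ Q' ≠ P := by
      by_contra h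
      push Not at h
      have hsub : Finset.univ.erase P ⊆ O P Q := fun X hX => by
        by_contra hX'
        exact (Finset.ne_of_mem_erase hX) (h X hX')
      have := Finset.card_le_card hsub
      rw [horb P Q hQ.symm, Finset.card_erase_of_mem (Finset.mem_univ _), Finset.card_univ, hn35] at this
      omega
    have hcomm : ∀ c ∈ C, ∀ (v : (P : Subgroup G)) (R : Sylow 17 G), c • v • R = v • c • R := by
      intro c hc v R
      rw [Subgroup.smul_def, Subgroup.smul_def, smul_smul, smul_smul, Subgroup.mem_centralizer_iff.mp hc v v.2]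
    have hPfix : ∀ c ∈ C, c • P = P := fun c hc =>
      Sylow.smul_eq_iff_mem_normalizer.mpr (Subgroup.centralizer_le_normalizer _ hc)
    have hCfree : ∀ c ∈ C, c • Q = Q → c = 1 := by
      intro c hc hcQ
      have hco : Nat.Coprime (orderOf c) 17 := by
        refine ((Nat.Prime.coprime_iff_not_dvd (Fact.out)).mpr fun hd => ?_).symm
        set d := c ^ (orderOf c / 17) with hd'
        have hod : orderOf d = 17 := orderOf_pow_orderOf_div (orderOf_pos c).ne' hd
        have hpg : IsPGroup 17 (Subgroup.zpowers d) := IsPGroup.of_card (n := 1) (by rw [Nat.card_zpowers, hod, pow_one])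
        have hdP : d • P = P := MulAction.mem_stabilizer_iff.mp (pow_mem (MulAction.mem_stabilizer_iff.mpr (hPfix c hc)) _)
        have hdQ : d • Q = Q := MulAction.mem_stabilizer_iff.mp (pow_mem (MulAction.mem_stabilizer_iff.mpr hcQ) _)
        have hmem : ∀ R : Sylow 17 G, d • R = R → d ∈ (R : Subgroup G) := fun R hR => by
          exact ((hpg.inf_normalizer_sylow R).le ⟨Subgroup.mem_zpowers d, Sylow.smul_eq_iff_mem_normalizer.mp hR⟩).2
        have : d ∈ (P : Subgroup G) ⊓ Q := ⟨hmem P hdP, hmem Q hdQ⟩
        rw [hbot P Q hQ.symm, Subgroup.mem_bot] at this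
        rw [this, orderOf_one] at hod
        omega
      have hcQ' : c • Q' = Q' := by
        rcases htwo P Q Q' hQ.symm hQ'P.symm hQ' (c • Q') (fun h => hQ'P (by
          have := congrArg (c⁻¹ • ·) h
          simp only [inv_smul_smul] at this
          rw [this, inv_smul_eq_iff.mpr (hPfix c hc).symm])) with h | h
        · exfalso
          obtain ⟨v, hv⟩ := (hmemO _ _ _).mp h
          apply hQ'
          rw [hmemO]
          refine ⟨v, ?_⟩
          show v • Q = Q'
          have hv' : c • (v • Q) = c • Q' := by rw [hcomm c hc, hcQ]; exact hv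
          exact MulAction.injective c hv'
        · obtain ⟨v, hv⟩ := (hmemO _ _ _).mp h
          have hk : ∀ k : ℕ, c ^ k • Q' = v ^ k • Q' := by
            intro k
            induction k with
            | zero => simp
            | succ k ih =>
              rw [pow_succ', mul_smul, ih, hcomm c hc, ← (show v • Q' = c • Q' from hv), smul_smul, ← pow_succ]
          have h1 := hk (orderOf c)
          rw [pow_orderOf_eq_one, one_smul] at h1
          have h2 : v ^ orderOf c ∈ MulAction.stabilizer (P : Subgroup G) Q' := MulAction.mem_stabilizer_iff.mpr h1.symm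
          rw [stab_eq, hbot P Q' hQ'P.symm, Subgroup.bot_subgroupOf, Subgroup.mem_bot] at h2
          have h17 : v ^ 17 = 1 := (congrArg (v ^ ·) hcardP).symm.trans pow_card_eq_one'
          have : v = 1 := by
            rw [← pow_one v, ← hco.gcd_eq_one]; exact pow_gcd_eq_one.mpr ⟨h2, h17⟩
          simpa [this] using hv.symm
      refine hf c fun R => ?_
      rcases eq_or_ne R P with rfl | hR
      · exact hPfix c hc
      rcases htwo P Q Q' hQ.symm hQ'P.symm hQ' R hR with h | h <;> obtain ⟨v, rfl⟩ := (hmemO _ _ _).mp h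
      · show c • v • Q = v • Q; rw [hcomm c hc, hcQ]
      · show c • v • Q' = v • Q'; rw [hcomm c hc, hcQ']
    have hCcard : Nat.card C ∣ 34 := by
      have hle : Nat.card C ≤ 34 := by
        have : Nat.card C ≤ Nat.card {R : Sylow 17 G // R ≠ P} := by
          refine Nat.card_le_card_of_injective (fun c => ⟨(c : G) • Q, fun h => hQ ?_⟩) ?_
          · rw [← inv_smul_smul (c : G) Q, h, inv_smul_eq_iff.mpr (hPfix c c.2).symm]
          · intro c d hcd
            have h := congrArg Subtype.val hcd
            simp only at h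
            have := hCfree _ (mul_mem (inv_mem d.2) c.2) (by rw [mul_smul, h, inv_smul_smul])
            exact Subtype.ext (inv_mul_eq_one.mp this).symm
        rw [Nat.card_eq_fintype_card (α := {R : Sylow 17 G // R ≠ P}), Fintype.card_subtype_compl, hn35,
          Fintype.card_subtype_eq] at this
        exact this
      obtain ⟨d, hd⟩ : 17 ∣ Nat.card C :=
        hcardP ▸ Subgroup.card_dvd_of_le (Subgroup.le_centralizer (P : Subgroup G))
      have : 0 < Nat.card C := Nat.card_pos
      rw [hd] at hle this ⊢
      have : d ≤ 2 := by omega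
      interval_cases d <;> norm_num at *
    let f : N →* MulAut (P : Subgroup G) := Subgroup.normalizerMonoidHom (P : Subgroup G)
    have hker : f.ker = C.subgroupOf N := Subgroup.normalizerMonoidHom_ker _
    have hNcard : Nat.card N ∣ 34 * 16 := by
      have h1 : Nat.card f.ker * Nat.card f.range = Nat.card N := by rw [← Subgroup.index_ker, Subgroup.card_mul_index]
      rw [← h1, hker, Nat.card_congr (Subgroup.subgroupOfEquivOfLe (Subgroup.centralizer_le_normalizer _)).toEquiv]
      refine Nat.mul_dvd_mul hCcard ((Subgroup.card_subgroup_dvd_card _).trans ?_)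
      rw [IsCyclic.card_mulAut, hcardP, Nat.totient_prime Fact.out]
    have hindex : N.index = 35 := by rw [← h35]; exact (Sylow.card_eq_index_normalizer P).symm
    have hG : Nat.card G = 35 * Nat.card N := by rw [← hindex, mul_comm, Subgroup.card_mul_index]
    -- an abelian Sylow 2-subgroup generated by two elements
    haveI : Fact (Nat.Prime 2) := ⟨Nat.prime_two⟩
    obtain ⟨T₀⟩ : Nonempty (Sylow 2 N) := inferInstance
    let T : Sylow 2 G := Sylow.ofCard ((T₀ : Subgroup N).map N.subtype) (by
      rw [Subgroup.card_subtype, T₀.card_eq_multiplicity, hG,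
        Nat.factorization_mul (by norm_num) Nat.card_pos.ne', Finsupp.add_apply,
        Nat.factorization_eq_zero_of_not_dvd (show ¬ 2 ∣ 35 by norm_num), zero_add])
    have hTN : (T : Subgroup G) ≤ N := Subgroup.map_subtype_le _
    let g : (T : Subgroup G) →* MulAut (P : Subgroup G) := f.comp (Subgroup.inclusion hTN)
    haveI : IsCyclic (MulAut (P : Subgroup G)) := by
      haveI : IsCyclic (ZMod (Nat.card (P : Subgroup G)))ˣ := by rw [hcardP]; infer_instance
      exact (IsCyclic.mulAutMulEquiv (P : Subgroup G)).isCyclic.mpr inferInstance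
    have hgker : ∀ z : (T : Subgroup G), z ∈ g.ker ↔ (z : G) ∈ C := fun z => by
      show Subgroup.inclusion hTN z ∈ f.ker ↔ _
      rw [hker, Subgroup.mem_subgroupOf]; rfl
    have hker2 : Nat.card g.ker ∣ 2 := by
      obtain ⟨k, hk⟩ := IsPGroup.iff_card.mp (T.isPGroup'.to_subgroup g.ker)
      have h1 : Nat.card g.ker ∣ 34 := by
        refine dvd_trans ?_ hCcard
        exact Subgroup.card_dvd_of_injective (((T : Subgroup G).subtype.comp g.ker.subtype).codRestrict C (fun z => (hgker z.1).mp z.2))
          (fun u v huv => Subtype.ext (Subtype.ext (congrArg (fun z : C => (z : G)) huv)))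
      rcases k with _ | _ | k
      · rw [hk, pow_zero]; exact one_dvd _
      · rw [hk, pow_one]
      · rw [hk] at h1
        exact absurd (dvd_trans ⟨2 ^ k, by ring⟩ h1 : 4 ∣ 34) (by norm_num)
    have hcen : g.ker ≤ Subgroup.center (T : Subgroup G) := by
      intro z hz
      rw [Subgroup.mem_center_iff]
      intro w
      have hw : w * z * w⁻¹ ∈ g.ker := (inferInstance : g.ker.Normal).conj_mem z hz w
      rcases eq_or_ne z 1 with rfl | hz1
      · simp
      have h2 : Nat.card g.ker = 2 := by
        rcases (Nat.dvd_prime Nat.prime_two).mp hker2 with h | h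
        · exact absurd (show z = 1 by simpa using (Subgroup.card_eq_one.mp h ▸ hz : z ∈ (⊥ : Subgroup (T : Subgroup G)))) hz1
        · exact h
      obtain ⟨u, v, -, huv⟩ := Nat.card_eq_two_iff.mp h2
      have hall : ∀ x : g.ker, x ≠ 1 → x = ⟨z, hz⟩ := by
        intro x hx
        have e1 := Set.eq_univ_iff_forall.mp huv x
        have e2 := Set.eq_univ_iff_forall.mp huv ⟨z, hz⟩
        have e3 := Set.eq_univ_iff_forall.mp huv 1
        have hzne : (⟨z, hz⟩ : g.ker) ≠ 1 := fun h => hz1 (congrArg Subtype.val h)
        simp only [Set.mem_insert_iff, Set.mem_singleton_iff] at e1 e2 e3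
        rcases e1 with e1 | e1 <;> rcases e2 with e2 | e2 <;> rcases e3 with e3 | e3 <;>
          first | exact e1.trans e2.symm | exact absurd (e1.trans e3.symm) hx | exact absurd (e2.trans e3.symm) hzne
      have := congrArg Subtype.val (hall ⟨_, hw⟩ (fun h => hz1 (conj_eq_one_iff.mp (congrArg Subtype.val h))))
      exact mul_inv_eq_iff_eq_mul.mp this
    have hTcomm : ∀ u v : (T : Subgroup G), u * v = v * u := by
      intro u v
      haveI : IsCyclic g.range := inferInstance
      exact commutative_of_cyclic_center_quotient g.rangeRestrict (by rw [MonoidHom.ker_rangeRestrict]; exact hcen) u v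
    have hG19040 : Nat.card G ∣ 35 * (34 * 16) := hG ▸ Nat.mul_dvd_mul_left 35 hNcard
    have hTC : Subgroup.normalizer ((T : Subgroup G) : Set G) ≤ Subgroup.centralizer ((T : Subgroup G) : Set G) := by
      have hV : Nat.card ((T : Subgroup G) ⧸ frattini (T : Subgroup G)) ≤ 4 := by
        obtain ⟨⟨_, t, rfl⟩, ht⟩ := IsCyclic.exists_generator (α := g.range)
        obtain ⟨z₀, hz₀⟩ : ∃ z₀ : (T : Subgroup G), ∀ z ∈ g.ker, z = 1 ∨ z = z₀ := by
          rcases (Nat.dvd_prime Nat.prime_two).mp hker2 with h | h
          · exact ⟨1, fun z hz => Or.inl (by simpa [Subgroup.card_eq_one.mp h] using hz)⟩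
          · obtain ⟨u, v, -, huv⟩ := Nat.card_eq_two_iff.mp h
            have e3 := Set.eq_univ_iff_forall.mp huv 1
            simp only [Set.mem_insert_iff, Set.mem_singleton_iff] at e3
            rcases e3 with e3 | e3
            · refine ⟨v, fun z hz => ?_⟩
              rcases Set.eq_univ_iff_forall.mp huv ⟨z, hz⟩ with e | e
              · exact Or.inl (congrArg Subtype.val (e.trans e3.symm))
              · exact Or.inr (congrArg Subtype.val e)
            · refine ⟨u, fun z hz => ?_⟩
              rcases Set.eq_univ_iff_forall.mp huv ⟨z, hz⟩ with e | e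
              · exact Or.inr (congrArg Subtype.val e)
              · exact Or.inl (congrArg Subtype.val (e.trans e3.symm))
        let s : Bool × Bool → (T : Subgroup G) ⧸ frattini (T : Subgroup G) := fun ij =>
          QuotientGroup.mk' _ ((if ij.1 then t else 1) * (if ij.2 then z₀ else 1))
        have hs : Function.Surjective s := by
          intro q
          obtain ⟨w, rfl⟩ := QuotientGroup.mk'_surjective _ q
          obtain ⟨m, hm⟩ := Subgroup.mem_zpowers_iff.mp (ht ⟨g w, w, rfl⟩)
          have hm' : g t ^ m = g w := congrArg Subtype.val hm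
          have hz := hz₀ ((t ^ m)⁻¹ * w) (by rw [MonoidHom.mem_ker, map_mul, map_inv, map_zpow, hm', inv_mul_cancel])
          have hsq : QuotientGroup.mk' (frattini (T : Subgroup G)) t ^ 2 = 1 := by
            rw [← map_pow, QuotientGroup.mk'_apply, QuotientGroup.eq_one_iff]
            exact Cfsg.Agent.BurnsideBasis.pow_mem_frattini T.isPGroup' t
          have hpow : QuotientGroup.mk' (frattini (T : Subgroup G)) (t ^ m) =
              QuotientGroup.mk' _ (if decide (m % 2 = 1) then t else 1) := by
            rw [map_zpow, ← Int.emod_add_mul_ediv m 2, zpow_add, zpow_mul, zpow_ofNat, hsq, one_zpow, mul_one]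
            rcases Int.emod_two_eq_zero_or_one m with h | h <;> simp [h]
          rcases hz with hz | hz
          · refine ⟨(decide (m % 2 = 1), false), ?_⟩
            show QuotientGroup.mk' _ (_ * (if false then z₀ else 1)) = _
            rw [inv_mul_eq_one] at hz
            rw [map_mul, ← hpow, hz]; simp
          · refine ⟨(decide (m % 2 = 1), true), ?_⟩
            show QuotientGroup.mk' _ (_ * (if true then z₀ else 1)) = _
            rw [map_mul, ← hpow, ← map_mul, if_pos rfl, ← hz, mul_inv_cancel_left]
        simpa using Nat.card_le_card_of_surjective s hs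
      intro x hx
      -- split `x` into its parts
      obtain ⟨u, v, rfl, hu, hv, ⟨k, hk⟩, hvco⟩ := Cfsg.Agent.Transfer.exists_pPart_mul (p := 2) x
      have huN : u ∈ Subgroup.normalizer ((T : Subgroup G) : Set G) := Subgroup.zpowers_le.mpr hx hu
      have hvN : v ∈ Subgroup.normalizer ((T : Subgroup G) : Set G) := Subgroup.zpowers_le.mpr hx hv
      refine mul_mem ?_ ?_
      · have hpg : IsPGroup 2 (Subgroup.zpowers u) := IsPGroup.of_card (n := k) (by rw [Nat.card_zpowers, hk])
        have huT : u ∈ (T : Subgroup G) := ((hpg.inf_normalizer_sylow T).le ⟨Subgroup.mem_zpowers u, huN⟩).2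
        rw [Subgroup.mem_centralizer_iff]
        intro w hw
        exact congrArg Subtype.val (hTcomm ⟨w, hw⟩ ⟨u, huT⟩)
      · let A := Subgroup.zpowers v
        have hAN : A ≤ Subgroup.normalizer ((T : Subgroup G) : Set G) := Subgroup.zpowers_le.mpr hvN
        obtain ⟨j, hj⟩ := IsPGroup.iff_card.mp (T.isPGroup'.to_subgroup (frattini (T : Subgroup G)))
        refine Cfsg.Agent.Coprime.le_centralizer_of_forall_mem_frattini hAN ?_ ?_ (Subgroup.mem_zpowers v)
        · rw [hj, Nat.card_zpowers]; exact hvco.pow_right j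
        · let θ : Subgroup.normalizer ((T : Subgroup G) : Set G) →* MulAut (T : Subgroup G) :=
            Subgroup.normalizerMonoidHom _
          let c : A →* Equiv.Perm ((T : Subgroup G) ⧸ frattini (T : Subgroup G)) :=
            { toFun := fun w => (QuotientGroup.congr (frattini _) (frattini _) (θ (Subgroup.inclusion hAN w))
                (Subgroup.characteristic_iff_map_eq.mp (inferInstance : (frattini (T : Subgroup G)).Characteristic) _)).toEquiv
              map_one' := by
                ext q
                obtain ⟨y, rfl⟩ := QuotientGroup.mk'_surjective _ q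
                simp
              map_mul' := fun w₁ w₂ => by
                ext q
                obtain ⟨y, rfl⟩ := QuotientGroup.mk'_surjective _ q
                simp [map_mul, QuotientGroup.congr_mk]; rfl }
          have hc : ∀ w, c w = 1 := by
            intro w
            rw [← orderOf_eq_one_iff]
            have hfac : orderOf (c w) ∣ 24 := by
              refine (orderOf_dvd_natCard _).trans ?_
              rw [Nat.card_perm, show (24 : ℕ) = Nat.factorial 4 from rfl]
              exact Nat.factorial_dvd_factorial hV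
            have hord : orderOf (c w) ∣ orderOf v := by
              refine (orderOf_map_dvd c w).trans ?_
              rw [← Nat.card_zpowers v]
              exact orderOf_dvd_natCard w
            have hv3 : Nat.Coprime (orderOf v) 3 := by
              refine ((Nat.Prime.coprime_iff_not_dvd Nat.prime_three).mpr fun h => ?_).symm
              exact absurd ((h.trans (orderOf_dvd_natCard v)).trans hG19040) (by norm_num)
            have h24 : Nat.Coprime (orderOf v) 24 := by
              rw [show (24 : ℕ) = 2 ^ 3 * 3 from rfl]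
              exact Nat.Coprime.mul_right (hvco.pow_right 3) hv3
            exact Nat.eq_one_of_dvd_coprimes h24 hord hfac
          intro w hw y hy
          have h : QuotientGroup.mk' (frattini (T : Subgroup G)) (θ (Subgroup.inclusion hAN ⟨w, hw⟩) ⟨y, hy⟩) =
              QuotientGroup.mk' (frattini (T : Subgroup G)) ⟨y, hy⟩ := Equiv.Perm.ext_iff.mp (hc ⟨w, hw⟩) (QuotientGroup.mk' (frattini (T : Subgroup G)) ⟨y, hy⟩)
          rw [QuotientGroup.mk'_apply, QuotientGroup.mk'_apply, eq_comm, QuotientGroup.eq] at h
          refine ⟨_, (inferInstance : (frattini (T : Subgroup G)).Normal).mem_comm h, ?_⟩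
          rfl
    obtain ⟨T', K, hK, hKT⟩ := Cfsg.Agent.Transfer.hasNormalPComplement_of_normalizer_le_centralizer T hTC
    have hmulK : Nat.card K * Nat.card (T' : Subgroup G) = Nat.card G := hKT.card_mul
    obtain ⟨i, hi⟩ := IsPGroup.iff_card.mp T'.isPGroup'
    have hKidx : K.index = 2 ^ i := by
      have := K.card_mul_index
      rw [← hmulK, hi] at this
      exact Nat.eq_of_mul_eq_mul_left Nat.card_pos this
    have hPK : (P : Subgroup G) ≤ K := by
      intro u hu
      rw [← QuotientGroup.eq_one_iff, ← orderOf_eq_one_iff]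
      refine Nat.eq_one_of_dvd_coprimes (show Nat.Coprime (17 ^ 1) (2 ^ i) from Nat.Coprime.pow 1 i (by norm_num)) ?_ ?_
      · refine (orderOf_map_dvd (QuotientGroup.mk' K) u).trans ?_
        rw [← Subgroup.orderOf_mk u hu, pow_one]
        exact (orderOf_dvd_natCard _).trans hcardP.dvd
      · rw [← hKidx, Subgroup.index_eq_card]; exact orderOf_dvd_natCard _
    have hodd : ¬ 2 ∣ Nat.card K := by
      intro h
      have hco := Sylow.card_coprime_index T'
      rw [hKT.index_eq_card] at hco
      rcases Nat.eq_zero_or_pos i with hi0 | hi0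
      · have hd : 2 ∣ Nat.card G := hmulK ▸ dvd_mul_of_dvd_left h _
        exact absurd (hd.trans (dvd_of_eq hmulK.symm)) (by
          intro h2
          have := T'.dvd_card_of_dvd_card hd
          rw [hi, hi0, pow_zero] at this
          exact absurd this (by norm_num))
      · rw [hi] at hco
        exact absurd (Nat.eq_one_of_dvd_coprimes hco (dvd_pow_self 2 hi0.ne') h) (by norm_num)
    have hK595 : Nat.card K ∣ 595 := by
      have hd : Nat.card K ∣ 35 * (34 * 16) := (Subgroup.card_subgroup_dvd_card K).trans hG19040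
      rw [show 35 * (34 * 16) = 2 ^ 5 * 595 from rfl] at hd
      exact (((Nat.Prime.coprime_iff_not_dvd Nat.prime_two).mpr hodd).pow_left 5).symm.dvd_of_dvd_mul_left hd
    have h5K : 5 ∣ Nat.card K := by
      have h5G : 5 ∣ Nat.card K * 2 ^ i := by
        rw [← hi, hmulK, hG]; exact dvd_mul_of_dvd_left (by norm_num) _
      exact (Nat.Coprime.pow_right i (by norm_num : Nat.Coprime 5 2)).dvd_of_dvd_mul_right h5G
    haveI : Fact (Nat.Prime 5) := ⟨by norm_num⟩
    obtain ⟨F⟩ : Nonempty (Sylow 5 K) := inferInstance
    have hF5 : Nat.card (F : Subgroup K) = 5 := by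
      have h2 := F.dvd_card_of_dvd_card h5K
      obtain ⟨j, hj⟩ := IsPGroup.iff_card.mp F.isPGroup'
      rcases j with _ | _ | j
      · rw [hj] at h2; norm_num at h2
      · rw [hj, pow_one]
      · have := (Subgroup.card_subgroup_dvd_card (F : Subgroup K)).trans hK595
        rw [hj, show j + 1 + 1 = j + 2 from rfl, pow_add] at this
        exact absurd (dvd_trans (dvd_mul_left _ _) this) (by norm_num)
    have hn5 : Nat.card (Sylow 5 K) = 1 := by
      have h1 := card_sylow_modEq_one 5 K
      have hd : Nat.card (Sylow 5 K) ∣ 119 := by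
        refine F.card_dvd_index.trans ?_
        have := (F : Subgroup K).card_mul_index
        rw [hF5] at this
        exact Nat.dvd_of_mul_dvd_mul_left (by norm_num : 0 < 5) (this ▸ hK595.trans (dvd_of_eq (by norm_num)))
      have hdiv : Nat.card (Sylow 5 K) ∈ Nat.divisors 119 := Nat.mem_divisors.mpr ⟨hd, by norm_num⟩
      rw [show Nat.divisors 119 = {1, 7, 17, 119} by decide +kernel] at hdiv
      simp only [Finset.mem_insert, Finset.mem_singleton] at hdiv
      rcases hdiv with h | h | h | h <;> rw [h] at h1 ⊢ <;> simp [Nat.ModEq] at h1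
    haveI hFn : (F : Subgroup K).Normal := by
      haveI : Subsingleton (Sylow 5 K) := (Nat.card_eq_one_iff_unique.mp hn5).1
      exact Sylow.normal_of_subsingleton F
    let c : (P : Subgroup G) →* MulAut (F : Subgroup K) := (MulAut.conjNormal).comp (Subgroup.inclusion hPK)
    haveI : IsCyclic (F : Subgroup K) := isCyclic_of_prime_card hF5
    have hc : ∀ u, c u = 1 := by
      intro u
      rw [← orderOf_eq_one_iff]
      refine Nat.eq_one_of_dvd_coprimes (show Nat.Coprime 17 4 by norm_num) ?_ ?_
      · exact (orderOf_map_dvd c u).trans ((orderOf_dvd_natCard u).trans hcardP.dvd)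
      · refine (orderOf_dvd_natCard _).trans ?_
        rw [IsCyclic.card_mulAut, hF5, Nat.totient_prime (by norm_num)]
    have hFC : 5 ∣ Nat.card C := by
      have hle : (F : Subgroup K).map K.subtype ≤ C := by
        rintro _ ⟨y, hy, rfl⟩
        rw [hC, Subgroup.mem_centralizer_iff]
        intro u hu
        have h := congrArg (fun z : (F : Subgroup K) => ((z : K) : G)) (MulEquiv.congr_fun (hc ⟨u, hu⟩) ⟨y, hy⟩)
        exact mul_inv_eq_iff_eq_mul.mp h
      have := Subgroup.card_dvd_of_le hle
      rwa [Subgroup.card_subtype, hF5] at this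
    exact absurd (hFC.trans hCcard) (by norm_num)
  · -- larger Sylow subgroups: double counting
    have hnorm : ∀ A B : Sylow 17 G, A ≠ B → ∀ v ∈ (A : Subgroup G), ∀ w ∈ (A : Subgroup G) ⊓ B,
        v * w * v⁻¹ ∈ (A : Subgroup G) ⊓ B := by
      intro A B hAB v hv w hw
      have hi : (((A : Subgroup G) ⊓ B).subgroupOf (A : Subgroup G)).index = 17 := by
        rw [← stab_eq, MulAction.index_stabilizer, ← Nat.card_coe_set_eq, ← hcardO, horb A B hAB]
      haveI : (((A : Subgroup G) ⊓ B).subgroupOf (A : Subgroup G)).Normal := by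
        refine Subgroup.normal_of_index_eq_minFac_card ?_
        rw [hi, ha A, Nat.pow_minFac, Nat.Prime.minFac_eq Fact.out]
        intro h0
        have := hinter A B hAB
        rw [h0, pow_zero] at this
        omega
      exact this.conj_mem ⟨w, hw.1⟩ (Subgroup.mem_subgroupOf.mpr hw) ⟨v, hv⟩
    have hle_eq : ∀ A B : Sylow 17 G, ∀ D : Subgroup G, A ≠ B → 17 * Nat.card D = 17 ^ a →
        D ≤ (A : Subgroup G) ⊓ B → D = (A : Subgroup G) ⊓ B := fun A B D hAB hD hle =>
      Subgroup.eq_of_le_of_card_ge hle (by have := hinter A B hAB; omega)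
    have hconst : ∀ A B R, A ≠ B → R ∈ O A B → (A : Subgroup G) ⊓ R = (A : Subgroup G) ⊓ B := by
      intro A B R hAB hR
      obtain ⟨v, rfl⟩ := (hmemO _ _ _).mp hR
      refine (hle_eq A (v • B) _ (fun h => hne A B hAB (by change v • B ∈ O A B at hR; rw [← h] at hR; exact hR)) (hinter A B hAB) fun w hw => ⟨hw.1, ?_⟩).symm
      show w ∈ ((((v : G) • B : Sylow 17 G)) : Subgroup G)
      rw [Sylow.coe_subgroup_smul, Subgroup.mem_pointwise_smul_iff_inv_smul_mem]
      have := hnorm A B hAB (v : G)⁻¹ (inv_mem v.2) w hw
      have h2 : _ ∈ (B : Subgroup G) := this.2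
      simpa [MulAut.smul_def, MulAut.conj_symm_apply, mul_assoc] using h2
    have hDne : ∀ A B : Sylow 17 G, A ≠ B → (A : Subgroup G) ⊓ B ≠ ⊥ := by
      intro A B hAB h0
      have := hinter A B hAB
      rw [h0, Subgroup.card_bot, mul_one] at this
      exact ha1 ((Nat.pow_right_injective (le_refl 2 |>.trans (by norm_num : 2 ≤ 17))) (this.symm.trans (pow_one 17).symm))
    have hsecond : ∀ A B, A ≠ B → ∃ C, A ≠ C ∧ C ∉ O A B ∧ (A : Subgroup G) ⊓ C ≠ (A : Subgroup G) ⊓ B := by
      intro A B hAB
      by_contra h
      push Not at h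
      have hall : ∀ R : Sylow 17 G, (A : Subgroup G) ⊓ B ≤ R := by
        intro R
        rcases eq_or_ne A R with rfl | hR
        · exact inf_le_left
        by_cases hRO : R ∈ O A B
        · exact (hconst A B R hAB hRO).symm.trans_le inf_le_right
        · exact (h R hR hRO).symm.trans_le inf_le_right
      apply hDne A B hAB
      rw [Subgroup.eq_bot_iff_forall]
      exact fun w hw => hf w fun R => Sylow.smul_eq_iff_mem_normalizer.mpr (Subgroup.le_normalizer (hall R hw))
    haveI : Fintype (Subgroup G) := Fintype.ofFinite _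
    set Ds : Finset (Subgroup G) := Finset.univ.filter fun D => ∃ A B : Sylow 17 G, A ≠ B ∧ D = (A : Subgroup G) ⊓ B with hDs
    have hcnt1 : ∀ D ∈ Ds, ((Finset.univ : Finset (Sylow 17 G)).bipartiteBelow (fun (R : Sylow 17 G) (D : Subgroup G) => D ≤ (R : Subgroup G)) D).card = 18 := by
      intro D hD
      obtain ⟨A, B, hAB, rfl⟩ := (Finset.mem_filter.mp hD).2
      obtain ⟨C, hAC, hCO, hCD⟩ := hsecond A B hAB
      have heq : (Finset.univ : Finset (Sylow 17 G)).bipartiteBelow (fun (R : Sylow 17 G) (D : Subgroup G) => D ≤ (R : Subgroup G)) ((A : Subgroup G) ⊓ B) = insert A (O A B) := by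
        ext R
        rw [Finset.mem_bipartiteBelow, Finset.mem_insert]
        constructor
        · rintro ⟨-, hR⟩
          rcases eq_or_ne R A with rfl | hRA
          · exact Or.inl rfl
          refine Or.inr ((htwo A B C hAB hAC hCO R hRA).resolve_right fun hRC => hCD ?_)
          rw [← hconst A C R hAC hRC]
          exact (hle_eq A R _ hRA.symm (hinter A B hAB) (le_inf inf_le_left hR)).symm
        · rintro (rfl | hR)
          · exact ⟨Finset.mem_univ _, inf_le_left⟩
          · exact ⟨Finset.mem_univ _, (hconst A B R hAB hR).symm.trans_le inf_le_right⟩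
      rw [heq, Finset.card_insert_of_notMem (hne A B hAB), horb A B hAB]
    have hcnt2 : ∀ R : Sylow 17 G, (Ds.bipartiteAbove (fun (R : Sylow 17 G) (D : Subgroup G) => D ≤ (R : Subgroup G)) R).card = 2 := by
      intro R
      obtain ⟨B, hBR⟩ := Fintype.exists_ne_of_one_lt_card (show 1 < Fintype.card (Sylow 17 G) by omega) R
      obtain ⟨C, hRC, hCO, hCD⟩ := hsecond R B hBR.symm
      rw [Finset.card_eq_two]
      refine ⟨_, _, hCD.symm, ?_⟩
      ext D
      rw [Finset.mem_bipartiteAbove, Finset.mem_insert, Finset.mem_singleton]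
      constructor
      · rintro ⟨hD, hle⟩
        obtain ⟨A₁, A₂, hne', rfl⟩ := (Finset.mem_filter.mp hD).2
        obtain ⟨X, hXR, he⟩ : ∃ X, R ≠ X ∧ (A₁ : Subgroup G) ⊓ A₂ = (R : Subgroup G) ⊓ X := by
          by_cases h1 : R = A₁
          · subst h1; exact ⟨A₂, hne', rfl⟩
          · exact ⟨A₁, h1, hle_eq R A₁ _ h1 (hinter _ _ hne') (le_inf hle inf_le_left)⟩
        rw [he]
        rcases htwo R B C hBR.symm hRC hCO X hXR.symm with h | h
        · exact Or.inl (hconst R B X hBR.symm h)
        · exact Or.inr (hconst R C X hRC h)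
      · rintro (rfl | rfl)
        · exact ⟨Finset.mem_filter.mpr ⟨Finset.mem_univ _, R, B, hBR.symm, rfl⟩, inf_le_left⟩
        · exact ⟨Finset.mem_filter.mpr ⟨Finset.mem_univ _, R, C, hRC, rfl⟩, inf_le_left⟩
    have hdc := Finset.sum_card_bipartiteAbove_eq_sum_card_bipartiteBelow (s := (Finset.univ : Finset (Sylow 17 G))) (t := Ds)
      (fun (R : Sylow 17 G) (D : Subgroup G) => D ≤ (R : Subgroup G))
    rw [Finset.sum_congr rfl (fun R _ => hcnt2 R), Finset.sum_congr rfl hcnt1, Finset.sum_const, Finset.sum_const,
      Finset.card_univ, hn35, smul_eq_mul, smul_eq_mul] at hdc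
    omega

/-- No finite group has exactly 35 Sylow 17-subgroups. -/
theorem result {G : Type*} [Group G] [Finite G] : Nat.card (Sylow 17 G) ≠ 35 := by
  haveI : Fact (Nat.Prime 17) := ⟨by norm_num⟩
  intro h
  set K : Subgroup G := ⨅ R : Sylow 17 G, MulAction.stabilizer G R with hKdef
  have hKmem : ∀ g, g ∈ K ↔ ∀ R : Sylow 17 G, g • R = R := fun g => by
    simp only [hKdef, Subgroup.mem_iInf, MulAction.mem_stabilizer_iff]
  haveI : K.Normal := ⟨fun g hg x => (hKmem _).mpr fun R => by
    rw [mul_smul, mul_smul, (hKmem g).mp hg, smul_inv_smul]⟩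
  have hle : ∀ R : Sylow 17 G, K ≤ Subgroup.normalizer ((R : Subgroup G) : Set G) := fun R g hg =>
    Sylow.smul_eq_iff_mem_normalizer.mp ((hKmem g).mp hg R)
  refine faithful_case (G := G ⧸ K) (fun q hq => ?_) ((Cfsg.Agent.SylowCount.card_sylow_quotient_eq K hle).trans h)
  obtain ⟨g, rfl⟩ := QuotientGroup.mk'_surjective K q
  rw [QuotientGroup.mk'_apply, QuotientGroup.eq_one_iff, hKmem]
  intro R
  have hs := QuotientGroup.mk'_surjective K
  have h1 := hq (R.mapSurjective hs)
  rw [Sylow.smul_eq_iff_mem_normalizer] at h1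
  change QuotientGroup.mk' K g ∈ Subgroup.normalizer (((R.mapSurjective hs : Sylow 17 (G ⧸ K)) : Subgroup (G ⧸ K)) : Set (G ⧸ K)) at h1
  rw [Sylow.coe_mapSurjective] at h1
  have h2 : g ∈ (Subgroup.normalizer (((R : Subgroup G).map (QuotientGroup.mk' K)) : Set (G ⧸ K))).comap (QuotientGroup.mk' K) := h1
  rw [Subgroup.comap_normalizer_eq_of_surjective _ hs, Subgroup.comap_map_eq, QuotientGroup.ker_mk'] at h2
  -- `R` is the only Sylow subgroup of `R K`
  refine Cfsg.Agent.SylowCount.sylow_le_normalizer_eq (P := R) (Q := g • R) ?_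
  intro w hw
  rw [Sylow.coe_subgroup_smul, Subgroup.mem_pointwise_smul_iff_inv_smul_mem] at hw
  have hw' : w ∈ (R : Subgroup G) ⊔ K := by
    have h3 := (Subgroup.mem_normalizer_iff.mp h2 _).mp (Subgroup.mem_sup_left (T := K) hw)
    simpa [MulAut.smul_def, MulAut.conj_symm_apply, mul_assoc] using h3
  exact sup_le Subgroup.le_normalizer (hle R) hw'

end Cfsg.Agent.S4236
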