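import Cfsg.Statements.S4237
import Cfsg.Agent.Lib.Kulakoff.Reduction

set_option autoImplicit false
open Cfsg

namespace Cfsg.Agent.S4237

/-- Let G be a finite group, p a prime and a a natural number such that p^(a+1) divides the order of G. Then the number of subgroups of G of order p^a is congruent to 1 or to 1 + p modulo p². -/
theorem result {G : Type*} [Group G] [Finite G] (p a : ℕ) (hp : p.Prime) (hdvd : p ^ (a + 1) ∣ Nat.card G) :
    Nat.card {H : Subgroup G // Nat.card H = p ^ a} ≡ 1 [MOD p ^ 2] ∨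
      Nat.card {H : Subgroup G // Nat.card H = p ^ a} ≡ 1 + p [MOD p ^ 2] := by
  haveI := Fact.mk hp
  change Kulakoff.cnt p G a ≡ _ [MOD _] ∨ Kulakoff.cnt p G a ≡ _ [MOD _]
  by_cases hp2 : p = 2
  · subst hp2
    have h := SubgroupCount.card_subgroup_prime_pow_modEq_one (G := G) (β := a) hp ((pow_dvd_pow 2 a.le_succ).trans hdvd)
    change Kulakoff.cnt 2 G a % 2 = 1 % 2 at h
    unfold Nat.ModEq
    omega
  obtain ⟨P⟩ := (inferInstance : Nonempty (Sylow p G))
  obtain ⟨n, hn⟩ := P.isPGroup'.exists_card_eq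
  have han : a < n := by
    have := P.card_eq_multiplicity
    rw [hn] at this
    rw [Nat.pow_right_injective hp.two_le this]
    exact (hp.pow_dvd_iff_le_factorization Nat.card_pos.ne').mp hdvd
  have h := Kulakoff.cnt_modEq_sylow hdvd P
  rcases Nat.eq_zero_or_pos a with rfl | ha
  · left
    refine h.trans (Kulakoff.modEq_of_eq ?_)
    rw [Kulakoff.cnt, Nat.card_eq_one_iff_unique]
    refine ⟨⟨fun H K => Subtype.ext ?_⟩, ⟨⟨⊥, by simp⟩⟩⟩
    have h1 := fun L : {L : Subgroup (P : Subgroup G) // Nat.card L = p ^ 0} => Subgroup.card_eq_one.mp (L.2.trans (pow_zero p))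
    rw [h1 H, h1 K]
  by_cases hc : IsCyclic (P : Subgroup G)
  · exact Or.inl (h.trans (Kulakoff.modEq_of_eq (Kulakoff.cnt_cyclic hp (hn ▸ pow_dvd_pow p han.le))))
  · exact Or.inr (h.trans (Kulakoff.cnt_modEq hp2 _ hn hc ha han))

end Cfsg.Agent.S4237
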