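import Cfsg.Statements.S4238
import Cfsg.Agent.Lib.Cores.Basic
import Cfsg.Agent.Lib.Transfer.Residual
import Cfsg.Agent.Lib.Transfer.Tate
import Cfsg.Agent.S0072


set_option autoImplicit false
open Cfsg

namespace Cfsg.Agent.S4238

universe u

theorem exists_orderOf_eq_exponent {K : Type*} [Group K] [Finite K] {p : ℕ} (hp : p.Prime) (hK : IsPGroup p K) :
    ∃ k : K, orderOf k = Monoid.exponent K := by
  haveI := Fact.mk hp
  obtain ⟨k, -, hk⟩ := Set.exists_max_image (Set.univ : Set K) orderOf Set.finite_univ ⟨1, trivial⟩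
  refine ⟨k, Nat.dvd_antisymm (Monoid.order_dvd_exponent k) (Monoid.exponent_dvd_of_forall_pow_eq_one fun g => ?_)⟩
  obtain ⟨i, hi⟩ := IsPGroup.iff_orderOf.mp hK g
  obtain ⟨j, hj⟩ := IsPGroup.iff_orderOf.mp hK k
  have hle := hk g trivial
  rw [hi, hj] at hle
  rw [← orderOf_dvd_iff_pow_eq_one, hi, hj]
  exact pow_dvd_pow p ((Nat.pow_le_pow_iff_right hp.one_lt).mp hle)

theorem dvd_card_of_ne_bot {G : Type*} [Group G] [Finite G] {p : ℕ} [Fact p.Prime] {U : Subgroup G}
    (hU : IsPGroup p U) (hU1 : U ≠ ⊥) : p ∣ Nat.card U := by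
  obtain ⟨k, hk⟩ := IsPGroup.iff_card.mp hU
  rcases k with _ | k
  · exact absurd (Subgroup.card_eq_one.mp (hk.trans (pow_zero p))) hU1
  · exact hk ▸ dvd_pow_self p (Nat.succ_ne_zero k)

/-- Every section with trivial `p'`-core has an element of order the exponent. -/
def Good (p : ℕ) (G : Type u) [Group G] : Prop :=
  ∀ (H : Subgroup G) (K : Type u) [Group K] (f : H →* K), Function.Surjective f → Cfsg.pPrimeCore p K = ⊥ →
    ∃ k : K, orderOf k = Monoid.exponent K

theorem Good.subgroup {p : ℕ} {G : Type u} [Group G] (h : Good p G) (L : Subgroup G) : Good p L := by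
  intro H K _ f hf hc
  refine h (H.map L.subtype) K (f.comp (H.equivMapOfInjective L.subtype L.subtype_injective).symm.toMonoidHom)
    (hf.comp (MulEquiv.surjective _)) hc

theorem Good.quotient {p : ℕ} {G : Type u} [Group G] (h : Good p G) (N : Subgroup G) [N.Normal] :
    Good p (G ⧸ N) := by
  intro H K _ f hf hc
  exact h (H.comap (QuotientGroup.mk' N)) K (f.comp ((QuotientGroup.mk' N).subgroupComap H))
    (hf.comp (MonoidHom.subgroupComap_surjective_of_surjective _ _ (QuotientGroup.mk'_surjective N))) hc

/-- An element of order prime to `p` outside the centraliser of a normal `p`-subgroup generates with it all of `G`,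
when the proper subgroups have normal `p`-complements. -/
theorem sup_zpowers_eq_top {p : ℕ} [Fact p.Prime] {G : Type*} [Group G] [Finite G]
    (hsub : ∀ L : Subgroup G, L ≠ ⊤ → Cfsg.HasNormalPComplement p L) {N : Subgroup G} [N.Normal]
    (hN : IsPGroup p N) {g : G} (hg : Nat.Coprime (orderOf g) p) (hgC : g ∉ Subgroup.centralizer (N : Set G)) :
    N ⊔ Subgroup.zpowers g = ⊤ := by
  by_contra hL
  apply hgC
  set L := N ⊔ Subgroup.zpowers g
  have hgL : g ∈ L := Subgroup.mem_sup_right (Subgroup.mem_zpowers g)
  have h := Transfer.mem_centralizer_of_coprime (hsub L hL) (Q := N.subgroupOf L)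
    (hN.of_equiv (Subgroup.subgroupOfEquivOfLe le_sup_left).symm) (g := ⟨g, hgL⟩)
    (by rw [Subgroup.normalizer_eq_top]; exact Subgroup.mem_top _) (by rwa [Subgroup.orderOf_mk])
  rw [Subgroup.mem_centralizer_iff] at h ⊢
  exact fun y hy => congrArg Subtype.val (h ⟨y, Subgroup.mem_sup_left hy⟩ hy)

theorem complement_of_good {p : ℕ} [Fact p.Prime] : ∀ (n : ℕ) (G : Type u) [Group G] [Finite G],
    Good p G → Nat.card G = n → Cfsg.HasNormalPComplement p G := by
  intro n
  induction n using Nat.strong_induction_on with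
  | _ n ih =>
    intro G _ _ hG hn
    have hp : p.Prime := Fact.out
    by_contra hno
    have hsub : ∀ L : Subgroup G, L ≠ ⊤ → Cfsg.HasNormalPComplement p L := fun L hL =>
      ih _ (hn ▸ lt_of_le_of_ne (Subgroup.card_le_card_group L) fun h => hL (Subgroup.eq_top_of_card_eq L h))
        L (hG.subgroup L) rfl
    have hquot : ∀ (N : Subgroup G) [N.Normal], N ≠ ⊥ → Cfsg.HasNormalPComplement p (G ⧸ N) := fun N _ hN =>
      ih _ (hn ▸ by
        rw [← Subgroup.index_eq_card, ← Subgroup.card_mul_index N]
        exact lt_mul_of_one_lt_left (Nat.pos_of_ne_zero Subgroup.index_ne_zero_of_finite)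
          ((Subgroup.one_lt_card_iff_ne_bot N).mpr hN)) _ (hG.quotient N) rfl
    -- the core of order prime to `p` is trivial
    have hcore : Cfsg.pPrimeCore p G = ⊥ := by
      by_contra hD
      apply hno
      set D := Cfsg.pPrimeCore p G
      obtain ⟨S, K, hKn, hK⟩ := hquot D hD
      haveI := hKn
      obtain ⟨b, hb⟩ := IsPGroup.iff_card.mp S.isPGroup'
      have hidx : (K.comap (QuotientGroup.mk' D)).index = p ^ b := by
        rw [Subgroup.index_comap_of_surjective _ (QuotientGroup.mk'_surjective D), ← hb]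
        exact hK.symm.index_eq_card
      have hKco : (Nat.card K).Coprime p := by
        rw [← hK.index_eq_card]
        exact (hp.coprime_iff_not_dvd.mpr S.not_dvd_index).symm
      refine ⟨default, K.comap (QuotientGroup.mk' D), inferInstance,
        Transfer.isComplement'_of_coprime_of_index default ?_ hidx⟩
      have h1 : Nat.card (K.comap (QuotientGroup.mk' D)) * K.index = Nat.card D * (Nat.card K * K.index) := by
        rw [Subgroup.card_mul_index K, ← Subgroup.index_comap_of_surjective K (QuotientGroup.mk'_surjective D),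
          Subgroup.card_mul_index, ← Subgroup.index_eq_card, Subgroup.card_mul_index]
      rw [← mul_assoc] at h1
      rw [Nat.eq_of_mul_eq_mul_right (Nat.pos_of_ne_zero Subgroup.index_ne_zero_of_finite) h1]
      exact (Cores.coprime_card_pPrimeCore p).mul_left hKco
    have hnp : ¬ IsPGroup p G := fun h => hno (Transfer.hasNormalPComplement_of_isPGroup h)
    -- there is a normal `p`-subgroup, and each one is a Sylow subgroup
    obtain ⟨U, hUp, hU1, hUn⟩ : ∃ U : Subgroup G, IsPGroup p U ∧ U ≠ ⊥ ∧ U.Normal := by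
      by_contra h
      push Not at h
      exact hno ((S0072.result p).mpr fun Q hQ hQ1 =>
        hsub _ fun ht => h Q hQ hQ1 (Subgroup.normalizer_eq_top_iff.mp ht))
    have hkill : ∀ D : Subgroup G, D.Normal → D ≠ ⊤ → IsPGroup p D := by
      intro D hD hDt
      haveI := hD
      obtain ⟨S, K, hKn, hK⟩ := hsub D hDt
      haveI : K.Characteristic := by
        rw [Transfer.complement_eq_pResidual S hK]; exact Transfer.pResidual_characteristic
      haveI := Cores.map_subtype_normal_of_characteristic D K
      have hKco : (Nat.card K).Coprime p := by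
        rw [← hK.index_eq_card]
        exact (hp.coprime_iff_not_dvd.mpr S.not_dvd_index).symm
      have hb : K.map D.subtype = ⊥ := by
        rw [← le_bot_iff, ← hcore]
        exact le_sSup ⟨inferInstance, by rw [Subgroup.card_subtype]; exact hKco⟩
      rw [Subgroup.map_eq_bot_iff_of_injective _ D.subtype_injective] at hb
      rw [hb, Subgroup.isComplement'_bot_left] at hK
      exact IsPGroup.of_equiv (hK ▸ S.isPGroup') Subgroup.topEquiv
    have hsylow : ∀ N : Subgroup G, IsPGroup p N → N ≠ ⊥ → N.Normal → ¬ p ∣ N.index := by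
      intro N hN hN1 hNn hd
      haveI := hNn
      obtain ⟨S, K, hKn, hK⟩ := hquot N hN1
      haveI := hKn
      set D := K.comap (QuotientGroup.mk' N)
      have hDidx : D.index = Nat.card (S : Subgroup (G ⧸ N)) := by
        rw [Subgroup.index_comap_of_surjective _ (QuotientGroup.mk'_surjective N)]
        exact hK.symm.index_eq_card
      obtain ⟨b, hb⟩ := IsPGroup.iff_card.mp S.isPGroup'
      by_cases hDt : D = ⊤
      · rw [hDt, Subgroup.index_top, hb] at hDidx
        rw [Subgroup.index_eq_card] at hd
        have hS := S.dvd_card_of_dvd_card hd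
        rw [hb, ← hDidx, Nat.dvd_one] at hS
        exact hp.ne_one hS
      · apply hnp
        obtain ⟨a, ha⟩ := IsPGroup.iff_card.mp (hkill D inferInstance hDt)
        exact IsPGroup.of_card (n := a + b) (by rw [← Subgroup.card_mul_index D, ha, hDidx, hb, pow_add])
    haveI := hUn
    haveI : Nontrivial U := (Subgroup.nontrivial_iff_ne_bot U).mpr hU1
    -- `U` is abelian
    haveI := hUp.center_nontrivial
    have hUab : ∀ a ∈ U, ∀ b ∈ U, a * b = b * a := by
      set Z := (Subgroup.center U).map U.subtype
      have hZn : Z.Normal := Cores.map_subtype_normal_of_characteristic U _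
      have hZp : IsPGroup p Z := (hUp.to_subgroup _).map _
      have hZ1 : Z ≠ ⊥ := by
        rw [Ne, Subgroup.map_eq_bot_iff_of_injective _ U.subtype_injective, ← Ne, ← Subgroup.nontrivial_iff_ne_bot]
        infer_instance
      have hle : U ≤ Z := by
        have h1 := hsylow Z hZp hZ1 hZn
        obtain ⟨S, hS⟩ := hZp.exists_le_sylow
        obtain ⟨S', hS'⟩ := hUp.exists_le_sylow
        have hSe : (hZp.toSylow h1 : Subgroup G) = Z := rfl
        haveI : ((hZp.toSylow h1 : Sylow p G) : Subgroup G).Normal := hZn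
        haveI := Sylow.unique_of_normal (hZp.toSylow h1) inferInstance
        exact hS'.trans (le_of_eq ((congrArg (fun T : Sylow p G => (T : Subgroup G)) (Subsingleton.elim S' (hZp.toSylow h1))).trans hSe))
      intro a ha b hb
      obtain ⟨a', ha', hea⟩ := hle ha
      have := congrArg Subtype.val (Subgroup.mem_center_iff.mp ha' ⟨b, hb⟩)
      rw [← hea]
      exact this.symm
    -- `U` is not central
    have hCU : Subgroup.centralizer (U : Set G) ≠ ⊤ := by
      intro h
      apply hno
      refine Transfer.hasNormalPComplement_of_normalizer_le_centralizer (hUp.toSylow (hsylow U hUp hU1 hUn)) ?_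
      exact le_top.trans (le_of_eq h.symm)
    have hCp := hkill _ inferInstance hCU
    obtain ⟨g, hg⟩ := hG ⊤ G (Subgroup.topEquiv (G := G)).toMonoidHom (Subgroup.topEquiv (G := G)).surjective hcore
    have hexp : ∀ x : G, orderOf x ∣ orderOf g := fun x => hg ▸ Monoid.order_dvd_exponent x
    obtain ⟨q, hq, hqp, hqd⟩ : ∃ q, q.Prime ∧ q ≠ p ∧ q ∣ orderOf g := by
      by_contra h
      push Not at h
      apply hnp
      intro x
      have hd : ∀ {d : ℕ}, d.Prime → d ∣ orderOf x → d = p := fun hd hdx => by
        by_contra hne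
        exact h _ hd hne (hdx.trans (hexp x))
      refine ⟨_, orderOf_dvd_iff_pow_eq_one.mp (dvd_of_eq (Nat.eq_prime_pow_of_unique_prime_dvd (orderOf_pos x).ne' hd))⟩
    obtain ⟨u, v, hguv, hu, hv, ⟨i, hi⟩, hvco⟩ := Transfer.exists_pPart_mul (p := p) g
    have hcomm : Commute u v := by
      obtain ⟨a, rfl⟩ := hu
      obtain ⟨b, rfl⟩ := hv
      exact Commute.zpow_zpow_self g a b
    have hord : orderOf g = orderOf u * orderOf v := by
      rw [hguv]; exact hcomm.orderOf_mul_eq_mul_orderOf_of_coprime (by rw [hi]; exact hvco.symm.pow_left i)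
    have hv1 : v ≠ 1 := by
      intro h
      rw [h, orderOf_one, mul_one, hi] at hord
      exact hqp ((Nat.prime_dvd_prime_iff_eq hq hp).mp (hq.dvd_of_dvd_pow (hord ▸ hqd)))
    have hu1 : u ≠ 1 := by
      intro h
      rw [h, orderOf_one, one_mul] at hord
      obtain ⟨x, hx⟩ := exists_prime_orderOf_dvd_card' p ((dvd_card_of_ne_bot hUp hU1))
      have hd := hexp (x : G)
      rw [Subgroup.orderOf_coe, hx, hord] at hd
      exact hp.coprime_iff_not_dvd.mp hvco.symm hd
    have hvC : v ∉ Subgroup.centralizer (U : Set G) := by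
      intro h
      apply hv1
      obtain ⟨j, hj⟩ := IsPGroup.iff_orderOf.mp hCp ⟨v, h⟩
      rw [Subgroup.orderOf_mk] at hj
      rw [← orderOf_eq_one_iff, ← Nat.Coprime.gcd_eq_one (hvco.pow_right j), ← hj, Nat.gcd_self]
    have htop := sup_zpowers_eq_top hsub hUp hvco hvC
    -- `u` is central
    have hUidx := hsylow U hUp hU1 hUn
    have huU : u ∈ U := by
      refine Transfer.mem_of_pow_mem_of_coprime (a := p ^ i) (b := U.index) ?_ ?_ (Subgroup.pow_index_mem U u)
      · exact (hp.coprime_iff_not_dvd.mpr hUidx).pow_left i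
      · rw [← hi, pow_orderOf_eq_one]; exact one_mem U
    have huc : u ∈ Subgroup.center G := by
      rw [Subgroup.mem_center_iff]
      intro x
      have hx : x ∈ U ⊔ Subgroup.zpowers v := htop ▸ Subgroup.mem_top x
      rw [Subgroup.mem_sup_of_normal_left] at hx
      obtain ⟨a, ha, _, ⟨b, rfl⟩, rfl⟩ := hx
      exact ((show Commute a u from hUab a ha u huU).mul_left (hcomm.zpow_right b).symm).eq
    haveI hZn : (Subgroup.zpowers u).Normal := ⟨fun n hn x => by
      rw [Subgroup.mem_center_iff.mp (Subgroup.zpowers_le.mpr huc hn) x, mul_inv_cancel_right]; exact hn⟩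
    have hZp : IsPGroup p (Subgroup.zpowers u) := IsPGroup.of_card (n := i) (by rw [Nat.card_zpowers, hi])
    have hZ1 : Subgroup.zpowers u ≠ ⊥ := fun h => hu1 (Subgroup.zpowers_eq_bot.mp h)
    have hidxZ := hsylow _ hZp hZ1 hZn
    have hUle : U ≤ Subgroup.zpowers u := by
      intro x hx
      obtain ⟨j, hj⟩ := IsPGroup.iff_orderOf.mp hUp ⟨x, hx⟩
      rw [Subgroup.orderOf_mk] at hj
      refine Transfer.mem_of_pow_mem_of_coprime (a := p ^ j) (b := (Subgroup.zpowers u).index) ?_ ?_
        (Subgroup.pow_index_mem _ x)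
      · exact (hp.coprime_iff_not_dvd.mpr hidxZ).pow_left j
      · rw [← hj, pow_orderOf_eq_one]; exact one_mem _
    exact hvC (Subgroup.mem_centralizer_iff.mpr fun x hx =>
      (Subgroup.mem_center_iff.mp (Subgroup.zpowers_le.mpr huc (hUle hx)) v).symm)



/-- Let G be a finite group and p a prime. Then G has a normal p-complement if and only if every section K = H/N of G (N a normal subgroup of a subgroup H) whose largest normal subgroup of order prime to p is trivial contains an element whose order equals the exponent of K. -/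
theorem result {G : Type*} [Group G] [Finite G] (p : ℕ) [Fact p.Prime] :
    Cfsg.HasNormalPComplement p G ↔
      ∀ (H : Subgroup G) (N : Subgroup H) [N.Normal], Cfsg.pPrimeCore p (H ⧸ N) = ⊥ →
        ∃ k : H ⧸ N, orderOf k = Monoid.exponent (H ⧸ N) := by
  constructor
  · intro h H N _ hc
    obtain ⟨S, K, hKn, hK⟩ := Transfer.hasNormalPComplement_of_surjective (Transfer.hasNormalPComplement_subgroup h H)
      (QuotientGroup.mk' N) (QuotientGroup.mk'_surjective N)
    have hKco : (Nat.card K).Coprime p := by
      rw [← hK.index_eq_card]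
      exact ((Fact.out : p.Prime).coprime_iff_not_dvd.mpr S.not_dvd_index).symm
    have hb : K = ⊥ := by rw [← le_bot_iff, ← hc]; exact le_sSup ⟨hKn, hKco⟩
    rw [hb, Subgroup.isComplement'_bot_left] at hK
    exact exists_orderOf_eq_exponent Fact.out (IsPGroup.of_equiv (hK ▸ S.isPGroup') Subgroup.topEquiv)
  · intro h
    refine complement_of_good _ G ?_ rfl
    intro H K _ f hf hc
    let e : H ⧸ f.ker ≃* K := QuotientGroup.quotientKerEquivOfSurjective f hf
    obtain ⟨k, hk⟩ := h H f.ker (by
      rw [eq_bot_iff]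
      intro x hx
      have h1 : e x ∈ Cfsg.pPrimeCore p K := Cores.map_pPrimeCore_le e.toMonoidHom e.surjective p ⟨x, hx, rfl⟩
      rw [hc, Subgroup.mem_bot, MulEquiv.map_eq_one_iff] at h1
      exact h1)
    exact ⟨e k, by rw [MulEquiv.orderOf_eq, hk, Monoid.exponent_eq_of_mulEquiv e]⟩

end Cfsg.Agent.S4238
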