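import Cfsg.Statements.S4241
import Cfsg.Agent.Lib.EvenNilp.Reduce

set_option autoImplicit false
open Cfsg

namespace Cfsg.Agent.S4241

/-- Let a finite group A act by automorphisms on a finite group G of order coprime to that of A, and let p be a prime dividing the order of G. If every maximal A-invariant proper subgroup of G whose order is divisible by p is nilpotent, then G is solvable. -/
theorem result {A G : Type*} [Group A] [Group G] [Finite A] [Finite G] [MulDistribMulAction A G]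
    (hcop : (Nat.card A).Coprime (Nat.card G)) (p : ℕ) (hp : p.Prime) (hpG : p ∣ Nat.card G)
    (hmax : ∀ H : Subgroup G, H ≠ ⊤ → (∀ a : A, ∀ x ∈ H, a • x ∈ H) →
      (∀ K : Subgroup G, H < K → (∀ a : A, ∀ x ∈ K, a • x ∈ K) → K = ⊤) → p ∣ Nat.card H → Group.IsNilpotent H) :
    Group.IsSolvable G := by
  refine EvenNilp.solvable_of_invNil_aux _ G (MulDistribMulAction.toMulAut A G).range p hp hpG
    (hcop.coprime_dvd_left (Subgroup.card_range_dvd _)) (fun H hH hinv hpH => ?_) rfl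
  have hinv' : ∀ a : A, ∀ x ∈ H, a • x ∈ H := fun a x hx =>
    (hinv ⟨_, ⟨a, rfl⟩⟩).le ⟨x, hx, rfl⟩
  obtain ⟨M, ⟨hM, hMinv, hHM⟩, hMmax⟩ := (Set.toFinite
    {K : Subgroup G | K ≠ ⊤ ∧ (∀ a : A, ∀ x ∈ K, a • x ∈ K) ∧ H ≤ K}).exists_maximal ⟨H, hH, hinv', le_rfl⟩
  haveI : Group.IsNilpotent M := hmax M hM hMinv (fun K hK hKinv => by
      by_contra hne
      exact hK.not_ge (hMmax ⟨hne, hKinv, hHM.trans hK.le⟩ hK.le))
    (hpH.trans (Subgroup.card_dvd_of_le hHM))
  exact Group.nilpotent_of_mulEquiv (Subgroup.subgroupOfEquivOfLe hHM)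

end Cfsg.Agent.S4241
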