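import Cfsg.Statements.S4242
import Cfsg.Agent.Lib.NilGroup.Basic
import Cfsg.Agent.Lib.Transfer.Residual
import Cfsg.Agent.Lib.Transfer.NilpotentHall
import Cfsg.Agent.S0072

set_option autoImplicit false
open Cfsg

namespace Cfsg.Agent.S4242

variable {G : Type*} [Group G] [Finite G]

theorem commute_in {L : Subgroup G} (h : Group.IsNilpotent L) {x y : G} (hx : x ∈ L) (hy : y ∈ L)
    (hxy : (orderOf x).Coprime (orderOf y)) : x * y = y * x :=
  congrArg Subtype.val (NilGroup.commute_of_coprime h (x := ⟨x, hx⟩) (y := ⟨y, hy⟩)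
    (by rwa [Subgroup.orderOf_mk, Subgroup.orderOf_mk])).eq

theorem isNilpotent_of_le {L M : Subgroup G} (hLM : L ≤ M) (h : Group.IsNilpotent M) : Group.IsNilpotent L :=
  (Group.isNilpotent_congr (Subgroup.subgroupOfEquivOfLe hLM)).mp inferInstance

theorem isNilpotent_of_proper {p : ℕ} (hmax : ∀ M : Subgroup G, IsCoatom M → p ∣ Nat.card M → Group.IsNilpotent M)
    {L : Subgroup G} (hL : L ≠ ⊤) (hd : p ∣ Nat.card L) : Group.IsNilpotent L := by
  obtain ⟨M, hM, hLM⟩ := (eq_top_or_exists_le_coatom L).resolve_left hL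
  exact isNilpotent_of_le hLM (hmax M hM (hd.trans (Subgroup.card_dvd_of_le hLM)))

theorem dvd_card_of_ne_bot {p : ℕ} [Fact p.Prime] {U : Subgroup G} (hU : IsPGroup p U) (hU1 : U ≠ ⊥) :
    p ∣ Nat.card U := by
  obtain ⟨k, hk⟩ := IsPGroup.iff_card.mp hU
  rcases k with _ | k
  · exact absurd (Subgroup.card_eq_one.mp (hk.trans (pow_zero p))) hU1
  · exact hk ▸ dvd_pow_self p (Nat.succ_ne_zero k)

theorem card_sup_dvd {R P : Subgroup G} [R.Normal] : Nat.card (R ⊔ P : Subgroup G) ∣ Nat.card R * Nat.card P := by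
  have h := Subgroup.relIndex_mul_relIndex ⊥ R (R ⊔ P) bot_le le_sup_left
  rw [Subgroup.relIndex_bot_left, Subgroup.relIndex_bot_left] at h
  rw [← h, Subgroup.relIndex_sup_left]
  exact mul_dvd_mul_left _ (Subgroup.relIndex_dvd_card R P)

theorem sylow_normal {p : ℕ} [Fact p.Prime] (hmax : ∀ L : Subgroup G, L ≠ ⊤ → p ∣ Nat.card L → Group.IsNilpotent L)
    (hpG : p ∣ Nat.card G) (P : Sylow p G) {K : Subgroup G} [K.Normal] (hK : K.IsComplement' (P : Subgroup G))
    (hKn : ¬ Group.IsNilpotent K) : (P : Subgroup G).Normal := by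
  obtain ⟨b, hb⟩ := IsPGroup.iff_card.mp P.isPGroup'
  have hpp : p.Prime := Fact.out
  have hKP : Nat.card K * Nat.card (P : Subgroup G) = Nat.card G := hK.card_mul
  have hpK : ¬ p ∣ Nat.card K := fun h => P.not_dvd_index (by rw [hK.index_eq_card]; exact h)
  have hidx : K.index = p ^ b := by rw [← hb]; exact hK.symm.index_eq_card
  rw [← Subgroup.normalizer_eq_top_iff, ← Subgroup.index_eq_one]
  by_contra hne
  obtain ⟨r, hr, hrd⟩ := Nat.exists_prime_and_dvd hne
  haveI := Fact.mk hr
  have hrp : r ≠ p := by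
    rintro rfl
    exact P.not_dvd_index (hrd.trans (Subgroup.index_dvd_of_le Subgroup.le_normalizer))
  obtain ⟨R⟩ : Nonempty (Sylow r G) := inferInstance
  obtain ⟨a, ha⟩ := IsPGroup.iff_card.mp R.isPGroup'
  have hRK : (R : Subgroup G) ≤ K := by
    intro x hx
    refine Transfer.mem_of_pow_mem_of_coprime (a := r ^ a) (b := p ^ b)
      (((Nat.coprime_primes hr hpp).mpr hrp).pow a b) ?_ (hidx ▸ Subgroup.pow_index_mem K x)
    have h1 : (⟨x, hx⟩ : (R : Subgroup G)) ^ (r ^ a) = 1 := ha ▸ pow_card_eq_one'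
    rw [show x ^ (r ^ a) = 1 from congrArg Subtype.val h1]
    exact one_mem K
  have hsup : Subgroup.normalizer (R : Set G) ⊔ K = ⊤ := by
    have h := Sylow.normalizer_sup_eq_top (N := K) (R.subtype hRK)
    rwa [show ((R.subtype hRK : Sylow r K) : Subgroup K).map K.subtype = R from
      Subgroup.map_subgroupOf_eq_of_le hRK] at h
  obtain ⟨L, hL, hRL, P', hPL⟩ : ∃ L : Subgroup G, L ≠ ⊤ ∧ (R : Subgroup G) ≤ L ∧ ∃ P' : Sylow p G,
      (P' : Subgroup G) ≤ L := by
    by_cases hRn : (R : Subgroup G).Normal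
    · refine ⟨(R : Subgroup G) ⊔ P, fun htop => hKn ?_, le_sup_left, P, le_sup_right⟩
      have h := card_sup_dvd (R := (R : Subgroup G)) (P := (P : Subgroup G))
      rw [htop, Subgroup.card_top, ← hKP] at h
      have hKR : Nat.card K ∣ r ^ a := ha ▸ Nat.dvd_of_mul_dvd_mul_right Nat.card_pos h
      obtain ⟨c, -, hc⟩ := (Nat.dvd_prime_pow hr).mp hKR
      exact (IsPGroup.of_card hc).isNilpotent
    · set N := Subgroup.normalizer (R : Set G) with hN
      have h1 : Nat.card G ∣ Nat.card K * Nat.card N := by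
        have h := card_sup_dvd (R := K) (P := N)
        rwa [sup_comm, hsup, Subgroup.card_top] at h
      have hdvd : p ^ b ∣ Nat.card N := hb ▸ Nat.dvd_of_mul_dvd_mul_left Nat.card_pos (hKP ▸ h1)
      obtain ⟨U, hU⟩ := Sylow.exists_subgroup_card_pow_prime p hdvd
      refine ⟨N, fun h => hRn (Subgroup.normalizer_eq_top_iff.mp h), Subgroup.le_normalizer,
        Sylow.ofCard (U.map N.subtype) ?_, Subgroup.map_subtype_le _⟩
      rw [Subgroup.card_subtype, hU, ← hb, P.card_eq_multiplicity]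
  apply R.not_dvd_index
  simp only [Sylow.coe_coe] at hrd
  rw [← Sylow.card_eq_index_normalizer P, Sylow.card_eq_index_normalizer P'] at hrd
  refine hrd.trans (Subgroup.index_dvd_of_le fun x hx => ?_)
  have hpP : p ∣ Nat.card (P' : Subgroup G) := P'.dvd_card_of_dvd_card hpG
  have hn := hmax L hL (hpP.trans (Subgroup.card_dvd_of_le hPL))
  refine Subgroup.centralizer_le_normalizer _ (Subgroup.mem_centralizer_iff.mpr fun y hy => ?_)
  refine commute_in hn (hPL hy) (hRL hx) ?_
  obtain ⟨i, hi⟩ := IsPGroup.iff_orderOf.mp P'.isPGroup' ⟨y, hy⟩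
  obtain ⟨j, hj⟩ := IsPGroup.iff_orderOf.mp R.isPGroup' ⟨x, hx⟩
  rw [Subgroup.orderOf_mk] at hi hj
  rw [hi, hj]
  exact ((Nat.coprime_primes hpp hr).mpr (Ne.symm hrp)).pow i j

/-- Let G be a finite group and p a prime dividing its order. Every maximal subgroup of G of order divisible by p is nilpotent if and only if G is nilpotent, or G is a minimal non-nilpotent group, or G is the internal direct product of a normal subgroup of order p and a normal minimal non-nilpotent subgroup of order prime to p. -/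
theorem result {G : Type*} [Group G] [Finite G] (p : ℕ) (hp : p.Prime) (hpG : p ∣ Nat.card G) :
    (∀ M : Subgroup G, IsCoatom M → p ∣ Nat.card M → Group.IsNilpotent M) ↔
      (Group.IsNilpotent G ∨ Cfsg.IsMinimalNonNilpotent G ∨
        ∃ Z K : Subgroup G, Z.Normal ∧ K.Normal ∧ Z ⊓ K = ⊥ ∧ Z ⊔ K = ⊤ ∧ Nat.card Z = p ∧
          Cfsg.IsMinimalNonNilpotent K ∧ ¬ p ∣ Nat.card K) := by
  haveI := Fact.mk hp
  constructor
  · intro hmax
    by_cases hnil : Group.IsNilpotent G
    · exact Or.inl hnil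
    have hsub := fun L hL hd => isNilpotent_of_proper hmax (L := L) hL hd
    by_cases hall : ∀ M : Subgroup G, IsCoatom M → Group.IsNilpotent M
    · refine Or.inr (Or.inl ⟨hnil, fun L hL => ?_⟩)
      obtain ⟨M, hM, hLM⟩ := (eq_top_or_exists_le_coatom L).resolve_left hL
      exact isNilpotent_of_le hLM (hall M hM)
    push Not at hall
    obtain ⟨M, hM, hMn⟩ := hall
    have hpM : ¬ p ∣ Nat.card M := fun h => hMn (hmax M hM h)
    obtain ⟨U, hUp, hU1, hUn⟩ : ∃ U : Subgroup G, IsPGroup p U ∧ U ≠ ⊥ ∧ U.Normal := by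
      by_contra hno
      push Not at hno
      have hloc : ∀ Q : Subgroup G, IsPGroup p Q → Q ≠ ⊥ →
          Cfsg.HasNormalPComplement p (Subgroup.normalizer (Q : Set G)) := by
        intro Q hQ hQ1
        haveI := hsub _ (fun h => hno Q hQ hQ1 (Subgroup.normalizer_eq_top_iff.mp h))
          ((dvd_card_of_ne_bot hQ hQ1).trans (Subgroup.card_dvd_of_le Subgroup.le_normalizer))
        exact Transfer.hasNormalPComplement_of_isNilpotent p
      obtain ⟨P, K, hKn, hK⟩ := (S0072.result (G := G) p).mpr hloc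
      haveI := hKn
      have hMK : M ≤ K := by
        intro x hx
        obtain ⟨b, hb⟩ := IsPGroup.iff_card.mp P.isPGroup'
        refine Transfer.mem_of_pow_mem_of_coprime (a := Nat.card M) (b := p ^ b)
          ((hp.coprime_iff_not_dvd.mpr hpM).symm.pow_right b) ?_ ?_
        · rw [show x ^ Nat.card M = 1 from congrArg Subtype.val (pow_card_eq_one' (x := (⟨x, hx⟩ : M)))]
          exact one_mem K
        · rw [← hb, ← hK.symm.index_eq_card]
          exact Subgroup.pow_index_mem K x
      refine hno P P.isPGroup' (P.ne_bot_of_dvd_card hpG) (sylow_normal hsub hpG P hK fun h => hMn ?_)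
      exact isNilpotent_of_le hMK h
    -- a normal subgroup of order `p`
    haveI := hUn
    have hcomp : ∀ U : Subgroup G, IsPGroup p U → U ≠ ⊥ → U.Normal →
        U ⊔ M = ⊤ ∧ U ⊓ M = ⊥ ∧ Nat.card G ∣ Nat.card U * Nat.card M := by
      intro U hUp hU1 hUn
      haveI := hUn
      have h1 : ¬ U ≤ M := fun h => hpM ((dvd_card_of_ne_bot hUp hU1).trans (Subgroup.card_dvd_of_le h))
      have htop : U ⊔ M = ⊤ := hM.2 _ (lt_of_le_of_ne le_sup_right fun h => h1 (h ▸ le_sup_left))
      refine ⟨htop, ?_, ?_⟩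
      · refine Subgroup.inf_eq_bot_of_coprime ?_
        obtain ⟨i, hi⟩ := IsPGroup.iff_card.mp hUp
        rw [hi]
        exact (hp.coprime_iff_not_dvd.mpr hpM).pow_left i
      · have h := card_sup_dvd (R := U) (P := M)
        rwa [htop, Subgroup.card_top] at h
    obtain ⟨hUtop, -, hUcard⟩ := hcomp U hUp hU1 hUn
    obtain ⟨c, hc⟩ := IsPGroup.iff_card.mp hUp
    -- proper subgroups of `M` centralise `U`
    have hkey : ∀ L : Subgroup G, L < M → Group.IsNilpotent L ∧ L ≤ Subgroup.centralizer (U : Set G) := by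
      intro L hLM
      have hne : U ⊔ L ≠ ⊤ := by
        intro htop
        have h := card_sup_dvd (R := U) (P := L)
        rw [htop, Subgroup.card_top] at h
        have hML : Nat.card M ∣ Nat.card L :=
          Nat.Coprime.dvd_of_dvd_mul_left (by rw [hc]; exact (hp.coprime_iff_not_dvd.mpr hpM).symm.pow_right c)
            ((Subgroup.card_subgroup_dvd_card M).trans h)
        exact hLM.ne (Subgroup.eq_of_le_of_card_ge hLM.le (Nat.le_of_dvd Nat.card_pos hML))
      have hn := hsub _ hne ((dvd_card_of_ne_bot hUp hU1).trans (Subgroup.card_dvd_of_le le_sup_left))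
      refine ⟨isNilpotent_of_le le_sup_right hn, fun x hx => Subgroup.mem_centralizer_iff.mpr fun y hy => ?_⟩
      refine commute_in hn (Subgroup.mem_sup_left hy) (Subgroup.mem_sup_right hx) ?_
      obtain ⟨i, hi⟩ := IsPGroup.iff_orderOf.mp hUp ⟨y, hy⟩
      rw [Subgroup.orderOf_mk] at hi
      rw [hi]
      exact (Nat.Coprime.coprime_dvd_right (Subgroup.orderOf_dvd_natCard M (hLM.le hx))
        (hp.coprime_iff_not_dvd.mpr hpM)).pow_left i
    have hMU : ∀ m ∈ M, ∀ u ∈ U, u * m = m * u := by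
      intro m hm u hu
      refine Subgroup.mem_centralizer_iff.mp ((hkey (Subgroup.zpowers m)
        (lt_of_le_of_ne (Subgroup.zpowers_le.mpr hm) fun h => hMn ?_)).2 (Subgroup.mem_zpowers m)) u hu
      rw [← h]
      exact @CommGroup.isNilpotent _ IsCyclic.commGroup
    haveI : Nontrivial U := (Subgroup.nontrivial_iff_ne_bot U).mpr hU1
    haveI := hUp.center_nontrivial
    obtain ⟨k, hk⟩ := IsPGroup.iff_card.mp (hUp.to_subgroup (Subgroup.center U))
    rcases k with _ | k
    · exact absurd (hk.trans (pow_zero p)) Finite.one_lt_card.ne'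
    obtain ⟨z, hz⟩ := exists_prime_orderOf_dvd_card' p (hk ▸ dvd_pow_self p (Nat.succ_ne_zero k))
    have hzo : orderOf ((z : U) : G) = p := by rw [Subgroup.orderOf_coe, Subgroup.orderOf_coe, hz]
    have hzc : ((z : U) : G) ∈ Subgroup.center G := by
      rw [Subgroup.mem_center_iff]
      intro g
      have hg : g ∈ U ⊔ M := hUtop ▸ Subgroup.mem_top g
      rw [Subgroup.mem_sup_of_normal_left] at hg
      obtain ⟨u, hu, m, hm, rfl⟩ := hg
      have h1 : u * (z : U) = (z : U) * u := congrArg Subtype.val (Subgroup.mem_center_iff.mp z.2 ⟨u, hu⟩)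
      have h2 := hMU m hm _ (z : U).2
      rw [mul_assoc, ← h2, ← mul_assoc, h1, mul_assoc]
    set Z := Subgroup.zpowers ((z : U) : G)
    have hZcard : Nat.card Z = p := by rw [Nat.card_zpowers, hzo]
    haveI hZn : Z.Normal := ⟨fun n hn g => by
      rw [(Subgroup.mem_center_iff.mp (Subgroup.zpowers_le.mpr hzc hn) g), mul_inv_cancel_right]
      exact hn⟩
    obtain ⟨hZtop, hZinf, -⟩ := hcomp Z (IsPGroup.of_card (n := 1) (by rw [hZcard, pow_one]))
      (fun h => by rw [h, Subgroup.card_bot] at hZcard; exact hp.ne_one hZcard.symm) hZn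
    refine Or.inr (Or.inr ⟨Z, M, hZn, ?_, hZinf, hZtop, hZcard, ⟨hMn, fun L hL => ?_⟩, hpM⟩)
    · rw [← Subgroup.normalizer_eq_top_iff, eq_top_iff, ← hZtop]
      exact sup_le (fun x hx => Subgroup.centralizer_le_normalizer _ (Subgroup.mem_centralizer_iff.mpr fun y _ =>
        Subgroup.mem_center_iff.mp (Subgroup.zpowers_le.mpr hzc hx) y)) Subgroup.le_normalizer
    · have hlt : L.map M.subtype < M := lt_of_le_of_ne (Subgroup.map_subtype_le _) fun h => hL
        (Subgroup.map_injective M.subtype_injective (by rw [h, ← MonoidHom.range_eq_map, Subgroup.range_subtype]))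
      exact (Group.isNilpotent_congr (L.equivMapOfInjective _ M.subtype_injective)).mpr (hkey _ hlt).1
  · rintro (hnil | hmnn | ⟨Z, K, hZn, hKn, hinf, htop, hZc, hK, hpK⟩) M hM hpM
    · infer_instance
    · exact hmnn.2 M hM.1
    haveI := hZn
    haveI := hKn
    have hcomm : ∀ a ∈ Z, ∀ b ∈ K, a * b = b * a := fun a ha b hb =>
      (Subgroup.commute_of_normal_of_disjoint Z K hZn hKn (disjoint_iff.mpr hinf) a b ha hb).eq
    obtain ⟨g, hg⟩ := exists_prime_orderOf_dvd_card' p hpM
    have hgM : (g : G) ∈ M := g.2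
    have hgZ : (g : G) ∈ Z := by
      have h := htop ▸ Subgroup.mem_top (g : G)
      rw [Subgroup.mem_sup_of_normal_left] at h
      obtain ⟨a, ha, b, hb, hab⟩ := h
      have hb1 : b = 1 := by
        have h1 : (a * b) ^ p = 1 := by rw [hab, ← hg, ← Subgroup.orderOf_coe, pow_orderOf_eq_one]
        have h2 : a ^ p = 1 := hZc ▸ congrArg Subtype.val (pow_card_eq_one' (x := (⟨a, ha⟩ : Z)))
        rw [(show Commute a b from hcomm a ha b hb).mul_pow, h2, one_mul] at h1
        have h3 : b ^ Nat.card K = 1 := congrArg Subtype.val (pow_card_eq_one' (x := (⟨b, hb⟩ : K)))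
        rw [← pow_one b, ← (hp.coprime_iff_not_dvd.mpr hpK).gcd_eq_one]
        exact pow_gcd_eq_one.mpr ⟨h1, h3⟩
      rw [← hab, hb1, mul_one]
      exact ha
    have hZM : Z ≤ M := by
      have h : Subgroup.zpowers (g : G) = Z := Subgroup.eq_of_le_of_card_ge (Subgroup.zpowers_le.mpr hgZ)
        (by rw [hZc, Nat.card_zpowers, Subgroup.orderOf_coe, hg])
      rw [← h]
      exact Subgroup.zpowers_le.mpr hgM
    have hMK : M ⊓ K ≠ K := fun h => hM.1 (eq_top_iff.mpr (htop ▸ sup_le hZM (inf_eq_right.mp h)))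
    haveI : Group.IsNilpotent (M ⊓ K : Subgroup G) := by
      have hne : (M ⊓ K).subgroupOf K ≠ ⊤ := fun h => hMK
        (le_antisymm inf_le_right (Subgroup.subgroupOf_eq_top.mp h))
      exact (Group.isNilpotent_congr (Subgroup.subgroupOfEquivOfLe inf_le_right)).mp (hK.2 _ hne)
    haveI : Group.IsNilpotent Z := (IsPGroup.of_card (n := 1) (by rw [hZc, pow_one])).isNilpotent
    let f : Z × (M ⊓ K : Subgroup G) →* M :=
      MonoidHom.noncommCoprod (Subgroup.inclusion hZM) (Subgroup.inclusion inf_le_left)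
        fun a b => Subtype.ext (hcomm a a.2 b b.2.2)
    refine Group.nilpotent_of_surjective f fun m => ?_
    have h : (m : G) ∈ Z ⊔ K := by rw [htop]; exact Subgroup.mem_top _
    rw [Subgroup.mem_sup_of_normal_left] at h
    obtain ⟨a, ha, b, hb, hab⟩ := h
    refine ⟨(⟨a, ha⟩, ⟨b, ⟨?_, hb⟩⟩), Subtype.ext hab⟩
    show b ∈ M
    have : b = a⁻¹ * m := by rw [← hab]; group
    rw [this]
    exact mul_mem (inv_mem (hZM ha)) m.2

end Cfsg.Agent.S4242
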