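import Cfsg.Statements.S4244
import Cfsg.Agent.EqLemmas

set_option autoImplicit false
open Cfsg

namespace Cfsg.Agent.S4244

/-- For a normal subgroup `H`, the index of `H ⊓ K` in `H` divides the index of `K`. -/
theorem relIndex_dvd_of_normal {G : Type*} [Group G] [Finite G] (H K : Subgroup G) [H.Normal] :
    K.relIndex H ∣ K.index := by
  have h1 : H.relIndex K ∣ H.index := Subgroup.relIndex_dvd_index_of_normal H K
  obtain ⟨c, hc⟩ := h1
  refine ⟨c, ?_⟩
  have eK : (H ⊓ K).relIndex K * K.index = (H ⊓ K).index := Subgroup.relIndex_mul_index inf_le_right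
  have eH : (H ⊓ K).relIndex H * H.index = (H ⊓ K).index := Subgroup.relIndex_mul_index inf_le_left
  rw [Subgroup.inf_relIndex_right] at eK
  rw [Subgroup.inf_relIndex_left, hc] at eH
  have hpos : H.relIndex K ≠ 0 := Subgroup.index_ne_zero_of_finite
  apply mul_left_cancel₀ hpos
  rw [eK, ← eH]; ring

/-- Let H be a subnormal subgroup of a finite group G. Then for every subgroup K of G the index of H ∩ K in H divides the index of K in G. -/
theorem result {G : Type*} [Group G] [Finite G] (H : Subgroup G) (hH : H.IsSubnormal) (K : Subgroup G) :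
    (H ⊓ K).relIndex H ∣ K.index := by
  induction hH with
  | top => simp [Subgroup.relIndex_top_right]
  | step H L hle hsub hN ih =>
    refine dvd_trans ?_ ih
    haveI := hN
    rw [Subgroup.inf_relIndex_left, Subgroup.inf_relIndex_left]
    -- [H : H ⊓ K] divides [L : L ⊓ K]
    have key := relIndex_dvd_of_normal (H.subgroupOf L) (K.subgroupOf L)
    rwa [Subgroup.relIndex_subgroupOf hle, ← Subgroup.relIndex] at key

end Cfsg.Agent.S4244
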