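import Cfsg.Statements.S4245
import Cfsg.Agent.EqLemmas
import Cfsg.Agent.Lib.Kazarin.Main

set_option autoImplicit false
open Cfsg

namespace Cfsg.Agent.S4245
universe u

/-- The hypothesis of the statement, in inductive form. -/
def Hyp (p : ℕ) (G : Type u) [Group G] : Prop :=
  ∃ (A : Subgroup G) (B : Subgroup A) (_ : B.Normal),
    (∃ s, A.index = p ^ s) ∧ IsCyclic B ∧ IsCyclic (A ⧸ B) ∧ IsPGroup 2 (A ⧸ B)

theorem hyp_quot {p : ℕ} (hp : p.Prime) {G : Type u} [Group G] [Finite G] (h : Hyp p G) (N : Subgroup G) [N.Normal] :
    Hyp p (G ⧸ N) := by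
  obtain ⟨A, B, hBn, ⟨s, hs⟩, hB, hC, h2⟩ := h
  let φ : A →* A.map (QuotientGroup.mk' N) := (QuotientGroup.mk' N).subgroupMap A
  have hφ : Function.Surjective φ := (QuotientGroup.mk' N).subgroupMap_surjective A
  haveI : (B.map φ).Normal := hBn.map φ hφ
  let ψ : A ⧸ B →* A.map (QuotientGroup.mk' N) ⧸ B.map φ := QuotientGroup.map B (B.map φ) φ (Subgroup.le_comap_map φ B)
  have hψ : Function.Surjective ψ := by
    intro y
    obtain ⟨z, rfl⟩ := QuotientGroup.mk_surjective y
    obtain ⟨a, rfl⟩ := hφ z
    exact ⟨QuotientGroup.mk a, rfl⟩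
  refine ⟨A.map (QuotientGroup.mk' N), B.map φ, inferInstance, ?_, ?_, isCyclic_of_surjective ψ hψ, h2.of_surjective ψ hψ⟩
  · obtain ⟨t, -, ht⟩ := (Nat.dvd_prime_pow hp).mp (hs ▸ Subgroup.index_map_dvd A (QuotientGroup.mk'_surjective N))
    exact ⟨t, ht⟩
  · haveI := hB
    exact isCyclic_of_surjective (φ.subgroupMap B) (φ.subgroupMap_surjective B)

theorem isSolvable_of_hyp {p : ℕ} (hp : p.Prime) : ∀ (n : ℕ) (G : Type u) [Group G] [Finite G],
    Nat.card G = n → Hyp p G → Group.IsSolvable G := by
  intro n
  induction n using Nat.strong_induction_on with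
  | _ n ih =>
    intro G _ _ hn hG
    classical
    -- an element with a class of prime-power size finishes the induction
    have key : ∀ (x : G) (q k : ℕ), q.Prime → x ≠ 1 → (Subgroup.centralizer ({x} : Set G)).index = q ^ k → Group.IsSolvable G := by
      intro x q k hq hx hidx
      set N := Subgroup.normalClosure ({x} : Set G) with hN
      haveI hN1 : Group.IsSolvable N := Kazarin.isSolvable_normalClosure hq hidx
      have hNbot : N ≠ ⊥ := fun h0 => hx (Subgroup.mem_bot.mp (h0 ▸ Subgroup.subset_normalClosure rfl))
      have hlt : Nat.card (G ⧸ N) < n := by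
        rw [← hn, N.card_eq_card_quotient_mul_card_subgroup]
        exact lt_mul_of_one_lt_right Nat.card_pos ((Subgroup.one_lt_card_iff_ne_bot N).mpr hNbot)
      haveI := ih _ hlt (G ⧸ N) rfl (hyp_quot hp hG N)
      exact Group.isSolvable_of_ker_le_range N.subtype (QuotientGroup.mk' N) (by simp [QuotientGroup.ker_mk'])
    obtain ⟨A, B, hBn, ⟨s, hs⟩, hB, hC, h2⟩ := hG
    -- non-trivial elements centralizing `A`
    have keyA : ∀ x : G, x ≠ 1 → (∀ a ∈ A, a * x = x * a) → Group.IsSolvable G := by
      intro x hx hc
      have hle : A ≤ Subgroup.centralizer ({x} : Set G) :=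
        fun a ha => Subgroup.mem_centralizer_singleton_iff.mpr (hc a ha)
      obtain ⟨k, -, hk⟩ := (Nat.dvd_prime_pow hp).mp (hs ▸ Subgroup.index_dvd_of_le hle)
      exact key x p k hp hx hk
    by_cases hA : A = ⊥
    · haveI := Fact.mk hp
      have hPG : IsPGroup p G := IsPGroup.of_card (n := s) (by rw [← hs, hA, Subgroup.index_bot])
      haveI : Group.IsNilpotent G := hPG.isNilpotent
      infer_instance
    by_cases hab : ∀ a b : A, a * b = b * a
    · obtain ⟨⟨x, hxA⟩, hx'⟩ := Subgroup.ne_bot_iff_exists_ne_one.mp hA
      have hx : x ≠ 1 := fun h => hx' (Subtype.ext h)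
      exact keyA x hx fun a ha => congrArg Subtype.val (hab ⟨a, ha⟩ ⟨x, hxA⟩)
    by_cases hBe : 2 ∣ Nat.card B
    · -- the involution of `B` is central in `A`
      haveI := Fact.mk Nat.prime_two
      obtain ⟨z, hz⟩ := exists_prime_orderOf_dvd_card' (G := B) 2 hBe
      have hz1 : ((z : A) : G) ≠ 1 := by
        intro h
        have h1 : z = 1 := Subtype.ext (Subtype.ext h)
        rw [h1, orderOf_one] at hz
        omega
      refine keyA _ hz1 fun a ha => ?_
      let w : B := ⟨⟨a, ha⟩ * (z : A) * ⟨a, ha⟩⁻¹, hBn.conj_mem _ z.2 _⟩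
      have hw : orderOf w = 2 := by
        rw [← hz, ← orderOf_injective B.subtype B.subtype_injective w, ← orderOf_injective B.subtype B.subtype_injective z]
        exact ((SemiconjBy.conj_mk (⟨a, ha⟩ : A) (z : A)).orderOf_eq).symm
      haveI := hB
      have heq : w = z := by
        haveI := Fintype.ofFinite B
        by_contra hne
        have h1 : ({1, z, w} : Finset B) ⊆ Finset.univ.filter (fun x : B => x ^ 2 = 1) := by
          intro x hx
          simp only [Finset.mem_insert, Finset.mem_singleton] at hx
          rw [Finset.mem_filter]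
          refine ⟨Finset.mem_univ x, ?_⟩
          rcases hx with rfl | rfl | rfl
          · exact one_pow 2
          · rw [← hz]; exact pow_orderOf_eq_one _
          · rw [← hw]; exact pow_orderOf_eq_one _
        have hz0 : z ≠ 1 := fun h => by rw [h, orderOf_one] at hz; omega
        have hw0 : w ≠ 1 := fun h => by rw [h, orderOf_one] at hw; omega
        have h2 := (Finset.card_le_card h1).trans (IsCyclic.card_pow_eq_one_le two_pos)
        rw [Finset.card_insert_of_notMem (by simp [hz0.symm, hw0.symm]), Finset.card_pair (Ne.symm hne)] at h2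
        omega
      have h3 : (⟨a, ha⟩ : A) * (z : A) * ⟨a, ha⟩⁻¹ = (z : A) := congrArg Subtype.val heq
      have h4 := congrArg Subtype.val h3
      simp only [Subgroup.coe_mul, Subgroup.coe_inv] at h4
      exact mul_inv_eq_iff_eq_mul.mp h4
    obtain ⟨r, hr⟩ := IsPGroup.iff_card.mp h2
    haveI := hB
    by_cases hp2 : p = 2
    · -- `B` has `2`-power index
      subst hp2
      by_cases hBbot : B = ⊥
      · exfalso; apply hab
        intro a b
        haveI := hC
        subst hBbot
        have hinj : Function.Injective (QuotientGroup.mk' (⊥ : Subgroup A)) := by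
          rw [← MonoidHom.ker_eq_bot_iff, QuotientGroup.ker_mk']
        apply hinj
        rw [map_mul, map_mul]
        exact IsCyclic.isMulCommutative.is_comm.comm _ _
      · obtain ⟨z, hz⟩ := Subgroup.ne_bot_iff_exists_ne_one.mp hBbot
        have hle : B.map A.subtype ≤ Subgroup.centralizer ({((z : A) : G)} : Set G) := by
          rintro _ ⟨b, hb, rfl⟩
          exact Subgroup.mem_centralizer_singleton_iff.mpr
            (congrArg (fun w : B => ((w : A) : G)) (IsCyclic.isMulCommutative.is_comm.comm (⟨b, hb⟩ : B) z))
        have hidx : (B.map A.subtype).index = 2 ^ (r + s) := by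
          rw [Subgroup.index_map_of_injective _ (Subgroup.subtype_injective A), A.range_subtype, hs,
            show B.index = Nat.card (A ⧸ B) from rfl, hr, pow_add]
        obtain ⟨k, -, hk⟩ := (Nat.dvd_prime_pow Nat.prime_two).mp (hidx ▸ Subgroup.index_dvd_of_le hle)
        exact key _ 2 k Nat.prime_two (fun h => hz (Subtype.ext (Subtype.ext h))) hk
    · -- cyclic Sylow `2`-subgroup
      haveI := Fact.mk Nat.prime_two
      haveI := hC
      obtain ⟨Q⟩ : Nonempty (Sylow 2 A) := inferInstance
      let f : (Q : Subgroup A) →* A ⧸ B := (QuotientGroup.mk' B).comp (Q : Subgroup A).subtype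
      have hf : Function.Injective f := by
        rw [injective_iff_map_eq_one]
        intro x hx
        have hxB : (x : A) ∈ B := (QuotientGroup.eq_one_iff _).mp hx
        obtain ⟨k, hk⟩ := Q.2 x
        have h1 : (⟨(x : A), hxB⟩ : B) ^ (2 ^ k) = 1 := Subtype.ext (by
          have := congrArg Subtype.val hk; simpa using this)
        have h3 : orderOf (⟨(x : A), hxB⟩ : B) = 1 := by
          refine Nat.eq_one_of_dvd_coprimes ?_ (orderOf_dvd_of_pow_eq_one h1) (orderOf_dvd_natCard _)
          exact Nat.Coprime.pow_left k ((Nat.prime_two.coprime_iff_not_dvd).mpr hBe)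
        exact Subtype.ext (congrArg (fun w : B => (w : A)) (orderOf_eq_one_iff.mp h3))
      haveI hQc : IsCyclic (Q : Subgroup A) := isCyclic_of_injective f hf
      have hodd : ¬ 2 ∣ A.index := by
        rw [hs]
        intro h
        exact hp2 ((Nat.prime_dvd_prime_iff_eq Nat.prime_two hp).mp (Nat.prime_two.dvd_of_dvd_pow h)).symm
      have hcardQ : Nat.card ((Q : Subgroup A).map A.subtype) = 2 ^ (Nat.card G).factorization 2 := by
        rw [← Nat.card_congr (Subgroup.equivMapOfInjective _ _ (Subgroup.subtype_injective A)).toEquiv, Q.card_eq_multiplicity,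
          ← A.card_mul_index, Nat.factorization_mul Nat.card_pos.ne' Subgroup.index_ne_zero_of_finite, Finsupp.add_apply,
          Nat.factorization_eq_zero_of_not_dvd hodd, add_zero]
      let P : Sylow 2 G := Sylow.ofCard _ hcardQ
      haveI hPc : IsCyclic (P : Subgroup G) := isCyclic_of_surjective
        (A.subtype.subgroupMap (Q : Subgroup A)) (A.subtype.subgroupMap_surjective (Q : Subgroup A))
      by_cases hAe : 2 ∣ Nat.card A
      · have hGe : 2 ∣ Nat.card G := hAe.trans (Subgroup.card_subgroup_dvd_card A)
        have hmin : (Nat.card G).minFac = 2 := by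
          rw [Nat.minFac_eq_two_iff]; exact hGe
        have hN : Subgroup.normalizer ((P : Subgroup G) : Set G) ≤ Subgroup.centralizer ((P : Subgroup G) : Set G) :=
          IsCyclic.normalizer_le_centralizer hmin hPc
        set K := (MonoidHom.transferSylow P hN).ker with hK
        have hcompl := MonoidHom.ker_transferSylow_isComplement' P hN
        have hKodd : ¬ 2 ∣ Nat.card K := MonoidHom.not_dvd_card_ker_transferSylow P hN
        have hKidx : Group.IsSolvable (G ⧸ K) := by
          have hi : K.index = 2 ^ (Nat.card G).factorization 2 := hcompl.symm.index_eq_card.trans P.card_eq_multiplicity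
          have hPG : IsPGroup 2 (G ⧸ K) := IsPGroup.of_card hi
          haveI : Group.IsNilpotent (G ⧸ K) := hPG.isNilpotent
          infer_instance
        have hlt : Nat.card K < n := by
          rw [← hn]
          refine lt_of_le_of_ne (Nat.le_of_dvd Nat.card_pos (Subgroup.card_subgroup_dvd_card K)) fun h => hKodd ?_
          rw [h]; exact hGe
        have hKsol : Group.IsSolvable K := by
          refine ih _ hlt K rfl ⟨A.subgroupOf K, ⊤, inferInstance, ?_, ?_, ?_, ?_⟩
          · obtain ⟨t, -, ht⟩ := (Nat.dvd_prime_pow hp).mp (hs ▸ Kazarin.relIndex_dvd_index A K)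
            exact ⟨t, ht⟩
          · have hmem : ∀ x : A.subgroupOf K, (⟨((x : K) : G), x.2⟩ : A) ∈ B := by
              intro x
              rw [← QuotientGroup.eq_one_iff]
              obtain ⟨k, hk⟩ := h2 (QuotientGroup.mk (⟨((x : K) : G), x.2⟩ : A))
              refine orderOf_eq_one_iff.mp (Nat.eq_one_of_dvd_coprimes (b := Nat.card K) ?_ (orderOf_dvd_of_pow_eq_one hk) ?_ )
              · exact Nat.Coprime.pow_left k ((Nat.prime_two.coprime_iff_not_dvd).mpr hKodd)
              · refine (orderOf_map_dvd (QuotientGroup.mk' B) _).trans ?_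
                rw [← orderOf_injective A.subtype A.subtype_injective]
                show orderOf ((x : K) : G) ∣ _
                rw [Subgroup.orderOf_coe]
                exact orderOf_dvd_natCard _
            let g : A.subgroupOf K →* B :=
              { toFun := fun x => ⟨⟨((x : K) : G), x.2⟩, hmem x⟩
                map_one' := rfl
                map_mul' := fun x y => rfl }
            haveI : IsCyclic (A.subgroupOf K) := isCyclic_of_injective g (fun x y h =>
              Subtype.ext (Subtype.ext (congrArg (fun w : B => ((w : A) : G)) h)))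
            infer_instance
          · haveI : Subsingleton (↥(A.subgroupOf K) ⧸ (⊤ : Subgroup ↥(A.subgroupOf K))) := QuotientGroup.subsingleton_quotient_top
            exact isCyclic_of_subsingleton
          · intro y
            haveI : Subsingleton (↥(A.subgroupOf K) ⧸ (⊤ : Subgroup ↥(A.subgroupOf K))) := QuotientGroup.subsingleton_quotient_top
            exact ⟨0, Subsingleton.elim _ _⟩
        haveI := hKsol
        haveI := hKidx
        exact Group.isSolvable_of_ker_le_range K.subtype (QuotientGroup.mk' K) (by simp [QuotientGroup.ker_mk'])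
      · exfalso; apply hab
        intro a b
        have hBtop : B = ⊤ := by
          rw [← Subgroup.index_eq_one, show B.index = Nat.card (A ⧸ B) from rfl, hr]
          rcases Nat.eq_zero_or_pos r with h | h
          · rw [h, pow_zero]
          · exact absurd (((dvd_pow_self 2 h.ne').trans hr.symm.dvd).trans (Subgroup.card_quotient_dvd_card B)) hAe
        exact congrArg Subtype.val (IsCyclic.isMulCommutative.is_comm.comm (⟨a, by simp [hBtop]⟩ : B) ⟨b, by simp [hBtop]⟩)


/-- Let G be a finite group with a subgroup A of prime-power index. Suppose A has a normal cyclic subgroup B such that A/B is cyclic of order a power of 2. Then G is solvable. -/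
theorem result {G : Type*} [Group G] [Finite G] (A : Subgroup G) (p s : ℕ) (hp : p.Prime) (hA : A.index = p ^ s)
    (B : Subgroup A) [B.Normal] (hB : IsCyclic B) (hAB : IsCyclic (A ⧸ B)) (r : ℕ) (hr : Nat.card (A ⧸ B) = 2 ^ r) :
    Group.IsSolvable G := by
  exact isSolvable_of_hyp hp _ G rfl ⟨A, B, inferInstance, ⟨s, hA⟩, hB, hAB, IsPGroup.of_card hr⟩

end Cfsg.Agent.S4245
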