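import Cfsg.Statements.S4251
import Cfsg.Agent.Lib.Fusion.TameChain
import Cfsg.Agent.Lib.Transfer.Tate

set_option autoImplicit false
open Cfsg

namespace Cfsg.Agent.S4251

open TameChain

theorem chain_control {G : Type*} [Group G] [Finite G] {p : ℕ} [Fact p.Prime] (P : Sylow p G)
    (hstep : ∀ Q : Sylow p G, IsTame P Q → ∀ x ∈ interNormalizer P Q, ∀ a ∈ (P : Subgroup G) ⊓ (Q : Subgroup G),
      ∃ u ∈ (P : Subgroup G), u⁻¹ * a * u = x⁻¹ * a * x) :
    ∀ (A : Set G) (g : G), Chain P A g → ∀ a ∈ A, ∃ u ∈ (P : Subgroup G), u⁻¹ * a * u = g⁻¹ * a * g := by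
  intro A g h
  induction h with
  | nil A => exact fun a _ => ⟨1, one_mem _, rfl⟩
  | cons A Q x g hx ht hA _ ih =>
    intro a ha
    obtain ⟨u, hu, he⟩ := hstep Q ht x hx a (hA ha)
    obtain ⟨v, hv, he'⟩ := ih (x⁻¹ * a * x) ⟨a, ha, rfl⟩
    refine ⟨u * v, mul_mem hu hv, ?_⟩
    calc (u * v)⁻¹ * a * (u * v) = v⁻¹ * (u⁻¹ * a * u) * v := by group
      _ = g⁻¹ * (x⁻¹ * a * x) * g := by rw [he, he']
      _ = (x * g)⁻¹ * a * (x * g) := by group

/-- Let P be a Sylow p-subgroup of a finite group G. Call an intersection H = P ∩ Q with a Sylow p-subgroup Q tame when N_P(H) and N_Q(H) are Sylow p-subgroups of N_G(H). If N_G(H)/C_G(H) is a p-group for every nontrivial tame intersection H = P ∩ Q, then G has a normal p-complement. -/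
theorem result {G : Type*} [Group G] [Finite G] (p : ℕ) [Fact p.Prime] (P : Sylow p G)
    (h : ∀ Q : Sylow p G, (P : Subgroup G) ⊓ (Q : Subgroup G) ≠ ⊥ → (¬ p ∣ ((P : Subgroup G) ⊓ Subgroup.normalizer (((P : Subgroup G) ⊓ (Q : Subgroup G) : Subgroup G) : Set G)).relIndex (Subgroup.normalizer (((P : Subgroup G) ⊓ (Q : Subgroup G) : Subgroup G) : Set G)) ∧ ¬ p ∣ ((Q : Subgroup G) ⊓ Subgroup.normalizer (((P : Subgroup G) ⊓ (Q : Subgroup G) : Subgroup G) : Set G)).relIndex (Subgroup.normalizer (((P : Subgroup G) ⊓ (Q : Subgroup G) : Subgroup G) : Set G))) →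
      IsPGroup p (Subgroup.normalizer (((P : Subgroup G) ⊓ (Q : Subgroup G) : Subgroup G) : Set G) ⧸
        (Subgroup.centralizer (((P : Subgroup G) ⊓ (Q : Subgroup G) : Subgroup G) : Set G)).subgroupOf
          (Subgroup.normalizer (((P : Subgroup G) ⊓ (Q : Subgroup G) : Subgroup G) : Set G)))) :
    Cfsg.HasNormalPComplement p G := by
  refine Transfer.hasNormalPComplement_of_self_control P fun a ha g hg => ?_
  have hstep : ∀ Q : Sylow p G, TameChain.IsTame P Q → ∀ x ∈ TameChain.interNormalizer P Q,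
      ∀ b ∈ (P : Subgroup G) ⊓ (Q : Subgroup G), ∃ u ∈ (P : Subgroup G), u⁻¹ * b * u = x⁻¹ * b * x := by
    intro Q ht x hx b hb
    set D := (P : Subgroup G) ⊓ (Q : Subgroup G) with hD
    by_cases hb1 : D = ⊥
    · rw [hb1, Subgroup.mem_bot] at hb
      exact ⟨1, one_mem _, by simp [hb]⟩
    have hpg := h Q hb1 ht
    set N := TameChain.interNormalizer P Q with hN
    set C : Subgroup N := (Subgroup.centralizer (D : Set G)).subgroupOf N
    haveI hCn : C.Normal := inferInstanceAs ((Subgroup.centralizer (D : Set G)).subgroupOf (Subgroup.normalizer (D : Set G))).Normal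
    set S : Subgroup N := ((P : Subgroup G) ⊓ N).subgroupOf N
    have htop : S ⊔ C = ⊤ := by
      have h1 : (S ⊔ C).index ∣ S.index := Subgroup.index_dvd_of_le le_sup_left
      obtain ⟨k, hk⟩ := IsPGroup.iff_card.mp (show IsPGroup p (N ⧸ C) from hpg)
      have h2 : (S ⊔ C).index ∣ p ^ k := hk ▸ Subgroup.index_eq_card C ▸ Subgroup.index_dvd_of_le le_sup_right
      rw [← Subgroup.index_eq_one]
      refine Nat.eq_one_of_dvd_coprimes ?_ h2 h1
      exact ((Fact.out : p.Prime).coprime_iff_not_dvd.mpr ht.1).pow_left k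
    obtain ⟨u, hu, c, hc, huc⟩ := Subgroup.mem_sup_of_normal_right.mp (htop ▸ Subgroup.mem_top (⟨x, hx⟩ : N))
    refine ⟨u, (Subgroup.mem_subgroupOf.mp hu).1, ?_⟩
    have hx' : x = u * c := congrArg Subtype.val huc.symm
    have hub : (u : G)⁻¹ * b * u ∈ D := (Subgroup.mem_normalizer_iff''.mp u.2 b).mp hb
    have hcb := Subgroup.mem_centralizer_iff.mp (Subgroup.mem_subgroupOf.mp hc) _ hub
    calc (u : G)⁻¹ * b * u = (c : G)⁻¹ * (((u : G)⁻¹ * b * u) * c) := by rw [hcb]; group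
      _ = x⁻¹ * b * x := by rw [hx']; group
  obtain ⟨u, hu, he⟩ := chain_control P hstep _ _
    (TameChain.exists_chain P (g := g⁻¹) (A := {a}) (Set.singleton_subset_iff.mpr ha) (by
      simp only [TameChain.conjSet, Set.image_singleton, Set.singleton_subset_iff, inv_inv]
      exact hg)) a rfl
  exact ⟨u⁻¹, inv_mem hu, by simpa using he⟩

end Cfsg.Agent.S4251
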