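import Cfsg.Statements.S4252
import Cfsg.Agent.EqLemmas

set_option autoImplicit false
open Cfsg
open scoped Pointwise

namespace Cfsg.Agent.S4252

/-- Let a finite group G act on a finite set Ω with more than one point, transitively but not regularly, so that no non-identity element of G fixes two distinct points. Then the stabilizer H of any point is a Frobenius complement in G (nontrivial, proper, meeting its other conjugates trivially), and the Frobenius kernel of G with respect to H (the identity together with the elements lying in no conjugate of H) is exactly the set consisting of the identity and the elements fixing no point. -/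
theorem result {G Ω : Type*} [Group G] [Finite G] [Fintype Ω] [MulAction G Ω] (hΩ : 1 < Fintype.card Ω)
    (htrans : ∀ α β : Ω, ∃ g : G, g • α = β) (hnreg : ∃ g : G, g ≠ 1 ∧ ∃ α : Ω, g • α = α)
    (hfix : ∀ g : G, g ≠ 1 → ∀ α β : Ω, g • α = α → g • β = β → α = β) (α : Ω) :
    Cfsg.IsFrobeniusComplement (MulAction.stabilizer G α) ∧
      Cfsg.frobeniusKernel (MulAction.stabilizer G α) = {g : G | g = 1 ∨ ∀ ω : Ω, g • ω ≠ ω} := by
  have hconj : ∀ g x : G, x ∈ MulAut.conj g • MulAction.stabilizer G α ↔ x • g • α = g • α := by
    intro g x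
    rw [Subgroup.mem_pointwise_smul_iff_inv_smul_mem, MulAut.smul_def, MulAction.mem_stabilizer_iff]
    simp [MulAut.conj_symm_apply, mul_smul, inv_smul_eq_iff]
  refine ⟨⟨?_, ?_, ?_⟩, ?_⟩
  · obtain ⟨g, hg, β, hβ⟩ := hnreg
    obtain ⟨c, hc⟩ := htrans β α
    intro h
    have : c * g * c⁻¹ ∈ MulAction.stabilizer G α := by
      rw [MulAction.mem_stabilizer_iff, ← hc]; simp [mul_smul, hβ]
    rw [h, Subgroup.mem_bot, conj_eq_one_iff] at this
    exact hg this
  · intro h
    obtain ⟨β, hβ⟩ := Fintype.exists_ne_of_one_lt_card hΩ α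
    obtain ⟨c, hc⟩ := htrans α β
    apply hβ
    have : c ∈ MulAction.stabilizer G α := by rw [h]; exact Subgroup.mem_top c
    rw [← hc]; exact this
  · intro g hg
    rw [eq_bot_iff]
    rintro x ⟨hx1, hx2⟩
    change x ∈ MulAction.stabilizer G α at hx1
    change x ∈ MulAut.conj g • MulAction.stabilizer G α at hx2
    rw [MulAction.mem_stabilizer_iff] at hx1
    rw [hconj] at hx2
    by_contra hx
    exact hg (MulAction.mem_stabilizer_iff.mpr (hfix x (by simpa using hx) _ _ hx1 hx2).symm)
  · ext x
    simp only [Cfsg.frobeniusKernel, Set.mem_setOf_eq, hconj]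
    refine or_congr_right ⟨fun h ω hω => ?_, fun h g => h _⟩
    obtain ⟨c, rfl⟩ := htrans α ω
    exact h c hω

end Cfsg.Agent.S4252
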