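import Cfsg.Statements.S4253
import Cfsg.Agent.EqLemmas

set_option autoImplicit false
open Cfsg
open scoped Pointwise

namespace Cfsg.Agent.S4253

/-- Let H be a Frobenius complement in a finite group G (a nontrivial proper subgroup meeting each conjugate gHg⁻¹ with g outside H trivially). Then in the action of G on the left cosets of H by left multiplication, no non-identity element of G fixes two distinct cosets. -/
theorem result {G : Type*} [Group G] [Finite G] (H : Subgroup G) (hH : Cfsg.IsFrobeniusComplement H)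
    (g : G) (hg : g ≠ 1) (a b : G ⧸ H) (ha : g • a = a) (hb : g • b = b) : a = b := by
  obtain ⟨u, rfl⟩ := QuotientGroup.mk_surjective a
  obtain ⟨v, rfl⟩ := QuotientGroup.mk_surjective b
  rw [MulAction.Quotient.smul_mk, QuotientGroup.eq, smul_eq_mul] at ha hb
  rw [QuotientGroup.eq]
  by_contra h
  have h0 := hH.2.2 _ h
  apply hg
  have hu : u⁻¹ * g * u ∈ H := by simpa [mul_assoc] using inv_mem ha
  have hv : v⁻¹ * g * v ∈ H := by simpa [mul_assoc] using inv_mem hb
  have hmem : u⁻¹ * g * u ∈ H ⊓ MulAut.conj (u⁻¹ * v) • H := by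
    refine ⟨hu, ?_⟩
    change u⁻¹ * g * u ∈ MulAut.conj (u⁻¹ * v) • H
    rw [Subgroup.mem_pointwise_smul_iff_inv_smul_mem]
    simpa [MulAut.smul_def, MulAut.conj_symm_apply, mul_assoc] using hv
  rw [h0, Subgroup.mem_bot] at hmem
  simpa [mul_assoc] using congrArg (fun w => u * w * u⁻¹) hmem

end Cfsg.Agent.S4253
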