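import Cfsg.Statements.S4255
import Cfsg.Agent.Lib.ClassGraph.Disconnected

set_option autoImplicit false
open Cfsg

namespace Cfsg.Agent.S4255

/-- Let G be a finite group. Call a prime a vertex if it divides some conjugacy class size of G, and two distinct vertices adjacent if their product divides some class size. Suppose this graph is disconnected: the vertices split into two nonempty parts with no vertex of one part adjacent to a vertex of the other. Then G/Z(G) is a Frobenius group with abelian Frobenius complement and with a Frobenius kernel all of whose elements commute. -/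
theorem result {G : Type*} [Group G] [Finite G] (S : Set ℕ) (hS : ∃ p ∈ S, (p.Prime ∧ ∃ g : G, p ∣ (Subgroup.centralizer ({g} : Set G)).index)) (hS' : ∃ q ∉ S, (q.Prime ∧ ∃ g : G, q ∣ (Subgroup.centralizer ({g} : Set G)).index))
    (hdisc : ∀ p q : ℕ, (p.Prime ∧ ∃ g : G, p ∣ (Subgroup.centralizer ({g} : Set G)).index) → (q.Prime ∧ ∃ g : G, q ∣ (Subgroup.centralizer ({g} : Set G)).index) → p ∈ S → q ∉ S → ¬ (∃ g : G, p * q ∣ (Subgroup.centralizer ({g} : Set G)).index)) :
    ∃ H : Subgroup (G ⧸ Subgroup.center G), Cfsg.IsFrobeniusComplement H ∧ IsMulCommutative H ∧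
      ∀ x ∈ Cfsg.frobeniusKernel H, ∀ y ∈ Cfsg.frobeniusKernel H, x * y = y * x := by
  have hdich : ∀ g : G, ClassGraph.Snum S (ClassGraph.idx g) ∨ ClassGraph.Snum Sᶜ (ClassGraph.idx g) := by
    intro g
    by_contra h
    rw [not_or] at h
    obtain ⟨h1, h2⟩ := h
    simp only [ClassGraph.Snum, not_forall] at h1 h2
    obtain ⟨q, hq, hqd, hqS⟩ := h1
    obtain ⟨p, hp, hpd, hpS⟩ := h2
    rw [Set.mem_compl_iff, not_not] at hpS
    refine hdisc p q ⟨hp, g, hpd⟩ ⟨hq, g, hqd⟩ hpS hqS ⟨g, ?_⟩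
    exact ((Nat.coprime_primes hp hq).mpr fun e => hqS (e ▸ hpS)).mul_dvd_of_dvd_of_dvd hpd hqd
  have hncentral : ∀ g : G, ∀ r : ℕ, r.Prime → r ∣ ClassGraph.idx g → g ∉ Subgroup.center G := fun g r hr hrd hg =>
    hr.ne_one (Nat.dvd_one.mp (ClassGraph.idx_eq_one_iff.mpr hg ▸ hrd))
  obtain ⟨b, hmax⟩ := Finite.exists_max (fun g : G => ClassGraph.idx g)
  rcases hdich b with hb | hb
  · obtain ⟨q, hqS, hq, g, hqg⟩ := hS'
    have hg : ClassGraph.Snum Sᶜ (ClassGraph.idx g) := (hdich g).resolve_left fun h => hqS (h q hq hqg)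
    exact ClassGraph.exists_frobenius ⟨hdich, ⟨b, hb, hmax⟩, ⟨g, hg, hncentral g q hq hqg⟩⟩
  · obtain ⟨p, hpS, hp, g, hpg⟩ := hS
    have hg : ClassGraph.Snum S (ClassGraph.idx g) := (hdich g).resolve_right fun h => h p hp hpg hpS
    refine ClassGraph.exists_frobenius (T := Sᶜ) ⟨fun a => ?_, ⟨b, hb, hmax⟩, ⟨g, ?_, hncentral g p hp hpg⟩⟩
    · rw [compl_compl]; exact (hdich a).symm
    · rw [compl_compl]; exact hg

end Cfsg.Agent.S4255
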