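import Cfsg.Statements.S4257
import Cfsg.Agent.EqLemmas
import Cfsg.Agent.Lib.ClassGraph.Diameter

set_option autoImplicit false
open Cfsg

namespace Cfsg.Agent.S4257

/-- Let G be a finite group. Call a prime a vertex if it divides some conjugacy class size of G, and two distinct vertices adjacent if their product divides some class size. If this graph is connected, then its diameter is at most 3: any two distinct vertices p and q are adjacent, or joined through one or two intermediate vertices. -/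
theorem result {G : Type*} [Group G] [Finite G]
    (hconn : ∀ S : Set ℕ, (∃ p ∈ S, (p.Prime ∧ ∃ g : G, p ∣ (Subgroup.centralizer ({g} : Set G)).index)) → (∃ q ∉ S, (q.Prime ∧ ∃ g : G, q ∣ (Subgroup.centralizer ({g} : Set G)).index)) →
      ∃ p q : ℕ, (p.Prime ∧ ∃ g : G, p ∣ (Subgroup.centralizer ({g} : Set G)).index) ∧ (q.Prime ∧ ∃ g : G, q ∣ (Subgroup.centralizer ({g} : Set G)).index) ∧ p ∈ S ∧ q ∉ S ∧ (∃ g : G, p * q ∣ (Subgroup.centralizer ({g} : Set G)).index))
    (p q : ℕ) (hp : (p.Prime ∧ ∃ g : G, p ∣ (Subgroup.centralizer ({g} : Set G)).index)) (hq : (q.Prime ∧ ∃ g : G, q ∣ (Subgroup.centralizer ({g} : Set G)).index)) (hpq : p ≠ q) :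
    (∃ g : G, p * q ∣ (Subgroup.centralizer ({g} : Set G)).index) ∨ (∃ r : ℕ, (r.Prime ∧ ∃ g : G, r ∣ (Subgroup.centralizer ({g} : Set G)).index) ∧ r ≠ p ∧ r ≠ q ∧ (∃ g : G, p * r ∣ (Subgroup.centralizer ({g} : Set G)).index) ∧ (∃ g : G, r * q ∣ (Subgroup.centralizer ({g} : Set G)).index)) ∨
      (∃ r s : ℕ, (r.Prime ∧ ∃ g : G, r ∣ (Subgroup.centralizer ({g} : Set G)).index) ∧ (s.Prime ∧ ∃ g : G, s ∣ (Subgroup.centralizer ({g} : Set G)).index) ∧ r ≠ p ∧ s ≠ q ∧ r ≠ s ∧ r ≠ q ∧ s ≠ p ∧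
        (∃ g : G, p * r ∣ (Subgroup.centralizer ({g} : Set G)).index) ∧ (∃ g : G, r * s ∣ (Subgroup.centralizer ({g} : Set G)).index) ∧ (∃ g : G, s * q ∣ (Subgroup.centralizer ({g} : Set G)).index)) := by
  obtain ⟨c, d, hc, hd, h1, h2, h3⟩ := ClassGraph.exists_short_path (G := G) hconn hp hq
  by_cases hadj : ∃ g : G, p * q ∣ (Subgroup.centralizer ({g} : Set G)).index
  · exact Or.inl hadj
  right
  have npq : ¬ ClassGraph.Near G p q := fun h => h.elim hpq hadj
  have path2 : ∀ r : ℕ, ClassGraph.Vert G r → ClassGraph.Near G p r → ClassGraph.Near G r q →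
      ∃ r : ℕ, (r.Prime ∧ ∃ g : G, r ∣ (Subgroup.centralizer ({g} : Set G)).index) ∧ r ≠ p ∧ r ≠ q ∧
        (∃ g : G, p * r ∣ (Subgroup.centralizer ({g} : Set G)).index) ∧
        (∃ g : G, r * q ∣ (Subgroup.centralizer ({g} : Set G)).index) := by
    intro r hr ha hb
    have hrp : r ≠ p := by rintro rfl; exact npq hb
    have hrq : r ≠ q := by rintro rfl; exact npq ha
    exact ⟨r, hr, hrp, hrq, ha.resolve_left fun e => hrp e.symm, hb.resolve_left hrq⟩
  by_cases e1 : c = p
  · subst e1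
    exact Or.inl (path2 d hd h2 h3)
  by_cases e2 : d = q
  · subst e2
    exact Or.inl (path2 c hc h1 h2)
  by_cases e3 : c = d
  · subst e3
    exact Or.inl (path2 c hc h1 h3)
  by_cases e4 : c = q
  · subst e4
    exact absurd h1 npq
  by_cases e5 : d = p
  · subst e5
    exact absurd h3 npq
  exact Or.inr ⟨c, d, hc, hd, e1, e2, e3, e4, e5, h1.resolve_left fun e => e1 e.symm,
    h2.resolve_left e3, h3.resolve_left e2⟩

end Cfsg.Agent.S4257
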