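import Cfsg.Statements.S4261
import Cfsg.Agent.EqLemmas
import Cfsg.Agent.Lib.Solvable.Basic

set_option autoImplicit false
open Cfsg

namespace Cfsg.Agent.S4261

lemma index_prime_pow {G : Type*} [Group G] [Finite G] (hG : Group.IsSolvable G) (M : Subgroup G)
    (hM : IsCoatom M) : ∃ p a : ℕ, p.Prime ∧ M.index = p ^ a := by
  set N := M.normalCore with hN
  set f := QuotientGroup.mk' N with hf
  set M' := M.map f with hM'
  have hfs : Function.Surjective f := QuotientGroup.mk'_surjective N
  have hcomap : M'.comap f = M := by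
    rw [hM', Subgroup.comap_map_eq, hf, QuotientGroup.ker_mk', sup_eq_left.mpr (Subgroup.normalCore_le M)]
  have hidx : M'.index = M.index := by rw [← Subgroup.index_comap_of_surjective M' hfs, hcomap]
  have hnt : Nontrivial (G ⧸ N) := by
    by_contra hc
    rw [not_nontrivial_iff_subsingleton] at hc
    apply hM.1
    rw [← hcomap, eq_top_iff]
    intro g _
    rw [Subgroup.mem_comap, Subsingleton.elim (f g) 1]
    exact M'.one_mem
  obtain ⟨p, hp, A, hAn, hA0, -, hAc, hApg, -, -⟩ :=
    Cfsg.Agent.Solvable.exists_minimal_normal_pGroup (G := G ⧸ N) (N := ⊤)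
      (by have : Nontrivial (Subgroup (G ⧸ N)) := inferInstance; exact top_ne_bot)
  have hle : ∀ K : Subgroup (G ⧸ N), K.Normal → K ≤ M' → K = ⊥ := by
    intro K hK hKM
    have h1 : K.comap f ≤ N := by
      have h2 : K.comap f ≤ M := (Subgroup.comap_mono hKM).trans hcomap.le
      exact Subgroup.normal_le_normalCore.mpr h2
    rw [← Subgroup.map_comap_eq_self_of_surjective hfs K, eq_bot_iff]
    refine (Subgroup.map_mono h1).trans ?_
    rw [hf, QuotientGroup.map_mk'_self]
  have hAM : ¬ A ≤ M' := fun h => hA0 (hle A hAn h)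
  have htop : A ⊔ M' = ⊤ := by
    have h1 : M < (A ⊔ M').comap f := by
      refine lt_of_le_of_ne (hcomap.ge.trans (Subgroup.comap_mono le_sup_right)) fun e => hAM ?_
      have := congrArg (Subgroup.map f) e
      rw [Subgroup.map_comap_eq_self_of_surjective hfs] at this
      exact le_sup_left.trans this.ge
    have h2 := hM.2 _ h1
    rw [← Subgroup.map_comap_eq_self_of_surjective hfs (A ⊔ M'), h2, Subgroup.map_top_of_surjective f hfs]
  have hI : (A ⊓ M').Normal := by
    rw [← Subgroup.normalizer_eq_top_iff, eq_top_iff, ← htop]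
    refine sup_le (fun a ha => ?_) (fun m hm => ?_)
    · rw [Subgroup.mem_normalizer_iff]
      intro x
      constructor
      · intro hx
        have : a * x = x * a := congrArg Subtype.val (hAc.is_comm.comm (⟨a, ha⟩ : A) ⟨x, hx.1⟩)
        rwa [this, mul_inv_cancel_right]
      · intro hx
        have hxA : x ∈ A := by simpa [mul_assoc] using hAn.conj_mem _ hx.1 a⁻¹
        have : a * x = x * a := congrArg Subtype.val (hAc.is_comm.comm (⟨a, ha⟩ : A) ⟨x, hxA⟩)
        rwa [this, mul_inv_cancel_right] at hx
    · rw [Subgroup.mem_normalizer_iff]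
      intro x
      constructor
      · exact fun hx => ⟨hAn.conj_mem x hx.1 m, M'.mul_mem (M'.mul_mem hm hx.2) (M'.inv_mem hm)⟩
      · intro hx
        refine ⟨by simpa [mul_assoc] using hAn.conj_mem _ hx.1 m⁻¹, ?_⟩
        simpa [mul_assoc] using M'.mul_mem (M'.mul_mem (M'.inv_mem hm) hx.2) hm
  have hbot := hle _ hI inf_le_right
  have := Fact.mk hp
  obtain ⟨a, ha⟩ := IsPGroup.iff_card.mp hApg
  refine ⟨p, a, hp, ?_⟩
  rw [← hidx, ← ha]
  have h1 : M'.index = M'.relIndex A := by
    have h2 := Subgroup.relIndex_sup_right (H := M') (K := A)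
    have h3 : A.relIndex M' * M'.index = (A ⊓ M').index := by
      rw [← Subgroup.inf_relIndex_right]; exact Subgroup.relIndex_mul_index inf_le_right
    have h4 : M'.relIndex A * A.index = (A ⊓ M').index := by
      rw [inf_comm, ← Subgroup.inf_relIndex_right]; exact Subgroup.relIndex_mul_index inf_le_right
    have h5 : A.relIndex M' = A.index := by
      rw [← h2, sup_comm, htop, Subgroup.relIndex_top_right]
    rw [h5] at h3
    exact mul_left_cancel₀ (Subgroup.index_ne_zero_of_finite) (h3.trans (h4.symm.trans (mul_comm _ _)))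
  rw [h1, ← Subgroup.inf_relIndex_right, inf_comm, hbot, Subgroup.relIndex_bot_left]

/-- Let M be a maximal subgroup of a finite solvable group G such that x^[G : M] lies in M for every x in G. Then M is normal in G. -/
theorem result {G : Type*} [Group G] [Finite G] (hG : Group.IsSolvable G) (M : Subgroup G) (hM : IsCoatom M)
    (hexp : ∀ x : G, x ^ M.index ∈ M) : M.Normal := by
  obtain ⟨p, a, hp, hpa⟩ := index_prime_pow hG M hM
  have := Fact.mk hp
  set K := Subgroup.closure {x : G | (orderOf x).Coprime p} with hK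
  have hKM : K ≤ M := by
    rw [hK, Subgroup.closure_le]
    intro x hx
    obtain ⟨m, hm⟩ := exists_pow_eq_self_of_coprime (n := M.index) (x := x)
      (by rw [hpa]; exact (Nat.Coprime.pow_right a hx).symm)
    rw [← hm]
    exact M.pow_mem (hexp x) m
  have hKn : K.Normal := ⟨fun x hx g => by
    have hsub : K ≤ K.comap (MulAut.conj g).toMonoidHom := by
      rw [hK, Subgroup.closure_le]
      intro y hy
      refine Subgroup.subset_closure ?_
      show (orderOf (MulAut.conj g y)).Coprime p
      rwa [MulEquiv.orderOf_eq]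
    exact hsub hx⟩
  have hQ : IsPGroup p (G ⧸ K) := by
    intro q
    obtain ⟨g, rfl⟩ := QuotientGroup.mk'_surjective K q
    obtain ⟨i, m, hm, he⟩ := Nat.exists_eq_pow_mul_and_not_dvd (orderOf_pos g).ne' p hp.ne_one
    refine ⟨i, ?_⟩
    rw [← map_pow]
    refine (QuotientGroup.eq_one_iff _).mpr (Subgroup.subset_closure ?_)
    show (orderOf (g ^ p ^ i)).Coprime p
    rw [orderOf_pow_of_dvd (pow_ne_zero _ hp.ne_zero) (he ▸ Dvd.intro _ rfl), he,
      Nat.mul_div_cancel_left _ (pow_pos hp.pos i)]
    exact ((hp.coprime_iff_not_dvd).mpr hm).symm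
  have hnil : Group.IsNilpotent (G ⧸ K) := hQ.isNilpotent
  have hcomap : (M.map (QuotientGroup.mk' K)).comap (QuotientGroup.mk' K) = M := by
    rw [Subgroup.comap_map_eq, QuotientGroup.ker_mk', sup_eq_left.mpr hKM]
  have hco : IsCoatom (M.map (QuotientGroup.mk' K)) := by
    refine ⟨fun h => hM.1 ?_, fun L hL => ?_⟩
    · rw [← hcomap, h, Subgroup.comap_top]
    · have h1 : M < L.comap (QuotientGroup.mk' K) := by
        rw [← hcomap]
        refine lt_of_le_of_ne (Subgroup.comap_mono hL.le) fun e => hL.ne ?_
        exact Subgroup.comap_injective (QuotientGroup.mk'_surjective K) e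
      rw [← Subgroup.map_comap_eq_self_of_surjective (QuotientGroup.mk'_surjective K) L, hM.2 _ h1,
        Subgroup.map_top_of_surjective _ (QuotientGroup.mk'_surjective K)]
  have := Subgroup.NormalizerCondition.normal_of_coatom _ (Group.normalizerCondition_of_isNilpotent (G := G ⧸ K)) hco
  rw [← hcomap]
  infer_instance

end Cfsg.Agent.S4261
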