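import Cfsg.Statements.S4262
import Cfsg.Agent.S0556
import Cfsg.Agent.S4040

set_option autoImplicit false
open Cfsg

namespace Cfsg.Agent.S4262

variable {G : Type*} [Group G] [Finite G]

/-- If all `r`-elements of `H` lie in `N` then `r` does not divide `|H : N ⊓ H|`. -/
theorem not_dvd_relIndex (H N : Subgroup G) (r : ℕ) [hr : Fact r.Prime]
    (h : ∀ u ∈ H, (∃ k, orderOf u = r ^ k) → u ∈ N) : ¬ r ∣ N.relIndex H := by
  obtain ⟨R⟩ := (inferInstance : Nonempty (Sylow r H))
  have hle : (R : Subgroup H) ≤ N.subgroupOf H := by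
    intro u hu
    obtain ⟨k, hk⟩ := (IsPGroup.iff_orderOf.1 R.isPGroup') ⟨u, hu⟩
    refine h u u.2 ⟨k, ?_⟩
    rw [← hk, Subgroup.orderOf_coe, ← Subgroup.orderOf_coe (⟨u, hu⟩ : (R : Subgroup H))]
  intro hdvd
  exact R.not_dvd_index (hdvd.trans (Subgroup.index_dvd_of_le hle))

omit [Finite G] in
theorem center_mem_centralizer (g : G) : Subgroup.center G ≤ Subgroup.centralizer ({g} : Set G) :=
  fun z hz => Subgroup.mem_centralizer_singleton_iff.2 (Subgroup.mem_center_iff.1 hz g).symm

theorem cent_eq_top {g : G} : Subgroup.centralizer ({g} : Set G) = ⊤ ↔ g ∈ Subgroup.center G := by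
  rw [Subgroup.centralizer_eq_top_iff_subset, Set.singleton_subset_iff, SetLike.mem_coe]

/-- Commuting non-central elements of coprime orders have the same centralizer. -/
theorem cent_eq (h : ∀ g : G, g ∉ Subgroup.center G → IsCoatom (Subgroup.centralizer ({g} : Set G)))
    {x y : G} (hx : x ∉ Subgroup.center G) (hy : y ∉ Subgroup.center G) (hc : Commute x y)
    (hco : (orderOf x).Coprime (orderOf y)) :
    Subgroup.centralizer ({x} : Set G) = Subgroup.centralizer ({y} : Set G) := by
  have key : ∀ a b : G, Commute a b → (orderOf a).Coprime (orderOf b) → a ∈ Subgroup.zpowers (a * b) := by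
    intro a b hab hab'
    obtain ⟨m, hm⟩ := exists_pow_eq_self_of_coprime (n := orderOf b) (x := a) hab'.symm
    refine ⟨((orderOf b * m : ℕ) : ℤ), ?_⟩
    simp only [zpow_natCast]
    rw [pow_mul, hab.mul_pow, pow_orderOf_eq_one, mul_one, hm]
  have hle : ∀ a : G, a ∈ Subgroup.zpowers (x * y) →
      Subgroup.centralizer ({x * y} : Set G) ≤ Subgroup.centralizer ({a} : Set G) := by
    rintro a ⟨k, rfl⟩ c hc'
    exact Subgroup.mem_centralizer_singleton_iff.2
      ((show Commute c (x * y) from Subgroup.mem_centralizer_singleton_iff.1 hc').zpow_right k).eq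
  have hx' := key x y hc hco
  have hy' : y ∈ Subgroup.zpowers (x * y) := hc.eq ▸ key y x hc.symm hco.symm
  have hxy : x * y ∉ Subgroup.center G := fun hmem => hx ((Subgroup.zpowers_le.2 hmem) hx')
  have e : ∀ a : G, a ∉ Subgroup.center G → a ∈ Subgroup.zpowers (x * y) →
      Subgroup.centralizer ({x * y} : Set G) = Subgroup.centralizer ({a} : Set G) := fun a ha ha' =>
    ((h _ hxy).le_iff.1 (hle a ha')).resolve_left (fun e => ha (cent_eq_top.1 e)) |>.symm
  exact (e x hx hx').symm.trans (e y hy hy')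

/-- Let G be a finite group in which the centralizer of every non-central element is a maximal subgroup of G. Then G is solvable. -/
theorem result {G : Type*} [Group G] [Finite G]
    (h : ∀ g : G, g ∉ Subgroup.center G → IsCoatom (Subgroup.centralizer ({g} : Set G))) :
    Group.IsSolvable G := by
  classical
  set Z := Subgroup.center G with hZ
  by_cases hA : ∃ (x y : G) (p q i j : ℕ), x ∉ Z ∧ y ∉ Z ∧ Commute x y ∧ p.Prime ∧ q.Prime ∧ p ≠ q ∧
      orderOf x = p ^ i ∧ orderOf y = q ^ j
  · -- an abelian maximal subgroup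
    obtain ⟨x, y, p, q, i, j, hx, hy, hc, hp, hq, hpq, hox, hoy⟩ := hA
    set M := Subgroup.centralizer ({x} : Set G) with hM
    have hMy : M = Subgroup.centralizer ({y} : Set G) :=
      cent_eq h hx hy hc (by rw [hox, hoy]; exact Nat.Coprime.pow _ _ ((Nat.coprime_primes hp hq).2 hpq))
    have hin : ∀ r : ℕ, r.Prime → ∀ u ∈ M, (∃ k, orderOf u = r ^ k) → u ∈ Subgroup.centralizer (M : Set G) := by
      rintro r hr u hu ⟨k, hk⟩
      rw [Subgroup.mem_centralizer_iff]
      intro m hm
      by_cases huZ : u ∈ Z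
      · exact Subgroup.mem_center_iff.1 huZ m
      have he : Subgroup.centralizer ({u} : Set G) = M := by
        by_cases hrp : r = p
        · rw [hMy]
          refine cent_eq h huZ hy ?_ ?_
          · exact Subgroup.mem_centralizer_singleton_iff.1 (hMy ▸ hu)
          · rw [hk, hoy, hrp]; exact Nat.Coprime.pow _ _ ((Nat.coprime_primes hp hq).2 hpq)
        · refine cent_eq h huZ hx (Subgroup.mem_centralizer_singleton_iff.1 hu) ?_
          rw [hk, hox]; exact Nat.Coprime.pow _ _ ((Nat.coprime_primes hr hp).2 hrp)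
      exact Subgroup.mem_centralizer_singleton_iff.1 (he.symm ▸ hm : m ∈ Subgroup.centralizer ({u} : Set G))
    have hab : M ≤ Subgroup.centralizer (M : Set G) := by
      rw [← Subgroup.relIndex_eq_one]
      by_contra hne
      obtain ⟨r, hr, hdvd⟩ := Nat.exists_prime_and_dvd hne
      haveI := Fact.mk hr
      exact not_dvd_relIndex M _ r (hin r hr) hdvd
    haveI : IsMulCommutative M :=
      ⟨⟨fun a b => Subtype.ext (Subgroup.mem_centralizer_iff.1 (hab b.2) a a.2)⟩⟩
    exact ⟨⟨3, S0556.result M (h x hx)⟩⟩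
  have hpure : ∀ (x : G) (p i : ℕ), x ∉ Z → p.Prime → orderOf x = p ^ i → ∀ r : ℕ, r.Prime → r ≠ p →
      ¬ r ∣ Z.relIndex (Subgroup.centralizer ({x} : Set G)) := by
    intro x p i hx hp hox r hr hrp
    haveI := Fact.mk hr
    refine not_dvd_relIndex _ _ r ?_
    rintro u hu ⟨k, hk⟩
    by_contra huZ
    exact hA ⟨u, x, r, p, k, i, huZ, hx, Subgroup.mem_centralizer_singleton_iff.1 hu, hr, hp, hrp, hk, hox⟩
  haveI hZs : Group.IsSolvable Z := Group.isSolvable_of_comm fun a b =>
    Subtype.ext (Subgroup.mem_center_iff.1 b.2 (a : G))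
  suffices hq : Group.IsSolvable (G ⧸ Z) from
    (Cfsg.Agent.Solvable.isSolvable_subgroup_quotient_iff Z).2 ⟨hZs, hq⟩
  by_cases hodd : ∃ (x : G) (p i : ℕ), x ∉ Z ∧ p.Prime ∧ p ≠ 2 ∧ orderOf x = p ^ i
  · obtain ⟨x, p, i, hx, hp, hp2, hox⟩ := hodd
    haveI := Fact.mk hp
    set M := Subgroup.centralizer ({x} : Set G) with hM
    have hcard : Nat.card (M.map (QuotientGroup.mk' Z)) = Z.relIndex M := by
      rw [← Subgroup.relIndex_ker, QuotientGroup.ker_mk']
    obtain ⟨a, ha⟩ : ∃ a, Z.relIndex M = p ^ a :=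
      ⟨_, Nat.eq_prime_pow_of_unique_prime_dvd (hcard ▸ Nat.card_pos.ne') (fun {d} hd hdd => by
        by_contra hdp
        exact hpure x p i hx hp hox d hd hdp hdd)⟩
    refine S4040.result (G := G ⧸ Z) (M.map (QuotientGroup.mk' Z))
      (S4040.isCoatom_map (h x hx) (center_mem_centralizer x)) ?_ ?_
    · exact (IsPGroup.of_card (p := p) (hcard.trans ha)).isNilpotent
    · rw [hcard, ha]; exact (hp.odd_of_ne_two hp2).pow
  · haveI := Fact.mk Nat.prime_two
    have h2 : IsPGroup 2 (G ⧸ Z) := IsPGroup.iff_card.2 ⟨_, Nat.eq_prime_pow_of_unique_prime_dvd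
      Nat.card_pos.ne' (fun {d} hd hdd => by
        by_contra hd2
        haveI := Fact.mk hd
        refine not_dvd_relIndex ⊤ Z d ?_ (by rw [Subgroup.relIndex_top_right, Subgroup.index_eq_card]; exact hdd)
        rintro u - ⟨k, hk⟩
        by_contra huZ
        exact hodd ⟨u, d, k, huZ, hd, hd2, hk⟩)⟩
    haveI := h2.isNilpotent
    infer_instance

end Cfsg.Agent.S4262
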