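import Cfsg.Statements.S4263
import Cfsg.Agent.EqLemmas

set_option autoImplicit false
open Cfsg

namespace Cfsg.Agent.S4263

variable {G : Type*} [Group G] [Finite G]

lemma relIndex_dvd_index (H K : Subgroup G) [K.Normal] : H.relIndex K ∣ H.index := by
  have h1 : (H ⊓ K).relIndex H * H.index = (H ⊓ K).index := Subgroup.relIndex_mul_index inf_le_left
  have h2 : (H ⊓ K).relIndex K * K.index = (H ⊓ K).index := Subgroup.relIndex_mul_index inf_le_right
  have h3 : K.relIndex (H ⊔ K) * (H ⊔ K).index = K.index := Subgroup.relIndex_mul_index le_sup_right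
  rw [Subgroup.inf_relIndex_left] at h1
  rw [Subgroup.inf_relIndex_right] at h2
  rw [Subgroup.relIndex_sup_right] at h3
  have hne : K.relIndex H ≠ 0 := Subgroup.FiniteIndex.index_ne_zero
  refine ⟨(H ⊔ K).index, mul_left_cancel₀ hne ?_⟩
  rw [h1, ← h2, ← h3]; ring

lemma pow_index_mem_of_pGroup {p : ℕ} [Fact p.Prime] (N : Subgroup G) [N.Normal] (hN : IsPGroup p N)
    {x : G} (hx : x ∈ N) (H : Subgroup G) : x ^ H.index ∈ H := by
  obtain ⟨j, hj⟩ := hN.index (H.subgroupOf N)
  have hj' : H.relIndex N = p ^ j := hj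
  obtain ⟨m, hm0, hmle, hm⟩ := Subgroup.exists_pow_mem_of_relIndex_ne_zero
    (H := H) (K := N) (by rw [hj']; exact pow_ne_zero _ (Fact.out : p.Prime).ne_zero) hx
  have hgcd : x ^ Nat.gcd m (orderOf x) ∈ H := by
    rw [← zpow_natCast, Nat.gcd_eq_gcd_ab, zpow_add, zpow_mul, zpow_mul, zpow_natCast, zpow_natCast,
      pow_orderOf_eq_one, one_zpow, mul_one]
    exact H.zpow_mem hm.1 _
  obtain ⟨a, ha⟩ := hN ⟨x, hx⟩
  have hxa : orderOf x ∣ p ^ a := orderOf_dvd_of_pow_eq_one (congrArg Subtype.val ha)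
  obtain ⟨i, -, hi⟩ := (Nat.dvd_prime_pow Fact.out).mp ((Nat.gcd_dvd_right m (orderOf x)).trans hxa)
  have hij : p ^ i ∣ p ^ j := by
    apply Nat.pow_dvd_pow
    rw [← Nat.pow_le_pow_iff_right (Fact.out : p.Prime).one_lt, ← hi, ← hj']
    exact (Nat.gcd_le_left _ hm0).trans hmle
  obtain ⟨c, hc⟩ := (hj' ▸ hij).trans (relIndex_dvd_index H N)
  rw [hc, pow_mul, ← hi]
  exact H.pow_mem hgcd c

lemma mem_of_prime_power_powers (M : Subgroup G) (P : G → Prop) (hP : ∀ y (k : ℕ), P y → P (y ^ k))
    (h : ∀ (p : ℕ), p.Prime → ∀ y (k : ℕ), P y → y ^ p ^ k = 1 → y ∈ M) {x : G} (hx : P x) : x ∈ M := by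
  suffices ∀ n : ℕ, 0 < n → ∀ y, P y → y ^ n = 1 → y ∈ M from
    this _ (orderOf_pos x) x hx (pow_orderOf_eq_one x)
  intro n
  induction n using Nat.recOnPrimeCoprime with
  | zero => intro h0; omega
  | prime_pow p k hp => exact fun _ y hy hy1 => h p hp y k hy hy1
  | coprime a b ha hb hab iha ihb =>
    intro _ y hy hy1
    have h1 : y ^ a ∈ M := ihb (by omega) _ (hP y a hy) (by rw [← pow_mul]; exact hy1)
    have h2 : y ^ b ∈ M := iha (by omega) _ (hP y b hy) (by rw [← pow_mul, mul_comm]; exact hy1)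
    obtain ⟨u, v, huv⟩ := Int.isCoprime_iff_gcd_eq_one.mpr (by simpa [Int.gcd_natCast_natCast] using hab : Int.gcd (a:ℤ) b = 1)
    have e : y = (y ^ a) ^ u * (y ^ b) ^ v := by
      rw [← zpow_natCast, ← zpow_natCast, ← zpow_mul, ← zpow_mul, ← zpow_add, mul_comm (a:ℤ), mul_comm (b:ℤ), huv, zpow_one]
    rw [e]
    exact M.mul_mem (M.zpow_mem h1 u) (M.zpow_mem h2 v)

lemma pCore_isPGroup (p : ℕ) : IsPGroup p (pCore p G) := by
  have key : ∀ s : Finset (Subgroup G), (∀ N ∈ s, N.Normal ∧ IsPGroup p N) →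
      (s.sup id).Normal ∧ IsPGroup p ↥(s.sup id) := by
    classical
    intro s
    induction s using Finset.induction_on with
    | empty => exact fun _ => by simp only [Finset.sup_empty]; exact ⟨inferInstance, IsPGroup.of_bot⟩
    | @insert a t _ ih =>
      intro h
      obtain ⟨h1, h2⟩ := ih fun N hN => h N (Finset.mem_insert_of_mem hN)
      obtain ⟨h3, h4⟩ := h a (Finset.mem_insert_self a t)
      rw [Finset.sup_insert]
      show (a ⊔ t.sup id).Normal ∧ IsPGroup p ↥(a ⊔ t.sup id)
      exact ⟨Subgroup.sup_normal _ _, h4.to_sup_of_normal_right h2⟩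
  have hfin : ({N : Subgroup G | N.Normal ∧ IsPGroup p N}).Finite := Set.toFinite _
  have heq : pCore p G = hfin.toFinset.sup id := by
    rw [pCore, Finset.sup_id_eq_sSup, Set.Finite.coe_toFinset]
  rw [heq]
  exact (key _ fun N hN => hfin.mem_toFinset.mp hN).2

instance pCore_normal' (p : ℕ) : (pCore p G).Normal := Subgroup.sSup_normal _ fun _ h => h.1

lemma pCore_le_fitting (p : ℕ) [Fact p.Prime] : pCore p G ≤ fittingSubgroup G :=
  le_sSup ⟨inferInstance, (pCore_isPGroup p).isNilpotent⟩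

lemma nilpotent_mem {N : Subgroup G} [N.Normal] (hN : Group.IsNilpotent N) {p : ℕ} (hp : p.Prime) {y : G}
    (hy : y ∈ N) {k : ℕ} (hk : y ^ p ^ k = 1) : y ∈ pCore p G := by
  have := Fact.mk hp
  obtain ⟨P, hP⟩ := (IsPGroup.of_card (p := p) (G := Subgroup.zpowers (⟨y, hy⟩ : N)) (n := Nat.log p (Nat.card (Subgroup.zpowers (⟨y, hy⟩ : N)))) (by
    rw [Nat.card_zpowers]
    obtain ⟨i, -, hi⟩ := (Nat.dvd_prime_pow hp).mp (orderOf_dvd_of_pow_eq_one (x := (⟨y, hy⟩ : N)) (Subtype.ext hk))
    rw [hi, Nat.log_pow hp.one_lt])).exists_le_sylow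
  have hPn : (P : Subgroup N).Normal := inferInstance
  have := Sylow.characteristic_of_normal P hPn
  refine le_sSup (s := {K : Subgroup G | K.Normal ∧ IsPGroup p K}) (a := (P : Subgroup N).map N.subtype) ⟨inferInstance, P.isPGroup'.map _⟩
    ⟨⟨y, hy⟩, hP (Subgroup.mem_zpowers _), rfl⟩

def Good (x : G) : Prop := ∀ H : Subgroup G, x ^ H.index ∈ H

lemma good_fitting {x : G} (hx : x ∈ fittingSubgroup G) : Good x := by
  classical
  have key : ∀ s : Finset ℕ, (∀ p ∈ s, p.Prime) → ∀ z ∈ s.sup (fun p => pCore p G), Good z := by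
    intro s
    induction s using Finset.induction_on with
    | empty => intro _ z hz H; simp_all
    | @insert a t hat ih =>
      intro hpr z hz
      rw [Finset.sup_insert] at hz
      have := Fact.mk (hpr a (Finset.mem_insert_self a t))
      have htn : (t.sup fun p => pCore p G).Normal := Finset.sup_induction (p := Subgroup.Normal) inferInstance
        (fun A hA B hB => by haveI := hA; haveI := hB; exact Subgroup.sup_normal A B) fun p _ => inferInstance
      have hcop : ∀ u ∈ pCore a G, ∀ v ∈ t.sup (fun p => pCore p G), Commute u v := by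
        intro u hu v hv
        have hle : (t.sup fun p => pCore p G) ≤ Subgroup.centralizer {u} := by
          refine Finset.sup_le fun q hq w hw => ?_
          have := Fact.mk (hpr q (Finset.mem_insert_of_mem hq))
          exact Subgroup.mem_centralizer_singleton_iff.mpr
            (Subgroup.commute_of_normal_of_disjoint _ _ inferInstance inferInstance
              (IsPGroup.disjoint_of_ne a q (by rintro rfl; exact hat hq) _ _ (pCore_isPGroup a) (pCore_isPGroup q)) u w hu hw).eq.symm
        exact (Subgroup.mem_centralizer_singleton_iff.mp (hle hv)).symm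
      obtain ⟨u, hu, v, hv, rfl⟩ := Subgroup.mem_sup_of_normal_left.mp hz
      intro H
      rw [(hcop u hu v hv).mul_pow]
      exact H.mul_mem (pow_index_mem_of_pGroup _ (pCore_isPGroup a) hu H)
        (ih (fun p hp => hpr p (Finset.mem_insert_of_mem hp)) v hv H)
  refine key (Nat.card G).primeFactors (fun p hp => Nat.prime_of_mem_primeFactors hp) x ?_
  refine (show fittingSubgroup G ≤ (Nat.card G).primeFactors.sup fun p => pCore p G from ?_) hx
  refine sSup_le ?_
  rintro N ⟨hN, hnil⟩ y hy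
  refine mem_of_prime_power_powers _ (fun y => y ∈ N) (fun y k h => N.pow_mem h k) ?_ hy
  intro p hp z k hz hk
  by_cases h1 : z = 1
  · subst h1; exact Subgroup.one_mem _
  · have : p ∣ Nat.card G := by
      obtain ⟨i, -, hi⟩ := (Nat.dvd_prime_pow hp).mp (orderOf_dvd_of_pow_eq_one hk)
      have hi0 : i ≠ 0 := by rintro rfl; simp_all
      exact ((dvd_pow_self p hi0).trans (hi ▸ dvd_refl _)).trans (orderOf_dvd_natCard z)
    exact Finset.le_sup (f := fun p => pCore p G) (Nat.mem_primeFactors.mpr ⟨hp, this, Nat.card_pos.ne'⟩)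
      (nilpotent_mem hnil hp hz hk)

/-- Let G be a finite group. An element x lies in the Fitting subgroup F(G) if and only if, for every subgroup H of G, the power x^[G : H] lies in H. -/
theorem result {G : Type*} [Group G] [Finite G] (x : G) :
    x ∈ Cfsg.fittingSubgroup G ↔ ∀ H : Subgroup G, x ^ H.index ∈ H := by
  refine ⟨fun hx => good_fitting hx, fun hx => ?_⟩
  refine mem_of_prime_power_powers _ Good (fun y k h H => by rw [← pow_mul, mul_comm, pow_mul]; exact H.pow_mem (h H) k)
    ?_ hx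
  intro p hp y k hy hk
  have := Fact.mk hp
  refine pCore_le_fitting p ?_
  have hmem : ∀ P : Sylow p G, y ∈ (P : Subgroup G) := fun P => by
    have hc : (P : Subgroup G).index.Coprime (orderOf y) :=
      Nat.Coprime.coprime_dvd_right (orderOf_dvd_of_pow_eq_one hk)
        ((hp.coprime_iff_not_dvd.mpr P.not_dvd_index).symm.pow_right k)
    obtain ⟨m, hm⟩ := exists_pow_eq_self_of_coprime hc
    rw [← hm]; exact Subgroup.pow_mem _ (hy _) m
  obtain ⟨P⟩ : Nonempty (Sylow p G) := inferInstance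
  have hcore : (P : Subgroup G).normalCore ≤ pCore p G :=
    le_sSup ⟨inferInstance, P.isPGroup'.to_le (Subgroup.normalCore_le _)⟩
  refine hcore fun g => ?_
  have := hmem (g⁻¹ • P)
  rw [Sylow.coe_subgroup_smul, Subgroup.mem_pointwise_smul_iff_inv_smul_mem] at this
  simpa [MulAut.smul_def] using this

end Cfsg.Agent.S4263
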