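import Cfsg.Statements.S4265
import Cfsg.Agent.EqLemmas
import Cfsg.Agent.Lib.SolvBlockBound.Complex

set_option autoImplicit false
open Cfsg

namespace Cfsg.Agent.S4265

/-- Let G be a finite solvable subgroup of GL_r(ℂ), r ≥ 1, with Fitting subgroup F(G) normal in G. Then for every subgroup H of G the quotient H/(H ∩ F(G)) has at most 3^{r−1} conjugacy classes. -/
theorem result (r : ℕ) (hr : 1 ≤ r) (G : Subgroup (GL (Fin r) ℂ)) [Finite ↥G] (hsolv : Group.IsSolvable ↥G) [hF : (Cfsg.fittingSubgroup ↥G).Normal] (H : Subgroup ↥G) : Nat.card (ConjClasses (↥H ⧸ (Cfsg.fittingSubgroup ↥G).subgroupOf H)) ≤ 3 ^ (r - 1) := by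
  obtain ⟨r, rfl⟩ : ∃ r', r = r' + 1 := ⟨r - 1, by omega⟩
  rw [Nat.add_sub_cancel]
  let ρ : ↥G →* Module.End ℂ (Fin (r + 1) → ℂ) :=
    (Units.coeHom _).comp ((Matrix.GeneralLinearGroup.toLin (n := Fin (r + 1)) (R := ℂ)).toMonoidHom.comp G.subtype)
  have hρ : Function.Injective ρ :=
    Units.val_injective.comp ((Matrix.GeneralLinearGroup.toLin (n := Fin (r + 1)) (R := ℂ)).injective.comp
      Subtype.val_injective)
  haveI := hsolv
  have h := SolvBlockBound.cBound (r + 1) (Nat.succ_pos r) G (Fin (r + 1) → ℂ) ρ hρ (Module.finrank_fin_fun ℂ)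
  let ι := QuotientGroup.map ((Cfsg.fittingSubgroup ↥G).subgroupOf H) (Cfsg.fittingSubgroup ↥G) H.subtype le_rfl
  have hι : Function.Injective ι := by
    rw [injective_iff_map_eq_one]
    intro x hx
    obtain ⟨y, rfl⟩ := QuotientGroup.mk_surjective x
    exact (QuotientGroup.eq_one_iff y).mpr ((QuotientGroup.eq_one_iff (y : ↥G)).mp hx)
  have h2 := (SolvBlockBound.cc_le_hcc _).trans (SolvBlockBound.hcc_mono ι hι)
  rw [pow_succ] at h
  exact Nat.le_of_mul_le_mul_right ((Nat.mul_le_mul_right _ h2).trans h) (by norm_num)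

end Cfsg.Agent.S4265
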