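import Cfsg.Statements.S4266
import Cfsg.Agent.EqLemmas
import Cfsg.Agent.Lib.SolvClassNum.Main

set_option autoImplicit false
open Cfsg

namespace Cfsg.Agent.S4266

/-- Let p be a prime and G a finite solvable group whose order is divisible by p². Then G has at least 49p/60 conjugacy classes. -/
theorem result {G : Type*} [Group G] [Finite G] (hsolv : Group.IsSolvable G) (p : ℕ) [Fact p.Prime] (hp : p ^ 2 ∣ Nat.card G) : 49 * p ≤ 60 * Nat.card (ConjClasses G) := by
  let f : G ≃* Shrink.{0} G := (Shrink.mulEquiv : Shrink.{0} G ≃* G).symm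
  haveI : Finite (Shrink.{0} G) := Finite.of_equiv G f.toEquiv
  haveI : Group.IsSolvable (Shrink.{0} G) := Group.isSolvable_of_surjective (f := f.toMonoidHom) f.surjective
  have hc : Nat.card (ConjClasses (Shrink.{0} G)) = Nat.card (ConjClasses G) := by
    refine (Nat.card_congr (Equiv.ofBijective (ConjClasses.map f.toMonoidHom) ⟨?_, ?_⟩)).symm
    · intro a b
      obtain ⟨x, rfl⟩ := ConjClasses.mk_surjective a
      obtain ⟨y, rfl⟩ := ConjClasses.mk_surjective b
      intro h
      have h' := MonoidHom.map_isConj f.symm.toMonoidHom (ConjClasses.mk_eq_mk_iff_isConj.mp h)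
      exact ConjClasses.mk_eq_mk_iff_isConj.mpr (by simpa using h')
    · intro c
      obtain ⟨x, rfl⟩ := ConjClasses.mk_surjective c
      exact ⟨ConjClasses.mk (f.symm x), congrArg ConjClasses.mk (f.apply_symm_apply x)⟩
  rw [← hc]
  exact SolvClassNum.solvable_classes_bound p _ (Shrink.{0} G) rfl (by rwa [← Nat.card_congr f.toEquiv])

end Cfsg.Agent.S4266
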