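import Cfsg.Statements.S4269
import Cfsg.Agent.EqLemmas

set_option autoImplicit false
open Cfsg

namespace Cfsg.Agent.S4269

open scoped commutatorElement

/-- Let G be a finite group, V an abelian normal subgroup and H a subgroup with HV = G. Then H is pronormal in G (H and gHg⁻¹ are conjugate inside the subgroup they generate, for every g) if and only if every H-invariant subgroup U of V satisfies U = N_U(H)·[H, U], that is, U is the join of U ∩ N_G(H) and the commutator subgroup [H, U]. -/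
theorem result {G : Type*} [Group G] [Finite G]
    (V : Subgroup G) [V.Normal] (hV : IsMulCommutative ↥V) (H : Subgroup G) (hHV : H ⊔ V = ⊤) :
    Cfsg.IsPronormal H ↔
      ∀ U : Subgroup G, U ≤ V → (∀ h ∈ H, U.map (MulAut.conj h).toMonoidHom = U) →
        U = (U ⊓ Subgroup.normalizer (H : Set G)) ⊔ ⁅H, U⁆ := by
  have hV' : ∀ a ∈ V, ∀ b ∈ V, a * b = b * a := fun a ha b hb =>
    congrArg Subtype.val (hV.is_comm.comm (⟨a, ha⟩ : V) ⟨b, hb⟩)
  constructor
  · intro hpro U hUV hinv
    have hcU : ⁅H, U⁆ ≤ U := by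
      rw [Subgroup.commutator_le]
      intro h hh u hu
      rw [commutatorElement_def]
      refine U.mul_mem ?_ (U.inv_mem hu)
      have : (MulAut.conj h).toMonoidHom u ∈ U.map (MulAut.conj h).toMonoidHom := ⟨u, hu, rfl⟩
      rw [hinv h hh] at this
      simpa using this
    refine le_antisymm ?_ (sup_le inf_le_left hcU)
    intro u hu
    obtain ⟨x, hx, hxe⟩ := hpro u
    have hle : H ⊔ H.map (MulAut.conj u).toMonoidHom ≤ H ⊔ ⁅H, U⁆ := by
      refine sup_le le_sup_left ?_
      rintro _ ⟨h, hh, rfl⟩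
      have e : (MulAut.conj u).toMonoidHom h = h * ⁅h⁻¹, u⁆ := by
        simp [commutatorElement_def]; group
      rw [e]
      exact Subgroup.mul_mem_sup hh (Subgroup.commutator_mem_commutator (H.inv_mem hh) hu)
    have hHn : H ≤ Subgroup.normalizer ((⁅H, U⁆ : Subgroup G) : Set G) := by
      intro k hk
      have hmH : H.map (MulAut.conj k).toMonoidHom = H := by
        ext y
        constructor
        · rintro ⟨z, hz, rfl⟩; exact H.mul_mem (H.mul_mem hk hz) (H.inv_mem hk)
        · intro hy; exact ⟨k⁻¹ * y * k, H.mul_mem (H.mul_mem (H.inv_mem hk) hy) hk, by simp; group⟩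
      have hmap : (⁅H, U⁆ : Subgroup G).map (MulAut.conj k).toMonoidHom = ⁅H, U⁆ := by
        rw [Subgroup.map_commutator, hmH, hinv k hk]
      rw [Subgroup.mem_normalizer_iff]
      intro y
      conv_rhs => rw [← hmap]
      exact ⟨fun hy => ⟨y, hy, rfl⟩, fun ⟨z, hz, hzy⟩ => (MulAut.conj k).injective hzy ▸ hz⟩
    have hx' : x ∈ ((H ⊔ ⁅H, U⁆ : Subgroup G) : Set G) := hle hx
    rw [Subgroup.coe_mul_of_left_le_normalizer_right H ⁅H, U⁆ hHn] at hx'
    obtain ⟨h, hh, c, hc, rfl⟩ := hx'
    have hu' : h⁻¹ * u * h ∈ U := by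
      have : (MulAut.conj h⁻¹).toMonoidHom u ∈ U.map (MulAut.conj h⁻¹).toMonoidHom := ⟨u, hu, rfl⟩
      rw [hinv h⁻¹ (H.inv_mem hh)] at this
      simpa using this
    have hm : ∀ y, y ∈ H ↔ (h * c)⁻¹ * (u * y * u⁻¹) * (h * c) ∈ H := by
      intro y
      constructor
      · intro hy
        have : u * y * u⁻¹ ∈ H.map (MulAut.conj u).toMonoidHom := ⟨y, hy, by simp⟩
        rw [hxe] at this
        obtain ⟨z, hz, hze⟩ := this
        simp at hze
        rw [← hze]
        simpa [mul_assoc] using hz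
      · intro hy
        have : u * y * u⁻¹ ∈ H.map (MulAut.conj (h * c)).toMonoidHom := ⟨_, hy, by simp; group⟩
        rw [← hxe] at this
        obtain ⟨z, hz, hze⟩ := this
        simp at hze
        rwa [← hze]
    have hn : c⁻¹ * (h⁻¹ * u * h) ∈ Subgroup.normalizer (H : Set G) := by
      rw [Subgroup.mem_normalizer_iff]
      intro y
      have e : c⁻¹ * (h⁻¹ * u * h) * y * (c⁻¹ * (h⁻¹ * u * h))⁻¹
          = (h * c)⁻¹ * (u * (h * y * h⁻¹) * u⁻¹) * (h * c) := by group
      rw [e, ← hm]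
      constructor
      · intro hy; exact H.mul_mem (H.mul_mem hh hy) (H.inv_mem hh)
      · intro hy
        have := H.mul_mem (H.mul_mem (H.inv_mem hh) hy) hh
        convert this using 1
        group
    have e : u = ⁅h⁻¹, u⁆⁻¹ * c * (c⁻¹ * (h⁻¹ * u * h)) := by simp [commutatorElement_def]; group
    rw [e]
    refine Subgroup.mul_mem _ (Subgroup.mul_mem _ (Subgroup.inv_mem _ ?_) ?_) ?_
    · exact Subgroup.mem_sup_right (Subgroup.commutator_mem_commutator (H.inv_mem hh) hu)
    · exact Subgroup.mem_sup_right hc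
    · exact Subgroup.mem_sup_left ⟨U.mul_mem (U.inv_mem (hcU hc)) hu', hn⟩
  · intro hcond g
    have hg : g ∈ H ⊔ V := hHV ▸ Subgroup.mem_top g
    obtain ⟨h, hh, v, hv, rfl⟩ := Subgroup.mem_sup_of_normal_right.mp hg
    set w := h * v * h⁻¹ with hwdef
    have hw : w ∈ V := Subgroup.Normal.conj_mem inferInstance v hv h
    have hmap : H.map (MulAut.conj (h * v)).toMonoidHom = H.map (MulAut.conj w).toMonoidHom := by
      ext y
      constructor
      · rintro ⟨z, hz, rfl⟩
        exact ⟨h * z * h⁻¹, H.mul_mem (H.mul_mem hh hz) (H.inv_mem hh), by simp [hwdef]; group⟩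
      · rintro ⟨z, hz, rfl⟩
        exact ⟨h⁻¹ * z * h, H.mul_mem (H.mul_mem (H.inv_mem hh) hz) hh, by simp [hwdef, mul_assoc]⟩
    rw [hmap]
    set K := H ⊔ H.map (MulAut.conj w).toMonoidHom with hK
    set U := Subgroup.closure {y : G | ∃ k ∈ H, y = k * w * k⁻¹} with hU
    have hUV : U ≤ V := by
      rw [hU, Subgroup.closure_le]
      rintro _ ⟨k, -, rfl⟩
      exact Subgroup.Normal.conj_mem inferInstance w hw k
    have hinv : ∀ k ∈ H, U.map (MulAut.conj k).toMonoidHom = U := by
      intro k hk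
      rw [hU, MonoidHom.map_closure]
      congr 1
      ext y
      constructor
      · rintro ⟨_, ⟨j, hj, rfl⟩, rfl⟩
        exact ⟨k * j, H.mul_mem hk hj, by simp; group⟩
      · rintro ⟨j, hj, rfl⟩
        exact ⟨_, ⟨k⁻¹ * j, H.mul_mem (H.inv_mem hk) hj, rfl⟩, by simp; group⟩
    have hS : ∀ u ∈ U, ∀ k ∈ H, ⁅k, u⁆ ∈ K := by
      intro u hu
      induction hu using Subgroup.closure_induction with
      | mem y hy =>
        obtain ⟨j, hj, rfl⟩ := hy
        intro k hk
        have e : ⁅k, j * w * j⁻¹⁆ = j * ((j⁻¹ * k * j) * (w * (j⁻¹ * k * j)⁻¹ * w⁻¹)) * j⁻¹ := by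
          simp [commutatorElement_def]; group
        rw [e]
        have hjK : j ∈ K := Subgroup.mem_sup_left hj
        have hk' : j⁻¹ * k * j ∈ H := H.mul_mem (H.mul_mem (H.inv_mem hj) hk) hj
        refine K.mul_mem (K.mul_mem hjK (K.mul_mem (Subgroup.mem_sup_left hk') ?_)) (K.inv_mem hjK)
        exact Subgroup.mem_sup_right ⟨_, H.inv_mem hk', by simp⟩
      | one => intro k hk; simp
      | mul a b ha hb iha ihb =>
        intro k hk
        have hb' : ⁅k, b⁆ ∈ V := by
          rw [commutatorElement_def]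
          exact V.mul_mem (Subgroup.Normal.conj_mem inferInstance b (hUV hb) k) (V.inv_mem (hUV hb))
        have e : ⁅k, a * b⁆ = ⁅k, a⁆ * (a * ⁅k, b⁆ * a⁻¹) := by simp [commutatorElement_def]; group
        have e2 : a * ⁅k, b⁆ * a⁻¹ = ⁅k, b⁆ := by rw [hV' a (hUV ha) _ hb', mul_inv_cancel_right]
        rw [e, e2]
        exact K.mul_mem (iha k hk) (ihb k hk)
      | inv a ha iha =>
        intro k hk
        have ha' : ⁅k, a⁆ ∈ V := by
          rw [commutatorElement_def]
          exact V.mul_mem (Subgroup.Normal.conj_mem inferInstance a (hUV ha) k) (V.inv_mem (hUV ha))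
        have e : ⁅k, a⁻¹⁆ = (a⁻¹ * ⁅k, a⁆ * a)⁻¹ := by simp [commutatorElement_def]; group
        have e2 : a⁻¹ * ⁅k, a⁆ * a = ⁅k, a⁆ := by
          rw [hV' a⁻¹ (V.inv_mem (hUV ha)) _ ha', inv_mul_cancel_right]
        rw [e, e2]
        exact K.inv_mem (iha k hk)
    have hcK : ⁅H, U⁆ ≤ K := Subgroup.commutator_le.mpr fun k hk u hu => hS u hu k hk
    have hcV : ⁅H, U⁆ ≤ V := Subgroup.commutator_le.mpr fun k hk u hu => by
      rw [commutatorElement_def]
      exact V.mul_mem (Subgroup.Normal.conj_mem inferInstance u (hUV hu) k) (V.inv_mem (hUV hu))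
    have hwU : w ∈ U := Subgroup.subset_closure ⟨1, H.one_mem, by simp⟩
    rw [hcond U hUV hinv] at hwU
    have hnorm : U ⊓ Subgroup.normalizer (H : Set G) ≤ Subgroup.normalizer ((⁅H, U⁆ : Subgroup G) : Set G) := by
      intro a ha
      rw [Subgroup.mem_normalizer_iff]
      intro y
      constructor
      · intro hy
        rwa [hV' a (hUV ha.1) y (hcV hy), mul_inv_cancel_right]
      · intro hy
        have hyV : a⁻¹ * (a * y * a⁻¹) * a ∈ V :=
          V.mul_mem (V.mul_mem (V.inv_mem (hUV ha.1)) (hcV hy)) (hUV ha.1)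
        have : y ∈ V := by convert hyV using 1; group
        rwa [hV' a (hUV ha.1) y this, mul_inv_cancel_right] at hy
    rw [← SetLike.mem_coe, Subgroup.coe_mul_of_left_le_normalizer_right _ _ hnorm] at hwU
    obtain ⟨n, hn, c, hc, hnc⟩ := hwU
    refine ⟨c, hcK hc, ?_⟩
    have hw' : w = c * n := by rw [← hnc]; exact hV' n (hUV hn.1) c (hcV hc)
    rw [hw']
    ext y
    constructor
    · rintro ⟨z, hz, rfl⟩
      exact ⟨n * z * n⁻¹, (Subgroup.mem_normalizer_iff.mp hn.2 z).mp hz, by simp [mul_assoc]⟩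
    · rintro ⟨z, hz, rfl⟩
      refine ⟨n⁻¹ * z * n, (Subgroup.mem_normalizer_iff.mp hn.2 _).mpr (by simpa [mul_assoc] using hz), ?_⟩
      simp [mul_assoc]

end Cfsg.Agent.S4269
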