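import Cfsg.Statements.S4271
import Cfsg.Agent.EqLemmas
import Cfsg.Agent.S4270

set_option autoImplicit false
open Cfsg

namespace Cfsg.Agent.S4271

open Cfsg.Agent.S4270

variable {G : Type*} [Group G] [Finite G] {p : ℕ} [Fact p.Prime]

lemma normalizer_eq_self (hQ : ∀ P : Sylow p G, Subgroup.normalizer ((P : Subgroup G) : Set G) = P)
    {K : Subgroup G} {P : Sylow p G} (hP : (P : Subgroup G) ≤ K) : Subgroup.normalizer (K : Set G) = K := by
  refine le_antisymm (fun g hg => ?_) Subgroup.le_normalizer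
  obtain ⟨x, hx, he⟩ := sylow_conj_in P g hP ((cj_mono g hP).trans (cj_self_iff.mpr hg).le)
  have : x⁻¹ * g ∈ (P : Subgroup G) := by
    rw [← hQ P]
    exact cj_self_iff.mp (by rw [← cj_cj, ← he, cj_cj, inv_mul_cancel, cj_one])
  have := K.mul_mem hx (hP this)
  rwa [mul_inv_cancel_left] at this

lemma pron_of_selfnorm (hQ : ∀ P : Sylow p G, Subgroup.normalizer ((P : Subgroup G) : Set G) = P)
    {K : Subgroup G} {P : Sylow p G} (hP : (P : Subgroup G) ≤ K) : Cfsg.IsPronormal K := by
  intro g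
  obtain ⟨x, hx, he⟩ := sylow_conj_in P g (hP.trans (le_sup_left (b := cj g K)))
    ((cj_mono g hP).trans le_sup_right)
  refine ⟨x, hx, ?_⟩
  have : x⁻¹ * g ∈ (P : Subgroup G) := by
    rw [← hQ P]
    exact cj_self_iff.mp (by rw [← cj_cj, ← he, cj_cj, inv_mul_cancel, cj_one])
  show cj g K = cj x K
  have e : cj (x⁻¹ * g) K = K := cj_mem (hP this)
  calc cj g K = cj x (cj (x⁻¹ * g) K) := by rw [cj_cj, mul_inv_cancel_left]
    _ = cj x K := by rw [e]

/-- Let p be a prime and G a finite group with a normal subgroup A such that every subgroup of A containing a Sylow p-subgroup of A is pronormal in A, and the Sylow p-subgroups of G/A are self-normalizing. Let T be a Sylow p-subgroup of A. Then every subgroup of G containing a Sylow p-subgroup of G is pronormal in G if and only if every subgroup of N_G(T)/T containing a Sylow p-subgroup of N_G(T)/T is pronormal in N_G(T)/T. (Pronormal: H and gHg⁻¹ are conjugate inside the subgroup they generate, for every g.) -/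
theorem result {G : Type*} [Group G] [Finite G] {p : ℕ} [Fact p.Prime]
    (A : Subgroup G) [A.Normal] (hA : (∀ K : Subgroup ↥A, (∃ P : Sylow p ↥A, (P : Subgroup ↥A) ≤ K) → Cfsg.IsPronormal K))
    (hQ : ∀ P : Sylow p (G ⧸ A), Subgroup.normalizer ((P : Subgroup (G ⧸ A)) : Set (G ⧸ A)) = P)
    (T : Subgroup G) (hT : ∃ P : Sylow p ↥A, (P : Subgroup ↥A).map A.subtype = T) [(T.subgroupOf (Subgroup.normalizer (T : Set G))).Normal] :
    (∀ K : Subgroup G, (∃ P : Sylow p G, (P : Subgroup G) ≤ K) → Cfsg.IsPronormal K) ↔ (∀ K : Subgroup (↥(Subgroup.normalizer (T : Set G)) ⧸ T.subgroupOf (Subgroup.normalizer (T : Set G))), (∃ P : Sylow p (↥(Subgroup.normalizer (T : Set G)) ⧸ T.subgroupOf (Subgroup.normalizer (T : Set G))), (P : Subgroup (↥(Subgroup.normalizer (T : Set G)) ⧸ T.subgroupOf (Subgroup.normalizer (T : Set G)))) ≤ K) → Cfsg.IsPronormal K) := by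
  have hiff := Cfsg.Agent.S4270.result A hA
    (fun K ⟨P, hP⟩ => pron_of_selfnorm hQ hP) T hT
  refine ⟨fun h => (hiff.mp h).1, fun h => hiff.mpr ⟨h, fun K hK => ?_⟩⟩
  have hidx : ¬ p ∣ (K.map (QuotientGroup.mk' A)).index := fun hd =>
    (exists_sylow_le_iff K).mp hK (hd.trans (Subgroup.index_map_dvd _ (QuotientGroup.mk'_surjective A)))
  obtain ⟨P, hP⟩ := (exists_sylow_le_iff _).mpr hidx
  refine le_antisymm (Subgroup.le_normalizer_map _) ?_
  rw [normalizer_eq_self hQ hP]
  exact Subgroup.map_mono Subgroup.le_normalizer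

end Cfsg.Agent.S4271
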