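import Cfsg.Statements.S4274
import Cfsg.Agent.Lib.Order175560.Simple
import Mathlib.GroupTheory.Sylow
import Cfsg.Agent.Lib.PLocal.Thompson

set_option autoImplicit false
open Cfsg

universe u

namespace Cfsg.Agent.Order175560

open Subgroup

theorem card_sylow_nineteen {G : Type*} [Group G] [Finite G] [Fact (Nat.Prime 19)]
    (hd : Nat.card G ∣ 175560) (h19 : 19 ∣ Nat.card G) (P : Sylow 19 G) :
    Nat.card (P : Subgroup G) = 19 := by
  obtain ⟨m, hm⟩ := h19
  rw [SmallOrders.card_sylow_subgroup (e := 1) (m := m) (by rw [pow_one, hm]) ?_ P, pow_one]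
  intro h
  have : 19 * 19 ∣ 175560 := (hm ▸ mul_dvd_mul_left 19 h).trans hd
  norm_num at this

/-- A Sylow `19`-subgroup centralises a normal subgroup of order prime to `19`. -/
theorem le_centralizer_of_coprime {G : Type*} [Group G] [Finite G] [Fact (Nat.Prime 19)]
    (hd : Nat.card G ∣ 175560) (h19 : 19 ∣ Nat.card G) (P : Sylow 19 G) (N : Subgroup G) [N.Normal]
    (hN : ¬ 19 ∣ Nat.card N) : N ≤ centralizer ((P : Subgroup G) : Set G) := by
  set K := N ⊓ centralizer ((P : Subgroup G) : Set G) with hK
  suffices hdvd : Nat.card N ∣ Nat.card K from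
    (eq_of_le_of_card_ge inf_le_left (Nat.le_of_dvd Nat.card_pos hdvd)).ge.trans inf_le_right
  rw [← Nat.factorization_prime_le_iff_dvd Nat.card_pos.ne' Nat.card_pos.ne']
  intro r hr
  haveI := Fact.mk hr
  rw [← hr.pow_dvd_iff_le_factorization Nat.card_pos.ne']
  obtain ⟨R⟩ : Nonempty (Sylow r N) := inferInstance
  set Rg := (R : Subgroup N).map N.subtype with hRg
  have hRc : Nat.card Rg = r ^ (Nat.card N).factorization r := by
    rw [hRg, card_map_of_injective N.subtype_injective, R.card_eq_multiplicity]
  have hRle : Nat.card Rg ≤ 18 := by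
    have hdN : r ^ (Nat.card N).factorization r ∣ 9240 := by
      refine (Nat.Coprime.dvd_of_dvd_mul_left ?_ (?_ : r ^ (Nat.card N).factorization r ∣ 19 * 9240))
      · exact Nat.Coprime.coprime_dvd_left (Nat.ordProj_dvd _ _)
          ((Fact.out : Nat.Prime 19).coprime_iff_not_dvd.2 hN).symm
      · exact (Nat.ordProj_dvd _ _).trans ((card_subgroup_dvd_card N).trans hd)
    rw [hRc]
    have hdiv : ∀ i : ℕ, r ^ i ∣ 9240 → r ^ i ≤ 18 := by
      intro i hi
      rcases Nat.eq_zero_or_pos i with rfl | hi0
      · simp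
      have hall : ∀ a < 9241, a ∣ 9240 → IsPrimePow a → a ≤ 18 := by
        intro a ha had hap
        obtain ⟨q, k, hq, -, rfl⟩ := (isPrimePow_nat_iff a).1 hap
        have hq' : q ∣ 9240 ∨ k = 0 := by
          rcases Nat.eq_zero_or_pos k with h | h
          · exact Or.inr h
          · exact Or.inl ((dvd_pow_self q h.ne').trans had)
        rcases hq' with hq' | rfl
        swap
        · simp
        have hqs : q ∈ [2, 3, 5, 7, 11] := by
          have h1 : q ∣ 2 ^ 3 * 3 * 5 * 7 * 11 := hq'
          rcases hq.dvd_mul.1 h1 with h1 | h1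
          · rcases hq.dvd_mul.1 h1 with h1 | h1
            · rcases hq.dvd_mul.1 h1 with h1 | h1
              · rcases hq.dvd_mul.1 h1 with h1 | h1
                · simp [(Nat.prime_dvd_prime_iff_eq hq Nat.prime_two).1 (hq.dvd_of_dvd_pow h1)]
                · simp [(Nat.prime_dvd_prime_iff_eq hq Nat.prime_three).1 h1]
              · simp [(Nat.prime_dvd_prime_iff_eq hq (by norm_num)).1 h1]
            · simp [(Nat.prime_dvd_prime_iff_eq hq (by norm_num)).1 h1]
          · simp [(Nat.prime_dvd_prime_iff_eq hq (by norm_num)).1 h1]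
        simp only [List.mem_cons, List.not_mem_nil, or_false] at hqs
        by_contra hgt
        push Not at hgt
        rcases hqs with rfl | rfl | rfl | rfl | rfl
        · have : 4 ≤ k := by
            by_contra hk
            have := Nat.pow_le_pow_right (show 2 > 0 by norm_num) (show k ≤ 3 by omega)
            omega
          have := (pow_dvd_pow 2 this).trans had
          norm_num at this
        all_goals
          have : 2 ≤ k := by
            by_contra hk
            have h2 : k ≤ 1 := by omega
            interval_cases k <;> simp at hgt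
          have := (pow_dvd_pow _ this).trans had
          norm_num at this
      exact hall _ (Nat.lt_succ_of_le (Nat.le_of_dvd (by norm_num) hi)) hi
        ((isPrimePow_nat_iff _).2 ⟨r, i, hr, hi0, rfl⟩)
    exact hdiv _ hdN
  -- an element of order `19` normalising `Rg`
  have htop : normalizer (Rg : Set G) ⊔ N = ⊤ := Sylow.normalizer_sup_eq_top R
  have h19n : 19 ∣ Nat.card (normalizer (Rg : Set G)) := by
    have h1 := PLocal.card_sup_mul_card_inf (H := N) (K := normalizer (Rg : Set G))
      (by rw [normalizer_eq_top N]; exact le_top)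
    rw [sup_comm, htop, Subgroup.card_top] at h1
    exact ((Fact.out : Nat.Prime 19).dvd_mul.1 (h1 ▸ h19.mul_right _)).resolve_left hN
  obtain ⟨y, hy⟩ := exists_prime_orderOf_dvd_card' 19 h19n
  have hyo : orderOf (y : G) = 19 := by rw [Subgroup.orderOf_coe, hy]
  have hcent : Rg ≤ centralizer ({(y : G)} : Set G) := by
    classical
    haveI := Fintype.ofFinite Rg
    let θ := Rg.normalizerMonoidHom y
    have hθ : θ.toEquiv = (1 : Equiv.Perm Rg) := by
      have h19' : (θ.toEquiv : Equiv.Perm Rg) ^ 19 = 1 := by
        have h2 : θ ^ 19 = 1 := by rw [← map_pow, ← hy, pow_orderOf_eq_one, map_one]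
        ext a
        have h3 : ∀ k : ℕ, ((θ.toEquiv : Equiv.Perm Rg) ^ k) a = (θ ^ k) a := fun k => by
          induction k generalizing a with
          | zero => rfl
          | succ k ih => rw [pow_succ, pow_succ, Equiv.Perm.mul_apply, MulAut.mul_apply]; exact ih _
        rw [h3, h2]; rfl
      refine orderOf_eq_one_iff.1 (Nat.eq_one_of_dvd_coprimes ?_ (orderOf_dvd_of_pow_eq_one h19')
        (_root_.orderOf_dvd_natCard _))
      rw [Nat.card_perm, Nat.coprime_comm]
      refine Nat.Coprime.symm ((Fact.out : Nat.Prime 19).coprime_iff_not_dvd.2 fun h => ?_)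
      have := ((Fact.out : Nat.Prime 19).dvd_factorial).1 h
      omega
    intro a ha
    rw [mem_centralizer_singleton_iff]
    have h2 : (y : G) * a * (y : G)⁻¹ = a :=
      congrArg Subtype.val (Equiv.congr_fun hθ (⟨a, ha⟩ : Rg))
    exact (mul_inv_eq_iff_eq_mul.1 h2).symm
  -- move it into `P`
  obtain ⟨Q, hQ⟩ := SmallOrders.exists_sylow_eq_zpowers (card_sylow_nineteen hd h19) hyo
  obtain ⟨g, hg⟩ := MulAction.exists_smul_eq G Q P
  have hle : Rg.map (MulAut.conj g).toMonoidHom ≤ K := by
    rintro _ ⟨a, ha, rfl⟩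
    refine ⟨(inferInstance : N.Normal).conj_mem a (map_subtype_le _ ha) g, mem_centralizer_iff.2 ?_⟩
    rw [← hg]
    rintro _ ⟨b, hb, rfl⟩
    have hb' : b ∈ zpowers (y : G) := hQ ▸ hb
    obtain ⟨i, rfl⟩ := mem_zpowers_iff.1 hb'
    exact (((show Commute a (y : G) from mem_centralizer_singleton_iff.1 (hcent ha)).zpow_right i).map
      (MulAut.conj g).toMonoidHom).eq.symm
  have := card_dvd_of_le hle
  rwa [card_map_of_injective (MulAut.conj g).injective, hRc] at this

theorem sylow_normal : ∀ (n : ℕ) (G : Type u) [Group G] [Finite G], Nat.card G = n → n ∣ 175560 → 19 ∣ n →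
    (n = 175560 → ¬ IsSimpleGroup G) → ∀ P : Sylow 19 G, (P : Subgroup G).Normal := by
  intro n
  induction n using Nat.strong_induction_on with
  | _ n ih =>
    intro G _ _ hn hd h19 hns P
    haveI := Fact.mk (show Nat.Prime 19 by norm_num)
    have hPc := card_sylow_nineteen (hn ▸ hd) (hn ▸ h19) P
    by_cases hn19 : n = 19
    · have : (P : Subgroup G) = ⊤ := eq_top_of_card_eq _ (by rw [hPc, hn, hn19])
      rw [this]; infer_instance
    haveI : Nontrivial G := Finite.one_lt_card_iff_nontrivial.1 (by
      rw [hn]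
      have := Nat.le_of_dvd (Nat.pos_of_dvd_of_pos hd (by norm_num)) h19
      omega)
    have hnotsimple : ¬ IsSimpleGroup G := by
      intro hS
      obtain ⟨d, hdd⟩ := h19
      have hd' : d ∣ 9240 :=
        Nat.dvd_of_mul_dvd_mul_left (show 0 < 19 by norm_num) (hdd ▸ hd : 19 * d ∣ 19 * 9240)
      refine Order175560.card_ne ?_ hd' (fun e => hn19 (by rw [hdd, e])) (fun e => hns (by rw [hdd, e]) hS)
        (hn.trans hdd)
      refine SmallOrders.not_isMulCommutative_of_card fun hp => ?_
      rw [hn] at hp
      exact hn19 (((hp.eq_one_or_self_of_dvd 19 (hdd ▸ dvd_mul_right 19 d)).resolve_left (by norm_num)).symm)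
    obtain ⟨N, hNn, hN0, hN1⟩ : ∃ N : Subgroup G, N.Normal ∧ N ≠ ⊥ ∧ N ≠ ⊤ := by
      by_contra! h
      exact hnotsimple ⟨fun H hH => (em (H = ⊥)).imp id (h H hH)⟩
    haveI := hNn
    by_cases h19N : 19 ∣ Nat.card N
    · have hlt : Nat.card N < n := hn ▸ lt_of_le_of_ne (Nat.le_of_dvd Nat.card_pos
        (card_subgroup_dvd_card N)) (fun e => hN1 (eq_top_of_card_eq N e))
      obtain ⟨Q⟩ : Nonempty (Sylow 19 N) := inferInstance
      have hdN : Nat.card N ∣ 175560 := (hn ▸ card_subgroup_dvd_card N).trans hd
      haveI hQn : (Q : Subgroup N).Normal := ih _ hlt N rfl hdN h19N (fun e => by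
        have := Nat.le_of_dvd (by norm_num) hd
        omega) Q
      haveI : (Q : Subgroup N).Characteristic := Sylow.characteristic_of_normal Q hQn
      haveI : ((Q : Subgroup N).map N.subtype).Normal := inferInstance
      have hle : (Q : Subgroup N).map N.subtype ≤ P := by
        obtain ⟨R, hR⟩ := (Q.2.map N.subtype).exists_le_sylow
        obtain ⟨g, hg⟩ := MulAction.exists_smul_eq G R P
        intro a ha
        rw [← hg]
        exact ⟨g⁻¹ * a * g, hR (by simpa using (inferInstance : ((Q : Subgroup N).map N.subtype).Normal).conj_mem a ha g⁻¹),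
          by simp [mul_assoc]⟩
      rw [← eq_of_le_of_card_ge hle (by
        rw [card_map_of_injective N.subtype_injective, hPc, card_sylow_nineteen hdN h19N Q])]
      infer_instance
    · have hC := le_centralizer_of_coprime (hn ▸ hd) (hn ▸ h19) P N h19N
      set f := QuotientGroup.mk' N with hf
      have hcard : Nat.card (G ⧸ N) * Nat.card N = n := by
        rw [← N.card_eq_card_quotient_mul_card_subgroup, hn]
      have hlt : Nat.card (G ⧸ N) < n := by
        have := N.one_lt_card_iff_ne_bot.2 hN0
        rw [← hcard]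
        exact lt_mul_of_one_lt_right Nat.card_pos this
      have h19q : 19 ∣ Nat.card (G ⧸ N) :=
        (Nat.Prime.dvd_mul (by norm_num)).1 (hcard.symm ▸ h19) |>.resolve_right h19N
      have hdq : Nat.card (G ⧸ N) ∣ 175560 := (Dvd.intro _ hcard).trans hd
      obtain ⟨Qb, hQb⟩ := (P.2.map f).exists_le_sylow
      haveI hQbn : (Qb : Subgroup (G ⧸ N)).Normal := ih _ hlt (G ⧸ N) rfl hdq h19q (fun e => by
        have := Nat.le_of_dvd (by norm_num) hd
        omega) Qb
      have himg : (P : Subgroup G).map f = (Qb : Subgroup (G ⧸ N)) := by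
        refine eq_of_le_of_card_ge hQb ?_
        rw [card_sylow_nineteen hdq h19q Qb]
        have h1 := ((P : Subgroup G).map f).card_mul_index
        have h2 : Nat.card ((P : Subgroup G).map f) ∣ 19 := ((P : Subgroup G).card_map_dvd f).trans hPc.dvd
        rcases (Nat.dvd_prime (Fact.out : Nat.Prime 19)).1 h2 with e | e
        · exfalso
          have h3 : (P : Subgroup G) ≤ N := by
            have := (Subgroup.map_eq_bot_iff _).1 (Subgroup.card_eq_one.1 e)
            rwa [hf, QuotientGroup.ker_mk'] at this
          exact h19N (hPc ▸ card_dvd_of_le h3)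
        · rw [e]
      set M := (P : Subgroup G) ⊔ N with hM
      haveI : M.Normal := by
        have : M = (Qb : Subgroup (G ⧸ N)).comap f := by
          rw [← himg, Subgroup.comap_map_eq, hf, QuotientGroup.ker_mk']
        rw [this]; infer_instance
      have hMn : M ≤ normalizer ((P : Subgroup G) : Set G) :=
        sup_le le_normalizer (hC.trans (centralizer_le_normalizer _))
      refine ⟨fun a ha g => ?_⟩
      have hgM : g * a * g⁻¹ ∈ M := (inferInstance : M.Normal).conj_mem a (mem_sup_left ha) g
      have hp : IsPGroup 19 ↥((P : Subgroup G) ⊔ zpowers (g * a * g⁻¹)) := by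
        refine P.2.to_sup_of_normal_left' ?_ (zpowers_le.2 (hMn hgM))
        rw [show zpowers (g * a * g⁻¹) = (zpowers a).map (MulAut.conj g).toMonoidHom by
          rw [MonoidHom.map_zpowers]; rfl]
        exact (P.2.to_le (zpowers_le.2 ha)).map _
      rw [← P.3 hp le_sup_left]
      exact mem_sup_right (mem_zpowers _)

end Cfsg.Agent.Order175560

namespace Cfsg.Agent.S4274

/-- A finite group of order 175560 = 2³·3·5·7·11·19 is either simple or has a normal Sylow 19-subgroup. -/
theorem result {G : Type*} [Group G] [Finite G] (hG : Nat.card G = 175560) : IsSimpleGroup G ∨ ∀ P : Sylow 19 G, (P : Subgroup G).Normal := by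
  by_cases h : IsSimpleGroup G
  · exact Or.inl h
  · exact Or.inr (Order175560.sylow_normal 175560 G hG dvd_rfl (by norm_num) fun _ => h)

end Cfsg.Agent.S4274
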