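import Cfsg.Statements.S4275
import Cfsg.Agent.EqLemmas

set_option autoImplicit false
open Cfsg

namespace Cfsg.Agent.S4275

/-- Let G be a transitive group of permutations of a finite set Ω, let o ∈ Ω, and let α be an automorphism of G. Then α is induced by conjugation by a permutation of Ω normalizing G if and only if the image under α of the stabilizer of o fixes some point of Ω. -/
theorem result {Ω : Type*} [Fintype Ω] (G : Subgroup (Equiv.Perm Ω)) (htr : MulAction.IsPretransitive G Ω) (o : Ω) (α : G ≃* G) : (∃ σ : Equiv.Perm Ω, σ ∈ Subgroup.normalizer (G : Set (Equiv.Perm Ω)) ∧ ∀ g : G, ((α g : G) : Equiv.Perm Ω) = σ * (g : Equiv.Perm Ω) * σ⁻¹) ↔ ∃ ω : Ω, ∀ g ∈ (MulAction.stabilizer G o).map α.toMonoidHom, g • ω = ω := by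
  classical
  constructor
  · rintro ⟨σ, -, h⟩
    refine ⟨σ o, fun g hg => ?_⟩
    obtain ⟨x, hx, rfl⟩ := Subgroup.mem_map.1 hg
    have hx : (x : Equiv.Perm Ω) o = o := hx
    change ((α x : G) : Equiv.Perm Ω) (σ o) = σ o
    rw [h]; simp [hx]
  rintro ⟨ω, hω⟩
  have hst : MulAction.stabilizer G ω = (MulAction.stabilizer G o).map α.toMonoidHom := by
    symm
    refine Subgroup.eq_of_le_of_card_ge (fun g hg => hω g hg) ?_
    rw [Subgroup.card_map_of_injective α.injective]
    have h1 := (MulAction.stabilizer G o).card_mul_index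
    have h2 := (MulAction.stabilizer G ω).card_mul_index
    rw [MulAction.index_stabilizer_of_transitive] at h1 h2
    exact le_of_eq (Nat.eq_of_mul_eq_mul_right (Nat.card_pos_iff.2 ⟨⟨o⟩, inferInstance⟩) (h2.trans h1.symm))
  choose r hr using fun x : Ω => MulAction.exists_smul_eq G o x
  let f : Ω → Ω := fun x => α (r x) • ω
  have key : ∀ g : G, f (g • o) = α g • ω := by
    intro g
    have : g⁻¹ * r (g • o) ∈ MulAction.stabilizer G o := by
      rw [MulAction.mem_stabilizer_iff, mul_smul, hr, inv_smul_smul]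
    have := hω _ (Subgroup.mem_map_of_mem α.toMonoidHom this)
    simp only [MulEquiv.coe_toMonoidHom, map_mul, map_inv, mul_smul, inv_smul_eq_iff] at this
    exact this
  have hsurj : Function.Surjective f := fun y => by
    obtain ⟨h, hh⟩ := MulAction.exists_smul_eq G ω y
    exact ⟨α.symm h • o, by rw [key, α.apply_symm_apply, hh]⟩
  let σ : Equiv.Perm Ω := Equiv.ofBijective f (Finite.injective_iff_bijective.1 (Finite.injective_iff_surjective.2 hsurj))
  have hσ : ∀ g : G, ((α g : G) : Equiv.Perm Ω) = σ * (g : Equiv.Perm Ω) * σ⁻¹ := by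
    intro g
    rw [eq_mul_inv_iff_mul_eq]
    ext x
    obtain ⟨h, rfl⟩ := MulAction.exists_smul_eq G o x
    change α g • f (h • o) = f (g • h • o)
    rw [key, ← mul_smul, ← mul_smul, key, map_mul]
  refine ⟨σ, ?_, hσ⟩
  rw [Subgroup.mem_normalizer_iff]
  intro x
  constructor
  · intro hx
    have := (α ⟨x, hx⟩).2
    rwa [hσ] at this
  · intro hx
    have h := hσ (α.symm ⟨_, hx⟩)
    rw [α.apply_symm_apply] at h
    have : x = ((α.symm ⟨_, hx⟩ : G) : Equiv.Perm Ω) := mul_left_cancel (mul_right_cancel h)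
    exact this ▸ (α.symm ⟨_, hx⟩).2

end Cfsg.Agent.S4275
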