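import Cfsg.Statements.S4276
import Cfsg.Agent.EqLemmas
import Cfsg.Agent.Lib.TwistOrbit.Basic

set_option autoImplicit false
open Cfsg

namespace Cfsg.Agent.S4276

theorem conv {Ω : Type*} (G : Subgroup (Equiv.Perm Ω)) (α : MulAut G)
    (h : ∃ σ : Equiv.Perm Ω, ∀ (g : G) (x : Ω), σ (g • x) = α g • σ x) :
    ∃ σ : Equiv.Perm Ω, σ ∈ Subgroup.normalizer (G : Set (Equiv.Perm Ω)) ∧
      ∀ g : G, ((α g : G) : Equiv.Perm Ω) = σ * (g : Equiv.Perm Ω) * σ⁻¹ := by
  obtain ⟨σ, hσ⟩ := h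
  have he : ∀ g : G, ((α g : G) : Equiv.Perm Ω) = σ * (g : Equiv.Perm Ω) * σ⁻¹ := by
    intro g
    ext x
    have := hσ g (σ⁻¹ x)
    simp only [Subgroup.smul_def, Equiv.Perm.smul_def] at this
    rw [show σ (σ⁻¹ x) = x from σ.apply_symm_apply x] at this
    exact this.symm
  refine ⟨σ, Subgroup.mem_normalizer_iff.mpr fun g => ⟨fun hg => he ⟨g, hg⟩ ▸ (α ⟨g, hg⟩).2, fun hg => ?_⟩, he⟩
  have h1 := he (α.symm ⟨_, hg⟩)
  rw [MulEquiv.apply_symm_apply] at h1
  have h2 : g = (α.symm ⟨σ * g * σ⁻¹, hg⟩ : Equiv.Perm Ω) := mul_left_cancel (mul_right_cancel h1)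
  rw [h2]
  exact (α.symm _).2

/-- Let G be a doubly transitive group of permutations of a finite set Ω of size n, let o ∈ Ω, and let α be an automorphism of G of odd order. Suppose that the image under α of the stabilizer of o has an orbit on Ω whose length k is coprime to n. Then α is induced by conjugation by a permutation of Ω normalizing G, and k = 1 or k = n − 1. -/
theorem result {Ω : Type*} [Fintype Ω] (G : Subgroup (Equiv.Perm Ω)) (h2 : MulAction.IsMultiplyPretransitive G Ω 2) (o : Ω) (α : MulAut G) (hα : Odd (orderOf α)) (ω : Ω) (hk : (Nat.card (MulAction.orbit ((MulAction.stabilizer G o).map α.toMonoidHom) ω)).Coprime (Fintype.card Ω)) : (∃ σ : Equiv.Perm Ω, σ ∈ Subgroup.normalizer (G : Set (Equiv.Perm Ω)) ∧ ∀ g : G, ((α g : G) : Equiv.Perm Ω) = σ * (g : Equiv.Perm Ω) * σ⁻¹) ∧ (Nat.card (MulAction.orbit ((MulAction.stabilizer G o).map α.toMonoidHom) ω) = 1 ∨ Nat.card (MulAction.orbit ((MulAction.stabilizer G o).map α.toMonoidHom)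 ω) = Fintype.card Ω - 1) := by
  classical
  obtain ⟨h, hk'⟩ := TwistOrbit.exists_perm_of_coprime_orbit h2 o α hα ω hk
  exact ⟨conv G α h, hk'⟩

end Cfsg.Agent.S4276
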