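import Cfsg.Statements.S4277
import Cfsg.Agent.EqLemmas
import Cfsg.Agent.Lib.TwistOrbit.Basic
import Cfsg.Agent.S0675
import Cfsg.Agent.Lib.Perm.PrimeSylow

set_option autoImplicit false
open Cfsg

namespace Cfsg.Agent.S4277

open MulAction

universe u

theorem out_solvable {G : Type u} [Group G] [Finite G] {Ω : Type*} [Fintype Ω] [MulAction G Ω]
    [FaithfulSMul G Ω] [IsPretransitive G Ω] {p : ℕ} [Fact p.Prime] (hΩ : Nat.card Ω = p)
    (hnorm : ∀ β : MulAut G, Odd (orderOf β) → ∃ σ : Equiv.Perm Ω, ∀ (g : G) (x : Ω), σ (g • x) = β g • σ x) :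
    Group.IsSolvable (Cfsg.Out G) := by
  classical
  set f : G →* Equiv.Perm Ω := MulAction.toPermHom G Ω with hf
  have hfi : Function.Injective f := MulAction.toPerm_injective
  set R := f.range with hR
  set Nm := Subgroup.normalizer (R : Set (Equiv.Perm Ω)) with hNm
  let eR : G ≃* R := MonoidHom.ofInjective hfi
  let toAut : Nm →* MulAut G :=
    (MulAut.congr eR.symm).toMonoidHom.comp R.normalizerMonoidHom
  let Ψ : Nm →* Cfsg.Out G := (QuotientGroup.mk' (Cfsg.Inn G)).comp toAut
  -- the inner permutations act trivially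
  have hker : R.subgroupOf Nm ≤ Ψ.ker := by
    rintro ⟨x, hx⟩ hxR
    obtain ⟨g, rfl⟩ := Subgroup.mem_subgroupOf.mp hxR
    rw [MonoidHom.mem_ker]
    refine (QuotientGroup.eq_one_iff _).mpr ⟨g, ?_⟩
    ext k
    apply eR.injective
    apply Subtype.ext
    show f (g * k * g⁻¹) = ((eR (eR.symm (R.normalizerMonoidHom ⟨f g, hx⟩ (eR k))) : R) : Equiv.Perm Ω)
    rw [MulEquiv.apply_symm_apply, map_mul, map_mul, map_inv]
    rfl
  -- Frattini argument
  have hRn : (R.subgroupOf Nm).Normal := Subgroup.normal_in_normalizer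
  obtain ⟨P⟩ := (inferInstance : Nonempty (Sylow p (R.subgroupOf Nm)))
  have hfr := Sylow.normalizer_sup_eq_top P
  set N1 := Subgroup.normalizer (((P : Subgroup (R.subgroupOf Nm)).map (R.subgroupOf Nm).subtype : Subgroup Nm) : Set Nm) with hN1
  have hrange : Ψ.range = N1.map Ψ := by
    rw [MonoidHom.range_eq_map, ← hfr, Subgroup.map_sup, sup_eq_left.mpr]
    rw [(Subgroup.map_eq_bot_iff _).mpr hker]
    exact bot_le
  -- the Sylow normaliser in the symmetric group is solvable
  have hP1 : ∃ Q : Sylow p (Equiv.Perm Ω), (N1.map Nm.subtype) ≤ Subgroup.normalizer ((Q : Subgroup (Equiv.Perm Ω)) : Set (Equiv.Perm Ω)) := by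
    set P' := ((P : Subgroup (R.subgroupOf Nm)).map (R.subgroupOf Nm).subtype).map Nm.subtype with hP'
    have hc : Nat.card P' = p ^ (Nat.card G).factorization p := by
      rw [hP', Subgroup.card_map_of_injective Nm.subtype_injective,
        Subgroup.card_map_of_injective (R.subgroupOf Nm).subtype_injective, P.card_eq_multiplicity,
        Nat.card_congr (Subgroup.subgroupOfEquivOfLe Subgroup.le_normalizer).toEquiv, Nat.card_congr eR.symm.toEquiv]
    have hp : p.Prime := Fact.out
    have hone : ∀ (X : Type u) [Group X] [Finite X] [MulAction X Ω] [FaithfulSMul X Ω] [IsPretransitive X Ω],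
        (Nat.card X).factorization p = 1 := by
      intro X _ _ _ _ _
      obtain ⟨S⟩ := (inferInstance : Nonempty (Sylow p X))
      have h := (Perm.sylow_prime_degree (G := X) hΩ S).1
      rw [S.card_eq_multiplicity] at h
      exact Nat.pow_right_injective hp.two_le (h.trans (pow_one p).symm)
    obtain ⟨S⟩ := (inferInstance : Nonempty (Sylow p (Equiv.Perm Ω)))
    have hS := (Perm.sylow_prime_degree (G := Equiv.Perm Ω) hΩ S).1
    rw [S.card_eq_multiplicity] at hS
    refine ⟨Sylow.ofCard P' (by rw [hc, hone G, pow_one, hS]), ?_⟩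
    exact (Subgroup.map_mono le_rfl).trans (Subgroup.le_normalizer_map _)
  obtain ⟨Q, hQ⟩ := hP1
  have hNQ : Group.IsSolvable (Subgroup.normalizer ((Q : Subgroup (Equiv.Perm Ω)) : Set (Equiv.Perm Ω))) := by
    obtain ⟨hQc, -, hQC, -⟩ := Perm.sylow_prime_degree (G := Equiv.Perm Ω) hΩ Q
    have : IsCyclic (Q : Subgroup (Equiv.Perm Ω)) := isCyclic_of_prime_card hQc
    set φ := (Q : Subgroup (Equiv.Perm Ω)).normalizerMonoidHom
    have : IsCyclic (φ.ker) := by
      refine isCyclic_of_injective
        (MonoidHom.mk' (fun x : φ.ker => (⟨((x : Subgroup.normalizer ((Q : Subgroup (Equiv.Perm Ω)) : Set (Equiv.Perm Ω))) : Equiv.Perm Ω), ?_⟩ : (Q : Subgroup (Equiv.Perm Ω)))) (fun a b => rfl)) ?_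
      · have hx := (Subgroup.normalizerMonoidHom_ker _).le x.2
        exact hQC.le (Subgroup.mem_subgroupOf.mp hx)
      · intro a b h
        exact Subtype.ext (Subtype.ext (congrArg (fun z : (Q : Subgroup (Equiv.Perm Ω)) => (z : Equiv.Perm Ω)) h))
    have hab : ∀ a b : φ.range, a * b = b * a := fun a b => Subtype.ext (by
      let e := IsCyclic.mulAutMulEquiv (Q : Subgroup (Equiv.Perm Ω))
      show (a : MulAut (Q : Subgroup (Equiv.Perm Ω))) * b = b * a
      apply e.injective
      rw [map_mul, map_mul, mul_comm])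
    have : Group.IsSolvable φ.range := Group.isSolvable_of_comm hab
    have : Group.IsSolvable φ.ker := by
      let _ := (inferInstance : IsCyclic φ.ker).commGroup
      infer_instance
    exact solvable_of_ker_le_range φ.ker.subtype φ.rangeRestrict
      (by rw [MonoidHom.ker_rangeRestrict, Subgroup.range_subtype])
  have hN1s : Group.IsSolvable N1 := by
    have : Group.IsSolvable (N1.map Nm.subtype) :=
      solvable_of_solvable_injective (f := Subgroup.inclusion hQ) (Subgroup.inclusion_injective hQ)
    exact solvable_of_solvable_injective (f := (N1.equivMapOfInjective _ Nm.subtype_injective).toMonoidHom)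
      (N1.equivMapOfInjective _ Nm.subtype_injective).injective
  have hYs : Group.IsSolvable Ψ.range := by
    rw [hrange]
    exact solvable_of_surjective (f := Ψ.subgroupMap N1) (Ψ.subgroupMap_surjective N1)
  -- elements of odd order
  set Y0 := Subgroup.closure {x : Cfsg.Out G | Odd (orderOf x)} with hY0
  have hY0n : Y0.Normal := by
    refine ⟨fun n hn g => ?_⟩
    have hle : Y0 ≤ Y0.comap (MulAut.conj g).toMonoidHom := by
      rw [hY0, Subgroup.closure_le]
      intro x (hx : Odd (orderOf x))
      exact Subgroup.subset_closure (show Odd (orderOf (MulAut.conj g x)) from by rwa [MulEquiv.orderOf_eq])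
    exact hle hn
  have hle : Y0 ≤ Ψ.range := by
    rw [hY0, Subgroup.closure_le]
    intro x (hx : Odd (orderOf x))
    obtain ⟨β, rfl⟩ := QuotientGroup.mk'_surjective (Cfsg.Inn G) x
    obtain ⟨e, m, hm, hβ⟩ := Nat.exists_eq_two_pow_mul_odd (orderOf_pos β).ne'
    have hodd : Odd (orderOf (β ^ 2 ^ e)) := by
      rw [orderOf_pow_of_dvd (by positivity) ⟨m, hβ⟩, hβ, Nat.mul_div_cancel_left _ (by positivity)]
      exact hm
    obtain ⟨σ, hσ⟩ := hnorm _ hodd
    have hconj : ∀ g : G, σ * f g * σ⁻¹ = f ((β ^ 2 ^ e) g) := by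
      intro g
      ext y
      have := hσ g (σ⁻¹ y)
      rw [show σ (σ⁻¹ y) = y from σ.apply_symm_apply y] at this
      exact this
    have hσN : σ ∈ Nm := by
      rw [hNm, Subgroup.mem_normalizer_iff]
      intro x
      constructor
      · rintro ⟨g, rfl⟩
        exact ⟨_, (hconj g).symm⟩
      · rintro ⟨g, hg⟩
        refine ⟨(β ^ 2 ^ e).symm g, ?_⟩
        have := hconj ((β ^ 2 ^ e).symm g)
        rw [MulEquiv.apply_symm_apply, hg] at this
        exact mul_left_cancel (mul_right_cancel this)
    have hmem : QuotientGroup.mk' (Cfsg.Inn G) (β ^ 2 ^ e) ∈ Ψ.range := by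
      refine ⟨⟨σ, hσN⟩, congrArg (QuotientGroup.mk' (Cfsg.Inn G)) (MulEquiv.ext fun g => ?_)⟩
      apply eR.injective
      apply Subtype.ext
      show ((eR (eR.symm (R.normalizerMonoidHom ⟨σ, hσN⟩ (eR g))) : R) : Equiv.Perm Ω) = f ((β ^ 2 ^ e) g)
      rw [MulEquiv.apply_symm_apply, ← hconj]
      rfl
    obtain ⟨j, hj⟩ := exists_pow_eq_self_of_coprime (x := QuotientGroup.mk' (Cfsg.Inn G) β) (n := 2 ^ e)
      ((Nat.coprime_two_left.mpr hx).pow_left e)
    rw [SetLike.mem_coe, ← hj, ← map_pow (QuotientGroup.mk' (Cfsg.Inn G)) β (2 ^ e)]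
    exact pow_mem hmem j
  have : Group.IsSolvable Y0 :=
    solvable_of_solvable_injective (f := Subgroup.inclusion hle) (Subgroup.inclusion_injective hle)
  have hq : IsPGroup 2 (Cfsg.Out G ⧸ Y0) := by
    intro x
    induction x using QuotientGroup.induction_on with | H x => ?_
    obtain ⟨e, m, hm, hx⟩ := Nat.exists_eq_two_pow_mul_odd (orderOf_pos x).ne'
    refine ⟨e, (QuotientGroup.eq_one_iff _).mpr (Subgroup.subset_closure ?_)⟩
    show Odd (orderOf (x ^ 2 ^ e))
    rw [orderOf_pow_of_dvd (by positivity) ⟨m, hx⟩, hx, Nat.mul_div_cancel_left _ (by positivity)]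
    exact hm
  have := hq.isNilpotent
  exact solvable_of_ker_le_range Y0.subtype (QuotientGroup.mk' Y0) (by rw [QuotientGroup.ker_mk', Subgroup.range_subtype])

/-- A case of the Schreier conjecture: if a finite simple group G has a subgroup of prime index, then the outer automorphism group of G is solvable. -/
theorem result {G : Type*} [Group G] [Finite G] [IsSimpleGroup G] (H : Subgroup G) (hH : H.index.Prime) : Group.IsSolvable (Cfsg.Out G) := by
  classical
  obtain ⟨p, hp, hidx⟩ : ∃ p, p.Prime ∧ H.index = p := ⟨_, hH, rfl⟩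
  have := Fact.mk hp
  let Ω := G ⧸ H
  let _ := Fintype.ofFinite Ω
  have hΩ : Nat.card Ω = p := by rw [← hidx, Subgroup.index_eq_card]
  have hfaith : FaithfulSMul G Ω := by
    have hk : (MulAction.toPermHom G Ω).ker = ⊥ := by
      rcases (MulAction.toPermHom G Ω).normal_ker.eq_bot_or_eq_top with h | h
      · exact h
      · exfalso
        have : Subsingleton Ω := ⟨fun a b => by
          obtain ⟨g, rfl⟩ := MulAction.exists_smul_eq G a b
          have : MulAction.toPermHom G Ω g = 1 := MonoidHom.mem_ker.mp (h ▸ Subgroup.mem_top g)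
          exact (congrArg (fun σ : Equiv.Perm Ω => σ a) this).symm⟩
        rw [Nat.card_unique] at hΩ
        exact hp.ne_one hΩ.symm
    exact ⟨fun h => (MonoidHom.ker_eq_bot_iff _).mp hk (Equiv.ext h)⟩
  set f : G →* Equiv.Perm Ω := MulAction.toPermHom G Ω
  have hfi : Function.Injective f := MulAction.toPerm_injective
  have : MulAction.IsPretransitive f.range Ω := ⟨fun a b => by
    obtain ⟨g, hg⟩ := MulAction.exists_smul_eq G a b
    exact ⟨⟨f g, g, rfl⟩, hg⟩⟩
  rcases Cfsg.Agent.S0675.result (α := Ω) (by rw [← Nat.card_eq_fintype_card, hΩ]; exact hp) f.range with hs | h2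
  · have : Group.IsSolvable G := by
      exact solvable_of_solvable_injective (f := (MonoidHom.ofInjective hfi).toMonoidHom) (MonoidHom.ofInjective hfi).injective
    have hcomm : ∀ a b : G, a * b = b * a := IsSimpleGroup.comm_iff_isSolvable.mpr this
    let _ : CommGroup G := { (inferInstance : Group G) with mul_comm := hcomm }
    have hcyc : IsCyclic G := inferInstance
    have hab : ∀ a b : MulAut G, a * b = b * a := fun a b => by
      let e := IsCyclic.mulAutMulEquiv G
      apply e.injective
      rw [map_mul, map_mul, mul_comm]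
    have : Group.IsSolvable (MulAut G) := Group.isSolvable_of_comm hab
    exact solvable_of_surjective (QuotientGroup.mk'_surjective (Cfsg.Inn G))
  · have h2' : MulAction.IsMultiplyPretransitive G Ω 2 := MulAction.is_two_pretransitive_iff.mpr fun {a b c d} hab hcd => by
      obtain ⟨⟨_, g, rfl⟩, h1, h3⟩ := MulAction.is_two_pretransitive_iff.mp h2 hab hcd
      exact ⟨g, h1, h3⟩
    refine out_solvable hΩ fun β hβ => TwistOrbit.exists_perm_of_hall h2' ((1 : G) : G ⧸ H) ?_ β hβ
    have hst : MulAction.stabilizer G ((1 : G) : G ⧸ H) = H := MulAction.stabilizer_quotient H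
    rw [hst, hidx]
    refine (Nat.Prime.coprime_iff_not_dvd hp).mpr (fun hd => ?_) |>.symm
    apply Perm.not_sq_dvd_card_of_prime_degree (G := G) hΩ
    rw [← H.card_mul_index, hidx, pow_two]
    exact Nat.mul_dvd_mul_right hd p

end Cfsg.Agent.S4277
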