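import Cfsg.Statements.S4278
import Cfsg.Agent.Lib.G2Invol.Classes

set_option autoImplicit false
open Cfsg

namespace Cfsg.Agent.S4278

/-- In the Chevalley group of type G₂ over a finite field of odd order, any two involutions are conjugate. -/
theorem result {F : Type*} [Field F] [Fintype F] (hF : Odd (Fintype.card F)) (s t : ↥(Cfsg.Lie.chevG2.group F)) (hs : orderOf s = 2) (ht : orderOf t = 2) : IsConj s t := by
  have hc : ringChar F ≠ 2 := fun h => by
    have := FiniteField.even_card_of_char_two h
    exact Nat.not_even_iff_odd.2 hF (Nat.even_iff.2 this)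
  have key : ∀ u : ↥(Cfsg.Lie.chevG2.group F), orderOf u = 2 → G2Invol.Cj (u : GL Cfsg.Lie.chevG2.Idx F) (G2Invol.zG F) := by
    intro u hu
    refine G2Invol.conj_z hc u.2 ?_ ?_
    · have := pow_orderOf_eq_one u
      rw [hu, pow_two] at this
      exact congrArg Subtype.val this
    · intro e
      rw [show u = 1 from Subtype.ext e, orderOf_one] at hu
      exact absurd hu (by norm_num)
  obtain ⟨g, hg, e⟩ := (key s hs).trans (key t ht).symm
  exact isConj_iff.2 ⟨⟨g, hg⟩, Subtype.ext e⟩

end Cfsg.Agent.S4278
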