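import Cfsg.Statements.S4281
import Cfsg.Agent.EqLemmas
import Cfsg.Agent.Lib.Chev.DataE8
import Cfsg.Agent.Lib.ChevInv.Classes
import Cfsg.Agent.Lib.ChevInv.ChkE8a
import Cfsg.Agent.Lib.ChevInv.ChkE8b
import Cfsg.Agent.Lib.ChevInv.OrbitE8

set_option autoImplicit false
set_option maxRecDepth 100000
open scoped BigOperators
open Cfsg Cfsg.Agent

namespace Cfsg.Agent.S4281

/-- In the Chevalley group of type E₈ over a finite field of odd order q there are exactly two conjugacy classes of involutions; the centralizer of an involution in one class has order q⁵⁶(q⁸ − 1)·∏_{i=1}^{7}(q^{2i} − 1), and in the other class q⁶⁴(q² − 1)²(q⁶ − 1)(q⁸ − 1)(q¹⁰ − 1)(q¹² − 1)(q¹⁴ − 1)(q¹⁸ − 1). -/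
theorem result {F : Type*} [Field F] [Fintype F] (hF : Odd (Fintype.card F)) : ∃ s t : ↥(Cfsg.Lie.chevE8.group F), orderOf s = 2 ∧ orderOf t = 2 ∧ ¬ IsConj s t ∧ (∀ u : ↥(Cfsg.Lie.chevE8.group F), orderOf u = 2 → IsConj u s ∨ IsConj u t) ∧ Nat.card (Subgroup.centralizer ({s} : Set ↥(Cfsg.Lie.chevE8.group F))) = Fintype.card F ^ 56 * (Fintype.card F ^ 8 - 1) * ∏ i ∈ Finset.Icc 1 7, (Fintype.card F ^ (2 * i) - 1) ∧ Nat.card (Subgroup.centralizer ({t} : Set ↥(Cfsg.Lie.chevE8.group F))) = Fintype.card F ^ 64 * (Fintype.card F ^ 2 - 1) ^ 2 * (Fintype.card F ^ 6 - 1) * (Fintype.card F ^ 8 - 1) * (Fintype.card F ^ 10 - 1) * (Fintype.card F ^ 12 - 1) * (Fintype.card F ^ 14 - 1) * (Fintype.card F ^ 18 - 1) := by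
  have h := fun {F : Type _} [Field F] [Fintype F] => ChevInv.exists_two_classes (F := F) Chev.DataE8.good ChevBN.rootsE8
    ChevInv.TabE8a.ok ChevInv.TabE8b.ok (tor₁ := ChevInv.TabE8a.torus) (N₁ := ChevInv.TabE8a.torusN)
    (tor₂ := ChevInv.TabE8b.torus) (N₂ := ChevInv.TabE8b.torusN) (by decide +kernel) (by decide +kernel)
    (v₁ := 6) (v₂ := 1) (by decide +kernel) (by decide +kernel) (steps := ChevInv.OrbitE8.steps) (by decide +kernel)
    (by decide +kernel) (by decide +kernel) (by decide) (by decide) (by decide +kernel)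
  obtain ⟨s, t, hs, ht, hst, hall, h1, h2⟩ := h hF
  refine ⟨s, t, hs, ht, hst, hall, ?_, ?_⟩
  · rw [h1, show (ChevInv.TabE8a.cert.sp Lie.chevE8).card = 56 by decide +kernel]
    simp only [ChevInv.TabE8a.degrees, List.map_cons, List.map_nil, List.prod_cons, List.prod_nil, Finset.prod_Icc_succ_top, Finset.Icc_self, Finset.prod_singleton, Nat.le_add_left]
    ring
  · rw [h2, show (ChevInv.TabE8b.cert.sp Lie.chevE8).card = 64 by decide +kernel]
    simp only [ChevInv.TabE8b.degrees, List.map_cons, List.map_nil, List.prod_cons, List.prod_nil]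
    ring

end Cfsg.Agent.S4281
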