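import Cfsg.Statements.S4282
import Cfsg.Agent.Lib.HallHigman.Critical
import Cfsg.Agent.Lib.HallHigman.PGroupDegree
import Cfsg.Agent.EqLemmas

set_option autoImplicit false
open Cfsg

namespace Cfsg.Agent.S4282
open Cfsg.Agent.HallHigman

/-- A critical case behind the Hall–Higman theorem. Let p ≠ q be primes and G a finite group generated by a normal q-subgroup Q and a cyclic p-subgroup generated by x, such that the centralizer of every non-identity element of that cyclic subgroup is its product with the centre of G. Let K be an algebraically closed field of characteristic p and ρ a faithful representation of G on a nonzero finite-dimensional K-space whose restriction to Q is irreducible. If s is the least exponent with (ρ(x) − 1)^s = 0, then |⟨x⟩| − 1 ≤ s ≤ |⟨x⟩|; and if s = |⟨x⟩| − 1 then |⟨x⟩| − 1 is a power of q and Q is non-abelian. -/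
theorem result {G : Type*} [Group G] [Finite G] (p q : ℕ) [Fact p.Prime] [Fact q.Prime] (hpq : p ≠ q) (Q : Subgroup G) [Q.Normal] (hQ : IsPGroup q Q) (x : G) (hx : IsPGroup p (Subgroup.zpowers x)) (hgen : Q ⊔ Subgroup.zpowers x = ⊤) (hC : ∀ y ∈ Subgroup.zpowers x, y ≠ 1 → Subgroup.centralizer ({y} : Set G) = Subgroup.zpowers x ⊔ Subgroup.center G) {K : Type*} [Field K] [IsAlgClosed K] [CharP K p] {V : Type*} [AddCommGroup V] [Module K V] [FiniteDimensional K V] [Nontrivial V] (ρ : Representation K G V) (hfaith : Function.Injective ρ) (hirr : ∀ W : Submodule K V, (∀ g ∈ Q, Submodule.map (ρ g) W ≤ W) → W = ⊥ ∨ W = ⊤) (s : ℕ) (hs : (ρ x - 1) ^ s = 0) (hmin : ∀ k < s, (ρ x - 1) ^ k ≠ 0) : Nat.card (Subgroup.zpowers x) - 1 ≤ s ∧ s ≤ Nat.card (Subgroup.zpowers x) ∧ (s = Nat.card (Subgroup.zpowers x) - 1 → (∃ b : ℕ, Nat.card (Subgroup.zpowers x) - 1 = q ^ b) ∧ ¬ IsMulCommutative Q) := by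
  classical
  have hinj : ∀ g : G, ρ g = 1 → g = 1 := fun g hg => hfaith (hg.trans (map_one ρ).symm)
  obtain ⟨k, hk⟩ := IsPGroup.iff_card.mp hx
  have hord : orderOf x = p ^ k := (Nat.card_zpowers x).symm.trans hk
  have hs0 : s ≠ 0 := by
    rintro rfl
    rw [pow_zero] at hs
    exact one_ne_zero hs
  have hTP : (ρ x : Module.End K V) ^ p ^ k = 1 := by rw [← map_pow, ← hord, pow_orderOf_eq_one, map_one]
  have hsP : s ≤ p ^ k := by
    by_contra! hlt
    refine hmin _ hlt ?_
    rw [sub_one_pow_prime_pow, hTP, sub_self]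
  rw [hk]
  rcases k with _ | n
  · rw [pow_zero] at hsP ⊢
    exact ⟨Nat.zero_le _, hsP, fun h => absurd (by omega) hs0⟩
  rcases hsP.eq_or_lt with hsP' | hlt
  · have := pow_pos (Fact.out : p.Prime).pos (n + 1)
    exact ⟨by omega, hsP, fun h => by omega⟩
  have hirr' : IsIrred ρ Q := fun W hW => hirr W fun g hg => by
    rintro _ ⟨w, hw, rfl⟩
    exact hW g hg w hw
  have hxQ : x ∈ Subgroup.normalizer (Q : Set G) := by rw [Subgroup.normalizer_eq_top]; exact Subgroup.mem_top x
  let z : MulAut Q := Q.normalizerMonoidHom ⟨x, hxQ⟩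
  have hzpow : ∀ (j : ℕ) (g : Q), (((z ^ j) g : Q) : G) = x ^ j * g * (x ^ j)⁻¹ := by
    intro j
    induction j with
    | zero => intro g; simp
    | succ j ih =>
      intro g
      rw [pow_succ', MulAut.mul_apply, pow_succ']
      show x * ((z ^ j) g : G) * x⁻¹ = _
      rw [ih]
      simp [mul_assoc]
  let Kc : Subgroup Q := (Subgroup.center G).subgroupOf Q
  have hscal : ∀ g ∈ Kc, ∃ c : K, ρ (g : G) = c • 1 := fun g hg => mem_scalar_of_commute hirr' _ fun a _ =>
    ((show Commute (g : G) a from (Subgroup.mem_center_iff.mp hg a).symm).map ρ).eq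
  have hcopPQ : ∀ a b : ℕ, (p ^ a).Coprime (q ^ b) := fun a b =>
    (((Nat.coprime_primes Fact.out Fact.out).mpr hpq).pow_left a).pow_right b
  obtain ⟨e, he⟩ := IsPGroup.iff_card.mp hQ
  have hfree : ∀ g : Q, ∀ j, 0 < j → j < p ^ (n + 1) → g⁻¹ * (z ^ j) g ∈ Kc → g ∈ Kc := by
    intro g j hj hjP hg
    have hy1 : x ^ j ≠ 1 := fun h =>
      absurd (Nat.le_of_dvd hj (orderOf_dvd_of_pow_eq_one h)) (by rw [hord]; omega)
    set N : Subgroup G := Subgroup.center G ⊓ Q
    have hNn : ∀ a : G, a ∈ Subgroup.normalizer (N : Set G) := fun a => by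
      rw [Subgroup.normalizer_eq_top]; exact Subgroup.mem_top a
    have hcop : (Nat.card (Subgroup.zpowers (x ^ j))).Coprime (Nat.card Q) := by
      rw [he, Nat.card_zpowers]
      refine (hcopPQ (n + 1) e).coprime_dvd_left ?_
      rw [← hord]
      exact orderOf_pow_dvd j
    obtain ⟨c, ⟨hcQ, hcy⟩, hcg⟩ := Coprime.exists_mem_centralizer_of_coset' (A := Subgroup.zpowers (x ^ j)) (K := Q)
      (fun a _ => by rw [Subgroup.normalizer_eq_top]; exact Subgroup.mem_top a) hcop
      (Or.inl inferInstance) (N := N) inf_le_right (fun a _ => hNn a) (k := (g : G)) g.2 (by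
        let L : Subgroup G :=
          { carrier := {a | (g : G)⁻¹ * a * g * a⁻¹ ∈ N}
            one_mem' := by simp
            mul_mem' := fun {a b} ha hb => by
              have h1 := N.mul_mem ha ((Subgroup.mem_normalizer_iff.mp (hNn a) _).mp hb)
              simpa [mul_assoc] using h1
            inv_mem' := fun {a} ha => by
              have h1 := (Subgroup.mem_normalizer_iff.mp (hNn a⁻¹) _).mp (N.inv_mem ha)
              simpa [mul_assoc] using h1 }
        have hy : x ^ j ∈ L := by
          show (g : G)⁻¹ * x ^ j * g * (x ^ j)⁻¹ ∈ N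
          have h1 : (g : G)⁻¹ * (x ^ j * g * (x ^ j)⁻¹) ∈ N := by
            rw [← hzpow]
            exact ⟨hg, (g⁻¹ * (z ^ j) g).2⟩
          simpa only [mul_assoc] using h1
        exact fun a ha => Subgroup.zpowers_le.mpr hy ha)
    have hc : c ∈ Subgroup.centralizer ({x ^ j} : Set G) := Subgroup.mem_centralizer_singleton_iff.mpr
      (Subgroup.mem_centralizer_iff.mp hcy _ (Subgroup.mem_zpowers _)).symm
    rw [hC _ (Subgroup.pow_mem _ (Subgroup.mem_zpowers x) j) hy1, Subgroup.mem_sup_of_normal_right] at hc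
    obtain ⟨a, ha, w, hw, rfl⟩ := hc
    have hcen : a * w ∈ Subgroup.center G := by
      rw [← QuotientGroup.eq_one_iff, ← orderOf_eq_one_iff]
      have h1 : orderOf ((a * w : G) : G ⧸ Subgroup.center G) ∣ q ^ e := by
        refine (orderOf_map_dvd (QuotientGroup.mk' (Subgroup.center G)) _).trans ?_
        rw [← Subgroup.orderOf_mk _ hcQ, ← he]
        exact orderOf_dvd_natCard _
      have h2 : orderOf ((a * w : G) : G ⧸ Subgroup.center G) ∣ p ^ (n + 1) := by
        rw [QuotientGroup.mk_mul, (QuotientGroup.eq_one_iff w).mpr hw, mul_one]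
        refine (orderOf_map_dvd (QuotientGroup.mk' (Subgroup.center G)) a).trans ?_
        rw [← Subgroup.orderOf_mk _ ha, ← hk]
        exact orderOf_dvd_natCard _
      exact Nat.eq_one_of_dvd_coprimes (hcopPQ (n + 1) e) h2 h1
    show (g : G) ∈ Subgroup.center G
    have h5 := mul_mem hcen (inv_mem hcg.1)
    simpa [mul_assoc] using h5
  have h0 := finrank_commutant_mul_of_fixedPointFree hirr' (ρ x) (ρ x⁻¹) (rho_mul_inv x) (rho_inv_mul x) z
    (fun g => by rw [show ((z g : Q) : G) = x * g * x⁻¹ from rfl, map_mul, map_mul]) hTP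
    (MulEquiv.ext fun g => Subtype.ext (by rw [hzpow, ← hord, pow_orderOf_eq_one]; simp))
    Kc hscal (fun g hg => by
      show x * (g : G) * x⁻¹ ∈ Subgroup.center G
      rw [Subgroup.mem_center_iff.mp (show (g : G) ∈ Subgroup.center G from hg) x, mul_inv_cancel_right]
      exact hg) hfree
  have hd2 : 2 ≤ Module.finrank K V := by
    by_contra! hd
    obtain ⟨v, hv⟩ := exists_ne (0 : V)
    have hd1 : Module.finrank K V = 1 := by have := Module.finrank_pos (R := K) (M := V); omega
    obtain ⟨c, hc⟩ := (finrank_eq_one_iff_of_nonzero' v hv).mp hd1 (ρ x v)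
    have hT : ρ x = c • (1 : Module.End K V) := LinearMap.ext fun u => by
      obtain ⟨b, rfl⟩ := (finrank_eq_one_iff_of_nonzero' v hv).mp hd1 u
      rw [map_smul, ← hc, LinearMap.smul_apply, Module.End.one_apply, smul_comm]
    have hc1 : c = 1 := by
      rw [hT, smul_pow, one_pow] at hTP
      have h1 : c ^ p ^ (n + 1) = 1 := eq_of_smul_one_eq (hTP.trans (one_smul _ _).symm)
      have h2 : (c - 1) ^ p ^ (n + 1) = 0 := by rw [sub_pow_char_pow, h1, one_pow, sub_self]
      exact sub_eq_zero.mp (eq_zero_of_pow_eq_zero h2)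
    rw [hc1, one_smul] at hT
    have h1 := hord
    rw [hinj x hT, orderOf_one] at h1
    exact absurd h1.symm (Nat.one_lt_pow n.succ_ne_zero (Fact.out : p.Prime).one_lt).ne'
  obtain ⟨hd, hds⟩ := d_add_one_eq' (ρ x) h0 hd2 hs hlt
  refine ⟨by omega, hsP, fun hseq => ⟨?_, ?_⟩⟩
  · obtain ⟨b, hb⟩ := exists_finrank_eq_pow (F := K) (q := q) (Nat.card Q) Q le_rfl hQ V (ρ.comp Q.subtype)
      fun W hW => hirr' W fun g hg w hw => hW ⟨g, hg⟩ (Subgroup.mem_top _) w hw
    exact ⟨b, by rw [← hb]; omega⟩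
  · intro hab
    obtain ⟨v, hv⟩ := exists_ne (0 : V)
    rcases hirr' (K ∙ v) fun g hg w hw => by
        obtain ⟨c, hc⟩ := mem_scalar_of_commute hirr' (ρ g) fun a ha =>
          ((show Commute g a from congrArg Subtype.val (hab.is_comm.comm (⟨g, hg⟩ : Q) ⟨a, ha⟩)).map ρ).eq
        rw [hc, LinearMap.smul_apply, Module.End.one_apply]
        exact Submodule.smul_mem _ c hw
      with h | h
    · exact hv (Submodule.span_singleton_eq_bot.mp h)
    · have := finrank_span_singleton (K := K) hv
      rw [h, finrank_top] at this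
      omega

end Cfsg.Agent.S4282
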