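import Cfsg.Statements.S4283
import Cfsg.Agent.EqLemmas
import Cfsg.Agent.Lib.Frobenius.Basic

set_option autoImplicit false
open Cfsg

namespace Cfsg.Agent.S4283

open Cfsg.Agent.Frobenius

/-- Let G be a finite group with centre Z and let K, H be abelian subgroups of G containing Z such that G/Z is a Frobenius group with complement H/Z and kernel K/Z. Then the conjugacy class sizes of G are exactly 1, [G : K] and [G : H], and these two indices are coprime. (This is the converse half of the characterization of finite groups whose conjugacy class sizes are exactly 1, m and n with m and n coprime.) -/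
theorem result {G : Type*} [Group G] [Finite G] (K H : Subgroup G) (hZK : Subgroup.center G ≤ K) (hZH : Subgroup.center G ≤ H) (hK : IsMulCommutative K) (hH : IsMulCommutative H) (hFrob : Cfsg.IsFrobeniusComplement (H.map (QuotientGroup.mk' (Subgroup.center G)))) (hker : Cfsg.frobeniusKernel (H.map (QuotientGroup.mk' (Subgroup.center G))) = (K.map (QuotientGroup.mk' (Subgroup.center G)) : Set (G ⧸ Subgroup.center G))) : Set.range (fun x : G => (Subgroup.centralizer ({x} : Set G)).index) = ({1, K.index, H.index} : Set ℕ) ∧ K.index.Coprime H.index := by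
  have hkerset := hker
  clear hker
  set Z := Subgroup.center G with hZ
  set π := QuotientGroup.mk' Z with hπ
  set Hb := H.map π with hHb
  set Kb := K.map π with hKb
  have hker : π.ker = Z := by rw [hπ]; exact QuotientGroup.ker_mk' Z
  have hcH : Hb.comap π = H := by
    rw [hHb, Subgroup.comap_map_eq, hker, sup_eq_left.mpr hZH]
  have hcK : Kb.comap π = K := by
    rw [hKb, Subgroup.comap_map_eq, hker, sup_eq_left.mpr hZK]
  have hKi : K.index = Kb.index := by
    rw [← Subgroup.index_comap_of_surjective Kb (QuotientGroup.mk'_surjective Z), hcK]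
  have hHi : H.index = Hb.index := by
    rw [← Subgroup.index_comap_of_surjective Hb (QuotientGroup.mk'_surjective Z), hcH]
  have hcardK : Nat.card Kb = Hb.index := by
    rw [← card_kernel hFrob, hkerset]; rfl
  have hKH : Kb.index = Nat.card Hb := by
    have h1 := Kb.index_mul_card
    rw [hcardK, ← Hb.index_mul_card, mul_comm Hb.index (Nat.card Hb)] at h1
    exact mul_right_cancel₀ Subgroup.index_ne_zero_of_finite h1
  have hconjmem : ∀ x : G, π x ∉ Kb → ∃ g : G, g⁻¹ * x * g ∈ H ∧ g⁻¹ * x * g ∉ Z := by
    intro x hx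
    rw [← SetLike.mem_coe, ← hkerset, mem_kernel_iff] at hx
    push Not at hx
    obtain ⟨h1, q, hq⟩ := hx
    obtain ⟨g, rfl⟩ := QuotientGroup.mk'_surjective Z q
    refine ⟨g, ?_, ?_⟩
    · rw [← hcH, Subgroup.mem_comap, map_mul, map_mul, map_inv]; exact hq
    · intro hz
      apply h1
      have : π (g⁻¹ * x * g) = 1 := by rwa [← MonoidHom.mem_ker, hker]
      rw [map_mul, map_mul, map_inv] at this
      exact mul_left_cancel (a := (π g)⁻¹) (mul_right_cancel (b := π g) (by rw [this]; simp))
  have hCH : ∀ y : G, y ∈ H → y ∉ Z → Subgroup.centralizer ({y} : Set G) = H := by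
    intro y hy hyZ
    refine le_antisymm (fun c hc => ?_) (fun c hc => ?_)
    · rw [← hcH, Subgroup.mem_comap]
      refine centralizer_le hFrob (x := π y) (fun h => hyZ ?_) ⟨y, hy, rfl⟩ ?_
      · rwa [← hker, MonoidHom.mem_ker]
      · rw [Subgroup.mem_centralizer_singleton_iff, ← map_mul, ← map_mul,
          Subgroup.mem_centralizer_singleton_iff.mp hc]
    · exact Subgroup.mem_centralizer_singleton_iff.mpr
        (congrArg Subtype.val (hH.is_comm.comm (⟨c, hc⟩ : H) ⟨y, hy⟩))
  have hCK : ∀ x : G, x ∈ K → x ∉ Z → Subgroup.centralizer ({x} : Set G) = K := by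
    intro x hx hxZ
    refine le_antisymm (fun c hc => ?_) (fun c hc => ?_)
    · rw [← hcK, Subgroup.mem_comap]
      by_contra hcKb
      obtain ⟨g, hg, hgZ⟩ := hconjmem c hcKb
      have hxc : g⁻¹ * x * g ∈ Subgroup.centralizer ({g⁻¹ * c * g} : Set G) := by
        rw [Subgroup.mem_centralizer_singleton_iff]
        have := (Subgroup.mem_centralizer_singleton_iff.mp hc).symm
        calc g⁻¹ * x * g * (g⁻¹ * c * g) = g⁻¹ * (x * c) * g := by group
          _ = g⁻¹ * (c * x) * g := by rw [this]
          _ = _ := by group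
      rw [hCH _ hg hgZ] at hxc
      have hxk : π x ∈ Cfsg.frobeniusKernel Hb := by rw [hkerset]; exact ⟨x, hx, rfl⟩
      rcases mem_kernel_iff.mp hxk with h | h
      · exact hxZ (by rwa [← hker, MonoidHom.mem_ker])
      · apply h (π g)
        rw [← map_inv, ← map_mul, ← map_mul]
        exact ⟨_, hxc, rfl⟩
    · exact Subgroup.mem_centralizer_singleton_iff.mpr
        (congrArg Subtype.val (hK.is_comm.comm (⟨c, hc⟩ : K) ⟨x, hx⟩))
  refine ⟨?_, by rw [hKi, hHi, hKH]; exact coprime_card_index hFrob⟩
  ext n
  simp only [Set.mem_range, Set.mem_insert_iff, Set.mem_singleton_iff]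
  constructor
  · rintro ⟨x, rfl⟩
    by_cases hxZ : x ∈ Z
    · left
      rw [Subgroup.index_eq_one, eq_top_iff]
      intro c _
      exact Subgroup.mem_centralizer_singleton_iff.mpr (Subgroup.mem_center_iff.mp hxZ c)
    by_cases hxK : π x ∈ Kb
    · right; left
      rw [hCK x (by rw [← hcK]; exact hxK) hxZ]
    · right; right
      obtain ⟨g, hg, hgZ⟩ := hconjmem x hxK
      rw [← hCH _ hg hgZ]
      have e : Subgroup.centralizer ({x} : Set G)
          = (Subgroup.centralizer ({g⁻¹ * x * g} : Set G)).comap (MulAut.conj g⁻¹).toMonoidHom := by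
        ext c
        simp only [Subgroup.mem_comap, Subgroup.mem_centralizer_singleton_iff, MulEquiv.coe_toMonoidHom,
          MulAut.conj_apply, inv_inv]
        constructor
        · intro h
          calc g⁻¹ * c * g * (g⁻¹ * x * g) = g⁻¹ * (c * x) * g := by group
            _ = g⁻¹ * (x * c) * g := by rw [h]
            _ = _ := by group
        · intro h
          calc c * x = g * (g⁻¹ * c * g * (g⁻¹ * x * g)) * g⁻¹ := by group
            _ = g * (g⁻¹ * x * g * (g⁻¹ * c * g)) * g⁻¹ := by rw [h]
            _ = _ := by group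
      rw [e, Subgroup.index_comap_of_surjective _ (MulAut.conj g⁻¹).surjective]
  · rintro (rfl | rfl | rfl)
    · exact ⟨1, by rw [Subgroup.index_eq_one, eq_top_iff]; intro c _; simp [Subgroup.mem_centralizer_singleton_iff]⟩
    · obtain ⟨q, hqK, hq1⟩ : ∃ q ∈ Kb, q ≠ 1 := by
        by_contra hc
        push Not at hc
        have : Kb = ⊥ := (Subgroup.eq_bot_iff_forall _).mpr hc
        have h1 := one_lt_index hFrob
        rw [← hcardK, this, Subgroup.card_bot] at h1
        exact lt_irrefl _ h1
      obtain ⟨x, hx, rfl⟩ := hqK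
      exact ⟨x, by rw [hCK x hx (fun h => hq1 (by rwa [← MonoidHom.mem_ker, hker]))]⟩
    · obtain ⟨q, hq, hq1⟩ := exists_ne_one_mem hFrob
      obtain ⟨x, hx, rfl⟩ := hq
      exact ⟨x, by rw [hCH x hx (fun h => hq1 (by rwa [← MonoidHom.mem_ker, hker]))]⟩

end Cfsg.Agent.S4283
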