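import Cfsg.Statements.S4291
import Cfsg.Agent.Lib.Frobenius.FiveTypesExist
-- import your own Cfsg.Agent.* helpers here

set_option autoImplicit false
open Cfsg

namespace Cfsg.Agent.S4291

/-- Let G be a finite group that occurs as a Frobenius complement. Then G has exactly one normal subgroup N such that every Sylow subgroup of N is cyclic and the quotient of G by N is trivial or isomorphic to one of the following five groups: the Klein four-group, the alternating group of degree 4, the symmetric group of degree 4, the alternating group of degree 5, the symmetric group of degree 5. (The quotient is described by a surjective homomorphism with kernel N; the Klein four-group is written as the dihedral group of order 4.) -/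
theorem result {G : Type*} [Group G] [Finite G]
    (hFC : (∃ (L : Type) (_ : Group L) (_ : Finite L) (H : Subgroup L), Cfsg.IsFrobeniusComplement H ∧ Nonempty (G ≃* H))) :
    ∃! N : Subgroup G, N.Normal ∧ (∀ (p : ℕ) [Fact p.Prime] (P : Sylow p N), IsCyclic P) ∧
      (N = ⊤ ∨
        (∃ f : G →* DihedralGroup 2, Function.Surjective f ∧ f.ker = N) ∨
        (∃ f : G →* alternatingGroup (Fin 4), Function.Surjective f ∧ f.ker = N) ∨
        (∃ f : G →* Equiv.Perm (Fin 4), Function.Surjective f ∧ f.ker = N) ∨
        (∃ f : G →* alternatingGroup (Fin 5), Function.Surjective f ∧ f.ker = N) ∨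
        (∃ f : G →* Equiv.Perm (Fin 5), Function.Surjective f ∧ f.ker = N)) := by
  classical
  obtain ⟨L, iL, fL, H, hH, ⟨eG⟩⟩ := hFC
  have hsm : Frobenius.SmallCyclic G :=
    (Frobenius.smallCyclic_complement hH).of_injective (f := eG.toMonoidHom) eG.injective
  have := Fintype.ofFinite G
  obtain ⟨N, hN, hNZ, hNt⟩ : ∃ N : Subgroup G, N.Normal ∧ IsZGroup N ∧ Frobenius.Five.Typ G N := by
    by_cases hs : Group.IsSolvable G
    · exact Frobenius.Five.exists_of_solvable hsm
    · obtain ⟨ρ⟩ := Frobenius.exists_fpfRep_of_isFrobeniusComplement hH eG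
      exact Frobenius.FPFRep.exists_five hs ρ
  refine ⟨N, ⟨hN, fun p _ P => (isZGroup_iff _).1 hNZ p Fact.out P, hNt⟩, ?_⟩
  rintro M ⟨hM, hMZ, hMt⟩
  exact Frobenius.Five.typ_unique hsm
    ((isZGroup_iff _).2 fun p hp P => @hMZ p ⟨hp⟩ P) hNZ hMt hNt

end Cfsg.Agent.S4291
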