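import Cfsg.Statements.S4292
import Cfsg.Agent.EqLemmas
import Cfsg.Agent.Lib.FCConstruct.Basic
import Cfsg.Agent.Lib.FCConstruct.Lift
import Cfsg.Agent.Lib.Frobenius.Structure

set_option autoImplicit false
open Cfsg

namespace Cfsg.Agent.S4292

open Cfsg.Agent.FCConstruct
open scoped Kronecker

universe u v

/-- bundle an action by additive maps -/
def mkAct {S : Type*} [Monoid S] {p : ℕ} {M : Type*} [AddCommGroup M] [Module (ZMod p) M]
    (f : S → (M →+ M)) (h1 : ∀ m, f 1 m = m) (hmul : ∀ a b m, f (a * b) m = f a (f b m)) :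
    S →* Module.End (ZMod p) M where
  toFun s := (f s).toZModLinearMap p
  map_one' := LinearMap.ext h1
  map_mul' a b := LinearMap.ext (hmul a b)

theorem hasNormZero_of_elementary {A : Type u} [Group A] [Finite A] {p : ℕ} [Fact p.Prime]
    (hpA : ¬ p ∣ Nat.card A) {V : Type v} [CommGroup V] [Nontrivial V] (hpow : ∀ v : V, v ^ p = 1)
    (f : A → V → V) (h1 : ∀ v, f 1 v = v) (hmul : ∀ a b v, f (a * b) v = f a (f b v))
    (hadd : ∀ a v w, f a (v * w) = f a v * f a w) (hfpf : ∀ a : A, a ≠ 1 → ∀ v, f a v = v → v = 1) :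
    HasNormZero A := by
  let _ : Module (ZMod p) (Additive V) := AddCommGroup.zmodModule (fun m =>
    Additive.toMul.injective (hpow m.toMul))
  exact hasNormZero_of_fpf hpA (M := Additive V)
    (mkAct (fun a => MonoidHom.toAdditive (MonoidHom.mk' (f a) (hadd a)))
      (fun m => Additive.toMul.injective (h1 m.toMul))
      (fun a b m => Additive.toMul.injective (hmul a b m.toMul)))
    fun a ha m hm => Additive.toMul.injective (hfpf a ha m.toMul (congrArg Additive.toMul hm))

theorem hasNormZero_of_fc {A : Type u} [Group A] [Finite A] {L : Type v} [Group L] [Finite L] {H : Subgroup L}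
    (hH : Cfsg.IsFrobeniusComplement H) (e : A ≃* H) : HasNormZero A := by
  classical
  set N := Frobenius.frobKernel hH
  have := Frobenius.frobKernel_normal hH
  have hN : 1 < Nat.card N := (Subgroup.one_lt_card_iff_ne_bot N).mpr (Frobenius.frobKernel_ne_bot hH)
  obtain ⟨p, hp, hpN⟩ := Nat.exists_prime_and_dvd hN.ne'
  have := Fact.mk hp
  let R : Sylow p N := default
  obtain ⟨A', hc', hfpf, ⟨eA⟩, hAn⟩ := Frobenius.exists_invariant_sylow_complement
    (Frobenius.frobKernel_isComplement hH) (Frobenius.fpf_frobKernel hH) p R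
  set R' : Subgroup L := (R : Subgroup N).map N.subtype
  have hR'N : R' ≤ N := Subgroup.map_subtype_le _
  have hR'p : IsPGroup p R' := R.isPGroup'.map N.subtype
  let V : Subgroup L :=
    { carrier := {x | x ∈ R' ∧ x ^ p = 1 ∧ ∀ y ∈ R', Commute x y}
      one_mem' := ⟨R'.one_mem, one_pow p, fun y _ => Commute.one_left y⟩
      mul_mem' := fun {x y} hx hy => ⟨R'.mul_mem hx.1 hy.1,
        by rw [(hx.2.2 y hy.1).mul_pow, hx.2.1, hy.2.1, one_mul],
        fun z hz => (hx.2.2 z hz).mul_left (hy.2.2 z hz)⟩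
      inv_mem' := fun {x} hx => ⟨R'.inv_mem hx.1, by rw [inv_pow, hx.2.1, inv_one],
        fun z hz => (hx.2.2 z hz).inv_left⟩ }
  have hVN : V ≤ N := fun x hx => hR'N hx.1
  let _ : CommGroup V :=
    { (inferInstance : Group V) with mul_comm := fun x y => Subtype.ext (x.2.2.2 y y.2.1) }
  have hVnt : Nontrivial (Additive V) := by
    have hR1 : Nontrivial R' := by
      rw [Subgroup.nontrivial_iff_ne_bot]
      intro h
      exact R.ne_bot_of_dvd_card hpN ((Subgroup.map_eq_bot_iff_of_injective _ N.subtype_injective).mp h)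
    have hZ : Nontrivial (Subgroup.center R') := hR'p.center_nontrivial
    obtain ⟨k, hk⟩ := IsPGroup.iff_card.mp (hR'p.to_subgroup (Subgroup.center R'))
    have hk0 : k ≠ 0 := by
      rintro rfl
      rw [pow_zero] at hk
      have := Finite.one_lt_card (α := Subgroup.center R')
      omega
    obtain ⟨z, hz⟩ := exists_prime_orderOf_dvd_card' (G := Subgroup.center R') p
      (hk ▸ dvd_pow_self p hk0)
    have hz1 : ((z : R') : L) ≠ 1 := fun h => by
      rw [show z = 1 from Subtype.ext (Subtype.ext h), orderOf_one] at hz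
      exact hp.ne_one hz.symm
    have hzV : ((z : R') : L) ∈ V := by
      refine ⟨(z : R').2, ?_, fun y hy => ?_⟩
      · rw [← Subgroup.coe_pow, ← Subgroup.coe_pow, ← hz, pow_orderOf_eq_one]; rfl
      · exact (congrArg Subtype.val (Subgroup.mem_center_iff.mp z.2 ⟨y, hy⟩)).symm
    exact ⟨⟨Additive.ofMul ⟨_, hzV⟩, 0, fun h =>
      hz1 (congrArg (fun m : Additive V => ((Additive.toMul m : V) : L)) h)⟩⟩
  have hstab : ∀ a : A', ∀ x ∈ V, (a : L) * x * (a : L)⁻¹ ∈ V := by
    intro a x hx
    have hn := Subgroup.mem_normalizer_iff.mp (hAn a.2)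
    refine ⟨(hn x).mp hx.1, by rw [conj_pow, hx.2.1, mul_one, mul_inv_cancel], fun y hy => ?_⟩
    have hy' : (a : L)⁻¹ * y * (a : L) ∈ R' := (hn _).mpr (by
      rw [show (a : L) * ((a : L)⁻¹ * y * (a : L)) * (a : L)⁻¹ = y by group]; exact hy)
    have h := (SemiconjBy.conj_mk (a : L) x).eq
    show (a : L) * x * (a : L)⁻¹ * y = y * ((a : L) * x * (a : L)⁻¹)
    calc (a : L) * x * (a : L)⁻¹ * y
        = (a : L) * (x * ((a : L)⁻¹ * y * (a : L))) * (a : L)⁻¹ := by group
      _ = (a : L) * ((a : L)⁻¹ * y * (a : L) * x) * (a : L)⁻¹ := by rw [(hx.2.2 _ hy').eq]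
      _ = y * ((a : L) * x * (a : L)⁻¹) := by group
  let eAA' : A ≃* A' := e.trans eA.symm
  have hpA : ¬ p ∣ Nat.card A := by
    intro h
    rw [Nat.card_congr eAA'.toEquiv] at h
    have hco := hfpf.coprime (by rw [Subgroup.normalizer_eq_top]; exact le_top)
    exact hp.not_dvd_one (hco ▸ Nat.dvd_gcd h hpN)
  have hVnt' : Nontrivial V := Additive.ofMul.nontrivial
  refine hasNormZero_of_elementary hpA (V := V) (fun v => Subtype.ext v.2.2.1)
    (fun a v => ⟨(eAA' a : L) * v * (eAA' a : L)⁻¹, hstab _ v v.2⟩)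
    (fun v => Subtype.ext (by simp)) (fun a b v => Subtype.ext (by simp [mul_assoc]))
    (fun a v w => Subtype.ext (by simp [mul_assoc])) fun a ha v hv => ?_
  set c : A' := eAA' a with hc
  have hc1 : (c : L) ≠ 1 := fun h =>
    ha (eAA'.injective (by rw [map_one]; exact Subtype.ext h))
  have h1 : (c : L) * (v : L) * (c : L)⁻¹ = (v : L) := congrArg Subtype.val hv
  exact Subtype.ext (hfpf c c.2 hc1 _ (hVN v.2) (mul_inv_eq_iff_eq_mul.mp h1))

theorem exists_prod {A : Type u} {B : Type v} [Group A] [Finite A] [Group B] [Finite B] [Nontrivial A]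
    (hA : HasNormZero A) (hB : HasNormZero B) (hco : (Nat.card A).Coprime (Nat.card B)) :
    ∃ m : ℕ, IsFCWith (A × B) m := by
  classical
  obtain ⟨k, ρ, hk, hρ⟩ := hA
  obtain ⟨k', σ, hk', hσ⟩ := hB
  obtain ⟨l, hl, hlp⟩ := Nat.exists_infinite_primes (Nat.card (A × B) + 1)
  have := Fact.mk hlp
  have : Nonempty (Fin k × Fin k') := ⟨(⟨0, hk⟩, ⟨0, hk'⟩)⟩
  let τ : A × B →* Matrix (Fin k × Fin k') (Fin k × Fin k') ℤ :=
    { toFun := fun x => ρ x.1 ⊗ₖ σ x.2
      map_one' := by simp
      map_mul' := fun x y => by simp [Matrix.mul_kronecker_mul] }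
  let red := (Int.castRingHom (ZMod l)).mapMatrix (m := Fin k × Fin k')
  let toEnd := (Matrix.toLinAlgEquiv' (R := ZMod l) (n := Fin k × Fin k')).toRingEquiv.toRingHom.comp red
  let f : A × B →* Module.End (ZMod l) (Fin k × Fin k' → ZMod l) := toEnd.toMonoidHom.comp τ
  refine ⟨_, exists_of_units (M := Fin k × Fin k' → ZMod l) f fun x hx m hm => ?_⟩
  have hfix : ∀ n : ℕ, f (x ^ n) • m = m := by
    intro n
    induction n with
    | zero => simp
    | succ n ih => rw [pow_succ, map_mul, mul_smul, hm, ih]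
  obtain ⟨y, n, hy, hy1, hsum⟩ : ∃ y : A × B, ∃ n : ℕ, y = x ^ n ∧ y ≠ 1 ∧
      ∑ i ∈ Finset.range (orderOf y), τ y ^ i = 0 := by
    by_cases ha : x.1 = 1
    · refine ⟨x, 1, (pow_one x).symm, hx, ?_⟩
      have hb : x.2 ≠ 1 := fun h => hx (Prod.ext ha h)
      have hord : orderOf x = orderOf x.2 := by
        rw [Prod.orderOf, ha, orderOf_one, Nat.lcm_one_left]
      have hi : ∀ i, τ x ^ i = Matrix.kroneckerMap (· * ·) (1 : Matrix (Fin k) (Fin k) ℤ) (σ x.2 ^ i) := by
        intro i
        rw [← map_pow, ← map_pow]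
        show ρ (x ^ i).1 ⊗ₖ σ (x ^ i).2 = _
        rw [Prod.pow_fst, Prod.pow_snd, ha, one_pow, map_one]
      simp only [hi, hord]
      have h0 := hσ x.2 hb
      ext ⟨i, i'⟩ ⟨j, j'⟩
      have := congrFun (congrFun h0 i') j'
      simp only [Matrix.sum_apply, Matrix.zero_apply] at this
      simp only [Matrix.sum_apply, Matrix.kroneckerMap_apply, Matrix.zero_apply, ← Finset.mul_sum, this, mul_zero]
    · have ha' : x.1 ^ orderOf x.2 ≠ 1 := by
        intro h
        apply ha
        have h1 : orderOf x.1 ∣ orderOf x.2 := orderOf_dvd_of_pow_eq_one h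
        exact orderOf_eq_one_iff.mp (Nat.eq_one_of_dvd_coprimes hco (orderOf_dvd_natCard _)
          (h1.trans (orderOf_dvd_natCard _)))
      refine ⟨x ^ orderOf x.2, orderOf x.2, rfl, fun h => ha' (congrArg Prod.fst h), ?_⟩
      set a' := x.1 ^ orderOf x.2 with ha'def
      have he : x ^ orderOf x.2 = (a', 1) := Prod.ext (Prod.pow_fst _ _) (by
        rw [Prod.pow_snd, pow_orderOf_eq_one])
      have hord : orderOf ((a', 1) : A × B) = orderOf a' := by
        rw [Prod.orderOf]; simp
      have hi : ∀ i, τ (a', 1) ^ i = Matrix.kroneckerMap (· * ·) (ρ a' ^ i) (1 : Matrix (Fin k') (Fin k') ℤ) := by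
        intro i
        rw [← map_pow, ← map_pow]
        show ρ (((a', 1) : A × B) ^ i).1 ⊗ₖ σ (((a', 1) : A × B) ^ i).2 = _
        rw [Prod.pow_fst, Prod.pow_snd, one_pow, map_one]
      rw [he]
      simp only [hi, hord]
      have h0 := hρ a' ha'
      ext ⟨i, i'⟩ ⟨j, j'⟩
      have := congrFun (congrFun h0 i) j
      simp only [Matrix.sum_apply, Matrix.zero_apply] at this
      simp only [Matrix.sum_apply, Matrix.kroneckerMap_apply, Matrix.zero_apply, ← Finset.sum_mul, this, zero_mul]
  have hsum' : ∑ i ∈ Finset.range (orderOf y), f y ^ i = 0 := by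
    have := congrArg toEnd hsum
    rw [map_sum, map_zero] at this
    simp only [map_pow] at this
    exact this
  have h0 := smul_eq_zero_of_fixed (f y) _ hsum' (m := m) (by rw [hy]; exact hfix n)
  have hne : (orderOf y : ZMod l) ≠ 0 := by
    rw [Ne, ZMod.natCast_eq_zero_iff]
    intro hd
    have := Nat.le_of_dvd Nat.card_pos (hd.trans (orderOf_dvd_natCard y))
    omega
  funext i
  have h1 := congrFun h0 i
  simp only [Pi.smul_apply, nsmul_eq_mul, Pi.zero_apply] at h1
  exact (mul_eq_zero.mp h1).resolve_left hne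

theorem left_of_prod {A : Type u} [Group A] [Finite A] [Nontrivial A]
    {L : Type} [Group L] [Finite L] {H : Subgroup L} (hH : Cfsg.IsFrobeniusComplement H) (ι : A →* H)
    (hι : Function.Injective ι) :
    ∃ (L : Type) (_ : Group L) (_ : Finite L) (H : Subgroup L), Cfsg.IsFrobeniusComplement H ∧ Nonempty (A ≃* H) := by
  set N := Frobenius.frobKernel hH
  have := Frobenius.frobKernel_normal hH
  have : Nontrivial N := (Subgroup.nontrivial_iff_ne_bot N).mpr (Frobenius.frobKernel_ne_bot hH)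
  refine (exists_of_fpf ((MulAut.conjNormal (H := N)).comp (H.subtype.comp ι)) fun a ha k hk => ?_).exists_iso
  have h1 : (ι a : L) ≠ 1 := fun h => ha (hι (by rw [map_one]; exact Subtype.ext h))
  have h2 : (ι a : L) * (k : L) * (ι a : L)⁻¹ = (k : L) := congrArg Subtype.val hk
  exact Subtype.ext (Frobenius.fpf_frobKernel hH _ (ι a).2 h1 _ k.2 (mul_inv_eq_iff_eq_mul.mp h2))

/-- Let A and B be nontrivial finite groups. Then the direct product A × B occurs as a Frobenius complement if and only if A and B both occur as Frobenius complements and the orders of A and B are coprime. -/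
theorem result {A B : Type*} [Group A] [Finite A] [Nontrivial A] [Group B] [Finite B] [Nontrivial B] :
    (∃ (L : Type) (_ : Group L) (_ : Finite L) (H : Subgroup L), Cfsg.IsFrobeniusComplement H ∧ Nonempty ((A × B) ≃* H)) ↔
    ((∃ (L : Type) (_ : Group L) (_ : Finite L) (H : Subgroup L), Cfsg.IsFrobeniusComplement H ∧ Nonempty (A ≃* H)) ∧
     (∃ (L : Type) (_ : Group L) (_ : Finite L) (H : Subgroup L), Cfsg.IsFrobeniusComplement H ∧ Nonempty (B ≃* H)) ∧
     (Nat.card A).Coprime (Nat.card B)) := by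
  constructor
  · rintro ⟨L, _, _, H, hH, ⟨e⟩⟩
    have hsc : Frobenius.SmallCyclic (A × B) :=
      (Frobenius.smallCyclic_complement hH).of_injective (f := e.toMonoidHom) e.injective
    refine ⟨left_of_prod hH (e.toMonoidHom.comp (MonoidHom.inl A B)) (fun a b h => by simpa using h),
      left_of_prod hH (e.toMonoidHom.comp (MonoidHom.inr A B)) (fun a b h => by simpa using h), ?_⟩
    refine Nat.coprime_of_dvd fun p hp hpA hpB => ?_
    have := Fact.mk hp
    obtain ⟨a, ha⟩ := exists_prime_orderOf_dvd_card' (G := A) p hpA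
    obtain ⟨b, hb⟩ := exists_prime_orderOf_dvd_card' (G := B) p hpB
    have hx : orderOf ((a, 1) : A × B) = p := by rw [Prod.orderOf]; simp [ha]
    have hy : orderOf ((1, b) : A × B) = p := by rw [Prod.orderOf]; simp [hb]
    obtain ⟨i, hi⟩ := Subgroup.mem_zpowers_iff.mp (hsc.mem_zpowers_of_commute hp hx hy
      (by simp [Commute, SemiconjBy]))
    have h1 := congrArg Prod.fst hi
    simp at h1
    rw [← h1, orderOf_one] at ha
    exact hp.ne_one ha.symm
  · rintro ⟨⟨LA, _, _, HA, hHA, ⟨eA⟩⟩, ⟨LB, _, _, HB, hHB, ⟨eB⟩⟩, hco⟩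
    obtain ⟨m, hm⟩ := exists_prod (hasNormZero_of_fc hHA eA) (hasNormZero_of_fc hHB eB) hco
    exact hm.exists_iso

end Cfsg.Agent.S4292
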