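import Cfsg.Statements.S4294
import Cfsg.Agent.Lib.Frobenius.ZassDivision
-- import your own Cfsg.Agent.* helpers here

set_option autoImplicit false
open Cfsg

namespace Cfsg.Agent.S4294

/-- A finite non-solvable subgroup of the multiplicative group of a division ring is isomorphic to the binary icosahedral group SL(2,5). -/
theorem result {D : Type*} [DivisionRing D] (H : Subgroup Dˣ) [Finite H] (hH : ¬ Group.IsSolvable H) :
    Nonempty (H ≃* Matrix.SpecialLinearGroup (Fin 2) (ZMod 5)) := by
  classical
  let f : H →* D := (Units.coeHom D).comp H.subtype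
  have hf : Function.Injective f := Units.val_injective.comp Subtype.val_injective
  -- the positive characteristic case
  by_cases hp : ringChar D = 0
  swap
  · exfalso
    have : NeZero (ringChar D) := ⟨hp⟩
    have := (CharP.char_is_prime_or_zero D (ringChar D)).resolve_right hp
    have := Fact.mk this
    letI := ZMod.algebra D (ringChar D)
    let A := Algebra.adjoin (ZMod (ringChar D)) (Set.range f)
    have hfg : (Subalgebra.toSubmodule A).FG := by
      have e : (Submonoid.closure (Set.range f) : Set D) = Set.range f := by
        rw [← MonoidHom.coe_mrange, Submonoid.closure_eq]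
      rw [Algebra.adjoin_eq_span, e]
      exact Submodule.fg_span (Set.finite_range f)
    have : Module.Finite (ZMod (ringChar D)) A := Module.Finite.iff_fg.2 hfg
    have : Finite A := Module.finite_of_finite (ZMod (ringChar D))
    have hAf := Finite.isDomain_to_isField A
    exact hH (Group.isSolvable_of_comm fun x y => hf (by
      rw [map_mul, map_mul]
      exact congrArg Subtype.val (hAf.mul_comm ⟨f x, Algebra.subset_adjoin ⟨x, rfl⟩⟩
        ⟨f y, Algebra.subset_adjoin ⟨y, rfl⟩⟩)))
  -- characteristic zero
  have : CharZero D := by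
    have : CharP D 0 := hp ▸ ringChar.charP D
    exact CharP.charP_to_charZero D
  let A := Algebra.adjoin ℚ (Set.range f)
  have hfg : (Subalgebra.toSubmodule A).FG := by
    have e : (Submonoid.closure (Set.range f) : Set D) = Set.range f := by
      rw [← MonoidHom.coe_mrange, Submonoid.closure_eq]
    rw [Algebra.adjoin_eq_span, e]
    exact Submodule.fg_span (Set.finite_range f)
  have : Module.Finite ℚ A := Module.Finite.iff_fg.2 hfg
  let b := Module.finBasis ℚ A
  let fA : H →* A :=
    { toFun := fun x => ⟨f x, Algebra.subset_adjoin ⟨x, rfl⟩⟩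
      map_one' := Subtype.ext (map_one f)
      map_mul' := fun x y => Subtype.ext (map_mul f x y) }
  let ρ : Frobenius.FPFRep H :=
    { n := Module.finrank ℚ A
      M := (Algebra.leftMulMatrix b).toRingHom.toMonoidHom.comp fA
      pos := Module.finrank_pos
      fpf := by
        intro h hh v hv
        obtain ⟨y, rfl⟩ := b.equivFun.surjective v
        have e : b.equivFun (fA h * y) = b.equivFun y := by
          rw [← hv]
          exact (Algebra.leftMulMatrix_mulVec_repr b (fA h) y).symm
        have e' : (f h - 1) * (y : D) = 0 := by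
          rw [sub_mul, one_mul, sub_eq_zero]
          exact congrArg Subtype.val (b.equivFun.injective e)
        rcases mul_eq_zero.1 e' with e'' | e''
        · exact absurd (hf ((sub_eq_zero.1 e'').trans (map_one f).symm)) hh
        · rw [show y = 0 from Subtype.ext e'', map_zero] }
  let Φ : A →+* ρ.E := ((Rat.castHom ℝ).mapMatrix).comp (Algebra.leftMulMatrix b).toRingHom
  have hmap : Function.Injective ⇑((Rat.castHom ℝ).mapMatrix (m := Fin (Module.finrank ℚ A))) :=
    Matrix.map_injective (Rat.castHom ℝ).injective
  have hΦ : Function.Injective Φ := by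
    intro x y h
    exact Algebra.leftMulMatrix_injective b (hmap h)
  have := Fintype.ofFinite H
  refine ρ.mulEquiv_sl25_of_domain (A := Φ.range) ⟨fun g => ⟨fA g, rfl⟩, ?_, ?_⟩ hH
  · rintro r _ ⟨x, rfl⟩
    refine ⟨r • x, ?_⟩
    show (Rat.castHom ℝ).mapMatrix (Algebra.leftMulMatrix b (r • x)) = _
    rw [map_smul]
    ext i j
    simp [Φ, Matrix.smul_apply]
  · rintro _ ⟨x, rfl⟩ _ ⟨y, rfl⟩ hxy
    rw [← map_mul, map_eq_zero_iff Φ hΦ] at hxy
    rcases mul_eq_zero.1 hxy with e | e
    · exact Or.inl (by rw [e, map_zero])
    · exact Or.inr (by rw [e, map_zero])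

end Cfsg.Agent.S4294
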