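import Cfsg.Statements.S4296
import Cfsg.Agent.EqLemmas
import Cfsg.Agent.Lib.Frobenius.Structure

set_option autoImplicit false
open Cfsg

namespace Cfsg.Agent.S4296

open Cfsg.Agent.Frobenius

lemma square_vector {S : Type*} [Group S] [Finite S] (hS : ¬ IsCyclic S)
    (t : S) (hinv : ∀ s : S, s ≠ 1 → ∃ k : ℕ, s ^ k = t) {p : ℕ} [Fact p.Prime] (hp2 : p ≠ 2)
    {M : Type*} [AddCommGroup M] [Module (ZMod p) M] [Finite M] (f : S → (M →+ M))
    (h1 : ∀ m, f 1 m = m) (hmul : ∀ a b m, f (a * b) m = f a (f b m)) (ht : ∀ m, f t m = -m) :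
    IsSquare (Nat.card M) := by
  let act : S →* Module.End (ZMod p) M :=
    { toFun := fun s => (f s).toZModLinearMap p
      map_one' := LinearMap.ext h1
      map_mul' := fun a b => LinearMap.ext (hmul a b) }
  have hactt : act t = (-1 : ZMod p) • LinearMap.id := LinearMap.ext fun m => by
    rw [LinearMap.smul_apply, LinearMap.id_apply, neg_one_smul]; exact ht m
  let δ : S →* ZMod p := (LinearMap.det).comp act
  have hdetT : δ t = (-1 : ZMod p) ^ Module.finrank (ZMod p) M := by
    show LinearMap.det (act t) = _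
    rw [hactt, LinearMap.det_smul, LinearMap.det_id, mul_one]
  have heven : Even (Module.finrank (ZMod p) M) := by
    by_contra hdo
    rw [Nat.not_even_iff_odd] at hdo
    apply hS
    rw [hdo.neg_one_pow] at hdetT
    have hinj : Function.Injective δ.toHomUnits := by
      rw [injective_iff_map_eq_one]
      intro s hs
      by_contra hs1
      obtain ⟨k, hk⟩ := hinv s hs1
      have h1' : δ s = 1 := congrArg Units.val hs
      rw [← hk, map_pow, h1', one_pow] at hdetT
      have h2 : ((2 : ℕ) : ZMod p) = 0 := by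
        rw [Nat.cast_two]; linear_combination hdetT
      rw [ZMod.natCast_eq_zero_iff] at h2
      exact hp2 ((Nat.prime_dvd_prime_iff_eq Fact.out Nat.prime_two).mp h2)
    exact isCyclic_of_injective δ.toHomUnits hinj
  have h := Module.natCard_eq_pow_finrank (K := ZMod p) (V := M)
  rw [Nat.card_zmod] at h
  obtain ⟨c, hc⟩ := heven
  rw [h, hc, pow_add]
  exact ⟨_, rfl⟩

lemma square_aux {S : Type*} [Group S] [Finite S] (hS : ¬ IsCyclic S)
    (t : S) (hinv : ∀ s : S, s ≠ 1 → ∃ k : ℕ, s ^ k = t) :
    ∀ (n : ℕ) (V : Type*) [CommGroup V] [Finite V] (φ : S →* MulAut V),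
      (∀ v, φ t v = v⁻¹) → Odd n → Nat.card V = n → IsSquare n := by
  intro n
  induction n using Nat.strong_induction_on with
  | _ n ih =>
    intro V _ _ φ ht hodd hcard
    rcases eq_or_ne n 1 with rfl | hn1
    · exact ⟨1, rfl⟩
    obtain ⟨p, hp, hpn⟩ := Nat.exists_prime_and_dvd hn1
    have := Fact.mk hp
    let ψ : V →* V := powMonoidHom p
    have hcardeq : Nat.card ψ.ker * Nat.card ψ.range = n := by
      rw [← hcard, ← Subgroup.card_mul_index ψ.ker, Subgroup.index_ker]
    have hequiv : ∀ (s : S) (v : V), ψ (φ s v) = φ s (ψ v) := fun s v => (map_pow (φ s) v p).symm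
    obtain ⟨x, hx⟩ := exists_prime_orderOf_dvd_card' (G := V) p (by rwa [hcard])
    have hW : 1 < Nat.card ψ.ker := by
      rw [Finite.one_lt_card_iff_nontrivial]
      refine ⟨⟨⟨x, ?_⟩, 1, fun h => ?_⟩⟩
      · show x ^ p = 1
        rw [← hx, pow_orderOf_eq_one]
      · rw [show x = 1 from congrArg Subtype.val h, orderOf_one] at hx
        exact hp.ne_one hx.symm
    -- the range
    have hRlt : Nat.card ψ.range < n := by
      rw [← hcardeq]
      exact lt_mul_of_one_lt_left Nat.card_pos hW
    let φR : S →* MulAut ψ.range :=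
      { toFun := fun s =>
          { toFun := fun v => ⟨φ s v, by obtain ⟨w, hw⟩ := v.2; exact ⟨φ s w, by rw [hequiv, hw]⟩⟩
            invFun := fun v => ⟨φ s⁻¹ v, by obtain ⟨w, hw⟩ := v.2; exact ⟨φ s⁻¹ w, by rw [hequiv, hw]⟩⟩
            left_inv := fun v => Subtype.ext (by simp)
            right_inv := fun v => Subtype.ext (by simp)
            map_mul' := fun a b => Subtype.ext (map_mul (φ s) (a : V) b) }
        map_one' := by ext v; simp
        map_mul' := fun a b => by ext v; simp }
    have hsqR : IsSquare (Nat.card ψ.range) :=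
      ih _ hRlt ψ.range φR (fun v => Subtype.ext (ht v))
        (hodd.of_dvd_nat ⟨Nat.card ψ.ker, by rw [mul_comm, hcardeq]⟩) rfl
    -- the kernel is a vector space of even dimension
    have hWsq : IsSquare (Nat.card ψ.ker) := by
      let _ : Module (ZMod p) (Additive ψ.ker) := AddCommGroup.zmodModule (fun m => Subtype.ext (by
        show ((Additive.toMul m : ψ.ker) : V) ^ p = 1
        exact (Additive.toMul m).2))
      have hp2 : p ≠ 2 := by
        rintro rfl
        obtain ⟨c, hc⟩ := hodd
        omega
      let f : S → (Additive ψ.ker →+ Additive ψ.ker) := fun s => MonoidHom.toAdditive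
        { toFun := fun v => (⟨φ s v, by
            show ψ (φ s v) = 1
            rw [hequiv, show ψ v = 1 from v.2, map_one]⟩ : ψ.ker)
          map_one' := Subtype.ext (map_one (φ s))
          map_mul' := fun a b => Subtype.ext (map_mul (φ s) (a : V) b) }
      have h := square_vector hS t hinv (p := p) hp2 (M := Additive ψ.ker) f
        (fun m => Additive.toMul.injective (Subtype.ext (by
          show φ 1 ((Additive.toMul m : ψ.ker) : V) = _
          rw [map_one]; rfl)))
        (fun a b m => Additive.toMul.injective (Subtype.ext (by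
          show φ (a * b) ((Additive.toMul m : ψ.ker) : V) = φ a (φ b ((Additive.toMul m : ψ.ker) : V))
          rw [map_mul]; rfl)))
        (fun m => Additive.toMul.injective (Subtype.ext (ht _)))
      exact h
    rw [← hcardeq]
    exact hWsq.mul hsqR

/-- Let H be a Frobenius complement in a finite group, and suppose some Sylow subgroup of H is not cyclic. Then the number of elements of the Frobenius kernel (the identity together with the elements lying in no conjugate of H) is an odd perfect square. -/
theorem result {L : Type*} [Group L] [Finite L] (H : Subgroup L) (hF : Cfsg.IsFrobeniusComplement H)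
    (hZ : ∃ (p : ℕ) (_ : Fact p.Prime) (P : Sylow p H), ¬ IsCyclic P) :
    Odd (Nat.card (Cfsg.frobeniusKernel H)) ∧ IsSquare (Nat.card (Cfsg.frobeniusKernel H)) := by
  classical
  obtain ⟨p, hp, P, hP⟩ := hZ
  obtain rfl : p = 2 := by
    by_contra hne
    exact hP ((smallCyclic_complement hF).isCyclic_sylow hne P)
  set N := frobKernel hF
  have hN := frobKernel_normal hF
  have hcardN : Nat.card (Cfsg.frobeniusKernel H) = Nat.card N := by
    rw [← coe_frobKernel hF]; rfl
  have hdvd : 2 ∣ Nat.card H := by
    by_contra h2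
    apply hP
    have : Nat.card (P : Subgroup H) = 1 := by
      rw [Sylow.card_eq_multiplicity, Nat.factorization_eq_zero_of_not_dvd h2, pow_zero]
    have := (Nat.card_eq_one_iff_unique.mp this).1
    infer_instance
  have hHN : H ≤ Subgroup.normalizer (N : Set L) := by
    rw [Subgroup.normalizer_eq_top_iff.mpr hN]; exact le_top
  obtain ⟨⟨s, hsH, hs2, huniq, hinvk⟩, hcomm⟩ :=
    exists_inverting_involution (frobKernel_ne_bot hF) hHN (fpf_frobKernel hF) hdvd
  have hodd : Odd (Nat.card N) := by
    rw [Nat.odd_iff, ← Nat.two_dvd_ne_zero]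
    intro h
    have hc := coprime_card_index hF
    rw [← card_frobKernel hF] at hc
    have := Nat.dvd_gcd hdvd h
    rw [hc] at this
    omega
  refine ⟨by rwa [hcardN], ?_⟩
  rw [hcardN]
  let _ : CommGroup N := { (inferInstance : Group N) with mul_comm := fun a b => hcomm.is_comm.comm a b }
  let φ : (P : Subgroup H) →* MulAut N :=
    (MulAut.conjNormal (H := N)).comp (H.subtype.comp (P : Subgroup H).subtype)
  have hsP : ∃ t : (P : Subgroup H), ((t : H) : L) = s := by
    have hP1 : 1 < Nat.card (P : Subgroup H) := by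
      by_contra h
      apply hP
      have := Finite.card_le_one_iff_subsingleton.mp (not_lt.mp h)
      infer_instance
    have : Nontrivial (P : Subgroup H) := Finite.one_lt_card_iff_nontrivial.mp hP1
    obtain ⟨k, hk⟩ := IsPGroup.iff_card.mp P.isPGroup'
    obtain ⟨t, ht⟩ := exists_prime_orderOf_dvd_card' (G := (P : Subgroup H)) 2 (by
      rw [hk]
      refine dvd_pow_self 2 ?_
      rintro rfl
      rw [hk, pow_zero] at hP1
      exact lt_irrefl _ hP1)
    refine ⟨t, huniq _ (t : H).2 ?_⟩
    rw [Subgroup.orderOf_coe, Subgroup.orderOf_coe, ht]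
  obtain ⟨t, hts⟩ := hsP
  refine square_aux hP t (fun u hu => ?_) _ N φ (fun v => ?_) hodd rfl
  · obtain ⟨a, ha⟩ := (IsPGroup.iff_orderOf.mp P.isPGroup') u
    have ha0 : a ≠ 0 := by rintro rfl; exact hu (orderOf_eq_one_iff.mp (by simpa using ha))
    refine ⟨2 ^ (a - 1), Subtype.ext (Subtype.ext ?_)⟩
    rw [hts]
    refine huniq _ ((u ^ 2 ^ (a - 1) : (P : Subgroup H)) : H).2 ?_
    rw [Subgroup.orderOf_coe, Subgroup.orderOf_coe, orderOf_pow_of_dvd (by positivity)
      (by rw [ha]; exact Nat.pow_dvd_pow 2 (Nat.sub_le a 1)), ha, Nat.pow_div (Nat.sub_le a 1) two_pos,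
      show a - (a - 1) = 1 by omega, pow_one]
  · apply Subtype.ext
    show ((t : H) : L) * v * ((t : H) : L)⁻¹ = _
    rw [hts]
    exact hinvk v v.2

end Cfsg.Agent.S4296
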