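import Cfsg.Statements.S4297
import Cfsg.Agent.EqLemmas
import Cfsg.Agent.Lib.FCConstruct.Basic

set_option autoImplicit false
open Cfsg

namespace Cfsg.Agent.S4297

open scoped Quaternion

variable {R : Type*} [Monoid R]

/-- the homomorphism from a dicyclic group given by generators -/
lemma exists_hom (n : ℕ) [NeZero n] (u y : R) (hu : u ^ (2 * n) = 1) (hy : y * y = u ^ n) (huy : u * y * u = y) :
    ∃ F : QuaternionGroup n →* R, (∀ i, F (QuaternionGroup.a i) = u ^ i.val) ∧
      ∀ i, F (QuaternionGroup.xa i) = y * u ^ i.val := by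
  let U : ZMod (2 * n) → R := fun i => u ^ i.val
  have hU : ∀ i j, U (i + j) = U i * U j := fun i j => by
    simp only [U, ← pow_add]
    rw [ZMod.val_add]
    conv_rhs => rw [← Nat.mod_add_div (i.val + j.val) (2 * n), pow_add, pow_mul, hu, one_pow, mul_one]
  have h0 : U 0 = 1 := by simp [U]
  have hk : ∀ k : ℕ, u ^ k * y * u ^ k = y := by
    intro k
    induction k with
    | zero => simp
    | succ k ih =>
      calc u ^ (k + 1) * y * u ^ (k + 1) = u * (u ^ k * y * u ^ k) * u := by
            nth_rewrite 1 [pow_succ' u k]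
            nth_rewrite 1 [pow_succ u k]
            simp only [mul_assoc]
        _ = y := by rw [ih, huy]
  have hc : ∀ i, U i * y = y * U (-i) := fun i => by
    calc U i * y = U i * y * (U i * U (-i)) := by rw [← hU, add_neg_cancel, h0, mul_one]
      _ = (U i * y * U i) * U (-i) := by simp only [mul_assoc]
      _ = y * U (-i) := by rw [show U i * y * U i = y from hk i.val]
  have hn : U (n : ZMod (2 * n)) = u ^ n := by
    have : NeZero n := inferInstance
    simp only [U]
    rw [ZMod.val_natCast_of_lt (by have := NeZero.ne n; omega)]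
  refine ⟨{ toFun := fun g => match g with
              | QuaternionGroup.a i => U i
              | QuaternionGroup.xa i => y * U i
            map_one' := h0
            map_mul' := ?_ }, fun i => rfl, fun i => rfl⟩
  rintro (i | i) (j | j) <;> simp only [QuaternionGroup.a_mul_a, QuaternionGroup.a_mul_xa,
    QuaternionGroup.xa_mul_a, QuaternionGroup.xa_mul_xa]
  · exact hU i j
  · rw [← mul_assoc, hc i, mul_assoc, ← hU, ← sub_eq_neg_add]
  · rw [mul_assoc, ← hU]
  · calc U (↑n + j - i) = U ↑n * U (-i + j) := by rw [← hU]; congr 1; ring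
      _ = y * y * (U (-i) * U j) := by rw [hn, hy, hU]
      _ = y * (y * U (-i)) * U j := by simp only [mul_assoc]
      _ = y * (U i * y) * U j := by rw [hc i]
      _ = y * U i * (y * U j) := by simp only [mul_assoc]

/-- For every n ≥ 2 the dicyclic group of order 4n (generated by an element a of order 2n and an element x with x² = aⁿ and x a x⁻¹ = a⁻¹) occurs as a Frobenius complement of some finite Frobenius group. -/
theorem result (n : ℕ) (hn : 2 ≤ n) :
    ∃ (L : Type) (_ : Group L) (_ : Finite L) (H : Subgroup L), Cfsg.IsFrobeniusComplement H ∧ Nonempty (H ≃* QuaternionGroup n) := by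
  have : NeZero n := ⟨by omega⟩
  have h2n : 2 * n ≠ 0 := by omega
  set ζ : ℂ := Complex.exp (2 * Real.pi * Complex.I / ((2 * n : ℕ) : ℂ))
  have hζ : IsPrimitiveRoot ζ (2 * n) := Complex.isPrimitiveRoot_exp _ h2n
  set u : ℍ[ℝ] := Quaternion.ofComplex ζ
  set y : ℍ[ℝ] := ⟨0, 0, 1, 0⟩
  have hneg : ζ ^ n = -1 := by
    have h : ζ ^ n * ζ ^ n = 1 := by rw [← pow_add, ← two_mul]; exact hζ.pow_eq_one
    rcases mul_self_eq_one_iff.mp h with h1 | h1
    · exact absurd h1 (hζ.pow_ne_one_of_pos_of_lt (by omega) (by omega))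
    · exact h1
  have hnorm : (starRingEnd ℂ) ζ * ζ = 1 := by
    have : ‖ζ‖ = 1 := hζ.norm'_eq_one h2n
    rw [mul_comm, Complex.mul_conj, Complex.normSq_eq_norm_sq, this]; simp
  have hoc : ∀ z : ℂ, Quaternion.ofComplex z = (⟨z.re, z.im, 0, 0⟩ : ℍ[ℝ]) := fun _ => rfl
  have hjc : ∀ z : ℂ, Quaternion.ofComplex z * y = y * Quaternion.ofComplex ((starRingEnd ℂ) z) := by
    intro z
    rw [hoc, hoc]
    erw [QuaternionAlgebra.mk_mul_mk, QuaternionAlgebra.mk_mul_mk]
    simp
    rfl
  obtain ⟨F, hFa, hFx⟩ := exists_hom n u y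
    (by rw [show u = Quaternion.ofComplex ζ from rfl, ← map_pow, hζ.pow_eq_one, map_one])
    (by
      rw [show u = Quaternion.ofComplex ζ from rfl, ← map_pow, hneg, map_neg, map_one]
      erw [QuaternionAlgebra.mk_mul_mk]
      ext <;> simp)
    (by
      rw [show u = Quaternion.ofComplex ζ from rfl, hjc, mul_assoc, ← map_mul, hnorm, map_one, mul_one])
  have hinj : Function.Injective F := by
    rw [injective_iff_map_eq_one]
    rintro (i | i) h
    · rw [hFa, show u = Quaternion.ofComplex ζ from rfl, ← map_pow] at h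
      have h1 : ζ ^ i.val = 1 := by
        have hre := congrArg (fun q : ℍ[ℝ] => q.re) h
        have him := congrArg (fun q : ℍ[ℝ] => q.imI) h
        rw [hoc] at hre him
        simp at hre him
        exact Complex.ext (by simpa using hre) (by simpa using him)
      have : i.val = 0 := by
        have := (hζ.pow_eq_one_iff_dvd _).mp h1
        exact Nat.eq_zero_of_dvd_of_lt this (ZMod.val_lt i)
      rw [(ZMod.val_eq_zero i).mp this]; rfl
    · exfalso
      rw [hFx, show u = Quaternion.ofComplex ζ from rfl, ← map_pow] at h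
      have := congrArg (fun q : ℍ[ℝ] => q.re) h
      rw [hoc] at this
      erw [QuaternionAlgebra.mk_mul_mk] at this
      simp at this
  let Fu : QuaternionGroup n →* ℍ[ℝ]ˣ := F.toHomUnits
  have hFu : Function.Injective Fu := fun a b h => hinj (congrArg Units.val h)
  let e := MonoidHom.ofInjective hFu
  have : Finite Fu.range := Finite.of_equiv _ e.toEquiv
  have : Nontrivial Fu.range := e.symm.toEquiv.nontrivial
  obtain ⟨m, hm⟩ := Cfsg.Agent.FCConstruct.exists_of_divisionRing Fu.range
  obtain ⟨L, g, f, H, hH, ⟨e'⟩⟩ := hm.exists_iso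
  exact ⟨L, g, f, H, hH, ⟨(e.trans e').symm⟩⟩

end Cfsg.Agent.S4297
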