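import Cfsg.Statements.S4295
import Cfsg.Agent.EqLemmas
import Cfsg.Agent.Lib.FCConstruct.Basic
import Cfsg.Agent.S4296
import Cfsg.Agent.S4297

set_option autoImplicit false
open Cfsg

namespace Cfsg.Agent.S4295

lemma ne_comm_Q8 : ¬ (QuaternionGroup.a 1 : QuaternionGroup 2) * QuaternionGroup.xa 0 =
    QuaternionGroup.xa 0 * QuaternionGroup.a 1 := by decide

lemma build {ι : Type} [Fintype ι] [Nonempty ι] (p : ι → ℕ) [∀ i, Fact (p i).Prime] (hp : ∀ i, p i ≠ 2) :
    Cfsg.Agent.FCConstruct.IsFCWith (QuaternionGroup 2) ((∏ i, p i) * ∏ i, p i) := by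
  choose a b hab using fun i => ZMod.sq_add_sq (p i) (-1)
  let u : Module.End ℤ (∀ i, ZMod (p i) × ZMod (p i)) :=
    (AddMonoidHom.mk' (fun v i => (-(v i).2, (v i).1)) (fun v w => by
      funext i; simp [add_comm])).toIntLinearMap
  let y : Module.End ℤ (∀ i, ZMod (p i) × ZMod (p i)) :=
    (AddMonoidHom.mk' (fun v i => (a i * (v i).1 + b i * (v i).2, b i * (v i).1 - a i * (v i).2))
      (fun v w => by funext i; simp only [Pi.add_apply, Prod.fst_add, Prod.snd_add, Prod.mk_add_mk]
                     refine Prod.ext ?_ ?_ <;> ring)).toIntLinearMap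
  have hu0 : ∀ v i, u v i = (-(v i).2, (v i).1) := fun _ _ => rfl
  have hy0 : ∀ v i, y v i = (a i * (v i).1 + b i * (v i).2, b i * (v i).1 - a i * (v i).2) := fun _ _ => rfl
  have hu2 : ∀ v, u (u v) = -v := fun v => by
    funext i; simp [hu0, Prod.ext_iff]
  have hu4 : u ^ (2 * 2) = 1 := by
    refine LinearMap.ext fun v => ?_
    show u (u (u (u v))) = v
    rw [hu2, hu2, neg_neg]
  have hy2 : y * y = u ^ 2 := by
    refine LinearMap.ext fun v => ?_
    show y (y v) = u (u v)
    rw [hu2]
    funext i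
    simp only [hy0, Pi.neg_apply]
    refine Prod.ext ?_ ?_
    · show _ = -(v i).1; linear_combination (v i).1 * hab i
    · show _ = -(v i).2; linear_combination (v i).2 * hab i
  have huy : u * y * u = y := by
    refine LinearMap.ext fun v => ?_
    show u (y (u v)) = y v
    funext i
    simp only [hu0, hy0]
    refine Prod.ext ?_ ?_ <;> ring
  obtain ⟨F, hFa, hFx⟩ := Cfsg.Agent.S4297.exists_hom 2 u y hu4 hy2 huy
  have : Nontrivial (QuaternionGroup 2) := ⟨⟨QuaternionGroup.a 1, 1, by decide⟩⟩
  have hsq : ∀ g : QuaternionGroup 2, g ≠ 1 → g = QuaternionGroup.a 2 ∨ g ^ 2 = QuaternionGroup.a 2 := by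
    decide
  obtain ⟨i0⟩ := (inferInstance : Nonempty ι)
  have : Nontrivial (∀ i, ZMod (p i) × ZMod (p i)) := Pi.nontrivial_at i0
  have h := Cfsg.Agent.FCConstruct.exists_of_units (M := ∀ i, ZMod (p i) × ZMod (p i)) F (fun g hg v hv => by
    have hz : F (QuaternionGroup.a 2) v = v := by
      rcases hsq g hg with h | h
      · rw [← h]; exact hv
      · rw [← h, pow_two, map_mul]
        show F g (F g v) = v
        rw [show F g v = v from hv, show F g v = v from hv]
    rw [hFa] at hz
    change u (u v) = v at hz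
    rw [hu2] at hz
    have h2 : ∀ i, ((2 : ℕ) : ZMod (p i)) ≠ 0 := fun i => by
      rw [Ne, ZMod.natCast_eq_zero_iff]
      exact fun h => hp i ((Nat.prime_dvd_prime_iff_eq Fact.out Nat.prime_two).mp h)
    funext i
    have hij : -(v i) = v i := congrFun hz i
    refine Prod.ext ?_ ?_
    · have h1 : -(v i).1 = (v i).1 := congrArg Prod.fst hij
      have : ((2 : ℕ) : ZMod (p i)) * (v i).1 = 0 := by rw [Nat.cast_two]; linear_combination -h1
      exact (mul_eq_zero.mp this).resolve_left (h2 i)
    · have h1 : -(v i).2 = (v i).2 := congrArg Prod.snd hij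
      have : ((2 : ℕ) : ZMod (p i)) * (v i).2 = 0 := by rw [Nat.cast_two]; linear_combination -h1
      exact (mul_eq_zero.mp this).resolve_left (h2 i))
  have hc : Nat.card (∀ i, ZMod (p i) × ZMod (p i)) = (∏ i, p i) * ∏ i, p i := by
    rw [Nat.card_pi, ← Finset.prod_mul_distrib]
    simp
  rwa [hc] at h

lemma prime_factors_odd {k p : ℕ} (hk : Odd k) (hp : p ∈ k.primeFactorsList) : p.Prime ∧ p ≠ 2 :=
  ⟨Nat.prime_of_mem_primeFactorsList hp, fun h => by
    obtain ⟨c, hc⟩ := Nat.dvd_of_mem_primeFactorsList hp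
    obtain ⟨d, hd⟩ := hk
    subst h
    omega⟩

/-- For a natural number m the following are equivalent: (a) some finite group has a Frobenius complement isomorphic to the quaternion group of order 8 whose Frobenius kernel (the identity together with the elements lying in no conjugate of the complement) has exactly m elements; (b) m is an odd perfect square greater than 1. -/
theorem result (m : ℕ) :
    (∃ (L : Type) (_ : Group L) (_ : Finite L) (H : Subgroup L), Cfsg.IsFrobeniusComplement H ∧
        Nonempty (H ≃* QuaternionGroup 2) ∧ Nat.card (Cfsg.frobeniusKernel H) = m) ↔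
    (Odd m ∧ IsSquare m ∧ 1 < m) := by
  constructor
  · rintro ⟨L, g, f, H, hH, ⟨e⟩, hm⟩
    have : Fact (Nat.Prime 2) := ⟨Nat.prime_two⟩
    have hc8 : Nat.card H = 2 ^ 3 := by
      rw [Nat.card_congr e.toEquiv, Nat.card_eq_fintype_card, QuaternionGroup.card]; norm_num
    obtain ⟨P⟩ : Nonempty (Sylow 2 H) := inferInstance
    have hPtop : (P : Subgroup H) = ⊤ :=
      Subgroup.eq_top_of_card_eq _ (by
        rw [Sylow.card_eq_multiplicity, hc8, Nat.Prime.factorization_pow Nat.prime_two, Finsupp.single_eq_same])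
    have hnc : ¬ IsCyclic (P : Subgroup H) := by
      intro hc
      have e2 : (P : Subgroup H) ≃* QuaternionGroup 2 :=
        ((MulEquiv.subgroupCongr hPtop).trans Subgroup.topEquiv).trans e
      have : IsCyclic (QuaternionGroup 2) := isCyclic_of_surjective e2 e2.surjective
      let _ := this.commGroup
      exact absurd (mul_comm (QuaternionGroup.a 1 : QuaternionGroup 2) (QuaternionGroup.xa 0)) ne_comm_Q8
    obtain ⟨h1, h2⟩ := Cfsg.Agent.S4296.result H hH ⟨2, inferInstance, P, hnc⟩
    rw [hm] at h1 h2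
    refine ⟨h1, h2, ?_⟩
    rw [← hm, Cfsg.Agent.Frobenius.card_kernel hH]
    exact Cfsg.Agent.Frobenius.one_lt_index hH
  · rintro ⟨hodd, ⟨k, rfl⟩, h1⟩
    have hk : Odd k := (Nat.odd_mul.mp hodd).1
    have hk1 : 1 < k := by nlinarith
    set l := k.primeFactorsList
    have hpr : ∀ i : Fin l.length, (l.get i).Prime ∧ l.get i ≠ 2 :=
      fun i => prime_factors_odd hk (List.get_mem l i)
    have : ∀ i : Fin l.length, Fact (l.get i).Prime := fun i => ⟨(hpr i).1⟩
    have hlen : 0 < l.length := by
      rw [List.length_pos_iff]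
      intro h
      have := Nat.prod_primeFactorsList (n := k) (by omega)
      rw [show k.primeFactorsList = [] from h] at this
      simp at this
      omega
    have : Nonempty (Fin l.length) := ⟨⟨0, hlen⟩⟩
    obtain ⟨L, g, f, H, hH, ⟨e⟩, hcard⟩ := build (fun i => l.get i) (fun i => (hpr i).2)
    refine ⟨L, g, f, H, hH, ⟨e.symm⟩, ?_⟩
    rw [hcard]
    have h0 : ∏ i : Fin l.length, l.get i = k := by
      have h := Nat.prod_primeFactorsList (n := k) (by omega)
      rw [show k.primeFactorsList = l from rfl, ← List.ofFn_get l, List.prod_ofFn] at h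
      exact h
    rw [h0]

end Cfsg.Agent.S4295
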