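import Cfsg.Statements.S4298
import Cfsg.Agent.EqLemmas
import Cfsg.Agent.Lib.FCConstruct.Basic

set_option autoImplicit false
open Cfsg

namespace Cfsg.Agent.S4298

abbrev T5 := ZMod 5 × ZMod 5 × ZMod 5 × ZMod 5

/-- the images of the elements of `SL(2,3)` in `SL(2,5)` -/
def tab : List T5 := [(0,0,0,0), (0,0,0,0), (0,0,0,0), (0,0,0,0), (0,0,0,0), (0,0,0,0), (0,0,0,0), (0,0,0,0), (0,0,0,0), (0,0,0,0), (0,0,0,0), (0,0,0,0), (0,0,0,0), (0,0,0,0), (0,0,0,0), (0,4,1,0), (2,4,3,4), (3,2,1,1), (0,0,0,0), (0,0,0,0), (0,0,0,0), (0,1,4,0), (2,3,4,4), (3,1,2,1), (0,0,0,0), (0,0,0,0), (0,0,0,0), (0,0,0,0), (1,0,0,1), (0,0,0,0), (0,0,0,0), (1,2,1,3), (0,0,0,0), (0,0,0,0), (3,3,4,1), (0,0,0,0), (0,0,0,0), (1,1,2,3), (0,0,0,0), (0,0,0,0), (0,0,0,0), (0,2,2,0), (4,2,1,2), (0,0,0,0), (0,0,0,0), (0,0,0,0), (3,4,3,1), (0,0,0,0), (4,1,2,2), (0,0,0,0), (0,0,0,0), (0,0,0,0), (0,0,0,0), (3,0,0,2),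 (0,0,0,0), (0,0,0,0), (4,0,0,4), (0,0,0,0), (0,0,0,0), (2,2,1,4), (0,0,0,0), (0,0,0,0), (4,3,4,2), (0,0,0,0), (0,0,0,0), (2,1,2,4), (0,0,0,0), (2,0,0,3), (0,0,0,0), (1,4,3,3), (0,0,0,0), (0,0,0,0), (0,0,0,0), (0,0,0,0), (4,4,3,2), (1,3,4,3), (0,0,0,0), (0,0,0,0), (0,0,0,0), (0,3,3,0), (0,0,0,0)]

def emb (a b c d : ZMod 3) : T5 := tab.getD (27 * a.val + 9 * b.val + 3 * c.val + d.val) (0, 0, 0, 0)

def mul5 (x y : T5) : T5 :=
  (x.1 * y.1 + x.2.1 * y.2.2.1, x.1 * y.2.1 + x.2.1 * y.2.2.2,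
   x.2.2.1 * y.1 + x.2.2.2 * y.2.2.1, x.2.2.1 * y.2.1 + x.2.2.2 * y.2.2.2)

lemma emb_mul : ∀ a b c d : ZMod 3, a * d - b * c = 1 → ∀ e f g h : ZMod 3, e * h - f * g = 1 →
    emb (a * e + b * g) (a * f + b * h) (c * e + d * g) (c * f + d * h) =
      mul5 (emb a b c d) (emb e f g h) := by decide +kernel

lemma emb_one : emb 1 0 0 1 = (1, 0, 0, 1) := by decide +kernel

lemma emb_fpf : ∀ a b c d : ZMod 3, a * d - b * c = 1 → ¬ (a = 1 ∧ b = 0 ∧ c = 0 ∧ d = 1) →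
    ∀ x y : ZMod 5, (emb a b c d).1 * x + (emb a b c d).2.1 * y = x →
      (emb a b c d).2.2.1 * x + (emb a b c d).2.2.2 * y = y → x = 0 ∧ y = 0 := by decide +kernel

def toMat (x : T5) : Matrix (Fin 2) (Fin 2) (ZMod 5) := !![x.1, x.2.1; x.2.2.1, x.2.2.2]

lemma toMat_mul (x y : T5) : toMat (mul5 x y) = toMat x * toMat y := by
  ext i j; fin_cases i <;> fin_cases j <;> simp [toMat, mul5, Matrix.mul_apply, Fin.sum_univ_two]

lemma det_eq (A : Matrix.SpecialLinearGroup (Fin 2) (ZMod 3)) : A 0 0 * A 1 1 - A 0 1 * A 1 0 = 1 := by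
  have := A.det_coe
  rwa [Matrix.det_fin_two] at this

def rep : Matrix.SpecialLinearGroup (Fin 2) (ZMod 3) →* Matrix (Fin 2) (Fin 2) (ZMod 5) where
  toFun A := toMat (emb (A 0 0) (A 0 1) (A 1 0) (A 1 1))
  map_one' := by
    simp only [Matrix.SpecialLinearGroup.coe_one, Matrix.one_apply_eq, ne_eq, Fin.reduceEq,
      not_false_eq_true, Matrix.one_apply_ne, emb_one]
    ext i j; fin_cases i <;> fin_cases j <;> simp [toMat]
  map_mul' A B := by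
    rw [← toMat_mul, ← emb_mul _ _ _ _ (det_eq A) _ _ _ _ (det_eq B)]
    simp [Matrix.mul_apply, Fin.sum_univ_two]

/-- The group SL(2,3) of order 24 (the binary tetrahedral group) occurs as a Frobenius complement of some finite Frobenius group. -/
theorem result :
    ∃ (L : Type) (_ : Group L) (_ : Finite L) (H : Subgroup L), Cfsg.IsFrobeniusComplement H ∧ Nonempty (H ≃* Matrix.SpecialLinearGroup (Fin 2) (ZMod 3)) := by
  have : Fact (Nat.Prime 5) := ⟨Nat.prime_five⟩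
  have : Nontrivial (Matrix.SpecialLinearGroup (Fin 2) (ZMod 3)) :=
    ⟨⟨⟨!![1, 1; 0, 1], by decide⟩, 1, fun h => by
      have := congrArg (fun M : Matrix.SpecialLinearGroup (Fin 2) (ZMod 3) => M 0 1) h
      simp at this⟩⟩
  let f : Matrix.SpecialLinearGroup (Fin 2) (ZMod 3) →* Module.End (ZMod 5) (Fin 2 → ZMod 5) :=
    (Matrix.toLinAlgEquiv' (R := ZMod 5) (n := Fin 2)).toRingEquiv.toRingHom.toMonoidHom.comp rep
  exact (Cfsg.Agent.FCConstruct.exists_of_units (M := Fin 2 → ZMod 5) f (fun A hA v hv => by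
    have h : Matrix.mulVec (rep A) v = v := hv
    have h0 := congrFun h 0
    have h1 := congrFun h 1
    simp [rep, toMat, Matrix.mulVec, dotProduct, Fin.sum_univ_two] at h0 h1
    have hne : ¬ (A 0 0 = 1 ∧ A 0 1 = 0 ∧ A 1 0 = 0 ∧ A 1 1 = 1) := fun hc => hA (by
      ext i j
      fin_cases i <;> fin_cases j <;> simp [hc])
    obtain ⟨hx, hy⟩ := emb_fpf _ _ _ _ (det_eq A) hne (v 0) (v 1) h0 h1
    funext i; fin_cases i <;> simp [hx, hy])).exists_iso_symm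

end Cfsg.Agent.S4298
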