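import Cfsg.Statements.S4300
import Cfsg.Agent.EqLemmas

set_option autoImplicit false
open Cfsg

namespace Cfsg.Agent.S4300

/-- Let G act faithfully and primitively on a set X, and suppose the stabilizer of some point is a simple group. Then either G is simple, or G has a normal subgroup, neither trivial nor the whole group, that acts regularly on X (transitively with trivial point stabilizers). -/
theorem result {G : Type*} [Group G] {X : Type*} [MulAction G X] [FaithfulSMul G X]
    (hprim : MulAction.IsPreprimitive G X) (x : X) (hsimple : IsSimpleGroup (MulAction.stabilizer G x)) :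
    IsSimpleGroup G ∨ ∃ N : Subgroup G, N.Normal ∧ N ≠ ⊥ ∧ N ≠ ⊤ ∧
      MulAction.IsPretransitive N X ∧ ∀ y : X, MulAction.stabilizer N y = ⊥ := by
  by_contra hcon
  push_neg at hcon
  obtain ⟨hns, hnone⟩ := hcon
  have : Nontrivial G :=
    have := hsimple.toNontrivial
    (MulAction.stabilizer G x).subtype_injective.nontrivial
  obtain ⟨N, hNn, hN1, hN2⟩ : ∃ N : Subgroup G, N.Normal ∧ N ≠ ⊥ ∧ N ≠ ⊤ := by
    by_contra hc
    push_neg at hc
    exact hns ⟨fun N hN => or_iff_not_imp_left.mpr (hc N hN)⟩
  have := hNn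
  have htr : MulAction.IsPretransitive N X := by
    refine MulAction.IsQuasiPreprimitive.isPretransitive_of_normal ?_
    intro hfix
    apply hN1
    rw [Subgroup.eq_bot_iff_forall]
    intro n hn
    apply eq_of_smul_eq_smul (α := X)
    intro y
    rw [one_smul]
    exact (Set.eq_univ_iff_forall.mp hfix y) ⟨n, hn⟩
  rcases hsimple.eq_bot_or_eq_top_of_normal (N.subgroupOf (MulAction.stabilizer G x)) inferInstance with h | h
  · obtain ⟨y, hy⟩ := hnone N hNn hN1 hN2 htr
    apply hy
    rw [Subgroup.eq_bot_iff_forall]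
    intro n hn
    obtain ⟨m, hm⟩ := htr.exists_smul_eq y x
    have hmem : (m * n * m⁻¹ : N) • x = x := by
      rw [← hm, mul_smul, inv_smul_smul, mul_smul, MulAction.mem_stabilizer_iff.mp hn]
    have h1 : (⟨((m * n * m⁻¹ : N) : G), hmem⟩ : MulAction.stabilizer G x) ∈
        N.subgroupOf (MulAction.stabilizer G x) := (m * n * m⁻¹ : N).2
    rw [h, Subgroup.mem_bot] at h1
    replace h1 := congrArg Subtype.val h1
    have h2 : (m * n * m⁻¹ : N) = 1 := Subtype.ext h1
    have h3 : m⁻¹ * (m * n * m⁻¹) * m = m⁻¹ * 1 * m := congrArg (fun z => m⁻¹ * z * m) h2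
    simpa [mul_assoc] using h3
  · apply hN2
    rw [eq_top_iff]
    intro g _
    obtain ⟨n, hn⟩ := htr.exists_smul_eq (g • x) x
    have hst : (n : G) * g ∈ MulAction.stabilizer G x := by
      rw [MulAction.mem_stabilizer_iff, mul_smul]; exact hn
    have : (⟨_, hst⟩ : MulAction.stabilizer G x) ∈ N.subgroupOf (MulAction.stabilizer G x) := h ▸ Subgroup.mem_top _
    have := N.mul_mem (N.inv_mem n.2) this
    simpa using this

end Cfsg.Agent.S4300
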