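import Cfsg.Statements.S4301
import Cfsg.Agent.EqLemmas

set_option autoImplicit false
open Cfsg

namespace Cfsg.Agent.S4301

/-- The union of `G` and the double coset `G h G`. -/
def Dset {P : Type*} [Group P] (G : Subgroup P) (h : P) : Set P :=
  {z | z ∈ G ∨ ∃ a ∈ G, ∃ b ∈ G, z = a * h * b}

variable {X : Type*}

lemma some_ne_none {G : Subgroup (Equiv.Perm (Option X))} (hfix : ∀ f ∈ G, f none = none)
    {f : Equiv.Perm (Option X)} (hf : f ∈ G) (z : X) : f (some z) ≠ none := by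
  intro e
  exact Option.some_ne_none z (f.injective (e.trans (hfix f hf).symm))

lemma pair_trans (G : Subgroup (Equiv.Perm (Option X))) (k : ℕ) (hk : 2 ≤ k)
    (hkX : Nonempty (Fin k ↪ X)) (htrans : ∀ a b : Fin k ↪ X, ∃ f ∈ G, ∀ i, f (some (a i)) = some (b i))
    (p q p' q' : X) (h : p ≠ q) (h' : p' ≠ q') :
    ∃ f ∈ G, f (some p) = some p' ∧ f (some q) = some q' := by
  classical
  obtain ⟨a0⟩ := hkX
  have ext' : ∀ u v : X, u ≠ v → ∃ a : Fin k ↪ X, a ⟨0, by omega⟩ = u ∧ a ⟨1, by omega⟩ = v := by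
    intro u v huv
    let a1 := a0.trans (Equiv.swap (a0 ⟨0, by omega⟩) u).toEmbedding
    have e1 : a1 ⟨0, by omega⟩ = u := by simp [a1]
    refine ⟨a1.trans (Equiv.swap (a1 ⟨1, by omega⟩) v).toEmbedding, ?_, by simp⟩
    have hne : u ≠ a1 ⟨1, by omega⟩ := by
      rw [← e1]; intro e; have := a1.injective e; simp at this
    simp [e1, Equiv.swap_apply_of_ne_of_ne hne huv]
  obtain ⟨a, ha0, ha1⟩ := ext' p q h
  obtain ⟨b, hb0, hb1⟩ := ext' p' q' h'
  obtain ⟨f, hf, he⟩ := htrans a b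
  exact ⟨f, hf, by rw [← ha0, ← hb0]; exact he _, by rw [← ha1, ← hb1]; exact he _⟩

variable (G : Subgroup (Equiv.Perm (Option X))) (h g : Equiv.Perm (Option X))

lemma mul_D {a z : Equiv.Perm (Option X)} (ha : a ∈ G) (hz : z ∈ Dset G h) : a * z ∈ Dset G h := by
  rcases hz with hz | ⟨u, hu, v, hv, rfl⟩
  · exact Or.inl (G.mul_mem ha hz)
  · exact Or.inr ⟨a * u, G.mul_mem ha hu, v, hv, by group⟩

lemma D_mul {a z : Equiv.Perm (Option X)} (ha : a ∈ G) (hz : z ∈ Dset G h) : z * a ∈ Dset G h := by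
  rcases hz with hz | ⟨u, hu, v, hv, rfl⟩
  · exact Or.inl (G.mul_mem hz ha)
  · exact Or.inr ⟨u, hu, v * a, G.mul_mem hv ha, by group⟩

lemma hfh_mem (hfix : ∀ f ∈ G, f none = none) (k : ℕ) (hk : 2 ≤ k) (hkX : Nonempty (Fin k ↪ X))
    (htrans : ∀ a b : Fin k ↪ X, ∃ f ∈ G, ∀ i, f (some (a i)) = some (b i))
    (hg : g ∈ G) (x y : X) (hxy : x ≠ y) (h4 : g (some x) = some y)
    (h6 : (g * h) ^ 3 ∈ G) (h7 : h ^ 2 ∈ G)
    (h8 : ∀ f ∈ G, f (some x) = some x → h * f * h ∈ G ∧ (h * f * h) (some x) = some x)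
    (f : Equiv.Perm (Option X)) (hf : f ∈ G) : h * f * h ∈ Dset G h := by
  by_cases hfx : f (some x) = some x
  · exact Or.inl (h8 f hf hfx).1
  obtain ⟨z, hz⟩ := Option.ne_none_iff_exists'.mp (some_ne_none hfix hf x)
  have hzx : x ≠ z := fun e => hfx (by rw [hz, ← e])
  obtain ⟨f1, hf1, h1x, h1y⟩ := pair_trans G k hk hkX htrans x y x z hxy hzx
  set f2 := (f1 * g)⁻¹ * f with hf2
  have hf2G : f2 ∈ G := G.mul_mem (G.inv_mem (G.mul_mem hf1 hg)) hf
  have hf2x : f2 (some x) = some x := by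
    rw [hf2, Equiv.Perm.mul_apply, hz, Equiv.Perm.inv_eq_iff_eq, Equiv.Perm.mul_apply, h4, h1y]
  have hmid : h⁻¹ * g * h⁻¹ ∈ Dset G h := by
    have e1 : h⁻¹ * g * h⁻¹ = (h ^ 2)⁻¹ * (g⁻¹ * ((g * h) ^ 3) * h * ((h ^ 2)⁻¹ * g⁻¹)) * (h ^ 2)⁻¹ := by
      simp only [pow_succ, pow_zero, one_mul]
      group
    rw [e1]
    refine D_mul G h (G.inv_mem h7) (mul_D G h (G.inv_mem h7) (Or.inr ⟨g⁻¹ * (g * h) ^ 3,
      G.mul_mem (G.inv_mem hg) h6, (h ^ 2)⁻¹ * g⁻¹, G.mul_mem (G.inv_mem h7) (G.inv_mem hg), rfl⟩))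
  have e : h * f * h = (h * f1 * h) * (h⁻¹ * g * h⁻¹) * (h * f2 * h) := by
    rw [hf2]; group
  rw [e]
  exact D_mul G h (h8 f2 hf2G hf2x).1 (mul_D G h (h8 f1 hf1 h1x).1 hmid)

/-- One-point extension of a multiply transitive group. Let X be a set and G a group of permutations of Option X (the set X with one extra point ∗ = none) all of whose elements fix ∗, such that G is k-transitive on the points of X for some k ≥ 2, X having at least k points. Suppose a permutation h of Option X and an element g of G satisfy: h interchanges ∗ with a point x of X and fixes a point y of X; g interchanges x and y; (g h)³ and h² lie in G; and for every f in G fixing x, the product h f h lies in G and fixes x. Then an element of the group generated by G and h fixes ∗ exactly when it lies in G, and that group acts (k+1)-transitively on Option X. -/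
theorem result {X : Type*} (G : Subgroup (Equiv.Perm (Option X))) (hfix : ∀ f ∈ G, f none = none)
    (k : ℕ) (hk : 2 ≤ k) (hkX : Nonempty (Fin k ↪ X))
    (htrans : ∀ a b : Fin k ↪ X, ∃ f ∈ G, ∀ i, f (some (a i)) = some (b i))
    (h g : Equiv.Perm (Option X)) (hg : g ∈ G) (x y : X)
    (h1 : h none = some x) (h2 : h (some x) = none) (h3 : h (some y) = some y)
    (h4 : g (some x) = some y) (h5 : g (some y) = some x)
    (h6 : (g * h) ^ 3 ∈ G) (h7 : h ^ 2 ∈ G)
    (h8 : ∀ f ∈ G, f (some x) = some x → h * f * h ∈ G ∧ (h * f * h) (some x) = some x) :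
    (∀ f ∈ Subgroup.closure ((G : Set (Equiv.Perm (Option X))) ∪ {h}), f none = none ↔ f ∈ G) ∧
      MulAction.IsMultiplyPretransitive (Subgroup.closure ((G : Set (Equiv.Perm (Option X))) ∪ {h})) (Option X) (k + 1) := by
  classical
  have hxy : x ≠ y := by
    rintro rfl
    rw [h2] at h3
    exact Option.some_ne_none x h3.symm
  have hD := hfh_mem G h g hfix k hk hkX htrans hg x y hxy h4 h6 h7 h8
  set C := Subgroup.closure ((G : Set (Equiv.Perm (Option X))) ∪ {h}) with hC
  have hGC : G ≤ C := fun f hf => Subgroup.subset_closure (Or.inl hf)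
  have hhC : h ∈ C := Subgroup.subset_closure (Or.inr rfl)
  let S : Subgroup (Equiv.Perm (Option X)) := {
    carrier := Dset G h
    one_mem' := Or.inl G.one_mem
    mul_mem' := by
      intro u v hu hv
      rcases hu with hu | ⟨a, ha, b, hb, rfl⟩
      · exact mul_D G h hu hv
      · rcases hv with hv | ⟨a', ha', b', hb', rfl⟩
        · exact D_mul G h hv (Or.inr ⟨a, ha, b, hb, rfl⟩)
        · have e : a * h * b * (a' * h * b') = a * (h * (b * a') * h) * b' := by group
          rw [e]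
          exact D_mul G h hb' (mul_D G h ha (hD _ (G.mul_mem hb ha')))
    inv_mem' := by
      intro u hu
      rcases hu with hu | ⟨a, ha, b, hb, rfl⟩
      · exact Or.inl (G.inv_mem hu)
      · refine Or.inr ⟨b⁻¹, G.inv_mem hb, (h ^ 2)⁻¹ * a⁻¹, G.mul_mem (G.inv_mem h7) (G.inv_mem ha), ?_⟩
        group }
  have hCS : C ≤ S := by
    rw [hC, Subgroup.closure_le]
    rintro u (hu | rfl)
    · exact Or.inl hu
    · exact Or.inr ⟨1, G.one_mem, 1, G.one_mem, by group⟩
  refine ⟨fun f hf => ⟨fun hfn => ?_, fun hfG => hfix f hfG⟩, ?_⟩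
  · rcases hCS hf with hu | ⟨a, ha, b, hb, rfl⟩
    · exact hu
    · exfalso
      rw [Equiv.Perm.mul_apply, Equiv.Perm.mul_apply, hfix b hb, h1] at hfn
      exact some_ne_none hfix ha x hfn
  · have norm : ∀ e : Fin (k + 1) ↪ Option X, ∃ c ∈ C, ∃ a : Fin k ↪ X,
        c (e 0) = none ∧ ∀ i : Fin k, c (e i.succ) = some (a i) := by
      intro e
      obtain ⟨c, hc, hc0⟩ : ∃ c ∈ C, c (e 0) = none := by
        rcases he : e 0 with _ | z
        · exact ⟨1, C.one_mem, rfl⟩
        · rcases eq_or_ne z x with rfl | hzx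
          · exact ⟨h, hhC, h2⟩
          · obtain ⟨f, hf, hfz, -⟩ := pair_trans G k hk hkX htrans z x x z hzx hzx.symm
            exact ⟨h * f, C.mul_mem hhC (hGC hf), by rw [Equiv.Perm.mul_apply, hfz, h2]⟩
      have hne : ∀ i : Fin k, c (e i.succ) ≠ none := fun i hi =>
        Fin.succ_ne_zero i (e.injective (c.injective (hi.trans hc0.symm)))
      refine ⟨c, hc, ⟨fun i => (c (e i.succ)).get (Option.isSome_iff_ne_none.mpr (hne i)), ?_⟩, hc0,
        fun i => (Option.some_get _).symm⟩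
      intro i j hij
      exact Fin.succ_injective _ (e.injective (c.injective (Option.get_inj.mp hij)))
    refine MulAction.isMultiplyPretransitive_iff.mpr fun {e e'} => ?_
    obtain ⟨c, hc, a, hc0, hca⟩ := norm e
    obtain ⟨c', hc', a', hc0', hca'⟩ := norm e'
    obtain ⟨f, hf, hfa⟩ := htrans a a'
    refine ⟨⟨c'⁻¹ * f * c, C.mul_mem (C.mul_mem (C.inv_mem hc') (hGC hf)) hc⟩, ?_⟩
    ext i : 1
    show (c'⁻¹ * f * c) (e i) = e' i
    rw [Equiv.Perm.mul_apply, Equiv.Perm.mul_apply, Equiv.Perm.inv_eq_iff_eq]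
    induction i using Fin.cases with
    | zero => rw [hc0, hfix f hf, hc0']
    | succ i => rw [hca, hfa, hca']

end Cfsg.Agent.S4301
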