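import Cfsg.Statements.S4302
import Cfsg.Agent.Lib.FFPair.AbelianThompson
import Cfsg.Agent.Lib.PReduced.Tools
import Cfsg.Agent.Lib.Cores.Fitting
import Cfsg.Agent.Lib.PLocal.Complements
import Cfsg.Agent.Lib.Linear.PSLTwoSmall
import Cfsg.Agent.S0617

set_option autoImplicit false
open Cfsg

namespace Cfsg.Agent.S4302

open Subgroup
open scoped commutatorElement

universe u

theorem pPrimeCore_two_eq_bot {X : Type u} [Group X] [Finite X] [Group.IsSolvable X]
    (hF : Cfsg.fittingSubgroup X = Cfsg.pCore 2 X) : Cfsg.pPrimeCore 2 X = ⊥ := by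
  by_contra hne
  obtain ⟨M, hMn, hM0, hMO, hMc⟩ := Solvable.exists_normal_between_abelian
    (A := (⊥ : Subgroup X)) (B := Cfsg.pPrimeCore 2 X) (bot_lt_iff_ne_bot.2 hne)
  have hcomm : IsMulCommutative M := le_centralizer_iff_isMulCommutative.1
    (commutator_eq_bot_iff_le_centralizer.1 (le_bot_iff.1 hMc))
  haveI := hMn
  have h : M ≤ Cfsg.pCore 2 X := hF ▸ Cores.le_fittingSubgroup_of_isMulCommutative M
  haveI : Fact (Nat.Prime 2) := ⟨Nat.prime_two⟩
  exact hM0.ne' (le_bot_iff.1 ((le_inf h hMO).trans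
    (Cores.disjoint_pCore_pPrimeCore (p := 2) (G := X)).eq_bot.le))

theorem structure_main {X : Type u} [Group X] [Finite X] [Group.IsSolvable X]
    (hF : Cfsg.fittingSubgroup X = Cfsg.pCore 2 X) (T : Sylow 2 X) (C : Subgroup X)
    (hCdef : C = (centralizer (((T : Subgroup X) ⊓ centralizer ((T : Subgroup X) : Set X) : Subgroup X) : Set X)).normalCore)
    (Y : Subgroup X) (hYdef : Y = normalClosure (Cfsg.thompsonSubgroupAOf (T : Subgroup X) : Set X)) :
    (C ⊔ Y ⊔ normalizer (Cfsg.thompsonSubgroupAOf (T : Subgroup X) : Set X) = ⊤) ∧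
      (Y ≤ C ∨ ∃ n : ℕ, 1 ≤ n ∧ ∃ (_ : (C.subgroupOf Y).Normal),
        Nonempty ((↥Y ⧸ C.subgroupOf Y) ≃* (Fin n → Equiv.Perm (Fin 3)))) := by
  haveI : Fact (Nat.Prime 2) := ⟨Nat.prime_two⟩
  set J := Cfsg.thompsonSubgroupAOf (T : Subgroup X) with hJ
  have hJeq : J = sSup (PLocal.maxIn PLocal.abelian (T : Subgroup X)) := PLocal.thompsonSubgroupAOf_eq _
  haveI hCn : C.Normal := hCdef ▸ normalCore_normal _
  haveI hYn : Y.Normal := hYdef ▸ normalClosure_normal
  have hJY : J ≤ Y := hYdef ▸ le_normalClosure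
  refine ⟨?_, ?_⟩
  · -- Frattini argument
    set N := (T : Subgroup X) ⊓ (C ⊔ Y)
    have hAN : ∀ A ∈ PLocal.maxIn PLocal.abelian (T : Subgroup X), A ≤ N := fun A hA =>
      le_inf hA.1 ((hJeq ▸ le_sSup hA : A ≤ J).trans (hJY.trans le_sup_right))
    obtain ⟨A₀, hA₀⟩ := PLocal.exists_maxIn (Q := PLocal.abelian) PLocal.abelian_bot (T : Subgroup X)
    have hmax : PLocal.maxIn PLocal.abelian N = PLocal.maxIn PLocal.abelian (T : Subgroup X) :=
      Set.Subset.antisymm (PLocal.maxIn_subset hA₀ (hAN _ hA₀) inf_le_left)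
        fun A hA => PLocal.maxIn_of_mem_le hA (hAN A hA) inf_le_left
    have hJN : Cfsg.thompsonSubgroupAOf N = J := by
      rw [PLocal.thompsonSubgroupAOf_eq, hmax, hJeq]
    refine top_le_iff.1 ((PReduced.frattini_sylow_inf T (C ⊔ Y)).ge.trans (sup_le ?_ le_sup_left))
    exact ((PLocal.normalizer_le_normalizer_thompsonSubgroupAOf N).trans (hJN ▸ le_rfl)).trans le_sup_right
  -- the module
  set Z := (T : Subgroup X) ⊓ centralizer ((T : Subgroup X) : Set X) with hZ
  set R := Cfsg.pCore 2 X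
  have hsep := Solvable.isPiSeparable_of_isSolvable (G := X) ({2} : Set ℕ)
  have hO := pPrimeCore_two_eq_bot hF
  have hZR : Z ≤ R ⊓ centralizer (R : Set X) := by
    have h : Z ≤ centralizer (R : Set X) :=
      inf_le_right.trans (centralizer_le (SetLike.coe_subset_coe.2 (Cores.pCore_le_sylow T)))
    exact le_inf (h.trans (Solvable.centralizer_pCore_le hsep hO)) h
  have hCZ : C ≤ centralizer (Z : Set X) := hCdef ▸ normalCore_le _
  set W := R ⊓ centralizer (R : Set X) ⊓ centralizer (C : Set X)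
  have hZW : Z ≤ W := le_inf hZR (le_centralizer_iff.1 hCZ)
  haveI hWn : W.Normal := inferInstance
  have hWc : W ≤ centralizer (W : Set X) :=
    (inf_le_left.trans inf_le_right).trans (centralizer_le (inf_le_left.trans inf_le_left))
  have hW2 : IsPGroup 2 W := (Cores.isPGroup_pCore 2 X).to_le (inf_le_left.trans inf_le_left)
  set V := Cfsg.omegaOne 2 W with hV
  haveI hVn : V.Normal := PReduced.omegaOne_normal hWn 2
  have hVe : Cfsg.IsElementaryAbelian 2 V := PLocal.omegaOne_elemAb hWc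
  have hVS : ∀ S : Sylow 2 X, V ≤ (S : Subgroup X) := fun S =>
    ((PLocal.omegaOne_le _).trans (inf_le_left.trans inf_le_left)).trans (Cores.pCore_le_sylow S)
  have hquot : Cfsg.pCore 2 (X ⧸ C) = ⊥ := by
    set f := QuotientGroup.mk' C
    set D := (Cfsg.pCore 2 (X ⧸ C)).comap f
    have hDC : D ≤ C := by
      haveI : D.Normal := inferInstance
      rw [hCdef]
      refine normal_le_normalCore.2 fun d hd => ?_
      have h1 : Cfsg.pCore 2 (X ⧸ C) ≤ (T.mapSurjective (QuotientGroup.mk'_surjective C) : Subgroup (X ⧸ C)) :=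
        Cores.pCore_le_sylow _
      rw [Sylow.coe_mapSurjective] at h1
      obtain ⟨s, hs, hsd⟩ := h1 hd
      have hc : s⁻¹ * d ∈ C := (QuotientGroup.eq).1 hsd
      rw [show d = s * (s⁻¹ * d) by group]
      exact mul_mem (le_centralizer_iff.1 inf_le_right hs) (hCZ hc)
    rw [← map_comap_eq_self_of_surjective (QuotientGroup.mk'_surjective C) (Cfsg.pCore 2 (X ⧸ C)),
      Subgroup.map_eq_bot_iff, QuotientGroup.ker_mk']
    exact hDC
  have hCV : centralizer (V : Set X) = C := by
    refine le_antisymm ?_ ((le_centralizer_iff.1 inf_le_right).trans (centralizer_le (PLocal.omegaOne_le _)))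
    have hWC : centralizer (W : Set X) ≤ C := by
      rw [hCdef]
      exact normal_le_normalCore.2 (centralizer_le hZW)
    have hp : IsPGroup 2 ↥((centralizer (V : Set X)).map (QuotientGroup.mk' C)) := by
      rintro ⟨_, x, hx, rfl⟩
      refine ⟨(orderOf x).factorization 2, Subtype.ext ?_⟩
      show (QuotientGroup.mk' C x) ^ 2 ^ (orderOf x).factorization 2 = 1
      rw [← map_pow]
      refine (QuotientGroup.eq_one_iff _).2 (hWC (PLocal.mem_centralizer_of_omegaOne hW2 hWc ?_ ?_ ?_))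
      · rw [orderOf_pow_of_dvd (pow_ne_zero _ two_ne_zero) (Nat.ordProj_dvd _ _)]
        exact (Nat.coprime_ordCompl Nat.prime_two (orderOf_pos x).ne').symm
      · rw [normalizer_eq_top]; trivial
      · exact Subgroup.pow_mem _ hx _
    have h := Cores.le_pCore
      ((inferInstance : (centralizer (V : Set X)).Normal).map _ (QuotientGroup.mk'_surjective C)) hp
    rw [hquot, le_bot_iff, Subgroup.map_eq_bot_iff, QuotientGroup.ker_mk'] at h
    exact h
  have hcore : Cfsg.pCore 2 (X ⧸ centralizer (V : Set X)) = ⊥ := by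
    have h1 := Cores.pCore_map_mulEquiv (QuotientGroup.quotientMulEquivOfEq hCV) 2
    rw [hquot, Subgroup.map_eq_bot_iff_of_injective _ (MulEquiv.injective _)] at h1
    exact h1
  -- the model
  obtain ⟨M, _, _, U, ι, j, hM⟩ := FFPair.exists_model V
  have hFF := hM.isFF hVe hsep hcore (J := Y)
  set H := Y.map ι with hH
  have hker : ι.ker = C := hM.ker.trans hCV
  by_cases hH1 : H = ⊥
  · exact Or.inl (hCV ▸ hM.map_eq_bot.1 hH1)
  refine Or.inr ?_
  have hgen : H = ⨆ A : {A : Subgroup M // A ≤ H ∧ Cfsg.IsBestOffenderOn 2 U A}, (A : Subgroup M) := by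
    refine le_antisymm (map_le_iff_le_comap.2 ?_) (iSup_le fun A => A.2.1)
    refine hYdef ▸ (Subgroup.closure_le _).2 fun y hy => ?_
    obtain ⟨z, hz, hzy⟩ := Group.mem_conjugatesOfSet_iff.1 hy
    obtain ⟨g, hg⟩ := isConj_iff.1 hzy
    set c := (MulAut.conj g).toMonoidHom
    have hy' : y ∈ J.map c := ⟨z, hz, hg⟩
    rw [hJeq, PLocal.map_sSup_eq] at hy'
    refine (sSup_le ?_ : sSup _ ≤ comap ι _) hy'
    rintro _ ⟨A, hA, rfl⟩
    have hc : Function.Injective c := (MulAut.conj g).injective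
    set S : Sylow 2 X := g • T
    have hAS : A.map c ∈ PLocal.maxIn PLocal.abelian ((S : Subgroup X)) := by
      have : ((S : Subgroup X)) = (T : Subgroup X).map c := rfl
      rw [this, PLocal.map_maxIn c hc.injOn PLocal.abelian PLocal.abelian
        fun B hB => PLocal.abelian_map_iff hc.injOn hB]
      exact ⟨A, hA, rfl⟩
    have hAY : A.map c ≤ Y := by
      refine (map_mono ((hJeq ▸ le_sSup hA : A ≤ J).trans hJY)).trans ?_
      exact (Solvable.conj_normal g Y).le
    have hAc : IsMulCommutative ↥((A.map c).map ι) := by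
      refine le_centralizer_iff_isMulCommutative.1 ?_
      have h : A.map c ≤ centralizer ((A.map c : Subgroup X) : Set X) :=
        le_centralizer_iff_isMulCommutative.2 hAS.2.1
      rintro _ ⟨a, ha, rfl⟩
      refine mem_centralizer_iff.2 ?_
      rintro _ ⟨b, hb, rfl⟩
      rw [← map_mul, ← map_mul, mem_centralizer_iff.1 (h ha) b hb]
    have hbest : Cfsg.IsBestOffenderOn 2 U ((A.map c).map ι) :=
      hFF.best_of_abelian_two (map_mono hAY) hAc ((S.2.to_le hAS.1).map ι) fun B hB =>
        hM.map_value (fun B' hB' => FFPair.maxIn_abelian_value hAS (PLocal.elemAb_le_centralizer hVe)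
          (hVS S) hB') hB
    rw [← map_le_iff_le_comap]
    exact le_iSup_of_le ⟨(A.map c).map ι, map_mono hAY, hbest⟩ le_rfl
  have hf : H ⊓ centralizer (U : Set M) = ⊥ := hFF.faith
  have hself : centralizer (Cfsg.pPrimeCore 2 ↥H : Set ↥H) ≤ Cfsg.pPrimeCore 2 ↥H := by
    intro x hx
    have h := hFF.self ⟨x.2, mem_centralizer_iff.2 (by
      rintro _ ⟨k, hk, rfl⟩
      exact congrArg Subtype.val (mem_centralizer_iff.1 hx k hk))⟩
    obtain ⟨k, hk, hkx⟩ := h
    exact Subtype.ext hkx ▸ hk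
  obtain ⟨-, hE, hind, hsup, -, -⟩ := Cfsg.Agent.S0617.result U H hFF.elem hFF.norm hf hself hgen hH1
  obtain ⟨e2⟩ := Linear.nonempty_slTwo_two (F := ZMod 2) (Nat.card_zmod 2)
  obtain ⟨n, ⟨eH⟩⟩ : ∃ n : ℕ, Nonempty (↥H ≃* (Fin n → Equiv.Perm (Fin 3))) :=
    ⟨_, FFPair.nonempty_pi_equiv _ H (fun i => (hE i).1) hind hsup (fun i => ⟨(hE i).2.1.some.trans e2⟩)⟩
  have hn : 1 ≤ n := Nat.one_le_iff_ne_zero.2 fun h0 => hH1 <| by
    subst h0
    haveI : Subsingleton ↥H := eH.toEquiv.subsingleton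
    exact Subgroup.eq_bot_of_subsingleton H
  have hk : (ι.comp Y.subtype).ker = C.subgroupOf Y := by
    rw [← MonoidHom.comap_ker, hker]; rfl
  have hrange : (ι.comp Y.subtype).range = H := by
    rw [MonoidHom.range_comp, Subgroup.range_subtype]
  exact ⟨n, hn, inferInstance, ⟨((QuotientGroup.quotientMulEquivOfEq hk.symm).trans
    ((QuotientGroup.quotientKerEquivRange _).trans (MulEquiv.subgroupCongr hrange))).trans eH⟩⟩

/-- Let `X` be a finite solvable group whose Fitting subgroup is a 2-group (equivalently `F(X) = O₂(X)`), `T` a Sylow 2-subgroup of `X`, `J(T)` the subgroup generated by the abelian subgroups of `T` of largest order, `C` the largest normal subgroup of `X` centralizing the centre `Z(T)`, and `Y` the normal closure of `J(T)` in `X`. Then `X = C · Y · N_X(J(T))`, and either `Y ≤ C`, or `CY/C` is isomorphic to a direct product of at least one copy of the symmetric group of degree 3. -/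
theorem result {X : Type*} [Group X] [Finite X]
    [Group.IsSolvable X] (hF : Cfsg.fittingSubgroup X = Cfsg.pCore 2 X) (T : Sylow 2 X) :
    ((Subgroup.centralizer (((T : Subgroup X) ⊓ Subgroup.centralizer ((T : Subgroup X) : Set X) : Subgroup X) : Set X)).normalCore
        ⊔ Subgroup.normalClosure (Cfsg.thompsonSubgroupAOf (T : Subgroup X) : Set X)
        ⊔ Subgroup.normalizer (Cfsg.thompsonSubgroupAOf (T : Subgroup X) : Set X) = ⊤) ∧
    (Subgroup.normalClosure (Cfsg.thompsonSubgroupAOf (T : Subgroup X) : Set X)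
        ≤ (Subgroup.centralizer (((T : Subgroup X) ⊓ Subgroup.centralizer ((T : Subgroup X) : Set X) : Subgroup X) : Set X)).normalCore
      ∨ ∃ n : ℕ, 1 ≤ n ∧
        Nonempty (↥(Subgroup.normalClosure (Cfsg.thompsonSubgroupAOf (T : Subgroup X) : Set X)) ⧸
            ((Subgroup.centralizer (((T : Subgroup X) ⊓ Subgroup.centralizer ((T : Subgroup X) : Set X) : Subgroup X) : Set X)).normalCore).subgroupOf
              (Subgroup.normalClosure (Cfsg.thompsonSubgroupAOf (T : Subgroup X) : Set X))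
          ≃* (Fin n → Equiv.Perm (Fin 3)))) := by
  obtain ⟨h1, h2⟩ := structure_main hF T _ rfl _ rfl
  exact ⟨h1, h2.imp_right fun ⟨n, hn, _, he⟩ => ⟨n, hn, he⟩⟩

end Cfsg.Agent.S4302
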