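import Cfsg.Statements.S4303
import Cfsg.Agent.EqLemmas
import Cfsg.Agent.Lib.SylowCount.Basic
import Cfsg.Agent.Lib.Coprime.Invariant

set_option autoImplicit false
universe u
open Cfsg

namespace Cfsg.Agent.S4303

/-- The `q`-parts of `[K : N_K(P)]`, `K` a normal `p'`-subgroup, are `1` modulo `p`. -/
theorem coprime_part {H : Type*} [Group H] [Finite H] {p : ℕ} [Fact p.Prime] (P : Sylow p H) (K : Subgroup H)
    [hKn : K.Normal] (hK : ¬ p ∣ Nat.card K) (q : ℕ) [Fact q.Prime] :
    q ^ ((Subgroup.normalizer ((P : Subgroup H) : Set H)).relIndex K).factorization q ≡ 1 [MOD p] := by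
  have hp : p.Prime := Fact.out
  have hq : q.Prime := Fact.out
  set N := Subgroup.normalizer ((P : Subgroup H) : Set H) with hN
  set C := K ⊓ N with hC
  have hAK : (P : Subgroup H) ≤ Subgroup.normalizer (K : Set H) := by
    rw [Subgroup.normalizer_eq_top]; exact le_top
  obtain ⟨a, ha⟩ := IsPGroup.iff_card.mp P.isPGroup'
  have hcop : (Nat.card (P : Subgroup H)).Coprime (Nat.card K) := by
    rw [ha]; exact (hp.coprime_iff_not_dvd.mpr hK).pow_left a
  have hsolv : Group.IsSolvable (P : Subgroup H) ∨ Group.IsSolvable K := by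
    have := P.isPGroup'.isNilpotent
    exact Or.inl inferInstance
  obtain ⟨Y⟩ := (inferInstance : Nonempty (Sylow q C))
  set Y' := (Y : Subgroup C).map C.subtype with hY'
  have hY'C : Y' ≤ C := Subgroup.map_subtype_le _
  have hcent : Y' ≤ Subgroup.centralizer ((P : Subgroup H) : Set H) := fun y hy =>
    Coprime.mem_centralizer_of_normalizer hAK hcop (hY'C hy).1 (hY'C hy).2
  have hPY : (P : Subgroup H) ≤ Subgroup.normalizer (Y' : Set H) := fun x hx =>
    Subgroup.mem_normalizer_iff.mpr fun y => by
      constructor <;> intro hy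
      · have h : x * y = y * x := hcent hy x hx
        rwa [h, mul_inv_cancel_right]
      · have h : x * (x * y * x⁻¹) = x * y * x⁻¹ * x := hcent hy x hx
        have h' : x * y * x⁻¹ = y := by
          rw [inv_mul_cancel_right] at h
          exact mul_left_cancel h
        rwa [h'] at hy
  obtain ⟨X, hYX, hPX⟩ := Coprime.exists_invariant_sylow_ge hAK hcop hsolv (hY'C.trans inf_le_left)
    (Y.isPGroup'.map C.subtype) hPY
  set X' := (X : Subgroup K).map K.subtype with hX'
  have hX'K : X' ≤ K := Subgroup.map_subtype_le _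
  have hcY : Nat.card Y' = q ^ (Nat.card C).factorization q := by
    rw [hY', Subgroup.card_map_of_injective C.subtype_injective, Y.card_eq_multiplicity]
  have hcX : Nat.card X' = q ^ (Nat.card K).factorization q := by
    rw [hX', Subgroup.card_map_of_injective K.subtype_injective, X.card_eq_multiplicity]
  have hXN : X' ⊓ N = Y' := by
    symm
    refine Subgroup.eq_of_le_of_card_ge (le_inf hYX (hY'C.trans inf_le_right)) ?_
    obtain ⟨b, hb⟩ := IsPGroup.iff_card.mp
      ((X.isPGroup'.map K.subtype).to_le (inf_le_left : X' ⊓ N ≤ X'))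
    have hd : q ^ b ∣ Nat.card C := hb ▸ Subgroup.card_dvd_of_le (le_inf (inf_le_left.trans hX'K) inf_le_right)
    rw [hcY, hb]
    exact Nat.pow_le_pow_right hq.pos ((hq.pow_dvd_iff_le_factorization Nat.card_pos.ne').mp hd)
  have hrel : N.relIndex X' = q ^ (N.relIndex K).factorization q := by
    have h1 : Nat.card C * N.relIndex K = Nat.card K := by
      have h := Subgroup.card_mul_index (N.subgroupOf K)
      rwa [← Subgroup.relIndex, ← Subgroup.inf_subgroupOf_left, Nat.card_congr
        (Subgroup.subgroupOfEquivOfLe (inf_le_left : K ⊓ N ≤ K)).toEquiv] at h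
    have hne : N.relIndex K ≠ 0 := fun h => by
      rw [h, mul_zero] at h1; exact Nat.card_pos.ne' h1.symm
    have h2 : Nat.card (X' ⊓ N : Subgroup H) * N.relIndex X' = Nat.card X' := by
      have h := Subgroup.card_mul_index (N.subgroupOf X')
      rwa [← Subgroup.relIndex, ← Subgroup.inf_subgroupOf_left, Nat.card_congr
        (Subgroup.subgroupOfEquivOfLe (inf_le_left : X' ⊓ N ≤ X')).toEquiv] at h
    rw [hXN, hcY, hcX, ← h1, Nat.factorization_mul Nat.card_pos.ne' hne, Finsupp.add_apply, pow_add] at h2
    exact Nat.eq_of_mul_eq_mul_left (pow_pos hq.pos _) h2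
  set W := (P : Subgroup H) ⊔ X' with hW
  have : (X'.subgroupOf W).Normal :=
    Subgroup.normal_subgroupOf_of_le_normalizer (sup_le hPX Subgroup.le_normalizer)
  let PW : Sylow p W := P.subtype le_sup_left
  have h3 := card_sylow_modEq_one p ↥((PW : Subgroup W) ⊔ X'.subgroupOf W)
  rw [SylowCount.card_sylow_sup_eq] at h3
  have h4 : Subgroup.normalizer ((PW : Subgroup W) : Set W) = N.subgroupOf W :=
    (Subgroup.subgroupOf_normalizer_eq (le_sup_left : (P : Subgroup H) ≤ W)).symm
  rw [h4, Subgroup.relIndex_subgroupOf le_sup_right, hrel] at h3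
  exact h3

theorem coprime_list {H : Type*} [Group H] [Finite H] {p : ℕ} [Fact p.Prime] (P : Sylow p H) (K : Subgroup H)
    [K.Normal] (hK : ¬ p ∣ Nat.card K) :
    ∃ l : List ℕ, l.prod = (Subgroup.normalizer ((P : Subgroup H) : Set H)).relIndex K ∧
      ∀ m ∈ l, IsPrimePow m ∧ m % p = 1 := by
  set n := (Subgroup.normalizer ((P : Subgroup H) : Set H)).relIndex K with hn
  have hn0 : n ≠ 0 := Subgroup.index_ne_zero_of_finite
  refine ⟨n.primeFactors.toList.map (fun q => q ^ n.factorization q), ?_, fun m hm => ?_⟩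
  · rw [Finset.prod_map_toList]
    have := Nat.prod_factorization_pow_eq_self hn0
    rw [Finsupp.prod, Nat.support_factorization] at this
    exact this
  · obtain ⟨q, hq, rfl⟩ := List.mem_map.mp hm
    rw [Finset.mem_toList, Nat.mem_primeFactors] at hq
    have := Fact.mk hq.1
    refine ⟨hq.1.isPrimePow.pow (hq.1.factorization_pos_of_dvd hn0 hq.2.1).ne', ?_⟩
    have h := coprime_part P K hK q
    rw [← hn] at h
    rw [h, Nat.one_mod_eq_one.mpr (Fact.out : p.Prime).ne_one]

theorem card_inf_sylow {G : Type*} [Group G] [Finite G] {p : ℕ} [Fact p.Prime] (N : Subgroup G) [N.Normal]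
    (P : Sylow p G) : Nat.card ((P : Subgroup G).subgroupOf N) = p ^ (Nat.card N).factorization p := by
  have hp : IsPGroup p ((P : Subgroup G).subgroupOf N) :=
    P.isPGroup'.comap_of_injective N.subtype N.subtype_injective
  have hd : ¬ p ∣ ((P : Subgroup G).subgroupOf N).index := by
    intro h
    apply P.not_dvd_index
    refine h.trans ?_
    show (P : Subgroup G).relIndex N ∣ _
    rw [← SylowCount.relIndex_eq_of_sup N (P : Subgroup G),
      ← Subgroup.relIndex_mul_index (le_sup_left : (P : Subgroup G) ≤ (P : Subgroup G) ⊔ N)]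
    exact dvd_mul_right _ _
  rw [← (hp.toSylow hd).card_eq_multiplicity]
  rfl

theorem factor {G : Type*} [Group G] [Finite G] {p : ℕ} [Fact p.Prime] (N : Subgroup G) [hNn : N.Normal]
    (P : Sylow p G) : ∃ l : List ℕ,
      Nat.card (Sylow p G) = Nat.card (Sylow p (G ⧸ N)) * Nat.card (Sylow p N) * l.prod ∧
      ∀ m ∈ l, IsPrimePow m ∧ m % p = 1 := by
  set Q := (P : Subgroup G) ⊓ N with hQ
  set M := Subgroup.normalizer (Q : Set G) with hM
  set NP := Subgroup.normalizer ((P : Subgroup G) : Set G) with hNP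
  have hle : NP ≤ M := by
    intro g hg
    refine Subgroup.mem_normalizer_iff.mpr fun x => ?_
    have h1 := Subgroup.mem_normalizer_iff.mp hg x
    have h2 : x ∈ N ↔ g * x * g⁻¹ ∈ N := ⟨fun h => hNn.conj_mem x h g, fun h => by
      have := hNn.conj_mem _ h g⁻¹; simpa [mul_assoc] using this⟩
    exact and_congr h1 h2
  have hsN : (Q.subgroupOf N) = (P : Subgroup G).subgroupOf N := Subgroup.inf_subgroupOf_right _ _
  have e1 : Nat.card (Sylow p N) = M.relIndex N := by
    have hcard : Nat.card (Q.subgroupOf N) = p ^ (Nat.card N).factorization p := by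
      rw [hsN]
      exact card_inf_sylow N P
    rw [Sylow.card_eq_index_normalizer (Sylow.ofCard (Q.subgroupOf N) hcard)]
    show (Subgroup.normalizer ((Q.subgroupOf N : Subgroup N) : Set N)).index = _
    rw [← Subgroup.subgroupOf_normalizer_eq (inf_le_right : Q ≤ N)]
    rfl
  have e2 : NP.relIndex N = NP.relIndex (N ⊓ M) * M.relIndex N := by
    rw [← Subgroup.inf_relIndex_right NP N, ← Subgroup.inf_relIndex_right NP (N ⊓ M),
      ← Subgroup.inf_relIndex_right M N,
      show NP ⊓ (N ⊓ M) = NP ⊓ N from le_antisymm (inf_le_inf_left _ inf_le_left)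
        (le_inf inf_le_left (le_inf inf_le_right (inf_le_left.trans hle))),
      inf_comm M N]
    exact (Subgroup.relIndex_mul_relIndex _ _ _ (le_inf inf_le_right (inf_le_left.trans hle)) inf_le_left).symm
  have hPM : (P : Subgroup G) ≤ M := Subgroup.le_normalizer.trans hle
  let PM : Sylow p M := P.subtype hPM
  have : (Q.subgroupOf M).Normal := Subgroup.normal_in_normalizer
  let π := QuotientGroup.mk' (Q.subgroupOf M)
  have hπ : Function.Surjective π := QuotientGroup.mk'_surjective _
  set K' := (N.subgroupOf M).map π with hK'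
  have hK'n : K'.Normal := (inferInstance : (N.subgroupOf M).Normal).map π hπ
  have hK'p : ¬ p ∣ Nat.card K' := by
    have h1 : Nat.card K' * Nat.card (Q : Subgroup G) = Nat.card (N ⊓ M : Subgroup G) := by
      have hcomap : K'.comap π = N.subgroupOf M := by
        rw [hK', Subgroup.comap_map_eq, QuotientGroup.ker_mk', sup_eq_left]
        exact fun x hx => hx.2
      have h := Subgroup.card_mul_index (K'.comap π)
      rw [Subgroup.index_comap_of_surjective _ hπ, hcomap] at h
      have h' := Subgroup.card_mul_index K'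
      rw [← Subgroup.inf_subgroupOf_right, Nat.card_congr
        (Subgroup.subgroupOfEquivOfLe (inf_le_right : N ⊓ M ≤ M)).toEquiv] at h
      have hq := Subgroup.card_mul_index (Q.subgroupOf M)
      rw [Subgroup.index_eq_card, Nat.card_congr (Subgroup.subgroupOfEquivOfLe
        ((inf_le_left : Q ≤ (P : Subgroup G)).trans hPM)).toEquiv, ← h'] at hq
      refine Nat.eq_of_mul_eq_mul_right (Nat.pos_of_ne_zero (Subgroup.index_ne_zero_of_finite (H := K'))) ?_
      rw [h, ← hq]
      ring
    intro hd
    have hTc : Nat.card (Q : Subgroup G) = p ^ (Nat.card N).factorization p := by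
      rw [← card_inf_sylow N P, ← hsN]
      exact (Nat.card_congr (Subgroup.subgroupOfEquivOfLe (inf_le_right : Q ≤ N)).toEquiv).symm
    obtain ⟨c, hc⟩ := hd
    have h2 : p ^ ((Nat.card N).factorization p + 1) ∣ Nat.card N :=
      (Dvd.intro c (by rw [← h1, hc, hTc, pow_succ]; ring)).trans (Subgroup.card_dvd_of_le inf_le_left)
    exact Nat.pow_succ_factorization_not_dvd Nat.card_pos.ne' Fact.out h2
  obtain ⟨l, hl, hlp⟩ := coprime_list (PM.mapSurjective hπ) K' hK'p
  refine ⟨l, ?_, hlp⟩
  have e3 : NP.relIndex (N ⊓ M) = l.prod := by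
    rw [hl, hK', ← Subgroup.relIndex_comap, Subgroup.comap_normalizer_eq_of_surjective _ hπ,
      Sylow.coe_mapSurjective, Subgroup.comap_map_eq, QuotientGroup.ker_mk',
      sup_eq_left.mpr (show Q.subgroupOf M ≤ (PM : Subgroup M) from fun x hx => hx.1)]
    show _ = (Subgroup.normalizer (((P : Subgroup G).subgroupOf M : Subgroup M) : Set M)).relIndex _
    rw [← Subgroup.subgroupOf_normalizer_eq hPM, ← Subgroup.inf_subgroupOf_right N,
      Subgroup.relIndex_subgroupOf inf_le_right]
  rw [SylowCount.card_sylow_eq_quotient_mul N P, SylowCount.card_sylow_sup_eq, ← hNP, e2, ← e1, e3]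
  ring

theorem main (n : ℕ) (p : ℕ) [Fact p.Prime] : ∀ (G : Type u) [Group G] [Finite G], Nat.card G = n →
    ∃ l : List ℕ, l.prod = Nat.card (Sylow p G) ∧
      ∀ m ∈ l, (IsPrimePow m ∧ m % p = 1) ∨
        ∃ (S : Type u) (_ : Group S) (_ : Finite S), IsSimpleGroup S ∧ m = Nat.card (Sylow p S) := by
  induction n using Nat.strong_induction_on with
  | _ n ih =>
    intro G _ _ hn
    by_cases hs : IsSimpleGroup G
    · exact ⟨[Nat.card (Sylow p G)], by simp, fun m hm => Or.inr ⟨G, _, inferInstance, hs, List.mem_singleton.mp hm⟩⟩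
    by_cases ht : Nontrivial G
    · obtain ⟨N, hN, hN0, hN1⟩ : ∃ N : Subgroup G, N.Normal ∧ N ≠ ⊥ ∧ N ≠ ⊤ := by
        by_contra hc
        exact hs ⟨fun H hH => or_iff_not_imp_left.mpr fun h0 => by_contra fun h1 => hc ⟨H, hH, h0, h1⟩⟩
      have h1 : Nat.card N * N.index = n := hn ▸ N.card_mul_index
      have hgt : 1 < Nat.card N := (Subgroup.one_lt_card_iff_ne_bot N).mpr hN0
      have hgt' : 1 < N.index := by
        have := Subgroup.index_ne_zero_of_finite (H := N)
        have h2 : N.index ≠ 1 := fun h => hN1 (Subgroup.index_eq_one.mp h)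
        omega
      obtain ⟨l1, e1, h1'⟩ := ih (Nat.card N) (by rw [← h1]; exact lt_mul_of_one_lt_right Nat.card_pos hgt') N rfl
      obtain ⟨l2, e2, h2'⟩ := ih (Nat.card (G ⧸ N))
        (by rw [← Subgroup.index_eq_card, ← h1]; exact lt_mul_of_one_lt_left (by omega) hgt) (G ⧸ N) rfl
      obtain ⟨P⟩ := (inferInstance : Nonempty (Sylow p G))
      obtain ⟨l, e, h'⟩ := factor N P
      refine ⟨l2 ++ l1 ++ l, by rw [List.prod_append, List.prod_append, e1, e2, e], fun m hm => ?_⟩
      rw [List.mem_append, List.mem_append] at hm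
      rcases hm with (hm | hm) | hm
      · exact h2' m hm
      · exact h1' m hm
      · exact Or.inl (h' m hm)
    · rw [not_nontrivial_iff_subsingleton] at ht
      refine ⟨[], ?_, by simp⟩
      obtain ⟨P⟩ := (inferInstance : Nonempty (Sylow p G))
      have : Subsingleton (Sylow p G) := ⟨fun a b => Sylow.ext (Subsingleton.elim _ _)⟩
      rw [List.prod_nil, Nat.card_unique]

/-- For a finite group `G` and a prime `p`, the number of Sylow `p`-subgroups of `G` is a product of natural numbers each of which is either a prime power congruent to 1 modulo `p` or the number of Sylow `p`-subgroups of some finite simple group. -/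
theorem result {G : Type u} [Group G] [Finite G]
    (p : ℕ) [Fact p.Prime] :
    ∃ l : List ℕ, l.prod = Nat.card (Sylow p G) ∧
      ∀ m ∈ l, (IsPrimePow m ∧ m % p = 1) ∨
        ∃ (S : Type u) (_ : Group S) (_ : Finite S), IsSimpleGroup S ∧ m = Nat.card (Sylow p S) := by
  exact main (Nat.card G) p G rfl

end Cfsg.Agent.S4303
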