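import Cfsg.Statements.S4304
import Cfsg.Agent.EqLemmas
import Cfsg.Agent.Lib.Cores.Basic
import Cfsg.Agent.Lib.Solvable.Basic
import Cfsg.Agent.Lib.SylowCount.Basic
import Cfsg.Agent.Lib.SmallOrders.Check
import Cfsg.Agent.Lib.Coprime.Invariant

set_option autoImplicit false
open Cfsg

namespace Cfsg.Agent.S4304

open Cfsg.Agent
open scoped Pointwise

variable {G : Type*} [Group G] [Finite G]

/-- the shorthand for the normalizer of a Sylow subgroup -/
abbrev NN {p : ℕ} (P : Sylow p G) : Subgroup G := Subgroup.normalizer ((P : Subgroup G) : Set G)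

lemma smul_eq_of_mem {p : ℕ} {P : Sylow p G} {g : G} (h : g ∈ NN P) : g • P = P :=
  Sylow.smul_eq_iff_mem_normalizer.mpr h

lemma card_ne (hn : Nat.card (Sylow 7 G) = 15) (P : Sylow 7 G) :
    Nat.card {R : Sylow 7 G // R ≠ P} = 14 := by
  show ({P}ᶜ : Set (Sylow 7 G)).ncard = 14
  rw [Set.ncard_compl, Set.ncard_singleton, hn]

lemma orbit_card [Fact (Nat.Prime 7)] (hn : Nat.card (Sylow 7 G) = 15) (P Q : Sylow 7 G) (hPQ : Q ≠ P) :
    (Q : Subgroup G).relIndex P = 7 := by
  have h1 : (Q : Subgroup G).relIndex P = Nat.card (MulAction.orbit (P : Subgroup G) Q) := by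
    show ((Q : Subgroup G).subgroupOf P).index = _
    rw [← SmallOrders.stabilizer_sylow, MulAction.index_stabilizer, Nat.card_coe_set_eq]
  obtain ⟨j, hj⟩ := P.isPGroup'.index ((Q : Subgroup G).subgroupOf P)
  have hj' : (Q : Subgroup G).relIndex P = 7 ^ j := hj
  have hsub : MulAction.orbit (P : Subgroup G) Q ⊆ {P}ᶜ := by
    rintro R ⟨g, rfl⟩ (hR : (g : G) • Q = P)
    apply hPQ
    calc Q = (g : G)⁻¹ • ((g : G) • Q) := (inv_smul_smul _ _).symm
      _ = (g : G)⁻¹ • P := by rw [hR]
      _ = P := smul_eq_of_mem (Subgroup.le_normalizer ((P : Subgroup G).inv_mem g.2))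
  have hle : Nat.card (MulAction.orbit (P : Subgroup G) Q) ≤ 14 := by
    rw [Nat.card_coe_set_eq]
    refine (Set.ncard_le_ncard hsub (Set.toFinite _)).trans ?_
    rw [Set.ncard_compl, Set.ncard_singleton, hn]
  rw [← h1, hj'] at hle
  have hne : j ≠ 0 := by
    rintro rfl
    simp at hj'
    exact hPQ (Sylow.ext (P.is_maximal' Q.isPGroup' hj'))
  have : j < 2 := by
    by_contra hc
    have := Nat.pow_le_pow_right (show 1 ≤ 7 by norm_num) (Nat.le_of_not_lt hc)
    omega
  rw [hj', show j = 1 by omega, pow_one]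

lemma no_intersection [Fact (Nat.Prime 7)] [IsSimpleGroup G] (hn : Nat.card (Sylow 7 G) = 15)
    (P Q : Sylow 7 G) (hPQ : Q ≠ P) : (P : Subgroup G) ⊓ Q = ⊥ := by
  by_contra hD0
  set D := (P : Subgroup G) ⊓ Q with hD
  have hDp : IsPGroup 7 D := P.isPGroup'.to_le inf_le_left
  have hidx : ∀ R S : Sylow 7 G, R ≠ S →
      Nat.card ↥((S : Subgroup G) ⊓ R) * 7 = Nat.card (S : Subgroup G) := by
    intro R S hRS
    have h := Subgroup.card_mul_index (((R : Subgroup G)).subgroupOf (S : Subgroup G))
    rw [show ((R : Subgroup G).subgroupOf (S : Subgroup G)).index = 7 from orbit_card hn S R hRS] at h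
    rw [← Subgroup.inf_subgroupOf_left, Cores.card_subgroupOf inf_le_left] at h
    exact h
  have hsame : ∀ R S : Sylow 7 G, Nat.card (R : Subgroup G) = Nat.card (S : Subgroup G) := fun R S => by
    rw [Sylow.card_eq_multiplicity, Sylow.card_eq_multiplicity]
  have hnorm : ∀ R : Sylow 7 G, D ≤ (R : Subgroup G) → (R : Subgroup G) ≤ Subgroup.normalizer (D : Set G) := by
    intro R hR
    rcases hR.lt_or_eq with hlt | heq
    · have h1 := SmallOrders.lt_normalizer_inf R.isPGroup' hlt
      have hDR : D.relIndex (R : Subgroup G) = 7 := by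
        have h2 := Subgroup.card_mul_index (D.subgroupOf (R : Subgroup G))
        rw [Cores.card_subgroupOf hR, hsame R P, ← hidx Q P hPQ] at h2
        exact Nat.eq_of_mul_eq_mul_left Nat.card_pos h2
      set M := Subgroup.normalizer (D : Set G) ⊓ (R : Subgroup G)
      have h3 := Subgroup.relIndex_mul_relIndex D M (R : Subgroup G) h1.le inf_le_right
      rw [hDR] at h3
      rcases (Nat.prime_seven.eq_one_or_self_of_dvd _ (Dvd.intro _ h3)) with h4 | h4
      · exact absurd (Subgroup.relIndex_eq_one.mp h4) (not_le_of_gt h1)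
      · rw [h4] at h3
        have h5 : M.relIndex (R : Subgroup G) = 1 :=
          Nat.eq_of_mul_eq_mul_left (by norm_num : 0 < 7) (h3.trans (mul_one 7).symm)
        exact (Subgroup.relIndex_eq_one.mp h5).trans inf_le_left
    · rw [← heq]; exact Subgroup.le_normalizer
  set H := Subgroup.normalizer (D : Set G) with hH
  have hPH : (P : Subgroup G) ≤ H := hnorm P inf_le_left
  have hiff : ∀ R : Sylow 7 G, (R : Subgroup G) ≤ H ↔ D ≤ R := by
    intro R
    refine ⟨fun hR => ?_, hnorm R⟩
    have hDH : D ≤ H := Subgroup.le_normalizer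
    have : (D.subgroupOf H).Normal := Subgroup.normal_in_normalizer
    have h1 : D.subgroupOf H ≤ (R.subtype hR : Subgroup H) :=
      (Cores.le_pCore this (hDp.of_equiv (Subgroup.subgroupOfEquivOfLe hDH).symm)).trans
        (Cores.pCore_le_sylow _)
    intro x hx
    exact h1 (show (⟨x, hDH hx⟩ : H) ∈ D.subgroupOf H from hx)
  have hbij : Nat.card {R : Sylow 7 G // (R : Subgroup G) ≤ H} = Nat.card (Sylow 7 H) := by
    refine Nat.card_eq_of_bijective (fun R => R.1.subtype R.2)
      ⟨fun R S h => Subtype.ext (Sylow.subtype_injective h), fun S => ?_⟩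
    obtain ⟨h, rfl⟩ := MulAction.exists_smul_eq H (P.subtype hPH) S
    have hh : ((h • P : Sylow 7 G) : Subgroup G) ≤ H := by
      intro x hx
      rw [Subgroup.smul_def, Sylow.coe_subgroup_smul, Subgroup.mem_pointwise_smul_iff_inv_smul_mem, ← map_inv, MulAut.smul_def,
        MulAut.conj_apply, inv_inv] at hx
      have := H.mul_mem (H.mul_mem h.2 (hPH hx)) (H.inv_mem h.2)
      simpa [mul_assoc] using this
    exact ⟨⟨h • P, hh⟩, (Sylow.smul_subtype hPH h).symm⟩
  set k := Nat.card (Sylow 7 H) with hk
  have hk1 : k ≡ 1 [MOD 7] := card_sylow_modEq_one 7 H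
  have hk2 : 2 ≤ k := by
    rw [← hbij]
    exact Finite.one_lt_card_iff_nontrivial.mpr
      ⟨⟨⟨P, hPH⟩, ⟨Q, hnorm Q inf_le_right⟩, fun e => hPQ (congrArg Subtype.val e).symm⟩⟩
  have hk15 : k ≤ 15 := by
    rw [← hbij, ← hn]
    exact Nat.card_le_card_of_injective _ Subtype.val_injective
  have hkne : k ≠ 15 := by
    intro h15
    apply hD0
    have hall : ∀ R : Sylow 7 G, D ≤ R := by
      intro R
      have hsurj : Function.Bijective
          (Subtype.val : {R : Sylow 7 G // (R : Subgroup G) ≤ H} → Sylow 7 G) :=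
        (Nat.bijective_iff_injective_and_card _).mpr ⟨Subtype.val_injective, by rw [hbij, h15, hn]⟩
      obtain ⟨⟨R', hR'⟩, rfl⟩ := hsurj.2 R
      exact (hiff R').mp hR'
    have hne : (P : Subgroup G) ≠ ⊤ := by
      intro h
      have : Subsingleton (Sylow 7 G) := ⟨fun R S => Sylow.ext (by
        have hT : ∀ R : Sylow 7 G, (R : Subgroup G) = ⊤ := fun R =>
          Subgroup.eq_top_of_card_eq _ (by rw [hsame R P, h, Subgroup.card_top])
        rw [hT R, hT S])⟩
      have := Finite.card_le_one_iff_subsingleton.mpr this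
      omega
    rw [eq_bot_iff, ← SmallOrders.normalCore_eq_bot (G := G) hne]
    intro x hx g
    have := hall (g⁻¹ • P) hx
    rw [Sylow.coe_subgroup_smul, Subgroup.mem_pointwise_smul_iff_inv_smul_mem] at this
    simpa [MulAut.smul_def] using this
  have hk8 : k = 8 := by
    unfold Nat.ModEq at hk1
    interval_cases k <;> first | omega | simp_all
  set N := NN P with hN
  have hcardT : Nat.card {R : Sylow 7 G // R ≠ P ∧ D ≤ (R : Subgroup G)} = 7 := by
    have e : ∀ R : Sylow 7 G, D ≤ (R : Subgroup G) ↔ (R : Subgroup G) ≤ H := fun R => (hiff R).symm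
    simp only [e]
    have h8 : ({R : Sylow 7 G | (R : Subgroup G) ≤ H}).ncard = 8 := hbij.trans hk8
    have h9 : {R : Sylow 7 G | R ≠ P ∧ (R : Subgroup G) ≤ H} =
        {R : Sylow 7 G | (R : Subgroup G) ≤ H} \ {P} := by
      ext R; simp [and_comm]
    show ({R : Sylow 7 G | R ≠ P ∧ (R : Subgroup G) ≤ H}).ncard = 7
    rw [h9, Set.ncard_sdiff_singleton_of_mem (show P ∈ {R : Sylow 7 G | (R : Subgroup G) ≤ H} from hPH), h8]
  have hinter : ∀ R : Sylow 7 G, R ≠ P → D ≤ (R : Subgroup G) → (P : Subgroup G) ⊓ R = D := by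
    intro R hR hDR
    refine (Subgroup.eq_of_le_of_card_ge (le_inf inf_le_left hDR) ?_).symm
    have h1 := hidx R P hR
    have h2 := hidx Q P hPQ
    rw [← hD] at h2
    exact le_of_eq (Nat.eq_of_mul_eq_mul_right (by norm_num : 0 < 7) (h1.trans h2.symm))
  set t := H.relIndex N with ht
  have ht2 : t * 7 ≤ 14 := by
    have hcard : Nat.card {R : Sylow 7 G // R ≠ P} = 14 := by
      exact card_ne hn P
    have e : t * 7 = Nat.card ((N ⧸ H.subgroupOf N) × {R : Sylow 7 G // R ≠ P ∧ D ≤ (R : Subgroup G)}) := by
      rw [Nat.card_prod, hcardT]; rfl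
    rw [e, ← hcard]
    have hmov : ∀ (g : N) (R : Sylow 7 G), R ≠ P → (g : G) • R ≠ P := fun g R hR h => hR (by
      rw [← inv_smul_smul (g : G) R, h, smul_eq_of_mem (N.inv_mem g.2)])
    refine Nat.card_le_card_of_injective (fun x => ⟨(x.1.out : G) • x.2.1, hmov _ _ x.2.2.1⟩) ?_
    rintro ⟨a, R, hR, hDR⟩ ⟨b, S, hS, hDS⟩ hab
    have hab' : (a.out : G) • R = (b.out : G) • S := congrArg Subtype.val hab
    set g := (b.out : G)⁻¹ * (a.out : G) with hg
    have hgR : g • R = S := by rw [hg, mul_smul, hab', inv_smul_smul]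
    have hgN : g ∈ N := N.mul_mem (N.inv_mem b.out.2) a.out.2
    have hgH : g ∈ H := by
      apply Coprime.mem_normalizer_of_conj_eq
      have hgP : MulAut.conj g • (P : Subgroup G) = P := congrArg Sylow.toSubgroup (smul_eq_of_mem hgN)
      have hgR' : MulAut.conj g • (R : Subgroup G) = S := congrArg Sylow.toSubgroup hgR
      calc MulAut.conj g • D = MulAut.conj g • ((P : Subgroup G) ⊓ R) := by rw [hinter R hR hDR]
        _ = MulAut.conj g • (P : Subgroup G) ⊓ MulAut.conj g • (R : Subgroup G) := Subgroup.smul_inf _ _ _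
        _ = D := by rw [hgP, hgR', hinter S hS hDS]
    have heq : a = b := by
      have : (QuotientGroup.mk b.out : N ⧸ H.subgroupOf N) = QuotientGroup.mk a.out :=
        QuotientGroup.eq.mpr hgH
      rw [QuotientGroup.out_eq', QuotientGroup.out_eq'] at this
      exact this.symm
    subst heq
    have : R = S := by simpa using hab'
    subst this
    rfl
  have hkey : t * 15 = k * H.index := by
    rw [hk, SylowCount.card_sylow_eq_relIndex P H hPH, ← hn, P.card_eq_index_normalizer]
    have h1 : (H ⊓ N).relIndex N * N.index = (H ⊓ N).index := Subgroup.relIndex_mul_index inf_le_right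
    have h2 : (H ⊓ N).relIndex H * H.index = (H ⊓ N).index := Subgroup.relIndex_mul_index inf_le_left
    rw [Subgroup.inf_relIndex_right] at h1
    rw [Subgroup.inf_relIndex_left] at h2
    exact h1.trans h2.symm
  rw [hk8] at hkey
  have ht0 : t ≠ 0 := Subgroup.index_ne_zero_of_finite
  omega

lemma sign_eq_one [IsSimpleGroup G] (hG : ¬ IsMulCommutative G) {α : Type*} [Fintype α] [DecidableEq α]
    (φ : G →* Equiv.Perm α) (c : G) : Equiv.Perm.sign (φ c) = 1 := by
  rcases (Equiv.Perm.sign.comp φ).normal_ker.eq_bot_or_eq_top with h | h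
  · exfalso
    apply hG
    have hinj := (MonoidHom.ker_eq_bot_iff _).mp h
    exact ⟨⟨fun a b => hinj (by rw [map_mul, map_mul, mul_comm])⟩⟩
  · exact MonoidHom.mem_ker.mp (show c ∈ (Equiv.Perm.sign.comp φ).ker from h ▸ Subgroup.mem_top c)

lemma simple_case [Fact (Nat.Prime 7)] [IsSimpleGroup G] (hG : ¬ IsMulCommutative G) :
    Nat.card (Sylow 7 G) ≠ 15 := by
  intro hn
  classical
  have : Fintype (Sylow 7 G) := Fintype.ofFinite _
  obtain ⟨P⟩ : Nonempty (Sylow 7 G) := inferInstance
  obtain ⟨Q, hQ⟩ : ∃ Q : Sylow 7 G, Q ≠ P := by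
    have : Nontrivial (Sylow 7 G) := Finite.one_lt_card_iff_nontrivial.mp (by omega)
    exact exists_ne P
  have hP7 : Nat.card (P : Subgroup G) = 7 := by
    have h := Subgroup.card_mul_index ((Q : Subgroup G).subgroupOf (P : Subgroup G))
    rw [show ((Q : Subgroup G).subgroupOf (P : Subgroup G)).index = 7 from orbit_card hn P Q hQ,
      ← Subgroup.inf_subgroupOf_left, no_intersection hn P Q hQ] at h
    simpa using h.symm
  set N := NN P with hN
  set C := Subgroup.centralizer ((P : Subgroup G) : Set G) with hC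
  have hCN : C ≤ N := Subgroup.centralizer_le_normalizer _
  have hfree : ∀ c ∈ C, ∀ x : Sylow 7 G, x ≠ P → c • x = x → c = 1 := by
    intro c hc x hx hcx
    have hcomm : ∀ (z : (P : Subgroup G)) (y : Sylow 7 G), c • ((z : G) • y) = (z : G) • (c • y) := by
      intro z y
      rw [← mul_smul, ← mul_smul, Subgroup.mem_centralizer_iff.mp hc z z.2]
    have horb : ∀ y : Sylow 7 G, y ≠ P →
        (MulAction.orbit (P : Subgroup G) y).ncard = 7 ∧ P ∉ MulAction.orbit (P : Subgroup G) y := by
      intro y hy
      refine ⟨?_, ?_⟩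
      · rw [← MulAction.index_stabilizer, SmallOrders.stabilizer_sylow]
        exact orbit_card hn P y hy
      · intro h
        have h2 : y ∈ MulAction.orbit (P : Subgroup G) P := by rw [MulAction.orbit_eq_iff.mpr h]; exact MulAction.mem_orbit_self _
        obtain ⟨z, hz⟩ := h2
        exact hy (hz.symm.trans (smul_eq_of_mem (Subgroup.le_normalizer z.2)))
    have hc7 : ∀ y : Sylow 7 G, (c ^ 7) • y = y := by
      intro y
      by_cases hy : c • y = y
      · exact MulAction.mem_stabilizer_iff.mp (Subgroup.pow_mem _ (MulAction.mem_stabilizer_iff.mpr hy) 7)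
      · have hyP : y ≠ P := fun e => hy (by rw [e]; exact smul_eq_of_mem (hCN hc))
        have hcy : c • y ∈ MulAction.orbit (P : Subgroup G) y := by
          set S1 := MulAction.orbit (P : Subgroup G) x
          set S2 := MulAction.orbit (P : Subgroup G) y
          have hfx : ∀ z ∈ S1, c • z = z := by
            rintro _ ⟨z, rfl⟩
            show c • ((z : G) • x) = (z : G) • x
            rw [hcomm, hcx]
          have hfy : ∀ z ∈ S2, c • z ≠ z := by
            rintro _ ⟨z, rfl⟩ h
            change c • ((z : G) • y) = (z : G) • y at h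
            rw [hcomm] at h
            exact hy (MulAction.injective (z : G) h)
          have hdisj : _root_.Disjoint S1 S2 := Set.disjoint_left.mpr fun z h1 h2 => hfy z h2 (hfx z h1)
          have hu : ({P} : Set (Sylow 7 G)) ∪ (S1 ∪ S2) = Set.univ := by
            refine Set.eq_of_subset_of_ncard_le (Set.subset_univ _) ?_ (Set.toFinite _)
            rw [Set.ncard_univ, hn, Set.ncard_union_eq ?_ (Set.toFinite _) (Set.toFinite _),
              Set.ncard_union_eq hdisj (Set.toFinite _) (Set.toFinite _), (horb x hx).1, (horb y hyP).1,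
              Set.ncard_singleton]
            rw [Set.disjoint_singleton_left]
            rintro (h | h)
            · exact (horb x hx).2 h
            · exact (horb y hyP).2 h
          have hmem : c • y ∈ ({P} : Set (Sylow 7 G)) ∪ (S1 ∪ S2) := hu ▸ Set.mem_univ _
          rcases hmem with (h | h | h)
          · exfalso
            apply hyP
            rw [← inv_smul_smul c y, Set.mem_singleton_iff.mp h]
            exact smul_eq_of_mem (N.inv_mem (hCN hc))
          · exfalso
            exact hy (MulAction.injective c (hfx _ h))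
          · exact h
        obtain ⟨z, hz⟩ := hcy
        change (z : G) • y = c • y at hz
        have hpow : ∀ n : ℕ, (c ^ n) • y = ((z : G) ^ n) • y := by
          intro n
          induction n with
          | zero => simp
          | succ n ih =>
            have hcz : Commute (z : G) (c ^ n) :=
              Commute.pow_right (Subgroup.mem_centralizer_iff.mp hc z z.2) n
            calc (c ^ (n + 1)) • y = (c ^ n) • (c • y) := by rw [pow_succ, mul_smul]
              _ = (c ^ n) • ((z : G) • y) := by rw [hz]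
              _ = (z : G) • ((c ^ n) • y) := by rw [← mul_smul, ← mul_smul, hcz.eq]
              _ = ((z : G) ^ (n + 1)) • y := by rw [ih, ← mul_smul, ← pow_succ']
        have hz7 : (z : G) ^ 7 = 1 := by
          have h := pow_card_eq_one' (x := z)
          simp only [hP7] at h
          simpa using congrArg Subtype.val h
        rw [hpow, hz7, one_smul]
    have hker : c ^ 7 = 1 := by
      have hP : (P : Subgroup G).normalCore = ⊥ := SmallOrders.normalCore_eq_bot (fun h => by
        have := SmallOrders.card_normalizer_mul_card_sylow P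
        rw [h, Subgroup.normalizer_eq_top_iff.mpr inferInstance, Subgroup.card_top, hn] at this
        have := Nat.card_pos (α := G)
        omega)
      have hmem : ∀ R : Sylow 7 G, c ^ 7 ∈ NN R := fun R => Sylow.smul_eq_iff_mem_normalizer.mp (hc7 R)
      have hbot : (NN P).normalCore = ⊥ := SmallOrders.normalCore_eq_bot (fun h => by
        have := SmallOrders.card_normalizer_mul_card_sylow P
        change Nat.card (NN P) * _ = _ at this
        rw [h, Subgroup.card_top, hn] at this
        have := Nat.card_pos (α := G)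
        omega)
      have : c ^ 7 ∈ (NN P).normalCore := by
        intro g
        have h : (c ^ 7) • (g⁻¹ • P) = g⁻¹ • P := Sylow.smul_eq_iff_mem_normalizer.mpr (hmem (g⁻¹ • P))
        refine Sylow.smul_eq_iff_mem_normalizer.mp ?_
        show (g * c ^ 7 * g⁻¹) • P = P
        rw [mul_smul, mul_smul, h, smul_inv_smul]
      rwa [hbot, Subgroup.mem_bot] at this
    by_contra hc1
    have hord : orderOf c = 7 := orderOf_eq_prime hker hc1
    have hp : IsPGroup 7 (Subgroup.zpowers c) :=
      IsPGroup.of_card (n := 1) (by rw [Nat.card_zpowers, hord, pow_one])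
    have hcP : c ∈ (P : Subgroup G) := by
      have h := hp.inf_normalizer_sylow P
      have : c ∈ Subgroup.zpowers c ⊓ NN P := ⟨Subgroup.mem_zpowers c, hCN hc⟩
      exact (h.le this).2
    have hcx' : c ∈ (P : Subgroup G) ⊓ (x : Subgroup G) := by
      refine ⟨hcP, ?_⟩
      have : (⟨c, hcP⟩ : (P : Subgroup G)) ∈ MulAction.stabilizer (P : Subgroup G) x := hcx
      rwa [SmallOrders.stabilizer_sylow] at this
    rw [no_intersection hn P x hx, Subgroup.mem_bot] at hcx'
    exact hc1 hcx'
  have hPC : (P : Subgroup G) ≤ C := by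
    have := isCyclic_of_prime_card (p := 7) hP7
    intro a ha
    exact Subgroup.mem_centralizer_iff.mpr fun b hb =>
      congrArg Subtype.val (mul_comm' (⟨b, hb⟩ : (P : Subgroup G)) ⟨a, ha⟩)
  have hC14 : Nat.card C ≤ 14 := by
    have h : Nat.card C ≤ Nat.card {R : Sylow 7 G // R ≠ P} := by
      refine Nat.card_le_card_of_injective (fun c => ⟨(c : G) • Q, fun h => hQ (by
        rw [← inv_smul_smul (c : G) Q, h, smul_eq_of_mem (N.inv_mem (hCN c.2))])⟩) ?_
      intro a b hab
      have h : (a : G) • Q = (b : G) • Q := congrArg Subtype.val hab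
      have h1 := hfree ((b : G)⁻¹ * a) (C.mul_mem (C.inv_mem b.2) a.2) Q hQ (by
        rw [mul_smul, h, inv_smul_smul])
      exact Subtype.ext (inv_mul_eq_one.mp h1).symm
    exact h.trans_eq (card_ne hn P)
  have hC7 : Nat.card C = 7 := by
    have h7 : 7 ∣ Nat.card C := hP7 ▸ Subgroup.card_dvd_of_le hPC
    obtain ⟨i, hi⟩ := h7
    have hpos : 0 < Nat.card C := Nat.card_pos
    rcases (show i = 1 ∨ i = 2 by omega) with rfl | rfl
    · exact hi
    · exfalso
      have := Fact.mk Nat.prime_two
      obtain ⟨⟨c, hc⟩, hc2⟩ := exists_prime_orderOf_dvd_card' (G := C) 2 (by rw [hi]; norm_num)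
      rw [Subgroup.orderOf_mk] at hc2
      set φ := MulAction.toPermHom G (Sylow 7 G) with hφ
      have hc1 : c ≠ 1 := fun h => by rw [h, orderOf_one] at hc2; omega
      have hsupp : (φ c).support = Finset.univ.erase P := by
        ext R
        simp only [Equiv.Perm.mem_support, Finset.mem_erase, Finset.mem_univ, and_true]
        constructor
        · intro h e; exact h (by subst e; exact smul_eq_of_mem (hCN hc))
        · intro h e; exact hc1 (hfree c hc R h e)
      have hs14 : (φ c).support.card = 14 := by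
        rw [hsupp, Finset.card_erase_of_mem (Finset.mem_univ P), Finset.card_univ,
          ← Nat.card_eq_fintype_card, hn]
      have hord : orderOf (φ c) = 2 := by
        refine orderOf_eq_prime ?_ ?_
        · rw [← map_pow, ← hc2, pow_orderOf_eq_one, map_one]
        · intro h
          rw [h, Equiv.Perm.support_one] at hs14
          simp at hs14
      obtain ⟨j, hj⟩ := Equiv.Perm.cycleType_prime_order (σ := φ c) (by rw [hord]; exact Nat.prime_two)
      rw [hord] at hj
      have hsum := Equiv.Perm.sum_cycleType (φ c)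
      rw [hj, hs14, Multiset.sum_replicate, smul_eq_mul] at hsum
      have hsign := sign_eq_one hG φ c
      rw [Equiv.Perm.sign_of_cycleType, hj, Multiset.sum_replicate, Multiset.card_replicate,
        show j + 1 = 7 by omega] at hsign
      simp at hsign
      exact absurd hsign (by decide)
  have hNC : Nat.card N ∣ 42 := by
    let θ : N →* MulAut (P : Subgroup G) := (P : Subgroup G).normalizerMonoidHom
    have hker : θ.ker = C.subgroupOf N := by
      rw [Subgroup.normalizerMonoidHom_ker]
    have h1 := Subgroup.card_mul_index θ.ker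
    rw [Subgroup.index_ker, hker, Cores.card_subgroupOf hCN, hC7] at h1
    have := isCyclic_of_prime_card (p := 7) hP7
    have h2 : Nat.card θ.range ∣ 6 := by
      refine (Subgroup.card_subgroup_dvd_card _).trans ?_
      rw [IsCyclic.card_mulAut, hP7, Nat.totient_prime Nat.prime_seven]
    rw [← h1]
    exact Nat.mul_dvd_mul_left 7 h2
  have hcard : Nat.card N * 15 = Nat.card G := by
    rw [← hn]; exact SmallOrders.card_normalizer_mul_card_sylow P
  have h7N : 7 ∣ Nat.card N := hP7 ▸ Subgroup.card_dvd_of_le Subgroup.le_normalizer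
  have hmem : Nat.card N ∈ Nat.divisors 42 := Nat.mem_divisors.mpr ⟨hNC, by norm_num⟩
  rw [show Nat.divisors 42 = {1, 2, 3, 6, 7, 14, 21, 42} by decide] at hmem
  simp only [Finset.mem_insert, Finset.mem_singleton] at hmem
  rcases hmem with h | h | h | h | h | h | h | h <;> rw [h] at h7N hcard
  all_goals first
    | omega
    | exact SmallOrders.card_ne_of_critBool hG (n := 105) 3 1 (by decide +kernel) hcard.symm
    | exact SmallOrders.card_ne_of_critBool hG (n := 210) 2 1 (by decide +kernel) hcard.symm
    | exact SmallOrders.card_ne_of_critBool hG (n := 315) 5 1 (by decide +kernel) hcard.symm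
    | exact SmallOrders.card_ne_of_critBool hG (n := 630) 2 1 (by decide +kernel) hcard.symm

lemma dvd_fifteen {a : ℕ} (h : a ∣ 15) (hm : a ≡ 1 [MOD 7]) : a = 1 ∨ a = 15 := by
  have : a ≤ 15 := Nat.le_of_dvd (by norm_num) h
  unfold Nat.ModEq at hm
  interval_cases a <;> simp_all

lemma card_sylow_of_p_group {G : Type*} [Group G] [Finite G] [Fact (Nat.Prime 7)] (h : IsPGroup 7 G) :
    Nat.card (Sylow 7 G) = 1 := by
  rw [Nat.card_eq_one_iff_unique]
  refine ⟨⟨fun a b => Sylow.ext ?_⟩, inferInstance⟩
  have e : ∀ R : Sylow 7 G, (R : Subgroup G) = ⊤ := fun R =>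
    (R.is_maximal' (h.to_subgroup ⊤) le_top).symm
  rw [e a, e b]

lemma coprime_case [Fact (Nat.Prime 7)] (K : Subgroup G) [K.Normal] (P : Sylow 7 G)
    (hK : ¬ 7 ∣ Nat.card K) : (NN P).relIndex K ≠ 15 := by
  intro h15
  have : Fact (Nat.Prime 3) := ⟨Nat.prime_three⟩
  set A := (P : Subgroup G)
  have hAK : A ≤ Subgroup.normalizer (K : Set G) := by rw [Subgroup.normalizer_eq_top]; exact le_top
  obtain ⟨e, he⟩ := IsPGroup.iff_card.mp P.isPGroup'
  have hcop : (Nat.card A).Coprime (Nat.card K) := by
    rw [he]; exact Nat.Coprime.pow_left _ (Nat.prime_seven.coprime_iff_not_dvd.mpr hK)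
  have hsolv : Group.IsSolvable A ∨ Group.IsSolvable K :=
    Or.inl (have := P.isPGroup'.isNilpotent; inferInstance)
  set C := K ⊓ Subgroup.centralizer (A : Set G) with hC
  have hNK : NN P ⊓ K = C := by
    refine le_antisymm (fun x hx => ⟨hx.2, ?_⟩)
      (fun x hx => ⟨Subgroup.centralizer_le_normalizer _ hx.2, hx.1⟩)
    show x ∈ Subgroup.centralizer (A : Set G)
    rw [Subgroup.mem_centralizer_iff]
    intro a ha
    have h1 : x * a * x⁻¹ * a⁻¹ ∈ A ⊓ K := by
      refine ⟨A.mul_mem ((Subgroup.mem_normalizer_iff.mp hx.1 a).mp ha) (A.inv_mem ha), ?_⟩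
      rw [mul_assoc, mul_assoc, ← mul_assoc a]
      exact K.mul_mem hx.2 (Subgroup.Normal.conj_mem inferInstance _ (K.inv_mem hx.2) a)
    rw [Coprime.inf_eq_bot hcop, Subgroup.mem_bot] at h1
    rw [mul_inv_eq_one, mul_inv_eq_iff_eq_mul] at h1
    exact h1.symm
  have hCK : C ≤ K := inf_le_left
  have hrel : C.relIndex K = 15 := by rw [← h15, ← hNK, Subgroup.inf_relIndex_right]
  obtain ⟨S⟩ : Nonempty (Sylow 3 C) := inferInstance
  set U := (S : Subgroup C).map C.subtype with hU
  have hUC : U ≤ C := Subgroup.map_subtype_le _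
  obtain ⟨R, hUR, hRA⟩ := Coprime.exists_invariant_sylow_ge hAK hcop hsolv (p := 3) (U := U)
    (hUC.trans hCK) (S.isPGroup'.map _) (fun a ha => by
      rw [Subgroup.mem_normalizer_iff]
      intro x
      constructor
      · intro hx
        rwa [(Subgroup.mem_centralizer_iff.mp (hUC hx).2 a ha), mul_inv_cancel_right]
      · intro hx
        have h1 := Subgroup.mem_centralizer_iff.mp (hUC hx).2 a ha
        have : a * x * a⁻¹ = x := by
          have h2 : a * (a * x * a⁻¹) * a⁻¹ = a * x * a⁻¹ := by rw [h1, mul_inv_cancel_right]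
          calc a * x * a⁻¹ = a⁻¹ * (a * (a * x * a⁻¹) * a⁻¹) * a := by group
            _ = a⁻¹ * (a * x * a⁻¹) * a := by rw [h2]
            _ = x := by group
        rwa [this] at hx)
  set R' := (R : Subgroup K).map K.subtype with hR'
  have hR'K : R' ≤ K := Subgroup.map_subtype_le _
  have hUeq : R' ⊓ C = U := by
    refine le_antisymm ?_ (le_inf hUR hUC)
    have hp : IsPGroup 3 ((R' ⊓ C).subgroupOf C) :=
      ((R.isPGroup'.map _).to_le inf_le_left).of_equiv (Subgroup.subgroupOfEquivOfLe inf_le_right).symm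
    have hle : (S : Subgroup C) ≤ (R' ⊓ C).subgroupOf C := fun x hx => ⟨hUR ⟨x, hx, rfl⟩, x.2⟩
    have := S.is_maximal' hp hle
    rw [hU, ← this, Subgroup.map_subgroupOf_eq_of_le inf_le_right]
  have hcR : Nat.card R' = 3 * Nat.card U := by
    have e1 : Nat.card R' = 3 ^ (Nat.card K).factorization 3 := by
      rw [hR', Cores.card_map_subtype, Sylow.card_eq_multiplicity]
    have e2 : Nat.card U = 3 ^ (Nat.card C).factorization 3 := by
      rw [hU, Cores.card_map_subtype, Sylow.card_eq_multiplicity]
    have e3 : Nat.card K = Nat.card C * 15 := by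
      rw [← hrel, ← Cores.card_subgroupOf hCK]
      exact (Subgroup.card_mul_index _).symm
    rw [e1, e2, e3, Nat.factorization_mul Nat.card_pos.ne' (by norm_num), Finsupp.add_apply,
      show (15 : ℕ).factorization 3 = 1 by
        rw [show (15 : ℕ) = 3 * 5 by norm_num, Nat.factorization_mul (by norm_num) (by norm_num),
          Finsupp.add_apply, Nat.Prime.factorization_self Nat.prime_three,
          Nat.factorization_eq_zero_of_not_dvd (by norm_num)],
      pow_succ, mul_comm]
  let φ : A →* MulAut R' := R'.normalizerMonoidHom.comp (Subgroup.inclusion hRA)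
  let act : MulAction A R' := MulAction.compHom R' φ
  have hfix := P.isPGroup'.card_modEq_card_fixedPoints R'
  have hfixcard : Nat.card (MulAction.fixedPoints A R') = Nat.card U := by
    rw [← hUeq]
    refine Nat.card_congr
      { toFun := fun r => ⟨(r.1 : G), r.1.2, hR'K r.1.2, Subgroup.mem_centralizer_iff.mpr fun a ha => ?_⟩
        invFun := fun r => ⟨⟨r.1, r.2.1⟩, fun a => Subtype.ext ?_⟩
        left_inv := fun _ => rfl
        right_inv := fun _ => rfl }
    · have h := congrArg Subtype.val (r.2 ⟨a, ha⟩)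
      change a * (r.1 : G) * a⁻¹ = (r.1 : G) at h
      exact mul_inv_eq_iff_eq_mul.mp h
    · show (a : G) * r.1 * (a : G)⁻¹ = r.1
      rw [Subgroup.mem_centralizer_iff.mp r.2.2.2 a a.2, mul_inv_cancel_right]
  rw [hfixcard, hcR] at hfix
  obtain ⟨j, hj⟩ := IsPGroup.iff_card.mp ((R.isPGroup'.map K.subtype).to_le hUR)
  have hj' : Nat.card U = 3 ^ j := hj
  have h7 : 7 ∣ 2 * Nat.card U := by
    have := (Nat.modEq_iff_dvd' (by omega)).mp hfix.symm
    rwa [show 3 * Nat.card U - Nat.card U = 2 * Nat.card U by omega] at this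
  rw [hj'] at h7
  rcases Nat.prime_seven.dvd_mul.mp h7 with h | h
  · norm_num at h
  · have := Nat.prime_seven.dvd_of_dvd_pow h
    norm_num at this

lemma ne_fifteen : ∀ (n : ℕ) (G : Type*) [Group G] [Finite G], Nat.card G = n → Nat.card (Sylow 7 G) ≠ 15 := by
  have : Fact (Nat.Prime 7) := ⟨Nat.prime_seven⟩
  intro n
  induction n using Nat.strong_induction_on with
  | _ n ih =>
    intro G _ _ hcard h15
    have : Nontrivial G := by
      by_contra hc
      rw [not_nontrivial_iff_subsingleton] at hc
      have := card_sylow_of_p_group (G := G) (IsPGroup.of_card (n := 0) (by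
        rw [pow_zero, Nat.card_eq_one_iff_unique]; exact ⟨inferInstance, inferInstance⟩))
      omega
    by_cases hs : IsSimpleGroup G
    · by_cases hG : IsMulCommutative G
      · obtain ⟨P⟩ : Nonempty (Sylow 7 G) := inferInstance
        have hPn : (P : Subgroup G).Normal :=
          ⟨fun x hx g => by rwa [mul_comm' g x, mul_inv_cancel_right]⟩
        have := Sylow.unique_of_normal P hPn
        have : Nat.card (Sylow 7 G) = 1 := Nat.card_unique
        omega
      · exact simple_case hG h15
    obtain ⟨N, hN, hN0, hN1⟩ : ∃ N : Subgroup G, N.Normal ∧ N ≠ ⊥ ∧ N ≠ ⊤ := by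
      by_contra hc
      push Not at hc
      exact hs ⟨fun N hN => or_iff_not_imp_left.mpr (hc N hN)⟩
    obtain ⟨K, hK, hK0, hKN, hmin⟩ := Solvable.exists_minimal_normal hN0
    have hK1 : K ≠ ⊤ := fun h => hN1 (top_le_iff.mp (h ▸ hKN))
    obtain ⟨P⟩ : Nonempty (Sylow 7 G) := inferInstance
    have hmul := SylowCount.card_sylow_eq_quotient_mul K P
    rw [h15] at hmul
    rcases dvd_fifteen (Dvd.intro _ hmul.symm) (card_sylow_modEq_one 7 _) with hq | hq
    swap
    · exact ih _ (hcard ▸ Solvable.card_quotient_lt hK0) (G ⧸ K) rfl hq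
    rw [hq, one_mul] at hmul
    by_cases hW : (P : Subgroup G) ⊔ K = ⊤
    swap
    · exact ih _ (hcard ▸ Solvable.card_lt_of_ne_top hW) _ rfl hmul.symm
    rw [SylowCount.card_sylow_sup_eq K P] at hmul
    by_cases h7 : 7 ∣ Nat.card K
    · obtain ⟨Q⟩ : Nonempty (Sylow 7 K) := inferInstance
      obtain ⟨Q', hQ'⟩ := Q.exists_comap_subtype_eq
      have hdvd : Nat.card (Sylow 7 K) ∣ 15 := by
        have h := SylowCount.card_sylow_sup_eq K Q'
        have h2 : (Subgroup.normalizer ((Q' : Subgroup G) : Set G)).relIndex K = 15 := by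
          rw [← SylowCount.card_sylow_sup_eq K Q']
          have h3 := SylowCount.card_sylow_eq_quotient_mul K Q'
          rw [h15, hq, one_mul] at h3
          exact h3.symm
        rw [Sylow.card_eq_index_normalizer Q, ← h2]
        refine Subgroup.index_dvd_of_le (H := (Subgroup.normalizer ((Q' : Subgroup G) : Set G)).subgroupOf K) ?_
        intro x hx
        show x ∈ Subgroup.normalizer ((Q : Subgroup K) : Set K)
        rw [Subgroup.mem_normalizer_iff]
        intro y
        rw [← hQ']
        exact Subgroup.mem_normalizer_iff.mp hx (y : G)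
      rcases dvd_fifteen hdvd (card_sylow_modEq_one 7 _) with hk | hk
      swap
      · exact ih _ (hcard ▸ Solvable.card_lt_of_ne_top hK1) K rfl hk
      · have : Subsingleton (Sylow 7 K) := (Nat.card_eq_one_iff_unique.mp hk).1
        have hQn : (Q : Subgroup K).Normal := Sylow.normal_of_subsingleton Q
        have := Sylow.characteristic_of_normal Q hQn
        have hn : ((Q : Subgroup K).map K.subtype).Normal := inferInstance
        rcases hmin _ hn (Subgroup.map_subtype_le _) with h | h
        · rw [Subgroup.map_eq_bot_iff_of_injective _ K.subtype_injective] at h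
          exact Q.ne_bot_of_dvd_card h7 h
        · have hKP : K ≤ (P : Subgroup G) := by
            rw [← h]
            exact (Cores.le_pCore hn (Q.isPGroup'.map _)).trans (Cores.pCore_le_sylow P)
          rw [sup_eq_left.mpr hKP] at hW
          have := card_sylow_of_p_group (G := G) (P.isPGroup'.of_equiv ((MulEquiv.subgroupCongr hW).trans Subgroup.topEquiv))
          omega
    · exact coprime_case K P h7 hmul.symm

/-- No finite group has exactly 15 Sylow 7-subgroups. -/
theorem result {G : Type*} [Group G] [Finite G] : Nat.card (Sylow 7 G) ≠ 15 := by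
  exact ne_fifteen _ G rfl

end Cfsg.Agent.S4304
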