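import Cfsg.Statements.S4305
import Cfsg.Agent.Lib.S3Fpf.Abelian
import Cfsg.Agent.Lib.FPF.Chief
import Mathlib.RingTheory.Flat.Basic
import Mathlib.FieldTheory.IsAlgClosed.AlgebraicClosure
import Cfsg.Agent.EqLemmas

set_option autoImplicit false
open Cfsg

namespace Cfsg.Agent.S4305

open Cfsg.Agent.S3Fpf Cfsg.Agent.FPF
open scoped IsMulCommutative TensorProduct

universe u

/-- the action on a quotient -/
@[reducible] def quotAction {G : Type u} [Group G] [MulDistribMulAction S3 G] (N : Subgroup G) [N.Normal]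
    (hN : Inv (MulDistribMulAction.toMulAut S3 G) N) : MulDistribMulAction S3 (G ⧸ N) where
  smul a q := quotAct (MulDistribMulAction.toMulAut S3 G) N hN a q
  one_smul q := by show quotAct _ N hN 1 q = q; rw [map_one]; rfl
  mul_smul a b q := by show quotAct _ N hN (a * b) q = _; rw [map_mul]; rfl
  smul_mul a x y := map_mul _ x y
  smul_one a := map_one _

theorem fixed_quot {G : Type u} [Group G] [Finite G] [MulDistribMulAction S3 G] (hcop : (Nat.card G).Coprime 6)
    (hfix : ∀ g : G, (∀ a : S3, a • g = g) → g = 1) (N : Subgroup G) [N.Normal]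
    (hN : Inv (MulDistribMulAction.toMulAut S3 G) N) :
    letI := quotAction N hN
    ∀ q : G ⧸ N, (∀ a : S3, a • q = q) → q = 1 := by
  intro q hq
  induction q using QuotientGroup.induction_on with
  | _ g =>
    have hc : (Nat.card S3).Coprime (Nat.card G) := by rw [Nat.card_perm, Nat.card_fin]; exact hcop.symm
    obtain ⟨c, hc, hcg⟩ := Coprime.exists_smul_fixed_of_coset hc (Or.inl S3Fpf.Data.solvableS3) (N := N) hN (g := g)
      fun a => by
        have h : ((a • g : G) : G ⧸ N) = (g : G ⧸ N) := hq a
        rw [← QuotientGroup.eq_one_iff, QuotientGroup.mk_mul, QuotientGroup.mk_inv, h, mul_inv_cancel]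
    rw [hfix c hc, one_mul] at hcg
    exact (QuotientGroup.eq_one_iff g).mpr ((Subgroup.inv_mem_iff _).mp hcg)

/-- endomorphisms of a vector space over the prime field -/
def zEnd (s : ℕ) (M : Type u) [AddCommGroup M] [Module (ZMod s) M] :
    AddMonoid.End M →+* Module.End (ZMod s) M where
  toFun f := AddMonoidHom.toZModLinearMap s f
  map_one' := LinearMap.ext fun _ => rfl
  map_mul' _ _ := LinearMap.ext fun _ => rfl
  map_zero' := LinearMap.ext fun _ => rfl
  map_add' _ _ := LinearMap.ext fun _ => rfl

/-- the ground field -/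
abbrev Fs (s : ℕ) [Fact s.Prime] : Type := AlgebraicClosure (ZMod s)

/-- the algebra of the extended module -/
def Rs (s : ℕ) [Fact s.Prime] (M : Type u) [AddCommGroup M] [Module (ZMod s) M] : Type u :=
  Fs s ⊗[ZMod s] Module.End (ZMod s) M

noncomputable instance instRingRs (s : ℕ) [Fact s.Prime] (M : Type u) [AddCommGroup M] [Module (ZMod s) M] :
    Ring (Rs s M) := inferInstanceAs (Ring (Fs s ⊗[ZMod s] Module.End (ZMod s) M))

noncomputable instance instAlgebraRs (s : ℕ) [Fact s.Prime] (M : Type u) [AddCommGroup M] [Module (ZMod s) M] :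
    Algebra (Fs s) (Rs s M) := inferInstanceAs (Algebra (Fs s) (Fs s ⊗[ZMod s] Module.End (ZMod s) M))

/-- operators in the extended algebra -/
noncomputable def toRs (s : ℕ) [Fact s.Prime] (M : Type u) [AddCommGroup M] [Module (ZMod s) M] :
    AddMonoid.End M →+* Rs s M :=
  ((Algebra.TensorProduct.includeRight :
    Module.End (ZMod s) M →ₐ[ZMod s] Fs s ⊗[ZMod s] Module.End (ZMod s) M).toRingHom.comp (zEnd s M) :)

theorem toRs_injective (s : ℕ) [Fact s.Prime] (M : Type u) [AddCommGroup M] [Module (ZMod s) M] :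
    Function.Injective (toRs s M) :=
  (Algebra.TensorProduct.includeRight_injective (R := ZMod s) (A := Fs s) (B := Module.End (ZMod s) M)
    (algebraMap (ZMod s) (Fs s)).injective).comp
    fun f g h => AddMonoidHom.ext fun v => LinearMap.congr_fun h v

theorem exists_ops_aux (s : ℕ) [Fact s.Prime] {Q : Type u} [Group Q] [MulDistribMulAction S3 Q] {M : Type u}
    [AddCommGroup M] [Module (ZMod s) M] (rep : Q →* AddMonoid.End M) (sig : S3 →* AddMonoid.End M)
    (hrep : Function.Injective rep) (hcompat : ∀ (a : S3) (q : Q) (v : M), sig a (rep q v) = rep (a • q) (sig a v))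
    (hfix : ∀ v : M, (∀ a, sig a v = v) → v = 0) :
    ∃ (R : Type u) (_ : Ring R) (_ : Algebra (Fs s) R) (rep' : Q →* R) (sig' : S3 →* R), Function.Injective rep' ∧
      (∀ (a : S3) (q : Q), sig' a * rep' q = rep' (a • q) * sig' a) ∧ ∑ a : S3, sig' a = 0 := by
  refine ⟨Rs s M, instRingRs s M, instAlgebraRs s M, (toRs s M).toMonoidHom.comp rep,
    (toRs s M).toMonoidHom.comp sig, (toRs_injective s M).comp hrep, fun a q => ?_, ?_⟩
  · show toRs s M _ * toRs s M _ = toRs s M _ * toRs s M _
    rw [← map_mul, ← map_mul]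
    exact congrArg (toRs s M) (AddMonoidHom.ext fun v => hcompat a q v)
  · show ∑ a : S3, toRs s M (sig a) = 0
    rw [← map_sum]
    refine (congrArg (toRs s M) (AddMonoidHom.ext fun v => ?_)).trans (map_zero _)
    refine hfix _ fun b => ?_
    have happ : (∑ x, sig x : AddMonoid.End M) v = ∑ x, sig x v :=
      AddMonoidHom.finsetSum_apply (M := M) (N := M) (fun x => sig x) Finset.univ v
    refine (congrArg (sig b) happ).trans (Eq.trans ?_ happ.symm)
    rw [map_sum]
    exact Fintype.sum_equiv (Equiv.mulLeft b) _ _ fun a => by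
      rw [Equiv.coe_mulLeft, map_mul]; rfl

theorem exists_ops (s : ℕ) [Fact s.Prime] {Q : Type u} [Group Q] [MulDistribMulAction S3 Q] {M : Type u}
    [AddCommGroup M] (hM : ∀ v : M, s • v = 0) (rep : Q →* AddMonoid.End M) (sig : S3 →* AddMonoid.End M)
    (hrep : Function.Injective rep) (hcompat : ∀ (a : S3) (q : Q) (v : M), sig a (rep q v) = rep (a • q) (sig a v))
    (hfix : ∀ v : M, (∀ a, sig a v = v) → v = 0) :
    ∃ (R : Type u) (_ : Ring R) (_ : Algebra (Fs s) R) (rep' : Q →* R) (sig' : S3 →* R), Function.Injective rep' ∧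
      (∀ (a : S3) (q : Q), sig' a * rep' q = rep' (a • q) * sig' a) ∧ ∑ a : S3, sig' a = 0 := by
  letI : Module (ZMod s) M := AddCommGroup.zmodModule hM
  exact exists_ops_aux s rep sig hrep hcompat hfix

theorem derived_le_centralizer {G : Type u} [Group G] [Finite G] [Group.IsSolvable G]
    [MulDistribMulAction S3 G] (hcop : (Nat.card G).Coprime 6)
    (hfix : ∀ g : G, (∀ a : S3, a • g = g) → g = 1) (V : Subgroup G) [V.Normal] [IsMulCommutative V]
    (hV : MinInv (MulDistribMulAction.toMulAut S3 G) V) (s : ℕ) [Fact s.Prime] (hs : ∀ x ∈ V, x ^ s = 1)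
    (hQ' : Group.IsNilpotent (commutator (G ⧸ Subgroup.centralizer (V : Set G)))) :
    commutator G ≤ Subgroup.centralizer (V : Set G) := by
  set act := MulDistribMulAction.toMulAut S3 G with hact
  set C := Subgroup.centralizer (V : Set G) with hC
  letI := quotAction C (inv_centralizer act hV.invariant)
  have hcopQ : (Nat.card (G ⧸ C)).Coprime 6 := hcop.coprime_dvd_left (Subgroup.card_quotient_dvd_card C)
  have hfixQ := fixed_quot hcop hfix C (inv_centralizer act hV.invariant)
  -- no normal invariant `s`-subgroup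
  have hnoS : ∀ Z : Subgroup (G ⧸ C), Z.Normal → (∀ (a : S3), ∀ x ∈ Z, a • x ∈ Z) → IsPGroup s Z → Z = ⊥ := by
    intro Z hZn hZi hZs
    by_contra hne
    exact mod_prime_ne act V hV hs Z hZi hne hZs rfl
  -- the representation
  obtain ⟨R, _, _, rep, sig, hinj, hcompat, hsum⟩ := exists_ops s (Q := G ⧸ C) (M := Additive V) (mod_char V hs)
    (modRep V) (modS act V hV.invariant) (modRep_injective V) (fun a q v => modS_compat act V hV.invariant a q v)
    (modS_noFix act V hV.invariant hfix)
  have hF : ∀ m : ℕ, ¬ s ∣ m → (m : Fs s) ≠ 0 := fun m hm h => hm ((CharP.cast_eq_zero_iff (Fs s) s m).mp h)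
  -- no element of order `s` in the derived subgroup
  have hder : ∀ x ∈ commutator (G ⧸ C), x ^ s = 1 → x = 1 := by
    intro x hx hxs
    obtain ⟨P⟩ : Nonempty (Sylow s (commutator (G ⧸ C))) := inferInstance
    haveI hPn : (P : Subgroup (commutator (G ⧸ C))).Normal :=
      ((Group.isNilpotent_of_finite_tfae (G := commutator (G ⧸ C))).out 0 3 rfl rfl).mp hQ' s inferInstance P
    have hall : ∀ y : commutator (G ⧸ C), ∀ k : ℕ, y ^ s ^ k = 1 → y ∈ (P : Subgroup _) := fun y k hy => by
      have hyp : IsPGroup s (Subgroup.zpowers y) := fun z => by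
        obtain ⟨i, hi⟩ := Subgroup.mem_zpowers_iff.mp z.2
        refine ⟨k, Subtype.ext ?_⟩
        rw [SubmonoidClass.coe_pow, ← hi, ← zpow_natCast, ← zpow_mul, mul_comm, zpow_mul, zpow_natCast, hy,
          one_zpow]
        rfl
      obtain ⟨P', hP'⟩ := hyp.exists_le_sylow
      haveI := Sylow.unique_of_normal P hPn
      rw [Subsingleton.elim P P']
      exact hP' (Subgroup.mem_zpowers y)
    have hbot : (P : Subgroup (commutator (G ⧸ C))).map (commutator (G ⧸ C)).subtype = ⊥ := by
      have hinv : ∀ φ : G ⧸ C →* G ⧸ C, ∀ z ∈ (P : Subgroup (commutator (G ⧸ C))).map (commutator (G ⧸ C)).subtype,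
          φ z ∈ (P : Subgroup (commutator (G ⧸ C))).map (commutator (G ⧸ C)).subtype := by
        rintro φ _ ⟨y, hy, rfl⟩
        have hmem : φ (y : G ⧸ C) ∈ commutator (G ⧸ C) := by
          have h : (commutator (G ⧸ C)).map φ ≤ commutator (G ⧸ C) := by
            rw [commutator_def, Subgroup.map_commutator]
            exact Subgroup.commutator_mono le_top le_top
          exact h (Subgroup.mem_map_of_mem φ y.2)
        obtain ⟨k, hk⟩ := P.2 ⟨y, hy⟩
        have hk' : (y : G ⧸ C) ^ s ^ k = 1 := congrArg (fun t => ((t : commutator (G ⧸ C)) : G ⧸ C)) (congrArg Subtype.val hk)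
        exact ⟨⟨_, hmem⟩, hall _ k (Subtype.ext (by rw [SubmonoidClass.coe_pow, ← map_pow, hk', map_one]; rfl)), rfl⟩
      refine hnoS _ ⟨fun n hn g => ?_⟩ (fun a z hz => hinv (MulDistribMulAction.toMonoidHom _ a) z hz)
        (P.2.map _)
      exact hinv (MulAut.conj g).toMonoidHom n hn
    have : x ∈ (P : Subgroup (commutator (G ⧸ C))).map (commutator (G ⧸ C)).subtype :=
      ⟨⟨x, hx⟩, hall _ 1 (Subtype.ext (by rw [pow_one, SubmonoidClass.coe_pow, hxs]; rfl)), rfl⟩
    rwa [hbot, Subgroup.mem_bot] at this
  -- a normal invariant subgroup of order prime to `s` containing the derived subgroup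
  set m := ordCompl[s] (Nat.card (G ⧸ C)) with hm
  let H : Subgroup (G ⧸ C) :=
    (powMonoidHom m : Abelianization (G ⧸ C) →* Abelianization (G ⧸ C)).ker.comap Abelianization.of
  have hHi : ∀ (a : S3), ∀ x ∈ H, a • x ∈ H := by
    intro a x hx
    have h : Abelianization.of x ^ m = 1 := hx
    have := congrArg (Abelianization.map (MulDistribMulAction.toMonoidHom (G ⧸ C) a)) h
    rw [map_pow, map_one, Abelianization.map_of] at this
    exact this
  have hHle : commutator (G ⧸ C) ≤ H := by
    intro x hx
    show Abelianization.of x ^ m = 1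
    rw [← Abelianization.ker_of, MonoidHom.mem_ker] at hx
    rw [hx, one_pow]
  have hHs : ¬ s ∣ Nat.card H := by
    intro hd
    obtain ⟨⟨x, hx⟩, hxo⟩ := exists_prime_orderOf_dvd_card' s hd
    have hxs : x ^ s = 1 := by
      rw [← Subgroup.orderOf_coe] at hxo
      rw [← hxo]; exact pow_orderOf_eq_one x
    have h1 : Abelianization.of x = 1 := by
      have h2 : Abelianization.of x ^ s = 1 := by rw [← map_pow, hxs, map_one]
      have h3 : Abelianization.of x ^ m = 1 := hx
      have := pow_gcd_eq_one.mpr ⟨h2, h3⟩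
      rwa [(Nat.coprime_ordCompl (Fact.out : s.Prime) Nat.card_pos.ne').gcd_eq_one, pow_one] at this
    have hx1 : x = 1 := hder x (by rwa [← Abelianization.ker_of, MonoidHom.mem_ker]) hxs
    subst hx1
    rw [show (⟨1, hx⟩ : H) = 1 from rfl, orderOf_one] at hxo
    exact (Fact.out : s.Prime).ne_one hxo.symm
  have hHab : ∀ x ∈ H, ∀ y ∈ H, x * y = y * x := by
    intro x hx y hy
    letI := subAction H hHi
    exact congrArg Subtype.val (commute_of_module (F := Fs s) (Nat.card H) H le_rfl inferInstance
      (hcopQ.coprime_dvd_left H.card_subgroup_dvd_card)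
      (fun g hg => Subtype.ext (hfixQ g fun a => congrArg Subtype.val (hg a))) (hF _ hHs)
      (rep.comp H.subtype) sig (hinj.comp Subtype.val_injective) (fun a g => hcompat a g) hsum ⟨x, hx⟩ ⟨y, hy⟩)
  haveI : H.Normal :=
    (inferInstance : (powMonoidHom m : Abelianization (G ⧸ C) →* Abelianization (G ⧸ C)).ker.Normal).comap _
  have hHc := central_of_module (F := Fs s) rep sig hinj hcompat hsum hcopQ hfixQ H inferInstance hHi hHab (hF _ hHs)
  haveI : Group.IsNilpotent (G ⧸ C) := by
    refine Subgroup.isNilpotent_of_ker_le_center (Abelianization.of : G ⧸ C →* Abelianization (G ⧸ C)) ?_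
    rw [Abelianization.ker_of]
    exact hHle.trans hHc
  have hQs : ¬ s ∣ Nat.card (G ⧸ C) := by
    intro hd
    obtain ⟨P⟩ : Nonempty (Sylow s (G ⧸ C)) := inferInstance
    haveI hPn : (P : Subgroup (G ⧸ C)).Normal :=
      ((Group.isNilpotent_of_finite_tfae (G := G ⧸ C)).out 0 3 rfl rfl).mp ‹_› s inferInstance P
    haveI := Sylow.characteristic_of_normal P hPn
    have h := hnoS P hPn (fun a x hx => Subgroup.characteristic_iff_map_le.mp inferInstance
      (MulDistribMulAction.toMulEquiv _ a) ⟨x, hx, rfl⟩) P.2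
    exact P.ne_bot_of_dvd_card hd h
  have hab := commute_of_module (F := Fs s) (Nat.card (G ⧸ C)) (G ⧸ C) le_rfl inferInstance hcopQ hfixQ (hF _ hQs)
    rep sig hinj hcompat hsum
  rw [commutator_def, Subgroup.commutator_le]
  intro a _ b _
  rw [← QuotientGroup.eq_one_iff, ← QuotientGroup.mk'_apply, map_commutatorElement,
    commutatorElement_eq_one_iff_mul_comm]
  exact hab _ _

theorem main (n : ℕ) : ∀ (G : Type u) [Group G] [Finite G] [MulDistribMulAction S3 G], Nat.card G ≤ n →
    Group.IsSolvable G → (Nat.card G).Coprime 6 → (∀ g : G, (∀ a : S3, a • g = g) → g = 1) →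
    Group.IsNilpotent (commutator G) := by
  induction n with
  | zero =>
    intro G _ _ _ hc
    have := Nat.card_pos (α := G)
    omega
  | succ n ih =>
    intro G _ _ _ hc hG hcop hfix
    rcases subsingleton_or_nontrivial G with hs | hne
    · exact inferInstance
    obtain ⟨V, hV⟩ := exists_minInv (MulDistribMulAction.toMulAut S3 G)
    haveI := hV.normal
    haveI : IsMulCommutative V :=
      ⟨⟨fun a b => Subtype.ext (hV.commute _ hG _ a.2 _ b.2)⟩⟩
    obtain ⟨s, hs, hexp⟩ := hV.exists_prime _ hG
    haveI := Fact.mk hs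
    have hIH : ∀ (N : Subgroup G) [N.Normal] (_ : N ≠ ⊥) (_ : Inv (MulDistribMulAction.toMulAut S3 G) N),
        Group.IsNilpotent (commutator (G ⧸ N)) := by
      intro N _ hNne hNinv
      letI := quotAction N hNinv
      refine ih (G ⧸ N) ?_ inferInstance (hcop.coprime_dvd_left (Subgroup.card_quotient_dvd_card N))
        (fixed_quot hcop hfix N hNinv)
      have := card_quot_lt hNne
      omega
    have hCne : Subgroup.centralizer (V : Set G) ≠ ⊥ := fun h => hV.ne_bot (le_bot_iff.mp (h ▸
      fun x hx => Subgroup.mem_centralizer_iff.mpr fun y hy => hV.commute _ hG y hy x hx))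
    have hGC := derived_le_centralizer hcop hfix V hV s hexp (hIH _ hCne (inv_centralizer _ hV.invariant))
    haveI := hIH V hV.ne_bot hV.invariant
    let f : commutator G →* commutator (G ⧸ V) :=
      ((QuotientGroup.mk' V).comp (commutator G).subtype).codRestrict (commutator (G ⧸ V)) (by
        intro x
        have : (commutator G).map (QuotientGroup.mk' V) ≤ commutator (G ⧸ V) := by
          rw [commutator_def, commutator_def, Subgroup.map_commutator]
          exact Subgroup.commutator_mono le_top le_top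
        exact this ⟨x, x.2, rfl⟩)
    refine Subgroup.isNilpotent_of_ker_le_center f ?_
    intro x hx
    have hxV : (x : G) ∈ V := (QuotientGroup.eq_one_iff _).mp (congrArg Subtype.val (hx : f x = 1))
    rw [Subgroup.mem_center_iff]
    intro y
    exact Subtype.ext (Subgroup.mem_centralizer_iff.mp (hGC y.2) _ hxV).symm

/-- Let the symmetric group of degree 3 act by automorphisms on a finite solvable group `G` of order prime to 6, so that only the identity of `G` is fixed by all of it. Then the derived subgroup of `G` is nilpotent. -/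
theorem result {G : Type*} [Group G] [Finite G] [Group.IsSolvable G]
    [MulDistribMulAction (Equiv.Perm (Fin 3)) G] (hcop : (Nat.card G).Coprime 6)
    (hfpf : ∀ g : G, (∀ a : Equiv.Perm (Fin 3), a • g = g) → g = 1) :
    Group.IsNilpotent ↥(commutator G) := by
  exact main (Nat.card G) G le_rfl ‹_› hcop hfpf

end Cfsg.Agent.S4305
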