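import Cfsg.Statements.S4306
import Cfsg.Agent.EqLemmas
import Cfsg.Agent.Lib.FPF.Chief
import Cfsg.Agent.Lib.Cores.Fitting
import Cfsg.Agent.Lib.PQFit.Centralize
import Cfsg.Agent.Lib.PQFit.Rep
import Cfsg.Agent.EqLemmas

set_option autoImplicit false
open Cfsg

namespace Cfsg.Agent.S4306
open Cfsg.Agent.FPF Cfsg.Agent.PQFit Cfsg.Agent.Coprime
open scoped IsMulCommutative Pointwise

universe u v

theorem solvable_pq {A : Type v} [Group A] [Finite A] {p q : ℕ} (hp : p.Prime) (hq : q.Prime) (hpq : p ≠ q)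
    (hA : Nat.card A = p * q) (hAna : ¬ IsMulCommutative A) : Group.IsSolvable A := by
  obtain ⟨p', q', f, hF⟩ := exists_frob (A := (⊤ : Subgroup A)) hp hq hpq (Subgroup.card_top.trans hA)
    fun h => hAna ⟨⟨fun a b =>
      congrArg Subtype.val (h.is_comm.comm (⟨a, Subgroup.mem_top a⟩ : (⊤ : Subgroup A)) ⟨b, Subgroup.mem_top b⟩)⟩⟩
  have S : Setup (⊤ : Subgroup A) ⊥ p' q' f :=
    ⟨hF, fun x _ => Coprime.mem_normalizer_of_forall fun y hy => by
      rw [Subgroup.mem_bot] at hy ⊢
      rw [hy, mul_one, mul_inv_cancel], by simp, bot_inf_eq _⟩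
  haveI := S.solvable
  exact Group.isSolvable_of_surjective (f := (Subgroup.topEquiv : (⊤ : Subgroup A) ≃* A).toMonoidHom)
    Subgroup.topEquiv.surjective

theorem noFix_quot' {A : Type v} [Group A] [Finite A] {G : Type u} [Group G] [Finite G] (act : A →* MulAut G)
    (hsolv : Group.IsSolvable A) (hcop : (Nat.card A).Coprime (Nat.card G)) (hfix : NoFix act)
    (N : Subgroup G) [N.Normal] (hN : Inv act N) : NoFix (quotAct act N hN) := by
  intro x hx
  induction x using QuotientGroup.induction_on with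
  | _ g =>
    letI : MulDistribMulAction A G := MulDistribMulAction.compHom _ act
    obtain ⟨c, hc, hcg⟩ := Coprime.exists_smul_fixed_of_coset hcop (Or.inl hsolv) (N := N) hN (g := g)
      fun a => by
        have h : ((act a g : G) : G ⧸ N) = (g : G ⧸ N) := hx a
        show act a g * g⁻¹ ∈ N
        rw [← QuotientGroup.eq_one_iff, QuotientGroup.mk_mul, QuotientGroup.mk_inv, h, mul_inv_cancel]
    rw [hfix c hc, one_mul] at hcg
    exact (QuotientGroup.eq_one_iff g).mpr ((Subgroup.inv_mem_iff _).mp hcg)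

/-- An invariant Sylow subgroup centralises the other primary parts of the Fitting subgroup. -/
theorem sylow_le_centralizer {A : Type v} [Group A] [Finite A] {p q : ℕ} (hp : p.Prime) (hq : q.Prime)
    (hpq : p ≠ q) (hA : Nat.card A = p * q) (hAna : ¬ IsMulCommutative A) {Q : Type u} [Group Q] [Finite Q]
    [MulDistribMulAction A Q] (hcop : (Nat.card A).Coprime (Nat.card Q))
    (hfix : ∀ g : Q, (∀ a : A, a • g = g) → g = 1) {M : Type u} [AddCommGroup M] [Finite M] {s : ℕ}
    [Fact s.Prime] (hsA : ¬ s ∣ Nat.card A) (hM : ∀ x : M, s • x = 0)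
    (rep : Q →* AddMonoid.End M) (sig : A →* AddMonoid.End M) (hrep : Function.Injective rep)
    (hcompat : ∀ (a : A) (g : Q) (x : M), sig a (rep g x) = rep (a • g) (sig a x))
    (hfixM : ∀ x : M, (∀ a, sig a x = x) → x = 0) {r t : ℕ} [Fact r.Prime] [Fact t.Prime] (hrs : r ≠ s)
    (hrt : r ≠ t) (R P : Subgroup Q) (hRn : R.Normal) (hRinv : ∀ (a : A), ∀ x ∈ R, a • x ∈ R)
    (hPinv : ∀ (a : A), ∀ x ∈ P, a • x ∈ P) (hR : IsPGroup r R) (hP : IsPGroup t P) :
    ∀ x ∈ P, ∀ y ∈ R, x * y = y * x := by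
  classical
  letI := Fintype.ofFinite A
  haveI : Finite (toSemi A Q) := Finite.of_equiv _ SemidirectProduct.equivProd.symm
  letI := Fintype.ofFinite (embA A Q)
  let ι : Q →* toSemi A Q := SemidirectProduct.inl
  have hna : ¬ IsMulCommutative (embA A Q) := fun h => hAna ⟨⟨fun a b =>
    SemidirectProduct.inr_injective (φ := MulDistribMulAction.toMulAut A Q) (by
      rw [map_mul, map_mul]
      exact congrArg Subtype.val (h.is_comm.comm (⟨_, a, rfl⟩ : embA A Q) ⟨_, b, rfl⟩))⟩⟩
  obtain ⟨p', q', f, hF⟩ := exists_frob (A := embA A Q) hp hq hpq ((card_embA A Q).trans hA) hna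
  have hS : Setup (embA A Q) (embK A Q) p' q' f :=
    { frob := hF, norm := embA_le_normalizer A Q, cop := by rw [card_embA, card_embK]; exact hcop
      fix := by
        rw [Subgroup.eq_bot_iff_forall]
        rintro _ ⟨⟨g, rfl⟩, hg⟩
        rw [hfix g fun a => SemidirectProduct.inl_injective (φ := MulDistribMulAction.toMulAut A Q) (by
          rw [← inr_conj_inl, mul_inv_eq_iff_eq_mul]
          exact Subgroup.mem_centralizer_iff.mp hg _ ⟨a, rfl⟩), map_one] }
  obtain ⟨d, ρ, hinj, hsum⟩ := exists_semi_rep hM rep sig hrep hcompat hfixM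
  have hcast : ∀ m : ℕ, m ∣ Nat.card A → (m : AlgebraicClosure (ZMod s)) ≠ 0 := fun m hm h =>
    hsA (((CharP.cast_eq_zero_iff (AlgebraicClosure (ZMod s)) s m).mp h).trans hm)
  have hcardA : Nat.card A = p' * q' := (card_embA A Q).symm.trans hF.card
  have hsum' : ∑ b : embA A Q, ρ (b : toSemi A Q) = 0 := by
    refine Eq.trans ?_ hsum
    exact (Fintype.sum_equiv (MonoidHom.ofInjective (f := (SemidirectProduct.inr : A →* toSemi A Q))
      SemidirectProduct.inr_injective).toEquiv _ _ fun a => rfl).symm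
  have hnorm : ∀ {X : Subgroup Q}, (∀ (a : A), ∀ x ∈ X, a • x ∈ X) →
      embA A Q ≤ Subgroup.normalizer (X.map ι : Set (toSemi A Q)) := by
    intro X hX u hu
    obtain ⟨a, rfl⟩ := hu
    refine Coprime.mem_normalizer_of_forall ?_
    rintro _ ⟨x, hx, rfl⟩
    rw [inr_conj_inl]
    exact ⟨_, hX a x hx, rfl⟩
  have hPair : Pair (embA A Q) (embK A Q) (R.map ι) (P.map ι) r t :=
    { hr := Fact.out, ht := Fact.out, hrt := hrt
      hRK := fun x ⟨y, _, hy⟩ => ⟨y, hy⟩, hTK := fun x ⟨y, _, hy⟩ => ⟨y, hy⟩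
      hAR := hnorm hRinv, hAT := hnorm hPinv
      hTR := by
        rintro _ ⟨y, -, rfl⟩
        refine Coprime.mem_normalizer_of_forall ?_
        rintro _ ⟨x, hx, rfl⟩
        rw [← map_inv, ← map_mul, ← map_mul]
        exact ⟨_, hRn.conj_mem x hx y, rfl⟩
      hR := hR.map ι, hT := hP.map ι }
  have hrF : (r : AlgebraicClosure (ZMod s)) ≠ 0 := fun h => hrs.symm
    ((Nat.prime_dvd_prime_iff_eq Fact.out Fact.out).mp
      ((CharP.cast_eq_zero_iff (AlgebraicClosure (ZMod s)) s r).mp h))
  have h := PQFit.centralize hS ρ (hcast p' (hcardA ▸ dvd_mul_right p' q')) (hcast q' (hcardA ▸ dvd_mul_left q' p'))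
    (by rintro _ ⟨g, rfl⟩ hg; rw [hinj g hg, map_one]) hsum' _ hPair hrF le_rfl
  intro x hx y hy
  exact SemidirectProduct.inl_injective (φ := MulDistribMulAction.toMulAut A Q) (by
    rw [map_mul, map_mul]
    exact (Subgroup.mem_centralizer_iff.mp (h ⟨x, hx, rfl⟩) _ ⟨y, hy, rfl⟩).symm)

theorem main {A : Type v} [Group A] [Finite A] {p q : ℕ} (hp : p.Prime) (hq : q.Prime)
    (hpq : p ≠ q) (hA : Nat.card A = p * q) (hAna : ¬ IsMulCommutative A) (n : ℕ) :
    ∀ (G : Type u) [Group G] [Finite G], Nat.card G ≤ n → Group.IsSolvable G →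
      ∀ act : A →* MulAut G, (Nat.card A).Coprime (Nat.card G) → NoFix act →
      ∃ N : Subgroup G, N.Normal ∧ Group.IsNilpotent N ∧ ∃ k, (⊤ : Subgroup G).lowerCentralSeries k ≤ N := by
  induction n with
  | zero =>
    intro G _ _ hc
    have := Nat.card_pos (α := G)
    omega
  | succ n ih =>
    intro G _ _ hc hG act hcopG hfix
    rcases subsingleton_or_nontrivial G with hs | hnt
    · exact ⟨⊤, inferInstance, inferInstance, 0, le_rfl⟩
    have hAsol : Group.IsSolvable A := solvable_pq hp hq hpq hA hAna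
    haveI := hG
    obtain ⟨V, hV⟩ := exists_minInv act
    haveI := hV.normal
    haveI : IsMulCommutative V :=
      ⟨⟨fun a b => Subtype.ext (hV.commute act hG _ a.2 _ b.2)⟩⟩
    obtain ⟨l, hl, hlexp⟩ := hV.exists_prime act hG
    haveI : Fact l.Prime := ⟨hl⟩
    have hlA : ¬ l ∣ Nat.card A := by
      intro h
      obtain ⟨x, hx, hx1⟩ : ∃ x ∈ V, x ≠ 1 := by
        by_contra! h'
        exact hV.ne_bot ((Subgroup.eq_bot_iff_forall V).mpr h')
      have hlG : l ∣ Nat.card G := orderOf_eq_prime (hlexp x hx) hx1 ▸ orderOf_dvd_natCard x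
      exact hl.ne_one (Nat.eq_one_of_dvd_coprimes hcopG h hlG)
    have hquotN : ∀ (N : Subgroup G) [N.Normal] (_ : N ≠ ⊥) (hN : Inv act N),
        NoFix (quotAct act N hN) ∧ (Nat.card A).Coprime (Nat.card (G ⧸ N)) ∧
        ∃ N₀ : Subgroup (G ⧸ N), N₀.Normal ∧ Group.IsNilpotent N₀ ∧
          ∃ k, (⊤ : Subgroup (G ⧸ N)).lowerCentralSeries k ≤ N₀ := by
      intro N _ hNb hN
      have h1 := noFix_quot' act hAsol hcopG hfix N hN
      have h2 := hcopG.coprime_dvd_right (Subgroup.card_quotient_dvd_card N)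
      exact ⟨h1, h2, ih (G ⧸ N) (by have := card_quot_lt hNb; omega) inferInstance _ h2 h1⟩
    set C := Subgroup.centralizer (V : Set G) with hC
    have hVC : V ≤ C := fun x hx => Subgroup.mem_centralizer_iff.mpr fun v hv => hV.commute act hG v hv x hx
    have hCb : C ≠ ⊥ := fun h => hV.ne_bot (le_bot_iff.mp (h ▸ hVC))
    set qa := quotAct act C (inv_centralizer act hV.invariant) with hqa
    obtain ⟨hqfix, hqcop, N₀, hN₀, hN₀nil, k₀, hk₀⟩ := hquotN C hCb (inv_centralizer act hV.invariant)
    -- the quotient acting faithfully on `V` is nilpotent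
    have hnilH : Group.IsNilpotent (G ⧸ C) := by
      set F := Cfsg.fittingSubgroup (G ⧸ C) with hF
      have hquot : Group.IsNilpotent ((G ⧸ C) ⧸ F) := by
        rw [nilpotent_iff_lowerCentralSeries]
        refine ⟨k₀, ?_⟩
        rw [← Subgroup.map_top_of_surjective _ (QuotientGroup.mk'_surjective F),
          ← Subgroup.map_lowerCentralSeries, Subgroup.map_eq_bot_iff, QuotientGroup.ker_mk']
        exact hk₀.trans (Cores.le_fittingSubgroup hN₀ hN₀nil)
      refine ((Group.isNilpotent_of_finite_tfae (G := G ⧸ C)).out 0 3).mpr ?_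
      intro t ht
      letI : MulDistribMulAction A (G ⧸ C) := MulDistribMulAction.compHom _ qa
      obtain ⟨Q, hQinv⟩ := Coprime.exists_smul_invariant_sylow (A := A) (G := G ⧸ C) hqcop (Or.inl hAsol) t
      have hFQ : F ≤ Subgroup.normalizer ((Q : Subgroup (G ⧸ C)) : Set (G ⧸ C)) := by
        rw [hF, Cores.fittingSubgroup_eq_iSup_pCore]
        refine iSup_le fun r => ?_
        haveI : Fact (r : ℕ).Prime := ⟨r.2⟩
        by_cases hrt : (r : ℕ) = t
        · rw [hrt]
          exact (Cores.pCore_le_sylow Q).trans Subgroup.le_normalizer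
        set R := Cfsg.pCore (r : ℕ) (G ⧸ C)
        have hRinv : Inv qa R := inv_of_characteristic qa R
        by_cases hRb : R = ⊥
        · rw [hRb]; exact bot_le
        have hrl : (r : ℕ) ≠ l := mod_prime_ne act V hV hlexp R hRinv hRb (Cores.isPGroup_pCore (r : ℕ) (G ⧸ C))
        have hcomm := sylow_le_centralizer hp hq hpq hA hAna hqcop hqfix (M := Additive V) hlA (mod_char V hlexp)
          (modRep V) (modS act V hV.invariant) (modRep_injective V)
          (fun a g v => modS_compat act V hV.invariant a g v) (modS_noFix act V hV.invariant hfix)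
          hrl hrt R (Q : Subgroup (G ⧸ C)) (Cores.pCore_normal (r : ℕ) (G ⧸ C)) hRinv hQinv
          (Cores.isPGroup_pCore (r : ℕ) (G ⧸ C)) Q.isPGroup'
        intro z hz
        rw [Subgroup.mem_normalizer_iff]
        intro u
        constructor
        · intro hu
          rwa [← hcomm u hu z hz, mul_inv_cancel_right]
        · intro hu
          have h1 : z * u * z⁻¹ * z = z * (z * u * z⁻¹) := hcomm _ hu z hz
          rw [inv_mul_cancel_right] at h1
          have : z * u * z⁻¹ = u := (mul_left_cancel h1).symm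
          rwa [this] at hu
      set QF := (Q : Subgroup (G ⧸ C)) ⊔ F with hQF
      haveI hQFn : QF.Normal := by
        haveI := hquot
        haveI : ((Q.mapSurjective (QuotientGroup.mk'_surjective F) : Sylow t ((G ⧸ C) ⧸ F)) :
            Subgroup ((G ⧸ C) ⧸ F)).Normal := inferInstance
        have h1 : QF = ((Q : Subgroup (G ⧸ C)).map (QuotientGroup.mk' F)).comap (QuotientGroup.mk' F) := by
          rw [Subgroup.comap_map_eq, QuotientGroup.ker_mk']
        rw [h1]
        exact Subgroup.Normal.comap this _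
      have hnorm : ∀ g : G ⧸ C, MulAut.conj g • (Q : Subgroup (G ⧸ C)) = (Q : Subgroup (G ⧸ C)) := by
        intro g
        have hle : MulAut.conj g • (Q : Subgroup (G ⧸ C)) ≤
            Subgroup.normalizer ((Q : Subgroup (G ⧸ C)) : Set (G ⧸ C)) :=
          (Cores.conj_smul_le_of_normal le_sup_left g).trans (sup_le Subgroup.le_normalizer hFQ)
        have hp' : IsPGroup t ↥(MulAut.conj g • (Q : Subgroup (G ⧸ C))) := Q.isPGroup'.map _
        have h1 := Q.is_maximal' (hp'.to_sup_of_normal_right' Q.isPGroup' hle) le_sup_right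
        exact Cores.conj_smul_le_iff_eq.mp (le_sup_left.trans h1.le)
      intro P
      have hQn : (Q : Subgroup (G ⧸ C)).Normal := Subgroup.normalizer_eq_top_iff.mp
        ((Subgroup.eq_top_iff' _).mpr fun g => Cores.conj_smul_eq_self_iff.mp (hnorm g))
      letI := Sylow.unique_of_normal Q hQn
      rw [Subsingleton.elim P Q]
      exact hQn
    -- combine
    obtain ⟨-, -, N₁, hN₁, hN₁nil, k₁, hk₁⟩ := hquotN V hV.ne_bot hV.invariant
    haveI := hN₁
    haveI := hN₁nil
    refine ⟨N₁.comap (QuotientGroup.mk' V) ⊓ C, inferInstance, ?_, ?_⟩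
    · let g : ↥(N₁.comap (QuotientGroup.mk' V) ⊓ C) →* N₁ :=
        ((QuotientGroup.mk' V).comp (N₁.comap (QuotientGroup.mk' V) ⊓ C).subtype).codRestrict N₁
          (fun x => x.2.1)
      refine Subgroup.isNilpotent_of_ker_le_center g ?_
      intro x hx
      have hxV : (x : G) ∈ V := (QuotientGroup.eq_one_iff _).mp (congrArg Subtype.val (MonoidHom.mem_ker.mp hx))
      rw [Subgroup.mem_center_iff]
      intro y
      exact Subtype.ext (Subgroup.mem_centralizer_iff.mp y.2.2 _ hxV).symm
    · obtain ⟨k₂, hk₂⟩ := nilpotent_iff_lowerCentralSeries.mp hnilH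
      refine ⟨max k₁ k₂, le_inf ?_ ?_⟩
      · refine (Subgroup.lowerCentralSeries_antitone _ (le_max_left _ _)).trans ?_
        rw [← Subgroup.map_le_iff_le_comap, Subgroup.map_lowerCentralSeries,
          Subgroup.map_top_of_surjective _ (QuotientGroup.mk'_surjective V)]
        exact hk₁
      · refine (Subgroup.lowerCentralSeries_antitone _ (le_max_right _ _)).trans ?_
        rw [← QuotientGroup.ker_mk' C, ← Subgroup.map_eq_bot_iff, Subgroup.map_lowerCentralSeries,
          Subgroup.map_top_of_surjective _ (QuotientGroup.mk'_surjective C)]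
        exact hk₂


/-- Let `A` be a non-abelian group of order `pq` with `p, q` distinct primes, acting by automorphisms on a finite solvable group `G` of order prime to `pq`, so that only the identity of `G` is fixed by all of `A`. Then `G` has Fitting height at most 2: there is a normal nilpotent subgroup `F` of `G` with `G/F` nilpotent. -/
theorem result {G A : Type*} [Group G] [Finite G]
    [Group.IsSolvable G] [Group A] [Finite A] [MulDistribMulAction A G] (p q : ℕ) (hp : p.Prime) (hq : q.Prime) (hpq : p ≠ q)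
    (hA : Nat.card A = p * q) (hAna : ¬ IsMulCommutative A) (hcop : (Nat.card G).Coprime (p * q))
    (hfpf : ∀ g : G, (∀ a : A, a • g = g) → g = 1) :
    ∃ F : Subgroup G, ∃ hF : F.Normal, Group.IsNilpotent ↥F ∧ Group.IsNilpotent (G ⧸ F) := by
  have hcop' : (Nat.card A).Coprime (Nat.card G) := by rw [hA]; exact hcop.symm
  obtain ⟨N, hN, hNnil, k, hk⟩ := main hp hq hpq hA hAna (Nat.card G) G le_rfl ‹_›
    (MulDistribMulAction.toMulAut A G) hcop' hfpf
  refine ⟨N, hN, hNnil, ?_⟩
  rw [nilpotent_iff_lowerCentralSeries]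
  refine ⟨k, ?_⟩
  rw [← Subgroup.map_top_of_surjective _ (QuotientGroup.mk'_surjective N), ← Subgroup.map_lowerCentralSeries,
    Subgroup.map_eq_bot_iff, QuotientGroup.ker_mk']
  exact hk

end Cfsg.Agent.S4306
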