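import Cfsg.Statements.S4309
import Cfsg.Agent.EqLemmas

set_option autoImplicit false
open Cfsg

namespace Cfsg.Agent.S4309

lemma relIndex_dvd_index {G : Type*} [Group G] [Finite G] (H K : Subgroup G) [K.Normal] :
    H.relIndex K ∣ H.index := by
  have h1 : (H ⊓ K).relIndex H * H.index = (H ⊓ K).index := Subgroup.relIndex_mul_index inf_le_left
  have h2 : (H ⊓ K).relIndex K * K.index = (H ⊓ K).index := Subgroup.relIndex_mul_index inf_le_right
  have h3 : K.relIndex (H ⊔ K) * (H ⊔ K).index = K.index := Subgroup.relIndex_mul_index le_sup_right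
  rw [Subgroup.inf_relIndex_left] at h1
  rw [Subgroup.inf_relIndex_right] at h2
  rw [Subgroup.relIndex_sup_right] at h3
  have hne : K.relIndex H ≠ 0 := Subgroup.FiniteIndex.index_ne_zero
  refine ⟨(H ⊔ K).index, mul_left_cancel₀ hne ?_⟩
  rw [h1, ← h2, ← h3]; ring

/-- Let `π` be a set of primes, `G` a finite group with a Hall `π`-subgroup `H` (every prime divisor of the order of `H` lies in `π` and no prime of `π` divides its index), and `A` a normal subgroup of `G`. Then `H ∩ A` is a Hall `π`-subgroup of `A` and the image of `H` in `G/A` is a Hall `π`-subgroup of `G/A`. -/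
theorem result {G : Type*} [Group G] [Finite G] (π : Set ℕ)
    (H A : Subgroup G) [A.Normal] (hH : Cfsg.IsPiHall π H) :
    Cfsg.IsPiHall π ((H ⊓ A).subgroupOf A) ∧ Cfsg.IsPiHall π (H.map (QuotientGroup.mk' A)) := by
  refine ⟨⟨fun p hp hd => hH.1 p hp ?_, fun p hp hpπ hd => hH.2 p hp hpπ ?_⟩,
    ⟨fun p hp hd => hH.1 p hp (hd.trans (Subgroup.card_map_dvd H _)),
     fun p hp hpπ hd => hH.2 p hp hpπ (hd.trans (Subgroup.index_map_dvd H (QuotientGroup.mk'_surjective A)))⟩⟩
  · rw [Nat.card_congr (Subgroup.subgroupOfEquivOfLe (inf_le_right : H ⊓ A ≤ A)).toEquiv] at hd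
    exact hd.trans (Subgroup.card_dvd_of_le inf_le_left)
  · have e : ((H ⊓ A).subgroupOf A).index = H.relIndex A := Subgroup.inf_relIndex_right H A
    rw [e] at hd
    exact hd.trans (relIndex_dvd_index H A)

end Cfsg.Agent.S4309
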