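import Cfsg.Statements.S4314
import Cfsg.Agent.EqLemmas
import Cfsg.Agent.Lib.Coprime.Factorization
import Cfsg.Agent.S4387

set_option autoImplicit false
open Cfsg

namespace Cfsg.Agent.S4314

open scoped Pointwise commutatorElement

section
variable {G : Type*} [Group G]

/-- class size -/
noncomputable def idx (z : G) : ℕ := (Subgroup.centralizer ({z} : Set G)).index

/-- conjugacy class as a set -/
def cls (z : G) : Set G := Set.range (fun g : G => g * z * g⁻¹)

theorem mem_cent {z g : G} : g ∈ Subgroup.centralizer ({z} : Set G) ↔ g * z = z * g :=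
  Subgroup.mem_centralizer_singleton_iff

theorem conj_eq_iff {z g h : G} :
    g * z * g⁻¹ = h * z * h⁻¹ ↔ g⁻¹ * h ∈ Subgroup.centralizer ({z} : Set G) := by
  rw [mem_cent]
  constructor
  · intro e
    calc g⁻¹ * h * z = g⁻¹ * (h * z * h⁻¹) * h := by group
      _ = g⁻¹ * (g * z * g⁻¹) * h := by rw [e]
      _ = z * (g⁻¹ * h) := by group
  · intro e
    calc g * z * g⁻¹ = g * (z * (g⁻¹ * h)) * h⁻¹ := by group
      _ = g * (g⁻¹ * h * z) * h⁻¹ := by rw [e]
      _ = h * z * h⁻¹ := by group

theorem ncard_cls (z : G) : (cls z).ncard = idx z := by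
  rw [idx, Subgroup.index_eq_card, ← Nat.card_coe_set_eq]
  refine (Nat.card_eq_of_bijective (fun q : G ⧸ Subgroup.centralizer ({z} : Set G) =>
    Quotient.liftOn' q (fun g => (⟨g * z * g⁻¹, g, rfl⟩ : cls z)) (fun a b hab => Subtype.ext
      (conj_eq_iff.mpr (QuotientGroup.leftRel_apply.mp hab)))) ⟨?_, ?_⟩).symm
  · intro q r
    induction q using QuotientGroup.induction_on with | H g => ?_
    induction r using QuotientGroup.induction_on with | H h => ?_
    intro e
    exact QuotientGroup.eq.mpr (conj_eq_iff.mp (congrArg Subtype.val e))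
  · rintro ⟨_, g, rfl⟩
    exact ⟨(g : G ⧸ _), rfl⟩

variable [Finite G]

theorem idx_pos (z : G) : 0 < idx z := Nat.pos_of_ne_zero Subgroup.index_ne_zero_of_finite

theorem idx_eq_one {z : G} : idx z = 1 ↔ z ∈ Subgroup.center G := by
  rw [idx, Subgroup.index_eq_one, Subgroup.eq_top_iff', Subgroup.mem_center_iff]
  exact forall_congr' fun g => mem_cent

theorem inf_index {A B : Subgroup G} (h : A.index.Coprime B.index) : (A ⊓ B).index = A.index * B.index :=
  Nat.le_antisymm Subgroup.index_inf_le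
    (Nat.le_of_dvd (Nat.pos_of_ne_zero Subgroup.index_ne_zero_of_finite)
      (h.mul_dvd_of_dvd_of_dvd (Subgroup.index_dvd_of_le inf_le_left) (Subgroup.index_dvd_of_le inf_le_right)))

theorem exists_eq_mul {A B : Subgroup G} (h : A.index.Coprime B.index) (g : G) :
    ∃ a ∈ A, ∃ b ∈ B, a * b = g := by
  have h1 := Coprime.card_mul_inf A B
  have h2 := inf_index h
  have hA := A.card_mul_index
  have hB := B.card_mul_index
  have hAB := (A ⊓ B).card_mul_index
  rw [h2] at hAB
  have h3 : Nat.card ((A : Set G) * (B : Set G) : Set G) = Nat.card G := by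
    apply Nat.eq_of_mul_eq_mul_right (Nat.mul_pos Nat.card_pos
      (Nat.mul_pos (Nat.pos_of_ne_zero (Subgroup.index_ne_zero_of_finite (H := A)))
        (Nat.pos_of_ne_zero (Subgroup.index_ne_zero_of_finite (H := B)))) :
      0 < Nat.card (A ⊓ B : Subgroup G) * (A.index * B.index))
    rw [← mul_assoc, h1]
    calc Nat.card A * Nat.card B * (A.index * B.index)
        = (Nat.card A * A.index) * (Nat.card B * B.index) := by ring
      _ = Nat.card G * (Nat.card (A ⊓ B : Subgroup G) * (A.index * B.index)) := by rw [hA, hB, hAB]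
  have h4 : ((A : Set G) * (B : Set G) : Set G) = Set.univ :=
    Set.eq_of_subset_of_ncard_le (Set.subset_univ _) (by rw [Set.ncard_univ, ← Nat.card_coe_set_eq, h3]) (Set.toFinite _)
  exact Set.mem_mul.mp (h4 ▸ Set.mem_univ g)

theorem simul {x y : G} (h : (idx x).Coprime (idx y)) (g k : G) :
    ∃ w, w * x * w⁻¹ = g * x * g⁻¹ ∧ w * y * w⁻¹ = k * y * k⁻¹ := by
  obtain ⟨c, hc, d, hd, e⟩ := exists_eq_mul h (g⁻¹ * k)
  refine ⟨g * c, conj_eq_iff.mpr (by simpa using Subgroup.inv_mem _ hc), conj_eq_iff.mpr ?_⟩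
  rw [show (g * c)⁻¹ * k = c⁻¹ * (g⁻¹ * k) by group, ← e]
  simpa using hd

theorem dvd_mul_idx {x y : G} (h : (idx x).Coprime (idx y)) : idx (x * y) ∣ idx x * idx y := by
  rw [idx, idx, idx, ← inf_index h]
  refine Subgroup.index_dvd_of_le fun g hg => mem_cent.mpr ?_
  rw [← mul_assoc, mem_cent.mp hg.1, mul_assoc, mem_cent.mp hg.2, mul_assoc]

theorem idx_comm (x y : G) : idx (x * y) = idx (y * x) := by
  rw [← ncard_cls, ← ncard_cls]
  congr 1
  ext a
  exact ⟨fun ⟨g, hg⟩ => ⟨g * x, by rw [← hg]; show g * x * (y * x) * (g * x)⁻¹ = g * (x * y) * g⁻¹; group⟩,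
    fun ⟨g, hg⟩ => ⟨g * x⁻¹, by rw [← hg]; show g * x⁻¹ * (x * y) * (g * x⁻¹)⁻¹ = g * (y * x) * g⁻¹; group⟩⟩

/-- The key lemma: the classes differ by a normal subgroup of order `idx x`. -/
theorem pair {x y : G} (hp : (idx x).Prime) (hy : idx y ≠ 1) (hco : (idx x).Coprime (idx y))
    (hxy : idx (x * y) = idx x) :
    ∃ T : Subgroup G, T.Normal ∧ Nat.card T = idx x ∧ (∀ a ∈ cls x, x⁻¹ * a ∈ T) ∧
      (∀ b ∈ cls y, b * y⁻¹ ∈ T) ∧ ∀ u ∈ T, x * u ∈ cls x := by
  classical
  set T := Subgroup.closure ((fun b => b * y⁻¹) '' cls y) with hT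
  have hTn : T.Normal := by
    refine ⟨fun u hu g => ?_⟩
    induction hu using Subgroup.closure_induction with
    | mem u hu =>
      obtain ⟨b, ⟨k, rfl⟩, rfl⟩ := hu
      have h1 : (g * k) * y * (g * k)⁻¹ * y⁻¹ ∈ T := Subgroup.subset_closure ⟨_, ⟨g * k, rfl⟩, rfl⟩
      have h2 : g * y * g⁻¹ * y⁻¹ ∈ T := Subgroup.subset_closure ⟨_, ⟨g, rfl⟩, rfl⟩
      convert T.mul_mem h1 (T.inv_mem h2) using 1
      show g * (k * y * k⁻¹ * y⁻¹) * g⁻¹ = _
      group
    | one => simp
    | mul a b _ _ ha hb =>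
      rw [show g * (a * b) * g⁻¹ = (g * a * g⁻¹) * (g * b * g⁻¹) by group]; exact T.mul_mem ha hb
    | inv a _ ha => rw [show g * a⁻¹ * g⁻¹ = (g * a * g⁻¹)⁻¹ by group]; exact T.inv_mem ha
  have hstep : ∀ a ∈ cls x, ∀ b ∈ cls y, a * (b * y⁻¹) ∈ cls x := by
    rintro _ ⟨g, rfl⟩ _ ⟨k, rfl⟩
    obtain ⟨w, hwx, hwy⟩ := simul hco g k
    have hsub : (fun a => a * y) '' cls x ⊆ cls (x * y) := by
      rintro _ ⟨_, ⟨g', rfl⟩, rfl⟩
      obtain ⟨v, hvx, hvy⟩ := simul hco g' 1
      refine ⟨v, ?_⟩
      simp only [one_mul, inv_one, mul_one] at hvy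
      show v * (x * y) * v⁻¹ = g' * x * g'⁻¹ * y
      rw [← hvx]
      calc v * (x * y) * v⁻¹ = v * x * v⁻¹ * (v * y * v⁻¹) := by group
        _ = _ := by rw [hvy]
    have heq := Set.eq_of_subset_of_ncard_le hsub (by
      rw [Set.ncard_image_of_injective _ (mul_left_injective y), ncard_cls, ncard_cls, hxy]) (Set.toFinite _)
    have hm : w * (x * y) * w⁻¹ ∈ cls (x * y) := ⟨w, rfl⟩
    rw [← heq] at hm
    obtain ⟨a', ha', e⟩ := hm
    convert ha' using 1
    have e' : g * x * g⁻¹ * (k * y * k⁻¹) = a' * y := by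
      rw [← hwx, ← hwy, show a' * y = w * (x * y) * w⁻¹ from e]; group
    rw [← mul_assoc, e', mul_inv_cancel_right]
  have hinv : ∀ u ∈ T, ∀ a ∈ cls x, a * u ∈ cls x := by
    intro u hu
    induction hu using Subgroup.closure_induction with
    | mem u hu => obtain ⟨b, hb, rfl⟩ := hu; exact fun a ha => hstep a ha b hb
    | one => exact fun a ha => by rwa [mul_one]
    | mul u v _ _ hu hv => exact fun a ha => by rw [← mul_assoc]; exact hv _ (hu a ha)
    | inv u _ hu =>
      intro a ha
      have hfin := Set.eq_of_subset_of_ncard_le (s := (fun a => a * u) '' cls x) (t := cls x)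
        (by rintro _ ⟨b, hb, rfl⟩; exact hu b hb)
        (by rw [Set.ncard_image_of_injective _ (mul_left_injective u)]) (Set.toFinite _)
      obtain ⟨b, hb, e⟩ := hfin.ge ha
      rw [← e]
      simpa using hb
  have hx0 : x ∈ cls x := ⟨1, by simp⟩
  have hpre : (QuotientGroup.mk ⁻¹' ((QuotientGroup.mk : G → G ⧸ T) '' cls x)) = cls x := by
    refine subset_antisymm ?_ (Set.subset_preimage_image _ _)
    rintro a ⟨b, hb, e⟩
    have := hinv _ (QuotientGroup.eq.mp e) b hb
    rwa [mul_inv_cancel_left] at this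
  have hcard : Nat.card T * Nat.card ((QuotientGroup.mk : G → G ⧸ T) '' cls x) = idx x := by
    rw [← Nat.card_prod, ← Nat.card_congr (QuotientGroup.preimageMkEquivSubgroupProdSet T _), hpre,
      Nat.card_coe_set_eq, ncard_cls]
  have hT1 : T ≠ ⊥ := by
    intro h
    apply hy
    rw [idx_eq_one, Subgroup.mem_center_iff]
    intro g
    have h1 : g * y * g⁻¹ * y⁻¹ ∈ T := Subgroup.subset_closure ⟨_, ⟨g, rfl⟩, rfl⟩
    rw [h, Subgroup.mem_bot, mul_inv_eq_one, mul_inv_eq_iff_eq_mul] at h1
    exact h1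
  have hTc : Nat.card T = idx x := by
    rcases (Nat.dvd_prime hp).mp (Dvd.intro _ hcard) with h | h
    · exact absurd (Subgroup.card_eq_one.mp h) hT1
    · exact h
  refine ⟨T, hTn, hTc, fun a ha => ?_, fun b hb => Subgroup.subset_closure ⟨b, hb, rfl⟩,
    fun u hu => hinv u hu x hx0⟩
  have heq := Set.eq_of_subset_of_ncard_le (s := (fun u => x * u) '' (T : Set G)) (t := cls x)
    (by rintro _ ⟨u, hu, rfl⟩; exact hinv u hu x hx0)
    (by rw [Set.ncard_image_of_injective _ (mul_right_injective x), ncard_cls, ← Nat.card_coe_set_eq]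
        exact hTc.ge) (Set.toFinite _)
  obtain ⟨u, hu, e⟩ := heq.ge ha
  rw [← e, inv_mul_cancel_left]
  exact hu

theorem case_same {p : ℕ} (hp : p.Prime) (h : ∀ x : G, idx x = 1 ∨ idx x = p) :
    Subgroup.upperCentralSeries G 2 = ⊤ := by
  have hcent : ∀ q : ℕ, q.Prime → q ≠ p → ∀ Q : Sylow q G, Subgroup.centralizer ((Q : Subgroup G) : Set G) = ⊤ := by
    intro q hq hqp Q
    have := Fact.mk hq
    by_contra hne
    refine S4387.union_conj_ne_univ _ hne fun x => ?_
    obtain ⟨R⟩ := (inferInstance : Nonempty (Sylow q (Subgroup.centralizer ({x} : Set G))))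
    set C := Subgroup.centralizer ({x} : Set G)
    have hRc : Nat.card ((R : Subgroup C).map C.subtype) = q ^ (Nat.card G).factorization q := by
      rw [Subgroup.card_map_of_injective C.subtype_injective, R.card_eq_multiplicity]
      congr 1
      have hi : C.index = 1 ∨ C.index = p := h x
      rw [← C.card_mul_index, Nat.factorization_mul Nat.card_pos.ne' Subgroup.index_ne_zero_of_finite, Finsupp.add_apply]
      have : C.index.factorization q = 0 := by
        rcases hi with e | e <;> rw [e]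
        · simp
        · exact Nat.factorization_eq_zero_of_not_dvd fun hd => hqp ((Nat.prime_dvd_prime_iff_eq hq hp).mp hd)
      rw [this, add_zero]
    obtain ⟨g, hg⟩ := MulAction.exists_smul_eq G Q (Sylow.ofCard _ hRc)
    refine ⟨g, ?_⟩
    rw [Subgroup.mem_pointwise_smul_iff_inv_smul_mem, ← map_inv, MulAut.smul_def, MulAut.conj_apply, inv_inv,
      Subgroup.mem_centralizer_iff]
    intro z hz
    have h1 : g * z * g⁻¹ ∈ (R : Subgroup C).map C.subtype := by
      have h2 : g * z * g⁻¹ ∈ ((g • Q : Sylow q G) : Subgroup G) := by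
        rw [Sylow.coe_subgroup_smul, Subgroup.mem_pointwise_smul_iff_inv_smul_mem, ← map_inv, MulAut.smul_def,
          MulAut.conj_apply, inv_inv]
        have hz' : z ∈ (Q : Subgroup G) := hz
        simpa [mul_assoc] using hz'
      rw [hg] at h2
      exact h2
    have h2 := mem_cent.mp (Subgroup.map_subtype_le _ h1)
    calc z * (g⁻¹ * x * g) = g⁻¹ * (g * z * g⁻¹ * x) * g := by group
      _ = g⁻¹ * (x * (g * z * g⁻¹)) * g := by rw [h2]
      _ = g⁻¹ * x * g * z := by group
  have := Fact.mk hp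
  have hpg : IsPGroup p (G ⧸ Subgroup.center G) := by
    obtain ⟨a, ha⟩ : ∃ a, Nat.card (G ⧸ Subgroup.center G) = p ^ a := by
      refine ⟨_, Nat.eq_prime_pow_of_unique_prime_dvd Nat.card_pos.ne' ?_⟩
      intro q hq hqd
      by_contra hne
      have := Fact.mk hq
      obtain ⟨Q⟩ := (inferInstance : Nonempty (Sylow q G))
      have hQ : (Q : Subgroup G) ≤ Subgroup.center G := fun z hz => Subgroup.mem_center_iff.mpr fun g => by
        have hg : g ∈ Subgroup.centralizer ((Q : Subgroup G) : Set G) := hcent q hq hne Q ▸ Subgroup.mem_top g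
        exact (hg z hz).symm
      apply Q.not_dvd_index
      rw [← Subgroup.index_eq_card] at hqd
      exact hqd.trans (Subgroup.index_dvd_of_le hQ)
    exact IsPGroup.of_card ha
  have hnil : Group.IsNilpotent G :=
    Group.of_quotient_center_nilpotent hpg.isNilpotent
  have hnormal : ∀ x : G, (Subgroup.centralizer ({x} : Set G)).Normal := by
    intro x
    rcases h x with e | e
    · rw [Subgroup.index_eq_one.mp e]; infer_instance
    · refine Subgroup.NormalizerCondition.normal_of_coatom _ Group.normalizerCondition_of_isNilpotent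
        ⟨fun htop => hp.ne_one (by rw [← e, idx, htop, Subgroup.index_top]), fun K hK => ?_⟩
      have hd := Subgroup.index_dvd_of_le hK.le
      rw [show (Subgroup.centralizer ({x} : Set G)).index = p from e, Nat.dvd_prime hp] at hd
      rcases hd with hd | hd
      · exact Subgroup.index_eq_one.mp hd
      · exfalso
        refine hK.ne (Subgroup.eq_of_le_of_card_ge hK.le ?_)
        have h1 := K.card_mul_index
        rw [hd, ← (Subgroup.centralizer ({x} : Set G)).card_mul_index,
          show (Subgroup.centralizer ({x} : Set G)).index = p from e] at h1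
        exact (Nat.eq_of_mul_eq_mul_right hp.pos h1).le
  rw [Subgroup.eq_top_iff']
  intro a
  rw [show (2 : ℕ) = 1 + 1 from rfl, Subgroup.mem_upperCentralSeries_succ_iff]
  intro g
  rw [Subgroup.upperCentralSeries_one, Subgroup.mem_center_iff]
  intro x
  have := hnormal x
  have hq : ⁅a, g⁆ ∈ Subgroup.centralizer ({x} : Set G) := by
    rw [← QuotientGroup.eq_one_iff, ← QuotientGroup.mk'_apply, map_commutatorElement, commutatorElement_eq_one_iff_mul_comm]
    rcases h x with e | e
    · have : Subsingleton (G ⧸ Subgroup.centralizer ({x} : Set G)) := by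
        rw [← Finite.card_le_one_iff_subsingleton, ← Subgroup.index_eq_card]; exact le_of_eq e
      exact Subsingleton.elim _ _
    · have hcyc : IsCyclic (G ⧸ Subgroup.centralizer ({x} : Set G)) :=
        isCyclic_of_prime_card (p := p) (by rw [← Subgroup.index_eq_card]; exact e)
      let _ := hcyc.commGroup
      exact mul_comm _ _
  exact (mem_cent.mp hq).symm

theorem case_diff (h : ∀ x : G, idx x = 1 ∨ (idx x).Prime) {x y : G} (hp : (idx x).Prime) (hq : (idx y).Prime)
    (hpq : idx x ≠ idx y) (hxy : idx (x * y) = idx x) :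
    ∃ p q : ℕ, p.Prime ∧ q.Prime ∧ p ≠ q ∧ Nat.card (G ⧸ Subgroup.center G) = p * q ∧
      ¬ IsMulCommutative (G ⧸ Subgroup.center G) := by
  have hco := (Nat.coprime_primes hp hq).mpr hpq
  obtain ⟨T, hTn, hTc, hTx, hTy, hxT⟩ := pair hp hq.ne_one hco hxy
  have := Fact.mk hp
  have hTp : ∀ U : Subgroup G, ∀ u ∈ U, u ∈ T → u ≠ 1 → T ≤ U := by
    intro U u huU huT hu v hv
    have hz : (⟨v, hv⟩ : T) ∈ Subgroup.zpowers (⟨u, huT⟩ : T) :=
      mem_zpowers_of_prime_card hTc (fun e => hu (congrArg Subtype.val e))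
    obtain ⟨i, hi⟩ := Subgroup.mem_zpowers_iff.mp hz
    rw [show v = u ^ i from (congrArg Subtype.val hi).symm]
    exact U.zpow_mem huU i
  obtain ⟨t, htT, htz⟩ : ∃ t ∈ T, t ∉ Subgroup.center G := by
    by_contra! hc
    apply hpq
    let φ : G →* T := MonoidHom.mk' (fun g => ⟨g * y * g⁻¹ * y⁻¹, hTy _ ⟨g, rfl⟩⟩) fun a b => Subtype.ext (by
      have h1 := Subgroup.mem_center_iff.mp (hc _ (hTy _ ⟨b, rfl⟩)) a
      show a * b * y * (a * b)⁻¹ * y⁻¹ = a * y * a⁻¹ * y⁻¹ * (b * y * b⁻¹ * y⁻¹)
      calc a * b * y * (a * b)⁻¹ * y⁻¹ = (a * (b * y * b⁻¹ * y⁻¹)) * y * a⁻¹ * y⁻¹ := by group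
        _ = (b * y * b⁻¹ * y⁻¹) * (a * y * a⁻¹ * y⁻¹) := by rw [h1]; group
        _ = _ := (Subgroup.mem_center_iff.mp (hc _ (hTy _ ⟨b, rfl⟩)) _).symm)
    have hker : φ.ker = Subgroup.centralizer ({y} : Set G) := by
      ext g
      rw [MonoidHom.mem_ker, mem_cent]
      show (⟨_, _⟩ : T) = 1 ↔ _
      rw [Subgroup.mk_eq_one, mul_inv_eq_one, mul_inv_eq_iff_eq_mul]
    have hd := Subgroup.card_subgroup_dvd_card φ.range
    rw [← Subgroup.index_ker, hker, hTc] at hd
    exact ((Nat.prime_dvd_prime_iff_eq hq hp).mp hd).symm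
  have hr : (idx t).Prime := (h t).resolve_left (mt idx_eq_one.mp htz)
  have ht1 : t ≠ 1 := fun e => htz (e ▸ Subgroup.one_mem _)
  have hclsT : ∀ a ∈ cls t, a ∈ T := by
    rintro _ ⟨g, rfl⟩; exact hTn.conj_mem t htT g
  have hrp : idx t ≠ idx x := by
    intro e
    have hsub : cls t ⊆ (T : Set G) \ {1} := fun a ha => ⟨hclsT a ha, by
      obtain ⟨g, rfl⟩ := ha
      exact fun e1 => ht1 (conj_eq_one_iff.mp e1)⟩
    have hle := Set.ncard_le_ncard hsub (Set.toFinite _)
    rw [ncard_cls, Set.ncard_sdiff_singleton_of_mem (show (1 : G) ∈ (T : Set G) from T.one_mem),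
      ← Nat.card_coe_set_eq, e] at hle
    rw [show Nat.card (T : Set G) = idx x from hTc] at hle
    have := hp.two_le
    omega
  -- all commutators lie in `T`
  have hcomm : ∀ z g : G, g * z * g⁻¹ * z⁻¹ ∈ T := by
    intro z g
    have hflip : z⁻¹ * (g * z * g⁻¹) ∈ T → g * z * g⁻¹ * z⁻¹ ∈ T := fun hh => by
      have := hTn.conj_mem _ hh z
      simpa [mul_assoc] using this
    rcases h z with e | e
    · have := mem_cent.mp ((Subgroup.index_eq_one.mp e) ▸ Subgroup.mem_top g :
        g ∈ Subgroup.centralizer ({z} : Set G))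
      rw [this, mul_inv_cancel_right, mul_inv_cancel]; exact T.one_mem
    by_cases hzp : idx z = idx x
    · have hco' : (idx t).Coprime (idx z) := hzp ▸ (Nat.coprime_primes hr hp).mpr hrp
      have hd := dvd_mul_idx hco'
      rcases h (t * z) with e1 | e1
      · exfalso
        apply hrp
        rw [← hzp]
        rw [idx_eq_one] at e1
        have : Subgroup.centralizer ({t} : Set G) = Subgroup.centralizer ({z} : Set G) := by
          ext k
          have hk := Subgroup.mem_center_iff.mp e1 k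
          rw [mem_cent, mem_cent]
          constructor <;> intro hh
          · rw [← mul_assoc, hh] at hk
            simpa [mul_assoc] using hk
          · rw [mul_assoc t z k, ← hh, ← mul_assoc, ← mul_assoc] at hk
            exact mul_right_cancel hk
        rw [idx, idx, this]
      rcases (Nat.dvd_mul.mp hd) with ⟨d1, d2, h1, h2, h3⟩
      have : idx (t * z) = idx t ∨ idx (t * z) = idx z := by
        rcases (Nat.dvd_prime hr).mp h1 with rfl | rfl <;> rcases (Nat.dvd_prime e).mp h2 with rfl | rfl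
        · rw [← h3] at e1; exact absurd e1 (by norm_num)
        · right; omega
        · left; omega
        · rw [← h3] at e1; exact absurd e1 (Nat.not_prime_mul hr.ne_one e.ne_one)
      rcases this with e2 | e2
      · exfalso
        obtain ⟨U, _, hUc, _, _, hU⟩ := pair hr e.ne_one hco' e2
        have hUT : U ≤ T := fun u hu => by
          have := T.mul_mem (T.inv_mem htT) (hclsT _ (hU u hu))
          rwa [inv_mul_cancel_left] at this
        have := Subgroup.card_dvd_of_le hUT
        rw [hUc, hTc] at this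
        exact hrp ((Nat.prime_dvd_prime_iff_eq hr hp).mp this)
      · have hzt : idx (z * t) = idx z := by rw [idx_comm, e2]
        obtain ⟨U, _, hUc, hUx, hUy, _⟩ := pair e hr.ne_one hco'.symm hzt
        obtain ⟨k, hk⟩ : ∃ k : G, k * t * k⁻¹ ≠ t := by
          by_contra! hh
          exact htz (Subgroup.mem_center_iff.mpr fun k => mul_inv_eq_iff_eq_mul.mp (hh k))
        have hTU : T ≤ U := hTp U _ (hUy _ ⟨k, rfl⟩) (T.mul_mem (hTn.conj_mem t htT k) (T.inv_mem htT))
          (by rw [Ne, mul_inv_eq_one]; exact hk)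
        have hUT : U = T := (Subgroup.eq_of_le_of_card_ge hTU (by rw [hUc, hTc, hzp])).symm
        exact hflip (hUT ▸ hUx _ ⟨g, rfl⟩)
    · have hco' : (idx x).Coprime (idx z) := (Nat.coprime_primes hp e).mpr (Ne.symm hzp)
      have hd := dvd_mul_idx hco'
      rcases h (x * z) with e1 | e1
      · exfalso
        apply hzp
        rw [idx_eq_one] at e1
        have : Subgroup.centralizer ({x} : Set G) = Subgroup.centralizer ({z} : Set G) := by
          ext k
          have hk := Subgroup.mem_center_iff.mp e1 k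
          rw [mem_cent, mem_cent]
          constructor <;> intro hh
          · rw [← mul_assoc, hh] at hk
            simpa [mul_assoc] using hk
          · rw [mul_assoc x z k, ← hh, ← mul_assoc, ← mul_assoc] at hk
            exact mul_right_cancel hk
        rw [idx, idx, this]
      rcases (Nat.dvd_mul.mp hd) with ⟨d1, d2, h1, h2, h3⟩
      have : idx (x * z) = idx x ∨ idx (x * z) = idx z := by
        rcases (Nat.dvd_prime hp).mp h1 with rfl | rfl <;> rcases (Nat.dvd_prime e).mp h2 with rfl | rfl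
        · rw [← h3] at e1; exact absurd e1 (by norm_num)
        · right; omega
        · left; omega
        · rw [← h3] at e1; exact absurd e1 (Nat.not_prime_mul hp.ne_one e.ne_one)
      rcases this with e2 | e2
      · obtain ⟨U, _, hUc, _, hUy, hU⟩ := pair hp e.ne_one hco' e2
        have hUT : U ≤ T := fun u hu => by
          have := hTx _ (hU u hu)
          rwa [inv_mul_cancel_left] at this
        exact hUT (hUy _ ⟨g, rfl⟩)
      · exfalso
        have hzx : idx (z * x) = idx z := by rw [idx_comm, e2]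
        obtain ⟨U, _, hUc, _, hUy, _⟩ := pair e hp.ne_one hco'.symm hzx
        obtain ⟨k, hk⟩ : ∃ k : G, k * x * k⁻¹ ≠ x := by
          by_contra! hh
          exact hp.ne_one (idx_eq_one.mpr (Subgroup.mem_center_iff.mpr fun k => mul_inv_eq_iff_eq_mul.mp (hh k)))
        have hmem : k * x * k⁻¹ * x⁻¹ ∈ T := by
          have := hTn.conj_mem _ (hTx _ ⟨k, rfl⟩) x
          simpa [mul_assoc] using this
        have hTU := hTp U _ (hUy _ ⟨k, rfl⟩) hmem (by rw [Ne, mul_inv_eq_one]; exact hk)
        have := Subgroup.card_dvd_of_le hTU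
        rw [hTc, hUc] at this
        exact hzp ((Nat.prime_dvd_prime_iff_eq hp e).mp this).symm
  -- structure
  obtain ⟨g, hg⟩ : ∃ g : G, g ∉ Subgroup.centralizer ({t} : Set G) := by
    by_contra! hh
    exact htz (Subgroup.mem_center_iff.mpr fun k => mem_cent.mp (hh k))
  set Cg := Subgroup.centralizer ({g} : Set G) with hCg
  set Ct := Subgroup.centralizer ({t} : Set G) with hCt
  have hTCt : T ≤ Ct := fun u hu => mem_cent.mpr (by
    have hu' : u ∈ Subgroup.zpowers t := hTp _ t (Subgroup.mem_zpowers t) htT ht1 hu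
    obtain ⟨i, rfl⟩ := Subgroup.mem_zpowers_iff.mp hu'
    exact (Commute.self_zpow t i).symm.eq)
  have hinf : Cg ⊓ T = ⊥ := by
    rw [Subgroup.eq_bot_iff_forall]
    rintro u ⟨hu, huT⟩
    by_contra hu1
    have hu2 : t ∈ Cg := hTp Cg u hu huT hu1 htT
    exact hg (mem_cent.mpr (mem_cent.mp hu2).symm)
  have hgidx : idx g ≤ idx x := by
    rw [← ncard_cls, ← hTc]
    refine le_trans (Set.ncard_le_ncard (t := (fun u => u * g) '' (T : Set G)) ?_ (Set.toFinite _)) ?_
    · rintro _ ⟨k, rfl⟩
      exact ⟨_, hcomm g k, by simp⟩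
    · rw [Set.ncard_image_of_injective _ (mul_left_injective g), ← Nat.card_coe_set_eq]; rfl
  have hcompl : Subgroup.IsComplement' Cg T := by
    refine Subgroup.isComplement'_of_card_mul_and_disjoint ?_ (disjoint_iff.mpr hinf)
    apply le_antisymm
    · rw [← Nat.card_prod]
      refine Nat.card_le_card_of_injective (fun c => (c.1 : G) * c.2) (Subgroup.mul_injective_of_disjoint (disjoint_iff.mpr hinf))
    · rw [← Cg.card_mul_index, hTc]
      exact Nat.mul_le_mul_left _ hgidx
  have hgp : Cg.index = idx x := by rw [hcompl.symm.index_eq_card, hTc]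
  have hab : ∀ a ∈ Cg, ∀ b ∈ Cg, a * b = b * a := by
    intro a ha b hb
    have h1 : a * b * a⁻¹ * b⁻¹ ∈ Cg ⊓ T :=
      ⟨Cg.mul_mem (Cg.mul_mem (Cg.mul_mem ha hb) (Cg.inv_mem ha)) (Cg.inv_mem hb), hcomm b a⟩
    rw [hinf, Subgroup.mem_bot, mul_inv_eq_one, mul_inv_eq_iff_eq_mul] at h1
    exact h1
  have hcz : Subgroup.center G = Cg ⊓ Ct := by
    refine le_antisymm (le_inf (Subgroup.center_le_centralizer _) (Subgroup.center_le_centralizer _)) ?_
    rintro c ⟨hcg, hct⟩
    rw [Subgroup.mem_center_iff]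
    intro k
    obtain ⟨⟨⟨a, ha⟩, ⟨u, hu⟩⟩, e⟩ := hcompl.2 k
    rw [← e]
    have hu' : u ∈ Subgroup.zpowers t := hTp _ t (Subgroup.mem_zpowers t) htT ht1 hu
    obtain ⟨i, rfl⟩ := Subgroup.mem_zpowers_iff.mp hu'
    have h1 : Commute c a := hab c hcg a ha
    have h2 : Commute c t := mem_cent.mp hct
    exact (h1.mul_right (h2.zpow_right i)).symm.eq
  refine ⟨idx x, idx t, hp, hr, Ne.symm hrp, ?_, ?_⟩
  · rw [← Subgroup.index_eq_card, hcz, inf_index (by rw [hgp]; exact (Nat.coprime_primes hp hr).mpr (Ne.symm hrp)), hgp]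
    rfl
  · intro hc
    apply hg
    have h1 : ⁅g, t⁆ ∈ Subgroup.center G := by
      rw [← QuotientGroup.eq_one_iff, ← QuotientGroup.mk'_apply, map_commutatorElement, commutatorElement_eq_one_iff_mul_comm]
      exact hc.is_comm.comm _ _
    have h2 : ⁅g, t⁆ ∈ Cg ⊓ T := ⟨(hcz.le h1).1, by
      rw [commutatorElement_def]; exact T.mul_mem (hTn.conj_mem t htT g) (T.inv_mem htT)⟩
    rw [hinf, Subgroup.mem_bot, commutatorElement_eq_one_iff_mul_comm] at h2
    exact mem_cent.mpr h2

end

/-- Let `G` be a finite group every conjugacy class of which has size 1 or a prime. Then either `G` is nilpotent of class at most 2, or `G/Z(G)` is a non-abelian group of order `pq` for distinct primes `p, q` (a Frobenius group of order `pq`). -/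
theorem result {G : Type*} [Group G] [Finite G]
    (h : ∀ x : G, (Subgroup.centralizer ({x} : Set G)).index = 1 ∨ ((Subgroup.centralizer ({x} : Set G)).index).Prime) :
    Subgroup.upperCentralSeries G 2 = ⊤ ∨
      ∃ p q : ℕ, p.Prime ∧ q.Prime ∧ p ≠ q ∧ Nat.card (G ⧸ Subgroup.center G) = p * q ∧ ¬ IsMulCommutative (G ⧸ Subgroup.center G) := by
  change ∀ x : G, idx x = 1 ∨ (idx x).Prime at h
  by_cases hall : ∃ x y : G, (idx x).Prime ∧ (idx y).Prime ∧ idx x ≠ idx y
  · right
    obtain ⟨x, y, hx, hy, hne⟩ := hall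
    have hco := (Nat.coprime_primes hx hy).mpr hne
    have hd := dvd_mul_idx hco
    rcases h (x * y) with e | e
    · exfalso
      apply hne
      rw [idx_eq_one] at e
      have : Subgroup.centralizer ({x} : Set G) = Subgroup.centralizer ({y} : Set G) := by
        ext k
        have hk := Subgroup.mem_center_iff.mp e k
        rw [mem_cent, mem_cent]
        constructor <;> intro hh
        · rw [← mul_assoc, hh] at hk
          simpa [mul_assoc] using hk
        · rw [mul_assoc x y k, ← hh, ← mul_assoc, ← mul_assoc] at hk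
          exact mul_right_cancel hk
      rw [idx, idx, this]
    rcases (Nat.Prime.dvd_mul e).mp hd with h1 | h1
    · exact case_diff h hx hy hne ((Nat.prime_dvd_prime_iff_eq e hx).mp h1)
    · refine case_diff h hy hx (Ne.symm hne) ?_
      rw [← (Nat.prime_dvd_prime_iff_eq e hy).mp h1, ← ncard_cls, ← ncard_cls]
      congr 1
      ext a
      exact ⟨fun ⟨g, hg⟩ => ⟨g * y, by rw [← hg]; show g * y * (x * y) * (g * y)⁻¹ = g * (y * x) * g⁻¹; group⟩,
        fun ⟨g, hg⟩ => ⟨g * y⁻¹, by rw [← hg]; show g * y⁻¹ * (y * x) * (g * y⁻¹)⁻¹ = g * (x * y) * g⁻¹; group⟩⟩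
  · left
    push Not at hall
    by_cases hz : ∃ x : G, (idx x).Prime
    · obtain ⟨x, hx⟩ := hz
      refine case_same hx fun z => ?_
      rcases h z with e | e
      · exact Or.inl e
      · exact Or.inr (hall z x e hx)
    · refine case_same Nat.prime_two fun z => Or.inl ((h z).resolve_right fun e => hz ⟨z, e⟩)

end Cfsg.Agent.S4314
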