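import Cfsg.Statements.S4316
import Cfsg.Agent.Lib.FixDerived.Bound

set_option autoImplicit false
universe u
open Cfsg

namespace Cfsg.Agent.S4316

/-- There is a function `f` of two natural-number arguments with the following property. Let `q` be a prime and `A` an elementary abelian group of order `q³` acting by automorphisms on a finite group `G` of order prime to `q`, and suppose that for every non-identity `a ∈ A` the derived subgroup of the fixed-point subgroup `C_G(a)` has order at most `m`. Then the derived subgroup of `G` has order at most `f(q, m)`. -/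
theorem result :
    ∃ f : ℕ → ℕ → ℕ, ∀ (q m : ℕ) (A G : Type u) [Group A] [Finite A] [Group G] [Finite G] [MulDistribMulAction A G],
      q.Prime → Nat.card A = q ^ 3 → (∀ a b : A, a * b = b * a) → (∀ a : A, a ^ q = 1) → ¬ q ∣ Nat.card G →
      (∀ a : A, a ≠ 1 → Nat.card ↥(commutator ↥(FixedPoints.subgroup (Subgroup.zpowers a) G)) ≤ m) →
      Nat.card ↥(commutator G) ≤ f q m := by
  refine ⟨FixDerived.derBound, fun q m A G _ _ _ _ _ hq hcard hcomm hexp hcop hm => ?_⟩
  let Γ := Coprime.toSemi A G
  haveI : Finite Γ := Finite.of_equiv _ SemidirectProduct.equivProd.symm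
  set A' : Subgroup Γ := Coprime.embA A G with hA'
  set K : Subgroup Γ := Coprime.embK A G with hK
  haveI : IsMulCommutative A' := ⟨⟨by
    rintro ⟨_, a, rfl⟩ ⟨_, b, rfl⟩
    refine Subtype.ext ?_
    show (SemidirectProduct.inr a : Γ) * SemidirectProduct.inr b = _
    rw [← map_mul, hcomm, map_mul]
    rfl⟩⟩
  let e : G ≃* K := MonoidHom.ofInjective SemidirectProduct.inl_injective
  have hfix : ∀ (a : A), K ⊓ Subgroup.centralizer {(SemidirectProduct.inr a : Γ)} =
      (FixedPoints.subgroup (Subgroup.zpowers a) G).map (SemidirectProduct.inl : G →* Γ) := by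
    intro a
    ext z
    constructor
    · rintro ⟨⟨g, rfl⟩, hz⟩
      replace hz := Subgroup.mem_centralizer_singleton_iff.1 hz
      have hag : a • g = g := SemidirectProduct.inl_injective
        (φ := MulDistribMulAction.toMulAut A G) (by
          rw [← Coprime.inr_conj_inl, ← hz, mul_inv_cancel_right])
      refine ⟨g, fun b => ?_, rfl⟩
      obtain ⟨b, hb⟩ := b
      have : b ∈ MulAction.stabilizer A g :=
        (Subgroup.zpowers_le.2 (MulAction.mem_stabilizer_iff.2 hag)) hb
      exact MulAction.mem_stabilizer_iff.1 this
    · rintro ⟨g, hg, rfl⟩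
      refine ⟨⟨g, rfl⟩, Subgroup.mem_centralizer_singleton_iff.2 ?_⟩
      have hag : a • g = g := hg ⟨a, Subgroup.mem_zpowers a⟩
      have h1 := Coprime.inr_conj_inl (G := G) a g
      rw [hag, mul_inv_eq_iff_eq_mul] at h1
      exact h1.symm
  have h : FixDerived.Hyp A' K q m :=
    { hAK := Coprime.embA_le_normalizer A G
      hcop := by
        rw [hA', hK, Coprime.card_embA, Coprime.card_embK, hcard]
        exact ((hq.coprime_iff_not_dvd).2 hcop).pow_left 3
      hq := hq
      hcard := by rw [hA', Coprime.card_embA, hcard]
      hexp := by rintro _ ⟨a, rfl⟩; rw [← map_pow, hexp, map_one]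
      hm := by
        rintro _ ⟨a, rfl⟩ ha1
        have ha : a ≠ 1 := fun e => ha1 (by rw [e, map_one])
        refine le_of_eq_of_le ?_ (hm a ha)
        rw [hfix, ← Subgroup.map_commutator, ← Subgroup.map_subtype_commutator, Subgroup.map_map]
        exact Subgroup.card_map_of_injective
          (SemidirectProduct.inl_injective.comp (Subgroup.subtype_injective _)) }
  refine le_of_eq_of_le ?_ h.card_commutator_le
  have hmap : (commutator G).map e.toMonoidHom = commutator K := by
    rw [commutator_def, commutator_def, Subgroup.map_commutator,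
      Subgroup.map_top_of_surjective e.toMonoidHom (fun y => e.surjective y)]
  rw [← hmap]
  exact (Subgroup.card_map_of_injective (f := e.toMonoidHom) (fun x y h => e.injective h)).symm

end Cfsg.Agent.S4316
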