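import Cfsg.Statements.S4320
import Cfsg.Agent.EqLemmas

set_option autoImplicit false
open Cfsg

namespace Cfsg.Agent.S4320

open MonoidAlgebra Subgroup

variable {G : Type*} [Group G]

/-- left representatives -/
noncomputable def lrep (q : Abelianization G) : G :=
  Classical.choose (QuotientGroup.mk'_surjective (commutator G) q)

theorem of_lrep (q : Abelianization G) : Abelianization.of (lrep q) = q :=
  Classical.choose_spec (QuotientGroup.mk'_surjective (commutator G) q)

/-- the chosen representative of a coset of the derived subgroup -/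
noncomputable def rep (a : Abelianization G) : G := (lrep a⁻¹)⁻¹

theorem of_rep (a : Abelianization G) : Abelianization.of (rep a) = a := by
  rw [rep, map_inv, of_lrep, inv_inv]

theorem mem_of_rep (g : G) : g * (rep (Abelianization.of g))⁻¹ ∈ commutator G := by
  rw [← Abelianization.ker_of, MonoidHom.mem_ker, map_mul, map_inv, of_rep, mul_inv_cancel]

/-- the derived-subgroup part of an element -/
noncomputable def par (g : G) : Additive (Abelianization ↥(commutator G)) :=
  Additive.ofMul (Abelianization.of ⟨g * (rep (Abelianization.of g))⁻¹, mem_of_rep g⟩)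

theorem par_mul (u : commutator G) (g : G) :
    par ((u : G) * g) = Additive.ofMul (Abelianization.of u) + par g := by
  have he : Abelianization.of ((u : G) * g) = Abelianization.of g := by
    rw [map_mul, show Abelianization.of (u : G) = 1 by
      rw [← MonoidHom.mem_ker, Abelianization.ker_of]; exact u.2, one_mul]
  rw [par, par, ← ofMul_mul, ← map_mul]
  refine congrArg (fun z => Additive.ofMul (Abelianization.of z)) (Subtype.ext ?_)
  show (u : G) * g * _ = (u : G) * (g * _)
  rw [he, mul_assoc]

theorem par_rep (a : Abelianization G) : par (rep a) = 0 := by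
  rw [par, show (⟨rep a * (rep (Abelianization.of (rep a)))⁻¹, mem_of_rep _⟩ : commutator G) = 1 from
    Subtype.ext (by show rep a * _ = 1; rw [of_rep, mul_inv_cancel]), map_one, ofMul_one]

/-- the projection of group rings -/
noncomputable def piR : MonoidAlgebra ℤ G →ₐ[ℤ] MonoidAlgebra ℤ (Abelianization G) :=
  MonoidAlgebra.lift ℤ (MonoidAlgebra ℤ (Abelianization G)) G
    ((MonoidAlgebra.of ℤ (Abelianization G)).comp Abelianization.of)

theorem piR_of (g : G) : piR (of ℤ G g) = of ℤ (Abelianization G) (Abelianization.of g) := by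
  simp [piR]

/-- augmentation -/
noncomputable def aug (M : Type*) [Monoid M] : MonoidAlgebra ℤ M →ₐ[ℤ] ℤ :=
  MonoidAlgebra.lift ℤ ℤ M 1

theorem aug_of {M : Type*} [Monoid M] (g : M) : aug M (of ℤ M g) = 1 := by simp [aug]

theorem aug_piR (x : MonoidAlgebra ℤ G) : aug (Abelianization G) (piR x) = aug G x := by
  induction x using MonoidAlgebra.induction_on with
  | of a => rw [piR_of, aug_of, aug_of]
  | add x y hx hy => rw [map_add, map_add, map_add, hx, hy]
  | smul r x hx => rw [map_smul, map_smul, map_smul, hx]

/-- lift along the representatives -/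
noncomputable def lf : MonoidAlgebra ℤ (Abelianization G) →+ MonoidAlgebra ℤ G :=
  (Finsupp.linearCombination ℤ (fun a => of ℤ G (rep a))).toAddMonoidHom.comp coeffAddEquiv.toAddMonoidHom

theorem lf_of (a : Abelianization G) : lf (of ℤ (Abelianization G) a) = of ℤ G (rep a) := by
  show Finsupp.linearCombination ℤ _ (of ℤ (Abelianization G) a).coeff = _
  rw [of_apply, coeff_single, Finsupp.linearCombination_single, one_smul]

theorem piR_lf (x : MonoidAlgebra ℤ (Abelianization G)) : piR (lf x) = x := by
  induction x using MonoidAlgebra.induction_on with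
  | of a => rw [lf_of, piR_of, of_rep]
  | add x y hx hy => rw [map_add, map_add, hx, hy]
  | smul r x hx => rw [map_zsmul, map_zsmul, hx]

/-- the coordinates of the group ring modulo the product of the two augmentation ideals -/
noncomputable def psi : MonoidAlgebra ℤ G →+
    Additive (Abelianization ↥(commutator G)) × MonoidAlgebra ℤ (Abelianization G) :=
  (Finsupp.linearCombination ℤ (fun g => (par g, of ℤ (Abelianization G) (Abelianization.of g)))).toAddMonoidHom.comp
    coeffAddEquiv.toAddMonoidHom

theorem psi_of (g : G) : psi (of ℤ G g) = (par g, of ℤ (Abelianization G) (Abelianization.of g)) := by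
  show Finsupp.linearCombination ℤ _ (of ℤ G g).coeff = _
  rw [of_apply, coeff_single, Finsupp.linearCombination_single, one_smul]

theorem psi_snd (x : MonoidAlgebra ℤ G) : (psi x).2 = piR x := by
  induction x using MonoidAlgebra.induction_on with
  | of a => rw [psi_of, piR_of]
  | add x y hx hy => rw [map_add, map_add, Prod.snd_add, hx, hy]
  | smul r x hx => rw [map_zsmul, map_zsmul, Prod.smul_snd, hx]

theorem psi_mul (z : MonoidAlgebra ℤ G) (k : G) :
    psi (z * (of ℤ G k - 1)) = psi (lf (piR z) * (of ℤ G k - 1)) := by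
  induction z using MonoidAlgebra.induction_on with
  | of g =>
    rw [piR_of, lf_of, mul_sub, mul_sub, mul_one, mul_one, ← map_mul, ← map_mul, map_sub, map_sub,
      psi_of, psi_of, psi_of, psi_of]
    set t := rep (Abelianization.of g)
    have hg : g = g * t⁻¹ * t := by group
    have h1 : par g = Additive.ofMul (Abelianization.of ⟨g * t⁻¹, mem_of_rep g⟩) + par t := by
      conv_lhs => rw [hg]
      exact par_mul ⟨g * t⁻¹, mem_of_rep g⟩ t
    have h2 : par (g * k) = Additive.ofMul (Abelianization.of ⟨g * t⁻¹, mem_of_rep g⟩) + par (t * k) := by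
      conv_lhs => rw [hg, mul_assoc (g * t⁻¹) t k]
      exact par_mul ⟨g * t⁻¹, mem_of_rep g⟩ (t * k)
    have h3 : Abelianization.of t = Abelianization.of g := of_rep _
    refine Prod.ext ?_ ?_
    · simp only [Prod.fst_sub, h1, h2]; abel
    · simp only [Prod.snd_sub, map_mul, h3]
  | add x y hx hy => rw [map_add piR, map_add lf, add_mul, add_mul, map_add, map_add, hx, hy]
  | smul r x hx => rw [map_smul piR, map_zsmul lf, smul_mul_assoc, smul_mul_assoc, map_zsmul, map_zsmul, hx]

/-- linear combinations of `g - 1` -/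
noncomputable def phi [Fintype G] (Z : G → MonoidAlgebra ℤ G) : MonoidAlgebra ℤ G :=
  ∑ g, Z g * (of ℤ G g - 1)

theorem exists_relations [Fintype G] (v : G → ℤ)
    (hv : ∑ g, v g • Additive.ofMul (Abelianization.of g) = 0) :
    ∃ X : G → MonoidAlgebra ℤ G, (∀ g, aug G (X g) = v g) ∧ phi X = 0 := by
  classical
  let J : AddSubgroup (MonoidAlgebra ℤ G) :=
    { carrier := {r | ∃ Z : G → MonoidAlgebra ℤ G, (∀ g, aug G (Z g) = 0) ∧ phi Z = r}
      zero_mem' := ⟨0, fun _ => map_zero _, by simp [phi]⟩
      add_mem' := fun {a b} ⟨Y, hY, eY⟩ ⟨Z, hZ, eZ⟩ => ⟨Y + Z, fun g => by simp [hY g, hZ g], by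
        simp [phi, add_mul, Finset.sum_add_distrib, ← eY, ← eZ]⟩
      neg_mem' := fun {a} ⟨Y, hY, eY⟩ => ⟨-Y, fun g => by simp [hY g], by simp [phi, ← eY]⟩ }
  let θ0 : G →* Multiplicative (MonoidAlgebra ℤ G ⧸ J) :=
    MonoidHom.mk' (fun g => Multiplicative.ofAdd (QuotientAddGroup.mk' J (of ℤ G g - 1))) fun g h => by
      rw [← ofAdd_add, ← map_add]
      refine congrArg Multiplicative.ofAdd ?_
      rw [QuotientAddGroup.mk'_apply, QuotientAddGroup.mk'_apply, QuotientAddGroup.eq_iff_sub_mem]
      refine ⟨Pi.single h (of ℤ G g - 1), fun x => ?_, ?_⟩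
      · rcases eq_or_ne x h with rfl | hx
        · rw [Pi.single_eq_same, map_sub, aug_of, map_one, sub_self]
        · rw [Pi.single_eq_of_ne hx, map_zero]
      · rw [phi, Finset.sum_eq_single h (fun x _ hx => by rw [Pi.single_eq_of_ne hx, zero_mul])
          (fun hn => absurd (Finset.mem_univ h) hn), Pi.single_eq_same, map_mul]
        noncomm_ring
  let θ : Additive (Abelianization G) →+ MonoidAlgebra ℤ G ⧸ J :=
    MonoidHom.toAdditiveLeft (Abelianization.lift θ0)
  have hθ : ∀ g : G, θ (Additive.ofMul (Abelianization.of g)) = QuotientAddGroup.mk' J (of ℤ G g - 1) := by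
    intro g
    simp [θ, θ0]
  have h0 := congrArg θ hv
  rw [map_sum, map_zero] at h0
  simp only [map_zsmul, hθ] at h0
  rw [Finset.sum_congr rfl (fun g _ => (map_zsmul (QuotientAddGroup.mk' J) (v g) (of ℤ G g - 1)).symm),
    ← map_sum] at h0
  obtain ⟨Z, hZ, eZ⟩ := (QuotientAddGroup.eq_zero_iff _).mp h0
  refine ⟨fun g => v g • (1 : MonoidAlgebra ℤ G) - Z g, fun g => ?_, ?_⟩
  · rw [map_sub, map_smul, map_one, hZ g, sub_zero, smul_eq_mul, mul_one]
  · simp only [phi, sub_mul, smul_mul_assoc, one_mul, Finset.sum_sub_distrib]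
    rw [phi] at eZ
    rw [eZ, sub_self]

theorem exists_lattice (G : Type*) [Group G] [Fintype G] [DecidableEq G] :
    ∃ m : Matrix G G ℤ, m.det.natAbs = Nat.card (Abelianization G) ∧
      ∀ i, ∑ g, m i g • Additive.ofMul (Abelianization.of g) = (0 : Additive (Abelianization G)) := by
  classical
  let χ : (G → ℤ) →+ Additive (Abelianization G) :=
    (Fintype.linearCombination ℤ (fun g => Additive.ofMul (Abelianization.of g))).toAddMonoidHom
  have hχ : ∀ v, χ v = ∑ g, v g • Additive.ofMul (Abelianization.of g) := fun v =>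
    Fintype.linearCombination_apply ℤ _ v
  have hsurj : Function.Surjective χ := by
    intro a
    obtain ⟨g, hg⟩ := QuotientGroup.mk'_surjective (commutator G) a.toMul
    refine ⟨Pi.single g 1, ?_⟩
    rw [hχ, Finset.sum_eq_single g (fun x _ hx => by rw [Pi.single_eq_of_ne hx, zero_smul])
      (fun hn => absurd (Finset.mem_univ g) hn), Pi.single_eq_same, one_smul]
    exact congrArg Additive.ofMul hg
  set L : Submodule ℤ (G → ℤ) := χ.ker.toIntSubmodule with hL
  have : Module.Free ℤ L := Module.free_of_finite_type_torsion_free'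
  have hN : (Nat.card (Abelianization G) : ℤ) ≠ 0 := by exact_mod_cast Nat.card_pos.ne'
  have hrank : Module.finrank ℤ L = Fintype.card G := by
    rw [← Module.finrank_fintype_fun_eq_card ℤ (η := G)]
    refine le_antisymm (Submodule.finrank_le L) ?_
    refine LinearMap.finrank_le_finrank_of_injective (f := LinearMap.codRestrict L
      ((Nat.card (Abelianization G) : ℤ) • LinearMap.id) (fun v => ?_)) (fun v w hvw => ?_)
    · show χ ((Nat.card (Abelianization G) : ℤ) • v) = 0
      rw [map_zsmul, natCast_zsmul]
      exact card_nsmul_eq_zero'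
    · exact smul_right_injective _ hN (congrArg Subtype.val hvw)
  let bN : Module.Basis G ℤ L := (Module.finBasisOfFinrankEq ℤ L hrank).reindex (Fintype.equivFin G).symm
  refine ⟨Matrix.of fun i g => (bN i : G → ℤ) g, ?_, fun i => by simp only [Matrix.of_apply]; rw [← hχ]; exact (bN i).2⟩
  let e : L ≃+ χ.ker :=
    { toFun := fun x => ⟨x.1, x.2⟩, invFun := fun x => ⟨x.1, x.2⟩, left_inv := fun _ => rfl,
      right_inv := fun _ => rfl, map_add' := fun _ _ => rfl }
  have h := AddSubgroup.index_eq_natAbs_det (Pi.basisFun ℤ G) χ.ker (bN.map e.toIntLinearEquiv)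
  rw [AddSubgroup.index_ker, AddMonoidHom.range_eq_top.mpr hsurj] at h
  rw [Module.Basis.det_apply] at h
  have hc : Nat.card (⊤ : AddSubgroup (Additive (Abelianization G))) = Nat.card (Abelianization G) :=
    Nat.card_congr ((AddSubgroup.topEquiv (G := Additive (Abelianization G))).toEquiv.trans Additive.toMul)
  rw [← hc, h, ← Matrix.det_transpose]
  congr 2

theorem key [Finite G] [Fintype (Abelianization G)] (k : G) :
    ∑ a : Abelianization G, par (rep a * k) = 0 := by
  classical
  let _ := Fintype.ofFinite G
  obtain ⟨m, hm, hrel⟩ := exists_lattice G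
  choose X hXa hX0 using fun i => exists_relations (m i) (hrel i)
  let Xm : Matrix G G (MonoidAlgebra ℤ (Abelianization G)) := fun i g => piR (X i g)
  set δ := Xm.det with hδ
  have hadj : ∀ i g, ∑ j, Xm.adjugate i j * Xm j g = if i = g then δ else 0 := by
    intro i g
    have h := congrFun (congrFun Xm.adjugate_mul i) g
    rw [Matrix.mul_apply, Matrix.smul_apply, Matrix.one_apply, smul_eq_mul, mul_ite, mul_one, mul_zero] at h
    exact h
  have haug : aug (Abelianization G) δ = m.det := by
    rw [hδ, AlgHom.map_det]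
    congr 1
    ext i g
    show aug (Abelianization G) (piR (X i g)) = _
    rw [aug_piR, hXa]
  have hkill : ∀ g : G, psi (lf δ * (of ℤ G g - 1)) = 0 := by
    intro i
    have h0 : psi (∑ j, lf (Xm.adjugate i j) * phi (X j)) = 0 := by simp [hX0]
    have h1 : psi (∑ j, lf (Xm.adjugate i j) * phi (X j)) = psi (lf δ * (of ℤ G i - 1)) := by
      simp only [phi, Finset.mul_sum, ← mul_assoc, map_sum]
      rw [Finset.sum_comm]
      have h2 : ∀ g, ∑ j, psi (lf (Xm.adjugate i j) * X j g * (of ℤ G g - 1)) =
          psi (lf (if i = g then δ else 0) * (of ℤ G g - 1)) := by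
        intro g
        rw [← hadj, map_sum lf, Finset.sum_mul, map_sum]
        refine Finset.sum_congr rfl fun j _ => ?_
        rw [psi_mul, map_mul piR, piR_lf]
      rw [Finset.sum_congr rfl (fun g _ => h2 g),
        Finset.sum_eq_single i (fun x _ hx => by rw [if_neg (Ne.symm hx), map_zero, zero_mul, map_zero])
          (fun hn => absurd (Finset.mem_univ i) hn), if_pos rfl]
    rw [← h1, h0]
  have hinv : ∀ b : Abelianization G, δ * of ℤ (Abelianization G) b = δ := by
    intro b
    obtain ⟨g, rfl⟩ := QuotientGroup.mk'_surjective (commutator G) b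
    have h := congrArg Prod.snd (hkill g)
    rw [psi_snd, map_mul, piR_lf, map_sub, map_one, piR_of, Prod.snd_zero, mul_sub, mul_one, sub_eq_zero] at h
    exact h
  set c := δ.coeff 1
  set N : MonoidAlgebra ℤ (Abelianization G) := ∑ a, of ℤ (Abelianization G) a with hN
  have hδN : δ = c • N := by
    ext a
    have h := congrArg (fun z : MonoidAlgebra ℤ (Abelianization G) => z.coeff (1 * a)) (hinv a)
    simp only [of_apply, coeff_mul_single_mul, mul_one, one_mul] at h
    rw [← h, hN]
    simp [Finset.smul_sum, Finsupp.single_apply, c]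
  have hc : c ≠ 0 ∧ c.natAbs = 1 := by
    have h := congrArg Int.natAbs haug
    rw [hδN, map_smul, hN, map_sum, smul_eq_mul, Int.natAbs_mul, hm] at h
    simp only [aug_of, Finset.sum_const, Finset.card_univ, nsmul_eq_mul, mul_one, Int.natAbs_natCast,
      ← Nat.card_eq_fintype_card] at h
    have h1 : c.natAbs = 1 := Nat.eq_of_mul_eq_mul_right Nat.card_pos (h.trans (one_mul _).symm)
    exact ⟨fun h0 => by simp [h0] at h1, h1⟩
  have hN0 : psi (lf N * (of ℤ G k - 1)) = 0 := by
    have h := hkill k
    rw [hδN, map_zsmul (lf (G := G)), smul_mul_assoc, map_zsmul (psi (G := G))] at h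
    rcases Int.natAbs_eq_iff.mp hc.2 with h1 | h1
    · rwa [h1, Nat.cast_one, one_smul] at h
    · rwa [h1, Nat.cast_one, neg_smul, one_smul, neg_eq_zero] at h
  have h := congrArg Prod.fst hN0
  rw [hN, map_sum lf, Finset.sum_mul, map_sum, Prod.fst_sum, Prod.fst_zero] at h
  refine Eq.trans (Finset.sum_congr rfl fun a _ => ?_) h
  rw [lf_of, mul_sub, mul_one, ← map_mul, map_sub, psi_of, psi_of, Prod.fst_sub, par_rep, sub_zero]

theorem step (k : G) (q : Abelianization G) :
    (lrep q)⁻¹ * (k * lrep (Abelianization.of k⁻¹ * q)) =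
      rep q⁻¹ * k * (rep (Abelianization.of (rep q⁻¹ * k)))⁻¹ := by
  rw [map_mul, of_rep, rep, rep, inv_inv, inv_inv, mul_inv_rev, inv_inv, map_inv, mul_assoc]

/-- The Principal Ideal Theorem of class field theory in its group-theoretic form: for every finite group `G`, the transfer homomorphism from `G` into the abelianization `G'/G''` of its derived subgroup `G'` is the trivial homomorphism. -/
theorem result {G : Type*} [Group G] [Finite G] :
    MonoidHom.transfer (Abelianization.of : ↥(commutator G) →* Abelianization ↥(commutator G)) =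
      (1 : G →* Abelianization ↥(commutator G)) := by
  classical
  let _ := Fintype.ofFinite (Abelianization G)
  refine MonoidHom.ext fun k => ?_
  rw [MonoidHom.one_apply]
  let T : (commutator G).LeftTransversal :=
    ⟨Set.range (fun q : G ⧸ commutator G => lrep (G := G) q), Subgroup.isComplement_range_left (fun q => of_lrep q)⟩
  rw [MonoidHom.transfer_def _ T k, Subgroup.leftTransversals.diff]
  apply Additive.ofMul.injective
  rw [ofMul_prod, ofMul_one, ← key k]
  let _ := (commutator G).fintypeQuotientOfFiniteIndex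
  refine Fintype.sum_equiv (show (G ⧸ commutator G) ≃ Abelianization G from Equiv.inv (Abelianization G)) _ _ fun q => ?_
  show Additive.ofMul _ = Additive.ofMul _
  refine congrArg (fun z => Additive.ofMul (Abelianization.of z)) (Subtype.ext ?_)
  show (_ : G)⁻¹ * _ = rep ((q : Abelianization G)⁻¹) * k * (rep (Abelianization.of (rep ((q : Abelianization G)⁻¹) * k)))⁻¹
  rw [Subgroup.smul_apply_eq_smul_apply_inv_smul,
    Subgroup.IsComplement.leftQuotientEquiv_apply (f := fun q : G ⧸ commutator G => lrep (G := G) q) (fun q => of_lrep q),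
    Subgroup.IsComplement.leftQuotientEquiv_apply (f := fun q : G ⧸ commutator G => lrep (G := G) q) (fun q => of_lrep q),
    smul_eq_mul]
  refine Eq.trans ?_ (step k q)
  obtain ⟨x, rfl⟩ := QuotientGroup.mk'_surjective (commutator G) q
  rfl

end Cfsg.Agent.S4320
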