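import Cfsg.Statements.S4321
import Cfsg.Agent.EqLemmas
import Cfsg.Agent.S4314
import Cfsg.Agent.Lib.SylowCount.Basic
import Cfsg.Agent.Lib.Coprime.Frattini
import Cfsg.Agent.Lib.PGroup.Basic

set_option autoImplicit false
open Cfsg

namespace Cfsg.Agent.S4321

open scoped commutatorElement
open Cfsg.Agent.S4314 (idx cls mem_cent idx_eq_one inf_index simul dvd_mul_idx pair idx_comm ncard_cls idx_pos exists_eq_mul)

section
variable {G : Type*} [Group G]

/-- an element of `p`-power order -/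
def PEl (p : ℕ) (x : G) : Prop := ∃ k : ℕ, x ^ p ^ k = 1

/-- adjacency -/
def Adj (G : Type*) [Group G] (p a b : ℕ) : Prop := ∃ x : G, p ∣ orderOf x ∧ a * b ∣ idx x

/-- vertex -/
def Vert (G : Type*) [Group G] (p q : ℕ) : Prop := q.Prime ∧ ∃ x : G, p ∣ orderOf x ∧ q ∣ idx x

/-- reflexive adjacency -/
def RAdj (G : Type*) [Group G] (p a b : ℕ) : Prop := a = b ∨ Adj G p a b

theorem RAdj.symm {p a b : ℕ} (h : RAdj G p a b) : RAdj G p b a := by
  rcases h with h | ⟨x, hx, hd⟩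
  · exact Or.inl h.symm
  · exact Or.inr ⟨x, hx, mul_comm b a ▸ hd⟩

theorem radj_of {p a b : ℕ} (ha : a.Prime) (hb : b.Prime) {x : G} (hx : p ∣ orderOf x) (h1 : a ∣ idx x)
    (h2 : b ∣ idx x) : RAdj G p a b := by
  rcases eq_or_ne a b with h | h
  · exact Or.inl h
  · exact Or.inr ⟨x, hx, ((Nat.coprime_primes ha hb).mpr h).mul_dvd_of_dvd_of_dvd h1 h2⟩

/-- a path of at most three steps -/
def Near (G : Type*) [Group G] (p a b : ℕ) : Prop :=
  ∃ t u : ℕ, Vert G p t ∧ Vert G p u ∧ RAdj G p a t ∧ RAdj G p t u ∧ RAdj G p u b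

theorem Near.symm {p a b : ℕ} (h : Near G p a b) : Near G p b a := by
  obtain ⟨t, u, ht, hu, h1, h2, h3⟩ := h
  exact ⟨u, t, hu, ht, h3.symm, h2.symm, h1.symm⟩

theorem Near.cases {p r s : ℕ} (hrs : r ≠ s) (h : Near G p r s) :
    Adj G p r s ∨ (∃ t, Vert G p t ∧ t ≠ r ∧ t ≠ s ∧ Adj G p r t ∧ Adj G p t s) ∨
      ∃ t u, Vert G p t ∧ Vert G p u ∧ t ≠ r ∧ u ≠ s ∧ t ≠ u ∧ Adj G p r t ∧ Adj G p t u ∧ Adj G p u s := by
  obtain ⟨t, u, ht, hu, h1, h2, h3⟩ := h
  have hswap : ∀ {a b : ℕ}, Adj G p a b → Adj G p b a := fun {a b} ⟨x, hx, hd⟩ => ⟨x, hx, mul_comm b a ▸ hd⟩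
  rcases eq_or_ne t r with rfl | htr
  · rcases eq_or_ne u t with rfl | hut
    · exact Or.inl (h3.resolve_left hrs)
    rcases eq_or_ne u s with rfl | hus
    · exact Or.inl (h2.resolve_left hrs)
    exact Or.inr (Or.inl ⟨u, hu, hut, hus, h2.resolve_left (Ne.symm hut), h3.resolve_left hus⟩)
  have h1' := h1.resolve_left (Ne.symm htr)
  rcases eq_or_ne t s with rfl | hts
  · exact Or.inl h1'
  rcases eq_or_ne t u with rfl | htu
  · exact Or.inr (Or.inl ⟨t, ht, htr, hts, h1', h3.resolve_left hts⟩)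
  rcases eq_or_ne u s with rfl | hus
  · exact Or.inr (Or.inl ⟨t, ht, htr, hts, h1', h2.resolve_left htu⟩)
  exact Or.inr (Or.inr ⟨t, u, ht, hu, htr, hus, htu, h1', h2.resolve_left htu, h3.resolve_left hus⟩)

variable [Finite G] {p : ℕ} [Fact p.Prime]

theorem idx_dvd_of_mem {x y : G} (h : y ∈ Subgroup.zpowers x) : idx y ∣ idx x := by
  refine Subgroup.index_dvd_of_le fun g hg => mem_cent.mpr ?_
  obtain ⟨i, rfl⟩ := Subgroup.mem_zpowers_iff.mp h
  have hc : Commute g x := mem_cent.mp hg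
  exact (hc.zpow_right i).eq

theorem idx_conj (g x : G) : idx (g * x * g⁻¹) = idx x := by
  rw [idx_comm, ← mul_assoc, inv_mul_cancel, one_mul]

theorem exists_sylow_le {x : G} (h : ¬ p ∣ idx x) :
    ∃ P : Sylow p G, ∀ a ∈ (P : Subgroup G), a * x = x * a := by
  set C := Subgroup.centralizer ({x} : Set G)
  obtain ⟨R⟩ := (inferInstance : Nonempty (Sylow p C))
  have hR : Nat.card ((R : Subgroup C).map C.subtype) = p ^ (Nat.card G).factorization p := by
    rw [Subgroup.card_map_of_injective C.subtype_injective, R.card_eq_multiplicity, ← C.card_mul_index,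
      Nat.factorization_mul Nat.card_pos.ne' Subgroup.index_ne_zero_of_finite, Finsupp.add_apply,
      Nat.factorization_eq_zero_of_not_dvd (show ¬ p ∣ C.index from h), add_zero]
  exact ⟨Sylow.ofCard _ hR, fun a ha => mem_cent.mp (Subgroup.map_subtype_le _ ha)⟩

theorem PEl.conj {x : G} (h : PEl p x) (g : G) : PEl p (g * x * g⁻¹) := by
  obtain ⟨k, hk⟩ := h
  exact ⟨k, by rw [conj_pow, hk, mul_one, mul_inv_cancel]⟩

theorem PEl.zpowers {x : G} (h : PEl p x) : IsPGroup p (Subgroup.zpowers x) := by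
  obtain ⟨k, hk⟩ := h
  obtain ⟨m, -, hm⟩ := (Nat.dvd_prime_pow Fact.out).mp (orderOf_dvd_of_pow_eq_one hk)
  exact IsPGroup.of_card (n := m) (by rw [Nat.card_zpowers, hm])

theorem pel_of_mem {H : Subgroup G} (hH : IsPGroup p H) {x : G} (hx : x ∈ H) : PEl p x := by
  obtain ⟨k, hk⟩ := hH ⟨x, hx⟩
  exact ⟨k, congrArg Subtype.val hk⟩

theorem PEl.mem_of_commute {x : G} (h : PEl p x) (P : Sylow p G)
    (hc : ∀ a ∈ (P : Subgroup G), a * x = x * a) : x ∈ (P : Subgroup G) := by
  have hn : Subgroup.zpowers x ≤ Subgroup.normalizer ((P : Subgroup G) : Set G) := by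
    rw [Subgroup.zpowers_le, Subgroup.mem_normalizer_iff]
    intro a
    constructor <;> intro ha
    · rwa [← hc a ha, mul_inv_cancel_right]
    · have := hc _ ha
      rw [inv_mul_cancel_right] at this
      rwa [← mul_left_cancel this] at ha
  have hsup := h.zpowers.to_sup_of_normal_right' P.isPGroup' hn
  have := P.3 hsup le_sup_right
  exact this.le (Subgroup.mem_sup_left (Subgroup.mem_zpowers x))

theorem PEl.exists_conj_mem {x : G} (h : PEl p x) (P : Sylow p G) : ∃ g : G, g * x * g⁻¹ ∈ (P : Subgroup G) := by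
  obtain ⟨Q, hQ⟩ := h.zpowers.exists_le_sylow
  obtain ⟨g, rfl⟩ := MulAction.exists_smul_eq G Q P
  refine ⟨g, ?_⟩
  rw [Sylow.coe_subgroup_smul, Subgroup.mem_pointwise_smul_iff_inv_smul_mem, ← map_inv, MulAut.smul_def,
    MulAut.conj_apply, inv_inv]
  simpa [mul_assoc] using hQ (Subgroup.mem_zpowers x)

/-- decomposition of an element -/
theorem exists_decomp (x : G) : ∃ b y : G, PEl p b ∧ ¬ p ∣ orderOf y ∧ b ∈ Subgroup.zpowers x ∧
    y ∈ Subgroup.zpowers x ∧ b * y = x ∧ (p ∣ orderOf x → b ≠ 1) := by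
  have hp : p.Prime := Fact.out
  obtain ⟨k, m, hm, e⟩ := Nat.exists_eq_pow_mul_and_not_dvd (orderOf_pos x).ne' p hp.ne_one
  have hco : IsCoprime ((p ^ k : ℕ) : ℤ) (m : ℤ) :=
    Nat.isCoprime_iff_coprime.mpr ((hp.coprime_iff_not_dvd.mpr hm).pow_left k)
  obtain ⟨u, v, huv⟩ := hco
  have hym : (x ^ ((p ^ k : ℕ) * u : ℤ)) ^ m = 1 := by
    rw [← zpow_natCast, ← zpow_mul, show ((p ^ k : ℕ) : ℤ) * u * (m : ℤ) = ((p ^ k * m : ℕ) : ℤ) * u by push_cast; ring,
      zpow_mul, zpow_natCast, ← e, pow_orderOf_eq_one, one_zpow]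
  have hy : ¬ p ∣ orderOf (x ^ ((p ^ k : ℕ) * u : ℤ)) := fun h => hm (h.trans (orderOf_dvd_of_pow_eq_one hym))
  have hb : (x ^ ((m : ℤ) * v)) * x ^ ((p ^ k : ℕ) * u : ℤ) = x := by
    rw [← zpow_add]
    conv_rhs => rw [← zpow_one x, ← huv]
    congr 1
    ring
  refine ⟨_, _, ⟨k, ?_⟩, hy, ⟨_, rfl⟩, ⟨_, rfl⟩, hb, fun hd h1 => ?_⟩
  · rw [← zpow_natCast, ← zpow_mul, show (m : ℤ) * v * ((p ^ k : ℕ) : ℤ) = ((p ^ k * m : ℕ) : ℤ) * v by push_cast; ring,
      zpow_mul, zpow_natCast, ← e, pow_orderOf_eq_one, one_zpow]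
  · simp only at h1
    rw [h1, one_mul] at hb
    rw [hb] at hy
    exact hy hd

theorem mem_zpowers_mul {b y : G} (hb : PEl p b) (hy : ¬ p ∣ orderOf y) (hc : Commute b y) :
    b ∈ Subgroup.zpowers (b * y) ∧ y ∈ Subgroup.zpowers (b * y) := by
  obtain ⟨k, hk⟩ := hb
  obtain ⟨j, -, hj⟩ := (Nat.dvd_prime_pow Fact.out).mp (orderOf_dvd_of_pow_eq_one hk)
  have hco : (orderOf b).Coprime (orderOf y) := by
    rw [hj]; exact ((Fact.out : p.Prime).coprime_iff_not_dvd.mpr hy).pow_left j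
  have h1 : b ^ orderOf y ∈ Subgroup.zpowers (b * y) := by
    have e : (b * y) ^ orderOf y = b ^ orderOf y := by rw [hc.mul_pow, pow_orderOf_eq_one, mul_one]
    exact e ▸ pow_mem (Subgroup.mem_zpowers _) _
  have hb' : b ∈ Subgroup.zpowers (b * y) := Coprime.mem_of_pow_mem hco h1
  refine ⟨hb', ?_⟩
  have := mul_mem (inv_mem hb') (Subgroup.mem_zpowers (b * y))
  rwa [inv_mul_cancel_left] at this

variable (hZ : ¬ p ∣ Nat.card ↥(Subgroup.center G))

include hZ in
theorem not_center {b : G} (hb : PEl p b) (hb1 : b ≠ 1) : idx b ≠ 1 := by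
  intro h
  rw [idx_eq_one] at h
  apply hZ
  obtain ⟨k, hk⟩ := hb
  obtain ⟨j, -, hj⟩ := (Nat.dvd_prime_pow Fact.out).mp (orderOf_dvd_of_pow_eq_one hk)
  have hd := Subgroup.orderOf_dvd_natCard _ h
  rw [hj] at hd
  refine (dvd_pow_self p ?_).trans hd
  rintro rfl
  exact hb1 (orderOf_eq_one_iff.mp (by simpa using hj))

omit [Fact p.Prime] in
theorem dvd_orderOf_of_ne {b : G} [Fact p.Prime] (hb : PEl p b) (hb1 : b ≠ 1) : p ∣ orderOf b := by
  obtain ⟨k, hk⟩ := hb
  obtain ⟨j, -, hj⟩ := (Nat.dvd_prime_pow Fact.out).mp (orderOf_dvd_of_pow_eq_one hk)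
  rw [hj]
  refine dvd_pow_self p ?_
  rintro rfl
  exact hb1 (orderOf_eq_one_iff.mp (by simpa using hj))

theorem singular_mul {b y : G} (hb : PEl p b) (hb1 : b ≠ 1) (hy : ¬ p ∣ orderOf y) (hc : Commute b y) :
    p ∣ orderOf (b * y) :=
  (dvd_orderOf_of_ne hb hb1).trans (orderOf_dvd_of_mem_zpowers (mem_zpowers_mul hb hy hc).1)

theorem exists_pel_singular {x : G} {q : ℕ} (hx : p ∣ orderOf x) (hq : q.Prime) (hd : q ∣ idx x) : Vert G p q :=
  ⟨hq, x, hx, hd⟩

theorem pairT_ne_bot {c : G} (hc : idx c ≠ 1) {T : Subgroup G} (hk : T = ⊥)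
    (hT : ∀ g, g * c * g⁻¹ * c⁻¹ ∈ T) : False := by
  apply hc
  rw [idx_eq_one, Subgroup.mem_center_iff]
  intro g
  have h1 := hT g
  rw [hk, Subgroup.mem_bot, mul_inv_eq_one, mul_inv_eq_iff_eq_mul] at h1
  exact h1

/-- a normal subgroup of order prime to a class size centralises the element -/
theorem le_centralizer_of_coprime {c : G} {T : Subgroup G} (hTn : T.Normal) {n : ℕ} (hTd : Nat.card T ∣ n)
    (hco : n.Coprime (idx c)) : T ≤ Subgroup.centralizer ({c} : Set G) := by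
  rw [← Subgroup.relIndex_eq_one]
  refine Nat.eq_one_of_dvd_coprimes hco ?_ ?_
  · exact (Subgroup.relIndex_dvd_card _ T).trans hTd
  · rw [idx, ← SylowCount.relIndex_eq_of_sup T (Subgroup.centralizer ({c} : Set G))]
    exact ⟨_, (Subgroup.relIndex_mul_index (le_sup_left)).symm⟩

/-- if the class of `b * c` has the size of that of `b`, then the commutators with `c` generate a normal
subgroup which permutes the class of `b` semiregularly -/
theorem pairT {b c : G} (_hb : idx b ≠ 1) (_hc : idx c ≠ 1) (hco : (idx b).Coprime (idx c))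
    (hbc : idx (b * c) = idx b) :
    ∃ T : Subgroup G, T.Normal ∧ Nat.card T ∣ idx b ∧ (∀ g, g * c * g⁻¹ * c⁻¹ ∈ T) ∧
      (∀ u ∈ T, b * u ∈ cls b) ∧ T = Subgroup.closure (Set.range fun g => g * c * g⁻¹ * c⁻¹) := by
  classical
  set T := Subgroup.closure (Set.range fun g => g * c * g⁻¹ * c⁻¹) with hT
  have hgen : ∀ g, g * c * g⁻¹ * c⁻¹ ∈ T := fun g => Subgroup.subset_closure ⟨g, rfl⟩
  have hTn : T.Normal := by
    refine ⟨fun u hu g => ?_⟩
    induction hu using Subgroup.closure_induction with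
    | mem u hu =>
      obtain ⟨k, rfl⟩ := hu
      have h := T.mul_mem (hgen (g * k)) (T.inv_mem (hgen g))
      convert h using 1
      group
    | one => simp
    | mul a b _ _ ha hb =>
      rw [show g * (a * b) * g⁻¹ = (g * a * g⁻¹) * (g * b * g⁻¹) by group]; exact T.mul_mem ha hb
    | inv a _ ha => rw [show g * a⁻¹ * g⁻¹ = (g * a * g⁻¹)⁻¹ by group]; exact T.inv_mem ha
  have hsub : (fun a => a * c) '' cls b ⊆ cls (b * c) := by
    rintro _ ⟨_, ⟨g, rfl⟩, rfl⟩
    obtain ⟨v, hv1, hv2⟩ := simul hco g 1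
    refine ⟨v, ?_⟩
    simp only [one_mul, inv_one, mul_one] at hv2
    show v * (b * c) * v⁻¹ = g * b * g⁻¹ * c
    rw [← hv1]
    conv_rhs => rw [← hv2]
    group
  have heq := Set.eq_of_subset_of_ncard_le hsub (by
    rw [Set.ncard_image_of_injective _ (mul_left_injective c), ncard_cls, ncard_cls, hbc]) (Set.toFinite _)
  have hstep : ∀ a ∈ cls b, ∀ k, a * (k * c * k⁻¹ * c⁻¹) ∈ cls b := by
    rintro _ ⟨g, rfl⟩ k
    obtain ⟨w, hw1, hw2⟩ := simul hco g k
    have hm : w * (b * c) * w⁻¹ ∈ cls (b * c) := ⟨w, rfl⟩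
    rw [← heq] at hm
    obtain ⟨a', ha', e⟩ := hm
    convert ha' using 1
    have e' : g * b * g⁻¹ * (k * c * k⁻¹) = a' * c := by
      rw [← hw1, ← hw2, show a' * c = w * (b * c) * w⁻¹ from e]; group
    rw [← mul_assoc, e', mul_inv_cancel_right]
  have hinv : ∀ u ∈ T, ∀ a ∈ cls b, a * u ∈ cls b := by
    intro u hu
    induction hu using Subgroup.closure_induction with
    | mem u hu => obtain ⟨k, rfl⟩ := hu; exact fun a ha => hstep a ha k
    | one => exact fun a ha => by rwa [mul_one]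
    | mul u v _ _ hu hv => exact fun a ha => by rw [← mul_assoc]; exact hv _ (hu a ha)
    | inv u _ hu =>
      intro a ha
      have hfin := Set.eq_of_subset_of_ncard_le (s := (fun a => a * u) '' cls b) (t := cls b)
        (by rintro _ ⟨a, ha, rfl⟩; exact hu a ha)
        (by rw [Set.ncard_image_of_injective _ (mul_left_injective u)]) (Set.toFinite _)
      obtain ⟨a', ha', e⟩ := hfin.ge ha
      rw [← e]
      simpa using ha'
  have hpre : (QuotientGroup.mk ⁻¹' ((QuotientGroup.mk : G → G ⧸ T) '' cls b)) = cls b := by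
    refine subset_antisymm ?_ (Set.subset_preimage_image _ _)
    rintro a ⟨a', ha', e⟩
    have := hinv _ (QuotientGroup.eq.mp e) a' ha'
    rwa [mul_inv_cancel_left] at this
  refine ⟨T, hTn, Dvd.intro (Nat.card ((QuotientGroup.mk : G → G ⧸ T) '' cls b)) ?_, hgen,
    fun u hu => hinv u hu b ⟨1, by simp⟩, rfl⟩
  rw [← Nat.card_prod, ← Nat.card_congr (QuotientGroup.preimageMkEquivSubgroupProdSet T _), hpre,
    Nat.card_coe_set_eq, ncard_cls]

/-- the linking lemma -/
theorem link (hZ : ¬ p ∣ Nat.card ↥(Subgroup.center G)) {b c : G} (hb : PEl p b) (hb1 : b ≠ 1) (hc : PEl p c)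
    (hc1 : c ≠ 1) (hcom : Commute b c) (hco : (idx b).Coprime (idx c)) (hcp : ¬ p ∣ idx c) :
    (∃ t u : ℕ, t.Prime ∧ u.Prime ∧ t ∣ idx b ∧ u ∣ idx c ∧ RAdj G p t u) ∨
      (p ∣ idx b ∧ ∃ T : Subgroup G, T.Normal ∧ T ≠ ⊥ ∧ IsPGroup p T ∧ (∀ g, g * c * g⁻¹ * c⁻¹ ∈ T) ∧
        (∀ u ∈ T, u * c = c * u) ∧ ∀ u ∈ T, b * u ∈ cls b) := by
  have hbc : PEl p (b * c) := by
    obtain ⟨i, hi⟩ := hb
    obtain ⟨j, hj⟩ := hc
    exact ⟨i + j, by rw [hcom.mul_pow, pow_add, pow_mul, hi, one_pow, one_mul, mul_comm, pow_mul, hj, one_pow]⟩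
  have hb' := not_center hZ hb hb1
  have hc' := not_center hZ hc hc1
  have hbc1 : b * c ≠ 1 := by
    intro h
    rw [eq_inv_of_mul_eq_one_left h] at hco
    have e : idx c⁻¹ = idx c := Nat.dvd_antisymm (idx_dvd_of_mem (inv_mem (Subgroup.mem_zpowers c)))
      (idx_dvd_of_mem (by simpa using inv_mem (Subgroup.mem_zpowers c⁻¹)))
    rw [e, Nat.coprime_self] at hco
    exact hc' hco
  have hn1 := not_center hZ hbc hbc1
  by_cases h1 : (idx (b * c)).Coprime (idx c)
  · -- the class size of the product is that of `b`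
    right
    have hd : idx (b * c) ∣ idx b := h1.dvd_of_dvd_mul_right (dvd_mul_idx hco)
    have hci : idx c⁻¹ = idx c := Nat.dvd_antisymm (idx_dvd_of_mem (inv_mem (Subgroup.mem_zpowers c)))
      (idx_dvd_of_mem (by simpa using inv_mem (Subgroup.mem_zpowers c⁻¹)))
    have hd2 : idx b ∣ idx (b * c) := by
      have := dvd_mul_idx (x := b * c) (y := c⁻¹) (by rw [hci]; exact h1)
      rw [mul_inv_cancel_right, hci] at this
      exact hco.dvd_of_dvd_mul_right this
    obtain ⟨T, hTn, hTd, hTb, hT0, hTg⟩ := pairT hb' hc' hco (Nat.dvd_antisymm hd hd2)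
    have hTc : ∀ u ∈ T, u * c = c * u := fun u hu =>
      mem_cent.mp (le_centralizer_of_coprime hTn hTd hco hu)
    have hTab : ∀ u ∈ T, ∀ g, u * (g * c * g⁻¹) = g * c * g⁻¹ * u := by
      intro u hu g
      have := hTc _ (hTn.conj_mem u hu g⁻¹)
      simp only [inv_inv] at this
      calc u * (g * c * g⁻¹) = g * (g⁻¹ * u * g * c) * g⁻¹ := by group
        _ = g * (c * (g⁻¹ * u * g)) * g⁻¹ := by rw [this]
        _ = g * c * g⁻¹ * u := by group
    have hTp : IsPGroup p T := by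
      have hcl : T = Subgroup.closure (Set.range fun g => g * c * g⁻¹ * c⁻¹) := hTg
      intro u
      suffices h : PEl p (u : G) by
        obtain ⟨k, hk⟩ := h
        exact ⟨k, Subtype.ext hk⟩
      have hu : (u : G) ∈ Subgroup.closure (Set.range fun g => g * c * g⁻¹ * c⁻¹) := hcl.le u.2
      have key : ∀ v : G, v ∈ Subgroup.closure (Set.range fun g => g * c * g⁻¹ * c⁻¹) → v ∈ T ∧ PEl p v := by
        intro v hv
        induction hv using Subgroup.closure_induction with
        | mem v hv =>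
          obtain ⟨g, rfl⟩ := hv
          have hm : g * c * g⁻¹ * c⁻¹ ∈ T := hTb g
          refine ⟨hm, ?_⟩
          have hcomm : Commute (g * c * g⁻¹) c := by
            show g * c * g⁻¹ * c = c * (g * c * g⁻¹)
            calc g * c * g⁻¹ * c = (g * c * g⁻¹ * c⁻¹ * c) * c := by group
              _ = (c * (g * c * g⁻¹ * c⁻¹)) * c := by rw [hTc _ hm]
              _ = c * (g * c * g⁻¹) := by group
          obtain ⟨i, hi⟩ := hc.conj (p := p) g
          obtain ⟨j, hj⟩ := hc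
          exact ⟨i + j, by rw [hcomm.inv_right.mul_pow, pow_add, pow_mul, hi, one_pow, one_mul, mul_comm, pow_mul,
            inv_pow, hj, inv_one, one_pow]⟩
        | one => exact ⟨T.one_mem, 0, by simp⟩
        | mul v w _ _ hv hw =>
          refine ⟨T.mul_mem hv.1 hw.1, ?_⟩
          have hcomm : Commute v w := by
            have hle : T ≤ Subgroup.centralizer ({v} : Set G) := by
              rw [hcl]
              refine (Subgroup.closure_le _).mpr ?_
              rintro _ ⟨g, rfl⟩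
              exact Subgroup.mul_mem _ (mem_cent.mpr (hTab v hv.1 g).symm)
                (Subgroup.inv_mem _ (mem_cent.mpr (hTc v hv.1).symm))
            exact (mem_cent.mp (hle hw.1)).symm
          obtain ⟨i, hi⟩ := hv.2
          obtain ⟨j, hj⟩ := hw.2
          exact ⟨i + j, by rw [hcomm.mul_pow, pow_add, pow_mul, hi, one_pow, one_mul, mul_comm, pow_mul, hj, one_pow]⟩
        | inv v _ hv =>
          obtain ⟨i, hi⟩ := hv.2
          exact ⟨T.inv_mem hv.1, i, by rw [inv_pow, hi, inv_one]⟩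
      exact (key _ hu).2
    refine ⟨?_, T, hTn, ?_, hTp, hTb, hTc, hT0⟩
    · obtain ⟨k, hk⟩ := IsPGroup.iff_card.mp hTp
      refine (dvd_pow_self p ?_).trans (hk ▸ hTd)
      rintro rfl
      rw [pow_zero, Subgroup.card_eq_one] at hk
      exact pairT_ne_bot hc' hk hTb
    · exact fun hk => pairT_ne_bot hc' hk hTb
  by_cases h2 : (idx (b * c)).Coprime (idx b)
  · exfalso
    have hd : idx (b * c) ∣ idx c := h2.dvd_of_dvd_mul_left (dvd_mul_idx hco)
    have hbi : idx b⁻¹ = idx b := Nat.dvd_antisymm (idx_dvd_of_mem (inv_mem (Subgroup.mem_zpowers b)))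
      (idx_dvd_of_mem (by simpa using inv_mem (Subgroup.mem_zpowers b⁻¹)))
    have hd2 : idx c ∣ idx (b * c) := by
      have := dvd_mul_idx (x := b⁻¹) (y := b * c) (by rw [hbi]; exact h2.symm)
      rw [inv_mul_cancel_left, hbi] at this
      exact hco.symm.dvd_of_dvd_mul_left this
    obtain ⟨T, hTn, hTd, hTb, -, -⟩ := pairT hc' hb' hco.symm (by rw [idx_comm]; exact Nat.dvd_antisymm hd hd2)
    apply hb'
    rw [idx_eq_one, Subgroup.mem_center_iff]
    intro g
    have hm := hTb g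
    have hmc : Commute (g * b * g⁻¹ * b⁻¹) b :=
      mem_cent.mp (le_centralizer_of_coprime hTn hTd hco.symm hm)
    have hcomm : Commute (g * b * g⁻¹) b := by
      have := hmc.mul_left (Commute.refl b)
      rwa [inv_mul_cancel_right] at this
    have hp' : PEl p (g * b * g⁻¹ * b⁻¹) := by
      obtain ⟨i, hi⟩ := hb.conj (p := p) g
      obtain ⟨j, hj⟩ := hb
      exact ⟨i + j, by rw [hcomm.inv_right.mul_pow, pow_add, pow_mul, hi, one_pow, one_mul, mul_comm, pow_mul,
        inv_pow, hj, inv_one, one_pow]⟩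
    have hone : g * b * g⁻¹ * b⁻¹ = 1 := by
      by_contra hne
      exact hcp ((dvd_orderOf_of_ne hp' hne).trans ((Subgroup.orderOf_dvd_natCard _ hm).trans hTd))
    rw [mul_inv_eq_one, mul_inv_eq_iff_eq_mul] at hone
    exact hone
  · left
    obtain ⟨u, hu, hu1, hu2⟩ := Nat.Prime.not_coprime_iff_dvd.mp h1
    obtain ⟨t, ht, ht1, ht2⟩ := Nat.Prime.not_coprime_iff_dvd.mp h2
    exact ⟨t, u, ht, hu, ht2, hu2, radj_of ht hu (dvd_orderOf_of_ne hbc hbc1) ht1 hu1⟩

/-- the case of one witness with class size prime to `p` -/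
theorem asym (hZ : ¬ p ∣ Nat.card ↥(Subgroup.center G)) {x x' : G} {r s : ℕ} (hr : r.Prime) (hs : s.Prime)
    (hx : p ∣ orderOf x) (hx' : p ∣ orderOf x') (hrx : r ∣ idx x) (hsx : s ∣ idx x')
    (hpx' : ¬ p ∣ idx x') : Near G p r s := by
  by_contra hcon
  have hp : p.Prime := Fact.out
  obtain ⟨P, hP⟩ := exists_sylow_le hpx'
  obtain ⟨z, y', hz, hy', hzx, hyx, hzy, hz1'⟩ := exists_decomp (p := p) x'
  have hz1 := hz1' hx'
  have hPz : ∀ a ∈ (P : Subgroup G), a * z = z * a := fun a ha => by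
    obtain ⟨i, rfl⟩ := Subgroup.mem_zpowers_iff.mp hzx
    exact ((show Commute a x' from hP a ha).zpow_right i).eq
  have hPy : ∀ a ∈ (P : Subgroup G), a * y' = y' * a := fun a ha => by
    obtain ⟨i, rfl⟩ := Subgroup.mem_zpowers_iff.mp hyx
    exact ((show Commute a x' from hP a ha).zpow_right i).eq
  have hzP : z ∈ (P : Subgroup G) := hz.mem_of_commute P hPz
  have hzp : ¬ p ∣ idx z := fun h => hpx' (h.trans (idx_dvd_of_mem hzx))
  obtain ⟨b0, y0, hb0, hy0, hb0x, -, -, hb01⟩ := exists_decomp (p := p) x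
  obtain ⟨g0, hg0⟩ := hb0.exists_conj_mem P
  set b := g0 * b0 * g0⁻¹ with hbdef
  have hb : PEl p b := hb0.conj g0
  have hb1 : b ≠ 1 := by simpa [hbdef] using hb01 hx
  have hbx : idx b ∣ idx x := by rw [hbdef, idx_conj]; exact idx_dvd_of_mem hb0x
  have hbz : Commute b z := hPz b hg0
  have hzo : p ∣ orderOf z := dvd_orderOf_of_ne hz hz1
  have hbo : p ∣ orderOf b := dvd_orderOf_of_ne hb hb1
  have hVx : ∀ t : ℕ, t.Prime → t ∣ idx b → Vert G p t := fun t ht h => exists_pel_singular hx ht (h.trans hbx)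
  have hrt : ∀ t : ℕ, t.Prime → t ∣ idx b → RAdj G p r t := fun t ht h => radj_of hr ht hx hrx (h.trans hbx)
  have hzs : ∀ t : ℕ, t.Prime → t ∣ idx z → RAdj G p t s := fun t ht h =>
    radj_of ht hs hx' (h.trans (idx_dvd_of_mem hzx)) hsx
  have hco : (idx b).Coprime (idx z) := by
    by_contra hn
    obtain ⟨t, ht, ht1, ht2⟩ := Nat.Prime.not_coprime_iff_dvd.mp hn
    exact hcon ⟨t, t, hVx t ht ht1, hVx t ht ht1, hrt t ht ht1, Or.inl rfl, hzs t ht ht2⟩
  rcases link hZ hb hb1 hz hz1 hbz hco hzp with ⟨t, u, ht, hu, ht1, hu1, htu⟩ | ⟨hpb, T, hTn, hT0, hTp, hTz, hTc, hTb⟩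
  · exact hcon ⟨t, u, hVx t ht ht1, exists_pel_singular hzo hu hu1, hrt t ht ht1, htu, hzs u hu hu1⟩
  have hrp := hrt p hp hpb
  have hVp := hVx p hp hpb
  -- `x'` may be taken a `p`-element
  have hy'1 : idx y' = 1 := by
    by_contra hne
    obtain ⟨v, hv, hv1⟩ := Nat.exists_prime_and_dvd hne
    have hc : Commute b y' := hPy b hg0
    have hd := mem_zpowers_mul hb hy' hc
    exact hcon ⟨p, v, hVp, exists_pel_singular hx' hv (hv1.trans (idx_dvd_of_mem hyx)), hrp,
      radj_of hp hv (singular_mul hb hb1 hy' hc) (hpb.trans (idx_dvd_of_mem hd.1))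
        (hv1.trans (idx_dvd_of_mem hd.2)),
      radj_of hv hs hx' (hv1.trans (idx_dvd_of_mem hyx)) hsx⟩
  have hsz : s ∣ idx z := by
    refine hsx.trans (Subgroup.index_dvd_of_le fun g hg => mem_cent.mpr ?_)
    have h1 : Commute g z := mem_cent.mp hg
    have h2 : Commute g y' := Subgroup.mem_center_iff.mp (idx_eq_one.mp hy'1) g
    rw [← hzy]
    exact (h1.mul_right h2).eq
  -- `z` lies in a normal `p`-subgroup
  set O := T ⊔ Subgroup.zpowers z with hOdef
  have hOp : IsPGroup p O := by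
    refine hTp.to_sup_of_normal_left' hz.zpowers ?_
    rw [Subgroup.normalizer_eq_top]; exact le_top
  have hzO : ∀ g, g * z * g⁻¹ ∈ O := fun g => by
    have := O.mul_mem (Subgroup.mem_sup_left (hTz g)) (Subgroup.mem_sup_right (Subgroup.mem_zpowers z))
    rwa [inv_mul_cancel_right] at this
  have hOn : O.Normal := ⟨fun n hn g => by
    have hle : O ≤ O.comap (MulAut.conj g).toMonoidHom := sup_le
      (fun u hu => Subgroup.mem_sup_left (hTn.conj_mem u hu g))
      (Subgroup.zpowers_le.mpr (hzO g))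
    exact hle hn⟩
  have hOle : ∀ Q : Sylow p G, O ≤ (Q : Subgroup G) := fun Q => hOp.le_sylow_of_normal Q
  -- class sizes of noncentral `p`-elements are prime to that of `z`
  have hA : ∀ a : G, PEl p a → p ∣ idx a → (idx a).Coprime (idx z) := by
    intro a ha hpa
    by_contra hn
    obtain ⟨v, hv, hv1, hv2⟩ := Nat.Prime.not_coprime_iff_dvd.mp hn
    have ha1 : a ≠ 1 := by
      rintro rfl
      rw [idx_eq_one.mpr (Subgroup.one_mem _)] at hpa
      exact hp.not_dvd_one hpa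
    exact hcon ⟨p, v, hVp, exists_pel_singular hzo hv hv2, hrp,
      radj_of hp hv (dvd_orderOf_of_ne ha ha1) hpa hv1, hzs v hv hv2⟩
  have hPz' : ∀ a ∈ (P : Subgroup G), ∀ g, a * (g * z * g⁻¹) = g * z * g⁻¹ * a := by
    intro a ha g
    by_cases hpa : p ∣ idx a
    · obtain ⟨w, hw1, hw2⟩ := simul (hA a (pel_of_mem P.isPGroup' ha) hpa) 1 g
      simp only [one_mul, inv_one, mul_one] at hw1
      rw [← hw2]
      conv_lhs => rw [← hw1]
      conv_rhs => rw [← hw1]
      calc w * a * w⁻¹ * (w * z * w⁻¹) = w * (a * z) * w⁻¹ := by group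
        _ = w * (z * a) * w⁻¹ := by rw [hPz a ha]
        _ = _ := by group
    · obtain ⟨Q, hQ⟩ := exists_sylow_le hpa
      exact (hQ _ (hOle Q (hzO g))).symm
  have hpel : ∀ a : G, PEl p a → ∀ g, a * (g * z * g⁻¹) = g * z * g⁻¹ * a := by
    intro a ha g
    obtain ⟨k, hk⟩ := ha.exists_conj_mem P
    have := hPz' _ hk (k * g)
    calc a * (g * z * g⁻¹) = k⁻¹ * (k * a * k⁻¹ * (k * g * z * (k * g)⁻¹)) * k := by group
      _ = k⁻¹ * (k * g * z * (k * g)⁻¹ * (k * a * k⁻¹)) * k := by rw [this]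
      _ = g * z * g⁻¹ * a := by group
  have hpelz : ∀ a : G, PEl p a → a * z = z * a := fun a ha => by simpa using hpel a ha 1
  -- the `p'`-elements centralising `z`
  have hB : ∀ y : G, ¬ p ∣ orderOf y → y * z = z * y →
      ¬ p ∣ idx y ∧ (∀ g, y * (g * z * g⁻¹) = g * z * g⁻¹ * y) ∧
        ∀ a : G, PEl p a → p ∣ idx a → ∀ g, y * (g * a * g⁻¹) = g * a * g⁻¹ * y := by
    intro y hy hyz
    have hczy : Commute z y := hyz.symm
    have hd := mem_zpowers_mul hz hy hczy
    have hso := singular_mul hz hz1 hy hczy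
    have hyp : ¬ p ∣ idx y := fun h => hcon ⟨p, p, hVp, hVp, hrp, Or.inl rfl,
      radj_of hp hs hso (h.trans (idx_dvd_of_mem hd.2)) (hsz.trans (idx_dvd_of_mem hd.1))⟩
    obtain ⟨Q, hQ⟩ := exists_sylow_le hyp
    have hex : ∀ a : G, PEl p a → p ∣ idx a → ∃ k, PEl p (k * a * k⁻¹) ∧ k * a * k⁻¹ ≠ 1 ∧
        p ∣ idx (k * a * k⁻¹) ∧ Commute (k * a * k⁻¹) y := by
      intro a ha hpa
      obtain ⟨k, hk⟩ := ha.exists_conj_mem Q
      refine ⟨k, ha.conj k, ?_, by rwa [idx_conj], hQ _ hk⟩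
      intro h
      rw [conj_eq_one_iff] at h
      subst h
      rw [idx_eq_one.mpr (Subgroup.one_mem _)] at hpa
      exact hp.not_dvd_one hpa
    refine ⟨hyp, fun g => ?_, fun a ha hpa g => ?_⟩
    · obtain ⟨k, ha', ha1', hpa', hc'⟩ := hex b hb hpb
      have hd' := mem_zpowers_mul ha' hy hc'
      have hcoy : (idx y).Coprime (idx z) := by
        by_contra hn
        obtain ⟨v, hv, hv1, hv2⟩ := Nat.Prime.not_coprime_iff_dvd.mp hn
        exact hcon ⟨p, v, hVp, exists_pel_singular hzo hv hv2, hrp,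
          radj_of hp hv (singular_mul ha' ha1' hy hc') (hpa'.trans (idx_dvd_of_mem hd'.1))
            (hv1.trans (idx_dvd_of_mem hd'.2)), hzs v hv hv2⟩
      obtain ⟨w, hw1, hw2⟩ := simul hcoy 1 g
      simp only [one_mul, inv_one, mul_one] at hw1
      rw [← hw2]
      conv_lhs => rw [← hw1]
      conv_rhs => rw [← hw1]
      calc w * y * w⁻¹ * (w * z * w⁻¹) = w * (y * z) * w⁻¹ := by group
        _ = w * (z * y) * w⁻¹ := by rw [hyz]
        _ = _ := by group
    · obtain ⟨k, ha', ha1', hpa', hc'⟩ := hex a ha hpa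
      have hd' := mem_zpowers_mul ha' hy hc'
      have hcoy : (idx y).Coprime (idx (k * a * k⁻¹)) := by
        by_contra hn
        obtain ⟨v, hv, hv1, hv2⟩ := Nat.Prime.not_coprime_iff_dvd.mp hn
        exact hcon ⟨p, v, hVp, exists_pel_singular hso hv (hv1.trans (idx_dvd_of_mem hd.2)), hrp,
          radj_of hp hv (dvd_orderOf_of_ne ha' ha1') hpa' hv2,
          radj_of hv hs hso (hv1.trans (idx_dvd_of_mem hd.2)) (hsz.trans (idx_dvd_of_mem hd.1))⟩
      obtain ⟨w, hw1, hw2⟩ := simul hcoy 1 (g * k⁻¹)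
      simp only [one_mul, inv_one, mul_one] at hw1
      rw [show g * a * g⁻¹ = g * k⁻¹ * (k * a * k⁻¹) * (g * k⁻¹)⁻¹ by group, ← hw2]
      conv_lhs => rw [← hw1]
      conv_rhs => rw [← hw1]
      calc w * y * w⁻¹ * (w * (k * a * k⁻¹) * w⁻¹) = w * (y * (k * a * k⁻¹)) * w⁻¹ := by group
        _ = w * ((k * a * k⁻¹) * y) * w⁻¹ := by rw [hc'.eq]
        _ = _ := by group
  -- noncentral `p`-elements lie in every Sylow subgroup
  have hW : ∀ a : G, PEl p a → p ∣ idx a → ∀ Q : Sylow p G, a ∈ (Q : Subgroup G) := by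
    intro a ha hpa Q
    set W := Subgroup.closure (cls a) with hWdef
    have hWn : W.Normal := by
      refine ⟨fun u hu g => ?_⟩
      have hle : W ≤ W.comap (MulAut.conj g).toMonoidHom := by
        rw [hWdef, Subgroup.closure_le]
        rintro _ ⟨k, rfl⟩
        exact Subgroup.subset_closure ⟨g * k, by simp [mul_assoc]⟩
      exact hle hu
    have hWz : W ≤ Subgroup.centralizer ({z} : Set G) := by
      rw [hWdef, Subgroup.closure_le]
      rintro _ ⟨k, rfl⟩
      exact mem_cent.mpr (hpelz _ (ha.conj k))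
    have hq : IsPGroup p (W ⧸ Subgroup.center W) := by
      intro u
      induction u using QuotientGroup.induction_on with | H u => ?_
      obtain ⟨c, y, hc, hy, hcu, hyu, hcy, -⟩ := exists_decomp (p := p) (u : G)
      have hyW : y ∈ W := Subgroup.zpowers_le.mpr u.2 hyu
      have hcW : c ∈ W := Subgroup.zpowers_le.mpr u.2 hcu
      have hyc : (⟨y, hyW⟩ : W) ∈ Subgroup.center W := by
        rw [Subgroup.mem_center_iff]
        intro m
        refine Subtype.ext ?_
        have hle : W ≤ Subgroup.centralizer ({y} : Set G) := by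
          rw [hWdef, Subgroup.closure_le]
          rintro _ ⟨k, rfl⟩
          exact mem_cent.mpr ((hB y hy (mem_cent.mp (hWz hyW))).2.2 a ha hpa k).symm
        exact mem_cent.mp (hle m.2)
      obtain ⟨k, hk⟩ := hc
      refine ⟨k, ?_⟩
      have e : u = ⟨c, hcW⟩ * ⟨y, hyW⟩ := Subtype.ext hcy.symm
      rw [e, QuotientGroup.mk_mul, (QuotientGroup.eq_one_iff _).mpr hyc, mul_one, ← QuotientGroup.mk_pow,
        show (⟨c, hcW⟩ : W) ^ p ^ k = 1 from Subtype.ext hk]
      rfl
    have hnil : Group.IsNilpotent W := Group.of_quotient_center_nilpotent hq.isNilpotent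
    obtain ⟨R⟩ := (inferInstance : Nonempty (Sylow p W))
    have hall : ∀ k, k * a * k⁻¹ ∈ (R : Subgroup W).map W.subtype := by
      intro k
      have hm : k * a * k⁻¹ ∈ W := Subgroup.subset_closure ⟨k, rfl⟩
      have hel : PEl p (⟨_, hm⟩ : W) := by
        obtain ⟨i, hi⟩ := ha.conj (p := p) k
        exact ⟨i, Subtype.ext hi⟩
      obtain ⟨g, hg⟩ := hel.exists_conj_mem R
      have hn : (R : Subgroup W).Normal := inferInstance
      have := hn.conj_mem _ hg g⁻¹
      refine ⟨⟨_, hm⟩, SetLike.mem_coe.mpr ?_, rfl⟩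
      simpa [mul_assoc] using this
    have hWR : W ≤ (R : Subgroup W).map W.subtype := by
      refine (Subgroup.closure_le _).mpr ?_
      rintro _ ⟨k, rfl⟩
      exact hall k
    have hWp : IsPGroup p W := (R.isPGroup'.map W.subtype).to_le hWR
    exact hWp.le_sylow_of_normal Q (Subgroup.subset_closure ⟨1, by simp⟩)
  -- the Sylow subgroup is unique
  have hPu : ∀ a : G, PEl p a → a ∈ (P : Subgroup G) := by
    have key : ∀ Q : Sylow p G, ∀ a : G, PEl p a → a ∈ (Q : Subgroup G) := by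
      by_contra! hne
      obtain ⟨Q0, x0, hx0, hx0Q⟩ := hne
      set I : Subgroup G := ⨅ Q : Sylow p G, (Q : Subgroup G) with hI
      have hIn : I.Normal := ⟨fun n hn g => by
        rw [hI, Subgroup.mem_iInf] at hn ⊢
        intro Q
        have := hn (g⁻¹ • Q)
        rw [Sylow.coe_subgroup_smul, Subgroup.mem_pointwise_smul_iff_inv_smul_mem, ← map_inv, MulAut.smul_def,
          MulAut.conj_apply, inv_inv] at this
        simpa [mul_assoc] using this⟩
      have hnotI : ∀ c : G, PEl p c → c ∉ I → ∀ q ∈ I, q * c = c * q := by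
        intro c hc hcI q hq
        have hpc : ¬ p ∣ idx c := fun h => hcI ((Subgroup.mem_iInf).mpr (hW c hc h))
        obtain ⟨Q, hQ⟩ := exists_sylow_le hpc
        exact hQ q ((Subgroup.mem_iInf.mp hq) Q)
      have hx0I : x0 ∉ I := fun h => hx0Q ((Subgroup.mem_iInf.mp h) Q0)
      have hab : ∀ q ∈ I, ∀ q' ∈ I, q' * q = q * q' := by
        intro q hq q' hq'
        have hxq : PEl p (x0 * q) := by
          have hIp : IsPGroup p I := P.isPGroup'.to_le (iInf_le _ P)
          refine pel_of_mem (hx0.zpowers.to_sup_of_normal_right' hIp ?_)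
            (Subgroup.mul_mem_sup (Subgroup.mem_zpowers x0) hq)
          rw [Subgroup.normalizer_eq_top]; exact le_top
        have h1 := hnotI x0 hx0 hx0I q' hq'
        have h2 := hnotI _ hxq (fun h => hx0I (by simpa using I.mul_mem h (I.inv_mem hq))) q' hq'
        rw [← mul_assoc, h1, mul_assoc, mul_assoc] at h2
        exact mul_left_cancel h2
      have hbI : b ∈ I := Subgroup.mem_iInf.mpr (hW b hb hpb)
      have hnc : ¬ (P : Subgroup G) ≤ Subgroup.centralizer ({b} : Set G) := fun h =>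
        P.not_dvd_index (hpb.trans (Subgroup.index_dvd_of_le h))
      apply hnc
      intro h hh
      refine mem_cent.mpr ?_
      by_cases hhI : h ∈ I
      · exact hab b hbI h hhI
      · exact (hnotI h (pel_of_mem P.isPGroup' hh) hhI b hbI).symm
    exact key P
  have hPn : (P : Subgroup G).Normal := ⟨fun n hn g => hPu _ ((pel_of_mem P.isPGroup' hn).conj g)⟩
  -- action on the Frattini quotient
  set F := (frattini (P : Subgroup G)).map (P : Subgroup G).subtype with hF
  have hFn : F.Normal := by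
    refine ⟨fun n hn g => ?_⟩
    obtain ⟨⟨n, hnP⟩, hn, rfl⟩ := hn
    exact ⟨MulAut.conjNormal (H := (P : Subgroup G)) g ⟨n, hnP⟩,
      frattini_le_comap_frattini_of_surjective (MulAut.conjNormal g).surjective hn,
      MulAut.conjNormal_apply _ _⟩
  have hFc : ∀ c ∈ (P : Subgroup G), ∀ a ∈ (P : Subgroup G), c * a * c⁻¹ * a⁻¹ ∈ F := fun c hc a ha =>
    ⟨⁅(⟨c, hc⟩ : (P : Subgroup G)), ⟨a, ha⟩⁆, PGroup.commutatorElement_mem_frattini P.isPGroup' _ _, rfl⟩
  have hΩ : ∀ g : G, ∀ a : G, PEl p a → p ∣ idx a → g * a * g⁻¹ * a⁻¹ ∈ F := by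
    intro g a ha hpa
    obtain ⟨m, hm, c, hc, rfl⟩ := exists_eq_mul (A := Subgroup.centralizer ({z} : Set G))
      (B := Subgroup.centralizer ({a} : Set G)) (hA a ha hpa).symm g
    obtain ⟨d, y, hd, hy, hdm, hym, rfl, -⟩ := exists_decomp (p := p) m
    have hyz : y * z = z * y := mem_cent.mp (Subgroup.zpowers_le.mpr hm hym)
    have hya : y * a = a * y := by simpa using (hB y hy hyz).2.2 a ha hpa 1
    rw [show d * y * c * a * (d * y * c)⁻¹ * a⁻¹ = d * y * (c * a * c⁻¹) * y⁻¹ * d⁻¹ * a⁻¹ by group,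
      mem_cent.mp hc, mul_inv_cancel_right,
      show d * y * a * y⁻¹ * d⁻¹ * a⁻¹ = d * (y * a * y⁻¹) * d⁻¹ * a⁻¹ by group,
      hya, mul_inv_cancel_right]
    exact hFc d (hPu d hd) a (hPu a ha)
  have hPall : ∀ g : G, ∀ k ∈ (P : Subgroup G), g * k * g⁻¹ * k⁻¹ ∈ F := by
    intro g k hk
    have hkel := pel_of_mem P.isPGroup' hk
    by_cases hpk : p ∣ idx k
    · exact hΩ g k hkel hpk
    have hkc : ∀ u ∈ (P : Subgroup G), u * k = k * u := by
      obtain ⟨Q, hQ⟩ := exists_sylow_le hpk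
      intro u hu
      have : u ∈ (Q : Subgroup G) := by
        obtain ⟨h, hh⟩ := (pel_of_mem P.isPGroup' hu).exists_conj_mem Q
        have hPQ : (P : Subgroup G) = Q := le_antisymm (P.isPGroup'.le_sylow_of_normal Q)
          (fun w hw => hPu w (pel_of_mem Q.isPGroup' hw))
        exact hPQ ▸ hu
      exact hQ u this
    have hkb : PEl p (k * b) := pel_of_mem P.isPGroup' ((P : Subgroup G).mul_mem hk hg0)
    have hpkb : p ∣ idx (k * b) := by
      by_contra hn
      apply P.not_dvd_index (p := p)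
      refine hpb.trans (Subgroup.index_dvd_of_le fun u hu => mem_cent.mpr ?_)
      obtain ⟨Q, hQ⟩ := exists_sylow_le hn
      have hPQ : (P : Subgroup G) = Q := le_antisymm (P.isPGroup'.le_sylow_of_normal Q)
        (fun w hw => hPu w (pel_of_mem Q.isPGroup' hw))
      have h1 := hQ u (hPQ ▸ hu)
      rw [← mul_assoc, hkc u hu, mul_assoc, mul_assoc] at h1
      exact mul_left_cancel h1
    have h1 := hΩ g (k * b) hkb hpkb
    have h2 := hΩ g b hb hpb
    have h3 := hFn.conj_mem _ (F.inv_mem h2) k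
    have h4 := F.mul_mem h1 (show k * (g * b * g⁻¹ * b⁻¹)⁻¹ * k⁻¹ ∈ F from h3)
    convert h4 using 1
    group
  have htriv : ∀ g : G, ¬ p ∣ orderOf g → g * z = z * g := by
    intro g hg
    have hle := Coprime.le_centralizer_of_forall_mem_frattini (A := Subgroup.zpowers g) (K := (P : Subgroup G))
      (by rw [Subgroup.normalizer_eq_top]; exact le_top)
      (by
        rw [Nat.card_zpowers]
        obtain ⟨e, he⟩ := IsPGroup.iff_card.mp (P.isPGroup'.to_subgroup (frattini (P : Subgroup G)))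
        rw [he]
        exact ((hp.coprime_iff_not_dvd.mpr hg).pow_left e).symm)
      (fun c _ k hk => hPall c k hk)
    exact ((hle (Subgroup.mem_zpowers g)) z hzP).symm
  apply not_center hZ hz hz1
  rw [idx_eq_one, Subgroup.mem_center_iff]
  intro g
  obtain ⟨d, y, hd, hy, -, -, rfl, -⟩ := exists_decomp (p := p) g
  exact (Commute.mul_left (hpelz d hd : Commute d z) (htriv y hy : Commute y z)).eq

end

/-- Let `G` be a finite group and `p` a prime not dividing the order of the centre of `G`. Consider the primes dividing the size of some conjugacy class of a `p`-singular element (an element of order divisible by `p`), two of them adjacent when their product divides such a class size. Then any two distinct such primes are joined by a path with at most 3 edges (the graph is connected of diameter at most 3). -/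
theorem result {G : Type*} [Group G] [Finite G] (p : ℕ) [Fact p.Prime]
    (hZ : ¬ p ∣ Nat.card ↥(Subgroup.center G)) (r s : ℕ) (hr : (r.Prime ∧ ∃ x : G, p ∣ orderOf x ∧ r ∣ (Subgroup.centralizer ({x} : Set G)).index)) (hs : (s.Prime ∧ ∃ x : G, p ∣ orderOf x ∧ s ∣ (Subgroup.centralizer ({x} : Set G)).index)) (hrs : r ≠ s) :
    (∃ x : G, p ∣ orderOf x ∧ r * s ∣ (Subgroup.centralizer ({x} : Set G)).index) ∨ (∃ t : ℕ, (t.Prime ∧ ∃ x : G, p ∣ orderOf x ∧ t ∣ (Subgroup.centralizer ({x} : Set G)).index) ∧ t ≠ r ∧ t ≠ s ∧ (∃ x : G, p ∣ orderOf x ∧ r * t ∣ (Subgroup.centralizer ({x} : Set G)).index) ∧ (∃ x : G, p ∣ orderOf x ∧ t * s ∣ (Subgroup.centralizer ({x} : Set G)).index)) ∨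
      (∃ t u : ℕ, (t.Prime ∧ ∃ x : G, p ∣ orderOf x ∧ t ∣ (Subgroup.centralizer ({x} : Set G)).index) ∧ (u.Prime ∧ ∃ x : G, p ∣ orderOf x ∧ u ∣ (Subgroup.centralizer ({x} : Set G)).index) ∧ t ≠ r ∧ u ≠ s ∧ t ≠ u ∧ (∃ x : G, p ∣ orderOf x ∧ r * t ∣ (Subgroup.centralizer ({x} : Set G)).index) ∧ (∃ x : G, p ∣ orderOf x ∧ t * u ∣ (Subgroup.centralizer ({x} : Set G)).index) ∧ (∃ x : G, p ∣ orderOf x ∧ u * s ∣ (Subgroup.centralizer ({x} : Set G)).index)) := by
  obtain ⟨hr', x, hx, hrx⟩ := hr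
  obtain ⟨hs', x', hx', hsx⟩ := hs
  refine Near.cases hrs ?_
  change r ∣ S4314.idx x at hrx
  change s ∣ S4314.idx x' at hsx
  by_cases h1 : p ∣ S4314.idx x'
  · by_cases h2 : p ∣ S4314.idx x
    · exact ⟨p, p, exists_pel_singular hx Fact.out h2, exists_pel_singular hx Fact.out h2,
        radj_of hr' Fact.out hx hrx h2, Or.inl rfl, radj_of Fact.out hs' hx' h1 hsx⟩
    · exact (asym hZ hs' hr' hx' hx hsx hrx h2).symm
  · exact asym hZ hr' hs' hx hx' hrx hsx h1

end Cfsg.Agent.S4321
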