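import Cfsg.Statements.S4323
import Cfsg.Agent.Lib.FPQ.Main
import Cfsg.Agent.Lib.Coprime.Action

set_option autoImplicit false
open Cfsg

namespace Cfsg.Agent.S4323

/-- Let `q` be a prime and `A` a non-cyclic group of order `q²` acting by automorphisms on a finite group `G` of order prime to `q`, such that the fixed-point subgroup `C_G(a)` is abelian for every non-identity `a ∈ A`. Then `G` is solvable. -/
theorem result {A G : Type*} [Group A] [Finite A]
    [Group G] [Finite G] [MulDistribMulAction A G] (q : ℕ) (hq : q.Prime) (hA : Nat.card A = q ^ 2) (hnc : ¬ IsCyclic A)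
    (hcop : ¬ q ∣ Nat.card G) (h : ∀ a : A, a ≠ 1 → IsMulCommutative ↥(FixedPoints.subgroup (Subgroup.zpowers a) G)) :
    Group.IsSolvable G := by
  have : Finite (Agent.Coprime.toSemi A G) := Finite.of_equiv _ SemidirectProduct.equivProd.symm
  let i : G →* Agent.Coprime.toSemi A G := SemidirectProduct.inl
  let j : A →* Agent.Coprime.toSemi A G := SemidirectProduct.inr
  have hK : Group.IsSolvable (Agent.Coprime.embK A G) := by
    refine FPQ.Op0.isSolvable (q := q) (A := Agent.Coprime.embA A G) ⟨hq, ?_, ?_, ?_, ?_, ?_⟩
    · rw [Agent.Coprime.card_embA, hA]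
    · exact fun hc => hnc ((MonoidHom.ofInjective (f := j) SemidirectProduct.inr_injective).isCyclic.2 hc)
    · exact Agent.Coprime.embA_le_normalizer A G
    · rw [Agent.Coprime.card_embA, Agent.Coprime.card_embK, hA]
      exact ((hq.coprime_iff_not_dvd).2 hcop).pow_left 2
    · rintro _ ⟨a, rfl⟩ ha1 _ ⟨⟨x, rfl⟩, hx⟩ _ ⟨⟨y, rfl⟩, hy⟩
      have hne : a ≠ 1 := fun e => ha1 (by rw [e, map_one])
      have hfix : ∀ z : G, i z ∈ Subgroup.centralizer {j a} →
          z ∈ FixedPoints.subgroup (Subgroup.zpowers a) G := by
        intro z hz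
        have h1 : a ∈ MulAction.stabilizer A z := by
          rw [MulAction.mem_stabilizer_iff]
          refine SemidirectProduct.inl_injective (φ := MulDistribMulAction.toMulAut A G) ?_
          rw [← Agent.Coprime.inr_conj_inl, mul_inv_eq_iff_eq_mul]
          exact (Subgroup.mem_centralizer_singleton_iff.1 hz).symm
        exact fun m => Subgroup.zpowers_le.2 h1 m.2
      have := h a hne
      rw [← map_mul, ← map_mul]
      exact congrArg i (setLike_mul_comm (hfix x hx) (hfix y hy))
  exact Group.isSolvable_of_isSolvable_injective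
    (f := (SemidirectProduct.inl : G →* Agent.Coprime.toSemi A G).rangeRestrict)
    (MonoidHom.rangeRestrict_injective_iff.2 SemidirectProduct.inl_injective)

end Cfsg.Agent.S4323
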