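import Cfsg.Statements.S4325
import Cfsg.Agent.EqLemmas

set_option autoImplicit false
open Cfsg

namespace Cfsg.Agent.S4325

lemma exists_colouring {α : Type*} [Fintype α] [DecidableEq α] :
    ∀ (m : ℕ) (t : Fin m → Equiv.Perm α), (∀ i, (t i).IsSwap) →
      ∃ c : α → α, (∀ i a, c (t i a) = c a) ∧ Fintype.card α ≤ (Finset.univ.image c).card + m := by
  intro m
  induction m with
  | zero => exact fun t _ => ⟨id, fun i => i.elim0, by simp⟩
  | succ m ih =>
    intro t ht
    obtain ⟨c, hc, hcard⟩ := ih (fun i => t i.castSucc) (fun i => ht _)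
    obtain ⟨a, b, -, hab⟩ := ht (Fin.last m)
    refine ⟨fun x => if c x = c b then c a else c x, ?_, ?_⟩
    · intro i x
      induction i using Fin.lastCases with
      | last =>
        rw [hab]
        rcases eq_or_ne x a with rfl | hxa
        · by_cases h : c x = c b <;> simp [h]
        · rcases eq_or_ne x b with rfl | hxb
          · by_cases h : c a = c x <;> simp [h]
          · rw [Equiv.swap_apply_of_ne_of_ne hxa hxb]
      | cast j => simp [hc j x]
    · have : (Finset.univ.image c).erase (c b) ⊆
          Finset.univ.image (fun x => if c x = c b then c a else c x) := by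
        intro y hy
        obtain ⟨hyb, hy⟩ := Finset.mem_erase.mp hy
        obtain ⟨x, -, rfl⟩ := Finset.mem_image.mp hy
        exact Finset.mem_image.mpr ⟨x, Finset.mem_univ _, by simp [hyb]⟩
      have h2 := Finset.card_le_card this
      have h3 := Finset.card_erase_of_mem (Finset.mem_image_of_mem c (Finset.mem_univ b))
      omega

lemma not_dvd_card_closure (r m : ℕ) (hr : r.Prime) (hm : m + 1 < r)
    (t : Fin m → Equiv.Perm (Fin r)) (ht : ∀ i, (t i).IsSwap) :
    ¬ r ∣ Nat.card (Subgroup.closure (Set.range t)) := by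
  intro h
  obtain ⟨c, hc, hcard⟩ := exists_colouring m t ht
  have hcl : ∀ σ ∈ Subgroup.closure (Set.range t), ∀ a, c (σ a) = c a := by
    intro σ hσ
    induction hσ using Subgroup.closure_induction with
    | mem y hy => obtain ⟨i, rfl⟩ := hy; exact hc i
    | one => simp
    | mul a b _ _ iha ihb => intro x; simp [iha, ihb]
    | inv a _ iha =>
      intro x
      conv_rhs => rw [← (a.apply_symm_apply x)]
      rw [iha]; rfl
  have := Fact.mk hr
  obtain ⟨⟨σ, hσ⟩, hord⟩ := exists_prime_orderOf_dvd_card' r h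
  rw [Subgroup.orderOf_mk] at hord
  obtain ⟨hcyc, hsupp⟩ : σ.IsCycle ∧ σ.support.card = r := by
    have hcy : σ.IsCycle := Equiv.Perm.isCycle_of_prime_order'' (by simpa using hr) (by simpa using hord)
    exact ⟨hcy, by rw [← hcy.orderOf, hord]⟩
  have huniv : σ.support = Finset.univ := Finset.eq_univ_of_card _ (by simp [hsupp])
  have hconst : ∀ a b, c a = c b := by
    intro a b
    obtain ⟨i, hi⟩ := hcyc.exists_zpow_eq (x := a) (y := b)
      (Equiv.Perm.mem_support.mp (huniv ▸ Finset.mem_univ a))
      (Equiv.Perm.mem_support.mp (huniv ▸ Finset.mem_univ b))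
    rw [← hi, hcl _ (Subgroup.zpow_mem _ hσ i)]
  have : (Finset.univ.image c).card ≤ 1 := Finset.card_le_one.mpr (by
    intro u hu v hv
    obtain ⟨a, -, rfl⟩ := Finset.mem_image.mp hu
    obtain ⟨b, -, rfl⟩ := Finset.mem_image.mp hv
    exact hconst a b)
  simp at hcard
  omega

lemma dvd_card_of_normal (r : ℕ) (N : Subgroup (Equiv.Perm (Fin r))) [N.Normal] (h : N ≠ ⊥) :
    r ∣ Nat.card N := by
  obtain ⟨σ, hσ, hne⟩ : ∃ σ ∈ N, σ ≠ 1 := by
    by_contra hc; push_neg at hc; exact h ((Subgroup.eq_bot_iff_forall N).mpr hc)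
  obtain ⟨i, hi⟩ : ∃ i, σ i ≠ i := by
    by_contra hc; push_neg at hc; exact hne (Equiv.ext hc)
  have htr : ∀ k, k ∈ MulAction.orbit N i := by
    intro k
    rcases eq_or_ne k i with rfl | hk
    · exact MulAction.mem_orbit_self _
    · refine ⟨⟨_, Subgroup.Normal.conj_mem inferInstance σ hσ (Equiv.swap (σ i) k)⟩, ?_⟩
      show (Equiv.swap (σ i) k * σ * (Equiv.swap (σ i) k)⁻¹) i = k
      simp [Equiv.swap_apply_of_ne_of_ne (Ne.symm hi) (Ne.symm hk)]
  have h1 : Nat.card (MulAction.orbit N i) = r := by
    rw [Set.eq_univ_of_forall htr]; simp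
  refine h1.symm.dvd.trans ?_
  rw [Nat.card_coe_set_eq, ← MulAction.index_stabilizer]
  exact Subgroup.index_dvd_card _

/-- Let r be a prime and m a natural number with m + 1 < r, and let π be a set of primes containing every prime below r but not r itself. Then in the symmetric group of degree r any m transpositions generate a π-subgroup, while O_π of the symmetric group is trivial. (So no bound on the number of conjugates that works for all π exists in the π-radical analogue of the Baer–Suzuki Theorem.) -/
theorem result (r m : ℕ) (hr : r.Prime)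
    (hm : m + 1 < r) (π : Set ℕ) (hπ : ∀ q : ℕ, q.Prime → q < r → q ∈ π) (hrπ : r ∉ π)
    (t : Fin m → Equiv.Perm (Fin r)) (ht : ∀ i, (t i).IsSwap) :
    Cfsg.IsPiSubgroup π (Subgroup.closure (Set.range t)) ∧ Cfsg.piCore π (Equiv.Perm (Fin r)) = ⊥ := by
  refine ⟨fun q hq hdvd => hπ q hq ?_, ?_⟩
  · have hqf : q ∣ r.factorial := by
      have := hdvd.trans (Subgroup.card_subgroup_dvd_card _)
      simpa [Nat.card_perm, Fintype.card_perm] using this
    rcases lt_or_eq_of_le ((Nat.Prime.dvd_factorial hq).mp hqf) with h | h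
    · exact h
    · exact absurd (h ▸ hdvd) (not_dvd_card_closure r m hr hm t ht)
  · refine le_bot_iff.mp (sSup_le ?_)
    rintro N ⟨hN, hpi⟩
    by_contra hne
    exact hrπ (hpi r hr (dvd_card_of_normal r N (fun e => hne e.le)))

end Cfsg.Agent.S4325
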