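import Cfsg.Statements.S4326
import Cfsg.Agent.EqLemmas

set_option autoImplicit false
open Pointwise
open Cfsg

namespace Cfsg.Agent.S4326

lemma perm_fixed {α : Type*} [Finite α] (p : ℕ) [Fact p.Prime] (f : Equiv.Perm α) (k : ℕ)
    (hf : f ^ p ^ k = 1) : Nat.card α ≡ Nat.card {a // f a = a} [MOD p] := by
  have hP : IsPGroup p (Subgroup.zpowers f) := by
    rintro ⟨_, i, rfl⟩
    refine ⟨k, Subtype.ext ?_⟩
    show (f ^ i) ^ p ^ k = 1
    rw [← zpow_natCast (f ^ i), ← zpow_mul, mul_comm, zpow_mul, zpow_natCast, hf, one_zpow]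
  have h := hP.card_modEq_card_fixedPoints α
  have e : Nat.card (MulAction.fixedPoints (Subgroup.zpowers f) α) = Nat.card {a // f a = a} := by
    refine Nat.card_congr (Equiv.subtypeEquivRight fun a => ⟨fun ha => ha ⟨f, Subgroup.mem_zpowers f⟩, ?_⟩)
    rintro ha ⟨_, i, rfl⟩
    exact Equiv.Perm.zpow_apply_eq_self_of_apply_eq_self ha i
  rwa [e] at h

variable {G : Type*} [Group G]

lemma quot_map (x : MulAut G) (S : Subgroup G) (hS : ∀ g, g ∈ S → x g ∈ S) (a b : G)
    (h : QuotientGroup.leftRel S a b) : QuotientGroup.leftRel S (x a) (x b) := by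
  rw [QuotientGroup.leftRel_apply] at *
  simpa [map_mul, map_inv] using hS _ h

/-- the permutation induced on cosets -/
noncomputable def cosetPerm (x : MulAut G) (S : Subgroup G) (hS : ∀ g, g ∈ S ↔ x g ∈ S) : Equiv.Perm (G ⧸ S) where
  toFun := Quotient.map x (fun a b h => quot_map x S (fun g => (hS g).mp) a b h)
  invFun := Quotient.map x.symm (fun a b h => quot_map x.symm S (fun g hg => (hS _).mpr (by simpa using hg)) a b h)
  left_inv q := by
    induction q using Quotient.inductionOn' with | h a => exact congrArg QuotientGroup.mk (x.symm_apply_apply a)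
  right_inv q := by
    induction q using Quotient.inductionOn' with | h a => exact congrArg QuotientGroup.mk (x.apply_symm_apply a)

lemma cosetPerm_pow (x : MulAut G) (S : Subgroup G) (hS : ∀ g, g ∈ S ↔ x g ∈ S) (n : ℕ) (a : G) :
    ((cosetPerm x S hS) ^ n) (QuotientGroup.mk a) = QuotientGroup.mk ((x ^ n) a) := by
  induction n with
  | zero => rfl
  | succ n ih => rw [pow_succ', Equiv.Perm.mul_apply, ih, pow_succ']; rfl

/-- Let G be a finite group, p a prime, x an automorphism of G of p-power order and M the subgroup of fixed points of x. Suppose that p divides the index of M and that either M is self-normalizing or M has trivial center. Then some conjugate of M is mapped onto itself by x but is not fixed elementwise by x. -/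
theorem result {G : Type*} [Group G] [Finite G]
    (p : ℕ) [Fact p.Prime] (x : MulAut G) (hx : ∃ k : ℕ, orderOf x = p ^ k) (M : Subgroup G)
    (hM : ∀ g : G, g ∈ M ↔ x g = g) (hp : p ∣ M.index)
    (hself : Subgroup.normalizer (M : Set G) = M ∨ Subgroup.center M = ⊥) :
    ∃ g : G, (∀ y ∈ MulAut.conj g • M, x y ∈ MulAut.conj g • M) ∧ ∃ y ∈ MulAut.conj g • M, x y ≠ y := by
  obtain ⟨k, hk⟩ := hx
  set N := Subgroup.normalizer (M : Set G) with hN
  have hMinv : ∀ g, g ∈ M ↔ x g ∈ M := by
    intro g
    rw [hM, hM]
    exact ⟨fun h => by rw [h, h], fun h => x.injective h⟩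
  have hNinv : ∀ g, g ∈ N ↔ x g ∈ N := by
    intro g
    simp only [hN, Subgroup.mem_normalizer_iff]
    constructor
    · intro h m
      obtain ⟨m, rfl⟩ := x.surjective m
      rw [← hMinv, ← map_inv, ← map_mul, ← map_mul, ← hMinv]
      exact h m
    · intro h m
      rw [hMinv, hMinv (g * m * g⁻¹), map_mul, map_mul, map_inv]
      exact h (x m)
  have hpk : ∀ (S : Subgroup G) (hS : ∀ g, g ∈ S ↔ x g ∈ S), (cosetPerm x S hS) ^ p ^ k = 1 := by
    intro S hS
    ext q
    induction q using Quotient.inductionOn' with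
    | h a =>
      show ((cosetPerm x S hS) ^ p ^ k) (QuotientGroup.mk a) = QuotientGroup.mk a
      rw [cosetPerm_pow, ← hk, pow_orderOf_eq_one]; rfl
  by_cases hcase : p ∣ N.index
  · have h := perm_fixed p (cosetPerm x N hNinv) k (hpk N hNinv)
    have h0 : p ∣ Nat.card {a // cosetPerm x N hNinv a = a} := by
      rw [← Nat.modEq_zero_iff_dvd] at hcase ⊢
      exact h.symm.trans hcase
    have h1 : cosetPerm x N hNinv (QuotientGroup.mk 1) = QuotientGroup.mk 1 := congrArg QuotientGroup.mk (map_one x)
    have hpos : 0 < Nat.card {a // cosetPerm x N hNinv a = a} :=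
      Nat.card_pos_iff.mpr ⟨⟨⟨_, h1⟩⟩, inferInstance⟩
    have : Nontrivial {a // cosetPerm x N hNinv a = a} :=
      Finite.one_lt_card_iff_nontrivial.mp ((Fact.out : p.Prime).one_lt.trans_le (Nat.le_of_dvd hpos h0))
    obtain ⟨⟨q, hq⟩, hne⟩ := exists_ne (⟨_, h1⟩ : {a // cosetPerm x N hNinv a = a})
    induction q using Quotient.inductionOn' with
    | h g =>
      have hgN : g ∉ N := fun hg => hne (Subtype.ext (QuotientGroup.eq.mpr (by simpa using hg)))
      have hd : (x g)⁻¹ * g ∈ N := QuotientGroup.eq.mp hq
      refine ⟨g, ?_, ?_⟩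
      · rintro y hy
        rw [Subgroup.mem_pointwise_smul_iff_inv_smul_mem] at hy ⊢
        simp only [MulAut.smul_def, map_inv, MulAut.conj_inv_apply] at hy ⊢
        have h2 := (hMinv _).mp hy
        rw [map_mul, map_mul, map_inv] at h2
        have h3 := (Subgroup.mem_normalizer_iff.mp (N.inv_mem hd) _).mp h2
        convert h3 using 1; group
      · by_contra hc
        push_neg at hc
        apply hgN
        have hsub : ∀ m ∈ M, g * m * g⁻¹ ∈ M := fun m hm => (hM _).mpr (hc _ (by
          rw [Subgroup.mem_pointwise_smul_iff_inv_smul_mem]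
          simpa [MulAut.smul_def, mul_assoc] using hm))
        exact Subgroup.mem_normalizer_iff.mpr fun m => ⟨hsub m, fun hm => by
          have hbij : (MulAut.conj g).toEquiv '' (M : Set G) = M :=
            Set.eq_of_subset_of_ncard_le (by rintro _ ⟨z, hz, rfl⟩; exact hsub z hz)
              (le_of_eq (Set.ncard_image_of_injective _ (MulAut.conj g).toEquiv.injective).symm) (Set.toFinite _)
          rw [← SetLike.mem_coe, ← hbij] at hm
          obtain ⟨z, hz, hzm⟩ := hm
          have : z = m := (MulAut.conj g).injective hzm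
          exact this ▸ hz⟩
  · exfalso
    rcases hself with hs | hs
    · exact hcase (by rwa [hs])
    have hMN : M ≤ N := Subgroup.le_normalizer
    have hrel : p ∣ M.relIndex N := by
      rcases (Fact.out : p.Prime).dvd_mul.mp (Subgroup.relIndex_mul_index hMN ▸ hp) with h | h
      · exact h
      · exact absurd h hcase
    let xN : MulAut N := {
      toFun := fun g => ⟨x g, (hNinv g).mp g.2⟩
      invFun := fun g => ⟨x.symm g, (hNinv _).mpr (by simpa using g.2)⟩
      left_inv := fun g => Subtype.ext (by simp)
      right_inv := fun g => Subtype.ext (by simp)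
      map_mul' := fun a b => Subtype.ext (map_mul x _ _) }
    have hS : ∀ g : N, g ∈ M.subgroupOf N ↔ xN g ∈ M.subgroupOf N := fun g => hMinv g
    have hxNk : ∀ a : N, ((xN ^ p ^ k) a : G) = a := by
      have : ∀ n (a : N), ((xN ^ n) a : G) = (x ^ n) (a : G) := by
        intro n
        induction n with
        | zero => intro a; rfl
        | succ n ih => intro a; rw [pow_succ', pow_succ', MulAut.mul_apply, MulAut.mul_apply, ← ih]; rfl
      intro a
      rw [this, ← hk, pow_orderOf_eq_one]; rfl
    have hpkN : (cosetPerm xN (M.subgroupOf N) hS) ^ p ^ k = 1 := by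
      ext q
      induction q using Quotient.inductionOn' with
      | h a =>
        show ((cosetPerm xN _ hS) ^ p ^ k) (QuotientGroup.mk a) = QuotientGroup.mk a
        rw [cosetPerm_pow]
        exact congrArg QuotientGroup.mk (Subtype.ext (hxNk a))
    have h := perm_fixed p _ k hpkN
    have hone : Nat.card {a // cosetPerm xN (M.subgroupOf N) hS a = a} = 1 := by
      rw [Nat.card_eq_one_iff_unique]
      refine ⟨⟨?_⟩, ⟨⟨QuotientGroup.mk 1, congrArg QuotientGroup.mk (map_one xN)⟩⟩⟩
      suffices ∀ q : {a // cosetPerm xN (M.subgroupOf N) hS a = a}, q.1 = QuotientGroup.mk 1 from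
        fun a b => Subtype.ext ((this a).trans (this b).symm)
      rintro ⟨q, hq⟩
      induction q using Quotient.inductionOn' with
      | h n =>
        have hd : (xN n)⁻¹ * n ∈ M.subgroupOf N := QuotientGroup.eq.mp hq
        have hd' : (n : G)⁻¹ * x n ∈ M := by
          have := M.inv_mem (show ((x n)⁻¹ * (n : G)) ∈ M from hd)
          simpa using this
        have hc : (⟨_, hd'⟩ : M) ∈ Subgroup.center M := by
          rw [Subgroup.mem_center_iff]
          rintro ⟨m, hm⟩
          apply Subtype.ext
          show m * ((n : G)⁻¹ * x n) = (n : G)⁻¹ * x n * m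
          have hconj : (n : G) * m * (n : G)⁻¹ ∈ M := (Subgroup.mem_normalizer_iff.mp n.2 m).mp hm
          have e := (hM _).mp hconj
          rw [map_mul, map_mul, map_inv, (hM m).mp hm] at e
          calc m * ((n : G)⁻¹ * x n) = (n : G)⁻¹ * ((n : G) * m * (n : G)⁻¹) * x n := by group
            _ = (n : G)⁻¹ * (x n * m * (x n)⁻¹) * x n := by rw [e]
            _ = _ := by group
        rw [hs, Subgroup.mem_bot] at hc
        have hfix : x n = n := by
          have := congrArg Subtype.val hc
          simpa [inv_mul_eq_one] using this.trans rfl |> fun h => (inv_mul_eq_one.mp h).symm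
        exact QuotientGroup.eq.mpr (by simpa [Subgroup.mem_subgroupOf] using (hM n).mpr hfix)
    rw [hone] at h
    have h0 : Nat.card (N ⧸ M.subgroupOf N) ≡ 0 [MOD p] := Nat.modEq_zero_iff_dvd.mpr hrel
    have := h.symm.trans h0
    rw [Nat.modEq_zero_iff_dvd] at this
    exact (Fact.out : p.Prime).one_lt.ne' (Nat.dvd_one.mp this)

end Cfsg.Agent.S4326
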