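import Cfsg.Statements.S4330
import Cfsg.Agent.Lib.ClassSubnormal.Module
import Cfsg.Agent.Lib.Solvable.Basic
import Cfsg.Agent.Lib.PReduced.Tools

set_option autoImplicit false
open Cfsg
open scoped Pointwise commutatorElement IsMulCommutative

universe u

namespace Cfsg.Agent.ClassSubnormal

open Subgroup

/-- Every class contains an element `g` such that `a` and its `g`-conjugate generate a `p`-group. -/
def GoodClasses (p : ℕ) {G : Type*} [Group G] (a : G) : Prop :=
  ∀ c : G, ∃ g : G, IsConj c g ∧ IsPGroup p ↥(zpowers a ⊔ zpowers (g * a * g⁻¹))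

theorem GoodClasses.pow {p : ℕ} {G : Type*} [Group G] {a : G} (h : GoodClasses p a) (i : ℕ) :
    GoodClasses p (a ^ i) := by
  intro c
  obtain ⟨g, hg, hX⟩ := h c
  refine ⟨g, hg, hX.to_le (sup_le ?_ ?_)⟩
  · exact zpowers_le.2 (mem_sup_left (pow_mem (mem_zpowers a) i))
  · refine zpowers_le.2 (mem_sup_right ?_)
    rw [← conj_pow]
    exact pow_mem (mem_zpowers _) i

theorem mem_pCore_of_goodClasses (p : ℕ) [hp : Fact p.Prime] (hp2 : p ≠ 2) :
    ∀ (n : ℕ) (G : Type u) [Group G] [Finite G], Nat.card G ≤ n → Group.IsSolvable G →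
      ∀ a : G, (∃ k, orderOf a = p ^ k) → GoodClasses p a → a ∈ Cfsg.pCore p G := by
  intro n
  induction n with
  | zero => intro G _ _ hn; exact absurd hn (not_le.mpr Nat.card_pos)
  | succ n ih =>
    intro G _ _ hn hsol a hak hgood
    rcases subsingleton_or_nontrivial G with hG | hG
    · rw [Subsingleton.elim a 1]; exact one_mem _
    obtain ⟨q, hq, N, hNn, hN0, -, hNab, hNq, -, hmin⟩ :=
      Solvable.exists_minimal_normal_pGroup (N := (⊤ : Subgroup G)) top_ne_bot
    haveI := hNn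
    haveI := hNab
    haveI := Fact.mk hq
    have hlt : Nat.card (G ⧸ N) < Nat.card G := by
      rw [N.card_eq_card_quotient_mul_card_subgroup]
      exact lt_mul_of_one_lt_right Nat.card_pos
        (Finite.one_lt_card_iff_nontrivial.2 ((nontrivial_iff_ne_bot N).2 hN0))
    set f := QuotientGroup.mk' N with hf
    have hfa : f a ∈ Cfsg.pCore p (G ⧸ N) := by
      refine ih (G ⧸ N) (by omega) inferInstance (f a) ?_ ?_
      · obtain ⟨k, hk⟩ := hak
        obtain ⟨j, -, hj⟩ := (Nat.dvd_prime_pow hp.out).1 (hk ▸ orderOf_map_dvd f a)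
        exact ⟨j, hj⟩
      · intro c
        obtain ⟨c, rfl⟩ := QuotientGroup.mk'_surjective N c
        obtain ⟨g, hg, hX⟩ := hgood c
        refine ⟨f g, f.map_isConj hg, ?_⟩
        have e : (zpowers a ⊔ zpowers (g * a * g⁻¹)).map f =
            zpowers (f a) ⊔ zpowers (f g * f a * (f g)⁻¹) := by
          rw [Subgroup.map_sup, MonoidHom.map_zpowers, MonoidHom.map_zpowers, map_mul, map_mul, map_inv]
        exact e ▸ hX.map f
    set M := (Cfsg.pCore p (G ⧸ N)).comap f with hM
    haveI : (Cfsg.pCore p (G ⧸ N)).Normal := PReduced.pCore_normal p _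
    have hMp : ∀ m ∈ M, ∃ i : ℕ, m ^ p ^ i ∈ N := by
      intro m hm
      obtain ⟨i, hi⟩ := PReduced.isPGroup_pCore (G := G ⧸ N) p ⟨f m, hm⟩
      refine ⟨i, (QuotientGroup.eq_one_iff _).1 ?_⟩
      show f (m ^ p ^ i) = 1
      rw [map_pow]
      exact congrArg Subtype.val hi
    by_cases hqp : q = p
    · subst hqp
      have hMq : IsPGroup q M := by
        refine (PReduced.isPGroup_pCore (G := G ⧸ N) q).comap_of_ker_isPGroup f ?_
        rw [hf, QuotientGroup.ker_mk']; exact hNq
      exact PReduced.le_pCore inferInstance hMq hfa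
    have hcop : ¬ p ∣ Nat.card N := by
      obtain ⟨j, hj⟩ := IsPGroup.iff_card.1 hNq
      rw [hj]
      exact fun hd => hqp ((Nat.prime_dvd_prime_iff_eq hp.out hq).1 (hp.out.dvd_of_dvd_pow hd)).symm
    set ψ : G →* MulAut N := MulAut.conjNormal with hψ
    have hψ1 : ∀ x ∈ N, ψ x = 1 := fun x hx => MulEquiv.ext fun w => Subtype.ext (by
      show (MulAut.conjNormal x w : G) = w
      rw [MulAut.conjNormal_apply, show x * (w : G) = w * x from congrArg Subtype.val (hNab.is_comm.comm ⟨x, hx⟩ w)]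
      group)
    by_cases ha1 : ψ a = 1
    · set K := M ⊓ ψ.ker with hK
      have hNK : ∀ x ∈ N, ∀ k ∈ K, k * x = x * k := by
        intro x hx k hk
        have h1 : (MulAut.conjNormal k (⟨x, hx⟩ : N) : G) = x :=
          congrArg Subtype.val (MulEquiv.congr_fun (MonoidHom.mem_ker.1 hk.2) ⟨x, hx⟩)
        rw [MulAut.conjNormal_apply] at h1
        exact mul_inv_eq_iff_eq_mul.1 h1
      have hquot : IsPGroup p (K ⧸ center K) := by
        intro x
        induction x using QuotientGroup.induction_on with | H g => ?_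
        obtain ⟨i, hi⟩ := hMp g g.2.1
        refine ⟨i, ?_⟩
        rw [← QuotientGroup.mk_pow, QuotientGroup.eq_one_iff, mem_center_iff]
        exact fun k => Subtype.ext (hNK _ hi k k.2)
      haveI : Group.IsNilpotent K := Group.of_quotient_center_nilpotent hquot.isNilpotent
      obtain ⟨R⟩ : Nonempty (Sylow p K) := inferInstance
      haveI hRn : (R : Subgroup K).Normal :=
        Sylow.normal_of_normalizerCondition Group.normalizerCondition_of_isNilpotent R
      haveI : (R : Subgroup K).Characteristic := Sylow.characteristic_of_normal R hRn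
      have haK : a ∈ K := ⟨hfa, MonoidHom.mem_ker.2 ha1⟩
      have haR : (⟨a, haK⟩ : K) ∈ (R : Subgroup K) := by
        refine Coprime.mem_of_pow_mem (n := (R : Subgroup K).index) ?_ (Subgroup.pow_index_mem _ _)
        obtain ⟨k, hk⟩ := hak
        rw [Subgroup.orderOf_mk, hk]
        exact Nat.Coprime.pow_left _ (hp.out.coprime_iff_not_dvd.2 R.not_dvd_index)
      exact PReduced.le_pCore (N := (R : Subgroup K).map K.subtype) inferInstance (R.2.map _)
        ⟨⟨a, haK⟩, haR, rfl⟩
    exfalso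
    obtain ⟨k, hk⟩ := hak
    obtain ⟨j, -, hj⟩ := (Nat.dvd_prime_pow hp.out).1 (hk ▸ orderOf_map_dvd ψ a)
    obtain ⟨i, rfl⟩ : ∃ i, j = i + 1 := Nat.exists_eq_succ_of_ne_zero fun e =>
      ha1 (orderOf_eq_one_iff.1 (by rw [hj, e, pow_zero]))
    set b := a ^ p ^ i with hb
    have hbo : orderOf (ψ b) = p := by
      rw [hb, map_pow, orderOf_pow_of_dvd (pow_ne_zero _ hp.out.ne_zero) (hj ▸ pow_dvd_pow p (Nat.le_succ i)),
        hj, pow_succ, Nat.mul_div_cancel_left _ (Nat.pow_pos hp.out.pos)]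
    have hbgood : GoodClasses p b := hgood.pow _
    haveI : Nontrivial N := (nontrivial_iff_ne_bot N).2 hN0
    refine (exists_moved_module (p := p) hp2 hcop (Γ := ψ.range) (Pi := M.map ψ)
      (Subgroup.map_le_range ψ M) ?_ ?_ ?_ (α := ψ b) (mem_map_of_mem ψ (pow_mem hfa _)) ?_ ?_).elim
      fun v hv => ?_
    rotate_right 1
    · obtain ⟨g, hg, hX⟩ := hbgood (v : G)
      obtain ⟨h, rfl⟩ := isConj_iff.1 hg
      set g := h * (v : G) * h⁻¹ with hgdef
      have hgN : g ∈ N := hNn.conj_mem _ v.2 h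
      have hmem : b⁻¹ * (g * b * g⁻¹) ∈ N := by
        rw [show b⁻¹ * (g * b * g⁻¹) = (b⁻¹ * g * b⁻¹⁻¹) * g⁻¹ by group]
        exact N.mul_mem (hNn.conj_mem g hgN b⁻¹) (N.inv_mem hgN)
      have hone : b⁻¹ * (g * b * g⁻¹) = 1 := by
        obtain ⟨i, hi⟩ := hX ⟨_, mul_mem (inv_mem (mem_sup_left (mem_zpowers b)))
          (mem_sup_right (mem_zpowers (g * b * g⁻¹)))⟩
        have h1 : (b⁻¹ * (g * b * g⁻¹)) ^ p ^ i = 1 := congrArg Subtype.val hi
        refine orderOf_eq_one_iff.1 (Nat.eq_one_of_dvd_coprimes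
          ((hp.out.coprime_iff_not_dvd.2 hcop).pow_left i) (orderOf_dvd_of_pow_eq_one h1) ?_)
        rw [← Subgroup.orderOf_mk _ hmem]
        exact orderOf_dvd_natCard _
      refine hv (ψ h⁻¹) ⟨h⁻¹, rfl⟩ ?_
      rw [← map_inv, ← map_mul, ← map_mul]
      refine Subtype.ext ?_
      show (MulAut.conjNormal (h⁻¹ * b * h⁻¹⁻¹) v : G) = v
      rw [MulAut.conjNormal_apply]
      have h2 : g * b * g⁻¹ = b := (inv_mul_eq_one.1 hone).symm
      calc h⁻¹ * b * h⁻¹⁻¹ * (v : G) * (h⁻¹ * b * h⁻¹⁻¹)⁻¹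
          = h⁻¹ * (b * g * b⁻¹) * h := by rw [hgdef]; group
        _ = h⁻¹ * ((g * b * g⁻¹) * g * b⁻¹) * h := by rw [h2]
        _ = _ := by rw [hgdef]; group
    · rintro _ ⟨g, rfl⟩ _ ⟨m, hm, rfl⟩
      exact ⟨g * m * g⁻¹, (inferInstance : M.Normal).conj_mem m hm g, by simp⟩
    · rintro ⟨_, m, hm, rfl⟩
      obtain ⟨i, hi⟩ := hMp m hm
      exact ⟨i, Subtype.ext (by rw [Subgroup.coe_pow, ← map_pow, hψ1 _ hi]; rfl)⟩
    · intro U hU
      have hUn : (U.map N.subtype).Normal := ⟨by
        rintro _ ⟨w, hw, rfl⟩ g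
        exact ⟨ψ g w, hU _ ⟨g, rfl⟩ w hw, by simp [hψ, MulAut.conjNormal_apply]⟩⟩
      rcases hmin _ hUn (map_subtype_le _) with e | e
      · exact Or.inl ((map_eq_bot_iff_of_injective _ N.subtype_injective).1 e)
      · exact Or.inr (map_injective N.subtype_injective (by rw [e, ← MonoidHom.range_eq_map, range_subtype]))
    · intro e
      rw [e, orderOf_one] at hbo
      exact hp.out.ne_one hbo.symm
    · conv_lhs => rw [← hbo]
      exact pow_orderOf_eq_one _

theorem goodClasses_of_subnormal {p : ℕ} [hp : Fact p.Prime] {G : Type*} [Group G] [Finite G] {A : Subgroup G}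
    (hA : IsPGroup p A)
    (h : ∀ c : G, ∃ g : G, IsConj c g ∧ (A.subgroupOf (A ⊔ MulAut.conj g • A)).IsSubnormal) {a : G}
    (ha : a ∈ A) : GoodClasses p a := by
  intro c
  obtain ⟨g, hg, hsn⟩ := h c
  refine ⟨g, hg, ?_⟩
  set X := A ⊔ MulAut.conj g • A with hX
  have hAX : A.subgroupOf X ≤ Cfsg.pCore p X :=
    PReduced.le_pCore_of_isSubnormal hsn (hA.comap_of_injective X.subtype X.subtype_injective)
  haveI : (Cfsg.pCore p X).Normal := PReduced.pCore_normal p _
  have hBp : IsPGroup p ↥(MulAut.conj g • A : Subgroup G) := hA.map _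
  have hXp : IsPGroup p X := by
    have htop : Cfsg.pCore p X ⊔ (MulAut.conj g • A).subgroupOf X = ⊤ := by
      refine top_le_iff.1 ?_
      calc (⊤ : Subgroup X) = X.subgroupOf X := (subgroupOf_self X).symm
        _ = A.subgroupOf X ⊔ (MulAut.conj g • A).subgroupOf X := subgroupOf_sup le_sup_left le_sup_right
        _ ≤ _ := sup_le_sup_right hAX _
    have h1 : IsPGroup p ↥(Cfsg.pCore p X ⊔ (MulAut.conj g • A).subgroupOf X) :=
      (PReduced.isPGroup_pCore (G := X) p).to_sup_of_normal_left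
        (hBp.comap_of_injective X.subtype X.subtype_injective)
    rw [htop] at h1
    exact h1.of_equiv Subgroup.topEquiv
  refine hXp.to_le (sup_le (zpowers_le.2 (mem_sup_left ha)) (zpowers_le.2 (mem_sup_right ?_)))
  exact ⟨a, ha, rfl⟩

end Cfsg.Agent.ClassSubnormal

namespace Cfsg.Agent.S4330

/-- Let G be a finite solvable group, p an odd prime and A a p-subgroup of G such that every conjugacy class of G contains an element g for which A is subnormal in the subgroup generated by A and its conjugate by g. Then A is contained in O_p(G). (The hypothesis that p is odd is needed.) -/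
theorem result {G : Type*} [Group G] [Finite G]
    (hG : Group.IsSolvable G) (p : ℕ) [Fact p.Prime] (hp : p ≠ 2) (A : Subgroup G) (hA : IsPGroup p A)
    (h : ∀ c : G, ∃ g : G, IsConj c g ∧ (A.subgroupOf (A ⊔ MulAut.conj g • A)).IsSubnormal) :
    A ≤ Cfsg.pCore p G := by
  intro a ha
  refine ClassSubnormal.mem_pCore_of_goodClasses p hp (Nat.card G) G le_rfl hG a ?_
    (ClassSubnormal.goodClasses_of_subnormal hA h ha)
  obtain ⟨k, hk⟩ := IsPGroup.iff_orderOf.1 hA ⟨a, ha⟩
  exact ⟨k, by rwa [Subgroup.orderOf_mk] at hk⟩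

end Cfsg.Agent.S4330
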