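import Cfsg.Statements.S4331
import Cfsg.Agent.EqLemmas
import Cfsg.Agent.Lib.Cores.Subnormal

set_option autoImplicit false
open Cfsg

namespace Cfsg.Agent.S4331

/-- the additive group of the field with nine elements, `a + b w` with `w² = w + 1` -/
abbrev V := Multiplicative (ZMod 3 × ZMod 3)

/-- multiplication by `w` -/
def wmul (v : ZMod 3 × ZMod 3) : ZMod 3 × ZMod 3 := (v.2, v.1 + v.2)

/-- the Frobenius map -/
def frob (v : ZMod 3 × ZMod 3) : ZMod 3 × ZMod 3 := (v.1 + v.2, 2 * v.2)

/-- action of the exponent `3^e` on `ZMod 8` -/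
def sgn (e : ZMod 2) (k : ZMod 8) : ZMod 8 := if e = 0 then k else 3 * k

/-- the action of the Frobenius on the cyclic group of order eight -/
def phiEquiv (e : Multiplicative (ZMod 2)) : MulAut (Multiplicative (ZMod 8)) where
  toFun k := Multiplicative.ofAdd (sgn e.toAdd k.toAdd)
  invFun k := Multiplicative.ofAdd (sgn e.toAdd k.toAdd)
  left_inv := by revert e; decide +kernel
  right_inv := by revert e; decide +kernel
  map_mul' := by revert e; decide +kernel

def phi : Multiplicative (ZMod 2) →* MulAut (Multiplicative (ZMod 8)) where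
  toFun := phiEquiv
  map_one' := by
    apply MulEquiv.ext
    show ∀ k, phiEquiv 1 k = k
    decide +kernel
  map_mul' a b := by
    apply MulEquiv.ext
    show ∀ k, phiEquiv (a * b) k = phiEquiv a (phiEquiv b k)
    revert a b
    decide +kernel

/-- the semidihedral group of order sixteen -/
abbrev H := Multiplicative (ZMod 8) ⋊[phi] Multiplicative (ZMod 2)

def act (k : ZMod 8) (e : ZMod 2) (v : ZMod 3 × ZMod 3) : ZMod 3 × ZMod 3 :=
  wmul^[k.val] (if e = 0 then v else frob v)

def actH (h : H) (v : V) : V := Multiplicative.ofAdd (act h.left.toAdd h.right.toAdd v.toAdd)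

lemma actH_mul : ∀ (k : Multiplicative (ZMod 8)) (e : Multiplicative (ZMod 2)) (v w : V),
    actH ⟨k, e⟩ (v * w) = actH ⟨k, e⟩ v * actH ⟨k, e⟩ w := by decide +kernel

lemma actH_comp : ∀ (k : Multiplicative (ZMod 8)) (e : Multiplicative (ZMod 2))
    (k' : Multiplicative (ZMod 8)) (e' : Multiplicative (ZMod 2)) (v : V),
    actH (⟨k, e⟩ * ⟨k', e'⟩) v = actH ⟨k, e⟩ (actH ⟨k', e'⟩ v) := by decide +kernel

lemma actH_one : ∀ v : V, actH 1 v = v := by decide +kernel

lemma actH_comp' (g h : H) (v : V) : actH (g * h) v = actH g (actH h v) :=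
  actH_comp g.left g.right h.left h.right v

def psiEquiv (h : H) : MulAut V where
  toFun := actH h
  invFun := actH h⁻¹
  left_inv v := by rw [← actH_comp', inv_mul_cancel, actH_one]
  right_inv v := by rw [← actH_comp', mul_inv_cancel, actH_one]
  map_mul' := actH_mul h.left h.right

def psi : H →* MulAut V where
  toFun := psiEquiv
  map_one' := MulEquiv.ext actH_one
  map_mul' a b := MulEquiv.ext (actH_comp' a b)

/-- the example group of order 144 -/
abbrev G := V ⋊[psi] H

/-- the involution -/
def t : G := ⟨1, ⟨1, Multiplicative.ofAdd 1⟩⟩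

instance : Finite H := Finite.of_equiv _ SemidirectProduct.equivProd.symm
instance : Finite G := Finite.of_equiv _ SemidirectProduct.equivProd.symm

lemma solvable_G : Group.IsSolvable G := by
  have hH : Group.IsSolvable H :=
    solvable_of_ker_le_range (SemidirectProduct.inl : Multiplicative (ZMod 8) →* H)
      SemidirectProduct.rightHom SemidirectProduct.range_inl_eq_ker_rightHom.ge
  exact solvable_of_ker_le_range (SemidirectProduct.inl : V →* G)
      SemidirectProduct.rightHom SemidirectProduct.range_inl_eq_ker_rightHom.ge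

lemma check : ∀ (v : V) (k : Multiplicative (ZMod 8)) (e : Multiplicative (ZMod 2)),
    ∃ (w : V) (l : Multiplicative (ZMod 8)) (f : Multiplicative (ZMod 2)),
      let g : G := ⟨w, ⟨l, f⟩⟩ * ⟨v, ⟨k, e⟩⟩ * (⟨w, ⟨l, f⟩⟩ : G)⁻¹
      g * t = t * g ∨ g.left = 1 := by decide +kernel

lemma card_H : Nat.card H = 2 ^ 4 := by
  rw [SemidirectProduct.card]
  simp [Nat.card_eq_fintype_card]

lemma subnormal_of_nilpotent {g : G} (h : g.left = 1) :
    ((Subgroup.zpowers t).subgroupOf (Subgroup.zpowers t ⊔ Subgroup.zpowers g)).IsSubnormal := by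
  set R := (SemidirectProduct.inr : H →* G).range with hR
  have hle : Subgroup.zpowers t ⊔ Subgroup.zpowers g ≤ R := by
    refine sup_le (Subgroup.zpowers_le.mpr ⟨t.right, ?_⟩) (Subgroup.zpowers_le.mpr ⟨g.right, ?_⟩)
    · apply SemidirectProduct.ext <;> simp [t]
    · apply SemidirectProduct.ext <;> simp [h]
  have hcard : Nat.card R = 2 ^ 4 := by
    rw [← card_H]
    exact (Nat.card_congr (MonoidHom.ofInjective SemidirectProduct.inr_injective).toEquiv).symm
  have : Fact (Nat.Prime 2) := ⟨Nat.prime_two⟩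
  have hp : IsPGroup 2 R := IsPGroup.of_card hcard
  have : Group.IsNilpotent ↥(Subgroup.zpowers t ⊔ Subgroup.zpowers g) := (hp.to_le hle).isNilpotent
  exact Cfsg.Agent.Cores.isSubnormal_of_nilpotent _

lemma subnormal_of_commute {g : G} (h : g * t = t * g) :
    ((Subgroup.zpowers t).subgroupOf (Subgroup.zpowers t ⊔ Subgroup.zpowers g)).IsSubnormal := by
  apply Subgroup.Normal.isSubnormal
  constructor
  intro a ha b
  have hc : (b : G) * a = a * b := by
    obtain ⟨i, hi⟩ := ha
    have hle : Subgroup.zpowers t ⊔ Subgroup.zpowers g ≤ Subgroup.centralizer {t} :=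
      sup_le (Subgroup.zpowers_le.mpr (Subgroup.mem_centralizer_singleton_iff.mpr rfl))
        (Subgroup.zpowers_le.mpr (Subgroup.mem_centralizer_singleton_iff.mpr h))
    have hb : Commute (b : G) t := Subgroup.mem_centralizer_singleton_iff.mp (hle b.2)
    have : Commute (b : G) (t ^ i) := hb.zpow_right i
    rw [show t ^ i = (a : G) from hi] at this
    exact this
  have : b * a * b⁻¹ = a := by
    apply Subtype.ext
    simp [hc]
  rw [this]; exact ha

/-- a translation -/
def u : G := ⟨Multiplicative.ofAdd (0, 1), 1⟩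

lemma comm_order : orderOf (u * t * u⁻¹ * t⁻¹) = 3 := by
  refine orderOf_eq_prime (hp := ⟨Nat.prime_three⟩) ?_ ?_ <;> decide +kernel

/-- There is a finite solvable group G with a subgroup A of order 2 such that every conjugacy class of G contains an element g for which A is subnormal in the subgroup generated by A and g, and yet A is not contained in O_2(G). (So the corresponding criteria for odd primes fail at the prime 2, even for solvable groups.) -/
theorem result :
    ∃ (G : Type) (_ : Group G) (_ : Finite G) (A : Subgroup G), Group.IsSolvable G ∧ Nat.card A = 2 ∧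
      (∀ c : G, ∃ g : G, IsConj c g ∧ (A.subgroupOf (A ⊔ Subgroup.zpowers g)).IsSubnormal) ∧
      ¬ A ≤ Cfsg.pCore 2 G := by
  refine ⟨G, inferInstance, inferInstance, Subgroup.zpowers t, solvable_G, ?_, ?_, ?_⟩
  · rw [Nat.card_zpowers]
    refine orderOf_eq_prime (hp := ⟨Nat.prime_two⟩) ?_ ?_ <;> decide +kernel
  · rintro ⟨v, k, e⟩
    obtain ⟨w, l, f, hg⟩ := check v k e
    refine ⟨_, isConj_iff.mpr ⟨⟨w, ⟨l, f⟩⟩, rfl⟩, ?_⟩
    rcases hg with hg | hg
    · exact subnormal_of_commute hg
    · exact subnormal_of_nilpotent hg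
  · intro hle
    have : Fact (Nat.Prime 2) := ⟨Nat.prime_two⟩
    have hp : IsPGroup 2 (Cfsg.pCore 2 G) := Cfsg.Agent.Cores.isPGroup_pCore 2 G
    have hn : (Cfsg.pCore 2 G).Normal := Subgroup.sSup_normal _ fun _ h => h.1
    have ht := hle (Subgroup.mem_zpowers t)
    have hm : u * t * u⁻¹ * t⁻¹ ∈ Cfsg.pCore 2 G :=
      Subgroup.mul_mem _ (hn.conj_mem t ht u) (Subgroup.inv_mem _ ht)
    obtain ⟨k, hk⟩ := hp ⟨_, hm⟩
    have h3 := comm_order
    have hd := orderOf_dvd_of_pow_eq_one (congrArg Subtype.val hk)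
    simp only [Subgroup.coe_one] at hd
    rw [h3] at hd
    have := Nat.prime_three.dvd_of_dvd_pow hd
    norm_num at this

end Cfsg.Agent.S4331
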