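import Cfsg.Statements.S4332
import Cfsg.Agent.EqLemmas
import Cfsg.Agent.S4325

set_option autoImplicit false
open Pointwise
open Cfsg

namespace Cfsg.Agent.S4332

open Equiv Equiv.Perm

/-- the three-cycle on three points -/
def tau (a b d : Fin 8) : Equiv.Perm (Fin 8) := swap a b * swap a d

lemma tau_conj (c : Equiv.Perm (Fin 8)) (a b d : Fin 8) : c * tau a b d * c⁻¹ = tau (c a) (c b) (c d) := by
  unfold tau
  rw [Equiv.swap_apply_apply, Equiv.swap_apply_apply]
  group

lemma tau_fix {a b d x : Fin 8} (h1 : x ≠ a) (h2 : x ≠ b) (h3 : x ≠ d) : tau a b d x = x := by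
  simp [tau, swap_apply_of_ne_of_ne, h1, h2, h3]

lemma tau_rot {a b d : Fin 8} (hab : a ≠ b) (had : a ≠ d) (hbd : b ≠ d) : tau b d a = tau a b d := by
  ext x
  by_cases h1 : x = a
  · subst h1; simp [tau, hab, had, hab.symm, had.symm, hbd, hbd.symm, swap_apply_of_ne_of_ne]
  by_cases h2 : x = b
  · subst h2; simp [tau, hab, had, hab.symm, had.symm, hbd, hbd.symm, swap_apply_of_ne_of_ne]
  by_cases h3 : x = d
  · subst h3; simp [tau, hab, had, hab.symm, had.symm, hbd, hbd.symm, swap_apply_of_ne_of_ne]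
  rw [tau_fix h2 h3 h1, tau_fix h1 h2 h3]

lemma exists_commuting (c : Equiv.Perm (Fin 8)) :
    ∃ τ : Equiv.Perm (Fin 8), τ.IsThreeCycle ∧ Commute τ (c * τ * c⁻¹) := by
  classical
  by_cases h6 : c.support.card < 6
  · obtain ⟨s, hs, hsc⟩ := Finset.exists_subset_card_eq (s := c.supportᶜ) (n := 3)
      (by rw [Finset.card_compl, Fintype.card_fin]; omega)
    obtain ⟨a, b, d, hab, had, hbd, rfl⟩ := Finset.card_eq_three.mp hsc
    refine ⟨tau a b d, isThreeCycle_swap_mul_swap_same hab had hbd, ?_⟩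
    have hfix : ∀ y ∈ ({a, b, d} : Finset (Fin 8)), c y = y := fun y hy =>
      notMem_support.mp (Finset.mem_compl.mp (hs hy))
    rw [tau_conj, hfix a (by simp), hfix b (by simp), hfix d (by simp)]
  push Not at h6
  by_cases h3 : ∃ a, c a ≠ a ∧ c (c (c a)) = a
  · obtain ⟨a, ha, h⟩ := h3
    have h1 : a ≠ c (c a) := fun e => ha (by
      calc c a = c (c (c a)) := by rw [← e]
        _ = a := h)
    have h2 : c a ≠ c (c a) := fun e => ha (c.injective e).symm
    refine ⟨tau a (c a) (c (c a)), isThreeCycle_swap_mul_swap_same (Ne.symm ha) h1 h2, ?_⟩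
    rw [tau_conj, h, tau_rot (Ne.symm ha) h1 h2]
  push Not at h3
  obtain ⟨a, haS⟩ : ∃ a, a ∈ c.support := Finset.card_pos.mp (by omega)
  have ha : c a ≠ a := mem_support.mp haS
  have pick : ∀ E : Finset (Fin 8), E.card ≤ 5 → ∃ y, c y ≠ y ∧ y ∉ E := by
    intro E hE
    obtain ⟨y, hy, hyE⟩ := Finset.exists_mem_notMem_of_card_lt_card (s := E) (t := c.support) (by omega)
    exact ⟨y, mem_support.mp hy, hyE⟩
  have five : ∀ u v w x y : Fin 8, ({u, v, w, x, y} : Finset (Fin 8)).card ≤ 5 := fun u v w x y =>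
    (Finset.card_insert_le _ _).trans (Nat.add_le_add_right ((Finset.card_insert_le _ _).trans
      (Nat.add_le_add_right ((Finset.card_insert_le _ _).trans (Nat.add_le_add_right
        ((Finset.card_insert_le _ _).trans (le_of_eq (by rw [Finset.card_singleton]))) 1)) 1)) 1)
  have key : ∀ b d : Fin 8, a ≠ b → a ≠ d → b ≠ d → c a ≠ b → c a ≠ d → c b ≠ a → c b ≠ b → c b ≠ d →
      c d ≠ a → c d ≠ b → c d ≠ d → ∃ τ : Equiv.Perm (Fin 8), τ.IsThreeCycle ∧ Commute τ (c * τ * c⁻¹) := by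
    intro b d hab had hbd h1 h2 h4 h5 h7 h8 h9 h10
    refine ⟨tau a b d, isThreeCycle_swap_mul_swap_same hab had hbd, ?_⟩
    rw [tau_conj]
    refine Equiv.Perm.Disjoint.commute fun x => ?_
    by_cases hx : x = a ∨ x = b ∨ x = d
    · right
      rcases hx with rfl | rfl | rfl
      · exact tau_fix (Ne.symm ha) (Ne.symm h4) (Ne.symm h8)
      · exact tau_fix (Ne.symm h1) (Ne.symm h5) (Ne.symm h9)
      · exact tau_fix (Ne.symm h2) (Ne.symm h7) (Ne.symm h10)
    · push Not at hx
      left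
      exact tau_fix hx.1 hx.2.1 hx.2.2
  by_cases h2 : c (c a) = a
  · obtain ⟨b, hb, hbE⟩ := pick {a, c a} (by
      have := Finset.card_insert_le a ({c a} : Finset (Fin 8))
      simp only [Finset.card_singleton] at this
      omega)
    simp only [Finset.mem_insert, Finset.mem_singleton, not_or] at hbE
    obtain ⟨d, hd, hdE⟩ := pick {a, c a, b, c b, c.symm b} (five _ _ _ _ _)
    simp only [Finset.mem_insert, Finset.mem_singleton, not_or] at hdE
    refine key b d (Ne.symm hbE.1) (Ne.symm hdE.1) (Ne.symm hdE.2.2.1) (Ne.symm hbE.2) (Ne.symm hdE.2.1)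
      ?_ hb (Ne.symm hdE.2.2.2.1) ?_ ?_ hd
    · intro e; exact hbE.2 (c.injective (e.trans h2.symm))
    · intro e; exact hdE.2.1 (c.injective (e.trans h2.symm))
    · intro e; exact hdE.2.2.2.2 (by rw [← e, Equiv.symm_apply_apply])
  · obtain ⟨d, hd, hdE⟩ := pick {a, c a, c.symm a, c (c a), c (c (c a))} (five _ _ _ _ _)
    simp only [Finset.mem_insert, Finset.mem_singleton, not_or] at hdE
    refine key (c (c a)) d (Ne.symm h2) (Ne.symm hdE.1) (Ne.symm hdE.2.2.2.1)
      (fun e => ha (c.injective e).symm) (Ne.symm hdE.2.1) (h3 a ha)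
      (fun e => ha (c.injective (c.injective e))) (Ne.symm hdE.2.2.2.2) ?_ ?_ hd
    · intro e; exact hdE.2.2.1 (by rw [← e, Equiv.symm_apply_apply])
    · intro e; exact hdE.2.1 (c.injective e)

lemma subnormal_of_commute {G : Type*} [Group G] (σ g : G) (h : Commute σ (g * σ * g⁻¹)) :
    ((Subgroup.zpowers σ).subgroupOf
      (Subgroup.zpowers σ ⊔ MulAut.conj g • Subgroup.zpowers σ)).IsSubnormal := by
  apply Subgroup.Normal.isSubnormal
  have hle : Subgroup.zpowers σ ⊔ MulAut.conj g • Subgroup.zpowers σ ≤ Subgroup.centralizer {σ} := by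
    refine sup_le (Subgroup.zpowers_le.mpr (Subgroup.mem_centralizer_singleton_iff.mpr rfl)) ?_
    intro y hy
    rw [Subgroup.mem_pointwise_smul_iff_inv_smul_mem] at hy
    obtain ⟨i, hi⟩ := hy
    have hy' : y = (g * σ * g⁻¹) ^ i := by
      simp only [MulAut.smul_def, map_inv, MulAut.conj_inv_apply] at hi
      rw [conj_zpow, hi]; group
    rw [Subgroup.mem_centralizer_singleton_iff, hy']
    exact (h.zpow_right i).eq.symm
  constructor
  rintro ⟨a, haJ⟩ ha ⟨b, hb⟩
  obtain ⟨i, hi⟩ := (show a ∈ Subgroup.zpowers σ from ha)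
  show b * a * b⁻¹ ∈ Subgroup.zpowers σ
  have hbσ : Commute b σ := Subgroup.mem_centralizer_singleton_iff.mp (hle hb)
  have hba : Commute b (σ ^ i) := hbσ.zpow_right i
  rw [← hi, hba.eq, mul_inv_cancel_right]
  exact ⟨i, rfl⟩

/-- In the symmetric group of degree 8, let A be the subgroup generated by a 3-cycle. Then every conjugacy class contains an element g for which A is subnormal in the subgroup generated by A and its conjugate by g, although O_3 of the symmetric group of degree 8 is trivial. -/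
theorem result
    (σ : Equiv.Perm (Fin 8)) (hσ : σ.IsThreeCycle) :
    (∀ c : Equiv.Perm (Fin 8), ∃ g : Equiv.Perm (Fin 8), IsConj c g ∧
      ((Subgroup.zpowers σ).subgroupOf (Subgroup.zpowers σ ⊔ MulAut.conj g • Subgroup.zpowers σ)).IsSubnormal) ∧
    Cfsg.pCore 3 (Equiv.Perm (Fin 8)) = ⊥ := by
  refine ⟨fun c => ?_, ?_⟩
  · obtain ⟨τ, hτ, hcom⟩ := exists_commuting c
    obtain ⟨π, hπ⟩ := isConj_iff.mp ((Equiv.Perm.isConj_iff_cycleType_eq (σ := τ) (τ := σ)).mpr (hτ.trans hσ.symm))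
    refine ⟨π * c * π⁻¹, isConj_iff.mpr ⟨π, rfl⟩, subnormal_of_commute _ _ ?_⟩
    have h := hcom.map (MulAut.conj π).toMonoidHom
    simp only [MulEquiv.coe_toMonoidHom, MulAut.conj_apply] at h
    rw [← hπ]
    convert h using 1
    group
  · refine le_bot_iff.mp (sSup_le ?_)
    rintro N ⟨hN, hp⟩
    by_contra hne
    have h8 := Cfsg.Agent.S4325.dvd_card_of_normal 8 N (fun e => hne e.le)
    have : Fact (Nat.Prime 3) := ⟨Nat.prime_three⟩
    obtain ⟨k, hk⟩ := IsPGroup.iff_card.mp hp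
    rw [hk] at h8
    have := Nat.prime_two.dvd_of_dvd_pow ((by norm_num : (2 : ℕ) ∣ 8).trans h8)
    norm_num at this

end Cfsg.Agent.S4332
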