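import Cfsg.Statements.S4333
import Cfsg.Agent.EqLemmas
import Cfsg.Agent.Lib.Cores.Subnormal

set_option autoImplicit false
open Pointwise
open Cfsg

namespace Cfsg.Agent.S4333

open Cfsg.Agent.Cores

universe u

theorem criterion : ∀ (n : ℕ) (G : Type u) [Group G] [Finite G],
    Nat.card G = n → ∀ A : Subgroup G,
    (∀ a ∈ A, ∀ g : G, (A.subgroupOf (A ⊔ MulAut.conj (g⁻¹ * a * g) • A)).IsSubnormal) →
    A.IsSubnormal := by
  intro n
  induction n using Nat.strong_induction_on with
  | _ n ih =>
    intro G _ _ hn A h
    by_contra hA
    have hsub : ∀ H : Subgroup G, A ≤ H → H ≠ ⊤ → (A.subgroupOf H).IsSubnormal := by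
      intro H hAH hH
      refine ih _ (hn ▸ lt_of_le_of_ne (Subgroup.card_le_card_group H)
        fun hc => hH (Subgroup.eq_top_of_card_eq H hc)) H rfl _ fun a ha g => ?_
      have h1 := isSubnormal_subgroupOf_comap H.subtype (h (a : G) ha (g : G))
      set x : H := g⁻¹ * a * g with hx'
      have ex : (g : G)⁻¹ * (a : G) * (g : G) = (x : G) := by simp [hx']
      rw [ex] at h1
      have e : (A ⊔ MulAut.conj (x : G) • A).comap H.subtype
          = A.subgroupOf H ⊔ MulAut.conj x • A.subgroupOf H := by
        have hx : MulAut.conj (x : G) • A ≤ H := fun y hy => by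
          have := H.mul_mem (H.mul_mem x.2 (hAH (mem_conj_smul.mp hy))) (H.inv_mem x.2)
          simpa [mul_assoc] using this
        rw [← subgroupOf_conj_smul, ← Subgroup.subgroupOf_sup hAH hx]
        rfl
      rw [e] at h1
      exact h1
    obtain ⟨M, hM, hAM, huniq⟩ := wielandt_zipper A hsub hA
    have hcl : Subgroup.normalClosure (A : Set G) ≤ M := by
      refine (Subgroup.closure_le _).mpr fun y hy => ?_
      obtain ⟨a, ha, g, rfl⟩ := by
        simpa only [Group.mem_conjugatesOfSet_iff, isConj_iff] using hy
      set x : G := g * a * g⁻¹ with hx'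
      have hx : (g⁻¹)⁻¹ * a * g⁻¹ = x := by simp [hx']
      have hsn := h a ha g⁻¹
      rw [hx] at hsn
      have hne : A ⊔ MulAut.conj x • A ≠ ⊤ := fun ht =>
        hA (isSubnormal_subgroupOf_top.mp (ht ▸ hsn))
      obtain ⟨K, hK, hle⟩ := (eq_top_or_exists_le_coatom _).resolve_left hne
      have hKM := huniq K hK (le_sup_left.trans hle)
      subst hKM
      -- the conjugate of `K` by `x⁻¹` contains `A`, so equals `K`
      have hle' : A ≤ MulAut.conj x⁻¹ • K := fun b hb => by
        rw [mem_conj_smul]
        refine hle (Subgroup.mem_sup_right ?_)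
        rw [mem_conj_smul]
        simpa [mul_assoc] using hb
      have hfix : MulAut.conj x⁻¹ • K = K := by
        refine huniq _ ⟨fun ht => hK.1 ?_, fun L hL => ?_⟩ hle'
        · rw [eq_top_iff]
          intro z _
          have := ht ▸ Subgroup.mem_top (x⁻¹ * z * x)
          rw [mem_conj_smul] at this
          simpa [mul_assoc] using this
        · have h2 : K < MulAut.conj x • L := by
            refine lt_of_le_of_ne (fun z hz => ?_) fun he => hL.ne ?_
            · rw [mem_conj_smul]
              refine hL.le ?_
              rw [mem_conj_smul]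
              simpa [mul_assoc] using hz
            · rw [he, map_inv, inv_smul_smul]
          rw [eq_top_iff]
          intro z _
          have := hK.2 _ h2 ▸ Subgroup.mem_top (x * z * x⁻¹)
          rw [mem_conj_smul] at this
          simpa [mul_assoc] using this
      have hn' : x⁻¹ ∈ Subgroup.normalizer (K : Set G) := conj_smul_eq_self_iff.mp hfix
      have hx2 : x ∈ Subgroup.normalizer (K : Set G) := by simpa using inv_mem hn'
      rcases hK.le_iff.mp (Subgroup.le_normalizer (H := K)) with ht | he
      · exfalso
        have hKn : K.Normal := Subgroup.normalizer_eq_top_iff.mp ht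
        exact hA ((hsub K hAM hK.1).trans hAM hKn.isSubnormal)
      · rw [he] at hx2
        exact hx2
    have hAc : A ≤ Subgroup.normalClosure (A : Set G) := Subgroup.le_normalClosure
    exact hA ((hsub _ hAc fun ht => hM.1 (top_le_iff.mp (ht ▸ hcl))).trans hAc
      Subgroup.normalClosure_normal.isSubnormal)

/-- Let A be a subgroup of a finite group G. If A is subnormal in the subgroup generated by A and its conjugate by g⁻¹ a g, for every a ∈ A and every g ∈ G, then A is subnormal in G. (A sharpening of Wielandt's subnormality criterion: only conjugates of A by conjugates of elements of A are needed.) -/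
theorem result {G : Type*} [Group G] [Finite G]
    (A : Subgroup G)
    (h : ∀ a ∈ A, ∀ g : G, (A.subgroupOf (A ⊔ MulAut.conj (g⁻¹ * a * g) • A)).IsSubnormal) :
    A.IsSubnormal := by
  exact criterion _ G rfl A h

end Cfsg.Agent.S4333
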