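import Cfsg.Statements.S4334
import Cfsg.Agent.Lib.Solvable.NilpotentHall
import Cfsg.Agent.S0071

set_option autoImplicit false
open Pointwise
open Cfsg

namespace Cfsg.Agent.S4334

/-- An element normalizing `R` whose order is prime to the index of the centralizer centralizes it. -/
theorem mem_centralizer_of_coprime_index' {G : Type*} [Group G] [Finite G] {R : Subgroup G} {g : G}
    (hg : g ∈ Subgroup.normalizer (R : Set G))
    (h : (orderOf g).Coprime (Subgroup.centralizer (R : Set G)).index) :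
    g ∈ Subgroup.centralizer (R : Set G) := by
  set N := Subgroup.normalizer (R : Set G)
  set C := (Subgroup.centralizer (R : Set G)).subgroupOf N
  have : C.Normal := ⟨fun a ha n => by
    rw [Subgroup.mem_subgroupOf, Subgroup.mem_centralizer_iff] at ha ⊢
    intro b hb
    have hb' : (n : G)⁻¹ * b * (n : G) ∈ R := by
      have := (Subgroup.mem_normalizer_iff.1 (inv_mem n.2) b).1 hb
      rwa [inv_inv] at this
    have h1 := ha _ hb'
    simp only [Subgroup.coe_mul, Subgroup.coe_inv]
    calc b * ((n : G) * a * (n : G)⁻¹)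
        = (n : G) * (((n : G)⁻¹ * b * n) * a) * (n : G)⁻¹ := by group
      _ = (n : G) * (a * ((n : G)⁻¹ * b * n)) * (n : G)⁻¹ := by rw [h1]
      _ = (n : G) * a * (n : G)⁻¹ * b := by group⟩
  have h1 : (⟨g, hg⟩ : N) ^ C.index ∈ C := Subgroup.pow_index_mem C _
  have hd : C.index ∣ (Subgroup.centralizer (R : Set G)).index := by
    refine Subgroup.relIndex_dvd_index_of_le ?_
    exact Subgroup.centralizer_le_normalizer _
  have hco : (orderOf g).Coprime C.index := h.coprime_dvd_right hd
  have hm : g ^ C.index ∈ Subgroup.centralizer (R : Set G) := by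
    simpa [C, Subgroup.mem_subgroupOf] using h1
  obtain ⟨k, hk⟩ := exists_pow_eq_self_of_coprime hco.symm
  rw [← hk]
  exact pow_mem hm k

open Cfsg.Agent.Solvable in
theorem not_dvd_centralizer_index {G : Type*} [Group G] [Finite G] {π : Set ℕ} {A R : Subgroup G}
    {q : ℕ} (hq : q.Prime) (hqπ : q ∈ π) (hA : Cfsg.IsPiHall π A)
    (h : A ≤ Subgroup.centralizer (R : Set G)) :
    ¬ q ∣ (Subgroup.centralizer (R : Set G)).index :=
  fun hd => hA.2 q hq hqπ (hd.trans (Subgroup.index_dvd_of_le h))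

/-- Let σ and τ be disjoint sets of primes with union π. Suppose a finite group G has a Hall π-subgroup H which is the direct product of a nilpotent σ-subgroup and a τ-subgroup (two elementwise-commuting subgroups generating H), and that the maximal τ-subgroups of G are pairwise conjugate. Then the maximal π-subgroups of G are pairwise conjugate. -/
theorem result {G : Type*} [Group G] [Finite G]
    (σ τ π : Set ℕ) (hπ : π = σ ∪ τ) (hd : Disjoint σ τ) (H Hs Ht : Subgroup G) (hH : Cfsg.IsPiHall π H)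
    (hs : Cfsg.IsPiSubgroup σ Hs) (ht : Cfsg.IsPiSubgroup τ Ht) (hsn : Group.IsNilpotent Hs)
    (hjoin : Hs ⊔ Ht = H) (hcomm : ∀ a ∈ Hs, ∀ b ∈ Ht, a * b = b * a) (hD : Cfsg.IsDPiGroup τ G) :
    Cfsg.IsDPiGroup π G := by
  open Cfsg.Agent.Solvable in
  classical
  have hsplit : ∀ A B : Subgroup G, B ≤ Subgroup.normalizer (A : Set G) →
      A.relIndex (A ⊔ B) ∣ Nat.card B := by
    intro A B hB
    set L := A ⊔ B
    have : (A.subgroupOf L).Normal :=
      Subgroup.normal_subgroupOf_of_le_normalizer (sup_le Subgroup.le_normalizer hB)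
    have htop : B.subgroupOf L ⊔ A.subgroupOf L = ⊤ := by
      rw [← Subgroup.subgroupOf_sup le_sup_right le_sup_left, sup_comm, Subgroup.subgroupOf_self]
    show (A.subgroupOf L).index ∣ _
    rw [← Subgroup.relIndex_top_right, ← htop, Subgroup.relIndex_sup_right]
    exact (Subgroup.relIndex_dvd_card _ _).trans
      (Nat.card_congr (Subgroup.subgroupOfEquivOfLe (le_sup_right : B ≤ L)).toEquiv).dvd
  have hHi := isPiHall_iff.1 hH
  have hts : τ ⊆ σᶜ := fun q hq hs' => hd.le_bot ⟨hs', hq⟩
  have hst : σ ⊆ τᶜ := fun q hq ht' => hd.le_bot ⟨hq, ht'⟩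
  have hπc : πᶜ ⊆ σᶜ ∧ πᶜ ⊆ τᶜ := by
    rw [hπ, Set.compl_union]; exact ⟨Set.inter_subset_left, Set.inter_subset_right⟩
  have hsH : Cfsg.IsPiHall σ Hs := by
    refine isPiHall_iff.2 ⟨hs, ?_⟩
    rw [← Subgroup.relIndex_mul_index (hjoin ▸ le_sup_left : Hs ≤ H)]
    refine IsPiNum.mul ?_ (hHi.2.mono hπc.1)
    refine IsPiNum.of_dvd (IsPiNum.mono ht hts) ?_
    rw [← hjoin]
    exact hsplit Hs Ht fun b hb => Subgroup.centralizer_le_normalizer _
      (Subgroup.mem_centralizer_iff.2 fun a ha => hcomm a ha b hb)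
  have htH : Cfsg.IsPiHall τ Ht := by
    refine isPiHall_iff.2 ⟨ht, ?_⟩
    rw [← Subgroup.relIndex_mul_index (hjoin ▸ le_sup_right : Ht ≤ H)]
    refine IsPiNum.mul ?_ (hHi.2.mono hπc.2)
    refine IsPiNum.of_dvd (IsPiNum.mono hs hst) ?_
    rw [← hjoin, sup_comm]
    exact hsplit Ht Hs fun a ha => Subgroup.centralizer_le_normalizer _
      (Subgroup.mem_centralizer_iff.2 fun b hb => (hcomm a ha b hb).symm)
  have hnil : ∀ x : G, Group.IsNilpotent ↥(MulAut.conj x • Hs) := fun x =>
    (Group.isNilpotent_congr (Subgroup.equivSMul (MulAut.conj x) Hs)).1 hsn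
  have hcomm' : ∀ x : G, MulAut.conj x • Ht ≤
      Subgroup.centralizer ((MulAut.conj x • Hs : Subgroup G) : Set G) := by
    intro x b hb
    rw [Subgroup.mem_centralizer_iff]
    intro a ha
    rw [SetLike.mem_coe, mem_conj_iff] at ha
    rw [mem_conj_iff] at hb
    have h1 := hcomm _ ha _ hb
    have h2 := congrArg (fun y => x * y * x⁻¹) h1
    simp only [mul_assoc, mul_inv_cancel_left, mul_inv_cancel, mul_one] at h2
    exact h2
  have hcont : ∀ K : Subgroup G, Cfsg.IsPiSubgroup π K →
      ∃ x : G, K ≤ MulAut.conj x • H := by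
    intro K hK
    have hp : ∀ p : ℕ, p.Prime → p ∈ σ →
        ∃ N : Subgroup K, N.Normal ∧ ¬ p ∣ Nat.card N ∧ ∃ k : ℕ, N.index = p ^ k := by
      intro p hpp hpσ
      have := Fact.mk hpp
      obtain ⟨P⟩ := (inferInstance : Nonempty (Sylow p K))
      refine Exists.elim ((Cfsg.Agent.S0071.result P).2 ?_) ?_
      swap
      · rintro N ⟨hNn, hNc⟩
        obtain ⟨k, hk⟩ := IsPGroup.iff_card.1 P.2
        refine ⟨N, hNn, fun hd' => P.not_dvd_index ?_, k, ?_⟩
        · rw [hNc.index_eq_card]
          exact hd'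
        · exact hNc.symm.index_eq_card.trans hk
      intro Q hQP g hg hco
      set R := Q.map K.subtype
      have hRp : IsPGroup p R := (P.2.to_le hQP).map _
      obtain ⟨x, hx⟩ := exists_conj_ge_of_nilpotent_hall hsn hsH
        (isPiNum_of_isPGroup hRp hpσ)
      have hgR : (g : G) ∈ Subgroup.normalizer (R : Set G) :=
        Subgroup.le_normalizer_map K.subtype ⟨g, hg, rfl⟩
      have hc := mem_centralizer_of_coprime_index' hgR ?_
      · rw [Subgroup.mem_centralizer_iff] at hc ⊢
        intro a ha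
        exact Subtype.ext (hc (a : G) ⟨a, ha, rfl⟩)
      rw [Nat.coprime_iff_gcd_eq_one]
      by_contra hne
      obtain ⟨q, hq, hqd⟩ := Nat.exists_prime_and_dvd hne
      have hqg : q ∣ orderOf (g : G) := hqd.trans (Nat.gcd_dvd_left _ _)
      have hqi := hqd.trans (Nat.gcd_dvd_right _ _)
      have hqp : q ≠ p := by
        rintro rfl
        rw [Subgroup.orderOf_coe] at hqg
        exact hpp.ne_one (Nat.Coprime.eq_one_of_dvd (hco.symm) hqg)
      have hqπ : q ∈ π := hK q hq (hqg.trans (by
        rw [Subgroup.orderOf_coe]; exact orderOf_dvd_natCard g))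
      have := Fact.mk hq
      rw [hπ] at hqπ
      rcases hqπ with hqs | hqt
      · obtain ⟨S, hS⟩ := exists_sylow_le_of_isPiHall (isPiHall_conj hsH x) hqs
        refine S.not_dvd_index (hqi.trans (Subgroup.index_dvd_of_le fun a ha => ?_))
        refine Subgroup.mem_centralizer_iff.2 fun b hb => ?_
        exact (commute_of_isPGroup_of_isNilpotent (hnil x) hqp S.2 hRp hS hx ha hb).eq.symm
      · exact not_dvd_centralizer_index hq hqt (isPiHall_conj htH x)
          ((hcomm' x).trans (Subgroup.centralizer_le hx)) hqi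
    have key : ∀ t : Finset ℕ, (∀ p ∈ t, p.Prime ∧ p ∈ σ) → ∃ T : Subgroup K,
        T.Normal ∧ IsPiNum σ T.index ∧ ∀ p ∈ t, ¬ p ∣ Nat.card T := by
      intro t
      induction t using Finset.induction with
      | empty =>
        intro _
        exact ⟨⊤, inferInstance, by rw [Subgroup.index_top]; exact isPiNum_one, by simp⟩
      | insert a t hat ih =>
        intro h
        obtain ⟨T, hTn, hTi, hT⟩ := ih fun p hp' => h p (Finset.mem_insert_of_mem hp')
        obtain ⟨hap, haσ⟩ := h a (Finset.mem_insert_self a t)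
        obtain ⟨N, hNn, hNd, k, hk⟩ := hp a hap haσ
        refine ⟨T ⊓ N, inferInstance, ?_, ?_⟩
        · rw [← Subgroup.relIndex_mul_index (inf_le_right : T ⊓ N ≤ N), Subgroup.inf_relIndex_right]
          exact (hTi.of_dvd (Subgroup.relIndex_dvd_index_of_normal T N)).mul
            (hk ▸ isPiNum_pow hap haσ k)
        · intro p hp' hd'
          rcases Finset.mem_insert.1 hp' with rfl | hp'
          · exact hNd (hd'.trans (Subgroup.card_dvd_of_le inf_le_right))
          · exact hT p hp' (hd'.trans (Subgroup.card_dvd_of_le inf_le_left))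
    obtain ⟨T0, hT0n, hT0i, hT0⟩ := key ((Nat.card K).primeFactors.filter (· ∈ σ))
      fun p hp' => ⟨Nat.prime_of_mem_primeFactors (Finset.mem_filter.1 hp').1,
        (Finset.mem_filter.1 hp').2⟩
    have hT0c : IsPiNum τ (Nat.card T0) := by
      intro q hq hd'
      have hqK := hd'.trans (Subgroup.card_subgroup_dvd_card T0)
      have hqπ := hK q hq hqK
      rw [hπ] at hqπ
      rcases hqπ with hqs | hqt
      · exact absurd hd' (hT0 q (Finset.mem_filter.2
          ⟨Nat.mem_primeFactors.2 ⟨hq, hqK, Nat.card_pos.ne'⟩, hqs⟩))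
      · exact hqt
    obtain ⟨U0, hU0⟩ := Subgroup.exists_right_complement'_of_coprime (N := T0)
      ((hT0c.mono hts).coprime (by rwa [compl_compl] : IsPiNum σᶜᶜ T0.index))
    have hU0c : IsPiNum σ (Nat.card U0) := by rwa [← hU0.symm.index_eq_card]
    set T := T0.map K.subtype
    set U := U0.map K.subtype
    have hTU : T ⊔ U = K := by
      rw [← Subgroup.map_sup, hU0.sup_eq_top, ← MonoidHom.range_eq_map, Subgroup.range_subtype]
    have hTn : K ≤ Subgroup.normalizer (T : Set G) := fun a ha =>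
      Subgroup.le_normalizer_map K.subtype ⟨⟨a, ha⟩, by
        rw [Subgroup.normalizer_eq_top_iff.2 hT0n]; trivial, rfl⟩
    have hTt : IsPiNum τ (Nat.card T) := by
      rwa [Subgroup.card_map_of_injective K.subtype_injective]
    obtain ⟨x, hx⟩ : ∃ x : G, T ≤ MulAut.conj x • Ht := by
      obtain ⟨M, hTM, hM⟩ := Finite.exists_le_maximal (p := Cfsg.IsPiSubgroup τ) (a := T) hTt
      have hHtmax : Maximal (Cfsg.IsPiSubgroup τ) Ht :=
        ⟨ht, fun A hA hle => (eq_of_le_of_isPiNum htH hle hA).ge⟩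
      obtain ⟨g, rfl⟩ := hD Ht M hHtmax hM
      exact ⟨g, by rw [conj_eq_map]; exact hTM⟩
    set C := Subgroup.centralizer (T : Set G)
    have hsC : MulAut.conj x • Hs ≤ C := fun a ha => Subgroup.mem_centralizer_iff.2 fun b hb =>
      ((Subgroup.mem_centralizer_iff.1 (hcomm' x (hx hb))) a ha).symm
    have hUC : U ≤ C := by
      intro u hu
      refine mem_centralizer_of_coprime_index' (hTn (Subgroup.map_subtype_le U0 hu)) ?_
      refine IsPiNum.coprime (π := σ) (IsPiNum.of_dvd hU0c ?_) ?_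
      · rw [← Subgroup.card_map_of_injective K.subtype_injective]
        exact Subgroup.orderOf_dvd_natCard U hu
      · intro q hq hd' hqs
        exact not_dvd_centralizer_index hq hqs (isPiHall_conj hsH x) hsC hd'
    have hC : Cfsg.IsPiHall σ ((MulAut.conj x • Hs).subgroupOf C) :=
      isPiHall_subgroupOf ⟨hsC, (isPiHall_conj hsH x).1, fun q hq hqs hd' =>
        (isPiHall_conj hsH x).2 q hq hqs (hd'.trans (Subgroup.relIndex_dvd_index_of_le hsC))⟩
    obtain ⟨c, hc⟩ := exists_conj_ge_of_nilpotent_hall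
      ((Group.isNilpotent_congr (Subgroup.subgroupOfEquivOfLe hsC)).2 (hnil x)) hC
      (K := U.subgroupOf C) (by
        rw [Nat.card_congr (Subgroup.subgroupOfEquivOfLe hUC).toEquiv]
        exact hU0c.of_dvd (Subgroup.card_map_dvd _ _))
    have hc' := Subgroup.map_mono (f := C.subtype) hc
    rw [map_conj, Subgroup.map_subgroupOf_eq_of_le hUC, Subgroup.map_subgroupOf_eq_of_le hsC] at hc'
    refine ⟨(c : G) * x, ?_⟩
    rw [← conj_conj, ← hTU]
    refine sup_le (fun b hb => ?_) (hc'.trans (conj_mono _ (conj_mono x (hjoin ▸ le_sup_left))))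
    rw [mem_conj_iff]
    have hb' : (c : G)⁻¹ * b * (c : G) = b := by
      rw [mul_assoc, Subgroup.mem_centralizer_iff.1 c.2 b hb, inv_mul_cancel_left]
    rw [hb']
    exact conj_mono x (hjoin ▸ le_sup_right) (hx hb)
  have hmax : ∀ A : Subgroup G, Maximal (Cfsg.IsPiSubgroup π) A →
      ∃ x : G, A = MulAut.conj x • H := by
    intro A hA
    obtain ⟨x, hx⟩ := hcont A hA.1
    exact ⟨x, le_antisymm hx (hA.2 (isPiHall_conj hH x).1 hx)⟩
  intro A B hA hB
  obtain ⟨a, rfl⟩ := hmax A hA
  obtain ⟨b, rfl⟩ := hmax B hB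
  exact ⟨b * a⁻¹, by rw [← conj_eq_map, conj_conj, inv_mul_cancel_right]⟩

end Cfsg.Agent.S4334
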