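import Cfsg.Statements.S4340
import Cfsg.Agent.Lib.FewSylowClass.Converse
import Cfsg.Agent.Lib.SmallOrders.Order5616.Main
import Cfsg.Agent.Lib.FrobSystem.Main

set_option autoImplicit false
set_option linter.style.haveILetI false
open Cfsg

namespace Cfsg.Agent.S4340

/-- Let S be a finite non-abelian simple group and p a prime dividing its order. Then S has fewer than p² Sylow p-subgroups if and only if one of the following holds: S is isomorphic to PSL(2, p); or p = 13 and S is isomorphic to PSL(3, 3); or p > 3, p - 1 is a power of 2 and S is isomorphic to PSL(2, p - 1); or p > 3, p + 1 is a power of 2 and S is isomorphic to PSL(2, p + 1). -/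
theorem result {S : Type*} [Group S] [Finite S] [IsSimpleGroup S]
    (hS : ¬ IsMulCommutative S) (p : ℕ) [Fact p.Prime] (hp : p ∣ Nat.card S) :
    Nat.card (Sylow p S) < p ^ 2 ↔
      ((∃ (F : Type) (_ : Field F) (_ : Fintype F), Fintype.card F = p ∧
          Nonempty (S ≃* Matrix.ProjectiveSpecialLinearGroup (Fin 2) F)) ∨
       (p = 13 ∧ ∃ (F : Type) (_ : Field F) (_ : Fintype F), Fintype.card F = 3 ∧
          Nonempty (S ≃* Matrix.ProjectiveSpecialLinearGroup (Fin 3) F)) ∨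
       (3 < p ∧ (∃ k : ℕ, p = 2 ^ k + 1) ∧ ∃ (F : Type) (_ : Field F) (_ : Fintype F), Fintype.card F = p - 1 ∧
          Nonempty (S ≃* Matrix.ProjectiveSpecialLinearGroup (Fin 2) F)) ∨
       (3 < p ∧ (∃ k : ℕ, p + 1 = 2 ^ k) ∧ ∃ (F : Type) (_ : Field F) (_ : Fintype F), Fintype.card F = p + 1 ∧
          Nonempty (S ≃* Matrix.ProjectiveSpecialLinearGroup (Fin 2) F))) := by
  classical
  constructor
  · intro hlt
    obtain ⟨n, hn⟩ := BrauerN.card_sylow_form p S
    have hnp : n < p := by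
      by_contra hc
      have := Nat.mul_le_mul_right p (not_lt.1 hc)
      rw [hn, sq] at hlt
      omega
    rcases FewSylowClass.classified hS hp hn hnp with ⟨F, iF, iF', hF, -, -, e⟩ | ⟨h13, -, hG⟩ |
      ⟨m, F, iF, iF', hF, hm, h3, -, ⟨e⟩⟩ | ⟨m, F, iF, iF', hF, hm, h3, -, e⟩
    · exact Or.inl ⟨F, iF, iF', hF, e⟩
    · exact Or.inr (Or.inl ⟨h13, ZMod 3, inferInstance, inferInstance, ZMod.card 3,
        SmallOrders.Order5616.nonempty_psl hG⟩)
    · haveI := Fact.mk Nat.prime_two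
      haveI : CharP F 2 := charP_of_card_eq_prime_pow hF
      obtain ⟨e'⟩ := FrobSystem.sl_equiv_psl F
      exact Or.inr (Or.inr (Or.inl ⟨h3, ⟨m, hm⟩, F, iF, iF', by omega, ⟨e.trans e'⟩⟩))
    · exact Or.inr (Or.inr (Or.inr ⟨h3, ⟨m, hm⟩, F, iF, iF', by omega, e⟩))
  · rintro (⟨F, iF, iF', hF, ⟨e⟩⟩ | ⟨h13, F, iF, iF', hF, ⟨e⟩⟩ | ⟨h3, ⟨k, hk⟩, F, iF, iF', hF, ⟨e⟩⟩ |
      ⟨h3, ⟨k, hk⟩, F, iF, iF', hF, ⟨e⟩⟩)
    all_goals have hc : Nat.card F = _ := Nat.card_eq_fintype_card.trans hF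
    · exact FewSylowClass.count_lt_sq_of_psl_prime hp hc e
    · exact FewSylowClass.count_lt_sq_of_psl_three h13 hp hc e
    · exact FewSylowClass.count_lt_sq_of_fermat h3 hk hp hc e
    · exact FewSylowClass.count_lt_sq_of_mersenne hS h3 hk hp hc e

end Cfsg.Agent.S4340
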