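import Cfsg.Statements.S4341
import Cfsg.Agent.EqLemmas
import Cfsg.Agent.Lib.SylowCount.Basic
import Cfsg.Agent.Lib.Cores.Subnormal

set_option autoImplicit false
open Cfsg

namespace Cfsg.Agent.S4341

open Cfsg.Agent.SylowCount

/-- Let K be a normal subgroup of a finite group G, p a prime and P a Sylow p-subgroup of G; let N be the normalizer of P ∩ K inside the subgroup PK. Then the number of Sylow p-subgroups of G equals the product of the numbers of Sylow p-subgroups of G/K, of K, and of N/(P ∩ K). (The normality of P ∩ K in N, which always holds, is assumed as a hypothesis so that the quotient can be formed.) -/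
theorem result {G : Type*} [Group G] [Finite G]
    (p : ℕ) [Fact p.Prime] (K : Subgroup G) [K.Normal] (P : Sylow p G) (N : Subgroup G)
    (hN : N = ((P : Subgroup G) ⊔ K) ⊓ Subgroup.normalizer (((P : Subgroup G) ⊓ K : Subgroup G) : Set G))
    [hn : (((P : Subgroup G) ⊓ K).subgroupOf N).Normal] :
    Nat.card (Sylow p G) =
      Nat.card (Sylow p (G ⧸ K)) * Nat.card (Sylow p K) * Nat.card (Sylow p (N ⧸ ((P : Subgroup G) ⊓ K).subgroupOf N)) := by
  subst hN
  set D := (P : Subgroup G) ⊓ K with hD
  set ND := Subgroup.normalizer (D : Set G) with hND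
  set NP := Subgroup.normalizer ((P : Subgroup G) : Set G) with hNP
  set W := (P : Subgroup G) ⊔ K with hW
  have hPD : (P : Subgroup G) ≤ ND := by
    refine le_trans ?_ (Subgroup.inf_normalizer_le_normalizer_inf)
    exact le_inf Subgroup.le_normalizer (by rw [Subgroup.normalizer_eq_top]; exact le_top)
  have hNN : NP ≤ ND := by
    refine le_trans ?_ (Subgroup.inf_normalizer_le_normalizer_inf)
    exact le_inf le_rfl (by rw [Subgroup.normalizer_eq_top]; exact le_top)
  have hPN : (P : Subgroup G) ≤ W ⊓ ND := le_inf le_sup_left hPD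
  -- the Sylow subgroups of `K`
  obtain ⟨Q, hQ⟩ := Cfsg.Agent.Cores.sylow_inf_isSubnormal P (Subgroup.Normal.isSubnormal ‹K.Normal›)
  have hK : Nat.card (Sylow p K) = ND.relIndex K := by
    rw [Sylow.card_eq_index_normalizer Q]
    show (Subgroup.normalizer (((Q : Subgroup K)) : Set K)).index = _
    rw [hQ, show (P : Subgroup G).subgroupOf K = D.subgroupOf K from (Subgroup.inf_subgroupOf_right _ _).symm,
      ← Subgroup.subgroupOf_normalizer_eq inf_le_right]
    rfl
  -- the Sylow subgroups of `N / D`
  have hq : Nat.card (Sylow p (↥(W ⊓ ND) ⧸ D.subgroupOf (W ⊓ ND))) = NP.relIndex (W ⊓ ND) := by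
    rw [@card_sylow_quotient_eq _ _ _ p _ (D.subgroupOf (W ⊓ ND)) hn ?_, card_sylow_eq_relIndex P _ hPN]
    intro S
    exact (@IsPGroup.le_sylow_of_normal _ _ _ _ hn ((P.isPGroup'.to_le inf_le_left).comap_subtype) S).trans Subgroup.le_normalizer
  -- combine
  have hsup : (W ⊓ ND) ⊔ K = W := le_antisymm (sup_le inf_le_left le_sup_right)
    (sup_le (hPN.trans le_sup_left) le_sup_right)
  have h1 := relIndex_eq_of_sup K (W ⊓ ND)
  rw [hsup] at h1
  have h2 : (W ⊓ ND).relIndex K = ND.relIndex K := by
    rw [← Subgroup.inf_relIndex_right, ← Subgroup.inf_relIndex_right (H := ND)]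
    congr 1
    exact le_antisymm (inf_le_inf_right _ inf_le_right) (le_inf (le_inf (inf_le_right.trans le_sup_right) inf_le_left) inf_le_right)
  have h3 : NP.relIndex W = (W ⊓ ND).relIndex W * NP.relIndex (W ⊓ ND) := by
    have e := Subgroup.relIndex_mul_relIndex (W ⊓ NP) (W ⊓ ND) W (inf_le_inf_left _ hNN) inf_le_left
    have e1 : (W ⊓ NP).relIndex (W ⊓ ND) = NP.relIndex (W ⊓ ND) := by
      rw [← Subgroup.inf_relIndex_right (H := NP), ← Subgroup.inf_relIndex_right (H := W ⊓ NP)]
      congr 1
      exact le_antisymm (inf_le_inf_right _ inf_le_right) (le_inf (le_inf (inf_le_right.trans inf_le_left) inf_le_left) inf_le_right)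
    rw [e1, inf_comm W NP, Subgroup.inf_relIndex_right] at e
    rw [← e, mul_comm]
  rw [card_sylow_eq_quotient_mul K P, card_sylow_eq_relIndex P W le_sup_left, hK, hq, h3, h1, h2, mul_assoc]

end Cfsg.Agent.S4341
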