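import Cfsg.Statements.S4342
import Cfsg.Agent.EqLemmas
import Cfsg.Agent.Lib.SylowCount.Basic

set_option autoImplicit false
open Cfsg

namespace Cfsg.Agent.S4342

open Cfsg.Agent.SylowCount

/-- Let H be a normal subgroup of a finite group G and p a prime not dividing the index of H. Then the number of Sylow p-subgroups of H/Z(H) equals the number of Sylow p-subgroups of G. -/
theorem result {G : Type*} [Group G] [Finite G]
    (p : ℕ) [Fact p.Prime] (H : Subgroup G) [H.Normal] (hp : ¬ p ∣ H.index) :
    Nat.card (Sylow p (H ⧸ Subgroup.center H)) = Nat.card (Sylow p G) := by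
  obtain ⟨P⟩ := (inferInstance : Nonempty (Sylow p G))
  have hPH : (P : Subgroup G) ≤ H := by
    intro x hx
    obtain ⟨k, hk⟩ := IsPGroup.iff_orderOf.1 P.isPGroup' ⟨x, hx⟩
    rw [Subgroup.orderOf_mk] at hk
    rw [← QuotientGroup.eq_one_iff, ← orderOf_eq_one_iff]
    refine Nat.eq_one_of_dvd_coprimes (Nat.Coprime.pow_left k ((Fact.out : p.Prime).coprime_iff_not_dvd.2 hp)) ?_ (orderOf_dvd_natCard _)
    rw [← hk]
    exact orderOf_map_dvd (QuotientGroup.mk' H) x
  rw [card_sylow_quotient_eq (Subgroup.center H)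
    (fun Q => Subgroup.center_le_normalizer _), card_sylow_of_sylow_le P H hPH]

end Cfsg.Agent.S4342
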