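import Cfsg.Statements.S4344
import Cfsg.Agent.EqLemmas

set_option autoImplicit false
open Cfsg

namespace Cfsg.Agent.S4344

/-- Let S be a finite non-abelian simple group, M a maximal subgroup of S and C a cyclic normal subgroup of M. If a Sylow p-subgroup P of S (for a prime p dividing the order of S) is contained in C, then the number of Sylow p-subgroups of S equals the index of M. -/
theorem result {S : Type*} [Group S] [Finite S]
    [IsSimpleGroup S] (hS : ¬ IsMulCommutative S) (p : ℕ) [Fact p.Prime] (hp : p ∣ Nat.card S)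
    (M : Subgroup S) (hM : IsCoatom M) (C : Subgroup S) (hCM : C ≤ M) (hCn : (C.subgroupOf M).Normal)
    (hC : IsCyclic C) (P : Sylow p S) (hP : (P : Subgroup S) ≤ C) :
    Nat.card (Sylow p S) = M.index := by
  have hCc : ∀ x ∈ C, ∀ y ∈ C, x * y = y * x := fun x hx y hy => by
    have := (IsCyclic.isMulCommutative (α := C)).1.1 ⟨x, hx⟩ ⟨y, hy⟩
    exact congrArg Subtype.val this
  have hMN : M ≤ Subgroup.normalizer ((P : Subgroup S) : Set S) := by
    intro m hm
    have hsub : ((m • P : Sylow p S) : Subgroup S) ≤ C := by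
      rw [Sylow.coe_subgroup_smul]
      intro y hy
      rw [Subgroup.mem_pointwise_smul_iff_inv_smul_mem, ← map_inv, MulAut.smul_def, MulAut.conj_apply, inv_inv] at hy
      have hyC : m⁻¹ * y * m ∈ C := hP hy
      have := hCn.conj_mem ⟨m⁻¹ * y * m, hCM hyC⟩ (by rwa [Subgroup.mem_subgroupOf]) ⟨m, hm⟩
      rw [Subgroup.mem_subgroupOf] at this
      simpa [mul_assoc] using this
    refine Sylow.smul_eq_iff_mem_normalizer.1 ?_
    haveI hn : ((P.subtype hP : Sylow p C) : Subgroup C).Normal :=
      ⟨fun a ha b => by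
        have : b * a * b⁻¹ = a := by
          apply Subtype.ext
          simp [hCc b b.2 a a.2]
        rwa [this]⟩
    haveI := Sylow.unique_of_normal (P.subtype hP) hn
    exact Sylow.subtype_injective (hP := hsub) (hQ := hP) (Subsingleton.elim _ _)
  have hne : Subgroup.normalizer ((P : Subgroup S) : Set S) ≠ ⊤ := by
    intro htop
    have hPn : (P : Subgroup S).Normal := Subgroup.normalizer_eq_top_iff.1 htop
    rcases hPn.eq_bot_or_eq_top with h1 | h1
    · exact P.ne_bot_of_dvd_card hp h1
    · refine hS ⟨⟨fun a b => hCc a ?_ b ?_⟩⟩ <;> exact hP (h1 ▸ Subgroup.mem_top _)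
  have hN : Subgroup.normalizer ((P : Subgroup S) : Set S) = M :=
    (hM.le_iff.1 hMN).resolve_left hne
  rw [Sylow.card_eq_index_normalizer P]
  exact congrArg Subgroup.index hN

end Cfsg.Agent.S4344
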