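import Cfsg.Statements.S4345
import Cfsg.Agent.EqLemmas
import Cfsg.Agent.Lib.SylowCount.Basic
import Cfsg.Agent.Lib.Solvable.Basic

set_option autoImplicit false
open Cfsg

namespace Cfsg.Agent.S4345

open Cfsg.Agent.SylowCount

universe u

theorem aux (p ℓ : ℕ) [Fact p.Prime] (hℓ : ℓ.Prime) : ∀ (n : ℕ) (G : Type u) [Group G] [Finite G],
    Nat.card G = n → Group.IsSolvable G →
    ℓ ^ (Nat.card (Sylow p G)).factorization ℓ ≡ 1 [MOD p] := by
  intro n
  induction n using Nat.strong_induction_on with
  | _ n ih =>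
    intro G _ _ hn hG
    rcases subsingleton_or_nontrivial G with hs | hnt
    · have : Subsingleton (Sylow p G) :=
        ⟨fun P Q => Sylow.ext (Subgroup.ext fun x => by
          rw [Subsingleton.elim x 1]; simp)⟩
      rw [Nat.card_of_subsingleton (default : Sylow p G)]
      simp [Nat.ModEq]
    · obtain ⟨q, hq, M, hMn, hM0, hMp⟩ := Cfsg.Agent.Solvable.exists_normal_pGroup_ne_bot G
      have := Fact.mk hq
      have ih' := ih _ (hn ▸ Cfsg.Agent.Solvable.card_quotient_lt hM0) (G ⧸ M) rfl inferInstance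
      let P : Sylow p G := default
      rw [card_sylow_eq_quotient_mul M P, Nat.factorization_mul Nat.card_pos.ne' Nat.card_pos.ne',
        Finsupp.add_apply, pow_add]
      refine (ih'.mul ?_).trans (by rw [one_mul])
      obtain ⟨k, hk⟩ := IsPGroup.iff_card.1 hMp
      have hdvd : Nat.card (Sylow p ↥((P : Subgroup G) ⊔ M)) ∣ q ^ k := by
        rw [← hk, card_sylow_sup_eq]
        exact Subgroup.index_dvd_card _
      obtain ⟨j, -, hj⟩ := (Nat.dvd_prime_pow hq).1 hdvd
      have h1 : Nat.card (Sylow p ↥((P : Subgroup G) ⊔ M)) ≡ 1 [MOD p] := card_sylow_modEq_one p _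
      rw [hj] at h1 ⊢
      rw [hq.factorization_pow, Finsupp.single_apply]
      split_ifs with he
      · subst he
        exact h1
      · simp [Nat.ModEq]

/-- Let G be a finite solvable group and p, ℓ primes. Then the largest power of ℓ dividing the number of Sylow p-subgroups of G is congruent to 1 modulo p. -/
theorem result {G : Type*} [Group G] [Finite G]
    (hG : Group.IsSolvable G) (p ℓ : ℕ) [Fact p.Prime] (hℓ : ℓ.Prime) :
    ℓ ^ (Nat.card (Sylow p G)).factorization ℓ ≡ 1 [MOD p] := by
  exact aux p ℓ hℓ _ G rfl hG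

end Cfsg.Agent.S4345
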