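import Cfsg.Statements.S4346
import Cfsg.Agent.Lib.HallSylow.Perm
-- import your own Cfsg.Agent.* helpers here

set_option autoImplicit false
open Cfsg

namespace Cfsg.Agent.S4346
open MulAction Subgroup

theorem isCoatom_normalizer {W : Type*} [Group W] [Finite W] [Fact (Nat.Prime 3)] (P : Sylow 3 W)
    (h : (normalizer ((P : Subgroup W) : Set W)).index = 22) :
    IsCoatom (normalizer ((P : Subgroup W) : Set W)) := by
  refine ⟨fun e => by rw [e, Subgroup.index_top] at h; omega, fun K hK => ?_⟩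
  have hNK : normalizer ((P : Subgroup W) : Set W) ≤ K := hK.le
  have hPK : (P : Subgroup W) ≤ K := Subgroup.le_normalizer.trans hNK
  have h1 := (P.subtype hPK).card_eq_index_normalizer
  have h2 := card_sylow_modEq_one 3 K
  have he : normalizer (((P.subtype hPK : Sylow 3 K) : Subgroup K) : Set K) =
      (normalizer ((P : Subgroup W) : Set W)).subgroupOf K := by
    rw [P.coe_subtype hPK, Subgroup.subgroupOf_normalizer_eq hPK]
  rw [h1] at h2
  change (normalizer (((P.subtype hPK : Sylow 3 K) : Subgroup K) : Set K)).index % 3 = _ at h2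
  rw [he] at h2
  have h3 := Subgroup.relIndex_mul_index hNK
  rw [h] at h3
  change (normalizer ((P : Subgroup W) : Set W)).relIndex K % 3 = _ at h2
  have hd : (normalizer ((P : Subgroup W) : Set W)).relIndex K ∈ Nat.divisors 22 :=
    Nat.mem_divisors.2 ⟨⟨_, h3.symm⟩, by norm_num⟩
  generalize hr : (normalizer ((P : Subgroup W) : Set W)).relIndex K = r at h2 h3 hd
  rw [show Nat.divisors 22 = {1, 2, 11, 22} by decide] at hd
  simp only [Finset.mem_insert, Finset.mem_singleton] at hd
  rcases hd with rfl | rfl | rfl | rfl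
  · exact absurd (Subgroup.relIndex_eq_one.1 hr) (not_le_of_gt hK)
  · norm_num at h2
  · norm_num at h2
  · exact Subgroup.index_eq_one.1 (by omega)

/-- No finite group has exactly 22 Sylow 3-subgroups. -/
theorem result {G : Type*} [Group G] [Finite G] : Nat.card (Sylow 3 G) ≠ 22 := by
  intro h22
  classical
  have : Fact (Nat.Prime 3) := ⟨by norm_num⟩
  let Ω := Sylow 3 G
  have := Fintype.ofFinite Ω
  obtain ⟨P⟩ := (inferInstance : Nonempty Ω)
  have hΩ : Fintype.card Ω = 22 := by rw [← Nat.card_eq_fintype_card]; exact h22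
  let ρ : G →* Equiv.Perm Ω := MulAction.toPermHom G Ω
  let sgn : G →* ℤˣ := Equiv.Perm.sign.comp ρ
  let G1 : Subgroup G := sgn.ker
  have hPG1 : (P : Subgroup G) ≤ G1 := by
    intro q hq
    obtain ⟨j, hj⟩ := (IsPGroup.iff_orderOf.1 P.2) ⟨q, hq⟩
    rw [Subgroup.orderOf_mk] at hj
    rw [MonoidHom.mem_ker]
    have h1 : sgn q ^ (3 ^ j) = 1 := by rw [← map_pow, ← hj, pow_orderOf_eq_one, map_one]
    rcases Int.units_eq_one_or (sgn q) with h | h
    · exact h
    · rw [h, (Odd.pow (by decide : Odd 3)).neg_one_pow] at h1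
      exact absurd h1 (by decide)
  let f : G1 →* Equiv.Perm Ω := ρ.comp G1.subtype
  let W : Subgroup (Equiv.Perm Ω) := f.range
  have hWA : W ≤ alternatingGroup Ω := by
    rintro _ ⟨g, rfl⟩
    exact Equiv.Perm.mem_alternatingGroup.2 g.2
  let P' : Sylow 3 W := (P.subtype hPG1).mapSurjective f.rangeRestrict_surjective
  have hP' : ∀ w : W, w ∈ (P' : Subgroup W) ↔ ∃ q ∈ (P : Subgroup G), (w : Equiv.Perm Ω) = ρ q := by
    intro w
    constructor
    · intro hw
      obtain ⟨q, hq, rfl⟩ := hw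
      exact ⟨q.1, hq, rfl⟩
    · rintro ⟨q, hq, hwq⟩
      exact ⟨⟨q, hPG1 hq⟩, hq, Subtype.ext hwq.symm⟩
  have hfix : (P' : Subgroup W) ≤ MulAction.stabilizer W P := by
    intro w hw
    obtain ⟨q, hq, hwq⟩ := (hP' w).1 hw
    show (w : Equiv.Perm Ω) P = P
    rw [hwq]
    exact Sylow.smul_eq_iff_mem_normalizer.2 (Subgroup.le_normalizer hq)
  have honly : ∀ Q : Ω, (P' : Subgroup W) ≤ MulAction.stabilizer W Q → Q = P := by
    intro Q hQ
    have hle : (P : Subgroup G) ≤ Subgroup.normalizer ((Q : Subgroup G) : Set G) := by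
      intro q hq
      refine Sylow.smul_eq_iff_mem_normalizer.1 ?_
      exact hQ ((hP' ⟨ρ q, ⟨q, hPG1 hq⟩, rfl⟩).2 ⟨q, hq, rfl⟩)
    have hPQ : (P : Subgroup G) ≤ Q := by
      exact (le_inf le_rfl hle).trans ((P.2.inf_normalizer_sylow Q).le.trans inf_le_right)
    exact Sylow.ext (P.3 Q.2 hPQ)
  have htr : MulAction.IsPretransitive W Ω := by
    rw [MulAction.isPretransitive_iff_base P]
    intro Q
    obtain ⟨g, hg⟩ := MulAction.exists_smul_eq G P Q
    have htop := Sylow.normalizer_sup_eq_top' P hPG1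
    have hgmem : g ∈ G1 ⊔ Subgroup.normalizer ((P : Subgroup G) : Set G) := by
      rw [sup_comm]
      exact htop.ge (Subgroup.mem_top g)
    obtain ⟨k, hk, n, hn, rfl⟩ := Subgroup.mem_sup_of_normal_left.1 hgmem
    refine ⟨⟨ρ k, ⟨k, hk⟩, rfl⟩, ?_⟩
    rw [← hg, mul_smul, Sylow.smul_eq_iff_mem_normalizer.2 hn]
    rfl
  have hst : MulAction.stabilizer W P = Subgroup.normalizer ((P' : Subgroup W) : Set W) := by
    apply le_antisymm
    · intro w hw
      obtain ⟨g, hg⟩ := w.2
      have hgN : (g : G) ∈ Subgroup.normalizer ((P : Subgroup G) : Set G) := by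
        refine Sylow.smul_eq_iff_mem_normalizer.1 ?_
        have : (w : Equiv.Perm Ω) P = P := hw
        rw [← hg] at this
        exact this
      refine Subgroup.mem_normalizer_fintype fun u hu => ?_
      obtain ⟨q, hq, huq⟩ := (hP' u).1 hu
      refine (hP' _).2 ⟨g * q * (g : G)⁻¹, (Subgroup.mem_normalizer_iff.1 hgN q).1 hq, ?_⟩
      rw [Subgroup.coe_mul, Subgroup.coe_mul, Subgroup.coe_inv, huq, ← hg, map_mul, map_mul, map_inv]
      rfl
    · intro w hw
      refine honly (w • P) fun u hu => ?_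
      show u • w • P = w • P
      have h' : w⁻¹ * u * w ∈ (P' : Subgroup W) := (Subgroup.mem_normalizer_iff''.1 hw u).1 hu
      have h'' : (w⁻¹ * u * w) • P = P := hfix h'
      rw [mul_smul, mul_smul, inv_smul_eq_iff] at h''
      exact h''
  have : Nontrivial Ω := Fintype.one_lt_card_iff_nontrivial.1 (by omega)
  have hprim : MulAction.IsPreprimitive W Ω := by
    rw [← MulAction.isCoatom_stabilizer_iff_preprimitive W P, hst]
    refine isCoatom_normalizer P' ?_
    rw [← hst, MulAction.index_stabilizer_of_transitive, Nat.card_eq_fintype_card, hΩ]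
  exact HallSylow.false_of_deg W hΩ hWA P' P hfix honly hst.le

end Cfsg.Agent.S4346
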