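import Cfsg.Statements.S4347
import Cfsg.Agent.EqLemmas

set_option autoImplicit false
open Cfsg

namespace Cfsg.Agent.S4347

/-- Let G be a finite group and p a prime. Say a Sylow p-subgroup Q is redundant when every element of p-power order lies in some Sylow p-subgroup other than Q. Then G has no redundant Sylow p-subgroup if and only if some element of p-power order lies in exactly one Sylow p-subgroup. -/
theorem result {G : Type*} [Group G] [Finite G]
    (p : ℕ) [Fact p.Prime] :
    (¬ ∃ Q : Sylow p G, ∀ x : G, (∃ k : ℕ, orderOf x = p ^ k) → ∃ P : Sylow p G, P ≠ Q ∧ x ∈ P) ↔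
      ∃ x : G, (∃ k : ℕ, orderOf x = p ^ k) ∧ ∃! P : Sylow p G, x ∈ P := by
  constructor
  · intro h
    by_contra hc
    apply h
    obtain ⟨Q⟩ := (inferInstance : Nonempty (Sylow p G))
    refine ⟨Q, fun x hx => ?_⟩
    by_contra hne
    push Not at hne
    obtain ⟨k, hk⟩ := hx
    have hz : IsPGroup p (Subgroup.zpowers x) := IsPGroup.of_card (n := k) (by rw [Nat.card_zpowers, hk])
    obtain ⟨R, hR⟩ := hz.exists_le_sylow
    have hxR : x ∈ R := hR (Subgroup.mem_zpowers x)
    refine hc ⟨x, ⟨k, hk⟩, R, hxR, fun P hP => ?_⟩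
    by_cases h1 : P = Q
    · by_cases h2 : R = Q
      · rw [h1, h2]
      · exact absurd hxR (hne R h2)
    · exact absurd hP (hne P h1)
  · rintro ⟨x, hx, R, hxR, hu⟩ ⟨Q, hQ⟩
    obtain ⟨g, rfl⟩ := MulAction.exists_smul_eq G R Q
    have hord : orderOf (g * x * g⁻¹) = orderOf x := MulEquiv.orderOf_eq (MulAut.conj g) x
    obtain ⟨P, hP, hmem⟩ := hQ (g * x * g⁻¹) (by rwa [hord])
    have h1 : x ∈ ((g⁻¹ • P : Sylow p G) : Subgroup G) := by
      rw [Sylow.coe_subgroup_smul, Subgroup.mem_pointwise_smul_iff_inv_smul_mem, ← map_inv, inv_inv,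
        MulAut.smul_def, MulAut.conj_apply]
      exact hmem
    exact hP (inv_smul_eq_iff.1 (hu _ h1))

end Cfsg.Agent.S4347
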