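import Cfsg.Statements.S4348
import Cfsg.Agent.EqLemmas
import Cfsg.Agent.Lib.Cores.Basic

set_option autoImplicit false
open Cfsg

namespace Cfsg.Agent.S4348

/-- Let G be a finite group, p a prime and P a Sylow p-subgroup of G, and let O_p(G) be the largest normal p-subgroup of G. If P/O_p(G) is cyclic, then some element of p-power order of G lies in exactly one Sylow p-subgroup. -/
theorem result {G : Type*} [Group G] [Finite G]
    (p : ℕ) [Fact p.Prime] (P : Sylow p G)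
    [hn : ((Cfsg.pCore p G).subgroupOf (P : Subgroup G)).Normal]
    (hc : IsCyclic ((P : Subgroup G) ⧸ (Cfsg.pCore p G).subgroupOf (P : Subgroup G))) :
    ∃ x : G, (∃ k : ℕ, orderOf x = p ^ k) ∧ ∃! Q : Sylow p G, x ∈ Q := by
  obtain ⟨c, hc'⟩ := hc.exists_generator
  obtain ⟨a, rfl⟩ := QuotientGroup.mk_surjective c
  obtain ⟨k, hk⟩ := IsPGroup.iff_orderOf.1 P.isPGroup' a
  refine ⟨a, ⟨k, by rw [Subgroup.orderOf_coe, hk]⟩, P, a.2, fun Q hQ => ?_⟩
  have hO : Cfsg.pCore p G ≤ (Q : Subgroup G) :=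
    IsPGroup.le_sylow_of_normal (Cfsg.Agent.Cores.isPGroup_pCore p G) Q
  have hle : (P : Subgroup G) ≤ Q := by
    intro b hb
    obtain ⟨i, hi⟩ := Subgroup.mem_zpowers_iff.1 (hc' (QuotientGroup.mk ⟨b, hb⟩))
    rw [← QuotientGroup.mk_zpow, QuotientGroup.eq, Subgroup.mem_subgroupOf] at hi
    have h1 : ((a : G) ^ i)⁻¹ * b ∈ (Q : Subgroup G) := hO (by simpa using hi)
    have h2 : (a : G) ^ i ∈ (Q : Subgroup G) := zpow_mem hQ i
    simpa using mul_mem h2 h1
  exact Sylow.ext (P.3 Q.isPGroup' hle)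

end Cfsg.Agent.S4348
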