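import Cfsg.Statements.S4358
import Cfsg.Agent.EqLemmas

set_option autoImplicit false
open Cfsg

namespace Cfsg.Agent.S4358

open Matrix

section
variable {F : Type*} [Field F] {p : ℕ} [NeZero p]

/-- A monomial matrix with cyclic permutation. -/
def mon (d : Fin p → F) (t : Fin p) : Matrix (Fin p) (Fin p) F :=
  Matrix.of fun i j => if i + t = j then d i else 0

theorem mon_mul_apply (d : Fin p → F) (t : Fin p) (M : Matrix (Fin p) (Fin p) F) (i j : Fin p) :
    (mon d t * M) i j = d i * M (i + t) j := by
  rw [Matrix.mul_apply, Finset.sum_eq_single (i + t) (fun k _ hk => by simp [mon, Ne.symm hk]) (by simp)]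
  simp [mon]

theorem mul_mon_apply (M : Matrix (Fin p) (Fin p) F) (d : Fin p → F) (t : Fin p) (i j : Fin p) :
    (M * mon d t) i j = M i (j - t) * d (j - t) := by
  rw [Matrix.mul_apply, Finset.sum_eq_single (j - t) (fun k _ hk => by
    have : k + t ≠ j := fun h => hk (eq_sub_of_add_eq h)
    simp [mon, this]) (by simp)]
  simp [mon]

theorem mon_mul (d e : Fin p → F) (s t : Fin p) :
    mon d s * mon e t = mon (fun i => d i * e (i + s)) (s + t) := by
  ext i j
  rw [mon_mul_apply]
  simp only [mon, Matrix.of_apply, ← add_assoc]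
  split <;> simp

theorem mon_one : mon (fun _ => (1 : F)) (0 : Fin p) = 1 := by
  ext i j
  simp [mon, Matrix.one_apply]

theorem mon_diag (d : Fin p → F) : mon d 0 = Matrix.diagonal d := by
  ext i j
  simp [mon, Matrix.diagonal_apply]

variable (F p) in
/-- Monomial matrices with `p`-th roots of unity as entries and a cyclic permutation. -/
def monP : Subgroup (GL (Fin p) F) where
  carrier := {g | ∃ d t, (∀ i, d i ^ p = 1) ∧ (g : Matrix (Fin p) (Fin p) F) = mon d t}
  one_mem' := ⟨fun _ => 1, 0, fun _ => one_pow p, by rw [mon_one]; rfl⟩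
  mul_mem' := by
    rintro g h ⟨d, s, hd, hg⟩ ⟨e, t, he, hh⟩
    exact ⟨fun i => d i * e (i + s), s + t, fun i => by rw [mul_pow, hd, he, one_mul],
      by rw [Units.val_mul, hg, hh, mon_mul]⟩
  inv_mem' := by
    rintro g ⟨d, s, hd, hg⟩
    refine ⟨fun i => (d (i - s))⁻¹, -s, fun i => by rw [inv_pow, hd, inv_one], ?_⟩
    refine Units.inv_eq_of_mul_eq_one_left ?_
    rw [hg, mon_mul, neg_add_cancel, ← mon_one]
    congr 1
    funext i
    rw [← sub_eq_add_neg]
    refine inv_mul_cancel₀ fun h => ?_
    have := hd (i - s)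
    rw [h, zero_pow (NeZero.ne p)] at this
    exact zero_ne_one this

theorem mem_monP {g : GL (Fin p) F} :
    g ∈ monP F p ↔ ∃ d t, (∀ i, d i ^ p = 1) ∧ (g : Matrix (Fin p) (Fin p) F) = mon d t := Iff.rfl

theorem ne_zero_of_pow {z : F} (h : z ^ p = 1) : z ≠ 0 := fun h0 => by
  rw [h0, zero_pow (NeZero.ne p)] at h
  exact zero_ne_one h

/-- Sum along the powers: an eigenvector for the eigenvalue one. -/
theorem exists_fixed_vector [Fact p.Prime] {d : Fin p → F} {t : Fin p} (ht : t ≠ 0)
    (hd : ∀ i, d i ^ p = 1) (hp1 : mon d t ^ p = 1) :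
    ∃ e : Fin p → F, (∀ r, e r ≠ 0) ∧ ∀ r, d r * e (r + t) = e r := by
  classical
  have hpow : ∀ m : ℕ, ∃ dm : Fin p → F, (∀ i, dm i ^ p = 1) ∧ mon d t ^ m = mon dm (m • t) := by
    intro m
    induction m with
    | zero => exact ⟨fun _ => 1, fun _ => one_pow p, by rw [pow_zero, zero_nsmul, mon_one]⟩
    | succ m ih =>
      obtain ⟨dm, hdm, e⟩ := ih
      exact ⟨fun i => dm i * d (i + m • t), fun i => by rw [mul_pow, hdm, hd, one_mul],
        by rw [pow_succ, e, mon_mul, succ_nsmul]⟩
  choose dm hdm hm using hpow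
  refine ⟨fun r => ∑ m ∈ Finset.range p, (mon d t ^ m) r 0, fun r => ?_, fun r => ?_⟩
  · have hord : addOrderOf t = p := addOrderOf_eq_prime (by
      have h : Fintype.card (Fin p) • t = 0 := card_nsmul_eq_zero
      rwa [Fintype.card_fin] at h) ht
    have hinj : Function.Injective (fun m : Fin p => (m : ℕ) • t) := by
      intro m m' h
      have h' := nsmul_eq_nsmul_iff_modEq.mp h
      rw [hord, Nat.ModEq, Nat.mod_eq_of_lt m.2, Nat.mod_eq_of_lt m'.2] at h'
      exact Fin.ext h'
    obtain ⟨m₀, hm₀⟩ := (Finite.injective_iff_surjective.mp hinj) (-r)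
    show (∑ m ∈ Finset.range p, (mon d t ^ m) r 0) ≠ 0
    rw [Finset.sum_eq_single (m₀ : ℕ)]
    · have hm₀' : (m₀ : ℕ) • t = -r := hm₀
      rw [hm, hm₀']
      simpa [mon] using ne_zero_of_pow (hdm (m₀ : ℕ) r)
    · intro m hm' hne
      rw [hm]
      have : r + m • t ≠ 0 := fun h => hne (by
        have h' : (⟨m, Finset.mem_range.mp hm'⟩ : Fin p) = m₀ := hinj (by
          show m • t = (m₀ : ℕ) • t
          rw [show (m₀ : ℕ) • t = -r from hm₀]
          exact eq_neg_of_add_eq_zero_right h)
        exact congrArg Fin.val h')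
      simp [mon, this]
    · simp
  · show d r * (∑ m ∈ Finset.range p, (mon d t ^ m) (r + t) 0) = ∑ m ∈ Finset.range p, (mon d t ^ m) r 0
    rw [Finset.mul_sum]
    have e : ∀ m, d r * (mon d t ^ m) (r + t) 0 = (mon d t ^ (m + 1)) r 0 := fun m => by
      rw [pow_succ', mon_mul_apply]
    simp only [e]
    have h1 := Finset.sum_range_succ' (fun m => (mon d t ^ m) r 0) p
    have h2 := Finset.sum_range_succ (fun m => (mon d t ^ m) r 0) p
    simp only [h2, hp1, pow_zero] at h1
    exact (add_right_cancel h1).symm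

theorem det_diag_vandermonde {e lam : Fin p → F} (he : ∀ r, e r ≠ 0) (hl : Function.Injective lam) :
    (Matrix.diagonal e * Matrix.vandermonde lam).det ≠ 0 := by
  rw [Matrix.det_mul, Matrix.det_diagonal]
  exact mul_ne_zero (Finset.prod_ne_zero_iff.mpr fun r _ => he r) (Matrix.det_vandermonde_ne_zero_iff.mpr hl)

/-- The weight `d₀` is not carried into `monP` by a weighted Vandermonde matrix. -/
theorem vandermonde_test (hp3 : 3 ≤ p) {e lam : Fin p → F} (he : ∀ r, e r ≠ 0)
    (hl : ∀ r, lam r ≠ 0) {ζ : F} (hζ : ζ ≠ 1) (hζ0 : ζ ≠ 0) (f : Fin p → F) (s : Fin p) :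
    Matrix.diagonal e * Matrix.vandermonde lam * Matrix.diagonal (fun i => if i = 0 then ζ else 1) ≠
      mon f s * (Matrix.diagonal e * Matrix.vandermonde lam) := by
  intro h
  have key : ∀ c : Fin p, e 0 * lam 0 ^ (c : ℕ) * (if c = 0 then ζ else 1) =
      f 0 * (e (0 + s) * lam (0 + s) ^ (c : ℕ)) := by
    intro c
    have h' := congrFun (congrFun h 0) c
    rw [mon_mul_apply] at h'
    simpa [Matrix.mul_diagonal, Matrix.diagonal_mul, Matrix.vandermonde_apply] using h'
  have h0 := key 0
  have h1 := key ⟨1, by omega⟩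
  have h2 := key ⟨2, by omega⟩
  rw [if_neg (fun h => by simpa using congrArg Fin.val h)] at h1 h2
  simp only [zero_add, if_true, Fin.val_zero, pow_zero, mul_one, pow_one, pow_two] at h0 h1 h2
  have e1 : lam 0 = ζ * lam s := mul_left_cancel₀ (he 0) (by linear_combination h1 - (lam s) * h0)
  have e2 : lam 0 * lam 0 = ζ * (lam s * lam s) :=
    mul_left_cancel₀ (he 0) (by linear_combination h2 - (lam s * lam s) * h0)
  rw [e1] at e2
  refine hζ (mul_right_cancel₀ (mul_ne_zero (hl s) (hl s)) (mul_left_cancel₀ hζ0 ?_))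
  linear_combination e2

end

open scoped Pointwise in
theorem other_sylow {G : Type*} [Group G] [Finite G] {p : ℕ} [Fact p.Prime] (Q : Sylow p G)
    {g d x : G} (hx : g⁻¹ * x * g ∈ Q) (hd : d ∈ Q) (hnd : g * d * g⁻¹ ∉ Q) :
    ∃ P : Sylow p G, P ≠ Q ∧ x ∈ P := by
  refine ⟨g • Q, fun h => hnd ?_, ?_⟩
  · rw [← h]
    show g * d * g⁻¹ ∈ MulAut.conj g • (Q : Subgroup G)
    exact Subgroup.smul_mem_pointwise_smul d (MulAut.conj g) _ hd
  · show x ∈ MulAut.conj g • (Q : Subgroup G)
    rw [Subgroup.mem_pointwise_smul_iff_inv_smul_mem, ← map_inv]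
    simp only [MulAut.smul_def, MulAut.conj_apply, inv_inv]
    exact hx


/-- Let p be an odd prime and F a finite field with q elements such that p divides q - 1 but p² does not. Then GL(p, F) has a Sylow p-subgroup Q such that every element of p-power order lies in some Sylow p-subgroup other than Q (a redundant Sylow p-subgroup). -/
theorem result {F : Type*} [Field F] [Fintype F] (p : ℕ) [Fact p.Prime]
    (hp : p ≠ 2) (h1 : p ∣ Fintype.card F - 1) (h2 : ¬ p ^ 2 ∣ Fintype.card F - 1) :
    ∃ Q : Sylow p (Matrix.GeneralLinearGroup (Fin p) F), ∀ x : Matrix.GeneralLinearGroup (Fin p) F,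
      (∃ k : ℕ, orderOf x = p ^ k) → ∃ P : Sylow p (Matrix.GeneralLinearGroup (Fin p) F), P ≠ Q ∧ x ∈ P := by
  classical
  have hpp : p.Prime := Fact.out
  have hp3 : 3 ≤ p := by have := hpp.two_le; omega
  haveI : NeZero p := ⟨hpp.ne_zero⟩
  have hcardU : Nat.card Fˣ = Fintype.card F - 1 := by rw [Nat.card_eq_fintype_card, Fintype.card_units]
  obtain ⟨ζu, hζu⟩ := exists_prime_orderOf_dvd_card' (G := Fˣ) p (hcardU ▸ h1)
  have hprim : IsPrimitiveRoot (ζu : F) p := by
    rw [IsPrimitiveRoot.coe_units_iff]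
    exact hζu ▸ IsPrimitiveRoot.orderOf ζu
  set ζ : F := (ζu : F)
  have hζp : ζ ^ p = 1 := hprim.pow_eq_one
  have hζ1 : ζ ≠ 1 := hprim.ne_one hpp.one_lt
  have hζ0 : ζ ≠ 0 := ζu.ne_zero
  -- the order of the group
  have hfac : (Nat.card (GL (Fin p) F)).factorization p = p + 1 := by
    rw [card_GL_field]
    set q := Fintype.card F with hq
    have hq1 : 1 < q := Fintype.one_lt_card
    have hterm : ∀ i : Fin p, q ^ p - q ^ (i : ℕ) = q ^ (i : ℕ) * (q ^ (p - (i : ℕ)) - 1) := by
      intro i
      rw [Nat.mul_sub, ← pow_add, Nat.add_sub_cancel' i.2.le, mul_one]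
    have hne : ∀ i : Fin p, q ^ p - q ^ (i : ℕ) ≠ 0 := fun i =>
      (Nat.sub_pos_of_lt (Nat.pow_lt_pow_right hq1 i.2)).ne'
    rw [Nat.factorization_prod_apply (fun i _ => hne i)]
    have hpq : ¬ p ∣ q := by
      intro h
      have := Nat.dvd_sub h h1
      rw [Nat.sub_sub_self hq1.le] at this
      exact hpp.ne_one (Nat.dvd_one.mp this)
    have hv1 : padicValNat p (q - 1) = 1 := by
      have e1 : 1 ≤ padicValNat p (q - 1) := one_le_padicValNat_of_dvd (by omega) h1
      by_contra hne1
      exact h2 ((pow_dvd_pow p (show 2 ≤ padicValNat p (q - 1) by omega)).trans pow_padicValNat_dvd)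
    have hv : ∀ i : Fin p, (q ^ p - q ^ (i : ℕ)).factorization p = 1 + if i = 0 then 1 else 0 := by
      intro i
      have hn0 : p - (i : ℕ) ≠ 0 := by omega
      have hne' : q ^ (p - (i : ℕ)) - 1 ≠ 0 := (Nat.sub_pos_of_lt (Nat.one_lt_pow hn0 hq1)).ne'
      have hlte := padicValNat.pow_sub_pow (p := p) (hpp.odd_of_ne_two hp) hq1 h1 hpq hn0
      rw [one_pow] at hlte
      rw [hterm, Nat.factorization_mul (pow_ne_zero _ (by omega)) hne', Finsupp.coe_add, Pi.add_apply,
        Nat.factorization_pow, Finsupp.smul_apply, Nat.factorization_eq_zero_of_not_dvd hpq, smul_zero, zero_add,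
        Nat.factorization_def _ hpp, hlte, hv1]
      congr 1
      by_cases hi : i = 0
      · subst hi; simp
      · rw [if_neg hi]
        refine padicValNat.eq_zero_of_not_dvd fun h => ?_
        have := Nat.le_of_dvd (by omega) h
        have : (i : ℕ) ≠ 0 := fun h => hi (Fin.ext h)
        omega
    rw [Finset.sum_congr rfl fun i _ => hv i, Finset.sum_add_distrib]
    simp
  have hμ : Nat.card (rootsOfUnity p F) = p := by
    exact hprim.card_rootsOfUnity
  let toGL : (Fin p → rootsOfUnity p F) × Fin p → monP F p := fun x =>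
    ⟨GeneralLinearGroup.mkOfDetNeZero (mon (fun i => ((x.1 i : Fˣ) : F)) x.2) (by
      have hdet : mon (fun i => ((x.1 i : Fˣ) : F)) x.2 *
          mon (fun i => (((x.1 (i - x.2))⁻¹ : rootsOfUnity p F) : Fˣ).val) (-x.2) = 1 := by
        rw [mon_mul, add_neg_cancel, ← mon_one]
        congr 1
        funext i
        rw [add_sub_cancel_right, InvMemClass.coe_inv, Units.mul_inv]
      exact (Matrix.isUnit_det_of_right_inverse hdet).ne_zero),
      _, x.2, fun i => by
        have := (x.1 i).2
        rw [mem_rootsOfUnity] at this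
        rw [← Units.val_pow_eq_pow_val, this, Units.val_one], rfl⟩
  have hbij : Function.Bijective toGL := by
    constructor
    · rintro ⟨d, s⟩ ⟨e, t⟩ h
      have h' : mon (fun i => ((d i : Fˣ) : F)) s = mon (fun i => ((e i : Fˣ) : F)) t :=
        congrArg (fun g : monP F p => ((g : GL (Fin p) F) : Matrix (Fin p) (Fin p) F)) h
      have hst : s = t := by
        by_contra hne
        have := congrFun (congrFun h' 0) (0 + s)
        simp [mon, Ne.symm hne] at this
      subst hst
      refine Prod.ext (funext fun i => Subtype.ext (Units.ext ?_)) rfl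
      simpa [mon] using congrFun (congrFun h' i) (i + s)
    · rintro ⟨g, d, t, hd, hg⟩
      refine ⟨(fun i => rootsOfUnity.mkOfPowEq (d i) (hd i), t), Subtype.ext (Units.ext ?_)⟩
      show mon _ t = (g : Matrix (Fin p) (Fin p) F)
      rw [hg]; rfl
  have hcardQ : Nat.card (monP F p) = p ^ (Nat.card (GL (Fin p) F)).factorization p := by
    rw [hfac, ← Nat.card_congr (Equiv.ofBijective _ hbij), Nat.card_prod, Nat.card_pi, Nat.card_fin,
      Finset.prod_const, Finset.card_univ, Fintype.card_fin, hμ, pow_succ]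
  refine ⟨Sylow.ofCard (monP F p) hcardQ, fun x hx => ?_⟩
  set Q := Sylow.ofCard (monP F p) hcardQ
  by_cases hxQ : x ∈ Q
  swap
  · obtain ⟨k, hk⟩ := hx
    obtain ⟨P, hP⟩ := (IsPGroup.of_card (p := p) (n := k) (G := Subgroup.zpowers x)
      (by rw [Nat.card_zpowers, hk])).exists_le_sylow
    exact ⟨P, fun h => hxQ (h ▸ hP (Subgroup.mem_zpowers x)), hP (Subgroup.mem_zpowers x)⟩
  obtain ⟨d, t, hd, hxe⟩ := mem_monP.mp hxQ
  -- the test element
  let d₀v : Fin p → F := fun i => if i = 0 then ζ else 1
  have hd₀p : ∀ i, d₀v i ^ p = 1 := fun i => by simp only [d₀v]; split <;> simp [hζp]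
  let d₀ : GL (Fin p) F := GeneralLinearGroup.mkOfDetNeZero (Matrix.diagonal d₀v) (by
    rw [Matrix.det_diagonal]
    exact Finset.prod_ne_zero_iff.mpr fun i _ => ne_zero_of_pow (hd₀p i))
  have hd₀ : d₀ ∈ Q := ⟨d₀v, 0, hd₀p, by rw [mon_diag]; rfl⟩
  have hd₀' : (d₀ : Matrix (Fin p) (Fin p) F) = Matrix.diagonal d₀v := rfl
  have notmem : ∀ g : GL (Fin p) F, (∀ (f : Fin p → F) (s : Fin p), (∀ i, f i ^ p = 1) →
      (g : Matrix (Fin p) (Fin p) F) * Matrix.diagonal d₀v ≠ mon f s * g) → g * d₀ * g⁻¹ ∉ Q := by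
    intro g hg hmem
    obtain ⟨f, s, hf, he⟩ := mem_monP.mp hmem
    refine hg f s hf ?_
    rw [← hd₀', ← he, ← Units.val_mul, ← Units.val_mul, inv_mul_cancel_right]
  have conjmem : ∀ (g : GL (Fin p) F) (f : Fin p → F) (s : Fin p), (∀ i, f i ^ p = 1) →
      (x : Matrix (Fin p) (Fin p) F) * g = (g : Matrix (Fin p) (Fin p) F) * mon f s → g⁻¹ * x * g ∈ Q := by
    intro g f s hf he
    refine ⟨f, s, hf, ?_⟩
    rw [mul_assoc, Units.val_mul, Units.val_mul, he, ← mul_assoc, Units.inv_mul, one_mul]
  by_cases ht : t = 0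
  · subst ht
    rw [mon_diag] at hxe
    by_cases hinj : Function.Injective d
    · -- regular diagonal: conjugate to the cyclic permutation
      let g : GL (Fin p) F := GeneralLinearGroup.mkOfDetNeZero
        (Matrix.diagonal (fun _ => (1 : F)) * Matrix.vandermonde d) (det_diag_vandermonde (fun _ => one_ne_zero) hinj)
      refine other_sylow Q (g := g) (conjmem g (fun _ => 1) (-⟨1, by omega⟩) (fun _ => one_pow p) ?_) hd₀
        (notmem g fun f s _ => vandermonde_test hp3 (fun _ => one_ne_zero) (fun r => ne_zero_of_pow (hd r)) hζ1 hζ0 f s)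
      show (x : Matrix (Fin p) (Fin p) F) * (Matrix.diagonal (fun _ => (1 : F)) * Matrix.vandermonde d) = _
      rw [hxe]
      ext i j
      show (Matrix.diagonal d * (Matrix.diagonal (fun _ : Fin p => (1 : F)) * Matrix.vandermonde d)) i j =
        (Matrix.diagonal (fun _ : Fin p => (1 : F)) * Matrix.vandermonde d *
          mon (fun _ : Fin p => (1 : F)) (-(⟨1, by omega⟩ : Fin p))) i j
      rw [mul_mon_apply, Matrix.diagonal_one, one_mul, Matrix.diagonal_mul, Matrix.vandermonde_apply,
        Matrix.vandermonde_apply, mul_one, sub_neg_eq_add, Fin.val_add, ← pow_succ']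
      show d i ^ ((j : ℕ) + 1) = d i ^ (((j : ℕ) + 1) % p)
      exact pow_eq_pow_mod _ (hd i)
    · -- repeated eigenvalue: a transvection
      rw [Function.Injective] at hinj
      push Not at hinj
      obtain ⟨a, b, hab, hne⟩ := hinj
      obtain ⟨i, j, hij, hdij, hj0⟩ : ∃ i j, i ≠ j ∧ d i = d j ∧ j ≠ 0 := by
        rcases eq_or_ne b 0 with rfl | hb
        · exact ⟨0, a, Ne.symm hne, hab.symm, hne⟩
        · exact ⟨a, b, hne, hab, hb⟩
      -- move the weight to the row `i`
      let dv : Fin p → F := fun r => if r = i then ζ else 1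
      have hdvp : ∀ r, dv r ^ p = 1 := fun r => by simp only [dv]; split <;> simp [hζp]
      let di : GL (Fin p) F := GeneralLinearGroup.mkOfDetNeZero (Matrix.diagonal dv) (by
        rw [Matrix.det_diagonal]
        exact Finset.prod_ne_zero_iff.mpr fun r _ => ne_zero_of_pow (hdvp r))
      have hdi : di ∈ Q := ⟨dv, 0, hdvp, by rw [mon_diag]; rfl⟩
      let g : GL (Fin p) F := GeneralLinearGroup.mkOfDetNeZero (Matrix.transvection i j (1 : F))
        (by rw [Matrix.det_transvection_of_ne i j hij]; exact one_ne_zero)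
      refine other_sylow Q (g := g) (conjmem g d 0 hd ?_) hdi ?_
      · rw [mon_diag, hxe]
        show Matrix.diagonal d * Matrix.transvection i j (1 : F) = Matrix.transvection i j (1 : F) * Matrix.diagonal d
        ext r c
        rw [Matrix.diagonal_mul, Matrix.mul_diagonal, mul_comm]
        by_cases hrc : r = c
        · rw [hrc]
        · by_cases h' : r = i ∧ c = j
          · rw [h'.1, h'.2, hdij]
          · have : Matrix.transvection i j (1 : F) r c = 0 := by
              simp [Matrix.transvection, Matrix.single_apply, hrc, show ¬ (i = r ∧ j = c) from fun h => h' ⟨h.1.symm, h.2.symm⟩]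
            simp [this]
      · intro hmem
        obtain ⟨f, s, hf, he⟩ := mem_monP.mp hmem
        have he' : Matrix.transvection i j (1 : F) * Matrix.diagonal dv = mon f s * Matrix.transvection i j (1 : F) := by
          show (g : Matrix (Fin p) (Fin p) F) * (di : Matrix (Fin p) (Fin p) F) = mon f s * (g : Matrix (Fin p) (Fin p) F)
          rw [← he, ← Units.val_mul, ← Units.val_mul, inv_mul_cancel_right]
        have hii := congrFun (congrFun he' i) i
        have hij' := congrFun (congrFun he' i) j
        rw [Matrix.mul_diagonal, mon_mul_apply] at hii hij'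
        by_cases hs : s = 0
        · subst hs
          simp [Matrix.transvection, Matrix.single_apply, hij, hij.symm, dv] at hii hij'
          exact hζ1 (hii.trans hij'.symm)
        · have hne1 : i + s ≠ i := fun h => hs (by simpa using h)
          simp [Matrix.transvection, Matrix.single_apply, hij.symm, hne1, Ne.symm hne1, dv, hζ0] at hii
  · -- a monomial element permuting cyclically
    have hord : p • t = 0 := by
      have h : Fintype.card (Fin p) • t = 0 := card_nsmul_eq_zero
      rwa [Fintype.card_fin] at h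
    obtain ⟨c, hc, hcp⟩ : ∃ c : F, (x : Matrix (Fin p) (Fin p) F) ^ p = Matrix.scalar (Fin p) c ∧ c ^ p = 1 := by
      have hpow : ∀ m : ℕ, mon d t ^ m = mon (fun i => ∏ l ∈ Finset.range m, d (i + l • t)) (m • t) := by
        intro m
        induction m with
        | zero => simp [mon_one]
        | succ m ih =>
          rw [pow_succ, ih, mon_mul, succ_nsmul]
          simp only [Finset.prod_range_succ]
      refine ⟨∏ i, d i, ?_, by rw [← Finset.prod_pow]; exact Finset.prod_eq_one fun i _ => hd i⟩
      rw [hxe, hpow, hord, mon_diag]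
      show _ = Matrix.diagonal fun _ => ∏ i, d i
      congr 1
      funext i
      have hordt : addOrderOf t = p := addOrderOf_eq_prime hord ht
      have hinj : Function.Injective fun l : Fin p => i + (l : ℕ) • t := by
        intro m m' h
        have h' := nsmul_eq_nsmul_iff_modEq.mp (add_left_cancel h)
        rw [hordt, Nat.ModEq, Nat.mod_eq_of_lt m.2, Nat.mod_eq_of_lt m'.2] at h'
        exact Fin.ext h'
      rw [← Fin.prod_univ_eq_prod_range (fun l => d (i + l • t)) p]
      exact (Finite.injective_iff_bijective.mp hinj).prod_comp d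
    by_cases hc1 : c = 1
    · -- conjugate to a regular diagonal element
      subst hc1
      rw [map_one, hxe] at hc
      obtain ⟨e, he0, hee⟩ := exists_fixed_vector ht hd hc
      let lam : Fin p → F := fun r => ζ ^ (r : ℕ)
      have hlam : Function.Injective lam := fun r r' h => Fin.ext (hprim.pow_inj r.2 r'.2 h)
      let g : GL (Fin p) F := GeneralLinearGroup.mkOfDetNeZero
        (Matrix.diagonal e * Matrix.vandermonde lam) (det_diag_vandermonde he0 hlam)
      refine other_sylow Q (g := g) (conjmem g (fun c => (ζ ^ (t : ℕ)) ^ (c : ℕ)) 0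
        (fun c => by rw [← pow_mul, ← pow_mul, ← mul_assoc, mul_comm ((t : ℕ) * (c : ℕ)) p, pow_mul, hζp, one_pow]) ?_) hd₀
        (notmem g fun f s _ => vandermonde_test hp3 he0 (fun r => pow_ne_zero _ hζ0) hζ1 hζ0 f s)
      show (x : Matrix (Fin p) (Fin p) F) * (Matrix.diagonal e * Matrix.vandermonde lam) = _
      rw [hxe, mon_diag]
      ext r k
      show (mon d t * (Matrix.diagonal e * Matrix.vandermonde lam)) r k =
        (Matrix.diagonal e * Matrix.vandermonde lam * Matrix.diagonal fun c : Fin p => (ζ ^ (t : ℕ)) ^ (c : ℕ)) r k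
      rw [mon_mul_apply, Matrix.mul_diagonal, Matrix.diagonal_mul, Matrix.diagonal_mul,
        Matrix.vandermonde_apply, Matrix.vandermonde_apply, ← mul_assoc, hee, mul_assoc, ← mul_pow]
      simp only [lam, Fin.val_add, ← pow_add]
      rw [← pow_eq_pow_mod _ hζp]
    · -- otherwise `1 + x` centralises `x` and moves the weight
      have hc1' : 1 + c ≠ 0 := by
        intro h
        have hcm : c = -1 := eq_neg_of_add_eq_zero_right h
        rw [hcm, (hpp.odd_of_ne_two hp).neg_one_pow] at hcp
        exact hc1 (hcm.trans hcp)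
      have hgeom : (1 + (x : Matrix (Fin p) (Fin p) F)) *
          (∑ m ∈ Finset.range p, (-(x : Matrix (Fin p) (Fin p) F)) ^ m) = Matrix.scalar (Fin p) (1 + c) := by
        have := mul_neg_geom_sum (-(x : Matrix (Fin p) (Fin p) F)) p
        rw [sub_neg_eq_add, (hpp.odd_of_ne_two hp).neg_pow, sub_neg_eq_add, hc] at this
        rw [this, map_add, map_one]
      let g : GL (Fin p) F := GeneralLinearGroup.mkOfDetNeZero (1 + (x : Matrix (Fin p) (Fin p) F)) (by
        intro h0
        have := congrArg Matrix.det hgeom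
        rw [Matrix.det_mul, h0, zero_mul, Matrix.scalar_apply, Matrix.det_diagonal, Finset.prod_const] at this
        exact pow_ne_zero _ hc1' this.symm)
      refine other_sylow Q (g := g) (conjmem g d t hd ?_) hd₀ (notmem g fun f s _ h => ?_)
      · show (x : Matrix (Fin p) (Fin p) F) * (1 + x) = (1 + (x : Matrix (Fin p) (Fin p) F)) * mon d t
        rw [hxe, mul_add, add_mul, mul_one, one_mul]
      · change (1 + (x : Matrix (Fin p) (Fin p) F)) * Matrix.diagonal d₀v = mon f s * (1 + x) at h
        rw [hxe] at h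
        have hrr := congrFun (congrFun h 0) 0
        have hrt := congrFun (congrFun h 0) t
        rw [Matrix.mul_diagonal, mon_mul_apply] at hrr hrt
        have ht2 : t + t ≠ 0 := by
          intro h2
          have hordt : addOrderOf t = p := addOrderOf_eq_prime hord ht
          have := Nat.le_of_dvd two_pos (hordt ▸ addOrderOf_dvd_of_nsmul_eq_zero (by rw [two_nsmul, h2]))
          omega
        simp only [Matrix.add_apply, mon, Matrix.of_apply, Matrix.one_apply, d₀v, zero_add, if_true, if_neg ht,
          if_neg (Ne.symm ht)] at hrr hrt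
        have hdne : d 0 ≠ 0 := ne_zero_of_pow (hd 0)
        by_cases hs : s = 0
        · subst hs
          simp [ht, Ne.symm ht, hdne] at hrr hrt
          exact hζ1 (hrr.trans hrt)
        · by_cases hst : s + t = 0
          · have hs' : s ≠ t := fun e => ht2 (by rw [← e] at hst ⊢; exact hst)
            have hs'' : s + t ≠ t := fun e => hs (by simpa using e)
            simp [hs, hs', hs'', ht, Ne.symm ht, hdne] at hrt
          · simp [hs, hst, ht, Ne.symm ht, hζ0] at hrr

end Cfsg.Agent.S4358
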