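import Cfsg.Statements.S4359
import Cfsg.Agent.EqLemmas
import Cfsg.Agent.Lib.SimsChain.Basic

set_option autoImplicit false
open Pointwise
open Cfsg

namespace Cfsg.Agent.S4359

variable {G : Type*} [Group G]

/-- The intersection of `P, σ⁻¹ P, …, σ⁻ᵏ P`. -/
def core (σ : MulAut G) (P : Subgroup G) (k : ℕ) : Subgroup G where
  carrier := {x | ∀ l : ℕ, l ≤ k → (σ ^ l) x ∈ P}
  mul_mem' := fun {x y} hx hy l hl => by rw [map_mul]; exact P.mul_mem (hx l hl) (hy l hl)
  one_mem' := fun l _ => by rw [map_one]; exact P.one_mem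
  inv_mem' := fun {x} hx l hl => by rw [map_inv]; exact P.inv_mem (hx l hl)

theorem mem_core {σ : MulAut G} {P : Subgroup G} {k : ℕ} {x : G} :
    x ∈ core σ P k ↔ ∀ l : ℕ, l ≤ k → (σ ^ l) x ∈ P := Iff.rfl

theorem core_step [Finite G] {σ : MulAut G} {P : Subgroup G} {p : ℕ}
    (hN : ((P ⊓ σ • P).subgroupOf (σ • P)).Normal) (hidx : (P ⊓ σ • P).relIndex (σ • P) = p) (k : ℕ) :
    ((core σ P (k + 1)).subgroupOf (core σ P k)).Normal ∧ (core σ P (k + 1)).relIndex (core σ P k) ∣ p := by
  have hmem : ∀ x : core σ P k, (σ ^ (k + 1)) (x : G) ∈ σ • P := fun x => by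
    rw [pow_succ', MulAut.mul_apply]
    exact Subgroup.smul_mem_pointwise_smul _ _ _ (x.2 k le_rfl)
  let f : core σ P k →* (↥(σ • P) ⧸ (P ⊓ σ • P).subgroupOf (σ • P)) :=
    (QuotientGroup.mk' _).comp
      { toFun := fun x => ⟨(σ ^ (k + 1)) (x : G), hmem x⟩
        map_one' := Subtype.ext (map_one _)
        map_mul' := fun x y => Subtype.ext (map_mul _ _ _) }
  have hker : f.ker = (core σ P (k + 1)).subgroupOf (core σ P k) := by
    ext x
    rw [MonoidHom.mem_ker, MonoidHom.comp_apply, QuotientGroup.mk'_apply, QuotientGroup.eq_one_iff,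
      Subgroup.mem_subgroupOf, Subgroup.mem_subgroupOf, Subgroup.mem_inf, mem_core]
    refine ⟨fun h l hl => ?_, fun h => ⟨h (k + 1) le_rfl, hmem x⟩⟩
    rcases Nat.lt_or_ge l (k + 1) with h' | h'
    · exact x.2 l (by omega)
    · rw [show l = k + 1 by omega]; exact h.1
  refine ⟨hker ▸ inferInstance, ?_⟩
  rw [Subgroup.relIndex, ← hker, Subgroup.index_ker, ← hidx, Subgroup.relIndex, Subgroup.index]
  exact Subgroup.card_subgroup_dvd_card _

/-- Let P be a subgroup of a finite group G and g an element such that P ∩ g⁻¹Pg is a normal subgroup of prime index p in g⁻¹Pg. Let n ≥ 1 and let K be the subgroup generated by P and its conjugates g⁻ⁱPgⁱ for i ≤ n. Suppose that g normalizes no non-identity normal subgroup of P and that P meets the center of K trivially. Then the order of P is pᵗ for some t with 1 ≤ t ≤ 3n and t ≠ 3n - 1. -/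
theorem result {G : Type*} [Group G] [Finite G]
    (P : Subgroup G) (g : G) (p : ℕ) (hp : p.Prime)
    (hN : ((P ⊓ MulAut.conj g⁻¹ • P).subgroupOf (MulAut.conj g⁻¹ • P)).Normal)
    (hidx : (P ⊓ MulAut.conj g⁻¹ • P).relIndex (MulAut.conj g⁻¹ • P) = p)
    (n : ℕ) (hn : 1 ≤ n) (K : Subgroup G) (hK : K = ⨆ i ∈ Finset.range (n + 1), MulAut.conj (g ^ i)⁻¹ • P)
    (h1 : ∀ Q : Subgroup G, Q ≤ P → (Q.subgroupOf P).Normal → MulAut.conj g • Q = Q → Q = ⊥)
    (h2 : P ⊓ (Subgroup.center K).map K.subtype = ⊥) :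
    ∃ t : ℕ, Nat.card P = p ^ t ∧ 1 ≤ t ∧ t ≤ 3 * n ∧ t ≠ 3 * n - 1 := by
  classical
  set σ : MulAut G := MulAut.conj g⁻¹ with hσ
  have hstep := core_step hN hidx
  have hmono : ∀ k, core σ P (k + 1) ≤ core σ P k := fun k x hx l hl => hx l (by omega)
  have hex : ∃ k, core σ P (k + 1) = core σ P k := by
    by_contra hc
    push Not at hc
    have : ∀ k, Nat.card (core σ P k) + k ≤ Nat.card (core σ P 0) := by
      intro k
      induction k with
      | zero => rfl
      | succ k ih =>
        have hle := Nat.le_of_dvd Nat.card_pos (Subgroup.card_dvd_of_le (hmono k))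
        have hne : Nat.card (core σ P (k + 1)) ≠ Nat.card (core σ P k) :=
          fun e => hc k (Subgroup.eq_of_le_of_card_ge (hmono k) e.ge)
        omega
    have h' := this (Nat.card (core σ P 0))
    have : 0 < Nat.card (core σ P (Nat.card (core σ P 0))) := Nat.card_pos
    omega
  set t := Nat.find hex with ht
  have htspec : core σ P (t + 1) = core σ P t := Nat.find_spec hex
  have hidxp : ∀ k, k < t → (core σ P (k + 1)).relIndex (core σ P k) = p := fun k hk =>
    ((Nat.dvd_prime hp).mp (hstep k).2).resolve_left fun e =>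
      Nat.find_min hex hk (le_antisymm (hmono k) (Subgroup.relIndex_eq_one.mp e))
  have hcard : ∀ j, j ≤ t → Nat.card (core σ P (t - j)) = Nat.card (core σ P t) * p ^ j := by
    intro j hj
    induction j with
    | zero => simp
    | succ j ih =>
      have h' := hidxp (t - (j + 1)) (by omega)
      rw [show t - (j + 1) + 1 = t - j by omega] at h'
      have hle := hmono (t - (j + 1))
      rw [show t - (j + 1) + 1 = t - j by omega] at hle
      have := ((core σ P (t - j)).subgroupOf (core σ P (t - (j + 1)))).index_mul_card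
      rw [Nat.card_congr (Subgroup.subgroupOfEquivOfLe hle).toEquiv, ih (by omega)] at this
      rw [← this, show ((core σ P (t - j)).subgroupOf (core σ P (t - (j + 1)))).index = p from h', pow_succ']
      ring
  have h0 : core σ P 0 = P := by
    ext x
    exact ⟨fun h => by simpa using h 0 le_rfl, fun h l hl => by simpa [Nat.le_zero.mp hl] using h⟩
  -- the stable term is invariant
  have hσN : σ • core σ P t = core σ P t := by
    refine Subgroup.eq_of_le_of_card_ge ?_ (le_of_eq (Nat.card_congr (Subgroup.equivSMul σ _).toEquiv))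
    rintro _ ⟨x, hx, rfl⟩ l hl
    show (σ ^ l) (σ x) ∈ P
    rw [← MulAut.mul_apply, ← pow_succ]
    exact (htspec.ge hx) (l + 1) (by omega)
  have ht1 : 1 ≤ t := by
    by_contra hlt
    obtain ht0 : t = 0 := by omega
    have hle : σ • P ≤ P ⊓ σ • P := by
      refine le_inf ?_ le_rfl
      rintro _ ⟨x, hx, rfl⟩
      have hx' : x ∈ core σ P (t + 1) := by rw [htspec, ht0, h0]; exact hx
      show σ x ∈ P
      simpa using hx' 1 (by omega)
    rw [Subgroup.relIndex_eq_one.mpr hle] at hidx
    exact hp.ne_one hidx.symm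
  obtain ⟨x₀, hx₀, hx₀'⟩ : ∃ x ∈ core σ P (t - 1), x ∉ core σ P t := by
    by_contra hc
    push Not at hc
    refine Nat.find_min hex (show t - 1 < t by omega) (le_antisymm (hmono _) ?_)
    rw [show t - 1 + 1 = t by omega]
    exact hc
  set x : ℤ → G := fun i => (σ ^ i) x₀ with hxdef
  have hxnat : ∀ j : ℕ, x j = (σ ^ j) x₀ := fun j => by simp [hxdef]
  have hgen : ∀ k, k ≤ t → core σ P (t - k) ≤ core σ P t ⊔ SimsChain.W x 0 k := by
    intro k hk
    induction k with
    | zero => simp
    | succ k ih =>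
      set E := core σ P (t - (k + 1))
      set F := core σ P (t - k)
      have hFE : F ≤ E := by
        have h' := hmono (t - (k + 1))
        rwa [show t - (k + 1) + 1 = t - k by omega] at h'
      have hxE : x k ∈ E := fun l hl => by
        rw [hxnat, ← MulAut.mul_apply, ← pow_add]
        exact hx₀ _ (by omega)
      have hxF : x k ∉ F := fun h' => hx₀' fun l hl => by
        rcases Nat.lt_or_ge l t with h'' | h''
        · exact hx₀ l (by omega)
        · have h3 := h' (t - k) le_rfl
          rwa [hxnat, ← MulAut.mul_apply, ← pow_add, show t - k + k = l by omega] at h3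
      set L := F ⊔ Subgroup.zpowers (x (k : ℤ))
      have hLE : L ≤ E := sup_le hFE (Subgroup.zpowers_le.mpr hxE)
      have hLeq : L = E := by
        have hd : L.relIndex E ∣ p := by
          have h' := Subgroup.relIndex_mul_relIndex F L E le_sup_left hLE
          have h'' := hidxp (t - (k + 1)) (by omega)
          rw [show t - (k + 1) + 1 = t - k by omega] at h''
          exact Dvd.intro_left _ (h'.trans h'')
        rcases (Nat.dvd_prime hp).mp hd with e | e
        · exact le_antisymm hLE (Subgroup.relIndex_eq_one.mp e)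
        · exfalso
          have h' := Subgroup.relIndex_mul_relIndex F L E le_sup_left hLE
          have h'' := hidxp (t - (k + 1)) (by omega)
          rw [show t - (k + 1) + 1 = t - k by omega] at h''
          rw [e, h''] at h'
          have : F.relIndex L = 1 := Nat.eq_of_mul_eq_mul_right hp.pos (by rw [h', one_mul])
          exact hxF (Subgroup.relIndex_eq_one.mp this (Subgroup.mem_sup_right (Subgroup.mem_zpowers _)))
      rw [← hLeq]
      refine sup_le ((ih (by omega)).trans (sup_le_sup_left (SimsChain.W_mono le_rfl (by omega)) _)) ?_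
      rw [Subgroup.zpowers_le]
      exact Subgroup.mem_sup_right (SimsChain.mem_W (by omega) (by omega))
  have hzN : ∀ i : ℤ, σ ^ i • core σ P t = core σ P t := fun i =>
    MulAction.mem_stabilizer_iff.mp (Subgroup.zpow_mem _ (MulAction.mem_stabilizer_iff.mpr hσN) i)
  have hzmem : ∀ (i : ℤ) (z : G), z ∈ core σ P t → (σ ^ i) z ∈ core σ P t := fun i z hz =>
    (hzN i).le (Subgroup.smul_mem_pointwise_smul z (σ ^ i) _ hz)
  have hnorm : ∀ i : ℤ, ∀ z ∈ core σ P t, x i * z * (x i)⁻¹ ∈ core σ P t := by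
    intro i z hz
    have hz' := hzmem (-i) z hz
    have h' := (hstep (t - 1)).1.conj_mem ⟨(σ ^ (-i)) z, (fun l hl => hz' l (by omega))⟩
      (show (σ ^ (-i)) z ∈ core σ P (t - 1 + 1) from fun l hl => hz' l (by omega)) ⟨x₀, hx₀⟩
    have h'' : x₀ * (σ ^ (-i)) z * x₀⁻¹ ∈ core σ P t := fun l hl => h' l (by omega)
    have h3 := hzmem i _ h''
    rwa [map_mul, map_mul, map_inv, ← MulAut.mul_apply, ← zpow_add, add_neg_cancel, zpow_zero,
      MulAut.one_apply] at h3
  have hPle : P ≤ Subgroup.normalizer (core σ P t : Set G) := by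
    have h' := hgen t le_rfl
    rw [Nat.sub_self, h0] at h'
    refine h'.trans (sup_le Subgroup.le_normalizer ?_)
    rw [SimsChain.W, Subgroup.closure_le]
    rintro _ ⟨j, -, -, rfl⟩
    rw [SetLike.mem_coe, Subgroup.mem_normalizer_iff_map_conj_eq]
    refine Subgroup.eq_of_le_of_card_ge ?_ (le_of_eq (Subgroup.card_map_of_injective (MulAut.conj _).injective).symm)
    rintro _ ⟨z, hz, rfl⟩
    exact hnorm j z hz
  have hNP : core σ P t ≤ P := fun z hz => by simpa using hz 0 (Nat.zero_le _)
  have hbot : core σ P t = ⊥ := by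
    refine h1 _ hNP (Subgroup.normal_subgroupOf_of_le_normalizer hPle) ?_
    have h' : σ⁻¹ • core σ P t = core σ P t := inv_smul_eq_iff.mpr hσN.symm
    rwa [hσ, ← map_inv, inv_inv] at h'
  have hbotcard : ∀ j, j ≤ t → Nat.card (core σ P (t - j)) = p ^ j := fun j hj => by
    rw [hcard j hj, hbot, Subgroup.card_bot, one_mul]
  have hPcard : Nat.card P = p ^ t := by rw [← hbotcard t le_rfl, Nat.sub_self, h0]
  have hW0 : ∀ k, k ≤ t → SimsChain.W x 0 k = core σ P (t - k) := by
    intro k hk
    refine le_antisymm ?_ ((hgen k hk).trans (by rw [hbot, bot_sup_eq]))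
    rw [SimsChain.W, Subgroup.closure_le]
    rintro _ ⟨j, hj1, hj2, rfl⟩ l hl
    obtain ⟨j', rfl⟩ := Int.eq_ofNat_of_zero_le hj1
    rw [hxnat, ← MulAut.mul_apply, ← pow_add]
    exact hx₀ _ (by omega)
  have hWi : ∀ (i : ℤ) (k : ℕ), SimsChain.W x i k = σ ^ i • SimsChain.W x 0 k := by
    intro i k
    have hsh : ∀ j : ℤ, x (i + j) = (σ ^ i) (x j) := fun j => by
      show (σ ^ (i + j)) x₀ = (σ ^ i) ((σ ^ j) x₀)
      rw [zpow_add, MulAut.mul_apply]
    refine le_antisymm ?_ ?_
    · rw [SimsChain.W, Subgroup.closure_le]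
      rintro _ ⟨j, hj1, hj2, rfl⟩
      rw [show j = i + (j - i) by ring, hsh]
      exact Subgroup.smul_mem_pointwise_smul _ _ _ (SimsChain.mem_W (by omega) (by omega))
    · rw [Subgroup.pointwise_smul_subset_iff, SimsChain.W, Subgroup.closure_le]
      rintro _ ⟨j, hj1, hj2, rfl⟩
      rw [SetLike.mem_coe, Subgroup.mem_inv_pointwise_smul_iff, MulAut.smul_def, ← hsh]
      exact SimsChain.mem_W (by omega) (by omega)
  have hch : SimsChain.Chain p t x := by
    refine ⟨hp, fun i k hk => ?_, fun i d => ?_⟩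
    · rw [hWi, ← Nat.card_congr (Subgroup.equivSMul (σ ^ i) (SimsChain.W x 0 k)).toEquiv, hW0 k hk, hbotcard k hk]
    · show Commute ((σ ^ i) x₀) ((σ ^ (i + d)) x₀) ↔ Commute ((σ ^ (0 : ℤ)) x₀) ((σ ^ d) x₀)
      rw [zpow_add, MulAut.mul_apply, zpow_zero, MulAut.one_apply, commute_map_iff (σ ^ i).injective]
  refine ⟨t, hPcard, ht1, ?_⟩
  -- the centre of `K`
  have hKW : K ≤ SimsChain.W x 0 (t + n) := by
    rw [hK]
    refine iSup₂_le fun i hi => ?_
    rw [Finset.mem_range] at hi
    have e : MulAut.conj (g ^ i)⁻¹ = σ ^ i := by rw [hσ, ← map_pow, inv_pow]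
    rw [e, ← zpow_natCast]
    refine le_trans ?_ (le_trans (hWi i t).ge (SimsChain.W_mono (by omega) (by omega)))
    rw [hW0 t le_rfl, Nat.sub_self, h0]
  have hPK : P ≤ K := by
    rw [hK]
    refine le_trans ?_ (le_iSup₂ (f := fun i (_ : i ∈ Finset.range (n + 1)) => MulAut.conj (g ^ i)⁻¹ • P) 0
      (Finset.mem_range.mpr (by omega)))
    simp
  have hfar : ∀ j : ℕ, j < t → ∃ l : ℕ, l < t + n ∧ ¬ Commute (x j) (x l) := by
    intro j hj
    by_contra hc
    push Not at hc
    have hjP : x j ∈ P := by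
      have h' : x j ∈ SimsChain.W x 0 t := SimsChain.mem_W (by omega) (by omega)
      rwa [hW0 t le_rfl, Nat.sub_self, h0] at h'
    have hzc : x (j : ℤ) ∈ P ⊓ (Subgroup.center K).map K.subtype := by
      refine ⟨hjP, ⟨⟨x j, hPK hjP⟩, Subgroup.mem_center_iff.mpr fun z => Subtype.ext ?_, rfl⟩⟩
      refine (SimsChain.commute_W (fun l hl1 hl2 => ?_) (hKW z.2)).eq.symm
      obtain ⟨l', rfl⟩ := Int.eq_ofNat_of_zero_le hl1
      exact hc l' (by omega)
    rw [h2, Subgroup.mem_bot, hxnat] at hzc
    exact hx₀' (((σ ^ j).map_eq_one_iff.mp hzc) ▸ one_mem _)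
  have hex' : ∃ s : ℕ, ¬ Commute (x 0) (x s) := by
    obtain ⟨l, -, hl⟩ := hfar 0 (by omega)
    exact ⟨l, hl⟩
  set s := Nat.find hex'
  have hs : ¬ Commute (x 0) (x s) := Nat.find_spec hex'
  have hmin : ∀ d : ℕ, d < s → Commute (x 0) (x d) := fun d hd => not_not.mp (Nat.find_min hex' hd)
  have hs1 : 1 ≤ s := Nat.pos_of_ne_zero fun e => hs (by rw [e]; exact Commute.refl _)
  obtain ⟨l, hl, hlj⟩ := hfar (min (s - 1) (t - 1)) (by omega)
  set j := min (s - 1) (t - 1) with hj
  have hdist : (j : ℕ) + s ≤ l ∨ l + s ≤ j := by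
    by_contra hc
    push Not at hc
    rcases le_total j l with hle | hle
    · have h' := (hch.shift (j : ℤ) ((l - j : ℕ) : ℤ)).mpr (hmin _ (by omega))
      rw [show (j : ℤ) + ((l - j : ℕ) : ℤ) = l by omega] at h'
      exact hlj h'
    · have h' := (hch.shift (l : ℤ) ((j - l : ℕ) : ℤ)).mpr (hmin _ (by omega))
      rw [show (l : ℤ) + ((j - l : ℕ) : ℤ) = j by omega] at h'
      exact hlj h'.symm
  rcases Nat.lt_or_ge s t with hst | hst
  · have := hch.two_mul_le hs hmin hst
    omega
  · omega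

end Cfsg.Agent.S4359
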