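import Cfsg.Statements.S4365
import Cfsg.Agent.EqLemmas

set_option autoImplicit false
open Cfsg

namespace Cfsg.Agent.S4365

/-- Product of the translates of `g` under the first `p` powers of `T`. -/
noncomputable def normProd {A : Type*} [CommGroup A] (p : ℕ) [Fact p.Prime] (T : MulAut A) (g : A) : A :=
  ∏ i : ZMod p, (T ^ i.val) g

/-- Two commuting automorphisms of order dividing `p`: the norms along the `p + 1` cyclic subgroups. -/
theorem norm_identity {A : Type*} [CommGroup A] {p : ℕ} [Fact p.Prime] {U Y : MulAut A}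
    (hUY : Commute U Y) (hY : Y ^ p = 1) (g : A) :
    (∏ j : ZMod p, normProd p (U * Y ^ j.val) g) * normProd p Y g =
      g ^ p * ∏ i : ZMod p, (U ^ i.val) (normProd p Y g) := by
  classical
  have hpow : ∀ i j : ZMod p, (U * Y ^ j.val) ^ i.val = U ^ i.val * Y ^ (i * j).val := by
    intro i j
    rw [(hUY.pow_right _).mul_pow, ← pow_mul, ZMod.val_mul, ← pow_eq_pow_mod _ hY, mul_comm j.val]
  have e1 : (∏ j : ZMod p, normProd p (U * Y ^ j.val) g) =
      ∏ i : ZMod p, ∏ j : ZMod p, (U ^ i.val) ((Y ^ (i * j).val) g) := by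
    rw [Finset.prod_comm]
    simp only [normProd, hpow, MulAut.mul_apply]
  have e2 : ∀ i : ZMod p, i ≠ 0 → (∏ j : ZMod p, (U ^ i.val) ((Y ^ (i * j).val) g)) =
      (U ^ i.val) (normProd p Y g) := by
    intro i hi
    rw [normProd, map_prod]
    exact Fintype.prod_equiv (Equiv.mulLeft₀ i hi) _ _ fun j => rfl
  rw [e1, ← Finset.mul_prod_erase _ _ (Finset.mem_univ (0 : ZMod p)),
    ← Finset.mul_prod_erase _ (fun i : ZMod p => (U ^ i.val) (normProd p Y g)) (Finset.mem_univ (0 : ZMod p)),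
    Finset.prod_congr rfl fun i hi => e2 i (Finset.ne_of_mem_erase hi)]
  simp only [zero_mul, ZMod.val_zero, pow_zero, MulAut.one_apply, Finset.prod_const, Finset.card_univ, ZMod.card]
  rw [mul_assoc, mul_comm (∏ i ∈ _, (U ^ (i : ZMod p).val) (normProd p Y g))]


/-- Let P be a finite p-group whose conjugacy class sizes are exactly 1 and pᵃ for some a ≥ 1. Then every element of P has its p-th power in the center of P (P/Z(P) has exponent p). -/
theorem result {P : Type*} [Group P] [Finite P] (p : ℕ) [Fact p.Prime]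
    (hP : IsPGroup p P) (a : ℕ) (ha : 1 ≤ a)
    (hcs : {k : ℕ | ∃ x : P, (Subgroup.centralizer ({x} : Set P)).index = k} = {1, p ^ a}) (x : P) :
    x ^ p ∈ Subgroup.center P := by
  classical
  by_contra hx
  set Z := Subgroup.center P
  let C : P → Subgroup P := fun u => Subgroup.centralizer ({u} : Set P)
  have hcm : ∀ u v : P, v ∈ C u ↔ v * u = u * v := fun u v => Subgroup.mem_centralizer_singleton_iff
  have hZC : ∀ u : P, u ∈ Z → C u = ⊤ := fun u hu => (Subgroup.eq_top_iff' _).mpr fun v =>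
    (hcm u v).mpr (Subgroup.mem_center_iff.mp hu v)
  have hidx : ∀ u : P, u ∉ Z → (C u).index = p ^ a := by
    intro u hu
    have hmem : (C u).index ∈ ({1, p ^ a} : Set ℕ) := hcs ▸ ⟨u, rfl⟩
    rcases hmem with h | h
    · exact absurd (Subgroup.mem_center_iff.mpr fun v =>
        (hcm u v).mp (Subgroup.index_eq_one.mp h ▸ Subgroup.mem_top v)) hu
    · exact h
  have hcard : ∀ u v : P, u ∉ Z → v ∉ Z → Nat.card (C u) = Nat.card (C v) := by
    intro u v hu hv
    have h1 := (C u).card_mul_index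
    have h2 := (C v).card_mul_index
    rw [hidx u hu] at h1
    rw [hidx v hv, ← h1] at h2
    exact (Nat.eq_of_mul_eq_mul_right (pow_pos (Fact.out : p.Prime).pos a) h2).symm
  have heq : ∀ u v : P, u ∉ Z → v ∉ Z → C u ≤ C v → C u = C v := fun u v hu hv hle =>
    Subgroup.eq_of_le_of_card_ge hle (hcard u v hu hv).ge
  have hpowle : ∀ (u : P) (k : ℕ), C u ≤ C (u ^ k) := fun u k v hv =>
    (hcm _ v).mpr ((show Commute v u from (hcm u v).mp hv).pow_right k).eq
  -- an element of order `p` in `Z₂ / Z`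
  have hne : ¬ ∀ u : P, u ∈ Z := fun h => hx (h _)
  obtain ⟨z, hzp, hzc, hzZ⟩ : ∃ z : P, z ^ p ∈ Z ∧ (∀ g : P, g * z * g⁻¹ * z⁻¹ ∈ Z) ∧ z ∉ Z := by
    haveI : Nontrivial (P ⧸ Z) := QuotientGroup.nontrivial_iff.mpr fun h => hne fun u => h ▸ Subgroup.mem_top u
    have hQ : IsPGroup p (P ⧸ Z) := hP.to_quotient Z
    haveI := hQ.center_nontrivial
    obtain ⟨n, hn, hn'⟩ := (hQ.to_subgroup (Subgroup.center (P ⧸ Z))).nontrivial_iff_card.mp inferInstance
    obtain ⟨⟨q, hq⟩, hqo⟩ := exists_prime_orderOf_dvd_card' (G := Subgroup.center (P ⧸ Z)) p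
      (hn' ▸ dvd_pow_self p hn.ne')
    rw [Subgroup.orderOf_mk] at hqo
    obtain ⟨z, rfl⟩ := QuotientGroup.mk_surjective q
    refine ⟨z, ?_, fun g => ?_, fun h => ?_⟩
    · rw [← QuotientGroup.eq_one_iff, QuotientGroup.mk_pow]
      exact orderOf_dvd_iff_pow_eq_one.mp (dvd_of_eq hqo)
    · rw [← QuotientGroup.eq_one_iff, QuotientGroup.mk_mul, QuotientGroup.mk_mul, QuotientGroup.mk_mul,
        QuotientGroup.mk_inv, QuotientGroup.mk_inv, Subgroup.mem_center_iff.mp hq]
      group
    · rw [(QuotientGroup.eq_one_iff z).mpr h, orderOf_one] at hqo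
      exact (Fact.out : p.Prime).ne_one hqo.symm
  -- it centralises every `u` with `u ^ p ∉ Z`
  have hzu : ∀ u : P, u ^ p ∉ Z → z ∈ C u := by
    intro u hu
    have huZ : u ∉ Z := fun h => hu (pow_mem h p)
    rw [heq u (u ^ p) huZ hu (hpowle u p), hcm]
    obtain ⟨c, hc⟩ : ∃ c, c = u * z * u⁻¹ * z⁻¹ := ⟨_, rfl⟩
    have hcZ : c ∈ Z := hc ▸ hzc u
    have e : u * z * u⁻¹ = c * z := by rw [hc]; group
    have epow : ∀ n : ℕ, u ^ n * z * (u ^ n)⁻¹ = c ^ n * z := by
      intro n
      induction n with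
      | zero => simp
      | succ n ih =>
        rw [pow_succ' u]
        calc u * u ^ n * z * (u * u ^ n)⁻¹ = u * (u ^ n * z * (u ^ n)⁻¹) * u⁻¹ := by group
          _ = u * c ^ n * (z * u⁻¹) := by rw [ih]; group
          _ = c ^ n * u * (z * u⁻¹) := by rw [Subgroup.mem_center_iff.mp (pow_mem hcZ n) u]
          _ = c ^ n * (u * z * u⁻¹) := by group
          _ = _ := by rw [e, pow_succ, mul_assoc]
    have hcp : c ^ p = 1 := by
      have h1 : (c * z) ^ p = c ^ p * z ^ p := (show Commute c z from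
        (Subgroup.mem_center_iff.mp hcZ z).symm).mul_pow p
      rw [← e, conj_pow] at h1
      have h2 : u * z ^ p * u⁻¹ = z ^ p := by
        rw [Subgroup.mem_center_iff.mp hzp u, mul_inv_cancel_right]
      rw [h2] at h1
      exact right_eq_mul.mp h1
    have := epow p
    rw [hcp, one_mul] at this
    exact (mul_inv_eq_iff_eq_mul.mp this).symm
  -- the abelian centraliser
  have hxZ : x ∉ Z := fun h => hx (pow_mem h p)
  set A := C x with hA
  have hAx : C (x ^ p) = A := (heq x (x ^ p) hxZ hx (hpowle x p)).symm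
  have hAw : ∀ w ∈ A, w ∉ Z → C w = A := by
    intro w hw hwZ
    obtain ⟨n, hn⟩ := hP w
    have hex : ∃ k, w ^ p ^ k ∈ Z := ⟨n, hn ▸ one_mem Z⟩
    obtain ⟨k, hk⟩ : ∃ k, Nat.find hex = k + 1 := ⟨Nat.find hex - 1, by
      have : Nat.find hex ≠ 0 := fun h => hwZ (by simpa [h] using Nat.find_spec hex)
      omega⟩
    set w' := w ^ p ^ k with hw'
    have hw'Z : w' ∉ Z := Nat.find_min hex (by omega)
    have hw'p : w' ^ p ∈ Z := by
      rw [hw', ← pow_mul, ← pow_succ, ← hk]
      exact Nat.find_spec hex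
    have hcomm : Commute x w' := ((show Commute w x from (hcm x w).mp hw).symm).pow_right _
    have hp' : (x * w') ^ p = x ^ p * w' ^ p := hcomm.mul_pow p
    have hxwp : (x * w') ^ p ∉ Z := fun h => hx ((mul_mem_cancel_right hw'p).mp (hp' ▸ h))
    have h1 : C (x * w') = A := by
      rw [heq (x * w') ((x * w') ^ p) (fun h => hxwp (pow_mem h p)) hxwp (hpowle _ p), ← hAx]
      ext v
      rw [hcm, hcm, hp']
      have hv : v * w' ^ p = w' ^ p * v := Subgroup.mem_center_iff.mp hw'p v
      constructor <;> intro h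
      · refine mul_right_cancel (b := w' ^ p) ?_
        rw [mul_assoc, h, mul_assoc, ← hv, ← mul_assoc]
      · rw [← mul_assoc, h, mul_assoc, hv, mul_assoc]
    have h2 : A ≤ C w' := by
      intro v hv
      rw [hcm]
      have e1 := (hcm _ v).mp (h1.symm ▸ hv : v ∈ C (x * w'))
      have e2 := (hcm x v).mp hv
      refine mul_left_cancel (a := x) ?_
      rw [← mul_assoc, ← e2, mul_assoc, e1, mul_assoc]
    exact (heq w w' hwZ hw'Z (hpowle w _)).trans (heq x w' hxZ hw'Z h2).symm
  have hAcomm : ∀ v ∈ A, ∀ w ∈ A, v * w = w * v := by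
    intro v hv w hw
    by_cases hwZ : w ∈ Z
    · exact Subgroup.mem_center_iff.mp hwZ v
    · exact (hcm w v).mp ((hAw w hw hwZ).symm ▸ hv : v ∈ C w)
  have hzA : z ∈ A := hzu x hx
  have hCz : C z = A := hAw z hzA hzZ
  haveI hAn : A.Normal := ⟨fun v hv g => by
    rw [← hCz] at hv ⊢
    rw [hcm] at hv ⊢
    have hc := hzc g⁻¹
    have e : g⁻¹ * z * g = (g⁻¹ * z * g⁻¹⁻¹ * z⁻¹) * z := by group
    have key : v * (g⁻¹ * z * g) = (g⁻¹ * z * g) * v := by
      rw [e, ← mul_assoc v, Subgroup.mem_center_iff.mp hc v, mul_assoc, hv]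
      simp only [mul_assoc]
    calc g * v * g⁻¹ * z = g * (v * (g⁻¹ * z * g)) * g⁻¹ := by group
      _ = g * ((g⁻¹ * z * g) * v) * g⁻¹ := by rw [key]
      _ = _ := by group⟩
  have hout : ∀ t : P, t ∉ A → t ^ p ∈ Z := by
    intro t ht
    by_contra htp
    refine ht ?_
    rw [← hCz, hcm]
    exact ((hcm t z).mp (hzu t htp)).symm
  obtain ⟨y, hy⟩ : ∃ y, y ∉ A := by
    by_contra h
    push Not at h
    exact hxZ (Subgroup.mem_center_iff.mpr fun v => (hcm x v).mp (h v))
  have hyZ : y ∉ Z := fun h => hy ((hcm x y).mpr (Subgroup.mem_center_iff.mp h x).symm)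
  have hyA : ∀ v ∈ A, v * y = y * v → v ∈ Z := by
    intro v hv hvy
    by_contra hvZ
    exact hy ((hAw v hv hvZ) ▸ (hcm v y).mpr hvy.symm)
  -- a second independent element in `C y`
  obtain ⟨u, huy, hu⟩ : ∃ u, u * y = y * u ∧ ∀ i : ℕ, u * y ^ i ∉ A := by
    by_contra hcon
    push Not at hcon
    have hsurj : ∀ g : C y, ∃ q : Z × Fin p, (q.1 : P) * y ^ (q.2 : ℕ) = g := by
      intro g
      have hgy : Commute (g : P) y := (hcm y g).mp g.2
      obtain ⟨i, hi⟩ := hcon g hgy.eq
      have hvZ : (g : P) * y ^ i ∈ Z :=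
        hyA _ hi ((hgy.mul_left (Commute.pow_self y i)).eq)
      set n := orderOf y with hn
      set j := n * i - i with hj
      have hn1 : 1 ≤ n := orderOf_pos y
      have hji : i + j = n * i := by
        have : i ≤ n * i := Nat.le_mul_of_pos_left i hn1
        omega
      have hg : (g : P) = g * y ^ i * y ^ j := by
        rw [mul_assoc, ← pow_add, hji, pow_mul, hn, pow_orderOf_eq_one, one_pow, mul_one]
      refine ⟨⟨⟨g * y ^ i * (y ^ p) ^ (j / p), mul_mem hvZ (pow_mem (hout y hy) _)⟩,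
        ⟨j % p, Nat.mod_lt _ (Fact.out : p.Prime).pos⟩⟩, ?_⟩
      show (g : P) * y ^ i * (y ^ p) ^ (j / p) * y ^ (j % p) = g
      rw [mul_assoc _ ((y ^ p) ^ (j / p)), ← pow_mul, ← pow_add, Nat.div_add_mod, ← hg]
    choose f hf using hsurj
    have hfi : Function.Injective f := fun g g' h => Subtype.ext (by rw [← hf g, ← hf g', h])
    have h1 := Nat.card_le_card_of_injective f hfi
    rw [Nat.card_prod, Nat.card_fin, hcard y x hyZ hxZ] at h1
    have hZA : Z ≤ A := fun v hv => (hcm x v).mpr (Subgroup.mem_center_iff.mp hv x).symm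
    set xq : A ⧸ Z.subgroupOf A := QuotientGroup.mk ⟨x, (hcm x x).mpr rfl⟩
    obtain ⟨m, hm⟩ := IsPGroup.iff_orderOf.mp ((hP.to_subgroup A).to_quotient (Z.subgroupOf A)) xq
    have hm2 : 2 ≤ m := by
      by_contra hlt
      refine hx ?_
      have he : xq ^ p = 1 := by
        rw [← orderOf_dvd_iff_pow_eq_one, hm]
        exact (pow_dvd_pow p (show m ≤ 1 by omega)).trans (dvd_of_eq (pow_one p))
      rw [← QuotientGroup.mk_pow, QuotientGroup.eq_one_iff] at he
      exact he
    have h2 : p ^ 2 ≤ Nat.card (A ⧸ Z.subgroupOf A) :=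
      (Nat.pow_le_pow_right (Fact.out : p.Prime).pos hm2).trans
        (hm ▸ Nat.le_of_dvd Nat.card_pos (orderOf_dvd_natCard xq))
    rw [(Z.subgroupOf A).card_eq_card_quotient_mul_card_subgroup,
      Nat.card_congr (Subgroup.subgroupOfEquivOfLe hZA).toEquiv] at h1
    have h3 : 0 < Nat.card Z := Nat.card_pos
    have h4 := Nat.mul_le_mul_right (Nat.card Z) h2
    have h5 : p < p ^ 2 := by
      have := (Fact.out : p.Prime).one_lt
      nlinarith
    nlinarith
  -- the norm computation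
  letI : CommGroup A := { (inferInstance : Group A) with
    mul_comm := fun v w => Subtype.ext (hAcomm v v.2 w w.2) }
  let φ : P →* MulAut A := MulAut.conjNormal
  have hφ : ∀ (t : P) (v : A), ((φ t v : A) : P) = t * v * t⁻¹ := fun t v => MulAut.conjNormal_apply t v
  have hnorm : ∀ t : P, t ∉ A → ∀ g : A, ((normProd p (φ t) g : A) : P) ∈ Z := by
    intro t ht g
    have key : ∀ n : ℕ, (((g : P) * t) ^ n) = ((∏ i ∈ Finset.range n, ((φ t) ^ i) g : A) : P) * t ^ n := by
      intro n
      induction n with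
      | zero => simp
      | succ n ih =>
        rw [pow_succ, ih, Finset.prod_range_succ, Subgroup.coe_mul, ← map_pow, hφ, pow_succ]
        group
    have e : normProd p (φ t) g = ∏ i ∈ Finset.range p, ((φ t) ^ i) g := by
      refine Finset.prod_nbij' (fun i : ZMod p => i.val) (fun n => (n : ZMod p)) ?_ ?_ ?_ ?_ ?_
      · exact fun i _ => Finset.mem_range.mpr i.val_lt
      · exact fun i _ => Finset.mem_univ _
      · exact fun i _ => ZMod.natCast_zmod_val i
      · exact fun i hi => ZMod.val_natCast_of_lt (Finset.mem_range.mp hi)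
      · exact fun i _ => rfl
    rw [e]
    have h := key p
    have hgt : (g : P) * t ∉ A := fun hh => ht ((Subgroup.mul_mem_cancel_left A g.2).mp hh)
    exact (mul_mem_cancel_right (hout t ht)).mp (h ▸ hout _ hgt)
  have hY : φ y ^ p = 1 := by
    rw [← map_pow]
    refine MulEquiv.ext fun v => Subtype.ext ?_
    rw [hφ, MulAut.one_apply, (Subgroup.mem_center_iff.mp (hout y hy) v).symm, mul_inv_cancel_right]
  have hUY : Commute (φ u) (φ y) := (show Commute u y from huy).map φ
  set g : A := ⟨x, (hcm x x).mpr rfl⟩ with hg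
  set ν := normProd p (φ y) g with hν
  have hνZ := hnorm y hy g
  have hU : ∀ i : ZMod p, ((φ u) ^ i.val) ν = ν := fun i => Subtype.ext (by
    rw [← map_pow, hφ, Subgroup.mem_center_iff.mp hνZ (u ^ i.val), mul_inv_cancel_right])
  have hid := norm_identity hUY hY g
  simp only [← hν, hU, Finset.prod_const, Finset.card_univ, ZMod.card] at hid
  have hg2 : g ^ p = (∏ j : ZMod p, normProd p (φ u * φ y ^ j.val) g) * ν * (ν ^ p)⁻¹ := by
    rw [hid, mul_inv_cancel_right]
  have hprod : ((∏ j : ZMod p, normProd p (φ u * φ y ^ j.val) g : A) : P) ∈ Z := by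
    refine Subgroup.mem_subgroupOf.mp (Subgroup.prod_mem (Z.subgroupOf A) fun j _ => ?_)
    rw [← map_pow, ← map_mul]
    exact Subgroup.mem_subgroupOf.mpr (hnorm _ (hu j.val) g)
  apply hx
  have hval := congrArg Subtype.val hg2
  simp only [Subgroup.coe_mul, Subgroup.coe_pow, InvMemClass.coe_inv, hg] at hval
  rw [hval]
  exact mul_mem (mul_mem hprod hνZ) (inv_mem (pow_mem hνZ p))

end Cfsg.Agent.S4365
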