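import Cfsg.Statements.S4369
import Cfsg.Agent.Lib.MinNonCA.Converse
import Cfsg.Agent.Lib.MinNonCA.AbelianCase
import Cfsg.Agent.Lib.MinNonCA.OddCase

set_option autoImplicit false
open Cfsg

namespace Cfsg.Agent.S4369

open Subgroup Cfsg.Agent.MinNonCA

theorem exists_noncommute {F : Type} [Field F] [Finite F] (h4 : 4 ≤ Nat.card F) {x : PSL2.PSL2 F} (hx : x ≠ 1) :
    ∃ n, ¬ Commute x n := by
  by_contra hcon
  push Not at hcon
  haveI := PSL2.isSimpleGroup_psl (L := F) h4
  rcases (inferInstance : (center (PSL2.PSL2 F)).Normal).eq_bot_or_eq_top with h' | h'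
  · exact hx (mem_bot.1 (h' ▸ mem_center_iff.2 fun y => (hcon y).eq.symm : x ∈ (⊥ : Subgroup _)))
  · exact PSL2.not_comm_psl (L := F) (by omega) fun y z => mem_center_iff.1 (h' ▸ mem_top z) y

theorem eq_base_or_eq_pow {r m b p : ℕ} (hb : b.Prime) (hp : p.Prime) (h : r ^ m = b ^ p) :
    r = b ∨ r = b ^ p := by
  have hm : m ≠ 0 := fun h0 => by
    rw [h0, pow_zero] at h
    exact (Nat.one_lt_pow hp.ne_zero hb.one_lt).ne h
  obtain ⟨j, -, hj⟩ := (Nat.dvd_prime_pow hb).1 (h ▸ dvd_pow_self r hm)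
  rw [hj, ← pow_mul] at h
  have hjm := Nat.pow_right_injective hb.two_le h
  rcases (Nat.dvd_prime hp).1 ⟨m, hjm.symm⟩ with h1 | h1
  · exact Or.inl (by rw [hj, h1, pow_one])
  · exact Or.inr (by rw [hj, h1])

theorem odd_facts {q : ℕ} (h : (q.Prime ∧ 5 < q ∧ ¬ 16 ∣ q ^ 2 - 1) ∨
    (∃ p : ℕ, p.Prime ∧ p ≠ 2 ∧ (q = 3 ^ p ∨ q = 5 ^ p))) :
    ((q % 8 = 3 ∨ q % 8 = 5) ∧ 7 ≤ q) ∧ ∀ r m : ℕ, r ^ m = q → r = 3 ∨ r = 5 ∨ r = q := by
  rcases h with ⟨hq, h5, h16⟩ | ⟨p, hp, hp2, hq⟩
  · have ho := Nat.odd_iff.1 (hq.odd_of_ne_two (by omega))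
    refine ⟨⟨?_, by omega⟩, fun r m hrm => Or.inr (Or.inr (Nat.Prime.pow_eq_iff hq |>.1 hrm).1)⟩
    by_contra hcon
    obtain ⟨k, hk⟩ : ∃ k, q = 8 * k + 1 ∨ q = 8 * k + 7 := ⟨q / 8, by omega⟩
    apply h16
    rcases hk with rfl | rfl
    · rw [show (8 * k + 1) ^ 2 = 16 * (4 * k * k + k) + 1 by ring, Nat.add_sub_cancel]
      exact dvd_mul_right 16 _
    · rw [show (8 * k + 7) ^ 2 = 16 * (4 * k * k + 7 * k + 3) + 1 by ring, Nat.add_sub_cancel]
      exact dvd_mul_right 16 _
  · obtain ⟨i, rfl⟩ := hp.odd_of_ne_two hp2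
    have hi : 1 ≤ i := by have := hp.two_le; omega
    rcases hq with rfl | rfl
    · have h2 : 3 ^ (2 * i + 1) = 9 ^ i * 3 := by rw [pow_succ, pow_mul]; norm_num
      refine ⟨⟨Or.inl (by rw [h2, Nat.mul_mod, Nat.pow_mod]; norm_num), ?_⟩, fun r m hrm =>
        (eq_base_or_eq_pow Nat.prime_three hp hrm).imp id Or.inr⟩
      rw [h2]; have := Nat.pow_le_pow_right (show 9 > 0 by norm_num) hi; omega
    · have h2 : 5 ^ (2 * i + 1) = 25 ^ i * 5 := by rw [pow_succ, pow_mul]; norm_num
      refine ⟨⟨Or.inr (by rw [h2, Nat.mul_mod, Nat.pow_mod]; norm_num), ?_⟩, fun r m hrm =>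
        Or.inr ((eq_base_or_eq_pow Nat.prime_five hp hrm).imp id id)⟩
      rw [h2]; have := Nat.pow_le_pow_right (show 25 > 0 by norm_num) hi; omega


/-- Call a group a CA-group when the centralizer of every non-central element is abelian. A finite group G is non-solvable, is not a CA-group, and has all its proper subgroups CA-groups, if and only if G is isomorphic to PSL(2, q) where q > 5 is a prime with 16 not dividing q² - 1, or q = 3ᵖ or q = 5ᵖ for an odd prime p. -/
theorem result {G : Type*} [Group G] [Finite G] :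
    (¬ Group.IsSolvable G ∧ ¬ (∀ x : G, x ∉ Subgroup.center G → IsMulCommutative (Subgroup.centralizer ({x} : Set G))) ∧ ∀ H : Subgroup G, H ≠ ⊤ → (∀ x : H, x ∉ Subgroup.center H → IsMulCommutative (Subgroup.centralizer ({x} : Set H)))) ↔
      ∃ (F : Type) (_ : Field F) (_ : Fintype F), Nonempty (G ≃* Matrix.ProjectiveSpecialLinearGroup (Fin 2) F) ∧
        (((Fintype.card F).Prime ∧ 5 < Fintype.card F ∧ ¬ 16 ∣ Fintype.card F ^ 2 - 1) ∨
         (∃ p : ℕ, p.Prime ∧ p ≠ 2 ∧ (Fintype.card F = 3 ^ p ∨ Fintype.card F = 5 ^ p))) := by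
  haveI := Fact.mk Nat.prime_two
  constructor
  · rintro ⟨hns, hnCA, hG⟩
    replace hG : SubCA G := hG
    obtain ⟨N, hN, hK⟩ := exists_kernel hG hns
    haveI := hN
    obtain ⟨U⟩ := (inferInstance : Nonempty (Sylow 2 N))
    have hca : (∀ x a b : G, x ∉ center G → Commute a x → Commute b x → Commute a b) → False := fun h =>
      hnCA fun x hx => ⟨⟨fun a b => Subtype.ext (h x a b hx (mem_centralizer_singleton_iff.1 a.2)
        (mem_centralizer_singleton_iff.1 b.2)).eq⟩⟩
    by_cases hT : ∀ a ∈ (U : Subgroup N), ∀ b ∈ (U : Subgroup N), Commute a b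
    · obtain ⟨F, iF, iF', hF, ⟨e⟩⟩ := hK.abelian_case U hT
      rcases hF with ⟨h8, h7⟩ | ⟨h4, he⟩
      · by_cases hNtop : N = ⊤
        · let e' : G ≃* Matrix.ProjectiveSpecialLinearGroup (Fin 2) F :=
            topEquiv.symm.trans ((MulEquiv.subgroupCongr hNtop.symm).trans e)
          exact ⟨F, iF, iF', ⟨e'⟩, odd_conditions hG h8 h7 e'⟩
        · exfalso
          have hodd := odd_card_of_mod_eight (F := F) (by rwa [Nat.card_eq_fintype_card])
          obtain ⟨x, a, b, hx1, hax, hbx, hab⟩ :=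
            exists_nonabelian_centralizer (F := F) (by rwa [Nat.card_eq_fintype_card]) hodd
          obtain ⟨n, hn⟩ := exists_noncommute (F := F) (by rw [Nat.card_eq_fintype_card]; omega) hx1
          let ι : PSL2.PSL2 F →* G := N.subtype.comp e.symm.toMonoidHom
          have hι : Function.Injective ι := N.subtype_injective.comp e.symm.injective
          have hmem : ∀ y, ι y ∈ N := fun y => (e.symm y).2
          exact hab (Commute.of_map hι (commute_in_cent hG hNtop (hmem x) (hmem n)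
            (fun h' => hn (Commute.of_map hι h')) (hmem a) (hmem b) (hax.map ι) (hbx.map ι)))
      · exact (hca fun x a b hx => even_commute hG hns hK h4 he e hx).elim
    · push Not at hT
      obtain ⟨-, hL⟩ := hK.nonabelian_case U hT
      exact (hca fun x a b hx => commute_of_nonabelian hG hK hL U hT hns hx).elim
  · rintro ⟨F, iF, iF', ⟨e⟩, hcond⟩
    obtain ⟨⟨h8, h7⟩, hsub⟩ := odd_facts hcond
    rw [← Nat.card_eq_fintype_card] at h8 h7 hsub
    have hodd := odd_card_of_mod_eight h8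
    obtain ⟨x, a, b, hx1, hax, hbx, hab⟩ := exists_nonabelian_centralizer h7 hodd
    obtain ⟨n, hn⟩ := exists_noncommute (F := F) (by omega) hx1
    have hinj : Function.Injective e.symm.toMonoidHom := e.symm.injective
    refine ⟨fun hs => ?_, fun hCA => ?_, fun H hH x hx => ?_⟩
    · haveI := hs
      haveI := PSL2.isSimpleGroup_psl (L := F) (by omega)
      exact PSL2.not_comm_psl (L := F) (by omega) (IsSimpleGroup.comm_iff_isSolvable.2
        (Group.isSolvable_of_surjective (f := e.toMonoidHom) e.surjective))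
    · have hc : e.symm x ∉ center G := fun h =>
        hn (Commute.of_map hinj (mem_center_iff.1 h (e.symm n)).symm)
      exact hab (Commute.of_map hinj (congrArg Subtype.val ((hCA _ hc).is_comm.comm
        ⟨e.symm a, mem_centralizer_singleton_iff.2 (hax.map e.symm.toMonoidHom).eq⟩
        ⟨e.symm b, mem_centralizer_singleton_iff.2 (hbx.map e.symm.toMonoidHom).eq⟩)))
    · obtain ⟨n, hn⟩ : ∃ n : H, ¬ Commute x n := by
        by_contra hcon
        push Not at hcon
        exact hx (mem_center_iff.2 fun y => (hcon y).eq.symm)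
      have hH' : H.map e.toMonoidHom ≠ ⊤ := fun h => hH (by
        rw [← comap_map_eq_self_of_injective (show Function.Injective e.toMonoidHom from e.injective) H, h, comap_top])
      have hm : ∀ y : H, e (y : G) ∈ H.map e.toMonoidHom := fun y => mem_map_of_mem _ y.2
      let ψ : H →* PSL2.PSL2 F := e.toMonoidHom.comp H.subtype
      have hψ : Function.Injective ψ := e.injective.comp H.subtype_injective
      exact ⟨⟨fun a b => Subtype.ext (Commute.of_map hψ (commute_in_cent (subCA_psl h8 h7 hsub) hH' (hm x) (hm n)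
        (fun h => hn (Commute.of_map hψ h)) (hm a) (hm b)
        ((show Commute (a : H) x from mem_centralizer_singleton_iff.1 a.2).map ψ)
        ((show Commute (b : H) x from mem_centralizer_singleton_iff.1 b.2).map ψ))).eq⟩⟩

end Cfsg.Agent.S4369
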