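import Cfsg.Statements.S4370
import Cfsg.Agent.EqLemmas
import Cfsg.Agent.Lib.NilGroup.Basic
import Cfsg.Agent.Lib.PGroup.UniqueOrderP

set_option autoImplicit false
open Cfsg

namespace Cfsg.Agent.S4370

theorem two_mul_eq_zero {n : ℕ} [NeZero n] (j : ZMod (2 * n)) (h : j + j = 0) : j = 0 ∨ j = (n : ZMod (2 * n)) := by
  have hv := j.val_lt
  rw [← ZMod.natCast_zmod_val j, ← Nat.cast_add, ZMod.natCast_eq_zero_iff] at h
  obtain ⟨c, hc⟩ := h
  rcases c with _ | _ | c
  · exact Or.inl ((ZMod.val_eq_zero j).mp (by omega))
  · right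
    rw [← ZMod.natCast_zmod_val j, show j.val = n by omega]
  · exfalso
    nlinarith

/-- Centralisers of non-central elements of a quaternion group are cyclic. -/
theorem quaternion_centralizer {n : ℕ} [NeZero n] {q : QuaternionGroup n}
    (hq : q ∉ Subgroup.center (QuaternionGroup n)) :
    IsCyclic (Subgroup.centralizer ({q} : Set (QuaternionGroup n))) := by
  suffices h : ∃ g, Subgroup.centralizer ({q} : Set (QuaternionGroup n)) ≤ Subgroup.zpowers g by
    obtain ⟨g, hg⟩ := h
    exact isCyclic_of_injective (Subgroup.inclusion hg) (Subgroup.inclusion_injective hg)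
  have hn : ((n : ℕ) : ZMod (2 * n)) + n = 0 := by
    rw [← Nat.cast_add, ← two_mul, ZMod.natCast_self]
  have ha : ∀ j : ZMod (2 * n), QuaternionGroup.a j ∈ Subgroup.zpowers (QuaternionGroup.a 1 : QuaternionGroup n) := by
    intro j
    refine ⟨(j.val : ℤ), ?_⟩
    show (QuaternionGroup.a 1 : QuaternionGroup n) ^ ((j.val : ℕ) : ℤ) = _
    rw [zpow_natCast, QuaternionGroup.a_one_pow, ZMod.natCast_zmod_val]
  rcases q with i | i
  · refine ⟨QuaternionGroup.a 1, ?_⟩
    intro g hg
    rw [Subgroup.mem_centralizer_singleton_iff] at hg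
    rcases g with j | j
    · exact ha j
    · exfalso
      rw [QuaternionGroup.a_mul_xa, QuaternionGroup.xa_mul_a, QuaternionGroup.xa.injEq] at hg
      have h2 : i + i = 0 := by linear_combination hg
      apply hq
      rw [Subgroup.mem_center_iff]
      intro g
      rcases g with k | k
      · rw [QuaternionGroup.a_mul_a, QuaternionGroup.a_mul_a, add_comm]
      · rw [QuaternionGroup.a_mul_xa, QuaternionGroup.xa_mul_a]
        congr 1
        linear_combination h2
  · refine ⟨QuaternionGroup.xa i, ?_⟩
    intro g hg
    rw [Subgroup.mem_centralizer_singleton_iff] at hg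
    rcases g with j | j
    · rw [QuaternionGroup.a_mul_xa, QuaternionGroup.xa_mul_a, QuaternionGroup.xa.injEq] at hg
      have h2 : j + j = 0 := by linear_combination -hg
      rcases two_mul_eq_zero j h2 with rfl | rfl
      · exact one_mem _
      · exact ⟨2, by show QuaternionGroup.xa i ^ (2 : ℤ) = _; rw [show (2 : ℤ) = ((2 : ℕ) : ℤ) from rfl, zpow_natCast, QuaternionGroup.xa_sq]⟩
    · rw [QuaternionGroup.xa_mul_xa, QuaternionGroup.xa_mul_xa, QuaternionGroup.a.injEq] at hg
      have h2 : (j - i) + (j - i) = 0 := by linear_combination -hg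
      rcases two_mul_eq_zero _ h2 with h | h
      · rw [sub_eq_zero.mp h]
        exact Subgroup.mem_zpowers _
      · refine ⟨3, ?_⟩
        show QuaternionGroup.xa i ^ (3 : ℤ) = _
        rw [show (3 : ℤ) = ((3 : ℕ) : ℤ) from rfl, zpow_natCast, pow_succ', QuaternionGroup.xa_sq,
          QuaternionGroup.xa_mul_a, QuaternionGroup.xa.injEq]
        linear_combination -h

/-- Let G be a finite non-abelian nilpotent group. Then the centralizer of every non-central element of G is cyclic if and only if G is isomorphic to the direct product of a generalized quaternion group and a cyclic group of odd order. -/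
theorem result {G : Type*} [Group G] [Finite G] (hG : Group.IsNilpotent G)
    (hna : ¬ IsMulCommutative G) :
    (∀ x : G, x ∉ Subgroup.center G → IsCyclic (Subgroup.centralizer ({x} : Set G))) ↔
      ∃ (k m : ℕ), 1 ≤ k ∧ Odd m ∧ Nonempty (G ≃* QuaternionGroup (2 ^ k) × Multiplicative (ZMod m)) := by
  classical
  constructor
  · intro h
    -- a non-commutative Sylow subgroup
    obtain ⟨p, hp, P, x, hx, y, hy, hxy⟩ : ∃ p : ℕ, p.Prime ∧ ∃ P : Sylow p G,
        ∃ x ∈ (P : Subgroup G), ∃ y ∈ (P : Subgroup G), ¬ Commute x y := by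
      by_contra hc
      push Not at hc
      exact hna ⟨⟨fun a b => (NilGroup.commute_of_sylow hG hc a b).eq⟩⟩
    have := Fact.mk hp
    haveI := hG
    haveI hPn : (P : Subgroup G).Normal :=
      Sylow.normal_of_normalizerCondition normalizerCondition_of_isNilpotent P
    obtain ⟨K, hK⟩ := Subgroup.exists_right_complement'_of_coprime P.card_coprime_index
    have hKcard : Nat.card K = (P : Subgroup G).index := hK.symm.index_eq_card.symm
    have hcop : (Nat.card (P : Subgroup G)).Coprime (Nat.card K) := hKcard ▸ P.card_coprime_index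
    have hPK : ∀ a ∈ (P : Subgroup G), ∀ b ∈ K, Commute a b := fun a ha b hb =>
      NilGroup.commute_of_coprime hG ((hcop.coprime_dvd_left (Subgroup.orderOf_dvd_natCard _ ha)).coprime_dvd_right
        (Subgroup.orderOf_dvd_natCard _ hb))
    have hnc : ∀ a ∈ (P : Subgroup G), (∃ b ∈ (P : Subgroup G), ¬ Commute a b) →
        IsCyclic (Subgroup.centralizer ({a} : Set G)) := fun a _ ⟨b, _, hb⟩ =>
      h a fun hc => hb ((Subgroup.mem_center_iff.mp hc b).symm)
    have hcx := hnc x hx ⟨y, hy, hxy⟩
    haveI hKc : IsCyclic K := by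
      have hle : K ≤ Subgroup.centralizer ({x} : Set G) := fun b hb =>
        Subgroup.mem_centralizer_singleton_iff.mpr (hPK x hx b hb).eq.symm
      exact isCyclic_of_injective (Subgroup.inclusion hle) (Subgroup.inclusion_injective hle)
    have hncP : ¬ IsMulCommutative (P : Subgroup G) := fun hc =>
      hxy (congrArg Subtype.val (hc.1.1 ⟨x, hx⟩ ⟨y, hy⟩))
    haveI : Nontrivial (P : Subgroup G) := by
      by_contra hn
      rw [not_nontrivial_iff_subsingleton] at hn
      exact hncP ⟨⟨fun a b => Subsingleton.elim _ _⟩⟩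
    haveI := P.2.center_nontrivial
    obtain ⟨n, hn, hcard⟩ := (P.2.to_subgroup (Subgroup.center (P : Subgroup G))).nontrivial_iff_card.mp inferInstance
    obtain ⟨z, hz⟩ := exists_prime_orderOf_dvd_card' (G := Subgroup.center (P : Subgroup G)) p
      (hcard ▸ dvd_pow_self p hn.ne')
    have key : ∀ u v : (P : Subgroup G), orderOf u = p → v ^ p = 1 → v ∈ Subgroup.zpowers u := by
      have hzo : orderOf (z : (P : Subgroup G)) = p := by rw [Subgroup.orderOf_coe, hz]
      have hall : ∀ v : (P : Subgroup G), v ^ p = 1 → v ∈ Subgroup.zpowers (z : (P : Subgroup G)) := by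
        intro v hv
        -- both lie in a cyclic centraliser
        obtain ⟨w, hwP, hwnc, hvw⟩ : ∃ w ∈ (P : Subgroup G), (∃ b ∈ (P : Subgroup G), ¬ Commute w b) ∧
            Commute (v : G) w := by
          by_cases hv' : ∃ b ∈ (P : Subgroup G), ¬ Commute (v : G) b
          · exact ⟨v, v.2, hv', Commute.refl _⟩
          · push Not at hv'
            exact ⟨x, hx, ⟨y, hy, hxy⟩, hv' x hx⟩
        haveI := hnc w hwP hwnc
        cases nonempty_fintype (Subgroup.centralizer ({w} : Set G))
        have hzw : Commute ((z : (P : Subgroup G)) : G) w :=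
          (congrArg Subtype.val (Subgroup.mem_center_iff.mp z.2 ⟨w, hwP⟩)).symm
        set z' : Subgroup.centralizer ({w} : Set G) :=
          ⟨((z : (P : Subgroup G)) : G), Subgroup.mem_centralizer_singleton_iff.mpr hzw.eq⟩ with hz'
        set v' : Subgroup.centralizer ({w} : Set G) :=
          ⟨(v : G), Subgroup.mem_centralizer_singleton_iff.mpr hvw.eq⟩ with hv''
        have hz'o : orderOf z' = p := by
          rw [hz', Subgroup.orderOf_mk, Subgroup.orderOf_coe, hzo]
        have hmem : v' ∈ Subgroup.zpowers z' := by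
          by_contra hnm
          have hsub : insert v' (Finset.univ.filter fun u => u ∈ Subgroup.zpowers z') ⊆
              Finset.univ.filter fun u : Subgroup.centralizer ({w} : Set G) => u ^ p = 1 := by
            intro u hu
            rw [Finset.mem_filter]
            refine ⟨Finset.mem_univ _, ?_⟩
            rcases Finset.mem_insert.mp hu with rfl | hu
            · exact Subtype.ext (congrArg Subtype.val hv :)
            · rw [Finset.mem_filter] at hu
              exact orderOf_dvd_iff_pow_eq_one.mp (hz'o ▸ orderOf_dvd_of_mem_zpowers hu.2)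
          have h1 := (Finset.card_le_card hsub).trans
            (IsCyclic.card_pow_eq_one_le (α := Subgroup.centralizer ({w} : Set G)) hp.pos)
          rw [Finset.card_insert_of_notMem (by simp [hnm]), ← Fintype.card_subtype,
            ← Nat.card_eq_fintype_card] at h1
          have h2 : Nat.card (Subgroup.zpowers z') = p := by rw [Nat.card_zpowers, hz'o]
          have h3 : Nat.card {u // u ∈ Subgroup.zpowers z'} = p := h2
          omega
        obtain ⟨i, hi⟩ := Subgroup.mem_zpowers_iff.mp hmem
        exact Subgroup.mem_zpowers_iff.mpr ⟨i, Subtype.ext (congrArg Subtype.val hi :)⟩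
      intro u v hu hv
      have hum := hall u ((congrArg (u ^ ·) hu).symm.trans (pow_orderOf_eq_one u))
      have heq : Subgroup.zpowers u = Subgroup.zpowers (z : (P : Subgroup G)) :=
        Subgroup.eq_of_le_of_card_ge (Subgroup.zpowers_le.mpr hum)
          (le_of_eq (by rw [Nat.card_zpowers, Nat.card_zpowers, hu, hzo]))
      rw [heq]
      exact hall v hv
    rcases PGroup.unique_order_p_cases P.2 key with hcyc | ⟨rfl, n, ⟨e⟩⟩
    · exact absurd hcyc.isMulCommutative hncP
    · have hn1 : 1 ≤ n := by
        rcases Nat.eq_zero_or_pos n with rfl | hpos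
        · exfalso
          have hc4 : IsMulCommutative (QuaternionGroup (2 ^ 0)) := ⟨⟨by decide⟩⟩
          exact hncP ⟨⟨fun a b => e.injective (by rw [map_mul, map_mul]; exact hc4.1.1 _ _)⟩⟩
        · exact hpos
      have hodd : Odd (Nat.card K) := by
        rw [← Nat.not_even_iff_odd, even_iff_two_dvd, hKcard]
        exact P.not_dvd_index
      let φ : ↥(P : Subgroup G) × ↥K →* G := MonoidHom.noncommCoprod (P : Subgroup G).subtype K.subtype
        fun a b => hPK a a.2 b b.2
      have hφ : Function.Bijective φ := hK
      let eK : K ≃* Multiplicative (ZMod (Nat.card K)) := (zmodCyclicMulEquiv hKc).symm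
      exact ⟨n, Nat.card K, hn1, hodd, ⟨(MulEquiv.ofBijective φ hφ).symm.trans (e.prodCongr eK)⟩⟩
  · rintro ⟨k, m, hk, hm, ⟨e⟩⟩ x hx
    haveI : NeZero (2 ^ k) := ⟨pow_ne_zero _ two_ne_zero⟩
    haveI : NeZero m := ⟨fun h => by rw [h] at hm; exact Nat.not_odd_iff_even.mpr (by decide) hm⟩
    have hq : (e x).1 ∉ Subgroup.center (QuaternionGroup (2 ^ k)) := by
      intro hc
      refine hx (Subgroup.mem_center_iff.mpr fun g => e.injective ?_)
      rw [map_mul, map_mul]
      exact Prod.ext (Subgroup.mem_center_iff.mp hc _) (mul_comm _ _)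
    haveI := quaternion_centralizer hq
    let C := Subgroup.centralizer ({(e x).1} : Set (QuaternionGroup (2 ^ k)))
    let f : Subgroup.centralizer ({x} : Set G) →* C × Multiplicative (ZMod m) :=
      MonoidHom.prod
        ((((MonoidHom.fst _ _).comp e.toMonoidHom).comp (Subgroup.subtype _)).codRestrict C fun g =>
          Subgroup.mem_centralizer_singleton_iff.mpr (by
            have := congrArg (fun u => (e u).1) (Subgroup.mem_centralizer_singleton_iff.mp g.2)
            simpa using this))
        (((MonoidHom.snd _ _).comp e.toMonoidHom).comp (Subgroup.subtype _))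
    have hf : Function.Injective f := fun a b h =>
      Subtype.ext (e.injective (Prod.ext (congrArg (fun u => (u.1 : QuaternionGroup (2 ^ k))) h :)
        (congrArg Prod.snd h :)))
    haveI : IsCyclic (C × Multiplicative (ZMod m)) := by
      refine Group.isCyclic_prod_iff.mpr ⟨inferInstance, inferInstance, ?_⟩
      have hd : Nat.card C ∣ 2 ^ (k + 2) := by
        refine (Subgroup.card_subgroup_dvd_card C).trans (dvd_of_eq ?_)
        rw [Nat.card_eq_fintype_card, QuaternionGroup.card]
        ring
      have hmm : Nat.card (Multiplicative (ZMod m)) = m := by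
        rw [Nat.card_congr Multiplicative.toAdd, Nat.card_zmod]
      rw [hmm]
      exact Nat.Coprime.coprime_dvd_left hd (Nat.Coprime.pow_left _ (Nat.coprime_two_left.mpr hm))
    exact isCyclic_of_injective f hf

end Cfsg.Agent.S4370
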