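import Cfsg.Agent.Lib.BaseTwo.Coprime
import Cfsg.Agent.Lib.Solvable.Fitting

set_option autoImplicit false
open Pointwise
open Cfsg

namespace Cfsg.Agent.S4373

/-- Let π be a set of primes and G a finite π-solvable group: G has a chain of normal subgroups from 1 to G in which each successive index is a power of a prime in π or is divisible by no prime in π. Let H be a Hall π-subgroup of G. Then there are x, y ∈ G with H ∩ xHx⁻¹ ∩ yHy⁻¹ = O_π(G), the largest normal π-subgroup. -/
theorem result {G : Type*} [Group G] [Finite G] (π : Set ℕ)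
    (hsolv : (∃ (n : ℕ) (N : Fin (n + 1) → Subgroup G), N 0 = ⊥ ∧ N (Fin.last n) = ⊤ ∧ Monotone N ∧ (∀ i, (N i).Normal) ∧
      ∀ i : Fin n, (∃ p ∈ π, p.Prime ∧ ∃ k : ℕ, (N i.castSucc).relIndex (N i.succ) = p ^ k) ∨
        (∀ q : ℕ, q.Prime → q ∣ (N i.castSucc).relIndex (N i.succ) → q ∉ π))) (H : Subgroup G) (hH : Cfsg.IsPiHall π H) :
    ∃ x y : G, H ⊓ MulAut.conj x • H ⊓ MulAut.conj y • H = Cfsg.piCore π G := by
  classical
  obtain ⟨n, N, hN0, hNn, hmono, hnorm, hidx⟩ := hsolv
  obtain ⟨hHπ, hHi⟩ := hH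
  -- the subgroup `H` is solvable
  have hHsolv : Group.IsSolvable H := by
    have key : ∀ i : Fin (n + 1), Group.IsSolvable (H ⊓ N i : Subgroup G) := by
      intro i
      induction i using Fin.induction with
      | zero => rw [hN0, inf_bot_eq]; exact Group.isSolvable_of_comm fun a b => Subsingleton.elim _ _
      | succ i ih =>
        have := hnorm i.castSucc
        let X : Subgroup G := H ⊓ N i.succ
        let L : Subgroup X := (N i.castSucc).subgroupOf X
        haveI : L.Normal := Subgroup.normal_subgroupOf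
        have hLs : Group.IsSolvable L := by
          have h1 : L.map X.subtype ≤ H ⊓ N i.castSucc := by
            rintro _ ⟨⟨x, hx⟩, hxL, rfl⟩
            exact ⟨hx.1, hxL⟩
          have : Group.IsSolvable (L.map X.subtype) := Cfsg.Agent.Solvable.isSolvable_of_le h1
          exact Group.isSolvable_of_surjective (f := (L.equivMapOfInjective X.subtype X.subtype_injective).symm.toMonoidHom)
            (L.equivMapOfInjective X.subtype X.subtype_injective).symm.surjective
        have hd1 : Nat.card (X ⧸ L) ∣ (N i.castSucc).relIndex (N i.succ) := by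
          rw [← Subgroup.index_eq_card]
          exact Cfsg.Agent.Solvable.relIndex_dvd_relIndex_of_normal inf_le_right
        have hd2 : Nat.card (X ⧸ L) ∣ Nat.card H :=
          (Subgroup.card_quotient_dvd_card L).trans (Subgroup.card_dvd_of_le inf_le_left)
        have hQ : Group.IsSolvable (X ⧸ L) := by
          rcases hidx i with ⟨p, -, hp, k, hk⟩ | hnot
          · haveI := Fact.mk hp
            rw [hk] at hd1
            obtain ⟨j, -, hj⟩ := (Nat.dvd_prime_pow hp).1 hd1
            haveI := (IsPGroup.of_card (p := p) hj).isNilpotent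
            infer_instance
          · have h1 : Nat.card (X ⧸ L) = 1 := by
              by_contra hne
              obtain ⟨q, hq, hqd⟩ := Nat.exists_prime_and_dvd hne
              exact hnot q hq (hqd.trans hd1) (hHπ q hq (hqd.trans hd2))
            haveI := (Nat.card_eq_one_iff_unique.1 h1).1
            exact Group.isSolvable_of_comm fun a b => Subsingleton.elim _ _
        exact Group.isSolvable_of_ker_le_range L.subtype (QuotientGroup.mk' L) (by
          rw [QuotientGroup.ker_mk', Subgroup.range_subtype])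
    have := key (Fin.last n)
    rwa [hNn, inf_top_eq] at this
  have hsep : Cfsg.Agent.Solvable.IsPiSeparable π G := by
    refine Cfsg.Agent.Solvable.isPiSeparable_of_chain N hN0 hNn hnorm fun i => ?_
    rcases hidx i with ⟨p, hpπ, hp, k, hk⟩ | hnot
    · refine Or.inl fun q hq hd => ?_
      rw [hk] at hd
      rwa [(Nat.prime_dvd_prime_iff_eq hq hp).1 (hq.dvd_of_dvd_pow hd)]
    · exact Or.inr fun q hq hd => hnot q hq hd
  -- work modulo the core
  set O := Cfsg.piCore π G with hO
  have hOH : O ≤ H := by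
    let f := QuotientGroup.mk' O
    intro g hg
    have hd1 : H.relIndex (H ⊔ O) ∣ H.index := Subgroup.relIndex_dvd_index_of_le le_sup_left
    have hd2 : H.relIndex (H ⊔ O) ∣ Nat.card O := by
      have h1 := Cfsg.Agent.Solvable.card_sup_mul_card_inf H O
      have h2 : Nat.card H * H.relIndex (H ⊔ O) = Nat.card (H ⊔ O : Subgroup G) := by
        have h3 := Subgroup.relIndex_mul_relIndex ⊥ H (H ⊔ O) bot_le le_sup_left
        rwa [Subgroup.relIndex_bot_left, Subgroup.relIndex_bot_left] at h3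
      rw [← h2, mul_assoc] at h1
      exact Dvd.intro _ (mul_left_cancel₀ Nat.card_pos.ne' h1)
    have h1 : H.relIndex (H ⊔ O) = 1 := by
      by_contra hne
      obtain ⟨q, hq, hqd⟩ := Nat.exists_prime_and_dvd hne
      exact hHi q hq (Cfsg.Agent.Cores.card_piCore π hq (hqd.trans hd2)) (hqd.trans hd1)
    exact Subgroup.relIndex_eq_one.1 h1 (Subgroup.mem_sup_right hg)
  let f := QuotientGroup.mk' O
  have hf : Function.Surjective f := QuotientGroup.mk'_surjective O
  let H' := H.map f
  haveI hH's : Group.IsSolvable H' :=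
    Group.isSolvable_of_surjective (f := f.subgroupMap H) (f.subgroupMap_surjective H)
  let K : Subgroup (G ⧸ O) := Cfsg.piCore πᶜ (G ⧸ O)
  have hcop : (Nat.card H').Coprime (Nat.card K) := by
    refine Nat.coprime_of_dvd fun q hq h1 h2 => ?_
    exact Cfsg.Agent.Cores.card_piCore πᶜ hq h2 (hHπ q hq (h1.trans (Subgroup.card_map_dvd _ _)))
  have hinf : H' ⊓ K = ⊥ := Cfsg.Agent.Coprime.inf_eq_bot hcop
  have hCK : Subgroup.centralizer (K : Set (G ⧸ O)) ≤ K :=
    Cfsg.Agent.Solvable.centralizer_piCore_le ((hsep.quotient O).compl)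
      (by rw [compl_compl]; exact Cfsg.Agent.Cores.piCore_quotient_self π)
  letI : MulDistribMulAction H' K := MulDistribMulAction.compHom _ ((MulAut.conjNormal (H := K)).comp H'.subtype)
  have hsmul : ∀ (h : H') (k : K), ((h • k : K) : G ⧸ O) = (h : G ⧸ O) * k * (h : G ⧸ O)⁻¹ := fun h k =>
    MulAut.conjNormal_apply (H := K) (h : G ⧸ O) k
  haveI : FaithfulSMul H' K := ⟨fun {a b} hab => by
    have h1 : ((b : G ⧸ O)⁻¹ * a) ∈ Subgroup.centralizer (K : Set (G ⧸ O)) := by
      refine Subgroup.mem_centralizer_iff.2 fun k hk => ?_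
      have := congrArg (fun z : K => (b : G ⧸ O)⁻¹ * (z : G ⧸ O) * b) (hab ⟨k, hk⟩)
      simp only [hsmul] at this
      have h2 : (b : G ⧸ O)⁻¹ * a * k * ((b : G ⧸ O)⁻¹ * a)⁻¹ = k := by
        calc _ = (b : G ⧸ O)⁻¹ * ((a : G ⧸ O) * k * (a : G ⧸ O)⁻¹) * b := by group
          _ = _ := by rw [this]; group
      exact (mul_inv_eq_iff_eq_mul.1 h2).symm
    have h3 : ((b : G ⧸ O)⁻¹ * a) ∈ H' ⊓ K := Subgroup.mem_inf.2 ⟨H'.mul_mem (H'.inv_mem b.2) a.2, hCK h1⟩
    rw [hinf, Subgroup.mem_bot] at h3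
    exact Subtype.ext (inv_mul_eq_one.1 h3).symm⟩
  obtain ⟨u, v, huv⟩ := Cfsg.Agent.BaseTwo.exists_two_points (A := H') (K := K) hcop
  obtain ⟨x, hx⟩ := hf (u : G ⧸ O)
  obtain ⟨y, hy⟩ := hf (v : G ⧸ O)
  refine ⟨x, y, le_antisymm (fun g hg => ?_) (le_inf (le_inf hOH ?_) ?_)⟩
  · have key : ∀ (z : G) (w : K), f z = w → g ∈ H → g ∈ MulAut.conj z • H →
        ∀ hg' : f g ∈ H', (⟨f g, hg'⟩ : H') • w = w := by
      intro z w hz h1 h2 hg'
      obtain ⟨h', hh', e⟩ := h2
      have e : z * h' * z⁻¹ = g := e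
      have e2 : f g = (w : G ⧸ O) * f h' * (w : G ⧸ O)⁻¹ := by rw [← e, map_mul, map_mul, map_inv, hz]
      have hh'' : f h' ∈ H' := ⟨h', hh', rfl⟩
      have hKn : K.Normal := inferInstance
      have h3 : f g * (f h')⁻¹ ∈ H' ⊓ K := by
        refine Subgroup.mem_inf.2 ⟨H'.mul_mem hg' (H'.inv_mem hh''), ?_⟩
        rw [e2, show (w : G ⧸ O) * f h' * (w : G ⧸ O)⁻¹ * (f h')⁻¹ =
          (w : G ⧸ O) * (f h' * (w : G ⧸ O)⁻¹ * (f h')⁻¹) by group]
        exact mul_mem w.2 (hKn.conj_mem _ (inv_mem w.2) _)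
      rw [hinf, Subgroup.mem_bot, mul_inv_eq_one] at h3
      rw [← h3] at e2
      refine Subtype.ext ?_
      rw [hsmul]
      show f g * (w : G ⧸ O) * (f g)⁻¹ = w
      rw [mul_inv_eq_iff_eq_mul]
      exact (eq_mul_inv_iff_mul_eq.1 e2)
    obtain ⟨⟨hgH, hgx⟩, hgy⟩ := hg
    have hg' : f g ∈ H' := ⟨g, hgH, rfl⟩
    have h1 := huv ⟨f g, hg'⟩ (key x u hx hgH hgx hg') (key y v hy hgH hgy hg')
    exact (QuotientGroup.eq_one_iff g).1 (congrArg Subtype.val h1)
  · intro o ho
    exact ⟨x⁻¹ * o * x, hOH ((inferInstance : O.Normal).conj_mem' o ho x), show x * (x⁻¹ * o * x) * x⁻¹ = o by group⟩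
  · intro o ho
    exact ⟨y⁻¹ * o * y, hOH ((inferInstance : O.Normal).conj_mem' o ho y), show y * (y⁻¹ * o * y) * y⁻¹ = o by group⟩

end Cfsg.Agent.S4373
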