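import Cfsg.Statements.S4377
import Cfsg.Agent.EqLemmas

set_option autoImplicit false
open Cfsg

namespace Cfsg.Agent.S4377

theorem count_pow (G : Type*) [Group G] [Finite G] {n : ℕ} (hn : n ≠ 0) :
    Nat.card {g : G // g ^ n = 1} = ∑ d ∈ n.divisors, Nat.card {g : G // orderOf g = d} := by
  classical
  cases nonempty_fintype G
  simp only [Nat.card_eq_fintype_card, Fintype.card_subtype]
  rw [Finset.card_eq_sum_card_fiberwise (f := orderOf) (t := n.divisors)]
  · refine Finset.sum_congr rfl fun d hd => congrArg Finset.card ?_
    ext g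
    simp only [Finset.mem_filter, Finset.mem_univ, true_and, and_iff_right_iff_imp]
    intro h
    exact orderOf_dvd_iff_pow_eq_one.1 (h ▸ (Nat.mem_divisors.1 hd).1)
  · intro g hg
    simp only [Finset.coe_filter, Finset.mem_univ, true_and, Set.mem_setOf_eq] at hg
    exact Nat.mem_divisors.2 ⟨orderOf_dvd_iff_pow_eq_one.2 hg, hn⟩

theorem card_pow_zero (G : Type*) [Group G] : Nat.card {g : G // g ^ 0 = 1} = Nat.card G :=
  Nat.card_congr (Equiv.subtypeUnivEquiv fun g => pow_zero g)

theorem card_pow_of_dvd (G : Type*) [Group G] {n : ℕ} (h : Nat.card G ∣ n) :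
    Nat.card {g : G // g ^ n = 1} = Nat.card G :=
  Nat.card_congr (Equiv.subtypeUnivEquiv fun g => by
    obtain ⟨c, rfl⟩ := h
    rw [pow_mul, pow_card_eq_one', one_pow])

/-- Two finite groups have the same number of elements of each order if and only if, for every n, they have the same number of elements g with gⁿ = 1. -/
theorem result {G H : Type*} [Group G] [Finite G] [Group H] [Finite H] :
    (∀ n : ℕ, Nat.card {g : G // orderOf g = n} = Nat.card {h : H // orderOf h = n}) ↔
      ∀ n : ℕ, Nat.card {g : G // g ^ n = 1} = Nat.card {h : H // h ^ n = 1} := by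
  constructor
  · intro h n
    rcases Nat.eq_zero_or_pos n with rfl | hn
    · have hm : Nat.card G * Nat.card H ≠ 0 := Nat.mul_ne_zero Nat.card_pos.ne' Nat.card_pos.ne'
      rw [card_pow_zero, card_pow_zero]
      refine (card_pow_of_dvd G (dvd_mul_right _ (Nat.card H))).symm.trans (Eq.trans ?_ (card_pow_of_dvd H (dvd_mul_left _ (Nat.card G))))
      rw [count_pow G hm, count_pow H hm]
      simp only [h]
    · rw [count_pow G hn.ne', count_pow H hn.ne']
      simp only [h]
  · intro h n
    induction n using Nat.strong_induction_on with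
    | _ n ih =>
      rcases Nat.eq_zero_or_pos n with rfl | hn
      · haveI : IsEmpty {g : G // orderOf g = 0} := ⟨fun g => (orderOf_pos g.1).ne' g.2⟩
        haveI : IsEmpty {g : H // orderOf g = 0} := ⟨fun g => (orderOf_pos g.1).ne' g.2⟩
        rw [Nat.card_of_isEmpty, Nat.card_of_isEmpty]
      · have h1 := h n
        rw [count_pow G hn.ne', count_pow H hn.ne', ← Nat.insert_self_properDivisors hn.ne',
          Finset.sum_insert Nat.self_notMem_properDivisors,
          Finset.sum_insert Nat.self_notMem_properDivisors,
          Finset.sum_congr rfl (fun d hd => ih d (Nat.mem_properDivisors.1 hd).2)] at h1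
        exact Nat.add_right_cancel h1

end Cfsg.Agent.S4377
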