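import Cfsg.Statements.S4376
import Cfsg.Agent.EqLemmas
import Cfsg.Agent.S4377
import Cfsg.Agent.Lib.OrderType.GL32
import Cfsg.Agent.Lib.OrderType.Parts1
import Cfsg.Agent.Lib.OrderType.Parts2
import Cfsg.Agent.Lib.OrderType.Parts3

/-!
A solvable group and a non-solvable group with the same order type: a product of powers of small
solvable groups against a power of `GL(3,2)` times such a product.
-/

set_option autoImplicit false
set_option synthInstance.maxSize 100000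
open Cfsg

namespace Cfsg.Agent.S4376

open Cfsg.Agent.OrderType

/-- The solvable group. -/
abbrev GS : Type :=
  (Fin 18 → P03.G) ×
  (Fin 8 → P04.G) ×
  (Fin 42 → P05.G) ×
  (Fin 15 → P07.G) ×
  (Fin 12 → P08.G) ×
  (Fin 30 → P10.G) ×
  (Fin 6 → P13.G) ×
  (Fin 30 → P14.G) ×
  (Fin 18 → P17.G) ×
  (Fin 16 → P18.G) ×
  (Fin 24 → P20.G) ×
  (Fin 12 → P22.G) ×
  (Fin 24 → P25.G) ×
  (Fin 24 → P26.G)

/-- The solvable part of the non-solvable group. -/
abbrev GR : Type :=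
  (Fin 213 → P00.G) ×
  (Fin 24 → P01.G) ×
  (Fin 27 → P02.G) ×
  (Fin 18 → P06.G) ×
  (Fin 32 → P09.G) ×
  (Fin 15 → P11.G) ×
  (Fin 12 → P12.G) ×
  (Fin 42 → P15.G) ×
  (Fin 6 → P16.G) ×
  (Fin 12 → P19.G) ×
  (Fin 6 → P21.G) ×
  (Fin 24 → P23.G) ×
  (Fin 16 → P24.G)

/-- The non-solvable group. -/
abbrev GN : Type := (Fin 24 → M32ˣ) × GR

theorem tbl_eq {G : Type} [Monoid G] {L : List ℕ} (h : divs84.map (cnt G) = L) {i : ℕ} (hi : i < 12) :
    cnt G (divs84.getD i 0) = L.getD i 0 := by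
  subst h
  rw [List.getD_eq_getElem _ _ (by simpa [divs84] using hi), List.getD_eq_getElem _ _ (by simpa [divs84] using hi),
    List.getElem_map]

theorem cnt_GS {i : ℕ} (hi : i < 12) : cnt GS (divs84.getD i 0) =
    [1, 4, 3, 4, 6, 1, 6, 4, 3, 4, 6, 6].getD i 0 ^ 18 *
    ([1, 1, 1, 1, 1, 7, 1, 7, 7, 7, 7, 7].getD i 0 ^ 8 *
    ([1, 6, 1, 8, 6, 1, 8, 6, 1, 8, 6, 8].getD i 0 ^ 42 *
    ([1, 8, 1, 8, 8, 7, 8, 14, 7, 14, 14, 14].getD i 0 ^ 15 *
    ([1, 10, 9, 10, 18, 1, 18, 10, 9, 10, 18, 18].getD i 0 ^ 12 *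
    ([1, 10, 3, 16, 18, 1, 24, 10, 3, 16, 18, 24].getD i 0 ^ 30 *
    ([1, 22, 3, 22, 24, 7, 24, 28, 21, 28, 42, 42].getD i 0 ^ 6 *
    ([1, 8, 15, 8, 36, 7, 36, 14, 21, 14, 42, 42].getD i 0 ^ 30 *
    ([1, 2, 15, 16, 30, 7, 72, 14, 21, 28, 42, 84].getD i 0 ^ 18 *
    ([1, 50, 1, 50, 50, 49, 50, 98, 49, 98, 98, 98].getD i 0 ^ 16 *
    ([1, 8, 57, 8, 120, 49, 120, 56, 105, 56, 168, 168].getD i 0 ^ 24 *
    ([1, 2, 9, 128, 18, 7, 144, 14, 63, 140, 126, 252].getD i 0 ^ 12 *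
    ([1, 104, 1, 256, 104, 7, 256, 224, 7, 448, 224, 448].getD i 0 ^ 24 *
    ([1, 44, 9, 104, 144, 7, 288, 56, 63, 224, 252, 504].getD i 0 ^ 24))))))))))))) := by
  simp only [cnt_prod, cnt_pi, tbl_eq P03.tbl hi, tbl_eq P04.tbl hi, tbl_eq P05.tbl hi, tbl_eq P07.tbl hi, tbl_eq P08.tbl hi, tbl_eq P10.tbl hi, tbl_eq P13.tbl hi, tbl_eq P14.tbl hi, tbl_eq P17.tbl hi, tbl_eq P18.tbl hi, tbl_eq P20.tbl hi, tbl_eq P22.tbl hi, tbl_eq P25.tbl hi, tbl_eq P26.tbl hi]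

theorem cnt_GN {i : ℕ} (hi : i < 12) : cnt GN (divs84.getD i 0) =
    [1, 22, 57, 64, 78, 49, 120, 70, 105, 112, 126, 168].getD i 0 ^ 24 *
    ([1, 2, 1, 2, 2, 1, 2, 2, 1, 2, 2, 2].getD i 0 ^ 213 *
    ([1, 1, 3, 1, 3, 1, 3, 1, 3, 1, 3, 3].getD i 0 ^ 24 *
    ([1, 2, 1, 4, 2, 1, 4, 2, 1, 4, 2, 4].getD i 0 ^ 27 *
    ([1, 2, 3, 8, 6, 1, 12, 2, 3, 8, 6, 12].getD i 0 ^ 18 *
    ([1, 1, 15, 1, 15, 7, 15, 7, 21, 7, 21, 21].getD i 0 ^ 32 *
    ([1, 2, 1, 16, 2, 7, 16, 14, 7, 28, 14, 28].getD i 0 ^ 15 *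
    ([1, 2, 9, 20, 18, 1, 36, 2, 9, 20, 18, 36].getD i 0 ^ 12 *
    ([1, 30, 1, 32, 30, 7, 32, 42, 7, 56, 42, 56].getD i 0 ^ 42 *
    ([1, 2, 3, 44, 6, 7, 48, 14, 21, 56, 42, 84].getD i 0 ^ 6 *
    ([1, 64, 9, 64, 72, 7, 72, 70, 63, 70, 126, 126].getD i 0 ^ 12 *
    ([1, 22, 3, 64, 54, 7, 96, 70, 21, 112, 126, 168].getD i 0 ^ 6 *
    ([1, 52, 9, 52, 144, 7, 144, 112, 63, 112, 252, 252].getD i 0 ^ 24 *
    ([1, 50, 15, 50, 162, 49, 162, 98, 147, 98, 294, 294].getD i 0 ^ 16))))))))))))) := by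
  simp only [cnt_prod, cnt_pi, tbl_eq tbl_units hi, tbl_eq P00.tbl hi, tbl_eq P01.tbl hi, tbl_eq P02.tbl hi, tbl_eq P06.tbl hi, tbl_eq P09.tbl hi, tbl_eq P11.tbl hi, tbl_eq P12.tbl hi, tbl_eq P15.tbl hi, tbl_eq P16.tbl hi, tbl_eq P19.tbl hi, tbl_eq P21.tbl hi, tbl_eq P23.tbl hi, tbl_eq P24.tbl hi]

theorem exponent_of_cnt {G : Type} [Monoid G] [Finite G] {e : ℕ} (h : cnt G e = Nat.card G) (g : G) :
    g ^ e = 1 := by
  have hb := (Nat.bijective_iff_injective_and_card (Subtype.val : {g : G // g ^ e = 1} → G)).2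
    ⟨Subtype.val_injective, h⟩
  obtain ⟨⟨x, hx⟩, rfl⟩ := hb.2 g
  exact hx

theorem card_eq_of_tbl {G : Type} [Monoid G] [Fintype G] {L : List ℕ} (h : divs84.map (cnt G) = L)
    (hc : Fintype.card G = L.getD 11 0) : ∀ g : G, g ^ 84 = 1 :=
  exponent_of_cnt (by
    have := tbl_eq h (show 11 < 12 by norm_num)
    rw [Nat.card_eq_fintype_card, hc]
    exact this)

theorem pi_pow {G : Type} [Monoid G] (h : ∀ g : G, g ^ 84 = 1) (c : ℕ) (g : Fin c → G) : g ^ 84 = 1 :=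
  funext fun i => h (g i)

theorem prod_pow {G H : Type} [Monoid G] [Monoid H] (h : ∀ g : G, g ^ 84 = 1) (h' : ∀ g : H, g ^ 84 = 1)
    (g : G × H) : g ^ 84 = 1 :=
  Prod.ext (h g.1) (h' g.2)

theorem pow_GS : ∀ g : GS, g ^ 84 = 1 :=
  prod_pow (pi_pow (card_eq_of_tbl P03.tbl (by decide +kernel)) _) <| prod_pow (pi_pow (card_eq_of_tbl P04.tbl (by decide +kernel)) _) <| prod_pow (pi_pow (card_eq_of_tbl P05.tbl (by decide +kernel)) _) <| prod_pow (pi_pow (card_eq_of_tbl P07.tbl (by decide +kernel)) _) <| prod_pow (pi_pow (card_eq_of_tbl P08.tbl (by decide +kernel)) _) <| prod_pow (pi_pow (card_eq_of_tbl P10.tbl (by decide +kernel)) _) <| prod_pow (pi_pow (card_eq_of_tbl P13.tbl (by decide +kernel)) _) <| prod_pow (pi_pow (card_eq_of_tbl P14.tbl (by decide +kernel)) _) <| prod_pow (pi_pow (card_eq_of_tbl P17.tbl (by decide +kernel)) _) <| prod_pow (pi_pow (card_eq_of_tbl P18.tbl (by decide +kernel)) _) <|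 prod_pow (pi_pow (card_eq_of_tbl P20.tbl (by decide +kernel)) _) <| prod_pow (pi_pow (card_eq_of_tbl P22.tbl (by decide +kernel)) _) <| prod_pow (pi_pow (card_eq_of_tbl P25.tbl (by decide +kernel)) _) <| pi_pow (card_eq_of_tbl P26.tbl (by decide +kernel)) _

theorem pow_GN : ∀ g : GN, g ^ 84 = 1 :=
  prod_pow (pi_pow (exponent_of_cnt (by
    rw [card_units]
    exact tbl_eq tbl_units (show 11 < 12 by norm_num))) _) <| prod_pow (pi_pow (card_eq_of_tbl P00.tbl (by decide +kernel)) _) <| prod_pow (pi_pow (card_eq_of_tbl P01.tbl (by decide +kernel)) _) <| prod_pow (pi_pow (card_eq_of_tbl P02.tbl (by decide +kernel)) _) <| prod_pow (pi_pow (card_eq_of_tbl P06.tbl (by decide +kernel)) _) <| prod_pow (pi_pow (card_eq_of_tbl P09.tbl (by decide +kernel)) _) <| prod_pow (pi_pow (card_eq_of_tbl P11.tbl (by decide +kernel)) _) <| prod_pow (pi_pow (card_eq_of_tbl P12.tbl (by decide +kernel)) _) <| prod_pow (pi_pow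 (card_eq_of_tbl P15.tbl (by decide +kernel)) _) <| prod_pow (pi_pow (card_eq_of_tbl P16.tbl (by decide +kernel)) _) <| prod_pow (pi_pow (card_eq_of_tbl P19.tbl (by decide +kernel)) _) <| prod_pow (pi_pow (card_eq_of_tbl P21.tbl (by decide +kernel)) _) <| prod_pow (pi_pow (card_eq_of_tbl P23.tbl (by decide +kernel)) _) <| pi_pow (card_eq_of_tbl P24.tbl (by decide +kernel)) _

theorem cnt_eq (n : ℕ) : cnt GS n = cnt GN n := by
  rw [cnt_gcd pow_GS, cnt_gcd pow_GN]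
  have hd : Nat.gcd n 84 ∈ Nat.divisors 84 := Nat.mem_divisors.2 ⟨Nat.gcd_dvd_right _ _, by norm_num⟩
  generalize Nat.gcd n 84 = d at hd
  obtain ⟨i, hi, rfl⟩ : ∃ i < 12, divs84.getD i 0 = d := by
    have : ∀ d ∈ Nat.divisors 84, ∃ i < 12, divs84.getD i 0 = d := by decide +kernel
    exact this d hd
  rw [cnt_GS hi, cnt_GN hi]
  revert i
  decide +kernel

theorem solvable_GS : Group.IsSolvable GS := by
  haveI := P03.solvable
  haveI := isSolvable_pi P03.G 18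
  haveI := P04.solvable
  haveI := isSolvable_pi P04.G 8
  haveI := P05.solvable
  haveI := isSolvable_pi P05.G 42
  haveI := P07.solvable
  haveI := isSolvable_pi P07.G 15
  haveI := P08.solvable
  haveI := isSolvable_pi P08.G 12
  haveI := P10.solvable
  haveI := isSolvable_pi P10.G 30
  haveI := P13.solvable
  haveI := isSolvable_pi P13.G 6
  haveI := P14.solvable
  haveI := isSolvable_pi P14.G 30
  haveI := P17.solvable
  haveI := isSolvable_pi P17.G 18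
  haveI := P18.solvable
  haveI := isSolvable_pi P18.G 16
  haveI := P20.solvable
  haveI := isSolvable_pi P20.G 24
  haveI := P22.solvable
  haveI := isSolvable_pi P22.G 12
  haveI := P25.solvable
  haveI := isSolvable_pi P25.G 24
  haveI := P26.solvable
  haveI := isSolvable_pi P26.G 24
  infer_instance

theorem not_solvable_GN : ¬ Group.IsSolvable GN := fun h => by
  refine not_isSolvable_units (Group.isSolvable_of_surjective
    (f := (Pi.evalMonoidHom (fun _ : Fin 24 => M32ˣ) 0).comp (MonoidHom.fst (Fin 24 → M32ˣ) GR)) fun x => ?_)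
  exact ⟨(fun _ => x, 1), rfl⟩

/-- There are finite groups G and H having the same number of elements of each order (the same order type) with G solvable and H not solvable. -/
theorem result :
    ∃ (G : Type) (_ : Group G) (_ : Finite G) (H : Type) (_ : Group H) (_ : Finite H),
      Group.IsSolvable G ∧ ¬ Group.IsSolvable H ∧ ∀ n : ℕ, Nat.card {g : G // orderOf g = n} = Nat.card {h : H // orderOf h = n} := by
  refine ⟨GS, inferInstance, inferInstance, GN, inferInstance, inferInstance, solvable_GS,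
    not_solvable_GN, ?_⟩
  exact (Cfsg.Agent.S4377.result (G := GS) (H := GN)).2 cnt_eq

end Cfsg.Agent.S4376
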