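import Cfsg.Statements.S4378
import Cfsg.Agent.Lib.Solvable.PLengthTwo

set_option autoImplicit false
open Cfsg

namespace Cfsg.Agent.S4378

/-- Let G be a finite solvable group in which every maximal subgroup either has a normal 2-complement or has prime index. Then G has a chain of normal subgroups 1 ≤ A ≤ B ≤ C ≤ G in which A and C/B have odd order and B/A and G/C are 2-groups (so the 2-length of G is at most 2). -/
theorem result {G : Type*} [Group G] [Finite G]
    (hG : Group.IsSolvable G)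
    (hmax : ∀ M : Subgroup G, IsCoatom M → (∃ K : Subgroup ↥M, K.Normal ∧ ¬ 2 ∣ Nat.card K ∧ ∃ k : ℕ, K.index = 2 ^ k) ∨ (M.index).Prime) :
    ∃ A B C : Subgroup G, A.Normal ∧ B.Normal ∧ C.Normal ∧ A ≤ B ∧ B ≤ C ∧ Odd (Nat.card A) ∧
      (∃ k : ℕ, A.relIndex B = 2 ^ k) ∧ Odd (B.relIndex C) ∧ ∃ k : ℕ, C.index = 2 ^ k := by
  have := hG
  open Cfsg.Agent.Solvable in
  have hm : Cfsg.Agent.Solvable.MaxHyp 2 G := fun M hM => (hmax M hM).imp_left
    fun ⟨K, hK, hd, k, hk⟩ => ⟨K, hK, (isPiNum_compl_singleton_iff Nat.prime_two).2 hd,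
      hk ▸ isPiNum_pow Nat.prime_two (Set.mem_singleton _) k⟩
  open Cfsg.Agent.Solvable in
  obtain ⟨A, B, C, hA, hB, hC, hAB, hBC, h1, h2, h3, h4⟩ := pChain_of_maximal Nat.prime_two (Cfsg.Agent.Solvable.isPiSeparable_of_isSolvable {2}) hm
  open Cfsg.Agent.Solvable in
  have hAB' := (isPiNum_singleton_iff (Subgroup.index_ne_zero_of_finite : (A.subgroupOf B).index ≠ 0) Nat.prime_two).1 h2
  open Cfsg.Agent.Solvable in
  have hC' := (isPiNum_singleton_iff Subgroup.index_ne_zero_of_finite Nat.prime_two).1 h4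
  rw [Cfsg.Agent.Solvable.isPiNum_compl_singleton_iff Nat.prime_two] at h1 h3
  exact ⟨A, B, C, hA, hB, hC, hAB, hBC, Nat.not_even_iff_odd.1 (mt even_iff_two_dvd.1 h1), hAB',
    Nat.not_even_iff_odd.1 (mt even_iff_two_dvd.1 h3), hC'⟩

end Cfsg.Agent.S4378
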