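import Cfsg.Statements.S4381
import Cfsg.Agent.EqLemmas
import Cfsg.Agent.Lib.Coprime.Action
import Cfsg.Agent.Lib.PGroup.Basic

set_option autoImplicit false
open Pointwise
open scoped commutatorElement
open Cfsg

namespace Cfsg.Agent.S4381

/-- A coprime group acting on an elementary abelian quotient: a proper invariant subgroup above the
Frattini subgroup has an invariant partner not contained in it. -/
theorem exists_invariant_not_le {A G : Type*} [Group A] [Finite A] [Group G] [Finite G]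
    [MulDistribMulAction A G] (hcop : (Nat.card A).Coprime (Nat.card G)) {p : ℕ} [Fact p.Prime]
    (hG : IsPGroup p G) (M : Subgroup G) (hM : ∀ a : A, ∀ x ∈ M, a • x ∈ M)
    (hlt : frattini G < M) (hne : M ≠ ⊤) :
    ∃ L : Subgroup G, L ≠ ⊤ ∧ (∀ a : A, ∀ x ∈ L, a • x ∈ L) ∧ ¬ L ≤ M := by
  classical
  set Φ := frattini G with hΦ
  haveI : Φ.Normal := Subgroup.normal_of_characteristic Φ
  have hΦinv : ∀ a : A, Φ ≤ Φ.comap (MulDistribMulAction.toMonoidHom G a) := fun a =>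
    ((frattini_characteristic (G := G)).fixed (MulDistribMulAction.toMulEquiv G a)).ge
  letI : CommGroup (G ⧸ Φ) :=
    { (inferInstance : Group (G ⧸ Φ)) with
      mul_comm := fun u v => by
        obtain ⟨x, rfl⟩ := QuotientGroup.mk_surjective u
        obtain ⟨y, rfl⟩ := QuotientGroup.mk_surjective v
        rw [← QuotientGroup.mk_mul, ← QuotientGroup.mk_mul, QuotientGroup.eq,
          show (x * y)⁻¹ * (y * x) = ⁅y⁻¹, x⁻¹⁆ by rw [commutatorElement_def]; group]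
        exact PGroup.commutatorElement_mem_frattini hG _ _ }
  let σ : A → (G ⧸ Φ →* G ⧸ Φ) := fun a => QuotientGroup.map Φ Φ _ (hΦinv a)
  have hσ : ∀ (a : A) (x : G), σ a (x : G ⧸ Φ) = ((a • x : G) : G ⧸ Φ) := fun a x => rfl
  have hσmul : ∀ (a b : A) (q : G ⧸ Φ), σ a (σ b q) = σ (a * b) q := by
    intro a b q
    obtain ⟨x, rfl⟩ := QuotientGroup.mk_surjective q
    rw [hσ, hσ, hσ, mul_smul]
  have hσone : ∀ q : G ⧸ Φ, σ 1 q = q := by
    intro q
    obtain ⟨x, rfl⟩ := QuotientGroup.mk_surjective q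
    rw [hσ, one_smul]
  set U := M.map (QuotientGroup.mk' Φ) with hU
  have hUmem : ∀ x : G, (x : G ⧸ Φ) ∈ U ↔ x ∈ M := by
    intro x
    refine ⟨fun h => ?_, fun h => Subgroup.mem_map_of_mem _ h⟩
    have : x ∈ U.comap (QuotientGroup.mk' Φ) := h
    rwa [hU, QuotientGroup.comap_map_mk', sup_eq_right.mpr hlt.le] at this
  have hUσ : ∀ (a : A), ∀ q ∈ U, σ a q ∈ U := by
    rintro a _ ⟨x, hx, rfl⟩
    exact Subgroup.mem_map_of_mem _ (hM a x hx)
  -- a complement
  obtain ⟨W, -, hW⟩ := Finite.exists_le_maximal (p := fun W : Subgroup (G ⧸ Φ) => U ⊓ W = ⊥) (inf_bot_eq U)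
  have hexp : ∀ q : G ⧸ Φ, q ^ p = 1 := by
    intro q
    obtain ⟨x, rfl⟩ := QuotientGroup.mk_surjective q
    rw [← QuotientGroup.mk_pow, QuotientGroup.eq_one_iff]
    exact PGroup.pow_mem_frattini hG x
  have hUW : U ⊔ W = ⊤ := by
    refine (Subgroup.eq_top_iff' _).mpr fun q => ?_
    by_contra hq
    have hWle : W ⊔ Subgroup.zpowers q ≤ W := hW.2 ((le_bot_iff.mp ?_)) le_sup_left
    · exact hq (Subgroup.mem_sup_right (hWle (Subgroup.mem_sup_right (Subgroup.mem_zpowers q))))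
    rintro u ⟨hu, huW⟩
    obtain ⟨w, hw, t, ⟨i, rfl⟩, rfl⟩ := Subgroup.mem_sup.mp huW
    have hi : q ^ i ∈ U ⊔ W := by
      have : q ^ i = w⁻¹ * (w * q ^ i) := by group
      rw [this]
      exact mul_mem (Subgroup.mem_sup_right (inv_mem hw)) (Subgroup.mem_sup_left hu)
    by_cases hdiv : (p : ℤ) ∣ i
    · obtain ⟨j, rfl⟩ := hdiv
      simp only [zpow_mul, zpow_natCast, hexp, one_zpow, mul_one] at hu ⊢
      exact hW.1.le ⟨hu, hw⟩
    · exfalso
      obtain ⟨r, s, hrs⟩ := ((Nat.prime_iff_prime_int.mp Fact.out).coprime_iff_not_dvd.mpr hdiv :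
        IsCoprime (p : ℤ) i)
      refine hq ?_
      have : q = (q ^ i) ^ s := by
        conv_lhs => rw [← zpow_one q, ← hrs, zpow_add, mul_comm r, zpow_mul, zpow_natCast, hexp,
          one_zpow, one_mul, mul_comm, zpow_mul]
      rw [this]
      exact zpow_mem hi s
  have hc : U.IsComplement' W := Subgroup.isComplement'_of_disjoint_and_mul_eq_univ
    (disjoint_iff.mpr hW.1) (by rw [← Subgroup.mul_normal, hUW, Subgroup.coe_top])
  let π : G ⧸ Φ →* G ⧸ Φ := U.subtype.comp (hc.QuotientMulEquiv.toMonoidHom.comp (QuotientGroup.mk' W))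
  have hπU : ∀ q, π q ∈ U := fun q => (hc.QuotientMulEquiv (QuotientGroup.mk' W q)).2
  have hπid : ∀ q ∈ U, π q = q := by
    intro q hq
    show ((hc.QuotientMulEquiv (QuotientGroup.mk' W q) : U) : G ⧸ Φ) = q
    rw [show hc.QuotientMulEquiv (QuotientGroup.mk' W q) = ⟨q, hq⟩ from
      (MulEquiv.apply_eq_iff_symm_apply hc.QuotientMulEquiv).mpr rfl]
  cases nonempty_fintype A
  let π' : G ⧸ Φ →* G ⧸ Φ := ∏ a : A, (σ a).comp (π.comp (σ a⁻¹))
  have hπ' : ∀ q, π' q = ∏ a : A, σ a (π (σ a⁻¹ q)) := fun q => by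
    simp [π', MonoidHom.finsetProd_apply]
  have hπ'U : ∀ q, π' q ∈ U := fun q => by
    rw [hπ']
    exact Subgroup.prod_mem U fun a _ => hUσ a _ (hπU _)
  have hπ'id : ∀ q ∈ U, π' q = q ^ Nat.card A := fun q hq => by
    rw [hπ', Nat.card_eq_fintype_card, ← Finset.card_univ, ← Finset.prod_const]
    refine Finset.prod_congr rfl fun a _ => ?_
    rw [hπid _ (hUσ _ _ hq), hσmul, mul_inv_cancel, hσone]
  have hpA : ¬ p ∣ Nat.card A := by
    intro h
    obtain ⟨k, hk⟩ := IsPGroup.iff_card.mp hG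
    rcases k with _ | k
    · haveI : Subsingleton G := (Nat.card_eq_one_iff_unique.mp (by rw [hk]; rfl)).1
      exact hne (Subsingleton.elim _ _)
    · exact (Fact.out : p.Prime).ne_one (Nat.eq_one_of_dvd_coprimes hcop h (hk ▸ dvd_pow_self p (Nat.succ_ne_zero k)))
  obtain ⟨n, hn⟩ : ∃ n : ℤ, ∀ q : G ⧸ Φ, (q ^ Nat.card A) ^ n = q := by
    obtain ⟨u, v, huv⟩ := (Nat.isCoprime_iff_coprime.mpr
      ((Fact.out : p.Prime).coprime_iff_not_dvd.mpr hpA) : IsCoprime (p : ℤ) (Nat.card A : ℤ))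
    refine ⟨v, fun q => ?_⟩
    conv_rhs => rw [← zpow_one q, ← huv, zpow_add, mul_comm u, zpow_mul, zpow_natCast, hexp, one_zpow,
      one_mul, mul_comm v, zpow_mul, zpow_natCast]
  refine ⟨π'.ker.comap (QuotientGroup.mk' Φ), ?_, ?_, ?_⟩
  · intro htop
    obtain ⟨x, hxM, hxΦ⟩ := SetLike.not_le_iff_exists.mp hlt.not_ge
    have hx : π' (x : G ⧸ Φ) = 1 :=
      MonoidHom.mem_ker.mp (Subgroup.mem_comap.mp (htop.symm ▸ Subgroup.mem_top x))
    rw [hπ'id _ ((hUmem x).mpr hxM)] at hx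
    have := hn (x : G ⧸ Φ)
    rw [hx, one_zpow] at this
    exact hxΦ ((QuotientGroup.eq_one_iff x).mp this.symm)
  · intro a x hx
    rw [Subgroup.mem_comap, MonoidHom.mem_ker] at hx ⊢
    have hcomm : π' (σ a (x : G ⧸ Φ)) = σ a (π' (x : G ⧸ Φ)) := by
      rw [hπ', hπ', map_prod]
      refine Fintype.prod_equiv (Equiv.mulLeft a⁻¹) _ _ fun b => ?_
      simp [hσmul, mul_assoc]
    show π' ((a • x : G) : G ⧸ Φ) = 1
    rw [← hσ, hcomm, show π' (x : G ⧸ Φ) = 1 from hx, map_one]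
  · intro hle
    obtain ⟨y, -, hy⟩ := SetLike.not_le_iff_exists.mp (fun h => hne (top_le_iff.mp h))
    obtain ⟨w, hwM, hw⟩ := hπ'U (y : G ⧸ Φ)
    have hwU : ((w : G) : G ⧸ Φ) ∈ U := (hUmem w).mpr hwM
    obtain ⟨v, hvM, hv⟩ : ∃ v ∈ M, π' (v : G ⧸ Φ) = π' (y : G ⧸ Φ) := by
      refine ⟨w ^ n, zpow_mem hwM n, ?_⟩
      rw [QuotientGroup.mk_zpow, hπ'id _ (zpow_mem hwU n), ← zpow_natCast, ← zpow_mul, mul_comm,
        zpow_mul, zpow_natCast, hn]
      exact hw
    have hker : y * v⁻¹ ∈ π'.ker.comap (QuotientGroup.mk' Φ) := by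
      rw [Subgroup.mem_comap, MonoidHom.mem_ker, map_mul, map_inv, map_mul, map_inv]
      exact mul_inv_eq_one.mpr hv.symm
    have := mul_mem (hle hker) hvM
    rw [inv_mul_cancel_right] at this
    exact hy this

/-- Let the finite group A act by automorphisms on the finite group G with the orders of A and G coprime, and assume that A or G is solvable. Call a proper A-invariant subgroup of G maximal A-invariant when no A-invariant subgroup lies strictly between it and G. Then all maximal A-invariant subgroups of G are conjugate under elements of the fixed-point subgroup C_G(A) if and only if G is a p-group for some prime p and A leaves invariant no subgroup strictly between the Frattini subgroup of G and G. In that case, if G is nontrivial, the Frattini subgroup is the only maximal A-invariant subgroup (a trivial G has none). -/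
theorem result {A G : Type*} [Group A] [Finite A]
    [Group G] [Finite G] [MulDistribMulAction A G] (hcop : (Nat.card A).Coprime (Nat.card G)) (hsol : Group.IsSolvable A ∨ Group.IsSolvable G) :
    ((∀ M N : Subgroup G, (M ≠ ⊤ ∧ (∀ a : A, ∀ x ∈ M, a • x ∈ M) ∧ ∀ L : Subgroup G, M < L → (∀ a : A, ∀ x ∈ L, a • x ∈ L) → L = ⊤) → (N ≠ ⊤ ∧ (∀ a : A, ∀ x ∈ N, a • x ∈ N) ∧ ∀ L : Subgroup G, N < L → (∀ a : A, ∀ x ∈ L, a • x ∈ L) → L = ⊤) →
        ∃ c : G, (∀ a : A, a • c = c) ∧ N = MulAut.conj c • M) ↔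
      ((∃ p : ℕ, p.Prime ∧ IsPGroup p G) ∧ ∀ L : Subgroup G, frattini G < L → (∀ a : A, ∀ x ∈ L, a • x ∈ L) → L = ⊤)) ∧
    (((∃ p : ℕ, p.Prime ∧ IsPGroup p G) ∧ ∀ L : Subgroup G, frattini G < L → (∀ a : A, ∀ x ∈ L, a • x ∈ L) → L = ⊤) →
      ∀ M : Subgroup G, (M ≠ ⊤ ∧ (∀ a : A, ∀ x ∈ M, a • x ∈ M) ∧ ∀ L : Subgroup G, M < L → (∀ a : A, ∀ x ∈ L, a • x ∈ L) → L = ⊤) ↔ (M = frattini G ∧ M ≠ ⊤)) := by
  classical
  let Good : Subgroup G → Prop := fun M => M ≠ ⊤ ∧ ∀ a : A, ∀ x ∈ M, a • x ∈ M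
  let Max : Subgroup G → Prop := fun M => M ≠ ⊤ ∧ (∀ a : A, ∀ x ∈ M, a • x ∈ M) ∧
    ∀ L : Subgroup G, M < L → (∀ a : A, ∀ x ∈ L, a • x ∈ L) → L = ⊤
  have hexists : ∀ H, Good H → ∃ M, H ≤ M ∧ Max M := by
    intro H hH
    obtain ⟨M, hHM, hM⟩ := Finite.exists_le_maximal (p := Good) hH
    refine ⟨M, hHM, hM.1.1, hM.1.2, fun L hL hLi => ?_⟩
    by_contra hLt
    exact hL.not_ge (hM.2 ⟨hLt, hLi⟩ hL.le)
  have hΦinv : ∀ a : A, ∀ x ∈ frattini G, a • x ∈ frattini G := fun a x hx =>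
    ((frattini_characteristic (G := G)).fixed (MulDistribMulAction.toMulEquiv G a)).ge hx
  have hinvsup : ∀ M N : Subgroup G, (∀ a : A, ∀ x ∈ M, a • x ∈ M) → (∀ a : A, ∀ x ∈ N, a • x ∈ N) →
      ∀ a : A, ∀ x ∈ M ⊔ N, a • x ∈ M ⊔ N := by
    intro M N hM hN a
    have : M ⊔ N ≤ (M ⊔ N).comap (MulDistribMulAction.toMonoidHom G a) := sup_le
      (fun x hx => Subgroup.mem_sup_left (hM a x hx)) (fun x hx => Subgroup.mem_sup_right (hN a x hx))
    exact fun x hx => this hx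
  have hΦle : ∀ M, Max M → frattini G ≤ M := by
    intro M hM
    by_contra h
    refine hM.1 (frattini_nongenerating (hM.2.2 (M ⊔ frattini G) ?_ (hinvsup _ _ hM.2.1 hΦinv)))
    exact lt_of_le_of_ne le_sup_left fun e => h (e ▸ le_sup_right)
  have huniq : ((∃ p : ℕ, p.Prime ∧ IsPGroup p G) ∧ ∀ L : Subgroup G, frattini G < L →
      (∀ a : A, ∀ x ∈ L, a • x ∈ L) → L = ⊤) → ∀ M, Max M → M = frattini G := by
    intro h M hM
    by_contra hne
    exact hM.1 (h.2 M (lt_of_le_of_ne (hΦle M hM) (Ne.symm hne)) hM.2.1)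
  refine ⟨⟨fun h => ?_, fun h M N hM hN => ?_⟩, fun h M => ⟨fun hM => ⟨huniq h M hM, hM.1⟩, ?_⟩⟩
  · obtain ⟨p, hp, hG⟩ : ∃ p : ℕ, p.Prime ∧ IsPGroup p G := by
      by_contra hnp
      push Not at hnp
      have hsyl : ∀ q : ℕ, ∀ hq : q.Prime, ∃ M, Max M ∧ q ^ (Nat.card G).factorization q ∣ Nat.card M := by
        intro q hq
        have := Fact.mk hq
        obtain ⟨P, hP⟩ := Coprime.exists_smul_invariant_sylow (A := A) hcop hsol q
        have hne : (P : Subgroup G) ≠ ⊤ := fun e =>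
          hnp q hq (IsPGroup.of_equiv (e ▸ P.2 : IsPGroup q (⊤ : Subgroup G)) Subgroup.topEquiv)
        obtain ⟨M, hPM, hM⟩ := hexists P ⟨hne, hP⟩
        exact ⟨M, hM, P.card_eq_multiplicity ▸ Subgroup.card_dvd_of_le hPM⟩
      obtain ⟨M, hM, -⟩ := hsyl 2 Nat.prime_two
      refine hM.1 (Subgroup.eq_top_of_card_eq M (Nat.dvd_antisymm (Subgroup.card_subgroup_dvd_card M) ?_))
      rw [← Nat.factorization_prime_le_iff_dvd Nat.card_pos.ne' Nat.card_pos.ne']
      intro q hq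
      obtain ⟨N, hN, hdvd⟩ := hsyl q hq
      obtain ⟨c, -, rfl⟩ := h M N hM hN
      rw [← hq.pow_dvd_iff_le_factorization Nat.card_pos.ne']
      refine hdvd.trans (dvd_of_eq ?_)
      exact Nat.card_congr (Subgroup.equivSMul (MulAut.conj c) M).toEquiv.symm
    refine ⟨⟨p, hp, hG⟩, fun L hL hLi => ?_⟩
    have := Fact.mk hp
    by_contra hLt
    obtain ⟨M, hLM, hM⟩ := hexists L ⟨hLt, hLi⟩
    obtain ⟨L', hL', hL'i, hL'M⟩ := exists_invariant_not_le hcop hG M hM.2.1 (hL.trans_le hLM) hM.1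
    obtain ⟨M', hLM', hM'⟩ := hexists L' ⟨hL', hL'i⟩
    obtain ⟨c, -, hc⟩ := h M M' hM hM'
    apply hL'M
    have hMn : M.Normal := by
      have hc : _root_.commutator G ≤ M := (PGroup.commutator_le_frattini hG).trans (hL.le.trans hLM)
      exact Subgroup.Normal.of_commutator_le G hc
    rw [hc, Subgroup.Normal.conj_smul_eq_self c M] at hLM'
    exact hLM'
  · refine ⟨1, fun a => smul_one a, ?_⟩
    rw [map_one, one_smul, huniq h N hN, huniq h M hM]
  · rintro ⟨rfl, hne⟩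
    exact ⟨hne, hΦinv, h.2⟩

end Cfsg.Agent.S4381
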