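import Cfsg.Statements.S4395
import Cfsg.Agent.EqLemmas
import Cfsg.Agent.Lib.SchmidtUniversal.Universal

set_option autoImplicit false
universe u
open Cfsg

namespace Cfsg.Agent.S4395

/-- Let p ≠ q be primes, r ≥ 1, a the multiplicative order of p modulo q, and a₀ = a when a is odd, a₀ = 3a/2 when a is even. Call a finite group minimal non-p-nilpotent when it has no normal p-complement but every proper subgroup has one. Then there is a minimal non-p-nilpotent group G₀ of order p^a₀ · q^r such that every minimal non-p-nilpotent group of order p^t · q^r (any t) is a quotient of G₀ by a central subgroup. -/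
theorem result (p q r : ℕ) [Fact p.Prime] [Fact q.Prime] (hpq : p ≠ q) (hr : 1 ≤ r) (a a₀ : ℕ)
    (ha : a = orderOf (p : ZMod q)) (ha₀ : a₀ = if a % 2 = 1 then a else 3 * a / 2) :
    ∃ (G₀ : Type u) (_ : Group G₀) (_ : Finite G₀),
      (¬ Cfsg.HasNormalPComplement p G₀ ∧ ∀ K : Subgroup G₀, K ≠ ⊤ → Cfsg.HasNormalPComplement p ↥K) ∧ Nat.card G₀ = p ^ a₀ * q ^ r ∧
      ∀ (X : Type u) [Group X] [Finite X], (¬ Cfsg.HasNormalPComplement p X ∧ ∀ K : Subgroup X, K ≠ ⊤ → Cfsg.HasNormalPComplement p ↥K) →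
        (∃ t : ℕ, Nat.card X = p ^ t * q ^ r) → ∃ φ : G₀ →* X, Function.Surjective φ ∧ φ.ker ≤ Subgroup.center G₀ := by
  have hne : (p : ZMod q) ≠ 0 := fun e => by
    rw [ZMod.natCast_eq_zero_iff] at e
    exact hpq ((Nat.prime_dvd_prime_iff_eq Fact.out Fact.out).mp e).symm
  have hpow : (p : ZMod q) ^ a = 1 := ha ▸ pow_orderOf_eq_one _
  have ha0 : a ≠ 0 := by
    rw [ha, orderOf_ne_zero_iff]
    simpa using (Units.coeHom (ZMod q)).isOfFinOrder (isOfFinOrder_of_finite (Units.mk0 _ hne))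
  let K := GaloisField p a
  have hK : Nat.card K = p ^ a := GaloisField.card p a ha0
  obtain ⟨u, hu⟩ := exists_prime_orderOf_dvd_card' (G := Kˣ) q (by
    rw [Nat.card_units, hK, ← ZMod.natCast_eq_zero_iff, Nat.cast_sub (Nat.one_le_pow _ _ (Fact.out : p.Prime).pos),
      Nat.cast_pow, hpow, Nat.cast_one, sub_self])
  have h : SchmidtUniversal.FieldHyp p q a K (u : K) :=
    ⟨Fact.out, Fact.out, hpq, hK, by rw [orderOf_units, hu], ha⟩
  obtain ⟨G, _, _, hmin, hcard, huniv⟩ := SchmidtUniversal.exists_universal.{u} h hr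
  let e : ULift.{u} G ≃* G := MulEquiv.ulift
  refine ⟨ULift.{u} G, inferInstance, inferInstance, ⟨fun hc => hmin.1 (Transfer.hasNormalPComplement_of_equiv hc e),
    fun L hL => ?_⟩, ?_, fun X _ _ hX ht => ?_⟩
  · have hne' : L.map e.toMonoidHom ≠ ⊤ := fun h' => hL (by
      rw [← Subgroup.comap_map_eq_self_of_injective (f := e.toMonoidHom) e.injective L, h', Subgroup.comap_top])
    exact Transfer.hasNormalPComplement_of_equiv (hmin.2 _ hne')
      (Subgroup.equivMapOfInjective L e.toMonoidHom e.injective).symm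
  · rw [Nat.card_congr e.toEquiv, hcard, SchmidtUniversal.bnd, ha₀]
  · obtain ⟨φ, hφ, hker⟩ := huniv X hX ht
    refine ⟨φ.comp e.toMonoidHom, hφ.comp e.surjective, fun g hg => Subgroup.mem_center_iff.mpr fun g' => ?_⟩
    apply e.injective
    rw [map_mul, map_mul]
    exact Subgroup.mem_center_iff.mp (hker (show φ (e g) = 1 from hg)) (e g')

end Cfsg.Agent.S4395
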