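import Cfsg.Statements.S4396
import Cfsg.Agent.EqLemmas
import Cfsg.Agent.Lib.FrobFree.Free

set_option autoImplicit false
open Cfsg

namespace Cfsg.Agent.S4396

/-- Let the finite group A act faithfully and linearly on a finite-dimensional vector space V over a field k, and suppose A is a Frobenius group with nilpotent kernel F (every Frobenius kernel is nilpotent) and complement H such that F fixes no nonzero vector. Then V is free as a module for H: there is a subspace W with V the direct sum of the translates hW, h ∈ H. (No assumption on the characteristic of k.) -/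
theorem result {k V A : Type*} [Field k] [AddCommGroup V] [Module k V] [FiniteDimensional k V] [Group A] [Finite A] [DecidableEq A]
    (ρ : Representation k A V) (hρ : Function.Injective ρ)
    (Fk Hc : Subgroup A) [Fk.Normal] (hHc : Cfsg.IsFrobeniusComplement Hc) (hker : Cfsg.frobeniusKernel Hc = (Fk : Set A)) (hnil : Group.IsNilpotent ↥Fk)
    (hCF : ∀ v : V, (∀ f ∈ Fk, ρ f v = v) → v = 0) :
    ∃ W : Submodule k V, DirectSum.IsInternal (fun h : ↥Hc => W.map (ρ (h : A))) := by
  classical
  cases nonempty_fintype Hc
  have hdisj : Disjoint Fk Hc := by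
    rw [disjoint_iff, Subgroup.eq_bot_iff_forall]
    rintro x ⟨hxF, hxH⟩
    have hx : x ∈ Cfsg.frobeniusKernel Hc := hker ▸ hxF
    exact Frobenius.eq_one_of_mem_kernel_of_mem hx (g := 1) (by simpa using hxH)
  have hfpf := Frobenius.fpf_of_isFrobeniusComplement hHc hdisj
  obtain ⟨R, hRn, hRF, hRnil, hRc, hRfix⟩ := FrobFree.exists_coprime_part ρ Fk hnil hCF
  haveI := hRn
  obtain ⟨W, hW⟩ := FrobFree.free_of_fpf R hRnil hRc Hc (hfpf.mono le_rfl hRF) (Nat.card R) V ρ ⊥ bot_le
    (Nat.le_add_left _ _) (fun x hx => by rw [Subgroup.mem_bot.mp hx, map_one]) hRfix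
  refine ⟨W, ?_⟩
  rw [DirectSum.isInternal_submodule_iff_iSupIndep_and_iSup_eq_top]
  constructor
  · rw [iSupIndep_iff_finsetSum_eq_zero_imp_eq_zero]
    intro s v hv hsum c hc
    choose w hw hwe using fun (d : Hc) (hd : d ∈ s) => Submodule.mem_map.mp (hv d hd)
    let f : Hc → V := fun d => if hd : d ∈ s then w d hd else 0
    obtain ⟨g, -, hu⟩ := hW 0
    have hf : f = g := hu f ⟨fun d => by
      simp only [f]; split
      · exact hw _ _
      · exact W.zero_mem, by
      rw [← hsum]
      refine (Finset.sum_subset (Finset.subset_univ s) fun d _ hd => ?_).symm.trans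
        (Finset.sum_congr rfl fun d hd => ?_)
      · simp [f, hd]
      · simp only [f, dif_pos hd]
        exact hwe d hd⟩
    have h0 : (fun _ : Hc => (0 : V)) = g := hu _ ⟨fun _ => W.zero_mem, by simp⟩
    have := congrFun (hf.trans h0.symm) c
    simp only [f, dif_pos hc] at this
    rw [← hwe c hc, this, map_zero]
  · rw [eq_top_iff]
    intro v _
    obtain ⟨f, ⟨hf, hfv⟩, -⟩ := hW v
    rw [← hfv]
    exact sum_mem fun c _ => Submodule.mem_iSup_of_mem c (Submodule.mem_map_of_mem (hf c))

end Cfsg.Agent.S4396
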