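import Cfsg.Statements.S4397
import Cfsg.Agent.EqLemmas
import Cfsg.Agent.Lib.PGroup.Basic

set_option autoImplicit false
open Cfsg

namespace Cfsg.Agent.S4397

open Subgroup
open scoped commutatorElement Pointwise

universe u

theorem sectional_quotient {G G' : Type*} [Group G] [Finite G] [Group G'] {p k : ℕ}
    (hr : Cfsg.SectionalPRankLE p k G) (f : G →* G') (hf : Function.Surjective f) :
    Cfsg.SectionalPRankLE p k G' := by
  intro L N hN A hA hAp
  haveI := hN
  let g : L.comap f →* L ⧸ N := (QuotientGroup.mk' N).comp (f.subgroupComap L)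
  have hg : Function.Surjective g :=
    (QuotientGroup.mk'_surjective N).comp (f.subgroupComap_surjective_of_surjective L hf)
  let e := QuotientGroup.quotientKerEquivOfSurjective g hg
  have h := hr (L.comap f) g.ker (A.map e.symm.toMonoidHom)
    ⟨⟨fun u v => by
      obtain ⟨⟨_, a, ha, rfl⟩, ⟨_, b, hb, rfl⟩⟩ := u, v
      apply Subtype.ext
      show e.symm a * e.symm b = e.symm b * e.symm a
      rw [← map_mul, ← map_mul]
      exact congrArg e.symm (congrArg Subtype.val (hA.1.1 ⟨a, ha⟩ ⟨b, hb⟩))⟩⟩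
    (by rintro _ ⟨a, ha, rfl⟩; rw [← map_pow, hAp a ha, map_one])
  exact (Nat.card_congr (A.equivMapOfInjective e.symm.toMonoidHom e.symm.injective).toEquiv).trans_le h

/-- A normal cyclic subgroup with cyclic quotient. -/
theorem metacyclic_of_cyclic' {G : Type*} [Group G] [Finite G] {g h : G}
    [hn : (zpowers g).Normal] (htop : zpowers g ⊔ zpowers h = ⊤) :
    Cfsg.IsMetacyclic G := by
  refine ⟨zpowers g, hn, inferInstance, ⟨⟨(h : G ⧸ zpowers g), fun q => ?_⟩⟩⟩
  obtain ⟨u, rfl⟩ := QuotientGroup.mk_surjective q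
  have hu : u ∈ ((zpowers g ⊔ zpowers h : Subgroup G) : Set G) := by rw [htop]; exact Set.mem_univ _
  rw [normal_mul] at hu
  obtain ⟨v, hv, _, ⟨i, rfl⟩, rfl⟩ := hu
  exact ⟨i, by
    show (h : G ⧸ zpowers g) ^ i = ((v * h ^ i : G) : G ⧸ zpowers g)
    rw [QuotientGroup.mk_mul, (QuotientGroup.eq_one_iff v).mpr hv, one_mul, QuotientGroup.mk_zpow]⟩

/-- A cyclic subgroup above the commutators with cyclic quotient. -/
theorem metacyclic_of_cyclic {G : Type*} [Group G] [Finite G] {z g h : G}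
    (hcom : ∀ u v : G, ⁅u, v⁆ ∈ zpowers z) (hz : z ∈ zpowers g) (htop : zpowers g ⊔ zpowers h = ⊤) :
    Cfsg.IsMetacyclic G :=
  haveI : (zpowers g).Normal := ⟨fun v hv u => by
    have : u * v * u⁻¹ = ⁅u, v⁆ * v := by rw [commutatorElement_def]; group
    rw [this]
    exact mul_mem (zpowers_le.mpr hz (hcom u v)) hv⟩
  metacyclic_of_cyclic' htop

/-- The case of a commutator subgroup of order at most two. -/
theorem metacyclic_of_small {G : Type u} [Group G] [Finite G] (h2 : IsPGroup 2 G)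
    (hr : Cfsg.SectionalPRankLE 2 2 G) {z a b : G} (hz1 : z ≠ 1) (hz2 : z * z = 1)
    (hzc : z ∈ center G) (hcom : ∀ u v : G, ⁅u, v⁆ ∈ zpowers z)
    (hgen : ∀ T : Subgroup G, a ∈ T → b ∈ T → z ∈ T → T = ⊤) : Cfsg.IsMetacyclic G := by
  have : Fact (Nat.Prime 2) := ⟨Nat.prime_two⟩
  haveI hZn : (zpowers z).Normal := ⟨fun v hv u => by
    have : v ∈ center G := zpowers_le.mpr hzc hv
    rwa [mem_center_iff.mp this u, mul_inv_cancel_right]⟩
  let Q := G ⧸ zpowers z
  have hQ : IsPGroup 2 (G ⧸ zpowers z) := h2.to_quotient _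
  obtain ⟨a, b, m, n₀, hm, hn₀, hle, hgen⟩ : ∃ (a b : G) (m n₀ : ℕ),
      orderOf (a : G ⧸ zpowers z) = 2 ^ m ∧ orderOf (b : G ⧸ zpowers z) = 2 ^ n₀ ∧ n₀ ≤ m ∧
      ∀ T : Subgroup G, a ∈ T → b ∈ T → z ∈ T → T = ⊤ := by
    obtain ⟨m, hm⟩ := IsPGroup.iff_orderOf.mp hQ (a : G ⧸ zpowers z)
    obtain ⟨n, hn⟩ := IsPGroup.iff_orderOf.mp hQ (b : G ⧸ zpowers z)
    rcases le_total n m with h | h
    · exact ⟨a, b, m, n, hm, hn, h, hgen⟩
    · exact ⟨b, a, n, m, hn, hm, h, fun T hb ha hz => hgen T ha hb hz⟩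
  have hQc : ∀ p q : G ⧸ zpowers z, Commute p q := by
    intro p q
    obtain ⟨u, rfl⟩ := QuotientGroup.mk_surjective p
    obtain ⟨v, rfl⟩ := QuotientGroup.mk_surjective q
    rw [← commutatorElement_eq_one_iff_commute, commutatorElement_def, ← QuotientGroup.mk_inv,
      ← QuotientGroup.mk_inv, ← QuotientGroup.mk_mul, ← QuotientGroup.mk_mul, ← QuotientGroup.mk_mul,
      QuotientGroup.eq_one_iff, ← commutatorElement_def]
    exact hcom u v
  -- an element `b` meeting `⟨a⟩` trivially modulo `z`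
  have hex : ∃ n, (b : G ⧸ zpowers z) ^ 2 ^ n ∈ zpowers (a : G ⧸ zpowers z) :=
    ⟨n₀, by rw [← hn₀, pow_orderOf_eq_one]; exact one_mem _⟩
  classical
  set n := Nat.find hex with hn
  have hnn₀ : n ≤ n₀ := Nat.find_le (by rw [← hn₀, pow_orderOf_eq_one]; exact one_mem _)
  obtain ⟨k, hk⟩ := mem_zpowers_iff.mp (Nat.find_spec hex)
  rw [← hn] at hk
  obtain ⟨j, hj⟩ : ∃ j : ℤ, k = 2 ^ n * j := by
    have h1 : (a : G ⧸ zpowers z) ^ (k * ((2 ^ (m - n) : ℕ) : ℤ)) = 1 := by
      rw [zpow_mul, hk, zpow_natCast, ← pow_mul, ← pow_add, show n + (m - n) = m by omega,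
        ← orderOf_dvd_iff_pow_eq_one, hn₀]
      exact pow_dvd_pow 2 hle
    rw [← orderOf_dvd_iff_zpow_eq_one, hm] at h1
    push_cast at h1
    rw [show m = (m - n) + n by omega, pow_add, mul_comm] at h1
    simp only [Nat.add_sub_cancel] at h1
    exact (mul_dvd_mul_iff_right (pow_ne_zero _ two_ne_zero)).mp h1
  set b₁ := b * (a ^ j)⁻¹ with hb₁
  have hb₁q : (b₁ : G ⧸ zpowers z) ^ 2 ^ n = 1 := by
    rw [hb₁, QuotientGroup.mk_mul, QuotientGroup.mk_inv, QuotientGroup.mk_zpow, (hQc _ _).mul_pow, ← hk,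
      inv_pow, ← zpow_natCast ((a : G ⧸ zpowers z) ^ j), ← zpow_mul, hj]
    push_cast
    rw [mul_comm j, mul_inv_cancel]
  have hgen' : ∀ T : Subgroup G, a ∈ T → b₁ ∈ T → z ∈ T → T = ⊤ := fun T ha hb hz => by
    refine hgen T ha ?_ hz
    have := mul_mem hb (zpow_mem ha j)
    rwa [hb₁, inv_mul_cancel_right] at this
  have hmin : ∀ i : ℕ, i < n → (b₁ : G ⧸ zpowers z) ^ 2 ^ i ∉ zpowers (a : G ⧸ zpowers z) := by
    intro i hi hmem
    refine Nat.find_min hex hi ?_
    rw [hb₁, QuotientGroup.mk_mul, QuotientGroup.mk_inv, QuotientGroup.mk_zpow, (hQc _ _).mul_pow] at hmem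
    exact (mul_mem_cancel_right (pow_mem (inv_mem (zpow_mem (mem_zpowers _) j)) _)).mp hmem
  have hzz : ∀ g : G, g ∈ zpowers z → g = 1 ∨ g = z := by
    intro g hg
    obtain ⟨i, rfl⟩ := mem_zpowers_iff.mp hg
    rcases Int.even_or_odd i with ⟨c, hc⟩ | ⟨c, hc⟩
    · left; rw [hc, ← two_mul, zpow_mul, zpow_two, hz2, one_zpow]
    · right; rw [hc, zpow_add, zpow_mul, zpow_two, hz2, one_zpow, one_mul, zpow_one]
  -- if one of the two cyclic pieces contains `z`
  rcases hzz _ ((QuotientGroup.eq_one_iff (a ^ 2 ^ m)).mp (by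
      rw [QuotientGroup.mk_pow, ← hm, pow_orderOf_eq_one])) with ha2 | ha2
  swap
  · refine metacyclic_of_cyclic hcom (g := a) (h := b₁) (ha2 ▸ pow_mem (mem_zpowers a) _) (hgen' _ ?_ ?_ ?_)
    · exact mem_sup_left (mem_zpowers a)
    · exact mem_sup_right (mem_zpowers b₁)
    · exact mem_sup_left (ha2 ▸ pow_mem (mem_zpowers a) _)
  rcases hzz _ ((QuotientGroup.eq_one_iff (b₁ ^ 2 ^ n)).mp (by
      rw [QuotientGroup.mk_pow, hb₁q])) with hb2 | hb2
  swap
  · refine metacyclic_of_cyclic hcom (g := b₁) (h := a) (hb2 ▸ pow_mem (mem_zpowers b₁) _) (hgen' _ ?_ ?_ ?_)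
    · exact mem_sup_right (mem_zpowers a)
    · exact mem_sup_left (mem_zpowers b₁)
    · exact mem_sup_left (hb2 ▸ pow_mem (mem_zpowers b₁) _)
  by_cases hn0 : n = 0
  · rw [hn0, pow_zero, pow_one] at hb2
    refine metacyclic_of_cyclic hcom (g := z) (h := a) (mem_zpowers z) (hgen' _ ?_ ?_ ?_)
    · exact mem_sup_right (mem_zpowers a)
    · exact hb2 ▸ one_mem _
    · exact mem_sup_left (mem_zpowers z)
  have hm0 : 1 ≤ m := le_trans (by omega) (hnn₀.trans hle)
  set u := a ^ 2 ^ (m - 1) with hu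
  set v := b₁ ^ 2 ^ (n - 1) with hv
  have huu : u * u = 1 := by rw [hu, ← sq, ← pow_mul, ← pow_succ, show m - 1 + 1 = m by omega, ha2]
  have hvv : v * v = 1 := by rw [hv, ← sq, ← pow_mul, ← pow_succ, show n - 1 + 1 = n by omega, hb2]
  by_cases huv : Commute u v
  · -- an elementary abelian section of order eight
    exfalso
    have hzu : Commute z u := (mem_center_iff.mp hzc u).symm
    have hzv : Commute z v := (mem_center_iff.mp hzc v).symm
    haveI : IsMulCommutative (closure ({z, u, v} : Set G)) := isMulCommutative_closure (by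
      rintro p (rfl | rfl | rfl) q (rfl | rfl | rfl)
      exacts [rfl, hzu.eq, hzv.eq, hzu.symm.eq, rfl, huv.eq, hzv.symm.eq, huv.symm.eq, rfl])
    set E := closure ({z, u, v} : Set G) with hE
    have hEsq : ∀ p ∈ E, p ^ 2 = 1 := by
      intro p hp
      induction hp using closure_induction with
      | mem q hq => rcases hq with rfl | rfl | rfl <;> rw [sq] <;> assumption
      | one => simp
      | mul q r hq hr' e1 e2 => rw [(show Commute q r from setLike_mul_comm hq hr').mul_pow, e1, e2, mul_one]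
      | inv q hq e1 => rw [inv_pow, e1, inv_one]
    let π : (⊤ : Subgroup G) →* (⊤ : Subgroup G) ⧸ (⊥ : Subgroup (⊤ : Subgroup G)) := QuotientGroup.mk' _
    have hπ : Function.Injective (π.comp (inclusion (le_top (a := E)))) := by
      refine Function.Injective.comp (g := π) ?_ (inclusion_injective _)
      exact (MonoidHom.ker_eq_bot_iff π).mp (QuotientGroup.ker_mk' _)
    have hb := hr ⊤ ⊥ ((π.comp (inclusion (le_top (a := E)))).range)
      ⟨⟨fun p q => by
        obtain ⟨⟨p0, p', hp'⟩, ⟨q0, q', hq'⟩⟩ := p, q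
        apply Subtype.ext
        show p0 * q0 = q0 * p0
        subst hp' hq'
        exact ((map_mul _ p' q').symm.trans (congrArg _ (Subtype.ext (setLike_mul_comm p'.2 q'.2)))).trans
          (map_mul _ q' p')⟩⟩
      (by
        rintro _ ⟨p, rfl⟩
        rw [← map_pow, show p ^ 2 = 1 from Subtype.ext (hEsq p p.2), map_one])
    rw [← Nat.card_congr (MonoidHom.ofInjective hπ).toEquiv] at hb
    -- eight distinct elements
    have hne : ∀ i₁ i₂ i₃ : Fin 2, z ^ (i₁ : ℕ) * u ^ (i₂ : ℕ) * v ^ (i₃ : ℕ) = 1 → i₁ = 0 ∧ i₂ = 0 ∧ i₃ = 0 := by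
      intro i₁ i₂ i₃ h
      have h' := congrArg (fun g : G => (g : G ⧸ zpowers z)) h
      simp only [QuotientGroup.mk_mul, QuotientGroup.mk_pow, QuotientGroup.mk_one,
        (QuotientGroup.eq_one_iff z).mpr (mem_zpowers z), one_pow, one_mul] at h'
      have h3 : i₃ = 0 := by
        by_contra h3
        have e3 : (i₃ : ℕ) = 1 := by omega
        rw [e3, pow_one, mul_eq_one_iff_eq_inv', hv, QuotientGroup.mk_pow] at h'
        refine hmin (n - 1) (by omega) ?_
        rw [h', hu, QuotientGroup.mk_pow]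
        exact inv_mem (pow_mem (pow_mem (mem_zpowers _) _) _)
      subst h3
      simp only [Fin.val_zero, pow_zero, mul_one] at h' h
      have h2' : i₂ = 0 := by
        by_contra h2'
        have e2 : (i₂ : ℕ) = 1 := by omega
        rw [e2, pow_one, hu, QuotientGroup.mk_pow, ← orderOf_dvd_iff_pow_eq_one, hm] at h'
        have := Nat.le_of_dvd (pow_pos two_pos _) h'
        have : 2 ^ (m - 1) < 2 ^ m := Nat.pow_lt_pow_right (by norm_num) (by omega)
        omega
      subst h2'
      simp only [Fin.val_zero, pow_zero, mul_one] at h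
      refine ⟨?_, rfl, rfl⟩
      by_contra h1
      have e1 : (i₁ : ℕ) = 1 := by omega
      rw [e1, pow_one] at h
      exact hz1 h
    let f : Fin 2 × Fin 2 × Fin 2 → E := fun i => ⟨z ^ (i.1 : ℕ) * u ^ (i.2.1 : ℕ) * v ^ (i.2.2 : ℕ),
      mul_mem (mul_mem (pow_mem (subset_closure (by simp)) _) (pow_mem (subset_closure (by simp)) _))
        (pow_mem (subset_closure (by simp)) _)⟩
    have hfin : Function.Injective f := by
      intro i i' h
      have h' : z ^ (i.1 : ℕ) * u ^ (i.2.1 : ℕ) * v ^ (i.2.2 : ℕ) =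
          z ^ (i'.1 : ℕ) * u ^ (i'.2.1 : ℕ) * v ^ (i'.2.2 : ℕ) := congrArg Subtype.val h
      have key : ∀ (w : G), w * w = 1 → ∀ x y : Fin 2, w ^ (x : ℕ) * w ^ (y : ℕ) = w ^ ((x + y : Fin 2) : ℕ) := by
        intro w hw x y
        fin_cases x <;> fin_cases y <;> simp [hw]
      have hprod := hne (i.1 + i'.1) (i.2.1 + i'.2.1) (i.2.2 + i'.2.2) (by
        rw [← key z hz2, ← key u huu, ← key v hvv]
        calc z ^ (i.1 : ℕ) * z ^ (i'.1 : ℕ) * (u ^ (i.2.1 : ℕ) * u ^ (i'.2.1 : ℕ)) *
              (v ^ (i.2.2 : ℕ) * v ^ (i'.2.2 : ℕ))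
            = (z ^ (i.1 : ℕ) * u ^ (i.2.1 : ℕ) * v ^ (i.2.2 : ℕ)) *
              (z ^ (i'.1 : ℕ) * u ^ (i'.2.1 : ℕ) * v ^ (i'.2.2 : ℕ)) := by
              rw [(hzu.pow_pow (i'.1 : ℕ) (i.2.1 : ℕ)).mul_mul_mul_comm,
                (((hzv.symm.pow_pow (i.2.2 : ℕ) (i'.1 : ℕ)).mul_right
                  (huv.symm.pow_pow (i.2.2 : ℕ) (i'.2.1 : ℕ))).symm).mul_mul_mul_comm]
          _ = 1 := by
              rw [h']
              have := hEsq _ (mul_mem (mul_mem (pow_mem (subset_closure (by simp : z ∈ ({z, u, v} : Set G))) (i'.1 : ℕ))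
                (pow_mem (subset_closure (by simp : u ∈ ({z, u, v} : Set G))) (i'.2.1 : ℕ)))
                (pow_mem (subset_closure (by simp : v ∈ ({z, u, v} : Set G))) (i'.2.2 : ℕ)))
              rwa [sq] at this)
      have key2 : ∀ x y : Fin 2, x + y = 0 → x = y := by decide
      exact Prod.ext (key2 _ _ hprod.1) (Prod.ext (key2 _ _ hprod.2.1) (key2 _ _ hprod.2.2))
    have := Nat.card_le_card_of_injective f hfin
    rw [Nat.card_prod, Nat.card_prod, Nat.card_fin] at this
    omega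
  · -- then `m = n = 1` and the group is dihedral of order eight
    have hm1 : m = 1 := by
      by_contra hm1
      refine huv ?_
      -- squares are central
      have hsqc : ∀ g h : G, Commute (g ^ 2) h := by
        intro g h
        have hgh := hcom h g
        have hcc : ⁅h, g⁆ ∈ center G := zpowers_le.mpr hzc hgh
        have e : h * g * h⁻¹ = ⁅h, g⁆ * g := by rw [commutatorElement_def]; group
        have e2 : h * g ^ 2 * h⁻¹ = g ^ 2 := by
          rw [← conj_pow, e, (show Commute ⁅h, g⁆ g from (mem_center_iff.mp hcc g).symm).mul_pow]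
          rcases hzz _ hgh with hc | hc <;> rw [hc]
          · simp
          · rw [sq z, hz2, one_mul]
        exact (mul_inv_eq_iff_eq_mul.mp e2).symm
      rw [hu, show m - 1 = (m - 2) + 1 by omega, pow_succ', pow_mul]
      exact (hsqc a _).pow_left _
    have hn1 : n = 1 := by omega
    rw [hm1, pow_one] at ha2
    rw [hn1, pow_one] at hb2
    have hu' : u = a := by rw [hu, hm1, Nat.sub_self, pow_zero, pow_one]
    have hv' : v = b₁ := by rw [hv, hn1, Nat.sub_self, pow_zero, pow_one]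
    rw [hu', hv'] at huv
    have hc : (a * b₁) ^ 2 = z := by
      have e : (a * b₁) ^ 2 = ⁅a, b₁⁆ := by
        rw [commutatorElement_def, inv_eq_of_mul_eq_one_right (show a * a = 1 by rw [← sq, ha2]),
          inv_eq_of_mul_eq_one_right (show b₁ * b₁ = 1 by rw [← sq, hb2]), sq]
        group
      rw [e]
      exact (hzz _ (hcom a b₁)).resolve_left fun h => huv (commutatorElement_eq_one_iff_commute.mp h)
    refine metacyclic_of_cyclic hcom (g := a * b₁) (h := a) (hc ▸ pow_mem (mem_zpowers _) _) (hgen' _ ?_ ?_ ?_)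
    · exact mem_sup_right (mem_zpowers a)
    · have h : a⁻¹ * (a * b₁) ∈ zpowers (a * b₁) ⊔ zpowers a :=
        mul_mem (mem_sup_right (inv_mem (mem_zpowers a))) (mem_sup_left (mem_zpowers _))
      rwa [inv_mul_cancel_left] at h
    · exact mem_sup_left (hc ▸ pow_mem (mem_zpowers _) _)

theorem metacyclic_aux : ∀ (n : ℕ) (G : Type u) [Group G] [Finite G], Nat.card G = n → IsPGroup 2 G →
    Cfsg.SectionalPRankLE 2 2 G → Cfsg.IsMetacyclic G := by
  intro n
  induction n using Nat.strong_induction_on with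
  | _ n ih =>
  intro G _ _ hn h2 hr
  have : Fact (Nat.Prime 2) := ⟨Nat.prime_two⟩
  by_cases htriv : Subsingleton G
  · exact ⟨⊥, inferInstance, inferInstance, inferInstance⟩
  rw [not_subsingleton_iff_nontrivial] at htriv
  haveI := htriv
  -- a central involution, in the derived group unless that is trivial
  obtain ⟨N, hN, hNne, hNsub⟩ : ∃ N : Subgroup G, N ≤ center G ∧ N ≠ ⊥ ∧
      (_root_.commutator G = ⊥ ∨ N ≤ _root_.commutator G) := by
    by_cases hc : _root_.commutator G = ⊥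
    · haveI := h2.center_nontrivial
      exact ⟨center G, le_rfl, (nontrivial_iff_ne_bot _).mp inferInstance, Or.inl hc⟩
    · exact ⟨_root_.commutator G ⊓ center G, inf_le_right, PGroup.inf_center_ne_bot h2 hc, Or.inr inf_le_left⟩
  haveI := (nontrivial_iff_ne_bot _).mpr hNne
  obtain ⟨k, hk, hk'⟩ := (h2.to_subgroup N).nontrivial_iff_card.mp inferInstance
  obtain ⟨⟨z, hzN⟩, hzo⟩ := exists_prime_orderOf_dvd_card' (G := N) 2 (hk' ▸ dvd_pow_self 2 hk.ne')
  rw [orderOf_mk] at hzo
  have hzc := hN hzN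
  have hz1 : z ≠ 1 := fun h => by rw [h, orderOf_one] at hzo; omega
  have hz2 : z * z = 1 := by rw [← sq, ← hzo, pow_orderOf_eq_one]
  haveI hZn : (zpowers z).Normal := ⟨fun v hv u => by
    have : v ∈ center G := zpowers_le.mpr hzc hv
    rwa [mem_center_iff.mp this u, mul_inv_cancel_right]⟩
  have hlt : Nat.card (G ⧸ zpowers z) < n := by
    rw [← hn, ← index_eq_card, ← (zpowers z).card_mul_index, Nat.card_zpowers, hzo]
    have := index_ne_zero_of_finite (H := zpowers z)
    omega
  obtain ⟨A, hAn, hAc, hQc⟩ := ih _ hlt (G ⧸ zpowers z) rfl (h2.to_quotient _)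
    (sectional_quotient hr (QuotientGroup.mk' _) (QuotientGroup.mk'_surjective _))
  obtain ⟨a', ha'⟩ := (Subgroup.isCyclic_iff_exists_zpowers_eq_top A).mp hAc
  obtain ⟨b', hb'⟩ := hQc.exists_generator
  obtain ⟨b'', rfl⟩ := QuotientGroup.mk_surjective b'
  obtain ⟨a, rfl⟩ := QuotientGroup.mk_surjective a'
  obtain ⟨b, rfl⟩ := QuotientGroup.mk_surjective b''
  have hgen : ∀ T : Subgroup G, a ∈ T → b ∈ T → z ∈ T → T = ⊤ := by
    intro T ha hb hz
    refine (eq_top_iff' T).mpr fun g => ?_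
    obtain ⟨i, hi⟩ := mem_zpowers_iff.mp (hb' ((g : G ⧸ zpowers z) : (G ⧸ zpowers z) ⧸ A))
    rw [← QuotientGroup.mk_zpow, QuotientGroup.eq, ← ha', ← QuotientGroup.mk_zpow, ← QuotientGroup.mk_inv,
      ← QuotientGroup.mk_mul] at hi
    obtain ⟨j, hj⟩ := mem_zpowers_iff.mp hi
    rw [← QuotientGroup.mk_zpow, QuotientGroup.eq] at hj
    have e : g = b ^ i * a ^ j * ((a ^ j)⁻¹ * ((b ^ i)⁻¹ * g)) := by group
    rw [e]
    exact mul_mem (mul_mem (zpow_mem hb i) (zpow_mem ha j)) (zpowers_le.mpr hz hj)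
  have hQa : zpowers (a : G ⧸ zpowers z) = A := ha'
  by_cases hnotmem : z ∈ zpowers a
  · haveI : (zpowers a).Normal := by
      have : zpowers a = A.comap (QuotientGroup.mk' (zpowers z)) := by
        rw [← hQa]
        refine le_antisymm (zpowers_le.mpr (mem_zpowers (a : G ⧸ zpowers z))) fun g hg => ?_
        obtain ⟨i, hi⟩ := mem_zpowers_iff.mp (hg : (g : G ⧸ zpowers z) ∈ zpowers (a : G ⧸ zpowers z))
        rw [← QuotientGroup.mk_zpow, QuotientGroup.mk'_apply, QuotientGroup.eq] at hi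
        have e : g = a ^ i * ((a ^ i)⁻¹ * g) := by group
        rw [e]
        exact mul_mem (zpow_mem (mem_zpowers a) i) (zpowers_le.mpr hnotmem hi)
      rw [this]
      exact hAn.comap _
    refine metacyclic_of_cyclic' (g := a) (h := b) (hgen _ ?_ ?_ ?_)
    · exact mem_sup_left (mem_zpowers a)
    · exact mem_sup_right (mem_zpowers b)
    · exact mem_sup_left hnotmem
  refine metacyclic_of_small h2 hr hz1 hz2 hzc ?_ hgen
  rcases hNsub with hbot | hsub
  · intro u v
    have := commutator_mem_commutator (mem_top u) (mem_top v)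
    rw [← _root_.commutator_def, hbot, mem_bot] at this
    rw [this]
    exact one_mem _
  -- the relation `b a b⁻¹ = a ^ r * z ^ e`
  obtain ⟨r, hr'⟩ := mem_zpowers_iff.mp (ha'.symm ▸
    hAn.conj_mem _ (ha' ▸ mem_zpowers (a : G ⧸ zpowers z)) (b : G ⧸ zpowers z) :
    (b : G ⧸ zpowers z) * a * (b : G ⧸ zpowers z)⁻¹ ∈ zpowers (a : G ⧸ zpowers z))
  rw [← QuotientGroup.mk_zpow, ← QuotientGroup.mk_inv, ← QuotientGroup.mk_mul, ← QuotientGroup.mk_mul,
    QuotientGroup.eq] at hr'
  obtain ⟨e, he⟩ := mem_zpowers_iff.mp hr'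
  have hconj : b * a * b⁻¹ = a ^ r * z ^ e := by rw [he]; group
  have hzg : ∀ g : G, Commute z g := fun g => (mem_center_iff.mp hzc g).symm
  set c := a ^ (r - 1) * z ^ e with hc
  have hbc : b * c * b⁻¹ = c ^ r := by
    rw [hc, ← conj_mul, ← conj_zpow, hconj, ((hzg _).symm.zpow_right e).mul_zpow, ← zpow_mul, ← zpow_mul,
      ((hzg _).symm.zpow_right e).mul_zpow, ← zpow_mul, ← zpow_mul,
      show b * z ^ e * b⁻¹ = z ^ e by
        rw [((hzg b).zpow_left e).symm.eq, mul_inv_cancel_right],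
      mul_assoc, ← zpow_add, mul_comm r]
    congr 2
    ring
  have hac : a * c * a⁻¹ = c := by
    rw [hc, show a * (a ^ (r - 1) * z ^ e) * a⁻¹ = a ^ (r - 1) * (a * z ^ e * a⁻¹) by group,
      ((hzg a).zpow_left e).symm.eq, mul_inv_cancel_right]
  haveI hCn : (zpowers c).Normal := by
    refine normalizer_eq_top_iff.mp (hgen _ ?_ ?_ ?_)
    all_goals rw [mem_normalizer_iff_map_conj_eq]
    all_goals refine eq_of_le_of_card_ge ?_ (by rw [Subgroup.card_map_of_injective (MulEquiv.injective _)])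
    all_goals rw [MonoidHom.map_zpowers, zpowers_le]
    · show a * c * a⁻¹ ∈ zpowers c
      rw [hac]; exact mem_zpowers c
    · show b * c * b⁻¹ ∈ zpowers c
      rw [hbc]; exact zpow_mem (mem_zpowers c) r
    · show z * c * z⁻¹ ∈ zpowers c
      rw [(hzg c).eq, mul_inv_cancel_right]; exact mem_zpowers c
  have hder : _root_.commutator G ≤ zpowers c := by
    have hab : Commute (b : G ⧸ zpowers c) (a : G ⧸ zpowers c) := by
      show (b : G ⧸ zpowers c) * a = a * b
      rw [← QuotientGroup.mk_mul, ← QuotientGroup.mk_mul, QuotientGroup.eq]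
      have : (b * a)⁻¹ * (a * b) = b⁻¹ * (a⁻¹ * (c⁻¹ * (a * b))) * 1 := by
        have : b * a = c * a * b := by
          calc b * a = b * a * b⁻¹ * b := by group
            _ = a ^ r * z ^ e * b := by rw [hconj]
            _ = a ^ (r - 1) * (a * z ^ e) * b := by group
            _ = a ^ (r - 1) * (z ^ e * a) * b := by rw [((hzg a).zpow_left e).eq]
            _ = _ := by rw [hc]; group
        rw [this]; group
      rw [this, mul_one]
      have h1 : a⁻¹ * (c⁻¹ * (a * b)) = c⁻¹ * b := by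
        have : a⁻¹ * c⁻¹ * a = c⁻¹ := by
          have h := congrArg (fun q => a⁻¹ * q⁻¹ * a) hac
          simp only [mul_inv_rev, inv_inv] at h
          rw [← h]
          group
        calc a⁻¹ * (c⁻¹ * (a * b)) = a⁻¹ * c⁻¹ * a * b := by group
          _ = _ := by rw [this]
      rw [h1, ← mul_assoc]
      simpa using hCn.conj_mem _ (inv_mem (mem_zpowers c)) b⁻¹
    have hcentral : ∀ g : G, (g : G ⧸ zpowers c) ∈ center (G ⧸ zpowers c) := by
      have hz' : ∀ q : G ⧸ zpowers c, Commute (z : G ⧸ zpowers c) q := fun q => by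
        obtain ⟨g, rfl⟩ := QuotientGroup.mk_surjective q
        exact (hzg g).map (QuotientGroup.mk' (zpowers c))
      have hone : ∀ x : G, Commute (x : G ⧸ zpowers c) a → Commute (x : G ⧸ zpowers c) b →
          (x : G ⧸ zpowers c) ∈ center (G ⧸ zpowers c) := by
        intro x hxa hxb
        refine mem_center_iff.mpr fun q => ?_
        obtain ⟨g, rfl⟩ := QuotientGroup.mk_surjective q
        have ht : ((centralizer ({(x : G ⧸ zpowers c)} : Set _)).comap (QuotientGroup.mk' _)) = ⊤ :=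
          hgen _ (mem_centralizer_singleton_iff.mpr hxa.eq.symm) (mem_centralizer_singleton_iff.mpr hxb.eq.symm)
            (mem_centralizer_singleton_iff.mpr (hz' _).eq)
        exact mem_centralizer_singleton_iff.mp (ht ▸ mem_top g :
          g ∈ (centralizer ({(x : G ⧸ zpowers c)} : Set _)).comap (QuotientGroup.mk' _))
      intro g
      have ht : (center (G ⧸ zpowers c)).comap (QuotientGroup.mk' _) = ⊤ :=
        hgen _ (hone a (Commute.refl _) hab.symm) (hone b hab (Commute.refl _))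
          (hone z (hz' _) (hz' _))
      exact (ht ▸ mem_top g : g ∈ (center (G ⧸ zpowers c)).comap (QuotientGroup.mk' _))
    rw [_root_.commutator_def, commutator_le]
    intro p _ q _
    rw [← QuotientGroup.eq_one_iff, commutatorElement_def]
    simp only [QuotientGroup.mk_mul, QuotientGroup.mk_inv]
    rw [(mem_center_iff.mp (hcentral p) (q : G ⧸ zpowers c)).symm]
    group
  have hcz : c ∈ zpowers z := by
    by_cases hA1 : a ^ (r - 1) ∈ zpowers z
    · exact mul_mem hA1 (zpow_mem (mem_zpowers z) e)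
    exfalso
    obtain ⟨k, hk⟩ := mem_zpowers_iff.mp (hder (hsub hzN))
    rw [hc, (((hzg _).symm).zpow_right e).mul_zpow, ← zpow_mul z] at hk
    have hak : (a ^ (r - 1)) ^ k ∈ zpowers z := by
      have e' : (a ^ (r - 1)) ^ k = z * (z ^ (e * k))⁻¹ := eq_mul_inv_of_mul_eq hk
      rw [e']
      exact mul_mem (mem_zpowers z) (inv_mem (zpow_mem (mem_zpowers z) _))
    obtain ⟨i, hi⟩ := IsPGroup.iff_orderOf.mp (h2.to_quotient (zpowers z)) ((a ^ (r - 1) : G) : G ⧸ zpowers z)
    have hk2 : (2 : ℤ) ∣ k := by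
      have hkd : ((2 ^ i : ℕ) : ℤ) ∣ k := by
        rw [← hi, orderOf_dvd_iff_zpow_eq_one, ← QuotientGroup.mk_zpow, QuotientGroup.eq_one_iff]
        exact hak
      rcases i with _ | i
      · exfalso
        rw [pow_zero, orderOf_eq_one_iff, QuotientGroup.eq_one_iff] at hi
        exact hA1 hi
      · exact dvd_trans (by push_cast; exact dvd_pow_self 2 (Nat.succ_ne_zero i)) hkd
    obtain ⟨d, rfl⟩ := hk2
    rw [show e * (2 * d) = 2 * (e * d) by ring, zpow_mul z 2, zpow_two, hz2, one_zpow, mul_one] at hk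
    -- `z` is then a power of `a`, so some power of `a` gives it
    exact hnotmem ⟨_, (zpow_mul a _ _).trans hk⟩
  intro u v
  exact zpowers_le.mpr hcz (hder (by rw [_root_.commutator_def]; exact commutator_mem_commutator (mem_top u) (mem_top v)))


/-- A finite 2-group of sectional 2-rank at most 2 (every section has no elementary abelian subgroup of order 8) is metacyclic: it has a cyclic normal subgroup with cyclic quotient. -/
theorem result {S : Type*} [Group S] [Finite S] (h2 : IsPGroup 2 S) (hr : Cfsg.SectionalPRankLE 2 2 S) : Cfsg.IsMetacyclic S := by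
  exact metacyclic_aux _ S rfl h2 hr

end Cfsg.Agent.S4397
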