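import Cfsg.Statements.S4398
import Cfsg.Agent.EqLemmas
import Cfsg.Agent.Lib.TwoGroupRecog.Sectional

set_option autoImplicit false
open Cfsg

namespace Cfsg.Agent.S4398

/-- Let S be a finite 2-group of sectional 2-rank at most 2 that contains a subgroup isomorphic to the dihedral group of order 8 or to the quaternion group of order 8. Then S is dihedral of order at least 8, semidihedral of order at least 16 (order 2^(k+4) with an element a of order 2^(k+3) and an involution b with b a b⁻¹ = a^(2^(k+2)−1)), or generalized quaternion of order at least 8. -/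
theorem result {S : Type*} [Group S] [Finite S] (h2 : IsPGroup 2 S) (hr : Cfsg.SectionalPRankLE 2 2 S)
    (hsub : ∃ H : Subgroup S, Nonempty (↥H ≃* DihedralGroup 4) ∨ Nonempty (↥H ≃* QuaternionGroup 2)) :
    ((∃ k : ℕ, Nonempty (S ≃* DihedralGroup (2 ^ (k + 2)))) ∨
      (∃ k : ℕ, Nat.card S = 2 ^ (k + 4) ∧ ∃ a b : S, orderOf a = 2 ^ (k + 3) ∧ orderOf b = 2 ∧ b * a * b⁻¹ = a ^ (2 ^ (k + 2) - 1)) ∨
      (∃ k : ℕ, Nonempty (S ≃* QuaternionGroup (2 ^ (k + 1))))) := by
  obtain ⟨H, hH⟩ := hsub
  have key : Nat.card H = 8 ∧ ¬ IsMulCommutative H := by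
    rcases hH with ⟨⟨e⟩⟩ | ⟨⟨e⟩⟩
    · refine ⟨by rw [Nat.card_congr e.toEquiv, DihedralGroup.nat_card], fun hc => ?_⟩
      have h1 : (DihedralGroup.r 1 : DihedralGroup 4) * DihedralGroup.sr 0 =
          DihedralGroup.sr 0 * DihedralGroup.r 1 := e.symm.injective (by
        rw [map_mul, map_mul]
        exact hc.1.1 _ _)
      revert h1
      decide
    · refine ⟨by rw [Nat.card_congr e.toEquiv, Nat.card_eq_fintype_card, QuaternionGroup.card], fun hc => ?_⟩
      have h1 : (QuaternionGroup.a 1 : QuaternionGroup 2) * QuaternionGroup.xa 0 =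
          QuaternionGroup.xa 0 * QuaternionGroup.a 1 := e.symm.injective (by
        rw [map_mul, map_mul]
        exact hc.1.1 _ _)
      revert h1
      decide
  have hab := Cfsg.Agent.TwoGroupRecog.index_commutator_of_nonabelian_eight _ S rfl h2 hr H key.1 key.2
  refine Cfsg.Agent.TwoGroupRecog.classify_of_index_commutator h2 hab ?_
  intro h4
  have h := Subgroup.card_subgroup_dvd_card H
  rw [h4, key.1] at h
  norm_num at h

end Cfsg.Agent.S4398
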