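import Cfsg.Statements.S4400
import Cfsg.Agent.EqLemmas
import Cfsg.Agent.Lib.PGroup.Basic
import Cfsg.Agent.Lib.Cores.Basic
import Cfsg.Agent.Lib.Solvable.Basic

set_option autoImplicit false
open Cfsg

namespace Cfsg.Agent.S4400

open Subgroup

/-- A non-trivial normal subgroup meets the centre; for a centre of order two it contains it. -/
theorem center_le_of_normal {P : Type*} [Group P] [Finite P] (h2 : IsPGroup 2 P)
    (hZ : Nat.card (center P) = 2) (N : Subgroup P) [N.Normal] (hN : N ≠ ⊥) : center P ≤ N := by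
  have : Fact (Nat.Prime 2) := ⟨Nat.prime_two⟩
  have hne := PGroup.inf_center_ne_bot h2 (N := N) hN
  have hle : N ⊓ center P ≤ center P := inf_le_right
  have hd := card_dvd_of_le hle
  rw [hZ] at hd
  rcases (Nat.dvd_prime Nat.prime_two).mp hd with h | h
  · exact absurd (card_eq_one.mp h) hne
  · exact (eq_of_le_of_card_ge hle (by rw [h, hZ])).ge.trans inf_le_left

theorem four_le_index_frattini {P : Type*} [Group P] [Finite P] (h2 : IsPGroup 2 P)
    (hna : ¬ IsMulCommutative P) : 4 ≤ (frattini P).index := by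
  have : Fact (Nat.Prime 2) := ⟨Nat.prime_two⟩
  obtain ⟨n, hn⟩ := IsPGroup.index h2 (frattini P)
  by_contra hlt
  have h1 : n ≤ 1 := by
    by_contra h
    have : 2 ^ 2 ≤ 2 ^ n := Nat.pow_le_pow_right two_pos (by omega)
    omega
  haveI := normal_of_characteristic (frattini P)
  have hcy : IsCyclic (P ⧸ frattini P) := by
    rcases Nat.le_one_iff_eq_zero_or_eq_one.mp h1 with rfl | rfl
    · haveI : Subsingleton (P ⧸ frattini P) :=
        (Nat.card_eq_one_iff_unique.mp (by rw [← index_eq_card, hn]; rfl)).1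
      infer_instance
    · exact isCyclic_of_prime_card (p := 2) (by rw [← index_eq_card, hn]; rfl)
  obtain ⟨g, hg⟩ := hcy.exists_generator
  obtain ⟨a, rfl⟩ := QuotientGroup.mk_surjective g
  have htop : zpowers a ⊔ frattini P = ⊤ := by
    refine (eq_top_iff' _).mpr fun b => ?_
    obtain ⟨i, hi⟩ := mem_zpowers_iff.mp (hg (b : P ⧸ frattini P))
    rw [← QuotientGroup.mk_zpow, QuotientGroup.eq] at hi
    have : b = a ^ i * ((a ^ i)⁻¹ * b) := by group
    rw [this]
    exact mul_mem (mem_sup_left (zpow_mem (mem_zpowers a) i)) (mem_sup_right hi)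
  have := frattini_nongenerating htop
  exact hna ⟨⟨fun u v => by
    obtain ⟨i, rfl⟩ := mem_zpowers_iff.mp (this ▸ mem_top u)
    obtain ⟨j, rfl⟩ := mem_zpowers_iff.mp (this ▸ mem_top v)
    rw [← zpow_add, ← zpow_add, add_comm]⟩⟩

/-- Let S be a finite 2-group of sectional 2-rank at most 4, and let P and Q be normal non-abelian subgroups of S whose centres have order 2 and are different. Then P and Q commute elementwise and intersect trivially, and PQ contains its own centralizer in S. -/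
theorem result {S : Type*} [Group S] [Finite S] (h2 : IsPGroup 2 S) (hr : Cfsg.SectionalPRankLE 2 4 S)
    (P Q : Subgroup S) [P.Normal] [Q.Normal] (hP : ¬ IsMulCommutative ↥P) (hQ : ¬ IsMulCommutative ↥Q)
    (hZP : Nat.card ↥(Subgroup.center ↥P) = 2) (hZQ : Nat.card ↥(Subgroup.center ↥Q) = 2)
    (hne : (Subgroup.center ↥P).map P.subtype ≠ (Subgroup.center ↥Q).map Q.subtype) :
    ⁅P, Q⁆ = ⊥ ∧ P ⊓ Q = ⊥ ∧ Subgroup.centralizer ((P ⊔ Q : Subgroup S) : Set S) ≤ P ⊔ Q := by
  classical
  have : Fact (Nat.Prime 2) := ⟨Nat.prime_two⟩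
  set ZP := (Subgroup.center ↥P).map P.subtype with hZPd
  set ZQ := (Subgroup.center ↥Q).map Q.subtype with hZQd
  haveI hZPn : ZP.Normal := Cores.map_subtype_normal_of_characteristic P _
  haveI hZQn : ZQ.Normal := Cores.map_subtype_normal_of_characteristic Q _
  have hcP : Nat.card ZP = 2 := by rw [hZPd, Subgroup.card_subtype, hZP]
  have hcQ : Nat.card ZQ = 2 := by rw [hZQd, Subgroup.card_subtype, hZQ]
  -- normal subgroups of order two are central
  have hcentral : ∀ N : Subgroup S, N.Normal → Nat.card N = 2 → N ≤ Subgroup.center S := by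
    intro N hN h v hv
    rw [Subgroup.mem_center_iff]
    intro g
    by_cases hv1 : v = 1
    · subst hv1; simp
    have hmem := hN.conj_mem v hv g
    have hgv1 : g * v * g⁻¹ ≠ 1 := fun h' => hv1 (conj_eq_one_iff.mp h')
    have huniq : ∀ u ∈ N, u ≠ 1 → u = v := by
      intro u hu hu1
      obtain ⟨w, w', hne', hall⟩ := Nat.card_eq_two_iff.mp h
      have hu' : (⟨u, hu⟩ : N) = w ∨ (⟨u, hu⟩ : N) = w' := by
        have := hall ▸ Set.mem_univ (⟨u, hu⟩ : N)
        simpa using this
      have hv' : (⟨v, hv⟩ : N) = w ∨ (⟨v, hv⟩ : N) = w' := by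
        have := hall ▸ Set.mem_univ (⟨v, hv⟩ : N)
        simpa using this
      have h1' : (1 : N) = w ∨ (1 : N) = w' := by
        have := hall ▸ Set.mem_univ (1 : N)
        simpa using this
      by_contra huv
      rcases hu' with a | a <;> rcases hv' with b | b <;> rcases h1' with c | c
      all_goals first
        | exact huv (congrArg Subtype.val (a.trans b.symm))
        | exact hu1 (congrArg Subtype.val (a.trans c.symm))
        | exact hv1 (congrArg Subtype.val (b.trans c.symm))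
    exact mul_inv_eq_iff_eq_mul.mp (huniq _ hmem hgv1)
  have hinf : P ⊓ Q = ⊥ := by
    by_contra h
    have key : ∀ (R : Subgroup S), R.Normal → Nat.card (Subgroup.center ↥R) = 2 → P ⊓ Q ≤ R →
        (Subgroup.center ↥R).map R.subtype ≤ P ⊓ Q := by
      intro R hR hZR hle
      haveI : ((P ⊓ Q).subgroupOf R).Normal := (inferInstance : (P ⊓ Q).Normal).subgroupOf R
      have hne' : (P ⊓ Q).subgroupOf R ≠ ⊥ := by
        intro hb
        rw [Subgroup.subgroupOf_eq_bot, disjoint_iff, inf_eq_left.mpr hle] at hb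
        exact h hb
      have := Subgroup.map_mono (f := R.subtype) (center_le_of_normal (h2.to_subgroup R) hZR _ hne')
      rwa [Subgroup.subgroupOf_map_subtype, inf_eq_left.mpr hle] at this
    have h1 := key P inferInstance hZP inf_le_left
    have h2' := key Q inferInstance hZQ inf_le_right
    -- the centre of `P` is central in `Q`
    have h3 : ZP ≤ ZQ := fun v hv => ⟨⟨v, (h1 hv).2⟩, Subgroup.mem_center_iff.mpr fun w =>
      Subtype.ext (Subgroup.mem_center_iff.mp (hcentral ZP hZPn hcP hv) w), rfl⟩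
    exact hne (Subgroup.eq_of_le_of_card_ge h3 (by rw [hcP, hcQ]))
  have hcomm : ⁅P, Q⁆ = ⊥ := le_bot_iff.mp (hinf ▸ le_inf (Subgroup.commutator_le_left P Q) (Subgroup.commutator_le_right P Q))
  refine ⟨hcomm, hinf, ?_⟩
  set PQ := P ⊔ Q with hPQd
  have hPcQ := Subgroup.commutator_eq_bot_iff_le_centralizer.mp hcomm
  by_contra hle
  obtain ⟨x₀, hx₀, hx₀'⟩ := SetLike.not_le_iff_exists.mp hle
  obtain ⟨k, hk⟩ := h2 x₀
  obtain ⟨x, hxC, hxn, hx2⟩ : ∃ x ∈ Subgroup.centralizer (PQ : Set S), x ∉ PQ ∧ x ^ 2 ∈ PQ := by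
    have he : ∃ i, x₀ ^ 2 ^ i ∈ PQ := ⟨k, hk ▸ one_mem PQ⟩
    obtain ⟨i, hi⟩ : ∃ i, Nat.find he = i + 1 :=
      ⟨Nat.find he - 1, by
        have : Nat.find he ≠ 0 := fun h => hx₀' (by simpa [h] using Nat.find_spec he)
        omega⟩
    refine ⟨x₀ ^ 2 ^ i, pow_mem hx₀ _, Nat.find_min he (by omega), ?_⟩
    rw [← pow_mul, ← pow_succ, ← hi]
    exact Nat.find_spec he
  set ΦP := (frattini ↥P).map P.subtype
  set ΦQ := (frattini ↥Q).map Q.subtype
  haveI hΦPn : ΦP.Normal := Cores.map_subtype_normal_of_characteristic P _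
  haveI hΦQn : ΦQ.Normal := Cores.map_subtype_normal_of_characteristic Q _
  set N := ΦP ⊔ ΦQ with hN
  set K := PQ ⊔ Subgroup.zpowers x with hK
  have hNK : N ≤ K := le_sup_of_le_left (sup_le_sup (Subgroup.map_subtype_le _) (Subgroup.map_subtype_le _))
  -- centres lie in the Frattini subgroups
  have hZΦ : ∀ (R : Subgroup S), Nat.card (Subgroup.center ↥R) = 2 → ¬ IsMulCommutative R →
      Subgroup.center ↥R ≤ frattini ↥R := by
    intro R hZR hna
    haveI := Subgroup.normal_of_characteristic (frattini ↥R)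
    refine center_le_of_normal (h2.to_subgroup R) hZR _ fun hb => hna ⟨⟨fun u v => ?_⟩⟩
    have hle' := PGroup.commutator_le_frattini (h2.to_subgroup R)
    rw [hb, le_bot_iff] at hle'
    have := Subgroup.commutator_mem_commutator (Subgroup.mem_top u) (Subgroup.mem_top v)
    rw [← _root_.commutator_def, hle', Subgroup.mem_bot] at this
    exact commutatorElement_eq_one_iff_mul_comm.mp this
  have hdecomp : ∀ g ∈ PQ, ∃ u ∈ P, ∃ v ∈ Q, g = u * v := by
    intro g hg
    rw [← SetLike.mem_coe, hPQd, Subgroup.mul_normal] at hg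
    obtain ⟨u, hu, v, hv, rfl⟩ := hg
    exact ⟨u, hu, v, hv, rfl⟩
  have hsq : ∀ (R : Subgroup S), ∀ u ∈ R, u ^ 2 ∈ (frattini ↥R).map R.subtype := fun R u hu =>
    ⟨⟨u, hu⟩ ^ 2, PGroup.pow_mem_frattini (h2.to_subgroup R) _, rfl⟩
  have hx2N : x ^ 2 ∈ N := by
    obtain ⟨u, hu, v, hv, huv⟩ := hdecomp _ hx2
    have hxx := Subgroup.mem_centralizer_iff.mp (pow_mem hxC 2)
    have hucv : ∀ w ∈ Q, Commute u w := fun w hw => (Subgroup.mem_centralizer_iff.mp (hPcQ hu) w hw).symm
    have huZ : u ∈ ΦP := by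
      refine ⟨⟨u, hu⟩, hZΦ P hZP hP (Subgroup.mem_center_iff.mpr fun w => Subtype.ext ?_), rfl⟩
      show (w : S) * u = u * w
      have h1 := hxx w (Subgroup.mem_sup_left w.2)
      rw [huv] at h1
      have h2'' : v * (w : S) = w * v := Subgroup.mem_centralizer_iff.mp (hPcQ w.2) v hv
      refine mul_right_cancel (b := v) ?_
      rw [mul_assoc, h1, mul_assoc, h2'', mul_assoc]
    have hvZ : v ∈ ΦQ := by
      refine ⟨⟨v, hv⟩, hZΦ Q hZQ hQ (Subgroup.mem_center_iff.mpr fun w => Subtype.ext ?_), rfl⟩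
      show (w : S) * v = v * w
      have h1 := hxx w (Subgroup.mem_sup_right w.2)
      rw [huv] at h1
      refine mul_left_cancel (a := u) ?_
      rw [← mul_assoc, (hucv w w.2).eq, mul_assoc, h1, mul_assoc]
    rw [huv]
    exact mul_mem (Subgroup.mem_sup_left huZ) (Subgroup.mem_sup_right hvZ)
  haveI : (N.subgroupOf K).Normal := (inferInstance : N.Normal).subgroupOf K
  have hsqK : ∀ q : ↥K ⧸ N.subgroupOf K, q * q = 1 := by
    intro q
    obtain ⟨⟨g, hg⟩, rfl⟩ := QuotientGroup.mk_surjective q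
    rw [← QuotientGroup.mk_mul, QuotientGroup.eq_one_iff, Subgroup.mem_subgroupOf]
    show g * g ∈ N
    rw [← SetLike.mem_coe, hK, Subgroup.normal_mul] at hg
    obtain ⟨h, hh, w, ⟨i, rfl⟩, rfl⟩ := hg
    obtain ⟨u, hu, v, hv, rfl⟩ := hdecomp h hh
    show u * v * x ^ i * (u * v * x ^ i) ∈ N
    have c1 : Commute (u * v) (x ^ i) :=
      (show Commute (u * v) x from Subgroup.mem_centralizer_iff.mp hxC _
        (mul_mem (Subgroup.mem_sup_left hu) (Subgroup.mem_sup_right hv))).zpow_right i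
    have c2 : Commute u v := (Subgroup.mem_centralizer_iff.mp (hPcQ hu) v hv).symm
    rw [← sq, c1.mul_pow, c2.mul_pow, ← zpow_natCast (x ^ i), ← zpow_mul, mul_comm i, zpow_mul, zpow_natCast]
    exact mul_mem (mul_mem (Subgroup.mem_sup_left (hsq P u hu)) (Subgroup.mem_sup_right (hsq Q v hv)))
      (zpow_mem hx2N i)
  have hcommK : IsMulCommutative (⊤ : Subgroup (↥K ⧸ N.subgroupOf K)) := ⟨⟨fun p q => Subtype.ext (by
    have hi : ∀ r : ↥K ⧸ N.subgroupOf K, r⁻¹ = r := fun r => inv_eq_of_mul_eq_one_right (hsqK r)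
    show p.1 * q.1 = q.1 * p.1
    calc p.1 * q.1 = (p.1 * q.1)⁻¹ := (hi _).symm
      _ = _ := by rw [mul_inv_rev, hi, hi])⟩⟩
  have hbound := hr K (N.subgroupOf K) ⊤ hcommK fun q _ => by rw [sq]; exact hsqK q
  rw [Subgroup.card_top, ← Subgroup.index_eq_card] at hbound
  -- counting
  have hcardPQ : Nat.card PQ = Nat.card P * Nat.card Q := by
    have h1 := Solvable.card_sup_mul_card_inf P Q
    rw [hinf, Subgroup.card_bot, mul_one] at h1
    exact h1
  have hcardN : Nat.card N = Nat.card ΦP * Nat.card ΦQ := by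
    have h1 := Solvable.card_sup_mul_card_inf ΦP ΦQ
    rw [le_bot_iff.mp (hinf ▸ inf_le_inf (Subgroup.map_subtype_le _) (Subgroup.map_subtype_le _) :
      ΦP ⊓ ΦQ ≤ ⊥), Subgroup.card_bot, mul_one] at h1
    exact h1
  have hlt : PQ < K := lt_of_le_of_ne le_sup_left fun h => hxn (h ▸ Subgroup.mem_sup_right (Subgroup.mem_zpowers x))
  have h2K : 2 * Nat.card PQ ≤ Nat.card K := by
    obtain ⟨c, hc⟩ := Subgroup.card_dvd_of_le hlt.le
    have hne' : Nat.card PQ ≠ Nat.card K := fun h => hlt.ne (Subgroup.eq_of_le_of_card_ge hlt.le h.ge)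
    rcases c with _ | _ | c
    · rw [mul_zero] at hc; exact absurd hc Nat.card_pos.ne'
    · rw [zero_add, mul_one] at hc; exact absurd hc.symm hne'
    · rw [hc, mul_comm]; exact Nat.mul_le_mul_left _ (by omega)
  have hΦ : ∀ (R : Subgroup S), ¬ IsMulCommutative R →
      4 * Nat.card ((frattini ↥R).map R.subtype) ≤ Nat.card R := by
    intro R hna
    rw [Subgroup.card_subtype, ← (frattini ↥R).card_mul_index, mul_comm]
    exact Nat.mul_le_mul_left _ (four_le_index_frattini (h2.to_subgroup R) hna)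
  have hKN := (N.subgroupOf K).card_mul_index
  rw [Nat.card_congr (Subgroup.subgroupOfEquivOfLe hNK).toEquiv] at hKN
  have h5 : Nat.card N * (N.subgroupOf K).index ≤ Nat.card N * 16 := Nat.mul_le_mul_left _ (hbound.trans (by norm_num))
  have h6 := Nat.mul_le_mul (hΦ P hP) (hΦ Q hQ)
  have h7 : 0 < Nat.card N := Nat.card_pos
  rw [hcardN] at hKN h5 h7
  rw [hcardPQ] at h2K
  nlinarith

end Cfsg.Agent.S4400
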