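import Cfsg.Statements.S4401
import Cfsg.Agent.EqLemmas
import Cfsg.Agent.S4400
import Cfsg.Agent.Lib.TwoGroupRecog.Sectional

set_option autoImplicit false
open Cfsg

namespace Cfsg.Agent.S4401

open Subgroup

theorem center_two {S : Type*} [Group S] [Finite S] (X : Subgroup S) (hZ : Nat.card (center X) = 2) :
    ∃ z ∈ X, z ≠ 1 ∧ z * z = 1 ∧ (∀ u ∈ X, z * u = u * z) ∧
      ∀ c ∈ X, (∀ u ∈ X, c * u = u * c) → c = 1 ∨ c = z := by
  haveI : Nontrivial (center X) := Finite.one_lt_card_iff_nontrivial.mp (by omega)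
  obtain ⟨⟨⟨z, hz⟩, hzc⟩, hz1⟩ := exists_ne (1 : center X)
  have hsq : z * z = 1 := by
    have h := congrArg (fun w : center X => ((w : X) : S)) (pow_card_eq_one' (x := (⟨⟨z, hz⟩, hzc⟩ : center X)))
    rw [hZ] at h
    simpa [sq] using h
  refine ⟨z, hz, fun h => hz1 (Subtype.ext (Subtype.ext h)), hsq,
    fun u hu => (congrArg Subtype.val (mem_center_iff.mp hzc ⟨u, hu⟩)).symm, fun c hc hcc => ?_⟩
  have hcm : (⟨c, hc⟩ : X) ∈ center X := mem_center_iff.mpr fun u => Subtype.ext (hcc u u.2).symm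
  obtain ⟨v, w, -, hall⟩ := Nat.card_eq_two_iff.mp hZ
  have hmem : ∀ q : center X, q = v ∨ q = w := fun q => by
    have := hall ▸ Set.mem_univ q
    simpa using this
  rcases hmem 1 with a | a <;> rcases hmem ⟨⟨z, hz⟩, hzc⟩ with b | b <;> rcases hmem ⟨⟨c, hc⟩, hcm⟩ with d | d
  all_goals first
    | exact absurd (b.trans a.symm) hz1
    | exact Or.inl (congrArg (fun q : center X => ((q : X) : S)) (d.trans a.symm))
    | exact Or.inr (congrArg (fun q : center X => ((q : X) : S)) (d.trans b.symm))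

/-- `S4400` inside a subgroup `S₀`, in element form. -/
theorem pair {S : Type*} [Group S] [Finite S] (h2 : IsPGroup 2 S) (hr : Cfsg.SectionalPRankLE 2 4 S)
    {S₀ X Y : Subgroup S} (hX : X ≤ S₀) (hY : Y ≤ S₀)
    (hXn : ∀ s ∈ S₀, ∀ u ∈ X, s * u * s⁻¹ ∈ X) (hYn : ∀ s ∈ S₀, ∀ u ∈ Y, s * u * s⁻¹ ∈ Y)
    (hXa : ¬ IsMulCommutative X) (hYa : ¬ IsMulCommutative Y)
    (hZX : Nat.card (center X) = 2) (hZY : Nat.card (center Y) = 2)
    {zx : S} (hzx : zx ∈ X) (hzx1 : zx ≠ 1) (hzxc : ∀ u ∈ X, zx * u = u * zx)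
    (hne : ¬ (zx ∈ Y ∧ ∀ u ∈ Y, zx * u = u * zx)) :
    (∀ u ∈ X, ∀ v ∈ Y, u * v = v * u) ∧ (∀ u ∈ X, u ∈ Y → u = 1) ∧
      ∀ c ∈ S₀, (∀ u ∈ X, c * u = u * c) → (∀ v ∈ Y, c * v = v * c) → ∃ u ∈ X, ∃ v ∈ Y, c = u * v := by
  set X' := X.subgroupOf S₀
  set Y' := Y.subgroupOf S₀
  haveI : X'.Normal := ⟨fun u hu s => hXn s s.2 u hu⟩
  haveI : Y'.Normal := ⟨fun u hu s => hYn s s.2 u hu⟩
  have eX := subgroupOfEquivOfLe hX
  have eY := subgroupOfEquivOfLe hY
  obtain ⟨hc, hi, hC⟩ := S4400.result (h2.to_subgroup S₀) (TwoGroupRecog.isSectional_subgroup hr S₀) X' Y'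
    (fun h => hXa ⟨⟨fun a b => eX.symm.injective (by rw [map_mul, map_mul]; exact h.1.1 _ _)⟩⟩)
    (fun h => hYa ⟨⟨fun a b => eY.symm.injective (by rw [map_mul, map_mul]; exact h.1.1 _ _)⟩⟩)
    (by rw [Nat.card_congr (centerCongr eX).toEquiv, hZX])
    (by rw [Nat.card_congr (centerCongr eY).toEquiv, hZY])
    (fun h => hne (by
      have hm : (⟨zx, hX hzx⟩ : S₀) ∈ (center X').map X'.subtype :=
        ⟨⟨⟨zx, hX hzx⟩, hzx⟩, mem_center_iff.mpr fun w => Subtype.ext (Subtype.ext (hzxc _ w.2).symm), rfl⟩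
      rw [h] at hm
      obtain ⟨w, hw, he⟩ := hm
      have hwe : ((w : S₀) : S) = zx := congrArg Subtype.val he
      refine ⟨hwe ▸ w.2, fun u hu => ?_⟩
      have := congrArg (fun q : Y' => ((q : S₀) : S)) (mem_center_iff.mp hw ⟨⟨u, hY hu⟩, hu⟩)
      rw [← hwe]
      exact this.symm))
  have hcen := commutator_eq_bot_iff_le_centralizer.mp hc
  refine ⟨fun u hu v hv => ?_, fun u hu huY => ?_, fun c hcS hcX hcY => ?_⟩
  · exact (congrArg Subtype.val (mem_centralizer_iff.mp (hcen (x := ⟨u, hX hu⟩) hu) ⟨v, hY hv⟩ hv)).symm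
  · have hm : (⟨u, hX hu⟩ : S₀) ∈ X' ⊓ Y' := ⟨hu, huY⟩
    rw [hi, mem_bot] at hm
    exact congrArg Subtype.val hm
  · have hm : (⟨c, hcS⟩ : S₀) ∈ centralizer ((X' ⊔ Y' : Subgroup S₀) : Set S₀) := by
      have hle : X' ⊔ Y' ≤ centralizer ({⟨c, hcS⟩} : Set S₀) := sup_le
        (fun q hq => mem_centralizer_singleton_iff.mpr (Subtype.ext (hcX _ hq).symm))
        (fun q hq => mem_centralizer_singleton_iff.mpr (Subtype.ext (hcY _ hq).symm))
      exact mem_centralizer_iff.mpr fun q hq => mem_centralizer_singleton_iff.mp (hle hq)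
    have hm' : (⟨c, hcS⟩ : S₀) ∈ ((X' ⊔ Y' : Subgroup S₀) : Set S₀) := hC hm
    rw [mul_normal] at hm'
    obtain ⟨u, hu, v, hv, he⟩ := hm'
    exact ⟨u, hu, v, hv, (congrArg Subtype.val he).symm⟩

/-- A factor of a central product with a non-abelian group has smaller sectional rank. -/
theorem rank_two {S : Type*} [Group S] [Finite S] (h2 : IsPGroup 2 S) (hr : Cfsg.SectionalPRankLE 2 4 S)
    {P Q : Subgroup S} (hQ : ¬ IsMulCommutative Q) (hcomm : ∀ u ∈ P, ∀ v ∈ Q, u * v = v * u)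
    (hinf : ∀ u ∈ P, u ∈ Q → u = 1) : Cfsg.SectionalPRankLE 2 2 P := by
  classical
  have : Fact (Nat.Prime 2) := ⟨Nat.prime_two⟩
  intro L N hN A hA hAp
  haveI := hN
  haveI : (frattini Q).Normal := normal_of_characteristic _
  let f : L × Q →* S := MonoidHom.noncommCoprod (P.subtype.comp L.subtype) Q.subtype
    fun a b => hcomm _ (L.subtype a).2 _ b.2
  have hf : Function.Injective f := by
    rw [injective_iff_map_eq_one]
    rintro ⟨a, b⟩ h
    have hab : ((a : P) : S) * (b : S) = 1 := h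
    have hb : (b : S) = ((a : P) : S)⁻¹ := eq_inv_of_mul_eq_one_right hab
    have hinv : ((a : P) : S)⁻¹ ∈ Q := hb ▸ b.2
    have ha1 := hinf _ (inv_mem (a : P).2) hinv
    exact Prod.ext (Subtype.ext (Subtype.ext (inv_eq_one.mp ha1))) (Subtype.ext (hb.trans ha1))
  let e : L × Q ≃* f.range := MonoidHom.ofInjective hf
  set M := N.prod (frattini Q)
  haveI : (M.map e.toMonoidHom).Normal := Normal.map inferInstance _ e.surjective
  let g : L × Q →* f.range ⧸ M.map e.toMonoidHom := (QuotientGroup.mk' _).comp e.toMonoidHom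
  have hker : g.ker = M := by
    rw [← MonoidHom.comap_ker, QuotientGroup.ker_mk']
    exact comap_map_eq_self_of_injective e.injective M
  set B := (A.comap (QuotientGroup.mk' N)).prod (⊤ : Subgroup Q)
  have hBsq : ∀ b ∈ B, g b * g b = 1 := by
    intro b hb
    rw [← map_mul, ← MonoidHom.mem_ker, hker, mem_prod]
    obtain ⟨hb1, -⟩ := mem_prod.mp hb
    refine ⟨(QuotientGroup.eq_one_iff _).mp ?_, ?_⟩
    · show ((b.1 * b.1 : L) : L ⧸ N) = 1
      rw [QuotientGroup.mk_mul, ← sq]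
      exact hAp _ hb1
    · show b.2 * b.2 ∈ frattini Q
      rw [← sq]
      exact PGroup.pow_mem_frattini (h2.to_subgroup Q) _
  have hBc : IsMulCommutative (B.map g) := ⟨⟨fun u v => Subtype.ext (by
    have hi : ∀ r ∈ B.map g, r⁻¹ = r := by
      rintro _ ⟨b, hb, rfl⟩
      exact inv_eq_of_mul_eq_one_right (hBsq b hb)
    show u.1 * v.1 = v.1 * u.1
    calc u.1 * v.1 = (u.1 * v.1)⁻¹ := (hi _ (mul_mem u.2 v.2)).symm
      _ = _ := by rw [mul_inv_rev, hi _ u.2, hi _ v.2])⟩⟩
  have hbound := hr f.range (M.map e.toMonoidHom) (B.map g) hBc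
    (by rintro _ ⟨b, hb, rfl⟩; rw [sq]; exact hBsq b hb)
  have hMB : M ≤ B := prod_mono (fun n hn => by
    rw [mem_comap, QuotientGroup.mk'_apply, (QuotientGroup.eq_one_iff n).mpr hn]; exact one_mem A) le_top
  have h1 := Solvable.card_eq_card_map_mul g B
  rw [hker, inf_eq_right.mpr hMB] at h1
  have h3 := Solvable.card_eq_card_map_mul (QuotientGroup.mk' N) (A.comap (QuotientGroup.mk' N))
  rw [map_comap_eq_self_of_surjective (QuotientGroup.mk'_surjective N), QuotientGroup.ker_mk',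
    inf_eq_right.mpr (QuotientGroup.le_comap_mk' N A)] at h3
  rw [Nat.card_congr (prodEquiv _ _).toEquiv, Nat.card_prod, h3, card_top,
    Nat.card_congr (prodEquiv N (frattini Q)).toEquiv, Nat.card_prod, ← (frattini Q).card_mul_index] at h1
  have h4 := S4400.four_le_index_frattini (h2.to_subgroup Q) hQ
  have hpos : 0 < Nat.card N * Nat.card (frattini Q) := Nat.mul_pos Nat.card_pos Nat.card_pos
  have h5 : Nat.card A * (frattini Q).index = Nat.card (B.map g) :=
    Nat.eq_of_mul_eq_mul_right hpos (by rw [← h1]; ring)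
  have h6 : Nat.card A * 4 ≤ Nat.card A * (frattini Q).index := Nat.mul_le_mul_left _ h4
  have h7 : Nat.card (B.map g) ≤ 2 ^ 4 := hbound
  omega

/-- Let S be a finite 2-group of sectional 2-rank at most 4 and P a proper non-abelian subgroup whose centre has order 2. Let S₀ be the centralizer in S of Z(P) and suppose P is normal in S₀. Then either S₀ = S, or P has sectional 2-rank at most 2 and S₀ has index 2 in S. -/
theorem result {S : Type*} [Group S] [Finite S] (h2 : IsPGroup 2 S) (hr : Cfsg.SectionalPRankLE 2 4 S)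
    (P : Subgroup S) (hPlt : P ≠ ⊤) (hP : ¬ IsMulCommutative ↥P) (hZP : Nat.card ↥(Subgroup.center ↥P) = 2)
    (S₀ : Subgroup S) (hS₀ : S₀ = Subgroup.centralizer (((Subgroup.center ↥P).map P.subtype : Subgroup S) : Set S))
    (hPn : ∀ s ∈ S₀, ∀ x ∈ P, s * x * s⁻¹ ∈ P) :
    S₀ = ⊤ ∨ (Cfsg.SectionalPRankLE 2 2 ↥P ∧ S₀.index = 2) := by
  classical
  have : Fact (Nat.Prime 2) := ⟨Nat.prime_two⟩
  obtain ⟨z, hzP, hz1, hzz, hzc, hzu⟩ := center_two P hZP
  have hmemS₀ : ∀ g : S, g ∈ S₀ ↔ g * z * g⁻¹ = z := by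
    intro g
    rw [hS₀, Subgroup.mem_centralizer_iff]
    constructor
    · intro h
      have hm : z ∈ (Subgroup.center ↥P).map P.subtype :=
        ⟨⟨z, hzP⟩, Subgroup.mem_center_iff.mpr fun u => Subtype.ext (hzc u u.2).symm, rfl⟩
      exact mul_inv_eq_iff_eq_mul.mpr (h z hm).symm
    · rintro h _ ⟨u, hu, rfl⟩
      rcases hzu u u.2 (fun v hv => (congrArg Subtype.val (Subgroup.mem_center_iff.mp hu ⟨v, hv⟩)).symm) with e | e
      · show (u : S) * g = g * u
        rw [e, one_mul, mul_one]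
      · show (u : S) * g = g * u
        rw [e]
        exact (mul_inv_eq_iff_eq_mul.mp h).symm
  refine or_iff_not_imp_left.mpr fun htop => ?_
  haveI : Group.IsNilpotent S := h2.isNilpotent
  set N := Subgroup.normalizer (S₀ : Set S) with hNdef
  have hlt : S₀ < N := Group.normalizerCondition_of_isNilpotent S₀ (lt_top_iff_ne_top.mpr htop)
  obtain ⟨s, hsN, hs⟩ := SetLike.exists_of_lt hlt
  have hPS : P ≤ S₀ := fun u hu => (hmemS₀ u).mpr (mul_inv_eq_iff_eq_mul.mpr (hzc u hu).symm)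
  have hNS : ∀ n ∈ N, ∀ c : S, c ∈ S₀ ↔ n * c * n⁻¹ ∈ S₀ := fun n hn => Subgroup.mem_normalizer_iff.mp hn
  have hNinv : ∀ n ∈ N, ∀ c ∈ S₀, n⁻¹ * c * n ∈ S₀ := by
    intro n hn c hc
    simpa using (hNS n⁻¹ (inv_mem hn) c).mp hc
  -- conjugates of `P` by elements of `N`
  let Pc : S → Subgroup S := fun n => P.map (MulAut.conj n).toMonoidHom
  have hPc : ∀ n u, u ∈ Pc n ↔ n⁻¹ * u * n ∈ P := by
    intro n u
    constructor
    · rintro ⟨v, hv, rfl⟩
      have : n⁻¹ * (MulAut.conj n).toMonoidHom v * n = v := by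
        show n⁻¹ * (n * v * n⁻¹) * n = v
        group
      rw [this]; exact hv
    · intro h
      exact ⟨_, h, by show n * (n⁻¹ * u * n) * n⁻¹ = u; group⟩
  have hPcS : ∀ n ∈ N, Pc n ≤ S₀ := by
    intro n hn u hu
    have := (hNS n hn _).mp (hPS ((hPc n u).mp hu))
    rwa [show n * (n⁻¹ * u * n) * n⁻¹ = u by group] at this
  have hPcn : ∀ n ∈ N, ∀ c ∈ S₀, ∀ u ∈ Pc n, c * u * c⁻¹ ∈ Pc n := by
    intro n hn c hc u hu
    rw [hPc] at hu ⊢
    have := hPn _ (hNinv n hn c hc) _ hu
    rwa [show n⁻¹ * c * n * (n⁻¹ * u * n) * (n⁻¹ * c * n)⁻¹ = n⁻¹ * (c * u * c⁻¹) * n by group] at this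
  have hPca : ∀ n, ¬ IsMulCommutative (Pc n) := fun n h => hP ⟨⟨fun a b =>
    (P.equivMapOfInjective (MulAut.conj n).toMonoidHom (MulAut.conj n).injective).injective (by
      rw [map_mul, map_mul]; exact h.1.1 _ _)⟩⟩
  have hPcZ : ∀ n, Nat.card (Subgroup.center (Pc n)) = 2 := fun n => by
    rw [← Nat.card_congr (Subgroup.centerCongr (P.equivMapOfInjective (MulAut.conj n).toMonoidHom (MulAut.conj n).injective)).toEquiv, hZP]
  -- the basic consequence of `pair`
  have key : ∀ n ∈ N, n * z * n⁻¹ ≠ z →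
      (∀ u ∈ P, ∀ v ∈ Pc n, u * v = v * u) ∧ (∀ u ∈ P, u ∈ Pc n → u = 1) ∧
      ∀ c ∈ S₀, (∀ u ∈ P, c * u = u * c) → (∀ v ∈ Pc n, c * v = v * c) →
        c = 1 ∨ c = z ∨ c = n * z * n⁻¹ ∨ c = z * (n * z * n⁻¹) := by
    intro n hn hne
    obtain ⟨hc, hi, hC⟩ := pair h2 hr hPS (hPcS n hn) hPn (hPcn n hn) hP (hPca n) hZP (hPcZ n) hzP hz1 hzc (by
      rintro ⟨hzQ, hzQc⟩
      rw [hPc] at hzQ
      rcases hzu _ hzQ (fun u hu => by
        have h := hzQc (n * u * n⁻¹) ((hPc _ _).mpr (by simpa [mul_assoc] using hu))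
        calc n⁻¹ * z * n * u = n⁻¹ * (z * (n * u * n⁻¹)) * n := by group
          _ = n⁻¹ * ((n * u * n⁻¹) * z) * n := by rw [h]
          _ = u * (n⁻¹ * z * n) := by group) with e | e
      · exact hz1 (by
          have := congrArg (fun w => n * w * n⁻¹) e
          simpa [mul_assoc] using this)
      · exact hne (by
          conv_lhs => rw [← e]
          group))
    refine ⟨hc, hi, fun c hcS hcP hcQ => ?_⟩
    obtain ⟨u, hu, v, hv, rfl⟩ := hC c hcS hcP hcQ
    have hu' : u = 1 ∨ u = z := hzu u hu fun w hw => by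
      refine mul_right_cancel (b := v) ?_
      rw [mul_assoc, hc w hw v hv, ← mul_assoc, hcP w hw, mul_assoc]
    have hv' : v = 1 ∨ v = n * z * n⁻¹ := by
      have hvn := (hPc n v).mp hv
      rcases hzu _ hvn (fun w hw => by
        have hw' : n * w * n⁻¹ ∈ Pc n := (hPc _ _).mpr (by simpa [mul_assoc] using hw)
        have h := hcQ _ hw'
        have h' := hc u hu _ hw'
        have hvw : v * (n * w * n⁻¹) = n * w * n⁻¹ * v := by
          refine mul_left_cancel (a := u) ?_
          rw [← mul_assoc, h, ← mul_assoc, ← h', mul_assoc]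
        calc n⁻¹ * v * n * w = n⁻¹ * (v * (n * w * n⁻¹)) * n := by group
          _ = n⁻¹ * (n * w * n⁻¹ * v) * n := by rw [hvw]
          _ = w * (n⁻¹ * v * n) := by group) with e | e
      · left
        have := congrArg (fun q => n * q * n⁻¹) e
        simpa [mul_assoc] using this
      · right
        rw [← e]; group
    rcases hu' with rfl | rfl <;> rcases hv' with rfl | rfl
    · exact Or.inl (mul_one _)
    · exact Or.inr (Or.inr (Or.inl (one_mul _)))
    · exact Or.inr (Or.inl (mul_one _))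
    · exact Or.inr (Or.inr (Or.inr rfl))
  have hne : s * z * s⁻¹ ≠ z := fun h => hs ((hmemS₀ s).mpr h)
  obtain ⟨hPQc, hPQi, hfour⟩ := key s hsN hne
  refine ⟨rank_two h2 hr (hPca s) hPQc hPQi, ?_⟩
  set z' := s * z * s⁻¹ with hz'
  have hz'Q : z' ∈ Pc s := ⟨z, hzP, rfl⟩
  have hz'' : z' * z' = 1 := by rw [hz', conj_mul, hzz]; group
  have hzz' : z * z' = z' * z := hPQc z hzP z' hz'Q
  -- only two conjugates of `z` under `N`
  have htwo : ∀ n ∈ N, n * z * n⁻¹ = z ∨ n * z * n⁻¹ = z' := by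
    intro n hn
    by_contra hcon
    push Not at hcon
    obtain ⟨hn1, hn2⟩ := hcon
    obtain ⟨hPR, -, -⟩ := key n hn hn1
    -- the pair `Pc s, Pc n`
    have hsn : s⁻¹ * n ∈ N := mul_mem (inv_mem hsN) hn
    obtain ⟨hPR', -, -⟩ := key (s⁻¹ * n) hsn (fun h => hn2 (by
      rw [hz']
      conv_rhs => rw [← h]
      group))
    have hsub : ∀ r ∈ Pc n, r = 1 ∨ r = z ∨ r = z' ∨ r = z * z' := by
      intro r hr'
      refine hfour r (hPcS n hn hr') (fun u hu => (hPR u hu r hr').symm) fun v hv => ?_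
      rw [hPc] at hv
      have h := hPR' _ hv (s⁻¹ * r * s) ((hPc _ _).mpr (by
        have := (hPc n r).mp hr'
        simpa [mul_assoc] using this))
      calc r * v = s * ((s⁻¹ * r * s) * (s⁻¹ * v * s)) * s⁻¹ := by group
        _ = s * ((s⁻¹ * v * s) * (s⁻¹ * r * s)) * s⁻¹ := by rw [h]
        _ = v * r := by group
    refine hPca n ⟨⟨fun a b => Subtype.ext ?_⟩⟩
    have hcz : Commute z z' := hzz'
    show (a : S) * b = b * a
    rcases hsub a a.2 with e | e | e | e <;> rcases hsub b b.2 with e' | e' | e' | e' <;> rw [e, e'] <;>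
      first
        | simp
        | exact hcz.eq
        | exact hcz.symm.eq
        | exact ((Commute.refl z).mul_right hcz).eq
        | exact ((Commute.refl z).mul_right hcz).symm.eq
        | exact (hcz.symm.mul_right (Commute.refl z')).eq
        | exact (hcz.symm.mul_right (Commute.refl z')).symm.eq
  have hout : ∀ n ∈ N, n ∉ S₀ → n * z * n⁻¹ = z' := fun n hn hn' =>
    (htwo n hn).resolve_left fun h => hn' ((hmemS₀ n).mpr h)
  have hout' : ∀ n ∈ N, n ∉ S₀ → n * z' * n⁻¹ = z := by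
    intro n hn hn'
    rcases htwo (n * s) (mul_mem hn hsN) with h | h
    · calc n * z' * n⁻¹ = n * s * z * (n * s)⁻¹ := by rw [hz']; group
        _ = z := h
    · exfalso
      apply hne
      have h1 := hout n hn hn'
      rw [← h1] at h
      have := congrArg (fun q => n⁻¹ * q * n) h
      rw [hz']
      simpa [mul_assoc] using this
  have hin' : ∀ n ∈ S₀, n * z' * n⁻¹ = z' := by
    intro n hn
    have := (hmemS₀ _).mp (hNinv s hsN n hn)
    rw [hz']
    calc n * (s * z * s⁻¹) * n⁻¹ = s * ((s⁻¹ * n * s) * z * (s⁻¹ * n * s)⁻¹) * s⁻¹ := by group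
      _ = _ := by rw [this]
  -- `N` is the whole group
  have hNtop : N = ⊤ := by
    by_contra hNt
    have hlt' : N < Subgroup.normalizer (N : Set S) :=
      Group.normalizerCondition_of_isNilpotent N (lt_top_iff_ne_top.mpr hNt)
    obtain ⟨t, htN, ht⟩ := SetLike.exists_of_lt hlt'
    have hNN : ∀ c : S, c ∈ N ↔ t * c * t⁻¹ ∈ N := Subgroup.mem_normalizer_iff.mp htN
    have hzN : z ∈ N := hlt.le (hPS hzP)
    obtain ⟨w, hw⟩ : ∃ w, w = z * z' := ⟨_, rfl⟩
    have hwN : ∀ n ∈ N, n * w * n⁻¹ = w := by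
      intro n hn
      rw [hw, ← conj_mul]
      by_cases h : n ∈ S₀
      · rw [(hmemS₀ n).mp h, hin' n h]
      · rw [hout n hn h, hout' n hn h, hzz']
    have hcent : ∀ c : S, (∀ n ∈ N, c * n = n * c) → c = 1 ∨ c = w := by
      intro c hc
      have hcS : c ∈ S₀ := (hmemS₀ c).mpr (mul_inv_eq_iff_eq_mul.mpr (hc z hzN))
      rcases hfour c hcS (fun u hu => hc u (hlt.le (hPS hu))) (fun v hv => hc v (hlt.le (hPcS s hsN hv)))
        with e | e | e | e
      · exact Or.inl e
      · exfalso; exact hne (by rw [← e, hz', ← e]; exact mul_inv_eq_iff_eq_mul.mpr (hc s hsN).symm)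
      · exfalso
        have h1 := hc s hsN
        rw [e] at h1
        exact hne (mul_left_cancel (a := s) (by
          calc s * z' = z' * s := h1.symm
            _ = s * z := by rw [hz']; group))
      · exact Or.inr (e.trans hw.symm)
    have hw1 : w ≠ 1 := fun h => hne (by
      have : z' = z := mul_left_cancel ((hw.symm.trans h).trans hzz.symm)
      exact this)
    have htw : t * w * t⁻¹ = w := by
      refine (hcent _ fun n hn => ?_).resolve_left (fun h => hw1 (conj_eq_one_iff.mp h))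
      have hn' : t⁻¹ * n * t ∈ N := (hNN _).mpr (by rw [show t * (t⁻¹ * n * t) * t⁻¹ = n by group]; exact hn)
      have h := mul_inv_eq_iff_eq_mul.mp (hwN _ hn')
      calc t * w * t⁻¹ * n = t * (w * (t⁻¹ * n * t)) * t⁻¹ := by group
        _ = t * ((t⁻¹ * n * t) * w) * t⁻¹ := by rw [h]
        _ = n * (t * w * t⁻¹) := by group
    set a := t * z * t⁻¹ with ha
    have haN : a ∈ N := (hNN z).mp hzN
    have haa : a * a = 1 := by rw [ha, conj_mul, hzz]; group
    have hab : t * z' * t⁻¹ = a * w := by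
      rw [ha]
      conv_rhs => rw [← htw, conj_mul, hw, ← mul_assoc z z, hzz, one_mul]
    have hconj : ∀ n ∈ N, n * a * n⁻¹ = a ∨ n * a * n⁻¹ = a * w := by
      intro n hn
      have hn' : t⁻¹ * n * t ∈ N := (hNN _).mpr (by rw [show t * (t⁻¹ * n * t) * t⁻¹ = n by group]; exact hn)
      have e : n * a * n⁻¹ = t * ((t⁻¹ * n * t) * z * (t⁻¹ * n * t)⁻¹) * t⁻¹ := by rw [ha]; group
      rcases htwo _ hn' with h | h
      · left; rw [e, h]
      · right; rw [e, h, hab]
    have hwP : w ∉ P := fun h => hne (by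
      have : z' ∈ P := by
        have := mul_mem (inv_mem hzP) h
        rwa [hw, inv_mul_cancel_left] at this
      have h1 := hPQi z' this hz'Q
      exfalso; exact hz1 (conj_eq_one_iff.mp h1))
    have hwQ : w ∉ Pc s := fun h => hz1 (by
      have : z ∈ Pc s := by
        have := mul_mem h (inv_mem hz'Q)
        rwa [hw, mul_inv_cancel_right] at this
      exact hPQi z hzP this)
    by_cases haS : a ∈ S₀
    · have hcommR : ∀ R : Subgroup S, R ≤ S₀ → (∀ c ∈ S₀, ∀ u ∈ R, c * u * c⁻¹ ∈ R) → w ∉ R →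
          ∀ u ∈ R, a * u = u * a := by
        intro R hR hRn hwR u hu
        rcases hconj u (hlt.le (hR hu)) with h | h
        · exact (mul_inv_eq_iff_eq_mul.mp h).symm
        · exfalso
          refine hwR ?_
          have h1 := mul_mem (hRn a⁻¹ (inv_mem haS) u hu) (inv_mem hu)
          have h2' : u * a = a * w * u := mul_inv_eq_iff_eq_mul.mp h
          rw [inv_inv, show a⁻¹ * u * a * u⁻¹ = a⁻¹ * (u * a) * u⁻¹ by group, h2'] at h1
          simpa [mul_assoc] using h1
      rcases hfour a haS (hcommR P hPS hPn hwP) (hcommR (Pc s) (hPcS s hsN) (hPcn s hsN) hwQ) with e | e | e | e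
      · exact hz1 (conj_eq_one_iff.mp e)
      · refine ht (Subgroup.mem_normalizer_iff.mpr fun c => ?_)
        rw [hmemS₀, hmemS₀]
        constructor
        · intro h
          calc t * c * t⁻¹ * z * (t * c * t⁻¹)⁻¹ = t * c * t⁻¹ * a * (t * c * t⁻¹)⁻¹ := by rw [e]
            _ = t * (c * z * c⁻¹) * t⁻¹ := by rw [ha]; group
            _ = z := by rw [h]; exact e
        · intro h
          have h' : t * (c * z * c⁻¹) * t⁻¹ = t * z * t⁻¹ := by
            calc t * (c * z * c⁻¹) * t⁻¹ = t * c * t⁻¹ * a * (t * c * t⁻¹)⁻¹ := by rw [ha]; group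
              _ = z := by rw [e]; exact h
              _ = t * z * t⁻¹ := e.symm
          exact mul_left_cancel (mul_right_cancel h')
      · refine ht (Subgroup.mem_normalizer_iff.mpr fun c => ?_)
        have hz'S : ∀ q : S, q ∈ S₀ ↔ q * z' * q⁻¹ = z' := by
          intro q
          refine ⟨hin' q, fun h => ?_⟩
          have hq : s⁻¹ * q * s ∈ S₀ := by
            rw [hmemS₀]
            calc s⁻¹ * q * s * z * (s⁻¹ * q * s)⁻¹ = s⁻¹ * (q * z' * q⁻¹) * s := by rw [hz']; group
              _ = z := by rw [h, hz']; group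
          have := (hNS s hsN _).mp hq
          rwa [show s * (s⁻¹ * q * s) * s⁻¹ = q by group] at this
        rw [hmemS₀ c, hz'S]
        constructor
        · intro h
          calc t * c * t⁻¹ * z' * (t * c * t⁻¹)⁻¹ = t * c * t⁻¹ * a * (t * c * t⁻¹)⁻¹ := by rw [e]
            _ = t * (c * z * c⁻¹) * t⁻¹ := by rw [ha]; group
            _ = z' := by rw [h]; exact e
        · intro h
          have h' : t * (c * z * c⁻¹) * t⁻¹ = t * z * t⁻¹ := by
            calc t * (c * z * c⁻¹) * t⁻¹ = t * c * t⁻¹ * a * (t * c * t⁻¹)⁻¹ := by rw [ha]; group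
              _ = z' := by rw [e]; exact h
              _ = t * z * t⁻¹ := e.symm
          exact mul_left_cancel (mul_right_cancel h')
      · have hzw : z = w := mul_left_cancel (mul_right_cancel (e.trans (hw.symm.trans htw.symm)))
        exact hz1 (by
          have h1 : z' = 1 := (mul_eq_left.mp (hzw.trans hw).symm)
          exact conj_eq_one_iff.mp h1)
    · -- `a` interchanges `P` and `Pc s`, forcing `P` abelian
      have ham : s⁻¹ * a ∈ S₀ := by
        rw [hmemS₀]
        calc s⁻¹ * a * z * (s⁻¹ * a)⁻¹ = s⁻¹ * (a * z * a⁻¹) * s := by group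
          _ = z := by rw [hout a haN haS, hz']; group
      have haQ : ∀ u ∈ P, a * u * a⁻¹ ∈ Pc s := by
        intro u hu
        rw [hPc]
        have := hPn _ ham u hu
        simpa [mul_assoc] using this
      refine hP ⟨⟨fun u v => Subtype.ext ?_⟩⟩
      have hall : ∀ u ∈ P, u = 1 ∨ u = z := by
        intro u hu
        rcases hconj u (hlt.le (hPS hu)) with h | h
        · left
          refine hPQi u hu ?_
          have h' : u * a = a * u := mul_inv_eq_iff_eq_mul.mp h
          have := haQ u hu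
          rwa [← h', mul_inv_cancel_right] at this
        · right
          have h' : u * a = a * w * u := mul_inv_eq_iff_eq_mul.mp h
          have hai : a⁻¹ = a := inv_eq_of_mul_eq_one_right haa
          have hwu : a * u * a⁻¹ = w * u := by
            rw [hai, mul_assoc, h', ← mul_assoc, ← mul_assoc, haa, one_mul]
          have h1 : w * u ∈ Pc s := hwu ▸ haQ u hu
          have h2' : z * u ∈ Pc s := by
            have h3 := mul_mem (inv_mem hz'Q) h1
            rw [hw, hzz', mul_assoc, inv_mul_cancel_left] at h3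
            exact h3
          have h4 := hPQi _ (mul_mem hzP hu) h2'
          exact mul_left_cancel (h4.trans hzz.symm)
      show (u : S) * v = v * u
      rcases hall u u.2 with e | e <;> rw [e]
      · simp
      · exact hzc v v.2
  rw [Subgroup.index_eq_two_iff]
  refine ⟨s, fun b => ?_⟩
  have hbN : b ∈ N := hNtop ▸ Subgroup.mem_top b
  by_cases hb : b ∈ S₀
  · refine Or.inr ⟨hb, fun h => hs ?_⟩
    simpa using mul_mem (inv_mem hb) h
  · refine Or.inl ⟨?_, hb⟩
    rw [hmemS₀]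
    calc b * s * z * (b * s)⁻¹ = b * z' * b⁻¹ := by rw [hz']; group
      _ = z := hout' b hbN hb

end Cfsg.Agent.S4401
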