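import Cfsg.Statements.S4402
import Cfsg.Agent.EqLemmas
import Cfsg.Agent.Lib.DEightWreath.Quot

set_option autoImplicit false
open Cfsg Subgroup

namespace Cfsg.Agent.S4402

/-- Let S be a finite 2-group of sectional 2-rank at most 4 and P a proper subgroup isomorphic to the wreath product of the dihedral group of order 8 by a group of order 2 (equivalently, to a Sylow 2-subgroup of the symmetric group of degree 8; order 128). Then Z(S) = Z(P) has order 2, P has index 2 in its normalizer N_S(P), N_S(P)/Z(S) is again isomorphic to that wreath product, and every elementary abelian subgroup V of order 16 that is normal in P satisfies N_S(V) = P. -/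
theorem result {S : Type*} [Group S] [Finite S] (h2 : IsPGroup 2 S) (hr : Cfsg.SectionalPRankLE 2 4 S)
    (P : Subgroup S) (hPlt : P ≠ ⊤) (hP : ∃ T : Sylow 2 (Equiv.Perm (Fin 8)), Nonempty (↥P ≃* ↥(T : Subgroup (Equiv.Perm (Fin 8))))) :
    Subgroup.center S = (Subgroup.center ↥P).map P.subtype ∧ Nat.card ↥(Subgroup.center S) = 2 ∧
    P.relIndex (Subgroup.normalizer (P : Set S)) = 2 ∧
    (∃ (_ : ((Subgroup.center S).subgroupOf (Subgroup.normalizer (P : Set S))).Normal) (T : Sylow 2 (Equiv.Perm (Fin 8))),
      Nonempty (↥(Subgroup.normalizer (P : Set S)) ⧸ (Subgroup.center S).subgroupOf (Subgroup.normalizer (P : Set S)) ≃*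
        ↥(T : Subgroup (Equiv.Perm (Fin 8))))) ∧
    ∀ V : Subgroup S, V ≤ P → (∀ g ∈ P, ∀ v ∈ V, g * v * g⁻¹ ∈ V) → Cfsg.IsElementaryAbelian 2 V → Nat.card ↥V = 16 →
      Subgroup.normalizer (V : Set S) = P := by
  obtain ⟨T, ⟨eP⟩⟩ := hP
  obtain ⟨eW⟩ := Agent.DEightWreath.nonempty_equiv_sylow T
  obtain ⟨j, hj, rfl⟩ : ∃ j : Agent.DEightWreath.W8 →* S, Function.Injective j ∧ j.range = P :=
    ⟨P.subtype.comp (eW.trans eP.symm).toMonoidHom,
      P.subtype_injective.comp (eW.trans eP.symm).injective, by
        rw [MonoidHom.range_comp, MonoidHom.range_eq_top.2 (eW.trans eP.symm).surjective,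
          ← MonoidHom.range_eq_map, Subgroup.range_subtype]⟩
  set w := j Agent.DEightWreath.W8.gw with hw
  have hcent : ∀ z, z ∈ (center ↥(j.range)).map j.range.subtype ↔ z = 1 ∨ z = w := by
    intro z
    constructor
    · rintro ⟨⟨c, hc⟩, hcc, rfl⟩
      have := Agent.DEightWreath.center_range_eq hj h2 hr (c := c) fun x => by
        have := congrArg Subtype.val (mem_center_iff.1 hcc ⟨j x, x, rfl⟩)
        exact this.symm
      rwa [map_one] at this
    · rintro (rfl | rfl)
      · exact one_mem _
      · refine ⟨⟨w, _, rfl⟩, mem_center_iff.2 ?_, rfl⟩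
        rintro ⟨_, x, rfl⟩
        refine Subtype.ext ?_
        show j x * w = w * j x
        rw [hw, ← map_mul, ← map_mul, Agent.DEightWreath.gw_central]
  have hw1 : (1 : S) ≠ w := fun h => absurd (hj ((map_one j).trans h)) (by decide)
  have hle : center S ≤ (center ↥(j.range)).map j.range.subtype := fun z hz => by
    rw [hcent]
    have := Agent.DEightWreath.center_range_eq hj h2 hr (c := z)
      fun x => (mem_center_iff.1 hz (j x)).symm
    rwa [map_one] at this
  have hc2 : Nat.card ((center ↥(j.range)).map j.range.subtype) = 2 := by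
    have hset : (((center ↥(j.range)).map j.range.subtype : Subgroup S) : Set S) = {1, w} :=
      Set.ext fun z => by simpa using hcent z
    change Nat.card (((center ↥(j.range)).map j.range.subtype : Subgroup S) : Set S) = 2
    rw [Nat.card_coe_set_eq, hset, Set.ncard_pair hw1]
  have : Fact (Nat.Prime 2) := ⟨Nat.prime_two⟩
  have : Nontrivial S := ⟨⟨1, w, hw1⟩⟩
  have hnt : 1 < Nat.card (center S) := by
    have := h2.center_nontrivial
    exact Finite.one_lt_card
  have hceq : center S = (center ↥(j.range)).map j.range.subtype :=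
    eq_of_le_of_card_ge hle (by omega)
  have hzZ : ∀ z, z ∈ center S ↔ z = 1 ∨ z = w := fun z => by rw [hceq]; exact hcent z
  refine ⟨hceq, by rw [hceq, hc2], Agent.DEightWreath.relIndex_normalizer hj h2 hr hPlt, ?_,
    fun V hVP hVn hVe hV16 => ?_⟩
  · have hn : ((center S).subgroupOf (normalizer (j.range : Set S))).Normal := by
      infer_instance
    exact ⟨hn, Agent.DEightWreath.quotient_equiv hj h2 hr hPlt hzZ⟩
  · refine Agent.DEightWreath.normalizer_eq_range hj h2 hr V hVP hVn
      (fun a ha => by rw [← pow_two]; exact hVe.2 a ha) hV16 fun a ha b hb => ?_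
    exact congrArg Subtype.val (hVe.1.is_comm.comm ⟨a, ha⟩ ⟨b, hb⟩)

end Cfsg.Agent.S4402
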