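import Cfsg.Statements.S4403
import Cfsg.Agent.EqLemmas
import Cfsg.Agent.Lib.Components.GenFitting
import Cfsg.Agent.Lib.Components.Quasisimple
import Cfsg.Agent.Lib.PReduced.Tools

set_option autoImplicit false
open Cfsg

namespace Cfsg.Agent.S4403

open Subgroup in
/-- An element of order prime to `p` normalising a cyclic `p`-subgroup and fixing a nontrivial
element of order `p` in it centralises it. -/
theorem fix_cyclic {K : Type*} [Group K] [Finite K] {p : ℕ} [Fact p.Prime] {g x z : K}
    (hg : ∃ k, orderOf g = p ^ k) (hx : x * g * x⁻¹ ∈ zpowers g)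
    (hxo : (orderOf x).Coprime p) (hz : z ∈ zpowers g) (hzp : orderOf z = p)
    (hxz : x * z * x⁻¹ = z) : Commute x g := by
  obtain ⟨k, hk⟩ := hg
  obtain ⟨r, hr⟩ := mem_zpowers_iff.mp hx
  obtain ⟨i, rfl⟩ := mem_zpowers_iff.mp hz
  have hzr : (g ^ i) ^ r = g ^ i := by
    rw [← zpow_mul, mul_comm, zpow_mul, hr, conj_zpow, hxz]
  have h1 : (p : ℤ) ∣ r - 1 := by
    have h : (g ^ i) ^ (r - 1) = 1 := by rw [zpow_sub_one, hzr, mul_inv_cancel]
    rw [← hzp]
    exact orderOf_dvd_iff_zpow_eq_one.mpr h
  have hpow : ∀ n : ℕ, x ^ n * g * (x ^ n)⁻¹ = g ^ (r ^ n) := by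
    intro n
    induction n with
    | zero => simp
    | succ n ih =>
      rw [pow_succ' x, pow_succ r, zpow_mul]
      calc x * x ^ n * g * (x * x ^ n)⁻¹ = x * (x ^ n * g * (x ^ n)⁻¹) * x⁻¹ := by group
        _ = (x * g * x⁻¹) ^ (r ^ n) := by rw [ih, conj_zpow]
        _ = _ := by rw [← hr, ← zpow_mul, ← zpow_mul, mul_comm]
  have h2 : ((p : ℤ) ^ (k + 1)) ∣ r ^ p ^ k - 1 := by
    simpa using dvd_sub_pow_of_dvd_sub h1 k
  have h3 : g ^ (r ^ p ^ k) = g := by
    have h : g ^ (r ^ p ^ k - 1) = 1 := by
      rw [← orderOf_dvd_iff_zpow_eq_one, hk]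
      push_cast
      exact (pow_dvd_pow _ (Nat.le_succ k)).trans h2
    rwa [zpow_sub_one, mul_inv_eq_one] at h
  have hc : x ^ p ^ k ∈ centralizer ({g} : Set K) := by
    rw [mem_centralizer_singleton_iff]
    exact mul_inv_eq_iff_eq_mul.mp ((hpow (p ^ k)).trans h3)
  obtain ⟨m, hm⟩ := exists_pow_eq_self_of_coprime (Nat.Coprime.pow_left k hxo.symm)
  have := pow_mem hc m
  rw [hm, mem_centralizer_singleton_iff] at this
  exact this

open Subgroup in
/-- An element both whose prime-to-`p` power and whose `p`-power lie in a subgroup lies in it. -/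
theorem mem_of_pow_coprime {K : Type*} [Group K] {C : Subgroup K} {n : K} {s t : ℕ}
    (hst : s.Coprime t) (hs : n ^ s ∈ C) (ht : n ^ t ∈ C) : n ∈ C := by
  obtain ⟨u, v, huv⟩ := Nat.isCoprime_iff_coprime.mpr hst
  have : n = (n ^ s) ^ u * (n ^ t) ^ v := by
    rw [← zpow_natCast n s, ← zpow_natCast n t, ← zpow_mul, ← zpow_mul, ← zpow_add,
      show (s : ℤ) * u + (t : ℤ) * v = 1 by linarith, zpow_one]
  rw [this]
  exact mul_mem (zpow_mem hs u) (zpow_mem ht v)

open Subgroup in
open scoped Pointwise in
/-- A normal subgroup whose intersection with the cyclic Sylow subgroup is not central in its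
normaliser contains the Sylow subgroup. -/
theorem sylow_le_of_simple {K : Type*} [Group K] [Finite K] {p : ℕ} [Fact p.Prime]
    (P : Sylow p K) (hP : IsCyclic ↥(P : Subgroup K)) (N : Subgroup K) [N.Normal]
    (hS : IsSimpleGroup N) (hna : ¬ IsMulCommutative N) (hpN : p ∣ Nat.card N) :
    (P : Subgroup K) ≤ N := by
  obtain ⟨g, hg⟩ := (Subgroup.isCyclic_iff_exists_zpowers_eq_top _).mp hP
  have hgP : g ∈ (P : Subgroup K) := hg ▸ mem_zpowers g
  obtain ⟨k, hk⟩ := IsPGroup.iff_card.mp P.2
  have hgo : orderOf g = p ^ k := by rw [← Nat.card_zpowers, hg, hk]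
  obtain ⟨P0, hP0⟩ : ∃ P0 : Sylow p N, (P0 : Subgroup N) = (P : Subgroup K).subgroupOf N := by
    refine ⟨(P.2.comap_subtype (K := N)).toSylow ?_, rfl⟩
    have hcop := PReduced.sylow_relIndex_coprime_subnormal P (Subgroup.Normal.isSubnormal ‹N.Normal›)
    intro h
    exact (Fact.out : p.Prime).coprime_iff_not_dvd.mp hcop.symm h
  -- Burnside
  obtain ⟨x, hxn, hxc⟩ : ∃ x : N, x ∈ normalizer ((P0 : Subgroup N) : Set N) ∧
      x ∉ centralizer ((P0 : Subgroup N) : Set N) := by
    by_contra h
    push Not at h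
    have hc := MonoidHom.ker_transferSylow_isComplement' P0 h
    have hndvd := MonoidHom.not_dvd_card_ker_transferSylow P0 h
    rcases hS.eq_bot_or_eq_top_of_normal _ (MonoidHom.normal_ker (MonoidHom.transferSylow P0 h)) with hk' | hk'
    · rw [hk', isComplement'_bot_left] at hc
      haveI : IsCyclic (P0 : Subgroup N) := by
        rw [hP0]
        haveI := hP
        exact isCyclic_of_injective
          ((N.subtype.comp ((P : Subgroup K).subgroupOf N).subtype).codRestrict (P : Subgroup K)
            fun a => Subgroup.mem_subgroupOf.mp a.2)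
          fun a b h => Subtype.ext (Subtype.ext (congrArg Subtype.val h :))
      exact hna ⟨⟨fun a b => congrArg Subtype.val ((IsCyclic.isMulCommutative (α := (P0 : Subgroup N))).1.1
        ⟨a, hc ▸ mem_top a⟩ ⟨b, hc ▸ mem_top b⟩)⟩⟩
    · rw [hk', card_top] at hndvd
      exact hndvd hpN
  rw [hP0] at hxn hxc
  set X := N ⊔ (P : Subgroup K) with hX
  set C := centralizer (((P : Subgroup K) ⊓ N : Subgroup K) : Set K) ⊓ X with hC
  have hPC : (P : Subgroup K) ≤ C := by
    refine le_inf (fun a ha b hb => ?_) le_sup_right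
    exact congrArg Subtype.val (hP.isMulCommutative.1.1 ⟨b, hb.1⟩ ⟨a, ha⟩)
  have hxP : ∀ b : K, b ∈ (P : Subgroup K) ⊓ N ↔ (x : K) * b * (x : K)⁻¹ ∈ (P : Subgroup K) ⊓ N := by
    intro b
    constructor
    · intro hb
      exact Subgroup.mem_inf.mpr ⟨mem_subgroupOf.mp ((mem_normalizer_iff.mp hxn ⟨b, hb.2⟩).mp hb.1),
        mul_mem (mul_mem x.2 hb.2) (inv_mem x.2)⟩
    · intro hb
      have hbN : b ∈ N := by
        have := mul_mem (mul_mem (inv_mem x.2) hb.2) x.2
        group at this
        simpa using this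
      exact ⟨mem_subgroupOf.mp ((mem_normalizer_iff.mp hxn ⟨b, hbN⟩).mpr hb.1), hbN⟩
  have hxX : (x : K) ∈ X := mem_sup_left x.2
  have hconjC : (P : Subgroup K).map (MulAut.conj (x : K)).toMonoidHom ≤ C := by
    rintro _ ⟨a, ha, rfl⟩
    show (x : K) * a * (x : K)⁻¹ ∈ C
    refine Subgroup.mem_inf.mpr ⟨mem_centralizer_iff.mpr fun b hb => ?_,
      mul_mem (mul_mem hxX ((hPC ha).2)) (inv_mem hxX)⟩
    have hb' : (x : K)⁻¹ * b * x ∈ (P : Subgroup K) ⊓ N := by
      rw [hxP, show (x : K) * ((x : K)⁻¹ * b * x) * (x : K)⁻¹ = b by group]; exact hb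
    have e := mem_centralizer_iff.mp (hPC ha).1 _ hb'
    calc b * ((x : K) * a * (x : K)⁻¹) = x * ((x : K)⁻¹ * b * x * a) * (x : K)⁻¹ := by group
      _ = x * (a * ((x : K)⁻¹ * b * x)) * (x : K)⁻¹ := by rw [e]
      _ = _ := by group
  obtain ⟨c, hc⟩ := MulAction.exists_smul_eq C
    (P.subtype hPC) ((((MulAut.conj (x : K)) • P : Sylow p K)).subtype hconjC)
  rw [Sylow.smul_subtype hPC c] at hc
  have hPe : (c : K) • P = (x : K) • P := Sylow.subtype_injective hc
  set n := (c : K)⁻¹ * x with hn
  have hnP : n ∈ normalizer ((P : Subgroup K) : Set K) := by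
    refine Sylow.smul_eq_iff_mem_normalizer.mp ?_
    rw [hn, mul_smul, ← hPe, inv_smul_smul]
  have hnX : n ∈ X := mul_mem (inv_mem c.2.2) hxX
  have hnc : n ∉ centralizer (((P : Subgroup K) ⊓ N : Subgroup K) : Set K) := by
    intro h
    have hxc' := mul_mem c.2.1 h
    rw [hn, mul_inv_cancel_left] at hxc'
    exact hxc (mem_centralizer_iff.mpr fun a ha => Subtype.ext (mem_centralizer_iff.mp hxc' a ⟨ha, a.2⟩))
  -- the p'-part
  obtain ⟨a, m, hm, hnm⟩ := (orderOf_pos n).ne' |> Nat.exists_eq_pow_mul_and_not_dvd (p := p)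
    |> fun f => f (Fact.out : p.Prime).ne_one
  have hmc : m.Coprime p := ((Fact.out : p.Prime).coprime_iff_not_dvd.mpr hm).symm
  set y := n ^ p ^ (a + k) with hy
  have hyN : y ∈ N := by
    have hord : (QuotientGroup.mk n : K ⧸ N) ∈ (P : Subgroup K).map (QuotientGroup.mk' N) := by
      have := mem_map_of_mem (QuotientGroup.mk' N) hnX
      rwa [hX, Subgroup.map_sup, QuotientGroup.map_mk'_self, bot_sup_eq] at this
    obtain ⟨b, hb, he⟩ := hord
    rw [← QuotientGroup.eq_one_iff, hy, QuotientGroup.mk_pow, ← he]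
    obtain ⟨i, rfl⟩ := mem_zpowers_iff.mp (hg.symm ▸ hb : b ∈ zpowers g)
    rw [← map_pow]
    have e : (g ^ i) ^ p ^ (a + k) = 1 := by
      rw [← zpow_natCast (g ^ i), ← zpow_mul, ← orderOf_dvd_iff_zpow_eq_one, hgo]
      exact Dvd.dvd.mul_left (Int.natCast_dvd_natCast.mpr (pow_dvd_pow p (Nat.le_add_left k a))) i
    rw [e, map_one]
  have hyo : (orderOf y).Coprime p := by
    refine Nat.Coprime.coprime_dvd_left (orderOf_dvd_of_pow_eq_one ?_) hmc
    rw [hy, ← pow_mul, pow_add, mul_assoc, mul_comm (p ^ k), ← mul_assoc, pow_mul, ← hnm,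
      pow_orderOf_eq_one, one_pow]
  have hynP : y ∈ normalizer ((P : Subgroup K) : Set K) := pow_mem hnP _
  have hyg : y * g * y⁻¹ ∈ zpowers g := by
    rw [hg]; exact (mem_normalizer_iff.mp hynP g).mp hgP
  have hyc : ¬ Commute y g := by
    intro hcomm
    refine hnc (centralizer_le inf_le_left ?_)
    refine mem_of_pow_coprime (Nat.Coprime.pow_left (a + k) hmc.symm)
      (mem_centralizer_iff.mpr fun b hb => ?_) (s := p ^ (a + k)) (t := m) ?_
    · obtain ⟨i, rfl⟩ := mem_zpowers_iff.mp (hg.symm ▸ hb : b ∈ zpowers g)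
      exact ((hcomm.zpow_right i).eq).symm
    · -- a p-element normalising P lies in P
      have hpg : IsPGroup p (zpowers (n ^ m)) := by
        refine IsPGroup.of_card (n := a) ?_
        rw [Nat.card_zpowers, orderOf_pow' n (fun h : m = 0 => hm (h ▸ dvd_zero p)), hnm,
          Nat.gcd_eq_right (dvd_mul_left m (p ^ a)),
          Nat.mul_div_cancel _ (Nat.pos_of_ne_zero fun h : m = 0 => hm (h ▸ dvd_zero p))]
      have hmem : n ^ m ∈ (P : Subgroup K) := by
        have hle : zpowers (n ^ m) ⊔ (P : Subgroup K) = P := P.3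
          (hpg.to_sup_of_normal_right' P.2 (zpowers_le.mpr (pow_mem hnP m))) le_sup_right
        exact hle ▸ mem_sup_left (mem_zpowers _)
      exact mem_centralizer_iff.mpr fun b hb =>
        congrArg Subtype.val (hP.isMulCommutative.1.1 ⟨b, hb⟩ ⟨_, hmem⟩)
  obtain ⟨r, hr⟩ := mem_zpowers_iff.mp hyg
  have hgk : (g ^ (r - 1)) ∈ N := by
    rw [zpow_sub_one, hr, show y * g * y⁻¹ * g⁻¹ = y * (g * y⁻¹ * g⁻¹) by group]
    exact mul_mem hyN (Subgroup.Normal.conj_mem ‹N.Normal› _ (inv_mem hyN) g)
  rw [← hg, zpowers_le]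
  by_cases hk0 : k = 0
  · rw [hk0, pow_zero, orderOf_eq_one_iff] at hgo
    exact hgo ▸ one_mem N
  have hr1 : ¬ (p : ℤ) ∣ r - 1 := by
    intro h
    obtain ⟨w, hw⟩ := h
    refine hyc (fix_cyclic ⟨k, hgo⟩ hyg hyo (z := g ^ p ^ (k - 1)) (pow_mem (mem_zpowers g) _) ?_ ?_)
    · rw [orderOf_pow_of_dvd (pow_ne_zero _ (Fact.out : p.Prime).ne_zero) (hgo ▸ pow_dvd_pow p (Nat.sub_le k 1)),
        hgo, Nat.pow_div (Nat.sub_le k 1) (Fact.out : p.Prime).pos, show k - (k - 1) = 1 by omega, pow_one]
    · rw [← conj_pow, ← hr, ← zpow_natCast, ← zpow_natCast g, ← zpow_mul]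
      rw [show r * ((p ^ (k - 1) : ℕ) : ℤ) = ((p ^ (k - 1) : ℕ) : ℤ) + ((p ^ k : ℕ) : ℤ) * w by
        conv_rhs => rw [show k = k - 1 + 1 by omega, pow_succ]
        simp only [Nat.add_sub_cancel]
        push_cast
        linear_combination ((p : ℤ) ^ (k - 1)) * hw]
      rw [zpow_add, zpow_mul g ((p ^ k : ℕ) : ℤ), zpow_natCast g (p ^ k), ← hgo, pow_orderOf_eq_one,
        one_zpow, mul_one]
  have hco : IsCoprime (r - 1) ((p ^ k : ℕ) : ℤ) := by
    push_cast
    exact IsCoprime.pow_right ((Nat.prime_iff_prime_int.mp Fact.out).coprime_iff_not_dvd.mpr hr1).symm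
  obtain ⟨u, v, huv⟩ := hco
  have : g = (g ^ (r - 1)) ^ u := by
    rw [← zpow_mul]
    calc g = g ^ (u * (r - 1) + v * ((p ^ k : ℕ) : ℤ)) := by rw [huv, zpow_one]
      _ = _ := by
        rw [zpow_add, mul_comm v, zpow_mul g ((p ^ k : ℕ) : ℤ), zpow_natCast g (p ^ k), ← hgo,
          pow_orderOf_eq_one, one_zpow, mul_one, mul_comm]
  exact this ▸ zpow_mem hgk u

/-- Let K be a finite group, p a prime dividing its order with O_{p'}(K) = 1 (no nontrivial normal subgroup of order prime to p), and P a cyclic Sylow p-subgroup of K. Then either P is normal and self-centralizing in K with K/P cyclic of order dividing p − 1 (so K is the semidirect product of P by a group of automorphisms of P of order dividing p − 1), or the generalized Fitting subgroup F*(K) is a non-abelian simple group and p does not divide the index of F*(K) in K. -/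
theorem result {K : Type*} [Group K] [Finite K] (p : ℕ) [Fact p.Prime] (hp : p ∣ Nat.card K) (hO : Cfsg.pPrimeCore p K = ⊥)
    (P : Sylow p K) (hP : IsCyclic ↥(P : Subgroup K)) :
    ((P : Subgroup K).Normal ∧ Subgroup.centralizer ((P : Subgroup K) : Set K) = (P : Subgroup K) ∧
      (∀ (_ : (P : Subgroup K).Normal), IsCyclic (K ⧸ (P : Subgroup K))) ∧ (P : Subgroup K).index ∣ p - 1) ∨
    (IsSimpleGroup ↥(Cfsg.generalizedFittingSubgroup K) ∧ ¬ IsMulCommutative ↥(Cfsg.generalizedFittingSubgroup K) ∧
      ¬ p ∣ (Cfsg.generalizedFittingSubgroup K).index) := by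
  classical
  have hpp : p.Prime := Fact.out
  obtain ⟨g, hg⟩ := (Subgroup.isCyclic_iff_exists_zpowers_eq_top _).mp hP
  -- an element of order `p` spans the subgroup of order `p` of a conjugate of `P`
  have huniq : ∀ x y : K, orderOf x = p → orderOf y = p → Commute x y → y ∈ Subgroup.zpowers x := by
    intro x y hx hy hxy
    have hpg : IsPGroup p ↥(Subgroup.zpowers x ⊔ Subgroup.zpowers y) := by
      refine (IsPGroup.of_card (n := 1) (by rw [Nat.card_zpowers, hx, pow_one])).to_sup_of_normal_right'
        (IsPGroup.of_card (n := 1) (by rw [Nat.card_zpowers, hy, pow_one])) ?_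
      refine Subgroup.zpowers_le.mpr (Subgroup.centralizer_le_normalizer _ ?_)
      refine Subgroup.mem_centralizer_iff.mpr fun b hb => ?_
      obtain ⟨i, rfl⟩ := Subgroup.mem_zpowers_iff.mp hb
      exact ((hxy.zpow_right i).symm).eq
    obtain ⟨Q, hQ⟩ := hpg.exists_le_sylow
    haveI : IsCyclic ↥(Q : Subgroup K) := isCyclic_of_surjective (P.equiv Q).toMonoidHom (P.equiv Q).surjective
    have hxQ : x ∈ (Q : Subgroup K) := hQ (Subgroup.mem_sup_left (Subgroup.mem_zpowers x))
    have hyQ : y ∈ (Q : Subgroup K) := hQ (Subgroup.mem_sup_right (Subgroup.mem_zpowers y))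
    cases nonempty_fintype ↥(Q : Subgroup K)
    by_contra hny
    set f : Option (Subgroup.zpowers x) → ↥(Q : Subgroup K) := fun o =>
      o.elim ⟨y, hyQ⟩ fun u => ⟨u.1, Subgroup.zpowers_le.mpr hxQ u.2⟩ with hf
    have hinj : Function.Injective f := by
      rintro (_ | u) (_ | v) h
      · rfl
      · have h' : y = v.1 := congrArg Subtype.val h
        exact (hny (by rw [h']; exact v.2)).elim
      · have h' : u.1 = y := congrArg Subtype.val h
        exact (hny (by rw [← h']; exact u.2)).elim
      · exact congrArg some (Subtype.ext (congrArg Subtype.val h :))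
    cases nonempty_fintype (Subgroup.zpowers x)
    have hsub : Finset.univ.image f ⊆ Finset.univ.filter fun u : ↥(Q : Subgroup K) => u ^ p = 1 := by
      intro u hu
      obtain ⟨o, -, rfl⟩ := Finset.mem_image.mp hu
      rw [Finset.mem_filter]
      refine ⟨Finset.mem_univ _, Subtype.ext ?_⟩
      rcases o with _ | v
      · show y ^ p = 1
        rw [← hy, pow_orderOf_eq_one]
      · show (v : K) ^ p = 1
        exact orderOf_dvd_iff_pow_eq_one.mp (hx ▸ orderOf_dvd_of_mem_zpowers v.2)
    have h1 := (Finset.card_le_card hsub).trans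
      (IsCyclic.card_pow_eq_one_le (α := ↥(Q : Subgroup K)) hpp.pos)
    rw [Finset.card_image_of_injective _ hinj, Finset.card_univ, Fintype.card_option,
      ← Nat.card_eq_fintype_card, Nat.card_zpowers, hx] at h1
    omega
  by_cases hcore : Cfsg.pCore p K = ⊥
  · right
    have hF : Cfsg.fittingSubgroup K = ⊥ := by rw [Components.fitting_eq_pCore_of hO, hcore]
    have hFs : Cfsg.generalizedFittingSubgroup K = Cfsg.layer K := by
      rw [Cfsg.generalizedFittingSubgroup, hF, sup_bot_eq]
    have hdvd : ∀ L : Subgroup K, Cfsg.IsComponent L → p ∣ Nat.card ↥L := by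
      intro L hL
      by_contra h
      refine Components.IsComponent.ne_bot hL (le_bot_iff.1 ?_)
      rw [← hO]
      exact Cores.le_pPrimeCore_of_isSubnormal hL.1 (Nat.coprime_comm.1 (hpp.coprime_iff_not_dvd.2 h))
    obtain ⟨L, hL⟩ : ∃ L : Subgroup K, Cfsg.IsComponent L := by
      by_contra h
      push Not at h
      have h2 := Components.centralizer_genFitting_le (G := K)
      rw [hFs, Components.layer_eq_bot_iff.2 h] at h2
      have h3 : (⊤ : Subgroup K) ≤ ⊥ := le_trans (fun g _ => Subgroup.mem_centralizer_iff.2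
        fun x hx => by rw [Subgroup.mem_bot.1 hx, one_mul, mul_one]) h2
      haveI : Subsingleton K := Subgroup.subsingleton_iff.mp
        (subsingleton_of_bot_eq_top (le_antisymm bot_le h3))
      rw [Nat.card_unique] at hp
      exact hpp.ne_one (Nat.dvd_one.mp hp)
    -- components are disjoint from their centralisers
    have hinf : ∀ M : Subgroup K, Cfsg.IsComponent M → Cfsg.layer K = M → Subgroup.center ↥M = ⊥ := by
      intro M hM hlay
      haveI : M.Normal := hlay ▸ inferInstance
      haveI : Group.IsNilpotent ↥(Subgroup.center ↥M) := Cores.isNilpotent_of_isMulCommutative _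
      have hn : ((Subgroup.center ↥M).map M.subtype).Normal :=
        ConjAct.normal_of_characteristic_of_normal
      haveI : Group.IsNilpotent ↥((Subgroup.center ↥M).map M.subtype) :=
        Group.nilpotent_of_mulEquiv ((Subgroup.center ↥M).equivMapOfInjective M.subtype M.subtype_injective)
      have h1 : (Subgroup.center ↥M).map M.subtype ≤ ⊥ := hF ▸ le_sSup ⟨hn, inferInstance⟩
      exact (Subgroup.map_eq_bot_iff_of_injective _ M.subtype_injective).1 (le_bot_iff.1 h1)
    have hsingle : ∀ M : Subgroup K, Cfsg.IsComponent M → M = L := by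
      intro M hM
      by_contra hne
      obtain ⟨x, hx⟩ := exists_prime_orderOf_dvd_card' (G := L) p (hdvd L hL)
      obtain ⟨y, hy⟩ := exists_prime_orderOf_dvd_card' (G := M) p (hdvd M hM)
      have hcomm := Components.IsComponent.commutator_eq_bot hL hM (Ne.symm hne)
      have hcen := Subgroup.commutator_eq_bot_iff_le_centralizer.1 hcomm
      have hxy : Commute (x : K) y := (Subgroup.mem_centralizer_iff.mp (hcen x.2) y y.2).symm
      have hmem := huniq x y (by rw [Subgroup.orderOf_coe, hx]) (by rw [Subgroup.orderOf_coe, hy]) hxy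
      have hyL : (y : K) ∈ L := Subgroup.zpowers_le.mpr x.2 hmem
      -- `y` is then central in the layer, hence in the Fitting subgroup
      have hyc : (y : K) ∈ (Subgroup.center ↥(Cfsg.layer K)).map (Cfsg.layer K).subtype := by
        refine ⟨⟨y, Components.IsComponent.le_layer hM y.2⟩, Subgroup.mem_center_iff.mpr fun u => ?_, rfl⟩
        have hle : Cfsg.layer K ≤ Subgroup.centralizer ({(y : K)} : Set K) := by
          refine Components.layer_le fun W hW => ?_
          by_cases hWL : W = L
          · subst hWL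
            intro w hw
            rw [Subgroup.mem_centralizer_singleton_iff]
            exact (Subgroup.mem_centralizer_iff.mp (hcen hw) y y.2).symm
          · intro w hw
            rw [Subgroup.mem_centralizer_singleton_iff]
            exact (Subgroup.mem_centralizer_iff.mp (Subgroup.commutator_eq_bot_iff_le_centralizer.1
              (Components.IsComponent.commutator_eq_bot hW hL hWL) hw) y hyL).symm
        exact Subtype.ext (Subgroup.mem_centralizer_singleton_iff.mp (hle u.2))
      haveI : Group.IsNilpotent ↥(Subgroup.center ↥(Cfsg.layer K)) := Cores.isNilpotent_of_isMulCommutative _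
      have hn : ((Subgroup.center ↥(Cfsg.layer K)).map (Cfsg.layer K).subtype).Normal :=
        ConjAct.normal_of_characteristic_of_normal
      haveI : Group.IsNilpotent ↥((Subgroup.center ↥(Cfsg.layer K)).map (Cfsg.layer K).subtype) :=
        Group.nilpotent_of_mulEquiv ((Subgroup.center ↥(Cfsg.layer K)).equivMapOfInjective _
          (Cfsg.layer K).subtype_injective)
      have hmemb : (y : K) ∈ (⊥ : Subgroup K) :=
        (hF ▸ le_sSup ⟨hn, inferInstance⟩ :
          (Subgroup.center ↥(Cfsg.layer K)).map (Cfsg.layer K).subtype ≤ ⊥) hyc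
      rw [Subgroup.mem_bot, OneMemClass.coe_eq_one] at hmemb
      rw [hmemb, orderOf_one] at hy
      exact hpp.ne_one hy.symm
    have hlay : Cfsg.layer K = L :=
      le_antisymm (Components.layer_le fun M hM => (hsingle M hM).le) (Components.IsComponent.le_layer hL)
    haveI : L.Normal := hlay ▸ inferInstance
    have hZ := hinf L hL hlay
    have hq : Cfsg.IsQuasisimple ↥L := hL.2
    have hsimp : IsSimpleGroup L := by
      haveI := hq.2
      haveI := Components.IsQuasisimple.nontrivial hq
      exact ((QuotientGroup.quotientMulEquivOfEq hZ).trans QuotientGroup.quotientBot).symm.isSimpleGroup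
    have hna := Components.IsQuasisimple.not_isMulCommutative hq
    have hle := sylow_le_of_simple P hP L hsimp hna (hdvd L hL)
    rw [hFs, hlay]
    exact ⟨hsimp, hna, fun h => P.not_dvd_index (h.trans (Subgroup.index_dvd_of_le hle))⟩
  · left
    haveI := Cores.pCore_normal p K
    have hQP : Cfsg.pCore p K ≤ (P : Subgroup K) := Cores.pCore_le_sylow P
    haveI : Nontrivial ↥(Cfsg.pCore p K) := (Subgroup.nontrivial_iff_ne_bot _).mpr hcore
    obtain ⟨m, hm, hm'⟩ := (Cores.isPGroup_pCore p K).nontrivial_iff_card.mp inferInstance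
    obtain ⟨z, hz⟩ := exists_prime_orderOf_dvd_card' (G := ↥(Cfsg.pCore p K)) p (hm' ▸ dvd_pow_self p hm.ne')
    have hzo : orderOf (z : K) = p := by rw [Subgroup.orderOf_coe, hz]
    have hcommQ : ∀ a ∈ Cfsg.pCore p K, ∀ b ∈ Cfsg.pCore p K, Commute a b := fun a ha b hb =>
      congrArg Subtype.val (hP.isMulCommutative.1.1 ⟨a, hQP ha⟩ ⟨b, hQP hb⟩)
    set Z := Subgroup.zpowers (z : K) with hZdef
    haveI hZn : Z.Normal := ⟨fun u hu k => by
      obtain ⟨i, rfl⟩ := Subgroup.mem_zpowers_iff.mp hu
      rw [← conj_zpow]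
      refine zpow_mem (huniq _ _ hzo ?_ ?_) i
      · exact (MulEquiv.orderOf_eq (MulAut.conj k) (z : K)).trans hzo
      · exact hcommQ _ z.2 _ (Subgroup.Normal.conj_mem inferInstance _ z.2 k)⟩
    set C := Subgroup.centralizer (Z : Set K) with hCdef
    haveI hCn : C.Normal := Subgroup.normal_centralizer
    have hzP : (z : K) ∈ (P : Subgroup K) := hQP z.2
    have hPC : (P : Subgroup K) ≤ C := fun a ha => Subgroup.mem_centralizer_iff.mpr fun b hb =>
      congrArg Subtype.val (hP.isMulCommutative.1.1
        ⟨b, Subgroup.zpowers_le.mpr hzP hb⟩ ⟨a, ha⟩)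
    have hCP : C = (P : Subgroup K) := by
      refine le_antisymm ?_ hPC
      have hNC : Subgroup.normalizer ((P.subtype hPC : Sylow p C) : Set C) ≤
          Subgroup.centralizer ((P.subtype hPC : Sylow p C) : Set C) := by
        intro n hn
        obtain ⟨a, m', hm', hnm⟩ := Nat.exists_eq_pow_mul_and_not_dvd (orderOf_pos (n : K)).ne' p hpp.ne_one
        have hmc : m'.Coprime p := (hpp.coprime_iff_not_dvd.mpr hm').symm
        have hnP : (n : K) ∈ Subgroup.normalizer ((P : Subgroup K) : Set K) := by
          rw [Subgroup.mem_normalizer_iff]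
          intro b
          constructor
          · intro hb
            exact Subgroup.mem_subgroupOf.mp ((Subgroup.mem_normalizer_iff.mp hn ⟨b, hPC hb⟩).mp hb)
          · intro hb
            have hbC : b ∈ C := by
              have := mul_mem (mul_mem (inv_mem n.2) (hPC hb)) n.2
              group at this
              simpa using this
            exact Subgroup.mem_subgroupOf.mp ((Subgroup.mem_normalizer_iff.mp hn ⟨b, hbC⟩).mpr hb)
        have key : (n : K) ∈ Subgroup.centralizer ((P : Subgroup K) : Set K) := by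
          refine mem_of_pow_coprime (Nat.Coprime.pow_left a hmc.symm) ?_ ?_ (s := p ^ a) (t := m')
          · have hc : Commute ((n : K) ^ p ^ a) g := by
              have hgP : g ∈ (P : Subgroup K) := hg ▸ Subgroup.mem_zpowers g
              obtain ⟨k, hk⟩ := IsPGroup.iff_card.mp P.2
              refine fix_cyclic ⟨k, by rw [← Nat.card_zpowers, hg, hk]⟩
                (hg.symm ▸ (Subgroup.mem_normalizer_iff.mp (pow_mem hnP _) g).mp hgP) ?_
                (hg.symm ▸ hzP) hzo ?_
              · refine Nat.Coprime.coprime_dvd_left (orderOf_dvd_of_pow_eq_one ?_) hmc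
                rw [← pow_mul, ← hnm, pow_orderOf_eq_one]
              · have := Subgroup.mem_centralizer_iff.mp (pow_mem n.2 (p ^ a) : (n : K) ^ p ^ a ∈ C) z
                  (Subgroup.mem_zpowers _)
                rw [← this, mul_inv_cancel_right]
            refine Subgroup.mem_centralizer_iff.mpr fun b hb => ?_
            obtain ⟨i, rfl⟩ := Subgroup.mem_zpowers_iff.mp (hg.symm ▸ hb : b ∈ Subgroup.zpowers g)
            exact ((hc.zpow_right i).eq).symm
          · have hpg : IsPGroup p (Subgroup.zpowers ((n : K) ^ m')) := by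
              refine IsPGroup.of_card (n := a) ?_
              rw [Nat.card_zpowers, orderOf_pow' _ (fun h : m' = 0 => hm' (h ▸ dvd_zero p)), hnm,
                Nat.gcd_eq_right (dvd_mul_left m' (p ^ a)),
                Nat.mul_div_cancel _ (Nat.pos_of_ne_zero fun h : m' = 0 => hm' (h ▸ dvd_zero p))]
            have hmem : (n : K) ^ m' ∈ (P : Subgroup K) := by
              have hle : Subgroup.zpowers ((n : K) ^ m') ⊔ (P : Subgroup K) = P := P.3
                (hpg.to_sup_of_normal_right' P.2 (Subgroup.zpowers_le.mpr (pow_mem hnP m'))) le_sup_right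
              exact hle ▸ Subgroup.mem_sup_left (Subgroup.mem_zpowers _)
            exact Subgroup.mem_centralizer_iff.mpr fun b hb =>
              congrArg Subtype.val (hP.isMulCommutative.1.1 ⟨b, hb⟩ ⟨_, hmem⟩)
        exact Subgroup.mem_centralizer_iff.mpr fun b hb =>
          Subtype.ext (Subgroup.mem_centralizer_iff.mp key b (Subgroup.mem_subgroupOf.mp hb))
      have hc := MonoidHom.ker_transferSylow_isComplement' (P.subtype hPC) hNC
      have hnd := MonoidHom.not_dvd_card_ker_transferSylow (P.subtype hPC) hNC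
      set M := (MonoidHom.transferSylow (P.subtype hPC) hNC).ker with hM
      have hsub : (M.map C.subtype).IsSubnormal :=
        (Subgroup.Normal.isSubnormal (MonoidHom.normal_ker _) : M.IsSubnormal).trans'
          (Subgroup.Normal.isSubnormal hCn)
      have hbot : M = ⊥ := by
        have h := Cores.le_pPrimeCore_of_isSubnormal (p := p) hsub (by
          rw [Subgroup.card_subtype]
          exact Nat.coprime_comm.1 (hpp.coprime_iff_not_dvd.2 hnd))
        rw [hO, le_bot_iff, Subgroup.map_eq_bot_iff_of_injective _ C.subtype_injective] at h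
        exact h
      rw [hbot, Subgroup.isComplement'_bot_left] at hc
      intro u hu
      have hmem : (⟨u, hu⟩ : C) ∈ ((P.subtype hPC : Sylow p C) : Subgroup C) := hc ▸ Subgroup.mem_top _
      exact hmem
    have hcenP : Subgroup.centralizer ((P : Subgroup K) : Set K) = P :=
      le_antisymm ((Subgroup.centralizer_le (Subgroup.zpowers_le.mpr hzP)).trans hCP.le)
        (fun a ha => Subgroup.mem_centralizer_iff.mpr fun b hb =>
          congrArg Subtype.val (hP.isMulCommutative.1.1 ⟨b, hb⟩ ⟨a, ha⟩))
    have hPn : (P : Subgroup K).Normal := hCP ▸ hCn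
    haveI := hPn
    let f : K →* MulAut Z := MulAut.conjNormal
    have hker : f.ker = (P : Subgroup K) := by
      rw [← hCP]
      ext k
      rw [MonoidHom.mem_ker, Subgroup.mem_centralizer_iff]
      constructor
      · intro hk b hb
        have := congrArg Subtype.val (DFunLike.congr_fun hk ⟨b, hb⟩)
        simp only [f, MulAut.conjNormal_apply, MulAut.one_apply] at this
        exact (mul_inv_eq_iff_eq_mul.mp this).symm
      · intro hk
        ext b
        simp only [f, MulAut.conjNormal_apply, MulAut.one_apply]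
        rw [mul_inv_eq_iff_eq_mul, hk b b.2]
    have hZc : IsCyclic Z := inferInstance
    have hZcard : Nat.card Z = p := by rw [hZdef, Nat.card_zpowers, hzo]
    let e := IsCyclic.mulAutMulEquiv Z
    haveI : IsCyclic (MulAut Z) := by
      haveI : Fact (Nat.card Z).Prime := ⟨hZcard.symm ▸ hpp⟩
      exact isCyclic_of_surjective e.symm.toMonoidHom e.symm.surjective
    let q : K ⧸ (P : Subgroup K) →* MulAut Z :=
      (QuotientGroup.kerLift f).comp (QuotientGroup.quotientMulEquivOfEq hker.symm).toMonoidHom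
    have hq : Function.Injective q :=
      (QuotientGroup.kerLift_injective f).comp (QuotientGroup.quotientMulEquivOfEq hker.symm).injective
    refine ⟨hPn, hcenP, fun _ => isCyclic_of_injective q hq, ?_⟩
    have h := Subgroup.card_dvd_of_injective q hq
    rw [Nat.card_congr e.toEquiv, hZcard, Nat.card_eq_fintype_card (α := (ZMod p)ˣ), ZMod.card_units p,
      ← Subgroup.index_eq_card] at h
    exact h

end Cfsg.Agent.S4403
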