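import Cfsg.Statements.S4404
import Cfsg.Agent.EqLemmas
import Cfsg.Agent.Lib.LineBlocks.Rank
import Cfsg.Agent.Lib.Solvable.Hall

set_option autoImplicit false
open Cfsg Subgroup
open scoped commutatorElement

namespace Cfsg.Agent.S4404

/-- Let S be a finite solvable group and M a normal elementary abelian 2-subgroup of S. Suppose S contains an elementary abelian subgroup of order p³ for some odd prime p, and a cyclic 3-subgroup Q such that the cubes of the elements of Q centralize M and the commutator subgroup [Q, M] has order 4 (a four-group inside M). Then S contains an elementary abelian subgroup F of order r³, for some odd prime r, whose centralizer of [Q, M] in F — the subgroup C_F([Q, M]) — is not cyclic. -/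
theorem result {S : Type*} [Group S] [Finite S]
    [Group.IsSolvable S] (M : Subgroup S) [M.Normal] (hM : Cfsg.IsElementaryAbelian 2 M)
    (p : ℕ) (hp : p.Prime) (hp2 : p ≠ 2) (E : Subgroup S) (hE : Cfsg.IsElementaryAbelian p E) (hE3 : Nat.card ↥E = p ^ 3)
    (Q : Subgroup S) (hQc : IsCyclic ↥Q) (hQ3 : IsPGroup 3 ↥Q)
    (hQ1 : ∀ x ∈ Q, x ^ 3 ∈ Subgroup.centralizer (M : Set S)) (hQM : Nat.card ↥⁅Q, M⁆ = 4) :
    ∃ (r : ℕ) (F : Subgroup S), r.Prime ∧ r ≠ 2 ∧ Cfsg.IsElementaryAbelian r F ∧ Nat.card ↥F = r ^ 3 ∧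
      ¬ IsCyclic ↥(F ⊓ Subgroup.centralizer ((⁅Q, M⁆ : Subgroup S) : Set S)) := by
  classical
  have hp' : Fact p.Prime := ⟨hp⟩
  obtain ⟨g₀, hg₀⟩ := isCyclic_iff_exists_zpowers_eq_top.1 hQc
  set x : S := (g₀ : S) with hx_def
  have hQx : Q = zpowers x := by
    refine le_antisymm (fun q hq => ?_) (zpowers_le.2 g₀.2)
    obtain ⟨n, hn⟩ := mem_zpowers_iff.1 (hg₀ ▸ mem_top (⟨q, hq⟩ : Q))
    exact mem_zpowers_iff.2 ⟨n, by simpa using congrArg Subtype.val hn⟩
  -- a Hall subgroup of odd order containing `Q` and a conjugate of `E`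
  let π : Set ℕ := {q | q ≠ 2}
  obtain ⟨H, hH, hQH⟩ := Agent.Solvable.exists_piHall_ge_of_solvable (π := π) (U := Q)
    (fun q hq hd => by
      obtain ⟨n, hn⟩ := (IsPGroup.iff_card (p := 3)).1 hQ3
      rw [hn] at hd
      have := (Nat.prime_dvd_prime_iff_eq hq Nat.prime_three).1 (hq.dvd_of_dvd_pow hd)
      show q ≠ 2
      omega)
  obtain ⟨g, hg⟩ := Agent.Solvable.exists_conj_ge_of_solvable (π := π) hH (U := E)
    (fun q hq hd => by
      rw [hE3] at hd
      rw [(Nat.prime_dvd_prime_iff_eq hq hp).1 (hq.dvd_of_dvd_pow hd)]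
      exact hp2)
  have hodd : Odd (Nat.card H) := by
    rw [Nat.odd_iff, Nat.two_dvd_ne_zero.symm]
    intro h2
    exact (Agent.Solvable.isPiHall_iff.1 hH).1 2 Nat.prime_two h2 rfl
  let ι : E →* H := ((MulAut.conj g⁻¹).toMonoidHom.comp E.subtype).codRestrict H fun e => by
    obtain ⟨h, hh, he⟩ := hg e.2
    show g⁻¹ * (e : S) * g⁻¹⁻¹ ∈ H
    rw [← he]
    simpa [mul_assoc] using hh
  have hι : Function.Injective ι := fun a b h => Subtype.ext
    ((MulAut.conj g⁻¹).injective (congrArg Subtype.val h))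
  let _cm : CommGroup M :=
    { (inferInstance : Group M) with mul_comm := hM.1.is_comm.comm }
  let _act : MulDistribMulAction H M :=
    { smul := fun h m => ⟨(h : S) * m * (h : S)⁻¹, Subgroup.Normal.conj_mem ‹M.Normal› _ m.2 _⟩
      one_smul := fun m => Subtype.ext (by show (1 : S) * m * (1 : S)⁻¹ = m; simp)
      mul_smul := fun a b m => Subtype.ext (by
        show ((a : S) * b) * m * ((a : S) * b)⁻¹ = a * (b * m * (b : S)⁻¹) * (a : S)⁻¹
        group)
      smul_mul := fun a s t => Subtype.ext (by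
        show (a : S) * (s * t) * (a : S)⁻¹ = a * s * (a : S)⁻¹ * (a * t * (a : S)⁻¹)
        group)
      smul_one := fun a => Subtype.ext (by show (a : S) * 1 * (a : S)⁻¹ = 1; simp) }
  have h2 : ∀ t : M, t * t = 1 := fun t => Subtype.ext (by
    have := hM.2 t t.2
    rwa [pow_two] at this)
  let x' : H := ⟨x, hQH g₀.2⟩
  have hx' : ∀ t : M, x' • x' • x' • t = t := fun t => by
    refine Subtype.ext ?_
    show x * (x * (x * t * x⁻¹) * x⁻¹) * x⁻¹ = (t : S)
    have := Subgroup.mem_centralizer_iff.1 (hQ1 x g₀.2) t t.2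
    calc x * (x * (x * t * x⁻¹) * x⁻¹) * x⁻¹ = x ^ 3 * t * (x ^ 3)⁻¹ := by
          rw [pow_three]; group
      _ = t := by rw [← this, mul_inv_cancel_right]
  set R := (LineBlocks.mv (V := M) x').range with hR
  have hstep : ∀ n : ℕ, ∀ m : M, LineBlocks.mv (x' ^ n) m ∈ R := by
    intro n
    induction n with
    | zero => intro m; simp [h2]
    | succ n ih =>
      intro m
      have : LineBlocks.mv (x' ^ (n + 1)) m =
          LineBlocks.mv x' (x' ^ n • m) * LineBlocks.mv (x' ^ n) m := by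
        simp only [LineBlocks.mv_apply, pow_succ', mul_smul]
        calc x' • x' ^ n • m * m = x' • x' ^ n • m * m * (x' ^ n • m * x' ^ n • m) := by
              rw [h2, mul_one]
          _ = _ := by ac_rfl
      rw [this]
      exact mul_mem ⟨_, rfl⟩ (ih m)
  have hmem : ∀ (h : H) (m : M), ((LineBlocks.mv h m : M) : S) = ⁅(h : S), (m : S)⁆ := by
    intro h m
    show (h : S) * m * (h : S)⁻¹ * m = _
    rw [commutatorElement_def]
    congr 1
    exact congrArg Subtype.val (LineBlocks.inv_eq h2 m).symm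
  have hRQ : R.map M.subtype = ⁅Q, M⁆ := by
    refine le_antisymm ?_ (commutator_le.2 fun q hq m hm => ?_)
    · rintro _ ⟨_, ⟨m, rfl⟩, rfl⟩
      rw [M.coe_subtype, hmem]
      exact commutator_mem_commutator g₀.2 m.2
    · rw [hQx] at hq
      obtain ⟨n, rfl⟩ := (isOfFinOrder_of_finite x).mem_powers_iff_mem_zpowers.2 hq
      exact ⟨_, hstep n ⟨m, hm⟩, (hmem (x' ^ n) ⟨m, hm⟩).trans (by simp [x'])⟩
  have hD : Nat.card R = 4 := by
    rw [← card_map_of_injective (K := R) M.subtype_injective, hRQ, hQM]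
  have hxp : IsPGroup 3 (zpowers x') := by
    obtain ⟨k, hk⟩ := hQ3 g₀
    refine IsPGroup.of_card_dvd_pow (n := k) ?_
    rw [Nat.card_zpowers]
    exact orderOf_dvd_of_pow_eq_one (Subtype.ext (by
      show x ^ 3 ^ k = 1
      exact congrArg Subtype.val hk))
  obtain ⟨r, F, hr, hr2, hF, hF3, hC⟩ := LineBlocks.exists_rank_three (V := M) h2 hodd hxp hx' hD
    hp hp2 (E := ι.range)
    ⟨⟨⟨by rintro ⟨_, a, rfl⟩ ⟨_, b, rfl⟩; exact Subtype.ext (by
      show ι a * ι b = ι b * ι a
      rw [← map_mul, hE.1.is_comm.comm, map_mul])⟩⟩, by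
      rintro _ ⟨a, rfl⟩
      rw [← map_pow, show a ^ p = 1 from Subtype.ext (hE.2 a a.2), map_one]⟩
    (by rw [← Nat.card_congr (MonoidHom.ofInjective hι).toEquiv, hE3])
  set C := centralizer ((⁅Q, M⁆ : Subgroup S) : Set S)
  have hnc := hC (C.comap H.subtype) fun f hf => by
    show (f : S) ∈ C
    rw [Subgroup.mem_centralizer_iff]
    intro d hd
    rw [SetLike.mem_coe, ← hRQ] at hd
    obtain ⟨d', hd', rfl⟩ := hd
    have := congrArg Subtype.val (hf d' hd')
    change (f : S) * d' * (f : S)⁻¹ = d' at this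
    exact (mul_inv_eq_iff_eq_mul.1 this).symm
  refine ⟨r, F.map H.subtype, hr, hr2, ⟨⟨⟨?_⟩⟩, ?_⟩,
    by rw [card_map_of_injective H.subtype_injective, hF3], fun hc => hnc ?_⟩
  · rintro ⟨_, a, ha, rfl⟩ ⟨_, b, hb, rfl⟩
    refine Subtype.ext ?_
    show (a : S) * b = b * a
    exact congrArg (fun q : F => ((q : H) : S)) (hF.1.is_comm.comm ⟨a, ha⟩ ⟨b, hb⟩)
  · rintro _ ⟨a, ha, rfl⟩
    exact congrArg Subtype.val (hF.2 a ha)
  · have hle : (F ⊓ C.comap H.subtype).map H.subtype ≤ F.map H.subtype ⊓ C := by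
      rintro _ ⟨f, ⟨hf, hfC⟩, rfl⟩
      exact ⟨⟨f, hf, rfl⟩, hfC⟩
    exact isCyclic_of_injective ((inclusion hle).comp
        ((F ⊓ C.comap H.subtype).equivMapOfInjective H.subtype H.subtype_injective).toMonoidHom)
      ((inclusion_injective hle).comp (MulEquiv.injective _))

end Cfsg.Agent.S4404
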