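import Cfsg.Statements.S4405
import Cfsg.Agent.EqLemmas
import Cfsg.Agent.Lib.Cores.Basic
import Cfsg.Agent.Lib.Cores.Fitting
import Cfsg.Agent.Lib.BurnsideBasis.Basic

set_option autoImplicit false
open Cfsg

namespace Cfsg.Agent.S4405

theorem key {Q : Type*} [Group Q] [Finite Q] (W : Subgroup Q) [W.Normal] (τ φ : Q)
    (hW : Nat.card W = 16) (hWc : ∀ a ∈ W, ∀ b ∈ W, a * b = b * a)
    (hW2 : ∀ a ∈ W, a * a = 1) (hτ : τ * τ = 1) (hφ : φ ^ 5 = 1)
    (hne : ∃ a ∈ W, φ * a ≠ a * φ) (hinv : φ * (τ * φ * τ) ∈ W) :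
    Nat.card ↥(W ⊓ Subgroup.centralizer ({τ} : Set Q)) ≤ 4 ∧
      (Nat.card ↥(W ⊓ Subgroup.centralizer ({τ} : Set Q)) = 4 →
        ∀ k ∈ W ⊓ Subgroup.centralizer ({τ} : Set Q), ∃ w ∈ W, k = w * τ * w⁻¹ * τ) := by
  have : Fact (Nat.Prime 5) := ⟨by norm_num⟩
  have : Fact (Nat.Prime 2) := ⟨by norm_num⟩
  set K := W ⊓ Subgroup.centralizer ({τ} : Set Q) with hKdef
  have memK : ∀ x : Q, x ∈ K ↔ x ∈ W ∧ x * τ = τ * x := fun x => by
    rw [hKdef, Subgroup.mem_inf, Subgroup.mem_centralizer_singleton_iff]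
  -- `φ` has no nontrivial fixed points on `W`
  have hfix : ∀ a ∈ W, φ * a = a * φ → a = 1 := by
    intro a ha hca
    set F := W ⊓ Subgroup.centralizer ({φ} : Set Q) with hF
    let σ : MulAut W := MulAut.conjNormal φ
    have hσ5 : σ ^ 5 = 1 := by rw [← map_pow, hφ, map_one]
    have hσg : IsPGroup 5 (Subgroup.zpowers σ) := by
      obtain ⟨i, -, hi⟩ := (Nat.dvd_prime_pow (p := 5) (by norm_num) (m := 1)).1
        (by simpa using orderOf_dvd_of_pow_eq_one hσ5)
      exact IsPGroup.of_card (n := i) (by rw [Nat.card_zpowers, hi])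
    have e : MulAction.fixedPoints (Subgroup.zpowers σ) W = ((F.subgroupOf W : Subgroup W) : Set W) := by
      ext ⟨w, hw⟩
      rw [MulAction.mem_fixedPoints, SetLike.mem_coe, Subgroup.mem_subgroupOf, hF, Subgroup.mem_inf,
        Subgroup.mem_centralizer_singleton_iff]
      have e1 : σ ⟨w, hw⟩ = ⟨w, hw⟩ ↔ w * φ = φ * w := by
        rw [Subtype.ext_iff, MulAut.conjNormal_apply, mul_inv_eq_iff_eq_mul, eq_comm]
      constructor
      · exact fun h => ⟨hw, e1.1 (h ⟨σ, Subgroup.mem_zpowers σ⟩)⟩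
      · rintro ⟨-, h⟩ ⟨g, hg⟩
        have hle : Subgroup.zpowers σ ≤ MulAction.stabilizer (MulAut W) (⟨w, hw⟩ : W) :=
          Subgroup.zpowers_le.2 (e1.2 h)
        exact hle hg
    have hcong := hσg.card_modEq_card_fixedPoints W
    rw [hW, show Nat.card (MulAction.fixedPoints (Subgroup.zpowers σ) W) = Nat.card (F.subgroupOf W) from by rw [e]; rfl,
      Nat.card_congr (Subgroup.subgroupOfEquivOfLe (inf_le_left : F ≤ W)).toEquiv] at hcong
    have hdvd : Nat.card F ∣ 2 ^ 4 := by
      have := Subgroup.card_dvd_of_le (inf_le_left : F ≤ W)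
      rwa [hW] at this
    obtain ⟨i, hi, hi'⟩ := (Nat.dvd_prime_pow Nat.prime_two).1 hdvd
    rw [hi'] at hcong
    interval_cases i <;> simp [Nat.ModEq] at hcong
    · have hFbot : F = ⊥ := Subgroup.eq_bot_of_card_eq F (by rw [hi', pow_zero])
      have : a ∈ F := ⟨ha, Subgroup.mem_centralizer_singleton_iff.2 hca.symm⟩
      rwa [hFbot, Subgroup.mem_bot] at this
    · exfalso
      have hFW : F = W := Subgroup.eq_of_le_of_card_ge inf_le_left (by rw [hi', hW]; norm_num)
      obtain ⟨b, hb, hbn⟩ := hne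
      rw [← hFW] at hb
      exact hbn (Subgroup.mem_centralizer_singleton_iff.1 hb.2).symm
  have hinj : Function.Injective fun c : K × K =>
      (⟨(c.1 : Q) * (φ * c.2 * φ⁻¹), mul_mem ((memK _).1 c.1.2).1
        (Subgroup.Normal.conj_mem ‹W.Normal› _ ((memK _).1 c.2.2).1 φ)⟩ : W) := by
    rintro ⟨a, b⟩ ⟨a', b'⟩ h
    have h' : (a : Q) * (φ * b * φ⁻¹) = (a' : Q) * (φ * b' * φ⁻¹) := congrArg Subtype.val h
    have h2 : (a' : Q)⁻¹ * a = φ * ((b' : Q) * (b : Q)⁻¹) * φ⁻¹ := by
      calc (a' : Q)⁻¹ * a = (a' : Q)⁻¹ * (a * (φ * b * φ⁻¹)) * (φ * b * φ⁻¹)⁻¹ := by group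
        _ = _ := by rw [h']; group
    obtain ⟨huW, hu⟩ := (memK _).1 (mul_mem (inv_mem a'.2) a.2)
    obtain ⟨hvW, hv⟩ := (memK _).1 (mul_mem b'.2 (inv_mem b.2))
    set u := (a' : Q)⁻¹ * a
    set v := (b' : Q) * (b : Q)⁻¹
    set w := φ * (τ * φ * τ) with hw
    have hτφ : τ * φ * τ = φ⁻¹ * w := by rw [hw]; group
    have hu2 : Commute u φ := by
      have c1 : Commute u τ := hu
      have c2 : Commute u (φ * τ * φ⁻¹) := by
        show u * _ = _ * u
        rw [h2]
        calc φ * v * φ⁻¹ * (φ * τ * φ⁻¹) = φ * (v * τ) * φ⁻¹ := by group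
          _ = φ * (τ * v) * φ⁻¹ := by rw [hv]
          _ = φ * τ * φ⁻¹ * (φ * v * φ⁻¹) := by group
      have c3 : Commute u w := hWc u huW w hinv
      have c4 : Commute u ((φ * τ * φ⁻¹) * τ) := c2.mul_right c1
      have hinvτ : τ⁻¹ = τ := inv_eq_of_mul_eq_one_right hτ
      have e5 : τ * φ⁻¹ * τ = w⁻¹ * φ := by
        have : (τ * φ * τ)⁻¹ = τ * φ⁻¹ * τ := by simp [hinvτ, mul_assoc]
        rw [← this, hτφ]; group
      have c5 : Commute u (φ * (w⁻¹ * φ)) := by
        rw [← e5]
        simpa [mul_assoc] using c4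
      have hw' : φ * w⁻¹ * φ⁻¹ ∈ W := Subgroup.Normal.conj_mem ‹W.Normal› _ (inv_mem hinv) φ
      have c6 : Commute u (φ * φ) := by
        have := (show Commute u (φ * w⁻¹ * φ⁻¹) from hWc u huW _ hw').inv_right.mul_right c5
        have e6 : (φ * w⁻¹ * φ⁻¹)⁻¹ * (φ * (w⁻¹ * φ)) = φ * φ := by group
        rwa [e6] at this
      have := c6.pow_right 3
      rwa [← sq, ← pow_mul, show φ ^ (2 * 3) = φ by rw [show 2 * 3 = 5 + 1 from rfl, pow_succ, hφ, one_mul]] at this
    have hu1 : u = 1 := hfix u huW hu2.symm.eq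
    have hv1 : v = 1 := by
      have : φ * v * φ⁻¹ = 1 := h2 ▸ hu1
      simpa using this
    exact Prod.ext (Subtype.ext (inv_mul_eq_one.1 hu1).symm) (Subtype.ext (mul_inv_eq_one.1 hv1).symm)
  have hle := Nat.card_le_card_of_injective _ hinj
  rw [Nat.card_prod, hW] at hle
  refine ⟨by nlinarith, fun h4 => ?_⟩
  -- the commutator map
  have hmem : ∀ a : W, (a : Q) * τ * (a : Q)⁻¹ * τ ∈ K := by
    intro a
    have hinvτ : τ⁻¹ = τ := inv_eq_of_mul_eq_one_right hτ
    have h1 : τ * (a : Q)⁻¹ * τ ∈ W := by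
      have := Subgroup.Normal.conj_mem ‹W.Normal› _ (inv_mem a.2) τ
      rwa [hinvτ] at this
    rw [memK]
    refine ⟨by simpa [mul_assoc] using mul_mem a.2 h1, ?_⟩
    have hc := hWc _ a.2 _ h1
    have hs := hW2 _ a.2
    have hainv : (a : Q)⁻¹ = a := inv_eq_of_mul_eq_one_right hs
    rw [hainv] at hc ⊢
    calc (a : Q) * τ * a * τ * τ = (a : Q) * τ * a * (τ * τ) := by group
      _ = (a : Q) * τ * a := by rw [hτ, mul_one]
      _ = (τ * τ) * ((a : Q) * τ * a) := by rw [hτ, one_mul]
      _ = τ * ((τ * a * τ) * a) := by group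
      _ = τ * ((a : Q) * (τ * a * τ)) := by rw [hc]
      _ = τ * ((a : Q) * τ * a * τ) := by group
  let d : W → K := fun a => ⟨_, hmem a⟩
  have hfib : ∀ a b : W, d a = d b → (b : Q)⁻¹ * a ∈ K := by
    intro a b h
    have h' : (a : Q) * τ * (a : Q)⁻¹ * τ = (b : Q) * τ * (b : Q)⁻¹ * τ := congrArg Subtype.val h
    have h'' := mul_right_cancel h'
    rw [memK]
    refine ⟨mul_mem (inv_mem b.2) a.2, ?_⟩
    calc (b : Q)⁻¹ * a * τ = (b : Q)⁻¹ * (a * τ * (a : Q)⁻¹) * a := by group
      _ = (b : Q)⁻¹ * (b * τ * (b : Q)⁻¹) * a := by rw [h'']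
      _ = τ * ((b : Q)⁻¹ * a) := by group
  classical
  cases nonempty_fintype Q
  have hcount := Finset.card_le_mul_card_image (s := (Finset.univ : Finset W)) (f := d) 4 (fun c _ => by
    rcases (Finset.univ.filter fun x : W => d x = c).eq_empty_or_nonempty with he | ⟨b, hb⟩
    · rw [he]; simp
    simp only [Finset.mem_filter, Finset.mem_univ, true_and] at hb
    rw [← h4, Nat.card_eq_fintype_card, ← Finset.card_univ]
    refine Finset.card_le_card_of_injOn (fun a => if h : d a = c then (⟨_, hfib a b (h.trans hb.symm)⟩ : K) else 1)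
      (fun a _ => Finset.mem_univ _) ?_
    intro a ha a' ha' he
    simp only [Finset.coe_filter, Finset.mem_univ, true_and, Set.mem_ofPred_eq] at ha ha'
    simp only [dif_pos ha, dif_pos ha', Subtype.mk.injEq, mul_right_inj] at he
    exact Subtype.ext he)
  rw [Finset.card_univ, ← Nat.card_eq_fintype_card, hW] at hcount
  have hsurj : Finset.univ.image d = Finset.univ := by
    apply Finset.eq_univ_of_card
    refine le_antisymm (Finset.card_le_univ _) ?_
    rw [← Nat.card_eq_fintype_card, h4]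
    omega
  intro k hk
  have hk' : (⟨k, hk⟩ : K) ∈ Finset.univ.image d := hsurj ▸ Finset.mem_univ _
  obtain ⟨a, -, ha⟩ := Finset.mem_image.1 hk'
  exact ⟨a, a.2, (congrArg Subtype.val ha).symm⟩

/-- Let G be a finite group of order 320 = 64·5 whose largest normal 2-subgroup H = O₂(G) equals the Fitting subgroup F(G) and is extraspecial of order 32 containing no elementary abelian subgroup of order 8 (so H is the central product of a quaternion group and a dihedral group of order 8). If T is an involution of G outside H whose centralizer in H contains an elementary abelian subgroup of order 4, then C_H(T) itself is elementary abelian of order 4. -/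
theorem result {G : Type*} [Group G] [Finite G]
    (hG : Nat.card G = 320) (hHF : Cfsg.pCore 2 G = Cfsg.fittingSubgroup G)
    (hex : Cfsg.IsExtraspecial 2 ↥(Cfsg.pCore 2 G)) (h32 : Nat.card ↥(Cfsg.pCore 2 G) = 32)
    (hminus : ∀ A : Subgroup G, A ≤ Cfsg.pCore 2 G → Cfsg.IsElementaryAbelian 2 A → Nat.card ↥A ≤ 4)
    (T : G) (hT : orderOf T = 2) (hTH : T ∉ Cfsg.pCore 2 G)
    (V : Subgroup G) (hV : V ≤ Cfsg.pCore 2 G ⊓ Subgroup.centralizer ({T} : Set G)) (hV4 : Nat.card ↥V = 4) (hVe : Cfsg.IsElementaryAbelian 2 V) :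
    Nat.card ↥(Cfsg.pCore 2 G ⊓ Subgroup.centralizer ({T} : Set G)) = 4 ∧
      Cfsg.IsElementaryAbelian 2 (Cfsg.pCore 2 G ⊓ Subgroup.centralizer ({T} : Set G)) := by
  have : Fact (Nat.Prime 2) := ⟨by norm_num⟩
  have : Fact (Nat.Prime 5) := ⟨by norm_num⟩
  set H := Cfsg.pCore 2 G with hHdef
  have hH2 : IsPGroup 2 H := Cfsg.Agent.Cores.isPGroup_pCore 2 G
  obtain ⟨⟨-, hfrat, hcomm⟩, hZ2⟩ := hex
  set Z : Subgroup G := (Subgroup.center H).map H.subtype with hZdef
  have hZn : Z.Normal := Cfsg.Agent.Cores.map_subtype_normal_of_characteristic H (Subgroup.center H)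
  have hZcard : Nat.card Z = 2 := by
    rw [hZdef, Subgroup.card_subtype]; exact hZ2
  have hZH : Z ≤ H := Subgroup.map_subtype_le _
  have hZc : ∀ z ∈ Z, ∀ h ∈ H, z * h = h * z := by
    rintro _ ⟨z, hz, rfl⟩ h hh
    exact congrArg Subtype.val (Subgroup.mem_center_iff.1 hz ⟨h, hh⟩).symm
  have hZpow : ∀ z ∈ Z, z * z = 1 := fun z hz => by
    have := pow_card_eq_one' (x := (⟨z, hz⟩ : Z))
    rw [hZcard, Subtype.ext_iff] at this
    simpa [sq] using this
  have hsq : ∀ h ∈ H, h * h ∈ Z := by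
    intro h hh
    refine ⟨⟨h, hh⟩ * ⟨h, hh⟩, ?_, rfl⟩
    show _ ∈ Subgroup.center H
    rw [← hfrat]
    rw [← sq]
    exact Cfsg.Agent.BurnsideBasis.pow_mem_frattini hH2 _
  have hcom : ∀ a ∈ H, ∀ b ∈ H, (a * b)⁻¹ * (b * a) ∈ Z := by
    intro a ha b hb
    refine ⟨((⟨a, ha⟩ : H) * ⟨b, hb⟩)⁻¹ * (⟨b, hb⟩ * ⟨a, ha⟩), ?_, rfl⟩
    show _ ∈ Subgroup.center H
    rw [← hcomm]
    have := Subgroup.commutator_mem_commutator (Subgroup.mem_top ((⟨b, hb⟩ : H)⁻¹)) (Subgroup.mem_top ((⟨a, ha⟩ : H)⁻¹))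
    rw [← commutator_def] at this
    rw [commutatorElement_def] at this
    convert this using 1
    group
  let f := QuotientGroup.mk' Z
  have hf : Function.Surjective f := QuotientGroup.mk'_surjective Z
  let W : Subgroup (G ⧸ Z) := H.map f
  have : W.Normal := Subgroup.Normal.map inferInstance f hf
  have hWcard : Nat.card W = 16 := by
    have h1 := Cfsg.Agent.Cores.card_map_mul_ker f H (by rw [QuotientGroup.ker_mk']; exact hZH)
    rw [QuotientGroup.ker_mk', hZcard] at h1
    simp only [W]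
    omega
  have hWc : ∀ a ∈ W, ∀ b ∈ W, a * b = b * a := by
    rintro _ ⟨a, ha, rfl⟩ _ ⟨b, hb, rfl⟩
    rw [← map_mul, ← map_mul]
    exact QuotientGroup.eq.2 (hcom a ha b hb)
  have hW2 : ∀ a ∈ W, a * a = 1 := by
    rintro _ ⟨a, ha, rfl⟩
    rw [← map_mul]
    exact (QuotientGroup.eq_one_iff _).2 (hsq a ha)
  have hTT : T * T = 1 := by rw [← sq, ← hT, pow_orderOf_eq_one]
  have hTinv : T⁻¹ = T := inv_eq_of_mul_eq_one_right hTT
  obtain ⟨φ, hφ⟩ := exists_prime_orderOf_dvd_card' 5 (show 5 ∣ Nat.card G by rw [hG]; norm_num)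
  have hφ5 : φ ^ 5 = 1 := hφ ▸ pow_orderOf_eq_one φ
  have hφH : φ ∉ H := by
    intro h
    have h1 := Subgroup.orderOf_dvd_natCard H h
    rw [hφ, h32] at h1
    norm_num at h1
  -- the quotient by `H` is dihedral of order 10
  let g := QuotientGroup.mk' H
  have hQ10 : Nat.card (G ⧸ H) = 10 := by
    have := Subgroup.card_eq_card_quotient_mul_card_subgroup H
    rw [hG, h32] at this
    omega
  have hgφ : orderOf (g φ) = 5 := by
    apply orderOf_eq_prime
    · rw [← map_pow, hφ5, map_one]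
    · exact fun h => hφH ((QuotientGroup.eq_one_iff _).1 h)
  have hgT : orderOf (g T) = 2 := by
    apply orderOf_eq_prime
    · rw [← map_pow, sq, hTT, map_one]
    · exact fun h => hTH ((QuotientGroup.eq_one_iff _).1 h)
  set P5 := Subgroup.zpowers (g φ) with hP5
  have hP5i : P5.index = 2 := by
    have := P5.card_mul_index
    rw [show Nat.card P5 = 5 from (Nat.card_zpowers _).trans hgφ, hQ10] at this
    omega
  have hP5n : P5.Normal := Subgroup.normal_of_index_eq_two hP5i
  obtain ⟨i, hi⟩ : ∃ i : ℕ, (g φ) ^ i = g T * g φ * g T := by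
    have hgT' : (g T)⁻¹ = g T := by rw [← map_inv, hTinv]
    have := hP5n.conj_mem _ (Subgroup.mem_zpowers (g φ)) (g T)
    rw [hgT'] at this
    exact (isOfFinOrder_of_finite (g φ)).mem_powers_iff_mem_zpowers.2 this
  have hinvQ : g φ * (g T * g φ * g T) = 1 := by
    have h2 : g φ ^ (i * i) = g φ := by
      rw [pow_mul, hi]
      have hc := conj_pow (a := g T) (b := g φ) (i := i)
      rw [← map_inv, hTinv] at hc
      rw [hc, hi]
      have : g T * g T = 1 := by rw [← map_mul, hTT, map_one]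
      calc g T * (g T * g φ * g T) * g T = (g T * g T) * g φ * (g T * g T) := by group
        _ = g φ := by rw [this, one_mul, mul_one]
    rw [← hi, ← pow_succ']
    have hmod : (i * i) % 5 = 1 := by
      have : g φ ^ (i * i) = g φ ^ 1 := by rw [h2, pow_one]
      rw [pow_eq_pow_iff_modEq, hgφ] at this
      simpa [Nat.ModEq] using this
    have hi5 : i % 5 = 1 ∨ i % 5 = 4 := by
      rw [Nat.mul_mod] at hmod
      have hlt := Nat.mod_lt i (show 5 > 0 by norm_num)
      interval_cases h : i % 5 <;> simp_all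
    rcases hi5 with h | h
    · -- commuting case is impossible
      exfalso
      have hc : g φ ^ i = g φ := by
        conv_rhs => rw [← pow_one (g φ)]
        rw [pow_eq_pow_iff_modEq, hgφ, Nat.ModEq, h]
      rw [hi] at hc
      have hcm : Commute (g T) (g φ) := by
        show g T * g φ = g φ * g T
        calc g T * g φ = g T * g φ * (g T * g T) := by rw [← map_mul, ← map_mul, ← map_mul, hTT, mul_one]
          _ = g T * g φ * g T * g T := by group
          _ = g φ * g T := by rw [hc]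
      have hcyc : IsCyclic (G ⧸ H) := isCyclic_of_orderOf_eq_card (g T * g φ) (by
        rw [hcm.orderOf_mul_eq_mul_orderOf_of_coprime (by rw [hgT, hgφ]; norm_num), hgT, hgφ, hQ10])
      have hT2n : (Subgroup.zpowers (g T)).Normal := ⟨fun x hx y => by
        have := (IsCyclic.isMulCommutative (α := G ⧸ H)).1.1 y x
        rw [this, mul_inv_cancel_right]
        exact hx⟩
      have hcard : Nat.card ((Subgroup.zpowers (g T)).comap g) = 64 := by
        have := Subgroup.card_mul_index ((Subgroup.zpowers (g T)).comap g)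
        rw [Subgroup.index_comap_of_surjective _ (QuotientGroup.mk'_surjective H), hG] at this
        have h1 := (Subgroup.zpowers (g T)).card_mul_index
        rw [Nat.card_zpowers, hgT, hQ10] at h1
        have h2 : (Subgroup.zpowers (g T)).index = 5 := by omega
        rw [h2] at this
        omega
      exact hTH (Cfsg.Agent.Cores.le_pCore (hT2n.comap g) (IsPGroup.of_card (n := 6) (by rw [hcard]; norm_num))
        (Subgroup.mem_zpowers (g T)))
    · have : g φ ^ (i + 1) = g φ ^ 0 := by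
        rw [pow_eq_pow_iff_modEq, hgφ]
        unfold Nat.ModEq
        omega
      rwa [pow_zero] at this
  have hinv : f φ * (f T * f φ * f T) ∈ W := by
    rw [← map_mul, ← map_mul, ← map_mul]
    refine Subgroup.mem_map_of_mem _ ((QuotientGroup.eq_one_iff _).1 ?_)
    show g (φ * (T * φ * T)) = 1
    rw [map_mul, map_mul, map_mul]
    exact hinvQ
  -- `φ` acts nontrivially
  have hne : ∃ a ∈ W, f φ * a ≠ a * f φ := by
    by_contra hc
    push Not at hc
    have hz : ∀ h ∈ H, φ * h = h * φ := by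
      intro h hh
      have hzm : (h * φ)⁻¹ * (φ * h) ∈ Z := by
        refine QuotientGroup.eq.1 ?_
        show f (h * φ) = f (φ * h)
        rw [map_mul, map_mul]
        exact (hc _ (Subgroup.mem_map_of_mem _ hh)).symm
      set z := (h * φ)⁻¹ * (φ * h) with hz'
      have e1 : φ * h = h * φ * z := by rw [hz']; group
      have hzφ : φ * z = z * φ := by
        -- `Z` has order two, so is central
        have h2 := hZn.conj_mem z hzm φ
        by_cases hz1 : z = 1
        · rw [hz1]; simp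
        · have hcard2 : ∀ w ∈ Z, w ≠ 1 → w = z := fun w hw hw1 => by
            by_contra hne
            have : 3 ≤ Nat.card Z := by
              classical
              cases nonempty_fintype G
              have hs : ({⟨1, one_mem _⟩, ⟨z, hzm⟩, ⟨w, hw⟩} : Finset Z).card = 3 := by
                rw [Finset.card_eq_three]
                exact ⟨_, _, _, fun h => hz1 (congrArg Subtype.val h).symm, fun h => hw1 (congrArg Subtype.val h).symm,
                  fun h => hne (congrArg Subtype.val h).symm, rfl⟩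
              rw [Nat.card_eq_fintype_card, ← hs]
              exact Finset.card_le_univ _
            omega
          have := hcard2 _ h2 (by simpa using hz1)
          rwa [mul_inv_eq_iff_eq_mul] at this
      have e1' : φ * h * φ⁻¹ = h * z := by
        calc φ * h * φ⁻¹ = h * φ * z * φ⁻¹ := by rw [e1]
          _ = h * (φ * z) * φ⁻¹ := by group
          _ = h * (z * φ) * φ⁻¹ := by rw [hzφ]
          _ = h * z := by group
      have eq : ∀ n : ℕ, φ ^ n * h * (φ ^ n)⁻¹ = h * z ^ n := by
        intro n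
        induction n with
        | zero => simp
        | succ n ihn =>
          have hc2 : φ * z ^ n * φ⁻¹ = z ^ n := by
            rw [mul_inv_eq_iff_eq_mul]
            exact ((show Commute φ z from hzφ).pow_right n).eq
          calc φ ^ (n + 1) * h * (φ ^ (n + 1))⁻¹ = φ * (φ ^ n * h * (φ ^ n)⁻¹) * φ⁻¹ := by
                rw [pow_succ']; group
            _ = φ * (h * z ^ n) * φ⁻¹ := by rw [ihn]
            _ = (φ * h * φ⁻¹) * (φ * z ^ n * φ⁻¹) := by group
            _ = h * z ^ (n + 1) := by rw [e1', hc2, pow_succ']; group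
      have h5 := eq 5
      rw [hφ5, one_mul, inv_one, mul_one, left_eq_mul] at h5
      have hzz : z ^ 2 = 1 := by rw [sq]; exact hZpow z hzm
      have hz1 : z = 1 := by
        have : z ^ 5 = z := by rw [show 5 = 2 * 2 + 1 from rfl, pow_succ, pow_mul, hzz, one_pow, one_mul]
        rwa [this] at h5
      rw [e1, hz1, mul_one]
    let ψ := MonoidHom.noncommCoprod H.subtype (Subgroup.zpowers φ).subtype (fun x y => by
      obtain ⟨k, hk⟩ := y.2
      show Commute (x : G) y
      rw [← hk]
      exact ((show Commute φ x from hz x x.2).zpow_left k).symm)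
    haveI : Group.IsNilpotent H := hH2.isNilpotent
    haveI : Group.IsNilpotent (Subgroup.zpowers φ) := IsPGroup.isNilpotent (p := 5)
      (IsPGroup.of_card (n := 1) (by rw [Nat.card_zpowers, hφ, pow_one]))
    haveI : Group.IsNilpotent ψ.range := Group.nilpotent_of_surjective ψ.rangeRestrict ψ.rangeRestrict_surjective
    have hφr : φ ∈ ψ.range := ⟨(1, ⟨φ, Subgroup.mem_zpowers φ⟩), by simp [ψ]⟩
    have hHr : H ≤ ψ.range := fun x hx => ⟨(⟨x, hx⟩, 1), by simp [ψ]⟩
    have hrn : ψ.range.Normal := by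
      have : ψ.range = P5.comap g := by
        apply le_antisymm
        · rintro _ ⟨⟨a, ⟨b, ⟨k, hk⟩⟩⟩, rfl⟩
          show g ((a : G) * b) ∈ P5
          rw [map_mul, show g a = 1 from (QuotientGroup.eq_one_iff _).2 a.2, one_mul, ← hk, map_zpow]
          exact zpow_mem (Subgroup.mem_zpowers _) k
        · intro x hx
          obtain ⟨k, hk⟩ := Subgroup.mem_comap.1 hx
          have h1 : x * (φ ^ k)⁻¹ ∈ H := by
            rw [← QuotientGroup.eq_one_iff]
            show g (x * (φ ^ k)⁻¹) = 1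
            rw [map_mul, map_inv, map_zpow]
            simp only at hk
            rw [hk, mul_inv_cancel]
          simpa using mul_mem (hHr h1) (zpow_mem hφr k)
      rw [this]
      exact hP5n.comap g
    have hle : ψ.range ≤ Cfsg.fittingSubgroup G :=
      Cfsg.Agent.Cores.le_fittingSubgroup hrn inferInstance
    exact hφH (hHF.symm ▸ hle hφr)
  have hfT : f T * f T = 1 := by rw [← map_mul, hTT, map_one]
  obtain ⟨hK4, hK4'⟩ := key W (f T) (f φ) hWcard hWc hW2 hfT (by rw [← map_pow, hφ5, map_one]) hne hinv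
  set C := H ⊓ Subgroup.centralizer ({T} : Set G) with hC
  -- `Z ≤ V`
  have hZV : Z ≤ V := by
    intro z hz
    by_contra hzV
    have hcomm' : ∀ a ∈ V, ∀ b ∈ V, a * b = b * a := fun a ha b hb =>
      congrArg Subtype.val (hVe.1.1.1 ⟨a, ha⟩ ⟨b, hb⟩)
    have hVH : V ≤ H := hV.trans inf_le_left
    set A := V ⊔ Z with hA
    have hAle : A ≤ H := sup_le hVH hZH
    have hmem : ∀ a ∈ A, ∃ v ∈ V, ∃ w ∈ Z, v * w = a := fun a ha => Subgroup.mem_sup_of_normal_right.1 ha
    have hAe : Cfsg.IsElementaryAbelian 2 A := by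
      refine ⟨⟨⟨fun a b => Subtype.ext ?_⟩⟩, ?_⟩
      · obtain ⟨v, hv, w, hw, e1⟩ := hmem a a.2
        obtain ⟨v', hv', w', hw', e2⟩ := hmem b b.2
        show (a : G) * b = b * a
        rw [← e1, ← e2]
        calc v * w * (v' * w') = v * (w * v') * w' := by group
          _ = v * (v' * w) * w' := by rw [hZc w hw v' (hVH hv')]
          _ = (v * v') * (w * w') := by group
          _ = (v' * v) * (w' * w) := by rw [hcomm' v hv v' hv', hZc w hw w' (hZH hw')]
          _ = v' * (v * w') * w := by group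
          _ = v' * (w' * v) * w := by rw [hZc w' hw' v (hVH hv)]
          _ = v' * w' * (v * w) := by group
      · intro a ha
        obtain ⟨v, hv, w, hw, rfl⟩ := hmem a ha
        rw [(show Commute v w from (hZc w hw v (hVH hv)).symm).mul_pow, hVe.2 v hv, one_mul, sq, hZpow w hw]
    have h1 := hminus A hAle hAe
    have h2 : V = A := Subgroup.eq_of_le_of_card_ge le_sup_left (by rw [hV4]; exact h1)
    exact hzV (h2 ▸ Subgroup.mem_sup_right hz)
  have hZC : Z ≤ C := hZV.trans hV
  have hmap : C.map f ≤ W ⊓ Subgroup.centralizer ({f T} : Set (G ⧸ Z)) := by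
    rintro _ ⟨c, hc, rfl⟩
    refine ⟨Subgroup.mem_map_of_mem _ hc.1, ?_⟩
    show f c ∈ Subgroup.centralizer ({f T} : Set (G ⧸ Z))
    rw [Subgroup.mem_centralizer_singleton_iff, ← map_mul, ← map_mul,
      Subgroup.mem_centralizer_singleton_iff.1 hc.2]
  have hCm := Cfsg.Agent.Cores.card_map_mul_ker f C (by rw [QuotientGroup.ker_mk']; exact hZC)
  rw [QuotientGroup.ker_mk', hZcard] at hCm
  have hmle := (Subgroup.card_le_of_le hmap).trans hK4
  have hVC := Subgroup.card_le_of_le hV
  have hCdvd : Nat.card C ∣ 2 ^ 5 := by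
    have := Subgroup.card_dvd_of_le (inf_le_left : C ≤ H)
    rwa [h32] at this
  obtain ⟨n, hn, hn'⟩ := (Nat.dvd_prime_pow Nat.prime_two).1 hCdvd
  have hC4 : Nat.card C = 4 := by
    by_contra hne4
    have h8 : Nat.card C = 8 := by
      rw [hV4] at hVC
      interval_cases n <;> omega
    have hKcard : Nat.card ↥(W ⊓ Subgroup.centralizer ({f T} : Set (G ⧸ Z))) = 4 :=
      le_antisymm hK4 ((show 4 ≤ Nat.card (C.map f) by omega).trans (Subgroup.card_le_of_le hmap))
    have hCmap : C.map f = W ⊓ Subgroup.centralizer ({f T} : Set (G ⧸ Z)) :=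
      Subgroup.eq_of_le_of_card_ge hmap (by omega)
    have hCsq : ∀ c ∈ C, c * c = 1 := by
      intro c hc
      obtain ⟨w, ⟨h, hh, rfl⟩, hw⟩ := hK4' hKcard (f c) (hCmap ▸ Subgroup.mem_map_of_mem _ hc)
      set u := h * T * h⁻¹ * T with hu
      have huc : u⁻¹ * c ∈ Z := by
        refine QuotientGroup.eq.1 ?_
        show f u = f c
        rw [hw, hu, map_mul, map_mul, map_mul, map_inv]
      have huC : u ∈ C := by
        have := mul_mem hc (inv_mem (hZC huc))
        simpa using this
      have huT : u * T = T * u := Subgroup.mem_centralizer_singleton_iff.1 huC.2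
      have huu : u * u = 1 := by
        have e : u * (T * u * T) = 1 := by
          have : T * u * T = u⁻¹ := by rw [hu]; simp [mul_assoc, hTinv, hTT]
          rw [this, mul_inv_cancel]
        rwa [← huT, mul_assoc u T T, hTT, mul_one] at e
      have hcu : c = u * (u⁻¹ * c) := by group
      rw [hcu]
      calc u * (u⁻¹ * c) * (u * (u⁻¹ * c)) = u * ((u⁻¹ * c) * u) * (u⁻¹ * c) := by group
        _ = u * (u * (u⁻¹ * c)) * (u⁻¹ * c) := by rw [hZc _ huc u huC.1]
        _ = (u * u) * ((u⁻¹ * c) * (u⁻¹ * c)) := by group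
        _ = 1 := by rw [huu, hZpow _ huc, one_mul]
    have hCe : Cfsg.IsElementaryAbelian 2 C := by
      refine ⟨⟨⟨fun a b => Subtype.ext ?_⟩⟩, fun a ha => by rw [sq, hCsq a ha]⟩
      show (a : G) * b = b * a
      have e1 := inv_eq_of_mul_eq_one_right (hCsq _ (mul_mem a.2 b.2))
      rw [mul_inv_rev, inv_eq_of_mul_eq_one_right (hCsq _ a.2), inv_eq_of_mul_eq_one_right (hCsq _ b.2)] at e1
      exact e1.symm
    have := hminus C inf_le_left hCe
    omega
  have hVC' : V = C := Subgroup.eq_of_le_of_card_ge hV (by rw [hV4, hC4])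
  exact ⟨hC4, hVC' ▸ hVe⟩

end Cfsg.Agent.S4405
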