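import Cfsg.Statements.S4406
import Cfsg.Agent.EqLemmas

set_option autoImplicit false
open Cfsg

namespace Cfsg.Agent.S4406

set_option maxRecDepth 100000 in
set_option maxHeartbeats 2000000 in
theorem pow_four : ∀ a : alternatingGroup (Fin 4), a ^ 4 = 1 → a ^ 2 = 1 := by decide

set_option maxRecDepth 100000 in
set_option maxHeartbeats 4000000 in
theorem cyc : ∀ s : alternatingGroup (Fin 4), s ^ 3 = 1 → s ≠ 1 → ∀ v : alternatingGroup (Fin 4),
    v ^ 2 = 1 → v ≠ 1 → ∀ w : alternatingGroup (Fin 4), w ^ 2 = 1 → w ≠ 1 → v ≠ w →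
    (s * v * s⁻¹ = w ∧ s * w * s⁻¹ = v * w) ∨
      (s⁻¹ * v * s = w ∧ s⁻¹ * w * s = v * w) := by decide


/-- In the direct product P = A₄ × A₄, let X be the Sylow 2-subgroup, X₁ and X₂ its intersections with the two direct factors, Q a Sylow 3-subgroup and Q₁, Q₂ its intersections with the two factors. Then every subgroup B of X of order 4 either meets X₁ or X₂ nontrivially, or is normalized by one of the two subgroups of Q of order 3 other than Q₁ and Q₂. -/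
theorem result
    (X : Sylow 2 (↥(alternatingGroup (Fin 4)) × ↥(alternatingGroup (Fin 4))))
    (Q : Sylow 3 (↥(alternatingGroup (Fin 4)) × ↥(alternatingGroup (Fin 4))))
    (B : Subgroup (↥(alternatingGroup (Fin 4)) × ↥(alternatingGroup (Fin 4)))) (hBX : B ≤ (X : Subgroup _)) (hB4 : Nat.card ↥B = 4) :
    B ⊓ ((X : Subgroup _) ⊓ Subgroup.prod ⊤ ⊥) ≠ ⊥ ∨ B ⊓ ((X : Subgroup _) ⊓ Subgroup.prod ⊥ ⊤) ≠ ⊥ ∨
      ∃ R : Subgroup (↥(alternatingGroup (Fin 4)) × ↥(alternatingGroup (Fin 4))), R ≤ (Q : Subgroup _) ∧ Nat.card ↥R = 3 ∧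
        R ≠ (Q : Subgroup _) ⊓ Subgroup.prod ⊤ ⊥ ∧ R ≠ (Q : Subgroup _) ⊓ Subgroup.prod ⊥ ⊤ ∧ R ≤ Subgroup.normalizer (B : Set _) := by
  classical
  have h3 : Fact (Nat.Prime 3) := ⟨Nat.prime_three⟩
  refine or_iff_not_imp_left.mpr fun hX1 => or_iff_not_imp_left.mpr fun hX2 => ?_
  rw [not_not] at hX1 hX2
  have hinj1 : ∀ b ∈ B, b.2 = 1 → b = 1 := fun b hb h => by
    have hm : b ∈ B ⊓ ((X : Subgroup _) ⊓ Subgroup.prod ⊤ ⊥) :=
      ⟨hb, hBX hb, Subgroup.mem_prod.mpr ⟨Subgroup.mem_top _, Subgroup.mem_bot.mpr h⟩⟩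
    rwa [hX1, Subgroup.mem_bot] at hm
  have hinj2 : ∀ b ∈ B, b.1 = 1 → b = 1 := fun b hb h => by
    have hm : b ∈ B ⊓ ((X : Subgroup _) ⊓ Subgroup.prod ⊥ ⊤) :=
      ⟨hb, hBX hb, Subgroup.mem_prod.mpr ⟨Subgroup.mem_bot.mpr h, Subgroup.mem_top _⟩⟩
    rwa [hX2, Subgroup.mem_bot] at hm
  have hsq : ∀ b ∈ B, b ^ 2 = 1 := fun b hb => by
    have h4 : b ^ 4 = 1 := by
      have := congrArg Subtype.val (pow_card_eq_one' (x := (⟨b, hb⟩ : B)))
      rwa [hB4] at this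
    exact Prod.ext (pow_four b.1 (congrArg Prod.fst h4)) (pow_four b.2 (congrArg Prod.snd h4))
  -- two generators
  cases nonempty_fintype B
  have hB4' : Finset.univ.card (α := B) = 4 := by rw [Finset.card_univ, ← Nat.card_eq_fintype_card, hB4]
  obtain ⟨b₁, hb₁⟩ := Finset.exists_mem_notMem_of_card_lt_card
    (s := ({1} : Finset B)) (t := Finset.univ) (by rw [hB4']; simp)
  obtain ⟨b₂, hb₂⟩ := Finset.exists_mem_notMem_of_card_lt_card
    (s := ({1, b₁} : Finset B)) (t := Finset.univ) (by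
      rw [hB4']; exact lt_of_le_of_lt Finset.card_le_two (by norm_num))
  simp only [Finset.mem_univ, true_and, Finset.mem_singleton, Finset.mem_insert, not_or] at hb₁ hb₂
  obtain ⟨hn2, hn12⟩ := hb₂
  have hne : b₁.val * b₂ ≠ 1 := fun h => hn12 (Subtype.ext (by
    have h1 := hsq b₁ b₁.2
    rw [sq] at h1
    exact (mul_left_cancel (h.trans h1.symm) : b₂.val = b₁)))
  have hall : ∀ b ∈ B, b = 1 ∨ b = b₁.val ∨ b = b₂.val ∨ b = b₁.val * b₂ := by
    intro b hb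
    have hcard : ({1, b₁, b₂, b₁ * b₂} : Finset B).card = 4 := by
      have e1 : b₁ * b₂ ≠ 1 := fun h => hne (congrArg Subtype.val h)
      have e2 : b₁ * b₂ ≠ b₁ := fun h => hn2 (mul_left_cancel (h.trans (mul_one b₁).symm))
      have e3 : b₁ * b₂ ≠ b₂ := fun h => hb₁ (mul_right_cancel (h.trans (one_mul b₂).symm))
      simp [Ne.symm hb₁, Ne.symm hn2, Ne.symm hn12, e1.symm, e2.symm, e3.symm]
    have hu := Finset.eq_of_subset_of_card_le (Finset.subset_univ _) (le_of_eq (hB4'.trans hcard.symm))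
    have hm : (⟨b, hb⟩ : B) ∈ ({1, b₁, b₂, b₁ * b₂} : Finset B) := hu ▸ Finset.mem_univ _
    simp only [Finset.mem_insert, Finset.mem_singleton] at hm
    rcases hm with h | h | h | h
    · exact Or.inl (congrArg Subtype.val h)
    · exact Or.inr (Or.inl (congrArg Subtype.val h))
    · exact Or.inr (Or.inr (Or.inl (congrArg Subtype.val h)))
    · exact Or.inr (Or.inr (Or.inr (congrArg Subtype.val h)))
  have hv1 : b₁.val.1 ≠ 1 := fun h => hb₁ (Subtype.ext (hinj2 _ b₁.2 h))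
  have hv2 : b₂.val.1 ≠ 1 := fun h => hn2 (Subtype.ext (hinj2 _ b₂.2 h))
  have hw1 : b₁.val.2 ≠ 1 := fun h => hb₁ (Subtype.ext (hinj1 _ b₁.2 h))
  have hw2 : b₂.val.2 ≠ 1 := fun h => hn2 (Subtype.ext (hinj1 _ b₂.2 h))
  have hself : ∀ b ∈ B, b * b = 1 := fun b hb => by rw [← sq, hsq b hb]
  have hvne : b₁.val.1 ≠ b₂.val.1 := fun h => hne (hinj2 _ (mul_mem b₁.2 b₂.2) (by
    rw [Prod.fst_mul, ← h, ← Prod.fst_mul, hself _ b₁.2, Prod.fst_one]))
  have hwne : b₁.val.2 ≠ b₂.val.2 := fun h => hne (hinj1 _ (mul_mem b₁.2 b₂.2) (by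
    rw [Prod.snd_mul, ← h, ← Prod.snd_mul, hself _ b₁.2, Prod.snd_one]))
  -- the Sylow 3-subgroup is a product
  set Q₁ := (Q : Subgroup _).map (MonoidHom.fst (alternatingGroup (Fin 4)) (alternatingGroup (Fin 4)))
  set Q₂ := (Q : Subgroup _).map (MonoidHom.snd (alternatingGroup (Fin 4)) (alternatingGroup (Fin 4)))
  have hA : Nat.card (alternatingGroup (Fin 4)) = 12 := by rw [Nat.card_eq_fintype_card]; decide
  have hle3 : ∀ K : Subgroup (alternatingGroup (Fin 4)), IsPGroup 3 K → Nat.card K ≤ 3 := by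
    intro K hK
    obtain ⟨k, hk⟩ := IsPGroup.iff_card.mp hK
    have hd := hA ▸ Subgroup.card_subgroup_dvd_card K
    rw [hk] at hd ⊢
    have : k ≤ 1 := by
      by_contra hk2
      have h9 : 3 ^ 2 ∣ 12 := (pow_dvd_pow 3 (show 2 ≤ k by omega)).trans hd
      norm_num at h9
    exact (Nat.pow_le_pow_right (by norm_num) this).trans_eq (pow_one 3)
  have hQ9 : Nat.card (Q.toSubgroup) = 9 := by
    have hdec : (12 * 12).factorization 3 = 2 := by
      rw [show (12 * 12 : ℕ) = 2 ^ 4 * 3 ^ 2 by norm_num, Nat.factorization_mul (by norm_num) (by norm_num),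
        Nat.prime_two.factorization_pow, Nat.prime_three.factorization_pow]
      simp
    rw [Q.card_eq_multiplicity, Nat.card_prod, hA, hdec]
    norm_num
  have hQeq : Q₁.prod Q₂ = Q.toSubgroup := by
    refine (Subgroup.eq_of_le_of_card_ge (fun x hx => Subgroup.mem_prod.mpr
      ⟨Subgroup.mem_map_of_mem _ hx, Subgroup.mem_map_of_mem _ hx⟩) ?_).symm
    rw [Nat.card_congr (Subgroup.prodEquiv Q₁ Q₂).toEquiv, Nat.card_prod, hQ9]
    exact (Nat.mul_le_mul (hle3 _ (Q.2.map _)) (hle3 _ (Q.2.map _))).trans (by norm_num)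
  have h9 : Nat.card Q₁ * Nat.card Q₂ = 9 := by
    rw [← hQ9, ← hQeq, Nat.card_congr (Subgroup.prodEquiv Q₁ Q₂).toEquiv, Nat.card_prod]
  have hl1 := hle3 Q₁ (Q.2.map _)
  have hl2 := hle3 Q₂ (Q.2.map _)
  have hc1 : Nat.card Q₁ = 3 := by nlinarith
  have hc2 : Nat.card Q₂ = 3 := by nlinarith
  haveI : Nontrivial Q₁ := Finite.one_lt_card_iff_nontrivial.mp (by omega)
  haveI : Nontrivial Q₂ := Finite.one_lt_card_iff_nontrivial.mp (by omega)
  obtain ⟨⟨s, hs⟩, hs1⟩ := exists_ne (1 : Q₁)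
  obtain ⟨⟨t, ht⟩, ht1⟩ := exists_ne (1 : Q₂)
  have hs3 : s ^ 3 = 1 := by
    have := congrArg Subtype.val (pow_card_eq_one' (x := (⟨s, hs⟩ : Q₁)))
    rwa [hc1] at this
  have ht3 : t ^ 3 = 1 := by
    have := congrArg Subtype.val (pow_card_eq_one' (x := (⟨t, ht⟩ : Q₂)))
    rwa [hc2] at this
  have hs1' : s ≠ 1 := fun h => hs1 (Subtype.ext h)
  have ht1' : t ≠ 1 := fun h => ht1 (Subtype.ext h)
  have hsqv : ∀ b ∈ B, b.1 ^ 2 = 1 ∧ b.2 ^ 2 = 1 := fun b hb =>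
    ⟨congrArg Prod.fst (hsq b hb), congrArg Prod.snd (hsq b hb)⟩
  -- choose the diagonal element
  obtain ⟨r, hrQ, hr1, hr2, hr3, hc₁, hc₂⟩ : ∃ r, r ∈ Q₁.prod Q₂ ∧ r.1 ≠ 1 ∧ r.2 ≠ 1 ∧ r ^ 3 = 1 ∧
      r * b₁.val * r⁻¹ = b₂ ∧ r * b₂.val * r⁻¹ = b₁.val * b₂ := by
    have hsi : s⁻¹ ≠ 1 := inv_ne_one.mpr hs1'
    have hti : t⁻¹ ≠ 1 := inv_ne_one.mpr ht1'
    have hsi3 : s⁻¹ ^ 3 = 1 := by rw [inv_pow, hs3, inv_one]
    have hti3 : t⁻¹ ^ 3 = 1 := by rw [inv_pow, ht3, inv_one]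
    rcases cyc s hs3 hs1' _ (hsqv _ b₁.2).1 hv1 _ (hsqv _ b₂.2).1 hv2 hvne with ⟨a1, a2⟩ | ⟨a1, a2⟩ <;>
    rcases cyc t ht3 ht1' _ (hsqv _ b₁.2).2 hw1 _ (hsqv _ b₂.2).2 hw2 hwne with ⟨c1, c2⟩ | ⟨c1, c2⟩
    · exact ⟨(s, t), Subgroup.mem_prod.mpr ⟨hs, ht⟩, hs1', ht1', Prod.ext hs3 ht3,
        Prod.ext a1 c1, Prod.ext a2 c2⟩
    · exact ⟨(s, t⁻¹), Subgroup.mem_prod.mpr ⟨hs, inv_mem ht⟩, hs1', hti, Prod.ext hs3 hti3,
        Prod.ext a1 (by simpa using c1), Prod.ext a2 (by simpa using c2)⟩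
    · exact ⟨(s⁻¹, t), Subgroup.mem_prod.mpr ⟨inv_mem hs, ht⟩, hsi, ht1', Prod.ext hsi3 ht3,
        Prod.ext (by simpa using a1) c1, Prod.ext (by simpa using a2) c2⟩
    · exact ⟨(s⁻¹, t⁻¹), Subgroup.mem_prod.mpr ⟨inv_mem hs, inv_mem ht⟩, hsi, hti, Prod.ext hsi3 hti3,
        Prod.ext (by simpa using a1) (by simpa using c1), Prod.ext (by simpa using a2) (by simpa using c2)⟩
  have hro : orderOf r = 3 := orderOf_eq_prime hr3 fun h => hr1 (congrArg Prod.fst h)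
  refine ⟨Subgroup.zpowers r, Subgroup.zpowers_le.mpr (hQeq ▸ hrQ), by rw [Nat.card_zpowers, hro], ?_, ?_, ?_⟩
  · intro h
    have hm := h ▸ Subgroup.mem_zpowers r
    exact hr2 (Subgroup.mem_bot.mp (Subgroup.mem_prod.mp hm.2).2)
  · intro h
    have hm := h ▸ Subgroup.mem_zpowers r
    exact hr1 (Subgroup.mem_bot.mp (Subgroup.mem_prod.mp hm.2).1)
  · have hmap : ∀ b ∈ B, r * b * r⁻¹ ∈ B := by
      intro b hb
      rcases hall b hb with rfl | rfl | rfl | rfl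
      · simp
      · rw [hc₁]; exact b₂.2
      · rw [hc₂]; exact mul_mem b₁.2 b₂.2
      · rw [← conj_mul, hc₁, hc₂]; exact mul_mem b₂.2 (mul_mem b₁.2 b₂.2)
    rw [Subgroup.zpowers_le, Subgroup.mem_normalizer_iff]
    intro b
    refine ⟨hmap b, fun h => ?_⟩
    have h2 := hmap _ (hmap _ h)
    have e : r * (r * (r * b * r⁻¹) * r⁻¹) * r⁻¹ = r ^ 3 * b * (r ^ 3)⁻¹ := by
      simp only [pow_succ, pow_zero, one_mul, mul_inv_rev, mul_assoc]
    rw [e, hr3] at h2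
    simpa using h2

end Cfsg.Agent.S4406
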