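import Cfsg.Statements.S4407
import Cfsg.Agent.EqLemmas
import Cfsg.Agent.Lib.HallHigman.Clifford

set_option autoImplicit false
open Cfsg

namespace Cfsg.Agent.S4407

set_option linter.style.haveILetI false

variable {S : Type*} [Group S] [Finite S]
  {M : Type*} [AddCommGroup M] [Module (ZMod 2) M] [Finite M] (ρ : Representation (ZMod 2) S M)

omit [Finite S] [Finite M] in
theorem mul_apply' (x y : S) (v : M) : ρ (x * y) v = ρ x (ρ y v) := by rw [map_mul]; rfl

omit [Finite M] in
theorem three_mul {G : Type*} [Group G] {x : G} (h : x ^ 3 = 1) :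
    x * x * x = 1 ∧ x * (x * x) = 1 := by
  rw [pow_succ, pow_two] at h
  exact ⟨h, by rw [← mul_assoc]; exact h⟩

/-- A submodule invariant under generators is invariant. -/
theorem invariant_of_generators {s : Set S} (hs : Subgroup.closure s = ⊤) (N : Submodule (ZMod 2) M)
    (h : ∀ x ∈ s, ∀ v ∈ N, ρ x v ∈ N) : ∀ y : S, ∀ v ∈ N, ρ y v ∈ N := by
  have hle : Subgroup.closure s ≤ HallHigman.stabSub ρ N := (Subgroup.closure_le _).mpr h
  exact fun y => (hs ▸ hle) (Subgroup.mem_top y)

/-- The monomial case: lines `⟨a⟩`, `⟨b⟩` swapped by `g`, `h` fixing `a` and inverting `b`. -/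
theorem frame {a b h g : S} (hgen : Subgroup.closure ({a, b, h, g} : Set S) = ⊤)
    (hirr : ∀ N : Submodule (ZMod 2) M, (∀ s : S, ∀ m ∈ N, ρ s m ∈ N) → N = ⊥ ∨ N = ⊤)
    (hab : a * b = b * a) (hb3 : b ^ 3 = 1) (hh : h * h = 1) (hg : g * g = 1)
    (hha : h * a = a * h) (hhb : h * b = b⁻¹ * h) (hga : g * a = b * g)
    (h4 : g * h * g * h = h * g * h * g)
    (hfix : ∀ v : M, ρ a v = v → ρ b v = v → v = 0)
    {v₀ : M} (hv₀ : v₀ ≠ 0) (hv₀a : ρ a v₀ = v₀) :
    Nat.card M = 16 ∧
      Nat.card {v : M // ρ (g * h * g * h) v = v ∧ ρ g v = v} = 2 ∧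
      Nat.card {v : M // ρ (g * h * g * h) v = v ∧ ρ h v = v} = 4 := by
  classical
  have hgb : g * b = a * g := by
    calc g * b = g * (b * g) * g⁻¹ := by group
      _ = g * (g * a) * g⁻¹ := by rw [hga]
      _ = (g * g) * a * g⁻¹ := by group
      _ = a * g⁻¹ := by rw [hg, one_mul]
      _ = a * g := by rw [inv_eq_of_mul_eq_one_left hg]
  -- `h' = g h g`
  set h' := g * h * g with hh'
  have hh'2 : h' * h' = 1 := by
    calc h' * h' = g * h * (g * g) * h * g := by rw [hh']; group
      _ = g * (h * h) * g := by rw [hg]; group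
      _ = 1 := by rw [hh, mul_one, hg]
  have hh'b : h' * b = b * h' := by
    calc h' * b = g * h * (g * b) := by rw [hh']; group
      _ = g * (h * a) * g := by rw [hgb]; group
      _ = (g * a) * (h * g) := by rw [hha]; group
      _ = b * h' := by rw [hga, hh']; group
  have hh'a : h' * a = a⁻¹ * h' := by
    calc h' * a = g * h * (g * a) := by rw [hh']; group
      _ = g * (h * b) * g := by rw [hga]; group
      _ = g * b⁻¹ * (h * g) := by rw [hhb]; group
      _ = a⁻¹ * h' := by
        have h1 : g * b⁻¹ = a⁻¹ * g := by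
          calc g * b⁻¹ = a⁻¹ * (a * g) * b⁻¹ := by group
            _ = a⁻¹ * g := by rw [← hgb]; group
        rw [h1, hh']; group
  have hgh' : g * h' = h * g := by
    calc g * h' = (g * g) * (h * g) := by rw [hh']; group
      _ = h * g := by rw [hg, one_mul]
  have hg'h : g * h = h' * g := by
    calc g * h = g * h * (g * g) := by rw [hg, mul_one]
      _ = h' * g := by rw [hh']; group
  have hcomm : h * h' = h' * h := by
    rw [hh']
    calc h * (g * h * g) = h * g * h * g := by group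
      _ = g * h * g * h := h4.symm
  have hinvfix : ∀ (y : S) (v : M), ρ y v = v → ρ y⁻¹ v = v := by
    intro y v hv
    conv_lhs => rw [← hv]
    rw [← mul_apply', inv_mul_cancel, map_one]; rfl
  have hdisj : ∀ v w : M, ρ a v = v → ρ b w = w → v + w = 0 → v = 0 ∧ w = 0 := by
    intro v w hv hw he
    have hwv : w = v := by rw [eq_neg_of_add_eq_zero_right he, ZModModule.neg_eq_self]
    subst hwv
    exact ⟨hfix _ hv hw, hfix _ hv hw⟩
  -- step 1: `h'` is trivial on the fixed space of `a`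
  have hswap : ∀ v : M, ρ b v = v → ρ a (ρ g v) = ρ g v := by
    intro v hv
    rw [← mul_apply', ← hgb, mul_apply', hv]
  have hswap' : ∀ v : M, ρ a v = v → ρ b (ρ g v) = ρ g v := by
    intro v hv
    rw [← mul_apply', ← hga, mul_apply', hv]
  have hha' : ∀ v : M, ρ a v = v → ρ a (ρ h' v) = ρ h' v := by
    intro v hv
    have h1 : a * h' = h' * a⁻¹ := by
      calc a * h' = a * (h' * a) * a⁻¹ := by group
        _ = h' * a⁻¹ := by rw [hh'a]; group
    rw [← mul_apply', h1, mul_apply', hinvfix a v hv]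
  have hbha : b * h = h * b⁻¹ := by
    calc b * h = b * (h * b) * b⁻¹ := by group
      _ = h * b⁻¹ := by rw [hhb]; group
  let W₁ : Submodule (ZMod 2) M := LinearMap.eqLocus (ρ a) LinearMap.id ⊓ LinearMap.eqLocus (ρ h') LinearMap.id
  let W₂ : Submodule (ZMod 2) M := LinearMap.eqLocus (ρ b) LinearMap.id ⊓ LinearMap.eqLocus (ρ h) LinearMap.id
  have hW₁ : ∀ v, v ∈ W₁ ↔ ρ a v = v ∧ ρ h' v = v := fun v => Iff.rfl
  have hW₂ : ∀ v, v ∈ W₂ ↔ ρ b v = v ∧ ρ h v = v := fun v => Iff.rfl
  have hW₁ne : W₁ ≠ ⊥ := by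
    intro hbot
    have h1 : v₀ + ρ h' v₀ ∈ W₁ := by
      refine (hW₁ _).mpr ⟨?_, ?_⟩
      · rw [map_add, hv₀a, hha' _ hv₀a]
      · rw [map_add, ← mul_apply', hh'2, map_one, Module.End.one_apply, add_comm]
    rw [hbot, Submodule.mem_bot] at h1
    have h2 : v₀ ∈ W₁ := (hW₁ _).mpr ⟨hv₀a, by
      rw [eq_neg_of_add_eq_zero_right h1, ZModModule.neg_eq_self]⟩
    rw [hbot, Submodule.mem_bot] at h2
    exact hv₀ h2
  have hinv : ∀ y : S, ∀ v ∈ W₁ ⊔ W₂, ρ y v ∈ W₁ ⊔ W₂ := by
    refine invariant_of_generators ρ hgen _ fun y hy v hv => ?_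
    obtain ⟨v₁, hv₁, v₂, hv₂, rfl⟩ := Submodule.mem_sup.mp hv
    rw [map_add]
    obtain ⟨e1, e2⟩ := (hW₁ _).mp hv₁
    obtain ⟨f1, f2⟩ := (hW₂ _).mp hv₂
    simp only [Set.mem_insert_iff, Set.mem_singleton_iff] at hy
    rcases hy with rfl | rfl | rfl | rfl
    · refine Submodule.add_mem_sup (by rwa [e1]) ((hW₂ _).mpr ⟨?_, ?_⟩)
      · rw [← mul_apply', ← hab, mul_apply', f1]
      · rw [← mul_apply', hha, mul_apply', f2]
    · refine Submodule.add_mem_sup ((hW₁ _).mpr ⟨?_, ?_⟩) (by rwa [f1])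
      · rw [← mul_apply', hab, mul_apply', e1]
      · rw [← mul_apply', hh'b, mul_apply', e2]
    · refine Submodule.add_mem_sup ((hW₁ _).mpr ⟨?_, ?_⟩) (by rwa [f2])
      · rw [← mul_apply', ← hha, mul_apply', e1]
      · rw [← mul_apply', ← hcomm, mul_apply', e2]
    · rw [add_comm (ρ y v₁)]
      refine Submodule.add_mem_sup ((hW₁ _).mpr ⟨hswap _ f1, ?_⟩) ((hW₂ _).mpr ⟨hswap' _ e1, ?_⟩)
      · rw [← mul_apply', ← hg'h, mul_apply', f2]
      · rw [← mul_apply', ← hgh', mul_apply', e2]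
  have htop : W₁ ⊔ W₂ = ⊤ := (hirr _ hinv).resolve_left fun hb =>
    hW₁ne (le_bot_iff.mp (le_sup_left.trans hb.le))
  have hh'triv : ∀ v : M, ρ a v = v → ρ h' v = v := by
    intro v hv
    have hvt : v ∈ W₁ ⊔ W₂ := htop ▸ Submodule.mem_top
    obtain ⟨v₁, hv₁, v₂, hv₂, rfl⟩ := Submodule.mem_sup.mp hvt
    obtain ⟨e1, e2⟩ := (hW₁ _).mp hv₁
    obtain ⟨f1, -⟩ := (hW₂ _).mp hv₂
    have f1' : ρ a v₂ = v₂ := by simpa [e1] using hv
    rw [hfix v₂ f1' f1, add_zero, e2]
  -- step 2: coordinates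
  obtain ⟨m, hm, hma, hmh⟩ : ∃ m : M, m ≠ 0 ∧ ρ a m = m ∧ ρ h m = m := by
    by_cases h0 : v₀ + ρ h v₀ = 0
    · exact ⟨v₀, hv₀, hv₀a, by rw [eq_neg_of_add_eq_zero_right h0, ZModModule.neg_eq_self]⟩
    · refine ⟨_, h0, ?_, ?_⟩
      · rw [map_add, ← mul_apply' ρ a h, ← hha, mul_apply', hv₀a]
      · rw [map_add, ← mul_apply', hh, map_one, Module.End.one_apply, add_comm]
  set n := ρ b m with hn
  have hna : ρ a n = n := by rw [hn, ← mul_apply', hab, mul_apply', hma]
  have hbn : ρ b n = m + n := by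
    have h3 : ρ b (ρ b (ρ b m)) = m := by
      rw [← mul_apply', ← mul_apply',
        (three_mul hb3).1, map_one]; rfl
    have h1 : m + n + ρ b n = 0 := by
      refine hfix _ ?_ ?_
      · rw [map_add, map_add, hma, hna, ← mul_apply' ρ a b, hab, mul_apply', hna]
      · rw [map_add, map_add, ← hn]
        rw [show ρ b (ρ b n) = m from h3]
        abel
    rw [eq_neg_of_add_eq_zero_right h1, ZModModule.neg_eq_self]
  have hhn : ρ h n = m + n := by
    have hb2 : b⁻¹ = b * b := inv_eq_of_mul_eq_one_right (three_mul hb3).2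
    rw [hn, ← mul_apply', hhb, hb2, mul_apply', mul_apply', hmh, ← hn, hbn]
  have hh'm := hh'triv m hma
  have hh'n := hh'triv n hna
  let F : (Fin 4 → ZMod 2) →ₗ[ZMod 2] M :=
    Fintype.linearCombination (ZMod 2) ![m, n, ρ g m, ρ g n]
  have hFapp : ∀ x, F x = (x 0 • m + x 1 • n) + (x 2 • ρ g m + x 3 • ρ g n) := fun x => by
    simp [F, Fintype.linearCombination_apply, Fin.sum_univ_four, add_assoc]
  have hinj : Function.Injective F := by
    rw [injective_iff_map_eq_zero]
    intro x hx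
    rw [hFapp] at hx
    obtain ⟨e1, e2⟩ := hdisj _ _ (by rw [map_add, map_smul, map_smul, hma, hna])
      (by rw [map_add, map_smul, map_smul, hswap' _ hma, hswap' _ hna]) hx
    have hgg : ∀ w : M, ρ g (ρ g w) = w := fun w => by rw [← mul_apply', hg, map_one]; rfl
    have e3 := congrArg (ρ g) e2
    simp only [map_add, map_smul, map_zero, hgg] at e3
    have hn0 : n ≠ 0 := by
      intro h0
      rw [h0, map_zero, add_zero] at hbn
      exact hm hbn.symm
    have key : ∀ c d : ZMod 2, c • m + d • n = 0 → c = 0 ∧ d = 0 := by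
      have htwo : ∀ c : ZMod 2, c = 0 ∨ c = 1 := by decide
      intro c d
      rcases htwo c with rfl | rfl <;> rcases htwo d with rfl | rfl <;> intro he <;>
        first | exact ⟨rfl, rfl⟩ | skip
      · exact absurd (by simpa using he) hn0
      · exact absurd (by simpa using he) hm
      · exfalso
        have h1 : m + n = 0 := by simpa using he
        have h2 : n = m := by rw [eq_neg_of_add_eq_zero_right h1, ZModModule.neg_eq_self]
        exact hm (hfix m hma h2)
    obtain ⟨a0, a1⟩ := key _ _ e1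
    obtain ⟨a2, a3⟩ := key _ _ e3
    funext i
    fin_cases i <;> assumption
  have hgm : ρ g (ρ g m) = m := by rw [← mul_apply', hg, map_one]; rfl
  have hgn : ρ g (ρ g n) = n := by rw [← mul_apply', hg, map_one]; rfl
  have hhgm : ρ h (ρ g m) = ρ g m := by rw [← mul_apply', ← hgh', mul_apply', hh'm]
  have hhgn : ρ h (ρ g n) = ρ g n := by rw [← mul_apply', ← hgh', mul_apply', hh'n]
  have hgF : ∀ x, ρ g (F x) = F ![x 2, x 3, x 0, x 1] := fun x => by
    simp [hFapp, hgm, hgn]
    abel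
  have hhF : ∀ x, ρ h (F x) = F ![x 0 + x 1, x 1, x 2, x 3] := fun x => by
    simp [hFapp, hmh, hhn, hhgm, hhgn, add_smul]
    abel
  have hbF : ∀ x, ρ b (F x) = F ![x 1, x 0 + x 1, x 2, x 3] := fun x => by
    simp [hFapp, ← hn, hbn, hswap' _ hma, hswap' _ hna, add_smul]
    abel
  have haF : ∀ x, ρ a (F x) = F ![x 0, x 1, x 3, x 2 + x 3] := fun x => by
    have h1 : ρ a (ρ g m) = ρ g n := by rw [← mul_apply', ← hgb, mul_apply', ← hn]
    have h2 : ρ a (ρ g n) = ρ g m + ρ g n := by rw [← mul_apply', ← hgb, mul_apply', hbn, map_add]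
    simp [hFapp, hma, hna, h1, h2, add_smul]
    abel
  have hsurj : Function.Surjective F := by
    rw [← LinearMap.range_eq_top]
    refine (hirr _ (invariant_of_generators ρ hgen _ ?_)).resolve_left fun hb => ?_
    · rintro y hy _ ⟨x, rfl⟩
      simp only [Set.mem_insert_iff, Set.mem_singleton_iff] at hy
      rcases hy with rfl | rfl | rfl | rfl
      · exact ⟨_, (haF x).symm⟩
      · exact ⟨_, (hbF x).symm⟩
      · exact ⟨_, (hhF x).symm⟩
      · exact ⟨_, (hgF x).symm⟩
    · have h1 : F ![1, 0, 0, 0] ∈ (⊥ : Submodule (ZMod 2) M) := hb ▸ LinearMap.mem_range_self F _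
      rw [Submodule.mem_bot, hFapp] at h1
      exact hm (by simpa using h1)
  have hzF : ∀ x, ρ (g * h * g * h) (F x) = F ![x 0 + x 1, x 1, x 2 + x 3, x 3] := fun x => by
    rw [mul_apply', mul_apply', mul_apply', hhF, hgF, hhF, hgF]
    simp
  let e := Equiv.ofBijective F ⟨hinj, hsurj⟩
  refine ⟨?_, ?_, ?_⟩
  · rw [← Nat.card_congr e]
    simp
  · rw [← Nat.card_congr (Equiv.subtypeEquiv (p := fun x : Fin 4 → ZMod 2 =>
        ![x 0 + x 1, x 1, x 2 + x 3, x 3] = x ∧ ![x 2, x 3, x 0, x 1] = x) e fun x => by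
      show _ ↔ ρ (g * h * g * h) (F x) = F x ∧ ρ g (F x) = F x
      rw [hzF, hgF, hinj.eq_iff, hinj.eq_iff]), Nat.card_eq_fintype_card]
    decide
  · rw [← Nat.card_congr (Equiv.subtypeEquiv (p := fun x : Fin 4 → ZMod 2 =>
        ![x 0 + x 1, x 1, x 2 + x 3, x 3] = x ∧ ![x 0 + x 1, x 1, x 2, x 3] = x) e fun x => by
      show _ ↔ ρ (g * h * g * h) (F x) = F x ∧ ρ h (F x) = F x
      rw [hzF, hhF, hinj.eq_iff, hinj.eq_iff]), Nat.card_eq_fintype_card]
    decide

omit [Finite S] in
/-- Two independent elements generate an elementary group of order 9. -/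
theorem closure_pair {A : Subgroup S} [Finite A] (hA : Cfsg.IsElementaryAbelian 3 A)
    (hA9 : Nat.card A = 9) {u w : S} (hu : u ∈ A) (hw : w ∈ A) (hu1 : u ≠ 1)
    (hwu : w ∉ Subgroup.zpowers u) : Subgroup.closure ({u, w} : Set S) = A := by
  have hle : Subgroup.closure ({u, w} : Set S) ≤ A := (Subgroup.closure_le _).mpr (by
    simp [Set.insert_subset_iff, hu, hw])
  have hz : Subgroup.zpowers u ≤ Subgroup.closure ({u, w} : Set S) :=
    Subgroup.zpowers_le.mpr (Subgroup.subset_closure (by simp))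
  have h3 : Nat.card (Subgroup.zpowers u) = 3 := by
    rw [Nat.card_zpowers]
    exact orderOf_eq_prime (hA.2 u hu) hu1
  haveI : Finite (Subgroup.closure ({u, w} : Set S)) :=
    Finite.of_injective _ (Subgroup.inclusion_injective hle)
  have hd : 3 ∣ Nat.card (Subgroup.closure ({u, w} : Set S)) := h3 ▸ Subgroup.card_dvd_of_le hz
  have hd9 : Nat.card (Subgroup.closure ({u, w} : Set S)) ∣ 3 ^ 2 :=
    (Subgroup.card_dvd_of_le hle).trans (by rw [hA9]; norm_num)
  refine Subgroup.eq_of_le_of_card_ge hle ?_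
  rw [hA9]
  obtain ⟨i, hi, he⟩ := (Nat.dvd_prime_pow Nat.prime_three).mp hd9
  interval_cases i
  · rw [he] at hd; norm_num at hd
  · exfalso
    exact hwu ((Subgroup.eq_of_le_of_card_ge hz (by rw [he, h3]; norm_num)) ▸
      Subgroup.subset_closure (by simp))
  · rw [he]; norm_num

abbrev D4 := DihedralGroup 4

theorem cube_eq_one : ∀ x : D4, x ^ 3 = 1 → x = 1 := by decide

/-- The first four-group. -/
def K1 : Subgroup D4 where
  carrier := {x | x = 1 ∨ x = DihedralGroup.r 2 ∨ x = DihedralGroup.sr 0 ∨ x = DihedralGroup.sr 2}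
  one_mem' := Or.inl rfl
  mul_mem' {a b} ha hb := by revert a b; decide
  inv_mem' {a} ha := by revert a; decide

/-- The second four-group. -/
def K2 : Subgroup D4 where
  carrier := {x | x = 1 ∨ x = DihedralGroup.r 2 ∨ x = DihedralGroup.sr 1 ∨ x = DihedralGroup.sr 3}
  one_mem' := Or.inl rfl
  mul_mem' {a b} ha hb := by revert a b; decide
  inv_mem' {a} ha := by revert a; decide

instance : DecidablePred (· ∈ K1) := fun x => decidable_of_iff
  (x = 1 ∨ x = DihedralGroup.r 2 ∨ x = DihedralGroup.sr 0 ∨ x = DihedralGroup.sr 2) Iff.rfl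

instance : DecidablePred (· ∈ K2) := fun x => decidable_of_iff
  (x = 1 ∨ x = DihedralGroup.r 2 ∨ x = DihedralGroup.sr 1 ∨ x = DihedralGroup.sr 3) Iff.rfl

theorem four_cases : ∀ x y : D4, x * x = 1 → y * y = 1 → x * y * (x * y) = 1 →
    (x ∈ K1 ∧ y ∈ K1) ∨ (x ∈ K2 ∧ y ∈ K2) := by decide

theorem K_sq : ∀ x : D4, (x ∈ K1 ∨ x ∈ K2) → x * x = 1 := by decide

theorem card_K1 : Nat.card K1 = 4 := by rw [Nat.card_eq_fintype_card]; decide
theorem card_K2 : Nat.card K2 = 4 := by rw [Nat.card_eq_fintype_card]; decide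

/-- A four-group of exponent two is one of the two. -/
theorem eq_K (K : Subgroup D4) (hK : Nat.card K = 4) (h2 : ∀ x ∈ K, x * x = 1) : K = K1 ∨ K = K2 := by
  by_cases h : ∀ x ∈ K, x ∈ K1
  · exact Or.inl (Subgroup.eq_of_le_of_card_ge h (by rw [hK, card_K1]))
  push Not at h
  obtain ⟨x, hx, hx1⟩ := h
  refine Or.inr (Subgroup.eq_of_le_of_card_ge (fun y hy => ?_) (by rw [hK, card_K2]))
  rcases four_cases x y (h2 x hx) (h2 y hy) (h2 _ (mul_mem hx hy)) with h' | h'
  · exact absurd h'.1 hx1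
  · exact h'.2

/-- Let S be a finite group with a normal elementary abelian subgroup A of order 9 that is self-centralizing (C_S(A) = A), and a dihedral subgroup X of order 8 with S = AX. Let M be a finite-dimensional module for S over the field with two elements that is faithful and irreducible. Then M has 16 elements, and X contains exactly one subgroup B of order 4 and exponent 2 whose fixed points on M form a subspace with exactly 2 elements (equivalently, M is free of rank one over the group algebra of B). -/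
theorem result {S : Type*} [Group S] [Finite S]
    (A : Subgroup S) [A.Normal] (hA : Cfsg.IsElementaryAbelian 3 A) (hA9 : Nat.card ↥A = 9)
    (hAC : Subgroup.centralizer (A : Set S) = A) (X : Subgroup S) (hX : Nonempty (↥X ≃* DihedralGroup 4)) (hAX : A ⊔ X = ⊤)
    {M : Type*} [AddCommGroup M] [Module (ZMod 2) M] [Finite M] (ρ : Representation (ZMod 2) S M)
    (hfaith : Function.Injective ρ)
    (hirr : ∀ N : Submodule (ZMod 2) M, (∀ s : S, ∀ m ∈ N, ρ s m ∈ N) → N = ⊥ ∨ N = ⊤) (hM : Nontrivial M) :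
    Nat.card M = 16 ∧
      ∃! B : Subgroup S, B ≤ X ∧ Nat.card ↥B = 4 ∧ (∀ b ∈ B, b ^ 2 = 1) ∧
        Nat.card {m : M // ∀ b ∈ B, ρ b m = m} = 2 := by
  classical
  haveI := hA.1
  obtain ⟨e⟩ := hX
  set φ : D4 →* S := X.subtype.comp e.symm.toMonoidHom with hφdef
  have hφinj : Function.Injective φ := X.subtype_injective.comp e.symm.injective
  have hφX : ∀ x, φ x ∈ X := fun x => (e.symm x).2
  have hφsurj : ∀ y ∈ X, ∃ x, φ x = y := fun y hy => ⟨e ⟨y, hy⟩, by simp [hφdef]⟩
  have hcA : ∀ x ∈ A, ∀ y ∈ A, x * y = y * x := fun x hx y hy =>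
    congrArg Subtype.val (hA.1.is_comm.comm ⟨x, hx⟩ ⟨y, hy⟩)
  -- conjugation action of `X` on `A`
  let c : D4 → S → S := fun x a => φ x * a * (φ x)⁻¹
  have hc_mem : ∀ x a, a ∈ A → c x a ∈ A := fun x a ha => Subgroup.Normal.conj_mem ‹_› a ha _
  have hc_mul : ∀ x y a, c x (c y a) = c (x * y) a := fun x y a => by simp [c, mul_assoc]
  have hc_one : ∀ a, c 1 a = a := fun a => by simp [c]
  have hc_hom : ∀ x a b, c x (a * b) = c x a * c x b := fun x a b => by simp [c, mul_assoc]
  have hc_inv : ∀ x a, c x a⁻¹ = (c x a)⁻¹ := fun x a => by simp [c, mul_assoc]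
  have hfaith' : ∀ x, (∀ a ∈ A, c x a = a) → x = 1 := by
    intro x hx
    have hm : φ x ∈ A := by
      rw [← hAC, Subgroup.mem_centralizer_iff]
      intro a ha
      exact (mul_inv_eq_iff_eq_mul.mp (hx a ha)).symm
    have h3 : x ^ 3 = 1 := hφinj (by rw [map_pow, map_one]; exact hA.2 _ hm)
    exact cube_eq_one x h3
  have h3A : ∀ a ∈ A, a * a = a⁻¹ := fun a ha =>
    eq_inv_of_mul_eq_one_left (three_mul (hA.2 a ha)).1
  set r : D4 := DihedralGroup.r 1
  set s : D4 := DihedralGroup.sr 0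
  set z : D4 := DihedralGroup.r 2
  -- an involution fixes a line
  have hline : ∀ x : D4, x ≠ 1 → ∀ u ∈ A, u ≠ 1 → c x u = u → ∀ v ∈ A, c x v = v →
      v ∈ Subgroup.zpowers u := by
    intro x hx u hu hu1 hxu v hv hxv
    by_contra hv'
    have hgen := closure_pair hA hA9 hu hv hu1 hv'
    refine hx (hfaith' x fun a ha => ?_)
    rw [← hgen] at ha
    induction ha using Subgroup.closure_induction with
    | mem y hy =>
      rcases hy with rfl | rfl
      · exact hxu
      · exact hxv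
    | one => simp [c]
    | mul y y' _ _ h1 h2 => rw [hc_hom, h1, h2]
    | inv y _ h1 => rw [hc_inv, h1]
  have hnoninv : ∀ x, (x = s ∨ x = z * s) → ∃ a ∈ A, c x a ≠ a⁻¹ := by
    intro x hx
    by_contra hcon
    push Not at hcon
    have hcen : ∀ y, r * y * r⁻¹ * y⁻¹ = z → (y = s ∨ y = z * s) → (∀ a ∈ A, c y a = a⁻¹) → False := by
      intro y hy _ hinv
      refine absurd (hfaith' z fun a ha => ?_) (by decide)
      rw [← hy]
      simp only [← hc_mul]
      have hy1 : c y⁻¹ a = a⁻¹ := by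
        have h1 : c y a⁻¹ = a := by rw [hinv _ (A.inv_mem ha), inv_inv]
        conv_lhs => rw [← h1, hc_mul, inv_mul_cancel, hc_one]
      rw [hy1, hinv _ (hc_mem _ _ (A.inv_mem ha)), ← hc_inv, inv_inv, hc_mul, mul_inv_cancel,
        hc_one]
    exact hcen x (by rcases hx with rfl | rfl <;> decide) hx hcon
  obtain ⟨u, hu, hu1, hsu⟩ : ∃ u ∈ A, u ≠ 1 ∧ c s u = u := by
    obtain ⟨a, ha, hne⟩ := hnoninv s (Or.inl rfl)
    refine ⟨a * c s a, A.mul_mem ha (hc_mem _ _ ha), fun h => hne ?_, ?_⟩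
    · exact (eq_inv_of_mul_eq_one_right h)
    · rw [hc_hom, hc_mul, show s * s = (1 : D4) by decide, hc_one, hcA _ (hc_mem _ _ ha) _ ha]
  have hz_u : c z u = u⁻¹ := by
    have hmem : c z u ∈ Subgroup.zpowers u := by
      refine hline s (by decide) u hu hu1 hsu _ (hc_mem _ _ hu) ?_
      rw [hc_mul, show s * z = z * s by decide, ← hc_mul, hsu]
    have hcase : c z u = u ∨ c z u = u⁻¹ := by
      haveI : Fact (Nat.Prime 3) := ⟨Nat.prime_three⟩
      obtain ⟨k, hk⟩ := (mem_zpowers_iff_mem_range_orderOf).mp hmem |> Finset.mem_image.mp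
      rw [Finset.mem_range, orderOf_eq_prime (hA.2 u hu) hu1] at hk
      obtain ⟨hk3, hk⟩ := hk
      interval_cases k
      · exfalso
        apply hu1
        have h1 := congrArg (c z) hk
        rw [hc_mul, show z * z = (1 : D4) by decide, hc_one] at h1
        rw [← h1]; simp [c]
      · left; rw [← hk, pow_one]
      · right; rw [← hk, pow_two, h3A u hu]
    refine hcase.resolve_left fun hzu => ?_
    -- `z` and `s` have the same fixed line and the same inverted line
    obtain ⟨a, ha, hza⟩ : ∃ a ∈ A, c z a ≠ a := by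
      by_contra hcon
      push Not at hcon
      exact absurd (hfaith' z hcon) (by decide)
    set w := a * (c z a)⁻¹ with hw
    have hwA : w ∈ A := A.mul_mem ha (A.inv_mem (hc_mem _ _ ha))
    have hw1 : w ≠ 1 := fun h => hza (mul_inv_eq_one.mp h).symm
    have hzw : c z w = w⁻¹ := by
      rw [hw, hc_hom, hc_inv, hc_mul, show z * z = (1 : D4) by decide, hc_one, mul_inv_rev, inv_inv]
    clear_value w
    have hwu : w ∉ Subgroup.zpowers u := by
      rintro ⟨k, hk⟩
      have h1 : c z w = w := by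
        rw [← hk]
        show φ z * u ^ k * (φ z)⁻¹ = u ^ k
        rw [← conj_zpow, show φ z * u * (φ z)⁻¹ = u from hzu]
      rw [hzw] at h1
      exact hw1 (mul_left_cancel ((h3A w hwA).trans (h1.trans (mul_one w).symm)))
    -- `z s` fixes `u` and a line
    obtain ⟨v, hv, hne⟩ : ∃ v ∈ A, c (z * s) v ≠ v := by
      by_contra hcon
      push Not at hcon
      exact absurd (hfaith' (z * s) hcon) (by decide)
    have hsw : c z (c s w) = (c s w)⁻¹ := by
      rw [hc_mul, show z * s = s * z by decide, ← hc_mul, hzw, hc_inv]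
    have hsw2 : c (z * s) (w * (c s w)⁻¹) = w * (c s w)⁻¹ := by
      rw [← hc_mul, hc_hom s, hc_inv s, hc_mul s s, show s * s = (1 : D4) by decide, hc_one,
        hc_hom z, hc_inv z, hzw, hsw, inv_inv]
      exact hcA _ (A.inv_mem (hc_mem _ _ hwA)) w hwA
    have h1 := hline (z * s) (by decide) u hu hu1 (by rw [← hc_mul, hsu, hzu]) _
      (A.mul_mem hwA (A.inv_mem (hc_mem _ _ hwA))) hsw2
    obtain ⟨k, hk⟩ := h1
    have hzfix : c z (w * (c s w)⁻¹) = w * (c s w)⁻¹ := by
      rw [← hk]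
      show φ z * u ^ k * (φ z)⁻¹ = u ^ k
      rw [← conj_zpow, show φ z * u * (φ z)⁻¹ = u from hzu]
    have hinv2 : c z (w * (c s w)⁻¹) = (w * (c s w)⁻¹)⁻¹ := by
      rw [hc_hom z w, hc_inv z (c s w), hzw, hsw, inv_inv]
      exact (hcA _ (A.inv_mem hwA) _ (hc_mem s _ hwA)).trans (eq_inv_of_mul_eq_one_left (by group))
    have hy1 : w * (c s w)⁻¹ = 1 := by
      set y := w * (c s w)⁻¹
      have hy : y = y⁻¹ := hzfix.symm.trans hinv2
      exact mul_left_cancel ((h3A y (A.mul_mem hwA (A.inv_mem (hc_mem _ _ hwA)))).trans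
        (hy.symm.trans (mul_one y).symm))
    exact hwu (hline s (by decide) u hu hu1 hsu w hwA (mul_inv_eq_one.mp hy1).symm)
  set w := c r u with hw
  have hwA : w ∈ A := hc_mem _ _ hu
  have hz_w : c z w = w⁻¹ := by
    rw [hw, hc_mul, show z * r = r * z by decide, ← hc_mul, hz_u, hc_inv]
  have hs_w : c s w = w⁻¹ := by
    have h1 : c (z * s) w = w := by
      rw [hw, hc_mul, show z * s * r = r * s by decide, ← hc_mul, hsu]
    calc c s w = c z (c (z * s) w) := by rw [hc_mul z (z * s) w, ← mul_assoc, show z * z = (1 : D4) by decide, one_mul]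
      _ = w⁻¹ := by rw [h1, hz_w]
  have hr_w : c r w = u⁻¹ := by
    rw [hw, hc_mul, show r * r = z by decide, hz_u]
  have hwu : w ∉ Subgroup.zpowers u := by
    rintro ⟨k, hk⟩
    have h1 : c s w = w := by
      rw [← hk]
      show φ s * u ^ k * (φ s)⁻¹ = u ^ k
      rw [← conj_zpow, show φ s * u * (φ s)⁻¹ = u from hsu]
    rw [hs_w] at h1
    have h2 : w = 1 := by
      exact mul_left_cancel ((h3A w hwA).trans (h1.trans (mul_one w).symm))
    exact hu1 (by
      have h3 := congrArg (c r⁻¹) h2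
      rw [hw, hc_mul, inv_mul_cancel, hc_one] at h3
      simpa [c] using h3)
  have hAgen := closure_pair hA hA9 hu hwA hu1 hwu
  -- every vector splits over the four lines
  have hfix0 : ∀ v : M, ρ u v = v → ρ w v = v → v = 0 := by
    intro v hv1 hv2
    let N : Submodule (ZMod 2) M :=
      LinearMap.eqLocus (ρ u) LinearMap.id ⊓ LinearMap.eqLocus (ρ w) LinearMap.id
    have hN : ∀ y ∈ A, ∀ x ∈ N, ρ y x = x := by
      intro y hy
      rw [← hAgen] at hy
      induction hy using Subgroup.closure_induction with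
      | mem y hy =>
        rcases hy with rfl | rfl
        · exact fun x hx => hx.1
        · exact fun x hx => hx.2
      | one => intro x _; simp
      | mul y y' _ _ h1 h2 => intro x hx; rw [mul_apply', h2 x hx, h1 x hx]
      | inv y _ h1 =>
        intro x hx
        conv_lhs => rw [← h1 x hx]
        rw [← mul_apply', inv_mul_cancel, map_one]; rfl
    have hNinv : ∀ y : S, ∀ x ∈ N, ρ y x ∈ N := by
      intro y x hx
      have key : ∀ t ∈ A, ρ t (ρ y x) = ρ y x := by
        intro t ht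
        have h1 : y⁻¹ * t * y ∈ A := by
          simpa using Subgroup.Normal.conj_mem ‹A.Normal› t ht y⁻¹
        rw [← mul_apply', show t * y = y * (y⁻¹ * t * y) by group, mul_apply', hN _ h1 x hx]
      exact ⟨key u hu, key w hwA⟩
    rcases hirr N hNinv with hb | ht
    · have : v ∈ N := ⟨hv1, hv2⟩
      rwa [hb, Submodule.mem_bot] at this
    · exfalso
      refine hu1 (hfaith (LinearMap.ext fun x => ?_))
      rw [map_one]
      exact hN u hu x (ht ▸ Submodule.mem_top)
  have huw : u * w = w * u := hcA u hu w hwA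
  have hu3 := hA.2 u hu
  have hw3 := hA.2 w hwA
  -- `frame` for both pairs of lines
  have hgenX : ∀ x : D4, x ∈ Subgroup.closure ({s, r * s} : Set D4) := by
    intro x
    have hr : r ∈ Subgroup.closure ({s, r * s} : Set D4) := by
      have := mul_mem (Subgroup.subset_closure (k := ({s, r * s} : Set D4)) (show r * s ∈ _ by simp))
        (Subgroup.subset_closure (k := ({s, r * s} : Set D4)) (show s ∈ ({s, r * s} : Set D4) by simp))
      rwa [mul_assoc, show s * s = (1 : D4) by decide, mul_one] at this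
    have hs : s ∈ Subgroup.closure ({s, r * s} : Set D4) := Subgroup.subset_closure (by simp)
    have key : ∀ x : D4, ∃ i j : Fin 4, x = r ^ (i : ℕ) * s ^ (j : ℕ) := by decide
    obtain ⟨i, j, rfl⟩ := key x
    exact mul_mem (pow_mem hr _) (pow_mem hs _)
  have hconj : ∀ x a b, c x a = b → φ x * a = b * φ x := fun x a b h => by
    rw [← h]; simp [c]
  have hgenS : ∀ a b : S, (u ∈ Subgroup.closure ({a, b} : Set S)) →
      (w ∈ Subgroup.closure ({a, b} : Set S)) → ∀ x y : D4,
      (∀ t ∈ ({s, r * s} : Set D4), t = x ∨ t = y) →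
      Subgroup.closure ({a, b, φ x, φ y} : Set S) = ⊤ := by
    intro a b hua hwa x y hxy
    rw [eq_top_iff, ← hAX, sup_le_iff]
    refine ⟨?_, ?_⟩
    · rw [← hAgen, Subgroup.closure_le]
      have hmono : Subgroup.closure ({a, b} : Set S) ≤ Subgroup.closure {a, b, φ x, φ y} :=
        Subgroup.closure_mono (by
          intro t ht; rcases ht with rfl | rfl <;> simp)
      rintro t (rfl | rfl)
      · exact hmono hua
      · exact hmono hwa
    · intro t ht
      obtain ⟨d, rfl⟩ := hφsurj t ht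
      have h1 := Subgroup.mem_map_of_mem φ (hgenX d)
      rw [MonoidHom.map_closure] at h1
      refine Subgroup.closure_mono ?_ h1
      rintro _ ⟨t', ht', rfl⟩
      rcases hxy t' ht' with rfl | rfl <;> simp
  have hsum : ∃ v : M, v ≠ 0 ∧
      (ρ u v = v ∨ ρ w v = v ∨ ρ (u * w) v = v ∨ ρ (u * w⁻¹) v = v) := by
    obtain ⟨v, hv⟩ := exists_ne (0 : M)
    by_contra hcon
    push Not at hcon
    have hN : ∀ t ∈ A, ∀ x : M, ρ t (x + ρ t x + ρ (t * t) x) = x + ρ t x + ρ (t * t) x := by
      intro t ht x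
      rw [map_add, map_add, ← mul_apply', ← mul_apply', ← mul_assoc,
        (three_mul (hA.2 t ht)).1, map_one, Module.End.one_apply]
      abel
    have e1 := not_imp_not.mp (fun h => (hcon _ h).1) (hN u hu v)
    have e2 := not_imp_not.mp (fun h => (hcon _ h).2.1) (hN w hwA v)
    have e3 := not_imp_not.mp (fun h => (hcon _ h).2.2.1) (hN _ (A.mul_mem hu hwA) v)
    have e4 := not_imp_not.mp (fun h => (hcon _ h).2.2.2)
      (hN _ (A.mul_mem hu (A.inv_mem hwA)) v)
    have hi : w⁻¹ = w * w := (h3A w hwA).symm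
    have h4 : w * (w * (w * w)) = w := by
      rw [(three_mul hw3).2, mul_one]
    have huc : ∀ t, w * (u * t) = u * (w * t) := fun t => by rw [← mul_assoc, ← huw, mul_assoc]
    -- the average over `A` vanishes
    have h0 : v + ρ u v + ρ (u * u) v + (ρ w v + ρ (u * w) v + ρ (u * (u * w)) v) +
        (ρ (w * w) v + ρ (u * (w * w)) v + ρ (u * (u * (w * w))) v) = 0 := by
      refine hfix0 _ ?_ ?_
      · simp only [map_add, ← mul_apply']
        simp only [show ∀ t, u * (u * (u * t)) = t from fun t => by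
          rw [← mul_assoc, ← mul_assoc, (three_mul hu3).1, one_mul]]
        rw [(three_mul hu3).2, map_one, Module.End.one_apply]
        abel
      · simp only [map_add, ← mul_apply']
        simp only [huc, show w * u = u * w from huw.symm]
        rw [(three_mul hw3).2]
        simp only [mul_one, map_one, Module.End.one_apply]
        abel
    simp only [hi, mul_assoc, huc, h4] at e1 e2 e3 e4 h0
    have key : (v + ρ u v + ρ (u * u) v) + (v + ρ w v + ρ (w * w) v) +
        (v + ρ (u * w) v + ρ (u * (u * (w * w))) v) +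
        (v + ρ (u * (w * w)) v + ρ (u * (u * w)) v) -
        (v + ρ u v + ρ (u * u) v + (ρ w v + ρ (u * w) v + ρ (u * (u * w)) v) +
        (ρ (w * w) v + ρ (u * (w * w)) v + ρ (u * (u * (w * w))) v)) = v + v + v := by abel
    rw [h0, e1, e2, e3, e4, ZModModule.add_self] at key
    exact hv (by simpa [ZModModule.add_self] using key.symm)
  -- transfer to the statement
  let B : Subgroup D4 → Subgroup S := fun K => K.map φ
  have hBcard : ∀ K : Subgroup D4, Nat.card (B K) = Nat.card K := fun K =>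
    (Nat.card_congr (K.equivMapOfInjective φ hφinj).toEquiv).symm
  have hBX : ∀ K, B K ≤ X := fun K => by rintro _ ⟨x, -, rfl⟩; exact hφX x
  have hfin : ∀ (K K' : Subgroup D4) (h g : D4), (∀ x, x ∈ K ↔ x = 1 ∨ x = z ∨ x = g ∨ x = z * g) →
      (∀ x, x ∈ K' ↔ x = 1 ∨ x = z ∨ x = h ∨ x = z * h) → g * h * g * h = z →
      ({K, K'} : Set (Subgroup D4)) = {K1, K2} →
      Nat.card M = 16 ∧
        Nat.card {v : M // ρ (φ g * φ h * φ g * φ h) v = v ∧ ρ (φ g) v = v} = 2 ∧
        Nat.card {v : M // ρ (φ g * φ h * φ g * φ h) v = v ∧ ρ (φ h) v = v} = 4 →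
      Nat.card M = 16 ∧
        ∃! B : Subgroup S, B ≤ X ∧ Nat.card ↥B = 4 ∧ (∀ b ∈ B, b ^ 2 = 1) ∧
          Nat.card {m : M // ∀ b ∈ B, ρ b m = m} = 2 := by
    rintro K K' h g hK hK' hz hKK ⟨h16, h2, h4⟩
    rw [← map_mul, ← map_mul, ← map_mul, hz] at h2 h4
    have hfixK : ∀ (L : Subgroup D4) (t : D4), (∀ x, x ∈ L ↔ x = 1 ∨ x = z ∨ x = t ∨ x = z * t) →
        Nat.card {m : M // ∀ b ∈ B L, ρ b m = m} =
          Nat.card {v : M // ρ (φ z) v = v ∧ ρ (φ t) v = v} := by
      intro L t hL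
      refine Nat.card_congr (Equiv.subtypeEquivRight fun v => ⟨fun hv => ⟨hv _ ⟨z, (hL z).mpr
        (by simp), rfl⟩, hv _ ⟨t, (hL t).mpr (by simp), rfl⟩⟩, ?_⟩)
      rintro ⟨hvz, hvt⟩ _ ⟨x, hx, rfl⟩
      rcases (hL x).mp hx with rfl | rfl | rfl | rfl
      · simp
      · exact hvz
      · exact hvt
      · rw [map_mul, mul_apply', hvt, hvz]
    have hex : ∀ L : Subgroup D4, (L = K1 ∨ L = K2) →
        Nat.card (B L) = 4 ∧ ∀ b ∈ B L, b ^ 2 = 1 := by
      intro L hL
      refine ⟨?_, ?_⟩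
      · rcases hL with rfl | rfl
        · rw [hBcard, card_K1]
        · rw [hBcard, card_K2]
      · rintro _ ⟨x, hx, rfl⟩
        rw [← map_pow, ← φ.map_one]
        congr 1
        rw [pow_two]
        rcases hL with rfl | rfl
        · exact K_sq _ (Or.inl hx)
        · exact K_sq _ (Or.inr hx)
    have hKm : K = K1 ∨ K = K2 := by
      have : K ∈ ({K, K'} : Set (Subgroup D4)) := by simp
      rw [hKK] at this; simpa using this
    refine ⟨h16, B K, ⟨hBX K, (hex K hKm).1, (hex K hKm).2, by rw [hfixK K g hK, h2]⟩, ?_⟩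
    rintro B' ⟨hB'X, hB'4, hB'2, hB'fix⟩
    have hmap : B (B'.comap φ) = B' := Subgroup.map_comap_eq_self fun b hb => by
      obtain ⟨x, hx⟩ := hφsurj b (hB'X hb); exact ⟨x, hx⟩
    have hLcases := eq_K (B'.comap φ) (by rw [← hBcard, hmap, hB'4]) fun x hx =>
      hφinj (by rw [map_mul, map_one, ← pow_two]; exact hB'2 _ hx)
    have hmem : B'.comap φ ∈ ({K, K'} : Set (Subgroup D4)) := by rw [hKK]; simpa using hLcases
    rcases hmem with he | he
    · rw [← hmap, he]
    · exfalso
      rw [← hmap, he, hfixK K' h hK', h4] at hB'fix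
      norm_num at hB'fix
  obtain ⟨v, hv0, hv⟩ := hsum
  have hgg : ∀ x : D4, x * x = 1 → φ x * φ x = 1 := fun x hx => by rw [← map_mul, hx, map_one]
  -- move `v` to a line through `u` or `u * w`
  have hmove : ∀ (a b : S) (x : D4), c x a = b → ∀ y : M, ρ a y = y → ρ b (ρ (φ x) y) = ρ (φ x) y := by
    intro a b x hx y hy
    rw [← mul_apply', ← hconj x a b hx, mul_apply', hy]
  have hrs_u : c (r * s) u = w := by rw [← hc_mul, hsu]
  have hrs_w : c (r * s) w = u := by rw [← hc_mul, hs_w, hc_inv, hr_w, inv_inv]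
  have hphi0 : ∀ (x : D4) (y : M), y ≠ 0 → ρ (φ x) y ≠ 0 := by
    intro x y hy h0
    apply hy
    have h1 := congrArg (ρ (φ x)⁻¹) h0
    rwa [← mul_apply', inv_mul_cancel, map_one, Module.End.one_apply, map_zero] at h1
  by_cases hframe : ∃ y : M, y ≠ 0 ∧ ρ u y = y
  · obtain ⟨y, hy0, hy⟩ := hframe
    refine hfin K2 K1 s (r * s) (by decide) (by decide) (by decide) (Set.pair_comm _ _) ?_
    refine frame ρ (hgenS u w (Subgroup.subset_closure (by simp)) (Subgroup.subset_closure (by simp))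
      s (r * s) (fun t ht => ht)) hirr huw hw3 (hgg s (by decide)) (hgg _ (by decide))
      (hconj _ _ _ hsu) (hconj _ _ _ hs_w) (hconj _ _ _ hrs_u)
      (by rw [← map_mul, ← map_mul, ← map_mul, ← map_mul, ← map_mul, ← map_mul]; congr 1)
      hfix0 hy0 hy
  · have hgen2 : ∀ t ∈ A, t ∈ Subgroup.closure ({u * w, u * w⁻¹} : Set S) := by
      have hp : u * w ∈ Subgroup.closure ({u * w, u * w⁻¹} : Set S) := Subgroup.subset_closure (by simp)
      have hq : u * w⁻¹ ∈ Subgroup.closure ({u * w, u * w⁻¹} : Set S) := Subgroup.subset_closure (by simp)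
      have hu2 : u * u ∈ Subgroup.closure ({u * w, u * w⁻¹} : Set S) := by
        have h1 := mul_mem hp hq
        rwa [show u * w * (u * w⁻¹) = u * u by
          calc u * w * (u * w⁻¹) = u * (w * u) * w⁻¹ := by group
            _ = u * u := by rw [← huw]; group] at h1
      have hu' : u ∈ Subgroup.closure ({u * w, u * w⁻¹} : Set S) := by
        rw [h3A u hu] at hu2
        simpa using inv_mem hu2
      have hw' : w ∈ Subgroup.closure ({u * w, u * w⁻¹} : Set S) := by
        simpa using mul_mem (inv_mem hu') hp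
      intro t ht
      rw [← hAgen] at ht
      refine ((Subgroup.closure_le _).mpr ?_) ht
      rintro _ (rfl | rfl)
      · exact hu'
      · exact hw'
    obtain ⟨y, hy0, hy⟩ : ∃ y : M, y ≠ 0 ∧ ρ (u * w) y = y := by
      rcases hv with h | h | h | h
      · exact absurd ⟨v, hv0, h⟩ hframe
      · exact absurd ⟨_, hphi0 (r * s) v hv0, hmove w u (r * s) hrs_w v h⟩ hframe
      · exact ⟨v, hv0, h⟩
      · exact ⟨_, hphi0 s v hv0, hmove (u * w⁻¹) (u * w) s
          (by rw [hc_hom, hc_inv, hsu, hs_w, inv_inv]) v h⟩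
    refine hfin K1 K2 (r * s) s (by decide) (by decide) (by decide) rfl ?_
    refine frame ρ (a := u * w) (b := u * w⁻¹) (hgenS _ _ (hgen2 u hu) (hgen2 w hwA)
      (r * s) s (fun t ht => ht.symm)) hirr (hcA _ (A.mul_mem hu hwA) _ (A.mul_mem hu (A.inv_mem hwA)))
      (hA.2 _ (A.mul_mem hu (A.inv_mem hwA))) (hgg _ (by decide)) (hgg s (by decide))
      (hconj _ _ _ (by rw [hc_hom, hrs_u, hrs_w, huw]))
      (hconj _ _ _ (by rw [hc_hom, hc_inv, hrs_u, hrs_w, mul_inv_rev, inv_inv]))
      (hconj _ _ _ (by rw [hc_hom, hsu, hs_w]))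
      (by rw [← map_mul, ← map_mul, ← map_mul, ← map_mul, ← map_mul, ← map_mul]; congr 1)
      ?_ hy0 hy
    intro x hx1 hx2
    have key : ∀ t ∈ Subgroup.closure ({u * w, u * w⁻¹} : Set S), ρ t x = x := by
      intro t ht
      induction ht using Subgroup.closure_induction with
      | mem t ht =>
        rcases ht with rfl | rfl
        · exact hx1
        · exact hx2
      | one => simp
      | mul t t' _ _ h1 h2 => rw [mul_apply', h2, h1]
      | inv t _ h1 =>
        conv_lhs => rw [← h1]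
        rw [← mul_apply', inv_mul_cancel, map_one]; rfl
    exact hfix0 x (key u (hgen2 u hu)) (key w (hgen2 w hwA))

end Cfsg.Agent.S4407
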