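import Cfsg.Statements.S4408
import Cfsg.Agent.EqLemmas
import Cfsg.Agent.Lib.Coprime.PQ
import Cfsg.Agent.Lib.Coprime.Generation
import Cfsg.Agent.Lib.Solvable.Fitting
import Cfsg.Agent.Lib.Cores.Fitting

set_option autoImplicit false
set_option linter.style.haveILetI false
open Cfsg

namespace Cfsg.Agent.S4408

variable {S : Type*} [Group S] [Finite S]

omit [Finite S] in
theorem card_sup_of_commute {X Y : Subgroup S} (hXY : ∀ x ∈ X, ∀ y ∈ Y, x * y = y * x)
    (hdisj : X ⊓ Y = ⊥) :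
    (∀ g ∈ X ⊔ Y, ∃ x ∈ X, ∃ y ∈ Y, x * y = g) ∧
      Nat.card (X ⊔ Y : Subgroup S) = Nat.card X * Nat.card Y := by
  have hn : Y ≤ Subgroup.normalizer (X : Set S) :=
    (show Y ≤ Subgroup.centralizer (X : Set S) from fun y hy =>
      Subgroup.mem_centralizer_iff.2 fun x hx => hXY x hx y hy).trans (Subgroup.centralizer_le_normalizer _)
  refine ⟨fun g hg => (Coprime.mem_sup_iff hn).1 hg, ?_⟩
  rw [← Nat.card_prod]
  refine (Nat.card_congr (Equiv.ofBijective
    (fun q : X × Y => (⟨(q.1 : S) * q.2, (X ⊔ Y).mul_mem (Subgroup.mem_sup_left q.1.2)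
      (Subgroup.mem_sup_right q.2.2)⟩ : (X ⊔ Y : Subgroup S))) ⟨?_, fun g => ?_⟩)).symm
  · rintro ⟨x, y⟩ ⟨x', y'⟩ h
    have h' : (x : S) * y = x' * y' := congrArg Subtype.val h
    have e : (x' : S)⁻¹ * x = y' * (y : S)⁻¹ := by
      rw [eq_mul_inv_iff_mul_eq, mul_assoc, h', inv_mul_cancel_left]
    have h0 : (x' : S)⁻¹ * x = 1 := by
      rw [← Subgroup.mem_bot, ← hdisj]
      exact ⟨X.mul_mem (X.inv_mem x'.2) x.2, e ▸ Y.mul_mem y'.2 (Y.inv_mem y.2)⟩
    have hx : x = x' := Subtype.ext (inv_mul_eq_one.1 h0).symm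
    subst hx
    exact Prod.ext rfl (Subtype.ext (mul_left_cancel h'))
  · obtain ⟨x, hx, y, hy, h⟩ := (Coprime.mem_sup_iff hn).1 g.2
    exact ⟨(⟨x, hx⟩, ⟨y, hy⟩), Subtype.ext h⟩

/-- Independent eigen-subgroups of prime order for a 2-group of exponent 2 acting on a nilpotent
group of odd order. -/
theorem eigen_family (I : Subgroup S) [IsMulCommutative I] (hI2 : ∀ a ∈ I, a * a = 1) :
    ∀ (d : ℕ) (K J : Subgroup S), Group.IsNilpotent K → Odd (Nat.card K) →
      I ≤ Subgroup.normalizer (K : Set S) → J ≤ I → Nat.card J = 2 ^ d →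
      J ⊓ Subgroup.centralizer (K : Set S) = ⊥ →
      ∃ f : Fin d → Subgroup S, (∀ i, (Nat.card ↥(f i)).Prime) ∧ (∀ i, f i ≤ K) ∧
        (∀ i, I ≤ Subgroup.normalizer ((f i) : Set S)) ∧
        (∀ i j, i ≠ j → ∀ a ∈ f i, ∀ b ∈ f j, a * b = b * a) ∧
        Nat.card ↥(⨆ i, f i) = ∏ i, Nat.card ↥(f i) ∧
        (⨆ i, f i) ⊓ Subgroup.centralizer (J : Set S) = ⊥ ∧
        J ⊓ Subgroup.centralizer ((⨆ i, f i : Subgroup S) : Set S) = ⊥ := by
  classical
  have hIc : ∀ a ∈ I, ∀ b ∈ I, a * b = b * a := fun a ha b hb =>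
    congrArg Subtype.val (IsMulCommutative.is_comm.comm (⟨a, ha⟩ : I) ⟨b, hb⟩)
  have hinv : ∀ a ∈ I, a⁻¹ = a := fun a ha => inv_eq_of_mul_eq_one_right (hI2 a ha)
  have hI2' : IsPGroup 2 I := fun a => ⟨1, Subtype.ext (by
    rw [pow_one, pow_two]; exact hI2 a a.2)⟩
  intro d
  induction d with
  | zero =>
    intro K J _ _ _ _ hJ _
    have hJ' : J = ⊥ := Subgroup.eq_bot_of_card_eq J (by simpa using hJ)
    refine ⟨Fin.elim0, fun i => i.elim0, fun i => i.elim0, fun i => i.elim0, fun i => i.elim0, ?_, ?_, ?_⟩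
    · rw [show (⨆ i : Fin 0, (Fin.elim0 i : Subgroup S)) = ⊥ from iSup_of_empty _]
      simp
    · rw [show (⨆ i : Fin 0, (Fin.elim0 i : Subgroup S)) = ⊥ from iSup_of_empty _]
      simp
    · simp [hJ']
  | succ d ih =>
    intro K J hK hodd hIK hJI hJ hker
    have hcop : (Nat.card I).Coprime (Nat.card K) := by
      obtain ⟨k, hk⟩ := IsPGroup.iff_card.1 hI2'
      rw [hk]
      exact (Nat.coprime_two_left.2 hodd).pow_left k
    -- an eigen element not fixed by `J`
    obtain ⟨B, hBI, ⟨g, hg, hIg⟩, x, hxK, hxB, t, ht, htx⟩ : ∃ B : Subgroup S, B ≤ I ∧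
        (∃ g ∈ I, I ≤ B ⊔ Subgroup.zpowers g) ∧ ∃ x ∈ K, x ∈ Subgroup.centralizer (B : Set S) ∧
          ∃ t ∈ J, t * x ≠ x * t := by
      by_contra hcon
      push Not at hcon
      have hle := Coprime.le_of_cyclic_quotient (W := K ⊓ Subgroup.centralizer (J : Set S)) hIK hcop
        fun B hB hB' x hx => ⟨hx.1, Subgroup.mem_centralizer_iff.2 fun t ht =>
          hcon B hB hB' x hx.1 hx.2 t ht⟩
      have hJbot : J = ⊥ := by
        rw [eq_bot_iff, ← hker]
        exact le_inf le_rfl (Subgroup.le_centralizer_iff.1 (hle.trans inf_le_right))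
      rw [hJbot, Subgroup.card_bot] at hJ
      have : 2 ≤ 2 ^ (d + 1) := by rw [pow_succ]; have := Nat.one_le_two_pow (n := d); omega
      omega
    have htI := hJI ht
    have htt := hI2 t htI
    let y0 := x⁻¹ * (t * x * t⁻¹)
    have hy0K : y0 ∈ K := K.mul_mem (K.inv_mem hxK) ((Subgroup.mem_normalizer_iff.1 (hIK htI) x).1 hxK)
    have hy0ne : y0 ≠ 1 := fun h => htx (mul_inv_eq_iff_eq_mul.1 (inv_mul_eq_one.1 h).symm)
    have hty0 : t * y0 * t⁻¹ = y0⁻¹ := by
      simp only [y0, hinv t htI, mul_inv_rev, inv_inv]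
      simp only [← mul_assoc]
      simp only [mul_assoc, htt, mul_one]
    have hBy0 : ∀ b ∈ B, b * y0 = y0 * b := by
      intro b hb
      have h1 : Commute b x := Subgroup.mem_centralizer_iff.1 hxB b hb
      have h2 : Commute b t := hIc b (hBI hb) t htI
      exact (h1.inv_right.mul_right ((h2.mul_right h1).mul_right h2.inv_right)).eq
    obtain ⟨q, hq, hqd⟩ := Nat.exists_prime_and_dvd (fun h => hy0ne (orderOf_eq_one_iff.1 h))
    let y := y0 ^ (orderOf y0 / q)
    have hyord : orderOf y = q := orderOf_pow_orderOf_div (orderOf_pos y0).ne' hqd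
    have hyK : y ∈ K := K.pow_mem hy0K _
    have hty : t * y * t⁻¹ = y⁻¹ := by
      show t * y0 ^ _ * t⁻¹ = (y0 ^ _)⁻¹
      rw [← conj_pow, hty0, inv_pow]
    have hBy : ∀ b ∈ B, Commute b y := fun b hb => (show Commute b y0 from hBy0 b hb).pow_right _
    have hyne : y ≠ 1 := fun h => by rw [h, orderOf_one] at hyord; exact hq.ne_one hyord.symm
    have hqodd : Odd q := hodd.of_dvd_nat (hyord ▸ Subgroup.orderOf_dvd_natCard K hyK)
    have hy2 : ¬ y = y⁻¹ := fun h => by
      have h2 : y ^ 2 = 1 := by rw [pow_two]; exact eq_inv_iff_mul_eq_one.1 h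
      have := Nat.le_of_dvd two_pos (hyord ▸ orderOf_dvd_of_pow_eq_one h2)
      have h3 := hq.two_le
      obtain ⟨r, hr⟩ := hqodd
      omega
    -- every element of `I` fixes or inverts `y`
    have hIy : ∀ a ∈ I, a * y * a⁻¹ = y ∨ a * y * a⁻¹ = y⁻¹ := by
      have hgy : g * y * g⁻¹ = y ∨ g * y * g⁻¹ = y⁻¹ := by
        have hg2 := hI2 g hg
        obtain ⟨b, hb, k, ⟨i, rfl⟩, hbk⟩ := (Coprime.mem_sup_iff (N := B) (H := Subgroup.zpowers g)
          (fun k hk => Subgroup.centralizer_le_normalizer _ (Subgroup.mem_centralizer_iff.2 fun b hb =>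
            hIc b (hBI hb) k ((Subgroup.zpowers_le.2 hg) hk)))).1 (hIg htI)
        rcases Int.even_or_odd' i with ⟨r, rfl | rfl⟩
        · exfalso
          simp only [zpow_mul, zpow_two, hg2, one_zpow, mul_one] at hbk
          subst hbk
          rw [(hBy b hb).eq, mul_inv_cancel_right] at hty
          exact hy2 hty
        · simp only [zpow_add, zpow_mul, zpow_two, hg2, one_zpow, one_mul, zpow_one] at hbk
          right
          have hgeq : g = b⁻¹ * t := by rw [← hbk, inv_mul_cancel_left]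
          rw [hgeq, show b⁻¹ * t * y * (b⁻¹ * t)⁻¹ = b⁻¹ * (t * y * t⁻¹) * b by group, hty,
            mul_assoc, ← (hBy b hb).inv_right.eq, inv_mul_cancel_left]
      intro a ha
      obtain ⟨b, hb, k, ⟨i, rfl⟩, rfl⟩ := (Coprime.mem_sup_iff (N := B) (H := Subgroup.zpowers g)
        (fun k hk => Subgroup.centralizer_le_normalizer _ (Subgroup.mem_centralizer_iff.2 fun b hb =>
          hIc b (hBI hb) k ((Subgroup.zpowers_le.2 hg) hk)))).1 (hIg ha)
      have hbfix : ∀ w, (w = y ∨ w = y⁻¹) → b * w * b⁻¹ = w := by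
        rintro w (rfl | rfl)
        · rw [(hBy b hb).eq, mul_inv_cancel_right]
        · rw [(hBy b hb).inv_right.eq, mul_inv_cancel_right]
      have hg2 := hI2 g hg
      have hk : g ^ i * y * (g ^ i)⁻¹ = y ∨ g ^ i * y * (g ^ i)⁻¹ = y⁻¹ := by
        rcases Int.even_or_odd' i with ⟨r, rfl | rfl⟩
        · left; simp [zpow_mul, pow_two, hg2]
        · simpa [zpow_add, zpow_mul, pow_two, hg2] using hgy
      show b * g ^ i * y * (b * g ^ i)⁻¹ = y ∨ b * g ^ i * y * (b * g ^ i)⁻¹ = y⁻¹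
      rw [show b * g ^ i * y * (b * g ^ i)⁻¹ = b * (g ^ i * y * (g ^ i)⁻¹) * b⁻¹ by group, hbfix _ hk]
      exact hk
    let A := Subgroup.zpowers y
    have hIA : I ≤ Subgroup.normalizer (A : Set S) := by
      intro a ha
      have key : ∀ c ∈ I, ∀ w ∈ A, c * w * c⁻¹ ∈ A := by
        rintro c hc w ⟨i, rfl⟩
        show c * y ^ i * c⁻¹ ∈ A
        rw [← conj_zpow]
        rcases hIy c hc with h | h <;> rw [h]
        · exact A.zpow_mem (Subgroup.mem_zpowers y) i
        · exact A.zpow_mem (A.inv_mem (Subgroup.mem_zpowers y)) i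
      refine Subgroup.mem_normalizer_iff.2 fun w => ⟨key a ha w, fun hw => ?_⟩
      have h := key a⁻¹ (I.inv_mem ha) _ hw
      rwa [show a⁻¹ * (a * w * a⁻¹) * a⁻¹⁻¹ = w by group] at h
    let K' := K ⊓ Subgroup.centralizer (A : Set S)
    let J' := J ⊓ Subgroup.centralizer ({y} : Set S)
    have hK'K : K' ≤ K := inf_le_left
    have hK'nil : Group.IsNilpotent K' := by
      haveI := hK
      exact Group.nilpotent_of_mulEquiv (Subgroup.subgroupOfEquivOfLe hK'K)
    have hK'odd : Odd (Nat.card K') := hodd.of_dvd_nat (Subgroup.card_dvd_of_le hK'K)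
    have hIK' : I ≤ Subgroup.normalizer (K' : Set S) := by
      intro a ha
      have key : ∀ c ∈ I, ∀ w ∈ K', c * w * c⁻¹ ∈ K' := by
        intro c hc w hw
        refine ⟨(Subgroup.mem_normalizer_iff.1 (hIK hc) w).1 hw.1, Subgroup.mem_centralizer_iff.2 fun v hv => ?_⟩
        have hv' := (Subgroup.mem_normalizer_iff.1 (hIA (I.inv_mem hc)) v).1 hv
        have h1 : Commute (c⁻¹ * v * c⁻¹⁻¹) w := Subgroup.mem_centralizer_iff.1 hw.2 _ hv'
        have h2 := h1.map (MulAut.conj c).toMonoidHom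
        simp only [MulEquiv.coe_toMonoidHom, MulAut.conj_apply] at h2
        rwa [show c * (c⁻¹ * v * c⁻¹⁻¹) * c⁻¹ = v by group] at h2
      refine Subgroup.mem_normalizer_iff.2 fun w => ⟨key a ha w, fun hw => ?_⟩
      have h := key a⁻¹ (I.inv_mem ha) _ hw
      rwa [show a⁻¹ * (a * w * a⁻¹) * a⁻¹⁻¹ = w by group] at h
    have hJ'I : J' ≤ I := inf_le_left.trans hJI
    have hfix : ∀ j ∈ J, j ∈ J' ↔ j * y * j⁻¹ = y := fun j hj => by
      show j ∈ J ∧ j ∈ Subgroup.centralizer ({y} : Set S) ↔ _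
      rw [Subgroup.mem_centralizer_singleton_iff, mul_inv_eq_iff_eq_mul]
      exact and_iff_right hj
    have hJ'card : Nat.card J' = 2 ^ d := by
      have hidx : (J'.subgroupOf J).index = 2 := by
        refine Subgroup.index_eq_two_iff.2 ⟨⟨t, ht⟩, fun b => ?_⟩
        simp only [Subgroup.mem_subgroupOf, Subgroup.coe_mul]
        rw [hfix b b.2, hfix _ (J.mul_mem b.2 ht),
          show (b : S) * t * y * ((b : S) * t)⁻¹ = (b : S) * (t * y * t⁻¹) * (b : S)⁻¹ by group, hty,
          ← conj_inv]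
        rcases hIy b (hJI b.2) with h | h <;> rw [h]
        · exact Or.inr ⟨rfl, fun e => hy2 e.symm⟩
        · exact Or.inl ⟨inv_inv y, fun e => hy2 e.symm⟩
      have h := (J'.subgroupOf J).card_mul_index
      rw [hidx, hJ, Nat.card_congr (Subgroup.subgroupOfEquivOfLe (inf_le_left : J' ≤ J)).toEquiv,
        pow_succ] at h
      exact Nat.eq_of_mul_eq_mul_right two_pos h
    have hker' : J' ⊓ Subgroup.centralizer (K' : Set S) = ⊥ := by
      rw [eq_bot_iff]
      rintro j ⟨hj, hjK'⟩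
      rw [← hker]
      refine ⟨hj.1, ?_⟩
      have hle : Subgroup.zpowers j ≤ I := Subgroup.zpowers_le.2 (hJ'I hj)
      refine Coprime.le_centralizer_of_centralizer_le hK (hle.trans hIK)
        (hcop.coprime_dvd_left (Subgroup.card_dvd_of_le hle)) ?_ (Subgroup.mem_zpowers j)
      rintro w ⟨hwK, hwC⟩
      refine ⟨hwK, ?_⟩
      have hyC : y ∈ K ⊓ Subgroup.centralizer (Subgroup.zpowers j : Set S) := ⟨hyK,
        Subgroup.mem_centralizer_iff.2 fun v hv => by
          obtain ⟨i, rfl⟩ := hv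
          exact ((show Commute j y from Subgroup.mem_centralizer_singleton_iff.1 hj.2).zpow_left i).eq⟩
      have hwy : Commute y w := Subgroup.mem_centralizer_iff.1 hwC y hyC
      have hwK' : w ∈ K' := ⟨hwK, Subgroup.mem_centralizer_iff.2 fun v hv => by
        obtain ⟨i, rfl⟩ := hv
        exact (hwy.zpow_left i).eq⟩
      refine Subgroup.mem_centralizer_iff.2 fun v hv => ?_
      obtain ⟨i, rfl⟩ := hv
      exact ((show Commute j w from
        (Subgroup.mem_centralizer_iff.1 hjK' w hwK').symm).zpow_left i).eq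
    obtain ⟨f, hf1, hf2, hf3, hf4, hf5, hf6, hf7⟩ :=
      ih K' J' hK'nil hK'odd hIK' hJ'I hJ'card hker'
    have hsup' : (⨆ i, f i) ≤ K' := iSup_le hf2
    have hAB : ∀ a ∈ A, ∀ b ∈ (⨆ i, f i), a * b = b * a := fun a ha b hb =>
      Subgroup.mem_centralizer_iff.1 (hsup' hb).2 a ha
    have hAJ' : ∀ j ∈ J', ∀ a ∈ A, Commute j a := by
      rintro j hj a ⟨i, rfl⟩
      exact (show Commute j y from Subgroup.mem_centralizer_singleton_iff.1 hj.2).zpow_right i
    have hdisj : A ⊓ (⨆ i, f i) = ⊥ := by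
      rw [eq_bot_iff, ← hf6]
      exact fun a ha => ⟨ha.2, Subgroup.mem_centralizer_iff.2 fun j hj => (hAJ' j hj a ha.1).eq⟩
    obtain ⟨hmem, hcardsup⟩ := card_sup_of_commute hAB hdisj
    have hsupeq : (⨆ i, (Fin.cons A f : Fin (d + 1) → Subgroup S) i) = A ⊔ ⨆ i, f i := by
      refine le_antisymm (iSup_le fun i => ?_) (sup_le ?_ (iSup_le fun i => ?_))
      · refine Fin.cases ?_ (fun i => ?_) i
        · simp
        · simpa using le_sup_of_le_right (le_iSup f i)
      · exact le_iSup_of_le 0 (by simp)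
      · exact le_iSup_of_le i.succ (by simp)
    refine ⟨Fin.cons A f, ?_, ?_, ?_, ?_, ?_, ?_, ?_⟩
    · refine Fin.cases ?_ (fun i => ?_)
      · simpa [A, Nat.card_zpowers, hyord] using hq
      · simpa using hf1 i
    · refine Fin.cases ?_ (fun i => ?_)
      · simpa [A] using Subgroup.zpowers_le.2 hyK
      · simpa using (hf2 i).trans hK'K
    · refine Fin.cases ?_ (fun i => ?_)
      · simpa using hIA
      · simpa using hf3 i
    · refine Fin.cases (Fin.cases (fun h => absurd rfl h) fun j _ a ha b hb => ?_)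
        (fun i => Fin.cases (fun _ a ha b hb => ?_) fun j hij a ha b hb => ?_)
      · rw [Fin.cons_zero] at ha; rw [Fin.cons_succ] at hb
        exact hAB a ha b (le_iSup f j hb)
      · rw [Fin.cons_succ] at ha; rw [Fin.cons_zero] at hb
        exact (hAB b hb a (le_iSup f i ha)).symm
      · rw [Fin.cons_succ] at ha hb
        exact hf4 i j (fun e => hij (congrArg Fin.succ e)) a ha b hb
    · rw [hsupeq, hcardsup, hf5, Fin.prod_univ_succ]
      simp
    · rw [hsupeq, eq_bot_iff]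
      rintro w ⟨hw, hwJ⟩
      obtain ⟨a, ha, b, hb, rfl⟩ := hmem w hw
      have hb1 : b = 1 := Subgroup.mem_bot.1 (hf6 ▸ ⟨hb, Subgroup.mem_centralizer_iff.2 fun j hj => by
        have h1 : Commute j (a * b) := Subgroup.mem_centralizer_iff.1 hwJ j hj.1
        have h2 := (hAJ' j hj a ha).inv_right.mul_right h1
        rwa [inv_mul_cancel_left] at h2⟩)
      subst hb1
      rw [mul_one] at hwJ ⊢
      have h1 : t * a * t⁻¹ = a := mul_inv_eq_iff_eq_mul.2 (Subgroup.mem_centralizer_iff.1 hwJ t ht)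
      obtain ⟨i, rfl⟩ := ha
      simp only at h1
      rw [← conj_zpow, hty, inv_zpow, inv_eq_iff_mul_eq_one, ← zpow_add] at h1
      have h2 := orderOf_dvd_iff_zpow_eq_one.2 h1
      rw [hyord, show i + i = 2 * i by ring] at h2
      have h3 : (q : ℤ) ∣ i := by
        refine (Int.Prime.dvd_mul' hq h2).resolve_left fun h => ?_
        have h4 : q ∣ 2 := by exact_mod_cast h
        have h5 := Nat.le_of_dvd two_pos h4
        have := hq.two_le
        obtain ⟨r, hr⟩ := hqodd
        omega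
      exact Subgroup.mem_bot.2 (orderOf_dvd_iff_zpow_eq_one.1 (hyord ▸ h3))
    · rw [hsupeq, eq_bot_iff, ← hf7]
      rintro j ⟨hj, hjC⟩
      refine ⟨(hfix j hj).2 ?_, fun w hw => hjC w (Subgroup.mem_sup_right hw)⟩
      exact mul_inv_eq_iff_eq_mul.2
        (Subgroup.mem_centralizer_iff.1 hjC y (Subgroup.mem_sup_left (Subgroup.mem_zpowers y))).symm

/-- Let S be a finite solvable group whose Fitting subgroup F(S) has odd order, and let I be an elementary abelian 2-subgroup of S of order 2ⁿ with n ≥ 1. Then F(S) contains subgroups A₁, …, Aₙ of prime order, each normalized by I, pairwise commuting and generating a subgroup A of order |A₁|⋯|Aₙ| (their internal direct product), such that no non-identity element of I centralizes A. -/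
theorem result {S : Type*} [Group S] [Finite S]
    [Group.IsSolvable S] (hF : Odd (Nat.card ↥(Cfsg.fittingSubgroup S)))
    (I : Subgroup S) (hI : Cfsg.IsElementaryAbelian 2 I) (n : ℕ) (hn : 1 ≤ n) (hIn : Nat.card ↥I = 2 ^ n) :
    ∃ f : Fin n → Subgroup S, (∀ i, (Nat.card ↥(f i)).Prime) ∧ (∀ i, f i ≤ Cfsg.fittingSubgroup S) ∧
      (∀ i, I ≤ Subgroup.normalizer ((f i) : Set S)) ∧ (∀ i j, i ≠ j → ∀ a ∈ f i, ∀ b ∈ f j, a * b = b * a) ∧
      Nat.card ↥(⨆ i, f i) = ∏ i, Nat.card ↥(f i) ∧ I ⊓ Subgroup.centralizer ((⨆ i, f i : Subgroup S) : Set S) = ⊥ := by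
  haveI : IsMulCommutative I := hI.1
  have hI2 : ∀ a ∈ I, a * a = 1 := fun a ha => by
    exact (pow_two a).symm.trans (hI.2 a ha)
  have hnorm : I ≤ Subgroup.normalizer (Cfsg.fittingSubgroup S : Set S) := by
    rw [Subgroup.normalizer_eq_top]; exact le_top
  have hker : I ⊓ Subgroup.centralizer (Cfsg.fittingSubgroup S : Set S) = ⊥ := by
    rw [eq_bot_iff]
    rintro a ⟨haI, haC⟩
    have hF' := Solvable.centralizer_fitting_le S haC
    refine Subgroup.mem_bot.2 (orderOf_eq_one_iff.1 ?_)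
    have h1 : orderOf a ∣ 2 := orderOf_dvd_of_pow_eq_one (by rw [pow_two]; exact hI2 a haI)
    exact Nat.eq_one_of_dvd_coprimes (Nat.coprime_two_left.2 hF) h1
      (Subgroup.orderOf_dvd_natCard _ hF')
  obtain ⟨f, h1, h2, h3, h4, h5, -, h7⟩ := eigen_family I hI2 n (Cfsg.fittingSubgroup S) I
    inferInstance hF hnorm le_rfl hIn hker
  exact ⟨f, h1, h2, h3, h4, h5, h7⟩

end Cfsg.Agent.S4408
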