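import Cfsg.Statements.S4409
import Cfsg.Agent.EqLemmas
import Cfsg.Agent.Lib.MinEight.Structure
import Cfsg.Agent.Lib.Cores.Basic
import Cfsg.Agent.Lib.Solvable.Fitting
import Cfsg.Agent.Lib.Solvable.Hall
import Cfsg.Agent.Lib.PGroup.CyclicMaximal
import Cfsg.Agent.Lib.PGroup.Extraspecial

set_option autoImplicit false
open Cfsg

namespace Cfsg.Agent.S4409

set_option linter.style.haveILetI false

open scoped commutatorElement
open MinEight

variable {G : Type*} [Group G] [Finite G]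

theorem card_le_two_mul {A Q : Subgroup G} (h : ∀ a ∈ A, ∀ b ∈ A, a ∉ Q → b ∉ Q → a * b ∈ Q) :
    Nat.card A ≤ 2 * Nat.card (A ⊓ Q : Subgroup G) := by
  classical
  rw [show Nat.card A = (A : Set G).ncard from Nat.card_coe_set_eq _,
    show Nat.card (A ⊓ Q : Subgroup G) = ((A ⊓ Q : Subgroup G) : Set G).ncard from Nat.card_coe_set_eq _]
  by_cases hAQ : A ≤ Q
  · rw [inf_eq_left.mpr hAQ]; omega
  obtain ⟨a₀, ha₀, ha₀Q⟩ := SetLike.not_le_iff_exists.mp hAQ
  have hsub : (A : Set G) ⊆ ((A ⊓ Q : Subgroup G) : Set G) ∪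
      (fun b => a₀⁻¹ * b) '' ((A ⊓ Q : Subgroup G) : Set G) := fun b hb => by
    by_cases hbQ : b ∈ Q
    · exact Or.inl ⟨hb, hbQ⟩
    · exact Or.inr ⟨a₀ * b, ⟨A.mul_mem ha₀ hb, h a₀ ha₀ b hb ha₀Q hbQ⟩, inv_mul_cancel_left a₀ b⟩
  refine (Set.ncard_le_ncard hsub (Set.toFinite _)).trans ((Set.ncard_union_le _ _).trans ?_)
  rw [Set.ncard_image_of_injective _ (mul_right_injective a₀⁻¹)]
  omega

theorem commutator_ne_self {F R : Subgroup G} (hR : IsPGroup 2 R) (hFR : F ≤ R)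
    (hRF : R ≤ Subgroup.normalizer (F : Set G)) (hne : F ≠ ⊥) : ⁅F, R⁆ ≠ F := by
  haveI : Fact (Nat.Prime 2) := ⟨Nat.prime_two⟩
  intro h
  haveI : (F.subgroupOf R).Normal := (Subgroup.normal_subgroupOf_iff_le_normalizer hFR).mpr hRF
  have hlt := PGroup.commutator_lt_of_ne_bot hR (N := F.subgroupOf R) fun h0 =>
    hne (disjoint_self.mp ((Subgroup.subgroupOf_eq_bot.mp h0).mono_right hFR))
  refine hlt.ne (Subgroup.map_injective R.subtype_injective ?_)
  rw [Subgroup.map_commutator, ← MonoidHom.range_eq_map, Subgroup.range_subtype,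
    Subgroup.map_subgroupOf_eq_of_le hFR]
  exact h

/-- A four or quaternion core excludes noncyclic abelian subgroups of order 8. -/
theorem false_of_core {Q A : Subgroup G} [Q.Normal] (hC : Subgroup.centralizer (Q : Set G) ≤ Q)
    (hQ8 : NoEight Q) (hT : IsFour Q ∨ ∃ z, IsQuat Q z) (hA : IsMulCommutative A)
    (hAc : ¬ IsCyclic A) (hA8 : Nat.card A = 8) : False := by
  haveI : Fact (Nat.Prime 2) := ⟨Nat.prime_two⟩
  have hAcomm : ∀ a ∈ A, ∀ b ∈ A, a * b = b * a := fun a ha b hb =>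
    congrArg Subtype.val (hA.is_comm.comm ⟨a, ha⟩ ⟨b, hb⟩)
  have hAQ : ¬ A ≤ Q := fun h => hQ8 ⟨A, h, hA, hAc, hA8⟩
  have hA2 : IsPGroup 2 A := IsPGroup.of_card (n := 3) (by rw [hA8]; norm_num)
  have hQ2 : IsPGroup 2 Q := by
    rcases hT with h | ⟨z, h⟩
    · exact IsPGroup.of_card (n := 2) (by rw [h.card_eq]; norm_num)
    · exact IsPGroup.of_card (n := 3) (by rw [h.card_eq]; norm_num)
  have hQne : Q ≠ ⊥ := by
    intro h0
    rcases hT with hT | ⟨z, hT⟩ <;> · have h1 := hT.card_eq; rw [h0, Subgroup.card_bot] at h1; omega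
  set R := A ⊔ Q with hR
  have hR2 : IsPGroup 2 R := hA2.to_sup_of_normal_right hQ2
  set D := ⁅Q, R⁆ with hD
  have hnorm : ∀ g : G, g ∈ Subgroup.normalizer (Q : Set G) := fun g => by
    rw [Subgroup.normalizer_eq_top]; exact Subgroup.mem_top g
  have hDQ : D ≤ Q := Subgroup.commutator_le_left Q R
  have hDne : D ≠ Q := commutator_ne_self hR2 le_sup_right (fun g _ => hnorm g) hQne
  have hDconj : ∀ a ∈ A, ∀ d ∈ D, a * d * a⁻¹ ∈ D := fun a ha d hd =>
    Subgroup.le_normalizer_iff.mp (Subgroup.normalizer_commutator_ge_right Q R) a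
      (le_sup_left (b := Q) ha) d hd
  have hDmem : ∀ a ∈ A, ∀ u ∈ Q, a * u * a⁻¹ * u⁻¹ ∈ D := fun a ha u hu => by
    have h1 : ⁅u, a⁆ ∈ D := Subgroup.commutator_mem_commutator hu (le_sup_left (b := Q) ha)
    have h2 := D.inv_mem h1
    rwa [commutatorElement_inv, commutatorElement_def] at h2
  have hDcard : Nat.card D ∣ Nat.card Q := Subgroup.card_dvd_of_le hDQ
  have hDlt : Nat.card D < Nat.card Q := lt_of_not_ge fun h => hDne (PGroup.eq_of_le_of_card_le hDQ h)
  rcases hT with hT | ⟨z, hT⟩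
  · -- the four group
    rw [hT.card_eq] at hDcard hDlt
    have hD2 : Nat.card D ≤ 2 := by
      have := Nat.le_of_dvd (by norm_num) hDcard
      interval_cases h : Nat.card D <;> omega
    have hDfix : ∀ a ∈ A, ∀ d ∈ D, a * d * a⁻¹ = d := by
      intro a ha d hd
      by_contra hne
      have hd1 : d ≠ 1 := fun h => hne (by rw [h, mul_one, mul_inv_cancel])
      have hc1 : a * d * a⁻¹ ≠ 1 := fun h => hd1 (by
        calc d = a⁻¹ * (a * d * a⁻¹) * a := by group
          _ = 1 := by rw [h, mul_one, inv_mul_cancel])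
      have h3 : ({1, d, a * d * a⁻¹} : Set G) ⊆ D := by
        rintro x (rfl | rfl | rfl)
        exacts [D.one_mem, hd, hDconj a ha d hd]
      have h4 := Set.ncard_le_ncard h3 (Set.toFinite _)
      rw [Set.ncard_eq_three.mpr ⟨1, d, a * d * a⁻¹, Ne.symm hd1, Ne.symm hc1, Ne.symm hne, rfl⟩,
        ← Nat.card_coe_set_eq] at h4
      change 3 ≤ Nat.card D at h4
      omega
    obtain ⟨u, hu, huD⟩ := SetLike.not_le_iff_exists.mp (fun h : Q ≤ D => hDne (le_antisymm hDQ h))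
    have hfix : ∀ a ∈ A, a * u * a⁻¹ = u → a ∈ Q := fun a ha hau => by
      have h1 : ∀ x ∈ Q, a * x * a⁻¹ = x := by
        intro x hx
        by_contra hne
        -- the fixed points form a subgroup
        let C := Q ⊓ Subgroup.centralizer ({a} : Set G)
        have hle : D ≤ C := fun d hd => ⟨hDQ hd, Subgroup.mem_centralizer_singleton_iff.mpr
          (mul_inv_eq_iff_eq_mul.mp (hDfix a ha d hd)).symm⟩
        have huC : u ∈ C :=
          ⟨hu, Subgroup.mem_centralizer_singleton_iff.mpr (mul_inv_eq_iff_eq_mul.mp hau).symm⟩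
        have hxC : x ∉ C := fun h => hne (mul_inv_eq_iff_eq_mul.mpr
          (Subgroup.mem_centralizer_singleton_iff.mp h.2).symm)
        have hCd : Nat.card C ∣ 4 := hT.card_eq ▸ Subgroup.card_dvd_of_le inf_le_left
        have hClt : Nat.card C < 4 := hT.card_eq ▸ lt_of_not_ge fun h =>
          hxC ((PGroup.eq_of_le_of_card_le (inf_le_left : C ≤ Q) h).ge hx)
        have hDC : Nat.card D < Nat.card C := lt_of_not_ge fun h =>
          huD (PGroup.eq_of_le_of_card_le hle h ▸ huC)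
        have hDpos : 2 ≤ Nat.card D := by
          by_contra hlt
          have hbot : D = ⊥ := Subgroup.card_eq_one.mp (by have := Nat.card_pos (α := D); omega)
          refine hne ?_
          have h2 := hDmem a ha x hx
          rw [hbot, Subgroup.mem_bot] at h2
          exact mul_inv_eq_one.mp h2
        have hC4 := Nat.le_of_dvd (by norm_num) hCd
        interval_cases hc : Nat.card C <;> omega
      exact hC (Subgroup.mem_centralizer_iff.mpr fun x hx => (mul_inv_eq_iff_eq_mul.mp (h1 x hx)).symm)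
    have hmul : ∀ a ∈ A, ∀ b ∈ A, a ∉ Q → b ∉ Q → a * b ∈ Q := by
      intro a ha b hb haQ hbQ
      refine hfix _ (A.mul_mem ha hb) ?_
      have ha' := hDmem a ha u hu
      have hb' := hDmem b hb u hu
      have hne : ∀ c ∈ A, c ∉ Q → c * u * c⁻¹ * u⁻¹ ≠ 1 := fun c hc hcQ h =>
        hcQ (hfix c hc (mul_inv_eq_one.mp h))
      have heq : a * u * a⁻¹ * u⁻¹ = b * u * b⁻¹ * u⁻¹ := by
        by_contra hne'
        have h3 : ({1, a * u * a⁻¹ * u⁻¹, b * u * b⁻¹ * u⁻¹} : Set G) ⊆ D := by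
          rintro x (rfl | rfl | rfl)
          exacts [D.one_mem, ha', hb']
        have h4 := Set.ncard_le_ncard h3 (Set.toFinite _)
        rw [Set.ncard_eq_three.mpr ⟨1, a * u * a⁻¹ * u⁻¹, b * u * b⁻¹ * u⁻¹, (hne a ha haQ).symm,
          (hne b hb hbQ).symm, hne', rfl⟩, ← Nat.card_coe_set_eq] at h4
        change 3 ≤ Nat.card D at h4
        omega
      calc a * b * u * (a * b)⁻¹ = (a * (b * u * b⁻¹ * u⁻¹) * a⁻¹) * (a * u * a⁻¹ * u⁻¹) * u := by group
        _ = (b * u * b⁻¹ * u⁻¹) * (b * u * b⁻¹ * u⁻¹) * u := by rw [hDfix a ha _ hb', heq]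
        _ = u := by rw [hT.sq _ (hDQ hb'), one_mul]
    have hcard := card_le_two_mul hmul
    have hAQe : A ⊓ Q = Q := PGroup.eq_of_le_of_card_le inf_le_right (by
      rw [hT.card_eq]; omega)
    refine hAQ fun a ha => hC (Subgroup.mem_centralizer_iff.mpr fun x hx => ?_)
    exact hAcomm x (hAQe.ge hx).1 a ha
  · -- the quaternion group
    rw [hT.card_eq] at hDcard hDlt
    have hzc : ∀ g : G, g * z = z * g := fun g => hT.z_comm (hnorm g)
    have hzfix : ∀ g : G, g * z * g⁻¹ = z := fun g => hT.conj_z (hnorm g)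
    have hinner : ∀ a ∈ A, ∀ i ∈ Q, i ≠ 1 → i ≠ z → ∀ u ∈ Q, u ∉ Subgroup.zpowers i →
        (a * i * a⁻¹ = i ∨ a * i * a⁻¹ = i * z) → (a * u * a⁻¹ = u ∨ a * u * a⁻¹ = u * z) → a ∈ Q := by
      intro a ha i hi hi1 hiz u hu hui h1 h2
      obtain ⟨q, hq, hqa⟩ := hT.inner hi hi1 hiz hu hui (hnorm a) h1 h2
      have h3 : q⁻¹ * a ∈ Q := hC (Subgroup.mem_centralizer_iff.mpr fun x hx => (hqa x hx).symm)
      simpa using Q.mul_mem hq h3
    obtain ⟨i₀, hi₀, u₀, hu₀, hne₀⟩ := hT.noncomm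
    have hi₀1 : i₀ ≠ 1 := fun h => hne₀ (by rw [h, one_mul, mul_one])
    have hi₀z : i₀ ≠ z := fun h => hne₀ (by rw [h]; exact (hzc u₀).symm)
    have hu₀i : u₀ ∉ Subgroup.zpowers i₀ := fun h => hne₀ (by
      obtain ⟨k, rfl⟩ := Subgroup.mem_zpowers_iff.mp h
      exact ((Commute.refl i₀).zpow_right k).eq)
    obtain ⟨i, hiD, hi1, hiz⟩ : ∃ i ∈ D, i ≠ 1 ∧ i ≠ z := by
      by_contra hcon
      push Not at hcon
      refine hAQ fun a ha => hinner a ha i₀ hi₀ hi₀1 hi₀z u₀ hu₀ hu₀i ?_ ?_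
      · by_cases h : a * i₀ * a⁻¹ * i₀⁻¹ = 1
        · exact Or.inl (mul_inv_eq_one.mp h)
        · have h1 := hcon _ (hDmem a ha i₀ hi₀) h
          rw [mul_inv_eq_iff_eq_mul, ← hzc i₀] at h1
          exact Or.inr h1
      · by_cases h : a * u₀ * a⁻¹ * u₀⁻¹ = 1
        · exact Or.inl (mul_inv_eq_one.mp h)
        · have h1 := hcon _ (hDmem a ha u₀ hu₀) h
          rw [mul_inv_eq_iff_eq_mul, ← hzc u₀] at h1
          exact Or.inr h1
    have hiQ := hDQ hiD
    have hDi : Subgroup.zpowers i = D := PGroup.eq_of_le_of_card_le (Subgroup.zpowers_le.mpr hiD) (by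
      rw [hT.card_zpowers hiQ hi1 hiz]
      have := Nat.le_of_dvd (by norm_num) hDcard
      interval_cases h : Nat.card D <;> omega)
    have hii : i * i = z := hT.sq i hiQ hi1 hiz
    have helts : ∀ x ∈ D, x = 1 ∨ x = z ∨ x = i ∨ x = i * z := by
      intro x hx
      rw [← hDi] at hx
      obtain ⟨n, rfl⟩ := Subgroup.mem_zpowers_iff.mp hx
      have e : ∀ m : ℤ, z ^ m = 1 ∨ z ^ m = z := fun m => by
        rcases Int.even_or_odd' m with ⟨k, rfl | rfl⟩
        · left; rw [zpow_mul, zpow_two, hT.z_sq, one_zpow]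
        · right; rw [zpow_add_one, zpow_mul, zpow_two, hT.z_sq, one_zpow, one_mul]
      rcases Int.even_or_odd' n with ⟨k, rfl | rfl⟩
      · rw [zpow_mul, zpow_two, hii]
        exact (e k).elim Or.inl fun h => Or.inr (Or.inl h)
      · rw [zpow_add_one, zpow_mul, zpow_two, hii]
        rcases e k with h | h <;> rw [h]
        · exact Or.inr (Or.inr (Or.inl (one_mul i)))
        · exact Or.inr (Or.inr (Or.inr (hzc i).symm))
    have hai : ∀ a ∈ A, a * i * a⁻¹ = i ∨ a * i * a⁻¹ = i * z := by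
      intro a ha
      rcases helts _ (hDconj a ha i hiD) with h | h | h
      · exact absurd (by simpa using h) hi1
      · refine absurd ?_ hiz
        calc i = a⁻¹ * (a * i * a⁻¹) * a := by group
          _ = a⁻¹ * z * a⁻¹⁻¹ := by rw [h, inv_inv]
          _ = z := hzfix _
      · exact h
    obtain ⟨u, hu, huD⟩ := SetLike.not_le_iff_exists.mp (fun h : Q ≤ D => hDne (le_antisymm hDQ h))
    have hout : ∀ a ∈ A, a ∉ Q → a * u * a⁻¹ * u⁻¹ = i ∨ a * u * a⁻¹ * u⁻¹ = i * z := by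
      intro a ha haQ
      rcases helts _ (hDmem a ha u hu) with h | h | h
      · exact absurd (hinner a ha i hiQ hi1 hiz u hu (hDi ▸ huD) (hai a ha)
          (Or.inl (mul_inv_eq_one.mp h))) haQ
      · exact absurd (hinner a ha i hiQ hi1 hiz u hu (hDi ▸ huD) (hai a ha)
          (Or.inr (by rw [mul_inv_eq_iff_eq_mul.mp h, hzc u]))) haQ
      · exact h
    have hmul : ∀ a ∈ A, ∀ b ∈ A, a ∉ Q → b ∉ Q → a * b ∈ Q := by
      intro a ha b hb haQ hbQ
      refine hinner _ (A.mul_mem ha hb) i hiQ hi1 hiz u hu (hDi ▸ huD) (hai _ (A.mul_mem ha hb)) ?_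
      have key : a * (b * u * b⁻¹ * u⁻¹) * a⁻¹ * (a * u * a⁻¹ * u⁻¹) = 1 ∨
          a * (b * u * b⁻¹ * u⁻¹) * a⁻¹ * (a * u * a⁻¹ * u⁻¹) = z := by
        have hsimp : ∀ x y : G, (x = i ∨ x = i * z) → (y = i ∨ y = i * z) → x * y = 1 ∨ x * y = z := by
          rintro x y (hx | hx) (hy | hy) <;> rw [hx, hy]
          · exact Or.inr hii
          · left; rw [← mul_assoc, hii, hT.z_sq]
          · left; rw [mul_assoc, ← hzc i, ← mul_assoc, hii, hT.z_sq]
          · right
            rw [mul_assoc i z, ← mul_assoc z i z, ← hzc i, mul_assoc i z z, hT.z_sq, mul_one, hii]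
        refine hsimp _ _ ?_ (hout a ha haQ)
        rcases hout b hb hbQ with h | h <;> rw [h]
        · exact hai a ha
        · rw [show a * (i * z) * a⁻¹ = (a * i * a⁻¹) * (a * z * a⁻¹) by group, hzfix]
          rcases hai a ha with h' | h' <;> rw [h']
          · exact Or.inr rfl
          · left; rw [mul_assoc, hT.z_sq, mul_one]
      rw [show a * b * u * (a * b)⁻¹ =
        a * (b * u * b⁻¹ * u⁻¹) * a⁻¹ * (a * u * a⁻¹ * u⁻¹) * u by group]
      rcases key with h | h <;> rw [h]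
      · exact Or.inl (one_mul u)
      · exact Or.inr (hzc u).symm
    have hcard := card_le_two_mul hmul
    obtain ⟨a₀, ha₀, ha₀Q⟩ := SetLike.not_le_iff_exists.mp hAQ
    have hAD : A ⊓ Q ≤ D := by
      rintro x ⟨hxA, hxQ⟩
      by_contra hxD
      refine ha₀Q (hinner a₀ ha₀ i hiQ hi1 hiz x hxQ (hDi ▸ hxD) (hai a₀ ha₀) (Or.inl ?_))
      rw [hAcomm a₀ ha₀ x hxA, mul_inv_cancel_right]
    have hADe : A ⊓ Q = D := PGroup.eq_of_le_of_card_le hAD (by
      rw [← hDi, hT.card_zpowers hiQ hi1 hiz]; omega)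
    have hfixD : ∀ x ∈ D, a₀ * x * a₀⁻¹ = x := fun x hx => by
      rw [hAcomm a₀ ha₀ x (hADe.ge hx).1, mul_inv_cancel_right]
    have hsq : a₀ * a₀ ∈ D := hADe.le ⟨A.mul_mem ha₀ ha₀, hmul a₀ ha₀ a₀ ha₀ ha₀Q ha₀Q⟩
    have hcu := hout a₀ ha₀ ha₀Q
    have hconj2 : a₀ * a₀ * u * (a₀ * a₀)⁻¹ = z * u := by
      rw [show a₀ * a₀ * u * (a₀ * a₀)⁻¹ =
        a₀ * (a₀ * u * a₀⁻¹ * u⁻¹) * a₀⁻¹ * (a₀ * u * a₀⁻¹ * u⁻¹) * u by group,
        hfixD _ (hDmem a₀ ha₀ u hu)]
      rcases hcu with h | h <;> rw [h]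
      · rw [hii]
      · rw [show i * z * (i * z) = i * (z * i) * z by group, ← hzc i,
          show i * (i * z) * z = i * i * (z * z) by group, hii, hT.z_sq, mul_one]
    have h4 : ¬ orderOf (⟨a₀, ha₀⟩ : A) ∣ 4 := by
      intro hd
      rw [orderOf_dvd_iff_pow_eq_one] at hd
      have hd' : a₀ * a₀ * (a₀ * a₀) = 1 := by
        have := congrArg Subtype.val hd
        simpa [pow_succ, mul_assoc] using this
      have hcomm : a₀ * a₀ * u = u * (a₀ * a₀) := by
        rcases hT.eq_of_sq (hDQ hsq) hd' with h | h <;> rw [h]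
        · rw [one_mul, mul_one]
        · exact (hzc u).symm
      rw [hcomm, mul_inv_cancel_right, right_eq_mul] at hconj2
      exact hT.z_ne hconj2
    refine hAc (isCyclic_of_orderOf_eq_card (⟨a₀, ha₀⟩ : A) ?_)
    have hd8 : orderOf (⟨a₀, ha₀⟩ : A) ∣ 2 ^ 3 :=
      (orderOf_dvd_natCard _).trans (by rw [hA8]; norm_num)
    obtain ⟨k, hk, hk'⟩ := (Nat.dvd_prime_pow Nat.prime_two).mp hd8
    rw [hA8, hk']
    interval_cases k
    · exact absurd (hk' ▸ (by norm_num : 2 ^ 0 ∣ 4)) h4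
    · exact absurd (hk' ▸ (by norm_num : 2 ^ 1 ∣ 4)) h4
    · exact absurd (hk' ▸ (by norm_num : 2 ^ 2 ∣ 4)) h4
    · norm_num

theorem sup_cases {F : Subgroup G} {c : G} (hF : Subgroup.zpowers c ≤ Subgroup.normalizer (F : Set G))
    (hc2 : c * c ∈ F) {x : G} (hx : x ∈ F ⊔ Subgroup.zpowers c) : x ∈ F ∨ ∃ f ∈ F, x = f * c := by
  obtain ⟨f, hf, y, hy, rfl⟩ := (Coprime.mem_sup_iff hF).mp hx
  obtain ⟨n, rfl⟩ := Subgroup.mem_zpowers_iff.mp hy
  rcases Int.even_or_odd' n with ⟨k, rfl | rfl⟩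
  · left
    rw [zpow_mul, zpow_two]
    exact F.mul_mem hf (F.zpow_mem hc2 k)
  · right
    refine ⟨f * (c * c) ^ k, F.mul_mem hf (F.zpow_mem hc2 k), ?_⟩
    rw [zpow_add_one, zpow_mul, zpow_two, mul_assoc f]

theorem exists_eq_two_pow {n : ℕ} (hn : n ≠ 0) (h : ∀ p : ℕ, p.Prime → p ∣ n → p = 2) :
    ∃ k, n = 2 ^ k :=
  ⟨n.primeFactorsList.length, Nat.eq_prime_pow_of_unique_prime_dvd hn fun {d} hd hdn => h d hd hdn⟩


/-- Let S be a finite solvable group with O_{2'}(S) = 1 that contains a non-cyclic abelian subgroup of order 8, while no proper subgroup of S of 2-power index contains one. Then a Sylow 2-subgroup X of S is normal in S, and one of the following holds: X is abelian; X is extraspecial of order at least 32; X has a generalized quaternion subgroup X₀ of index 2 with X = X₀·C_X(X₀); or X is special with centre of order 4. -/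
theorem result {S : Type*} [Group S] [Finite S]
    [Group.IsSolvable S] (hO : Cfsg.pPrimeCore 2 S = ⊥)
    (h8 : ∃ A : Subgroup S, IsMulCommutative ↥A ∧ ¬ IsCyclic ↥A ∧ Nat.card ↥A = 8)
    (hmin : ∀ R : Subgroup S, R ≠ ⊤ → (∃ k : ℕ, R.index = 2 ^ k) →
      ¬ ∃ A : Subgroup S, A ≤ R ∧ IsMulCommutative ↥A ∧ ¬ IsCyclic ↥A ∧ Nat.card ↥A = 8)
    (X : Sylow 2 S) :
    (X : Subgroup S).Normal ∧
      (IsMulCommutative ↥X ∨
        (Cfsg.IsExtraspecial 2 ↥X ∧ 32 ≤ Nat.card ↥X) ∨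
        (∃ (X₀ : Subgroup S) (k : ℕ), X₀ ≤ (X : Subgroup S) ∧ X₀.relIndex (X : Subgroup S) = 2 ∧
          Nonempty (↥X₀ ≃* QuaternionGroup (2 ^ (k + 1))) ∧ X₀ ⊔ ((X : Subgroup S) ⊓ Subgroup.centralizer (X₀ : Set S)) = (X : Subgroup S)) ∨
        (Cfsg.IsSpecial 2 ↥X ∧ Nat.card ↥(Subgroup.center ↥X) = 4)) := by
  classical
  haveI : Fact (Nat.Prime 2) := ⟨Nat.prime_two⟩
  obtain ⟨A, hA, hAc, hA8⟩ := h8
  set Q := Cfsg.pCore 2 S with hQ
  haveI hQn : Q.Normal := Cores.pCore_normal 2 S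
  have hQ2 : IsPGroup 2 Q := Cores.isPGroup_pCore 2 S
  have hCQ : Subgroup.centralizer (Q : Set S) ≤ Q := Solvable.centralizer_pCore_le_of_isSolvable hO
  obtain ⟨H, hH⟩ := Solvable.exists_piHall_of_solvable (G := S) ({2}ᶜ : Set ℕ)
  have hodd : Odd (Nat.card H) := by
    rw [← Nat.not_even_iff_odd, even_iff_two_dvd]
    exact fun h => hH.1 2 Nat.prime_two h rfl
  have hidx : ∀ R : Subgroup S, H ≤ R → ∃ k, R.index = 2 ^ k := by
    intro R hR
    refine exists_eq_two_pow Subgroup.index_ne_zero_of_finite fun r hr hrd => ?_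
    by_contra hne
    exact hH.2 r hr hne (hrd.trans (Subgroup.index_dvd_of_le hR))
  have hR8 : ∀ R : Subgroup S, R ≠ ⊤ → H ≤ R → NoEight R := fun R hR hHR => hmin R hR (hidx R hHR)
  have htop : ∀ R : Subgroup S, IsPGroup 2 R → H ≤ R → H = ⊥ := fun R hR hHR => by
    obtain ⟨k, hk⟩ := IsPGroup.iff_card.mp (hR.to_le hHR)
    rcases k.eq_zero_or_pos with rfl | hk0
    · exact Subgroup.card_eq_one.mp hk
    · exact absurd (hk ▸ dvd_pow_self 2 hk0.ne' : 2 ∣ Nat.card H)
        (fun h => hH.1 2 Nat.prime_two h rfl)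
  have htwo : H = ⊥ → IsPGroup 2 S := fun h => by
    obtain ⟨k, hk⟩ := hidx H le_rfl
    rw [h, Subgroup.index_bot] at hk
    exact IsPGroup.of_card hk
  set P : Subgroup S := (X : Subgroup S) with hP
  have hP2 : IsPGroup 2 P := X.2
  -- the Sylow subgroup is normal
  have hXn : P.Normal := by
    by_cases hQH : Q ⊔ H = ⊤
    · have h1 : Q.index ∣ Nat.card H := by
        rw [← Subgroup.relIndex_top_right, ← hQH, sup_comm, Subgroup.relIndex_sup_right]
        exact Subgroup.relIndex_dvd_card _ _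
      have hQP : Q ≤ P := Cores.pCore_le_sylow X
      obtain ⟨j, hj⟩ := IsPGroup.iff_card.mp hP2
      obtain ⟨i, -, hi⟩ := (Nat.dvd_prime_pow Nat.prime_two).mp
        (hj ▸ Subgroup.relIndex_dvd_card Q P : Q.relIndex P ∣ 2 ^ j)
      rcases i.eq_zero_or_pos with rfl | hi0
      · rw [le_antisymm (Subgroup.relIndex_eq_one.mp hi) hQP]
        exact hQn
      · exfalso
        exact hH.1 2 Nat.prime_two (((hi ▸ dvd_pow_self 2 hi0.ne' : 2 ∣ Q.relIndex P).trans
          (Subgroup.relIndex_dvd_index_of_normal Q P)).trans h1) rfl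
    · exfalso
      have hQ8 : NoEight Q := (hR8 _ hQH le_sup_right).mono le_sup_left
      have hQH' : ⁅Q, H⁆ ≠ ⊥ := by
        intro h
        have h1 : H ≤ Q := by
          refine le_trans ?_ hCQ
          rwa [← Subgroup.commutator_eq_bot_iff_le_centralizer, Subgroup.commutator_comm]
        have h2 : IsPGroup 2 S := htwo (htop Q hQ2 h1)
        refine hQH (eq_top_iff.mpr (le_trans ?_ le_sup_left))
        exact Cores.le_pCore inferInstance (h2.to_subgroup ⊤)
      obtain ⟨-, hT⟩ := four_or_quat _ Q rfl hQ2 hodd (by rw [Subgroup.normalizer_eq_top]; exact le_top)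
        hQ8 hQH'
      exact false_of_core hCQ hQ8 hT hA hAc hA8
  haveI := hXn
  refine ⟨hXn, ?_⟩
  have hPQ : P = Q := le_antisymm (Cores.le_pCore hXn hP2) (Cores.pCore_le_sylow X)
  have hCP : Subgroup.centralizer (P : Set S) ≤ P := hPQ.symm ▸ hCQ
  have hHN : H ≤ Subgroup.normalizer (P : Set S) := by rw [Subgroup.normalizer_eq_top]; exact le_top
  have hPH : P ⊔ H = ⊤ := by
    rw [← Subgroup.index_eq_one]
    obtain ⟨k, hk⟩ := hidx (P ⊔ H) le_sup_right
    rcases k.eq_zero_or_pos with rfl | hk0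
    · simpa using hk
    · exact absurd ((hk ▸ dvd_pow_self 2 hk0.ne' : 2 ∣ (P ⊔ H).index).trans
        (Subgroup.index_dvd_of_le le_sup_left)) X.not_dvd_index
  have hAP : A ≤ P := by
    obtain ⟨T, hT⟩ := (IsPGroup.of_card (n := 3) (by rw [hA8]; norm_num) : IsPGroup 2 A).exists_le_sylow
    letI := Sylow.unique_of_normal X hXn
    rwa [Subsingleton.elim T X] at hT
  have hcop := isPGroup_coprime hP2 hodd
  have hsub : SubNoEight P H := by
    intro Y hY hYne hYH
    refine (hR8 (Y ⊔ H) (fun h => hYne ?_) le_sup_right).mono le_sup_left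
    refine PGroup.eq_of_le_of_card_le hY (Nat.le_of_mul_le_mul_right ?_ (Nat.card_pos (α := H)))
    rw [← Coprime.card_sup_of_coprime hYH ((isPGroup_coprime (hP2.to_le hY) hodd).symm),
      ← Coprime.card_sup_of_coprime hHN hcop.symm, h, hPH]
  by_cases hPfix : ⁅P, H⁆ = ⊥
  · -- a 2-group
    left
    have h1 : H ≤ P := by
      refine le_trans ?_ hCP
      rwa [← Subgroup.commutator_eq_bot_iff_le_centralizer, Subgroup.commutator_comm]
    have hAt : A = ⊤ := by
      by_contra hne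
      obtain ⟨k, hk⟩ := hidx A (by rw [htop P hP2 h1]; exact bot_le)
      exact hmin A hne ⟨k, hk⟩ ⟨A, le_rfl, hA, hAc, hA8⟩
    refine ⟨⟨fun a b => Subtype.ext ?_⟩⟩
    have := congrArg Subtype.val (hA.is_comm.comm (⟨(a : S), hAt ▸ Subgroup.mem_top _⟩ : A)
      ⟨(b : S), hAt ▸ Subgroup.mem_top _⟩)
    simpa using this
  have hsolv : Group.IsSolvable H ∨ Group.IsSolvable P := Or.inr (Solvable.isSolvable_of_isPGroup hP2)
  have hIH : ∀ F : Subgroup S, F ≤ P → F ≠ P → H ≤ Subgroup.normalizer (F : Set S) → ⁅F, H⁆ ≠ ⊥ →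
      ⁅F, H⁆ = F ∧ (IsFour F ∨ ∃ z, IsQuat F z) := fun F hF hne hFH hF0 =>
    four_or_quat _ F rfl (hP2.to_le hF) hodd hFH (hsub F hF hne hFH) hF0
  by_cases hP₁ : ⁅P, H⁆ = P
  · by_cases hab : ∀ a ∈ P, ∀ b ∈ P, a * b = b * a
    · exact Or.inl ⟨⟨fun a b => Subtype.ext (hab a a.2 b b.2)⟩⟩
    rcases structure_of_commutator_eq hP2 hodd hHN hP₁ hsub hIH hab with hES | ⟨hsp, h4, -⟩
    · refine Or.inr (Or.inl ⟨hES, ?_⟩)
      obtain ⟨m, hm⟩ := PGroup.IsES.card_eq_odd_pow _ P (PGroup.isES_of_isExtraspecial hES) le_rfl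
      have h8P : 8 ≤ Nat.card P := hA8 ▸ Nat.le_of_dvd Nat.card_pos (Subgroup.card_dvd_of_le hAP)
      rcases Nat.lt_or_ge m 2 with h | h
      · exfalso
        interval_cases m
        · rw [hm] at h8P; norm_num at h8P
        · have hAe : A = P := PGroup.eq_of_le_of_card_le hAP (by rw [hA8, hm]; norm_num)
          exact hab fun a ha b hb => congrArg Subtype.val
            (hA.is_comm.comm ⟨a, hAe.ge ha⟩ ⟨b, hAe.ge hb⟩)
      · calc 32 = 2 ^ 5 := rfl
          _ ≤ 2 ^ (2 * m + 1) := Nat.pow_le_pow_right two_pos (by omega)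
          _ = _ := hm.symm
    · exact Or.inr (Or.inr (Or.inr ⟨hsp, h4⟩))
  -- a proper commutator
  set P₁ := ⁅P, H⁆ with hP₁def
  have hP₁le : P₁ ≤ P := Coprime.commutator_le_left' hHN
  have hP₁H : H ≤ Subgroup.normalizer (P₁ : Set S) := Subgroup.normalizer_commutator_ge_right P H
  have hP₁P : P ≤ Subgroup.normalizer (P₁ : Set S) := Subgroup.normalizer_commutator_ge_left P H
  have hP₁eq : ⁅P₁, H⁆ = P₁ := Coprime.commutator_commutator_eq hHN hcop hsolv
  obtain ⟨-, hT⟩ := hIH P₁ hP₁le hP₁ hP₁H (by rw [hP₁eq]; exact hPfix)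
  set C := P ⊓ Subgroup.centralizer (H : Set S) with hC
  have hcent := centralizes_of_commute hP2 hP₁le hP₁P hHN hT hP₁H hP₁eq (C := C) inf_le_left inf_le_right
  have hnle : ¬ C ≤ P₁ := fun h => hP₁ (by
    have h1 := Coprime.commutator_sup_centralizer hHN hcop hsolv
    rwa [sup_eq_left.mpr h] at h1)
  obtain ⟨c, hcC, hc1, hc2⟩ := exists_not_mem_sq_mem (hP2.to_le inf_le_left) hnle
  have hcomm : ∀ a ∈ P₁, c * a = a * c := fun a ha =>
    (commutatorElement_eq_one_iff_mul_comm.mp (Subgroup.mem_bot.mp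
      (hcent ▸ Subgroup.commutator_mem_commutator ha hcC))).symm
  set Y := P₁ ⊔ Subgroup.zpowers c with hY
  have hYP : Y ≤ P := sup_le hP₁le (Subgroup.zpowers_le.mpr hcC.1)
  have hzn : Subgroup.zpowers c ≤ Subgroup.normalizer (P₁ : Set S) :=
    (Subgroup.zpowers_le.mpr hcC.1).trans hP₁P
  have hYH : H ≤ Subgroup.normalizer (Y : Set S) := by
    rw [Subgroup.le_normalizer_iff]
    intro h hh y hy
    rcases sup_cases hzn hc2 hy with h' | ⟨f, hf, rfl⟩
    · exact le_sup_left (b := Subgroup.zpowers c) (Subgroup.le_normalizer_iff.mp hP₁H h hh y h')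
    · have hc' : h * c = c * h := Subgroup.mem_centralizer_iff.mp hcC.2 h hh
      rw [show h * (f * c) * h⁻¹ = (h * f * h⁻¹) * (h * c * h⁻¹) by group, hc', mul_inv_cancel_right]
      exact Subgroup.mul_mem_sup (Subgroup.le_normalizer_iff.mp hP₁H h hh f hf) (Subgroup.mem_zpowers c)
  have hYeq : Y = P := by
    by_contra hne
    obtain ⟨A', a1, a2, a3, a4⟩ := exists_eight_of_commute hT hc1 hc2 hcomm
    exact hsub Y hYP hne hYH ⟨A', a4 Y le_sup_left (le_sup_right (a := P₁) (Subgroup.mem_zpowers c)),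
      a1, a2, a3⟩
  rcases hT with hT | ⟨z, hT⟩
  · -- abelian
    left
    obtain ⟨B, -, hPB, hcB, hBc, -, -⟩ := exists_double P₁ hT.comm hc1 hcomm hc2
    have hle : P ≤ B := hYeq ▸ sup_le hPB (Subgroup.zpowers_le.mpr hcB)
    exact ⟨⟨fun a b => Subtype.ext (hBc a (hle a.2) b (hle b.2))⟩⟩
  · right; right; left
    refine ⟨P₁, 0, hP₁le, ?_, ?_, ?_⟩
    · show (P₁.subgroupOf P).index = 2
      rw [Subgroup.index_eq_two_iff]
      refine ⟨⟨c, hcC.1⟩, fun b => ?_⟩
      simp only [Subgroup.mem_subgroupOf, Subgroup.coe_mul]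
      rcases sup_cases hzn hc2 (show (b : S) ∈ Y from hYeq.symm ▸ b.2) with hb | ⟨f, hf, hb⟩
      · exact Or.inr ⟨hb, fun h => hc1 (by simpa using P₁.mul_mem (P₁.inv_mem hb) h)⟩
      · refine Or.inl ⟨?_, fun h => hc1 (by
          rw [hb] at h; simpa using P₁.mul_mem (P₁.inv_mem hf) h)⟩
        rw [hb, mul_assoc]
        exact P₁.mul_mem hf hc2
    · obtain ⟨i, hi, u, hu, hiu⟩ := hT.noncomm
      have hi1 : i ≠ 1 := fun h => hiu (by rw [h, one_mul, mul_one])
      have hiz : i ≠ z := fun h => hiu (by rw [h]; exact (hT.z_comm (Subgroup.le_normalizer hu)).symm)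
      have hui : u ∉ Subgroup.zpowers i := fun h => hiu (by
        obtain ⟨k, rfl⟩ := Subgroup.mem_zpowers_iff.mp h
        exact ((Commute.refl i).zpow_right k).eq)
      have hu1 : u ≠ 1 := fun h => hui (h ▸ Subgroup.one_mem _)
      have huz : u ≠ z := fun h => hui (by
        rw [h, ← hT.sq i hi hi1 hiz]
        exact Subgroup.mul_mem _ (Subgroup.mem_zpowers i) (Subgroup.mem_zpowers i))
      obtain ⟨e⟩ := PGroup.quaternionEquivOfGen (G := P₁) (N := 2) (a := ⟨i, hi⟩) (b := ⟨u, hu⟩)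
        (by rw [Subgroup.orderOf_mk, ← Nat.card_zpowers, hT.card_zpowers hi hi1 hiz])
        (Subtype.ext (by
          push_cast
          rw [pow_two, pow_two, hT.sq u hu hu1 huz, hT.sq i hi hi1 hiz]))
        (Subtype.ext (by
          push_cast
          rw [hT.anticomm hi hi1 hiz hu hui]
          refine eq_inv_of_mul_eq_one_left ?_
          rw [mul_assoc, ← hT.z_comm (Subgroup.le_normalizer hi), ← mul_assoc, hT.sq i hi hi1 hiz,
            hT.z_sq]))
        (fun h => hui (by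
          obtain ⟨k, hk⟩ := Subgroup.mem_zpowers_iff.mp h
          exact Subgroup.mem_zpowers_iff.mpr ⟨k, by simpa using congrArg Subtype.val hk⟩))
        (by rw [hT.card_eq])
      exact ⟨e.symm⟩
    · refine le_antisymm (sup_le hP₁le inf_le_left) ?_
      rw [← hYeq]
      refine sup_le le_sup_left (Subgroup.zpowers_le.mpr (le_sup_right (a := P₁) ?_))
      exact ⟨le_sup_right (a := P₁) (Subgroup.mem_zpowers c),
        Subgroup.mem_centralizer_iff.mpr fun a ha => (hcomm a ha).symm⟩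

end Cfsg.Agent.S4409
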