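import Cfsg.Statements.S4410
import Cfsg.Agent.Lib.Solvable.Fitting
import Cfsg.Agent.Lib.Cores.Fitting

set_option autoImplicit false
open Cfsg

namespace Cfsg.Agent.S4410

theorem zmod_two_cases : ∀ x : ZMod 2, x = 0 ∨ x = 1 := by decide

section Linear

variable {V : Type*} [AddCommGroup V] [Module (ZMod 2) V]

/-- `g - 1`. -/
def dl (g : V ≃ₗ[ZMod 2] V) : V →ₗ[ZMod 2] V := (g : V →ₗ[ZMod 2] V) - LinearMap.id

theorem dl_apply (g : V ≃ₗ[ZMod 2] V) (v : V) : dl g v = g v - v := by simp [dl]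

theorem mem_range_dl (g : V ≃ₗ[ZMod 2] V) (v : V) : g v - v ∈ LinearMap.range (dl g) :=
  ⟨v, dl_apply g v⟩

theorem range_dl_mul_le (a b : V ≃ₗ[ZMod 2] V) :
    LinearMap.range (dl (a * b)) ≤ LinearMap.range (dl a) ⊔ LinearMap.range (dl b) := by
  rintro _ ⟨v, rfl⟩
  rw [dl_apply, LinearEquiv.mul_apply, show a (b v) - v = (a (b v) - b v) + (b v - v) by abel]
  exact add_mem (Submodule.mem_sup_left (mem_range_dl a _)) (Submodule.mem_sup_right (mem_range_dl b v))

theorem range_dl_pow_le (g : V ≃ₗ[ZMod 2] V) (n : ℕ) :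
    LinearMap.range (dl (g ^ n)) ≤ LinearMap.range (dl g) := by
  induction n with
  | zero =>
    rintro _ ⟨v, rfl⟩
    rw [dl_apply, pow_zero, LinearEquiv.coe_one, id_eq, sub_self]
    exact zero_mem _
  | succ n ih =>
    rw [pow_succ]
    exact (range_dl_mul_le _ _).trans (sup_le ih le_rfl)

theorem range_dl_conj (a g : V ≃ₗ[ZMod 2] V) :
    LinearMap.range (dl (a * g * a⁻¹)) =
      (LinearMap.range (dl g)).map (a : V →ₗ[ZMod 2] V) := by
  ext x
  simp only [LinearMap.mem_range, Submodule.mem_map, dl_apply, LinearEquiv.mul_apply]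
  constructor
  · rintro ⟨v, rfl⟩
    refine ⟨_, ⟨(a⁻¹ : V ≃ₗ[ZMod 2] V) v, rfl⟩, ?_⟩
    have h : a ((a⁻¹ : V ≃ₗ[ZMod 2] V) v) = v := by
      rw [← LinearEquiv.mul_apply, mul_inv_cancel, LinearEquiv.coe_one, id_eq]
    show a (g _ - _) = _
    rw [map_sub, h]
  · rintro ⟨_, ⟨w, rfl⟩, rfl⟩
    refine ⟨a w, ?_⟩
    have h : (a⁻¹ : V ≃ₗ[ZMod 2] V) (a w) = w := by
      rw [← LinearEquiv.mul_apply, inv_mul_cancel, LinearEquiv.coe_one, id_eq]
    show _ = a (g w - w)
    rw [h, map_sub]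

theorem two_eq_zero (v : V) : v + v = 0 := by
  rw [← one_smul (ZMod 2) v, ← add_smul, show (1 : ZMod 2) + 1 = 0 from by decide, zero_smul]

theorem eq_of_sub_eq (u v : V) : u - v = u + v := by
  rw [sub_eq_iff_eq_add, add_assoc, two_eq_zero, add_zero]

/-- The stabilizer of a submodule. -/
def stab (U : Submodule (ZMod 2) V) : Subgroup (V ≃ₗ[ZMod 2] V) where
  carrier := {a | ∀ u, u ∈ U ↔ a u ∈ U}
  mul_mem' := fun {a b} ha hb u => (hb u).trans (ha (b u))
  one_mem' := fun u => Iff.rfl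
  inv_mem' := fun {a} ha u => by
    have h := ha ((a⁻¹ : V ≃ₗ[ZMod 2] V) u)
    rw [← LinearEquiv.mul_apply, mul_inv_cancel, LinearEquiv.coe_one, id_eq] at h
    exact h.symm

/-- The action of the stabilizer on the nonzero vectors. -/
def stabPerm (U : Submodule (ZMod 2) V) :
    stab U →* Equiv.Perm {u : V // u ∈ U ∧ u ≠ 0} where
  toFun a := (a : V ≃ₗ[ZMod 2] V).toEquiv.subtypeEquiv fun u =>
    and_congr (a.2 u) (not_congr ((a : V ≃ₗ[ZMod 2] V).map_eq_zero_iff.symm))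
  map_one' := by ext u; rfl
  map_mul' a b := by ext u; rfl

theorem mem_stab_of_range_le [Finite V] {U : Submodule (ZMod 2) V} {g : V ≃ₗ[ZMod 2] V}
    (h : LinearMap.range (dl g) ≤ U) : g ∈ stab U := by
  intro u
  have h1 : g u - u ∈ U := h (mem_range_dl g u)
  constructor
  · intro hu
    simpa using U.add_mem h1 hu
  · intro hu
    simpa using U.sub_mem hu h1

theorem natCard_nonzero [Finite V] {U : Submodule (ZMod 2) V} {d : ℕ}
    (h : Module.finrank (ZMod 2) U ≤ d) :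
    Nat.card (Equiv.Perm {u : V // u ∈ U ∧ u ≠ 0}) ∣ (2 ^ d - 1).factorial := by
  classical
  rw [Nat.card_perm]
  refine Nat.factorial_dvd_factorial ?_
  have h1 : Nat.card {u : V // u ∈ U ∧ u ≠ 0} < Nat.card U := by
    have := Fintype.ofFinite {u : V // u ∈ U ∧ u ≠ 0}
    have := Fintype.ofFinite U
    rw [Nat.card_eq_fintype_card, Nat.card_eq_fintype_card]
    refine Fintype.card_lt_of_injective_of_notMem (fun u => (⟨u.1, u.2.1⟩ : U))
      (fun a b e => Subtype.ext (congrArg (fun z : U => (z : V)) e)) (b := 0) ?_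
    rintro ⟨u, e⟩
    exact u.2.2 (congrArg Subtype.val e)
  have h2 : Nat.card U ≤ 2 ^ d := by
    rw [Module.natCard_eq_pow_finrank (K := ZMod 2), Nat.card_zmod]
    exact Nat.pow_le_pow_right (by norm_num) h
  omega

/-- An element of odd order moving only a subspace of dimension at most two. -/
theorem cube_eq_one [Finite V] {g : V ≃ₗ[ZMod 2] V} (hodd : ¬ 2 ∣ orderOf g)
    (h : Module.finrank (ZMod 2) (LinearMap.range (dl g)) ≤ 2) : g ^ 3 = 1 := by
  set W := LinearMap.range (dl g)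
  have hW : g ∈ stab W := mem_stab_of_range_le le_rfl
  have h6 : (stabPerm W ⟨g, hW⟩) ^ 6 = 1 := orderOf_dvd_iff_pow_eq_one.1
    ((orderOf_dvd_natCard _).trans ((natCard_nonzero h).trans (by decide)))
  have hfix : ∀ w ∈ W, (g ^ 6) w = w := by
    intro w hw
    rcases eq_or_ne w 0 with rfl | hw0
    · exact map_zero _
    rw [← map_pow] at h6
    exact congrArg Subtype.val (DFunLike.congr_fun h6 ⟨w, hw, hw0⟩)
  have h12 : g ^ 12 = 1 := by
    refine LinearEquiv.ext fun v => ?_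
    have hw : (g ^ 6) v - v ∈ W := range_dl_pow_le g 6 (mem_range_dl _ v)
    rw [show g ^ 12 = g ^ 6 * g ^ 6 by rw [← pow_add], LinearEquiv.mul_apply, LinearEquiv.coe_one,
      id_eq]
    have h2 := hfix _ hw
    rw [map_sub] at h2
    have h3 : (g ^ 6) ((g ^ 6) v) = ((g ^ 6) v - v) + (g ^ 6) v := sub_eq_iff_eq_add.1 h2
    rw [h3, eq_of_sub_eq, add_comm ((g ^ 6) v) v, add_assoc, two_eq_zero, add_zero]
  have hd := orderOf_dvd_of_pow_eq_one h12
  have hcop : (orderOf g).Coprime 4 := by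
    have := (Nat.prime_two.coprime_iff_not_dvd.2 hodd).symm.pow_right 2
    simpa using this
  exact orderOf_dvd_iff_pow_eq_one.1 (hcop.dvd_of_dvd_mul_right (show orderOf g ∣ 3 * 4 from hd))

theorem eq_zero_of_fixed {g : V ≃ₗ[ZMod 2] V} (h3 : g ^ 3 = 1) {w : V}
    (hw : w ∈ LinearMap.range (dl g)) (hfix : g w = w) : w = 0 := by
  obtain ⟨v, rfl⟩ := hw
  rw [dl_apply, map_sub] at hfix
  have h2 : g (g v) = v := by
    have h4 : g (g v) = g v - v + g v := sub_eq_iff_eq_add.1 hfix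
    rw [h4, eq_of_sub_eq, add_comm (g v) v, add_assoc, two_eq_zero, add_zero]
  have h5 : g (g (g v)) = v := by
    have := LinearEquiv.congr_fun h3 v
    simpa [pow_succ, LinearEquiv.mul_apply] using this
  rw [h2] at h5
  rw [dl_apply, h5, sub_self]

end Linear

open Cfsg.Agent in
theorem transvection_square_false {V : Type*} [AddCommGroup V] [Module (ZMod 2) V] [Finite V]
    (S : Subgroup (V ≃ₗ[ZMod 2] V)) (hS : Group.IsSolvable ↥S) (hO2 : Cfsg.pCore 2 ↥S = ⊥)
    (P : V ≃ₗ[ZMod 2] V) (hPS : P ∈ S) (hP4 : orderOf P = 4)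
    (hcub : (dl P) ^ 3 = 0)
    (hL : Module.finrank (ZMod 2) (LinearMap.range ((dl P) ^ 2)) ≤ 1) : False := by
  classical
  have := Fact.mk Nat.prime_two
  have : Finite (V ≃ₗ[ZMod 2] V) := Finite.of_injective (fun e => (e : V → V)) DFunLike.coe_injective
  set t := P * P with ht
  have ht1 : t ≠ 1 := fun e => by
    have h := orderOf_dvd_of_pow_eq_one (x := P) (n := 2) (by rw [sq]; exact e)
    rw [hP4] at h
    norm_num at h
  have htt : t * t = 1 := by
    rw [ht, show P * P * (P * P) = P ^ 4 by simp [pow_succ, mul_assoc], ← hP4, pow_orderOf_eq_one]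
  have htinv : t⁻¹ = t := inv_eq_of_mul_eq_one_right htt
  have hdt : dl t = (dl P) ^ 2 := by
    refine LinearMap.ext fun v => ?_
    rw [pow_two, Module.End.mul_apply, dl_apply, dl_apply, dl_apply, ht, LinearEquiv.mul_apply,
      map_sub, eq_of_sub_eq (P (P v) - P v), eq_of_sub_eq (P v) v, eq_of_sub_eq, eq_of_sub_eq,
      add_assoc, ← add_assoc (P v) (P v), two_eq_zero, zero_add]
  set L := LinearMap.range (dl t) with hLdef
  have hL1 : Module.finrank (ZMod 2) L ≤ 1 := by rw [hLdef, hdt]; exact hL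
  -- the Fitting subgroup has odd order and is not centralised by `t`
  set F := Cfsg.fittingSubgroup S
  have hFn : F.Normal := Cores.fittingSubgroup_normal _
  have hFnil : Group.IsNilpotent F := Cores.fittingSubgroup_isNilpotent
  have hFodd : ¬ 2 ∣ Nat.card F := by
    intro h2
    obtain ⟨Q⟩ := (inferInstance : Nonempty (Sylow 2 F))
    have : (Q : Subgroup F).Characteristic := Sylow.characteristic_of_normal Q inferInstance
    have h1 : (Q : Subgroup F).map F.subtype ≤ Cfsg.pCore 2 S :=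
      Cores.le_pCore inferInstance (Q.2.map _)
    rw [hO2, le_bot_iff, Subgroup.map_eq_bot_iff_of_injective _ F.subtype_injective] at h1
    refine Q.not_dvd_index ?_
    rw [h1, Subgroup.index_bot]
    exact h2
  have htS : t ∈ S := mul_mem hPS hPS
  have hord : ∀ a : S, a ∈ F → ¬ 2 ∣ orderOf (a : V ≃ₗ[ZMod 2] V) := fun a ha hd =>
    hFodd (hd.trans (by rw [Subgroup.orderOf_coe]; exact Subgroup.orderOf_dvd_natCard F ha))
  obtain ⟨f, hfF, hfg⟩ : ∃ f : S, f ∈ F ∧
      (f : V ≃ₗ[ZMod 2] V) * t * (f : V ≃ₗ[ZMod 2] V)⁻¹ * t⁻¹ ≠ 1 := by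
    by_contra hne
    push Not at hne
    have htF : (⟨t, htS⟩ : S) ∈ F := Solvable.centralizer_fitting_le S
      (Subgroup.mem_centralizer_iff.2 fun f hf => Subtype.ext (by
        have h1 := hne f hf
        rw [mul_inv_eq_one, mul_inv_eq_iff_eq_mul] at h1
        exact h1))
    refine hord _ htF ?_
    rw [show orderOf t = 2 from orderOf_eq_prime (by rw [sq]; exact htt) ht1]
  -- good elements of the Fitting subgroup
  let Good : S → Prop := fun a => a ∈ F ∧ (a : V ≃ₗ[ZMod 2] V) ≠ 1 ∧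
    t * (a : V ≃ₗ[ZMod 2] V) * t⁻¹ = (a : V ≃ₗ[ZMod 2] V)⁻¹ ∧
    Module.finrank (ZMod 2) (LinearMap.range (dl (a : V ≃ₗ[ZMod 2] V))) ≤ 2
  set g : S := f * ⟨t, htS⟩ * f⁻¹ * (⟨t, htS⟩ : S)⁻¹
  have hgval : (g : V ≃ₗ[ZMod 2] V) =
      (f : V ≃ₗ[ZMod 2] V) * t * (f : V ≃ₗ[ZMod 2] V)⁻¹ * t := by
    show (f : V ≃ₗ[ZMod 2] V) * t * (f : V ≃ₗ[ZMod 2] V)⁻¹ * t⁻¹ = _
    rw [htinv]
  have hg : Good g := by
    refine ⟨?_, hfg, ?_, ?_⟩
    · show f * ⟨t, htS⟩ * f⁻¹ * (⟨t, htS⟩ : S)⁻¹ ∈ F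
      rw [mul_assoc, mul_assoc, ← mul_assoc (⟨t, htS⟩ : S)]
      exact F.mul_mem hfF (hFn.conj_mem _ (F.inv_mem hfF) _)
    · rw [hgval, htinv]
      simp only [mul_inv_rev, inv_inv, htinv, mul_assoc, htt, mul_one]
    · rw [hgval]
      refine (Submodule.finrank_mono (range_dl_mul_le _ _)).trans ?_
      rw [range_dl_conj]
      refine (Submodule.finrank_add_le_finrank_add_finrank _ _).trans ?_
      have := Submodule.finrank_map_le (f : V ≃ₗ[ZMod 2] V).toLinearMap (LinearMap.range (dl t))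
      have h' : Module.finrank (ZMod 2) L ≤ 1 := hL1
      calc _ ≤ 1 + 1 := Nat.add_le_add (this.trans h') h'
        _ = 2 := rfl
  have hgood : ∀ a, Good a → (a : V ≃ₗ[ZMod 2] V) ^ 3 = 1 ∧
      (∃ w ∈ LinearMap.range (dl (a : V ≃ₗ[ZMod 2] V)), t w ≠ w) ∧
      L ≤ LinearMap.range (dl (a : V ≃ₗ[ZMod 2] V)) := by
    rintro a ⟨haF, ha1, hinv, hdim⟩
    set b := (a : V ≃ₗ[ZMod 2] V)
    set W := LinearMap.range (dl b)
    have h3 := cube_eq_one (hord a haF) hdim
    have htW : ∀ w ∈ W, t w ∈ W := by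
      rintro _ ⟨v, rfl⟩
      have h1 : t (b v) = (b⁻¹ : V ≃ₗ[ZMod 2] V) (t v) := by
        rw [← LinearEquiv.mul_apply, ← LinearEquiv.mul_apply, mul_inv_eq_iff_eq_mul.1 hinv]
      rw [dl_apply, map_sub, h1, show b⁻¹ = b ^ 2 from
        inv_eq_of_mul_eq_one_right (by rw [← pow_succ', h3])]
      exact range_dl_pow_le b 2 (mem_range_dl _ _)
    have hex : ∃ w ∈ W, t w ≠ w := by
      by_contra hne
      push Not at hne
      refine ha1 (LinearEquiv.ext fun v => ?_)
      have hw : b v - v ∈ W := mem_range_dl b v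
      set w := b v - v
      have hbw : b w ∈ W := (mem_stab_of_range_le le_rfl w).1 hw
      have h1 : (b⁻¹ : V ≃ₗ[ZMod 2] V) w = b w := by
        rw [← hinv, htinv, LinearEquiv.mul_apply, LinearEquiv.mul_apply, hne w hw, hne _ hbw]
      rw [show b⁻¹ = b ^ 2 from inv_eq_of_mul_eq_one_right (by rw [← pow_succ', h3]), pow_two,
        LinearEquiv.mul_apply] at h1
      have h0 := eq_zero_of_fixed h3 hw (b.injective h1)
      rw [LinearEquiv.coe_one, id_eq]
      exact sub_eq_zero.1 h0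
    refine ⟨h3, hex, ?_⟩
    obtain ⟨w, hw, hne⟩ := hex
    have hl : t w - w ∈ W := W.sub_mem (htW w hw) hw
    have h1 : L ⊓ W ≠ ⊥ := fun e => hne (sub_eq_zero.1
      ((Submodule.mem_bot (ZMod 2)).1 (e ▸ Submodule.mem_inf.2 ⟨mem_range_dl t w, hl⟩)))
    have h2 : 1 ≤ Module.finrank (ZMod 2) ↥(L ⊓ W) := Submodule.one_le_finrank_iff.2 h1
    exact inf_eq_left.1 (Submodule.eq_of_le_of_finrank_le inf_le_left (hL1.trans h2))
  have hkey : ∀ a b, Good a → Good b →
      LinearMap.range (dl (a : V ≃ₗ[ZMod 2] V)) ≤ LinearMap.range (dl (b : V ≃ₗ[ZMod 2] V)) := by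
    intro a b ha hb
    obtain ⟨ha3, ⟨w1, hw1, hw1'⟩, haL⟩ := hgood a ha
    obtain ⟨hb3, -, hbL⟩ := hgood b hb
    set A := (a : V ≃ₗ[ZMod 2] V)
    set B := (b : V ≃ₗ[ZMod 2] V)
    set Wa := LinearMap.range (dl A)
    set Wb := LinearMap.range (dl B)
    by_contra hle
    set l := t w1 - w1
    have hl0 : l ≠ 0 := sub_ne_zero.2 hw1'
    have hla : l ∈ Wa := haL (mem_range_dl t w1)
    have hlb : l ∈ Wb := hbL (mem_range_dl t w1)
    have hi1 : Module.finrank (ZMod 2) ↥(Wa ⊓ Wb) ≤ 1 := by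
      by_contra h2
      push Not at h2
      exact hle (inf_eq_left.1 (Submodule.eq_of_le_of_finrank_le inf_le_left (ha.2.2.2.trans h2)))
    have hi : Module.finrank (ZMod 2) ↥(Wa ⊓ Wb) = 1 := le_antisymm hi1
      (Submodule.one_le_finrank_iff.2 fun e => hl0
        ((Submodule.mem_bot (ZMod 2)).1 (e ▸ Submodule.mem_inf.2 ⟨hla, hlb⟩)))
    set U := Wa ⊔ Wb
    have hU : Module.finrank (ZMod 2) U ≤ 3 := by
      have h1 := Submodule.finrank_sup_add_finrank_inf_eq Wa Wb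
      have h2 : Module.finrank (ZMod 2) Wa ≤ 2 := ha.2.2.2
      have h3 : Module.finrank (ZMod 2) Wb ≤ 2 := hb.2.2.2
      rw [hi] at h1
      show Module.finrank (ZMod 2) ↥(Wa ⊔ Wb) ≤ 3
      omega
    have hAU : A ∈ stab U := mem_stab_of_range_le le_sup_left
    have hBU : B ∈ stab U := mem_stab_of_range_le le_sup_right
    -- the three-group generated by `a` and `b`
    have := Fact.mk Nat.prime_three
    obtain ⟨Q⟩ := (inferInstance : Nonempty (Sylow 3 F))
    have hmemQ : ∀ c : S, (c : V ≃ₗ[ZMod 2] V) ^ 3 = 1 → ∀ hc : c ∈ F,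
        (⟨c, hc⟩ : F) ∈ (Q : Subgroup F) := by
      intro c hc3 hc
      have hz : IsPGroup 3 (Subgroup.zpowers (⟨c, hc⟩ : F)) := by
        intro z
        obtain ⟨i, hi⟩ := Subgroup.mem_zpowers_iff.1 z.2
        refine ⟨1, Subtype.ext ?_⟩
        have h0 : (⟨c, hc⟩ : F) ^ 3 = 1 := Subtype.ext (Subtype.ext hc3)
        rw [pow_one, SubmonoidClass.coe_pow, ← hi, ← zpow_natCast, ← zpow_mul, mul_comm, zpow_mul,
          zpow_natCast, h0, one_zpow, OneMemClass.coe_one]
      obtain ⟨R, hR⟩ := hz.exists_le_sylow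
      obtain ⟨e, rfl⟩ := MulAction.exists_smul_eq F Q R
      rw [Sylow.smul_eq_of_normal] at hR
      exact hR (Subgroup.mem_zpowers _)
    let ψ : (Q : Subgroup F) →* (V ≃ₗ[ZMod 2] V) :=
      S.subtype.comp (F.subtype.comp (Q : Subgroup F).subtype)
    let φ : (stab U).comap ψ →* Equiv.Perm {u : V // u ∈ U ∧ u ≠ 0} :=
      (stabPerm U).comp ((ψ.comp ((stab U).comap ψ).subtype).codRestrict (stab U) fun x => x.2)
    obtain ⟨i, hi3⟩ := IsPGroup.iff_card.1 ((Q.2.to_subgroup ((stab U).comap ψ)).of_surjective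
      φ.rangeRestrict φ.rangeRestrict_surjective)
    have hi2 : i ≤ 2 := by
      have h1 : 3 ^ i ∣ (2 ^ 3 - 1).factorial :=
        hi3 ▸ (Subgroup.card_subgroup_dvd_card _).trans (natCard_nonzero hU)
      by_contra hlt
      have h2 : 3 ^ 3 ∣ (2 ^ 3 - 1).factorial := (pow_dvd_pow 3 (not_le.1 hlt)).trans h1
      norm_num [Nat.factorial] at h2
    have hcomm : ∀ x y : φ.range, x * y = y * x := by
      interval_cases i
      · intro x y
        have := (Nat.card_eq_one_iff_unique.1 hi3).1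
        exact Subsingleton.elim _ _
      · have : IsCyclic φ.range := isCyclic_of_prime_card (p := 3) (by simpa using hi3)
        let _ : CommGroup φ.range := IsCyclic.commGroup
        exact mul_comm
      · exact IsPGroup.commutative_of_card_eq_prime_sq hi3
    have hqa : (⟨⟨a, ha.1⟩, hmemQ a ha3 ha.1⟩ : (Q : Subgroup F)) ∈ (stab U).comap ψ := hAU
    have hqb : (⟨⟨b, hb.1⟩, hmemQ b hb3 hb.1⟩ : (Q : Subgroup F)) ∈ (stab U).comap ψ := hBU
    have hAB : ∀ u ∈ U, A (B u) = B (A u) := by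
      intro u hu
      rcases eq_or_ne u 0 with rfl | hu0
      · simp
      have h := congrArg (fun z : φ.range => ((z : Equiv.Perm {u : V // u ∈ U ∧ u ≠ 0}) ⟨u, hu, hu0⟩ : V))
        (hcomm ⟨_, ⟨⟨_, hqa⟩, rfl⟩⟩ ⟨_, ⟨⟨_, hqb⟩, rfl⟩⟩)
      exact h
    -- `B` stabilises `Wa`, hence fixes the line `Wa ⊓ Wb`
    have hBW : ∀ w ∈ Wa, B w ∈ Wa := by
      intro w hw
      have hinj : Function.Injective ((dl A).restrict (p := Wa) (q := Wa)
          fun v _ => LinearMap.mem_range_self _ v) := by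
        rw [← LinearMap.ker_eq_bot, LinearMap.ker_eq_bot']
        intro v hv
        refine Subtype.ext (eq_zero_of_fixed ha3 v.2 ?_)
        have := congrArg Subtype.val hv
        rw [LinearMap.coe_restrict_apply, dl_apply] at this
        exact sub_eq_zero.1 this
      obtain ⟨w0, hw0⟩ := Finite.surjective_of_injective hinj ⟨w, hw⟩
      have h1 : A (w0 : V) - w0 = w := by
        have := congrArg Subtype.val hw0
        rwa [LinearMap.coe_restrict_apply, dl_apply] at this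
      rw [← h1, map_sub, ← hAB w0 (Submodule.mem_sup_left w0.2)]
      exact mem_range_dl A _
    have hBl : B l ∈ Wa ⊓ Wb :=
      Submodule.mem_inf.2 ⟨hBW l hla, (mem_stab_of_range_le le_rfl l).1 hlb⟩
    obtain ⟨z, hz⟩ := finrank_le_one_iff.1 hi.le
    obtain ⟨c, hc⟩ := hz ⟨l, hla, hlb⟩
    obtain ⟨d, hd⟩ := hz ⟨B l, hBl⟩
    have hc' : c = 1 := by
      rcases zmod_two_cases c with rfl | rfl
      · exact absurd (congrArg Subtype.val hc).symm (by simpa using hl0)
      · rfl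
    have hd' : d = 1 := by
      rcases zmod_two_cases d with rfl | rfl
      · refine absurd (congrArg Subtype.val hd).symm ?_
        simpa using hl0
      · rfl
    subst hc' hd'
    exact hl0 (eq_zero_of_fixed hb3 hlb (congrArg Subtype.val (hd.symm.trans hc)))
  -- `P` normalises the plane, on which `(P - 1) ^ 2` vanishes
  set g2 : S := ⟨P, hPS⟩ * g * (⟨P, hPS⟩ : S)⁻¹
  have hg2val : (g2 : V ≃ₗ[ZMod 2] V) = P * (g : V ≃ₗ[ZMod 2] V) * P⁻¹ := rfl
  have hg2 : Good g2 := by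
    refine ⟨hFn.conj_mem _ hg.1 _, fun e => hg.2.1 (conj_eq_one_iff.1 (hg2val ▸ e)), ?_, ?_⟩
    · have hc : t * P = P * t := by rw [ht, mul_assoc]
      have hc' : P⁻¹ * t⁻¹ = t⁻¹ * P⁻¹ := by rw [← mul_inv_rev, ← mul_inv_rev, hc]
      rw [hg2val, show t * (P * (g : V ≃ₗ[ZMod 2] V) * P⁻¹) * t⁻¹ =
          t * P * (g : V ≃ₗ[ZMod 2] V) * (P⁻¹ * t⁻¹) by simp [mul_assoc], hc, hc',
        show P * t * (g : V ≃ₗ[ZMod 2] V) * (t⁻¹ * P⁻¹) =
          P * (t * (g : V ≃ₗ[ZMod 2] V) * t⁻¹) * P⁻¹ by simp [mul_assoc], hg.2.2.1,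
        conj_inv]
    · rw [hg2val, range_dl_conj]
      exact (Submodule.finrank_map_le _ _).trans hg.2.2.2
  obtain ⟨-, ⟨w, hw, hwne⟩, -⟩ := hgood g hg
  set W := LinearMap.range (dl (g : V ≃ₗ[ZMod 2] V))
  have hPW : ∀ x ∈ W, dl P x ∈ W := by
    intro x hx
    have h1 : P x ∈ LinearMap.range (dl (g2 : V ≃ₗ[ZMod 2] V)) := by
      rw [hg2val, range_dl_conj]; exact Submodule.mem_map_of_mem hx
    rw [dl_apply]
    exact W.sub_mem (hkey g2 g hg2 hg h1) hx
  set N := dl P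
  have hN3 : ∀ x, N (N (N x)) = 0 := fun x => by
    have := LinearMap.congr_fun hcub x
    simpa [pow_succ] using this
  have hlt : ∀ X : Submodule (ZMod 2) V, (∀ x ∈ X, N x ∈ X) → X ≠ ⊥ →
      Module.finrank (ZMod 2) ↥(X.map N) < Module.finrank (ZMod 2) X := by
    intro X hX hX0
    refine Submodule.finrank_lt_finrank_of_lt (lt_of_le_of_ne (by rintro _ ⟨x, hx, rfl⟩; exact hX x hx)
      fun e => hX0 ((Submodule.eq_bot_iff X).2 fun x hx => ?_))
    rw [← e] at hx
    obtain ⟨y, hy, rfl⟩ := hx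
    rw [← e] at hy
    obtain ⟨z, hz, rfl⟩ := hy
    rw [← e] at hz
    obtain ⟨u, -, rfl⟩ := hz
    exact hN3 u
  have hW0 : W ≠ ⊥ := fun e => hwne (by rw [(Submodule.eq_bot_iff W).1 e w hw, map_zero])
  have h1 := hlt W hPW hW0
  have h2 : (W.map N).map N = ⊥ := by
    by_contra hne
    have hne' : W.map N ≠ ⊥ := fun e => hne (by rw [e, Submodule.map_bot])
    have h2 := hlt (W.map N) (by rintro _ ⟨x, hx, rfl⟩; exact ⟨N x, hPW x hx, rfl⟩) hne'
    have h3 : Module.finrank (ZMod 2) W ≤ 2 := hg.2.2.2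
    have h4 : 1 ≤ Module.finrank (ZMod 2) ↥((W.map N).map N) := Submodule.one_le_finrank_iff.2 hne
    omega
  refine hwne (sub_eq_zero.1 ?_)
  rw [← dl_apply, hdt, pow_two, Module.End.mul_apply]
  exact (Submodule.eq_bot_iff _).1 h2 _ ⟨_, ⟨w, hw, rfl⟩, rfl⟩

/-- Let V be a finite-dimensional vector space over the field with two elements and S a solvable group of linear automorphisms of V with O₂(S) = 1. If P ∈ S has order 4 and (P − 1)³ = 0 on V, then the image of (P − 1)² has at least 4 elements; equivalently, in the decomposition of V into indecomposable modules for the cyclic group generated by P, at least two summands have dimension 3. -/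
theorem result
    {V : Type*} [AddCommGroup V] [Module (ZMod 2) V] [Finite V]
    (S : Subgroup (V ≃ₗ[ZMod 2] V)) (hS : Group.IsSolvable ↥S) (hO2 : Cfsg.pCore 2 ↥S = ⊥)
    (P : V ≃ₗ[ZMod 2] V) (hPS : P ∈ S) (hP4 : orderOf P = 4)
    (hcub : ((P : V →ₗ[ZMod 2] V) - LinearMap.id) ^ 3 = 0) :
    4 ≤ Nat.card ↥(LinearMap.range (((P : V →ₗ[ZMod 2] V) - LinearMap.id) ^ 2)) := by
  by_contra hlt
  refine transvection_square_false S hS hO2 P hPS hP4 hcub ?_
  by_contra h2
  push Not at h2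
  refine hlt ?_
  rw [Module.natCard_eq_pow_finrank (K := ZMod 2), Nat.card_zmod]
  exact (show 4 = 2 ^ 2 from rfl).le.trans (Nat.pow_le_pow_right (by norm_num) h2)

end Cfsg.Agent.S4410
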