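import Cfsg.Statements.S4411
import Cfsg.Agent.Lib.PQAutomizer.Hall
import Cfsg.Agent.Lib.PQAutomizer.Key
import Cfsg.Agent.Lib.PLocal.Quotient
import Cfsg.Agent.Lib.Coprime.PQ
-- import your own Cfsg.Agent.* helpers here

set_option autoImplicit false
open Cfsg

namespace Cfsg.Agent.S4411

open Subgroup

/-- The relative index in a smaller group divides the index in the normalizer. -/
theorem relIndex_dvd_automizer {G : Type*} [Group G] {K M : Subgroup G}
    (hM : M ≤ normalizer (K : Set G)) :
    (centralizer (K : Set G)).relIndex M ∣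
      ((centralizer (K : Set G)).subgroupOf (normalizer (K : Set G))).index := by
  have : ((centralizer (K : Set G)).subgroupOf (normalizer (K : Set G))).Normal :=
    normal_subgroupOf_of_le_normalizer (PLocal.normalizer_le_normalizer_centralizer K)
  have h := relIndex_subgroupOf (H := centralizer (K : Set G)) hM
  rw [← h]
  exact relIndex_dvd_index_of_normal _ _

/-- A group with a normal series `1 ≤ A ≤ B` of type `p`, `p'` and a `p`-separable quotient is `p`-separable. -/
theorem isPiSeparable_extension {N : Type*} [Group N] [Finite N] {p : ℕ} [Fact p.Prime]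
    {A B : Subgroup N} [A.Normal] [B.Normal] (hA : IsPGroup p A) (hAB : ¬ p ∣ A.relIndex B)
    (hQ : Solvable.IsPiSeparable {p} (N ⧸ B)) : Solvable.IsPiSeparable {p} N := by
  intro N0 hN0 hne
  by_cases hAN : A ≤ N0
  · by_cases hBN : B ≤ N0
    · set f := QuotientGroup.mk' B
      have hk : f.ker ≤ N0 := by rw [QuotientGroup.ker_mk']; exact hBN
      obtain ⟨M, hM, hlt, hidx⟩ := hQ (N0.map f) (hN0.map f (QuotientGroup.mk'_surjective B))
        (fun he => hne (by rw [← comap_map_eq_self hk, he, comap_top]))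
      refine ⟨M.comap f, hM.comap f, ?_, ?_⟩
      · refine lt_of_le_of_ne (map_le_iff_le_comap.1 hlt.le) fun he => hlt.ne ?_
        rw [he, map_comap_eq_self_of_surjective (QuotientGroup.mk'_surjective B)]
      · rw [← comap_map_eq_self hk, relIndex_comap,
          map_comap_eq_self_of_surjective (QuotientGroup.mk'_surjective B)]
        exact hidx
    · refine ⟨N0 ⊔ B, Subgroup.sup_normal _ _,
        lt_of_le_of_ne le_sup_left fun he => hBN (le_sup_right.trans he.ge), Or.inr ?_⟩
      rw [relIndex_sup_left]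
      intro r hr hd hrp
      obtain rfl : r = p := hrp
      exact hAB (hd.trans (relIndex_dvd_of_le_left B hAN))
  · refine ⟨N0 ⊔ A, Subgroup.sup_normal _ _,
      lt_of_le_of_ne le_sup_left fun he => hAN (le_sup_right.trans he.ge), Or.inl ?_⟩
    rw [relIndex_sup_left]
    exact (Solvable.isPiNum_of_isPGroup hA (Set.mem_singleton p)).of_dvd (relIndex_dvd_card _ _)

/-- In characteristic `p` a `q`-element does not centralise a centric subgroup of a Sylow subgroup. -/
theorem not_dvd_card_centralizer {X P : Type*} [Group X] [Finite X] [Group P] {p q : ℕ}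
    [hp : Fact p.Prime] [hq : Fact q.Prime] (hpq : p ≠ q) (hsep : Solvable.IsPiSeparable {p} X)
    (hO : Cfsg.pPrimeCore p X = ⊥) {e : P →* X} (hP : IsPGroup p P) (hidx : ¬ p ∣ e.range.index)
    {K : Subgroup P} (hK : centralizer (K : Set P) ≤ K) (he : Function.Injective e) :
    ¬ q ∣ Nat.card (centralizer (K.map e : Set X)) := by
  intro hd
  obtain ⟨⟨x, hx⟩, hxo⟩ := exists_prime_orderOf_dvd_card' q hd
  rw [Subgroup.orderOf_mk] at hxo
  have hTp : IsPGroup p e.range := hP.of_surjective e.rangeRestrict e.rangeRestrict_surjective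
  have hRT : Cfsg.pCore p X ≤ e.range := PReduced.pCore_le_sylow (hTp.toSylow hidx)
  have hQc : zpowers x ≤ centralizer (K.map e : Set X) := zpowers_le.2 hx
  have h := Coprime.thompson_pq p (P := K.map e) (Q := zpowers x) (U := Cfsg.pCore p X)
    ((hP.to_subgroup K).map e)
    (by rw [Nat.card_zpowers, hxo]; exact (Nat.coprime_primes hq.out hp.out).2 hpq.symm)
    (PReduced.isPGroup_pCore p) (le_centralizer_iff.1 hQc)
    le_normalizer_of_normal le_normalizer_of_normal (fun r hr => by
      obtain ⟨y, rfl⟩ := hRT hr.1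
      refine le_centralizer_iff.1 hQc ⟨y, hK (mem_centralizer_iff.2 fun k hk => he ?_), rfl⟩
      rw [map_mul, map_mul]
      exact mem_centralizer_iff.1 hr.2 _ (mem_map_of_mem e hk))
  have hxR := Solvable.centralizer_pCore_le hsep hO (h (mem_zpowers x))
  obtain ⟨k, hk⟩ := IsPGroup.iff_card.1 (PReduced.isPGroup_pCore (G := X) p)
  have hdvd : q ∣ p ^ k := hk ▸ hxo ▸ (Subgroup.orderOf_mk _ hxR ▸ orderOf_dvd_natCard _)
  exact hpq.symm ((Nat.prime_dvd_prime_iff_eq hq.out hp.out).1 (hq.out.dvd_of_dvd_pow hdvd))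


/-- Let p and q be distinct primes with {p, q} ≠ {2, 3}, and let G be a finite group such that for every p-subgroup H of G the automizer N_G(H)/C_G(H) is p-solvable. If q divides the order of N_G(H)/C_G(H) for some p-subgroup H, then a Sylow p-subgroup of G has a normal subgroup K (normal in the Sylow subgroup) such that q divides the order of N_G(K)/C_G(K). -/
theorem result {G : Type*} [Group G] [Finite G]
    (p q : ℕ) [Fact p.Prime] [Fact q.Prime] (hpq : p ≠ q) (h23 : ¬ ((p = 2 ∧ q = 3) ∨ (p = 3 ∧ q = 2)))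
    (hsol : ∀ H : Subgroup G, IsPGroup p ↥H →
      Cfsg.IsPSolvable p (↥(Subgroup.normalizer (H : Set G)) ⧸ (Subgroup.centralizer (H : Set G)).subgroupOf (Subgroup.normalizer (H : Set G))))
    (H : Subgroup G) (hH : IsPGroup p ↥H)
    (hq : q ∣ ((Subgroup.centralizer (H : Set G)).subgroupOf (Subgroup.normalizer (H : Set G))).index)
    (Gp : Sylow p G) :
    ∃ K : Subgroup G, K ≤ (Gp : Subgroup G) ∧ (Gp : Subgroup G) ≤ Subgroup.normalizer (K : Set G) ∧
      q ∣ ((Subgroup.centralizer (K : Set G)).subgroupOf (Subgroup.normalizer (K : Set G))).index := by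
  classical
  -- a maximal choice
  let f : Subgroup G → ℕ := fun H =>
    (Nat.card (normalizer (H : Set G))).factorization p * (Nat.card G + 1) + Nat.card H
  obtain ⟨H, ⟨hH, hq⟩, hmax⟩ := Set.exists_max_image
    {K : Subgroup G | IsPGroup p K ∧
      q ∣ ((centralizer (K : Set G)).subgroupOf (normalizer (K : Set G))).index} f
    (Set.toFinite _) ⟨H, hH, hq⟩
  set N := normalizer (H : Set G) with hN
  set Cn := (centralizer (H : Set G)).subgroupOf N with hCn
  have hCnN : Cn.Normal := normal_subgroupOf_of_le_normalizer (PLocal.normalizer_le_normalizer_centralizer H)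
  let T : Sylow p N := default
  set T' := (T : Subgroup N).map N.subtype with hT'
  have hT'N : T' ≤ N := map_subtype_le _
  have hT'p : IsPGroup p T' := T.isPGroup'.map _
  have hHN : (H.subgroupOf N).Normal := normal_subgroupOf_of_le_normalizer le_rfl
  have hHNp : IsPGroup p (H.subgroupOf N) := hH.comap_subtype
  have hHT : H ≤ T' := by
    obtain ⟨S, hS⟩ := hHNp.exists_le_sylow
    obtain ⟨g, hg⟩ := MulAction.exists_smul_eq N S T
    have h1 : H.subgroupOf N ≤ T := by
      rw [← hg, Sylow.coe_subgroup_smul, ← Solvable.conj_normal g (H.subgroupOf N)]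
      exact Solvable.conj_mono g hS
    rw [hT', ← map_subgroupOf_eq_of_le (le_normalizer : H ≤ N)]
    exact map_mono h1
  have hcardT : Nat.card T' = p ^ (Nat.card N).factorization p := by
    rw [hT', card_map_of_injective N.subtype_injective]
    exact T.card_eq_multiplicity
  let P : Sylow p Cn := (T.isPGroup'.comap_subtype (K := Cn)).toSylow fun hd =>
    T.not_dvd_index (hd.trans (Cores.relIndex_dvd_index_of_normal_right _ Cn))
  have hP : (P : Subgroup Cn).map Cn.subtype = (T : Subgroup N) ⊓ Cn := subgroupOf_map_subtype _ _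
  set C0 := ((T : Subgroup N) ⊓ Cn).map N.subtype with hC0
  set Mn := normalizer (((T : Subgroup N) ⊓ Cn : Subgroup N) : Set N) with hMn
  have hTMn : (T : Subgroup N) ≤ Mn := fun t ht => by
    refine Coprime.mem_normalizer_of_forall fun z hz => ⟨?_, hCnN.conj_mem z hz.2 t⟩
    exact (T : Subgroup N).mul_mem ((T : Subgroup N).mul_mem ht hz.1) ((T : Subgroup N).inv_mem ht)
  have hfr : Mn ⊔ Cn = ⊤ := by rw [hMn, ← hP]; exact Sylow.normalizer_sup_eq_top P
  set M := Mn.map N.subtype with hM
  have hMH' : M ≤ normalizer ((H ⊔ C0 : Subgroup G) : Set G) := by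
    refine le_trans ?_ (normalizer_inf_normalizer_le_normalizer_sup H C0)
    exact le_inf (map_subtype_le _) (le_normalizer_map _)
  have hrel : (centralizer (H : Set G)).relIndex M = Cn.index := by
    rw [hM, ← relIndex_comap, ← relIndex_top_right, ← hfr, relIndex_sup_right]
    rfl
  have hq' : q ∣ ((centralizer ((H ⊔ C0 : Subgroup G) : Set G)).subgroupOf
      (normalizer ((H ⊔ C0 : Subgroup G) : Set G))).index :=
    ((hrel ▸ hq).trans (relIndex_dvd_of_le_left M
      (centralizer_le (SetLike.coe_subset_coe.2 le_sup_left)))).trans (relIndex_dvd_automizer hMH')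
  have hC0T : C0 ≤ T' := map_mono inf_le_left
  have hH'p : IsPGroup p (H ⊔ C0 : Subgroup G) := hT'p.to_le (sup_le hHT hC0T)
  have hT'H' : T' ≤ normalizer ((H ⊔ C0 : Subgroup G) : Set G) := (map_mono hTMn).trans hMH'
  have hle : (Nat.card N).factorization p ≤
      (Nat.card (normalizer ((H ⊔ C0 : Subgroup G) : Set G))).factorization p :=
    ((Fact.out : p.Prime).pow_dvd_iff_le_factorization Nat.card_pos.ne').1
      (hcardT ▸ card_dvd_of_le hT'H')
  have hC0H : C0 ≤ H := by
    have h1 := hmax _ ⟨hH'p, hq'⟩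
    have h2 : Nat.card H ≤ Nat.card (H ⊔ C0 : Subgroup G) := card_le_of_le le_sup_left
    have h3 : Nat.card (H ⊔ C0 : Subgroup G) ≤ Nat.card H := by
      have h4 := Nat.mul_le_mul_right (Nat.card G + 1) hle
      simp only [f] at h1
      rw [← hN] at h1
      omega
    exact le_sup_right.trans (eq_of_le_of_card_ge le_sup_left h3).ge
  -- the group `N` is `p`-separable
  set A := (T : Subgroup N) ⊓ Cn with hA
  have hAeq : A = H.subgroupOf N ⊓ Cn := by
    refine le_antisymm (le_inf (fun z hz => hC0H ⟨z, hz, rfl⟩) inf_le_right) (inf_le_inf_right _ ?_)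
    intro z hz
    obtain ⟨t, ht, htz⟩ := hHT (mem_subgroupOf.1 hz)
    rwa [← Subtype.ext htz]
  have hAn : A.Normal := hAeq ▸ inferInstance
  have hsep : Solvable.IsPiSeparable {p} N := by
    refine isPiSeparable_extension (A := A) (B := Cn) (T.isPGroup'.to_le inf_le_left) ?_
      (Solvable.isPiSeparable_of_isPSolvable (hsol H hH))
    rw [hA, inf_relIndex_right]
    exact P.not_dvd_index
  -- a `{p,q}`-subgroup
  obtain ⟨X, hX, hTX⟩ := PQAutomizer.exists_hall_pair_ge hpq hsep T
  rw [Solvable.isPiHall_iff] at hX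
  have hsepX := hsep.subgroup X
  let O := Cfsg.pPrimeCore p X
  let π := QuotientGroup.mk' O
  have hker : (Nat.card π.ker).Coprime p := by
    rw [QuotientGroup.ker_mk']; exact Cores.coprime_card_pPrimeCore p
  have hOC : O ≤ Cn.subgroupOf X := by
    intro o ho
    have : ((H.subgroupOf N).subgroupOf X).Normal := inferInstance
    have hd : Disjoint O ((H.subgroupOf N).subgroupOf X) := by
      refine disjoint_iff.2 (inf_eq_bot_of_coprime ?_)
      obtain ⟨k, hk⟩ := IsPGroup.iff_card.1 ((hHNp.comap_subtype (K := X)))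
      rw [show Nat.card ((H.subgroupOf N).subgroupOf X) = p ^ k from hk]
      exact (Cores.coprime_card_pPrimeCore p).pow_right k
    refine mem_subgroupOf.2 (mem_subgroupOf.2 (mem_centralizer_iff.2 fun h hh => ?_))
    have hhX : (⟨h, le_normalizer hh⟩ : N) ∈ X := hTX (by
      obtain ⟨t, ht, htz⟩ := hHT hh
      rwa [show (⟨h, le_normalizer hh⟩ : N) = t from Subtype.ext htz.symm])
    exact (congrArg (fun z : X => ((z : N) : G)) (commute_of_normal_of_disjoint _ _
      (Cores.pPrimeCore_normal p X) this hd o ⟨_, hhX⟩ ho hh).eq).symm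
  have hqX : q ∣ Nat.card (X ⧸ O) := by
    have h1 : q ∣ (Cn.subgroupOf X).index * X.index := by
      rw [← index_map_subtype, subgroupOf_map_subtype]
      exact hq.trans (index_dvd_of_le inf_le_left)
    have h2 := ((Fact.out : q.Prime).dvd_mul.1 h1).resolve_right
      fun h => hX.2 q Fact.out h (Or.inr rfl)
    rw [← index_eq_card]
    exact h2.trans (index_dvd_of_le hOC)
  -- the key lemma in `X / O`
  have hmem : ∀ t : T', (⟨t, hT'N t.2⟩ : N) ∈ (T : Subgroup N) := fun t => by
    obtain ⟨s, hs, hst⟩ := t.2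
    rwa [show (⟨t, hT'N t.2⟩ : N) = s from Subtype.ext hst.symm]
  let e1 : T' →* X := (inclusion hT'N).codRestrict X fun t => hTX (hmem t)
  have he1 : Function.Injective e1 := fun a b h =>
    inclusion_injective hT'N (congrArg Subtype.val h)
  have he1r : e1.range = (T : Subgroup N).subgroupOf X := by
    ext x
    refine ⟨?_, fun hx => ⟨⟨((x : N) : G), mem_map_of_mem _ hx⟩, Subtype.ext (Subtype.ext rfl)⟩⟩
    rintro ⟨t, rfl⟩
    exact hmem t
  have hR1 : IsPGroup p e1.range := hT'p.of_surjective e1.rangeRestrict e1.rangeRestrict_surjective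
  have he : Function.Injective (π.comp e1) := fun a b h =>
    he1 (PLocal.injOn_of_pGroup π hker hR1 ⟨a, rfl⟩ ⟨b, rfl⟩ h)
  have hidx : ¬ p ∣ (π.comp e1).range.index := by
    rw [MonoidHom.range_comp, he1r]
    refine fun hd => T.not_dvd_index ((hd.trans (index_map_dvd _ (QuotientGroup.mk'_surjective O))).trans ?_)
    exact ⟨_, (relIndex_mul_index hTX).symm⟩
  have hO' : Cfsg.pPrimeCore p (X ⧸ O) = ⊥ := Cores.pPrimeCore_quotient_self p
  obtain ⟨K, hKc, hKcen, hKq⟩ := PQAutomizer.key hpq h23 _ (X ⧸ O) T' (π.comp e1) he hT'p hidx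
    (hX.1.of_dvd ⟨Nat.card O, card_eq_card_quotient_mul_card_subgroup O⟩) hO' hqX rfl
  have hnC := not_dvd_card_centralizer hpq (hsepX.quotient O) hO' hT'p hidx hKcen he
  set Kb := K.map (π.comp e1) with hKb
  set K1 := K.map e1 with hK1
  have hKb1 : Kb = K1.map π := (map_map _ _ _).symm
  have hqrel : q ∣ (centralizer (K1 : Set X)).relIndex (normalizer (K1 : Set X)) := by
    have h1 : q ∣ (centralizer (Kb : Set (X ⧸ O))).relIndex (normalizer (Kb : Set (X ⧸ O))) := by
      have h2 : Nat.card ((centralizer (Kb : Set (X ⧸ O))).subgroupOf (normalizer (Kb : Set (X ⧸ O)))) *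
          (centralizer (Kb : Set (X ⧸ O))).relIndex (normalizer (Kb : Set (X ⧸ O))) =
          Nat.card (normalizer (Kb : Set (X ⧸ O))) := card_mul_index _
      rw [Nat.card_congr (subgroupOfEquivOfLe (centralizer_le_normalizer _)).toEquiv] at h2
      exact (((Fact.out : q.Prime).dvd_mul).1 (h2 ▸ hKq)).resolve_left hnC
    have hK1p : IsPGroup p K1 := hR1.to_le (map_le_range _ _)
    have hrange : normalizer (Kb : Set (X ⧸ O)) = (π.comp (normalizer (K1 : Set X)).subtype).range := by
      rw [MonoidHom.range_comp, range_subtype, hKb1,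
        PLocal.normalizer_map_eq π (QuotientGroup.mk'_surjective O) hker hK1p]
    rw [hrange, ← index_comap] at h1
    refine h1.trans (index_dvd_of_le ?_)
    intro z hz
    rw [mem_comap, hKb1, PLocal.centralizer_map_eq π (QuotientGroup.mk'_surjective O) hker hK1p]
    exact mem_map_of_mem π hz
  -- transfer to `G`
  let ι : X →* G := N.subtype.comp X.subtype
  have hι : Function.Injective ι := N.subtype_injective.comp X.subtype_injective
  set KG := K.map T'.subtype with hKG
  have hK1G : K1.map ι = KG := by rw [hK1, map_map]; rfl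
  have hqG : q ∣ ((centralizer (KG : Set G)).subgroupOf (normalizer (KG : Set G))).index := by
    refine dvd_trans ?_ (relIndex_dvd_automizer (M := (normalizer (K1 : Set X)).map ι)
      (hK1G ▸ le_normalizer_map ι))
    rw [← relIndex_comap]
    refine hqrel.trans (relIndex_dvd_of_le_left _ fun z hz => mem_centralizer_iff.2 fun k hk => hι ?_)
    rw [map_mul, map_mul]
    exact mem_centralizer_iff.1 hz _ (hK1G ▸ mem_map_of_mem ι hk)
  have hKGn : normalizer (T' : Set G) ≤ normalizer (KG : Set G) :=
    have := hKc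
    Cores.normalizer_le_normalizer_map K
  have hKGT : KG ≤ T' := map_subtype_le _
  by_cases hTi : p ∣ T'.index
  · exfalso
    have hd : p ^ ((Nat.card N).factorization p + 1) ∣ Nat.card G := by
      rw [pow_succ, ← hcardT, ← card_mul_index T']
      exact mul_dvd_mul_left _ hTi
    have h1 := (Sylow.prime_pow_dvd_card_normalizer hd hcardT).trans (card_dvd_of_le hKGn)
    have h2 := ((Fact.out : p.Prime).pow_dvd_iff_le_factorization Nat.card_pos.ne').1 h1
    have h3 := hmax KG ⟨hT'p.to_le hKGT, hqG⟩
    have h4 := Nat.mul_le_mul_right (Nat.card G + 1) h2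
    have h5 : Nat.card H ≤ Nat.card G := card_le_card_group H
    simp only [f] at h3
    rw [← hN] at h3
    rw [Nat.add_mul, one_mul] at h4
    omega
  · obtain ⟨g, hg⟩ := MulAction.exists_smul_eq G (hT'p.toSylow hTi) Gp
    have hg' : (Gp : Subgroup G) = T'.map (MulAut.conj g).toMonoidHom := by
      rw [← hg, Sylow.coe_subgroup_smul]; rfl
    refine ⟨KG.map (MulAut.conj g).toMonoidHom, hg' ▸ map_mono hKGT, ?_, ?_⟩
    · rw [hg']
      exact (map_mono ((le_normalizer (H := T')).trans hKGn)).trans (le_normalizer_map _)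
    · set c := (MulAut.conj g).toMonoidHom
      have hc : Function.Injective c := (MulAut.conj g).injective
      refine dvd_trans ?_ (relIndex_dvd_automizer (M := (normalizer (KG : Set G)).map c)
        (le_normalizer_map _))
      rw [← relIndex_comap]
      refine (show q ∣ (centralizer (KG : Set G)).relIndex (normalizer (KG : Set G)) from hqG).trans
        (relIndex_dvd_of_le_left _ fun z hz => mem_centralizer_iff.2 fun k hk => hc ?_)
      rw [map_mul, map_mul]
      exact mem_centralizer_iff.1 hz _ (mem_map_of_mem c hk)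

end Cfsg.Agent.S4411
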