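import Cfsg.Statements.S4412
import Cfsg.Agent.EqLemmas
import Cfsg.Agent.Lib.Coprime.InvolutionEigen
import Cfsg.Agent.Lib.PGroup.Basic
import Cfsg.Agent.Lib.Coprime.Frattini

set_option autoImplicit false
set_option linter.style.haveILetI false
open Cfsg

open scoped commutatorElement

namespace Cfsg.Agent.S4412

/-- Let p be an odd prime, P a finite p-group and I an elementary abelian subgroup of order 8 of Aut(P). Call T ∈ I, T ≠ 1, broad when its fixed-point subgroup C_P(T) is not cyclic. Suppose I has a proper subgroup I₀ containing no broad element such that the product of any two broad elements lies in I₀. Then P is abelian of rank exactly 3 (generated by three elements but not by two), there are exactly three broad elements and they generate I, and I₀ is exactly the set of products of two broad elements. -/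
theorem result
    {P : Type*} [Group P] [Finite P] (p : ℕ) (hp : p.Prime) (hp2 : p ≠ 2) (hP : IsPGroup p P)
    (I : Subgroup (MulAut P)) (hI : Cfsg.IsElementaryAbelian 2 I) (hI8 : Nat.card ↥I = 8)
    (I₀ : Subgroup (MulAut P)) (hI₀ : I₀ < I)
    (hdisj : ∀ T ∈ I₀, T ≠ 1 → ∃ g : P, ∀ x : P, (T x = x ↔ x ∈ Subgroup.zpowers g))
    (hprod : ∀ T ∈ I, ∀ T' ∈ I, T ≠ 1 → T' ≠ 1 → (¬ ∃ g : P, ∀ x : P, (T x = x ↔ x ∈ Subgroup.zpowers g)) →
      (¬ ∃ g : P, ∀ x : P, (T' x = x ↔ x ∈ Subgroup.zpowers g)) → T * T' ∈ I₀) :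
    IsMulCommutative P ∧ (∃ a b c : P, Subgroup.closure {a, b, c} = ⊤) ∧ (¬ ∃ a b : P, Subgroup.closure {a, b} = ⊤) ∧
      Nat.card {T : MulAut P // T ∈ I ∧ T ≠ 1 ∧ ¬ ∃ g : P, ∀ x : P, (T x = x ↔ x ∈ Subgroup.zpowers g)} = 3 ∧
      Subgroup.closure {T : MulAut P | T ∈ I ∧ T ≠ 1 ∧ ¬ ∃ g : P, ∀ x : P, (T x = x ↔ x ∈ Subgroup.zpowers g)} = I ∧
      (I₀ : Set (MulAut P)) = {S : MulAut P | ∃ T T' : MulAut P, T ∈ I ∧ T' ∈ I ∧ T ≠ 1 ∧ T' ≠ 1 ∧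
        (¬ ∃ g : P, ∀ x : P, (T x = x ↔ x ∈ Subgroup.zpowers g)) ∧ (¬ ∃ g : P, ∀ x : P, (T' x = x ↔ x ∈ Subgroup.zpowers g)) ∧ S = T * T'} := by
  classical
  haveI hpf : Fact p.Prime := ⟨hp⟩
  haveI : Fact (Nat.Prime 2) := ⟨Nat.prime_two⟩
  let B : MulAut P → Prop := fun T => ¬ ∃ g : P, ∀ x : P, (T x = x ↔ x ∈ Subgroup.zpowers g)
  have hI2 : ∀ T ∈ I, ∀ x : P, T (T x) = x := fun T hT x => by
    have h := DFunLike.congr_fun (hI.2 T hT) x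
    rwa [pow_two] at h
  have hIc : ∀ T ∈ I, ∀ T' ∈ I, ∀ x : P, T (T' x) = T' (T x) := fun T hT T' hT' x => by
    haveI := hI.1
    exact DFunLike.congr_fun
      (congrArg Subtype.val (IsMulCommutative.is_comm.comm (⟨T, hT⟩ : I) ⟨T', hT'⟩)) x
  have hTT : ∀ T ∈ I, T * T = 1 := fun T hT => (pow_two T).symm.trans (hI.2 T hT)
  obtain ⟨n, hn⟩ := IsPGroup.iff_card.1 hP
  have hpodd : Odd p := hp.odd_of_ne_two hp2
  have hPodd : Odd (Nat.card P) := hn ▸ hpodd.pow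
  let Φ := frattini P
  have hΦn : Φ.Normal := Subgroup.normal_of_characteristic _
  let π := QuotientGroup.mk' Φ
  have hπsurj : Function.Surjective π := QuotientGroup.mk'_surjective Φ
  have hπ : ∀ x w : P, π x = π w ↔ x⁻¹ * w ∈ Φ := fun x w => QuotientGroup.eq
  have hVc : ∀ x w : P ⧸ Φ, x * w = w * x := by
    intro x w
    obtain ⟨x, rfl⟩ := hπsurj x
    obtain ⟨w, rfl⟩ := hπsurj w
    rw [← map_mul, ← map_mul, hπ]
    have h := Cfsg.Agent.PGroup.commutatorElement_mem_frattini hP w⁻¹ x⁻¹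
    rwa [show ⁅w⁻¹, x⁻¹⁆ = (x * w)⁻¹ * (w * x) by rw [commutatorElement_def]; group] at h
  have hVp : ∀ x : P ⧸ Φ, x ^ p = 1 := by
    intro x
    obtain ⟨x, rfl⟩ := hπsurj x
    rw [← map_pow]
    exact (QuotientGroup.eq_one_iff _).2 (Cfsg.Agent.PGroup.pow_mem_frattini hP x)
  have hΦodd : Odd (Nat.card Φ) := hPodd.of_dvd_nat Φ.card_subgroup_dvd_card
  have hVodd : Odd (Nat.card (P ⧸ Φ)) := hPodd.of_dvd_nat (Subgroup.card_quotient_dvd_card Φ)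
  have hmapΦ : ∀ (T : MulAut P) (x : P), x ∈ Φ → T x ∈ Φ := fun T x hx => by
    have hch : Φ.map T.toMonoidHom = Φ := Subgroup.characteristic_iff_map_eq.1 inferInstance T
    rw [← hch]; exact Subgroup.mem_map_of_mem _ hx
  let τ : MulAut P → (P ⧸ Φ →* P ⧸ Φ) := fun T =>
    QuotientGroup.map Φ Φ T.toMonoidHom fun x hx => hmapΦ T x hx
  have hτ : ∀ T x, τ T (π x) = π (T x) := fun _ _ => rfl
  have hτm : ∀ T T' v, τ (T * T') v = τ T (τ T' v) := by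
    intro T T' v; obtain ⟨x, rfl⟩ := hπsurj v; rfl
  have hτ1 : ∀ v, τ 1 v = v := by intro v; obtain ⟨x, rfl⟩ := hπsurj v; rfl
  have hfaith : ∀ T ∈ I, (∀ v, τ T v = v) → T = 1 := by
    intro T hT h
    let H : Subgroup P :=
      { carrier := {x | T x = x}
        one_mem' := map_one T
        mul_mem' := fun {a b} (ha : T a = a) (hb : T b = b) => show T (a * b) = a * b by rw [map_mul, ha, hb]
        inv_mem' := fun {a} (ha : T a = a) => show T a⁻¹ = a⁻¹ by rw [map_inv, ha] }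
    have hH : H = ⊤ := Cfsg.Agent.Coprime.eq_top_of_meets_frattini_cosets fun g => by
      have h1 : π g = π (T g) := (hτ T g ▸ h (π g) : π (T g) = π g).symm
      exact Cfsg.Agent.InvolutionEigen.exists_fixed_lift T.toMonoidHom (hI2 T hT) Φ (fun y hy => hmapΦ T y hy) hΦodd
        ((hπ _ _).1 h1)
    exact MulEquiv.ext fun x => (hH ▸ Subgroup.mem_top x : x ∈ H)
  -- eigenvectors
  let E : Set (P ⧸ Φ) := Cfsg.Agent.InvolutionEigen.eigenSet (τ '' (I : Set (MulAut P)))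
  have hspan : ∀ v, v ∈ Subgroup.closure E := by
    refine Cfsg.Agent.InvolutionEigen.mem_closure_eigen hVc hVodd _ ((Set.toFinite _).image τ) ?_ ?_
    · rintro _ ⟨T, hT, rfl⟩ v
      rw [← hτm, hTT T hT, hτ1]
    · rintro _ ⟨T, hT, rfl⟩ _ ⟨T', hT', rfl⟩ v
      obtain ⟨x, rfl⟩ := hπsurj v
      rw [hτ, hτ, hτ, hτ, hIc T hT T' hT']
  have hE : ∀ e ∈ E, ∀ T ∈ I, τ T e = e ∨ τ T e = e⁻¹ := fun e he T hT => he _ ⟨T, hT, rfl⟩
  have hhalf : ∀ v : P ⧸ Φ, v⁻¹ = v → v = 1 := by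
    intro v hv
    have h2 : v ^ 2 = 1 := by
      rw [pow_two]; nth_rewrite 1 [← hv]; exact inv_mul_cancel v
    exact orderOf_eq_one_iff.1 (Nat.eq_one_of_dvd_coprimes (Nat.coprime_two_left.2 hVodd)
      (orderOf_dvd_of_pow_eq_one h2) (orderOf_dvd_natCard v))
  have hfix2 : ∀ v : P ⧸ Φ, ∀ T, τ T v = v → τ T v = v⁻¹ → v = 1 := fun v T h h' =>
    hhalf v (h'.symm.trans h)
  have hmove : ∀ T ∈ I, T ≠ 1 → ∃ e ∈ E, τ T e ≠ e := by
    intro T hT hT1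
    by_contra hcon
    push Not at hcon
    refine hT1 (hfaith T hT fun v => ?_)
    exact MonoidHom.eqOn_closure (f := τ T) (g := MonoidHom.id _) (fun e he => hcon e he) (hspan v)
  have hmm : ∀ e ∈ E, ∀ T ∈ I, ∀ T' ∈ I, τ T e ≠ e → τ T' e ≠ e → τ (T * T') e = e := by
    intro e he T hT T' hT' h h'
    rw [hτm, (hE e he T' hT').resolve_left h', map_inv, (hE e he T hT).resolve_left h, inv_inv]
  have hpig : ∀ e ∈ E, ∀ e' ∈ E, ∃ T ∈ I, T ≠ 1 ∧ τ T e = e ∧ τ T e' = e' := by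
    intro e he e' he'
    haveI := Fintype.ofFinite I
    obtain ⟨⟨T, hT⟩, ⟨T', hT'⟩, hne, heq⟩ := Fintype.exists_ne_map_eq_of_card_lt
      (fun T : I => (decide (τ T e = e), decide (τ T e' = e')))
      (by rw [← Nat.card_eq_fintype_card (α := I), hI8]; simp)
    simp only [Prod.mk.injEq, decide_eq_decide] at heq
    refine ⟨T * T', I.mul_mem hT hT', fun h => hne (Subtype.ext ?_), ?_, ?_⟩
    · show T = T'
      rw [← mul_one T, ← hTT T' hT', ← mul_assoc, h, one_mul]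
    · by_cases h : τ T e = e
      · rw [hτm, heq.1.1 h, h]
      · exact hmm e he T hT T' hT' h (fun h' => h (heq.1.2 h'))
    · by_cases h : τ T e' = e'
      · rw [hτm, heq.2.1 h, h]
      · exact hmm e' he' T hT T' hT' h (fun h' => h (heq.2.2 h'))
  -- a dual basis
  obtain ⟨T₁, T₂, T₃, e₁, e₂, e₃, hT₁, hT₂, hT₃, he₁, he₂, he₃, h11, h12, h13, h21, h22, h23, h31, h32, h33⟩ :
      ∃ T₁ T₂ T₃ : MulAut P, ∃ e₁ e₂ e₃ : P ⧸ Φ, T₁ ∈ I ∧ T₂ ∈ I ∧ T₃ ∈ I ∧ e₁ ∈ E ∧ e₂ ∈ E ∧ e₃ ∈ E ∧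
        τ T₁ e₁ ≠ e₁ ∧ τ T₁ e₂ = e₂ ∧ τ T₁ e₃ = e₃ ∧ τ T₂ e₁ = e₁ ∧ τ T₂ e₂ ≠ e₂ ∧ τ T₂ e₃ = e₃ ∧
        τ T₃ e₁ = e₁ ∧ τ T₃ e₂ = e₂ ∧ τ T₃ e₃ ≠ e₃ := by
    obtain ⟨a, ha, ha1⟩ : ∃ a ∈ I, a ≠ 1 := by
      by_contra hcon
      push Not at hcon
      rw [show I = ⊥ from (Subgroup.eq_bot_iff_forall I).2 hcon, Subgroup.card_bot] at hI8
      omega
    obtain ⟨e₁, he₁, hae₁⟩ := hmove a ha ha1
    obtain ⟨b, hb, hb1, hbe₁, -⟩ := hpig e₁ he₁ e₁ he₁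
    obtain ⟨e₂, he₂, hbe₂⟩ := hmove b hb hb1
    obtain ⟨c, hc, hc1, hce₁, hce₂⟩ := hpig e₁ he₁ e₂ he₂
    obtain ⟨e₃, he₃, hce₃⟩ := hmove c hc hc1
    obtain ⟨T₂, hT₂, q1, q2, q3⟩ : ∃ T₂ ∈ I, τ T₂ e₁ = e₁ ∧ τ T₂ e₂ ≠ e₂ ∧ τ T₂ e₃ = e₃ := by
      by_cases h : τ b e₃ = e₃
      · exact ⟨b, hb, hbe₁, hbe₂, h⟩
      · exact ⟨b * c, I.mul_mem hb hc, by rw [hτm, hce₁, hbe₁], by rw [hτm, hce₂]; exact hbe₂,
          hmm e₃ he₃ b hb c hc h hce₃⟩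
    obtain ⟨a', ha', r1, r2⟩ : ∃ a' ∈ I, τ a' e₁ ≠ e₁ ∧ τ a' e₂ = e₂ := by
      by_cases h : τ a e₂ = e₂
      · exact ⟨a, ha, hae₁, h⟩
      · exact ⟨a * T₂, I.mul_mem ha hT₂, by rw [hτm, q1]; exact hae₁, hmm e₂ he₂ a ha T₂ hT₂ h q2⟩
    by_cases h : τ a' e₃ = e₃
    · exact ⟨a', T₂, c, e₁, e₂, e₃, ha', hT₂, hc, he₁, he₂, he₃, r1, r2, h, q1, q2, q3, hce₁, hce₂, hce₃⟩
    · exact ⟨a' * c, T₂, c, e₁, e₂, e₃, I.mul_mem ha' hc, hT₂, hc, he₁, he₂, he₃,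
        by rw [hτm, hce₁]; exact r1, by rw [hτm, hce₂, r2], hmm e₃ he₃ a' ha' c hc h hce₃,
        q1, q2, q3, hce₁, hce₂, hce₃⟩
  have hne : ∀ T e, τ T e ≠ e → e ≠ 1 := fun T e h h1 => h (by rw [h1, map_one])
  have hnz : ∀ T (e e' : P ⧸ Φ), τ T e ≠ e → τ T e' = e' → e ∉ Subgroup.zpowers e' := by
    rintro T e e' h h' ⟨i, rfl⟩
    exact h (by rw [map_zpow, h'])
  -- elements of `I` are known by their patterns
  let pat : I → Bool × Bool × Bool := fun T =>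
    (decide (τ T e₁ = e₁), decide (τ T e₂ = e₂), decide (τ T e₃ = e₃))
  have hT12 := I.mul_mem hT₁ hT₂
  have hT13 := I.mul_mem hT₁ hT₃
  have hT23 := I.mul_mem hT₂ hT₃
  have hU := I.mul_mem hT₁ hT23
  have p1 : τ (T₁ * T₂) e₁ ≠ e₁ ∧ τ (T₁ * T₂) e₂ ≠ e₂ ∧ τ (T₁ * T₂) e₃ = e₃ :=
    ⟨by rw [hτm, h21]; exact h11, by rw [hτm, (hE e₂ he₂ T₂ hT₂).resolve_left h22, map_inv, h12,
      ← (hE e₂ he₂ T₂ hT₂).resolve_left h22]; exact h22, by rw [hτm, h23, h13]⟩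
  have p2 : τ (T₁ * T₃) e₁ ≠ e₁ ∧ τ (T₁ * T₃) e₂ = e₂ ∧ τ (T₁ * T₃) e₃ ≠ e₃ :=
    ⟨by rw [hτm, h31]; exact h11, by rw [hτm, h32, h12], by rw [hτm, (hE e₃ he₃ T₃ hT₃).resolve_left h33,
      map_inv, h13, ← (hE e₃ he₃ T₃ hT₃).resolve_left h33]; exact h33⟩
  have p3 : τ (T₂ * T₃) e₁ = e₁ ∧ τ (T₂ * T₃) e₂ ≠ e₂ ∧ τ (T₂ * T₃) e₃ ≠ e₃ :=
    ⟨by rw [hτm, h31, h21], by rw [hτm, h32]; exact h22, by rw [hτm, (hE e₃ he₃ T₃ hT₃).resolve_left h33,
      map_inv, h23, ← (hE e₃ he₃ T₃ hT₃).resolve_left h33]; exact h33⟩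
  have p4 : τ (T₁ * (T₂ * T₃)) e₁ ≠ e₁ ∧ τ (T₁ * (T₂ * T₃)) e₂ ≠ e₂ ∧ τ (T₁ * (T₂ * T₃)) e₃ ≠ e₃ :=
    ⟨by rw [hτm, p3.1]; exact h11,
     by rw [hτm, (hE e₂ he₂ _ hT23).resolve_left p3.2.1, map_inv, h12,
       ← (hE e₂ he₂ _ hT23).resolve_left p3.2.1]; exact p3.2.1,
     by rw [hτm, (hE e₃ he₃ _ hT23).resolve_left p3.2.2, map_inv, h13,
       ← (hE e₃ he₃ _ hT23).resolve_left p3.2.2]; exact p3.2.2⟩
  have hsurj : Function.Surjective pat := by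
    rintro ⟨x, y, z⟩
    cases x <;> cases y <;> cases z
    · exact ⟨⟨_, hU⟩, by simp [pat, p4]⟩
    · exact ⟨⟨_, hT12⟩, by simp [pat, p1]⟩
    · exact ⟨⟨_, hT13⟩, by simp [pat, p2]⟩
    · exact ⟨⟨_, hT₁⟩, by simp [pat, h11, h12, h13]⟩
    · exact ⟨⟨_, hT23⟩, by simp [pat, p3]⟩
    · exact ⟨⟨_, hT₂⟩, by simp [pat, h21, h22, h23]⟩
    · exact ⟨⟨_, hT₃⟩, by simp [pat, h31, h32, h33]⟩
    · exact ⟨1, by simp [pat, hτ1]⟩
  have hbij : Function.Bijective pat :=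
    (Nat.bijective_iff_surjective_and_card pat).2 ⟨hsurj, by
      rw [hI8]; simp [Nat.card_eq_fintype_card]⟩
  have hlist : ∀ T ∈ I, T = 1 ∨ T = T₁ ∨ T = T₂ ∨ T = T₃ ∨ T = T₁ * T₂ ∨ T = T₁ * T₃ ∨ T = T₂ * T₃ ∨
      T = T₁ * (T₂ * T₃) := by
    intro T hT
    have key : ∀ S (hS : S ∈ I), pat ⟨T, hT⟩ = pat ⟨S, hS⟩ → T = S := fun S hS h =>
      congrArg Subtype.val (hbij.1 h)
    by_cases a1 : τ T e₁ = e₁ <;> by_cases a2 : τ T e₂ = e₂ <;> by_cases a3 : τ T e₃ = e₃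
    · exact Or.inl (key 1 I.one_mem (by simp [pat, a1, a2, a3, hτ1]))
    · exact Or.inr (Or.inr (Or.inr (Or.inl (key _ hT₃ (by simp [pat, a1, a2, a3, h31, h32, h33])))))
    · exact Or.inr (Or.inr (Or.inl (key _ hT₂ (by simp [pat, a1, a2, a3, h21, h22, h23]))))
    · exact Or.inr (Or.inr (Or.inr (Or.inr (Or.inr (Or.inr (Or.inl (key _ hT23 (by simp [pat, a1, a2, a3, p3]))))))))
    · exact Or.inr (Or.inl (key _ hT₁ (by simp [pat, a1, a2, a3, h11, h12, h13])))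
    · exact Or.inr (Or.inr (Or.inr (Or.inr (Or.inr (Or.inl (key _ hT13 (by simp [pat, a1, a2, a3, p2])))))))
    · exact Or.inr (Or.inr (Or.inr (Or.inr (Or.inl (key _ hT12 (by simp [pat, a1, a2, a3, p1]))))))
    · exact Or.inr (Or.inr (Or.inr (Or.inr (Or.inr (Or.inr (Or.inr (key _ hU (by simp [pat, a1, a2, a3, p4]))))))))
  -- the fixed line of a narrow element
  have hnarrow : ∀ T ∈ I, ¬ B T → ∀ e v : P ⧸ Φ, e ≠ 1 → τ T e = e → τ T v = v → v ∈ Subgroup.zpowers e := by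
    intro T hT hB e v he1 he hv
    obtain ⟨g, hg⟩ := not_not.1 hB
    have hmem : ∀ w, τ T w = w → w ∈ Subgroup.zpowers (π g) := by
      intro w hw
      obtain ⟨x, rfl⟩ := hπsurj w
      obtain ⟨c, hc, hcx⟩ := Cfsg.Agent.InvolutionEigen.exists_fixed_lift T.toMonoidHom (hI2 T hT) Φ
        (fun y hy => hmapΦ T y hy) hΦodd ((hπ _ _).1 (show π x = π (T x) from (hw : π (T x) = π x).symm))
      rw [(hπ x c).2 hcx]
      rw [← MonoidHom.map_zpowers]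
      exact Subgroup.mem_map_of_mem _ ((hg c).1 hc)
    have hgne : π g ≠ 1 := fun h => he1 (by
      have := hmem e he
      rw [h, Subgroup.zpowers_one_eq_bot, Subgroup.mem_bot] at this
      exact this)
    have heq : Subgroup.zpowers e = Subgroup.zpowers (π g) := by
      refine Subgroup.eq_of_le_of_card_ge (Subgroup.zpowers_le.2 (hmem e he)) ?_
      rw [Nat.card_zpowers, Nat.card_zpowers, orderOf_eq_prime (hVp _) hgne,
        orderOf_eq_prime (hVp _) he1]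
    rw [heq]; exact hmem v hv
  have hT₁1 : T₁ ≠ 1 := fun h => h11 (by rw [h, hτ1])
  have hT₂1 : T₂ ≠ 1 := fun h => h22 (by rw [h, hτ1])
  have hT₃1 : T₃ ≠ 1 := fun h => h33 (by rw [h, hτ1])
  have hB₁ : B T₁ := by
    by_contra hB
    exact hnz T₂ e₂ e₃ h22 h23 (hnarrow T₁ hT₁ (not_not.2 hB) e₃ e₂ (hne _ _ h33) h13 h12)
  have hB₂ : B T₂ := by
    by_contra hB
    exact hnz T₁ e₁ e₃ h11 h13 (hnarrow T₂ hT₂ (not_not.2 hB) e₃ e₁ (hne _ _ h33) h23 h21)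
  have hB₃ : B T₃ := by
    by_contra hB
    exact hnz T₁ e₁ e₂ h11 h12 (hnarrow T₃ hT₃ (not_not.2 hB) e₂ e₁ (hne _ _ h22) h32 h31)
  have i12 := hprod T₁ hT₁ T₂ hT₂ hT₁1 hT₂1 hB₁ hB₂
  have i13 := hprod T₁ hT₁ T₃ hT₃ hT₁1 hT₃1 hB₁ hB₃
  have i23 := hprod T₂ hT₂ T₃ hT₃ hT₂1 hT₃1 hB₂ hB₃
  have hn₁ : T₁ ∉ I₀ := fun h => hB₁ (hdisj _ h hT₁1)
  have hn₂ : T₂ ∉ I₀ := fun h => hB₂ (hdisj _ h hT₂1)
  have hn₃ : T₃ ∉ I₀ := fun h => hB₃ (hdisj _ h hT₃1)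
  have hnU : T₁ * (T₂ * T₃) ∉ I₀ := fun h => hn₁ (by
    have := I₀.mul_mem h (I₀.inv_mem i23)
    rwa [mul_inv_cancel_right] at this)
  have nb : ∀ T ∈ I₀, T ≠ 1 → ¬ B T := fun T hT h1 => not_not.2 (hdisj T hT h1)
  have q12 : ¬ B (T₁ * T₂) := nb _ i12 fun h => p1.1 (by rw [h, hτ1])
  have q13 : ¬ B (T₁ * T₃) := nb _ i13 fun h => p2.1 (by rw [h, hτ1])
  have q23 : ¬ B (T₂ * T₃) := nb _ i23 fun h => p3.2.1 (by rw [h, hτ1])
  -- the Frattini quotient has order `p ^ 3`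
  have hEsub : ∀ e ∈ E, e ∈ Subgroup.closure ({e₁, e₂, e₃} : Set (P ⧸ Φ)) := by
    intro e he
    have hz : ∀ (T : MulAut P), T ∈ I → ¬ B T → ∀ ek ∈ ({e₁, e₂, e₃} : Set (P ⧸ Φ)), ek ≠ 1 → τ T ek = ek →
        τ T e = e → e ∈ Subgroup.closure ({e₁, e₂, e₃} : Set (P ⧸ Φ)) := fun T hT hB ek hek h1 h2 h3 =>
      Subgroup.zpowers_le.2 (Subgroup.subset_closure hek) (hnarrow T hT hB ek e h1 h2 h3)
    by_cases a1 : τ T₁ e = e <;> by_cases a2 : τ T₂ e = e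
    · exact hz _ hT12 q12 e₃ (by simp) (hne _ _ h33) p1.2.2 (by rw [hτm, a2, a1])
    · by_cases a3 : τ T₃ e = e
      · exact hz _ hT13 q13 e₂ (by simp) (hne _ _ h22) p2.2.1 (by rw [hτm, a3, a1])
      · exact hz _ hT23 q23 e₁ (by simp) (hne _ _ h11) p3.1 (hmm e he _ hT₂ _ hT₃ a2 a3)
    · by_cases a3 : τ T₃ e = e
      · exact hz _ hT23 q23 e₁ (by simp) (hne _ _ h11) p3.1 (by rw [hτm, a3, a2])
      · exact hz _ hT13 q13 e₂ (by simp) (hne _ _ h22) p2.2.1 (hmm e he _ hT₁ _ hT₃ a1 a3)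
    · exact hz _ hT12 q12 e₃ (by simp) (hne _ _ h33) p1.2.2 (hmm e he _ hT₁ _ hT₂ a1 a2)
  have hgen : Subgroup.closure ({e₁, e₂, e₃} : Set (P ⧸ Φ)) = ⊤ :=
    eq_top_iff.2 fun v _ => (Subgroup.closure_le _).2 hEsub (hspan v)
  let U := T₁ * (T₂ * T₃)
  have hUinv : ∀ v, τ U v = v⁻¹ := by
    intro v
    induction (hgen ▸ Subgroup.mem_top v : v ∈ Subgroup.closure ({e₁, e₂, e₃} : Set (P ⧸ Φ)))
      using Subgroup.closure_induction with
    | mem x hx =>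
      rcases hx with rfl | rfl | rfl
      · exact (hE _ he₁ _ hU).resolve_left p4.1
      · exact (hE _ he₂ _ hU).resolve_left p4.2.1
      · exact (hE _ he₃ _ hU).resolve_left p4.2.2
    | one => simp
    | mul x y _ _ hx hy => rw [map_mul, hx, hy, mul_inv_rev, hVc]
    | inv x _ hx => rw [map_inv, hx]
  -- `U` is fixed-point-free
  have hfix3 : ∀ T ∈ I, ¬ B T → ∀ ek : P ⧸ Φ, ek ≠ 1 → τ T ek = ek →
      ∀ y : P, T y = y → U y = y → y = 1 := by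
    intro T hT hB ek hek hTek y hTy hUy
    obtain ⟨g, hg⟩ := not_not.1 hB
    have hgne : π g ≠ 1 := by
      intro h
      obtain ⟨x, rfl⟩ := hπsurj ek
      obtain ⟨c, hc, hcx⟩ := Cfsg.Agent.InvolutionEigen.exists_fixed_lift T.toMonoidHom (hI2 T hT) Φ
        (fun y hy => hmapΦ T y hy) hΦodd ((hπ _ _).1 (show π x = π (T x) from (hTek : π (T x) = π x).symm))
      refine hek ?_
      rw [(hπ x c).2 hcx]
      obtain ⟨i, rfl⟩ := (hg c).1 hc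
      show π (g ^ i) = 1
      rw [map_zpow, h, one_zpow]
    obtain ⟨m, rfl⟩ := (hg y).1 hTy
    obtain ⟨k, hk⟩ := (hg (U g)).1 (by
      rw [hIc T hT U hU, (hg g).2 (Subgroup.mem_zpowers g)])
    simp only at hUy hk ⊢
    rw [map_zpow, ← hk, ← zpow_mul] at hUy
    have h1 : g ^ ((k - 1) * m) = 1 := by
      rw [sub_mul, one_mul, zpow_sub, hUy, mul_inv_cancel]
    have hndvd : ¬ (p : ℤ) ∣ k - 1 := by
      rintro ⟨r, hr⟩
      refine hgne (hhalf _ ?_)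
      rw [← hUinv, hτ, ← hk, map_zpow, show k = (p : ℤ) * r + 1 by linarith, zpow_add, zpow_mul,
        zpow_natCast, hVp, one_zpow, one_mul, zpow_one]
    obtain ⟨a, ha⟩ := hP g
    obtain ⟨l, -, hl⟩ := (Nat.dvd_prime_pow hp).1 (orderOf_dvd_of_pow_eq_one ha)
    have h2 := orderOf_dvd_iff_zpow_eq_one.2 h1
    rw [hl, Nat.cast_pow] at h2
    refine orderOf_dvd_iff_zpow_eq_one.1 ?_
    rw [hl, Nat.cast_pow]
    refine IsCoprime.dvd_of_dvd_mul_left (IsCoprime.pow_left ?_) h2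
    exact (Nat.prime_iff_prime_int.1 hp).coprime_iff_not_dvd.2 hndvd
  have hUfree : ∀ x, U x = x → x = 1 := by
    intro x hx
    let C : Subgroup P :=
      { carrier := {x | U x = x}
        one_mem' := map_one U
        mul_mem' := fun {a b} (ha : U a = a) (hb : U b = b) => show U (a * b) = a * b by rw [map_mul, ha, hb]
        inv_mem' := fun {a} (ha : U a = a) => show U a⁻¹ = a⁻¹ by rw [map_inv, ha] }
    let res : ∀ T : MulAut P, T ∈ I → (C →* C) := fun T hT =>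
      (T.toMonoidHom.comp C.subtype).codRestrict C fun c => by
        show U (T c) = T c
        rw [hIc U hU T hT, c.2]
    have hinvC : ∀ T (hT : T ∈ I), (∀ y, T y = y → U y = y → y = 1) → T x = x⁻¹ := fun T hT hfp =>
      congrArg Subtype.val (Cfsg.Agent.InvolutionEigen.inverts_of_fpf (res T hT)
        (fun c => Subtype.ext (hI2 T hT c))
        (fun c hc => Subtype.ext (hfp c (congrArg Subtype.val hc) c.2)) ⟨x, hx⟩)
    have a1 := hinvC _ hT12 (hfix3 _ hT12 q12 e₃ (hne _ _ h33) p1.2.2)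
    have a2 := hinvC _ hT13 (hfix3 _ hT13 q13 e₂ (hne _ _ h22) p2.2.1)
    refine hfix3 _ hT23 q23 e₁ (hne _ _ h11) p3.1 x ?_ hx
    calc (T₂ * T₃) x = T₂ (T₁ (T₁ (T₃ x))) := by rw [hI2 T₁ hT₁]; rfl
      _ = T₁ (T₂ (T₁ (T₃ x))) := by rw [hIc T₂ hT₂ T₁ hT₁]
      _ = (T₁ * T₂) ((T₁ * T₃) x) := rfl
      _ = x := by rw [a2, map_inv, a1, inv_inv]
  have hUall := Cfsg.Agent.InvolutionEigen.inverts_of_fpf U.toMonoidHom (hI2 U hU) hUfree
  have hPc : ∀ x y : P, x * y = y * x := by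
    intro x y
    have h := hUall (x * y)
    rw [map_mul, hUall x, hUall y, mul_inv_rev] at h
    simpa using congrArg (·⁻¹) h.symm
  have hUnb : ¬ B U := not_not.2 ⟨1, fun x => ⟨fun h => by rw [hUfree x h]; exact Subgroup.one_mem _,
    fun h => by rw [Subgroup.zpowers_one_eq_bot, Subgroup.mem_bot] at h; rw [h, map_one]⟩⟩
  have hbroad : ∀ T, (T ∈ I ∧ T ≠ 1 ∧ B T) ↔ (T = T₁ ∨ T = T₂ ∨ T = T₃) := by
    intro T
    constructor
    · rintro ⟨hT, h1, hB⟩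
      rcases hlist T hT with rfl | rfl | rfl | rfl | rfl | rfl | rfl | rfl
      · exact absurd rfl h1
      · exact Or.inl rfl
      · exact Or.inr (Or.inl rfl)
      · exact Or.inr (Or.inr rfl)
      · exact absurd hB q12
      · exact absurd hB q13
      · exact absurd hB q23
      · exact absurd hB hUnb
    · rintro (rfl | rfl | rfl)
      · exact ⟨hT₁, hT₁1, hB₁⟩
      · exact ⟨hT₂, hT₂1, hB₂⟩
      · exact ⟨hT₃, hT₃1, hB₃⟩
  have d12 : T₁ ≠ T₂ := fun h => h11 (by rw [h, h21])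
  have d13 : T₁ ≠ T₃ := fun h => h11 (by rw [h, h31])
  have d23 : T₂ ≠ T₃ := fun h => h22 (by rw [h, h32])
  refine ⟨⟨⟨hPc⟩⟩, ?_, ?_, ?_, ?_, ?_⟩
  · obtain ⟨a, rfl⟩ := hπsurj e₁
    obtain ⟨b, rfl⟩ := hπsurj e₂
    obtain ⟨c, rfl⟩ := hπsurj e₃
    refine ⟨a, b, c, Cfsg.Agent.Coprime.eq_top_of_meets_frattini_cosets fun g => ?_⟩
    have hg : π g ∈ (Subgroup.closure ({a, b, c} : Set P)).map π := by
      rw [MonoidHom.map_closure, Set.image_insert_eq, Set.image_insert_eq, Set.image_singleton, hgen]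
      exact Subgroup.mem_top _
    obtain ⟨x, hx, hxg⟩ := hg
    exact ⟨x, hx, (hπ _ _).1 hxg.symm⟩
  · rintro ⟨a, b, hab⟩
    have htop : Subgroup.closure ({π a, π b} : Set (P ⧸ Φ)) = ⊤ := by
      have h := congrArg (Subgroup.map π) hab
      rwa [MonoidHom.map_closure, Set.image_pair, Subgroup.map_top_of_surjective _ hπsurj] at h
    have key : ∀ (w : P ⧸ Φ) (i : ℤ), ∃ k : Fin p, w ^ (k : ℕ) = w ^ i := by
      intro w i
      have hp0 : (p : ℤ) ≠ 0 := by exact_mod_cast hp.ne_zero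
      have h0 := Int.emod_nonneg i hp0
      refine ⟨⟨(i % (p : ℤ)).toNat, ?_⟩, ?_⟩
      · have := Int.emod_lt_of_pos i (b := (p : ℤ)) (by exact_mod_cast hp.pos); omega
      · show w ^ ((i % (p : ℤ)).toNat) = w ^ i
        rw [← zpow_natCast, Int.toNat_of_nonneg h0]
        conv_rhs => rw [← Int.emod_add_mul_ediv i (p : ℤ), zpow_add, zpow_mul, zpow_natCast, hVp, one_zpow, mul_one]
    have h2 : Nat.card (P ⧸ Φ) ≤ p * p := by
      have hsurj2 : Function.Surjective fun q : Fin p × Fin p => π a ^ (q.1 : ℕ) * π b ^ (q.2 : ℕ) := by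
        intro v
        induction (htop ▸ Subgroup.mem_top v : v ∈ Subgroup.closure ({π a, π b} : Set (P ⧸ Φ)))
          using Subgroup.closure_induction with
        | mem x hx =>
          rcases hx with rfl | rfl
          · exact ⟨(⟨1, hp.one_lt⟩, ⟨0, hp.pos⟩), by simp⟩
          · exact ⟨(⟨0, hp.pos⟩, ⟨1, hp.one_lt⟩), by simp⟩
        | one => exact ⟨(⟨0, hp.pos⟩, ⟨0, hp.pos⟩), by simp⟩
        | mul x y _ _ hx hy =>
          obtain ⟨⟨i, j⟩, rfl⟩ := hx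
          obtain ⟨⟨i', j'⟩, rfl⟩ := hy
          obtain ⟨u, hu⟩ := key (π a) ((i : ℕ) + (i' : ℕ))
          obtain ⟨w, hw⟩ := key (π b) ((j : ℕ) + (j' : ℕ))
          refine ⟨(u, w), ?_⟩
          show π a ^ (u : ℕ) * π b ^ (w : ℕ) = _
          rw [hu, hw, zpow_add, zpow_add, zpow_natCast, zpow_natCast, zpow_natCast, zpow_natCast]
          exact Commute.mul_mul_mul_comm (hVc _ _) _ _
        | inv x _ hx =>
          obtain ⟨⟨i, j⟩, rfl⟩ := hx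
          obtain ⟨u, hu⟩ := key (π a) (-(i : ℕ))
          obtain ⟨w, hw⟩ := key (π b) (-(j : ℕ))
          refine ⟨(u, w), ?_⟩
          show π a ^ (u : ℕ) * π b ^ (w : ℕ) = _
          rw [hu, hw, zpow_neg, zpow_neg, zpow_natCast, zpow_natCast, mul_inv_rev, hVc]
      simpa [Nat.card_prod] using Nat.card_le_card_of_surjective _ hsurj2
    have hord : ∀ T e, τ T e ≠ e → orderOf e = p := fun T e h => orderOf_eq_prime (hVp e) (hne T e h)
    have h3 : Nat.card (Fin p × Fin p × Fin p) ≤ Nat.card (P ⧸ Φ) := by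
      refine Nat.card_le_card_of_injective
        (fun q => e₁ ^ (q.1 : ℕ) * e₂ ^ (q.2.1 : ℕ) * e₃ ^ (q.2.2 : ℕ)) ?_
      rintro ⟨i, j, l⟩ ⟨i', j', l'⟩ h
      simp only at h
      have sep : ∀ T ∈ I, ∀ e ∈ E, τ T e ≠ e → ∀ w w' : P ⧸ Φ, τ T w = w → τ T w' = w' →
          ∀ i i' : Fin p, e ^ (i : ℕ) * w = e ^ (i' : ℕ) * w' → i = i' := by
        intro T hT e he hTe w w' hw hw' i i' h
        have h' := congrArg (τ T) h
        rw [map_mul, map_mul, map_pow, map_pow, hw, hw', (hE e he T hT).resolve_left hTe] at h'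
        set X := e ^ (i : ℕ) * (e ^ (i' : ℕ))⁻¹ with hX
        have hXX : X⁻¹ = X := by
          have e1 : X = w' * w⁻¹ := by
            rw [hX, eq_mul_inv_iff_mul_eq, hVc (e ^ (i : ℕ)) _, mul_assoc, h, inv_mul_cancel_left]
          have e2 : X⁻¹ = w' * w⁻¹ := by
            rw [hX, mul_inv_rev, inv_inv, eq_mul_inv_iff_mul_eq, mul_assoc,
              show (e ^ (i : ℕ))⁻¹ = e⁻¹ ^ (i : ℕ) from (inv_pow _ _).symm, h', inv_pow, mul_inv_cancel_left]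
          rw [e2, e1]
        refine Fin.ext (pow_injOn_Iio_orderOf (by rw [Set.mem_Iio, hord T e hTe]; exact i.2)
          (by rw [Set.mem_Iio, hord T e hTe]; exact i'.2) ?_)
        exact mul_inv_eq_one.1 (hhalf X hXX)
      have f1 : ∀ (j l : ℕ), τ T₁ (e₂ ^ j * e₃ ^ l) = e₂ ^ j * e₃ ^ l := fun j l => by simp [h12, h13]
      have f2 : ∀ (j l : ℕ), τ T₂ (e₁ ^ j * e₃ ^ l) = e₁ ^ j * e₃ ^ l := fun j l => by simp [h21, h23]
      have f3 : ∀ (j l : ℕ), τ T₃ (e₁ ^ j * e₂ ^ l) = e₁ ^ j * e₂ ^ l := fun j l => by simp [h31, h32]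
      have r1 := sep T₁ hT₁ e₁ he₁ h11 _ _ (f1 j l) (f1 j' l') i i' (by rw [← mul_assoc, h, mul_assoc])
      have r2 := sep T₂ hT₂ e₂ he₂ h22 _ _ (f2 i l) (f2 i' l') j j' (by
        rw [← mul_assoc, hVc (e₂ ^ (j : ℕ)), h, hVc (e₁ ^ (i' : ℕ)), mul_assoc])
      have r3 := sep T₃ hT₃ e₃ he₃ h33 _ _ (f3 i j) (f3 i' j') l l' (by
        rw [hVc, h, hVc])
      rw [r1, r2, r3]
    simp only [Nat.card_prod, Nat.card_fin] at h3
    have h5 : p * (p * p) ≤ p * p := h3.trans h2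
    have h6 := Nat.mul_le_mul_right (p * p) hp.two_le
    have h7 : 0 < p * p := Nat.mul_pos hp.pos hp.pos
    omega
  · rw [show {T : MulAut P // T ∈ I ∧ T ≠ 1 ∧ B T} = ↥({T₁, T₂, T₃} : Set (MulAut P)) by
        congr 1; funext T; exact propext ((hbroad T).trans (by simp)),
      Nat.card_coe_set_eq, Set.ncard_insert_of_notMem (by simp [d12, d13]), Set.ncard_pair d23]
  · refine le_antisymm ((Subgroup.closure_le _).2 fun T hT => hT.1) fun T hT => ?_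
    have g1 : T₁ ∈ Subgroup.closure {T : MulAut P | T ∈ I ∧ T ≠ 1 ∧ B T} := Subgroup.subset_closure ⟨hT₁, hT₁1, hB₁⟩
    have g2 : T₂ ∈ Subgroup.closure {T : MulAut P | T ∈ I ∧ T ≠ 1 ∧ B T} := Subgroup.subset_closure ⟨hT₂, hT₂1, hB₂⟩
    have g3 : T₃ ∈ Subgroup.closure {T : MulAut P | T ∈ I ∧ T ≠ 1 ∧ B T} := Subgroup.subset_closure ⟨hT₃, hT₃1, hB₃⟩
    rcases hlist T hT with rfl | rfl | rfl | rfl | rfl | rfl | rfl | rfl
    · exact Subgroup.one_mem _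
    · exact g1
    · exact g2
    · exact g3
    · exact Subgroup.mul_mem _ g1 g2
    · exact Subgroup.mul_mem _ g1 g3
    · exact Subgroup.mul_mem _ g2 g3
    · exact Subgroup.mul_mem _ g1 (Subgroup.mul_mem _ g2 g3)
  · ext S
    constructor
    · intro hS
      rcases hlist S (hI₀.le hS) with rfl | rfl | rfl | rfl | rfl | rfl | rfl | rfl
      · exact ⟨T₁, T₁, hT₁, hT₁, hT₁1, hT₁1, hB₁, hB₁, (hTT T₁ hT₁).symm⟩
      · exact absurd hS hn₁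
      · exact absurd hS hn₂
      · exact absurd hS hn₃
      · exact ⟨T₁, T₂, hT₁, hT₂, hT₁1, hT₂1, hB₁, hB₂, rfl⟩
      · exact ⟨T₁, T₃, hT₁, hT₃, hT₁1, hT₃1, hB₁, hB₃, rfl⟩
      · exact ⟨T₂, T₃, hT₂, hT₃, hT₂1, hT₃1, hB₂, hB₃, rfl⟩
      · exact absurd hS hnU
    · rintro ⟨T, T', hT, hT', h1, h1', hB, hB', rfl⟩
      exact hprod T hT T' hT' h1 h1' hB hB'

end Cfsg.Agent.S4412
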