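import Cfsg.Statements.S4413
import Cfsg.Agent.EqLemmas
import Cfsg.Agent.Lib.LargeExtraspecial.OutForm
import Cfsg.Agent.Lib.Forms.Standard
import Cfsg.Agent.S0824

set_option autoImplicit false
open Cfsg

namespace Cfsg.Agent.S4413

/-- Let P be an extraspecial 2-group of order 32 with no elementary abelian subgroup of order 8 (the central product of a dihedral and a quaternion group of order 8). Then the inner automorphism group of P has order 16 and the outer automorphism group Aut(P)/Inn(P) is isomorphic to the symmetric group of degree 5; in particular Aut(P) has order 1920. -/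
theorem result {P : Type*} [Group P] [Finite P]
    (hex : Cfsg.IsExtraspecial 2 P) (h32 : Nat.card P = 32)
    (hminus : ∀ A : Subgroup P, Cfsg.IsElementaryAbelian 2 A → Nat.card ↥A ≤ 4)
    [(MulAut.conj : P →* MulAut P).range.Normal] :
    Nat.card ↥(MulAut.conj : P →* MulAut P).range = 16 ∧ Nat.card (MulAut P) = 1920 ∧
      Nonempty ((MulAut P ⧸ (MulAut.conj : P →* MulAut P).range) ≃* Equiv.Perm (Fin 5)) := by
  classical
  haveI : Fact (Cfsg.IsExtraspecial 2 P) := ⟨hex⟩
  have hcard : Nat.card P = 2 ^ (2 * 2 + 1) := by rw [h32]; norm_num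
  obtain ⟨e, he⟩ : ∃ e : ((Fin 1 ⊕ Fin 1) ⊕ Fin 2 → ZMod 2) ≃ₗ[ZMod 2] LargeExtraspecial.OutForm.Vm P,
      ∀ v, LargeExtraspecial.OutForm.qf P (e v) = Cfsg.quadFormMinus 1 (ZMod 2) 1 1 v := by
    rcases Forms.zeros_iff_plus (LargeExtraspecial.OutForm.qf P)
      LargeExtraspecial.OutForm.qf_nondegenerate (m := 2) (by norm_num)
      (LargeExtraspecial.OutForm.finrank_Vm hcard) with ⟨⟨e, he⟩, -⟩ | ⟨⟨e, he⟩, -⟩
    · obtain ⟨A, hA, hAc⟩ := LargeExtraspecial.OutForm.exists_elementary_of_plus hcard e he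
      have := hminus A hA
      omega
    · exact ⟨e, he⟩
  obtain ⟨e5⟩ := S0824.result (F := ZMod 2) (ZMod.card 2)
  have eS : (MulAut P ⧸ (MulAut.conj : P →* MulAut P).range) ≃* Equiv.Perm (Fin 5) :=
    ((LargeExtraspecial.OutForm.outEquiv P).trans
      (Forms.preservingFunCongr (F := ZMod 2) (Cfsg.quadFormMinus 1 (ZMod 2) 1 1)
        (LargeExtraspecial.OutForm.qf P) e 1 one_ne_zero (fun v => by rw [he, one_mul])).symm).trans
      ((Forms.isometryGroupEquiv _).symm.trans e5)
  have h16 : Nat.card (MulAut.conj : P →* MulAut P).range = 16 := by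
    have hk : (MulAut.conj : P →* MulAut P).ker = Subgroup.center P := by
      ext g
      rw [MonoidHom.mem_ker, MulEquiv.ext_iff, Subgroup.mem_center_iff]
      exact forall_congr' fun h => by
        show g * h * g⁻¹ = h ↔ _
        rw [mul_inv_eq_iff_eq_mul, eq_comm]
    have h1 := Subgroup.card_eq_card_quotient_mul_card_subgroup (Subgroup.center P)
    rw [h32, hex.2, Nat.card_congr ((QuotientGroup.quotientMulEquivOfEq hk.symm).trans
      (QuotientGroup.quotientKerEquivRange _)).toEquiv] at h1
    omega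
  refine ⟨h16, ?_, ⟨eS⟩⟩
  rw [Subgroup.card_eq_card_quotient_mul_card_subgroup (MulAut.conj : P →* MulAut P).range,
    h16, Nat.card_congr eS.toEquiv, Nat.card_perm, Nat.card_fin]
  decide

end Cfsg.Agent.S4413
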