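import Cfsg.Statements.S4414
import Cfsg.Agent.EqLemmas

set_option autoImplicit false
open Cfsg

namespace Cfsg.Agent.S4414

set_option linter.style.haveILetI false

open TensorProduct

set_option maxHeartbeats 2000000

/-- Fixed vectors of a base change are spanned by fixed vectors. -/
theorem mem_span_of_forall_fixed {K : Type*} [Field K] [Algebra (ZMod 2) K] {E : Type*}
    [AddCommGroup E] [Module (ZMod 2) E] {ι : Type*} (f : ι → Module.End (ZMod 2) E)
    (z : K ⊗[ZMod 2] E) (hz : ∀ i, (f i).baseChange K z = z) :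
    z ∈ Submodule.span K ((fun v : E => (1 : K) ⊗ₜ[ZMod 2] v) '' {v | ∀ i, f i v = v}) := by
  classical
  let b := Module.Free.chooseBasis (ZMod 2) K
  set c := TensorProduct.equivFinsuppOfBasisLeft (N := E) b with hc
  have hnat : ∀ (i : ι) (j : _) (y : K ⊗[ZMod 2] E), c ((f i).baseChange K y) j = f i (c y j) := by
    intro i j y
    induction y with
    | zero => simp
    | tmul a v => simp [hc, TensorProduct.equivFinsuppOfBasisLeft_apply]
    | add a b ha hb => simp [ha, hb]
  have hfix : ∀ i j, f i (c z j) = c z j := fun i j => by rw [← hnat, hz]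
  rw [← c.symm_apply_apply z, hc, TensorProduct.equivFinsuppOfBasisLeft_symm_apply]
  refine Submodule.sum_mem _ fun j _ => ?_
  show b j ⊗ₜ[ZMod 2] (c z j) ∈ _
  rw [show b j ⊗ₜ[ZMod 2] (c z j) = b j • ((1 : K) ⊗ₜ[ZMod 2] (c z j)) by
    rw [TensorProduct.smul_tmul', smul_eq_mul, mul_one]]
  exact Submodule.smul_mem _ _ (Submodule.subset_span ⟨_, fun i => hfix i j, rfl⟩)

variable {S : Type*} [Group S] [Finite S] {P : Subgroup S} [P.Normal]
  {K : Type*} [Field K] {V : Type*} [AddCommGroup V] [Module K V]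

/-- The conjugate of a weight. -/
noncomputable def wconj (g : S) (l : P →* K) : P →* K :=
  l.comp (MulAut.conjNormal (H := P) g⁻¹).toMonoidHom

theorem wconj_one (l : P →* K) : wconj (1 : S) l = l := by
  ext s; simp [wconj]

theorem wconj_mul (g h : S) (l : P →* K) : wconj (g * h) l = wconj g (wconj h l) := by
  ext s
  simp only [wconj, MonoidHom.comp_apply, MulEquiv.coe_toMonoidHom]
  congr 1
  exact Subtype.ext (by simp [mul_assoc])

/-- The action of the group on weights. -/
@[reducible] noncomputable def wAction : MulAction S (P →* K) where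
  smul := wconj
  one_smul := wconj_one
  mul_smul := wconj_mul

/-- The weight projection, up to a scalar. -/
noncomputable def proj [Fintype P] (ρ : Representation K S V) (l : P →* K) (v : V) : V :=
  ∑ s : P, l s⁻¹ • ρ (s : S) v

theorem proj_conj [Fintype P] (ρ : Representation K S V) (g : S) (l : P →* K) (v : V) :
    ρ g (proj ρ l v) = proj ρ (wconj g l) (ρ g v) := by
  rw [proj, proj, map_sum]
  refine Fintype.sum_equiv (MulAut.conjNormal (H := P) g).toEquiv _ _ fun s => ?_
  rw [map_smul]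
  congr 1
  · simp only [wconj, MonoidHom.comp_apply, MulEquiv.coe_toMonoidHom, MulEquiv.toEquiv_eq_coe,
      EquivLike.coe_coe]
    congr 1
    exact Subtype.ext (by simp [mul_assoc])
  · rw [← Module.End.mul_apply, ← Module.End.mul_apply, ← map_mul, ← map_mul]
    simp

theorem proj_weight [Fintype P] (ρ : Representation K S V) (l m : P →* K) {u : V}
    (hu : ∀ s : P, ρ (s : S) u = l s • u) [Decidable (m = l)] :
    proj ρ m u = if m = l then (Nat.card P : K) • u else 0 := by
  classical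
  rw [proj]
  simp_rw [hu, smul_smul]
  rw [← Finset.sum_smul]
  let f : P →* K :=
    { toFun := fun s => m s⁻¹ * l s
      map_one' := by simp
      map_mul' := fun a b => by rw [mul_inv_rev, map_mul, map_mul]; ring }
  have h := sum_hom_units f
  have hf : f = 1 ↔ m = l := by
    constructor
    · intro h
      ext s
      have h1 : m s⁻¹ * l s = 1 := DFunLike.congr_fun h s
      have h2 : m s * m s⁻¹ = 1 := by rw [← map_mul, mul_inv_cancel, map_one]
      calc m s = m s * (m s⁻¹ * l s) := by rw [h1, mul_one]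
        _ = l s := by rw [← mul_assoc, h2, one_mul]
    · rintro rfl
      ext s
      show m s⁻¹ * m s = 1
      rw [← map_mul, inv_mul_cancel, map_one]
  rw [show (∑ s : P, m s⁻¹ * l s) = ∑ s : P, f s from rfl, h]
  by_cases hm : m = l
  · rw [if_pos hm, if_pos (hf.mpr hm), Nat.card_eq_fintype_card]
  · rw [if_neg hm, if_neg (mt hf.mp hm), Nat.cast_zero, zero_smul]


theorem proj_add [Fintype P] (ρ : Representation K S V) (l : P →* K) (a b : V) :
    proj ρ l (a + b) = proj ρ l a + proj ρ l b := by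
  simp only [proj, map_add, smul_add, Finset.sum_add_distrib]

theorem proj_smul [Fintype P] (ρ : Representation K S V) (l : P →* K) (c : K) (a : V) :
    proj ρ l (c • a) = c • proj ρ l a := by
  simp only [proj, map_smul, Finset.smul_sum, smul_smul, mul_comm]

/-- A nontrivial weight vector. -/
theorem exists_weight [IsAlgClosed K] [FiniteDimensional K V] [CharP K 2]
    (hPc : ∀ a b : P, a * b = b * a) (hodd : Odd (Nat.card P))
    (ρ : Representation K S V) (x : P) (hx : ρ (x : S) ≠ 1) :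
    ∃ (l : P →* K) (u : V), l ≠ 1 ∧ u ≠ 0 ∧ ∀ s : P, ρ (s : S) u = l s • u := by
  classical
  set r : P →* Module.End K V := ρ.comp P.subtype with hr
  set m := orderOf x with hm
  have hmodd : Odd m := hodd.of_dvd_nat (orderOf_dvd_natCard x)
  have hxm : r x ^ m = 1 := by rw [← map_pow, pow_orderOf_eq_one, map_one]
  set Q : Module.End K V := ∑ i ∈ Finset.range m, r x ^ i with hQ
  have hQf : Q * (r x - 1) = 0 := by rw [hQ, geom_sum_mul, hxm, sub_self]
  obtain ⟨w, hw⟩ : ∃ w, (r x - 1) w ≠ 0 := by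
    by_contra hcon
    push Not at hcon
    exact hx (sub_eq_zero.mp (LinearMap.ext hcon))
  have hcomm : ∀ s : P, Commute (r s) Q := fun s =>
    Commute.sum_right _ _ _ fun i _ =>
      ((show Commute s x from hPc s x).map r).pow_right i
  have key : ∀ t : Finset P, ∃ u, u ≠ 0 ∧ Q u = 0 ∧ ∀ s ∈ t, ∃ c : K, r s u = c • u := by
    intro t
    induction t using Finset.induction with
    | empty =>
      exact ⟨(r x - 1) w, hw, by rw [← Module.End.mul_apply, hQf]; rfl, by simp⟩
    | insert a t ha ih =>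
      obtain ⟨u, hu, hQu, hc⟩ := ih
      choose c hc using hc
      let U : Submodule K V := LinearMap.ker Q ⊓
        ⨅ s : t, LinearMap.ker (r s.1 - c s.1 s.2 • (1 : Module.End K V))
      have hmem : ∀ z, z ∈ U ↔ Q z = 0 ∧ ∀ s (h : s ∈ t), r s z = c s h • z := fun z => by
        simp [U, sub_eq_zero]
      have hinv : ∀ z ∈ U, r a z ∈ U := by
        intro z hz
        rw [hmem] at hz ⊢
        refine ⟨?_, fun s h => ?_⟩
        · rw [← Module.End.mul_apply, ← (hcomm a).eq, Module.End.mul_apply, hz.1, map_zero]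
        · rw [← Module.End.mul_apply, ← ((show Commute a s from hPc a s).map r).eq,
            Module.End.mul_apply, hz.2 s h, map_smul]
      haveI : Nontrivial U := ⟨⟨u, (hmem u).mpr ⟨hQu, hc⟩⟩, 0, fun h => hu (congrArg Subtype.val h)⟩
      obtain ⟨μ, hμ⟩ := Module.End.exists_eigenvalue ((r a).restrict hinv)
      obtain ⟨v, hv⟩ := hμ.exists_hasEigenvector
      refine ⟨v, fun h => hv.2 (Subtype.ext h), ((hmem v).mp v.2).1, fun s hs => ?_⟩
      rcases Finset.mem_insert.mp hs with rfl | hs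
      · exact ⟨μ, congrArg Subtype.val hv.apply_eq_smul⟩
      · exact ⟨_, ((hmem v).mp v.2).2 s hs⟩
  haveI := Fintype.ofFinite P
  obtain ⟨u, hu, hQu, hc⟩ := key Finset.univ
  choose c hc using fun s => hc s (Finset.mem_univ s)
  have hinj : ∀ a b : K, a • u = b • u → a = b := fun a b h => smul_left_injective K hu h
  let l : P →* K :=
    { toFun := c
      map_one' := hinj _ _ (by rw [← hc, map_one, one_smul]; rfl)
      map_mul' := fun a b => hinj _ _ (by
        rw [← hc, map_mul, Module.End.mul_apply, hc, map_smul, hc, smul_smul, mul_comm]) }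
  refine ⟨l, u, fun hl => hu ?_, hu, fun s => hc s⟩
  have hxu : r x u = u := by
    rw [hc, show c x = 1 from DFunLike.congr_fun hl x, one_smul]
  have hi : ∀ i : ℕ, (r x ^ i) u = u := by
    intro i
    induction i with
    | zero => rfl
    | succ i ih => rw [pow_succ, Module.End.mul_apply, hxu, ih]
  have h1 : Q u = (m : K) • u := by
    rw [hQ, LinearMap.sum_apply, Finset.sum_congr rfl fun i _ => hi i, Finset.sum_const,
      Finset.card_range, ← Nat.cast_smul_eq_nsmul K]
  obtain ⟨n, hn⟩ := hmodd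
  rw [hQu, hn, Nat.cast_add, Nat.cast_mul, show ((2 : ℕ) : K) = 0 from CharP.cast_eq_zero K 2,
    zero_mul, zero_add, Nat.cast_one, one_smul] at h1
  exact h1.symm

/-- A nonzero vector fixed by a 2-group in the span of an orbit, in characteristic 2. -/
theorem exists_fixed [Algebra (ZMod 2) K] [Module (ZMod 2) V] [IsScalarTower (ZMod 2) K V]
    (ρ : Representation K S V) {T : Subgroup S} (hT : IsPGroup 2 T) {u : V} (hu : u ≠ 0) :
    ∃ v : V, v ≠ 0 ∧ (∀ g ∈ T, ρ g v = v) ∧
      v ∈ Submodule.span K (Set.range fun g : T => ρ (g : S) u) := by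
  classical
  let W : Submodule (ZMod 2) V := Submodule.span (ZMod 2) (Set.range fun g : T => ρ (g : S) u)
  haveI : Module.Finite (ZMod 2) W := Module.Finite.span_of_finite _ (Set.finite_range _)
  haveI : Finite W := Module.finite_of_finite (ZMod 2)
  have hW : ∀ g : T, ∀ z ∈ W, ρ (g : S) z ∈ W := by
    intro g z hz
    induction hz using Submodule.span_induction with
    | mem z hz =>
      obtain ⟨h, rfl⟩ := hz
      refine Submodule.subset_span ⟨g * h, ?_⟩
      show ρ ((g : S) * h) u = _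
      rw [map_mul]; rfl
    | zero => simp
    | add a b _ _ ha hb => rw [map_add]; exact W.add_mem ha hb
    | smul a b _ hb => rw [LinearMap.map_smul_of_tower]; exact W.smul_mem a hb
  letI : MulAction T W :=
    { smul := fun g z => ⟨ρ (g : S) z.1, hW g z.1 z.2⟩
      one_smul := fun z => Subtype.ext (by show ρ ((1 : T) : S) z.1 = z.1; simp)
      mul_smul := fun g h z => Subtype.ext (by
        show ρ ((g : S) * h) z.1 = ρ (g : S) (ρ (h : S) z.1)
        rw [map_mul]; rfl) }
  have huW : u ∈ W := Submodule.subset_span ⟨1, by simp⟩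
  haveI : Nontrivial W := ⟨⟨u, huW⟩, 0, fun h => hu (congrArg Subtype.val h)⟩
  have h2 : 2 ∣ Nat.card W := by
    rw [Module.natCard_eq_pow_finrank (K := ZMod 2), Nat.card_zmod]
    exact dvd_pow_self 2 Module.finrank_pos.ne'
  obtain ⟨b, hb, hb0⟩ := hT.exists_fixed_point_of_prime_dvd_card_of_fixed_point W h2
    (a := 0) (fun g => Subtype.ext (map_zero (ρ (g : S))))
  refine ⟨b.1, fun h => hb0 (Subtype.ext h).symm, fun g hg => congrArg Subtype.val (hb ⟨g, hg⟩), ?_⟩
  exact Submodule.span_le_restrictScalars (ZMod 2) K _ b.2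


/-- The count of fixed vectors through the orbits of weights. -/
theorem core [Fintype P] [Algebra (ZMod 2) K] [Module (ZMod 2) V] [IsScalarTower (ZMod 2) K V]
    (R : Representation K S V) {q : ℕ} (hq : q.Prime) (hq2 : q ≠ 2) {T Q : Subgroup S}
    (hT2 : IsPGroup 2 T) (hQ2 : IsPGroup q Q) (hcomm : ⁅P, Q⁆ = P)
    (hcard1 : (Nat.card P : K) = 1) (lam : P →* K) (u : V) (hlam : lam ≠ 1) (hu : u ≠ 0)
    (huw : ∀ s : P, R (s : S) u = lam s • u) (W : Submodule K V) [Module.Finite K W]
    (hfixW : ∀ z : V, (∀ g ∈ T, R g z = z) → z ∈ W) :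
    2 ≤ Module.finrank K W ∧ (Module.finrank K W ≤ 2 →
      ∃ g ∈ Q, ∃ z : V, (∀ t ∈ T, R t z = z) ∧ ¬ ∀ t ∈ T, R t (R g z) = R g z) := by
  haveI := Fact.mk hq
  haveI : Fact (Nat.Prime 2) := ⟨Nat.prime_two⟩
  classical
  letI : MulAction S (P →* K) := wAction
  -- weights and their vectors
  have hwt : ∀ (g : S) (s : P), R (s : S) (R g u) = (wconj g lam) s • R g u := by
    intro g s
    have h1 : (s : S) * g = g * ((MulAut.conjNormal (H := P) g⁻¹ s : P) : S) := by
      simp [mul_assoc]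
    rw [← Module.End.mul_apply, ← map_mul, h1, map_mul, Module.End.mul_apply, huw, map_smul]
    rfl
  -- the orbit of the weight
  set Ω : Set (P →* K) := MulAction.orbit (T ⊔ Q : Subgroup S) lam with hΩ
  have hΩne : ∀ μ ∈ Ω, μ ≠ 1 := by
    rintro μ ⟨⟨g, hg⟩, rfl⟩ h
    refine hlam ?_
    have h1 : wconj g⁻¹ (wconj g lam) = wconj g⁻¹ 1 := congrArg _ h
    rw [← wconj_mul, inv_mul_cancel, wconj_one] at h1
    rw [h1]; ext s; rfl
  have hΩinv : ∀ g ∈ T ⊔ Q, ∀ μ ∈ Ω, g • μ ∈ Ω := by
    rintro g hg μ ⟨⟨k, hk⟩, rfl⟩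
    exact ⟨⟨g * k, mul_mem hg hk⟩, mul_smul g k lam⟩
  -- no fixed weight for `Q`
  have hQfix : ∀ μ ∈ Ω, ∃ g ∈ Q, g • μ ≠ μ := by
    intro μ hμ
    by_contra hcon
    push Not at hcon
    refine hΩne μ hμ (MonoidHom.ext fun s => ?_)
    let D : Subgroup S := μ.ker.map P.subtype
    have hD : ⁅P, Q⁆ ≤ D := Subgroup.commutator_le.mpr fun a ha g hg => by
      have h1 : μ (MulAut.conjNormal (H := P) g⁻¹⁻¹ ⟨a⁻¹, inv_mem ha⟩) = μ ⟨a⁻¹, inv_mem ha⟩ :=
        DFunLike.congr_fun (hcon g⁻¹ (inv_mem hg)) _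
      refine ⟨⟨a, ha⟩ * MulAut.conjNormal (H := P) g⁻¹⁻¹ ⟨a⁻¹, inv_mem ha⟩, ?_, ?_⟩
      · show μ _ = 1
        rw [map_mul, h1, ← map_mul]
        convert map_one μ using 2
        exact Subtype.ext (mul_inv_cancel a)
      · simp [commutatorElement_def, mul_assoc]
    rw [hcomm] at hD
    obtain ⟨t, ht, hts⟩ := hD s.2
    rw [show s = t from (Subtype.ext hts).symm]
    exact ht
  have hqΩ : q ∣ Nat.card Ω := by
    let A : SubMulAction Q (P →* K) :=
      { carrier := Ω, smul_mem' := fun g μ hμ => hΩinv g (le_sup_right (a := T) g.2) μ hμ }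
    have h1 := (haveI : Finite A := (Set.finite_range _).to_subtype; hQ2.card_modEq_card_fixedPoints A)
    haveI : IsEmpty (MulAction.fixedPoints Q A) := ⟨fun μ => by
      obtain ⟨g, hg, hne⟩ := hQfix μ.1.1 μ.1.2
      exact hne (congrArg Subtype.val (μ.2 ⟨g, hg⟩))⟩
    rw [Nat.card_of_isEmpty (α := MulAction.fixedPoints Q A)] at h1
    exact Nat.modEq_zero_iff_dvd.mp h1
  have hTq : ∀ μ : P →* K, ∃ a : ℕ, Nat.card (MulAction.orbit T μ) = 2 ^ a := fun μ => by
    haveI : Finite (MulAction.orbit T μ) := (Set.finite_range _).to_subtype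
    haveI := Fintype.ofFinite (MulAction.orbit T μ)
    obtain ⟨a, ha⟩ := hT2.card_orbit μ
    exact ⟨a, ha⟩
  have horbΩ : ∀ μ ∈ Ω, MulAction.orbit T μ ⊆ Ω := by
    rintro μ hμ _ ⟨g, rfl⟩
    exact hΩinv g (le_sup_left (b := Q) g.2) μ hμ
  have hq2' : ∀ a : ℕ, ¬ q ∣ 2 ^ a := fun a h =>
    hq2 ((Nat.prime_dvd_prime_iff_eq hq Nat.prime_two).mp (hq.dvd_of_dvd_pow h))
  -- supports
  let supp : V → Set (P →* K) := fun v => {μ | proj R μ v ≠ 0}
  have hsupp : ∀ (g : S) (v : V) (μ : P →* K), μ ∈ supp v → g • μ ∈ supp (R g v) := by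
    intro g v μ hμ h
    refine hμ ?_
    have h1 : R g (proj R μ v) = 0 := (proj_conj R g μ v).trans h
    have h2 := congrArg (R g⁻¹) h1
    rwa [map_zero, ← Module.End.mul_apply, ← map_mul, inv_mul_cancel, map_one,
      Module.End.one_apply] at h2
  -- one fixed vector for each orbit
  have hvec : ∀ μ ∈ Ω, ∃ v : V, (∀ g ∈ T, R g v = v) ∧ supp v = MulAction.orbit T μ := by
    rintro μ ⟨⟨g, hg⟩, rfl⟩
    have hgu : R g u ≠ 0 := fun h => hu (by
      have h2 := congrArg (R g⁻¹) h
      rwa [map_zero, ← Module.End.mul_apply, ← map_mul, inv_mul_cancel, map_one,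
        Module.End.one_apply] at h2)
    obtain ⟨v, hv, hvfix, hvspan⟩ := exists_fixed R hT2 hgu
    refine ⟨v, hvfix, ?_⟩
    have hsub : supp v ⊆ MulAction.orbit T (g • lam) := by
      intro ν hν
      by_contra hno
      refine hν ?_
      have : ∀ z ∈ Submodule.span K (Set.range fun h : T => R (h : S) (R g u)), proj R ν z = 0 := by
        intro z hz
        induction hz using Submodule.span_induction with
        | mem z hz =>
          obtain ⟨h, rfl⟩ := hz
          show proj R ν (R (h : S) (R g u)) = 0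
          rw [show R (h : S) (R g u) = R ((h : S) * g) u by rw [map_mul]; rfl,
            proj_weight R _ ν (hwt _), if_neg]
          rintro rfl
          exact hno ⟨h, (mul_smul (h : S) g lam).symm⟩
        | zero => simp [proj]
        | add a b _ _ ha hb => rw [proj_add, ha, hb, add_zero]
        | smul a b _ hb =>
          rw [proj_smul, hb, smul_zero]
      exact this v hvspan
    refine hsub.antisymm fun ν hν => ?_
    obtain ⟨ν₀, hν₀⟩ : (supp v).Nonempty := by
      by_contra hemp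
      refine hv ?_
      have h0 : ∀ ν, proj R ν v = 0 := fun ν => by
        by_contra h; exact hemp ⟨ν, h⟩
      have hrec : ∀ z ∈ Submodule.span K (Set.range fun h : T => R (h : S) (R g u)),
          z = ∑ ν ∈ (Set.finite_range (fun h : T => h • (g • lam)) : (MulAction.orbit T (g • lam)).Finite).toFinset, proj R ν z := by
        intro z hz
        induction hz using Submodule.span_induction with
        | mem z hz =>
          obtain ⟨h, rfl⟩ := hz
          dsimp only
          rw [show R (h : S) (R g u) = R ((h : S) * g) u by rw [map_mul]; rfl]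
          rw [Finset.sum_congr rfl fun ν _ => proj_weight R _ ν (hwt ((h : S) * g)), hcard1, one_smul]
          rw [Finset.sum_ite_eq', if_pos]
          exact (Set.Finite.mem_toFinset _).mpr ⟨h, (mul_smul (h : S) g lam).symm⟩
        | zero => simp [proj]
        | add a b _ _ ha hb =>
          simp only [proj_add, Finset.sum_add_distrib, ← ha, ← hb]
        | smul a b _ hb =>
          simp only [proj_smul, ← Finset.smul_sum, ← hb]
      rw [hrec v hvspan, Finset.sum_eq_zero fun ν _ => h0 ν]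
    obtain ⟨h, hh⟩ := (MulAction.mem_orbit_symm.mpr (hsub hν₀) :
      g • lam ∈ MulAction.orbit T ν₀)
    obtain ⟨k, rfl⟩ := hν
    have h3 := hsupp ((k : S) * h) v ν₀ hν₀
    rw [hvfix _ (mul_mem k.2 h.2), mul_smul] at h3
    rwa [show (h : S) • ν₀ = g • lam from hh] at h3
  -- independence
  have hindep : ∀ (n : ℕ) (μ : Fin n → (P →* K)), (∀ i, μ i ∈ Ω) →
      (∀ i j, i ≠ j → μ i ∉ MulAction.orbit T (μ j)) → n ≤ Module.finrank K W := by
    intro n μ hμ hdis
    choose v hv hvs using fun i => hvec (μ i) (hμ i)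
    let w : Fin n → W := fun i => ⟨v i, hfixW _ (hv i)⟩
    have hw : LinearIndependent K w := by
      rw [Fintype.linearIndependent_iff]
      intro c hc i
      have h1 : ∑ j, c j • v j = 0 := by simpa [w] using congrArg Subtype.val hc
      have h2 := congrArg (proj R (μ i)) h1
      have hlin : ∀ (S' : Finset (Fin n)), proj R (μ i) (∑ j ∈ S', c j • v j) =
          ∑ j ∈ S', c j • proj R (μ i) (v j) := by
        intro S'
        induction S' using Finset.induction with
        | empty => simp [proj]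
        | insert a t hat ih => rw [Finset.sum_insert hat, Finset.sum_insert hat, proj_add, proj_smul, ih]
      rw [hlin, show proj R (μ i) (0 : V) = 0 by simp [proj], Finset.sum_eq_single i] at h2
      · exact (smul_eq_zero.mp h2).resolve_right (show μ i ∈ supp (v i) by
          rw [hvs i]; exact MulAction.mem_orbit_self _)
      · intro j _ hji
        have h3 : μ i ∉ supp (v j) := by rw [hvs j]; exact hdis i j (Ne.symm hji)
        rw [show proj R (μ i) (v j) = 0 from not_not.mp h3, smul_zero]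
      · simp
    exact (Fintype.card_fin n).symm.trans_le (hw.fintype_card_le_finrank)
  -- two orbits
  set O₁ := MulAction.orbit T lam with hO₁
  have hO₁f : O₁.Finite := Set.finite_range _
  have hlamΩ : lam ∈ Ω := MulAction.mem_orbit_self _
  obtain ⟨μ₂, hμ₂Ω, hμ₂⟩ : ∃ μ ∈ Ω, μ ∉ O₁ := by
    by_contra hcon
    push Not at hcon
    obtain ⟨a, ha⟩ := hTq lam
    rw [(horbΩ lam hlamΩ).antisymm hcon] at ha
    exact hq2' a (ha ▸ hqΩ)
  set O₂ := MulAction.orbit T μ₂ with hO₂
  have hdisj : Disjoint O₁ O₂ := Set.disjoint_left.mpr fun ν h1 h2 => hμ₂ (by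
    rw [hO₁, ← MulAction.orbit_eq_iff.mpr h1]
    exact MulAction.mem_orbit_symm.mp h2)
  have n12 : lam ∉ O₂ := fun h => hμ₂ (MulAction.mem_orbit_symm.mp h)
  by_cases h3 : ∃ μ ∈ Ω, μ ∉ O₁ ∧ μ ∉ O₂
  · obtain ⟨μ₃, hμ₃, hμ31, hμ32⟩ := h3
    have n13 : lam ∉ MulAction.orbit T μ₃ := fun h => hμ31 (MulAction.mem_orbit_symm.mp h)
    have n23 : μ₂ ∉ MulAction.orbit T μ₃ := fun h => hμ32 (MulAction.mem_orbit_symm.mp h)
    have := hindep 3 ![lam, μ₂, μ₃] (by intro i; fin_cases i <;> assumption) (by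
      intro i j hij
      fin_cases i <;> fin_cases j <;> first | exact absurd rfl hij | assumption)
    exact ⟨by omega, fun h => by omega⟩
  push Not at h3
  have hΩeq : Ω = O₁ ∪ O₂ := Set.Subset.antisymm
    (fun μ hμ => (em (μ ∈ O₁)).imp_right (h3 μ hμ))
    (Set.union_subset (horbΩ lam hlamΩ) (horbΩ μ₂ hμ₂Ω))
  have hd2 := hindep 2 ![lam, μ₂] (by intro i; fin_cases i <;> assumption) (by
      intro i j hij
      fin_cases i <;> fin_cases j <;> first | exact absurd rfl hij | assumption)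
  refine ⟨hd2, fun _ => ?_⟩
  by_contra hcon
  push Not at hcon
  obtain ⟨a, ha⟩ := hTq lam
  obtain ⟨b, hb⟩ := hTq μ₂
  have hab : a ≠ b := by
    rintro rfl
    refine hq2' (a + 1) ?_
    rw [pow_succ, mul_two]
    have h1 : Nat.card Ω = Nat.card O₁ + Nat.card O₂ := by
      rw [hΩeq, Nat.card_coe_set_eq, Nat.card_coe_set_eq, Nat.card_coe_set_eq,
        Set.ncard_union_eq hdisj hO₁f (Set.finite_range _)]
    rw [h1, ha, hb] at hqΩ
    exact hqΩ
  obtain ⟨v₁, hv₁, hv₁s⟩ := hvec lam hlamΩ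
  -- `O₁` is invariant under `Q`
  have hQO : ∀ g ∈ Q, ∀ ν ∈ O₁, g • ν ∈ O₁ := by
    intro g hg
    have hz := hcon g hg v₁ hv₁
    set U := supp (R g v₁) with hU
    have hUimg : U = (fun ν => g • ν) '' O₁ := by
      refine Set.Subset.antisymm (fun ν hν => ?_) ?_
      · refine ⟨g⁻¹ • ν, ?_, smul_inv_smul g ν⟩
        have h1 := hsupp g⁻¹ _ _ hν
        rwa [← Module.End.mul_apply, ← map_mul, inv_mul_cancel, map_one, Module.End.one_apply,
          hv₁s] at h1
      · rintro _ ⟨ν, hν, rfl⟩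
        exact hsupp g v₁ ν (hv₁s.symm ▸ hν)
    have hUΩ : U ⊆ Ω := by
      rw [hUimg]
      rintro _ ⟨ν, hν, rfl⟩
      exact hΩinv g (le_sup_right (a := T) hg) ν (horbΩ lam hlamΩ hν)
    have hUT : ∀ ν ∈ U, MulAction.orbit T ν ⊆ U := by
      rintro ν hν _ ⟨t, rfl⟩
      have h1 := hsupp (t : S) _ ν hν
      rwa [hz t t.2] at h1
    have hUcard : Nat.card U = 2 ^ a := by
      rw [hUimg, Nat.card_image_of_injective (MulAction.injective g), ha]
    intro ν hν
    have hνU : g • ν ∈ U := hUimg ▸ ⟨ν, hν, rfl⟩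
    by_contra hno
    have hν2 : g • ν ∈ O₂ := (hΩeq ▸ hUΩ hνU : g • ν ∈ O₁ ∪ O₂).resolve_left hno
    have hO2U : O₂ ⊆ U := by
      rw [hO₂, ← MulAction.orbit_eq_iff.mpr hν2]
      exact hUT _ hνU
    have hU2 : U ⊆ O₂ := fun κ hκ => (hΩeq ▸ hUΩ hκ : κ ∈ O₁ ∪ O₂).resolve_left fun hκ1 => by
      have hO1U : O₁ ⊆ U := by
        rw [hO₁, ← MulAction.orbit_eq_iff.mpr hκ1]
        exact hUT _ hκ
      have h4 : Nat.card Ω ≤ Nat.card U := by
        rw [hΩeq]; exact Nat.card_mono (hUimg ▸ hO₁f.image _) (Set.union_subset hO1U hO2U)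
      rw [hΩeq, Nat.card_coe_set_eq, Set.ncard_union_eq hdisj hO₁f (Set.finite_range _),
        ← Nat.card_coe_set_eq, ← Nat.card_coe_set_eq, ha, hb, hUcard] at h4
      have := Nat.two_pow_pos b
      omega
    exact hab (Nat.pow_right_injective le_rfl ((hUcard.symm.trans
      (congrArg (fun X : Set (P →* K) => Nat.card X) (hU2.antisymm hO2U))).trans hb))
  refine hμ₂ ?_
  obtain ⟨⟨g, hg⟩, rfl⟩ := hμ₂Ω
  have hTO : ∀ k ∈ T, ∀ ν ∈ O₁, k • ν ∈ O₁ := fun k hk ν hν =>
    MulAction.mem_orbit_of_mem_orbit (⟨k, hk⟩ : T) hν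
  have hle : ∀ k ∈ T ⊔ Q, ∀ ν ∈ O₁, k • ν ∈ O₁ := by
    intro k hk
    rw [Subgroup.sup_eq_closure] at hk
    induction hk using Subgroup.closure_induction'' with
    | mem k hk => exact hk.elim (fun h => hTO k h) (fun h => hQO k h)
    | inv_mem k hk => exact hk.elim (fun h => hTO k⁻¹ (inv_mem h)) (fun h => hQO k⁻¹ (inv_mem h))
    | one => intro ν hν; rwa [one_smul]
    | mul a b _ _ ha hb => intro ν hν; rw [mul_smul]; exact ha _ (hb _ hν)
  exact hle g hg lam (MulAction.mem_orbit_self _)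

/-- Let S be a finite solvable group whose order is divisible only by the primes 2, p, q (p, q distinct odd primes), with a Sylow system S₂, S_p, S_q (pairwise permutable Sylow subgroups) such that: S_p is a minimal normal subgroup of S of order p or p²; S_q has order q and [S_p, S_q] = S_p; and O₂(S) = 1. Let E be an irreducible module for S over the field with two elements on which S_p acts faithfully, and E₀ the subspace of fixed points of S₂. Then either E₀ has at least 8 elements, or E₀ has exactly 4 elements and S_q does not leave E₀ invariant. -/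
theorem result {S : Type*} [Group S] [Finite S]
    [Group.IsSolvable S] (p q : ℕ) (hp : p.Prime) (hq : q.Prime) (hp2 : p ≠ 2) (hq2 : q ≠ 2) (hpq : p ≠ q)
    (hπ : ∀ r : ℕ, r.Prime → r ∣ Nat.card S → r = 2 ∨ r = p ∨ r = q)
    (S₂ : Sylow 2 S) (Sp : Sylow p S) (Sq : Sylow q S)
    (h2q : Nat.card ↥((S₂ : Subgroup S) ⊔ (Sq : Subgroup S)) = Nat.card ↥S₂ * Nat.card ↥Sq)
    (h2p : Nat.card ↥((S₂ : Subgroup S) ⊔ (Sp : Subgroup S)) = Nat.card ↥S₂ * Nat.card ↥Sp)
    (hpq' : Nat.card ↥((Sp : Subgroup S) ⊔ (Sq : Subgroup S)) = Nat.card ↥Sp * Nat.card ↥Sq)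
    (hSpN : (Sp : Subgroup S).Normal) (hSpmin : ∀ N : Subgroup S, N.Normal → N ≤ (Sp : Subgroup S) → N = ⊥ ∨ N = (Sp : Subgroup S))
    (hSpcard : Nat.card ↥Sp = p ∨ Nat.card ↥Sp = p ^ 2)
    (hSq : Nat.card ↥Sq = q) (hcomm : ⁅(Sp : Subgroup S), (Sq : Subgroup S)⁆ = (Sp : Subgroup S))
    (hO2 : Cfsg.pCore 2 S = ⊥)
    {E : Type*} [AddCommGroup E] [Module (ZMod 2) E] [Finite E] (ρ : Representation (ZMod 2) S E) (hE : Nontrivial E)
    (hirr : ∀ N : Submodule (ZMod 2) E, (∀ s : S, ∀ m ∈ N, ρ s m ∈ N) → N = ⊥ ∨ N = ⊤)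
    (hfaith : ∀ x ∈ (Sp : Subgroup S), ρ x = 1 → x = 1) :
    8 ≤ Nat.card {v : E // ∀ s ∈ (S₂ : Subgroup S), ρ s v = v} ∨
      (Nat.card {v : E // ∀ s ∈ (S₂ : Subgroup S), ρ s v = v} = 4 ∧
        ∃ x ∈ (Sq : Subgroup S), ∃ v : E, (∀ s ∈ (S₂ : Subgroup S), ρ s v = v) ∧ ¬ ∀ s ∈ (S₂ : Subgroup S), ρ s (ρ x v) = ρ x v) := by
  classical
  haveI := Fact.mk hp
  haveI := Fact.mk hq
  haveI : Fact (Nat.Prime 2) := ⟨Nat.prime_two⟩
  haveI := hSpN
  set P : Subgroup S := (Sp : Subgroup S) with hP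
  haveI := Fintype.ofFinite P
  have hPcard : Nat.card P = p ∨ Nat.card P = p ^ 2 := hSpcard
  have hodd : Odd (Nat.card P) := by
    rcases hPcard with h | h
    · rw [h]; exact hp.odd_of_ne_two hp2
    · rw [h]; exact (hp.odd_of_ne_two hp2).pow
  have hPc : ∀ a b : P, a * b = b * a := by
    rcases hPcard with h | h
    · haveI := isCyclic_of_prime_card h
      exact fun a b => mul_comm' a b
    · exact fun a b => (IsPGroup.isMulCommutative_of_card_eq_prime_sq h).is_comm.comm a b
  let K := AlgebraicClosure (ZMod 2)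
  haveI : CharP K 2 := charP_of_injective_algebraMap (algebraMap (ZMod 2) K).injective 2
  haveI : Module.Finite (ZMod 2) E := Module.Finite.of_finite
  let bE := Module.finBasis (ZMod 2) E
  let bE' := Algebra.TensorProduct.basis K bE
  let R : Representation K S (K ⊗[ZMod 2] E) :=
    { toFun := fun s => (ρ s).baseChange K
      map_one' := by rw [map_one, LinearMap.baseChange_one]
      map_mul' := fun a b => by rw [map_mul, LinearMap.baseChange_mul] }
  obtain ⟨x, hxne⟩ : ∃ x : P, x ≠ 1 := by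
    haveI : Nontrivial P := Finite.one_lt_card_iff_nontrivial.mp (by
      rcases hPcard with h | h <;> rw [h]
      · exact hp.one_lt
      · exact Nat.one_lt_pow two_ne_zero hp.one_lt)
    exact exists_ne 1
  have hx : R (x : S) ≠ 1 := by
    intro h
    refine hxne (Subtype.ext (hfaith _ x.2 (LinearMap.ext fun v => ?_)))
    have h1 : (1 : K) ⊗ₜ[ZMod 2] ρ (x : S) v = (1 : K) ⊗ₜ[ZMod 2] v := by
      have h2 := LinearMap.congr_fun h ((1 : K) ⊗ₜ[ZMod 2] v)
      simpa [R] using h2
    have h3 := congrArg (fun z => bE'.repr z) h1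
    refine bE.repr.injective (Finsupp.ext fun j => ?_)
    have h4 := DFunLike.congr_fun h3 j
    simp only [bE', Algebra.TensorProduct.basis_repr_tmul] at h4
    simpa using h4
  haveI : FiniteDimensional K (K ⊗[ZMod 2] E) := bE'.finiteDimensional_of_finite
  obtain ⟨lam, u, hlam, hu, huw⟩ := exists_weight hPc hodd R x hx
  have hcard1 : (Nat.card P : K) = 1 := by
    obtain ⟨n, hn⟩ := hodd
    rw [hn, Nat.cast_add, Nat.cast_mul, show ((2 : ℕ) : K) = 0 from CharP.cast_eq_zero K 2,
      zero_mul, zero_add, Nat.cast_one]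
  set T : Subgroup S := (S₂ : Subgroup S) with hT
  set Q : Subgroup S := (Sq : Subgroup S) with hQ
  set E₀ : Submodule (ZMod 2) E :=
    { carrier := {v | ∀ s ∈ T, ρ s v = v}
      add_mem' := fun ha hb s hs => by rw [map_add, ha s hs, hb s hs]
      zero_mem' := fun s _ => map_zero _
      smul_mem' := fun c v hv s hs => by rw [map_smul, hv s hs] } with hE₀
  haveI : Module.Finite (ZMod 2) E := Module.Finite.of_finite
  set W : Submodule K (K ⊗[ZMod 2] E) :=
    Submodule.span K (Set.range fun i => (1 : K) ⊗ₜ[ZMod 2] ((Module.finBasis (ZMod 2) E₀ i : E₀) : E))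
    with hW
  have hfixW : ∀ z : (K ⊗[ZMod 2] E), (∀ g ∈ T, R g z = z) → z ∈ W := by
    intro z hz
    have h1 := mem_span_of_forall_fixed (fun g : T => ρ (g : S)) z fun g => hz g g.2
    refine (Submodule.span_le.mpr ?_) h1
    rintro _ ⟨v, hv, rfl⟩
    have hv' : v ∈ E₀ := fun s hs => hv ⟨s, hs⟩
    have h2 := (Module.finBasis (ZMod 2) E₀).sum_repr ⟨v, hv'⟩
    have h3 : v = ∑ i, (Module.finBasis (ZMod 2) E₀).repr ⟨v, hv'⟩ i •
        ((Module.finBasis (ZMod 2) E₀ i : E₀) : E) := by
      have h4 := congrArg E₀.subtype h2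
      rw [map_sum] at h4
      simpa only [map_smul, Submodule.subtype_apply] using h4.symm
    show (1 : K) ⊗ₜ[ZMod 2] v ∈ W
    rw [h3, TensorProduct.tmul_sum]
    refine Submodule.sum_mem _ fun i _ => ?_
    rw [TensorProduct.tmul_smul, ← algebraMap_smul K]
    exact W.smul_mem _ (Submodule.subset_span ⟨i, rfl⟩)
  have hWd : Module.finrank K W ≤ Module.finrank (ZMod 2) E₀ :=
    (finrank_range_le_card _).trans_eq (Fintype.card_fin _)
  have hcard : Nat.card {v : E // ∀ s ∈ T, ρ s v = v} = 2 ^ Module.finrank (ZMod 2) E₀ := by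
    have := Module.natCard_eq_pow_finrank (K := ZMod 2) (V := E₀)
    rwa [Nat.card_zmod] at this
  rw [hcard]
  obtain ⟨hd2, hd⟩ := core R hq hq2 (S₂.2 : IsPGroup 2 T) (Sq.2 : IsPGroup q Q) hcomm hcard1 lam u
    hlam hu huw W hfixW
  rcases (hd2.trans hWd).lt_or_eq with h | h
  · left
    exact le_trans (by norm_num) (Nat.pow_le_pow_right two_pos (show 3 ≤ _ from h))
  right
  refine ⟨by rw [← h]; norm_num, ?_⟩
  obtain ⟨g, hg, z, hz, hgz⟩ := hd (hWd.trans_eq h.symm)
  by_contra hcon
  push Not at hcon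
  refine hgz ?_
  intro t ht
  have hzW := hfixW z hz
  clear hz hgz
  induction hzW using Submodule.span_induction with
  | mem z hz =>
    obtain ⟨i, rfl⟩ := hz
    simp only [R, MonoidHom.coe_mk, OneHom.coe_mk, LinearMap.baseChange_tmul]
    rw [hcon g hg _ (Module.finBasis (ZMod 2) E₀ i).2 t ht]
  | zero => simp
  | add a b _ _ ha hb => simp only [map_add, ha, hb]
  | smul a b _ hb => simp only [map_smul, hb]

end Cfsg.Agent.S4414
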