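import Cfsg.Statements.S4415
import Cfsg.Agent.Lib.CubicBlock.Setting

set_option autoImplicit false
open Cfsg

namespace Cfsg.Agent.S4415

open scoped commutatorElement

/-- Let S be a finite solvable group acting faithfully on a finite-dimensional space E over the field with three elements, with O₃(S) = 1. Let B ≤ S have order 3 and suppose: E = E₀ ⊕ E₁ with B fixing E₁ pointwise, E₀ B-invariant of order 27 and indecomposable under B (a generator of B has a single Jordan block on E₀); B normalizes but does not centralize some subgroup Q of S that is elementary abelian of order 4; and B is the centre of a Sylow 3-subgroup of S. Put R = [O_{3'}(S), B]. Then R is elementary abelian of order 4 or extraspecial of order 32 containing an elementary abelian subgroup of order 8 (a central product of two quaternion groups), and E is the direct sum of a subspace fixed pointwise by R and an RB-invariant subspace on which the subgroup RB acts faithfully and irreducibly. -/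
theorem result {S : Type*} [Group S] [Finite S]
    [Group.IsSolvable S] {E : Type*} [AddCommGroup E] [Module (ZMod 3) E] [Finite E] (ρ : Representation (ZMod 3) S E)
    (hfaith : Function.Injective ρ) (hO3 : Cfsg.pCore 3 S = ⊥)
    (B : Subgroup S) (hB : Nat.card ↥B = 3) (b : S) (hb : Subgroup.zpowers b = B)
    (E₀ E₁ : Submodule (ZMod 3) E) (hE01 : E₀ ⊓ E₁ = ⊥) (hE01' : E₀ ⊔ E₁ = ⊤)
    (hE1 : ∀ v ∈ E₁, ρ b v = v) (hE0inv : ∀ v ∈ E₀, ρ b v ∈ E₀) (hE0 : Nat.card ↥E₀ = 27)
    (hind : ∃ v ∈ E₀, ρ b (ρ b v - v) - (ρ b v - v) ≠ 0)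
    (Q : Subgroup S) (hQ : Cfsg.IsElementaryAbelian 2 Q) (hQ4 : Nat.card ↥Q = 4)
    (hBQ : B ≤ Subgroup.normalizer (Q : Set S)) (hBQ' : ¬ B ≤ Subgroup.centralizer (Q : Set S))
    (P : Sylow 3 S) (hBZ : (Subgroup.center ↥(P : Subgroup S)).map (P : Subgroup S).subtype = B) :
    ((Cfsg.IsElementaryAbelian 2 ⁅Cfsg.pPrimeCore 3 S, B⁆ ∧ Nat.card ↥⁅Cfsg.pPrimeCore 3 S, B⁆ = 4) ∨
      (Cfsg.IsExtraspecial 2 ↥⁅Cfsg.pPrimeCore 3 S, B⁆ ∧ Nat.card ↥⁅Cfsg.pPrimeCore 3 S, B⁆ = 32 ∧
        ∃ A : Subgroup S, A ≤ ⁅Cfsg.pPrimeCore 3 S, B⁆ ∧ Cfsg.IsElementaryAbelian 2 A ∧ Nat.card ↥A = 8)) ∧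
    ∃ F₀ F₁ : Submodule (ZMod 3) E, F₀ ⊓ F₁ = ⊥ ∧ F₀ ⊔ F₁ = ⊤ ∧
      (∀ r ∈ ⁅Cfsg.pPrimeCore 3 S, B⁆, ∀ v ∈ F₁, ρ r v = v) ∧ (∀ r ∈ ⁅Cfsg.pPrimeCore 3 S, B⁆ ⊔ B, ∀ v ∈ F₀, ρ r v ∈ F₀) ∧
      (∀ r ∈ ⁅Cfsg.pPrimeCore 3 S, B⁆ ⊔ B, (∀ v ∈ F₀, ρ r v = v) → r = 1) ∧
      (∀ N : Submodule (ZMod 3) E, N ≤ F₀ → (∀ r ∈ ⁅Cfsg.pPrimeCore 3 S, B⁆ ⊔ B, ∀ v ∈ N, ρ r v ∈ N) → N = ⊥ ∨ N = F₀) := by
  classical
  have := Fact.mk Nat.prime_three
  have hb3 : b ^ 3 = 1 := by
    have := congrArg Subtype.val (pow_card_eq_one' (x := (⟨b, hb ▸ Subgroup.mem_zpowers b⟩ : B)))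
    rwa [Subgroup.coe_pow, Subgroup.coe_one, hB] at this
  have hbB : b ∈ B := hb ▸ Subgroup.mem_zpowers b
  have hQel : ∀ q ∈ Q, q * q = 1 := fun q hq => by rw [← pow_two]; exact hQ.2 q hq
  have hQconj : ∀ q ∈ Q, b * q * b⁻¹ ∈ Q := fun q hq =>
    (Subgroup.mem_normalizer_iff.1 (hBQ hbB) q).1 hq
  have hQmove : ∃ q ∈ Q, b * q ≠ q * b := by
    by_contra h
    push Not at h
    exact hBQ' (hb ▸ Subgroup.zpowers_le.2 (Subgroup.mem_centralizer_iff.2 fun q hq => (h q hq).symm))
  set X := Cfsg.pPrimeCore 3 S with hX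
  have hXn : X.Normal := Subgroup.normal_of_characteristic _
  -- `Q` lies in the core
  have hQX : Q ≤ X := by
    have hbc : QuotientGroup.mk' X b ∈ Cfsg.pCore 3 (S ⧸ X) := by
      refine Solvable.centralizer_pCore_le_of_isSolvable (Cores.pPrimeCore_quotient_self 3)
        (Subgroup.mem_centralizer_iff.2 fun x hx => ?_)
      obtain ⟨p, hp, rfl⟩ := Cores.pCore_le_sylow (P.mapSurjective (QuotientGroup.mk'_surjective X)) hx
      rw [← hBZ] at hbB
      obtain ⟨c, hc, rfl⟩ := hbB
      rw [← map_mul, ← map_mul]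
      exact congrArg _ (congrArg Subtype.val (Subgroup.mem_center_iff.1 hc ⟨p, hp⟩))
    refine CubicBlock.le_of_commutator hb3 hQel hQ4 hQconj hQmove fun q hq => ?_
    have hn : (Cfsg.pCore 3 (S ⧸ X)).Normal := Subgroup.normal_of_characteristic _
    have hmem : QuotientGroup.mk' X ⁅b, q⁆ ∈ Cfsg.pCore 3 (S ⧸ X) := by
      rw [map_commutatorElement, commutatorElement_def, mul_assoc, mul_assoc, ← mul_assoc (QuotientGroup.mk' X q)]
      exact mul_mem hbc (hn.conj_mem _ (inv_mem hbc) _)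
    obtain ⟨m, hm⟩ := Cores.isPGroup_pCore 3 (S ⧸ X) ⟨_, hmem⟩
    have h1 := congrArg Subtype.val hm
    rw [Subgroup.coe_pow, Subgroup.coe_one] at h1
    have hcQ : ⁅b, q⁆ ∈ Q := by rw [commutatorElement_def]; exact mul_mem (hQconj q hq) (inv_mem hq)
    have h2 : QuotientGroup.mk' X ⁅b, q⁆ ^ 2 = 1 := by rw [← map_pow, pow_two, hQel _ hcQ, map_one]
    have := pow_gcd_eq_one.2 ⟨h1, h2⟩
    rw [Nat.Coprime.pow_left m (show Nat.Coprime 3 2 by norm_num), pow_one] at this
    exact (QuotientGroup.eq_one_iff _).1 this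
  -- the group `R`
  set R := ⁅X, B⁆ with hR
  have hBX : B ≤ Subgroup.normalizer (X : Set S) := by rw [Subgroup.normalizer_eq_top]; exact le_top
  have hRX : R ≤ X := Coprime.commutator_le_left' hBX
  have hBR : B ≤ Subgroup.normalizer (R : Set S) := Subgroup.normalizer_commutator_ge_right X B
  have hcopX : (Nat.card X).Coprime 3 := Cores.coprime_card_pPrimeCore 3
  have hcopR : (Nat.card R).Coprime 3 := hcopX.coprime_dvd_left (Subgroup.card_dvd_of_le hRX)
  have hRR : ⁅R, B⁆ = R := Coprime.commutator_commutator_eq hBX (by rw [hB]; exact hcopX.symm)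
    (Or.inr inferInstance)
  have hQR : Q ≤ R := CubicBlock.le_of_commutator hb3 hQel hQ4 hQconj hQmove fun q hq => by
    rw [← commutatorElement_inv]
    exact inv_mem (Subgroup.commutator_mem_commutator (hQX hq) hbB)
  set K := R ⊔ B with hK
  have hKR : K ≤ Subgroup.normalizer (R : Set S) := sup_le Subgroup.le_normalizer hBR
  -- the projection
  have : Fintype R := Fintype.ofFinite _
  obtain ⟨t, ht⟩ : ∃ t : ZMod 3, t = (Fintype.card R : ZMod 3) := ⟨_, rfl⟩
  have ht0 : t ≠ 0 := by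
    rw [ht, ← Nat.card_eq_fintype_card]
    exact CubicBlock.natCast_ne_zero_of_coprime hcopR
  let π : E →ₗ[ZMod 3] E := ∑ r : R, ρ (r : S)
  have hπ : ∀ v, π v = ∑ r : R, ρ (r : S) v := fun v => by simp [π]
  let F₁ : Submodule (ZMod 3) E :=
    { carrier := {v | ∀ r ∈ R, ρ r v = v}
      zero_mem' := fun r _ => map_zero _
      add_mem' := fun {u v} hu hv r hr => by rw [map_add, hu r hr, hv r hr]
      smul_mem' := fun a v hv r hr => by rw [map_smul, hv r hr] }
  let F₀ : Submodule (ZMod 3) E := LinearMap.ker π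
  have hπF₁ : ∀ v ∈ F₁, π v = t • v := fun v hv => by
    rw [hπ, Finset.sum_congr rfl fun (r : R) _ => hv r r.2, Finset.sum_const, Finset.card_univ,
      ← Nat.cast_smul_eq_nsmul (ZMod 3), ← ht]
  have hπmem : ∀ v, π v ∈ F₁ := fun v s hs => by
    rw [hπ, map_sum]
    conv_rhs => rw [← Equiv.sum_comp (Equiv.mulLeft (⟨s, hs⟩ : R))]
    refine Finset.sum_congr rfl fun r _ => ?_
    rw [Equiv.coe_mulLeft, Subgroup.coe_mul, CubicBlock.mul_apply]
  have hdis : F₀ ⊓ F₁ = ⊥ := (Submodule.eq_bot_iff _).2 fun v hv => by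
    have := hπF₁ v hv.2
    rw [show π v = 0 from hv.1] at this
    exact (smul_eq_zero.1 this.symm).resolve_left ht0
  have hsup : F₀ ⊔ F₁ = ⊤ := Submodule.eq_top_iff'.2 fun v => by
    refine Submodule.mem_sup.2 ⟨v - t⁻¹ • π v, ?_, t⁻¹ • π v, F₁.smul_mem _ (hπmem v), sub_add_cancel _ _⟩
    rw [LinearMap.mem_ker, map_sub, map_smul, hπF₁ _ (hπmem v), smul_smul, inv_mul_cancel₀ ht0, one_smul,
      sub_self]
  have hπK : ∀ k ∈ K, ∀ v, π (ρ k v) = ρ k (π v) := by
    intro k hk v
    have hn := fun x => Subgroup.mem_normalizer_iff.1 (hKR hk) x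
    let e : R ≃ R :=
      { toFun := fun r => ⟨k * r * k⁻¹, (hn r).1 r.2⟩
        invFun := fun r => ⟨k⁻¹ * r * k, (hn _).2 (by simp [mul_assoc])⟩
        left_inv := fun r => Subtype.ext (by simp [mul_assoc])
        right_inv := fun r => Subtype.ext (by simp [mul_assoc]) }
    rw [hπ, hπ, map_sum]
    conv_lhs => rw [← Equiv.sum_comp e]
    refine Finset.sum_congr rfl fun r _ => ?_
    show ρ (k * r * k⁻¹) (ρ k v) = ρ k (ρ r v)
    rw [← CubicBlock.mul_apply, ← CubicBlock.mul_apply, inv_mul_cancel_right]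
  have hinv : ∀ k ∈ K, ∀ v ∈ F₀, ρ k v ∈ F₀ := fun k hk v hv => by
    rw [LinearMap.mem_ker] at hv ⊢
    rw [hπK k hk, hv, map_zero]
  -- the representation of `RB` on the moved part
  let σ : Representation (ZMod 3) K F₀ :=
    { toFun := fun k => (ρ (k : S)).restrict fun v hv => hinv k k.2 v hv
      map_one' := LinearMap.ext fun v => Subtype.ext (by
        show ρ ((1 : K) : S) (v : E) = v
        rw [Subgroup.coe_one, CubicBlock.one_apply])
      map_mul' := fun k l => LinearMap.ext fun v => Subtype.ext (by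
        show ρ ((k * l : K) : S) (v : E) = ρ (k : S) (ρ (l : S) v)
        rw [Subgroup.coe_mul, CubicBlock.mul_apply]) }
  have hσ : ∀ (k : K) (v : F₀), (σ k v : E) = ρ (k : S) v := fun k v => rfl
  let bK : K := ⟨b, Subgroup.mem_sup_right hbB⟩
  let R' := R.subgroupOf K
  have hR'n : R'.Normal := (Subgroup.normal_subgroupOf_iff_le_normalizer le_sup_left).2 hKR
  have hb3' : bK ^ 3 = 1 := Subtype.ext (by rw [Subgroup.coe_pow, Subgroup.coe_one]; exact hb3)
  have hcases : ∀ k : K, ∃ r ∈ R', ∃ i : ℕ, k = r * bK ^ i := by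
    intro k
    have htop : R' ⊔ Subgroup.zpowers bK = ⊤ := by
      refine Subgroup.map_injective K.subtype_injective ?_
      rw [Subgroup.map_sup, MonoidHom.map_zpowers, ← MonoidHom.range_eq_map, Subgroup.range_subtype,
        Subgroup.map_subgroupOf_eq_of_le le_sup_left]
      exact congrArg (R ⊔ ·) hb
    obtain ⟨r, hr, z, hz, rfl⟩ := Subgroup.mem_sup_of_normal_left.1 (htop ▸ Subgroup.mem_top k :
      k ∈ R' ⊔ Subgroup.zpowers bK)
    obtain ⟨i, rfl⟩ := Subgroup.mem_zpowers_iff.1 hz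
    refine ⟨r, hr, (i % 3).toNat, ?_⟩
    congr 1
    rw [← zpow_natCast, Int.toNat_of_nonneg (Int.emod_nonneg _ (by norm_num))]
    conv_lhs => rw [← Int.mul_ediv_add_emod i 3, zpow_add, zpow_mul, zpow_ofNat, hb3', one_zpow, one_mul]
  have hgen : ∀ L : Subgroup K, L.Normal → bK ∈ L → L = ⊤ := by
    intro L hL hbL
    have hBL : B ≤ L.map K.subtype := hb ▸ Subgroup.zpowers_le.2 ⟨bK, hbL, rfl⟩
    have hRL : R ≤ L.map K.subtype := by
      refine hRR.ge.trans ?_
      rw [Subgroup.commutator_le]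
      intro r hr c hc
      obtain ⟨c', hc', rfl⟩ := hBL hc
      refine ⟨⁅(⟨r, Subgroup.mem_sup_left hr⟩ : K), c'⁆, ?_, ?_⟩
      · rw [commutatorElement_def]
        exact mul_mem (hL.conj_mem c' hc' _) (inv_mem hc')
      · rw [map_commutatorElement]; rfl
    refine Subgroup.map_injective K.subtype_injective (le_antisymm ?_ ?_)
    · exact Subgroup.map_mono le_top
    · rw [← MonoidHom.range_eq_map, Subgroup.range_subtype]
      exact sup_le hRL hBL
  have hcop' : (Nat.card R').Coprime 3 := by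
    rw [Nat.card_congr (Subgroup.subgroupOfEquivOfLe (le_sup_left : R ≤ K)).toEquiv]
    exact hcopR
  -- faithfulness
  let L : Subgroup K := σ.ker
  have hLR : ∀ l ∈ L, l ∈ R' → l = 1 := by
    intro l hl hlR
    refine Subtype.ext (hfaith (LinearMap.ext fun v => ?_))
    obtain ⟨u, hu, w, hw, rfl⟩ := Submodule.mem_sup.1 (hsup ▸ Submodule.mem_top : v ∈ F₀ ⊔ F₁)
    have h1 : ρ (l : S) u = u := by
      have := congrArg Subtype.val (LinearMap.congr_fun (MonoidHom.mem_ker.1 hl) ⟨u, hu⟩)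
      simpa [hσ] using this
    rw [map_add, h1, hw (l : S) hlR, Subgroup.coe_one, CubicBlock.one_apply]
  have hinj : Function.Injective σ := by
    refine (MonoidHom.ker_eq_bot_iff _).1 ((Subgroup.eq_bot_iff_forall _).2 fun l hl => ?_)
    by_contra hne
    obtain ⟨r, hr, i, rfl⟩ := hcases l
    have hc : Commute r (bK ^ i) := by
      have h1 : ⁅r, r * bK ^ i⁆ = 1 := hLR _
        (by
          rw [commutatorElement_def]
          exact mul_mem ((MonoidHom.normal_ker σ).conj_mem _ hl r) (inv_mem hl))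
        (by
          rw [commutatorElement_def, mul_assoc, mul_assoc, ← mul_assoc (r * bK ^ i)]
          exact mul_mem hr (hR'n.conj_mem _ (inv_mem hr) _))
      have := commutatorElement_eq_one_iff_mul_comm.1 h1
      exact mul_left_cancel (this.trans (mul_assoc _ _ _))
    have hbi : (bK ^ i) ^ 3 = 1 := by rw [← pow_mul, mul_comm, pow_mul, hb3', one_pow]
    have hr1 : r = 1 := by
      have h3 : r ^ 3 = 1 := by
        refine hLR _ ?_ (pow_mem hr 3)
        have := pow_mem hl 3
        rwa [hc.mul_pow, hbi, mul_one] at this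
      have h' : r ^ Nat.card R' = 1 := by
        have := congrArg Subtype.val (pow_card_eq_one' (x := (⟨r, hr⟩ : R')))
        rwa [Subgroup.coe_pow, Subgroup.coe_one] at this
      have := pow_gcd_eq_one.2 ⟨h', h3⟩
      rwa [hcop', pow_one] at this
    rw [hr1, one_mul] at hl hne
    have hbL : bK ∈ L := by
      have e : bK = (bK ^ i) ^ i := by
        have hi : i % 3 ≠ 0 := fun e => hne (by
          rw [← Nat.div_add_mod i 3, e, add_zero, pow_mul, hb3', one_pow])
        rw [← pow_mul]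
        conv_rhs => rw [← Nat.div_add_mod (i * i) 3, pow_add, pow_mul, hb3', one_pow, one_mul]
        rw [show i * i % 3 = 1 by
          rw [Nat.mul_mod]
          obtain h | h : i % 3 = 1 ∨ i % 3 = 2 := by omega
          all_goals rw [h], pow_one]
      rw [e]
      exact pow_mem hl i
    have htop := hgen L (MonoidHom.normal_ker σ) hbL
    obtain ⟨q, hq, hqne⟩ := hQmove
    have := congrArg Subtype.val (hLR ⟨q, Subgroup.mem_sup_left (hQR hq)⟩ (htop ▸ Subgroup.mem_top _)
      (Subgroup.mem_subgroupOf.2 (hQR hq)))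
    exact hqne (by rw [show q = 1 from this, mul_one, one_mul])
  -- the block
  have hQ4' : Nat.card (Q.subgroupOf K) = 4 := by
    rw [Nat.card_congr (Subgroup.subgroupOfEquivOfLe (hQR.trans le_sup_left : Q ≤ K)).toEquiv]
    exact hQ4
  have hblock : CubicBlock.Block σ (Q.subgroupOf K) bK := by
    refine ⟨hinj, hb3', fun q hq => Subtype.ext (hQel _ hq), hQ4', fun q hq => hQconj _ hq, ?_, ?_⟩
    · obtain ⟨q, hq, hne⟩ := hQmove
      exact ⟨⟨q, Subgroup.mem_sup_left (hQR hq)⟩, hq, fun e => hne (congrArg Subtype.val e)⟩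
    · have h := CubicBlock.finrank_range_le_two (ρ b) (fun v => by
          rw [← CubicBlock.mul_apply, ← CubicBlock.mul_apply, show b * b * b = b ^ 3 by simp [pow_succ], hb3,
            CubicBlock.one_apply]) E₀ E₁ hE01' hE1 hE0inv hE0
      refine le_trans ?_ h
      rw [← LinearMap.finrank_range_of_inj (f := F₀.subtype.comp (LinearMap.range (σ bK - 1)).subtype)
        (Subtype.val_injective.comp Subtype.val_injective)]
      refine Submodule.finrank_mono ?_
      rintro _ ⟨⟨_, v, rfl⟩, rfl⟩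
      exact ⟨v, rfl⟩
  have : Fintype R' := Fintype.ofFinite _
  have hsum : ∀ w, ∑ r : R', σ (r : K) w = 0 := fun w => Subtype.ext (by
    rw [Submodule.coe_sum, Submodule.coe_zero]
    conv_rhs => rw [← (LinearMap.mem_ker.1 w.2 : π w = 0), hπ]
    exact Equiv.sum_comp (Subgroup.subgroupOfEquivOfLe (le_sup_left : R ≤ K)).toEquiv
      fun r : R => ρ (r : S) w)
  have hC : CubicBlock.Core σ R' (Q.subgroupOf K) bK :=
    { hblock with
      normal := hR'n
      cop := hcop'
      gen := hgen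
      cases := hcases
      solv := inferInstance
      irr := hblock.irreducible hcop' hgen hsum
      le := fun q hq => Subgroup.mem_subgroupOf.2 (hQR hq) }
  refine ⟨?_, F₀, F₁, hdis, hsup, fun r hr v hv => hv r hr, hinv, ?_, ?_⟩
  · have hRK : R ≤ K := le_sup_left
    rcases hC.shape with h | ⟨hcard, z, hz, hz1, hzz, hsq, hcen, hzc, hna, A, hAR, hAc, hA2, hA8⟩
    · left
      have : R = Q := by
        have := congrArg (Subgroup.map K.subtype) h
        rwa [Subgroup.map_subgroupOf_eq_of_le hRK, Subgroup.map_subgroupOf_eq_of_le (hQR.trans hRK)] at this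
      rw [this]
      exact ⟨hQ, hQ4⟩
    · right
      let e := Subgroup.subgroupOfEquivOfLe hRK
      refine ⟨?_, by rw [← hcard]; exact Nat.card_congr e.toEquiv.symm, A.map K.subtype, ?_, ⟨⟨⟨?_⟩⟩, ?_⟩, ?_⟩
      · refine CubicBlock.isExtraspecial_of_shape (by rw [← hcard]; exact Nat.card_congr e.toEquiv.symm)
          (e ⟨z, hz⟩) (fun h => hz1 (Subtype.ext (congrArg Subtype.val h :))) ?_ ?_ ?_ ?_ ?_
        · exact Subtype.ext (congrArg Subtype.val hzz :)
        · intro x
          rcases hsq ⟨(x : S), hRK x.2⟩ x.2 with h | h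
          · exact Or.inl (Subtype.ext (congrArg Subtype.val h :))
          · exact Or.inr (Subtype.ext (congrArg Subtype.val h :))
        · intro x hx
          rcases hcen ⟨(x : S), hRK x.2⟩ x.2 (fun y hy => Subtype.ext
              (congrArg Subtype.val (hx ⟨(y : S), hy⟩) :)) with h | h
          · exact Or.inl (Subtype.ext (congrArg Subtype.val h :))
          · exact Or.inr (Subtype.ext (congrArg Subtype.val h :))
        · exact fun y => Subtype.ext (congrArg Subtype.val (hzc ⟨(y : S), hRK y.2⟩ y.2) :)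
        · obtain ⟨x, hx, y, hy, hne⟩ := hna
          exact ⟨⟨(x : S), hx⟩, ⟨(y : S), hy⟩, fun h => hne (Subtype.ext (congrArg Subtype.val h :))⟩
      · rintro _ ⟨a, ha, rfl⟩
        exact hAR ha
      · rintro ⟨_, x, hx, rfl⟩ ⟨_, y, hy, rfl⟩
        exact Subtype.ext (congrArg Subtype.val (hAc x hx y hy) :)
      · rintro _ ⟨a, ha, rfl⟩
        rw [pow_two, ← map_mul, hA2 a ha, map_one]
      · rw [← hA8]
        exact Nat.card_congr (A.equivMapOfInjective _ K.subtype_injective).toEquiv.symm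
  · intro r hr h
    exact congrArg Subtype.val (hinj (a₁ := (⟨r, hr⟩ : K)) (a₂ := 1) (LinearMap.ext fun v => Subtype.ext (by
      rw [hσ, map_one]; exact h v v.2)))
  · intro N hN hinvN
    rcases hC.irr (N.comap F₀.subtype) (fun k w hw => hinvN k k.2 _ hw) with h | h
    · left
      refine (Submodule.eq_bot_iff _).2 fun v hv => ?_
      have : (⟨v, hN hv⟩ : F₀) ∈ N.comap F₀.subtype := hv
      rw [h, Submodule.mem_bot] at this
      exact congrArg Subtype.val this
    · right
      refine le_antisymm hN fun v hv => ?_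
      exact (h ▸ Submodule.mem_top : (⟨v, hv⟩ : F₀) ∈ N.comap F₀.subtype)


end Cfsg.Agent.S4415
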