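import Cfsg.Statements.S4416
import Cfsg.Agent.EqLemmas
import Cfsg.Agent.Lib.PGroup.Extraspecial

set_option autoImplicit false
set_option linter.style.haveILetI false
open Cfsg

namespace Cfsg.Agent.S4416

open Cfsg.Agent.PGroup
open scoped commutatorElement

universe u v

/-- The elements with square one, in the coordinates of a pair with squares `z^a`, `z^b`. -/
theorem count_pair {G : Type*} [Group G] [Finite G] [Fact (Nat.Prime 2)] (h : IsES 2 G) (P : Pair 2 G)
    {a b : ℕ} (hP : P.x ^ 2 = P.z ^ a ∧ P.y ^ 2 = P.z ^ b) :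
    Nat.card {g : G // g ^ 2 = 1} = ∑ t : Fin 2 × Fin 2, Nat.card {c : P.C //
      (c : G) ^ 2 * P.z ^ (a * (t.1 : ℕ) + b * (t.2 : ℕ) + (t.2 : ℕ) * (t.1 : ℕ)) = 1} := by
  rw [← Nat.card_sigma]
  have hz : ∀ g, Commute P.z g := fun g => (Subgroup.mem_center_iff.mp (P.z_mem h) g).symm
  have hsq : ∀ (i j : ℕ) (c : P.C), (P.x ^ i * P.y ^ j * c) ^ 2 =
      (c : G) ^ 2 * P.z ^ (a * i + b * j + j * i) := by
    intro i j c
    rw [pow_two (P.x ^ i * P.y ^ j * (c : G)), pair_mul_law h P, ← two_mul, ← two_mul, pow_mul, pow_mul,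
      hP.1, hP.2, ← pow_mul, ← pow_mul]
    simp only [Subgroup.coe_mul, SubgroupClass.coe_pow]
    rw [← mul_assoc, ← mul_assoc, ← pow_add, ← pow_add, mul_assoc, ← pow_two,
      ((hz ((c : G) ^ 2)).pow_left _).eq]
  refine Nat.card_congr
    { toFun := fun g => ⟨((((P.equiv h).symm g.1).1), ((P.equiv h).symm g.1).2.1),
        ((P.equiv h).symm g.1).2.2, ?_⟩
      invFun := fun q => ⟨P.equiv h (q.1.1, q.1.2, q.2.1), ?_⟩
      left_inv := fun g => Subtype.ext (by simp)
      right_inv := ?_ }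
  · rw [← hsq]
    show P.equiv h ((P.equiv h).symm g.1) ^ 2 = 1
    rw [Equiv.apply_symm_apply]
    exact g.2
  · show (P.x ^ (q.1.1 : ℕ) * P.y ^ (q.1.2 : ℕ) * q.2.1) ^ 2 = 1
    rw [hsq]; exact q.2.2
  · rintro ⟨⟨i, j⟩, c, hc⟩
    have key : ∀ (t t' : Fin 2 × Fin 2) (c c' : P.C) (hc : (c : G) ^ 2 * P.z ^
        (a * (t.1 : ℕ) + b * (t.2 : ℕ) + (t.2 : ℕ) * (t.1 : ℕ)) = 1) (hc' : (c' : G) ^ 2 * P.z ^
        (a * (t'.1 : ℕ) + b * (t'.2 : ℕ) + (t'.2 : ℕ) * (t'.1 : ℕ)) = 1), t = t' → c = c' →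
        (⟨t, c, hc⟩ : Σ t : Fin 2 × Fin 2, {c : P.C // (c : G) ^ 2 * P.z ^
          (a * (t.1 : ℕ) + b * (t.2 : ℕ) + (t.2 : ℕ) * (t.1 : ℕ)) = 1}) = ⟨t', c', hc'⟩ := by
      rintro t t' c c' hc hc' rfl rfl; rfl
    apply key <;> simp


theorem isES_two_cases {G : Type*} [Group G] [Finite G] [Fact (Nat.Prime 2)] (h : IsES 2 G) (P : Pair 2 G)
    {w : G} (hw : w ∈ Subgroup.center G) : w = 1 ∨ w = P.z := by
  obtain ⟨k, rfl⟩ := mem_powers_iff_mem_zpowers.mpr ((h.zpowers_eq_center (P.z_mem h) P.hz).ge hw)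
  simp only
  rw [← pow_mod_orderOf, P.orderOf_z h]
  rcases Nat.mod_two_eq_zero_or_one k with e | e <;> simp [e]

/-- Splitting off a pair of involutions. -/
theorem count_step {G : Type*} [Group G] [Finite G] [Fact (Nat.Prime 2)] (h : IsES 2 G) (P : Pair 2 G)
    (hP : P.x ^ 2 = P.z ^ 0 ∧ P.y ^ 2 = P.z ^ 0) :
    Nat.card {g : G // g ^ 2 = 1} = Nat.card P.C + 2 * Nat.card {c : P.C // c ^ 2 = 1} := by
  classical
  have hzz : P.z * P.z = 1 := by rw [← pow_two]; exact h.pow_eq_one (P.z_mem h)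
  rw [count_pair h P hP, Fintype.sum_prod_type, Fin.sum_univ_two, Fin.sum_univ_two, Fin.sum_univ_two]
  simp only [Fin.val_zero, Fin.val_one, mul_zero, add_zero, zero_add, pow_zero, mul_one,
    pow_one]
  have h1 : Nat.card {c : P.C // (c : G) ^ 2 = 1} = Nat.card {c : P.C // c ^ 2 = 1} :=
    Nat.card_congr (Equiv.subtypeEquivRight fun c => by rw [Subtype.ext_iff, SubgroupClass.coe_pow]; rfl)
  have h2 : Nat.card {c : P.C // (c : G) ^ 2 * P.z = 1} = Nat.card {c : P.C // ¬ (c : G) ^ 2 = 1} := by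
    refine Nat.card_congr (Equiv.subtypeEquivRight fun c => ⟨fun e e' => P.hz (by rwa [e', one_mul] at e),
      fun e => ?_⟩)
    rcases isES_two_cases h P (h.pow_mem (c : G)) with e' | e'
    · exact absurd e' e
    · rw [e', hzz]
  have h3 : Nat.card P.C = Nat.card {c : P.C // (c : G) ^ 2 = 1} + Nat.card {c : P.C // ¬ (c : G) ^ 2 = 1} := by
    rw [← Nat.card_sum]
    exact Nat.card_congr (Equiv.sumCompl _).symm
  rw [h2, h3, h1]
  ring

/-- Order eight with no involution pair: only the centre squares to one. -/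
theorem count_eight {G : Type*} [Group G] [Finite G] [Fact (Nat.Prime 2)] (h : IsES 2 G) (P : Pair 2 G)
    (hP : P.x ^ 2 = P.z ^ 1 ∧ P.y ^ 2 = P.z ^ 1) (h8 : Nat.card G = 8) :
    Nat.card {g : G // g ^ 2 = 1} = 2 := by
  classical
  have hC := card_C_eq_two h P h8
  have hsq : ∀ c : P.C, (c : G) ^ 2 = 1 := fun c => by
    have := pow_card_eq_one' (x := c)
    rw [hC] at this
    exact congrArg Subtype.val this
  have hz3 : ¬ P.z ^ 3 = 1 := fun e => P.hz (by
    rwa [pow_succ, show P.z ^ 2 = 1 from h.pow_eq_one (P.z_mem h), one_mul] at e)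
  rw [count_pair h P hP, Fintype.sum_prod_type, Fin.sum_univ_two, Fin.sum_univ_two, Fin.sum_univ_two]
  simp [hsq, hz3, P.hz, hC]

theorem classify : ∀ (m : ℕ) (G : Type u) [Group G] [Finite G], IsES 2 G →
    Nat.card G = 2 ^ (2 * m + 3) →
    (Nat.card {g : G // g ^ 2 = 1} = 2 ^ (2 * m + 2) + 2 ^ (m + 1) ∨
      Nat.card {g : G // g ^ 2 = 1} + 2 ^ (m + 1) = 2 ^ (2 * m + 2)) ∧
    ∀ (G' : Type v) [Group G'] [Finite G'], IsES 2 G' → Nat.card G' = 2 ^ (2 * m + 3) →
      Nat.card {g : G' // g ^ 2 = 1} = Nat.card {g : G // g ^ 2 = 1} → Nonempty (G ≃* G') := by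
  haveI : Fact (Nat.Prime 2) := ⟨Nat.prime_two⟩
  intro m
  induction m with
  | zero =>
    intro G _ _ h hG
    have h8 : Nat.card G = 8 := by simpa using hG
    rcases two_pair_cases h (by omega) with ⟨P, hP⟩ | ⟨-, P, hP⟩
    · have hC := card_C_eq_two h P h8
      have hI : Nat.card {c : P.C // c ^ 2 = 1} = 2 := by
        exact (Nat.card_congr (Equiv.subtypeUnivEquiv fun c => by
          have := pow_card_eq_one' (x := c); rwa [hC] at this)).trans hC
      have hG6 : Nat.card {g : G // g ^ 2 = 1} = 6 := by rw [count_step h P hP, hC, hI]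
      refine ⟨Or.inl (by rw [hG6]; norm_num), fun G' _ _ h' hG' he => ?_⟩
      have h8' : Nat.card G' = 8 := by simpa using hG'
      rcases two_pair_cases h' (by omega) with ⟨Q, hQ⟩ | ⟨-, Q, hQ⟩
      · exact glue_two h h' P Q hP hQ (equiv_of_card_two hC (card_C_eq_two h' Q h8'))
      · rw [count_eight h' Q hQ h8', hG6] at he; omega
    · have hG2 := count_eight h P hP h8
      refine ⟨Or.inr (by rw [hG2]; norm_num), fun G' _ _ h' hG' he => ?_⟩
      have h8' : Nat.card G' = 8 := by simpa using hG'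
      rcases two_pair_cases h' (by omega) with ⟨Q, hQ⟩ | ⟨-, Q, hQ⟩
      · have hC' := card_C_eq_two h' Q h8'
        have hI' : Nat.card {c : Q.C // c ^ 2 = 1} = 2 := by
          exact (Nat.card_congr (Equiv.subtypeUnivEquiv fun c => by
            have := pow_card_eq_one' (x := c); rwa [hC'] at this)).trans hC'
        rw [count_step h' Q hQ, hC', hI', hG2] at he; omega
      · exact glue_two h h' P Q hP hQ (equiv_of_card_two (card_C_eq_two h P h8) (card_C_eq_two h' Q h8'))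
  | succ m ih =>
    intro G _ _ h hG
    have e5 : 2 ^ 5 ≤ 2 ^ (2 * (m + 1) + 3) := Nat.pow_le_pow_right (by norm_num) (by omega)
    have hbig : 8 < Nat.card G := by omega
    obtain ⟨P, hP⟩ := two_pair_of_large h hbig
    have hC : Nat.card P.C = 2 ^ (2 * m + 3) := by
      have := P.card_eq h
      rw [hG, show 2 * (m + 1) + 3 = 2 + (2 * m + 3) by ring, pow_add] at this
      exact (Nat.eq_of_mul_eq_mul_left (by norm_num) this).symm
    obtain ⟨h1, h2⟩ := ih P.C (P.isES h) hC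
    have hI := count_step h P hP
    refine ⟨?_, fun G' _ _ h' hG' he => ?_⟩
    · rw [hI, hC]
      have a1 : 2 ^ (2 * m + 3) = 2 * 2 ^ (2 * m + 2) := by ring
      have a2 : 2 ^ (2 * (m + 1) + 2) = 4 * 2 ^ (2 * m + 2) := by ring
      have a3 : 2 ^ (m + 1 + 1) = 2 * 2 ^ (m + 1) := by ring
      omega
    · obtain ⟨Q, hQ⟩ := two_pair_of_large h' (by omega)
      have hC' : Nat.card Q.C = 2 ^ (2 * m + 3) := by
        have := Q.card_eq h'
        rw [hG', show 2 * (m + 1) + 3 = 2 + (2 * m + 3) by ring, pow_add] at this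
        exact (Nat.eq_of_mul_eq_mul_left (by norm_num) this).symm
      rw [hI, count_step h' Q hQ, hC, hC'] at he
      exact glue_two h h' P Q hP hQ (h2 Q.C (Q.isES h') hC' (by omega))

/-- Classification of extraspecial 2-groups in intrinsic form. An extraspecial 2-group has order 2^(2m+1) for some m ≥ 1, and the number of its elements squaring to the identity is either 2^(2m) + 2^m or 2^(2m) − 2^m; two extraspecial 2-groups of the same order with the same number of such elements are isomorphic. (The two cases are the central products of m dihedral groups of order 8, and of m − 1 dihedral groups with one quaternion group.) -/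
theorem result (E : Type*) [Group E] [Finite E] (hE : Cfsg.IsExtraspecial 2 E) :
    (∃ m : ℕ, 1 ≤ m ∧ Nat.card E = 2 ^ (2 * m + 1) ∧
      (Nat.card {x : E // x ^ 2 = 1} = 2 ^ (2 * m) + 2 ^ m ∨ Nat.card {x : E // x ^ 2 = 1} = 2 ^ (2 * m) - 2 ^ m)) ∧
    ∀ (E' : Type*) [Group E'] [Finite E'], Cfsg.IsExtraspecial 2 E' → Nat.card E' = Nat.card E →
      Nat.card {x : E' // x ^ 2 = 1} = Nat.card {x : E // x ^ 2 = 1} → Nonempty (E ≃* E') := by
  haveI : Fact (Nat.Prime 2) := ⟨Nat.prime_two⟩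
  have h := isES_of_isExtraspecial hE
  obtain ⟨n, hn⟩ := IsES.card_eq_odd_pow _ E h le_rfl
  obtain ⟨m, rfl⟩ : ∃ m, n = m + 1 := by
    refine ⟨n - 1, ?_⟩
    rcases Nat.eq_zero_or_pos n with rfl | hpos
    · exfalso
      have hz := hE.2
      have h1 : Subgroup.center E = ⊤ := Subgroup.eq_top_of_card_eq _ (by rw [hz, hn]; norm_num)
      have h2 : commutator E = ⊥ := (commutator_eq_bot_iff_center_eq_top E).mpr h1
      rw [hE.1.2.2] at h2
      rw [h2, Subgroup.card_bot] at hz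
      norm_num at hz
    · omega
  obtain ⟨h1, -⟩ := classify.{_, 0} m E h (by rw [hn]; ring_nf)
  refine ⟨⟨m + 1, by omega, hn, ?_⟩, fun E' _ _ hE' hcard he => ?_⟩
  · have a2 : 2 ^ (2 * (m + 1)) = 2 ^ (2 * m + 2) := by ring_nf
    omega
  obtain ⟨-, h2⟩ := classify m E h (by rw [hn]; ring_nf)
  exact h2 E' (isES_of_isExtraspecial hE') (by rw [hcard, hn]; ring_nf) he

end Cfsg.Agent.S4416
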