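import Cfsg.Statements.S4419
import Cfsg.Agent.EqLemmas
import Cfsg.Agent.Lib.Transfer.Alperin
import Cfsg.Agent.Lib.Coprime.Frattini
import Cfsg.Agent.Lib.Cores.Basic
import Cfsg.Agent.Lib.PGroup.Basic

set_option autoImplicit false
set_option linter.style.haveILetI false
open Cfsg

namespace Cfsg.Agent.S4419

open scoped Pointwise commutatorElement

variable {G : Type*} [Group G] [Finite G]

/-- A subgroup of a metacyclic group is generated by two elements, in a strong form. -/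
theorem exists_two_gen {p : ℕ} (S : Sylow p G) (hS : Cfsg.IsMetacyclic ↥(S : Subgroup G))
    {R : Subgroup G} (hR : R ≤ S) :
    ∃ a b : R, ∀ x : R, ∃ i j : ℤ, x = b ^ i * a ^ j := by
  obtain ⟨N, hNn, hNc, hQc⟩ := hS
  haveI := hNn
  let f : R →* (S : Subgroup G) ⧸ N := (QuotientGroup.mk' N).comp (Subgroup.inclusion hR)
  haveI := hQc
  haveI := hNc
  obtain ⟨⟨c, hc⟩, hgen⟩ := IsCyclic.exists_generator (α := f.range)
  obtain ⟨b, rfl⟩ := hc
  have hker : f.ker ≤ N.comap (Subgroup.inclusion hR) := fun x hx =>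
    (QuotientGroup.eq_one_iff (Subgroup.inclusion hR x)).1 (MonoidHom.mem_ker.1 hx)
  have hkc : IsCyclic f.ker := by
    let g : f.ker →* N := ((Subgroup.inclusion hR).comp f.ker.subtype).codRestrict N fun x => hker x.2
    exact isCyclic_of_injective g fun x y h =>
      Subtype.ext (Subgroup.inclusion_injective hR (congrArg Subtype.val h))
  obtain ⟨a, ha⟩ := IsCyclic.exists_generator (α := f.ker)
  refine ⟨(a : R), b, fun x => ?_⟩
  obtain ⟨i, hi⟩ := Subgroup.mem_zpowers_iff.1 (hgen ⟨f x, x, rfl⟩)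
  have hmem : (b ^ i)⁻¹ * x ∈ f.ker := by
    rw [MonoidHom.mem_ker, map_mul, map_inv, map_zpow]
    have h := congrArg Subtype.val hi
    simp only [SubgroupClass.coe_zpow] at h
    rw [h, inv_mul_cancel]
  obtain ⟨j, hj⟩ := Subgroup.mem_zpowers_iff.1 (ha ⟨_, hmem⟩)
  refine ⟨i, j, ?_⟩
  have h := congrArg Subtype.val hj
  simp only [SubgroupClass.coe_zpow] at h
  rw [h, mul_inv_cancel_left]

/-- A `p'`-element normalising a 2-generated `p`-group and not centralising it has an order sharing a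
prime with `p² - 1`. -/
theorem dvd_sq_sub_one {p r : ℕ} [hp : Fact p.Prime] [hr : Fact r.Prime] (hrp : r ≠ p) {R : Subgroup G}
    (hR : IsPGroup p R) (hgen : ∃ a b : R, ∀ x : R, ∃ i j : ℤ, x = b ^ i * a ^ j) {y : G}
    (hy : y ∈ Subgroup.normalizer (R : Set G)) {v : ℕ} (hyr : orderOf y = r ^ v)
    (hne : y ∉ Subgroup.centralizer (R : Set G)) : r ∣ p ^ 2 - 1 := by
  classical
  let Y := Subgroup.zpowers y
  have hYR : Y ≤ Subgroup.normalizer (R : Set G) := Subgroup.zpowers_le.2 hy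
  let c : Y →* MulAut R := R.normalizerMonoidHom.comp (Subgroup.inclusion hYR)
  let Φ := frattini R
  have hΦn : Φ.Normal := Subgroup.normal_of_characteristic _
  let π := QuotientGroup.mk' Φ
  have hπ : ∀ x w : R, π x = π w ↔ x⁻¹ * w ∈ Φ := fun x w => QuotientGroup.eq
  have hcomm : ∀ x w : R ⧸ Φ, x * w = w * x := by
    intro x w
    obtain ⟨x, rfl⟩ := QuotientGroup.mk'_surjective Φ x
    obtain ⟨w, rfl⟩ := QuotientGroup.mk'_surjective Φ w
    show π x * π w = π w * π x
    rw [← map_mul, ← map_mul, hπ]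
    have h := PGroup.commutatorElement_mem_frattini hR w⁻¹ x⁻¹
    rwa [show ⁅w⁻¹, x⁻¹⁆ = (x * w)⁻¹ * (w * x) by rw [commutatorElement_def]; group] at h
  have hexp : ∀ x : R ⧸ Φ, x ^ p = 1 := by
    intro x
    obtain ⟨x, rfl⟩ := QuotientGroup.mk'_surjective Φ x
    rw [← map_pow]
    exact (QuotientGroup.eq_one_iff _).2 (PGroup.pow_mem_frattini hR x)
  have hsmall : Nat.card (R ⧸ Φ) ≤ p ^ 2 := by
    obtain ⟨a, b, hab⟩ := hgen
    have hsurj : Function.Surjective fun q : Fin p × Fin p => π b ^ (q.1 : ℕ) * π a ^ (q.2 : ℕ) := by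
      intro x
      obtain ⟨x, rfl⟩ := QuotientGroup.mk'_surjective Φ x
      obtain ⟨i, j, rfl⟩ := hab x
      have key : ∀ (w : R ⧸ Φ) (i : ℤ), ∃ k : Fin p, w ^ (k : ℕ) = w ^ i := by
        intro w i
        have hp0 : (p : ℤ) ≠ 0 := by exact_mod_cast hp.out.ne_zero
        have h0 := Int.emod_nonneg i hp0
        refine ⟨⟨(i % (p : ℤ)).toNat, ?_⟩, ?_⟩
        · have := Int.emod_lt_of_pos i (b := (p : ℤ)) (by exact_mod_cast hp.out.pos); omega
        · show w ^ ((i % (p : ℤ)).toNat) = w ^ i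
          rw [← zpow_natCast, Int.toNat_of_nonneg h0]
          conv_rhs => rw [← Int.emod_add_mul_ediv i (p : ℤ), zpow_add, zpow_mul, zpow_natCast, hexp, one_zpow, mul_one]
      obtain ⟨k, hk⟩ := key (π b) i
      obtain ⟨l, hl⟩ := key (π a) j
      exact ⟨(k, l), by show π b ^ (k : ℕ) * π a ^ (l : ℕ) = _; rw [hk, hl, map_mul, map_zpow, map_zpow]⟩
    have := Nat.card_le_card_of_surjective _ hsurj
    rw [Nat.card_prod, Nat.card_fin, ← pow_two] at this
    exact this
  have hmapΦ : ∀ (g : Y) (x : R), x ∈ Φ → c g x ∈ Φ := by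
    intro g x hx
    have hch : Φ.map (c g).toMonoidHom = Φ :=
      Subgroup.characteristic_iff_map_eq.1 inferInstance (c g)
    rw [← hch]; exact Subgroup.mem_map_of_mem _ hx
  letI : MulAction Y (R ⧸ Φ) :=
    { smul := fun g q => QuotientGroup.map Φ Φ (c g).toMonoidHom (fun x hx => hmapΦ g x hx) q
      one_smul := fun q => by
        obtain ⟨x, rfl⟩ := QuotientGroup.mk'_surjective Φ q
        show π (c 1 x) = π x
        rw [map_one]; rfl
      mul_smul := fun g h q => by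
        obtain ⟨x, rfl⟩ := QuotientGroup.mk'_surjective Φ q
        show π (c (g * h) x) = π (c g (c h x))
        rw [map_mul]; rfl }
  have hsmul : ∀ (g : Y) (x : R), g • π x = π (c g x) := fun _ _ => rfl
  have hY : IsPGroup r Y := IsPGroup.of_card (n := v) (by rw [Nat.card_zpowers, hyr])
  have hmod := hY.card_modEq_card_fixedPoints (α := R ⧸ Φ)
  let F : Subgroup (R ⧸ Φ) :=
    { carrier := MulAction.fixedPoints Y (R ⧸ Φ)
      one_mem' := fun g => by rw [← map_one π, hsmul, map_one]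
      mul_mem' := fun {a b} ha hb g => by
        obtain ⟨a, rfl⟩ := QuotientGroup.mk'_surjective Φ a
        obtain ⟨b, rfl⟩ := QuotientGroup.mk'_surjective Φ b
        rw [← map_mul, hsmul, map_mul, map_mul, ← hsmul, ← hsmul, ha g, hb g, ← map_mul]
      inv_mem' := fun {a} ha g => by
        obtain ⟨a, rfl⟩ := QuotientGroup.mk'_surjective Φ a
        rw [← map_inv, hsmul, map_inv, map_inv, ← hsmul, ha g, ← map_inv] }
  have hFne : F ≠ ⊤ := by
    intro htop
    refine hne (Coprime.le_centralizer_of_forall_mem_frattini hYR ?_ ?_ (Subgroup.mem_zpowers y))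
    · obtain ⟨k, hk⟩ := IsPGroup.iff_card.1 (hR.to_subgroup Φ)
      rw [Nat.card_zpowers, hyr, hk]
      exact ((Nat.coprime_primes hr.out hp.out).2 hrp).pow v k
    · intro g hg x hx
      have h : (⟨g, hg⟩ : Y) • π ⟨x, hx⟩ = π ⟨x, hx⟩ :=
        (htop ▸ Subgroup.mem_top (π ⟨x, hx⟩) : π ⟨x, hx⟩ ∈ F) ⟨g, hg⟩
      rw [hsmul, eq_comm, hπ] at h
      refine ⟨c ⟨g, hg⟩ ⟨x, hx⟩ * (⟨x, hx⟩ : R)⁻¹, hΦn.mem_comm h, rfl⟩
  obtain ⟨k, hk⟩ := IsPGroup.iff_card.1 (hR.to_quotient Φ)
  obtain ⟨l, hlk, hl⟩ := (Nat.dvd_prime_pow hp.out).1 (hk ▸ F.card_subgroup_dvd_card)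
  have hlk' : l < k := by
    refine lt_of_le_of_ne hlk fun h => hFne (Subgroup.eq_top_of_card_eq _ (by rw [hl, hk, h]))
  rw [hk] at hsmall
  have hk2 : k ≤ 2 := (Nat.pow_le_pow_iff_right hp.out.one_lt).1 hsmall
  have hmod' : p ^ k ≡ p ^ l [MOD r] := by rw [← hk, ← hl]; exact hmod
  have hdvd : r ∣ p ^ l * (p ^ (k - l) - 1) := by
    have h := (Nat.modEq_iff_dvd' (Nat.pow_le_pow_right hp.out.pos hlk)).1 hmod'.symm
    rwa [Nat.mul_sub, mul_one, ← pow_add, Nat.add_sub_cancel' hlk]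
  have h1 : r ∣ p ^ (k - l) - 1 :=
    (Nat.Coprime.pow_right l ((Nat.coprime_primes hr.out hp.out).2 hrp)).dvd_of_dvd_mul_left hdvd
  refine h1.trans (Nat.pow_sub_one_dvd_pow_sub_one p ?_)
  rcases (show k - l = 1 ∨ k - l = 2 by omega) with h | h <;> rw [h]
  · exact one_dvd 2

/-- Let p be a prime and G a finite group whose Sylow p-subgroups are metacyclic (a cyclic normal subgroup with cyclic quotient). Then G has a normal p-complement if and only if the order of G/O_{p′,p}(G) is coprime to p² − 1. -/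
theorem result {G : Type*} [Group G] [Finite G] (p : ℕ) [Fact p.Prime] (S : Sylow p G) (hS : Cfsg.IsMetacyclic ↥(S : Subgroup G)) : Cfsg.HasNormalPComplement p G ↔ Nat.Coprime (Nat.card (G ⧸ Cfsg.pPrimePCore p G)) (p ^ 2 - 1) := by
  have hKn : (Cfsg.pPrimeCore p G).Normal := Subgroup.sSup_normal _ fun _ h => h.1
  constructor
  · rintro ⟨P, N, hN, hc⟩
    suffices Cfsg.pPrimePCore p G = ⊤ by
      have : Nat.card (G ⧸ Cfsg.pPrimePCore p G) = 1 := by
        rw [← Subgroup.index_eq_card, this, Subgroup.index_top]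
      rw [this]; exact Nat.coprime_one_left _
    have hNK : N ≤ Cfsg.pPrimeCore p G := Cores.le_pPrimeCore hN (by
      have h := P.not_dvd_index
      rw [hc.index_eq_card] at h
      exact ((Fact.out : p.Prime).coprime_iff_not_dvd.2 h).symm)
    have htop : Cfsg.pCore p (G ⧸ Cfsg.pPrimeCore p G) = ⊤ := by
      refine top_le_iff.1 (Cores.le_pCore inferInstance ?_)
      have hsurj : Function.Surjective
          ((QuotientGroup.mk' (Cfsg.pPrimeCore p G)).comp (P : Subgroup G).subtype) := fun q => by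
        obtain ⟨g, rfl⟩ := QuotientGroup.mk'_surjective _ q
        obtain ⟨⟨n, t⟩, ht, -⟩ := Subgroup.IsComplement.existsUnique hc g
        refine ⟨t, ?_⟩
        show QuotientGroup.mk' _ (t : G) = QuotientGroup.mk' _ g
        rw [← (show (n : G) * t = g from ht), map_mul,
          show QuotientGroup.mk' _ (n : G) = 1 from (QuotientGroup.eq_one_iff (n : G)).2 (hNK n.2), one_mul]
      exact (P.isPGroup'.of_surjective _ hsurj).to_subgroup _
    show (Cfsg.pCore p (G ⧸ Cfsg.pPrimeCore p G)).comap _ = ⊤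
    rw [htop, Subgroup.comap_top]
  intro hco
  refine Transfer.hasNormalPComplement_of_local S fun R hR hb n hn hcop => ?_
  by_contra hnC
  have hRS : R ≤ (S : Subgroup G) := hR.1
  have hRp : IsPGroup p R := S.isPGroup'.to_le hRS
  let N' := Subgroup.normalizer (R : Set G)
  let ψ : N' →* MulAut R := R.normalizerMonoidHom
  have hψ : ψ ⟨n, hn⟩ ≠ 1 := fun h => hnC (Subgroup.mem_centralizer_iff.2 fun x hx => by
    have h' : n * x * n⁻¹ = x :=
      congrArg (fun w : R => (w : G)) (DFunLike.congr_fun h (⟨x, hx⟩ : R))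
    exact (mul_inv_eq_iff_eq_mul.1 h').symm)
  obtain ⟨r, hr, hrd⟩ := Nat.exists_prime_and_dvd (fun h => hψ (orderOf_eq_one_iff.1 h))
  haveI := Fact.mk hr
  have hrn : r ∣ orderOf n := by
    refine hrd.trans ((orderOf_map_dvd ψ _).trans ?_)
    rw [Subgroup.orderOf_mk]
  let v := (orderOf n).factorization r
  have hvd : r ^ v ∣ orderOf n := Nat.ordProj_dvd _ _
  let y := n ^ (orderOf n / r ^ v)
  have hy : y ∈ N' := N'.pow_mem hn _
  have hyord : orderOf y = r ^ v := orderOf_pow_orderOf_div (orderOf_pos n).ne' hvd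
  have hyC : y ∉ Subgroup.centralizer (R : Set G) := fun hC => by
    have h1 : ψ ⟨n, hn⟩ ^ (orderOf n / r ^ v) = 1 := by
      rw [← map_pow]
      refine MulEquiv.ext fun x => Subtype.ext ?_
      show y * (x : G) * y⁻¹ = x
      rw [← Subgroup.mem_centralizer_iff.1 hC x x.2, mul_inv_cancel_right]
    exact Nat.not_dvd_ordCompl hr (orderOf_pos n).ne' (hrd.trans (orderOf_dvd_of_pow_eq_one h1))
  have hrp : r ≠ p := fun h => by
    rw [← h] at hcop
    exact hr.coprime_iff_not_dvd.1 hcop.symm hrn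
  have hr2 := dvd_sq_sub_one hrp hRp (exists_two_gen S hS hRS) hy hyord hyC
  have hyL : y ∉ Cfsg.pPrimePCore p G := by
    intro hyL
    haveI := hKn
    obtain ⟨k, hk⟩ := Cores.isPGroup_pCore p (G ⧸ Cfsg.pPrimeCore p G) ⟨_, hyL⟩
    have h1 : (QuotientGroup.mk' (Cfsg.pPrimeCore p G) y) ^ p ^ k = 1 := congrArg Subtype.val hk
    have h2 : orderOf (QuotientGroup.mk' (Cfsg.pPrimeCore p G) y) ∣ r ^ v :=
      hyord ▸ orderOf_map_dvd _ y
    have hyK : y ∈ Cfsg.pPrimeCore p G := (QuotientGroup.eq_one_iff y).1 (orderOf_eq_one_iff.1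
      (Nat.eq_one_of_dvd_coprimes (((Nat.coprime_primes (Fact.out : p.Prime) hr).2 hrp.symm).pow k v)
        (orderOf_dvd_of_pow_eq_one h1) h2))
    refine hyC (Subgroup.mem_centralizer_iff.2 fun x hx => ?_)
    have hc1 : y * x * y⁻¹ * x⁻¹ ∈ R :=
      R.mul_mem ((Subgroup.mem_normalizer_iff.1 hy x).1 hx) (R.inv_mem hx)
    have hc2 : y * x * y⁻¹ * x⁻¹ ∈ Cfsg.pPrimeCore p G := by
      rw [show y * x * y⁻¹ * x⁻¹ = y * (x * y⁻¹ * x⁻¹) by group]
      exact (Cfsg.pPrimeCore p G).mul_mem hyK (hKn.conj_mem _ ((Cfsg.pPrimeCore p G).inv_mem hyK) x)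
    obtain ⟨e, he⟩ := IsPGroup.iff_card.1 hRp
    have h3 : y * x * y⁻¹ * x⁻¹ = 1 := orderOf_eq_one_iff.1 (Nat.eq_one_of_dvd_coprimes
      (((Cores.coprime_card_pPrimeCore (G := G) p).pow_right e).symm)
      (he ▸ Subgroup.orderOf_dvd_natCard R hc1) (Subgroup.orderOf_dvd_natCard _ hc2))
    exact (mul_inv_eq_iff_eq_mul.1 (mul_inv_eq_one.1 h3)).symm
  haveI : (Cfsg.pPrimePCore p G).Normal := by
    haveI := hKn
    exact (Cores.pCore_normal p _).comap _
  have hrL : r ∣ Nat.card (G ⧸ Cfsg.pPrimePCore p G) := by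
    have h1 : orderOf (QuotientGroup.mk' (Cfsg.pPrimePCore p G) y) ∣ r ^ v :=
      hyord ▸ orderOf_map_dvd _ y
    obtain ⟨w, -, hw⟩ := (Nat.dvd_prime_pow hr).1 h1
    have hw0 : w ≠ 0 := fun h => by
      rw [h, pow_zero, orderOf_eq_one_iff] at hw
      exact hyL ((QuotientGroup.eq_one_iff y).1 hw)
    exact ((dvd_pow_self r hw0).trans hw.symm.dvd).trans (orderOf_dvd_natCard _)
  exact hr.ne_one (Nat.eq_one_of_dvd_coprimes hco hrL hr2)

end Cfsg.Agent.S4419
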