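import Cfsg.Statements.S4420
import Cfsg.Agent.EqLemmas

set_option autoImplicit false
open Cfsg

namespace Cfsg.Agent.S4420

theorem inverts {H : Type*} [Group H] (A : Subgroup H) (hD : ∀ x : H, x ∉ A → x ^ 2 = 1)
    {x a : H} (hx : x ∉ A) (ha : a ∈ A) : x * a * x⁻¹ = a⁻¹ := by
  have h1 : x * x = 1 := by simpa [pow_two] using hD x hx
  have hxa : x * a ∉ A := fun h => hx (by simpa using A.mul_mem h (A.inv_mem ha))
  have h2 : (x * a) * (x * a) = 1 := by simpa [pow_two] using hD _ hxa
  have h3 : x⁻¹ = x := inv_eq_of_mul_eq_one_right h1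
  rw [h3]
  exact eq_inv_of_mul_eq_one_left (by simpa [mul_assoc] using h2)

/-- Structure of groups in which every element outside some proper subgroup has square 1. Let H be a finite group with a proper subgroup A such that every element outside A has square 1. Then H has an abelian normal subgroup B of index 2 such that every element outside B is an involution inverting every element of B; and if H is not an elementary abelian 2-group, B is the only abelian normal subgroup of index 2 with this property. -/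
theorem result {H : Type*} [Group H] [Finite H] (A : Subgroup H) (hA : A ≠ ⊤) (hD : ∀ x : H, x ∉ A → x ^ 2 = 1) :
    ∃ B : Subgroup H, B.Normal ∧ IsMulCommutative ↥B ∧ B.index = 2 ∧
      (∀ x : H, x ∉ B → x ^ 2 = 1 ∧ ∀ b ∈ B, x * b * x⁻¹ = b⁻¹) ∧
      (¬ (IsMulCommutative H ∧ ∀ x : H, x ^ 2 = 1) →
        ∀ B' : Subgroup H, B'.Normal → IsMulCommutative ↥B' → B'.index = 2 →
          (∀ x : H, x ∉ B' → x ^ 2 = 1 ∧ ∀ b ∈ B', x * b * x⁻¹ = b⁻¹) → B' = B) := by
  obtain ⟨x₀, hx₀⟩ : ∃ x, x ∉ A := by
    by_contra h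
    push_neg at h
    exact hA (eq_top_iff.2 fun x _ => h x)
  by_cases hall : ∀ h : H, h ^ 2 = 1
  · have hinv : ∀ h : H, h⁻¹ = h := fun h =>
      inv_eq_of_mul_eq_one_right (by simpa [pow_two] using hall h)
    have hcomm : ∀ a b : H, a * b = b * a := fun a b => by
      have := hinv (a * b)
      rw [mul_inv_rev, hinv, hinv] at this
      exact this.symm
    haveI : Fact (Nat.Prime 2) := ⟨Nat.prime_two⟩
    have hp : IsPGroup 2 H := fun h => ⟨1, by simpa using hall h⟩
    obtain ⟨n, hn⟩ := IsPGroup.iff_card.1 hp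
    obtain ⟨m, rfl⟩ : ∃ m, n = m + 1 := by
      refine ⟨n - 1, ?_⟩
      rcases n with _ | k
      · exfalso
        haveI := (Nat.card_eq_one_iff_unique.1 (by simpa using hn)).1
        exact hx₀ (by rw [Subsingleton.elim x₀ 1]; exact A.one_mem)
      · omega
    obtain ⟨B, hB⟩ := Sylow.exists_subgroup_card_pow_prime 2
      (show 2 ^ m ∣ Nat.card H by rw [hn]; exact pow_dvd_pow 2 (Nat.le_succ m))
    refine ⟨B, ⟨fun b hb g => by rw [hcomm g b, mul_assoc, mul_inv_cancel, mul_one]; exact hb⟩,
      ⟨⟨fun a b => Subtype.ext (hcomm a b)⟩⟩, ?_, ?_, ?_⟩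
    · have := B.card_mul_index
      rw [hB, hn, pow_succ] at this
      exact mul_left_cancel₀ (by positivity) this
    · intro x _
      exact ⟨hall x, fun b _ => by rw [hcomm x b, mul_assoc, mul_inv_cancel, mul_one, hinv]⟩
    · intro hne
      exact absurd ⟨⟨⟨hcomm⟩⟩, hall⟩ hne
  · have hAc : ∀ a ∈ A, ∀ b ∈ A, a * b = b * a := fun a ha b hb => by
      have h1 := inverts A hD hx₀ (A.mul_mem ha hb)
      rw [show x₀ * (a * b) * x₀⁻¹ = (x₀ * a * x₀⁻¹) * (x₀ * b * x₀⁻¹) by group,
        inverts A hD hx₀ ha, inverts A hD hx₀ hb, ← mul_inv_rev] at h1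
      exact (inv_injective h1).symm
    have hprod : ∀ x y, x ∉ A → y ∉ A → x * y ∈ A := by
      intro x y hx hy
      by_contra hxy
      apply hall
      intro h
      by_cases hh : h ∈ A
      · have h1 := inverts A hD hxy hh
        rw [show x * y * h * (x * y)⁻¹ = x * (y * h * y⁻¹) * x⁻¹ by group,
          inverts A hD hy hh, inverts A hD hx (A.inv_mem hh)] at h1
        have hinv : h⁻¹ = (h⁻¹)⁻¹ := h1.symm
        have hhh : h = h⁻¹ := by simpa using hinv.symm
        rw [pow_two]
        nth_rewrite 2 [hhh]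
        simp
      · exact hD h hh
    have hidx : A.index = 2 := by
      rw [Subgroup.index_eq_two_iff]
      refine ⟨x₀, fun b => ?_⟩
      by_cases hb : b ∈ A
      · exact Or.inr ⟨hb, fun h => hx₀ (by simpa using A.mul_mem (A.inv_mem hb) h)⟩
      · exact Or.inl ⟨hprod b x₀ hb hx₀, hb⟩
    refine ⟨A, Subgroup.normal_of_index_eq_two hidx,
      ⟨⟨fun a b => Subtype.ext (hAc a a.2 b b.2)⟩⟩, hidx,
      fun x hx => ⟨hD x hx, fun b hb => inverts A hD hx hb⟩, ?_⟩
    intro _ B' _ hB'c hB'i hB'
    by_contra hne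
    obtain ⟨b, hb, hbA⟩ : ∃ b ∈ B', b ∉ A := by
      by_contra h
      push_neg at h
      have hle : B' ≤ A := h
      apply hne
      have h1 := Subgroup.relIndex_mul_index hle
      rw [hidx, hB'i] at h1
      have h2 : B'.relIndex A = 1 := by omega
      exact le_antisymm hle (Subgroup.relIndex_eq_one.1 h2)
    apply hall
    intro h
    by_cases hh : h ∈ A
    · by_cases hh' : h ∈ B'
      · have h1 := inverts A hD hbA hh
        have h2 : b * h = h * b := congrArg Subtype.val (hB'c.is_comm.comm ⟨b, hb⟩ ⟨h, hh'⟩)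
        rw [h2, mul_inv_cancel_right] at h1
        rw [pow_two]
        nth_rewrite 2 [h1]
        simp
      · exact (hB' h hh').1
    · exact hD h hh

end Cfsg.Agent.S4420
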