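import Cfsg.Statements.S4421
import Cfsg.Agent.EqLemmas

set_option autoImplicit false
open Cfsg

namespace Cfsg.Agent.S4421

theorem map_conj_mul {G : Type*} [Group G] (A : Subgroup G) (g h : G) :
    A.map (MulAut.conj (g * h)).toMonoidHom
      = (A.map (MulAut.conj h).toMonoidHom).map (MulAut.conj g).toMonoidHom := by
  rw [Subgroup.map_map]
  congr 1
  ext x
  simp [mul_assoc]

theorem map_conj_one {G : Type*} [Group G] (A : Subgroup G) :
    A.map (MulAut.conj (1 : G)).toMonoidHom = A := by
  ext x; simp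

theorem mem_normalizer_of_map {G : Type*} [Group G] (A : Subgroup G) {g : G} :
    g ∈ Subgroup.normalizer (A : Set G) ↔ A.map (MulAut.conj g).toMonoidHom = A := by
  constructor
  · intro h
    ext x
    simp only [Subgroup.mem_map, MulEquiv.coe_toMonoidHom, MulAut.conj_apply]
    constructor
    · rintro ⟨a, ha, rfl⟩; exact ((Subgroup.mem_normalizer_iff.1 h) a).1 ha
    · intro hx
      refine ⟨g⁻¹ * x * g, ?_, by group⟩
      apply ((Subgroup.mem_normalizer_iff.1 h) _).2
      convert hx using 1; group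
  · intro h
    rw [Subgroup.mem_normalizer_iff]
    intro a
    constructor
    · intro ha
      have : g * a * g⁻¹ ∈ A.map (MulAut.conj g).toMonoidHom :=
        ⟨a, ha, by simp⟩
      rwa [h] at this
    · intro ha
      rw [← h] at ha
      obtain ⟨b, hb, hb'⟩ := ha
      simp at hb'
      rwa [← hb']

/-- A factorization of a normalizer from two-step control of fusion. Let `G` be a finite group and `A ≤ S ≤ H` subgroups of `G` such that: (i) `S` controls the `G`-fusion of `A` in the sense that every `G`-conjugate of `A` lying in `S` is an `S`-conjugate of `A`; (ii) `H` controls the `G`-fusion of `S` in the same sense; (iii) every conjugate of `S` by an element of the normalizer of `A` lies in `H`. Then `N_G(A) = N_H(A) · (N_G(S) ∩ N_G(A))`: every element of the normalizer of `A` is a product of an element of `H` normalizing `A` and an element normalizing both `S` and `A`. -/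
theorem result {G : Type*} [Group G] [Finite G] (A S H : Subgroup G)
    (hAS : A ≤ S) (hSH : S ≤ H)
    (h1 : ∀ g : G, A.map (MulAut.conj g).toMonoidHom ≤ S → ∃ s ∈ S, A.map (MulAut.conj g).toMonoidHom = A.map (MulAut.conj s).toMonoidHom)
    (h2 : ∀ g : G, S.map (MulAut.conj g).toMonoidHom ≤ H → ∃ y ∈ H, S.map (MulAut.conj g).toMonoidHom = S.map (MulAut.conj y).toMonoidHom)
    (h3 : ∀ x ∈ Subgroup.normalizer (A : Set G), S.map (MulAut.conj x).toMonoidHom ≤ H) :
    ∀ x ∈ Subgroup.normalizer (A : Set G), ∃ y ∈ H ⊓ Subgroup.normalizer (A : Set G),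
      ∃ z ∈ Subgroup.normalizer (S : Set G) ⊓ Subgroup.normalizer (A : Set G), x = y * z := by
  intro x hx
  obtain ⟨y, hy, hxy⟩ := h2 x (h3 x hx)
  have hxA := (mem_normalizer_of_map A).1 hx
  have hS : S.map (MulAut.conj (y⁻¹ * x)).toMonoidHom = S := by
    rw [map_conj_mul, hxy, ← map_conj_mul, inv_mul_cancel, map_conj_one]
  have hA' : A.map (MulAut.conj (y⁻¹ * x)).toMonoidHom = A.map (MulAut.conj y⁻¹).toMonoidHom := by
    rw [map_conj_mul, hxA]
  obtain ⟨s, hs, hsA⟩ := h1 y⁻¹ (by rw [← hA']; exact le_trans (Subgroup.map_mono hAS) hS.le)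
  have hy' : A.map (MulAut.conj (y * s)).toMonoidHom = A := by
    rw [map_conj_mul, ← hsA, ← map_conj_mul, mul_inv_cancel, map_conj_one]
  refine ⟨y * s, ⟨H.mul_mem hy (hSH hs), (mem_normalizer_of_map A).2 hy'⟩, s⁻¹ * (y⁻¹ * x),
    ⟨Subgroup.mul_mem _ (Subgroup.inv_mem _ (Subgroup.le_normalizer hs))
      ((mem_normalizer_of_map S).2 hS), ?_⟩, by group⟩
  have h4 := Subgroup.mul_mem _ (Subgroup.inv_mem _ ((mem_normalizer_of_map A).2 hy')) hx
  have heq : (y * s)⁻¹ * x = s⁻¹ * (y⁻¹ * x) := by group
  rw [← heq]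
  exact h4

end Cfsg.Agent.S4421
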