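import Cfsg.Statements.S4422
import Cfsg.Agent.EqLemmas

set_option autoImplicit false
open Cfsg

namespace Cfsg.Agent.S4422

/-- Primitive divisors of `q^e - 1` are congruent to 1 modulo `e`. Let `q ≥ 2` and `e ≥ 1` be natural numbers and let `m` be a divisor of `q^e - 1` that is coprime to `q^i - 1` for every `1 ≤ i < e` (so `m` divides the primitive part of `q^e - 1`, the largest such divisor). Then `m ≡ 1 (mod e)`. -/
theorem result (q e m : ℕ) (hq : 2 ≤ q) (he : 1 ≤ e)
    (hm : m ∣ q ^ e - 1) (hcop : ∀ i : ℕ, 1 ≤ i → i < e → Nat.Coprime m (q ^ i - 1)) :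
    m % e = 1 % e := by
  have hm0 : m ≠ 0 := by
    rintro rfl
    have h1 := Nat.eq_zero_of_zero_dvd hm
    have h2 : 1 < q ^ e := Nat.one_lt_pow (by omega) (by omega)
    omega
  have key : ∀ r ∈ m.primeFactorsList, r ≡ 1 [MOD e] := by
    intro r hr
    obtain ⟨hrp, hrm⟩ := (Nat.mem_primeFactorsList hm0).1 hr
    haveI : Fact r.Prime := ⟨hrp⟩
    have hpow : ∀ i, ((q : ZMod r) ^ i = 1 ↔ r ∣ q ^ i - 1) := by
      intro i
      rw [← ZMod.natCast_eq_zero_iff]
      rw [Nat.cast_sub (Nat.one_le_pow _ _ (by omega)), sub_eq_zero]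
      push_cast
      rfl
    have h1 : (q : ZMod r) ^ e = 1 := (hpow e).2 (hrm.trans hm)
    have hq0 : (q : ZMod r) ≠ 0 := by
      intro h
      rw [h, zero_pow (by omega)] at h1
      exact zero_ne_one h1
    have ho : orderOf (q : ZMod r) = e := by
      rw [orderOf_eq_iff (by omega)]
      refine ⟨h1, fun i hi hi0 h => ?_⟩
      exact hrp.one_lt.ne' (Nat.eq_one_of_dvd_coprimes (hcop i hi0 hi) hrm ((hpow i).1 h))
    have hd := ZMod.orderOf_dvd_card_sub_one hq0
    rw [ho] at hd
    exact ((Nat.modEq_iff_dvd' hrp.one_le).2 hd).symm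
  have hl : ∀ l : List ℕ, (∀ r ∈ l, r ≡ 1 [MOD e]) → l.prod ≡ 1 [MOD e] := by
    intro l
    induction l with
    | nil => intro _; exact Nat.ModEq.refl _
    | cons a t ih =>
      intro h
      have := (h a (by simp)).mul (ih fun r hr => h r (by simp [hr]))
      simpa using this
  have := hl _ key
  rwa [Nat.prod_primeFactorsList hm0] at this

end Cfsg.Agent.S4422
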