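import Cfsg.Statements.S4423
import Cfsg.Agent.EqLemmas
import Cfsg.Agent.Lib.Zsigmondy.Large

set_option autoImplicit false
open Cfsg

namespace Cfsg.Agent.S4423

open Polynomial
open Cfsg.Agent.Zsigmondy

/-- Primitive divisors in the small cases. -/
def partWitness : List (ℕ × ℕ × ℕ) :=
  [(3, 3, 13), (3, 5, 31), (3, 6, 43), (3, 7, 19), (3, 8, 73), (3, 9, 91),
    (4, 4, 17), (4, 5, 13), (4, 6, 37), (4, 7, 25), (4, 8, 65), (4, 9, 41),
    (4, 10, 101), (4, 11, 61), (4, 12, 145), (5, 2, 31), (5, 3, 121), (6, 6, 31),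
    (6, 7, 43), (6, 8, 19), (6, 9, 73), (6, 10, 91), (6, 11, 37), (6, 12, 133),
    (6, 13, 157), (6, 14, 61), (6, 15, 211), (6, 16, 241), (6, 17, 91), (7, 2, 127),
    (8, 3, 41), (8, 4, 257), (9, 2, 73), (10, 3, 61), (10, 4, 41), (10, 5, 521),
    (12, 3, 73), (12, 4, 241), (12, 5, 601), (14, 2, 43), (14, 3, 547), (15, 2, 151),
    (16, 2, 257), (18, 3, 703), (22, 2, 683), (24, 2, 241), (26, 2, 2731), (28, 2, 3277),
    (30, 2, 331), (30, 3, 8401), (36, 2, 4033), (42, 2, 5419)]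

theorem partWitness_spec : ∀ x ∈ partWitness, x.2.2 ∣ x.2.1 ^ x.1 - 1 ∧
    (∀ i < x.1, 1 ≤ i → Nat.Coprime x.2.2 (x.2.1 ^ i - 1)) ∧ 3 * x.1 + 1 ≤ x.2.2 := by decide +kernel

/-- The exceptional pairs. -/
def excList : List (ℕ × ℕ) := [(2, 6), (2, 4), (2, 10), (2, 12), (2, 18), (3, 4), (3, 6), (5, 6), (2, 3), (2, 8), (2, 20), (4, 3), (4, 6)]

set_option synthInstance.maxSize 1024 in
set_option synthInstance.maxHeartbeats 100000 in
theorem part_small_cover : ∀ n < 43, ∀ q < 120, n < 3 ∨ q < 2 ∨ 4 * (n * (2 * n + 1)) < q ^ n.totient ∨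
    (q, n) ∈ excList ∨ ∃ x ∈ partWitness, x.1 = n ∧ x.2.1 = q := by decide +kernel

/-- The primitive parts of the exceptional pairs. -/
def excPart : List (ℕ × ℕ × ℕ) := [(2, 6, 1), (2, 4, 5), (2, 10, 11), (2, 12, 13), (2, 18, 19), (3, 4, 5), (3, 6, 7), (5, 6, 7), (2, 3, 7), (2, 8, 17), (2, 20, 41), (4, 3, 7), (4, 6, 13)]

theorem excPart_spec : ∀ x ∈ excPart, x.2.2 ≤ 2 * x.2.1 + 1 ∧
    x.1 ^ x.2.1 - 1 ∣ x.2.2 * (∏ i ∈ Finset.Ico 1 x.2.1, (x.1 ^ i - 1)) ^ 3 := by decide +kernel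

theorem excList_eq : excList = excPart.map fun x => (x.1, x.2.1) := rfl

theorem part_totient_chunk0 : ∀ k < 127,
    4 * ((43 + k) * (2 * (43 + k) + 1)) < 2 ^ (43 + k).totient := by decide +kernel

theorem part_totient_chunk1 : ∀ k < 127,
    4 * ((170 + k) * (2 * (170 + k) + 1)) < 2 ^ (170 + k).totient := by decide +kernel

theorem part_totient_chunk2 : ∀ k < 127,
    4 * ((297 + k) * (2 * (297 + k) + 1)) < 2 ^ (297 + k).totient := by decide +kernel

theorem part_totient_chunk3 : ∀ k < 127,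
    4 * ((424 + k) * (2 * (424 + k) + 1)) < 2 ^ (424 + k).totient := by decide +kernel

theorem part_totient_chunk4 : ∀ k < 127,
    4 * ((551 + k) * (2 * (551 + k) + 1)) < 2 ^ (551 + k).totient := by decide +kernel

theorem part_totient_chunk5 : ∀ k < 127,
    4 * ((678 + k) * (2 * (678 + k) + 1)) < 2 ^ (678 + k).totient := by decide +kernel

theorem part_totient_chunk6 : ∀ k < 127,
    4 * ((805 + k) * (2 * (805 + k) + 1)) < 2 ^ (805 + k).totient := by decide +kernel

theorem part_totient_chunk7 : ∀ k < 127,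
    4 * ((932 + k) * (2 * (932 + k) + 1)) < 2 ^ (932 + k).totient := by decide +kernel

theorem part_totient_check :
    ∀ n < 1059, 43 ≤ n → 4 * (n * (2 * n + 1)) < 2 ^ n.totient := by
  intro n hn h
  by_cases h0 : n < 170
  · have := part_totient_chunk0 (n - 43) (by omega)
    rwa [Nat.add_sub_cancel' (by omega)] at this
  by_cases h1 : n < 297
  · have := part_totient_chunk1 (n - 170) (by omega)
    rwa [Nat.add_sub_cancel' (by omega)] at this
  by_cases h2 : n < 424
  · have := part_totient_chunk2 (n - 297) (by omega)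
    rwa [Nat.add_sub_cancel' (by omega)] at this
  by_cases h3 : n < 551
  · have := part_totient_chunk3 (n - 424) (by omega)
    rwa [Nat.add_sub_cancel' (by omega)] at this
  by_cases h4 : n < 678
  · have := part_totient_chunk4 (n - 551) (by omega)
    rwa [Nat.add_sub_cancel' (by omega)] at this
  by_cases h5 : n < 805
  · have := part_totient_chunk5 (n - 678) (by omega)
    rwa [Nat.add_sub_cancel' (by omega)] at this
  by_cases h6 : n < 932
  · have := part_totient_chunk6 (n - 805) (by omega)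
    rwa [Nat.add_sub_cancel' (by omega)] at this
  have := part_totient_chunk7 (n - 932) (by omega)
  rwa [Nat.add_sub_cancel' (by omega)] at this

theorem lt_forty_three_of_part {n : ℕ} (h : 2 ^ n.totient ≤ 4 * (n * (2 * n + 1))) : n < 43 := by
  by_contra hn
  have h2 := (le_two_mul_totient_sq n).1
  suffices n.totient ≤ 23 by
    have : n.totient ^ 2 ≤ 23 ^ 2 := Nat.pow_le_pow_left this 2
    exact absurd (part_totient_check n (by omega) (by omega)) (not_lt.2 h)
  by_contra hf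
  have key : ∀ f, 24 ≤ f → 4 * (2 * f ^ 2 * (4 * f ^ 2 + 1)) < 2 ^ f := by
    intro f hf
    induction f, hf using Nat.le_induction with
    | base => norm_num
    | succ f hf ih =>
      rw [pow_succ 2 f]
      have : (f + 1) ^ 4 ≤ 2 * f ^ 4 := by
        nlinarith [Nat.mul_le_mul_left (f ^ 3) hf, Nat.mul_le_mul_left (f ^ 2) hf, Nat.mul_le_mul_left f hf]
      nlinarith [pow_le_pow_left₀ (Nat.zero_le 24) hf 2]
  have := key n.totient (by omega)
  have hmul : n * (2 * n + 1) ≤ 2 * n.totient ^ 2 * (4 * n.totient ^ 2 + 1) :=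
    Nat.mul_le_mul h2 (by omega)
  omega

/-- Without a primitive divisor of size `3 n + 1` the cyclotomic value is at most `(2 n + 1) n`. -/
theorem bound_of_small_part {q n : ℕ} (hq : 2 ≤ q) (hn : 2 < n)
    (hno : ∀ m : ℕ, m ∣ q ^ n - 1 → (∀ i : ℕ, 1 ≤ i → i < n → Nat.Coprime m (q ^ i - 1)) → m < 3 * n + 1) :
    ((cyclotomic n ℤ).eval (q : ℤ)).natAbs ≤ (2 * n + 1) * n := by
  set N := ((cyclotomic n ℤ).eval (q : ℤ)).natAbs with hN
  have hdvd : ∀ {s : ℕ}, s ∣ N → (s : ℤ) ∣ (cyclotomic n ℤ).eval (q : ℤ) := fun h => Int.natCast_dvd.2 h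
  have hNd : N ∣ q ^ n - 1 := by
    have h := eval_dvd (x := (q : ℤ)) (cyclotomic.dvd_X_pow_sub_one n ℤ)
    simp only [eval_sub, eval_pow, eval_X, eval_one] at h
    have h' := Int.natAbs_dvd_natAbs.2 h
    have hpos : 1 ≤ q ^ n := Nat.one_le_pow _ _ (by omega)
    rwa [show (q : ℤ) ^ n - 1 = ((q ^ n - 1 : ℕ) : ℤ) by push_cast [Nat.cast_sub hpos]; rfl,
      Int.natAbs_natCast] at h'
  have hprim : ∀ p : ℕ, p.Prime → p ∣ N → orderOf (q : ZMod p) = n →
      (∀ i : ℕ, 1 ≤ i → i < n → Nat.Coprime p (q ^ i - 1)) ∧ (p = n + 1 ∨ p = 2 * n + 1) ∧ ¬ p ^ 2 ∣ N := by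
    intro p hp hpN ho
    have := Fact.mk hp
    obtain ⟨hpq, -⟩ := exists_eq_pow_mul_orderOf hp (by omega) (hdvd hpN)
    obtain ⟨-, h2⟩ := primitive_of_orderOf_eq hp hpq ho
    have hco : ∀ i : ℕ, 1 ≤ i → i < n → Nat.Coprime p (q ^ i - 1) := fun i hi hin =>
      hp.coprime_iff_not_dvd.2 (h2 i hi hin)
    have hd : n ∣ p - 1 := ho ▸ ZMod.orderOf_dvd_card_sub_one (by rwa [Ne, ZMod.natCast_eq_zero_iff])
    have hlt := hno p (hpN.trans hNd) hco
    obtain ⟨k, hk⟩ := hd
    have hp2 := hp.two_le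
    have hk3 : k < 3 := Nat.lt_of_mul_lt_mul_left (a := n) (by omega)
    refine ⟨hco, ?_, fun h2' => ?_⟩
    · interval_cases k <;> omega
    · have h3 := hno (p ^ 2) (h2'.trans hNd) fun i hi hin => (hco i hi hin).pow_left 2
      have h4 : n + 1 ≤ p := by interval_cases k <;> omega
      nlinarith
  let r₀ := Finset.sup n.primeFactors id
  have himp : ∀ p : ℕ, p.Prime → p ∣ N → orderOf (q : ZMod p) ≠ n → p = r₀ := by
    intro p hp hpN ho
    obtain ⟨j, hj0, hj, -⟩ := imprimitive hp (by omega) (hdvd hpN) ho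
    refine le_antisymm (Finset.le_sup (f := id) (Nat.mem_primeFactors.2
      ⟨hp, by rw [hj]; exact (dvd_pow_self p hj0.ne').mul_right _, by omega⟩)) (Finset.sup_le fun s hs => ?_)
    obtain ⟨hs, hsn, -⟩ := Nat.mem_primeFactors.1 hs
    exact prime_le_of_imprimitive hp (by omega) (hdvd hpN) ho hs hsn
  have hsq : Squarefree N := by
    rw [Nat.squarefree_iff_prime_squarefree]
    intro p hp hpp
    have hpN : p ∣ N := (dvd_mul_left p p).trans hpp
    rw [← pow_two] at hpp
    by_cases ho : orderOf (q : ZMod p) = n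
    · exact (hprim p hp hpN ho).2.2 hpp
    · refine not_sq_dvd_cyclotomic hp hn hq (hdvd hpN) ho ?_
      exact_mod_cast hdvd hpp
  have hr0 : r₀ ≤ n := Finset.sup_le fun s hs => Nat.le_of_mem_primeFactors hs
  have hr1 : 1 ≤ r₀ := by
    obtain ⟨s, hs, hsn⟩ := Nat.exists_prime_and_dvd (by omega : n ≠ 1)
    exact hs.pos.trans_le (Finset.le_sup (f := id) (Nat.mem_primeFactors.2 ⟨hs, hsn, by omega⟩))
  obtain ⟨P, hP1, hP2, hsub⟩ : ∃ P, n + 1 ≤ P ∧ P ≤ 2 * n + 1 ∧ N.primeFactors ⊆ {P, r₀} := by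
    by_cases h : ∃ p : ℕ, p.Prime ∧ p ∣ N ∧ orderOf (q : ZMod p) = n
    · obtain ⟨P, hP, hPN, hPo⟩ := h
      obtain ⟨hPco, hPv, -⟩ := hprim P hP hPN hPo
      refine ⟨P, by omega, by omega, fun p hp => ?_⟩
      obtain ⟨hp, hpN, -⟩ := Nat.mem_primeFactors.1 hp
      by_cases ho : orderOf (q : ZMod p) = n
      · obtain ⟨hpco, hpv, -⟩ := hprim p hp hpN ho
        suffices p = P by simp [this]
        by_contra hne
        have h3 := hno (p * P) ((((Nat.coprime_primes hp hP).2 hne).mul_dvd_of_dvd_of_dvd hpN hPN).trans hNd)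
          fun i hi hin => (hpco i hi hin).mul_left (hPco i hi hin)
        rcases hpv with rfl | rfl <;> rcases hPv with rfl | rfl
        · exact hne rfl
        · nlinarith
        · nlinarith
        · exact hne rfl
      · simp [himp p hp hpN ho]
    · refine ⟨2 * n + 1, by omega, le_rfl, fun p hp => ?_⟩
      obtain ⟨hp, hpN, -⟩ := Nat.mem_primeFactors.1 hp
      simp [himp p hp hpN fun ho => h ⟨p, hp, hpN, ho⟩]
  rw [← Nat.prod_primeFactors_of_squarefree hsq]
  refine (Finset.prod_le_prod_of_subset_of_one_le' hsub fun i hi _ => ?_).trans ?_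
  · simp only [Finset.mem_insert, Finset.mem_singleton] at hi
    omega
  · rw [Finset.prod_pair (by omega)]
    exact Nat.mul_le_mul hP2 hr0

/-- Size of the primitive part of `q^e - 1`. For a prime power `q` and `e ≥ 3`, call a divisor of `q^e - 1` primitive when it is coprime to `q^i - 1` for every `1 ≤ i < e`; the primitive part is the largest primitive divisor. Apart from thirteen exceptional pairs, the primitive part is at least `3e + 1`: there is a primitive divisor `m ≥ 3e + 1` unless `(q, e)` is `(2, 6)` (where every primitive divisor is 1), one of `(2,4), (2,10), (2,12), (2,18), (3,4), (3,6), (5,6)` (where the primitive part is exactly `e + 1`), or one of `(2,3), (2,8), (2,20), (4,3), (4,6)` (where it is exactly `2e + 1`). The statement asserts the existence of a primitive divisor `m ≥ 3e + 1` outside the thirteen pairs, and that every primitive divisor is at most `2e + 1` for the thirteen pairs. -/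
theorem result (q e : ℕ) (hq : IsPrimePow q) (he : 3 ≤ e) :
    ((q, e) ∉ [(2, 6), (2, 4), (2, 10), (2, 12), (2, 18), (3, 4), (3, 6), (5, 6), (2, 3), (2, 8), (2, 20), (4, 3), (4, 6)] →
      ∃ m : ℕ, m ∣ q ^ e - 1 ∧ (∀ i : ℕ, 1 ≤ i → i < e → Nat.Coprime m (q ^ i - 1)) ∧ 3 * e + 1 ≤ m) ∧
    ((q, e) ∈ [(2, 6), (2, 4), (2, 10), (2, 12), (2, 18), (3, 4), (3, 6), (5, 6), (2, 3), (2, 8), (2, 20), (4, 3), (4, 6)] →
      ∀ m : ℕ, m ∣ q ^ e - 1 → (∀ i : ℕ, 1 ≤ i → i < e → Nat.Coprime m (q ^ i - 1)) → m ≤ 2 * e + 1) := by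
  have hq2 : 2 ≤ q := hq.two_le
  refine ⟨fun hnot => ?_, fun hmem m hm hco => ?_⟩
  · by_contra hcon
    have hno : ∀ m : ℕ, m ∣ q ^ e - 1 → (∀ i : ℕ, 1 ≤ i → i < e → Nat.Coprime m (q ^ i - 1)) → m < 3 * e + 1 :=
      fun m hm hco => Nat.lt_of_not_le fun hle => hcon ⟨m, hm, hco, hle⟩
    have h1 := pow_totient_le_four_mul_cyclotomic hq2 (by omega : 0 < e)
    have h2 := bound_of_small_part hq2 (by omega) hno
    have h3 : q ^ e.totient ≤ 4 * (e * (2 * e + 1)) := by
      rw [mul_comm e (2 * e + 1)]; omega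
    have he43 := lt_forty_three_of_part (le_trans (Nat.pow_le_pow_left hq2 _) h3)
    have hq120 : q < 120 := by
      have h4 : 2 ≤ e.totient := by
        have h5 := Nat.totient_pos.2 (by omega : 0 < e)
        rcases Nat.lt_or_ge 1 e.totient with h | h
        · exact h
        · rcases Nat.totient_eq_one_iff.1 (by omega : e.totient = 1) with h | h <;> omega
      have h5 : q ^ 2 ≤ q ^ e.totient := Nat.pow_le_pow_right (by omega) h4
      by_contra hq
      have h6 : 120 ^ 2 ≤ q ^ 2 := Nat.pow_le_pow_left (by omega) 2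
      have h7 : e * (2 * e + 1) ≤ 42 * 85 := Nat.mul_le_mul (by omega) (by omega)
      omega
    rcases part_small_cover e he43 q hq120 with h | h | h | h | ⟨x, hx, rfl, rfl⟩
    · omega
    · omega
    · omega
    · exact hnot h
    · obtain ⟨a, b, c⟩ := partWitness_spec x hx
      exact hcon ⟨x.2.2, a, fun i hi hin => b i hin hi, c⟩
  · rw [← excList, excList_eq, List.mem_map] at hmem
    obtain ⟨⟨q', e', P⟩, hx, hqe⟩ := hmem
    obtain ⟨rfl, rfl⟩ := Prod.mk.injEq .. ▸ hqe
    obtain ⟨hP, hd⟩ := excPart_spec _ hx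
    have hcop : Nat.Coprime m ((∏ i ∈ Finset.Ico 1 e', (q' ^ i - 1)) ^ 3) :=
      (Nat.Coprime.prod_right fun i hi => hco i (Finset.mem_Ico.1 hi).1 (Finset.mem_Ico.1 hi).2).pow_right 3
    have hmP : m ∣ P := hcop.dvd_of_dvd_mul_right (hm.trans hd)
    refine (Nat.le_of_dvd (Nat.pos_of_ne_zero fun h0 => ?_) hmP).trans hP
    subst h0
    revert hd hx
    simp only [excPart, List.mem_cons, List.not_mem_nil, or_false, Prod.mk.injEq]
    intro hx
    omega

end Cfsg.Agent.S4423
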