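import Cfsg.Statements.S4425
import Cfsg.Agent.Lib.Char.PRegular

set_option autoImplicit false
open Cfsg

namespace Cfsg.Agent.S4425

/-- Let χ be an irreducible character of the finite group G, p a prime, p^a the p-part of the order of G and p^b the p-part of the degree χ(1). Let χ̃ be the class function equal to p^a · χ on p-regular elements and zero on p-singular elements. Then p^(−b) · χ̃ is a generalized character of G, while p^(−(b+1)) · χ̃ is not. -/
theorem result {G : Type*} [Group G] [Finite G] (p : ℕ) [Fact p.Prime] (χ : Cfsg.IrrCharacter G) : Cfsg.IsGeneralizedCharacter G (fun x : G => if p ∣ orderOf x then (0 : ℂ) else ((p ^ ((Nat.card G).factorization p - (Cfsg.charDegree (χ : G → ℂ)).factorization p) : ℕ) : ℂ) * (χ : G → ℂ) x) ∧ ¬ Cfsg.IsGeneralizedCharacter G (fun x : G => if p ∣ orderOf x then (0 : ℂ) else ((p ^ (Nat.card G).factorization p : ℕ) : ℂ) / ((p ^ ((Cfsg.charDegree (χ : G → ℂ)).factorization p + 1) : ℕ) : ℂ) * (χ : G → ℂ) x) := by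
  obtain ⟨n, hn, hn1⟩ := Cfsg.Agent.Char.IsIrrCharacter.exists_degree χ.2
  have hdeg : Cfsg.charDegree (χ : G → ℂ) = n := by simp [Cfsg.charDegree, hn1]
  rw [hdeg]
  refine ⟨Cfsg.Agent.Char.isGeneralizedCharacter_regularPart Fact.out χ.2 hn1, fun h => ?_⟩
  obtain ⟨k, hk⟩ := Cfsg.Agent.Char.dvd_apply_one_of_vanishing (p := p) Fact.out h
    (fun x hx => by simp [hx])
  have hp : p.Prime := Fact.out
  rw [orderOf_one, if_neg (fun h => hp.one_lt.ne' (Nat.dvd_one.1 h)), hn1] at hk
  set a := (Nat.card G).factorization p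
  have hA : ((p ^ a : ℕ) : ℂ) ≠ 0 := Nat.cast_ne_zero.2 (pow_pos hp.pos _).ne'
  have hB : ((p ^ (n.factorization p + 1) : ℕ) : ℂ) ≠ 0 := Nat.cast_ne_zero.2 (pow_pos hp.pos _).ne'
  have e : ((n : ℤ) : ℂ) = ((((p ^ (n.factorization p + 1) : ℕ) : ℤ) * k : ℤ) : ℂ) := by
    field_simp at hk
    push_cast at hk ⊢
    linear_combination hk
  have e' : (n : ℤ) = ((p ^ (n.factorization p + 1) : ℕ) : ℤ) * k := by exact_mod_cast e
  have hdvd : p ^ (n.factorization p + 1) ∣ n := Int.natCast_dvd_natCast.1 ⟨k, e'⟩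
  have := (hp.pow_dvd_iff_le_factorization hn.ne').1 hdvd
  omega

end Cfsg.Agent.S4425
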