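import Cfsg.Statements.S4426
import Cfsg.Agent.Lib.RegPart.Basic

set_option autoImplicit false
open Cfsg

namespace Cfsg.Agent.S4426

/-- Let χ be an irreducible character in the p-block B of the finite group G (relative to a maximal ideal M of the algebraic integers containing p), let p^a be the p-part of the order of G, and let χ̃ be the class function equal to p^a · χ on p-regular elements and zero elsewhere. For ξ ∈ B the inner product [χ̃, ξ] is an integer. The following are equivalent: (a) χ has height zero in B; (b) for some ξ ∈ B the integer [χ̃, ξ] is nonzero and the exact power of p dividing it equals the exact power of p dividing ξ(1); (c) the same holds for every ξ ∈ B. -/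
theorem result {G : Type*} [Group G] [Fintype G] (p : ℕ) [Fact p.Prime] (M : Ideal Cfsg.AlgInt) (hM : Cfsg.IsPModular p M) (B : Set (Cfsg.IrrCharacter G)) (hB : Cfsg.IsPBlock M B) (χ : Cfsg.IrrCharacter G) (hχ : χ ∈ B) : (Cfsg.blockHeight p B (χ : G → ℂ) = 0 ↔ ∃ ξ ∈ B, ∃ n : ℤ, Cfsg.classInner (fun x : G => if p ∣ orderOf x then (0 : ℂ) else ((p ^ (Nat.card G).factorization p : ℕ) : ℂ) * (χ : G → ℂ) x) (ξ : G → ℂ) = (n : ℂ) ∧ n ≠ 0 ∧ padicValInt p n = (Cfsg.charDegree (ξ : G → ℂ)).factorization p) ∧ (Cfsg.blockHeight p B (χ : G → ℂ) = 0 ↔ ∀ ξ ∈ B, ∃ n : ℤ, Cfsg.classInner (fun x : G => if p ∣ orderOf x then (0 : ℂ) else ((p ^ (Nat.card G).factorization p : ℕ) : ℂ) * (χ : G → ℂ) x) (ξ : G → ℂ) = (n : ℂ) ∧ n ≠ 0 ∧ padicValInt p n = (Cfsg.charDegree (ξ : G → ℂ)).factorization p) := by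
  classical
  open Blocks in
  let Q : IrrCharacter G → Prop := fun ξ =>
    ¬ MemLocalIdeal M (omega (ξ : G → ℂ) (regConj p (χ : G → ℂ)))
  have key : ∀ ξ ∈ B, (Q ξ ↔ ∃ n : ℤ, Cfsg.classInner (fun x : G => if p ∣ orderOf x then (0 : ℂ) else
      ((p ^ (Nat.card G).factorization p : ℕ) : ℂ) * (χ : G → ℂ) x) (ξ : G → ℂ) = (n : ℂ) ∧ n ≠ 0 ∧
        padicValInt p n = (Cfsg.charDegree (ξ : G → ℂ)).factorization p) := by
    intro ξ _
    obtain ⟨n, hn⟩ := RegPart.exists_int hM.1 χ ξ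
    obtain ⟨h1, h2⟩ := RegPart.int_spec hM χ ξ hn
    rw [RegPart.ite_eq_pRegularPart, Agent.Char.classInner_smul_left, hn]
    constructor
    · intro hQ
      exact ⟨n, rfl, (RegPart.padic_iff hM.1 h1).2 fun h => hQ (h2.2 h)⟩
    · rintro ⟨n', hn', h'⟩ hI
      obtain rfl : n = n' := by exact_mod_cast hn'
      exact (RegPart.padic_iff hM.1 h1).1 h' (h2.1 hI)
  have hcongr : ∀ ξ ∈ B, ∀ η ∈ B, Q ξ → Q η := fun ξ hξ η hη hQ hI => hQ
    ((Blocks.memI_iff_of_sub hM (Blocks.intRing_congr hM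
      (Blocks.omega_mem_intRing hM (Blocks.isClassFunction_regConj (Blocks.irr_class χ))
        (Blocks.memR_regConj hM χ))
      (Blocks.sameBlock_of_mem hM hB hξ hη))).2 hI)
  have h0 : blockHeight p B (χ : G → ℂ) = 0 → ∀ ξ ∈ B, Q ξ := fun h ξ hξ =>
    Blocks.not_memI_omega_regConj hM hB hχ h hξ
  have h1 : ∀ ξ ∈ B, Q ξ → blockHeight p B (χ : G → ℂ) = 0 := by
    intro ξ hξ hQ
    obtain ⟨η, hη, hη0⟩ := Blocks.exists_blockHeight_eq_zero p (Blocks.isPBlock_nonempty hM hB)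
    obtain ⟨n, hn⟩ := RegPart.exists_int hM.1 χ η
    have hu : ¬ (p : ℤ) ^ ((charDegree (η : G → ℂ)).factorization p + 1) ∣ n := fun h =>
      hcongr ξ hξ η hη hQ ((RegPart.int_spec hM χ η hn).2.2 h)
    have hd := (RegPart.int_spec hM η χ (by rw [RegPart.comm]; exact hn)).1
    have hle : (charDegree (χ : G → ℂ)).factorization p ≤ (charDegree (η : G → ℂ)).factorization p := by
      by_contra hlt
      exact hu ((pow_dvd_pow _ (Nat.lt_of_not_le hlt)).trans hd)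
    refine Nat.sub_eq_zero_of_le (hle.trans ?_)
    exact Nat.sub_eq_zero_iff_le.1 hη0
  obtain ⟨η, hη⟩ := Blocks.isPBlock_nonempty hM hB
  refine ⟨⟨fun h => ⟨η, hη, (key η hη).1 (h0 h η hη)⟩, fun ⟨ξ, hξ, h⟩ => h1 ξ hξ ((key ξ hξ).2 h)⟩,
    ⟨fun h ξ hξ => (key ξ hξ).1 (h0 h ξ hξ), fun h => h1 η hη ((key η hη).2 (h η hη))⟩⟩

end Cfsg.Agent.S4426
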