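import Cfsg.Statements.S4429
import Cfsg.Agent.Lib.Order7920.Degrees

set_option autoImplicit false
open Cfsg

namespace Cfsg.Agent.S4429

/-- Let G be a simple group of order 7920. Then G has exactly ten irreducible complex characters, and their degrees, listed with multiplicity, are 1, 10, 10, 10, 11, 16, 16, 44, 45, 55: for every natural number n, the number of irreducible characters of degree n is 1 if n ∈ {1, 11, 44, 45, 55}, 3 if n = 10, 2 if n = 16, and 0 otherwise. -/
theorem result {G : Type*} [Group G] [Finite G] [IsSimpleGroup G] (hG : Nat.card G = 7920) : Nat.card (Cfsg.IrrCharacter G) = 10 ∧ ∀ n : ℕ, Nat.card {χ : Cfsg.IrrCharacter G // Cfsg.charDegree (χ : G → ℂ) = n} = (if n = 1 ∨ n = 11 ∨ n = 44 ∨ n = 45 ∨ n = 55 then 1 else if n = 10 then 3 else if n = 16 then 2 else 0) := by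
  classical
  have : Fact (Nat.Prime 11) := ⟨by norm_num⟩
  have : Fact (Nat.Prime 5) := ⟨by norm_num⟩
  obtain ⟨a, ha⟩ := exists_prime_orderOf_dvd_card' (G := G) 11 (by rw [hG]; norm_num)
  obtain ⟨x, hx⟩ := exists_prime_orderOf_dvd_card' (G := G) 5 (by rw [hG]; norm_num)
  obtain ⟨f, T⟩ := Cfsg.Agent.Order7920.exists_table hG ha hx
  refine ⟨(Nat.card_congr (Equiv.ofBijective f T.bij)).symm.trans (Nat.card_fin 10), fun n => ?_⟩
  rw [← Nat.card_congr ((Equiv.ofBijective f T.bij).subtypeEquiv
    (p := fun i => Cfsg.Agent.Order7920.degs i = n) (fun i => by simp [T.deg i])),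
    Nat.card_eq_fintype_card, Fintype.card_subtype]
  by_cases h1 : n ∈ [1, 10, 11, 16, 44, 45, 55]
  · simp only [List.mem_cons, List.not_mem_nil, or_false] at h1
    rcases h1 with rfl | rfl | rfl | rfl | rfl | rfl | rfl <;> decide
  · simp only [List.mem_cons, List.not_mem_nil, or_false, not_or] at h1
    rw [if_neg (by omega), if_neg (by omega), if_neg (by omega), Finset.card_eq_zero,
      Finset.filter_eq_empty_iff]
    intro i _
    fin_cases i <;> simp [Cfsg.Agent.Order7920.degs] <;> omega

end Cfsg.Agent.S4429
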