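import Cfsg.Statements.S4430
import Cfsg.Agent.Lib.RegPart.Basic
import Cfsg.Agent.Lib.SecondMain.Second

set_option autoImplicit false
open Cfsg

namespace Cfsg.Agent.S4430

/-- Let H be a subgroup of the finite group G, b a block of H whose induced block B₀ in G is defined (relative to a maximal ideal M of the algebraic integers containing p), and ξ ∈ b. For a block B of G let n_B be the value at 1 of the B-part of the induced character ξ^G (a natural number: the sum over χ ∈ B of the multiplicity of χ in ξ^G times χ(1)). Then for B = B₀ the exact power of p dividing n_B equals the exact power of p dividing ξ^G(1), while for every other block B either n_B = 0 or n_B is divisible by a strictly higher power of p than ξ^G(1). -/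
theorem result {G : Type*} [Group G] [Fintype G] (p : ℕ) [Fact p.Prime] (M : Ideal Cfsg.AlgInt) (hM : Cfsg.IsPModular p M) (H : Subgroup G) [Fintype H] (b : Set (Cfsg.IrrCharacter H)) (B₀ : Set (Cfsg.IrrCharacter G)) (hind : Cfsg.IsInducedBlock M H b B₀) (ξ : Cfsg.IrrCharacter H) (hξ : ξ ∈ b) : (∃ n : ℕ, Cfsg.blockPart B₀ (Cfsg.indFun H (ξ : H → ℂ)) 1 = (n : ℂ) ∧ n ≠ 0 ∧ n.factorization p = (Cfsg.charDegree (Cfsg.indFun H (ξ : H → ℂ))).factorization p) ∧ ∀ B : Set (Cfsg.IrrCharacter G), Cfsg.IsPBlock M B → B ≠ B₀ → ∃ n : ℕ, Cfsg.blockPart B (Cfsg.indFun H (ξ : H → ℂ)) 1 = (n : ℂ) ∧ (n = 0 ∨ (Cfsg.charDegree (Cfsg.indFun H (ξ : H → ℂ))).factorization p < n.factorization p) := by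
  classical
  have := Fintype.ofFinite (IrrCharacter G)
  set D := charDegree (Cfsg.indFun H (ξ : H → ℂ)) with hD
  obtain ⟨N, hN⟩ := Agent.Char.IsCharacter.exists_degree (Agent.Char.IsCharacter.indFun H
    (Agent.Char.IsIrrCharacter.isCharacter ξ.2))
  have hDN : D = N := by simp [hD, charDegree, hN]
  have hD1 : (D : ℂ) = (H.index : ℂ) * (ξ : H → ℂ) 1 := by
    rw [hDN, ← hN, Agent.Char.indFun_one_apply]
  have hD0 : D ≠ 0 := by
    intro h
    rw [h, Nat.cast_zero] at hD1
    exact mul_ne_zero (Nat.cast_ne_zero.2 Subgroup.index_ne_zero_of_finite)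
      (Blocks.irr_one_ne_zero ξ) hD1.symm
  have key : ∀ B : Set (IrrCharacter G), IsPBlock M B → ∀ χ₀ ∈ B₀,
      ∃ (n : ℕ) (w : ℂ), blockPart B (Cfsg.indFun H (ξ : H → ℂ)) 1 = (n : ℂ) ∧
        ((n : ℤ) : ℂ) = (D : ℂ) / ((1 : ℕ) : ℂ) * w ∧ MemLocalRing M w ∧
        MemLocalIdeal M (w - Blocks.blockInd B χ₀) := by
    intro B hB χ₀ hχ₀
    have hmul : ∀ χ : IrrCharacter G, ∃ a : ℕ,
        classInner (Cfsg.indFun H (ξ : H → ℂ)) (χ : G → ℂ) = a := fun χ =>
      Agent.Char.IsCharacter.classInner_nat (Agent.Char.IsCharacter.indFun H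
        (Agent.Char.IsIrrCharacter.isCharacter ξ.2)) (Agent.Char.IsIrrCharacter.isCharacter χ.2)
    choose a ha using hmul
    have hbp : blockPart B (Cfsg.indFun H (ξ : H → ℂ)) 1 =
        ∑ χ ∈ Finset.univ.filter (· ∈ B), classInner (Cfsg.indFun H (ξ : H → ℂ)) (χ : G → ℂ) *
          (χ : G → ℂ) 1 := by
      rw [blockPart, finsum_mem_eq_sum_of_inter_support_eq (t := Finset.univ.filter (· ∈ B))]
      · refine Finset.sum_congr rfl fun χ _ => ?_
        congr!
      · ext; simp
    refine ⟨∑ χ ∈ Finset.univ.filter (· ∈ B), a χ * charDegree (χ : G → ℂ),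
      Blocks.omega (ξ : H → ℂ) (fun k : H => blockCoeff B (k : G)), ?_, ?_, ?_, ?_⟩
    · rw [hbp]
      push_cast
      exact Finset.sum_congr rfl fun χ _ => by rw [ha, Blocks.charDegree_cast]
    · push_cast
      rw [Blocks.omega_eq_sum, hD1, Finset.sum_congr rfl fun χ _ => by
        rw [← ha, Blocks.charDegree_cast,
          Agent.Char.frobenius_reciprocity H _ (Blocks.irr_class χ), classInner, mul_assoc,
          Finset.sum_mul], ← Finset.mul_sum, Finset.sum_comm]
      have hξ1 := Blocks.irr_one_ne_zero ξ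
      have hG : (Nat.card G : ℂ) = (H.index : ℂ) * (Nat.card H : ℂ) := by
        rw [← Nat.cast_mul, H.index_mul_card]
      have hi : (H.index : ℂ) ≠ 0 := Nat.cast_ne_zero.2 Subgroup.index_ne_zero_of_finite
      have hc : ∀ h : H, ∑ χ ∈ Finset.univ.filter (· ∈ B),
          (ξ : H → ℂ) h * (starRingEnd ℂ) ((χ : G → ℂ) h) * (χ : G → ℂ) 1 =
          (Nat.card G : ℂ) * (blockCoeff B (h : G) * (ξ : H → ℂ) h) := by
        intro h
        rw [blockCoeff, finsum_mem_eq_sum_of_inter_support_eq (t := Finset.univ.filter (· ∈ B))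
            _ (by ext; simp), ← mul_assoc, ← mul_assoc,
          mul_inv_cancel₀ Blocks.card_ne_zero_C, one_mul, Finset.sum_mul]
        exact Finset.sum_congr rfl fun χ _ => by ring
      rw [Finset.sum_congr rfl fun h _ => hc h, ← Finset.mul_sum, hG]
      field_simp
    · exact Blocks.memR_omega (G := H) hM (z := fun k : H => blockCoeff B (k : G))
        (fun g h => Blocks.isClassFunction_blockCoeff B (g : G) (h : G))
        (fun k => Blocks.memR_blockCoeff hM hB (k : G)) ξ
    · have h := SecondMain.omega_restrict_congr hM hind hξ hχ₀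
        (Blocks.isClassFunction_blockCoeff B) (Blocks.memR_blockCoeff hM hB)
      rwa [show Blocks.omega (χ₀ : G → ℂ) (blockCoeff B) = Blocks.blockInd B χ₀ by
        rw [Blocks.blockCoeff_eq_ofOmega, Blocks.omega_ofOmega]] at h
  obtain ⟨χ₀, hχ₀⟩ := Blocks.isPBlock_nonempty hM hind.2.1
  have h1 : ¬ p ∣ 1 := hM.1.not_dvd_one
  constructor
  · obtain ⟨n, w, hn, hnw, hw, hc⟩ := key B₀ hind.2.1 χ₀ hχ₀
    rw [Blocks.blockInd_of_mem hχ₀] at hc
    obtain ⟨e1, e2⟩ := RegPart.pow_dvd_and_memI_iff hM hD0 h1 hw hnw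
    have hu : ¬ MemLocalIdeal M w := fun h =>
      Blocks.not_memI_one hM ((Blocks.memI_iff_of_sub hM hc).1 h)
    obtain ⟨hn0, hv⟩ := (RegPart.padic_iff hM.1 e1).2 fun h => hu (e2.2 h)
    refine ⟨n, hn, by exact_mod_cast hn0, ?_⟩
    rw [Nat.factorization_def _ hM.1]
    simpa using hv
  · intro B hB hne
    obtain ⟨n, w, hn, hnw, hw, hc⟩ := key B hB χ₀ hχ₀
    rw [Blocks.blockInd_of_notMem fun h => hne (Blocks.isPBlock_eq_of_mem hM hB hind.2.1 h hχ₀),
      sub_zero] at hc
    refine ⟨n, hn, or_iff_not_imp_left.2 fun hn0 => ?_⟩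
    have h := (RegPart.pow_dvd_and_memI_iff hM hD0 h1 hw hnw).2.1 hc
    exact (hM.1.pow_dvd_iff_le_factorization hn0).1 (by exact_mod_cast h)

end Cfsg.Agent.S4430
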