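import Cfsg.Statements.S4431
import Cfsg.Agent.Lib.RegPart.Basic
import Cfsg.Agent.Lib.SecondMain.Second

set_option autoImplicit false
open Cfsg
open scoped ComplexConjugate

namespace Cfsg.Agent.S4431

/-- Let H be a subgroup of the finite group G and b a block of H whose induced block B₀ in G is defined (relative to a maximal ideal M of the algebraic integers containing p). Let χ be an irreducible character of G, ψ ∈ b, and let η be the class function on H equal to p^a · χ on the p-regular elements of H and zero elsewhere, p^a being the p-part of the order of H. Then (a) if χ ∉ B₀, the number [η, ψ]/ψ(1) lies in the local ideal at M; (b) if χ ∈ B₀ has height zero, it does not. -/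
theorem result {G : Type*} [Group G] [Fintype G] (p : ℕ) [Fact p.Prime] (M : Ideal Cfsg.AlgInt) (hM : Cfsg.IsPModular p M) (H : Subgroup G) [Fintype H] (b : Set (Cfsg.IrrCharacter H)) (B₀ : Set (Cfsg.IrrCharacter G)) (hind : Cfsg.IsInducedBlock M H b B₀) (χ : Cfsg.IrrCharacter G) (ψ : Cfsg.IrrCharacter H) (hψ : ψ ∈ b) : (χ ∉ B₀ → Cfsg.MemLocalIdeal M (Cfsg.classInner (fun h : H => if p ∣ orderOf h then (0 : ℂ) else ((p ^ (Nat.card H).factorization p : ℕ) : ℂ) * (χ : G → ℂ) h) (ψ : H → ℂ) / (ψ : H → ℂ) 1)) ∧ (χ ∈ B₀ → Cfsg.blockHeight p B₀ (χ : G → ℂ) = 0 → ¬ Cfsg.MemLocalIdeal M (Cfsg.classInner (fun h : H => if p ∣ orderOf h then (0 : ℂ) else ((p ^ (Nat.card H).factorization p : ℕ) : ℂ) * (χ : G → ℂ) h) (ψ : H → ℂ) / (ψ : H → ℂ) 1)) := by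
  classical
  have := Fintype.ofFinite (IrrCharacter H)
  set m := Nat.card H / p ^ (Nat.card H).factorization p
  have hm : ¬ p ∣ m := Nat.not_dvd_ordCompl hM.1 Nat.card_pos.ne'
  set z : G → ℂ := Blocks.regConj p (χ : G → ℂ)
  have hval : Cfsg.classInner (fun h : H => if p ∣ orderOf h then (0 : ℂ) else
      ((p ^ (Nat.card H).factorization p : ℕ) : ℂ) * (χ : G → ℂ) h) (ψ : H → ℂ) / (ψ : H → ℂ) 1 =
      (m : ℂ)⁻¹ * Blocks.omega (ψ : H → ℂ) (fun k : H => z (k : G)) := by
    rw [Blocks.omega_eq_sum, RegPart.ite_eq_pRegularPart p _ (fun h : H => (χ : G → ℂ) h),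
      Agent.Char.classInner_smul_left, classInner]
    have e : ∑ x : H, pRegularPart p (fun h : H => (χ : G → ℂ) h) x * conj ((ψ : H → ℂ) x) =
        ∑ x : H, z (x : G) * (ψ : H → ℂ) x := by
      refine Fintype.sum_equiv (Equiv.inv H) _ _ fun x => ?_
      simp only [z, RegPart.regConj_apply, pRegularPart, IsPRegular, Equiv.inv_apply, Subgroup.coe_inv,
        inv_inv, Subgroup.orderOf_coe]
      rw [Agent.Char.IsCharacter.apply_inv (Agent.Char.IsIrrCharacter.isCharacter ψ.2)]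
      by_cases hx : p ∣ orderOf x <;> simp [hx]
    rw [e]
    have hG : (Nat.card H : ℂ) = ((p ^ (Nat.card H).factorization p : ℕ) : ℂ) * (m : ℂ) := by
      rw [← Nat.cast_mul, Nat.ordProj_mul_ordCompl_eq_self]
    have hp0 : ((p ^ (Nat.card H).factorization p : ℕ) : ℂ) ≠ 0 :=
      Nat.cast_ne_zero.2 (pow_pos hM.1.pos _).ne'
    have hψ1 := Blocks.irr_one_ne_zero ψ
    rw [hG]
    field_simp
  have hiff : ∀ η ∈ B₀, (MemLocalIdeal M ((m : ℂ)⁻¹ * Blocks.omega (ψ : H → ℂ) (fun k : H => z (k : G))) ↔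
      MemLocalIdeal M (Blocks.omega (η : G → ℂ) z)) := by
    intro η hη
    have h := SecondMain.omega_restrict_congr hM hind hψ hη
      (Blocks.isClassFunction_regConj (p := p) (Blocks.irr_class χ)) (Blocks.memR_regConj hM χ)
    refine Iff.trans ?_ (Blocks.memI_iff_of_sub hM h)
    have hm0 : (m : ℂ) ≠ 0 := Nat.cast_ne_zero.2 fun h0 => hm (h0 ▸ dvd_zero p)
    refine ⟨fun hI => ?_, fun hI => Blocks.memI_mul_left hM (Blocks.memR_natCast_inv hM hm) hI⟩
    have h' := Blocks.memI_mul_left hM (Blocks.memR_natCast hM m) hI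
    rwa [← mul_assoc, mul_inv_cancel₀ hm0, one_mul] at h'
  obtain ⟨η, hη⟩ := Blocks.isPBlock_nonempty hM hind.2.1
  rw [hval, hiff η hη]
  refine ⟨fun hχ => ?_, fun hχ h0 => Blocks.not_memI_omega_regConj hM hind.2.1 hχ h0 hη⟩
  rw [Blocks.omega_regConj_eq_zero hM (Blocks.isPBlock_blockOf hM χ) (Blocks.mem_blockOf_self hM χ)
    fun h => hχ (Blocks.isPBlock_eq_of_mem hM hind.2.1 (Blocks.isPBlock_blockOf hM χ) hη h ▸
      Blocks.mem_blockOf_self hM χ)]
  exact Blocks.memI_zero hM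

end Cfsg.Agent.S4431
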