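import Cfsg.Statements.S4440
import Cfsg.Agent.Lib.ProjPositive.Main
import Cfsg.Agent.Lib.RegPart.Contribution

set_option autoImplicit false
open Cfsg

namespace Cfsg.Agent.S4440

/-- Let G be a finite p-solvable group and fix a maximal ideal M of the algebraic integers containing p. Let U be a set of irreducible characters of G such that the class function Σ_{χ ∈ U} χ(1)·χ vanishes at every p-singular element of G. Then U is a union of p-blocks: if χ ∈ U and ψ lies in the same block as χ, then ψ ∈ U. -/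
theorem result {G : Type*} [Group G] [Finite G] (p : ℕ) [Fact p.Prime] (M : Ideal Cfsg.AlgInt) (hM : Cfsg.IsPModular p M) (hsolv : Cfsg.IsPSolvable p G) (U : Set (Cfsg.IrrCharacter G)) (hU : ∀ x : G, p ∣ orderOf x → ∑ᶠ χ ∈ U, (χ : G → ℂ) 1 * (χ : G → ℂ) x = 0) (χ : Cfsg.IrrCharacter G) (hχ : χ ∈ U) (ψ : Cfsg.IrrCharacter G) (hψ : Cfsg.SameBlock M (χ : G → ℂ) (ψ : G → ℂ)) : ψ ∈ U := by
  classical
  haveI := Fintype.ofFinite G
  set B := blockOf M (χ : G → ℂ) with hBdef
  have hB : IsPBlock M B := Blocks.isPBlock_blockOf hM χ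
  haveI : Fintype B := Fintype.ofFinite B
  obtain ⟨c, hc, -, -, hpd⟩ := RegPart.exists_contribution hM hB
  obtain ⟨η, hη, hη0⟩ := Blocks.exists_blockHeight_eq_zero p (Blocks.isPBlock_nonempty hM hB)
  -- a character of height zero meets every member of its block on the regular elements
  have hne : ∀ φ : IrrCharacter G, φ ∈ B →
      classInner (pRegularPart p (η : G → ℂ)) (φ : G → ℂ) ≠ 0 := by
    intro φ hφ h0
    have h1 := hc ⟨η, hη⟩ ⟨φ, hφ⟩
    rw [h0, mul_zero] at h1
    have h2 : c ⟨η, hη⟩ ⟨φ, hφ⟩ = 0 := by exact_mod_cast h1.symm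
    have h3 := (hpd ⟨η, hη⟩ ⟨φ, hφ⟩).2.1 (by rw [h2]; exact dvd_zero _)
    exact absurd hη0 h3.ne'
  have hzero := fun (φ φ' : IrrCharacter G) (h : φ ∈ U) (h' : φ' ∉ U) =>
    ProjPositive.classInner_regPart_eq_zero hsolv hU h h'
  have hηU : η ∈ U := by
    by_contra h
    refine hne χ (Blocks.mem_blockOf_self hM χ) ?_
    rw [RegPart.comm]
    exact hzero χ η hχ h
  by_contra h
  exact hne ψ hψ (hzero η ψ hηU h)

end Cfsg.Agent.S4440
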