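import Cfsg.Statements.S4441
import Cfsg.Agent.Lib.CyclicDefect.Apply

set_option autoImplicit false
open Cfsg

namespace Cfsg.Agent.S4441

open Cfsg Cfsg.Agent Cfsg.Agent.Blocks Cfsg.Agent.CyclicDefect

/-- Let p be an odd prime and G a finite group whose Sylow p-subgroup P has order p; let C = C_G(P), N = N_G(P), e the index of C in N and t = (p − 1)/e; fix a maximal ideal M of the algebraic integers containing p and let B₀ be the principal block. Then B₀ is the disjoint union of a set X of e characters and a set Y of t characters such that: each χ ∈ X has a sign ε_χ with χ(1) ≡ ε_χ (mod p) and χ(x y) = ε_χ for every non-identity x ∈ P and every p-regular y ∈ C; all members of Y agree on the p-regular elements of G; there is one sign ε with θ(1) ≡ ε e (mod p) for every θ ∈ Y; and for every θ ∈ Y and every p-regular g, ε θ(g) = Σ_{χ ∈ X} ε_χ χ(g). -/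
theorem result {G : Type*} [Group G] [Fintype G] (p : ℕ) [Fact p.Prime] (M : Ideal Cfsg.AlgInt) (hM : Cfsg.IsPModular p M) (hodd : p ≠ 2) (P : Sylow p G) (hP : Nat.card P = p) (e : ℕ) (he : (Subgroup.centralizer ((P : Subgroup G) : Set G)).relIndex (Subgroup.normalizer ((P : Subgroup G) : Set G)) = e) : ∃ X Y : Set (Cfsg.IrrCharacter G), Cfsg.principalBlock M G = X ∪ Y ∧ Disjoint X Y ∧ Nat.card X = e ∧ Nat.card Y = (p - 1) / e ∧ ∃ (εX : Cfsg.IrrCharacter G → ℤ) (ε : ℤ), (∀ χ ∈ X, (εX χ = 1 ∨ εX χ = -1) ∧ (Cfsg.charDegree (χ : G → ℂ) : ℤ) ≡ εX χ [ZMOD p] ∧ ∀ x : G, x ∈ (P : Subgroup G) → x ≠ 1 → ∀ y : G, y ∈ Subgroup.centralizer ((P : Subgroup G) : Set G) → ¬ p ∣ orderOf y → (χ : G → ℂ) (x * y) = (εX χ : ℂ)) ∧ (ε = 1 ∨ ε = -1) ∧ (∀ θ ∈ Y, (Cfsg.charDegree (θ : G → ℂ) : ℤ) ≡ ε * (e : ℤ) [ZMOD p]) ∧ (∀ θ ∈ Y, ∀ θ' ∈ Y, ∀ g : G, ¬ p ∣ orderOf g → (θ : G → ℂ) g = (θ' : G → ℂ) g) ∧ ∀ θ ∈ Y, ∀ g : G, ¬ p ∣ orderOf g → (ε : ℂ) * (θ : G → ℂ) g = ∑ᶠ χ ∈ X, (εX χ : ℂ) * (χ : G → ℂ)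 g := by
  classical
  have hp : p.Prime := Fact.out
  obtain ⟨x, L, hPx, hS⟩ := exists_setting_of_sylow hp P hP
  have := hS.normal_K
  have := Fintype.ofFinite (IrrCharacter G)
  have := Fintype.ofFinite (IrrCharacter (K x L))
  have hB := (principal_isPBlock (G := G) hM).1
  have hl := lies_principal hS hM
  set U' := U hS (oneK x L : K x L → ℂ) with hU'
  have hcent : Subgroup.centralizer ((P : Subgroup G) : Set G) = Subgroup.centralizer ({x} : Set G) := by
    ext g
    rw [hPx, SecondMain.mem_centralizer_zpowers_iff, SecondMain.commute_iff_mem_centralizer_singleton]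
  have hle : Subgroup.centralizer ({x} : Set G) ≤ Subgroup.normalizer (Subgroup.zpowers x : Set G) := fun g hg =>
    Subgroup.centralizer_le_normalizer _ (SecondMain.mem_centralizer_zpowers_iff.mpr
      (SecondMain.commute_iff_mem_centralizer_singleton.mp hg))
  have he' : Nat.card U' = e := by
    rw [hU', card_U_one hS, ← he, hcent, hPx]
    have h1 := Subgroup.card_mul_index
      ((Subgroup.centralizer ({x} : Set G)).subgroupOf (Subgroup.normalizer (Subgroup.zpowers x : Set G)))
    rw [Nat.card_congr (Subgroup.subgroupOfEquivOfLe hle).toEquiv, hS.card_centralizer, hS.card_normalizer,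
      ← (K x L).card_mul_index, mul_assoc] at h1
    exact (Nat.eq_of_mul_eq_mul_left Nat.card_pos (Nat.eq_of_mul_eq_mul_left hp.pos h1)).symm
  have hprod := card_units_eq hS (oneK x L : K x L → ℂ)
  have hepos : 0 < e := he' ▸ Nat.card_pos
  obtain ⟨hk, exc, ε, δ, hinj, hexcB, hε, hexc, hcst, hrel⟩ := block_structure hS hM hB hl
  have ht : Nat.card ((ZMod p)ˣ ⧸ U') = (p - 1) / e := by
    rw [← hprod, ← hU', he', Nat.mul_div_cancel_left _ hepos]
  refine ⟨principalBlock M G \ Set.range exc, Set.range exc, ?_, disjoint_sdiff_self_left, ?_, ?_,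
    fun χ => -δ χ, ε, ?_, hε, ?_, ?_, ?_⟩
  · rw [Set.sdiff_union_of_subset (by rintro _ ⟨c, rfl⟩; exact hexcB c)]
  · rw [Nat.card_coe_set_eq, Set.ncard_sdiff (by rintro _ ⟨c, rfl⟩; exact hexcB c),
      ← Nat.card_coe_set_eq, ← Nat.card_coe_set_eq, hk, Nat.card_range_of_injective hinj, ← hU', he',
      Nat.add_sub_cancel_right]
  · rw [Nat.card_range_of_injective hinj, ← hU', ht]
  · intro χ ⟨hχ, hr⟩
    obtain ⟨hd, hrow⟩ := hcst χ hχ hr
    refine ⟨by rcases hd with h | h <;> simp [h], ?_, fun z hz hz1 y hy hyp => ?_⟩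
    · have h := memI_apply_one_sub hS hM hB hl hχ
      rw [card_lies_one hS hM, Nat.cast_one, one_mul, show (oneK x L : K x L → ℂ) 1 = 1 from rfl, one_mul,
        ← charDegree_cast, ← Int.cast_natCast (R := ℂ)] at h
      have hmod := intModEq_of_memI hM h
      rw [sum_bInt_const hS hrow] at hmod
      have h1 : ((p - 1 : ℕ) : ℤ) ≡ -1 [ZMOD p] :=
        Int.modEq_iff_dvd.mpr ⟨-1, by rw [Nat.cast_sub hp.one_le]; push_cast; ring⟩
      simpa using hmod.trans (h1.mul_left (δ χ))
    · rw [hPx] at hz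
      obtain ⟨i, rfl⟩ := hS.exists_pw hz
      have hi : i ≠ 0 := fun e => hz1 (by rw [e, hS.pw_zero])
      rw [hcent] at hy
      replace hy := SecondMain.commute_iff_mem_centralizer_singleton.mp hy
      obtain ⟨k, rfl⟩ := hS.exists_K_of_regular hy hyp
      rw [apply_pw_mul hS hM χ hi k, ← isPBlock_eq_blockOf hM hB hχ]
      obtain ⟨η, hη⟩ := Finset.card_eq_one.mp (card_lies_one hS hM)
      have hone : oneK x L ∈ Finset.univ.filter (Lies M x L (principalBlock M G)) :=
        Finset.mem_filter.mpr ⟨Finset.mem_univ _, hl⟩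
      rw [hη, Finset.mem_singleton] at hone
      rw [hη, Finset.sum_singleton, ← hone, show (oneK x L : K x L → ℂ) k = 1 from rfl, mul_one,
        dec_eq_sum_bInt hS χ (oneK x L) hi, Finset.sum_congr rfl (g := fun j =>
          (δ χ : ℂ) * ((if j = 0 then 0 else 1) * ζ (i * j))) (fun j _ => ?_), ← Finset.mul_sum]
      · have h := sum_ζ_mul (p := p) i
        rw [if_neg hi, ← Finset.add_sum_erase _ _ (Finset.mem_univ (0 : ZMod p)), zero_mul, ζ_zero] at h
        rw [← Finset.add_sum_erase _ _ (Finset.mem_univ (0 : ZMod p)), if_pos rfl, zero_mul, zero_add,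
          Finset.sum_congr rfl (g := fun j => ζ (j * i)) (fun j hj => by
            rw [if_neg (Finset.ne_of_mem_erase hj), one_mul, mul_comm])]
        push_cast
        linear_combination (δ χ : ℂ) * h
      · by_cases hj : j = 0
        · rw [hj, bInt_zero hS, if_pos rfl, Int.cast_zero]; ring
        · rw [show j = ((Units.mk0 j hj : (ZMod p)ˣ) : ZMod p) from rfl, hrow]
          simp [hj]
  · rintro θ ⟨c, rfl⟩
    have h := memI_apply_one_sub hS hM hB hl (hexcB c)
    rw [card_lies_one hS hM, Nat.cast_one, one_mul, show (oneK x L : K x L → ℂ) 1 = 1 from rfl, one_mul,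
      ← charDegree_cast, ← Int.cast_natCast (R := ℂ)] at h
    have hmod := intModEq_of_memI hM h
    rwa [sum_bInt_exc hS (hexc c), ← hU', he'] at hmod
  · rintro θ ⟨c, rfl⟩ θ' ⟨c', rfl⟩ g hg
    have h := (hrel g hg c).trans (hrel g hg c').symm
    rw [add_left_cancel_iff] at h
    exact mul_left_cancel₀ (by rcases hε with h | h <;> rw [h] <;> norm_num) h
  · rintro θ ⟨c, rfl⟩ g hg
    have h := hrel g hg c
    rw [finsum_mem_eq_toFinset_sum, show (principalBlock M G \ Set.range exc).toFinset =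
      Finset.univ.filter (fun χ => χ ∈ principalBlock M G ∧ χ ∉ Set.range exc) by ext; simp]
    push_cast
    simp only [neg_mul, Finset.sum_neg_distrib]
    refine eq_neg_of_add_eq_zero_right ?_
    convert h using 3
    ext χ
    simp
end Cfsg.Agent.S4441
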