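import Cfsg.Statements.S4442
import Cfsg.Agent.Lib.CyclicDefect.Apply
import Cfsg.Agent.Lib.Frobenius.RepAux

set_option autoImplicit false
open Cfsg

namespace Cfsg.Agent.S4442

open Cfsg Cfsg.Agent Cfsg.Agent.Blocks Cfsg.Agent.CyclicDefect

/-- An element on all powers of which a character takes its degree as value acts trivially. -/
theorem apply_mul_of_degree {H : Type*} [Group H] [Finite H] (θ : IrrCharacter H) (u : H)
    (h : ∀ v ∈ Subgroup.zpowers u, (θ : H → ℂ) v = (θ : H → ℂ) 1) (b : H) :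
    (θ : H → ℂ) (u * b) = (θ : H → ℂ) b := by
  have := Fintype.ofFinite H
  obtain ⟨n, ρ, -, hρ⟩ := θ.2
  have h1 : ρ u = 1 := Frobenius.apply_eq_one_of_char_pow ρ u fun v hv => by
    rw [← Representation.char_one ρ, hρ]; exact h v hv
  rw [← hρ, Representation.character, map_mul, h1, one_mul]
  rfl

theorem exists_under {G : Type*} [Group G] [Finite G] {p : ℕ} [Fact p.Prime] {M : Ideal AlgInt}
    (hM : IsPModular p M) {x : G} {L : Subgroup G} (hS : Setting p x L) (H : Subgroup G)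
    (hH : H = Subgroup.centralizer ({x} : Set G)) (θ : IrrCharacter H)
    (hθP : ∀ c : H, (c : G) ∈ Subgroup.zpowers x → (θ : H → ℂ) c = (θ : H → ℂ) 1)
    {B : Set (IrrCharacter G)} {b : Set (IrrCharacter H)} (hind : IsInducedBlock M H b B) (hθ : θ ∈ b) :
    ∃ η : IrrCharacter (K x L), Lies M x L B η ∧
      ∀ (c : H) (i : ZMod p) (k : K x L), (c : G) = pw x i * ((k : L) : G) →
        (θ : H → ℂ) c = (η : K x L → ℂ) k := by
  classical
  subst hH
  have := Fintype.ofFinite (Subgroup.centralizer ({x} : Set G))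
  have := Fintype.ofFinite (K x L)
  have hpw : ∀ i : ZMod p, pw x i ∈ Subgroup.centralizer ({x} : Set G) := fun i =>
    SecondMain.commute_iff_mem_centralizer_singleton.mpr (hS.commute_pw i (Commute.refl x)).symm
  have hval : ∀ (c : Subgroup.centralizer ({x} : Set G)) (i : ZMod p) (k : K x L),
      (c : G) = pw x i * ((k : L) : G) → (θ : _ → ℂ) c = (θ : _ → ℂ) (toC k) := by
    intro c i k h
    rw [show c = ⟨pw x i, hpw i⟩ * toC k from Subtype.ext h]
    refine apply_mul_of_degree θ _ (fun v hv => hθP v ?_) _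
    obtain ⟨n, rfl⟩ := Subgroup.mem_zpowers_iff.mp hv
    rw [SubgroupClass.coe_zpow]
    exact Subgroup.zpow_mem _ (hS.pw_mem i) n
  let f : ZMod p × K x L → Subgroup.centralizer ({x} : Set G) := fun ik => ⟨pw x ik.1, hpw ik.1⟩ * toC ik.2
  have hf : Function.Bijective f := by
    refine ⟨fun a c h => ?_, fun c => ?_⟩
    · obtain ⟨h1, h2⟩ := hS.decomp_unique (congrArg Subtype.val h :)
      exact Prod.ext h1 h2
    · obtain ⟨i, k, h⟩ := hS.decomp (Subgroup.mem_centralizer_singleton_iff.mp c.2 :).symm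
      exact ⟨(i, k), Subtype.ext h.symm⟩
  have hnorm : classInner (fun k => (θ : _ → ℂ) (toC k)) (fun k : K x L => (θ : _ → ℂ) (toC k)) = 1 := by
    have h1 := Char.classInner_irr_self θ.2
    rw [Char.classInner_self_eq, ← (Equiv.ofBijective f hf).sum_comp, Fintype.sum_prod_type] at h1
    rw [Char.classInner_self_eq]
    have h2 : ∀ i : ZMod p, ∑ k : K x L, ‖(θ : _ → ℂ) (Equiv.ofBijective f hf (i, k))‖ ^ 2 =
        ∑ k : K x L, ‖(θ : _ → ℂ) (toC k)‖ ^ 2 := fun i =>
      Finset.sum_congr rfl fun k _ => by rw [show (θ : _ → ℂ) (Equiv.ofBijective f hf (i, k)) = _ from hval (f (i, k)) i k rfl]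
    rw [Finset.sum_congr rfl fun i _ => h2 i, Finset.sum_const, Finset.card_univ, ZMod.card, nsmul_eq_mul,
      hS.card_centralizer, Nat.cast_mul, mul_inv, mul_mul_mul_comm,
      inv_mul_cancel₀ (Nat.cast_ne_zero.mpr hS.hp.ne_zero), one_mul] at h1
    exact h1
  let η : IrrCharacter (K x L) := ⟨fun k => (θ : _ → ℂ) (toC k),
    (Char.isIrrCharacter_iff_norm_one (isCharacter_res (Char.IsIrrCharacter.isCharacter θ.2))).mpr hnorm⟩
  have hne : classInner (fun k => (θ : _ → ℂ) (toC k)) (η : K x L → ℂ) ≠ 0 := by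
    rw [show (η : K x L → ℂ) = fun k => (θ : _ → ℂ) (toC k) from rfl, hnorm]
    exact one_ne_zero
  exact ⟨η, (mem_induced_iff hS hM hne hind.2.1).mp ⟨b, hind, hθ⟩, hval⟩

/-- Blocks of defect one. Let p be an odd prime and G a finite group whose Sylow p-subgroup P has order p; let C = C_G(P) and N = N_G(P), and fix a maximal ideal M of the algebraic integers containing p. Let B be a block of G with defect group P, b a block of C inducing B, and θ the member of b having P in its kernel (there is exactly one). Let T be the stabilizer of θ in N (the elements g ∈ N with θ(g c g⁻¹) = θ(c) for all c ∈ C) and e the index of C in T. Then e divides p − 1 and B contains exactly e + (p − 1)/e irreducible characters. Moreover B is the disjoint union of a set X of e characters and a set Y of (p − 1)/e characters such that, with f the index of C in N: every χ ∈ X has χ(1) ≡ ±(f/e)·θ(1) (mod p), there is one sign ε with ψ(1) ≡ ε f θ(1) (mod p) for all ψ ∈ Y, and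 all members of Y agree on the p-regular elements of G. -/
theorem result {G : Type*} [Group G] [Finite G] (p : ℕ) [Fact p.Prime] (M : Ideal Cfsg.AlgInt) (hM : Cfsg.IsPModular p M) (hodd : p ≠ 2) (P : Sylow p G) (hP : Nat.card P = p) (B : Set (Cfsg.IrrCharacter G)) (hB : Cfsg.IsPBlock M B) (hBP : Cfsg.IsDefectGroup p M B P) (b : Set (Cfsg.IrrCharacter (Subgroup.centralizer ((P : Subgroup G) : Set G)))) (hind : Cfsg.IsInducedBlock M (Subgroup.centralizer ((P : Subgroup G) : Set G)) b B) (θ : Cfsg.IrrCharacter (Subgroup.centralizer ((P : Subgroup G) : Set G))) (hθ : θ ∈ b) (hθP : ∀ x : Subgroup.centralizer ((P : Subgroup G) : Set G), (x : G) ∈ (P : Subgroup G) → (θ : Subgroup.centralizer ((P : Subgroup G) : Set G) → ℂ) x = (θ : Subgroup.centralizer ((P : Subgroup G) : Set G) → ℂ) 1) (T : Subgroup G) (hT : ∀ g : G, g ∈ T ↔ (g ∈ Subgroup.normalizer ((P : Subgroup G) : Set G) ∧ ∀ c c' : Subgroup.centralizer ((P : Subgroup G) : Set G), (c' : G) = g * c *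 g⁻¹ → (θ : Subgroup.centralizer ((P : Subgroup G) : Set G) → ℂ) c' = (θ : Subgroup.centralizer ((P : Subgroup G) : Set G) → ℂ) c)) (e f : ℕ) (he : (Subgroup.centralizer ((P : Subgroup G) : Set G)).relIndex T = e) (hf : (Subgroup.centralizer ((P : Subgroup G) : Set G)).relIndex (Subgroup.normalizer ((P : Subgroup G) : Set G)) = f) : e ∣ p - 1 ∧ Nat.card B = e + (p - 1) / e ∧ ∃ X Y : Set (Cfsg.IrrCharacter G), B = X ∪ Y ∧ Disjoint X Y ∧ Nat.card X = e ∧ Nat.card Y = (p - 1) / e ∧ (∀ χ ∈ X, (Cfsg.charDegree (χ : G → ℂ) : ℤ) ≡ ((f / e * Cfsg.charDegree (θ : Subgroup.centralizer ((P : Subgroup G) : Set G) → ℂ) : ℕ) : ℤ) [ZMOD p] ∨ (Cfsg.charDegree (χ : G → ℂ) : ℤ) ≡ -((f / e * Cfsg.charDegree (θ : Subgroup.centralizer ((P : Subgroup G) : Set G) → ℂ) : ℕ) : ℤ) [ZMOD p]) ∧ (∃ ε : ℤ, (ε = 1 ∨ ε = -1) ∧ ∀ ψ ∈ Y, (Cfsg.charDegree (ψ : G → ℂ) : ℤ) ≡ ε * ((f * Cfsg.charDegree (θ : Subgroup.centralizer ((P : Subgroup G) : Set G) → ℂ) : ℕ) : ℤ) [ZMOD p]) ∧ ∀ ψ ∈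 Y, ∀ ψ' ∈ Y, ∀ g : G, ¬ p ∣ orderOf g → (ψ : G → ℂ) g = (ψ' : G → ℂ) g := by
  classical
  have hp : p.Prime := Fact.out
  obtain ⟨x, L, hPx, hS⟩ := exists_setting_of_sylow hp P hP
  have := hS.normal_K
  have := Fintype.ofFinite (IrrCharacter G)
  have := Fintype.ofFinite (IrrCharacter (K x L))
  have hcent : Subgroup.centralizer ((P : Subgroup G) : Set G) = Subgroup.centralizer ({x} : Set G) := by
    ext g
    rw [hPx, SecondMain.mem_centralizer_zpowers_iff, SecondMain.commute_iff_mem_centralizer_singleton]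
  have hmemC : ∀ g : G, g ∈ Subgroup.centralizer ((P : Subgroup G) : Set G) ↔ Commute x g := fun g => by
    rw [hPx]; exact SecondMain.mem_centralizer_zpowers_iff
  obtain ⟨η, hl, hval⟩ := exists_under hM hS _ hcent θ (fun c hc => hθP c ((SetLike.ext_iff.mp hPx _).mpr hc)) hind hθ
  set I := CharApp.inertia (K x L) (η : K x L → ℂ) with hI
  have hCT : Subgroup.centralizer ((P : Subgroup G) : Set G) ≤ T := by
    intro g hg
    refine (hT g).mpr ⟨Subgroup.centralizer_le_normalizer _ hg, fun c c' h => ?_⟩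
    rw [show c' = ⟨g, hg⟩ * c * ⟨g, hg⟩⁻¹ from Subtype.ext h]
    exact Char.IsIrrCharacter.isClassFunction θ.2 c _
  have hxT : Subgroup.zpowers x ≤ T := fun u hu => hCT ((hmemC u).mpr (by
    obtain ⟨i, rfl⟩ := hS.exists_pw hu
    exact (hS.commute_pw i (Commute.refl x)).symm))
  have hmem : ∀ l : L, (l : G) ∈ T ↔ l ∈ I := by
    intro l
    rw [hT, CharApp.mem_inertia_iff]
    have hKn : ∀ k : K x L, l * (k : L) * l⁻¹ ∈ K x L := fun k => ‹(K x L).Normal›.conj_mem _ k.2 l
    refine ⟨fun h k => ?_, fun h => ⟨hPx ▸ hS.hL l.2, fun c c' hcc => ?_⟩⟩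
    · have hk : ((k : L) : G) ∈ Subgroup.centralizer ((P : Subgroup G) : Set G) :=
        (hmemC _).mpr (hS.commute_K k)
      have hk' : ((l * (k : L) * l⁻¹ : L) : G) ∈ Subgroup.centralizer ((P : Subgroup G) : Set G) :=
        (hmemC _).mpr (hS.commute_K ⟨_, hKn k⟩)
      have h1 := hval ⟨_, hk⟩ 0 k (by rw [hS.pw_zero, one_mul])
      have h2 := hval ⟨_, hk'⟩ 0 ⟨_, hKn k⟩ (by rw [hS.pw_zero, one_mul])
      rw [← h1, ← h.2 ⟨_, hk⟩ ⟨_, hk'⟩ (by push_cast; rfl), h2]
    · obtain ⟨i, k, hik⟩ := hS.decomp ((hmemC _).mp c.2)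
      rw [hval c i k hik, hval c' ((CyclicDefect.alpha hS l : ZMod p) * i) ⟨_, hKn k⟩ (by
        rw [hcc, hik, ← CyclicDefect.alpha_spec hS l i]
        push_cast
        group)]
      exact h k
  have hcardT : Nat.card T = p * Nat.card I := by
    let f : Subgroup.zpowers x × I → T := fun ul =>
      ⟨(ul.1 : G) * ((ul.2 : L) : G), T.mul_mem (hxT ul.1.2) ((hmem _).mpr ul.2.2)⟩
    have hbot : Subgroup.zpowers x ⊓ L = ⊥ :=
      Subgroup.inf_eq_bot_of_coprime (by rw [Nat.card_zpowers, hS.hx]; exact hS.coprime_L)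
    have hf : Function.Bijective f := by
      refine ⟨fun a c h => ?_, fun g => ?_⟩
      · have h' : (a.1 : G) * ((a.2 : L) : G) = (c.1 : G) * ((c.2 : L) : G) := congrArg Subtype.val h
        have h1 : (c.1 : G)⁻¹ * (a.1 : G) = ((c.2 : L) : G) * ((a.2 : L) : G)⁻¹ := by
          rw [eq_mul_inv_iff_mul_eq, mul_assoc, h', inv_mul_cancel_left]
        have h2 : (c.1 : G)⁻¹ * (a.1 : G) ∈ Subgroup.zpowers x ⊓ L :=
          ⟨Subgroup.mul_mem _ (Subgroup.inv_mem _ c.1.2) a.1.2,
            h1 ▸ L.mul_mem (c.2 : L).2 (L.inv_mem (a.2 : L).2)⟩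
        rw [hbot, Subgroup.mem_bot] at h2
        have h3 : a.1 = c.1 := Subtype.ext (inv_mul_eq_one.mp h2).symm
        exact Prod.ext h3 (Subtype.ext (Subtype.ext (mul_left_cancel (h3 ▸ h' :))))
      · obtain ⟨u, hu, l, hl', h⟩ := hS.hgen g (hPx ▸ ((hT g).mp g.2).1)
        have hlT : l ∈ T := by
          rw [show l = u⁻¹ * (g : G) by rw [h, inv_mul_cancel_left]]
          exact T.mul_mem (T.inv_mem (hxT hu)) g.2
        exact ⟨(⟨u, hu⟩, ⟨⟨l, hl'⟩, (hmem ⟨l, hl'⟩).mp hlT⟩), Subtype.ext h.symm⟩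
    rw [← Nat.card_eq_of_bijective f hf, Nat.card_prod, Nat.card_zpowers, hS.hx]
  set U' := U hS (η : K x L → ℂ) with hU'
  have hcardI : Nat.card (K x L) * Nat.card U' = Nat.card I := by
    rw [hU', card_U hS, ← hI, ← Subgroup.relIndex_bot_left, Subgroup.relIndex_mul_relIndex _ _ _ bot_le
      (CharApp.le_inertia _ (irr_class η)), Subgroup.relIndex_bot_left]
  have he' : e = Nat.card U' := by
    have h := Subgroup.relIndex_mul_relIndex ⊥ _ T bot_le hCT
    rw [Subgroup.relIndex_bot_left, Subgroup.relIndex_bot_left, he, hcardT, hcent, hS.card_centralizer,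
      ← hcardI, mul_assoc] at h
    exact Nat.eq_of_mul_eq_mul_left Nat.card_pos (Nat.eq_of_mul_eq_mul_left hp.pos h)
  have hepos : 0 < e := he' ▸ Nat.card_pos
  have hf' : f = I.index * e := by
    have h := Subgroup.relIndex_mul_relIndex ⊥ _ _ bot_le
      (Subgroup.centralizer_le_normalizer ((P : Subgroup G) : Set G))
    rw [Subgroup.relIndex_bot_left, Subgroup.relIndex_bot_left, hf, hcent, hS.card_centralizer, hPx,
      hS.card_normalizer, ← I.card_mul_index, ← hcardI, he'.symm, mul_assoc, mul_assoc,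
      mul_comm e I.index] at h
    exact Nat.eq_of_mul_eq_mul_left Nat.card_pos (Nat.eq_of_mul_eq_mul_left hp.pos h)
  have hdeg : (θ : Subgroup.centralizer ((P : Subgroup G) : Set G) → ℂ) 1 = (η : K x L → ℂ) 1 := hval 1 0 1 (by rw [hS.pw_zero]; simp)
  have hcl : (Finset.univ.filter (Lies M x L B)).card = f / e := by
    rw [card_lies hS hM hB hl, hf', Nat.mul_div_cancel _ hepos]
  obtain ⟨hk, exc, ε, δ, hinj, hexcB, hε, hexc, hcst, hrel⟩ := block_structure hS hM hB hl
  have hprod : e * Nat.card ((ZMod p)ˣ ⧸ U') = p - 1 := by rw [he']; exact card_units_eq hS (η : K x L → ℂ)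
  have ht : Nat.card ((ZMod p)ˣ ⧸ U') = (p - 1) / e := by rw [← hprod, Nat.mul_div_cancel_left _ hepos]
  have hmodd : ∀ χ ∈ B, (charDegree (χ : G → ℂ) : ℤ) ≡
      ((f / e : ℕ) : ℤ) * ((charDegree (θ : Subgroup.centralizer ((P : Subgroup G) : Set G) → ℂ) : ℤ) *
        ∑ u : (ZMod p)ˣ, bInt hS χ η (u : ZMod p)) [ZMOD p] := by
    intro χ hχ
    have h := memI_apply_one_sub hS hM hB hl hχ
    rw [hcl, ← charDegree_cast χ, ← hdeg, ← charDegree_cast θ] at h
    refine intModEq_of_memI hM ?_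
    push_cast at h ⊢
    exact h
  refine ⟨⟨_, hprod.symm⟩, ?_, B \ Set.range exc, Set.range exc, ?_, disjoint_sdiff_self_left, ?_, ?_,
    fun χ hχ => ?_, ⟨ε, hε, ?_⟩, ?_⟩
  · rw [hk, ← hU', ← he', ht]
  · rw [Set.sdiff_union_of_subset (by rintro _ ⟨c, rfl⟩; exact hexcB c)]
  · rw [Nat.card_coe_set_eq, Set.ncard_sdiff (by rintro _ ⟨c, rfl⟩; exact hexcB c),
      ← Nat.card_coe_set_eq, ← Nat.card_coe_set_eq, hk, Nat.card_range_of_injective hinj, ← hU', ← he',
      Nat.add_sub_cancel_right]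
  · rw [Nat.card_range_of_injective hinj, ← hU', ht]
  · obtain ⟨hd, hrow⟩ := hcst χ hχ.1 hχ.2
    have h := hmodd χ hχ.1
    rw [sum_bInt_const hS hrow] at h
    have h1 : ((p - 1 : ℕ) : ℤ) ≡ -1 [ZMOD p] :=
      Int.modEq_iff_dvd.mpr ⟨-1, by rw [Nat.cast_sub hp.one_le]; push_cast; ring⟩
    have h2 := h.trans (((h1.mul_left (δ χ)).mul_left
      (charDegree (θ : Subgroup.centralizer ((P : Subgroup G) : Set G) → ℂ) : ℤ)).mul_left ((f / e : ℕ) : ℤ))
    rcases hd with hd | hd <;> rw [hd] at h2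
    · right
      refine h2.trans (show _ % _ = _ % _ from congrArg (· % (p : ℤ)) ?_)
      push_cast; ring
    · left
      refine h2.trans (show _ % _ = _ % _ from congrArg (· % (p : ℤ)) ?_)
      push_cast; ring
  · rintro ψ ⟨c, rfl⟩
    have h := hmodd _ (hexcB c)
    rw [sum_bInt_exc hS (hexc c), ← hU', ← he'] at h
    refine h.trans (show _ % _ = _ % _ from congrArg (· % (p : ℤ)) ?_)
    have h2 : f / e * e = f := Nat.div_mul_cancel (Dvd.intro_left _ hf'.symm)
    conv_rhs => rw [← h2]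
    push_cast
    ring
  · rintro θ' ⟨c, rfl⟩ θ'' ⟨c', rfl⟩ g hg
    have h := (hrel g hg c).trans (hrel g hg c').symm
    rw [add_left_cancel_iff] at h
    exact mul_left_cancel₀ (by rcases hε with h | h <;> rw [h] <;> norm_num) h

end Cfsg.Agent.S4442
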