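import Cfsg.Statements.S4444
import Cfsg.Agent.Lib.GlauberChar.Ambient

set_option autoImplicit false
open Cfsg

namespace Cfsg.Agent.S4444

open Cfsg.Agent.Char Cfsg.Agent.GlauberChar

theorem main {G : Type*} [Group G] [Fintype G] {P : Type*} [Group P] [Finite P] (φ : P →* MulAut G)
    [Fintype (fixedSub φ)] (p : ℕ) [hp : Fact p.Prime] (hP : IsPGroup p P)
    (hcase : ¬ p ∣ Nat.card G ∨ fixedSub φ = ⊤) :
    (∀ χ : IrrCharacter G, IsFixed φ (χ : G → ℂ) → ∃! β : IrrCharacter (fixedSub φ), ¬ p ∣ mult φ (χ : G → ℂ) β) ∧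
    (∀ χ : IrrCharacter G, IsFixed φ (χ : G → ℂ) → ∀ β : IrrCharacter (fixedSub φ), ¬ p ∣ mult φ (χ : G → ℂ) β →
      (mult φ (χ : G → ℂ) β : ℤ) ≡ 1 [ZMOD p] ∨ (mult φ (χ : G → ℂ) β : ℤ) ≡ -1 [ZMOD p]) ∧
    (∀ χ χ' : IrrCharacter G, IsFixed φ (χ : G → ℂ) → IsFixed φ (χ' : G → ℂ) → ∀ β : IrrCharacter (fixedSub φ),
      ¬ p ∣ mult φ (χ : G → ℂ) β → ¬ p ∣ mult φ (χ' : G → ℂ) β → χ = χ') ∧
    (∀ β : IrrCharacter (fixedSub φ), ∃ χ : IrrCharacter G, IsFixed φ (χ : G → ℂ) ∧ ¬ p ∣ mult φ (χ : G → ℂ) β) := by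
  rcases hcase with hG | htop
  · refine ⟨fun χ hfix => ?_, fun χ hfix β hβ => mult_modEq φ hP hG hfix hβ,
      fun χ χ' h h' β h1 h2 => Subtype.ext (fixed_unique φ hP hG χ.2 χ'.2 h h' β.2 h1 h2),
      fun β => exists_fixed_of_irr φ hP hG β⟩
    obtain ⟨β, hβ⟩ := exists_irr_of_fixed φ hG χ
    exact ⟨β, hβ, fun β' hβ' => irr_unique φ hP hG hfix hβ' hβ⟩
  · classical
    let e : fixedSub φ ≃* G := (MulEquiv.subgroupCongr htop).trans Subgroup.topEquiv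
    have he : ∀ c, e c = (c : G) := fun c => rfl
    have hres : ∀ χ : IrrCharacter G, IsIrrCharacter (fixedSub φ) (fun c => (χ : G → ℂ) c) := fun χ =>
      IsIrrCharacter.comp_equiv χ.2 e
    have hm : ∀ (χ : IrrCharacter G) (β : IrrCharacter (fixedSub φ)),
        mult φ (χ : G → ℂ) β = if (fun c : fixedSub φ => (χ : G → ℂ) c) = β then 1 else 0 := fun χ β => by
      apply mult_eq_of_classInner
      rw [classInner_irr (hres χ) β.2]
      split_ifs <;> simp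
    have hd : ∀ (χ : IrrCharacter G) (β : IrrCharacter (fixedSub φ)),
        ¬ p ∣ mult φ (χ : G → ℂ) β ↔ (fun c : fixedSub φ => (χ : G → ℂ) c) = β := fun χ β => by
      rw [hm]
      split_ifs with h <;> simp [h, hp.out.ne_one]
    have hfx : ∀ χ : IrrCharacter G, IsFixed φ (χ : G → ℂ) := fun χ s g => by
      have : g ∈ fixedSub φ := htop ▸ Subgroup.mem_top g
      rw [this s]
    refine ⟨fun χ _ => ⟨⟨_, hres χ⟩, (hd χ ⟨_, hres χ⟩).2 rfl,
        fun β hβ => Subtype.ext ((hd χ β).1 hβ).symm⟩, fun χ _ β hβ => ?_, fun χ χ' _ _ β h1 h2 => ?_,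
      fun β => ?_⟩
    · rw [hm, if_pos ((hd χ β).1 hβ)]; left; rfl
    · refine Subtype.ext (funext fun g => ?_)
      have h3 := congrFun (((hd χ β).1 h1).trans ((hd χ' β).1 h2).symm) (e.symm g)
      have h4 : ((e.symm g : fixedSub φ) : G) = g := by rw [← he, MulEquiv.apply_symm_apply]
      simpa [h4] using h3
    · have hχ : IsIrrCharacter G (fun g => (β : fixedSub φ → ℂ) (e.symm g)) :=
        IsIrrCharacter.comp_equiv β.2 e.symm
      refine ⟨⟨_, hχ⟩, hfx _, (hd _ β).2 (funext fun c => ?_)⟩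
      show (β : fixedSub φ → ℂ) (e.symm (c : G)) = _
      rw [← he, MulEquiv.symm_apply_apply]

/-- The Glauberman correspondence for a p-group of operators. Inside a finite group Γ let S normalise G with the orders of G and S coprime, S a p-group, and let C = G ⊓ C(S) be the fixed points. Call an irreducible character χ of G S-invariant when χ(s g s⁻¹) = χ(g) for s ∈ S, g ∈ G. Then: (i) for every S-invariant χ there is exactly one irreducible character β of C whose multiplicity [χ_C, β] in the restriction of χ is not divisible by p; (ii) that multiplicity is ≡ 1 or ≡ −1 (mod p); (iii) distinct S-invariant χ give distinct β; (iv) every irreducible character of C arises in this way. So χ ↦ β is a bijection from the S-invariant irreducible characters of G onto the irreducible characters of C. -/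
theorem result {Γ : Type*} [Group Γ] [Fintype Γ] (G S : Subgroup Γ) [Fintype G] (hnorm : ∀ s ∈ S, ∀ g ∈ G, s * g * s⁻¹ ∈ G) (hcop : (Nat.card G).Coprime (Nat.card S)) (p : ℕ) (hp : p.Prime) (hS : IsPGroup p S) (C : Subgroup Γ) [Fintype C] (hC : C = G ⊓ Subgroup.centralizer (S : Set Γ)) (hCG : C ≤ G) : (∀ χ : Cfsg.IrrCharacter G, (∀ s ∈ S, ∀ g g' : G, (g' : Γ) = s * g * s⁻¹ → (χ : G → ℂ) g' = (χ : G → ℂ) g) → ∃! β : Cfsg.IrrCharacter C, ∃ m : ℕ, Cfsg.classInner (fun c : C => (χ : G → ℂ) ⟨c, hCG c.2⟩) (β : C → ℂ) = (m : ℂ) ∧ ¬ p ∣ m) ∧ (∀ χ : Cfsg.IrrCharacter G, (∀ s ∈ S, ∀ g g' : G, (g' : Γ) = s * g * s⁻¹ → (χ : G → ℂ) g' = (χ : G → ℂ) g) → ∀ β : Cfsg.IrrCharacter C, ∀ m : ℕ, Cfsg.classInner (fun c : C => (χ : G → ℂ) ⟨c, hCG c.2⟩) (β : C → ℂ) = (m : ℂ) → ¬ p ∣ m → ((m : ℤ) ≡ 1 [ZMOD p] ∨ (m : ℤ) ≡ -1 [ZMOD p])) ∧ (∀ χ χ' : Cfsg.IrrCharacter G, (∀ s ∈ S, ∀ g g' : G, (g' : Γ) = s * g * s⁻¹ → (χ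 : G → ℂ) g' = (χ : G → ℂ) g) → (∀ s ∈ S, ∀ g g' : G, (g' : Γ) = s * g * s⁻¹ → (χ' : G → ℂ) g' = (χ' : G → ℂ) g) → ∀ β : Cfsg.IrrCharacter C, ∀ m m' : ℕ, Cfsg.classInner (fun c : C => (χ : G → ℂ) ⟨c, hCG c.2⟩) (β : C → ℂ) = (m : ℂ) → ¬ p ∣ m → Cfsg.classInner (fun c : C => (χ' : G → ℂ) ⟨c, hCG c.2⟩) (β : C → ℂ) = (m' : ℂ) → ¬ p ∣ m' → χ = χ') ∧ (∀ β : Cfsg.IrrCharacter C, ∃ χ : Cfsg.IrrCharacter G, (∀ s ∈ S, ∀ g g' : G, (g' : Γ) = s * g * s⁻¹ → (χ : G → ℂ) g' = (χ : G → ℂ) g) ∧ ∃ m : ℕ, Cfsg.classInner (fun c : C => (χ : G → ℂ) ⟨c, hCG c.2⟩) (β : C → ℂ) = (m : ℂ) ∧ ¬ p ∣ m) := by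
  classical
  haveI : Fact p.Prime := ⟨hp⟩
  obtain ⟨φ, hφdef⟩ : ∃ φ, φ = Cfsg.Agent.GlauberChar.actHom G S hnorm := ⟨_, rfl⟩
  subst hφdef
  haveI : Fintype (fixedSub (actHom G S hnorm)) := Fintype.ofFinite _
  have hcase : ¬ p ∣ Nat.card G ∨ fixedSub (actHom G S hnorm) = ⊤ := by
    by_cases hpG : p ∣ Nat.card G
    · right
      obtain ⟨k, hk⟩ := IsPGroup.iff_card.1 hS
      have hk0 : k = 0 := by
        by_contra hk0
        exact hp.ne_one (Nat.eq_one_of_dvd_coprimes hcop hpG (hk ▸ dvd_pow_self p hk0))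
      rw [hk0, pow_zero] at hk
      rw [eq_top_iff]
      intro g _ s
      haveI := (Nat.card_eq_one_iff_unique.1 hk).1
      rw [Subsingleton.elim s 1, map_one]; rfl
    · exact Or.inl hpG
  obtain ⟨h1, h2, h3, h4⟩ := main (actHom G S hnorm) p hS hcase
  let e := equivFixed G S hnorm C hC
  let f : IrrCharacter C → IrrCharacter (fixedSub (actHom G S hnorm)) := fun β =>
    ⟨fun c => (β : C → ℂ) (e.symm c), IsIrrCharacter.comp_equiv β.2 e.symm⟩
  have hmult : ∀ (χ : IrrCharacter G) (β : IrrCharacter C) (m : ℕ),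
      classInner (fun c : C => (χ : G → ℂ) ⟨c, hCG c.2⟩) (β : C → ℂ) = (m : ℂ) →
      mult (actHom G S hnorm) (χ : G → ℂ) (f β) = m := fun χ β m hm => by
    apply mult_eq_of_classInner
    rw [← hm, classInner_transport G S hnorm C hC hCG]
  have hex : ∀ (χ : IrrCharacter G) (β : IrrCharacter C),
      classInner (fun c : C => (χ : G → ℂ) ⟨c, hCG c.2⟩) (β : C → ℂ)
        = (mult (actHom G S hnorm) (χ : G → ℂ) (f β) : ℂ) := fun χ β => by
    obtain ⟨m, hm⟩ := IsCharacter.classInner_nat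
      (IsCharacter.comp_hom (IsIrrCharacter.isCharacter χ.2) (Subgroup.inclusion hCG))
      (IsIrrCharacter.isCharacter β.2)
    rw [hmult χ β m hm]; exact hm
  have finj : Function.Injective f := fun a b h => Subtype.ext (funext fun c => by
    have := congrFun (congrArg Subtype.val h) (e c)
    simpa [f] using this)
  have fsurj : ∀ γ, ∃ β, f β = γ := fun γ =>
    ⟨⟨fun c => (γ : _ → ℂ) (e c), IsIrrCharacter.comp_equiv γ.2 e⟩,
      Subtype.ext (funext fun c => by simp [f])⟩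
  refine ⟨fun χ hinv => ?_, fun χ hinv β m hm hpm => ?_, fun χ χ' hinv hinv' β m m' hm hpm hm' hpm' => ?_,
    fun β => ?_⟩
  · obtain ⟨γ, hγ, huniq⟩ := h1 χ ((isFixed_iff G S hnorm _).2 hinv)
    obtain ⟨β, rfl⟩ := fsurj γ
    refine ⟨β, ⟨_, hex χ β, hγ⟩, ?_⟩
    rintro β' ⟨m, hm, hpm⟩
    have hd' : ¬ p ∣ mult (actHom G S hnorm) (χ : G → ℂ) (f β') := by rw [hmult χ β' m hm]; exact hpm
    exact finj (huniq (f β') hd')
  · rw [← hmult χ β m hm] at hpm ⊢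
    exact h2 χ ((isFixed_iff G S hnorm _).2 hinv) _ hpm
  · rw [← hmult χ β m hm] at hpm
    rw [← hmult χ' β m' hm'] at hpm'
    exact h3 χ χ' ((isFixed_iff G S hnorm _).2 hinv) ((isFixed_iff G S hnorm _).2 hinv') _ hpm hpm'
  · obtain ⟨χ, hfix, hd⟩ := h4 (f β)
    exact ⟨χ, (isFixed_iff G S hnorm _).1 hfix, _, hex χ β, hd⟩

end Cfsg.Agent.S4444
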