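import Cfsg.Statements.S4445
import Cfsg.Agent.Lib.GlauberChar.Solvable
import Cfsg.Agent.Lib.GlauberChar.Ambient

set_option autoImplicit false
open Cfsg

namespace Cfsg.Agent.S4445

/-- Inside a finite group Γ let the solvable subgroup S normalise G with the orders of G and S coprime. Then the number of S-invariant irreducible characters of G (χ(s g s⁻¹) = χ(g) for all s ∈ S, g ∈ G) equals the number of conjugacy classes of G mapped to themselves by conjugation by every element of S. -/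
theorem result {Γ : Type*} [Group Γ] [Fintype Γ] (G S : Subgroup Γ) [Fintype G] (hnorm : ∀ s ∈ S, ∀ g ∈ G, s * g * s⁻¹ ∈ G) (hcop : (Nat.card G).Coprime (Nat.card S)) (hsolv : Group.IsSolvable S) : Nat.card {χ : Cfsg.IrrCharacter G // (∀ s ∈ S, ∀ g g' : G, (g' : Γ) = s * g * s⁻¹ → (χ : G → ℂ) g' = (χ : G → ℂ) g)} = Nat.card {K : ConjClasses G // ∀ s ∈ S, ∀ g g' : G, (g' : Γ) = s * g * s⁻¹ → ConjClasses.mk g = K → ConjClasses.mk g' = K} := by
  classical
  obtain ⟨φ, hφ⟩ : ∃ φ, φ = GlauberChar.actHom G S hnorm := ⟨_, rfl⟩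
  haveI : Group.IsSolvable φ.range := solvable_of_surjective φ.rangeRestrict_surjective
  have hR := GlauberChar.card_fixed_eq_aux (Nat.card φ.range) G φ.range inferInstance
    (hcop.coprime_dvd_right (Subgroup.card_range_dvd φ)) le_rfl
  have h1 : ∀ χ : IrrCharacter G, (∀ s ∈ S, ∀ g g' : G, (g' : Γ) = s * g * s⁻¹ →
      (χ : G → ℂ) g' = (χ : G → ℂ) g) ↔ GlauberChar.IsFixed φ.range.subtype (χ : G → ℂ) := by
    intro χ
    rw [← GlauberChar.isFixed_iff G S hnorm, hφ]
    constructor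
    · rintro h ⟨_, s, rfl⟩ g
      exact h s g
    · intro h s g
      exact h ⟨_, s, rfl⟩ g
  have h2 : ∀ K : ConjClasses G, (∀ s ∈ S, ∀ g g' : G, (g' : Γ) = s * g * s⁻¹ →
      ConjClasses.mk g = K → ConjClasses.mk g' = K) ↔ GlauberChar.IsFixedClass φ.range.subtype K := by
    intro K
    rw [hφ]
    constructor
    · rintro h ⟨_, s, rfl⟩ g hg
      exact h s s.2 g _ rfl hg
    · intro h s hs g g' hgg' hg
      have e : g' = GlauberChar.actHom G S hnorm ⟨s, hs⟩ g := Subtype.ext hgg'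
      rw [e]
      exact h ⟨_, ⟨s, hs⟩, rfl⟩ g hg
  rw [Nat.card_congr (Equiv.subtypeEquivRight h1), Nat.card_congr (Equiv.subtypeEquivRight h2)]
  exact hR

end Cfsg.Agent.S4445
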