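import Cfsg.Statements.S4446
import Cfsg.Agent.Lib.GlauberChar.CyclicAdapter
import Cfsg.Agent.EqLemmas

set_option autoImplicit false
open Cfsg

namespace Cfsg.Agent.S4446

/-- Let the finite group Γ be generated by a normal subgroup G and a cyclic subgroup S of coprime orders, C = G ⊓ C(S), and let χ be an S-invariant irreducible character of G with canonical extension χ̂ to Γ (the extension whose determinantal order is coprime to the order of S). Then there are exactly one irreducible character β of C and one sign ε such that χ̂(c s) = ε β(c) for every c ∈ C and every generator s of S; this β is a constituent of the restriction of χ to C; distinct S-invariant χ give distinct β; and every irreducible character of C arises in this way. -/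
theorem result {Γ : Type*} [Group Γ] [Fintype Γ] (G S : Subgroup Γ) [Fintype G] (hnorm : ∀ s ∈ S, ∀ g ∈ G, s * g * s⁻¹ ∈ G) (hcop : (Nat.card G).Coprime (Nat.card S)) (htop : G ⊔ S = ⊤) (hcyc : IsCyclic S) (C : Subgroup Γ) [Fintype C] (hC : C = G ⊓ Subgroup.centralizer (S : Set Γ)) (hCG : C ≤ G) : (∀ (χ : Cfsg.IrrCharacter G) (χh : Cfsg.IrrCharacter Γ), (∀ s ∈ S, ∀ g g' : G, (g' : Γ) = s * g * s⁻¹ → (χ : G → ℂ) g' = (χ : G → ℂ) g) → (∀ g : G, (χh : Γ → ℂ) g = (χ : G → ℂ) g) → (Cfsg.detOrder (χh : Γ → ℂ)).Coprime (Nat.card S) → (∃! βε : Cfsg.IrrCharacter C × ℤ, (βε.2 = 1 ∨ βε.2 = -1) ∧ ∀ c : C, ∀ s : Γ, Subgroup.zpowers s = S → (χh : Γ → ℂ) ((c : Γ) * s) = (βε.2 : ℂ) * (βε.1 : C → ℂ) c) ∧ ∀ β : Cfsg.IrrCharacter C, ∀ ε : ℤ, (ε = 1 ∨ ε = -1) → (∀ c : C, ∀ s : Γ, Subgroup.zpowers s = S → (χh : Γ → ℂ) ((c : Γ) * s) = (ε : ℂ) * (β : C → ℂ) c) → Cfsg.classInner (fun c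 : C => (χ : G → ℂ) ⟨c, hCG c.2⟩) (β : C → ℂ) ≠ 0) ∧ (∀ (χ χ' : Cfsg.IrrCharacter G) (χh χh' : Cfsg.IrrCharacter Γ), (∀ s ∈ S, ∀ g g' : G, (g' : Γ) = s * g * s⁻¹ → (χ : G → ℂ) g' = (χ : G → ℂ) g) → (∀ s ∈ S, ∀ g g' : G, (g' : Γ) = s * g * s⁻¹ → (χ' : G → ℂ) g' = (χ' : G → ℂ) g) → (∀ g : G, (χh : Γ → ℂ) g = (χ : G → ℂ) g) → (∀ g : G, (χh' : Γ → ℂ) g = (χ' : G → ℂ) g) → (Cfsg.detOrder (χh : Γ → ℂ)).Coprime (Nat.card S) → (Cfsg.detOrder (χh' : Γ → ℂ)).Coprime (Nat.card S) → ∀ β : Cfsg.IrrCharacter C, ∀ ε ε' : ℤ, (ε = 1 ∨ ε = -1) → (ε' = 1 ∨ ε' = -1) → (∀ c : C, ∀ s : Γ, Subgroup.zpowers s = S → (χh : Γ → ℂ) ((c : Γ) * s) = (ε : ℂ) * (β : C → ℂ) c) → (∀ c : C, ∀ s : Γ, Subgroup.zpowers s = S → (χh' : Γ → ℂ) ((c : Γ) * s) = (ε' : ℂ) * (β : C → ℂ) c) → χ = χ') ∧ (∀ β : Cfsg.IrrCharacter C, ∃ (χ : Cfsg.IrrCharacter G) (χh : Cfsg.IrrCharacter Γ) (ε : ℤ), (∀ s ∈ S, ∀ g g'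 : G, (g' : Γ) = s * g * s⁻¹ → (χ : G → ℂ) g' = (χ : G → ℂ) g) ∧ (∀ g : G, (χh : Γ → ℂ) g = (χ : G → ℂ) g) ∧ (Cfsg.detOrder (χh : Γ → ℂ)).Coprime (Nat.card S) ∧ (ε = 1 ∨ ε = -1) ∧ ∀ c : C, ∀ s : Γ, Subgroup.zpowers s = S → (χh : Γ → ℂ) ((c : Γ) * s) = (ε : ℂ) * (β : C → ℂ) c) := by
  classical
  obtain ⟨s, hs⟩ := GlauberChar.exists_generator hcyc
  have H := GlauberChar.cyc_of_generator hnorm hcop htop hs hC
  have hord : orderOf s = Nat.card S := by rw [← Nat.card_zpowers, hs]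
  have hcanon : ∀ (χ : IrrCharacter G) (χh : IrrCharacter Γ),
      (∀ g : G, (χh : Γ → ℂ) g = (χ : G → ℂ) g) →
      (detOrder (χh : Γ → ℂ)).Coprime (Nat.card S) → GlauberChar.IsCanon G s (χh : Γ → ℂ) :=
    fun χ χh hres hdet => ⟨χh.2, (funext hres : (fun g : G => (χh : Γ → ℂ) g) = χ) ▸ χ.2, hord ▸ hdet⟩
  refine ⟨fun χ χh _ hres hdet => ?_, fun χ χ' χh χh' _ _ hres hres' hdet hdet' β ε ε' hε hε' hv hv' => ?_,
    fun β => ?_⟩
  · obtain ⟨β, ε, hε, hv⟩ := H.exists_value (hcanon χ χh hres hdet)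
    refine ⟨⟨(β, ε), ⟨hε, fun c s' hs' => ?_⟩, ?_⟩, fun β' ε' hε' hv' => ?_⟩
    · rw [H.apply_generator (hcanon χ χh hres hdet) (hs'.trans hs.symm), hv]
    · rintro ⟨β', ε'⟩ ⟨-, hv'⟩
      obtain ⟨rfl, rfl⟩ := H.value_unique hε hv (fun c => hv' c s hs)
      rfl
    · have h := H.value_constituent (Char.IsIrrCharacter.isCharacter χh.2) hε' (fun c => hv' c s hs)
      rwa [show (fun c : C => (χ : G → ℂ) ⟨c, hCG c.2⟩) = fun c : C => (χh : Γ → ℂ) c from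
        funext fun c => (hres ⟨c, hCG c.2⟩).symm]
  · have h := H.value_injective (hcanon χ χh hres hdet) (hcanon χ' χh' hres' hdet') hε hε'
      (fun c => hv c s hs) (fun c => hv' c s hs)
    exact Subtype.ext (funext fun g => by rw [← hres g, ← hres' g, h])
  · obtain ⟨χh, ε, hχ, hε, hv⟩ := H.exists_of_irr β
    refine ⟨⟨_, hχ.2.1⟩, ⟨χh, hχ.1⟩, ε, fun t _ g g' hgg' => ?_, fun g => rfl, ?_, hε, fun c s' hs' => ?_⟩
    · show χh g' = χh g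
      rw [hgg']
      exact Char.IsIrrCharacter.isClassFunction hχ.1 g t
    · exact hord ▸ hχ.2.2
    · show χh _ = _
      rw [H.apply_generator hχ (hs'.trans hs.symm), hv]

end Cfsg.Agent.S4446
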