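import Cfsg.Statements.S4450
import Cfsg.Agent.Lib.GlauberChar.Layers
import Cfsg.Agent.EqLemmas

set_option autoImplicit false
open Cfsg

namespace Cfsg.Agent.S4450

/-- Let N ≤ G be normal subgroups of the finite group Γ with the index of G in Γ coprime to the index of N in G, and Γ/G or G/N solvable. Then for every irreducible character ϑ of N invariant under conjugation by Γ, the induced character ϑ^G has an irreducible constituent invariant under conjugation by Γ. -/
theorem result {Γ : Type*} [Group Γ] [Fintype Γ] (G N : Subgroup Γ) [hG : G.Normal] [hN : N.Normal] [Fintype G] [Fintype N] (hNG : N ≤ G) (hcop : (G.index).Coprime (N.relIndex G)) (hsolv : Group.IsSolvable (Γ ⧸ G) ∨ Group.IsSolvable (G ⧸ N.subgroupOf G)) (θ : Cfsg.IrrCharacter N) (hinv : ∀ (x : Γ) (n : N), (θ : N → ℂ) ⟨x * n * x⁻¹, hN.conj_mem n n.2 x⟩ = (θ : N → ℂ) n) : ∃ χ : Cfsg.IrrCharacter G, Cfsg.classInner (fun n : N => (χ : G → ℂ) ⟨n, hNG n.2⟩) (θ : N → ℂ) ≠ 0 ∧ ∀ (x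 : Γ) (g : G), (χ : G → ℂ) ⟨x * g * x⁻¹, hG.conj_mem g g.2 x⟩ = (χ : G → ℂ) g := by
  classical
  rcases hsolv with hsolv | hsolv
  · exact GlauberChar.exists_invariant_over_of_solvable G N hNG hcop hsolv θ hinv
  · haveI : (N.subgroupOf G).Normal := inferInstance
    obtain ⟨S, hSG, hScop⟩ := GlauberChar.exists_minimal_supplement_coprime G
    obtain ⟨χ, hχ, hfix⟩ := CharApp.exists_invariant_above S N (fun s _ n hn => hN.conj_mem n hn s) _ G
      rfl (fun s _ g hg => hG.conj_mem g hg s) hNG (hScop _ hcop).symm hsolv θ (fun s _ g g' hgg' => by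
        rw [show g' = ⟨s * g * s⁻¹, hN.conj_mem g g.2 s⟩ from Subtype.ext hgg']
        exact hinv s g)
    refine ⟨χ, hχ, fun x g => ?_⟩
    have hx : x ∈ S ⊔ G := hSG ▸ Subgroup.mem_top x
    rw [Subgroup.mem_sup_of_normal_right] at hx
    obtain ⟨s, hs, y, hy, rfl⟩ := hx
    have h1 := hfix s hs (⟨y, hy⟩ * g * ⟨y, hy⟩⁻¹) ⟨s * y * g * (s * y)⁻¹, hG.conj_mem g g.2 (s * y)⟩
      (by simp [mul_assoc])
    rw [h1]
    exact (Char.IsIrrCharacter.isClassFunction χ.2) g ⟨y, hy⟩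

end Cfsg.Agent.S4450
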