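import Cfsg.Statements.S4451
import Cfsg.Agent.Lib.GlauberChar.CyclicFpf
import Cfsg.Agent.Lib.GlauberChar.CyclicAdapter
import Cfsg.Agent.Lib.CharApp.DegreeSets
import Mathlib.Data.ZMod.Units
import Cfsg.Agent.EqLemmas

set_option autoImplicit false
open Cfsg

namespace Cfsg.Agent.S4451

/-- Let the finite group Γ be generated by a normal subgroup G and a cyclic subgroup S of coprime orders such that every non-identity element of S has the same centraliser C = G ⊓ C(S) in G. Let χ be an S-invariant irreducible character of G, χ̂ its canonical extension to Γ (determinantal order coprime to the order of S), and β the irreducible character of C with χ̂(c s) = ε₀ β(c) for c ∈ C and generators s of S (ε₀ = ±1). Then there are a sign ε = ±1, which may differ from ε₀, and a linear character μ of S with μ² = 1, such that: (a) χ̂(c x) = ε β(c) μ(x) for all c ∈ C and all x ∈ S other than 1; (b) the restriction of χ to C equals |S|·ϑ + ε β for some character ϑ of C or ϑ = 0;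 (c) |S| divides χ(1) − ε β(1). -/
theorem result {Γ : Type*} [Group Γ] [Fintype Γ] (G S : Subgroup Γ) [Fintype G] (hnorm : ∀ s ∈ S, ∀ g ∈ G, s * g * s⁻¹ ∈ G) (hcop : (Nat.card G).Coprime (Nat.card S)) (htop : G ⊔ S = ⊤) (hcyc : IsCyclic S) (C : Subgroup Γ) [Fintype C] (hC : C = G ⊓ Subgroup.centralizer (S : Set Γ)) (hCG : C ≤ G) (hfpf : ∀ x ∈ S, x ≠ 1 → G ⊓ Subgroup.centralizer ({x} : Set Γ) = C) (χ : Cfsg.IrrCharacter G) (hinv : (∀ s ∈ S, ∀ g g' : G, (g' : Γ) = s * g * s⁻¹ → (χ : G → ℂ) g' = (χ : G → ℂ) g)) (χh : Cfsg.IrrCharacter Γ) (hext : (∀ g : G, (χh : Γ → ℂ) g = (χ : G → ℂ) g)) (hdet : (Cfsg.detOrder (χh : Γ → ℂ)).Coprime (Nat.card S)) (β : Cfsg.IrrCharacter C) (ε₀ : ℤ) (hε₀ : ε₀ = 1 ∨ ε₀ = -1) (hβ : ∀ c : C, ∀ s : Γ, Subgroup.zpowers s = S → (χh : Γ → ℂ) ((c : Γ) * s) = (ε₀ : ℂ) * (β : C → ℂ) c) : ∃ ε : ℤ, (ε = 1 ∨ ε = -1) ∧ (∃ μ : S → ℂ, Cfsg.IsCharacter S μ ∧ μ 1 = 1 ∧ (∀ x : S, μ x * μ x = 1) ∧ ∀ c : C, ∀ x : S, x ≠ 1 → (χh : Γ → ℂ) ((c : Γ) * x) = (ε :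 ℂ) * (β : C → ℂ) c * μ x) ∧ (∃ ϑ : C → ℂ, Cfsg.IsCharacter C ϑ ∧ (fun c : C => (χ : G → ℂ) ⟨c, hCG c.2⟩) = fun c => (Nat.card S : ℂ) * ϑ c + (ε : ℂ) * (β : C → ℂ) c) ∧ (Nat.card S : ℤ) ∣ (Cfsg.charDegree (χ : G → ℂ) : ℤ) - ε * (Cfsg.charDegree (β : C → ℂ) : ℤ) := by
  classical
  haveI := Fintype.ofFinite (IrrCharacter C)
  obtain ⟨s, hs⟩ := GlauberChar.exists_generator hcyc
  have H := GlauberChar.cyc_of_generator hnorm hcop htop hs hC
  have hord : orderOf s = Nat.card S := by rw [← Nat.card_zpowers, hs]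
  have hχc : GlauberChar.IsCanon G s (χh : Γ → ℂ) :=
    ⟨χh.2, (funext hext : (fun g : G => (χh : Γ → ℂ) g) = χ) ▸ χ.2, hord ▸ hdet⟩
  subst hs
  obtain ⟨m, hm⟩ : ∃ m, orderOf s = m := ⟨_, rfl⟩
  have hmpos : 0 < m := hm ▸ orderOf_pos s
  choose a ha using fun (γ : IrrCharacter C) (t : Subgroup.zpowers s) => H.exists_int_mult hχc γ t
  have hsum : ∀ t : Subgroup.zpowers s, (t : Γ) ≠ 1 → ∑ γ, a γ t * a γ t = 1 := fun t ht =>
    H.sum_sq_mult hχc t (fun g hg hgt => by
      rw [← hfpf t t.2 ht, Subgroup.mem_inf, Subgroup.mem_centralizer_singleton_iff]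
      exact ⟨hg, hgt⟩) (fun γ => a γ t) (fun γ => ha γ t)
  obtain ⟨T, hT⟩ : ∃ T : ℕ → Subgroup.zpowers s, ∀ j, ((T j : Subgroup.zpowers s) : Γ) = s ^ j :=
    ⟨fun j => ⟨s ^ j, (Subgroup.zpowers s).pow_mem (Subgroup.mem_zpowers s) j⟩, fun j => rfl⟩
  have hTpow : ∀ i q, (T i) ^ q = T (i * q) := fun i q => Subtype.ext (by
    rw [SubgroupClass.coe_pow, hT, hT, pow_mul])
  have hTne : ∀ j, ((T j : Subgroup.zpowers s) : Γ) ≠ 1 ↔ ¬ m ∣ j := fun j => by
    rw [hT, ← hm, Ne, ← orderOf_dvd_iff_pow_eq_one]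
  have ha1 : ∀ γ j, ¬ m ∣ j → a γ (T j) = 0 ∨ a γ (T j) = 1 ∨ a γ (T j) = -1 := by
    intro γ j hj
    have h : a γ (T j) * a γ (T j) ≤ 1 :=
      (hsum _ ((hTne j).2 hj)).le.trans' (Finset.single_le_sum (f := fun γ => a γ (T j) * a γ (T j))
        (fun b _ => mul_self_nonneg _) (Finset.mem_univ γ))
    have h2 : a γ (T j) ≤ 1 := by nlinarith
    have h3 : -1 ≤ a γ (T j) := by nlinarith
    omega
  have hchar : ∀ γ : IrrCharacter C, IsCharacter (Subgroup.zpowers s) (H.multFun (χh : Γ → ℂ) (γ : C → ℂ)) :=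
    fun γ => H.isCharacter_multFun (Char.IsIrrCharacter.isCharacter χh.2) γ.2
  -- stepping by a prime
  have step : ∀ γ i q, q.Prime → ¬ m ∣ i * q → (a γ (T i) = 0 ↔ a γ (T (i * q)) = 0) ∧
      (Odd q → a γ (T i) = a γ (T (i * q))) := by
    intro γ i q hq hiq
    have hi : ¬ m ∣ i := fun h => hiq (h.mul_right q)
    have hd := BSW.int_frobenius_congr hq (hchar γ) (T i) (ha γ (T i))
      (b := a γ (T (i * q))) (by rw [hTpow]; exact ha γ _)
    have hq2 := hq.two_le
    refine ⟨⟨fun h0 => ?_, fun h0 => ?_⟩, fun hodd => ?_⟩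
    · rw [h0, zero_pow hq.ne_zero, zero_sub, Int.dvd_neg] at hd
      rcases ha1 γ _ hiq with h | h | h
      · exact h
      all_goals (exfalso; rw [h] at hd; have := Int.natAbs_dvd_natAbs.2 hd; simp at this; omega)
    · rw [h0, sub_zero] at hd
      rcases ha1 γ _ hi with h | h | h
      · exact h
      all_goals (exfalso; rw [h] at hd; have := Int.natAbs_dvd_natAbs.2 hd; simp at this; omega)
    · have hq3 : 3 ≤ q := by
        rcases hodd with ⟨r, rfl⟩
        omega
      have hqZ : (3 : ℤ) ≤ (q : ℤ) := by exact_mod_cast hq3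
      have hp : a γ (T i) ^ q = a γ (T i) := by
        rcases ha1 γ _ hi with h | h | h <;> rw [h]
        · exact zero_pow hq.ne_zero
        · exact one_pow q
        · exact hodd.neg_one_pow
      rw [hp] at hd
      obtain ⟨c, hc⟩ := hd
      rcases ha1 γ _ hi with h | h | h <;> rcases ha1 γ _ hiq with h' | h' | h' <;> rw [h, h'] at hc ⊢ <;>
        first
          | omega
          | (exfalso; rcases lt_trichotomy c 0 with hc0 | hc0 | hc0 <;> nlinarith)
  -- only the gcd with `m` matters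
  have hred : ∀ γ j, ¬ m ∣ j → a γ (T j) = a γ (T (j.gcd m)) := by
    intro γ j hj
    have hg : 0 < j.gcd m := Nat.gcd_pos_of_pos_right _ hmpos
    obtain ⟨j', hj'⟩ := Nat.gcd_dvd_left j m
    obtain ⟨m', hm'⟩ := Nat.gcd_dvd_right j m
    have hm'0 : 0 < m' := Nat.pos_of_ne_zero fun h => by rw [h, mul_zero] at hm'; omega
    have hcop' : j'.Coprime m' := by
      have h := Nat.coprime_div_gcd_div_gcd (m := j) (n := m) hg
      rwa [show j / j.gcd m = j' from Nat.div_eq_of_eq_mul_right hg hj',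
        show m / j.gcd m = m' from Nat.div_eq_of_eq_mul_right hg hm'] at h
    haveI : NeZero m := ⟨hmpos.ne'⟩
    obtain ⟨u, hu⟩ := ZMod.unitsMap_surjective (n := m') (m := m) (Dvd.intro_left _ hm'.symm)
      (ZMod.unitOfCoprime j' hcop')
    have hum : ((u : ZMod m).val : ZMod m') = (j' : ZMod m') := by
      have h := congrArg (fun v : (ZMod m')ˣ => (v : ZMod m')) hu
      rw [ZMod.unitsMap_val] at h
      rw [ZMod.natCast_val]
      exact h
    obtain ⟨k, hk⟩ : ∃ k, (u : ZMod m).val = k := ⟨_, rfl⟩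
    have hkc : k.Coprime m := hk ▸ ZMod.val_coe_unit_coprime u
    rw [hk, ZMod.natCast_eq_natCast_iff] at hum
    have he : T j = (T (j.gcd m)) ^ k := by
      refine Subtype.ext ?_
      rw [SubgroupClass.coe_pow, hT, hT, ← pow_mul]
      refine pow_eq_pow_iff_modEq.2 ?_
      rw [hm]
      have h2 : j.gcd m * j' ≡ j.gcd m * k [MOD j.gcd m * m'] := Nat.ModEq.mul_left' _ hum.symm
      rwa [← hj', ← hm'] at h2
    have h1 : H.multFun (χh : Γ → ℂ) (γ : C → ℂ) (T j) = H.multFun (χh : Γ → ℂ) (γ : C → ℂ) (T (j.gcd m)) := by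
      rw [he]
      unfold GlauberChar.Cyc.multFun
      congr 1
      funext c
      rw [SubgroupClass.coe_pow]
      exact H.apply_pow_pow hχc (T (j.gcd m)).2 (hm ▸ hkc) c
    rw [ha, ha] at h1
    exact_mod_cast h1
  have hT1 : ((T 1 : Subgroup.zpowers s) : Γ) = s := by rw [hT, pow_one]
  have hzero : ∀ γ d, ¬ m ∣ d → (a γ (T d) = 0 ↔ a γ (T 1) = 0) := by
    intro γ d
    induction d using Nat.strong_induction_on with
    | _ d ih =>
      intro hd
      by_cases hd1 : d = 1
      · rw [hd1]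
      have hd0 : d ≠ 0 := fun h => hd (h ▸ dvd_zero m)
      obtain ⟨q, hq, e, rfl⟩ := Nat.exists_prime_and_dvd hd1
      have he : e < q * e := lt_mul_left (Nat.pos_of_ne_zero (right_ne_zero_of_mul hd0)) hq.one_lt
      rw [mul_comm] at hd ⊢
      rw [← (step γ e q hq hd).1]
      exact ih e he fun h => hd (h.mul_right q)
  have hβs : ∀ γ, a γ (T 1) = if γ = β then ε₀ else 0 := by
    intro γ
    have h := ha γ (T 1)
    unfold GlauberChar.Cyc.multFun at h
    rw [hT1, H.classInner_value (fun c => hβ c s rfl) γ] at h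
    split_ifs at h ⊢ with h1 h2 h2
    · exact_mod_cast h.symm
    · exact absurd h1.symm h2
    · exact absurd h2.symm h1
    · exact_mod_cast h.symm
  have hother : ∀ γ j, γ ≠ β → ¬ m ∣ j → a γ (T j) = 0 := fun γ j hγ hj =>
    (hzero γ j hj).2 (by rw [hβs, if_neg hγ])
  have hsign : ∀ j, ¬ m ∣ j → a β (T j) = 1 ∨ a β (T j) = -1 := by
    intro j hj
    rcases ha1 β j hj with h | h
    · have h2 := (hzero β j hj).1 h
      rw [hβs, if_pos rfl] at h2
      omega
    · exact h
  have heven : ∀ d, ¬ m ∣ d → a β (T d) = if Odd d then a β (T 1) else a β (T 2) := by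
    intro d
    induction d using Nat.strong_induction_on with
    | _ d ih =>
      intro hd
      have hd0 : d ≠ 0 := fun h => hd (h ▸ dvd_zero m)
      by_cases hp : ∃ q, q.Prime ∧ Odd q ∧ q ∣ d
      · obtain ⟨q, hq, hodd, e, rfl⟩ := hp
        have he : e < q * e := lt_mul_left (Nat.pos_of_ne_zero (right_ne_zero_of_mul hd0)) hq.one_lt
        rw [mul_comm] at hd ⊢
        rw [← (step β e q hq hd).2 hodd, ih e he fun h => hd (h.mul_right q)]
        refine if_congr ?_ rfl rfl
        rw [Nat.odd_mul, and_iff_left hodd]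
      push Not at hp
      obtain ⟨v, hv⟩ : ∃ v, d = 2 ^ v := ⟨d.primeFactorsList.length,
        Nat.eq_prime_pow_of_unique_prime_dvd hd0 fun {q} hq hqd => by
          rcases hq.eq_two_or_odd' with h | h
          · exact h
          · exact absurd hqd (hp q hq h)⟩
      subst hv
      rcases v with _ | _ | v
      · simp
      · simp
      · have h1 : ¬ m ∣ 2 ^ (v + 1) := fun h => hd (h.trans (pow_dvd_pow 2 (by omega)))
        have h0 : ¬ m ∣ 2 ^ v := fun h => hd (h.trans (pow_dvd_pow 2 (by omega)))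
        have h := GlauberChar.eq_of_pow_four (hchar β) (T (2 ^ v)) (v := a β (T (2 ^ (v + 1))))
          (w := a β (T (2 ^ (v + 1 + 1)))) (ha β _)
          (by rw [hTpow, ← pow_succ]; exact ha β _)
          (by rw [hTpow, show (2 : ℕ) ^ v * 4 = 2 ^ (v + 1 + 1) by ring]; exact ha β _)
          (hsign _ h0) (hsign _ h1) (hsign _ hd)
        rw [← h, ih _ (Nat.pow_lt_pow_right one_lt_two (by omega)) h1]
        have e1 : ¬ Odd (2 ^ (v + 1)) := by simp [Nat.odd_pow_iff]
        have e2 : ¬ Odd (2 ^ (v + 1 + 1)) := by simp [Nat.odd_pow_iff]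
        rw [if_neg e1, if_neg e2]
  have hfx : ∀ (x : Subgroup.zpowers s), (x : Γ) ≠ 1 → ∀ c : C,
      (χh : Γ → ℂ) ((c : Γ) * x) = (a β x : ℂ) * (β : C → ℂ) c := by
    intro x hx c
    obtain ⟨x, hxm⟩ := x
    have hxm' := hxm
    rw [← (isOfFinOrder_of_finite s).mem_powers_iff_mem_zpowers] at hxm'
    obtain ⟨j, rfl⟩ := hxm'
    rw [show (⟨s ^ j, hxm⟩ : Subgroup.zpowers s) = T j from Subtype.ext (hT j).symm] at hx ⊢
    have hj := (hTne j).1 hx
    have h := congrFun (Char.classFunction_eq_sum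
      (H.isClassFunction_mul_mem (Char.IsIrrCharacter.isClassFunction χh.2) (T j).2)) c
    rw [h, Finset.sum_apply, Finset.sum_eq_single β (fun γ _ hγ => ?_)
      (fun h => absurd (Finset.mem_univ _) h), Pi.smul_apply, smul_eq_mul]
    · have h2 := ha β (T j)
      unfold GlauberChar.Cyc.multFun at h2
      rw [h2]
    · have h2 := ha γ (T j)
      unfold GlauberChar.Cyc.multFun at h2
      rw [Pi.smul_apply, h2, hother γ j hγ hj, Int.cast_zero, zero_smul]
  have hpar : ∀ j, ¬ m ∣ j → a β (T j) = if Odd (j.gcd m) then a β (T 1) else a β (T 2) := by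
    intro j hj
    rw [hred β j hj, heven _ fun h => hj (h.trans (Nat.gcd_dvd_left j m))]
  -- the sign and the linear character
  obtain ⟨ε, μ, hε, hμ⟩ : ∃ (ε : ℤ) (μ : Subgroup.zpowers s →* ℂ), (ε = 1 ∨ ε = -1) ∧
      (∀ x, μ x * μ x = 1) ∧ (m = 1 → ε = ε₀) ∧
      ∀ x : Subgroup.zpowers s, (x : Γ) ≠ 1 → (a β x : ℂ) = (ε : ℂ) * μ x := by
    have hxj : ∀ x : Subgroup.zpowers s, ∃ j, x = T j := fun x => by
      have h := x.2
      rw [← (isOfFinOrder_of_finite s).mem_powers_iff_mem_zpowers] at h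
      obtain ⟨j, hj⟩ := h
      exact ⟨j, Subtype.ext ((hT j).trans hj).symm⟩
    by_cases h2m : Even m ∧ ¬ m ∣ 2 ∧ a β (T 1) ≠ a β (T 2)
    · obtain ⟨hme, hm2, hne⟩ := h2m
      obtain ⟨K, hK⟩ : ∃ K, K = Subgroup.zpowers (T 2) := ⟨_, rfl⟩
      have hKi : K.index = 2 := by
        have h1 := Subgroup.card_mul_index K
        have h2 : Nat.card K * 2 = m := by
          rw [hK, Nat.card_zpowers, ← Subgroup.orderOf_coe, hT, orderOf_pow, hm,
            Nat.gcd_eq_right (even_iff_two_dvd.1 hme), Nat.div_mul_cancel (even_iff_two_dvd.1 hme)]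
        rw [Nat.card_zpowers, hm, ← h2] at h1
        exact Nat.eq_of_mul_eq_mul_left Nat.card_pos h1
      have hmem : ∀ j, T j ∈ K ↔ Even j := fun j => by
        constructor
        · intro h
          rw [hK, ← (isOfFinOrder_of_finite _).mem_powers_iff_mem_zpowers] at h
          obtain ⟨i, hi⟩ := h
          have h' := congrArg (fun z : Subgroup.zpowers s => (z : Γ)) hi
          simp only [SubgroupClass.coe_pow, hT] at h'
          rw [← pow_mul, pow_eq_pow_iff_modEq, hm] at h'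
          exact (Nat.even_iff.2 (by
            rw [← (h'.of_dvd (even_iff_two_dvd.1 hme))]; omega))
        · rintro ⟨i, rfl⟩
          rw [hK, show T (i + i) = (T 2) ^ i by rw [hTpow]; congr 1; omega]
          exact Subgroup.pow_mem _ (Subgroup.mem_zpowers _) i
      refine ⟨a β (T 2), { toFun := fun x => if x ∈ K then 1 else -1
                           map_one' := if_pos (one_mem K)
                           map_mul' := fun x y => by
                             have := Subgroup.mul_mem_iff_of_index_two hKi (a := x) (b := y)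
                             by_cases hx : x ∈ K <;> by_cases hy : y ∈ K <;> simp [this, hx, hy] },
        hsign 2 hm2, fun x => by simp only [MonoidHom.coe_mk, OneHom.coe_mk]; split_ifs <;> norm_num,
        fun h => absurd (h ▸ one_dvd 2) hm2, fun x hx => ?_⟩
      obtain ⟨j, rfl⟩ := hxj x
      have hj := (hTne j).1 hx
      have hpj : Odd (j.gcd m) ↔ Odd j := by
        rw [← Nat.not_even_iff_odd, ← Nat.not_even_iff_odd, even_iff_two_dvd, even_iff_two_dvd,
          Nat.dvd_gcd_iff, and_iff_left (even_iff_two_dvd.1 hme)]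
      show (a β (T j) : ℂ) = (a β (T 2) : ℂ) * if T j ∈ K then 1 else -1
      rw [hpar j hj]
      simp only [hpj, hmem]
      by_cases he : Even j
      · rw [if_neg (Nat.not_odd_iff_even.2 he), if_pos he, mul_one]
      · rw [if_pos (Nat.not_even_iff_odd.1 he), if_neg he]
        have h1 : a β (T 1) = -a β (T 2) := by
          have hm1 : ¬ m ∣ 1 := fun h => hm2 (h.trans (one_dvd 2))
          rcases hsign 1 hm1 with h | h <;> rcases hsign 2 hm2 with h' | h' <;> omega
        rw [h1]; push_cast; ring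
    · refine ⟨ε₀, 1, hε₀, fun x => by simp, fun _ => rfl, fun x hx => ?_⟩
      obtain ⟨j, rfl⟩ := hxj x
      have hj := (hTne j).1 hx
      have h1 : a β (T 1) = ε₀ := by rw [hβs, if_pos rfl]
      rw [MonoidHom.one_apply, mul_one, hpar j hj]
      split_ifs with ho
      · rw [h1]
      · have hev : 2 ∣ j.gcd m := even_iff_two_dvd.1 (Nat.not_odd_iff_even.1 ho)
        have hm2 : ¬ m ∣ 2 := fun h => hj ((h.trans hev).trans (Nat.gcd_dvd_left _ _))
        by_contra hne
        exact h2m ⟨even_iff_two_dvd.2 (hev.trans (Nat.gcd_dvd_right _ _)), hm2, fun h =>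
          hne (by rw [← h1, h])⟩
  obtain ⟨hμ2, hm1, hμ⟩ := hμ
  -- part (b)
  have hμsum : ∀ γ : IrrCharacter C, ∃ z : ℕ,
      (a γ 1 : ℤ) - (if γ = β then ε else 0) = (m : ℤ) * z := by
    intro γ
    obtain ⟨k, hk⟩ := Char.IsCharacter.classInner_nat (hchar γ) (Char.isCharacter_of_hom μ)
    have hval : ∀ x : Subgroup.zpowers s, x ≠ 1 →
        H.multFun (χh : Γ → ℂ) (γ : C → ℂ) x * starRingEnd ℂ (μ x) = if γ = β then (ε : ℂ) else 0 := by
      intro x hx
      have hx' : (x : Γ) ≠ 1 := fun h => hx (Subtype.ext h)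
      rw [ha]
      have hr : starRingEnd ℂ (μ x) = μ x := by
        rcases mul_self_eq_one_iff.1 (hμ2 x) with h | h <;> simp [h]
      split_ifs with hγ
      · subst hγ
        rw [hμ x hx', hr, mul_assoc, hμ2, mul_one]
      · have hxm := x.2
        rw [← (isOfFinOrder_of_finite s).mem_powers_iff_mem_zpowers] at hxm
        obtain ⟨j, hj⟩ := hxm
        have hxT : x = T j := Subtype.ext ((hT j).trans hj).symm
        rw [hxT] at hx' ⊢
        rw [hother γ j hγ ((hTne j).1 hx'), Int.cast_zero, zero_mul]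
    unfold classInner at hk
    rw [inv_mul_eq_iff_eq_mul₀ (Nat.cast_ne_zero.2 Nat.card_pos.ne'),
      ← Finset.add_sum_erase _ _ (Finset.mem_univ (1 : Subgroup.zpowers s)), map_one, map_one, mul_one,
      ha, Finset.sum_congr rfl fun x hx => hval x (Finset.ne_of_mem_erase hx), Finset.sum_const,
      Finset.card_erase_of_mem (Finset.mem_univ _), Finset.card_univ, ← Nat.card_eq_fintype_card,
      Nat.card_zpowers, hm, nsmul_eq_mul, Nat.cast_sub hmpos, Nat.cast_one] at hk
    obtain ⟨e, he⟩ : ∃ e : ℤ, (if γ = β then ε else 0) = e := ⟨_, rfl⟩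
    have he' : (if γ = β then (ε : ℂ) else 0) = (e : ℂ) := by rw [← he]; split_ifs <;> simp
    rw [he'] at hk
    rw [he]
    have hk' : a γ 1 - e = (m : ℤ) * ((k : ℤ) - e) := by
      have h3 : ((a γ 1 - e : ℤ) : ℂ) = (((m : ℤ) * ((k : ℤ) - e) : ℤ) : ℂ) := by
        push_cast
        linear_combination hk
      exact_mod_cast h3
    have hnn : 0 ≤ a γ 1 := by
      obtain ⟨n, hn⟩ := Char.IsCharacter.exists_degree (hchar γ)
      rw [ha] at hn
      have hn' : a γ 1 = (n : ℤ) := by exact_mod_cast hn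
      omega
    have hz : 0 ≤ (k : ℤ) - e := by
      by_contra hlt
      push Not at hlt
      have he1 : e = 0 ∨ e = 1 ∨ e = -1 := by
        rw [← he]; split_ifs <;> omega
      rcases Nat.lt_or_ge m 2 with hm' | hm'
      · have hm1' : m = 1 := by omega
        subst hm1'
        have hT1' : (T 1 : Subgroup.zpowers s) = 1 := Subtype.ext (by
          rw [hT1, Subgroup.coe_one]; exact orderOf_eq_one_iff.1 hm)
        have h := hβs γ
        rw [hT1'] at h
        rw [hm1 rfl] at he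
        rw [← h] at he
        omega
      · have h1 : (m : ℤ) * ((k : ℤ) - e) ≤ (m : ℤ) * (-1) :=
          mul_le_mul_of_nonneg_left (by omega) (Nat.cast_nonneg m)
        omega
    obtain ⟨z, hz⟩ := Int.eq_ofNat_of_zero_le hz
    exact ⟨z, by rw [hk', hz]⟩
  choose z hz using hμsum
  refine ⟨ε, hε, ⟨fun x => μ x, Char.isCharacter_of_hom μ, map_one μ, hμ2, fun c x hx => ?_⟩, ?_, ?_⟩
  · rw [hfx x (fun h => hx (Subtype.ext h)) c, hμ x (fun h => hx (Subtype.ext h))]
    ring
  all_goals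
    have hres : (fun c : C => (χ : G → ℂ) ⟨c, hCG c.2⟩) =
        fun c => (Nat.card (Subgroup.zpowers s) : ℂ) * (∑ γ : IrrCharacter C, (z γ : ℂ) • (γ : C → ℂ)) c +
          (ε : ℂ) * (β : C → ℂ) c := by
      have hcl : IsClassFunction C (fun c : C => (χh : Γ → ℂ) c) := fun p q =>
        Char.IsIrrCharacter.isClassFunction χh.2 p q
      funext c
      rw [← hext ⟨c, hCG c.2⟩]
      show (χh : Γ → ℂ) c = _
      rw [congrFun (Char.classFunction_eq_sum hcl) c, Nat.card_zpowers, hm, Finset.sum_apply,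
        Finset.sum_apply, Finset.mul_sum]
      have hterm : ∀ γ : IrrCharacter C, (classInner (fun c : C => (χh : Γ → ℂ) c) (γ : C → ℂ) •
          (γ : C → ℂ)) c = (m : ℂ) * ((z γ : ℂ) • (γ : C → ℂ)) c +
            (if γ = β then (ε : ℂ) * (β : C → ℂ) c else 0) := by
        intro γ
        have h := ha γ 1
        unfold GlauberChar.Cyc.multFun at h
        simp only [Subgroup.coe_one, mul_one] at h
        have h2 : (a γ 1 : ℂ) - (if γ = β then (ε : ℂ) else 0) = (m : ℂ) * (z γ : ℂ) := by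
          have h3 := congrArg (fun n : ℤ => (n : ℂ)) (hz γ)
          push_cast at h3
          exact h3
        rw [Pi.smul_apply, h, Pi.smul_apply, smul_eq_mul, smul_eq_mul]
        split_ifs with hγ
        · subst hγ
          rw [if_pos rfl] at h2
          linear_combination (γ : C → ℂ) c * h2
        · rw [if_neg hγ, sub_zero] at h2
          rw [h2]; ring
      rw [Finset.sum_congr rfl fun γ _ => hterm γ, Finset.sum_add_distrib, Finset.sum_ite_eq',
        if_pos (Finset.mem_univ β)]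
  · exact ⟨_, Char.IsCharacter.sum _ fun γ _ =>
      Char.IsCharacter.natCast_smul (Char.IsIrrCharacter.isCharacter γ.2) (z γ), hres⟩
  · have h1 := congrFun hres 1
    rw [show (⟨((1 : C) : Γ), hCG (1 : C).2⟩ : G) = 1 from rfl, CharApp.DegreeSets.apply_one χ.2,
      CharApp.DegreeSets.apply_one β.2, Finset.sum_apply] at h1
    simp only [Pi.smul_apply, smul_eq_mul, CharApp.DegreeSets.apply_one (Subtype.property _)] at h1
    refine ⟨∑ γ : IrrCharacter C, (z γ : ℤ) * (charDegree (γ : C → ℂ) : ℤ), ?_⟩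
    rw [← Int.cast_inj (α := ℂ)]
    push_cast
    linear_combination h1

end Cfsg.Agent.S4451
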