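import Cfsg.Statements.S4452
import Cfsg.Agent.Lib.GlauberChar.DegreeCount

set_option autoImplicit false
open Cfsg

namespace Cfsg.Agent.S4452

open Cfsg.Agent.Char Cfsg.Agent.GlauberChar Cfsg.Agent.CharApp Subgroup

/-- Let the finite group G be the product of a normal subgroup K and a solvable subgroup H of coprime orders, and let N = N_G(H). Then the number of irreducible characters of G of degree coprime to the order of H equals the number of irreducible characters of N of degree coprime to the order of H. (The two sets are in fact in a canonical bijection; only the equality of their sizes is stated here.) -/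
theorem result {G : Type*} [Group G] [Finite G] (K H : Subgroup G) [K.Normal] (hKH : K ⊔ H = ⊤) (hcop : (Nat.card K).Coprime (Nat.card H)) (hsolv : Group.IsSolvable H) : Nat.card {χ : Cfsg.IrrCharacter G // (Cfsg.charDegree (χ : G → ℂ)).Coprime (Nat.card H)} = Nat.card {η : Cfsg.IrrCharacter (Subgroup.normalizer (H : Set G)) // (Cfsg.charDegree (η : Subgroup.normalizer (H : Set G) → ℂ)).Coprime (Nat.card H)} := by
  classical
  haveI := Fintype.ofFinite G
  haveI := Fintype.ofFinite K
  have hdis : Disjoint K H := disjoint_of_coprime_natCard hcop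
  have hc : K.IsComplement' H := isComplement'_of_disjoint_and_mul_eq_univ hdis (by
    rw [← Subgroup.normal_mul, hKH, coe_top])
  set N := normalizer (H : Set G) with hN
  haveI := Fintype.ofFinite N
  set C := K ⊓ centralizer (H : Set G) with hC
  have hCN : C ≤ N := inf_le_right.trans (centralizer_le_normalizer (H : Set G))
  have hHN : H ≤ N := le_normalizer
  have hcomm : ∀ c ∈ C, ∀ h ∈ H, h * c = c * h := fun c hc h hh => mem_centralizer_iff.1 hc.2 h hh
  -- the normaliser is C × H
  have hdec : ∀ g ∈ N, ∃ c ∈ C, ∃ h ∈ H, g = c * h := by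
    intro g hg
    obtain ⟨⟨⟨k, hk⟩, ⟨h, hh⟩⟩, hkh⟩ := hc.2 g
    have hkh' : k * h = g := hkh
    have hkN : k ∈ N := by
      rw [show k = g * h⁻¹ by rw [← hkh', mul_inv_cancel_right]]
      exact N.mul_mem hg (N.inv_mem (hHN hh))
    refine ⟨k, ⟨hk, mem_centralizer_iff.2 fun x hx => ?_⟩, h, hh, hkh'.symm⟩
    have h1 : k⁻¹ * x⁻¹ * k * x ∈ K ⊓ H := by
      refine ⟨?_, ?_⟩
      · rw [show k⁻¹ * x⁻¹ * k * x = k⁻¹ * (x⁻¹ * k * x⁻¹⁻¹) by group]
        exact K.mul_mem (K.inv_mem hk) (Subgroup.Normal.conj_mem inferInstance k hk x⁻¹)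
      · refine H.mul_mem ?_ hx
        have := (mem_normalizer_iff.1 (N.inv_mem hkN) x⁻¹).1 (H.inv_mem hx)
        simpa [mul_assoc] using this
    rw [disjoint_iff.1 hdis, mem_bot] at h1
    calc x * k = x * k * 1 := (mul_one _).symm
      _ = x * k * (k⁻¹ * x⁻¹ * k * x) := by rw [h1]
      _ = k * x := by group
  set C' := C.subgroupOf N
  set H' := H.subgroupOf N
  haveI : C'.Normal := ⟨fun x hx g => by
    obtain ⟨c, hc1, h, hh, hg⟩ := hdec g g.2
    rw [mem_subgroupOf] at hx ⊢
    show (g : G) * (x : G) * (g : G)⁻¹ ∈ C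
    rw [hg, show c * h * (x : G) * (c * h)⁻¹ = c * (h * x) * h⁻¹ * c⁻¹ by group, hcomm _ hx h hh,
      show c * ((x : G) * h) * h⁻¹ * c⁻¹ = c * x * c⁻¹ by group]
    exact C.mul_mem (C.mul_mem hc1 hx) (C.inv_mem hc1)⟩
  have eC := subgroupOfEquivOfLe hCN
  have eH := subgroupOfEquivOfLe hHN
  have hcop' : (Nat.card C').Coprime (Nat.card H') := by
    rw [Nat.card_congr eC.toEquiv, Nat.card_congr eH.toEquiv]
    exact hcop.coprime_dvd_left (card_dvd_of_le inf_le_left)
  have hc' : C'.IsComplement' H' := isComplement'_of_disjoint_and_mul_eq_univ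
    (disjoint_of_coprime_natCard hcop') (Set.eq_univ_of_forall fun g => by
      obtain ⟨c, hc1, h, hh, hg⟩ := hdec g g.2
      exact ⟨⟨c, hCN hc1⟩, hc1, ⟨h, hHN hh⟩, hh, Subtype.ext hg.symm⟩)
  rw [← Nat.card_congr eH.toEquiv, card_coprime_degree C' H' hc' hcop', Nat.card_congr eH.toEquiv,
    card_coprime_degree K H hc hcop, Nat.card_congr (eH.monoidHomCongrLeft (N := ℂˣ)).toEquiv]
  congr 1
  haveI := Fintype.ofFinite C'
  -- every character of C' is invariant
  have hall : ∀ θ : IrrCharacter C', ∀ g : N, CliffordChar.conjFun C' g (θ : C' → ℂ) = (θ : C' → ℂ) := by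
    intro θ g
    have htop : inertia C' (θ : C' → ℂ) = ⊤ := eq_top_iff.2 fun g _ => by
      obtain ⟨c, hc1, h, hh, hg⟩ := hdec g g.2
      rw [show g = (⟨c, hCN hc1⟩ : N) * ⟨h, hHN hh⟩ from Subtype.ext hg]
      refine mul_mem (le_inertia C' (IsIrrCharacter.isClassFunction θ.2) hc1) ?_
      rw [mem_inertia_iff]
      intro n
      refine congrArg (θ : C' → ℂ) (Subtype.ext (Subtype.ext ?_))
      show h * ((n : N) : G) * h⁻¹ = ((n : N) : G)
      exact mul_inv_eq_iff_eq_mul.2 (hcomm _ n.2 h hh)
    exact (mem_inertia C').1 (htop ▸ mem_top g)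
  rw [Nat.card_congr (Equiv.subtypeUnivEquiv hall), card_irr_eq_card_conjClasses]
  -- the Glauberman count
  have hnorm : ∀ s ∈ H, ∀ g ∈ K, s * g * s⁻¹ ∈ K :=
    fun s _ g hg => Subgroup.Normal.conj_mem inferInstance g hg s
  obtain ⟨φ, hφ⟩ : ∃ φ, φ = actHom K H hnorm := ⟨_, rfl⟩
  haveI : Group.IsSolvable φ.range := solvable_of_surjective φ.rangeRestrict_surjective
  have hcopφ : (Nat.card K).Coprime (Nat.card φ.range) := hcop.coprime_dvd_right (card_range_dvd φ)
  have hfix : ∀ θ : IrrCharacter K, (∀ g : G, CliffordChar.conjFun K g (θ : K → ℂ) = (θ : K → ℂ)) ↔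
      IsFixed φ.range.subtype (θ : K → ℂ) := by
    intro θ
    constructor
    · rintro h ⟨_, s, rfl⟩ k
      subst hφ
      exact (mem_inertia_iff K).1 ((mem_inertia K).2 (h s)) k
    · intro h g
      have htop : inertia K (θ : K → ℂ) = ⊤ := eq_top_iff.2 fun g _ => by
        obtain ⟨⟨k, x⟩, hkx⟩ := hc.2 g
        rw [← hkx]
        refine mul_mem (le_inertia K (IsIrrCharacter.isClassFunction θ.2) k.2) ?_
        rw [mem_inertia_iff]
        intro n
        subst hφ
        exact h ⟨_, x, rfl⟩ n
      exact (mem_inertia K).1 (htop ▸ mem_top g)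
  haveI := Fintype.ofFinite (fixedSub φ.range.subtype)
  rw [Nat.card_congr (Equiv.subtypeEquivRight hfix),
    card_fixed_eq_aux (Nat.card φ.range) K φ.range inferInstance hcopφ le_rfl,
    card_fixedClass_eq_aux (Nat.card φ.range) K φ.range inferInstance hcopφ le_rfl]
  have e1 : fixedSub φ = fixedSub φ.range.subtype := by
    ext k
    exact ⟨fun h => by rintro ⟨_, s, rfl⟩; exact h s, fun h s => h ⟨_, s, rfl⟩⟩
  subst hφ
  let e : fixedSub (actHom K H hnorm).range.subtype ≃* C' :=
    ((MulEquiv.subgroupCongr e1.symm).trans (equivFixed K H hnorm C hC).symm).trans eC.symm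
  exact Nat.card_congr
    { toFun := ConjClasses.map e.toMonoidHom
      invFun := ConjClasses.map e.symm.toMonoidHom
      left_inv := fun x => by
        obtain ⟨a, rfl⟩ := ConjClasses.mk_surjective x
        exact congrArg ConjClasses.mk (e.symm_apply_apply a)
      right_inv := fun x => by
        obtain ⟨a, rfl⟩ := ConjClasses.mk_surjective x
        exact congrArg ConjClasses.mk (e.apply_symm_apply a) }

end Cfsg.Agent.S4452
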