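import Cfsg.Statements.S4453
import Cfsg.Agent.Lib.OddSection.Reduction
import Cfsg.Agent.Lib.GlauberChar.Ambient

set_option autoImplicit false
set_option linter.style.haveILetI false
open Cfsg

namespace Cfsg.Agent.S4453

open Cfsg.Agent.GlauberChar (IsFixed)

section
variable {Γ : Type*} [Group Γ]

theorem exists_mul_of_mem_sup {N C : Subgroup Γ} (h : ∀ c ∈ C, ∀ n ∈ N, c * n * c⁻¹ ∈ N) {x : Γ}
    (hx : x ∈ N ⊔ C) : ∃ n ∈ N, ∃ c ∈ C, x = n * c := by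
  let M : Subgroup Γ :=
    { carrier := {x | ∃ n ∈ N, ∃ c ∈ C, x = n * c}
      one_mem' := ⟨1, N.one_mem, 1, C.one_mem, (one_mul 1).symm⟩
      mul_mem' := by
        rintro _ _ ⟨n, hn, c, hc, rfl⟩ ⟨n', hn', c', hc', rfl⟩
        exact ⟨n * (c * n' * c⁻¹), N.mul_mem hn (h c hc n' hn'), c * c', C.mul_mem hc hc', by group⟩
      inv_mem' := by
        rintro _ ⟨n, hn, c, hc, rfl⟩
        exact ⟨c⁻¹ * n⁻¹ * c, by simpa using h c⁻¹ (C.inv_mem hc) _ (N.inv_mem hn), c⁻¹, C.inv_mem hc,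
          by group⟩ }
  exact (sup_le (fun n hn => ⟨n, hn, 1, C.one_mem, (mul_one n).symm⟩)
    (fun c hc => ⟨1, N.one_mem, c, hc, (one_mul c).symm⟩) : N ⊔ C ≤ M) hx

end

/-- Inside a finite group Γ let S normalise the solvable subgroup G of odd order with the orders of G and S coprime, let C = G ⊓ C(S), and let L ≤ K be S-invariant normal subgroups of G with K/L abelian, G = KC and H = LC (so C ≤ H ≤ G). Then for each S-invariant irreducible character χ of G there is exactly one S-invariant irreducible character ψ of H whose multiplicity in the restriction of χ to H is odd, and χ ↦ ψ is a bijection from the S-invariant irreducible characters of G onto those of H (distinct χ give distinct ψ, and every S-invariant ψ arises). -/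
theorem result {Γ : Type*} [Group Γ] [Fintype Γ] (G S : Subgroup Γ) [Fintype G] (hnorm : ∀ s ∈ S, ∀ g ∈ G, s * g * s⁻¹ ∈ G) (hcop : (Nat.card G).Coprime (Nat.card S)) (hGsolv : Group.IsSolvable G) (hodd : Odd (Nat.card G)) (C : Subgroup Γ) [Fintype C] (hC : C = G ⊓ Subgroup.centralizer (S : Set Γ)) (hCG : C ≤ G) (K L H : Subgroup Γ) [Fintype H] (hLK : L ≤ K) (hKG : K ≤ G) (hKn : ∀ g ∈ G, ∀ k ∈ K, g * k * g⁻¹ ∈ K) (hLn : ∀ g ∈ G, ∀ l ∈ L, g * l * g⁻¹ ∈ L) (hKS : ∀ s ∈ S, ∀ k ∈ K, s * k * s⁻¹ ∈ K) (hLS : ∀ s ∈ S, ∀ l ∈ L, s * l * s⁻¹ ∈ L) (hab : ∀ a ∈ K, ∀ b ∈ K, a * b * a⁻¹ * b⁻¹ ∈ L) (hGKC : K ⊔ C = G) (hH : H = L ⊔ C) (hHG : H ≤ G) : (∀ χ : Cfsg.IrrCharacter G, (∀ s ∈ S, ∀ g g' : G, (g' : Γ) = s * g * s⁻¹ → (χ : G → ℂ) g' = (χ : G → ℂ) g) → ∃! ψ : Cfsg.IrrCharacter H, (∀ s ∈ S, ∀ g g' : H, (g' : Γ) = s * g * s⁻¹ → (ψ : H → ℂ) g' = (ψ : H → ℂ) g) ∧ ∃ m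 : ℕ, Cfsg.classInner (fun h : H => (χ : G → ℂ) ⟨h, hHG h.2⟩) (ψ : H → ℂ) = (m : ℂ) ∧ Odd m) ∧ (∀ χ χ' : Cfsg.IrrCharacter G, (∀ s ∈ S, ∀ g g' : G, (g' : Γ) = s * g * s⁻¹ → (χ : G → ℂ) g' = (χ : G → ℂ) g) → (∀ s ∈ S, ∀ g g' : G, (g' : Γ) = s * g * s⁻¹ → (χ' : G → ℂ) g' = (χ' : G → ℂ) g) → ∀ ψ : Cfsg.IrrCharacter H, (∀ s ∈ S, ∀ g g' : H, (g' : Γ) = s * g * s⁻¹ → (ψ : H → ℂ) g' = (ψ : H → ℂ) g) → ∀ m m' : ℕ, Cfsg.classInner (fun h : H => (χ : G → ℂ) ⟨h, hHG h.2⟩) (ψ : H → ℂ) = (m : ℂ) → Odd m → Cfsg.classInner (fun h : H => (χ' : G → ℂ) ⟨h, hHG h.2⟩) (ψ : H → ℂ) = (m' : ℂ) → Odd m' → χ = χ') ∧ (∀ ψ : Cfsg.IrrCharacter H, (∀ s ∈ S, ∀ g g' : H, (g' : Γ) = s * g * s⁻¹ → (ψ : H → ℂ) g' = (ψ : H → ℂ) g) → ∃ χ : Cfsg.IrrCharacter G, (∀ s ∈ S, ∀ g g' : G, (g' : Γ) = s * g * s⁻¹ → (χ : G → ℂ) g' = (χ : G → ℂ) g) ∧ ∃ m : ℕ, Cfsg.classInner (fun h : H => (χ : G → ℂ)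 ⟨h, hHG h.2⟩) (ψ : H → ℂ) = (m : ℂ) ∧ Odd m) := by
  classical
  let act := GlauberChar.actHom G S hnorm
  have hfixC : ∀ x : G, (∀ s, act s x = x) ↔ (x : Γ) ∈ C := by
    intro x
    rw [hC]
    constructor
    · intro h
      refine ⟨x.2, Subgroup.mem_centralizer_iff.2 fun s hs => ?_⟩
      exact mul_inv_eq_iff_eq_mul.1 (congrArg Subtype.val (h ⟨s, hs⟩))
    · intro h s
      refine Subtype.ext ?_
      show (s : Γ) * x * (s : Γ)⁻¹ = x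
      rw [Subgroup.mem_centralizer_iff.1 h.2 s s.2, mul_inv_cancel_right]
  have hcS : ∀ c ∈ C, ∀ s ∈ S, s * c * s⁻¹ = c := fun c hc s hs => by
    rw [hC] at hc
    rw [Subgroup.mem_centralizer_iff.1 hc.2 s hs, mul_inv_cancel_right]
  -- the enlarged bottom
  set L' : Subgroup Γ := L ⊔ (C ⊓ K) with hL'_def
  have hL'K : L' ≤ K := sup_le hLK inf_le_right
  have hL'G : L' ≤ G := hL'K.trans hKG
  have hL'mem : ∀ x ∈ L', ∃ l ∈ L, ∃ d ∈ C ⊓ K, x = l * d := fun x hx =>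
    exists_mul_of_mem_sup (N := L) (C := C ⊓ K) (fun c hc n hn => hLn c (hCG hc.1) n hn) hx
  have hcommL : ∀ a ∈ K, ∀ b ∈ K, a * b * a⁻¹ * b⁻¹ ∈ L' := fun a ha b hb =>
    Subgroup.mem_sup_left (hab a ha b hb)
  have hGgen : ∀ g ∈ G, ∃ k ∈ K, ∃ c ∈ C, g = k * c := fun g hg =>
    exists_mul_of_mem_sup (fun c hc k hk => hKn c (hCG hc) k hk) (hGKC.symm ▸ hg : g ∈ K ⊔ C)
  have hL'n : ∀ g ∈ G, ∀ l ∈ L', g * l * g⁻¹ ∈ L' := by
    intro g hg l hl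
    obtain ⟨k, hk, c, hc, rfl⟩ := hGgen g hg
    have h1 : c * l * c⁻¹ ∈ L' := by
      obtain ⟨l₀, hl₀, d, hd, rfl⟩ := hL'mem l hl
      rw [show c * (l₀ * d) * c⁻¹ = c * l₀ * c⁻¹ * (c * d * c⁻¹) by group]
      exact L'.mul_mem (Subgroup.mem_sup_left (hLn c (hCG hc) l₀ hl₀))
        (Subgroup.mem_sup_right ⟨C.mul_mem (C.mul_mem hc hd.1) (C.inv_mem hc), hKn c (hCG hc) d hd.2⟩)
    rw [show k * c * l * (k * c)⁻¹ = k * (c * l * c⁻¹) * k⁻¹ * (c * l * c⁻¹)⁻¹ * (c * l * c⁻¹) by group]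
    exact L'.mul_mem (hcommL k hk _ (hL'K h1)) h1
  have hL'S : ∀ s ∈ S, ∀ l ∈ L', s * l * s⁻¹ ∈ L' := by
    intro s hs l hl
    obtain ⟨l₀, hl₀, d, hd, rfl⟩ := hL'mem l hl
    rw [show s * (l₀ * d) * s⁻¹ = s * l₀ * s⁻¹ * (s * d * s⁻¹) by group, hcS d hd.1 s hs]
    exact L'.mul_mem (Subgroup.mem_sup_left (hLS s hs l₀ hl₀)) (Subgroup.mem_sup_right hd)
  have hCH : C ≤ H := hH.symm ▸ le_sup_right
  have hL'H : L' ≤ H := sup_le (hH.symm ▸ le_sup_left) (inf_le_left.trans hCH)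
  have P : OddSection.Setup act (K.subgroupOf G) (L'.subgroupOf G) (H.subgroupOf G) := by
    refine ⟨hodd, hcop, hGsolv, ⟨fun n hn g => hKn g g.2 n hn⟩, ⟨fun n hn g => hL'n g g.2 n hn⟩,
      fun x hx => hL'K hx, fun x hx => hL'H hx, fun a ha b hb => hcommL a ha b hb,
      fun s k hk => hKS s s.2 k hk, fun s l hl => hL'S s s.2 l hl, fun g => ?_, fun h hh => ?_,
      fun c hc => hCH ((hfixC c).1 hc), fun c hcK hc => Subgroup.mem_sup_right ⟨(hfixC c).1 hc, hcK⟩⟩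
    · obtain ⟨k, hk, c, hc, he⟩ := hGgen g g.2
      exact ⟨⟨k, hKG hk⟩, hk, ⟨c, hCG hc⟩, (hfixC _).2 hc, Subtype.ext he⟩
    · have hh' : (h : Γ) ∈ L ⊔ C := hH ▸ (hh : (h : Γ) ∈ H)
      obtain ⟨l, hl, c, hc, he⟩ := exists_mul_of_mem_sup (fun c hc n hn => hLn c (hCG hc) n hn) hh'
      exact ⟨⟨l, hL'G (Subgroup.mem_sup_left hl)⟩, Subgroup.mem_sup_left hl, ⟨c, hCG hc⟩,
        (hfixC _).2 hc, Subtype.ext he⟩
  haveI := Fintype.ofFinite S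
  haveI := Fintype.ofFinite L'
  haveI := Fintype.ofFinite (L'.subgroupOf G)
  haveI := Fintype.ofFinite (H.subgroupOf G)
  let eL : L'.subgroupOf G ≃* L' := Subgroup.subgroupOfEquivOfLe hL'G
  let eH : H.subgroupOf G ≃* H := Subgroup.subgroupOfEquivOfLe hHG
  let HG := H.subgroupOf G
  -- translations
  have hFG : ∀ χ : IrrCharacter G,
      (∀ s ∈ S, ∀ g g' : G, (g' : Γ) = s * g * s⁻¹ → (χ : G → ℂ) g' = (χ : G → ℂ) g) →
      IsFixed act (χ : G → ℂ) := fun χ h => (GlauberChar.isFixed_iff G S hnorm _).2 h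
  let toH : IrrCharacter H → IrrCharacter HG := fun ψ =>
    ⟨fun x => (ψ : H → ℂ) (eH x), Char.IsIrrCharacter.comp_equiv ψ.2 eH⟩
  let ofH : IrrCharacter HG → IrrCharacter H := fun ψ =>
    ⟨fun x => (ψ : HG → ℂ) (eH.symm x), Char.IsIrrCharacter.comp_equiv ψ.2 eH.symm⟩
  have hFH : ∀ ψ : IrrCharacter H,
      (∀ s ∈ S, ∀ g g' : H, (g' : Γ) = s * g * s⁻¹ → (ψ : H → ℂ) g' = (ψ : H → ℂ) g) →
      IsFixed (OddSection.resAct act HG P.stableH) (toH ψ : HG → ℂ) := fun ψ h s x =>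
    h s s.2 (eH x) (eH (OddSection.resAct act HG P.stableH s x)) rfl
  have hOdd : ∀ (χ : IrrCharacter G) (ψ : IrrCharacter H),
      OddSection.OddMult (χ : G → ℂ) (toH ψ : HG → ℂ) ↔
        ∃ m : ℕ, classInner (fun h : H => (χ : G → ℂ) ⟨h, hHG h.2⟩) (ψ : H → ℂ) = (m : ℂ) ∧ Odd m :=
    fun χ ψ => by
      have h := Char.classInner_comp_equiv eH (fun h : H => (χ : G → ℂ) ⟨h, hHG h.2⟩) (ψ : H → ℂ)
      exact ⟨fun ⟨m, hm, hm'⟩ => ⟨m, h.symm.trans hm, hm'⟩, fun ⟨m, hm, hm'⟩ => ⟨m, h.trans hm, hm'⟩⟩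
  haveI hnG : (L'.subgroupOf G).Normal := P.normalL
  haveI hnH : (L'.subgroupOf H).Normal := ⟨fun n hn g => hL'n g (hHG g.2) n hn⟩
  haveI := hGsolv
  haveI : Group.IsSolvable H :=
    Group.isSolvable_of_isSolvable_injective (f := Subgroup.inclusion hHG) (Subgroup.inclusion_injective hHG)
  have hnormH : ∀ s ∈ S, ∀ g ∈ H, s * g * s⁻¹ ∈ H := fun s hs g hg =>
    P.stableH ⟨s, hs⟩ ⟨g, hHG hg⟩ hg
  -- an invariant character below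
  have belowG : ∀ χ : IrrCharacter G, IsFixed act (χ : G → ℂ) → ∃ φ : L'.subgroupOf G → ℂ,
      IsIrrCharacter (L'.subgroupOf G) φ ∧ IsFixed (OddSection.resAct act _ P.stableL) φ ∧
      classInner (fun l : L'.subgroupOf G => (χ : G → ℂ) l) φ ≠ 0 := by
    intro χ hχ
    obtain ⟨θ, hθ, hθS⟩ := CharApp.exists_invariant_below G S L' hnorm hL'G hL'S
      (hcop.coprime_dvd_left (Subgroup.index_dvd_card _))
      (Or.inr inferInstance) χ ((GlauberChar.isFixed_iff G S hnorm _).1 hχ)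
    refine ⟨fun x => (θ : L' → ℂ) (eL x), Char.IsIrrCharacter.comp_equiv θ.2 eL,
      fun s x => hθS s s.2 (eL x) _ rfl, ?_⟩
    exact fun h0 => hθ ((Char.classInner_comp_equiv eL (fun n : L' => (χ : G → ℂ) ⟨n, hL'G n.2⟩)
      (θ : L' → ℂ)).symm.trans h0)
  have belowH : ∀ ψ : IrrCharacter H,
      (∀ s ∈ S, ∀ g g' : H, (g' : Γ) = s * g * s⁻¹ → (ψ : H → ℂ) g' = (ψ : H → ℂ) g) →
      ∃ φ : L'.subgroupOf G → ℂ,
      IsIrrCharacter (L'.subgroupOf G) φ ∧ IsFixed (OddSection.resAct act _ P.stableL) φ ∧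
      classInner (fun l : L'.subgroupOf G => (toH ψ : HG → ℂ) ⟨(l : G), P.leH l.2⟩) φ ≠ 0 := by
    intro ψ hψ
    obtain ⟨θ, hθ, hθS⟩ := CharApp.exists_invariant_below H S L' hnormH hL'H hL'S
      ((hcop.coprime_dvd_left (Subgroup.card_dvd_of_le hHG)).coprime_dvd_left (Subgroup.index_dvd_card _))
      (Or.inr inferInstance) ψ hψ
    refine ⟨fun x => (θ : L' → ℂ) (eL x), Char.IsIrrCharacter.comp_equiv θ.2 eL,
      fun s x => hθS s s.2 (eL x) _ rfl, ?_⟩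
    exact fun h0 => hθ ((Char.classInner_comp_equiv eL (fun n : L' => (ψ : H → ℂ) ⟨n, hL'H n.2⟩)
      (θ : L' → ℂ)).symm.trans h0)
  refine ⟨fun χ hχ => ?_, fun χ χ' hχ hχ' ψ hψ m m' hm hm1 hm' hm1' => ?_, fun ψ hψ => ?_⟩
  · obtain ⟨φ, hφ, hφS, hover⟩ := belowG χ (hFG χ hχ)
    obtain ⟨η, hηS, hηodd, huniq⟩ := (P.correspondence hφ hφS).1 χ hover (hFG χ hχ)
    have hη : toH (ofH η) = η := Subtype.ext (funext fun x => congrArg (η : HG → ℂ) (eH.symm_apply_apply x))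
    refine ⟨ofH η, ⟨fun s hs g g' hg => ?_, (hOdd χ (ofH η)).1 (by rw [hη]; exact hηodd)⟩,
      fun ψ ⟨hψ, hψodd⟩ => ?_⟩
    · have := hηS ⟨s, hs⟩ (eH.symm g)
      show (η : HG → ℂ) (eH.symm g') = (η : HG → ℂ) (eH.symm g)
      rw [← this]
      exact congrArg (η : HG → ℂ) (Subtype.ext (Subtype.ext hg))
    · have := huniq (toH ψ) (hFH ψ hψ) ((hOdd χ ψ).2 hψodd)
      refine Subtype.ext (funext fun x => ?_)
      show _ = (η : HG → ℂ) (eH.symm x)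
      rw [← this]
      exact congrArg (ψ : H → ℂ) (eH.apply_symm_apply x).symm
  · obtain ⟨φ, hφ, hφS, hover⟩ := belowH ψ hψ
    have ho : ∀ χ : IrrCharacter G, OddSection.OddMult (χ : G → ℂ) (toH ψ : HG → ℂ) →
        classInner (fun l : L'.subgroupOf G => (χ : G → ℂ) l) φ ≠ 0 := fun χ h =>
      CharApp.over_trans (Subgroup.inclusion P.leH)
        (Char.IsCharacter.restrict (Char.IsIrrCharacter.isCharacter χ.2) HG) (toH ψ).2 hφ h.ne_zero hover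
    have h1 := (hOdd χ ψ).2 ⟨m, hm, hm1⟩
    have h2 := (hOdd χ' ψ).2 ⟨m', hm', hm1'⟩
    exact (P.correspondence hφ hφS).2.1 χ χ' (ho χ h1) (hFG χ hχ) (hFG χ' hχ') (toH ψ) hover (hFH ψ hψ)
      (ho χ' h2) h1 h2
  · obtain ⟨φ, hφ, hφS, hover⟩ := belowH ψ hψ
    obtain ⟨χ, hχS, hχodd⟩ := (P.correspondence hφ hφS).2.2 (toH ψ) hover (hFH ψ hψ)
    exact ⟨χ, (GlauberChar.isFixed_iff G S hnorm _).1 hχS, (hOdd χ ψ).1 hχodd⟩

end Cfsg.Agent.S4453
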