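import Cfsg.Statements.S4455
import Cfsg.Agent.S0867
import Cfsg.Agent.S0887
import Cfsg.Agent.Lib.CharApp.DegreeSets
import Cfsg.Agent.Lib.GlauberChar.Basic
import Cfsg.Agent.Lib.Transfer.Residual
import Cfsg.Agent.EqLemmas

set_option autoImplicit false
open Cfsg

namespace Cfsg.Agent.S4455

/-- Fix a prime p and a finite group G. Let s be the sum of χ(1)² over the irreducible characters χ of G whose degree is not divisible by p and whose determinantal order o(χ) is not divisible by p. Then the order of O^p(G), the subgroup generated by the elements of order prime to p, is congruent to s modulo p. -/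
theorem result {G : Type*} [Group G] [Finite G] (p : ℕ) (hp : p.Prime) : (Nat.card (Cfsg.pResidual p G) : ℤ) ≡ (∑ᶠ χ ∈ {χ : Cfsg.IrrCharacter G | ¬ p ∣ Cfsg.charDegree (χ : G → ℂ) ∧ ¬ p ∣ Cfsg.detOrder (χ : G → ℂ)}, (Cfsg.charDegree (χ : G → ℂ) : ℤ) ^ 2) [ZMOD p] := by
  classical
  haveI := Fact.mk hp
  haveI : Fintype G := Fintype.ofFinite G
  obtain ⟨K, hK⟩ : ∃ K, K = pResidual p G := ⟨_, rfl⟩
  haveI hKn : K.Normal := hK ▸ Cfsg.Agent.Transfer.pResidual_normal
  haveI : Fintype K := Fintype.ofFinite K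
  haveI := Fintype.ofFinite (IrrCharacter K)
  haveI := Fintype.ofFinite (IrrCharacter G)
  obtain ⟨k, hk⟩ : ∃ k, K.index = p ^ k := hK ▸ Cfsg.Agent.Transfer.exists_index_pResidual
  obtain ⟨P⟩ : Nonempty (Sylow p G) := inferInstance
  have hPK : (P : Subgroup G) ⊔ K = ⊤ := hK ▸ Cfsg.Agent.Transfer.sylow_sup_eq_top P
  let φ : (P : Subgroup G) →* MulAut K := (MulAut.conjNormal).comp (P : Subgroup G).subtype
  letI := GlauberChar.charAction φ
  have hfix : ∀ θ : IrrCharacter K, (∀ t : (P : Subgroup G), t • θ = θ) ↔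
      ∀ (x : G) (n : K), (θ : K → ℂ) ⟨x * n * x⁻¹, hKn.conj_mem n n.2 x⟩ = (θ : K → ℂ) n := by
    intro θ
    have hφ : ∀ (t : (P : Subgroup G)) (n : K),
        φ t n = ⟨(t : G) * n * (t : G)⁻¹, hKn.conj_mem n n.2 t⟩ := fun t n =>
      Subtype.ext (MulAut.conjNormal_apply _ _)
    refine ⟨fun h x n => ?_, fun h => (GlauberChar.isFixed_iff_smul φ θ).2 fun t n => by rw [hφ]; exact h t n⟩
    have h' := (GlauberChar.isFixed_iff_smul φ θ).1 h
    have hx : x ∈ (P : Subgroup G) ⊔ K := hPK ▸ Subgroup.mem_top x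
    rw [Subgroup.mem_sup_of_normal_right] at hx
    obtain ⟨t, ht, y, hy, rfl⟩ := hx
    rw [show (⟨t * y * n * (t * y)⁻¹, hKn.conj_mem n n.2 (t * y)⟩ : K) =
      φ ⟨t, ht⟩ (⟨y, hy⟩ * n * (⟨y, hy⟩ : K)⁻¹) from Subtype.ext (by
        rw [hφ]
        show t * y * n * (t * y)⁻¹ = t * (y * n * y⁻¹) * t⁻¹
        group), h']
    exact Char.IsIrrCharacter.isClassFunction θ.2 n ⟨y, hy⟩
  have hdeg : ∀ θ : IrrCharacter K, (θ : K → ℂ) 1 = (charDegree (θ : K → ℂ) : ℂ) := fun θ =>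
    CharApp.DegreeSets.apply_one θ.2
  -- determinantal orders on `K`
  have hdet : ∀ θ : IrrCharacter K, ¬ p ∣ detOrder (θ : K → ℂ) := by
    intro θ hd
    obtain ⟨l, hl⟩ := CharExtend.exists_detChar_eq (Char.IsIrrCharacter.isCharacter θ.2)
    rw [detOrder, hl, CharExtend.orderOf_valHom] at hd
    have hl0 : orderOf l ≠ 0 := by
      refine (IsOfFinOrder.orderOf_pos ?_).ne'
      refine isOfFinOrder_iff_pow_eq_one.2 ⟨Nat.card K, Nat.card_pos, MonoidHom.ext fun g => ?_⟩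
      rw [MonoidHom.pow_apply, ← map_pow, pow_card_eq_one', map_one, MonoidHom.one_apply]
    have hlq : orderOf (l ^ (orderOf l / p)) = p := orderOf_pow_orderOf_div hl0 hd
    obtain ⟨l', hl'⟩ : ∃ l', l' = l ^ (orderOf l / p) := ⟨_, rfl⟩
    rw [← hl'] at hlq
    have hpg : IsPGroup p l'.range := by
      rintro ⟨_, g, rfl⟩
      refine ⟨1, Subtype.ext ?_⟩
      rw [pow_one, SubgroupClass.coe_pow, Subgroup.coe_one, ← MonoidHom.pow_apply,
        ← hlq, pow_orderOf_eq_one, MonoidHom.one_apply]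
    have hker : pResidual p K ≤ l'.rangeRestrict.ker := Cfsg.Agent.Transfer.pResidual_le_ker hpg _
    have htop : pResidual p K = ⊤ := by
      subst hK
      exact Cfsg.Agent.Transfer.pResidual_pResidual
    rw [htop, MonoidHom.ker_rangeRestrict] at hker
    have : l' = 1 := MonoidHom.ext fun g => by
      rw [MonoidHom.one_apply]; exact MonoidHom.mem_ker.1 (hker (Subgroup.mem_top g))
    rw [this, orderOf_one] at hlq
    exact hp.ne_one hlq.symm
  obtain ⟨B, hB⟩ : ∃ B : Finset (IrrCharacter K), B = Finset.univ.filter fun θ : IrrCharacter K =>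
      (∀ t : (P : Subgroup G), t • θ = θ) ∧ ¬ p ∣ charDegree (θ : K → ℂ) := ⟨_, rfl⟩
  obtain ⟨A, hA⟩ : ∃ A : Finset (IrrCharacter G), A = Finset.univ.filter fun χ : IrrCharacter G =>
      ¬ p ∣ charDegree (χ : G → ℂ) ∧ ¬ p ∣ detOrder (χ : G → ℂ) := ⟨_, rfl⟩
  -- `|K|` modulo `p`
  have h1 : (p : ℤ) ∣ (Nat.card K : ℤ) - ∑ θ ∈ B, (charDegree (θ : K → ℂ) : ℤ) ^ 2 := by
    refine GlauberChar.int_dvd_of_cong hp.ne_zero ?_
    have hs := Char.sum_sq_degrees (G := K)
    have hc := GlauberChar.cong_sum_fixed (p := p) P.2 (fun θ : IrrCharacter K => (θ : K → ℂ) 1 ^ 2)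
      (fun θ => by rw [hdeg]; exact (GlauberChar.isIntegral_natCast' _).pow 2)
      (fun t θ => by
        show (θ : K → ℂ) (φ t⁻¹ 1) ^ 2 = _
        rw [map_one (φ t⁻¹)])
    rw [hs] at hc
    push_cast
    refine hc.trans ?_
    rw [GlauberChar.Cong, hB,
      ← Finset.sum_filter_add_sum_filter_not (Finset.univ.filter fun θ : IrrCharacter K =>
        ∀ t : (P : Subgroup G), t • θ = θ) (fun θ => ¬ p ∣ charDegree (θ : K → ℂ)),
      Finset.filter_filter, Finset.sum_congr rfl (g := fun θ : IrrCharacter K =>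
        (charDegree (θ : K → ℂ) : ℂ) ^ 2) (fun θ _ => by rw [hdeg]), add_sub_cancel_left,
      Finset.sum_div]
    refine IsIntegral.sum _ fun θ hθ => ?_
    rw [Finset.mem_filter, not_not] at hθ
    obtain ⟨c, hc'⟩ := hθ.2
    rw [hdeg, hc', Nat.cast_mul, mul_pow, pow_two (p : ℂ), mul_assoc, mul_div_cancel_left₀ _
      (Nat.cast_ne_zero.2 hp.ne_zero)]
    exact (GlauberChar.isIntegral_natCast' _).mul ((GlauberChar.isIntegral_natCast' _).pow 2)
  -- restriction
  have hres : ∀ χ ∈ A, ∃ θ : IrrCharacter K, θ ∈ B ∧ (∀ n : K, (χ : G → ℂ) n = (θ : K → ℂ) n) ∧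
      charDegree (θ : K → ℂ) = charDegree (χ : G → ℂ) := by
    intro χ hχ
    rw [hA, Finset.mem_filter] at hχ
    have hχ1 := CharApp.DegreeSets.apply_one χ.2
    have hc := Char.IsCharacter.restrict (Char.IsIrrCharacter.isCharacter χ.2) K
    obtain ⟨θ, hθ⟩ := CharApp.exists_constituent hc (by
      rw [show ((1 : K) : G) = 1 from rfl]
      exact Char.IsIrrCharacter.apply_one_ne_zero χ.2)
    obtain ⟨hdvd, hdiv⟩ := S0887.result K (χ : G → ℂ) χ.2 (θ : K → ℂ) θ.2 hθ _ _ hχ1 (hdeg θ)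
    have hq : charDegree (χ : G → ℂ) / charDegree (θ : K → ℂ) = 1 := by
      rw [hk] at hdiv
      obtain ⟨i, -, hi⟩ := (Nat.dvd_prime_pow hp).1 hdiv
      rcases i with _ | i
      · exact hi
      · exact absurd (((dvd_pow_self p (Nat.succ_ne_zero i)).trans (dvd_of_eq hi.symm)).trans
          (Nat.div_dvd_of_dvd hdvd)) hχ.2.1
    have he : charDegree (χ : G → ℂ) = charDegree (θ : K → ℂ) := by
      have := Nat.div_mul_cancel hdvd
      rw [hq, one_mul] at this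
      exact this.symm
    have heq : (fun n : K => (χ : G → ℂ) n) = (θ : K → ℂ) := CharApp.eq_of_constituent_of_degree hc θ.2 hθ
      (a := charDegree (χ : G → ℂ)) hχ1 (he ▸ hdeg θ)
    refine ⟨θ, ?_, fun n => congrFun heq n, he.symm⟩
    rw [hB, Finset.mem_filter]
    refine ⟨Finset.mem_univ _, (hfix θ).2 fun x n => ?_, he ▸ hχ.2.1⟩
    rw [← congrFun heq n, ← congrFun heq ⟨x * n * x⁻¹, hKn.conj_mem n n.2 x⟩]
    exact Char.IsIrrCharacter.isClassFunction χ.2 (n : G) x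
  choose r hrB hr hrd using hres
  have hext : ∀ θ ∈ B, ∃ χ : IrrCharacter G, χ ∈ A ∧ (∀ n : K, (χ : G → ℂ) n = (θ : K → ℂ) n) ∧
      ∀ χ' ∈ A, (∀ n : K, (χ' : G → ℂ) n = (θ : K → ℂ) n) → χ' = χ := by
    intro θ hθ
    rw [hB, Finset.mem_filter] at hθ
    have hco : ∀ d, ¬ p ∣ d → K.index.Coprime d := fun d hd => by
      rw [hk]; exact (hp.coprime_iff_not_dvd.2 hd).pow_left k
    obtain ⟨χ, ⟨hχ, hχθ, hχd⟩, huniq⟩ := S0867.result K (θ : K → ℂ) θ.2 ((hfix θ).1 hθ.2.1) _ (hdeg θ)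
      (Nat.Coprime.mul_right (hco _ (hdet θ)) (hco _ hθ.2.2))
    refine ⟨⟨χ, hχ⟩, ?_, hχθ, fun χ' hχ' h => Subtype.ext ?_⟩
    · rw [hA, Finset.mem_filter]
      refine ⟨Finset.mem_univ _, ?_, hχd ▸ hdet θ⟩
      have : charDegree χ = charDegree (θ : K → ℂ) := by
        unfold charDegree
        rw [← hχθ 1]
        rfl
      exact this ▸ hθ.2.2
    · rw [hA, Finset.mem_filter] at hχ'
      exact huniq _ χ'.2 h (hco _ hχ'.2.2)
  choose e heA he heu using hext
  have h2 : ∑ χ ∈ A, (charDegree (χ : G → ℂ) : ℤ) ^ 2 = ∑ θ ∈ B, (charDegree (θ : K → ℂ) : ℤ) ^ 2 := by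
    refine Finset.sum_bij r hrB (fun a ha b hb hab => ?_) (fun θ hθ => ⟨e θ hθ, heA θ hθ, ?_⟩)
      (fun χ hχ => by rw [hrd])
    · have h := heu _ (hrB a ha)
      rw [h a ha (hr a ha), h b hb (fun n => (hr b hb n).trans (by rw [hab]))]
    · exact Subtype.ext (funext fun n => (hr _ _ n).symm.trans (he θ hθ n))
  rw [finsum_mem_eq_finite_toFinset_sum _ (Set.toFinite _),
    Finset.sum_congr (s₂ := A) (by ext χ; simp [hA]) (fun _ _ => rfl), h2, ← hK]
  exact (Int.modEq_iff_dvd.2 h1).symm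

end Cfsg.Agent.S4455
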