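import Cfsg.Statements.S4460
import Cfsg.Agent.Lib.CharApp.ThreeDegrees.DerivedLength
import Cfsg.Agent.EqLemmas

set_option autoImplicit false
open Cfsg

namespace Cfsg.Agent.S4460

/-- A finite group with exactly three distinct irreducible character degrees is solvable of derived length at most 3: its third derived subgroup is trivial. -/
theorem result {G : Type*} [Group G] [Finite G] (hcd : Nat.card {n : ℕ // ∃ χ : Cfsg.IrrCharacter G, Cfsg.charDegree (χ : G → ℂ) = n} = 3) : derivedSeries G 3 = ⊥ := by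
  classical
  rw [show Nat.card {n : ℕ // ∃ χ : Cfsg.IrrCharacter G, Cfsg.charDegree (χ : G → ℂ) = n} =
    ({n : ℕ | ∃ χ : Cfsg.IrrCharacter G, Cfsg.charDegree (χ : G → ℂ) = n}).ncard from
      Nat.card_coe_set_eq _] at hcd
  obtain ⟨x, y, z, -, -, -, hset⟩ := Set.ncard_eq_three.1 hcd
  have hmem : ∀ χ : Cfsg.IrrCharacter G, Cfsg.charDegree (χ : G → ℂ) = x ∨
      Cfsg.charDegree (χ : G → ℂ) = y ∨ Cfsg.charDegree (χ : G → ℂ) = z := fun χ => by
    simpa using (Set.ext_iff.1 hset (Cfsg.charDegree (χ : G → ℂ))).1 ⟨χ, rfl⟩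
  let one : Cfsg.IrrCharacter G := ⟨1, Cfsg.Agent.Char.isIrrCharacter_one⟩
  have h1 : Cfsg.charDegree (one : G → ℂ) = 1 := by simp [one, Cfsg.charDegree]
  rcases hmem one with h | h | h <;> rw [h1] at h <;> subst h
  · exact Cfsg.Agent.CharApp.ThreeDegrees.derivedSeries_three (a := y) (b := z) hmem
  · exact Cfsg.Agent.CharApp.ThreeDegrees.derivedSeries_three (a := x) (b := z) fun χ => by
      rcases hmem χ with e | e | e <;> simp [e]
  · exact Cfsg.Agent.CharApp.ThreeDegrees.derivedSeries_three (a := x) (b := y) fun χ => by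
      rcases hmem χ with e | e | e <;> simp [e]


end Cfsg.Agent.S4460
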