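import Cfsg.Statements.S4462
import Cfsg.Agent.Lib.CharApp.Broline
import Cfsg.Agent.Lib.Cores.Fitting
import Cfsg.Agent.EqLemmas

set_option autoImplicit false
open Cfsg

namespace Cfsg.Agent.S4462

universe u

open Cfsg.Agent in
theorem series (n : ℕ) : ∀ (G : Type u) [Group G] [Finite G], Group.IsSolvable G →
    Nat.card {d : ℕ // ∃ χ : IrrCharacter G, charDegree (χ : G → ℂ) = d} ≤ n →
    ∃ N : Fin (n + 1) → Subgroup G, N 0 = ⊥ ∧ N (Fin.last n) = ⊤ ∧ Monotone N ∧ (∀ i, (N i).Normal) ∧
      ∀ i : Fin n, ∀ h : (N i.castSucc).subgroupOf (N i.succ) |>.Normal,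
        Group.IsNilpotent (↥(N i.succ) ⧸ (N i.castSucc).subgroupOf (N i.succ)) := by
  classical
  induction n with
  | zero =>
    intro G _ _ _ h
    exfalso
    haveI : Finite {d : ℕ // ∃ χ : IrrCharacter G, charDegree (χ : G → ℂ) = d} :=
      Finite.of_surjective (fun χ : IrrCharacter G =>
        (⟨charDegree (χ : G → ℂ), χ, rfl⟩ : {d : ℕ // ∃ χ : IrrCharacter G, charDegree (χ : G → ℂ) = d}))
        (by rintro ⟨d, χ, rfl⟩; exact ⟨χ, rfl⟩)
    haveI : Nonempty {d : ℕ // ∃ χ : IrrCharacter G, charDegree (χ : G → ℂ) = d} :=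
      ⟨⟨_, ⟨1, Char.isIrrCharacter_one⟩, rfl⟩⟩
    have := Nat.card_pos (α := {d : ℕ // ∃ χ : IrrCharacter G, charDegree (χ : G → ℂ) = d})
    omega
  | succ n ih =>
    intro G _ _ hsolv hcd
    haveI : Fintype G := Fintype.ofFinite G
    obtain ⟨F, hF⟩ : ∃ F, F = fittingSubgroup G := ⟨_, rfl⟩
    haveI : F.Normal := hF ▸ Cores.fittingSubgroup_normal G
    have hFnil : Group.IsNilpotent F := hF ▸ Cores.fittingSubgroup_isNilpotent
    by_cases hFtop : F = ⊤
    · refine ⟨fun i => if i = 0 then ⊥ else ⊤, if_pos rfl, ?_, fun i j hij => ?_, fun i => ?_, fun i h => ?_⟩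
      · exact if_neg (by simp [Fin.ext_iff])
      · show (if i = 0 then ⊥ else ⊤ : Subgroup G) ≤ if j = 0 then ⊥ else ⊤
        by_cases hi : i = 0
        · rw [if_pos hi]; exact bot_le
        · have hj : j ≠ 0 := fun h => hi (le_antisymm (h ▸ hij) (Fin.zero_le i))
          rw [if_neg hi, if_neg hj]
      · show (if i = 0 then ⊥ else ⊤ : Subgroup G).Normal
        split_ifs <;> infer_instance
      · haveI : Group.IsNilpotent G := by
          rw [hFtop] at hFnil
          exact Group.isNilpotent_top.1 hFnil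
        infer_instance
    haveI := hsolv
    haveI : Group.IsSolvable (G ⧸ F) := solvable_of_surjective (QuotientGroup.mk'_surjective F)
    obtain ⟨χ, -, hmax⟩ := Finset.exists_max_image
      (@Finset.univ (IrrCharacter G) (Fintype.ofFinite _)) (fun χ => charDegree (χ : G → ℂ))
      ⟨⟨1, Char.isIrrCharacter_one⟩, @Finset.mem_univ _ (Fintype.ofFinite _) _⟩
    have hnot : ∀ ψ : IrrCharacter (G ⧸ F), charDegree (ψ : G ⧸ F → ℂ) ≠ charDegree (χ : G → ℂ) := by
      intro ψ hψ
      have hker : F ≤ Codegree.kerSub (Codegree.inflate F ψ) := fun x hx => by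
        show (Codegree.inflate F ψ : G → ℂ) x = (Codegree.inflate F ψ : G → ℂ) 1
        rw [Codegree.inflate_apply, Codegree.inflate_apply, (QuotientGroup.eq_one_iff x).2 hx]
        rfl
      have hcond : ¬ Codegree.kerSub (Codegree.inflate F ψ) ≤ fittingSubgroup G ∨
          (Codegree.kerSub (Codegree.inflate F ψ) = fittingSubgroup G ∧
            Group.IsSolvable (G ⧸ Codegree.kerSub (Codegree.inflate F ψ)) ∧
            Codegree.kerSub (Codegree.inflate F ψ) ≠ ⊤) := by
        by_cases hle : Codegree.kerSub (Codegree.inflate F ψ) ≤ fittingSubgroup G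
        · have he : Codegree.kerSub (Codegree.inflate F ψ) = fittingSubgroup G :=
            le_antisymm hle (hF ▸ hker)
          exact Or.inr ⟨he, solvable_of_surjective (QuotientGroup.mk'_surjective _), fun h => hFtop (hF.trans (he.symm.trans h))⟩
        · exact Or.inl hle
      obtain ⟨ξ, hξ, -⟩ := Broline.broline (Codegree.inflate F ψ) hcond
      have hd : charDegree (Codegree.inflate F ψ : G → ℂ) = charDegree (ψ : G ⧸ F → ℂ) := by
        unfold charDegree
        rw [Codegree.inflate_apply]
        rfl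
      have := hmax ξ (@Finset.mem_univ _ (Fintype.ofFinite _) _)
      omega
    have hlt : Nat.card {d : ℕ // ∃ χ : IrrCharacter (G ⧸ F), charDegree (χ : G ⧸ F → ℂ) = d} <
        Nat.card {d : ℕ // ∃ χ : IrrCharacter G, charDegree (χ : G → ℂ) = d} := by
      have hfin : {d : ℕ | ∃ χ : IrrCharacter G, charDegree (χ : G → ℂ) = d}.Finite :=
        Set.finite_range fun χ : IrrCharacter G => charDegree (χ : G → ℂ)
      show Nat.card {d : ℕ | ∃ χ : IrrCharacter (G ⧸ F), charDegree (χ : G ⧸ F → ℂ) = d} <
        Nat.card {d : ℕ | ∃ χ : IrrCharacter G, charDegree (χ : G → ℂ) = d}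
      rw [Nat.card_coe_set_eq, Nat.card_coe_set_eq]
      refine Set.ncard_lt_ncard ⟨?_, fun h => ?_⟩ hfin
      · rintro d ⟨ψ, rfl⟩
        refine ⟨Codegree.inflate F ψ, ?_⟩
        unfold charDegree
        rw [Codegree.inflate_apply]
        rfl
      · obtain ⟨ψ, hψ⟩ := h ⟨χ, rfl⟩
        exact hnot ψ hψ
    obtain ⟨M, hM0, hMn, hMmono, hMnor, hMnil⟩ := ih (G ⧸ F) inferInstance (by omega)
    refine ⟨Fin.cons ⊥ fun i => (M i).comap (QuotientGroup.mk' F), Fin.cons_zero _ _, ?_,
      fun i j hij => ?_, fun i => ?_, fun i h => ?_⟩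
    · rw [← Fin.succ_last, Fin.cons_succ, hMn, Subgroup.comap_top]
    · induction i using Fin.cases with
      | zero => rw [Fin.cons_zero]; exact bot_le
      | succ i =>
        induction j using Fin.cases with
        | zero => exact absurd hij (not_le.2 (Fin.succ_pos i))
        | succ j =>
          rw [Fin.cons_succ, Fin.cons_succ]
          exact Subgroup.comap_mono (hMmono (Fin.succ_le_succ_iff.1 hij))
    · induction i using Fin.cases with
      | zero => rw [Fin.cons_zero]; infer_instance
      | succ i => rw [Fin.cons_succ]; exact (hMnor i).comap _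
    · revert h
      induction i using Fin.cases with
      | zero =>
        intro h
        have e : ((Fin.cons ⊥ fun i => (M i).comap (QuotientGroup.mk' F)) : Fin (n + 1 + 1) → Subgroup G)
            (0 : Fin (n + 1)).succ = F := by
          rw [Fin.cons_succ, hM0, MonoidHom.comap_bot, QuotientGroup.ker_mk']
        haveI : Group.IsNilpotent ↥(((Fin.cons ⊥ fun i => (M i).comap (QuotientGroup.mk' F)) :
            Fin (n + 1 + 1) → Subgroup G) (0 : Fin (n + 1)).succ) := by rw [e]; exact hFnil
        exact Group.nilpotent_of_surjective (QuotientGroup.mk' _) (QuotientGroup.mk'_surjective _)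
      | succ i =>
        rw [Fin.castSucc_succ, Fin.cons_succ, Fin.cons_succ]
        intro h
        haveI hn : ((M i.castSucc).subgroupOf (M i.succ)).Normal := (hMnor i.castSucc).subgroupOf _
        haveI := hMnil i hn
        let g : ↥((M i.succ).comap (QuotientGroup.mk' F)) →* ↥(M i.succ) :=
          (QuotientGroup.mk' F).subgroupComap (M i.succ)
        refine Subgroup.isNilpotent_of_ker_le_center
          (QuotientGroup.map _ ((M i.castSucc).subgroupOf (M i.succ)) g fun x hx => hx) ?_
        intro q hq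
        obtain ⟨x, rfl⟩ := QuotientGroup.mk_surjective q
        rw [MonoidHom.mem_ker] at hq
        rw [(QuotientGroup.eq_one_iff x).2 (show x ∈ _ from (QuotientGroup.eq_one_iff (g x)).1 hq)]
        exact one_mem _

/-- Let G be a finite solvable group with exactly n distinct irreducible character degrees. Then G has normal subgroups 1 = N₀ ≤ N₁ ≤ ⋯ ≤ Nₙ = G with every quotient N_{i+1}/N_i nilpotent (the nilpotent length of G is at most n). -/
theorem result {G : Type*} [Group G] [Finite G] (hsolv : Group.IsSolvable G) (n : ℕ) (hcd : Nat.card {d : ℕ // ∃ χ : Cfsg.IrrCharacter G, Cfsg.charDegree (χ : G → ℂ) = d} = n) : ∃ N : Fin (n + 1) → Subgroup G, N 0 = ⊥ ∧ N (Fin.last n) = ⊤ ∧ Monotone N ∧ (∀ i, (N i).Normal) ∧ ∀ i : Fin n, ∀ h : (N i.castSucc).subgroupOf (N i.succ) |>.Normal, Group.IsNilpotent (↥(N i.succ) ⧸ (N i.castSucc).subgroupOf (N i.succ)) := by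
  exact series n G hsolv hcd.le

end Cfsg.Agent.S4462
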