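import Cfsg.Statements.S4464
import Cfsg.Agent.Lib.Char.Perm
import Cfsg.Agent.Lib.Char.Linear
import Cfsg.Agent.Lib.CharApp.CoprimeFixed
import Cfsg.Agent.EqLemmas

set_option autoImplicit false
open Cfsg

namespace Cfsg.Agent.S4464

/-- Let p be a prime and G a finite group all of whose irreducible character degrees are less than p. Then G has a normal abelian Sylow p-subgroup. -/
theorem result {G : Type*} [Group G] [Finite G] (p : ℕ) (hp : p.Prime) (hb : ∀ χ : Cfsg.IrrCharacter G, Cfsg.charDegree (χ : G → ℂ) < p) : ∃ P : Subgroup G, P.Normal ∧ (∀ x ∈ P, ∀ y ∈ P, x * y = y * x) ∧ IsPGroup p P ∧ ¬ p ∣ P.index := by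
  classical
  haveI := Fact.mk hp
  haveI : Fintype G := Fintype.ofFinite G
  haveI := Fintype.ofFinite (IrrCharacter G)
  obtain ⟨P⟩ : Nonempty (Sylow p G) := inferInstance
  haveI : Fintype (P : Subgroup G) := Fintype.ofFinite _
  choose d hd0 hd using fun χ : IrrCharacter G => Char.IsIrrCharacter.exists_degree χ.2
  have hdp : ∀ χ : IrrCharacter G, d χ < p := fun χ => by
    have h := hb χ
    unfold charDegree at h
    rw [hd χ] at h
    simpa using h
  refine ⟨(P : Subgroup G), ?_, ?_, P.2, P.not_dvd_index⟩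
  swap
  · -- all characters of `P` are linear
    have hlin : ∀ θ : IrrCharacter (P : Subgroup G), (θ : ↥(P : Subgroup G) → ℂ) 1 = 1 := by
      intro θ
      obtain ⟨χ, hχ, h⟩ := CharApp.exists_over (P : Subgroup G) θ.2
      obtain ⟨b, hb0, hb1, hbd⟩ := Char.IsIrrCharacter.degree_dvd_card θ.2
      obtain ⟨m, hm⟩ := Char.IsCharacter.classInner_nat
        (Char.IsCharacter.restrict (Char.IsIrrCharacter.isCharacter hχ) (P : Subgroup G))
        (Char.IsIrrCharacter.isCharacter θ.2)
      have hm0 : m ≠ 0 := fun h0 => h (by rw [h0, Nat.cast_zero] at hm; exact hm)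
      have hle := CharApp.classInner_nat_le_degree
        (Char.IsCharacter.restrict (Char.IsIrrCharacter.isCharacter hχ) (P : Subgroup G)) θ.2 hm
        (show χ ((1 : (P : Subgroup G)) : G) = (d ⟨χ, hχ⟩ : ℂ) from hd ⟨χ, hχ⟩) hb1
      have hbp : b < p := lt_of_le_of_lt ((Nat.le_mul_of_pos_left b (Nat.pos_of_ne_zero hm0)).trans hle) (hdp _)
      obtain ⟨k, hk⟩ := IsPGroup.iff_card.1 P.2
      rw [hk] at hbd
      obtain ⟨i, -, hi⟩ := (Nat.dvd_prime_pow hp).1 hbd
      rcases i with _ | i
      · rw [hb1, hi, pow_zero, Nat.cast_one]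
      · exfalso
        have : p ≤ p ^ (i + 1) := Nat.le_self_pow (Nat.succ_ne_zero i) p
        omega
    intro x hx y hy
    exact congrArg Subtype.val (Char.comm_of_forall_degree_one hlin ⟨x, hx⟩ ⟨y, hy⟩)
  -- normality: count orbits of `P` on the conjugates of `P`
  by_contra hnn
  obtain ⟨N, hN⟩ : ∃ N, N = Subgroup.normalizer ((P : Subgroup G) : Set G) := ⟨_, rfl⟩
  haveI : Fintype N := Fintype.ofFinite _
  have hPN : (P : Subgroup G) ≤ N := hN ▸ Subgroup.le_normalizer
  obtain ⟨π, hπ⟩ : ∃ π : G → ℂ, π = indFun N (1 : N → ℂ) := ⟨_, rfl⟩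
  have hπc : IsCharacter G π := hπ ▸ Char.IsCharacter.indFun N Char.isCharacter_one
  -- constituents have fixed vectors of `P`
  obtain ⟨a, ha, hain⟩ := Char.IsCharacter.decompose hπc
  choose f hf using fun χ : IrrCharacter G => Char.IsCharacter.classInner_nat
    (Char.IsCharacter.restrict (Char.IsIrrCharacter.isCharacter χ.2) (P : Subgroup G))
    (Char.isCharacter_one (G := (P : Subgroup G)))
  have hf1 : ∀ χ : IrrCharacter G, a χ ≠ 0 → 1 ≤ f χ := by
    intro χ haχ
    refine Nat.one_le_iff_ne_zero.2 fun h0 => ?_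
    have h1 : classInner (fun x : N => (χ : G → ℂ) x) (1 : N → ℂ) ≠ 0 := by
      rw [← Char.frobenius_reciprocity' N _ (Char.IsIrrCharacter.isClassFunction χ.2), ← hπ,
        CharApp.classInner_comm_of_nat (hain χ)]
      exact Nat.cast_ne_zero.2 haχ
    have h2 := CharApp.over_trans (Subgroup.inclusion hPN)
      (Char.IsCharacter.restrict (Char.IsIrrCharacter.isCharacter χ.2) N) Char.isIrrCharacter_one
      Char.isIrrCharacter_one h1
      (by rw [show (fun x : (P : Subgroup G) => (1 : N → ℂ) (Subgroup.inclusion hPN x)) = 1 from rfl,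
            Char.classInner_irr_self Char.isIrrCharacter_one]
          exact one_ne_zero)
    refine h2 ?_
    rw [show (fun x : (P : Subgroup G) => (χ : G → ℂ) ((Subgroup.inclusion hPN x : N) : G)) =
      fun x : (P : Subgroup G) => (χ : G → ℂ) x from rfl, hf χ, h0, Nat.cast_zero]
  -- orbits
  let X := G ⧸ N
  haveI := Fintype.ofFinite (MulAction.orbitRel.Quotient (P : Subgroup G) X)
  have hπ1 : π 1 = (Nat.card X : ℂ) := by
    rw [hπ, Char.indFun_one_eq_fixedPoints]
    congr 1
    exact Nat.card_congr (Equiv.subtypeUnivEquiv fun q => by simp)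
  have hπP : classInner (fun x : (P : Subgroup G) => π x) 1 =
      (Nat.card (MulAction.orbitRel.Quotient (P : Subgroup G) X) : ℂ) := by
    rw [← Char.classInner_fixedPoints_one (G := (P : Subgroup G)) X]
    congr 1
    funext x
    rw [hπ, Char.indFun_one_eq_fixedPoints]
    rfl
  have hcount : Nat.card (MulAction.orbitRel.Quotient (P : Subgroup G) X) * p + 1 ≤ Nat.card X + p := by
    obtain ⟨w, hw⟩ : ∃ w : MulAction.orbitRel.Quotient (P : Subgroup G) X,
        w = Quotient.mk'' ((1 : G) : X) := ⟨_, rfl⟩
    rw [Nat.card_congr (MulAction.selfEquivSigmaOrbits (P : Subgroup G) X), Nat.card_sigma,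
      ← Finset.add_sum_erase _ _ (Finset.mem_univ w)]
    have hsum : (Finset.univ.erase w).card * p ≤
        ∑ o ∈ Finset.univ.erase w, Nat.card (MulAction.orbit (P : Subgroup G) o.out) := by
      refine le_trans (le_of_eq (nsmul_eq_mul _ _).symm) (Finset.card_nsmul_le_sum _ _ _ fun o ho => ?_)
      obtain ⟨k, hk⟩ := P.2.card_orbit o.out
      rcases k with _ | k
      · exfalso
        refine Finset.ne_of_mem_erase ho ?_
        rw [pow_zero, Nat.card_eq_one_iff_unique] at hk
        have hfix : ∀ t : (P : Subgroup G), t • o.out = o.out := fun t =>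
          congrArg Subtype.val (hk.1.elim ⟨t • o.out, MulAction.mem_orbit _ _⟩
            ⟨o.out, MulAction.mem_orbit_self _⟩)
        obtain ⟨g, hg⟩ := QuotientGroup.mk_surjective o.out
        have hsub : (MulAut.conj g⁻¹ • P : Sylow p G) = P := by
          refine Sylow.ext_iff.2 ?_
          have hle : ((MulAut.conj g⁻¹ • P : Sylow p G) : Subgroup G) ≤ N := by
            rintro _ ⟨t, ht, rfl⟩
            have h := hfix ⟨t, ht⟩
            rw [← hg] at h
            change ((t * g : G) : X) = (g : X) at h
            have h' := QuotientGroup.eq.1 h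
            have : g⁻¹ * t⁻¹ * g ∈ N := by simpa [mul_assoc] using h'
            have h'' := N.inv_mem this
            simpa [mul_assoc] using h''
          have := ((MulAut.conj g⁻¹ • P : Sylow p G).subtype hle)
          haveI hu : Subsingleton (Sylow p N) := by
            haveI : ((P.subtype hPN : Sylow p N) : Subgroup N).Normal := by
              rw [Sylow.coe_subtype, hN]
              exact Subgroup.normal_in_normalizer
            haveI := Sylow.unique_of_normal (P.subtype hPN : Sylow p N) inferInstance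
            infer_instance
          have he := congrArg (fun Q : Sylow p N => (Q : Subgroup N).map N.subtype)
            (hu.elim ((MulAut.conj g⁻¹ • P : Sylow p G).subtype hle) (P.subtype hPN))
          simp only [Sylow.coe_subtype, Subgroup.subgroupOf_map_subtype, inf_eq_left.2 hle,
            inf_eq_left.2 hPN] at he
          exact he
        have hgN : g⁻¹ ∈ N := by
          rw [hN]
          exact Sylow.smul_eq_iff_mem_normalizer.1 hsub
        rw [hw, ← Quotient.out_eq o, ← hg, show ((g : G) : X) = ((1 : G) : X) from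
          QuotientGroup.eq.2 (by simpa using hgN)]
      · rw [hk]
        exact Nat.le_self_pow (Nat.succ_ne_zero k) p
    have hone : 1 ≤ Nat.card (MulAction.orbit (P : Subgroup G) w.out) := by
      haveI : Nonempty (MulAction.orbit (P : Subgroup G) w.out) := ⟨⟨_, MulAction.mem_orbit_self _⟩⟩
      exact Nat.card_pos
    rw [Finset.card_erase_of_mem (Finset.mem_univ w), Finset.card_univ, ← Nat.card_eq_fintype_card,
      Nat.sub_mul, one_mul] at hsum
    omega
  -- evaluate
  have h1 : Nat.card X = ∑ χ, a χ * d χ := by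
    have h := congrFun ha 1
    simp only [Finset.sum_apply, Pi.smul_apply, smul_eq_mul, hπ1, hd] at h
    exact_mod_cast h
  have h2 : Nat.card (MulAction.orbitRel.Quotient (P : Subgroup G) X) = ∑ χ, a χ * f χ := by
    have h : classInner (fun x : (P : Subgroup G) => π x) 1 = ((∑ χ, a χ * f χ : ℕ) : ℂ) := by
      rw [show (fun x : (P : Subgroup G) => π x) =
        ∑ χ : IrrCharacter G, (a χ : ℂ) • fun x : (P : Subgroup G) => (χ : G → ℂ) x from
        funext fun x => by rw [ha]; simp [Finset.sum_apply], Char.classInner_sum_left]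
      push_cast
      exact Finset.sum_congr rfl fun χ _ => by rw [Char.classInner_smul_left, hf]
    rw [hπP] at h
    exact_mod_cast h
  -- the trivial constituent
  have hone : a ⟨1, Char.isIrrCharacter_one⟩ = 1 := by
    have h := hain ⟨1, Char.isIrrCharacter_one⟩
    rw [hπ, Char.frobenius_reciprocity N _ (fun _ _ => rfl)] at h
    rw [show (fun x : N => ((⟨1, Char.isIrrCharacter_one⟩ : IrrCharacter G) : G → ℂ) x) = 1 from rfl,
      Char.classInner_irr_self Char.isIrrCharacter_one] at h
    exact_mod_cast h.symm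
  obtain ⟨one', hone'⟩ : ∃ o : IrrCharacter G, o = ⟨1, Char.isIrrCharacter_one⟩ := ⟨_, rfl⟩
  rw [← hone'] at hone
  have hd1 : d one' = 1 := by
    have h := hd one'
    subst hone'
    exact_mod_cast (show ((1 : ℕ) : ℂ) = _ from Nat.cast_one.trans h).symm
  have hf11 : f one' = 1 := by
    have h := hf one'
    rw [hone', show (fun x : (P : Subgroup G) => ((⟨1, Char.isIrrCharacter_one⟩ : IrrCharacter G) : G → ℂ) x) = 1
      from rfl, Char.classInner_irr_self Char.isIrrCharacter_one, ← hone'] at h
    exact_mod_cast h.symm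
  rw [← Finset.add_sum_erase _ _ (Finset.mem_univ one'), hone, hd1, one_mul] at h1
  rw [← Finset.add_sum_erase _ _ (Finset.mem_univ one'), hone, hf11, one_mul] at h2
  have hle : ∀ χ ∈ Finset.univ.erase one', a χ * d χ + a χ * f χ ≤ a χ * f χ * p := by
    intro χ _
    rcases Nat.eq_zero_or_pos (a χ) with h | h
    · simp [h]
    · have h3 := hf1 χ h.ne'
      have h4 := hdp χ
      calc a χ * d χ + a χ * f χ = a χ * (d χ + f χ) := by ring
        _ ≤ a χ * (f χ * p) := Nat.mul_le_mul_left _ (by
            obtain ⟨e, he⟩ := Nat.exists_eq_add_of_le h3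
            have h5 : (f χ) * p = p + e * p := by rw [he]; ring
            have h6 : e ≤ e * p := Nat.le_mul_of_pos_right e hp.pos
            omega)
        _ = _ := by ring
  have hsum := Finset.sum_le_sum hle
  rw [Finset.sum_add_distrib, ← Finset.sum_mul] at hsum
  -- at least two points
  have hX2 : 1 < Nat.card X := by
    have h : N ≠ ⊤ := fun h => hnn (Subgroup.normalizer_eq_top_iff.1 (hN ▸ h))
    have h1 : N.index ≠ 1 := fun h' => h (Subgroup.index_eq_one.1 h')
    have h0 : N.index ≠ 0 := Subgroup.index_ne_zero_of_finite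
    show 1 < Nat.card (G ⧸ N)
    rw [← Subgroup.index_eq_card]
    omega
  rw [h2, add_mul, one_mul] at hcount
  rw [h1] at hcount hX2
  obtain ⟨A, hA⟩ : ∃ A, ∑ χ ∈ Finset.univ.erase one', a χ * d χ = A := ⟨_, rfl⟩
  obtain ⟨B, hB⟩ : ∃ B, ∑ χ ∈ Finset.univ.erase one', a χ * f χ = B := ⟨_, rfl⟩
  rw [hA, hB] at hsum
  rw [hA, hB] at hcount
  rw [hA] at hX2
  rcases Nat.eq_zero_or_pos B with h | h
  · rw [h] at hsum
    omega
  · omega

end Cfsg.Agent.S4464
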