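import Cfsg.Statements.S4466
import Cfsg.Agent.Lib.CharApp.DegreeSets
import Cfsg.Agent.Lib.CharApp.Burnside
import Cfsg.Agent.Lib.CyclicDefect.Apply
import Cfsg.Agent.Lib.BlockDefect.RegInner
import Cfsg.Agent.Lib.Blocks.Simple

set_option autoImplicit false
set_option linter.style.haveILetI false
open Cfsg

namespace Cfsg.Agent.S4466

universe u

open Cfsg.Agent

section Simple

variable {G : Type u} [Group G] [Finite G]

/-- A character of degree a prime `p` of a nonabelian simple group forces Sylow subgroups of order `p`. -/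
theorem card_sylow_of_degree [IsSimpleGroup G] (hna : ¬ ∀ a b : G, a * b = b * a)
    {χ : G → ℂ} (hχ : IsIrrCharacter G χ) {p : ℕ} [hp : Fact p.Prime] (hd : χ 1 = (p : ℂ))
    (P : Sylow p G) : Nat.card P = p := by
  classical
  haveI := Fintype.ofFinite G
  obtain ⟨n, ρ, hρ, rfl⟩ := hχ
  haveI := hρ
  rw [Representation.char_one] at hd
  have hn : Module.finrank ℂ (Fin n → ℂ) = p := by exact_mod_cast hd
  have hdvd : p ∣ Nat.card G := hn ▸ Char.degree_dvd_card ρ
  -- only the identity acts as a scalar
  have hscal : ∀ g : G, (∃ c : ℂ, ρ g = c • LinearMap.id) → g = 1 := by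
    intro g hg
    let φ : G →* Module.End ℂ (Fin n → ℂ) := ρ
    rcases φ.toHomUnits.normal_ker.eq_bot_or_eq_top with h | h
    · have hinj : Function.Injective φ := fun a b e =>
        (MonoidHom.ker_eq_bot_iff _).mp h (Units.ext e)
      obtain ⟨c, hc⟩ := hg
      have hgc : g ∈ Subgroup.center G := Subgroup.mem_center_iff.mpr fun x => hinj (by
        rw [map_mul, map_mul]
        show ρ x * ρ g = ρ g * ρ x
        rw [hc]
        apply LinearMap.ext
        intro v
        simp [Module.End.mul_apply])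
      rcases (inferInstance : (Subgroup.center G).Normal).eq_bot_or_eq_top with hZ | hZ
      · rwa [hZ, Subgroup.mem_bot] at hgc
      · exact absurd (fun a b => Subgroup.mem_center_iff.mp
          (hZ ▸ Subgroup.mem_top b : b ∈ Subgroup.center G) a) hna
    · exfalso
      have htriv : ∀ x : G, ρ x = 1 := fun x => by
        have hx : x ∈ φ.toHomUnits.ker := h ▸ Subgroup.mem_top x
        exact congrArg Units.val (MonoidHom.mem_ker.mp hx)
      obtain ⟨v, hv⟩ := @exists_ne _ (CharApp.nontrivial_of_irr ρ) (0 : Fin n → ℂ)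
      rcases CharApp.eq_bot_or_top_of_invariant ρ (Submodule.span ℂ {v}) (fun x w hw => by
        rw [htriv]; exact hw) with hW | hW
      · exact hv (Submodule.span_singleton_eq_bot.mp hW)
      · have : Module.finrank ℂ (Fin n → ℂ) = 1 := by
          rw [← finrank_top ℂ, ← hW, finrank_span_singleton hv]
        exact hp.out.ne_one (hn ▸ this)
  -- central elements of `P` other than the identity are zeros
  have hzero : ∀ z : (P : Subgroup G), z ∈ Subgroup.center (P : Subgroup G) → z ≠ 1 →
      ρ.character (z : G) = 0 := by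
    intro z hz hz1
    have hle : (P : Subgroup G) ≤ Subgroup.centralizer ({(z : G)} : Set G) := fun x hx => by
      rw [Subgroup.mem_centralizer_singleton_iff]
      exact congrArg Subtype.val (Subgroup.mem_center_iff.mp hz ⟨x, hx⟩)
    have hc : ¬ p ∣ (Subgroup.centralizer ({(z : G)} : Set G)).index := fun h =>
      P.not_dvd_index (h.trans (Subgroup.index_dvd_of_le hle))
    rcases CharApp.zero_or_norm_eq_of_coprime ρ (z : G)
      (hn ▸ hp.out.coprime_iff_not_dvd.mpr hc) with h | h
    · exact h
    · exact absurd (Subtype.ext (hscal _ ((Char.norm_character_eq_iff ρ _).mp h))) hz1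
  haveI : Fintype (Subgroup.center (P : Subgroup G)) := Fintype.ofFinite _
  haveI : Nontrivial (P : Subgroup G) := by
    refine Finite.one_lt_card_iff_nontrivial.mp ?_
    exact lt_of_lt_of_le hp.out.one_lt (Nat.le_of_dvd Nat.card_pos (P.dvd_card_of_dvd_card hdvd))
  haveI := P.isPGroup'.center_nontrivial
  obtain ⟨z, hz⟩ := exists_ne (1 : Subgroup.center (P : Subgroup G))
  -- the restriction to `P` is a sum of linear characters, so `P` is abelian
  haveI := Fintype.ofFinite (P : Subgroup G)
  haveI := Fintype.ofFinite (IrrCharacter (P : Subgroup G))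
  have hcr : IsCharacter (P : Subgroup G) (fun x : (P : Subgroup G) => ρ.character x) :=
    Char.IsCharacter.restrict (Char.isCharacter_character ρ) _
  obtain ⟨m, he, -⟩ := Char.IsCharacter.decompose hcr
  choose d hd0 hd1 hddvd using fun φ : IrrCharacter (P : Subgroup G) =>
    Char.IsIrrCharacter.degree_dvd_card φ.2
  have hsum : p = ∑ φ, m φ * d φ := by
    have h1 := congrFun he 1
    simp only [OneMemClass.coe_one, Representation.char_one, hn, Finset.sum_apply, Pi.smul_apply,
      smul_eq_mul, hd1] at h1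
    exact_mod_cast h1
  have hlin : ∀ φ, m φ ≠ 0 → d φ = 1 := by
    intro φ hm
    obtain ⟨k, hk⟩ := P.isPGroup'.exists_card_eq
    obtain ⟨j, -, hj⟩ := (Nat.dvd_prime_pow hp.out).mp (hk ▸ hddvd φ)
    have hle : m φ * d φ ≤ p := by
      rw [hsum]
      exact Finset.single_le_sum (f := fun ψ => m ψ * d ψ) (fun _ _ => Nat.zero_le _) (Finset.mem_univ φ)
    have hdle : d φ ≤ p := le_trans (Nat.le_mul_of_pos_left _ (Nat.pos_of_ne_zero hm)) hle
    have hj1 : j ≤ 1 := (Nat.pow_le_pow_iff_right hp.out.one_lt).mp (by rw [pow_one, ← hj]; exact hdle)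
    rcases Nat.le_one_iff_eq_zero_or_eq_one.mp hj1 with rfl | rfl
    · simpa using hj
    exfalso
    rw [pow_one] at hj
    have hm1 : m φ = 1 := le_antisymm (Nat.le_of_mul_le_mul_right (by rw [one_mul]; exact hj ▸ hle)
      (hd0 φ)) (Nat.pos_of_ne_zero hm)
    have hothers : ∀ ψ, ψ ≠ φ → m ψ = 0 := by
      intro ψ hne
      by_contra h0
      have h2 : m φ * d φ + m ψ * d ψ ≤ p := by
        rw [hsum, ← Finset.sum_pair (f := fun ψ => m ψ * d ψ) hne.symm]
        exact Finset.sum_le_sum_of_subset (Finset.subset_univ _)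
      rw [hm1, one_mul, hj] at h2
      have : 0 < m ψ * d ψ := Nat.mul_pos (Nat.pos_of_ne_zero h0) (hd0 ψ)
      omega
    have heq : (fun x : (P : Subgroup G) => ρ.character x) = (φ : ↥(P : Subgroup G) → ℂ) := by
      rw [he, Finset.sum_eq_single φ (fun ψ _ hne => by rw [hothers ψ hne, Nat.cast_zero, zero_smul])
        (fun h => absurd (Finset.mem_univ _) h), hm1, Nat.cast_one, one_smul]
    obtain ⟨n', σ, hσ, hσe⟩ := φ.2
    haveI := hσ
    obtain ⟨c, hc⟩ := CharApp.exists_scalar_of_mem_center σ z.2
    have hdim : Module.finrank ℂ (Fin n' → ℂ) = p := by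
      have h1 := congrFun hσe 1
      rw [Representation.char_one, hd1 φ, hj] at h1
      exact_mod_cast h1
    have hnorm := (Char.norm_character_eq_iff σ (z : (P : Subgroup G))).mpr ⟨c, hc⟩
    rw [congrFun hσe, ← congrFun heq, hzero z z.2 (fun h => hz (Subtype.ext h)), norm_zero, hdim] at hnorm
    exact hp.out.ne_zero (by exact_mod_cast hnorm.symm)
  have hab : ∀ a b : (P : Subgroup G), a * b = b * a := by
    intro a b
    have h0 : ρ.character ((a * b * a⁻¹ * b⁻¹ : (P : Subgroup G)) : G) = ρ.character ((1 : (P : Subgroup G)) : G) := by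
      rw [congrFun he, congrFun he, Finset.sum_apply, Finset.sum_apply]
      refine Finset.sum_congr rfl fun φ _ => ?_
      simp only [Pi.smul_apply]
      by_cases hm : m φ = 0
      · simp [hm]
      rw [hd1 φ, hlin φ hm, Nat.cast_one,
        CharApp.apply_commutator_of_degree_one (Char.IsIrrCharacter.isCharacter φ.2)
          (by rw [hd1 φ, hlin φ hm, Nat.cast_one]) a b]
    rw [OneMemClass.coe_one, Representation.char_one, Char.character_eq_finrank_iff] at h0
    have h1 : (((a * b * a⁻¹ * b⁻¹ : (P : Subgroup G))) : G) = 1 := hscal _ ⟨1, by rw [h0, one_smul]⟩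
    have h2 : a * b * a⁻¹ * b⁻¹ = 1 := Subtype.ext h1
    rwa [mul_inv_eq_one, mul_inv_eq_iff_eq_mul] at h2
  -- summing over `P`
  obtain ⟨k, hk⟩ := BlockDefect.sum_subgroup_eq (Char.isCharacter_character ρ) (P : Subgroup G)
  rw [Finset.sum_eq_single (1 : (P : Subgroup G)) (fun u _ hu => hzero u
      (Subgroup.mem_center_iff.mpr fun x => hab x u) hu) (fun h => absurd (Finset.mem_univ _) h),
    OneMemClass.coe_one, Representation.char_one, hn, ← Nat.cast_mul, Nat.cast_inj] at hk
  rcases hp.out.eq_one_or_self_of_dvd _ ⟨k, hk⟩ with h | h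
  · exact absurd h (Finite.one_lt_card (α := (P : Subgroup G))).ne'
  · exact h

/-- The normalizer of a Sylow subgroup of a nonabelian simple group is not inside its centralizer. -/
theorem not_normalizer_le_centralizer [IsSimpleGroup G] (hna : ¬ ∀ a b : G, a * b = b * a)
    {p : ℕ} [Fact p.Prime] (P : Sylow p G) (hP : (P : Subgroup G) ≠ ⊥) :
    ¬ Subgroup.normalizer (P : Set G) ≤ Subgroup.centralizer (P : Set G) := by
  intro hle
  have hc := MonoidHom.ker_transferSylow_isComplement' P hle
  rcases (MonoidHom.transferSylow P hle).normal_ker.eq_bot_or_eq_top with h | h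
  · rw [h] at hc
    have hPt : (P : Subgroup G) = ⊤ := Subgroup.isComplement'_bot_left.mp hc
    haveI : Nontrivial G := inferInstance
    have hG : IsPGroup p G := P.isPGroup'.of_equiv
      ((MulEquiv.subgroupCongr hPt).trans Subgroup.topEquiv)
    haveI := hG.center_nontrivial
    rcases (inferInstance : (Subgroup.center G).Normal).eq_bot_or_eq_top with hZ | hZ
    · exact absurd hZ (Subgroup.nontrivial_iff_ne_bot _ |>.mp inferInstance)
    · exact hna fun a b => Subgroup.mem_center_iff.mp
        (hZ ▸ Subgroup.mem_top b : b ∈ Subgroup.center G) a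
  · rw [h] at hc
    exact hP (Subgroup.isComplement'_top_left.mp hc)

open scoped Classical in
theorem false_of_simple [IsSimpleGroup G] (hna : ¬ ∀ a b : G, a * b = b * a)
    (h : ∀ χ : IrrCharacter G, charDegree (χ : G → ℂ) ≠ 1 → (charDegree (χ : G → ℂ)).Prime) :
    False := by
  haveI := Fintype.ofFinite (IrrCharacter G)
  have hlin : ∀ χ : IrrCharacter G, charDegree (χ : G → ℂ) = 1 → (χ : G → ℂ) = 1 := by
    intro χ hχ
    obtain ⟨l, hl⟩ := Char.exists_hom_of_degree_one (Char.IsIrrCharacter.isCharacter χ.2)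
      (by rw [CharApp.DegreeSets.apply_one χ.2, hχ, Nat.cast_one])
    rw [← hl]
    rcases l.toHomUnits.normal_ker.eq_bot_or_eq_top with hb | ht
    · exact absurd (fun a b => (MonoidHom.ker_eq_bot_iff _).mp hb
        (by rw [map_mul, map_mul, mul_comm])) hna
    · funext g
      have hg : g ∈ l.toHomUnits.ker := ht ▸ Subgroup.mem_top g
      exact congrArg Units.val (MonoidHom.mem_ker.mp hg)
  obtain ⟨χ₁, hχ₁⟩ : ∃ χ : IrrCharacter G, charDegree (χ : G → ℂ) ≠ 1 := by
    by_contra hno
    push Not at hno
    refine hna fun a b => ?_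
    have hc : IsConj (a * b * a⁻¹ * b⁻¹) 1 := by
      refine (Char.isConj_iff_irr _ _).mpr fun χ => ?_
      rw [hlin χ (hno χ)]
      rfl
    rw [isConj_one_left, mul_inv_eq_one, mul_inv_eq_iff_eq_mul] at hc
    exact hc
  obtain ⟨χ₀, -, hmax⟩ := Finset.exists_max_image (Finset.univ : Finset (IrrCharacter G))
    (fun χ => charDegree (χ : G → ℂ)) ⟨χ₁, Finset.mem_univ _⟩
  have hp1 : charDegree (χ₀ : G → ℂ) ≠ 1 := by
    intro h1
    have h2 := hmax χ₁ (Finset.mem_univ _)
    have h3 := (h χ₁ hχ₁).two_le
    omega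
  set p := charDegree (χ₀ : G → ℂ) with hpdef
  haveI hp : Fact p.Prime := ⟨h χ₀ hp1⟩
  have hd0 : (χ₀ : G → ℂ) 1 = (p : ℂ) := CharApp.DegreeSets.apply_one χ₀.2
  obtain ⟨P⟩ := (inferInstance : Nonempty (Sylow p G))
  have hP := card_sylow_of_degree hna χ₀.2 hd0 P
  obtain ⟨x, L, hPx, hS⟩ := CyclicDefect.exists_setting_of_sylow hp.out P hP
  obtain ⟨M, hM⟩ := CentralChar.exists_pModular p
  haveI := Fintype.ofFinite (CyclicDefect.K x L)
  haveI := Fintype.ofFinite (IrrCharacter (CyclicDefect.K x L))
  have hB := (Blocks.principal_isPBlock hM (G := G)).1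
  have hl := CyclicDefect.lies_principal hS hM
  obtain ⟨hcard, exc, ε, δ, hinj, hexcB, hε, hexc, hnon, -⟩ :=
    CyclicDefect.block_structure hS hM hB hl
  have hne : (CyclicDefect.K x L).index ≠ 1 := by
    intro h1
    rw [Subgroup.index_eq_one] at h1
    refine not_normalizer_le_centralizer hna P ?_ ?_
    · intro hb
      rw [hb, Subgroup.card_bot] at hP
      exact hp.out.ne_one hP.symm
    · rw [show (P : Set G) = (Subgroup.zpowers x : Set G) from congrArg (fun H : Subgroup G => (H : Set G)) hPx]
      intro n hn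
      obtain ⟨u, hu, l, hlL, rfl⟩ := hS.hgen n hn
      have hlK : Commute x l := CyclicDefect.mem_K.mp
        (h1 ▸ Subgroup.mem_top (⟨l, hlL⟩ : L) : (⟨l, hlL⟩ : L) ∈ CyclicDefect.K x L)
      obtain ⟨i, rfl⟩ := Subgroup.mem_zpowers_iff.mp hu
      refine Subgroup.mem_centralizer_iff.mpr fun y hy => ?_
      obtain ⟨j, rfl⟩ := Subgroup.mem_zpowers_iff.mp hy
      exact ((Commute.refl x).zpow_zpow j i).mul_right (hlK.zpow_left j)
  have hone : 1 < Nat.card (CyclicDefect.U hS (CyclicDefect.oneK x L : CyclicDefect.K x L → ℂ)) := by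
    rw [CyclicDefect.card_U_one hS]
    have := Subgroup.index_ne_zero_of_finite (H := CyclicDefect.K x L)
    omega
  -- a nonprincipal member of the principal block outside the exceptional family
  obtain ⟨χ, hχB, hχn, hχ1⟩ : ∃ χ ∈ principalBlock M G, χ ∉ Set.range exc ∧
      (χ : G → ℂ) ≠ 1 := by
    by_contra hno
    push Not at hno
    let f : principalBlock M G → Option _ := fun χ =>
      if hr : (χ : IrrCharacter G) ∈ Set.range exc then some hr.choose else none
    have hf : Function.Injective f := by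
      intro a b hab
      by_cases ha : (a : IrrCharacter G) ∈ Set.range exc <;>
        by_cases hb : (b : IrrCharacter G) ∈ Set.range exc <;>
        simp only [f, ha, hb, dite_true, dite_false, Option.some.injEq, reduceCtorEq] at hab
      · exact Subtype.ext (ha.choose_spec.symm.trans ((congrArg exc hab).trans hb.choose_spec))
      · exact Subtype.ext (Subtype.ext ((hno _ a.2 ha).trans (hno _ b.2 hb).symm))
    have h1 := Nat.card_le_card_of_injective f hf
    rw [Finite.card_option, hcard] at h1
    omega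
  obtain ⟨hδ, hrow⟩ := hnon χ hχB hχn
  have hm := CyclicDefect.memI_apply_one_sub hS hM hB hl hχB
  rw [CyclicDefect.card_lies_one hS hM, CyclicDefect.sum_bInt_const hS hrow,
    CharApp.DegreeSets.apply_one χ.2,
    show ((CyclicDefect.oneK x L : IrrCharacter (CyclicDefect.K x L)) :
      CyclicDefect.K x L → ℂ) 1 = 1 from rfl,
    Nat.cast_one, one_mul, one_mul, ← Int.cast_natCast (charDegree (χ : G → ℂ))] at hm
  have hcong := CyclicDefect.intModEq_of_memI hM hm
  have hq1 : charDegree (χ : G → ℂ) ≠ 1 := fun e => hχ1 (hlin χ e)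
  have hqp := h χ hq1
  have hq2 : charDegree (χ : G → ℂ) ≠ 2 := by
    intro e
    haveI : Fact (Nat.Prime 2) := ⟨Nat.prime_two⟩
    obtain ⟨Q⟩ := (inferInstance : Nonempty (Sylow 2 G))
    have hQ := card_sylow_of_degree hna χ.2 (p := 2)
      (by rw [CharApp.DegreeSets.apply_one χ.2, e]) Q
    have hmin : (Nat.card G).minFac = 2 := Nat.minFac_eq_two_iff _ |>.mpr
      (hQ ▸ Subgroup.card_subgroup_dvd_card (Q : Subgroup G))
    refine not_normalizer_le_centralizer hna Q (fun hb => ?_)
      (IsCyclic.normalizer_le_centralizer hmin (isCyclic_of_prime_card hQ))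
    rw [hb, Subgroup.card_bot] at hQ
    exact absurd hQ (by norm_num)
  have hle := hmax χ (Finset.mem_univ _)
  have hp2 := hp.out.two_le
  have hq := hqp.two_le
  set q := charDegree (χ : G → ℂ)
  have hd : ((p : ℤ)) ∣ ((q : ℤ) - δ χ * ((p - 1 : ℕ) : ℤ)) := (Int.modEq_iff_dvd.mp hcong.symm)
  rw [Nat.cast_sub (le_trans one_le_two hp2), Nat.cast_one] at hd
  rcases hδ with e | e <;> rw [e] at hd
  · -- `q ≡ -1`
    have h1 : (p : ℤ) ∣ (q : ℤ) + 1 := by
      have := dvd_add hd (dvd_refl (p : ℤ))
      ring_nf at this ⊢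
      exact this
    have h2 : p ∣ q + 1 := by exact_mod_cast h1
    rcases (Nat.lt_or_ge q p) with hlt | hge
    · have := Nat.le_of_dvd (by omega) h2
      have hqe : q = p - 1 := by omega
      rcases hp.out.eq_two_or_odd with e2 | e2
      · omega
      · have : 2 ∣ q := by omega
        exact hq2 ((Nat.prime_dvd_prime_iff_eq Nat.prime_two hqp).mp this).symm
    · have hqe : q = p := le_antisymm hle hge
      rw [hqe] at h2
      have := Nat.le_of_dvd one_pos ((Nat.dvd_add_right dvd_rfl).mp h2)
      omega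
  · -- `q ≡ 1`
    have h1 : (p : ℤ) ∣ (q : ℤ) - 1 := by
      have := dvd_sub hd (dvd_refl (p : ℤ))
      ring_nf at this ⊢
      exact this
    have h2 : p ∣ q - 1 := by
      rw [show ((q : ℤ) - 1) = ((q - 1 : ℕ) : ℤ) by omega] at h1
      exact_mod_cast h1
    have := Nat.le_of_dvd (by omega) h2
    omega

end Simple

theorem solvable_aux : ∀ (n : ℕ) (G : Type u) [Group G] [Finite G], Nat.card G = n →
    (∀ χ : IrrCharacter G, charDegree (χ : G → ℂ) ≠ 1 → (charDegree (χ : G → ℂ)).Prime) →
    Group.IsSolvable G := by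
  intro n
  induction n using Nat.strong_induction_on with
  | _ n ih =>
    intro G _ _ hn h
    classical
    rcases subsingleton_or_nontrivial G with hs | hnt
    · infer_instance
    by_cases hab : ∀ a b : G, a * b = b * a
    · exact Group.isSolvable_of_comm hab
    by_cases hsimple : IsSimpleGroup G
    · exact (false_of_simple hab h).elim
    obtain ⟨N, hNn, hNb, hNt⟩ : ∃ N : Subgroup G, N.Normal ∧ N ≠ ⊥ ∧ N ≠ ⊤ := by
      by_contra hno
      push Not at hno
      exact hsimple ⟨fun H hH => by
        by_cases hb : H = ⊥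
        · exact Or.inl hb
        · exact Or.inr (hno H hH hb)⟩
    haveI := hNn
    haveI := Fintype.ofFinite G
    haveI := Fintype.ofFinite N
    have hsN : Group.IsSolvable N := by
      refine ih _ ?_ N rfl fun θ hθ => ?_
      · rw [← hn]
        exact lt_of_le_of_ne (Nat.le_of_dvd Nat.card_pos (Subgroup.card_subgroup_dvd_card N))
          fun e => hNt (Subgroup.eq_top_of_card_eq N e)
      · obtain ⟨χ, hχ, hne⟩ := CharApp.exists_over N θ.2
        obtain ⟨e, he0, -, hdeg, -⟩ := CharApp.DegreeSets.degree_over N hχ θ.2 hne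
        have hdvd : charDegree (θ : N → ℂ) ∣ charDegree χ := hdeg ▸ dvd_mul_left _ _
        by_cases h1 : charDegree χ = 1
        · exact absurd (Nat.dvd_one.mp (h1 ▸ hdvd)) hθ
        · have hpr : (charDegree χ).Prime := h ⟨χ, hχ⟩ h1
          exact ((hpr.eq_one_or_self_of_dvd _ hdvd).resolve_left hθ) ▸ hpr
    have hsQ : Group.IsSolvable (G ⧸ N) := by
      refine ih _ ?_ (G ⧸ N) rfl fun φ hφ => ?_
      · rw [← hn, ← Subgroup.index_eq_card, ← N.index_mul_card]
        exact lt_mul_of_one_lt_right (Nat.pos_of_ne_zero Subgroup.index_ne_zero_of_finite)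
          ((Subgroup.one_lt_card_iff_ne_bot N).mpr hNb)
      · have hχ := Char.IsIrrCharacter.comp_surjective φ.2 (f := QuotientGroup.mk' N)
          (QuotientGroup.mk'_surjective N)
        exact h ⟨_, hχ⟩ hφ
    exact (Group.isSolvable_iff_subgroup_quotient N).mpr ⟨hsN, hsQ⟩


/-- If every irreducible character of the finite group G of degree greater than one has prime degree, then G is solvable. -/
theorem result {G : Type*} [Group G] [Finite G] (h : ∀ χ : Cfsg.IrrCharacter G, Cfsg.charDegree (χ : G → ℂ) ≠ 1 → (Cfsg.charDegree (χ : G → ℂ)).Prime) : Group.IsSolvable G := by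
  exact solvable_aux _ G rfl h

end Cfsg.Agent.S4466
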