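import Cfsg.Statements.S4573
import Cfsg.Agent.EqLemmas
import Cfsg.Agent.Lib.MGroup.Wreath

set_option autoImplicit false
universe u
open Cfsg

namespace Cfsg.Agent.S4573

universe v

/-- A nontrivial finite solvable group has a normal subgroup of prime index. -/
theorem exists_normal_prime_index {G : Type v} [Group G] [Finite G] [Nontrivial G]
    (h : Group.IsSolvable G) : ∃ N : Subgroup G, N.Normal ∧ N.index.Prime := by
  have hne : commutator G ≠ ⊤ := by
    haveI := h
    exact (Group.IsSolvable.commutator_lt_top_of_nontrivial G).ne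
  obtain ⟨N, hN, hle⟩ := (eq_top_or_exists_le_coatom (commutator G)).resolve_left hne
  haveI hNn : N.Normal := ⟨fun x hx g => by
    have h1 : g * x * g⁻¹ * x⁻¹ ∈ N := hle (Subgroup.commutator_mem_commutator (Subgroup.mem_top g) (Subgroup.mem_top x))
    simpa using N.mul_mem h1 hx⟩
  refine ⟨N, hNn, ?_⟩
  letI : CommGroup (G ⧸ N) :=
    { (inferInstance : Group (G ⧸ N)) with
      mul_comm := fun a b => by
        induction a using QuotientGroup.induction_on with
        | H a =>
        induction b using QuotientGroup.induction_on with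
        | H b =>
        rw [← QuotientGroup.mk_mul, ← QuotientGroup.mk_mul, QuotientGroup.eq]
        have h1 : (b⁻¹ * a⁻¹ * b * a) ∈ N := hle (by
          rw [commutator_def]
          simpa [commutatorElement_def, mul_assoc] using
            Subgroup.commutator_mem_commutator (Subgroup.mem_top b⁻¹) (Subgroup.mem_top a⁻¹))
        simpa [mul_assoc] using h1 }
  haveI : Nontrivial (G ⧸ N) := by
    rw [← Finite.one_lt_card_iff_nontrivial, show Nat.card (G ⧸ N) = N.index from rfl]
    exact Subgroup.one_lt_index_of_ne_top hN.1
  haveI : IsSimpleGroup (G ⧸ N) := by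
    refine ⟨fun S _ => ?_⟩
    have hS : N ≤ S.comap (QuotientGroup.mk' N) := fun x hx => by
      rw [Subgroup.mem_comap, QuotientGroup.mk'_apply, (QuotientGroup.eq_one_iff x).mpr hx]
      exact S.one_mem
    rw [← Subgroup.map_comap_eq_self_of_surjective (QuotientGroup.mk'_surjective N) S]
    rcases eq_or_lt_of_le hS with h' | h'
    · left; rw [← h', QuotientGroup.map_mk'_self]
    · right; rw [hN.2 _ h', Subgroup.map_top_of_surjective _ (QuotientGroup.mk'_surjective N)]
  exact IsSimpleGroup.prime_card

/-- Dade: a solvable group embeds in an M-group. -/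
theorem exists_mgroup : ∀ (n : ℕ) (G : Type v) [Group G] [Finite G], Nat.card G = n →
    Group.IsSolvable G → ∃ (M : Type v) (_ : Group M) (_ : Fintype M),
      MGroup.IsMonomial M ∧ ∃ f : G →* M, Function.Injective f := by
  intro n
  induction n using Nat.strong_induction_on with
  | _ n ih =>
    intro G _ _ hn hsolv
    rcases subsingleton_or_nontrivial G with hG | hG
    · haveI := Fintype.ofFinite G
      haveI : Group.IsNilpotent G := inferInstance
      exact ⟨G, inferInstance, inferInstance, fun χ hχ => Char.monomial_of_isNilpotent hχ,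
        MonoidHom.id G, fun a b h => h⟩
    · obtain ⟨N, hN, hp⟩ := exists_normal_prime_index hsolv
      have hlt : Nat.card N < n := by
        rw [← hn, ← N.index_mul_card]
        exact lt_mul_of_one_lt_left Nat.card_pos hp.one_lt
      obtain ⟨M, _, _, hM, f, hf⟩ := ih _ hlt N rfl (by haveI := hsolv; infer_instance)
      obtain ⟨φ, hφ⟩ := MGroup.exists_embedding_wreath N f hf
      haveI := Fintype.ofFinite (G ⧸ N)
      exact ⟨M ≀ᵣ (G ⧸ N), inferInstance, inferInstance, MGroup.isMonomial_wreath hM hp, φ, hφ⟩

/-- Every finite solvable group is isomorphic to a subgroup of a finite M-group, a group each of whose irreducible characters is induced from a homomorphism of some subgroup into ℂˣ. -/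
theorem result {G : Type u} [Group G] [Finite G] (hsolv : Group.IsSolvable G) : ∃ (M : Type u) (_ : Group M) (_ : Fintype M), (∀ χ : M → ℂ, Cfsg.IsIrrCharacter M χ → (∃ (H : Subgroup M) (lam : ↥H →* ℂˣ), χ = Cfsg.indFun H (fun h => (lam h : ℂ)))) ∧ ∃ f : G →* M, Function.Injective f := by
  exact exists_mgroup _ G rfl hsolv

end Cfsg.Agent.S4573
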