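import Cfsg.Statements.S4467
import Cfsg.Agent.EqLemmas
import Cfsg.Agent.S4573
import Cfsg.Agent.Lib.CharApp.Clifford
import Cfsg.Agent.Lib.CharApp.CoprimeFixed
import Cfsg.Agent.Lib.CharApp.Schur
import Cfsg.Agent.Lib.CharExtend.DegreeRatio
import Cfsg.Agent.Lib.Char.Eigen
import Cfsg.Agent.Lib.Char.Linear
import Cfsg.Agent.Lib.Codegree.Basic
import Cfsg.Agent.Lib.Cores.Basic
import Cfsg.Agent.Lib.Solvable.Maximal
import Cfsg.Agent.Lib.PMinimal.Basic

set_option autoImplicit false
open Cfsg

namespace Cfsg.Agent.S4467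

set_option linter.style.haveILetI false

open Module
open scoped commutatorElement

universe u

/-- The conclusion. -/
def Good (n p : ℕ) : Prop :=
  ∃ q : ℕ, IsPrimePow q ∧ q ∣ n ∧
    ((q : ℤ) ≡ -1 [ZMOD p] ∨ (q : ℤ) ≡ 0 [ZMOD p] ∨ (q : ℤ) ≡ 1 [ZMOD p])

theorem Good.mono {m n p : ℕ} (h : Good m p) (hd : m ∣ n) : Good n p := by
  obtain ⟨q, hq, hqm, hc⟩ := h
  exact ⟨q, hq, hqm.trans hd, hc⟩

theorem good_of_dvd {n p : ℕ} (hp : p.Prime) (h : p ∣ n) : Good n p :=
  ⟨p, hp.isPrimePow, h, Or.inr (Or.inl (by simp [Int.ModEq]))⟩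

theorem good_of_sq {n p q : ℕ} (hp : p.Prime) (hq : IsPrimePow q) (hqn : q ∣ n)
    (h : q * q ≡ 1 [MOD p]) : Good n p := by
  refine ⟨q, hq, hqn, ?_⟩
  have h1 : (p : ℤ) ∣ ((q : ℤ) - 1) * ((q : ℤ) + 1) := by
    have h2 := Int.modEq_iff_dvd.mp (Int.natCast_modEq_iff.mpr h).symm
    push_cast at h2
    convert h2 using 1; ring
  rcases (Nat.prime_iff_prime_int.mp hp).dvd_or_dvd h1 with h2 | h2
  · exact Or.inr (Or.inr (Int.modEq_iff_dvd.mpr h2).symm)
  · exact Or.inl (Int.modEq_iff_dvd.mpr (by rw [sub_neg_eq_add]; exact h2)).symm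

variable {G : Type u} [Group G] [Finite G] {p : ℕ} [hp : Fact p.Prime]

theorem charDegree_dvd_card (χ : Cfsg.IrrCharacter G) :
    0 < Cfsg.charDegree (χ : G → ℂ) ∧ (χ : G → ℂ) 1 = (Cfsg.charDegree (χ : G → ℂ) : ℂ) ∧
      Cfsg.charDegree (χ : G → ℂ) ∣ Nat.card G := by
  obtain ⟨n, hn, he, hd⟩ := Char.IsIrrCharacter.degree_dvd_card χ.2
  have h : Cfsg.charDegree (χ : G → ℂ) = n := by simp [Cfsg.charDegree, he]
  rw [h]
  exact ⟨hn, he, hd⟩

/-- The degree over a normal subgroup. -/
theorem degree_split (N : Subgroup G) [N.Normal] [Fintype G] [Fintype N] (χ : Cfsg.IrrCharacter G)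
    (θ : Cfsg.IrrCharacter N) (h : classInner (fun x : N => (χ : G → ℂ) x) (θ : N → ℂ) ≠ 0) :
    ∃ e : ℕ, Cfsg.charDegree (χ : G → ℂ) =
        e * (CharApp.inertia N (θ : N → ℂ)).index * Cfsg.charDegree (θ : N → ℂ) ∧
      classInner (fun x : N => (χ : G → ℂ) x) (θ : N → ℂ) = (e : ℂ) ∧
      ((CharApp.inertia N (θ : N → ℂ)).index = 1 → e ∣ N.index) := by
  obtain ⟨e, he⟩ := Char.IsCharacter.classInner_nat
    (Char.IsCharacter.restrict (Char.IsIrrCharacter.isCharacter χ.2) N)
    (Char.IsIrrCharacter.isCharacter θ.2)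
  have hdeg := CharApp.restrict_degree N χ.2 θ.2 h
  rw [he, (charDegree_dvd_card χ).2.1, (charDegree_dvd_card θ).2.1] at hdeg
  have hdeg' : Cfsg.charDegree (χ : G → ℂ) =
      e * (CharApp.inertia N (θ : N → ℂ)).index * Cfsg.charDegree (θ : N → ℂ) := by
    exact_mod_cast hdeg
  refine ⟨e, hdeg', he, fun ht => ?_⟩
  rw [ht, mul_one] at hdeg'
  have hinv : ∀ (g : G) (x : N),
      (θ : N → ℂ) ⟨g * x * g⁻¹, (inferInstance : N.Normal).conj_mem x x.2 g⟩ = (θ : N → ℂ) x := by
    intro g
    refine (CharApp.mem_inertia_iff N).mp ?_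
    rw [Subgroup.index_eq_one.mp ht]
    exact Subgroup.mem_top g
  obtain ⟨d, ρ, hρi, hρ⟩ := θ.2
  obtain ⟨c, σ, hσi, hσ⟩ := χ.2
  haveI := hρi
  haveI := hσi
  have hms : finrank ℂ (CharExtend.MS ρ σ) = e := by
    have h1 := Char.classInner_character_eq_finrank (G := N) ρ (σ.comp N.subtype)
    rw [hρ, show Representation.character (σ.comp N.subtype : Representation ℂ N (Fin c → ℂ)) =
      fun x : N => (χ : G → ℂ) x from funext fun x => congrFun hσ (x : G), he] at h1
    exact_mod_cast h1.symm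
  have hd : Cfsg.charDegree (θ : N → ℂ) = d := by
    simp [Cfsg.charDegree, ← hρ, Representation.char_one]
  have hc : Cfsg.charDegree (χ : G → ℂ) = c := by
    simp [Cfsg.charDegree, ← hσ, Representation.char_one]
  rw [hc, hd] at hdeg'
  have he0 : e ≠ 0 := fun h0 => h (by rw [he, h0, Nat.cast_zero])
  have := CharExtend.multiplicity_dvd_index ρ σ (by rw [hρ]; exact hinv) (by rw [hms]; exact he0)
    (by rw [hms]; exact hdeg')
  rwa [hms] at this

/-- The restriction to a normal subgroup when the constituent is invariant. -/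
theorem restrict_eq_smul (N : Subgroup G) [N.Normal] [Fintype G] [Fintype N]
    (χ : Cfsg.IrrCharacter G) (θ : Cfsg.IrrCharacter N)
    (h : classInner (fun x : N => (χ : G → ℂ) x) (θ : N → ℂ) ≠ 0)
    (ht : (CharApp.inertia N (θ : N → ℂ)).index = 1) :
    (fun x : N => (χ : G → ℂ) x) =
      classInner (fun x : N => (χ : G → ℂ) x) (θ : N → ℂ) • (θ : N → ℂ) := by
  have h1 := CliffordChar.restrict_eq N χ.2 θ.2 h
  have h2 : CliffordChar.orbitSum N (θ : N → ℂ) = (Nat.card G : ℂ) • (θ : N → ℂ) := by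
    funext z
    simp only [CliffordChar.orbitSum, Finset.sum_apply, Pi.smul_apply, smul_eq_mul]
    rw [Finset.sum_congr rfl fun y _ => congrFun ((CharApp.mem_inertia N).mp
        (show y ∈ CharApp.inertia N (θ : N → ℂ) by
          rw [Subgroup.index_eq_one.mp ht]; exact Subgroup.mem_top y)) z,
      Finset.sum_const, Finset.card_univ, ← Nat.card_eq_fintype_card, nsmul_eq_mul]
  rw [CharApp.classInner_orbitSum_self N θ.2, Subgroup.index_eq_one.mp ht, Subgroup.card_top, h2,
    smul_smul, div_mul_cancel₀ _ (Nat.cast_ne_zero.mpr Nat.card_pos.ne')] at h1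
  exact h1

/-- A maximal subgroup whose index divides `n` and contains a Sylow subgroup with full normal
closure. -/
theorem false_of_coatom [Group.IsSolvable G] {n : ℕ} (hn : ¬ Good n p)
    (hcl : ∀ (N : Subgroup G), N.Normal → N ≠ ⊤ → ∀ P : Sylow p G, ¬ (P : Subgroup G) ≤ N)
    {M : Subgroup G} (hM : IsCoatom M) (hd : M.index ∣ n) : False := by
  have hpn : ¬ p ∣ n := fun h => hn (good_of_dvd hp.out h)
  have hpM : ¬ p ∣ M.index := fun h => hpn (h.trans hd)
  obtain ⟨S⟩ := (inferInstance : Nonempty (Sylow p M))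
  have hSi : ¬ p ∣ ((S : Subgroup M).map M.subtype).index := by
    rw [Subgroup.index_map_subtype]
    exact fun h => (hp.out.dvd_mul.1 h).elim S.not_dvd_index hpM
  let P := (S.2.map M.subtype).toSylow hSi
  have hPM : (P : Subgroup G) ≤ M := Subgroup.map_subtype_le _
  set A := M.normalCore with hA
  have hAt : A ≠ ⊤ := fun h => hM.1 (top_le_iff.1 (h ▸ M.normalCore_le))
  obtain ⟨x, hxP, hxA⟩ := SetLike.not_le_iff_exists.mp (hcl A inferInstance hAt P)
  let f := QuotientGroup.mk' A
  have hf : f.ker = A := QuotientGroup.ker_mk' A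
  haveI : Nontrivial (G ⧸ A) := QuotientGroup.nontrivial_iff.2 hAt
  obtain ⟨r, hr, B₀, hB₀n, hB₀0, hB₀r⟩ := Solvable.exists_normal_pGroup_ne_bot (G ⧸ A)
  haveI := Fact.mk hr
  haveI := hB₀n
  let B := (Subgroup.center B₀).map B₀.subtype
  haveI hBn : B.Normal := Cores.map_subtype_normal_of_characteristic B₀ _
  have hBab : ∀ a ∈ B, ∀ b ∈ B, a * b = b * a := by
    rintro _ ⟨a, ha, rfl⟩ _ ⟨b, -, rfl⟩
    exact congrArg Subtype.val (Subgroup.mem_center_iff.mp ha b).symm
  have hB0 : B ≠ ⊥ := by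
    intro h
    haveI : Nontrivial B₀ := (Subgroup.nontrivial_iff_ne_bot _).mpr hB₀0
    haveI := hB₀r.center_nontrivial
    obtain ⟨z, hz⟩ := exists_ne (1 : Subgroup.center B₀)
    exact hz (Subtype.ext (Subtype.ext (Subgroup.mem_bot.mp
      (h ▸ Subgroup.mem_map_of_mem B₀.subtype z.2))))
  have hBr : IsPGroup r B := (hB₀r.to_subgroup _).map _
  set Mb := M.map f with hMb
  have hMcomap : Mb.comap f = M := Subgroup.comap_map_eq_self (by rw [hf]; exact M.normalCore_le)
  have hMne : Mb ≠ ⊤ := fun h => hM.1 (by rw [← hMcomap, h, Subgroup.comap_top])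
  -- normal subgroups inside `Mb` are trivial
  have hcore : ∀ X : Subgroup (G ⧸ A), X.Normal → X ≤ Mb → X = ⊥ := by
    intro X hX hXM
    have h1 : X.comap f ≤ A :=
      (Subgroup.normal_le_normalCore (hN := hX.comap f)).2 ((Subgroup.comap_mono hXM).trans_eq hMcomap)
    rw [← Subgroup.map_comap_eq_self_of_surjective (QuotientGroup.mk'_surjective A) X]
    exact (Subgroup.map_eq_bot_iff _).2 (by rw [hf]; exact h1)
  have hsup : Mb ⊔ B = ⊤ := by
    have hBM : ¬ B ≤ Mb := fun h => hB0 (hcore B hBn h)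
    have h1 : M < M ⊔ B.comap f := left_lt_sup.2 fun h => hBM (by
      rw [← Subgroup.map_comap_eq_self_of_surjective (QuotientGroup.mk'_surjective A) B]
      exact Subgroup.map_mono h)
    have h2 := congrArg (Subgroup.map f) (hM.2 _ h1)
    rwa [Subgroup.map_sup, Subgroup.map_comap_eq_self_of_surjective (QuotientGroup.mk'_surjective A),
      Subgroup.map_top_of_surjective f (QuotientGroup.mk'_surjective A)] at h2
  -- a subgroup normalised by `Mb` and centralised by `B` inside `Mb` is trivial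
  have hnorm : ∀ X : Subgroup (G ⧸ A), X ≤ Mb → (∀ m ∈ Mb, ∀ z ∈ X, m * z * m⁻¹ ∈ X) →
      (∀ b ∈ B, ∀ z ∈ X, b * z = z * b) → X = ⊥ := by
    intro X hXM h1 h2
    refine hcore X ⟨fun z hz g => ?_⟩ hXM
    have hg : g ∈ Mb ⊔ B := hsup ▸ Subgroup.mem_top g
    obtain ⟨m, hm, b, hb, rfl⟩ := Subgroup.mem_sup_of_normal_right.mp hg
    have h3 : m * b * z * (m * b)⁻¹ = m * z * m⁻¹ := by
      rw [mul_assoc m b z, h2 b hb z hz]; group
    rw [h3]
    exact h1 m hm z hz
  have hinf : Mb ⊓ B = ⊥ := hnorm _ inf_le_left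
    (fun m hm z hz => ⟨Mb.mul_mem (Mb.mul_mem hm hz.1) (Mb.inv_mem hm), hBn.conj_mem z hz.2 m⟩)
    fun b hb z hz => hBab b hb z hz.2
  have hidx : Nat.card B = M.index := by
    have h1 : Mb.index = M.index := by
      rw [← Subgroup.index_comap_of_surjective Mb (QuotientGroup.mk'_surjective A), hMcomap]
    rw [← h1, ← Subgroup.relIndex_top_right, ← hsup, Solvable.relIndex_sup_of_normal,
      ← Subgroup.inf_relIndex_right, hinf, Subgroup.relIndex_bot_left]
  have hxne : f x ≠ 1 := fun h => hxA ((QuotientGroup.eq_one_iff x).mp h)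
  -- `x` acts nontrivially on `B`
  have hact : ∃ b ∈ B, f x * b ≠ b * f x := by
    by_contra hcon
    push Not at hcon
    have hX := hnorm (Mb ⊓ Subgroup.centralizer (B : Set (G ⧸ A))) inf_le_left
      (fun m hm z hz => ⟨Mb.mul_mem (Mb.mul_mem hm hz.1) (Mb.inv_mem hm), by
        show m * z * m⁻¹ ∈ Subgroup.centralizer (B : Set (G ⧸ A))
        rw [Subgroup.mem_centralizer_iff]
        intro b hb
        have hb' : m⁻¹ * b * m ∈ B := by
          have h5 := hBn.conj_mem b hb m⁻¹
          rwa [inv_inv] at h5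
        calc b * (m * z * m⁻¹) = m * ((m⁻¹ * b * m) * z) * m⁻¹ := by group
          _ = m * (z * (m⁻¹ * b * m)) * m⁻¹ := by rw [Subgroup.mem_centralizer_iff.mp hz.2 _ hb']
          _ = m * z * m⁻¹ * b := by group⟩)
      (fun b hb z hz => Subgroup.mem_centralizer_iff.mp hz.2 b hb)
    have : f x ∈ Mb ⊓ Subgroup.centralizer (B : Set (G ⧸ A)) :=
      ⟨Subgroup.mem_map_of_mem f (hPM hxP), Subgroup.mem_centralizer_iff.mpr fun b hb =>
        (hcon b hb).symm⟩
    rw [hX, Subgroup.mem_bot] at this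
    exact hxne this
  -- count the fixed points
  have hXp : IsPGroup p (Subgroup.zpowers (f x)) :=
    (P.2.map f).to_le (Subgroup.zpowers_le.mpr (Subgroup.mem_map_of_mem f hxP))
  let φ : Subgroup.zpowers (f x) →* MulAut B :=
    (MulAut.conjNormal : G ⧸ A →* MulAut B).comp (Subgroup.zpowers (f x)).subtype
  letI : MulAction (Subgroup.zpowers (f x)) B := MulAction.compHom B φ
  have hfix : ∀ b : B, b ∈ MulAction.fixedPoints (Subgroup.zpowers (f x)) B ↔
      (b : G ⧸ A) ∈ Subgroup.centralizer {f x} ⊓ B := by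
    intro b
    rw [MulAction.mem_fixedPoints]
    constructor
    · intro h
      refine ⟨Subgroup.mem_centralizer_singleton_iff.mpr ?_, b.2⟩
      have h1 : f x * b * (f x)⁻¹ = b :=
        congrArg Subtype.val (h ⟨f x, Subgroup.mem_zpowers _⟩)
      exact (mul_inv_eq_iff_eq_mul.mp h1).symm
    · rintro ⟨h, -⟩ ⟨y, hy⟩
      apply Subtype.ext
      show y * b * y⁻¹ = b
      obtain ⟨k, rfl⟩ := hy
      have h1 : Commute (f x) (b : G ⧸ A) := (Subgroup.mem_centralizer_singleton_iff.mp h).symm
      rw [(h1.zpow_left k).eq, mul_inv_cancel_right]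
  have hcount := hXp.card_modEq_card_fixedPoints B
  set C := (Subgroup.centralizer {f x} ⊓ B).subgroupOf B
  have hC : Nat.card (MulAction.fixedPoints (Subgroup.zpowers (f x)) B) = Nat.card C :=
    Nat.card_congr (Equiv.subtypeEquivRight fun b => hfix b)
  rw [hC, ← Subgroup.card_mul_index C] at hcount
  obtain ⟨k, hk⟩ := IsPGroup.iff_card.mp hBr
  obtain ⟨a, -, ha⟩ := (Nat.dvd_prime_pow hr).mp (hk ▸ C.index_dvd_card : C.index ∣ r ^ k)
  have hCp : p.Coprime (Nat.card C) := hp.out.coprime_iff_not_dvd.mpr fun h =>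
    hpM (hidx ▸ h.trans (Subgroup.card_subgroup_dvd_card C))
  have hone : C.index ≡ 1 [MOD p] := by
    have h1 : Nat.card C * C.index ≡ Nat.card C * 1 [MOD p] := by rwa [mul_one]
    exact Nat.ModEq.cancel_left_of_coprime hCp h1
  have ha0 : a ≠ 0 := by
    rintro rfl
    rw [pow_zero, Subgroup.index_eq_one] at ha
    obtain ⟨b, hb, hne⟩ := hact
    have h1 : (⟨b, hb⟩ : B) ∈ C := ha ▸ Subgroup.mem_top _
    exact hne (Subgroup.mem_centralizer_singleton_iff.mp h1.1).symm
  refine hn (good_of_sq hp.out (q := C.index) ?_ ?_ ?_)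
  · rw [ha]; exact hr.isPrimePow.pow ha0
  · exact C.index_dvd_card.trans (hidx ▸ hd)
  · simpa using hone.mul hone

/-- A faithful character whose constituents have quotients with normal Sylow subgroups. -/
theorem sylow_normal_of_constituents {H : Type u} [Group H] [Fintype H] [Group.IsSolvable H]
    {π : H → ℂ} (hπ : Cfsg.IsCharacter H π) (hπf : ∀ g : H, π g = π 1 → g = 1) {n : ℕ}
    (hn : ¬ Good n p) (hdeg : ∀ φ : Cfsg.IrrCharacter H,
      classInner π (φ : H → ℂ) ≠ 0 → Cfsg.charDegree (φ : H → ℂ) ∣ n)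
    (ih : ∀ (Q : Type u) [Group Q] [Finite Q] [Group.IsSolvable Q], Nat.card Q ≤ Nat.card H →
      ∀ ψ : Cfsg.IrrCharacter Q, (∀ g : Q, (ψ : Q → ℂ) g = (ψ : Q → ℂ) 1 → g = 1) →
        ¬ Good (Cfsg.charDegree (ψ : Q → ℂ)) p → ∀ S : Sylow p Q, (S : Subgroup Q).Normal)
    (S : Sylow p H) : (S : Subgroup H).Normal := by
  classical
  haveI := Fintype.ofFinite (Cfsg.IrrCharacter H)
  obtain ⟨m, hm, hmi⟩ := Char.IsCharacter.decompose hπ
  have hquot : ∀ φ : Cfsg.IrrCharacter H, m φ ≠ 0 →
      ((S : Subgroup H).map (QuotientGroup.mk' (Codegree.kerSub φ))).Normal := by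
    intro φ hφ
    obtain ⟨ψ, hψ⟩ := Codegree.exists_quot φ (Codegree.kerSub φ) le_rfl
    have hψf : ∀ g, (ψ : H ⧸ Codegree.kerSub φ → ℂ) g = (ψ : H ⧸ Codegree.kerSub φ → ℂ) 1 →
        g = 1 := by
      intro g hg
      induction g using QuotientGroup.induction_on with
      | _ g =>
        rw [← QuotientGroup.mk_one, hψ, hψ] at hg
        exact (QuotientGroup.eq_one_iff g).mpr hg
    have h1 : Cfsg.charDegree (ψ : H ⧸ Codegree.kerSub φ → ℂ) = Cfsg.charDegree (φ : H → ℂ) := by
      simp only [Cfsg.charDegree]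
      rw [← QuotientGroup.mk_one, hψ]
    exact ih _ (Nat.le_of_dvd Nat.card_pos (Subgroup.card_quotient_dvd_card _)) ψ hψf
      (fun h => hn (h.mono (h1 ▸ hdeg φ (by rw [hmi]; exact_mod_cast hφ))))
      (S.mapSurjective (QuotientGroup.mk'_surjective _))
  let D : Subgroup H := ⨅ φ : {φ : Cfsg.IrrCharacter H // m φ ≠ 0},
    ((S : Subgroup H).map (QuotientGroup.mk' (Codegree.kerSub φ.1))).comap
      (QuotientGroup.mk' (Codegree.kerSub φ.1))
  have hD : D.Normal := Subgroup.normal_iInf_normal fun φ => (hquot φ.1 φ.2).comap _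
  have hSD : (S : Subgroup H) ≤ D := le_iInf fun φ => Subgroup.le_comap_map _ _
  have hDp : IsPGroup p D := by
    obtain ⟨j, hj⟩ := IsPGroup.iff_card.mp S.2
    rintro ⟨z, hz⟩
    refine ⟨j, Subtype.ext ?_⟩
    show z ^ p ^ j = 1
    refine hπf _ ?_
    rw [hm]
    simp only [Finset.sum_apply, Pi.smul_apply, smul_eq_mul]
    refine Finset.sum_congr rfl fun φ _ => ?_
    by_cases h0 : m φ = 0
    · simp [h0]
    congr 1
    rw [Subgroup.mem_iInf] at hz
    obtain ⟨w, hw, hwz⟩ := hz ⟨φ, h0⟩
    refine Codegree.mem_kerSub.mp ((QuotientGroup.eq_one_iff _).mp ?_)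
    rw [QuotientGroup.mk_pow, show (z : H ⧸ Codegree.kerSub φ) = (w : H ⧸ Codegree.kerSub φ)
      from hwz.symm, ← QuotientGroup.mk_pow]
    rw [show w ^ p ^ j = 1 by
      rw [← hj]; exact orderOf_dvd_iff_pow_eq_one.mp (Subgroup.orderOf_dvd_natCard _ hw)]
    exact QuotientGroup.mk_one _
  exact (S.is_maximal' hDp hSD) ▸ hD

theorem normal_of_not_good (k : ℕ) : ∀ (G : Type u) [Group G] [Finite G] [Group.IsSolvable G],
    Nat.card G = k → ∀ χ : Cfsg.IrrCharacter G,
    (∀ g : G, (χ : G → ℂ) g = (χ : G → ℂ) 1 → g = 1) →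
    ¬ Good (Cfsg.charDegree (χ : G → ℂ)) p → ∀ P : Sylow p G, (P : Subgroup G).Normal := by
  induction k using Nat.strong_induction_on with
  | _ k ih =>
  intro G _ _ _ hk χ hfaith hgood P
  classical
  haveI := Fintype.ofFinite G
  set n := Cfsg.charDegree (χ : G → ℂ) with hndef
  obtain ⟨hnpos, hnval, hncard⟩ := charDegree_dvd_card χ
  rw [← hndef] at hnpos hnval hncard
  have hpn : ¬ p ∣ n := fun h => hgood (good_of_dvd hp.out h)
  by_contra hP
  set U := Cfsg.pCore p G with hUdef
  haveI : U.Normal := Cores.pCore_normal p G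
  have hUP : U ≤ (P : Subgroup G) := Cores.pCore_le_sylow P
  have hUp : IsPGroup p U := Cores.isPGroup_pCore p G
  -- proper normal subgroups have a normal Sylow subgroup
  have hsub : ∀ N : Subgroup G, N.Normal → N ≠ ⊤ → ∀ y ∈ N, (∃ j, y ^ p ^ j = 1) → y ∈ U := by
    intro N hN hNt y hy hyp
    haveI := hN
    haveI := Fintype.ofFinite N
    haveI := Fintype.ofFinite (Cfsg.IrrCharacter N)
    obtain ⟨S, hS⟩ := (show IsPGroup p (Subgroup.zpowers (⟨y, hy⟩ : N)) by
      obtain ⟨j, hj⟩ := hyp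
      intro z
      obtain ⟨z, i, rfl⟩ := z
      refine ⟨j, Subtype.ext ?_⟩
      show ((⟨y, hy⟩ : N) ^ i) ^ p ^ j = 1
      rw [← zpow_natCast, ← zpow_mul, mul_comm, zpow_mul, zpow_natCast,
        show (⟨y, hy⟩ : N) ^ p ^ j = 1 from Subtype.ext (by simpa using hj), one_zpow]).exists_le_sylow
    have hyS : (⟨y, hy⟩ : N) ∈ (S : Subgroup N) := hS (Subgroup.mem_zpowers _)
    have hSn : (S : Subgroup N).Normal := by
      refine sylow_normal_of_constituents
        (Char.IsCharacter.restrict (Char.IsIrrCharacter.isCharacter χ.2) N)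
        (fun g hg => Subtype.ext (hfaith _ (by simpa using hg))) hgood ?_ ?_ S
      · intro φ hφ
        obtain ⟨e, he, -, -⟩ := degree_split N χ φ hφ
        rw [hndef, he]
        exact dvd_mul_left _ _
      · intro Q _ _ _ hQ
        refine ih _ (lt_of_le_of_lt hQ ?_) Q rfl
        rw [← hk]
        exact lt_of_le_of_ne (Subgroup.card_le_card_group N)
          fun e => hNt (Subgroup.eq_top_of_card_eq N e)
    haveI : (S : Subgroup N).Characteristic := Sylow.characteristic_of_normal S hSn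
    exact Cores.le_pCore (Cores.map_subtype_normal_of_characteristic N _) (S.2.map _)
      ⟨_, hyS, rfl⟩
  have hpow : ∀ Q : Sylow p G, ∀ y ∈ (Q : Subgroup G), ∃ j, y ^ p ^ j = 1 := fun Q y hy => by
    obtain ⟨j, hj⟩ := Q.2 ⟨y, hy⟩
    exact ⟨j, congrArg Subtype.val hj⟩
  -- Sylow subgroups have full normal closure
  have hcl : ∀ (N : Subgroup G), N.Normal → N ≠ ⊤ → ∀ Q : Sylow p G, ¬ (Q : Subgroup G) ≤ N := by
    intro N hN hNt Q hQN
    have hQU : (Q : Subgroup G) ≤ U := fun y hy => hsub N hN hNt y (hQN hy) (hpow Q y hy)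
    have hQn : (Q : Subgroup G).Normal := by
      rw [le_antisymm hQU (Cores.pCore_le_sylow Q)]
      infer_instance
    letI := Sylow.unique_of_normal Q hQn
    exact hP (Subsingleton.elim Q P ▸ hQn)
  haveI : Nontrivial G := by
    by_contra h
    rw [not_nontrivial_iff_subsingleton] at h
    exact hP ⟨fun y hy g => by rwa [Subsingleton.elim (g * y * g⁻¹) y]⟩
  obtain ⟨N, hN, hNprime⟩ := S4573.exists_normal_prime_index (G := G) inferInstance
  haveI := hN
  have hNt : N ≠ ⊤ := fun h => hNprime.ne_one (by rw [h, Subgroup.index_top])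
  have hNp : N.index = p := by
    by_contra hne
    refine hcl N hN hNt P fun y hy => ?_
    rw [← QuotientGroup.eq_one_iff]
    obtain ⟨j, hj⟩ := hpow P y hy
    refine orderOf_eq_one_iff.mp (Nat.eq_one_of_dvd_coprimes
      (((Nat.coprime_primes hp.out hNprime).mpr (Ne.symm hne)).pow_left j)
      (orderOf_dvd_of_pow_eq_one (by rw [← QuotientGroup.mk_pow, hj, QuotientGroup.mk_one]))
      (by rw [Subgroup.index_eq_card]; exact orderOf_dvd_natCard _))
  obtain ⟨x, hxP, hxN⟩ := SetLike.not_le_iff_exists.mp (hcl N hN hNt P)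
  have hPN : ∀ y ∈ (P : Subgroup G), y ∈ N → y ∈ U := fun y hy hyN =>
    hsub N hN hNt y hyN (hpow P y hy)
  have hxp : x ^ p ∈ U := hPN _ (pow_mem hxP p) (by
    rw [← QuotientGroup.eq_one_iff, QuotientGroup.mk_pow, ← hNp, Subgroup.index_eq_card,
      pow_card_eq_one'])
  -- nontrivial inertia index is impossible
  have hinert : ∀ (L : Subgroup G) [L.Normal] [Fintype L] (θ : Cfsg.IrrCharacter L),
      classInner (fun y : L => (χ : G → ℂ) y) (θ : L → ℂ) ≠ 0 →
      (CharApp.inertia L (θ : L → ℂ)).index = 1 := by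
    intro L _ _ θ hθ
    obtain ⟨e, he, -, -⟩ := degree_split L χ θ hθ
    by_contra hne
    obtain ⟨M, hM, hTM⟩ := (eq_top_or_exists_le_coatom (CharApp.inertia L (θ : L → ℂ))).resolve_left
      fun h => hne (by rw [h, Subgroup.index_top])
    exact false_of_coatom hgood hcl hM ((Subgroup.index_dvd_of_le hTM).trans
      (hndef ▸ he ▸ (dvd_mul_left _ _).trans (dvd_mul_right _ _)))
  -- `U` is central
  have hUc : U ≤ Subgroup.center G := by
    haveI := Fintype.ofFinite U
    obtain ⟨lam, hlam⟩ := CharApp.exists_constituent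
      (Char.IsCharacter.restrict (Char.IsIrrCharacter.isCharacter χ.2) U)
      (by rw [OneMemClass.coe_one, hnval]; exact_mod_cast hnpos.ne')
    obtain ⟨e, he, heq, -⟩ := degree_split U χ lam hlam
    have ht := hinert U lam hlam
    have hlin : Cfsg.charDegree (lam : U → ℂ) = 1 := by
      obtain ⟨j, hj⟩ := IsPGroup.iff_card.mp hUp
      obtain ⟨i, -, hi⟩ := (Nat.dvd_prime_pow hp.out).mp (hj ▸ (charDegree_dvd_card lam).2.2)
      rcases i.eq_zero_or_pos with rfl | hi0
      · simpa using hi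
      · exact absurd ((hi ▸ dvd_pow_self p hi0.ne').trans (hndef ▸ he ▸ dvd_mul_left _ _)) hpn
    rw [ht, hlin, mul_one, mul_one] at he
    have hnorm : ∀ u : U, ‖(χ : G → ℂ) u‖ = n := by
      intro u
      have h1 := congrFun (restrict_eq_smul U χ lam hlam ht) u
      obtain ⟨l, hl⟩ := Char.exists_hom_of_degree_one (Char.IsIrrCharacter.isCharacter lam.2)
        (by rw [(charDegree_dvd_card lam).2.1, hlin, Nat.cast_one])
      simp only [Pi.smul_apply, smul_eq_mul, heq, ← he] at h1
      have hl1 : ‖(lam : U → ℂ) u‖ = 1 := by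
        rw [← hl]
        exact Complex.norm_eq_one_of_pow_eq_one (n := Nat.card U)
          (by rw [← map_pow, pow_card_eq_one', map_one]) Nat.card_pos.ne'
      rw [h1, norm_mul, hl1, mul_one, Complex.norm_natCast]
    intro u hu
    obtain ⟨c, ρ, hρi, hρ⟩ := χ.2
    have hc : c = n := by simp [hndef, Cfsg.charDegree, ← hρ, Representation.char_one]
    obtain ⟨ω, hω⟩ := (Char.norm_character_eq_iff ρ u).mp
      (by rw [hρ, hnorm ⟨u, hu⟩, Module.finrank_fin_fun, hc])
    refine Subgroup.mem_center_iff.mpr fun g => ?_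
    have h1 : g * u * g⁻¹ * u⁻¹ = 1 := hfaith _ (by
      rw [← hρ, Representation.character, Representation.character]
      congr 1
      have h2 : ρ (g * u) = ρ (u * g) := by
        rw [map_mul, map_mul, hω]
        ext v
        simp
      rw [map_mul, map_mul, h2, ← map_mul, ← map_mul,
        show u * g * g⁻¹ * u⁻¹ = (1 : G) by group, map_one])
    rwa [mul_inv_eq_one, mul_inv_eq_iff_eq_mul] at h1
  -- the `p'`-core
  set K := Cfsg.pPrimeCore p G with hKdef
  haveI : K.Normal := Cores.pPrimeCore_normal p G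
  haveI := Fintype.ofFinite K
  have hKp : (Nat.card K).Coprime p := Cores.coprime_card_pPrimeCore p
  have hNle : N ≤ U ⊔ K := by
    intro y hy
    haveI hU'n : (U.subgroupOf N).Normal := Subgroup.normal_subgroupOf
    set U' := U.subgroupOf N
    have hU'p : IsPGroup p U' := hUp.comap_subtype
    have hcop : (Nat.card U').Coprime U'.index := by
      obtain ⟨j, hj⟩ := IsPGroup.iff_card.mp hU'p
      rw [hj]
      refine (hp.out.coprime_iff_not_dvd.mpr fun h => ?_).pow_left j
      obtain ⟨q, hq⟩ := exists_prime_orderOf_dvd_card' (G := N ⧸ U') p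
        (by rwa [← Subgroup.index_eq_card])
      obtain ⟨⟨w, hw⟩, rfl⟩ := QuotientGroup.mk_surjective q
      have h1 : (QuotientGroup.mk (⟨w, hw⟩ : N) : N ⧸ U') ^ p = 1 := by
        rw [← hq, pow_orderOf_eq_one]
      rw [← QuotientGroup.mk_pow, QuotientGroup.eq_one_iff] at h1
      obtain ⟨i, hi⟩ := hUp ⟨_, h1⟩
      have h2 : (⟨w, hw⟩ : N) ∈ U' := hsub N hN hNt w hw ⟨i + 1, by
        rw [pow_succ', pow_mul]; simpa using congrArg Subtype.val hi⟩
      rw [(QuotientGroup.eq_one_iff _).mpr h2, orderOf_one] at hq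
      exact hp.out.ne_one hq.symm
    obtain ⟨H, hH⟩ := Subgroup.exists_right_complement'_of_coprime hcop
    have hHn : H.Normal := ⟨fun z hz g => by
      obtain ⟨⟨a, c⟩, hac⟩ := hH.2 g
      simp only at hac
      rw [← hac]
      have hca : ∀ w : N, (a : N) * w = w * (a : N) := fun w => Subtype.ext
        (Subgroup.mem_center_iff.mp (hUc a.2) (w : G)).symm
      rw [show (a : N) * c * z * ((a : N) * c)⁻¹ = (a : N) * ((c : N) * z * (c : N)⁻¹) * (a : N)⁻¹ by
        group, hca, mul_inv_cancel_right]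
      exact H.mul_mem (H.mul_mem c.2 hz) (H.inv_mem c.2)⟩
    have hHcop : (Nat.card H).Coprime p := by
      rw [← hH.symm.index_eq_card]
      rcases (Nat.coprime_or_dvd_of_prime hp.out U'.index) with h | h
      · exact h.symm
      · by_cases hU1 : Nat.card U' = 1
        · exfalso
          obtain ⟨q, hq⟩ := exists_prime_orderOf_dvd_card' (G := N) p
            (h.trans U'.index_dvd_card)
          have h2 : q ∈ U' := hsub N hN hNt q q.2 ⟨1, by
            rw [pow_one, ← hq]; exact congrArg Subtype.val (pow_orderOf_eq_one q)⟩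
          have := Subgroup.orderOf_dvd_natCard _ h2
          rw [hU1, hq] at this
          exact hp.out.ne_one (Nat.dvd_one.mp this)
        · exfalso
          obtain ⟨j, hj⟩ := IsPGroup.iff_card.mp hU'p
          have hj0 : j ≠ 0 := fun h0 => hU1 (by rw [hj, h0, pow_zero])
          exact hp.out.ne_one (Nat.eq_one_of_dvd_coprimes hcop (hj ▸ dvd_pow_self p hj0) h)
    have hHK : H.map N.subtype ≤ K := by
      refine le_trans (Subgroup.map_mono (Cores.le_pPrimeCore hHn hHcop)) ?_
      rw [Cores.pPrimeCore_map_subtype]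
      exact inf_le_left
    obtain ⟨⟨a, c⟩, hac⟩ := hH.2 ⟨y, hy⟩
    rw [show y = (a : N) * (c : N) from (congrArg Subtype.val hac).symm]
    exact Subgroup.mul_mem_sup a.2 (hHK ⟨_, c.2, rfl⟩)
  have hPK : K ⊔ (P : Subgroup G) = ⊤ := by
    have hNtop : N ⊔ (P : Subgroup G) = ⊤ := by
      refine eq_top_iff.mpr fun y _ => ?_
      haveI : Fact N.index.Prime := ⟨hNprime⟩
      have hgen : Subgroup.zpowers (x : G ⧸ N) = ⊤ := zpowers_eq_top_of_prime_card
        (p := N.index) rfl fun h => hxN ((QuotientGroup.eq_one_iff x).mp h)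
      obtain ⟨i, hi⟩ := Subgroup.mem_zpowers_iff.mp
        (hgen ▸ Subgroup.mem_top (y : G ⧸ N) : (y : G ⧸ N) ∈ Subgroup.zpowers (x : G ⧸ N))
      have h1 : y * (x ^ i)⁻¹ ∈ N := by
        rw [← QuotientGroup.eq_one_iff, QuotientGroup.mk_mul, QuotientGroup.mk_inv,
          QuotientGroup.mk_zpow, hi, mul_inv_cancel]
      have := Subgroup.mul_mem_sup h1 (zpow_mem hxP i)
      rwa [inv_mul_cancel_right] at this
    rw [← top_le_iff, ← hNtop]
    exact sup_le (hNle.trans (sup_le (hUP.trans le_sup_right) le_sup_left)) le_sup_right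
  have hdec : ∀ a ∈ (P : Subgroup G), ∃ i : ℤ, ∃ v ∈ U, a = x ^ i * v := by
    intro y hy
    haveI : Fact N.index.Prime := ⟨hNprime⟩
    have hgen : Subgroup.zpowers (x : G ⧸ N) = ⊤ := zpowers_eq_top_of_prime_card
      (p := N.index) rfl fun h => hxN ((QuotientGroup.eq_one_iff x).mp h)
    obtain ⟨i, hi⟩ := Subgroup.mem_zpowers_iff.mp
      (hgen ▸ Subgroup.mem_top (y : G ⧸ N) : (y : G ⧸ N) ∈ Subgroup.zpowers (x : G ⧸ N))
    refine ⟨i, (x ^ i)⁻¹ * y, hPN _ ((P : Subgroup G).mul_mem
      ((P : Subgroup G).inv_mem (zpow_mem hxP i)) hy)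
      (QuotientGroup.eq.mp (by rw [QuotientGroup.mk_zpow, hi])), by group⟩
  -- what commutes with `x` commutes with `P`
  have hxtoP : ∀ c : G, x * c = c * x → ∀ a ∈ (P : Subgroup G), a * c = c * a := by
    intro c hc a ha
    obtain ⟨i, v, hv, rfl⟩ := hdec a ha
    exact ((show Commute x c from hc).zpow_left i).mul_left
      (Subgroup.mem_center_iff.mp (hUc hv) c).symm
  have hmemG : ∀ g : G, ∃ a ∈ (P : Subgroup G), ∃ c ∈ K, g = a * c := by
    intro g
    have hg : g ∈ (P : Subgroup G) ⊔ K := by rw [sup_comm, hPK]; exact Subgroup.mem_top g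
    obtain ⟨a, ha, c, hc, rfl⟩ := Subgroup.mem_sup_of_normal_right.mp hg
    exact ⟨a, ha, c, hc, rfl⟩
  -- `x` does not centralise `K`
  have hxK : ∃ c ∈ K, x * c ≠ c * x := by
    by_contra hcon
    push Not at hcon
    refine hP ⟨fun y hy g => ?_⟩
    obtain ⟨a, ha, c, hc, rfl⟩ := hmemG g
    rw [show a * c * y * (a * c)⁻¹ = a * (c * y * c⁻¹) * a⁻¹ by group,
      show c * y * c⁻¹ = y by rw [← hxtoP c (hcon c hc) y hy, mul_inv_cancel_right]]
    exact (P : Subgroup G).mul_mem ((P : Subgroup G).mul_mem ha hy) ((P : Subgroup G).inv_mem ha)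
  -- commutator powers
  have hconjp : ∀ c ∈ K, Commute x (x * c * x⁻¹ * c⁻¹) → x * c = c * x := by
    intro c hc hyx
    set y := x * c * x⁻¹ * c⁻¹ with hy
    have hyK : y ∈ K := K.mul_mem ((inferInstance : K.Normal).conj_mem c hc x) (K.inv_mem hc)
    have h1 : x * c * x⁻¹ = y * c := by rw [hy]; group
    have h2 : ∀ j : ℕ, x ^ j * c * (x ^ j)⁻¹ = y ^ j * c := by
      intro j
      induction j with
      | zero => simp
      | succ j ihj =>
        rw [pow_succ' x, mul_inv_rev, show x * x ^ j * c * ((x ^ j)⁻¹ * x⁻¹) =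
          x * (x ^ j * c * (x ^ j)⁻¹) * x⁻¹ by group, ihj,
          show x * (y ^ j * c) * x⁻¹ = (x * y ^ j) * c * x⁻¹ by group, (hyx.pow_right j).eq,
          show y ^ j * x * c * x⁻¹ = y ^ j * (x * c * x⁻¹) by group, h1, pow_succ]
        simp only [mul_assoc]
    have h3 := h2 p
    rw [← Subgroup.mem_center_iff.mp (hUc hxp) c, mul_inv_cancel_right, right_eq_mul] at h3
    have hy1 : y = 1 := orderOf_eq_one_iff.mp (Nat.eq_one_of_dvd_coprimes hKp.symm
      (orderOf_dvd_of_pow_eq_one h3) (Subgroup.orderOf_dvd_natCard K hyK))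
    rw [hy1, one_mul] at h1
    exact mul_inv_eq_iff_eq_mul.mp h1
  -- proper normal subgroups in `K` are centralised by `x` and central in `K`
  have hcent : ∀ L : Subgroup G, L.Normal → L ≤ K → L ≠ K →
      (∀ l ∈ L, x * l = l * x) ∧ ∀ l ∈ L, ∀ c ∈ K, l * c = c * l := by
    have hx1 : ∀ L : Subgroup G, L.Normal → L ≤ K → L ≠ K → ∀ l ∈ L, x * l = l * x := by
      intro L hL hLK hLne l hl
      haveI := hL
      have hne : L ⊔ (P : Subgroup G) ≠ ⊤ := by
        intro h
        refine hLne (le_antisymm hLK fun c hc => ?_)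
        have hc' : c ∈ (P : Subgroup G) ⊔ L := by rw [sup_comm, h]; exact Subgroup.mem_top c
        obtain ⟨a, ha, l', hl', rfl⟩ := Subgroup.mem_sup_of_normal_right.mp hc'
        have haK : a ∈ K := by simpa using K.mul_mem hc (K.inv_mem (hLK hl'))
        obtain ⟨j, hj⟩ := hpow P a ha
        rw [orderOf_eq_one_iff.mp (Nat.eq_one_of_dvd_coprimes (hKp.symm.pow_left j)
          (orderOf_dvd_of_pow_eq_one hj) (Subgroup.orderOf_dvd_natCard K haK)), one_mul]
        exact hl'
      set H := L ⊔ (P : Subgroup G) with hH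
      set L₂ := L ⊔ U with hL₂
      haveI : L₂.Normal := Subgroup.sup_normal _ _
      have hL₂H : L₂ ≤ H := sup_le_sup_left hUP L
      haveI := Fintype.ofFinite H
      haveI := Fintype.ofFinite L₂
      haveI : (L₂.subgroupOf H).Normal := Subgroup.normal_subgroupOf
      set L' := L₂.subgroupOf H with hL'
      haveI := Fintype.ofFinite L'
      let eL : L' ≃* L₂ := Subgroup.subgroupOfEquivOfLe hL₂H
      have hidx : L'.index ∣ p := by
        show L₂.relIndex H ∣ p
        have hsup : L₂ ⊔ (P : Subgroup G) = H := by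
          rw [hL₂, hH, sup_assoc, sup_eq_right.mpr hUP]
        rw [← hsup, sup_comm, Subgroup.relIndex_sup_right]
        refine (Subgroup.relIndex_dvd_of_le_left (P : Subgroup G) (le_sup_right : U ≤ L₂)).trans ?_
        have h1 : (P : Subgroup G) ⊓ N ≤ U := fun y hy => hPN y hy.1 hy.2
        refine (Subgroup.relIndex_dvd_of_le_left (P : Subgroup G) h1).trans ?_
        rw [Subgroup.inf_relIndex_left]
        exact (Subgroup.relIndex_dvd_index_of_normal N _).trans hNp.dvd
      let S : Sylow p H := P.subtype le_sup_right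
      have hdiv : ∀ φ : Cfsg.IrrCharacter H,
          classInner (fun y : H => (χ : G → ℂ) y) (φ : H → ℂ) ≠ 0 →
          Cfsg.charDegree (φ : H → ℂ) ∣ n := by
        intro φ hφ
        obtain ⟨ψ, hψ⟩ := CharApp.exists_constituent
          (Char.IsCharacter.restrict (Char.IsIrrCharacter.isCharacter φ.2) L')
          (by rw [OneMemClass.coe_one]; exact Char.IsIrrCharacter.apply_one_ne_zero φ.2)
        set θ : Cfsg.IrrCharacter L₂ :=
          ⟨fun l => (ψ : L' → ℂ) (eL.symm l), Char.IsIrrCharacter.comp_equiv ψ.2 eL.symm⟩ with hθ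
        have hχψ : classInner (fun y : L' => (χ : G → ℂ) ((y : H) : G)) (ψ : L' → ℂ) ≠ 0 :=
          CharApp.over_trans L'.subtype
            (Char.IsCharacter.restrict (Char.IsIrrCharacter.isCharacter χ.2) H) φ.2 ψ.2 hφ hψ
        have hθ0 : classInner (fun l : L₂ => (χ : G → ℂ) l) (θ : L₂ → ℂ) ≠ 0 := by
          rw [← Char.classInner_comp_equiv eL]
          convert hχψ using 2
          · funext y; rfl
          · funext y
            show (ψ : L' → ℂ) (eL.symm (eL y)) = _
            rw [eL.symm_apply_apply]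
        have ht := hinert L₂ θ hθ0
        have hinv : (CharApp.inertia L' (ψ : L' → ℂ)).index = 1 := by
          rw [Subgroup.index_eq_one, eq_top_iff]
          intro g _
          rw [CharApp.mem_inertia_iff]
          intro y
          have hg : (g : G) ∈ CharApp.inertia L₂ (θ : L₂ → ℂ) := by
            rw [Subgroup.index_eq_one.mp ht]; exact Subgroup.mem_top _
          have h1 := (CharApp.mem_inertia_iff L₂).mp hg (eL y)
          simp only [hθ, MulEquiv.symm_apply_apply] at h1
          exact h1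
        obtain ⟨e, he, hein, hediv⟩ := degree_split L' φ ψ hψ
        have he1 : e = 1 := by
          have hed : e ∣ p := (hediv hinv).trans hidx
          rcases (Nat.dvd_prime hp.out).mp hed with h | h
          · exact h
          · exfalso
            have h2 : e * e ≤ L'.index := by
              have h3 := CharApp.multiplicity_sq_le_index (N := L') φ.2
              rw [restrict_eq_smul L' φ ψ hψ hinv, hein, Char.classInner_smul_left,
                Char.classInner_smul_right, Char.classInner_irr_self ψ.2, map_natCast, mul_one,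
                ← Nat.cast_mul, Complex.natCast_re] at h3
              exact_mod_cast h3
            rw [h] at h2
            have h4 := Nat.le_of_dvd hp.out.pos hidx
            have := hp.out.two_le
            nlinarith
        obtain ⟨e', he', -, -⟩ := degree_split L₂ χ θ hθ0
        have hθd : Cfsg.charDegree (θ : L₂ → ℂ) = Cfsg.charDegree (ψ : L' → ℂ) := by
          simp [Cfsg.charDegree, hθ]
        rw [he, hinv, he1, one_mul, one_mul, ← hθd, hndef, he']
        exact dvd_mul_left _ _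
      have hSn : (S : Subgroup H).Normal := by
        refine sylow_normal_of_constituents
          (Char.IsCharacter.restrict (Char.IsIrrCharacter.isCharacter χ.2) H)
          (fun g hg => Subtype.ext (hfaith _ (by simpa using hg))) hgood ?_ ?_ S
        · exact hdiv
        · intro Q _ _ _ hQ
          refine ih _ (lt_of_le_of_lt hQ ?_) Q rfl
          rw [← hk]
          exact lt_of_le_of_ne (Subgroup.card_le_card_group H)
            fun e => hne (Subgroup.eq_top_of_card_eq H e)
      have hdis : Disjoint (L.subgroupOf H) (S : Subgroup H) := by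
        rw [Subgroup.disjoint_def]
        intro z hzL hzS
        obtain ⟨j, hj⟩ := hpow P (z : G) hzS
        exact Subtype.ext (orderOf_eq_one_iff.mp (Nat.eq_one_of_dvd_coprimes (hKp.symm.pow_left j)
          (orderOf_dvd_of_pow_eq_one hj) (Subgroup.orderOf_dvd_natCard K (hLK hzL))))
      have h := Subgroup.commute_of_normal_of_disjoint _ _ Subgroup.normal_subgroupOf hSn hdis
        (⟨l, le_sup_left (a := L) hl⟩ : H) (⟨x, le_sup_right (b := (P : Subgroup G)) hxP⟩ : H) hl hxP
      exact (congrArg Subtype.val h.eq).symm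
    intro L hL hLK hLne
    refine ⟨hx1 L hL hLK hLne, fun l hl c hc => ?_⟩
    haveI := hL
    set Z := K ⊓ Subgroup.centralizer (L : Set G) with hZ
    by_contra hne
    have hZK : Z ≠ K := fun h => hne (Subgroup.mem_centralizer_iff.mp ((h.ge hc).2) l hl)
    haveI : Z.Normal := Subgroup.normal_inf_normal _ _
    have hZx := hx1 Z inferInstance inf_le_left hZK
    have hmemZ : ∀ c ∈ K, x * c * x⁻¹ * c⁻¹ ∈ Z := by
      intro c hc
      refine ⟨K.mul_mem ((inferInstance : K.Normal).conj_mem c hc x) (K.inv_mem hc), ?_⟩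
      show x * c * x⁻¹ * c⁻¹ ∈ Subgroup.centralizer (L : Set G)
      rw [Subgroup.mem_centralizer_iff]
      intro w hw
      have h1 : Commute x w := hx1 L hL hLK hLne w hw
      have hw' : c⁻¹ * w * c ∈ L := by simpa using hL.conj_mem w hw c⁻¹
      have h2 : Commute x (c⁻¹ * w * c) := hx1 L hL hLK hLne _ hw'
      calc w * (x * c * x⁻¹ * c⁻¹) = (w * x) * c * x⁻¹ * c⁻¹ := by group
        _ = (x * w) * c * x⁻¹ * c⁻¹ := by rw [h1.eq]
        _ = x * c * ((c⁻¹ * w * c) * x⁻¹) * c⁻¹ := by group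
        _ = x * c * (x⁻¹ * (c⁻¹ * w * c)) * c⁻¹ := by rw [h2.inv_left.eq]
        _ = x * c * x⁻¹ * c⁻¹ * w := by group
    obtain ⟨c₀, hc₀, hne₀⟩ := hxK
    exact hne₀ (hconjp c₀ hc₀ (hZx _ (hmemZ c₀ hc₀)))
  -- elements of `K` commuting with `x` and `K` are central
  have hcG : ∀ z : G, x * z = z * x → (∀ c ∈ K, z * c = c * z) → z ∈ Subgroup.center G := by
    intro z hzx hzK
    refine Subgroup.mem_center_iff.mpr fun g => ?_
    obtain ⟨a, ha, c, hc, rfl⟩ := hmemG g
    exact ((show Commute a z from hxtoP z hzx a ha).mul_left (show Commute c z from (hzK c hc).symm)).eq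
  obtain ⟨c₀, hc₀, hne₀⟩ := hxK
  -- `χ` is irreducible on `K`
  obtain ⟨θ, hθ⟩ := CharApp.exists_constituent
    (Char.IsCharacter.restrict (Char.IsIrrCharacter.isCharacter χ.2) K)
    (by rw [OneMemClass.coe_one, hnval]; exact_mod_cast hnpos.ne')
  obtain ⟨e, he, hein, hediv⟩ := degree_split K χ θ hθ
  have ht := hinert K θ hθ
  have he1 : e = 1 := by
    have h1 : K.index ∣ Nat.card (P : Subgroup G) := by
      rw [← Subgroup.relIndex_top_right, ← hPK, sup_comm, Subgroup.relIndex_sup_right]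
      exact Subgroup.relIndex_dvd_card _ _
    obtain ⟨j, hj⟩ := IsPGroup.iff_card.mp P.2
    obtain ⟨i, -, hi⟩ := (Nat.dvd_prime_pow hp.out).mp ((hediv ht).trans (hj ▸ h1))
    rcases i.eq_zero_or_pos with rfl | hi0
    · simpa using hi
    · exact absurd ((hi ▸ dvd_pow_self p hi0.ne').trans
        (hndef ▸ he ▸ (dvd_mul_right _ _).trans (dvd_mul_right _ _))) hpn
  rw [ht, he1, one_mul, one_mul] at he
  have hrest : (fun z : K => (χ : G → ℂ) z) = (θ : K → ℂ) := by
    rw [restrict_eq_smul K χ θ hθ ht, hein, he1, Nat.cast_one, one_smul]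
  have hn1 : n ≠ 1 := by
    intro h1
    obtain ⟨l, hl⟩ := Char.exists_hom_of_degree_one (Char.IsIrrCharacter.isCharacter χ.2)
      (by rw [hnval, h1, Nat.cast_one])
    refine hne₀ (mul_inv_eq_one.mp (hfaith (x * c₀ * (c₀ * x)⁻¹) ?_))
    rw [← hl, map_one, mul_inv_rev, map_mul, map_mul, map_mul]
    calc l x * l c₀ * (l x⁻¹ * l c₀⁻¹) = (l x * l x⁻¹) * (l c₀ * l c₀⁻¹) := by ring
      _ = 1 := by rw [← map_mul, ← map_mul, mul_inv_cancel, mul_inv_cancel, map_one, one_mul]
  -- the centre of `K`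
  set Zk := (Subgroup.center K).map K.subtype with hZk
  haveI hZkn : Zk.Normal := Cores.map_subtype_normal_of_characteristic K _
  have hnotab : ¬ ∀ a b : K, a * b = b * a := by
    intro hab
    obtain ⟨d, ρ, hρi, hρ⟩ := θ.2
    haveI := hρi
    have hsc : ∀ g : K, ∃ c : ℂ, ρ g = c • 1 := fun g =>
      CharApp.exists_scalar_of_mem_center ρ (Subgroup.mem_center_iff.mpr fun y => hab y g)
    obtain ⟨v, hv⟩ := @exists_ne _ (CharApp.nontrivial_of_irr ρ) (0 : Fin d → ℂ)
    have hd1 : finrank ℂ (Fin d → ℂ) = 1 := by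
      rcases CharApp.eq_bot_or_top_of_invariant ρ (Submodule.span ℂ {v}) (fun g w hw => by
        obtain ⟨c, hc⟩ := hsc g
        rw [hc]
        exact Submodule.smul_mem _ c hw) with hW | hW
      · exact absurd (Submodule.span_singleton_eq_bot.mp hW) hv
      · rw [← finrank_top ℂ, ← hW, finrank_span_singleton hv]
    rw [Module.finrank_fin_fun] at hd1
    exact hn1 (by rw [hndef, he]; simp [Cfsg.charDegree, ← hρ, Representation.char_one, hd1])
  have hZkne : Zk ≠ K := by
    intro h
    refine hnotab fun a b => ?_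
    obtain ⟨a', ha', hae⟩ : (a : G) ∈ Zk := by rw [h]; exact a.2
    obtain rfl : a' = a := Subtype.ext hae
    exact (Subgroup.mem_center_iff.mp ha' b).symm
  have hZkcent : ∀ z : K, z ∈ Subgroup.center K → (z : G) ∈ Subgroup.center G := fun z hz =>
    hcG _ ((hcent Zk hZkn (Subgroup.map_subtype_le _) hZkne).1 _ ⟨z, hz, rfl⟩)
      fun c hc => (congrArg Subtype.val (Subgroup.mem_center_iff.mp hz ⟨c, hc⟩)).symm
  haveI : Nontrivial K := ⟨⟨c₀, hc₀⟩, 1, fun h => hne₀ (by
    rw [show c₀ = 1 from congrArg Subtype.val h]; simp)⟩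
  have hderiv : ∀ z ∈ commutator K, z ∈ Subgroup.center K := by
    have hne : (commutator K).map K.subtype ≠ K := by
      intro h
      have h1 := congrArg (Subgroup.comap K.subtype) h
      rw [Subgroup.comap_map_eq_self_of_injective K.subtype_injective] at h1
      exact (Group.IsSolvable.commutator_lt_top_of_nontrivial K).ne
        (h1.trans ((Subgroup.comap_subtype K K).trans (Subgroup.subgroupOf_self _)) )
    intro z hz
    refine Subgroup.mem_center_iff.mpr fun y => Subtype.ext ?_
    exact ((hcent _ (Cores.map_subtype_normal_of_characteristic K _) (Subgroup.map_subtype_le _)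
      hne).2 _ ⟨z, hz, rfl⟩ y y.2).symm
  have hnil : Group.IsNilpotent K := by
    letI : CommGroup (K ⧸ Subgroup.center K) :=
      { (inferInstance : Group (K ⧸ Subgroup.center K)) with
        mul_comm := fun a b => by
          induction a using QuotientGroup.induction_on with
          | _ a =>
          induction b using QuotientGroup.induction_on with
          | _ b =>
          rw [← commutatorElement_eq_one_iff_mul_comm]
          exact (QuotientGroup.eq_one_iff _).mpr
            (hderiv _ (Subgroup.commutator_mem_commutator (Subgroup.mem_top a) (Subgroup.mem_top b))) }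
    exact Subgroup.isNilpotent_of_ker_le_center (QuotientGroup.mk' (Subgroup.center K))
      (by rw [QuotientGroup.ker_mk'])
  obtain ⟨r, hr, hKr⟩ : ∃ r : ℕ, r.Prime ∧ IsPGroup r K := by
    by_contra hcon
    push Not at hcon
    refine hnotab fun a b => ?_
    have htop : Subgroup.center K = ⊤ := PMinimal.eq_top_of_forall_sylow _ fun q hq _ => by
      haveI := Fact.mk hq
      obtain ⟨T⟩ := (inferInstance : Nonempty (Sylow q K))
      refine ⟨T, fun z hz => ?_⟩
      haveI hTn : (T : Subgroup K).Normal :=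
        (Group.isNilpotent_of_finite_tfae (G := K)).out 0 3 rfl rfl |>.mp hnil q inferInstance T
      haveI : (T : Subgroup K).Characteristic := Sylow.characteristic_of_normal T hTn
      have hne : (T : Subgroup K).map K.subtype ≠ K := by
        intro h
        have h1 := congrArg (Subgroup.comap K.subtype) h
        rw [Subgroup.comap_map_eq_self_of_injective K.subtype_injective,
          Subgroup.comap_subtype, Subgroup.subgroupOf_self] at h1
        exact hcon q hq ((h1 ▸ T.2).of_equiv Subgroup.topEquiv)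
      refine Subgroup.mem_center_iff.mpr fun y => Subtype.ext ?_
      exact ((hcent _ (Cores.map_subtype_normal_of_characteristic K _) (Subgroup.map_subtype_le _)
        hne).2 _ ⟨z, hz, rfl⟩ y y.2).symm
    exact (Subgroup.mem_center_iff.mp (htop ▸ Subgroup.mem_top a) b).symm
  obtain ⟨d, ρ, hρi, hρ⟩ := χ.2
  haveI := hρi
  have hdn : finrank ℂ (Fin d → ℂ) = n := by
    simp [hndef, Cfsg.charDegree, ← hρ, Representation.char_one]
  -- the values outside the centre
  have hvan : ∀ k : K, k ∉ Subgroup.center K → (χ : G → ℂ) k = 0 := by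
    intro k hk
    obtain ⟨g, hg⟩ : ∃ g : K, g * k ≠ k * g := by
      by_contra hcon
      push Not at hcon
      exact hk (Subgroup.mem_center_iff.mpr hcon)
    have hz : ⁅g, k⁆ ∈ Subgroup.center K :=
      hderiv _ (Subgroup.commutator_mem_commutator (Subgroup.mem_top g) (Subgroup.mem_top k))
    obtain ⟨c, hc⟩ := CharApp.exists_scalar_of_mem_center ρ (hZkcent _ hz)
    have hc1 : c ≠ 1 := by
      rintro rfl
      have h1 : ((⁅g, k⁆ : K) : G) = 1 := hfaith _ (by
        rw [← hρ, Representation.character, Representation.character, hc, map_one ρ, one_smul])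
      exact hg (commutatorElement_eq_one_iff_mul_comm.mp (Subtype.ext h1))
    have h1 := Char.IsIrrCharacter.isClassFunction χ.2 (k : G) (g : G)
    rw [show (g : G) * k * (g : G)⁻¹ = ((⁅g, k⁆ : K) : G) * k by
      simp [commutatorElement_def, mul_assoc]] at h1
    rw [← hρ, Representation.character, Representation.character, map_mul, hc, smul_mul_assoc,
      one_mul, map_smul, smul_eq_mul] at h1
    rw [← hρ, Representation.character]
    by_contra h0
    exact hc1 ((mul_eq_right₀ h0).mp h1)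
  -- `n² |Z(K)| = |K|`
  have hcard : n * n * Nat.card (Subgroup.center K) = Nat.card K := by
    have h1 : classInner (θ : K → ℂ) (θ : K → ℂ) = 1 := Char.classInner_irr_self θ.2
    rw [← hrest, Cfsg.classInner, inv_mul_eq_iff_eq_mul₀ (Nat.cast_ne_zero.mpr Nat.card_pos.ne'),
      mul_one] at h1
    have h2 : ∀ k : K, (χ : G → ℂ) k * (starRingEnd ℂ) ((χ : G → ℂ) k) =
        if k ∈ Subgroup.center K then (n : ℂ) * n else 0 := by
      intro k
      split_ifs with hk
      · have hnorm : ‖ρ.character (k : G)‖ = (finrank ℂ (Fin d → ℂ) : ℝ) := by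
          obtain ⟨c, hc⟩ := CharApp.exists_scalar_of_mem_center ρ (hZkcent k hk)
          exact (Char.norm_character_eq_iff ρ _).mpr ⟨c, hc⟩
        rw [← hρ, Complex.mul_conj', hnorm, hdn, sq]
        push_cast; ring
      · rw [hvan k hk, zero_mul]
    rw [Finset.sum_congr rfl fun k _ => h2 k, Finset.sum_ite, Finset.sum_const_zero, add_zero,
      Finset.sum_const, nsmul_eq_mul] at h1
    rw [← Fintype.card_subtype, ← Nat.card_eq_fintype_card] at h1
    have h3 : ((n * n * Nat.card (Subgroup.center K) : ℕ) : ℂ) = (Nat.card K : ℂ) := by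
      rw [← h1]; push_cast; ring
    exact_mod_cast h3
  -- the fixed points of `x`
  have hXp : IsPGroup p (Subgroup.zpowers x) := P.2.to_le (Subgroup.zpowers_le.mpr hxP)
  let φ : Subgroup.zpowers x →* MulAut K :=
    (MulAut.conjNormal : G →* MulAut K).comp (Subgroup.zpowers x).subtype
  letI : MulAction (Subgroup.zpowers x) K := MulAction.compHom K φ
  set L₀ := K ⊓ Subgroup.centralizer ({x} : Set G) with hL₀
  have hL₀comm : ∀ z ∈ L₀, x * z = z * x := fun z hz =>
    (Subgroup.mem_centralizer_singleton_iff.mp hz.2).symm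
  have hL₀n : L₀.Normal := by
    refine ⟨fun z hz g => ⟨(inferInstance : K.Normal).conj_mem z hz.1 g, ?_⟩⟩
    obtain ⟨a, ha, c, hc, rfl⟩ := hmemG g
    show a * c * z * (a * c)⁻¹ ∈ Subgroup.centralizer ({x} : Set G)
    rw [Subgroup.mem_centralizer_singleton_iff]
    set z' := c * z * c⁻¹ * z⁻¹ with hz'
    have hzc : ((⁅(⟨c, hc⟩ : K), ⟨z, hz.1⟩⁆ : K) : G) ∈ Subgroup.center G := hZkcent _ (hderiv _
      (Subgroup.commutator_mem_commutator (Subgroup.mem_top _) (Subgroup.mem_top _)))
    have hz'x : Commute x z' := by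
      rw [hz']
      exact Subgroup.mem_center_iff.mp (by simpa [commutatorElement_def] using hzc) x
    have h1 : Commute x (c * z * c⁻¹) := by
      have h2 := hz'x.mul_right (show Commute x z from hL₀comm z hz)
      rwa [hz', inv_mul_cancel_right] at h2
    have h2 : Commute x a := (show Commute a x from hxtoP x rfl a ha).symm
    have h3 := (h2.mul_right h1).mul_right h2.inv_right
    rw [show a * c * z * (a * c)⁻¹ = a * (c * z * c⁻¹) * a⁻¹ by group]
    exact h3.eq.symm
  have hL₀ne : L₀ ≠ K := fun h => hne₀ (hL₀comm c₀ (h.symm ▸ hc₀))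
  have hfix : ∀ z : K, z ∈ MulAction.fixedPoints (Subgroup.zpowers x) K ↔ z ∈ Subgroup.center K := by
    intro z
    rw [MulAction.mem_fixedPoints]
    constructor
    · intro h
      have h1 : x * z * x⁻¹ = z := congrArg Subtype.val (h ⟨x, Subgroup.mem_zpowers _⟩)
      have h2 : (z : G) ∈ L₀ :=
        ⟨z.2, Subgroup.mem_centralizer_singleton_iff.mpr (mul_inv_eq_iff_eq_mul.mp h1).symm⟩
      exact Subgroup.mem_center_iff.mpr fun y => Subtype.ext
        ((hcent L₀ hL₀n inf_le_left hL₀ne).2 _ h2 y y.2).symm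
    · intro hz ⟨y, hy⟩
      apply Subtype.ext
      show y * z * y⁻¹ = z
      rw [Subgroup.mem_center_iff.mp (hZkcent z hz) y, mul_inv_cancel_right]
  have hcount := hXp.card_modEq_card_fixedPoints K
  rw [show Nat.card (MulAction.fixedPoints (Subgroup.zpowers x) K) = Nat.card (Subgroup.center K)
    from Nat.card_congr (Equiv.subtypeEquivRight hfix), ← hcard] at hcount
  have hsq : n * n ≡ 1 [MOD p] := by
    have hcop : p.Coprime (Nat.card (Subgroup.center K)) :=
      (hKp.coprime_dvd_left (Subgroup.card_subgroup_dvd_card _)).symm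
    refine Nat.ModEq.cancel_right_of_coprime hcop ?_
    rwa [one_mul]
  obtain ⟨j, hj⟩ := (haveI := Fact.mk hr; IsPGroup.iff_card.mp hKr)
  obtain ⟨i, -, hi⟩ := (Nat.dvd_prime_pow hr).mp (hj ▸ (hcard ▸
    (dvd_mul_right n n).trans (dvd_mul_right _ _) : n ∣ Nat.card K))
  refine hgood (good_of_sq hp.out ?_ dvd_rfl hsq)
  rw [hi]
  exact hr.isPrimePow.pow fun h0 => hn1 (by rw [hi, h0, pow_zero])

/-- Let the finite solvable group G have a faithful irreducible character of degree n, and suppose that for the prime p a Sylow p-subgroup of G is not normal. Then n is divisible by a prime power q > 1 with q congruent to −1, 0 or 1 modulo p. -/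
theorem result {G : Type*} [Group G] [Finite G] (χ : Cfsg.IrrCharacter G) (hfaith : ∀ g : G, (χ : G → ℂ) g = (χ : G → ℂ) 1 → g = 1) (n : ℕ) (hn : Cfsg.charDegree (χ : G → ℂ) = n) (hsolv : Group.IsSolvable G) (p : ℕ) (hp : p.Prime) (P : Sylow p G) (hP : ¬ (P : Subgroup G).Normal) : ∃ q : ℕ, IsPrimePow q ∧ q ∣ n ∧ ((q : ℤ) ≡ -1 [ZMOD p] ∨ (q : ℤ) ≡ 0 [ZMOD p] ∨ (q : ℤ) ≡ 1 [ZMOD p]) := by
  subst hn
  haveI := Fact.mk hp
  haveI := hsolv
  by_contra hcon
  exact hP (normal_of_not_good _ G rfl χ hfaith hcon P)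

end Cfsg.Agent.S4467
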