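import Cfsg.Statements.S4469
import Cfsg.Agent.Lib.Blichfeldt.Hall

set_option autoImplicit false
open Cfsg

namespace Cfsg.Agent.S4469

theorem pow_dvd_relIndex {G : Type*} [Group G] [Finite G] (A H : Subgroup G) {p : ℕ}
    (hp : p.Prime) (h : ¬ p ∣ H.index) :
    p ^ A.index.factorization p ∣ A.relIndex H := by
  have h1 : A.index ∣ H.index * A.relIndex H := by
    have h2 : (A ⊓ H).relIndex H * H.index = (A ⊓ H).index :=
      Subgroup.relIndex_mul_index inf_le_right
    rw [Subgroup.inf_relIndex_right] at h2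
    rw [mul_comm, h2]
    exact Subgroup.index_dvd_of_le inf_le_left
  exact (Nat.Coprime.pow_left _ (hp.coprime_iff_not_dvd.2 h)).dvd_of_dvd_mul_left
    ((Nat.ordProj_dvd A.index p).trans h1)

/-- The classical bound for finite linear groups, in explicit form. Let the finite group G have a faithful character of degree n. Then G has an abelian normal subgroup whose index is at most n! · 12^(n·(π(n+1)+1)), π(k) denoting the number of primes not exceeding k. -/
theorem result {G : Type*} [Group G] [Finite G] (χ : G → ℂ) (hχ : Cfsg.IsCharacter G χ) (hfaith : ∀ g : G, χ g = χ 1 → g = 1) (n : ℕ) (hn : Cfsg.charDegree χ = n) : ∃ A : Subgroup G, A.Normal ∧ (∀ x ∈ A, ∀ y ∈ A, x * y = y * x) ∧ A.index ≤ Nat.factorial n * 12 ^ (n * (Nat.primeCounting (n + 1) + 1)) := by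
  classical
  obtain ⟨m, ρ, hρχ⟩ := hχ
  have h1 : χ 1 = (m : ℂ) := by
    rw [← hρχ, Representation.char_one, Module.finrank_fin_fun]
  have hmn : m = n := by
    rw [← hn]; unfold Cfsg.charDegree; rw [h1]; simp
  subst hmn
  have hρ : Function.Injective ρ := by
    intro a b hab
    have h2 : ρ (a⁻¹ * b) = 1 := by
      rw [map_mul, ← hab, ← map_mul, inv_mul_cancel, map_one]
    exact inv_mul_eq_one.1 (hfaith (a⁻¹ * b) (by
      rw [← hρχ]
      show LinearMap.trace ℂ _ (ρ (a⁻¹ * b)) = LinearMap.trace ℂ _ (ρ 1)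
      rw [h2, map_one ρ]))
  obtain ⟨A, hAn, hAc, hA⟩ :=
    Cfsg.Agent.Blichfeldt.exists_normal_commutative_index_bound_of_character m ρ hρ
  obtain ⟨H, hHc, hHcard, hHidx⟩ :=
    Cfsg.Agent.Blichfeldt.exists_abelian_hall (N := m) ⟨m, ρ, hρχ⟩ hfaith h1 le_rfl
  refine ⟨A, hAn, hAc, ?_⟩
  have hA0 : A.index ≠ 0 := Subgroup.index_ne_zero_of_finite
  set e := A.index.factorization with he
  set S := A.index.primeFactors with hS
  have hprod : A.index = ∏ p ∈ S, p ^ e p := (Nat.prod_factorization_pow_eq_self hA0).symm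
  rw [hprod, ← Finset.prod_filter_mul_prod_filter_not S (fun p => p ≤ m + 1)]
  have hlarge : ∏ p ∈ S.filter (fun p => ¬ p ≤ m + 1), p ^ e p ≤ 12 ^ m := by
    refine le_trans (Nat.le_of_dvd (Nat.pos_of_ne_zero Subgroup.index_ne_zero_of_finite) ?_) (hA H hHc)
    refine Finset.prod_dvd_of_isRelPrime ?_ ?_
    · intro p hp q hq hpq
      have hp' := Nat.prime_of_mem_primeFactors (Finset.mem_filter.1 hp).1
      have hq' := Nat.prime_of_mem_primeFactors (Finset.mem_filter.1 hq).1
      exact Nat.coprime_iff_isRelPrime.1 (((Nat.coprime_primes hp' hq').2 hpq).pow _ _)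
    · intro p hp
      have hp' := Nat.prime_of_mem_primeFactors (Finset.mem_filter.1 hp).1
      exact pow_dvd_relIndex A H hp' fun hd => (Finset.mem_filter.1 hp).2 (hHidx p hp' hd)
  have hsmall : ∀ p ∈ S.filter (fun p => p ≤ m + 1),
      p ^ e p ≤ p ^ (m.factorial.factorization p) * 12 ^ m := by
    intro p hp
    haveI : Fact p.Prime := ⟨Nat.prime_of_mem_primeFactors (Finset.mem_filter.1 hp).1⟩
    obtain ⟨P⟩ : Nonempty (Sylow p G) := inferInstance
    obtain ⟨B, hBc, hBi⟩ := Cfsg.Agent.Blichfeldt.exists_commutative_index_dvd_factorial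
      P.isPGroup' m (ρ.comp (P : Subgroup G).subtype) (hρ.comp Subtype.val_injective)
    have hd := pow_dvd_relIndex A (P : Subgroup G) Fact.out P.not_dvd_index
    refine (Nat.le_of_dvd (Nat.pos_of_ne_zero Subgroup.index_ne_zero_of_finite) hd).trans ?_
    obtain ⟨k, hk⟩ : ∃ k, B.index = p ^ k := P.isPGroup'.index B
    have hkle : B.index ≤ p ^ (m.factorial.factorization p) := by
      rw [hk] at hBi ⊢
      exact Nat.pow_le_pow_right (Nat.Prime.pos Fact.out)
        (((Fact.out : p.Prime).pow_dvd_iff_le_factorization (Nat.factorial_ne_zero m)).1 hBi)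
    have hBc' : ∀ x ∈ B.map (P : Subgroup G).subtype, ∀ y ∈ B.map (P : Subgroup G).subtype,
        x * y = y * x := by
      rintro _ ⟨x, hx, rfl⟩ _ ⟨y, hy, rfl⟩
      rw [← map_mul, ← map_mul, hBc x hx y hy]
    have h12 := hA _ hBc'
    have h3 : A.relIndex (P : Subgroup G) ≤
        (A ⊓ B.map (P : Subgroup G).subtype).relIndex (P : Subgroup G) :=
      Nat.le_of_dvd (Nat.pos_of_ne_zero Subgroup.index_ne_zero_of_finite)
        (Subgroup.relIndex_dvd_of_le_left _ inf_le_left)
    refine h3.trans ?_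
    rw [← Subgroup.relIndex_mul_relIndex _ (B.map (P : Subgroup G).subtype) _ inf_le_right
      (Subgroup.map_subtype_le B), Subgroup.inf_relIndex_right, mul_comm]
    refine Nat.mul_le_mul ?_ h12
    rw [Subgroup.relIndex, Subgroup.subgroupOf, Subgroup.comap_map_eq_self_of_injective
      (Subtype.val_injective)]
    exact hkle
  have hfact : ∏ p ∈ S.filter (fun p => p ≤ m + 1), p ^ (m.factorial.factorization p)
      ≤ m.factorial := by
    refine Nat.le_of_dvd (Nat.factorial_pos m) (Finset.prod_dvd_of_isRelPrime ?_ ?_)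
    · intro p hp q hq hpq
      have hp' := Nat.prime_of_mem_primeFactors (Finset.mem_filter.1 hp).1
      have hq' := Nat.prime_of_mem_primeFactors (Finset.mem_filter.1 hq).1
      exact Nat.coprime_iff_isRelPrime.1 (((Nat.coprime_primes hp' hq').2 hpq).pow _ _)
    · intro p hp
      exact Nat.ordProj_dvd _ _
  have hcount : (S.filter (fun p => p ≤ m + 1)).card ≤ Nat.primeCounting (m + 1) := by
    unfold Nat.primeCounting Nat.primeCounting'
    rw [Nat.count_eq_card_filter_range]
    refine Finset.card_le_card fun p hp => ?_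
    rw [Finset.mem_filter] at hp ⊢
    exact ⟨Finset.mem_range.2 (by omega), Nat.prime_of_mem_primeFactors hp.1⟩
  calc (∏ p ∈ S.filter (fun p => p ≤ m + 1), p ^ e p) *
        ∏ p ∈ S.filter (fun p => ¬ p ≤ m + 1), p ^ e p
      ≤ ((∏ p ∈ S.filter (fun p => p ≤ m + 1), p ^ (m.factorial.factorization p)) *
          (12 ^ m) ^ (S.filter (fun p => p ≤ m + 1)).card) * 12 ^ m := by
        refine Nat.mul_le_mul ?_ hlarge
        rw [← Finset.prod_const, ← Finset.prod_mul_distrib]
        exact Finset.prod_le_prod' hsmall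
    _ ≤ (m.factorial * (12 ^ m) ^ (Nat.primeCounting (m + 1))) * 12 ^ m := by
        refine Nat.mul_le_mul (Nat.mul_le_mul hfact ?_) le_rfl
        exact Nat.pow_le_pow_right (pow_pos (by norm_num) _) hcount
    _ = Nat.factorial m * 12 ^ (m * (Nat.primeCounting (m + 1) + 1)) := by
        rw [mul_add, mul_one, pow_add, pow_mul]; ring

end Cfsg.Agent.S4469
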