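import Cfsg.Statements.S4471
import Cfsg.Agent.Lib.DegreeBelowTwoP.Monomial

set_option autoImplicit false
open Cfsg

namespace Cfsg.Agent.S4471

/-- Let p ≥ 7 be a prime and let the finite group G have a faithful irreducible character of degree n with n < 2p and n ≠ p. If the Sylow p-subgroups of G are non-abelian then p² does not divide the index of O_p(G) in G; consequently, in every case G/O_p(G) has abelian Sylow p-subgroups. -/
theorem result {G : Type*} [Group G] [Finite G] (χ : Cfsg.IrrCharacter G) (hfaith : ∀ g : G, (χ : G → ℂ) g = (χ : G → ℂ) 1 → g = 1) (n : ℕ) (hn : Cfsg.charDegree (χ : G → ℂ) = n) (p : ℕ) (hp : p.Prime) (h7 : 7 ≤ p) (hn2 : n < 2 * p) (hnp : n ≠ p) : ((∃ P : Sylow p G, ∃ x ∈ (P : Subgroup G), ∃ y ∈ (P : Subgroup G), x * y ≠ y * x) → ¬ p ^ 2 ∣ (Cfsg.pCore p G).index) ∧ ∀ Q : Sylow p (G ⧸ Cfsg.pCore p G), ∀ x ∈ (Q : Subgroup (G ⧸ Cfsg.pCore p G)), ∀ y ∈ (Q : Subgroup (G ⧸ Cfsg.pCore p G)), x * y = y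 * x := by
  classical
  haveI : Fact p.Prime := ⟨hp⟩
  have hn' : (χ : G → ℂ) 1 = n := by rw [← Agent.Blocks.charDegree_cast, hn]
  have main : (∃ P : Sylow p G, ∃ x ∈ (P : Subgroup G), ∃ y ∈ (P : Subgroup G), x * y ≠ y * x) →
      ¬ p ^ 2 ∣ (Cfsg.pCore p G).index := by
    rintro ⟨P, x, hx, y, hy, hxy⟩
    exact Agent.DegreeBelowTwoP.index_pCore_factorization hfaith hn' h7 hn2 hnp P
      fun h => hxy (congrArg Subtype.val (h ⟨x, hx⟩ ⟨y, hy⟩))
  refine ⟨main, fun Q => ?_⟩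
  by_cases hE : ∃ P : Sylow p G, ∃ x ∈ (P : Subgroup G), ∃ y ∈ (P : Subgroup G), x * y ≠ y * x
  · have h1 := main hE
    rw [Subgroup.index_eq_card] at h1
    obtain ⟨k, hk⟩ := (IsPGroup.iff_card (p := p)).mp Q.isPGroup'
    have hk1 : k ≤ 1 := by
      by_contra h2
      exact h1 ((pow_dvd_pow p (by omega : 2 ≤ k)).trans (hk ▸ Subgroup.card_subgroup_dvd_card _))
    have : IsCyclic (Q : Subgroup (G ⧸ Cfsg.pCore p G)) := by
      interval_cases k
      · rw [pow_zero] at hk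
        haveI := (Nat.card_eq_one_iff_unique.mp hk).1
        infer_instance
      · exact isCyclic_of_prime_card (hk.trans (pow_one p))
    intro x hx y hy
    exact congrArg Subtype.val ((IsCyclic.isMulCommutative (α := (Q : Subgroup (G ⧸ Cfsg.pCore p G)))).is_comm.comm ⟨x, hx⟩ ⟨y, hy⟩)
  · push Not at hE
    obtain ⟨P⟩ := (inferInstance : Nonempty (Sylow p G))
    obtain ⟨g, hg⟩ := MulAction.exists_smul_eq (G ⧸ Cfsg.pCore p G)
      (P.mapSurjective (QuotientGroup.mk'_surjective (Cfsg.pCore p G))) Q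
    intro x hx y hy
    rw [← hg] at hx hy
    obtain ⟨x', ⟨x'', hx'', rfl⟩, rfl⟩ := hx
    obtain ⟨y', ⟨y'', hy'', rfl⟩, rfl⟩ := hy
    refine ((MulAut.conj g).map_mul _ _).symm.trans (Eq.trans (congrArg (MulAut.conj g) ?_) ((MulAut.conj g).map_mul _ _))
    exact (map_mul _ _ _).symm.trans ((congrArg _ (hE P x'' hx'' y'' hy'')).trans (map_mul _ _ _))

end Cfsg.Agent.S4471
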