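import Cfsg.Statements.S4488
import Cfsg.Agent.Lib.CharApp.PGroupBound
import Cfsg.Agent.Lib.RealBlock.Central
import Cfsg.Agent.Lib.Blocks.Defect
import Mathlib.NumberTheory.Cyclotomic.Basic

set_option autoImplicit false
set_option linter.style.haveILetI false
open Cfsg

namespace Cfsg.Agent.S4488

open Cfsg Cfsg.Agent.CharApp.PGroupBound Cfsg.Agent

/-- A fixing exponent of a nontrivial irreducible character of a `p`-group is `1` modulo `p`. -/
theorem modEq_one_of_fixed {P : Type*} [Group P] [Finite P] {p a : ℕ} (hp : p.Prime) (hP : Nat.card P = p ^ a)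
    (φ : IrrCharacter P) (hne : Codegree.kerSub φ ≠ ⊤) {k : ℕ} (hk : ∀ g : P, (φ : P → ℂ) (g ^ k) = (φ : P → ℂ) g) :
    k ≡ 1 [MOD p] := by
  have := Fact.mk hp
  obtain ⟨ψ, hψ⟩ := Codegree.exists_quot φ (Codegree.kerSub φ) le_rfl
  have hk' : ∀ q : P ⧸ Codegree.kerSub φ, (ψ : P ⧸ Codegree.kerSub φ → ℂ) (q ^ k) = (ψ : P ⧸ Codegree.kerSub φ → ℂ) q := by
    intro q
    induction q using QuotientGroup.induction_on with
    | H g => rw [← QuotientGroup.mk_pow, hψ, hψ, hk]
  have hfaith : ∀ q : P ⧸ Codegree.kerSub φ, (ψ : P ⧸ Codegree.kerSub φ → ℂ) q = (ψ : P ⧸ Codegree.kerSub φ → ℂ) 1 → q = 1 := by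
    intro q hq
    induction q using QuotientGroup.induction_on with
    | H g =>
      rw [hψ, ← QuotientGroup.mk_one, hψ] at hq
      exact (QuotientGroup.eq_one_iff g).mpr hq
  haveI : Nontrivial (P ⧸ Codegree.kerSub φ) := QuotientGroup.nontrivial_iff.mpr hne
  have hpg : IsPGroup p (P ⧸ Codegree.kerSub φ) := (IsPGroup.of_card hP).to_quotient _
  haveI := hpg.center_nontrivial
  have hdvd : p ∣ Nat.card (Subgroup.center (P ⧸ Codegree.kerSub φ)) := by
    obtain ⟨i, hi⟩ := (hpg.to_subgroup (Subgroup.center _)).exists_card_eq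
    rcases Nat.eq_zero_or_pos i with rfl | h
    · rw [pow_zero] at hi
      exact absurd hi (Finite.one_lt_card.ne')
    · rw [hi]; exact dvd_pow_self p h.ne'
  obtain ⟨⟨z, hzc⟩, hz⟩ := exists_prime_orderOf_dvd_card' p hdvd
  rw [← Subgroup.orderOf_coe] at hz
  obtain ⟨n, ρ, hρ, hψρ⟩ := ψ.2
  haveI := CharApp.nontrivial_of_irr ρ
  obtain ⟨c, hc⟩ := CharApp.exists_scalar_of_mem_center ρ hzc
  have hpow : ∀ i : ℕ, (ψ : P ⧸ Codegree.kerSub φ → ℂ) (z ^ i) = c ^ i * (Module.finrank ℂ (Fin n → ℂ) : ℂ) := by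
    intro i
    rw [← hψρ]
    show LinearMap.trace ℂ _ (ρ (z ^ i)) = _
    rw [map_pow, hc, smul_pow, one_pow, map_smul, LinearMap.trace_one, smul_eq_mul]
  have hn0 : (Module.finrank ℂ (Fin n → ℂ) : ℂ) ≠ 0 := CharApp.finrank_cast_ne_zero ρ
  have hcp : c ^ p = 1 := by
    have h := hpow p
    rw [← hz, pow_orderOf_eq_one, ← hψρ, Representation.char_one, hz] at h
    exact mul_right_cancel₀ hn0 (h.symm.trans (one_mul _).symm)
  have hc1 : c ≠ 1 := by
    intro h
    have h1 := hfaith z (by rw [← pow_one z, hpow, h, one_pow, one_mul, ← hψρ, Representation.char_one])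
    subst h1
    simp at hz
    exact hp.ne_one hz.symm
  have hck : c ^ k = c ^ 1 := by
    have h := hk' z
    rw [hpow, show (ψ : P ⧸ Codegree.kerSub φ → ℂ) z = c ^ 1 * (Module.finrank ℂ (Fin n → ℂ) : ℂ) by rw [← hpow, pow_one]] at h
    exact mul_right_cancel₀ hn0 h
  have hc0 : c ≠ 0 := fun h => by rw [h, zero_pow hp.ne_zero] at hcp; exact zero_ne_one hcp
  have hord : orderOf c = p := orderOf_eq_prime hcp hc1
  have hu : (Units.mk0 c hc0) ^ k = (Units.mk0 c hc0) ^ 1 := Units.ext (by simpa using hck)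
  rw [pow_eq_pow_iff_modEq, ← orderOf_units, Units.val_mk0, hord] at hu
  exact hu

open scoped Classical in
/-- The size of an orbit. -/
theorem exists_card_orb {P : Type*} [Group P] [Finite P] {p a : ℕ} (hp : p.Prime) (hP : Nat.card P = p ^ a)
    (ha : a ≠ 0) (φ : IrrCharacter P) (hne : Codegree.kerSub φ ≠ ⊤) :
    ∃ t, Nat.card (orb p (φ : P → ℂ)) = (p - 1) * p ^ t := by
  have := Fact.mk hp
  haveI : NeZero (p ^ a) := ⟨(pow_pos hp.pos a).ne'⟩
  haveI : Finite (orb p (φ : P → ℂ)) := (orb_finite hP φ.2).to_subtype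
  have hcast : ∀ (g : P) (k l : ℕ), (k : ZMod (p ^ a)) = l → g ^ k = g ^ l := fun g k l h => by
    rw [← pow_mod_natCard g k, ← pow_mod_natCard g l, hP, (ZMod.natCast_eq_natCast_iff' k l _).mp h]
  let H : Subgroup (ZMod (p ^ a))ˣ :=
    { carrier := {u | ∀ g : P, (φ : P → ℂ) (g ^ (u : ZMod (p ^ a)).val) = (φ : P → ℂ) g}
      one_mem' := fun g => by
        show (φ : P → ℂ) (g ^ ((1 : (ZMod (p ^ a))ˣ) : ZMod (p ^ a)).val) = _
        rw [hcast g _ 1 (by simp), pow_one]
      mul_mem' := fun {u v} hu hv g => by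
        rw [hcast g _ ((u : ZMod (p ^ a)).val * (v : ZMod (p ^ a)).val) (by simp), pow_mul]
        exact (hv _).trans (hu g)
      inv_mem' := fun {u} hu g => by
        refine ((hu (g ^ ((u⁻¹ : (ZMod (p ^ a))ˣ) : ZMod (p ^ a)).val)).symm.trans ?_)
        rw [← pow_mul, hcast g _ 1 (by simp), pow_one] }
  have hle : ∀ u ∈ H, ((u : ZMod (p ^ a)).val : ZMod p) = 1 := fun u hu => by
    have h := modEq_one_of_fixed hp hP φ hne hu
    rw [← ZMod.natCast_eq_natCast_iff] at h
    simpa using h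
  have hco : ∀ u : (ZMod (p ^ a))ˣ, (u : ZMod (p ^ a)).val.Coprime p := fun u =>
    (Nat.coprime_pow_right_iff (Nat.pos_of_ne_zero ha) _ _).mp (ZMod.val_coe_unit_coprime u)
  let F : (ZMod (p ^ a))ˣ ⧸ H → orb p (φ : P → ℂ) := fun q =>
    ⟨fun g => (φ : P → ℂ) (g ^ (q.out : ZMod (p ^ a)).val), _, hco q.out, rfl⟩
  have hout : ∀ (u : (ZMod (p ^ a))ˣ) (g : P), (φ : P → ℂ) (g ^ (((u : (ZMod (p ^ a))ˣ ⧸ H).out : (ZMod (p ^ a))ˣ) : ZMod (p ^ a)).val) =
      (φ : P → ℂ) (g ^ (u : ZMod (p ^ a)).val) := by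
    intro u g
    obtain ⟨h, hh⟩ := QuotientGroup.mk_out_eq_mul H u
    rw [hh, hcast g _ ((u : ZMod (p ^ a)).val * ((h : (ZMod (p ^ a))ˣ) : ZMod (p ^ a)).val) (by simp), pow_mul]
    exact h.2 _
  have hF : Function.Bijective F := by
    refine ⟨fun q q' h => ?_, ?_⟩
    · rw [← QuotientGroup.out_eq' q, ← QuotientGroup.out_eq' q', QuotientGroup.eq]
      intro g
      have h' := congrFun (congrArg Subtype.val h) (g ^ ((q.out⁻¹ : (ZMod (p ^ a))ˣ) : ZMod (p ^ a)).val)
      simp only [F, ← pow_mul] at h'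
      rw [hcast g (((q.out⁻¹ : (ZMod (p ^ a))ˣ) : ZMod (p ^ a)).val * (q.out : ZMod (p ^ a)).val) 1 (by simp),
        pow_one] at h'
      rw [h']
      refine congrArg (φ : P → ℂ) (hcast g _ _ ?_)
      simp
    · rintro ⟨ψ, k, hk, rfl⟩
      refine ⟨((ZMod.unitOfCoprime k (hk.pow_right a)) : (ZMod (p ^ a))ˣ ⧸ H), Subtype.ext (funext fun g => ?_)⟩
      rw [show (F _ : P → ℂ) g = _ from hout _ g]
      refine congrArg (φ : P → ℂ) (hcast g _ _ ?_)
      simp
  rw [← Nat.card_eq_of_bijective F hF]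
  let red : (ZMod (p ^ a))ˣ →* (ZMod p)ˣ := Units.map (ZMod.castHom (dvd_pow_self p ha) (ZMod p)).toMonoidHom
  have hker : H ≤ red.ker := fun u hu => by
    refine Units.ext ?_
    show ZMod.castHom (dvd_pow_self p ha) (ZMod p) (u : ZMod (p ^ a)) = 1
    rw [← hle u hu, ← map_natCast (ZMod.castHom (dvd_pow_self p ha) (ZMod p)), ZMod.natCast_zmod_val]
  have hsurj : Function.Surjective red := ZMod.unitsMap_surjective (dvd_pow_self p ha)
  have hcard : Nat.card (ZMod (p ^ a))ˣ = (p - 1) * p ^ (a - 1) := by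
    rw [Nat.card_eq_fintype_card, ZMod.card_units_eq_totient, Nat.totient_prime_pow hp (Nat.pos_of_ne_zero ha), mul_comm]
  have hkc : red.ker.index = p - 1 := by
    rw [Subgroup.index_ker, MonoidHom.range_eq_top.mpr hsurj, Subgroup.card_top, Nat.card_eq_fintype_card, ZMod.card_units]
  have hkcard : Nat.card red.ker = p ^ (a - 1) := by
    have h := red.ker.card_mul_index
    rw [hcard, hkc, mul_comm] at h
    exact Nat.eq_of_mul_eq_mul_left (Nat.sub_pos_of_lt hp.one_lt) h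
  have hrel : H.relIndex red.ker ∣ p ^ (a - 1) := hkcard ▸ Subgroup.index_dvd_card _
  obtain ⟨t, -, ht⟩ := (Nat.dvd_prime_pow hp).mp hrel
  refine ⟨t, ?_⟩
  rw [← Subgroup.index_eq_card, ← Subgroup.relIndex_mul_index hker, hkc, ht, mul_comm]

theorem sum_floor_mono {p n : ℕ} {ι : Type*} (s : Finset ι) (m : ι → ℕ) (h : ∑ x ∈ s, m x ≤ n) (R : Finset ℕ) :
    ∑ x ∈ s, ∑ i ∈ R, m x / ((p - 1) * p ^ i) ≤ ∑ i ∈ R, n / ((p - 1) * p ^ i) := by
  rw [Finset.sum_comm]
  refine Finset.sum_le_sum fun i _ => le_trans ?_ (Nat.div_le_div_right h)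
  clear h
  induction s using Finset.cons_induction with
  | empty => simp
  | cons a s ha ih =>
    rw [Finset.sum_cons, Finset.sum_cons]
    exact (Nat.add_le_add le_rfl ih).trans Nat.div_add_div_le_add_div

theorem bound_le {p f k t a n : ℕ} (hp : p.Prime) (hf : f = p ^ k) (hn : (p - 1) * p ^ t * f ≤ n)
    (h : (p - 1) * a ≤ (f - 1) + (p - 1) * (t + 1) * f) :
    a ≤ ∑ i ∈ Finset.range (n + 1), (p - 1) * p ^ t * f / ((p - 1) * p ^ i) := by
  obtain ⟨q, rfl⟩ : ∃ q, p = q + 1 := ⟨p - 1, by have := hp.one_le; omega⟩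
  rw [Nat.add_sub_cancel] at *
  have hq : 0 < q := by have := hp.two_le; omega
  subst hf
  rw [mul_assoc, ← pow_add] at hn ⊢
  have hterm : ∀ i ∈ Finset.range (t + k + 1), q * (q + 1) ^ (t + k) / (q * (q + 1) ^ i) = (q + 1) ^ (t + k - i) := by
    intro i hi
    rw [Nat.mul_div_mul_left _ _ hq, Nat.pow_div (by rw [Finset.mem_range] at hi; omega) (Nat.succ_pos q)]
  have hle : t + k < n + 1 := by
    have h1 : t + k ≤ (q + 1) ^ (t + k) := (Nat.lt_pow_self hp.one_lt).le
    have h2 := Nat.le_mul_of_pos_left ((q + 1) ^ (t + k)) hq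
    omega
  refine le_trans ?_ (Finset.sum_le_sum_of_subset (Finset.range_subset_range.mpr hle))
  rw [Finset.sum_congr rfl hterm, show ∑ i ∈ Finset.range (t + k + 1), (q + 1) ^ (t + k - i) =
    ∑ i ∈ Finset.range (t + k + 1), (q + 1) ^ i from by
      conv_rhs => rw [← Finset.sum_range_reflect]
      exact Finset.sum_congr rfl fun i _ => by simp]
  refine Nat.le_of_mul_le_mul_left ?_ hq
  refine le_trans h ?_
  have hg := geom_sum_mul_add q (t + k + 1)
  have hb : 1 + q * (t + 1) ≤ (q + 1) ^ (t + 1) := by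
    clear hg h hn hle hterm
    induction t with
    | zero => simp; omega
    | succ t ih =>
      have h1 : 1 ≤ (q + 1) ^ (t + 1) := Nat.one_le_pow _ _ (Nat.succ_pos q)
      rw [pow_succ]
      nlinarith [Nat.mul_le_mul_left q h1]
  have h1 : 1 ≤ (q + 1) ^ k := Nat.one_le_pow _ _ (Nat.succ_pos q)
  have h3 := Nat.mul_le_mul_right ((q + 1) ^ k) hb
  rw [← pow_add, show t + 1 + k = t + k + 1 by ring] at h3
  rw [mul_comm q (∑ i ∈ Finset.range (t + k + 1), (q + 1) ^ i)]
  rw [add_mul, one_mul] at h3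
  omega

/-- Let the finite group G have a faithful p-rational character χ of degree n (all values of χ lie in the field generated over ℚ by a root of unity of order prime to p), and let p^a be the order of a Sylow p-subgroup of G. Then a ≤ Σ_{i ≥ 0} ⌊n / ((p − 1)·p^i)⌋ (a finite sum; the terms vanish once (p − 1)p^i > n). -/
theorem result {G : Type*} [Group G] [Finite G] (p : ℕ) (hp : p.Prime) (χ : G → ℂ) (hχ : Cfsg.IsCharacter G χ) (hfaith : ∀ g : G, χ g = χ 1 → g = 1) (hrat : (∃ r : ℕ, 0 < r ∧ ¬ p ∣ r ∧ ∀ g : G, χ g ∈ IntermediateField.adjoin ℚ ({Complex.exp (2 * Real.pi * Complex.I / r)} : Set ℂ))) (n : ℕ) (hn : Cfsg.charDegree χ = n) : (Nat.card G).factorization p ≤ ∑ i ∈ Finset.range (n + 1), n / ((p - 1) * p ^ i) := by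
  classical
  have := Fact.mk hp
  obtain ⟨r, hr, hpr, hmem⟩ := hrat
  obtain ⟨P⟩ : Nonempty (Sylow p G) := inferInstance
  set a := (Nat.card G).factorization p with hadef
  have hP : Nat.card (P : Subgroup G) = p ^ a := P.card_eq_multiplicity
  rcases Nat.eq_zero_or_pos a with ha0 | ha
  · simp [ha0]
  have := Fintype.ofFinite G
  have := Fintype.ofFinite (P : Subgroup G)
  have := Fintype.ofFinite (IrrCharacter (P : Subgroup G))
  set ψ : ↥(P : Subgroup G) → ℂ := fun g => χ g with hψdef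
  have hψ : IsCharacter (P : Subgroup G) ψ := Char.IsCharacter.restrict hχ _
  obtain ⟨m, hm, hmi⟩ := Char.IsCharacter.decompose hψ
  -- the restriction is rational
  have hfix : ∀ k : ℕ, k.Coprime p → ∀ g : (P : Subgroup G), ψ (g ^ k) = ψ g := by
    intro k hk g
    have hco : Nat.Coprime (p ^ a) r := (hp.coprime_iff_not_dvd.mpr hpr).pow_left a
    obtain ⟨k', hk1, hk2⟩ := Nat.chineseRemainder hco k 1
    have hk'N : k'.Coprime (p ^ a * r) := by
      refine Nat.Coprime.mul_right ?_ ?_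
      · rw [Nat.coprime_iff_gcd_eq_one, Nat.ModEq.gcd_eq hk1]; exact (hk.pow_right a)
      · rw [Nat.coprime_iff_gcd_eq_one, Nat.ModEq.gcd_eq hk2, Nat.gcd_one_left]
    obtain ⟨σ, hσ⟩ := GaloisPow.exists_ringAut (Nat.mul_ne_zero (pow_pos hp.pos a).ne' hr.ne') hk'N
    have hω := Complex.isPrimitiveRoot_exp r hr.ne'
    set ω := Complex.exp (2 * Real.pi * Complex.I / r)
    have hσω : σ ω = ω := by
      rw [hσ ω (by rw [mul_comm, pow_mul, hω.pow_eq_one, one_pow]), pow_eq_pow_mod k' hω.pow_eq_one, hk2,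
        ← pow_eq_pow_mod 1 hω.pow_eq_one, pow_one]
    have hfixE : ∀ z ∈ IntermediateField.adjoin ℚ ({ω} : Set ℂ), σ z = z := by
      intro z hz
      induction hz using IntermediateField.adjoin_induction with
      | mem x hx => rw [Set.mem_singleton_iff.mp hx]; exact hσω
      | algebraMap x => exact map_ratCast σ x
      | add x y _ _ hx hy => rw [map_add, hx, hy]
      | inv x _ hx => rw [map_inv₀, hx]
      | mul x y _ _ hx hy => rw [map_mul, hx, hy]
    obtain ⟨d, ρ, hρ⟩ := hψ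
    obtain ⟨b, μ, hμ, hroot⟩ := Char.exists_eigenbasis ρ g
    have h1 : σ (ψ g) = ψ (g ^ k') := by
      rw [← hρ, Char.character_eq_sum_eigenvalues ρ g b μ hμ, Char.character_pow ρ g b μ hμ, map_sum]
      refine Finset.sum_congr rfl fun i _ => hσ _ ?_
      obtain ⟨c, hc⟩ := orderOf_dvd_natCard g
      rw [pow_mul, ← hP, hc, pow_mul, hroot, one_pow, one_pow]
    have h2 : g ^ k' = g ^ k := by rw [← pow_mod_natCard g k', hP, hk1, ← hP, pow_mod_natCard]
    rw [← h2, ← h1]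
    exact hfixE _ (hmem _)
  have hminv : ∀ (φ φ' : IrrCharacter (P : Subgroup G)), (φ' : ↥(P : Subgroup G) → ℂ) ∈ orb p (φ : ↥(P : Subgroup G) → ℂ) →
      m φ' = m φ := by
    rintro φ φ' ⟨k, hk, he⟩
    apply Nat.cast_injective (R := ℂ)
    rw [← hmi, ← hmi, he, classInner, classInner]
    congr 1
    refine Fintype.sum_equiv (powCoprime (coprime_card hP hk).symm) _ _ fun g => ?_
    rw [powCoprime_apply, hfix k hk]
  have hker : ∀ (φ φ' : IrrCharacter (P : Subgroup G)), (φ' : ↥(P : Subgroup G) → ℂ) ∈ orb p (φ : ↥(P : Subgroup G) → ℂ) →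
      Codegree.kerSub φ' = Codegree.kerSub φ := by
    rintro φ φ' ⟨k, hk, he⟩
    ext g
    rw [Codegree.mem_kerSub, he]
    simp only [one_pow]
    exact eq_one_of_kernel_pow hP hk φ
  let S := {φ : IrrCharacter (P : Subgroup G) // m φ ≠ 0 ∧ Codegree.kerSub φ ≠ ⊤}
  have hrefl : ∀ φ : IrrCharacter (P : Subgroup G), (φ : ↥(P : Subgroup G) → ℂ) ∈ orb p (φ : ↥(P : Subgroup G) → ℂ) :=
    fun φ => ⟨1, Nat.coprime_one_left p, funext fun g => by rw [pow_one]⟩
  let st : Setoid S := Setoid.ker fun φ : S => orb p (φ.1 : ↥(P : Subgroup G) → ℂ)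
  have horb : ∀ (φ φ' : IrrCharacter (P : Subgroup G)), (φ' : ↥(P : Subgroup G) → ℂ) ∈ orb p (φ : ↥(P : Subgroup G) → ℂ) →
      orb p (φ' : ↥(P : Subgroup G) → ℂ) = orb p (φ : ↥(P : Subgroup G) → ℂ) := by
    rintro φ φ' ⟨k, hk, he⟩
    obtain ⟨l, hl⟩ := Nat.exists_mul_mod_eq_one_of_coprime (hk := Nat.one_lt_pow ha.ne' hp.one_lt) (hk.pow_right a)
    have hlp : l.Coprime p := (Nat.Coprime.coprime_mul_left (k := k)
      ((Nat.coprime_pow_right_iff ha _ _).mp (by rw [Nat.coprime_iff_gcd_eq_one, Nat.gcd_comm, Nat.gcd_rec, hl.2, Nat.gcd_one_left])))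
    ext f
    constructor
    · rintro ⟨j, hj, rfl⟩
      exact ⟨j * k, hj.mul_left hk, funext fun g => by rw [he, pow_mul]⟩
    · rintro ⟨j, hj, rfl⟩
      refine ⟨j * l, hj.mul_left hlp, funext fun g => ?_⟩
      rw [he]
      show (φ : ↥(P : Subgroup G) → ℂ) (g ^ j) = (φ : ↥(P : Subgroup G) → ℂ) ((g ^ (j * l)) ^ k)
      rw [← pow_mul, mul_assoc, mul_comm l k, pow_mul, ← pow_mod_natCard (g ^ j) (k * l), hP, hl.2, pow_one]
  let Q := Quotient st
  have : Fintype Q := Fintype.ofFinite Q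
  let rep : Q → IrrCharacter (P : Subgroup G) := fun q => q.out.1
  have hrepS : ∀ q : Q, m (rep q) ≠ 0 ∧ Codegree.kerSub (rep q) ≠ ⊤ := fun q => q.out.2
  choose t ht using fun q => exists_card_orb hp hP ha.ne' (rep q) (hrepS q).2
  let f : Q → ℕ := fun q => charDegree (rep q : ↥(P : Subgroup G) → ℂ)
  -- kernels meet trivially
  have hbot : (⨅ q : Q, Codegree.kerSub (rep q)) = ⊥ := by
    rw [eq_bot_iff]
    intro g hg
    rw [Subgroup.mem_iInf] at hg
    rw [Subgroup.mem_bot]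
    refine Subtype.ext (hfaith _ ?_)
    show ψ g = ψ 1
    rw [hm]
    simp only [Finset.sum_apply, Pi.smul_apply, smul_eq_mul]
    refine Finset.sum_congr rfl fun φ _ => ?_
    by_cases h0 : m φ = 0
    · simp [h0]
    refine congrArg _ ?_
    by_cases htop : Codegree.kerSub φ = ⊤
    · exact Codegree.mem_kerSub.mp (htop ▸ Subgroup.mem_top g)
    have hq : Codegree.kerSub φ = Codegree.kerSub (rep ⟦⟨φ, h0, htop⟩⟧) := by
      refine hker _ _ ?_
      rw [show orb p (rep ⟦⟨φ, h0, htop⟩⟧ : ↥(P : Subgroup G) → ℂ) = orb p (φ : ↥(P : Subgroup G) → ℂ) from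
        Quotient.exact (Quotient.out_eq (⟦⟨φ, h0, htop⟩⟧ : Q))]
      exact hrefl φ
    exact Codegree.mem_kerSub.mp (hq ▸ hg _)
  choose A hA using fun q => (Nat.dvd_prime_pow hp).mp (hP ▸ (Codegree.kerSub (rep q)).card_quotient_dvd_card)
  have haA : a ≤ ∑ q, A q := by
    have h := Subgroup.index_iInf_le (fun q : Q => Codegree.kerSub (rep q))
    rw [hbot, Subgroup.index_bot, hP, Finset.prod_congr rfl (fun q _ => by
      rw [Subgroup.index_eq_card, (hA q).2]), Finset.prod_pow_eq_pow_sum] at h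
    exact (Nat.pow_le_pow_iff_right hp.one_lt).mp h
  have htotal : ∑ q : Q, (p - 1) * p ^ t q * f q ≤ n := by
    have h1 : n = ∑ φ : IrrCharacter (P : Subgroup G), m φ * charDegree (φ : ↥(P : Subgroup G) → ℂ) := by
      apply Nat.cast_injective (R := ℂ)
      rw [← hn, RealBlock.charDegree_cast hχ]
      push_cast
      have := congrFun hm 1
      simp only [Finset.sum_apply, Pi.smul_apply, smul_eq_mul] at this
      rw [show χ 1 = ψ 1 from rfl, this]
      exact Finset.sum_congr rfl fun φ _ => by rw [Blocks.charDegree_cast]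
    let T : Q → Finset (IrrCharacter (P : Subgroup G)) := fun q =>
      Finset.univ.filter fun φ => (φ : ↥(P : Subgroup G) → ℂ) ∈ orb p (rep q : ↥(P : Subgroup G) → ℂ)
    have hTcard : ∀ q, (T q).card = (p - 1) * p ^ t q := fun q => by
      rw [← ht q, ← Nat.card_eq_finsetCard]
      refine Nat.card_eq_of_bijective (fun φ => ⟨(φ.1 : ↥(P : Subgroup G) → ℂ), (Finset.mem_filter.mp φ.2).2⟩) ⟨?_, ?_⟩
      · intro φ φ' h
        exact Subtype.ext (Subtype.ext (congrArg Subtype.val h :))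
      · rintro ⟨g, hg⟩
        obtain ⟨φ, rfl⟩ := orb_subset hP (rep q).2 hg
        exact ⟨⟨φ, Finset.mem_filter.mpr ⟨Finset.mem_univ _, hg⟩⟩, rfl⟩
    have hdeg : ∀ q, ∀ φ ∈ T q, f q ≤ m φ * charDegree (φ : ↥(P : Subgroup G) → ℂ) := by
      intro q φ hφ
      obtain ⟨k, hk, he⟩ := (Finset.mem_filter.mp hφ).2
      have h2 : charDegree (φ : ↥(P : Subgroup G) → ℂ) = f q := by
        simp only [charDegree, f, he, one_pow]
      rw [h2]
      refine Nat.le_mul_of_pos_left _ (Nat.pos_of_ne_zero ?_)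
      rw [hminv _ _ (Finset.mem_filter.mp hφ).2]
      exact (hrepS q).1
    rw [h1]
    refine le_trans ?_ (Finset.sum_le_sum_of_subset (Finset.subset_univ (Finset.univ.biUnion T)))
    rw [Finset.sum_biUnion]
    · refine Finset.sum_le_sum fun q _ => ?_
      rw [← hTcard, ← smul_eq_mul, ← Finset.sum_const]
      exact Finset.sum_le_sum (hdeg q)
    · intro q _ q' _ hne
      rw [Function.onFun, Finset.disjoint_left]
      intro φ hφ hφ'
      refine hne ?_
      rw [← Quotient.out_eq q, ← Quotient.out_eq q']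
      exact Quotient.sound ((horb _ _ (Finset.mem_filter.mp hφ).2).symm.trans (horb _ _ (Finset.mem_filter.mp hφ').2))
  refine haA.trans (le_trans (Finset.sum_le_sum fun q _ => ?_) (sum_floor_mono Finset.univ _ htotal _))
  have hq := hrepS q
  obtain ⟨φ, hφ⟩ := Codegree.exists_quot (rep q) (Codegree.kerSub (rep q)) le_rfl
  obtain ⟨k, -, hk⟩ := (Nat.dvd_prime_pow hp).mp (hP ▸ Codegree.deg_dvd_card (rep q))
  refine bound_le hp hk ((Finset.single_le_sum (f := fun q => (p - 1) * p ^ t q * f q)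
    (fun _ _ => Nat.zero_le _) (Finset.mem_univ q)).trans htotal) ?_
  refine order_bound hp (A q) _ (hA q).2 φ (f q) (t q) ?_ ?_ ?_
  · intro x hx
    induction x using QuotientGroup.induction_on with
    | H g =>
      rw [hφ g, ← QuotientGroup.mk_one, hφ 1] at hx
      exact (QuotientGroup.eq_one_iff g).2 hx
  · simp only [charDegree, f]
    rw [← QuotientGroup.mk_one, hφ 1]
  · rw [← ht q]
    haveI : Finite (orb p (rep q : ↥(P : Subgroup G) → ℂ)) := (orb_finite hP (rep q).2).to_subtype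
    have hsurj : ∀ ψ' : orb p (φ : (P : Subgroup G) ⧸ Codegree.kerSub (rep q) → ℂ),
        ∃ φ' : orb p (rep q : ↥(P : Subgroup G) → ℂ), ∀ g : (P : Subgroup G),
          (φ' : ↥(P : Subgroup G) → ℂ) g = (ψ' : (P : Subgroup G) ⧸ Codegree.kerSub (rep q) → ℂ) g := by
      rintro ⟨ψ', k, hk, rfl⟩
      exact ⟨⟨_, k, hk, rfl⟩, fun g => by
        show (rep q : ↥(P : Subgroup G) → ℂ) (g ^ k) = _
        rw [← hφ, QuotientGroup.mk_pow]⟩
    choose R hR using hsurj
    refine Nat.card_le_card_of_injective R fun φ₁ φ₂ e => Subtype.ext (funext fun x => ?_)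
    induction x using QuotientGroup.induction_on with
    | H g => rw [← hR φ₁ g, ← hR φ₂ g, e]

end Cfsg.Agent.S4488
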