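import Cfsg.Statements.S4472
import Cfsg.Agent.EqLemmas
import Cfsg.Agent.S4488
import Cfsg.Agent.S0867
import Cfsg.Agent.Lib.GlauberChar.CyclicExt
import Cfsg.Agent.Lib.CharExtend.PRational
import Cfsg.Agent.Lib.CharApp.Clifford
import Cfsg.Agent.Lib.Blichfeldt.Hall
import Cfsg.Agent.Lib.HallHigman.Transitive

set_option autoImplicit false
open Cfsg

namespace Cfsg.Agent.S4472

set_option linter.style.haveILetI false

open Module
open scoped Pointwise

theorem eq_of_sum_eq {ι : Type*} (s : Finset ι) (z : ι → ℂ) (d : ι → ℝ) (h : ∀ i ∈ s, ‖z i‖ ≤ d i)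
    (he : ∑ i ∈ s, z i = ((∑ i ∈ s, d i : ℝ) : ℂ)) : ∀ i ∈ s, z i = d i := by
  have hre : ∀ i ∈ s, (z i).re ≤ d i := fun i hi => (Complex.re_le_norm _).trans (h i hi)
  have h1 : ∑ i ∈ s, (z i).re = ∑ i ∈ s, d i := by
    rw [← Complex.re_sum, he, Complex.ofReal_re]
  intro i hi
  have h2 := (Finset.sum_eq_sum_iff_of_le hre).mp h1 i hi
  have h3 : ‖z i‖ ≤ (z i).re := h2 ▸ h i hi
  have h4 : (z i).re = ‖z i‖ := le_antisymm (Complex.re_le_norm _) h3
  have h5 : (z i).im = 0 := by
    have h6 := Complex.sq_norm (z i)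
    rw [← h4, Complex.normSq_apply] at h6
    exact mul_self_eq_zero.mp (by nlinarith)
  exact Complex.ext (by rw [h2, Complex.ofReal_re]) (by rw [h5, Complex.ofReal_im])

theorem norm_le_one {A : Type*} [Group A] [Finite A] {θ : A → ℂ} (hθ : Cfsg.IsCharacter A θ) (a : A) :
    ‖θ a‖ ≤ (θ 1).re := by
  obtain ⟨d, ρ, rfl⟩ := hθ
  rw [Representation.char_one, Complex.natCast_re]
  exact Char.norm_character_le ρ a

theorem cast_re_one {A : Type*} [Group A] {θ : A → ℂ} (hθ : Cfsg.IsCharacter A θ) :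
    (((θ 1).re : ℝ) : ℂ) = θ 1 := by
  obtain ⟨d, hd⟩ := Char.IsCharacter.exists_degree hθ
  rw [hd, Complex.natCast_re]
  simp

theorem exists_faithful_quotient {A : Type*} [Group A] [Finite A] {ψ : A → ℂ}
    (hψ : Cfsg.IsCharacter A ψ) :
    ∃ (N : Subgroup A) (_ : N.Normal) (φ : A ⧸ N → ℂ), Cfsg.IsCharacter (A ⧸ N) φ ∧
      (∀ g : A, φ g = ψ g) ∧ (∀ g : A ⧸ N, φ g = φ 1 → g = 1) ∧ ∀ g : A, g ∈ N → ψ g = ψ 1 := by
  obtain ⟨m, ρ, rfl⟩ := hψ
  obtain ⟨N, hN⟩ : ∃ N : Subgroup A, N = MonoidHom.ker ρ := ⟨_, rfl⟩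
  have hNn : N.Normal := hN ▸ MonoidHom.normal_ker ρ
  let τ : Representation ℂ (A ⧸ N) (Fin m → ℂ) := QuotientGroup.lift N ρ (hN ▸ le_refl _)
  refine ⟨N, hNn, τ.character, Char.isCharacter_character τ, fun g => rfl, fun g hg => ?_,
    fun g hg => ?_⟩
  · rw [Representation.char_one] at hg
    have h1 := (Char.character_eq_finrank_iff τ g).1 hg
    induction g using QuotientGroup.induction_on with
    | _ g =>
      rw [QuotientGroup.eq_one_iff]
      subst hN
      exact h1
  · subst hN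
    show LinearMap.trace ℂ _ (ρ g) = LinearMap.trace ℂ _ (ρ 1)
    rw [MonoidHom.mem_ker.1 hg, map_one ρ]

universe u

variable {Γ : Type u} [Group Γ] [Finite Γ] {p : ℕ} [hp : Fact p.Prime] (K : Subgroup Γ) [K.Normal]

/-- An irreducible character of `K` has an extension to its inertia group with a `p`-rational
induced character. -/
theorem exists_piece (hK : (Nat.card K).Coprime p) (hidx : ∃ b : ℕ, K.index = p ^ b)
    (θ : Cfsg.IrrCharacter K) : ∃ ψ : Γ → ℂ, Cfsg.IsCharacter Γ ψ ∧
      ψ 1 = ((CharApp.inertia K (θ : K → ℂ)).index : ℂ) * (θ : K → ℂ) 1 ∧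
      (∀ k : ℕ, k.Coprime (Nat.card Γ) → k ≡ 1 [MOD Nat.card K] → ∀ g, ψ (g ^ k) = ψ g) ∧
      ∀ x : K, ψ (x : Γ) = ψ 1 → ∀ y : Γ,
        CliffordChar.conjFun K y (θ : K → ℂ) x = (θ : K → ℂ) 1 := by
  classical
  haveI := Fintype.ofFinite Γ
  set T := CharApp.inertia K (θ : K → ℂ) with hT
  have hKT : K ≤ T := CharApp.le_inertia K (Char.IsIrrCharacter.isClassFunction θ.2)
  set K' := K.subgroupOf T with hK'
  let e : K' ≃* K := Subgroup.subgroupOfEquivOfLe hKT
  set θ' : K' → ℂ := fun a => (θ : K → ℂ) (e a) with hθ'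
  have hθ'irr : Cfsg.IsIrrCharacter K' θ' := Char.IsIrrCharacter.comp_equiv θ.2 e
  have hθ'c := Char.IsIrrCharacter.isCharacter hθ'irr
  obtain ⟨d, -, hd, hdvd⟩ := Char.IsIrrCharacter.degree_dvd_card hθ'irr
  have hcardK' : Nat.card K' = Nat.card K := Nat.card_congr e.toEquiv
  have hinv : ∀ (g : T) (x : K'),
      θ' ⟨g * x * g⁻¹, Subgroup.Normal.conj_mem inferInstance (x : T) x.2 g⟩ = θ' x := fun g x =>
    (CharApp.mem_inertia_iff K).mp g.2 (e x)
  obtain ⟨b, hb⟩ := hidx
  have hidx' : K'.index ∣ p ^ b := hb ▸ Subgroup.relIndex_dvd_index_of_normal K T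
  have hpd : ∀ m, m ∣ Nat.card K → K'.index.Coprime m := fun m hm =>
    (((hK.coprime_dvd_left hm).symm).pow_left b).coprime_dvd_left hidx'
  have hcop : Nat.Coprime K'.index (Cfsg.detOrder θ' * d) :=
    Nat.Coprime.mul_right (hpd _ (hcardK' ▸ GlauberChar.Cyc.detOrder_dvd θ' hθ'c))
      (hpd _ (hcardK' ▸ hdvd))
  obtain ⟨η, ⟨hη, hηK, hηd⟩, huniq⟩ := S0867.result K' θ' hθ'irr hinv d hd hcop
  have hηc := Char.IsIrrCharacter.isCharacter hη
  have hψc : Cfsg.IsCharacter Γ (Cfsg.indFun T η) := Char.IsCharacter.indFun T hηc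
  have hη1 : η 1 = (θ : K → ℂ) 1 := by
    rw [← OneMemClass.coe_one K', hηK 1, hθ']
    simp
  refine ⟨Cfsg.indFun T η, hψc, by rw [Char.indFun_one_apply, hη1], ?_, ?_⟩
  · intro k hk hk1 g
    obtain ⟨f, hf⟩ := GaloisPow.exists_ringAut Nat.card_pos.ne' hk
    have hfix : (fun a => f (η a)) = η := by
      refine huniq _ (GaloisPow.isIrrCharacter_twist f.toRingHom hη) (fun x => ?_) ?_
      · rw [hηK x, PRational.galois_apply
          (hcardK' ▸ (Subgroup.card_subgroup_dvd_card K : Nat.card K ∣ Nat.card Γ)) f hf hθ'c x]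
        congr 1
        rw [pow_eq_pow_mod k (pow_card_eq_one' (x := x)), hcardK', hk1, ← hcardK',
          ← pow_eq_pow_mod 1 (pow_card_eq_one' (x := x)), pow_one]
      · rw [GlauberChar.detOrder_twist f hηc, hηd]
        exact hcop.coprime_dvd_right (dvd_mul_right _ _)
    rw [← PRational.galois_apply dvd_rfl f hf hψc g, Cfsg.indFun, map_mul, map_inv₀, map_natCast,
      map_sum]
    congr 1
    refine Finset.sum_congr rfl fun y _ => ?_
    by_cases hy : y⁻¹ * g * y ∈ T
    · rw [Char.extendByZero_mem T η hy]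
      exact congrFun hfix _
    · rw [Char.extendByZero_not_mem T η hy, map_zero]
  · intro x hx y
    have hterm : ∀ z : Γ, Cfsg.extendByZero T η (z⁻¹ * (x : Γ) * z) =
        CliffordChar.conjFun K z (θ : K → ℂ) x := by
      intro z
      have hmem : z⁻¹ * (x : Γ) * z ∈ K := by
        simpa using Subgroup.Normal.conj_mem (inferInstance : K.Normal) (x : Γ) x.2 z⁻¹
      rw [CliffordChar.conjFun_apply, Char.extendByZero_mem T η (hKT hmem),
        show (⟨z⁻¹ * (x : Γ) * z, hKT hmem⟩ : T) = ((⟨⟨_, hKT hmem⟩, hmem⟩ : K') : T) from rfl,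
        hηK]
      rfl
    rw [Char.indFun_one_apply, hη1, Cfsg.indFun, Finset.sum_congr rfl fun z _ => hterm z,
      inv_mul_eq_iff_eq_mul₀ (Nat.cast_ne_zero.mpr Nat.card_pos.ne'), ← mul_assoc, ← Nat.cast_mul,
      mul_comm (Nat.card T), T.index_mul_card] at hx
    have hθc := Char.IsIrrCharacter.isCharacter θ.2
    have h := eq_of_sum_eq Finset.univ (fun z => CliffordChar.conjFun K z (θ : K → ℂ) x)
      (fun _ => ((θ : K → ℂ) 1).re) (fun z _ => by
        rw [CliffordChar.conjFun_apply]; exact norm_le_one hθc _) (by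
        rw [hx, Finset.sum_const, Finset.card_univ, ← Nat.card_eq_fintype_card, nsmul_eq_mul,
          Complex.ofReal_mul, Complex.ofReal_natCast, cast_re_one hθc]) y (Finset.mem_univ _)
    exact h.trans (cast_re_one hθc)

/-- A `p`-rational character of degree at most `χ 1` with kernel meeting `K` trivially. -/
theorem exists_prational (hK : (Nat.card K).Coprime p) (hidx : ∃ b : ℕ, K.index = p ^ b)
    (χ : Γ → ℂ) (hχ : Cfsg.IsCharacter Γ χ) (hfaith : ∀ g : Γ, χ g = χ 1 → g = 1) :
    ∃ ψ : Γ → ℂ, Cfsg.IsCharacter Γ ψ ∧ (ψ 1).re ≤ (χ 1).re ∧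
      (∀ k : ℕ, k.Coprime (Nat.card Γ) → k ≡ 1 [MOD Nat.card K] → ∀ g, ψ (g ^ k) = ψ g) ∧
      ∀ x : K, ψ (x : Γ) = ψ 1 → x = 1 := by
  classical
  haveI := Fintype.ofFinite Γ
  haveI := Fintype.ofFinite K
  haveI := Fintype.ofFinite (Cfsg.IrrCharacter K)
  obtain ⟨m, hm, -⟩ := Char.IsCharacter.decompose (Char.IsCharacter.restrict hχ K)
  let st : Setoid {φ : Cfsg.IrrCharacter K // m φ ≠ 0} :=
    { r := fun a b => ∃ y : Γ, CliffordChar.conjFun K y (a.1 : K → ℂ) = (b.1 : K → ℂ)
      iseqv :=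
        { refl := fun a => ⟨1, CliffordChar.conjFun_one K _⟩
          symm := fun {a b} ⟨y, hy⟩ => ⟨y⁻¹, by
            rw [← hy, ← CliffordChar.conjFun_mul, inv_mul_cancel, CliffordChar.conjFun_one]⟩
          trans := fun {a b c} ⟨y, hy⟩ ⟨z, hz⟩ => ⟨z * y, by
            rw [CliffordChar.conjFun_mul, hy, hz]⟩ } }
  haveI : Fintype (Quotient st) := Fintype.ofFinite _
  choose ψ hψc hψ1 hψk hψK using fun q : Quotient st => exists_piece K hK hidx q.out.1
  have hcl : Cfsg.IsClassFunction Γ χ := Char.IsCharacter.isClassFunction hχ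
  -- conjugates of constituents are constituents
  have hconj : ∀ (φ : Cfsg.IrrCharacter K), m φ ≠ 0 → ∀ y : Γ, ∀ φ' : Cfsg.IrrCharacter K,
      CliffordChar.conjFun K y (φ : K → ℂ) = (φ' : K → ℂ) → m φ' ≠ 0 := by
    intro φ hφ y φ' he h0
    obtain ⟨m', hm', hmi'⟩ := Char.IsCharacter.decompose (Char.IsCharacter.restrict hχ K)
    have hmm : m' = m := by
      funext ξ
      apply Nat.cast_injective (R := ℂ)
      rw [← hmi' ξ, hm, Char.classInner_sum_left, Finset.sum_eq_single ξ]
      · rw [Char.classInner_smul_left, Char.classInner_irr_self ξ.2, mul_one]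
      · intro ξ' _ hne
        rw [Char.classInner_smul_left, Char.classInner_irr_of_ne ξ'.2 ξ.2
          (fun h => hne (Subtype.ext h)), mul_zero]
      · intro h; exact absurd (Finset.mem_univ ξ) h
    subst hmm
    have h1 := CliffordChar.classInner_restrict_conjFun K hcl y (φ : K → ℂ)
    rw [he, hmi', hmi', Nat.cast_inj] at h1
    exact hφ (h1 ▸ h0)
  refine ⟨∑ q, ψ q, Char.IsCharacter.sum _ fun q _ => hψc q, ?_, ?_, ?_⟩
  · have h1 : χ 1 = ∑ φ : Cfsg.IrrCharacter K, (m φ : ℂ) * (φ : K → ℂ) 1 := by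
      have := congrFun hm 1
      simpa using this
    rw [Finset.sum_apply, h1, Complex.re_sum, Complex.re_sum]
    have hpos : ∀ φ : Cfsg.IrrCharacter K, 0 ≤ ((φ : K → ℂ) 1).re := fun φ =>
      (norm_nonneg _).trans (norm_le_one (Char.IsIrrCharacter.isCharacter φ.2) 1)
    let E : (Σ q : Quotient st, Γ ⧸ CharApp.inertia K (q.out.1 : K → ℂ)) → Cfsg.IrrCharacter K :=
      fun a => ⟨CliffordChar.conjFun K a.2.out (a.1.out.1 : K → ℂ),
        CliffordChar.isIrr_conjFun K _ a.1.out.1.2⟩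
    haveI : ∀ q : Quotient st, Fintype (Γ ⧸ CharApp.inertia K (q.out.1 : K → ℂ)) :=
      fun q => Fintype.ofFinite _
    have hEm : ∀ a, m (E a) ≠ 0 := fun a => hconj _ a.1.out.2 a.2.out _ rfl
    have hE : Function.Injective E := by
      rintro ⟨q, c⟩ ⟨q', c'⟩ h
      have h' : CliffordChar.conjFun K c.out (q.out.1 : K → ℂ) =
          CliffordChar.conjFun K c'.out (q'.out.1 : K → ℂ) := congrArg Subtype.val h
      have hqq : q = q' := by
        rw [← Quotient.out_eq q, ← Quotient.out_eq q']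
        refine Quotient.sound ⟨c'.out⁻¹ * c.out, ?_⟩
        rw [CliffordChar.conjFun_mul, h', ← CliffordChar.conjFun_mul, inv_mul_cancel,
          CliffordChar.conjFun_one]
      subst hqq
      congr 1
      rw [← QuotientGroup.out_eq' c, ← QuotientGroup.out_eq' c', eq_comm, QuotientGroup.eq,
        CharApp.mem_inertia, CliffordChar.conjFun_mul, h', ← CliffordChar.conjFun_mul,
        inv_mul_cancel, CliffordChar.conjFun_one]
    calc ∑ q, (ψ q 1).re
        = ∑ q : Quotient st, ∑ _c : Γ ⧸ CharApp.inertia K (q.out.1 : K → ℂ),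
            ((q.out.1 : K → ℂ) 1).re := by
          refine Finset.sum_congr rfl fun q _ => ?_
          rw [hψ1, Finset.sum_const, Finset.card_univ, ← Nat.card_eq_fintype_card,
            ← Subgroup.index_eq_card, nsmul_eq_mul, Complex.mul_re, Complex.natCast_re,
            Complex.natCast_im, zero_mul, sub_zero]
      _ = ∑ a : (Σ q : Quotient st, Γ ⧸ CharApp.inertia K (q.out.1 : K → ℂ)),
            ((E a : K → ℂ) 1).re := by
          rw [Fintype.sum_sigma]
          exact Finset.sum_congr rfl fun q _ => Finset.sum_congr rfl fun c _ =>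
            (congrArg Complex.re (CharApp.conjFun_apply_one K _ _)).symm
      _ = ∑ φ ∈ Finset.univ.image E, ((φ : K → ℂ) 1).re := by
          rw [Finset.sum_image fun a _ b _ h => hE h]
      _ ≤ ∑ φ ∈ Finset.univ.image E, ((m φ : ℂ) * (φ : K → ℂ) 1).re := by
          refine Finset.sum_le_sum fun φ hφ => ?_
          obtain ⟨a, -, rfl⟩ := Finset.mem_image.mp hφ
          rw [Complex.mul_re, Complex.natCast_re, Complex.natCast_im, zero_mul, sub_zero]
          exact le_mul_of_one_le_left (hpos _) (by exact_mod_cast Nat.pos_of_ne_zero (hEm a))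
      _ ≤ _ := Finset.sum_le_sum_of_subset_of_nonneg (Finset.subset_univ _) fun φ _ _ => by
          rw [Complex.mul_re, Complex.natCast_re, Complex.natCast_im, zero_mul, sub_zero]
          exact mul_nonneg (Nat.cast_nonneg _) (hpos φ)
  · intro k hk hk1 g
    simp only [Finset.sum_apply]
    exact Finset.sum_congr rfl fun q _ => hψk q k hk hk1 g
  · intro x hx
    rw [Finset.sum_apply, Finset.sum_apply] at hx
    have hq : ∀ q, ψ q (x : Γ) = ψ q 1 := by
      have h := eq_of_sum_eq Finset.univ (fun q => ψ q (x : Γ)) (fun q => (ψ q 1).re)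
        (fun q _ => norm_le_one (hψc q) _) (by
          rw [hx, Complex.ofReal_sum]
          exact Finset.sum_congr rfl fun q _ => (cast_re_one (hψc q)).symm)
      exact fun q => (h q (Finset.mem_univ q)).trans (cast_re_one (hψc q))
    refine Subtype.ext (hfaith _ ?_)
    have h1 := congrFun hm x
    have h2 := congrFun hm 1
    simp only [Finset.sum_apply, Pi.smul_apply, smul_eq_mul, OneMemClass.coe_one] at h1 h2
    rw [h1, h2]
    refine Finset.sum_congr rfl fun φ _ => ?_
    by_cases h0 : m φ = 0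
    · simp [h0]
    obtain ⟨y, hy⟩ := Quotient.mk_out (s := st) ⟨φ, h0⟩
    congr 1
    have h3 := hψK _ x (hq (Quotient.mk st ⟨φ, h0⟩)) y
    rw [hy] at h3
    rw [h3, ← CharApp.conjFun_apply_one K y (((Quotient.mk st ⟨φ, h0⟩).out).1 : K → ℂ), hy]


/-- Let the finite p-solvable group G have a faithful character of degree n, and let p^a be the index of O_p(G) in a Sylow p-subgroup of G (the p-part of [G : O_p(G)]). Then a ≤ Σ_{i ≥ 0} ⌊n / ((p − 1) p^i)⌋ (a finite sum; the terms vanish for p^i > n). -/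
theorem result {G : Type*} [Group G] [Finite G] (χ : G → ℂ) (hχ : Cfsg.IsCharacter G χ) (hfaith : ∀ g : G, χ g = χ 1 → g = 1) (n : ℕ) (hn : Cfsg.charDegree χ = n) (p : ℕ) (hp : p.Prime) (hsolv : Cfsg.IsPSolvable p G) : ((Cfsg.pCore p G).index).factorization p ≤ ∑ i ∈ Finset.range (n + 1), n / ((p - 1) * p ^ i) := by
  classical
  haveI := Fact.mk hp
  set U := Cfsg.pCore p G with hU
  haveI hUn : U.Normal := Cores.pCore_normal p G
  obtain ⟨M, -, hMp, hsup, htop⟩ := HallHigman.frattini_pCore (A := G) (p := p)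
  set NM := Subgroup.normalizer (M : Set G) with hNM
  obtain ⟨R⟩ := (inferInstance : Nonempty (Sylow p NM))
  set Γ := M.subgroupOf NM ⊔ (R : Subgroup NM) with hΓ
  set K := (M.subgroupOf NM).subgroupOf Γ with hK
  haveI : (M.subgroupOf NM).Normal := Subgroup.normal_in_normalizer
  haveI hKn : K.Normal := Subgroup.normal_subgroupOf
  have hMΓ : M.subgroupOf NM ≤ Γ := le_sup_left
  have hMN : M ≤ NM := Subgroup.le_normalizer
  have hKcard : Nat.card K = Nat.card M :=
    (Nat.card_congr (Subgroup.subgroupOfEquivOfLe hMΓ).toEquiv).trans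
      (Nat.card_congr (Subgroup.subgroupOfEquivOfLe hMN).toEquiv)
  have hKp : (Nat.card K).Coprime p := by rw [hKcard]; exact hMp
  have hidx : ∃ b, K.index = p ^ b := by
    let f : (R : Subgroup NM) →* Γ ⧸ K :=
      (QuotientGroup.mk' K).comp (Subgroup.inclusion le_sup_right)
    have hf : Function.Surjective f := by
      intro q
      obtain ⟨⟨z, hz⟩, rfl⟩ := QuotientGroup.mk_surjective q
      obtain ⟨a, ha, b, hb, rfl⟩ := Subgroup.mem_sup_of_normal_left.mp hz
      refine ⟨⟨b, hb⟩, (QuotientGroup.eq_iff_div_mem).mpr ?_⟩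
      show b / (a * b) ∈ M.subgroupOf NM
      rw [div_mul_eq_div_div_swap, div_self', one_div]
      exact inv_mem ha
    obtain ⟨r, hr⟩ := IsPGroup.iff_card.mp R.2
    obtain ⟨b, -, hb⟩ := (Nat.dvd_prime_pow hp).mp (hr ▸ Subgroup.card_dvd_of_surjective f hf)
    exact ⟨b, by rw [Subgroup.index_eq_card, hb]⟩
  set χΓ : Γ → ℂ := fun g => χ (((g : NM) : G)) with hχΓ
  have hχΓc : Cfsg.IsCharacter Γ χΓ := Char.IsCharacter.comp_hom hχ (NM.subtype.comp Γ.subtype)
  obtain ⟨ψ, hψc, hψle, hψrat, hψK⟩ := S4472.exists_prational K hKp hidx χΓ hχΓc fun g hg =>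
    Subtype.ext (Subtype.ext (hfaith _ (by simpa [hχΓ] using hg)))
  obtain ⟨N, hNn, φ, hφc, hφψ, hφf, hNker⟩ := S4472.exists_faithful_quotient hψc
  -- the kernel lies in `U`
  have hNK : ∀ x ∈ N, x ∈ K → x = 1 := fun x hxN hxK =>
    congrArg Subtype.val (hψK ⟨x, hxK⟩ (hNker x hxN))
  obtain ⟨b, hb⟩ := hidx
  have hNp : IsPGroup p N := by
    let f : N →* Γ ⧸ K := (QuotientGroup.mk' K).comp N.subtype
    have hf : Function.Injective f := by
      rw [injective_iff_map_eq_one]
      exact fun x hx => Subtype.ext (hNK _ x.2 ((QuotientGroup.eq_one_iff _).mp hx))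
    exact (IsPGroup.of_card (p := p) (n := b) (by rw [← Subgroup.index_eq_card, hb])).of_injective f hf
  have hNU : ∀ x ∈ N, (((x : NM) : G)) ∈ U := by
    intro x hx
    have hcomm : ∀ k ∈ K, Commute x k := fun k hk =>
      Subgroup.commute_of_normal_of_disjoint N K inferInstance inferInstance
        (Subgroup.disjoint_def.mpr fun {z} h1 h2 => hNK z h1 h2) x k hx hk
    rw [← QuotientGroup.eq_one_iff]
    set π := QuotientGroup.mk' U with hπ
    have hMmap : M.map π = Cfsg.pPrimeCore p (G ⧸ U) := by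
      have h1 := congrArg (Subgroup.map π) hsup
      rw [Subgroup.map_sup] at h1
      rw [show (HallHigman.midCore p G).map π = Cfsg.pPrimeCore p (G ⧸ U) from
        Subgroup.map_comap_eq_self_of_surjective (QuotientGroup.mk'_surjective U) _] at h1
      rw [← h1, show (Cfsg.pCore p G).map π = ⊥ from
        (Subgroup.map_eq_bot_iff _).mpr (by rw [hπ, QuotientGroup.ker_mk']), sup_bot_eq]
    have hxc : π ((x : NM) : G) ∈
        Subgroup.centralizer (Cfsg.pPrimeCore p (G ⧸ U) : Set (G ⧸ U)) := by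
      refine Subgroup.mem_centralizer_iff.mpr fun z hz => ?_
      obtain ⟨k, hk, rfl⟩ := hMmap.symm ▸ hz
      have h1 := (hcomm ⟨⟨k, hMN hk⟩, hMΓ hk⟩ hk).eq
      rw [← map_mul, ← map_mul]
      exact congrArg π (congrArg (fun w : Γ => (((w : NM) : G))) h1).symm
    have hsep : Solvable.IsPiSeparable {q | q ≠ p} (G ⧸ U) := fun N' hN' hne => by
      obtain ⟨M', h1, h2, h3⟩ := (Solvable.isPiSeparable_of_isPSolvable hsolv).quotient U N' hN' hne
      have e1 : ({q | q ≠ p} : Set ℕ)ᶜ = {p} := by ext; simp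
      have e2 : ({q | q ≠ p} : Set ℕ) = ({p} : Set ℕ)ᶜ := by ext; simp
      exact ⟨M', h1, h2, by rw [e1, e2]; exact h3.symm⟩
    have hmem : π ((x : NM) : G) ∈ Cfsg.pPrimeCore p (G ⧸ U) := by
      rw [Cores.pPrimeCore_eq_piCore_ne] at hxc ⊢
      refine Solvable.centralizer_piCore_le hsep ?_ hxc
      rw [show ({q | q ≠ p} : Set ℕ)ᶜ = {p} by ext; simp, ← Cores.pCore_eq_piCore]
      exact Cores.pCore_quotient_self p G
    obtain ⟨j, hj⟩ := hNp ⟨x, hx⟩
    have hj' : π ((x : NM) : G) ^ p ^ j = 1 := by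
      rw [← map_pow, ← map_one π]
      exact congrArg π (congrArg (fun w : N => (((w : Γ) : NM) : G)) hj)
    refine orderOf_eq_one_iff.mp (Nat.eq_one_of_dvd_coprimes
      ((Cores.coprime_card_pPrimeCore (G := G ⧸ U) p).symm.pow_left j)
      (orderOf_dvd_of_pow_eq_one hj') (Subgroup.orderOf_dvd_natCard _ hmem))
  -- the bound on `Γ ⧸ N`
  have hval : ∃ r : ℕ, 0 < r ∧ ¬ p ∣ r ∧ ∀ g : Γ ⧸ N, φ g ∈
      IntermediateField.adjoin ℚ ({Complex.exp (2 * Real.pi * Complex.I / r)} : Set ℂ) := by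
    refine ⟨Nat.card K, Nat.card_pos, fun h => hp.ne_one
      (Nat.eq_one_of_dvd_coprimes hKp h dvd_rfl), fun g => ?_⟩
    obtain ⟨g, rfl⟩ := QuotientGroup.mk_surjective g
    rw [hφψ]
    exact PRational.mem_adjoin_of_pow_invariant hψc g hp (a := b)
      (by rw [← hb, mul_comm, Subgroup.card_mul_index]) (fun h => hp.ne_one
        (Nat.eq_one_of_dvd_coprimes hKp h dvd_rfl)) (fun k hk hk1 => hψrat k hk hk1 g)
  have hbound := S4488.result (G := Γ ⧸ N) p hp φ hφc hφf hval (Cfsg.charDegree φ) rfl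
  have hdeg : Cfsg.charDegree φ ≤ n := by
    rw [← hn]
    refine Nat.floor_le_floor ?_
    rw [← QuotientGroup.mk_one N, hφψ]
    exact hψle
  have hfac : U.index.factorization p ≤ (Nat.card (Γ ⧸ N)).factorization p := by
    have h1 := Subgroup.card_eq_card_quotient_mul_card_subgroup N
    have h2 : Nat.card N ∣ Nat.card (U.subgroupOf NM) := by
      let f : N →* U.subgroupOf NM :=
        { toFun := fun x => ⟨((x : Γ) : NM), hNU _ x.2⟩
          map_one' := rfl
          map_mul' := fun _ _ => rfl }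
      exact Subgroup.card_dvd_of_injective f fun a b h => Subtype.ext (Subtype.ext
        (congrArg (fun w : U.subgroupOf NM => (w : NM)) h))
    have h3 : (Nat.card R).factorization p ≤ (Nat.card Γ).factorization p :=
      (Nat.factorization_le_iff_dvd Nat.card_pos.ne' Nat.card_pos.ne').mpr
        (Subgroup.card_dvd_of_le le_sup_right) p
    have h4 : (Nat.card R).factorization p = (Nat.card NM).factorization p := by
      rw [R.card_eq_multiplicity, hp.factorization_pow, Finsupp.single_eq_same]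
    have h5 : (Nat.card (U.subgroupOf NM)) * U.index = Nat.card NM := by
      rw [← Subgroup.card_mul_index (U.subgroupOf NM)]
      congr 1
      show _ = U.relIndex NM
      rw [← Subgroup.relIndex_sup_left NM U, show U ⊔ NM = ⊤ from htop,
        Subgroup.relIndex_top_right]
    have h6 := (Nat.factorization_le_iff_dvd Nat.card_pos.ne' Nat.card_pos.ne').mpr h2 p
    have h7 : (Nat.card NM).factorization p =
        (Nat.card (U.subgroupOf NM)).factorization p + U.index.factorization p := by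
      rw [← h5, Nat.factorization_mul Nat.card_pos.ne' Subgroup.index_ne_zero_of_finite,
        Finsupp.add_apply]
    have h8 : (Nat.card Γ).factorization p =
        (Nat.card (Γ ⧸ N)).factorization p + (Nat.card N).factorization p := by
      rw [h1, Nat.factorization_mul Nat.card_pos.ne' Nat.card_pos.ne', Finsupp.add_apply]
    omega
  refine hfac.trans (hbound.trans ?_)
  refine le_trans (Finset.sum_le_sum fun i _ => Nat.div_le_div_right hdeg) ?_
  exact Finset.sum_le_sum_of_subset (by simp; omega)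

end Cfsg.Agent.S4472
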