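import Cfsg.Statements.S4475
import Cfsg.Agent.Lib.FSInd.Basic
import Mathlib.LinearAlgebra.Matrix.SesquilinearForm
import Cfsg.Agent.EqLemmas

set_option autoImplicit false
open Cfsg

namespace Cfsg.Agent.S4475

/-- Let ρ be an irreducible representation of the finite group G on the coordinate space Fin n → ℂ whose character χ is real-valued, and let ν be the Frobenius–Schur indicator of χ (the average of χ(s²)). Writing X(g) for the matrix of ρ(g), there is a nonzero matrix M with X(g)ᵀ M X(g) = M for all g ∈ G; and every such M (zero or not) satisfies Mᵀ = ν·M. -/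
theorem result {G : Type*} [Group G] [Fintype G] (n : ℕ) (ρ : Representation ℂ G (Fin n → ℂ)) (hirr : ρ.IsIrreducible) (hreal : ∀ g : G, (ρ.character g).im = 0) : (∃ M : Matrix (Fin n) (Fin n) ℂ, M ≠ 0 ∧ ∀ g : G, (LinearMap.toMatrix' (ρ g)).transpose * M * LinearMap.toMatrix' (ρ g) = M) ∧ ∀ M : Matrix (Fin n) (Fin n) ℂ, (∀ g : G, (LinearMap.toMatrix' (ρ g)).transpose * M * LinearMap.toMatrix' (ρ g) = M) → M.transpose = ((Nat.card G : ℂ)⁻¹ * ∑ s : G, ρ.character (s * s)) • M := by
  classical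
  haveI := hirr
  obtain ⟨ε, hε, hind, hall⟩ := FSInd.sign_cases (ρ := ρ) hreal
  have key : ∀ M : Matrix (Fin n) (Fin n) ℂ,
      (∀ g : G, (LinearMap.toMatrix' (ρ g)).transpose * M * LinearMap.toMatrix' (ρ g) = M) ↔
        FSInd.IsInvForm ρ (Matrix.toLinearMap₂' ℂ M) := by
    intro M
    refine forall_congr' fun g => ⟨fun h u v => ?_, fun h => ?_⟩
    · conv_rhs => rw [← h]
      rw [← LinearMap.toMatrix'_toLin' M]
      simp only [Matrix.toLinearMap₂'_apply', LinearMap.toMatrix'_toLin']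
      rw [← Matrix.mulVec_mulVec, ← Matrix.mulVec_mulVec, LinearMap.toMatrix'_mulVec]
      conv_rhs => rw [Matrix.dotProduct_mulVec, Matrix.vecMul_transpose, LinearMap.toMatrix'_mulVec]
    · have hB : (Matrix.toLinearMap₂' ℂ M).compl₁₂ (ρ g) (ρ g) = Matrix.toLinearMap₂' ℂ M :=
        LinearMap.ext fun u => LinearMap.ext fun v => h u v
      have := congrArg (LinearMap.toMatrix₂' ℂ) hB
      rwa [LinearMap.toMatrix₂'_compl₁₂, LinearMap.toMatrix'_toLinearMap₂'] at this
  refine ⟨?_, fun M hM => ?_⟩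
  · obtain ⟨B, hB, hB0, -⟩ := FSInd.exists_form (ρ := ρ) hreal
    refine ⟨LinearMap.toMatrix₂' ℂ B, fun h => hB0 ((LinearMap.toMatrix₂' ℂ).injective
      (h.trans (map_zero _).symm)), (key _).2 ?_⟩
    rwa [Matrix.toLinearMap₂'_toMatrix']
  · have h := hall _ ((key M).1 hM)
    rw [show ((Nat.card G : ℂ)⁻¹ * ∑ s : G, ρ.character (s * s)) = ε from hind]
    ext i j
    have h2 := h (Pi.single i 1) (Pi.single j 1)
    simp only [Matrix.toLinearMap₂'_apply', single_one_dotProduct, Matrix.mulVec_single_one,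
      Matrix.col_apply] at h2
    simpa [Matrix.transpose_apply, mul_comm] using h2

end Cfsg.Agent.S4475
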