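import Cfsg.Statements.S4476
import Cfsg.Agent.Lib.FSInd.Basic
import Mathlib.GroupTheory.ClassEquation
import Mathlib.Algebra.Order.Chebyshev
import Cfsg.Agent.EqLemmas

set_option autoImplicit false
open Cfsg

namespace Cfsg.Agent.S4476

/-- Let G be a finite group of even order g with exactly t involutions, and put α = (g − 1)/t (a rational number). Then (a) some non-identity element x of G has at most α² conjugates; and (b) some non-principal real-valued irreducible character of G has degree at most α. -/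
theorem result {G : Type*} [Group G] [Fintype G] (heven : Even (Nat.card G)) (t : ℕ) (ht : Nat.card {x : G // orderOf x = 2} = t) : (∃ x : G, x ≠ 1 ∧ ((Subgroup.centralizer ({x} : Set G)).index : ℚ) ≤ (((Nat.card G : ℚ) - 1) / t) ^ 2) ∧ ∃ χ : Cfsg.IrrCharacter G, (χ : G → ℂ) ≠ (fun _ => 1) ∧ (∀ g : G, ((χ : G → ℂ) g).im = 0) ∧ (Cfsg.charDegree (χ : G → ℂ) : ℚ) ≤ ((Nat.card G : ℚ) - 1) / t := by
  classical
  haveI := Fintype.ofFinite (IrrCharacter G)
  obtain ⟨g0, hg0⟩ := exists_prime_orderOf_dvd_card' 2 (even_iff_two_dvd.1 heven)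
  have htpos : 0 < t := by
    rw [← ht]
    haveI : Nonempty {x : G // orderOf x = 2} := ⟨⟨g0, hg0⟩⟩
    exact Nat.card_pos
  have hsq : Nat.card {s : G // s * s = 1} = t + 1 := by
    rw [← ht, Nat.card_eq_fintype_card, Nat.card_eq_fintype_card, Fintype.card_subtype, Fintype.card_subtype]
    rw [show (Finset.univ.filter fun s : G => s * s = 1) =
      insert 1 (Finset.univ.filter fun x : G => orderOf x = 2) from ?_, Finset.card_insert_of_notMem (by simp)]
    ext x
    simp only [Finset.mem_filter, Finset.mem_univ, true_and, Finset.mem_insert, ← pow_two]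
    constructor
    · intro h
      by_cases h1 : x = 1
      · exact Or.inl h1
      · exact Or.inr (orderOf_eq_prime h h1)
    · rintro (rfl | h)
      · exact one_pow 2
      · rw [← h]; exact pow_orderOf_eq_one x
  choose d hd0 hd using fun χ : IrrCharacter G => Char.IsIrrCharacter.exists_degree χ.2
  obtain ⟨one', hone⟩ : ∃ o : IrrCharacter G, (o : G → ℂ) = 1 := ⟨⟨1, Char.isIrrCharacter_one⟩, rfl⟩
  have hd1 : d one' = 1 := by
    have h := hd one'
    rw [hone, Pi.one_apply] at h
    exact_mod_cast h.symm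
  obtain ⟨R, hR⟩ : ∃ R : Finset (IrrCharacter G), R = Finset.univ.filter fun χ : IrrCharacter G =>
      χ ≠ one' ∧ ∀ g : G, ((χ : G → ℂ) g).im = 0 := ⟨_, rfl⟩
  have hν1 : FSInd.fsInd ((one' : IrrCharacter G) : G → ℂ) = 1 := by
    rw [FSInd.fsInd, hone]
    simp [Nat.card_eq_fintype_card]
  have hsum : t ≤ ∑ χ ∈ R, d χ := by
    have h := FSInd.card_sqrt_eq_sum (G := G) 1
    rw [hsq, ← Finset.add_sum_erase _ _ (Finset.mem_univ one'), hν1, hd one', hd1,
      ← Finset.sum_filter_of_ne (p := fun χ : IrrCharacter G => ∀ g : G, ((χ : G → ℂ) g).im = 0)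
        (fun χ _ hne => by
          by_contra hn
          exact hne (by rw [FSInd.fsInd_eq_zero_of_not_real χ.2 hn, zero_mul])),
      show (Finset.univ.erase one').filter (fun χ : IrrCharacter G => ∀ g : G, ((χ : G → ℂ) g).im = 0) = R
        from by ext χ; simp [hR]] at h
    have h' : (t : ℂ) = ∑ χ ∈ R, FSInd.fsInd (χ : G → ℂ) * (d χ : ℂ) := by
      simp only [← hd]
      push_cast at h
      linear_combination h
    have h2 : ((t : ℤ) : ℂ) = ((∑ χ ∈ R, (if FSInd.fsInd (χ : G → ℂ) = 1 then (1 : ℤ) else -1) * d χ : ℤ) : ℂ) := by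
      push_cast
      rw [h']
      refine Finset.sum_congr rfl fun χ hχ => ?_
      rw [hR, Finset.mem_filter] at hχ
      rcases FSInd.fsInd_eq_one_or_neg_one χ.2 hχ.2.2 with e | e <;> norm_num [e]
    rw [Int.cast_inj] at h2
    have h3 : (t : ℤ) ≤ ∑ χ ∈ R, (d χ : ℤ) := h2 ▸ Finset.sum_le_sum fun χ _ => by
      split_ifs <;> omega
    exact_mod_cast h3
  have hsquares : ∑ χ ∈ Finset.univ.erase one', d χ ^ 2 + 1 = Nat.card G := by
    have h := Char.sum_sq_degrees (G := G)
    simp only [hd] at h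
    have h' : ∑ χ : IrrCharacter G, d χ ^ 2 = Nat.card G := by exact_mod_cast h
    rw [← h', ← Finset.add_sum_erase _ _ (Finset.mem_univ one'), hd1, one_pow, add_comm]
  have hRsub : R ⊆ Finset.univ.erase one' := fun χ hχ => by
    rw [hR, Finset.mem_filter] at hχ
    exact Finset.mem_erase.2 ⟨hχ.2.1, Finset.mem_univ _⟩
  have hRsq : ∑ χ ∈ R, d χ ^ 2 + 1 ≤ Nat.card G := by
    rw [← hsquares]
    exact Nat.add_le_add_right (Finset.sum_le_sum_of_subset hRsub) 1
  have hRne : R.Nonempty := by
    rw [Finset.nonempty_iff_ne_empty]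
    intro h
    rw [h, Finset.sum_empty] at hsum
    omega
  have hgα : ∀ a b : ℕ, a * t + b ≤ Nat.card G → 1 ≤ b → (a : ℚ) ≤ ((Nat.card G : ℚ) - 1) / t := by
    intro a b h hb
    rw [le_div_iff₀ (by exact_mod_cast htpos)]
    have h' : (a : ℚ) * t + b ≤ (Nat.card G : ℚ) := by exact_mod_cast h
    have hb' : (1 : ℚ) ≤ b := by exact_mod_cast hb
    linarith
  refine ⟨?_, ?_⟩
  · -- classes
    obtain ⟨k, hk⟩ : ∃ k, Nat.card (ConjClasses G) = k := ⟨_, rfl⟩
    have hkR : R.card + 1 ≤ k := by
      rw [← hk, ← Char.card_irr_eq_card_conjClasses, Nat.card_eq_fintype_card,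
        ← Finset.card_univ, ← Finset.card_erase_add_one (Finset.mem_univ one')]
      exact Nat.add_le_add_right (Finset.card_le_card hRsub) 1
    by_contra hno
    push Not at hno
    haveI : Fintype (ConjClasses G) := Fintype.ofFinite _
    have hcl : ∑ c : ConjClasses G, Nat.card c.carrier = Nat.card G := by
      have h := sum_conjClasses_card_eq_card G
      simp only [Nat.card_eq_fintype_card] at h ⊢
      convert h using 2
      simp
    obtain ⟨α, hα⟩ : ∃ α : ℚ, ((Nat.card G : ℚ) - 1) / t = α := ⟨_, rfl⟩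
    rw [hα] at hno
    have hbig : ∀ c ∈ Finset.univ.erase (ConjClasses.mk (1 : G)), α ^ 2 < (Nat.card c.carrier : ℚ) := by
      intro c hc
      obtain ⟨x, rfl⟩ := ConjClasses.exists_rep c
      · have hx : x ≠ 1 := fun h => (Finset.ne_of_mem_erase hc) (by rw [h])
        have h := hno x hx
        have hcard : Nat.card (ConjClasses.mk x).carrier = (Subgroup.centralizer ({x} : Set G)).index := by
          have e : (ConjClasses.mk x).carrier = {y : G | IsConj x y} := by
            ext y
            rw [ConjClasses.mem_carrier_iff_mk_eq, ConjClasses.mk_eq_mk_iff_isConj]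
            exact ⟨IsConj.symm, IsConj.symm⟩
          rw [e]
          exact Nat.eq_of_mul_eq_mul_right Nat.card_pos ((Char.card_conjugates_mul_card_centralizer x).trans
            (Subgroup.index_mul_card (Subgroup.centralizer ({x} : Set G))).symm)
        rw [hcard]
        exact h
    have h1 : (Nat.card (ConjClasses.mk (1 : G)).carrier : ℕ) = 1 := by
      have : (ConjClasses.mk (1 : G)).carrier = {1} := by
        ext y
        simp [ConjClasses.mem_carrier_iff_mk_eq, ConjClasses.mk_eq_mk_iff_isConj]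
      rw [this]
      simp
    have hne : (Finset.univ.erase (ConjClasses.mk (1 : G))).Nonempty := by
      rw [← Finset.card_pos, Finset.card_erase_of_mem (Finset.mem_univ _), Finset.card_univ,
        ← Nat.card_eq_fintype_card, hk]
      have := hRne.card_pos
      omega
    have hlt := Finset.sum_lt_sum_of_nonempty hne hbig
    rw [Finset.sum_const, Finset.card_erase_of_mem (Finset.mem_univ _), Finset.card_univ,
      ← Nat.card_eq_fintype_card, hk, nsmul_eq_mul] at hlt
    have hrest : (∑ c ∈ Finset.univ.erase (ConjClasses.mk (1 : G)), (Nat.card c.carrier : ℚ)) =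
        (Nat.card G : ℚ) - 1 := by
      have h := hcl
      rw [← Finset.add_sum_erase _ _ (Finset.mem_univ (ConjClasses.mk (1 : G))), h1] at h
      rw [← h]
      push_cast
      ring
    rw [hrest] at hlt
    have hCS : (t : ℚ) ^ 2 ≤ ((k - 1 : ℕ) : ℚ) * ((Nat.card G : ℚ) - 1) := by
      have h2 : t ^ 2 ≤ R.card * ∑ χ ∈ R, d χ ^ 2 :=
        (Nat.pow_le_pow_left hsum 2).trans sq_sum_le_card_mul_sum_sq
      have h3 : (t : ℚ) ^ 2 ≤ (R.card : ℚ) * (∑ χ ∈ R, d χ ^ 2 : ℕ) := by exact_mod_cast h2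
      refine h3.trans (mul_le_mul (by exact_mod_cast (by omega : R.card ≤ k - 1)) ?_ (by positivity) (by positivity))
      have h4 : ((∑ χ ∈ R, d χ ^ 2 : ℕ) : ℚ) + 1 ≤ (Nat.card G : ℚ) := by exact_mod_cast hRsq
      linarith
    have ht' : (0 : ℚ) < t := by exact_mod_cast htpos
    have hG1 : (0 : ℚ) ≤ (Nat.card G : ℚ) - 1 := by
      have : (1 : ℚ) ≤ (Nat.card G : ℚ) := by exact_mod_cast Nat.card_pos (α := G)
      linarith
    have hA : (Nat.card G : ℚ) - 1 = α * t := by rw [← hα]; field_simp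
    rw [hA] at hlt hCS hG1
    have hk0 : (0 : ℚ) ≤ ((k - 1 : ℕ) : ℚ) := Nat.cast_nonneg _
    have hα0 : 0 ≤ α := by
      rw [← hα]
      exact div_nonneg (by linarith) ht'.le
    nlinarith [mul_le_mul_of_nonneg_left hCS hα0]
  · obtain ⟨χ, hχR, hmin⟩ := Finset.exists_min_image R d hRne
    have hχ := hR ▸ hχR
    rw [Finset.mem_filter] at hχ
    refine ⟨χ, fun h => hχ.2.1 (Subtype.ext (h.trans hone.symm)), hχ.2.2, hgα _ 1 ?_ le_rfl⟩
    have e : charDegree (χ : G → ℂ) = d χ := by
      unfold charDegree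
      rw [hd χ]
      simp
    rw [e]
    refine le_trans ?_ hRsq
    refine Nat.add_le_add_right ?_ 1
    calc d χ * t ≤ d χ * ∑ ψ ∈ R, d ψ := Nat.mul_le_mul_left _ hsum
      _ = ∑ ψ ∈ R, d χ * d ψ := Finset.mul_sum _ _ _
      _ ≤ ∑ ψ ∈ R, d ψ ^ 2 := Finset.sum_le_sum fun ψ hψ => by
        rw [pow_two]; exact Nat.mul_le_mul_right _ (hmin ψ hψ)

end Cfsg.Agent.S4476
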