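import Cfsg.Statements.S4478
import Cfsg.Agent.Lib.FSInd.Basic
import Cfsg.Agent.Lib.Char.PRegular
import Cfsg.Agent.Lib.Char.Integral
import Cfsg.Agent.EqLemmas

set_option autoImplicit false
open Cfsg

namespace Cfsg.Agent.S4478

/-- Let G be a finite group of even order and χ an irreducible character of G whose degree x is divisible by the full power of 2 dividing the order of G and, for every odd prime p such that G has an element of order 2p, by the full power of p dividing the order of G. Then all involutions of G are conjugate, the centralizer of every involution has order exactly x with x coprime to its index, and the Frobenius–Schur indicator of χ equals 1. -/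
theorem result {G : Type*} [Group G] [Fintype G] (heven : Even (Nat.card G)) (χ : Cfsg.IrrCharacter G) (h2 : 2 ^ (Nat.card G).factorization 2 ∣ Cfsg.charDegree (χ : G → ℂ)) (hp : ∀ p : ℕ, p.Prime → p ≠ 2 → (∃ g : G, orderOf g = 2 * p) → p ^ (Nat.card G).factorization p ∣ Cfsg.charDegree (χ : G → ℂ)) : (∀ s t : G, orderOf s = 2 → orderOf t = 2 → IsConj s t) ∧ (∀ s : G, orderOf s = 2 → Nat.card (Subgroup.centralizer ({s} : Set G)) = Cfsg.charDegree (χ : G → ℂ) ∧ (Nat.card (Subgroup.centralizer ({s} : Set G))).Coprime (Subgroup.centralizer ({s} : Set G)).index) ∧ (Nat.card G : ℂ)⁻¹ * ∑ g : G, (χ : G → ℂ) (g * g) = 1 := by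
  classical
  obtain ⟨x, hx0, hx, hxdvd⟩ := Char.IsIrrCharacter.degree_dvd_card χ.2
  have hcd : charDegree (χ : G → ℂ) = x := by unfold charDegree; rw [hx]; simp
  rw [hcd] at h2 hp ⊢
  have hG0 : Nat.card G ≠ 0 := Nat.card_pos.ne'
  have hfull : ∀ q : ℕ, q.Prime → (q = 2 ∨ ∃ g : G, orderOf g = 2 * q) →
      q ^ (Nat.card G).factorization q ∣ x := by
    intro q hq h
    by_cases hq2 : q = 2
    · rw [hq2]; exact h2
    · exact hp q hq hq2 (h.resolve_left hq2)
  have hvan : ∀ q : ℕ, q.Prime → (q = 2 ∨ ∃ g : G, orderOf g = 2 * q) → ∀ g : G, q ∣ orderOf g →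
      (χ : G → ℂ) g = 0 := fun q hq h g hg =>
    Char.vanishes_of_defect_zero hq χ.2 hx ((hq.pow_dvd_iff_le_factorization hx0.ne').1 (hfull q hq h)) g hg
  -- `χ (s²) = 0` unless `s` is an involution or has odd order
  have hsq : ∀ s : G, (χ : G → ℂ) (s * s) =
      (if Odd (orderOf s) then (χ : G → ℂ) (s * s) else 0) + if orderOf s = 2 then (x : ℂ) else 0 := by
    intro s
    by_cases ho : Odd (orderOf s)
    · rw [if_pos ho, if_neg (fun h => by rw [h] at ho; exact absurd ho (by decide)), add_zero]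
    by_cases h2s : orderOf s = 2
    · rw [if_neg ho, if_pos h2s, zero_add, ← hx, ← pow_two, ← h2s, pow_orderOf_eq_one]
    rw [if_neg ho, if_neg h2s, add_zero]
    have hev : 2 ∣ orderOf s := even_iff_two_dvd.1 (Nat.not_odd_iff_even.1 ho)
    obtain ⟨k, hk⟩ := hev
    have hk1 : k ≠ 1 := fun h => h2s (by rw [hk, h])
    obtain ⟨q, hq, hqk⟩ := Nat.exists_prime_and_dvd hk1
    obtain ⟨m, hm⟩ := hqk
    have hord : orderOf (s * s) = k := by
      rw [← pow_two, orderOf_pow, hk, Nat.gcd_mul_right_left, Nat.mul_div_cancel_left _ two_pos]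
    refine hvan q hq ?_ (s * s) (hord ▸ hm ▸ dvd_mul_right q m)
    refine Or.inr ⟨s ^ m, ?_⟩
    have hm0 : 0 < m := Nat.pos_of_ne_zero fun h => by
      rw [h, mul_zero] at hm; rw [hm, mul_zero] at hk; exact (orderOf_pos s).ne' hk
    rw [orderOf_pow, hk, hm, ← mul_assoc, Nat.gcd_mul_left_left, Nat.mul_div_cancel _ hm0]
  -- the odd part sums to zero
  have hnontriv : (χ : G → ℂ) ≠ fun _ => 1 := by
    intro h
    have h1 : x = 1 := by
      have h' := congrFun h 1
      rw [hx] at h'
      exact_mod_cast h'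
    rw [h1, Nat.dvd_one, Nat.pow_eq_one] at h2
    rcases h2 with h2 | h2
    · exact absurd h2 (by decide)
    · exact absurd h2 ((Nat.Prime.factorization_pos_of_dvd Nat.prime_two hG0 (even_iff_two_dvd.1 heven)).ne')
  have hodd : ∑ s : G, (if Odd (orderOf s) then (χ : G → ℂ) (s * s) else 0) = 0 := by
    have h1 : ∑ s : G, (if Odd (orderOf s) then (χ : G → ℂ) (s * s) else 0) =
        ∑ u : G, (if Odd (orderOf u) then (χ : G → ℂ) u else 0) := by
      rw [← Finset.sum_filter, ← Finset.sum_filter]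
      have hsqo : ∀ s : G, Odd (orderOf s) → orderOf (s * s) = orderOf s := fun s hs => by
        rw [← pow_two, Nat.Coprime.orderOf_pow (Nat.coprime_two_right.2 hs)]
      refine Finset.sum_bij' (fun s _ => s * s) (fun u _ => u ^ ((orderOf u + 1) / 2))
        (fun s hs => ?_) (fun u hu => ?_) (fun s hs => ?_) (fun u hu => ?_) (fun s hs => rfl)
      · simp only [Finset.mem_filter, Finset.mem_univ, true_and] at hs ⊢
        rw [hsqo s hs]; exact hs
      · simp only [Finset.mem_filter, Finset.mem_univ, true_and] at hu ⊢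
        exact hu.of_dvd_nat (orderOf_pow_dvd _)
      · simp only [Finset.mem_filter, Finset.mem_univ, true_and] at hs
        obtain ⟨j, hj⟩ := hs
        show (s * s) ^ ((orderOf (s * s) + 1) / 2) = s
        rw [hsqo s ⟨j, hj⟩, hj, show (2 * j + 1 + 1) / 2 = j + 1 by omega, ← pow_two, ← pow_mul,
          show 2 * (j + 1) = orderOf s + 1 by omega, pow_add, pow_orderOf_eq_one, one_mul, pow_one]
      · simp only [Finset.mem_filter, Finset.mem_univ, true_and] at hu
        obtain ⟨j, hj⟩ := hu
        show u ^ ((orderOf u + 1) / 2) * u ^ ((orderOf u + 1) / 2) = u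
        rw [← pow_add, hj, show (2 * j + 1 + 1) / 2 + (2 * j + 1 + 1) / 2 = orderOf u + 1 by omega, pow_add,
          pow_orderOf_eq_one, one_mul, pow_one]
    rw [h1]
    have h := Char.classInner_irr_of_ne χ.2 Char.isIrrCharacter_one hnontriv
    rw [classInner, mul_eq_zero] at h
    have h' := h.resolve_left (inv_ne_zero (Nat.cast_ne_zero.2 hG0))
    simp only [Pi.one_apply, map_one, mul_one] at h'
    refine Eq.trans ?_ h'
    refine Finset.sum_congr rfl fun u _ => ?_
    split_ifs with ho
    · rfl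
    · exact (hvan 2 Nat.prime_two (Or.inl rfl) u (even_iff_two_dvd.1 (Nat.not_odd_iff_even.1 ho))).symm
  obtain ⟨t, ht⟩ : ∃ t, Nat.card {s : G // orderOf s = 2} = t := ⟨_, rfl⟩
  have htpos : 0 < t := by
    obtain ⟨g0, hg0⟩ := exists_prime_orderOf_dvd_card' 2 (even_iff_two_dvd.1 heven)
    rw [← ht]
    haveI : Nonempty {s : G // orderOf s = 2} := ⟨⟨g0, hg0⟩⟩
    exact Nat.card_pos
  have hsum : ∑ g : G, (χ : G → ℂ) (g * g) = (t : ℂ) * x := by
    rw [Finset.sum_congr rfl fun s _ => hsq s, Finset.sum_add_distrib, hodd, zero_add, ← Finset.sum_filter,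
      Finset.sum_const, nsmul_eq_mul, ← ht, Nat.card_eq_fintype_card, Fintype.card_subtype]
  have hν : FSInd.fsInd (χ : G → ℂ) = 1 := by
    have hne : FSInd.fsInd (χ : G → ℂ) ≠ 0 := by
      rw [FSInd.fsInd, hsum]
      refine mul_ne_zero (inv_ne_zero (Nat.cast_ne_zero.2 hG0)) (mul_ne_zero ?_ ?_)
      · exact Nat.cast_ne_zero.2 htpos.ne'
      · exact Nat.cast_ne_zero.2 hx0.ne'
    rcases FSInd.fsInd_eq_one_or_neg_one χ.2 (FSInd.real_of_fsInd_ne_zero χ.2 hne) with h | h
    · exact h
    · exfalso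
      rw [FSInd.fsInd, hsum, inv_mul_eq_iff_eq_mul₀ (Nat.cast_ne_zero.2 hG0)] at h
      have h' : ((t * x : ℕ) : ℤ) = -((Nat.card G : ℕ) : ℤ) := by
        have : (((t * x : ℕ) : ℤ) : ℂ) = ((-((Nat.card G : ℕ) : ℤ) : ℤ) : ℂ) := by
          push_cast; linear_combination h
        exact_mod_cast this
      have : 0 < t * x := Nat.mul_pos htpos hx0
      omega
  have hgtx : t * x = Nat.card G := by
    have h := hν
    rw [FSInd.fsInd, hsum, inv_mul_eq_iff_eq_mul₀ (Nat.cast_ne_zero.2 hG0), mul_one] at h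
    exact_mod_cast h
  have hC : ∀ s : G, orderOf s = 2 → Nat.card (Subgroup.centralizer ({s} : Set G)) ∣ x := by
    intro s hs
    have hc0 : Nat.card (Subgroup.centralizer ({s} : Set G)) ≠ 0 := Nat.card_pos.ne'
    rw [← Nat.factorization_le_iff_dvd hc0 hx0.ne']
    intro q
    by_cases hq : q.Prime
    swap
    · simp [Nat.factorization_eq_zero_of_not_prime _ hq]
    by_cases hqd : q ∣ Nat.card (Subgroup.centralizer ({s} : Set G))
    swap
    · rw [Nat.factorization_eq_zero_of_not_dvd hqd]; exact Nat.zero_le _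
    haveI := Fact.mk hq
    refine ((Nat.factorization_le_iff_dvd hc0 hG0).2 (Subgroup.card_subgroup_dvd_card _) q).trans ?_
    refine (hq.pow_dvd_iff_le_factorization hx0.ne').1 (hfull q hq ?_)
    by_cases hq2 : q = 2
    · exact Or.inl hq2
    obtain ⟨y, hy⟩ := exists_prime_orderOf_dvd_card' q hqd
    refine Or.inr ⟨s * (y : G), ?_⟩
    have hcomm : Commute s (y : G) := (Subgroup.mem_centralizer_singleton_iff.1 y.2).symm
    rw [hcomm.orderOf_mul_eq_mul_orderOf_of_coprime, hs, Subgroup.orderOf_coe, hy]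
    rw [hs, Subgroup.orderOf_coe, hy]
    exact (Nat.coprime_primes Nat.prime_two hq).2 (Ne.symm hq2)
  have hclass : ∀ s : G, orderOf s = 2 → Nat.card (Subgroup.centralizer ({s} : Set G)) = x ∧
      ∀ u : G, orderOf u = 2 → IsConj s u := by
    intro s hs
    have hsub : {u : G | IsConj s u} ⊆ {u : G | orderOf u = 2} := fun u hu => by
      obtain ⟨c, rfl⟩ := isConj_iff.1 hu
      show orderOf (c * s * c⁻¹) = 2
      rw [show c * s * c⁻¹ = MulAut.conj c s from rfl, MulEquiv.orderOf_eq, hs]
    have hle : Nat.card {u : G | IsConj s u} ≤ t := by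
      rw [← ht]; exact Nat.card_mono (Set.toFinite _) hsub
    have hmul := Char.card_conjugates_mul_card_centralizer s
    have hcx : Nat.card (Subgroup.centralizer ({s} : Set G)) ≤ x := Nat.le_of_dvd hx0 (hC s hs)
    have hpos : 0 < Nat.card (Subgroup.centralizer ({s} : Set G)) := Nat.card_pos
    have hcx' : Nat.card (Subgroup.centralizer ({s} : Set G)) = x := by
      refine le_antisymm hcx (Nat.le_of_mul_le_mul_left ?_ htpos)
      rw [hgtx, ← hmul]
      exact Nat.mul_le_mul_right _ hle
    refine ⟨hcx', fun u hu => ?_⟩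
    have hcard : Nat.card {u : G | IsConj s u} = t := by
      rw [hcx', ← hgtx] at hmul
      exact Nat.eq_of_mul_eq_mul_right hx0 hmul
    have heq : {u : G | IsConj s u} = {u : G | orderOf u = 2} := Set.eq_of_subset_of_ncard_le hsub (by
      rw [← Nat.card_coe_set_eq, ← Nat.card_coe_set_eq, hcard, ← ht]
      exact le_rfl)
    exact (Set.ext_iff.1 heq u).2 hu
  refine ⟨fun s u hs hu => (hclass s hs).2 u hu, fun s hs => ⟨(hclass s hs).1, ?_⟩, hν⟩
  refine Nat.coprime_of_dvd fun q hq hq1 hq2 => ?_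
  haveI := Fact.mk hq
  have hfq : q ^ (Nat.card G).factorization q ∣ x := by
    refine hfull q hq ?_
    by_cases hq2' : q = 2
    · exact Or.inl hq2'
    obtain ⟨y, hy⟩ := exists_prime_orderOf_dvd_card' q hq1
    refine Or.inr ⟨s * (y : G), ?_⟩
    have hcomm : Commute s (y : G) := (Subgroup.mem_centralizer_singleton_iff.1 y.2).symm
    rw [hcomm.orderOf_mul_eq_mul_orderOf_of_coprime, hs, Subgroup.orderOf_coe, hy]
    rw [hs, Subgroup.orderOf_coe, hy]
    exact (Nat.coprime_primes Nat.prime_two hq).2 (Ne.symm hq2')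
  have h1 : q ^ ((Nat.card G).factorization q + 1) ∣ Nat.card G := by
    rw [pow_succ]
    conv_rhs => rw [← Subgroup.card_mul_index (Subgroup.centralizer ({s} : Set G)), (hclass s hs).1]
    exact Nat.mul_dvd_mul hfq hq2
  have := (hq.pow_dvd_iff_le_factorization hG0).1 h1
  omega

end Cfsg.Agent.S4478
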