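import Cfsg.Statements.S4483
import Cfsg.Agent.Lib.RealBlock.Principal
import Cfsg.Agent.Lib.RealBlock.BlockSet
import Cfsg.Agent.Lib.GaloisPow.Twist
import Cfsg.Agent.Lib.CharApp.Galois
import Cfsg.Agent.Lib.Char.Brauer
import Cfsg.Agent.Lib.Char.Monomial
import Cfsg.Agent.Lib.Cores.Basic
import Cfsg.Agent.Lib.Transfer.Residual

set_option autoImplicit false
open Cfsg

namespace Cfsg.Agent.S4483

open Cfsg
open scoped ComplexConjugate

universe u

theorem exists_odd_core (E : Type u) [Group E] [Finite E] [Group.IsNilpotent E] :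
    ∃ (O : Subgroup E) (j : ℕ), O.Normal ∧ O.index = 2 ^ j ∧ ∀ x : E, x ∈ O ↔ Odd (orderOf x) := by
  have hn : (Cfsg.pPrimeCore 2 E).Normal := Subgroup.sSup_normal _ fun _ h => h.1
  have hco : (Nat.card (Cfsg.pPrimeCore 2 E)).Coprime 2 := Cores.coprime_card_pPrimeCore 2
  obtain ⟨j, hj⟩ : ∃ j, (Cfsg.pPrimeCore 2 E).index = 2 ^ j := by
    refine ⟨_, Nat.eq_prime_pow_of_unique_prime_dvd Subgroup.index_ne_zero_of_finite fun {q} hq hd => ?_⟩
    by_contra hq2
    have := Fact.mk hq
    obtain ⟨Q⟩ : Nonempty (Sylow q E) := inferInstance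
    have hQn : (Q : Subgroup E).Normal := Sylow.normal_of_normalizerCondition Group.normalizerCondition_of_isNilpotent Q
    have hle : (Q : Subgroup E) ≤ Cfsg.pPrimeCore 2 E := by
      refine le_sSup ⟨hQn, ?_⟩
      obtain ⟨i, hi⟩ := IsPGroup.iff_card.mp Q.2
      rw [hi]
      exact ((Nat.coprime_primes hq Nat.prime_two).mpr hq2).pow_left i
    exact Q.not_dvd_index (hd.trans (Subgroup.index_dvd_of_le hle))
  refine ⟨_, j, hn, hj, fun x => (Transfer.mem_iff_coprime_orderOf hco hj x).trans ?_⟩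
  exact Nat.coprime_two_right

/-- `2 ^ n` times the indicator of the elements of odd order is a generalized character. -/
theorem isGeneralizedCharacter_odd (G : Type u) [Group G] [Fintype G] :
    IsGeneralizedCharacter G (fun g : G => if Odd (orderOf g) then (2 : ℂ) ^ (Nat.card G).factorization 2 else 0) := by
  classical
  refine Char.brauer_characterization (fun g h => ?_) fun E q hq hE => ?_
  · have e : orderOf (h * g * h⁻¹) = orderOf g := (MulAut.conj h).orderOf_eq g
    simp only [e]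
  have := Char.isNilpotent_of_isElementary hq hE
  obtain ⟨O, j, hO, hj, hmem⟩ := exists_odd_core E
  have hjn : j ≤ (Nat.card G).factorization 2 := by
    rw [← Nat.prime_two.pow_dvd_iff_le_factorization Nat.card_pos.ne', ← hj]
    exact (O.index_dvd_card).trans (Subgroup.card_subgroup_dvd_card E)
  have e : (fun x : E => if Odd (orderOf (x : G)) then (2 : ℂ) ^ (Nat.card G).factorization 2 else 0) =
      (((2 ^ ((Nat.card G).factorization 2 - j) : ℕ) : ℤ) : ℂ) • Cfsg.indFun O (fun _ => 1) := by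
    funext x
    have hind : Cfsg.indFun O (fun _ : O => (1 : ℂ)) x = if x ∈ O then (O.index : ℂ) else 0 := by
      have hc : ∀ y : E, y⁻¹ * x * y ∈ O ↔ x ∈ O := fun y =>
        ⟨fun h => by simpa [mul_assoc] using hO.conj_mem _ h y, fun h => by simpa using hO.conj_mem _ h y⁻¹⟩
      rw [indFun]
      split_ifs with hx
      · rw [Finset.sum_congr rfl (g := fun _ => (1 : ℂ)) fun y _ => Char.extendByZero_mem _ _ ((hc y).mpr hx),
          Finset.sum_const, Finset.card_univ, nsmul_eq_mul, mul_one, ← Nat.card_eq_fintype_card,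
          ← O.card_mul_index, Nat.cast_mul, inv_mul_cancel_left₀ (Nat.cast_ne_zero.mpr Nat.card_pos.ne')]
      · rw [Finset.sum_eq_zero fun y _ => Char.extendByZero_not_mem _ _ fun h => hx ((hc y).mp h), mul_zero]
    rw [Pi.smul_apply, hind, Subgroup.orderOf_coe]
    simp only [hmem]
    split_ifs
    · rw [hj, smul_eq_mul]; push_cast; rw [← pow_add, Nat.sub_add_cancel hjn]
    · rw [smul_zero]
  rw [e]
  exact Char.IsGeneralizedCharacter.intCast_smul (Char.IsGeneralizedCharacter.indFun
    (Char.isGeneralizedCharacter_of_isCharacter Char.isCharacter_one)) _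

/-- Let G be a finite group of order 2^n·g₀ with g₀ odd, and M a maximal ideal of the algebraic integers containing 2. Every real-valued irreducible character of G of odd degree lies in the principal 2-block; consequently G has at most 2^(2n) real-valued irreducible characters of odd degree. -/
theorem result {G : Type*} [Group G] [Finite G] (M : Ideal Cfsg.AlgInt) (hM : Cfsg.IsPModular 2 M) : (∀ χ : Cfsg.IrrCharacter G, (∀ g : G, ((χ : G → ℂ) g).im = 0) → Odd (Cfsg.charDegree (χ : G → ℂ)) → χ ∈ Cfsg.principalBlock M G) ∧ Nat.card {χ : Cfsg.IrrCharacter G // (∀ g : G, ((χ : G → ℂ) g).im = 0) ∧ Odd (Cfsg.charDegree (χ : G → ℂ))} ≤ 2 ^ (2 * (Nat.card G).factorization 2) := by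
  classical
  have := Fintype.ofFinite G
  have := Fintype.ofFinite (Cfsg.IrrCharacter G)
  have hreal : ∀ χ : Cfsg.IrrCharacter G, (∀ g : G, ((χ : G → ℂ) g).im = 0) → ∀ g, (χ : G → ℂ) g⁻¹ = (χ : G → ℂ) g :=
    fun χ h g => by rw [Char.IsCharacter.apply_inv (Char.IsIrrCharacter.isCharacter χ.2)]; exact Complex.conj_eq_iff_im.mpr (h g)
  refine ⟨fun χ hχ hodd => RealBlock.sameBlock_one hM χ.2 hodd fun s _ => ?_, ?_⟩
  · rw [Cfsg.centralChar, Cfsg.centralChar, RealBlock.index_centralizer_inv, hreal χ hχ, sub_self]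
    exact Blocks.memI_zero hM
  set n := (Nat.card G).factorization 2 with hn
  let T : Finset (Cfsg.IrrCharacter G) := Finset.univ.filter fun χ =>
    (∀ g : G, ((χ : G → ℂ) g).im = 0) ∧ Odd (Cfsg.charDegree (χ : G → ℂ))
  rw [Nat.card_eq_fintype_card, Fintype.card_subtype]
  show T.card ≤ _
  rcases T.eq_empty_or_nonempty with hT | ⟨χ, hχT⟩
  · simp [hT]
  obtain ⟨hχr, hχo⟩ := (Finset.mem_filter.mp hχT).2
  have hchar := fun ξ : Cfsg.IrrCharacter G => Char.IsIrrCharacter.isCharacter ξ.2
  set Φ : G → ℂ := fun g => if Odd (orderOf g) then (2 : ℂ) ^ n else 0 with hΦ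
  have hΦgen : Cfsg.IsGeneralizedCharacter G Φ := isGeneralizedCharacter_odd G
  set θ : G → ℂ := Φ * (χ : G → ℂ) with hθ
  have hθgen : Cfsg.IsGeneralizedCharacter G θ :=
    Char.IsGeneralizedCharacter.mul hΦgen (Char.isGeneralizedCharacter_of_isCharacter (hchar χ))
  choose a ha using fun ψ : Cfsg.IrrCharacter G => Char.IsGeneralizedCharacter.classInner_int hθgen
    (Char.isGeneralizedCharacter_of_isCharacter (hchar ψ))
  have hθcl := Char.IsGeneralizedCharacter.isClassFunction hθgen
  -- each real odd coefficient is nonzero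
  have hne : ∀ ψ ∈ T, a ψ ≠ 0 := by
    intro ψ hψ h0
    obtain ⟨hψr, hψo⟩ := (Finset.mem_filter.mp hψ).2
    have h := ha ψ
    rw [h0, Int.cast_zero, Cfsg.classInner, mul_eq_zero] at h
    have h' := h.resolve_left (inv_ne_zero (Nat.cast_ne_zero.mpr Nat.card_pos.ne'))
    have hsum : ∑ g : G, (if Odd (orderOf g) then (χ : G → ℂ) g * (ψ : G → ℂ) g else 0) = 0 := by
      refine mul_left_cancel₀ (pow_ne_zero n (two_ne_zero : (2 : ℂ) ≠ 0)) ?_
      rw [mul_zero, Finset.mul_sum]
      refine Eq.trans (Finset.sum_congr rfl fun g _ => ?_) h'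
      rw [← Char.IsCharacter.apply_inv (hchar ψ), hreal ψ hψr]
      simp only [hθ, hΦ, Pi.mul_apply]
      split_ifs <;> ring
    have hI : MemLocalIdeal M (∑ g : G, ((if Odd (orderOf g) then (χ : G → ℂ) g * (ψ : G → ℂ) g else 0) -
        if g = 1 then (χ : G → ℂ) 1 * (ψ : G → ℂ) 1 else 0)) := by
      refine RealBlock.memI_sum_of_involution hM (fun g : G => g⁻¹) inv_inv _ (fun g hg => ?_) (fun g => ?_)
      · by_cases h1 : g = 1
        · subst h1; simpa using Blocks.memI_zero hM
        · have : orderOf g = 2 := orderOf_eq_prime (by rw [pow_two]; exact inv_eq_iff_mul_eq_one.mp hg) h1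
          rw [if_neg h1, if_neg (by rw [this]; decide), sub_zero]
          exact Blocks.memI_zero hM
      · by_cases h1 : g = 1
        · subst h1; simpa using Blocks.memI_zero hM
        · rw [if_neg h1, if_neg (inv_ne_one.mpr h1), sub_zero, sub_zero, orderOf_inv, hreal χ hχr, hreal ψ hψr,
            ← two_mul]
          refine Blocks.memI_mul_right hM (by simpa using Blocks.memI_p hM) ?_
          split_ifs
          · exact Blocks.memR_mul hM (Blocks.memR_of_isIntegral hM (Char.IsCharacter.isIntegral (hchar χ) g))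
              (Blocks.memR_of_isIntegral hM (Char.IsCharacter.isIntegral (hchar ψ) g))
          · exact Blocks.memR_zero hM
    rw [Finset.sum_sub_distrib, hsum, Finset.sum_ite_eq' Finset.univ (1 : G), if_pos (Finset.mem_univ _),
      zero_sub] at hI
    have hI' := Blocks.memI_neg hI
    rw [neg_neg, ← RealBlock.charDegree_cast (hchar χ), ← RealBlock.charDegree_cast (hchar ψ),
      ← Nat.cast_mul, Blocks.memI_natCast hM] at hI'
    exact (hχo.mul hψo).not_two_dvd_nat hI'
  -- the sum of squares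
  have hsq : (∑ ψ, a ψ ^ 2 : ℤ) = (2 : ℤ) ^ n * a χ := by
    have h1 : Cfsg.classInner θ θ = ((∑ ψ, a ψ ^ 2 : ℤ) : ℂ) := by
      rw [Char.classInner_eq_sum hθcl, Int.cast_sum]
      refine Finset.sum_congr rfl fun ψ _ => ?_
      rw [Int.cast_pow, pow_two]
      simp only [ha]
      rw [map_intCast]
    have h2 : Cfsg.classInner θ θ = (2 : ℂ) ^ n * Cfsg.classInner θ (χ : G → ℂ) := by
      simp only [Cfsg.classInner]
      rw [mul_left_comm]
      congr 1
      rw [Finset.mul_sum]
      refine Finset.sum_congr rfl fun g _ => ?_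
      simp only [hθ, hΦ, Pi.mul_apply, map_mul]
      split_ifs
      · simp only [map_pow, map_ofNat]; ring
      · simp
    rw [h1, ha] at h2
    exact_mod_cast h2
  have hle : (a χ) ≤ (2 : ℤ) ^ n := by
    by_contra hlt
    push Not at hlt
    have h1 : a χ ^ 2 ≤ ∑ ψ, a ψ ^ 2 :=
      Finset.single_le_sum (f := fun ψ => a ψ ^ 2) (fun ψ _ => sq_nonneg _) (Finset.mem_univ χ)
    have h0 : (0 : ℤ) < a χ := lt_trans (by positivity) hlt
    nlinarith [mul_lt_mul_of_pos_right hlt h0]
  have h3 : (T.card : ℤ) ≤ ∑ ψ, a ψ ^ 2 := by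
    calc (T.card : ℤ) = ∑ ψ ∈ T, (1 : ℤ) := by simp
      _ ≤ ∑ ψ ∈ T, a ψ ^ 2 := Finset.sum_le_sum fun ψ hψ => Int.one_le_abs (hne ψ hψ) |> fun h => by nlinarith [abs_nonneg (a ψ), sq_abs (a ψ)]
      _ ≤ ∑ ψ, a ψ ^ 2 := Finset.sum_le_sum_of_subset_of_nonneg (Finset.subset_univ _) fun ψ _ _ => sq_nonneg _
  have h4 : (T.card : ℤ) ≤ ((2 ^ (2 * n) : ℕ) : ℤ) := by
    rw [hsq] at h3
    refine h3.trans ((mul_le_mul_of_nonneg_left hle (by positivity)).trans (le_of_eq ?_))
    push_cast; rw [two_mul, pow_add]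
  exact_mod_cast h4

end Cfsg.Agent.S4483
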