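import Cfsg.Statements.S4487
import Cfsg.Agent.Lib.Blocks.NilOmega
import Cfsg.Agent.Lib.Cores.Basic

set_option autoImplicit false
open Cfsg

namespace Cfsg.Agent.S4487

/-- Let G be a finite group and p a prime such that G has no non-trivial normal subgroup of order prime to p and C_G(O_p(G)) ≤ O_p(G). Then G has a single p-block: any two irreducible characters lie in the same block relative to every maximal ideal M of the algebraic integers containing p. -/
theorem result {G : Type*} [Group G] [Finite G] (p : ℕ) [Fact p.Prime] (M : Ideal Cfsg.AlgInt) (hM : Cfsg.IsPModular p M) (hcore : Cfsg.pPrimeCore p G = ⊥) (hconstr : Subgroup.centralizer ((Cfsg.pCore p G) : Set G) ≤ Cfsg.pCore p G) (χ ψ : Cfsg.IrrCharacter G) : Cfsg.SameBlock M (χ : G → ℂ) (ψ : G → ℂ) := by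
  intro g
  have hQn : (Cfsg.pCore p G).Normal := Subgroup.sSup_normal _ fun _ h => h.1
  have hQ : IsPGroup p (Cfsg.pCore p G) := Cores.isPGroup_pCore p G
  by_cases h : ∃ x : G, IsConj g x ∧ x ∈ Subgroup.centralizer ((Cfsg.pCore p G) : Set G)
  · obtain ⟨x, hgx, hx⟩ := h
    obtain ⟨c, rfl⟩ := isConj_iff.mp hgx
    have hg : g ∈ Cfsg.pCore p G := by
      simpa [mul_assoc] using hQn.conj_mem _ (hconstr hx) c⁻¹
    exact Blocks.memI_sub_trans hM (Blocks.centralChar_congr_of_mem hM hQ hg χ)
      (Blocks.memI_sub_comm (Blocks.centralChar_congr_of_mem hM hQ hg ψ))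
  · push Not at h
    exact Blocks.memI_sub hM (Blocks.memI_centralChar_of_forall_notMem hM hQ h χ)
      (Blocks.memI_centralChar_of_forall_notMem hM hQ h ψ)

end Cfsg.Agent.S4487
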