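import Cfsg.Statements.S4490
import Cfsg.Agent.Lib.RealBlock.GaloisFixed

set_option autoImplicit false
open Cfsg

namespace Cfsg.Agent.S4490

open Cfsg
open scoped ComplexConjugate

variable {G : Type*} [Group G] [Fintype G] {p : ℕ} {M : Ideal AlgInt}

/-- A block with a Sylow subgroup as defect group has a member of degree prime to `p`. -/
theorem exists_not_dvd (hM : IsPModular p M) [Fact p.Prime] {B : Set (IrrCharacter G)} (hB : IsPBlock M B)
    (P : Sylow p G) (h : IsDefectGroup p M B (P : Subgroup G)) :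
    ∃ χ ∈ B, ¬ p ∣ charDegree (χ : G → ℂ) := by
  classical
  obtain ⟨g, ⟨-, hga, -⟩, Q, hQ⟩ := h
  by_contra hcon
  push Not at hcon
  have hint := Blocks.blockInd_mem_intRing hM hB
  have hPC : ∀ u ∈ (P : Subgroup G), Commute u g := fun u hu => by
    rw [hQ] at hu
    obtain ⟨v, -, rfl⟩ := Subgroup.mem_map.mp hu
    exact Subgroup.mem_centralizer_singleton_iff.mp v.2
  have hg : ¬ p ∣ orderOf g := fun hd => hga (by
    rw [Blocks.blockCoeff_eq_ofOmega, Blocks.ofOmega_singular_eq_zero hM hint hd]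
    exact Blocks.memI_zero hM)
  let C := Subgroup.zpowers g
  have := Fintype.ofFinite (P : Subgroup G)
  have := Fintype.ofFinite C
  have := Fintype.ofFinite (IrrCharacter C)
  have := Fintype.ofFinite (IrrCharacter G)
  have hcomm : ∀ (u : (P : Subgroup G)) (s : C), Commute ((P : Subgroup G).subtype u) (C.subtype s) := by
    rintro ⟨u, hu⟩ ⟨s, hs⟩
    obtain ⟨i, rfl⟩ := Subgroup.mem_zpowers_iff.mp hs
    exact (hPC u hu).zpow_right i
  let φ : ↥(P : Subgroup G) × C →* G := MonoidHom.noncommCoprod (P : Subgroup G).subtype C.subtype hcomm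
  have hφ : ∀ x : ↥(P : Subgroup G) × C, φ x = (x.1 : G) * (x.2 : G) := fun x => rfl
  have hsing : ∀ x : ↥(P : Subgroup G) × C, x.1 ≠ 1 → p ∣ orderOf (φ x) := by
    rintro ⟨u, s⟩ hu
    obtain ⟨j, hj⟩ := IsPGroup.iff_orderOf.mp P.2 u
    have hs : ¬ p ∣ orderOf (s : G) := fun hd => hg (hd.trans (by
      have := orderOf_dvd_natCard s
      rwa [Nat.card_zpowers, ← Subgroup.orderOf_coe] at this))
    show p ∣ orderOf ((u : G) * (s : G))
    rw [show orderOf ((u : G) * (s : G)) = orderOf (u : G) * orderOf (s : G) from (hcomm u s).orderOf_mul_eq_mul_orderOf_of_coprime (by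
      show (orderOf ((u : G))).Coprime (orderOf (s : G))
      rw [Subgroup.orderOf_coe, hj]
      exact ((Fact.out : p.Prime).coprime_iff_not_dvd.mpr hs).pow_left j)]
    refine Dvd.dvd.mul_right ?_ _
    show p ∣ orderOf (u : G)
    rw [Subgroup.orderOf_coe, hj]
    exact dvd_pow_self p fun h0 => hu (orderOf_eq_one_iff.mp (by rw [hj, h0, pow_zero]))
  have hm : ¬ p ∣ Nat.card C := by rwa [Nat.card_zpowers]
  have key : ∀ l : IrrCharacter C,
      MemLocalIdeal M (∑ s : C, blockCoeff B (s : G) * (l : C → ℂ) s) := by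
    intro l
    have hθ : IsCharacter (↥(P : Subgroup G) × C) (fun x => (l : C → ℂ) x.2) :=
      Char.IsCharacter.comp_hom (Char.IsIrrCharacter.isCharacter l.2) (MonoidHom.snd ↥(P : Subgroup G) C)
    choose m hmult using fun χ : IrrCharacter G => Char.IsCharacter.classInner_nat hθ
      (Char.IsCharacter.comp_hom (Char.IsIrrCharacter.isCharacter χ.2) φ)
    have hI : MemLocalIdeal M (∑ χ ∈ Finset.univ.filter (· ∈ B), (χ : G → ℂ) 1 * (m χ : ℂ)) := by
      refine Blocks.memI_sum hM _ fun χ hχ => Blocks.memI_mul_right hM ?_ (Blocks.memR_natCast hM _)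
      rw [← RealBlock.charDegree_cast (Char.IsIrrCharacter.isCharacter χ.2)]
      exact (Blocks.memI_natCast hM).mpr (hcon χ (Finset.mem_filter.mp hχ).2)
    have e : ∑ χ ∈ Finset.univ.filter (· ∈ B), (χ : G → ℂ) 1 * (m χ : ℂ) =
        ((P : Subgroup G).index : ℂ) / (Nat.card C : ℂ) * ∑ s : C, blockCoeff B (s : G) * (l : C → ℂ) s := by
      have hinner : ∑ χ ∈ Finset.univ.filter (· ∈ B), (χ : G → ℂ) 1 * (m χ : ℂ) =
          (Nat.card (↥(P : Subgroup G) × C) : ℂ)⁻¹ * ∑ x : ↥(P : Subgroup G) × C,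
            (l : C → ℂ) x.2 * ((Nat.card G : ℂ) * blockCoeff B (φ x)) := by
        rw [Finset.sum_congr rfl fun χ _ => by rw [← hmult]]
        simp only [classInner, Finset.mul_sum]
        rw [Finset.sum_comm]
        refine Finset.sum_congr rfl fun x _ => ?_
        rw [blockCoeff, ← mul_assoc (Nat.card G : ℂ), mul_inv_cancel₀ (Nat.cast_ne_zero.mpr Nat.card_pos.ne'),
          one_mul, finsum_mem_eq_toFinset_sum, Finset.mul_sum, Finset.mul_sum]
        refine Finset.sum_congr (by ext χ; simp) fun χ _ => ?_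
        ring
      rw [hinner, Fintype.sum_prod_type, Finset.sum_eq_single (1 : (P : Subgroup G)) (fun u _ hu => ?_)
        (fun h => absurd (Finset.mem_univ _) h)]
      · rw [Nat.card_prod, ← (P : Subgroup G).card_mul_index, Finset.mul_sum, Finset.mul_sum]
        refine Finset.sum_congr rfl fun s _ => ?_
        have hP0 : (Nat.card (P : Subgroup G) : ℂ) ≠ 0 := Nat.cast_ne_zero.mpr Nat.card_pos.ne'
        rw [hφ, OneMemClass.coe_one, one_mul]
        push_cast
        field_simp
      · refine Finset.sum_eq_zero fun s _ => ?_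
        rw [Blocks.blockCoeff_eq_ofOmega, Blocks.ofOmega_singular_eq_zero hM hint (hsing (u, s) hu),
          mul_zero, mul_zero]
    rw [e] at hI
    have hR : MemLocalRing M (∑ s : C, blockCoeff B (s : G) * (l : C → ℂ) s) :=
      Blocks.memR_sum hM _ fun s _ => Blocks.memR_mul hM (Blocks.memR_blockCoeff hM hB _)
        (Blocks.memR_of_isIntegral hM (Char.IsCharacter.isIntegral (Char.IsIrrCharacter.isCharacter l.2) s))
    have hRi : MemLocalRing M (((P : Subgroup G).index : ℂ) / (Nat.card C : ℂ)) := by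
      rw [div_eq_mul_inv]
      exact Blocks.memR_mul hM (Blocks.memR_natCast hM _) (Blocks.memR_natCast_inv hM hm)
    refine (Blocks.memI_or_memI hM hRi hR hI).resolve_left fun h1 => P.not_dvd_index ?_
    have h2 := Blocks.memI_mul_right hM h1 (Blocks.memR_natCast hM (Nat.card C))
    rw [div_mul_cancel₀ _ (Nat.cast_ne_zero.mpr Nat.card_pos.ne')] at h2
    exact (Blocks.memI_natCast hM).mp h2
  let g0 : C := ⟨g, Subgroup.mem_zpowers g⟩
  have hCcomm : ∀ a b : C, a * b = b * a := by
    rintro ⟨a, ha⟩ ⟨b, hb⟩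
    obtain ⟨i, rfl⟩ := Subgroup.mem_zpowers_iff.mp ha
    obtain ⟨j, rfl⟩ := Subgroup.mem_zpowers_iff.mp hb
    exact Subtype.ext ((Commute.refl g).zpow_zpow i j).eq
  have hI2 : MemLocalIdeal M (∑ l : IrrCharacter C,
      conj ((l : C → ℂ) g0) * ∑ s : C, blockCoeff B (s : G) * (l : C → ℂ) s) :=
    Blocks.memI_sum hM _ fun l _ => Blocks.memI_mul_left hM
      (Blocks.memR_of_isIntegral hM (Char.IsCharacter.isIntegral
        (Char.IsCharacter.conj (Char.IsIrrCharacter.isCharacter l.2)) g0)) (key l)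
  have e2 : ∑ l : IrrCharacter C, conj ((l : C → ℂ) g0) * ∑ s : C, blockCoeff B (s : G) * (l : C → ℂ) s =
      (Nat.card C : ℂ) * blockCoeff B g := by
    simp only [Finset.mul_sum]
    rw [Finset.sum_comm, Finset.sum_eq_single g0 (fun s _ hs => ?_) (fun h => absurd (Finset.mem_univ _) h)]
    · have hcent : Subgroup.centralizer ({g0} : Set C) = ⊤ := by
        rw [eq_top_iff]
        intro c _
        rw [Subgroup.mem_centralizer_singleton_iff]
        exact hCcomm c g0
      rw [Finset.sum_congr rfl (g := fun l : IrrCharacter C => blockCoeff B g * ((l : C → ℂ) g0 * conj ((l : C → ℂ) g0)))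
        (fun l _ => by show _ * (blockCoeff B g * _) = _; ring), ← Finset.mul_sum, Char.column_orth, if_pos (IsConj.refl _),
        hcent, Subgroup.card_top]
      ring
    · rw [Finset.sum_congr rfl (g := fun l : IrrCharacter C => blockCoeff B (s : G) * ((l : C → ℂ) s * conj ((l : C → ℂ) g0)))
        (fun l _ => by ring), ← Finset.mul_sum, Char.column_orth, if_neg, mul_zero]
      intro hc
      obtain ⟨c, hc⟩ := isConj_iff.mp hc
      rw [hCcomm c s, mul_inv_cancel_right] at hc
      exact hs hc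
  rw [e2] at hI2
  have hR : MemLocalRing M (blockCoeff B g) := Blocks.memR_blockCoeff hM hB g
  exact hga ((Blocks.memI_or_memI hM (Blocks.memR_natCast hM _) hR hI2).resolve_left
    fun h => hm ((Blocks.memI_natCast hM).mp h))

/-- Let G be a finite group and M a maximal ideal of the algebraic integers containing 2. Every 2-block B of G whose defect groups are the Sylow 2-subgroups of G (a block of full defect) and which is not the principal block is different from its complex-conjugate block, the block formed by the complex conjugates of the members of B. -/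
theorem result {G : Type*} [Group G] [Finite G] (M : Ideal Cfsg.AlgInt) (hM : Cfsg.IsPModular 2 M) (B : Set (Cfsg.IrrCharacter G)) (hB : Cfsg.IsPBlock M B) (P : Sylow 2 G) (hfull : Cfsg.IsDefectGroup 2 M B (P : Subgroup G)) (hnp : B ≠ Cfsg.principalBlock M G) : {ψ : Cfsg.IrrCharacter G | ∃ χ ∈ B, (ψ : G → ℂ) = fun g => (starRingEnd ℂ) ((χ : G → ℂ) g)} ≠ B := by
  classical
  have := Fintype.ofFinite G
  obtain ⟨χ, hχ, hχd⟩ := exists_not_dvd hM hB P hfull
  intro hconj
  refine hnp (RealBlock.eq_principalBlock_of_mem hM hB hχ (RealBlock.sameBlock_one hM χ.2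
    (Nat.not_even_iff_odd.mp fun h => hχd (even_iff_two_dvd.mp h)) fun s _ => ?_))
  let ψ : Cfsg.IrrCharacter G := ⟨fun g => conj ((χ : G → ℂ) g), Char.IsIrrCharacter.conj χ.2⟩
  have hψ : ψ ∈ B := hconj ▸ ⟨χ, hχ, rfl⟩
  have h := RealBlock.sameBlock_of_mem hM hB hψ hχ s
  have hchar := Char.IsIrrCharacter.isCharacter χ.2
  have e : Cfsg.centralChar (ψ : G → ℂ) s = Cfsg.centralChar (χ : G → ℂ) s⁻¹ := by
    rw [Cfsg.centralChar, Cfsg.centralChar, RealBlock.index_centralizer_inv, Char.IsCharacter.apply_inv hchar]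
    show _ * conj _ / conj _ = _
    rw [Char.IsCharacter.conj_apply_one hchar]
  rwa [e] at h

end Cfsg.Agent.S4490
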