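import Cfsg.Statements.S4494
import Cfsg.Agent.Lib.RegPart.Basic

set_option autoImplicit false
open Cfsg
open scoped ComplexConjugate

namespace Cfsg.Agent.S4494

/-- The Brauer–Feit bound. Let B be a p-block of the finite group G (relative to a maximal ideal M of the algebraic integers containing p) and let d be its defect. Then the number k(B) of irreducible characters in B satisfies k(B) ≤ p^(2d)/4 + 1, stated here as 4·k(B) ≤ p^(2d) + 4. -/
theorem result {G : Type*} [Group G] [Finite G] (p : ℕ) [Fact p.Prime] (M : Ideal Cfsg.AlgInt) (hM : Cfsg.IsPModular p M) (B : Set (Cfsg.IrrCharacter G)) (hB : Cfsg.IsPBlock M B) : 4 * Nat.card B ≤ p ^ (2 * Cfsg.blockDefect p B) + 4 := by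
  classical
  have := Fintype.ofFinite G
  have := Fintype.ofFinite (IrrCharacter G)
  obtain ⟨χ, hχ, hχ0⟩ := Blocks.exists_blockHeight_eq_zero p (Blocks.isPBlock_nonempty hM hB)
  set q : ℕ := p ^ blockDefect p B
  choose c hc using fun ψ : B => RegPart.exists_int_defect hM hB χ ψ.2
  have hne : ∀ ψ : B, c ψ ≠ 0 := by
    intro ψ h
    obtain ⟨n, hn⟩ := RegPart.exists_int hM.1 χ ψ.1
    have hu := Blocks.not_memI_omega_regConj hM hB hχ hχ0 ψ.2
    have h0 : classInner (pRegularPart p (χ : G → ℂ)) ((ψ.1 : IrrCharacter G) : G → ℂ) = 0 := by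
      have := hc ψ
      rw [h, Int.cast_zero, mul_eq_zero] at this
      exact this.resolve_left (pow_ne_zero _ (Nat.cast_ne_zero.2 hM.1.ne_zero))
    rw [h0, mul_zero] at hn
    have hn0 : n = 0 := by exact_mod_cast hn.symm
    exact hu ((RegPart.int_spec hM χ ψ.1 (by rw [h0, mul_zero]; exact hn)).2.2
      (hn0 ▸ dvd_zero _))
  -- the diagonal contribution times `p^d` is the sum of the squares of the row
  have hsq : ∑ ψ : B, c ψ ^ 2 = (q : ℤ) * c ⟨χ, hχ⟩ := by
    have hreal : ∀ ψ : B, conj (classInner (pRegularPart p (χ : G → ℂ))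
        ((ψ.1 : IrrCharacter G) : G → ℂ)) =
        classInner (pRegularPart p (χ : G → ℂ)) ((ψ.1 : IrrCharacter G) : G → ℂ) := by
      intro ψ
      have h := congrArg conj (hc ψ)
      rw [map_mul, map_pow, map_natCast, map_intCast, ← hc ψ] at h
      exact mul_left_cancel₀ (pow_ne_zero _ (Nat.cast_ne_zero.2 hM.1.ne_zero)) h
    have hpar : classInner (pRegularPart p (χ : G → ℂ)) (χ : G → ℂ) =
        ∑ ψ : B, classInner (pRegularPart p (χ : G → ℂ)) ((ψ.1 : IrrCharacter G) : G → ℂ) ^ 2 := by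
      have hself : classInner (pRegularPart p (χ : G → ℂ)) (χ : G → ℂ) =
          classInner (pRegularPart p (χ : G → ℂ)) (pRegularPart p (χ : G → ℂ)) := by
        unfold classInner
        congr 1
        refine Finset.sum_congr rfl fun x _ => ?_
        by_cases h : IsPRegular p x <;> simp [pRegularPart, h]
      rw [hself, Agent.Char.classInner_eq_sum (BrauerPairs.isClassFunction_pRegularPart
        (Blocks.irr_class χ))]
      rw [← Finset.sum_subset (Finset.subset_univ (Finset.univ.filter (· ∈ B))) fun ψ _ hψ => by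
          rw [BrauerPairs.classInner_pRegularPart_eq_zero hM hB hχ (by simpa using hψ), zero_mul],
        Finset.sum_subtype (Finset.univ.filter (· ∈ B)) (p := (· ∈ B)) (fun ψ => by simp)]
      exact Finset.sum_congr rfl fun ψ _ => by rw [hreal, sq]
    have h : ((∑ ψ : B, c ψ ^ 2 : ℤ) : ℂ) = (((q : ℤ) * c ⟨χ, hχ⟩ : ℤ) : ℂ) := by
      push_cast
      rw [← hc ⟨χ, hχ⟩]
      simp only [← hc, mul_pow, ← Finset.mul_sum, ← hpar, q]
      push_cast; ring
    exact_mod_cast h
  have hsum : c ⟨χ, hχ⟩ ^ 2 + ((Fintype.card B : ℤ) - 1) ≤ ∑ ψ : B, c ψ ^ 2 := by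
    rw [← Finset.add_sum_erase _ _ (Finset.mem_univ (⟨χ, hχ⟩ : B))]
    refine add_le_add_right ?_ _
    refine le_of_eq_of_le ?_ (Finset.card_nsmul_le_sum _ (fun ψ : B => c ψ ^ 2) 1 fun ψ _ =>
      sq_pos_of_ne_zero (hne ψ))
    rw [Finset.card_erase_of_mem (Finset.mem_univ _), Finset.card_univ, nsmul_eq_mul, mul_one,
      Nat.cast_sub (Nat.one_le_iff_ne_zero.2 ((Fintype.card_pos_iff.2 ⟨(⟨χ, hχ⟩ : B)⟩).ne')), Nat.cast_one]
  rw [hsq] at hsum
  have hq : (p ^ (2 * blockDefect p B) : ℤ) = (q : ℤ) ^ 2 := by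
    rw [show 2 * blockDefect p B = blockDefect p B * 2 from mul_comm _ _, pow_mul]; simp [q]
  rw [Nat.card_eq_fintype_card]
  suffices (4 * (Fintype.card B) : ℤ) ≤ (p : ℤ) ^ (2 * blockDefect p B) + 4 by exact_mod_cast this
  rw [hq]
  nlinarith [sq_nonneg (2 * c ⟨χ, hχ⟩ - (q : ℤ))]

end Cfsg.Agent.S4494
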