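import Cfsg.Statements.S4496
import Cfsg.Agent.Lib.SelfCentPrime.Derived

set_option autoImplicit false
open Cfsg

namespace Cfsg.Agent.S4496

/-- Let the finite group G contain an element x of prime order p with C_G(x) = ⟨x⟩. Then: (a) every normal subgroup of order divisible by p contains the commutator subgroup; (b) every normal subgroup S of order prime to p has order dividing the number of subgroups of order p of G and congruent to 1 modulo p, and in G/S the image of x again has prime order p and commutes only with its own powers. -/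
theorem result {G : Type*} [Group G] [Finite G] (p : ℕ) (hp : p.Prime) (x : G) (hx : orderOf x = p) (hC : Subgroup.centralizer ({x} : Set G) = Subgroup.zpowers x) (S : Subgroup G) [S.Normal] : (p ∣ Nat.card S → commutator G ≤ S) ∧ (¬ p ∣ Nat.card S → Nat.card S ∣ Nat.card {H : Subgroup G // Nat.card H = p} ∧ Nat.card S % p = 1 ∧ orderOf (QuotientGroup.mk x : G ⧸ S) = p ∧ Subgroup.centralizer ({(QuotientGroup.mk x : G ⧸ S)} : Set (G ⧸ S)) = Subgroup.zpowers (QuotientGroup.mk x : G ⧸ S)) := by
  refine ⟨fun h => SelfCentPrime.commutator_le_of_dvd_card hp hx hC h, fun h => ?_⟩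
  refine ⟨?_, SelfCentPrime.card_mod_eq_one hp hx hC h, ?_, ?_⟩
  · rw [SelfCentPrime.card_sylow_subgroup_set hp hx hC]
    exact SelfCentPrime.card_dvd_index_normalizer hp hx hC h
  · have := Fact.mk hp
    refine orderOf_eq_prime ?_ fun h1 => ?_
    · rw [← QuotientGroup.mk_pow, ← hx, pow_orderOf_eq_one, QuotientGroup.mk_one]
    · exact SelfCentPrime.self_ne_one hp hx hC (SelfCentPrime.not_mem_of_not_dvd_card hp hx hC h
        (Subgroup.mem_zpowers x) ((QuotientGroup.eq_one_iff x).mp h1))
  · refine le_antisymm ?_ (Subgroup.zpowers_le.mpr (Subgroup.mem_centralizer_singleton_iff.mpr rfl))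
    intro q hq
    induction q using QuotientGroup.induction_on with | H g => ?_
    rw [Subgroup.mem_centralizer_singleton_iff] at hq
    have hg : g * x * g⁻¹ * x⁻¹ ∈ S := by
      rw [← QuotientGroup.eq_one_iff]
      simp only [QuotientGroup.mk_mul, QuotientGroup.mk_inv]
      rw [hq]; simp
    obtain ⟨s, hs, hsg⟩ := SelfCentPrime.mem_sup_zpowers_of_comm hp hx hC h hg
    obtain ⟨i, hi⟩ := Subgroup.mem_zpowers_iff.mp hsg
    refine Subgroup.mem_zpowers_iff.mpr ⟨i, ?_⟩
    rw [← QuotientGroup.mk_zpow, hi, QuotientGroup.mk_mul, QuotientGroup.mk_inv,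
      (QuotientGroup.eq_one_iff s).mpr hs, inv_one, one_mul]

end Cfsg.Agent.S4496
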