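import Cfsg.Statements.S4498
import Cfsg.Agent.Lib.Blocks.Defect
import Cfsg.Agent.Lib.BrauerPairs.Basic

set_option autoImplicit false
open Cfsg
open scoped ComplexConjugate

namespace Cfsg.Agent.S4498

/-- Let p and q be distinct primes dividing the order of the finite group G, and suppose G has no element of order p·q. Fix maximal ideals M_p over p and M_q over q of the algebraic integers. Then the principal p-block and the principal q-block of G have a non-principal irreducible character in common. -/
theorem result {G : Type*} [Group G] [Finite G] (p q : ℕ) [Fact p.Prime] [Fact q.Prime] (hpq : p ≠ q) (hp : p ∣ Nat.card G) (hq : q ∣ Nat.card G) (hno : ∀ g : G, orderOf g ≠ p * q) (Mp Mq : Ideal Cfsg.AlgInt) (hMp : Cfsg.IsPModular p Mp) (hMq : Cfsg.IsPModular q Mq) : ∃ χ : Cfsg.IrrCharacter G, (χ : G → ℂ) ≠ (fun _ => 1) ∧ χ ∈ Cfsg.principalBlock Mp G ∧ χ ∈ Cfsg.principalBlock Mq G := by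
  classical
  have := Fintype.ofFinite G
  have := Fintype.ofFinite (IrrCharacter G)
  by_contra hcon
  push Not at hcon
  obtain ⟨u, hu⟩ := exists_prime_orderOf_dvd_card' p hp
  obtain ⟨v, hv⟩ := exists_prime_orderOf_dvd_card' q hq
  let Bp := Finset.univ.filter (· ∈ principalBlock Mp G)
  let Bq := Finset.univ.filter (· ∈ principalBlock Mq G)
  let f : G → ℂ := fun x => ∑ χ ∈ Bp, (χ : G → ℂ) x * conj ((χ : G → ℂ) u)
  let g : G → ℂ := fun x => ∑ χ ∈ Bq, (χ : G → ℂ) x * conj ((χ : G → ℂ) v)
  have hf : ∀ x, ¬ p ∣ orderOf x → f x = 0 := fun x hx => by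
    rw [← Blocks.weak_orth hMp (Blocks.blockInd_mem_intRing hMp BrauerPairs.isPBlock_principal) hx
      (show p ∣ orderOf u by rw [hu]), finsum_mem_eq_finite_toFinset_sum _ (Set.toFinite _)]
    exact Finset.sum_congr (by ext; simp [Bp]) fun _ _ => rfl
  have hg : ∀ x, ¬ q ∣ orderOf x → g x = 0 := fun x hx => by
    rw [← Blocks.weak_orth hMq (Blocks.blockInd_mem_intRing hMq BrauerPairs.isPBlock_principal) hx
      (show q ∣ orderOf v by rw [hv]), finsum_mem_eq_finite_toFinset_sum _ (Set.toFinite _)]
    exact Finset.sum_congr (by ext; simp [Bq]) fun _ _ => rfl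
  have hfg : classInner f g = 0 := by
    rw [classInner, Finset.sum_eq_zero, mul_zero]
    intro x _
    by_cases hxp : p ∣ orderOf x
    · by_cases hxq : q ∣ orderOf x
      · obtain ⟨r, hr⟩ := Nat.Coprime.mul_dvd_of_dvd_of_dvd
          ((Nat.coprime_primes Fact.out Fact.out).mpr hpq) hxp hxq
        refine absurd ?_ (hno (x ^ r))
        rw [orderOf_pow_of_dvd (by rintro rfl; exact (orderOf_pos x).ne' (by rw [hr, mul_zero]))
          ⟨p * q, by rw [hr, mul_comm]⟩, hr]
        exact Nat.mul_div_cancel _ (Nat.pos_of_ne_zero (by rintro rfl; exact (orderOf_pos x).ne' (by rw [hr, mul_zero])))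
      · rw [hg x hxq, map_zero, mul_zero]
    · rw [hf x hxp, zero_mul]
  have hone : classInner f g = 1 := by
    have e1 : f = ∑ χ ∈ Bp, conj ((χ : G → ℂ) u) • (χ : G → ℂ) := by
      funext x; simp [f, Finset.sum_apply, mul_comm]
    have e2 : g = ∑ χ ∈ Bq, conj ((χ : G → ℂ) v) • (χ : G → ℂ) := by
      funext x; simp [g, Finset.sum_apply, mul_comm]
    rw [e1, Char.classInner_sum_left, Finset.sum_eq_single (BrauerPairs.oneIrr G)]
    · rw [e2, Char.classInner_sum_right, Finset.sum_eq_single (BrauerPairs.oneIrr G)]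
      · rw [Char.classInner_smul_left, Char.classInner_smul_right,
          Char.classInner_irr_self (BrauerPairs.oneIrr G).2]
        simp [BrauerPairs.oneIrr]
      · intro χ _ hne
        rw [Char.classInner_smul_left, Char.classInner_smul_right, Char.classInner_irr_of_ne
          (BrauerPairs.oneIrr G).2 χ.2 (fun h => hne (Subtype.ext h.symm))]
        simp
      · exact fun h => absurd (Finset.mem_filter.mpr ⟨Finset.mem_univ _, BrauerPairs.oneIrr_mem_principal hMq⟩) h
    · intro χ hχ hne
      rw [e2, Char.classInner_sum_right, Finset.sum_eq_zero]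
      intro ψ hψ
      rw [Char.classInner_smul_left, Char.classInner_smul_right,
        Char.classInner_irr_of_ne χ.2 ψ.2 (fun h => ?_)]
      · simp
      · have hh := hcon χ (fun h1 => hne (Subtype.ext h1)) (Finset.mem_filter.mp hχ).2
        exact hh ((Subtype.ext h : χ = ψ) ▸ (Finset.mem_filter.mp hψ).2)
    · exact fun h => absurd (Finset.mem_filter.mpr ⟨Finset.mem_univ _, BrauerPairs.oneIrr_mem_principal hMp⟩) h
  rw [hfg] at hone
  exact zero_ne_one hone

end Cfsg.Agent.S4498
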