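import Cfsg.Statements.S4502
import Cfsg.Agent.Lib.CyclicDefect.Count
import Cfsg.Agent.Lib.CentralChar.Fixed
import Cfsg.Agent.Lib.Ito.Basic

set_option autoImplicit false
open Cfsg

namespace Cfsg.Agent.S4502

open Cfsg Cfsg.Agent.Blocks Cfsg.Agent.CyclicDefect

/-- The sum occurring in `card_not_dvd` only depends on the action of the complement. -/
theorem sum_transport {G H : Type*} [Group G] [Finite G] [Group H] [Finite H] {p : ℕ} [Fact p.Prime]
    {x : G} {L : Subgroup G} (hS : Setting p x L) {y : H} {L' : Subgroup H} (hS' : Setting p y L')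
    (f : H →* G) (hf : Function.Injective f) (hy : f y = x) (e : L' ≃* L)
    (he : ∀ l : L', ((e l : L) : G) = f l)
    [Fintype (IrrCharacter (K x L))] [Fintype (IrrCharacter (K y L'))] :
    Nat.card (K y L') * ∑ η : IrrCharacter (K y L'), (Nat.card (U hS' (η : K y L' → ℂ)) ^ 2 + (p - 1)) =
      Nat.card (K x L) * ∑ η : IrrCharacter (K x L), (Nat.card (U hS (η : K x L → ℂ)) ^ 2 + (p - 1)) := by
  have hK : ∀ l : L', e l ∈ K x L ↔ l ∈ K y L' := fun l => by
    rw [mem_K, mem_K, he, ← hy]
    refine ⟨fun h => hf ?_, fun h => h.map f⟩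
    rw [map_mul, map_mul]
    exact h
  let eK : K y L' ≃* K x L :=
    { toFun := fun k => ⟨e k, (hK k).mpr k.2⟩
      invFun := fun k => ⟨e.symm k, (hK _).mp (by rw [MulEquiv.apply_symm_apply]; exact k.2)⟩
      left_inv := fun k => Subtype.ext (e.symm_apply_apply _)
      right_inv := fun k => Subtype.ext (e.apply_symm_apply _)
      map_mul' := fun a b => Subtype.ext (map_mul e _ _) }
  let E : IrrCharacter (K x L) ≃ IrrCharacter (K y L') :=
    { toFun := fun η => ⟨fun k => (η : K x L → ℂ) (eK k), Char.IsIrrCharacter.comp_equiv η.2 eK⟩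
      invFun := fun η => ⟨fun k => (η : K y L' → ℂ) (eK.symm k), Char.IsIrrCharacter.comp_equiv η.2 eK.symm⟩
      left_inv := fun η => Subtype.ext (funext fun k => congrArg (η : K x L → ℂ) (eK.apply_symm_apply k))
      right_inv := fun η => Subtype.ext (funext fun k => congrArg (η : K y L' → ℂ) (eK.symm_apply_apply k)) }
  have halpha : ∀ l : L', CyclicDefect.alpha hS' l = CyclicDefect.alpha hS (e l) := fun l => by
    refine Units.ext (hS.pw_inj ?_)
    have h1 := alpha_spec hS (e l) 1
    have h2 := congrArg f (alpha_spec hS' l 1)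
    rw [hS.pw_one, mul_one] at h1
    rw [hS'.pw_one, mul_one, map_mul, map_mul, map_inv, ← he, hy, h1] at h2
    rw [h2]
    show x ^ _ = f (y ^ _)
    rw [map_pow, hy]
  rw [Nat.card_congr eK.toEquiv, ← E.sum_comp]
  congr 1
  refine Finset.sum_congr rfl fun η _ => ?_
  rw [show U hS' (E η : K y L' → ℂ) = U hS (η : K x L → ℂ) from ?_]
  ext a
  rw [mem_U, mem_U]
  constructor
  · rintro ⟨l, hl, rfl⟩
    refine ⟨e l, fun k k' hk => ?_, (halpha l).symm⟩
    have h := hl (eK.symm k) (eK.symm k') (e.injective (by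
      rw [map_mul, map_mul, map_inv]
      show e (e.symm _) = _ * e (e.symm _) * _
      rw [e.apply_symm_apply, e.apply_symm_apply, hk]))
    simpa [E] using h
  · rintro ⟨l, hl, rfl⟩
    refine ⟨e.symm l, fun k k' hk => ?_, by rw [halpha, e.apply_symm_apply]⟩
    exact hl (eK k) (eK k') (by
      show e (k' : L') = _
      rw [hk, map_mul, map_mul, map_inv, e.apply_symm_apply]
      rfl)

/-- Let G be a finite group whose order is divisible by the prime p exactly once, and let P be a Sylow p-subgroup. Then the number of irreducible characters of G of degree not divisible by p equals the number of conjugacy classes of the normalizer of P. -/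
theorem result {G : Type*} [Group G] [Finite G] (p : ℕ) [Fact p.Prime] (hdiv : p ∣ Nat.card G) (hsq : ¬ p ^ 2 ∣ Nat.card G) (P : Sylow p G) : Nat.card {χ : Cfsg.IrrCharacter G // ¬ p ∣ Cfsg.charDegree (χ : G → ℂ)} = Nat.card (ConjClasses (Subgroup.normalizer ((P : Subgroup G) : Set G))) := by
  classical
  have hp : p.Prime := Fact.out
  have hP : Nat.card (P : Subgroup G) = p := by
    rw [P.card_eq_multiplicity]
    refine (congrArg (p ^ ·) ?_).trans (pow_one p)
    refine le_antisymm (Nat.le_of_lt_succ (Nat.lt_of_not_le fun h => hsq ?_))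
      ((hp.dvd_iff_one_le_factorization Nat.card_pos.ne').mp hdiv)
    exact (hp.pow_dvd_iff_le_factorization Nat.card_pos.ne').mpr h
  obtain ⟨x, L, hPx, hS⟩ := exists_setting_of_sylow hp P hP
  obtain ⟨M, hM⟩ := CentralChar.exists_pModular p
  rw [hPx]
  set N := Subgroup.normalizer (Subgroup.zpowers x : Set G) with hN
  let x' : N := ⟨x, Subgroup.le_normalizer (Subgroup.mem_zpowers x)⟩
  let L' : Subgroup N := L.subgroupOf N
  let e : L' ≃* L := Subgroup.subgroupOfEquivOfLe hS.hL
  have hzp : Subgroup.zpowers x' = (Subgroup.zpowers x).subgroupOf N := by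
    apply Subgroup.map_injective N.subtype_injective
    rw [MonoidHom.map_zpowers, Subgroup.map_subgroupOf_eq_of_le Subgroup.le_normalizer]
    rfl
  have hnz : (Subgroup.zpowers x').Normal := hzp ▸ Subgroup.normal_in_normalizer
  have hS' : Setting p x' L' := by
    refine ⟨hp, (Subgroup.orderOf_mk x _).trans hS.hx, fun h => hsq (h.trans (Subgroup.card_subgroup_dvd_card N)),
      ?_, by rw [Nat.card_congr e.toEquiv]; exact hS.hcop, fun n _ => ?_⟩
    · rw [Subgroup.normalizer_eq_top]; exact le_top
    · obtain ⟨u, hu, l, hl, h⟩ := hS.hgen n n.2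
      refine ⟨⟨u, Subgroup.le_normalizer hu⟩, ?_, ⟨l, hS.hL hl⟩, hl, Subtype.ext h⟩
      rw [hzp]; exact hu
  have := Fintype.ofFinite (IrrCharacter (K x L))
  have := Fintype.ofFinite (IrrCharacter (K x' L'))
  have h1 := card_not_dvd hS hM
  have h2 := card_not_dvd hS' hM
  rw [sum_transport hS hS' N.subtype N.subtype_injective rfl e (fun _ => rfl), ← h1,
    Nat.card_congr e.toEquiv] at h2
  refine (Nat.eq_of_mul_eq_mul_right Nat.card_pos h2).symm.trans ?_
  have := Fintype.ofFinite N
  rw [Nat.card_congr (Equiv.subtypeUnivEquiv fun χ => ?_), Char.card_irr_eq_card_conjClasses]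
  obtain ⟨n, -, hn, hd⟩ := Ito.exists_degree_dvd_index χ.2 (Subgroup.zpowers x') fun a ha b hb => by
    obtain ⟨i, rfl⟩ := Subgroup.mem_zpowers_iff.mp ha
    obtain ⟨j, rfl⟩ := Subgroup.mem_zpowers_iff.mp hb
    exact ((Commute.refl x').zpow_zpow i j).eq
  have hcd : charDegree (χ : N → ℂ) = n := Nat.cast_injective (R := ℂ) ((charDegree_cast χ).trans hn)
  rw [hcd]
  intro h
  refine hS'.hsq ?_
  rw [pow_two, ← Subgroup.card_mul_index (Subgroup.zpowers x'), hS'.card_zpowers_eq]
  exact Nat.mul_dvd_mul_left p (h.trans hd)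

end Cfsg.Agent.S4502
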