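import Cfsg.Statements.S4505
import Cfsg.Agent.Lib.BlockDefect.DefectClass
import Cfsg.Agent.Lib.RealBlock.Central

set_option autoImplicit false
open Cfsg

namespace Cfsg.Agent.S4505

/-- Let G be a finite group, p a prime and M a maximal ideal of the algebraic integers containing p. For every σ, the number of p-blocks of defect exactly σ is at most the number of conjugacy classes of p-regular elements whose centralizer has order divisible by p^σ but not by p^(σ+1). -/
theorem result {G : Type*} [Group G] [Finite G] (p : ℕ) [Fact p.Prime] (M : Ideal Cfsg.AlgInt) (hM : Cfsg.IsPModular p M) (σ : ℕ) : Nat.card {B : Set (Cfsg.IrrCharacter G) // Cfsg.IsPBlock M B ∧ Cfsg.blockDefect p B = σ} ≤ Nat.card {C : ConjClasses G // ∃ g : G, ConjClasses.mk g = C ∧ ¬ p ∣ orderOf g ∧ (Nat.card (Subgroup.centralizer ({g} : Set G))).factorization p = σ} := by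
  classical
  have := Fintype.ofFinite G
  refine le_of_le_of_eq (BlockDefect.card_blocks_le hM σ) (Nat.card_congr (Equiv.subtypeEquivRight fun q => ?_))
  refine ⟨fun hq => ⟨q.out, Quotient.out_eq q, hq.1, hq.2⟩, ?_⟩
  rintro ⟨g, rfl, h1, h2⟩
  have hconj : IsConj (ConjClasses.mk g).out g :=
    ConjClasses.mk_eq_mk_iff_isConj.mp (Quotient.out_eq (ConjClasses.mk g))
  obtain ⟨c, hc⟩ := isConj_iff.mp hconj
  have ho : orderOf g = orderOf (ConjClasses.mk g).out := by
    conv_lhs => rw [← hc]
    exact orderOf_injective (MulAut.conj c).toMonoidHom (MulEquiv.injective _) _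
  refine ⟨ho ▸ h1, ?_⟩
  rw [← h2]
  congr 1
  congr 1
  have hi := RealBlock.index_centralizer_eq_of_isConj hconj
  have e1 := (Subgroup.centralizer ({(ConjClasses.mk g).out} : Set G)).card_mul_index
  rw [hi, ← (Subgroup.centralizer ({g} : Set G)).card_mul_index] at e1
  exact Nat.eq_of_mul_eq_mul_right (Nat.pos_of_ne_zero (Subgroup.index_ne_zero_of_finite)) e1

end Cfsg.Agent.S4505
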