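import Cfsg.Statements.S4507
import Cfsg.Agent.Lib.CyclicDefect.Apply

set_option autoImplicit false
open Cfsg

namespace Cfsg.Agent.S4507

open Cfsg Cfsg.Agent.Blocks Cfsg.Agent.CyclicDefect

/-- Let G be a finite group whose order g is divisible by the prime p exactly once, g′ = g/p, and fix a maximal ideal M of the algebraic integers containing p. Call two irreducible characters p-conjugate when a field automorphism of ℂ fixing the g′-th roots of unity carries one to the other. Let B be a p-block of positive defect (its defect group is a Sylow p-subgroup). Then B contains a subset Y (the exceptional family) such that: Y is a full p-conjugacy class (its members are pairwise p-conjugate and every p-conjugate of a member of Y lies in Y); every member of B outside Y is p-conjugate only to itself; the size t of Y divides p − 1 and B has exactly t + (p − 1)/t members; and there are signs δ_χ = ±1 (χ ∈ B) such that for every p-regular element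 x and every θ ∈ Y, Σ_{χ ∈ B ∖ Y} δ_χ χ(x) + δ_θ θ(x) = 0. -/
theorem result {G : Type*} [Group G] [Finite G] (p : ℕ) [Fact p.Prime] (M : Ideal Cfsg.AlgInt) (hM : Cfsg.IsPModular p M) (hdiv : p ∣ Nat.card G) (hsq : ¬ p ^ 2 ∣ Nat.card G) (B : Set (Cfsg.IrrCharacter G)) (hB : Cfsg.IsPBlock M B) (hd : 0 < Cfsg.blockDefect p B) : ∃ Y : Set (Cfsg.IrrCharacter G), Y ⊆ B ∧ Y.Nonempty ∧ (∀ θ ∈ Y, ∀ ψ : Cfsg.IrrCharacter G, (∃ σ : ℂ ≃+* ℂ, σ (Complex.exp (2 * Real.pi * Complex.I / ((Nat.card G / p ^ (Nat.card G).factorization p) : ℕ))) = Complex.exp (2 * Real.pi * Complex.I / ((Nat.card G / p ^ (Nat.card G).factorization p) : ℕ)) ∧ (ψ : G → ℂ) = fun g => σ ((θ : G → ℂ) g)) ↔ ψ ∈ Y) ∧ (∀ χ ∈ B, χ ∉ Y → ∀ ψ : Cfsg.IrrCharacter G, (∃ σ : ℂ ≃+* ℂ, σ (Complex.exp (2 * Real.pi * Complex.I / ((Nat.card G / p ^ (Nat.card G).factorization p) : ℕ))) = Complex.exp (2 * Real.pi * Complex.I / ((Nat.card G / p ^ (Nat.card G).factorization p) : ℕ)) ∧ (ψ :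 G → ℂ) = fun g => σ ((χ : G → ℂ) g)) → ψ = χ) ∧ Nat.card Y ∣ p - 1 ∧ Nat.card B = Nat.card Y + (p - 1) / Nat.card Y ∧ ∃ δ : Cfsg.IrrCharacter G → ℤ, (∀ χ ∈ B, δ χ = 1 ∨ δ χ = -1) ∧ ∀ x : G, ¬ p ∣ orderOf x → ∀ θ ∈ Y, (∑ᶠ χ ∈ B \ Y, (δ χ : ℂ) * (χ : G → ℂ) x) + (δ θ : ℂ) * (θ : G → ℂ) x = 0 := by
  classical
  have hp : p.Prime := Fact.out
  obtain ⟨x, hx⟩ := exists_prime_orderOf_dvd_card' p hdiv
  obtain ⟨L, hS⟩ := exists_setting hp hx hsq
  have := Fintype.ofFinite G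
  have := Fintype.ofFinite (IrrCharacter G)
  have := hS.normal_K
  -- a member of degree prime to `p`
  obtain ⟨η, hl⟩ : ∃ η : IrrCharacter (K x L), Lies M x L B η := by
    obtain ⟨e, h, φ, hφ, -, hbd, hdeg, hh, -⟩ := BlockDefect.exists_degrees hM hB
    rw [hS.factorization_card] at hbd
    have he : e = 0 := by omega
    rw [he, pow_zero, one_mul] at hdeg
    obtain ⟨η, hη⟩ := exists_lies_of_not_dvd hS hM φ (by rw [hdeg]; exact hh)
    exact ⟨η, by rwa [← isPBlock_eq_blockOf hM hB hφ] at hη⟩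
  set U' := U hS (η : K x L → ℂ) with hU'
  obtain ⟨hk, exc, ε, δ, hinj, hexcB, hε, hexc, hcst, hrel⟩ := block_structure hS hM hB hl
  have hε0 : ε ≠ 0 := by rcases hε with h | h <;> simp [h]
  have hg' : Nat.card G / p ^ (Nat.card G).factorization p = Nat.card G / p := by
    rw [hS.factorization_card, pow_one]
  rw [hg']
  set g' := Nat.card G / p with hg'def
  have hgp : p * g' = Nat.card G := Nat.mul_div_cancel' hdiv
  have hg0 : g' ≠ 0 := fun h => by rw [h, mul_zero] at hgp; exact Nat.card_pos.ne' hgp.symm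
  have hω := Complex.isPrimitiveRoot_exp g' hg0
  set ω := Complex.exp (2 * Real.pi * Complex.I / (g' : ℕ))
  have hfix : ∀ {σ : ℂ ≃+* ℂ}, σ ω = ω → ∀ z : ℂ, z ^ g' = 1 → σ z = z := by
    intro σ h z hz
    have : NeZero g' := ⟨hg0⟩
    obtain ⟨i, -, rfl⟩ := hω.eq_pow_of_pow_eq_one hz
    rw [map_pow, h]
  have hcast : ∀ m : ℕ, ζ (1 : ZMod p) ^ m = ζ (m : ZMod p) := fun m => by
    show ZMod.stdAddChar 1 ^ m = ZMod.stdAddChar (m : ZMod p)
    rw [← AddChar.map_nsmul_eq_pow, nsmul_one]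
  have hshift : ∀ σ : ℂ ≃+* ℂ, ∃ su : (ZMod p)ˣ, ∀ i : ZMod p, σ (ζ i) = ζ ((su : ZMod p) * i) := by
    intro σ
    have : NeZero p := ⟨hp.ne_zero⟩
    have h1 : σ (ζ (1 : ZMod p)) ^ p = 1 := by rw [← map_pow, ζ_pow, map_one]
    have hprim : IsPrimitiveRoot (ζ (1 : ZMod p)) p := by
      refine IsPrimitiveRoot.iff_orderOf.mpr (orderOf_eq_prime (ζ_pow _) fun h => ?_)
      exact one_ne_zero (ZMod.injective_stdAddChar (h.trans (AddChar.map_zero_eq_one _).symm) :)
    obtain ⟨m, -, hm⟩ := hprim.eq_pow_of_pow_eq_one h1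
    rw [hcast] at hm
    have hm0 : (m : ZMod p) ≠ 0 := fun h => by
      rw [h, ζ_zero] at hm
      exact hprim.ne_one hp.one_lt (σ.injective (hm.symm.trans (map_one σ).symm))
    refine ⟨Units.mk0 _ hm0, fun i => ?_⟩
    rw [ζ_eq_one_pow i, map_pow, ← hm, ← hcast m, ← pow_mul, hcast, Units.val_mk0, Nat.cast_mul,
      ZMod.natCast_zmod_val]
  -- the p-conjugates of a member of the family
  have hconj : ∀ (σ : ℂ ≃+* ℂ) (su : (ZMod p)ˣ), σ ω = ω → (∀ i : ZMod p, σ (ζ i) = ζ ((su : ZMod p) * i)) →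
      ∀ c (ψ : IrrCharacter G), (ψ : G → ℂ) = (fun g => σ ((exc c : G → ℂ) g)) →
        ψ = exc ((su : (ZMod p)ˣ ⧸ U') * c) := by
    intro σ su hσω hsu c ψ hψ
    have hrow : ∀ w : (ZMod p)ˣ, bInt hS ψ η (w : ZMod p) =
        if (w : (ZMod p)ˣ ⧸ U') = (su : (ZMod p)ˣ ⧸ U') * c then ε else 0 := by
      intro w
      have h := bInt_twist hS (hfix hσω) hsu hψ η ((su⁻¹ * w : (ZMod p)ˣ) : ZMod p)
      rw [← Units.val_mul, mul_inv_cancel_left, hexc c] at h
      rw [h]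
      refine if_congr ?_ rfl rfl
      rw [QuotientGroup.mk_mul, QuotientGroup.mk_inv, inv_mul_eq_iff_eq_mul]
    have hψB : ψ ∈ B := by
      refine mem_of_bInt_ne_zero hS hM hB hl (j := ((su * c.out : (ZMod p)ˣ) : ZMod p)) ?_
      rw [hrow, if_pos (by rw [QuotientGroup.mk_mul]; congr 1; exact Quotient.out_eq c)]
      exact hε0
    refine ext_of_rows hS hM hB hl hψB (hexcB _) (fun j => ?_) fun g hg => ?_
    · by_cases hj : j = 0
      · rw [hj, bInt_zero hS, bInt_zero hS]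
      · rw [show j = ((Units.mk0 j hj : (ZMod p)ˣ) : ZMod p) from rfl, hrow, hexc]
    · rw [hψ]
      show σ ((exc c : G → ℂ) g) = _
      rw [fixed_of_regular hS (hfix hσω) (Char.IsIrrCharacter.isCharacter (exc c).2) (hS.dvd_of_regular hg)]
      have h := (hrel g hg c).trans (hrel g hg ((su : (ZMod p)ˣ ⧸ U') * c)).symm
      rw [add_left_cancel_iff] at h
      exact mul_left_cancel₀ (Int.cast_ne_zero.mpr hε0) h
  refine ⟨Set.range exc, fun ψ ⟨c, hc⟩ => hc ▸ hexcB c, ⟨_, ((1 : (ZMod p)ˣ) : (ZMod p)ˣ ⧸ U'), rfl⟩, ?_, ?_, ?_, ?_,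
    fun χ => if χ ∈ Set.range exc then ε else δ χ, fun χ hχ => ?_, ?_⟩
  · rintro θ ⟨c, rfl⟩ ψ
    constructor
    · rintro ⟨σ, hσω, hψ⟩
      obtain ⟨su, hsu⟩ := hshift σ
      exact ⟨_, (hconj σ su hσω hsu c ψ hψ).symm⟩
    · rintro ⟨c', rfl⟩
      set su : (ZMod p)ˣ := c'.out * c.out⁻¹ with hsu
      have hco : Nat.Coprime g' p := by
        refine (hp.coprime_iff_not_dvd.mpr fun h => hsq ?_).symm
        rw [← hgp, pow_two]
        exact Nat.mul_dvd_mul_left p h
      obtain ⟨k, hk1, hk2⟩ := Nat.chineseRemainder hco 1 (su : ZMod p).val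
      have hkp : (k : ZMod p) = su := by
        rw [(ZMod.natCast_eq_natCast_iff k _ p).mpr hk2, ZMod.natCast_zmod_val]
      have hkN : k.Coprime (Nat.card G) := by
        rw [← hgp]
        refine Nat.Coprime.mul_right ((hp.coprime_iff_not_dvd.mpr fun h => ?_).symm) ?_
        · exact su.ne_zero (by rw [← hkp, CharP.cast_eq_zero_iff (ZMod p) p]; exact h)
        · rw [Nat.coprime_iff_gcd_eq_one, Nat.ModEq.gcd_eq hk1, Nat.gcd_one_left]
      obtain ⟨σ, hσ⟩ := GaloisPow.exists_ringAut Nat.card_pos.ne' hkN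
      have hσω : σ ω = ω := by
        rw [hσ ω (by rw [← hgp, mul_comm, pow_mul, hω.pow_eq_one, one_pow])]
        rw [pow_eq_pow_mod k hω.pow_eq_one, hk1, ← pow_eq_pow_mod 1 hω.pow_eq_one, pow_one]
      have hsu' : ∀ i : ZMod p, σ (ζ i) = ζ ((su : ZMod p) * i) := fun i => by
        rw [hσ (ζ i) (by rw [← hgp, pow_mul, ζ_pow, one_pow]), ζ_eq_one_pow i, ← pow_mul, hcast,
          Nat.cast_mul, ZMod.natCast_zmod_val, hkp, mul_comm]
      refine ⟨σ, hσω, ?_⟩
      have hirr : IsIrrCharacter G (fun g => σ ((exc c : G → ℂ) g)) :=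
        GaloisPow.isIrrCharacter_twist σ.toRingHom (exc c).2
      have h := hconj σ su hσω hsu' c ⟨_, hirr⟩ rfl
      rw [show (su : (ZMod p)ˣ ⧸ U') * c = c' by
        rw [hsu, QuotientGroup.mk_mul, QuotientGroup.mk_inv,
          show ((c.out : (ZMod p)ˣ) : (ZMod p)ˣ ⧸ U') = c from Quotient.out_eq c,
          show ((c'.out : (ZMod p)ˣ) : (ZMod p)ˣ ⧸ U') = c' from Quotient.out_eq c',
          inv_mul_cancel_right]] at h
      exact (congrArg Subtype.val h).symm
  · rintro χ hχ hn ψ ⟨σ, hσω, hψ⟩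
    obtain ⟨su, hsu⟩ := hshift σ
    obtain ⟨hd, hrow⟩ := hcst χ hχ hn
    have hrow' : ∀ w : (ZMod p)ˣ, bInt hS ψ η (w : ZMod p) = δ χ := fun w => by
      have h := bInt_twist hS (hfix hσω) hsu hψ η ((su⁻¹ * w : (ZMod p)ˣ) : ZMod p)
      rwa [← Units.val_mul, mul_inv_cancel_left, hrow] at h
    refine ext_of_rows hS hM hB hl (mem_of_bInt_ne_zero hS hM hB hl (j := ((1 : (ZMod p)ˣ) : ZMod p)) ?_) hχ
      (fun j => ?_) fun g hg => ?_
    · rw [hrow']; rcases hd with h | h <;> simp [h]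
    · by_cases hj : j = 0
      · rw [hj, bInt_zero hS, bInt_zero hS]
      · rw [show j = ((Units.mk0 j hj : (ZMod p)ˣ) : ZMod p) from rfl, hrow', hrow]
    · rw [hψ]
      exact fixed_of_regular hS (hfix hσω) (Char.IsIrrCharacter.isCharacter χ.2) (hS.dvd_of_regular hg)
  · rw [Nat.card_range_of_injective hinj, ← card_units_eq hS (η : K x L → ℂ)]
    exact dvd_mul_left _ _
  · rw [Nat.card_range_of_injective hinj, hk, ← card_units_eq hS (η : K x L → ℂ),
      Nat.mul_div_cancel _ Nat.card_pos, add_comm]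
  · by_cases h : χ ∈ Set.range exc
    · simp only [if_pos h]; exact hε
    · simp only [if_neg h]; exact (hcst χ hχ h).1
  · rintro g hg θ ⟨c, rfl⟩
    rw [finsum_mem_eq_toFinset_sum]
    simp only [if_pos (Set.mem_range_self c)]
    refine Eq.trans ?_ (hrel g hg c)
    congr 1
    refine Finset.sum_congr ?_ fun χ hχ => ?_
    · ext χ; simp
    · rw [if_neg ?_]
      revert hχ
      simp only [Finset.mem_filter, Finset.mem_univ, true_and]
      exact fun h => h.2

end Cfsg.Agent.S4507
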