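import Cfsg.Statements.S4508
import Cfsg.Agent.Lib.SelfCentPrime.Chars
import Cfsg.Agent.Lib.SelfCentPrime.Derived
import Cfsg.Agent.Lib.Char.Eigen
import Cfsg.Agent.Lib.CentralChar.Fixed
import Cfsg.Agent.Lib.Char.Linear

set_option autoImplicit false
set_option linter.style.haveILetI false
set_option maxHeartbeats 1000000
open Cfsg

namespace Cfsg.Agent.S4508

/-- Let the finite group G contain an element x of prime order p with C_G(x) = ⟨x⟩, and let t be the number of conjugacy classes of elements of order p. If G has an irreducible character of degree p − 1, then t is even or the commutator subgroup has even index. -/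
theorem result {G : Type*} [Group G] [Finite G] (p : ℕ) (hp : p.Prime) (x : G) (hx : orderOf x = p) (hC : Subgroup.centralizer ({x} : Set G) = Subgroup.zpowers x) (t : ℕ) (ht : Nat.card {C : ConjClasses G // ∃ g ∈ C.carrier, orderOf g = p} = t) (χ : Cfsg.IrrCharacter G) (hχ : Cfsg.charDegree (χ : G → ℂ) + 1 = p) : Even t ∨ Even (commutator G).index := by
  classical
  haveI := Fact.mk hp
  have := Fintype.ofFinite G
  have := Fintype.ofFinite (IrrCharacter G)
  set e := (Subgroup.zpowers x).relIndex (Subgroup.normalizer (Subgroup.zpowers x : Set G)) with he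
  have hte : t * e = p - 1 := ht ▸ SelfCentPrime.card_classes_mul hp hx hC
  have h2p := hp.two_le
  by_contra hcon
  push Not at hcon
  obtain ⟨htodd, hodd⟩ := hcon
  have heq1 : e ≠ 1 := by
    intro he1
    rcases hp.eq_two_or_odd' with h2 | hpodd
    · refine hodd ?_
      rw [(SelfCentPrime.commutator_of_abelian_normalizer hp hx hC he1).1, h2]
      exact even_two
    · rw [he1, mul_one] at hte
      exact htodd (hte ▸ Nat.Odd.sub_odd hpodd odd_one)
  have he0 : e ≠ 0 := SelfCentPrime.relIndex_ne_zero hp hx hC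
  have htlt : t < p - 1 := by
    rw [← hte]; exact lt_mul_of_one_lt_right (Nat.pos_of_ne_zero fun h => by rw [h, zero_mul] at hte; omega) (by omega)
  -- the character on `P`
  obtain ⟨m, hm⟩ : p ∣ Nat.card G := SelfCentPrime.prime_dvd_card hp hx hC
  obtain ⟨M, hM⟩ := CentralChar.exists_pModular p
  have := Fintype.ofFinite (Subgroup.zpowers x)
  let one : IrrCharacter G := ⟨fun _ => 1, Char.isIrrCharacter_one⟩
  have hd1 : charDegree (one : G → ℂ) = 1 := by simp [charDegree, one]
  have hdχ : ¬ p ∣ charDegree (χ : G → ℂ) := fun hd => by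
    have := Nat.le_of_dvd (Blocks.charDegree_pos χ) hd; omega
  have hd1' : ¬ p ∣ charDegree (one : G → ℂ) := hd1 ▸ hp.not_dvd_one
  obtain ⟨n₁, hn₁, hc₁, hs₁⟩ := SelfCentPrime.exists_regular_integer hp hx hC hM one one hd1' hd1' hm
  obtain ⟨n, hn, hc, hs⟩ := SelfCentPrime.exists_regular_integer hp hx hC hM χ χ hdχ hdχ hm
  obtain ⟨c, hcn, -, hsc⟩ := SelfCentPrime.exists_regular_integer hp hx hC hM χ one hdχ hd1' hm
  have hcardP : Nat.card (Subgroup.zpowers x) = p := by rw [Nat.card_zpowers, hx]
  have hcardfil : (Finset.univ.filter fun u : Subgroup.zpowers x => u ≠ 1).card = p - 1 := by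
    rw [Finset.filter_ne', Finset.card_erase_of_mem (Finset.mem_univ _), Finset.card_univ,
      ← Nat.card_eq_fintype_card, hcardP]
  have hn1v : n₁ = (p : ℤ) - t := by
    simp only [if_true, one, mul_one, map_one, Finset.sum_const, hcardfil, nsmul_eq_mul] at hs₁
    rw [← he, ← hte] at hs₁
    push_cast at hs₁
    have he0' : (e : ℂ) ≠ 0 := Nat.cast_ne_zero.mpr he0
    have : ((n₁ : ℂ)) = (((p : ℤ) - t : ℤ) : ℂ) := by
      push_cast
      apply mul_left_cancel₀ he0'
      linear_combination hs₁
    exact_mod_cast this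
  rw [hd1] at hc₁
  have hdeg : (charDegree (χ : G → ℂ) : ℤ) = p - 1 := by omega
  rw [hdeg] at hc
  -- `n` is `p - t`
  let S : ℝ := ∑ u ∈ Finset.univ.filter (fun u : Subgroup.zpowers x => u ≠ 1),
    Complex.normSq ((χ : G → ℂ) (u : G))
  have hS : S = (e : ℝ) * ((p : ℝ) - (n : ℝ)) := by
    apply Complex.ofReal_injective
    simp only [if_true, mul_one] at hs
    push_cast [S]
    rw [he, ← hs]
    exact Finset.sum_congr rfl fun u _ => by rw [Complex.normSq_eq_conj_mul_self]; ring
  have hnlt : n ≤ p := by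
    have h0 : 0 ≤ (e : ℝ) * ((p : ℝ) - (n : ℝ)) := hS ▸ Finset.sum_nonneg fun u _ => Complex.normSq_nonneg _
    have := nonneg_of_mul_nonneg_right h0 (by positivity)
    exact_mod_cast (by linarith : (n : ℝ) ≤ p)
  have hnpos : 0 < n := by
    have h : (n : ℝ) = (p : ℝ) * ((Nat.card G : ℝ)⁻¹ *
        ∑ g : G, if p ∣ orderOf g then 0 else Complex.normSq ((χ : G → ℂ) g)) := by
      apply Complex.ofReal_injective
      push_cast
      rw [hn]
      unfold BlockDefect.regInner
      congr 2
      refine Finset.sum_congr rfl fun g _ => ?_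
      simp only [BlockDefect.regFun]
      split_ifs
      · simp
      · rw [Char.IsCharacter.apply_inv (Char.IsIrrCharacter.isCharacter χ.2), Complex.normSq_eq_conj_mul_self]
    have h' : (0 : ℝ) < (n : ℝ) := by
      rw [h]
      refine mul_pos (by exact_mod_cast hp.pos) (mul_pos (inv_pos.mpr (by exact_mod_cast Nat.card_pos)) ?_)
      refine Finset.sum_pos' (fun g _ => ?_) ⟨1, Finset.mem_univ _, ?_⟩
      · split_ifs
        · exact le_rfl
        · exact Complex.normSq_nonneg _
      · rw [if_neg (by simpa using hp.ne_one)]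
        exact Complex.normSq_pos.mpr (Blocks.irr_one_ne_zero χ)
    exact_mod_cast h'
  have hnv : n = (p : ℤ) - t := by
    have hd : (p : ℤ) ∣ (m : ℤ) * (n - n₁) := by
      have h := dvd_add (dvd_sub hc hc₁) (show (p : ℤ) ∣ (p : ℤ) * ((p : ℤ) - 2) from dvd_mul_right _ _)
      convert h using 1
      push_cast
      all_goals first | rfl | (push_cast; ring)
    rcases (Nat.prime_iff_prime_int.mp hp).dvd_or_dvd hd with h | h
    · exact absurd (Int.natCast_dvd_natCast.mp h) fun hd' => SelfCentPrime.not_sq_dvd hp hx hC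
        (by rw [hm, pow_two]; exact mul_dvd_mul_left p hd')
    · have h1 : n - n₁ = 0 := by
        refine Int.eq_zero_of_abs_lt_dvd h ?_
        rw [hn1v, abs_lt]
        constructor <;> omega
      omega
  -- multiplicity of the trivial character
  have hres : IsCharacter (Subgroup.zpowers x) (fun u => (χ : G → ℂ) (u : G)) :=
    Char.IsCharacter.restrict (Char.IsIrrCharacter.isCharacter χ.2) _
  have hall : classInner (fun u : Subgroup.zpowers x => (χ : G → ℂ) (u : G))
      (fun u : Subgroup.zpowers x => (χ : G → ℂ) (u : G)) = ((p - 1 : ℕ) : ℂ) := by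
    rw [classInner, ← Finset.add_sum_erase _ _ (Finset.mem_univ (1 : Subgroup.zpowers x)), ← Finset.filter_ne']
    simp only [if_true, mul_one] at hs
    rw [hs, ← he, hnv, hcardP, OneMemClass.coe_one, ← Blocks.charDegree_cast, Complex.conj_natCast]
    have e0 : charDegree (χ : G → ℂ) = p - 1 := by omega
    have hp0 : (p : ℂ) ≠ 0 := Nat.cast_ne_zero.mpr hp.ne_zero
    rw [e0, inv_mul_eq_iff_eq_mul₀ hp0]
    have e1 : ((p - 1 : ℕ) : ℂ) = (p : ℂ) - 1 := by rw [Nat.cast_sub hp.one_le]; simp
    have e2 : (t : ℂ) * e = (p : ℂ) - 1 := by rw [← e1, ← hte]; push_cast; ring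
    rw [e1]
    push_cast
    linear_combination e2
  have := Fintype.ofFinite (IrrCharacter (Subgroup.zpowers x))
  obtain ⟨μ, hμ⟩ : ∃ μ : IrrCharacter (Subgroup.zpowers x) → ℕ,
      ∀ l : IrrCharacter (Subgroup.zpowers x), classInner (fun u : Subgroup.zpowers x => (χ : G → ℂ) (u : G))
        (l : Subgroup.zpowers x → ℂ) = μ l :=
    ⟨_, fun l => (Char.IsCharacter.classInner_nat hres (Char.IsIrrCharacter.isCharacter l.2)).choose_spec⟩
  have hexp := fun u => congrFun (Char.classFunction_eq_sum (Char.IsCharacter.isClassFunction hres)) u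
  have hlin : ∀ l : IrrCharacter (Subgroup.zpowers x), (l : Subgroup.zpowers x → ℂ) 1 = 1 := fun l => by
    letI := (isCyclic_of_prime_card hcardP).commGroup
    exact Char.apply_one_eq_one_of_comm (fun a b => mul_comm a b) l
  let onP : IrrCharacter (Subgroup.zpowers x) := ⟨fun _ => 1, Char.isIrrCharacter_one⟩
  have hsum : ∑ l, (μ l : ℂ) = ((p - 1 : ℕ) : ℂ) := by
    have h := hexp 1
    simp only [OneMemClass.coe_one, Finset.sum_apply, Pi.smul_apply, smul_eq_mul, hμ, hlin, mul_one] at h
    rw [← h, ← Blocks.charDegree_cast]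
    congr 1
    omega
  have hsq : ∑ l, (μ l : ℂ) * μ l = ((p - 1 : ℕ) : ℂ) := by
    rw [← hall]
    conv_rhs => enter [1]; rw [Char.classFunction_eq_sum (Char.IsCharacter.isClassFunction hres)]
    rw [Char.classInner_sum_left]
    refine Finset.sum_congr rfl fun l _ => ?_
    rw [Char.classInner_smul_left, hμ, ← Char.classInner_conj_symm, hμ, Complex.conj_natCast]
  have hμle : μ onP ≤ 1 := by
    have h1 : ∑ l, μ l = ∑ l, μ l * μ l := by
      apply Nat.cast_injective (R := ℂ); push_cast; rw [hsum, hsq]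
    have h2 := (Finset.sum_eq_sum_iff_of_le fun l _ => Nat.le_mul_self (μ l)).mp h1 onP (Finset.mem_univ _)
    by_contra h3
    push Not at h3
    nlinarith
  have hμ0 : μ onP = 0 := by
    have h := hμ onP
    rw [classInner, ← Finset.add_sum_erase _ _ (Finset.mem_univ (1 : Subgroup.zpowers x)), ← Finset.filter_ne',
      hcardP] at h
    have hne : χ ≠ one := fun h1 => by
      rw [h1, hd1] at hχ
      have hp2 : p = 2 := by omega
      subst hp2
      exact heq1 (Nat.eq_one_of_mul_eq_one_left (hte.trans rfl))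
    simp only [if_neg hne, mul_zero, one, map_one, mul_one, zero_sub] at hsc
    simp only [onP, map_one, mul_one, OneMemClass.coe_one, hsc] at h
    rw [← Blocks.charDegree_cast, ← he, inv_mul_eq_iff_eq_mul₀ (Nat.cast_ne_zero.mpr hp.ne_zero)] at h
    have h' : ((p : ℤ) * μ onP : ℤ) = (charDegree (χ : G → ℂ) : ℤ) - e * c := by
      have : (((p : ℤ) * μ onP : ℤ) : ℂ) = ((((charDegree (χ : G → ℂ) : ℤ) - e * c : ℤ)) : ℂ) := by
        push_cast
        linear_combination -h
      exact_mod_cast this
    have hd : (e : ℤ) ∣ (p : ℤ) * μ onP :=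
      ⟨(t : ℤ) - c, by rw [h', show (charDegree (χ : G → ℂ) : ℤ) = ((t * e : ℕ) : ℤ) by omega]; push_cast; ring⟩
    have hd' : e ∣ p * μ onP := by exact_mod_cast hd
    have hco : Nat.Coprime e p := ((hp.coprime_iff_not_dvd).mpr fun h => by
      have := Nat.le_of_dvd (Nat.pos_of_ne_zero he0) h
      have : e ∣ p - 1 := ⟨t, by rw [mul_comm, hte]⟩
      have := Nat.le_of_dvd (by omega) this
      omega).symm
    have h5 := Nat.le_of_dvd (n := μ onP) (m := e)
    rcases Nat.eq_zero_or_pos (μ onP) with h0 | h0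
    · exact h0
    · have := h5 h0 (hco.dvd_of_dvd_mul_left hd'); omega
  have hPsum : ∀ g : G, ∑ u : Subgroup.zpowers x, (χ : G → ℂ) ((u : G) * g) = 0 := by
    obtain ⟨d, ρ, hirr, hρ⟩ := χ.2
    haveI : Invertible (Nat.card (Subgroup.zpowers x) : ℂ) :=
      invertibleOfNonzero (Nat.cast_ne_zero.mpr Nat.card_pos.ne')
    let ρP : Representation ℂ (Subgroup.zpowers x) (Fin d → ℂ) := ρ.comp (Subgroup.zpowers x).subtype
    have hav := Representation.card_inv_mul_sum_char_eq_finrank (ρ := ρP)
    have h0 : ∑ u : Subgroup.zpowers x, ρP.character u = 0 := by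
      have h := hμ onP
      rw [hμ0, classInner, Nat.cast_zero, mul_eq_zero] at h
      rcases h with h | h
      · simp at h
      · rw [← hρ] at h
        simpa [onP, ρP, Representation.character] using h
    rw [h0, mul_zero] at hav
    have hinv : ρP.invariants = ⊥ := Submodule.finrank_eq_zero.mp (by exact_mod_cast hav.symm)
    intro g
    rw [← hρ]
    simp only [Representation.character, map_mul, ← map_sum, ← Finset.sum_mul]
    have hz : ∑ u : Subgroup.zpowers x, ρ (u : G) = 0 := by
      refine LinearMap.ext fun v => ?_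
      have hmem : (∑ u : Subgroup.zpowers x, ρ (u : G)) v ∈ ρP.invariants := fun u₀ => by
        show ρ (u₀ : G) _ = _
        simp only [LinearMap.coe_sum, Finset.sum_apply, map_sum, ← Module.End.mul_apply, ← map_mul]
        exact Fintype.sum_equiv (Equiv.mulLeft u₀) _ _ fun u => rfl
      rw [hinv] at hmem
      simpa using hmem
    rw [hz, zero_mul, map_zero]
  -- the generator of the normaliser
  obtain ⟨w, hwN, hwe, hwj⟩ := SelfCentPrime.exists_normalizer_generator hp hx hC
  rw [← he] at hwe hwj
  have hzero : ∀ j : ℕ, ¬ e ∣ j → (χ : G → ℂ) (w ^ j) = 0 := by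
    intro j hj
    set g := w ^ j
    have hgN : g ∈ Subgroup.normalizer (Subgroup.zpowers x : Set G) := pow_mem hwN j
    let F : Subgroup.zpowers x → Subgroup.zpowers x := fun u =>
      ⟨(u : G) * g * (u : G)⁻¹ * g⁻¹, by
        rw [show (u : G) * g * (u : G)⁻¹ * g⁻¹ = (u : G) * (g * (u : G)⁻¹ * g⁻¹) by group]
        exact mul_mem u.2 ((Subgroup.mem_normalizer_iff.mp hgN _).mp (inv_mem u.2))⟩
    have hF : Function.Injective F := by
      intro u u' h
      have h' : (u : G) * g * (u : G)⁻¹ * g⁻¹ = (u' : G) * g * (u' : G)⁻¹ * g⁻¹ := congrArg Subtype.val h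
      by_contra hne
      have hv : ((u' : G)⁻¹ * u) ≠ 1 := fun h1 => hne (Subtype.ext (inv_mul_eq_one.mp h1).symm)
      have hvP : (u' : G)⁻¹ * u ∈ Subgroup.zpowers x := mul_mem (inv_mem u'.2) u.2
      have hc : Commute g ((u' : G)⁻¹ * u) := by
        have h'' : (u : G) * g * (u : G)⁻¹ = (u' : G) * g * (u' : G)⁻¹ := mul_right_cancel h'
        show g * ((u' : G)⁻¹ * u) = (u' : G)⁻¹ * u * g
        calc g * ((u' : G)⁻¹ * u) = (u' : G)⁻¹ * ((u' : G) * g * (u' : G)⁻¹) * u := by group
          _ = (u' : G)⁻¹ * ((u : G) * g * (u : G)⁻¹) * u := by rw [h'']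
          _ = _ := by group
      obtain ⟨i, hi⟩ := Subgroup.mem_zpowers_iff.mp (SelfCentPrime.exists_pow_eq_of_ne_one hp hx hC hvP hv)
      exact hj (hwj j (SelfCentPrime.mem_of_comm hp hx hC (hi ▸ (hc.zpow_right i).eq)))
    have h1 := hPsum g
    rw [← (Finite.injective_iff_bijective.mp hF).sum_comp (fun u => (χ : G → ℂ) ((u : G) * g))] at h1
    simp only [F, inv_mul_cancel_right, Char.IsIrrCharacter.isClassFunction χ.2 g] at h1
    rw [Finset.sum_const, Finset.card_univ, nsmul_eq_mul, mul_eq_zero] at h1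
    exact h1.resolve_left (Nat.cast_ne_zero.mpr Fintype.card_ne_zero)
  -- the determinant of `w`
  obtain ⟨d, ρ, hirr, hρ⟩ := χ.2
  obtain ⟨b, r, hb, -⟩ := Char.exists_eigenbasis ρ w
  have hr : ∀ i, r i ^ e = 1 := fun i => by
    have hp' : ∀ k : ℕ, (ρ (w ^ k)) (b i) = r i ^ k • b i := fun k => by
      induction k with
      | zero => simp
      | succ k ih => rw [pow_succ, map_mul, Module.End.mul_apply, hb i, map_smul, ih, smul_smul, pow_succ']
    have h := hp' e
    rw [hwe, map_one, Module.End.one_apply] at h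
    exact (smul_left_injective ℂ (b.ne_zero i) (by simpa using h.symm))
  haveI : NeZero e := ⟨he0⟩
  set ζ := Complex.exp (2 * Real.pi * Complex.I / e) with hζdef
  have hζ : IsPrimitiveRoot ζ e := Complex.isPrimitiveRoot_exp e he0
  have hps : ∀ j : ℕ, ∑ i, r i ^ j = if e ∣ j then ((t * e : ℕ) : ℂ) else 0 := by
    intro j
    rw [← Char.character_pow ρ w b r hb j, hρ]
    split_ifs with hj
    · obtain ⟨k, rfl⟩ := hj
      rw [pow_mul, hwe, one_pow, ← Blocks.charDegree_cast]
      congr 1; omega
    · exact hzero j hj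
  have hcount : ∀ k < e, (Finset.univ.filter fun i => r i = ζ ^ k).card = t := by
    intro k hk
    have hζk : (ζ ^ k) ≠ 0 := pow_ne_zero _ (hζ.ne_zero he0)
    have hgeom : ∀ i, ∑ j ∈ Finset.range e, (r i * (ζ ^ k)⁻¹) ^ j = if r i = ζ ^ k then (e : ℂ) else 0 := by
      intro i
      split_ifs with h
      · rw [h, mul_inv_cancel₀ hζk]; simp
      · have h1 : r i * (ζ ^ k)⁻¹ ≠ 1 := fun h1 => h ((mul_inv_eq_one₀ hζk).mp h1)
        rw [geom_sum_eq h1, mul_pow, hr, inv_pow, ← pow_mul, mul_comm k e, pow_mul, hζ.pow_eq_one]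
        simp
    have h1 : ∑ i, ∑ j ∈ Finset.range e, (r i * (ζ ^ k)⁻¹) ^ j = ((t * e : ℕ) : ℂ) := by
      rw [Finset.sum_comm, Finset.sum_eq_single 0]
      · have := hps 0
        simpa using this
      · intro j hj hj0
        simp only [mul_pow, ← Finset.sum_mul, hps j]
        rw [if_neg, zero_mul]
        intro hd
        exact hj0 (Nat.eq_zero_of_dvd_of_lt hd (Finset.mem_range.mp hj))
      · intro h; exact absurd (Finset.mem_range.mpr (Nat.pos_of_ne_zero he0)) h
    simp only [hgeom] at h1
    rw [← Finset.sum_filter, Finset.sum_const, nsmul_eq_mul] at h1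
    push_cast at h1
    exact_mod_cast mul_right_cancel₀ (Nat.cast_ne_zero.mpr he0) h1
  have hprod : ∏ i, r i = -1 := by
    have heven : Even e := by
      have hte' : Even (t * e) := hte ▸ Nat.Odd.sub_odd
        ((hp.eq_two_or_odd').resolve_left (fun h2 => heq1 (Nat.eq_one_of_mul_eq_one_left (hte.trans (by rw [h2])))))
        odd_one
      exact (Nat.even_mul.mp hte').resolve_left htodd
    have hmem : ∀ i ∈ (Finset.univ : Finset (Fin (Module.finrank ℂ (Fin d → ℂ)))), r i ∈
        (Finset.range e).image (fun k => ζ ^ k) := fun i _ => by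
      obtain ⟨k, hk, hk'⟩ := hζ.eq_pow_of_pow_eq_one (hr i)
      exact Finset.mem_image.mpr ⟨k, Finset.mem_range.mpr hk, hk'⟩
    rw [← Finset.prod_fiberwise_of_maps_to hmem, Finset.prod_image fun a ha b hb h =>
      hζ.pow_inj (Finset.mem_range.mp ha) (Finset.mem_range.mp hb) h,
      Finset.prod_congr rfl (g := fun k => (ζ ^ k) ^ t) fun k hk => by
        rw [Finset.prod_congr rfl (g := fun _ => ζ ^ k) fun i hi => (Finset.mem_filter.mp hi).2,
          Finset.prod_const, hcount k (Finset.mem_range.mp hk)],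
      Finset.prod_pow, Finset.prod_pow_eq_pow_sum]
    obtain ⟨e', he'⟩ := heven
    have hhalf : ζ ^ e' = -1 := by
      have h2 : IsPrimitiveRoot (ζ ^ e') 2 := hζ.pow (Nat.pos_of_ne_zero he0) (by omega)
      exact h2.eq_neg_one_of_two_right
    have hs : ∑ k ∈ Finset.range e, k = e' * (2 * e' - 1) := by
      have := Finset.sum_range_id_mul_two e
      rw [he'] at this ⊢
      apply Nat.eq_of_mul_eq_mul_right (two_pos)
      rw [this, ← two_mul]; ring
    rw [hs, pow_mul, hhalf, Odd.neg_one_pow (Nat.Even.sub_odd (by omega) (even_two_mul e') odd_one),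
      Odd.neg_one_pow (Nat.not_even_iff_odd.mp htodd)]
  -- hence the derived group has even index
  let l : G →* ℂ := (LinearMap.det : Module.End ℂ (Fin d → ℂ) →* ℂ).comp ρ
  have hlw : l w = -1 := by
    rw [← hprod]
    show LinearMap.det (ρ w) = _
    have hmat : LinearMap.toMatrix b b (ρ w) = Matrix.diagonal r := by
      ext i j
      rw [LinearMap.toMatrix_apply, hb j, map_smul, Module.Basis.repr_self, Finsupp.smul_single, smul_eq_mul,
        mul_one, Finsupp.single_apply, Matrix.diagonal_apply]
      by_cases h : i = j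
      · subst h; simp
      · rw [if_neg h, if_neg (fun h' => h h'.symm)]
    rw [← LinearMap.det_toMatrix b, hmat, Matrix.det_diagonal]
  let f := Abelianization.lift l.toHomUnits
  have hf : f (Abelianization.of w) = -1 := by
    rw [Abelianization.lift_apply_of]
    exact Units.ext (by simpa using hlw)
  have h2 : orderOf (f (Abelianization.of w)) = 2 := by
    rw [hf]
    exact orderOf_eq_prime (by simp) (fun h => by
      have := congrArg Units.val h
      norm_num at this)
  refine hodd (even_iff_two_dvd.mpr (h2 ▸ (orderOf_map_dvd f _).trans ?_))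
  rw [Subgroup.index]
  exact orderOf_dvd_natCard _

end Cfsg.Agent.S4508
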