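import Cfsg.Statements.S4509
import Cfsg.Agent.Lib.SelfCentPrime.Derived

set_option autoImplicit false
open Cfsg

namespace Cfsg.Agent.S4509

/-- Let the finite group G contain an element x of prime order p with C_G(x) = ⟨x⟩; let t be the number of conjugacy classes of elements of order p and 1 + n·p the number of subgroups of order p. Then G has a normal subgroup of order 1 + n·p if and only if either t = p − 1, or t < p − 1 and G″ ≠ G′. Moreover, if t = p − 1 then G′ has order 1 + n·p and G/G′ is cyclic of order p; and if t < p − 1 and G″ ≠ G′ then G″ has order 1 + n·p and G′ has order p·(1 + n·p). -/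
theorem result {G : Type*} [Group G] [Finite G] (p : ℕ) (hp : p.Prime) (x : G) (hx : orderOf x = p) (hC : Subgroup.centralizer ({x} : Set G) = Subgroup.zpowers x) (t : ℕ) (ht : Nat.card {C : ConjClasses G // ∃ g ∈ C.carrier, orderOf g = p} = t) (n : ℕ) (hn : Nat.card {H : Subgroup G // Nat.card H = p} = 1 + n * p) : ((∃ S : Subgroup G, S.Normal ∧ Nat.card S = 1 + n * p) ↔ (t = p - 1 ∨ (t < p - 1 ∧ derivedSeries G 2 ≠ derivedSeries G 1))) ∧ (t = p - 1 → Nat.card (commutator G) = 1 + n * p ∧ IsCyclic (G ⧸ commutator G) ∧ (commutator G).index = p) ∧ (t < p - 1 → derivedSeries G 2 ≠ derivedSeries G 1 → Nat.card (derivedSeries G 2) = 1 + n * p ∧ Nat.card (commutator G) = p * (1 + n * p)) := by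
  have := Fact.mk hp
  have hte := SelfCentPrime.card_classes_mul hp hx hC
  rw [ht] at hte
  have h2 := hp.two_le
  rw [SelfCentPrime.card_sylow_subgroup_set hp hx hC] at hn
  set N := Subgroup.normalizer (Subgroup.zpowers x : Set G) with hN
  set e := (Subgroup.zpowers x).relIndex N with he
  have h0 : e ≠ 0 := SelfCentPrime.relIndex_ne_zero hp hx hC
  have main1 : t = p - 1 → Nat.card (commutator G) = 1 + n * p ∧ IsCyclic (G ⧸ commutator G) ∧
      (commutator G).index = p := by
    intro heq
    rw [heq] at hte
    have he1 : e = 1 := Nat.eq_of_mul_eq_mul_left (by omega : 0 < p - 1) (hte.trans (mul_one _).symm)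
    obtain ⟨hi, -⟩ := SelfCentPrime.commutator_of_abelian_normalizer hp hx hC he1
    refine ⟨?_, isCyclic_of_prime_card (p := p) hi, hi⟩
    have hNcard : Nat.card N = p := by
      have h := Subgroup.card_mul_index ((Subgroup.zpowers x).subgroupOf N)
      rw [Nat.card_congr (Subgroup.subgroupOfEquivOfLe Subgroup.le_normalizer).toEquiv,
        Nat.card_zpowers, hx] at h
      rw [← h]
      show p * e = p
      rw [he1, mul_one]
    have h := Subgroup.card_mul_index (commutator G)
    rw [hi, ← Subgroup.card_mul_index N, hNcard, hn, mul_comm] at h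
    exact Nat.eq_of_mul_eq_mul_left hp.pos h
  have main2 : t < p - 1 → derivedSeries G 2 ≠ derivedSeries G 1 →
      Nat.card (derivedSeries G 2) = 1 + n * p ∧ Nat.card (commutator G) = p * (1 + n * p) := by
    intro hlt hne
    have he1 : e ≠ 1 := fun h => hlt.ne (by rw [← hte, h, mul_one])
    rw [← hn]
    exact SelfCentPrime.derived_structure hp hx hC he1 hne
  refine ⟨⟨?_, ?_⟩, main1, main2⟩
  · rintro ⟨S, hS, hcard⟩
    by_cases heq : t = p - 1
    · exact Or.inl heq
    right
    have hlt : t < p - 1 := lt_of_le_of_ne (hte ▸ Nat.le_mul_of_pos_right t (Nat.pos_of_ne_zero h0)) heq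
    refine ⟨hlt, SelfCentPrime.derived_ne_of_exists hp hx hC (fun h => heq (by rw [← hte, show e = 1 from h, mul_one]))
      (S := S) ?_ (hcard.trans hn.symm)⟩
    rw [hcard, Nat.dvd_add_left (dvd_mul_left p n), Nat.dvd_one]
    exact hp.one_lt.ne'
  · rintro (h | ⟨hlt, hne⟩)
    · exact ⟨commutator G, inferInstance, (main1 h).1⟩
    · exact ⟨derivedSeries G 2, derivedSeries_normal G 2, (main2 hlt hne).1⟩

end Cfsg.Agent.S4509
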