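import Cfsg.Statements.S4510
import Cfsg.Agent.Lib.BlockDefect.DefectClass

set_option autoImplicit false
open Cfsg

namespace Cfsg.Agent.S4510

/-- Let G be a finite group, p a prime, M a maximal ideal of the algebraic integers containing p, and call the defect of a conjugacy class the exponent of p in the order of the centralizer of its elements. Two irreducible characters lying in p-blocks of defect exactly d lie in the same block if and only if their central characters (class size times χ(x)/χ(1)) agree modulo the local ideal at M at every p-regular element x whose class has defect exactly d. -/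
theorem result {G : Type*} [Group G] [Finite G] (p : ℕ) [Fact p.Prime] (M : Ideal Cfsg.AlgInt) (hM : Cfsg.IsPModular p M) (d : ℕ) (χ ψ : Cfsg.IrrCharacter G) (hχ : Cfsg.blockDefect p (Cfsg.blockOf M (χ : G → ℂ)) = d) (hψ : Cfsg.blockDefect p (Cfsg.blockOf M (ψ : G → ℂ)) = d) : Cfsg.SameBlock M (χ : G → ℂ) (ψ : G → ℂ) ↔ ∀ x : G, ¬ p ∣ orderOf x → (Nat.card (Subgroup.centralizer ({x} : Set G))).factorization p = d → Cfsg.MemLocalIdeal M (Cfsg.centralChar (χ : G → ℂ) x - Cfsg.centralChar (ψ : G → ℂ) x) := by
  classical
  have := Fintype.ofFinite G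
  have := Fintype.ofFinite (ConjClasses G)
  refine ⟨fun h x _ _ => h x, fun h => ?_⟩
  by_contra hne
  have hB := Blocks.isPBlock_blockOf (M := M) hM χ
  have h1 := BlockDefect.memI_blockInd_sub_sum hM hB hχ χ hχ
  have h2 := BlockDefect.memI_blockInd_sub_sum hM hB hχ ψ hψ
  rw [Blocks.blockInd_of_mem (Blocks.mem_blockOf_self hM χ)] at h1
  rw [Blocks.blockInd_of_notMem (show ψ ∉ blockOf M (χ : G → ℂ) from fun hm =>
    hne (Blocks.sameBlock_of_mem hM hB (Blocks.mem_blockOf_self hM χ) hm)), zero_sub] at h2
  refine Blocks.not_memI_one hM ((Blocks.memI_iff_of_sub hM h1).mpr ?_)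
  refine (Blocks.memI_iff_of_sub hM ?_).mpr (by simpa using Blocks.memI_neg h2)
  rw [← Finset.sum_sub_distrib]
  refine Blocks.memI_sum hM _ fun q _ => ?_
  by_cases hq : BlockDefect.IsDefClass p d q.out
  · rw [if_pos hq, if_pos hq, ← mul_sub]
    exact Blocks.memI_mul_left hM (Blocks.memR_blockCoeff hM hB _) (h _ hq.1 hq.2)
  · rw [if_neg hq, if_neg hq, sub_self]
    exact Blocks.memI_zero hM

end Cfsg.Agent.S4510
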