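import Cfsg.Statements.S4514
import Cfsg.Agent.Lib.ConstDiff.Structure
import Cfsg.Agent.Lib.ConstDiff.Converse

set_option autoImplicit false
open Cfsg

namespace Cfsg.Agent.S4514

/-- Let G be a finite group, u an element of G, and fix a maximal ideal M of the algebraic integers containing 2 (defining the 2-blocks). There is a complex number k with χ(1) − χ(u) = k for every non-principal irreducible character χ in the principal 2-block if and only if one of the following holds: u lies in O(G); or G/O(G) has order 2 and u ∉ O(G); or G/O(G) ≅ PSL(2, 2ⁿ) for some n ≥ 2, u ∉ O(G) and u² ∈ O(G). -/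
theorem result {G : Type*} [Group G] [Finite G] (M : Ideal Cfsg.AlgInt) (hM : Cfsg.IsPModular 2 M) (u : G) :
    (∃ k : ℂ, ∀ χ : Cfsg.IrrCharacter G, χ ∈ Cfsg.principalBlock M G → (χ : G → ℂ) ≠ (fun _ => 1) →
        (χ : G → ℂ) 1 - (χ : G → ℂ) u = k) ↔
      (u ∈ Cfsg.oddCore G ∨ (Nat.card (G ⧸ Cfsg.oddCore G) = 2 ∧ u ∉ Cfsg.oddCore G) ∨
        (∃ (F : Type) (_ : Field F) (_ : Fintype F) (n : ℕ), 2 ≤ n ∧ Fintype.card F = 2 ^ n ∧
          Nonempty (G ⧸ Cfsg.oddCore G ≃* Matrix.ProjectiveSpecialLinearGroup (Fin 2) F) ∧ u ∉ Cfsg.oddCore G ∧ u ^ 2 ∈ Cfsg.oddCore G)) := by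
  have hO : Cfsg.oddCore (G ⧸ Cfsg.oddCore G) = ⊥ := Cfsg.Agent.Cores.pPrimeCore_quotient_self 2
  have hmk : ∀ g : G, (QuotientGroup.mk g : G ⧸ Cfsg.oddCore G) = 1 ↔ g ∈ Cfsg.oddCore G := fun g =>
    QuotientGroup.eq_one_iff g
  constructor
  · rintro ⟨k, hk⟩
    by_cases hu : u ∈ Cfsg.oddCore G
    · exact Or.inl hu
    rcases ConstDiff.forward hM hO ((ConstDiff.const_quotient hM u k).1 hk) (fun h => hu ((hmk u).1 h)) with
      h | ⟨F, hF1, hF2, n, hn, hF, he, hsq⟩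
    · exact Or.inr (Or.inl ⟨h, hu⟩)
    · exact Or.inr (Or.inr ⟨F, hF1, hF2, n, hn, hF, he, hu, (hmk _).1 (by rw [QuotientGroup.mk_pow, hsq])⟩)
  · rintro (hu | ⟨h, hu⟩ | ⟨F, hF1, hF2, n, hn, hF, ⟨e⟩, hu, hu2⟩)
    · exact ⟨0, (ConstDiff.const_quotient hM u 0).2 (by rw [(hmk u).2 hu]; exact ConstDiff.const_one)⟩
    · exact ⟨2, (ConstDiff.const_quotient hM u 2).2 (ConstDiff.const_two h fun h' => hu ((hmk u).1 h'))⟩
    · refine ⟨_, (ConstDiff.const_quotient hM u _).2 (ConstDiff.const_psl hn hF e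
        (Involution.orderOf_of_sq ?_ fun h' => hu ((hmk u).1 h')))⟩
      rw [← QuotientGroup.mk_mul, ← pow_two]
      exact (hmk _).2 hu2

end Cfsg.Agent.S4514
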