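import Cfsg.Statements.S4518
import Cfsg.Agent.Lib.GaloisPow.Twist
import Cfsg.Agent.Lib.Char.Induced

set_option autoImplicit false
open Cfsg

namespace Cfsg.Agent.S4518

open Cfsg
open scoped ComplexConjugate

set_option linter.unusedSectionVars false
variable {G : Type*} [Group G] [Fintype G] {N : Subgroup G} [hN : N.Normal]

/-- Conjugate of an irreducible character of a normal subgroup. -/
noncomputable def conjIrr (g : G) (θ : IrrCharacter N) : IrrCharacter N :=
  ⟨fun n => (θ : N → ℂ) (MulAut.conjNormal g⁻¹ n),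
    Char.IsIrrCharacter.comp_equiv θ.2 (MulAut.conjNormal g⁻¹)⟩

theorem conjIrr_one (θ : IrrCharacter N) : conjIrr (1 : G) θ = θ := by
  ext n; simp [conjIrr]

theorem conjIrr_mul (g h : G) (θ : IrrCharacter N) :
    conjIrr (g * h) θ = conjIrr g (conjIrr h θ) := by
  apply Subtype.ext; funext n
  show (θ : N → ℂ) _ = (θ : N → ℂ) _
  rw [mul_inv_rev, map_mul]
  rfl

theorem conjIrr_mem (θ : IrrCharacter N) {g : G} (hg : g ∈ N) : conjIrr g θ = θ := by
  apply Subtype.ext; funext n
  have := Char.IsIrrCharacter.isClassFunction θ.2 n (⟨g, hg⟩ : N)⁻¹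
  refine Eq.trans ?_ this
  show (θ : N → ℂ) _ = (θ : N → ℂ) _
  congr 1

theorem exists_conjIrr [Fintype N] (χ : IrrCharacter G) (θ ψ : IrrCharacter N)
    (hθ : classInner (fun n : N => (χ : G → ℂ) n) (θ : N → ℂ) ≠ 0)
    (hψ : classInner (fun n : N => (χ : G → ℂ) n) (ψ : N → ℂ) ≠ 0) :
    ∃ g : G, conjIrr g θ = ψ := by
  classical
  have := Fintype.ofFinite (IrrCharacter G)
  by_contra hne
  push Not at hne
  have hres : ∀ ξ : IrrCharacter G, IsCharacter N (fun n : N => (ξ : G → ℂ) n) := fun ξ =>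
    Char.IsCharacter.restrict (Char.IsIrrCharacter.isCharacter ξ.2) N
  have hind : IsCharacter G (indFun N (θ : N → ℂ)) :=
    Char.IsCharacter.indFun _ (Char.IsIrrCharacter.isCharacter θ.2)
  -- the restriction of the induced character only involves conjugates of θ
  have hzero : classInner (fun n : N => indFun N (θ : N → ℂ) n) (ψ : N → ℂ) = 0 := by
    have e : (fun n : N => indFun N (θ : N → ℂ) n) =
        ∑ x : G, (Nat.card N : ℂ)⁻¹ • ((conjIrr x θ : IrrCharacter N) : N → ℂ) := by
      funext n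
      simp only [indFun, Finset.sum_apply, Pi.smul_apply, smul_eq_mul, Finset.mul_sum]
      refine Finset.sum_congr rfl fun x _ => ?_
      congr 1
      have hm : x⁻¹ * (n : G) * x ∈ N := by simpa using hN.conj_mem n n.2 x⁻¹
      rw [Char.extendByZero_mem _ _ hm]
      show (θ : N → ℂ) _ = (θ : N → ℂ) _
      refine congrArg _ (Subtype.ext ?_)
      simp
    rw [e, Char.classInner_sum_left]
    refine Finset.sum_eq_zero fun x _ => ?_
    rw [Char.classInner_smul_left, Char.classInner_irr_of_ne (conjIrr x θ).2 ψ.2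
      (fun h => hne x (Subtype.ext h)), mul_zero]
  -- decompose the induced character
  obtain ⟨m, hm⟩ : ∃ m : IrrCharacter G → ℕ, ∀ ξ : IrrCharacter G,
      classInner (indFun N (θ : N → ℂ)) (ξ : G → ℂ) = (m ξ : ℂ) := by
    choose m hm using fun ξ : IrrCharacter G =>
      Char.IsCharacter.classInner_nat hind (Char.IsIrrCharacter.isCharacter ξ.2)
    exact ⟨m, hm⟩
  choose r hr using fun ξ : IrrCharacter G =>
    Char.IsCharacter.classInner_nat (hres ξ) (Char.IsIrrCharacter.isCharacter ψ.2)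
  have hexp : (fun n : N => indFun N (θ : N → ℂ) n) =
      ∑ ξ : IrrCharacter G, (m ξ : ℂ) • (fun n : N => (ξ : G → ℂ) n) := by
    funext n
    have h := congrFun (Char.classFunction_eq_sum (Char.indFun_isClassFunction N (θ : N → ℂ))) (n : G)
    rw [h]
    simp only [Finset.sum_apply, Pi.smul_apply, smul_eq_mul]
    exact Finset.sum_congr rfl fun ξ _ => by rw [hm]
  rw [hexp, Char.classInner_sum_left] at hzero
  have hnat : ((∑ ξ : IrrCharacter G, m ξ * r ξ : ℕ) : ℂ) = 0 := by
    rw [← hzero]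
    push_cast
    exact Finset.sum_congr rfl fun ξ _ => by rw [Char.classInner_smul_left, hr]
  have hsum : ∑ ξ : IrrCharacter G, m ξ * r ξ = 0 := Nat.cast_eq_zero.mp hnat
  have h0 := (Finset.sum_eq_zero_iff.mp hsum) χ (Finset.mem_univ _)
  rcases mul_eq_zero.mp h0 with h | h
  · apply hθ
    have h1 := hm χ
    rw [h, Nat.cast_zero, Char.frobenius_reciprocity N (θ : N → ℂ)
      (Char.IsIrrCharacter.isClassFunction χ.2)] at h1
    rw [← Char.classInner_conj_symm, h1, map_zero]
  · exact hψ (by rw [hr χ, h, Nat.cast_zero])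

/-- Let N be a normal subgroup of the finite group G whose index is not divisible by the prime p, and let k be coprime to the order of G with k ^ (p ^ e) ≡ 1 modulo the order of G for some e (so g ↦ g ^ k induces a field automorphism of p-power order on character values). If an irreducible character χ of G satisfies χ (g ^ k) = χ g for all g, then every irreducible constituent θ of the restriction of χ to N satisfies θ (n ^ k) = θ n for all n. -/
theorem result {G : Type*} [Group G] [Fintype G] (p : ℕ) [Fact p.Prime] (N : Subgroup G) [N.Normal] [Fintype N] (hidx : ¬ p ∣ N.index) (k e : ℕ) (hk : Nat.Coprime k (Nat.card G)) (hke : k ^ (p ^ e) ≡ 1 [MOD Nat.card G]) (χ : Cfsg.IrrCharacter G) (hχ : ∀ g : G, (χ : G → ℂ) (g ^ k) = (χ : G → ℂ) g) (θ : Cfsg.IrrCharacter N) (hθ : Cfsg.classInner (fun n : N => (χ : G → ℂ) n) (θ : N → ℂ) ≠ 0) : ∀ n : N, (θ : N → ℂ) (n ^ k) = (θ : N → ℂ) n := by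
  classical
  have hcN : k.Coprime (Nat.card N) := Nat.Coprime.coprime_dvd_right (Subgroup.card_subgroup_dvd_card N) hk
  let σ := GaloisPow.powPerm (G := N) hcN
  have hσcomm : ∀ (g : G) (ψ : Cfsg.IrrCharacter N), σ (conjIrr g ψ) = conjIrr g (σ ψ) := by
    intro g ψ
    apply Subtype.ext; funext n
    show (ψ : N → ℂ) (MulAut.conjNormal g⁻¹ (n ^ k)) = (ψ : N → ℂ) ((MulAut.conjNormal g⁻¹ n) ^ k)
    rw [map_pow]
  -- σ preserves the set of constituents of χ
  let T : Set (Cfsg.IrrCharacter N) := {ψ | Cfsg.classInner (fun n : N => (χ : G → ℂ) n) (ψ : N → ℂ) ≠ 0}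
  have hTσ : ∀ ψ, σ ψ ∈ T ↔ ψ ∈ T := by
    intro ψ
    have e : Cfsg.classInner (fun n : N => (χ : G → ℂ) n) (σ ψ : N → ℂ) =
        Cfsg.classInner (fun n : N => (χ : G → ℂ) n) (ψ : N → ℂ) := by
      simp only [Cfsg.classInner]
      congr 1
      refine Fintype.sum_equiv (powCoprime hcN.symm) _ _ fun n => ?_
      show (χ : G → ℂ) n * _ = (χ : G → ℂ) ((n ^ k : N) : G) * _
      rw [Subgroup.coe_pow, hχ]
      rfl
    show _ ≠ _ ↔ _ ≠ _
    rw [e]
  -- the number of constituents is prime to p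
  let act : MulAction G (Cfsg.IrrCharacter N) :=
    { smul := conjIrr, one_smul := conjIrr_one, mul_smul := conjIrr_mul }
  have hTorb : T = MulAction.orbit G θ := by
    ext ψ
    refine ⟨fun h => exists_conjIrr χ θ ψ hθ h, ?_⟩
    rintro ⟨g, rfl⟩
    show Cfsg.classInner _ _ ≠ 0
    have e : Cfsg.classInner (fun n : N => (χ : G → ℂ) n) (conjIrr g θ : N → ℂ) =
        Cfsg.classInner (fun n : N => (χ : G → ℂ) n) (θ : N → ℂ) := by
      simp only [Cfsg.classInner]
      congr 1
      refine Fintype.sum_equiv (MulAut.conjNormal g⁻¹ : MulAut N).toEquiv _ _ fun n => ?_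
      show (χ : G → ℂ) n * _ = (χ : G → ℂ) ((MulAut.conjNormal g⁻¹ n : N) : G) * _
      rw [MulAut.conjNormal_apply, Char.IsIrrCharacter.isClassFunction χ.2]
      rfl
    exact fun h => hθ (e.symm.trans h)
  have hstab : N ≤ MulAction.stabilizer G θ := fun g hg => conjIrr_mem θ hg
  have hcard : ¬ p ∣ Nat.card T := by
    rw [hTorb, Nat.card_coe_set_eq, ← MulAction.index_stabilizer]
    exact fun h => hidx (h.trans (Subgroup.index_dvd_of_le hstab))
  -- a fixed point of σ on T
  have hpow : σ ^ p ^ e = 1 := by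
    refine GaloisPow.powPerm_pow_eq_one hcN fun n => ?_
    have h := pow_mod_natCard n (k ^ p ^ e)
    rw [← h]
    have h1 : k ^ p ^ e ≡ 1 [MOD Nat.card N] := hke.of_dvd (Subgroup.card_subgroup_dvd_card N)
    rw [h1, pow_mod_natCard, pow_one]
  let σT : Equiv.Perm T := σ.subtypePerm hTσ
  have hσT : σT ^ p ^ e = 1 := by
    rw [Equiv.Perm.subtypePerm_pow]
    ext ψ
    simp [hpow]
  have hPG : IsPGroup p (Subgroup.zpowers σT) := by
    obtain ⟨i, -, hi⟩ := (Nat.dvd_prime_pow (Fact.out : p.Prime)).mp (orderOf_dvd_of_pow_eq_one hσT)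
    exact IsPGroup.of_card (n := i) (by rw [Nat.card_zpowers, hi])
  obtain ⟨⟨θ₀, hθ₀⟩, hfix⟩ := hPG.nonempty_fixed_point_of_prime_not_dvd_card T hcard
  have hfix0 : σ θ₀ = θ₀ := congrArg Subtype.val (hfix ⟨σT, Subgroup.mem_zpowers σT⟩)
  obtain ⟨g, hg⟩ := exists_conjIrr χ θ₀ θ hθ₀ hθ
  have hfixθ : σ θ = θ := by rw [← hg, hσcomm, hfix0]
  exact fun n => congrFun (congrArg Subtype.val hfixθ) n

end Cfsg.Agent.S4518
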