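import Cfsg.Statements.S4520
import Cfsg.Agent.Lib.RealBlock.Restrict
import Cfsg.Agent.Lib.RealBlock.GaloisFixed
import Cfsg.Agent.Lib.CharApp.PermLemma

set_option autoImplicit false
open Cfsg

namespace Cfsg.Agent.S4520

/-- Let N be a normal subgroup of odd index in the finite group G, M a maximal ideal of the algebraic integers containing 2, and k coprime to the order of G with k ^ (2 ^ e) ≡ 1 modulo the order of G for some e and g ^ k = g⁻¹ for every element g of odd order. Let θ be an irreducible character of N and χ an irreducible character of G over θ, both unchanged by composing with g ↦ g ^ k. Then χ lies in the principal 2-block of G if and only if θ lies in the principal 2-block of N. -/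
theorem result {G : Type*} [Group G] [Fintype G] (M : Ideal Cfsg.AlgInt) (hM : Cfsg.IsPModular 2 M) (N : Subgroup G) [N.Normal] [Fintype N] (hidx : Odd N.index) (k e : ℕ) (hk : Nat.Coprime k (Nat.card G)) (hke : k ^ (2 ^ e) ≡ 1 [MOD Nat.card G]) (hk₂ : ∀ g : G, Odd (orderOf g) → g ^ k = g⁻¹) (θ : Cfsg.IrrCharacter N) (hθ : ∀ n : N, (θ : N → ℂ) (n ^ k) = (θ : N → ℂ) n) (χ : Cfsg.IrrCharacter G) (hχ : ∀ g : G, (χ : G → ℂ) (g ^ k) = (χ : G → ℂ) g) (hover : Cfsg.classInner (fun n : N => (χ : G → ℂ) n) (θ : N → ℂ) ≠ 0) : χ ∈ Cfsg.principalBlock M G ↔ θ ∈ Cfsg.principalBlock M N := by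
  classical
  have := Fintype.ofFinite (ConjClasses G)
  refine ⟨fun h => RealBlock.mem_principal_constituent N hM h hover, fun hθ0 => ?_⟩
  have hB : IsPBlock M (principalBlock M G) := RealBlock.isPBlock_principalBlock
  set a := blockCoeff (principalBlock M G) with ha
  have hsing : ∀ s : G, 2 ∣ orderOf s → a s = 0 := fun s hs => by
    rw [ha, Blocks.blockCoeff_eq_ofOmega,
      Blocks.ofOmega_singular_eq_zero hM (Blocks.blockInd_mem_intRing hM hB) hs]
  have hcl : IsClassFunction G a := Blocks.isClassFunction_blockCoeff _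
  let σ : ConjClasses G → ConjClasses G := fun L => ConjClasses.mk L.out⁻¹
  have hout : ∀ L : ConjClasses G, IsConj (σ L).out L.out⁻¹ := fun L => by
    rw [← ConjClasses.mk_eq_mk_iff_isConj]
    exact Quotient.out_eq _
  have hσ : ∀ L, σ (σ L) = L := fun L => by
    have h := RealBlock.isConj_inv (hout L)
    rw [inv_inv] at h
    exact (ConjClasses.mk_eq_mk_iff_isConj.mpr h).trans (Quotient.out_eq L)
  let f : ConjClasses G → ℂ := fun L =>
    a L.out * (centralChar (χ : G → ℂ) L.out - ((Subgroup.centralizer ({L.out} : Set G)).index : ℂ))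
  have hinv : ∀ s : G, Odd (orderOf s) → centralChar (χ : G → ℂ) s⁻¹ = centralChar (χ : G → ℂ) s := by
    intro s hs
    rw [centralChar, centralChar, RealBlock.index_centralizer_inv, ← hk₂ s hs, hχ]
  have hsum : MemLocalIdeal M (∑ L, f L) := by
    refine RealBlock.memI_sum_of_involution hM σ hσ f (fun L hL => ?_) (fun L => ?_)
    · by_cases h2 : 2 ∣ orderOf L.out
      · simp only [f, hsing _ h2, zero_mul]; exact Blocks.memI_zero hM
      · have hr : IsConj L.out L.out⁻¹ := by simpa [hL] using hout L
        have hmem : L.out ∈ N := by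
          rw [← QuotientGroup.eq_one_iff]
          refine CharApp.eq_one_of_real_of_odd (by rwa [Subgroup.index] at hidx) ?_
          simpa using (QuotientGroup.mk' N).map_isConj hr
        exact Blocks.memI_mul_left hM (Blocks.memR_blockCoeff hM hB _)
          (RealBlock.centralChar_congr_index_of_constituent N hM χ hθ0 hover hmem)
    · have e1 : a (σ L).out = a L.out := by
        rw [Blocks.classFunction_eq_of_isConj hcl (hout L), ha, RealBlock.blockCoeff_principal_inv hM]
      by_cases h2 : 2 ∣ orderOf L.out
      · simp only [f, e1, hsing _ h2, zero_mul, add_zero]; exact Blocks.memI_zero hM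
      · have ho : Odd (orderOf L.out) := Nat.not_even_iff_odd.mp fun h => h2 (even_iff_two_dvd.mp h)
        have e2 : f (σ L) = f L := by
          simp only [f, e1]
          rw [RealBlock.centralChar_eq_of_isConj (Char.IsIrrCharacter.isClassFunction χ.2) (hout L),
            hinv _ ho, RealBlock.index_centralizer_eq_of_isConj (hout L), RealBlock.index_centralizer_inv]
        rw [e2, ← two_mul]
        refine Blocks.memI_mul_right hM (by simpa using Blocks.memI_p hM) ?_
        exact Blocks.memR_mul hM (Blocks.memR_blockCoeff hM hB _)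
          (Blocks.memR_sub hM (RealBlock.memR_centralChar hM χ.2 _) (Blocks.memR_natCast hM _))
  have e : ∑ L, f L = Blocks.omega (χ : G → ℂ) a -
      Blocks.omega ((RealBlock.oneChar G : IrrCharacter G) : G → ℂ) a := by
    rw [Blocks.omega_eq_sum_classes hcl, Blocks.omega_eq_sum_classes hcl, ← Finset.sum_sub_distrib]
    refine Finset.sum_congr rfl fun L _ => ?_
    simp [f, centralChar, RealBlock.oneChar, mul_sub]
  rw [e, ha, Blocks.blockCoeff_eq_ofOmega, Blocks.omega_ofOmega, Blocks.omega_ofOmega,
    Blocks.blockInd_of_mem (RealBlock.oneChar_mem hM)] at hsum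
  by_contra hne
  rw [Blocks.blockInd_of_notMem hne, zero_sub] at hsum
  exact Blocks.not_memI_one hM (by simpa using Blocks.memI_neg hsum)

end Cfsg.Agent.S4520
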