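import Cfsg.Statements.S4521
import Cfsg.Agent.Lib.RealBlock.Restrict
import Cfsg.Agent.Lib.RealBlock.Central
import Cfsg.Agent.Lib.Blocks.Defect

set_option autoImplicit false
set_option linter.style.haveILetI false
open Cfsg

namespace Cfsg.Agent.S4521

/-- Let the finite group G be generated by subgroups U₁ and U₂ that commute elementwise and whose intersection is a p-group, and let M be a maximal ideal of the algebraic integers containing the prime p. If the irreducible character χ of G has the irreducible constituents ψ₁ on U₁ and ψ₂ on U₂, then χ lies in the principal block of G if and only if ψ₁ and ψ₂ lie in the principal blocks of U₁ and U₂. -/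
theorem result {G : Type*} [Group G] [Fintype G] (p : ℕ) [Fact p.Prime] (M : Ideal Cfsg.AlgInt) (hM : Cfsg.IsPModular p M) (U₁ U₂ : Subgroup G) [Fintype U₁] [Fintype U₂] (hcomm : ∀ u ∈ U₁, ∀ v ∈ U₂, u * v = v * u) (hgen : U₁ ⊔ U₂ = ⊤) (hZ : IsPGroup p ↥(U₁ ⊓ U₂)) (χ : Cfsg.IrrCharacter G) (ψ₁ : Cfsg.IrrCharacter U₁) (ψ₂ : Cfsg.IrrCharacter U₂) (h₁ : Cfsg.classInner (fun u : U₁ => (χ : G → ℂ) u) (ψ₁ : U₁ → ℂ) ≠ 0) (h₂ : Cfsg.classInner (fun u : U₂ => (χ : G → ℂ) u) (ψ₂ : U₂ → ℂ) ≠ 0) : χ ∈ Cfsg.principalBlock M G ↔ (ψ₁ ∈ Cfsg.principalBlock M U₁ ∧ ψ₂ ∈ Cfsg.principalBlock M U₂) := by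
  classical
  haveI hp : Fact p.Prime := ⟨hM.1⟩
  have comm : ∀ (u : U₁) (v : U₂), Commute (u : G) (v : G) := fun u v => hcomm u u.2 v v.2
  have hdec : ∀ x : G, ∃ (u : U₁) (v : U₂), x = (u : G) * v := by
    intro x
    have hx : x ∈ (U₁.subtype.noncommCoprod U₂.subtype comm).range := by
      refine (MonoidHom.noncommCoprod_range (f := U₁.subtype) (g := U₂.subtype) comm).ge ?_
      rw [Subgroup.range_subtype, Subgroup.range_subtype, hgen]
      exact Subgroup.mem_top x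
    obtain ⟨⟨u, v⟩, rfl⟩ := hx
    exact ⟨u, v, rfl⟩
  haveI n1 : U₁.Normal := ⟨fun n hn x => by
    obtain ⟨u, v, rfl⟩ := hdec x
    have : (u : G) * v * n * ((u : G) * v)⁻¹ = u * n * (u : G)⁻¹ := by
      rw [mul_assoc (u : G), show (v : G) * n = n * v from (comm ⟨n, hn⟩ v).eq.symm]; group
    rw [this]; exact U₁.mul_mem (U₁.mul_mem u.2 hn) (U₁.inv_mem u.2)⟩
  haveI n2 : U₂.Normal := ⟨fun n hn x => by
    obtain ⟨u, v, rfl⟩ := hdec x
    have h' : (v : G) * n * (v : G)⁻¹ ∈ U₂ := U₂.mul_mem (U₂.mul_mem v.2 hn) (U₂.inv_mem v.2)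
    have : (u : G) * v * n * ((u : G) * v)⁻¹ = (v : G) * n * (v : G)⁻¹ := by
      rw [show (u : G) * v * n * ((u : G) * v)⁻¹ = u * ((v : G) * n * (v : G)⁻¹) * (u : G)⁻¹ by group,
        (comm u ⟨_, h'⟩).eq]
      group
    rw [this]; exact h'⟩
  refine ⟨fun h => ⟨RealBlock.mem_principal_constituent U₁ hM h h₁,
    RealBlock.mem_principal_constituent U₂ hM h h₂⟩, fun ⟨hψ₁, hψ₂⟩ => ?_⟩
  have hchi1 : (χ : G → ℂ) 1 ≠ 0 := Blocks.irr_one_ne_zero χ
  have inv1 : ∀ x : G, CliffordChar.conjFun U₁ x (ψ₁ : U₁ → ℂ) = (ψ₁ : U₁ → ℂ) := fun x => funext fun n => by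
    obtain ⟨u, v, rfl⟩ := hdec x
    rw [CliffordChar.conjFun_apply, ← Char.IsIrrCharacter.isClassFunction ψ₁.2 n u⁻¹]
    refine congrArg (ψ₁ : U₁ → ℂ) (Subtype.ext ?_)
    show ((u : G) * v)⁻¹ * n * (u * v) = (u : G)⁻¹ * n * (u : G)⁻¹⁻¹
    have h' : (u : G)⁻¹ * n * u ∈ U₁ := U₁.mul_mem (U₁.mul_mem (U₁.inv_mem u.2) n.2) u.2
    rw [show ((u : G) * v)⁻¹ * n * (u * v) = (v : G)⁻¹ * (((u : G)⁻¹ * n * u) * v) by group,
      (comm ⟨_, h'⟩ v).eq]
    group
  have inv2 : ∀ x : G, CliffordChar.conjFun U₂ x (ψ₂ : U₂ → ℂ) = (ψ₂ : U₂ → ℂ) := fun x => funext fun n => by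
    obtain ⟨u, v, rfl⟩ := hdec x
    rw [CliffordChar.conjFun_apply, ← Char.IsIrrCharacter.isClassFunction ψ₂.2 n v⁻¹]
    refine congrArg (ψ₂ : U₂ → ℂ) (Subtype.ext ?_)
    show ((u : G) * v)⁻¹ * n * (u * v) = (v : G)⁻¹ * n * (v : G)⁻¹⁻¹
    rw [show ((u : G) * v)⁻¹ * n * (u * v) = (v : G)⁻¹ * ((u : G)⁻¹ * (n * u)) * v by group,
      ← (comm u n).eq]
    group
  have hr1 : ∀ u : U₁, (χ : G → ℂ) (u : G) / (χ : G → ℂ) 1 = (ψ₁ : U₁ → ℂ) u / (ψ₁ : U₁ → ℂ) 1 := by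
    intro u
    have h := CliffordChar.restrict_eq U₁ χ.2 ψ₁.2 h₁
    set c := classInner (fun u : U₁ => (χ : G → ℂ) u) (ψ₁ : U₁ → ℂ) /
      classInner (CliffordChar.orbitSum U₁ (ψ₁ : U₁ → ℂ)) (ψ₁ : U₁ → ℂ)
    have e : ∀ u : U₁, (χ : G → ℂ) (u : G) = (c * (Fintype.card G : ℂ)) * (ψ₁ : U₁ → ℂ) u := fun u => by
      rw [congrFun h u, Pi.smul_apply, smul_eq_mul, CliffordChar.orbitSum, Finset.sum_apply,
        Finset.sum_congr rfl fun x _ => congrFun (inv1 x) u, Finset.sum_const, Finset.card_univ,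
        nsmul_eq_mul]
      ring
    have e1 : (χ : G → ℂ) 1 = _ := e 1
    rw [e u, e1, mul_div_mul_left _ _ (left_ne_zero_of_mul (e1 ▸ hchi1))]
  have hr2 : ∀ u : U₂, (χ : G → ℂ) (u : G) / (χ : G → ℂ) 1 = (ψ₂ : U₂ → ℂ) u / (ψ₂ : U₂ → ℂ) 1 := by
    intro u
    have h := CliffordChar.restrict_eq U₂ χ.2 ψ₂.2 h₂
    set c := classInner (fun u : U₂ => (χ : G → ℂ) u) (ψ₂ : U₂ → ℂ) /
      classInner (CliffordChar.orbitSum U₂ (ψ₂ : U₂ → ℂ)) (ψ₂ : U₂ → ℂ)
    have e : ∀ u : U₂, (χ : G → ℂ) (u : G) = (c * (Fintype.card G : ℂ)) * (ψ₂ : U₂ → ℂ) u := fun u => by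
      rw [congrFun h u, Pi.smul_apply, smul_eq_mul, CliffordChar.orbitSum, Finset.sum_apply,
        Finset.sum_congr rfl fun x _ => congrFun (inv2 x) u, Finset.sum_const, Finset.card_univ,
        nsmul_eq_mul]
      ring
    have e1 : (χ : G → ℂ) 1 = _ := e 1
    rw [e u, e1, mul_div_mul_left _ _ (left_ne_zero_of_mul (e1 ▸ hchi1))]
  obtain ⟨n, ρ, hirr, hρ⟩ := χ.2
  have hmul : ∀ (u : U₁) (v : U₂), (χ : G → ℂ) ((u : G) * v) / (χ : G → ℂ) 1 =
      ((χ : G → ℂ) (u : G) / (χ : G → ℂ) 1) * ((χ : G → ℂ) (v : G) / (χ : G → ℂ) 1) := by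
    intro u v
    haveI := hirr
    have h := CharApp.sum_char_conj_mul ρ (u : G) (v : G)
    rw [← Representation.char_one ρ, hρ] at h
    have hconst : ∀ b : G, (χ : G → ℂ) (b * u * b⁻¹ * v) = (χ : G → ℂ) ((u : G) * v) := by
      intro b
      obtain ⟨s, t, rfl⟩ := hdec b
      have : (s : G) * t * u * ((s : G) * t)⁻¹ * v = (s : G) * ((u : G) * v) * (s : G)⁻¹ := by
        rw [mul_assoc (s : G) t, (comm u t).eq.symm,
          show (s : G) * ((u : G) * t) * ((s : G) * t)⁻¹ * v = s * u * ((s : G)⁻¹ * v) by group,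
          ((comm s v).inv_left).eq]
        group
      rw [this, Char.IsIrrCharacter.isClassFunction χ.2]
    rw [Finset.sum_congr rfl fun b _ => hconst b, Finset.sum_const, Finset.card_univ, nsmul_eq_mul,
      Nat.card_eq_fintype_card] at h
    have hG : (Fintype.card G : ℂ) ≠ 0 := Nat.cast_ne_zero.mpr Fintype.card_ne_zero
    field_simp
    field_simp at h
    linear_combination h
  obtain ⟨m, hm, hN⟩ : ∃ m, ¬ p ∣ m ∧ Nat.card G = p ^ (Nat.card G).factorization p * m :=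
    ⟨_, Nat.not_dvd_ordCompl hM.1 Nat.card_pos.ne', (Nat.ordProj_mul_ordCompl_eq_self _ p).symm⟩
  have hidx : ∀ (u : U₁) (v : U₂), (u : G) ^ m = 1 → (v : G) ^ m = 1 →
      (Subgroup.centralizer ({(u : G) * v} : Set G)).index =
        (Subgroup.centralizer ({u} : Set U₁)).index * (Subgroup.centralizer ({v} : Set U₂)).index := by
    intro u v hu hv
    rw [RealBlock.index_centralizer, RealBlock.index_centralizer, RealBlock.index_centralizer,
      ← Finset.card_product]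
    symm
    refine Finset.card_bij (fun w _ => (w.1 : G) * w.2) (fun w hw => ?_) (fun w hw w' hw' e => ?_)
      (fun y hy => ?_)
    · obtain ⟨h1, h2⟩ := Finset.mem_product.mp hw
      obtain ⟨s, hs⟩ := isConj_iff.mp (RealBlock.mem_classSet.mp h1)
      obtain ⟨t, ht⟩ := isConj_iff.mp (RealBlock.mem_classSet.mp h2)
      refine RealBlock.mem_classSet.mpr (isConj_iff.mpr ⟨(s : G) * t, ?_⟩)
      rw [← hs, ← ht]
      push_cast
      rw [show (s : G) * t * ((u : G) * v) * ((s : G) * t)⁻¹ = s * ((t : G) * u) * v * (t : G)⁻¹ * (s : G)⁻¹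
        by group, ← (comm u t).eq,
        show (s : G) * ((u : G) * t) * v * (t : G)⁻¹ * (s : G)⁻¹ = s * u * (((t : G) * v * (t : G)⁻¹) * (s : G)⁻¹)
        by group]
      rw [← ((comm s ⟨(t : G) * v * (t : G)⁻¹, U₂.mul_mem (U₂.mul_mem t.2 v.2) (U₂.inv_mem t.2)⟩).inv_left).eq]
      group
    · obtain ⟨h1, h2⟩ := Finset.mem_product.mp hw
      obtain ⟨h1', h2'⟩ := Finset.mem_product.mp hw'
      have hz1 : (w'.1 : G)⁻¹ * w.1 ∈ U₁ := U₁.mul_mem (U₁.inv_mem w'.1.2) w.1.2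
      have ez : (w'.1 : G)⁻¹ * w.1 = (w'.2 : G) * (w.2 : G)⁻¹ :=
        calc (w'.1 : G)⁻¹ * w.1 = (w'.1 : G)⁻¹ * ((w.1 : G) * w.2) * (w.2 : G)⁻¹ := by group
          _ = (w'.1 : G)⁻¹ * ((w'.1 : G) * w'.2) * (w.2 : G)⁻¹ := by rw [e]
          _ = (w'.2 : G) * (w.2 : G)⁻¹ := by group
      have hz2 : (w'.1 : G)⁻¹ * w.1 ∈ U₂ := ez ▸ U₂.mul_mem w'.2.2 (U₂.inv_mem w.2.2)
      set z := (w'.1 : G)⁻¹ * w.1 with hz
      obtain ⟨j, hj⟩ := hZ ⟨z, Subgroup.mem_inf.mpr ⟨hz1, hz2⟩⟩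
      have hj' : z ^ p ^ j = 1 := by simpa using congrArg Subtype.val hj
      have pm : ∀ (w₀ : U₁), w₀ ∈ RealBlock.classSet u → (w₀ : G) ^ m = 1 := fun w₀ hw₀ => by
        obtain ⟨s, hs⟩ := isConj_iff.mp (RealBlock.mem_classSet.mp hw₀)
        rw [← hs]; push_cast; rw [conj_pow, hu]; group
      have hcz : Commute (w'.1 : G) z := comm w'.1 ⟨z, hz2⟩
      have hzm : z ^ m = 1 := by
        have := congrArg (· ^ m) (show (w.1 : G) = w'.1 * z by rw [hz]; group)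
        simp only [hcz.mul_pow, pm _ h1, pm _ h1', one_mul] at this
        exact this.symm
      have hz0 : z = 1 := by
        have h3 := pow_gcd_eq_one.mpr ⟨hzm, hj'⟩
        rwa [Nat.Coprime.gcd_eq_one (((hM.1.coprime_iff_not_dvd).mpr hm).pow_left j).symm, pow_one] at h3
      refine Prod.ext (Subtype.ext ?_) (Subtype.ext ?_)
      · exact (inv_mul_eq_one.mp hz0).symm
      · exact (mul_inv_eq_one.mp (ez ▸ hz0)).symm
    · obtain ⟨b, hb⟩ := isConj_iff.mp (RealBlock.mem_classSet.mp hy)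
      obtain ⟨s, t, rfl⟩ := hdec b
      refine ⟨(s * u * s⁻¹, t * v * t⁻¹), Finset.mem_product.mpr
        ⟨RealBlock.mem_classSet.mpr (isConj_iff.mpr ⟨s, rfl⟩), RealBlock.mem_classSet.mpr (isConj_iff.mpr ⟨t, rfl⟩)⟩, ?_⟩
      rw [← hb]
      push_cast
      rw [show (s : G) * t * ((u : G) * v) * ((s : G) * t)⁻¹ = s * ((t : G) * u) * v * (t : G)⁻¹ * (s : G)⁻¹
        by group, ← (comm u t).eq,
        show (s : G) * ((u : G) * t) * v * (t : G)⁻¹ * (s : G)⁻¹ = s * u * (((t : G) * v * (t : G)⁻¹) * (s : G)⁻¹)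
        by group]
      rw [← ((comm s ⟨(t : G) * v * (t : G)⁻¹, U₂.mul_mem (U₂.mul_mem t.2 v.2) (U₂.inv_mem t.2)⟩).inv_left).eq]
      group
  have hB : IsPBlock M (principalBlock M G) := BrauerPairs.isPBlock_principal
  by_contra hne
  have := Fintype.ofFinite (ConjClasses G)
  have key : MemLocalIdeal M (Blocks.omega (χ : G → ℂ) (blockCoeff (principalBlock M G)) -
      Blocks.omega ((BrauerPairs.oneIrr G : IrrCharacter G) : G → ℂ) (blockCoeff (principalBlock M G))) := by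
    rw [Blocks.omega_eq_sum_classes (Blocks.isClassFunction_blockCoeff _),
      Blocks.omega_eq_sum_classes (Blocks.isClassFunction_blockCoeff _), ← Finset.sum_sub_distrib]
    refine Blocks.memI_sum hM _ fun q _ => ?_
    set g := (Quotient.out q : G)
    rw [← mul_sub]
    by_cases hreg : p ∣ orderOf g
    · rw [Blocks.blockCoeff_eq_ofOmega,
        Blocks.ofOmega_singular_eq_zero hM (Blocks.blockInd_mem_intRing hM hB) hreg, zero_mul]
      exact Blocks.memI_zero hM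
    refine Blocks.memI_mul_left hM (Blocks.memR_blockCoeff hM hB _) ?_
    obtain ⟨u, v, huv⟩ := hdec g
    obtain ⟨c, hc1, hc2⟩ := Nat.chineseRemainder
      (((hM.1.coprime_iff_not_dvd).mpr hm).pow_left ((Nat.card G).factorization p)) 0 1
    have hgm : orderOf g ∣ m := by
      refine Nat.Coprime.dvd_of_dvd_mul_left ?_ (hN ▸ orderOf_dvd_natCard g)
      exact ((hM.1.coprime_iff_not_dvd.mpr hreg).symm).pow_right _
    have hgc : g = ((u ^ c : U₁) : G) * ((v ^ c : U₂) : G) := by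
      push_cast
      rw [← (comm u v).mul_pow, ← huv]
      conv_lhs => rw [← pow_one g]
      exact pow_eq_pow_iff_modEq.mpr (hc2.of_dvd hgm).symm
    have hpow : ∀ x : G, (x ^ c) ^ m = 1 := fun x => by
      obtain ⟨r, hr⟩ := Nat.modEq_zero_iff_dvd.mp hc1
      rw [← pow_mul, hr, mul_right_comm, ← hN, pow_mul, pow_card_eq_one', one_pow]
    rw [hgc, centralChar, centralChar]
    simp only [BrauerPairs.oneIrr, mul_one, div_one]
    rw [mul_div_assoc, hmul, hr1, hr2, hidx _ _ (by push_cast; exact hpow _) (by push_cast; exact hpow _)]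
    have a1 := hψ₁ (u ^ c)
    have a2 := hψ₂ (v ^ c)
    simp only [centralChar, mul_one, div_one] at a1 a2
    push_cast
    rw [show ∀ A B x y : ℂ, A * B * (x * y) - A * B = (A * x) * (B * y - B) + B * (A * x - A) by
      intros; ring]
    refine Blocks.memI_add hM (Blocks.memI_mul_left hM ?_ ?_) (Blocks.memI_mul_left hM (Blocks.memR_natCast hM _) ?_)
    · have := Blocks.memR_centralChar hM ψ₁ (u ^ c)
      rwa [centralChar, mul_div_assoc] at this
    · have := Blocks.memI_sub_comm a2; rwa [mul_div_assoc] at this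
    · have := Blocks.memI_sub_comm a1; rwa [mul_div_assoc] at this
  rw [Blocks.blockCoeff_eq_ofOmega, Blocks.omega_ofOmega, Blocks.omega_ofOmega,
    Blocks.blockInd_of_notMem hne, Blocks.blockInd_of_mem (BrauerPairs.oneIrr_mem_principal hM), zero_sub] at key
  exact Blocks.not_memI_one hM (by simpa using Blocks.memI_neg key)

end Cfsg.Agent.S4521
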