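import Cfsg.Statements.S4523
import Cfsg.Agent.Lib.RealEvenChar.Char
import Cfsg.Agent.Lib.OddOrderTheorem.Basic

set_option autoImplicit false
open Cfsg

namespace Cfsg.Agent.S4523

/-- Let S be a non-abelian finite simple group with commutative Sylow 2-subgroups and M a maximal ideal of the algebraic integers containing 2. Let k be a natural number with g ^ k = g for every 2-element g and g ^ k = g⁻¹ for every element g of odd order. Then S has an irreducible character χ₁ of even degree with χ₁ (g ^ k) = χ₁ g for all g, and its principal 2-block contains a character χ₂ other than the principal character with χ₂ (g ^ k) = χ₂ g for all g. -/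
theorem result {S : Type*} [Group S] [Finite S] [IsSimpleGroup S] (hna : ¬ IsMulCommutative S) (P : Sylow 2 S) (hP : IsMulCommutative P) (M : Ideal Cfsg.AlgInt) (hM : Cfsg.IsPModular 2 M) (k : ℕ) (hk₁ : ∀ g : S, (∃ j : ℕ, orderOf g = 2 ^ j) → g ^ k = g) (hk₂ : ∀ g : S, Odd (orderOf g) → g ^ k = g⁻¹) : (∃ χ₁ : Cfsg.IrrCharacter S, Even (Cfsg.charDegree (χ₁ : S → ℂ)) ∧ ∀ g : S, (χ₁ : S → ℂ) (g ^ k) = (χ₁ : S → ℂ) g) ∧ ∃ χ₂ ∈ Cfsg.principalBlock M S, (χ₂ : S → ℂ) ≠ (fun _ => 1) ∧ ∀ g : S, (χ₂ : S → ℂ) (g ^ k) = (χ₂ : S → ℂ) g := by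
  have := Fintype.ofFinite S
  have hnot : ¬ Group.IsSolvable S := fun h =>
    hna ⟨⟨IsSimpleGroup.comm_iff_isSolvable.2 h⟩⟩
  have heven : 2 ∣ Nat.card S := by
    by_contra h
    exact hnot (OddOrderTheorem.solvable (Nat.not_even_iff_odd.1 fun he => h he.two_dvd))
  have hcomm : ∀ R : Sylow 2 S, IsMulCommutative (R : Subgroup S) := fun R => by
    refine ⟨⟨fun a b => (Sylow.equiv R P).injective ?_⟩⟩
    rw [map_mul, map_mul]
    exact hP.is_comm.comm _ _
  have hne : ∃ R R' : Sylow 2 S, R ≠ R' := by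
    by_contra hh
    push_neg at hh
    have : Subsingleton (Sylow 2 S) := ⟨hh⟩
    rcases (Sylow.normal_of_subsingleton P).eq_bot_or_eq_top with hb | ht
    · have := P.not_dvd_index
      rw [hb, Subgroup.index_bot] at this
      exact this heven
    · refine hna ⟨⟨fun a b => ?_⟩⟩
      exact congrArg Subtype.val (hP.is_comm.comm
        (⟨a, ht ▸ Subgroup.mem_top a⟩ : ↥(P : Subgroup S)) ⟨b, ht ▸ Subgroup.mem_top b⟩)
  exact ⟨RealEvenChar.exists_even_fixed hM hcomm hne hk₁ hk₂,
    RealEvenChar.exists_principal_fixed hM heven (RealEvenChar.pow_twist_twist hk₁ hk₂)⟩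

end Cfsg.Agent.S4523
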