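import Cfsg.Statements.S4531
import Cfsg.Agent.Lib.Blocks.Dihedral.SemiCenter
import Cfsg.Agent.Lib.Blocks.Dihedral.SemiSolvable

set_option autoImplicit false
open Cfsg

namespace Cfsg.Agent.S4531

/-- Let the finite group G have a 2-block B (relative to a maximal ideal M of the algebraic integers containing 2) of 2-regular rank three (three irreducible Brauer characters) whose defect group D is dihedral of order 2 ^ n with n ≥ 3 or semidihedral. Then the centre of G has odd order and G is not solvable. -/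
theorem result {G : Type*} [Group G] [Finite G] (M : Ideal Cfsg.AlgInt) (hM : Cfsg.IsPModular 2 M) (B : Set (Cfsg.IrrCharacter G)) (hB : Cfsg.IsPBlock M B) (D : Subgroup G) (hD : Cfsg.IsDefectGroup 2 M B D) (hD' : (∃ n : ℕ, 3 ≤ n ∧ Nonempty (D ≃* DihedralGroup (2 ^ (n - 1)))) ∨ Cfsg.IsQuasiDihedral D) (hl : Cfsg.blockRank 2 B = 3) : Odd (Nat.card (Subgroup.center G)) ∧ ¬ Group.IsSolvable G := by
  haveI : Fact (Nat.Prime 2) := ⟨Nat.prime_two⟩
  rcases hD' with ⟨n, hn, hdih⟩ | hqd
  · obtain ⟨a, rfl⟩ : ∃ a, n = a + 3 := ⟨n - 3, by omega⟩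
    rw [show a + 3 - 1 = a + 2 by omega] at hdih
    obtain ⟨φ⟩ := hdih
    obtain ⟨σ, Dd⟩ := DihedralDefect.exists_rot φ
    obtain ⟨e, hmax⟩ := Star.exists_maximal_of_defectGroup hM hB hD
    exact ⟨DihedralDefect.odd_center_of_rot hM hmax Dd hl,
      DihedralDefect.not_isSolvable_of_rot hM hmax Dd hl⟩
  · refine ⟨DihedralDefect.odd_center_of_semidihedral hM hB hD hqd hl, fun hsol => ?_⟩
    have h := SemiSolvable.blockRank_le_two hM _ rfl hsol hB hD hqd
    omega

end Cfsg.Agent.S4531
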