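import Cfsg.Statements.S4535
import Cfsg.Agent.EqLemmas
import Cfsg.Agent.Lib.SymBlocks.AltRank

set_option autoImplicit false
open Cfsg

namespace Cfsg.Agent.S4535

open Cfsg.Agent.SymBlocks

variable {n : ℕ}

/-- The bound for odd `p`, for a block under a character with tuple `α` of weight `w`. -/
theorem odd_rank {p N : ℕ} (hp : p.Prime) (hp2 : p ≠ 2) (hn2 : 2 ≤ n) (hn : n ≤ N)
    (hQ : (N + N - 1) % p = 0) {α : Fin N → ℕ} (hinj : Function.Injective α)
    (hsum : ∑ i, α i = stair N + n) {w : ℕ} (hw : ∑ i, α i = (∑ i, core0 p α i) + p * w)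
    {B : Set (Cfsg.IrrCharacter (alternatingGroup (Fin n)))}
    (hB : B ⊆ overSet (coreSetPair (n := n) N p (cnt p α))) {s : ℕ} (hws : w ≤ s) (hs1 : 1 ≤ s) :
    Cfsg.blockRank p B < p ^ s := by
  have hp3 : 3 ≤ p := by have := hp.two_le; omega
  have hpo : p % 2 = 1 := by
    rcases hp.eq_two_or_odd with h | h
    · exact absurd h hp2
    · exact h
  have hlt := lt_of_level hinj hsum hn
  by_cases hsc : selfConj N n p (cnt p α) = ∅
  · have h := blockRank_alt_le hn2 hn hB (exactSets p α w)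
      fun β hc => resA_chi_mem hp hn hsum hw hc
    rw [hsc, Finset.card_empty, Nat.add_zero] at h
    exact lt_of_le_of_lt h (card_exact_lt hp.pos hinj hws hs1 hp.one_lt)
  obtain ⟨ψ₁, hψ₁⟩ := Finset.nonempty_iff_ne_empty.mpr hsc
  rw [mem_selfConj] at hψ₁
  obtain ⟨hself, β₁, hβ₁, hne₁, hc₁⟩ := hψ₁
  have hβ₁inj : Function.Injective β₁ := by
    by_contra hn'
    refine hne₁ ?_
    rw [coef, show (chi N β₁ : Equiv.Perm (Fin n) → ℂ) = 0 from
      funext fun σ => (anti_vM _).zero_of_not_injective hn']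
    simp [Cfsg.classInner]
  have hsym := mirror_coreBeads hp.pos hinj hlt (mirror_of_selfConj hn hself hβ₁ hne₁)
    ((cntS_image hβ₁inj).trans hc₁)
  obtain ⟨R, hRE, hR2, hRcov⟩ := exists_mirror_reps (n := n) hp.pos hQ hinj hlt
    (hw.symm.trans hsum) hn hsym
  have hspan : ∀ β : Fin N → ℕ, cnt p β = cnt p α → resA n (Cfsg.pRegularPart p (chi N β)) ∈
      Submodule.span ℂ ((fun S => resA n (Cfsg.pRegularPart p (chi N (tupleOf N S)))) ''
        (R : Set (Finset ℕ))) := by
    intro β hc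
    refine (Submodule.span_le.mpr ?_) (resA_chi_mem hp hn hsum hw hc)
    rintro _ ⟨S, hS, rfl⟩
    rcases hRcov S hS with h | ⟨h, hltS⟩
    · exact Submodule.subset_span ⟨S, h, rfl⟩
    have hcS := card_eq_of_cntS hp.pos (mem_exactSets.mp hS).1
    have hcm := card_mirrorSet hltS hcS
    have t1 : tupleOf N S = ⇑(S.orderEmbOfFin hcS) := by rw [tupleOf, dif_pos hcS]
    have t2 : tupleOf N (mirrorSet N S) = ⇑((mirrorSet N S).orderEmbOfFin hcm) := by
      rw [tupleOf, dif_pos hcm]
    have i2 : Finset.univ.image (tupleOf N (mirrorSet N S)) = mirrorSet N S := by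
      rw [t2]
      exact Finset.image_orderEmbOfFin_univ _ hcm
    have i1 : Finset.univ.image (tupleOf N S)
        = mirrorSet N (Finset.univ.image (tupleOf N (mirrorSet N S))) := by
      rw [i2, mirrorSet_mirrorSet hltS, t1]
      exact Finset.image_orderEmbOfFin_univ _ hcS
    have hinj1 : Function.Injective (tupleOf N S) := by
      rw [t1]
      exact (S.orderEmbOfFin hcS).injective
    have hinj2 : Function.Injective (tupleOf N (mirrorSet N S)) := by
      rw [t2]
      exact ((mirrorSet N S).orderEmbOfFin hcm).injective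
    have hlt2 : ∀ i, tupleOf N (mirrorSet N S) i < N + N := fun i => by
      have h1 := Finset.mem_image_of_mem (tupleOf N (mirrorSet N S)) (Finset.mem_univ i)
      rw [i2] at h1
      exact (mem_mirrorSet.mp h1).1
    obtain ⟨e, -, he⟩ := chi_mirror (n := n) (mirrored_tupleOf hinj2 hlt2 hinj1 i1)
    have heq : resA n (Cfsg.pRegularPart p (chi N (tupleOf N S)))
        = e • resA n (Cfsg.pRegularPart p (chi N (tupleOf N (mirrorSet N S)))) := by
      funext a
      simp only [resA_apply, Pi.smul_apply, smul_eq_mul, Cfsg.pRegularPart, he, sgnC_of_mem a.2]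
      split_ifs <;> ring
    show resA n (Cfsg.pRegularPart p (chi N (tupleOf N S))) ∈ _
    rw [heq]
    exact Submodule.smul_mem _ _ (Submodule.subset_span ⟨_, h, rfl⟩)
  have hl := blockRank_alt_le hn2 hn hB R hspan
  have hf := card_selfConj_le (n := n) (p := p) hn hsum hw
  rcases Nat.eq_zero_or_pos w with rfl | hw1
  · have e1 : R.card ≤ 1 := by
      refine (Finset.card_le_card hRE).trans ((Finset.card_le_card fun S hS => ?_).trans
        (card_groundSets_zero hp.pos hinj))
      rw [mem_exactSets] at hS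
      rw [mem_groundSets]
      exact ⟨hS.1, hS.2.1, hS.2.2.le⟩
    have e2 : (symExact p α 0).card ≤ 1 := by
      refine (Finset.card_le_card fun S hS => ?_).trans (card_groundSets_zero hp.pos hinj)
      rw [mem_symExact, Nat.mul_zero, Nat.add_zero] at hS
      rw [mem_groundSets]
      exact ⟨hS.2.1, down_of_sum_eq hp.pos hinj hS.2.1 hS.2.2 0, by omega⟩
    have e3 : p ≤ p ^ s := Nat.le_self_pow (by omega) p
    omega
  · have h1 := odd_bound hp.pos hp3 hpo hQ hinj hlt hw1
    have h2 : p ^ w ≤ p ^ s := Nat.pow_le_pow_right hp.pos hws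
    omega

/-- The bound for `p = 2` and positive weight. -/
theorem two_rank (hn2 : 2 ≤ n) {α : Fin n → ℕ} (hinj : Function.Injective α)
    (hsum : ∑ i, α i = stair n + n) {w : ℕ} (hw : ∑ i, α i = (∑ i, core0 2 α i) + 2 * w)
    {B : Set (Cfsg.IrrCharacter (alternatingGroup (Fin n)))}
    (hB : B ⊆ overSet (coreSetPair (n := n) n 2 (cnt 2 α))) {s : ℕ} (hws : 2 * (w / 2) ≤ s)
    (hs1 : 1 ≤ s) (hw1 : 1 ≤ w) :
    Cfsg.blockRank 2 B < 2 ^ s := by
  have hlt := lt_of_level hinj hsum le_rfl
  have hl := blockRank_alt_le hn2 le_rfl hB (exactSets 2 α w)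
    fun β hc => resA_chi_mem Nat.prime_two le_rfl hsum hw hc
  have hf := card_selfConj_le (n := n) (p := 2) le_rfl hsum hw
  have hsym := card_selfMirror_half_le (p := 2) two_pos hinj hlt (H := fun r => r = 1) (w := w)
    (by omega) (fun x hx => Or.inl (by omega)) (symExact 2 α w) fun S hS => by
      rw [mem_symExact] at hS
      exact ⟨hS.1, hS.2.1, hS.2.2, fun x hx h1 h2 => by omega⟩
  have hpow : 2 ^ (2 * (w / 2)) ≤ 2 ^ s := Nat.pow_le_pow_right two_pos hws
  have hpow1 : 2 ≤ 2 ^ s := Nat.le_self_pow (by omega) 2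
  rcases Nat.eq_or_lt_of_le hw1 with rfl | hw2
  · rw [if_neg (by decide)] at hsym
    have h1 : (exactSets 2 α 1).card ≤ (2 - 1) * 2 ^ 0 := card_exactSets_succ_le two_pos hinj 0
    omega
  split_ifs at hsym with he
  · obtain ⟨m, rfl⟩ := he
    obtain ⟨m', rfl⟩ : ∃ m', m = m' + 1 := ⟨m - 1, by omega⟩
    rw [show (m' + 1 + (m' + 1)) / 2 = m' + 1 by omega] at hsym hpow
    have h1 : (exactSets 2 α (m' + 1 + (m' + 1))).card ≤ (2 - 1) * 2 ^ (2 * m' + 1) := by
      rw [show m' + 1 + (m' + 1) = 2 * m' + 1 + 1 by omega]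
      exact card_exactSets_succ_le two_pos hinj (2 * m' + 1)
    have h2 : (exactSets 2 α (m' + 1)).card ≤ (2 - 1) * 2 ^ m' :=
      card_exactSets_succ_le two_pos hinj m'
    have h3 : 2 ^ m' < 2 ^ (2 * m' + 1) := Nat.pow_lt_pow_right (by omega) (by omega)
    rw [show 2 * (m' + 1) = 2 * m' + 1 + 1 by omega, pow_succ] at hpow
    omega
  · rw [Nat.not_even_iff] at he
    have h1 := card_exact_two_lt hinj w (by omega)
    rw [show 2 * (w / 2) = w - 1 by omega] at hpow
    omega

/-- Let B be a p-block of a finite alternating group (relative to a maximal ideal M of the algebraic integers containing p) with a nontrivial defect group D all of whose sections have p-rank at most s. Then the p-regular rank of B is less than p ^ s. -/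
theorem result (n : ℕ) (p : ℕ) [Fact p.Prime] (M : Ideal Cfsg.AlgInt) (hM : Cfsg.IsPModular p M) (B : Set (Cfsg.IrrCharacter (alternatingGroup (Fin n)))) (hB : Cfsg.IsPBlock M B) (D : Subgroup (alternatingGroup (Fin n))) (hD : Cfsg.IsDefectGroup p M B D) (hD1 : D ≠ ⊥) (s : ℕ) (hs : Cfsg.SectionalPRankLE p s D) : Cfsg.blockRank p B < p ^ s := by
  have hp : p.Prime := Fact.out
  have hDp := Blocks.isPGroup_defectGroup hM hD
  have hs1 : 1 ≤ s := one_le_of_ne_bot hDp hD1 hs
  have hn2 : 2 ≤ n := by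
    by_contra hlt
    have : Subsingleton (Fin n) := Fin.subsingleton_iff_le_one.mpr (by omega)
    exact hD1 (Subgroup.eq_bot_iff_forall D |>.mpr fun x _ => Subsingleton.elim x 1)
  obtain ⟨ξ, hξ⟩ := Blocks.isPBlock_nonempty hM hB
  obtain ⟨ψ, hψ⟩ := BlocksNormal.exists_over (alternatingGroup (Fin n)) ξ
  by_cases hp2 : p = 2
  · subst hp2
    obtain ⟨α, hinj, hsum, hε, -, -⟩ := exists_label (N := n) le_rfl ψ
    have hne : coef n α ψ ≠ 0 := by rcases hε with h | h <;> simp [h]
    have hα : α ∈ lev n n := mem_lev.mpr hsum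
    obtain ⟨w, hw⟩ := exists_weight (p := 2) hinj
    have hsub := alt_block_subset hM le_rfl hB hξ (c := cnt 2 α) ⟨α, hα, hne, rfl⟩ hψ
    rcases Nat.eq_zero_or_pos w with rfl | hw1
    · exact absurd (defect_eq_bot_of_vanishing hM hB hξ (fun y hy =>
        apply_eq_zero_of_weight_zero le_rfl hψ hα hne (by omega) y hy) hD) hD1
    · exact two_rank hn2 hinj hsum hw hsub (rank_le_of_subgroup hM hB hD hs
        (exists_weight_subgroup_alt_two hM le_rfl hB hξ hψ hα hne hw)) hs1 hw1
  · have hpo : p % 2 = 1 := hp.eq_two_or_odd.resolve_left hp2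
    have hn : n ≤ p * n + (p + 1) / 2 :=
      le_trans (Nat.le_mul_of_pos_left n hp.pos) (Nat.le_add_right _ _)
    have hQ : (p * n + (p + 1) / 2 + (p * n + (p + 1) / 2) - 1) % p = 0 := by
      rw [show p * n + (p + 1) / 2 + (p * n + (p + 1) / 2) - 1 = p * n + p * n + p by omega]
      simp
    obtain ⟨α, hinj, hsum, hε, -, -⟩ := exists_label hn ψ
    have hne : coef _ α ψ ≠ 0 := by rcases hε with h | h <;> simp [h]
    have hα : α ∈ lev _ n := mem_lev.mpr hsum
    obtain ⟨w, hw⟩ := exists_weight (p := p) hinj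
    have hsub := alt_block_subset hM hn hB hξ (c := cnt p α) ⟨α, hα, hne, rfl⟩ hψ
    exact odd_rank hp hp2 hn2 hn hQ hinj hsum hw hsub (rank_le_of_subgroup hM hB hD hs
      (exists_weight_subgroup_alt_odd hM hp2 hn hB hξ hψ hα hne hw)) hs1

end Cfsg.Agent.S4535
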