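import Cfsg.Statements.S4540
import Cfsg.Agent.Lib.SecondMain.Major

set_option autoImplicit false
open Cfsg Cfsg.Agent.SecondMain

namespace Cfsg.Agent.S4540

/-- Let B be a 2-block of the finite group G (relative to a maximal ideal M of the algebraic integers containing 2) of defect d with defect group D. Let z be an element of D commuting with every element of D, and let b be a block of the centralizer C of z with defect group D that induces B (a major subsection (z, b)). If b has 2-regular rank at most three, then 3·k(B) ≤ 3·k₀(B) + 2·Σ 2 ^ h(χ), where k(B) is the number of members of B, k₀(B) the number of members of height zero, and the sum runs over the members χ of B of positive height h(χ); this bound is at most 3·2 ^ d, so in particular B contains at most 2 ^ d irreducible characters. -/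
theorem result {G : Type*} [Group G] [Finite G] (M : Ideal Cfsg.AlgInt) (hM : Cfsg.IsPModular 2 M) (B : Set (Cfsg.IrrCharacter G)) (hB : Cfsg.IsPBlock M B) (D : Subgroup G) (hD : Cfsg.IsDefectGroup 2 M B D) (z : G) (hzD : z ∈ D) (hzc : ∀ d ∈ D, d * z = z * d) (b : Set (Cfsg.IrrCharacter ↥(Subgroup.centralizer ({z} : Set G)))) (hb : Cfsg.IsInducedBlock M (Subgroup.centralizer ({z} : Set G)) b B) (hbD : Cfsg.IsDefectGroup 2 M b (D.subgroupOf (Subgroup.centralizer ({z} : Set G)))) (hl : Cfsg.blockRank 2 b ≤ 3) : 3 * Nat.card B ≤ 3 * Nat.card {χ : Cfsg.IrrCharacter G // χ ∈ B ∧ Cfsg.blockHeight 2 B (χ : G → ℂ) = 0} + 2 * (∑ᶠ χ ∈ {χ : Cfsg.IrrCharacter G | χ ∈ B ∧ 1 ≤ Cfsg.blockHeight 2 B (χ : G → ℂ)}, 2 ^ Cfsg.blockHeight 2 B (χ : G → ℂ)) ∧ 3 * Nat.card {χ : Cfsg.IrrCharacter G // χ ∈ B ∧ Cfsg.blockHeight 2 B (χ : G → ℂ) = 0} + 2 * (∑ᶠ χ ∈ {χ : Cfsg.IrrCharacter G | χ ∈ B ∧ 1 ≤ Cfsg.blockHeight 2 B (χ : G → ℂ)}, 2 ^ Cfsg.blockHeight 2 B (χ : G → ℂ)) ≤ 3 * 2 ^ Cfsg.blockDefect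 2 B := by
  classical
  have : Fact (Nat.Prime 2) := ⟨Nat.prime_two⟩
  have := Fintype.ofFinite G
  have := Fintype.ofFinite (Subgroup.centralizer ({z} : Set G))
  have := Fintype.ofFinite B
  have := Fintype.ofFinite b
  obtain ⟨hd, j, hj⟩ := blockDefect_eq_of_major hM hB hD hzD hzc hb.1 hbD
  obtain ⟨C, htr, -, -, hU⟩ := exists_contrib hM (x := z) (n := j)
    (by rw [hj]; exact pow_dvd_pow 2 j.le_succ)
    (fun _ => commute_iff_mem_centralizer_singleton) hB hb
  obtain ⟨φ, hφ, hφ0⟩ := exists_height_zero hM hB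
  have h := C.height_bound hM (h := fun i : B => blockHeight 2 B ((i : IrrCharacter G) : G → ℂ))
    (fun χ ψ => by simpa using hU hd χ ψ) (χ₀ := ⟨φ, hφ⟩) hφ0 htr hl
  rw [card_height_zero B fun χ => blockHeight 2 B (χ : G → ℂ),
    finsum_height_pos B fun χ => blockHeight 2 B (χ : G → ℂ)]
  refine ⟨?_, by rwa [← hd]⟩
  have hle : (Finset.univ.filter fun i : B =>
      blockHeight 2 B ((i : IrrCharacter G) : G → ℂ) ≠ 0).card * 3 ≤
      2 * ∑ i ∈ Finset.univ.filter (fun i : B =>
        blockHeight 2 B ((i : IrrCharacter G) : G → ℂ) ≠ 0),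
          2 ^ blockHeight 2 B ((i : IrrCharacter G) : G → ℂ) := by
    rw [← smul_eq_mul, ← Finset.sum_const, Finset.mul_sum]
    refine Finset.sum_le_sum fun i hi => ?_
    have h2 : 2 ^ 1 ≤ 2 ^ blockHeight 2 B ((i : IrrCharacter G) : G → ℂ) :=
      Nat.pow_le_pow_right two_pos (Nat.one_le_iff_ne_zero.mpr (Finset.mem_filter.mp hi).2)
    omega
  have hsplit := Finset.card_filter_add_card_filter_not (s := (Finset.univ : Finset B))
    fun i : B => blockHeight 2 B ((i : IrrCharacter G) : G → ℂ) = 0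
  rw [Finset.card_univ, ← Nat.card_eq_fintype_card] at hsplit
  simp only [ne_eq] at hle ⊢
  omega

end Cfsg.Agent.S4540
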