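import Cfsg.Statements.S4541
import Cfsg.Agent.Lib.SecondMain.Major

set_option autoImplicit false
open Cfsg Cfsg.Agent.SecondMain

namespace Cfsg.Agent.S4541

/-- Let B be a 2-block of the finite group G (relative to a maximal ideal M of the algebraic integers containing 2), u a 2-element, and b a block of the centralizer of u inducing B (a subsection (u, b)), of defect q and 2-regular rank l; write s for the integer square root of l and k₀(B) for the number of members of B of height zero. If s is odd then k₀(B) ≤ s·2 ^ q, and otherwise (s + 1)·k₀(B) ≤ l·2 ^ q; in particular k₀(B) ≤ 2 ^ q when l ≤ 3. -/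
theorem result {G : Type*} [Group G] [Finite G] (M : Ideal Cfsg.AlgInt) (hM : Cfsg.IsPModular 2 M) (B : Set (Cfsg.IrrCharacter G)) (hB : Cfsg.IsPBlock M B) (u : G) (hu : ∃ j : ℕ, orderOf u = 2 ^ j) (b : Set (Cfsg.IrrCharacter ↥(Subgroup.centralizer ({u} : Set G)))) (hb : Cfsg.IsInducedBlock M (Subgroup.centralizer ({u} : Set G)) b B) : (Odd (Nat.sqrt (Cfsg.blockRank 2 b)) → Nat.card {χ : Cfsg.IrrCharacter G // χ ∈ B ∧ Cfsg.blockHeight 2 B (χ : G → ℂ) = 0} ≤ Nat.sqrt (Cfsg.blockRank 2 b) * 2 ^ Cfsg.blockDefect 2 b) ∧ (¬ Odd (Nat.sqrt (Cfsg.blockRank 2 b)) → (Nat.sqrt (Cfsg.blockRank 2 b) + 1) * Nat.card {χ : Cfsg.IrrCharacter G // χ ∈ B ∧ Cfsg.blockHeight 2 B (χ : G → ℂ) = 0} ≤ Cfsg.blockRank 2 b * 2 ^ Cfsg.blockDefect 2 b) ∧ (Cfsg.blockRank 2 b ≤ 3 → Nat.card {χ : Cfsg.IrrCharacter G // χ ∈ B ∧ Cfsg.blockHeight 2 B (χ : G → ℂ) = 0} ≤ 2 ^ Cfsg.blockDefect 2 b) := by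
  classical
  have : Fact (Nat.Prime 2) := ⟨Nat.prime_two⟩
  have := Fintype.ofFinite G
  have := Fintype.ofFinite (Subgroup.centralizer ({u} : Set G))
  have := Fintype.ofFinite B
  have := Fintype.ofFinite b
  obtain ⟨j, hj⟩ := hu
  obtain ⟨C, htr, -, hunit, -⟩ := exists_contrib hM (x := u) (n := j)
    (by rw [hj]; exact pow_dvd_pow 2 j.le_succ)
    (fun _ => commute_iff_mem_centralizer_singleton) hB hb
  have h := C.card_bounds hM
    (Finset.univ.filter fun i : B => blockHeight 2 B ((i : IrrCharacter G) : G → ℂ) = 0)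
    (fun i hi k hk => hunit i k (Finset.mem_filter.mp hi).2 (Finset.mem_filter.mp hk).2) htr
  rw [card_height_zero B fun χ => blockHeight 2 B (χ : G → ℂ)]
  refine ⟨h.1, h.2, fun h3 => ?_⟩
  obtain ⟨ho, he⟩ := h
  have h1 : Nat.sqrt (blockRank 2 b) ≤ 1 := Nat.lt_succ_iff.mp (Nat.sqrt_lt.mpr (by omega))
  rcases Nat.le_one_iff_eq_zero_or_eq_one.mp h1 with h0 | h0
  · have hl0 : blockRank 2 b = 0 := Nat.sqrt_eq_zero.mp h0
    have := he (by rw [h0]; decide)
    rw [h0, hl0] at this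
    simp only [zero_add, one_mul, zero_mul, Nat.le_zero] at this
    exact this.trans_le (Nat.zero_le _)
  · simpa [h0] using ho (by rw [h0]; decide)

end Cfsg.Agent.S4541
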