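import Cfsg.Statements.S4549
import Cfsg.Agent.Lib.RealBlock.GaloisFixed
import Cfsg.Agent.Lib.Char.Integral
import Cfsg.Agent.Lib.Char.Linear
import Cfsg.Agent.Lib.Transfer.Tate

set_option autoImplicit false
open Cfsg

namespace Cfsg.Agent.S4549

open Cfsg
open scoped ComplexConjugate

universe u

variable {G : Type u} [Group G] [Fintype G] {M : Ideal AlgInt}

/-- A principal character is trivial on a normal subgroup of odd order, so its degree divides the index. -/
theorem degree_dvd_index (hM : IsPModular 2 M) (K : Subgroup G) [hK : K.Normal] (hodd : ¬ 2 ∣ Nat.card K)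
    (χ : IrrCharacter G) (hχ : χ ∈ principalBlock M G) :
    charDegree (χ : G → ℂ) ∣ K.index := by
  classical
  have := Fintype.ofFinite (ConjClasses G)
  obtain ⟨n, ρ, hirr, hρ⟩ := χ.2
  -- the average over K is a nonzero scalar
  let E : Module.End ℂ (Fin n → ℂ) := ∑ s : K, ρ s
  have hcomm : ∀ g : G, E * ρ g = ρ g * E := by
    intro g
    simp only [E, Finset.sum_mul, Finset.mul_sum]
    refine Fintype.sum_equiv (MulAut.conjNormal g⁻¹ : MulAut K).toEquiv _ _ fun s => ?_
    rw [← map_mul, ← map_mul]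
    congr 1
    show (s : G) * g = g * ((MulAut.conjNormal g⁻¹ s : K) : G)
    rw [MulAut.conjNormal_apply]; group
  have hE := CharApp.eq_trace_div_smul ρ E hcomm
  have htr : LinearMap.trace ℂ _ E = ∑ s : K, (χ : G → ℂ) s := by
    simp only [E, map_sum, ← hρ]; rfl
  have hc : LinearMap.trace ℂ _ E / (Module.finrank ℂ (Fin n → ℂ) : ℂ) ≠ 0 := by
    rw [htr, show (Module.finrank ℂ (Fin n → ℂ) : ℂ) = (χ : G → ℂ) 1 by rw [← hρ, Representation.char_one]]
    intro h0
    have hz : IsClassFunction G (fun x : G => if x ∈ K then (1 : ℂ) else 0) := by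
      intro a b
      have e : b * a * b⁻¹ ∈ K ↔ a ∈ K :=
        ⟨fun h => by simpa [mul_assoc] using hK.conj_mem _ h b⁻¹, fun h => hK.conj_mem a h b⟩
      simp only [e]
    have hR : ∀ x, MemLocalRing M ((fun x : G => if x ∈ K then (1 : ℂ) else 0) x) := fun x => by
      simp only; split_ifs
      · exact Blocks.memR_one hM
      · exact Blocks.memR_zero hM
    have hcong : MemLocalIdeal M (Blocks.omega (fun _ => (1 : ℂ)) (fun x : G => if x ∈ K then (1 : ℂ) else 0)
        - Blocks.omega (χ : G → ℂ) (fun x : G => if x ∈ K then (1 : ℂ) else 0)) := by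
      rw [show (fun _ : G => (1 : ℂ)) = ((RealBlock.oneChar G : IrrCharacter G) : G → ℂ) from rfl,
        Blocks.omega_eq_sum_classes hz, Blocks.omega_eq_sum_classes hz, ← Finset.sum_sub_distrib]
      refine Blocks.memI_sum hM _ fun q _ => ?_
      rw [← mul_sub]
      exact Blocks.memI_mul_left hM (hR _) (hχ _)
    have hsum : ∀ f : G → ℂ, ∑ x : G, (if x ∈ K then (1 : ℂ) else 0) * f x = ∑ s : K, f s := fun f => by
      simp only [ite_mul, one_mul, zero_mul]
      rw [← Finset.sum_filter]
      exact Finset.sum_subtype _ (fun x => by simp) f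
    rw [Blocks.omega_eq_sum, Blocks.omega_eq_sum, hsum, hsum, h0] at hcong
    simp only [Finset.sum_const, Finset.card_univ, nsmul_eq_mul, mul_one, div_one, sub_zero,
      ← Nat.card_eq_fintype_card] at hcong
    exact hodd ((Blocks.memI_natCast hM).mp hcong)
  have htriv : ∀ s ∈ K, ρ s = 1 := by
    intro s hs
    have h1 : ρ s * E = E := by
      simp only [E, Finset.mul_sum]
      exact Fintype.sum_equiv (Equiv.mulLeft (⟨s, hs⟩ : K)) _ _ fun r => by rw [← map_mul]; rfl
    rw [hE, mul_smul_comm, mul_one] at h1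
    exact smul_right_injective _ hc h1
  let ρ' : Representation ℂ (G ⧸ K) (Fin n → ℂ) := QuotientGroup.lift K ρ fun s hs => MonoidHom.mem_ker.mpr (htriv s hs)
  have hirr' : ρ'.IsIrreducible := by
    have := hirr
    have := CharApp.nontrivial_of_irr ρ
    exact CharApp.isIrreducible_of_forall_invariant ρ' fun W hW =>
      CharApp.eq_bot_or_top_of_invariant ρ W fun g v hv => hW (g : G ⧸ K) v hv
  have h := Char.degree_dvd_card ρ'
  have hdeg : charDegree (χ : G → ℂ) = Module.finrank ℂ (Fin n → ℂ) := by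
    simp [charDegree, ← hρ, Representation.char_one]
  rw [hdeg]
  exact h

/-- A sign character of a Sylow 2-subgroup lies under a fixed principal character of odd degree. -/
theorem exists_fixed_over (hM : IsPModular 2 M) (P : Sylow 2 G) [Fintype (P : Subgroup G)] {k : ℕ}
    (hk₁ : ∀ g : G, (∃ j : ℕ, orderOf g = 2 ^ j) → g ^ k = g ^ 3) (hk₂ : ∀ g : G, Odd (orderOf g) → g ^ k = g)
    (lam : (P : Subgroup G) →* ℂ) (hlam : ∀ u, lam u * lam u = 1) :
    ∃ χ : IrrCharacter G, χ ∈ principalBlock M G ∧ Odd (charDegree (χ : G → ℂ)) ∧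
      (∀ g : G, (χ : G → ℂ) (g ^ k) = (χ : G → ℂ) g) ∧
      classInner (⇑lam) (fun u : (P : Subgroup G) => (χ : G → ℂ) u) ≠ 0 := by
  classical
  have := Fintype.ofFinite (IrrCharacter G)
  have hk := RealBlock.coprime_card_of_twist hk₁ hk₂
  let σ := GaloisPow.powPerm (G := G) hk
  have hσ : σ ^ 2 ^ (Nat.card G).factorization 2 = 1 :=
    GaloisPow.powPerm_pow_eq_one hk (RealBlock.pow_pow_eq_self hk₁ hk₂)
  choose m hm using fun χ : IrrCharacter G => Char.IsCharacter.classInner_nat
    (Char.isCharacter_of_hom lam) (Char.IsCharacter.restrict (Char.IsIrrCharacter.isCharacter χ.2) (P : Subgroup G))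
  have hσS : ∀ χ, σ χ ∈ principalBlock M G ↔ χ ∈ principalBlock M G := by
    have hmaps : Set.MapsTo σ (principalBlock M G) (principalBlock M G) :=
      fun χ hχ => RealBlock.powIrr_mem_principal hk hχ
    intro χ
    refine ⟨fun h => ?_, fun h => hmaps h⟩
    obtain ⟨ψ, hψ, hψe⟩ := (((Set.toFinite (principalBlock M G)).injOn_iff_bijOn_of_mapsTo hmaps).mp
      σ.injective.injOn).surjOn h
    exact σ.injective hψe ▸ hψ
  have hkP : k.Coprime (Nat.card (P : Subgroup G)) := hk.coprime_dvd_right (Subgroup.card_subgroup_dvd_card _)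
  have hlamk : ∀ u : (P : Subgroup G), lam (u ^ k) = lam u := fun u => by
    obtain ⟨j, hj⟩ := IsPGroup.iff_orderOf.mp P.2 u
    have h := hk₁ (u : G) ⟨j, by rw [Subgroup.orderOf_coe, hj]⟩
    have h' : u ^ k = u ^ 3 := Subtype.ext (by push_cast; exact h)
    rw [h', map_pow, pow_succ, pow_two, hlam, one_mul]
  let w : IrrCharacter G → ℕ := fun χ =>
    if χ ∈ principalBlock M G then charDegree (χ : G → ℂ) * m χ else 0
  have hmσ : ∀ χ, m (σ χ) = m χ := fun χ => by
    have e : classInner (⇑lam) (fun u : (P : Subgroup G) => ((σ χ : IrrCharacter G) : G → ℂ) u) =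
        classInner (⇑lam) (fun u : (P : Subgroup G) => (χ : G → ℂ) u) := by
      simp only [classInner]
      congr 1
      refine Fintype.sum_equiv (powCoprime hkP.symm) _ _ fun u => ?_
      show lam u * conj ((χ : G → ℂ) ((u : G) ^ k)) = lam (u ^ k) * conj ((χ : G → ℂ) ((u ^ k : (P : Subgroup G)) : G))
      rw [hlamk, Subgroup.coe_pow]
    have h1 := (hm (σ χ)).symm.trans (e.trans (hm χ))
    exact_mod_cast h1
  have hdegσ : ∀ χ : IrrCharacter G, charDegree ((σ χ : IrrCharacter G) : G → ℂ) = charDegree (χ : G → ℂ) := fun χ => by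
    show charDegree (GaloisPow.powIrr hk χ : G → ℂ) = _
    simp [charDegree]
  have hmod := RealBlock.sum_modEq_fixed σ hσ w fun χ => by simp only [w, hdegσ, hσS, hmσ]
  have hodd : ¬ 2 ∣ ∑ χ, w χ := by
    intro h
    have hI : MemLocalIdeal M ((∑ χ, w χ : ℕ) : ℂ) := (Blocks.memI_natCast hM).mpr h
    have e : ((∑ χ, w χ : ℕ) : ℂ) =
        ((P : Subgroup G).index : ℂ) * blockCoeff (principalBlock M G) 1 := by
      have h1 := RealBlock.sum_mult_principal hM (P : Subgroup G) P.2 (⇑lam)
      rw [map_one, mul_one, Finset.sum_filter] at h1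
      rw [← h1, Nat.cast_sum]
      refine Finset.sum_congr rfl fun χ _ => ?_
      by_cases hx : χ ∈ principalBlock M G
      · rw [if_pos hx, show w χ = charDegree (χ : G → ℂ) * m χ from if_pos hx, Nat.cast_mul,
          RealBlock.charDegree_cast (Char.IsIrrCharacter.isCharacter χ.2), hm]
      · rw [if_neg hx, show w χ = 0 from if_neg hx, Nat.cast_zero]
    rw [e] at hI
    have hR := Blocks.memR_natCast hM (P : Subgroup G).index
    rcases Blocks.memI_or_memI hM hR (Blocks.memR_blockCoeff hM (RealBlock.isPBlock_principalBlock (G := G)) 1) hI with h2 | h2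
    · exact P.not_dvd_index ((Blocks.memI_natCast hM).mp h2)
    · have := Blocks.memI_sub hM h2 (RealBlock.memI_sub_one_principal (G := G) hM)
      rw [sub_sub_cancel] at this
      exact Blocks.not_memI_one hM this
  obtain ⟨χ, hχf, hχ2⟩ : ∃ χ ∈ Finset.univ.filter (fun χ => σ χ = χ), ¬ 2 ∣ w χ := by
    by_contra hne
    push Not at hne
    exact hodd (Nat.dvd_of_mod_eq_zero (Eq.trans hmod (Nat.mod_eq_zero_of_dvd (Finset.dvd_sum hne))))
  have hfix : σ χ = χ := (Finset.mem_filter.mp hχf).2
  have hmem : χ ∈ principalBlock M G := by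
    by_contra h0
    exact hχ2 (by simp [w, h0])
  simp only [w, hmem, if_true] at hχ2
  refine ⟨χ, hmem, Nat.not_even_iff_odd.mp fun he => hχ2 ((even_iff_two_dvd.mp he).mul_right _),
    fun g => congrFun (congrArg Subtype.val hfix) g, fun h0 => hχ2 ?_⟩
  rw [hm χ, Nat.cast_eq_zero] at h0
  rw [h0, mul_zero]
  exact dvd_zero 2

/-- Let G be a finite group and M a maximal ideal of the algebraic integers containing 2. Let k be a natural number with g ^ k = g ^ 3 for every 2-element g and g ^ k = g for every element g of odd order (such k exist); an irreducible character χ is unchanged by g ↦ g ^ k exactly when it is fixed by the field automorphism that cubes the 2-power roots of unity and fixes the roots of unity of odd order. Then G has a normal 2-complement if and only if every member χ of the principal 2-block of odd degree with χ (g ^ k) = χ g for all g has degree one. -/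
theorem result {G : Type*} [Group G] [Finite G] (M : Ideal Cfsg.AlgInt) (hM : Cfsg.IsPModular 2 M) (k : ℕ) (hk₁ : ∀ g : G, (∃ j : ℕ, orderOf g = 2 ^ j) → g ^ k = g ^ 3) (hk₂ : ∀ g : G, Odd (orderOf g) → g ^ k = g) : Cfsg.HasNormalPComplement 2 G ↔ ∀ χ ∈ Cfsg.principalBlock M G, Odd (Cfsg.charDegree (χ : G → ℂ)) → (∀ g : G, (χ : G → ℂ) (g ^ k) = (χ : G → ℂ) g) → Cfsg.charDegree (χ : G → ℂ) = 1 := by
  classical
  have := Fintype.ofFinite G
  refine ⟨fun hcomp χ hχ hodd _ => ?_, fun hlin => ?_⟩
  · obtain ⟨P, K, hK, hKP⟩ := hcomp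
    have hco := Transfer.coprime_card_of_isComplement' P hKP
    have h := degree_dvd_index hM K ((Nat.Prime.coprime_iff_not_dvd Nat.prime_two).mp hco.symm) χ hχ
    rw [hKP.symm.index_eq_card] at h
    obtain ⟨j, hj⟩ := IsPGroup.iff_card.mp P.2
    rw [hj] at h
    obtain ⟨i, -, hi⟩ := (Nat.dvd_prime_pow Nat.prime_two).mp h
    rcases Nat.eq_zero_or_pos i with h0 | h0
    · rw [hi, h0, pow_zero]
    · exact absurd (dvd_pow_self 2 h0.ne') (hi ▸ hodd.not_two_dvd_nat)
  · obtain ⟨P⟩ : Nonempty (Sylow 2 G) := inferInstance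
    have := Fintype.ofFinite (P : Subgroup G)
    rw [Transfer.hasNormalPComplement_iff_inf_eq_bot P, Transfer.tate_of_extend (P : Subgroup G) P.not_dvd_index,
      Subgroup.map_eq_bot_iff_of_injective _ (P : Subgroup G).subtype_injective]
    · exact le_bot_iff.mp ((Transfer.pResidual_le_ker P.2 (MonoidHom.id _)).trans (MonoidHom.ker_id).le)
    intro A _ hA δ
    obtain ⟨a, b, hab, huniv⟩ := Nat.card_eq_two_iff.mp hA
    obtain ⟨a₀, ha₀, hall⟩ : ∃ a₀ : A, a₀ ≠ 1 ∧ ∀ z : A, z = 1 ∨ z = a₀ := by
      have h1 : (1 : A) = a ∨ (1 : A) = b := by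
        have : (1 : A) ∈ ({a, b} : Set A) := by rw [huniv]; exact Set.mem_univ _
        exact this
      have hz : ∀ z : A, z = a ∨ z = b := fun z => by
        have : z ∈ ({a, b} : Set A) := by rw [huniv]; exact Set.mem_univ _
        exact this
      rcases h1 with h | h
      · exact ⟨b, h ▸ hab.symm, fun z => h ▸ hz z⟩
      · exact ⟨a, h ▸ hab, fun z => h ▸ (hz z).symm⟩
    have hsq : a₀ * a₀ = 1 := (hall (a₀ * a₀)).resolve_right fun h => ha₀ (mul_eq_left.mp h)
    let sgn : A →* ℂ :=
      { toFun := fun z => if z = 1 then 1 else -1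
        map_one' := if_pos rfl
        map_mul' := fun y z => by
          rcases hall y with rfl | rfl <;> rcases hall z with rfl | rfl <;> simp [hsq, ha₀] }
    have hsgn : ∀ z, sgn z * sgn z = 1 := fun z => by
      show (if z = 1 then (1 : ℂ) else -1) * (if z = 1 then (1 : ℂ) else -1) = 1
      split_ifs <;> norm_num
    obtain ⟨χ, hχ, hodd, hfix, hne⟩ := exists_fixed_over hM P hk₁ hk₂ (sgn.comp δ) fun u => hsgn _
    have h1 : (χ : G → ℂ) 1 = 1 := by
      rw [← RealBlock.charDegree_cast (Char.IsIrrCharacter.isCharacter χ.2), hlin χ hχ hodd hfix, Nat.cast_one]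
    obtain ⟨l, hl⟩ := Char.exists_hom_of_degree_one (Char.IsIrrCharacter.isCharacter χ.2) h1
    have hres : ∀ u : (P : Subgroup G), l u = sgn (δ u) := by
      intro u
      by_contra hu
      refine hne (Char.classInner_irr_of_ne (Char.isIrrCharacter_of_hom _) ?_ fun h => hu ?_)
      · convert Char.isIrrCharacter_of_hom (l.comp (P : Subgroup G).subtype) using 1
        funext v; simp [hl]
      · have := congrFun h u
        simpa [hl] using this.symm
    -- pass to the sign part of the linear character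
    obtain ⟨i, m, hm, hn⟩ := Nat.exists_eq_pow_mul_and_not_dvd (Nat.card_pos (α := G)).ne' 2 (by norm_num)
    let μ : G →* ℂ := (powMonoidHom m).comp l
    have hμ : ∀ g, μ g * μ g = 1 := by
      intro g
      show l g ^ m * l g ^ m = 1
      have ho : orderOf (g ^ m) ∣ 2 ^ i :=
        orderOf_dvd_of_pow_eq_one (by rw [← pow_mul, mul_comm, ← hn, pow_card_eq_one'])
      obtain ⟨j, -, hj⟩ := (Nat.dvd_prime_pow Nat.prime_two).mp ho
      have h := hfix (g ^ m)
      rw [hk₁ _ ⟨j, hj⟩, ← hl] at h
      rw [map_pow, map_pow] at h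
      have h0 : l g ^ m ≠ 0 := pow_ne_zero _ fun h0 => by
        have h2 := map_mul l g g⁻¹
        rw [mul_inv_cancel, map_one, h0, zero_mul] at h2
        exact one_ne_zero h2
      apply mul_right_cancel₀ h0
      rw [one_mul, ← pow_two, ← pow_succ]
      exact h
    have hμ1 : ∀ g, μ g = 1 ∨ μ g = -1 := fun g => mul_self_eq_one_iff.mp (hμ g)
    refine ⟨{ toFun := fun g => if μ g = 1 then 1 else a₀
              map_one' := if_pos (map_one μ)
              map_mul' := fun g h => by
                rw [map_mul]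
                rcases hμ1 g with e | e <;> rcases hμ1 h with e' | e' <;> norm_num [e, e', hsq] }, fun u => ?_⟩
    show (if μ u = 1 then 1 else a₀) = δ u
    have hmu : μ u = sgn (δ u) := by
      show l u ^ m = _
      rw [hres u]
      rcases mul_self_eq_one_iff.mp (hsgn (δ u)) with e | e <;> rw [e]
      · exact one_pow m
      · exact Odd.neg_one_pow (Nat.not_even_iff_odd.mp fun h => hm (even_iff_two_dvd.mp h))
    rw [hmu]
    rcases hall (δ u) with e | e
    · rw [e, map_one, if_pos rfl]
    · rw [e, if_neg]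
      show (if a₀ = 1 then (1 : ℂ) else -1) ≠ 1
      rw [if_neg ha₀]; norm_num

end Cfsg.Agent.S4549
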