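import Cfsg.Statements.S4550
import Cfsg.Agent.Lib.RealBlock.GaloisFixed

set_option autoImplicit false
open Cfsg

namespace Cfsg.Agent.S4550

/-- Let G be a finite group of even order and M a maximal ideal of the algebraic integers containing 2. Let k be a natural number with g ^ k = g ^ 3 for every 2-element g and g ^ k = g for every element g of odd order (such k exist); an irreducible character χ is unchanged by g ↦ g ^ k exactly when it is fixed by the field automorphism that cubes the 2-power roots of unity and fixes the roots of unity of odd order. Then the number of members χ of the principal 2-block of odd degree with χ (g ^ k) = χ g for all g is even. -/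
theorem result {G : Type*} [Group G] [Finite G] (M : Ideal Cfsg.AlgInt) (hM : Cfsg.IsPModular 2 M) (hev : Even (Nat.card G)) (k : ℕ) (hk₁ : ∀ g : G, (∃ j : ℕ, orderOf g = 2 ^ j) → g ^ k = g ^ 3) (hk₂ : ∀ g : G, Odd (orderOf g) → g ^ k = g) : Even (Nat.card {χ : Cfsg.IrrCharacter G // χ ∈ Cfsg.principalBlock M G ∧ Odd (Cfsg.charDegree (χ : G → ℂ)) ∧ ∀ g : G, (χ : G → ℂ) (g ^ k) = (χ : G → ℂ) g}) := by
  classical
  have := Fintype.ofFinite G
  have := Fintype.ofFinite (Cfsg.IrrCharacter G)
  have hk := RealBlock.coprime_card_of_twist hk₁ hk₂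
  let S : Finset (Cfsg.IrrCharacter G) := Finset.univ.filter (· ∈ Cfsg.principalBlock M G)
  have hS : ∀ χ, χ ∈ S ↔ χ ∈ Cfsg.principalBlock M G := fun χ => by simp [S]
  let σ := GaloisPow.powPerm (G := G) hk
  have hσ : σ ^ 2 ^ (Nat.card G).factorization 2 = 1 := by
    exact GaloisPow.powPerm_pow_eq_one hk (RealBlock.pow_pow_eq_self hk₁ hk₂)
  have hσS : ∀ χ, σ χ ∈ Cfsg.principalBlock M G ↔ χ ∈ Cfsg.principalBlock M G := by
    have hmaps : Set.MapsTo σ (Cfsg.principalBlock M G) (Cfsg.principalBlock M G) :=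
      fun χ hχ => RealBlock.powIrr_mem_principal hk hχ
    intro χ
    refine ⟨fun h => ?_, fun h => hmaps h⟩
    have hsurj := ((Set.toFinite (Cfsg.principalBlock M G)).injOn_iff_bijOn_of_mapsTo hmaps).mp
      σ.injective.injOn
    obtain ⟨ψ, hψ, hψe⟩ := hsurj.surjOn h
    exact σ.injective hψe ▸ hψ
  let w : Cfsg.IrrCharacter G → ℕ := fun χ =>
    if χ ∈ Cfsg.principalBlock M G ∧ Odd (Cfsg.charDegree (χ : G → ℂ)) then 1 else 0
  have hdeg : ∀ χ : Cfsg.IrrCharacter G, Cfsg.charDegree ((σ χ : Cfsg.IrrCharacter G) : G → ℂ) =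
      Cfsg.charDegree (χ : G → ℂ) := fun χ => by
    show Cfsg.charDegree (GaloisPow.powIrr hk χ : G → ℂ) = _
    simp [Cfsg.charDegree]
  have hmod := RealBlock.sum_modEq_fixed σ hσ w fun χ => by simp only [w, hdeg, hσS]
  have hcount : ∑ χ ∈ Finset.univ.filter (fun χ => σ χ = χ), w χ =
      Nat.card {χ : Cfsg.IrrCharacter G // χ ∈ Cfsg.principalBlock M G ∧
        Odd (Cfsg.charDegree (χ : G → ℂ)) ∧ ∀ g : G, (χ : G → ℂ) (g ^ k) = (χ : G → ℂ) g} := by
    rw [Nat.card_eq_fintype_card, Fintype.card_subtype, Finset.sum_boole, Nat.cast_id, Finset.filter_filter]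
    refine congrArg Finset.card (Finset.filter_congr fun χ _ => ?_)
    constructor
    · rintro ⟨h1, h2, h3⟩
      exact ⟨h2, h3, fun g => congrFun (congrArg Subtype.val h1) g⟩
    · rintro ⟨h1, h2, h3⟩
      exact ⟨Subtype.ext (funext h3), h1, h2⟩
  rw [hcount] at hmod
  rw [Nat.even_iff, ← hmod, ← Nat.even_iff]
  -- the number of odd degree members is even
  have hsq : (2 : ℕ) ∣ ∑ χ ∈ S, Cfsg.charDegree (χ : G → ℂ) ^ 2 := by
    refine (Blocks.memI_natCast hM).mp ?_
    have e : ((∑ χ ∈ S, Cfsg.charDegree (χ : G → ℂ) ^ 2 : ℕ) : ℂ) =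
        (Nat.card G : ℂ) * Cfsg.blockCoeff (Cfsg.principalBlock M G) 1 := by
      rw [Cfsg.blockCoeff, ← mul_assoc, mul_inv_cancel₀ (Nat.cast_ne_zero.mpr Nat.card_pos.ne'), one_mul,
        finsum_mem_eq_toFinset_sum, Nat.cast_sum]
      refine Finset.sum_congr (by ext χ; simp [S]) fun χ _ => ?_
      rw [Nat.cast_pow, RealBlock.charDegree_cast (Char.IsIrrCharacter.isCharacter χ.2),
        Char.IsCharacter.conj_apply_one (Char.IsIrrCharacter.isCharacter χ.2), pow_two]
    rw [e]
    exact Blocks.memI_mul_right hM ((Blocks.memI_natCast hM).mpr (even_iff_two_dvd.mp hev))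
      (Blocks.memR_blockCoeff hM RealBlock.isPBlock_principalBlock 1)
  have hw : ∑ χ, w χ ≡ ∑ χ ∈ S, Cfsg.charDegree (χ : G → ℂ) ^ 2 [MOD 2] := by
    rw [show S = Finset.univ.filter (· ∈ Cfsg.principalBlock M G) from rfl, Finset.sum_filter]
    refine Nat.ModEq.sum fun χ _ => ?_
    by_cases h1 : χ ∈ Cfsg.principalBlock M G
    · rw [if_pos h1]
      rcases Nat.even_or_odd (Cfsg.charDegree (χ : G → ℂ)) with he | ho
      · simp only [w, h1, Nat.not_odd_iff_even.mpr he, and_false, if_false]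
        exact (Nat.even_iff.mp (he.pow_of_ne_zero two_ne_zero)).symm
      · simp only [w, h1, ho, and_self, if_true]
        exact (Nat.odd_iff.mp (ho.pow)).symm
    · simp only [w, h1, false_and, if_false]
      rfl
  rw [Nat.even_iff, hw]
  exact Nat.mod_eq_zero_of_dvd hsq

end Cfsg.Agent.S4550
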