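import Cfsg.Statements.S4552
import Cfsg.Agent.Lib.Blocks.HomocyclicTwo
import Cfsg.Agent.EqLemmas
import Cfsg.Agent.Lib.Blocks.FreeInertial.Main

set_option autoImplicit false
open Cfsg

namespace Cfsg.Agent.S4552

/-- Let B be a 2-block of the finite group G (relative to a maximal ideal M of the algebraic integers containing 2) whose defect group D is the direct product of two cyclic groups of the same order 2 ^ m, m ≥ 2. Then either B has 2-regular rank one and exactly 4 ^ m irreducible characters, or B has 2-regular rank three and exactly (4 ^ m + 8) / 3 irreducible characters. -/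
theorem result {G : Type*} [Group G] [Finite G] (M : Ideal Cfsg.AlgInt) (hM : Cfsg.IsPModular 2 M) (B : Set (Cfsg.IrrCharacter G)) (hB : Cfsg.IsPBlock M B) (D : Subgroup G) (hD : Cfsg.IsDefectGroup 2 M B D) (m : ℕ) (hm : 2 ≤ m) (hiso : Nonempty (D ≃* Multiplicative (ZMod (2 ^ m) × ZMod (2 ^ m)))) : (Cfsg.blockRank 2 B = 1 ∧ Nat.card B = 4 ^ m) ∨ (Cfsg.blockRank 2 B = 3 ∧ 3 * Nat.card B = 4 ^ m + 8) := by
  have : Fact (Nat.Prime 2) := ⟨Nat.prime_two⟩
  obtain ⟨c, T, n, hc, hT, hn, h13, hcard, hne, hab, habq, hfree⟩ :=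
    Cfsg.Agent.HomocyclicTwo.exists_setting hM hB hD (by omega) hiso
  obtain ⟨-, -, -, h⟩ := Cfsg.Agent.FreeInertial.main_of_prime hM hD hne hab hc hT hn hfree
    fun _ hp => by
      exfalso
      rw [hcard] at hp
      have h2 : 4 = 4 ^ m := (hp.eq_one_or_self_of_dvd 4 (dvd_pow_self 4 (by omega))).resolve_left (by norm_num)
      have : (4 : ℕ) ^ 2 ≤ 4 ^ m := Nat.pow_le_pow_right (by norm_num) hm
      omega
  obtain ⟨hk, hl⟩ := h (by omega)
  have h4 : 1 ≤ 4 ^ m := Nat.one_le_pow _ _ (by norm_num)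
  rcases h13 with rfl | rfl
  · exact Or.inl ⟨hl, by rw [hk, hcard, Nat.div_one]; omega⟩
  · refine Or.inr ⟨hl, ?_⟩
    have h3 : 3 ∣ 4 ^ m - 1 := by simpa using Nat.sub_dvd_pow_sub_pow 4 1 m
    rw [hk, hcard]
    omega

end Cfsg.Agent.S4552
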