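import Cfsg.Statements.S4553
import Cfsg.Agent.Lib.ResidualCount.Count

set_option autoImplicit false
open Cfsg

namespace Cfsg.Agent.S4553

/-- Let G be a finite group, p a prime, P a Sylow p-subgroup, N the p-residual of G (the subgroup generated by the elements of order prime to p, the smallest normal subgroup with G/N a p-group), and M a maximal ideal of the algebraic integers containing p; suppose G/N is cyclic and nontrivial. Let k be a natural number with g ^ k = g ^ (1 + p) for every p-element g and g ^ k = g for every element g of order prime to p (so that χ (g ^ k) is the image of χ g under the field automorphism that raises p-power roots of unity to the power 1 + p and fixes the roots of unity of order prime to p). Then the number of members χ of the principal block of G of degree prime to p with χ (g ^ k) = χ g for all g equals p times the number of members θ of the principal block of N of degree prime to p that are invariant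 under conjugation by P and satisfy θ (n ^ k) = θ n for all n. -/
theorem result {G : Type*} [Group G] [Finite G] (p : ℕ) [Fact p.Prime] (M : Ideal Cfsg.AlgInt) (hM : Cfsg.IsPModular p M) (P : Sylow p G) (N : Subgroup G) [hN : N.Normal] (hNres : N = Cfsg.pResidual p G) (hcyc : IsCyclic (G ⧸ N)) (hnt : N ≠ ⊤) (k : ℕ) (hk₁ : ∀ g : G, (∃ j : ℕ, orderOf g = p ^ j) → g ^ k = g ^ (1 + p)) (hk₂ : ∀ g : G, Nat.Coprime (orderOf g) p → g ^ k = g) : Nat.card {χ : Cfsg.IrrCharacter G // χ ∈ Cfsg.principalBlock M G ∧ ¬ p ∣ Cfsg.charDegree (χ : G → ℂ) ∧ ∀ g : G, (χ : G → ℂ) (g ^ k) = (χ : G → ℂ) g} = p * Nat.card {θ : Cfsg.IrrCharacter ↥N // θ ∈ Cfsg.principalBlock M ↥N ∧ ¬ p ∣ Cfsg.charDegree (θ : ↥N → ℂ) ∧ (∀ x ∈ (P : Subgroup G), ∀ n : ↥N, (θ : ↥N → ℂ) ⟨x * n * x⁻¹, hN.conj_mem n n.2 x⟩ = (θ : ↥N → ℂ) n) ∧ ∀ n : ↥N, (θ : ↥N → ℂ) (n ^ k) = (θ : ↥N → ℂ) n} := by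
  classical
  have hp : p.Prime := Fact.out
  have := Fintype.ofFinite G
  have := Fintype.ofFinite N
  have := Fintype.ofFinite (IrrCharacter G)
  have := Fintype.ofFinite (IrrCharacter N)
  have hk := Agent.ResidualCount.coprime_card hk₁ hk₂
  obtain ⟨a', ha'⟩ := Agent.ResidualCount.index_eq_pow hNres
  obtain ⟨a, rfl⟩ : ∃ a, a' = a + 1 := ⟨a' - 1, (Nat.succ_pred_eq_of_ne_zero fun h0 => hnt (by
    rw [← Subgroup.index_eq_one, ha', h0, pow_zero])).symm⟩
  obtain ⟨ε, g0, hadd, hε, hg0, hg0P⟩ := Agent.ResidualCount.exists_index_map hNres hcyc P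
  have : NeZero N.index := ⟨Subgroup.index_ne_zero_of_finite⟩
  have hpg : ∃ j : ℕ, orderOf g0 = p ^ j := by
    obtain ⟨j, hj⟩ := IsPGroup.iff_orderOf.mp P.isPGroup' ⟨g0, hg0P⟩
    exact ⟨j, by rw [← hj, Subgroup.orderOf_mk]⟩
  have hkm := Agent.ResidualCount.apply_pow_k ε hadd hg0 hpg hk₁
  have hreg : ∀ g : G, ¬ p ∣ orderOf g → g ∈ N := fun g hg => Agent.ResidualCount.mem_of_not_dvd hNres hg
  have hres : ∀ χ : IrrCharacter G, ¬ p ∣ charDegree (χ : G → ℂ) →
      IsIrrCharacter N (fun n : N => (χ : G → ℂ) n) := fun χ hχ =>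
    Agent.RelDegreeDist.irr_restrict_coprime N χ.2 (Agent.Blocks.charDegree_cast χ).symm
      (ha' ▸ Nat.Coprime.pow_right _ ((hp.coprime_iff_not_dvd.mpr hχ).symm))
  have hdegeq : ∀ (χ : G → ℂ) (θ : N → ℂ), (∀ n : N, θ n = χ n) → charDegree θ = charDegree χ := fun χ θ h => by
    simp [charDegree, h 1]
  let A := {χ : Cfsg.IrrCharacter G // χ ∈ Cfsg.principalBlock M G ∧ ¬ p ∣ Cfsg.charDegree (χ : G → ℂ) ∧
    ∀ g : G, (χ : G → ℂ) (g ^ k) = (χ : G → ℂ) g}
  let B := {θ : Cfsg.IrrCharacter ↥N // θ ∈ Cfsg.principalBlock M ↥N ∧ ¬ p ∣ Cfsg.charDegree (θ : ↥N → ℂ) ∧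
    (∀ x ∈ (P : Subgroup G), ∀ n : ↥N, (θ : ↥N → ℂ) ⟨x * n * x⁻¹, hN.conj_mem n n.2 x⟩ = (θ : ↥N → ℂ) n) ∧
      ∀ n : ↥N, (θ : ↥N → ℂ) (n ^ k) = (θ : ↥N → ℂ) n}
  let f : A → B := fun χ => ⟨⟨fun n => (χ.1 : G → ℂ) n, hres χ.1 χ.2.2.1⟩,
    (Agent.ResidualCount.mem_principal_iff_restrict hM hreg
      (θ := ⟨fun n => (χ.1 : G → ℂ) n, hres χ.1 χ.2.2.1⟩) fun _ => rfl).mp χ.2.1,
    by rw [hdegeq (χ.1 : G → ℂ) _ fun _ => rfl]; exact χ.2.2.1,
    fun x _ n => Agent.Blocks.irr_class χ.1 _ _, fun n => by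
      show (χ.1 : G → ℂ) ((n ^ k : N) : G) = _
      rw [SubmonoidClass.coe_pow]
      exact χ.2.2.2 n⟩
  have key : ∀ b : B, Nat.card {χ : A // f χ = b} = p := by
    rintro ⟨θ, hθB, hθp, hθP, hθk⟩
    have hinv : ∀ (g : G) (n : N), (θ : N → ℂ) ⟨g * n * g⁻¹, hN.conj_mem n n.2 g⟩ = (θ : N → ℂ) n := by
      intro g n
      obtain ⟨u, hu, v, hv, rfl⟩ := Subgroup.mem_sup_of_normal_right.mp
        ((Agent.ResidualCount.sup_sylow hNres P).symm ▸ Subgroup.mem_top g)
      have h1 := hθP u hu ⟨v * n * v⁻¹, hN.conj_mem n n.2 v⟩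
      have h2 := Agent.Blocks.irr_class θ n ⟨v, hv⟩
      refine Eq.trans ?_ (h1.trans (Eq.trans ?_ h2))
      · exact congrArg _ (Subtype.ext (by group))
      · exact congrArg _ (Subtype.ext rfl)
    obtain ⟨r, ρ, hρirr, hρ⟩ := θ.2
    obtain ⟨R, hR⟩ := Agent.CharExtend.hom_of_cyclic hcyc ρ (fun g n => by rw [hρ]; exact hinv g n)
    obtain ⟨χ0, hχ0, hχ0res⟩ := Agent.CharExtend.extends_of_hom ρ R hR
    rw [hρ] at hχ0res
    have h0res : (fun n : N => χ0 n) = (θ : N → ℂ) := funext hχ0res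
    obtain ⟨j₀, hj₀⟩ := Agent.ResidualCount.exists_fixed_extension ε hadd rfl hε hg0 hNres hpg ha' hk₁ hk hχ0
      (h0res ▸ θ.2) (hdegeq χ0 _ (fun n => (hχ0res n).symm) ▸ hθp) (fun n => by
        rw [← SubmonoidClass.coe_pow, hχ0res, hχ0res, hθk])
    let χ1 : G → ℂ := fun g => χ0 g * ZMod.stdAddChar (j₀ * ε g)
    have hχ1 : IsIrrCharacter G χ1 := Agent.ResidualCount.isIrr_twist ε hadd hχ0 j₀
    have hχ1res : ∀ n : N, χ1 n = (θ : N → ℂ) n := fun n => by
      simp [χ1, (hε _).mpr n.2, hχ0res]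
    have hfixed : ∀ g, χ1 (g ^ k) = χ1 g := hj₀
    have hεk : ∀ g, ε (g ^ k) = ε g + (p : ZMod N.index) * ε g := fun g => by
      rw [Agent.ResidualCount.apply_pow ε hadd, nsmul_eq_mul, hkm]; ring
    have htw := Agent.ResidualCount.isIrr_twist ε hadd hχ1
    have huniq : ∀ i : ZMod N.index, ∀ j : ZMod N.index,
        (∀ g, χ1 g * ZMod.stdAddChar (i * ε g) = χ1 g * ZMod.stdAddChar (i * ε g) * ZMod.stdAddChar (j * ε g)) →
          j = 0 := fun i j h =>
      (Agent.ResidualCount.exists_twist_of_restrict rfl ε hε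
        (Agent.ResidualCount.isIrr_twist ε hadd (htw i)) (htw i)
        (by rw [show (fun n : N => χ1 n * ZMod.stdAddChar (i * ε n)) = (θ : N → ℂ) from
              funext fun n => by simp [hχ1res, (hε _).mpr n.2]]
            exact θ.2) (fun _ => rfl)).2 j h
    have hmemA : ∀ j : {j : ZMod N.index // (p : ZMod N.index) * j = 0},
        (⟨_, htw j.1⟩ : IrrCharacter G) ∈ principalBlock M G ∧
          ¬ p ∣ charDegree (fun g => χ1 g * ZMod.stdAddChar (j.1 * ε g)) ∧
          ∀ g : G, χ1 (g ^ k) * ZMod.stdAddChar (j.1 * ε (g ^ k)) = χ1 g * ZMod.stdAddChar (j.1 * ε g) := by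
      rintro ⟨j, hj⟩
      have hr : ∀ n : N, (θ : N → ℂ) n = χ1 n * ZMod.stdAddChar (j * ε n) := fun n => by
        simp [hχ1res, (hε _).mpr n.2]
      refine ⟨(Agent.ResidualCount.mem_principal_iff_restrict hM hreg (χ := ⟨_, htw j⟩) hr).mpr hθB, ?_, fun g => ?_⟩
      · rw [← hdegeq (fun g => χ1 g * ZMod.stdAddChar (j * ε g)) _ hr]; exact hθp
      · rw [hfixed, hεk, mul_add, ← mul_assoc j, mul_comm j (p : ZMod N.index), hj, zero_mul, add_zero]
    have e : {j : ZMod N.index // (p : ZMod N.index) * j = 0} ≃ {χ : A // f χ = ⟨θ, hθB, hθp, hθP, hθk⟩} := by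
      refine Equiv.ofBijective (fun j => ⟨⟨⟨_, htw j.1⟩, hmemA j⟩, Subtype.ext (Subtype.ext (funext fun n => ?_))⟩)
        ⟨fun i j hij => ?_, fun χ => ?_⟩
      · simp [f, hχ1res, (hε _).mpr n.2]
      · have h : ∀ g, χ1 g * ZMod.stdAddChar (i.1 * ε g) = χ1 g * ZMod.stdAddChar (j.1 * ε g) :=
          congrFun (congrArg (fun z : {χ : A // f χ = _} => (z.1.1 : G → ℂ)) hij)
        refine Subtype.ext (sub_eq_zero.mp (huniq j.1 (i.1 - j.1) fun g => ?_))
        rw [mul_assoc (χ1 g), ← AddChar.map_add_eq_mul]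
        refine Eq.trans (h g).symm ?_
        congr 2
        ring
      · obtain ⟨⟨χ, hχB, hχp, hχk⟩, hχ⟩ := χ
        have hχres : ∀ n : N, (χ : G → ℂ) n = (θ : N → ℂ) n :=
          congrFun (congrArg (fun z : B => (z.1 : N → ℂ)) hχ)
        obtain ⟨⟨j, hj⟩, -⟩ := Agent.ResidualCount.exists_twist_of_restrict rfl ε hε htw χ.2
          (by rw [show (fun n : N => χ1 n) = (θ : N → ℂ) from funext hχ1res]; exact θ.2)
          (fun n => (hχres n).trans (hχ1res n).symm)
        have hpj : (p : ZMod N.index) * j = 0 := huniq j _ fun g => by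
          have h1 := hχk g
          rw [hj, hj, hfixed, hεk, mul_add, AddChar.map_add_eq_mul, ← mul_assoc, ← mul_assoc j,
            mul_comm j (p : ZMod N.index)] at h1
          exact h1.symm
        exact ⟨⟨j, hpj⟩, Subtype.ext (Subtype.ext (Subtype.ext (funext fun g => (hj g).symm)))⟩
    rw [← Nat.card_congr e, ha']
    exact Agent.ResidualCount.card_mul_eq_zero
  show Nat.card A = p * Nat.card B
  rw [← Nat.card_congr (Equiv.sigmaFiberEquiv f), Nat.card_sigma, Finset.sum_congr rfl (fun b _ => key b),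
    Finset.sum_const, Finset.card_univ, Nat.card_eq_fintype_card, smul_eq_mul, mul_comm]

end Cfsg.Agent.S4553
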