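import Cfsg.Statements.S4558
import Cfsg.Agent.Lib.CentralChar.Congr
import Cfsg.Agent.Lib.Char.Integral

set_option autoImplicit false
open Cfsg

namespace Cfsg.Agent.S4558

/-- Let χ be a character of the finite group G and g an element of p-power order for the prime p. If χ g = 0, then p divides the degree of χ. -/
theorem result {G : Type*} [Group G] [Finite G] (p : ℕ) [Fact p.Prime] (χ : G → ℂ) (hχ : Cfsg.IsCharacter G χ) (g : G) (hg : ∃ j : ℕ, orderOf g = p ^ j) (h0 : χ g = 0) : p ∣ Cfsg.charDegree χ := by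
  obtain ⟨j, hj⟩ := hg
  obtain ⟨r, hr, he⟩ := CentralChar.frobenius_congr (p := p) Fact.out j hχ g
  obtain ⟨d, hd⟩ := Char.IsCharacter.exists_degree hχ
  have hpow : g ^ p ^ j = 1 := hj ▸ pow_orderOf_eq_one g
  rw [h0, hpow, hd, zero_pow (pow_ne_zero j (Fact.out : p.Prime).ne_zero)] at he
  have hdeg : Cfsg.charDegree χ = d := by simp [Cfsg.charDegree, hd]
  rw [hdeg]
  refine Char.nat_dvd_of_isIntegral_div (Fact.out : p.Prime).ne_zero ?_
  have h1 : (d : ℂ) / (p : ℂ) = -r := by
    rw [div_eq_iff (Nat.cast_ne_zero.mpr (Fact.out : p.Prime).ne_zero)]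
    linear_combination -he
  rw [h1]
  exact hr.neg

end Cfsg.Agent.S4558
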