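import Cfsg.Statements.S4560
import Cfsg.Agent.EqLemmas
import Cfsg.Agent.Lib.AltPerm.Chars

set_option autoImplicit false
open Cfsg

namespace Cfsg.Agent.S4560

/-- For n ≥ 7 the alternating group on n letters has an irreducible character that vanishes at some 2-element and is the restriction of an irreducible character of the symmetric group, and an irreducible character that vanishes at some element of order 3 and is the restriction of an irreducible character of the symmetric group. -/
theorem result (n : ℕ) (hn : 7 ≤ n) : (∃ χ : Cfsg.IrrCharacter (alternatingGroup (Fin n)), (∃ x : alternatingGroup (Fin n), (∃ j : ℕ, orderOf x = 2 ^ j) ∧ (χ : alternatingGroup (Fin n) → ℂ) x = 0) ∧ ∃ ψ : Cfsg.IrrCharacter (Equiv.Perm (Fin n)), ∀ x : alternatingGroup (Fin n), (ψ : Equiv.Perm (Fin n) → ℂ) x = (χ : alternatingGroup (Fin n) → ℂ) x) ∧ (∃ χ : Cfsg.IrrCharacter (alternatingGroup (Fin n)), (∃ y : alternatingGroup (Fin n), orderOf y = 3 ∧ (χ : alternatingGroup (Fin n) → ℂ) y = 0) ∧ ∃ ψ : Cfsg.IrrCharacter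 (Equiv.Perm (Fin n)), ∀ x : alternatingGroup (Fin n), (ψ : Equiv.Perm (Fin n) → ℂ) x = (χ : alternatingGroup (Fin n) → ℂ) x) := by
  classical
  have pack : ∀ (v : Equiv.Perm (Fin n) → ℂ) (x : alternatingGroup (Fin n))
      (h1 : IsIrrCharacter (alternatingGroup (Fin n)) fun x => v x) (h2 : IsIrrCharacter (Equiv.Perm (Fin n)) v),
      v x = 0 → ∀ (P : alternatingGroup (Fin n) → Prop), P x →
      ∃ χ : Cfsg.IrrCharacter (alternatingGroup (Fin n)), (∃ x : alternatingGroup (Fin n), P x ∧
        (χ : alternatingGroup (Fin n) → ℂ) x = 0) ∧ ∃ ψ : Cfsg.IrrCharacter (Equiv.Perm (Fin n)),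
        ∀ x : alternatingGroup (Fin n), (ψ : Equiv.Perm (Fin n) → ℂ) x =
          (χ : alternatingGroup (Fin n) → ℂ) x :=
    fun v x h1 h2 hx P hP => ⟨⟨_, h1⟩, ⟨x, hP, hx⟩, ⟨v, h2⟩, fun _ => rfl⟩
  have two : ∀ (m : Multiset ℕ) (x : alternatingGroup (Fin n)), orderOf x = m.lcm → m.lcm ∣ 8 →
      ∃ j : ℕ, orderOf x = 2 ^ j := fun m x hx hd => by
    obtain ⟨j, -, hj⟩ := (Nat.dvd_prime_pow Nat.prime_two (m := 3)).mp (hx ▸ hd)
    exact ⟨j, hj⟩
  constructor
  · -- a 2-element
    rcases Nat.even_or_odd n with hev | hodd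
    · obtain ⟨t, ht8, ht4, htn, hdiff⟩ : ∃ t, 8 ≤ t ∧ 4 ∣ t ∧ t ≤ n ∧ (n - t = 0 ∨ n - t = 2) := by
        obtain ⟨k, hk⟩ := hev
        by_cases h4 : 4 ∣ n
        · exact ⟨n, by omega, h4, le_rfl, Or.inl (Nat.sub_self n)⟩
        · exact ⟨n - 2, by omega, by omega, by omega, Or.inr (by omega)⟩
      obtain ⟨m, hm1, hm2, hm3⟩ : ∃ m : Multiset ℕ, m.sum = t ∧ (∀ a ∈ m, a = 4 ∨ a = 8) ∧
          Even (m.sum + Multiset.card m) := by
        by_cases h8 : 8 ∣ t
        · refine ⟨Multiset.replicate (t / 4) 4, ?_, fun a ha => Or.inl (Multiset.eq_of_mem_replicate ha), ?_⟩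
          · rw [Multiset.sum_replicate, smul_eq_mul]; omega
          · rw [Multiset.sum_replicate, Multiset.card_replicate, smul_eq_mul, Nat.even_iff]; omega
        · refine ⟨8 ::ₘ Multiset.replicate ((t - 8) / 4) 4, ?_, fun a ha => ?_, ?_⟩
          · rw [Multiset.sum_cons, Multiset.sum_replicate, smul_eq_mul]; omega
          · rcases Multiset.mem_cons.mp ha with h | h
            · exact Or.inr h
            · exact Or.inl (Multiset.eq_of_mem_replicate h)
          · rw [Multiset.sum_cons, Multiset.card_cons, Multiset.sum_replicate, Multiset.card_replicate,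
              smul_eq_mul, Nat.even_iff]
            omega
      obtain ⟨x, hx1, hx2, hx3⟩ := AltPerm.exists_perm m (hm1 ▸ htn)
        (fun a ha => by rcases hm2 a ha with h | h <;> omega) hm3
      have hord := two m x hx2 (Multiset.lcm_dvd.mpr fun a ha => by
        rcases hm2 a ha with h | h <;> subst h <;> norm_num)
      have hno := hx3 fun h => by rcases hm2 2 h with h | h <;> omega
      rw [hm1] at hx1
      rcases hdiff with hd | hd
      · obtain ⟨v, h1, h2, h3⟩ := AltPerm.exists_two hn
        exact pack v x h1 h2 (h3 _ hno (hx1.trans hd)) (fun x => ∃ j, orderOf x = 2 ^ j) hord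
      · obtain ⟨v, h1, h2, h3⟩ := AltPerm.exists_hook hn
        exact pack v x h1 h2 (h3 _ hno (hx1.trans hd)) (fun x => ∃ j, orderOf x = 2 ^ j) hord
    · obtain ⟨m, hm1, hm2, hm3⟩ : ∃ m : Multiset ℕ, m.sum = n - 1 ∧ (∀ a ∈ m, a = 2 ∨ a = 4) ∧
          Even (m.sum + Multiset.card m) := by
        obtain ⟨k, hk⟩ := hodd
        by_cases h4 : 2 ∣ k
        · refine ⟨Multiset.replicate k 2, ?_, fun a ha => Or.inl (Multiset.eq_of_mem_replicate ha), ?_⟩
          · rw [Multiset.sum_replicate, smul_eq_mul]; omega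
          · rw [Multiset.sum_replicate, Multiset.card_replicate, smul_eq_mul, Nat.even_iff]; omega
        · refine ⟨4 ::ₘ Multiset.replicate (k - 2) 2, ?_, fun a ha => ?_, ?_⟩
          · rw [Multiset.sum_cons, Multiset.sum_replicate, smul_eq_mul]; omega
          · rcases Multiset.mem_cons.mp ha with h | h
            · exact Or.inr h
            · exact Or.inl (Multiset.eq_of_mem_replicate h)
          · rw [Multiset.sum_cons, Multiset.card_cons, Multiset.sum_replicate, Multiset.card_replicate,
              smul_eq_mul, Nat.even_iff]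
            omega
      obtain ⟨x, hx1, hx2, -⟩ := AltPerm.exists_perm (n := n) m (by omega)
        (fun a ha => by rcases hm2 a ha with h | h <;> omega) hm3
      have hord := two m x hx2 (Multiset.lcm_dvd.mpr fun a ha => by
        rcases hm2 a ha with h | h <;> subst h <;> norm_num)
      obtain ⟨v, h1, h2, h3⟩ := AltPerm.exists_standard hn
      exact pack v x h1 h2 (h3 _ (hx1.trans (by omega))) (fun x => ∃ j, orderOf x = 2 ^ j) hord
  · -- an element of order three
    obtain ⟨x, hx1, hx2, hx3⟩ := AltPerm.exists_perm (n := n) (Multiset.replicate (n / 3) 3)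
      (by rw [Multiset.sum_replicate, smul_eq_mul]; omega)
      (fun a ha => by rw [Multiset.eq_of_mem_replicate ha]; norm_num)
      (by rw [Multiset.sum_replicate, Multiset.card_replicate, smul_eq_mul, Nat.even_iff]; omega)
    have hno := hx3 fun h => by have := Multiset.eq_of_mem_replicate h; omega
    have hord : orderOf x = 3 := by
      rw [hx2]
      refine Nat.dvd_antisymm (Multiset.lcm_dvd.mpr fun a ha => by rw [Multiset.eq_of_mem_replicate ha])
        (Multiset.dvd_lcm (Multiset.mem_replicate.mpr ⟨by omega, rfl⟩))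
    rw [Multiset.sum_replicate, smul_eq_mul] at hx1
    rcases (show n % 3 = 0 ∨ n % 3 = 1 ∨ n % 3 = 2 by omega) with h | h | h
    · obtain ⟨v, h1, h2, h3⟩ := AltPerm.exists_two hn
      exact pack v x h1 h2 (h3 _ hno (by omega)) (fun x => orderOf x = 3) hord
    · obtain ⟨v, h1, h2, h3⟩ := AltPerm.exists_standard hn
      exact pack v x h1 h2 (h3 _ (by omega)) (fun x => orderOf x = 3) hord
    · obtain ⟨v, h1, h2, h3⟩ := AltPerm.exists_hook hn
      exact pack v x h1 h2 (h3 _ hno (by omega)) (fun x => orderOf x = 3) hord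

end Cfsg.Agent.S4560
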