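import Cfsg.Statements.S4563
import Cfsg.Agent.EqLemmas
import Cfsg.Agent.Lib.FullyRamified.Orbit
import Cfsg.Agent.Lib.CharApp.Clifford
import Cfsg.Agent.Lib.Solvable.Converse
import Cfsg.Agent.Lib.PReduced.Tools

set_option autoImplicit false
open Cfsg

namespace Cfsg.Agent.S4563

open Cfsg.Agent

section orbit

variable {H : Type*} [Group H] [Finite H] {X : Type*} [MulAction H X]

/-- A subgroup of the quotient whose index is the size of a Sylow-like orbit. -/
theorem exists_index_pow (K : Subgroup H) [K.Normal] (N U W : Subgroup H) (x0 : X) {p k : ℕ}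
    (hp : p.Prime) (hWN : W ≤ N) (hWK : W ≤ K) (hNK : N ⊔ K = ⊤) (hUN : U ≤ N)
    (hW : ∀ w ∈ W, w • x0 = x0) (htrans : ∀ n ∈ N, ∃ u ∈ U, u • x0 = n • x0)
    (horb : (MulAction.orbit U x0).ncard = p ^ k) (hp' : ¬ p ∣ W.relIndex K) :
    ∃ L : Subgroup (H ⧸ K), L.index = p ^ k := by
  let π : N →* H ⧸ K := (QuotientGroup.mk' K).comp N.subtype
  have hπ : Function.Surjective π := by
    intro q
    obtain ⟨g, rfl⟩ := QuotientGroup.mk'_surjective K q
    obtain ⟨a, ha, b, hb, rfl⟩ := Subgroup.mem_sup_of_normal_right.mp (hNK ▸ Subgroup.mem_top g)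
    refine ⟨⟨a, ha⟩, ?_⟩
    show QuotientGroup.mk' K a = QuotientGroup.mk' K (a * b)
    exact (QuotientGroup.mk_mul_of_mem a hb).symm
  let S : Subgroup N := MulAction.stabilizer N x0
  have horbN : MulAction.orbit N x0 = MulAction.orbit U x0 := by
    ext y
    constructor
    · rintro ⟨n, rfl⟩
      obtain ⟨u, hu, he⟩ := htrans n n.2
      exact ⟨⟨u, hu⟩, he⟩
    · rintro ⟨u, rfl⟩
      exact ⟨⟨u, hUN u.2⟩, rfl⟩
  have hSidx : S.index = p ^ k := by
    rw [MulAction.index_stabilizer, horbN, horb]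
  have hker : π.ker = K.subgroupOf N := by
    ext x
    exact (QuotientGroup.eq_one_iff (x : H)).trans Subgroup.mem_subgroupOf.symm
  have hWS : W.subgroupOf N ≤ S := fun x hx => hW _ hx
  -- the relative index of `S` in the kernel
  have h1 : S.relIndex π.ker ∣ W.relIndex K := by
    refine (Subgroup.relIndex_dvd_of_le_left _ hWS).trans ?_
    rw [hker, ← Subgroup.inf_subgroupOf_right K N, Subgroup.relIndex_subgroupOf inf_le_right,
      ← Subgroup.relIndex_mul_relIndex W (K ⊓ N) K (le_inf hWK hWN) inf_le_left]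
    exact dvd_mul_right _ _
  have h2 : (S ⊔ π.ker).index * S.relIndex π.ker = S.index := by
    have e1 : π.ker.relIndex S * (S ⊔ π.ker).index = π.ker.index := by
      rw [← Subgroup.relIndex_sup_right]
      exact Subgroup.relIndex_mul_index le_sup_right
    have e2 : π.ker.relIndex S * S.index = S.relIndex π.ker * π.ker.index := by
      have a1 := Subgroup.relIndex_mul_index (inf_le_left : S ⊓ π.ker ≤ S)
      have a2 := Subgroup.relIndex_mul_index (inf_le_right : S ⊓ π.ker ≤ π.ker)
      rw [Subgroup.inf_relIndex_left] at a1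
      rw [Subgroup.inf_relIndex_right] at a2
      rw [a1, a2]
    have hne : π.ker.relIndex S ≠ 0 := Subgroup.index_ne_zero_of_finite
    refine Nat.eq_of_mul_eq_mul_left (Nat.pos_of_ne_zero hne) ?_
    rw [e2, ← mul_assoc, e1, mul_comm]
  have h3 : S.relIndex π.ker = 1 := by
    refine Nat.Coprime.eq_one_of_dvd ?_ (hSidx ▸ Dvd.intro_left _ h2)
    exact (Nat.Coprime.pow_right k (Nat.Coprime.coprime_dvd_left h1
      ((hp.coprime_iff_not_dvd.mpr hp').symm)))
  refine ⟨S.map π, ?_⟩
  rw [Subgroup.index_map, π.range_eq_top.mpr hπ, Subgroup.index_top, mul_one]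
  rw [h3, mul_one] at h2
  rw [h2, hSidx]

end orbit

section count

variable {G : Type*} [Group G] [Fintype G] (Z : Subgroup G) [hZn : Z.Normal] [Fintype Z]

theorem conjFun_eq_self {θ : Z → ℂ}
    (hinv : ∀ (g : G) (z : Z), θ ⟨g * z * g⁻¹, hZn.conj_mem z z.2 g⟩ = θ z) (x : G) :
    CliffordChar.conjFun Z x θ = θ := by
  funext z
  rw [CliffordChar.conjFun_apply]
  simpa using hinv x⁻¹ z

theorem exists_mult {θ : Z → ℂ} (hθ : IsIrrCharacter Z θ)
    (hinv : ∀ (g : G) (z : Z), θ ⟨g * z * g⁻¹, hZn.conj_mem z z.2 g⟩ = θ z)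
    {η : G → ℂ} (hη : IsIrrCharacter G η) (h : classInner (fun z : Z => η z) θ ≠ 0) :
    ∃ a : ℕ, classInner (fun z : Z => η z) θ = a ∧ ∀ z : Z, η z = (a : ℂ) * θ z := by
  obtain ⟨a, ha⟩ := Char.IsCharacter.classInner_nat
    (Char.IsCharacter.restrict (Char.IsIrrCharacter.isCharacter hη) Z) (Char.IsIrrCharacter.isCharacter hθ)
  refine ⟨a, ha, fun z => ?_⟩
  have := congrFun (CharApp.restrict_invariant Z hη hθ h (conjFun_eq_self Z hinv)) z
  rw [ha] at this
  exact this

/-- The characters over an invariant `θ`, if all have degree `a * θ 1`. -/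
theorem over_count {θ : Z → ℂ} (hθ : IsIrrCharacter Z θ)
    (hinv : ∀ (g : G) (z : Z), θ ⟨g * z * g⁻¹, hZn.conj_mem z z.2 g⟩ = θ z) {a : ℕ}
    (hdeg : ∀ η : IrrCharacter G, classInner (fun z : Z => (η : G → ℂ) z) θ ≠ 0 →
      (η : G → ℂ) 1 = (a : ℂ) * θ 1) :
    {η : IrrCharacter G | classInner (fun z : Z => (η : G → ℂ) z) θ ≠ 0}.ncard * a ^ 2 = Z.index := by
  classical
  haveI := Fintype.ofFinite (IrrCharacter G)
  have h := congrFun (Char.classFunction_eq_sum (Char.indFun_isClassFunction Z θ)) 1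
  rw [Char.indFun_one_apply, Finset.sum_apply] at h
  have hθ1 := Char.IsIrrCharacter.apply_one_ne_zero hθ
  have ht : ∀ η : IrrCharacter G, (classInner (indFun Z θ) (η : G → ℂ) • (η : G → ℂ)) 1 =
      if classInner (fun z : Z => (η : G → ℂ) z) θ ≠ 0 then ((a ^ 2 : ℕ) : ℂ) * θ 1 else 0 := by
    intro η
    rw [Pi.smul_apply, smul_eq_mul, Char.frobenius_reciprocity Z θ (Char.IsIrrCharacter.isClassFunction η.2)]
    split_ifs with hne
    · obtain ⟨b, hb, hb'⟩ := exists_mult Z hθ hinv η.2 hne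
      have h1 := hb' 1
      rw [OneMemClass.coe_one, hdeg η hne] at h1
      have hab : a = b := by exact_mod_cast mul_right_cancel₀ hθ1 h1
      rw [CharApp.classInner_comm_of_nat hb, hdeg η hne, hab]
      push_cast
      ring
    · rw [← Char.classInner_conj_symm, not_not.mp hne, map_zero, zero_mul]
  rw [Finset.sum_congr rfl fun η _ => ht η, ← Finset.sum_filter, Finset.sum_const, nsmul_eq_mul,
    ← mul_assoc] at h
  have h2 := mul_right_cancel₀ hθ1 h
  rw [← Nat.cast_mul, Nat.cast_inj] at h2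
  rw [h2, ← Set.ncard_coe_finset]
  congr 2
  ext η
  simp

end count

/-- Functions on `H`, acted on by conjugation. -/
def CF (H : Type*) := H → ℂ

instance {H : Type*} [Group H] : MulAction H (CF H) where
  smul x f := fun h => f (x⁻¹ * h * x)
  one_smul f := funext fun h => show f ((1 : H)⁻¹ * h * 1) = f h by simp
  mul_smul x y f := funext fun h =>
    show f ((x * y)⁻¹ * h * (x * y)) = f (y⁻¹ * (x⁻¹ * h * x) * y) by simp [mul_assoc]

/-- A character of a subgroup as a function on the group. -/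
noncomputable def emb {H : Type*} [Group H] (W : Subgroup H) (η : W → ℂ) : CF H := extendByZero W η

theorem emb_injective {H : Type*} [Group H] (W : Subgroup H) : Function.Injective (emb W) :=
  fun f g h => funext fun w => by
    have := congrFun h (w : H)
    change extendByZero W f w = extendByZero W g w at this
    rwa [Char.extendByZero_coe, Char.extendByZero_coe] at this

/-- Conjugation by an element of the normalizer. -/
def conjW {H : Type*} [Group H] (W : Subgroup H) {x : H} (hx : x ∈ Subgroup.normalizer (W : Set H)) :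
    W ≃* W where
  toFun w := ⟨x⁻¹ * w * x, (Subgroup.mem_normalizer_iff''.mp hx w).mp w.2⟩
  invFun w := ⟨x * w * x⁻¹, (Subgroup.mem_normalizer_iff.mp hx w).mp w.2⟩
  left_inv w := Subtype.ext (show x * (x⁻¹ * w * x) * x⁻¹ = (w : H) by simp [mul_assoc])
  right_inv w := Subtype.ext (show x⁻¹ * (x * w * x⁻¹) * x = (w : H) by simp [mul_assoc])
  map_mul' v w := Subtype.ext (show x⁻¹ * (v * w : H) * x = x⁻¹ * v * x * (x⁻¹ * w * x) by simp [mul_assoc])

theorem smul_emb {H : Type*} [Group H] (W : Subgroup H) {x : H}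
    (hx : x ∈ Subgroup.normalizer (W : Set H)) (η : W → ℂ) :
    x • emb W η = emb W (fun w => η (conjW W hx w)) := by
  funext h
  show extendByZero W η (x⁻¹ * h * x) = extendByZero W (fun w => η (conjW W hx w)) h
  have hiff := Subgroup.mem_normalizer_iff''.mp hx h
  by_cases hh : h ∈ W
  · rw [Char.extendByZero_mem W _ hh, Char.extendByZero_mem W _ (hiff.mp hh)]
    rfl
  · rw [Char.extendByZero_not_mem W _ hh, Char.extendByZero_not_mem W _ (fun h' => hh (hiff.mpr h'))]

set_option maxHeartbeats 4000000 in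
theorem exists_complement {H : Type*} [Group H] [Fintype H] (Z : Subgroup H) [Z.Normal] [Fintype Z]
    (K : Subgroup H) [K.Normal] [Fintype K] (hZK : Z ≤ K) {χ : H → ℂ} (hχ : IsIrrCharacter H χ)
    {θ : Z → ℂ} (hθ : IsIrrCharacter Z θ) {e : ℕ} (he : e ^ 2 = Z.index)
    (hres : ∀ z : Z, χ z = (e : ℂ) * θ z) {φ : K → ℂ} (hφ : IsCharacter K φ)
    (hind : indFun K φ = χ) {p : ℕ} (hp : p.Prime) :
    ∃ L : Subgroup (H ⧸ K), L.index = p ^ (Nat.card (H ⧸ K)).factorization p := by
  classical
  have := Fact.mk hp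
  let S0 : Sylow p H := default
  let S1 : Subgroup H := (S0 : Subgroup H) ⊓ K
  let W : Subgroup H := S1 ⊔ Z
  let U : Subgroup H := (S0 : Subgroup H) ⊔ Z
  let N : Subgroup H := Subgroup.normalizer (W : Set H)
  have hZW : Z ≤ W := le_sup_right
  have hWK : W ≤ K := sup_le inf_le_right hZK
  have hWU : W ≤ U := sup_le (le_sup_of_le_left inf_le_left) le_sup_right
  have hN1 : Subgroup.normalizer (S1 : Set H) ≤ N := Subgroup.normalizer_le_normalizer_sup_normal
  have hNK : N ⊔ K = ⊤ :=
    top_le_iff.mp ((PReduced.frattini_sylow_inf S0 K).ge.trans (sup_le_sup_right hN1 K))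
  have hUN : U ≤ N := by
    refine sup_le (le_trans ?_ hN1) (hZW.trans Subgroup.le_normalizer)
    refine le_trans ?_ Subgroup.inf_normalizer_le_normalizer_inf
    exact le_inf Subgroup.le_normalizer Subgroup.le_normalizer_of_normal
  haveI := Fintype.ofFinite W
  haveI := Fintype.ofFinite U
  haveI := Fintype.ofFinite (Z.subgroupOf W)
  haveI := Fintype.ofFinite (Z.comap U.subtype)
  haveI := Fintype.ofFinite (W.subgroupOf U)
  haveI := Fintype.ofFinite ((Z.comap U.subtype).subgroupOf (W.subgroupOf U))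
  haveI : (W.subgroupOf U).Normal := (Subgroup.normal_subgroupOf_iff_le_normalizer hWU).mpr hUN
  -- indices
  have hZne : Z.index ≠ 0 := Subgroup.index_ne_zero_of_finite
  have hUidx : ¬ p ∣ U.index := fun h =>
    S0.not_dvd_index (h.trans (Subgroup.index_dvd_of_le le_sup_left))
  obtain ⟨c, hc⟩ : ∃ c, Z.relIndex U = p ^ c := by
    obtain ⟨s, hs⟩ := S0.2.exists_card_eq
    obtain ⟨c, -, hc⟩ := (Nat.dvd_prime_pow hp).mp (hs ▸
      (Subgroup.relIndex_sup_right (H := (S0 : Subgroup H)) (K := Z) ▸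
        Subgroup.relIndex_dvd_card Z (S0 : Subgroup H) : Z.relIndex U ∣ Nat.card S0))
    exact ⟨c, hc⟩
  have hWKidx : ¬ p ∣ W.relIndex K := by
    intro h
    have h1 := h.trans (Subgroup.relIndex_dvd_of_le_left K (le_sup_left : S1 ≤ W))
    have h2 := (PReduced.sylowOfSubnormal S0 (Subgroup.Normal.isSubnormal ‹K.Normal›)).not_dvd_index
    rw [PReduced.sylowOfSubnormal_coe] at h2
    rw [Subgroup.inf_relIndex_right] at h1
    exact h2 h1
  have hfac : ∀ {m : ℕ}, ¬ p ∣ m → m.factorization p = 0 := fun h =>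
    Nat.factorization_eq_zero_of_not_dvd h
  have hc2 : c = 2 * e.factorization p := by
    have h1 := congrArg (fun m => m.factorization p) (Subgroup.relIndex_mul_index (hZW.trans hWU))
    rw [← he, hc, Nat.factorization_mul (pow_ne_zero _ hp.ne_zero) Subgroup.index_ne_zero_of_finite,
      Finsupp.add_apply, hfac hUidx, Nat.Prime.factorization_pow hp, Finsupp.single_eq_same,
      Nat.factorization_pow, Finsupp.smul_apply, smul_eq_mul] at h1
    omega
  have hWUidx : W.relIndex U = p ^ K.index.factorization p := by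
    obtain ⟨b, -, hb⟩ := (Nat.dvd_prime_pow hp).mp
      (hc ▸ Subgroup.relIndex_dvd_of_le_left U hZW : W.relIndex U ∣ p ^ c)
    have h1 := congrArg (fun m => m.factorization p)
      ((Subgroup.relIndex_mul_index hWU).trans (Subgroup.relIndex_mul_index hWK).symm)
    have hWKne : W.relIndex K ≠ 0 := Subgroup.index_ne_zero_of_finite
    rw [hb, Nat.factorization_mul (pow_ne_zero _ hp.ne_zero) Subgroup.index_ne_zero_of_finite,
      Nat.factorization_mul hWKne Subgroup.index_ne_zero_of_finite,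
      Finsupp.add_apply, Finsupp.add_apply, hfac hUidx, hfac hWKidx, Nat.Prime.factorization_pow hp,
      Finsupp.single_eq_same, zero_add, add_zero] at h1
    rw [hb, h1]
  -- the invariant character on `Z`, seen inside `W`
  have hinv := FullyRamified.invariant hχ he hres
  let θW : Z.subgroupOf W → ℂ := fun z => θ ⟨((z : W) : H), z.2⟩
  have hθW : IsIrrCharacter (Z.subgroupOf W) θW :=
    Char.IsIrrCharacter.comp_equiv hθ (Subgroup.subgroupOfEquivOfLe hZW)
  have hinvW : ∀ (g : W) (z : Z.subgroupOf W),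
      θW ⟨g * z * g⁻¹, (inferInstance : (Z.subgroupOf W).Normal).conj_mem z z.2 g⟩ = θW z :=
    fun g z => hinv (g : H) ⟨((z : W) : H), z.2⟩
  let Over : (W → ℂ) → Prop := fun η => classInner (fun z : Z.subgroupOf W => η z) θW ≠ 0
  -- `U` is fully ramified over `Z`
  obtain ⟨hθU, ψ, f, hψ, hf, hψres⟩ := FullyRamified.pullback hχ hθ he hres U.subtype
    U.subtype_injective (by rw [Subgroup.range_subtype]; exact hZW.trans hWU) hp
    (a := c) hc (by rw [Subgroup.range_subtype]; exact hUidx)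
  have huniq : ∀ ψ' : U → ℂ, IsIrrCharacter U ψ' →
      classInner (fun z : Z.comap U.subtype => ψ' z)
        (fun z : Z.comap U.subtype => θ ⟨U.subtype z, z.2⟩) ≠ 0 → ψ' = ψ :=
    fun ψ' h1 h2 => FullyRamified.eq_of_over hψ hθU hf hψres h1 h2
  let eV : W.subgroupOf U ≃* W := Subgroup.subgroupOfEquivOfLe hWU
  have hle : Z.comap U.subtype ≤ W.subgroupOf U := fun u hu => hZW hu
  let eT : (Z.comap U.subtype).subgroupOf (W.subgroupOf U) ≃* Z.subgroupOf W :=
    ((Subgroup.subgroupOfEquivOfLe hle).trans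
      (Subgroup.subgroupOfEquivOfLe (hZW.trans hWU))).trans (Subgroup.subgroupOfEquivOfLe hZW).symm
  have htr : ∀ η η' : W → ℂ, IsIrrCharacter W η → IsIrrCharacter W η' → Over η → Over η' →
      ∃ u ∈ U, u • emb W η = emb W η' := by
    intro η η' h1 h2 h3 h4
    obtain ⟨-, -, u, hu⟩ := FullyRamified.conj_transitive (G := U) (Z := Z.comap U.subtype)
      (V := W.subgroupOf U) hle hθU huniq (η := fun v => η (eV v)) (η' := fun v => η' (eV v))
      (Char.IsIrrCharacter.comp_equiv h1 eV) (Char.IsIrrCharacter.comp_equiv h2 eV)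
      ((Char.classInner_comp_equiv eT _ _).trans_ne h3) ((Char.classInner_comp_equiv eT _ _).trans_ne h4)
    refine ⟨u, u.2, ?_⟩
    rw [smul_emb W (hUN u.2)]
    refine congrArg (emb W) (funext fun w => ?_)
    have h5 := congrFun hu (eV.symm w)
    rw [CliffordChar.conjFun_apply] at h5
    exact h5
  have hclosed : ∀ (x : H) (hx : x ∈ N) (η : W → ℂ), IsIrrCharacter W η → Over η →
      IsIrrCharacter W (fun w => η (conjW W hx w)) ∧ Over (fun w => η (conjW W hx w)) := by
    intro x hx η h1 h2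
    refine ⟨Char.IsIrrCharacter.comp_equiv h1 (conjW W hx), ?_⟩
    obtain ⟨a, -, ha⟩ := exists_mult (Z.subgroupOf W) hθW hinvW h1 h2
    refine (congrArg (fun g => classInner g θW) (funext fun z : Z.subgroupOf W => ?_)).trans_ne h2
    have hzc : x⁻¹ * ((z : W) : H) * x ∈ Z := by
      simpa using (inferInstance : Z.Normal).conj_mem _ z.2 x⁻¹
    refine (ha ⟨conjW W hx z, hzc⟩).trans ((congrArg _ ?_).trans (ha z).symm)
    show θ ⟨x⁻¹ * ((z : W) : H) * x, hzc⟩ = θ ⟨((z : W) : H), z.2⟩
    simpa using hinv x⁻¹ ⟨((z : W) : H), z.2⟩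
  -- constituents of the restriction of `φ`
  let φW : W → ℂ := fun w => φ ⟨w, hWK w.2⟩
  have hφW : IsCharacter W φW := Char.IsCharacter.comp_hom hφ (Subgroup.inclusion hWK)
  have hover : ∀ η : IrrCharacter W, classInner φW (η : W → ℂ) ≠ 0 → Over (η : W → ℂ) := by
    intro η hη
    have hFc : ∀ x : H, IsCharacter W (fun w => CliffordChar.conjFun K x φ ⟨w, hWK w.2⟩) := fun x =>
      Char.IsCharacter.comp_hom hφ
        (((MulAut.conjNormal x⁻¹ : MulAut K) : K →* K).comp (Subgroup.inclusion hWK))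
    choose m hm using fun x => Char.IsCharacter.classInner_nat (hFc x)
      (Char.IsIrrCharacter.isCharacter η.2)
    have hrw : (fun w : W => χ w) =
        (Nat.card K : ℂ)⁻¹ • ∑ x : H, fun w : W => CliffordChar.conjFun K x φ ⟨w, hWK w.2⟩ := by
      funext w
      rw [Pi.smul_apply, Finset.sum_apply, smul_eq_mul, ← hind]
      exact (CliffordChar.indFun_coe K φ ⟨w, hWK w.2⟩).trans
        (congrArg _ (Finset.sum_apply _ _ _))
    have hχη : classInner (fun w : W => χ w) (η : W → ℂ) ≠ 0 := by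
      rw [hrw, Char.classInner_smul_left, Char.classInner_sum_left,
        Finset.sum_congr rfl fun x _ => hm x, ← Nat.cast_sum]
      refine mul_ne_zero (inv_ne_zero (Nat.cast_ne_zero.mpr Nat.card_pos.ne')) (Nat.cast_ne_zero.mpr ?_)
      intro h0
      have h1 := hm 1
      rw [CliffordChar.conjFun_one, Finset.sum_eq_zero_iff.mp h0 1 (Finset.mem_univ _), Nat.cast_zero] at h1
      exact hη h1
    obtain ⟨θ', hθ'⟩ := CharApp.exists_constituent
      (Char.IsCharacter.restrict (Char.IsIrrCharacter.isCharacter η.2) (Z.subgroupOf W))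
      (Char.IsIrrCharacter.apply_one_ne_zero η.2)
    have h2 := FullyRamified.over_of_constituent
      (Char.IsCharacter.restrict (Char.IsIrrCharacter.isCharacter hχ) W)
      (Char.IsIrrCharacter.isCharacter θ'.2) η hχη hθ'
    rw [show (fun z : Z.subgroupOf W => χ ((z : W) : H)) = (e : ℂ) • θW from
      funext fun z => hres ⟨((z : W) : H), z.2⟩, Char.classInner_smul_left] at h2
    have h3 : (θ' : Z.subgroupOf W → ℂ) = θW := by
      by_contra hne
      exact h2 (by rw [Char.classInner_irr_of_ne hθW θ'.2 (Ne.symm hne), mul_zero])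
    rw [h3] at hθ'
    exact hθ'
  -- degrees
  have he0 := FullyRamified.e_ne_zero he
  have hdegχ : (K.index : ℂ) * φ 1 = (e : ℂ) * θ 1 := by
    rw [← Char.indFun_one_apply, hind]
    exact hres 1
  have hθ1 : θ 1 ≠ 0 := Char.IsIrrCharacter.apply_one_ne_zero hθ
  have hφ1 : φ 1 ≠ 0 := fun h => by
    rw [h, mul_zero] at hdegχ
    exact mul_ne_zero (Nat.cast_ne_zero.mpr he0) hθ1 hdegχ.symm
  obtain ⟨η0, hη0⟩ := CharApp.exists_constituent hφW hφ1
  have hη0' := hover η0 hη0
  obtain ⟨a, -, ha⟩ := exists_mult (Z.subgroupOf W) hθW hinvW η0.2 hη0'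
  have hdeg : ∀ η : IrrCharacter W, Over (η : W → ℂ) → (η : W → ℂ) 1 = (a : ℂ) * θW 1 := by
    intro η hη
    obtain ⟨u, hu, h1⟩ := htr η0 η η0.2 η.2 hη0' hη
    rw [smul_emb W (hUN hu)] at h1
    rw [← congrFun (emb_injective W h1) 1]
    simp only [map_one]
    exact ha 1
  haveI := Fintype.ofFinite (IrrCharacter W)
  obtain ⟨m, hm, hm'⟩ := Char.IsCharacter.decompose hφW
  have hφdeg : φW 1 = ((∑ η, m η : ℕ) : ℂ) * ((a : ℂ) * θW 1) := by
    rw [congrFun hm 1, Finset.sum_apply, Nat.cast_sum, Finset.sum_mul]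
    refine Finset.sum_congr rfl fun η _ => ?_
    rw [Pi.smul_apply, smul_eq_mul]
    rcases eq_or_ne (m η) 0 with h0 | h0
    · simp [h0]
    · rw [hdeg η (hover η (by rw [hm']; exact_mod_cast h0))]
  have heq : K.index * (∑ η, m η) * a = e := by
    have h1 : ((K.index * (∑ η, m η) * a : ℕ) : ℂ) * θ 1 = (e : ℂ) * θ 1 := by
      rw [← hdegχ, show φ 1 = φW 1 from rfl, hφdeg, show θW 1 = θ 1 from rfl]
      push_cast
      ring
    exact_mod_cast mul_right_cancel₀ hθ1 h1
  have hcount := over_count (Z.subgroupOf W) hθW hinvW hdeg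
  -- the orbit
  let Y : Set (CF H) :=
    (fun η : IrrCharacter W => emb W η) '' {η | Over (η : W → ℂ)}
  have hmemY : ∀ x ∈ N, x • emb W η0 ∈ Y := fun x hx => by
    rw [smul_emb W hx]
    exact ⟨⟨_, (hclosed x hx η0 η0.2 hη0').1⟩, (hclosed x hx η0 η0.2 hη0').2, rfl⟩
  have horb : MulAction.orbit U (emb W η0) = Y := by
    refine Set.Subset.antisymm ?_ ?_
    · rintro _ ⟨u, rfl⟩
      exact hmemY u (hUN u.2)
    · rintro _ ⟨η, hη, rfl⟩
      obtain ⟨u, hu, h1⟩ := htr η0 η η0.2 η.2 hη0' hη
      exact ⟨⟨u, hu⟩, h1⟩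
  have hYcard : Y.ncard = {η : IrrCharacter W | Over (η : W → ℂ)}.ncard :=
    Set.ncard_image_of_injective _ fun η η' h => Subtype.ext (emb_injective W h)
  have hfix : ∀ w ∈ W, w • emb W η0 = emb W η0 := fun w hw => by
    rw [smul_emb W (Subgroup.le_normalizer hw)]
    refine congrArg (emb W) (funext fun v => ?_)
    have h1 := Char.IsIrrCharacter.isClassFunction η0.2 v (⟨w, hw⟩⁻¹ : W)
    rw [inv_inv] at h1
    exact h1
  obtain ⟨j, hj, hj'⟩ : ∃ j ≤ K.index.factorization p, Y.ncard = p ^ j := by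
    refine (Nat.dvd_prime_pow hp).mp ?_
    rw [← horb, ← MulAction.index_stabilizer, ← hWUidx]
    exact Subgroup.index_dvd_of_le (H := W.subgroupOf U) fun u hu => hfix _ hu
  -- the arithmetic
  have hjeq : j = K.index.factorization p := by
    have h1 : Z.relIndex W * W.relIndex U = p ^ c := by
      rw [Subgroup.relIndex_mul_relIndex _ _ _ hZW hWU, hc]
    rw [show Z.relIndex W = (Z.subgroupOf W).index from rfl, ← hcount, ← hYcard, hj', hWUidx] at h1
    have hM : (∑ η, m η) ≠ 0 := fun h => he0 (by rw [← heq, h, mul_zero, zero_mul])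
    have ha0 : a ≠ 0 := fun h => he0 (by rw [← heq, h, mul_zero])
    have h2 := congrArg (fun t => t.factorization p) h1
    have h3 := congrArg (fun t => t.factorization p) heq
    rw [Nat.factorization_mul (mul_ne_zero (pow_ne_zero _ hp.ne_zero) (pow_ne_zero _ ha0))
      (pow_ne_zero _ hp.ne_zero), Nat.factorization_mul (pow_ne_zero _ hp.ne_zero) (pow_ne_zero _ ha0),
      Nat.Prime.factorization_pow hp, Nat.Prime.factorization_pow hp, Nat.Prime.factorization_pow hp,
      Nat.factorization_pow] at h2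
    rw [Nat.factorization_mul (mul_ne_zero Subgroup.index_ne_zero_of_finite hM) ha0,
      Nat.factorization_mul Subgroup.index_ne_zero_of_finite hM] at h3
    simp only [Finsupp.add_apply, Finsupp.smul_apply, smul_eq_mul, Finsupp.single_eq_same] at h2 h3
    omega
  refine exists_index_pow K N U W (emb W η0) (k := K.index.factorization p) hp Subgroup.le_normalizer
    hWK hNK hUN hfix (fun x hx => ?_) (by rw [horb, hj', hjeq]) hWKidx
  exact (horb.symm ▸ hmemY x hx : x • emb W η0 ∈ MulAction.orbit U (emb W η0)).elim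
    fun u hu => ⟨u, u.2, hu⟩

/-- Let χ be an irreducible character of the finite group H that is fully ramified over the normal subgroup Z: the restriction of χ to Z is e times an irreducible character of Z with e ^ 2 equal to the index of Z. If K is a proper normal subgroup of H containing Z and χ is induced from a character of K, then H/K is solvable; in particular, if K is solvable then so is H. -/
theorem result {H : Type*} [Group H] [Fintype H] (Z : Subgroup H) [Z.Normal] (χ : Cfsg.IrrCharacter H) (hfr : ∃ (θ : Cfsg.IrrCharacter ↥Z) (e : ℕ), e ^ 2 = Z.index ∧ ∀ z : ↥Z, (χ : H → ℂ) z = (e : ℂ) * (θ : ↥Z → ℂ) z) (K : Subgroup H) [K.Normal] [Fintype K] (hZK : Z ≤ K) (hK : K ≠ ⊤) (φ : ↥K → ℂ) (hφ : Cfsg.IsCharacter ↥K φ) (hind : Cfsg.indFun K φ = (χ : H → ℂ)) : Group.IsSolvable (H ⧸ K) ∧ (Group.IsSolvable ↥K → Group.IsSolvable H) := by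
  haveI := Fintype.ofFinite Z
  obtain ⟨θ, e, he, hres⟩ := hfr
  have h : Group.IsSolvable (H ⧸ K) := Solvable.isSolvable_of_complementSystem fun p hp =>
    exists_complement Z K hZK χ.2 θ.2 he hres hφ hind hp
  refine ⟨h, fun hKs => ?_⟩
  exact Group.isSolvable_of_ker_le_range K.subtype (QuotientGroup.mk' K) (by simp)

end Cfsg.Agent.S4563
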