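import Cfsg.Statements.S4564
import Cfsg.Agent.EqLemmas
import Cfsg.Agent.Lib.FullyRamified.Orbit
import Cfsg.Agent.Lib.StrongEmb.Basic

set_option autoImplicit false
open Cfsg

namespace Cfsg.Agent.S4564

/-- `|K : M ∩ K|` divides `|G : M|` for normal `K`. -/
theorem relIndex_dvd_index_of_normal_right {G : Type*} [Group G] [Finite G] (M K : Subgroup G)
    [K.Normal] : M.relIndex K ∣ M.index := by
  have h1 := Subgroup.relIndex_mul_relIndex ⊥ M (M ⊔ K) bot_le le_sup_left
  have h2 := Subgroup.relIndex_mul_relIndex ⊥ K (M ⊔ K) bot_le le_sup_right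
  have h3 := Subgroup.relIndex_mul_relIndex ⊥ (M ⊓ K) K bot_le inf_le_right
  have h4 := Subgroup.relIndex_mul_relIndex ⊥ (M ⊓ K) M bot_le inf_le_left
  rw [Subgroup.inf_relIndex_right] at h3
  rw [Subgroup.inf_relIndex_left] at h4
  rw [Subgroup.relIndex_sup_right] at h2
  have h5 : (⊥ : Subgroup G).relIndex M * M.relIndex (M ⊔ K) =
      (⊥ : Subgroup G).relIndex M * M.relIndex K := by
    rw [h1, ← h2, ← h3, ← h4]; ring
  rw [Subgroup.relIndex_bot_left] at h5
  rw [← Nat.eq_of_mul_eq_mul_left Nat.card_pos h5]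
  exact Subgroup.relIndex_dvd_index_of_le le_sup_left

/-- Let χ be an irreducible character of the finite group H that is fully ramified over the normal subgroup Z: the restriction of χ to Z is e times an irreducible character of Z with e ^ 2 equal to the index of Z. Let K be a normal subgroup of H containing Z and P a cyclic Sylow p-subgroup of H/K. Then P has a complement in H/K: a subgroup meeting P trivially whose product with P is the whole group. -/
theorem result {H : Type*} [Group H] [Finite H] (Z : Subgroup H) [Z.Normal] (χ : Cfsg.IrrCharacter H) (hfr : ∃ (θ : Cfsg.IrrCharacter ↥Z) (e : ℕ), e ^ 2 = Z.index ∧ ∀ z : ↥Z, (χ : H → ℂ) z = (e : ℂ) * (θ : ↥Z → ℂ) z) (K : Subgroup H) [K.Normal] (hZK : Z ≤ K) (p : ℕ) [Fact p.Prime] (P : Sylow p (H ⧸ K)) (hcyc : IsCyclic P) : ∃ M : Subgroup (H ⧸ K), M.IsComplement' (P : Subgroup (H ⧸ K)) := by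
  classical
  obtain ⟨⟨θ, hθ⟩, e, he, hres⟩ := hfr
  obtain ⟨χ, hχ⟩ := χ
  haveI := Fintype.ofFinite H
  haveI := Fintype.ofFinite Z
  have hp : p.Prime := Fact.out
  -- a Sylow subgroup of `H ⧸ Z` over `P`
  let g : H ⧸ Z →* H ⧸ K := QuotientGroup.map Z K (MonoidHom.id H) hZK
  have hg : Function.Surjective g := fun x => by
    obtain ⟨a, rfl⟩ := QuotientGroup.mk'_surjective K x
    exact ⟨QuotientGroup.mk' Z a, rfl⟩
  obtain ⟨S, rfl⟩ := Sylow.mapSurjective_surjective hg p P
  let mk := QuotientGroup.mk' Z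
  let Kb : Subgroup (H ⧸ Z) := K.map mk
  haveI hKb : Kb.Normal := Subgroup.Normal.map inferInstance mk (QuotientGroup.mk'_surjective Z)
  let R : Subgroup (H ⧸ Z) := (S : Subgroup (H ⧸ Z)) ⊓ Kb
  let U : Subgroup H := (S : Subgroup (H ⧸ Z)).comap mk
  let V : Subgroup H := U ⊓ K
  let N : Subgroup H := (Subgroup.normalizer (R : Set (H ⧸ Z))).comap mk
  have hUN : U ≤ N := fun u hu => by
    show mk u ∈ Subgroup.normalizer (R : Set (H ⧸ Z))
    rw [Subgroup.mem_normalizer_iff]
    intro y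
    exact and_congr (((Subgroup.mem_normalizer_iff.mp
      (Subgroup.le_normalizer (H := (S : Subgroup (H ⧸ Z))) hu)) y))
      ⟨fun h => hKb.conj_mem y h _, fun h => by
        have := hKb.conj_mem _ h (mk u)⁻¹
        simpa [mul_assoc] using this⟩
  have hZU : Z ≤ U := fun z hz => by
    show mk z ∈ (S : Subgroup (H ⧸ Z))
    rw [show mk z = 1 from (QuotientGroup.eq_one_iff z).mpr hz]
    exact Subgroup.one_mem _
  have hNV : ∀ n ∈ N, ∀ v ∈ V, n * v * n⁻¹ ∈ V := by
    intro n hn v hv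
    have h1 : mk v ∈ R := ⟨hv.1, Subgroup.mem_map_of_mem mk hv.2⟩
    have h2 := (Subgroup.mem_normalizer_iff.mp hn (mk v)).mp h1
    refine ⟨?_, Subgroup.Normal.conj_mem inferInstance v hv.2 n⟩
    show mk (n * v * n⁻¹) ∈ (S : Subgroup (H ⧸ Z))
    rw [map_mul, map_mul, map_inv]
    exact h2.1
  -- full ramification on `U`
  let Z' : Subgroup U := Z.comap U.subtype
  haveI := Fintype.ofFinite U
  haveI := Fintype.ofFinite Z'
  have hmapU : U.map mk = (S : Subgroup (H ⧸ Z)) :=
    Subgroup.map_comap_eq_self_of_surjective (QuotientGroup.mk'_surjective Z) _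
  obtain ⟨a, ha⟩ := IsPGroup.iff_card.mp S.isPGroup'
  obtain ⟨hθ', ψ, f, hψ, hf, hψres⟩ := FullyRamified.pullback hχ hθ he hres U.subtype
    U.subtype_injective (by rw [Subgroup.range_subtype]; exact hZU) hp (a := a) (by
      rw [Subgroup.index_comap, Subgroup.range_subtype, ← ha]
      conv_lhs => rw [show Z = (⊥ : Subgroup (H ⧸ Z)).comap mk from
        (QuotientGroup.ker_mk' Z).symm.trans (MonoidHom.comap_bot mk).symm]
      rw [Subgroup.relIndex_comap, hmapU, Subgroup.relIndex_bot_left]) (by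
      rw [Subgroup.range_subtype,
        Subgroup.index_comap_of_surjective _ (QuotientGroup.mk'_surjective Z)]
      exact S.not_dvd_index)
  let θ' : Z' → ℂ := fun z => θ ⟨U.subtype z, z.2⟩
  have huniq : ∀ φ : U → ℂ, IsIrrCharacter U φ → classInner (fun z : Z' => φ z) θ' ≠ 0 → φ = ψ :=
    fun φ hφ h => FullyRamified.eq_of_over hψ hθ' hf hψres hφ h
  let V' : Subgroup U := V.subgroupOf U
  haveI : V'.Normal := ⟨fun v hv u => hNV u (hUN u.2) v hv⟩
  haveI := Fintype.ofFinite V'
  have hZV : Z' ≤ V' := fun z hz => ⟨z.2, hZK hz⟩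
  let Z'' : Subgroup V' := Z'.subgroupOf V'
  haveI := Fintype.ofFinite Z''
  let eZ'' : Z'' ≃* Z' := Subgroup.subgroupOfEquivOfLe hZV
  let θ'' : Z'' → ℂ := fun z => θ' ⟨(z : V'), z.2⟩
  have hθ'' : IsIrrCharacter Z'' θ'' := Char.IsIrrCharacter.comp_equiv hθ' eZ''
  obtain ⟨⟨η, hη⟩, -, hover⟩ := FullyRamified.exists_over (G := V') (Z := Z'') (θ := θ'')
    (Char.IsCharacter.restrict (Char.IsIrrCharacter.isCharacter hψ) V') (by
      rw [show (fun z : Z'' => ψ ((z : V') : U)) = (f : ℂ) • θ'' from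
        funext fun z => hψres ⟨(z : V'), z.2⟩, Char.classInner_smul_left,
        Char.classInner_irr_self hθ'', mul_one]
      exact Nat.cast_ne_zero.mpr (FullyRamified.e_ne_zero hf))
  -- the cyclic quotient
  let q : U ⧸ V' →* (Sylow.mapSurjective hg S : Subgroup (H ⧸ K)) :=
    QuotientGroup.lift V' (MonoidHom.mk'
      (fun u : U => ⟨QuotientGroup.mk' K (u : H), ⟨mk u, u.2, rfl⟩⟩)
      (fun x y => Subtype.ext (map_mul (QuotientGroup.mk' K) (x : H) (y : H))))
      (fun x hx => Subtype.ext ((QuotientGroup.eq_one_iff (x : H)).mpr hx.2))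
  have hq : Function.Injective q := by
    rw [← MonoidHom.ker_eq_bot_iff, eq_bot_iff]
    intro x hx
    induction x using QuotientGroup.induction_on with
    | H x =>
      exact (QuotientGroup.eq_one_iff x).mpr ⟨x.2,
        (QuotientGroup.eq_one_iff (x : H)).mp (congrArg Subtype.val (MonoidHom.mem_ker.mp hx))⟩
  haveI hcycU : IsCyclic (U ⧸ V') := @isCyclic_of_injective _ _ _ _ hcyc q hq
  -- the stabiliser of `η` in `N`
  let M : Subgroup H :=
    { carrier := {n | n ∈ N ∧ ∀ v w : V', ((w : U) : H) = n * ((v : U) : H) * n⁻¹ → η w = η v}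
      one_mem' := ⟨N.one_mem, fun v w h => congrArg η (Subtype.ext (Subtype.ext (by simpa using h)))⟩
      mul_mem' := by
        rintro a b ⟨ha, ha'⟩ ⟨hb, hb'⟩
        refine ⟨N.mul_mem ha hb, fun v w h => ?_⟩
        have h1 := hNV b hb _ v.2
        refine (ha' ⟨⟨_, h1.1⟩, h1⟩ w ?_).trans (hb' v ⟨⟨_, h1.1⟩, h1⟩ rfl)
        simp [h, mul_assoc]
      inv_mem' := by
        rintro a ⟨ha, ha'⟩
        refine ⟨N.inv_mem ha, fun v w h => (ha' w v ?_).symm⟩
        rw [h]
        group }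
  have hMN : M ≤ N := fun n hn => hn.1
  have hVM : V ≤ M := fun x hx => by
    refine ⟨hUN hx.1, fun v w h => ?_⟩
    have h1 := Char.IsIrrCharacter.isClassFunction hη v (⟨⟨x, hx.1⟩, hx⟩ : V')
    rw [← h1]
    exact congrArg η (Subtype.ext (Subtype.ext (h.trans (by simp))))
  have hreg : ∀ u : U, (u : H) ∈ M → u ∈ V' := by
    intro u hu
    refine FullyRamified.stabilizer_le hZV hcycU hθ' huniq hη hover ?_
    funext v
    rw [CliffordChar.conjFun_apply]
    exact (hu.2 _ v (by simp [mul_assoc])).symm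
  have hprod : ∀ n ∈ N, ∃ u : U, (u : H)⁻¹ * n ∈ M := by
    intro n hn
    have hn1 : ∀ v : V', n⁻¹ * ((v : U) : H) * n ∈ V := fun v => by
      have := hNV n⁻¹ (N.inv_mem hn) _ v.2
      rwa [inv_inv] at this
    let c : V' ≃* V' :=
      { toFun := fun v => ⟨⟨_, (hn1 v).1⟩, hn1 v⟩
        invFun := fun v => ⟨⟨_, (hNV n hn _ v.2).1⟩, hNV n hn _ v.2⟩
        left_inv := fun v => Subtype.ext (Subtype.ext (by simp [mul_assoc]))
        right_inv := fun v => Subtype.ext (Subtype.ext (by simp [mul_assoc]))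
        map_mul' := fun x y => Subtype.ext (Subtype.ext (by simp [mul_assoc])) }
    have hη' : IsIrrCharacter V' (fun v => η (c v)) := Char.IsIrrCharacter.comp_equiv hη c
    let cz : Z'' ≃* Z'' :=
      { toFun := fun z => ⟨c z, show n⁻¹ * (((z : V') : U) : H) * n ∈ Z by
          simpa using Subgroup.Normal.conj_mem ‹Z.Normal› _ z.2 n⁻¹⟩
        invFun := fun z => ⟨c.symm z, show n * (((z : V') : U) : H) * n⁻¹ ∈ Z by
          exact Subgroup.Normal.conj_mem ‹Z.Normal› _ z.2 n⟩
        left_inv := fun z => Subtype.ext (c.symm_apply_apply _)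
        right_inv := fun z => Subtype.ext (c.apply_symm_apply _)
        map_mul' := fun x y => Subtype.ext (map_mul c _ _) }
    have hinv : ∀ z : Z'', θ'' (cz z) = θ'' z := fun z => by
      refine Eq.trans (congrArg θ (Subtype.ext ?_))
        (FullyRamified.invariant hχ he hres n⁻¹ ⟨((z : V') : U), z.2⟩)
      show n⁻¹ * (((z : V') : U) : H) * n = n⁻¹ * (((z : V') : U) : H) * n⁻¹⁻¹
      rw [inv_inv]
    have hover' : classInner (fun z : Z'' => η (c z)) θ'' ≠ 0 := by
      rw [show θ'' = fun z => θ'' (cz z) from funext fun z => (hinv z).symm]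
      exact fun h => hover ((Char.classInner_comp_equiv cz _ _).symm.trans h)
    obtain ⟨-, -, u, hu⟩ := FullyRamified.conj_transitive hZV hθ' huniq hη hη' hover hover'
    refine ⟨u, N.mul_mem (N.inv_mem (hUN u.2)) hn, fun v w h => ?_⟩
    have h2 : (u : H) * ((w : U) : H) * (u : H)⁻¹ ∈ V := hNV u (hUN u.2) _ w.2
    have h3 := congrFun hu ⟨⟨_, h2.1⟩, h2⟩
    rw [CliffordChar.conjFun_apply] at h3
    refine Eq.trans (congrArg η (Subtype.ext (Subtype.ext ?_))) (h3.trans (congrArg η ?_))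
    · simp [mul_assoc]
    · refine Subtype.ext (Subtype.ext ?_)
      show n⁻¹ * ((u : H) * ((w : U) : H) * (u : H)⁻¹) * n = _
      rw [h]
      group
  -- `N ⊓ K` fixes `η`
  have hK1 : N ⊓ K ≤ M := by
    let M' : Subgroup N := M.subgroupOf N
    let F : U ⧸ V' → N ⧸ M' := Quotient.lift
      (fun u : U => ((⟨u, hUN u.2⟩ : N) : N ⧸ M')) (fun x y h => by
        apply QuotientGroup.eq.mpr
        exact hVM (show ((x : H))⁻¹ * (y : H) ∈ V from (QuotientGroup.leftRel_apply (s := V')).mp h))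
    have hF : Function.Bijective F := by
      constructor
      · intro x y h
        induction x using QuotientGroup.induction_on with
        | H x =>
        induction y using QuotientGroup.induction_on with
        | H y => exact QuotientGroup.eq.mpr (hreg _ (QuotientGroup.eq.mp h :))
      · intro x
        induction x using QuotientGroup.induction_on with
        | H x =>
        obtain ⟨u, hu⟩ := hprod x x.2
        exact ⟨(u : U ⧸ V'), QuotientGroup.eq.mpr hu⟩
    have h1 : M'.index = Nat.card (U ⧸ V') := (Nat.card_congr (Equiv.ofBijective F hF)).symm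
    have h2 : M'.relIndex (K.subgroupOf N) ∣ Nat.card (Sylow.mapSurjective hg S : Subgroup (H ⧸ K)) :=
      (relIndex_dvd_index_of_normal_right M' _).trans (h1 ▸ Subgroup.card_dvd_of_injective q hq)
    have h3 : M'.relIndex (K.subgroupOf N) ∣ V.relIndex K := by
      refine (Subgroup.relIndex_dvd_of_le_left (H := V.subgroupOf N) _ fun x hx => hVM hx).trans ?_
      rw [← Subgroup.inf_relIndex_right (V.subgroupOf N)]
      rw [show V.subgroupOf N ⊓ K.subgroupOf N = (V ⊓ K).subgroupOf N from rfl,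
        Subgroup.subgroupOf, Subgroup.relIndex_comap, Subgroup.subgroupOf_map_subtype,
        inf_assoc, inf_idem]
      exact Dvd.intro _ (Subgroup.relIndex_mul_relIndex V (K ⊓ N) K
        (le_inf inf_le_right (inf_le_left.trans hUN)) inf_le_left)
    have h4 : ¬ p ∣ V.relIndex K := by
      rw [Subgroup.inf_relIndex_right, Subgroup.relIndex_comap]
      exact StrongEmb.not_dvd_relIndex_inf S Kb
    obtain ⟨b, hb⟩ := IsPGroup.iff_card.mp (Sylow.mapSurjective hg S).isPGroup'
    have h5 : M'.relIndex (K.subgroupOf N) = 1 := by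
      rw [hb] at h2
      obtain ⟨k, -, hk⟩ := (Nat.dvd_prime_pow hp).mp h2
      rcases k with _ | k
      · simpa using hk
      · exact absurd ((dvd_pow_self p k.succ_ne_zero).trans (hk ▸ h3)) h4
    intro x hx
    exact Subgroup.relIndex_eq_one.mp h5 (show (⟨x, hx.1⟩ : N) ∈ K.subgroupOf N from hx.2)
  -- assemble
  refine ⟨M.map (QuotientGroup.mk' K), Subgroup.isComplement'_of_disjoint_and_mul_eq_univ ?_ ?_⟩
  · rw [Subgroup.disjoint_def]
    rintro _ ⟨m, hm, rfl⟩ ⟨s, hs, hsm⟩
    obtain ⟨u, rfl⟩ := QuotientGroup.mk'_surjective Z s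
    have hu : u ∈ U := hs
    have h1 : m⁻¹ * u ∈ N ⊓ K := ⟨N.mul_mem (N.inv_mem (hMN hm)) (hUN hu), QuotientGroup.eq.mp hsm.symm⟩
    have h2 : u ∈ M := by simpa using M.mul_mem hm (hK1 h1)
    have h3 := hreg ⟨u, hu⟩ h2
    rw [← hsm]
    exact (QuotientGroup.eq_one_iff u).mpr h3.2
  · refine Set.eq_univ_of_forall fun x => ?_
    obtain ⟨h, rfl⟩ := QuotientGroup.mk'_surjective K x
    have hsup : Subgroup.normalizer (R : Set (H ⧸ Z)) ⊔ Kb = ⊤ :=
      StrongEmb.normalizer_inf_sup_eq_top S Kb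
    obtain ⟨y, hy, z, hz, hyz⟩ := Subgroup.mem_sup_of_normal_right.mp
      (hsup ▸ Subgroup.mem_top (mk h⁻¹) : mk h⁻¹ ∈ Subgroup.normalizer (R : Set (H ⧸ Z)) ⊔ Kb)
    obtain ⟨k, hk, rfl⟩ := hz
    have hn : h⁻¹ * k⁻¹ ∈ N := by
      show mk (h⁻¹ * k⁻¹) ∈ Subgroup.normalizer (R : Set (H ⧸ Z))
      rw [map_mul, ← hyz, map_inv, mul_inv_cancel_right]
      exact hy
    obtain ⟨u, hu⟩ := hprod _ hn
    refine Set.mem_mul.mpr ⟨_, Subgroup.mem_map_of_mem _ (M.inv_mem hu),
      QuotientGroup.mk' K ((u : H)⁻¹), ⟨mk ((u : H)⁻¹), U.inv_mem u.2, rfl⟩, ?_⟩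
    rw [← map_mul]
    refine QuotientGroup.eq.mpr ?_
    simpa [mul_assoc] using Subgroup.Normal.conj_mem ‹K.Normal› _ (K.inv_mem hk) h⁻¹

end Cfsg.Agent.S4564
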