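import Cfsg.Statements.S4565
import Cfsg.Agent.EqLemmas
import Cfsg.Agent.Lib.FullyRamified.Orbit

set_option autoImplicit false
open Cfsg

namespace Cfsg.Agent.S4565

open scoped ComplexConjugate

/-- Let χ be an irreducible character of the finite group H that is fully ramified over the normal subgroup Z: the restriction of χ to Z is e times an irreducible character of Z with e ^ 2 equal to the index of Z. If Z ≠ H, then H/Z has no cyclic subgroup that is its own centralizer. -/
theorem result {H : Type*} [Group H] [Finite H] (Z : Subgroup H) [Z.Normal] (χ : Cfsg.IrrCharacter H) (hfr : ∃ (θ : Cfsg.IrrCharacter ↥Z) (e : ℕ), e ^ 2 = Z.index ∧ ∀ z : ↥Z, (χ : H → ℂ) z = (e : ℂ) * (θ : ↥Z → ℂ) z) (hZ : Z ≠ ⊤) (C : Subgroup (H ⧸ Z)) (hC : IsCyclic C) : Subgroup.centralizer (C : Set (H ⧸ Z)) ≠ C := by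
  classical
  intro hcent
  obtain ⟨⟨θ, hθ⟩, e, he, hres⟩ := hfr
  obtain ⟨χ, hχ⟩ := χ
  haveI := Fintype.ofFinite H
  haveI := Fintype.ofFinite Z
  by_cases hbot : C = ⊥
  · apply hZ
    refine eq_top_iff.mpr fun g _ => (QuotientGroup.eq_one_iff g).mp ?_
    rw [← Subgroup.mem_bot, ← hbot, ← hcent, hbot, Subgroup.mem_centralizer_iff]
    intro y hy
    rw [SetLike.mem_coe, Subgroup.mem_bot] at hy
    rw [hy, one_mul, mul_one]
  obtain ⟨⟨c, hcC⟩, hgen⟩ := hC.exists_generator
  have hc1 : c ≠ 1 := by
    rintro rfl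
    apply hbot
    refine eq_bot_iff.mpr fun y hy => ?_
    obtain ⟨k, hk⟩ := Subgroup.mem_zpowers_iff.mp (hgen ⟨y, hy⟩)
    have := congrArg Subtype.val hk
    simp at this
    exact Subgroup.mem_bot.mpr this.symm
  obtain ⟨u0, hu0⟩ := QuotientGroup.mk'_surjective Z c
  let U : Subgroup H := C.comap (QuotientGroup.mk' Z)
  have hZU : Z ≤ U := fun z hz => by
    show QuotientGroup.mk' Z z ∈ C
    rw [QuotientGroup.mk'_apply, (QuotientGroup.eq_one_iff z).mpr hz]
    exact C.one_mem
  let Z' : Subgroup U := Z.subgroupOf U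
  haveI : Z'.Normal := inferInstanceAs (Z.subgroupOf U).Normal
  haveI := Fintype.ofFinite U
  haveI := Fintype.ofFinite Z'
  let eZ : Z' ≃* Z := Subgroup.subgroupOfEquivOfLe hZU
  let f : U ⧸ Z' →* C := QuotientGroup.lift Z' ((QuotientGroup.mk' Z).subgroupComap C)
    (fun x hx => Subtype.ext ((QuotientGroup.eq_one_iff (x : H)).mpr hx))
  have hf : Function.Injective f := by
    rw [← MonoidHom.ker_eq_bot_iff, eq_bot_iff]
    intro x hx
    induction x using QuotientGroup.induction_on with
    | H x =>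
      exact (QuotientGroup.eq_one_iff x).mpr
        ((QuotientGroup.eq_one_iff (x : H)).mp (congrArg Subtype.val (MonoidHom.mem_ker.mp hx)))
  haveI hcycU : IsCyclic (U ⧸ Z') := @isCyclic_of_injective _ _ _ _ hC f hf
  have hcomm : ∀ a b : U ⧸ Z', a * b = b * a := fun a b =>
    (IsCyclic.commGroup (α := U ⧸ Z')).mul_comm a b
  have hθ' : IsIrrCharacter Z' (fun z => θ (eZ z)) := Char.IsIrrCharacter.comp_equiv hθ eZ
  obtain ⟨φ, hφ, hφres⟩ := FullyRamified.exists_extension_of_cyclic hcycU hθ' (fun g z => by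
    refine Eq.trans (congrArg θ (Subtype.ext ?_)) (FullyRamified.invariant hχ he hres (g : H) (eZ z))
    rfl)
  have hφZ : IsIrrCharacter Z' (fun z : Z' => φ z) := by
    rw [show (fun z : Z' => φ z) = fun z => θ (eZ z) from funext hφres]; exact hθ'
  let q : U ⧸ Z' := ((⟨u0, show QuotientGroup.mk' Z u0 ∈ C by rw [hu0]; exact hcC⟩ : U) : U ⧸ Z')
  -- induced twists vanish off `Z`
  haveI := Fintype.ofFinite (IrrCharacter (U ⧸ Z'))
  have hvan : ∀ ω : IrrCharacter (U ⧸ Z'), ∀ g, g ∉ Z →
      indFun U (fun u => φ u * (ω : U ⧸ Z' → ℂ) u) g = 0 := by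
    intro ω g hg
    obtain ⟨l, hl⟩ := FullyRamified.exists_quotient_hom hcomm ω
    rw [show (fun u : U => φ u * (ω : U ⧸ Z' → ℂ) u) = fun u => φ u * l u from
      funext fun u => by rw [hl]]
    have hirr := Char.IsIrrCharacter.mul_linear hφ l
    have hlZ : ∀ z : Z', l z = 1 := fun z => by
      rw [hl, (QuotientGroup.eq_one_iff (z : U)).mpr z.2, ← QuotientGroup.mk_one, ← hl, map_one]
    haveI := Fintype.ofFinite (IrrCharacter H)
    obtain ⟨m, hm, hm'⟩ := Char.IsCharacter.decompose
      (Char.IsCharacter.indFun U (Char.IsIrrCharacter.isCharacter hirr))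
    rw [hm, Finset.sum_apply]
    refine Finset.sum_eq_zero fun ξ _ => ?_
    rw [Pi.smul_apply]
    by_cases hξ : m ξ = 0
    · rw [hξ, Nat.cast_zero, zero_smul]
    · have h1 : classInner (fun u : U => (ξ : H → ℂ) u) (fun u => φ u * l u) ≠ 0 := by
        intro h2
        apply hξ
        have h3 := hm' ξ
        rw [Char.frobenius_reciprocity U _ (Char.IsIrrCharacter.isClassFunction ξ.2),
          ← Char.classInner_conj_symm, h2, map_zero] at h3
        exact_mod_cast h3.symm
      have h2 := FullyRamified.over_of_constituent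
        (Char.IsCharacter.restrict (Char.IsIrrCharacter.isCharacter ξ.2) U)
        (Char.IsIrrCharacter.isCharacter hθ') ⟨_, hirr⟩ h1 (by
          show classInner (fun z : Z' => φ z * l z) (fun z => θ (eZ z)) ≠ 0
          rw [show (fun z : Z' => φ z * l z) = fun z => θ (eZ z) from
            funext fun z => by rw [hlZ, mul_one, hφres], Char.classInner_irr_self hθ']
          exact one_ne_zero)
      have h3 : classInner (fun z : Z => (ξ : H → ℂ) z) θ ≠ 0 := by
        rw [← Char.classInner_comp_equiv eZ]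
        exact h2
      rw [FullyRamified.eq_of_over hχ hθ he hres ξ.2 h3,
        FullyRamified.eq_zero_of_notMem hχ hθ he hres hg, smul_zero]
  -- hence the extension vanishes on the coset
  have hzero : ∀ u : U, (u : U ⧸ Z') = q → φ u = 0 := by
    intro u hu
    have huq : QuotientGroup.mk' Z (u : H) = c := by
      have := congrArg (fun x => ((f x : C) : H ⧸ Z)) hu
      exact this.trans hu0
    have huZ : (u : H) ∉ Z := fun h => hc1 (by
      rw [← huq, QuotientGroup.mk'_apply, (QuotientGroup.eq_one_iff _).mpr h])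
    let fU : U → ℂ := fun v => if (v : U ⧸ Z') = q then φ v else 0
    have hexp := congrArg (fun F => indFun U F (u : H)) (FullyRamified.coset_expansion hcomm φ q)
    simp only [Char.indFun_smul, Char.indFun_sum, Pi.smul_apply, Finset.sum_apply, smul_eq_mul] at hexp
    rw [Finset.sum_eq_zero (fun ω _ => by rw [hvan ω _ huZ, mul_zero]), mul_eq_zero] at hexp
    have h0 : indFun U fU (u : H) = 0 :=
      hexp.resolve_left (Nat.cast_ne_zero.mpr Z'.index_ne_zero_of_finite)
    have hval : ∀ x : H, extendByZero U fU (x⁻¹ * u * x) = if x ∈ U then φ u else 0 := by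
      intro x
      by_cases hx : x ∈ U
      · have hmem : x⁻¹ * (u : H) * x ∈ U := U.mul_mem (U.mul_mem (U.inv_mem hx) u.2) hx
        rw [Char.extendByZero_mem U fU hmem, if_pos hx]
        have e1 : (⟨x⁻¹ * (u : H) * x, hmem⟩ : U) = (⟨x, hx⟩ : U)⁻¹ * u * ⟨x, hx⟩ := rfl
        rw [e1]
        show (if _ = q then _ else _) = _
        rw [if_pos (by rw [QuotientGroup.mk_mul, QuotientGroup.mk_mul, hcomm, ← mul_assoc,
          ← QuotientGroup.mk_mul, mul_inv_cancel, QuotientGroup.mk_one, one_mul, hu])]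
        have h1 := Char.IsIrrCharacter.isClassFunction hφ u (⟨x, hx⟩⁻¹ : U)
        rwa [inv_inv] at h1
      · rw [if_neg hx]
        by_cases hmem : x⁻¹ * (u : H) * x ∈ U
        · rw [Char.extendByZero_mem U fU hmem]
          show (if _ = q then _ else _) = _
          rw [if_neg]
          intro hq
          apply hx
          show QuotientGroup.mk' Z x ∈ C
          rw [← hcent, Subgroup.mem_centralizer_iff]
          intro y hy
          have h1 : QuotientGroup.mk' Z (x⁻¹ * u * x) = c :=
            (congrArg (fun x => ((f x : C) : H ⧸ Z)) hq).trans hu0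
          rw [map_mul, map_mul, map_inv, huq, mul_assoc, inv_mul_eq_iff_eq_mul] at h1
          obtain ⟨k, hk⟩ := Subgroup.mem_zpowers_iff.mp (hgen ⟨y, hy⟩)
          have hk' : c ^ k = y := by simpa using congrArg Subtype.val hk
          rw [← hk']
          exact (Commute.zpow_left (show Commute c (QuotientGroup.mk' Z x) from h1) k).eq
        · exact Char.extendByZero_not_mem U fU hmem
    rw [indFun, Finset.sum_congr rfl (fun x _ => hval x), Finset.sum_ite, Finset.sum_const_zero,
      add_zero, Finset.sum_const, nsmul_eq_mul, mul_eq_zero] at h0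
    rcases h0 with h0 | h0
    · exact absurd h0 (inv_ne_zero (Nat.cast_ne_zero.mpr Nat.card_pos.ne'))
    · refine (mul_eq_zero.mp h0).resolve_left (Nat.cast_ne_zero.mpr ?_)
      exact Finset.card_ne_zero.mpr ⟨1, by simp [U.one_mem]⟩
  have h := FullyRamified.coset_sum_eq_card hcomm hφ hφZ q
  rw [Finset.sum_eq_zero (fun u hu => by
    rw [hzero u (Finset.mem_filter.mp hu).2, zero_mul])] at h
  exact Nat.card_pos.ne' (Nat.cast_eq_zero.mp h.symm)

end Cfsg.Agent.S4565
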