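import Cfsg.Statements.S4566
import Cfsg.Agent.Lib.Char.Linear
import Cfsg.Agent.Lib.CharApp.Schur

set_option autoImplicit false
open Cfsg

namespace Cfsg.Agent.S4566

/-- Let N be a central subgroup of the finite group G, ψ a faithful irreducible (hence degree-one) character of N, and χ an irreducible character of G whose restriction to N contains ψ. If g ∈ G and some x ∈ G has commutator x⁻¹ g⁻¹ x g in N but different from 1, then χ g = 0. -/
theorem result {G : Type*} [Group G] [Fintype G] (N : Subgroup G) [Fintype N] (hN : N ≤ Subgroup.center G) (ψ : Cfsg.IrrCharacter ↥N) (hfaith : ∀ n : ↥N, (ψ : ↥N → ℂ) n = (ψ : ↥N → ℂ) 1 → n = 1) (χ : Cfsg.IrrCharacter G) (hover : Cfsg.classInner (fun n : ↥N => (χ : G → ℂ) n) (ψ : ↥N → ℂ) ≠ 0) (g x : G) (hcomm : x⁻¹ * g⁻¹ * x * g ∈ N) (hne : x⁻¹ * g⁻¹ * x * g ≠ 1) : (χ : G → ℂ) g = 0 := by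
  have hcommN : ∀ a b : N, a * b = b * a :=
    fun a b => Subtype.ext (Subgroup.mem_center_iff.mp (hN b.2) a)
  obtain ⟨l, hl⟩ := Char.exists_hom_of_degree_one (Char.IsIrrCharacter.isCharacter ψ.2)
    (Char.apply_one_eq_one_of_comm hcommN ψ)
  obtain ⟨χ, d, ρ, hi, rfl⟩ := χ
  let n : N := ⟨x⁻¹ * g⁻¹ * x * g, hcomm⟩
  have hn : (n : G) ∈ Subgroup.center G := hN n.2
  obtain ⟨c, hc⟩ := CharApp.exists_scalar_of_mem_center ρ hn
  have hmul : ∀ y : G, ρ.character ((n : G) * y) = c * ρ.character y := by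
    intro y
    simp only [Representation.character, map_mul, hc, smul_mul_assoc, one_mul, map_smul, smul_eq_mul]
  have hc1 : c ≠ 1 := by
    rintro rfl
    apply hne
    have hlne : l n ≠ 1 := fun h => hne (congrArg Subtype.val (hfaith n (by
      rw [← hl]; simpa using h)))
    exfalso
    apply hlne
    have hsum : ∑ m : N, ρ.character (m : G) * (starRingEnd ℂ) (l m) =
        (starRingEnd ℂ) (l n) * ∑ m : N, ρ.character (m : G) * (starRingEnd ℂ) (l m) := by
      rw [Finset.mul_sum]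
      refine (Fintype.sum_equiv (Equiv.mulLeft n) _ _ fun m => ?_).symm
      simp only [Equiv.coe_mulLeft, map_mul, Subgroup.coe_mul, hmul, one_mul]
      ring
    have hne0 : ∑ m : N, ρ.character (m : G) * (starRingEnd ℂ) (l m) ≠ 0 := by
      intro h0
      apply hover
      simp only [Cfsg.classInner]
      rw [← hl, h0, mul_zero]
    have h1 := mul_eq_right₀ hne0 |>.mp hsum.symm
    simpa using congrArg (starRingEnd ℂ) h1
  have hg : x⁻¹ * g⁻¹ * x = (n : G) * g⁻¹ := by simp [n]
  have h1 : ρ.character g⁻¹ = c * ρ.character g⁻¹ := by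
    rw [← hmul, ← hg]
    simpa using (ρ.char_conj g⁻¹ x⁻¹).symm
  have h2 : ρ.character g⁻¹ = 0 :=
    (mul_eq_zero.mp (by linear_combination -h1 : (c - 1) * ρ.character g⁻¹ = 0)).resolve_left
      (sub_ne_zero.mpr hc1)
  rw [Char.character_inv] at h2
  simpa using h2

end Cfsg.Agent.S4566
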