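import Cfsg.Statements.S4567
import Cfsg.Agent.Lib.Char.Orth
import Cfsg.Agent.Lib.Char.Linear
import Cfsg.Agent.Lib.Char.Induced
import Cfsg.Agent.Lib.CharApp.Schur

set_option autoImplicit false
open Cfsg

namespace Cfsg.Agent.S4567

/-- Let N be a central subgroup of the finite group G and ψ a faithful irreducible (hence degree-one) character of N. Call a coset g N special when every x ∈ G whose commutator x⁻¹ g⁻¹ x g lies in N actually commutes with g (this depends only on the coset). Then the number of irreducible characters of G whose restriction to N contains ψ equals the number of conjugacy classes of G/N consisting of special cosets. -/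
theorem result {G : Type*} [Group G] [Fintype G] (N : Subgroup G) [N.Normal] [Fintype N] (hN : N ≤ Subgroup.center G) (ψ : Cfsg.IrrCharacter ↥N) (hfaith : ∀ n : ↥N, (ψ : ↥N → ℂ) n = (ψ : ↥N → ℂ) 1 → n = 1) : Nat.card {χ : Cfsg.IrrCharacter G // Cfsg.classInner (fun n : ↥N => (χ : G → ℂ) n) (ψ : ↥N → ℂ) ≠ 0} = Nat.card {C : ConjClasses (G ⧸ N) // ∃ g : G, ConjClasses.mk (g : G ⧸ N) = C ∧ ∀ x : G, x⁻¹ * g⁻¹ * x * g ∈ N → x * g = g * x} := by
  classical
  haveI := Fintype.ofFinite (IrrCharacter G)
  have hcommN : ∀ a b : N, a * b = b * a :=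
    fun a b => Subtype.ext (Subgroup.mem_center_iff.mp (hN b.2) a)
  obtain ⟨l, hl⟩ := Char.exists_hom_of_degree_one (Char.IsIrrCharacter.isCharacter ψ.2)
    (Char.apply_one_eq_one_of_comm hcommN ψ)
  have hl1 : ∀ n : N, l n = 1 → n = 1 := fun n hn => hfaith n (by rw [← hl]; simpa using hn)
  have hlnorm : ∀ n : N, (starRingEnd ℂ) (l n) * l n = 1 := fun n => by
    rw [← Char.IsCharacter.apply_inv (Char.isCharacter_of_hom l), ← map_mul, inv_mul_cancel, map_one]
  -- class functions transforming by `ψ` under `N`
  let F : Submodule ℂ (G → ℂ) :=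
    { carrier := {f | IsClassFunction G f ∧ ∀ (n : N) (g : G), f ((n : G) * g) = l n * f g}
      add_mem' := fun {a b} ha hb => ⟨Char.isClassFunction_add ha.1 hb.1, fun n g => by
        simp only [Pi.add_apply, ha.2 n g, hb.2 n g]; ring⟩
      zero_mem' := ⟨fun g h => rfl, fun n g => by simp⟩
      smul_mem' := fun c a ha => ⟨Char.isClassFunction_smul ha.1 c, fun n g => by
        simp only [Pi.smul_apply, smul_eq_mul, ha.2 n g]; ring⟩ }
  -- the scalar of `N` on an irreducible character
  have hscal : ∀ (χ : IrrCharacter G) (n : N), ∃ c : ℂ,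
      ∀ g : G, (χ : G → ℂ) ((n : G) * g) = c * (χ : G → ℂ) g := by
    intro χ n
    obtain ⟨χ, d, ρ, hi, rfl⟩ := χ
    obtain ⟨c, hc⟩ := CharApp.exists_scalar_of_mem_center ρ (hN n.2)
    refine ⟨c, fun g => ?_⟩
    simp only [Representation.character, map_mul, hc, smul_mul_assoc, one_mul, map_smul, smul_eq_mul]
  have hshift : ∀ (χ : IrrCharacter G), Cfsg.classInner (fun n : N => (χ : G → ℂ) n) (ψ : N → ℂ) ≠ 0 →
      (χ : G → ℂ) ∈ F := by
    intro χ hχ
    refine ⟨Char.IsIrrCharacter.isClassFunction χ.2, fun n g => ?_⟩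
    obtain ⟨c, hc⟩ := hscal χ n
    rw [hc]
    congr 1
    rw [← hl] at hχ
    have h1 : Cfsg.classInner (fun m : N => (χ : G → ℂ) m) l =
        c * (starRingEnd ℂ) (l n) * Cfsg.classInner (fun m : N => (χ : G → ℂ) m) l := by
      simp only [Cfsg.classInner]
      rw [mul_left_comm (c * _), Finset.mul_sum _ _ (c * _)]
      congr 1
      refine (Fintype.sum_equiv (Equiv.mulLeft n) _ _ fun m => ?_).symm
      simp only [Equiv.coe_mulLeft, Subgroup.coe_mul, hc, map_mul]
      ring
    have h2 := (mul_eq_right₀ hχ).mp h1.symm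
    calc c = c * ((starRingEnd ℂ) (l n) * l n) := by rw [hlnorm, mul_one]
      _ = (c * (starRingEnd ℂ) (l n)) * l n := by ring
      _ = l n := by rw [h2, one_mul]
  let T := {χ : Cfsg.IrrCharacter G //
    Cfsg.classInner (fun n : ↥N => (χ : G → ℂ) n) (ψ : ↥N → ℂ) ≠ 0}
  haveI : Fintype T := Fintype.ofFinite T
  let e1 : (T → ℂ) →ₗ[ℂ] F :=
    { toFun := fun c => ⟨∑ χ : T, c χ • ((χ.1 : G → ℂ)),
        Submodule.sum_mem _ fun χ _ => F.smul_mem _ (hshift χ.1 χ.2)⟩
      map_add' := fun a b => Subtype.ext (by simp [add_smul, Finset.sum_add_distrib])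
      map_smul' := fun a b => Subtype.ext (by simp [Finset.smul_sum, smul_smul]) }
  have he1 : Function.Bijective e1 := by
    constructor
    · intro a b hab
      funext χ
      have hco : ∀ c : T → ℂ, Cfsg.classInner ((e1 c : F) : G → ℂ) (χ.1 : G → ℂ) = c χ := by
        intro c
        show Cfsg.classInner (∑ χ : T, c χ • ((χ.1 : G → ℂ))) (χ.1 : G → ℂ) = c χ
        rw [Char.classInner_sum_left, Finset.sum_eq_single χ]
        · rw [Char.classInner_smul_left, Char.classInner_irr_self χ.1.2, mul_one]
        · intro φ _ hφ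
          rw [Char.classInner_smul_left,
            Char.classInner_irr_of_ne φ.1.2 χ.1.2 fun h => hφ (Subtype.ext (Subtype.ext h)), mul_zero]
        · exact fun h => absurd (Finset.mem_univ _) h
      rw [← hco a, ← hco b, hab]
    · rintro ⟨f, hf1, hf2⟩
      refine ⟨fun χ => Cfsg.classInner f (χ.1 : G → ℂ), Subtype.ext ?_⟩
      show ∑ χ : T, Cfsg.classInner f (χ.1 : G → ℂ) • ((χ.1 : G → ℂ)) = f
      conv_rhs => rw [Char.classFunction_eq_sum hf1]
      rw [← Finset.sum_subtype (Finset.univ.filter fun χ : IrrCharacter G =>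
        Cfsg.classInner (fun n : ↥N => (χ : G → ℂ) n) (ψ : ↥N → ℂ) ≠ 0) (by simp)
        (fun χ : IrrCharacter G => Cfsg.classInner f (χ : G → ℂ) • (χ : G → ℂ))]
      refine Finset.sum_filter_of_ne fun χ _ hne => ?_
      intro h0
      apply hne
      -- a function in `F` is orthogonal to characters not over `ψ`
      suffices h : Cfsg.classInner f (χ : G → ℂ) = 0 by rw [h, zero_smul]
      by_contra hfχ
      choose c hc using hscal χ
      have hcψ : ∀ n, c n = l n := by
        intro n
        have h1 : Cfsg.classInner f (χ : G → ℂ) =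
            l n * (starRingEnd ℂ) (c n) * Cfsg.classInner f (χ : G → ℂ) := by
          simp only [Cfsg.classInner]
          rw [mul_left_comm (l n * _), Finset.mul_sum _ _ (l n * _)]
          congr 1
          refine (Fintype.sum_equiv (Equiv.mulLeft (n : G)) _ _ fun g => ?_).symm
          simp only [Equiv.coe_mulLeft, hf2, hc, map_mul]
          ring
        have h2 := (mul_eq_right₀ hfχ).mp h1.symm
        have h3 : (starRingEnd ℂ) (c n) = (starRingEnd ℂ) (l n) := by
          calc (starRingEnd ℂ) (c n) = ((starRingEnd ℂ) (l n) * l n) * (starRingEnd ℂ) (c n) := by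
                rw [hlnorm, one_mul]
            _ = (starRingEnd ℂ) (l n) * (l n * (starRingEnd ℂ) (c n)) := by ring
            _ = _ := by rw [h2, mul_one]
        exact (starRingEnd ℂ).injective h3
      have hinner : Cfsg.classInner (fun n : ↥N => (χ : G → ℂ) n) (ψ : ↥N → ℂ) = (χ : G → ℂ) 1 := by
        rw [← hl]
        simp only [Cfsg.classInner]
        have hv : ∀ n : N, (χ : G → ℂ) (n : G) * (starRingEnd ℂ) (l n) = (χ : G → ℂ) 1 := fun n => by
          rw [← mul_one (n : G), hc, hcψ, mul_comm (l n), mul_assoc, mul_comm (l n), hlnorm, mul_one]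
        rw [Finset.sum_congr rfl fun n _ => hv n, Finset.sum_const, Finset.card_univ, nsmul_eq_mul,
          ← Nat.card_eq_fintype_card, ← mul_assoc,
          inv_mul_cancel₀ (Nat.cast_ne_zero.mpr Nat.card_pos.ne'), one_mul]
      exact Char.IsIrrCharacter.apply_one_ne_zero χ.2 (hinner ▸ h0)
  let S := {C : ConjClasses (G ⧸ N) //
    ∃ g : G, ConjClasses.mk (g : G ⧸ N) = C ∧ ∀ x : G, x⁻¹ * g⁻¹ * x * g ∈ N → x * g = g * x}
  haveI : Fintype S := Fintype.ofFinite S
  choose rep hrep hspec using fun C : S => C.2
  let e2 : F →ₗ[ℂ] (S → ℂ) :=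
    { toFun := fun f C => (f : G → ℂ) (rep C)
      map_add' := fun a b => rfl
      map_smul' := fun a b => rfl }
  have hclsmk : ∀ (C : S) (y : G), ConjClasses.mk (y : G ⧸ N) = C.1 →
      ∃ (n : N) (h : G), y = (n : G) * (h * rep C * h⁻¹) := by
    intro C y hy
    obtain ⟨q, hq⟩ := isConj_iff.mp (ConjClasses.mk_eq_mk_iff_isConj.mp ((hrep C).trans hy.symm))
    obtain ⟨h, rfl⟩ := QuotientGroup.mk'_surjective N q
    refine ⟨⟨y * (h * rep C * h⁻¹)⁻¹, ?_⟩, h, by simp only; group⟩
    apply (QuotientGroup.eq_one_iff _).mp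
    rw [QuotientGroup.mk_mul, ← hq, QuotientGroup.mk_inv, QuotientGroup.mk_mul, QuotientGroup.mk_mul,
      QuotientGroup.mk_inv]
    exact mul_inv_cancel _
  have he2 : Function.Bijective e2 := by
    constructor
    · intro a b hab
      apply Subtype.ext
      funext y
      by_cases hy : ∀ x : G, x⁻¹ * y⁻¹ * x * y ∈ N → x * y = y * x
      · obtain ⟨n, h, he⟩ := hclsmk ⟨_, y, rfl, hy⟩ y rfl
        rw [he, a.2.2, b.2.2, a.2.1, b.2.1]
        exact congrArg (l n * ·) (congrFun hab _)
      · push Not at hy
        obtain ⟨x, hx, hne⟩ := hy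
        have hzero : ∀ f ∈ F, (f : G → ℂ) y = 0 := by
          intro f hf
          let n : N := ⟨x⁻¹ * y⁻¹ * x * y, hx⟩
          have hc := Subgroup.mem_center_iff.mp (hN n.2)
          have he : x⁻¹ * y * x = ((n⁻¹ : N) : G) * y := by
            have h5 : x⁻¹ * y⁻¹ * x = (n : G) * y⁻¹ := by simp [n]
            have h6 := congrArg (·⁻¹) h5
            simp only [mul_inv_rev, inv_inv] at h6
            rw [Subgroup.coe_inv, ← Subgroup.mem_center_iff.mp (inv_mem (hN n.2)) y, ← h6]
            group
          have h1 : f y = l n⁻¹ * f y := by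
            rw [← hf.2, ← he]
            simpa using (hf.1 y x⁻¹).symm
          have hn1 : l n⁻¹ ≠ 1 := by
            intro h
            apply hne
            have h7 : n⁻¹ = 1 := hl1 _ h
            rw [h7, OneMemClass.coe_one, one_mul, mul_assoc, inv_mul_eq_iff_eq_mul] at he
            exact he.symm
          exact (mul_eq_zero.mp (by linear_combination -h1 : (l n⁻¹ - 1) * f y = 0)).resolve_left
            (sub_ne_zero.mpr hn1)
        rw [hzero _ a.2, hzero _ b.2]
    · intro v
      let E : G → ℂ := Cfsg.extendByZero N l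
      have hE : ∀ (n : N) (z : G), E ((n : G) * z) = l n * E z := by
        intro n z
        show Cfsg.extendByZero N l _ = l n * Cfsg.extendByZero N l z
        by_cases hz : z ∈ N
        · rw [Char.extendByZero_mem N _ (N.mul_mem n.2 hz), Char.extendByZero_mem N _ hz, ← map_mul]
          rfl
        · rw [Char.extendByZero_not_mem N _ hz, Char.extendByZero_not_mem N _ fun h => hz (by
            simpa using N.mul_mem (N.inv_mem n.2) h), mul_zero]
      have hEconj : ∀ z h : G, E (h * z * h⁻¹) = E z := by
        intro z h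
        show Cfsg.extendByZero N l _ = Cfsg.extendByZero N l z
        by_cases hz : z ∈ N
        · have e : h * z * h⁻¹ = z := by
            rw [Subgroup.mem_center_iff.mp (hN hz) h, mul_inv_cancel_right]
          rw [e]
        · rw [Char.extendByZero_not_mem N _ hz, Char.extendByZero_not_mem N _ fun hh => hz (by
            simpa [mul_assoc] using Subgroup.Normal.conj_mem ‹_› _ hh h⁻¹)]
      let δ : S → G → ℂ := fun C y => ∑ h : G, E ((h * rep C * h⁻¹)⁻¹ * y)
      have hδ : ∀ C, δ C ∈ F := by
        intro C
        refine ⟨fun y z => ?_, fun n y => ?_⟩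
        · simp only [δ]
          refine Fintype.sum_equiv (Equiv.mulLeft z⁻¹) _ _ fun h => ?_
          rw [← hEconj ((_ : G) * y) z]
          congr 1
          simp only [Equiv.coe_mulLeft]
          group
        · simp only [δ, Finset.mul_sum]
          refine Finset.sum_congr rfl fun h _ => ?_
          rw [← hE, ← mul_assoc, Subgroup.mem_center_iff.mp (hN n.2), mul_assoc]
      have hval : ∀ C D : S, δ C (rep D) =
          if C = D then (Nat.card (Subgroup.centralizer ({rep C} : Set G)) : ℂ) else 0 := by
        intro C D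
        by_cases hCD : C = D
        · subst hCD
          rw [if_pos rfl]
          have hterm : ∀ h : G, E ((h * rep C * h⁻¹)⁻¹ * rep C) =
              if h ∈ Subgroup.centralizer ({rep C} : Set G) then 1 else 0 := by
            intro h
            by_cases hh : h ∈ Subgroup.centralizer ({rep C} : Set G)
            · rw [if_pos hh, Subgroup.mem_centralizer_singleton_iff.mp hh, mul_inv_cancel_right,
                inv_mul_cancel]
              show Cfsg.extendByZero N l 1 = 1
              rw [Char.extendByZero_mem N _ N.one_mem]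
              exact map_one l
            · rw [if_neg hh]
              refine Char.extendByZero_not_mem N _ fun hmem => hh ?_
              have := hspec C h⁻¹ (by simpa [mul_assoc] using hmem)
              rw [Subgroup.mem_centralizer_singleton_iff]
              calc h * rep C = h * (rep C * h⁻¹) * h := by group
                _ = h * (h⁻¹ * rep C) * h := by rw [this]
                _ = rep C * h := by group
          simp only [δ]
          rw [Finset.sum_congr rfl fun h _ => hterm h, Finset.sum_boole, Nat.card_eq_fintype_card,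
            Fintype.card_subtype]
        · rw [if_neg hCD]
          refine Finset.sum_eq_zero fun h _ => Char.extendByZero_not_mem N _ fun hmem => hCD ?_
          apply Subtype.ext
          rw [← hrep C, ← hrep D, ConjClasses.mk_eq_mk_iff_isConj]
          refine isConj_iff.mpr ⟨(h : G ⧸ N), ?_⟩
          rw [← QuotientGroup.mk_inv, ← QuotientGroup.mk_mul, ← QuotientGroup.mk_mul]
          exact QuotientGroup.eq.mpr hmem
      refine ⟨⟨∑ C : S, (v C / (Nat.card (Subgroup.centralizer ({rep C} : Set G)) : ℂ)) • δ C,
        F.sum_mem fun C _ => F.smul_mem _ (hδ C)⟩, ?_⟩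
      funext D
      show (∑ C : S, (v C / (Nat.card (Subgroup.centralizer ({rep C} : Set G)) : ℂ)) • δ C) (rep D) = v D
      rw [Finset.sum_apply, Finset.sum_eq_single D]
      · rw [Pi.smul_apply, smul_eq_mul, hval, if_pos rfl]
        exact div_mul_cancel₀ _ (Nat.cast_ne_zero.mpr Nat.card_pos.ne')
      · intro C _ hC
        rw [Pi.smul_apply, smul_eq_mul, hval, if_neg hC, mul_zero]
      · exact fun h => absurd (Finset.mem_univ _) h
  have h := LinearEquiv.finrank_eq
    ((LinearEquiv.ofBijective e1 he1).trans (LinearEquiv.ofBijective e2 he2))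
  rw [Module.finrank_pi, Module.finrank_pi, ← Nat.card_eq_fintype_card, ← Nat.card_eq_fintype_card] at h
  exact h

end Cfsg.Agent.S4567
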