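import Cfsg.Statements.S4569
import Cfsg.Agent.EqLemmas
import Cfsg.Agent.Lib.StarMat.E16
import Cfsg.Agent.Lib.BrauerPairs.Integral
import Cfsg.Agent.Lib.BrauerPairs.PrincipalFusion
import Cfsg.Agent.Lib.BrauerPairs.PNilpotent

set_option autoImplicit false
open Cfsg

namespace Cfsg.Agent.S4569

/-- Let G be a finite group whose Sylow 2-subgroup P is elementary abelian of order 16, suppose the centralizer of P has index 9 in its normalizer, and let M be a maximal ideal of the algebraic integers containing 2. Then the principal 2-block contains exactly 16 irreducible characters and has 2-regular rank 9. -/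
theorem result {G : Type*} [Group G] [Finite G] (M : Ideal Cfsg.AlgInt) (hM : Cfsg.IsPModular 2 M) (P : Sylow 2 G) (hcard : Nat.card P = 16) (hel : ∀ x : P, x ^ 2 = 1) (he : (Subgroup.centralizer ((P : Subgroup G) : Set G)).relIndex (Subgroup.normalizer ((P : Subgroup G) : Set G)) = 9) : Nat.card (Cfsg.principalBlock M G) = 16 ∧ Cfsg.blockRank 2 (Cfsg.principalBlock M G) = 9 := by
  classical
  have : Fact (Nat.Prime 2) := ⟨Nat.prime_two⟩
  have := Fintype.ofFinite G
  have hint := BrauerPairs.integralPrincipal hM
  have hmax := BrauerPairs.isMaximalBrauerPair_principal hM hint P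
  have hexp : ∀ x ∈ (P : Subgroup G), x * x = 1 := fun x hx => by
    have h := congrArg Subtype.val (hel ⟨x, hx⟩)
    simpa [sq] using h
  have hstab : BrauerPairs.pairStab M (P : Subgroup G)
      (Cfsg.principalBlock M (Subgroup.centralizer ((P : Subgroup G) : Set G))) =
      Subgroup.normalizer ((P : Subgroup G) : Set G) := by
    ext y
    rw [BrauerPairs.mem_pairStab_iff hM hmax.1.1.2]
    exact ⟨fun h => h.1, fun h => ⟨h, BrauerPairs.stabilizes_principal _
      (BrauerPairs.mem_normalizer_centralizer h)⟩⟩
  refine E16Nine.main hM hmax hcard hexp (by rw [hstab]; exact he) ?_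
  intro v hv t ht htC htv h1
  have hQP : Subgroup.zpowers v ≤ (P : Subgroup G) := Subgroup.zpowers_le.2 hv
  have hle := BrauerPairs.subpairLE_principal hM hint P.2 hQP
  rw [LocalRank.lrank_eq hM hmax.1.1 hle] at h1
  have := Fintype.ofFinite (Subgroup.centralizer (Subgroup.zpowers v : Set G))
  have hcomp := BrauerPairs.complement_of_blockRank_principal hM
    (BrauerPairs.integralPrincipal hM) h1
  have hab := KleinDefect.abelian_of_mul_self hexp
  obtain ⟨P', e', hmax', hmap, hst, -⟩ := Watanabe.exists_down hM hmax hab hQP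
    BrauerPairs.isPBlock_principal hle
  have hnil := BrauerPairs.isNilpotentBlock_of_complement (M := M) hcomp hmax'.1.2.1
  rw [S4687.result 2 M hM _ P' e' hmax' fun x hx y hy => Subtype.ext
    (hab _ (hmap ▸ Subgroup.mem_map_of_mem _ hx) _ (hmap ▸ Subgroup.mem_map_of_mem _ hy))] at hnil
  have htH : t ∈ Subgroup.centralizer (Subgroup.zpowers v : Set G) :=
    SecondMain.mem_centralizer_zpowers_iff.2 (by
      show v * t = t * v
      conv_lhs => rw [← htv]
      group)
  have ht' := (BrauerPairs.mem_pairStab_iff hM hmax'.1.1.2).1 ((hst ⟨t, htH⟩).2 ht)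
  have h := hnil ⟨t, htH⟩ ht'.1 ht'.2
  rw [BrauerPairs.mem_centralizer_sub_iff, hmap] at h
  exact htC h

end Cfsg.Agent.S4569
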