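import Cfsg.Statements.S4570
import Cfsg.Agent.Lib.PrimeInertial.Regular
import Cfsg.Agent.S4569
-- import your own Cfsg.Agent.* helpers here

set_option autoImplicit false
open Cfsg

namespace Cfsg.Agent.S4570
open Cfsg Cfsg.Agent

/-- Let G be a finite group with a commutative Sylow 2-subgroup P and M a maximal ideal of the algebraic integers containing 2, and suppose some involution x of G has the property that the principal 2-block of its centralizer has 2-regular rank one. If P has order 8 then the principal 2-block of G contains exactly 8 irreducible characters, and if P has order 16 it contains 8 or 16. -/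
theorem result {G : Type*} [Group G] [Finite G] (M : Ideal Cfsg.AlgInt) (hM : Cfsg.IsPModular 2 M) (P : Sylow 2 G) (hab : IsMulCommutative P) (x : G) (hx : orderOf x = 2) (hl : Cfsg.blockRank 2 (Cfsg.principalBlock M ↥(Subgroup.centralizer ({x} : Set G))) = 1) : (Nat.card P = 8 → Nat.card (Cfsg.principalBlock M G) = 8) ∧ (Nat.card P = 16 → Nat.card (Cfsg.principalBlock M G) = 8 ∨ Nat.card (Cfsg.principalBlock M G) = 16) := by
  classical
  haveI : Fact (Nat.Prime 2) := ⟨Nat.prime_two⟩
  haveI := Fintype.ofFinite G
  haveI := Fintype.ofFinite (Subgroup.centralizer ({x} : Set G))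
  have hcomm : ∀ a ∈ (P : Subgroup G), ∀ b ∈ (P : Subgroup G), a * b = b * a := fun a ha b hb =>
    congrArg Subtype.val (hab.is_comm.comm (⟨a, ha⟩ : P) ⟨b, hb⟩)
  obtain ⟨y, hy⟩ := FrobSection.exists_rep P x
  rw [FrobSection.pp_eq_self ⟨1, by rw [hx]; rfl⟩] at hy
  obtain ⟨c, hc⟩ := isConj_iff.1 hy
  have hy2 : orderOf (y : G) = 2 := by rw [← hc, Involution.orderOf_conj, hx]
  have hyy : y * y = 1 := Subtype.ext (by
    show (y : G) * y = 1
    have h := pow_orderOf_eq_one (y : G)
    rwa [hy2, sq] at h)
  have hcompx := BrauerPairs.complement_of_blockRank_principal hM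
    (BrauerPairs.integralPrincipal hM) hl
  let f : Subgroup.centralizer ({(y : G)} : Set G) →* Subgroup.centralizer ({x} : Set G) :=
    { toFun := fun z => ⟨c⁻¹ * z * c, Subgroup.mem_centralizer_singleton_iff.2 (by
        have h : (z : G) * (c * x * c⁻¹) = c * x * c⁻¹ * (z : G) := by
          rw [hc]; exact Subgroup.mem_centralizer_singleton_iff.1 z.2
        calc c⁻¹ * (z : G) * c * x = c⁻¹ * ((z : G) * (c * x * c⁻¹)) * c := by group
          _ = c⁻¹ * (c * x * c⁻¹ * (z : G)) * c := by rw [h]
          _ = x * (c⁻¹ * (z : G) * c) := by group)⟩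
      map_one' := Subtype.ext (by simp)
      map_mul' := fun a b => Subtype.ext (by simp [mul_assoc]) }
  have hcomp := Transfer.hasNormalPComplement_of_injective hcompx f fun a b h =>
    Subtype.ext (mul_left_cancel (mul_right_cancel (congrArg Subtype.val h)))
  set C := Subgroup.centralizer ((P : Subgroup G) : Set G) with hC
  set N := Subgroup.normalizer ((P : Subgroup G) : Set G) with hN
  haveI : (C.subgroupOf N).Normal := PrimeInertial.centralizer_subgroupOf_normal P
  set e := C.relIndex N with he
  have hcardE : Nat.card (N ⧸ C.subgroupOf N) = e := (Subgroup.index_eq_card _).symm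
  have hPC : (P : Subgroup G) ≤ C := fun a ha => Subgroup.mem_centralizer_iff.2 fun b hb =>
    hcomm b hb a ha
  have hCN : C ≤ N := fun a ha => Subgroup.centralizer_le_normalizer _ ha
  have hodd : ¬ 2 ∣ e := fun h => P.not_dvd_index (by
    rw [← Subgroup.relIndex_mul_index (hPC.trans hCN),
      ← Subgroup.relIndex_mul_relIndex (P : Subgroup G) C N hPC hCN]
    exact (h.mul_left _).mul_right _)
  -- the regular orbit of `y`
  let T := {a : (P : Subgroup G) // a ≠ 1 ∧ a * a = 1}
  let φ : N ⧸ C.subgroupOf N → T := fun q =>
    ⟨⟨(q.out : G) * y * (q.out : G)⁻¹, (Subgroup.mem_normalizer_iff.1 q.out.2 y).1 y.2⟩,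
      fun h => by
        have h' : (q.out : G) * y * (q.out : G)⁻¹ = 1 := congrArg Subtype.val h
        rw [conj_eq_one_iff] at h'
        rw [h', orderOf_one] at hy2
        omega,
      Subtype.ext (by
        show (q.out : G) * y * (q.out : G)⁻¹ * ((q.out : G) * y * (q.out : G)⁻¹) = 1
        rw [show (q.out : G) * y * (q.out : G)⁻¹ * ((q.out : G) * y * (q.out : G)⁻¹) =
          (q.out : G) * ((y : G) * y) * (q.out : G)⁻¹ by group,
          show (y : G) * y = 1 from congrArg Subtype.val hyy]
        group)⟩
  have hφ : Function.Injective φ := by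
    intro a b h
    have h' : (a.out : G) * y * (a.out : G)⁻¹ = (b.out : G) * y * (b.out : G)⁻¹ :=
      congrArg (fun t : T => ((t.1 : (P : Subgroup G)) : G)) h
    have hmem := PrimeInertial.reg_of_complement hcomm y.2 hcomp
      (g := (a.out : G)⁻¹ * b.out) (mul_mem (inv_mem a.out.2) b.out.2) (by
      calc (a.out : G)⁻¹ * b.out * y * ((a.out : G)⁻¹ * b.out)⁻¹
          = (a.out : G)⁻¹ * ((b.out : G) * y * (b.out : G)⁻¹) * a.out := by group
        _ = y := by rw [← h']; group)
    rw [← a.out_eq, ← b.out_eq]
    exact QuotientGroup.eq.2 hmem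
  have hT : Nat.card T + 1 ≤ Nat.card P := by
    rw [← Finite.card_option]
    refine Nat.card_le_card_of_injective (fun o => o.elim 1 Subtype.val) ?_
    rintro (_ | a) (_ | b) h
    · rfl
    · exact absurd h.symm b.2.1
    · exact absurd h a.2.1
    · exact congrArg some (Subtype.ext h)
  have hbound : e + 1 ≤ Nat.card P := le_trans (Nat.add_le_add_right
    (hcardE ▸ Nat.card_le_card_of_injective φ hφ) 1) hT
  have he0 : e ≠ 0 := hcardE ▸ Nat.card_pos.ne'
  have key : (e = 1 → Nat.card (principalBlock M G) = Nat.card P) ∧
      (e.Prime → (Nat.card P = 8 → Nat.card (principalBlock M G) = 8) ∧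
        (Nat.card P = 16 →
          Nat.card (principalBlock M G) = 8 ∨ Nat.card (principalBlock M G) = 16)) := by
    refine ⟨fun h1 => PrimeInertial.card_of_trivial hM hcomm (Subgroup.relIndex_eq_one.1 h1),
      fun hp => ?_⟩
    obtain ⟨n, E⟩ := PrimeInertial.exists_cover P hab rfl hp
    obtain ⟨-, c', s, hc0, hs0, hPc, hk, -⟩ := E.invariants hM
    rw [hk]
    have h3 : 3 ≤ e := by
      have := hp.two_le
      omega
    have hes : e ≤ e * s := Nat.le_mul_of_pos_right _ hs0
    constructor <;> intro hP <;> rw [hP] at hPc
    · have hc8 : c' * 4 ≤ c' * (e * s + 1) := Nat.mul_le_mul_left c' (by omega)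
      rw [← hPc] at hc8
      have he8 : e ≤ 7 := by omega
      have hs8 : s ≤ 2 := by nlinarith
      have hc2 : c' ≤ 2 := by omega
      interval_cases e <;> interval_cases c' <;> interval_cases s <;> omega
    · have hc8 : c' * 4 ≤ c' * (e * s + 1) := Nat.mul_le_mul_left c' (by omega)
      rw [← hPc] at hc8
      have he8 : e ≤ 15 := by omega
      have hs8 : s ≤ 5 := by nlinarith
      have hc2 : c' ≤ 4 := by omega
      interval_cases e <;> interval_cases c' <;> interval_cases s <;> omega
  constructor
  · intro hP
    have he8 : e ≤ 7 := by omega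
    interval_cases he' : e
    all_goals first
      | omega
      | exact (key.1 rfl).trans hP
      | exact (key.2 (by norm_num)).1 hP
  · intro hP
    have he16 : e ≤ 15 := by omega
    by_cases hbig : e = 9 ∨ e = 15
    · have hel : ∀ a : P, a * a = 1 := by
        let Ω : Subgroup (P : Subgroup G) :=
          { carrier := {a | a * a = 1}
            one_mem' := one_mul 1
            mul_mem' := fun {a b} ha hb => by
              show a * b * (a * b) = 1
              have hba : b * a = a * b := Subtype.ext (hcomm _ b.2 _ a.2)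
              rw [show a * b * (a * b) = a * (b * a) * b by group, hba,
                show a * (a * b) * b = (a * a) * (b * b) by group]
              rw [show a * a = 1 from ha, show b * b = 1 from hb, one_mul]
            inv_mem' := fun {a} ha => by
              show a⁻¹ * a⁻¹ = 1
              rw [← mul_inv_rev, show a * a = 1 from ha, inv_one] }
        have hΩ : Nat.card T + 1 ≤ Nat.card Ω := by
          rw [← Finite.card_option]
          refine Nat.card_le_card_of_injective
            (fun o => o.elim 1 fun a => ⟨a.1, a.2.2⟩) ?_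
          rintro (_ | a) (_ | b) h
          · rfl
          · exact absurd (congrArg Subtype.val h).symm b.2.1
          · exact absurd (congrArg Subtype.val h) a.2.1
          · exact congrArg some (Subtype.ext (congrArg (fun z : Ω => (z : (P : Subgroup G))) h : a.1 = b.1))
        have hle : e + 1 ≤ Nat.card Ω := le_trans (Nat.add_le_add_right
          (hcardE ▸ Nat.card_le_card_of_injective φ hφ) 1) hΩ
        have hd : Nat.card Ω ∣ 16 := hP ▸ Subgroup.card_subgroup_dvd_card Ω
        have h16 : Nat.card Ω = 16 := by
          have hlt := Nat.le_of_dvd (by norm_num) hd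
          interval_cases h : Nat.card Ω <;> omega
        have htop : Ω = ⊤ := Subgroup.eq_top_of_card_eq _ (h16.trans hP.symm)
        exact fun a => (htop ▸ Subgroup.mem_top a : a ∈ Ω)
      rcases hbig with h9 | h15
      · exact Or.inr (S4569.result M hM P hP (fun a => by rw [sq]; exact hel a) h9).1
      · refine Or.inr ?_
        obtain ⟨a, ha⟩ := PrimeInertial.exists_generator_fifteen (hcardE.trans h15)
        obtain ⟨n, rfl⟩ := QuotientGroup.mk_surjective a
        have hbij : Function.Bijective φ :=
          (Nat.bijective_iff_injective_and_card φ).2 ⟨hφ, le_antisymm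
            (Nat.card_le_card_of_injective φ hφ) (by rw [hcardE, h15]; omega)⟩
        have hdvd : ∀ i : ℕ, ((n : G) ^ i) ∈ C → 15 ∣ i := fun i h => by
          rw [← ha]
          refine orderOf_dvd_of_pow_eq_one ?_
          rw [← QuotientGroup.mk_pow, QuotientGroup.eq_one_iff]
          exact h
        have hfree : ∀ ⦃v : G⦄, v ∈ (P : Subgroup G) → v ≠ 1 → ∀ ⦃i : ℕ⦄,
            (n : G) ^ i * v * ((n : G) ^ i)⁻¹ = v → 15 ∣ i := by
          intro v hv hv1 i hi
          obtain ⟨q, hq⟩ := hbij.2 ⟨⟨v, hv⟩, fun h => hv1 (congrArg Subtype.val h), hel _⟩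
          have hqv : (q.out : G) * y * (q.out : G)⁻¹ = v :=
            congrArg (fun t : T => ((t.1 : (P : Subgroup G)) : G)) hq
          have hmem := PrimeInertial.reg_of_complement hcomm y.2 hcomp
            (g := (q.out : G)⁻¹ * (n : G) ^ i * q.out)
            (mul_mem (mul_mem (inv_mem q.out.2) (pow_mem n.2 i)) q.out.2) (by
            calc (q.out : G)⁻¹ * (n : G) ^ i * q.out * y * ((q.out : G)⁻¹ * (n : G) ^ i * q.out)⁻¹
                = (q.out : G)⁻¹ * ((n : G) ^ i * ((q.out : G) * y * (q.out : G)⁻¹) *
                    ((n : G) ^ i)⁻¹) * q.out := by group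
              _ = y := by rw [hqv, hi, ← hqv]; group)
          refine hdvd i ?_
          have hmem' : q.out⁻¹ * n ^ i * q.out ∈ C.subgroupOf N := hmem
          have := (inferInstance : (C.subgroupOf N).Normal).conj_mem _ hmem' q.out
          rw [show q.out * (q.out⁻¹ * n ^ i * q.out) * q.out⁻¹ = n ^ i by group] at this
          exact this
        refine PrimeInertial.card_of_regular hM hcomm
          (fun v hv => congrArg Subtype.val (hel ⟨v, hv⟩)) hP (n := (n : G)) ?_
        refine ⟨by norm_num, by decide, ?_, hcomm, n.2, ?_, fun g hg => ?_, hfree⟩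
        · intro hbot
          have h1 : Nat.card (P : Subgroup G) = 1 := Subgroup.card_eq_one.2 hbot
          have h2 : Nat.card (P : Subgroup G) = 16 := hP
          omega
        · have h := pow_orderOf_eq_one (QuotientGroup.mk n : N ⧸ C.subgroupOf N)
          rw [ha, ← QuotientGroup.mk_pow, QuotientGroup.eq_one_iff] at h
          exact h
        · have htop : Subgroup.zpowers (QuotientGroup.mk n : N ⧸ C.subgroupOf N) = ⊤ :=
            Subgroup.eq_top_of_card_eq _ (by rw [Nat.card_zpowers, ha, hcardE, h15])
          obtain ⟨i, hi⟩ := (isOfFinOrder_of_finite _).mem_powers_iff_mem_zpowers.2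
            (htop ▸ Subgroup.mem_top (QuotientGroup.mk (⟨g, hg⟩ : N) : N ⧸ C.subgroupOf N))
          refine ⟨i % 15, Nat.mod_lt _ (by norm_num), ?_⟩
          have hi' : (QuotientGroup.mk (n ^ (i % 15)) : N ⧸ C.subgroupOf N) =
              QuotientGroup.mk (⟨g, hg⟩ : N) := by
            rw [QuotientGroup.mk_pow, ← ha, pow_mod_orderOf]
            exact hi
          have h' := QuotientGroup.eq.1 hi'
          exact h'
    · interval_cases he' : e
      all_goals first
        | omega
        | exact Or.inr ((key.1 rfl).trans hP)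
        | exact (key.2 (by norm_num)).2 hP

end Cfsg.Agent.S4570
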