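import Cfsg.Statements.S4611
import Cfsg.Agent.EqLemmas
import Cfsg.Agent.Lib.Blocks.NilOmega
import Cfsg.Agent.Lib.Solvable.Fitting
import Cfsg.Agent.Lib.CentralChar.Fixed

set_option autoImplicit false
open Cfsg

namespace Cfsg.Agent.S4611

/-- A character of the principal block is trivial on `O_{p'}`. -/
theorem apply_eq_of_mem_pPrimeCore {G : Type*} [Group G] [Finite G] {p : ℕ} [Fact p.Prime]
    {M : Ideal AlgInt} (hM : IsPModular p M) {χ : IrrCharacter G} (hχ : χ ∈ principalBlock M G)
    {n : G} (hn : n ∈ Cfsg.pPrimeCore p G) : (χ : G → ℂ) n = (χ : G → ℂ) 1 := by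
  classical
  haveI := Fintype.ofFinite G
  haveI := Fintype.ofFinite (ConjClasses G)
  let N := Cfsg.pPrimeCore p G
  haveI := Fintype.ofFinite N
  let z : G → ℂ := fun x => if x ∈ N then 1 else 0
  have hz : IsClassFunction G z := fun g h => by
    show (if _ then _ else _) = if _ then _ else _
    by_cases hg : g ∈ N
    · rw [if_pos hg, if_pos ((Cores.pPrimeCore_normal p G).conj_mem g hg h)]
    · rw [if_neg hg, if_neg]
      intro h1
      have h2 := (Cores.pPrimeCore_normal p G).conj_mem _ h1 h⁻¹
      exact hg (by simpa [mul_assoc] using h2)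
  have hdiff : MemLocalIdeal M (Blocks.omega (fun _ => (1 : ℂ)) z - Blocks.omega (χ : G → ℂ) z) := by
    have e1 := Blocks.omega_eq_sum_classes hz (⟨fun _ => 1, Char.isIrrCharacter_one⟩ : IrrCharacter G)
    have e2 := Blocks.omega_eq_sum_classes hz χ
    simp only at e1
    rw [e1, e2, ← Finset.sum_sub_distrib]
    refine Blocks.memI_sum hM _ fun q _ => ?_
    rw [← mul_sub]
    show MemLocalIdeal M ((if _ then _ else _) * _)
    split_ifs
    · rw [one_mul]; exact hχ _
    · rw [zero_mul]; exact Blocks.memI_zero hM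
  have hsum : ∀ f : G → ℂ, ∑ x, z x * f x = ∑ x : N, f x := fun f => by
    rw [← Finset.sum_subtype (Finset.univ.filter (· ∈ N)) (by simp) f, Finset.sum_filter]
    exact Finset.sum_congr rfl fun x _ => by
      show (if _ then _ else _) * _ = _
      split_ifs <;> simp
  obtain ⟨χf, d, ρ, hi, rfl⟩ := χ
  have hne : ∑ x : N, ρ.character (x : G) ≠ 0 := by
    intro h0
    rw [Blocks.omega_eq_sum, Blocks.omega_eq_sum, hsum, hsum, h0] at hdiff
    simp only [zero_div, sub_zero, div_one, Finset.sum_const, Finset.card_univ, nsmul_eq_mul,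
      mul_one] at hdiff
    rw [← Nat.card_eq_fintype_card, Blocks.memI_natCast hM] at hdiff
    exact Cores.not_dvd_card_pPrimeCore hdiff
  obtain ⟨v, hv0, hv⟩ := CentralChar.invariants_ne_bot_of_sum_ne_zero ρ N hne
  show ρ.character n = ρ.character 1
  simp only [Representation.character]
  rw [CentralChar.eq_one_of_normal_of_invariants ρ N hv0 hv hn, map_one ρ]

/-- If `C(O_p) ≤ O_p` every irreducible character is in the principal block. -/
theorem mem_principalBlock {G : Type*} [Group G] [Finite G] {p : ℕ} [Fact p.Prime]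
    {M : Ideal AlgInt} (hM : IsPModular p M)
    (hc : Subgroup.centralizer (Cfsg.pCore p G : Set G) ≤ Cfsg.pCore p G) (χ : IrrCharacter G) :
    χ ∈ principalBlock M G := by
  intro g
  let one : IrrCharacter G := ⟨fun _ => 1, Char.isIrrCharacter_one⟩
  show MemLocalIdeal M (centralChar (one : G → ℂ) g - centralChar (χ : G → ℂ) g)
  have hQ := Cores.isPGroup_pCore p G
  by_cases hg : g ∈ Cfsg.pCore p G
  · exact Blocks.memI_sub_trans hM (Blocks.centralChar_congr_of_mem hM hQ hg one)
      (Blocks.memI_sub_comm (Blocks.centralChar_congr_of_mem hM hQ hg χ))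
  · have h : ∀ x : G, IsConj g x → x ∉ Subgroup.centralizer (Cfsg.pCore p G : Set G) := by
      intro x hx hxC
      obtain ⟨c, hc'⟩ := isConj_iff.mp hx
      apply hg
      have h1 := (Cores.pCore_normal p G).conj_mem x (hc hxC) c⁻¹
      rw [← hc'] at h1
      simpa [mul_assoc] using h1
    exact Blocks.memI_sub hM (Blocks.memI_centralChar_of_forall_notMem hM hQ h one)
      (Blocks.memI_centralChar_of_forall_notMem hM hQ h χ)

/-- Inflation keeps the principal block. -/
theorem comp_mem_principalBlock {G : Type*} [Group G] [Finite G] {H : Type*} [Group H] [Finite H]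
    {p : ℕ} {M : Ideal AlgInt} (hM : IsPModular p M) (f : G →* H) (hf : Function.Surjective f)
    {ξ : IrrCharacter H} (hξ : ξ ∈ principalBlock M H) :
    SameBlock M (fun _ : G => (1 : ℂ)) (fun g => (ξ : H → ℂ) (f g)) := by
  intro g
  obtain ⟨k, hk⟩ : (Subgroup.centralizer ({f g} : Set H)).index ∣
      (Subgroup.centralizer ({g} : Set G)).index := by
    rw [← Subgroup.index_comap_of_surjective (Subgroup.centralizer ({f g} : Set H)) hf]
    refine Subgroup.index_dvd_of_le fun x hx => ?_
    rw [Subgroup.mem_comap, Subgroup.mem_centralizer_singleton_iff, ← map_mul, ← map_mul,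
      Subgroup.mem_centralizer_singleton_iff.mp hx]
  have h := Blocks.memI_mul_left hM (Blocks.memR_natCast hM k) (hξ (f g))
  refine (congrArg (MemLocalIdeal M) ?_).mp h
  simp only [centralChar, map_one]
  rw [hk]
  push_cast
  ring

/-- Let G be a finite solvable group and π a nonempty set of primes, each dividing the order of G; fix for each p in π a maximal ideal M p of the algebraic integers containing p. Then the only irreducible character lying in the principal p-block for every p in π is the principal character if and only if G is generated by the subgroups O_{p'}(G), p in π (the largest normal subgroups of order prime to p). -/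
theorem result {G : Type*} [Group G] [Finite G] [Group.IsSolvable G] (π : Set ℕ) (hπ : ∀ p ∈ π, p.Prime ∧ p ∣ Nat.card G) (hne : π.Nonempty) (M : ℕ → Ideal Cfsg.AlgInt) (hM : ∀ p ∈ π, Cfsg.IsPModular p (M p)) :
    (∀ χ : Cfsg.IrrCharacter G, (∀ p ∈ π, χ ∈ Cfsg.principalBlock (M p) G) → (χ : G → ℂ) = fun _ => 1) ↔
      ⨆ p ∈ π, Cfsg.pPrimeCore p G = ⊤ := by
  classical
  haveI := Fintype.ofFinite G
  let J : Subgroup G := ⨆ p ∈ π, Cfsg.pPrimeCore p G
  constructor
  · intro hall
    by_contra hJ
    haveI hJn : J.Normal := Subgroup.sSup_normal _ fun _ h => by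
      obtain ⟨p, rfl⟩ := h
      exact Subgroup.sSup_normal _ fun _ h => by
        obtain ⟨_, rfl⟩ := h
        exact Cores.pPrimeCore_normal p G
    obtain ⟨ω, hω⟩ : ∃ ω : IrrCharacter (G ⧸ J), (ω : G ⧸ J → ℂ) ≠ fun _ => 1 := by
      by_contra hh
      push Not at hh
      apply hJ
      refine eq_top_iff.mpr fun g _ => (QuotientGroup.eq_one_iff g).mp ?_
      obtain ⟨c, hc⟩ := isConj_iff.mp ((Char.isConj_iff_irr (g : G ⧸ J) 1).mpr fun χ => by rw [hh χ])
      rwa [conj_eq_one_iff] at hc
    have hirr := Char.IsIrrCharacter.comp_surjective ω.2 (QuotientGroup.mk' J)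
      (QuotientGroup.mk'_surjective J)
    apply hω
    funext x
    obtain ⟨g, rfl⟩ := QuotientGroup.mk'_surjective J x
    refine congrFun (hall ⟨_, hirr⟩ fun p hp => ?_) g
    haveI := Fact.mk (hπ p hp).1
    have hle : Cfsg.pPrimeCore p G ≤ J := le_iSup₂_of_le p hp le_rfl
    let q : G ⧸ Cfsg.pPrimeCore p G →* G ⧸ J :=
      QuotientGroup.map _ J (MonoidHom.id G) hle
    have hq : Function.Surjective q := fun y => by
      obtain ⟨a, rfl⟩ := QuotientGroup.mk'_surjective J y
      exact ⟨(a : G ⧸ Cfsg.pPrimeCore p G), rfl⟩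
    have hξ := mem_principalBlock (hM p hp)
      (Solvable.centralizer_pCore_le_of_isSolvable (Cores.pPrimeCore_quotient_self (G := G) p))
      ⟨_, Char.IsIrrCharacter.comp_surjective ω.2 q hq⟩
    exact comp_mem_principalBlock (hM p hp) (QuotientGroup.mk' _)
      (QuotientGroup.mk'_surjective (Cfsg.pPrimeCore p G)) hξ
  · intro hJ χ hχ
    obtain ⟨χf, d, ρ, hi, rfl⟩ := χ
    have hker : J ≤ ρ.asGroupHom.ker := by
      refine iSup₂_le fun p hp g hg => ?_
      haveI := Fact.mk (hπ p hp).1
      have h := apply_eq_of_mem_pPrimeCore (hM p hp) (hχ p hp) hg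
      simp only at h
      rw [Representation.char_one] at h
      exact Units.ext ((Char.character_eq_finrank_iff ρ g).mp h)
    have hconst : ∀ g : G, ρ.character g = (d : ℂ) := fun g => by
      have h : ρ g = 1 := congrArg Units.val
        (MonoidHom.mem_ker.mp (hker (show g ∈ J by rw [show J = ⊤ from hJ]; exact Subgroup.mem_top g)))
      simp [Representation.character, h]
    have h1 := Char.classInner_irr_self (show IsIrrCharacter G ρ.character from ⟨d, ρ, hi, rfl⟩)
    simp only [classInner, hconst, Complex.conj_natCast, Finset.sum_const, Finset.card_univ,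
      nsmul_eq_mul, ← Nat.card_eq_fintype_card] at h1
    rw [inv_mul_cancel_left₀ (Nat.cast_ne_zero.mpr Nat.card_pos.ne')] at h1
    have hd : d = 1 := Nat.eq_one_of_mul_eq_one_left (by exact_mod_cast h1)
    funext g
    show ρ.character g = 1
    rw [hconst, hd, Nat.cast_one]

end Cfsg.Agent.S4611
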