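import Cfsg.Statements.S4571
import Cfsg.Agent.EqLemmas
import Cfsg.Agent.S4611
import Cfsg.Agent.Lib.BrauerPairs.RegularOrth
import Cfsg.Agent.Lib.Blocks.Defect

set_option autoImplicit false
open Cfsg

namespace Cfsg.Agent.S4571

open scoped ComplexConjugate

/-- Let Q be a normal p-subgroup of the finite group G with G = Q·C_G(Q), and M a maximal ideal of the algebraic integers containing p. Then the principal p-blocks of G and of G/Q have the same p-regular rank (the same number of irreducible Brauer characters). -/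
theorem result {G : Type*} [Group G] [Finite G] (p : ℕ) [Fact p.Prime] (M : Ideal Cfsg.AlgInt) (hM : Cfsg.IsPModular p M) (Q : Subgroup G) [Q.Normal] (hQ : IsPGroup p Q) (hsup : Q ⊔ Subgroup.centralizer (Q : Set G) = ⊤) : Cfsg.blockRank p (Cfsg.principalBlock M G) = Cfsg.blockRank p (Cfsg.principalBlock M (G ⧸ Q)) := by
  classical
  haveI := Fintype.ofFinite G
  haveI := Fintype.ofFinite (G ⧸ Q)
  haveI := Fintype.ofFinite (IrrCharacter (G ⧸ Q))
  haveI := Fintype.ofFinite (ConjClasses (G ⧸ Q))
  have hp : p.Prime := Fact.out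
  let π : G →* G ⧸ Q := QuotientGroup.mk' Q
  have hπ : Function.Surjective π := QuotientGroup.mk'_surjective Q
  -- regular elements centralise `Q`
  have hC : ∀ g : G, ¬ p ∣ orderOf g → g ∈ Subgroup.centralizer (Q : Set G) := by
    intro g hg
    set C := Subgroup.centralizer (Q : Set G)
    haveI : C.Normal := inferInstance
    obtain ⟨q, hq, c, hc, hqc⟩ := Subgroup.mem_sup_of_normal_left.mp (hsup ▸ Subgroup.mem_top g : g ∈ Q ⊔ C)
    refine (QuotientGroup.eq_one_iff g).mp ?_
    obtain ⟨k, hk⟩ := hQ ⟨q, hq⟩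
    have hk' : QuotientGroup.mk' C g ^ p ^ k = 1 := by
      rw [← hqc, map_mul, show QuotientGroup.mk' C c = 1 from (QuotientGroup.eq_one_iff c).mpr hc,
        mul_one, ← map_pow, show q ^ p ^ k = 1 from congrArg Subtype.val hk, map_one]
    exact orderOf_eq_one_iff.mp (Nat.eq_one_of_dvd_coprimes
      (Nat.Coprime.pow_left k (hp.coprime_iff_not_dvd.mpr hg))
      (orderOf_dvd_of_pow_eq_one hk') (orderOf_map_dvd (QuotientGroup.mk' C) g))
  -- uniqueness of regular lifts
  have huniq : ∀ g g' : G, ¬ p ∣ orderOf g → ¬ p ∣ orderOf g' → π g = π g' → g = g' := by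
    intro g g' hg hg' h
    have hq : g⁻¹ * g' ∈ Q := QuotientGroup.eq.mp h
    obtain ⟨k, hk⟩ := hQ ⟨_, hq⟩
    have hcomm : Commute g (g⁻¹ * g') :=
      (Subgroup.mem_centralizer_iff.mp (hC g hg) _ hq).symm
    have hpow : g ^ p ^ k = g' ^ p ^ k := by
      conv_rhs => rw [← mul_inv_cancel_left g g']
      rw [hcomm.mul_pow, show (g⁻¹ * g') ^ p ^ k = 1 from congrArg Subtype.val hk, mul_one]
    have hb : ∀ a : G, ¬ p ∣ orderOf a → ∃ t : ℕ, ∀ b : G, orderOf b ∣ orderOf g * orderOf g' →
        (b ^ p ^ k) ^ t = b := by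
      intro a _
      have hcop : Nat.Coprime (p ^ k) (orderOf g * orderOf g') :=
        Nat.Coprime.pow_left k (Nat.Coprime.mul_right (hp.coprime_iff_not_dvd.mpr hg)
          (hp.coprime_iff_not_dvd.mpr hg'))
      rcases eq_or_ne (orderOf g * orderOf g') 1 with h1 | h1
      · exact ⟨0, fun b hb => by
          rw [h1, Nat.dvd_one, orderOf_eq_one_iff] at hb
          rw [hb, one_pow, one_pow]⟩
      · obtain ⟨t, -, ht⟩ := Nat.exists_mul_mod_eq_one_of_coprime hcop
          (lt_of_le_of_ne (Nat.mul_pos (orderOf_pos g) (orderOf_pos g')) (Ne.symm h1))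
        refine ⟨t, fun b hb => ?_⟩
        obtain ⟨w, hw⟩ := hb
        conv_lhs => rw [← pow_mul, ← Nat.div_add_mod (p ^ k * t) (orderOf g * orderOf g'), ht, pow_add,
          pow_one, pow_mul, hw, pow_mul, pow_orderOf_eq_one, one_pow, one_pow, one_mul]
    obtain ⟨t, ht⟩ := hb g hg
    rw [← ht g (dvd_mul_right _ _), hpow, ht g' (dvd_mul_left _ _)]
  have hlift : ∀ y : G ⧸ Q, ¬ p ∣ orderOf y → ∃ g : G, π g = y ∧ ¬ p ∣ orderOf g := by
    intro y hy
    obtain ⟨g, rfl⟩ := hπ y
    set m := orderOf (π g)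
    have hm : g ^ m ∈ Q := (QuotientGroup.eq_one_iff _).mp (by
      show π (g ^ m) = 1
      rw [map_pow, pow_orderOf_eq_one])
    obtain ⟨k, hk⟩ := hQ ⟨_, hm⟩
    have hk' : (g ^ m) ^ p ^ k = 1 := congrArg Subtype.val hk
    rcases eq_or_ne m 1 with h1 | h1
    · exact ⟨1, by rw [map_one, orderOf_eq_one_iff.mp h1], by simp [hp.ne_one]⟩
    obtain ⟨t, -, ht⟩ := Nat.exists_mul_mod_eq_one_of_coprime
      (Nat.Coprime.pow_left k (hp.coprime_iff_not_dvd.mpr hy))
      (lt_of_le_of_ne (orderOf_pos (π g)) (Ne.symm h1))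
    refine ⟨g ^ (p ^ k * t), ?_, fun h => hy (h.trans (orderOf_dvd_of_pow_eq_one ?_))⟩
    · rw [map_pow, ← pow_mod_orderOf, ht, pow_one]
    · rw [← pow_mul, show p ^ k * t * m = m * p ^ k * t by ring, pow_mul, pow_mul, hk', one_pow]
  have hreg : ∀ g : G, ¬ p ∣ orderOf g → ¬ p ∣ orderOf (π g) :=
    fun g hg h => hg (h.trans (orderOf_map_dvd π g))
  have hindex : ∀ g : G, ¬ p ∣ orderOf g → (Subgroup.centralizer ({g} : Set G)).index =
      (Subgroup.centralizer ({π g} : Set (G ⧸ Q))).index := by
    intro g hg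
    rw [← Subgroup.index_comap_of_surjective (Subgroup.centralizer ({π g} : Set (G ⧸ Q))) hπ]
    congr 1
    ext x
    rw [Subgroup.mem_comap, Subgroup.mem_centralizer_singleton_iff, Subgroup.mem_centralizer_singleton_iff]
    refine ⟨fun h => by rw [← map_mul, h, map_mul], fun h => ?_⟩
    have h1 : x * g * x⁻¹ = g := huniq _ _ (by
        rw [show x * g * x⁻¹ = MulAut.conj x g from rfl, MulEquiv.orderOf_eq]; exact hg) hg (by
        rw [map_mul, map_mul, map_inv, h, mul_inv_cancel_right])
    exact (mul_inv_eq_iff_eq_mul.mp h1)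
  -- the principal blocks correspond
  have hBbar : IsPBlock M (principalBlock M (G ⧸ Q)) := ⟨⟨_, Char.isIrrCharacter_one⟩, rfl⟩
  have hB : IsPBlock M (principalBlock M G) := ⟨⟨_, Char.isIrrCharacter_one⟩, rfl⟩
  let infl : IrrCharacter (G ⧸ Q) → IrrCharacter G :=
    fun φ => ⟨_, Char.IsIrrCharacter.comp_surjective φ.2 π hπ⟩
  have hinfl : ∀ φ, infl φ ∈ principalBlock M G ↔ φ ∈ principalBlock M (G ⧸ Q) := by
    intro φ
    refine ⟨fun h => ?_, fun h => S4611.comp_mem_principalBlock hM π hπ h⟩
    by_contra hφ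
    let one : IrrCharacter (G ⧸ Q) := ⟨fun _ => 1, Char.isIrrCharacter_one⟩
    set z := blockCoeff (principalBlock M (G ⧸ Q)) with hzdef
    have hz : IsClassFunction (G ⧸ Q) z := by
      rw [hzdef, Blocks.blockCoeff_eq_ofOmega]; exact Blocks.isClassFunction_ofOmega _
    have h1 : Blocks.omega (one : G ⧸ Q → ℂ) z = 1 := by
      rw [hzdef, Blocks.blockCoeff_eq_ofOmega, Blocks.omega_ofOmega,
        Blocks.blockInd_of_mem (show one ∈ principalBlock M (G ⧸ Q) from Blocks.sameBlock_refl hM _)]
    have h2 : Blocks.omega (φ : G ⧸ Q → ℂ) z = 0 := by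
      rw [hzdef, Blocks.blockCoeff_eq_ofOmega, Blocks.omega_ofOmega, Blocks.blockInd_of_notMem hφ]
    have h3 : MemLocalIdeal M (Blocks.omega (one : G ⧸ Q → ℂ) z - Blocks.omega (φ : G ⧸ Q → ℂ) z) := by
      rw [Blocks.omega_eq_sum_classes hz one, Blocks.omega_eq_sum_classes hz φ,
        ← Finset.sum_sub_distrib]
      refine Blocks.memI_sum hM _ fun c _ => ?_
      rw [← mul_sub]
      by_cases hc : p ∣ orderOf (Quotient.out c)
      · rw [hzdef, Blocks.blockCoeff_eq_ofOmega,
          Blocks.ofOmega_singular_eq_zero hM (Blocks.blockInd_mem_intRing hM hBbar) hc, zero_mul]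
        exact Blocks.memI_zero hM
      · refine Blocks.memI_mul_left hM (Blocks.memR_blockCoeff hM hBbar _) ?_
        obtain ⟨g, hg, hgreg⟩ := hlift _ hc
        have h4 : MemLocalIdeal M (centralChar (fun _ : G => (1 : ℂ)) g -
          centralChar (fun x => (φ : G ⧸ Q → ℂ) (π x)) g) := h g
        refine (congrArg (MemLocalIdeal M) ?_).mp h4
        simp only [centralChar, map_one, hindex g hgreg, hg, one]
    rw [h1, h2, sub_zero] at h3
    exact Blocks.not_memI_one hM h3
  -- transport of functions on regular elements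
  let Φ : (G ⧸ Q → ℂ) →ₗ[ℂ] (G → ℂ) :=
    { toFun := fun f => pRegularPart p (fun g => f (π g))
      map_add' := fun f f' => by
        funext g; simp only [pRegularPart, Pi.add_apply]; split_ifs <;> simp
      map_smul' := fun a f => by
        funext g; simp only [pRegularPart, Pi.smul_apply, RingHom.id_apply]; split_ifs <;> simp }
  have hΦval : ∀ (f : G ⧸ Q → ℂ) (g : G),
      Φ f g = if ¬ p ∣ orderOf g then f (π g) else 0 := fun _ _ => by
    simp only [Φ, LinearMap.coe_mk, AddHom.coe_mk]
    unfold pRegularPart IsPRegular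
    split_ifs <;> rfl
  set Wb := Submodule.span ℂ
    ((fun χ : IrrCharacter (G ⧸ Q) => pRegularPart p (χ : G ⧸ Q → ℂ)) '' principalBlock M (G ⧸ Q))
    with hWb
  have hΦreg : ∀ φ : IrrCharacter (G ⧸ Q),
      Φ (pRegularPart p (φ : G ⧸ Q → ℂ)) = pRegularPart p (infl φ : G → ℂ) := by
    intro φ
    funext g
    rw [hΦval]
    show _ = pRegularPart p (fun x => (φ : G ⧸ Q → ℂ) (π x)) g
    unfold pRegularPart IsPRegular
    by_cases hg : ¬ p ∣ orderOf g
    · rw [if_pos hg, if_pos hg, if_pos (hreg g hg)]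
    · rw [if_neg hg, if_neg hg]
  have hmap : Submodule.span ℂ ((fun χ : IrrCharacter G => pRegularPart p (χ : G → ℂ)) ''
      principalBlock M G) = Wb.map Φ := by
    refine le_antisymm (Submodule.span_le.mpr ?_) (Submodule.map_le_iff_le_comap.mpr
      (Submodule.span_le.mpr ?_))
    · rintro _ ⟨χ, hχ, rfl⟩
      -- the values of `χ` on regular elements, seen on `G ⧸ Q`
      let F : G ⧸ Q → ℂ := fun y =>
        if hy : ¬ p ∣ orderOf y then (χ : G → ℂ) (Classical.choose (hlift y hy)) else 0
      have hF : ∀ g, ¬ p ∣ orderOf g → F (π g) = (χ : G → ℂ) g := fun g hg => by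
        have hspec := Classical.choose_spec (hlift (π g) (hreg g hg))
        simp only [F, dif_pos (hreg g hg)]
        rw [huniq _ g hspec.2 hg hspec.1]
      have hFc : IsClassFunction (G ⧸ Q) F := by
        intro y h
        obtain ⟨a, rfl⟩ := hπ h
        by_cases hy : ¬ p ∣ orderOf y
        · obtain ⟨g, rfl, hg⟩ := hlift y hy
          rw [show π a * π g * (π a)⁻¹ = π (a * g * a⁻¹) by simp, hF g hg,
            hF _ (by rw [show a * g * a⁻¹ = MulAut.conj a g from rfl, MulEquiv.orderOf_eq]; exact hg)]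
          exact Char.IsIrrCharacter.isClassFunction χ.2 g a
        · simp only [F]
          rw [dif_neg hy, dif_neg]
          rwa [show π a * y * (π a)⁻¹ = MulAut.conj (π a) y from rfl, MulEquiv.orderOf_eq]
      have hΦF : Φ F = pRegularPart p (χ : G → ℂ) := by
        funext g
        rw [hΦval]
        unfold pRegularPart IsPRegular
        by_cases hg : ¬ p ∣ orderOf g
        · rw [if_pos hg, if_pos hg, hF g hg]
        · rw [if_neg hg, if_neg hg]
      refine ⟨F, ?_, hΦF⟩
      have hF' : pRegularPart p F = F := by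
        funext y
        unfold pRegularPart IsPRegular
        by_cases hy : ¬ p ∣ orderOf y
        · rw [if_pos hy]
        · simp only [F]; rw [if_neg hy, dif_neg hy]
      have hexp : F = ∑ φ : IrrCharacter (G ⧸ Q),
          classInner F (φ : G ⧸ Q → ℂ) • pRegularPart p (φ : G ⧸ Q → ℂ) := by
        conv_lhs => rw [← hF']; arg 2; rw [Char.classFunction_eq_sum hFc]
        funext y
        simp only [pRegularPart, Finset.sum_apply, Pi.smul_apply, smul_eq_mul]
        split_ifs <;> simp
      rw [SetLike.mem_coe, hexp]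
      refine Submodule.sum_mem _ fun φ _ => ?_
      by_cases hφ : φ ∈ principalBlock M (G ⧸ Q)
      · exact Submodule.smul_mem _ _ (Submodule.subset_span ⟨φ, hφ, rfl⟩)
      · rw [show classInner F (φ : G ⧸ Q → ℂ) = 0 from ?_, zero_smul]
        · exact zero_mem _
        have h0 := BrauerPairs.classInner_pRegularPart_eq_zero hM hB hχ
          (fun h => hφ ((hinfl φ).mp h))
        rw [← hΦF] at h0
        simp only [classInner, hΦval] at h0 ⊢
        have hsum : ∑ g : G, (if ¬ p ∣ orderOf g then F (π g) else 0) * conj ((φ : G ⧸ Q → ℂ) (π g)) =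
            ∑ y : G ⧸ Q, F y * conj ((φ : G ⧸ Q → ℂ) y) := by
          simp only [ite_mul, zero_mul]
          rw [← Finset.sum_filter]
          refine (Finset.sum_bij_ne_zero (fun g _ _ => π g) (fun _ _ _ => Finset.mem_univ _)
            (fun g hg _ g' hg' _ h => huniq g g' (Finset.mem_filter.mp hg).2
              (Finset.mem_filter.mp hg').2 h) (fun y _ hy => ?_) fun _ _ _ => rfl)
          have hyr : ¬ p ∣ orderOf y := fun h => hy (by simp only [F]; rw [dif_neg (not_not_intro h), zero_mul])
          obtain ⟨g, rfl, hg⟩ := hlift y hyr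
          exact ⟨g, Finset.mem_filter.mpr ⟨Finset.mem_univ _, hg⟩, hy, rfl⟩
        rw [show (infl φ : G → ℂ) = fun g => (φ : G ⧸ Q → ℂ) (π g) from rfl] at h0
        simp only [hsum] at h0
        rcases mul_eq_zero.mp h0 with h | h
        · exact absurd h (inv_ne_zero (Nat.cast_ne_zero.mpr Nat.card_pos.ne'))
        · rw [h, mul_zero]
    · rintro _ ⟨φ, hφ, rfl⟩
      rw [SetLike.mem_coe, Submodule.mem_comap, hΦreg]
      exact Submodule.subset_span ⟨infl φ, (hinfl φ).mpr hφ, rfl⟩
  have hsupp : ∀ f ∈ Wb, pRegularPart p f = f := by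
    intro f hf
    induction hf using Submodule.span_induction with
    | mem f hf =>
      obtain ⟨φ, -, rfl⟩ := hf
      funext y; simp only [pRegularPart]; split_ifs <;> rfl
    | zero => funext y; simp [pRegularPart]
    | add f g _ _ hf hg =>
      conv_rhs => rw [← hf, ← hg]
      funext y; simp only [pRegularPart, Pi.add_apply]; split_ifs <;> simp
    | smul a f _ hf =>
      conv_rhs => rw [← hf]
      funext y; simp only [pRegularPart, Pi.smul_apply]; split_ifs <;> simp
  have hinj : Function.Injective (Φ.comp Wb.subtype) := by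
    rw [← LinearMap.ker_eq_bot, Submodule.eq_bot_iff]
    rintro ⟨f, hf⟩ h0
    refine Subtype.ext (funext fun y => ?_)
    show f y = 0
    rw [← hsupp f hf]
    unfold pRegularPart IsPRegular
    by_cases hy : ¬ p ∣ orderOf y
    · obtain ⟨g, rfl, hg⟩ := hlift y hy
      rw [if_pos hy]
      have h := congrFun (LinearMap.mem_ker.mp h0) g
      rw [LinearMap.comp_apply, hΦval, if_pos hg] at h
      exact h
    · rw [if_neg hy]
  show Module.finrank ℂ _ = Module.finrank ℂ _
  rw [hmap, ← LinearMap.finrank_range_of_inj hinj, LinearMap.range_comp, Submodule.range_subtype]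

end Cfsg.Agent.S4571
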