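import Cfsg.Statements.S4574
import Cfsg.Agent.Lib.GaloisAvg.Basic
import Cfsg.Agent.Lib.Char.Eigen
import Cfsg.Agent.Lib.Char.Inner
import Cfsg.Agent.Lib.CharApp.Unitary

set_option autoImplicit false
open Cfsg

namespace Cfsg.Agent.S4574

/-- Let χ be an irreducible character of the finite group G, of degree d, and let Z(χ) be the set of elements g with |χ g| = d (the centre of χ). Then χ vanishes on at least (d ^ 2 - 1) · |Z(χ)| elements of G, with equality when every value |χ g| is 0, 1 or d. -/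
theorem result {G : Type*} [Group G] [Fintype G] [DecidableEq G] (χ : G → ℂ) (hχ : Cfsg.IsIrrCharacter G χ) : (Cfsg.charDegree χ ^ 2 - 1) * (Finset.univ.filter (fun g : G => ‖χ g‖ = (Cfsg.charDegree χ : ℝ))).card ≤ (Finset.univ.filter (fun g : G => χ g = 0)).card ∧ ((∀ g : G, ‖χ g‖ = 0 ∨ ‖χ g‖ = 1 ∨ ‖χ g‖ = (Cfsg.charDegree χ : ℝ)) → (Cfsg.charDegree χ ^ 2 - 1) * (Finset.univ.filter (fun g : G => ‖χ g‖ = (Cfsg.charDegree χ : ℝ))).card = (Finset.univ.filter (fun g : G => χ g = 0)).card) := by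
  obtain ⟨n, ρ, hi, rfl⟩ := hχ
  haveI := CharApp.nontrivial_of_irr ρ
  have hd1 : ρ.character 1 = (n : ℂ) := by rw [Representation.char_one, Module.finrank_fin_fun]
  have hd : Cfsg.charDegree ρ.character = n := by simp [Cfsg.charDegree, hd1]
  have hn : 0 < n := by
    have h := CharApp.finrank_pos_of_irr ρ
    rwa [Module.finrank_fin_fun] at h
  rw [hd]
  set d : ℝ := (n : ℝ) with hdR
  have hdpos : 0 < d := Nat.cast_pos.mpr hn
  set Z := Finset.univ.filter (fun g : G => ‖ρ.character g‖ = d) with hZdef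
  set Z0 := Finset.univ.filter (fun g : G => ρ.character g = 0) with hZ0def
  set O := Finset.univ.filter (fun g : G => ρ.character g ≠ 0 ∧ ‖ρ.character g‖ ≠ d) with hOdef
  have hcyc := GaloisAvg.cycloValued_character (Char.isCharacter_character ρ)
  have hScal : ∀ g : G, ‖ρ.character g‖ = d ↔ ∃ ω : ℂ, ρ g = ω • LinearMap.id := by
    intro g
    have := Char.norm_character_eq_iff ρ g
    rwa [Module.finrank_fin_fun] at this
  have hstable : ∀ g ∈ O, ∀ k : ℕ, k.Coprime (Nat.card G) → g ^ k ∈ O := by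
    intro g hg k hk
    simp only [hOdef, Finset.mem_filter, Finset.mem_univ, true_and] at hg ⊢
    refine ⟨fun h => hg.1 (hcyc.eq_zero_of_pow_eq_zero hk h), fun h => hg.2 ?_⟩
    obtain ⟨ω, hω⟩ := (hScal _).mp h
    obtain ⟨m, hm⟩ := exists_pow_eq_self_of_coprime (x := g) (n := k)
      (Nat.Coprime.coprime_dvd_right (orderOf_dvd_natCard g) hk)
    refine (hScal g).mpr ⟨ω ^ m, ?_⟩
    rw [← hm, map_pow ρ (g ^ k) m, hω, smul_pow]
    congr 1
    exact one_pow m
  have hineq : (O.card : ℝ) ≤ ∑ g ∈ O, ‖ρ.character g‖ ^ 2 :=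
    GaloisAvg.card_le_sum_norm_pow hcyc O hstable
      (fun g hg => ((Finset.mem_filter.mp hg).2).1) 2
  have hdisj1 : Disjoint Z Z0 := by
    rw [Finset.disjoint_filter]
    intro g _ h1 h2
    rw [h2, norm_zero] at h1
    exact hdpos.ne h1
  have hdisj2 : Disjoint (Z ∪ Z0) O := by
    rw [Finset.disjoint_left]
    intro g hg hO
    simp only [hZdef, hZ0def, hOdef, Finset.mem_union, Finset.mem_filter, Finset.mem_univ,
      true_and] at hg hO
    exact hg.elim hO.2 hO.1
  have huniv : Finset.univ = (Z ∪ Z0) ∪ O := by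
    ext g
    simp only [hZdef, hZ0def, hOdef, Finset.mem_union, Finset.mem_filter, Finset.mem_univ, true_and]
    tauto
  have hsum : d ^ 2 * Z.card + ∑ g ∈ O, ‖ρ.character g‖ ^ 2 =
      (Z.card : ℝ) + Z0.card + O.card := by
    have h1 := CharApp.sum_normSq_eq_card ρ
    simp only [Complex.normSq_eq_norm_sq] at h1
    have hZs : ∑ g ∈ Z, ‖ρ.character g‖ ^ 2 = d ^ 2 * Z.card := by
      rw [Finset.sum_congr rfl fun g hg => by rw [(Finset.mem_filter.mp hg).2], Finset.sum_const,
        nsmul_eq_mul, mul_comm]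
    have hZ0s : ∑ g ∈ Z0, ‖ρ.character g‖ ^ 2 = 0 :=
      Finset.sum_eq_zero fun g hg => by rw [(Finset.mem_filter.mp hg).2]; simp
    have hN : Nat.card G = Z.card + Z0.card + O.card := by
      rw [Nat.card_eq_fintype_card, ← Finset.card_univ, huniv, Finset.card_union_of_disjoint hdisj2,
        Finset.card_union_of_disjoint hdisj1]
    rw [huniv, Finset.sum_union hdisj2, Finset.sum_union hdisj1, hZs, hZ0s, add_zero, hN] at h1
    push_cast at h1
    exact h1
  have hnat : 1 ≤ n ^ 2 := Nat.one_le_pow _ _ hn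
  constructor
  · have : ((n ^ 2 - 1) * Z.card : ℝ) ≤ Z0.card := by
      rw [← hdR]; linarith
    exact_mod_cast (by push_cast [Nat.cast_sub hnat]; exact this :
      (((n ^ 2 - 1) * Z.card : ℕ) : ℝ) ≤ (Z0.card : ℝ))
  · intro hval
    have h2 : ∑ g ∈ O, ‖ρ.character g‖ ^ 2 = (O.card : ℝ) := by
      rw [Finset.sum_congr rfl fun g hg => ?_, Finset.sum_const, nsmul_eq_mul, mul_one]
      simp only [hOdef, Finset.mem_filter, Finset.mem_univ, true_and, ne_eq] at hg
      rcases hval g with h | h | h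
      · exact absurd (norm_eq_zero.mp h) hg.1
      · rw [h, one_pow]
      · exact absurd h hg.2
    rw [h2] at hsum
    have : ((n ^ 2 - 1) * Z.card : ℝ) = Z0.card := by
      rw [← hdR]; linarith
    exact_mod_cast (by push_cast [Nat.cast_sub hnat]; exact this :
      (((n ^ 2 - 1) * Z.card : ℕ) : ℝ) = (Z0.card : ℝ))

end Cfsg.Agent.S4574
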