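import Cfsg.Statements.S4575
import Cfsg.Agent.Lib.SecondMain.Major

set_option autoImplicit false
open Cfsg Cfsg.Agent.SecondMain

namespace Cfsg.Agent.S4575

/-- Let B be a 2-block of the finite group G (relative to a maximal ideal M of the algebraic integers containing 2) of defect d with defect group D. Let z be an element of D commuting with every element of D, and let b be a block of the centralizer of z with defect group D that induces B (a major subsection (z, b)). If the number of irreducible characters in B exceeds the 2-regular rank of b by at most three, then B contains at most 2 ^ d irreducible characters. -/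
theorem result {G : Type*} [Group G] [Finite G] (M : Ideal Cfsg.AlgInt) (hM : Cfsg.IsPModular 2 M) (B : Set (Cfsg.IrrCharacter G)) (hB : Cfsg.IsPBlock M B) (D : Subgroup G) (hD : Cfsg.IsDefectGroup 2 M B D) (z : G) (hzD : z ∈ D) (hzc : ∀ d ∈ D, d * z = z * d) (b : Set (Cfsg.IrrCharacter ↥(Subgroup.centralizer ({z} : Set G)))) (hb : Cfsg.IsInducedBlock M (Subgroup.centralizer ({z} : Set G)) b B) (hbD : Cfsg.IsDefectGroup 2 M b (D.subgroupOf (Subgroup.centralizer ({z} : Set G)))) (h : Nat.card B ≤ Cfsg.blockRank 2 b + 3) : Nat.card B ≤ 2 ^ Cfsg.blockDefect 2 B := by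
  classical
  have : Fact (Nat.Prime 2) := ⟨Nat.prime_two⟩
  have := Fintype.ofFinite G
  have := Fintype.ofFinite (Subgroup.centralizer ({z} : Set G))
  have := Fintype.ofFinite B
  have := Fintype.ofFinite b
  obtain ⟨hd, j, hj⟩ := blockDefect_eq_of_major hM hB hD hzD hzc hb.1 hbD
  obtain ⟨C, htr, -, -, hU⟩ := exists_contrib hM (x := z) (n := j)
    (by rw [hj]; exact pow_dvd_pow 2 j.le_succ)
    (fun _ => commute_iff_mem_centralizer_singleton) hB hb
  obtain ⟨φ, hφ, hφ0⟩ := exists_height_zero hM hB
  have h2 := C.card_le_of_corank hM (h := fun i : B => blockHeight 2 B ((i : IrrCharacter G) : G → ℂ))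
    (fun χ ψ => by simpa using hU hd χ ψ) (χ₀ := ⟨φ, hφ⟩) hφ0 htr
    (by rwa [← Nat.card_eq_fintype_card])
  rwa [Nat.card_eq_fintype_card, ← hd]

end Cfsg.Agent.S4575
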