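import Cfsg.Statements.S4580
import Cfsg.Agent.Lib.CentralChar.Gow
import Cfsg.Agent.Lib.CentralChar.Twist

set_option autoImplicit false
open Cfsg

namespace Cfsg.Agent.S4580

/-- Let N be a normal subgroup of the finite group G, M a maximal ideal of the algebraic integers containing 2, and θ a real-valued irreducible character of N of odd degree that extends to G (some irreducible character of G restricts to θ). Then θ has an extension to G lying in the principal 2-block of G. -/
theorem result {G : Type*} [Group G] [Finite G] (N : Subgroup G) [N.Normal] (M : Ideal Cfsg.AlgInt) (hM : Cfsg.IsPModular 2 M) (θ : Cfsg.IrrCharacter N) (hreal : ∀ n : N, ((θ : N → ℂ) n).im = 0) (hodd : Odd (Cfsg.charDegree (θ : N → ℂ))) (hext : ∃ η : Cfsg.IrrCharacter G, ∀ n : N, (η : G → ℂ) n = (θ : N → ℂ) n) :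
    ∃ η : Cfsg.IrrCharacter G, (∀ n : N, (η : G → ℂ) n = (θ : N → ℂ) n) ∧ η ∈ Cfsg.principalBlock M G := by
  classical
  haveI := Fintype.ofFinite G
  obtain ⟨η, hη⟩ := hext
  have hθirr : IsIrrCharacter N (fun x : N => (η : G → ℂ) x) := by
    rw [show (fun x : N => (η : G → ℂ) x) = (θ : N → ℂ) from funext hη]
    exact θ.2
  obtain ⟨c, hcN, hc⟩ := CentralChar.exists_linear_twist N η.2 (Char.IsIrrCharacter.conj η.2) hθirr
    (fun x => by rw [hη, Complex.conj_eq_iff_im]; exact hreal x)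
  obtain ⟨a, o, ho, hcard⟩ :=
    Nat.exists_eq_pow_mul_and_not_dvd (Nat.card_pos (α := G)).ne' 2 (by norm_num)
  obtain ⟨k, hk⟩ : ∃ k, o = 2 * k + 1 := ⟨o / 2, by omega⟩
  let ν : G →* ℂ := c ^ (k + 1)
  have hcc : ∀ g : G, c g * c g⁻¹ = 1 := fun g => by rw [← map_mul, mul_inv_cancel, map_one]
  refine ⟨⟨fun g => (η : G → ℂ) g * ν g, Char.IsIrrCharacter.mul_linear η.2 ν⟩, fun x => ?_, ?_⟩
  · show (η : G → ℂ) x * ν x = _
    rw [hη, MonoidHom.pow_apply, hcN _ x.2, one_pow, mul_one]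
  refine CentralChar.mem_principal_of_selfdual hM _ ?_ fun h => ?_
  · have h1 : (η : G → ℂ) 1 * ν 1 = (θ : N → ℂ) 1 := by
      rw [map_one, mul_one, ← hη 1]
      rfl
    show Odd ⌊((η : G → ℂ) 1 * ν 1).re⌋₊
    rw [h1]
    exact hodd
  · show MemLocalIdeal M ((η : G → ℂ) h⁻¹ * ν h⁻¹ - (η : G → ℂ) h * ν h)
    have hz : (c h⁻¹ ^ o) ^ 2 ^ a = 1 := by
      rw [← pow_mul, ← map_pow, show o * 2 ^ a = Nat.card G by rw [hcard]; ring, pow_card_eq_one',
        map_one]
    have hint : IsIntegral ℤ ((η : G → ℂ) h * ν h) :=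
      Char.IsCharacter.isIntegral
        (Char.IsIrrCharacter.isCharacter (Char.IsIrrCharacter.mul_linear η.2 ν)) h
    have key := Blocks.memI_mul_left hM (Blocks.memR_of_isIntegral hM hint)
      (CentralChar.memI_sub_one_of_pow_eq_one hM hz)
    rw [Char.IsCharacter.apply_inv (Char.IsIrrCharacter.isCharacter η.2) h, hc h]
    convert key using 1
    have e : c h * c h⁻¹ ^ (k + 1) = c h ^ (k + 1) * c h⁻¹ ^ o := by
      calc c h * c h⁻¹ ^ (k + 1) = (c h * c h⁻¹) ^ k * (c h * c h⁻¹ ^ (k + 1)) := by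
            rw [hcc, one_pow, one_mul]
        _ = c h ^ (k + 1) * c h⁻¹ ^ o := by
            rw [hk, mul_pow, show 2 * k + 1 = k + (k + 1) by omega, pow_add (c h⁻¹), pow_succ (c h)]
            ring
    simp only [ν, MonoidHom.pow_apply]
    linear_combination (η : G → ℂ) h * e

end Cfsg.Agent.S4580
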