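import Cfsg.Statements.S4582
import Cfsg.Agent.EqLemmas

set_option autoImplicit false
open Cfsg
open scoped commutatorElement

namespace Cfsg.Agent.S4582

variable {G : Type*} [Group G] [Finite G]

/-- If `H = N ⊔ P` and `n` ranges over `N`, transfer along a transversal inside `N`. -/
theorem transfer_eq_mul_pow {A : Type*} [CommGroup A] {P0 : Subgroup G} (N : Subgroup G) [N.Normal]
    (hcov : ∀ g : G, ∃ n ∈ N, n⁻¹ * g ∈ P0) (φ : P0 →* A) (x : P0) :
    ∃ b : A, (∀ p : ℕ, (∀ q : P0, (q : G) ∈ N → φ q ^ p = 1) → b ^ p = 1) ∧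
      φ.transfer (x : G) = b * φ x ^ P0.index := by
  classical
  have hc : ∀ q : G ⧸ P0, ∃ n ∈ N, (n : G ⧸ P0) = q := by
    intro q
    induction q using QuotientGroup.induction_on with
    | H g =>
      obtain ⟨n, hn, hm⟩ := hcov g
      exact ⟨n, hn, QuotientGroup.eq.mpr hm⟩
  choose f hfN hf using hc
  let T : P0.LeftTransversal := ⟨Set.range f, Subgroup.isComplement_range_left hf⟩
  have hT : ∀ q, ((T.2.leftQuotientEquiv q : G)) = f q :=
    Subgroup.IsComplement.leftQuotientEquiv_apply hf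
  letI := P0.fintypeQuotientOfFiniteIndex
  have hT2 : ∀ q, (((x : G) • T).2.leftQuotientEquiv q : G) = (x : G) * f ((x : G)⁻¹ • q) := by
    intro q
    rw [Subgroup.smul_apply_eq_smul_apply_inv_smul, hT, smul_eq_mul]
  have hm : ∀ q, (f q)⁻¹ * ((x : G) * f ((x : G)⁻¹ • q) * (x : G)⁻¹) ∈ P0 := by
    intro q
    have h1 : (f q)⁻¹ * ((x : G) * f ((x : G)⁻¹ • q)) ∈ P0 := by
      rw [← QuotientGroup.eq]
      change (f q : G ⧸ P0) = (x : G) • (f ((x : G)⁻¹ • q) : G ⧸ P0)
      rw [hf, hf, smul_inv_smul]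
    have h2 := P0.mul_mem h1 (P0.inv_mem x.2)
    simpa [mul_assoc] using h2
  refine ⟨∏ q, φ ⟨_, hm q⟩, ?_, ?_⟩
  · intro p hp
    rw [← Finset.prod_pow]
    refine Finset.prod_eq_one fun q _ => hp _ ?_
    exact N.mul_mem (N.inv_mem (hfN q)) (Subgroup.Normal.conj_mem ‹_› _ (hfN _) _)
  · rw [MonoidHom.transfer_def φ T]
    unfold Subgroup.leftTransversals.diff
    rw [Subgroup.index_eq_card, Nat.card_eq_fintype_card, ← Finset.card_univ, ← Finset.prod_const,
      ← Finset.prod_mul_distrib]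
    refine Finset.prod_congr rfl fun q _ => ?_
    rw [← map_mul]
    congr 1
    apply Subtype.ext
    simp only [Subgroup.coe_mul, hT, hT2]
    group


/-- Let N be a normal subgroup of the finite group G, P a Sylow 2-subgroup of G and Q = P ∩ N. Suppose that P/QP' and Q/Q' are elementary abelian (every square of an element of P lies in the subgroup generated by Q and the derived subgroup of P, and every square of an element of Q lies in the derived subgroup of Q), and that the commutator factor group N/N' has odd order. Then P/P' is elementary abelian. -/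
theorem result {G : Type*} [Group G] [Finite G] (N : Subgroup G) [N.Normal] (P : Sylow 2 G)
    (hP : ∀ x ∈ (P : Subgroup G), x ^ 2 ∈ ((P : Subgroup G) ⊓ N) ⊔ ⁅(P : Subgroup G), (P : Subgroup G)⁆)
    (hQ : ∀ x ∈ (P : Subgroup G) ⊓ N, x ^ 2 ∈ ⁅(P : Subgroup G) ⊓ N, (P : Subgroup G) ⊓ N⁆)
    (hodd : Odd (Nat.card (Abelianization N))) :
    ∀ x ∈ (P : Subgroup G), x ^ 2 ∈ ⁅(P : Subgroup G), (P : Subgroup G)⁆ := by
  classical
  let H : Subgroup G := N ⊔ (P : Subgroup G)
  have hPH : (P : Subgroup G) ≤ H := le_sup_right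
  let P0 : Subgroup H := (P : Subgroup G).subgroupOf H
  let N0 : Subgroup H := N.subgroupOf H
  haveI : N0.Normal := inferInstanceAs (N.subgroupOf H).Normal
  let e : P0 ≃* (P : Subgroup G) := Subgroup.subgroupOfEquivOfLe hPH
  let φ : P0 →* Abelianization (P : Subgroup G) := Abelianization.of.comp e.toMonoidHom
  have hcov : ∀ g : H, ∃ n ∈ N0, n⁻¹ * g ∈ P0 := by
    intro g
    obtain ⟨n, hn, q, hq, hnq⟩ := Subgroup.mem_sup_of_normal_left.mp g.2
    refine ⟨⟨n, le_sup_left (a := N) hn⟩, hn, ?_⟩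
    show n⁻¹ * (g : G) ∈ (P : Subgroup G)
    rw [← hnq, inv_mul_cancel_left]
    exact hq
  have hpow : ∀ a : Abelianization (P : Subgroup G), ∃ k : ℕ, orderOf a = 2 ^ k := by
    intro a
    obtain ⟨g, rfl⟩ := QuotientGroup.mk'_surjective _ a
    exact IsPGroup.iff_orderOf.mp (P.isPGroup'.of_surjective _ (QuotientGroup.mk'_surjective _)) _
  let V : H →* Abelianization (P : Subgroup G) := φ.transfer
  have hVN : ∀ (n : G) (hn : n ∈ N), V ⟨n, le_sup_left (a := N) hn⟩ = 1 := by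
    intro n hn
    let W : Abelianization N →* Abelianization (P : Subgroup G) :=
      Abelianization.lift (V.comp (Subgroup.inclusion (le_sup_left : N ≤ H)))
    have h1 : orderOf (W (Abelianization.of ⟨n, hn⟩)) ∣ Nat.card (Abelianization N) :=
      (orderOf_map_dvd _ _).trans (orderOf_dvd_natCard _)
    obtain ⟨k, hk⟩ := hpow (W (Abelianization.of ⟨n, hn⟩))
    have h2 : orderOf (W (Abelianization.of ⟨n, hn⟩)) = 1 := by
      have := Nat.Coprime.pow_left k (Nat.coprime_two_left.mpr hodd)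
      rw [← hk] at this
      exact this.eq_one_of_dvd h1
    exact orderOf_eq_one_iff.mp h2
  have hker : ((P : Subgroup G) ⊓ N) ⊔ ⁅(P : Subgroup G), (P : Subgroup G)⁆ ≤ V.ker.map H.subtype := by
    refine sup_le (fun y hy => ⟨⟨y, le_sup_left (a := N) hy.2⟩, hVN y hy.2, rfl⟩) ?_
    rw [Subgroup.commutator_le]
    intro a ha b hb
    refine ⟨⁅(⟨a, hPH ha⟩ : H), ⟨b, hPH hb⟩⁆, ?_, rfl⟩
    rw [SetLike.mem_coe, MonoidHom.mem_ker, map_commutatorElement, commutatorElement_eq_one_iff_mul_comm]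
    exact mul_comm _ _
  have hind : Odd P0.index := by
    have h1 : ¬ 2 ∣ (P : Subgroup G).index := P.not_dvd_index
    have h2 : P0.index ∣ (P : Subgroup G).index := Subgroup.relIndex_dvd_index_of_le hPH
    rw [Nat.odd_iff]
    rcases Nat.mod_two_eq_zero_or_one P0.index with h | h
    · exact absurd ((Nat.dvd_of_mod_eq_zero h).trans h2) h1
    · exact h
  intro x hx
  let x0 : P0 := ⟨⟨x, hPH hx⟩, hx⟩
  obtain ⟨b, hb, hV⟩ := transfer_eq_mul_pow N0 hcov φ x0
  have hb2 : b ^ 2 = 1 := by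
    refine hb 2 fun q hq => ?_
    rw [← map_pow]
    show Abelianization.of (e (q ^ 2)) = 1
    apply (QuotientGroup.eq_one_iff _).mpr
    have hmem : ((e (q ^ 2) : (P : Subgroup G)) : G) ∈ ⁅(P : Subgroup G), (P : Subgroup G)⁆ :=
      Subgroup.commutator_mono inf_le_left inf_le_left (hQ _ ⟨q.2, hq⟩)
    rw [← Subgroup.map_subtype_commutator] at hmem
    obtain ⟨z, hz, hze⟩ := hmem
    rwa [Subtype.ext hze] at hz
  have hx2 : V (⟨x, hPH hx⟩ ^ 2) = 1 := by
    obtain ⟨z, hz, hze⟩ := hker (hP x hx)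
    have : z = (⟨x, hPH hx⟩ : H) ^ 2 := Subtype.ext hze
    rw [← this]
    exact hz
  rw [map_pow, show V ⟨x, hPH hx⟩ = _ from hV, mul_pow, hb2, one_mul, ← pow_mul, mul_comm, pow_mul] at hx2
  have h3 : φ x0 ^ 2 = 1 := by
    obtain ⟨k, hk⟩ := hpow (φ x0 ^ 2)
    have h4 : orderOf (φ x0 ^ 2) ∣ P0.index := orderOf_dvd_of_pow_eq_one hx2
    have h5 := Nat.Coprime.pow_left k (Nat.coprime_two_left.mpr hind)
    rw [← hk] at h5
    exact orderOf_eq_one_iff.mp (h5.eq_one_of_dvd h4)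
  rw [← Subgroup.map_subtype_commutator]
  refine ⟨(⟨x, hx⟩ : (P : Subgroup G)) ^ 2, ?_, rfl⟩
  apply (QuotientGroup.eq_one_iff _).mp
  exact h3

end Cfsg.Agent.S4582
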