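import Cfsg.Statements.S4583
import Cfsg.Agent.EqLemmas
import Cfsg.Agent.Lib.SylowSum.Basic
import Cfsg.Agent.Lib.StrongEmb.Basic
import Cfsg.Agent.Lib.FullyRamified.Orbit

set_option autoImplicit false
open Cfsg

namespace Cfsg.Agent.S4583

/-- Let N be a normal subgroup of the finite group G, p a prime, M a maximal ideal of the algebraic integers containing p, and P a Sylow p-subgroup of G. Let θ be an irreducible character of N of degree prime to p lying in the principal p-block of N, and suppose θ extends to the subgroup NP (some irreducible character of NP restricts to θ). Then some irreducible character χ of G of degree prime to p in the principal p-block of G lies over θ (θ is a constituent of the restriction of χ to N). -/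
theorem result {G : Type*} [Group G] [Finite G] (N : Subgroup G) [N.Normal] (p : ℕ) [Fact p.Prime] (M : Ideal Cfsg.AlgInt) (hM : Cfsg.IsPModular p M) (P : Sylow p G)
    (θ : Cfsg.IrrCharacter N) (hθ : θ ∈ Cfsg.principalBlock M N) (hdeg : ¬ p ∣ Cfsg.charDegree (θ : N → ℂ))
    (hext : ∃ η : Cfsg.IrrCharacter ↥(N ⊔ (P : Subgroup G)), ∀ n : N, (η : ↥(N ⊔ (P : Subgroup G)) → ℂ) (Subgroup.inclusion le_sup_left n) = (θ : N → ℂ) n) :
    ∃ χ : Cfsg.IrrCharacter G, χ ∈ Cfsg.principalBlock M G ∧ ¬ p ∣ Cfsg.charDegree (χ : G → ℂ) ∧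
      haveI := Fintype.ofFinite N; Cfsg.classInner (fun n : N => (χ : G → ℂ) n) (θ : N → ℂ) ≠ 0 := by
  classical
  haveI := Fintype.ofFinite G
  haveI := Fintype.ofFinite N
  obtain ⟨η, hη⟩ := hext
  let H : Subgroup G := N ⊔ (P : Subgroup G)
  haveI := Fintype.ofFinite H
  obtain ⟨d, hd, hd1⟩ := Char.IsIrrCharacter.exists_degree θ.2
  have hpd : ¬ p ∣ d := by simpa [charDegree, hd1] using hdeg
  have hη1 : (η : H → ℂ) 1 = d := by rw [← hd1, ← hη 1]; exact congrArg _ (map_one _).symm
  obtain ⟨χ, hχ, hχd, hχi⟩ := SylowSum.exists_principal_constituent hM P H le_sup_right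
    (Char.IsIrrCharacter.isCharacter η.2) hη1 hpd (fun h hhC hho => by
      have hhN : (h : G) ∈ N := by
        refine (QuotientGroup.eq_one_iff (h : G)).mp ?_
        have hmem : QuotientGroup.mk' N (h : G) ∈ (P : Subgroup G).map (QuotientGroup.mk' N) := by
          have h1 := Subgroup.mem_map_of_mem (QuotientGroup.mk' N) h.2
          rwa [Subgroup.map_sup, QuotientGroup.map_mk'_self, bot_sup_eq] at h1
        obtain ⟨k, hk⟩ := (P.isPGroup'.map (QuotientGroup.mk' N)) ⟨_, hmem⟩
        have hk' : QuotientGroup.mk' N (h : G) ^ p ^ k = 1 := congrArg Subtype.val hk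
        refine orderOf_eq_one_iff.mp (Nat.eq_one_of_dvd_coprimes ?_
          (orderOf_dvd_of_pow_eq_one hk') (orderOf_map_dvd (QuotientGroup.mk' N) (h : G)))
        exact Nat.Coprime.pow_left k ((Fact.out : p.Prime).coprime_iff_not_dvd.mpr hho)
      rw [show (η : H → ℂ) h = (θ : N → ℂ) ⟨h, hhN⟩ from hη ⟨h, hhN⟩, ← hd1]
      refine SylowSum.memI_sub_apply_one_of_principal hM hθ fun hd' => ?_
      refine StrongEmb.not_dvd_relIndex_inf P N (hd'.trans (Subgroup.index_dvd_of_le fun x hx => ?_))
      exact Subgroup.mem_centralizer_singleton_iff.mpr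
        (Subtype.ext (Subgroup.mem_centralizer_iff.mp hhC x hx)))
  refine ⟨χ, hχ, hχd, ?_⟩
  rw [Char.frobenius_reciprocity H _ (Char.IsIrrCharacter.isClassFunction χ.2),
    ← Char.classInner_conj_symm] at hχi
  let Z : Subgroup H := N.subgroupOf H
  haveI := Fintype.ofFinite Z
  let eZ : Z ≃* N := Subgroup.subgroupOfEquivOfLe le_sup_left
  have h2 := FullyRamified.over_of_constituent
    (Char.IsCharacter.restrict (Char.IsIrrCharacter.isCharacter χ.2) H)
    (Char.IsIrrCharacter.isCharacter (Char.IsIrrCharacter.comp_equiv θ.2 eZ)) η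
    (fun h => hχi (by rw [h, map_zero])) (by
      rw [show (fun z : Z => (η : H → ℂ) z) = fun z => (θ : N → ℂ) (eZ z) from
        funext fun z => hη (eZ z), Char.classInner_irr_self (Char.IsIrrCharacter.comp_equiv θ.2 eZ)]
      exact one_ne_zero)
  intro h0
  apply h2
  rw [show (fun z : Z => (χ : G → ℂ) ((z : H) : G)) = fun z => (χ : G → ℂ) (eZ z : N) from rfl]
  refine (Char.classInner_comp_equiv eZ (fun n : N => (χ : G → ℂ) n) θ).trans ?_
  convert h0

end Cfsg.Agent.S4583
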