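import Cfsg.Statements.S4586
import Cfsg.Agent.Lib.PGroupFour.Basic

set_option autoImplicit false
open Cfsg
open scoped commutatorElement

namespace Cfsg.Agent.S4586

/-- Let p be a prime, P a finite p-group and N a normal subgroup of P of index p. For x ∈ P write c(x) for the number of elements n of N whose commutator x n x⁻¹ n⁻¹ lies in the derived subgroup N' (so c(x)/#N' is the order of the centralizer of x acting on N/N'). Then [P : P'] = p² if and only if c(x) = p·#N' for every x ∈ P outside N, and also if and only if c(x) = p·#N' for some x ∈ P outside N. -/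
theorem result {P : Type*} [Group P] [Finite P] (p : ℕ) [Fact p.Prime] (hP : IsPGroup p P) (N : Subgroup P) [N.Normal] (hN : N.index = p) :
    ((commutator P).index = p ^ 2 ↔ ∀ x : P, x ∉ N →
        Nat.card {n : N // x * n * x⁻¹ * (n : P)⁻¹ ∈ (commutator N).map N.subtype} = p * Nat.card (commutator N)) ∧
    ((commutator P).index = p ^ 2 ↔ ∃ x : P, x ∉ N ∧
        Nat.card {n : N // x * n * x⁻¹ * (n : P)⁻¹ ∈ (commutator N).map N.subtype} = p * Nat.card (commutator N)) := by
  classical
  let K : Subgroup P := (commutator N).map N.subtype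
  haveI : K.Normal := inferInstanceAs ((commutator N).map N.subtype).Normal
  have hKle : K ≤ N := by rintro _ ⟨k, _, rfl⟩; exact k.2
  have hKP : K ≤ commutator P := by
    show (commutator N).map N.subtype ≤ _
    rw [Subgroup.map_subtype_commutator, commutator_def]
    exact Subgroup.commutator_mono le_top le_top
  let π := QuotientGroup.mk' K
  have hπ : Function.Surjective π := QuotientGroup.mk'_surjective K
  let A := N.map π
  haveI : A.Normal := Subgroup.Normal.map ‹_› π hπ
  haveI : IsMulCommutative A := by
    refine ⟨⟨?_⟩⟩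
    rintro ⟨_, a, ha, rfl⟩ ⟨_, b, hb, rfl⟩
    apply Subtype.ext
    show π a * π b = π b * π a
    rw [← map_mul, ← map_mul]
    apply QuotientGroup.eq.mpr
    refine ⟨⁅(⟨b, hb⟩ : N)⁻¹, (⟨a, ha⟩ : N)⁻¹⁆,
      Subgroup.commutator_mem_commutator (Subgroup.mem_top _) (Subgroup.mem_top _), ?_⟩
    simp [commutatorElement_def, mul_assoc]
  have hcomap : A.comap π = N := Subgroup.comap_map_eq_self (by
    rw [QuotientGroup.ker_mk']; exact hKle)
  have hAi : A.index = p := by
    rw [← Subgroup.index_comap_of_surjective A hπ, hcomap, hN]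
  have hKc : Nat.card K = Nat.card (commutator N) :=
    Nat.card_congr ((commutator N).equivMapOfInjective _ N.subtype_injective).symm.toEquiv
  have hPQ : (commutator P).index = (commutator (P ⧸ K)).index := by
    have h1 : commutator (P ⧸ K) = (commutator P).map π := by
      rw [commutator_def, commutator_def, Subgroup.map_commutator, Subgroup.map_top_of_surjective _ hπ]
    rw [h1, ← Subgroup.index_comap_of_surjective _ hπ, Subgroup.comap_map_eq_self]
    rw [QuotientGroup.ker_mk']
    exact hKP
  have main : ∀ x : P, x ∉ N → ((commutator P).index = p ^ 2 ↔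
      Nat.card {n : N // x * n * x⁻¹ * (n : P)⁻¹ ∈ (commutator N).map N.subtype} =
        p * Nat.card (commutator N)) := by
    intro x hx
    have hgen : A ⊔ Subgroup.zpowers (π x) = ⊤ := by
      have h1 : π x ∉ A := fun h => hx (hcomap ▸ (Subgroup.mem_comap.mpr h))
      rw [← Subgroup.index_eq_one]
      have h2 := Subgroup.index_dvd_of_le (le_sup_left : A ≤ A ⊔ Subgroup.zpowers (π x))
      rw [hAi] at h2
      refine ((Nat.dvd_prime (Fact.out : p.Prime)).mp h2).resolve_right fun h3 => ?_
      have h4 := Subgroup.index_strictAnti (show A < A ⊔ Subgroup.zpowers (π x) from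
        lt_of_le_of_ne le_sup_left fun h => h1 (by
          rw [h]; exact (le_sup_right : Subgroup.zpowers (π x) ≤ _) (Subgroup.mem_zpowers _)))
      omega
    let C := A ⊓ Subgroup.centralizer {π x}
    have hset : Nat.card {n : N // x * n * x⁻¹ * (n : P)⁻¹ ∈ (commutator N).map N.subtype} =
        Nat.card (C.comap π) := by
      refine Nat.card_congr
        { toFun := fun n => ⟨(n.1 : P), ⟨⟨n.1, n.1.2, rfl⟩, ?_⟩⟩
          invFun := fun m => ⟨⟨m.1, hcomap ▸ Subgroup.mem_comap.mpr m.2.1⟩, ?_⟩
          left_inv := fun n => rfl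
          right_inv := fun m => rfl }
      · show π (n.1 : P) ∈ Subgroup.centralizer {π x}
        rw [Subgroup.mem_centralizer_singleton_iff]
        have h := (QuotientGroup.eq_one_iff (N := K) _).mpr n.2
        rw [← QuotientGroup.mk'_apply, map_mul, map_mul, map_mul, map_inv, map_inv, mul_inv_eq_one,
          mul_inv_eq_iff_eq_mul] at h
        exact h.symm
      · apply (QuotientGroup.eq_one_iff (N := K) _).mp
        have h : π m.1 * π x = π x * π m.1 := Subgroup.mem_centralizer_singleton_iff.mp m.2.2
        rw [← QuotientGroup.mk'_apply, map_mul, map_mul, map_mul, map_inv, map_inv, mul_inv_eq_one,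
          mul_inv_eq_iff_eq_mul]
        exact h.symm
    have hcard : Nat.card (C.comap π) = Nat.card C * Nat.card K := by
      have h1 := (C.comap π).card_mul_index
      rw [Subgroup.index_comap_of_surjective C hπ, Subgroup.card_eq_card_quotient_mul_card_subgroup K,
        show Nat.card (P ⧸ K) = Nat.card C * C.index from C.card_mul_index.symm] at h1
      refine Nat.eq_of_mul_eq_mul_right (Nat.pos_of_ne_zero C.index_ne_zero_of_finite) ?_
      rw [h1]; ring
    have hm := PGroupFour.card_commutator_mul_card_inf_centralizer A (π x) hgen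
    have h1 := (commutator (P ⧸ K)).card_mul_index
    have h2 := A.card_mul_index
    rw [hAi, ← hm] at h2
    have hidx : (commutator P).index = Nat.card C * p := by
      rw [hPQ]
      refine Nat.eq_of_mul_eq_mul_left (Nat.card_pos (α := commutator (P ⧸ K))) ?_
      rw [h1, ← h2]; ring
    rw [hidx, hset, hcard, hKc, pow_two, Nat.mul_left_inj (Fact.out : p.Prime).ne_zero,
      Nat.mul_left_inj (Nat.card_pos (α := commutator N)).ne']
  obtain ⟨x₀, hx₀⟩ : ∃ x : P, x ∉ N := by
    by_contra hh
    push Not at hh
    have : N = ⊤ := eq_top_iff.mpr fun a _ => hh a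
    rw [this, Subgroup.index_top] at hN
    exact (Fact.out : p.Prime).one_lt.ne hN
  exact ⟨⟨fun h x hx => (main x hx).mp h, fun h => (main x₀ hx₀).mpr (h x₀ hx₀)⟩,
    ⟨fun h => ⟨x₀, hx₀, (main x₀ hx₀).mp h⟩, fun ⟨x, hx, h⟩ => (main x hx).mpr h⟩⟩

end Cfsg.Agent.S4586
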