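import Cfsg.Statements.S4587
import Cfsg.Agent.EqLemmas
import Cfsg.Agent.Lib.AbelianizationSq.Main

set_option autoImplicit false
open Cfsg
open Subgroup
open scoped Pointwise commutatorElement

namespace Cfsg.Agent.S4587

/-- Let G be a finite group, p a prime and P a Sylow p-subgroup of order at least p². Assume that G has no nontrivial normal subgroup of order prime to p, that the derived subgroup P' of P contains no nontrivial normal subgroup of G, and that G is not almost simple (there is no non-abelian simple normal subgroup of G with trivial centralizer). Then [P : P'] = p² if and only if some p-element x of G has centralizer whose order has p-part exactly p². -/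
theorem result {G : Type*} [Group G] [Finite G] (p : ℕ) [Fact p.Prime] (P : Sylow p G) (hbig : p ^ 2 ∣ Nat.card G) (hcore : Cfsg.pPrimeCore p G = ⊥)
    (hcore' : (⁅(P : Subgroup G), (P : Subgroup G)⁆).normalCore = ⊥) (hnas : ¬ ∃ S : Subgroup G, S.Normal ∧ IsSimpleGroup S ∧ ¬ IsMulCommutative S ∧ Subgroup.centralizer (S : Set G) = ⊥) :
    (⁅(P : Subgroup G), (P : Subgroup G)⁆).relIndex (P : Subgroup G) = p ^ 2 ↔
      ∃ x : G, (∃ k : ℕ, orderOf x = p ^ k) ∧ (Nat.card (Subgroup.centralizer ({x} : Set G))).factorization p = 2 := by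
  classical
  have hp : p.Prime := Fact.out
  obtain ⟨n, hn⟩ := IsPGroup.iff_card.mp P.isPGroup'
  have hn' : (Nat.card G).factorization p = n :=
    Nat.pow_right_injective hp.two_le (P.card_eq_multiplicity.symm.trans hn)
  have hn2 : 2 ≤ n := hn' ▸ (hp.pow_dvd_iff_le_factorization Nat.card_pos.ne').mp hbig
  have hrel : (⁅(P : Subgroup G), (P : Subgroup G)⁆).relIndex (P : Subgroup G) =
      (commutator ↥(P : Subgroup G)).index := by
    rw [← map_subtype_commutator]
    show (((commutator ↥(P : Subgroup G)).map (P : Subgroup G).subtype).comap (P : Subgroup G).subtype).index = _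
    rw [comap_map_eq_self_of_injective (P : Subgroup G).subtype_injective]
  rw [hrel]
  have hcomm : (∀ a b : ↥(P : Subgroup G), a * b = b * a) → (commutator ↥(P : Subgroup G)).index = p ^ n := by
    intro h
    have : commutator ↥(P : Subgroup G) = ⊥ := by
      rw [_root_.commutator_def, eq_bot_iff, commutator_le]
      intro a _ b _
      rw [mem_bot, commutatorElement_eq_one_iff_mul_comm]
      exact h a b
    rw [this, index_bot, hn]
  constructor
  · intro hidx
    by_cases hab : ∀ a b : ↥(P : Subgroup G), a * b = b * a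
    · refine ⟨1, ⟨0, by simp⟩, ?_⟩
      have hC : centralizer ({1} : Set G) = ⊤ :=
        eq_top_iff.mpr fun g _ => mem_centralizer_singleton_iff.mpr (by simp)
      rw [hC, card_top, hn']
      exact Nat.pow_right_injective hp.two_le ((hcomm hab).symm.trans hidx)
    · have hn3 : 3 ≤ n := by
        by_contra h
        apply hab
        haveI := IsPGroup.isMulCommutative_of_card_eq_prime_sq (p := p) (G := ↥(P : Subgroup G))
          (by rw [hn]; congr 1; omega)
        exact fun a b => mul_comm' a b
      obtain ⟨x, hx⟩ := AbelianizationSq.exists_small_centralizer hn3 P hn hab hcore hcore' hnas hidx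
      obtain ⟨k, hk⟩ := IsPGroup.iff_orderOf.mp P.isPGroup' x
      exact ⟨x, ⟨k, by rw [Subgroup.orderOf_coe]; exact hk⟩, hx⟩
  · rintro ⟨g, ⟨k, hk⟩, hg⟩
    obtain ⟨Q, hQ⟩ := (IsPGroup.of_card (p := p) (n := k) (by rw [Nat.card_zpowers, hk]) :
      IsPGroup p (zpowers g)).exists_le_sylow
    obtain ⟨h, rfl⟩ := MulAction.exists_smul_eq G P Q
    obtain ⟨x, hx, rfl⟩ : g ∈ MulAut.conj h • (P : Subgroup G) := hQ (mem_zpowers g)
    have h1 := MaxClassSylow.card_inter_conj (⊤ : Subgroup G) h x
    have htop : MulAut.conj h • (⊤ : Subgroup G) = ⊤ := by ext u; simp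
    rw [htop, top_inf_eq, top_inf_eq] at h1
    change (Nat.card (centralizer ({h * x * h⁻¹} : Set G))).factorization p = 2 at hg
    rw [h1] at hg
    set x' : ↥(P : Subgroup G) := ⟨x, hx⟩
    obtain ⟨c, hc⟩ := IsPGroup.iff_card.mp (P.isPGroup'.to_subgroup (centralizer ({x'} : Set ↥(P : Subgroup G))))
    have hc2 : c ≤ 2 := by
      rw [← hg]
      refine (hp.pow_dvd_iff_le_factorization Nat.card_pos.ne').mp ?_
      rw [← hc, MaxClassSylow.card_centralizer_subtype]
      exact Subgroup.card_dvd_of_le inf_le_right
    by_cases hx' : x' ∈ center ↥(P : Subgroup G)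
    · have hC : centralizer ({x'} : Set ↥(P : Subgroup G)) = ⊤ :=
        eq_top_iff.mpr fun u _ => mem_centralizer_singleton_iff.mpr (mem_center_iff.mp hx' u)
      rw [hC, card_top, hn] at hc
      have hnc : n = 2 := le_antisymm ((Nat.pow_right_injective hp.two_le hc).le.trans hc2) hn2
      subst hnc
      refine hcomm ?_
      haveI := IsPGroup.isMulCommutative_of_card_eq_prime_sq (p := p) (G := ↥(P : Subgroup G)) hn
      exact fun a b => mul_comm' a b
    · have hn3 : 3 ≤ n := by
        by_contra h
        haveI := IsPGroup.isMulCommutative_of_card_eq_prime_sq (p := p) (G := ↥(P : Subgroup G))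
          (by rw [hn]; congr 1; omega)
        exact hx' (mem_center_iff.mpr fun u => mul_comm' u x')
      haveI : Nontrivial ↥(P : Subgroup G) := ⟨⟨x', 1, fun e => hx' (e ▸ one_mem _)⟩⟩
      have hlt : center ↥(P : Subgroup G) < centralizer ({x'} : Set ↥(P : Subgroup G)) :=
        lt_of_le_of_ne (center_le_centralizer _) fun e => hx' (e ▸ mem_centralizer_singleton_iff.mpr rfl)
      have hcp : c = 2 := by
        refine le_antisymm hc2 ?_
        have h2 := PGroup.mul_card_le_of_lt P.isPGroup' hlt
        rw [hc] at h2
        haveI := IsPGroup.center_nontrivial P.isPGroup'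
        obtain ⟨z, hz⟩ := IsPGroup.iff_card.mp (P.isPGroup'.to_subgroup (center ↥(P : Subgroup G)))
        have hz1 : 1 ≤ z := by
          rcases Nat.eq_zero_or_pos z with rfl | h
          · have := Finite.one_lt_card (α := center ↥(P : Subgroup G))
            rw [hz, pow_zero] at this; omega
          · exact h
        rw [hz, ← pow_succ'] at h2
        have := (Nat.pow_le_pow_iff_right hp.one_lt).mp h2
        omega
      subst hcp
      have cd : MaxClassPower.Gd ↥(P : Subgroup G) p n x' := ⟨hn, hn3, hc⟩
      have h3 := cd.card_L (le_refl 1)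
      rw [PearlRank.L, Subgroup.top_lowerCentralSeries_one] at h3
      have e := (commutator ↥(P : Subgroup G)).card_mul_index
      rw [h3, hn, show p ^ n = p ^ (n - 1 - 1) * p ^ 2 by rw [← pow_add]; congr 1; omega] at e
      exact Nat.eq_of_mul_eq_mul_left (pow_pos hp.pos _) e

end Cfsg.Agent.S4587
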