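import Cfsg.Statements.S4588
import Cfsg.Agent.Lib.SmallSection.Section

set_option autoImplicit false
open Cfsg

namespace Cfsg.Agent.S4588

open Cfsg Cfsg.Agent

/-- The bound for a non-trivial `p`-element with small centralizer, or a trivial one. -/
theorem bound {G : Type*} [Group G] [Finite G] {p : ℕ} [Fact p.Prime] {M : Ideal AlgInt}
    (hM : IsPModular p M) {x : G} {k : ℕ} (hk : orderOf x = p ^ k)
    (hC : (Nat.card (Subgroup.centralizer ({x} : Set G))).factorization p ≤ 2)
    (h1 : x ≠ 1 ∨ (Nat.card (Subgroup.centralizer ({x} : Set G))).factorization p = 0) :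
    Nat.card {χ : IrrCharacter G // χ ∈ principalBlock M G ∧ ¬ p ∣ charDegree (χ : G → ℂ)} ≤ p ^ 2 := by
  classical
  have hp : p.Prime := Fact.out
  set H := Subgroup.centralizer ({x} : Set G) with hHdef
  have hH : ∀ g, g ∈ H ↔ Commute x g := fun _ => SecondMain.commute_iff_mem_centralizer_singleton
  have hxH : x ∈ H := (hH x).mpr (Commute.refl x)
  let z : H := ⟨x, hxH⟩
  have hzc : z ∈ Subgroup.center H := Subgroup.mem_center_iff.mpr fun g =>
    Subtype.ext ((hH g).mp g.2).eq.symm
  have hzo : orderOf z = p ^ k := by rw [← hk, ← Subgroup.orderOf_coe]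
  have hkle : k ≤ (Nat.card H).factorization p :=
    (hp.pow_dvd_iff_le_factorization Nat.card_pos.ne').mp (hzo ▸ orderOf_dvd_natCard z)
  have hxn : orderOf x ∣ p ^ (k + 1) := by rw [hk]; exact pow_dvd_pow p (Nat.le_succ k)
  by_cases hgen : k = 1 ∧ (Nat.card H).factorization p = 2
  · obtain ⟨e, t, φ, hle, hint, hexp, hcol, hind⟩ :=
      SmallSection.principal_basis hM hzc (by rw [hzo, hgen.1, pow_one]) hgen.2
    refine le_trans (SmallSection.card_le_of_section hM hxn hH φ hint hexp hcol hind) ?_
    rw [pow_two]
    exact Nat.mul_le_mul_left p hle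
  · -- the Sylow subgroup of the centralizer is `⟨x⟩`
    have heq : k = (Nat.card H).factorization p := by
      rcases h1 with hx1 | h0
      · have hk0 : k ≠ 0 := fun h => hx1 (orderOf_eq_one_iff.mp (by rw [hk, h, pow_zero]))
        omega
      · omega
    obtain ⟨S, hzS⟩ := IsPGroup.exists_le_sylow (IsPGroup.of_card (n := k) (by rw [Nat.card_zpowers, hzo]) :
      IsPGroup p (Subgroup.zpowers z))
    have hS : Subgroup.zpowers z = (S : Subgroup H) := Subgroup.eq_of_le_of_card_ge hzS (by
      rw [Nat.card_zpowers, hzo, S.card_eq_multiplicity, ← heq])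
    have hc : HasNormalPComplement p H := by
      refine Transfer.hasNormalPComplement_of_normalizer_le_centralizer S fun g _ => ?_
      refine Subgroup.mem_centralizer_iff.mpr fun u hu => ?_
      exact (Subgroup.mem_center_iff.mp ((Subgroup.zpowers_le.mpr hzc) (hS ▸ hu)) g).symm
    obtain ⟨φ, hint, hexp, hcol, hind⟩ := SmallSection.complement_basis hM hc
    refine le_trans (SmallSection.card_le_of_section hM hxn hH φ hint hexp hcol hind) ?_
    rw [mul_comm, add_zero, one_mul]
    exact Nat.pow_le_pow_right hp.pos hC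

/-- Let G be a finite group, p a prime and M a maximal ideal of the algebraic integers containing p. If some p-element x of G (possibly x = 1) has centralizer whose order has p-part at most p², then the principal p-block of G contains at most p² irreducible characters of degree prime to p. -/
theorem result {G : Type*} [Group G] [Finite G] (p : ℕ) [Fact p.Prime] (M : Ideal Cfsg.AlgInt) (hM : Cfsg.IsPModular p M)
    (hx : ∃ x : G, (∃ k : ℕ, orderOf x = p ^ k) ∧ (Nat.card (Subgroup.centralizer ({x} : Set G))).factorization p ≤ 2) :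
    Nat.card {χ : Cfsg.IrrCharacter G // χ ∈ Cfsg.principalBlock M G ∧ ¬ p ∣ Cfsg.charDegree (χ : G → ℂ)} ≤ p ^ 2 := by
  classical
  have hp : p.Prime := Fact.out
  obtain ⟨x, ⟨k, hk⟩, hC⟩ := hx
  by_cases hx1 : x = 1
  · subst hx1
    have htop : Subgroup.centralizer ({(1 : G)} : Set G) = ⊤ := by
      ext g
      simp [Subgroup.mem_centralizer_singleton_iff]
    by_cases h0 : (Nat.card G).factorization p = 0
    · exact bound hM hk hC (Or.inr (by rwa [htop, Subgroup.card_top]))
    · obtain ⟨y, hy⟩ := exists_prime_orderOf_dvd_card' (G := G) p (Nat.dvd_of_factorization_pos h0)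
      refine bound hM (k := 1) (by rw [hy, pow_one]) ?_ (Or.inl fun h => hp.ne_one (by rw [← hy, h, orderOf_one]))
      rw [htop, Subgroup.card_top] at hC
      exact le_trans ((Nat.factorization_le_iff_dvd Nat.card_pos.ne' Nat.card_pos.ne').mpr
        (Subgroup.card_subgroup_dvd_card _) p) hC
  · exact bound hM hk hC (Or.inl hx1)

end Cfsg.Agent.S4588
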