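import Cfsg.Statements.S4591
import Cfsg.Agent.Lib.CentralChar.Fixed
import Cfsg.Agent.Lib.Blocks.OrbitSum
import Cfsg.Agent.Lib.Transfer.Tate
import Cfsg.Agent.Lib.Cores.Basic

set_option autoImplicit false
open Cfsg
open scoped Pointwise

namespace Cfsg.Agent.S4591
open scoped commutatorElement

variable {G : Type*} [Group G] [Finite G] {p : ℕ} [hp : Fact p.Prime]

/-- Part one: `N P'` (its core) is killed by every irreducible character of `p'`-degree. -/
theorem ker_of_mem_core (P : Sylow p G) (N : Subgroup G) [N.Normal]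
    (hN : N ⊓ Subgroup.centralizer ((P : Subgroup G) : Set G) = ⊥) (χ : IrrCharacter G)
    (hχ : ¬ p ∣ charDegree (χ : G → ℂ)) {g : G}
    (hg : g ∈ (N ⊔ ⁅(P : Subgroup G), (P : Subgroup G)⁆).normalCore) :
    (χ : G → ℂ) g = (χ : G → ℂ) 1 := by
  classical
  obtain ⟨χ, n, ρ, hi, rfl⟩ := χ
  have hdeg : ρ.character 1 = (n : ℂ) := by rw [Representation.char_one, Module.finrank_fin_fun]
  have hn : ¬ p ∣ n := by
    have : charDegree ρ.character = n := by simp [charDegree, hdeg]
    simp only [this] at hχ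
    exact hχ
  have hcls := Char.isClassFunction_character ρ
  haveI := Fintype.ofFinite G
  haveI := Fintype.ofFinite N
  obtain ⟨M, hM⟩ := CentralChar.exists_pModular p
  let S : AddSubmonoid ℂ :=
    { carrier := {z | MemLocalIdeal M z}
      add_mem' := fun ha hb => Blocks.memI_add hM ha hb
      zero_mem' := Blocks.memI_zero hM }
  -- the sum over `N` is congruent to the degree
  letI : MulAction (P : Subgroup G) N :=
    MulAction.compHom N ((MulAut.conjNormal : G →* MulAut N).comp (P : Subgroup G).subtype)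
  have hsmul : ∀ (u : (P : Subgroup G)) (x : N), ((u • x : N) : G) = (u : G) * x * (u : G)⁻¹ :=
    fun u x => rfl
  have hfix : ∀ x : N, x ∈ MulAction.fixedPoints (P : Subgroup G) N ↔ x = 1 := by
    intro x
    constructor
    · intro hx
      have h1 : (x : G) ∈ N ⊓ Subgroup.centralizer ((P : Subgroup G) : Set G) := by
        refine ⟨x.2, Subgroup.mem_centralizer_iff.mpr fun u hu => ?_⟩
        have h2 := congrArg Subtype.val (hx ⟨u, hu⟩)
        rw [hsmul] at h2
        exact mul_inv_eq_iff_eq_mul.mp h2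
      rw [hN, Subgroup.mem_bot] at h1
      exact Subtype.ext h1
    · rintro rfl u
      apply Subtype.ext
      rw [hsmul]
      simp
  have hmem := Blocks.sum_not_fixed_mem (A := ℂ) P.isPGroup' (fun x : N => ρ.character (x : G))
    (fun u x => by show ρ.character _ = _; rw [hsmul]; exact hcls x u) S
    (fun x => by
      show MemLocalIdeal M (p • ρ.character (x : G))
      rw [nsmul_eq_mul]
      exact Blocks.memI_mul_right hM (Blocks.memI_p hM)
        (Blocks.memR_of_isIntegral hM (Char.isIntegral_character ρ _)))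
  have hsumN : ∑ x : N, ρ.character (x : G) ≠ 0 := by
    intro h0
    rw [← Finset.sum_filter_add_sum_filter_not Finset.univ
      (fun x : N => x ∈ MulAction.fixedPoints (P : Subgroup G) N),
      show Finset.univ.filter (fun x : N => x ∈ MulAction.fixedPoints (P : Subgroup G) N) = {1} by
        ext x; simp [hfix], Finset.sum_singleton, OneMemClass.coe_one, hdeg,
      add_eq_zero_iff_eq_neg] at h0
    exact Blocks.not_memI_natCast hM hn (h0 ▸ Blocks.memI_neg hmem)
  obtain ⟨v, hv0, hv⟩ := CentralChar.invariants_ne_bot_of_sum_ne_zero ρ N hsumN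
  have hρN : ∀ x ∈ N, ρ x = 1 := fun x hx =>
    CentralChar.eq_one_of_normal_of_invariants ρ N hv0 hv hx
  -- a vector fixed by `L ∩ P'`
  set L := (N ⊔ ⁅(P : Subgroup G), (P : Subgroup G)⁆).normalCore with hL
  let Q : Subgroup G := L ⊓ ⁅(P : Subgroup G), (P : Subgroup G)⁆
  haveI := Fintype.ofFinite Q
  haveI := Fintype.ofFinite (P : Subgroup G)
  obtain ⟨φ, hφ1, hφ⟩ := CentralChar.exists_linear_constituent P.isPGroup'
    (Char.IsCharacter.restrict (Char.isCharacter_character ρ) (P : Subgroup G))
    (d := n) hdeg hn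
  have hsumQ : ∑ q : Q, ρ.character (q : G) ≠ 0 := by
    haveI := Fintype.ofFinite (IrrCharacter (P : Subgroup G))
    obtain ⟨m, hm, hm'⟩ :=
      Char.IsCharacter.decompose (Char.IsCharacter.restrict (Char.isCharacter_character ρ) (P : Subgroup G))
    let ι : Q →* (P : Subgroup G) :=
      Subgroup.inclusion (inf_le_right.trans (Subgroup.commutator_le_self _))
    have hnat : ∀ ψ : IrrCharacter (P : Subgroup G), ∃ k : ℕ,
        ∑ q : Q, (ψ : ↥(P : Subgroup G) → ℂ) (ι q) = ((Nat.card Q * k : ℕ) : ℂ) := by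
      intro ψ
      obtain ⟨k, σ, -, hσ⟩ := ψ.2
      refine ⟨Module.finrank ℂ (Representation.invariants
        (σ.comp ι : Representation ℂ Q (Fin k → ℂ))), ?_⟩
      rw [Nat.cast_mul, ← CharApp.sum_char_eq_card_mul, ← hσ]
      rfl
    choose k hk using hnat
    have hφk : ((Nat.card Q * k φ : ℕ) : ℂ) = (Nat.card Q : ℂ) := by
      obtain ⟨l, hl⟩ := Char.exists_hom_of_degree_one (Char.IsIrrCharacter.isCharacter φ.2) hφ1
      rw [← hk, ← hl]
      have h1 : ∀ q : Q, l (ι q) = 1 := by
        intro q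
        have hq : ι q ∈ commutator (P : Subgroup G) := by
          have h2 := q.2.2
          rw [← Subgroup.map_subtype_commutator] at h2
          obtain ⟨z, hz, hze⟩ := h2
          rwa [show ι q = z from Subtype.ext hze.symm]
        have h3 : (commutator (P : Subgroup G)) ≤ l.toHomUnits.ker :=
          Abelianization.commutator_subset_ker l.toHomUnits
        have h4 := h3 hq
        rw [MonoidHom.mem_ker, Units.ext_iff] at h4
        simpa using h4
      rw [Finset.sum_congr rfl fun q _ => h1 q, Finset.sum_const, Finset.card_univ,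
        Nat.card_eq_fintype_card, nsmul_eq_mul, mul_one]
    have htot : ∑ q : Q, ρ.character (q : G) =
        ((∑ ψ : IrrCharacter (P : Subgroup G), m ψ * (Nat.card Q * k ψ) : ℕ) : ℂ) := by
      push_cast
      calc ∑ q : Q, ρ.character (q : G)
          = ∑ q : Q, ∑ ψ : IrrCharacter (P : Subgroup G),
              (m ψ : ℂ) * (ψ : ↥(P : Subgroup G) → ℂ) (ι q) := by
            refine Finset.sum_congr rfl fun q _ => ?_
            have h1 := congrFun hm (ι q)
            simp only [Finset.sum_apply, Pi.smul_apply, smul_eq_mul] at h1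
            exact h1
        _ = _ := by
            rw [Finset.sum_comm]
            refine Finset.sum_congr rfl fun ψ _ => ?_
            rw [← Finset.mul_sum, hk]
            push_cast
            rfl
    rw [htot, Nat.cast_ne_zero]
    intro h0
    have h1 := (Finset.sum_eq_zero_iff.mp h0) φ (Finset.mem_univ _)
    rw [Nat.cast_inj] at hφk
    rw [hφk] at h1
    rcases Nat.mul_eq_zero.mp h1 with h | h
    · apply hφ
      rw [hm', h, Nat.cast_zero]
    · exact Nat.card_pos.ne' h
  obtain ⟨w, hw0, hw⟩ := CentralChar.invariants_ne_bot_of_sum_ne_zero ρ Q hsumQ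
  have hρL : ∀ l ∈ L, ρ l w = w := by
    intro l hl
    obtain ⟨a, ha, b, hb, rfl⟩ :=
      Subgroup.mem_sup_of_normal_left.mp (Subgroup.normalCore_le _ hl)
    have haL : a ∈ L := Subgroup.normal_le_normalCore.mpr le_sup_left ha
    have hbQ : b ∈ Q := ⟨by simpa using L.mul_mem (L.inv_mem haL) hl, hb⟩
    rw [map_mul, hρN a ha, one_mul, hw b hbQ]
  exact (Char.character_eq_finrank_iff ρ g).mpr
    (CentralChar.eq_one_of_normal_of_invariants ρ L hw0 hρL hg) |>.trans
    (Representation.char_one ρ).symm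


/-- Let G be a finite group, p a prime and P a Sylow p-subgroup, and let N be the largest normal subgroup of G in which P has trivial centralizer (N is normal with C_N(P) = 1 and contains every normal subgroup with that property). Then the intersection of the kernels of the irreducible characters of G of degree prime to p is the normal core in G of the subgroup N·P' (P' the derived subgroup of P). In particular, when G has no nontrivial normal subgroup of order prime to p, that intersection is the normal core of P'. -/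
theorem result {G : Type*} [Group G] [Finite G] (p : ℕ) [Fact p.Prime] (P : Sylow p G) (N : Subgroup G) [N.Normal]
    (hN : N ⊓ Subgroup.centralizer ((P : Subgroup G) : Set G) = ⊥)
    (hmax : ∀ L : Subgroup G, L.Normal → L ⊓ Subgroup.centralizer ((P : Subgroup G) : Set G) = ⊥ → L ≤ N) :
    {g : G | ∀ χ : Cfsg.IrrCharacter G, ¬ p ∣ Cfsg.charDegree (χ : G → ℂ) → (χ : G → ℂ) g = (χ : G → ℂ) 1} =
      ((N ⊔ ⁅(P : Subgroup G), (P : Subgroup G)⁆).normalCore : Set G) := by
  classical
  have hdef : ∀ g : G, g ∈ {g : G | ∀ χ : Cfsg.IrrCharacter G, ¬ p ∣ Cfsg.charDegree (χ : G → ℂ) →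
      (χ : G → ℂ) g = (χ : G → ℂ) 1} ↔ ∀ χ : Cfsg.IrrCharacter G,
      ¬ p ∣ Cfsg.charDegree (χ : G → ℂ) → (χ : G → ℂ) g = (χ : G → ℂ) 1 := fun g => Iff.rfl
  -- the intersection of kernels as a subgroup
  let K : Subgroup G :=
    { carrier := {g : G | ∀ χ : Cfsg.IrrCharacter G, ¬ p ∣ Cfsg.charDegree (χ : G → ℂ) →
        (χ : G → ℂ) g = (χ : G → ℂ) 1}
      one_mem' := fun χ _ => rfl
      mul_mem' := fun {a b} ha hb χ hd => by
        obtain ⟨χ, n, ρ, hi, rfl⟩ := χ
        have h1 := (Char.character_eq_finrank_iff ρ a).mp ((ha _ hd).trans (Representation.char_one ρ))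
        show ρ.character (a * b) = ρ.character 1
        have h2 := hb _ hd
        simp only [Representation.character, map_mul, map_one] at h2 ⊢
        rw [h1, ← h2]
        exact congrArg _ (LinearMap.id_comp _)
      inv_mem' := fun {a} ha χ hd => by
        show (χ : G → ℂ) a⁻¹ = _
        rw [Char.IsCharacter.apply_inv (Char.IsIrrCharacter.isCharacter χ.2), ha χ hd,
          Char.IsCharacter.conj_apply_one (Char.IsIrrCharacter.isCharacter χ.2)] }
  haveI : K.Normal := ⟨fun a ha g χ hd => by
    rw [Char.IsIrrCharacter.isClassFunction χ.2 a g, ha χ hd]⟩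
  apply Set.Subset.antisymm
  swap
  · intro g hg χ hd
    exact ker_of_mem_core P N hN χ hd hg
  have hKP : K ⊓ (P : Subgroup G) ≤ ⁅(P : Subgroup G), (P : Subgroup G)⁆ := fun x hx =>
    CentralChar.mem_commutator_of_ker _ P.not_dvd_index hx.2 hx.1
  -- `K` has a normal `p`-complement, by Tate
  let H : Subgroup G := K ⊔ (P : Subgroup G)
  have hPH : (P : Subgroup G) ≤ H := le_sup_right
  let PH : Sylow p H := P.subtype hPH
  have hcompl : HasNormalPComplement p K := by
    refine Transfer.hasNormalPComplement_of_injective (G := H) ?_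
      (Subgroup.inclusion (le_sup_left : K ≤ H)) (Subgroup.inclusion_injective _)
    refine Transfer.hasNormalPComplement_of_commutator_inf_le PH ?_
    intro x hx
    have hxP : (x : G) ∈ (P : Subgroup G) := hx.2
    have hH' : (x : G) ∈ K ⊔ ⁅(P : Subgroup G), (P : Subgroup G)⁆ := by
      have h1 : (x : G) ∈ ⁅H, H⁆ := by
        rw [← Subgroup.map_subtype_commutator]; exact ⟨x, hx.1, rfl⟩
      refine (?_ : ⁅H, H⁆ ≤ K ⊔ ⁅(P : Subgroup G), (P : Subgroup G)⁆) h1
      have h2 : H.map (QuotientGroup.mk' K) = (P : Subgroup G).map (QuotientGroup.mk' K) := by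
        rw [Subgroup.map_sup, QuotientGroup.map_mk'_self, bot_sup_eq]
      have h3 := Subgroup.map_commutator H H (QuotientGroup.mk' K)
      rw [h2, ← Subgroup.map_commutator, Subgroup.map_eq_map_iff, QuotientGroup.ker_mk'] at h3
      rw [sup_comm, ← h3]
      exact le_sup_left
    obtain ⟨k, hk, q, hq, hkq⟩ := Subgroup.mem_sup_of_normal_left.mp hH'
    have hqP : q ∈ (P : Subgroup G) := Subgroup.commutator_le_self _ hq
    have hkP : k ∈ (P : Subgroup G) := by
      have := (P : Subgroup G).mul_mem hxP ((P : Subgroup G).inv_mem hqP)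
      rwa [← hkq, mul_inv_cancel_right] at this
    have h4 : (x : G) ∈ ⁅(P : Subgroup G), (P : Subgroup G)⁆ := by
      rw [← hkq]; exact Subgroup.mul_mem _ (hKP ⟨hk, hkP⟩) hq
    have h5 : ⁅(P : Subgroup G), (P : Subgroup G)⁆ =
        (⁅(PH : Subgroup H), (PH : Subgroup H)⁆).map H.subtype := by
      rw [Subgroup.map_commutator, Sylow.coe_subtype, Subgroup.map_subgroupOf_eq_of_le hPH]
    rw [h5] at h4
    exact (Subgroup.mem_map_iff_mem H.subtype_injective).mp h4
  have hco := Transfer.hasNormalPComplement_iff_coprime.mp hcompl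
  haveI : (pResidual p K).Characteristic := Transfer.pResidual_characteristic
  let O : Subgroup G := (pResidual p K).map K.subtype
  haveI hOn : O.Normal := Cores.map_subtype_normal_of_characteristic K (pResidual p K)
  have hOco : (Nat.card O).Coprime p := by
    rw [Nat.card_congr ((pResidual p K).equivMapOfInjective _ K.subtype_injective).symm.toEquiv]
    exact hco
  have hON : O ≤ N := by
    refine hmax O hOn ?_
    rw [eq_bot_iff]
    rintro c ⟨hcO, hcC⟩
    rw [Subgroup.mem_bot]
    have hcK : c ∈ K := Subgroup.map_subtype_le _ hcO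
    let Hc : Subgroup G := (P : Subgroup G) ⊔ Subgroup.zpowers c
    have hidx : ¬ p ∣ Hc.index := fun h =>
      P.not_dvd_index (h.trans (Subgroup.index_dvd_of_le le_sup_left))
    have h1 := CentralChar.mem_commutator_of_ker Hc hidx
      ((le_sup_right : Subgroup.zpowers c ≤ Hc) (Subgroup.mem_zpowers c)) hcK
    have h2 : ⁅Hc, Hc⁆ ≤ (P : Subgroup G) := by
      have hz : Subgroup.zpowers c ≤ Subgroup.centralizer ((P : Subgroup G) : Set G) :=
        Subgroup.zpowers_le.mpr hcC
      have hnorm : Subgroup.zpowers c ≤ Subgroup.normalizer ((P : Subgroup G) : Set G) :=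
        hz.trans (Subgroup.centralizer_le_normalizer _)
      rw [Subgroup.commutator_le]
      intro a ha b hb
      have hset := Subgroup.coe_mul_of_right_le_normalizer_left (P : Subgroup G) _ hnorm
      have hmem : ∀ y ∈ Hc, y ∈ ((P : Subgroup G) : Set G) * (Subgroup.zpowers c : Set G) :=
        fun y hy => by rw [← hset]; exact hy
      obtain ⟨a₁, ha₁, a₂, ha₂, rfl⟩ := hmem a ha
      obtain ⟨b₁, hb₁, b₂, hb₂, rfl⟩ := hmem b hb
      have c1 : b₂ * a₁ = a₁ * b₂ := (Subgroup.mem_centralizer_iff.mp (hz hb₂) a₁ ha₁).symm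
      have c2 : a₂ * b₁ = b₁ * a₂ := (Subgroup.mem_centralizer_iff.mp (hz ha₂) b₁ hb₁).symm
      have c3 : a₂ * b₂ = b₂ * a₂ := by
        obtain ⟨i, rfl⟩ := Subgroup.mem_zpowers_iff.mp ha₂
        obtain ⟨j, rfl⟩ := Subgroup.mem_zpowers_iff.mp hb₂
        exact (Commute.zpow_zpow_self c i j).eq
      have hab : a₁ * a₂ * (b₁ * b₂) = a₁ * b₁ * (a₂ * b₂) := by
        rw [mul_assoc a₁, ← mul_assoc a₂, c2, mul_assoc b₁, ← mul_assoc a₁]
      have hba : b₁ * b₂ * (a₁ * a₂) = b₁ * a₁ * (a₂ * b₂) := by
        rw [mul_assoc b₁, ← mul_assoc b₂, c1, mul_assoc a₁, ← mul_assoc b₁, c3]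
      have he : ⁅a₁ * a₂, b₁ * b₂⁆ = a₁ * b₁ * (b₁ * a₁)⁻¹ := by
        rw [commutatorElement_def]
        calc a₁ * a₂ * (b₁ * b₂) * (a₁ * a₂)⁻¹ * (b₁ * b₂)⁻¹
            = (a₁ * a₂ * (b₁ * b₂)) * (b₁ * b₂ * (a₁ * a₂))⁻¹ := by group
          _ = (a₁ * b₁ * (a₂ * b₂)) * (b₁ * a₁ * (a₂ * b₂))⁻¹ := by rw [hab, hba]
          _ = a₁ * b₁ * (b₁ * a₁)⁻¹ := by group
      rw [he]
      exact mul_mem (mul_mem ha₁ hb₁) (inv_mem (mul_mem hb₁ ha₁))
    obtain ⟨k, hk⟩ := IsPGroup.iff_orderOf.mp P.isPGroup' ⟨c, h2 h1⟩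
    rw [Subgroup.orderOf_mk] at hk
    have h3 : orderOf c ∣ Nat.card O := Subgroup.orderOf_dvd_natCard _ hcO
    have h4 : (orderOf c).Coprime p := Nat.Coprime.coprime_dvd_left h3 hOco
    exact orderOf_eq_one_iff.mp
      (Nat.eq_one_of_dvd_coprimes (h4.pow_right k) dvd_rfl (by rw [hk]))
  have hKle : K ≤ N ⊔ ⁅(P : Subgroup G), (P : Subgroup G)⁆ := by
    let π := QuotientGroup.mk' O
    have hπ : Function.Surjective π := QuotientGroup.mk'_surjective O
    have hKp : IsPGroup p (K.map π) := by
      let f : K →* K.map π := π.subgroupMap K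
      have hker : pResidual p K ≤ f.ker := by
        intro z hz
        rw [MonoidHom.mem_ker]
        apply Subtype.ext
        show π (z : G) = 1
        exact (QuotientGroup.eq_one_iff _).mpr ⟨z, hz, rfl⟩
      haveI := Transfer.pResidual_normal (p := p) (G := K)
      exact (Transfer.isPGroup_quotient_pResidual).of_surjective (QuotientGroup.lift _ f hker)
        (QuotientGroup.lift_surjective_of_surjective _ f (π.subgroupMap_surjective K) hker)
    haveI : (K.map π).Normal := Subgroup.Normal.map ‹_› π hπ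
    have hle : K.map π ≤ (P : Subgroup G).map π :=
      (Cores.le_pCore ‹_› hKp).trans (Cores.pCore_le_sylow (P.mapSurjective hπ))
    intro k hk
    obtain ⟨q, hq, hqk⟩ := hle ⟨k, hk, rfl⟩
    have ho : k * q⁻¹ ∈ O := (QuotientGroup.eq_one_iff _).mp (by
      show π (k * q⁻¹) = 1
      rw [map_mul, map_inv, hqk, mul_inv_cancel])
    have hqK : q ∈ K := by
      have := K.mul_mem (K.inv_mem (Subgroup.map_subtype_le _ ho)) hk
      simpa [mul_assoc] using this
    rw [show k = (k * q⁻¹) * q by group]
    exact Subgroup.mul_mem _ (Subgroup.mem_sup_left (hON ho)) (Subgroup.mem_sup_right (hKP ⟨hqK, hq⟩))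
  exact fun g hg => Subgroup.normal_le_normalCore.mpr hKle hg

end Cfsg.Agent.S4591
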