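import Cfsg.Statements.S4594
import Cfsg.Agent.Lib.CentIndexFour.Simple
import Cfsg.Agent.Lib.CentIndexFour.Abelian
import Cfsg.Agent.Lib.GWDihedral.Main
import Cfsg.Agent.Lib.GWKlein.General.Main
import Cfsg.Agent.Lib.CoverSixSeven.Alt
-- import your own Cfsg.Agent.* helpers here

set_option autoImplicit false
open Cfsg

namespace Cfsg.Agent.S4594

open Subgroup Cfsg.Agent.CentIndexFour
open scoped commutatorElement

variable {G : Type*} [Group G] [Finite G] (P : Sylow 2 G)

/-- A central 2-element lies in every Sylow 2-subgroup. -/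
theorem mem_of_central {x : G} (hx : x ∈ center G) (h2 : ∃ k : ℕ, x ^ 2 ^ k = 1) :
    x ∈ (P : Subgroup G) := by
  haveI : Fact (Nat.Prime 2) := ⟨Nat.prime_two⟩
  have hp : IsPGroup 2 (zpowers x) := fun y => by
    obtain ⟨k, hk⟩ := h2
    obtain ⟨i, hi⟩ := mem_zpowers_iff.1 y.2
    refine ⟨k, Subtype.ext ?_⟩
    rw [Subgroup.coe_pow, Subgroup.coe_one, ← hi, ← zpow_natCast, ← zpow_mul, mul_comm, zpow_mul,
      zpow_natCast, hk, one_zpow]
  have h3 := IsPGroup.to_sup_of_normal_right' hp P.isPGroup' (zpowers_le.2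
    (centralizer_le_normalizer _ (mem_centralizer_iff.2 fun y _ => mem_center_iff.1 hx y)))
  exact P.is_maximal' h3 le_sup_right ▸ mem_sup_left (mem_zpowers _)

theorem exists_pow {x : G} (hx : x ∈ (P : Subgroup G)) : ∃ k : ℕ, x ^ 2 ^ k = 1 :=
  (P.isPGroup' ⟨x, hx⟩).imp fun _ h => congrArg Subtype.val h

/-- In a perfect group the central elements of a Sylow subgroup are commutators. -/
theorem central_mem [Group.IsPerfect G] {z : G} (D : Data (P : Subgroup G) z) {x : G}
    (hx : x ∈ (P : Subgroup G)) (hc : x ∈ center G) : x = 1 ∨ x = z := by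
  haveI : Fact (Nat.Prime 2) := ⟨Nat.prime_two⟩
  let ϕ : (P : Subgroup G) →* Abelianization (P : Subgroup G) := Abelianization.of
  have key : ∀ (k : ℕ) (g₀ : G), g₀⁻¹ * x ^ k * g₀ ∈ (P : Subgroup G) → g₀⁻¹ * x ^ k * g₀ = x ^ k :=
    fun k g₀ _ => by rw [mul_assoc, ← mem_center_iff.1 (pow_mem hc k) g₀, inv_mul_cancel_left]
  have h1 := MonoidHom.transfer_eq_pow ϕ x key
  have h2 : ϕ.transfer x = 1 := MonoidHom.mem_ker.1 (Abelianization.commutator_subset_ker _
    ((Group.IsPerfect.commutator_eq_top (G := G)).ge (mem_top x)))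
  rw [h2] at h1
  have h3 : (⟨x ^ (P : Subgroup G).index, MonoidHom.transfer_eq_pow_aux x key⟩ : (P : Subgroup G)) ∈
      commutator (P : Subgroup G) := (QuotientGroup.eq_one_iff _).1 h1.symm
  have h4 : commutator (P : Subgroup G) ≤ (zpowers z).subgroupOf (P : Subgroup G) := by
    rw [_root_.commutator_def, Subgroup.commutator_le]
    intro a _ b _
    rw [mem_subgroupOf]
    show (⁅a, b⁆ : (P : Subgroup G)).1 ∈ zpowers z
    rw [show (⁅a, b⁆ : (P : Subgroup G)).1 = (a : G) * b * (a : G)⁻¹ * (b : G)⁻¹ from rfl]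
    rcases D.conj_or a.2 b.2 with h | h <;> rw [h]
    · rw [mul_inv_cancel]; exact one_mem _
    · rw [D.z_comm b.2, mul_inv_cancel_right]
      exact mem_zpowers z
  have h5 : x ∈ zpowers z := by
    refine Coprime.mem_of_pow_mem ?_ (mem_subgroupOf.1 (h4 h3))
    obtain ⟨k, hk⟩ := exists_pow P hx
    refine Nat.Coprime.coprime_dvd_left (orderOf_dvd_of_pow_eq_one hk) (Nat.Coprime.pow_left _ ?_)
    exact (Nat.Prime.coprime_iff_not_dvd Nat.prime_two).2 P.not_dvd_index
  obtain ⟨i, rfl⟩ := mem_zpowers_iff.1 h5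
  rcases Int.even_or_odd i with ⟨j, rfl⟩ | ⟨j, rfl⟩
  · left; rw [← two_mul, zpow_mul, zpow_two, D.z_sq, one_zpow]
  · right; rw [zpow_add, zpow_mul, zpow_two, D.z_sq, one_zpow, one_mul, zpow_one]

/-- Let G be a finite quasisimple group with a non-abelian Sylow 2-subgroup P whose centre has index 4 in P. Then P has order 8, and G is isomorphic to the alternating group on 7 letters, or G has centre of order 3 with central quotient isomorphic to the alternating group on 7 letters, or the central quotient of G is isomorphic to PSL(2, F) for some finite field F of odd order. -/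
theorem result {G : Type*} [Group G] [Finite G] (hq : Cfsg.IsQuasisimple G) (P : Sylow 2 G) (hna : ¬ IsMulCommutative (P : Subgroup G)) (hZ : (Subgroup.center (P : Subgroup G)).index = 4) :
    Nat.card (P : Subgroup G) = 8 ∧
      (Nonempty (G ≃* alternatingGroup (Fin 7)) ∨
       (Nat.card (Subgroup.center G) = 3 ∧ Nonempty (G ⧸ Subgroup.center G ≃* alternatingGroup (Fin 7))) ∨
       ∃ (F : Type) (_ : Field F) (_ : Fintype F), Odd (Fintype.card F) ∧ Nonempty (G ⧸ Subgroup.center G ≃* Matrix.ProjectiveSpecialLinearGroup (Fin 2) F)) := by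
  classical
  haveI : Fact (Nat.Prime 2) := ⟨Nat.prime_two⟩
  obtain ⟨hperf, hsimple⟩ := hq
  haveI := hperf
  haveI := hsimple
  obtain ⟨z, D⟩ := data_of_index (P : Subgroup G) hna hZ
  set π := QuotientGroup.mk' (center G) with hπdef
  have hπ : Function.Surjective π := QuotientGroup.mk'_surjective _
  have hker : π.ker = center G := QuotientGroup.ker_mk' _
  have hQna : ¬ IsMulCommutative (G ⧸ center G) := fun h => by
    obtain ⟨q, hq1⟩ := exists_ne (1 : G ⧸ center G)
    obtain ⟨g, rfl⟩ := hπ q
    have hle : commutator G ≤ π.ker := by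
      rw [_root_.commutator_def, Subgroup.commutator_le]
      intro a _ b _
      rw [MonoidHom.mem_ker, map_commutatorElement, commutatorElement_eq_one_iff_commute]
      exact h.is_comm.comm _ _
    exact hq1 (MonoidHom.mem_ker.1 (hle ((Group.IsPerfect.commutator_eq_top (G := G)).ge (mem_top g))))
  set Pb : Sylow 2 (G ⧸ center G) := P.mapSurjective hπ
  set ψ := π.subgroupMap (P : Subgroup G)
  have hψ : Function.Surjective ψ := π.subgroupMap_surjective _
  have hψ1 : ∀ x : (P : Subgroup G), ψ x = 1 → (x : G) = 1 ∨ (x : G) = z := fun x hx => by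
    refine central_mem P D x.2 ?_
    rw [← hker]
    exact congrArg Subtype.val hx
  by_cases hzc : z ∈ center G
  · -- the image is abelian
    have hPb : IsMulCommutative (Pb : Subgroup (G ⧸ center G)) := by
      refine ⟨⟨?_⟩⟩
      rintro ⟨_, a, ha, rfl⟩ ⟨_, b, hb, rfl⟩
      refine Subtype.ext ?_
      show π a * π b = π b * π a
      rcases D.comm_or a ha b hb with h | h
      · rw [← map_mul, h, map_mul]
      · rw [← map_mul, h, map_mul, map_mul, show π z = 1 from (hker.ge hzc : z ∈ π.ker), mul_one]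
    haveI := hPb
    set R := ((center (P : Subgroup G)).map ψ).map (Subgroup.subtype _)
    have hRP : R ≤ (Pb : Subgroup (G ⧸ center G)) := map_subtype_le _
    have hRi : R.relIndex (Pb : Subgroup (G ⧸ center G)) = 4 := by
      show (R.subgroupOf ((P : Subgroup G).map π)).index = 4
      rw [show R.subgroupOf ((P : Subgroup G).map π) = (center (P : Subgroup G)).map ψ from
        comap_map_eq_self_of_injective (Subgroup.subtype_injective _) _,
        index_map_eq _ hψ ?_, hZ]
      intro x hx
      refine mem_center_iff.2 fun y => Subtype.ext ?_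
      rcases hψ1 x hx with h | h
      · simp [h]
      · show (y : G) * x = x * y
        rw [h, D.z_comm y.2]
    have hRN : normalizer ((Pb : Subgroup (G ⧸ center G)) : Set (G ⧸ center G)) ≤
        normalizer (R : Set (G ⧸ center G)) := by
      intro q hq
      refine Coprime.mem_normalizer_of_forall fun r hr => ?_
      obtain ⟨g, rfl⟩ := hπ q
      obtain ⟨_, ⟨x, hx, rfl⟩, rfl⟩ := hr
      have hgP : ∀ w ∈ (P : Subgroup G), g * w * g⁻¹ ∈ (P : Subgroup G) := by
        intro w hw
        obtain ⟨w', hw', he⟩ := (mem_normalizer_iff.1 hq _).1 (mem_map_of_mem π hw)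
        have he' : w'⁻¹ * (g * w * g⁻¹) ∈ center G := by
          rw [← hker, MonoidHom.mem_ker, map_mul, map_inv, he, map_mul, map_mul, map_inv, inv_mul_cancel]
        obtain ⟨k, hk⟩ := exists_pow P hw
        obtain ⟨l, hl⟩ := exists_pow P hw'
        have hc : Commute w'⁻¹ (g * w * g⁻¹) := by
          have h1 : (g * w * g⁻¹) = w' * (w'⁻¹ * (g * w * g⁻¹)) := (mul_inv_cancel_left _ _).symm
          rw [h1]
          exact Commute.mul_right (Commute.inv_left (Commute.refl w')) (mem_center_iff.1 he' _)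
        have h2 : w'⁻¹ * (g * w * g⁻¹) ∈ (P : Subgroup G) := by
          refine mem_of_central P he' ⟨k + l, ?_⟩
          rw [hc.mul_pow, inv_pow, conj_pow, pow_add]
          nth_rw 1 [mul_comm (2 ^ k) (2 ^ l)]
          rw [pow_mul, hl, one_pow, inv_one, one_mul, pow_mul, hk, one_pow, mul_one, mul_inv_cancel]
        have := (P : Subgroup G).mul_mem hw' h2
        rwa [mul_inv_cancel_left] at this
      have hgN : g ∈ normalizer ((P : Subgroup G) : Set G) := Coprime.mem_normalizer_of_forall hgP
      have hxc : (x : G) ∈ cen (P : Subgroup G) :=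
        mem_cen.2 ⟨x.2, fun y hy => congrArg Subtype.val (mem_center_iff.1 hx ⟨y, hy⟩)⟩
      have hgx := conj_cen D hgN hxc
      refine ⟨ψ ⟨g * x * g⁻¹, hgx.1⟩, ⟨⟨g * x * g⁻¹, hgx.1⟩, ?_, rfl⟩, ?_⟩
      · exact mem_center_iff.2 fun y => Subtype.ext ((mem_cen.1 hgx).2 y y.2)
      · show π (g * x * g⁻¹) = π g * π x * (π g)⁻¹
        rw [map_mul, map_mul, map_inv]
    have hk := klein_of_invariant hQna Pb hRP hRi hRN
    refine ⟨?_, Or.inr (Or.inr ?_)⟩
    · have h1 : Nat.card (P : Subgroup G) = 2 * Nat.card ↥((P : Subgroup G).map π) := by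
        have h := card_mul_index ψ.ker
        rw [index_ker, MonoidHom.range_eq_top.2 hψ, Subgroup.card_top] at h
        have hker2 : Nat.card ψ.ker = 2 := by
          rw [Nat.card_eq_two_iff' 1]
          refine ⟨⟨⟨z, D.z_memS⟩, Subtype.ext (hker.ge hzc)⟩, fun h => D.z_ne (congrArg Subtype.val
            (congrArg Subtype.val h)), fun y hy => ?_⟩
          rcases hψ1 y y.2 with h | h
          · exact absurd (Subtype.ext (Subtype.ext h)) hy
          · exact Subtype.ext (Subtype.ext h)
        rw [hker2] at h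
        omega
      have h2 : Nat.card ↥((P : Subgroup G).map π) = 4 := hk.card_four
      omega
    · exact GWKlein.kleinGW _ hsimple hQna Pb hk
  -- the image is isomorphic to `P`
  have hinj : Function.Injective ψ := by
    rw [injective_iff_map_eq_one]
    intro x hx
    rcases hψ1 x hx with h | h
    · exact Subtype.ext h
    · exact absurd (hker.le (congrArg Subtype.val hx : π (x : G) = 1)) (h ▸ hzc)
  let e : (P : Subgroup G) ≃* (Pb : Subgroup (G ⧸ center G)) := MulEquiv.ofBijective ψ ⟨hinj, hψ⟩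
  obtain ⟨z', D'⟩ := data_of_index (Pb : Subgroup (G ⧸ center G)) (fun h => hna ⟨⟨fun a b =>
    e.injective (by rw [map_mul, map_mul]; exact h.is_comm.comm _ _)⟩⟩) (by
      rw [← hZ, ← index_comap_of_surjective (f := e.toMonoidHom) _ e.surjective]
      congr 1
      ext x
      simp only [mem_comap, MulEquiv.coe_toMonoidHom, mem_center_iff]
      refine ⟨fun h y => e.injective (by rw [map_mul, map_mul]; exact h (e y)), fun h y => ?_⟩
      obtain ⟨y', rfl⟩ := e.surjective y
      rw [← map_mul, ← map_mul, h y'])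
  have hD8 := dihedral_of_simple D' hQna
  refine ⟨?_, ?_⟩
  · obtain ⟨e8⟩ := hD8
    rw [Nat.card_congr (e.trans e8).toEquiv, DihedralGroup.nat_card]
  rcases GWDihedral.dihedralGW (G ⧸ center G) hsimple hQna Pb 4 (by norm_num) hD8 with h | ⟨⟨e7⟩⟩
  · exact Or.inr (Or.inr h)
  set σ : G →* alternatingGroup (Fin 7) := e7.toMonoidHom.comp π with hσdef
  have hσker : σ.ker = center G := by
    rw [← hker]
    ext x
    simp [hσdef, MonoidHom.mem_ker]
  have hσ : Cfsg.IsStemExtension σ := ⟨e7.surjective.comp hπ, hσker.le, by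
    rw [Group.IsPerfect.commutator_eq_top]; exact le_top⟩
  obtain ⟨τ, hτ⟩ := CoverSixSeven.exists_surj_alt 7 (Or.inr rfl) σ hσ
  have h6 : Nat.card (center G) ∣ 6 := by
    have h := card_dvd_of_surjective τ hτ
    rw [hσker] at h
    simpa using h
  have hodd : ¬ 2 ∣ Nat.card (center G) := fun h => by
    obtain ⟨⟨c, hc⟩, hc2⟩ := exists_prime_orderOf_dvd_card' 2 h
    rw [Subgroup.orderOf_mk] at hc2
    have hcP := mem_of_central P hc ⟨1, by rw [pow_one, ← hc2, pow_orderOf_eq_one]⟩
    rcases central_mem P D hcP hc with h | h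
    · rw [h, orderOf_one] at hc2; omega
    · exact hzc (h ▸ hc)
  have hle := Nat.le_of_dvd (by norm_num) h6
  interval_cases hn : Nat.card (center G)
  all_goals first
    | omega
    | (exfalso; norm_num at h6; done)
    | skip
  · left
    have hbot : center G = ⊥ := eq_bot_of_card_eq _ hn
    exact ⟨(QuotientGroup.quotientBot.symm.trans (QuotientGroup.quotientMulEquivOfEq hbot.symm)).trans e7⟩
  · exact Or.inr (Or.inl ⟨rfl, ⟨e7⟩⟩)

end Cfsg.Agent.S4594
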