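import Cfsg.Statements.S4601
import Cfsg.Agent.EqLemmas
import Cfsg.Agent.Lib.Coprime.Factorization
import Cfsg.Agent.Lib.Solvable.PiSeparable
import Cfsg.Agent.Lib.Cores.Subnormal

set_option autoImplicit false
open Cfsg

namespace Cfsg.Agent.S4601

open scoped Pointwise

theorem exists_sylow_lift {G : Type*} [Group G] [Finite G] {r : ℕ} [Fact r.Prime] (N : Subgroup G)
    [N.Normal] (R : Sylow r (G ⧸ N)) :
    ∃ S : Sylow r G, (S : Subgroup G).map (QuotientGroup.mk' N) = R := by
  obtain ⟨S₀⟩ : Nonempty (Sylow r G) := inferInstance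
  obtain ⟨a, ha⟩ := MulAction.exists_smul_eq (G ⧸ N)
    (S₀.mapSurjective (QuotientGroup.mk'_surjective N)) R
  obtain ⟨g, rfl⟩ := QuotientGroup.mk'_surjective N a
  refine ⟨g • S₀, ?_⟩
  rw [← ha, Sylow.coe_subgroup_smul, Cores.map_conj_smul, Sylow.coe_subgroup_smul,
    Sylow.coe_mapSurjective]

universe u

theorem aux (n : ℕ) : ∀ {G : Type u} [Group G] [Finite G], Nat.card G = n →
    ∀ (p q : ℕ) [Fact p.Prime] [Fact q.Prime], p ≠ q →
    (Solvable.IsPiSeparable {p} G ∨ Solvable.IsPiSeparable {q} G) →
    (∀ y : G, (∃ k : ℕ, orderOf y = q ^ k) →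
      ¬ p ∣ (Subgroup.centralizer ({y} : Set G)).index) →
    ∃ (P : Sylow p G) (Q : Sylow q G),
      (P : Subgroup G) ≤ Subgroup.normalizer ((Q : Subgroup G) : Set G) := by
  induction n using Nat.strongRecOn with
  | _ c ih =>
    intro G _ _ hc p q hp hq hpq hsolv h
    subst hc
    obtain ⟨P⟩ : Nonempty (Sylow p G) := inferInstance
    obtain ⟨Q⟩ : Nonempty (Sylow q G) := inferInstance
    rcases subsingleton_or_nontrivial G with hG | hG
    · exact ⟨P, Q, fun x _ => by rw [Subsingleton.elim x 1]; exact one_mem _⟩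
    -- a normal subgroup whose order is prime to `p` or to `q`
    obtain ⟨N, hN, hN0, hNpq⟩ : ∃ N : Subgroup G, N.Normal ∧ N ≠ ⊥ ∧
        (¬ p ∣ Nat.card N ∨ ¬ q ∣ Nat.card N) := by
      rcases hsolv with hs | hs <;> obtain ⟨N, h1, h2, hpi⟩ := hs.exists_normal_ne_bot <;>
        refine ⟨N, h1, h2, ?_⟩ <;> rcases hpi with hpi | hpi
      · exact Or.inr fun hd => hpq.symm (hpi q hq.out hd)
      · exact Or.inl fun hd => hpi p hp.out hd rfl
      · exact Or.inl fun hd => hpq (hpi p hp.out hd)
      · exact Or.inr fun hd => hpi q hq.out hd rfl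
    have := hN
    let f := QuotientGroup.mk' N
    have hlt : Nat.card (G ⧸ N) < Nat.card G := by
      rw [Subgroup.card_eq_card_quotient_mul_card_subgroup N]
      exact lt_mul_of_one_lt_right Nat.card_pos
        ((Nat.one_lt_iff_ne_zero_and_ne_one).2 ⟨Nat.card_pos.ne', fun he =>
          hN0 (Subgroup.eq_bot_of_card_eq _ he)⟩)
    obtain ⟨Pb, Qb, hPQ⟩ := ih _ hlt (G := G ⧸ N) rfl p q hpq
      (hsolv.imp (fun hs => hs.quotient N) fun hs => hs.quotient N) (by
      intro yb hyb
      obtain ⟨y, rfl⟩ := QuotientGroup.mk'_surjective N yb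
      obtain ⟨k, hk⟩ := hyb
      -- replace `y` by a `q`-element with the same image
      obtain ⟨y', hy', he⟩ : ∃ y' : G, (∃ k : ℕ, orderOf y' = q ^ k) ∧ f y' = f y := by
        have hyn : IsPGroup q (Subgroup.zpowers (f y)) :=
          IsPGroup.of_card (n := k) (by rw [Nat.card_zpowers]; exact hk)
        obtain ⟨R, hR⟩ := hyn.exists_le_sylow
        obtain ⟨S, hS⟩ := exists_sylow_lift N R
        obtain ⟨y', hy', he⟩ := (hS ▸ hR (Subgroup.mem_zpowers _) :
          f y ∈ (S : Subgroup G).map f)
        obtain ⟨j, hj⟩ := (IsPGroup.iff_orderOf.1 S.isPGroup') ⟨y', hy'⟩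
        exact ⟨y', ⟨j, by rw [← hj, ← Subgroup.orderOf_coe]⟩, he⟩
      rw [show QuotientGroup.mk' N y = f y' from he.symm]
      intro hd
      refine h y' hy' (hd.trans ((Subgroup.index_dvd_of_le ?_).trans
        (Subgroup.index_map_dvd _ (QuotientGroup.mk'_surjective N))))
      rintro _ ⟨x, hx, rfl⟩
      rw [Subgroup.mem_centralizer_singleton_iff, ← map_mul, ← map_mul,
        Subgroup.mem_centralizer_singleton_iff.1 hx])
    obtain ⟨P, hP⟩ := exists_sylow_lift N Pb
    obtain ⟨Q, hQ⟩ := exists_sylow_lift N Qb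
    let L : Subgroup G := Subgroup.normalizer ((Q : Subgroup G) : Set G)
    -- Frattini: `P ≤ L N`
    have hPL : (P : Subgroup G) ≤ L ⊔ N := by
      intro g hg
      let M : Subgroup G := (Q : Subgroup G) ⊔ N
      have hQM : (Q : Subgroup G) ≤ M := le_sup_left
      have hgQ : ((g • Q : Sylow q G) : Subgroup G) ≤ M := by
        have hM : M = (Qb : Subgroup (G ⧸ N)).comap f := by
          rw [← hQ, Subgroup.comap_map_eq, QuotientGroup.ker_mk']
        intro x hx
        rw [Sylow.coe_subgroup_smul, Cores.mem_conj_smul] at hx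
        rw [hM, Subgroup.mem_comap]
        have h1 : f g ∈ Subgroup.normalizer ((Qb : Subgroup (G ⧸ N)) : Set (G ⧸ N)) :=
          hPQ (hP ▸ Subgroup.mem_map_of_mem f hg)
        have h2 : f (g⁻¹ * x * g) ∈ (Qb : Subgroup (G ⧸ N)) := hQ ▸ Subgroup.mem_map_of_mem f hx
        rw [Subgroup.mem_normalizer_iff] at h1
        have h3 := (h1 _).1 h2
        simpa [mul_assoc] using h3
      obtain ⟨m, hm⟩ := MulAction.exists_smul_eq M (Q.subtype hQM) ((g • Q).subtype hgQ)
      rw [Sylow.smul_subtype] at hm
      have hmg : (m : G) • Q = g • Q := Sylow.subtype_injective hm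
      have hl : (m : G)⁻¹ * g ∈ L := by
        refine Sylow.smul_eq_iff_mem_normalizer.1 ?_
        rw [mul_smul, ← hmg, inv_smul_smul]
      have := mul_mem (sup_le (le_sup_of_le_left Subgroup.le_normalizer) le_sup_right m.2 :
        (m : G) ∈ L ⊔ N) (Subgroup.mem_sup_left hl)
      rwa [mul_inv_cancel_left] at this
    -- `L ⊓ N` contains a Sylow `p`-subgroup of `N`
    have hLN : p ^ (Nat.card N).factorization p ∣ Nat.card (L ⊓ N : Subgroup G) := by
      rcases hNpq with hn | hn
      · rw [Nat.factorization_eq_zero_of_not_dvd hn, pow_zero]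
        exact one_dvd _
      have hQN : (Q : Subgroup G) ≤ Subgroup.normalizer (N : Set G) := by
        rw [Subgroup.normalizer_eq_top_iff.2 hN]; exact le_top
      obtain ⟨j, hj⟩ := IsPGroup.iff_card.1 Q.isPGroup'
      have hcop : (Nat.card (Q : Subgroup G)).Coprime (Nat.card N) := by
        rw [hj]
        exact ((hq.out.coprime_iff_not_dvd).2 hn).pow_left j
      have hQs : Group.IsSolvable (Q : Subgroup G) := by
        have := Q.isPGroup'.isNilpotent
        infer_instance
      obtain ⟨S, hS⟩ := Coprime.exists_invariant_sylow hQN hcop (Or.inl hQs) p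
      have hScard : Nat.card ((S : Subgroup N).map N.subtype : Subgroup G) =
          p ^ (Nat.card N).factorization p := by
        rw [Subgroup.card_map_of_injective N.subtype_injective, S.card_eq_multiplicity]
      rw [← hScard]
      refine Subgroup.card_dvd_of_le (le_inf ?_ (Subgroup.map_subtype_le _))
      refine le_trans ?_ (Subgroup.centralizer_le_normalizer _)
      intro x hx
      refine Subgroup.mem_centralizer_iff.2 fun y hy => ?_
      have hye : ∃ k, orderOf y = q ^ k := by
        obtain ⟨k, hk⟩ := IsPGroup.iff_orderOf.1 Q.isPGroup' ⟨y, hy⟩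
        exact ⟨k, by rw [← hk, ← Subgroup.orderOf_coe]⟩
      have hC := Coprime.card_inf_centralizer_eq hQN hcop (Subgroup.map_subtype_le _) hS hScard hy
      have hv : (Nat.card (N ⊓ Subgroup.centralizer ({y} : Set G) : Subgroup G)).factorization p =
          (Nat.card N).factorization p := by
        have h1 := Subgroup.relIndex_mul_relIndex ⊥ (N ⊓ Subgroup.centralizer ({y} : Set G)) N
          bot_le inf_le_left
        rw [Subgroup.relIndex_bot_left, Subgroup.relIndex_bot_left, Subgroup.inf_relIndex_left] at h1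
        have h2 : ¬ p ∣ (Subgroup.centralizer ({y} : Set G)).relIndex N := fun hd =>
          h y hye (hd.trans (Cores.relIndex_dvd_index_of_normal_right _ _))
        have h0 : (Subgroup.centralizer ({y} : Set G)).relIndex N ≠ 0 :=
          fun h0 => h2 (by rw [h0]; exact dvd_zero p)
        rw [← h1, Nat.factorization_mul Nat.card_pos.ne' h0,
          Finsupp.add_apply, Nat.factorization_eq_zero_of_not_dvd h2, add_zero]
      rw [hv, ← hScard] at hC
      have h3 := (Subgroup.eq_of_le_of_card_ge inf_le_left hC.ge).symm ▸ hx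
      exact (Subgroup.mem_centralizer_singleton_iff.1 h3.2).symm
    -- compare orders
    have key : p ^ (Nat.card G).factorization p ∣ Nat.card L := by
      have h1 := Solvable.card_sup_mul_card_inf L N
      have hLN0 : (Nat.card N).factorization p ≤ (Nat.card (L ⊓ N : Subgroup G)).factorization p :=
        (hp.out.pow_dvd_iff_le_factorization Nat.card_pos.ne').1 hLN
      have hLN1 : (Nat.card G).factorization p ≤ (Nat.card (L ⊔ N : Subgroup G)).factorization p :=
        (hp.out.pow_dvd_iff_le_factorization Nat.card_pos.ne').1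
          (P.card_eq_multiplicity ▸ Subgroup.card_dvd_of_le hPL)
      have hf := congrArg (fun n => n.factorization p) h1
      simp only [Nat.factorization_mul Nat.card_pos.ne' Nat.card_pos.ne', Finsupp.add_apply] at hf
      exact (hp.out.pow_dvd_iff_le_factorization Nat.card_pos.ne').2 (by omega)
    obtain ⟨T, hT⟩ := Sylow.exists_subgroup_card_pow_prime p key
    refine ⟨Sylow.ofCard (T.map L.subtype) (by
      rw [Subgroup.card_map_of_injective L.subtype_injective, hT]), Q, ?_⟩
    exact Subgroup.map_subtype_le T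

/-- Let p and q be primes and G a finite group that is p-solvable or q-solvable, in which no q-element has conjugacy class size divisible by p. Then some Sylow p-subgroup of G normalizes some Sylow q-subgroup of G. -/
theorem result {G : Type*} [Group G] [Finite G] (p q : ℕ) [Fact p.Prime] [Fact q.Prime] (hsolv : Cfsg.IsPSolvable p G ∨ Cfsg.IsPSolvable q G)
    (h : ∀ y : G, (∃ k : ℕ, orderOf y = q ^ k) → ¬ p ∣ (Subgroup.centralizer ({y} : Set G)).index) :
    ∃ (P : Sylow p G) (Q : Sylow q G), (P : Subgroup G) ≤ Subgroup.normalizer ((Q : Subgroup G) : Set G) := by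
  rcases eq_or_ne p q with rfl | hne
  · obtain ⟨P⟩ : Nonempty (Sylow p G) := inferInstance
    exact ⟨P, P, Subgroup.le_normalizer⟩
  exact aux _ rfl p q hne
    (hsolv.imp Solvable.isPiSeparable_of_isPSolvable Solvable.isPiSeparable_of_isPSolvable) h

end Cfsg.Agent.S4601
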