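import Cfsg.Statements.S4602
import Cfsg.Agent.Lib.Solvable.Fitting
import Cfsg.Agent.Lib.Cores.Basic

set_option autoImplicit false
open Cfsg

namespace Cfsg.Agent.S4602

/-- Let G be a finite p-solvable group and q a prime different from p. Some Sylow p-subgroup of G normalizes some Sylow q-subgroup of G if and only if q does not divide the order of G/O_{p'}(G), the quotient by the largest normal subgroup of order prime to p. -/
theorem result {G : Type*} [Group G] [Finite G] (p q : ℕ) [Fact p.Prime] [Fact q.Prime] (hpq : p ≠ q) (hsolv : Cfsg.IsPSolvable p G) :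
    (∃ (P : Sylow p G) (Q : Sylow q G), (P : Subgroup G) ≤ Subgroup.normalizer ((Q : Subgroup G) : Set G)) ↔ ¬ q ∣ (Cfsg.pPrimeCore p G).index := by
  classical
  have hp : p.Prime := Fact.out
  set R := Cfsg.pPrimeCore p G with hR
  haveI : R.Normal := Subgroup.sSup_normal _ fun _ h => h.1
  let π := QuotientGroup.mk' R
  have hπ : Function.Surjective π := QuotientGroup.mk'_surjective R
  constructor
  · rintro ⟨P, Q, hPQ⟩ hq
    let Qb : Sylow q (G ⧸ R) := Q.mapSurjective hπ
    have hQb : (Qb : Subgroup (G ⧸ R)) ≠ ⊥ := by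
      intro h
      have h1 := Qb.not_dvd_index
      rw [h, Subgroup.index_bot] at h1
      exact h1 hq
    have hsep : Solvable.IsPiSeparable {p} (G ⧸ R) :=
      (Solvable.isPiSeparable_of_isPSolvable hsolv).quotient R
    have hcore : Cfsg.pPrimeCore p (G ⧸ R) = ⊥ := Cores.pPrimeCore_quotient_self p
    set S := Cfsg.pCore p (G ⧸ R) with hS
    haveI : S.Normal := Subgroup.sSup_normal _ fun _ h => h.1
    have hSP : S ≤ (P : Subgroup G).map π := Cores.pCore_le_sylow (P.mapSurjective hπ)
    have hQS : (Qb : Subgroup (G ⧸ R)) ≤ Subgroup.centralizer (S : Set (G ⧸ R)) := by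
      intro y hy
      rw [Subgroup.mem_centralizer_iff]
      intro x hx
      obtain ⟨u, hu, rfl⟩ := hSP hx
      obtain ⟨v, hv, rfl⟩ := hy
      have h1 : π u * π v * (π u)⁻¹ * (π v)⁻¹ ∈ (Q : Subgroup G).map π := by
        refine ⟨u * v * u⁻¹ * v⁻¹, ?_, by simp⟩
        exact (Q : Subgroup G).mul_mem ((Subgroup.mem_normalizer_iff.mp (hPQ hu) v).mp hv)
          ((Q : Subgroup G).inv_mem hv)
      have h2 : π u * π v * (π u)⁻¹ * (π v)⁻¹ ∈ S := by
        have := S.mul_mem hx (Subgroup.Normal.conj_mem ‹_› _ (S.inv_mem hx) (π v))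
        simpa [mul_assoc] using this
      have h3 : π u * π v * (π u)⁻¹ * (π v)⁻¹ = 1 :=
        (Subgroup.disjoint_def.mp
          (IsPGroup.disjoint_of_ne p q hpq _ _ (Cores.isPGroup_pCore p _) Qb.isPGroup')) h2 h1
      rwa [mul_inv_eq_one, mul_inv_eq_iff_eq_mul] at h3
    apply hQb
    have hle := hQS.trans (Solvable.centralizer_pCore_le hsep hcore)
    exact (IsPGroup.disjoint_of_ne p q hpq _ _ (Cores.isPGroup_pCore p _) Qb.isPGroup').eq_bot_of_ge hle
  · intro hq
    obtain ⟨Q⟩ : Nonempty (Sylow q G) := inferInstance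
    have hQR : (Q : Subgroup G) ≤ R := by
      intro v hv
      obtain ⟨j, hj⟩ := IsPGroup.iff_orderOf.mp Q.isPGroup' ⟨v, hv⟩
      rw [Subgroup.orderOf_mk] at hj
      have h1 : orderOf (π v) ∣ q ^ j := hj ▸ orderOf_map_dvd π v
      have h2 : orderOf (π v) ∣ Nat.card (G ⧸ R) := orderOf_dvd_natCard _
      have h3 : (q ^ j).Coprime (Nat.card (G ⧸ R)) :=
        ((Fact.out : q.Prime).coprime_iff_not_dvd.mpr hq).pow_left j
      exact (QuotientGroup.eq_one_iff v).mp
        (orderOf_eq_one_iff.mp (Nat.eq_one_of_dvd_coprimes h3 h1 h2))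
    set L := Subgroup.normalizer ((Q : Subgroup G) : Set G)
    have hfr : L ⊔ R = ⊤ := Sylow.normalizer_sup_eq_top' Q hQR
    have hidx : ¬ p ∣ L.index := by
      intro h
      have h1 : L.index ∣ Nat.card R := by
        have e1 := L.card_mul_index
        have e2 := R.card_mul_index
        have e3 : R.relIndex L = R.index := by
          rw [← Subgroup.relIndex_sup_right L R, hfr, Subgroup.relIndex_top_right]
        have e4 : Nat.card (R ⊓ L : Subgroup G) * R.relIndex L = Nat.card L := by
          have e5 := Subgroup.relIndex_mul_relIndex ⊥ (R ⊓ L) L bot_le inf_le_right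
          rwa [Subgroup.relIndex_bot_left, Subgroup.relIndex_bot_left, Subgroup.inf_relIndex_right] at e5
        rw [e3] at e4
        refine ⟨Nat.card (R ⊓ L : Subgroup G), ?_⟩
        refine Nat.eq_of_mul_eq_mul_right (Nat.pos_of_ne_zero R.index_ne_zero_of_finite) ?_
        rw [e2, ← e1, ← e4]
        ring
      exact Cores.not_dvd_card_pPrimeCore (h.trans h1)
    obtain ⟨P₀⟩ : Nonempty (Sylow p L) := inferInstance
    have hS : ¬ p ∣ ((P₀ : Subgroup L).map L.subtype).index := by
      rw [← Subgroup.relIndex_mul_index (Subgroup.map_subtype_le _)]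
      intro h
      rcases hp.dvd_mul.mp h with h | h
      · apply P₀.not_dvd_index
        rw [Subgroup.relIndex, Subgroup.subgroupOf,
          Subgroup.comap_map_eq_self_of_injective L.subtype_injective] at h
        exact h
      · exact hidx h
    exact ⟨(P₀.isPGroup'.map L.subtype).toSylow hS, Q, Subgroup.map_subtype_le _⟩

end Cfsg.Agent.S4602
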