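import Cfsg.Statements.S4604
import Cfsg.Agent.Lib.CentralChar.Fixed
import Cfsg.Agent.Lib.Frobenius.Complement
import Cfsg.Agent.Lib.Char.Orth
import Cfsg.Agent.Lib.CharApp.Schur

set_option autoImplicit false
open Cfsg

namespace Cfsg.Agent.S4604

open Cfsg.Agent.Blocks

variable {G : Type*} [Group G] [Finite G] {p : ℕ} [hp : Fact p.Prime]

theorem pow_q_eq {x x' : G} {k : ℕ} (hk : orderOf (x * x'⁻¹) = p ^ k)
    (hc : Commute (x * x'⁻¹) x') :
    x ^ p ^ (Nat.card G).factorization p = x' ^ p ^ (Nat.card G).factorization p := by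
  have hdvd : p ^ k ∣ p ^ (Nat.card G).factorization p :=
    Nat.pow_dvd_pow p ((hp.out.pow_dvd_iff_le_factorization Nat.card_pos.ne').mp
      (hk ▸ orderOf_dvd_natCard _))
  have h1 : (x * x'⁻¹) ^ p ^ (Nat.card G).factorization p = 1 := orderOf_dvd_iff_pow_eq_one.mp (hk ▸ hdvd)
  calc x ^ p ^ (Nat.card G).factorization p
      = (x * x'⁻¹ * x') ^ p ^ (Nat.card G).factorization p := by rw [inv_mul_cancel_right]
    _ = _ := by rw [hc.mul_pow, h1, one_mul]

/-- Elements of order prime to `p` with congruent character values are conjugate. -/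
theorem isConj_of_congr {M : Ideal AlgInt} (hM : IsPModular p M) {s t : G} (hs : ¬ p ∣ orderOf s)
    (ht : ¬ p ∣ orderOf t)
    (h : ∀ χ : IrrCharacter G, MemLocalIdeal M ((χ : G → ℂ) s - (χ : G → ℂ) t)) : IsConj s t := by
  classical
  by_contra hst
  haveI := Fintype.ofFinite G
  haveI := Fintype.ofFinite (IrrCharacter G)
  have hchar : ∀ ψ : G → ℂ, IsCharacter G ψ → MemLocalIdeal M (ψ s - ψ t) := by
    intro ψ hψ
    obtain ⟨m, hm, -⟩ := Char.IsCharacter.decompose hψ
    have e : ψ s - ψ t = ∑ φ : IrrCharacter G, (m φ : ℂ) * ((φ : G → ℂ) s - (φ : G → ℂ) t) := by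
      rw [hm]
      simp [mul_sub, Finset.sum_sub_distrib]
    rw [e]
    exact memI_sum hM _ fun φ _ => memI_mul_left hM (memR_natCast hM _) (h φ)
  let C := Subgroup.centralizer ({s} : Set G)
  obtain ⟨Q₀⟩ : Nonempty (Sylow p C) := inferInstance
  let Q : Subgroup G := (Q₀ : Subgroup C).map C.subtype
  have hQp : IsPGroup p Q := Q₀.isPGroup'.map _
  have hQs : ∀ q ∈ Q, q * s = s * q := by
    rintro _ ⟨q, _, rfl⟩
    exact Subgroup.mem_centralizer_singleton_iff.mp q.2
  let Z := Subgroup.zpowers s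
  have hZQ : Z ≤ Subgroup.centralizer (Q : Set G) :=
    Subgroup.zpowers_le.mpr (Subgroup.mem_centralizer_iff.mpr fun q hq => hQs q hq)
  have hcoZQ : (Nat.card Z).Coprime (Nat.card Q) := by
    obtain ⟨j, hj⟩ := IsPGroup.iff_card.mp hQp
    rw [Nat.card_zpowers, hj]
    exact ((hp.out.coprime_iff_not_dvd).mpr hs).symm.pow_right j
  let E : Subgroup G := Z ⊔ Q
  haveI := Fintype.ofFinite E
  haveI := Fintype.ofFinite (IrrCharacter E)
  have hEc : Nat.card E = orderOf s * Nat.card Q := by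
    rw [Frobenius.card_sup_of_disjoint (hZQ.trans (Subgroup.centralizer_le_normalizer _))
      (disjoint_iff.mpr (Subgroup.inf_eq_bot_of_coprime hcoZQ)), Nat.card_zpowers]
  have hsE : s ∈ E := (le_sup_left : Z ≤ E) (Subgroup.mem_zpowers s)
  let s' : E := ⟨s, hsE⟩
  have hEs : ∀ y ∈ E, y * s = s * y := fun y hy => by
    have hle : E ≤ Subgroup.centralizer {s} := sup_le
      (Subgroup.zpowers_le.mpr (Subgroup.mem_centralizer_singleton_iff.mpr rfl))
      (fun q hq => Subgroup.mem_centralizer_singleton_iff.mpr (hQs q hq))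
    exact Subgroup.mem_centralizer_singleton_iff.mp (hle hy)
  have hs'c : s' ∈ Subgroup.center E :=
    Subgroup.mem_center_iff.mpr fun y => Subtype.ext (hEs y y.2)
  let Qp : Subgroup E := Q.subgroupOf E
  haveI : Qp.Normal := by
    refine (Subgroup.normal_subgroupOf_iff_le_normalizer le_sup_right).mpr
      (sup_le (hZQ.trans (Subgroup.centralizer_le_normalizer _)) Subgroup.le_normalizer)
  haveI := Fintype.ofFinite Qp
  have hQpc : Nat.card Qp = Nat.card Q := Nat.card_congr (Subgroup.subgroupOfEquivOfLe le_sup_right).toEquiv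
  let f : E → ℂ := fun y => if s'⁻¹ * y ∈ Qp then (orderOf s : ℂ) else 0
  have hfcls : IsClassFunction E f := by
    intro y z
    simp only [f]
    have e : s'⁻¹ * (z * y * z⁻¹) = z * (s'⁻¹ * y) * z⁻¹ := by
      rw [← mul_assoc, ← mul_assoc, ← Subgroup.mem_center_iff.mp (inv_mem hs'c) z, mul_assoc z]
    have e2 : z * (s'⁻¹ * y) * z⁻¹ ∈ Qp ↔ s'⁻¹ * y ∈ Qp :=
      ⟨fun hh => by simpa [mul_assoc] using Subgroup.Normal.conj_mem ‹_› _ hh z⁻¹,
        fun hh => Subgroup.Normal.conj_mem ‹_› _ hh z⟩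
    rw [e]
    simp only [e2]
  have hcoef : ∀ ψ : IrrCharacter E, IsIntegral ℤ (classInner f (ψ : E → ℂ)) := by
    intro ψ
    obtain ⟨ψ, n, σ, hσ, rfl⟩ := ψ
    obtain ⟨c, hc⟩ := CharApp.exists_scalar_of_mem_center σ hs'c
    have hcpow : c ^ orderOf s = 1 := by
      haveI := CharApp.nontrivial_of_irr σ
      have h1 := congrArg (σ ·) (pow_orderOf_eq_one s')
      simp only [map_pow, map_one, hc, smul_pow, one_pow] at h1
      obtain ⟨v, hv⟩ := exists_ne (0 : Fin n → ℂ)
      have h2 := LinearMap.congr_fun h1 v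
      simp only [LinearMap.smul_apply, Module.End.one_apply] at h2
      rw [← Subgroup.orderOf_coe] at h2
      exact smul_left_injective ℂ hv (h2.trans (one_smul ℂ v).symm)
    have hval : classInner f σ.character =
        (starRingEnd ℂ) c * ((Nat.card Qp : ℂ)⁻¹ * ∑ q : Qp, (starRingEnd ℂ) (σ.character (q : E))) := by
      simp only [classInner]
      rw [← Equiv.sum_comp (Equiv.mulLeft s')]
      simp only [f, Equiv.coe_mulLeft, inv_mul_cancel_left, ite_mul, zero_mul]
      rw [← Finset.sum_filter, Finset.sum_subtype (p := (· ∈ Qp)) _ (fun y => by simp)]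
      simp only [Representation.character, map_mul σ, hc, smul_mul_assoc, one_mul, map_smul,
        smul_eq_mul, map_mul (starRingEnd ℂ)]
      rw [← Finset.mul_sum, ← Finset.mul_sum, hEc, hQpc]
      have ho : (orderOf s : ℂ) ≠ 0 := Nat.cast_ne_zero.mpr (orderOf_pos s).ne'
      have hq : (Nat.card Q : ℂ) ≠ 0 := Nat.cast_ne_zero.mpr Nat.card_pos.ne'
      push_cast
      field_simp
    have hint : ∃ k : ℕ, ∑ q : Qp, (starRingEnd ℂ) (σ.character (q : E)) = (Nat.card Qp : ℂ) * k := by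
      refine ⟨Module.finrank ℂ (Representation.invariants
        (σ.comp Qp.subtype : Representation ℂ Qp (Fin n → ℂ))), ?_⟩
      rw [← map_sum]
      have h1 := CharApp.sum_char_eq_card_mul (σ.comp Qp.subtype : Representation ℂ Qp (Fin n → ℂ))
      change ∑ q : Qp, σ.character (q : E) = _ at h1
      rw [h1, map_mul, Complex.conj_natCast, Complex.conj_natCast]
    obtain ⟨k, hk⟩ := hint
    rw [hval, hk, ← mul_assoc (Nat.card Qp : ℂ)⁻¹, inv_mul_cancel₀ (Nat.cast_ne_zero.mpr Nat.card_pos.ne'),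
      one_mul]
    refine IsIntegral.mul ?_ ?_
    · refine IsIntegral.of_pow (orderOf_pos s) ?_
      rw [← map_pow, hcpow, map_one]
      exact isIntegral_one
    · exact (isIntegral_algebraMap (R := ℤ) (A := ℂ) (x := (k : ℤ))) |> fun hh => by simpa using hh
  let F := indFun E f
  have hFst : MemLocalIdeal M (F s - F t) := by
    have e : F = ∑ ψ : IrrCharacter E, classInner f (ψ : E → ℂ) • indFun E (ψ : E → ℂ) := by
      show indFun E f = _
      conv_lhs => rw [Char.classFunction_eq_sum hfcls]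
      rw [Char.indFun_sum]
      simp only [Char.indFun_smul]
    rw [e]
    simp only [Finset.sum_apply, Pi.smul_apply, smul_eq_mul, ← Finset.sum_sub_distrib, ← mul_sub]
    exact memI_sum hM _ fun ψ _ => memI_mul_left hM (memR_of_isIntegral hM (hcoef ψ))
      (hchar _ (Char.IsCharacter.indFun E (Char.IsIrrCharacter.isCharacter ψ.2)))
  have hkey : ∀ y : G, ¬ p ∣ orderOf y → ∀ x : G,
      extendByZero E f (x⁻¹ * y * x) = if x⁻¹ * y * x = s then (orderOf s : ℂ) else 0 := by
    intro y hy x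
    by_cases hxE : x⁻¹ * y * x ∈ E
    · rw [Char.extendByZero_mem E f hxE]
      simp only [f]
      by_cases hxs : x⁻¹ * y * x = s
      · rw [if_pos hxs, if_pos]
        show ((s'⁻¹ * ⟨_, hxE⟩ : E) : G) ∈ Q
        simp only [Subgroup.coe_mul, Subgroup.coe_inv, s', hxs, inv_mul_cancel]
        exact Q.one_mem
      · rw [if_neg hxs, if_neg]
        intro hmem
        have hu : s⁻¹ * (x⁻¹ * y * x) ∈ Q := by simpa [Qp, Subgroup.mem_subgroupOf, s'] using hmem
        obtain ⟨j, hj⟩ := IsPGroup.iff_orderOf.mp hQp ⟨_, hu⟩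
        rw [Subgroup.orderOf_mk] at hj
        have hcm : Commute s (x⁻¹ * y * x) := (hEs _ hxE).symm
        have ho : orderOf (x⁻¹ * y * x) = orderOf y :=
          by simpa using (MulAut.conj x⁻¹).orderOf_eq y
        have h1 := hcm.inv_left.orderOf_mul_dvd_lcm
        rw [orderOf_inv, ho, hj] at h1
        have h2 : p ^ j = 1 := Nat.eq_one_of_dvd_coprimes
          (Nat.Coprime.pow_left j ((Nat.Coprime.mul_right ((hp.out.coprime_iff_not_dvd).mpr hs)
            ((hp.out.coprime_iff_not_dvd).mpr hy)))) dvd_rfl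
          (h1.trans (Nat.lcm_dvd_mul _ _))
        rw [h2, orderOf_eq_one_iff, inv_mul_eq_one] at hj
        exact hxs hj.symm
    · rw [Char.extendByZero_not_mem E f hxE, if_neg]
      intro hh
      exact hxE (hh ▸ hsE)
  have hFt : F t = 0 := by
    show indFun E f t = 0
    rw [indFun, Finset.sum_eq_zero, mul_zero]
    intro x _
    rw [hkey t ht, if_neg]
    intro hh
    exact hst (isConj_iff.mpr ⟨x, by rw [← hh]; group⟩)
  have hFs : F s = ((Nat.card C : ℂ)) / (Nat.card Q : ℂ) := by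
    show indFun E f s = _
    rw [indFun, Finset.sum_congr rfl fun x _ => hkey s hs x, ← Finset.sum_filter, Finset.sum_const,
      nsmul_eq_mul, hEc]
    have hc : (Finset.univ.filter fun x : G => x⁻¹ * s * x = s).card = Nat.card C := by
      rw [Nat.card_eq_fintype_card, Fintype.card_subtype]
      congr 1
      refine Finset.filter_congr fun x _ => ?_
      show x⁻¹ * s * x = s ↔ x ∈ Subgroup.centralizer {s}
      rw [Subgroup.mem_centralizer_singleton_iff, mul_assoc, inv_mul_eq_iff_eq_mul]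
      exact eq_comm
    rw [hc]
    have ho : (orderOf s : ℂ) ≠ 0 := Nat.cast_ne_zero.mpr (orderOf_pos s).ne'
    have hq : (Nat.card Q : ℂ) ≠ 0 := Nat.cast_ne_zero.mpr Nat.card_pos.ne'
    push_cast
    field_simp
  have hCQ : (Nat.card C : ℂ) / (Nat.card Q : ℂ) = ((Q₀ : Subgroup C).index : ℂ) := by
    rw [← (Q₀ : Subgroup C).card_mul_index,
      show Nat.card (Q₀ : Subgroup C) = Nat.card Q from
        Nat.card_congr ((Q₀ : Subgroup C).equivMapOfInjective _ C.subtype_injective).toEquiv]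
    push_cast
    field_simp
  rw [hFt, sub_zero, hFs, hCQ] at hFst
  exact not_memI_natCast hM Q₀.not_dvd_index hFst


/-- Let G be a finite group, p a prime and p^a the p-part of the order of G. Let x, y ∈ G and let x′, y′ be their p-regular parts: x′ has order prime to p, commutes with x·x′⁻¹, and x·x′⁻¹ has p-power order (likewise for y). Then x′ and y′ are conjugate in G if and only if for every irreducible character χ of G the algebraic integer χ(x)^(p^a) − χ(y)^(p^a) is p times an algebraic integer. -/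
theorem result {G : Type*} [Group G] [Finite G] (p : ℕ) [Fact p.Prime] (x y x' y' : G)
    (hx : (∃ k : ℕ, orderOf (x * x'⁻¹) = p ^ k) ∧ Commute (x * x'⁻¹) x' ∧ ¬ p ∣ orderOf x')
    (hy : (∃ k : ℕ, orderOf (y * y'⁻¹) = p ^ k) ∧ Commute (y * y'⁻¹) y' ∧ ¬ p ∣ orderOf y') :
    IsConj x' y' ↔ ∀ χ : Cfsg.IrrCharacter G, ∃ γ : Cfsg.AlgInt,
      (χ : G → ℂ) x ^ (p ^ (Nat.card G).factorization p) - (χ : G → ℂ) y ^ (p ^ (Nat.card G).factorization p) = (p : ℂ) * (γ : ℂ) := by
  set a := (Nat.card G).factorization p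
  obtain ⟨⟨k, hk⟩, hxc, hxr⟩ := hx
  obtain ⟨⟨l, hl⟩, hyc, hyr⟩ := hy
  have hxq : x ^ p ^ a = x' ^ p ^ a := pow_q_eq hk hxc
  have hyq : y ^ p ^ a = y' ^ p ^ a := pow_q_eq hl hyc
  constructor
  · intro hconj χ
    have hχ := Char.IsIrrCharacter.isCharacter χ.2
    obtain ⟨r₁, hr₁, e₁⟩ := CentralChar.frobenius_congr (p := p) Fact.out a hχ x
    obtain ⟨r₂, hr₂, e₂⟩ := CentralChar.frobenius_congr (p := p) Fact.out a hχ y
    refine ⟨⟨r₁ - r₂, hr₁.sub hr₂⟩, ?_⟩
    have heq : (χ : G → ℂ) (x ^ p ^ a) = (χ : G → ℂ) (y ^ p ^ a) := by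
      rw [hxq, hyq]
      obtain ⟨c, hc⟩ := isConj_iff.mp hconj
      rw [← hc, conj_pow, Char.IsIrrCharacter.isClassFunction χ.2]
    show _ = (p : ℂ) * (r₁ - r₂)
    linear_combination e₁ - e₂ + heq
  · intro h
    obtain ⟨M, hM⟩ := CentralChar.exists_pModular p
    have hco : ∀ z : G, ¬ p ∣ orderOf z → (p ^ a).Coprime (orderOf z) := fun z hz =>
      (((Fact.out : p.Prime).coprime_iff_not_dvd).mpr hz).pow_left a
    have hdiv : ∀ z : G, ¬ p ∣ orderOf z → ¬ p ∣ orderOf (z ^ p ^ a) := fun z hz hh =>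
      hz (hh.trans (orderOf_pow_dvd (p ^ a)))
    have hc : IsConj (x' ^ p ^ a) (y' ^ p ^ a) := by
      refine isConj_of_congr hM (hdiv _ hxr) (hdiv _ hyr) fun χ => ?_
      have hχ := Char.IsIrrCharacter.isCharacter χ.2
      obtain ⟨γ, hγ⟩ := h χ
      rw [← hxq, ← hyq]
      have h1 := CentralChar.memI_frobenius hM a hχ x
      have h2 := CentralChar.memI_frobenius hM a hχ y
      have h3 : MemLocalIdeal M ((χ : G → ℂ) x ^ p ^ a - (χ : G → ℂ) y ^ p ^ a) := by
        rw [hγ]
        exact memI_mul_right hM (memI_p hM) (memR_coe hM γ)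
      have h4 := memI_sub hM (memI_add hM h3 h2) h1
      convert h4 using 1
      ring
    obtain ⟨c, hc'⟩ := isConj_iff.mp hc
    refine isConj_iff.mpr ⟨c, ?_⟩
    -- `y'` and the conjugate of `x'` have order prime to `p` and the same `p ^ a`-th power
    have ho : orderOf (c * x' * c⁻¹) = orderOf x' :=
      by simpa using (MulAut.conj c).orderOf_eq x'
    have hpe : (c * x' * c⁻¹) ^ p ^ a = y' ^ p ^ a := by rw [conj_pow]; exact hc'
    obtain ⟨m₁, hm₁⟩ := exists_pow_eq_self_of_coprime (x := c * x' * c⁻¹) (n := p ^ a)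
      (ho.symm ▸ hco x' hxr)
    obtain ⟨m₂, hm₂⟩ := exists_pow_eq_self_of_coprime (x := y') (n := p ^ a) (hco y' hyr)
    have hcm : Commute (c * x' * c⁻¹) y' := by
      have h5 := (Commute.refl (y' ^ p ^ a)).pow_pow m₁ m₂
      rw [hm₂] at h5
      rwa [show (y' ^ p ^ a) ^ m₁ = c * x' * c⁻¹ by rw [← hpe, hm₁]] at h5
    have h6 : ((c * x' * c⁻¹) * y'⁻¹) ^ p ^ a = 1 := by
      rw [hcm.inv_right.mul_pow, inv_pow, hpe, mul_inv_cancel]
    have h7 : orderOf ((c * x' * c⁻¹) * y'⁻¹) ∣ orderOf x' * orderOf y' := by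
      refine hcm.inv_right.orderOf_mul_dvd_lcm.trans ?_
      rw [orderOf_inv, ho]
      exact Nat.lcm_dvd_mul _ _
    have h8 := Nat.eq_one_of_dvd_coprimes (Nat.Coprime.mul_right (hco x' hxr) (hco y' hyr))
      (orderOf_dvd_of_pow_eq_one h6) h7
    exact mul_inv_eq_one.mp (orderOf_eq_one_iff.mp h8)

end Cfsg.Agent.S4604
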