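import Cfsg.Statements.S4675
import Cfsg.Agent.Lib.RegPart.Basic

set_option autoImplicit false
open Cfsg

namespace Cfsg.Agent.S4675

/-- Fix a prime p and a maximal ideal M of the algebraic integers containing p. Let B be a p-block of the finite group G with defect group P and p-regular rank one (a single irreducible Brauer character). Then there are a function φ on G that is, on the p-regular elements, an integer combination of the members of B, and natural numbers d_χ (χ ∈ B), such that every χ ∈ B agrees with d_χ·φ on the p-regular elements and Σ_{χ ∈ B} d_χ² equals the order of P (the single Cartan invariant of B is the order of P). -/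
theorem result {G : Type*} [Group G] [Fintype G] (p : ℕ) [Fact p.Prime] (M : Ideal Cfsg.AlgInt) (hM : Cfsg.IsPModular p M) (B : Set (Cfsg.IrrCharacter G)) (hB : Cfsg.IsPBlock M B) (P : Subgroup G) (hP : Cfsg.IsDefectGroup p M B P) (hl : Cfsg.blockRank p B = 1) : ∃ φ : G → ℂ, ∃ d : Cfsg.IrrCharacter G → ℕ, (∃ n : Cfsg.IrrCharacter G → ℤ, ∀ x : G, Cfsg.IsPRegular p x → φ x = ∑ᶠ ψ ∈ B, (n ψ : ℂ) * (ψ : G → ℂ) x) ∧ (∀ χ ∈ B, ∀ x : G, Cfsg.IsPRegular p x → (χ : G → ℂ) x = (d χ : ℂ) * φ x) ∧ ∑ᶠ χ ∈ B, d χ ^ 2 = Nat.card P := by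
  classical
  have := Fintype.ofFinite (IrrCharacter G)
  have hp : p.Prime := hM.1
  set T := Finset.univ.filter (· ∈ B) with hT
  have hmemT : ∀ {χ}, χ ∈ T ↔ χ ∈ B := fun {χ} => by simp [T]
  have hfin : ∀ {β : Type} [AddCommMonoid β] (f : IrrCharacter G → β),
      ∑ᶠ χ ∈ B, f χ = ∑ χ ∈ T, f χ := by
    intro β _ f
    rw [finsum_mem_eq_sum_of_inter_support_eq]
    ext; simp [T]
  obtain ⟨e, h, χ₀, hχ₀, hea, hdef, hdeg, hh, hall⟩ := BlockDefect.exists_degrees hM hB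
  let D : IrrCharacter G → ℕ := fun χ => charDegree (χ : G → ℂ)
  have hD : ∀ χ : IrrCharacter G, (χ : G → ℂ) 1 = (D χ : ℂ) := fun χ => (Blocks.charDegree_cast χ).symm
  have hD0 : (D χ₀ : ℂ) ≠ 0 := Nat.cast_ne_zero.2 (Blocks.charDegree_pos χ₀).ne'
  have hreg1 : IsPRegular p (1 : G) := by simp [IsPRegular, hp.ne_one]
  -- all members are proportional on the regular elements
  let r : IrrCharacter G → G → ℂ := fun χ => pRegularPart p (χ : G → ℂ)
  have hr1 : ∀ χ, r χ 1 = (D χ : ℂ) := fun χ => by simp [r, pRegularPart, hreg1, hD]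
  have hprop : ∀ χ ∈ B, ∀ x, IsPRegular p x →
      (χ : G → ℂ) x = (D χ : ℂ) / (D χ₀ : ℂ) * (χ₀ : G → ℂ) x := by
    intro χ hχ x hx
    set W := Submodule.span ℂ ((fun χ : IrrCharacter G => pRegularPart p (χ : G → ℂ)) '' B)
    let v : W := ⟨r χ₀, Submodule.subset_span ⟨χ₀, hχ₀, rfl⟩⟩
    let w : W := ⟨r χ, Submodule.subset_span ⟨χ, hχ, rfl⟩⟩
    have hv : v ≠ 0 := fun h0 => hD0 (by
      rw [← hr1]; exact congrFun (congrArg Subtype.val h0) 1)
    obtain ⟨c, hc⟩ := (finrank_eq_one_iff_of_nonzero' v hv).1 hl w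
    have hc' : ∀ y, c * r χ₀ y = r χ y := fun y => congrFun (congrArg Subtype.val hc) y
    have h1 := hc' 1
    rw [hr1, hr1] at h1
    have h2 := hc' x
    simp only [r, pRegularPart, hx, if_true] at h2
    rw [← h1, ← h2]
    field_simp
  -- a Bezout combination of the degrees
  obtain ⟨z, g, hg0, hgdvd, hzg⟩ : ∃ (z : IrrCharacter G → ℤ) (g : ℕ), g ≠ 0 ∧
      (∀ χ ∈ B, g ∣ D χ) ∧ ∑ χ ∈ T, z χ * (D χ : ℤ) = (g : ℤ) := by
    let L : (IrrCharacter G → ℤ) →+ ℤ :=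
      { toFun := fun z => ∑ χ ∈ T, z χ * (D χ : ℤ)
        map_zero' := by simp
        map_add' := fun a b => by simp [add_mul, Finset.sum_add_distrib] }
    obtain ⟨a, ha⟩ := Int.subgroup_cyclic L.range
    obtain ⟨z, hz⟩ : a ∈ L.range := ha ▸ AddSubgroup.subset_closure rfl
    have hdvd : ∀ χ ∈ B, a ∣ (D χ : ℤ) := by
      intro χ hχ
      have hin : (D χ : ℤ) ∈ L.range := ⟨fun ψ => if ψ = χ then 1 else 0, by
        simp [L, hmemT.2 hχ]⟩
      rw [ha, AddSubgroup.mem_closure_singleton] at hin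
      obtain ⟨n, hn⟩ := hin
      exact ⟨n, by rw [← hn, smul_eq_mul, mul_comm]⟩
    have ha0 : a ≠ 0 := fun h0 => by
      have := hdvd χ₀ hχ₀
      rw [h0, zero_dvd_iff] at this
      exact (Blocks.charDegree_pos χ₀).ne' (Int.natCast_eq_zero.1 this)
    have hgd : ∀ χ ∈ B, a.natAbs ∣ D χ := fun χ hχ => Int.natAbs_dvd_natAbs.2 (hdvd χ hχ)
    rcases Int.natAbs_eq a with h | h
    · exact ⟨z, _, Int.natAbs_ne_zero.2 ha0, hgd, hz.trans h⟩
    · refine ⟨-z, _, Int.natAbs_ne_zero.2 ha0, hgd, ?_⟩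
      have := map_neg L z
      rw [hz] at this
      exact this.trans (by omega)
  let d : IrrCharacter G → ℕ := fun χ => D χ / g
  have hdg : ∀ χ ∈ B, D χ = g * d χ := fun χ hχ => (Nat.mul_div_cancel' (hgdvd χ hχ)).symm
  let φ : G → ℂ := fun x => ∑ᶠ ψ ∈ B, (z ψ : ℂ) * (ψ : G → ℂ) x
  have hφ : ∀ x, IsPRegular p x → φ x = (g : ℂ) / (D χ₀ : ℂ) * (χ₀ : G → ℂ) x := by
    intro x hx
    rw [show φ x = _ from hfin _, Finset.sum_congr rfl fun ψ hψ => by rw [hprop ψ (hmemT.1 hψ) x hx]]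
    have h' : (∑ χ ∈ T, (z χ : ℂ) * (D χ : ℂ)) = (g : ℂ) := by exact_mod_cast congrArg (Int.cast : ℤ → ℂ) hzg
    rw [← h', Finset.sum_div, Finset.sum_mul]
    exact Finset.sum_congr rfl fun ψ _ => by ring
  have hagree : ∀ χ ∈ B, ∀ x, IsPRegular p x → (χ : G → ℂ) x = (d χ : ℂ) * φ x := by
    intro χ hχ x hx
    rw [hφ x hx, hprop χ hχ x hx, hdg χ hχ]
    push_cast
    ring
  refine ⟨φ, d, ⟨z, fun x _ => rfl⟩, hagree, ?_⟩
  set c := classInner (pRegularPart p φ) (pRegularPart p φ)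
  have hinner : ∀ χ ∈ B, ∀ ψ ∈ B,
      classInner (r χ) (ψ : G → ℂ) = (d χ : ℂ) * (d ψ : ℂ) * c := by
    intro χ hχ ψ hψ
    simp only [c, classInner, Finset.mul_sum]
    refine Finset.sum_congr rfl fun x _ => ?_
    by_cases hx : IsPRegular p x
    · simp only [r, pRegularPart, hx, if_true, hagree χ hχ x hx, hagree ψ hψ x hx, map_mul,
        Complex.conj_natCast]
      ring
    · simp [r, pRegularPart, hx]
  set S := ∑ χ ∈ T, d χ ^ 2 with hS
  have hg0' : (g : ℂ) ≠ 0 := Nat.cast_ne_zero.2 hg0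
  have hcS : c * (S : ℂ) = 1 := by
    have h1 := RegPart.regPart_eq_sum (p := p) hM hB hχ₀ (1 : G)
    rw [hfin, show pRegularPart p (χ₀ : G → ℂ) 1 = _ from hr1 χ₀,
      Finset.sum_congr rfl fun ψ hψ => by
        rw [show classInner (pRegularPart p (χ₀ : G → ℂ)) (ψ : G → ℂ) = _ from
          hinner χ₀ hχ₀ ψ (hmemT.1 hψ), hD ψ, hdg ψ (hmemT.1 hψ)]] at h1
    have hd0 : (d χ₀ : ℂ) ≠ 0 := fun h0 => hD0 (by rw [hdg χ₀ hχ₀, Nat.cast_mul, h0, mul_zero])
    refine mul_left_cancel₀ (mul_ne_zero hg0' hd0) ?_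
    rw [mul_one, ← Nat.cast_mul, ← hdg χ₀ hχ₀]
    conv_rhs => rw [h1]
    rw [hdg χ₀ hχ₀, hS, Nat.cast_sum, Finset.mul_sum, Finset.mul_sum]
    refine Finset.sum_congr rfl fun ψ _ => ?_
    push_cast; ring
  obtain ⟨k, hk⟩ : ∃ k : ℤ, (p : ℂ) ^ blockDefect p B * c = k := by
    choose n hn using fun (χ : IrrCharacter G) (ψ : B) => RegPart.exists_int_defect hM hB χ ψ.2
    let w : IrrCharacter G → IrrCharacter G → ℤ := fun χ ψ =>
      if hψ : ψ ∈ B then z χ * z ψ * n χ ⟨ψ, hψ⟩ else 0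
    refine ⟨∑ χ ∈ T, ∑ ψ ∈ T, w χ ψ, ?_⟩
    have hsum : (∑ χ ∈ T, (z χ : ℂ) * (d χ : ℂ)) = 1 := by
      refine mul_left_cancel₀ hg0' ?_
      rw [mul_one, Finset.mul_sum, Finset.sum_congr rfl (g := fun χ => ((z χ * (D χ : ℤ) : ℤ) : ℂ))
        (fun χ hχ => by rw [hdg χ (hmemT.1 hχ)]; push_cast; ring), ← Int.cast_sum, hzg, Int.cast_natCast]
    calc (p : ℂ) ^ blockDefect p B * c = (p : ℂ) ^ blockDefect p B * c *
          ((∑ χ ∈ T, (z χ : ℂ) * (d χ : ℂ)) * ∑ ψ ∈ T, (z ψ : ℂ) * (d ψ : ℂ)) := by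
            rw [hsum]; ring
      _ = _ := by
        rw [Finset.sum_mul_sum, Finset.mul_sum, Int.cast_sum]
        refine Finset.sum_congr rfl fun χ hχ => ?_
        rw [Finset.mul_sum, Int.cast_sum]
        refine Finset.sum_congr rfl fun ψ hψ => ?_
        simp only [w, dif_pos (hmemT.1 hψ)]
        push_cast
        rw [← hn χ ⟨ψ, hmemT.1 hψ⟩, show classInner (pRegularPart p (χ : G → ℂ)) (ψ : G → ℂ) = _ from
          hinner χ (hmemT.1 hχ) ψ (hmemT.1 hψ)]
        ring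
  have hdvd : S ∣ p ^ blockDefect p B := by
    have e1 : (((p ^ blockDefect p B : ℕ) : ℤ) : ℂ) = ((k * (S : ℤ) : ℤ) : ℂ) := by
      push_cast
      rw [← hk, mul_assoc, hcS, mul_one]
    exact Int.natCast_dvd_natCast.1 ⟨k, by rw [mul_comm]; exact_mod_cast e1⟩
  obtain ⟨N, hN, hsq⟩ := BlockDefect.exists_sum_sq hM hB hχ₀ hdeg hh hall
  have hS0 : S ≠ 0 := fun h0 => by simp [h0] at hcS
  have hsq' : g ^ 2 * S = p ^ ((Nat.card G).factorization p + e) * N := by
    rw [← hsq, hS, Finset.mul_sum]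
    exact Finset.sum_congr rfl fun χ hχ => by
      rw [← mul_pow, ← hdg χ (hmemT.1 hχ)]
  have hge : g.factorization p = e := by
    refine le_antisymm ?_ ((hp.pow_dvd_iff_le_factorization hg0).1 ?_)
    · have h' := (Nat.factorization_le_iff_dvd hg0 (Blocks.charDegree_pos χ₀).ne').2 (hgdvd χ₀ hχ₀) p
      refine h'.trans_eq ?_
      rw [hdeg, Nat.factorization_mul (pow_ne_zero _ hp.ne_zero) (show h ≠ 0 from fun h0 => hh (h0 ▸ dvd_zero p)),
        Finsupp.add_apply, hp.factorization_pow, Finsupp.single_eq_same,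
        Nat.factorization_eq_zero_of_not_dvd hh, add_zero]
    · apply Int.natCast_dvd_natCast.1
      rw [← hzg]
      exact Finset.dvd_sum fun χ hχ =>
        dvd_mul_of_dvd_right (Int.natCast_dvd_natCast.2 (hall χ (hmemT.1 hχ))) _
  have hN0 : N ≠ 0 := fun h0 => hN (h0 ▸ dvd_zero p)
  have hv := congrArg (fun n => n.factorization p) hsq'
  simp only [Nat.factorization_mul (pow_ne_zero _ hg0) hS0, Nat.factorization_mul (pow_ne_zero _ hp.ne_zero) hN0,
    Finsupp.add_apply, Nat.factorization_pow, Finsupp.smul_apply, smul_eq_mul, hge,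
    hp.factorization_self, Nat.factorization_eq_zero_of_not_dvd hN, add_zero, mul_one] at hv
  obtain ⟨j, hj, hSj⟩ := (Nat.dvd_prime_pow hp).1 hdvd
  rw [hfin, ← hS, Blocks.card_defectGroup hM hB hP, hSj]
  rw [hSj, hp.factorization_pow, Finsupp.single_eq_same] at hv
  congr 1
  omega

end Cfsg.Agent.S4675
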