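import Cfsg.Statements.S4608
import Cfsg.Agent.Lib.BlockFive.Main
import Cfsg.Agent.Lib.BlockFive.Eight
import Cfsg.Agent.Lib.CycDefect.RankOne
import Cfsg.Agent.S4675

set_option autoImplicit false
open Cfsg

namespace Cfsg.Agent.S4608

/-- Let G be a finite group, p a prime, M a maximal ideal of the algebraic integers containing p, and B a p-block of G with defect group D. If B has p-regular rank one and exactly five irreducible characters, then D is cyclic of order 5, or D has order 8 and is non-abelian (dihedral or quaternion). -/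
theorem result {G : Type*} [Group G] [Finite G] (p : ℕ) [Fact p.Prime] (M : Ideal Cfsg.AlgInt) (hM : Cfsg.IsPModular p M) (B : Set (Cfsg.IrrCharacter G)) (hB : Cfsg.IsPBlock M B) (D : Subgroup G) (hD : Cfsg.IsDefectGroup p M B D)
    (hl : Cfsg.blockRank p B = 1) (hk : Nat.card B = 5) :
    (Nat.card D = 5) ∨ (Nat.card D = 8 ∧ ¬ IsMulCommutative D) := by
  open Cfsg.Agent.Blocks Cfsg.Agent.BrauerPairs in
  classical
  have := Fintype.ofFinite G
  have := Fintype.ofFinite (IrrCharacter G)
  have hp : p.Prime := hM.1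
  -- five positive squares
  obtain ⟨φ, d, -, hd, hsum⟩ := S4675.result p M hM B hB D hD hl
  have hdpos : ∀ χ ∈ B, 1 ≤ d χ := fun χ hχ => Nat.pos_of_ne_zero fun h0 => by
    have h := hd χ hχ 1 (by simp [IsPRegular, hp.ne_one])
    rw [h0, Nat.cast_zero, zero_mul] at h
    exact Blocks.irr_one_ne_zero χ h
  rw [finsum_mem_eq_finite_toFinset_sum _ (Set.toFinite B)] at hsum
  have hcard5 : (Set.toFinite B).toFinset.card = 5 := by
    rw [← Set.ncard_eq_toFinset_card B (Set.toFinite B), ← Nat.card_coe_set_eq, hk]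
  -- the Cartan invariant
  obtain ⟨e, h, χ, hχ, hea, hdef, hdeg, hh, hall⟩ := BlockDefect.exists_degrees hM hB
  obtain ⟨N, hN, hsq⟩ := BlockDefect.exists_sum_sq hM hB hχ hdeg hh hall
  obtain ⟨n, c, hc, hdim, hdvd⟩ := BlockFive.exists_dims_of_rank_one hM hB hl hk.le
  have hdegsum : BlockTwo.degSum B = p ^ ((Nat.card G).factorization p + e) * N := by
    rw [← hsq, BlockTwo.degSum]
    exact Finset.sum_congr (by ext χ; simp) fun _ _ => rfl
  set a := (Nat.card G).factorization p
  have hN0 : N ≠ 0 := fun h0 => hN (h0 ▸ dvd_zero p)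
  have hne : c * (n * n) ≠ 0 := by
    rw [← hdim, hdegsum]
    exact mul_ne_zero (pow_ne_zero _ hp.ne_zero) hN0
  have hc0 : c ≠ 0 := fun h => hne (by rw [h, zero_mul])
  have hn0 : n ≠ 0 := fun h => hne (by rw [h, mul_zero, mul_zero])
  have hv : a + e = c.factorization p + (n.factorization p + n.factorization p) := by
    have h1 : (p ^ (a + e) * N).factorization p = a + e := by
      rw [Nat.factorization_mul (pow_ne_zero _ hp.ne_zero) hN0,
        Finsupp.add_apply, hp.factorization_pow, Finsupp.single_eq_same,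
        Nat.factorization_eq_zero_of_not_dvd hN, add_zero]
    rw [← h1, ← hdegsum, hdim, Nat.factorization_mul hc0 (mul_ne_zero hn0 hn0),
      Nat.factorization_mul hn0 hn0]
    simp only [Finsupp.add_apply]
  have hpa : a ≤ c.factorization p + n.factorization p := by
    have := (hp.pow_dvd_iff_le_factorization (mul_ne_zero hc0 hn0)).mp hdvd
    rwa [Nat.factorization_mul hc0 hn0, Finsupp.add_apply] at this
  have hD11 : Nat.card D ≤ 11 := by
    rw [Blocks.card_defectGroup hM hB hD, hdef]
    refine le_trans ?_ hc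
    exact Nat.le_of_dvd (Nat.pos_of_ne_zero hc0)
      ((hp.pow_dvd_iff_le_factorization hc0).mpr (by omega))
  -- the possible orders
  have hd2 : ∀ χ ∈ (Set.toFinite B).toFinset, d χ ≤ 2 := by
    intro χ hχ
    by_contra hlt
    have h9 : 3 * 3 ≤ d χ ^ 2 := by
      rw [sq]
      exact Nat.mul_le_mul (by omega) (by omega)
    rw [← Finset.add_sum_erase _ _ hχ] at hsum
    have h4 : 4 ≤ ∑ ψ ∈ (Set.toFinite B).toFinset.erase χ, d ψ ^ 2 := by
      refine le_trans (le_of_eq ?_) (Finset.card_nsmul_le_sum _ _ 1 fun ψ hψ =>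
        Nat.one_le_pow _ _ (hdpos ψ ((Set.toFinite B).mem_toFinset.mp (Finset.mem_of_mem_erase hψ))))
      rw [Finset.card_erase_of_mem hχ, hcard5, smul_eq_mul, mul_one]
    omega
  obtain ⟨m, hm⟩ : ∃ m, Nat.card D = 5 + 3 * m := by
    refine ⟨∑ χ ∈ (Set.toFinite B).toFinset, (d χ - 1), ?_⟩
    rw [← hsum, ← hcard5, Finset.card_eq_sum_ones, Finset.mul_sum, ← Finset.sum_add_distrib]
    refine Finset.sum_congr rfl fun χ hχ => ?_
    have h1 := hdpos χ ((Set.toFinite B).mem_toFinset.mp hχ)
    have h2 := hd2 χ hχ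
    interval_cases d χ <;> rfl
  obtain ⟨c', hc'⟩ := BrauerPairs.exists_pair_of_defectGroup hM hB hD
  have hmax := BrauerPairs.isMaximal_of_isDefectGroup hM hc' hD
  rcases (show m = 0 ∨ m = 1 ∨ m = 2 by omega) with rfl | rfl | rfl
  · exact Or.inl hm
  · exact Or.inr ⟨hm, BlockFive.not_abelian_eight hM hmax hm hl hk⟩
  · exfalso
    have : Fact (Nat.Prime 11) := ⟨by norm_num⟩
    have hcyc : IsCyclic D := isCyclic_of_prime_card (p := 11) hm
    have hab := CycDefect.comm_of_cyclic hcyc
    have htriv := (S4687.result p M hM B D c' hmax hab).1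
      ((CycDefect.nilpotent_iff_rank_one hM hB hD hcyc).2 hl)
    have h11 := BlockFive.card_of_free hM hmax hab fun t ht x hx => by
      obtain ⟨htN, hts⟩ := (BrauerPairs.mem_pairStab_iff hM hmax.1.1.2).1 ht
      rw [← Subgroup.mem_centralizer_iff.1 (htriv t htN hts) x hx, mul_inv_cancel_right]
    rw [hm, hl, hk] at h11
    omega

end Cfsg.Agent.S4608
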