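import Cfsg.Statements.S4609
import Cfsg.Agent.EqLemmas
import Cfsg.Agent.Lib.BlockThree.Reduce

set_option autoImplicit false
set_option linter.style.haveILetI false
open Cfsg

namespace Cfsg.Agent.S4609

/-- Let G be a finite group, p a prime, M a maximal ideal of the algebraic integers containing p, and B a p-block of G with defect group D containing exactly three irreducible characters. Suppose the number of height-zero characters of B equals the number of height-zero characters of its Brauer correspondent b, the block of N_G(D) with defect group D inducing B (as the Alperin–McKay conjecture predicts). Then D has order 3. -/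
theorem result {G : Type*} [Group G] [Finite G] (p : ℕ) [Fact p.Prime] (M : Ideal Cfsg.AlgInt) (hM : Cfsg.IsPModular p M) (B : Set (Cfsg.IrrCharacter G)) (hB : Cfsg.IsPBlock M B) (D : Subgroup G) (hD : Cfsg.IsDefectGroup p M B D) (hk : Nat.card B = 3)
    (b : Set (Cfsg.IrrCharacter (Subgroup.normalizer (D : Set G)))) (hbB : Cfsg.IsInducedBlock M (Subgroup.normalizer (D : Set G)) b B)
    (hbD : Cfsg.IsDefectGroup p M b (D.subgroupOf (Subgroup.normalizer (D : Set G))))
    (hAM : Nat.card {χ : Cfsg.IrrCharacter G // χ ∈ B ∧ Cfsg.blockHeight p B (χ : G → ℂ) = 0} =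
           Nat.card {ψ : Cfsg.IrrCharacter (Subgroup.normalizer (D : Set G)) // ψ ∈ b ∧ Cfsg.blockHeight p b (ψ : Subgroup.normalizer (D : Set G) → ℂ) = 0}) :
    Nat.card D = 3 := by
  classical
  haveI := Fintype.ofFinite G
  haveI := Fintype.ofFinite (Subgroup.normalizer (D : Set G))
  have hDN : D ≤ (Subgroup.normalizer (D : Set G)) := Subgroup.le_normalizer
  let D' := D.subgroupOf (Subgroup.normalizer (D : Set G))
  haveI : D'.Normal := Subgroup.normal_subgroupOf_of_le_normalizer le_rfl
  have hcard : Nat.card D' = Nat.card D := Nat.card_congr (Subgroup.subgroupOfEquivOfLe hDN).toEquiv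
  have h3 : Nat.card {ψ : IrrCharacter (Subgroup.normalizer (D : Set G)) // ψ ∈ b ∧ blockHeight p b (ψ : (Subgroup.normalizer (D : Set G)) → ℂ) = 0} ≤ 3 := by
    rw [← hAM, ← hk]
    exact Nat.card_le_card_of_injective (fun χ => (⟨χ.1, χ.2.1⟩ : B)) fun x y h =>
      Subtype.ext (congrArg (fun z : B => (z : IrrCharacter G)) h)
  have hA := BlockThree.card_le_three_of_abelianization hM hbB.1 hbD h3
  set A := D'.map (QuotientGroup.mk' ⁅D', D'⁆)
  have hDp := Blocks.isPGroup_defectGroup hM hbD
  -- `|A| ≤ 3` forces `D` to be cyclic of the same order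
  have hcomm : ⁅D', D'⁆ = ⊥ := by
    by_contra hne
    have hmul : Nat.card A * Nat.card (⁅D', D'⁆ : Subgroup (Subgroup.normalizer (D : Set G))) = Nat.card D' := by
      have h1 := (QuotientGroup.mk' ⁅D', D'⁆).subgroupMap D' |>.ker.card_eq_card_quotient_mul_card_subgroup
      rw [Nat.card_congr (QuotientGroup.quotientKerEquivOfSurjective _
        ((QuotientGroup.mk' ⁅D', D'⁆).subgroupMap_surjective D')).toEquiv] at h1
      rw [h1]
      congr 1
      rw [← Nat.card_congr (Subgroup.subgroupOfEquivOfLe (Subgroup.commutator_le_self D')).toEquiv]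
      congr 2
      ext x
      rw [MonoidHom.mem_ker, Subgroup.mem_subgroupOf, Subtype.ext_iff]
      exact (QuotientGroup.eq_one_iff (x : (Subgroup.normalizer (D : Set G)))).symm
    haveI : Group.IsNilpotent D' := hDp.isNilpotent
    have hcyc : IsCyclic (Abelianization D') := by
      have hc : Nat.card (Abelianization D') ≤ 3 := by
        refine le_trans (le_of_eq ?_) hA
        have h1 := (commutator D').card_eq_card_quotient_mul_card_subgroup
        have h2 : Nat.card (commutator D') = Nat.card (⁅D', D'⁆ : Subgroup (Subgroup.normalizer (D : Set G))) := by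
          rw [← Subgroup.map_subtype_commutator, Nat.card_congr
            (Subgroup.equivMapOfInjective _ _ D'.subtype_injective).toEquiv]
        rw [h2, ← hmul] at h1
        exact (Nat.eq_of_mul_eq_mul_right Nat.card_pos h1).symm
      rcases Nat.lt_or_ge (Nat.card (Abelianization D')) 2 with h | h
      · haveI : Subsingleton (Abelianization D') := (Finite.card_le_one_iff_subsingleton).mp (by omega)
        infer_instance
      · have hpr : (Nat.card (Abelianization D')).Prime := by
          interval_cases Nat.card (Abelianization D')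
          · exact Nat.prime_two
          · exact Nat.prime_three
        haveI := Fact.mk hpr
        exact isCyclic_of_prime_card rfl
    haveI := hcyc
    obtain ⟨g, hg⟩ := IsCyclic.exists_generator (α := Abelianization D')
    obtain ⟨g, rfl⟩ := QuotientGroup.mk_surjective g
    have htop : Subgroup.zpowers g ⊔ commutator D' = ⊤ := eq_top_iff.mpr fun x _ => by
      obtain ⟨i, hi⟩ := Subgroup.mem_zpowers_iff.mp (hg (QuotientGroup.mk x : Abelianization D'))
      have h1 : (g ^ i)⁻¹ * x ∈ commutator D' := QuotientGroup.eq.mp hi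
      have := (Subgroup.zpowers g ⊔ commutator D').mul_mem
        (Subgroup.mem_sup_left (zpow_mem (Subgroup.mem_zpowers g) i)) (Subgroup.mem_sup_right h1)
      rwa [mul_inv_cancel_left] at this
    haveI hfr : commutator D' ≤ frattini D' := by
      haveI := Fact.mk hM.1
      exact PGroup.commutator_le_frattini hDp
    have hz : Subgroup.zpowers g = ⊤ := frattini_nongenerating
      (eq_top_iff.mpr (htop ▸ sup_le_sup_left hfr _))
    refine hne (Subgroup.commutator_eq_bot_iff_le_centralizer.mpr fun x hx => ?_)
    refine Subgroup.mem_centralizer_iff.mpr fun y hy => ?_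
    obtain ⟨i, hi⟩ := Subgroup.mem_zpowers_iff.mp (hz ▸ Subgroup.mem_top (⟨x, hx⟩ : D'))
    obtain ⟨j, hj⟩ := Subgroup.mem_zpowers_iff.mp (hz ▸ Subgroup.mem_top (⟨y, hy⟩ : D'))
    exact congrArg Subtype.val (show (⟨y, hy⟩ : D') * ⟨x, hx⟩ = ⟨x, hx⟩ * ⟨y, hy⟩ by
      rw [← hi, ← hj, ← zpow_add, ← zpow_add, add_comm])
  have hAD : Nat.card A = Nat.card D := by
    rw [← hcard]
    refine (Nat.card_congr (D'.equivMapOfInjective (QuotientGroup.mk' ⁅D', D'⁆) ?_).toEquiv).symm
    rw [← MonoidHom.ker_eq_bot_iff, QuotientGroup.ker_mk', hcomm]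
  rw [hAD] at hA
  have hpos : 0 < Nat.card D := Nat.card_pos
  interval_cases hd : Nat.card D
  · -- defect zero
    haveI := Fintype.ofFinite (IrrCharacter G)
    have hbot : D = ⊥ := Subgroup.eq_bot_of_card_eq _ hd
    subst hbot
    have := BlocksNormal.card_block_eq_card_classes hM IsPGroup.of_bot
      (by rw [show Subgroup.centralizer ((⊥ : Subgroup G) : Set G) = ⊤ from eq_top_iff.mpr fun g _ =>
        Subgroup.mem_centralizer_iff.mpr fun x hx => by
          rw [Subgroup.mem_bot.mp hx, one_mul, mul_one], sup_top_eq]) hB hD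
    rw [hk, Char.card_conjClasses_of_comm (fun a b => Subsingleton.elim _ _), hd] at this
    omega
  · have := BlockTwo.card_block_eq_two hM hB hD hd
    omega
  · rfl

end Cfsg.Agent.S4609
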