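import Cfsg.Statements.S4620
import Cfsg.Agent.Lib.Cores.Basic
import Cfsg.Agent.Lib.Solvable.Basic

set_option autoImplicit false
open scoped Pointwise
open Cfsg

namespace Cfsg.Agent.S4620

variable {H : Type*} [Group H] [Finite H] {p : ℕ} [hp : Fact p.Prime]

/-- The trivial intersection property in the form used below, for every Sylow subgroup. -/
theorem mem_normalizer_of_ti {P : Sylow p H}
    (hTI : ∀ g : H, g ∉ Subgroup.normalizer ((P : Subgroup H) : Set H) →
      (P : Subgroup H) ⊓ (MulAut.conj g • (P : Subgroup H)) = ⊥)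
    (P' : Sylow p H) (g y : H) (hy : y ∈ (P' : Subgroup H)) (hy' : g * y * g⁻¹ ∈ (P' : Subgroup H))
    (hy1 : y ≠ 1) : g ∈ Subgroup.normalizer ((P' : Subgroup H) : Set H) := by
  obtain ⟨c, rfl⟩ := MulAction.exists_smul_eq H P P'
  have hmem : ∀ z, z ∈ ((c • P : Sylow p H) : Subgroup H) ↔ c⁻¹ * z * c ∈ (P : Subgroup H) := fun z => by
    show z ∈ MulAut.conj c • (P : Subgroup H) ↔ _
    rw [Subgroup.mem_pointwise_smul_iff_inv_smul_mem]
    simp [MulAut.smul_def]
  have hn : c⁻¹ * g * c ∈ Subgroup.normalizer ((P : Subgroup H) : Set H) := by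
    by_contra hn
    have h1 := hTI _ hn
    rw [eq_bot_iff] at h1
    have h2 : c⁻¹ * (g * y * g⁻¹) * c ∈
        (P : Subgroup H) ⊓ MulAut.conj (c⁻¹ * g * c) • (P : Subgroup H) := by
      refine ⟨(hmem _).mp hy', ?_⟩
      show _ ∈ MulAut.conj _ • (P : Subgroup H)
      rw [Subgroup.mem_pointwise_smul_iff_inv_smul_mem]
      simpa [MulAut.smul_def, mul_assoc] using (hmem _).mp hy
    have h3 := Subgroup.mem_bot.mp (h1 h2)
    apply hy1
    have h4 : g * y * g⁻¹ = 1 := by
      calc g * y * g⁻¹ = c * (c⁻¹ * (g * y * g⁻¹) * c) * c⁻¹ := by group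
        _ = 1 := by rw [h3]; group
    calc y = g⁻¹ * (g * y * g⁻¹) * g := by group
      _ = 1 := by rw [h4]; group
  rw [Subgroup.mem_normalizer_iff] at hn ⊢
  intro z
  rw [hmem, hmem, hn (c⁻¹ * z * c)]
  simp [mul_assoc]

/-- Two commuting subgroups of order divisible by `p`: each has a nontrivial `p`-core. -/
theorem pCore_ne_bot_of_commute {P : Sylow p H}
    (hTI : ∀ g : H, g ∉ Subgroup.normalizer ((P : Subgroup H) : Set H) →
      (P : Subgroup H) ⊓ (MulAut.conj g • (P : Subgroup H)) = ⊥)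
    (A B : Subgroup H) (hA : p ∣ Nat.card A) (hB : p ∣ Nat.card B)
    (hcomm : ∀ a ∈ A, ∀ b ∈ B, a * b = b * a) : Cfsg.pCore p B ≠ ⊥ := by
  obtain ⟨x, hx⟩ := exists_prime_orderOf_dvd_card' p hA
  have hxp : IsPGroup p (Subgroup.zpowers (x : H)) :=
    IsPGroup.of_card (n := 1) (by rw [Nat.card_zpowers, Subgroup.orderOf_coe, hx, pow_one])
  obtain ⟨P', hP'⟩ := hxp.exists_le_sylow
  have hx1 : (x : H) ≠ 1 := by
    intro h
    rw [← Subgroup.orderOf_coe, h, orderOf_one] at hx
    exact hp.out.one_lt.ne hx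
  have hBN : B ≤ Subgroup.normalizer ((P' : Subgroup H) : Set H) := by
    intro b hb
    refine mem_normalizer_of_ti hTI P' b x (hP' (Subgroup.mem_zpowers _)) ?_ hx1
    rw [← hcomm x x.2 b hb, mul_inv_cancel_right]
    exact hP' (Subgroup.mem_zpowers _)
  let K : Subgroup B := (P' : Subgroup H).subgroupOf B
  have hKn : K.Normal := ⟨fun k hk b => (Subgroup.mem_normalizer_iff.mp (hBN b.2) (k : H)).mp hk⟩
  have hKp : IsPGroup p K := P'.isPGroup'.comap_subtype
  obtain ⟨y, hy⟩ := exists_prime_orderOf_dvd_card' p hB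
  have hyK : y ∈ K := by
    show (y : H) ∈ (P' : Subgroup H)
    let N' := Subgroup.normalizer ((P' : Subgroup H) : Set H)
    let P'' : Sylow p N' := P'.subtype Subgroup.le_normalizer
    haveI : (P'' : Subgroup N').Normal := Subgroup.normal_in_normalizer
    have hyp : IsPGroup p (Subgroup.zpowers (⟨y, hBN y.2⟩ : N')) :=
      IsPGroup.of_card (n := 1) (by
        rw [Nat.card_zpowers, Subgroup.orderOf_mk, Subgroup.orderOf_coe, hy, pow_one])
    obtain ⟨S, hS⟩ := hyp.exists_le_sylow
    haveI : Subsingleton (Sylow p N') := (Sylow.unique_of_normal P'' ‹_›).instSubsingleton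
    rw [Subsingleton.elim S P''] at hS
    exact hS (Subgroup.mem_zpowers _)
  intro hbot
  have := Cores.le_pCore hKn hKp hyK
  rw [hbot, Subgroup.mem_bot] at this
  rw [this, orderOf_one] at hy
  exact hp.out.one_lt.ne hy


/-- Let H be a finite group with no nontrivial normal p-subgroup and no nontrivial normal subgroup of order prime to p, whose Sylow p-subgroup P is nontrivial and a trivial-intersection set (P meets its conjugates by elements outside N_H(P) trivially). Then H has a unique minimal normal subgroup N; N is non-abelian simple with trivial centralizer in H (so H embeds in Aut(N)), and a Sylow p-subgroup of N is again a nontrivial trivial-intersection set in N. -/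
theorem result {H : Type*} [Group H] [Finite H] (p : ℕ) [Fact p.Prime] (hOp : Cfsg.pCore p H = ⊥) (hOp' : Cfsg.pPrimeCore p H = ⊥) (P : Sylow p H) (hP1 : (P : Subgroup H) ≠ ⊥)
    (hTI : ∀ g : H, g ∉ Subgroup.normalizer ((P : Subgroup H) : Set H) → (P : Subgroup H) ⊓ (MulAut.conj g • (P : Subgroup H)) = ⊥) :
    ∃ N : Subgroup H, N.Normal ∧ N ≠ ⊥ ∧ (∀ K : Subgroup H, K.Normal → K ≠ ⊥ → N ≤ K) ∧
      IsSimpleGroup N ∧ ¬ IsMulCommutative N ∧ Subgroup.centralizer (N : Set H) = ⊥ ∧
      ∀ Q : Sylow p N, (Q : Subgroup N) ≠ ⊥ ∧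
        ∀ n : N, n ∉ Subgroup.normalizer ((Q : Subgroup N) : Set N) → (Q : Subgroup N) ⊓ (MulAut.conj n • (Q : Subgroup N)) = ⊥ := by
  classical
  have hp : p.Prime := Fact.out
  have htop : (⊤ : Subgroup H) ≠ ⊥ := fun h => hP1 (le_bot_iff.mp (h ▸ le_top))
  obtain ⟨N, hNn, hN0, -, hmin⟩ := Solvable.exists_minimal_normal htop
  haveI := hNn
  -- every nontrivial normal subgroup of `N` has order divisible by `p`, and no `p`-core
  have hdiv : ∀ K : Subgroup H, K.Normal → K ≠ ⊥ → p ∣ Nat.card K := by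
    intro K hK hK0
    by_contra h
    exact hK0 (le_bot_iff.mp (hOp' ▸ Cores.le_pPrimeCore hK ((hp.coprime_iff_not_dvd.mpr h).symm)))
  have hcoreN : ∀ K : Subgroup H, K.Normal → Cfsg.pCore p K = ⊥ := by
    intro K hK
    haveI := hK
    have h := Cores.pCore_map_subtype K p
    rw [hOp] at h
    exact (Subgroup.map_eq_bot_iff_of_injective _ K.subtype_injective).mp (by simpa using h)
  have hcommN : ∀ A B : Subgroup H, A.Normal → B.Normal → A ⊓ B = ⊥ → A = ⊥ ∨ B = ⊥ := by
    intro A B hA hB hAB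
    by_contra hh
    push Not at hh
    exact pCore_ne_bot_of_commute hTI A B (hdiv A hA hh.1) (hdiv B hB hh.2)
      (fun a ha b hb => Subgroup.commute_of_normal_of_disjoint _ _ hA hB (disjoint_iff.mpr hAB) a b ha hb)
      (hcoreN B hB)
  have huniq : ∀ K : Subgroup H, K.Normal → K ≠ ⊥ → N ≤ K := by
    intro K hK hK0
    rcases hmin (N ⊓ K) inferInstance inf_le_left with h | h
    · exact absurd (hcommN N K hNn hK h) (by tauto)
    · exact inf_eq_left.mp h
  have hnab : ¬ IsMulCommutative N := by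
    intro hab
    exact pCore_ne_bot_of_commute hTI N N (hdiv N hNn hN0) (hdiv N hNn hN0)
      (fun a ha b hb => congrArg Subtype.val (hab.is_comm.comm (⟨a, ha⟩ : N) ⟨b, hb⟩)) (hcoreN N hNn)
  have hcent : Subgroup.centralizer (N : Set H) = ⊥ := by
    by_contra h
    have hle := huniq _ inferInstance h
    exact hnab ⟨⟨fun a b => Subtype.ext ((Subgroup.mem_centralizer_iff.mp (hle b.2)) a a.2)⟩⟩
  -- simplicity
  haveI : Nontrivial N := (Subgroup.nontrivial_iff_ne_bot N).mpr hN0
  have hsimple : IsSimpleGroup N := by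
    obtain ⟨T, hTn, hT0, -, hTmin⟩ :=
      Solvable.exists_minimal_normal (G := N) (N := ⊤) (by simp)
    haveI := hTn
    have hpprime : Cfsg.pPrimeCore p N = ⊥ := by
      have h := Cores.pPrimeCore_map_subtype N p
      rw [hOp'] at h
      exact (Subgroup.map_eq_bot_iff_of_injective _ N.subtype_injective).mp (by simpa using h)
    have hTdvd : ∀ T' : Subgroup N, T'.Normal → T' ≠ ⊥ → p ∣ Nat.card (T'.map N.subtype) := by
      intro T' hT' hT'0
      by_contra h
      rw [Nat.card_congr (T'.equivMapOfInjective _ N.subtype_injective).symm.toEquiv] at h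
      exact hT'0 (le_bot_iff.mp (hpprime ▸ Cores.le_pPrimeCore hT' ((hp.coprime_iff_not_dvd.mpr h).symm)))
    by_cases hTt : T = ⊤
    · refine ⟨fun K hK => ?_⟩
      have := hTmin K hK (hTt ▸ le_top)
      rwa [hTt] at this
    exfalso
    -- a second conjugate of `T`
    obtain ⟨g, hg⟩ : ∃ g : H, T.map (MulAut.conjNormal g : MulAut N).toMonoidHom ≠ T := by
      by_contra hh
      push Not at hh
      have hTG : (T.map N.subtype).Normal := by
        refine ⟨fun t ht g => ?_⟩
        obtain ⟨u, hu, rfl⟩ := ht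
        exact ⟨(MulAut.conjNormal g : MulAut N) u, (hh g).le ⟨u, hu, rfl⟩, by simp⟩
      rcases hmin _ hTG (Subgroup.map_subtype_le _) with h | h
      · exact hT0 ((Subgroup.map_eq_bot_iff_of_injective _ N.subtype_injective).mp h)
      · apply hTt
        apply Subgroup.map_injective N.subtype_injective
        rw [h, ← MonoidHom.range_eq_map, Subgroup.range_subtype]
    set e := (MulAut.conjNormal g : MulAut N).toMonoidHom
    set T' := T.map e with hT'
    haveI hT'n : T'.Normal := hTn.map _ (MulAut.conjNormal g : MulAut N).surjective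
    have hT'0 : T' ≠ ⊥ := fun h => hT0 ((Subgroup.map_eq_bot_iff_of_injective _
      (MulAut.conjNormal g : MulAut N).injective).mp h)
    have hinf : T ⊓ T' = ⊥ := by
      rcases hTmin (T ⊓ T') inferInstance inf_le_left with h | h
      · exact h
      · exfalso
        apply hg
        refine (Subgroup.eq_of_le_of_card_ge (inf_eq_left.mp h) ?_).symm
        exact le_of_eq (Nat.card_congr (T.equivMapOfInjective e
          (MulAut.conjNormal g : MulAut N).injective).symm.toEquiv)
    have hne := pCore_ne_bot_of_commute hTI (T.map N.subtype) (T'.map N.subtype) (hTdvd T hTn hT0)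
      (hTdvd T' hT'n hT'0) (by
        rintro _ ⟨a, ha, rfl⟩ _ ⟨b, hb, rfl⟩
        exact congrArg Subtype.val
          (Subgroup.commute_of_normal_of_disjoint _ _ hTn hT'n (disjoint_iff.mpr hinf) a b ha hb).eq)
    apply hne
    have h1 : Cfsg.pCore p T' = ⊥ := by
      have h := Cores.pCore_map_subtype T' p
      rw [hcoreN N hNn] at h
      exact (Subgroup.map_eq_bot_iff_of_injective _ T'.subtype_injective).mp (by simpa using h)
    rw [← Cores.pCore_map_mulEquiv (T'.equivMapOfInjective _ N.subtype_injective) p, h1,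
      Subgroup.map_bot]
  refine ⟨N, hNn, hN0, huniq, hsimple, hnab, hcent, fun Q => ⟨?_, fun n hn => ?_⟩⟩
  · intro h
    have h1 := Q.not_dvd_index
    rw [h, Subgroup.index_bot] at h1
    exact h1 (hdiv N hNn hN0)
  · have hQp : IsPGroup p ((Q : Subgroup N).map N.subtype) := Q.isPGroup'.map _
    obtain ⟨P', hP'⟩ := hQp.exists_le_sylow
    have hQ : ∀ z : N, (z : H) ∈ (P' : Subgroup H) ↔ z ∈ (Q : Subgroup N) := by
      intro z
      refine ⟨fun hz => ?_, fun hz => hP' ⟨z, hz, rfl⟩⟩
      have hle : (Q : Subgroup N) ≤ (P' : Subgroup H).subgroupOf N := fun u hu => hP' ⟨u, hu, rfl⟩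
      rw [← Q.is_maximal' P'.isPGroup'.comap_subtype hle]
      exact hz
    rw [eq_bot_iff]
    rintro z ⟨hz1, hz2⟩
    rw [Subgroup.mem_bot]
    by_contra hz
    apply hn
    replace hz2 : z ∈ MulAut.conj n • (Q : Subgroup N) := hz2
    rw [Subgroup.mem_pointwise_smul_iff_inv_smul_mem] at hz2
    simp only [MulAut.smul_def, MulAut.inv_apply, MulAut.conj_symm_apply] at hz2
    have hz2' : n⁻¹ * z * n ∈ (Q : Subgroup N) := hz2
    have hnP : (n : H) ∈ Subgroup.normalizer ((P' : Subgroup H) : Set H) := by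
      refine mem_normalizer_of_ti hTI P' (n : H) ((n⁻¹ * z * n : N) : H) ((hQ _).mpr hz2') ?_ ?_
      · rw [show (n : H) * ((n⁻¹ * z * n : N) : H) * (n : H)⁻¹ = (z : H) by push_cast; group]
        exact (hQ z).mpr hz1
      · intro h
        apply hz
        have h5 : n⁻¹ * z * n = 1 := Subtype.ext h
        simpa [mul_assoc, inv_mul_eq_one, mul_eq_right] using h5
    rw [Subgroup.mem_normalizer_iff]
    intro u
    rw [← hQ, ← hQ]
    push_cast
    exact Subgroup.mem_normalizer_iff.mp hnP (u : H)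

end Cfsg.Agent.S4620
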