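import Cfsg.Statements.S4623
import Cfsg.Agent.EqLemmas
import Cfsg.Agent.Lib.SymSylowGen.Basic
import Cfsg.Agent.Lib.StrongEmb.Basic

set_option autoImplicit false
open Cfsg

namespace Cfsg.Agent.S4623

open SymSylowGen in
/-- Every Sylow subgroup inherits the property. -/
theorem genExp_sylow {G : Type*} [Group G] [Finite G] {p : ℕ} [Fact p.Prime] (S P : Sylow p G)
    (h : GenExp p (S : Subgroup G)) : GenExp p (P : Subgroup G) := by
  obtain ⟨g, rfl⟩ := MulAction.exists_smul_eq G S P
  exact h.map (MulAut.conj g).toMonoidHom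

/-- For every prime p and every n, a Sylow p-subgroup P of the symmetric group on n letters has P/P' elementary abelian (the p-th power of every element of P lies in the derived subgroup of P), and the same holds for a Sylow p-subgroup of the alternating group on n letters. -/
theorem result (p : ℕ) [Fact p.Prime] (n : ℕ) (P : Sylow p (Equiv.Perm (Fin n))) (Q : Sylow p (alternatingGroup (Fin n))) :
    (∀ x : (P : Subgroup (Equiv.Perm (Fin n))), x ^ p ∈ commutator (P : Subgroup (Equiv.Perm (Fin n)))) ∧
    (∀ x : (Q : Subgroup (alternatingGroup (Fin n))), x ^ p ∈ commutator (Q : Subgroup (alternatingGroup (Fin n)))) := by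
  classical
  obtain ⟨W, hW, hWg, hWeven⟩ := SymSylowGen.exists_sylow p n
  let S : Sylow p (Equiv.Perm (Fin n)) := Sylow.ofCard W (by
    rw [hW, Nat.card_perm, Nat.card_eq_fintype_card, Fintype.card_fin,
      Nat.factorization_def _ (Fact.out : p.Prime)])
  refine ⟨SymSylowGen.pow_mem_commutator (genExp_sylow S P hWg), ?_⟩
  let A := alternatingGroup (Fin n)
  have hSA : SymSylowGen.GenExp p (W ⊓ A) := by
    rcases eq_or_ne p 2 with h2 | h2
    · exact hWeven h2
    · rw [inf_of_le_left]
      · exact hWg
      refine hWg.trans ((Subgroup.closure_le _).mpr ?_)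
      rintro y ⟨-, hy⟩
      show y ∈ alternatingGroup (Fin n)
      rw [Equiv.Perm.mem_alternatingGroup]
      have h1 : Equiv.Perm.sign y ^ p = 1 := by rw [← map_pow, hy, map_one]
      rcases Int.units_eq_one_or (Equiv.Perm.sign y) with h | h
      · exact h
      · rw [h, Odd.neg_one_pow ((Fact.out : p.Prime).odd_of_ne_two h2)] at h1
        exact absurd h1 (by decide)
  have hpA : IsPGroup p ((W ⊓ A).subgroupOf A) :=
    (S.isPGroup'.to_le (inf_le_left : W ⊓ A ≤ W)).comap_subtype
  let S₁ : Sylow p A := hpA.toSylow (by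
    show ¬ p ∣ ((W ⊓ A).subgroupOf A).index
    have h1 := StrongEmb.not_dvd_relIndex_inf S A
    rw [show ((W ⊓ A).subgroupOf A).index = (W ⊓ A).relIndex A from rfl, Subgroup.inf_relIndex_right]
    exact h1)
  refine SymSylowGen.pow_mem_commutator (genExp_sylow S₁ Q ?_)
  refine SymSylowGen.GenExp.of_map A.subtype_injective ?_
  show SymSylowGen.GenExp p (((W ⊓ A).subgroupOf A).map A.subtype)
  rwa [Subgroup.subgroupOf_map_subtype, inf_assoc, inf_idem]

end Cfsg.Agent.S4623
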