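import Cfsg.Statements.S4624
import Cfsg.Agent.EqLemmas
import Cfsg.Agent.Lib.WreathAb.GL
import Cfsg.Agent.Lib.GLOrder.Symplectic

set_option autoImplicit false
open Cfsg

namespace Cfsg.Agent.S4624

open Matrix WreathAb

variable {F : Type*} [Field F] {n : ℕ}

/-- The plane-by-plane index. -/
def idxEquiv (n : ℕ) : Fin n ⊕ Fin n ≃ Fin 2 × Fin n where
  toFun := Sum.elim (fun i => (0, i)) (fun i => (1, i))
  invFun x := if x.1 = 0 then Sum.inl x.2 else Sum.inr x.2
  left_inv x := by cases x <;> simp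
  right_inv := fun ⟨a, i⟩ => by fin_cases a <;> simp

/-- The symplectic group in plane-by-plane coordinates. -/
noncomputable def spHom : Matrix.symplecticGroup (Fin n) F →* GL (Fin 2 × Fin n) F :=
  (((Matrix.reindexAlgEquiv F F (idxEquiv n)).toRingEquiv.toRingHom.toMonoidHom).comp
    (Matrix.symplecticGroup (Fin n) F).subtype).toHomUnits

theorem spHom_injective : Function.Injective (spHom (F := F) (n := n)) := fun A B h =>
  Subtype.ext ((Matrix.reindexAlgEquiv F F (idxEquiv n)).injective
    (congrArg (fun u : GL (Fin 2 × Fin n) F => (u : Matrix (Fin 2 × Fin n) (Fin 2 × Fin n) F)) h))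

theorem reindex_J :
    Matrix.reindex (idxEquiv n) (idxEquiv n) (Matrix.J (Fin n) F) =
      blockDiagonal fun _ : Fin n => !![(0 : F), -1; 1, 0] := by
  ext ⟨a, i⟩ ⟨b, j⟩
  fin_cases a <;> fin_cases b <;>
    simp [idxEquiv, Matrix.J, blockDiagonal_apply, Matrix.one_apply] <;> split_ifs <;> simp

/-- Elements preserving the form are in the range. -/
theorem mem_range_spHom (g : GL (Fin 2 × Fin n) F)
    (h : (g : Matrix (Fin 2 × Fin n) (Fin 2 × Fin n) F) *
        (blockDiagonal fun _ : Fin n => !![(0 : F), -1; 1, 0]) *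
        (g : Matrix (Fin 2 × Fin n) (Fin 2 × Fin n) F)ᵀ =
      blockDiagonal fun _ : Fin n => !![(0 : F), -1; 1, 0]) : g ∈ (spHom (F := F) (n := n)).range := by
  let e := Matrix.reindexAlgEquiv F F (idxEquiv n)
  let A := e.symm (g : Matrix (Fin 2 × Fin n) (Fin 2 × Fin n) F)
  have hA : A ∈ Matrix.symplecticGroup (Fin n) F := by
    show A * Matrix.J (Fin n) F * Aᵀ = Matrix.J (Fin n) F
    apply e.injective
    have hT : e Aᵀ = (g : Matrix (Fin 2 × Fin n) (Fin 2 × Fin n) F)ᵀ := by
      rw [← e.apply_symm_apply (g : Matrix (Fin 2 × Fin n) (Fin 2 × Fin n) F)]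
      rfl
    rw [map_mul, map_mul, hT, show e A = g from e.apply_symm_apply _]
    rw [show e (Matrix.J (Fin n) F) = _ from reindex_J]
    exact h
  exact ⟨⟨A, hA⟩, Units.ext (e.apply_symm_apply _)⟩

/-- Let F be a finite field of odd order and n ≥ 1. A Sylow 2-subgroup P of the symplectic group Sp_{2n}(F) has P/P' elementary abelian: the square of every element of P lies in the derived subgroup of P. -/
theorem result {F : Type*} [Field F] [Fintype F] (hF : Odd (Fintype.card F)) (n : ℕ) (hn : 1 ≤ n) (P : Sylow 2 (Matrix.symplecticGroup (Fin n) F)) :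
    ∀ x : (P : Subgroup (Matrix.symplecticGroup (Fin n) F)), x ^ 2 ∈ commutator (P : Subgroup (Matrix.symplecticGroup (Fin n) F)) := by
  classical
  have hq : Odd (Nat.card F) := by rwa [Nat.card_eq_fintype_card]
  have hq1 : 1 < Nat.card F := one_lt_card_of_odd hq
  let Q0 : Sylow 2 (SpecialLinearGroup (Fin 2) F) := default
  let Q : Subgroup (GL (Fin 2) F) :=
    (Q0 : Subgroup (SpecialLinearGroup (Fin 2) F)).map SpecialLinearGroup.toGL
  have hQcard : Nat.card Q = 2 ^ padicValNat 2 ((Nat.card F) ^ 2 - 1) := by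
    rw [Subgroup.card_map_of_injective SpecialLinearGroup.toGL_injective, Sylow.card_eq_multiplicity,
      Nat.factorization_def _ Nat.prime_two, GLOrder.card_SL_two,
      padicValNat.mul (by omega) (by have := Nat.one_lt_pow two_ne_zero hq1; omega),
      padicValNat.eq_zero_of_not_dvd fun h =>
        (Nat.not_even_iff_odd.mpr hq) (even_iff_two_dvd.mpr h), zero_add]
  have hQ : SqComm Q := (sqComm_sylow_SL_two hq Q0).map _
  obtain ⟨T, hTcard, hT, -⟩ := SymSylowGen.exists_sylow 2 n
  let S : Subgroup (Fin n → GL (Fin 2) F) := Subgroup.pi Set.univ fun _ => Q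
  have hinv : ∀ w ∈ T, ∀ f ∈ S, (fun i => f (w⁻¹ i)) ∈ S := fun w _ f hf i _ => hf _ (Set.mem_univ _)
  let W := wreathSub bGL dGL bGL_dGL S T hinv
  have hWsq : SqComm W := sqComm_wreathSub bGL dGL bGL_dGL S T hinv hT fun f hf => by
    refine Subgroup.mem_comap.mp (Subgroup.pi_mem_of_mulSingle_mem f fun i => ?_)
    refine single_mem_closure bGL dGL bGL_dGL S T hinv hQ i (fun x hx j _ => ?_) (hf i (Set.mem_univ i))
    show (Pi.mulSingle (M := fun _ : Fin n => GL (Fin 2) F) i x) j ∈ Q
    rcases eq_or_ne j i with rfl | hj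
    · rwa [Pi.mulSingle_eq_same]
    · rw [Pi.mulSingle_eq_of_ne hj]; exact Q.one_mem
  have hWr : W ≤ (spHom (F := F) (n := n)).range := by
    rintro _ ⟨f, hf, w, -, rfl⟩
    refine Subgroup.mul_mem _ (mem_range_spHom _ ?_) (mem_range_spHom _ ?_)
    · rw [bGL_val, blockDiagonal_transpose, ← blockDiagonal_mul, ← blockDiagonal_mul]
      congr 1
      funext i
      obtain ⟨x, -, hx⟩ := hf i (Set.mem_univ i)
      rw [← hx]
      have hdet := x.2
      rw [Matrix.det_fin_two] at hdet
      ext a b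
      fin_cases a <;> fin_cases b <;>
        simp [Matrix.mul_apply, Fin.sum_univ_two, Matrix.vecMul, Matrix.vecHead, Matrix.vecTail] <;>
        first | ring1 | linear_combination hdet | linear_combination -hdet
    · rw [dGL_val, ← PEquiv.toMatrix_symm, ← Equiv.toPEquiv_symm, PEquiv.toMatrix_toPEquiv_mul,
        PEquiv.mul_toMatrix_toPEquiv]
      ext ⟨a, i⟩ ⟨b, j⟩
      simp [blockPerm, blockDiagonal_apply, Equiv.prodCongrRight, Equiv.Perm.inv_def]
  refine sqComm_of_card_range spHom spHom_injective W hWr ?_ hWsq P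
  rw [card_wreathSub bGL dGL bGL_dGL S T hinv bGL_dGL_inj, hTcard,
    show Nat.card S = Nat.card Q ^ n from ?_, hQcard, Nat.factorization_def _ Nat.prime_two,
    GLOrder.card_Sp, padicValNat.mul (pow_ne_zero _ (by omega))
      (Finset.prod_ne_zero_iff.mpr fun i _ => by
        have := Nat.one_lt_pow (show 2 * (i + 1) ≠ 0 by omega) hq1
        omega),
    padicValNat.eq_zero_of_not_dvd (n := (Nat.card F) ^ n ^ 2) (fun h => (Nat.not_even_iff_odd.mpr hq)
      (even_iff_two_dvd.mpr (Nat.prime_two.dvd_of_dvd_pow h))), zero_add,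
    val_prod_sp hq hq1, ← pow_mul, ← pow_add, mul_comm n]
  calc Nat.card S = Nat.card (Fin n → Q) := Nat.card_congr
        { toFun := fun x i => ⟨(x : Fin n → GL (Fin 2) F) i, x.2 i (Set.mem_univ i)⟩
          invFun := fun x => ⟨fun i => x i, fun i _ => (x i).2⟩
          left_inv := fun _ => rfl
          right_inv := fun _ => rfl }
    _ = _ := by rw [Nat.card_fun, Nat.card_eq_fintype_card (α := Fin n), Fintype.card_fin]

end Cfsg.Agent.S4624
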