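import Cfsg.Statements.S4626
import Cfsg.Agent.Lib.CentralChar.Twist
import Cfsg.Agent.Lib.Char.Integral
import Cfsg.Agent.Lib.Blocks.Local

set_option autoImplicit false
open Cfsg

namespace Cfsg.Agent.S4626

/-- Let G be a finite group, p a prime, M a maximal ideal of the algebraic integers containing p, P a Sylow p-subgroup of G and N a normal subgroup of index prime to p containing the centralizer C_G(P). Then every irreducible character of G whose kernel contains N lies in the principal p-block of G. -/
theorem result {G : Type*} [Group G] [Finite G] (p : ℕ) [Fact p.Prime] (M : Ideal Cfsg.AlgInt) (hM : Cfsg.IsPModular p M) (P : Sylow p G) (N : Subgroup G) [N.Normal] (hidx : ¬ p ∣ N.index)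
    (hC : Subgroup.centralizer ((P : Subgroup G) : Set G) ≤ N) (χ : Cfsg.IrrCharacter G) (hker : ∀ n ∈ N, (χ : G → ℂ) n = (χ : G → ℂ) 1) :
    χ ∈ Cfsg.principalBlock M G := by
  classical
  obtain ⟨ψ, hψ⟩ := CentralChar.exists_deflation N χ hker
  obtain ⟨d, hd0, hd, hdvd⟩ := Char.IsIrrCharacter.degree_dvd_card ψ.2
  have hpd : ¬ p ∣ d := fun h => hidx (h.trans hdvd)
  have hχ1 : (χ : G → ℂ) 1 = (d : ℂ) := by rw [hψ, QuotientGroup.mk_one, hd]
  intro g
  show MemLocalIdeal M (centralChar (fun _ : G => (1 : ℂ)) g - centralChar (χ : G → ℂ) g)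
  simp only [centralChar, mul_one, div_one]
  set C := Subgroup.centralizer ({g} : Set G) with hCdef
  by_cases hk : p ∣ C.index
  · refine Blocks.memI_sub hM ((Blocks.memI_natCast hM).mpr hk) ?_
    rw [mul_div_assoc]
    refine Blocks.memI_mul_right hM ((Blocks.memI_natCast hM).mpr hk) ?_
    rw [hχ1, div_eq_mul_inv]
    exact Blocks.memR_mul hM (Blocks.memR_of_isIntegral hM
      (Char.IsCharacter.isIntegral (Char.IsIrrCharacter.isCharacter χ.2) g))
      (Blocks.memR_natCast_inv hM hpd)
  · obtain ⟨S₀⟩ : Nonempty (Sylow p C) := inferInstance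
    have hS : ¬ p ∣ ((S₀ : Subgroup C).map C.subtype).index := by
      rw [← Subgroup.relIndex_mul_index (Subgroup.map_subtype_le _)]
      intro h
      rcases (Fact.out : p.Prime).dvd_mul.mp h with h | h
      · apply S₀.not_dvd_index
        rw [Subgroup.relIndex, Subgroup.subgroupOf,
          Subgroup.comap_map_eq_self_of_injective C.subtype_injective] at h
        exact h
      · exact hk h
    let S : Sylow p G := (S₀.isPGroup'.map C.subtype).toSylow hS
    obtain ⟨x, hx⟩ := MulAction.exists_smul_eq G S P
    have hgS : ∀ y ∈ (S : Subgroup G), y * g = g * y := by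
      rintro _ ⟨y, _, rfl⟩
      exact Subgroup.mem_centralizer_singleton_iff.mp y.2
    have hgP : x * g * x⁻¹ ∈ Subgroup.centralizer ((P : Subgroup G) : Set G) := by
      rw [Subgroup.mem_centralizer_iff]
      intro y hy
      rw [← hx] at hy
      have hy' : x⁻¹ * y * x ∈ (S : Subgroup G) := by
        have := Subgroup.mem_pointwise_smul_iff_inv_smul_mem.mp hy
        simpa [MulAut.smul_def] using this
      have e := hgS _ hy'
      calc y * (x * g * x⁻¹) = x * ((x⁻¹ * y * x) * g) * x⁻¹ := by group
        _ = x * (g * (x⁻¹ * y * x)) * x⁻¹ := by rw [e]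
        _ = x * g * x⁻¹ * y := by group
    have hval : (χ : G → ℂ) g = (χ : G → ℂ) 1 := by
      rw [← hker _ (hC hgP), Char.IsIrrCharacter.isClassFunction χ.2 g x]
    rw [hval, mul_div_assoc, div_self (Char.IsIrrCharacter.apply_one_ne_zero χ.2), mul_one, sub_self]
    exact Blocks.memI_zero hM

end Cfsg.Agent.S4626
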