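import Cfsg.Statements.S4627
import Cfsg.Agent.Lib.WreathAb.Linear

set_option autoImplicit false
open Cfsg Matrix

namespace Cfsg.Agent.S4627

/-- Let F be a finite field of odd order q and m ≥ 1. If 4 divides q + 1, or if 4 divides q − 1 and m is a power of 2, then a Sylow 2-subgroup P of SL_{2m}(F) has P/P' elementary abelian: the square of every element of P lies in the derived subgroup of P. -/
theorem result {F : Type*} [Field F] [Fintype F] (hF : Odd (Fintype.card F)) (m : ℕ) (hm : 1 ≤ m)
    (hq : 4 ∣ Fintype.card F + 1 ∨ (4 ∣ Fintype.card F - 1 ∧ ∃ j : ℕ, m = 2 ^ j)) (P : Sylow 2 (Matrix.SpecialLinearGroup (Fin (2 * m)) F)) :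
    ∀ x : (P : Subgroup (Matrix.SpecialLinearGroup (Fin (2 * m)) F)), x ^ 2 ∈ commutator (P : Subgroup (Matrix.SpecialLinearGroup (Fin (2 * m)) F)) := by
  have hF' : Odd (Nat.card F) := by rwa [Nat.card_eq_fintype_card]
  have h1 := GLOrder.one_lt_card_field (F := F)
  haveI : NeZero (2 * m) := ⟨by omega⟩
  obtain ⟨W, hW, hdet, hcard⟩ := WreathAb.exists_sl_sylow (F := F) hF' hm
    (by rw [Nat.card_eq_fintype_card]; exact hq.imp id And.right)
  let E : GL (Fin (2 * m)) F ≃* GL (Fin 2 × Fin m) F :=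
    Units.mapEquiv (reindexAlgEquiv F F finProdFinEquiv.symm).toMulEquiv
  let f : SpecialLinearGroup (Fin (2 * m)) F →* GL (Fin 2 × Fin m) F :=
    E.toMonoidHom.comp SpecialLinearGroup.toGL
  refine WreathAb.sqComm_of_card_range f (E.injective.comp SpecialLinearGroup.toGL_injective) W
    (fun g hg => ?_) ?_ hW P
  · have hd : GeneralLinearGroup.det g = 1 := MonoidHom.mem_ker.mp (hdet hg)
    have hmem : E.symm g ∈ (SpecialLinearGroup.toGL : SpecialLinearGroup (Fin (2 * m)) F →* _).range := by
      rw [GLOrder.range_toGL, MonoidHom.mem_ker, ← hd]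
      refine Units.ext ?_
      simp only [GeneralLinearGroup.val_det_apply]
      exact det_reindex_self _ _
    obtain ⟨s, hs⟩ := hmem
    exact ⟨s, (congrArg E hs).trans (E.apply_symm_apply g)⟩
  · have h2 := WreathAb.factorization_card_SL hF' (2 * m)
    rw [WreathAb.val_prod_gl hF' h1] at h2
    refine Nat.eq_of_mul_eq_mul_right (pow_pos two_pos (padicValNat 2 (Nat.card F - 1))) ?_
    rw [hcard, ← pow_add, ← h2, add_comm]

end Cfsg.Agent.S4627
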