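import Cfsg.Statements.S4628
import Cfsg.Agent.Lib.WreathAb.Linear

set_option autoImplicit false
open Cfsg Matrix

namespace Cfsg.Agent.S4628

section

variable {F : Type*} [Field F] {n : ℕ}

/-- `A ↦ diag(A, det A⁻¹)`, reindexed. -/
def blockHom {ι : Type*} [Fintype ι] [DecidableEq ι] (e : ι ⊕ Fin 1 ≃ Fin n) :
    GL ι F →* SpecialLinearGroup (Fin n) F where
  toFun A := ⟨reindex e e (fromBlocks (A : Matrix ι ι F) 0 0
      (scalar (Fin 1) (((GeneralLinearGroup.det A)⁻¹ : Fˣ) : F))), by
    rw [det_reindex_self, det_fromBlocks_zero₂₁]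
    simp [mul_inv_cancel₀ (GeneralLinearGroup.det A).ne_zero, ← GeneralLinearGroup.val_det_apply]⟩
  map_one' := Subtype.ext (by simp)
  map_mul' A B := Subtype.ext (by
    show reindex e e _ = reindex e e _ * reindex e e _
    simp only [reindex_apply, submatrix_mul_equiv, fromBlocks_multiply]
    simp [mul_comm])

theorem blockHom_injective {ι : Type*} [Fintype ι] [DecidableEq ι] (e : ι ⊕ Fin 1 ≃ Fin n) :
    Function.Injective (blockHom (F := F) e) := fun A B h => Units.ext <| by
  have h' := (reindex e e).injective (congrArg Subtype.val h)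
  exact (fromBlocks_inj.mp h').1

end

/-- Let F be a finite field of odd order q with 4 dividing q + 1, and m ≥ 1. Then a Sylow 2-subgroup P of SL_{2m+1}(F) has P/P' elementary abelian: the square of every element of P lies in the derived subgroup of P. -/
theorem result {F : Type*} [Field F] [Fintype F] (hF : Odd (Fintype.card F)) (hq : 4 ∣ Fintype.card F + 1) (m : ℕ) (hm : 1 ≤ m) (P : Sylow 2 (Matrix.SpecialLinearGroup (Fin (2 * m + 1)) F)) :
    ∀ x : (P : Subgroup (Matrix.SpecialLinearGroup (Fin (2 * m + 1)) F)), x ^ 2 ∈ commutator (P : Subgroup (Matrix.SpecialLinearGroup (Fin (2 * m + 1)) F)) := by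
  have hF' : Odd (Nat.card F) := by rwa [Nat.card_eq_fintype_card]
  have h1 := GLOrder.one_lt_card_field (F := F)
  obtain ⟨W, hW, hcard⟩ := WreathAb.exists_gl_sylow (F := F) hF' (by rwa [Nat.card_eq_fintype_card]) m
  let e : (Fin 2 × Fin m) ⊕ Fin 1 ≃ Fin (2 * m + 1) :=
    (Equiv.sumCongr finProdFinEquiv (Equiv.refl _)).trans finSumFinEquiv
  refine WreathAb.sqComm_of_card (W.map (blockHom e)) ?_ (hW.map _) P
  rw [Subgroup.card_map_of_injective (blockHom_injective e), hcard]
  congr 1
  have h2 := WreathAb.factorization_card_SL hF' (2 * m + 1)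
  have hne : ∀ i, Nat.card F ^ (i + 1) - 1 ≠ 0 := fun i => by
    have := Nat.one_lt_pow (show i + 1 ≠ 0 by omega) h1
    omega
  rw [Finset.prod_range_succ, padicValNat.mul (Finset.prod_ne_zero_iff.mpr fun i _ => hne i) (hne _),
    WreathAb.val_prod_gl hF' h1, WreathAb.val_pow_odd hF' h1] at h2
  omega

end Cfsg.Agent.S4628
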