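import Cfsg.Statements.S4633
import Cfsg.Agent.Lib.BrauerPairs.InducedPairs
import Cfsg.Agent.Lib.BrauerPairs.CyclicFree
import Cfsg.Agent.Lib.BrauerPairs.NilpotentFusion

set_option autoImplicit false
open Cfsg

namespace Cfsg.Agent.S4633

/-- Let B be a block of the finite group G relative to a maximal ideal M of the algebraic integers containing the prime p, with a nontrivial cyclic defect group P. Let c be a block of C_G(P) inducing B and T the stabilizer of c in N_G(P) (the elements of N_G(P) conjugating c to itself); T contains C_G(P). Then T/C_G(P) is cyclic of order dividing p − 1, and it acts freely on the non-identity elements of P: an element of T fixing some non-identity element of P under conjugation lies in C_G(P). -/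
theorem result {G : Type*} [Group G] [Finite G] (p : ℕ) [Fact p.Prime] (M : Ideal Cfsg.AlgInt) (hM : Cfsg.IsPModular p M) (B : Set (Cfsg.IrrCharacter G)) (hB : Cfsg.IsPBlock M B) (P : Subgroup G) (hPD : Cfsg.IsDefectGroup p M B P) (hP1 : P ≠ ⊥) (hcyc : IsCyclic P) (c : Set (Cfsg.IrrCharacter (Subgroup.centralizer (P : Set G)))) (hc : Cfsg.IsInducedBlock M (Subgroup.centralizer (P : Set G)) c B) (T : Subgroup G) (hT : ∀ g : G, g ∈ T ↔ (g ∈ Subgroup.normalizer (P : Set G) ∧ Cfsg.StabilizesBlock (Subgroup.centralizer (P : Set G)) c g)) [hn : ((Subgroup.centralizer (P : Set G)).subgroupOf T).Normal] : IsCyclic (T ⧸ (Subgroup.centralizer (P : Set G)).subgroupOf T) ∧ (Subgroup.centralizer (P : Set G)).relIndex T ∣ p - 1 ∧ ∀ g ∈ T, ∀ x ∈ P, x ≠ 1 → g * x * g⁻¹ = x → g ∈ Subgroup.centralizer (P : Set G) := by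
  open Cfsg.Agent.Blocks Cfsg.Agent.BrauerPairs in
  classical
  have hPp := isPGroup_defectGroup hM hPD
  have hPC : P ≤ Subgroup.centralizer (P : Set G) := fun x hx =>
    Subgroup.mem_centralizer_iff.2 fun y hy => by
      have := hcyc.isMulCommutative
      exact congrArg Subtype.val (mul_comm' (⟨y, hy⟩ : P) ⟨x, hx⟩)
  have hpair := isBrauerPairOf_of_induced hM hPp hPC hc
  have hmax := isMaximal_of_isDefectGroup hM hpair hPD
  obtain rfl : T = pairStab M P c := by
    ext y
    rw [hT y, mem_pairStab_iff hM hc.1]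
  have hTN := pairStab_le_normalizer (M := M) P c
  obtain ⟨F, hF, hFeq, -⟩ := exists_block_pairStab hM hpair.1
  have hnd := not_dvd_local_index hM hc.1 hTN (centralizer_le_pairStab hM P c) hF hFeq
    (defect_pairStab_top hM hmax hF hFeq)
  have hle : (P ⊓ pairStab M P c).subgroupOf (pairStab M P c) ≤
      (Subgroup.centralizer (P : Set G)).subgroupOf (pairStab M P c) :=
    fun z hz => hPC hz.1
  rw [sup_eq_right.2 hle] at hnd
  have hfree : ∀ g ∈ pairStab M P c, ∀ x ∈ P, x ≠ 1 → g * x * g⁻¹ = x →
      g ∈ Subgroup.centralizer (P : Set G) := by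
    intro g hg x hx hx1 hfix
    obtain ⟨k, hk⟩ := exists_pow_mem_centralizer_of_fix hPp hcyc (hTN hg) hx hx1 hfix
    have hm : g ^ ((Subgroup.centralizer (P : Set G)).subgroupOf (pairStab M P c)).index ∈
        Subgroup.centralizer (P : Set G) := Subgroup.pow_index_mem
          ((Subgroup.centralizer (P : Set G)).subgroupOf (pairStab M P c))
          (⟨g, hg⟩ : pairStab M P c)
    have h := Nat.gcd_eq_gcd_ab (p ^ k)
      ((Subgroup.centralizer (P : Set G)).subgroupOf (pairStab M P c)).index
    rw [(Nat.Coprime.pow_left k ((Fact.out : p.Prime).coprime_iff_not_dvd.2 hnd)).gcd_eq_one] at h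
    rw [← zpow_one g, show (1 : ℤ) = _ from h, zpow_add, zpow_mul, zpow_mul, zpow_natCast,
      zpow_natCast]
    exact mul_mem (zpow_mem hk _) (zpow_mem hm _)
  exact ⟨(cyclic_quotient_of_free hPp hcyc hP1 hTN hfree).1,
    (cyclic_quotient_of_free hPp hcyc hP1 hTN hfree).2, hfree⟩

end Cfsg.Agent.S4633
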