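import Cfsg.Statements.S4636
import Cfsg.Agent.EqLemmas

set_option autoImplicit false
open scoped Pointwise
open Cfsg

namespace Cfsg.Agent.S4636

theorem eq_of_card_prime {C : Type*} [Group C] [Finite C] [IsCyclic C] {p : ℕ} (A B : Subgroup C)
    (hp : p.Prime) (hA : Nat.card A = p) (hB : Nat.card B = p) : A = B := by
  classical
  have := Fintype.ofFinite C
  set S := (Finset.univ : Finset C).filter (fun a : C => a ^ p = 1) with hS
  have hle : S.card ≤ p := IsCyclic.card_pow_eq_one_le hp.pos
  have key : ∀ W : Subgroup C, Nat.card W = p → (W : Set C).toFinset = S := by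
    intro W hW
    apply Finset.eq_of_subset_of_card_le
    · intro a ha
      rw [Set.mem_toFinset] at ha
      have h := pow_card_eq_one' (x := (⟨a, ha⟩ : W))
      rw [hW, Subtype.ext_iff] at h
      simpa [hS] using h
    · rw [Set.toFinset_card, ← Nat.card_eq_fintype_card]
      exact hle.trans hW.ge
  exact SetLike.coe_injective (Set.toFinset_inj.1 ((key A hA).trans (key B hB).symm))

theorem mem_norm_iff {G : Type*} [Group G] {H : Subgroup G} {g : G} :
    g ∈ Subgroup.normalizer (H : Set G) ↔ MulAut.conj g • H = H :=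
  Subgroup.mem_normalizer_iff_map_conj_eq

/-- Let P be a nontrivial cyclic p-subgroup of the finite group G and Z its subgroup of order p. For every x outside N_G(Z), P meets its conjugate xPx⁻¹ trivially; consequently N_G(Q) ≤ N_G(Z) for every nontrivial subgroup Q of P. -/
theorem result {G : Type*} [Group G] [Finite G] (p : ℕ) [Fact p.Prime] (P : Subgroup G) (hP : IsPGroup p P) (hP1 : P ≠ ⊥) (hcyc : IsCyclic P) (Z : Subgroup G) (hZ : Z ≤ P) (hZcard : Nat.card Z = p) : (∀ x : G, x ∉ Subgroup.normalizer (Z : Set G) → P ⊓ MulAut.conj x • P = ⊥) ∧ ∀ Q : Subgroup G, Q ≤ P → Q ≠ ⊥ → Subgroup.normalizer (Q : Set G) ≤ Subgroup.normalizer (Z : Set G) := by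
  have := hcyc
  -- the subgroup of order p is unique inside P
  have huniq : ∀ W : Subgroup G, W ≤ P → Nat.card W = p → W = Z := by
    intro W hW hWc
    have h1 : Nat.card (W.subgroupOf P) = p :=
      (Nat.card_congr (Subgroup.subgroupOfEquivOfLe hW).toEquiv).trans hWc
    have h2 : Nat.card (Z.subgroupOf P) = p :=
      (Nat.card_congr (Subgroup.subgroupOfEquivOfLe hZ).toEquiv).trans hZcard
    have h3 : W.subgroupOf P = Z.subgroupOf P :=
      eq_of_card_prime _ _ (Fact.out : p.Prime) h1 h2
    rw [Subgroup.subgroupOf_inj, inf_eq_left.2 hW, inf_eq_left.2 hZ] at h3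
    exact h3
  have hle : ∀ Q : Subgroup G, Q ≤ P → Q ≠ ⊥ → Z ≤ Q := by
    intro Q hQ hQ1
    have : Nontrivial Q := (Subgroup.nontrivial_iff_ne_bot Q).2 hQ1
    obtain ⟨n, hn0, hn⟩ := (hP.to_le hQ).nontrivial_iff_card.1 inferInstance
    obtain ⟨y, hy⟩ := exists_prime_orderOf_dvd_card' (G := Q) p (hn ▸ dvd_pow_self p hn0.ne')
    have : Nat.card (Subgroup.zpowers (y : G)) = p := by
      rw [Nat.card_zpowers, Subgroup.orderOf_coe, hy]
    have h := huniq _ ((Subgroup.zpowers_le.2 y.2).trans hQ) this
    rw [← h]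
    exact Subgroup.zpowers_le.2 y.2
  have hnorm : ∀ x : G, MulAut.conj x • Z ≤ P → x ∈ Subgroup.normalizer (Z : Set G) := by
    intro x hx
    have hcard : Nat.card (MulAut.conj x • Z : Subgroup G) = p :=
      (Nat.card_congr (Subgroup.equivSMul (MulAut.conj x) Z).toEquiv).symm.trans hZcard
    exact mem_norm_iff.2 (huniq _ hx hcard)
  constructor
  · intro x hx
    by_contra h
    refine hx ?_
    have h1 : Z ≤ MulAut.conj x • P := (hle _ inf_le_left h).trans inf_le_right
    have h2 : MulAut.conj x⁻¹ • Z ≤ P := by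
      have := Subgroup.pointwise_smul_le_pointwise_smul_iff (a := MulAut.conj x⁻¹).2 h1
      simpa [smul_smul] using this
    have := (Subgroup.normalizer (Z : Set G)).inv_mem (hnorm _ h2)
    simpa using this
  · intro Q hQ hQ1 x hx
    refine hnorm x ?_
    calc MulAut.conj x • Z ≤ MulAut.conj x • Q :=
          Subgroup.pointwise_smul_le_pointwise_smul_iff.2 (hle Q hQ hQ1)
      _ = Q := mem_norm_iff.1 hx
      _ ≤ P := hQ

end Cfsg.Agent.S4636
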