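import Cfsg.Statements.S4637
import Cfsg.Agent.Lib.Blocks.KleinDefect

set_option autoImplicit false
open Cfsg

namespace Cfsg.Agent.S4637

/-- Let B be a block of the finite group G relative to a maximal ideal M of the algebraic integers containing 2, with a Klein four defect group P. Let c be a block of C_G(P) inducing B, T the stabilizer of c in N_G(P) and e the index of C_G(P) in T (the inertial index). Then e is 1 or 3, B contains exactly four irreducible characters, and the 2-regular rank of B (its number of irreducible Brauer characters) equals e. -/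
theorem result {G : Type*} [Group G] [Finite G] (M : Ideal Cfsg.AlgInt) (hM : Cfsg.IsPModular 2 M) (B : Set (Cfsg.IrrCharacter G)) (hB : Cfsg.IsPBlock M B) (P : Subgroup G) (hPD : Cfsg.IsDefectGroup 2 M B P) (hV : IsKleinFour P) (c : Set (Cfsg.IrrCharacter (Subgroup.centralizer (P : Set G)))) (hc : Cfsg.IsInducedBlock M (Subgroup.centralizer (P : Set G)) c B) (T : Subgroup G) (hT : ∀ g : G, g ∈ T ↔ (g ∈ Subgroup.normalizer (P : Set G) ∧ Cfsg.StabilizesBlock (Subgroup.centralizer (P : Set G)) c g)) (e : ℕ) (he : (Subgroup.centralizer (P : Set G)).relIndex T = e) : (e = 1 ∨ e = 3) ∧ Nat.card B = 4 ∧ Cfsg.blockRank 2 B = e := by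
  have : Fact (Nat.Prime 2) := ⟨Nat.prime_two⟩
  have hexp : ∀ x ∈ P, x * x = 1 := fun x hx =>
    congrArg Subtype.val (IsKleinFour.mul_self (⟨x, hx⟩ : P))
  have hPC : P ≤ Subgroup.centralizer (P : Set G) := fun u hu =>
    Subgroup.mem_centralizer_iff.2 fun q hq =>
      Agent.KleinDefect.abelian_of_mul_self hexp q hq u hu
  have hP : IsPGroup 2 P := IsPGroup.of_card (n := 2) IsKleinFour.card_four
  have hpair : IsBrauerPairOf 2 M B P c :=
    Agent.KernelPairs.isBrauerPairOf_of_induced hM hc ⟨hP, hc.1⟩ hPC le_rfl (by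
      rw [Agent.BrauerPairs.br_eq_self (Agent.BrauerPairs.bIdem_central _ c).1]
      exact Agent.BrauerPairs.bIdem_mul_self hM hc.1)
  have hmax := Agent.BrauerPairs.isMaximal_of_isDefectGroup hM hpair hPD
  have hTe : T = Agent.BrauerPairs.pairStab M P c := Subgroup.ext fun g =>
    (hT g).trans (Agent.BrauerPairs.mem_pairStab_iff hM hc.1).symm
  exact Agent.KleinDefect.main hM hmax IsKleinFour.card_four hexp (hTe ▸ he)

end Cfsg.Agent.S4637
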