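import Cfsg.Statements.S4641
import Cfsg.Agent.Lib.Blocks.BrauerChar.DegreeSquares
import Cfsg.Agent.S4491
-- import your own Cfsg.Agent.* helpers here

set_option autoImplicit false
open Cfsg

namespace Cfsg.Agent.S4641

/-- Let B be a block of the finite group G relative to a maximal ideal M of the algebraic integers containing the prime p, let p^a be the p-part of the order of G and p^d the order of a defect group D of B, and let g be the greatest common divisor of the degrees of the members of B. Then the p-part of g is exactly p^(a−d), and writing g = p^(a−d)·u there is a positive integer v, prime to p and at least the p-regular rank of B (its number of irreducible Brauer characters), with Σ_{χ ∈ B} χ(1)² = p^(2a−d)·u²·v. -/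
theorem result {G : Type*} [Group G] [Finite G] (p : ℕ) [Fact p.Prime] (M : Ideal Cfsg.AlgInt) (hM : Cfsg.IsPModular p M) (B : Set (Cfsg.IrrCharacter G)) (hB : Cfsg.IsPBlock M B) (D : Subgroup G) (hD : Cfsg.IsDefectGroup p M B D) (a d : ℕ) (ha : (Nat.card G).factorization p = a) (hd : Nat.card D = p ^ d) (g : ℕ) (hg1 : ∀ χ ∈ B, g ∣ Cfsg.charDegree (χ : G → ℂ)) (hg2 : ∀ g' : ℕ, (∀ χ ∈ B, g' ∣ Cfsg.charDegree (χ : G → ℂ)) → g' ∣ g) : g.factorization p = a - d ∧ ∃ v : ℕ, 0 < v ∧ ¬ p ∣ v ∧ Cfsg.blockRank p B ≤ v ∧ ∑ᶠ χ ∈ B, Cfsg.charDegree (χ : G → ℂ) ^ 2 = p ^ (2 * a - d) * (g / p ^ (a - d)) ^ 2 * v := by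
  classical
  have hp : p.Prime := hM.1
  have := Fintype.ofFinite G
  obtain ⟨e, h, φ, hφ, hea, hde, hdeg, hh, hall⟩ := BlockDefect.exists_degrees hM hB
  have hed : e = a - d := by
    have h1 := Agent.Blocks.card_defectGroup hM hB hD
    rw [hd] at h1
    have h2 := Nat.pow_right_injective hp.two_le h1
    omega
  have hda : d ≤ a := by
    have h1 := Agent.Blocks.card_defectGroup hM hB hD
    rw [hd] at h1
    have h2 := Nat.pow_right_injective hp.two_le h1
    omega
  have hg0 : g ≠ 0 := fun h0 => (Agent.Blocks.charDegree_pos φ).ne' (Nat.zero_dvd.1 (h0 ▸ hg1 φ hφ))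
  have hgp : g.factorization p = a - d := by
    refine le_antisymm ?_ ?_
    · have h1 := (Nat.factorization_le_iff_dvd hg0 (Agent.Blocks.charDegree_pos φ).ne').2 (hg1 φ hφ) p
      rw [hdeg, Nat.factorization_mul (pow_ne_zero _ hp.ne_zero)
        (show h ≠ 0 from fun h0 => hh (h0 ▸ dvd_zero p)), Finsupp.add_apply, hp.factorization_pow,
        Finsupp.single_eq_same, Nat.factorization_eq_zero_of_not_dvd hh] at h1
      omega
    · rw [← hp.pow_dvd_iff_le_factorization hg0, ← hed]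
      exact hg2 _ hall
  refine ⟨hgp, ?_⟩
  obtain ⟨g', hgg, hpg'⟩ : ∃ g', g = p ^ (a - d) * g' ∧ ¬ p ∣ g' :=
    ⟨g / p ^ g.factorization p, by rw [← hgp, Nat.ordProj_mul_ordCompl_eq_self],
      Nat.not_dvd_ordCompl hp hg0⟩
  have hgdiv : g / p ^ (a - d) = g' := by
    rw [hgg, Nat.mul_div_cancel_left _ (pow_pos hp.pos _)]
  obtain ⟨l, m, c, hl, hm, hc, hcp, hgmc, hsum⟩ := BrauerChar.exists_sum_deg_sq hM hB
  have hterm : ∀ i, ∃ k, 0 < k ∧ m i * c i = p ^ (2 * a - d) * g' ^ 2 * k := by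
    intro i
    obtain ⟨x, hx⟩ := (hgmc g hg1 i).1
    have h1 : p ^ a * g' ∣ c i := by
      refine Nat.Coprime.mul_dvd_of_dvd_of_dvd ?_ (ha ▸ hcp i) ?_
      · exact Nat.Coprime.pow_left _ (hp.coprime_iff_not_dvd.2 hpg')
      · exact (dvd_mul_left g' _).trans (hgg ▸ (hgmc g hg1 i).2)
    obtain ⟨y, hy⟩ := h1
    refine ⟨x * y, Nat.pos_of_ne_zero fun h0 => ?_, ?_⟩
    · rcases Nat.mul_eq_zero.1 h0 with h0 | h0
      · exact (hm i).ne' (by rw [hx, h0, mul_zero])
      · exact (hc i).ne' (by rw [hy, h0, mul_zero])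
    · rw [hx, hy, hgg, show 2 * a - d = (a - d) + a by omega, pow_add]
      ring
  choose k hk0 hk using hterm
  have heq : ∑ᶠ χ ∈ B, Cfsg.charDegree (χ : G → ℂ) ^ 2 = p ^ (2 * a - d) * g' ^ 2 * ∑ i, k i := by
    rw [hsum, Finset.mul_sum]
    exact Finset.sum_congr rfl fun i _ => hk i
  have hfac := Agent.S4491.result p M hM B hB
  have hlk : l ≤ ∑ i, k i := by
    have := Finset.sum_le_sum (s := (Finset.univ : Finset (Fin l))) (f := fun _ => 1) (g := k)
      fun i _ => hk0 i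
    simpa using this
  have hB0 : ∑ i, k i ≠ 0 := fun h0 => by
    rw [h0, mul_zero] at heq
    have hle : Cfsg.charDegree (φ : G → ℂ) ^ 2 ≤ ∑ᶠ χ ∈ B, Cfsg.charDegree (χ : G → ℂ) ^ 2 := by
      rw [finsum_mem_eq_finite_toFinset_sum _ (Set.toFinite B)]
      exact Finset.single_le_sum (f := fun χ : Cfsg.IrrCharacter G => Cfsg.charDegree (χ : G → ℂ) ^ 2)
        (fun _ _ => Nat.zero_le _) ((Set.toFinite B).mem_toFinset.2 hφ)
    have := pow_pos (Agent.Blocks.charDegree_pos φ) 2
    omega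
  refine ⟨∑ i, k i, Nat.pos_of_ne_zero hB0, fun hpv => ?_, hl.trans hlk, by rw [hgdiv]; exact heq⟩
  rw [heq] at hfac
  have hg'0 : g' ^ 2 ≠ 0 := pow_ne_zero _ fun h0 => hpg' (h0 ▸ dvd_zero p)
  rw [Nat.factorization_mul (mul_ne_zero (pow_ne_zero _ hp.ne_zero) hg'0) hB0, Finsupp.add_apply,
    Nat.factorization_mul (pow_ne_zero _ hp.ne_zero) hg'0, Finsupp.add_apply, hp.factorization_pow,
    Finsupp.single_eq_same, Nat.factorization_eq_zero_of_not_dvd
      (fun hd2 => hpg' (hp.dvd_of_dvd_pow hd2)), ha] at hfac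
  have h1 := hp.factorization_pos_of_dvd hB0 hpv
  have h2 := Agent.Blocks.card_defectGroup hM hB hD
  rw [hd] at h2
  have h3 := Nat.pow_right_injective hp.two_le h2
  omega

end Cfsg.Agent.S4641
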