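import Cfsg.Statements.S4644
import Cfsg.Agent.Lib.Blocks.Watanabe
import Cfsg.Agent.Lib.BrauerPairs.InducedPairs

set_option autoImplicit false
open Cfsg

namespace Cfsg.Agent.S4644

/-- Let B be a block of the finite group G relative to a maximal ideal M of the algebraic integers containing the prime p, with a commutative defect group P; let c be a block of C_G(P) inducing B and T the stabilizer of c in N_G(P). Let u be an element of P fixed under conjugation by every element of T, H = C_G(u) (so C_G(P) ≤ H), and f the block of H induced by c inside H. Then B and f have the same p-regular rank and the same number of irreducible characters. -/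
theorem result {G : Type*} [Group G] [Finite G] (p : ℕ) [Fact p.Prime] (M : Ideal Cfsg.AlgInt) (hM : Cfsg.IsPModular p M) (B : Set (Cfsg.IrrCharacter G)) (hB : Cfsg.IsPBlock M B) (P : Subgroup G) (hPD : Cfsg.IsDefectGroup p M B P) (hPab : ∀ x ∈ P, ∀ y ∈ P, x * y = y * x) (c : Set (Cfsg.IrrCharacter (Subgroup.centralizer (P : Set G)))) (hc : Cfsg.IsInducedBlock M (Subgroup.centralizer (P : Set G)) c B) (T : Subgroup G) (hT : ∀ g : G, g ∈ T ↔ (g ∈ Subgroup.normalizer (P : Set G) ∧ Cfsg.StabilizesBlock (Subgroup.centralizer (P : Set G)) c g)) (u : G) (hu : u ∈ P) (huT : ∀ g ∈ T, g * u * g⁻¹ = u) (H : Subgroup G) (hH : H = Subgroup.centralizer ({u} : Set G)) (f : Set (Cfsg.IrrCharacter H)) (hf : Cfsg.IsInducedBlockIn M H (Subgroup.centralizer (P : Set G)) c f) : Cfsg.blockRank p B = Cfsg.blockRank p f ∧ Nat.card B = Nat.card f := by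
  open Cfsg.Agent.Blocks Cfsg.Agent.BrauerPairs in
  classical
  have hPp := isPGroup_defectGroup hM hPD
  have hPC : P ≤ Subgroup.centralizer (P : Set G) := fun x hx =>
    Subgroup.mem_centralizer_iff.2 fun y hy => hPab y hy x hx
  have hmax := isMaximal_of_isDefectGroup hM (isBrauerPairOf_of_induced hM hPp hPC hc) hPD
  obtain rfl : T = pairStab M P c := by
    ext y
    rw [hT y, mem_pairStab_iff hM hc.1]
  obtain rfl : H = Subgroup.centralizer (Subgroup.zpowers u : Set G) := by
    rw [hH, Subgroup.zpowers_eq_closure, Subgroup.centralizer_closure]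
  exact Agent.Watanabe.main hM hmax hPab rfl hu huT hf.2.1
    (Relation.ReflTransGen.single
      (isNormalSubpair_of_inducedIn hM (Subgroup.zpowers_le.2 hu) hPp hPC hf))

end Cfsg.Agent.S4644
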