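import Cfsg.Statements.S4645
import Cfsg.Agent.Lib.CycDefect.Setup

set_option autoImplicit false
open Cfsg

namespace Cfsg.Agent.S4645

/-- Let B be a block of the finite group G relative to a maximal ideal M of the algebraic integers containing the prime p, with a nontrivial cyclic defect group P; let c be a block of C_G(P) inducing B and T the stabilizer of c in N_G(P). Let Q be a nontrivial subgroup of P (so C_G(P) ≤ C_G(Q)), f the block of C_G(Q) induced by c inside C_G(Q), and T' the stabilizer of f in N_G(Q). Then T' = T·C_G(Q), the index of C_G(Q) in T' equals the index of C_G(P) in T, f has p-regular rank 1, and f is a nilpotent block of C_G(Q). -/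
theorem result {G : Type*} [Group G] [Finite G] (p : ℕ) [Fact p.Prime] (M : Ideal Cfsg.AlgInt) (hM : Cfsg.IsPModular p M) (B : Set (Cfsg.IrrCharacter G)) (hB : Cfsg.IsPBlock M B) (P : Subgroup G) (hPD : Cfsg.IsDefectGroup p M B P) (hP1 : P ≠ ⊥) (hcyc : IsCyclic P) (c : Set (Cfsg.IrrCharacter (Subgroup.centralizer (P : Set G)))) (hc : Cfsg.IsInducedBlock M (Subgroup.centralizer (P : Set G)) c B) (T : Subgroup G) (hT : ∀ g : G, g ∈ T ↔ (g ∈ Subgroup.normalizer (P : Set G) ∧ Cfsg.StabilizesBlock (Subgroup.centralizer (P : Set G)) c g)) (Q : Subgroup G) (hQP : Q ≤ P) (hQ1 : Q ≠ ⊥) (f : Set (Cfsg.IrrCharacter (Subgroup.centralizer (Q : Set G)))) (hf : Cfsg.IsInducedBlockIn M (Subgroup.centralizer (Q : Set G)) (Subgroup.centralizer (P : Set G)) c f) (T' : Subgroup G) (hT' : ∀ g : G, g ∈ T' ↔ (g ∈ Subgroup.normalizer (Q : Set G) ∧ Cfsg.StabilizesBlock (Subgroup.centralizer (Q : Set G)) f g)) : T' = T ⊔ Subgroup.centralizer (Q : Set G) ∧ (Subgroup.centralizer (Q : Set G)).relIndex T' = (Subgroup.centralizer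 (P : Set G)).relIndex T ∧ Cfsg.blockRank p f = 1 ∧ Cfsg.IsNilpotentBlock p M f := by
  open Cfsg.Agent.Blocks Cfsg.Agent.BrauerPairs Cfsg.Agent.CycDefect in
  classical
  have hPp := isPGroup_defectGroup hM hPD
  have hPC := le_centralizer_self hcyc
  have hpair := isBrauerPairOf_of_induced hM hPp hPC hc
  have hmax := isMaximal_of_isDefectGroup hM hpair hPD
  obtain rfl : T = pairStab M P c := by
    ext y
    rw [hT y, mem_pairStab_iff hM hc.1]
  have hle : Cfsg.SubpairLE p M Q f P c :=
    Relation.ReflTransGen.single (isNormalSubpair_of_inducedIn hM hQP hPp hPC hf)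
  have hfb := hf.2.1
  obtain rfl : T' = pairStab M Q f := by
    ext y
    rw [hT' y, mem_pairStab_iff hM hfb]
  exact ⟨pairStab_local_eq hM hmax hcyc hQP hfb hle, relIndex_local hM hmax hcyc hQP hfb hle hQ1,
    blockRank_local hM hmax hcyc hQP hfb hle hQ1, nilpotent_local hM hmax hcyc hQP hfb hle hQ1⟩

end Cfsg.Agent.S4645
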