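import Cfsg.Statements.S4646
import Cfsg.Agent.Lib.BrauerPairs.PNilpotent
import Cfsg.Agent.Lib.BrauerPairs.Integral
import Cfsg.Agent.Lib.Transfer.Alperin

set_option autoImplicit false
open Cfsg

namespace Cfsg.Agent.S4646

/-- For a finite group G, a prime p and a maximal ideal M of the algebraic integers containing p: the principal block of G is nilpotent if and only if its p-regular rank is 1 (the trivial Brauer character is its only irreducible Brauer character). -/
theorem result {G : Type*} [Group G] [Finite G] (p : ℕ) [Fact p.Prime] (M : Ideal Cfsg.AlgInt) (hM : Cfsg.IsPModular p M) : Cfsg.IsNilpotentBlock p M (Cfsg.principalBlock M G) ↔ Cfsg.blockRank p (Cfsg.principalBlock M G) = 1 := by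
  classical
  have := Fintype.ofFinite G
  have hint := Cfsg.Agent.BrauerPairs.integralPrincipal hM
  constructor
  · intro h
    refine Cfsg.Agent.BrauerPairs.blockRank_principal_of_complement hM ?_
    refine Cfsg.Agent.Transfer.hasNormalPComplement_of_local default fun R hR _ n hn hco => ?_
    exact Cfsg.Agent.BrauerPairs.local_centralizes_of_nilpotent hM hint h
      ((default : Sylow p G).2.to_le hR.1) hn hco
  · exact fun h => Cfsg.Agent.BrauerPairs.isNilpotentBlock_of_complement
      (Cfsg.Agent.BrauerPairs.complement_of_blockRank_principal hM hint h)
      Cfsg.Agent.BrauerPairs.isPBlock_principal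

end Cfsg.Agent.S4646
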