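import Cfsg.Statements.S4648
import Cfsg.Agent.Lib.BlockFour.Main
import Cfsg.Agent.Lib.BlockFour.Nilpotent
import Cfsg.Agent.S4675

set_option autoImplicit false
open Cfsg

namespace Cfsg.Agent.S4648

/-- Let B be a block of the finite group G relative to a maximal ideal M of the algebraic integers containing the prime p, with a nontrivial defect group D. If B has p-regular rank 1 and at most four irreducible characters, then B is nilpotent, D has exactly as many elements as B has irreducible characters, and p is 2 or 3. -/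
theorem result {G : Type*} [Group G] [Finite G] (p : ℕ) [Fact p.Prime] (M : Ideal Cfsg.AlgInt) (hM : Cfsg.IsPModular p M) (B : Set (Cfsg.IrrCharacter G)) (hB : Cfsg.IsPBlock M B) (D : Subgroup G) (hD : Cfsg.IsDefectGroup p M B D) (hD1 : D ≠ ⊥) (hl : Cfsg.blockRank p B = 1) (hk : Nat.card B ≤ 4) : Cfsg.IsNilpotentBlock p M B ∧ Nat.card D = Nat.card B ∧ (p = 2 ∨ p = 3) := by
  open Cfsg.Agent.Blocks Cfsg.Agent.BrauerPairs in
  classical
  have := Fintype.ofFinite G
  have := Fintype.ofFinite (IrrCharacter G)
  have hp : p.Prime := hM.1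
  -- the upper bound
  obtain ⟨φ, d, -, hd, hsum⟩ := S4675.result p M hM B hB D hD hl
  have hle : Nat.card B ≤ Nat.card D := by
    rw [← hsum, finsum_mem_eq_finite_toFinset_sum _ (Set.toFinite B), Nat.card_coe_set_eq,
      Set.ncard_eq_toFinset_card B (Set.toFinite B), Finset.card_eq_sum_ones]
    refine Finset.sum_le_sum fun χ hχ => Nat.one_le_pow _ _ (Nat.pos_of_ne_zero fun h0 => ?_)
    have h := hd χ ((Set.toFinite B).mem_toFinset.mp hχ) 1 (by simp [IsPRegular, hp.ne_one])
    rw [h0, Nat.cast_zero, zero_mul] at h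
    exact Blocks.irr_one_ne_zero χ h
  -- the lower bound
  obtain ⟨e, h, χ, hχ, hea, hdef, hdeg, hh, hall⟩ := BlockDefect.exists_degrees hM hB
  obtain ⟨N, hN, hsq⟩ := BlockDefect.exists_sum_sq hM hB hχ hdeg hh hall
  obtain ⟨n, c, hc, hdim, hdvd⟩ := BlockFour.exists_dims_of_rank_one hM hB hl hk
  have hdegsum : BlockTwo.degSum B = p ^ ((Nat.card G).factorization p + e) * N := by
    rw [← hsq, BlockTwo.degSum]
    exact Finset.sum_congr (by ext χ; simp) fun _ _ => rfl
  set a := (Nat.card G).factorization p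
  have hN0 : N ≠ 0 := fun h0 => hN (h0 ▸ dvd_zero p)
  have hne : c * (n * n) ≠ 0 := by
    rw [← hdim, hdegsum]
    exact mul_ne_zero (pow_ne_zero _ hp.ne_zero) hN0
  have hc0 : c ≠ 0 := fun h => hne (by rw [h, zero_mul])
  have hn0 : n ≠ 0 := fun h => hne (by rw [h, mul_zero, mul_zero])
  have hv : a + e = c.factorization p + (n.factorization p + n.factorization p) := by
    have h1 : (p ^ (a + e) * N).factorization p = a + e := by
      rw [Nat.factorization_mul (pow_ne_zero _ hp.ne_zero) hN0,
        Finsupp.add_apply, hp.factorization_pow, Finsupp.single_eq_same,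
        Nat.factorization_eq_zero_of_not_dvd hN, add_zero]
    rw [← h1, ← hdegsum, hdim, Nat.factorization_mul hc0 (mul_ne_zero hn0 hn0),
      Nat.factorization_mul hn0 hn0]
    simp only [Finsupp.add_apply]
  have hpa : a ≤ c.factorization p + n.factorization p := by
    have := (hp.pow_dvd_iff_le_factorization (mul_ne_zero hc0 hn0)).mp hdvd
    rwa [Nat.factorization_mul hc0 hn0, Finsupp.add_apply] at this
  have hge : Nat.card D ≤ Nat.card B := by
    rw [Blocks.card_defectGroup hM hB hD, hdef]
    refine le_trans ?_ hc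
    exact Nat.le_of_dvd (Nat.pos_of_ne_zero hc0)
      ((hp.pow_dvd_iff_le_factorization hc0).mpr (by omega))
  have hDk : Nat.card D = Nat.card B := le_antisymm hge hle
  have hD2 : 2 ≤ Nat.card D := D.one_lt_card_iff_ne_bot.mpr hD1
  refine ⟨BlockFour.isNilpotentBlock_of_card hM hB hD (hge.trans hk) hl hDk.symm, hDk, ?_⟩
  obtain ⟨j, hj⟩ := (isPGroup_defectGroup hM hD).exists_card_eq
  have hp4 : p ≤ 4 := by
    refine le_trans (Nat.le_of_dvd (by omega) ?_) (hge.trans hk)
    rw [hj]
    exact dvd_pow_self p fun h0 => by rw [h0, pow_zero] at hj; omega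
  have := hp.two_le
  rcases Nat.eq_or_lt_of_le hp4 with rfl | h4
  · exact absurd hp (by norm_num)
  omega

end Cfsg.Agent.S4648
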