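import Cfsg.Statements.S4650
import Cfsg.Agent.Lib.BrauerPairs.InducedPairs
import Cfsg.Agent.S4687

set_option autoImplicit false
open Cfsg

namespace Cfsg.Agent.S4650

/-- Let B be a block of the finite group G relative to a maximal ideal M of the algebraic integers containing the prime p, with a nontrivial commutative defect group P; let c be a block of C_G(P) inducing B and T the stabilizer of c in N_G(P). Then T/C_G(P) acts freely on the non-identity elements of P (an element of T fixing a non-identity element of P under conjugation lies in C_G(P)) if and only if, for every nontrivial subgroup Q of P, the block of C_G(Q) induced by c inside C_G(Q) is a nilpotent block of C_G(Q). -/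
theorem result {G : Type*} [Group G] [Finite G] (p : ℕ) [Fact p.Prime] (M : Ideal Cfsg.AlgInt) (hM : Cfsg.IsPModular p M) (B : Set (Cfsg.IrrCharacter G)) (hB : Cfsg.IsPBlock M B) (P : Subgroup G) (hPD : Cfsg.IsDefectGroup p M B P) (hPab : ∀ x ∈ P, ∀ y ∈ P, x * y = y * x) (hP1 : P ≠ ⊥) (c : Set (Cfsg.IrrCharacter (Subgroup.centralizer (P : Set G)))) (hc : Cfsg.IsInducedBlock M (Subgroup.centralizer (P : Set G)) c B) (T : Subgroup G) (hT : ∀ g : G, g ∈ T ↔ (g ∈ Subgroup.normalizer (P : Set G) ∧ Cfsg.StabilizesBlock (Subgroup.centralizer (P : Set G)) c g)) : (∀ g ∈ T, ∀ x ∈ P, x ≠ 1 → g * x * g⁻¹ = x → g ∈ Subgroup.centralizer (P : Set G)) ↔ ∀ Q : Subgroup G, Q ≤ P → Q ≠ ⊥ → ∀ f : Set (Cfsg.IrrCharacter (Subgroup.centralizer (Q : Set G))), Cfsg.IsInducedBlockIn M (Subgroup.centralizer (Q : Set G)) (Subgroup.centralizer (P : Set G)) c f → Cfsg.IsNilpotentBlock p M f := by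
  open Cfsg.Agent.Blocks Cfsg.Agent.BrauerPairs in
  classical
  have : Fact p.Prime := ⟨hM.1⟩
  have := Fintype.ofFinite G
  have hPp := isPGroup_defectGroup hM hPD
  have hPC : P ≤ Subgroup.centralizer (P : Set G) := fun x hx =>
    Subgroup.mem_centralizer_iff.2 fun y hy => hPab y hy x hx
  have hpair := isBrauerPairOf_of_induced hM hPp hPC hc
  have hmax := isMaximal_of_isDefectGroup hM hpair hPD
  have key : ∀ Q : Subgroup G, Q ≤ P → ∀ f : Set (Cfsg.IrrCharacter (Subgroup.centralizer (Q : Set G))),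
      Cfsg.IsInducedBlockIn M (Subgroup.centralizer (Q : Set G))
        (Subgroup.centralizer (P : Set G)) c f →
      (Cfsg.IsNilpotentBlock p M f ↔ ∀ g ∈ Subgroup.centralizer (Q : Set G),
        g ∈ Subgroup.normalizer (P : Set G) →
        Cfsg.StabilizesBlock (Subgroup.centralizer (P : Set G)) c g →
          g ∈ Subgroup.centralizer (P : Set G)) := by
    intro Q hQP f hfind
    have hn := isNormalSubpair_of_inducedIn hM hQP hPp hPC hfind
    have hle : Cfsg.SubpairLE p M Q f P c := Relation.ReflTransGen.single hn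
    have hPQ : P ≤ Subgroup.centralizer (Q : Set G) := hPC.trans (Subgroup.centralizer_le hQP)
    have hCC : Subgroup.centralizer (P : Set G) ≤ Subgroup.centralizer (Q : Set G) :=
      Subgroup.centralizer_le hQP
    have hD : Cfsg.IsDefectGroup p M f
        ((P ⊓ Subgroup.centralizer (Q : Set G)).subgroupOf (Subgroup.centralizer (Q : Set G))) :=
      (local_fully_iff hM hmax hle hfind.2.1 (centralizer_le_normalizer hM Q) hfind.2.1 rfl).1
        fun g _ => by
          rw [inf_eq_left.2 hPQ]
          exact Subgroup.card_le_of_le inf_le_left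
    rw [inf_eq_left.2 hPQ] at hD
    obtain ⟨P', rfl⟩ : ∃ P' : Subgroup (Subgroup.centralizer (Q : Set G)),
        P = P'.map (Subgroup.centralizer (Q : Set G)).subtype :=
      ⟨P.subgroupOf _, (Subgroup.map_subgroupOf_eq_of_le hPQ).symm⟩
    rw [show (P'.map (Subgroup.centralizer (Q : Set G)).subtype).subgroupOf _ = P' from
      Subgroup.comap_map_eq_self_of_injective (Subgroup.subtype_injective _) P'] at hD
    obtain ⟨c', hc', rfl⟩ := exists_upBlock hM P' hCC hc.1
    have hpair' : Cfsg.IsBrauerPairOf p M f P' c' :=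
      isBrauerPairOf_of_induced hM (isPGroup_defectGroup hM hD) (le_centralizer_sub hM hPC)
        ((isInducedBlockIn_up_iff hM P' hCC hc' f).1 hfind)
    rw [S4687.result p M hM f P' c' (isMaximal_of_isDefectGroup hM hpair' hD)
      (fun x hx y hy => Subtype.ext (hPab _ ⟨x, hx, rfl⟩ _ ⟨y, hy, rfl⟩))]
    constructor
    · intro h g hgQ hgN hgst
      have hgN' := (mem_normalizer_sub_iff hM P' ⟨g, hgQ⟩).2 hgN
      exact (mem_centralizer_sub_iff P' ⟨g, hgQ⟩).1
        (h ⟨g, hgQ⟩ hgN' ((stabilizes_sub_iff hM P' hCC hc' hgN').2 hgst))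
    · intro h g hgN hgst
      exact (mem_centralizer_sub_iff P' g).2 (h g g.2 ((mem_normalizer_sub_iff hM P' g).1 hgN)
        ((stabilizes_sub_iff hM P' hCC hc' hgN).1 hgst))
  constructor
  · intro hfree Q hQP hQ1 f hfind
    refine (key Q hQP f hfind).2 fun g hgQ hgN hgst => ?_
    obtain ⟨x, hx, hx1⟩ := Q.bot_or_exists_ne_one.resolve_left hQ1
    refine hfree g ((hT g).2 ⟨hgN, hgst⟩) x (hQP hx) hx1 ?_
    rw [← Subgroup.mem_centralizer_iff.1 hgQ x hx, mul_inv_cancel_right]
  · intro hnil g hg x hx hx1 hfix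
    have hQP : Subgroup.zpowers x ≤ P := Subgroup.zpowers_le.2 hx
    obtain ⟨f, hf⟩ := exists_inducedIn hM hQP hPp hPC hc.1
    refine (key _ hQP f hf).1 (hnil _ hQP (by simpa using hx1) f hf) g ?_ ((hT g).1 hg).1
      ((hT g).1 hg).2
    rw [Subgroup.mem_centralizer_iff]
    intro y hy
    obtain ⟨z, rfl⟩ := Subgroup.mem_zpowers_iff.1 hy
    exact (Commute.zpow_right (mul_inv_eq_iff_eq_mul.1 hfix : Commute g x) z).eq.symm

end Cfsg.Agent.S4650
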