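import Cfsg.Statements.S4654
import Cfsg.Agent.Lib.BrauerPairs.Normal
import Cfsg.Agent.EqLemmas

set_option autoImplicit false
open Cfsg

namespace Cfsg.Agent.S4654

/-- Fix a prime p and a maximal ideal M of the algebraic integers containing p. Let P be a normal p-subgroup of the finite group G, B a p-block of G and e a p-block of C_G(P) such that (P, e) is a Brauer pair of B (as P is normal, this says that e occurs in the idempotent of B, which is supported on C_G(P)). Let T be the stabilizer of e in G under conjugation. Then the idempotent of e is a block idempotent of T: some block E of T has, at every element of T, the same idempotent coefficient as e (zero off C_G(P)); and the idempotent of B is the sum of the distinct G-conjugates of the idempotent of e: its coefficient at g is the sum over all x in G of the coefficient of e at x⁻¹ g x, divided by the order of T. -/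
theorem result {G : Type*} [Group G] [Fintype G] (p : ℕ) [Fact p.Prime] (M : Ideal Cfsg.AlgInt) (hM : Cfsg.IsPModular p M) (P : Subgroup G) [P.Normal] (hP : IsPGroup p P) (B : Set (Cfsg.IrrCharacter G)) (e : Set (Cfsg.IrrCharacter (Subgroup.centralizer (P : Set G)))) (hBe : Cfsg.IsBrauerPairOf p M B P e) (T : Subgroup G) (hT : ∀ x : G, x ∈ T ↔ Cfsg.StabilizesBlock (Subgroup.centralizer (P : Set G)) e x) : (∃ E : Set (Cfsg.IrrCharacter T), Cfsg.IsPBlock M E ∧ ∀ t : T, Cfsg.blockCoeff E t = Cfsg.subgroupBlockCoeff (Subgroup.centralizer (P : Set G)) e (t : G)) ∧ ∀ g : G, Cfsg.blockCoeff B g = (Nat.card T : ℂ)⁻¹ * ∑ x : G, Cfsg.subgroupBlockCoeff (Subgroup.centralizer (P : Set G)) e (x⁻¹ * g * x) := by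
  classical
  obtain ⟨⟨-, he⟩, -, -⟩ := id hBe
  have hN : ∀ x : G, x ∈ Subgroup.normalizer (P : Set G) := fun x => by
    rw [Subgroup.normalizer_eq_top]
    exact Subgroup.mem_top x
  have hT' : ∀ x, x ∈ T ↔ BrauerPairs.cj x (BrauerPairs.cb M P e) = BrauerPairs.cb M P e :=
    fun x => (hT x).trans
      (BrauerPairs.stabilizesBlock_iff hM he (BrauerPairs.mem_normalizer_centralizer (hN x)))
  have hfix : BrauerPairs.Fixed T (BrauerPairs.cb M P e) := fun x hx => (hT' x).1 hx
  have hCT : Subgroup.centralizer (P : Set G) ≤ T := fun x hx =>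
    (hT' x).2 ((BrauerPairs.bIdem_central _ e).2 x hx)
  have hPT : P ≤ T := fun x hx => (hT' x).2 (by
    ext y
    rw [BrauerPairs.coeff_cj]
    by_cases hy : y ∈ Subgroup.centralizer (P : Set G)
    · rw [mul_assoc, ← Subgroup.mem_centralizer_iff.1 hy x hx, inv_mul_cancel_left]
    · rw [(BrauerPairs.bIdem_central _ e).1 y hy, (BrauerPairs.bIdem_central _ e).1 _ fun h => hy ?_]
      have hn := BrauerPairs.mem_normalizer_centralizer (hN x⁻¹)
      exact (Subgroup.mem_normalizer_iff.1 hn y).2 (by rwa [inv_inv]))
  obtain ⟨E, hE, -, hEc⟩ := BrauerPairs.exists_block_of_stable hM hP hPT (fun x _ => hN x) hCT he hfix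
  exact ⟨⟨E, hE, hEc⟩, fun g =>
    BrauerPairs.blockCoeff_eq_orbit_average hM hP hBe hT' g⟩

end Cfsg.Agent.S4654
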