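import Cfsg.Statements.S4662
import Cfsg.Agent.Lib.BrauerPairs.LocalDefect
import Cfsg.Agent.EqLemmas

set_option autoImplicit false
open Cfsg

namespace Cfsg.Agent.S4662

/-- Fix a prime p and a maximal ideal M of the algebraic integers containing p. Let (P, e) be a maximal Brauer pair of the p-block B of the finite group G, Q ≤ P, and f the p-block of C_G(Q) with (Q, f) ≤ (P, e). Let T be the stabilizer of f in N_G(Q). Then the idempotent of f is a block idempotent of T, and N_P(Q) is contained in a defect group of that block of T; moreover for some x in G the conjugate pair (x Q x⁻¹, conjugate of f) again lies below (P, e) and, with T' the stabilizer of the conjugate of f in N_G(x Q x⁻¹), N_P(x Q x⁻¹) is a defect group of the block of T' whose idempotent is that of the conjugate of f. -/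
theorem result {G : Type*} [Group G] [Fintype G] (p : ℕ) [Fact p.Prime] (M : Ideal Cfsg.AlgInt) (hM : Cfsg.IsPModular p M) (B : Set (Cfsg.IrrCharacter G)) (P Q : Subgroup G) (e : Set (Cfsg.IrrCharacter (Subgroup.centralizer (P : Set G)))) (f : Set (Cfsg.IrrCharacter (Subgroup.centralizer (Q : Set G)))) (hmax : Cfsg.IsMaximalBrauerPair p M B P e) (hQP : Q ≤ P) (hf : Cfsg.IsPBlock M f) (hle : Cfsg.SubpairLE p M Q f P e) (T : Subgroup G) (hT : ∀ y : G, y ∈ T ↔ y ∈ Subgroup.normalizer (Q : Set G) ∧ Cfsg.StabilizesBlock (Subgroup.centralizer (Q : Set G)) f y) : (∃ F : Set (Cfsg.IrrCharacter T), Cfsg.IsPBlock M F ∧ (∀ t : T, Cfsg.blockCoeff F t = Cfsg.subgroupBlockCoeff (Subgroup.centralizer (Q : Set G)) f (t : G)) ∧ ∃ D : Subgroup T, Cfsg.IsDefectGroup p M F D ∧ (P ⊓ Subgroup.normalizer (Q : Set G)).subgroupOf T ≤ D) ∧ ∃ x : G, Cfsg.SubpairLE p M (Q.map (MulAut.conj x).toMonoidHom) (Cfsg.conjBlock Q x f) P e ∧ ∀ (T' : Subgroup G), (∀ y : G, y ∈ T' ↔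 y ∈ Subgroup.normalizer ((Q.map (MulAut.conj x).toMonoidHom) : Set G) ∧ Cfsg.StabilizesBlock (Subgroup.centralizer ((Q.map (MulAut.conj x).toMonoidHom) : Set G)) (Cfsg.conjBlock Q x f) y) → ∃ F' : Set (Cfsg.IrrCharacter T'), Cfsg.IsPBlock M F' ∧ (∀ t : T', Cfsg.blockCoeff F' t = Cfsg.subgroupBlockCoeff (Subgroup.centralizer ((Q.map (MulAut.conj x).toMonoidHom) : Set G)) (Cfsg.conjBlock Q x f) (t : G)) ∧ Cfsg.IsDefectGroup p M F' ((P ⊓ Subgroup.normalizer ((Q.map (MulAut.conj x).toMonoidHom) : Set G)).subgroupOf T') := by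
  have hPe := hmax.1.1
  have hQ : IsPGroup p Q := hPe.1.to_le hQP
  have main : ∀ (R : Subgroup G) (r : Set (Cfsg.IrrCharacter (Subgroup.centralizer (R : Set G)))),
      R ≤ P → Cfsg.IsPBlock M r → Cfsg.SubpairLE p M R r P e → ∀ S : Subgroup G,
      (∀ y : G, y ∈ S ↔ y ∈ Subgroup.normalizer (R : Set G) ∧
        Cfsg.StabilizesBlock (Subgroup.centralizer (R : Set G)) r y) →
      S ≤ Subgroup.normalizer (R : Set G) ∧ P ⊓ S = P ⊓ Subgroup.normalizer (R : Set G) ∧
      ∃ F : Set (Cfsg.IrrCharacter S), Cfsg.IsPBlock M F ∧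
        BrauerPairs.bIdem M S F = BrauerPairs.cb M R r ∧
        ∀ t : S, Cfsg.blockCoeff F t =
          Cfsg.subgroupBlockCoeff (Subgroup.centralizer (R : Set G)) r (t : G) := by
    intro R r hRP hr hle S hS
    have hfix : ∀ y ∈ Subgroup.normalizer (R : Set G),
        BrauerPairs.cj y (BrauerPairs.cb M R r) = BrauerPairs.cb M R r → y ∈ S :=
      fun y hy h => (hS y).2 ⟨hy,
        (BrauerPairs.stabilizesBlock_iff hM hr (BrauerPairs.mem_normalizer_centralizer hy)).2 h⟩
    have hSN : S ≤ Subgroup.normalizer (R : Set G) := fun y hy => ((hS y).1 hy).1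
    refine ⟨hSN, le_antisymm (inf_le_inf_left _ hSN) (le_inf inf_le_left fun y hy => ?_),
      BrauerPairs.exists_block_of_stable hM (hPe.1.to_le hRP)
        (fun y hy => hfix y (Subgroup.le_normalizer hy)
          (BrauerPairs.cj_eq_self_of_suppIn (BrauerPairs.bIdem_central _ r).1 hy)) hSN
        (fun y hy => hfix y (BrauerPairs.centralizer_le_normalizer hM R hy)
          ((BrauerPairs.bIdem_central _ r).2 y hy)) hr fun y hy => ?_⟩
    · exact hfix y hy.2 ((BrauerPairs.br_cb_ne_zero_of_le hM hPe hle inf_le_left inf_le_right).1 y hy)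
    · exact (BrauerPairs.stabilizesBlock_iff hM hr
        (BrauerPairs.mem_normalizer_centralizer (hSN hy))).1 ((hS y).1 hy).2
  obtain ⟨hTN, hPT, F, hF, hFeq, hFc⟩ := main Q f hQP hf hle T hT
  refine ⟨⟨F, hF, hFc, ?_⟩, ?_⟩
  · obtain ⟨D, hD, hD'⟩ := BrauerPairs.exists_local_defectGroup_ge hM hPe hle hTN hF hFeq
    exact ⟨D, hD, hPT ▸ hD'⟩
  obtain ⟨x, hx, hd⟩ := BrauerPairs.local_defect hM hmax hle hf hTN hF hFeq
  refine ⟨x, hx, fun T' hT' => ?_⟩
  have hxP : Blocks.conjSub x Q ≤ P := BrauerPairs.subgroup_le_of_subpairLE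
    (a := (⟨Blocks.conjSub x Q, Cfsg.conjBlock Q x f⟩ : Cfsg.BrauerPairIdx G)) (b := ⟨P, e⟩) hx
  obtain ⟨-, hPT', F', hF', hFeq', hFc'⟩ := main (Blocks.conjSub x Q) (Cfsg.conjBlock Q x f) hxP
    (BrauerPairs.isPBlock_conjBlock _ _ hf) hx T' hT'
  refine ⟨F', hF', hFc', hPT' ▸ hd T' F' ?_ hF' hFeq'⟩
  have hnor : ∀ y : G, y ∈ Subgroup.normalizer (Blocks.conjSub x Q : Set G) ↔
      x⁻¹ * y * x ∈ Subgroup.normalizer (Q : Set G) := by
    intro y
    rw [← Blocks.conjSub_eq_self_iff, ← Blocks.conjSub_eq_self_iff, Blocks.conjSub_mul]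
    constructor
    · intro h
      rw [← Blocks.conjSub_mul (x⁻¹ * y) x, ← Blocks.conjSub_mul x⁻¹ y, Blocks.conjSub_mul y x, h,
        Blocks.conjSub_mul, inv_mul_cancel, Blocks.conjSub_one]
    · intro h
      conv_rhs => rw [← h, Blocks.conjSub_mul]
      congr 1
      group
  ext y
  rw [Blocks.mem_conjSub, hT', hT, ← hnor]
  refine and_congr_right fun hy => ?_
  rw [BrauerPairs.stabilizesBlock_iff hM hf
      (BrauerPairs.mem_normalizer_centralizer ((hnor y).1 hy)),
    BrauerPairs.stabilizesBlock_iff hM (BrauerPairs.isPBlock_conjBlock Q x hf)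
      (BrauerPairs.mem_normalizer_centralizer hy)]
  show BrauerPairs.cj y (BrauerPairs.cb M (Blocks.conjSub x Q) (Cfsg.conjBlock Q x f)) =
    BrauerPairs.cb M (Blocks.conjSub x Q) (Cfsg.conjBlock Q x f) ↔ _
  rw [← BrauerPairs.cj_cb hM, BrauerPairs.cj_mul, BrauerPairs.cj_mul]
  constructor
  · intro h
    exact (congrArg (BrauerPairs.cj x⁻¹) h).trans (BrauerPairs.cj_inv_cj x _)
  · intro h
    exact (BrauerPairs.cj_cj_inv x _).symm.trans (congrArg (BrauerPairs.cj x) h)

end Cfsg.Agent.S4662
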