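import Cfsg.Statements.S4663
import Cfsg.Agent.Lib.BrauerPairs.Subpair
import Cfsg.Agent.Lib.ZStar.Third
import Cfsg.Agent.EqLemmas

set_option autoImplicit false
open Cfsg

namespace Cfsg.Agent.S4663

/-- Fix a prime p and a maximal ideal M of the algebraic integers containing p. Brauer's Third Main Theorem in the language of Brauer pairs: for the principal p-block B₀ of the finite group G and any p-subgroup Q, a p-block e of C_G(Q) makes (Q, e) a Brauer pair of B₀ if and only if e is the principal p-block of C_G(Q). Equivalently, modulo M the truncation to C_G(Q) of the idempotent of B₀ is the idempotent of the principal block of C_G(Q). -/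
theorem result {G : Type*} [Group G] [Fintype G] (p : ℕ) [Fact p.Prime] (M : Ideal Cfsg.AlgInt) (hM : Cfsg.IsPModular p M) (Q : Subgroup G) (hQ : IsPGroup p Q) (e : Set (Cfsg.IrrCharacter (Subgroup.centralizer (Q : Set G)))) (he : Cfsg.IsPBlock M e) : Cfsg.IsBrauerPairOf p M (Cfsg.principalBlock M G) Q e ↔ e = Cfsg.principalBlock M (Subgroup.centralizer (Q : Set G)) := by
  classical
  have key : BrauerPairs.br Q (BrauerPairs.blk M (Cfsg.principalBlock M G)) =
      BrauerPairs.cb M Q (Cfsg.principalBlock M (Subgroup.centralizer (Q : Set G))) := by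
    ext x
    rw [BrauerPairs.coeff_br, BrauerPairs.coeff_bIdem hM, BrauerPairs.blk, BrauerPairs.coeff_red,
      Cfsg.subgroupBlockCoeff]
    split_ifs with hx
    · rw [BrauerPairs.res_eq_iff hM (Blocks.memR_blockCoeff hM BrauerPairs.isPBlock_principal _)
        (Blocks.memR_blockCoeff hM BrauerPairs.isPBlock_principal _)]
      exact ZStar.third_main_principal hM Q hQ ⟨x, hx⟩
    · exact (BrauerPairs.res_zero hM).symm
  rw [BrauerPairs.isBrauerPairOf_iff hM, key]
  constructor
  · rintro ⟨-, -, h⟩
    by_contra hne
    refine BrauerPairs.bIdem_ne_zero hM he (h.symm.trans ?_)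
    exact BrauerPairs.bIdem_mul_of_ne hM BrauerPairs.isPBlock_principal he (Ne.symm hne)
  · rintro rfl
    exact ⟨⟨hQ, he⟩, BrauerPairs.isPBlock_principal, BrauerPairs.bIdem_mul_self hM he⟩

end Cfsg.Agent.S4663
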