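import Cfsg.Statements.S4664
import Cfsg.Agent.Lib.Blocks.WeakOrth

set_option autoImplicit false
open Cfsg

namespace Cfsg.Agent.S4664

/-- Fix a prime p and a maximal ideal M of the algebraic integers containing p, and let B be a p-block of the finite group G. Let m be the p'-part of the order of G and η = exp(2πi/m). Then every coefficient of the idempotent of B lies in the cyclotomic field ℚ(η). -/
theorem result {G : Type*} [Group G] [Fintype G] (p : ℕ) [Fact p.Prime] (M : Ideal Cfsg.AlgInt) (hM : Cfsg.IsPModular p M) (B : Set (Cfsg.IrrCharacter G)) (hB : Cfsg.IsPBlock M B) (g : G) : Cfsg.blockCoeff B g ∈ IntermediateField.adjoin ℚ ({Complex.exp (2 * Real.pi * Complex.I / ((Nat.card G / p ^ (Nat.card G).factorization p : ℕ) : ℂ))} : Set ℂ) := by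
  classical
  set m := Nat.card G / p ^ (Nat.card G).factorization p with hm
  set K := IntermediateField.adjoin ℚ ({Complex.exp (2 * Real.pi * Complex.I / (m : ℂ))} : Set ℂ)
  have hp : p.Prime := Fact.out
  have hm0 : m ≠ 0 := by
    rw [hm]
    exact (Nat.div_pos (Nat.le_of_dvd Nat.card_pos (Nat.ordProj_dvd _ _))
      (pow_pos hp.pos _)).ne'
  have : NeZero m := ⟨hm0⟩
  by_cases hg : p ∣ orderOf g
  · rw [Blocks.blockCoeff_eq_ofOmega,
      Blocks.ofOmega_singular_eq_zero hM (Blocks.blockInd_mem_intRing hM hB) hg]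
    exact zero_mem K
  have hdvd : orderOf g ∣ m := by
    have h1 : orderOf g ∣ p ^ (Nat.card G).factorization p * m := by
      rw [hm, Nat.ordProj_mul_ordCompl_eq_self]
      exact orderOf_dvd_natCard g
    exact (Nat.Coprime.dvd_mul_left
      (Nat.Coprime.pow_right _ ((hp.coprime_iff_not_dvd.2 hg).symm))).1 h1
  have hval : ∀ (χ : Cfsg.IrrCharacter G) (x : G), orderOf x ∣ m → (χ : G → ℂ) x ∈ K := by
    intro χ x hx
    obtain ⟨n, ρ, -, hρ⟩ := χ.2
    obtain ⟨b, μ, hμ, hroot⟩ := Cfsg.Agent.Char.exists_eigenbasis ρ x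
    rw [← hρ, Cfsg.Agent.Char.character_eq_sum_eigenvalues ρ x b μ hμ]
    refine sum_mem fun i _ => ?_
    obtain ⟨c, hc⟩ := hx
    obtain ⟨i', -, hi'⟩ := (Complex.isPrimitiveRoot_exp m hm0).eq_pow_of_pow_eq_one
      (show μ i ^ m = 1 by rw [hc, pow_mul, hroot i, one_pow])
    rw [← hi']
    exact pow_mem (IntermediateField.mem_adjoin_simple_self ℚ _) _
  rw [Cfsg.blockCoeff]
  refine mul_mem (inv_mem (natCast_mem K _)) ?_
  refine finsum_mem_induction (fun z => z ∈ K) (zero_mem K) (fun _ _ => add_mem) fun χ _ => ?_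
  refine mul_mem (hval χ 1 (by simp)) ?_
  rw [← Cfsg.Agent.Char.IsCharacter.apply_inv (Cfsg.Agent.Char.IsIrrCharacter.isCharacter χ.2)]
  exact hval χ g⁻¹ (by rwa [orderOf_inv])

end Cfsg.Agent.S4664
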