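import Cfsg.Statements.S4665
import Cfsg.Agent.EqLemmas

set_option autoImplicit false
open Cfsg

namespace Cfsg.Agent.S4665

theorem irr_apply_one_ne {G : Type*} [Group G] {ψ : G → ℂ} (h : IsIrrCharacter G ψ) : ψ 1 ≠ 0 := by
  obtain ⟨d, ρ, hρ, rfl⟩ := h
  rw [Representation.char_one, Module.finrank_fin_fun, Nat.cast_ne_zero]
  rintro rfl
  have := hρ
  exact bot_ne_top (α := Subrepresentation ρ)
    (Subrepresentation.toSubmodule_injective (Subsingleton.elim _ _))

theorem sum_restrict {G : Type*} [Group G] {d : ℕ} (ρ : Representation ℂ G (Fin d → ℂ))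
    (S : Subgroup G) [Fintype S] :
    ∑ s : S, ρ.character (s : G) =
      (Nat.card S : ℂ) * (Module.finrank ℂ (Representation.invariants (ρ.comp S.subtype)) : ℕ) := by
  have hne : (Nat.card S : ℂ) ≠ 0 := Nat.cast_ne_zero.2 Nat.card_pos.ne'
  have : Invertible (Nat.card S : ℂ) := invertibleOfNonzero hne
  rw [← Representation.card_inv_mul_sum_char_eq_finrank (ρ.comp S.subtype), ← mul_assoc,
    mul_inv_cancel₀ hne, one_mul]
  rfl

/-- Fix a prime p, a maximal ideal M of the algebraic integers containing p, and a p-block B of the finite group G, and let p^a be the p-part of the order of G. Let χ be an integer combination of the irreducible characters in B. If the function that agrees with χ on p-regular elements and vanishes on p-singular elements is again an integer combination of the irreducible characters in B, then p^a divides χ(1). -/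
theorem result {G : Type*} [Group G] [Fintype G] (p : ℕ) [Fact p.Prime] (M : Ideal Cfsg.AlgInt) (hM : Cfsg.IsPModular p M) (B : Set (Cfsg.IrrCharacter G)) (hB : Cfsg.IsPBlock M B) (χ : G → ℂ) (hχ : (∃ n : Cfsg.IrrCharacter G → ℤ, ∀ g : G, χ g = ∑ᶠ ψ ∈ B, (n ψ : ℂ) * (ψ : G → ℂ) g)) (h0 : (∃ n : Cfsg.IrrCharacter G → ℤ, ∀ g : G, Cfsg.pRegularPart p χ g = ∑ᶠ ψ ∈ B, (n ψ : ℂ) * (ψ : G → ℂ) g)) : ∃ k : ℤ, χ 1 = (p ^ (Nat.card G).factorization p : ℂ) * k := by
  classical
  obtain ⟨n, hn⟩ := h0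
  have hp : p.Prime := Fact.out
  have h1 : IsPRegular p (1 : G) := by simp [IsPRegular, hp.not_dvd_one, orderOf_one]
  have hχ1 : pRegularPart p χ 1 = χ 1 := by simp [pRegularPart, h1]
  by_cases hfin : {ψ : IrrCharacter G | ψ ∈ B ∧ n ψ ≠ 0}.Finite
  swap
  · refine ⟨0, ?_⟩
    rw [Int.cast_zero, mul_zero, ← hχ1, hn 1]
    refine finsum_mem_eq_zero_of_infinite ?_
    refine Set.Infinite.mono ?_ hfin
    rintro ψ ⟨hψB, hψn⟩
    refine ⟨hψB, ?_⟩
    simp only [Function.mem_support, ne_eq, mul_eq_zero, Int.cast_eq_zero, not_or]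
    exact ⟨hψn, irr_apply_one_ne ψ.2⟩
  obtain ⟨S⟩ := (inferInstance : Nonempty (Sylow p G))
  have hcard : Nat.card S = p ^ (Nat.card G).factorization p := S.card_eq_multiplicity
  have hsum : ∀ g : G, pRegularPart p χ g = ∑ ψ ∈ hfin.toFinset, (n ψ : ℂ) * (ψ : G → ℂ) g := by
    intro g
    rw [hn g]
    refine finsum_mem_eq_sum_of_inter_support_eq _ ?_
    ext ψ
    simp only [Set.mem_inter_iff, Function.mem_support, Finset.mem_coe, Set.Finite.mem_toFinset,
      Set.mem_setOf_eq, ne_eq, mul_eq_zero, Int.cast_eq_zero]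
    tauto
  have hS : ∀ s : (S : Subgroup G), pRegularPart p χ (s : G) = if s = 1 then χ 1 else 0 := by
    intro s
    by_cases hs : s = 1
    · subst hs
      simp [hχ1]
    · rw [if_neg hs]
      have : ¬ IsPRegular p (s : G) := by
        simp only [IsPRegular, not_not]
        obtain ⟨k, hk⟩ := IsPGroup.iff_orderOf.1 S.isPGroup' s
        rw [Subgroup.orderOf_coe, hk]
        rcases k.eq_zero_or_pos with h | h
        · exact absurd (orderOf_eq_one_iff.1 (by simpa [h] using hk)) hs
        · exact dvd_pow_self p h.ne'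
      simp [pRegularPart, this]
  have hψ : ∀ ψ : IrrCharacter G, ∃ m : ℕ,
      ∑ s : (S : Subgroup G), (ψ : G → ℂ) s = (Nat.card (S : Subgroup G) : ℂ) * m := by
    rintro ⟨ψ, d, ρ, -, rfl⟩
    refine ⟨_, sum_restrict ρ (S : Subgroup G)⟩
  choose m hm using hψ
  refine ⟨∑ ψ ∈ hfin.toFinset, n ψ * (m ψ : ℤ), ?_⟩
  calc χ 1 = ∑ s : (S : Subgroup G), pRegularPart p χ (s : G) := by simp [hS]
    _ = ∑ ψ ∈ hfin.toFinset, ∑ s : (S : Subgroup G), (n ψ : ℂ) * (ψ : G → ℂ) s := by
        rw [Finset.sum_comm]; simp [hsum]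
    _ = _ := by
        push_cast
        rw [Finset.mul_sum]
        refine Finset.sum_congr rfl fun ψ _ => ?_
        rw [← Finset.mul_sum, hm ψ, hcard]
        push_cast
        ring

end Cfsg.Agent.S4665
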