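import Cfsg.Statements.S4668
import Cfsg.Agent.Lib.BrauerPairs.Normal
import Cfsg.Agent.Lib.Blocks.WeakOrth
import Cfsg.Agent.Lib.CharP.Basic
import Cfsg.Agent.EqLemmas

set_option autoImplicit false
open Cfsg

namespace Cfsg.Agent.S4668

/-- Fix a prime p and a maximal ideal M of the algebraic integers containing p. Let Q₀ < Q₁ < ⋯ < Q_m be a strictly increasing chain of p-subgroups of the finite group G and N the intersection of their normalizers. Then every block idempotent of N is supported on C_G(Q_m): for every p-block E of N, the idempotent coefficient of E vanishes at every element of N outside C_G(Q_m). -/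
theorem result {G : Type*} [Group G] [Fintype G] (p : ℕ) [Fact p.Prime] (M : Ideal Cfsg.AlgInt) (hM : Cfsg.IsPModular p M) (m : ℕ) (Q : Fin (m + 1) → Subgroup G) (hQ : StrictMono Q) (hQp : ∀ i, IsPGroup p (Q i)) (N : Subgroup G) (hN : ∀ g : G, g ∈ N ↔ ∀ i, g ∈ Subgroup.normalizer (Q i : Set G)) (E : Set (Cfsg.IrrCharacter N)) (hE : Cfsg.IsPBlock M E) (n : N) (hn : (n : G) ∉ Subgroup.centralizer (Q (Fin.last m) : Set G)) : Cfsg.blockCoeff E n = 0 := by
  classical
  by_cases hns : p ∣ orderOf n
  · rw [Blocks.blockCoeff_eq_ofOmega,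
      Blocks.ofOmega_singular_eq_zero hM (Blocks.blockInd_mem_intRing hM hE) hns]
  have hnor : ((Q (Fin.last m)).subgroupOf N).Normal := ⟨fun u hu k => by
    rw [Subgroup.mem_subgroupOf] at hu ⊢
    exact (Subgroup.mem_normalizer_iff.1 ((hN k).1 k.2 (Fin.last m)) _).1 hu⟩
  refine BrauerPairs.blockCoeff_eq_zero_of_normal hM
    (P := (Q (Fin.last m)).subgroupOf N) ((hQp _).comap_subtype) hE fun hc => hn ?_
  have hcomm : ∀ x : G, x ∈ N → x ∈ Q (Fin.last m) → Commute (n : G) x := fun x hxN hx =>
    (congrArg Subtype.val (Subgroup.mem_centralizer_iff.1 hc ⟨x, hxN⟩ hx)).symm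
  have hny : (orderOf (n : G)).Coprime p := by
    rw [Subgroup.orderOf_coe]
    exact ((Fact.out : p.Prime).coprime_iff_not_dvd.2 hns).symm
  have key : ∀ i, ∀ x ∈ Q i, Commute (n : G) x := by
    intro i
    induction i using Fin.induction with
    | zero =>
      intro x hx
      exact hcomm x ((hN x).2 fun j => Subgroup.le_normalizer (hQ.monotone (Fin.zero_le j) hx))
        (hQ.monotone (Fin.zero_le _) hx)
    | succ i ih =>
      have hle : Q i.castSucc ≤ Q i.succ := hQ.monotone (Fin.castSucc_le_succ i)
      refine CharP.commute_of_centralizes_centralizer (hQp _) (hQp i.castSucc)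
        (hle.trans Subgroup.le_normalizer) hny ((hN n).1 n.2 _) (fun q hq => ih q hq) ?_
      intro x hx hxc
      refine hcomm x ((hN x).2 fun j => ?_) (hQ.monotone (Fin.le_last _) hx)
      rcases le_or_gt j i.castSucc with hj | hj
      · refine BrauerPairs.centralizer_le_normalizer hM (Q j) ?_
        exact Subgroup.mem_centralizer_iff.2 fun q hq => (hxc q (hQ.monotone hj hq)).eq.symm
      · exact Subgroup.le_normalizer (hQ.monotone (Fin.castSucc_lt_iff_succ_le.1 hj) hx)
  exact Subgroup.mem_centralizer_iff.2 fun q hq => (key _ q hq).eq.symm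

end Cfsg.Agent.S4668
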