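import Cfsg.Statements.S4669
import Cfsg.Agent.Lib.BlocksNormal.CentralizedDefect
import Cfsg.Agent.Lib.BlocksNormal.CentralDefect

set_option autoImplicit false
open Cfsg

namespace Cfsg.Agent.S4669

/-- Fix a prime p and a maximal ideal M of the algebraic integers containing p. If the p-block B of the finite group G has a defect group P contained in the centre of G, then B has p-regular rank one (a single irreducible Brauer character). -/
theorem result {G : Type*} [Group G] [Fintype G] (p : ℕ) [Fact p.Prime] (M : Ideal Cfsg.AlgInt) (hM : Cfsg.IsPModular p M) (B : Set (Cfsg.IrrCharacter G)) (hB : Cfsg.IsPBlock M B) (P : Subgroup G) (hD : Cfsg.IsDefectGroup p M B P) (hPZ : P ≤ Subgroup.center G) : Cfsg.blockRank p B = 1 := by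
  open Cfsg.Agent.Blocks Cfsg.Agent.BlocksNormal in
  classical
  have hPn : P.Normal := normal_of_central hPZ
  have hPp := isPGroup_defectGroup hM hD
  have hG : P ⊔ Subgroup.centralizer (P : Set G) = ⊤ :=
    eq_top_iff.2 fun x _ => Subgroup.mem_sup_right (central_mem_centralizer hPZ x)
  obtain ⟨θ, hθB, hθ⟩ := exists_mem_trivOn hM hB P hPp
  have hspan : Submodule.span ℂ
      ((fun χ : Cfsg.IrrCharacter G => Cfsg.pRegularPart p (χ : G → ℂ)) '' B) =
        Submodule.span ℂ {Cfsg.pRegularPart p (θ : G → ℂ)} := by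
    refine le_antisymm (Submodule.span_le.2 ?_)
      (Submodule.span_mono (Set.singleton_subset_iff.2 ⟨θ, hθB, rfl⟩))
    rintro _ ⟨χ, hχ, rfl⟩
    refine Submodule.mem_span_singleton.2 ⟨(χ : G → ℂ) 1 / (θ : G → ℂ) 1, funext fun x => ?_⟩
    simp only [Cfsg.pRegularPart, Pi.smul_apply, smul_eq_mul]
    by_cases hx : Cfsg.IsPRegular p x
    · rw [if_pos hx, if_pos hx, div_mul_eq_mul_div, eq_comm, eq_div_iff (irr_one_ne_zero θ)]
      exact apply_regular hM hPp hG hB hD hθB hθ hχ hx
    · rw [if_neg hx, if_neg hx, mul_zero]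
  rw [Cfsg.blockRank, hspan, finrank_span_singleton]
  intro h
  have h1 := congrFun h 1
  simp [Cfsg.pRegularPart, Cfsg.IsPRegular, hM.1.ne_one, irr_one_ne_zero θ] at h1

end Cfsg.Agent.S4669
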