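import Cfsg.Statements.S4670
import Cfsg.Agent.Lib.BrauerPairs.Correspondence

set_option autoImplicit false
open Cfsg

namespace Cfsg.Agent.S4670

/-- Fix a prime p and a maximal ideal M of the algebraic integers containing p. Let P be a p-subgroup of the finite group G and H a subgroup containing N_G(P). For every p-block B of G with defect group P there is exactly one p-block c of H with defect group P whose idempotent agrees with that of B, modulo the local ideal at M, at every element of C_G(P) (their Brauer-map images at P coincide); and every p-block c of H with defect group P arises in this way from exactly one such B. This is the Brauer correspondence over H. -/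
theorem result {G : Type*} [Group G] [Fintype G] (p : ℕ) [Fact p.Prime] (M : Ideal Cfsg.AlgInt) (hM : Cfsg.IsPModular p M) (P H : Subgroup G) (hP : IsPGroup p P) (hH : Subgroup.normalizer (P : Set G) ≤ H) : (∀ B : Set (Cfsg.IrrCharacter G), Cfsg.IsPBlock M B → Cfsg.IsDefectGroup p M B P → ∃! c : Set (Cfsg.IrrCharacter H), Cfsg.IsPBlock M c ∧ Cfsg.IsDefectGroup p M c (P.subgroupOf H) ∧ ∀ x : G, x ∈ Subgroup.centralizer (P : Set G) → Cfsg.MemLocalIdeal M (Cfsg.blockCoeff B x - Cfsg.subgroupBlockCoeff H c x)) ∧ (∀ c : Set (Cfsg.IrrCharacter H), Cfsg.IsPBlock M c → Cfsg.IsDefectGroup p M c (P.subgroupOf H) → ∃! B : Set (Cfsg.IrrCharacter G), Cfsg.IsPBlock M B ∧ Cfsg.IsDefectGroup p M B P ∧ ∀ x : G, x ∈ Subgroup.centralizer (P : Set G) → Cfsg.MemLocalIdeal M (Cfsg.blockCoeff B x - Cfsg.subgroupBlockCoeff H c x)) := by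
  open Cfsg.Agent.Blocks Cfsg.Agent.BrauerPairs in
  classical
  have hCH := (centralizer_le_normalizer hM P).trans hH
  have key : ∀ (B : Set (Cfsg.IrrCharacter G)) (c : Set (Cfsg.IrrCharacter H)),
      Cfsg.IsPBlock M B → Cfsg.IsPBlock M c →
      ((∀ x : G, x ∈ Subgroup.centralizer (P : Set G) →
          Cfsg.MemLocalIdeal M (Cfsg.blockCoeff B x - Cfsg.subgroupBlockCoeff H c x)) ↔
        br P (blk M B) = br P (bIdem M H c)) := by
    intro B c hB hc
    have hiff : ∀ x : G, res M (Cfsg.blockCoeff B x) = res M (Cfsg.subgroupBlockCoeff H c x) ↔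
        Cfsg.MemLocalIdeal M (Cfsg.blockCoeff B x - Cfsg.subgroupBlockCoeff H c x) := fun x =>
      res_eq_iff hM (memR_blockCoeff hM hB x) (memR_subgroupBlockCoeff hM hc x)
    constructor
    · intro h
      ext x
      rw [coeff_br, coeff_br]
      split_ifs with hx
      · rw [blk, coeff_red, coeff_bIdem hM]
        exact (hiff x).2 (h x hx)
      · rfl
    · intro h x hx
      have h1 := congrArg (fun w => MonoidAlgebra.coeff w x) h
      simp only [coeff_br, if_pos hx, blk, coeff_red, coeff_bIdem hM] at h1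
      exact (hiff x).1 h1
  refine ⟨fun B hB hBP => ?_, fun c hc hcP => ?_⟩
  · obtain ⟨c, hc, hcP, he⟩ := exists_sub_correspondent hM hB hH hBP
    refine ⟨c, ⟨hc, hcP, (key B c hB hc).2 he⟩, fun c' hc' => ?_⟩
    by_contra hne
    refine sub_br_defectGroup_ne_zero hM hcP ?_
    have := res_charP hM
    have hPH : P ≤ H := Subgroup.le_normalizer.trans hH
    have he' := he.symm.trans ((key B c' hB hc'.1).1 hc'.2.2)
    rw [Subgroup.map_subgroupOf_eq_of_le hPH, ← bIdem_mul_self hM hc,
      br_mul (p := p) hP ((bIdem_central H c).2.mono hPH) ((bIdem_central H c).2.mono hPH)]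
    conv_lhs => arg 2; rw [he']
    rw [← br_mul (p := p) hP ((bIdem_central H c).2.mono hPH) ((bIdem_central H c').2.mono hPH),
      bIdem_mul_of_ne hM hc hc'.1 (fun h => hne h.symm), br_zero]
  · obtain ⟨B, hB, hBP, he⟩ := exists_sup_correspondent hM hH hc hcP
    refine ⟨B, ⟨hB, hBP, (key B c hB hc).2 he⟩, fun B' hB' => ?_⟩
    by_contra hne
    refine br_defectGroup_ne_zero hM hBP ?_
    have := res_charP hM
    have he' := he.trans ((key B' c hB'.1 hc).1 hB'.2.2).symm
    rw [← blk_mul_self hM hB, br_mul (p := p) hP ((fixed_blk B).mono le_top)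
      ((fixed_blk B).mono le_top)]
    conv_lhs => arg 2; rw [he']
    rw [← br_mul (p := p) hP ((fixed_blk B).mono le_top) ((fixed_blk B').mono le_top),
      blk_mul_of_ne hM hB hB'.1 (fun h => hne h.symm), br_zero]

end Cfsg.Agent.S4670
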