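import Cfsg.Statements.S4671
import Cfsg.Agent.Lib.BrauerPairs.Covering

set_option autoImplicit false
open Cfsg

namespace Cfsg.Agent.S4671

/-- Fix a prime p and a maximal ideal M of the algebraic integers containing p. Let N be a normal subgroup of the finite group G, B a p-block of G and P a defect group of B. Then there is a p-block c of N, stable under conjugation by P and covered by B (some member of B has a constituent in c on restriction to N), such that P ∩ N is a defect group of c. -/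
theorem result {G : Type*} [Group G] [Fintype G] (p : ℕ) [Fact p.Prime] (M : Ideal Cfsg.AlgInt) (hM : Cfsg.IsPModular p M) (N : Subgroup G) [N.Normal] [Fintype N] (B : Set (Cfsg.IrrCharacter G)) (hB : Cfsg.IsPBlock M B) (P : Subgroup G) (hP : Cfsg.IsDefectGroup p M B P) : ∃ c : Set (Cfsg.IrrCharacter N), Cfsg.IsPBlock M c ∧ (∀ x ∈ P, Cfsg.StabilizesBlock N c x) ∧ (∃ χ ∈ B, ∃ θ ∈ c, Cfsg.classInner (fun n : N => (χ : G → ℂ) n) (θ : N → ℂ) ≠ 0) ∧ Cfsg.IsDefectGroup p M c ((P ⊓ N).subgroupOf N) := by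
  open Cfsg.Agent.Blocks Cfsg.Agent.BrauerPairs in
  classical
  have := res_charP hM
  have hPp := isPGroup_defectGroup hM hP
  obtain ⟨c, hc, hfix, hne⟩ :=
    exists_stable_covered hM N hB hPp (br_defectGroup_ne_zero hM hP)
  have hmul : blk M B * bIdem M N c ≠ 0 := fun h => hne (by rw [h, br_zero])
  have hcov := covers_of_mul_ne_zero hM N hB hc hmul
  have hnorm : ∀ x : G, x ∈ Subgroup.normalizer (N : Set G) := fun x => by
    rw [Subgroup.normalizer_eq_top]; exact Subgroup.mem_top x
  have hbr : br (P ⊓ N) (bIdem M N c) ≠ 0 := fun h => hne (by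
    rw [br_mul (p := p) hPp ((fixed_blk B).mono le_top) hfix,
      ← br_br (inf_le_left : P ⊓ N ≤ P) (a := bIdem M N c), h, br_zero, mul_zero])
  obtain ⟨D₀, hD₀, hle⟩ :=
    sub_exists_defectGroup_ge hM hc inf_le_right (hPp.to_le inf_le_left) hbr
  have hD₀' : (D₀.map N.subtype).subgroupOf N = D₀ :=
    Subgroup.comap_map_eq_self_of_injective N.subtype_injective D₀
  obtain ⟨P', hP', hinter⟩ := CoverDefect.exists_inter_eq hM hc (Subgroup.map_subtype_le D₀)
    (hD₀'.symm ▸ hD₀) hB hcov
  obtain ⟨y, hy⟩ := isDefectGroup_conj_eq hM hB hP hP'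
  have hcard : Nat.card D₀ = Nat.card ((P ⊓ N).subgroupOf N) := by
    rw [Nat.card_congr (Subgroup.subgroupOfEquivOfLe (inf_le_right : P ⊓ N ≤ N)).toEquiv,
      ← card_conjSub y (P ⊓ N), conjSub, Subgroup.map_inf _ _ _ (MulAut.conj y).injective,
      ← conjSub, ← conjSub, hy, conjSub_eq_self_iff.2 (hnorm y), hinter,
      Subgroup.card_map_of_injective N.subtype_injective]
  exact ⟨c, hc, fun x hx => (stabilizesBlock_iff hM hc (hnorm x)).2 (hfix x hx), hcov,
    (Subgroup.eq_of_le_of_card_ge hle hcard.le).symm ▸ hD₀⟩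

end Cfsg.Agent.S4671
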