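import Cfsg.Statements.S4672
import Cfsg.Agent.Lib.BrauerPairs.PPowerIndex

set_option autoImplicit false
open Cfsg

namespace Cfsg.Agent.S4672

/-- Fix a prime p and a maximal ideal M of the algebraic integers containing p. Let N be a normal subgroup of the finite group G of p-power index and c a p-block of N stable under conjugation by G. Then the idempotent of c is a block idempotent of G: there is a p-block B of G whose idempotent coefficients agree with those of c on N and vanish off N; and for every defect group P of such a block B, G = NP and P ∩ N is a defect group of c. -/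
theorem result {G : Type*} [Group G] [Fintype G] (p : ℕ) [Fact p.Prime] (M : Ideal Cfsg.AlgInt) (hM : Cfsg.IsPModular p M) (N : Subgroup G) [N.Normal] (hN : ∃ k : ℕ, N.index = p ^ k) (c : Set (Cfsg.IrrCharacter N)) (hc : Cfsg.IsPBlock M c) (hst : ∀ x : G, Cfsg.StabilizesBlock N c x) : (∃ B : Set (Cfsg.IrrCharacter G), Cfsg.IsPBlock M B ∧ ∀ g : G, Cfsg.blockCoeff B g = Cfsg.subgroupBlockCoeff N c g) ∧ ∀ B : Set (Cfsg.IrrCharacter G), Cfsg.IsPBlock M B → (∀ g : G, Cfsg.blockCoeff B g = Cfsg.subgroupBlockCoeff N c g) → ∀ P : Subgroup G, Cfsg.IsDefectGroup p M B P → N ⊔ P = ⊤ ∧ Cfsg.IsDefectGroup p M c ((P ⊓ N).subgroupOf N) := by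
  open Cfsg.Agent.Blocks Cfsg.Agent.BrauerPairs in
  classical
  obtain ⟨B₀, hB₀, -, hB₀c⟩ :=
    exists_block_of_stable_pPower hM hN hc (fixed_top_of_stable hM hc hst)
  refine ⟨⟨B₀, hB₀, hB₀c⟩, fun B hB hBc P hP => ?_⟩
  have heq : bIdem M N c = blk M B := (blk_eq_bIdem_of_coeff hM hBc).symm
  refine ⟨?_, isDefectGroup_inter_normal hM hB hc heq hP⟩
  have h := not_dvd_index_sup_defect hM hB hc heq hP
  obtain ⟨k, hk⟩ := hN
  rw [sup_comm] at h
  obtain ⟨j, -, hj⟩ := (Nat.dvd_prime_pow (Fact.out : p.Prime)).1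
    (hk ▸ Subgroup.index_dvd_of_le (le_sup_left : N ≤ N ⊔ P))
  rcases Nat.eq_zero_or_pos j with rfl | hj0
  · rw [pow_zero] at hj
    exact Subgroup.index_eq_one.1 hj
  · exact absurd (hj ▸ dvd_pow_self p hj0.ne') h

end Cfsg.Agent.S4672
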