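import Cfsg.Statements.S4673
import Cfsg.Agent.Lib.BrauerPairs.Covering
import Cfsg.Agent.Lib.BrauerPairs.PPowerIndex

set_option autoImplicit false
open Cfsg

namespace Cfsg.Agent.S4673

/-- Fix a prime p and a maximal ideal M of the algebraic integers containing p. Let N ≤ L be normal subgroups of the finite group G with L/N a p-group, let B be a p-block of G covering the p-block c of N (some member of B has a constituent in c on restriction to N), and suppose that N contains a defect group of B. Then the stabilizer T of c in G satisfies T ∩ L = N. -/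
theorem result {G : Type*} [Group G] [Fintype G] (p : ℕ) [Fact p.Prime] (M : Ideal Cfsg.AlgInt) (hM : Cfsg.IsPModular p M) (N L : Subgroup G) [N.Normal] [L.Normal] [Fintype N] (hNL : N ≤ L) (hLN : ∃ k : ℕ, (N.subgroupOf L).index = p ^ k) (B : Set (Cfsg.IrrCharacter G)) (hB : Cfsg.IsPBlock M B) (c : Set (Cfsg.IrrCharacter N)) (hc : Cfsg.IsPBlock M c) (hcov : (∃ χ ∈ B, ∃ θ ∈ c, Cfsg.classInner (fun n : N => (χ : G → ℂ) n) (θ : N → ℂ) ≠ 0)) (hD : ∃ D : Subgroup G, Cfsg.IsDefectGroup p M B D ∧ D ≤ N) (T : Subgroup G) (hT : ∀ x : G, x ∈ T ↔ Cfsg.StabilizesBlock N c x) : T ⊓ L = N := by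
  open Cfsg.Agent.Blocks Cfsg.Agent.BrauerPairs in
  classical
  have := res_charP hM
  have hnormN : ∀ x : G, x ∈ Subgroup.normalizer (N : Set G) := fun x => by
    rw [Subgroup.normalizer_eq_top]; exact Subgroup.mem_top x
  have hNT : N ≤ T := fun x hx => (hT x).2
    ((stabilizesBlock_iff hM hc (hnormN x)).2 ((bIdem_central N c).2 x hx))
  refine le_antisymm ?_ (le_inf hNT hNL)
  obtain ⟨k, hk⟩ := hLN
  have hKN : N ≤ T ⊓ L := le_inf hNT hNL
  obtain ⟨c₀, hc₀, hc₀e⟩ := CoverDefect.exists_sub_block hM hKN hc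
  have hn : (N.subgroupOf (T ⊓ L)).Normal := Subgroup.Normal.subgroupOf ‹N.Normal› _
  have hidx : ∃ j : ℕ, (N.subgroupOf (T ⊓ L)).index = p ^ j := by
    have hd : N.relIndex (T ⊓ L) ∣ N.relIndex L :=
      Dvd.intro _ (Subgroup.relIndex_mul_relIndex N (T ⊓ L) L hKN inf_le_right)
    obtain ⟨j, -, hj⟩ := (Nat.dvd_prime_pow (Fact.out : p.Prime)).1 (hd.trans (hk : N.relIndex L = p ^ k).dvd)
    exact ⟨j, hj⟩
  have hst : Fixed ⊤ (bIdem M (N.subgroupOf (T ⊓ L)) c₀) := by
    intro u _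
    refine emb_injective (T ⊓ L) ?_
    rw [emb_cj, hc₀e]
    exact (stabilizesBlock_iff hM hc (hnormN (u : G))).1 ((hT (u : G)).1 u.2.1)
  obtain ⟨c', hc', hc'e, -⟩ := exists_block_of_stable_pPower hM hidx hc₀ hst
  obtain ⟨D', hD'⟩ := Blocks.exists_isDefectGroup (p := p) hM hc'
  have hsup : D' ⊔ N.subgroupOf (T ⊓ L) = ⊤ := by
    have h := not_dvd_index_sup_defect hM hc' hc₀ hc'e.symm hD'
    obtain ⟨j, hj⟩ := hidx
    obtain ⟨i, -, hi⟩ := (Nat.dvd_prime_pow (Fact.out : p.Prime)).1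
      (hj ▸ Subgroup.index_dvd_of_le (le_sup_right : _ ≤ D' ⊔ N.subgroupOf (T ⊓ L)))
    rcases Nat.eq_zero_or_pos i with rfl | hi0
    · rw [pow_zero] at hi
      exact Subgroup.index_eq_one.1 hi
    · exact absurd (hi ▸ dvd_pow_self p hi0.ne') h
  suffices hR : D'.map (T ⊓ L).subtype ≤ N by
    intro x hx
    have hmem : (⟨x, hx⟩ : (T ⊓ L : Subgroup G)) ∈ D' ⊔ N.subgroupOf (T ⊓ L) :=
      hsup ▸ Subgroup.mem_top _
    have hle : D' ⊔ N.subgroupOf (T ⊓ L) ≤ N.subgroupOf (T ⊓ L) :=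
      sup_le (fun d hd => hR ⟨d, hd, rfl⟩) le_rfl
    exact hle hmem
  have hRp : IsPGroup p (D'.map (T ⊓ L).subtype) := (isPGroup_defectGroup hM hD').map _
  have hbr : br (D'.map (T ⊓ L).subtype) (bIdem M N c) ≠ 0 := fun h =>
    br_defectGroup_ne_zero hM hD' (emb_injective (T ⊓ L) (by
      rw [BrauerPairs.emb_br, hc'e, hc₀e, h, map_zero]))
  have : Fintype L := Fintype.ofFinite L
  obtain ⟨f, hf, hne⟩ : ∃ f ∈ blocks M L, blk M B * bIdem M L f * bIdem M N c ≠ 0 := by
    by_contra hno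
    push Not at hno
    refine mul_ne_zero_of_covers hM N hB hc hcov ?_
    rw [← mul_one (blk M B), ← sum_bIdem hM L, Finset.mul_sum, Finset.sum_mul]
    exact Finset.sum_eq_zero hno
  have hf' := mem_blocks.1 hf
  have hsupp : SuppIn N (bIdem M L f) := by
    intro x hx
    by_cases hxL : x ∈ L
    · rw [coeff_bIdem hM, show subgroupBlockCoeff L f x = blockCoeff f ⟨x, hxL⟩ from
        subgroupBlockCoeff_coe L f ⟨x, hxL⟩, blockCoeff_eq_ofOmega,
        ofOmega_singular_eq_zero hM (blockInd_mem_intRing hM hf') ?_, res_zero hM]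
      by_contra h
      have : (N.subgroupOf L).Normal := Subgroup.Normal.subgroupOf ‹N.Normal› L
      exact hx (mem_of_not_dvd_orderOf (N := N.subgroupOf L) ⟨k, hk⟩ h)
    · exact (bIdem_central L f).1 x hxL
  have hfc : bIdem M L f * bIdem M N c = bIdem M N c := by
    refine (mul_bIdem_cases hM ⟨hsupp, (bIdem_central L f).2.mono hNL⟩
      (bIdem_mul_self hM hf') hc).resolve_right fun h => hne ?_
    rw [mul_assoc, h, mul_zero]
  have hcovf := covers_of_mul_ne_zero hM L hB hf' (fun h => hne (by rw [h, zero_mul]))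
  have hRL : D'.map (T ⊓ L).subtype ≤ L := (Subgroup.map_subtype_le D').trans inf_le_right
  have hbrf : br (D'.map (T ⊓ L).subtype) (bIdem M L f) ≠ 0 := fun h => hbr (by
    rw [← hfc, br_mul (p := p) hRp ((bIdem_central L f).2.mono hRL) (fun u hu =>
      (stabilizesBlock_iff hM hc (hnormN u)).1
        ((hT u).1 ((Subgroup.map_subtype_le D') hu).1)), h, zero_mul])
  obtain ⟨D₀, hD₀, hle⟩ := sub_exists_defectGroup_ge hM hf' hRL hRp hbrf
  have hD₀' : (D₀.map L.subtype).subgroupOf L = D₀ :=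
    Subgroup.comap_map_eq_self_of_injective L.subtype_injective D₀
  obtain ⟨P', hP', hinter⟩ := CoverDefect.exists_inter_eq hM hf' (Subgroup.map_subtype_le D₀)
    (hD₀'.symm ▸ hD₀) hB hcovf
  obtain ⟨D, hDd, hDN⟩ := hD
  obtain ⟨y, rfl⟩ := isDefectGroup_conj_eq hM hB hDd hP'
  have hy : conjSub y N = N := conjSub_eq_self_iff.2 (hnormN y)
  intro r hr
  have h1 : r ∈ D₀.map L.subtype := ⟨⟨r, hRL hr⟩, hle hr, rfl⟩
  rw [← hinter] at h1
  exact hy.le (Blocks.conjSub_mono y hDN h1.1)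

end Cfsg.Agent.S4673
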