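import Cfsg.Statements.S4674
import Cfsg.Agent.Lib.BlocksNormal.HarrisKnorr

set_option autoImplicit false
open Cfsg

namespace Cfsg.Agent.S4674

/-- Fix a prime p and a maximal ideal M of the algebraic integers containing p. Let N be a normal subgroup of the finite group G, Q a p-subgroup of N, H = N_G(Q) and L = H ∩ N = N_N(Q). Let d be a p-block of N with defect group Q and e the p-block of L with defect group Q that induces d inside N (its Brauer correspondent). Then block induction from H to G is a bijection from the p-blocks of H covering e onto the p-blocks of G covering d: every block of H covering e induces exactly one block of G, and that block covers d; and every block of G covering d is induced by exactly one block of H covering e. -/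
theorem result {G : Type*} [Group G] [Fintype G] (p : ℕ) [Fact p.Prime] (M : Ideal Cfsg.AlgInt) (hM : Cfsg.IsPModular p M) (N : Subgroup G) [N.Normal] [Fintype N] (Q : Subgroup G) (hQ : IsPGroup p Q) (hQN : Q ≤ N) [Fintype ↥(Subgroup.normalizer (Q : Set G) ⊓ N)] (d : Set (Cfsg.IrrCharacter N)) (hd : Cfsg.IsPBlock M d) (hdQ : Cfsg.IsDefectGroup p M d (Q.subgroupOf N)) (e : Set (Cfsg.IrrCharacter ↥(Subgroup.normalizer (Q : Set G) ⊓ N))) (he : Cfsg.IsPBlock M e) (heQ : Cfsg.IsDefectGroup p M e (Q.subgroupOf (Subgroup.normalizer (Q : Set G) ⊓ N))) (hed : Cfsg.IsInducedBlockIn M N (Subgroup.normalizer (Q : Set G) ⊓ N) e d) : (∀ c : Set (Cfsg.IrrCharacter ↥(Subgroup.normalizer (Q : Set G))), Cfsg.IsPBlock M c → (∃ ψ ∈ c, ∃ ξ ∈ e, Cfsg.classInner (fun l : ↥(Subgroup.normalizer (Q : Set G) ⊓ N) => (ψ : ↥(Subgroup.normalizer (Q : Set G)) → ℂ) (Subgroup.inclusion inf_le_left l)) (ξ : ↥(Subgroup.normalizer (Q : Set G) ⊓ N) → ℂ) ≠ 0) → ∃!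 B : Set (Cfsg.IrrCharacter G), Cfsg.IsInducedBlock M (Subgroup.normalizer (Q : Set G)) c B ∧ (∃ χ ∈ B, ∃ θ ∈ d, Cfsg.classInner (fun n : N => (χ : G → ℂ) n) (θ : N → ℂ) ≠ 0)) ∧ (∀ B : Set (Cfsg.IrrCharacter G), Cfsg.IsPBlock M B → (∃ χ ∈ B, ∃ θ ∈ d, Cfsg.classInner (fun n : N => (χ : G → ℂ) n) (θ : N → ℂ) ≠ 0) → ∃! c : Set (Cfsg.IrrCharacter ↥(Subgroup.normalizer (Q : Set G))), (Cfsg.IsPBlock M c ∧ ∃ ψ ∈ c, ∃ ξ ∈ e, Cfsg.classInner (fun l : ↥(Subgroup.normalizer (Q : Set G) ⊓ N) => (ψ : ↥(Subgroup.normalizer (Q : Set G)) → ℂ) (Subgroup.inclusion inf_le_left l)) (ξ : ↥(Subgroup.normalizer (Q : Set G) ⊓ N) → ℂ) ≠ 0) ∧ Cfsg.IsInducedBlock M (Subgroup.normalizer (Q : Set G)) c B) := by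
  classical
  have hQH : Q ≤ Subgroup.normalizer (Q : Set G) := Subgroup.le_normalizer
  have := Fintype.ofFinite ↥(Subgroup.normalizer (Q : Set G))
  have := Fintype.ofFinite (N.subgroupOf (Subgroup.normalizer (Q : Set G)))
  refine ⟨fun c hc hcov => ?_, fun B hB hcov => ?_⟩
  · obtain ⟨ψ, hψ, ξ, hξ, hne⟩ := hcov
    rw [HarrisKnorr.classInner_inter] at hne
    obtain ⟨B, hind, -, -⟩ := Blocks.exists_isInducedBlock hM hQ hQH
      (Subgroup.centralizer_le_normalizer _) le_rfl hc hψ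
    refine ⟨B, ⟨hind, ?_⟩, fun B' hB' => SecondMain.induced_unique hM hB'.1 hind⟩
    exact (BlocksNormal.cover_iff_congr N hM hind.2.1 hd).mpr fun χ hχ θ hθ n =>
      HarrisKnorr.cover_of_local hM hind hψ hne (HarrisKnorr.lifts_of_inducedIn hM hed hξ hθ) χ hχ n
  · obtain ⟨c, hind, ψ, hψ, η, hη, hne⟩ :=
      HarrisKnorr.exists_local_cover hM hQ hQN rfl hd hdQ he hed hB hcov
    refine ⟨c, ⟨⟨hind.1, ψ, hψ, η, hη, by rwa [HarrisKnorr.classInner_inter]⟩, hind⟩, ?_⟩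
    rintro c' ⟨⟨-, ψ', hψ', η', hη', hne'⟩, hind'⟩
    rw [HarrisKnorr.classInner_inter] at hne'
    exact HarrisKnorr.local_cover_unique hM hQ hQN rfl he heQ hind' hind
      ⟨ψ', hψ', η', hη', hne'⟩ ⟨ψ, hψ, η, hη, hne⟩

end Cfsg.Agent.S4674
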