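import Cfsg.Statements.S4676
import Cfsg.Agent.Lib.RegPart.Contribution
import Cfsg.Agent.Lib.Blocks.HeightZero

set_option autoImplicit false
open Cfsg

namespace Cfsg.Agent.S4676

/-- Fix a prime p and a maximal ideal M of the algebraic integers containing p. Let B be a p-block of the finite group G with defect group P. For χ in B, let the height of χ be the exponent of p in the degree of χ minus the least such exponent over the members of B. Then the sum over χ in B of p raised to twice the height of χ is at most the integer part of (order of P)²/4, plus 1; in particular B has at most that many irreducible characters. -/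
theorem result {G : Type*} [Group G] [Fintype G] (p : ℕ) [Fact p.Prime] (M : Ideal Cfsg.AlgInt) (hM : Cfsg.IsPModular p M) (B : Set (Cfsg.IrrCharacter G)) (hB : Cfsg.IsPBlock M B) (P : Subgroup G) (hP : Cfsg.IsDefectGroup p M B P) : ∑ᶠ χ ∈ B, p ^ (2 * Cfsg.blockHeight p B (χ : G → ℂ)) ≤ Nat.card P ^ 2 / 4 + 1 := by
  open Cfsg.Agent.Blocks in
  classical
  have := Fintype.ofFinite (Cfsg.IrrCharacter G)
  obtain ⟨c, -, -, hsq, hdvd⟩ := RegPart.exists_contribution (p := p) hM hB
  obtain ⟨χ₀, hχ₀, h0⟩ := exists_blockHeight_eq_zero (G := G) p (isPBlock_nonempty hM hB)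
  set a : B := ⟨χ₀, hχ₀⟩ with ha
  set h : B → ℕ := fun ψ => Cfsg.blockHeight p B ((ψ : Cfsg.IrrCharacter G) : G → ℂ) with hh
  have hle : ∀ ψ : B, ((p : ℤ) ^ (2 * h ψ)) ≤ c a ψ ^ 2 := by
    intro ψ
    obtain ⟨k, hk⟩ := (hdvd a ψ).1
    have hk0 : k ≠ 0 := fun hk0 => by
      have h1 := (hdvd a ψ).2.1 (by rw [hk, hk0, mul_zero]; exact dvd_zero _)
      simp [a, h0] at h1
    have hk1 : 1 ≤ k ^ 2 := by
      have : 0 < k ^ 2 := by positivity
      omega
    rw [hk, mul_pow, ← pow_mul, mul_comm (Cfsg.blockHeight p B _) 2]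
    exact le_mul_of_one_le_right (by positivity) hk1
  have hsum : ∑ᶠ χ ∈ B, p ^ (2 * Cfsg.blockHeight p B (χ : G → ℂ)) = ∑ ψ : B, p ^ (2 * h ψ) := by
    rw [finsum_mem_eq_toFinset_sum, Finset.sum_subtype B.toFinset (fun _ => Set.mem_toFinset)]
  have hrest : (4 : ℤ) * ∑ ψ ∈ Finset.univ.erase a, (p : ℤ) ^ (2 * h ψ) ≤
      ((p : ℤ) ^ Cfsg.blockDefect p B) ^ 2 := by
    have h1 := Finset.sum_le_sum fun ψ (_ : ψ ∈ Finset.univ.erase a) => hle ψ
    have h2 := hsq a
    rw [← Finset.add_sum_erase _ _ (Finset.mem_univ a)] at h2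
    nlinarith [sq_nonneg (2 * c a a - (p : ℤ) ^ Cfsg.blockDefect p B)]
  have hnat : 4 * ∑ ψ ∈ Finset.univ.erase a, p ^ (2 * h ψ) ≤ Nat.card P ^ 2 := by
    rw [card_defectGroup hM hB hP]
    exact_mod_cast hrest
  rw [hsum, ← Finset.add_sum_erase _ _ (Finset.mem_univ a),
    show p ^ (2 * h a) = 1 by simp [h, a, h0]]
  have := (Nat.le_div_iff_mul_le (by norm_num : 0 < 4)).2
    (by rw [mul_comm]; exact hnat :
      (∑ ψ ∈ Finset.univ.erase a, p ^ (2 * h ψ)) * 4 ≤ Nat.card P ^ 2)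
  omega

end Cfsg.Agent.S4676
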