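import Cfsg.Statements.S4679
import Cfsg.Agent.Lib.BrauerPairs.Fusion
import Cfsg.Agent.EqLemmas

set_option autoImplicit false
open Cfsg

namespace Cfsg.Agent.S4679

/-- Fix a prime p and a maximal ideal M of the algebraic integers containing p, a p-block B of the finite group G with maximal Brauer pair (P, e), its fusion system F on P, a Brauer pair (Q, f) ≤ (P, e), and let T be the stabilizer of f in N_G(Q). Then Q is fully normalized in F if and only if N_P(Q) is a defect group of the block of T whose idempotent is that of f. -/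
theorem result {G : Type*} [Group G] [Fintype G] (p : ℕ) [Fact p.Prime] (M : Ideal Cfsg.AlgInt) (hM : Cfsg.IsPModular p M) (B : Set (Cfsg.IrrCharacter G)) (P : Subgroup G) (e : Set (Cfsg.IrrCharacter (Subgroup.centralizer (P : Set G)))) (hmax : Cfsg.IsMaximalBrauerPair p M B P e) (F : Cfsg.FusionSystem P) (hF : Cfsg.IsBlockFusionSystemOn p M B P e F) (Q : Subgroup G) (f : Set (Cfsg.IrrCharacter (Subgroup.centralizer (Q : Set G)))) (hQP : Q ≤ P) (hf : Cfsg.IsPBlock M f) (hle : Cfsg.SubpairLE p M Q f P e) (T : Subgroup G) (hT : ∀ y : G, y ∈ T ↔ y ∈ Subgroup.normalizer (Q : Set G) ∧ Cfsg.StabilizesBlock (Subgroup.centralizer (Q : Set G)) f y) : F.IsFullyNormalized Q ↔ ∃ F' : Set (Cfsg.IrrCharacter T), Cfsg.IsPBlock M F' ∧ (∀ t : T, Cfsg.blockCoeff F' t = Cfsg.subgroupBlockCoeff (Subgroup.centralizer (Q : Set G)) f (t : G)) ∧ Cfsg.IsDefectGroup p M F' ((P ⊓ Subgroup.normalizer (Q : Set G)).subgroupOf T) := by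
  have hTeq : T = BrauerPairs.pairStab M Q f := by
    ext y
    rw [hT, BrauerPairs.mem_pairStab_iff hM hf]
  subst hTeq
  rw [BrauerPairs.isFullyNormalized_iff hM hF hle]
  obtain ⟨F₀, hF₀, hF₀eq, hF₀c⟩ := BrauerPairs.exists_block_pairStab hM (Q := Q) (f := f)
    ⟨hmax.1.1.1.to_le hQP, hf⟩
  have hkey := BrauerPairs.local_fully_iff hM hmax hle hf
    (BrauerPairs.pairStab_le_normalizer Q f) hF₀ hF₀eq
  rw [hkey, BrauerPairs.inf_pairStab_eq hM hmax.1.1 hle]
  constructor
  · exact fun h => ⟨F₀, hF₀, hF₀c, h⟩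
  · rintro ⟨F', hF', hc, h⟩
    have : F' = F₀ := by
      refine BrauerPairs.bIdem_injective hM hF' hF₀ ?_
      ext x
      rw [BrauerPairs.coeff_bIdem hM, BrauerPairs.coeff_bIdem hM]
      by_cases hx : x ∈ BrauerPairs.pairStab M Q f
      · have e1 := BrauerPairs.subgroupBlockCoeff_coe _ F' ⟨x, hx⟩
        have e2 := BrauerPairs.subgroupBlockCoeff_coe _ F₀ ⟨x, hx⟩
        rw [e1, e2, hc, hF₀c]
      · rw [BrauerPairs.subgroupBlockCoeff_of_notMem _ _ hx,
          BrauerPairs.subgroupBlockCoeff_of_notMem _ _ hx]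
    rwa [← this]

end Cfsg.Agent.S4679
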