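import Cfsg.Statements.S4680
import Cfsg.Agent.Lib.BrauerPairs.Fusion
import Cfsg.Agent.EqLemmas

set_option autoImplicit false
open Cfsg

namespace Cfsg.Agent.S4680

/-- Fix a prime p and a maximal ideal M of the algebraic integers containing p, a p-block B of the finite group G with maximal Brauer pair (P, e), its fusion system F on P, and a Brauer pair (Q, f) ≤ (P, e). Then Q is centric in F if and only if Z(Q) is a defect group of f as a block of C_G(Q). -/
theorem result {G : Type*} [Group G] [Fintype G] (p : ℕ) [Fact p.Prime] (M : Ideal Cfsg.AlgInt) (hM : Cfsg.IsPModular p M) (B : Set (Cfsg.IrrCharacter G)) (P : Subgroup G) (e : Set (Cfsg.IrrCharacter (Subgroup.centralizer (P : Set G)))) (hmax : Cfsg.IsMaximalBrauerPair p M B P e) (F : Cfsg.FusionSystem P) (hF : Cfsg.IsBlockFusionSystemOn p M B P e F) (Q : Subgroup G) (f : Set (Cfsg.IrrCharacter (Subgroup.centralizer (Q : Set G)))) (hQP : Q ≤ P) (hf : Cfsg.IsPBlock M f) (hle : Cfsg.SubpairLE p M Q f P e) : F.IsCentric Q ↔ Cfsg.IsDefectGroup p M f ((Q ⊓ Subgroup.centralizer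 (Q : Set G)).subgroupOf (Subgroup.centralizer (Q : Set G))) := by
  classical
  have hPe := hmax.1.1
  have hCN := BrauerPairs.centralizer_le_normalizer hM Q
  have hsub : ∀ (A H : Subgroup G), A ≤ H → Nat.card (A.subgroupOf H) = Nat.card A :=
    fun A H h => Nat.card_congr (Subgroup.subgroupOfEquivOfLe h).toEquiv
  obtain ⟨D, hD, hDle⟩ := BrauerPairs.exists_local_defectGroup_ge hM hPe hle hCN hf rfl
  have hZC : Q ⊓ Subgroup.centralizer (Q : Set G) ≤ P ⊓ Subgroup.centralizer (Q : Set G) :=
    inf_le_inf_right _ hQP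
  constructor
  · intro hcen
    obtain ⟨x, hx, hdef⟩ := BrauerPairs.local_defect hM hmax hle hf hCN hf rfl
    have hconj := (BrauerPairs.isConj_iff hM hF hle).2 ⟨x, rfl, hx⟩
    have hle2 : P ⊓ Subgroup.centralizer (Blocks.conjSub x Q : Set G) ≤ Blocks.conjSub x Q :=
      hcen.2 _ hconj
    have hE := hdef _ _ (BrauerPairs.conjSub_centralizer_map Q x).symm
      (BrauerPairs.isPBlock_conjBlock Q x hf) rfl
    have h1 : Nat.card D ≤ Nat.card (Q ⊓ Subgroup.centralizer (Q : Set G) : Subgroup G) := by
      have hbr := BrauerPairs.sub_br_defectGroup_ne_zero hM hD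
      have h2 := BrauerPairs.sub_card_le_of_br_ne_zero hM (BrauerPairs.isPBlock_conjBlock Q x hf)
        (R := Blocks.conjSub x (D.map (Subgroup.centralizer (Q : Set G)).subtype))
        ((Blocks.conjSub_mono x (Subgroup.map_subtype_le D)).trans
          (BrauerPairs.conjSub_centralizer_map Q x).le)
        (((Blocks.isPGroup_defectGroup hM hD).map _).map _) (fun h0 => hbr ?_) hE
      · rw [Blocks.card_conjSub, Subgroup.card_map_of_injective (Subgroup.subtype_injective _),
          hsub _ _ inf_le_right] at h2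
        refine h2.trans ((Subgroup.card_le_of_le (le_inf (hle2.trans le_rfl) inf_le_right)).trans
          (le_of_eq ?_))
        rw [← Blocks.card_conjSub x (Q ⊓ Subgroup.centralizer (Q : Set G))]
        congr 2
        rw [← BrauerPairs.conjSub_centralizer_map, Blocks.conjSub, Blocks.conjSub, Blocks.conjSub,
          Subgroup.map_inf _ _ _ (MulAut.conj x).injective]
      · apply (BrauerPairs.cj (k := BrauerPairs.Res M) x).injective
        rw [BrauerPairs.cj_br, map_zero]
        exact (congrArg (BrauerPairs.br _) (BrauerPairs.cj_cb hM Q x f)).trans h0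
    have h3 : (Q ⊓ Subgroup.centralizer (Q : Set G)).subgroupOf (Subgroup.centralizer (Q : Set G)) = D := by
      refine Subgroup.eq_of_le_of_card_ge ((Subgroup.comap_mono hZC).trans hDle) ?_
      rw [hsub _ _ inf_le_right]
      exact h1
    exact h3 ▸ hD
  · intro hZ
    refine ⟨hQP, fun R hR => ?_⟩
    obtain ⟨g, rfl, hg⟩ := (BrauerPairs.isConj_iff hM hF hle).1 hR
    have hD2 : IsDefectGroup p M f ((P ⊓ (Subgroup.centralizer (Q : Set G))).subgroupOf (Subgroup.centralizer (Q : Set G))) := by
      obtain ⟨y, hy⟩ := Blocks.isDefectGroup_conj_eq hM hf hZ hD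
      have hDcard : Nat.card D = Nat.card ((Q ⊓ (Subgroup.centralizer (Q : Set G))).subgroupOf (Subgroup.centralizer (Q : Set G))) := by
        rw [← hy, Blocks.card_conjSub]
      have h1 : D = (P ⊓ (Subgroup.centralizer (Q : Set G))).subgroupOf (Subgroup.centralizer (Q : Set G)) := (Subgroup.eq_of_le_of_card_ge hDle (by
        rw [hDcard]
        exact Subgroup.card_le_of_le (Subgroup.comap_mono hZC))).symm
      exact h1 ▸ hD
    have h4 := (BrauerPairs.local_fully_iff hM hmax hle hf hCN hf rfl).2 hD2 g hg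
    obtain ⟨y, hy⟩ := Blocks.isDefectGroup_conj_eq hM hf hZ hD2
    have h5 := congrArg (fun A : Subgroup _ => Nat.card A) hy
    simp only [Blocks.card_conjSub, hsub _ _ inf_le_right] at h5
    rw [BrauerPairs.conjSub_centralizer_map, ← h5, ← Blocks.card_conjSub g (Q ⊓ (Subgroup.centralizer (Q : Set G)))] at h4
    have hle3 : Blocks.conjSub g (Q ⊓ (Subgroup.centralizer (Q : Set G))) ≤
        P ⊓ Subgroup.centralizer ((Blocks.conjSub g Q : Subgroup G) : Set G) := by
      rw [← BrauerPairs.conjSub_centralizer_map]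
      exact le_inf ((Blocks.conjSub_mono g inf_le_left).trans
        (BrauerPairs.subgroup_le_of_subpairLE
          (a := (⟨Blocks.conjSub g Q, Cfsg.conjBlock Q g f⟩ : Cfsg.BrauerPairIdx G))
          (b := ⟨P, e⟩) hg)) (Blocks.conjSub_mono g inf_le_right)
    intro u hu
    have := Subgroup.eq_of_le_of_card_ge hle3 h4
    refine Blocks.conjSub_mono g (inf_le_left : Q ⊓ Subgroup.centralizer (Q : Set G) ≤ Q) ?_
    rw [this]
    exact hu

end Cfsg.Agent.S4680
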