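import Cfsg.Statements.S4682
import Cfsg.Agent.Lib.BrauerPairs.AbelianDefect
import Cfsg.Agent.EqLemmas

set_option autoImplicit false
open Cfsg

namespace Cfsg.Agent.S4682

/-- Fix a prime p and a maximal ideal M of the algebraic integers containing p, a p-block B of the finite group G with maximal Brauer pair (P, e), P abelian, and a Brauer pair (Q, f) ≤ (P, e). Let T_Q be the stabilizer of f in N_G(Q) and T_P the stabilizer of e in N_G(P). Then every element of T_Q is a product of an element of T_P and an element of C_G(Q); and the index of C_G(Q) in T_Q equals the index of T_P ∩ C_G(Q) in T_P ∩ N_G(Q). -/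
theorem result {G : Type*} [Group G] [Fintype G] (p : ℕ) [Fact p.Prime] (M : Ideal Cfsg.AlgInt) (hM : Cfsg.IsPModular p M) (B : Set (Cfsg.IrrCharacter G)) (P : Subgroup G) (e : Set (Cfsg.IrrCharacter (Subgroup.centralizer (P : Set G)))) (hmax : Cfsg.IsMaximalBrauerPair p M B P e) (hab : ∀ x ∈ P, ∀ y ∈ P, x * y = y * x) (Q : Subgroup G) (f : Set (Cfsg.IrrCharacter (Subgroup.centralizer (Q : Set G)))) (hQP : Q ≤ P) (hf : Cfsg.IsPBlock M f) (hle : Cfsg.SubpairLE p M Q f P e) (TQ : Subgroup G) (hTQ : ∀ y : G, y ∈ TQ ↔ y ∈ Subgroup.normalizer (Q : Set G) ∧ Cfsg.StabilizesBlock (Subgroup.centralizer (Q : Set G)) f y) (TP : Subgroup G) (hTP : ∀ y : G, y ∈ TP ↔ y ∈ Subgroup.normalizer (P : Set G) ∧ Cfsg.StabilizesBlock (Subgroup.centralizer (P : Set G)) e y) : (∀ x ∈ TQ, ∃ y ∈ TP, ∃ c ∈ Subgroup.centralizer (Q : Set G), x = y * c) ∧ ((Subgroup.centralizer (Q : Set G)).subgroupOf TQ).index = ((TP ⊓ Subgroup.centralizer (Q : Set G)).subgroupOf (TP ⊓ Subgroup.normalizer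 (Q : Set G))).index := by
  have hTQeq : TQ = BrauerPairs.pairStab M Q f := by
    ext y
    rw [hTQ, BrauerPairs.mem_pairStab_iff hM hf]
  have hTPeq : TP = BrauerPairs.pairStab M P e := by
    ext y
    rw [hTP, BrauerPairs.mem_pairStab_iff hM hmax.1.1.2]
  subst hTQeq hTPeq
  have hdec : ∀ x ∈ BrauerPairs.pairStab M Q f, ∃ y ∈ BrauerPairs.pairStab M P e,
      ∃ c ∈ Subgroup.centralizer (Q : Set G), x = y * c ∧
        y ∈ Subgroup.normalizer (Q : Set G) := by
    intro x hx
    obtain ⟨c, hc, hy⟩ := BrauerPairs.abelian_decomp hM hmax hab hf hle hx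
    have hyN : c * x ∈ Subgroup.normalizer (Q : Set G) :=
      mul_mem (BrauerPairs.centralizer_le_normalizer hM Q hc) hx.1
    refine ⟨c * x, hy, (c * x)⁻¹ * x, ?_, by group, hyN⟩
    have := BrauerPairs.centralizer_inf_le Q hx.1 (inv_mem hc)
    simpa [mul_assoc] using this
  refine ⟨fun x hx => ?_, ?_⟩
  · obtain ⟨y, hy, c, hc, he, -⟩ := hdec x hx
    exact ⟨y, hy, c, hc, he⟩
  set T := BrauerPairs.pairStab M Q f with hT
  set A := BrauerPairs.pairStab M P e ⊓ Subgroup.normalizer (Q : Set G) with hA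
  have hAT : A ≤ T := fun y hy =>
    BrauerPairs.inf_normalizer_le_pairStab hM hmax.1.1 hf hle hy.1 hy.2
  set K := (Subgroup.centralizer (Q : Set G)).subgroupOf T with hK
  have hn : K.Normal := ⟨fun u hu t => by
    rw [hK, Subgroup.mem_subgroupOf] at hu ⊢
    exact (Subgroup.mem_normalizer_iff.1 (BrauerPairs.mem_normalizer_centralizer t.2.1) _).1 hu⟩
  have htop : A.subgroupOf T ⊔ K = ⊤ := by
    rw [eq_top_iff]
    intro x _
    obtain ⟨y, hy, c, hc, he, hyN⟩ := hdec x x.2
    have hx : x = ⟨y, hAT ⟨hy, hyN⟩⟩ * ⟨c, BrauerPairs.centralizer_le_pairStab hM Q f hc⟩ :=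
      Subtype.ext he
    rw [hx]
    exact mul_mem (Subgroup.mem_sup_left ⟨hy, hyN⟩) (Subgroup.mem_sup_right hc)
  have h1 : K.index = K.relIndex (A.subgroupOf T) := by
    rw [← Subgroup.relIndex_top_right, ← htop, Subgroup.relIndex_sup_right]
  rw [h1, hK, Subgroup.relIndex_subgroupOf hAT]
  show (Subgroup.centralizer (Q : Set G)).relIndex A =
    (BrauerPairs.pairStab M P e ⊓ Subgroup.centralizer (Q : Set G)).relIndex A
  rw [← Subgroup.inf_relIndex_right]
  conv_rhs => rw [← Subgroup.inf_relIndex_right]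
  congr 1
  ext y
  simp only [hA, Subgroup.mem_inf]
  tauto

end Cfsg.Agent.S4682
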