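import Cfsg.Statements.S4683
import Cfsg.Agent.Lib.SecondMain.BrauerPair
-- import your own Cfsg.Agent.* helpers here

set_option autoImplicit false
open Cfsg

namespace Cfsg.Agent.S4683

/-- Fix a prime p and a maximal ideal M of the algebraic integers containing p, a p-block B of the finite group G, a p-element u and a p-block e of C = C_G(u) such that (⟨u⟩, e) is a Brauer pair of B (a Brauer element of B). For χ ∈ B let χ_u be the e-part of the class function c ↦ χ(u c) on C and χ_u' the e-part of c ↦ χ(u⁻¹ c). Then the sum over χ ∈ B and over the p-regular elements s of C of χ_u(s)·χ_u'(s⁻¹) equals the order of C times the p-regular rank of e (the number of irreducible Brauer characters of e). -/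
theorem result {G : Type*} [Group G] [Fintype G] (p : ℕ) [Fact p.Prime] (M : Ideal Cfsg.AlgInt) (hM : Cfsg.IsPModular p M) (B : Set (Cfsg.IrrCharacter G)) (u : G) (hu : ∃ k : ℕ, orderOf u = p ^ k) (e : Set (Cfsg.IrrCharacter (Subgroup.centralizer (Subgroup.zpowers u : Set G)))) (hBe : Cfsg.IsBrauerPairOf p M B (Subgroup.zpowers u) e) : ∑ᶠ χ ∈ B, ∑ᶠ s : Subgroup.centralizer (Subgroup.zpowers u : Set G), Cfsg.pRegularPart p (Cfsg.blockPart e (fun c : Subgroup.centralizer (Subgroup.zpowers u : Set G) => (χ : G → ℂ) (u * c))) s * Cfsg.blockPart e (fun c : Subgroup.centralizer (Subgroup.zpowers u : Set G) => (χ : G → ℂ) (u⁻¹ * c)) s⁻¹ = (Nat.card (Subgroup.centralizer (Subgroup.zpowers u : Set G)) : ℂ) * (Cfsg.blockRank p e : ℂ) := by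
  classical
  have hH : ∀ g, g ∈ Subgroup.centralizer (Subgroup.zpowers u : Set G) ↔ Commute u g :=
    fun _ => Agent.SecondMain.mem_centralizer_zpowers_iff
  rw [← Agent.SecondMain.sum_blockPart_sq hM hu hH hBe.2.1
    (Agent.SecondMain.induced_of_brauerPair hM hu hBe)]
  refine finsum_mem_congr rfl fun χ _ => ?_
  rw [finsum_eq_sum_of_fintype, Finset.sum_filter]
  refine Finset.sum_congr rfl fun s _ => ?_
  have hconj : (fun c : Subgroup.centralizer (Subgroup.zpowers u : Set G) => (χ : G → ℂ) (u⁻¹ * c))
      = fun c : Subgroup.centralizer (Subgroup.zpowers u : Set G) => starRingEnd ℂ ((χ : G → ℂ)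
          (u * ((c⁻¹ : Subgroup.centralizer (Subgroup.zpowers u : Set G)) : G))) := by
    funext c
    rw [← Agent.Char.IsCharacter.apply_inv (Agent.Char.IsIrrCharacter.isCharacter χ.2)]
    rw [Subgroup.coe_inv, mul_inv_rev, inv_inv, (((hH c).mp c.2).inv_left).eq]
  rw [hconj, Agent.SecondMain.blockPart_conj_inv e
    (fun c : Subgroup.centralizer (Subgroup.zpowers u : Set G) => (χ : G → ℂ) (u * c)) s]
  by_cases hs : p ∣ orderOf s
  · rw [if_neg (not_not_intro hs), Agent.SecondMain.pRegularPart_of_singular hs, zero_mul]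
  · rw [if_pos hs, Agent.SecondMain.pRegularPart_of_regular hs]

end Cfsg.Agent.S4683
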