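import Cfsg.Statements.S4686
import Cfsg.Agent.Lib.BrauerPairs.AbelianDefect
import Cfsg.Agent.EqLemmas

set_option autoImplicit false
open Cfsg

namespace Cfsg.Agent.S4686

/-- Fix a prime p and a maximal ideal M of the algebraic integers containing p, a p-block B of the finite group G with maximal Brauer pair (P, e) and fusion system F on P. Then B is nilpotent (for every Brauer pair (Q, f) of B the stabilizer of f in N_G(Q) is C_G(Q) extended by a p-group) if and only if F is the inner fusion system of P: its maps from each subgroup of P are exactly the conjugations by elements of P. -/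
theorem result {G : Type*} [Group G] [Fintype G] (p : ℕ) [Fact p.Prime] (M : Ideal Cfsg.AlgInt) (hM : Cfsg.IsPModular p M) (B : Set (Cfsg.IrrCharacter G)) (P : Subgroup G) (e : Set (Cfsg.IrrCharacter (Subgroup.centralizer (P : Set G)))) (hmax : Cfsg.IsMaximalBrauerPair p M B P e) (F : Cfsg.FusionSystem P) (hF : Cfsg.IsBlockFusionSystemOn p M B P e F) : Cfsg.IsNilpotentBlock p M B ↔ ∀ Q : Subgroup G, F.Hom Q = (Cfsg.innerFusionSystem P).Hom Q := by
  constructor
  · intro hnil Q
    ext φ
    constructor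
    · intro hφ
      obtain ⟨hQP, g, hg, -, f, hf, hgf⟩ := (hF.2 Q φ).1 hφ
      have hfb : Cfsg.IsPBlock M f := (BrauerPairs.isBrauerPair_of_subpairLE
        (a := (⟨Q, f⟩ : Cfsg.BrauerPairIdx G)) (b := ⟨P, e⟩) hf hmax.1.1).2
      obtain ⟨u, hu, huC⟩ :=
        BrauerPairs.mem_coset_centralizer_of_nilpotent hM hmax hnil hfb hf hgf
      refine ⟨hQP, u, hu, fun q => ?_⟩
      have h := Subgroup.mem_centralizer_iff.1 huC q q.2
      rw [hg]
      calc g * (q : G) * g⁻¹ = u * ((u⁻¹ * g) * q) * g⁻¹ := by group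
        _ = u * ((q : G) * (u⁻¹ * g)) * g⁻¹ := by rw [h]
        _ = u * q * u⁻¹ := by group
    · rintro ⟨hQP, u, hu, h⟩
      have he : φ = Cfsg.conjHom Q u := by
        ext q
        exact h q
      rw [he]
      exact F.conj_mem hQP hu
  · intro hinner
    refine ⟨hmax.1.2.1, fun Q f hQf x hxN hxs hreg => ?_⟩
    obtain ⟨y, hy⟩ := BrauerPairs.exists_conj_le_maximal hM hmax hQf
    set z := y * x * y⁻¹ with hz
    have hzs : z ∈ BrauerPairs.pairStab M (Blocks.conjSub y Q) (Cfsg.conjBlock Q y f) := by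
      rw [BrauerPairs.pairStab_conj hM, Blocks.mem_conjSub]
      simpa [hz, mul_assoc] using (BrauerPairs.mem_pairStab_iff hM hQf.1.2).2 ⟨hxN, hxs⟩
    have hidx := BrauerPairs.conjIdx_eq_self_of_mem_pairStab hM
      (BrauerPairs.isPBlock_conjBlock Q y hQf.1.2) hzs
    have hQ1P : Blocks.conjSub y Q ≤ P := BrauerPairs.subgroup_le_of_subpairLE
      (a := (⟨Blocks.conjSub y Q, Cfsg.conjBlock Q y f⟩ : Cfsg.BrauerPairIdx G)) (b := ⟨P, e⟩) hy
    have hzle : Cfsg.SubpairLE p M (Blocks.conjSub z (Blocks.conjSub y Q))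
        (Cfsg.conjBlock (Blocks.conjSub y Q) z (Cfsg.conjBlock Q y f)) P e := by
      unfold Cfsg.SubpairLE at hy ⊢
      rw [show (⟨Blocks.conjSub z (Blocks.conjSub y Q),
        Cfsg.conjBlock (Blocks.conjSub y Q) z (Cfsg.conjBlock Q y f)⟩ : Cfsg.BrauerPairIdx G) =
          BrauerPairs.conjIdx z ⟨Blocks.conjSub y Q, Cfsg.conjBlock Q y f⟩ from rfl, hidx]
      exact hy
    have hmem : (MulAut.conj z).toMonoidHom.comp (Blocks.conjSub y Q).subtype ∈
        F.Hom (Blocks.conjSub y Q) :=
      (hF.2 _ _).2 ⟨hQ1P, z, fun _ => rfl, BrauerPairs.subgroup_le_of_subpairLE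
        (a := (⟨_, Cfsg.conjBlock (Blocks.conjSub y Q) z (Cfsg.conjBlock Q y f)⟩ :
          Cfsg.BrauerPairIdx G)) (b := ⟨P, e⟩) hzle, _, hy, hzle⟩
    rw [hinner] at hmem
    obtain ⟨-, u, hu, hu'⟩ := hmem
    set C := Subgroup.centralizer ((Blocks.conjSub y Q : Subgroup G) : Set G) with hC
    have hk : u⁻¹ * z ∈ C := Subgroup.mem_centralizer_iff.2 fun q hq => by
      have h : z * q * z⁻¹ = u * q * u⁻¹ := hu' ⟨q, hq⟩
      calc q * (u⁻¹ * z) = u⁻¹ * (u * q * u⁻¹) * z := by group
        _ = u⁻¹ * (z * q * z⁻¹) * z := by rw [h]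
        _ = u⁻¹ * z * q := by group
    have huN : u ∈ Subgroup.normalizer (Blocks.conjSub y Q : Set G) := by
      have := mul_mem hzs.1 (inv_mem (BrauerPairs.centralizer_le_normalizer hM _ hk))
      simpa using this
    have hpow : ∀ n : ℕ, (u ^ n)⁻¹ * z ^ n ∈ C := by
      intro n
      induction n with
      | zero => simp
      | succ n ih =>
        have h1 := BrauerPairs.centralizer_inf_le _ huN ih
        have h2 := mul_mem h1 hk
        convert h2 using 1
        rw [pow_succ u n, pow_succ z n]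
        group
    obtain ⟨a, ha⟩ := hmax.1.1.1 ⟨u, hu⟩
    have hua : u ^ (p ^ a) = 1 := congrArg Subtype.val ha
    have h3 := hpow (p ^ a)
    rw [hua, inv_one, one_mul] at h3
    have hcop : (orderOf z).Coprime (p ^ a) := by
      rw [hz, show y * x * y⁻¹ = MulAut.conj y x from rfl,
        MulEquiv.orderOf_eq]
      exact Nat.Coprime.pow_right _ ((BrauerPairs.coprime_orderOf_iff x).2 hreg)
    have hz4 : z ∈ C := by
      obtain ⟨m, hm⟩ := exists_pow_eq_self_of_coprime hcop.symm
      rw [← hm]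
      exact pow_mem h3 m
    rw [hC, ← BrauerPairs.conjSub_centralizer_map, Blocks.mem_conjSub] at hz4
    simpa [hz, mul_assoc] using hz4

end Cfsg.Agent.S4686
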