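import Cfsg.Statements.S4688
import Cfsg.Agent.Lib.BrauerPairs.AbelianDefect
import Cfsg.Agent.EqLemmas

set_option autoImplicit false
open Cfsg

namespace Cfsg.Agent.S4688

/-- Fix a prime p and a maximal ideal M of the algebraic integers containing p, and a nilpotent p-block B of the finite group G with maximal Brauer pair (P, e). Then for every Brauer pair (Q, f) of B, f is a nilpotent block of C_G(Q); and if moreover (Q, f) ≤ (P, e), then C_P(Q) is a defect group of f as a block of C_G(Q). -/
theorem result {G : Type*} [Group G] [Fintype G] (p : ℕ) [Fact p.Prime] (M : Ideal Cfsg.AlgInt) (hM : Cfsg.IsPModular p M) (B : Set (Cfsg.IrrCharacter G)) (P : Subgroup G) (e : Set (Cfsg.IrrCharacter (Subgroup.centralizer (P : Set G)))) (hmax : Cfsg.IsMaximalBrauerPair p M B P e) (hnil : Cfsg.IsNilpotentBlock p M B) (Q : Subgroup G) (f : Set (Cfsg.IrrCharacter (Subgroup.centralizer (Q : Set G)))) (hQf : Cfsg.IsBrauerPairOf p M B Q f) : Cfsg.IsNilpotentBlock p M f ∧ (Cfsg.SubpairLE p M Q f P e → Cfsg.IsDefectGroup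 p M f ((P ⊓ Subgroup.centralizer (Q : Set G)).subgroupOf (Subgroup.centralizer (Q : Set G)))) := by
  classical
  obtain ⟨⟨hQ, hf⟩, hB, -⟩ := id hQf
  refine ⟨⟨hf, fun R' e' hR' x hxN hxs hreg => ?_⟩, fun hle => ?_⟩
  · obtain ⟨⟨hR'p, he'⟩, -, hle'⟩ := (BrauerPairs.isBrauerPairOf_iff hM).1 hR'
    set R := R'.map (Subgroup.centralizer (Q : Set G)).subtype with hRdef
    have hRC : R ≤ Subgroup.centralizer (Q : Set G) := Subgroup.map_subtype_le R'
    have hmem : ∀ y : G, y ∈ Subgroup.centralizer ((Q ⊔ R : Subgroup G) : Set G) ↔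
        y ∈ Subgroup.centralizer (Q : Set G) ∧ y ∈ Subgroup.centralizer (R : Set G) := by
      intro y
      constructor
      · exact fun h => ⟨Subgroup.centralizer_le (le_sup_left : Q ≤ Q ⊔ R) h,
          Subgroup.centralizer_le (le_sup_right : R ≤ Q ⊔ R) h⟩
      · rintro ⟨h1, h2⟩
        rw [← Blocks.le_centralizer_singleton] at h1 h2 ⊢
        exact sup_le h1 h2
    let φ : Subgroup.centralizer ((Q ⊔ R : Subgroup G) : Set G) ≃*
        Subgroup.centralizer (R' : Set ↥(Subgroup.centralizer (Q : Set G))) :=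
      { toFun := fun y => ⟨⟨y, ((hmem y).1 y.2).1⟩,
          (BrauerPairs.mem_centralizer_sub_iff R' _).2 ((hmem y).1 y.2).2⟩
        invFun := fun y => ⟨((y : ↥(Subgroup.centralizer (Q : Set G))) : G), (hmem _).2
          ⟨(y : ↥(Subgroup.centralizer (Q : Set G))).2,
            (BrauerPairs.mem_centralizer_sub_iff R' _).1 y.2⟩⟩
        left_inv := fun _ => rfl
        right_inv := fun _ => rfl
        map_mul' := fun _ _ => rfl }
    have hemb : BrauerPairs.emb (Subgroup.centralizer (Q : Set G)) (BrauerPairs.cb M R' e') =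
        BrauerPairs.cb M (Q ⊔ R) (BrauerPairs.pullIrr φ '' e') :=
      BrauerPairs.emb_bIdem hM φ (fun _ => rfl) e'
    have he'' : Cfsg.IsPBlock M (BrauerPairs.pullIrr φ '' e') := BrauerPairs.isPBlock_image φ he'
    have hRp : IsPGroup p R := hR'p.map _
    have hSN : Q ⊔ R ≤ Subgroup.normalizer (Q : Set G) :=
      sup_le Subgroup.le_normalizer (hRC.trans (BrauerPairs.centralizer_le_normalizer hM Q))
    have hS : IsPGroup p (Q ⊔ R : Subgroup G) :=
      hQ.to_sup_of_normal_left' hRp (hRC.trans (BrauerPairs.centralizer_le_normalizer hM Q))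
    have hn : Cfsg.SubpairLE p M Q f (Q ⊔ R) (BrauerPairs.pullIrr φ '' e') := by
      refine Relation.ReflTransGen.single ((BrauerPairs.isNormalSubpair_iff hM).2
        ⟨⟨hQ, hf⟩, ⟨hS, he''⟩, le_sup_left, hSN, ?_, ?_⟩)
      · have hle2 : Q ⊔ R ≤ BrauerPairs.pairStab M Q f :=
          sup_le (BrauerPairs.le_pairStab Q f)
            (hRC.trans (BrauerPairs.centralizer_le_pairStab hM Q f))
        exact fun u hu => (hle2 hu).2
      · rw [BrauerPairs.br_sup_of_suppIn (BrauerPairs.bIdem_central _ f).1, ← hemb]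
        have h := congrArg (BrauerPairs.emb (Subgroup.centralizer (Q : Set G))) hle'
        rw [map_mul, BrauerPairs.emb_br] at h
        exact h
    have hpair := (BrauerPairs.isBrauerPairOf_iff_of_le hM hB hn).2 hQf
    have hxG : (x : G) ∈ Subgroup.normalizer (R : Set G) :=
      (BrauerPairs.mem_normalizer_sub_iff hM R' x).1 hxN
    have hxS : (x : G) ∈ Subgroup.normalizer ((Q ⊔ R : Subgroup G) : Set G) := by
      rw [← Blocks.conjSub_eq_self_iff, Blocks.conjSub, Subgroup.map_sup]
      exact congrArg₂ (· ⊔ ·)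
        (Blocks.conjSub_eq_self_iff.2 (BrauerPairs.centralizer_le_normalizer hM Q x.2))
        (Blocks.conjSub_eq_self_iff.2 hxG)
    have hst : Cfsg.StabilizesBlock (Subgroup.centralizer ((Q ⊔ R : Subgroup G) : Set G))
        (BrauerPairs.pullIrr φ '' e') (x : G) := by
      rw [BrauerPairs.stabilizesBlock_iff hM he'' (BrauerPairs.mem_normalizer_centralizer hxS)]
      show BrauerPairs.cj (x : G) (BrauerPairs.cb M (Q ⊔ R) (BrauerPairs.pullIrr φ '' e')) = _
      rw [← hemb, ← BrauerPairs.emb_cj,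
        (BrauerPairs.stabilizesBlock_iff hM he' (BrauerPairs.mem_normalizer_centralizer hxN)).1 hxs]
      exact hemb.trans rfl
    have hreg' : Cfsg.IsPRegular p (x : G) := by
      rw [← BrauerPairs.coprime_orderOf_iff] at hreg ⊢
      rwa [Subgroup.orderOf_coe]
    have hres := hnil.2 _ _ hpair (x : G) hxS hst hreg'
    exact (BrauerPairs.mem_centralizer_sub_iff R' x).2 ((hmem _).1 hres).2
  · refine (BrauerPairs.local_fully_iff hM hmax hle hf
      (BrauerPairs.centralizer_le_normalizer hM Q) hf rfl).1 fun g hg => le_of_eq ?_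
    obtain ⟨u, hu, huC⟩ :=
      BrauerPairs.mem_coset_centralizer_of_nilpotent hM hmax hnil hf hle hg
    have hC : Blocks.conjSub g (Subgroup.centralizer (Q : Set G)) =
        Blocks.conjSub u (Subgroup.centralizer (Q : Set G)) := by
      rw [show g = u * (u⁻¹ * g) by group, ← Blocks.conjSub_mul,
        Blocks.conjSub_eq_self_iff.2 (Subgroup.le_normalizer huC)]
    have hP : Blocks.conjSub u P = P := Blocks.conjSub_eq_self_iff.2 (Subgroup.le_normalizer hu)
    rw [hC]
    conv_lhs => rw [← hP, Blocks.conjSub, Blocks.conjSub,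
      ← Subgroup.map_inf _ _ _ (MulAut.conj u).injective]
    exact Blocks.card_conjSub u _

end Cfsg.Agent.S4688
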