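import Cfsg.Statements.S4689
import Cfsg.Agent.Lib.Star.Nilpotent

set_option autoImplicit false
open Cfsg

namespace Cfsg.Agent.S4689

/-- Fix a prime p and a maximal ideal M of the algebraic integers containing p, and a nilpotent p-block B of the finite group G. Then B has p-regular rank one (a single irreducible Brauer character), and some χ₀ ∈ B restricts to that Brauer character: every χ ∈ B agrees on the p-regular elements with a natural-number multiple of χ₀. -/
theorem result {G : Type*} [Group G] [Fintype G] (p : ℕ) [Fact p.Prime] (M : Ideal Cfsg.AlgInt) (hM : Cfsg.IsPModular p M) (B : Set (Cfsg.IrrCharacter G)) (hnil : Cfsg.IsNilpotentBlock p M B) : Cfsg.blockRank p B = 1 ∧ ∃ χ₀ ∈ B, ∀ χ ∈ B, ∃ d : ℕ, ∀ x : G, Cfsg.pRegularPart p (χ : G → ℂ) x = (d : ℂ) * Cfsg.pRegularPart p (χ₀ : G → ℂ) x := by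
  obtain ⟨P, hP⟩ := Agent.Blocks.exists_isDefectGroup (p := p) hM hnil.1
  obtain ⟨χ, hχ, -, Ψ, hΨ⟩ := Agent.Star.nilpotent_summary hM hnil hP
  have hall : ∀ ψ ∈ B, ∃ d : ℕ, ∀ x : G, pRegularPart p (ψ : G → ℂ) x =
      (d : ℂ) * pRegularPart p (χ : G → ℂ) x := fun ψ hψ => by
    obtain ⟨η, hη⟩ := Ψ.surjective ⟨ψ, hψ⟩
    refine ⟨charDegree (η : P → ℂ), fun x => ?_⟩
    rw [← (hΨ η).2 x, hη]
  refine ⟨?_, χ, hχ, hall⟩
  rw [blockRank]
  have hsp : Submodule.span ℂ ((fun ψ : IrrCharacter G => pRegularPart p (ψ : G → ℂ)) '' B) =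
      Submodule.span ℂ {pRegularPart p (χ : G → ℂ)} := by
    refine le_antisymm (Submodule.span_le.2 ?_)
      ((Submodule.span_singleton_le_iff_mem _ _).2 (Submodule.subset_span ⟨χ, hχ, rfl⟩))
    rintro _ ⟨ψ, hψ, rfl⟩
    obtain ⟨d, hd⟩ := hall ψ hψ
    exact Submodule.mem_span_singleton.2 ⟨(d : ℂ), funext fun x => (hd x).symm⟩
  rw [hsp, finrank_span_singleton]
  intro h0
  have h := congrFun h0 1
  rw [Agent.SecondMain.pRegularPart_of_regular (by
    rw [orderOf_one]; exact (Fact.out : p.Prime).one_lt.ne' ∘ Nat.dvd_one.1)] at h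
  exact Agent.Blocks.irr_one_ne_zero χ h

end Cfsg.Agent.S4689
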