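import Cfsg.Statements.S4693
import Cfsg.Agent.S4680
import Cfsg.Agent.Lib.BrauerPairs.LocalFusion
import Cfsg.Agent.Lib.BrauerPairs.PPowerIndex

set_option autoImplicit false
open Cfsg

namespace Cfsg.Agent.S4693

/-- Fix a prime p and a maximal ideal M of the algebraic integers containing p, a p-block B of the finite group G with maximal Brauer pair (P, e) and fusion system F on P, and a Brauer pair (Q, f) ≤ (P, e) with Q centric in F. Suppose every element of G normalizes Q and stabilizes f. Then the idempotent of B agrees with that of f modulo M at every element of G, and f is the idempotent of a nilpotent block of Q·C_G(Q): some p-block of Q·C_G(Q) has the idempotent coefficients of f and is nilpotent. -/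
theorem result {G : Type*} [Group G] [Fintype G] (p : ℕ) [Fact p.Prime] (M : Ideal Cfsg.AlgInt) (hM : Cfsg.IsPModular p M) (B : Set (Cfsg.IrrCharacter G)) (P : Subgroup G) (e : Set (Cfsg.IrrCharacter (Subgroup.centralizer (P : Set G)))) (hmax : Cfsg.IsMaximalBrauerPair p M B P e) (F : Cfsg.FusionSystem P) (hF : Cfsg.IsBlockFusionSystemOn p M B P e F) (Q : Subgroup G) (f : Set (Cfsg.IrrCharacter (Subgroup.centralizer (Q : Set G)))) (hQP : Q ≤ P) (hf : Cfsg.IsPBlock M f) (hle : Cfsg.SubpairLE p M Q f P e) (hcen : F.IsCentric Q) (hG : ∀ x : G, x ∈ Subgroup.normalizer (Q : Set G) ∧ Cfsg.StabilizesBlock (Subgroup.centralizer (Q : Set G)) f x) : (∀ g : G, Cfsg.MemLocalIdeal M (Cfsg.blockCoeff B g - Cfsg.subgroupBlockCoeff (Subgroup.centralizer (Q : Set G)) f g)) ∧ ∃ F' : Set (Cfsg.IrrCharacter ↥(Q ⊔ Subgroup.centralizer (Q : Set G))), Cfsg.IsPBlock M F' ∧ (∀ t : ↥(Q ⊔ Subgroup.centralizer (Q : Set G)), Cfsg.blockCoeff F' t = Cfsg.subgroupBlockCoeff (Subgroup.centralizer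 (Q : Set G)) f (t : G)) ∧ Cfsg.IsNilpotentBlock p M F' := by
  open Cfsg.Agent.Blocks Cfsg.Agent.BrauerPairs in
  classical
  have hPe : IsBrauerPair p M P e := hmax.1.1
  have hB : IsPBlock M B := hmax.1.2.1
  have hQp : IsPGroup p Q := hPe.1.to_le hQP
  have hQn : Q.Normal := Subgroup.normalizer_eq_top_iff.1 (eq_top_iff.2 fun x _ => (hG x).1)
  have hCn : (Subgroup.centralizer (Q : Set G)).Normal := Subgroup.normalizer_eq_top_iff.1
    (eq_top_iff.2 fun x _ => mem_normalizer_centralizer (hG x).1)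
  have hfix : Fixed ⊤ (cb M Q f) := fun x _ =>
    (stabilizesBlock_iff hM hf (mem_normalizer_centralizer (hG x).1)).1 (hG x).2
  have hblk : blk M B = cb M Q f := by
    have h1 := ((isBrauerPairOf_iff_of_le hM hB hle).1 hmax.1)
    have h2 := ((isBrauerPairOf_iff hM).1 h1).2.2
    rw [eq_br_of_normal_top hM hQp (fixed_blk B) (blk_mul_self hM hB)] at h2
    have hcomm : cb M Q f * blk M B = blk M B * cb M Q f := hfix.commute SuppIn.top
    obtain ⟨ξ, hξ⟩ := isPBlock_nonempty hM hB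
    rcases mul_blk_cases hM hfix (bIdem_mul_self hM hf) hB hξ with ⟨-, h⟩ | ⟨-, h⟩
    · rw [← h, hcomm]; exact h2
    · exact absurd (show cb M Q f = 0 by rw [← h2, ← hcomm, h]) (bIdem_ne_zero hM hf)
  refine ⟨fun g => ?_, ?_⟩
  · rw [← res_eq_iff hM (memR_blockCoeff hM hB g) (memR_subgroupBlockCoeff hM hf g)]
    have h := congrArg (fun w => MonoidAlgebra.coeff w g) hblk
    simpa only [blk, coeff_red, coeff_bIdem hM] using h
  obtain ⟨F', hF', heq, hcoef⟩ := exists_block_of_stable hM hQp (le_sup_left : Q ≤ (Q ⊔ (Subgroup.centralizer (Q : Set G))))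
    (fun x _ => (hG x).1) le_sup_right hf (hfix.mono le_top)
  refine ⟨F', hF', hcoef, hF', fun R ε hR x hx hxst hxreg => ?_⟩
  have hQH : IsPGroup p (Q.subgroupOf (Q ⊔ (Subgroup.centralizer (Q : Set G)))) :=
    hQp.comap_of_injective (Q ⊔ (Subgroup.centralizer (Q : Set G))).subtype (Q ⊔ (Subgroup.centralizer (Q : Set G))).subtype_injective
  have hbr : br (Q.subgroupOf (Q ⊔ (Subgroup.centralizer (Q : Set G)))) (blk M F') = blk M F' :=
    eq_br_of_normal_top hM hQH (fixed_blk F') (blk_mul_self hM hF')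
  obtain ⟨D, hD, hQD⟩ := exists_defectGroup_ge hM hF' hQH
    (by rw [hbr]; exact blk_ne_zero hM hF')
  have hcentric := (S4680.result p M hM B P e hmax F hF Q f hQP hf hle).1 hcen
  have hinf : D.map (Q ⊔ (Subgroup.centralizer (Q : Set G))).subtype ⊓ (Subgroup.centralizer (Q : Set G)) = Q ⊓ (Subgroup.centralizer (Q : Set G)) := by
    refine (Subgroup.eq_of_le_of_card_ge (le_inf ?_ inf_le_right) ?_).symm
    · refine inf_le_left.trans fun q hq => ?_
      exact ⟨⟨q, Subgroup.mem_sup_left hq⟩, hQD hq, rfl⟩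
    · rw [card_inter_centralizer hM hf (fun x _ => (hG x).1) le_sup_right hF' heq hD hcentric]
      exact le_of_eq (Nat.card_congr (Subgroup.subgroupOfEquivOfLe inf_le_right).toEquiv)
  have hDQ : D = Q.subgroupOf (Q ⊔ (Subgroup.centralizer (Q : Set G))) := by
    refine le_antisymm (fun d hd => ?_) hQD
    have hd' : (d : G) ∈ ((Q ⊔ (Subgroup.centralizer (Q : Set G)) : Subgroup G) : Set G) := d.2
    rw [Subgroup.mul_normal] at hd'
    obtain ⟨q, hq, c, hc, hqc⟩ := Set.mem_mul.1 hd'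
    have hcD : c ∈ D.map (Q ⊔ (Subgroup.centralizer (Q : Set G))).subtype := by
      refine ⟨(⟨q, Subgroup.mem_sup_left hq⟩ : ↥(Q ⊔ (Subgroup.centralizer (Q : Set G))))⁻¹ * d, mul_mem (inv_mem (hQD hq)) hd, ?_⟩
      show q⁻¹ * (d : G) = c
      rw [← hqc]
      group
    have h2 : c ∈ Q ⊓ (Subgroup.centralizer (Q : Set G)) := hinf ▸ Subgroup.mem_inf.2 ⟨hcD, hc⟩
    show (d : G) ∈ Q
    rw [← hqc]
    exact mul_mem hq h2.1
  have hRQ : R ≤ Q.subgroupOf (Q ⊔ (Subgroup.centralizer (Q : Set G))) := by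
    obtain ⟨hR1, -, hR2⟩ := (isBrauerPairOf_iff hM).1 hR
    have hne : br R (blk M F') ≠ 0 := fun h => by
      rw [h, zero_mul] at hR2
      exact bIdem_ne_zero hM hR1.2 hR2.symm
    obtain ⟨D', hD', hRD⟩ := exists_defectGroup_ge hM hF' hR1.1 hne
    obtain ⟨y, rfl⟩ := isDefectGroup_conj_eq hM hF' hD hD'
    rwa [hDQ, conjSub_eq_self_iff.2 (by rw [Subgroup.normalizer_eq_top]; trivial)] at hRD
  have hidx : ∃ k : ℕ, ((Subgroup.centralizer (Q : Set G)).subgroupOf (Q ⊔ (Subgroup.centralizer (Q : Set G)))).index = p ^ k := by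
    obtain ⟨k, hk⟩ := IsPGroup.iff_card.1 hQp
    obtain ⟨j, -, hj⟩ := (Nat.dvd_prime_pow (Fact.out : p.Prime)).1
      (hk ▸ (Subgroup.relIndex_dvd_card (Subgroup.centralizer (Q : Set G)) Q))
    exact ⟨j, by rw [← hj, ← Subgroup.relIndex_sup_right]; rfl⟩
  have hxC : (x : G) ∈ (Subgroup.centralizer (Q : Set G)) := mem_of_not_dvd_orderOf (N := (Subgroup.centralizer (Q : Set G)).subgroupOf (Q ⊔ (Subgroup.centralizer (Q : Set G)))) hidx hxreg
  rw [Subgroup.mem_centralizer_iff]
  intro r hr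
  exact Subtype.ext ((Subgroup.mem_centralizer_iff.1 hxC) _ (hRQ hr))

end Cfsg.Agent.S4693
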