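import Cfsg.Statements.S4694
import Cfsg.Agent.S0887
import Cfsg.Agent.Lib.BrauerPairs.Covering
import Cfsg.Agent.Lib.BrauerPairs.LocalFusion
import Cfsg.Agent.Lib.BlocksNormal.CentralDefect
import Cfsg.Agent.Lib.Blocks.Induced

set_option autoImplicit false
open Cfsg

namespace Cfsg.Agent.S4694

/-- Fix a prime p and a maximal ideal M of the algebraic integers containing p, a p-block B of the finite group G and a Brauer pair (Q, e) of B. Let T be the stabilizer of e in N_G(Q) and suppose that (Q, e) carries a weight: the block of T whose idempotent is that of e contains an irreducible character χ that is constant on the cosets of Q and whose degree has p-part equal to the p-part of the index of Q in T. Then Z(Q) is a defect group of e as a block of C_G(Q), and Q is the largest normal p-subgroup of T: every p-subgroup of T normalized by T lies in Q. -/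
theorem result {G : Type*} [Group G] [Fintype G] (p : ℕ) [Fact p.Prime] (M : Ideal Cfsg.AlgInt) (hM : Cfsg.IsPModular p M) (B : Set (Cfsg.IrrCharacter G)) (Q : Subgroup G) (e : Set (Cfsg.IrrCharacter (Subgroup.centralizer (Q : Set G)))) (hQe : Cfsg.IsBrauerPairOf p M B Q e) (T : Subgroup G) (hT : ∀ y : G, y ∈ T ↔ y ∈ Subgroup.normalizer (Q : Set G) ∧ Cfsg.StabilizesBlock (Subgroup.centralizer (Q : Set G)) e y) (F' : Set (Cfsg.IrrCharacter T)) (hF' : Cfsg.IsPBlock M F') (hF'e : ∀ t : T, Cfsg.blockCoeff F' t = Cfsg.subgroupBlockCoeff (Subgroup.centralizer (Q : Set G)) e (t : G)) (χ : Cfsg.IrrCharacter T) (hχ : χ ∈ F') (hχQ : ∀ q : G, q ∈ Q → ∀ t : T, ∀ t' : T, (t' : G) = q * (t : G) → (χ : T → ℂ) t' = (χ : T → ℂ) t) (hdeg : (Cfsg.charDegree (χ : T → ℂ)).factorization p + (Nat.card Q).factorization p = (Nat.card T).factorization p) : Cfsg.IsDefectGroup p M e ((Q ⊓ Subgroup.centralizer (Q : Set G)).subgroupOf (Subgroup.centralizer (Q : Set G))) ∧ ∀ R : Subgroup G, R ≤ T → IsPGroup p R → (∀ t ∈ T, t ∈ Subgroup.normalizer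 (R : Set G)) → R ≤ Q := by
  open Cfsg.Agent.Blocks Cfsg.Agent.BrauerPairs in
  classical
  have hQp : IsPGroup p Q := hQe.1.1
  have he : Cfsg.IsPBlock M e := hQe.1.2
  obtain rfl : T = pairStab M Q e := by
    ext y
    rw [hT y, mem_pairStab_iff hM he]
  have hTN := pairStab_le_normalizer (M := M) Q e
  have hQT := le_pairStab (M := M) Q e
  have hCT := centralizer_le_pairStab hM Q e
  have hQn : (Q.subgroupOf (pairStab M Q e)).Normal := ⟨fun q hq t =>
    (Subgroup.mem_normalizer_iff.1 (hTN t.2) (q : G)).1 hq⟩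
  have hCn : ((Subgroup.centralizer (Q : Set G)).subgroupOf (pairStab M Q e)).Normal :=
    ⟨fun q hq t =>
      (Subgroup.mem_normalizer_iff.1 (mem_normalizer_centralizer (hTN t.2)) (q : G)).1 hq⟩
  have htriv : ∀ q ∈ Q.subgroupOf (pairStab M Q e),
      (χ : pairStab M Q e → ℂ) q = (χ : pairStab M Q e → ℂ) 1 := fun q hq =>
    hχQ (q : G) hq 1 q (by rw [Subgroup.coe_one, mul_one])
  obtain ⟨φ, hφ⟩ := CentralChar.exists_deflation (Q.subgroupOf (pairStab M Q e)) χ htriv
  have := Fintype.ofFinite (pairStab M Q e)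
  have := Fintype.ofFinite (pairStab M Q e ⧸ Q.subgroupOf (pairStab M Q e))
  have hdeg1 : Cfsg.charDegree (φ : (pairStab M Q e ⧸ Q.subgroupOf (pairStab M Q e)) → ℂ) = Cfsg.charDegree (χ : pairStab M Q e → ℂ) := by
    apply Nat.cast_injective (R := ℂ)
    rw [charDegree_cast, charDegree_cast, hφ 1]
    rfl
  have hp : p.Prime := Fact.out
  have hvφ : (Cfsg.charDegree (φ : (pairStab M Q e ⧸ Q.subgroupOf (pairStab M Q e)) → ℂ)).factorization p =
      (Nat.card (pairStab M Q e ⧸ Q.subgroupOf (pairStab M Q e))).factorization p := by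
    have h := congrArg (fun k => Nat.factorization k p)
      (Subgroup.card_eq_card_quotient_mul_card_subgroup (Q.subgroupOf (pairStab M Q e)))
    simp only [Nat.factorization_mul Nat.card_pos.ne' Nat.card_pos.ne', Finsupp.coe_add,
      Pi.add_apply, Nat.card_congr (Subgroup.subgroupOfEquivOfLe hQT).toEquiv] at h
    rw [hdeg1]
    omega
  constructor
  · obtain ⟨π, hπ⟩ : ∃ π : Subgroup.centralizer (Q : Set G) →*
        pairStab M Q e ⧸ Q.subgroupOf (pairStab M Q e),
        π = (QuotientGroup.mk' _).comp (Subgroup.inclusion hCT) := ⟨_, rfl⟩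
    have hπx : ∀ x, π x = (Subgroup.inclusion hCT x :
        (pairStab M Q e ⧸ Q.subgroupOf (pairStab M Q e))) := fun x => by rw [hπ]; rfl
    have hrange : π.range.Normal := by
      have h : π.range = ((Subgroup.centralizer (Q : Set G)).subgroupOf (pairStab M Q e)).map
          (QuotientGroup.mk' (Q.subgroupOf (pairStab M Q e))) := by
        rw [hπ, MonoidHom.range_comp, Subgroup.inclusion_range]
      rw [h]
      exact hCn.map _ (QuotientGroup.mk'_surjective _)
    have := Fintype.ofFinite π.range
    obtain ⟨θ₁, hθ₁⟩ := BlocksNormal.exists_constituent π.range φ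
    have := Fintype.ofFinite (Subgroup.centralizer (Q : Set G))
    obtain ⟨θ, hθ⟩ : ∃ θ : Cfsg.IrrCharacter (Subgroup.centralizer (Q : Set G)),
        ∀ x, (θ : Subgroup.centralizer (Q : Set G) → ℂ) x = (θ₁ : π.range → ℂ) (π.rangeRestrict x) :=
      ⟨⟨_, Char.IsIrrCharacter.comp_surjective θ₁.2 π.rangeRestrict π.rangeRestrict_surjective⟩,
        fun _ => rfl⟩
    have hv : (Cfsg.charDegree (θ : Subgroup.centralizer (Q : Set G) → ℂ)).factorization p =
        ((Q ⊓ Subgroup.centralizer (Q : Set G)).subgroupOf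
          (Subgroup.centralizer (Q : Set G))).index.factorization p := by
      have hd : Cfsg.charDegree (θ : Subgroup.centralizer (Q : Set G) → ℂ) = Cfsg.charDegree (θ₁ : π.range → ℂ) := by
        apply Nat.cast_injective (R := ℂ)
        rw [charDegree_cast, charDegree_cast, hθ, map_one]
      have hker : π.ker =
          (Q ⊓ Subgroup.centralizer (Q : Set G)).subgroupOf (Subgroup.centralizer (Q : Set G)) := by
        ext x
        rw [hπ, MonoidHom.mem_ker, MonoidHom.comp_apply, QuotientGroup.mk'_apply,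
          QuotientGroup.eq_one_iff, Subgroup.mem_subgroupOf, Subgroup.mem_subgroupOf,
          Subgroup.coe_inclusion, Subgroup.mem_inf]
        exact ⟨fun h => ⟨h, x.2⟩, fun h => h.1⟩
      obtain ⟨hdvd, hidx⟩ := S0887.result π.range (φ : (pairStab M Q e ⧸ Q.subgroupOf (pairStab M Q e)) → ℂ) φ.2 (θ₁ : π.range → ℂ) θ₁.2 hθ₁
        _ _ (charDegree_cast φ).symm (charDegree_cast θ₁).symm
      rw [hd, ← hker, Subgroup.index_ker]
      refine le_antisymm ((Nat.factorization_le_iff_dvd (charDegree_pos θ₁).ne' Nat.card_pos.ne').2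
        (charDegree_dvd_card θ₁) p) ?_
      have h1 := (Nat.factorization_le_iff_dvd (Nat.div_pos (Nat.le_of_dvd (charDegree_pos φ) hdvd)
        (charDegree_pos θ₁)).ne' Subgroup.index_ne_zero_of_finite).2 hidx p
      rw [Nat.factorization_div hdvd, Finsupp.tsub_apply] at h1
      have h2 := congrArg (fun k => Nat.factorization k p) π.range.card_mul_index
      simp only [Nat.factorization_mul Nat.card_pos.ne' Subgroup.index_ne_zero_of_finite,
        Finsupp.coe_add, Pi.add_apply] at h2
      omega
    have hθe : θ ∈ e := by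
      let ψ := Subgroup.subgroupOfEquivOfLe hCT
      have := Fintype.ofFinite ((Subgroup.centralizer (Q : Set G)).subgroupOf (pairStab M Q e))
      have he' : bIdem M ((Subgroup.centralizer (Q : Set G)).subgroupOf (pairStab M Q e))
          (pullIrr ψ '' e) = blk M F' := by
        refine emb_injective (pairStab M Q e) ?_
        ext x
        by_cases hx : x ∈ pairStab M Q e
        · rw [show x = ((⟨x, hx⟩ : pairStab M Q e) : G) from rfl, coeff_emb_coe, coeff_emb_coe,
            coeff_bIdem hM, blk, coeff_red, hF'e]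
          congr 1
          simp only [Cfsg.subgroupBlockCoeff]
          by_cases hxC : x ∈ Subgroup.centralizer (Q : Set G)
          · rw [dif_pos (show (⟨x, hx⟩ : pairStab M Q e) ∈
              (Subgroup.centralizer (Q : Set G)).subgroupOf (pairStab M Q e) from hxC),
              dif_pos hxC, blockCoeff_image]
            rfl
          · rw [dif_neg (show (⟨x, hx⟩ : pairStab M Q e) ∉
              (Subgroup.centralizer (Q : Set G)).subgroupOf (pairStab M Q e) from hxC),
              dif_neg hxC]
        · rw [suppIn_emb _ _ x hx, suppIn_emb _ _ x hx]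
      have hcon : Cfsg.classInner (fun n : (Subgroup.centralizer (Q : Set G)).subgroupOf
          (pairStab M Q e) => (χ : pairStab M Q e → ℂ) n) (pullIrr ψ θ : _ → ℂ) ≠ 0 := by
        intro h0
        refine hθ₁ ?_
        have e1 : Cfsg.classInner (fun x : Subgroup.centralizer (Q : Set G) =>
            (χ : pairStab M Q e → ℂ) (Subgroup.inclusion hCT x)) (θ : Subgroup.centralizer (Q : Set G) → ℂ) = 0 := by
          rw [← Char.classInner_comp_equiv ψ, ← h0]
          rfl
        rw [Cfsg.classInner] at e1 ⊢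
        have hsum : ∑ x : Subgroup.centralizer (Q : Set G),
            (χ : pairStab M Q e → ℂ) (Subgroup.inclusion hCT x) * (starRingEnd ℂ) ((θ : Subgroup.centralizer (Q : Set G) → ℂ) x) =
            (Nat.card π.ker : ℂ) * ∑ y : π.range,
              (φ : (pairStab M Q e ⧸ Q.subgroupOf (pairStab M Q e)) → ℂ) y * (starRingEnd ℂ) ((θ₁ : π.range → ℂ) y) := by
          rw [← Finset.sum_fiberwise Finset.univ π.rangeRestrict, Finset.mul_sum]
          refine Finset.sum_congr rfl fun y _ => ?_
          obtain ⟨x₀, rfl⟩ := π.rangeRestrict_surjective y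
          rw [Finset.sum_congr rfl (g := fun _ => (φ : (pairStab M Q e ⧸ Q.subgroupOf (pairStab M Q e)) → ℂ) (π x₀) *
            (starRingEnd ℂ) ((θ₁ : π.range → ℂ) (π.rangeRestrict x₀))) fun x hx => ?_,
            Finset.sum_const, nsmul_eq_mul]
          · congr 2
            rw [Nat.card_eq_fintype_card, ← Fintype.card_coe]
            exact Fintype.card_congr
              { toFun := fun x => ⟨x₀⁻¹ * x.1, by
                  rw [MonoidHom.mem_ker, map_mul, map_inv, inv_mul_eq_one]
                  exact congrArg Subtype.val (Finset.mem_filter.1 x.2).2.symm⟩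
                invFun := fun k => ⟨x₀ * k.1, Finset.mem_filter.2 ⟨Finset.mem_univ _,
                  Subtype.ext (by
                    show π (x₀ * k.1) = π x₀
                    rw [map_mul, (MonoidHom.mem_ker).1 k.2, mul_one])⟩⟩
                left_inv := fun x => Subtype.ext (mul_inv_cancel_left _ _)
                right_inv := fun k => Subtype.ext (inv_mul_cancel_left _ _) }
          · have hx' := (Finset.mem_filter.1 hx).2
            rw [hθ x, hx', hφ, show (φ : (pairStab M Q e ⧸ Q.subgroupOf (pairStab M Q e)) → ℂ) (π x₀) = (φ : (pairStab M Q e ⧸ Q.subgroupOf (pairStab M Q e)) → ℂ) (π x) from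
              congrArg _ (congrArg Subtype.val hx').symm, hπx]
        rw [hsum] at e1
        rcases mul_eq_zero.1 e1 with h | h
        · exact absurd h (inv_ne_zero (Nat.cast_ne_zero.2 Nat.card_pos.ne'))
        · rcases mul_eq_zero.1 h with h | h
          · exact absurd h (Nat.cast_ne_zero.2 Nat.card_pos.ne')
          · rw [h, mul_zero]
      have hb : Cfsg.IsPBlock M (Cfsg.blockOf M ((pullIrr ψ θ : Cfsg.IrrCharacter _) : (Subgroup.centralizer (Q : Set G)).subgroupOf (pairStab M Q e) → ℂ)) :=
        ⟨pullIrr ψ θ, rfl⟩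
      have hne := mul_ne_zero_of_covers hM _ hF' hb
        ⟨χ, hχ, _, mem_blockOf_self hM _, hcon⟩
      rw [← he'] at hne
      have heq : pullIrr ψ '' e = Cfsg.blockOf M ((pullIrr ψ θ : Cfsg.IrrCharacter _) : (Subgroup.centralizer (Q : Set G)).subgroupOf (pairStab M Q e) → ℂ) := by
        by_contra hcontra
        exact hne (bIdem_mul_of_ne hM (isPBlock_image ψ he) hb hcontra)
      obtain ⟨θ', hθ', heq'⟩ : pullIrr ψ θ ∈ pullIrr ψ '' e := heq ▸ mem_blockOf_self hM _
      have : θ' = θ := Subtype.ext (funext fun x => by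
        have h := congrFun (congrArg Subtype.val heq') (ψ.symm x)
        rwa [pullIrr_apply, pullIrr_apply, ψ.apply_symm_apply] at h)
      exact this ▸ hθ'
    rw [isPBlock_eq_blockOf hM he hθe]
    refine BlocksNormal.isDefectGroup_central hM
      ((hQp.to_le inf_le_left).of_equiv (Subgroup.subgroupOfEquivOfLe inf_le_right).symm) ?_ θ hv
    intro z hz
    rw [Subgroup.mem_center_iff]
    intro x
    exact Subtype.ext (Subgroup.mem_centralizer_iff.1 x.2 (z : G) hz.1).symm
  · intro R hRT hR hRn
    have hRn' : (R.subgroupOf (pairStab M Q e)).Normal := ⟨fun r hr t =>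
      (Subgroup.mem_normalizer_iff.1 (hRn t t.2) (r : G)).1 hr⟩
    have hn := hRn'.map (QuotientGroup.mk' (Q.subgroupOf (pairStab M Q e)))
      (QuotientGroup.mk'_surjective _)
    have hb : Cfsg.IsPBlock M (Cfsg.blockOf M (φ : (pairStab M Q e ⧸ Q.subgroupOf (pairStab M Q e)) → ℂ)) := ⟨φ, rfl⟩
    obtain ⟨D, hD⟩ := exists_isDefectGroup (p := p) hM hb
    have hle := normal_le_defectGroup hM ((hR.of_equiv
      (Subgroup.subgroupOfEquivOfLe hRT).symm).map (QuotientGroup.mk' (Q.subgroupOf (pairStab M Q e)))) hb hD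
    have hd0 : Cfsg.blockDefect p (Cfsg.blockOf M (φ : (pairStab M Q e ⧸ Q.subgroupOf (pairStab M Q e)) → ℂ)) = 0 := by
      have hsing : Cfsg.blockOf M (φ : (pairStab M Q e ⧸ Q.subgroupOf (pairStab M Q e)) → ℂ) = {φ} := by
        refine (singleton_iff_not_dvd hM φ).1 fun hdvd => ?_
        have h := (hp.dvd_iff_one_le_factorization (Nat.div_pos (Nat.le_of_dvd Nat.card_pos
          (charDegree_dvd_card φ)) (charDegree_pos φ)).ne').1 hdvd
        rw [Nat.factorization_div (charDegree_dvd_card φ), Finsupp.tsub_apply, hvφ] at h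
        omega
      rw [Cfsg.blockDefect, hsing, Set.image_singleton, csInf_singleton, hvφ, Nat.sub_self]
    have hD1 := card_defectGroup hM hb hD
    rw [hd0, pow_zero] at hD1
    rw [Subgroup.eq_bot_of_card_eq D hD1, le_bot_iff, Subgroup.map_eq_bot_iff,
      QuotientGroup.ker_mk'] at hle
    intro r hr
    exact hle (show (⟨r, hRT hr⟩ : pairStab M Q e) ∈ R.subgroupOf _ from hr)

end Cfsg.Agent.S4694
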