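import Cfsg.Statements.S4702
import Cfsg.Agent.EqLemmas

set_option autoImplicit false
set_option linter.all false
open Cfsg

namespace Cfsg.Agent.S4702

section

variable {α : Type*} [Fintype α] [DecidableEq α]

/-- sharply 3-transitive on a set of odd size, with three chosen points -/
structure Setup (G : Subgroup (Equiv.Perm α)) where
  ω : α
  o : α
  e : α
  hωo : ω ≠ o
  hωe : ω ≠ e
  hoe : o ≠ e
  odd : Odd (Fintype.card α)
  ex : ∀ a b c x y z : α, a ≠ b → a ≠ c → b ≠ c → x ≠ y → x ≠ z → y ≠ z →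
    ∃ g ∈ G, g a = x ∧ g b = y ∧ g c = z
  uniq : ∀ g ∈ G, ∀ a b c : α, a ≠ b → a ≠ c → b ≠ c → g a = a → g b = b → g c = c → g = 1

namespace Setup

variable {G : Subgroup (Equiv.Perm α)} (S : Setup G)

include S

/-- the points different from ω -/
abbrev K : Type _ := {x : α // x ≠ S.ω}

theorem eq_of_three {g h : Equiv.Perm α} (hg : g ∈ G) (hh : h ∈ G) {a b c : α}
    (hab : a ≠ b) (hac : a ≠ c) (hbc : b ≠ c) (h1 : g a = h a) (h2 : g b = h b) (h3 : g c = h c) :
    g = h := by
  have := S.uniq (h⁻¹ * g) (G.mul_mem (G.inv_mem hh) hg) a b c hab hac hbc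
    (by simp [h1]) (by simp [h2]) (by simp [h3])
  rw [inv_mul_eq_one] at this
  exact this.symm

theorem invol_fix {g : Equiv.Perm α} (hg : g ∈ G) (h1 : g ≠ 1) (h2 : g * g = 1) :
    ∃! x, g x = x := by
  classical
  have hpar := Equiv.Perm.card_fixedPoints_modEq (p := 2) (n := 1) (f := (g : α → α)) (by
    funext x
    exact congrArg (fun f : Equiv.Perm α => f x) h2)
  set F := (Finset.univ : Finset α).filter (fun x => g x = x) with hF
  have hcard : Fintype.card (Function.fixedPoints (g : α → α)) = F.card := by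
    rw [hF, ← Fintype.card_subtype]
    rfl
  rw [hcard] at hpar
  have hle : F.card ≤ 2 := by
    by_contra hlt
    obtain ⟨a, b, c, ha, hb, hc, hab, hac, hbc⟩ := Finset.two_lt_card_iff.1 (not_le.1 hlt)
    simp only [hF, Finset.mem_filter, Finset.mem_univ, true_and] at ha hb hc
    exact h1 (S.uniq g hg a b c hab hac hbc ha hb hc)
  have hodd := Nat.odd_iff.1 S.odd
  unfold Nat.ModEq at hpar
  have h : F.card = 1 := by omega
  obtain ⟨x, hx⟩ := Finset.card_eq_one.1 h
  refine ⟨x, ?_, fun y hy => ?_⟩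
  · have : x ∈ F := by simp [hx]
    simpa [hF] using this
  · have : y ∈ F := by simpa [hF] using hy
    simpa [hx] using this

/-- membership of the set N: trivial or an involution fixing ω -/
def InN (g : Equiv.Perm α) : Prop := g ∈ G ∧ g S.ω = S.ω ∧ g * g = 1

theorem inN_one : S.InN 1 := ⟨G.one_mem, rfl, by simp⟩

theorem inN_fix {g : Equiv.Perm α} (hg : S.InN g) {x : α} (hx : x ≠ S.ω) (hfx : g x = x) :
    g = 1 := by
  by_contra h
  exact hx ((S.invol_fix hg.1 h hg.2.2).unique hfx hg.2.1)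

theorem exists_inN {a b : α} (ha : a ≠ S.ω) (hb : b ≠ S.ω) : ∃ g, S.InN g ∧ g a = b := by
  rcases eq_or_ne a b with rfl | hab
  · exact ⟨1, S.inN_one, rfl⟩
  · obtain ⟨g, hg, h1, h2, h3⟩ := S.ex S.ω a b S.ω b a ha.symm hb.symm hab hb.symm ha.symm hab.symm
    exact ⟨g, ⟨hg, h1, S.uniq _ (G.mul_mem hg hg) S.ω a b ha.symm hb.symm hab
      (by simp [h1]) (by simp [h2, h3]) (by simp [h2, h3])⟩, h2⟩

theorem inN_unique {g h : Equiv.Perm α} (hg : S.InN g) (hh : S.InN h) {a : α} (ha : a ≠ S.ω)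
    (he : g a = h a) : g = h := by
  by_cases hb : g a = a
  · rw [S.inN_fix hg ha hb, S.inN_fix hh ha (he ▸ hb)]
  · have hgg : g (g a) = a := congrArg (fun f : Equiv.Perm α => f a) hg.2.2
    have hhh : h (h a) = a := congrArg (fun f : Equiv.Perm α => f a) hh.2.2
    have hne : g a ≠ S.ω := by
      intro h'
      exact ha (g.injective (h'.trans hg.2.1.symm))
    refine S.eq_of_three hg.1 hh.1 ha.symm hne.symm (Ne.symm hb) (hg.2.1.trans hh.2.1.symm) he ?_
    rw [hgg, he, hhh]

theorem fix_card_le {g : Equiv.Perm α} (hg : g ∈ G) (hω : g S.ω = S.ω) (h1 : g ≠ 1) {x y : α}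
    (hx : x ≠ S.ω) (hy : y ≠ S.ω) (hgx : g x = x) (hgy : g y = y) : x = y := by
  by_contra hxy
  exact h1 (S.uniq g hg S.ω x y hx.symm hy.symm hxy hω hgx hgy)

/-- fixed-point-free elements of the stabiliser of ω are involutions -/
theorem inN_of_free {g : Equiv.Perm α} (hg : g ∈ G) (hω : g S.ω = S.ω)
    (hfree : ∀ x, x ≠ S.ω → g x ≠ x) : S.InN g := by
  classical
  set A := (Finset.univ : Finset (Equiv.Perm α)).filter (fun f => f ∈ G ∧ f S.ω = S.ω) with hA
  have hAmem : ∀ f, f ∈ A ↔ f ∈ G ∧ f S.ω = S.ω := fun f => by simp [hA]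
  set m := Fintype.card S.K with hm
  have hm0 : 0 < m := Fintype.card_pos_iff.2 ⟨⟨S.o, S.hωo.symm⟩⟩
  -- |A| = m (m - 1)
  have hAcard : A.card = m * m - m := by
    have hoff : A.card = (Finset.univ : Finset S.K).offDiag.card := by
      refine Finset.card_bij
        (fun f hf => ((⟨f S.o, fun h => S.hωo ((f.injective (h.trans ((hAmem f).1 hf).2.symm)).symm)⟩,
          ⟨f S.e, fun h => S.hωe ((f.injective (h.trans ((hAmem f).1 hf).2.symm)).symm)⟩) : S.K × S.K))
        ?_ ?_ ?_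
      · intro f hf
        simp [Subtype.ext_iff, S.hoe]
      · intro f hf f' hf' h
        simp only [Prod.mk.injEq, Subtype.mk.injEq] at h
        exact S.eq_of_three ((hAmem f).1 hf).1 ((hAmem f').1 hf').1 S.hωo S.hωe S.hoe
          (((hAmem f).1 hf).2.trans ((hAmem f').1 hf').2.symm) h.1 h.2
      · rintro ⟨⟨a, ha⟩, ⟨b, hb⟩⟩ hab
        simp only [Finset.mem_offDiag, Finset.mem_univ, ne_eq, Subtype.mk.injEq, true_and] at hab
        obtain ⟨f, hf, h1, h2, h3⟩ := S.ex S.ω S.o S.e S.ω a b S.hωo S.hωe S.hoe ha.symm hb.symm hab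
        exact ⟨f, (hAmem f).2 ⟨hf, h1⟩, by simp [h2, h3]⟩
    rw [hoff, Finset.offDiag_card, Finset.card_univ]
  -- every point stabiliser in A has m - 1 elements
  have hstab : ∀ x : S.K, (A.filter (fun f => f x.1 = x.1)).card = m - 1 := by
    intro x
    obtain ⟨x', hx'⟩ : ∃ x' : S.K, x' ≠ x := by
      by_cases h : x.1 = S.o
      · exact ⟨⟨S.e, S.hωe.symm⟩, fun h' => S.hoe (h.symm.trans (congrArg Subtype.val h').symm)⟩
      · exact ⟨⟨S.o, S.hωo.symm⟩, fun h' => h (congrArg Subtype.val h').symm⟩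
    have hne : x.1 ≠ x'.1 := fun h => hx' (Subtype.ext h.symm)
    have : (A.filter (fun f => f x.1 = x.1)).card = ((Finset.univ : Finset S.K).erase x).card := by
      refine Finset.card_bij
        (fun f hf => (⟨f x'.1, fun h => x'.2 (f.injective (h.trans
          ((hAmem f).1 (Finset.mem_filter.1 hf).1).2.symm))⟩ : S.K)) ?_ ?_ ?_
      · intro f hf
        simp only [Finset.mem_filter] at hf
        simp only [Finset.mem_erase, Finset.mem_univ, and_true, ne_eq, Subtype.ext_iff]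
        intro h
        exact hne (f.injective (h.trans hf.2.symm)).symm
      · intro f hf f' hf' h
        simp only [Finset.mem_filter] at hf hf'
        exact S.eq_of_three ((hAmem f).1 hf.1).1 ((hAmem f').1 hf'.1).1 x.2.symm x'.2.symm hne
          (((hAmem f).1 hf.1).2.trans ((hAmem f').1 hf'.1).2.symm) (hf.2.trans hf'.2.symm)
          (congrArg Subtype.val h)
      · intro y hy
        simp only [Finset.mem_erase, Finset.mem_univ, and_true, ne_eq, Subtype.ext_iff] at hy
        obtain ⟨f, hf, h1, h2, h3⟩ := S.ex S.ω x.1 x'.1 S.ω x.1 y.1 x.2.symm x'.2.symm hne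
          x.2.symm y.2.symm (Ne.symm hy)
        exact ⟨f, Finset.mem_filter.2 ⟨(hAmem f).2 ⟨hf, h1⟩, h2⟩, Subtype.ext h3⟩
    rw [this, Finset.card_erase_of_mem (Finset.mem_univ _), Finset.card_univ]
  -- the sum of (fixed points - 1) over A is zero
  let fx : Equiv.Perm α → ℕ := fun f => ((Finset.univ : Finset S.K).filter (fun x => f x.1 = x.1)).card
  have hsum : ∑ f ∈ A, fx f = A.card := by
    simp only [fx, Finset.card_filter]
    rw [Finset.sum_comm]
    simp only [← Finset.card_filter, hstab, Finset.sum_const, Finset.card_univ, smul_eq_mul]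
    rw [hAcard, ← hm, Nat.mul_sub_one]
  set Fr := A.filter (fun f => fx f = 0) with hFr
  have h1A : (1 : Equiv.Perm α) ∈ A := (hAmem 1).2 ⟨G.one_mem, rfl⟩
  have hFrcard : Fr.card = m - 1 := by
    have hpt : ∀ f ∈ A.erase 1, fx f + (if fx f = 0 then 1 else 0) = 1 := by
      intro f hf
      rw [Finset.mem_erase] at hf
      have : fx f ≤ 1 := Finset.card_le_one.2 fun x hx y hy => Subtype.ext
        (S.fix_card_le ((hAmem f).1 hf.2).1 ((hAmem f).1 hf.2).2 hf.1 x.2 y.2
          (Finset.mem_filter.1 hx).2 (Finset.mem_filter.1 hy).2)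
      split_ifs <;> omega
    have h := Finset.sum_congr rfl hpt
    rw [Finset.sum_add_distrib, ← Finset.card_filter, Finset.sum_const, smul_eq_mul, mul_one] at h
    have hfx1 : fx 1 = m := by simp [fx, hm]
    have hsplit := Finset.add_sum_erase A fx h1A
    have hFr' : (A.erase 1).filter (fun f => fx f = 0) = Fr := by
      rw [Finset.filter_erase, Finset.erase_eq_of_notMem]
      simp [hfx1]
      omega
    rw [hFr'] at h
    rw [Finset.card_erase_of_mem h1A] at h
    have : 0 < A.card := Finset.card_pos.2 ⟨1, h1A⟩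
    omega
  -- the involutions exhaust the fixed-point-free elements
  have hN : ∀ x : S.K, ∃ f, S.InN f ∧ f S.o = x.1 := fun x => S.exists_inN S.hωo.symm x.2
  choose ν hν hν' using hN
  set o' : S.K := ⟨S.o, S.hωo.symm⟩ with ho'
  set I := ((Finset.univ : Finset S.K).erase o').image ν with hI
  have hIsub : I ⊆ Fr := by
    intro f hf
    rw [hI, Finset.mem_image] at hf
    obtain ⟨x, hx, rfl⟩ := hf
    refine Finset.mem_filter.2 ⟨(hAmem _).2 ⟨(hν x).1, (hν x).2.1⟩, ?_⟩
    simp only [fx, Finset.card_eq_zero, Finset.filter_eq_empty_iff, Finset.mem_univ, true_implies]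
    intro y hy
    have h := hν' x
    rw [S.inN_fix (hν x) y.2 hy, Equiv.Perm.one_apply] at h
    exact (Finset.mem_erase.1 hx).1 (Subtype.ext h.symm)
  have hIcard : I.card = m - 1 := by
    rw [hI, Finset.card_image_of_injective, Finset.card_erase_of_mem (Finset.mem_univ _),
      Finset.card_univ]
    intro x y h
    exact Subtype.ext (by rw [← hν' x, h, hν' y])
  have hgFr : g ∈ Fr := by
    refine Finset.mem_filter.2 ⟨(hAmem g).2 ⟨hg, hω⟩, ?_⟩
    simp only [fx, Finset.card_eq_zero, Finset.filter_eq_empty_iff, Finset.mem_univ, true_implies]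
    exact fun y hy => hfree y.1 y.2 hy
  rw [← Finset.eq_of_subset_of_card_le hIsub (by rw [hIcard, hFrcard]), hI, Finset.mem_image] at hgFr
  obtain ⟨x, -, rfl⟩ := hgFr
  exact hν x

theorem inN_mul {g h : Equiv.Perm α} (hg : S.InN g) (hh : S.InN h) : S.InN (g * h) := by
  have hω : (g * h) S.ω = S.ω := by simp [hh.2.1, hg.2.1]
  by_cases hfree : ∀ x, x ≠ S.ω → (g * h) x ≠ x
  · exact S.inN_of_free (G.mul_mem hg.1 hh.1) hω hfree
  · push Not at hfree
    obtain ⟨x, hx, hfx⟩ := hfree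
    rw [Equiv.Perm.mul_apply] at hfx
    have hgg : g (g x) = x := congrArg (fun f : Equiv.Perm α => f x) hg.2.2
    have : g x = h x := g.injective (hgg.trans hfx.symm)
    rw [S.inN_unique hg hh hx this, hh.2.2]
    exact S.inN_one

theorem inN_conj {g h : Equiv.Perm α} (hg : S.InN g) (hh : h ∈ G) (hω : h S.ω = S.ω) :
    S.InN (h * g * h⁻¹) := by
  have hω' : h⁻¹ S.ω = S.ω := by rw [Equiv.Perm.inv_eq_iff_eq, hω]
  refine ⟨G.mul_mem (G.mul_mem hh hg.1) (G.inv_mem hh), ?_, ?_⟩
  · simp only [Equiv.Perm.mul_apply, hω', hg.2.1, hω]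
  · have : h * g * h⁻¹ * (h * g * h⁻¹) = h * (g * g) * h⁻¹ := by group
    rw [this, hg.2.2, mul_one, mul_inv_cancel]

theorem inN_comm {g h : Equiv.Perm α} (hg : S.InN g) (hh : S.InN h) : g * h = h * g := by
  have e := (S.inN_mul hg hh).2.2
  have hgi : g⁻¹ = g := inv_eq_of_mul_eq_one_right hg.2.2
  have hhi : h⁻¹ = h := inv_eq_of_mul_eq_one_right hh.2.2
  calc g * h = (g * h)⁻¹ := (inv_eq_of_mul_eq_one_right e).symm
    _ = h * g := by rw [mul_inv_rev, hgi, hhi]

/-- elements fixing ω and o -/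
def H : Subgroup (Equiv.Perm α) := G ⊓ MulAction.stabilizer _ S.ω ⊓ MulAction.stabilizer _ S.o

theorem mem_H {h : Equiv.Perm α} : h ∈ S.H ↔ h ∈ G ∧ h S.ω = S.ω ∧ h S.o = S.o := by
  simp [H, and_assoc, Equiv.Perm.smul_def]

theorem exists_t : ∃ t ∈ G, t S.ω = S.o ∧ t S.o = S.ω ∧ t S.e = S.e ∧ t * t = 1 ∧
    ∀ x, t x = x → x = S.e := by
  obtain ⟨t, ht, h1, h2, h3⟩ := S.ex S.ω S.o S.e S.o S.ω S.e S.hωo S.hωe S.hoe S.hωo.symm S.hoe S.hωe
  have htt : t * t = 1 := S.uniq _ (G.mul_mem ht ht) S.ω S.o S.e S.hωo S.hωe S.hoe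
    (by simp [h1, h2]) (by simp [h1, h2]) (by simp [h3])
  have hne : t ≠ 1 := by rintro rfl; exact S.hωo h1
  exact ⟨t, ht, h1, h2, h3, htt, fun x hx => (S.invol_fix ht hne htt).unique hx h3⟩

theorem H_data : (∀ g ∈ S.H, ∀ h ∈ S.H, g * h = h * g) ∧
    ∃ t ∈ G, t S.ω = S.o ∧ t S.o = S.ω ∧ t S.e = S.e ∧ t * t = 1 ∧
      ∀ h ∈ S.H, t * h * t = h⁻¹ := by
  obtain ⟨t, ht, h1, h2, h3, htt, hfix⟩ := S.exists_t
  have hcl : ∀ h ∈ S.H, t * h * t ∈ S.H := by
    intro h hh
    rw [S.mem_H] at hh ⊢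
    exact ⟨G.mul_mem (G.mul_mem ht hh.1) ht, by simp [h1, hh.2.2, h2], by simp [h2, hh.2.1, h1]⟩
  let φ : S.H →* S.H :=
    MonoidHom.mk' (fun h => ⟨t * h.1 * t, hcl h.1 h.2⟩) (fun a b => by
      apply Subtype.ext
      have : t * a.1 * t * (t * b.1 * t) = t * a.1 * (t * t) * b.1 * t := by group
      simp only [Subgroup.coe_mul, this, htt, mul_one]
      group)
  have hinv : Function.Involutive φ := by
    intro h
    apply Subtype.ext
    have : t * (t * h.1 * t) * t = (t * t) * h.1 * (t * t) := by group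
    simp [φ, this, htt]
  have hφ : MonoidHom.FixedPointFree φ := by
    intro h hh
    have e : t * h.1 * t = h.1 := congrArg Subtype.val hh
    have hm := S.mem_H.1 h.2
    have hte : t (h.1 S.e) = h.1 S.e := by
      conv_rhs => rw [← e]
      simp [h3]
    exact Subtype.ext (S.uniq h.1 hm.1 S.ω S.o S.e S.hωo S.hωe S.hoe hm.2.1 hm.2.2 (hfix _ hte))
  refine ⟨fun g hg h hh => congrArg Subtype.val (hφ.commute_all_of_involutive hinv ⟨g, hg⟩ ⟨h, hh⟩),
    t, ht, h1, h2, h3, htt, fun h hh => ?_⟩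
  exact congrArg Subtype.val (congrFun (hφ.coe_eq_inv_of_involutive hinv) ⟨h, hh⟩)

theorem exists_H {a : α} (ha : a ≠ S.ω) (hao : a ≠ S.o) : ∃ h ∈ S.H, h S.e = a := by
  obtain ⟨f, hf, h1, h2, h3⟩ := S.ex S.ω S.o S.e S.ω S.o a S.hωo S.hωe S.hoe S.hωo ha.symm hao.symm
  exact ⟨f, S.mem_H.2 ⟨hf, h1, h2⟩, h3⟩

theorem H_unique {g h : Equiv.Perm α} (hg : g ∈ S.H) (hh : h ∈ S.H) (he : g S.e = h S.e) :
    g = h := by
  rw [S.mem_H] at hg hh
  exact S.eq_of_three hg.1 hh.1 S.hωo S.hωe S.hoe (hg.2.1.trans hh.2.1.symm)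
    (hg.2.2.trans hh.2.2.symm) he

theorem K_apply {g : Equiv.Perm α} (hω : g S.ω = S.ω) (x : S.K) : g x.1 ≠ S.ω :=
  fun h => x.2 (g.injective (h.trans hω.symm))

/-- the translation by x -/
noncomputable def tr (x : S.K) : Equiv.Perm α :=
  (S.exists_inN (S.hωo.symm) x.2).choose

theorem tr_mem (x : S.K) : S.InN (S.tr x) := (S.exists_inN (S.hωo.symm) x.2).choose_spec.1

theorem tr_o (x : S.K) : S.tr x S.o = x.1 := (S.exists_inN (S.hωo.symm) x.2).choose_spec.2

open scoped Classical in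
/-- the multiplication by x, for x different from o -/
noncomputable def mu (x : S.K) : Equiv.Perm α :=
  if h : x.1 = S.o then 1 else (S.exists_H x.2 h).choose

theorem mu_mem (x : S.K) : S.mu x ∈ S.H := by
  unfold mu
  split_ifs with h
  · exact S.H.one_mem
  · exact (S.exists_H x.2 h).choose_spec.1

theorem mu_e {x : S.K} (h : x.1 ≠ S.o) : S.mu x S.e = x.1 := by
  rw [mu, dif_neg h]
  exact (S.exists_H x.2 h).choose_spec.2

noncomputable instance : Zero S.K := ⟨⟨S.o, S.hωo.symm⟩⟩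
noncomputable instance : One S.K := ⟨⟨S.e, S.hωe.symm⟩⟩
noncomputable instance : Neg S.K := ⟨fun x => x⟩
noncomputable instance : Add S.K := ⟨fun x y => ⟨S.tr x y.1, S.K_apply (S.tr_mem x).2.1 y⟩⟩
open scoped Classical in
noncomputable instance : Mul S.K :=
  ⟨fun x y => if x = 0 then 0 else ⟨S.mu x y.1, S.K_apply (S.mem_H.1 (S.mu_mem x)).2.1 y⟩⟩

theorem zero_val : (0 : S.K).1 = S.o := rfl
theorem one_val : (1 : S.K).1 = S.e := rfl
theorem add_val (x y : S.K) : (x + y).1 = S.tr x y.1 := rfl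
theorem mul_val {x : S.K} (hx : x ≠ 0) (y : S.K) : (x * y).1 = S.mu x y.1 := by
  show (if x = 0 then (0 : S.K) else _).1 = _
  rw [if_neg hx]
theorem zero_mul' (y : S.K) : (0 : S.K) * y = 0 := if_pos rfl

theorem ne_zero_iff {x : S.K} : x ≠ 0 ↔ x.1 ≠ S.o := by
  rw [ne_eq, Subtype.ext_iff, zero_val]

theorem mul_ne_zero' {x y : S.K} (hx : x ≠ 0) (hy : y ≠ 0) : x * y ≠ 0 := by
  rw [ne_zero_iff, mul_val S hx]
  intro h
  exact S.ne_zero_iff.1 hy ((S.mu x).injective (h.trans (S.mem_H.1 (S.mu_mem x)).2.2.symm))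

theorem tr_add (x y : S.K) : S.tr (x + y) = S.tr x * S.tr y :=
  S.inN_unique (S.tr_mem _) (S.inN_mul (S.tr_mem x) (S.tr_mem y)) S.hωo.symm (by
    rw [S.tr_o, S.add_val, Equiv.Perm.mul_apply, S.tr_o])

theorem tr_zero : S.tr 0 = 1 :=
  S.inN_fix (S.tr_mem _) S.hωo.symm (S.tr_o 0)

theorem mu_mul {x y : S.K} (hx : x ≠ 0) (hy : y ≠ 0) : S.mu (x * y) = S.mu x * S.mu y :=
  S.H_unique (S.mu_mem _) (S.H.mul_mem (S.mu_mem x) (S.mu_mem y)) (by
    rw [S.mu_e (S.ne_zero_iff.1 (S.mul_ne_zero' hx hy)), S.mul_val hx, Equiv.Perm.mul_apply,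
      S.mu_e (S.ne_zero_iff.1 hy)])

theorem mul_zero' (x : S.K) : x * 0 = 0 := by
  rcases eq_or_ne x 0 with rfl | hx
  · exact S.zero_mul' _
  · exact Subtype.ext ((S.mul_val hx 0).trans (S.mem_H.1 (S.mu_mem x)).2.2)

theorem mul_comm' (x y : S.K) : x * y = y * x := by
  rcases eq_or_ne x 0 with rfl | hx
  · rw [S.zero_mul', S.mul_zero']
  rcases eq_or_ne y 0 with rfl | hy
  · rw [S.zero_mul', S.mul_zero']
  apply Subtype.ext
  have h := congrArg (fun f : Equiv.Perm α => f S.e) (S.H_data.1 _ (S.mu_mem x) _ (S.mu_mem y))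
  simp only [Equiv.Perm.mul_apply, S.mu_e (S.ne_zero_iff.1 hx), S.mu_e (S.ne_zero_iff.1 hy)] at h
  rw [S.mul_val hx, S.mul_val hy, h]

theorem left_distrib' (x y z : S.K) : x * (y + z) = x * y + x * z := by
  rcases eq_or_ne x 0 with rfl | hx
  · simp only [S.zero_mul']
    exact Subtype.ext (by rw [S.add_val, S.tr_zero]; rfl)
  have hH := S.mem_H.1 (S.mu_mem x)
  have hfix : (S.mu x)⁻¹ S.o = S.o := by rw [Equiv.Perm.inv_eq_iff_eq, hH.2.2]
  have key : S.tr (x * y) = S.mu x * S.tr y * (S.mu x)⁻¹ :=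
    S.inN_unique (S.tr_mem _) (S.inN_conj (S.tr_mem y) hH.1 hH.2.1) S.hωo.symm (by
      rw [S.tr_o, S.mul_val hx]
      simp only [Equiv.Perm.mul_apply, hfix, S.tr_o])
  apply Subtype.ext
  rw [S.mul_val hx, S.add_val, S.add_val, key, S.mul_val hx]
  simp

instance : NoZeroDivisors S.K where
  eq_zero_or_eq_zero_of_mul_eq_zero h := by
    by_contra hne
    push Not at hne
    exact S.mul_ne_zero' hne.1 hne.2 h

theorem one_ne_zero' : (1 : S.K) ≠ 0 := S.ne_zero_iff.2 S.hoe.symm

noncomputable instance instCommRing : CommRing S.K where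
  add_assoc x y z := Subtype.ext (by
    show S.tr (x + y) z.1 = S.tr x (S.tr y z.1)
    rw [S.tr_add, Equiv.Perm.mul_apply])
  zero_add x := Subtype.ext (by rw [S.add_val, S.tr_zero]; rfl)
  add_zero x := Subtype.ext (S.tr_o x)
  add_comm x y := Subtype.ext (by
    rw [S.add_val, S.add_val, ← S.tr_o y, ← S.tr_o x, ← Equiv.Perm.mul_apply,
      ← Equiv.Perm.mul_apply, S.inN_comm (S.tr_mem x) (S.tr_mem y)])
  neg_add_cancel x := Subtype.ext (by
    show S.tr x x.1 = S.o
    conv_lhs => arg 2; rw [← S.tr_o x]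
    rw [← Equiv.Perm.mul_apply, (S.tr_mem x).2.2, Equiv.Perm.one_apply])
  nsmul := nsmulRec
  zsmul := zsmulRec
  mul_assoc x y z := by
    rcases eq_or_ne x 0 with rfl | hx
    · simp only [S.zero_mul']
    rcases eq_or_ne y 0 with rfl | hy
    · simp only [S.zero_mul', S.mul_zero']
    apply Subtype.ext
    rw [S.mul_val (S.mul_ne_zero' hx hy), S.mul_val hx, S.mul_val hy, S.mu_mul hx hy,
      Equiv.Perm.mul_apply]
  one_mul x := Subtype.ext (by
    rw [S.mul_val S.one_ne_zero']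
    have : S.mu 1 = 1 := S.H_unique (S.mu_mem _) S.H.one_mem (S.mu_e S.hoe.symm)
    rw [this]; rfl)
  mul_one x := by
    rcases eq_or_ne x 0 with rfl | hx
    · exact S.zero_mul' _
    exact Subtype.ext (by rw [S.mul_val hx, S.one_val, S.mu_e (S.ne_zero_iff.1 hx)])
  zero_mul := S.zero_mul'
  mul_zero := S.mul_zero'
  mul_comm := S.mul_comm'
  left_distrib := S.left_distrib'
  right_distrib x y z := by
    rw [S.mul_comm', S.left_distrib', S.mul_comm' z x, S.mul_comm' z y]

theorem isField : IsField S.K where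
  exists_pair_ne := ⟨1, 0, S.one_ne_zero'⟩
  mul_comm := S.mul_comm'
  mul_inv_cancel := by
    intro x hx
    have hm := S.mem_H.1 (S.H.inv_mem (S.mu_mem x))
    refine ⟨⟨(S.mu x)⁻¹ S.e, S.K_apply hm.2.1 1⟩, Subtype.ext ?_⟩
    rw [S.mul_val hx]
    simp [S.one_val]

theorem two_eq_zero : (1 : S.K) + 1 = 0 := neg_add_cancel (1 : S.K)

theorem exists_galois : ∃ (n : ℕ), 1 ≤ n ∧ Fintype.card S.K = 2 ^ n ∧
    Nonempty (GaloisField 2 n ≃+* S.K) := by
  classical
  letI : Field S.K := S.isField.toField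
  have : CharP S.K 2 := CharTwo.of_one_ne_zero_of_two_eq_zero S.one_ne_zero' (by
    rw [← one_add_one_eq_two]; exact S.two_eq_zero)
  obtain ⟨n, _, hn⟩ := FiniteField.card S.K 2
  have : Fintype (GaloisField 2 n) := Fintype.ofFinite _
  refine ⟨n, n.2, hn, ⟨FiniteField.ringEquivOfCardEq ?_⟩⟩
  rw [hn, Fintype.card_eq_nat_card, GaloisField.card 2 n n.2.ne']

theorem card_eq : Fintype.card α = Fintype.card S.K + 1 := by
  have h : Fintype.card S.K = Fintype.card α - 1 := by
    simp [Fintype.card_subtype, Finset.filter_ne', Finset.card_erase_of_mem]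
  have := Fintype.card_pos_iff.2 ⟨S.ω⟩
  omega

section
variable {F : Type} [Field F] [DecidableEq F] [Fintype F] (σ : F ≃+* S.K)

/-- the projective line over F is α -/
noncomputable def line : OnePoint F ≃ α :=
  Equiv.ofBijective (fun x => OnePoint.elim x S.ω (fun y => (σ y).1)) (by
    constructor
    · intro x y h
      cases x with
      | infty => cases y with
        | infty => rfl
        | coe y => exact absurd h.symm (σ y).2
      | coe x => cases y with
        | infty => exact absurd h (σ x).2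
        | coe y => exact congrArg _ (σ.injective (Subtype.ext h))
    · intro a
      by_cases ha : a = S.ω
      · exact ⟨OnePoint.infty, ha.symm⟩
      · exact ⟨((σ.symm ⟨a, ha⟩ : F) : OnePoint F), by simp⟩)

theorem line_infty : S.line σ OnePoint.infty = S.ω := rfl
theorem line_coe (y : F) : S.line σ (y : OnePoint F) = (σ y).1 := rfl

/-- the Moebius action of SL(2,F) on α -/
noncomputable def mob : Matrix.SpecialLinearGroup (Fin 2) F →* Equiv.Perm α :=
  (S.line σ).permCongrHom.toMonoidHom.comp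
    ((MulAction.toPermHom (GL (Fin 2) F) (OnePoint F)).comp Matrix.SpecialLinearGroup.toGL)

theorem mob_line (M : Matrix.SpecialLinearGroup (Fin 2) F) (x : OnePoint F) :
    S.mob σ M (S.line σ x) = S.line σ (Matrix.SpecialLinearGroup.toGL M • x) := by
  simp [mob]

theorem toGL_apply (M : Matrix.SpecialLinearGroup (Fin 2) F) (i j : Fin 2) :
    (Matrix.SpecialLinearGroup.toGL M : Matrix (Fin 2) (Fin 2) F) i j = M i j := rfl

/-- upper triangular matrices -/
def upper (a b : F) (ha : a ≠ 0) : Matrix.SpecialLinearGroup (Fin 2) F :=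
  ⟨!![a, b; 0, a⁻¹], by simp [Matrix.det_fin_two, ha]⟩

theorem mob_upper (a b : F) (ha : a ≠ 0) :
    S.mob σ (upper a b ha) = S.tr (σ (a * b)) * S.mu (σ (a * a)) := by
  have h2 : σ (a * a) ≠ 0 := by simp [ha]
  refine Equiv.ext fun y => ?_
  obtain ⟨x, rfl⟩ := (S.line σ).surjective y
  rw [mob_line, Equiv.Perm.mul_apply]
  cases x with
  | infty =>
    rw [OnePoint.smul_infty_eq_ite]
    simp only [toGL_apply]
    simp [upper, line_infty, (S.mem_H.1 (S.mu_mem _)).2.1, (S.tr_mem _).2.1]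
  | coe x =>
    rw [OnePoint.smul_some_eq_ite]
    simp only [toGL_apply]
    simp only [upper, line_coe]
    simp [ha]
    rw [← S.mul_val (by simp [ha]), ← S.add_val]
    simp only [← map_mul, ← map_add]
    ring_nf
    rfl

/-- the matrix interchanging zero and infinity (characteristic two) -/
def swapMat (h2 : (2 : F) = 0) : Matrix.SpecialLinearGroup (Fin 2) F :=
  ⟨!![0, 1; 1, 0], by rw [Matrix.det_fin_two]; simp; linear_combination -h2⟩

include σ in
theorem exists_iso : Nonempty (G ≃* Matrix.SpecialLinearGroup (Fin 2) F) := by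
  classical
  have h2 : (2 : F) = 0 := σ.injective (by
    rw [map_ofNat, map_zero, ← one_add_one_eq_two, S.two_eq_zero])
  have hchar : CharP F 2 := CharTwo.of_one_ne_zero_of_two_eq_zero one_ne_zero h2
  obtain ⟨hcomm, t, ht, h1, h2t, h3, htt, htinv⟩ := S.H_data
  have hswap : S.mob σ (swapMat h2) = t := by
    refine Equiv.ext fun y => ?_
    obtain ⟨x, rfl⟩ := (S.line σ).surjective y
    rw [mob_line]
    cases x with
    | infty =>
      rw [OnePoint.smul_infty_eq_ite]
      simp only [toGL_apply]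
      simp [swapMat, line_infty, line_coe, h1, S.zero_val]
    | coe x =>
      rw [OnePoint.smul_some_eq_ite]
      simp only [toGL_apply]
      rcases eq_or_ne x 0 with rfl | hx
      · simp [swapMat, line_infty, line_coe, h2t, S.zero_val]
      · simp [swapMat, line_coe, hx]
        have hne : σ x ≠ 0 := by simp [hx]
        have hne' : σ x⁻¹ ≠ 0 := by simp [hx]
        have hinv : S.mu (σ x⁻¹) = (S.mu (σ x))⁻¹ := by
          apply eq_inv_of_mul_eq_one_left
          rw [← S.mu_mul hne' hne, ← map_mul, inv_mul_cancel₀ hx, map_one]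
          exact S.H_unique (S.mu_mem _) S.H.one_mem (S.mu_e S.hoe.symm)
        have := congrArg (fun f : Equiv.Perm α => f S.e) (htinv _ (S.mu_mem (σ x)))
        simp only [Equiv.Perm.mul_apply, h3, S.mu_e (S.ne_zero_iff.1 hne)] at this
        rw [this, ← hinv, S.mu_e (S.ne_zero_iff.1 hne')]
  have hupG : ∀ (a b : F) (ha : a ≠ 0), S.mob σ (upper a b ha) ∈ G := fun a b ha => by
    rw [mob_upper]; exact G.mul_mem (S.tr_mem _).1 (S.mem_H.1 (S.mu_mem _)).1
  have htri : ∀ M : Matrix.SpecialLinearGroup (Fin 2) F, M 1 0 = 0 → S.mob σ M ∈ G := by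
    intro M hM
    have hdet : M 0 0 * M 1 1 = 1 := by
      have := M.2
      rw [Matrix.det_fin_two] at this
      simpa [hM] using this
    have ha : M 0 0 ≠ 0 := left_ne_zero_of_mul_eq_one hdet
    have : M = upper (M 0 0) (M 0 1) ha := by
      ext i j
      fin_cases i <;> fin_cases j <;> simp [upper, hM, eq_inv_of_mul_eq_one_right hdet]
    rw [this]; exact hupG _ _ _
  have hsub : ∀ M, S.mob σ M ∈ G := by
    intro M
    rcases eq_or_ne (M 1 0) 0 with hc | hc
    · exact htri M hc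
    · have key : (swapMat h2 * (upper 1 (M 0 0 / M 1 0) one_ne_zero * M) :
          Matrix.SpecialLinearGroup (Fin 2) F) 1 0 = 0 := by
        show ((swapMat h2).1 * ((upper 1 (M 0 0 / M 1 0) one_ne_zero).1 * M.1)) 1 0 = 0
        simp only [swapMat, upper]
        simp [Matrix.mul_apply, Fin.sum_univ_two, Matrix.vecMul, dotProduct]
        field_simp
        linear_combination M 0 0 * h2
      have := htri _ key
      rw [map_mul, map_mul, hswap] at this
      have h' := (G.mul_mem_cancel_left ht).1 this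
      exact (G.mul_mem_cancel_left (hupG _ _ _)).1 h'
  have htrmem : ∀ x : S.K, S.tr x ∈ (S.mob σ).range := by
    intro x
    refine ⟨upper 1 (σ.symm x) one_ne_zero, ?_⟩
    rw [mob_upper]
    simp only [one_mul, RingEquiv.apply_symm_apply, map_one]
    rw [S.H_unique (S.mu_mem 1) S.H.one_mem (S.mu_e S.hoe.symm), mul_one]
  have hHmem : ∀ h ∈ S.H, h ∈ (S.mob σ).range := by
    intro h hh
    have hω : h S.ω = S.ω := (S.mem_H.1 hh).2.1
    set x : S.K := ⟨h S.e, S.K_apply hω 1⟩ with hx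
    have hx0 : x.1 ≠ S.o := fun h' => S.hoe (h.injective (h'.trans (S.mem_H.1 hh).2.2.symm)).symm
    have hxh : S.mu x = h := S.H_unique (S.mu_mem x) hh (S.mu_e hx0)
    obtain ⟨a, ha⟩ := isSquare_of_charTwo' (σ.symm x)
    have ha0 : a ≠ 0 := by
      rintro rfl
      apply hx0
      have : x = 0 := σ.symm.injective (by simpa using ha)
      rw [this]; rfl
    refine ⟨upper a 0 ha0, ?_⟩
    rw [mob_upper, mul_zero, map_zero, S.tr_zero, one_mul, ← ha, RingEquiv.apply_symm_apply, hxh]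
  have hω' : ∀ g ∈ G, g S.ω = S.ω → g ∈ (S.mob σ).range := by
    intro g hg hω
    set x : S.K := ⟨g S.o, S.K_apply hω 0⟩ with hx
    have : (S.tr x)⁻¹ * g ∈ S.H := S.mem_H.2 ⟨G.mul_mem (G.inv_mem (S.tr_mem x).1) hg,
      by rw [Equiv.Perm.mul_apply, hω, Equiv.Perm.inv_eq_iff_eq, (S.tr_mem x).2.1],
      by rw [Equiv.Perm.mul_apply, Equiv.Perm.inv_eq_iff_eq, S.tr_o]⟩
    have := (S.mob σ).range.mul_mem (htrmem x) (hHmem _ this)
    rwa [mul_inv_cancel_left] at this
  have hsup : ∀ g ∈ G, g ∈ (S.mob σ).range := by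
    intro g hg
    by_cases hω : g S.ω = S.ω
    · exact hω' g hg hω
    · set x : S.K := ⟨g S.ω, hω⟩ with hx
      have hxo : (S.tr x)⁻¹ (g S.ω) = S.o := by rw [Equiv.Perm.inv_eq_iff_eq, S.tr_o]
      have hfix : (t * ((S.tr x)⁻¹ * g)) S.ω = S.ω := by
        rw [Equiv.Perm.mul_apply, Equiv.Perm.mul_apply, hxo, h2t]
      have := hω' _ (G.mul_mem ht (G.mul_mem (G.inv_mem (S.tr_mem x).1) hg)) hfix
      rw [(S.mob σ).range.mul_mem_cancel_left ⟨_, hswap⟩,
        (S.mob σ).range.mul_mem_cancel_left ((S.mob σ).range.inv_mem (htrmem x))] at this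
      exact this
  have hinj : Function.Injective (S.mob σ) := by
    rw [injective_iff_map_eq_one]
    intro M hM
    have hp : ∀ z : OnePoint F, Matrix.SpecialLinearGroup.toGL M • z = z := fun z =>
      (S.line σ).injective (by rw [← mob_line, hM, Equiv.Perm.one_apply])
    have hc : M 1 0 = 0 := by
      simpa [toGL_apply] using OnePoint.smul_infty_eq_self_iff.1 (hp OnePoint.infty)
    have hdet : M 0 0 * M 1 1 = 1 := by
      have := M.2
      rw [Matrix.det_fin_two] at this
      simpa [hc] using this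
    have hd : M 1 1 ≠ 0 := right_ne_zero_of_mul_eq_one hdet
    have hb := hp ((0 : F) : OnePoint F)
    rw [OnePoint.smul_some_eq_ite] at hb
    simp only [toGL_apply] at hb
    simp [hc, hd] at hb
    have he := hp ((1 : F) : OnePoint F)
    rw [OnePoint.smul_some_eq_ite] at he
    simp only [toGL_apply] at he
    simp [hc, hd, hb, div_eq_one_iff_eq] at he
    rw [he, ← sq] at hdet
    have hd1 : M 1 1 = 1 := CharTwo.sq_injective (by simpa using hdet)
    ext i j
    fin_cases i <;> fin_cases j <;> simp [hc, hb, he, hd1]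
  exact ⟨((MonoidHom.ofInjective hinj).trans (MulEquiv.subgroupCongr
    (le_antisymm (by rintro _ ⟨M, rfl⟩; exact hsub M) hsup))).symm⟩

end

end Setup

end

theorem result {α : Type*} [Fintype α] [DecidableEq α] (hm : 3 ≤ Fintype.card α) (hodd : Odd (Fintype.card α)) (G : Subgroup (Equiv.Perm α)) (h3 : MulAction.IsMultiplyPretransitive G α 3) (hfix : ∀ g : G, 3 ≤ Nat.card (MulAction.fixedBy α g) → g = 1) : ∃ a : ℕ, 1 ≤ a ∧ Fintype.card α = 2 ^ a + 1 ∧ ∃ (F : Type) (_ : Field F) (_ : Fintype F), Fintype.card F = 2 ^ a ∧ Nonempty (G ≃* Matrix.SpecialLinearGroup (Fin 2) F) := by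
  classical
  obtain ⟨ω, o, e, hωo, hωe, hoe⟩ := Fintype.two_lt_card_iff.1 (by omega : 2 < Fintype.card α)
  let S : Setup G :=
    { ω := ω, o := o, e := e, hωo := hωo, hωe := hωe, hoe := hoe, odd := hodd
      ex := fun a b c x y z hab hac hbc hxy hxz hyz => by
        let u : Fin 3 ↪ α := ⟨![a, b, c], by
          intro i j h; fin_cases i <;> fin_cases j <;> simp_all⟩
        let v : Fin 3 ↪ α := ⟨![x, y, z], by
          intro i j h; fin_cases i <;> fin_cases j <;> simp_all⟩
        obtain ⟨g, hg⟩ := MulAction.isMultiplyPretransitive_iff.1 h3 u v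
        exact ⟨g, g.2, congrArg (fun f : Fin 3 ↪ α => f 0) hg,
          congrArg (fun f : Fin 3 ↪ α => f 1) hg, congrArg (fun f : Fin 3 ↪ α => f 2) hg⟩
      uniq := fun g hg a b c hab hac hbc ha hb hc => by
        have := hfix ⟨g, hg⟩ (by
          rw [Nat.card_eq_fintype_card]
          exact Fintype.two_lt_card_iff.2 ⟨⟨a, ha⟩, ⟨b, hb⟩, ⟨c, hc⟩,
            fun h => hab (congrArg Subtype.val h), fun h => hac (congrArg Subtype.val h),
            fun h => hbc (congrArg Subtype.val h)⟩)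
        exact congrArg Subtype.val this }
  obtain ⟨n, hn, hcard, ⟨σ⟩⟩ := S.exists_galois
  have : Fintype (GaloisField 2 n) := Fintype.ofFinite _
  refine ⟨n, hn, by rw [S.card_eq, hcard], GaloisField 2 n, inferInstance, inferInstance, ?_,
    S.exists_iso σ⟩
  rw [Fintype.card_eq_nat_card, GaloisField.card 2 n (by omega)]

end Cfsg.Agent.S4702
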