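import Cfsg.Statements.S4706
import Cfsg.Agent.Lib.PrimeDegreeTwoP.Fixed
import Cfsg.Agent.Lib.CentralChar.Fixed
import Cfsg.Agent.Lib.GLOrder.Basic
import Cfsg.Agent.S0727
import Mathlib.Data.Fintype.CardEmbedding

set_option autoImplicit false
open Cfsg

namespace Cfsg.Agent.S4706

open Cfsg.Agent.PrimeDegreeTwoP Cfsg.Agent.CyclicDefect Cfsg.Agent.Blocks

theorem not_sq_dvd {α : Type*} [Fintype α] [DecidableEq α] {p : ℕ} (hp : p.Prime) (hα : Fintype.card α = p)
    (G : Subgroup (Equiv.Perm α)) : ¬ p ^ 2 ∣ Nat.card G := by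
  intro h
  have h1 : p ^ 2 ∣ p.factorial := by
    refine h.trans ?_
    rw [← hα, ← Fintype.card_perm, ← Nat.card_eq_fintype_card]
    exact G.card_subgroup_dvd_card
  obtain ⟨q, rfl⟩ : ∃ q, p = q + 1 := ⟨p - 1, by have := hp.pos; omega⟩
  rw [pow_two, Nat.factorial_succ, Nat.mul_dvd_mul_iff_left (Nat.succ_pos q), hp.dvd_factorial] at h1
  omega

theorem card_sl_iso {F : Type} [Field F] [Fintype F] {a : ℕ} (ha : 1 ≤ a) (hF : Fintype.card F = 2 ^ a) :
    Nonempty (Matrix.ProjGenLinGroup (Fin 2) F ≃* Matrix.SpecialLinearGroup (Fin 2) F) := by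
  haveI : Finite (Matrix.ProjGenLinGroup (Fin 2) F) := Finite.of_surjective _ Matrix.ProjGenLinGroup.mk_surjective
  have hinj : Function.Injective (Matrix.SpecialLinearGroup.toPGL (n := Fin 2) (R := F)) := by
    rw [← MonoidHom.ker_eq_bot_iff, Matrix.SpecialLinearGroup.toPGL_ker, ← Subgroup.card_eq_one,
      GLOrder.card_center_SL, Fintype.card_fin, Nat.card_eq_fintype_card, hF]
    obtain ⟨b, rfl⟩ : ∃ b, a = b + 1 := ⟨a - 1, by omega⟩
    have := Nat.one_le_two_pow (n := b)
    have hodd : Odd (2 ^ (b + 1) - 1) := ⟨2 ^ b - 1, by rw [pow_succ]; omega⟩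
    exact Nat.coprime_two_left.mpr hodd
  have hbij := (Nat.bijective_iff_injective_and_card Matrix.SpecialLinearGroup.toPGL).mpr ⟨hinj, GLOrder.card_PGL.symm⟩
  exact ⟨(MulEquiv.ofBijective _ hbij).symm⟩

/-- Let p > 2 be a prime and G a permutation group on p letters whose Sylow p-subgroup P has normalizer of order 2p. Then either P is normal in G, or p − 1 = 2^a for some a and G is isomorphic to SL(2, 2^a). -/
theorem result {α : Type*} [Fintype α] [DecidableEq α] {p : ℕ} [Fact p.Prime] (hp : 2 < p) (hα : Fintype.card α = p) (G : Subgroup (Equiv.Perm α)) (P : Sylow p G) (hN : Nat.card (Subgroup.normalizer ((P : Subgroup G) : Set G)) = 2 * p) : (P : Subgroup G).Normal ∨ ∃ (a : ℕ) (F : Type) (_ : Field F) (_ : Fintype F), p = 2 ^ a + 1 ∧ Fintype.card F = 2 ^ a ∧ Nonempty (G ≃* Matrix.SpecialLinearGroup (Fin 2) F) := by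
  classical
  have hp' : p.Prime := Fact.out
  have hsq := not_sq_dvd hp' hα G
  have hpG : p ∣ Nat.card G := (dvd_mul_left p 2).trans (hN ▸ Subgroup.card_subgroup_dvd_card _)
  have hPcard : Nat.card (P : Subgroup G) = p := by
    rw [P.card_eq_multiplicity]
    have h1 : (Nat.card G).factorization p = 1 := by
      refine le_antisymm (Nat.le_of_lt_succ (Nat.lt_of_not_le fun h => hsq ?_))
        (hp'.dvd_iff_one_le_factorization Nat.card_pos.ne' |>.mp hpG)
      exact (hp'.pow_dvd_iff_le_factorization Nat.card_pos.ne').mpr h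
    rw [h1, pow_one]
  haveI := isCyclic_of_prime_card hPcard
  obtain ⟨x₀, hgen⟩ := IsCyclic.exists_generator (α := (P : Subgroup G))
  have hPx : (P : Subgroup G) = Subgroup.zpowers (x₀ : G) := by
    refine le_antisymm (fun y hy => ?_) (Subgroup.zpowers_le.mpr x₀.2)
    obtain ⟨n, hn⟩ := Subgroup.mem_zpowers_iff.mp (hgen ⟨y, hy⟩)
    exact ⟨n, congrArg Subtype.val hn⟩
  have hx : orderOf (x₀ : G) = p := by rw [← Nat.card_zpowers, ← hPx, hPcard]
  obtain ⟨L, hS⟩ := exists_setting hp' hx hsq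
  have hNcard := hS.card_normalizer
  rw [hPx] at hN
  have hL : Nat.card L = 2 := Nat.eq_of_mul_eq_mul_left hp'.pos (hNcard.symm.trans (hN.trans (mul_comm 2 p)))
  by_cases hnorm : (P : Subgroup G).Normal
  · exact Or.inl hnorm
  refine Or.inr ?_
  have hnn : ¬ (Subgroup.zpowers (x₀ : G)).Normal := hPx ▸ hnorm
  have hp5 : 5 ≤ p := by
    by_contra h
    have hp3 : p = 3 := by
      rcases (show p = 3 ∨ p = 4 by omega) with h3 | h4
      · exact h3
      · rw [h4] at hp'; exact absurd hp' (by norm_num)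
    refine hnn (Subgroup.normalizer_eq_top_iff.mp (Subgroup.eq_top_of_le_card _ ?_))
    rw [hN, hp3]
    refine le_trans (Nat.le_of_dvd Nat.card_pos G.card_subgroup_dvd_card) (le_of_eq ?_)
    rw [Nat.card_eq_fintype_card, Fintype.card_perm, hα, hp3]
    rfl
  obtain ⟨M, hM⟩ := CentralChar.exists_pModular p
  have hfix := fun {g : G} => fix_regular hα hS hp hL hM hnn hp5 (g := g)
  have hcard := card_eq hα hS hp hL hM hnn hp5
  have hsharp : ∀ t : Fin 3 ↪ α, MulAction.stabilizer G t = ⊥ := by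
    intro t
    rw [eq_bot_iff]
    intro g hg
    rw [Subgroup.mem_bot]
    by_contra hne
    have hg' : ∀ i, g • t i = t i := fun i => DFunLike.congr_fun hg i
    have h3 : 3 ≤ fx g := by
      have h := Nat.card_le_card_of_injective (fun i => (⟨t i, hg' i⟩ : MulAction.fixedBy α g))
        (fun i j e => t.injective (congrArg Subtype.val e))
      rwa [Nat.card_fin] at h
    by_cases hord : p ∣ orderOf g
    · rw [fx_singular hα hord] at h3
      omega
    · rcases hfix hord hne with ⟨h1, -⟩ | h1 <;> omega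
  have h3trans : MulAction.IsMultiplyPretransitive G α 3 := by
    refine ⟨fun t u => ?_⟩
    have hinj : Function.Injective (fun g : G => g • t) := fun g h e => by
      have : h⁻¹ * g ∈ MulAction.stabilizer G t := by
        rw [MulAction.mem_stabilizer_iff, mul_smul]
        exact (congrArg (h⁻¹ • ·) e).trans (inv_smul_smul h t)
      rw [hsharp t, Subgroup.mem_bot, inv_mul_eq_one] at this
      exact this.symm
    have hc : Nat.card G = Nat.card (Fin 3 ↪ α) := by
      rw [hcard, Nat.card_eq_fintype_card, Fintype.card_embedding_eq, hα, Fintype.card_fin]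
      simp only [Nat.descFactorial_succ, Nat.descFactorial_zero, Nat.sub_zero, mul_one]
      ring
    exact ((Nat.bijective_iff_injective_and_card _).mpr ⟨hinj, hc⟩).2 u
  set a := (p - 1).primeFactorsList.length
  have hpa : p - 1 = 2 ^ a := by
    refine Nat.eq_prime_pow_of_unique_prime_dvd (by omega) fun {r} hr hrd => ?_
    by_contra hr2
    have hrle : r ≤ p - 1 := Nat.le_of_dvd (by omega) hrd
    haveI := Fact.mk hr
    have hrG : r ∣ Nat.card G := by
      rw [hcard]
      exact (hrd.trans (dvd_mul_left _ _)).trans (dvd_mul_right _ _)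
    obtain ⟨y, hy⟩ := exists_prime_orderOf_dvd_card' (G := G) r hrG
    have hyp : ¬ p ∣ orderOf y := by
      rw [hy, Nat.prime_dvd_prime_iff_eq hp' hr]; omega
    have hy1 : y ≠ 1 := fun e => hr.ne_one (by rw [← hy, e, orderOf_one])
    have hmod := (IsPGroup.of_card (n := 1) (show Nat.card (Subgroup.zpowers y) = r ^ 1 by
      rw [Nat.card_zpowers, hy, pow_one])).card_modEq_card_fixedPoints α
    rw [Nat.card_eq_fintype_card, hα, show Nat.card (MulAction.fixedPoints (Subgroup.zpowers y) α) = fx y from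
      Nat.card_congr (Equiv.setCongr (Set.ext fun b => ⟨fun h => h ⟨y, Subgroup.mem_zpowers y⟩,
        fun h z => (Subgroup.zpowers_le.mpr (show y ∈ MulAction.stabilizer G b from h) z.2 :)⟩))] at hmod
    have h1 : p ≡ 1 [MOD r] := ((Nat.modEq_iff_dvd' (by omega)).mpr hrd).symm
    have h2 := hmod.symm.trans h1
    rcases hfix hyp hy1 with ⟨-, h⟩ | h
    · have := Nat.le_of_dvd two_pos (hy ▸ orderOf_dvd_of_pow_eq_one (n := 2) ((pow_two y).trans h))
      have := hr.two_le
      omega
    · rw [h] at h2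
      have := (Nat.modEq_iff_dvd' (by omega)).mp h2.symm
      exact hr.ne_one (Nat.dvd_one.mp this)
  have ha : 1 ≤ a := Nat.one_le_iff_ne_zero.mpr fun h => by rw [h] at hpa; omega
  obtain ⟨F, _, _, hF, ⟨e⟩⟩ := S0727.result ha (show Fintype.card α = 2 ^ a + 1 by omega) G h3trans hsharp
  obtain ⟨e'⟩ := card_sl_iso ha hF
  exact ⟨a, F, _, _, by omega, hF, ⟨e.trans e'⟩⟩

end Cfsg.Agent.S4706
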