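import Cfsg.Statements.S4708
import Cfsg.Agent.Lib.CharApp.CosetParts
import Cfsg.Agent.Lib.BrauerPairs.Basic
import Cfsg.Agent.Lib.BlocksNormal.Cover

set_option autoImplicit false
open Cfsg

namespace Cfsg.Agent.S4708

/-- Let p be a prime, M a maximal ideal of the algebraic integers containing p, G a finite group and H a normal subgroup. Write λ(X) for the sum of the squares of the degrees of the irreducible characters in the principal p-block of a group X. Then λ(H) ≤ λ(G) ≤ [G : H]·λ(H). -/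
theorem result {G : Type*} [Group G] [Finite G] (p : ℕ) [Fact p.Prime] (M : Ideal Cfsg.AlgInt) (hM : Cfsg.IsPModular p M) (H : Subgroup G) [H.Normal] : (∑ᶠ θ ∈ Cfsg.principalBlock M H, Cfsg.charDegree (θ : H → ℂ) ^ 2) ≤ (∑ᶠ χ ∈ Cfsg.principalBlock M G, Cfsg.charDegree (χ : G → ℂ) ^ 2) ∧ (∑ᶠ χ ∈ Cfsg.principalBlock M G, Cfsg.charDegree (χ : G → ℂ) ^ 2) ≤ H.index * ∑ᶠ θ ∈ Cfsg.principalBlock M H, Cfsg.charDegree (θ : H → ℂ) ^ 2 := by
  classical
  haveI := Fintype.ofFinite G
  haveI := Fintype.ofFinite H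
  haveI := Fintype.ofFinite (IrrCharacter G)
  haveI := Fintype.ofFinite (IrrCharacter H)
  rw [finsum_mem_eq_finite_toFinset_sum _ (Set.toFinite _),
    finsum_mem_eq_finite_toFinset_sum _ (Set.toFinite _)]
  set B := principalBlock M G
  set b := principalBlock M H
  set sb := (Set.toFinite b).toFinset
  set sB := (Set.toFinite B).toFinset
  have hB : IsPBlock M B := BrauerPairs.isPBlock_principal
  have hb : IsPBlock M b := BrauerPairs.isPBlock_principal
  have hone : classInner (fun n : H => (BrauerPairs.oneIrr G : G → ℂ) n)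
      (BrauerPairs.oneIrr H : H → ℂ) ≠ 0 := by
    show classInner (BrauerPairs.oneIrr H : H → ℂ) (BrauerPairs.oneIrr H : H → ℂ) ≠ 0
    rw [Char.classInner_irr_self (BrauerPairs.oneIrr H).2]
    exact one_ne_zero
  choose e he using fun (χ : IrrCharacter G) (θ : IrrCharacter H) =>
    Char.IsCharacter.classInner_nat (Char.IsCharacter.restrict
      (Char.IsIrrCharacter.isCharacter χ.2) H) (Char.IsIrrCharacter.isCharacter θ.2)
  have hsum : ∀ χ : IrrCharacter G,
      charDegree (χ : G → ℂ) = ∑ θ, e χ θ * charDegree (θ : H → ℂ) := by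
    intro χ
    have h1 := congrFun (Char.classFunction_eq_sum (Char.IsCharacter.isClassFunction
      (Char.IsCharacter.restrict (Char.IsIrrCharacter.isCharacter χ.2) H))) 1
    simp only [he, Finset.sum_apply, Pi.smul_apply, smul_eq_mul, OneMemClass.coe_one,
      ← Blocks.charDegree_cast] at h1
    exact_mod_cast h1
  have hind : ∀ θ : IrrCharacter H,
      ∑ χ : IrrCharacter G, e χ θ * charDegree (χ : G → ℂ) = H.index * charDegree (θ : H → ℂ) := by
    intro θ
    have h0 : ∀ χ : IrrCharacter G,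
        classInner (indFun H (θ : H → ℂ)) (χ : G → ℂ) = (e χ θ : ℂ) := fun χ => by
      rw [Char.frobenius_reciprocity H _ (Char.IsIrrCharacter.isClassFunction χ.2),
        ← Char.classInner_conj_symm, he, Complex.conj_natCast]
    have h1 := congrFun (Char.classFunction_eq_sum
      (Char.indFun_isClassFunction H (θ : H → ℂ))) 1
    simp only [h0, Finset.sum_apply, Pi.smul_apply, smul_eq_mul, Char.indFun_one_apply,
      ← Blocks.charDegree_cast] at h1
    exact_mod_cast h1.symm
  have hstable : ∀ (g : G) (θ : IrrCharacter H), θ ∈ b → BlocksNormal.conjIrr H g θ ∈ b :=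
    fun g θ hθ => BlocksNormal.sameBlock_conjIrr H g (θ := BrauerPairs.oneIrr H) (φ := θ) hθ
  have hmem : ∀ χ ∈ B, ∀ θ, e χ θ ≠ 0 → θ ∈ b := by
    intro χ hχ θ hne
    obtain ⟨g, hg⟩ := BlocksNormal.exists_conjIrr_mem_of_sameBlock H hM hb
      (show SameBlock M (BrauerPairs.oneIrr G : G → ℂ) (χ : G → ℂ) from hχ)
      (BrauerPairs.oneIrr_mem_principal hM) hone (ψ := θ)
      (fun h => hne (by rw [he] at h; exact_mod_cast h))
    have := hstable g⁻¹ _ hg
    rwa [← BlocksNormal.conjIrr_mul, inv_mul_cancel, BlocksNormal.conjIrr_one] at this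
  constructor
  · have h1 : ∀ θ ∈ sb, charDegree (θ : H → ℂ) ^ 2 ≤
        ∑ χ ∈ sB, e χ θ ^ 2 * charDegree (θ : H → ℂ) ^ 2 := by
      intro θ hθ
      obtain ⟨χ, hχ, hne⟩ := CosetParts.exists_under_of_covers H hM hB hb
        ⟨BrauerPairs.oneIrr G, BrauerPairs.oneIrr_mem_principal hM, BrauerPairs.oneIrr H,
          BrauerPairs.oneIrr_mem_principal hM, hone⟩ (θ := θ) ((Set.toFinite b).mem_toFinset.1 hθ)
      refine le_trans ?_ (Finset.single_le_sum (fun i _ => Nat.zero_le _)
        ((Set.toFinite B).mem_toFinset.2 hχ))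
      refine Nat.le_mul_of_pos_left _ (pow_pos (Nat.pos_of_ne_zero fun h => hne ?_) 2)
      rw [he, h, Nat.cast_zero]
    refine le_trans (Finset.sum_le_sum h1) ?_
    rw [Finset.sum_comm]
    refine Finset.sum_le_sum fun χ _ => ?_
    rw [hsum χ]
    simp only [← mul_pow]
    refine le_trans (Finset.sum_le_sum_of_subset (Finset.subset_univ _)) ?_
    exact Finset.sum_sq_le_sq_sum_of_nonneg fun i _ => Nat.zero_le _
  · have h1 : ∀ χ ∈ sB, charDegree (χ : G → ℂ) ^ 2 =
        ∑ θ ∈ sb, charDegree (χ : G → ℂ) * (e χ θ * charDegree (θ : H → ℂ)) := by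
      intro χ hχ
      rw [← Finset.mul_sum, sq]
      congr 1
      refine (hsum χ).trans (Finset.sum_subset (Finset.subset_univ _) fun θ _ hθ => ?_).symm
      by_contra h
      refine hθ ((Set.toFinite b).mem_toFinset.2
        (hmem χ ((Set.toFinite B).mem_toFinset.1 hχ) θ fun h0 => h ?_))
      rw [h0, zero_mul]
    rw [Finset.sum_congr rfl h1, Finset.sum_comm, Finset.mul_sum]
    refine Finset.sum_le_sum fun θ _ => ?_
    rw [sq, ← mul_assoc, ← hind θ, Finset.sum_mul]
    refine le_trans (le_of_eq ?_) (Finset.sum_le_sum_of_subset (Finset.subset_univ sB))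
    exact Finset.sum_congr rfl fun χ _ => by ring

end Cfsg.Agent.S4708
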