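import Cfsg.Statements.S4709
import Cfsg.Agent.Lib.FrobSection.Main

set_option autoImplicit false
open Cfsg

namespace Cfsg.Agent.S4709

/-- Let p be a prime, M a maximal ideal of the algebraic integers containing p, and G a finite group with a nontrivial abelian Sylow p-subgroup P; put N = N_G(P), C = C_G(P). Suppose N/C is cyclic of order m with 1 < m < #P − 1 (C has index m in N and N is generated by C and one element), and C_G(y) ∩ N = C for every non-identity y ∈ P. Put r = (#P − 1)/m. Then there is s ≤ m such that the principal p-block is the disjoint union of a set X of s characters containing the principal character and a set Y of r characters, with integers a_χ ≠ 0 (χ ∈ X), d and a sign δ = ±1, such that: every χ ∈ X takes the value a_χ at every element whose p-part is a non-identity element of P; there is a map ζ from the non-principal linear characters ψ of P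 onto Y, constant on N-conjugacy classes, with ζ_ψ(z) = d + δ·Σ ψ'(y) for every z whose p-part y is a non-identity element of P, the sum running over the N-conjugates ψ' of ψ; (d − δ)^2 + (r − 1) d^2 + Σ_{χ ∈ X} a_χ^2 = m + 1; all members of Y agree on p-regular elements; and (r d − δ) η(g) + Σ_{χ ∈ X} a_χ χ(g) = 0 for every η ∈ Y and every p-regular g. -/
theorem result {G : Type*} [Group G] [Finite G] (p : ℕ) [Fact p.Prime] (M : Ideal Cfsg.AlgInt) (hM : Cfsg.IsPModular p M) (P : Sylow p G) (hab : IsMulCommutative P) (hP1 : Nat.card P ≠ 1) (m : ℕ) (hm1 : 1 < m) (hm2 : m + 1 < Nat.card P) (hCN : (Subgroup.centralizer ((P : Subgroup G) : Set G)).relIndex (Subgroup.normalizer ((P : Subgroup G) : Set G)) = m) (hcyc : ∃ g : G, g ∈ Subgroup.normalizer ((P : Subgroup G) : Set G) ∧ Subgroup.centralizer ((P : Subgroup G) : Set G) ⊔ Subgroup.zpowers g = Subgroup.normalizer ((P : Subgroup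 G) : Set G)) (hfrob : ∀ y : G, y ∈ (P : Subgroup G) → y ≠ 1 → Subgroup.centralizer ({y} : Set G) ⊓ Subgroup.normalizer ((P : Subgroup G) : Set G) = Subgroup.centralizer ((P : Subgroup G) : Set G)) : ∃ (s : ℕ) (X Y : Set (Cfsg.IrrCharacter G)), s ≤ m ∧ Cfsg.principalBlock M G = X ∪ Y ∧ Disjoint X Y ∧ Nat.card X = s ∧ Nat.card Y = (Nat.card P - 1) / m ∧ (∃ χ₁ ∈ X, (χ₁ : G → ℂ) = fun _ => 1) ∧ ∃ (a : Cfsg.IrrCharacter G → ℤ) (d δ : ℤ) (ζ : (↥(P : Subgroup G) →* ℂˣ) → Cfsg.IrrCharacter G), (δ = 1 ∨ δ = -1) ∧ (∀ χ ∈ X, a χ ≠ 0 ∧ ∀ z y : G, Cfsg.IsPPart p z y → y ∈ (P : Subgroup G) → y ≠ 1 → (χ : G → ℂ) z = (a χ : ℂ)) ∧ (∀ ψ : ↥(P : Subgroup G) →* ℂˣ, ψ ≠ 1 → ζ ψ ∈ Y) ∧ (∀ η ∈ Y, ∃ ψ : ↥(P : Subgroup G) →* ℂˣ, ψ ≠ 1 ∧ ζ ψ = η) ∧ (∀ ψ ψ' : ↥(P : Subgroup G) →* ℂˣ, ψ ≠ 1 → (∃ n : G, n ∈ Subgroup.normalizer ((P : Subgroup G) : Set G) ∧ ∀ w w' : ↥(P : Subgroup G), (w' : G) = n * w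 * n⁻¹ → ψ' w' = ψ w) → ζ ψ' = ζ ψ) ∧ (∀ ψ : ↥(P : Subgroup G) →* ℂˣ, ψ ≠ 1 → ∀ (z : G) (y : ↥(P : Subgroup G)), Cfsg.IsPPart p z (y : G) → (y : G) ≠ 1 → (ζ ψ : G → ℂ) z = (d : ℂ) + (δ : ℂ) * ∑ᶠ ψ' ∈ {ψ' : ↥(P : Subgroup G) →* ℂˣ | ∃ n : G, n ∈ Subgroup.normalizer ((P : Subgroup G) : Set G) ∧ ∀ w w' : ↥(P : Subgroup G), (w' : G) = n * w * n⁻¹ → ψ' w' = ψ w}, ((ψ' y : ℂˣ) : ℂ)) ∧ ((d - δ) ^ 2 + ((Nat.card P - 1) / m - 1 : ℤ) * d ^ 2 + ∑ᶠ χ ∈ X, a χ ^ 2 = (m : ℤ) + 1) ∧ (∀ η ∈ Y, ∀ η' ∈ Y, ∀ g : G, ¬ p ∣ orderOf g → (η : G → ℂ) g = (η' : G → ℂ) g) ∧ (∀ η ∈ Y, ∀ g : G, ¬ p ∣ orderOf g → ((((Nat.card P - 1) / m : ℕ) : ℂ) * d - δ) * (η : G → ℂ) g + ∑ᶠ χ ∈ X, (a χ : ℂ) * (χ : G → ℂ) g = 0) := by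
  classical
  have := Fintype.ofFinite G
  have hS : Cfsg.Agent.FrobSection.Setup P := ⟨hab, hfrob⟩
  have hm : Nat.card (Cfsg.Agent.FrobSection.autP P) = m :=
    (Cfsg.Agent.FrobSection.card_autP P).trans hCN
  obtain ⟨D⟩ := hS.exists_data hM (hm ▸ hm2)
  have hY := D.card_Y
  rw [hm] at hY
  have hr : Nat.card (D.ζ '' {ψ | ψ ≠ 1}) = (Nat.card P - 1) / m := by
    rw [show Nat.card P = Nat.card ↥(P : Subgroup G) from rfl, ← hY, Nat.add_sub_cancel,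
      Nat.mul_div_cancel_left _ (by omega)]
  obtain ⟨χ₁, hχ₁, hone, ha1⟩ := D.one
  have hr1 : 1 ≤ (Nat.card (D.ζ '' {ψ | ψ ≠ 1}) : ℕ) := by
    by_contra h
    rw [show Nat.card (D.ζ '' {ψ | ψ ≠ 1}) = 0 by omega, mul_zero, zero_add] at hY
    exact hP1 hY.symm
  have hnorm := D.norm
  rw [hm] at hnorm
  have hsum : (Nat.card D.X : ℤ) ≤ ∑ᶠ χ ∈ D.X, D.a χ ^ 2 := by
    have := Fintype.ofFinite (Cfsg.IrrCharacter G)
    rw [finsum_mem_eq_toFinset_sum, Nat.card_eq_fintype_card, ← Set.toFinset_card]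
    calc ((D.X.toFinset.card : ℕ) : ℤ) = ∑ χ ∈ D.X.toFinset, (1 : ℤ) := by simp
      _ ≤ ∑ χ ∈ D.X.toFinset, D.a χ ^ 2 := Finset.sum_le_sum fun χ hχ => by
        have := D.a_ne χ (by simpa using hχ)
        nlinarith [sq_pos_of_ne_zero this]
  have hs : Nat.card D.X ≤ m := by
    have h1 : (1 : ℤ) ≤ (D.d - D.δ) ^ 2 +
        ((Nat.card (D.ζ '' {ψ | ψ ≠ 1}) : ℤ) - 1) * D.d ^ 2 := by
      have h2 : (2 : ℤ) ≤ (Nat.card (D.ζ '' {ψ | ψ ≠ 1}) : ℤ) := by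
        have : m * 1 < m * Nat.card (D.ζ '' {ψ | ψ ≠ 1}) := by
          have : m + 1 < Nat.card ↥(P : Subgroup G) := hm2
          omega
        have := Nat.lt_of_mul_lt_mul_left this
        omega
      by_cases hd : D.d = 0
      · rcases D.sign with h | h <;> rw [hd, h] <;> norm_num
      · nlinarith [sq_pos_of_ne_zero hd, sq_nonneg (D.d - D.δ)]
    have : (Nat.card D.X : ℤ) ≤ m := by linarith
    exact_mod_cast this
  refine ⟨Nat.card D.X, D.X, D.ζ '' {ψ | ψ ≠ 1}, hs, D.block, D.disj, rfl, hr, ⟨χ₁, hχ₁, hone⟩,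
    D.a, D.d, D.δ, D.ζ, D.sign, fun χ hχ => ⟨D.a_ne χ hχ, fun z y hz hy hy1 =>
      D.valX χ hχ z ⟨y, hy⟩ (fun e => hy1 (congrArg Subtype.val e)) hz⟩,
    fun ψ hψ => ⟨ψ, hψ, rfl⟩, fun η ⟨ψ, hψ, he⟩ => ⟨ψ, hψ, he⟩, ?_, ?_, ?_, ?_, ?_⟩
  · rintro ψ ψ' hψ hn
    have hψ' : ψ' ≠ 1 := by
      rintro rfl
      obtain ⟨n, hn, h⟩ := hn
      refine hψ (MonoidHom.ext fun w => ?_)
      rw [MonoidHom.one_apply]
      exact (h w ⟨n * w * n⁻¹, (Subgroup.mem_normalizer_iff.mp hn _).mp w.2⟩ rfl).symm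
    rw [D.ζ_eq_iff ψ' ψ hψ' hψ]
    obtain ⟨n, hn, h⟩ := hn
    funext w
    have ha : Subgroup.normalizerMonoidHom (P : Subgroup G) ⟨n, hn⟩ ∈ Cfsg.Agent.FrobSection.autP P :=
      ⟨_, rfl⟩
    refine finsum_eq_of_bijective (fun b => (⟨_, ha⟩⁻¹ : Cfsg.Agent.FrobSection.autP P) * b)
      (Equiv.mulLeft _).bijective fun b => ?_
    refine congrArg (fun u : ℂˣ => (u : ℂ)) (h _ _ ?_)
    have : ((Subgroup.normalizerMonoidHom (P : Subgroup G) ⟨n, hn⟩)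
        (((⟨_, ha⟩⁻¹ : Cfsg.Agent.FrobSection.autP P) * b).1 w) : ↥(P : Subgroup G)) = b.1 w := by
      simp [MulAut.mul_apply]
    rw [← congrArg Subtype.val this]
    rfl
  · intro ψ hψ z y hz hy
    rw [hS.orb_eq_finsum hψ y]
    exact D.valY ψ hψ z y (fun e => hy (congrArg Subtype.val e)) hz
  · have : ((Nat.card ↥(P : Subgroup G) : ℤ) - 1) / (m : ℤ) =
        (Nat.card (D.ζ '' {ψ | ψ ≠ 1}) : ℤ) := by
      rw [← hY]
      push_cast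
      rw [add_sub_cancel_right, Int.mul_ediv_cancel_left _ (by omega)]
    rw [this]; exact hnorm
  · exact fun η hη η' hη' g hg => D.eq_regular hS hη hη' hg
  · intro η hη g hg
    rw [← hr]
    exact D.relation hS hη hg

end Cfsg.Agent.S4709
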