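import Cfsg.Statements.S4711
import Cfsg.Agent.Lib.BlocksNormal.SquareSum
import Cfsg.Agent.Lib.BlocksNormal.Cover
import Cfsg.Agent.Lib.BlocksNormal.Deflate
import Cfsg.Agent.Lib.CharApp.Clifford
import Cfsg.Agent.Lib.CharApp.CosetParts
import Cfsg.Agent.Lib.CentralChar.Twist
import Cfsg.Agent.Lib.PSeries.LengthOne
import Cfsg.Agent.Lib.Char.Linear
import Cfsg.Agent.Lib.Codegree.Basic
import Cfsg.Agent.Lib.Cores.Subnormal

set_option autoImplicit false
open Cfsg

namespace Cfsg.Agent.S4711

open scoped ComplexConjugate Pointwise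
open Cfsg.Agent.Blocks Cfsg.Agent.BlocksNormal

section

universe u

variable {p : ℕ} [hp : Fact p.Prime] {M : Ideal AlgInt}

/-- A character whose composition with a homomorphism is irreducible is irreducible. -/
theorem irr_of_comp {X Y : Type u} [Group X] [Fintype X] [Group Y] [Fintype Y] (f : X →* Y)
    {ψ : Y → ℂ} (hψ : IsCharacter Y ψ) (h : IsIrrCharacter X fun x => ψ (f x)) :
    IsIrrCharacter Y ψ := by
  classical
  have := Fintype.ofFinite (IrrCharacter Y)
  choose m hm using fun φ : IrrCharacter Y =>
    Char.IsCharacter.classInner_nat hψ (Char.IsIrrCharacter.isCharacter φ.2)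
  choose n hn using fun φ φ' : IrrCharacter Y =>
    Char.IsCharacter.classInner_nat (Char.IsCharacter.comp_hom (Char.IsIrrCharacter.isCharacter φ.2) f)
      (Char.IsCharacter.comp_hom (Char.IsIrrCharacter.isCharacter φ'.2) f)
  have he : ∀ y, ψ y = ∑ φ : IrrCharacter Y, (m φ : ℂ) * (φ : Y → ℂ) y := fun y => by
    conv_lhs => rw [Char.classFunction_eq_sum (Char.IsCharacter.isClassFunction hψ)]
    simp [Finset.sum_apply, hm]
  have h1 : (1 : ℂ) = ∑ φ : IrrCharacter Y, ∑ φ' : IrrCharacter Y,
      (m φ : ℂ) * (m φ' : ℂ) * (n φ φ' : ℂ) := by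
    rw [← Char.classInner_irr_self h]
    simp only [classInner, ← hn]
    simp only [he, map_sum, map_mul, Complex.conj_natCast, Finset.sum_mul_sum]
    simp only [Finset.mul_sum]
    rw [Finset.sum_comm]
    refine Finset.sum_congr rfl fun φ _ => ?_
    rw [Finset.sum_comm]
    exact Finset.sum_congr rfl fun φ' _ => Finset.sum_congr rfl fun x _ => by ring
  have h1' : ∑ φ : IrrCharacter Y, ∑ φ' : IrrCharacter Y, m φ * m φ' * n φ φ' = 1 := by
    exact_mod_cast h1.symm
  have hself : ∀ φ : IrrCharacter Y, 1 ≤ n φ φ := by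
    intro φ
    by_contra hlt
    have h0 := hn φ φ
    rw [show n φ φ = 0 by omega, Nat.cast_zero] at h0
    refine irr_one_ne_zero φ ?_
    have hsum : ∑ x : X, Complex.normSq ((φ : Y → ℂ) (f x)) = 0 := by
      rw [classInner, mul_eq_zero] at h0
      have h0' := h0.resolve_left (inv_ne_zero (Nat.cast_ne_zero.mpr Nat.card_pos.ne'))
      simp only [Complex.mul_conj] at h0'
      exact_mod_cast h0'
    have := (Finset.sum_eq_zero_iff_of_nonneg fun x _ => Complex.normSq_nonneg _).mp hsum 1
      (Finset.mem_univ _)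
    simpa using this
  refine (Char.isIrrCharacter_iff_norm_one hψ).mpr ?_
  have hle : ∑ φ : IrrCharacter Y, m φ * m φ ≤ 1 := by
    rw [← h1']
    refine Finset.sum_le_sum fun φ _ => ?_
    refine le_trans ?_ (Finset.single_le_sum (fun φ' _ => Nat.zero_le _) (Finset.mem_univ φ))
    exact Nat.le_mul_of_pos_right _ (hself φ)
  have hne : ∑ φ : IrrCharacter Y, m φ * m φ ≠ 0 := by
    intro h0
    have hz : ∀ φ, m φ = 0 := fun φ => by
      simpa using (Finset.sum_eq_zero_iff.mp h0 φ (Finset.mem_univ φ))
    simp [hz] at h1'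
  have hnorm : classInner ψ ψ = ((∑ φ : IrrCharacter Y, m φ * m φ : ℕ) : ℂ) := by
    conv_lhs => arg 1; rw [Char.classFunction_eq_sum (Char.IsCharacter.isClassFunction hψ)]
    rw [Char.classInner_sum_left]
    push_cast
    refine Finset.sum_congr rfl fun φ _ => ?_
    rw [Char.classInner_smul_left, hm, ← Char.classInner_conj_symm, hm, Complex.conj_natCast]
  rw [hnorm, show (∑ φ : IrrCharacter Y, m φ * m φ) = 1 by omega, Nat.cast_one]

theorem one_mem_principal (hM : IsPModular p M) (X : Type u) [Group X] :
    (BrauerPairs.oneIrr X) ∈ principalBlock M X := Blocks.sameBlock_refl hM _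

theorem isPBlock_principal (X : Type u) [Group X] : IsPBlock M (principalBlock M X) :=
  ⟨BrauerPairs.oneIrr X, rfl⟩

/-- The restriction hypothesis. -/
def Restr (M : Ideal AlgInt) {G : Type u} [Group G] (P : Sylow p G) : Prop :=
  ∀ χ ∈ principalBlock M G, IsIrrCharacter ↥(Subgroup.normalizer ((P : Subgroup G) : Set G))
    fun n => (χ : G → ℂ) n

theorem restr_quotient (hM : IsPModular p M) {G : Type u} [Group G] [Fintype G] {P : Sylow p G}
    (h : Restr M P) (K : Subgroup G) [K.Normal] :
    Restr M (P.mapSurjective (QuotientGroup.mk'_surjective K)) := by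
  classical
  have := Fintype.ofFinite (G ⧸ K)
  intro ψ hψ
  set π := QuotientGroup.mk' K
  set Q := P.mapSurjective (QuotientGroup.mk'_surjective K)
  let χ : IrrCharacter G := Codegree.inflate K ψ
  have hχ : χ ∈ principalBlock M G :=
    sameBlock_comp hM (QuotientGroup.mk'_surjective K) (χ := BrauerPairs.oneIrr (G ⧸ K)) (ψ := ψ) hψ
  have hle : ∀ n ∈ Subgroup.normalizer ((P : Subgroup G) : Set G),
      π n ∈ Subgroup.normalizer ((Q : Subgroup (G ⧸ K)) : Set (G ⧸ K)) := fun n hn => by
    rw [Sylow.coe_mapSurjective]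
    exact Subgroup.le_normalizer_map π (Subgroup.mem_map_of_mem π hn)
  let f : ↥(Subgroup.normalizer ((P : Subgroup G) : Set G)) →*
      ↥(Subgroup.normalizer ((Q : Subgroup (G ⧸ K)) : Set (G ⧸ K))) :=
    (π.comp (Subgroup.subtype _)).codRestrict _ fun n => hle n n.2
  exact irr_of_comp f (Char.IsCharacter.restrict (Char.IsIrrCharacter.isCharacter ψ.2) _) (h χ hχ)

/-- The hypothesis makes `P O_{p'}(G)` normal. -/
theorem normal_of_restr (hM : IsPModular p M) (n : ℕ) : ∀ (G : Type u) [Group G] [Finite G],
    Nat.card G = n → ∀ P : Sylow p G, Restr M P → ((P : Subgroup G) ⊔ pPrimeCore p G).Normal := by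
  induction n using Nat.strong_induction_on with
  | _ n ih =>
    intro G _ _ hn P h
    classical
    have := Fintype.ofFinite G
    by_cases hO : pPrimeCore p G = ⊥
    swap
    · have hlt : Nat.card (G ⧸ pPrimeCore p G) < n := by
        rw [← hn, ← Subgroup.index_eq_card]
        exact Nat.lt_of_lt_of_eq (lt_mul_left (Nat.pos_of_ne_zero Subgroup.index_ne_zero_of_finite)
          (Subgroup.one_lt_card_iff_ne_bot _ |>.mpr hO)) (Subgroup.card_mul_index _)
      have h1 := ih _ hlt (G ⧸ pPrimeCore p G) rfl _ (restr_quotient hM h (pPrimeCore p G))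
      rw [Cores.pPrimeCore_quotient_self, sup_bot_eq, Sylow.coe_mapSurjective] at h1
      have h2 := h1.comap (QuotientGroup.mk' (pPrimeCore p G))
      rwa [Subgroup.comap_map_eq, QuotientGroup.ker_mk'] at h2
    rw [hO, sup_bot_eq]
    by_cases hG : Subsingleton G
    · exact ⟨fun x hx g => by rwa [Subsingleton.elim (g * x * g⁻¹) x]⟩
    rw [not_subsingleton_iff_nontrivial] at hG
    obtain ⟨L, ⟨hLn, hL1⟩, hLmin⟩ := exists_minimal_of_wellFoundedLT
      (fun K : Subgroup G => K.Normal ∧ K ≠ ⊥) ⟨⊤, inferInstance, top_ne_bot⟩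
    haveI := hLn
    have hmin : ∀ K : Subgroup G, K.Normal → K ≤ L → K = ⊥ ∨ K = L := fun K hK hle => by
      by_cases hK1 : K = ⊥
      · exact Or.inl hK1
      · exact Or.inr (le_antisymm hle (hLmin ⟨hK, hK1⟩ hle))
    have hpL : p ∣ Nat.card L := by
      by_contra hnd
      exact hL1 (le_bot_iff.mp (hO ▸ Cores.le_pPrimeCore hLn
        ((hp.out.coprime_iff_not_dvd.mpr hnd).symm)))
    have := Fintype.ofFinite L
    have := Fintype.ofFinite (IrrCharacter L)
    -- the principal block of `G` covers every member of the principal block of `L`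
    have hunder : ∀ θ ∈ principalBlock M L, ∃ χ ∈ principalBlock M G,
        classInner (fun x : L => (χ : G → ℂ) x) (θ : L → ℂ) ≠ 0 := fun θ hθ =>
      CosetParts.exists_under_of_covers L hM (isPBlock_principal G) (isPBlock_principal L)
        ⟨BrauerPairs.oneIrr G, one_mem_principal hM G, BrauerPairs.oneIrr L, one_mem_principal hM L, by
          rw [show (fun x : L => (BrauerPairs.oneIrr G : G → ℂ) x) = (BrauerPairs.oneIrr L : L → ℂ) from rfl,
            Char.classInner_irr_self (BrauerPairs.oneIrr L).2]
          exact one_ne_zero⟩ hθ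
    have hker : ∀ (χ : IrrCharacter G) (θ : IrrCharacter L),
        classInner (fun x : L => (χ : G → ℂ) x) (θ : L → ℂ) ≠ 0 → θ ≠ BrauerPairs.oneIrr L →
          ¬ L ≤ Codegree.kerSub χ := by
      intro χ θ hne hθ hle
      refine hne ?_
      rw [show (fun x : L => (χ : G → ℂ) x) = (χ : G → ℂ) 1 • (BrauerPairs.oneIrr L : L → ℂ) from
        funext fun x => by
          show (χ : G → ℂ) x = (χ : G → ℂ) 1 * 1
          rw [mul_one]
          exact hle x.2,
        Char.classInner_smul_left, Char.classInner_irr_of_ne (BrauerPairs.oneIrr L).2 θ.2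
          (fun e => hθ (Subtype.ext e).symm), mul_zero]
    have hLP : L ≤ (P : Subgroup G) := by
      -- the Sylow subgroup `R` of `L`
      set R : Subgroup L := (P : Subgroup G).subgroupOf L with hRdef
      have hRp : IsPGroup p R := P.2.comap_of_injective _ L.subtype_injective
      have hRi : ¬ p ∣ R.index :=
        Cores.not_dvd_relIndex_of_isSubnormal P hLn.isSubnormal
      set S := hRp.toSylow hRi
      have hS : (S : Subgroup L) = R := hRp.toSylow_coe hRi
      have := Fintype.ofFinite R
      have hzero : ∀ θ ∈ principalBlock M L, θ ≠ BrauerPairs.oneIrr L →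
          ∑ u : R, (θ : L → ℂ) u = 0 := by
        intro θ hθ hθ1
        obtain ⟨χ, hχ, hne⟩ := hunder θ hθ
        have hirr := h χ hχ
        set N := Subgroup.normalizer ((P : Subgroup G) : Set G)
        have := Fintype.ofFinite N
        set R' : Subgroup N := ((P : Subgroup G) ⊓ L).subgroupOf N
        have : R'.Normal := ⟨fun x hx g => by
          rw [Subgroup.mem_subgroupOf, Subgroup.mem_inf] at hx ⊢
          exact ⟨(Subgroup.mem_normalizer_iff.mp g.2 _).mp hx.1, hLn.conj_mem _ hx.2 _⟩⟩
        have := Fintype.ofFinite R'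
        have hsum : ∑ u : R, (χ : G → ℂ) ((u : L) : G) = 0 := by
          by_contra hs
          have hc : classInner (fun x : R' => (χ : G → ℂ) ((x : N) : G)) 1 ≠ 0 := by
            simp only [classInner, Pi.one_apply, map_one, mul_one]
            refine mul_ne_zero (inv_ne_zero (Nat.cast_ne_zero.mpr Nat.card_pos.ne')) fun h0 => hs ?_
            rw [← h0]
            let e : R ≃ R' :=
              { toFun := fun u => ⟨⟨((u : L) : G), Subgroup.le_normalizer u.2⟩,
                  Subgroup.mem_subgroupOf.mpr (Subgroup.mem_inf.mpr ⟨u.2, (u : L).2⟩)⟩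
                invFun := fun x => ⟨⟨((x : N) : G), (Subgroup.mem_inf.mp (Subgroup.mem_subgroupOf.mp x.2)).2⟩,
                  (Subgroup.mem_inf.mp (Subgroup.mem_subgroupOf.mp x.2)).1⟩
                left_inv := fun u => rfl
                right_inv := fun x => rfl }
            exact Fintype.sum_equiv e _ _ fun u => rfl
          have htriv := CharApp.trivOn_of_constituent_one R' hirr hc
          have hKer : L ⊓ Codegree.kerSub χ ≠ ⊥ := by
            obtain ⟨u, hu⟩ : ∃ u : R, u ≠ 1 := by
              by_contra hall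
              push Not at hall
              haveI : Subsingleton R := ⟨fun a b => (hall a).trans (hall b).symm⟩
              refine hRi ?_
              rw [← R.card_mul_index, Nat.card_of_subsingleton (1 : R), one_mul] at hpL
              exact hpL
            intro hb
            refine hu (Subtype.ext (Subtype.ext ?_))
            have hmem : ((u : L) : G) ∈ L ⊓ Codegree.kerSub χ := ⟨(u : L).2,
              htriv ⟨⟨((u : L) : G), Subgroup.le_normalizer u.2⟩,
                Subgroup.mem_subgroupOf.mpr (Subgroup.mem_inf.mpr ⟨u.2, (u : L).2⟩)⟩⟩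
            rwa [hb, Subgroup.mem_bot] at hmem
          exact hker χ θ hne hθ1
            ((inf_eq_left).mp ((hmin _ inferInstance inf_le_left).resolve_left hKer))
        have hrc := Char.IsCharacter.restrict (Char.IsIrrCharacter.isCharacter χ.2) L
        choose m hm using fun φ : IrrCharacter L =>
          Char.IsCharacter.classInner_nat hrc (Char.IsIrrCharacter.isCharacter φ.2)
        choose r hr using fun φ : IrrCharacter L =>
          Char.IsCharacter.classInner_nat (Char.IsCharacter.restrict (Char.IsIrrCharacter.isCharacter φ.2) R)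
            (Char.IsIrrCharacter.isCharacter (BrauerPairs.oneIrr R).2)
        have hr' : ∀ φ : IrrCharacter L, ∑ u : R, (φ : L → ℂ) u = (Nat.card R : ℂ) * r φ := fun φ => by
          rw [← hr φ, classInner, ← mul_assoc, mul_inv_cancel₀ (Nat.cast_ne_zero.mpr Nat.card_pos.ne'),
            one_mul]
          simp [BrauerPairs.oneIrr]
        have hexp : ∀ x : L, (χ : G → ℂ) x = ∑ φ : IrrCharacter L, (m φ : ℂ) * (φ : L → ℂ) x := fun x => by
          have := congrFun (Char.classFunction_eq_sum (Char.IsCharacter.isClassFunction hrc)) x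
          rw [this]
          simp [Finset.sum_apply, hm]
        simp only [hexp] at hsum
        rw [Finset.sum_comm] at hsum
        simp only [← Finset.mul_sum, hr'] at hsum
        have hsum' : ∑ φ : IrrCharacter L, m φ * (Nat.card R * r φ) = 0 := by exact_mod_cast hsum
        have h0 := Finset.sum_eq_zero_iff.mp hsum' θ (Finset.mem_univ θ)
        rcases Nat.mul_eq_zero.mp h0 with h0 | h0
        · exact absurd (by rw [hm θ, h0, Nat.cast_zero]) hne
        · rw [hr', (Nat.mul_eq_zero.mp h0).resolve_left Nat.card_pos.ne', Nat.cast_zero, mul_zero]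
      have hsq : ∑ᶠ θ ∈ principalBlock M L, (θ : L → ℂ) 1 * (θ : L → ℂ) 1 =
          (Nat.card (S : Subgroup L) : ℂ) := by
        rw [hS, finsum_mem_eq_toFinset_sum]
        have h1 : ∑ θ ∈ (principalBlock M L).toFinset,
            (θ : L → ℂ) 1 * ∑ u : R, (θ : L → ℂ) u = (Nat.card R : ℂ) := by
          rw [Finset.sum_eq_single (BrauerPairs.oneIrr L)]
          · simp [BrauerPairs.oneIrr, Nat.card_eq_fintype_card]
          · intro θ hθ hne
            rw [hzero θ (Set.mem_toFinset.mp hθ) hne, mul_zero]
          · exact fun h' => absurd (Set.mem_toFinset.mpr (one_mem_principal hM L)) h'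
        rw [← h1]
        simp only [Finset.mul_sum]
        rw [Finset.sum_comm, Finset.sum_eq_single (1 : R)]
        · simp
        · intro u _ hu
          have hord : p ∣ orderOf (u : L) := by
            obtain ⟨j, hj⟩ := IsPGroup.iff_orderOf.mp hRp u
            rw [Subgroup.orderOf_coe, hj]
            refine dvd_pow_self p fun h0 => hu ?_
            rw [h0, pow_zero, orderOf_eq_one_iff] at hj
            exact hj
          have h2 := congrArg conj (weak_orth hM (blockInd_mem_intRing hM (isPBlock_principal L))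
            (x := 1) (by simpa using hp.out.ne_one) hord)
          simp only [finsum_mem_eq_toFinset_sum, map_sum, map_mul, Complex.conj_conj, map_zero,
            fun θ : IrrCharacter L => Char.IsCharacter.conj_apply_one (Char.IsIrrCharacter.isCharacter θ.2)] at h2
          exact h2
        · simp
      have hcore : pPrimeCore p L = ⊥ := by
        haveI := Cores.map_subtype_normal_of_characteristic L (pPrimeCore p L)
        rw [← Subgroup.map_eq_bot_iff_of_injective _ L.subtype_injective, ← le_bot_iff, ← hO]
        refine Cores.le_pPrimeCore inferInstance ?_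
        rw [Subgroup.card_map_of_injective L.subtype_injective]
        exact Cores.coprime_card_pPrimeCore p
      have hLp : IsPGroup p L := isPGroup_of_sum_sq hM hcore S hsq
      have hsup : IsPGroup p (L ⊔ (P : Subgroup G) : Subgroup G) := hLp.to_sup_of_normal_left P.2
      calc L ≤ L ⊔ (P : Subgroup G) := le_sup_left
        _ = P := P.3 hsup le_sup_right
    have hLp : IsPGroup p L := P.2.to_le hLP
    have hab : ∀ a b : L, a * b = b * a := by
      haveI : Nontrivial L := (Subgroup.nontrivial_iff_ne_bot L).mpr hL1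
      haveI := hLp.center_nontrivial
      haveI : ((Subgroup.center L).map L.subtype).Normal :=
        Cores.map_subtype_normal_of_characteristic L _
      have hc : (Subgroup.center L).map L.subtype = L := (hmin _ inferInstance
        (Subgroup.map_subtype_le _)).resolve_left (by
          rw [Subgroup.map_eq_bot_iff_of_injective _ L.subtype_injective]
          exact (Subgroup.nontrivial_iff_ne_bot _).mp inferInstance)
      intro a b
      have hb : (b : G) ∈ (Subgroup.center L).map L.subtype := hc.symm ▸ b.2
      obtain ⟨b', hb', hbb⟩ := hb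
      obtain rfl := L.subtype_injective hbb
      exact Subgroup.mem_center_iff.mp hb' a
    -- a non-trivial character of `L` fixed by `P`
    obtain ⟨lam, hlam1, hlamP⟩ : ∃ lam : IrrCharacter L, lam ≠ BrauerPairs.oneIrr L ∧
        ∀ x ∈ (P : Subgroup G), conjIrr L x lam = lam := by
      let act : MulAction (P : Subgroup G) (IrrCharacter L) :=
        { smul := fun x θ => conjIrr L (x : G) θ
          one_smul := fun θ => conjIrr_one L θ
          mul_smul := fun x y θ => conjIrr_mul L (x : G) (y : G) θ }
      have hd : p ∣ Nat.card (IrrCharacter L) := by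
        rw [Char.card_irr_eq_card_conjClasses, Char.card_conjClasses_of_comm hab]
        exact hpL
      obtain ⟨θ, hθ, hne⟩ := P.2.exists_fixed_point_of_prime_dvd_card_of_fixed_point (IrrCharacter L) hd
        (a := BrauerPairs.oneIrr L) (fun x => Subtype.ext (funext fun _ => rfl))
      exact ⟨θ, fun e => hne e.symm, fun x hx => hθ ⟨x, hx⟩⟩
    have hall : ∀ θ : IrrCharacter L, θ ∈ principalBlock M L := fun θ =>
      sameBlock_of_isPGroup hM hLp (BrauerPairs.oneIrr L) θ
    obtain ⟨χ, hχ, hne⟩ := hunder lam (hall lam)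
    -- all conjugates are fixed
    set N := Subgroup.normalizer ((P : Subgroup G) : Set G)
    have hLN : L ≤ N := hLP.trans Subgroup.le_normalizer
    have hfixed : ∀ g, ∀ x ∈ (P : Subgroup G), conjIrr L x (conjIrr L g lam) = conjIrr L g lam := by
      have := Fintype.ofFinite N
      set L' : Subgroup N := L.subgroupOf N
      have := Fintype.ofFinite L'
      let e : L' ≃* L := Subgroup.subgroupOfEquivOfLe hLN
      let tr : IrrCharacter L → IrrCharacter L' := fun θ =>
        ⟨fun y => (θ : L → ℂ) (e y), Char.IsIrrCharacter.comp_equiv θ.2 e⟩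
      have hin : ∀ θ : IrrCharacter L, classInner (fun y : L' => (χ : G → ℂ) ((y : N) : G))
          (tr θ : L' → ℂ) = classInner (fun x : L => (χ : G → ℂ) x) (θ : L → ℂ) := fun θ =>
        Char.classInner_comp_equiv e (fun x : L => (χ : G → ℂ) x) (θ : L → ℂ)
      intro g x hx
      have hne' : classInner (fun y : L' => (χ : G → ℂ) ((y : N) : G))
          (tr (conjIrr L g lam) : L' → ℂ) ≠ 0 := by
        rw [hin, constituent_conjIrr]; exact hne
      obtain ⟨c, hc⟩ : ∃ c : N, tr (conjIrr L g lam) = ⟨_, CliffordChar.isIrr_conjFun L' c (tr lam).2⟩ := by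
        by_contra hcon
        push Not at hcon
        apply hne'
        rw [CliffordChar.restrict_eq L' (h χ hχ) (tr lam).2 (by rw [hin]; exact hne),
          Char.classInner_smul_left]
        refine mul_eq_zero_of_right _ ?_
        rw [CliffordChar.orbitSum, Char.classInner_sum_left]
        exact Finset.sum_eq_zero fun c _ => Char.classInner_irr_of_ne
            (CliffordChar.isIrr_conjFun L' c (tr lam).2) (tr (conjIrr L g lam)).2
            fun e' => hcon c (Subtype.ext e'.symm)
      have hgc : conjIrr L g lam = conjIrr L (c : G) lam := by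
        refine Subtype.ext (funext fun y => ?_)
        have h1 := congrFun (congrArg Subtype.val hc) (e.symm y)
        simp only [tr, MulEquiv.apply_symm_apply] at h1
        rw [h1]
        show CliffordChar.conjFun L' c (fun y => (lam : L → ℂ) (e y)) (e.symm y) =
          CliffordChar.conjFun L (c : G) (lam : L → ℂ) y
        rw [CliffordChar.conjFun_apply, CliffordChar.conjFun_apply]
        rfl
      have hxc : (c : G)⁻¹ * x * c ∈ (P : Subgroup G) := by
        have := (Subgroup.mem_normalizer_iff.mp (N.inv_mem c.2) x).mp hx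
        rwa [inv_inv] at this
      rw [hgc, ← conjIrr_mul, show x * (c : G) = c * ((c : G)⁻¹ * x * c) by group, conjIrr_mul,
        hlamP _ hxc]
    -- so `P` centralises `L`
    obtain ⟨l, hl⟩ := Char.exists_hom_of_degree_one (Char.IsIrrCharacter.isCharacter lam.2)
      (Char.apply_one_eq_one_of_comm hab lam)
    let K : Subgroup G :=
      { carrier := {x | x ∈ L ∧ ∀ g, ∀ hg : g⁻¹ * x * g ∈ L, l ⟨_, hg⟩ = 1}
        one_mem' := ⟨one_mem L, fun g hg => by
          rw [show (⟨g⁻¹ * 1 * g, hg⟩ : L) = 1 from Subtype.ext (by simp), map_one]⟩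
        mul_mem' := fun {a b} ha hb => ⟨mul_mem ha.1 hb.1, fun g hg => by
          have e1 : g⁻¹ * a * g ∈ L := by simpa using hLn.conj_mem a ha.1 g⁻¹
          have e2 : g⁻¹ * b * g ∈ L := by simpa using hLn.conj_mem b hb.1 g⁻¹
          rw [show (⟨g⁻¹ * (a * b) * g, hg⟩ : L) = ⟨_, e1⟩ * ⟨_, e2⟩ from Subtype.ext (by
            show g⁻¹ * (a * b) * g = g⁻¹ * a * g * (g⁻¹ * b * g); group), map_mul, ha.2, hb.2, one_mul]⟩
        inv_mem' := fun {a} ha => ⟨inv_mem ha.1, fun g hg => by
          have e1 : g⁻¹ * a * g ∈ L := by simpa using hLn.conj_mem a ha.1 g⁻¹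
          have h2 : l ⟨g⁻¹ * a⁻¹ * g, hg⟩ * l ⟨_, e1⟩ = l 1 := by
            rw [← map_mul]
            congr 1
            exact Subtype.ext (by show g⁻¹ * a⁻¹ * g * (g⁻¹ * a * g) = 1; group)
          rwa [ha.2 g e1, mul_one, map_one] at h2⟩ }
    have hKn : K.Normal := ⟨fun x hx c => ⟨hLn.conj_mem x hx.1 c, fun g hg => by
      have e1 : (c⁻¹ * g)⁻¹ * x * (c⁻¹ * g) ∈ L := by simpa using hLn.conj_mem x hx.1 (c⁻¹ * g)⁻¹
      rw [← hx.2 (c⁻¹ * g) e1]
      congr 1
      exact Subtype.ext (by show g⁻¹ * (c * x * c⁻¹) * g = (c⁻¹ * g)⁻¹ * x * (c⁻¹ * g); group)⟩⟩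
    have hK1 : K = ⊥ := by
      refine (hmin K hKn fun x hx => hx.1).resolve_right fun hKL => hlam1 (Subtype.ext (funext fun y => ?_))
      have hy : (y : G) ∈ K := hKL.symm ▸ y.2
      have := hy.2 1 (by simp)
      rw [← hl]
      show l y = 1
      convert this using 2
      exact Subtype.ext (by simp)
    have hcent : (P : Subgroup G) ≤ Subgroup.centralizer (L : Set G) := by
      intro x hx
      rw [Subgroup.mem_centralizer_iff]
      intro y hy
      have hmem : y * x * y⁻¹ * x⁻¹ ∈ K := by
        have hxy : x * y * x⁻¹ ∈ L := hLn.conj_mem y hy x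
        have hL' : y * x * y⁻¹ * x⁻¹ ∈ L := by
          rw [show y * x * y⁻¹ * x⁻¹ = y * (x * y⁻¹ * x⁻¹) by group]
          exact mul_mem hy (hLn.conj_mem _ (inv_mem hy) x)
        refine ⟨hL', fun g hg => ?_⟩
        have e1 : g⁻¹ * y * g ∈ L := by simpa using hLn.conj_mem y hy g⁻¹
        have e2 : g⁻¹ * (x * y⁻¹ * x⁻¹) * g ∈ L := by
          simpa using hLn.conj_mem _ (hLn.conj_mem _ (inv_mem hy) x) g⁻¹
        have hfix := congrFun (congrArg Subtype.val (hfixed g x hx)) ⟨x * y⁻¹ * x⁻¹, hLn.conj_mem _ (inv_mem hy) x⟩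
        rw [show ((conjIrr L x (conjIrr L g lam) : IrrCharacter L) : L → ℂ) =
          CliffordChar.conjFun L x (conjIrr L g lam : L → ℂ) from rfl, CliffordChar.conjFun_apply] at hfix
        simp only [conjIrr, CliffordChar.conjFun_apply, ← hl] at hfix
        have e3 : g⁻¹ * y⁻¹ * g ∈ L := by simpa using hLn.conj_mem _ (inv_mem hy) g⁻¹
        rw [show (⟨g⁻¹ * (y * x * y⁻¹ * x⁻¹) * g, hg⟩ : L) = ⟨_, e1⟩ * ⟨_, e2⟩ from Subtype.ext (by
          show g⁻¹ * (y * x * y⁻¹ * x⁻¹) * g = g⁻¹ * y * g * (g⁻¹ * (x * y⁻¹ * x⁻¹) * g); group),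
          map_mul, ← hfix, ← map_mul, ← map_one l]
        congr 1
        exact Subtype.ext (by
          show g⁻¹ * y * g * (g⁻¹ * (x⁻¹ * (x * y⁻¹ * x⁻¹) * x) * g) = 1; group)
      rw [hK1, Subgroup.mem_bot, mul_inv_eq_one, mul_inv_eq_iff_eq_mul] at hmem
      exact hmem
    -- the quotient by `L`
    have hlt : Nat.card (G ⧸ L) < n := by
      rw [← hn, ← Subgroup.index_eq_card]
      exact Nat.lt_of_lt_of_eq (lt_mul_left (Nat.pos_of_ne_zero Subgroup.index_ne_zero_of_finite)
        (Subgroup.one_lt_card_iff_ne_bot _ |>.mpr hL1)) (Subgroup.card_mul_index _)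
    have h1 := ih _ hlt (G ⧸ L) rfl _ (restr_quotient hM h L)
    set X := (pPrimeCore p (G ⧸ L)).comap (QuotientGroup.mk' L) with hX
    have h2 := h1.comap (QuotientGroup.mk' L)
    rw [Sylow.coe_mapSurjective, ← Subgroup.map_comap_eq_self_of_surjective (QuotientGroup.mk'_surjective L)
      (pPrimeCore p (G ⧸ L)), ← Subgroup.map_sup, Subgroup.comap_map_eq, QuotientGroup.ker_mk', ← hX,
      sup_assoc, sup_eq_left.mpr (show L ≤ X from QuotientGroup.le_comap_mk' L _)] at h2
    set C := Subgroup.centralizer (L : Set G) with hC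
    have hLC : L ≤ C := fun a ha => Subgroup.mem_centralizer_iff.mpr fun b hb =>
      congrArg Subtype.val (hab ⟨b, hb⟩ ⟨a, ha⟩)
    have hCn : C.Normal := by
      rw [hC]
      exact ⟨fun a ha c => (conj_mem_centralizer_iff (by simp [Subgroup.normalizer_eq_top]) a).mpr ha⟩
    have hXn : X.Normal := inferInstance
    set Dsub := X ⊓ C with hDsub
    have hLD : L ≤ Dsub := le_inf (QuotientGroup.le_comap_mk' L _) hLC
    have hDL : Dsub ≤ L := by
      set L₁ : Subgroup Dsub := L.subgroupOf Dsub
      have hnd : ¬ p ∣ L₁.index := by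
        intro hd
        refine Cores.not_dvd_card_pPrimeCore (p := p) (G := G ⧸ L) (hd.trans ?_)
        have h3 : L.relIndex X = Nat.card (pPrimeCore p (G ⧸ L)) := by
          rw [← Subgroup.relIndex_bot_left (pPrimeCore p (G ⧸ L)),
            show pPrimeCore p (G ⧸ L) = X.map (QuotientGroup.mk' L) from
              (Subgroup.map_comap_eq_self_of_surjective (QuotientGroup.mk'_surjective L) _).symm,
            ← Subgroup.relIndex_comap, MonoidHom.comap_bot, QuotientGroup.ker_mk']
        rw [← h3]
        show L.relIndex Dsub ∣ L.relIndex X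
        rw [← Subgroup.relIndex_mul_relIndex L Dsub X hLD inf_le_left]
        exact dvd_mul_right _ _
      have hcop : Nat.Coprime (Nat.card L₁) L₁.index := by
        obtain ⟨j, hj⟩ := hLp.exists_card_eq
        rw [Nat.card_congr (Subgroup.subgroupOfEquivOfLe hLD).toEquiv, hj]
        exact ((hp.out.coprime_iff_not_dvd.mpr hnd)).pow_left j
      obtain ⟨Y, hY⟩ := Subgroup.exists_right_complement'_of_coprime hcop
      have hYn : Y.Normal := by
        refine ⟨fun y hy z => ?_⟩
        obtain ⟨⟨a, b⟩, hab', -⟩ := hY.existsUnique z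
        simp only at hab'
        rw [← hab']
        have hcom : ∀ w : Dsub, (a : Dsub) * w = w * (a : Dsub) := fun w =>
          Subtype.ext (Subgroup.mem_centralizer_iff.mp w.2.2 _ (Subgroup.mem_subgroupOf.mp a.2))
        have e : (a : Dsub) * b * y * ((a : Dsub) * b)⁻¹ = (b : Dsub) * y * (b : Dsub)⁻¹ := by
          rw [show (a : Dsub) * b * y * ((a : Dsub) * b)⁻¹ =
            (a : Dsub) * ((b : Dsub) * y * (b : Dsub)⁻¹) * (a : Dsub)⁻¹ by group, hcom, mul_inv_cancel_right]
        rw [e]
        exact Y.mul_mem (Y.mul_mem b.2 hy) (Y.inv_mem b.2)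
      have hYc : (Nat.card Y).Coprime p := by
        rw [← hY.symm.index_eq_card] 
        exact (hp.out.coprime_iff_not_dvd.mpr hnd).symm
      have hY1 : Y = ⊥ := by
        refine le_bot_iff.mp ((Cores.le_pPrimeCore hYn hYc).trans (le_bot_iff.mpr ?_))
        haveI := Cores.map_subtype_normal_of_characteristic Dsub (pPrimeCore p Dsub)
        rw [← Subgroup.map_eq_bot_iff_of_injective _ Dsub.subtype_injective, ← le_bot_iff, ← hO]
        refine Cores.le_pPrimeCore inferInstance ?_
        rw [Subgroup.card_map_of_injective Dsub.subtype_injective]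
        exact Cores.coprime_card_pPrimeCore p
      have htop : L₁ = ⊤ := by
        have := hY
        rw [hY1, Subgroup.isComplement'_bot_right] at this
        exact this
      exact Subgroup.subgroupOf_eq_top.mp htop
    have hfinal : ((P : Subgroup G) ⊔ X) ⊓ C ≤ (P : Subgroup G) := by
      intro z hz
      obtain ⟨a, ha, b, hb, rfl⟩ := Subgroup.mem_sup_of_normal_right.mp hz.1
      have hbC : b ∈ C := by
        have := C.mul_mem (C.inv_mem (hcent ha)) hz.2
        rwa [inv_mul_cancel_left] at this
      exact mul_mem ha (hLP (hDL ⟨hb, hbC⟩))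
    rw [← le_antisymm hfinal (le_inf le_sup_left hcent)]
    exact Subgroup.normal_inf_normal _ _

end

/-- Let p be a prime, M a maximal ideal of the algebraic integers containing p, G a finite group, P a Sylow p-subgroup and N = N_G(P). Then G has p-length 1 (G = O_{p',p,p'}(G)) if and only if every irreducible character in the principal p-block of G restricts to an irreducible character of N. -/
theorem result {G : Type*} [Group G] [Finite G] (p : ℕ) [Fact p.Prime] (M : Ideal Cfsg.AlgInt) (hM : Cfsg.IsPModular p M) (P : Sylow p G) : Cfsg.PLengthLE p 1 G ↔ ∀ χ ∈ Cfsg.principalBlock M G, Cfsg.IsIrrCharacter ↥(Subgroup.normalizer ((P : Subgroup G) : Set G)) (fun n : ↥(Subgroup.normalizer ((P : Subgroup G) : Set G)) => (χ : G → ℂ) n) := by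
  classical
  have := Fintype.ofFinite G
  constructor
  · intro hlen χ hχ
    set N := Subgroup.normalizer ((P : Subgroup G) : Set G)
    set O := pPrimeCore p G
    set U := pPrimePCore p G
    have hPU : (P : Subgroup G) ≤ U := PSeries.le_pPrimePCore_of_pLengthLE_one hlen P.2
    have hsup : (P : Subgroup G) ⊔ O = U := by
      refine le_antisymm (sup_le hPU ?_) ?_
      · exact QuotientGroup.le_comap_mk' _ _
      · intro z hz
        have hzU : QuotientGroup.mk' O z ∈ pCore p (G ⧸ O) := hz
        have hle : pCore p (G ⧸ O) ≤ (P : Subgroup G).map (QuotientGroup.mk' O) := by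
          have h1 := (Cores.isPGroup_pCore p (G ⧸ O))
          set Q := P.mapSurjective (QuotientGroup.mk'_surjective O)
          have h2 : IsPGroup p (pCore p (G ⧸ O) ⊔ (Q : Subgroup (G ⧸ O)) : Subgroup (G ⧸ O)) :=
            h1.to_sup_of_normal_left Q.2
          rw [← Sylow.coe_mapSurjective (QuotientGroup.mk'_surjective O) P]
          exact le_sup_left.trans (Q.3 h2 le_sup_right).le
        have := hle hzU
        rw [← Subgroup.mem_comap, Subgroup.comap_map_eq, QuotientGroup.ker_mk'] at this
        exact this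
    have hUn : U.Normal := by
      show (Subgroup.comap _ _).Normal
      infer_instance
    have hNO : N ⊔ O = ⊤ := by
      let P' : Sylow p U := P.subtype hPU
      have h3 := Sylow.normalizer_sup_eq_top P'
      rw [show ((P' : Subgroup U).map U.subtype) = (P : Subgroup G) by
        show ((P : Subgroup G).subgroupOf U).map U.subtype = _
        rw [Subgroup.map_subgroupOf_eq_of_le hPU]] at h3
      rw [← hsup, ← sup_assoc, sup_eq_left.mpr (show (P : Subgroup G) ≤ N from Subgroup.le_normalizer)] at h3
      exact h3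
    have htriv := trivOn_of_sameBlock (χ := BrauerPairs.oneIrr G) (ψ := χ) O hM
      Cores.not_dvd_card_pPrimeCore hχ (fun _ _ => rfl)
    obtain ⟨ψ, hψ⟩ := CentralChar.exists_deflation O χ htriv
    have hsurj : Function.Surjective ((QuotientGroup.mk' O).comp N.subtype) := fun q => by
      obtain ⟨z, rfl⟩ := QuotientGroup.mk_surjective q
      obtain ⟨a, ha, b, hb, rfl⟩ :=
        Subgroup.mem_sup_of_normal_right.mp (hNO ▸ Subgroup.mem_top z)
      refine ⟨⟨a, ha⟩, QuotientGroup.eq.mpr ?_⟩
      simpa using hb
    rw [show (fun x : N => (χ : G → ℂ) x) =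
      fun x => (ψ : G ⧸ O → ℂ) ((QuotientGroup.mk' O).comp N.subtype x) from funext fun x => hψ x]
    exact Char.IsIrrCharacter.comp_surjective ψ.2 _ hsurj
  · intro h
    have hn := normal_of_restr hM (Nat.card G) G rfl P h
    show (upperPSeries p G (2 * 1 + 1)).1 = ⊤
    have hP2 : (P : Subgroup G) ≤ (upperPSeries p G 2).1 := by
      rw [PSeries.upperPSeries_two]
      have h1 : IsPGroup p ((P : Subgroup G).map (QuotientGroup.mk' (pPrimeCore p G))) := P.2.map _
      have h2 : ((P : Subgroup G).map (QuotientGroup.mk' (pPrimeCore p G))).Normal := by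
        have h3 := hn.map _ (QuotientGroup.mk'_surjective (pPrimeCore p G))
        rwa [Subgroup.map_sup, QuotientGroup.map_mk'_self, sup_bot_eq] at h3
      exact fun x hx => (Cores.le_pCore_iff.mpr h1) (Subgroup.mem_map_of_mem _ hx)
    haveI := (upperPSeries p G 2).2
    rw [PSeries.upperPSeries_succ_even (n := 2) even_two (QuotientGroup.mk' (upperPSeries p G 2).1)
      (QuotientGroup.mk'_surjective _) (QuotientGroup.ker_mk' _)]
    rw [← Subgroup.comap_top (QuotientGroup.mk' (upperPSeries p G 2).1)]
    congr 1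
    refine top_le_iff.mp (Cores.le_pPrimeCore inferInstance ?_)
    rw [Subgroup.card_top, ← Subgroup.index_eq_card]
    exact ((Fact.out : p.Prime).coprime_iff_not_dvd.mpr fun hd =>
      P.not_dvd_index (hd.trans (Subgroup.index_dvd_of_le hP2))).symm

end Cfsg.Agent.S4711
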