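import Cfsg.Statements.S4712
import Cfsg.Agent.Lib.ModRep.FixedCount
import Cfsg.Agent.Lib.SecondMain.Rank
import Cfsg.Agent.Lib.GaloisPow.Twist
import Mathlib.RingTheory.ZMod.UnitsCyclic

set_option autoImplicit false
open Cfsg

namespace Cfsg.Agent.S4712

open scoped ComplexConjugate
open Cfsg.Agent.Blocks Cfsg.Agent.SecondMain

section

variable {G : Type*} [Group G] [Finite G] {p : ℕ}

theorem galois_apply {f : ℂ ≃+* ℂ} {N k : ℕ} (hf : ∀ z : ℂ, z ^ N = 1 → f z = z ^ k)
    (hN : Nat.card G ∣ N) (χ : IrrCharacter G) (g : G) :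
    f ((χ : G → ℂ) g) = (χ : G → ℂ) (g ^ k) := by
  obtain ⟨n, ρ, hirr, hρ⟩ := χ.2
  obtain ⟨b, μ, hμ, hroot⟩ := Char.exists_eigenbasis ρ g
  rw [← hρ, Char.character_pow ρ g b μ hμ, Char.character_eq_sum_eigenvalues ρ g b μ hμ, map_sum]
  refine Finset.sum_congr rfl fun i _ => hf _ ?_
  obtain ⟨c, hc⟩ := (orderOf_dvd_natCard g).trans hN
  rw [hc, pow_mul, hroot i, one_pow]

theorem galois_colSum {f : ℂ ≃+* ℂ} {N k : ℕ} (hf : ∀ z : ℂ, z ^ N = 1 → f z = z ^ k)
    (hN : Nat.card G ∣ N) (V : Set (IrrCharacter G)) (g h : G) :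
    f (colSum V g h) = colSum V (g ^ k) (h ^ k) := by
  classical
  have := Fintype.ofFinite (IrrCharacter G)
  simp only [colSum, finsum_mem_eq_toFinset_sum, map_sum, map_mul]
  refine Finset.sum_congr rfl fun χ _ => ?_
  rw [← Char.IsCharacter.apply_inv (Char.IsIrrCharacter.isCharacter χ.2),
    ← Char.IsCharacter.apply_inv (Char.IsIrrCharacter.isCharacter χ.2), galois_apply hf hN,
    galois_apply hf hN, inv_pow]

/-- An integer congruent to `1` outside `p`, generating the units modulo the `p`-part. -/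
theorem exists_gen {p n : ℕ} (hp : p.Prime) (hp2 : p ≠ 2) (hn : n ≠ 0) :
    ∃ k₀, k₀.Coprime n ∧ k₀ ≡ 1 [MOD n / p ^ n.factorization p] ∧
      ∀ k, k.Coprime n → k ≡ 1 [MOD n / p ^ n.factorization p] → ∃ m, k ≡ k₀ ^ m [MOD n] := by
  have hpa : p ^ n.factorization p ≠ 0 := pow_ne_zero _ hp.ne_zero
  have : NeZero (p ^ n.factorization p) := ⟨hpa⟩
  have := ZMod.isCyclic_units_of_prime_pow p hp hp2 (n.factorization p)
  obtain ⟨u, hu⟩ := IsCyclic.exists_generator (α := (ZMod (p ^ n.factorization p))ˣ)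
  have hdvd : p ^ n.factorization p ∣ n := Nat.ordProj_dvd n p
  have hco : Nat.Coprime (p ^ n.factorization p) (n / p ^ n.factorization p) :=
    (Nat.coprime_ordCompl hp hn).pow_left _
  obtain ⟨k₀, hk1, hk2⟩ := Nat.chineseRemainder hco (u : ZMod (p ^ n.factorization p)).val 1
  have hmul : p ^ n.factorization p * (n / p ^ n.factorization p) = n := Nat.mul_div_cancel' hdvd
  have hcast : (k₀ : ZMod (p ^ n.factorization p)) = (u : ZMod (p ^ n.factorization p)) := by
    rw [(ZMod.natCast_eq_natCast_iff' _ _ _).mpr hk1, ZMod.natCast_val, ZMod.cast_id]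
  refine ⟨k₀, ?_, hk2, fun k hk hk' => ?_⟩
  · rw [← hmul]
    refine Nat.Coprime.mul_right ?_ ?_
    · exact (ZMod.isUnit_iff_coprime k₀ _).mp (hcast ▸ u.isUnit)
    · rw [Nat.Coprime, hk2.gcd_eq, Nat.gcd_one_left]
  · obtain ⟨v, hv⟩ : IsUnit (k : ZMod (p ^ n.factorization p)) :=
      (ZMod.isUnit_iff_coprime k _).mpr (hk.coprime_dvd_right hdvd)
    obtain ⟨m, hm⟩ := (Submonoid.mem_powers_iff _ _).mp (mem_powers_iff_mem_zpowers.mpr (hu v))
    refine ⟨m, ?_⟩
    rw [← hmul]
    refine (Nat.modEq_and_modEq_iff_modEq_mul hco).mp ⟨?_, ?_⟩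
    · refine (ZMod.natCast_eq_natCast_iff _ _ _).mp ?_
      rw [← hv, ← hm, Nat.cast_pow, hcast, Units.val_pow_eq_pow_val]
    · exact hk'.trans (by simpa using (hk2.pow m).symm)

/-- The number of fixed characters in a block is at least its rank. -/
theorem rank_le_fixed [Fintype G] [Fact p.Prime] {M : Ideal AlgInt} (hM : IsPModular p M)
    {B : Set (IrrCharacter G)} (hB : IsPBlock M B) {k : ℕ} (hk : k.Coprime (Nat.card G))
    (hk1 : k ≡ 1 [MOD Nat.card G / p ^ (Nat.card G).factorization p]) :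
    blockRank p B ≤ Nat.card {χ : IrrCharacter G // χ ∈ B ∧ ∀ g, (χ : G → ℂ) (g ^ k) = (χ : G → ℂ) g} := by
  classical
  have hp : p.Prime := Fact.out
  have := Fintype.ofFinite (IrrCharacter G)
  let X : Finset G := Finset.univ.filter fun x =>
    (∃ j, orderOf x = p ^ j) ∧ Quotient.out (ConjClasses.mk x) = x
  have hX : ∀ x ∈ X, ∃ j, orderOf x = p ^ j := fun x hx => (Finset.mem_filter.mp hx).2.1
  have hXrep : ∀ g : G, (∃ j : ℕ, orderOf g = p ^ j) → ∃! x, x ∈ X ∧ IsConj g x := by
    intro g hg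
    have hc : IsConj g (Quotient.out (ConjClasses.mk g)) :=
      ConjClasses.mk_eq_mk_iff_isConj.mp (Quotient.out_eq (ConjClasses.mk g)).symm
    refine ⟨Quotient.out (ConjClasses.mk g), ⟨Finset.mem_filter.mpr ⟨Finset.mem_univ _, ?_, ?_⟩, hc⟩,
      fun x hx => ?_⟩
    · obtain ⟨c, hc'⟩ := isConj_iff.mp hc
      rwa [← hc', orderOf_conj]
    · exact congrArg Quotient.out (Quotient.out_eq (ConjClasses.mk g))
    · rw [← (Finset.mem_filter.mp hx.1).2.2, ConjClasses.mk_eq_mk_iff_isConj.mpr hx.2]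
  obtain ⟨x₁, ⟨hx₁, hx₁c⟩, -⟩ := hXrep 1 ⟨0, by simp⟩
  obtain rfl : x₁ = 1 := isConj_one_right.mp hx₁c
  have hreg : ∀ y : G, ¬ p ∣ orderOf y → y ^ k = y := by
    intro y hy
    conv_rhs => rw [← pow_one y]
    refine pow_eq_pow_iff_modEq.mpr (hk1.of_dvd ?_)
    refine Nat.Coprime.dvd_of_dvd_mul_left ?_
      (Nat.mul_div_cancel' (Nat.ordProj_dvd (Nat.card G) p) ▸ orderOf_dvd_natCard y)
    exact ((hp.coprime_iff_not_dvd).mpr hy).symm.pow_right _
  -- the count as a sum of column sums
  have hcls : IsClassFunction G fun g => colSum B (g ^ k) g := fun g c => by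
    simp only [colSum, conj_pow, irr_class _ g c, irr_class _ (g ^ k) c]
  have hfix : (Nat.card {χ : IrrCharacter G // χ ∈ B ∧ ∀ g, (χ : G → ℂ) (g ^ k) = (χ : G → ℂ) g} : ℂ)
      = (Nat.card G : ℂ)⁻¹ * ∑ g, colSum B (g ^ k) g := by
    simp only [colSum, finsum_mem_eq_toFinset_sum]
    rw [Finset.sum_comm, Finset.mul_sum]
    rw [Finset.sum_congr rfl (g := fun χ => if GaloisPow.powIrr hk χ = χ then (1 : ℂ) else 0)
      fun χ _ => by
        show classInner (GaloisPow.powIrr hk χ : G → ℂ) (χ : G → ℂ) = _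
        split_ifs with h
        · rw [h, Char.classInner_irr_self χ.2]
        · exact Char.classInner_irr_of_ne (GaloisPow.powIrr hk χ).2 χ.2 fun e => h (Subtype.ext e)]
    rw [Finset.sum_boole, Nat.card_eq_fintype_card, Fintype.card_subtype]
    congr 2
    ext χ
    simp [Subtype.ext_iff, funext_iff]
  rw [sum_eq_sum_sections hcls X hX hXrep, Finset.mul_sum] at hfix
  obtain ⟨f, hf⟩ := GaloisPow.exists_ringAut Nat.card_pos.ne' hk
  have hterm : ∀ x ∈ X, ∃ m : ℕ, (Nat.card (Subgroup.centralizer ({x} : Set G)) : ℂ)⁻¹ *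
      ∑ s : Subgroup.centralizer ({x} : Set G), (if ¬ p ∣ orderOf s then
        colSum B ((x * (s : G)) ^ k) (x * (s : G)) else 0) = m := by
    intro x hxX
    set C := Subgroup.centralizer ({x} : Set G) with hCdef
    have hx := hX x hxX
    have hH : ∀ g, g ∈ C ↔ Commute x g := fun _ => commute_iff_mem_centralizer_singleton
    have hxk : orderOf (x ^ k) = orderOf x :=
      ((hk.coprime_dvd_right (orderOf_dvd_natCard x)).symm.orderOf_pow)
    have hpow : ∀ s : C, ¬ p ∣ orderOf s → (x * (s : G)) ^ k = x ^ k * (s : G) := fun s hs => by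
      rw [((hH s).mp s.2).mul_pow, hreg (s : G) (by rwa [Subgroup.orderOf_coe])]
    by_cases hc : IsConj x (x ^ k)
    · obtain ⟨c, hc⟩ := isConj_iff.mp hc
      have hmem : ∀ s : G, s ∈ C → c⁻¹ * s * c ∈ C := by
        intro s hs
        rw [hH] at hs ⊢
        have h : Commute (x ^ k) s := hs.pow_left k
        rw [← hc] at h
        show x * (c⁻¹ * s * c) = c⁻¹ * s * c * x
        calc x * (c⁻¹ * s * c) = c⁻¹ * (c * x * c⁻¹ * s) * c := by group
          _ = _ := by rw [h.eq]; group
      let φ : C →* C := ((MulAut.conj c⁻¹).toMonoidHom.comp C.subtype).codRestrict C fun s => by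
        simpa using hmem s s.2
      have hφ : Function.Injective φ := fun a b h => Subtype.ext
        ((MulAut.conj c⁻¹).injective (congrArg Subtype.val h))
      let α : C ≃* C := MulEquiv.ofBijective φ ⟨hφ, Finite.surjective_of_injective hφ⟩
      have hα : ∀ s : C, ((α s : C) : G) = c⁻¹ * (s : G) * c := fun s => by
        simp [α, φ, MulAut.conj_apply]
      have hmove : ∀ s : C, x ^ k * (s : G) = c * (x * ((α s : C) : G)) * c⁻¹ := fun s => by
        rw [hα, ← hc]; group
      let V : Set (IrrCharacter C) := ⋃₀ inducedSet M C B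
      have hV : blockInd V ∈ intRing hM := by
        have := Fintype.ofFinite (IrrCharacter C)
        have e : blockInd V = ∑ᶠ b ∈ inducedSet M C B, blockInd b := by
          rw [finsum_mem_eq_finite_toFinset_sum _ (Set.toFinite _)]
          funext η
          rw [Finset.sum_apply]
          by_cases h : η ∈ V
          · obtain ⟨b, hb, hηb⟩ := h
            rw [blockInd_of_mem (show η ∈ V from ⟨b, hb, hηb⟩), Finset.sum_eq_single b]
            · rw [blockInd_of_mem hηb]
            · intro b' hb' hne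
              refine blockInd_of_notMem fun h' => hne ?_
              exact isPBlock_eq_of_mem hM ((Set.Finite.mem_toFinset _).mp hb').1 hb.1 h' hηb
            · exact fun h' => absurd ((Set.Finite.mem_toFinset _).mpr hb) h'
          · rw [blockInd_of_notMem h, Finset.sum_eq_zero fun b hb =>
              blockInd_of_notMem fun h' => h ⟨b, (Set.Finite.mem_toFinset _).mp hb, h'⟩]
        rw [e, finsum_mem_eq_finite_toFinset_sum _ (Set.toFinite _)]
        exact (intRing hM).sum_mem fun b hb =>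
          blockInd_mem_intRing hM ((Set.Finite.mem_toFinset _).mp hb).1
      have hloc : ∀ s t : C, ¬ p ∣ orderOf s → ¬ p ∣ orderOf t →
          colSum B (x * (s : G)) (x * (t : G)) = colSum V s t := fun s t hs ht => by
        rw [colSum_eq_sum hM hB hx hH hs ht]
        exact finsum_blocks_eq hM (fun b hb => hb.1) _
      have hconj : ∀ g h : G, colSum B (c * g * c⁻¹) h = colSum B g h := fun g h => by
        simp only [colSum, irr_class _ g c]
      have hconj' : ∀ g h : G, colSum B g (c * h * c⁻¹) = colSum B g h := fun g h => by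
        simp only [colSum, irr_class _ h c]
      have hα' : ∀ s : C, ¬ p ∣ orderOf s → ¬ p ∣ orderOf (α s) := fun s hs => by
        rwa [MulEquiv.orderOf_eq]
      obtain ⟨m, hm⟩ := ModRep.colSum_fixed_nat hM hV α fun y z hy hz => by
        have h := galois_colSum hf (Subgroup.card_subgroup_dvd_card C) V y z
        have hyk : y ^ k = y := Subtype.ext (by
          rw [SubmonoidClass.coe_pow]; exact hreg _ (by rwa [Subgroup.orderOf_coe]))
        have hzk : z ^ k = z := Subtype.ext (by
          rw [SubmonoidClass.coe_pow]; exact hreg _ (by rwa [Subgroup.orderOf_coe]))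
        rw [hyk, hzk, ← hloc y z hy hz, galois_colSum hf dvd_rfl, hpow y hy, hpow z hz, hmove y,
          hmove z, hconj, hconj', hloc _ _ (hα' y hy) (hα' z hz)] at h
        rw [h, hloc y z hy hz]
      refine ⟨m, ?_⟩
      rw [← hm, Finset.sum_filter]
      congr 1
      refine Finset.sum_congr rfl fun s _ => ?_
      by_cases hs : p ∣ orderOf s
      · rw [if_neg (not_not_intro hs), if_neg (not_not_intro hs)]
      · rw [if_pos hs, if_pos hs, hpow s hs, hmove s, hconj, hloc _ _ (hα' s hs) hs]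
    · refine ⟨0, ?_⟩
      rw [Finset.sum_eq_zero, mul_zero, Nat.cast_zero]
      intro s _
      by_cases hs : p ∣ orderOf s
      · rw [if_neg (not_not_intro hs)]
      · rw [if_pos hs, hpow s hs]
        exact colSum_eq_zero hM hB (hxk.symm ▸ hx) hx (by rwa [Subgroup.orderOf_coe])
          (by rwa [Subgroup.orderOf_coe]) (((hH s).mp s.2).pow_left k) ((hH s).mp s.2)
          fun h => hc h.symm
  choose! m hm using hterm
  have hone : (Nat.card (Subgroup.centralizer ({(1 : G)} : Set G)) : ℂ)⁻¹ *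
      ∑ s : Subgroup.centralizer ({(1 : G)} : Set G), (if ¬ p ∣ orderOf s then
        colSum B ((1 * (s : G)) ^ k) (1 * (s : G)) else 0) = (blockRank p B : ℂ) := by
    have hall : ∀ g : G, g ∈ Subgroup.centralizer ({(1 : G)} : Set G) := fun g =>
      Subgroup.mem_centralizer_iff.mpr fun u hu => by rw [Set.mem_singleton_iff.mp hu]; simp
    let e : Subgroup.centralizer ({(1 : G)} : Set G) ≃ G :=
      ⟨Subtype.val, fun g => ⟨g, hall g⟩, fun _ => rfl, fun _ => rfl⟩
    rw [blockRank_eq_regular hM hB, Nat.card_congr e, Finset.sum_filter]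
    congr 1
    refine Fintype.sum_equiv e _ _ fun s => ?_
    show _ = if ¬ p ∣ orderOf (s : G) then colSum B (s : G) (s : G) else 0
    rw [Subgroup.orderOf_coe]
    by_cases hs : p ∣ orderOf s
    · rw [if_neg (not_not_intro hs), if_neg (not_not_intro hs)]
    · rw [if_pos hs, if_pos hs, one_mul, hreg _ (by rwa [Subgroup.orderOf_coe])]
  have hsum : (Nat.card {χ : IrrCharacter G // χ ∈ B ∧ ∀ g, (χ : G → ℂ) (g ^ k) = (χ : G → ℂ) g} : ℂ)
      = ((∑ x ∈ X, m x : ℕ) : ℂ) := by
    rw [hfix, Nat.cast_sum]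
    refine Finset.sum_congr rfl fun x hx => ?_
    rw [← hm x hx, ← mul_assoc, ← mul_assoc, inv_mul_cancel₀ card_ne_zero_C, one_mul]
  rw [Nat.cast_inj] at hsum
  rw [hsum]
  refine le_trans (le_of_eq ?_) (Finset.single_le_sum (fun x _ => Nat.zero_le (m x)) hx₁)
  exact Nat.cast_injective (R := ℂ) (hone.symm.trans (hm 1 hx₁))

end

/-- Let p be an odd prime, M a maximal ideal of the algebraic integers containing p, G a finite group of order n with p-part p^a, and B a p-block of G. Call an irreducible character χ p-rational when χ(g^k) = χ(g) for every g and every k coprime to n with k ≡ 1 modulo n/p^a (χ is fixed by the Galois automorphisms fixing the roots of unity of order prime to p). Then the number of p-rational irreducible characters in B is at least the p-regular rank of B (the number of irreducible Brauer characters in B). -/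
theorem result {G : Type*} [Group G] [Finite G] (p : ℕ) [Fact p.Prime] (hodd : p ≠ 2) (M : Ideal Cfsg.AlgInt) (hM : Cfsg.IsPModular p M) (B : Set (Cfsg.IrrCharacter G)) (hB : Cfsg.IsPBlock M B) : Cfsg.blockRank p B ≤ Nat.card {χ : Cfsg.IrrCharacter G // χ ∈ B ∧ ∀ k : ℕ, Nat.Coprime k (Nat.card G) → k ≡ 1 [MOD Nat.card G / p ^ (Nat.card G).factorization p] → ∀ g : G, (χ : G → ℂ) (g ^ k) = (χ : G → ℂ) g} := by
  classical
  have := Fintype.ofFinite G
  obtain ⟨k₀, hk, hk1, hgen⟩ := exists_gen (Fact.out : p.Prime) hodd (Nat.card_pos (α := G)).ne'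
  refine (rank_le_fixed hM hB hk hk1).trans (le_of_eq (Nat.card_congr
    (Equiv.subtypeEquivRight fun χ => and_congr_right fun _ => ?_)))
  refine ⟨fun h k hkc hk' g => ?_, fun h => h k₀ hk hk1⟩
  obtain ⟨m, hm⟩ := hgen k hkc hk'
  have hit : ∀ m : ℕ, ∀ g : G, (χ : G → ℂ) (g ^ k₀ ^ m) = (χ : G → ℂ) g := by
    intro m
    induction m with
    | zero => simp
    | succ m ih => intro g; rw [pow_succ, pow_mul, h, ih]
  rw [← hit m g, pow_eq_pow_iff_modEq.mpr (hm.of_dvd (orderOf_dvd_natCard g))]

end Cfsg.Agent.S4712
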