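import Cfsg.Statements.S4714
import Cfsg.Agent.Lib.BlocksNormal.CentralizedDefect

set_option autoImplicit false
open Cfsg

namespace Cfsg.Agent.S4714

open scoped ComplexConjugate
open Cfsg.Agent.Blocks Cfsg.Agent.BlocksNormal

section

variable {G : Type*} [Group G] [Finite G] {p : ℕ} [Fact p.Prime] {M : Ideal AlgInt} {D : Subgroup G}

/-- The defining property of the character attached to `ζ`. -/
def Attached (p : ℕ) (D : Subgroup G) (χ θ : G → ℂ) (ζ : D → ℂ) : Prop :=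
  (∀ (y : D) (x : G), ¬ p ∣ orderOf x → Commute (y : G) x → θ ((y : G) * x) = ζ y * χ x) ∧
    ∀ z : G, (∀ y : G, IsPPart p z y → y ∉ D) → θ z = 0

theorem attached_unique {χ θ θ' : G → ℂ} {ζ : D → ℂ} (h : Attached p D χ θ ζ)
    (h' : Attached p D χ θ' ζ) : θ = θ' := by
  funext z
  by_cases hz : ∀ y : G, IsPPart p z y → y ∉ D
  · rw [h.2 z hz, h'.2 z hz]
  push Not at hz
  obtain ⟨y, ⟨x, rfl, hc, -, hx⟩, hy⟩ := hz
  exact (h.1 ⟨y, hy⟩ x hx hc).trans (h'.1 ⟨y, hy⟩ x hx hc).symm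

variable (hM : IsPModular p M) (hD : IsPGroup p D)
  (hG : D ⊔ Subgroup.centralizer (D : Set G) = ⊤) {B : Set (IrrCharacter G)} (hB : IsPBlock M B)
  (hBD : IsDefectGroup p M B D) {χ : IrrCharacter G} (hχ : χ ∈ B)
  (hχD : ∀ y ∈ D, (χ : G → ℂ) y = (χ : G → ℂ) 1)
include hM hD hG hB hBD hχ hχD

theorem exists_attached [D.Normal] {ψ : IrrCharacter G} (hψ : ψ ∈ B) :
    ∃ ζ : IrrCharacter D, Attached p D (χ : G → ℂ) (ψ : G → ℂ) (ζ : D → ℂ) := by
  classical
  have := Fintype.ofFinite G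
  have := Fintype.ofFinite D
  obtain ⟨ξ, hξ⟩ := exists_constituent D ψ
  have hinv : ∀ x : G, CliffordChar.conjFun D x (ξ : D → ℂ) = (ξ : D → ℂ) := by
    intro x
    obtain ⟨q, hq, c, hc, rfl⟩ := exists_factor hG x
    funext n
    rw [CliffordChar.conjFun_apply, ← irr_class ξ n (⟨q, hq⟩ : D)⁻¹]
    refine congrArg _ (Subtype.ext ?_)
    have h : (q⁻¹ * (n : G) * q) * c = c * (q⁻¹ * (n : G) * q) :=
      Subgroup.mem_centralizer_iff.mp hc _ (D.mul_mem (D.mul_mem (D.inv_mem hq) n.2) hq)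
    push_cast
    rw [show (q * c)⁻¹ * (n : G) * (q * c) = c⁻¹ * ((q⁻¹ * (n : G) * q) * c) by group, h,
      inv_mul_cancel_left, inv_inv]
  have hres := CharApp.restrict_invariant D ψ.2 ξ.2 hξ hinv
  obtain ⟨m, hm⟩ := Char.IsCharacter.classInner_nat
    (Char.IsCharacter.restrict (Char.IsIrrCharacter.isCharacter ψ.2) D)
    (Char.IsIrrCharacter.isCharacter ξ.2)
  rw [hm] at hres
  have h := norm_split hM hD hG hB hBD hχ hχD hψ
  have hR := card_regular_norm hM hD hG hB hBD hχ hχD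
  have hsum : ∑ u : D, (ψ : G → ℂ) (u : G) * conj ((ψ : G → ℂ) (u : G)) =
      (m : ℂ) * m * (Nat.card D : ℂ) := by
    have hn := Char.classInner_irr_self ξ.2
    rw [classInner, inv_mul_eq_one₀ card_ne_zero_C] at hn
    rw [hn, Finset.mul_sum]
    refine Finset.sum_congr rfl fun u _ => ?_
    rw [show (ψ : G → ℂ) (u : G) = (m : ℂ) * (ξ : D → ℂ) u from congrFun hres u, map_mul,
      Complex.conj_natCast]
    ring
  rw [hsum, mul_assoc, hR, ← charDegree_cast χ] at h
  have h2 : ((m * m : ℕ) : ℂ) =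
      ((charDegree (χ : G → ℂ) * charDegree (χ : G → ℂ) : ℕ) : ℂ) := by
    push_cast
    exact mul_right_cancel₀ (card_ne_zero_C (G := G)) (by linear_combination h)
  have h3 : (m : ℂ) = (χ : G → ℂ) 1 := by
    rw [Nat.mul_self_inj.mp (Nat.cast_inj.mp h2), charDegree_cast χ]
  refine ⟨ξ, fun y x hx _ => ?_, fun z hz => ?_⟩
  · have hxC := regular_mem_centralizer hD Fact.out hG hx
    have h4 := apply_regular hM hD hG hB hBD hχ hχD hψ hx
    rw [apply_mul_eq hG ψ y.2 hxC, show (ψ : G → ℂ) (y : G) = (m : ℂ) * (ξ : D → ℂ) y from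
      congrFun hres y, h3, div_eq_iff (irr_one_ne_zero ψ)]
    linear_combination (ξ : D → ℂ) y * h4
  · obtain ⟨x, y, rfl, hxz, hyz, hk, hco⟩ := Transfer.exists_pPart_mul (p := p) z
    have hy : ¬ p ∣ orderOf y := ((Fact.out : p.Prime).coprime_iff_not_dvd).mp hco.symm
    have hc : Commute x y := by
      obtain ⟨i, hi⟩ := Subgroup.mem_zpowers_iff.mp hxz
      obtain ⟨j, hj⟩ := Subgroup.mem_zpowers_iff.mp hyz
      have h := (Commute.refl (x * y)).zpow_zpow i j
      rwa [hi, hj] at h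
    refine apply_eq_zero_of_notMem_defectGroup hM hB hψ hk hc hy fun E hE => ?_
    obtain ⟨g, rfl⟩ := isDefectGroup_conj_eq hM hB hBD hE
    rw [conjSub_eq_self_iff.mpr (by simp [Subgroup.normalizer_eq_top])]
    exact hz x ⟨y, rfl, hc, hk, hy⟩

end

/-- Let p be a prime, M a maximal ideal of the algebraic integers containing p, D a p-subgroup of the finite group G with G = D·C_G(D), and B a p-block with defect group D. Let χ be a member of B having D in its kernel (there is exactly one, the canonical character of B). Then the irreducible characters in B are exactly the functions θ on G for which there is an irreducible character ζ of D such that θ(yx) = ζ(y)χ(x) whenever y ∈ D, x has order prime to p and x commutes with y, and θ(z) = 0 whenever the p-part of z does not lie in D. -/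
theorem result {G : Type*} [Group G] [Finite G] (p : ℕ) [Fact p.Prime] (M : Ideal Cfsg.AlgInt) (hM : Cfsg.IsPModular p M) (D : Subgroup G) (hD : IsPGroup p D) (hG : D ⊔ Subgroup.centralizer (D : Set G) = ⊤) (B : Set (Cfsg.IrrCharacter G)) (hB : Cfsg.IsPBlock M B) (hBD : Cfsg.IsDefectGroup p M B D) (χ : Cfsg.IrrCharacter G) (hχ : χ ∈ B) (hχD : ∀ y ∈ D, (χ : G → ℂ) y = (χ : G → ℂ) 1) : (∀ θ : Cfsg.IrrCharacter G, θ ∈ B ↔ ∃ ζ : Cfsg.IrrCharacter D, (∀ (y : D) (x : G), ¬ p ∣ orderOf x → Commute (y : G) x → (θ : G → ℂ) ((y : G) * x) = (ζ : D → ℂ) y * (χ : G → ℂ) x) ∧ (∀ z : G, (∀ y : G, Cfsg.IsPPart p z y → y ∉ D) → (θ : G → ℂ) z = 0)) ∧ ∀ ζ : Cfsg.IrrCharacter D, ∃ θ ∈ B, (∀ (y : D) (x : G), ¬ p ∣ orderOf x → Commute (y : G) x → (θ : G → ℂ) ((y : G) * x) = (ζ : D → ℂ) y * (χ : G → ℂ) x) ∧ (∀ z : G, (∀ y : G, Cfsg.IsPPart p z y → y ∉ D) → (θ : G → ℂ) z = 0) := by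
  classical
  have := Fintype.ofFinite G
  haveI : D.Normal := by
    rw [← Subgroup.normalizer_eq_top_iff, eq_top_iff, ← hG]
    exact sup_le Subgroup.le_normalizer (Subgroup.centralizer_le_normalizer _)
  choose f hf using fun ψ : B => exists_attached hM hD hG hB hBD hχ hχD ψ.2
  have hinj : Function.Injective f := fun a b h =>
    Subtype.ext (Subtype.ext (attached_unique (hf a) (h ▸ hf b)))
  have hbij : Function.Bijective f := (Nat.bijective_iff_injective_and_card f).mpr ⟨hinj, by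
    rw [card_block_eq_card_classes hM hD hG hB hBD, Char.card_irr_eq_card_conjClasses]⟩
  refine ⟨fun θ => ⟨fun hθ => ⟨_, hf ⟨θ, hθ⟩⟩, fun ⟨ζ, hζ⟩ => ?_⟩, fun ζ => ?_⟩
  · obtain ⟨a, rfl⟩ := hbij.2 ζ
    rw [show θ = a.1 from Subtype.ext (attached_unique hζ (hf a))]
    exact a.2
  · obtain ⟨a, rfl⟩ := hbij.2 ζ
    exact ⟨a.1, a.2, hf a⟩

end Cfsg.Agent.S4714
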