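import Cfsg.Statements.S4715
import Cfsg.Agent.Lib.BlocksNormal.MajorBlock
import Cfsg.Agent.Lib.BlocksNormal.MajorHeight

set_option autoImplicit false
open Cfsg Cfsg.Agent.Blocks Cfsg.Agent.SecondMain Cfsg.Agent.MajorSub Cfsg.Agent.BrauerPairs
open scoped ComplexConjugate
open Polynomial (aeval)

namespace Cfsg.Agent.S4715

theorem regInner_equiv {p : ℕ} {K K' : Type*} [Group K] [Fintype K] [Group K'] [Fintype K']
    (e : K ≃* K') (θ η : K' → ℂ) :
    regInner p (fun c => θ (e c)) (fun c => η (e c)) = regInner p θ η := by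
  classical
  rw [regInner_eq_sum, regInner_eq_sum, Nat.card_congr e.toEquiv, Finset.sum_filter,
    Finset.sum_filter]
  congr 1
  refine Fintype.sum_equiv e.toEquiv _ _ fun c => ?_
  simp only [MulEquiv.toEquiv_eq_coe, MulEquiv.coe_toEquiv, MulEquiv.orderOf_eq]

theorem sigma_apply_eq {G : Type*} [Group G]
    {q q' : Σ y : G, IrrCharacter (Subgroup.centralizer ({y} : Set G))} (h : q = q') (a : G)
    (h1 : a ∈ Subgroup.centralizer ({q.1} : Set G)) (h2 : a ∈ Subgroup.centralizer ({q'.1} : Set G)) :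
    (q.2 : Subgroup.centralizer ({q.1} : Set G) → ℂ) ⟨a, h1⟩
      = (q'.2 : Subgroup.centralizer ({q'.1} : Set G) → ℂ) ⟨a, h2⟩ := by
  subst h; rfl

/-- Let p be a prime, M a maximal ideal of the algebraic integers containing p, B a p-block of the finite group G with defect group D of order p^d, H = D·C_G(D), b a block of H inducing B, T the stabilizer of b in N_G(D) and e = [T : H] the inertial index of B; let n be the integer with p^n ≤ e < p^(n+1) and p^c the order of the centre of D. Then every irreducible character in B has height h with h + c ≤ n + d. -/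
theorem result {G : Type*} [Group G] [Finite G] (p : ℕ) [Fact p.Prime] (M : Ideal Cfsg.AlgInt) (hM : Cfsg.IsPModular p M) (B : Set (Cfsg.IrrCharacter G)) (hB : Cfsg.IsPBlock M B) (D : Subgroup G) (hBD : Cfsg.IsDefectGroup p M B D) (d : ℕ) (hDd : Nat.card D = p ^ d) (H : Subgroup G) (hH : H = D ⊔ Subgroup.centralizer (D : Set G)) (b : Set (Cfsg.IrrCharacter H)) (hind : Cfsg.IsInducedBlock M H b B) (T : Subgroup G) (hT : ∀ g : G, g ∈ T ↔ (g ∈ Subgroup.normalizer (D : Set G) ∧ ∀ θ ∈ b, ∀ θ' : Cfsg.IrrCharacter H, (∀ h h' : H, (h' : G) = g * h * g⁻¹ → (θ' : H → ℂ) h' = (θ : H → ℂ) h) → θ' ∈ b)) (e : ℕ) (he : H.relIndex T = e) (n : ℕ) (hn : p ^ n ≤ e ∧ e < p ^ (n + 1)) (c : ℕ) (hc : Nat.card (Subgroup.center D) = p ^ c) : ∀ χ ∈ B, Cfsg.blockHeight p B (χ : G → ℂ) + c ≤ n + d := by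
  classical
  have := Fintype.ofFinite G
  haveI : ∀ K : Subgroup G, Fintype (IrrCharacter K) := fun K => Fintype.ofFinite _
  intro χ hχ
  have hp : p.Prime := hM.1
  have hDH : D ≤ H := hH ▸ le_sup_left
  have hCH : Subgroup.centralizer (D : Set G) ≤ H := hH ▸ le_sup_right
  have hN := le_normalizer_of_eq hH
  have hdB : blockDefect p B = d := by
    refine Nat.pow_right_injective hp.two_le ?_
    show p ^ blockDefect p B = p ^ d
    rw [← card_defectGroup hM hB hBD, hDd]
  set h := blockHeight p B (χ : G → ℂ)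
  set Z : Finset G := Finset.univ.filter fun u => u ∈ D ∧ ∀ w ∈ D, w * u = u * w with hZ
  have hZmem : ∀ u, u ∈ Z ↔ u ∈ D ∧ ∀ w ∈ D, w * u = u * w := fun u => by simp [hZ]
  have hZcard : Z.card = p ^ c := by
    rw [← hc, Nat.card_eq_fintype_card, ← Finset.card_univ]
    refine Finset.card_bij' (fun u hu => (⟨⟨u, ((hZmem u).mp hu).1⟩,
        Subgroup.mem_center_iff.mpr fun w => Subtype.ext (((hZmem u).mp hu).2 w w.2)⟩ :
        Subgroup.center D))
      (fun z _ => ((z : D) : G)) (fun _ _ => Finset.mem_univ _) (fun z _ => ?_) (fun _ _ => rfl)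
      (fun _ _ => rfl)
    exact (hZmem _).mpr ⟨(z : D).2, fun w hw =>
      congrArg Subtype.val (Subgroup.mem_center_iff.mp z.2 ⟨w, hw⟩)⟩
  have hcomm : ∀ u ∈ Z, ∀ a ∈ H, Commute u a := fun u hu a ha => by
    have hle : H ≤ Subgroup.centralizer ({u} : Set G) := by
      rw [hH]
      refine sup_le (fun w hw => commute_iff_mem_centralizer_singleton.mpr ?_)
        (Subgroup.centralizer_le (Set.singleton_subset_iff.mpr ((hZmem u).mp hu).1))
      exact (((hZmem u).mp hu).2 w hw).symm
    exact commute_iff_mem_centralizer_singleton.mp (hle ha)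
  have hleC : ∀ u ∈ Z, H ≤ Subgroup.centralizer ({u} : Set G) := fun u hu a ha =>
    commute_iff_mem_centralizer_singleton.mpr (hcomm u hu a ha)
  have hCiff : ∀ u a : G, a ∈ Subgroup.centralizer ({u} : Set G) ↔ Commute u a := fun u a =>
    commute_iff_mem_centralizer_singleton
  have hpu : ∀ u ∈ D, ∃ k, orderOf u = p ^ k := fun u hu => by
    obtain ⟨k, hk⟩ := IsPGroup.iff_orderOf.mp (isPGroup_defectGroup hM hBD) ⟨u, hu⟩
    exact ⟨k, by rwa [Subgroup.orderOf_mk] at hk⟩
  let bu : ∀ u : G, Set (IrrCharacter (Subgroup.centralizer ({u} : Set G))) := fun u =>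
    inducedUp M H b (Subgroup.centralizer ({u} : Set G))
  let f : (Σ u : G, IrrCharacter (Subgroup.centralizer ({u} : Set G))) → ℝ := fun q =>
    ‖regInner p (fun a : Subgroup.centralizer ({q.1} : Set G) => (χ : G → ℂ) (q.1 * (a : G)))
      (q.2 : Subgroup.centralizer ({q.1} : Set G) → ℂ)‖ ^ 2
  let V : G → ℝ := fun u => (p : ℝ) ^ d * ∑ η ∈ (bu u).toFinset, f ⟨u, η⟩
  have hV0 : ∀ u, 0 ≤ V u := fun u =>
    mul_nonneg (by positivity) (Finset.sum_nonneg fun η _ => sq_nonneg _)
  have hW : ∀ (v : G) (K : Subgroup G), v ∈ Z → K = Subgroup.centralizer ({v} : Set G) →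
      contribution p (inducedUp M H b K) v χ χ = (V v : ℂ) := by
    rintro v K hv rfl
    rw [contribution_self_eq,
      (defect_inducedUp hM hBD hDH hCH hN (hleC v hv) hind).2.2, hdB]
  -- the lower bound
  have hlow : (p : ℝ) ^ c * (p : ℝ) ^ h ≤ ∑ u ∈ Z, V u := by
    set N := p ^ d with hNdef
    haveI : NeZero N := ⟨pow_ne_zero _ hp.ne_zero⟩
    have hz := GaloisAvg.zeta_isPrimitiveRoot (NeZero.ne N)
    set R := primitiveRoots N ℂ with hR
    let ex : ℂ → ℕ := fun z =>
      if hk : ∃ k, k.Coprime N ∧ GaloisAvg.zeta N ^ k = z then hk.choose else 0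
    have hex : ∀ z ∈ R, (ex z).Coprime N ∧ GaloisAvg.zeta N ^ ex z = z := by
      intro z hzR
      obtain ⟨i, -, hi, hiz⟩ := (hz.isPrimitiveRoot_iff).mp
        ((mem_primitiveRoots (NeZero.pos N)).mp hzR)
      have hk : ∃ k, k.Coprime N ∧ GaloisAvg.zeta N ^ k = z := ⟨i, hi, hiz⟩
      simp only [ex, dif_pos hk]
      exact hk.choose_spec
    have hperm : ∀ z ∈ R, ∑ u ∈ Z, V (u ^ ex z) = ∑ u ∈ Z, V u := by
      intro z hzR
      have hinj : Set.InjOn (fun u : G => u ^ ex z) Z := fun a ha a' ha' he' => by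
        have h1 : (⟨a, ((hZmem a).mp ha).1⟩ : D) = ⟨a', ((hZmem a').mp ha').1⟩ :=
          (powCoprime (hDd ▸ (hex z hzR).1.symm)).injective (Subtype.ext he')
        exact congrArg Subtype.val h1
      have himg : Z.image (fun u => u ^ ex z) = Z := by
        refine Finset.eq_of_subset_of_card_le (Finset.image_subset_iff.mpr fun u hu => ?_)
          (by rw [Finset.card_image_of_injOn hinj])
        exact (hZmem _).mpr ⟨D.pow_mem ((hZmem u).mp hu).1 _, fun w hw =>
          (Commute.pow_right (((hZmem u).mp hu).2 w hw) _).eq⟩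
      conv_rhs => rw [← himg, Finset.sum_image hinj]
    have hkey : ∀ u ∈ Z, (R.card : ℝ) * (p : ℝ) ^ h ≤ ∑ z ∈ R, V (u ^ ex z) := by
      intro u hu
      set K := Subgroup.centralizer ({u} : Set G) with hK
      obtain ⟨hind', -, hdef⟩ := defect_inducedUp hM hBD hDH hCH hN (hleC u hu) hind
      have huN : u ^ N = 1 := by
        have h1 : (⟨u, ((hZmem u).mp hu).1⟩ : D) ^ N = 1 := by
          rw [← hDd]; exact pow_card_eq_one'
        exact congrArg Subtype.val h1
      obtain ⟨P, hP⟩ := exists_poly_pow hM (fun a => hCiff u a) hind'.1 (NeZero.ne N) huN χ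
      have hval : ∀ z ∈ R, aeval z P = (V (u ^ ex z) : ℂ) ∧ aeval z P ≠ 0 ∧
          MemLocalRing M (aeval z P / (p : ℂ) ^ h) := by
        intro z hzR
        obtain ⟨j, hj⟩ := exists_pow_eq_self_of_coprime
          ((hex z hzR).1.coprime_dvd_right (orderOf_dvd_of_pow_eq_one huN))
        have hiff : ∀ a, a ∈ K ↔ Commute (u ^ ex z) a := fun a => by
          rw [hK, hCiff]
          exact ⟨fun hc => hc.pow_left _, fun hc => hj ▸ hc.pow_left j⟩
        have hv : u ^ ex z ∈ Z := (hZmem _).mpr ⟨D.pow_mem ((hZmem u).mp hu).1 _,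
          fun w hw => (Commute.pow_right (((hZmem u).mp hu).2 w hw) _).eq⟩
        have h1 := hP (ex z) hiff
        rw [(hex z hzR).2] at h1
        rw [← h1]
        have hx := hpu _ (D.pow_mem ((hZmem u).mp hu).1 (ex z))
        exact ⟨hW _ K hv (Subgroup.ext fun a => (hiff a).trans (hCiff _ a).symm),
          contribution_self_ne_zero hM hx hiff hind' hdef hχ,
          exists_div hM hx hiff hind' hdef hχ χ⟩
      refine (card_mul_le_sum_roots hM P h (fun z hzR => (hval z hzR).2.1)
        fun z hzR => (hval z hzR).2.2).trans (le_of_eq (Finset.sum_congr rfl fun z hzR => ?_))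
      rw [(hval z hzR).1, Complex.norm_real, Real.norm_of_nonneg (hV0 _)]
    have h1 := Finset.sum_le_sum hkey
    rw [Finset.sum_const, Finset.sum_comm, Finset.sum_congr rfl hperm, Finset.sum_const,
      nsmul_eq_mul, nsmul_eq_mul, hZcard, mul_left_comm, Nat.cast_pow] at h1
    exact le_of_mul_le_mul_left h1 (Nat.cast_pos.mpr (Finset.card_pos.mpr
      ⟨_, (mem_primitiveRoots (NeZero.pos N)).mpr hz⟩))
  -- the upper bound
  have hup : ∑ u ∈ Z, V u ≤ (p : ℝ) ^ d * (e : ℝ) := by
    let r : G → G := fun u => (ConjClasses.mk u).out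
    have hr : ∀ u, IsConj u (r u) := fun u =>
      (ConjClasses.mk_eq_mk_iff_isConj.mp (Quotient.out_eq (ConjClasses.mk u)).symm)
    choose g hg using fun u => isConj_iff.mp (hr u)
    have hconj : ∀ u x, x ∈ Subgroup.centralizer ({r u} : Set G) ↔
        (g u)⁻¹ * x * g u ∈ Subgroup.centralizer ({u} : Set G) := fun u x => by
      rw [hCiff, hCiff, ← hg u]
      constructor
      · intro hx
        have h1 := hx.map (MulAut.conj (g u)⁻¹).toMonoidHom
        simpa [mul_assoc] using h1
      · intro hx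
        have h1 := hx.map (MulAut.conj (g u)).toMonoidHom
        simpa [mul_assoc] using h1
    let E := fun u => conjEquiv (g u) _ _ (hconj u)
    let X : Finset G := Finset.univ.filter fun y => (∃ k, orderOf y = p ^ k) ∧ r y = y
    have hro : ∀ u, orderOf (r u) = orderOf u := fun u => by rw [← hg u, orderOf_conj]
    have hrr : ∀ u, r (r u) = r u := fun u =>
      congrArg Quotient.out (ConjClasses.mk_eq_mk_iff_isConj.mpr (hr u)).symm
    have hX : ∀ y ∈ X, ∃ k, orderOf y = p ^ k := fun y hy => (Finset.mem_filter.mp hy).2.1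
    have hXrep : ∀ u : G, (∃ k : ℕ, orderOf u = p ^ k) → ∃! y, y ∈ X ∧ IsConj u y := by
      intro u hu
      refine ⟨r u, ⟨Finset.mem_filter.mpr ⟨Finset.mem_univ _, ?_, hrr u⟩, hr u⟩, ?_⟩
      · rw [hro]; exact hu
      · rintro y ⟨hy, hyu⟩
        rw [← (Finset.mem_filter.mp hy).2.2]
        exact congrArg Quotient.out (ConjClasses.mk_eq_mk_iff_isConj.mpr hyu).symm
    let Φ : (Σ u : G, IrrCharacter (Subgroup.centralizer ({u} : Set G))) →
        (Σ u : G, IrrCharacter (Subgroup.centralizer ({u} : Set G))) := fun q =>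
      ⟨r q.1, pullIrr (E q.1) q.2⟩
    let A := Z.sigma fun u => (bu u).toFinset
    have hfΦ : ∀ q, f (Φ q) = f q := fun q => by
      simp only [f, Φ]
      congr 2
      refine Eq.trans (congrArg₂ _ (funext fun a => ?_) rfl) (regInner_equiv (E q.1)
        (fun a : Subgroup.centralizer ({q.1} : Set G) => (χ : G → ℂ) (q.1 * (a : G))) _)
      show _ = (χ : G → ℂ) (q.1 * ((g q.1)⁻¹ * (a : G) * g q.1))
      rw [← irr_class χ (q.1 * ((g q.1)⁻¹ * (a : G) * g q.1)) (g q.1)]
      refine congrArg (χ : G → ℂ) ?_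
      generalize (a : G) = w
      rw [← hg q.1]
      group
    have hfib : ∀ q ∈ A.image Φ, ((A.filter fun a => Φ a = q).card : ℝ) ≤ (e : ℝ) := by
      intro q hq
      obtain ⟨a₀, ha₀, rfl⟩ := Finset.mem_image.mp hq
      obtain ⟨ha₀Z, ha₀b⟩ := Finset.mem_sigma.mp ha₀
      have hinj : Set.InjOn Sigma.fst ((A.filter fun a => Φ a = Φ a₀ : Finset _) :
          Set (Σ u : G, IrrCharacter (Subgroup.centralizer ({u} : Set G)))) := by
        rintro ⟨u, η⟩ ha ⟨u', η'⟩ ha' (rfl : u = u')
        have h1 := (Finset.mem_filter.mp ha).2.trans (Finset.mem_filter.mp ha').2.symm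
        refine congrArg (Sigma.mk u) (Subtype.ext (funext fun a => ?_))
        have h2 := sigma_apply_eq h1 (((E u).symm a : _) : G) ((E u).symm a).2 ((E u).symm a).2
        simpa [Φ, pullIrr_apply] using h2
      rw [← Finset.card_image_of_injOn hinj, ← he, Nat.cast_le]
      refine card_orbit_le (hcomm _ ha₀Z) _ fun u' hu' => ?_
      obtain ⟨a, ha, rfl⟩ := Finset.mem_image.mp hu'
      obtain ⟨haA, haΦ⟩ := Finset.mem_filter.mp ha
      obtain ⟨haZ, hab⟩ := Finset.mem_sigma.mp haA
      have hreq : r a.1 = r a₀.1 := congrArg Sigma.fst haΦ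
      set γ := (g a.1)⁻¹ * g a₀.1 with hγ
      have hγu : γ * a₀.1 * γ⁻¹ = a.1 :=
        calc γ * a₀.1 * γ⁻¹ = (g a.1)⁻¹ * (g a₀.1 * a₀.1 * (g a₀.1)⁻¹) * g a.1 := by
              simp only [hγ]; group
          _ = (g a.1)⁻¹ * (g a.1 * a.1 * (g a.1)⁻¹) * g a.1 := by rw [hg, hg, hreq]
          _ = a.1 := by group
      have hγC : ∀ x, x ∈ Subgroup.centralizer ({a.1} : Set G) ↔
          γ⁻¹ * x * γ ∈ Subgroup.centralizer ({a₀.1} : Set G) := fun x => by
        rw [show γ⁻¹ * x * γ = (g a₀.1)⁻¹ * (g a.1 * x * (g a.1)⁻¹) * g a₀.1 by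
          simp only [hγ]; group, ← hconj, ← hreq, hconj]
        simp [mul_assoc]
      refine exists_stab_conj hM hBD hH hind hT hγu (hCiff a.1) (hleC _ ha₀Z) (hleC _ haZ) hγC
        (Set.mem_toFinset.mp ha₀b) ?_
      have heq : pullIrr (conjEquiv γ _ _ hγC) a₀.2 = a.2 := by
        refine Subtype.ext (funext fun x => ?_)
        have h1 : g a.1 * (x : G) * (g a.1)⁻¹ ∈ Subgroup.centralizer ({r a.1} : Set G) :=
          (hconj _ _).mpr (by simpa [mul_assoc] using x.2)
        have h2 := sigma_apply_eq haΦ _ h1 (show _ ∈ Subgroup.centralizer ({r a₀.1} : Set G) from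
          hreq ▸ h1)
        simp only [Φ, pullIrr_apply] at h2 ⊢
        refine Eq.trans ?_ (h2.symm.trans (congrArg _ (Subtype.ext ?_)))
        · refine congrArg _ (Subtype.ext ?_)
          simp only [E, conjEquiv_coe, hγ]
          group
        · simp only [E, conjEquiv_coe]
          group
      rw [heq]
      exact Set.mem_toFinset.mp hab
    have hsum : ∑ a ∈ A, f a ≤ (e : ℝ) := by
      calc ∑ a ∈ A, f a = ∑ q ∈ A.image Φ, ((A.filter fun a => Φ a = q).card : ℝ) * f q := by
            rw [← Finset.sum_fiberwise_of_maps_to (fun a ha => Finset.mem_image_of_mem Φ ha)]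
            refine Finset.sum_congr rfl fun q _ => ?_
            rw [Finset.sum_congr rfl fun a ha => by
              rw [← hfΦ a, (Finset.mem_filter.mp ha).2], Finset.sum_const, nsmul_eq_mul]
        _ ≤ ∑ q ∈ A.image Φ, (e : ℝ) * f q :=
            Finset.sum_le_sum fun q hq => mul_le_mul_of_nonneg_right (hfib q hq) (sq_nonneg _)
        _ ≤ ∑ q ∈ X.sigma fun _ => Finset.univ, (e : ℝ) * f q := by
            refine Finset.sum_le_sum_of_subset_of_nonneg ?_ fun q _ _ =>
              mul_nonneg (Nat.cast_nonneg _) (sq_nonneg _)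
            refine Finset.image_subset_iff.mpr fun a ha => Finset.mem_sigma.mpr
              ⟨Finset.mem_filter.mpr ⟨Finset.mem_univ _, ?_, hrr a.1⟩, Finset.mem_univ _⟩
            show ∃ k, orderOf (r a.1) = p ^ k
            rw [hro]
            exact hpu _ ((hZmem _).mp (Finset.mem_sigma.mp ha).1).1
        _ = (e : ℝ) := by
            rw [← Finset.mul_sum, Finset.sum_sigma, sum_sections_norm X hX hXrep χ, mul_one]
    calc ∑ u ∈ Z, V u = (p : ℝ) ^ d * ∑ a ∈ A, f a := by
          rw [Finset.sum_sigma, Finset.mul_sum]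
      _ ≤ _ := mul_le_mul_of_nonneg_left hsum (by positivity)
  have h1 : p ^ (c + h) ≤ p ^ d * e := by
    have h2 := hlow.trans hup
    rw [← pow_add] at h2
    exact_mod_cast h2
  have h3 : p ^ d * e < p ^ (d + (n + 1)) := by
    rw [pow_add p d]
    exact Nat.mul_lt_mul_of_pos_left hn.2 (pow_pos hp.pos d)
  have h4 := (Nat.pow_lt_pow_iff_right hp.one_lt).mp (h1.trans_lt h3)
  omega

end Cfsg.Agent.S4715
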