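import Cfsg.Statements.S4717
import Cfsg.Agent.Lib.Blocks.LocalBlocks

set_option autoImplicit false
open Cfsg

namespace Cfsg.Agent.S4717

/-- Let p be a prime, M a maximal ideal of the algebraic integers containing p, and r a natural number; say that a finite group X has deficiency class r when X has no non-principal p-block of defect ≥ r. If G has deficiency class r then so does the centralizer of every p-element of G; conversely, if r > 0 and the centralizer of every element of order p has deficiency class r, then G has deficiency class r. -/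
theorem result {G : Type*} [Group G] [Finite G] (p : ℕ) [Fact p.Prime] (M : Ideal Cfsg.AlgInt) (hM : Cfsg.IsPModular p M) (r : ℕ) : ((∀ B' : Set (Cfsg.IrrCharacter G), Cfsg.IsPBlock M B' → B' ≠ Cfsg.principalBlock M G → Cfsg.blockDefect p B' < r) → ∀ y : G, (∃ k : ℕ, orderOf y = p ^ k) → (∀ B' : Set (Cfsg.IrrCharacter ↥(Subgroup.centralizer ({y} : Set G))), Cfsg.IsPBlock M B' → B' ≠ Cfsg.principalBlock M ↥(Subgroup.centralizer ({y} : Set G)) → Cfsg.blockDefect p B' < r)) ∧ (0 < r → (∀ y : G, orderOf y = p → (∀ B' : Set (Cfsg.IrrCharacter ↥(Subgroup.centralizer ({y} : Set G))), Cfsg.IsPBlock M B' → B' ≠ Cfsg.principalBlock M ↥(Subgroup.centralizer ({y} : Set G)) → Cfsg.blockDefect p B' < r)) → (∀ B' : Set (Cfsg.IrrCharacter G), Cfsg.IsPBlock M B' → B' ≠ Cfsg.principalBlock M G → Cfsg.blockDefect p B' < r)) := by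
  have hp : p.Prime := Fact.out
  constructor
  · intro hG y hy b hb hne
    have hH : ∀ g, g ∈ Subgroup.centralizer ({y} : Set G) ↔ Commute y g := fun _ =>
      SecondMain.commute_iff_mem_centralizer_singleton
    obtain ⟨B, hB⟩ := SecondMain.exists_induced_centralizer hM hy hH hb
    refine lt_of_le_of_lt (Blocks.blockDefect_le_of_induced hM hB) (hG B hB.2.1 fun h => hne ?_)
    exact (Blocks.induced_principal_iff hM ⟨B, hB⟩).1 (h ▸ hB)
  · intro hr hC B hB hne
    by_contra hlt
    obtain ⟨D, g, hg, S, hS⟩ := Blocks.exists_isDefectGroup hM hB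
    have hcard := Blocks.card_defectGroup hM hB (D := D) ⟨g, hg, S, hS⟩
    have hDp : IsPGroup p D := Blocks.isPGroup_defectGroup hM (B := B) ⟨g, hg, S, hS⟩
    have hD1 : 1 < Nat.card D := hcard ▸ Nat.one_lt_pow (by omega) hp.one_lt
    have : Nontrivial D := Finite.one_lt_card_iff_nontrivial.1 hD1
    have := hDp.center_nontrivial
    obtain ⟨k, hk⟩ := IsPGroup.iff_card.1 (hDp.to_subgroup (Subgroup.center D))
    have hk0 : k ≠ 0 := fun h0 => by
      have := Finite.one_lt_card (α := Subgroup.center D)
      rw [hk, h0, pow_zero] at this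
      omega
    obtain ⟨z, hz⟩ := exists_prime_orderOf_dvd_card' (G := Subgroup.center D) p
      (hk ▸ dvd_pow_self p hk0)
    set x : G := ((z : D) : G) with hxdef
    have hxo : orderOf x = p := by rw [hxdef, Subgroup.orderOf_coe, Subgroup.orderOf_coe, hz]
    have hH : ∀ c, c ∈ Subgroup.centralizer ({x} : Set G) ↔ Commute x c := fun _ =>
      SecondMain.commute_iff_mem_centralizer_singleton
    have hDC : D ≤ Subgroup.centralizer ({g} : Set G) := Blocks.sylowIn_le ⟨S, hS⟩
    have hxg : g ∈ Subgroup.centralizer ({x} : Set G) :=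
      (hH g).2 (Blocks.mem_centralizer_singleton.1 (hDC (z : D).2))
    obtain ⟨b, hb, hbg⟩ := Blocks.exists_induced_coeff_not_memI hM ⟨1, by rw [hxo, pow_one]⟩ hH hB
      (y := ⟨g, hxg⟩) hg.2.1
    have hbne : b ≠ Cfsg.principalBlock M ↥(Subgroup.centralizer ({x} : Set G)) := fun h =>
      hne (SecondMain.induced_unique hM hb ((Blocks.induced_principal_iff hM ⟨B, hb⟩).2 h))
    have hDx : D ≤ Subgroup.centralizer ({x} : Set G) := fun d hd =>
      (hH d).2 (congrArg Subtype.val ((Subgroup.mem_center_iff.1 z.2 ⟨d, hd⟩).symm) :)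
    have hle := Blocks.card_le_pow_blockDefect hM hb.1 hbg
      (Q := D.subgroupOf (Subgroup.centralizer ({x} : Set G)))
      (hDp.of_equiv (Subgroup.subgroupOfEquivOfLe hDx).symm) (fun d hd =>
        Blocks.mem_centralizer_singleton.2 (Subtype.ext (Blocks.mem_centralizer_singleton.1
          (hDC (Subgroup.mem_subgroupOf.1 hd)))))
    rw [Nat.card_congr (Subgroup.subgroupOfEquivOfLe hDx).toEquiv, hcard] at hle
    have h1 := (Nat.pow_le_pow_iff_right hp.one_lt).1 hle
    have h2 := hC x hxo b hb.1 hbne
    omega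

end Cfsg.Agent.S4717
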