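import Cfsg.Statements.S4719
import Cfsg.Agent.Lib.TwoDeficiency.Classes
import Cfsg.Agent.Lib.TwoDeficiency.FourGroup
import Cfsg.Agent.S4494
import Cfsg.Agent.Lib.BrauerPairs.Basic

set_option autoImplicit false
universe u
open Cfsg

namespace Cfsg.Agent.S4719

open Cfsg.Agent

/-- Descending induction on the subgroup of the elementary abelian group. -/
theorem exists_centralizer_bound (a K : ℕ) : ∀ k : ℕ, ∃ N : ℕ, ∀ (G : Type u) [Group G] [Finite G]
    (r : ℕ), (Nat.card G).factorization 2 ≤ a →
    Nat.card {q : ConjClasses G //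
      2 ^ r ∣ Nat.card (Subgroup.centralizer ({q.out} : Set G))} ≤ K →
    ∀ E : Subgroup G, (∀ x ∈ E, ∀ y ∈ E, x * y = y * x) → (∀ x ∈ E, x * x = 1) →
      Nat.card E = 2 ^ (r + 1) → ∀ U : Subgroup G, U ≤ E → 2 ^ (r + 1) ≤ 2 ^ (k + 1) * Nat.card U →
      Nat.card (Subgroup.centralizer (U : Set G)) ≤ N := by
  intro k
  induction k with
  | zero =>
    obtain ⟨N, hN⟩ := TwoDeficiency.exists_order_bound.{u} (K * (2 ^ a) ^ (2 ^ a))
    refine ⟨N, fun G _ _ r ha hK E _ _ hE U hU hUr => hN _ ?_⟩
    obtain ⟨i, -, hi⟩ := (Nat.dvd_prime_pow Nat.prime_two).mp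
      (hE ▸ Subgroup.card_dvd_of_le hU : Nat.card U ∣ 2 ^ (r + 1))
    have hri : r ≤ i := by
      rw [hi, ← pow_add] at hUr
      have := (Nat.pow_le_pow_iff_right one_lt_two).mp hUr
      omega
    exact (TwoDeficiency.card_conjClasses_centralizer_le (p := 2) (IsPGroup.of_card hi)
      (hi ▸ pow_dvd_pow 2 hri) ha).trans (Nat.mul_le_mul_right _ hK)
  | succ k ih =>
    obtain ⟨N, hN⟩ := ih
    obtain ⟨F, hF⟩ := TwoDeficiency.exists_fourGroup_bound.{u} a N
    refine ⟨N + F, fun G _ _ r ha hK E hEc hE2 hE U hU hUr => ?_⟩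
    by_cases hbig : 2 ^ (r + 1) ≤ 2 ^ (k + 1) * Nat.card U
    · exact (hN G r ha hK E hEc hE2 hE U hU hbig).trans (Nat.le_add_right _ _)
    refine le_trans ?_ (Nat.le_add_left _ _)
    classical
    have := Fintype.ofFinite G
    have hUE : 2 * Nat.card U < Nat.card E := by
      rw [hE]
      refine lt_of_le_of_lt (Nat.mul_le_mul_right _ ?_) (not_le.mp hbig)
      exact Nat.le_self_pow (by omega) 2
    obtain ⟨u, huE, huU⟩ : ∃ u ∈ E, u ∉ U := by
      by_contra! h
      have := Subgroup.card_le_of_le (show E ≤ U from h)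
      omega
    obtain ⟨v, hvE, hvU, hvu⟩ : ∃ v ∈ E, v ∉ U ∧ u * v ∉ U := by
      by_contra! h
      have h1 : Finset.univ.filter (· ∈ E) ⊆
          Finset.univ.filter (· ∈ U) ∪ Finset.univ.filter (fun v => u * v ∈ U) := fun v hv => by
        simp only [Finset.mem_filter, Finset.mem_union, Finset.mem_univ, true_and] at hv ⊢
        exact or_iff_not_imp_left.mpr (h v hv)
      have h2 := (Finset.card_le_card h1).trans (Finset.card_union_le _ _)
      have h3 : (Finset.univ.filter fun v => u * v ∈ U).card ≤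
          (Finset.univ.filter (· ∈ U)).card :=
        Finset.card_le_card_of_injOn (fun v => u * v) (fun v hv => by simpa using hv)
          (fun v _ v' _ h => mul_left_cancel h)
      simp only [← Fintype.card_subtype, ← Nat.card_eq_fintype_card] at h2 h3
      omega
    set X := Subgroup.centralizer (U : Set G) with hX
    have hmemX : ∀ x ∈ E, x ∈ X := fun x hx =>
      Subgroup.mem_centralizer_iff.mpr fun y hy => hEc y (hU hy) x hx
    have key : ∀ x : X, (x : G) ∈ E → (x : G) ∉ U →
        Nat.card (Subgroup.centralizer ({x} : Set X)) ≤ N := by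
      intro x hxE hxU
      set U' := U ⊔ Subgroup.zpowers (x : G) with hU'
      have hU'E : U' ≤ E := sup_le hU ((Subgroup.zpowers_le).mpr hxE)
      have hU'r : 2 ^ (r + 1) ≤ 2 ^ (k + 1) * Nat.card U' := by
        have hlt : U < U' := lt_of_le_of_ne le_sup_left fun h =>
          hxU (h ▸ Subgroup.mem_sup_right (Subgroup.mem_zpowers _))
        obtain ⟨c, hc⟩ := Subgroup.card_dvd_of_le hlt.le
        have hc2 : 2 ≤ c := by
          rcases c with _ | _ | c
          · simp at hc
          · exact absurd (Subgroup.eq_of_le_of_card_ge hlt.le (by rw [hc, zero_add, mul_one])) hlt.ne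
          · omega
        refine hUr.trans ?_
        rw [hc, pow_succ, mul_assoc, mul_comm 2 (Nat.card U)]
        exact Nat.mul_le_mul_left _ (Nat.mul_le_mul_left _ hc2)
      refine le_trans ?_ (hN G r ha hK E hEc hE2 hE U' hU'E hU'r)
      refine Nat.card_le_card_of_injective (fun c : Subgroup.centralizer ({x} : Set X) =>
        (⟨((c : X) : G), ?_⟩ : Subgroup.centralizer (U' : Set G)))
        (fun c c' h => Subtype.ext (Subtype.ext (congrArg Subtype.val h :)))
      have hle : U' ≤ Subgroup.centralizer ({((c : X) : G)} : Set G) := by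
        refine sup_le (fun y hy => ?_) ((Subgroup.zpowers_le).mpr ?_)
        · exact Subgroup.mem_centralizer_singleton_iff.mpr
            (Subgroup.mem_centralizer_iff.mp (c : X).2 y hy)
        · exact Subgroup.mem_centralizer_singleton_iff.mpr
            (congrArg Subtype.val (Subgroup.mem_centralizer_singleton_iff.mp c.2)).symm
      exact Subgroup.mem_centralizer_iff.mpr fun y hy =>
        Subgroup.mem_centralizer_singleton_iff.mp (hle hy)
    have hne1 : ∀ x : X, (x : G) ∉ U → x ≠ 1 := fun x hx h => hx (h ▸ U.one_mem)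
    refine hF X ((((Nat.factorization_le_iff_dvd Nat.card_pos.ne' Nat.card_pos.ne').mpr
      X.card_subgroup_dvd_card) 2).trans ha) ⟨u, hmemX u huE⟩ ⟨v, hmemX v hvE⟩
      (Subtype.ext (hE2 u huE)) (hne1 _ huU) (Subtype.ext (hE2 v hvE)) (hne1 _ hvU) (fun h => ?_)
      (Subtype.ext (hEc u huE v hvE)) (key _ huE huU) (key _ hvE hvU)
      (key _ (E.mul_mem huE hvE) hvu)
    have h' : u = v := congrArg Subtype.val h
    exact hvu (h' ▸ (hE2 u huE).symm ▸ U.one_mem)

/-- For every natural number a there is a bound N with the following property. Let G be a finite group with Sylow 2-subgroups of order 2^a and r ≥ 0 such that G has no non-principal 2-block (relative to a maximal ideal of the algebraic integers containing 2) of defect ≥ r, and suppose a Sylow 2-subgroup of G contains an elementary abelian subgroup of order 2^(r+1). Then the order of G is at most N. -/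
theorem result (a : ℕ) : ∃ N : ℕ, ∀ (G : Type u) [Group G] [Finite G] (M : Ideal Cfsg.AlgInt) (r : ℕ) (P : Sylow 2 G), Cfsg.IsPModular 2 M → Nat.card P = 2 ^ a → (∀ B : Set (Cfsg.IrrCharacter G), Cfsg.IsPBlock M B → B ≠ Cfsg.principalBlock M G → Cfsg.blockDefect 2 B < r) → (∃ E : Subgroup G, E ≤ (P : Subgroup G) ∧ IsMulCommutative E ∧ (∀ x ∈ E, x * x = 1) ∧ Nat.card E = 2 ^ (r + 1)) → Nat.card G ≤ N := by
  obtain ⟨N, hN⟩ := exists_centralizer_bound.{u} a (2 ^ (2 * a) + 4) a
  refine ⟨N, fun G _ _ M r P hM hP hsmall ⟨E, hEP, hEc, hE2, hE⟩ => ?_⟩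
  have ha : (Nat.card G).factorization 2 = a := by
    have h := P.card_eq_multiplicity
    rw [hP] at h
    exact (Nat.pow_right_injective le_rfl h).symm
  have hB₀ : IsPBlock M (principalBlock M G) := BrauerPairs.isPBlock_principal
  have h1 : 4 * Nat.card (principalBlock M G) ≤ 2 ^ (2 * blockDefect 2 (principalBlock M G)) + 4 :=
    S4494.result 2 M hM _ hB₀
  have h2 : blockDefect 2 (principalBlock M G) ≤ a := ha ▸ Nat.sub_le _ _
  have h3 : 2 ^ (2 * blockDefect 2 (principalBlock M G)) ≤ 2 ^ (2 * a) :=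
    Nat.pow_le_pow_right two_pos (by omega)
  have hra : r + 1 ≤ a := (Nat.pow_dvd_pow_iff_le_right one_lt_two).mp
    (hP ▸ hE ▸ Subgroup.card_dvd_of_le hEP)
  have h4 := hN G r ha.le ((TwoDeficiency.card_defect_classes_le hM hB₀ hsmall).trans (by omega))
    E (fun x hx y hy => congrArg Subtype.val (hEc.is_comm.comm (⟨x, hx⟩ : E) ⟨y, hy⟩)) hE2 hE ⊥
    bot_le (by rw [Subgroup.card_bot, mul_one]; exact Nat.pow_le_pow_right two_pos (by omega))
  rwa [Subgroup.coe_bot, Subgroup.centralizer_eq_top_iff_subset.mpr (by simp),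
    Subgroup.card_top] at h4

end Cfsg.Agent.S4719
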