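import Cfsg.Statements.S4720
import Cfsg.Agent.Lib.SecondMain.Columns
import Cfsg.Agent.Lib.Blocks.LocalBlocks

set_option autoImplicit false
open Cfsg

namespace Cfsg.Agent.S4720

open scoped ComplexConjugate

variable {G : Type*} [Group G] [Finite G]

theorem colSum_one_one {M : Ideal AlgInt} {H : Subgroup G} (b : Set (IrrCharacter H)) :
    SecondMain.colSum b 1 1 = ((∑ᶠ ψ ∈ b, charDegree (ψ : H → ℂ) ^ 2 : ℕ) : ℂ) := by
  have := Fintype.ofFinite (IrrCharacter H)
  classical
  rw [SecondMain.colSum, finsum_mem_eq_toFinset_sum, finsum_mem_eq_toFinset_sum, Nat.cast_sum]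
  refine Finset.sum_congr rfl fun ψ _ => ?_
  rw [← Blocks.charDegree_cast, Complex.conj_natCast, Nat.cast_pow, sq]

/-- A column of the principal block at a `p`-element, by the third main theorem. -/
theorem colSum_principal_self {p : ℕ} {M : Ideal AlgInt} (hM : IsPModular p M) {x : G}
    (hx : ∃ k, orderOf x = p ^ k) {H : Subgroup G} (hH : ∀ g, g ∈ H ↔ Commute x g) :
    SecondMain.colSum (principalBlock M G) x x
      = ((∑ᶠ ψ ∈ principalBlock M H, charDegree (ψ : H → ℂ) ^ 2 : ℕ) : ℂ) := by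
  have hBH : IsPBlock M (principalBlock M H) := ⟨BrauerPairs.oneIrr H, rfl⟩
  have hset : SecondMain.inducedSet M H (principalBlock M G) = {principalBlock M H} := by
    ext b
    constructor
    · exact fun hb => (Blocks.induced_principal_iff hM ⟨_, hb⟩).mp hb
    · rintro rfl
      obtain ⟨B, hB⟩ := SecondMain.exists_induced_centralizer hM hx hH hBH
      exact (Blocks.induced_principal_iff hM ⟨B, hB⟩).mpr rfl
  have h1 : ¬ p ∣ orderOf (1 : H) := by
    rw [orderOf_one, Nat.dvd_one]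
    exact hM.1.ne_one
  have h := SecondMain.colSum_eq_sum hM (B := principalBlock M G) ⟨BrauerPairs.oneIrr G, rfl⟩ hx hH h1 h1
  rw [OneMemClass.coe_one, mul_one, hset, finsum_mem_singleton] at h
  rw [h, colSum_one_one (M := M)]

end Cfsg.Agent.S4720

namespace Cfsg.Agent.S4720

/-- Let p be a prime, M a maximal ideal of the algebraic integers containing p, P a p-subgroup of the finite group G, N a subgroup with P ≤ N ≤ N_G(P), and U a nonempty subset of P normalized by N such that an element of U and an element of P that are conjugate in G are already conjugate in N, and such that λ(C_G(y)) = w·#C_N(y) for every y ∈ U with one rational number w, where λ(X) denotes the sum of the squares of the degrees of the irreducible characters in the principal p-block of X. For a complex function θ on P and χ in the principal block of G put a_χ(θ) = #P⁻¹ Σ_{y ∈ P} χ(y) θ(y⁻¹). Then for generalized characters θ, η of P with θ vanishing outside U, Σ_χ a_χ(θ)·conj(a_χ(η))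 = (w/#P²)·Σ_{y ∈ P} θ(y)·conj(Σ_{x ∈ N} η(x y x⁻¹)) (η extended by zero off P; the conjugates lie in P), the first sum over the principal p-block of G. -/
theorem result {G : Type*} [Group G] [Finite G] (p : ℕ) [Fact p.Prime] (M : Ideal Cfsg.AlgInt) (hM : Cfsg.IsPModular p M) (P : Subgroup G) (hP : IsPGroup p P) (N : Subgroup G) (hPN : P ≤ N) (hNN : N ≤ Subgroup.normalizer (P : Set G)) (U : Set G) (hUne : U.Nonempty) (hUP : U ⊆ (P : Set G)) (hUN : ∀ n ∈ N, ∀ u ∈ U, n * u * n⁻¹ ∈ U) (hfus : ∀ u ∈ U, ∀ g : G, g * u * g⁻¹ ∈ (P : Set G) → ∃ n ∈ N, n * u * n⁻¹ = g * u * g⁻¹) (w : ℚ) (hw : ∀ y ∈ U, ((∑ᶠ ψ ∈ Cfsg.principalBlock M ↥(Subgroup.centralizer ({y} : Set G)), Cfsg.charDegree (ψ : ↥(Subgroup.centralizer ({y} : Set G)) → ℂ) ^ 2) : ℚ) = w * Nat.card ↥(N ⊓ Subgroup.centralizer ({y} : Set G))) (θ η : ↥P → ℂ) (hθ : Cfsg.IsGeneralizedCharacter ↥P θ) (hη : Cfsg.IsGeneralizedCharacter ↥P η) (hθU : ∀ y : ↥P, (y : G) ∉ U → θ y = 0) : ∑ᶠ χ ∈ Cfsg.principalBlock M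 G, ((Nat.card ↥P : ℂ)⁻¹ * ∑ᶠ y : ↥P, (χ : G → ℂ) (y : G) * θ y⁻¹) * (starRingEnd ℂ) ((Nat.card ↥P : ℂ)⁻¹ * ∑ᶠ y : ↥P, (χ : G → ℂ) (y : G) * η y⁻¹) = ((w : ℂ) / ((Nat.card ↥P : ℂ) ^ 2)) * ∑ᶠ y : ↥P, θ y * (starRingEnd ℂ) (∑ᶠ x : ↥N, Cfsg.extendByZero P η ((x : G) * (y : G) * (x : G)⁻¹)) := by
  classical
  have := Fintype.ofFinite G
  have := Fintype.ofFinite (IrrCharacter G)
  have hpr : p.Prime := Fact.out
  set B := principalBlock M G with hB
  have hBb : IsPBlock M B := ⟨BrauerPairs.oneIrr G, rfl⟩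
  let F : ↥P → ℂ := fun z => starRingEnd ℂ (η z⁻¹)
  -- the left side as a double sum over the columns
  have hL : ∑ᶠ χ ∈ B, ((Nat.card ↥P : ℂ)⁻¹ * ∑ᶠ y : ↥P, (χ : G → ℂ) (y : G) * θ y⁻¹) *
      (starRingEnd ℂ) ((Nat.card ↥P : ℂ)⁻¹ * ∑ᶠ y : ↥P, (χ : G → ℂ) (y : G) * η y⁻¹)
      = ((Nat.card ↥P : ℂ) ^ 2)⁻¹ *
        ∑ y : ↥P, θ y⁻¹ * ∑ z : ↥P, F z * SecondMain.colSum B (y : G) (z : G) := by
    simp only [SecondMain.colSum, finsum_mem_eq_toFinset_sum]
    simp only [finsum_eq_sum_of_fintype, map_mul,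
      map_sum, map_inv₀, Complex.conj_natCast, Finset.mul_sum, Finset.sum_mul]
    rw [Finset.sum_comm]
    conv_rhs => rw [Finset.sum_comm]
    refine Finset.sum_congr rfl fun y _ => ?_
    rw [Finset.sum_comm]
    exact Finset.sum_congr rfl fun z _ => Finset.sum_congr rfl fun χ _ => by simp only [F]; ring
  have hmem : ∀ (x : ↥N) (y : ↥P), (x : G) * (y : G) * (x : G)⁻¹ ∈ P := fun x y =>
    (Subgroup.mem_normalizer_iff.mp (hNN x.2) _).mp y.2
  let φ : ↥P → ↥N → ↥P := fun y x => ⟨_, hmem x y⟩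
  rw [hL, finsum_eq_sum_of_fintype]
  conv_rhs => rw [← Equiv.sum_comp (Equiv.inv ↥P)]
  rw [Finset.mul_sum, Finset.mul_sum]
  refine Finset.sum_congr rfl fun y _ => ?_
  have hR : (starRingEnd ℂ) (∑ᶠ x : ↥N, Cfsg.extendByZero P η
      ((x : G) * ((y⁻¹ : ↥P) : G) * (x : G)⁻¹)) = ∑ x : ↥N, F (φ y x) := by
    rw [finsum_eq_sum_of_fintype, map_sum]
    refine Finset.sum_congr rfl fun x _ => ?_
    have he : (x : G) * ((y⁻¹ : ↥P) : G) * (x : G)⁻¹ = (((φ y x)⁻¹ : ↥P) : G) := by
      simp only [φ, InvMemClass.coe_inv, mul_inv_rev, inv_inv, mul_assoc]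
    rw [he, Cfsg.extendByZero, Subtype.val_injective.extend_apply]
  simp only [Equiv.inv_apply, hR]
  by_cases hyU : ((y⁻¹ : ↥P) : G) ∈ U
  swap
  · simp [hθU _ hyU]
  have hH : ∀ g, g ∈ Subgroup.centralizer ({((y⁻¹ : ↥P) : G)} : Set G) ↔ Commute (y : G) g :=
    fun g => by
      rw [SecondMain.commute_iff_mem_centralizer_singleton, InvMemClass.coe_inv, Commute.inv_left_iff]
  have hx : ∃ k, orderOf (y : G) = p ^ k := by
    obtain ⟨k, hk⟩ := (IsPGroup.iff_orderOf.mp hP) y
    exact ⟨k, by rw [Subgroup.orderOf_coe, hk]⟩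
  have h1 : ¬ p ∣ orderOf (1 : G) := by
    rw [orderOf_one, Nat.dvd_one]
    exact hpr.ne_one
  set K := N ⊓ Subgroup.centralizer ({((y⁻¹ : ↥P) : G)} : Set G) with hK
  have hcol : ∀ z : ↥P, SecondMain.colSum B (y : G) (z : G)
      = (w : ℂ) * ((Finset.univ.filter fun x : ↥N => φ y x = z).card : ℂ) := by
    intro z
    by_cases hc : IsConj (y : G) (z : G)
    · obtain ⟨g, hg⟩ := isConj_iff.mp hc
      have hgu : g * ((y⁻¹ : ↥P) : G) * g⁻¹ ∈ (P : Set G) := by
        have : g * ((y⁻¹ : ↥P) : G) * g⁻¹ = ((z⁻¹ : ↥P) : G) := by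
          simp only [InvMemClass.coe_inv, ← hg, mul_inv_rev, inv_inv, mul_assoc]
        rw [this]
        exact (z⁻¹).2
      obtain ⟨n, hn, hn'⟩ := hfus _ hyU g hgu
      have hny : n * (y : G) * n⁻¹ = (z : G) := by
        rw [← hg]
        simpa [mul_inv_rev, mul_assoc] using congrArg (fun a => a⁻¹) hn'
      have hcard : (Finset.univ.filter fun x : ↥N => φ y x = z).card = Nat.card ↥K := by
        rw [← Fintype.card_subtype, ← Nat.card_eq_fintype_card]
        refine Nat.card_congr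
          { toFun := fun x => ⟨n⁻¹ * (x.1 : G), ?_⟩
            invFun := fun k => ⟨⟨n * (k : G), N.mul_mem hn k.2.1⟩, ?_⟩
            left_inv := fun x => by ext; simp
            right_inv := fun k => by ext; simp }
        · refine ⟨N.mul_mem (N.inv_mem hn) x.1.2, (hH _).mpr ?_⟩
          have hxy : (x.1 : G) * (y : G) * (x.1 : G)⁻¹ = n * (y : G) * n⁻¹ :=
            (congrArg Subtype.val x.2).trans hny.symm
          rw [mul_inv_eq_iff_eq_mul] at hxy
          show (y : G) * (n⁻¹ * (x.1 : G)) = n⁻¹ * (x.1 : G) * (y : G)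
          rw [mul_assoc n⁻¹, hxy]
          group
        · have hk : (y : G) * (k : G) = (k : G) * (y : G) := (hH _).mp k.2.2
          apply Subtype.ext
          show n * (k : G) * (y : G) * (n * (k : G))⁻¹ = (z : G)
          rw [← hny, mul_assoc n (k : G), ← hk, mul_inv_rev]
          group
      have hirr : ∀ χ : IrrCharacter G, (χ : G → ℂ) (z : G) = (χ : G → ℂ) (y : G) :=
        fun χ => by rw [← hg, (Blocks.irr_class χ) (y : G) g]
      have hself : SecondMain.colSum B (y : G) (z : G) = SecondMain.colSum B (y : G) (y : G) := by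
        simp only [SecondMain.colSum, hirr]
      rw [hself, hB, colSum_principal_self hM hx hH, hcard]
      have hwy := hw _ hyU
      have := Fintype.ofFinite (IrrCharacter (Subgroup.centralizer ({((y⁻¹ : ↥P) : G)} : Set G)))
      rw [finsum_mem_eq_toFinset_sum] at hwy ⊢
      exact_mod_cast hwy
    · have h0 := SecondMain.colSum_eq_zero hM hBb hx (x' := (z : G)) (y := 1) (y' := 1)
        (by obtain ⟨k, hk⟩ := (IsPGroup.iff_orderOf.mp hP) z
            exact ⟨k, by rw [Subgroup.orderOf_coe, hk]⟩) h1 h1 (Commute.one_right _)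
        (Commute.one_right _) hc
      rw [mul_one, mul_one] at h0
      have he : (Finset.univ.filter fun x : ↥N => φ y x = z) = ∅ :=
        Finset.filter_eq_empty_iff.mpr fun x _ hx' => hc (isConj_iff.mpr
          ⟨(x : G), congrArg Subtype.val hx'⟩)
      rw [h0, he]
      simp
  have hsum : ∑ x : ↥N, F (φ y x) =
      ∑ z : ↥P, F z * ((Finset.univ.filter fun x : ↥N => φ y x = z).card : ℂ) := by
    rw [← Finset.sum_fiberwise Finset.univ (φ y)]
    refine Finset.sum_congr rfl fun z _ => ?_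
    rw [Finset.sum_congr rfl fun x hx' => by rw [(Finset.mem_filter.mp hx').2],
      Finset.sum_const, nsmul_eq_mul, mul_comm]
  simp only [hsum, hcol, div_eq_mul_inv, Finset.mul_sum]
  exact Finset.sum_congr rfl fun z _ => by ring

end Cfsg.Agent.S4720
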