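import Cfsg.Statements.S4721
import Cfsg.Agent.Lib.FrobSection.Three
import Cfsg.Agent.Lib.ClassCount.CharSum

set_option autoImplicit false
open Cfsg

namespace Cfsg.Agent.S4721

/-- Let p be a prime, M a maximal ideal of the algebraic integers containing p, and G a finite group with a nontrivial abelian Sylow p-subgroup P, N = N_G(P), C = C_G(P), such that N/C is cyclic of order 3, #P > 4, and C_G(y) ∩ N = C for every non-identity y ∈ P. Then the principal p-block is the disjoint union of a set X of exactly 3 characters containing the principal character and a set Y of (#P − 1)/3 characters, with signs a_χ = ±1 (χ ∈ X, a = 1 at the principal character) and δ = ±1 such that every χ ∈ X takes the value a_χ at every element whose p-part is a non-identity element of P, and there is a map ζ from the non-principal linear characters of P onto Y, constant on N-conjugacy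 classes, with ζ_ψ(z) = δ·Σ ψ'(y) over the N-orbit of ψ, for z with p-part y ≠ 1 in P. If moreover G has an involution lying in no proper normal subgroup of G, then exactly two of the three numbers −δ and a_χ (χ ∈ X non-principal) equal −1, and the product of the degrees of the two non-principal members of X and of any member of Y is a perfect square. -/
theorem result {G : Type*} [Group G] [Finite G] (p : ℕ) [Fact p.Prime] (M : Ideal Cfsg.AlgInt) (hM : Cfsg.IsPModular p M) (P : Sylow p G) (hab : IsMulCommutative P) (hP1 : Nat.card P ≠ 1) (hCN : (Subgroup.centralizer ((P : Subgroup G) : Set G)).relIndex (Subgroup.normalizer ((P : Subgroup G) : Set G)) = 3) (hcyc : ∃ g : G, g ∈ Subgroup.normalizer ((P : Subgroup G) : Set G) ∧ Subgroup.centralizer ((P : Subgroup G) : Set G) ⊔ Subgroup.zpowers g = Subgroup.normalizer ((P : Subgroup G) : Set G)) (hm2 : 3 + 1 < Nat.card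 P) (hfrob : ∀ y : G, y ∈ (P : Subgroup G) → y ≠ 1 → Subgroup.centralizer ({y} : Set G) ⊓ Subgroup.normalizer ((P : Subgroup G) : Set G) = Subgroup.centralizer ((P : Subgroup G) : Set G)) : ∃ (X Y : Set (Cfsg.IrrCharacter G)), Cfsg.principalBlock M G = X ∪ Y ∧ Disjoint X Y ∧ Nat.card X = 3 ∧ Nat.card Y = (Nat.card P - 1) / 3 ∧ (∃ χ₁ ∈ X, (χ₁ : G → ℂ) = fun _ => 1) ∧ ∃ (a : Cfsg.IrrCharacter G → ℤ) (δ : ℤ) (ζ : (↥(P : Subgroup G) →* ℂˣ) → Cfsg.IrrCharacter G), (δ = 1 ∨ δ = -1) ∧ (∀ χ ∈ X, (a χ = 1 ∨ a χ = -1) ∧ ∀ z y : G, Cfsg.IsPPart p z y → y ∈ (P : Subgroup G) → y ≠ 1 → (χ : G → ℂ) z = (a χ : ℂ)) ∧ (∀ ψ : ↥(P : Subgroup G) →* ℂˣ, ψ ≠ 1 → ζ ψ ∈ Y) ∧ (∀ η ∈ Y, ∃ ψ : ↥(P : Subgroup G) →* ℂˣ, ψ ≠ 1 ∧ ζ ψ = η) ∧ (∀ ψ ψ' : ↥(P : Subgroup G) →* ℂˣ, ψ ≠ 1 → (∃ n : G, n ∈ Subgroup.normalizer ((P : Subgroup G) : Set G) ∧ ∀ w w' : ↥(P : Subgroup G), (w' : G) = n * w *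 n⁻¹ → ψ' w' = ψ w) → ζ ψ' = ζ ψ) ∧ (∀ ψ : ↥(P : Subgroup G) →* ℂˣ, ψ ≠ 1 → ∀ (z : G) (y : ↥(P : Subgroup G)), Cfsg.IsPPart p z (y : G) → (y : G) ≠ 1 → (ζ ψ : G → ℂ) z = (δ : ℂ) * ∑ᶠ ψ' ∈ {ψ' : ↥(P : Subgroup G) →* ℂˣ | ∃ n : G, n ∈ Subgroup.normalizer ((P : Subgroup G) : Set G) ∧ ∀ w w' : ↥(P : Subgroup G), (w' : G) = n * w * n⁻¹ → ψ' w' = ψ w}, ((ψ' y : ℂˣ) : ℂ)) ∧ ((∃ t : G, orderOf t = 2 ∧ ∀ K : Subgroup G, K.Normal → t ∈ K → K = ⊤) → Nat.card {χ : Cfsg.IrrCharacter G // χ ∈ X ∧ (χ : G → ℂ) ≠ (fun _ => 1) ∧ a χ = -1} + (if δ = 1 then 1 else 0) = 2 ∧ ∀ η ∈ Y, IsSquare (Cfsg.charDegree (η : G → ℂ) * ∏ᶠ χ ∈ {χ : Cfsg.IrrCharacter G | χ ∈ X ∧ (χ : G → ℂ) ≠ fun _ => 1}, Cfsg.charDegree (χ : G → ℂ))) := by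
  classical
  have := Fintype.ofFinite G
  have hS : Cfsg.Agent.FrobSection.Setup P := ⟨hab, hfrob⟩
  have hm : Nat.card (Cfsg.Agent.FrobSection.autP P) = 3 :=
    (Cfsg.Agent.FrobSection.card_autP P).trans hCN
  obtain ⟨D⟩ := hS.exists_three hM hm hm2
  have hY := D.card_Y
  obtain ⟨χ₁, hχ₁, hone, ha1⟩ := D.one
  have hr : Nat.card (D.ζ '' {ψ | ψ ≠ 1}) = (Nat.card P - 1) / 3 := by
    have : Nat.card P = Nat.card ↥(P : Subgroup G) := rfl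
    omega
  refine ⟨D.X, D.ζ '' {ψ | ψ ≠ 1}, D.block, D.disj, D.card_X, hr, ⟨χ₁, hχ₁, hone⟩, D.a, D.δ, D.ζ,
    D.sign, fun χ hχ => ⟨D.signX χ hχ, fun z y hz hy hy1 =>
      D.valX χ hχ z ⟨y, hy⟩ (fun e => hy1 (congrArg Subtype.val e)) hz⟩,
    fun ψ hψ => ⟨ψ, hψ, rfl⟩, fun η ⟨ψ, hψ, he⟩ => ⟨ψ, hψ, he⟩, ?_, ?_, ?_⟩
  · rintro ψ ψ' hψ hn
    have hψ' : ψ' ≠ 1 := by
      rintro rfl
      obtain ⟨n, hn, h⟩ := hn
      refine hψ (MonoidHom.ext fun w => ?_)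
      rw [MonoidHom.one_apply]
      exact (h w ⟨n * w * n⁻¹, (Subgroup.mem_normalizer_iff.mp hn _).mp w.2⟩ rfl).symm
    refine D.orbit_eq ψ' ψ hψ' hψ ?_
    obtain ⟨n, hn, h⟩ := hn
    funext w
    have ha : Subgroup.normalizerMonoidHom (P : Subgroup G) ⟨n, hn⟩ ∈ Cfsg.Agent.FrobSection.autP P :=
      ⟨_, rfl⟩
    refine finsum_eq_of_bijective (fun b => (⟨_, ha⟩⁻¹ : Cfsg.Agent.FrobSection.autP P) * b)
      (Equiv.mulLeft _).bijective fun b => ?_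
    refine congrArg (fun u : ℂˣ => (u : ℂ)) (h _ _ ?_)
    have : ((Subgroup.normalizerMonoidHom (P : Subgroup G) ⟨n, hn⟩)
        (((⟨_, ha⟩⁻¹ : Cfsg.Agent.FrobSection.autP P) * b).1 w) : ↥(P : Subgroup G)) = b.1 w := by
      simp [MulAut.mul_apply]
    rw [← congrArg Subtype.val this]
    rfl
  · intro ψ hψ z y hz hy
    rw [hS.orb_eq_finsum hψ y]
    exact D.valY ψ hψ z y (fun e => hy (congrArg Subtype.val e)) hz
  rintro ⟨t, ht, htN⟩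
  have hq : 8 < Nat.card ↥(P : Subgroup G) ∨ p ≠ 2 := by
    by_cases h2 : p = 2
    · subst h2
      obtain ⟨k, hk⟩ := IsPGroup.iff_card.mp P.2
      left
      rw [hk] at hY
      have hk3 : 3 ≤ k := by
        by_contra h
        interval_cases k <;> (rw [hk] at hm2; norm_num at hm2)
      have h8 : (8 : ℕ) ≤ 2 ^ k := le_trans (by norm_num) (Nat.pow_le_pow_right two_pos hk3)
      omega
    · exact Or.inr h2
  obtain ⟨ψ, hψ, h1, h2⟩ := D.relations hS hm hq ht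
  have hregular1 : ¬ p ∣ orderOf (1 : G) := by
    simp only [orderOf_one, Nat.dvd_one]; exact (Fact.out : p.Prime).ne_one
  have h0 := D.expand ψ hψ 1
  rw [hS.tau_regular (fun a ha y => Cfsg.Agent.FrobSection.orb₀_inv ψ ha y) hregular1,
    Cfsg.Agent.FrobSection.orb₀_apply_one] at h0
  have hdiff : (D.X \ {χ₁}).ncard = 2 := by
    rw [Set.ncard_sdiff_singleton_of_mem hχ₁, ← Nat.card_coe_set_eq, D.card_X]
  obtain ⟨χ₂, χ₃, h23, h23'⟩ := Set.ncard_eq_two.mp hdiff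
  have hX : D.X = insert χ₁ {χ₂, χ₃} := by
    rw [← h23', Set.insert_sdiff_singleton, Set.insert_eq_of_mem hχ₁]
  have hm2' : χ₂ ∈ D.X ∧ χ₂ ≠ χ₁ := by
    have : χ₂ ∈ D.X \ {χ₁} := by rw [h23']; exact Or.inl rfl
    exact ⟨this.1, fun e => this.2 e⟩
  have hm3' : χ₃ ∈ D.X ∧ χ₃ ≠ χ₁ := by
    have : χ₃ ∈ D.X \ {χ₁} := by rw [h23']; exact Or.inr rfl
    exact ⟨this.1, fun e => this.2 e⟩
  have hsum : ∀ f : Cfsg.IrrCharacter G → ℂ, ∑ᶠ χ ∈ D.X, f χ = f χ₁ + (f χ₂ + f χ₃) := by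
    intro f
    rw [hX, finsum_mem_insert f (by
      rintro (e | e)
      · exact hm2'.2 e.symm
      · exact hm3'.2 e.symm) (Set.toFinite _), finsum_mem_pair h23]
  rw [hsum] at h1 h2 h0
  obtain ⟨x₁, hx₁⟩ := Cfsg.Agent.SecondMain.exists_int_involution ht (D.ζ ψ)
  obtain ⟨x₂, hx₂⟩ := Cfsg.Agent.SecondMain.exists_int_involution ht χ₂
  obtain ⟨x₃, hx₃⟩ := Cfsg.Agent.SecondMain.exists_int_involution ht χ₃
  obtain ⟨n₁, hn₁, hd₁, hc₁⟩ := Cfsg.Agent.ClassCount.exists_degree_eq (D.ζ ψ)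
  obtain ⟨n₂, hn₂, hd₂, hc₂⟩ := Cfsg.Agent.ClassCount.exists_degree_eq χ₂
  obtain ⟨n₃, hn₃, hd₃, hc₃⟩ := Cfsg.Agent.ClassCount.exists_degree_eq χ₃
  simp only [hone, ha1, hx₁, hx₂, hx₃, hd₁, hd₂, hd₃, Int.cast_one, one_mul, one_pow, div_one] at h0 h1 h2
  have hne1 : ∀ χ : Cfsg.IrrCharacter G, χ ≠ χ₁ → (χ : G → ℂ) ≠ fun _ => 1 :=
    fun χ hχ e => hχ (Subtype.ext (e.trans hone.symm))
  have hζ1 : D.ζ ψ ≠ χ₁ := fun e =>
    Set.disjoint_left.mp D.disj hχ₁ ⟨ψ, hψ, e⟩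
  have hne : ∀ (χ : Cfsg.IrrCharacter G) (x : ℤ) (n : ℕ), χ ≠ χ₁ → (χ : G → ℂ) t = x →
      (χ : G → ℂ) 1 = n → x ≠ n := by
    intro χ x n hχ hx hn e
    refine Cfsg.Agent.FrobSection.irr_apply_ne_degree (hne1 χ hχ) htN ?_
    rw [hx, hn, e, Int.cast_natCast]
  have hn₁c : ((n₁ : ℕ) : ℂ) ≠ 0 := Nat.cast_ne_zero.mpr hn₁.ne'
  have hn₂c : ((n₂ : ℕ) : ℂ) ≠ 0 := Nat.cast_ne_zero.mpr hn₂.ne'
  have hn₃c : ((n₃ : ℕ) : ℂ) ≠ 0 := Nat.cast_ne_zero.mpr hn₃.ne'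
  field_simp at h2
  obtain ⟨hcount, hsq⟩ := Cfsg.Agent.FrobSection.count_and_square (n₁ := n₁) (n₂ := n₂) (n₃ := n₃)
    (e₁ := -D.δ) (e₂ := D.a χ₂) (e₃ := D.a χ₃) (x₁ := x₁) (x₂ := x₂) (x₃ := x₃)
    (by rcases D.sign with h | h <;> rw [h] <;> norm_num) (D.signX χ₂ hm2'.1) (D.signX χ₃ hm3'.1)
    hn₁ hn₂ hn₃ (hne _ _ _ hζ1 hx₁ hd₁) (hne _ _ _ hm2'.2 hx₂ hd₂) (hne _ _ _ hm3'.2 hx₃ hd₃)
    (by exact_mod_cast (show (1 : ℂ) + (-(D.δ : ℂ)) * n₁ + (D.a χ₂ : ℂ) * n₂ + (D.a χ₃ : ℂ) * n₃ = 0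
      by linear_combination h0))
    (by exact_mod_cast (show (1 : ℂ) + (-(D.δ : ℂ)) * x₁ + (D.a χ₂ : ℂ) * x₂ + (D.a χ₃ : ℂ) * x₃ = 0
      by linear_combination -h1))
    (by exact_mod_cast (show (n₁ : ℂ) * n₂ * n₃ + (-(D.δ : ℂ)) * x₁ ^ 2 * n₂ * n₃ +
        (D.a χ₂ : ℂ) * x₂ ^ 2 * n₁ * n₃ + (D.a χ₃ : ℂ) * x₃ ^ 2 * n₁ * n₂ = 0
      by linear_combination -h2))
  constructor
  · have hset : {χ : Cfsg.IrrCharacter G | χ ∈ D.X ∧ (χ : G → ℂ) ≠ (fun _ => 1) ∧ D.a χ = -1} =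
        ↑(Finset.filter (fun χ => D.a χ = -1) {χ₂, χ₃}) := by
      ext χ
      simp only [Set.mem_ofPred_eq, Finset.coe_filter, Finset.mem_insert, Finset.mem_singleton, hX,
        Set.mem_insert_iff, Set.mem_singleton_iff]
      constructor
      · rintro ⟨h | h | h, hn, ha⟩
        · exact absurd (h ▸ hone) hn
        · exact ⟨Or.inl h, ha⟩
        · exact ⟨Or.inr h, ha⟩
      · rintro ⟨h | h, ha⟩
        · exact ⟨Or.inr (Or.inl h), hne1 χ (h ▸ hm2'.2), ha⟩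
        · exact ⟨Or.inr (Or.inr h), hne1 χ (h ▸ hm3'.2), ha⟩
    show Nat.card ↥{χ : Cfsg.IrrCharacter G | χ ∈ D.X ∧ (χ : G → ℂ) ≠ (fun _ => 1) ∧ D.a χ = -1} + _ = 2
    rw [hset, Nat.card_coe_set_eq, Set.ncard_coe_finset, Finset.card_filter, Finset.sum_pair h23,
      ← hcount]
    have e : (if D.δ = 1 then 1 else 0 : ℕ) = if -D.δ = -1 then 1 else 0 := by
      simp [neg_inj]
    rw [e]
    omega
  · intro η hη
    have hdeg : Cfsg.charDegree (η : G → ℂ) = n₁ := by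
      rw [← hc₁, Cfsg.charDegree, Cfsg.charDegree]
      have he := D.expand ψ hψ 1
      obtain ⟨φ, hφ, rfl⟩ := hη
      have he' := D.expand φ hφ 1
      rw [hS.tau_regular (fun a ha y => Cfsg.Agent.FrobSection.orb₀_inv _ ha y) hregular1,
        Cfsg.Agent.FrobSection.orb₀_apply_one] at he he'
      have hδ : (D.δ : ℂ) ≠ 0 := by rcases D.sign with h | h <;> rw [h] <;> norm_num
      rw [mul_left_cancel₀ hδ (show (D.δ : ℂ) * (D.ζ φ : G → ℂ) 1 = (D.δ : ℂ) * (D.ζ ψ : G → ℂ) 1 by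
        linear_combination he - he')]
    have hpair : {χ : Cfsg.IrrCharacter G | χ ∈ D.X ∧ (χ : G → ℂ) ≠ fun _ => 1} = {χ₂, χ₃} := by
      rw [← h23']
      ext χ
      exact ⟨fun h => ⟨h.1, fun e => h.2 (Set.mem_singleton_iff.mp e ▸ hone)⟩,
        fun h => ⟨h.1, hne1 χ h.2⟩⟩
    rw [hdeg, hpair, finprod_mem_pair h23, hc₂, hc₃, ← mul_assoc]
    exact hsq

end Cfsg.Agent.S4721
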