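import Cfsg.Statements.S4722
import Cfsg.Agent.Lib.SecondMain.Columns
import Cfsg.Agent.Lib.ZStar.SecondPrincipal
import Cfsg.Agent.Lib.Cores.Basic
import Cfsg.Agent.Lib.CharApp.Schur

set_option autoImplicit false
open Cfsg

namespace Cfsg.Agent.S4722

open scoped ComplexConjugate

theorem conj_apply_of_isCharacter {G : Type*} [Group G] [Finite G] {χ : G → ℂ}
    (hχ : Cfsg.IsCharacter G χ) (g : G) : conj (χ g) = χ g⁻¹ :=
  (Agent.Char.IsCharacter.apply_inv hχ g).symm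

/-- If only one coefficient is positive the kernel condition follows. -/
theorem kernel_of_one_pos {ι : Type*} (s : Finset ι) (d c r : ι → ℝ) (hd : ∀ i ∈ s, 0 < d i)
    (h1 : ∑ i ∈ s, r i * d i = 0) (h2 : ∑ i ∈ s, r i * c i = 0)
    (h3 : ∑ i ∈ s, r i * c i ^ 2 / d i = 0) {o : ι} (ho : o ∈ s) (hro : r o ≠ 0) (hco : c o = d o)
    (hle : (s.filter fun i => 0 < r i).card ≤ 1) : ∀ i ∈ s, r i ≠ 0 → c i = d i := by
  have hex : ∃ f ∈ s, 0 < r f := by
    by_contra h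
    push Not at h
    have := (Finset.sum_eq_zero_iff_of_nonpos fun i hi =>
      mul_nonpos_of_nonpos_of_nonneg (h i hi) (hd i hi).le).1 h1 o ho
    exact hro ((mul_eq_zero.1 this).resolve_right (hd o ho).ne')
  obtain ⟨f, hf, hrf⟩ := hex
  set k := c f / d f with hk
  have hzero : ∑ i ∈ s, -(r i) * (c i - k * d i) ^ 2 / d i = 0 := by
    rw [Finset.sum_congr rfl (g := fun i => -(r i * c i ^ 2 / d i) + 2 * k * (r i * c i)
      - k ^ 2 * (r i * d i)) fun i hi => by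
        have := (hd i hi).ne'
        field_simp
        ring]
    simp [Finset.sum_sub_distrib, Finset.sum_add_distrib, Finset.sum_neg_distrib, ← Finset.mul_sum,
      h1, h2, h3]
  have hk' : ∀ i ∈ s, r i ≠ 0 → c i = k * d i := by
    intro i hi hri
    by_cases hif : i = f
    · subst hif
      rw [hk, div_mul_cancel₀ _ (hd i hi).ne']
    have hnn : ∀ j ∈ s, 0 ≤ -(r j) * (c j - k * d j) ^ 2 / d j := by
      intro j hj
      by_cases hjf : j = f
      · subst hjf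
        simp [hk, div_mul_cancel₀ _ (hd j hj).ne']
      · refine div_nonneg (mul_nonneg (neg_nonneg.2 (not_lt.1 fun h => hjf ?_)) (sq_nonneg _))
          (hd j hj).le
        exact Finset.card_le_one.1 hle j (Finset.mem_filter.2 ⟨hj, h⟩) f
          (Finset.mem_filter.2 ⟨hf, hrf⟩)
    have h0 := (Finset.sum_eq_zero_iff_of_nonneg hnn).1 hzero i hi
    rw [div_eq_zero_iff, mul_eq_zero, neg_eq_zero, sq_eq_zero_iff, sub_eq_zero] at h0
    exact (h0.resolve_right (hd i hi).ne').resolve_left hri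
  have hk1 : k = 1 := by
    have := hk' o ho hro
    rw [hco] at this
    exact mul_right_cancel₀ (hd o ho).ne' ((one_mul _).trans this).symm
  intro i hi hri
  rw [hk' i hi hri, hk1, one_mul]

/-- Let M be a maximal ideal of the algebraic integers containing 2, P a 2-subgroup of the finite group G, U a subset of P, and t an involution of G such that no element of U is inverted by any conjugate of t. Let θ be a generalized character of P vanishing outside U, and for χ in the principal 2-block B₀ put a_χ = #P⁻¹ Σ_{y ∈ P} χ(y) θ(y⁻¹). Then Σ_{χ ∈ B₀} a_χ χ(t)^2/χ(1) = 0, Σ_{χ ∈ B₀} a_χ χ(1) = 0 and Σ_{χ ∈ B₀} a_χ χ(t) = 0. If moreover #P⁻¹ Σ_{y ∈ P} θ(y) ≠ 0, then either at least two of the a_χ have positive real part and at least two have negative real part, or G has a proper normal subgroup containing O_2'(G) and t. -/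
theorem result {G : Type*} [Group G] [Finite G] (M : Ideal Cfsg.AlgInt) (hM : Cfsg.IsPModular 2 M) (P : Subgroup G) (hP : IsPGroup 2 P) (U : Set G) (hUP : U ⊆ (P : Set G)) (t : G) (ht : orderOf t = 2) (hinv : ∀ u ∈ U, ∀ g : G, (g * t * g⁻¹) * u * (g * t * g⁻¹)⁻¹ ≠ u⁻¹) (θ : ↥P → ℂ) (hθ : Cfsg.IsGeneralizedCharacter ↥P θ) (hθU : ∀ y : ↥P, (y : G) ∉ U → θ y = 0) : (∑ᶠ χ ∈ Cfsg.principalBlock M G, ((Nat.card ↥P : ℂ)⁻¹ * ∑ᶠ y : ↥P, (χ : G → ℂ) (y : G) * θ y⁻¹) * (χ : G → ℂ) t ^ 2 / (χ : G → ℂ) 1 = 0) ∧ (∑ᶠ χ ∈ Cfsg.principalBlock M G, ((Nat.card ↥P : ℂ)⁻¹ * ∑ᶠ y : ↥P, (χ : G → ℂ) (y : G) * θ y⁻¹) * (χ : G → ℂ) 1 = 0) ∧ (∑ᶠ χ ∈ Cfsg.principalBlock M G, ((Nat.card ↥P : ℂ)⁻¹ * ∑ᶠ y : ↥P, (χ : G → ℂ) (y : G) * θ y⁻¹) * (χ : G → ℂ) t = 0) ∧ ((Nat.card ↥P : ℂ)⁻¹ * ∑ᶠ y : ↥P, θ y ≠ 0 → (2 ≤ Nat.card {χ : Cfsg.IrrCharacter G // χ ∈ Cfsg.principalBlock M G ∧ 0 < (((Nat.card ↥P : ℂ)⁻¹ * ∑ᶠ y : ↥P, (χ : G → ℂ) (y : G) *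 θ y⁻¹)).re} ∧ 2 ≤ Nat.card {χ : Cfsg.IrrCharacter G // χ ∈ Cfsg.principalBlock M G ∧ (((Nat.card ↥P : ℂ)⁻¹ * ∑ᶠ y : ↥P, (χ : G → ℂ) (y : G) * θ y⁻¹)).re < 0}) ∨ ∃ K : Subgroup G, K.Normal ∧ K ≠ ⊤ ∧ Cfsg.pPrimeCore 2 G ≤ K ∧ t ∈ K) := by
  classical
  have := Fintype.ofFinite G
  have := Fintype.ofFinite P
  haveI : Fact (Nat.Prime 2) := ⟨Nat.prime_two⟩
  set B := Cfsg.principalBlock M G with hBdef
  have hB : Cfsg.IsPBlock M B := BrauerPairs.isPBlock_principal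
  set a : Cfsg.IrrCharacter G → ℂ := fun χ =>
    (Nat.card ↥P : ℂ)⁻¹ * ∑ᶠ y : ↥P, (χ : G → ℂ) (y : G) * θ y⁻¹ with ha
  have ht1 : t⁻¹ = t := inv_eq_of_mul_eq_one_right (by rw [← pow_two, ← ht, pow_orderOf_eq_one])
  have htt : t * t = 1 := by rw [← pow_two, ← ht, pow_orderOf_eq_one]
  have htk : ∃ k, orderOf t = 2 ^ k := ⟨1, by rw [ht, pow_one]⟩
  have hyk : ∀ y : ↥P, ∃ k, orderOf (y : G) = 2 ^ k := fun y => by
    obtain ⟨k, hk⟩ := IsPGroup.iff_orderOf.1 hP y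
    exact ⟨k, by rw [Subgroup.orderOf_coe, hk]⟩
  have h1reg : ¬ 2 ∣ orderOf (1 : G) := by simp
  -- columns at elements of `U`
  have hcol : ∀ y : ↥P, θ y⁻¹ ≠ 0 → ∀ w x z : G, Commute x z → (∃ k, orderOf x = 2 ^ k) →
      ¬ 2 ∣ orderOf z → w = x * z → (∃ g : G, (g * t * g⁻¹) * x * (g * t * g⁻¹)⁻¹ = x⁻¹) →
      ∑ᶠ χ ∈ B, (χ : G → ℂ) (y : G) * (χ : G → ℂ) w = 0 := by
    intro y hy w x z hxz hxk hz hw ⟨g, hg⟩
    have hyU : ((y⁻¹ : ↥P) : G) ∈ U := by
      by_contra h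
      exact hy (hθU _ h)
    have hne : ¬ IsConj (y : G) x⁻¹ := by
      intro hc
      obtain ⟨d, hd⟩ := isConj_iff.1 hc.symm
      refine hinv _ hyU (d * g) ?_
      rw [Subgroup.coe_inv, ← hd, show d * g * t * (d * g)⁻¹ = d * (g * t * g⁻¹) * d⁻¹ by group]
      generalize g * t * g⁻¹ = s at hg
      calc d * s * d⁻¹ * (d * x⁻¹ * d⁻¹)⁻¹ * (d * s * d⁻¹)⁻¹
          = d * (s * x * s⁻¹) * d⁻¹ := by group
        _ = (d * x⁻¹ * d⁻¹)⁻¹⁻¹ := by rw [hg, inv_inv]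
    have h := SecondMain.colSum_eq_zero hM hB (y := (1 : G)) (y' := z⁻¹) (hyk y)
      (x' := x⁻¹) (by rwa [orderOf_inv]) h1reg (by rwa [orderOf_inv]) (Commute.one_right _)
      hxz.inv_inv hne
    rw [← h, SecondMain.colSum]
    refine finsum_mem_congr rfl fun χ _ => ?_
    rw [mul_one, conj_apply_of_isCharacter (Agent.Char.IsIrrCharacter.isCharacter χ.2),
      ← hxz.inv_inv.eq.symm, ← mul_inv_rev, inv_inv, hw]
    all_goals (try congr 2)
  have hswap : ∀ F : Cfsg.IrrCharacter G → ℂ, (∀ y : ↥P, θ y⁻¹ ≠ 0 →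
      ∑ᶠ χ ∈ B, (χ : G → ℂ) (y : G) * F χ = 0) → ∑ᶠ χ ∈ B, a χ * F χ = 0 := by
    intro F hF
    simp only [ha, finsum_mem_eq_finite_toFinset_sum _ B.toFinite, finsum_eq_sum_of_fintype,
      mul_assoc, Finset.sum_mul, Finset.mul_sum] at hF ⊢
    rw [Finset.sum_comm]
    refine Finset.sum_eq_zero fun y _ => ?_
    by_cases hy : θ y⁻¹ = 0
    · simp [hy]
    · simp only [← Finset.mul_sum, mul_left_comm _ (θ y⁻¹), hF y hy, mul_zero]
  have e2 : ∑ᶠ χ ∈ B, a χ * (χ : G → ℂ) 1 = 0 := hswap _ fun y hy =>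
    hcol y hy 1 1 1 (Commute.one_left _) ⟨0, by simp⟩ h1reg (one_mul 1).symm ⟨1, by simp⟩
  have e3 : ∑ᶠ χ ∈ B, a χ * (χ : G → ℂ) t = 0 := hswap _ fun y hy =>
    hcol y hy t t 1 (Commute.one_right _) htk h1reg (mul_one t).symm ⟨1, by simp [ht1, htt]⟩
  have e1 : ∑ᶠ χ ∈ B, a χ * (χ : G → ℂ) t ^ 2 / (χ : G → ℂ) 1 = 0 := by
    have hkey : ∀ χ : Cfsg.IrrCharacter G, (χ : G → ℂ) t ^ 2 / (χ : G → ℂ) 1 =
        (Nat.card G : ℂ)⁻¹ * ∑ b : G, (χ : G → ℂ) (b * t * b⁻¹ * t) := by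
      intro χ
      obtain ⟨n, ρ, hirr, hρ⟩ := χ.2
      rw [← hρ, CharApp.sum_char_conj_mul ρ t t, Representation.char_one]
      have := Blocks.card_ne_zero_C (G := G)
      field_simp
    simp only [mul_div_assoc]
    refine hswap _ fun y hy => ?_
    simp only [hkey, mul_left_comm _ (Nat.card G : ℂ)⁻¹, finsum_mem_eq_finite_toFinset_sum _ B.toFinite,
      ← Finset.mul_sum]
    rw [Finset.sum_congr rfl fun (i : Cfsg.IrrCharacter G) _ => Finset.mul_sum Finset.univ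
      (fun b => (i : G → ℂ) (b * t * b⁻¹ * t)) ((i : G → ℂ) (y : G))]
    rw [Finset.sum_comm, Finset.sum_eq_zero, mul_zero]
    intro b _
    rw [← finsum_mem_eq_finite_toFinset_sum _ B.toFinite]
    set g := b * t * b⁻¹ * t with hg
    obtain ⟨x, z, hxz, hxm, hzm, hxk, hzc⟩ := Transfer.exists_pPart_mul (p := 2) g
    have htg : t * g * t⁻¹ = g⁻¹ := by
      have hb : (b * t * b⁻¹)⁻¹ = b * t * b⁻¹ := by rw [conj_inv, ht1]
      rw [hg, mul_inv_rev (b * t * b⁻¹) t, hb, ht1]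
      calc t * (b * t * b⁻¹ * t) * t = t * (b * t * b⁻¹) * (t * t) := by group
        _ = t * (b * t * b⁻¹) := by rw [htt, mul_one]
    obtain ⟨i, rfl⟩ := Subgroup.mem_zpowers_iff.1 hxm
    obtain ⟨j, rfl⟩ := Subgroup.mem_zpowers_iff.1 hzm
    refine hcol y hy g _ _ ((Commute.refl g).zpow_zpow i j) hxk
      ((Nat.prime_two.coprime_iff_not_dvd).1 hzc.symm) hxz ⟨1, ?_⟩
    rw [one_mul, inv_one, mul_one]
    calc t * g ^ i * t⁻¹ = (t * g * t⁻¹) ^ i := conj_zpow.symm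
      _ = (g ^ i)⁻¹ := by rw [htg, inv_zpow]
  refine ⟨e1, e2, e3, fun hθ0 => ?_⟩
  by_contra hcon
  push Not at hcon
  obtain ⟨hcard, hK⟩ := hcon
  have hint : ∀ χ : Cfsg.IrrCharacter G, a χ = ((a χ).re : ℂ) := by
    intro χ
    obtain ⟨φ₁, φ₂, hφ₁, hφ₂, hθe⟩ := hθ
    have hr := Agent.Char.IsCharacter.restrict (Agent.Char.IsIrrCharacter.isCharacter χ.2) P
    obtain ⟨m₁, hm₁⟩ := Agent.Char.IsCharacter.classInner_nat hr hφ₁
    obtain ⟨m₂, hm₂⟩ := Agent.Char.IsCharacter.classInner_nat hr hφ₂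
    have : a χ = (m₁ : ℂ) - m₂ := by
      rw [← hm₁, ← hm₂, ha]
      simp only [Cfsg.classInner, ← mul_sub, ← Finset.sum_sub_distrib, finsum_eq_sum_of_fintype,
        hθe, Pi.sub_apply, Agent.Char.IsCharacter.apply_inv hφ₁, Agent.Char.IsCharacter.apply_inv hφ₂]
    rw [this]
    simp
  have htre : ∀ χ : Cfsg.IrrCharacter G, (χ : G → ℂ) t = (((χ : G → ℂ) t).re : ℂ) := fun χ => by
    refine (Complex.conj_eq_iff_re.1 ?_).symm
    rw [conj_apply_of_isCharacter (Agent.Char.IsIrrCharacter.isCharacter χ.2), ht1]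
  have hdeg : ∀ χ : Cfsg.IrrCharacter G, ∃ n : ℕ, (χ : G → ℂ) 1 = n := fun χ =>
    Agent.Char.IsCharacter.exists_degree (Agent.Char.IsIrrCharacter.isCharacter χ.2)
  have hdre : ∀ χ : Cfsg.IrrCharacter G, (χ : G → ℂ) 1 = (((χ : G → ℂ) 1).re : ℂ) ∧
      0 < ((χ : G → ℂ) 1).re := fun χ => by
    obtain ⟨n, hn⟩ := hdeg χ
    refine ⟨by simp [hn], ?_⟩
    rw [hn, Complex.natCast_re]
    exact_mod_cast Nat.pos_of_ne_zero fun h0 => Blocks.irr_one_ne_zero χ (by rw [hn, h0, Nat.cast_zero])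
  set s := B.toFinite.toFinset
  set r : Cfsg.IrrCharacter G → ℝ := fun χ => (a χ).re with hr
  set c : Cfsg.IrrCharacter G → ℝ := fun χ => ((χ : G → ℂ) t).re
  set d : Cfsg.IrrCharacter G → ℝ := fun χ => ((χ : G → ℂ) 1).re
  have hd : ∀ i ∈ s, 0 < d i := fun i _ => (hdre i).2
  have r1 : ∑ i ∈ s, r i * d i = 0 := Complex.ofReal_injective (by
    rw [← Complex.ofReal_zero] at e2
    rw [← e2, finsum_mem_eq_finite_toFinset_sum _ B.toFinite, Complex.ofReal_sum]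
    exact Finset.sum_congr rfl fun i _ => by
      rw [Complex.ofReal_mul, ← hint, ← (hdre i).1])
  have r2 : ∑ i ∈ s, r i * c i = 0 := Complex.ofReal_injective (by
    rw [← Complex.ofReal_zero] at e3
    rw [← e3, finsum_mem_eq_finite_toFinset_sum _ B.toFinite, Complex.ofReal_sum]
    exact Finset.sum_congr rfl fun i _ => by rw [Complex.ofReal_mul, ← hint, ← htre])
  have r3 : ∑ i ∈ s, r i * c i ^ 2 / d i = 0 := Complex.ofReal_injective (by
    rw [← Complex.ofReal_zero] at e1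
    rw [← e1, finsum_mem_eq_finite_toFinset_sum _ B.toFinite, Complex.ofReal_sum]
    exact Finset.sum_congr rfl fun i _ => by
      rw [Complex.ofReal_div, Complex.ofReal_mul, Complex.ofReal_pow, ← hint, ← htre, ← (hdre i).1])
  set one := BrauerPairs.oneIrr G
  have hos : one ∈ s := B.toFinite.mem_toFinset.2 (BrauerPairs.oneIrr_mem_principal hM)
  have hco : c one = d one := rfl
  have hro : r one ≠ 0 := fun h0 => hθ0 (by
    have h := hint one
    rw [show (a one).re = r one from rfl, h0, Complex.ofReal_zero] at h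
    rw [← h, ha]
    refine congrArg _ ?_
    rw [finsum_eq_sum_of_fintype, finsum_eq_sum_of_fintype]
    exact Fintype.sum_equiv (Equiv.inv _) _ _ fun y => by simp [one, BrauerPairs.oneIrr])
  have hker : ∀ i ∈ s, r i ≠ 0 → c i = d i := by
    have hcnt : ∀ P' : Cfsg.IrrCharacter G → Prop,
        Nat.card {χ : Cfsg.IrrCharacter G // χ ∈ B ∧ P' χ} = (s.filter P').card := by
      intro P'
      rw [← Nat.card_eq_finsetCard]
      exact Nat.card_congr (Equiv.subtypeEquivRight fun χ => by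
        rw [Finset.mem_filter, B.toFinite.mem_toFinset])
    by_cases hp : 2 ≤ Nat.card {χ : Cfsg.IrrCharacter G // χ ∈ B ∧ 0 < r χ}
    · refine fun i hi hri => kernel_of_one_pos s d c (fun i => -r i) hd ?_ ?_ ?_ hos
        (neg_ne_zero.2 hro) hco ?_ i hi (neg_ne_zero.2 hri)
      · simp [r1]
      · simp [r2]
      · simp [neg_div, r3]
      · have : Nat.card {χ : Cfsg.IrrCharacter G // χ ∈ B ∧ r χ < 0} < 2 := hcard hp
        rw [hcnt] at this
        simp only [Left.neg_pos_iff]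
        omega
    · refine kernel_of_one_pos s d c r hd r1 r2 r3 hos hro hco ?_
      rw [hcnt] at hp
      omega
  let S : Set (Cfsg.IrrCharacter G) := {χ | χ ∈ B ∧ r χ ≠ 0}
  let K : Subgroup G :=
    { carrier := {g | ∀ χ ∈ S, (χ : G → ℂ) g = (χ : G → ℂ) 1}
      one_mem' := fun _ _ => rfl
      mul_mem' := fun {x y} hx hy χ hχ => by
        obtain ⟨n, ρ, -, hρ⟩ := χ.2
        have h1 := hx χ hχ
        have h2 := hy χ hχ
        rw [← hρ, Representation.char_one, Agent.Char.character_eq_finrank_iff] at h1 h2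
        rw [← hρ, Representation.char_one, Agent.Char.character_eq_finrank_iff, map_mul, h1, h2]
        rfl
      inv_mem' := fun {x} hx χ hχ => by
        rw [← conj_apply_of_isCharacter (Agent.Char.IsIrrCharacter.isCharacter χ.2), hx χ hχ,
          conj_apply_of_isCharacter (Agent.Char.IsIrrCharacter.isCharacter χ.2), inv_one] }
  refine hK K ⟨fun g hg h χ hχ => (Blocks.irr_class χ g h).trans (hg χ hχ)⟩ ?_ ?_ ?_
  · intro hKtop
    have hex : ∃ χ ∈ s, r χ ≠ 0 ∧ χ ≠ one := by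
      by_contra h
      push Not at h
      rw [Finset.sum_eq_single one (fun i hi hne => by
        rw [not_not.1 fun h' => hne (h i hi h'), zero_mul]) fun h' => absurd hos h'] at r1
      exact hro ((mul_eq_zero.1 r1).resolve_right (hd one hos).ne')
    obtain ⟨χ, hχs, hχr, hχ1⟩ := hex
    have hconst : ∀ g, (χ : G → ℂ) g = (χ : G → ℂ) 1 := fun g =>
      (hKtop ▸ Subgroup.mem_top g : g ∈ K) χ ⟨B.toFinite.mem_toFinset.1 hχs, hχr⟩
    have h := Agent.Char.classInner_irr_of_ne χ.2 one.2 fun h => hχ1 (Subtype.ext h)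
    rw [Cfsg.classInner] at h
    simp only [hconst, one, BrauerPairs.oneIrr, map_one, mul_one, Finset.sum_const, nsmul_eq_mul] at h
    rw [Finset.card_univ, ← Nat.card_eq_fintype_card, ← mul_assoc,
      inv_mul_cancel₀ Blocks.card_ne_zero_C, one_mul] at h
    exact Blocks.irr_one_ne_zero χ h
  · intro v hv χ hχ
    have h := ZStar.apply_mul_eq hM (u := 1) (v := v) ⟨0, by simp⟩ (Cfsg.pPrimeCore 2 G)
      Cores.not_dvd_card_pPrimeCore (fun o _ => Commute.one_right o)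
      (fun c _ o ho => (inferInstance : (Cfsg.pPrimeCore 2 G).Normal).conj_mem o ho c) hv hχ.1
    rwa [one_mul] at h
  · intro χ hχ
    rw [htre χ, (hdre χ).1]
    exact congrArg _ (hker χ (B.toFinite.mem_toFinset.2 hχ.1) hχ.2)

end Cfsg.Agent.S4722
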