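import Cfsg.Statements.S4723
import Cfsg.Agent.Lib.Blocks.Defect
import Cfsg.Agent.Lib.Blocks.OrbitSum
import Cfsg.Agent.Lib.Blocks.SylowIn
import Cfsg.Agent.Lib.CliffordChar.Basic

set_option autoImplicit false
open Cfsg

namespace Cfsg.Agent.S4723

open Cfsg.Agent
open scoped ComplexConjugate

open scoped Classical in
/-- A sum over a `p`-group set of a function constant on orbits modulo `M` is congruent to the sum
over the fixed points. -/
theorem memI_sum_of_fixed {P α : Type*} [Group P] [MulAction P α] [Fintype α] {p : ℕ}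
    [Fact p.Prime] {M : Ideal AlgInt} (hM : IsPModular p M) (hP : IsPGroup p P) (f : α → ℂ)
    (hR : ∀ a, MemLocalRing M (f a)) (hcong : ∀ (u : P) a, MemLocalIdeal M (f (u • a) - f a))
    (hfix : ∀ a ∈ MulAction.fixedPoints P α, MemLocalIdeal M (f a)) :
    MemLocalIdeal M (∑ a, f a) := by
  let g : α → ℂ := fun a =>
    f (Quotient.out (Quotient.mk (MulAction.orbitRel P α) a : MulAction.orbitRel.Quotient P α))
  have hg : ∀ a, MemLocalIdeal M (f a - g a) := by
    intro a
    obtain ⟨u, hu⟩ := MulAction.orbitRel_apply.mp (Quotient.exact (Quotient.out_eq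
      (Quotient.mk (MulAction.orbitRel P α) a)))
    refine Blocks.memI_sub_comm ?_
    show MemLocalIdeal M (f _ - f a)
    rw [← hu]
    exact hcong u a
  have hinv : ∀ (u : P) a, g (u • a) = g a := by
    intro u a
    have : (Quotient.mk (MulAction.orbitRel P α) (u • a)) = Quotient.mk _ a :=
      Quotient.sound (MulAction.orbitRel_apply.mpr ⟨u, rfl⟩)
    simp only [g, this]
  let S : AddSubmonoid ℂ :=
    { carrier := {x | MemLocalIdeal M x}
      zero_mem' := Blocks.memI_zero hM
      add_mem' := fun h h' => Blocks.memI_add hM h h' }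
  have h1 : MemLocalIdeal M
      (∑ a ∈ Finset.univ.filter (fun a => a ∉ MulAction.fixedPoints P α), g a) :=
    Blocks.sum_not_fixed_mem hP g hinv S fun a => by
      show MemLocalIdeal M _
      rw [nsmul_eq_mul]
      exact Blocks.memI_mul_right hM (Blocks.memI_p hM) (hR _)
  rw [show ∑ a, f a = ∑ a, (f a - g a) + ∑ a, g a by
    rw [← Finset.sum_add_distrib]; simp]
  refine Blocks.memI_add hM (Blocks.memI_sum hM _ fun a _ => hg a) ?_
  rw [← Finset.sum_filter_add_sum_filter_not Finset.univ (fun a => a ∈ MulAction.fixedPoints P α) g]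
  refine Blocks.memI_add hM (Blocks.memI_sum hM _ fun a ha => ?_) h1
  have := Blocks.memI_sub hM (hfix a (Finset.mem_filter.mp ha).2) (hg a)
  simpa using this

variable {G : Type*} [Group G] [Finite G] (H : Subgroup G) [H.Normal]

theorem centralChar_conjFun (s : G) (θ : IrrCharacter H) (h : H) :
    centralChar (CliffordChar.conjFun H s (θ : H → ℂ)) (MulAut.conjNormal s h)
      = centralChar (θ : H → ℂ) h := by
  classical
  have := Fintype.ofFinite H
  have e1 := Blocks.omega_classInd (MulAut.conjNormal s h)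
    (⟨_, CliffordChar.isIrr_conjFun H s θ.2⟩ : IrrCharacter H)
  rw [← Blocks.omega_classInd h θ]
  refine e1.symm.trans ?_
  simp only [Blocks.omega_eq_sum]
  congr 1
  · refine (Fintype.sum_equiv (MulAut.conjNormal s : H ≃* H).toEquiv _ _ fun x => ?_).symm
    simp only [CliffordChar.conjFun, MulEquiv.toEquiv_eq_coe, EquivLike.coe_coe, map_inv,
      MulAut.inv_apply_self, Blocks.classInd]
    congr 1
    by_cases hc : IsConj h x
    · have hc2 : IsConj (MulAut.conjNormal s h) (MulAut.conjNormal s x) :=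
        (MulAut.conjNormal s : H ≃* H).toMonoidHom.map_isConj hc
      rw [if_pos hc, if_pos hc2]
    · rw [if_neg hc, if_neg fun hc' => hc ?_]
      simpa using (MulAut.conjNormal s : H ≃* H).symm.toMonoidHom.map_isConj hc'
  · simp [CliffordChar.conjFun]

/-- Let p be a prime, M a maximal ideal of the algebraic integers containing p, H a normal subgroup of the finite group G and b a p-block of H. Let T be the stabilizer of b in G. Then b contains a character θ of height zero whose own stabilizer in G (the elements g with θ(g h g⁻¹) = θ(h) for all h ∈ H) has index prime to p in T, i.e. contains a Sylow p-subgroup of T. -/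
theorem result {G : Type*} [Group G] [Finite G] (p : ℕ) [Fact p.Prime] (M : Ideal Cfsg.AlgInt) (hM : Cfsg.IsPModular p M) (H : Subgroup G) [H.Normal] (b : Set (Cfsg.IrrCharacter ↥H)) (hb : Cfsg.IsPBlock M b) (T : Subgroup G) (hT : (∀ g : G, g ∈ T ↔ ∀ θ ∈ b, ∀ θ' : Cfsg.IrrCharacter ↥H, (∀ h h' : ↥H, (h' : G) = g * h * g⁻¹ → (θ' : ↥H → ℂ) h' = (θ : ↥H → ℂ) h) → θ' ∈ b)) : ∃ θ ∈ b, Cfsg.blockHeight p b (θ : ↥H → ℂ) = 0 ∧ ∃ S : Subgroup G, S ≤ T ∧ (∀ g : G, g ∈ S ↔ (g ∈ T ∧ ∀ h h' : ↥H, (h' : G) = g * h * g⁻¹ → (θ : ↥H → ℂ) h' = (θ : ↥H → ℂ) h)) ∧ ¬ p ∣ S.relIndex T := by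
  classical
  have := Fintype.ofFinite H
  have := Fintype.ofFinite (IrrCharacter H)
  have := Fintype.ofFinite (ConjClasses H)
  let cj : G → IrrCharacter H → IrrCharacter H := fun x θ =>
    ⟨CliffordChar.conjFun H x (θ : H → ℂ), CliffordChar.isIrr_conjFun H x θ.2⟩
  have cj_coe : ∀ x θ, ((cj x θ : IrrCharacter H) : H → ℂ)
      = CliffordChar.conjFun H x (θ : H → ℂ) := fun _ _ => rfl
  have cj_apply : ∀ x θ (h : H), ((cj x θ : IrrCharacter H) : H → ℂ) (MulAut.conjNormal x h)
      = (θ : H → ℂ) h := fun x θ h => by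
    simp [cj_coe, CliffordChar.conjFun]
  have cj_mul : ∀ x y θ, cj (x * y) θ = cj x (cj y θ) := fun x y θ =>
    Subtype.ext (CliffordChar.conjFun_mul H x y _)
  have cj_one : ∀ θ, cj 1 θ = θ := fun θ => Subtype.ext (CliffordChar.conjFun_one H _)
  have cj_mem : ∀ x ∈ T, ∀ θ ∈ b, cj x θ ∈ b := by
    intro x hx θ hθ
    refine (hT x).mp hx θ hθ _ fun h h' hh' => ?_
    have : h' = MulAut.conjNormal x h := Subtype.ext (by rw [hh', MulAut.conjNormal_apply])
    rw [this, cj_apply]
  obtain ⟨S0, hS0⟩ := Blocks.sylowIn_exists p T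
  have hS0T := Blocks.sylowIn_le hS0
  have hS0p := Blocks.sylowIn_isPGroup hS0
  -- the action on the block
  letI actb : MulAction S0 b :=
    { smul := fun x θ => ⟨cj (x : G) θ.1, cj_mem _ (hS0T x.2) _ θ.2⟩
      one_smul := fun θ => Subtype.ext (cj_one _)
      mul_smul := fun x y θ => Subtype.ext (cj_mul _ _ _) }
  have hcoe : ∀ (x : S0) (θ : b), ((x • θ : b) : IrrCharacter H) = cj (x : G) θ.1 :=
    fun _ _ => rfl
  -- invariance of the idempotent
  have he : ∀ x ∈ T, ∀ h : H, blockCoeff b (MulAut.conjNormal x h) = blockCoeff b h := by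
    intro x hx h
    simp only [blockCoeff, finsum_mem_eq_toFinset_sum]
    congr 1
    refine (Finset.sum_bij' (fun θ _ => cj x θ) (fun θ _ => cj x⁻¹ θ) ?_ ?_ ?_ ?_ ?_).symm
    · exact fun θ hθ => Set.mem_toFinset.mpr (cj_mem x hx θ (Set.mem_toFinset.mp hθ))
    · exact fun θ hθ =>
        Set.mem_toFinset.mpr (cj_mem _ (T.inv_mem hx) θ (Set.mem_toFinset.mp hθ))
    · intro θ _; rw [← cj_mul, inv_mul_cancel, cj_one]
    · intro θ _; rw [← cj_mul, mul_inv_cancel, cj_one]
    · intro θ _
      rw [cj_apply]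
      congr 1
      have := cj_apply x θ 1
      rw [map_one] at this
      exact this.symm
  obtain ⟨ξ, hξ⟩ := Blocks.isPBlock_nonempty hM hb
  -- a fixed defect class
  letI actc : MulAction S0 (ConjClasses H) :=
    { smul := fun x q => ConjClasses.map (MulAut.conjNormal (x : G) : MulAut H).toMonoidHom q
      one_smul := fun q => Quotient.inductionOn q fun h => by
        show ConjClasses.mk _ = ConjClasses.mk h
        simp
      mul_smul := fun x y q => Quotient.inductionOn q fun h => by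
        show ConjClasses.mk _ = ConjClasses.mk _
        simp [map_mul, MulAut.mul_apply] }
  have hsmul : ∀ (x : S0) (h : H),
      x • ConjClasses.mk h = ConjClasses.mk (MulAut.conjNormal (x : G) h) := fun _ _ => rfl
  have homega : ∀ x y : H, IsConj x y →
      centralChar (ξ : H → ℂ) x = centralChar (ξ : H → ℂ) y := by
    intro x y hxy
    rw [← Blocks.omega_classInd, ← Blocks.omega_classInd]
    congr 1
    funext z
    simp only [Blocks.classInd]
    by_cases hc : IsConj x z
    · rw [if_pos hc, if_pos (hxy.symm.trans hc)]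
    · rw [if_neg hc, if_neg fun hc' => hc (hxy.trans hc')]
  let F : ConjClasses H → ℂ := fun q =>
    blockCoeff b (Quotient.out q) * centralChar (ξ : H → ℂ) (Quotient.out q)
  have hF : ∀ h : H, F (ConjClasses.mk h) = blockCoeff b h * centralChar (ξ : H → ℂ) h := by
    intro h
    have hc : IsConj (Quotient.out (ConjClasses.mk h)) h :=
      ConjClasses.mk_eq_mk_iff_isConj.mp (Quotient.out_eq _)
    simp only [F, homega _ _ hc,
      Blocks.classFunction_eq_of_isConj (Blocks.isClassFunction_blockCoeff b) hc]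
  obtain ⟨g, hgfix, hge, hgω⟩ : ∃ g : H, (∀ x : S0, IsConj g (MulAut.conjNormal (x : G) g)) ∧
      ¬ MemLocalIdeal M (blockCoeff b g) ∧ ¬ MemLocalIdeal M (centralChar (ξ : H → ℂ) g) := by
    by_contra hcon
    push Not at hcon
    have h1 : Blocks.omega (ξ : H → ℂ) (blockCoeff b) = 1 := by
      rw [Blocks.blockCoeff_eq_ofOmega, Blocks.omega_ofOmega, Blocks.blockInd_of_mem hξ]
    rw [Blocks.omega_eq_sum_classes (Blocks.isClassFunction_blockCoeff b)] at h1
    apply Blocks.not_memI_one hM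
    rw [← h1]
    refine memI_sum_of_fixed hM hS0p F
      (fun q => Blocks.memR_mul hM (Blocks.memR_blockCoeff hM hb _) (Blocks.memR_centralChar hM ξ _))
      ?_ ?_
    · intro x q
      obtain ⟨h, rfl⟩ := ConjClasses.mk_surjective q
      rw [hsmul, hF, hF, he _ (hS0T x.2), ← mul_sub]
      refine Blocks.memI_mul_left hM (Blocks.memR_blockCoeff hM hb _) ?_
      rw [← centralChar_conjFun H (x : G) ξ h]
      exact Blocks.sameBlock_of_mem hM hb hξ (cj_mem _ (hS0T x.2) ξ hξ) _
    · intro q hq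
      obtain ⟨h, rfl⟩ := ConjClasses.mk_surjective q
      rw [hF]
      by_cases hce : MemLocalIdeal M (blockCoeff b h)
      · exact Blocks.memI_mul_right hM hce (Blocks.memR_centralChar hM ξ _)
      · refine Blocks.memI_mul_left hM (Blocks.memR_blockCoeff hM hb _) (hcon h (fun x => ?_) hce)
        have := MulAction.mem_fixedPoints.mp hq x
        rw [hsmul, ConjClasses.mk_eq_mk_iff_isConj] at this
        exact this.symm
  have hgdc : IsDefectClass M b g := ⟨Blocks.memR_blockCoeff hM hb g, hge, fun χ hχ h =>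
    hgω ((Blocks.memI_iff_of_sub hM (Blocks.sameBlock_of_mem hM hb hξ hχ g)).mpr h)⟩
  obtain ⟨D, hgD⟩ := Blocks.sylowIn_exists p (Subgroup.centralizer ({g} : Set H))
  have hD : IsDefectGroup p M b D := ⟨g, hgdc, hgD⟩
  have hgC : g ∈ Subgroup.centralizer (D : Set H) :=
    Blocks.le_centralizer_singleton.mp (Blocks.sylowIn_le hgD)
  have hgC' : g⁻¹ ∈ Subgroup.centralizer (D : Set H) := Subgroup.inv_mem _ hgC
  -- the averages
  let av : IrrCharacter H → ℂ := fun θ =>
    (∑ u : D, (θ : H → ℂ) (g⁻¹ * u)) * (Nat.card D : ℂ)⁻¹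
  have havR : ∀ θ, MemLocalRing M (av θ) := fun θ => by
    refine Blocks.memR_of_isIntegral hM ?_
    have := Blocks.isIntegral_avg (Char.IsIrrCharacter.isCharacter θ.2) D hgC'
    simpa [av, mul_comm] using this
  have havinv : ∀ (x : S0) (θ : IrrCharacter H), av (cj (x : G) θ) = av θ := by
    intro x θ
    set ψ := cj (x : G) θ with hψ
    obtain ⟨h, hh⟩ := isConj_iff.mp (hgfix x)
    let β : H ≃* H := (MulAut.conjNormal (x : G) : MulAut H).trans (MulAut.conj h⁻¹)
    have hβ : ∀ z, β z = h⁻¹ * MulAut.conjNormal (x : G) z * h := fun z => by simp [β]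
    have hβg : β g = g := by rw [hβ, ← hh]; group
    have hD' : Blocks.SylowIn p (Subgroup.centralizer ({g} : Set H)) (D.map β.toMonoidHom) := by
      refine Blocks.sylowIn_of_card_eq ?_ ((Blocks.sylowIn_isPGroup hgD).map _) ?_
      · rintro _ ⟨u, hu, rfl⟩
        rw [Blocks.mem_centralizer_singleton]
        have h1 := congrArg β (Blocks.mem_centralizer_singleton.mp (Blocks.sylowIn_le hgD hu))
        rw [map_mul, map_mul, hβg] at h1
        exact h1
      · rw [Subgroup.card_map_of_injective β.injective, Blocks.sylowIn_card hgD]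
    obtain ⟨y, hy, hyD⟩ := Blocks.sylowIn_isConj hgD hD'
    let γ : H ≃* H := β.trans (MulAut.conj y⁻¹)
    have hγ : ∀ z, γ z = y⁻¹ * β z * y := fun z => by simp [γ]
    have hγg : γ g = g := by
      rw [hγ, hβg, mul_assoc, ← Blocks.mem_centralizer_singleton.mp hy, inv_mul_cancel_left]
    have hγD : ∀ u, u ∈ D ↔ γ u ∈ D := by
      intro u
      rw [hγ, ← Blocks.mem_conjSub, hyD]
      exact ⟨fun hu => ⟨u, hu, rfl⟩, fun ⟨v, hv, hvu⟩ => β.injective hvu ▸ hv⟩
    have hψγ : ∀ z, (ψ : H → ℂ) (γ z) = (θ : H → ℂ) z := by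
      intro z
      rw [hγ, hβ, show y⁻¹ * (h⁻¹ * MulAut.conjNormal (x : G) z * h) * y
        = (h * y)⁻¹ * MulAut.conjNormal (x : G) z * ((h * y)⁻¹)⁻¹ by group,
        Blocks.irr_class ψ, cj_apply]
    simp only [av]
    congr 1
    refine (Fintype.sum_equiv (γ.toEquiv.subtypeEquiv hγD) _ _ fun u => ?_).symm
    show (θ : H → ℂ) (g⁻¹ * u) = (ψ : H → ℂ) (g⁻¹ * γ (u : H))
    rw [← hψγ (g⁻¹ * u), map_mul, map_inv, hγg]
  -- degrees
  have hp : p.Prime := Fact.out
  set e := D.index.factorization p with hedef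
  set m := D.index / p ^ e with hm
  have hidx : D.index ≠ 0 := Subgroup.index_ne_zero_of_finite
  have hmp : ¬ p ∣ m := Nat.not_dvd_ordCompl hp hidx
  have hcard : p ^ e * Nat.card D * m = Nat.card H := by
    rw [mul_right_comm, hm, hedef, Nat.ordProj_mul_ordCompl_eq_self, D.index_mul_card]
  have hdvd : ∀ χ ∈ b, p ^ e ∣ charDegree (χ : H → ℂ) := fun χ hχ =>
    Blocks.pow_dvd_charDegree hM hχ hD ⟨m, hcard.symm⟩
  choose! r hr using hdvd
  have hrinv : ∀ (x : S0) (θ : IrrCharacter H), θ ∈ b → r (cj (x : G) θ) = r θ := by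
    intro x θ hθ
    apply Nat.eq_of_mul_eq_mul_left (pow_pos hp.pos e)
    rw [← hr _ hθ, ← hr _ (cj_mem _ (hS0T x.2) θ hθ)]
    simp [charDegree, cj_coe, CliffordChar.conjFun]
  have hreg := Blocks.pRegular_of_blockCoeff hM hb hge
  have hsum : ∑ θ : b, (r θ.1 : ℂ) * av θ.1 = (m : ℂ) * blockCoeff b g := by
    have hzero : ∑ u : D, blockCoeff b (g * u) = blockCoeff b g := by
      rw [Finset.sum_eq_single (1 : D)]
      · simp
      · intro u _ hu
        rw [Blocks.blockCoeff_eq_ofOmega]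
        refine Blocks.ofOmega_singular_eq_zero hM (Blocks.blockInd_mem_intRing hM hb) ?_
        have hcomm : Commute g (u : H) := (Subgroup.mem_centralizer_iff.mp hgC u u.2).symm
        obtain ⟨k, hk⟩ := IsPGroup.iff_orderOf.mp (Blocks.sylowIn_isPGroup hgD) u
        rw [← Subgroup.orderOf_coe] at hk
        have hpk : p ∣ p ^ k := by
          refine dvd_pow_self p fun h0 => hu ?_
          rw [h0, pow_zero, orderOf_eq_one_iff] at hk
          exact Subtype.ext hk
        have hco : Nat.Coprime (orderOf g) (orderOf (u : H)) := by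
          rw [hk]
          exact Nat.Coprime.pow_right _ ((hp.coprime_iff_not_dvd).mpr hreg).symm
        rw [hcomm.orderOf_mul_eq_mul_orderOf_of_coprime hco, hk]
        exact dvd_mul_of_dvd_right hpk _
      · simp
    have hswap : ∀ θ : IrrCharacter H, ∑ u : D, conj ((θ : H → ℂ) (g * u))
        = ∑ u : D, (θ : H → ℂ) (g⁻¹ * u) := by
      intro θ
      refine Fintype.sum_equiv (Equiv.inv D) _ _ fun u => ?_
      rw [← Char.IsCharacter.apply_inv (Char.IsIrrCharacter.isCharacter θ.2), Equiv.inv_apply,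
        Subgroup.coe_inv, mul_inv_rev,
        (Subgroup.mem_centralizer_iff.mp hgC' _ (D.inv_mem u.2) : (u : H)⁻¹ * g⁻¹ = g⁻¹ * (u : H)⁻¹)]
    rw [← hzero, Finset.sum_set_coe (f := fun θ => (r θ : ℂ) * av θ)]
    simp only [blockCoeff, finsum_mem_eq_toFinset_sum, Finset.mul_sum]
    rw [Finset.sum_comm]
    refine Finset.sum_congr rfl fun θ hθ => ?_
    simp only [← Finset.mul_sum, hswap, av]
    rw [← Blocks.charDegree_cast, hr θ (Set.mem_toFinset.mp hθ), ← hcard]
    have h0 : (Nat.card D : ℂ) ≠ 0 := Nat.cast_ne_zero.mpr Nat.card_pos.ne'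
    have h1 : (p : ℂ) ≠ 0 := by exact_mod_cast hp.ne_zero
    have h2 : (m : ℂ) ≠ 0 := by exact_mod_cast fun h : m = 0 => hmp (h ▸ dvd_zero p)
    push_cast
    field_simp
  obtain ⟨θ, hfix, hrθ⟩ : ∃ θ : b, θ ∈ MulAction.fixedPoints S0 b ∧ ¬ p ∣ r θ.1 := by
    by_contra hcon
    push Not at hcon
    refine Blocks.not_memI_mul hM (Blocks.memR_natCast hM m) (Blocks.memR_blockCoeff hM hb g)
      (Blocks.not_memI_natCast hM hmp) hge ?_
    rw [← hsum]
    refine memI_sum_of_fixed hM hS0p _
      (fun θ => Blocks.memR_mul hM (Blocks.memR_natCast hM _) (havR _)) (fun x θ => ?_)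
      (fun θ hθ => Blocks.memI_mul_right hM ((Blocks.memI_natCast hM).mpr (hcon θ hθ)) (havR _))
    rw [hcoe, hrinv x θ.1 θ.2, havinv, sub_self]
    exact Blocks.memI_zero hM
  refine ⟨θ.1, θ.2, ?_, ?_⟩
  · have hr0 : r θ.1 ≠ 0 := fun h0 => hrθ (h0 ▸ dvd_zero p)
    have hv : (charDegree (θ.1 : H → ℂ)).factorization p = e := by
      rw [hr _ θ.2, Nat.factorization_mul (pow_ne_zero _ hp.ne_zero) hr0, Finsupp.add_apply,
        hp.factorization_pow, Finsupp.single_eq_same, Nat.factorization_eq_zero_of_not_dvd hrθ,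
        add_zero]
    unfold blockHeight
    rw [hv, Nat.sub_eq_zero_iff_le]
    refine le_csInf ⟨_, θ.1, θ.2, rfl⟩ ?_
    rintro _ ⟨χ, hχ, rfl⟩
    exact (hp.pow_dvd_iff_le_factorization (Blocks.charDegree_pos χ).ne').mp ⟨_, hr χ hχ⟩
  let St : Subgroup G :=
    { carrier := {x | cj x θ.1 = θ.1}
      one_mem' := cj_one _
      mul_mem' := fun {x y} hx hy => by
        show cj (x * y) θ.1 = θ.1
        rw [cj_mul, hy, hx]
      inv_mem' := fun {x} hx => by
        show cj x⁻¹ θ.1 = θ.1
        conv_lhs => rw [← hx, ← cj_mul, inv_mul_cancel, cj_one] }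
  have hmemSt : ∀ x : G, x ∈ St ↔
      ∀ h h' : H, (h' : G) = x * h * x⁻¹ → (θ.1 : H → ℂ) h' = (θ.1 : H → ℂ) h := by
    intro x
    show cj x θ.1 = θ.1 ↔ _
    constructor
    · intro hx h h' hh'
      have : h' = MulAut.conjNormal x h := Subtype.ext (by rw [hh', MulAut.conjNormal_apply])
      conv_lhs => rw [this, ← hx, cj_apply]
    · intro hx
      apply Subtype.ext
      funext z
      obtain ⟨h, rfl⟩ := (MulAut.conjNormal x : H ≃* H).surjective z
      exact (cj_apply x θ.1 h).trans (hx h _ (MulAut.conjNormal_apply x h)).symm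
  refine ⟨T ⊓ St, inf_le_left, fun x => by rw [Subgroup.mem_inf, hmemSt], ?_⟩
  have hle : S0 ≤ T ⊓ St := le_inf hS0T fun x hx =>
    congrArg Subtype.val (MulAction.mem_fixedPoints.mp hfix ⟨x, hx⟩)
  intro hdvd'
  have h3 := hdvd'.trans (Subgroup.relIndex_dvd_of_le_left T hle)
  obtain ⟨P, rfl⟩ := hS0
  rw [Subgroup.relIndex, Subgroup.subgroupOf,
    Subgroup.comap_map_eq_self_of_injective T.subtype_injective] at h3
  exact P.not_dvd_index h3

end Cfsg.Agent.S4723
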