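import Cfsg.Statements.S4724
import Cfsg.Agent.EqLemmas
import Cfsg.Agent.Lib.PrimeDegreeTI.Main
import Cfsg.Agent.S4706
import Cfsg.Agent.S0494

set_option autoImplicit false
open Cfsg

namespace Cfsg.Agent.S4724

open Cfsg.Agent.PrimeDegreeTI

/-- The case of a complement of order two. -/
theorem order_two {α : Type*} [Fintype α] [DecidableEq α] {p : ℕ} [Fact p.Prime] (hp5 : 5 ≤ p)
    (hα : Fintype.card α = p) (G : Subgroup (Equiv.Perm α)) [IsSimpleGroup G] (P : Sylow p G) (E : Subgroup G)
    (hnn : ¬ (P : Subgroup G).Normal) (hN : Nat.card (Subgroup.normalizer ((P : Subgroup G) : Set G)) = 2 * p)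
    (hE : Nat.card E = 2) (hNE : Nat.card (Subgroup.normalizer (E : Set G)) = 4) :
    (p = 5 ∨ p = 7 ∨ p = 11) ∧ ∃ (F : Type) (_ : Field F) (_ : Fintype F),
      Fintype.card F = p ∧ Nonempty (G ≃* Matrix.ProjectiveSpecialLinearGroup (Fin 2) F) := by
  classical
  rcases S4706.result (by omega) hα G P hN with h | ⟨a, K, _, _, hpa, hK, ⟨iso⟩⟩
  · exact absurd h hnn
  have ha2 : 2 ≤ a := by
    by_contra h
    have h1 : 2 ^ a ≤ 2 ^ 1 := Nat.pow_le_pow_right two_pos (by omega)
    omega
  haveI : Fact (Nat.Prime 2) := ⟨Nat.prime_two⟩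
  haveI : CharP K 2 := by
    obtain ⟨c, hc⟩ := CharP.exists K
    obtain ⟨l, hcp, hl⟩ := FiniteField.card K c
    haveI := hc
    rw [hK] at hl
    have : c = 2 := by
      have h1 : c ∣ 2 ^ a := hl ▸ dvd_pow_self c l.pos.ne'
      exact (Nat.prime_dvd_prime_iff_eq hcp Nat.prime_two).mp (hcp.dvd_of_dvd_pow h1)
    rwa [this] at hc
  -- the involution of `E`
  obtain ⟨t, ht⟩ := exists_prime_orderOf_dvd_card' (G := E) 2 (dvd_of_eq hE.symm)
  set A : Matrix (Fin 2) (Fin 2) K := (iso (t : G) : Matrix.SpecialLinearGroup (Fin 2) K).1 with hA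
  have ht1 : (t : G) ≠ 1 := fun h => by
    rw [orderOf_eq_one_iff.mpr (Subtype.ext h : t = 1)] at ht
    omega
  have htt : (t : G) * t = 1 := by
    have := pow_orderOf_eq_one t
    rw [ht, pow_two] at this
    exact congrArg Subtype.val this
  have hAA : A * A = 1 := by
    rw [hA, ← Matrix.SpecialLinearGroup.coe_mul, ← map_mul, htt, map_one, Matrix.SpecialLinearGroup.coe_one]
  set N := A - 1 with hN'
  have htwo : (2 : K) = 0 := CharTwo.two_eq_zero
  have hNN : N * N = 0 := by
    have h2 : N * N = (2 : K) • (1 - A) := by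
      rw [hN', sub_mul, mul_sub, hAA, mul_one, one_mul, two_smul]; abel
    rw [h2, htwo, zero_smul]
  have hN0 : N ≠ 0 := fun h => by
    rw [hN', sub_eq_zero] at h
    exact ht1 (iso.injective (by rw [map_one]; exact Subtype.ext h))
  have htr : N.trace = 0 := isNilpotent_iff_eq_zero.mp
    (Matrix.isNilpotent_trace_of_isNilpotent ⟨2, by rw [pow_two]; exact hNN⟩)
  have hdet : N.det = 0 := by
    have h := congrArg Matrix.det hNN
    rwa [Matrix.det_mul, Matrix.det_zero, mul_self_eq_zero] at h
  have hdet1 : ∀ c : K, (1 + c • N).det = 1 := by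
    intro c
    rw [Matrix.det_fin_two] at hdet ⊢
    rw [Matrix.trace_fin_two] at htr
    simp [Matrix.one_apply]
    linear_combination c * htr + c ^ 2 * hdet
  let f : K → G := fun c => iso.symm ⟨1 + c • N, hdet1 c⟩
  have hfc : ∀ c, f c * (t : G) = (t : G) * f c := by
    intro c
    apply iso.injective
    have hfi : iso (f c) = (⟨1 + c • N, hdet1 c⟩ : Matrix.SpecialLinearGroup (Fin 2) K) := iso.apply_symm_apply _
    rw [map_mul, map_mul, hfi]
    apply Subtype.ext
    show (1 + c • N) * A = A * (1 + c • N)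
    rw [show A = 1 + N by rw [hN']; abel]
    simp only [mul_add, add_mul, one_mul, mul_one, smul_mul_assoc, mul_smul_comm, hNN, smul_zero]
    abel
  have hfN : ∀ c, f c ∈ Subgroup.normalizer (E : Set G) := by
    intro c
    have hEt : ∀ y ∈ E, y = 1 ∨ y = (t : G) := by
      intro y hy
      by_contra hcon
      push Not at hcon
      have h3 : ({1, (t : G), y} : Finset G).card = 3 := by
        simp [Ne.symm ht1, Ne.symm hcon.1, Ne.symm hcon.2]
      haveI : Fintype E := Fintype.ofFinite E
      have hle : ({1, (t : G), y} : Finset G).card ≤ (Finset.univ.map ⟨_, Subtype.val_injective (p := (· ∈ E))⟩).card := by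
        refine Finset.card_le_card fun z hz => ?_
        simp only [Finset.mem_insert, Finset.mem_singleton] at hz
        refine Finset.mem_map.mpr ?_
        rcases hz with rfl | rfl | rfl
        · exact ⟨1, Finset.mem_univ _, rfl⟩
        · exact ⟨t, Finset.mem_univ _, rfl⟩
        · exact ⟨⟨z, hy⟩, Finset.mem_univ _, rfl⟩
      rw [h3, Finset.card_map, Finset.card_univ, ← Nat.card_eq_fintype_card, hE] at hle
      omega
    have hfix : ∀ y ∈ E, f c * y * (f c)⁻¹ = y := by
      intro y hy
      rcases hEt y hy with rfl | rfl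
      · group
      · rw [hfc, mul_inv_cancel_right]
    rw [← Transfer.map_conj_eq_iff_mem_normalizer]
    refine Subgroup.eq_of_le_of_card_ge ?_ (Subgroup.card_map_of_injective (MulEquiv.injective _)).ge
    rintro _ ⟨y, hy, rfl⟩
    show f c * y * (f c)⁻¹ ∈ E
    rw [hfix y hy]
    exact hy
  have hfinj : Function.Injective f := by
    intro c d h
    have h1 : c • N = d • N := add_left_cancel (congrArg Subtype.val (iso.symm.injective h))
    exact (smul_left_injective K hN0) h1
  have hle : Nat.card K ≤ 4 := hNE ▸ Nat.card_le_card_of_injective (fun c => (⟨f c, hfN c⟩ : Subgroup.normalizer (E : Set G)))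
    fun c d h => hfinj (congrArg Subtype.val h)
  rw [Nat.card_eq_fintype_card, hK] at hle
  have ha : a = 2 := by
    by_contra h
    have h1 : 2 ^ 3 ≤ 2 ^ a := Nat.pow_le_pow_right two_pos (by omega)
    omega
  have hp' : p = 5 := by rw [hpa, ha]; rfl
  refine ⟨Or.inl hp', ?_⟩
  haveI : Fact (Nat.Prime 5) := ⟨Nat.prime_five⟩
  refine ⟨ZMod 5, inferInstance, inferInstance, by rw [ZMod.card, hp'], ?_⟩
  have hG60 : Nat.card G = 60 := by
    rw [Nat.card_congr iso.toEquiv, GLOrder.card_SL_two, Nat.card_eq_fintype_card, hK, ha]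
    rfl
  have h5 : Nat.card (ZMod 5) = 5 := Nat.card_zmod 5
  haveI := PSL2.isSimpleGroup_psl (L := ZMod 5) (by omega)
  have hP60 : Nat.card (Matrix.ProjectiveSpecialLinearGroup (Fin 2) (ZMod 5)) = 60 := by
    have h := GLOrder.card_PSL_two_of_odd (F := ZMod 5) (by rw [h5]; decide)
    rw [h5] at h
    omega
  obtain ⟨e1⟩ := S0494.result hG60
  obtain ⟨e2⟩ := S0494.result hP60
  exact ⟨e1.trans e2.symm⟩


/-- Let G be a transitive permutation group of prime degree p having exactly one irreducible character of degree p. Let P be a Sylow p-subgroup and suppose N_G(P) = P·E for a subgroup E with P ∩ E = 1, such that the normalizer of E has order 2·#E and E meets each of its conjugates by elements outside its normalizer trivially. Then p is 5, 7 or 11 and G is isomorphic to PSL(2, p). -/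
theorem result {α : Type*} [Fintype α] [DecidableEq α] {p : ℕ} [Fact p.Prime] (hα : Fintype.card α = p) (G : Subgroup (Equiv.Perm α)) [MulAction.IsPretransitive G α] (huniq : ∃! χ : Cfsg.IrrCharacter G, Cfsg.charDegree (χ : G → ℂ) = p) (P : Sylow p G) (E : Subgroup G) (hPE : (P : Subgroup G) ⊔ E = Subgroup.normalizer ((P : Subgroup G) : Set G)) (hPE' : (P : Subgroup G) ⊓ E = ⊥) (hNE : Nat.card (Subgroup.normalizer (E : Set G)) = 2 * Nat.card E) (hTI : ∀ g : G, g ∉ Subgroup.normalizer (E : Set G) → E ⊓ E.map (MulAut.conj g).toMonoidHom = ⊥) : (p = 5 ∨ p = 7 ∨ p = 11) ∧ ∃ (F : Type) (_ : Field F) (_ : Fintype F), Fintype.card F = p ∧ Nonempty (G ≃* Matrix.ProjectiveSpecialLinearGroup (Fin 2) F) := by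
  classical
  obtain ⟨St, hSt, hu⟩ := PrimeDegreeTI.exists_rep_char huniq
  haveI : FaithfulSMul G α := inferInstance
  haveI := Fintype.ofFinite G
  have hp5 := PrimeDegreeTI.five_le hα St hSt
  have hG := PrimeDegreeTI.commutator_eq_top hα St hSt hu
  have hcomm := PrimeDegreeTI.E_comm hα P E hPE hPE'
  haveI := PrimeDegreeTI.isSimpleGroup hα St hSt hu P E hPE hcomm
  have hnn := PrimeDegreeTI.not_normal hα St hSt P
  rcases Nat.lt_or_ge (Nat.card E) 3 with hlt | hge
  swap
  · exact PrimeDegreeTI.main hα St hSt hu P E hPE hPE' hNE hTI hge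
  have h0 : 0 < Nat.card E := Nat.card_pos
  rcases (show Nat.card E = 1 ∨ Nat.card E = 2 by omega) with h1 | h2
  · exfalso
    rw [h1, Subgroup.card_eq_one.mp h1, Subgroup.normalizer_eq_top_iff.mpr inferInstance, Subgroup.card_top] at hNE
    have := PrimeDegreeTI.sq_add_one_le St hSt
    nlinarith
  · refine order_two hp5 hα G P E hnn ?_ h2 (by rw [hNE, h2])
    have hbij : Function.Bijective (fun z : ↥(P : Subgroup G) × ↥E =>
        (⟨(z.1 : G) * (z.2 : G), (Subgroup.normalizer ((P : Subgroup G) : Set G)).mul_mem (Subgroup.le_normalizer z.1.2)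
          (PrimeDegreeTI.E_le_normalizer P E hPE z.2.2)⟩ : Subgroup.normalizer ((P : Subgroup G) : Set G))) := by
      refine ⟨fun z z' h => ?_, fun g => ?_⟩
      · obtain ⟨e1, e2⟩ := PrimeDegreeTI.decomp_unique (P : Subgroup G) E hPE' z.1.2 z'.1.2 (congrArg Subtype.val h)
        exact Prod.ext (Subtype.ext e1) e2
      · obtain ⟨y, hy, r, he⟩ := PrimeDegreeTI.exists_decomp (P : Subgroup G) E hPE g.2
        exact ⟨(⟨y, hy⟩, r), Subtype.ext he⟩
    rw [← Nat.card_congr (Equiv.ofBijective _ hbij), Nat.card_prod, h2, (PrimeDegreeTI.sylow_data hα P).1, mul_comm]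

end Cfsg.Agent.S4724
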