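import Cfsg.Statements.S4725
import Cfsg.Agent.Lib.Blocks.Induced
import Cfsg.Agent.Lib.Char.Induced

set_option autoImplicit false
open Cfsg

namespace Cfsg.Agent.S4725

open Cfsg.Agent

/-- The induced-block congruence, extended to integral class functions. -/
theorem omega_res_congr {G : Type*} [Group G] [Finite G] {p : ℕ} {M : Ideal AlgInt}
    (hM : IsPModular p M) {H : Subgroup G} {b : Set (IrrCharacter H)} {B : Set (IrrCharacter G)}
    (hind : IsInducedBlock M H b B) {ξ : IrrCharacter H} (hξ : ξ ∈ b) {χ : IrrCharacter G}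
    (hχ : χ ∈ B) {z : G → ℂ} (hz : IsClassFunction G z) (hzR : ∀ g, MemLocalRing M (z g)) :
    MemLocalIdeal M
      (Blocks.omega (ξ : H → ℂ) (fun h : H => z h) - Blocks.omega (χ : G → ℂ) z) := by
  classical
  have := Fintype.ofFinite G
  have := Fintype.ofFinite (ConjClasses G)
  have h1 : Blocks.omega (ξ : H → ℂ) (fun h : H => z h)
      = ∑ q : ConjClasses G,
          z (Quotient.out q) * inducedCentralChar H (ξ : H → ℂ) (Quotient.out q) := by
    simp only [Blocks.inducedCentralChar_eq_omega hM, Blocks.omega_eq_sum, ← mul_div_assoc]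
    rw [← Finset.sum_div]
    congr 1
    simp only [Finset.mul_sum]
    rw [Finset.sum_comm]
    refine Finset.sum_congr rfl fun h _ => ?_
    rw [Blocks.classFunction_eq_sum_classInd hz (h : G), Finset.sum_mul]
    exact Finset.sum_congr rfl fun q _ => mul_assoc _ _ _
  rw [h1, Blocks.omega_eq_sum_classes hz, ← Finset.sum_sub_distrib]
  refine Blocks.memI_sum hM _ fun q _ => ?_
  rw [← mul_sub]
  exact Blocks.memI_mul_left hM (hzR _) (hind.2.2 ξ hξ χ hχ _)

/-- Let p be a prime, M a maximal ideal of the algebraic integers containing p, H a subgroup of the finite group G, and b a p-block of H inducing the p-block B of G, with b and B of the same defect. Then for every height-zero ζ ∈ b there is a height-zero χ ∈ B whose multiplicity in the character induced from ζ is not divisible by p. -/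
theorem result {G : Type*} [Group G] [Fintype G] (p : ℕ) [Fact p.Prime] (M : Ideal Cfsg.AlgInt) (hM : Cfsg.IsPModular p M) (H : Subgroup G) (b : Set (Cfsg.IrrCharacter ↥H)) (B : Set (Cfsg.IrrCharacter G)) (hind : Cfsg.IsInducedBlock M H b B) (hdef : Cfsg.blockDefect p b = Cfsg.blockDefect p B) (ζ : Cfsg.IrrCharacter ↥H) (hζ : ζ ∈ b) (hζ0 : Cfsg.blockHeight p b (ζ : ↥H → ℂ) = 0) : ∃ χ ∈ B, Cfsg.blockHeight p B (χ : G → ℂ) = 0 ∧ ∃ a : ℕ, Cfsg.classInner (Cfsg.indFun H (ζ : ↥H → ℂ)) (χ : G → ℂ) = (a : ℂ) ∧ ¬ p ∣ a := by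
  classical
  have := Fintype.ofFinite (IrrCharacter G)
  have hp : p.Prime := Fact.out
  have hb := hind.1
  have hB := hind.2.1
  obtain ⟨χ₀, hχ₀⟩ := Blocks.isPBlock_nonempty hM hB
  -- valuations
  set N : ℕ := H.index * charDegree (ζ : H → ℂ) with hN
  set e := N.factorization p with he
  have hidx : H.index ≠ 0 := Subgroup.index_ne_zero_of_finite
  have hN0 : N ≠ 0 := mul_ne_zero hidx (Blocks.charDegree_pos ζ).ne'
  have hmin : sInf ((fun χ : IrrCharacter G => (charDegree (χ : G → ℂ)).factorization p) '' B)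
      = e := by
    have h1 : sInf ((fun ψ : IrrCharacter H => (charDegree (ψ : H → ℂ)).factorization p) '' b)
        ≤ (charDegree (ζ : H → ℂ)).factorization p := Nat.sInf_le ⟨ζ, hζ, rfl⟩
    have h2 : sInf ((fun χ : IrrCharacter G => (charDegree (χ : G → ℂ)).factorization p) '' B)
        ≤ (charDegree (χ₀ : G → ℂ)).factorization p := Nat.sInf_le ⟨χ₀, hχ₀, rfl⟩
    have h3 := (Nat.factorization_le_iff_dvd (Blocks.charDegree_pos χ₀).ne'
      Nat.card_pos.ne').mpr (Blocks.charDegree_dvd_card χ₀) p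
    have h4 := (Nat.factorization_le_iff_dvd (Blocks.charDegree_pos ζ).ne'
      Nat.card_pos.ne').mpr (Blocks.charDegree_dvd_card ζ) p
    have h5 : (Nat.card G).factorization p
        = H.index.factorization p + (Nat.card H).factorization p := by
      rw [← H.index_mul_card, Nat.factorization_mul hidx Nat.card_pos.ne']; rfl
    have h6 : e = H.index.factorization p + (charDegree (ζ : H → ℂ)).factorization p := by
      rw [he, hN, Nat.factorization_mul hidx (Blocks.charDegree_pos ζ).ne']; rfl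
    unfold blockHeight at hζ0
    unfold blockDefect at hdef
    omega
  have hdvd : ∀ χ ∈ B, p ^ e ∣ charDegree (χ : G → ℂ) := fun χ hχ =>
    (hp.pow_dvd_iff_le_factorization (Blocks.charDegree_pos χ).ne').mpr
      (hmin ▸ Nat.sInf_le ⟨χ, hχ, rfl⟩)
  choose! r hr using hdvd
  set m := N / p ^ e with hm
  have hmp : ¬ p ∣ m := Nat.not_dvd_ordCompl hp hN0
  have hNm : N = p ^ e * m := (Nat.ordProj_mul_ordCompl_eq_self N p).symm
  have hmult : ∀ χ : IrrCharacter G, ∃ a : ℕ,
      classInner (indFun H (ζ : H → ℂ)) (χ : G → ℂ) = (a : ℂ) := fun χ =>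
    Char.IsCharacter.classInner_nat
      (Char.IsCharacter.indFun H (Char.IsIrrCharacter.isCharacter ζ.2))
      (Char.IsIrrCharacter.isCharacter χ.2)
  choose a ha using hmult
  set u := Blocks.omega (ζ : H → ℂ) (fun h : H => blockCoeff B h) with hu
  have hu1 : ¬ MemLocalIdeal M u := by
    intro h
    have h1 := omega_res_congr hM hind hζ hχ₀ (Blocks.isClassFunction_blockCoeff B)
      (Blocks.memR_blockCoeff hM hB)
    have h2 := (Blocks.memI_iff_of_sub hM h1).mp h
    rw [Blocks.blockCoeff_eq_ofOmega, Blocks.omega_ofOmega, Blocks.blockInd_of_mem hχ₀] at h2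
    exact Blocks.not_memI_one hM h2
  have hfr : ∀ χ : IrrCharacter G, (a χ : ℂ)
      = classInner (ζ : H → ℂ) (fun h : H => (χ : G → ℂ) h) := fun χ => by
    rw [← ha, Char.frobenius_reciprocity H _ (Blocks.irr_class χ)]
  have key : ∑ χ ∈ B.toFinset, (a χ : ℂ) * (charDegree (χ : G → ℂ) : ℂ) = (N : ℂ) * u := by
    simp only [hN, Nat.cast_mul, Blocks.charDegree_cast, hu, Blocks.omega_eq_sum, hfr,
      classInner, blockCoeff,
      finsum_mem_eq_toFinset_sum, Finset.mul_sum, Finset.sum_mul, Finset.sum_div]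
    rw [Finset.sum_comm]
    refine Finset.sum_congr rfl fun h _ => Finset.sum_congr rfl fun χ _ => ?_
    have hG : (Nat.card G : ℂ) = (H.index : ℂ) * Nat.card H := by
      rw [← H.index_mul_card]; push_cast; ring
    have h0 : (Nat.card H : ℂ) ≠ 0 := Nat.cast_ne_zero.mpr Nat.card_pos.ne'
    have h1 : (H.index : ℂ) ≠ 0 := Nat.cast_ne_zero.mpr hidx
    have h2 := Blocks.irr_one_ne_zero ζ
    rw [hG]
    field_simp
  have key2 : ∑ χ ∈ B.toFinset, (a χ : ℂ) * (r χ : ℂ) = (m : ℂ) * u := by
    have hpe : (p : ℂ) ^ e ≠ 0 := pow_ne_zero _ (by exact_mod_cast hp.ne_zero)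
    apply mul_left_cancel₀ hpe
    rw [Finset.mul_sum, ← mul_assoc, ← Nat.cast_pow, ← Nat.cast_mul, ← hNm, ← key]
    refine Finset.sum_congr rfl fun χ hχ => ?_
    rw [hr χ (Set.mem_toFinset.mp hχ)]
    push_cast
    ring
  by_contra hcon
  push Not at hcon
  have hmu : MemLocalIdeal M ((m : ℂ) * u) := by
    rw [← key2]
    refine Blocks.memI_sum hM _ fun χ hχ => ?_
    rw [← Nat.cast_mul]
    refine (Blocks.memI_natCast hM).mpr ?_
    by_contra hnd
    rw [hp.dvd_mul, not_or] at hnd
    have hr0 : r χ ≠ 0 := fun h0 => hnd.2 (h0 ▸ dvd_zero p)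
    refine hnd.1 (hcon χ (Set.mem_toFinset.mp hχ) ?_ (a χ) (ha χ))
    unfold blockHeight
    rw [hmin, hr χ (Set.mem_toFinset.mp hχ), Nat.factorization_mul (pow_ne_zero _ hp.ne_zero) hr0,
      Finsupp.add_apply, hp.factorization_pow, Finsupp.single_eq_same,
      Nat.factorization_eq_zero_of_not_dvd hnd.2]
    omega
  have huR : MemLocalRing M u := Blocks.memR_omega hM
    (z := fun h : H => blockCoeff B h)
    (fun x n => Blocks.isClassFunction_blockCoeff B (x : G) (n : G))
    (fun x => Blocks.memR_blockCoeff hM hB _) ζ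
  exact Blocks.not_memI_mul hM (Blocks.memR_natCast hM m) huR
    (Blocks.not_memI_natCast hM hmp) hu1 hmu

end Cfsg.Agent.S4725
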