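import Cfsg.Statements.S4726
import Cfsg.Agent.Lib.BrauerPairs.InducedPair

set_option autoImplicit false
open Cfsg

namespace Cfsg.Agent.S4726

open Cfsg.Agent.Blocks Cfsg.Agent.BrauerPairs

/-- Let p be a prime, M a maximal ideal of the algebraic integers containing p, H a subgroup of the finite group G and b a p-block of H with defect group D₀ such that C_G(D₀) ≤ H. Then b induces a block of G, and for every block B of G induced by b there is a defect group D of B with Z(D) ≤ Z(D₀) ≤ D₀ ≤ D (as subgroups of G). In particular, if the defect groups of B are abelian then D₀ is a defect group of B. -/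
theorem result {G : Type*} [Group G] [Finite G] (p : ℕ) [Fact p.Prime] (M : Ideal Cfsg.AlgInt) (hM : Cfsg.IsPModular p M) (H : Subgroup G) (b : Set (Cfsg.IrrCharacter ↥H)) (hb : Cfsg.IsPBlock M b) (D₀ : Subgroup ↥H) (hD₀ : Cfsg.IsDefectGroup p M b D₀) (hC : Subgroup.centralizer ((D₀.map H.subtype : Subgroup G) : Set G) ≤ H) : Cfsg.InducedBlockDefined M H b ∧ ∀ B : Set (Cfsg.IrrCharacter G), Cfsg.IsInducedBlock M H b B → (∃ D : Subgroup G, Cfsg.IsDefectGroup p M B D ∧ (Subgroup.center ↥D).map D.subtype ≤ ((Subgroup.center ↥D₀).map D₀.subtype).map H.subtype ∧ ((Subgroup.center ↥D₀).map D₀.subtype).map H.subtype ≤ D₀.map H.subtype ∧ D₀.map H.subtype ≤ D) ∧ (∀ D : Subgroup G, Cfsg.IsDefectGroup p M B D → IsMulCommutative ↥D → Cfsg.IsDefectGroup p M B (D₀.map H.subtype)) := by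
  classical
  have := Fintype.ofFinite G
  have := res_charP hM
  set P := D₀.map H.subtype with hPdef
  have hPH : P ≤ H := Subgroup.map_subtype_le D₀
  have hPp : IsPGroup p P := (isPGroup_defectGroup hM hD₀).map _
  have hbr : br P (bIdem M H b) ≠ 0 := sub_br_defectGroup_ne_zero hM hD₀
  obtain ⟨e, he, hle⟩ := KernelPairs.exists_pair hM hb hPp hPH hC hbr
  refine ⟨?_, fun B hind => ?_⟩
  · obtain ⟨B, hB, -⟩ := exists_induced_of_pair hM hPp hPH hC hb he.2 hle
    exact ⟨B, hB⟩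
  have hBe := KernelPairs.isBrauerPairOf_of_induced hM hind he hPH hC hle
  obtain ⟨E, f, hmax, hEle⟩ := exists_maximal_ge hM hBe
  have hED : IsDefectGroup p M B E := maximal_isDefectGroup hM hmax
  have hPE : P ≤ E :=
    subgroup_le_of_subpairLE (a := (⟨P, e⟩ : BrauerPairIdx G)) (b := ⟨E, f⟩) hEle
  have key : ∀ x ∈ E, (∀ y ∈ E, y * x = x * y) → x ∈ P := by
    intro x hxE hxc
    have hxC : x ∈ Subgroup.centralizer (P : Set G) :=
      Subgroup.mem_centralizer_iff.2 fun y hy => hxc y (hPE hy)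
    have hxN : x ∈ Subgroup.normalizer (P : Set G) := centralizer_le_normalizer hM P hxC
    have hRN : P ⊔ Subgroup.zpowers x ≤ Subgroup.normalizer (P : Set G) :=
      sup_le Subgroup.le_normalizer ((Subgroup.zpowers_le).2 hxN)
    have hRE : P ⊔ Subgroup.zpowers x ≤ E := sup_le hPE ((Subgroup.zpowers_le).2 hxE)
    have hRH : P ⊔ Subgroup.zpowers x ≤ H := sup_le hPH ((Subgroup.zpowers_le).2 (hC hxC))
    obtain ⟨hfix, hne⟩ := br_cb_ne_zero_of_le hM hmax.1.1 hEle hRE hRN
    have hRp : IsPGroup p (P ⊔ Subgroup.zpowers x : Subgroup G) := hmax.1.1.1.to_le hRE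
    have hbf : Fixed (P ⊔ Subgroup.zpowers x) (br P (bIdem M H b)) :=
      Fixed.br ((bIdem_central H b).2.mono hRH) hRN
    have hne' : br (P ⊔ Subgroup.zpowers x) (bIdem M H b) ≠ 0 := fun h0 => hne (by
      rw [← hle, br_mul (p := p) hRp hbf hfix, br_br le_sup_left, h0, zero_mul])
    have hcard := sub_card_le_of_br_ne_zero hM hb hRH hRp hne' hD₀
    rw [← Subgroup.card_map_of_injective H.subtype_injective] at hcard
    rw [Subgroup.eq_of_le_of_card_ge (le_sup_left : P ≤ P ⊔ Subgroup.zpowers x) hcard]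
    exact le_sup_right (a := P) (Subgroup.mem_zpowers x)
  refine ⟨⟨E, hED, ?_, Subgroup.map_mono (Subgroup.map_subtype_le _), hPE⟩, fun D hD hcomm => ?_⟩
  · rintro x ⟨z, hz, rfl⟩
    have hxc : ∀ y ∈ E, y * (z : G) = z * y := fun y hy =>
      congrArg Subtype.val (Subgroup.mem_center_iff.1 hz ⟨y, hy⟩)
    obtain ⟨w, hw, hwz⟩ := key z z.2 hxc
    refine ⟨w, ⟨⟨w, hw⟩, Subgroup.mem_center_iff.2 fun u => ?_, rfl⟩, hwz⟩
    have h1 := hxc ((u : H) : G) (hPE (Subgroup.mem_map_of_mem H.subtype u.2))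
    rw [← hwz] at h1
    exact Subtype.ext (Subtype.ext h1)
  · obtain ⟨g, hg⟩ := isDefectGroup_conj_eq hM hind.2.1 hD hED
    have hE : ∀ x ∈ E, ∀ y ∈ E, y * x = x * y := by
      rw [← hg]
      rintro _ ⟨a, ha, rfl⟩ _ ⟨c, hc, rfl⟩
      rw [← map_mul, ← map_mul]
      exact congrArg _ (congrArg Subtype.val (hcomm.1.1 ⟨c, hc⟩ ⟨a, ha⟩))
    rwa [le_antisymm hPE fun x hx => key x hx (hE x hx)]

end Cfsg.Agent.S4726
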