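import Cfsg.Statements.S4727
import Cfsg.Agent.Lib.Blocks.KernelPairs

set_option autoImplicit false
open Cfsg

namespace Cfsg.Agent.S4727

/-- Let p be a prime, π a set of primes containing p, M a maximal ideal of the algebraic integers containing p, and B a p-block of the finite group G with defect group D; let B₁ be the block of N_G(D) with defect group D that induces B (the Brauer correspondent of B). Suppose every element of O_π'(N_G(D)), the largest normal subgroup of N_G(D) whose order has no prime divisor in π, lies in the kernel of every member of B₁. If y is a p-element whose centralizer C has a normal Hall π'-subgroup (every element of C whose order has no prime divisor in π lies in O_π'(C)), then χ(y x) = χ(y) for every χ ∈ B and every x ∈ C whose order has no prime divisor in π. -/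
theorem result {G : Type*} [Group G] [Finite G] (p : ℕ) [Fact p.Prime] (M : Ideal Cfsg.AlgInt) (hM : Cfsg.IsPModular p M) (π : Set ℕ) (hpπ : p ∈ π) (B : Set (Cfsg.IrrCharacter G)) (hB : Cfsg.IsPBlock M B) (D : Subgroup G) (hBD : Cfsg.IsDefectGroup p M B D) (B₁ : Set (Cfsg.IrrCharacter ↥(Subgroup.normalizer (D : Set G)))) (hB₁ : Cfsg.IsInducedBlock M (Subgroup.normalizer (D : Set G)) B₁ B) (hB₁D : Cfsg.IsDefectGroup p M B₁ (D.subgroupOf (Subgroup.normalizer (D : Set G)))) (hker : ∀ n : ↥(Subgroup.normalizer (D : Set G)), n ∈ Cfsg.piCore {q | q ∉ π} ↥(Subgroup.normalizer (D : Set G)) → n ∈ Cfsg.blockKer B₁) (y : G) (hy : ∃ k : ℕ, orderOf y = p ^ k) (hC : ∀ x : ↥(Subgroup.centralizer ({y} : Set G)), (∀ q : ℕ, q.Prime → q ∣ orderOf x → q ∉ π) → x ∈ Cfsg.piCore {q | q ∉ π} ↥(Subgroup.centralizer ({y} : Set G))) : ∀ χ ∈ B, ∀ x : G, x ∈ Subgroup.centralizer ({y} : Set G) → (∀ q : ℕ, q.Prime → q ∣ orderOf x → q ∉ π) → (χ : G → ℂ) (y * x) = (χ : G → ℂ) y := by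
  classical
  intro χ hχ x hx hxπ
  let C := Subgroup.centralizer ({y} : Set G)
  have := Fintype.ofFinite C
  have hH : ∀ g, g ∈ C ↔ Commute y g := fun _ =>
    Cfsg.Agent.SecondMain.commute_iff_mem_centralizer_singleton
  let s : C := ⟨x, hx⟩
  have hs : ¬ p ∣ orderOf s := fun h =>
    hxπ p Fact.out (by rwa [← Subgroup.orderOf_coe] at h) hpπ
  have h1 : ¬ p ∣ orderOf (1 : C) := by
    rw [orderOf_one]
    exact (Fact.out : p.Prime).not_dvd_one
  have hsK : (s : G) ∈ Cfsg.piCoreOf {q | q ∉ π} C :=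
    ⟨s, hC s (fun q hq hd => hxπ q hq (by rwa [← Subgroup.orderOf_coe] at hd)), rfl⟩
  have key : ∀ b ∈ Cfsg.Agent.SecondMain.inducedSet M C B,
      Cfsg.Agent.KernelPairs.InKer C b (Cfsg.piCoreOf {q | q ∉ π} C) := by
    intro b hb
    obtain ⟨D₀, hD₀⟩ := Cfsg.Agent.Blocks.exists_isDefectGroup hM hb.1
    refine Cfsg.Agent.KernelPairs.core_le_blockKer_local hM (σ := {q | q ∉ π})
      (fun h => h hpπ) hBD hB₁ hB₁D hker hb hD₀ ?_
    let yC : C := ⟨y, (hH y).2 (Commute.refl y)⟩
    have hn : (Subgroup.zpowers yC).Normal := by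
      refine ⟨fun a ha g => ?_⟩
      obtain ⟨i, rfl⟩ := Subgroup.mem_zpowers_iff.1 ha
      have hc : Commute yC g := Subtype.ext ((hH g).1 g.2).eq
      rw [(hc.zpow_left i).symm.eq, mul_assoc, mul_inv_cancel, mul_one]
      exact ha
    have hpy : IsPGroup p (Subgroup.zpowers yC) := by
      obtain ⟨k, hk⟩ := hy
      refine IsPGroup.of_card (n := k) ?_
      rw [Nat.card_zpowers, ← Subgroup.orderOf_coe, hk]
    have hyD := Cfsg.Agent.Blocks.normal_le_defectGroup hM hpy hb.1 hD₀
      (Subgroup.mem_zpowers yC)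
    intro g hg
    exact (hH g).2 (Subgroup.mem_centralizer_iff.1 hg y ⟨yC, hyD, rfl⟩)
  have hsum := Cfsg.Agent.SecondMain.sum_induced_shift_of_mem hM hy hH hB hχ hs
  have hsum1 := Cfsg.Agent.SecondMain.sum_induced_shift_of_mem hM hy hH hB hχ h1
  rw [Subgroup.coe_one, mul_one] at hsum1
  rw [show x = (s : G) from rfl, ← hsum, ← hsum1]
  refine finsum_mem_congr rfl fun b hb => ?_
  rw [Cfsg.Agent.SecondMain.blockPart_apply, Cfsg.Agent.SecondMain.blockPart_apply]
  refine finsum_mem_congr rfl fun η hη => ?_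
  rw [key b hb η hη s hsK]

end Cfsg.Agent.S4727
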