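import Cfsg.Statements.S4730
import Cfsg.Agent.Lib.ClassCount.CharSum
import Cfsg.Agent.Lib.Blocks.Local
import Cfsg.Agent.Lib.CharApp.Galois

set_option autoImplicit false
open Cfsg

namespace Cfsg.Agent.S4730

open Cfsg.Agent


/-- Let p be a prime, M a maximal ideal of the algebraic integers containing p, and G a finite group with trivial centre, Sylow p-subgroup P of order p^a and centre Z(P) of order p^b. If χ is a faithful irreducible character of G whose degree is a power of p, then the p-block of χ has defect at most a − b; in particular, if P is abelian then χ lies in a block of defect zero. -/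
theorem result {G : Type*} [Group G] [Finite G] (p : ℕ) [Fact p.Prime] (M : Ideal Cfsg.AlgInt) (hM : Cfsg.IsPModular p M) (hZ : Subgroup.center G = ⊥) (P : Sylow p G) (a b : ℕ) (ha : Nat.card P = p ^ a) (hb : Nat.card (Subgroup.center ↥(P : Subgroup G)) = p ^ b) (χ : Cfsg.IrrCharacter G) (hfaith : ∀ g : G, (χ : G → ℂ) g = (χ : G → ℂ) 1 → g = 1) (n : ℕ) (hdeg : Cfsg.charDegree (χ : G → ℂ) = p ^ n) : Cfsg.blockDefect p (Cfsg.blockOf M (χ : G → ℂ)) ≤ a - b ∧ (IsMulCommutative ↥(P : Subgroup G) → Cfsg.blockDefect p (Cfsg.blockOf M (χ : G → ℂ)) = 0) := by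
  classical
  have hpp : p.Prime := Fact.out
  set Z : Subgroup G := (Subgroup.center ↥(P : Subgroup G)).map (P : Subgroup G).subtype with hZdef
  have := Fintype.ofFinite ↥Z
  have hZcard : Nat.card ↥Z = p ^ b := by
    rw [hZdef, Subgroup.card_map_of_injective (P : Subgroup G).subtype_injective, hb]
  have hne := Char.IsIrrCharacter.apply_one_ne_zero χ.2
  have hidx : ∀ z ∈ Z, ¬ p ∣ (Subgroup.centralizer ({z} : Set G)).index := by
    rintro z ⟨⟨w, hw⟩, hwZ, rfl⟩ hd
    refine P.not_dvd_index (hd.trans (Subgroup.index_dvd_of_le ?_))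
    intro u hu
    rw [Subgroup.mem_centralizer_singleton_iff]
    exact congrArg Subtype.val (Subgroup.mem_center_iff.mp hwZ ⟨u, hu⟩)
  -- Burnside: χ vanishes on Z away from 1
  have hvan : ∀ z ∈ Z, z ≠ 1 → (χ : G → ℂ) z = 0 := by
    intro z hz hz1
    have hcop : Nat.Coprime (Subgroup.centralizer ({z} : Set G)).index (p ^ n) :=
      Nat.Coprime.pow_right n (Nat.Coprime.symm (hpp.coprime_iff_not_dvd.mpr (hidx z hz)))
    obtain ⟨u, v, huv⟩ := (Int.isCoprime_iff_nat_coprime
      (a := ((Subgroup.centralizer ({z} : Set G)).index : ℤ)) (b := ((p ^ n : ℕ) : ℤ))).mpr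
      (by simpa using hcop)
    have h1 : (χ : G → ℂ) 1 = ((p ^ n : ℕ) : ℂ) := by
      rw [ClassCount.apply_one_eq_charDegree, hdeg]
    have hint : IsIntegral ℤ ((χ : G → ℂ) z / ((p ^ n : ℕ) : ℂ)) := by
      have e : (χ : G → ℂ) z / ((p ^ n : ℕ) : ℂ) =
          (u : ℂ) * Cfsg.centralChar (χ : G → ℂ) z + (v : ℂ) * (χ : G → ℂ) z := by
        have huv' : (u : ℂ) * ((Subgroup.centralizer ({z} : Set G)).index : ℂ) +
            (v : ℂ) * ((p ^ n : ℕ) : ℂ) = 1 := by exact_mod_cast huv
        rw [Cfsg.centralChar, ← h1]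
        rw [← h1] at huv'
        field_simp
        linear_combination -(χ : G → ℂ) z * huv'
      rw [e, ← ClassCount.omega_eq_centralChar]
      exact ((isIntegral_algebraMap (R := ℤ) (x := u)).mul (ClassCount.isIntegral_omega χ.2 z)).add
        ((isIntegral_algebraMap (R := ℤ) (x := v)).mul
          (Char.IsCharacter.isIntegral (Char.IsIrrCharacter.isCharacter χ.2) z))
    refine (CharApp.eq_zero_or_norm_eq_of_integral_div (GaloisAvg.cycloValued_irr χ)
      (pow_pos hpp.pos n) (fun g => ?_) hint).resolve_right fun hnorm => ?_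
    · refine (Char.IsCharacter.norm_le (Char.IsIrrCharacter.isCharacter χ.2) g).trans_eq ?_
      rw [h1]; exact Complex.natCast_re _
    obtain ⟨m, ρ, hirr, hρ⟩ := χ.2
    have hm : (m : ℂ) = ((p ^ n : ℕ) : ℂ) := by
      rw [← h1, ← hρ, Representation.char_one, Module.finrank_fin_fun]
    obtain ⟨ω, hω⟩ := (Char.norm_character_eq_iff ρ z).mp (by
      rw [hρ, Module.finrank_fin_fun, hnorm]; exact_mod_cast hm.symm)
    apply hz1
    have hker : ∀ g : G, ρ g = 1 → g = 1 := fun g hg => hfaith g (by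
      rw [← hρ]; simp [Representation.character, hg, map_one])
    have hzc : z ∈ Subgroup.center G := by
      rw [Subgroup.mem_center_iff]
      intro g
      rw [← inv_mul_eq_one]
      apply hker
      have e2 : ρ (g * z) = ρ (z * g) := by
        rw [map_mul, map_mul, hω]; ext v; simp
      rw [map_mul, ← e2, ← map_mul, inv_mul_cancel, map_one]
    rwa [hZ, Subgroup.mem_bot] at hzc
  have hmem : χ ∈ Cfsg.blockOf M (χ : G → ℂ) := fun g => by
    rw [sub_self]; exact Blocks.memI_zero hM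
  have hall : ∀ ψ ∈ Cfsg.blockOf M (χ : G → ℂ),
      b ≤ (Cfsg.charDegree (ψ : G → ℂ)).factorization p := by
    intro ψ hψ
    have hψne := Char.IsIrrCharacter.apply_one_ne_zero ψ.2
    obtain ⟨m, hm⟩ := ClassCount.exists_sum_subgroup_eq Z (Char.IsIrrCharacter.isCharacter ψ.2)
    rw [hZcard, Fintype.sum_eq_add_sum_compl (1 : ↥Z)] at hm
    set d := Cfsg.charDegree (ψ : G → ℂ)
    have hd : (ψ : G → ℂ) 1 = (d : ℂ) := ClassCount.apply_one_eq_charDegree ψ
    by_contra hlt
    push Not at hlt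
    obtain ⟨u, hu⟩ := Nat.ordProj_dvd d p
    have hu' : ¬ p ∣ u := by
      have := Nat.not_dvd_ordCompl hpp (ClassCount.charDegree_pos ψ).ne'
      rwa [show d / p ^ d.factorization p = u by
        conv_lhs => arg 1; rw [hu]
        exact Nat.mul_div_cancel_left _ (pow_pos hpp.pos _)] at this
    set e := d.factorization p
    have hdvd : ∀ z ∈ Z, z ≠ 1 → Cfsg.MemLocalIdeal M ((ψ : G → ℂ) z / (ψ : G → ℂ) 1) := by
      intro z hz hz1
      have h := Blocks.memI_mul_left hM (Blocks.memR_natCast_inv hM (hidx z hz))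
        (Blocks.memI_sub_comm (hψ z))
      convert h using 1
      rw [Cfsg.centralChar, Cfsg.centralChar, hvan z hz hz1]
      have : ((Subgroup.centralizer ({z} : Set G)).index : ℂ) ≠ 0 := by
        exact_mod_cast Subgroup.index_ne_zero_of_finite
      field_simp
      ring
    have hS : Cfsg.MemLocalIdeal M (∑ y ∈ ({1}ᶜ : Finset ↥Z), (ψ : G → ℂ) y / (ψ : G → ℂ) 1) :=
      Blocks.memI_sum hM _ fun y hy => hdvd y y.2 (by simpa using hy)
    have hpow : (p : ℂ) ^ b = (p : ℂ) ^ e * (p : ℂ) ^ (b - e) := by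
      rw [← pow_add]; congr 1; omega
    have h1 : Cfsg.MemLocalIdeal M ((u : ℂ) * (1 + ∑ y ∈ ({1}ᶜ : Finset ↥Z),
        (ψ : G → ℂ) y / (ψ : G → ℂ) 1)) := by
      have e2 : (u : ℂ) * (1 + ∑ y ∈ ({1}ᶜ : Finset ↥Z), (ψ : G → ℂ) y / (ψ : G → ℂ) 1) =
          (((p ^ (b - e) * m : ℕ)) : ℂ) := by
        rw [← Finset.sum_div]
        rw [Subgroup.coe_one] at hm
        have hu2 : (ψ : G → ℂ) 1 = (p : ℂ) ^ e * (u : ℂ) := by rw [hd, hu]; push_cast; rfl
        have hp0 : (p : ℂ) ^ e ≠ 0 := pow_ne_zero _ (by exact_mod_cast hpp.ne_zero)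
        apply mul_left_cancel₀ hp0
        push_cast at hm ⊢
        field_simp
        linear_combination (u : ℂ) * hm + (u : ℂ) * (m : ℂ) * hpow -
          (p : ℂ) ^ (b - e) * (m : ℂ) * hu2
      rw [e2, Blocks.memI_natCast hM]
      exact Dvd.dvd.mul_right (dvd_pow_self p (by omega)) m
    rw [mul_add, mul_one] at h1
    have h2 := Blocks.memI_sub hM h1 (Blocks.memI_mul_left hM (Blocks.memR_natCast hM u) hS)
    rw [add_sub_cancel_right, Blocks.memI_natCast hM] at h2
    exact hu' h2
  have ha' : (Nat.card G).factorization p = a := by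
    rw [Sylow.card_eq_multiplicity P] at ha
    exact Nat.pow_right_injective hpp.two_le ha
  have hbound : Cfsg.blockDefect p (Cfsg.blockOf M (χ : G → ℂ)) ≤ a - b := by
    rw [Cfsg.blockDefect, ha']
    refine Nat.sub_le_sub_left ?_ a
    refine le_csInf ⟨_, χ, hmem, rfl⟩ ?_
    rintro _ ⟨ψ, hψ, rfl⟩
    exact hall ψ hψ
  refine ⟨hbound, fun hab => ?_⟩
  have : Subgroup.center ↥(P : Subgroup G) = ⊤ := by
    rw [eq_top_iff]
    exact fun u _ => Subgroup.mem_center_iff.mpr fun v => hab.is_comm.comm v u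
  rw [this, Subgroup.card_top, ha] at hb
  have := Nat.pow_right_injective hpp.two_le hb
  omega

end Cfsg.Agent.S4730
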