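import Cfsg.Statements.S4731
import Cfsg.Agent.Lib.Blocks.WeakOrth
import Cfsg.Agent.Lib.ClassCount.CharSum

set_option autoImplicit false
open Cfsg

namespace Cfsg.Agent.S4731

/-- Let p ≠ q be primes, M_p and M_q maximal ideals of the algebraic integers containing p and q respectively, and G a finite group with no element of order pq; let q^b be the q-part of the order of G. For a p-block B_p (relative to M_p), a q-block B_q (relative to M_q) and a p-singular element y, the sum of χ(1)χ(y) over the irreducible characters χ lying in both B_p and B_q is q^b times an algebraic integer. -/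
theorem result {G : Type*} [Group G] [Finite G] (p q : ℕ) [Fact p.Prime] [Fact q.Prime] (hpq : p ≠ q) (Mp Mq : Ideal Cfsg.AlgInt) (hMp : Cfsg.IsPModular p Mp) (hMq : Cfsg.IsPModular q Mq) (hno : ∀ g : G, orderOf g ≠ p * q) (b : ℕ) (hb : (Nat.card G).factorization q = b) (Bp : Set (Cfsg.IrrCharacter G)) (hBp : Cfsg.IsPBlock Mp Bp) (Bq : Set (Cfsg.IrrCharacter G)) (hBq : Cfsg.IsPBlock Mq Bq) (y : G) (hy : p ∣ orderOf y) : ∃ ω : Cfsg.AlgInt, ∑ᶠ χ ∈ Bp ∩ Bq, (Cfsg.charDegree (χ : G → ℂ) : ℂ) * (χ : G → ℂ) y = (q : ℂ) ^ b * (ω : ℂ) := by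
  classical
  have := Fintype.ofFinite G
  have := Fintype.ofFinite (Cfsg.IrrCharacter G)
  have hp : p.Prime := Fact.out
  have hq : q.Prime := Fact.out
  have hcop : Nat.Coprime p q := (Nat.coprime_primes hp hq).mpr hpq
  have hnopq : ∀ g : G, p ∣ orderOf g → ¬ q ∣ orderOf g := by
    intro g h1 h2
    exact hno (g ^ (orderOf g / (p * q)))
      (orderOf_pow_orderOf_div (orderOf_pos g).ne' (hcop.mul_dvd_of_dvd_of_dvd h1 h2))
  have hy' : p ∣ orderOf y⁻¹ := by rwa [orderOf_inv]
  set a : Cfsg.IrrCharacter G → ℂ := fun χ =>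
    if χ ∈ Bp then (starRingEnd ℂ) ((χ : G → ℂ) y⁻¹) else 0 with ha
  set f : G → ℂ := ∑ χ : Cfsg.IrrCharacter G, a χ • (χ : G → ℂ) with hf
  set F : G → ℂ := fun g => ∑ χ ∈ Finset.univ.filter (fun χ => χ ∈ Bq),
    a χ * (χ : G → ℂ) g with hF
  have hfval : ∀ g, f g = ∑ χ : Cfsg.IrrCharacter G, a χ * (χ : G → ℂ) g := fun g => by
    simp [hf, Finset.sum_apply]
  -- the combination over the p-block vanishes on q-singular elements
  have hf0 : ∀ g, q ∣ orderOf g → f g = 0 := by
    intro g hg
    have h := Blocks.weak_orth hMp (Blocks.blockInd_mem_intRing hMp hBp) (x := g) (y := y⁻¹)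
      (fun h => hnopq g h hg) hy'
    rw [finsum_mem_def, finsum_eq_sum_of_fintype] at h
    rw [hfval, ← h]
    refine Finset.sum_congr rfl fun χ _ => ?_
    simp only [ha, Set.indicator_apply]
    split_ifs <;> ring
  have hacoef : ∀ χ : Cfsg.IrrCharacter G,
      a χ = (Nat.card G : ℂ)⁻¹ * ∑ z, f z * (starRingEnd ℂ) ((χ : G → ℂ) z) := fun χ => by
    rw [← Char.classInner_sum_smul a Finset.univ χ (Finset.mem_univ χ)]
    rfl
  -- so does its part in the q-block
  have hF0 : ∀ g, q ∣ orderOf g → F g = 0 := by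
    intro g hg
    calc F g = (Nat.card G : ℂ)⁻¹ * ∑ z, f z * ∑ χ ∈ Finset.univ.filter (fun χ => χ ∈ Bq),
          (starRingEnd ℂ) ((χ : G → ℂ) z) * (χ : G → ℂ) g := by
          simp only [hF, hacoef, Finset.mul_sum, Finset.sum_mul]
          rw [Finset.sum_comm]
          exact Finset.sum_congr rfl fun z _ => Finset.sum_congr rfl fun χ _ => by ring
      _ = 0 := by
          rw [Finset.sum_eq_zero, mul_zero]
          intro z _
          by_cases hz : q ∣ orderOf z
          · rw [hf0 z hz, zero_mul]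
          have h := Blocks.weak_orth hMq (Blocks.blockInd_mem_intRing hMq hBq) (x := z) (y := g) hz hg
          rw [finsum_mem_def, finsum_eq_sum_of_fintype] at h
          have h2 := congrArg (starRingEnd ℂ) h
          rw [map_sum, map_zero] at h2
          rw [← mul_zero (f z), ← h2, Finset.sum_filter]
          congr 1
          refine Finset.sum_congr rfl fun χ _ => ?_
          simp only [Set.indicator_apply]
          split_ifs <;> simp
  -- evaluation on a Sylow q-subgroup
  let Q : Sylow q G := default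
  have hQ : Nat.card ↥(Q : Subgroup G) = q ^ b := by rw [← hb]; exact Q.card_eq_multiplicity
  choose m hm using fun χ : Cfsg.IrrCharacter G =>
    ClassCount.exists_sum_subgroup_eq (Q : Subgroup G) (Char.IsIrrCharacter.isCharacter χ.2)
  have hF1 : F 1 = ∑ u : ↥(Q : Subgroup G), F (u : G) := by
    rw [Finset.sum_eq_single (1 : ↥(Q : Subgroup G))]
    · rfl
    · intro u _ hu
      refine hF0 _ ?_
      obtain ⟨k, hk⟩ := IsPGroup.iff_orderOf.mp Q.isPGroup' u
      rw [← Subgroup.orderOf_coe] at hk
      rcases k with _ | k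
      · exact absurd (Subtype.ext (orderOf_eq_one_iff.mp (by simpa using hk))) hu
      · rw [hk]; exact dvd_pow_self q k.succ_ne_zero
    · simp
  have hint : ∀ χ : Cfsg.IrrCharacter G, IsIntegral ℤ (a χ) := fun χ => by
    simp only [ha]
    split_ifs
    · exact Char.IsCharacter.isIntegral (Char.IsCharacter.conj (Char.IsIrrCharacter.isCharacter χ.2)) _
    · exact isIntegral_zero
  refine ⟨⟨∑ χ ∈ Finset.univ.filter (fun χ => χ ∈ Bq), a χ * (m χ : ℂ),
    IsIntegral.sum _ fun χ _ => (hint χ).mul (isIntegral_algebraMap (R := ℤ) (x := (m χ : ℤ)))⟩, ?_⟩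
  calc ∑ᶠ χ ∈ Bp ∩ Bq, (Cfsg.charDegree (χ : G → ℂ) : ℂ) * (χ : G → ℂ) y = F 1 := by
        rw [finsum_mem_def, finsum_eq_sum_of_fintype]
        simp only [hF, Finset.sum_filter, ha]
        refine Finset.sum_congr rfl fun χ _ => ?_
        simp only [Set.indicator_apply, Set.mem_inter_iff]
        rw [Char.IsCharacter.apply_inv (Char.IsIrrCharacter.isCharacter χ.2), Complex.conj_conj,
          ← ClassCount.apply_one_eq_charDegree]
        split_ifs <;> simp_all [mul_comm]
    _ = (q : ℂ) ^ b * (∑ χ ∈ Finset.univ.filter (fun χ => χ ∈ Bq), a χ * (m χ : ℂ)) := by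
        rw [hF1]
        simp only [hF]
        rw [Finset.sum_comm, Finset.mul_sum]
        refine Finset.sum_congr rfl fun χ _ => ?_
        rw [← Finset.mul_sum, hm χ, hQ]
        push_cast; ring

end Cfsg.Agent.S4731
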