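import Cfsg.Statements.S4732
import Cfsg.Agent.Lib.JordanBound.Main
import Mathlib.FieldTheory.IsAlgClosed.AlgebraicClosure
-- import your own Cfsg.Agent.* helpers here

set_option autoImplicit false
universe u v
open Cfsg

namespace Cfsg.Agent.S4732

/-- Let p be a prime. There is a function f of two natural-number arguments such that every finite group G admitting a faithful representation of degree n over a field of characteristic p, with Sylow p-subgroups of order p^m, has a normal abelian subgroup A with [G : A] < f(m, n). -/
theorem result (p : ℕ) [Fact p.Prime] : ∃ f : ℕ → ℕ → ℕ, ∀ (G : Type u) [Group G] [Finite G] (F : Type v) [Field F] [CharP F p] (n : ℕ) (ρ : Representation F G (Fin n → F)), Function.Injective ρ → ∀ m : ℕ, (Nat.card G).factorization p = m → ∃ A : Subgroup G, A.Normal ∧ IsMulCommutative A ∧ A.index < f m n := by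
  classical
  choose B hB using fun m n => Cfsg.Agent.JordanBound.exists_bound.{u, v} p n m
  refine ⟨fun m n => (B m n).factorial + 1, fun G _ _ F _ _ n ρ hρ m hm => ?_⟩
  haveI : CharP (AlgebraicClosure F) p :=
    charP_of_injective_algebraMap (algebraMap F (AlgebraicClosure F)).injective p
  let ι : Module.End F (Fin n → F) →* Module.End (AlgebraicClosure F) (Fin n → AlgebraicClosure F) :=
    (Matrix.toLinAlgEquiv' (R := AlgebraicClosure F)).toMonoidHom.comp
      ((algebraMap F (AlgebraicClosure F)).mapMatrix.toMonoidHom.comp
        (LinearMap.toMatrixAlgEquiv' (R := F)).toMonoidHom)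
  have hι : Function.Injective ι := fun a b h =>
    (LinearMap.toMatrixAlgEquiv' (R := F)).injective
      (Matrix.map_injective (algebraMap F (AlgebraicClosure F)).injective
        ((Matrix.toLinAlgEquiv' (R := AlgebraicClosure F)).injective h))
  obtain ⟨A, -, hAc, hAi⟩ := hB m n (ι.comp ρ) (hι.comp hρ)
    (le_of_eq (Module.finrank_fin_fun (AlgebraicClosure F))) (fun h => by
      rw [(Fact.out : p.Prime).pow_dvd_iff_le_factorization Nat.card_pos.ne', hm] at h
      omega)
  rw [Subgroup.relIndex_top_right] at hAi
  refine ⟨A.normalCore, inferInstance, ⟨⟨fun a b => Subtype.ext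
    (hAc _ (Subgroup.normalCore_le A a.2) _ (Subgroup.normalCore_le A b.2)).eq⟩⟩, ?_⟩
  rw [Nat.lt_succ_iff, Subgroup.normalCore_eq_ker, Subgroup.index_ker]
  refine (Nat.card_le_card_of_injective _ Subtype.val_injective).trans ?_
  rw [Nat.card_perm, ← Subgroup.index_eq_card]
  exact Nat.factorial_le hAi

end Cfsg.Agent.S4732
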