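import Cfsg.Statements.S4735
import Cfsg.Agent.Lib.BlocksNormal.Deflate
import Cfsg.Agent.Lib.CharApp.Galois
import Cfsg.Agent.Lib.GaloisPow.Twist
import Cfsg.Agent.Lib.RealBlock.GaloisFixed
import Cfsg.Agent.S0939

set_option autoImplicit false
open Cfsg

namespace Cfsg.Agent.S4735

open scoped ComplexConjugate

variable {G : Type*} [Group G] [Finite G]

theorem sum_principal_quotient {p : ℕ} [Fact p.Prime] {M : Ideal AlgInt} (hM : IsPModular p M)
    {A : Type*} [AddCommMonoid A] (F : (G → ℂ) → A) :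
    ∑ᶠ χ ∈ principalBlock M G, F (χ : G → ℂ)
      = ∑ᶠ ψ ∈ principalBlock M (G ⧸ pPrimeCore p G),
          F fun g => (ψ : G ⧸ pPrimeCore p G → ℂ) (QuotientGroup.mk g) := by
  classical
  have := Fintype.ofFinite G
  set H := pPrimeCore p G
  have := Fintype.ofFinite H
  have := Fintype.ofFinite (G ⧸ H)
  have hπ := QuotientGroup.mk'_surjective H
  have hker : ¬ p ∣ Nat.card (QuotientGroup.mk' H).ker := by
    rw [QuotientGroup.ker_mk']
    exact Cores.not_dvd_card_pPrimeCore
  let ι : IrrCharacter (G ⧸ H) → IrrCharacter G := fun ψ =>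
    ⟨_, Char.IsIrrCharacter.comp_surjective ψ.2 (QuotientGroup.mk' H) hπ⟩
  refine (finsum_mem_eq_of_bijOn ι ⟨fun ψ hψ => ?_, fun ψ _ ψ' _ he => ?_, fun χ hχ => ?_⟩
    fun ψ _ => rfl).symm
  · exact BlocksNormal.sameBlock_comp hM hπ (χ := BrauerPairs.oneIrr (G ⧸ H)) hψ
  · exact Subtype.ext (funext fun a => by
      obtain ⟨g, rfl⟩ := hπ a
      exact congrFun (congrArg Subtype.val he) g)
  · obtain ⟨φ, hφ⟩ := CentralChar.exists_deflation H χ (BlocksNormal.trivOn_of_sameBlock H hM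
      Cores.not_dvd_card_pPrimeCore (χ := BrauerPairs.oneIrr G) hχ (fun _ _ => rfl))
    refine ⟨φ, ?_, Subtype.ext (funext fun g => (hφ g).symm)⟩
    refine BlocksNormal.sameBlock_of_comp hM hπ hker (χ := BrauerPairs.oneIrr (G ⧸ H)) ?_
    have h : SameBlock M (fun _ : G => (1 : ℂ)) (χ : G → ℂ) := hχ
    rwa [funext hφ] at h

/-- `λ(G, x)` is a rational integer. -/
theorem exists_int_lambda (M : Ideal AlgInt) (x : G) :
    ∃ m : ℤ, ∑ᶠ χ ∈ principalBlock M G, (χ : G → ℂ) x * conj ((χ : G → ℂ) x) = (m : ℂ) := by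
  classical
  have := Fintype.ofFinite G
  have := Fintype.ofFinite (IrrCharacter G)
  set N := Nat.card G with hN
  choose P hP using fun χ : IrrCharacter G => GaloisAvg.cycloValued_irr χ x
  choose Q hQ using fun χ : IrrCharacter G =>
    GaloisAvg.cycloValued_character (Char.IsCharacter.conj (Char.IsIrrCharacter.isCharacter χ.2)) x
  set T := (principalBlock M G).toFinset
  rw [finsum_mem_eq_toFinset_sum]
  refine CharApp.exists_rat_of_const (N := N) Nat.card_pos (∑ χ ∈ T, P χ * Q χ) _ fun z hz => ?_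
  obtain ⟨k, -, hk, rfl⟩ :=
    (GaloisAvg.zeta_isPrimitiveRoot (N := N) Nat.card_pos.ne').isPrimitiveRoot_iff.mp hz
  simp only [map_sum, map_mul]
  calc ∑ χ ∈ T, Polynomial.aeval (GaloisAvg.zeta N ^ k) (P χ) *
        Polynomial.aeval (GaloisAvg.zeta N ^ k) (Q χ)
      = ∑ χ ∈ T, (χ : G → ℂ) (x ^ k) * conj ((χ : G → ℂ) (x ^ k)) :=
        Finset.sum_congr rfl fun χ _ => by rw [← hP, ← hQ]
    _ = _ := by
        have hmaps : ∀ χ ∈ T, GaloisPow.powIrr hk χ ∈ T := fun χ hχ =>
          Set.mem_toFinset.mpr (RealBlock.powIrr_mem_principal hk (Set.mem_toFinset.mp hχ))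
        have himg : T.image (GaloisPow.powIrr hk) = T :=
          Finset.eq_of_subset_of_card_le (Finset.image_subset_iff.mpr hmaps)
            (by rw [Finset.card_image_of_injective _ (GaloisPow.powIrr_injective hk)])
        conv_rhs => rw [show (principalBlock M G).toFinset = T.image (GaloisPow.powIrr hk) from himg.symm]
        rw [Finset.sum_image (GaloisPow.powIrr_injective hk).injOn]
        rfl

end Cfsg.Agent.S4735

namespace Cfsg.Agent.S4735

/-- Let p be a prime, M a maximal ideal of the algebraic integers containing p, G a finite group, H = O_p'(G) and Ḡ = G/H. For x ∈ G write λ(G, x) for the sum of |χ(x)|^2 over the irreducible characters χ in the principal p-block of G. Then λ(G, x) is a positive integer, λ(G, x) = λ(Ḡ, x̄) where x̄ is the image of x, and λ(G, x) ≤ #C_Ḡ(x̄). Moreover λ(G, 1) = [G : H] if and only if the principal block is the only p-block of Ḡ. -/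
theorem result {G : Type*} [Group G] [Finite G] (p : ℕ) [Fact p.Prime] (M : Ideal Cfsg.AlgInt) (hM : Cfsg.IsPModular p M) (x : G) : (∃ n : ℕ, 0 < n ∧ ∑ᶠ χ ∈ Cfsg.principalBlock M G, Complex.normSq ((χ : G → ℂ) x) = n) ∧ ∑ᶠ χ ∈ Cfsg.principalBlock M G, Complex.normSq ((χ : G → ℂ) x) = ∑ᶠ ψ ∈ Cfsg.principalBlock M (G ⧸ Cfsg.pPrimeCore p G), Complex.normSq ((ψ : G ⧸ Cfsg.pPrimeCore p G → ℂ) (QuotientGroup.mk x)) ∧ ∑ᶠ χ ∈ Cfsg.principalBlock M G, Complex.normSq ((χ : G → ℂ) x) ≤ (Nat.card ↥(Subgroup.centralizer ({(QuotientGroup.mk x : G ⧸ Cfsg.pPrimeCore p G)} : Set (G ⧸ Cfsg.pPrimeCore p G))) : ℝ) ∧ ((∑ᶠ χ ∈ Cfsg.principalBlock M G, Cfsg.charDegree (χ : G → ℂ) ^ 2) = (Cfsg.pPrimeCore p G).index ↔ ∀ B : Set (Cfsg.IrrCharacter (G ⧸ Cfsg.pPrimeCore p G)), Cfsg.IsPBlock M B → B = Cfsg.principalBlock M (G ⧸ Cfsg.pPrimeCore p G)) := by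
  classical
  have := Fintype.ofFinite G
  have := Fintype.ofFinite (IrrCharacter G)
  have := Fintype.ofFinite (IrrCharacter (G ⧸ pPrimeCore p G))
  have := Fintype.ofFinite (G ⧸ pPrimeCore p G)
  have h1 : BrauerPairs.oneIrr G ∈ principalBlock M G := BrauerPairs.oneIrr_mem_principal hM
  have hnn : ∀ (z : ℂ), 0 ≤ Complex.normSq z := Complex.normSq_nonneg
  have hpos : (1 : ℝ) ≤ ∑ᶠ χ ∈ principalBlock M G, Complex.normSq ((χ : G → ℂ) x) := by
    rw [finsum_mem_eq_toFinset_sum]
    refine le_trans (le_of_eq ?_) (Finset.single_le_sum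
      (f := fun χ : IrrCharacter G => Complex.normSq ((χ : G → ℂ) x)) (fun χ _ => hnn _)
      (Set.mem_toFinset.mpr h1))
    exact (map_one Complex.normSq).symm
  have hq := sum_principal_quotient hM (fun f : G → ℂ => Complex.normSq (f x))
  refine ⟨?_, hq, ?_, ?_⟩
  · obtain ⟨m, hm⟩ := exists_int_lambda M x
    have hm' : ∑ᶠ χ ∈ principalBlock M G, Complex.normSq ((χ : G → ℂ) x) = (m : ℝ) := by
      apply Complex.ofReal_injective
      rw [Complex.ofReal_intCast, ← hm, finsum_mem_eq_toFinset_sum, finsum_mem_eq_toFinset_sum,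
        Complex.ofReal_sum]
      exact Finset.sum_congr rfl fun χ _ => (Complex.mul_conj _).symm
    rw [hm'] at hpos ⊢
    have hm1 : (1 : ℤ) ≤ m := by exact_mod_cast hpos
    obtain ⟨n, rfl⟩ := Int.eq_ofNat_of_zero_le (by omega : 0 ≤ m)
    exact ⟨n, by omega, by norm_num⟩
  · rw [hq, finsum_mem_eq_toFinset_sum]
    refine (Finset.sum_le_sum_of_subset_of_nonneg (Finset.subset_univ _) fun χ _ _ => hnn _).trans
      (le_of_eq ?_)
    apply Complex.ofReal_injective
    rw [Complex.ofReal_sum, Complex.ofReal_natCast]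
    refine (Finset.sum_congr rfl fun χ _ => (Complex.mul_conj _).symm).trans
      ((Char.column_orth _ _).trans ?_)
    rw [if_pos (IsConj.refl _)]
  · set Q := G ⧸ pPrimeCore p G
    have hd := sum_principal_quotient (G := G) hM (fun f : G → ℂ => charDegree f ^ 2)
    have hdeg : ∀ ψ : IrrCharacter Q, charDegree (fun g : G => (ψ : Q → ℂ) (QuotientGroup.mk g))
        = charDegree (ψ : Q → ℂ) := fun ψ => by
      simp only [charDegree, QuotientGroup.mk_one]
    simp only [hdeg] at hd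
    rw [hd, finsum_mem_eq_toFinset_sum, Subgroup.index_eq_card]
    have hall : ∑ ψ : IrrCharacter Q, charDegree (ψ : Q → ℂ) ^ 2 = Nat.card Q := by
      have h := Char.column_orth (G := Q) 1 1
      rw [if_pos (IsConj.refl _)] at h
      have hc : Subgroup.centralizer ({(1 : Q)} : Set Q) = ⊤ :=
        Subgroup.eq_top_iff' _ |>.mpr fun g => Subgroup.mem_centralizer_iff.mpr fun a ha => by
          rw [Set.mem_singleton_iff.mp ha, one_mul, mul_one]
      rw [hc, Subgroup.card_top] at h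
      apply Nat.cast_injective (R := ℂ)
      rw [Nat.cast_sum, ← h]
      refine Finset.sum_congr rfl fun ψ _ => ?_
      rw [← Blocks.charDegree_cast, Complex.conj_natCast, Nat.cast_pow, sq]
    rw [← hall]
    constructor
    · intro he B hB
      obtain ⟨ψ, hψ⟩ := Blocks.isPBlock_nonempty hM hB
      refine Blocks.isPBlock_eq_of_mem hM hB BrauerPairs.isPBlock_principal hψ (by_contra fun hn => ?_)
      refine absurd he (ne_of_lt (Finset.sum_lt_sum_of_subset (Finset.subset_univ _)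
        (Finset.mem_univ ψ) (fun h => hn (Set.mem_toFinset.mp h))
        (pow_pos (Blocks.charDegree_pos ψ) 2) fun _ _ _ => Nat.zero_le _))
    · intro hone
      refine Finset.sum_congr (Finset.eq_univ_of_forall fun ψ => Set.mem_toFinset.mpr ?_) fun _ _ => rfl
      rw [← hone (blockOf M (ψ : Q → ℂ)) ⟨ψ, rfl⟩]
      exact Blocks.mem_blockOf_self hM ψ

end Cfsg.Agent.S4735
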