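import Cfsg.Statements.S4736
import Cfsg.Agent.S4735
import Cfsg.Agent.S4713
import Cfsg.Agent.S0915
import Cfsg.Agent.Lib.PLocal.ActionStable
import Cfsg.Agent.Lib.HallHigman.PSolvable

set_option autoImplicit false
open Cfsg

namespace Cfsg.Agent.S4736

/-- Let p be a prime, M a maximal ideal of the algebraic integers containing p, and G a finite p-solvable group with Sylow p-subgroup P. Then P is abelian if and only if every irreducible character in the principal p-block of G has height zero. -/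
theorem result {G : Type*} [Group G] [Finite G] (p : ℕ) [Fact p.Prime] (M : Ideal Cfsg.AlgInt) (hM : Cfsg.IsPModular p M) (hsolv : Cfsg.IsPSolvable p G) (P : Sylow p G) : IsMulCommutative P ↔ ∀ χ ∈ Cfsg.principalBlock M G, Cfsg.blockHeight p (Cfsg.principalBlock M G) (χ : G → ℂ) = 0 := by
  classical
  have := Fintype.ofFinite G
  set H := pPrimeCore p G with hHdef
  let π := QuotientGroup.mk' H
  have hπ : Function.Surjective π := QuotientGroup.mk'_surjective H
  set Q := G ⧸ H
  have hQsolv : Cfsg.IsPSolvable p Q := PLocal.isPSolvable_surjective hsolv π hπ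
  have hQcore : pPrimeCore p Q = ⊥ := Cores.pPrimeCore_quotient_self p
  let P' : Sylow p Q := P.mapSurjective hπ
  -- heights in the principal block are the p-exponents of the degrees
  have hinf : sInf ((fun ψ : IrrCharacter G => (charDegree (ψ : G → ℂ)).factorization p) ''
      principalBlock M G) = 0 := Nat.sInf_eq_zero.mpr (Or.inl ⟨BrauerPairs.oneIrr G,
    BrauerPairs.oneIrr_mem_principal hM, by simp [BrauerPairs.oneIrr, charDegree]⟩)
  have hht : ∀ χ : IrrCharacter G,
      blockHeight p (principalBlock M G) (χ : G → ℂ) = 0 ↔ ¬ p ∣ charDegree (χ : G → ℂ) := fun χ => by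
    rw [blockHeight, hinf, Nat.sub_zero, Nat.factorization_eq_zero_iff]
    simp [Fact.out, (Blocks.charDegree_pos χ).ne']
  have hall : (∀ χ ∈ principalBlock M G, ¬ p ∣ charDegree (χ : G → ℂ)) ↔
      ∀ ψ : IrrCharacter Q, ¬ p ∣ charDegree (ψ : Q → ℂ) := by
    have hone : ∀ ψ : IrrCharacter Q, ψ ∈ principalBlock M Q := fun ψ =>
      S0915.result p M hM hQsolv hQcore (BrauerPairs.oneIrr Q) ψ
    have := Fintype.ofFinite Q
    have := Fintype.ofFinite H
    constructor
    · intro h ψ hd
      let χ : IrrCharacter G := ⟨_, Char.IsIrrCharacter.comp_surjective ψ.2 π hπ⟩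
      have hχ : χ ∈ principalBlock M G :=
        BlocksNormal.sameBlock_comp hM hπ (χ := BrauerPairs.oneIrr Q) (hone ψ)
      refine h χ hχ ?_
      simpa [χ, charDegree] using hd
    · intro h χ hχ hd
      obtain ⟨φ, hφ⟩ := CentralChar.exists_deflation H χ (BlocksNormal.trivOn_of_sameBlock H hM
        Cores.not_dvd_card_pPrimeCore (χ := BrauerPairs.oneIrr G) hχ (fun _ _ => rfl))
      refine h φ ?_
      simpa [charDegree, hφ, QuotientGroup.mk_one] using hd
  simp only [hht]
  rw [hall, ← S4713.result p hQsolv P']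
  have hcard : ∀ a b : G, a ∈ (P : Subgroup G) → b ∈ (P : Subgroup G) →
      π a * π b = π b * π a → a * b = b * a := by
    intro a b ha hb h
    have h1 : (b * a)⁻¹ * (a * b) ∈ H := by
      rw [← map_mul, ← map_mul] at h
      exact QuotientGroup.eq.mp h.symm
    have h2 : (b * a)⁻¹ * (a * b) ∈ (P : Subgroup G) :=
      mul_mem (inv_mem (mul_mem hb ha)) (mul_mem ha hb)
    have h3 : (P : Subgroup G) ⊓ H = ⊥ := Subgroup.inf_eq_bot_of_coprime (by
      obtain ⟨k, hk⟩ := IsPGroup.iff_card.mp P.2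
      rw [hk]
      exact Nat.Coprime.pow_left _ ((Fact.out : p.Prime).coprime_iff_not_dvd.mpr
        Cores.not_dvd_card_pPrimeCore))
    have h4 : (b * a)⁻¹ * (a * b) ∈ (⊥ : Subgroup G) := h3 ▸ Subgroup.mem_inf.mpr ⟨h2, h1⟩
    rw [Subgroup.mem_bot, inv_mul_eq_one] at h4
    exact h4.symm
  constructor
  · intro hab
    have hab' : IsMulCommutative P' := by
      refine ⟨⟨fun a b => Subtype.ext ?_⟩⟩
      obtain ⟨a', ha', hea⟩ := Subgroup.mem_map.mp (show (a : Q) ∈ (P : Subgroup G).map π from a.2)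
      obtain ⟨b', hb', heb⟩ := Subgroup.mem_map.mp (show (b : Q) ∈ (P : Subgroup G).map π from b.2)
      show (a : Q) * b = b * a
      rw [← hea, ← heb, ← map_mul, ← map_mul]
      exact congrArg π (congrArg Subtype.val (hab.is_comm.comm ⟨a', ha'⟩ ⟨b', hb'⟩))
    refine ⟨?_, hab'⟩
    have hle : pCore p Q ≤ (P' : Subgroup Q) := Cores.pCore_le_sylow P'
    have hle' : (P' : Subgroup Q) ≤ pCore p Q := fun a ha =>
      HallHigman.centralizer_pCore_le_of_isPSolvable hQsolv hQcore
        (Subgroup.mem_centralizer_iff.mpr fun b hb =>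
          congrArg Subtype.val (hab'.is_comm.comm ⟨b, hle hb⟩ ⟨a, ha⟩))
    rw [le_antisymm hle' hle]
    infer_instance
  · rintro ⟨-, hab'⟩
    refine ⟨⟨fun a b => Subtype.ext (hcard a b a.2 b.2 ?_)⟩⟩
    exact congrArg Subtype.val (hab'.is_comm.comm ⟨π a, Subgroup.mem_map_of_mem π a.2⟩
      ⟨π b, Subgroup.mem_map_of_mem π b.2⟩)

end Cfsg.Agent.S4736
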