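import Cfsg.Statements.S4737
import Cfsg.Agent.Lib.ClassCount.CharSum

set_option autoImplicit false
open Cfsg

namespace Cfsg.Agent.S4737

open Cfsg.Agent

variable {G : Type*} [Group G] [Finite G]

/-- `g` has order 3 and normalizes no nontrivial 2-subgroup. -/
def Good (g : G) : Prop :=
  orderOf g = 3 ∧ ∀ Q : Subgroup G, IsPGroup 2 ↥Q → g ∈ Subgroup.normalizer (Q : Set G) → Q = ⊥

theorem Good.pow_three {x : G} (hx : Good x) : x ^ 3 = 1 := hx.1 ▸ pow_orderOf_eq_one x

theorem Good.odd_centralizer {x : G} (hx : Good x) :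
    Odd (Nat.card ↥(Subgroup.centralizer ({x} : Set G))) := by
  by_contra h
  rw [Nat.not_odd_iff_even, even_iff_two_dvd] at h
  obtain ⟨⟨s, hs⟩, hso⟩ := exists_prime_orderOf_dvd_card' 2 h
  rw [Subgroup.orderOf_mk] at hso
  have hc : Commute s x := Subgroup.mem_centralizer_singleton_iff.mp hs
  have hQ : IsPGroup 2 ↥(Subgroup.zpowers s) :=
    IsPGroup.of_card (n := 1) (by rw [Nat.card_zpowers, hso, pow_one])
  have h1 := hx.2 (Subgroup.zpowers s) hQ (by
    rw [Subgroup.mem_normalizer_iff]
    intro w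
    constructor
    · intro hw
      obtain ⟨k, rfl⟩ := Subgroup.mem_zpowers_iff.mp hw
      rw [(hc.zpow_left k).symm.eq, mul_inv_cancel_right]
      exact Subgroup.zpow_mem_zpowers s k
    · intro hw
      obtain ⟨k, hk⟩ := Subgroup.mem_zpowers_iff.mp hw
      have : w = x⁻¹ * s ^ k * x := by rw [hk]; group
      rw [this, mul_assoc, (hc.zpow_left k).eq, inv_mul_cancel_left]
      exact Subgroup.zpow_mem_zpowers s k)
  rw [Subgroup.zpowers_eq_bot] at h1
  rw [h1, orderOf_one] at hso
  exact absurd hso (by norm_num)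

/-- No involution `s` satisfies `(s * x) ^ 3 = 1` for good `x`. -/
theorem Good.eq_one_of_cube {x s : G} (hx : Good x) (hs : s * s = 1)
    (hsx : s * x * (s * x) * (s * x) = 1) : s = 1 := by
  have hsinv : s⁻¹ = s := inv_eq_of_mul_eq_one_left hs
  have hx3 := hx.pow_three
  set b := x * s * x⁻¹ with hb
  set c := x ^ 2 * s * (x ^ 2)⁻¹ with hc
  have hb2 : b * b = 1 := by
    rw [hb, show x * s * x⁻¹ * (x * s * x⁻¹) = x * (s * s) * x⁻¹ by group, hs]; simp
  have hc2 : c * c = 1 := by
    rw [hc, show x ^ 2 * s * (x ^ 2)⁻¹ * (x ^ 2 * s * (x ^ 2)⁻¹) =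
      x ^ 2 * (s * s) * (x ^ 2)⁻¹ by group, hs]; simp
  have habc : s * b * c = 1 := by
    have e : s * b * c * x ^ 3 = s * x * (s * x) * (s * x) := by rw [hb, hc]; group
    rwa [hx3, mul_one, hsx] at e
  have hcab : c = s * b := by
    have := eq_inv_of_mul_eq_one_left habc
    rw [this, inv_eq_of_mul_eq_one_left hc2]
  have hbs : b * s = s * b := by
    calc b * s = (s * b)⁻¹ := by rw [mul_inv_rev, hsinv, inv_eq_of_mul_eq_one_left hb2]
      _ = s * b := by rw [← hcab, inv_eq_of_mul_eq_one_left hc2]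
  set V := Subgroup.closure ({s, b} : Set G) with hV
  have hVp : ∀ g ∈ V, (g * g = 1) ∧ Commute g s ∧ Commute g b := by
    intro g hg
    induction hg using Subgroup.closure_induction with
    | mem w hw =>
      rcases hw with rfl | hw
      · exact ⟨hs, Commute.refl _, hbs.symm⟩
      · rw [Set.mem_singleton_iff] at hw; subst hw
        exact ⟨hb2, hbs, Commute.refl _⟩
    | one => exact ⟨one_mul 1, Commute.one_left _, Commute.one_left _⟩
    | mul u v hu hv hu' hv' =>
      have huv : Commute u v := by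
        have : ∀ w ∈ V, Commute u w := by
          intro w hw
          induction hw using Subgroup.closure_induction with
          | mem w hw =>
            rcases hw with rfl | hw
            · exact hu'.2.1
            · rw [Set.mem_singleton_iff] at hw; subst hw; exact hu'.2.2
          | one => exact Commute.one_right _
          | mul _ _ _ _ h1 h2 => exact h1.mul_right h2
          | inv _ _ h1 => exact h1.inv_right
        exact this v hv
      refine ⟨?_, hu'.2.1.mul_left hv'.2.1, hu'.2.2.mul_left hv'.2.2⟩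
      rw [mul_assoc u v, ← mul_assoc v u, ← huv.eq, mul_assoc u v, hv'.1, mul_one, hu'.1]
    | inv u hu hu' =>
      exact ⟨by rw [← mul_inv_rev, hu'.1, inv_one], hu'.2.1.inv_left, hu'.2.2.inv_left⟩
  have hVmap : ∀ g ∈ V, x * g * x⁻¹ ∈ V := by
    intro g hg
    induction hg using Subgroup.closure_induction with
    | mem w hw =>
      rcases hw with rfl | hw
      · exact Subgroup.subset_closure (Or.inr rfl)
      · rw [Set.mem_singleton_iff] at hw; subst hw
        rw [show x * b * x⁻¹ = c by rw [hb, hc]; (simp only [pow_succ, pow_zero, one_mul]; group), hcab]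
        exact mul_mem (Subgroup.subset_closure (Or.inl rfl)) (Subgroup.subset_closure (Or.inr rfl))
    | one => simp
    | mul u v _ _ h1 h2 =>
      rw [show x * (u * v) * x⁻¹ = x * u * x⁻¹ * (x * v * x⁻¹) by group]; exact mul_mem h1 h2
    | inv u _ h1 =>
      rw [show x * u⁻¹ * x⁻¹ = (x * u * x⁻¹)⁻¹ by group]; exact inv_mem h1
  have hVbot := hx.2 V (by
    intro g
    exact ⟨1, Subtype.ext (by simp [pow_two, (hVp _ g.2).1])⟩) (by
    rw [Subgroup.mem_normalizer_iff]
    intro w
    refine ⟨hVmap w, fun hw => ?_⟩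
    have h2 := hVmap _ (hVmap _ hw)
    have e : x * (x * (x * w * x⁻¹) * x⁻¹) * x⁻¹ = x ^ 3 * w * (x ^ 3)⁻¹ := by
      (simp only [pow_succ, pow_zero, one_mul]; group)
    rw [e, hx3] at h2
    simpa using h2)
  have : s ∈ V := Subgroup.subset_closure (Or.inl rfl)
  rwa [hVbot, Subgroup.mem_bot] at this

theorem fibreCount_symm (x x' y : G) :
    ClassCount.fibreCount x x' y = ClassCount.fibreCount x' x y := by
  refine Nat.card_congr
    { toFun := fun g => ⟨g.1⁻¹ * y, g.2.2, g.2.1.trans (isConj_iff.mpr ⟨y⁻¹, by group⟩)⟩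
      invFun := fun g => ⟨y * g.1⁻¹, ?_, ?_⟩
      left_inv := fun g => by ext; simp
      right_inv := fun g => by ext; simp }
  · exact g.2.2.trans (isConj_iff.mpr ⟨y, by group⟩)
  · rw [mul_inv_rev, inv_inv, inv_mul_cancel_right]; exact g.2.1

/-- Parity of the square coefficient of a good class. -/
theorem fibreCount_parity (xi xl : G) (hi : Good xi) (hl : Good xl) [Decidable (IsConj xi xl)] :
    (ClassCount.fibreCount xi xi (xl ^ 2) : ZMod 2) = if IsConj xi xl then 1 else 0 := by
  classical
  have := Fintype.ofFinite G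
  set z := xl ^ 2 with hz
  have hz3 : z ^ 3 = 1 := by rw [hz, ← pow_mul, pow_mul', hl.pow_three, one_pow]
  have hzinv : z⁻¹ = xl :=
    inv_eq_of_mul_eq_one_left (by rw [hz, ← pow_succ', hl.pow_three])
  let α := {g : G // IsConj xi g ∧ IsConj xi (g⁻¹ * z)}
  have hmem : ∀ g : α, IsConj xi (z⁻¹ * (g.1⁻¹ * z) * z) ∧
      IsConj xi ((z⁻¹ * (g.1⁻¹ * z) * z)⁻¹ * z) := fun g =>
    ⟨g.2.2.trans (isConj_iff.mpr ⟨z⁻¹, by group⟩),
      g.2.1.trans (isConj_iff.mpr ⟨(z ^ 2)⁻¹, by simp [pow_two, mul_assoc]⟩)⟩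
  let ψ : α → α := fun g => ⟨z⁻¹ * (g.1⁻¹ * z) * z, hmem g⟩
  have hψ : ∀ g, ψ (ψ g) = g := fun g => Subtype.ext (by
    show z⁻¹ * ((z⁻¹ * (g.1⁻¹ * z) * z)⁻¹ * z) * z = g.1
    calc z⁻¹ * ((z⁻¹ * (g.1⁻¹ * z) * z)⁻¹ * z) * z = (z ^ 3)⁻¹ * g.1 * z ^ 3 := by
          (simp only [pow_succ, pow_zero, one_mul]; group)
      _ = g.1 := by rw [hz3]; simp)
  have key : ∀ g : α, ψ g = g → g.1 = xl ∧ IsConj xi xl := by
    intro g hg
    have hg' : z⁻¹ * (g.1⁻¹ * z) * z = g.1 := congrArg Subtype.val hg
    have h2 : g.1 * z * (g.1 * z) = 1 := by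
      calc g.1 * z * (g.1 * z) = g.1 * z * ((z⁻¹ * (g.1⁻¹ * z) * z) * z) := by rw [hg']
        _ = z ^ 3 := by (simp only [pow_succ, pow_zero, one_mul]; group)
        _ = 1 := hz3
    set s := g.1 * z with hsdef
    have hgs : g.1 = s * xl := by rw [hsdef, ← hzinv]; group
    have hg3 : g.1 * g.1 * g.1 = 1 := by
      obtain ⟨c, hc⟩ := isConj_iff.mp g.2.1
      rw [← hc, show c * xi * c⁻¹ * (c * xi * c⁻¹) * (c * xi * c⁻¹) = c * xi ^ 3 * c⁻¹ by (simp only [pow_succ, pow_zero, one_mul]; group),
        hi.pow_three]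
      simp
    rw [hgs] at hg3
    have hs1 := hl.eq_one_of_cube h2 hg3
    rw [hs1, one_mul] at hgs
    exact ⟨hgs, hgs ▸ g.2.1⟩
  have hsum : (ClassCount.fibreCount xi xi z : ZMod 2) =
      ∑ g : α, if ψ g = g then 1 else 0 := by
    have h0 : ∑ g : α, (if ψ g = g then 0 else 1 : ZMod 2) = 0 := by
      refine Finset.sum_involution (fun g _ => ψ g) ?_ ?_ (fun g _ => Finset.mem_univ _)
        (fun g _ => hψ g)
      · intro g _
        by_cases h : ψ g = g
        · simp [h]
        · rw [if_neg h, if_neg (fun h' => h (by rw [hψ] at h'; exact h'.symm))]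
          decide
      · intro g _ hne h
        exact hne (if_pos h)
    calc (ClassCount.fibreCount xi xi z : ZMod 2) = ∑ _g : α, (1 : ZMod 2) := by
          simp [ClassCount.fibreCount, α, Nat.card_eq_fintype_card]
      _ = ∑ g : α, ((if ψ g = g then 1 else 0 : ZMod 2) + if ψ g = g then 0 else 1) :=
          Finset.sum_congr rfl fun g _ => by split_ifs <;> simp
      _ = _ := by rw [Finset.sum_add_distrib, h0, add_zero]
  rw [hsum]
  split_ifs with hij
  · have hx : IsConj xi (xl⁻¹ * z) := by
      rw [hz, pow_two, inv_mul_cancel_left]; exact hij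
    rw [Finset.sum_eq_single (⟨xl, hij, hx⟩ : α)]
    · rw [if_pos]
      apply Subtype.ext
      show z⁻¹ * (xl⁻¹ * z) * z = xl
      rw [hzinv, hz]
      calc xl * (xl⁻¹ * xl ^ 2) * xl ^ 2 = xl ^ 3 * xl := by (simp only [pow_succ, pow_zero, one_mul]; group)
        _ = xl := by rw [hl.pow_three, one_mul]
    · intro g _ hne
      exact if_neg fun h => hne (Subtype.ext (key g h).1)
    · simp
  · exact Finset.sum_eq_zero fun g _ => if_neg fun h => hij (key g h).2

theorem sum_sum_symm {ι R : Type*} [CommRing R] (h2 : (2 : R) = 0) (b : ι → ι → R)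
    (hb : ∀ i j, b i j = b j i) (s : Finset ι) : ∑ i ∈ s, ∑ j ∈ s, b i j = ∑ i ∈ s, b i i := by
  classical
  induction s using Finset.induction_on with
  | empty => simp
  | insert a s ha ih =>
    simp only [Finset.sum_insert ha, Finset.sum_add_distrib, ih]
    rw [Finset.sum_congr rfl (fun i _ => hb i a)]
    linear_combination (∑ j ∈ s, b a j) * h2

theorem main (h2 : 2 ∣ Nat.card G) {ι : Type*} [Fintype ι] (x : ι → G) (hx : ∀ i, Good (x i))
    (hinj : ∀ i j, IsConj (x i) (x j) → i = j) :
    Nat.card ι ≤ Nat.card {χ : Cfsg.IrrCharacter G //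
      (Cfsg.charDegree (χ : G → ℂ)).factorization 2 = (Nat.card G).factorization 2} := by
  classical
  have := Fintype.ofFinite (Cfsg.IrrCharacter G)
  set D := {χ : Cfsg.IrrCharacter G //
      (Cfsg.charDegree (χ : G → ℂ)).factorization 2 = (Nat.card G).factorization 2}
  have hI : Ideal.span {(2 : Cfsg.AlgInt)} ≠ ⊤ := by
    intro h
    obtain ⟨r, hr⟩ := Ideal.mem_span_singleton.mp ((Ideal.eq_top_iff_one _).mp h)
    have : (2 : ℕ) ∣ 1 := ClassCount.dvd_of_mul_isIntegral r.2 (by
      have := congrArg (fun u : Cfsg.AlgInt => (u : ℂ)) hr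
      push_cast at this ⊢
      exact this)
    exact absurd this (by norm_num)
  obtain ⟨M, hM, hle⟩ := Ideal.exists_le_maximal _ hI
  let π := Ideal.Quotient.mk M
  let : Field (Cfsg.AlgInt ⧸ M) := Ideal.Quotient.field M
  have h20 : (2 : Cfsg.AlgInt ⧸ M) = 0 := by
    rw [← map_ofNat π 2]
    exact Ideal.Quotient.eq_zero_iff_mem.mpr (hle (Ideal.mem_span_singleton_self _))
  have hodd : ∀ n : ℕ, Odd n → (n : Cfsg.AlgInt ⧸ M) = 1 := by
    rintro n ⟨k, rfl⟩; push_cast; rw [h20]; ring
  let v : Cfsg.IrrCharacter G → ι → Cfsg.AlgInt := fun χ i =>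
    ⟨ClassCount.omega (χ : G → ℂ) (x i), ClassCount.isIntegral_omega χ.2 _⟩
  let e : Cfsg.IrrCharacter G → ι → Cfsg.AlgInt := fun χ i =>
    ⟨(χ : G → ℂ) (x i), Char.IsCharacter.isIntegral (Char.IsIrrCharacter.isCharacter χ.2) _⟩
  by_contra hlt
  push Not at hlt
  have hdep : ¬ LinearIndependent (Cfsg.AlgInt ⧸ M) (fun i => fun d : D => π (v d.1 i)) := by
    intro h
    have := h.fintype_card_le_finrank
    rw [Module.finrank_fintype_fun_eq_card] at this
    rw [← Nat.card_eq_fintype_card, ← Nat.card_eq_fintype_card] at this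
    omega
  obtain ⟨cbar, hc0, l, hl⟩ := Fintype.not_linearIndependent_iff.mp hdep
  choose c hc using fun i => Ideal.Quotient.mk_surjective (I := M) (cbar i)
  have hkill : ∀ χ : Cfsg.IrrCharacter G, π (∑ i, c i * v χ i) = 0 := by
    intro χ
    rw [map_sum]
    simp only [map_mul, π, hc]
    by_cases hd : (Cfsg.charDegree (χ : G → ℂ)).factorization 2 = (Nat.card G).factorization 2
    · have := congrFun hc0 ⟨χ, hd⟩
      simpa [Finset.sum_apply] using this
    refine Finset.sum_eq_zero fun i _ => ?_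
    obtain ⟨m, hm⟩ := ClassCount.degree_dvd_card χ
    have hm0 : m ≠ 0 := fun h => by rw [h, mul_zero] at hm; exact Nat.card_pos.ne' hm
    have h2m : 2 ∣ m := by
      by_contra h
      apply hd
      rw [hm, Nat.factorization_mul (ClassCount.charDegree_pos χ).ne' hm0, Finsupp.add_apply,
        Nat.factorization_eq_zero_of_not_dvd h, add_zero]
    have he : (Nat.card ↥(Subgroup.centralizer ({x i} : Set G)) : Cfsg.AlgInt) * v χ i =
        (m : Cfsg.AlgInt) * e χ i := by
      apply Subtype.ext
      push_cast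
      show _ * ClassCount.omega (χ : G → ℂ) (x i) = _ * (χ : G → ℂ) (x i)
      have hne := Char.IsIrrCharacter.apply_one_ne_zero χ.2
      have h' : (Nat.card {g : G // IsConj (x i) g} : ℂ) *
          (Nat.card ↥(Subgroup.centralizer ({x i} : Set G)) : ℂ) = (χ : G → ℂ) 1 * (m : ℂ) := by
        rw [ClassCount.apply_one_eq_charDegree]
        exact_mod_cast (ClassCount.card_class_mul_card_centralizer (x i)).trans hm
      rw [ClassCount.omega]
      field_simp
      linear_combination (χ : G → ℂ) (x i) * h'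
    have := congrArg π he
    obtain ⟨k, rfl⟩ := h2m
    rw [map_mul, map_mul, map_natCast, map_natCast, hodd _ (hx i).odd_centralizer, one_mul,
      Nat.cast_mul, Nat.cast_ofNat, h20, zero_mul, zero_mul] at this
    simp [π] at this ⊢
    simp [this]
  set z := x l ^ 2
  have hmain : ∑ i, ∑ j, π (c i) * π (c j) *
      (ClassCount.fibreCount (x i) (x j) z : Cfsg.AlgInt ⧸ M) = 0 := by
    have hid : ∑ i, ∑ j, c i * c j * ((Nat.card ↥(Subgroup.centralizer ({x i} : Set G)) : Cfsg.AlgInt)
        * (ClassCount.fibreCount (x i) (x j) z : Cfsg.AlgInt)) =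
        ∑ χ : Cfsg.IrrCharacter G, (⟨(χ : G → ℂ) z⁻¹, Char.IsCharacter.isIntegral
          (Char.IsIrrCharacter.isCharacter χ.2) _⟩ : Cfsg.AlgInt) * (∑ i, c i * e χ i) *
          (∑ j, c j * v χ j) := by
      apply Subtype.ext
      push_cast
      simp only [Finset.mul_sum, Finset.sum_mul]
      rw [Finset.sum_comm (γ := Cfsg.IrrCharacter G)]
      rw [Finset.sum_comm (γ := ι)]
      refine Finset.sum_congr rfl fun j _ => ?_
      conv_rhs => rw [Finset.sum_comm]
      refine Finset.sum_congr rfl fun i _ => ?_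
      have hG : (Nat.card G : ℂ) ≠ 0 := by exact_mod_cast Nat.card_pos.ne'
      rw [← mul_left_inj' hG]
      have key := ClassCount.card_mul_fibreCount (x i) (x j) z
      calc _ = (c i : ℂ) * (c j : ℂ) * (Nat.card ↥(Subgroup.centralizer ({x i} : Set G)) : ℂ) *
            ((Nat.card G : ℂ) * (ClassCount.fibreCount (x i) (x j) z : ℂ)) := by ring
        _ = _ := by
          rw [key, Finset.mul_sum, Finset.sum_mul]
          refine Finset.sum_congr rfl fun χ _ => ?_
          have hne := Char.IsIrrCharacter.apply_one_ne_zero χ.2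
          have h' : (Nat.card {g : G // IsConj (x i) g} : ℂ) *
              (Nat.card ↥(Subgroup.centralizer ({x i} : Set G)) : ℂ) = (Nat.card G : ℂ) := by
            exact_mod_cast ClassCount.card_class_mul_card_centralizer (x i)
          show _ = (χ : G → ℂ) z⁻¹ * ((c i : ℂ) * (χ : G → ℂ) (x i)) *
            ((c j : ℂ) * ClassCount.omega (χ : G → ℂ) (x j)) * (Nat.card G : ℂ)
          rw [ClassCount.omega.eq_1 (χ : G → ℂ) (x i), ← h']
          field_simp
    have h := congrArg π hid
    simp only [map_sum, map_mul, map_natCast] at h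
    rw [Finset.sum_eq_zero (s := (Finset.univ : Finset (Cfsg.IrrCharacter G))) (fun χ _ => by
      have := hkill χ
      simp only [map_sum, map_mul] at this
      rw [this, mul_zero])] at h
    rw [← h]
    refine Finset.sum_congr rfl fun i _ => Finset.sum_congr rfl fun j _ => ?_
    rw [hodd _ (hx i).odd_centralizer, one_mul]
  rw [sum_sum_symm h20 _ (fun i j => by rw [fibreCount_symm (x i), mul_comm (π (c i))])] at hmain
  have hpar : ∀ i, (ClassCount.fibreCount (x i) (x i) z : Cfsg.AlgInt ⧸ M) =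
      if i = l then 1 else 0 := by
    intro i
    have hp := fibreCount_parity (x i) (x l) (hx i) (hx l)
    by_cases hil : i = l
    · subst hil
      rw [if_pos (IsConj.refl _)] at hp
      rw [if_pos rfl]
      refine hodd _ (Nat.not_even_iff_odd.mp fun h => ?_)
      rw [(ZMod.natCast_eq_zero_iff_even).mpr h] at hp
      exact zero_ne_one hp
    · rw [if_neg fun h => hil (hinj _ _ h)] at hp
      obtain ⟨k, hk⟩ := (ZMod.natCast_eq_zero_iff_even).mp hp
      rw [if_neg hil, hk, Nat.cast_add, ← two_mul, h20, zero_mul]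
  simp only [hpar, mul_ite, mul_one, mul_zero, Finset.sum_ite_eq', Finset.mem_univ, if_true] at hmain
  apply hl
  rw [← hc l]
  exact mul_self_eq_zero.mp hmain


/-- Let G be a finite group of order divisible by 6. Then the number of irreducible characters of G whose degree has the same 2-part as the order of G (the characters of 2-defect zero, each forming a 2-block of defect zero on its own) is at least the number of conjugacy classes of elements of order 3 that normalize no nontrivial 2-subgroup of G. In particular G has a 2-block of defect zero as soon as some element of order 3 normalizes no nontrivial 2-subgroup. -/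
theorem result {G : Type*} [Group G] [Finite G] (h6 : 6 ∣ Nat.card G) : Nat.card {C : ConjClasses G // ∃ g ∈ C.carrier, orderOf g = 3 ∧ ∀ Q : Subgroup G, IsPGroup 2 ↥Q → g ∈ Subgroup.normalizer (Q : Set G) → Q = ⊥} ≤ Nat.card {χ : Cfsg.IrrCharacter G // (Cfsg.charDegree (χ : G → ℂ)).factorization 2 = (Nat.card G).factorization 2} := by
  classical
  have := Fintype.ofFinite {C : ConjClasses G // ∃ g ∈ C.carrier, orderOf g = 3 ∧
    ∀ Q : Subgroup G, IsPGroup 2 ↥Q → g ∈ Subgroup.normalizer (Q : Set G) → Q = ⊥}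
  refine main (dvd_trans (by norm_num) h6) (fun C => C.2.choose) (fun C => C.2.choose_spec.2)
    (fun C C' h => Subtype.ext ?_)
  rw [← ConjClasses.mem_carrier_iff_mk_eq.mp C.2.choose_spec.1,
    ← ConjClasses.mem_carrier_iff_mk_eq.mp C'.2.choose_spec.1]
  exact ConjClasses.mk_eq_mk_iff_isConj.mpr h

end Cfsg.Agent.S4737
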