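import Cfsg.Statements.S4738
import Cfsg.Agent.Lib.ClassCount.NoTwoP

set_option autoImplicit false
open Cfsg

namespace Cfsg.Agent.S4738

/-- Let p be an odd prime and G a finite group of even order containing no element of order 2p. Then either G has an irreducible character of p-defect zero (its degree has the same p-part as the order of G), or every Sylow p-subgroup of G is abelian and all involutions of G are conjugate. -/
theorem result {G : Type*} [Group G] [Finite G] (p : ℕ) [Fact p.Prime] (hp2 : p ≠ 2) (hG : Even (Nat.card G)) (h2p : ∀ g : G, orderOf g ≠ 2 * p) : (∃ χ : Cfsg.IrrCharacter G, (Cfsg.charDegree (χ : G → ℂ)).factorization p = (Nat.card G).factorization p) ∨ ((∀ P : Sylow p G, IsMulCommutative ↥(P : Subgroup G)) ∧ ∀ s t : G, orderOf s = 2 → orderOf t = 2 → IsConj s t) := by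
  by_cases hno : ∃ χ : Cfsg.IrrCharacter G,
      (Cfsg.charDegree (χ : G → ℂ)).factorization p = (Nat.card G).factorization p
  · exact Or.inl hno
  have hodd := fun g (hg : g ≠ 1) hk =>
    ClassCount.odd_centralizer_of_no_two_p hp2 h2p (g := g) hg hk
  obtain ⟨t, ht⟩ := exists_prime_orderOf_dvd_card' 2 (even_iff_two_dvd.mp hG)
  refine Or.inr ⟨fun P => ?_, fun s u hs hu =>
    ClassCount.isConj_involutions hodd hno default hs hu⟩
  obtain ⟨s, y, -, -, hsP, -⟩ := ClassCount.sylow_inverted hodd hno P ht
  exact ClassCount.sylow_abelian_of_inverted P hsP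

end Cfsg.Agent.S4738
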