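import Cfsg.Statements.S4740
import Cfsg.Agent.Lib.ClassCount.CharSum

set_option autoImplicit false
open Cfsg

namespace Cfsg.Agent.S4740

/-- Let p be an odd prime, G a finite group of even order, x an involution of G and P a subgroup of G of order p ^ c such that no conjugate of x inverts a non-identity element of P. If p ^ a is the p-part of the order of C_G(x), then some irreducible character of G has degree divisible by p ^ (c - a). -/
theorem result {G : Type*} [Group G] [Finite G] (p : ℕ) [Fact p.Prime] (hp2 : p ≠ 2) (hG : Even (Nat.card G)) (x : G) (hx : orderOf x = 2) (P : Subgroup G) (c : ℕ) (hP : Nat.card ↥P = p ^ c) (hinv : ∀ g : G, IsConj x g → ∀ z ∈ P, z ≠ 1 → g * z * g⁻¹ ≠ z⁻¹) (a : ℕ) (ha : (Nat.card ↥(Subgroup.centralizer ({x} : Set G))).factorization p = a) : ∃ χ : Cfsg.IrrCharacter G, p ^ (c - a) ∣ Cfsg.charDegree (χ : G → ℂ) := by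
  have hxx := ClassCount.mul_self_eq_one_of_orderOf hx
  rw [← ha]
  refine ClassCount.exists_degree_dvd_of_trivial_pairs P hP x ?_
  intro g k hg hk hgk
  by_contra hne
  rw [inv_eq_of_mul_eq_one_left hxx] at hk
  obtain ⟨c₁, hc₁⟩ := isConj_iff.mp hg
  obtain ⟨c₂, hc₂⟩ := isConj_iff.mp hk
  have hg2 : g * g = 1 := by
    rw [← hc₁, show c₁ * x * c₁⁻¹ * (c₁ * x * c₁⁻¹) = c₁ * (x * x) * c₁⁻¹ by group, hxx]; simp
  have hk2 : k * k = 1 := by
    rw [← hc₂, show c₂ * x * c₂⁻¹ * (c₂ * x * c₂⁻¹) = c₂ * (x * x) * c₂⁻¹ by group, hxx]; simp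
  refine hinv g hg _ hgk hne ?_
  rw [mul_inv_rev, inv_eq_of_mul_eq_one_left hg2, inv_eq_of_mul_eq_one_left hk2, ← mul_assoc g g k,
    hg2, one_mul]

end Cfsg.Agent.S4740
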