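import Cfsg.Statements.S4742
import Cfsg.Agent.Lib.ClassCount.CharSum

set_option autoImplicit false
open Cfsg

namespace Cfsg.Agent.S4742

open Cfsg.Agent in
/-- If no two conjugates of `z` differ by a nontrivial `p`-element, there is a character of
`p`-defect zero. -/
theorem defect_zero_of_no_pairs {G : Type*} [Group G] [Finite G] {p q : ℕ} [Fact p.Prime]
    [Fact q.Prime] (hppq : p ≠ q)
    (hC : ∀ g : G, g ≠ 1 → (∃ k : ℕ, orderOf g = p ^ k) →
      ¬ q ∣ Nat.card ↥(Subgroup.centralizer ({g} : Set G)))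
    (z : G) (hz1 : z ≠ 1) (hzk : ∃ k : ℕ, orderOf z = q ^ k)
    (h : ∀ g k : G, IsConj z g → IsConj z k → g * k⁻¹ ≠ 1 →
      ¬ ∃ n : ℕ, orderOf (g * k⁻¹) = p ^ n) :
    ∃ χ : Cfsg.IrrCharacter G,
      (Cfsg.charDegree (χ : G → ℂ)).factorization p = (Nat.card G).factorization p := by
  have hp : p.Prime := Fact.out
  have hCz : (Nat.card ↥(Subgroup.centralizer ({z} : Set G))).factorization p = 0 := by
    refine Nat.factorization_eq_zero_of_not_dvd fun hdvd => ?_
    obtain ⟨⟨w, hw⟩, hwo⟩ := exists_prime_orderOf_dvd_card' p hdvd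
    rw [Subgroup.orderOf_mk] at hwo
    have hw1 : w ≠ 1 := fun hh => by rw [hh, orderOf_one] at hwo; exact hp.one_lt.ne hwo
    refine hC w hw1 ⟨1, by rw [hwo, pow_one]⟩ (dvd_trans ?_
      (Subgroup.orderOf_dvd_natCard _ (Subgroup.mem_centralizer_singleton_iff.mpr
        (Subgroup.mem_centralizer_singleton_iff.mp hw).symm : z ∈ Subgroup.centralizer ({w} : Set G))))
    obtain ⟨k, hk⟩ := hzk
    rcases k with _ | k
    · exact absurd (orderOf_eq_one_iff.mp (by simpa using hk)) hz1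
    · rw [hk]; exact dvd_pow_self _ (Nat.succ_ne_zero k)
  let P : Sylow p G := default
  obtain ⟨χ, hχ⟩ := ClassCount.exists_degree_dvd_of_trivial_pairs (P : Subgroup G)
    (Sylow.card_eq_multiplicity P) z (fun g k hg hk hgk => by
      by_contra hne
      obtain ⟨c, hc⟩ := isConj_iff.mp hk
      obtain ⟨n, hn⟩ := IsPGroup.iff_orderOf.mp P.isPGroup' ⟨g * k, hgk⟩
      rw [Subgroup.orderOf_mk] at hn
      refine h g k⁻¹ hg (isConj_iff.mpr ⟨c, ?_⟩) (by rwa [inv_inv]) ⟨n, by rwa [inv_inv]⟩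
      rw [← hc, ← conj_inv, inv_inv])
  rw [hCz, Nat.sub_zero, hp.pow_dvd_iff_le_factorization (ClassCount.charDegree_pos χ).ne'] at hχ
  exact ⟨χ, le_antisymm ((Nat.factorization_le_iff_dvd (ClassCount.charDegree_pos χ).ne'
    Nat.card_pos.ne').mpr (ClassCount.degree_dvd_card χ) p) hχ⟩

theorem centralizer_symm {G : Type*} [Group G] [Finite G] {p q : ℕ} [Fact p.Prime] [Fact q.Prime]
    (hC : ∀ g : G, g ≠ 1 → (∃ k : ℕ, orderOf g = p ^ k) →
      ¬ q ∣ Nat.card ↥(Subgroup.centralizer ({g} : Set G)))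
    (g : G) (hg1 : g ≠ 1) (hgk : ∃ k : ℕ, orderOf g = q ^ k) :
    ¬ p ∣ Nat.card ↥(Subgroup.centralizer ({g} : Set G)) := by
  intro hdvd
  obtain ⟨⟨w, hw⟩, hwo⟩ := exists_prime_orderOf_dvd_card' p hdvd
  rw [Subgroup.orderOf_mk] at hwo
  have hw1 : w ≠ 1 := fun hh => by
    rw [hh, orderOf_one] at hwo; exact (Fact.out : p.Prime).one_lt.ne hwo
  refine hC w hw1 ⟨1, by rw [hwo, pow_one]⟩ (dvd_trans ?_
    (Subgroup.orderOf_dvd_natCard _ (Subgroup.mem_centralizer_singleton_iff.mpr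
      (Subgroup.mem_centralizer_singleton_iff.mp hw).symm : g ∈ Subgroup.centralizer ({w} : Set G))))
  obtain ⟨k, hk⟩ := hgk
  rcases k with _ | k
  · exact absurd (orderOf_eq_one_iff.mp (by simpa using hk)) hg1
  · rw [hk]; exact dvd_pow_self _ (Nat.succ_ne_zero k)


/-- Let p ≠ q be primes dividing the order of the finite group G, and suppose the centralizer of every non-identity p-element of G has order prime to q. Then either G has an irreducible character of p-defect zero, or for every non-identity q-element z of G there are conjugates g, h of z such that g h⁻¹ is a non-identity p-element. -/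
theorem result {G : Type*} [Group G] [Finite G] (p q : ℕ) [Fact p.Prime] [Fact q.Prime] (hppq : p ≠ q) (hpG : p ∣ Nat.card G) (hqG : q ∣ Nat.card G) (hC : ∀ g : G, g ≠ 1 → (∃ k : ℕ, orderOf g = p ^ k) → ¬ q ∣ Nat.card ↥(Subgroup.centralizer ({g} : Set G))) : (∃ χ : Cfsg.IrrCharacter G, (Cfsg.charDegree (χ : G → ℂ)).factorization p = (Nat.card G).factorization p) ∨ ∀ z : G, z ≠ 1 → (∃ k : ℕ, orderOf z = q ^ k) → ∃ g h : G, IsConj z g ∧ IsConj z h ∧ g * h⁻¹ ≠ 1 ∧ ∃ k : ℕ, orderOf (g * h⁻¹) = p ^ k := by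
  by_cases hno : ∃ χ : Cfsg.IrrCharacter G,
      (Cfsg.charDegree (χ : G → ℂ)).factorization p = (Nat.card G).factorization p
  · exact Or.inl hno
  refine Or.inr fun z hz1 hzk => ?_
  by_contra hne
  refine hno (defect_zero_of_no_pairs hppq hC z hz1 hzk fun g h hg hh hne1 hk => hne
    ⟨g, h, hg, hh, hne1, hk⟩)

end Cfsg.Agent.S4742
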