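import Cfsg.Statements.S4743
import Cfsg.Agent.S4742

set_option autoImplicit false
open Cfsg

namespace Cfsg.Agent.S4743

open Cfsg.Agent in
theorem defect_zero_of_normal {G : Type*} [Group G] [Finite G] {p q : ℕ} [Fact p.Prime]
    [Fact q.Prime] (hppq : p ≠ q)
    (hC : ∀ g : G, g ≠ 1 → (∃ k : ℕ, orderOf g = p ^ k) →
      ¬ q ∣ Nat.card ↥(Subgroup.centralizer ({g} : Set G)))
    (N : Subgroup G) [N.Normal] (hpN : ¬ p ∣ Nat.card N) (hqN : q ∣ Nat.card N) :
    ∃ χ : Cfsg.IrrCharacter G,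
      (Cfsg.charDegree (χ : G → ℂ)).factorization p = (Nat.card G).factorization p := by
  obtain ⟨⟨z, hz⟩, hzo⟩ := exists_prime_orderOf_dvd_card' q hqN
  rw [Subgroup.orderOf_mk] at hzo
  have hz1 : z ≠ 1 := fun hh => by
    rw [hh, orderOf_one] at hzo; exact (Fact.out : q.Prime).one_lt.ne hzo
  refine S4742.defect_zero_of_no_pairs hppq hC z hz1 ⟨1, by rw [hzo, pow_one]⟩ ?_
  rintro g k hg hk hne ⟨n, hn⟩
  obtain ⟨c, rfl⟩ := isConj_iff.mp hg
  obtain ⟨d, rfl⟩ := isConj_iff.mp hk
  have hmem : c * z * c⁻¹ * (d * z * d⁻¹)⁻¹ ∈ N :=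
    mul_mem (Subgroup.Normal.conj_mem inferInstance z hz c)
      (inv_mem (Subgroup.Normal.conj_mem inferInstance z hz d))
  rcases n with _ | n
  · exact hne (orderOf_eq_one_iff.mp (by simpa using hn))
  · exact hpN ((dvd_pow_self _ (Nat.succ_ne_zero n)).trans
      (hn ▸ Subgroup.orderOf_dvd_natCard _ hmem))

/-- In a `p`-solvable group the first term of the chain with order divisible by `p`. -/
theorem exists_normal_split {G : Type*} [Group G] [Finite G] {p q : ℕ} [Fact p.Prime]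
    [Fact q.Prime] (hppq : p ≠ q) (h : Cfsg.IsPSolvable p G) (hpG : p ∣ Nat.card G) :
    (∃ N : Subgroup G, N.Normal ∧ ¬ q ∣ Nat.card N ∧ p ∣ Nat.card N) ∨
      ∃ N : Subgroup G, N.Normal ∧ ¬ p ∣ Nat.card N ∧ q ∣ Nat.card N := by
  obtain ⟨n, H, h0, hn, hmono, hnorm, hstep⟩ := h
  suffices ∀ i, p ∣ Nat.card (H i) →
      (∃ N : Subgroup G, N.Normal ∧ ¬ q ∣ Nat.card N ∧ p ∣ Nat.card N) ∨
        ∃ N : Subgroup G, N.Normal ∧ ¬ p ∣ Nat.card N ∧ q ∣ Nat.card N from
    this (Fin.last n) (by rwa [hn, Subgroup.card_top])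
  intro i
  induction i using Fin.induction with
  | zero =>
    intro hp0
    rw [h0, Subgroup.card_bot] at hp0
    exact absurd hp0 (Fact.out : p.Prime).not_dvd_one
  | succ i ih =>
    intro hpi
    by_cases hpc : p ∣ Nat.card (H i.castSucc)
    · exact ih hpc
    have hcard : Nat.card (H i.succ) =
        Nat.card (H i.castSucc) * (H i.castSucc).relIndex (H i.succ) := by
      rw [← Subgroup.relIndex_bot_left (H i.succ), ← Subgroup.relIndex_bot_left (H i.castSucc),
        Subgroup.relIndex_mul_relIndex ⊥ _ _ bot_le (hmono (Fin.castSucc_le_succ i))]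
    by_cases hqc : q ∣ Nat.card (H i.castSucc)
    · exact Or.inr ⟨_, hnorm _, hpc, hqc⟩
    refine Or.inl ⟨_, hnorm _, ?_, hpi⟩
    rw [hcard]
    intro hq
    rcases hstep i with ⟨m, hm⟩ | hcop
    · rw [hm] at hq
      rcases (Fact.out : q.Prime).dvd_mul.mp hq with hq | hq
      · exact hqc hq
      · exact hppq.symm ((Nat.prime_dvd_prime_iff_eq Fact.out Fact.out).mp
          ((Fact.out : q.Prime).dvd_of_dvd_pow hq))
    · rw [hcard] at hpi
      rcases (Fact.out : p.Prime).dvd_mul.mp hpi with hpi | hpi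
      · exact hpc hpi
      · exact (Fact.out : p.Prime).not_dvd_one
          (hcop.gcd_eq_one ▸ Nat.dvd_gcd hpi (dvd_refl p))


/-- Let p ≠ q be primes dividing the order of the finite group G, suppose the centralizer of every non-identity p-element has order prime to q, and suppose G is p-solvable or q-solvable. Then G has an irreducible character of p-defect zero or an irreducible character of q-defect zero. -/
theorem result {G : Type*} [Group G] [Finite G] (p q : ℕ) [Fact p.Prime] [Fact q.Prime] (hppq : p ≠ q) (hpG : p ∣ Nat.card G) (hqG : q ∣ Nat.card G) (hC : ∀ g : G, g ≠ 1 → (∃ k : ℕ, orderOf g = p ^ k) → ¬ q ∣ Nat.card ↥(Subgroup.centralizer ({g} : Set G))) (hsolv : Cfsg.IsPSolvable p G ∨ Cfsg.IsPSolvable q G) : (∃ χ : Cfsg.IrrCharacter G, (Cfsg.charDegree (χ : G → ℂ)).factorization p = (Nat.card G).factorization p) ∨ (∃ χ : Cfsg.IrrCharacter G, (Cfsg.charDegree (χ : G → ℂ)).factorization q = (Nat.card G).factorization q) := by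
  have hsym : ∀ g : G, g ≠ 1 → (∃ k : ℕ, orderOf g = q ^ k) →
      ¬ p ∣ Nat.card ↥(Subgroup.centralizer ({g} : Set G)) := S4742.centralizer_symm hC
  have h1 : ∀ N : Subgroup G, N.Normal → ¬ p ∣ Nat.card N → q ∣ Nat.card N →
      ∃ χ : Cfsg.IrrCharacter G,
        (Cfsg.charDegree (χ : G → ℂ)).factorization p = (Nat.card G).factorization p :=
    fun N hN => defect_zero_of_normal hppq hC N
  have h2 : ∀ N : Subgroup G, N.Normal → ¬ q ∣ Nat.card N → p ∣ Nat.card N →
      ∃ χ : Cfsg.IrrCharacter G,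
        (Cfsg.charDegree (χ : G → ℂ)).factorization q = (Nat.card G).factorization q :=
    fun N hN => defect_zero_of_normal hppq.symm hsym N
  rcases hsolv with h | h
  · rcases exists_normal_split hppq h hpG with ⟨N, hN, ha, hb⟩ | ⟨N, hN, ha, hb⟩
    · exact Or.inr (h2 N hN ha hb)
    · exact Or.inl (h1 N hN ha hb)
  · rcases exists_normal_split hppq.symm h hqG with ⟨N, hN, ha, hb⟩ | ⟨N, hN, ha, hb⟩
    · exact Or.inl (h1 N hN ha hb)
    · exact Or.inr (h2 N hN ha hb)

end Cfsg.Agent.S4743
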