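import Cfsg.Statements.S4744
import Cfsg.Agent.Lib.ClassCount.NoTwoP

set_option autoImplicit false
open Cfsg

namespace Cfsg.Agent.S4744

/-- Let p be an odd prime and G a finite group of even order divisible by p in which the centralizer of every non-identity p-element has odd order. Then either G has an irreducible character of p-defect zero, or the normalizer of every Sylow p-subgroup P of G has even order and P is abelian. -/
theorem result {G : Type*} [Group G] [Finite G] (p : ℕ) [Fact p.Prime] (hp2 : p ≠ 2) (hpG : p ∣ Nat.card G) (h2G : 2 ∣ Nat.card G) (hC : ∀ g : G, g ≠ 1 → (∃ k : ℕ, orderOf g = p ^ k) → Odd (Nat.card ↥(Subgroup.centralizer ({g} : Set G)))) : (∃ χ : Cfsg.IrrCharacter G, (Cfsg.charDegree (χ : G → ℂ)).factorization p = (Nat.card G).factorization p) ∨ ∀ P : Sylow p G, Even (Nat.card ↥(Subgroup.normalizer ((P : Subgroup G) : Set G))) ∧ IsMulCommutative ↥(P : Subgroup G) := by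
  by_cases hno : ∃ χ : Cfsg.IrrCharacter G,
      (Cfsg.charDegree (χ : G → ℂ)).factorization p = (Nat.card G).factorization p
  · exact Or.inl hno
  obtain ⟨t, ht⟩ := exists_prime_orderOf_dvd_card' 2 h2G
  refine Or.inr fun P => ?_
  obtain ⟨s, y, hs, -, hsP, -⟩ := ClassCount.sylow_inverted hC hno P ht
  refine ⟨?_, ClassCount.sylow_abelian_of_inverted P hsP⟩
  have hmem : s ∈ Subgroup.normalizer ((P : Subgroup G) : Set G) := by
    rw [Subgroup.mem_normalizer_iff]
    intro z
    refine ⟨fun hz => ?_, fun hz => ?_⟩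
    · rw [hsP z hz]; exact inv_mem hz
    · have h1 := hsP _ hz
      have hss := ClassCount.mul_self_eq_one_of_orderOf hs
      rw [show s * (s * z * s⁻¹) * s⁻¹ = (s * s) * z * (s * s)⁻¹ by group, hss] at h1
      simp only [one_mul, inv_one, mul_one] at h1
      rw [h1]; exact inv_mem hz
  rw [even_iff_two_dvd, ← hs]
  exact Subgroup.orderOf_dvd_natCard _ hmem

end Cfsg.Agent.S4744
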