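import Cfsg.Statements.S4746
import Cfsg.Agent.Lib.ClassCount.NoTwoP

set_option autoImplicit false
open Cfsg

namespace Cfsg.Agent.S4746

open Cfsg.Agent in
/-- A nontrivial real element with centralizer of odd order forces an irreducible character of
even degree. -/
theorem exists_even_degree {G : Type*} [Group G] [Finite G] (y : G) (hy1 : y ≠ 1)
    (hreal : IsConj y y⁻¹) (hodd : Odd (Nat.card ↥(Subgroup.centralizer ({y} : Set G)))) :
    ∃ χ : Cfsg.IrrCharacter G, Even (Cfsg.charDegree (χ : G → ℂ)) := by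
  classical
  have := Fintype.ofFinite G
  have := Fintype.ofFinite (Cfsg.IrrCharacter G)
  by_contra hne
  push Not at hne
  have h1 := Char.sum_degree_mul_apply (G := G) y
  rw [if_neg hy1] at h1
  have h2 := Char.column_orth (G := G) y y
  rw [if_pos (IsConj.refl y)] at h2
  let a : Cfsg.IrrCharacter G → Cfsg.AlgInt := fun χ =>
    ⟨(χ : G → ℂ) y, Char.IsCharacter.isIntegral (Char.IsIrrCharacter.isCharacter χ.2) y⟩
  have hconj : ∀ χ : Cfsg.IrrCharacter G,
      (starRingEnd ℂ) ((χ : G → ℂ) y) = (χ : G → ℂ) y := fun χ => by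
    rw [← Char.IsCharacter.apply_inv (Char.IsIrrCharacter.isCharacter χ.2),
      ClassCount.class_apply (Char.IsIrrCharacter.isClassFunction χ.2) hreal]
  have hsum : ∑ χ, a χ * a χ =
      (Nat.card ↥(Subgroup.centralizer ({y} : Set G)) : Cfsg.AlgInt) := by
    apply Subtype.ext
    push_cast
    rw [← h2]
    exact Finset.sum_congr rfl fun χ _ => by rw [hconj]
  have hlin : ∑ χ : Cfsg.IrrCharacter G, ((Cfsg.charDegree (χ : G → ℂ) : ℕ) : Cfsg.AlgInt) * a χ = 0 := by
    apply Subtype.ext
    push_cast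
    rw [← h1]
    exact Finset.sum_congr rfl fun χ _ => by rw [ClassCount.apply_one_eq_charDegree]
  -- reduction modulo 2
  let I : Ideal Cfsg.AlgInt := Ideal.span {(2 : Cfsg.AlgInt)}
  let π := Ideal.Quotient.mk I
  have h20 : π 2 = 0 := Ideal.Quotient.eq_zero_iff_mem.mpr (Ideal.mem_span_singleton_self _)
  have hoddone : ∀ n : ℕ, Odd n → π (n : Cfsg.AlgInt) = 1 := by
    rintro n ⟨k, rfl⟩
    push_cast
    rw [map_add, map_mul, h20, zero_mul, zero_add, map_one]
  have e1 : ∑ χ, π (a χ) = 0 := by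
    have h := congrArg π hlin
    rw [map_sum, map_zero] at h
    rw [← h]
    exact Finset.sum_congr rfl fun χ _ => by
      rw [map_mul, hoddone _ (Nat.not_even_iff_odd.mp (hne χ)), one_mul]
  have hsq : ∀ s : Finset (Cfsg.IrrCharacter G),
      (∑ χ ∈ s, π (a χ)) ^ 2 = ∑ χ ∈ s, π (a χ) * π (a χ) := by
    intro s
    induction s using Finset.induction_on with
    | empty => simp
    | insert b s hb ih =>
      rw [Finset.sum_insert hb, Finset.sum_insert hb, add_sq, ih]
      have : (2 : Cfsg.AlgInt ⧸ I) = 0 := by rw [← h20, map_ofNat]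
      rw [this]; ring
  have e2 : π (1 : Cfsg.AlgInt) = 0 := by
    rw [map_one, ← hoddone _ hodd, ← hsum, map_sum]
    simp only [map_mul]
    rw [← hsq, e1, zero_pow two_ne_zero]
  have hI : (1 : Cfsg.AlgInt) ∈ I := Ideal.Quotient.eq_zero_iff_mem.mp e2
  obtain ⟨r, hr⟩ := Ideal.mem_span_singleton.mp hI
  have hr' : (2 : ℕ) ∣ 1 := ClassCount.dvd_of_mul_isIntegral r.2 (by
    have := congrArg (fun u : Cfsg.AlgInt => (u : ℂ)) hr
    push_cast at this ⊢
    exact this)
  exact absurd hr' (by norm_num)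


/-- Let p be an odd prime and G a finite group of even order divisible by p in which the centralizer of every non-identity p-element has odd order. Then G has an irreducible character of p-defect zero or an irreducible character of even degree. -/
theorem result {G : Type*} [Group G] [Finite G] (p : ℕ) [Fact p.Prime] (hp2 : p ≠ 2) (hpG : p ∣ Nat.card G) (h2G : 2 ∣ Nat.card G) (hC : ∀ g : G, g ≠ 1 → (∃ k : ℕ, orderOf g = p ^ k) → Odd (Nat.card ↥(Subgroup.centralizer ({g} : Set G)))) : (∃ χ : Cfsg.IrrCharacter G, (Cfsg.charDegree (χ : G → ℂ)).factorization p = (Nat.card G).factorization p) ∨ ∃ χ : Cfsg.IrrCharacter G, Even (Cfsg.charDegree (χ : G → ℂ)) := by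
  by_cases hno : ∃ χ : Cfsg.IrrCharacter G,
      (Cfsg.charDegree (χ : G → ℂ)).factorization p = (Nat.card G).factorization p
  · exact Or.inl hno
  obtain ⟨t, ht⟩ := exists_prime_orderOf_dvd_card' 2 h2G
  obtain ⟨s, y, -, -, hsP, hy, hy1, -⟩ := ClassCount.sylow_inverted hC hno default ht
  obtain ⟨k, hk⟩ := IsPGroup.iff_orderOf.mp (default : Sylow p G).isPGroup' ⟨y, hy⟩
  rw [Subgroup.orderOf_mk] at hk
  exact Or.inr (exists_even_degree y hy1 (isConj_iff.mpr ⟨s, hsP y hy⟩) (hC y hy1 ⟨k, hk⟩))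

end Cfsg.Agent.S4746
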