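import Cfsg.Statements.S4750
import Cfsg.Agent.Lib.BrauerSuzuki.Lattice
import Cfsg.Agent.Lib.CentralChar.Fixed
import Cfsg.Agent.Lib.Char.Realize
import Cfsg.Agent.Lib.Perm.PermModule
import Mathlib.LinearAlgebra.Matrix.Kronecker
import Mathlib.FieldTheory.AlgebraicClosure

set_option autoImplicit false
open scoped Pointwise
open Cfsg

namespace Cfsg.Agent.S4750

open scoped ComplexConjugate Kronecker Pointwise Matrix

section

/-- The valuation subring attached to a maximal ideal above `p`. -/
noncomputable def valRing {p : ℕ} {M : Ideal AlgInt} (hM : IsPModular p M) :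
    ValuationSubring (algebraicClosure ℚ ℂ) :=
  { (Blocks.locRing hM).comap (algebraMap (algebraicClosure ℚ ℂ) ℂ) with
    mem_or_inv_mem' := fun x => by
      have hx : IsAlgebraic ℤ ((x : ℂ)) :=
        (IsFractionRing.isAlgebraic_iff ℤ ℚ ℂ).mpr (mem_algebraicClosure_iff.mp x.2)
      rcases BrauerSuzuki.memR_or_memR_inv hM hx with h | h
      · exact Or.inl h
      · exact Or.inr (show MemLocalRing M ((x⁻¹ : algebraicClosure ℚ ℂ) : ℂ) by simpa using h) }

theorem charP_residue {p : ℕ} [hp : Fact p.Prime] {M : Ideal AlgInt} (hM : IsPModular p M) :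
    CharP (IsLocalRing.ResidueField (valRing hM)) p := by
  refine CharP.charP_iff_prime_eq_zero hp.out |>.mpr ?_
  rw [← map_natCast (IsLocalRing.residue (valRing hM)), IsLocalRing.residue_eq_zero_iff]
  intro hu
  obtain ⟨y, hy⟩ := hu.exists_right_inv
  have h1 : MemLocalRing M ((y : algebraicClosure ℚ ℂ) : ℂ) := y.2
  have h2 := congrArg (fun z : valRing hM => ((z : algebraicClosure ℚ ℂ) : ℂ)) hy
  simp only [MulMemClass.coe_mul, IntermediateField.coe_mul, OneMemClass.coe_one] at h2
  have h3 : MemLocalIdeal M (((p : valRing hM) : algebraicClosure ℚ ℂ) : ℂ) := by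
    simpa using (Blocks.memI_natCast hM).2 dvd_rfl
  have h4 := Blocks.memI_mul_right hM h3 h1
  rw [h2] at h4
  exact Blocks.not_memI_one hM h4

variable {K : Type*} [Field K] {G : Type*} [Group G] [Finite G]

/-- An integral form of a representation. -/
theorem exists_integral_form (V : ValuationSubring K) {d : ℕ} (ρ : G →* Matrix (Fin d) (Fin d) K) :
    ∃ σ : G →* Matrix (Fin d) (Fin d) V, ∀ g, (((σ g).trace : V) : K) = (ρ g).trace := by
  classical
  have := Fintype.ofFinite G
  let v : G × Fin d → Fin d → K := fun s i => ρ s.1 i s.2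
  let B : (Fin d → G × Fin d) → Matrix (Fin d) (Fin d) K := fun s => Matrix.of fun i j => v (s j) i
  obtain ⟨s, -, hs⟩ := Finset.exists_max_image
    (Finset.univ : Finset (Fin d → G × Fin d)) (fun s => V.valuation (B s).det)
    ⟨fun j => (1, j), Finset.mem_univ _⟩
  have hB1 : B (fun j => (1, j)) = 1 := by
    ext i j
    simp [B, v]
  have hdet : (B s).det ≠ 0 := fun h0 => by
    have h1 := hs (fun j => (1, j)) (Finset.mem_univ _)
    rw [hB1, h0, Matrix.det_one, map_one, map_zero] at h1
    exact one_ne_zero (le_zero_iff.mp h1)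
  have hu : IsUnit (B s).det := Ne.isUnit hdet
  have hcol : ∀ t : G × Fin d, ∀ i, ((B s)⁻¹ *ᵥ v t) i ∈ V := fun t i => by
    rw [← V.valuation_le_one_iff, Matrix.inv_def, Matrix.smul_mulVec, ← Matrix.cramer_eq_adjugate_mulVec,
      Pi.smul_apply, smul_eq_mul, Matrix.cramer_apply, Ring.inverse_eq_inv', map_mul, map_inv₀]
    have h1 := hs (Function.update s i t) (Finset.mem_univ _)
    rw [show B (Function.update s i t) = (B s).updateCol i (v t) from by
      ext a b
      by_cases hb : b = i
      · subst hb; simp [B]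
      · simp [B, hb]] at h1
    have h0 : 0 < V.valuation (B s).det := zero_lt_iff.mpr ((Valuation.ne_zero_iff _).mpr hdet)
    rw [inv_mul_le_iff₀ h0, mul_one]
    exact h1
  have hmem : ∀ g i j, ((B s)⁻¹ * ρ g * B s) i j ∈ V := fun g i j => by
    have e : ∀ k, (ρ g * B s) k j = v (g * (s j).1, (s j).2) k := fun k => by
      simp [B, v, Matrix.mul_apply, map_mul]
    rw [mul_assoc, Matrix.mul_apply, Finset.sum_congr rfl fun k _ => by rw [e k]]
    exact hcol _ i
  refine ⟨{ toFun := fun g => Matrix.of fun i j => ⟨_, hmem g i j⟩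
            map_one' := ?_
            map_mul' := fun g h => ?_ }, fun g => ?_⟩
  · refine Matrix.map_injective (f := V.subtype) Subtype.val_injective ?_
    simp only
    rw [Matrix.map_one _ (map_zero _) (map_one _)]
    ext i j
    simp [Matrix.nonsing_inv_mul _ hu]
  · refine Matrix.map_injective (f := V.subtype) Subtype.val_injective ?_
    simp only
    rw [Matrix.map_mul]
    show Matrix.of (fun i j => ((B s)⁻¹ * ρ (g * h) * B s) i j) =
      Matrix.of (fun i j => ((B s)⁻¹ * ρ g * B s) i j) * Matrix.of (fun i j => ((B s)⁻¹ * ρ h * B s) i j)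
    show (B s)⁻¹ * ρ (g * h) * B s = (B s)⁻¹ * ρ g * B s * ((B s)⁻¹ * ρ h * B s)
    rw [map_mul, mul_assoc ((B s)⁻¹ * ρ g), ← mul_assoc (B s) _ (B s), ← mul_assoc (B s),
      Matrix.mul_nonsing_inv _ hu, one_mul]
    simp only [mul_assoc]
  · show V.subtype (Matrix.trace _) = _
    rw [AddMonoidHom.map_trace]
    show ((B s)⁻¹ * ρ g * B s).trace = _
    rw [Matrix.trace_mul_cycle, Matrix.mul_nonsing_inv _ hu, one_mul]

/-- The image of the sum over a `p`-group is spanned by a fixed vector, on a module of dimension at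
most its order. -/
theorem normEl_mem_span {k : Type*} [Field k] {p : ℕ} [Fact p.Prime] [CharP k p] {P : Type*}
    [Group P] [Fintype P] (hP : IsPGroup p P) {W : Type*} [AddCommGroup W] [Module k W]
    [FiniteDimensional k W] (hW : Module.finrank k W ≤ Nat.card P) (τ : P →* Module.End k W)
    {e : W} (he : e ≠ 0) (hfix : ∀ u, τ u e = e) (w : W) :
    ∃ c : k, ∑ u, τ u w = c • e := by
  classical
  let φ : (P → k) →ₗ[k] W := Fintype.linearCombination k fun u => τ u w
  have hφ : ∀ f : P → k, φ f = ∑ u, f u • τ u w := fun f => Fintype.linearCombination_apply k _ f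
  let reg : P →* Module.End k (P → k) :=
    { toFun := fun a => LinearMap.funLeft k k fun u => a⁻¹ * u
      map_one' := by ext f u; simp
      map_mul' := fun a b => by ext f u; simp [mul_assoc] }
  have heq : ∀ a f, φ (reg a f) = τ a (φ f) := fun a f => by
    rw [hφ, hφ, map_sum]
    refine Fintype.sum_equiv (Equiv.mulLeft a⁻¹) _ _ fun u => ?_
    simp only [Equiv.coe_mulLeft, map_smul, ← Module.End.mul_apply, ← map_mul, mul_inv_cancel_left]
    rfl
  have hconst : ∀ f : P → k, (∀ a, reg a f = f) → φ f = f 1 • ∑ u, τ u w := fun f hf => by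
    rw [hφ, Finset.smul_sum]
    refine Finset.sum_congr rfl fun u _ => ?_
    congr 1
    have := congrFun (hf u) u
    simpa [reg] using this.symm
  by_cases hy : ∑ u, τ u w = 0
  · exact ⟨0, by rw [hy, zero_smul]⟩
  have hker : LinearMap.ker φ = ⊥ := by
    by_contra hne
    obtain ⟨f, hf, hf0, hfix'⟩ := Perm.exists_fixed_ne_zero hP reg (LinearMap.ker φ)
      (fun a f hf => by rw [LinearMap.mem_ker, heq, LinearMap.mem_ker.mp hf, map_zero]) hne
    rw [LinearMap.mem_ker, hconst f hfix', smul_eq_zero] at hf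
    refine hf0 (funext fun u => ?_)
    have := congrFun (hfix' u) u
    simp [reg] at this
    rw [Pi.zero_apply, ← this]
    exact hf.resolve_right hy
  have hinj : Function.Injective φ := LinearMap.ker_eq_bot.mp hker
  have hdim : Module.finrank k (P → k) = Module.finrank k W :=
    le_antisymm (LinearMap.finrank_le_finrank_of_injective hinj)
      (by rwa [Module.finrank_pi, ← Nat.card_eq_fintype_card])
  obtain ⟨f, hf⟩ := (LinearMap.injective_iff_surjective_of_finrank_eq_finrank hdim).mp hinj e
  have hff : ∀ a, reg a f = f := fun a => hinj (by rw [heq, hf, hfix])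
  rw [hconst f hff] at hf
  have hf1 : f 1 ≠ 0 := fun h0 => he (by rw [← hf, h0, zero_smul])
  exact ⟨(f 1)⁻¹, by rw [← hf, smul_smul, inv_mul_cancel₀ hf1, one_smul]⟩

/-- Fixed vectors of an overgroup of a TI Sylow normaliser on a small lattice. -/
theorem fixed_of_fixed (V : ValuationSubring K) {p : ℕ} [Fact p.Prime]
    [CharP (IsLocalRing.ResidueField V) p] (P : Sylow p G)
    (hTI : ∀ g : G, g ∉ Subgroup.normalizer ((P : Subgroup G) : Set G) →
      (P : Subgroup G) ⊓ (MulAut.conj g • (P : Subgroup G)) = ⊥)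
    (H : Subgroup G) (hH : Subgroup.normalizer ((P : Subgroup G) : Set G) ≤ H)
    {m : Type*} [Fintype m] [DecidableEq m] (hm : Fintype.card m ≤ Nat.card (P : Subgroup G))
    (σ : G →* Matrix m m V) (e₀ : m → V) (he : ∀ g, σ g *ᵥ e₀ = e₀)
    (he0 : ∃ a, IsLocalRing.residue V (e₀ a) ≠ 0) (w : m → K)
    (hw : ∀ h ∈ H, (σ h).map V.subtype *ᵥ w = w) (g : G) : (σ g).map V.subtype *ᵥ w = w := by
  classical
  have := Fintype.ofFinite G
  have := Fintype.ofFinite (G ⧸ H)
  set r := IsLocalRing.residue V
  let k := IsLocalRing.ResidueField V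
  let T : G →* Matrix m m K := (V.subtype.mapMatrix).toMonoidHom.comp σ
  let Tk : G →* Matrix m m k := (r.mapMatrix).toMonoidHom.comp σ
  let F : (m → K) → G ⧸ H → (m → K) := fun x q => T q.out *ᵥ x
  let Fk : (m → k) → G ⧸ H → (m → k) := fun x q => Tk q.out *ᵥ x
  set n := Nat.card (G ⧸ H) with hn
  have hPH : (P : Subgroup G) ≤ H := Subgroup.le_normalizer.trans hH
  have hnk : (n : k) ≠ 0 := by
    rw [Ne, CharP.cast_eq_zero_iff k p, hn, ← Subgroup.index_eq_card]
    exact fun hd => P.not_dvd_index (hd.trans (Subgroup.index_dvd_of_le hPH))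
  have hnK : (n : K) ≠ 0 := fun h => hnk (by
    have h' : (n : V) = 0 := Subtype.ext (by simpa using h)
    rw [← map_natCast r, h', map_zero])
  have key : ∀ {R : Type _} [CommRing R] (S : G →* Matrix m m R) (x : m → R),
      (∀ h ∈ H, S h *ᵥ x = x) → ∀ g, S g *ᵥ ∑ q : G ⧸ H, S q.out *ᵥ x = ∑ q : G ⧸ H, S q.out *ᵥ x := by
    intro R _ S x hx g
    rw [Matrix.mulVec_sum]
    refine Fintype.sum_equiv (MulAction.toPerm g) _ _ fun q => ?_
    rw [MulAction.toPerm_apply, Matrix.mulVec_mulVec, ← map_mul]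
    obtain ⟨h, hh⟩ : ∃ h ∈ H, (g * q.out) * h = (g • q).out := by
      refine ⟨(g * q.out)⁻¹ * (g • q).out, ?_, mul_inv_cancel_left _ _⟩
      rw [← QuotientGroup.eq, QuotientGroup.out_eq', ← smul_eq_mul, MulAction.Quotient.coe_smul_out]
    rw [← hh.2, map_mul _ (g * q.out), ← Matrix.mulVec_mulVec, hx h hh.1]
  -- vectors killed by the trace
  have hzero : ∀ x : m → K, (∀ h ∈ H, T h *ᵥ x = x) → ∑ q, F x q = 0 → x = 0 := by
    intro x hx hsum
    by_contra hx0
    obtain ⟨a₀, ha₀⟩ : ∃ a, x a ≠ 0 := Function.ne_iff.mp hx0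
    obtain ⟨a, -, ha⟩ := Finset.exists_max_image (Finset.univ : Finset m) (fun a => V.valuation (x a))
      ⟨a₀, Finset.mem_univ _⟩
    have hxa : x a ≠ 0 := fun h0 => by
      have := ha a₀ (Finset.mem_univ _)
      rw [h0, map_zero, le_zero_iff, Valuation.zero_iff] at this
      exact ha₀ this
    have hmem : ∀ b, (x a)⁻¹ * x b ∈ V := fun b => by
      rw [← V.valuation_le_one_iff, map_mul, map_inv₀,
        inv_mul_le_iff₀ (zero_lt_iff.mpr ((Valuation.ne_zero_iff _).mpr hxa)), mul_one]
      exact ha b (Finset.mem_univ _)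
    let y : m → V := fun b => ⟨_, hmem b⟩
    have hyx : (fun b => ((y b : V) : K)) = (x a)⁻¹ • x := funext fun b => rfl
    have hT : ∀ g, T g *ᵥ ((x a)⁻¹ • x) = fun b => (((σ g *ᵥ y) b : V) : K) := fun g => by
      rw [← hyx]
      funext b
      exact (RingHom.map_mulVec V.subtype (σ g) y b).symm
    have hTk : ∀ g, Tk g *ᵥ (fun b => r (y b)) = fun b => r ((σ g *ᵥ y) b) := fun g => by
      funext b
      exact (RingHom.map_mulVec r (σ g) y b).symm
    have hyH : ∀ h ∈ H, σ h *ᵥ y = y := fun h hh => funext fun b => Subtype.ext (by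
      rw [← congrFun (hT h) b, Matrix.mulVec_smul, hx h hh]
      exact (congrFun hyx b).symm)
    have hysum : ∑ q : G ⧸ H, σ q.out *ᵥ y = 0 := funext fun b => Subtype.ext (by
      have h1 : (x a)⁻¹ • ∑ q, F x q = 0 := by rw [hsum, smul_zero]
      rw [Finset.smul_sum, Finset.sum_congr rfl fun q _ => show (x a)⁻¹ • F x q =
        fun b => (((σ q.out *ᵥ y) b : V) : K) by rw [← hT, Matrix.mulVec_smul]] at h1
      have := congrFun h1 b
      rw [Finset.sum_apply] at this ⊢
      show V.subtype _ = _
      rw [map_sum]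
      exact this)
    let z : m → k := fun b => r (y b)
    have hzH : ∀ h ∈ H, Tk h *ᵥ z = z := fun h hh => by
      rw [hTk h]; exact funext fun b => by rw [hyH h hh]
    have hzsum : ∑ q, Fk z q = 0 := by
      rw [Finset.sum_congr rfl fun q _ => hTk (q : G ⧸ H).out]
      funext b
      rw [Finset.sum_apply, ← map_sum, ← Finset.sum_apply b Finset.univ (fun q : G ⧸ H => σ q.out *ᵥ y),
        hysum, Pi.zero_apply, map_zero, Pi.zero_apply]
    let e : m → k := fun b => r (e₀ b)
    have hee : ∀ g, Tk g *ᵥ e = e := fun g => funext fun b => by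
      refine (RingHom.map_mulVec r (σ g) e₀ b).symm.trans ?_
      rw [he g]
    have he1 : e ≠ 0 := fun h0 => by
      obtain ⟨b, hb⟩ := he0
      exact hb (congrFun h0 b)
    -- the part away from `H`
    let q₀ : G ⧸ H := ((1 : G) : G ⧸ H)
    have hout : ∀ q : G ⧸ H, ∀ g : G, (g : G ⧸ H) = q → Tk g *ᵥ z = Fk z q := fun q g hg => by
      obtain ⟨h, hh, hgh⟩ : ∃ h ∈ H, q.out * h = g := ⟨q.out⁻¹ * g,
        QuotientGroup.eq.mp (by rw [QuotientGroup.out_eq', hg]), mul_inv_cancel_left _ _⟩
      rw [← hgh, map_mul, ← Matrix.mulVec_mulVec, hzH h hh]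
    have hq₀ : Fk z q₀ = z := by rw [← hout q₀ 1 rfl, map_one, Matrix.one_mulVec]
    have hstab : ∀ (u : (P : Subgroup G)) (q : G ⧸ H), q ≠ q₀ → u • q = q → u = 1 := by
      intro u q hq hu
      induction q using QuotientGroup.induction_on with
      | H g =>
        have hmem : g⁻¹ * u * g ∈ H := by
          have h1 : ((g : G) : G ⧸ H) = (((u : G) * g : G) : G ⧸ H) := hu.symm
          rw [mul_assoc]
          exact QuotientGroup.eq.mp h1
        by_contra hu1
        have hu1' : (u : G) ≠ 1 := fun h => hu1 (Subtype.ext h)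
        obtain ⟨j, hj⟩ := IsPGroup.iff_orderOf.mp P.2 u
        have hp' : IsPGroup p (Subgroup.zpowers (⟨_, hmem⟩ : H)) := by
          refine IsPGroup.of_card (n := j) ?_
          rw [Nat.card_zpowers, ← Subgroup.orderOf_coe]
          show orderOf (g⁻¹ * (u : G) * g) = _
          rw [← hj, show g⁻¹ * (u : G) * g = MulAut.conj g⁻¹ (u : G) by simp,
            (MulAut.conj g⁻¹).orderOf_eq, Subgroup.orderOf_coe]
        obtain ⟨S, hS⟩ := hp'.exists_le_sylow
        obtain ⟨h, hh⟩ := MulAction.exists_smul_eq H S (P.subtype hPH)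
        have h2 : (h : G) * (g⁻¹ * u * g) * (h : G)⁻¹ ∈ (P : Subgroup G) := by
          have h3 : h * ⟨_, hmem⟩ * h⁻¹ ∈ ((h • S : Sylow p H) : Subgroup H) := by
            rw [Sylow.coe_subgroup_smul]
            exact ⟨_, hS (Subgroup.mem_zpowers _), rfl⟩
          rw [hh, Sylow.coe_subtype, Subgroup.mem_subgroupOf] at h3
          exact h3
        have h4 : g * (h : G)⁻¹ ∈ Subgroup.normalizer ((P : Subgroup G) : Set G) := by
          by_contra hnot
          refine hu1' ?_
          rw [← Subgroup.mem_bot, ← hTI _ hnot]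
          refine ⟨u.2, ?_⟩
          show (u : G) ∈ MulAut.conj (g * (h : G)⁻¹) • (P : Subgroup G)
          rw [Subgroup.mem_pointwise_smul_iff_inv_smul_mem]
          simpa [MulAut.smul_def, mul_assoc] using h2
        apply hq
        refine QuotientGroup.eq.mpr ?_
        simpa using mul_mem (hH h4) h.2
    have hPk : ∀ W : m → k, ∃ c : k, ∑ u : (P : Subgroup G), Tk u *ᵥ W = c • e := fun W => by
      let τ : (P : Subgroup G) →* Module.End k (m → k) :=
        (Matrix.toLinAlgEquiv' (R := k) (n := m)).toMonoidHom.comp (Tk.comp (P : Subgroup G).subtype)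
      obtain ⟨c, hc⟩ := normEl_mem_span P.2 (by rwa [Module.finrank_pi]) τ he1 (fun u => hee u) W
      exact ⟨c, hc⟩
    let S : Set (G ⧸ H) := {q | q ≠ q₀}
    have hq₀fix : ∀ u : (P : Subgroup G), u • q₀ = q₀ := fun u =>
      QuotientGroup.eq.mpr (by simpa using inv_mem (hPH u.2))
    let O := MulAction.orbitRel.Quotient (P : Subgroup G) (G ⧸ H)
    have := Fintype.ofFinite O
    let O' := {o : O // o.out ≠ q₀}
    have hcover : ∀ q : G ⧸ H, ∃ u : (P : Subgroup G), u • (Quotient.mk'' q : O).out = q := fun q => by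
      have : q ∈ MulAction.orbit (P : Subgroup G) (Quotient.mk'' q : O).out :=
        MulAction.orbitRel_apply.mp (Quotient.exact' (Quotient.out_eq' _).symm)
      exact this
    have hbij : Function.Bijective fun t : ↥(P : Subgroup G) × O' =>
        (⟨t.1 • t.2.1.out, fun h => t.2.2 (by
          have := congrArg (fun q => t.1⁻¹ • q) h
          simpa [hq₀fix] using this)⟩ : {q : G ⧸ H // q ≠ q₀}) := by
      constructor
      · rintro ⟨u, o⟩ ⟨u', o'⟩ h
        have h' : u • o.1.out = u' • o'.1.out := congrArg Subtype.val h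
        have ho : o.1 = o'.1 := by
          rw [← Quotient.out_eq' o.1, ← Quotient.out_eq' o'.1]
          refine Quotient.sound' (MulAction.orbitRel_apply.mpr ⟨u⁻¹ * u', ?_⟩)
          show (u⁻¹ * u') • o'.1.out = o.1.out
          rw [mul_smul, ← h', inv_smul_smul]
        obtain rfl : o = o' := Subtype.ext ho
        refine Prod.ext ?_ rfl
        show u = u'
        rw [eq_comm, ← inv_mul_eq_one]
        refine hstab _ _ o.2 ?_
        rw [mul_smul, h', inv_smul_smul]
      · rintro ⟨q, hq⟩
        obtain ⟨u, hu⟩ := hcover q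
        exact ⟨⟨u, ⟨_, fun h => hq (hu.symm.trans ((congrArg (u • ·) h).trans (hq₀fix u)))⟩⟩, Subtype.ext hu⟩
    obtain ⟨c, hc⟩ : ∃ c : k, ∑ q : {q : G ⧸ H // q ≠ q₀}, Fk z q = c • e := by
      rw [← Fintype.sum_bijective _ hbij _ (fun q => Fk z q.1) (fun t => rfl), Fintype.sum_prod_type,
        Finset.sum_comm]
      choose c hc using hPk
      refine ⟨∑ o : O', c (Fk z o.1.out), ?_⟩
      rw [Finset.sum_smul]
      refine Finset.sum_congr rfl fun o _ => ?_
      rw [← hc]
      refine Finset.sum_congr rfl fun u _ => ?_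
      show Fk z (u • o.1.out) = Tk u *ᵥ (Tk o.1.out.out *ᵥ z)
      rw [Matrix.mulVec_mulVec, ← map_mul]
      refine (hout _ _ ?_).symm
      show (((u : G) * o.1.out.out : G) : G ⧸ H) = u • o.1.out
      rw [← smul_eq_mul]
      exact MulAction.Quotient.coe_smul_out _ _ _
    have hz : z = (-c) • e := by
      have h1 : ∑ q, Fk z q = z + c • e := by
        rw [← hc, Fintype.sum_eq_add_sum_subtype_ne _ q₀, hq₀]
      rw [hzsum] at h1
      rw [neg_smul]
      exact eq_neg_of_add_eq_zero_left h1.symm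
    have hc0 : c = 0 := by
      have h1 : ∑ q, Fk z q = ((n : k) * (-c)) • e := by
        rw [Finset.sum_congr rfl fun q _ => show Fk z q = (-c) • e by
          show Tk _ *ᵥ z = _
          rw [hz, Matrix.mulVec_smul, hee], Finset.sum_const, Finset.card_univ, ← Nat.cast_smul_eq_nsmul k,
          smul_smul, hn, Nat.card_eq_fintype_card]
      rw [hzsum, eq_comm, smul_eq_zero, mul_eq_zero, neg_eq_zero] at h1
      exact (h1.resolve_right he1).resolve_left hnk
    have h1 : r (y a) = 0 := by
      have := congrFun hz a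
      simpa [hc0, z] using this
    have h2 : y a = 1 := Subtype.ext (inv_mul_cancel₀ hxa)
    rw [h2, map_one] at h1
    exact one_ne_zero h1
  -- the decomposition
  set U := ∑ q, F w q with hU
  have hUfix : ∀ g, T g *ᵥ U = U := key T w hw
  have hd : w - (n : K)⁻¹ • U = 0 := by
    refine hzero _ (fun h hh => ?_) ?_
    · rw [Matrix.mulVec_sub, Matrix.mulVec_smul, hUfix, show T h *ᵥ w = w from hw h hh]
    · show ∑ q : G ⧸ H, T q.out *ᵥ (w - (n : K)⁻¹ • U) = 0
      rw [Finset.sum_congr rfl fun q _ => by rw [Matrix.mulVec_sub, Matrix.mulVec_smul, hUfix],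
        Finset.sum_sub_distrib, Finset.sum_const, Finset.card_univ, ← Nat.cast_smul_eq_nsmul K, smul_smul,
        ← Nat.card_eq_fintype_card, ← hn, mul_inv_cancel₀ hnK, one_smul, sub_eq_zero]
  rw [sub_eq_zero] at hd
  show T g *ᵥ w = w
  rw [hd, Matrix.mulVec_smul, hUfix]

/-- The conjugation action in coordinates. -/
def conjRep {R : Type*} [CommRing R] {n : Type*} [Fintype n] [DecidableEq n]
    (σ : G →* Matrix n n R) : G →* Matrix (n × n) (n × n) R where
  toFun g := σ g ⊗ₖ (σ g⁻¹)ᵀ
  map_one' := by rw [inv_one, map_one, Matrix.transpose_one, Matrix.one_kronecker_one]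
  map_mul' a b := by
    rw [_root_.mul_inv_rev, map_mul, map_mul, Matrix.transpose_mul, Matrix.mul_kronecker_mul]

theorem trace_conjRep {R : Type*} [CommRing R] {n : Type*} [Fintype n] [DecidableEq n]
    (σ : G →* Matrix n n R) (g : G) : (conjRep σ g).trace = (σ g).trace * (σ g⁻¹).trace := by
  show (σ g ⊗ₖ (σ g⁻¹)ᵀ).trace = _
  rw [Matrix.trace_kronecker, Matrix.trace_transpose]

theorem conjRep_one_vec {R : Type*} [CommRing R] {n : Type*} [Fintype n] [DecidableEq n]
    (σ : G →* Matrix n n R) (g : G) :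
    conjRep σ g *ᵥ (fun a : n × n => if a.1 = a.2 then (1 : R) else 0) =
      fun a : n × n => if a.1 = a.2 then (1 : R) else 0 := by
  funext a
  obtain ⟨i, j⟩ := a
  show ∑ b : n × n, σ g i b.1 * σ g⁻¹ b.2 j * (if b.1 = b.2 then (1 : R) else 0) = _
  rw [Fintype.sum_prod_type]
  simp only [mul_ite, mul_one, mul_zero, Finset.sum_ite_eq, Finset.mem_univ, if_true]
  rw [← Matrix.mul_apply, ← map_mul, mul_inv_cancel, map_one, Matrix.one_apply]

/-- The averaged trace is the dimension of the fixed space. -/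
theorem sum_trace_eq [CharZero K] [Fintype G] {m : Type*} [Fintype m] [DecidableEq m]
    (T : G →* Matrix m m K) :
    (Nat.card G : K)⁻¹ * ∑ g, (T g).trace =
      Module.finrank K (Representation.invariants
        ((Matrix.toLinAlgEquiv' (R := K) (n := m)).toMonoidHom.comp T : Representation K G (m → K))) := by
  haveI : Invertible (Fintype.card G : K) := invertibleOfNonzero (Nat.cast_ne_zero.mpr Fintype.card_ne_zero)
  rw [← (Representation.isProj_averageMap _).trace]
  simp [Representation.averageMap, GroupAlgebra.average, map_sum, Nat.card_eq_fintype_card,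
    ]
  exact Finset.sum_congr rfl fun g _ => (Matrix.trace_toLin'_eq (T g)).symm

end

/-- Let P be a Sylow p-subgroup of the finite group G that meets each conjugate g P g⁻¹ with g outside N_G(P) trivially, χ a character of G with χ(1)² ≤ |P|, and H a subgroup of G containing N_G(P). Then the inner product of χ with itself over G equals the inner product over H of the restriction of χ to H. -/
theorem result {G : Type*} [Group G] [Fintype G] [DecidableEq G] (p : ℕ) [Fact p.Prime] (P : Sylow p G) (hTI : ∀ g : G, g ∉ Subgroup.normalizer ((P : Subgroup G) : Set G) → (P : Subgroup G) ⊓ (MulAut.conj g • (P : Subgroup G)) = ⊥) (χ : G → ℂ) (hχ : Cfsg.IsCharacter G χ) (hdeg : Cfsg.charDegree χ ^ 2 ≤ Nat.card ↥(P : Subgroup G)) (H : Subgroup G) [Fintype ↥H] (hH : Subgroup.normalizer ((P : Subgroup G) : Set G) ≤ H) : Cfsg.classInner χ χ = Cfsg.classInner (fun h : ↥H => χ h) (fun h : ↥H => χ h) := by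
  classical
  obtain ⟨M, hM⟩ := CentralChar.exists_pModular p
  haveI := charP_residue hM
  set K := algebraicClosure ℚ ℂ
  obtain ⟨d, ρ, hρ⟩ := Char.isKChar_of_exponent_roots (K := K) (fun z hz => by
    refine ⟨⟨z, mem_algebraicClosure_iff.mpr ?_⟩, rfl⟩
    exact (IsIntegral.isAlgebraic (R := ℚ) (IsIntegral.of_pow (Monoid.exponent_pos.mpr
      Monoid.ExponentExists.of_finite) (by rw [hz]; exact isIntegral_one)))) hχ
  obtain ⟨σ, hσ⟩ := exists_integral_form (valRing hM)
    ((LinearMap.toMatrixAlgEquiv' (R := K) (n := Fin d)).toMonoidHom.comp ρ)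
  have hd : charDegree χ = d := by
    rw [charDegree, hρ, Representation.char_one, Module.finrank_fin_fun, map_natCast]
    simp
  let T : G →* Matrix (Fin d × Fin d) (Fin d × Fin d) K :=
    ((valRing hM).subtype.mapMatrix).toMonoidHom.comp (conjRep σ)
  have hT : ∀ g, algebraMap K ℂ (T g).trace = χ g * conj (χ g) := fun g => by
    show algebraMap K ℂ (((conjRep σ g).map (valRing hM).subtype).trace) = _
    rw [← AddMonoidHom.map_trace, trace_conjRep, map_mul, ← Char.IsCharacter.apply_inv hχ, hρ g, hρ g⁻¹]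
    simp only [map_mul]
    have e : ∀ x, algebraMap K ℂ (ρ.character x) =
        algebraMap K ℂ ((valRing hM).subtype (σ x).trace) := fun x => by
      rw [show (valRing hM).subtype (σ x).trace = _ from hσ x]
      simp [Representation.character, LinearMap.trace_eq_matrix_trace K (Pi.basisFun K (Fin d)),
        LinearMap.toMatrix_eq_toMatrix']
      rfl
    rw [e, e]
  let TH : H →* Matrix (Fin d × Fin d) (Fin d × Fin d) K := T.comp H.subtype
  have h1 := congrArg (algebraMap K ℂ) (sum_trace_eq T)
  have h2 := congrArg (algebraMap K ℂ) (sum_trace_eq TH)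
  simp only [map_mul, map_inv₀, map_natCast, map_sum, hT] at h1
  simp only [map_mul, map_inv₀, map_natCast, map_sum, TH, MonoidHom.comp_apply, Subgroup.coe_subtype, hT] at h2
  rw [classInner, classInner, h1, h2]
  congr 1
  refine congrArg (fun W : Submodule K (Fin d × Fin d → K) => Module.finrank K W) ?_
  refine le_antisymm (fun w hw h => hw h) fun w hw g => ?_
  rcases Nat.eq_zero_or_pos d with hd0 | hd0
  · funext a
    exact absurd a.1.2 (by omega)
  refine fixed_of_fixed (valRing hM) P hTI H hH ?_ (conjRep σ)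
    (fun a => if a.1 = a.2 then 1 else 0) (conjRep_one_vec σ) ⟨(⟨0, hd0⟩, ⟨0, hd0⟩), by simp⟩ w
    (fun h hh => hw ⟨h, hh⟩) g
  rw [Fintype.card_prod, Fintype.card_fin, ← pow_two, ← hd]
  exact hdeg

end Cfsg.Agent.S4750
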