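import Cfsg.Statements.S4751
import Cfsg.Agent.Lib.CharApp.Clifford
import Cfsg.Agent.Lib.Char.Linear
import Cfsg.Agent.Lib.Char.Integral
import Cfsg.Agent.Lib.Cores.Basic

set_option autoImplicit false
open Cfsg

namespace Cfsg.Agent.S4751

open scoped ComplexConjugate commutatorElement

section

variable {p : ℕ} [hp : Fact p.Prime] {G : Type*} [Group G] [Finite G]

/-- Two conjugate characters of a normal subgroup, as functions on the elements. -/
theorem exists_conj_of_constituents (P : Subgroup G) [P.Normal] [Fintype G] [Fintype P] (χ : IrrCharacter G)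
    {θ η : P → ℂ} (hθ : IsIrrCharacter P θ) (hη : IsIrrCharacter P η)
    (h1 : classInner (fun x : P => (χ : G → ℂ) x) θ ≠ 0)
    (h2 : classInner (fun x : P => (χ : G → ℂ) x) η ≠ 0) :
    ∃ g : G, η = CliffordChar.conjFun P g θ := by
  by_contra hcon
  push Not at hcon
  apply h2
  rw [CliffordChar.restrict_eq P χ.2 hθ h1, Char.classInner_smul_left]
  refine mul_eq_zero_of_right _ ?_
  rw [CliffordChar.orbitSum, Char.classInner_sum_left]
  exact Finset.sum_eq_zero fun g _ => Char.classInner_irr_of_ne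
    (CliffordChar.isIrr_conjFun P g hθ) hη fun e => hcon g e.symm

/-- The norm of a restriction in terms of one constituent. -/
theorem norm_restrict (P : Subgroup G) [P.Normal] [Fintype G] [Fintype P] (χ : IrrCharacter G)
    {θ : P → ℂ} (hθ : IsIrrCharacter P θ) {m : ℕ}
    (hm : classInner (fun x : P => (χ : G → ℂ) x) θ = m) (hm0 : m ≠ 0) :
    classInner (fun x : P => (χ : G → ℂ) x) (fun x : P => (χ : G → ℂ) x) =
      (m : ℂ) * m * ((CharApp.inertia P θ).index : ℂ) := by
  have hne : classInner (fun x : P => (χ : G → ℂ) x) θ ≠ 0 := by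
    rw [hm]; exact Nat.cast_ne_zero.mpr hm0
  conv_lhs => arg 1; rw [CliffordChar.restrict_eq P χ.2 hθ hne]
  rw [Char.classInner_smul_left, CharApp.classInner_orbitSum_self P hθ, CliffordChar.orbitSum,
    Char.classInner_sum_left, Finset.sum_congr rfl fun g _ => show
      classInner (CliffordChar.conjFun P g θ) (fun x : P => (χ : G → ℂ) x) = (m : ℂ) by
        rw [← Char.classInner_conj_symm, CliffordChar.classInner_restrict_conjFun P
          (Char.IsIrrCharacter.isClassFunction χ.2), hm, Complex.conj_natCast],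
    Finset.sum_const, Finset.card_univ, nsmul_eq_mul, hm, ← Nat.card_eq_fintype_card,
    CharApp.card_eq_index_mul (CharApp.inertia P θ)]
  have : (Nat.card (CharApp.inertia P θ) : ℂ) ≠ 0 := Nat.cast_ne_zero.mpr Nat.card_pos.ne'
  field_simp

/-- The sum of squares over the restriction. -/
theorem card_mul_norm (P : Subgroup G) [Fintype P] (f : P → ℂ) (h : ∀ x : P, x ≠ 1 → ‖f x‖ = 1) :
    (Nat.card P : ℂ) * classInner f f = f 1 * conj (f 1) + ((Nat.card P : ℂ) - 1) := by
  classical
  rw [Char.card_mul_classInner, ← Finset.add_sum_erase _ _ (Finset.mem_univ (1 : P)),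
    Finset.sum_congr rfl fun x hx => show f x * conj (f x) = (1 : ℂ) by
      rw [Complex.mul_conj, Complex.normSq_eq_norm_sq, h x (Finset.ne_of_mem_erase hx)]; simp,
    Finset.sum_const, Finset.card_erase_of_mem (Finset.mem_univ _), Finset.card_univ,
    Nat.card_eq_fintype_card, nsmul_eq_mul, mul_one, Nat.cast_sub Fintype.card_pos, Nat.cast_one]

/-- The conclusions about the restriction to the `p`-core. -/
structure Shape (P : Subgroup G) [Fintype P] (χ : IrrCharacter G) : Prop where
  deg : (χ : G → ℂ) 1 = (Nat.card P : ℂ) - 1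
  three : 2 < Nat.card P
  comm : ∀ a b : P, a * b = b * a
  one : classInner (fun x : P => (χ : G → ℂ) x) 1 = 0
  mult : ∀ θ : IrrCharacter P, (θ : P → ℂ) ≠ 1 →
    classInner (fun x : P => (χ : G → ℂ) x) (θ : P → ℂ) = 1
  pow : ∀ x : P, x ^ p = 1

theorem shape [Fintype G] (χ : IrrCharacter G)
    (hfaith : ∀ g : G, (χ : G → ℂ) g = (χ : G → ℂ) 1 → g = 1) (hnl : (χ : G → ℂ) 1 ≠ 1)
    (hroot : ∀ g : G, p ∣ orderOf g → ‖(χ : G → ℂ) g‖ = 1) (P : Subgroup G) [P.Normal] [Fintype P]
    (hPp : IsPGroup p P) (hP : P ≠ ⊥) : Shape (p := p) P χ := by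
  classical
  have := Fintype.ofFinite (IrrCharacter P)
  have hres := Char.IsCharacter.restrict (Char.IsIrrCharacter.isCharacter χ.2) P
  obtain ⟨d, -, hd⟩ := Char.IsIrrCharacter.exists_degree χ.2
  have hN1 : 1 < Nat.card P := P.one_lt_card_iff_ne_bot.mpr hP
  obtain ⟨u, hu⟩ := hPp.exists_card_eq
  have hu0 : u ≠ 0 := fun h => by rw [h, pow_zero] at hu; omega
  have hord : ∀ x : P, x ≠ 1 → p ∣ orderOf (x : G) := fun x hx => by
    obtain ⟨j, hj⟩ := IsPGroup.iff_orderOf.mp hPp x
    rw [Subgroup.orderOf_coe, hj]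
    refine dvd_pow_self p fun h0 => hx ?_
    rw [h0, pow_zero, orderOf_eq_one_iff] at hj
    exact hj
  have hnorm := card_mul_norm P (fun x : P => (χ : G → ℂ) x) fun x hx => hroot _ (hord x hx)
  simp only [OneMemClass.coe_one, hd, Complex.conj_natCast] at hnorm
  -- each constituent
  have key : ∀ θ : IrrCharacter P, ∀ m : ℕ, classInner (fun x : P => (χ : G → ℂ) x) (θ : P → ℂ) = m →
      m ≠ 0 → (θ : P → ℂ) 1 = 1 ∧ m = 1 ∧ d + 1 = Nat.card P := by
    intro θ m hm hm0
    obtain ⟨a, ha0, ha, hadvd⟩ := Char.IsIrrCharacter.degree_dvd_card θ.2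
    set t := (CharApp.inertia P (θ : P → ℂ)).index with ht
    have ht0 : t ≠ 0 := Subgroup.index_ne_zero_of_finite
    have hdeg := CharApp.restrict_degree P χ.2 θ.2 (by rw [hm]; exact Nat.cast_ne_zero.mpr hm0)
    rw [hd, hm, ha, ← ht] at hdeg
    have hd' : d = m * t * a := by exact_mod_cast hdeg
    have h2 := norm_restrict P χ θ.2 hm hm0
    rw [h2, ← ht] at hnorm
    have heq : Nat.card P * (m * m * t) + 1 = d * d + Nat.card P := by
      have : ((Nat.card P * (m * m * t) + 1 : ℕ) : ℂ) = ((d * d + Nat.card P : ℕ) : ℂ) := by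
        push_cast; rw [hnorm]; ring
      exact_mod_cast this
    obtain ⟨i, -, hi⟩ := (Nat.dvd_prime_pow hp.out).mp (hu ▸ hadvd)
    have hi0 : i = 0 := by
      by_contra h0
      have hpa : p ∣ d * d := Dvd.dvd.mul_left (hd' ▸ Dvd.dvd.mul_left (hi ▸ dvd_pow_self p h0) _) _
      have h1 : p ∣ Nat.card P * (m * m * t) + 1 :=
        heq ▸ dvd_add hpa (hu ▸ dvd_pow_self p hu0)
      have h3 : p ∣ Nat.card P * (m * m * t) := Dvd.dvd.mul_right (hu ▸ dvd_pow_self p hu0) _
      exact hp.out.not_dvd_one ((Nat.dvd_add_right h3).mp h1)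
    subst hi0
    rw [pow_zero] at hi
    subst hi
    rw [mul_one] at hd'
    subst hd'
    have hz : (m : ℤ) * m * t * ((Nat.card P : ℤ) - t) = (Nat.card P : ℤ) - 1 := by
      have : (Nat.card P : ℤ) * (m * m * t) + 1 = (m * t : ℕ) * (m * t : ℕ) + Nat.card P := by
        exact_mod_cast heq
      push_cast at this
      linear_combination this
    have hNt : (t : ℤ) < Nat.card P := by
      by_contra hle
      have h0 : (m : ℤ) * m * t * ((Nat.card P : ℤ) - t) ≤ 0 :=
        mul_nonpos_of_nonneg_of_nonpos (by positivity) (by omega)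
      omega
    have hge : (t : ℤ) * ((Nat.card P : ℤ) - t) = (Nat.card P : ℤ) - 1 + ((t : ℤ) - 1) * ((Nat.card P : ℤ) - 1 - t) := by
      ring
    have hpos : 0 ≤ ((t : ℤ) - 1) * ((Nat.card P : ℤ) - 1 - t) := mul_nonneg (by omega) (by omega)
    have hm2 : (1 : ℤ) ≤ (m : ℤ) * m := by
      have : 1 ≤ m * m := Nat.one_le_iff_ne_zero.mpr (mul_ne_zero hm0 hm0)
      exact_mod_cast this
    have hm1 : m = 1 := by
      by_contra hm1
      have : (2 : ℤ) ≤ (m : ℤ) * m := by
        have : 2 ≤ m * m := le_trans (by omega : 2 ≤ m) (Nat.le_mul_self m)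
        exact_mod_cast this
      nlinarith
    subst hm1
    have h0 : ((t : ℤ) - 1) * ((Nat.card P : ℤ) - 1 - t) = 0 := by
      push_cast at hz; linarith
    refine ⟨by rw [ha, Nat.cast_one], rfl, ?_⟩
    rcases mul_eq_zero.mp h0 with h | h
    · exfalso
      apply hnl
      rw [hd, show 1 * t = 1 by omega, Nat.cast_one]
    · omega
  choose m hm using fun θ : IrrCharacter P =>
    Char.IsCharacter.classInner_nat hres (Char.IsIrrCharacter.isCharacter θ.2)
  have hexp : ∀ x : P, (χ : G → ℂ) x = ∑ θ : IrrCharacter P, (m θ : ℂ) * (θ : P → ℂ) x := fun x => by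
    have := congrFun (Char.classFunction_eq_sum (Char.IsCharacter.isClassFunction hres)) x
    rw [this]
    simp [Finset.sum_apply, hm]
  obtain ⟨θ₀, hθ₀⟩ : ∃ θ : IrrCharacter P, m θ ≠ 0 := by
    by_contra h
    push Not at h
    have h1 := hexp 1
    simp [h] at h1
    exact Char.IsIrrCharacter.apply_one_ne_zero χ.2 h1
  have hdN := (key θ₀ _ (hm θ₀) hθ₀).2.2
  have hlin : ∀ θ, m θ ≠ 0 → (θ : P → ℂ) 1 = 1 := fun θ h => (key θ _ (hm θ) h).1
  have hm01 : ∀ θ, m θ ≤ 1 := fun θ => by
    by_cases h : m θ = 0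
    · omega
    · exact le_of_eq (key θ _ (hm θ) h).2.1
  have hker : ∀ x : P, (∀ θ, m θ ≠ 0 → (θ : P → ℂ) x = 1) → x = 1 := fun x h => by
    refine Subtype.ext (hfaith _ ?_)
    rw [hexp x, ← OneMemClass.coe_one P, hexp 1]
    refine Finset.sum_congr rfl fun θ _ => ?_
    by_cases h' : m θ = 0
    · simp [h']
    · rw [h θ h', hlin θ h']
  have hcomm : ∀ a b : P, a * b = b * a := fun a b => by
    rw [← mul_inv_eq_one]
    refine hker _ fun θ h => ?_
    obtain ⟨l, hl⟩ := Char.exists_hom_of_degree_one (Char.IsIrrCharacter.isCharacter θ.2) (hlin θ h)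
    rw [← hl, mul_inv_rev, map_mul, map_mul, map_mul, mul_mul_mul_comm, ← map_mul, ← map_mul,
      mul_inv_cancel, mul_inv_cancel, map_one, one_mul]
  have hone : classInner (fun x : P => (χ : G → ℂ) x) 1 = 0 := by
    by_contra h
    refine hP ((Subgroup.eq_bot_iff_forall _).mpr fun x hx => hfaith x ?_)
    exact CharApp.trivOn_of_constituent_one P χ.2 h ⟨x, hx⟩
  have hall : ∀ θ : IrrCharacter P, (θ : P → ℂ) ≠ 1 → m θ = 1 := by
    intro θ hθ
    by_contra h
    have hθ0 : m θ = 0 := by have := hm01 θ; omega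
    set e : IrrCharacter P := ⟨1, Char.isIrrCharacter_one⟩
    have he : m e = 0 := by
      have := hone
      rw [show (1 : P → ℂ) = (e : P → ℂ) from rfl, hm e] at this
      exact_mod_cast this
    have hne : θ ≠ e := fun h' => hθ (congrArg Subtype.val h')
    have hsum : ∑ φ : IrrCharacter P, m φ = d := by
      have h1 := hexp 1
      rw [OneMemClass.coe_one, hd] at h1
      have h2 : (d : ℂ) = ((∑ φ : IrrCharacter P, m φ : ℕ) : ℂ) := by
        rw [h1]
        push_cast
        refine Finset.sum_congr rfl fun φ _ => ?_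
        rw [Char.apply_one_eq_one_of_comm hcomm φ, mul_one]
      exact_mod_cast h2.symm
    have hcard : Fintype.card (IrrCharacter P) = Nat.card P := by
      rw [← Nat.card_eq_fintype_card, Char.card_irr_eq_card_conjClasses,
        Char.card_conjClasses_of_comm hcomm]
    have : ∑ φ : IrrCharacter P, m φ ≤ ∑ φ ∈ (Finset.univ.erase e).erase θ, 1 := by
      rw [← Finset.sum_erase Finset.univ he, ← Finset.sum_erase (Finset.univ.erase e) hθ0]
      exact Finset.sum_le_sum fun φ _ => hm01 φ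
    rw [Finset.sum_const, smul_eq_mul, mul_one, Finset.card_erase_of_mem (by simp [hne]),
      Finset.card_erase_of_mem (Finset.mem_univ _), Finset.card_univ, hsum, hcard] at this
    omega
  have h3 : 2 < Nat.card P := by
    rcases Nat.lt_or_ge 2 (Nat.card P) with h | h
    · exact h
    · exfalso; apply hnl; rw [hd, show d = 1 by omega, Nat.cast_one]
  refine ⟨?_, h3, hcomm, hone, fun θ hθ => by rw [hm, hall θ hθ, Nat.cast_one], ?_⟩
  · rw [hd, ← hdN]; push_cast; ring
  -- exponent `p`
  obtain ⟨l₀, hl₀⟩ := Char.exists_hom_of_degree_one (Char.IsIrrCharacter.isCharacter θ₀.2) (hlin θ₀ hθ₀)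
  have hl₀ne : ∃ x : P, l₀ x ≠ 1 := by
    by_contra h
    push Not at h
    refine hθ₀ ?_
    have h1 : (θ₀ : P → ℂ) = 1 := funext fun x => by rw [← hl₀]; exact h x
    have := hone
    rw [← h1, hm θ₀] at this
    exact_mod_cast this
  have hex : ∃ j : ℕ, ∀ x : P, l₀ x ^ p ^ j = 1 := ⟨u, fun x => by
    rw [← map_pow, ← hu, pow_card_eq_one', map_one]⟩
  set j := Nat.find hex with hj
  have hj0 : j ≠ 0 := fun h0 => by
    obtain ⟨x, hx⟩ := hl₀ne
    have := Nat.find_spec hex x
    rw [← hj, h0, pow_zero, pow_one] at this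
    exact hx this
  set k : P →* ℂ := (powMonoidHom (p ^ (j - 1))).comp l₀ with hk
  have hk1 : ∃ x : P, k x ≠ 1 := by
    by_contra h
    push Not at h
    exact Nat.find_min hex (show j - 1 < Nat.find hex by rw [← hj]; omega) h
  have hkp : ∀ x : P, k x ^ p = 1 := fun x => by
    have := Nat.find_spec hex x
    rw [← hj] at this
    rw [hk, MonoidHom.comp_apply, powMonoidHom_apply, ← pow_mul, ← pow_succ, Nat.sub_add_cancel (by omega)]
    exact this
  intro x
  refine hker _ fun θ h => ?_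
  have hk' : classInner (fun x : P => (χ : G → ℂ) x) (k : P → ℂ) ≠ 0 := by
    have := hall ⟨k, Char.isIrrCharacter_of_hom k⟩ (fun e => by
      obtain ⟨y, hy⟩ := hk1
      exact hy (congrFun e y))
    rw [hm ⟨k, Char.isIrrCharacter_of_hom k⟩, this]
    simp
  obtain ⟨g, hg⟩ := exists_conj_of_constituents P χ (Char.isIrrCharacter_of_hom k) θ.2 hk'
    (by rw [hm θ]; exact Nat.cast_ne_zero.mpr h)
  rw [hg]
  show k (MulAut.conjNormal g⁻¹ (x ^ p)) = 1
  rw [map_pow, map_pow, hkp]

/-- The value of a coset sum against a linear character. -/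
theorem coset_coeff [Fintype G] {χ : G → ℂ} (hχ : IsCharacter G χ) (P : Subgroup G) [P.Normal]
    [Fintype P] (l : P →* ℂ) (g : G) :
    (classInner (fun x : P => χ x) l = 0 → classInner (fun x : P => χ (g * x)) l = 0) ∧
      (classInner (fun x : P => χ x) l = 1 → (∀ x : P, l (MulAut.conjNormal g⁻¹ x) = l x) →
        ‖classInner (fun x : P => χ (g * x)) l‖ = 1) := by
  classical
  obtain ⟨n, ρ, rfl⟩ := hχ
  have hl : ∀ x : P, conj (l x) = l x⁻¹ := fun x =>
    (Char.IsCharacter.apply_inv (Char.isCharacter_of_hom l) x).symm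
  set E : (Fin n → ℂ) →ₗ[ℂ] (Fin n → ℂ) :=
    (Nat.card P : ℂ)⁻¹ • ∑ x : P, l x⁻¹ • ρ (x : G) with hE
  have htr : ∀ h : G, LinearMap.trace ℂ _ (ρ h ∘ₗ E) =
      classInner (fun x : P => ρ.character (h * x)) l := fun h => by
    rw [hE, ← Module.End.mul_eq_comp, mul_smul_comm, map_smul, Finset.mul_sum, map_sum, classInner,
      smul_eq_mul]
    congr 1
    refine Finset.sum_congr rfl fun x _ => ?_
    rw [mul_smul_comm, map_smul, smul_eq_mul, hl, mul_comm, ← map_mul]
    rfl
  have hl1 : ∀ x : P, l x⁻¹ * l x = 1 := fun x => by rw [← map_mul, inv_mul_cancel, map_one]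
  let F : Submodule ℂ (Fin n → ℂ) :=
    { carrier := {v | ∀ x : P, ρ (x : G) v = l x • v}
      add_mem' := fun {a b} ha hb x => by rw [map_add, ha x, hb x, smul_add]
      zero_mem' := fun x => by rw [map_zero, smul_zero]
      smul_mem' := fun c {a} ha x => by rw [map_smul, ha x, smul_comm] }
  have hEapp : ∀ v, E v = (Nat.card P : ℂ)⁻¹ • ∑ x : P, l x⁻¹ • ρ (x : G) v := fun v => by
    simp [hE, LinearMap.sum_apply]
  have hproj : LinearMap.IsProj F E := by
    refine ⟨fun v y => ?_, fun v hv => ?_⟩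
    · rw [hEapp, map_smul, map_sum, smul_comm (l y)]
      congr 1
      rw [Finset.smul_sum]
      refine Fintype.sum_equiv (Equiv.mulLeft y) _ _ fun x => ?_
      rw [map_smul, Equiv.coe_mulLeft, smul_smul, mul_inv_rev, map_mul, Subgroup.coe_mul, map_mul,
        mul_comm (l y), mul_assoc, hl1, mul_one]
      rfl
    · rw [hEapp, Finset.sum_congr rfl fun x _ => show l x⁻¹ • ρ (x : G) v = v by
        rw [hv x, smul_smul, hl1, one_smul], Finset.sum_const, Finset.card_univ,
        ← Nat.cast_smul_eq_nsmul ℂ, smul_smul, Nat.card_eq_fintype_card,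
        inv_mul_cancel₀ (Nat.cast_ne_zero.mpr Fintype.card_ne_zero), one_smul]
  have hfin : (Module.finrank ℂ F : ℂ) = classInner (fun x : P => ρ.character (x : G)) l := by
    rw [← hproj.trace, show E = ρ 1 ∘ₗ E by rw [map_one]; rfl, htr]
    simp
  constructor
  · intro h0
    rw [h0, Nat.cast_eq_zero] at hfin
    have hF := Submodule.finrank_eq_zero.mp hfin
    have : E = 0 := LinearMap.ext fun v => by
      have := hproj.map_mem v
      rw [hF, Submodule.mem_bot] at this
      simpa using this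
    rw [← htr, this, LinearMap.comp_zero, map_zero]
  · intro h1 hfix
    rw [h1, Nat.cast_eq_one] at hfin
    obtain ⟨v, hv0, hv⟩ := finrank_eq_one_iff'.mp hfin
    have hg : ∀ w ∈ F, ρ g w ∈ F := fun w hw x => by
      have e : (x : G) * g = g * ((MulAut.conjNormal g⁻¹ x : P) : G) := by simp; group
      rw [← Module.End.mul_apply, ← map_mul, e, map_mul, Module.End.mul_apply,
        hw (MulAut.conjNormal g⁻¹ x), map_smul, hfix]
    obtain ⟨a, ha⟩ := hv ⟨ρ g v, hg v v.2⟩
    have ha' : ρ g (v : Fin n → ℂ) = a • (v : Fin n → ℂ) := (congrArg Subtype.val ha).symm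
    have hk : ∀ k : ℕ, ρ (g ^ k) (v : Fin n → ℂ) = a ^ k • (v : Fin n → ℂ) := by
      intro k
      induction k with
      | zero => simp
      | succ k ih => rw [pow_succ, map_mul, Module.End.mul_apply, ha', map_smul, ih, smul_smul, pow_succ']
    have hcomp : ρ g ∘ₗ E = a • E := LinearMap.ext fun w => by
      obtain ⟨b, hb⟩ := hv ⟨E w, hproj.map_mem w⟩
      have hb' : E w = b • (v : Fin n → ℂ) := (congrArg Subtype.val hb).symm
      rw [LinearMap.comp_apply, hb', map_smul, ha', show (a • E) w = a • E w from rfl, hb', smul_comm]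
    rw [← htr, hcomp, map_smul, hproj.trace, hfin, Nat.cast_one, smul_eq_mul, mul_one]
    refine Complex.norm_eq_one_of_pow_eq_one (n := orderOf g) ?_ (orderOf_pos g).ne'
    have := hk (orderOf g)
    rw [pow_orderOf_eq_one, map_one, Module.End.one_apply] at this
    by_contra hne
    have h2 : (a ^ orderOf g - 1) • (v : Fin n → ℂ) = 0 := by rw [sub_smul, one_smul, ← this, sub_self]
    exact hv0 (Subtype.ext ((smul_eq_zero.mp h2).resolve_left (sub_ne_zero.mpr hne)))

/-- The characters of the core fixed by `g`. -/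
noncomputable def fixedSet (P : Subgroup G) [P.Normal] (g : G) [Fintype (IrrCharacter P)] :
    Finset (IrrCharacter P) :=
  haveI := Classical.dec
  Finset.univ.filter fun θ => (θ : P → ℂ) ≠ 1 ∧ ∀ x : P, (θ : P → ℂ) (MulAut.conjNormal g⁻¹ x) = (θ : P → ℂ) x

theorem norm_coset [Fintype G] (χ : IrrCharacter G) (P : Subgroup G) [P.Normal] [Fintype P]
    [Fintype (IrrCharacter P)] (hS : Shape (p := p) P χ) (g : G) :
    classInner (fun x : P => (χ : G → ℂ) (g * x)) (fun x : P => (χ : G → ℂ) (g * x)) =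
      ((fixedSet P g).card : ℂ) := by
  classical
  have hcl : IsClassFunction P (fun x : P => (χ : G → ℂ) (g * x)) := fun x y => by
    rw [hS.comm y, mul_inv_cancel_right]
  have hchar := Char.IsIrrCharacter.isCharacter χ.2
  rw [Char.classInner_eq_sum hcl, fixedSet, Finset.card_filter, Nat.cast_sum]
  refine Finset.sum_congr rfl fun θ _ => ?_
  obtain ⟨l, hl⟩ := Char.exists_hom_of_degree_one (Char.IsIrrCharacter.isCharacter θ.2)
    (Char.apply_one_eq_one_of_comm hS.comm θ)
  have hco := coset_coeff hchar P l g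
  rw [hl] at hco
  by_cases hθ : (θ : P → ℂ) = 1
  · rw [if_neg (fun h => h.1 hθ), hco.1 (by rw [hθ]; exact hS.one)]
    simp
  by_cases hfix : ∀ x : P, (θ : P → ℂ) (MulAut.conjNormal g⁻¹ x) = (θ : P → ℂ) x
  · rw [if_pos ⟨hθ, hfix⟩]
    have h1 := hco.2 (hS.mult θ hθ) hfix
    rw [Complex.mul_conj, Complex.normSq_eq_norm_sq, h1]
    simp
  · rw [if_neg (fun h => hfix h.2)]
    push Not at hfix
    obtain ⟨y, hy⟩ := hfix
    set x₀ : P := MulAut.conjNormal g⁻¹ y * y⁻¹ with hx₀
    have hinv : ∀ x : P, (χ : G → ℂ) (g * ((x₀ * x : P) : G)) = (χ : G → ℂ) (g * x) := fun x => by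
      have h2 := Char.IsIrrCharacter.isClassFunction χ.2 (g * x) (y : G)
      rw [← h2]
      congr 1
      have e : ((x₀ * x : P) : G) = g⁻¹ * y * g * x * (y : G)⁻¹ := by
        have hc : x₀ * x = MulAut.conjNormal g⁻¹ y * x * y⁻¹ := by
          rw [hx₀, mul_assoc, hS.comm y⁻¹ x, mul_assoc]
        rw [hc]
        simp [mul_assoc]
      rw [e]
      group
    have hne : l x₀ ≠ 1 := fun h => hy (by
      rw [← hl]
      have := congrArg (· * l y) h
      simp only [one_mul, ← map_mul, hx₀, inv_mul_cancel_right] at this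
      exact this)
    have hc0 : classInner (fun x : P => (χ : G → ℂ) (g * x)) l = 0 := by
      have hl' : ∀ x : P, conj (l x) = l x⁻¹ := fun x =>
        (Char.IsCharacter.apply_inv (Char.isCharacter_of_hom l) x).symm
      have e : classInner (fun x : P => (χ : G → ℂ) (g * x)) l =
          l x₀⁻¹ * classInner (fun x : P => (χ : G → ℂ) (g * x)) l := by
        conv_lhs => rw [classInner, ← Equiv.sum_comp (Equiv.mulLeft x₀)]
        conv_rhs => rw [classInner, mul_left_comm, Finset.mul_sum]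
        congr 1
        refine Finset.sum_congr rfl fun x _ => ?_
        rw [Equiv.coe_mulLeft, hinv, hl', hl', mul_inv_rev, map_mul]
        ring
      have hne' : (1 : ℂ) - l x₀⁻¹ ≠ 0 := sub_ne_zero.mpr fun h => hne (by
        have := map_mul l x₀ x₀⁻¹
        rw [mul_inv_cancel, map_one, ← h, mul_one] at this
        exact this.symm)
      refine (mul_eq_zero.mp ?_).resolve_left hne'
      rw [sub_mul, one_mul, ← e, sub_self]
    rw [← hl, hc0]
    simp


/-- Fixed characters of a `p`-element outside the core: exactly one. -/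
theorem card_fixed_pElt [Fintype G] (χ : IrrCharacter G)
    (hroot : ∀ g : G, p ∣ orderOf g → ‖(χ : G → ℂ) g‖ = 1) (P : Subgroup G) [P.Normal] [Fintype P]
    [Fintype (IrrCharacter P)] (hPp : IsPGroup p P) (hS : Shape (p := p) P χ) {g : G}
    (hg : IsPGroup p (Subgroup.zpowers g)) (hgP : g ∉ P) : (fixedSet P g).card = 1 := by
  have h := norm_coset χ P hS g
  have hone : classInner (fun x : P => (χ : G → ℂ) (g * x)) (fun x : P => (χ : G → ℂ) (g * x)) = 1 := by
    have hsum : ∀ x : P, (χ : G → ℂ) (g * x) * conj ((χ : G → ℂ) (g * x)) = 1 := by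
      intro x
      have hT : IsPGroup p (P ⊔ Subgroup.zpowers g : Subgroup G) := hPp.to_sup_of_normal_left hg
      have hmem : g * (x : G) ∈ P ⊔ Subgroup.zpowers g :=
        mul_mem (le_sup_right (a := P) (Subgroup.mem_zpowers g)) (le_sup_left (b := Subgroup.zpowers g) x.2)
      obtain ⟨j, hj⟩ := IsPGroup.iff_orderOf.mp hT ⟨_, hmem⟩
      rw [Subgroup.orderOf_mk] at hj
      have hdvd : p ∣ orderOf (g * (x : G)) := by
        rw [hj]
        refine dvd_pow_self p fun h0 => hgP ?_
        rw [h0, pow_zero, orderOf_eq_one_iff, mul_eq_one_iff_eq_inv] at hj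
        rw [hj]
        exact inv_mem x.2
      rw [Complex.mul_conj, Complex.normSq_eq_norm_sq, hroot _ hdvd]
      simp
    rw [classInner, Finset.sum_congr rfl fun x _ => hsum x, Finset.sum_const, Finset.card_univ,
      nsmul_eq_mul, mul_one, Nat.card_eq_fintype_card,
      inv_mul_cancel₀ (Nat.cast_ne_zero.mpr Fintype.card_ne_zero)]
  rw [hone] at h
  exact_mod_cast h.symm

theorem card_fixed_centralizer [Fintype G] (χ : IrrCharacter G) (P : Subgroup G) [P.Normal]
    [Fintype P] [Fintype (IrrCharacter P)] (hS : Shape (p := p) P χ) {g : G}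
    (hg : g ∈ Subgroup.centralizer (P : Set G)) : (fixedSet P g).card + 1 = Nat.card P := by
  classical
  have h1 : fixedSet P g = Finset.univ.erase (⟨1, Char.isIrrCharacter_one⟩ : IrrCharacter P) := by
    ext θ
    simp only [fixedSet, Finset.mem_filter, Finset.mem_univ, true_and, Finset.mem_erase, and_true]
    constructor
    · exact fun h e => h.1 (congrArg Subtype.val e)
    · refine fun h => ⟨fun e => h (Subtype.ext e), fun x => ?_⟩
      refine congrArg (θ : P → ℂ) (Subtype.ext ?_)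
      simp [mul_assoc, Subgroup.mem_centralizer_iff.mp hg x x.2]
  rw [h1, Finset.card_erase_of_mem (Finset.mem_univ _), Finset.card_univ, ← Nat.card_eq_fintype_card,
    Char.card_irr_eq_card_conjClasses, Char.card_conjClasses_of_comm hS.comm]
  have := hS.three
  omega

/-- The centralizer of the core. -/
theorem centralizer_eq [Fintype G] (χ : IrrCharacter G)
    (hfaith : ∀ g : G, (χ : G → ℂ) g = (χ : G → ℂ) 1 → g = 1)
    (hroot : ∀ g : G, p ∣ orderOf g → ‖(χ : G → ℂ) g‖ = 1) (P : Subgroup G) [P.Normal] [Fintype P]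
    (hPp : IsPGroup p P) (hS : Shape (p := p) P χ) :
    Subgroup.centralizer (P : Set G) = P ⊔ Subgroup.center G ∧ P ⊓ Subgroup.center G = ⊥ ∧
      ∀ g ∈ Subgroup.centralizer (P : Set G), IsPGroup p (Subgroup.zpowers g) → g ∈ P := by
  classical
  have := Fintype.ofFinite (IrrCharacter P)
  have h3 := hS.three
  have hpelt : ∀ g ∈ Subgroup.centralizer (P : Set G), IsPGroup p (Subgroup.zpowers g) → g ∈ P := by
    intro g hgC hg
    by_contra hgP
    have h1 := card_fixed_centralizer χ P hS hgC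
    rw [card_fixed_pElt χ hroot P hPp hS hg hgP] at h1
    omega
  have hcentral : ∀ z ∈ Subgroup.centralizer (P : Set G), ¬ p ∣ orderOf z → z ∈ Subgroup.center G := by
    intro z hz hpz
    obtain ⟨n, ρ, hi, hρ⟩ := χ.2
    have h1 := norm_coset χ P hS z
    have h2 := card_mul_norm P (fun x : P => (χ : G → ℂ) (z * x)) fun x hx => hroot _ (by
      have hc : Commute z (x : G) := (Subgroup.mem_centralizer_iff.mp hz x x.2).symm
      obtain ⟨j, hj⟩ := IsPGroup.iff_orderOf.mp hPp x
      rw [← Subgroup.orderOf_coe] at hj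
      rw [hc.orderOf_mul_eq_mul_orderOf_of_coprime (by
        rw [hj]; exact ((hp.out.coprime_iff_not_dvd.mpr hpz).symm).pow_right j), hj]
      refine Dvd.dvd.mul_left (dvd_pow_self p fun h0 => hx ?_) _
      rw [h0, pow_zero, orderOf_eq_one_iff] at hj
      exact Subtype.ext hj)
    rw [h1, ← Nat.add_sub_cancel (m := 1) (n := (fixedSet P z).card),
      card_fixed_centralizer χ P hS hz, Nat.cast_sub (by omega), Nat.cast_one] at h2
    simp only [OneMemClass.coe_one, mul_one, Complex.mul_conj] at h2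
    have h4 : (Complex.normSq ((χ : G → ℂ) z) : ℂ) = (((Nat.card P : ℝ) - 1) ^ 2 : ℝ) := by
      push_cast
      linear_combination -h2
    have h5 : ‖(χ : G → ℂ) z‖ ^ 2 = ((Nat.card P : ℝ) - 1) ^ 2 := by
      rw [← Complex.normSq_eq_norm_sq]
      exact_mod_cast h4
    have hP1 : (1 : ℝ) ≤ Nat.card P := by exact_mod_cast (by omega : 1 ≤ Nat.card P)
    have h6 : ‖(χ : G → ℂ) z‖ = (Nat.card P : ℝ) - 1 :=
      (pow_left_inj₀ (norm_nonneg _) (by linarith) two_ne_zero).mp h5
    have hn : (n : ℂ) = (Nat.card P : ℂ) - 1 := by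
      rw [← hS.deg, ← hρ, Representation.char_one, Module.finrank_fin_fun]
    obtain ⟨ω, hω⟩ := (Char.norm_character_eq_iff ρ z).mp (by
      rw [hρ, h6, Module.finrank_fin_fun]
      have : ((Nat.card P : ℝ) - 1 : ℂ) = ((n : ℝ) : ℂ) := by push_cast; rw [hn]
      exact_mod_cast this)
    rw [Subgroup.mem_center_iff]
    intro h
    refine mul_inv_eq_one.mp (hfaith _ ?_)
    have hcomm : ρ (h * z) = ρ (z * h) := by
      rw [map_mul, map_mul, hω]
      exact LinearMap.ext fun v => by simp
    rw [← hρ]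
    show LinearMap.trace ℂ _ (ρ (h * z * (z * h)⁻¹)) = LinearMap.trace ℂ _ (ρ 1)
    rw [map_mul, hcomm, ← map_mul, mul_inv_cancel]
  have hbot : P ⊓ Subgroup.center G = ⊥ := by
    rw [Subgroup.eq_bot_iff_forall]
    intro x hx
    have hxc := (Subgroup.mem_inf.mp hx).2
    obtain ⟨n, ρ, hi, hρ⟩ := χ.2
    refine hfaith x ?_
    have hres := Char.IsCharacter.restrict (Char.IsIrrCharacter.isCharacter χ.2) P
    have hinv : ∀ (θ η : IrrCharacter P), (θ : P → ℂ) ≠ 1 → (η : P → ℂ) ≠ 1 →
        (θ : P → ℂ) ⟨x, hx.1⟩ = (η : P → ℂ) ⟨x, hx.1⟩ := by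
      intro θ η hθ hη
      obtain ⟨g, hg⟩ := exists_conj_of_constituents P χ θ.2 η.2
        (by rw [hS.mult θ hθ]; exact one_ne_zero) (by rw [hS.mult η hη]; exact one_ne_zero)
      rw [hg, CliffordChar.conjFun_apply]
      refine congrArg (θ : P → ℂ) (Subtype.ext ?_)
      show x = g⁻¹ * x * g
      rw [Subgroup.mem_center_iff.mp hxc g⁻¹, inv_mul_cancel_right]
    by_contra hne
    have hx1 : x ≠ 1 := fun e => hne (by rw [e])
    obtain ⟨j, hj⟩ := IsPGroup.iff_orderOf.mp hPp ⟨x, hx.1⟩
    rw [Subgroup.orderOf_mk] at hj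
    have hnorm := hroot x (by
      rw [hj]
      refine dvd_pow_self p fun h0 => hx1 ?_
      rw [h0, pow_zero, orderOf_eq_one_iff] at hj
      exact hj)
    have hval : (χ : G → ℂ) x = ∑ θ : IrrCharacter P,
        classInner (fun y : P => (χ : G → ℂ) y) (θ : P → ℂ) * (θ : P → ℂ) ⟨x, hx.1⟩ := by
      have := congrFun (Char.classFunction_eq_sum (Char.IsCharacter.isClassFunction hres)) ⟨x, hx.1⟩
      simpa [Finset.sum_apply] using this
    set e : IrrCharacter P := ⟨1, Char.isIrrCharacter_one⟩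
    rw [← Finset.add_sum_erase _ _ (Finset.mem_univ e), show (e : P → ℂ) = 1 from rfl, hS.one,
      zero_mul, zero_add] at hval
    obtain ⟨θ₀, hθ₀⟩ : ((Finset.univ : Finset (IrrCharacter P)).erase e).Nonempty := by
      rw [← Finset.card_pos, Finset.card_erase_of_mem (Finset.mem_univ _), Finset.card_univ,
        ← Nat.card_eq_fintype_card, Char.card_irr_eq_card_conjClasses,
        Char.card_conjClasses_of_comm hS.comm]
      omega
    have hne1 : ∀ θ ∈ (Finset.univ : Finset (IrrCharacter P)).erase e, (θ : P → ℂ) ≠ 1 :=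
      fun θ h e' => Finset.ne_of_mem_erase h (Subtype.ext e')
    rw [Finset.sum_congr rfl fun θ h => show _ = (θ₀ : P → ℂ) ⟨x, hx.1⟩ by
        rw [hS.mult θ (hne1 θ h), one_mul, hinv θ θ₀ (hne1 θ h) (hne1 θ₀ hθ₀)],
      Finset.sum_const, Finset.card_erase_of_mem (Finset.mem_univ _), Finset.card_univ,
      ← Nat.card_eq_fintype_card, Char.card_irr_eq_card_conjClasses,
      Char.card_conjClasses_of_comm hS.comm, nsmul_eq_mul] at hval
    obtain ⟨l, hl⟩ := Char.exists_hom_of_degree_one (Char.IsIrrCharacter.isCharacter θ₀.2)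
      (Char.apply_one_eq_one_of_comm hS.comm θ₀)
    have hl1 : ‖(θ₀ : P → ℂ) ⟨x, hx.1⟩‖ = 1 := by
      rw [← hl]
      refine Complex.norm_eq_one_of_pow_eq_one (n := Nat.card P) ?_ Nat.card_pos.ne'
      rw [← map_pow, pow_card_eq_one', map_one]
    rw [hval, norm_mul, hl1, mul_one, Complex.norm_natCast] at hnorm
    have : Nat.card P - 1 = 1 := by exact_mod_cast hnorm
    omega
  refine ⟨le_antisymm ?_ (sup_le ?_ (Subgroup.center_le_centralizer _)), hbot, hpelt⟩
  · intro g hg
    obtain ⟨i, m, hpm, hgm⟩ := Nat.exists_eq_pow_mul_and_not_dvd (orderOf_pos g).ne' p hp.out.ne_one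
    have hco : Nat.Coprime (p ^ i) m := (hp.out.coprime_iff_not_dvd.mpr hpm).pow_left i
    have hb := Nat.gcd_eq_gcd_ab (p ^ i) m
    rw [hco.gcd_eq_one] at hb
    have e : g = (g ^ (p ^ i)) ^ (p ^ i).gcdA m * (g ^ m) ^ (p ^ i).gcdB m := by
      rw [← zpow_natCast g (p ^ i), ← zpow_natCast g m, ← zpow_mul, ← zpow_mul, ← zpow_add, ← hb]
      simp
    rw [e]
    refine mul_mem (Subgroup.zpow_mem _ (Subgroup.mem_sup_right (hcentral _ (pow_mem hg _) ?_)) _)
      (Subgroup.zpow_mem _ (Subgroup.mem_sup_left (hpelt _ (pow_mem hg _) ?_)) _)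
    · intro hd
      rw [orderOf_pow, hgm, Nat.gcd_eq_right (dvd_mul_right _ _),
        Nat.mul_div_cancel_left _ (pow_pos hp.out.pos i)] at hd
      exact hpm hd
    · refine IsPGroup.of_card (n := i) ?_
      rw [Nat.card_zpowers, orderOf_pow, hgm, Nat.gcd_eq_right (dvd_mul_left _ _),
        Nat.mul_div_cancel _ (Nat.pos_of_ne_zero fun h => hpm (by rw [h]; exact dvd_zero p))]
  · intro a ha
    rw [Subgroup.mem_centralizer_iff]
    exact fun b hb => congrArg Subtype.val (hS.comm ⟨b, hb⟩ ⟨a, ha⟩)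

theorem perm_three_not_comm {α : Type*} [DecidableEq α] [Fintype α] (h : Fintype.card α = 3) :
    ∃ a b : Equiv.Perm α, a * b ≠ b * a := by
  let e := (Fintype.equivFinOfCardEq h).symm
  refine ⟨e.permCongr (Equiv.swap 0 1), e.permCongr (Equiv.swap 1 2), fun hc => ?_⟩
  have := congrArg (fun σ : Equiv.Perm α => e.symm (σ (e 0))) hc
  simp [Equiv.permCongr_apply, Equiv.swap_apply_def] at this

/-- A subgroup of the symmetric group on three letters containing the derived group and an element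
of order two is everything. -/
theorem perm_three_top {α : Type*} [DecidableEq α] [Fintype α] (h : Fintype.card α = 3)
    (Y : Subgroup (Equiv.Perm α)) (hY : commutator (Equiv.Perm α) ≤ Y) {t : Equiv.Perm α}
    (ht : t ∈ Y) (ht2 : orderOf t = 2) : Y = ⊤ := by
  have hc : commutator (Equiv.Perm α) ≠ ⊥ := by
    rw [Ne, commutator_def, Subgroup.commutator_eq_bot_iff_le_centralizer]
    intro hle
    obtain ⟨a, b, hab⟩ := perm_three_not_comm h
    exact hab ((Subgroup.mem_centralizer_iff.mp (hle (Subgroup.mem_top b)) a (Subgroup.mem_top a)))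
  have hsix : Nat.card (Equiv.Perm α) = 6 := by
    rw [Nat.card_perm, Nat.card_eq_fintype_card, h]; rfl
  haveI : Nontrivial α := Fintype.one_lt_card_iff_nontrivial.mp (by omega)
  have hA : Nat.card (alternatingGroup α) = 3 := by
    have := two_mul_nat_card_alternatingGroup (α := α)
    omega
  have hle : commutator (Equiv.Perm α) ≤ alternatingGroup α := by
    rw [alternatingGroup_eq_sign_ker]
    exact Abelianization.commutator_subset_ker _
  have h3 : 3 ∣ Nat.card Y := by
    have h1 := Subgroup.card_dvd_of_le hle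
    rw [hA, Nat.dvd_prime Nat.prime_three] at h1
    rcases h1 with h1 | h1
    · exact absurd ((Subgroup.card_eq_one).mp h1) hc
    · exact h1 ▸ Subgroup.card_dvd_of_le hY
  have h2 : 2 ∣ Nat.card Y := by
    have := orderOf_dvd_natCard (⟨t, ht⟩ : Y)
    rwa [Subgroup.orderOf_mk, ht2] at this
  refine Subgroup.eq_top_of_card_eq Y (Nat.dvd_antisymm (Subgroup.card_subgroup_dvd_card Y) ?_)
  rw [hsix]
  exact Nat.Coprime.mul_dvd_of_dvd_of_dvd (by norm_num : Nat.Coprime 2 3) h2 h3

/-- The exceptional case. -/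
theorem four_case [Fintype G] (χ : IrrCharacter G)
    (hroot : ∀ g : G, p ∣ orderOf g → ‖(χ : G → ℂ) g‖ = 1) (P : Subgroup G) [P.Normal] [Fintype P]
    (hPp : IsPGroup p P) (hS : Shape (p := p) P χ) {g : G} (hg : IsPGroup p (Subgroup.zpowers g))
    (hgP : g ∉ P) : p = 2 ∧ Nat.card P = 4 ∧ ∃ τ : G, τ ∉ P ∧ τ * τ ∈ P ∧
      IsPGroup p (Subgroup.zpowers τ) := by
  classical
  have := Fintype.ofFinite (IrrCharacter P)
  have hhom : ∀ l : P →* ℂ, ∀ x : P, l x ^ p = 1 := fun l x => by rw [← map_pow, hS.pow, map_one]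
  -- the unique fixed character has order two
  obtain ⟨θ₀, hθ₀⟩ := Finset.card_eq_one.mp (card_fixed_pElt χ hroot P hPp hS hg hgP)
  have hmem : θ₀ ∈ fixedSet P g := hθ₀ ▸ Finset.mem_singleton_self θ₀
  simp only [fixedSet, Finset.mem_filter, Finset.mem_univ, true_and] at hmem
  obtain ⟨l₀, hl₀⟩ := Char.exists_hom_of_degree_one (Char.IsIrrCharacter.isCharacter θ₀.2)
    (Char.apply_one_eq_one_of_comm hS.comm θ₀)
  rw [← hl₀] at hmem
  obtain ⟨y, hy⟩ : ∃ y, l₀ y ≠ 1 := by
    by_contra h
    push Not at h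
    exact hmem.1 (funext h)
  have hsq : ∀ x, l₀ x * l₀ x = 1 := by
    by_contra hne
    push Not at hne
    obtain ⟨x, hx⟩ := hne
    have h2 : (⟨(l₀ * l₀ : P →* ℂ), Char.isIrrCharacter_of_hom _⟩ : IrrCharacter P) ∈ fixedSet P g := by
      simp only [fixedSet, Finset.mem_filter, Finset.mem_univ, true_and]
      refine ⟨fun e => hx (congrFun e x), fun z => ?_⟩
      show l₀ _ * l₀ _ = l₀ z * l₀ z
      rw [hmem.2 z]
    rw [hθ₀, Finset.mem_singleton] at h2
    have h3 : l₀ y * l₀ y = l₀ y := by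
      have := congrFun (congrArg Subtype.val h2) y
      rw [← hl₀] at this
      exact this
    exact hy (mul_right_cancel₀ (fun h0 => by
      have := hhom l₀ y
      rw [h0, zero_pow hp.out.ne_zero] at this
      exact zero_ne_one this) (h3.trans (one_mul _).symm))
  have hp2 : p = 2 := by
    by_contra hne
    refine hy ?_
    have h1 : orderOf (l₀ y) ∣ Nat.gcd p 2 := Nat.dvd_gcd (orderOf_dvd_of_pow_eq_one (hhom l₀ y))
      (orderOf_dvd_of_pow_eq_one (by rw [pow_two]; exact hsq y))
    rw [(Nat.coprime_primes hp.out Nat.prime_two).mpr hne, Nat.dvd_one, orderOf_eq_one_iff] at h1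
    exact h1
  subst hp2
  -- an element with square in `P`
  have hex : ∃ k : ℕ, g ^ (2 ^ k) ∈ P := by
    obtain ⟨k, hk⟩ := IsPGroup.iff_orderOf.mp hg ⟨g, Subgroup.mem_zpowers g⟩
    rw [Subgroup.orderOf_mk] at hk
    exact ⟨k, by rw [← hk, pow_orderOf_eq_one]; exact one_mem P⟩
  have hk0 : Nat.find hex ≠ 0 := fun h => hgP (by
    have := Nat.find_spec hex
    rwa [h, pow_zero, pow_one] at this)
  set τ := g ^ 2 ^ (Nat.find hex - 1) with hτdef
  have hτ : τ ∉ P := Nat.find_min hex (by omega)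
  have hτ2 : τ * τ ∈ P := by
    rw [hτdef, ← pow_add, ← two_mul, ← pow_succ', Nat.sub_add_cancel (by omega)]
    exact Nat.find_spec hex
  have hτp : IsPGroup 2 (Subgroup.zpowers τ) := hg.to_le (Subgroup.zpowers_le.mpr
    (pow_mem (Subgroup.mem_zpowers g) _))
  refine ⟨rfl, ?_, τ, hτ, hτ2, hτp⟩
  obtain ⟨θ₁, hθ₁⟩ := Finset.card_eq_one.mp (card_fixed_pElt χ hroot P hPp hS hτp hτ)
  set c : P →* P := (MulAut.conjNormal τ⁻¹ : MulAut P).toMonoidHom with hc
  have hcc : ∀ x : P, c (c x) = x := fun x => by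
    refine Subtype.ext ?_
    have : (τ * τ) * (x : G) = x * (τ * τ) := congrArg Subtype.val (hS.comm ⟨_, hτ2⟩ x)
    show τ⁻¹ * (τ⁻¹ * (x : G) * τ⁻¹⁻¹) * τ⁻¹⁻¹ = x
    rw [inv_inv, show τ⁻¹ * (τ⁻¹ * (x : G) * τ) * τ = (τ * τ)⁻¹ * ((x : G) * (τ * τ)) by group, ← this,
      inv_mul_cancel_left]
  have hfixed : ∀ l : P →* ℂ, (∀ x, l (c x) = l x) → l = 1 ∨ (l : P → ℂ) = θ₁ := by
    intro l hl
    by_cases h : l = 1
    · exact Or.inl h
    refine Or.inr ?_
    have h2 : (⟨(l : P → ℂ), Char.isIrrCharacter_of_hom _⟩ : IrrCharacter P) ∈ fixedSet P τ := by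
      simp only [fixedSet, Finset.mem_filter, Finset.mem_univ, true_and]
      exact ⟨fun e => h (MonoidHom.ext fun x => congrFun e x), hl⟩
    rw [hθ₁, Finset.mem_singleton] at h2
    exact congrArg Subtype.val h2
  have hne0 : ∀ (l : P →* ℂ) x, l x ≠ 0 := fun l x h0 => by
    have := hhom l x
    rw [h0, zero_pow two_ne_zero] at this
    exact zero_ne_one this
  have hll : ∀ (l : P →* ℂ) x, l x * l x = 1 := fun l x => by rw [← pow_two]; exact hhom l x
  obtain ⟨l₁, hl₁⟩ := Char.exists_hom_of_degree_one (Char.IsIrrCharacter.isCharacter θ₁.2)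
    (Char.apply_one_eq_one_of_comm hS.comm θ₁)
  rw [← hl₁] at hfixed
  have hfix' : ∀ l : P →* ℂ, (∀ x, l (c x) = l x) → l = 1 ∨ l = l₁ := fun l hl =>
    (hfixed l hl).imp id fun h => MonoidHom.ext fun x => congrFun h x
  -- every character lies among four
  have hfour : ∀ l l' : P →* ℂ, l ≠ 1 → l ≠ l₁ → l' ≠ 1 → l' ≠ l₁ → l' = l ∨ l' = l * l₁ := by
    intro l l' h1 h2 h1' h2'
    have hmove : ∀ l : P →* ℂ, l ≠ 1 → l ≠ l₁ → l * l.comp c = l₁ := fun l h1 h2 => by
      refine (hfix' _ fun x => ?_).resolve_left fun h => ?_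
      · simp [hcc, mul_comm]
      · refine (hfix' l fun x => ?_).elim h1 h2
        have := DFunLike.congr_fun h x
        simp only [MonoidHom.mul_apply, MonoidHom.comp_apply, MonoidHom.one_apply] at this
        calc l (c x) = (l x * l x) * l (c x) := by rw [hll, one_mul]
          _ = l x := by rw [mul_assoc, this, mul_one]
    have e1 := hmove l h1 h2
    have e2 := hmove l' h1' h2'
    rcases hfix' (l * l') (fun x => by
      have a1 := DFunLike.congr_fun e1 x
      have a2 := DFunLike.congr_fun e2 x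
      simp only [MonoidHom.mul_apply, MonoidHom.comp_apply] at a1 a2 ⊢
      calc l (c x) * l' (c x) = (l x * l x) * l (c x) * ((l' x * l' x) * l' (c x)) := by
            rw [hll, hll, one_mul, one_mul]
        _ = (l x * l' x) * ((l x * l (c x)) * (l' x * l' (c x))) := by ring
        _ = l x * l' x := by rw [a1, a2, hll, mul_one]) with h | h
    · left
      refine MonoidHom.ext fun x => ?_
      have := DFunLike.congr_fun h x
      simp only [MonoidHom.mul_apply, MonoidHom.one_apply] at this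
      calc l' x = (l x * l x) * l' x := by rw [hll, one_mul]
        _ = l x := by rw [mul_assoc, this, mul_one]
    · right
      refine MonoidHom.ext fun x => ?_
      have := DFunLike.congr_fun h x
      simp only [MonoidHom.mul_apply] at this ⊢
      rw [← this, ← mul_assoc, hll, one_mul]
  have hle : Nat.card P ≤ 4 := by
    rw [← Char.card_conjClasses_of_comm hS.comm, ← Char.card_irr_eq_card_conjClasses,
      Nat.card_eq_fintype_card, ← Finset.card_univ]
    let mk : (P →* ℂ) → IrrCharacter P := fun l => ⟨(l : P → ℂ), Char.isIrrCharacter_of_hom l⟩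
    by_cases hall : ∀ l : P →* ℂ, l = 1 ∨ l = l₁
    · refine (Finset.card_le_card (t := {mk 1, mk l₁}) fun θ _ => ?_).trans (Finset.card_le_two.trans (by norm_num))
      obtain ⟨l, hl⟩ := Char.exists_hom_of_degree_one (Char.IsIrrCharacter.isCharacter θ.2)
        (Char.apply_one_eq_one_of_comm hS.comm θ)
      rw [show θ = mk l from Subtype.ext hl.symm]
      rcases hall l with rfl | rfl <;> simp
    push Not at hall
    obtain ⟨l, h1, h2⟩ := hall
    refine (Finset.card_le_card (t := {mk 1, mk l₁, mk l, mk (l * l₁)}) fun θ _ => ?_).trans Finset.card_le_four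
    obtain ⟨l', hl'⟩ := Char.exists_hom_of_degree_one (Char.IsIrrCharacter.isCharacter θ.2)
      (Char.apply_one_eq_one_of_comm hS.comm θ)
    rw [show θ = mk l' from Subtype.ext hl'.symm]
    by_cases h1' : l' = 1
    · subst h1'; simp
    by_cases h2' : l' = l₁
    · subst h2'; simp
    rcases hfour l l' h1 h2 h1' h2' with rfl | rfl <;> simp
  obtain ⟨u, hu⟩ := hPp.exists_card_eq
  have h3 := hS.three
  rw [hu] at hle h3 ⊢
  rcases (show u = 0 ∨ u = 1 ∨ u = 2 ∨ 3 ≤ u by omega) with rfl | rfl | rfl | h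
  · omega
  · omega
  · rfl
  · have := Nat.pow_le_pow_right (show 0 < 2 by norm_num) h
    omega

/-- The splitting over the centre. -/
theorem split [Fintype G] (χ : IrrCharacter G)
    (hfaith : ∀ g : G, (χ : G → ℂ) g = (χ : G → ℂ) 1 → g = 1)
    (hroot : ∀ g : G, p ∣ orderOf g → ‖(χ : G → ℂ) g‖ = 1) (P : Subgroup G) [P.Normal] [Fintype P]
    (hPp : IsPGroup p P) (hS : Shape (p := p) P χ) (hp2 : p = 2) (hP4 : Nat.card P = 4) {τ : G}
    (hτ : τ ∉ P) (hτ2 : τ * τ ∈ P) (hτp : IsPGroup p (Subgroup.zpowers τ)) :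
    Odd (Nat.card ↥(Subgroup.center G)) ∧ ∃ H : Subgroup G, Nonempty (↥H ≃* Equiv.Perm (Fin 4)) ∧
      H ⊓ Subgroup.center G = ⊥ ∧ H ⊔ Subgroup.center G = ⊤ := by
  subst hp2
  classical
  obtain ⟨hC, hPZ, hpelt⟩ := centralizer_eq χ hfaith hroot P hPp hS
  set C := Subgroup.centralizer (P : Set G) with hCdef
  set Z := Subgroup.center G with hZdef
  have hPC : P ≤ C := hC ▸ le_sup_left
  have hZC : Z ≤ C := hC ▸ le_sup_right
  haveI hCn : C.Normal := by rw [hCdef]; infer_instance
  have hodd : Odd (Nat.card Z) := by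
    rw [Nat.odd_iff]
    by_contra h
    obtain ⟨z, hz⟩ := exists_prime_orderOf_dvd_card' (G := Z) 2 (by omega)
    have hzP : (z : G) ∈ P := hpelt _ (hZC z.2) (IsPGroup.of_card (n := 1) (by
      rw [Nat.card_zpowers, Subgroup.orderOf_coe, hz, pow_one]))
    have : (z : G) ∈ P ⊓ Z := ⟨hzP, z.2⟩
    rw [hPZ, Subgroup.mem_bot] at this
    rw [show z = 1 from Subtype.ext this, orderOf_one] at hz
    omega
  refine ⟨hodd, ?_⟩
  -- the action on the three involutions
  let α := {x : P // x ≠ 1}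
  have hα : Fintype.card α = 3 := by
    rw [Fintype.card_subtype_compl, Fintype.card_subtype_eq, ← Nat.card_eq_fintype_card, hP4]
  let f : G →* Equiv.Perm α :=
    { toFun := fun x => (MulAut.conjNormal x : MulAut P).toEquiv.subtypeEquiv fun a =>
        (MulEquiv.map_ne_one_iff (MulAut.conjNormal x : MulAut P)).symm
      map_one' := Equiv.ext fun a => Subtype.ext (by simp)
      map_mul' := fun x y => Equiv.ext fun a => Subtype.ext (by simp [Equiv.Perm.mul_apply]) }
  have hf : ∀ (x : G) (a : α), (((f x a).1 : P) : G) = x * (a.1 : G) * x⁻¹ := fun x a => MulAut.conjNormal_apply x a.1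
  have hker : f.ker = C := by
    ext x
    rw [MonoidHom.mem_ker, hCdef, Subgroup.mem_centralizer_iff]
    constructor
    · intro hx y hy
      by_cases hy1 : y = 1
      · simp [hy1]
      have := hf x ⟨⟨y, hy⟩, fun e => hy1 (congrArg Subtype.val e)⟩
      rw [hx, Equiv.Perm.one_apply] at this
      exact eq_mul_inv_iff_mul_eq.mp this
    · intro hx
      refine Equiv.ext fun a => Subtype.ext (Subtype.ext ?_)
      rw [hf, Equiv.Perm.one_apply, ← hx _ a.1.2, mul_inv_cancel_right]
  have hsix : Nat.card (Equiv.Perm α) = 6 := by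
    rw [Nat.card_perm, Nat.card_eq_fintype_card, hα]; rfl
  have hidx : C.index = Nat.card f.range := by
    rw [← hker, Subgroup.index_ker]
  have hτC : τ ∉ C := fun h => hτ (hpelt τ h hτp)
  have hfτ : orderOf (f τ) = 2 := by
    rw [orderOf_eq_prime_iff, pow_two, ← map_mul]
    refine ⟨?_, fun h => hτC (by rw [← hker]; exact h)⟩
    rw [← MonoidHom.mem_ker, hker]
    exact hPC hτ2
  have h2 : 2 ∣ Nat.card f.range := by
    have := orderOf_dvd_natCard (⟨f τ, τ, rfl⟩ : f.range)
    rwa [← Subgroup.orderOf_coe, hfτ] at this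
  have h3 : 3 ∣ Nat.card f.range := by
    have := Fintype.ofFinite (IrrCharacter P)
    obtain ⟨θ, hθ⟩ : ∃ θ : IrrCharacter P, (θ : P → ℂ) ≠ 1 := by
      by_contra h
      push Not at h
      have : Subsingleton (IrrCharacter P) := ⟨fun a b => Subtype.ext ((h a).trans (h b).symm)⟩
      have h1 : Nat.card (IrrCharacter P) ≤ 1 := Finite.card_le_one_iff_subsingleton.mpr this
      rw [Char.card_irr_eq_card_conjClasses, Char.card_conjClasses_of_comm hS.comm, hP4] at h1
      omega
    have hdeg := CharApp.restrict_degree P χ.2 θ.2 (by rw [hS.mult θ hθ]; exact one_ne_zero)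
    rw [hS.deg, hS.mult θ hθ, Char.apply_one_eq_one_of_comm hS.comm θ, hP4, one_mul, mul_one] at hdeg
    norm_num at hdeg
    have ht : (CharApp.inertia P (θ : P → ℂ)).index = 3 := by exact_mod_cast hdeg.symm
    rw [← hidx, ← ht]
    refine Subgroup.index_dvd_of_le fun x hx => ?_
    rw [CharApp.mem_inertia]
    funext n
    rw [CliffordChar.conjFun_apply]
    refine congrArg (θ : P → ℂ) (Subtype.ext ?_)
    show x⁻¹ * (n : G) * x = n
    rw [mul_assoc, Subgroup.mem_centralizer_iff.mp hx n n.2, inv_mul_cancel_left]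
  have hCidx : C.index = 6 := by
    rw [hidx]
    refine Nat.dvd_antisymm ?_ (Nat.Coprime.mul_dvd_of_dvd_of_dvd (by norm_num : Nat.Coprime 2 3) h2 h3)
    rw [← hsix]
    exact Subgroup.card_subgroup_dvd_card _
  have hsurj : Function.Surjective f :=
    MonoidHom.range_eq_top.mp (Subgroup.eq_top_of_card_eq _ (by rw [← hidx, hCidx, hsix]))
  have hcardC : Nat.card C = 4 * Nat.card Z := by
    rw [← hP4, ← Nat.card_prod]
    refine (Nat.card_congr (Equiv.ofBijective
      (fun a : P × Z => (⟨(a.1 : G) * a.2, mul_mem (hPC a.1.2) (hZC a.2.2)⟩ : C)) ⟨?_, ?_⟩)).symm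
    · rintro ⟨a, b⟩ ⟨a', b'⟩ e
      have e' : (a : G) * b = a' * b' := congrArg Subtype.val e
      have h1 : (a' : G)⁻¹ * a ∈ P ⊓ Z := Subgroup.mem_inf.mpr ⟨mul_mem (inv_mem a'.2) a.2, by
        rw [show (a' : G)⁻¹ * a = b' * (b : G)⁻¹ by
          rw [eq_mul_inv_iff_mul_eq, mul_assoc, e', inv_mul_cancel_left]]
        exact mul_mem b'.2 (inv_mem b.2)⟩
      rw [hPZ, Subgroup.mem_bot, inv_mul_eq_one] at h1
      obtain rfl : a = a' := Subtype.ext h1.symm
      simp_all
    · intro x
      obtain ⟨a, ha, b, hb, hab⟩ := Subgroup.mem_sup_of_normal_right.mp (hC ▸ x.2 : (x : G) ∈ P ⊔ Z)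
      exact ⟨⟨⟨a, ha⟩, ⟨b, hb⟩⟩, Subtype.ext hab⟩
  have hG : Nat.card G = 24 * Nat.card Z := by
    rw [← C.card_mul_index, hcardC, hCidx]; ring
  have hZidx : Z.index = 24 := by
    have h := Z.card_mul_index
    rw [hG, mul_comm 24] at h
    exact Nat.eq_of_mul_eq_mul_left Nat.card_pos h
  -- the centre meets the derived group trivially
  have hGZ : commutator G ⊓ Z = ⊥ := by
    rw [← Subgroup.card_eq_one]
    by_contra hne
    obtain ⟨q, hq, hqd⟩ := Nat.exists_prime_and_dvd hne
    haveI := Fact.mk hq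
    obtain ⟨z, hz⟩ := exists_prime_orderOf_dvd_card' (G := (commutator G ⊓ Z : Subgroup G)) q hqd
    have hqZ : q ∣ Nat.card Z := hqd.trans (Subgroup.card_dvd_of_le inf_le_right)
    have hq2 : q ≠ 2 := fun h => by
      subst h
      exact (Nat.not_even_iff_odd.mpr hodd) (even_iff_two_dvd.mpr hqZ)
    rw [← Subgroup.orderOf_coe] at hz
    have hzZ : (z : G) ∈ Z := z.2.2
    obtain ⟨Q₀⟩ : Nonempty (Sylow q G) := inferInstance
    have hzQ : (z : G) ∈ (Q₀ : Subgroup G) := by
      haveI : (Subgroup.zpowers (z : G)).Normal := ⟨fun a ha c => by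
        rwa [(Subgroup.mem_center_iff.mp (Subgroup.zpowers_le.mpr hzZ ha) c), mul_inv_cancel_right]⟩
      exact (IsPGroup.of_card (n := 1) (by rw [Nat.card_zpowers, hz, pow_one])).le_sylow_of_normal Q₀
        (Subgroup.mem_zpowers _)
    set φ := (QuotientGroup.mk' Z).domRestrict (Q₀ : Subgroup G) with hφ
    haveI : IsCyclic φ.range := by
      obtain ⟨j, hj⟩ := (Q₀.2.of_surjective φ.rangeRestrict φ.rangeRestrict_surjective).exists_card_eq
      have hd : q ^ j ∣ 24 := by
        rw [← hj, ← hZidx, Subgroup.index_eq_card]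
        exact Subgroup.card_subgroup_dvd_card _
      rcases (show j = 0 ∨ j = 1 ∨ 2 ≤ j by omega) with rfl | rfl | h
      · haveI : Subsingleton φ.range := (Nat.card_eq_one_iff_unique.mp (by rw [hj, pow_zero])).1
        infer_instance
      · exact isCyclic_of_prime_card (p := q) (by rw [hj, pow_one])
      · exfalso
        have h9 : q ^ 2 ∣ 24 := (pow_dvd_pow q h).trans hd
        have hq3 : 3 ≤ q := by have := hq.two_le; omega
        have hle := Nat.le_of_dvd (by norm_num) h9
        have hq4 : q ≤ 4 := by nlinarith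
        interval_cases q
        · norm_num at h9
        · exact absurd hq (by norm_num)
    have hQc : ∀ a b : (Q₀ : Subgroup G), a * b = b * a := fun a b =>
      (φ.rangeRestrict.isMulCommutative_of_isCyclic_of_ker_le_center (by
        intro w hw
        rw [MonoidHom.ker_rangeRestrict, MonoidHom.mem_ker, hφ, MonoidHom.domRestrict_apply,
          QuotientGroup.mk'_apply, QuotientGroup.eq_one_iff] at hw
        exact Subgroup.mem_center_iff.mpr fun v =>
          Subtype.ext (Subgroup.mem_center_iff.mp hw (v : G)))).is_comm.comm a b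
    letI : CommGroup (Q₀ : Subgroup G) := { (inferInstance : Group (Q₀ : Subgroup G)) with mul_comm := hQc }
    set T := MonoidHom.transfer (MonoidHom.id (Q₀ : Subgroup G))
    have h0 : T (z : G) = 1 := Abelianization.commutator_subset_ker T z.2.1
    have h2 := MonoidHom.transfer_eq_pow (MonoidHom.id (Q₀ : Subgroup G)) (z : G) fun k g₀ _ => by
      rw [mul_assoc, ← Subgroup.mem_center_iff.mp (Z.pow_mem hzZ k) g₀, inv_mul_cancel_left]
    change T (z : G) = _ at h2
    rw [h2] at h0
    have h1 : (z : G) ^ (Q₀ : Subgroup G).index = 1 := congrArg Subtype.val h0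
    have h3 := orderOf_dvd_of_pow_eq_one h1
    rw [hz] at h3
    exact Q₀.not_dvd_index h3
  -- the complement
  have hτ' : IsPGroup 2 (P ⊔ Subgroup.zpowers τ : Subgroup G) := hPp.to_sup_of_normal_left hτp
  obtain ⟨S, hS'⟩ := hτ'.exists_le_sylow
  set H := commutator G ⊔ (S : Subgroup G) with hH
  have hPH : P ≤ H := le_sup_left.trans (hS'.trans le_sup_right)
  haveI hHn : H.Normal := Subgroup.Normal.of_commutator_le G le_sup_left
  have hHZ : H ⊓ Z = ⊥ := by
    rw [eq_bot_iff, ← hGZ]
    refine le_inf (fun z hz => ?_) inf_le_right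
    obtain ⟨hzH, hzZ⟩ := hz
    obtain ⟨a, ha, b, hb, hab⟩ := Subgroup.mem_sup_of_normal_left.mp hzH
    set π := QuotientGroup.mk' (commutator G)
    have he : π z = π b := by
      rw [← hab, map_mul, show π a = 1 from (QuotientGroup.eq_one_iff a).mpr ha, one_mul]
    obtain ⟨j, hj⟩ := IsPGroup.iff_orderOf.mp S.2 ⟨b, hb⟩
    rw [Subgroup.orderOf_mk] at hj
    have h1 : orderOf (π z) ∣ 2 ^ j := by rw [← hj, he]; exact orderOf_map_dvd π b
    have h2 : orderOf (π z) ∣ Nat.card Z :=
      (orderOf_map_dvd π z).trans ((by simpa using orderOf_dvd_natCard (⟨z, hzZ⟩ : Z)))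
    have hco : Nat.Coprime (2 ^ j) (Nat.card Z) :=
      ((Nat.coprime_two_left).mpr hodd).pow_left j
    exact (QuotientGroup.eq_one_iff z).mp
      (orderOf_eq_one_iff.mp (Nat.eq_one_of_dvd_coprimes hco h1 h2))
  have hHZt : H ⊔ Z = ⊤ := by
    have hY : (H ⊔ Z).map f = ⊤ := perm_three_top hα _ (by
        rw [commutator_def, ← MonoidHom.range_eq_top.mpr hsurj, MonoidHom.range_eq_map,
          ← Subgroup.map_commutator]
        exact Subgroup.map_mono (le_sup_left.trans le_sup_left))
      (Subgroup.mem_map_of_mem f (Subgroup.mem_sup_left (le_sup_right (a := commutator G)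
        (hS' (le_sup_right (a := P) (Subgroup.mem_zpowers τ)))))) hfτ
    have hCle : f.ker ≤ H ⊔ Z := by
      rw [hker, hC]
      exact sup_le (hPH.trans le_sup_left) le_sup_right
    rw [← Subgroup.comap_map_eq_self hCle, hY, Subgroup.comap_top]
  refine ⟨H, ?_, hHZ, hHZt⟩
  have hHc : Nat.card H = 24 := by
    have := (Subgroup.isComplement'_of_disjoint_and_mul_eq_univ (disjoint_iff.mpr hHZ)
      (by rw [← Subgroup.mul_normal, hHZt, Subgroup.coe_top])).card_mul
    rw [hG] at this
    exact Nat.eq_of_mul_eq_mul_right Nat.card_pos this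
  have hCH : ∀ x : H, (x : G) ∈ C → (x : G) ∈ P := fun x hx => by
    obtain ⟨a, ha, b, hb, hab⟩ := Subgroup.mem_sup_of_normal_right.mp (hC ▸ hx : (x : G) ∈ P ⊔ Z)
    have hb' : b ∈ H ⊓ Z := Subgroup.mem_inf.mpr ⟨by
      rw [show b = a⁻¹ * (x : G) by rw [← hab, inv_mul_cancel_left]]
      exact mul_mem (inv_mem (hPH ha)) x.2, hb⟩
    rw [hHZ, Subgroup.mem_bot] at hb'
    rw [← hab, hb', mul_one]
    exact ha
  haveI := Fact.mk Nat.prime_three
  set PH := P.subgroupOf H with hPHdef
  have hPHc : Nat.card PH = 4 := by rw [Nat.card_congr (Subgroup.subgroupOfEquivOfLe hPH).toEquiv, hP4]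
  have hR3 : ∀ R : Sylow 3 H, Nat.card R = 3 := fun R => by
    rw [R.card_eq_multiplicity, hHc, show (24 : ℕ) = 3 ^ 1 * 8 from rfl,
      Nat.factorization_mul (by norm_num) (by norm_num)]
    simp [Nat.prime_three.factorization_pow, Nat.prime_three.factorization_self, Nat.factorization_eq_zero_of_not_dvd (show ¬ 3 ∣ 8 by norm_num)]
  have hdis : ∀ R : Sylow 3 H, ∀ x, x ∈ PH → x ∈ (R : Subgroup H) → x = 1 := fun R x hx hxR => by
    have h1 := orderOf_dvd_natCard (⟨x, hx⟩ : PH)
    have h2 := orderOf_dvd_natCard (⟨x, hxR⟩ : (R : Subgroup H))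
    rw [Subgroup.orderOf_mk, hPHc] at h1
    rw [Subgroup.orderOf_mk, hR3] at h2
    exact orderOf_eq_one_iff.mp (Nat.eq_one_of_dvd_coprimes (by norm_num) h1 h2)
  -- a Sylow 3-subgroup centralises no nontrivial element of the core
  have hnor : ∀ R : Sylow 3 H, ∀ x : H, x ∈ PH → x ∈ Subgroup.normalizer ((R : Subgroup H) : Set H) →
      ∀ r ∈ (R : Subgroup H), x * r = r * x := fun R x hx hxN r hr => by
    rw [← commutatorElement_eq_one_iff_mul_comm]
    refine hdis R _ ?_ ?_
    · rw [commutatorElement_def, mul_assoc x r x⁻¹]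
      have := (inferInstance : PH.Normal).conj_mem _ (inv_mem hx) r
      simpa [mul_assoc] using mul_mem hx this
    · rw [commutatorElement_def]
      exact mul_mem ((Subgroup.mem_normalizer_iff.mp hxN r).mp hr) (inv_mem hr)
  have hn3 : Nat.card (Sylow 3 H) = 4 := by
    obtain ⟨R⟩ : Nonempty (Sylow 3 H) := inferInstance
    have h1 := card_sylow_modEq_one 3 H
    have h2 : Nat.card (Sylow 3 H) ∣ 8 := by
      have := R.card_dvd_index
      have h' := (R : Subgroup H).card_mul_index
      rw [hR3, hHc] at h'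
      rwa [show (R : Subgroup H).index = 8 by omega] at this
    have hle := Nat.le_of_dvd (by norm_num) h2
    generalize hn : Nat.card (Sylow 3 H) = n at h1 h2 hle ⊢
    interval_cases n <;> first | rfl | (exfalso; revert h1; decide) | (exfalso; revert h2; decide) | skip
    · exfalso
      have : Subsingleton (Sylow 3 H) := (Nat.card_eq_one_iff_unique.mp hn).1
      have hRn := Sylow.normal_of_subsingleton R
      obtain ⟨r, hr, hr1⟩ := (Subgroup.bot_or_exists_ne_one (R : Subgroup H)).resolve_left fun h => by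
        have := hR3 R
        rw [h, Subgroup.card_bot] at this
        omega
      have hrC : (r : G) ∈ C := Subgroup.mem_centralizer_iff.mpr fun y hy =>
        congrArg Subtype.val (hnor R ⟨y, hPH hy⟩ hy (by rw [Subgroup.normalizer_eq_top]; exact Subgroup.mem_top _) r hr)
      exact hr1 (hdis R r (hCH r hrC) hr)
  let act := MulAction.toPermHom H (Sylow 3 H)
  have hinj : Function.Injective act := by
    rw [← MonoidHom.ker_eq_bot_iff]
    have hfixR : ∀ x ∈ act.ker, ∀ R : Sylow 3 H, x ∈ Subgroup.normalizer ((R : Subgroup H) : Set H) :=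
      fun x hx R => Sylow.smul_eq_iff_mem_normalizer.mp
        (Equiv.ext_iff.mp (show act x = 1 from hx) R)
    have hI : ∀ x ∈ act.ker, x ∈ PH → x = 1 := by
      intro x hx hxP
      by_contra hne
      have hxne : (x : G) ≠ 1 := fun e => hne (Subtype.ext e)
      have hsub : PH ≤ act.ker := by
        intro y hy
        by_cases hy1 : y = 1
        · subst hy1; exact one_mem _
        obtain ⟨gσ, hgσ⟩ := hsurj (Equiv.swap (⟨⟨x, hxP⟩, fun e => hxne (congrArg Subtype.val e)⟩ : α)
          ⟨⟨y, hy⟩, fun e => hy1 (Subtype.ext (show (y : G) = 1 from congrArg Subtype.val e))⟩)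
        obtain ⟨a, ha, b, hb, hab⟩ := Subgroup.mem_sup_of_normal_right.mp (hHZt ▸ Subgroup.mem_top gσ)
        have e1 := hf gσ ⟨⟨x, hxP⟩, fun e => hxne (congrArg Subtype.val e)⟩
        rw [hgσ, Equiv.swap_apply_left] at e1
        have e2 : y = ⟨a, ha⟩ * x * (⟨a, ha⟩ : H)⁻¹ := by
          refine Subtype.ext ?_
          show (y : G) = a * x * a⁻¹
          have e1' : (y : G) = gσ * x * gσ⁻¹ := e1
          rw [e1', ← hab, mul_inv_rev, show a * b * (x : G) * (b⁻¹ * a⁻¹) = a * (b * x * b⁻¹) * a⁻¹ by group,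
            show b * (x : G) * b⁻¹ = x by rw [← Subgroup.mem_center_iff.mp hb, mul_inv_cancel_right]]
        rw [e2]
        exact (inferInstance : act.ker.Normal).conj_mem x hx _
      obtain ⟨R⟩ : Nonempty (Sylow 3 H) := inferInstance
      obtain ⟨r, hr, hr1⟩ := (Subgroup.bot_or_exists_ne_one (R : Subgroup H)).resolve_left fun h => by
        have := hR3 R
        rw [h, Subgroup.card_bot] at this
        omega
      have hrC : (r : G) ∈ C := Subgroup.mem_centralizer_iff.mpr fun y hy =>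
        congrArg Subtype.val (hnor R ⟨y, hPH hy⟩ hy (hfixR _ (hsub hy) R) r hr)
      exact hr1 (hdis R r (hCH r hrC) hr)
    rw [Subgroup.eq_bot_iff_forall]
    intro x hx
    refine hI x hx (hCH x (Subgroup.mem_centralizer_iff.mpr fun y hy => ?_))
    have hcom : ⁅(⟨y, hPH hy⟩ : H), x⁆ = 1 := by
      refine hI _ ?_ ?_
      · rw [commutatorElement_def]
        exact mul_mem ((inferInstance : act.ker.Normal).conj_mem x hx _) (inv_mem hx)
      · rw [commutatorElement_def, mul_assoc (⟨y, hPH hy⟩ : H) x]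
        have := (inferInstance : PH.Normal).conj_mem _ (inv_mem (show (⟨y, hPH hy⟩ : H) ∈ PH from hy)) x
        simpa [mul_assoc] using mul_mem (show (⟨y, hPH hy⟩ : H) ∈ PH from hy) this
    exact congrArg Subtype.val (commutatorElement_eq_one_iff_mul_comm.mp hcom)
  have e4 : Sylow 3 H ≃ Fin 4 := (Finite.equivFinOfCardEq hn3)
  refine ⟨MulEquiv.ofBijective (e4.permCongrHom.toMonoidHom.comp act)
    ((Nat.bijective_iff_injective_and_card _).mpr ⟨e4.permCongrHom.injective.comp hinj, ?_⟩)⟩
  rw [hHc, Nat.card_perm, Nat.card_fin]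
  rfl

end

/-- Let χ be a faithful, non-linear irreducible character of the finite group G (χ g = χ 1 only for g = 1, χ 1 ≠ 1) whose value at every element of order divisible by p is a root of unity, and suppose P = O_p(G) ≠ 1. Then either P is an elementary abelian Sylow p-subgroup of G, C_G(P) is the internal direct product of P and Z(G), G acts transitively by conjugation on the non-principal linear characters of P, and χ 1 = |P| − 1; or p = 2 and G is the internal direct product of a subgroup isomorphic to the symmetric group S₄ and the centre Z(G), which has odd order. -/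
theorem result {G : Type*} [Group G] [Finite G] (p : ℕ) [Fact p.Prime] (χ : Cfsg.IrrCharacter G) (hfaith : ∀ g : G, (χ : G → ℂ) g = (χ : G → ℂ) 1 → g = 1) (hnl : (χ : G → ℂ) 1 ≠ 1) (hroot : ∀ g : G, p ∣ orderOf g → ∃ n : ℕ, 0 < n ∧ ((χ : G → ℂ) g) ^ n = 1) (hP : Cfsg.pCore p G ≠ ⊥) : ((Nat.card ↥(Cfsg.pCore p G)).factorization p = (Nat.card G).factorization p ∧ Cfsg.IsElementaryAbelian p (Cfsg.pCore p G) ∧ Subgroup.centralizer ((Cfsg.pCore p G : Subgroup G) : Set G) = Cfsg.pCore p G ⊔ Subgroup.center G ∧ Cfsg.pCore p G ⊓ Subgroup.center G = ⊥ ∧ (∀ lam mu : ↥(Cfsg.pCore p G) → ℂ, Cfsg.IsCharacter ↥(Cfsg.pCore p G) lam → lam 1 = 1 → lam ≠ (fun _ => (1 : ℂ)) → Cfsg.IsCharacter ↥(Cfsg.pCore p G) mu → mu 1 = 1 → mu ≠ (fun _ => (1 : ℂ)) → ∃ g : G, ∀ (x : G) (hx : x ∈ Cfsg.pCore p G) (hgx : g * x * g⁻¹ ∈ Cfsg.pCore p G), mu ⟨x, hx⟩ = lam ⟨g * x * g⁻¹, hgx⟩) ∧ (χ : G → ℂ) 1 = (Nat.card ↥(Cfsg.pCore p G) : ℂ) - 1) ∨ (p = 2 ∧ Odd (Nat.card ↥(Subgroup.center G)) ∧ ∃ H : Subgroup G, Nonempty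 (↥H ≃* Equiv.Perm (Fin 4)) ∧ H ⊓ Subgroup.center G = ⊥ ∧ H ⊔ Subgroup.center G = ⊤) := by
  classical
  have := Fintype.ofFinite G
  set P := Cfsg.pCore p G with hPdef
  haveI : P.Normal := Cores.pCore_normal p G
  have := Fintype.ofFinite P
  have hPp : IsPGroup p P := Cores.isPGroup_pCore p G
  have hroot' : ∀ g : G, p ∣ orderOf g → ‖(χ : G → ℂ) g‖ = 1 := fun g hg => by
    obtain ⟨n, hn, hn1⟩ := hroot g hg
    exact Complex.norm_eq_one_of_pow_eq_one hn1 hn.ne'
  have hS := shape χ hfaith hnl hroot' P hPp hP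
  obtain ⟨hC, hPZ, -⟩ := centralizer_eq χ hfaith hroot' P hPp hS
  by_cases hall : ∀ g : G, IsPGroup p (Subgroup.zpowers g) → g ∈ P
  · refine Or.inl ⟨?_, ⟨⟨⟨hS.comm⟩⟩, fun a ha => congrArg Subtype.val (hS.pow ⟨a, ha⟩)⟩, hC, hPZ, ?_, hS.deg⟩
    · obtain ⟨S⟩ : Nonempty (Sylow p G) := inferInstance
      have hSP : (S : Subgroup G) = P := le_antisymm (fun g hg =>
        hall g (S.2.to_le (Subgroup.zpowers_le.mpr hg))) (Cores.pCore_le_sylow S)
      have hcard := S.card_eq_multiplicity
      rw [hSP] at hcard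
      rw [hcard, (Fact.out : p.Prime).factorization_pow, Finsupp.single_eq_same]
    · intro lam mu hlam hlam1 hlamne hmu hmu1 hmune
      obtain ⟨l, hl⟩ := Char.exists_hom_of_degree_one hlam hlam1
      obtain ⟨m, hm⟩ := Char.exists_hom_of_degree_one hmu hmu1
      subst hl hm
      obtain ⟨g, hg⟩ := exists_conj_of_constituents P χ (Char.isIrrCharacter_of_hom l)
        (Char.isIrrCharacter_of_hom m)
        (by rw [hS.mult ⟨_, Char.isIrrCharacter_of_hom l⟩ hlamne]; exact one_ne_zero)
        (by rw [hS.mult ⟨_, Char.isIrrCharacter_of_hom m⟩ hmune]; exact one_ne_zero)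
      refine ⟨g⁻¹, fun x hx hgx => ?_⟩
      rw [hg, CliffordChar.conjFun_apply]
      congr 1
      exact Subtype.ext (by simp)
  · push Not at hall
    obtain ⟨g, hg, hgP⟩ := hall
    obtain ⟨hp2, hP4, τ, hτ, hτ2, hτp⟩ := four_case χ hroot' P hPp hS hg hgP
    obtain ⟨hodd, hH⟩ := split χ hfaith hroot' P hPp hS hp2 hP4 hτ hτ2 hτp
    exact Or.inr ⟨hp2, hodd, hH⟩

end Cfsg.Agent.S4751
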