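import Cfsg.Statements.S4752
import Cfsg.Agent.Lib.Blocks.Extra27.Main

set_option autoImplicit false
open Cfsg

namespace Cfsg.Agent.S4752

open Cfsg.Agent.Extra27 in
/-- The hypotheses as a context. -/
theorem exists_ctx {G : Type*} [Group G] [Finite G] (P : Sylow 3 G)
    (hE : Cfsg.IsExtraspecial 3 ↥(P : Subgroup G)) (h27 : Nat.card ↥(P : Subgroup G) = 27)
    (hexp : ∀ x ∈ (P : Subgroup G), x ^ 3 = 1)
    (hNC : ∀ g ∈ Subgroup.normalizer ((P : Subgroup G) : Set G), ∀ z ∈ (P : Subgroup G),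
      (∀ y ∈ (P : Subgroup G), z * y = y * z) → g * z = z * g) :
    ∃ z, Ctx P z := by
  classical
  obtain ⟨⟨-, -, hcomm⟩, hZ⟩ := hE
  obtain ⟨w, hw⟩ : ∃ w : Subgroup.center (P : Subgroup G), w ≠ 1 := by
    have : Nontrivial (Subgroup.center (P : Subgroup G)) :=
      Finite.one_lt_card_iff_nontrivial.1 (by rw [hZ]; norm_num)
    exact exists_ne 1
  set z : G := ((w : (P : Subgroup G)) : G) with hz
  have hcen : ∀ a ∈ (P : Subgroup G), z * a = a * z := fun a ha =>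
    congrArg Subtype.val (Subgroup.mem_center_iff.1 w.2 ⟨a, ha⟩).symm
  have hmem : ∀ u : (P : Subgroup G), u ∈ Subgroup.center (P : Subgroup G) →
      (u : G) ∈ Subgroup.zpowers z := by
    intro u hu
    obtain ⟨k, hk⟩ := Subgroup.mem_zpowers_iff.1
      (mem_zpowers_of_prime_card hZ hw (g' := (⟨u, hu⟩ : Subgroup.center (P : Subgroup G))))
    refine Subgroup.mem_zpowers_iff.2 ⟨k, ?_⟩
    rw [hz, ← Subgroup.coe_zpow, ← Subgroup.coe_zpow, hk]
  refine ⟨z, h27, hexp, (w : (P : Subgroup G)).2, fun h => hw (Subtype.ext (Subtype.ext h)), hcen,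
    fun a ha h => hmem ⟨a, ha⟩ (Subgroup.mem_center_iff.2 fun b => Subtype.ext (h b b.2).eq.symm),
    fun a ha b hb => ?_, fun g hg => ?_⟩
  · refine hmem ⟨a * b * a⁻¹ * b⁻¹,
      mul_mem (mul_mem (mul_mem ha hb) (inv_mem ha)) (inv_mem hb)⟩ ?_
    rw [← hcomm]
    exact Subgroup.commutator_mem_commutator (Subgroup.mem_top (⟨a, ha⟩ : (P : Subgroup G)))
      (Subgroup.mem_top (⟨b, hb⟩ : (P : Subgroup G)))
  · rw [hNC g hg z (w : (P : Subgroup G)).2 hcen, mul_inv_cancel_right]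

/-- Let G be a finite group whose Sylow 3-subgroup P is extraspecial of order 27 and exponent 3, with N_G(P) ≤ C_G(Z(P)), and let M be a maximal ideal of the algebraic integers containing 3, B the principal 3-block of G, k its number of irreducible characters, k₀ the number of those of height zero, l its 3-regular rank (number of irreducible Brauer characters), and e the index of P·C_G(P) in N_G(P) (the order of the inertial quotient). Then e = 1 gives (k, k₀, l) = (11, 9, 1); e = 2 gives (10, 6, 2); e = 4 gives (14, 6, 4); e = 8 gives (16, 6, 5). -/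
theorem result {G : Type*} [Group G] [Finite G] (P : Sylow 3 G) (hE : Cfsg.IsExtraspecial 3 ↥(P : Subgroup G)) (h27 : Nat.card ↥(P : Subgroup G) = 27) (hexp : ∀ x ∈ (P : Subgroup G), x ^ 3 = 1) (hNC : ∀ g ∈ Subgroup.normalizer ((P : Subgroup G) : Set G), ∀ z ∈ (P : Subgroup G), (∀ y ∈ (P : Subgroup G), z * y = y * z) → g * z = z * g) (M : Ideal Cfsg.AlgInt) (hM : Cfsg.IsPModular 3 M) (k k₀ l e : ℕ) (hk : Nat.card ↥(Cfsg.principalBlock M G) = k) (hk₀ : Nat.card {χ : Cfsg.IrrCharacter G // χ ∈ Cfsg.principalBlock M G ∧ Cfsg.blockHeight 3 (Cfsg.principalBlock M G) (χ : G → ℂ) = 0} = k₀) (hl : Cfsg.blockRank 3 (Cfsg.principalBlock M G) = l) (he : ((P : Subgroup G) ⊔ Subgroup.centralizer ((P : Subgroup G) : Set G)).relIndex (Subgroup.normalizer ((P : Subgroup G) : Set G)) = e) : (e = 1 → k = 11 ∧ k₀ = 9 ∧ l = 1) ∧ (e = 2 → k = 10 ∧ k₀ = 6 ∧ l = 2) ∧ (e = 4 → k = 14 ∧ k₀ = 6 ∧ l = 4) ∧ (e = 8 → k = 16 ∧ k₀ = 6 ∧ l = 5)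 := by
  haveI : Fact (Nat.Prime 3) := ⟨Nat.prime_three⟩
  obtain ⟨z, X⟩ := exists_ctx P hE h27 hexp hNC
  have main : e = 2 ∨ e = 4 ∨ e = 8 → ∃ n, n * e = 8 ∧ k₀ = 6 ∧ l + n = 6 ∧ k + 2 * n = 18 := by
    intro he'
    obtain ⟨n, x, hne, R⟩ := Cfsg.Agent.Extra27.exists_reps X he he'
    obtain ⟨h1, h2, h3⟩ := Cfsg.Agent.Extra27.invariants R hM
    exact ⟨n, hne, hk₀ ▸ h1, hl ▸ h2, hk ▸ h3⟩
  refine ⟨fun h1 => ?_, fun h => ?_, fun h => ?_, fun h => ?_⟩
  · have hc := (Cfsg.Agent.IsolatedElts.hasNormalPComplement_iff_noFusion P).2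
      (X.noFusion (he.trans h1))
    obtain ⟨e1, e2, e3⟩ := Cfsg.Agent.Extra27.invariants_of_complement X hM hc
    exact ⟨hk ▸ e1, hk₀ ▸ e2, hl ▸ e3⟩
  all_goals
    obtain ⟨n, hn, h6, hl', hk'⟩ := main (by omega)
    subst h
    omega

end Cfsg.Agent.S4752
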