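import Cfsg.Statements.S4754
import Cfsg.Agent.Lib.ClassCount.CharSum

set_option autoImplicit false
open Cfsg

namespace Cfsg.Agent.S4754

open Cfsg.Agent

/-- Averaging over two classes. -/
theorem eq_of_const_on_products {G : Type*} [Group G] [Finite G] (x y : G) (χ : Cfsg.IrrCharacter G)
    (v : ℂ) (h : ∀ g k : G, IsConj x g → IsConj y k → (χ : G → ℂ) (g * k) = v) :
    (χ : G → ℂ) 1 * v = (χ : G → ℂ) x * (χ : G → ℂ) y := by
  classical
  have := Fintype.ofFinite G
  have e1 : ∑ k ∈ Finset.univ.filter (fun k => IsConj y k),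
      ∑ g ∈ Finset.univ.filter (fun g => IsConj x g), (χ : G → ℂ) (g * k) =
      ∑ k ∈ Finset.univ.filter (fun k => IsConj y k),
        ClassCount.omega (χ : G → ℂ) x * (χ : G → ℂ) y :=
    Finset.sum_congr rfl fun k hk => by
      rw [ClassCount.sum_class_apply_mul χ.2 x k,
        ClassCount.class_apply (Char.IsIrrCharacter.isClassFunction χ.2) (Finset.mem_filter.mp hk).2]
  rw [Finset.sum_congr rfl (fun k hk => Finset.sum_congr rfl (fun g hg =>
    h g k (Finset.mem_filter.mp hg).2 (Finset.mem_filter.mp hk).2))] at e1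
  simp only [Finset.sum_const, nsmul_eq_mul, ClassCount.omega, Nat.card_eq_fintype_card,
    Fintype.card_subtype] at e1
  have hx0 : ((Finset.univ.filter (fun g => IsConj x g)).card : ℂ) ≠ 0 :=
    Nat.cast_ne_zero.mpr (Finset.card_ne_zero.mpr ⟨x, Finset.mem_filter.mpr ⟨Finset.mem_univ _, IsConj.refl _⟩⟩)
  have hy0 : ((Finset.univ.filter (fun g => IsConj y g)).card : ℂ) ≠ 0 :=
    Nat.cast_ne_zero.mpr (Finset.card_ne_zero.mpr ⟨y, Finset.mem_filter.mpr ⟨Finset.mem_univ _, IsConj.refl _⟩⟩)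
  have hne := Char.IsIrrCharacter.apply_one_ne_zero χ.2
  field_simp at e1
  linear_combination e1

theorem exists_product_iff {G : Type*} [Group G] [Finite G] (x y : G)
    (h : ∀ a b : G, IsConj (x * y) (a * x * a⁻¹ * (b * y * b⁻¹))) (z : G) :
    IsConj (x * y) z ↔ ∃ a b : G, z = a * x * a⁻¹ * (b * y * b⁻¹) := by
  constructor
  · intro hz
    obtain ⟨c, rfl⟩ := isConj_iff.mp hz
    exact ⟨c, c, by group⟩
  · rintro ⟨a, b, rfl⟩; exact h a b


/-- For elements x, y of a finite group G, the conjugacy class of x y equals the set of all products of a conjugate of x with a conjugate of y if and only if χ(1) χ(a x a⁻¹ b y b⁻¹) = χ(x) χ(y) for all a, b ∈ G and every irreducible character χ. -/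
theorem result {G : Type*} [Group G] [Finite G] (x y : G) : (∀ z : G, IsConj (x * y) z ↔ ∃ a b : G, z = a * x * a⁻¹ * (b * y * b⁻¹)) ↔ ∀ (a b : G) (χ : Cfsg.IrrCharacter G), (χ : G → ℂ) 1 * (χ : G → ℂ) (a * x * a⁻¹ * (b * y * b⁻¹)) = (χ : G → ℂ) x * (χ : G → ℂ) y := by
  constructor
  · intro h a b χ
    have hxy : ∀ g k : G, IsConj x g → IsConj y k → (χ : G → ℂ) (g * k) = (χ : G → ℂ) (x * y) := by
      intro g k hg hk
      obtain ⟨a, rfl⟩ := isConj_iff.mp hg
      obtain ⟨b, rfl⟩ := isConj_iff.mp hk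
      exact ClassCount.class_apply (Char.IsIrrCharacter.isClassFunction χ.2)
        ((h _).mpr ⟨a, b, rfl⟩)
    rw [hxy _ _ (isConj_iff.mpr ⟨a, rfl⟩) (isConj_iff.mpr ⟨b, rfl⟩)]
    exact eq_of_const_on_products x y χ _ hxy
  · intro h
    refine exists_product_iff x y fun a b => ?_
    rw [Char.isConj_iff_irr]
    intro χ
    apply mul_left_cancel₀ (Char.IsIrrCharacter.apply_one_ne_zero χ.2)
    have h1 := h 1 1 χ
    simp only [one_mul, inv_one, mul_one] at h1
    rw [h1, h a b χ]

end Cfsg.Agent.S4754
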