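import Cfsg.Statements.S4755
import Cfsg.Agent.S4754
import Cfsg.Agent.Lib.Char.Linear

set_option autoImplicit false
open Cfsg

namespace Cfsg.Agent.S4755

open Cfsg.Agent
open scoped commutatorElement


/-- Let x, y be non-identity elements of the finite group G such that χ(x' y') = χ(x') χ(y') for all conjugates x' of x, y' of y and every irreducible character χ. Then the conjugacy class of x y is the set of all products of a conjugate of x with a conjugate of y; every irreducible character of degree greater than 1 vanishes at x y; and the conjugacy class of x y is the coset of the commutator subgroup containing x y. -/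
theorem result {G : Type*} [Group G] [Finite G] (x y : G) (hx : x ≠ 1) (hy : y ≠ 1) (h : ∀ (a b : G) (χ : Cfsg.IrrCharacter G), (χ : G → ℂ) (a * x * a⁻¹ * (b * y * b⁻¹)) = (χ : G → ℂ) (a * x * a⁻¹) * (χ : G → ℂ) (b * y * b⁻¹)) : (∀ z : G, IsConj (x * y) z ↔ ∃ a b : G, z = a * x * a⁻¹ * (b * y * b⁻¹)) ∧ (∀ χ : Cfsg.IrrCharacter G, (χ : G → ℂ) 1 ≠ 1 → (χ : G → ℂ) (x * y) = 0) ∧ (∀ z : G, IsConj (x * y) z ↔ (x * y)⁻¹ * z ∈ commutator G) := by
  classical
  have := Fintype.ofFinite G
  have := Fintype.ofFinite (Cfsg.IrrCharacter G)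
  have hval : ∀ (χ : Cfsg.IrrCharacter G) (a b : G),
      (χ : G → ℂ) (a * x * a⁻¹ * (b * y * b⁻¹)) = (χ : G → ℂ) x * (χ : G → ℂ) y := by
    intro χ a b
    rw [h a b χ, Char.IsIrrCharacter.isClassFunction χ.2 x a,
      Char.IsIrrCharacter.isClassFunction χ.2 y b]
  have hxy : ∀ χ : Cfsg.IrrCharacter G,
      (χ : G → ℂ) (x * y) = (χ : G → ℂ) x * (χ : G → ℂ) y := fun χ => by simpa using hval χ 1 1
  have hzero : ∀ χ : Cfsg.IrrCharacter G, (χ : G → ℂ) 1 ≠ 1 → (χ : G → ℂ) (x * y) = 0 := by
    intro χ hne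
    have := S4754.eq_of_const_on_products x y χ _ (fun g k hg hk => by
      obtain ⟨a, rfl⟩ := isConj_iff.mp hg
      obtain ⟨b, rfl⟩ := isConj_iff.mp hk
      exact hval χ a b)
    rw [hxy]
    by_contra h0
    exact hne (mul_right_cancel₀ h0 (by rw [this, one_mul]))
  refine ⟨S4754.exists_product_iff x y fun a b => (Char.isConj_iff_irr _ _).mpr fun χ => by
    rw [hxy, hval], hzero, fun z => ⟨fun hz => ?_, fun hz => ?_⟩⟩
  · obtain ⟨c, rfl⟩ := isConj_iff.mp hz
    have : ⁅(x * y)⁻¹, c⁆ ∈ commutator G :=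
      Subgroup.commutator_mem_commutator (Subgroup.mem_top _) (Subgroup.mem_top _)
    rwa [commutatorElement_def, inv_inv, show (x * y)⁻¹ * c * (x * y) * c⁻¹ =
      (x * y)⁻¹ * (c * (x * y) * c⁻¹) by group] at this
  · by_contra hnc
    have h1 := Char.column_orth (G := G) (x * y) z
    rw [if_neg hnc] at h1
    have h2 : ∀ χ : Cfsg.IrrCharacter G, (χ : G → ℂ) (x * y) * (starRingEnd ℂ) ((χ : G → ℂ) z) =
        if (χ : G → ℂ) 1 = 1 then 1 else 0 := by
      intro χ
      split_ifs with h1'
      · obtain ⟨l, hl⟩ := Char.exists_hom_of_degree_one (Char.IsIrrCharacter.isCharacter χ.2) h1'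
        rw [← Char.IsCharacter.apply_inv (Char.IsIrrCharacter.isCharacter χ.2), ← hl, ← map_mul]
        have hker : commutator G ≤ l.toHomUnits.ker := Abelianization.commutator_subset_ker _
        have h3 := hker (inv_mem hz)
        rw [MonoidHom.mem_ker, Units.ext_iff, MonoidHom.coe_toHomUnits, mul_inv_rev, inv_inv] at h3
        rw [map_mul] at h3 ⊢
        rw [mul_comm, h3]; simp
      · rw [hzero χ h1', zero_mul]
    rw [Finset.sum_congr rfl (fun χ _ => h2 χ), Finset.sum_boole, Nat.cast_eq_zero,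
      Finset.card_eq_zero, Finset.filter_eq_empty_iff] at h1
    exact h1 (Finset.mem_univ ⟨fun _ => 1, Char.isIrrCharacter_one⟩) rfl

end Cfsg.Agent.S4755
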