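import Cfsg.Statements.S4756
import Cfsg.Agent.S4755
import Cfsg.Agent.Lib.Char.Linear
import Cfsg.Agent.Lib.CharApp.Clifford
import Cfsg.Agent.Lib.Coprime.Generation
import Cfsg.Agent.Lib.Coprime.Invariant
import Cfsg.Agent.Lib.Blocks.Defect

set_option autoImplicit false
open Cfsg

namespace Cfsg.Agent.S4756

open scoped ComplexConjugate commutatorElement

variable {G : Type*} [Group G] [Finite G]

theorem linear_of_mem_commutator {χ : IrrCharacter G} (h1 : (χ : G → ℂ) 1 = 1) {u : G}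
    (hu : u ∈ commutator G) : (χ : G → ℂ) u = 1 := by
  obtain ⟨l, hl⟩ := Char.exists_hom_of_degree_one (Char.IsIrrCharacter.isCharacter χ.2) h1
  have h := (Abelianization.commutator_subset_ker l.toHomUnits) hu
  rw [MonoidHom.mem_ker, Units.ext_iff, MonoidHom.coe_toHomUnits] at h
  rw [← hl]
  exact h

open scoped Classical in
/-- A column through the linear characters: the non-linear ones contribute the rest. -/
theorem centralizer_eq_index_add [Fintype (IrrCharacter G)] (g : G) :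
    (Nat.card (Subgroup.centralizer ({g} : Set G)) : ℝ) = (commutator G).index +
      ∑ χ ∈ Finset.univ.filter (fun χ : IrrCharacter G => ¬ (χ : G → ℂ) 1 = 1),
        Complex.normSq ((χ : G → ℂ) g) := by
  have := Fintype.ofFinite G
  have h := Char.column_orth g g
  rw [if_pos (IsConj.refl g), ← Finset.sum_filter_add_sum_filter_not Finset.univ
    (fun χ : IrrCharacter G => (χ : G → ℂ) 1 = 1)] at h
  have hlin : ∀ χ ∈ Finset.univ.filter (fun χ : IrrCharacter G => (χ : G → ℂ) 1 = 1),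
      (χ : G → ℂ) g * conj ((χ : G → ℂ) g) = 1 := by
    intro χ hχ
    obtain ⟨l, hl⟩ := Char.exists_hom_of_degree_one (Char.IsIrrCharacter.isCharacter χ.2)
      (Finset.mem_filter.mp hχ).2
    rw [← Char.IsCharacter.apply_inv (Char.IsIrrCharacter.isCharacter χ.2), ← hl, ← map_mul,
      mul_inv_cancel, map_one]
  rw [Finset.sum_congr rfl hlin, Finset.sum_const, nsmul_one] at h
  apply Complex.ofReal_injective
  rw [Complex.ofReal_natCast, Complex.ofReal_add, Complex.ofReal_natCast, Complex.ofReal_sum, ← h,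
    ← Char.card_linear_irr, Nat.card_eq_fintype_card, Fintype.card_subtype]
  simp only [Complex.mul_conj]

theorem structure_of_mult
    (h : ∀ (x y : G) (χ : IrrCharacter G), x ≠ 1 → y ≠ 1 → (∃ p q a b : ℕ, p.Prime ∧ q.Prime ∧
      p ≠ q ∧ orderOf x = p ^ a ∧ orderOf y = q ^ b) →
      (χ : G → ℂ) (x * y) = (χ : G → ℂ) x * (χ : G → ℂ) y)
    (hnp : ¬ ∃ p : ℕ, p.Prime ∧ IsPGroup p G) (hnab : ¬ IsMulCommutative G) :
    ∃ (p : ℕ) (_ : Fact p.Prime) (P : Sylow p G) (A : Subgroup G), (P : Subgroup G).Normal ∧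
      IsCyclic ↥A ∧ A ≠ ⊥ ∧ (Nat.card ↥A).Coprime p ∧ A ⊔ (P : Subgroup G) = ⊤ ∧
      IsMulCommutative ↥((P : Subgroup G) ⊓ Subgroup.centralizer (A : Set G)) ∧
      (⁅A, (P : Subgroup G)⁆).Normal ∧
      ((P : Subgroup G) ⊓ Subgroup.centralizer (A : Set G)) ⊔ ⁅A, (P : Subgroup G)⁆ = (P : Subgroup G) ∧
      ((P : Subgroup G) ⊓ Subgroup.centralizer (A : Set G)) ⊓ ⁅A, (P : Subgroup G)⁆ = ⊥ ∧
      ∀ a ∈ A, a ≠ 1 → ∀ d ∈ ⁅A, (P : Subgroup G)⁆, a * d = d * a → d = 1 := by
  classical
  have := Fintype.ofFinite G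
  have := Fintype.ofFinite (IrrCharacter G)
  have hconj : ∀ a x : G, orderOf (a * x * a⁻¹) = orderOf x := fun a x =>
    MulEquiv.orderOf_eq (MulAut.conj a) x
  have hprod : ∀ (x y : G) (q r i j : ℕ), x ≠ 1 → y ≠ 1 → q.Prime → r.Prime → q ≠ r →
      orderOf x = q ^ i → orderOf y = r ^ j → ∀ χ : IrrCharacter G, ¬ (χ : G → ℂ) 1 = 1 →
      (χ : G → ℂ) x * (χ : G → ℂ) y = 0 := by
    intro x y q r i j hx hy hq hr hqr hi hj χ hχ
    have h4 := S4755.result x y hx hy fun a b ψ => h _ _ ψ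
      (fun he => hx (by simpa using he)) (fun he => hy (by simpa using he))
      ⟨q, r, i, j, hq, hr, hqr, (hconj a x).trans hi, (hconj b y).trans hj⟩
    rw [← h x y χ hx hy ⟨q, r, i, j, hq, hr, hqr, hi, hj⟩]
    exact h4.2.1 χ hχ
  have hne : commutator G ≠ ⊥ := by
    intro hb
    refine hnab ⟨⟨fun a b => ?_⟩⟩
    have h1 : ⁅a, b⁆ ∈ commutator G :=
      Subgroup.commutator_mem_commutator (Subgroup.mem_top _) (Subgroup.mem_top _)
    rw [hb, Subgroup.mem_bot] at h1
    exact commutatorElement_eq_one_iff_mul_comm.mp h1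
  -- two elements of different prime orders never lie together in the derived group
  have hA : ∀ (x y : G) (q r : ℕ), q.Prime → r.Prime → q ≠ r → orderOf x = q → orderOf y = r →
      x ∈ commutator G → y ∈ commutator G → False := by
    intro x y q r hq hr hqr hx hy hxG hyG
    have hx1 : x ≠ 1 := fun h0 => hq.one_lt.ne (by rw [← hx, h0, orderOf_one])
    have hy1 : y ≠ 1 := fun h0 => hr.one_lt.ne (by rw [← hy, h0, orderOf_one])
    have h0 := Char.column_orth x y⁻¹
    rw [if_neg] at h0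
    swap
    · rintro hc
      obtain ⟨c, hc⟩ := isConj_iff.mp hc
      exact hqr (by rw [← hx, ← hy, ← hconj c x, hc, orderOf_inv])
    rw [Finset.sum_congr rfl (g := fun χ : IrrCharacter G => if (χ : G → ℂ) 1 = 1 then (1 : ℂ) else 0)
      fun χ _ => ?_] at h0
    · rw [Finset.sum_boole, Nat.cast_eq_zero, Finset.card_eq_zero, Finset.filter_eq_empty_iff] at h0
      exact h0 (Finset.mem_univ ⟨fun _ => 1, Char.isIrrCharacter_one⟩) rfl
    · rw [← Char.IsCharacter.apply_inv (Char.IsIrrCharacter.isCharacter χ.2), inv_inv]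
      split_ifs with h1
      · rw [linear_of_mem_commutator h1 hxG, linear_of_mem_commutator h1 hyG, one_mul]
      · exact hprod x y q r 1 1 hx1 hy1 hq hr hqr (by rw [pow_one, hx]) (by rw [pow_one, hy]) χ h1
  obtain ⟨p, hp, hpd⟩ := Nat.exists_prime_and_dvd
    (n := Nat.card (commutator G)) (fun h1 => hne (Subgroup.eq_bot_of_card_eq _ h1))
  have : Fact p.Prime := ⟨hp⟩
  have hGp : IsPGroup p (commutator G) := by
    refine IsPGroup.of_card (n := (Nat.card (commutator G)).primeFactorsList.length)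
      (Nat.eq_prime_pow_of_unique_prime_dvd Nat.card_pos.ne' fun {q} hq hqd => by_contra fun hqp => ?_)
    have : Fact q.Prime := ⟨hq⟩
    obtain ⟨x, hx⟩ := exists_prime_orderOf_dvd_card' q hqd
    obtain ⟨y, hy⟩ := exists_prime_orderOf_dvd_card' p hpd
    exact hA x y q p hq hp hqp (by rw [← hx, Subgroup.orderOf_coe]) (by rw [← hy, Subgroup.orderOf_coe])
      x.2 y.2
  obtain ⟨P⟩ : Nonempty (Sylow p G) := inferInstance
  have hGP : commutator G ≤ P := by
    have hs : IsPGroup p (commutator G ⊔ P : Subgroup G) := hGp.to_sup_of_normal_left P.2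
    rw [← P.3 hs le_sup_right]
    exact le_sup_left
  have hPn : (P : Subgroup G).Normal := ⟨fun n hn g => by
    have h1 : ⁅g, n⁆ ∈ (P : Subgroup G) :=
      hGP (Subgroup.commutator_mem_commutator (Subgroup.mem_top _) (Subgroup.mem_top _))
    have h2 := mul_mem h1 hn
    rwa [commutatorElement_def, mul_assoc, inv_mul_cancel, mul_one] at h2⟩
  obtain ⟨A, hA'⟩ := Subgroup.exists_right_complement'_of_coprime (Sylow.card_coprime_index P)
  have hAc : Nat.card A = (P : Subgroup G).index := (hA'.symm.index_eq_card).symm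
  have hApc : (Nat.card A).Coprime p := by
    rw [hAc]
    exact ((Fact.out : p.Prime).coprime_iff_not_dvd.mpr P.not_dvd_index).symm
  have hAab : IsMulCommutative A := ⟨⟨fun a b => Subtype.ext (by
    have h1 : ⁅(a : G), (b : G)⁆ ∈ A ⊓ (P : Subgroup G) := ⟨by
      rw [commutatorElement_def]
      exact A.mul_mem (A.mul_mem (A.mul_mem a.2 b.2) (A.inv_mem a.2)) (A.inv_mem b.2),
      hGP (Subgroup.commutator_mem_commutator (Subgroup.mem_top _) (Subgroup.mem_top _))⟩
    rw [hA'.symm.disjoint.eq_bot, Subgroup.mem_bot] at h1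
    exact commutatorElement_eq_one_iff_mul_comm.mp h1)⟩⟩
  have hAne : A ≠ ⊥ := fun h0 => hnp ⟨p, hp, by
    have hPt : (P : Subgroup G) = ⊤ := by
      have := hA'.sup_eq_top
      rwa [h0, sup_bot_eq] at this
    have h2 : IsPGroup p (⊤ : Subgroup G) := hPt ▸ P.2
    exact h2.of_equiv Subgroup.topEquiv⟩
  have hsup : A ⊔ (P : Subgroup G) = ⊤ := by rw [sup_comm]; exact hA'.sup_eq_top
  have hAP : A ≤ Subgroup.normalizer ((P : Subgroup G) : Set G) := Subgroup.le_normalizer_of_normal
  have hcopP : ∀ X : Subgroup G, X ≤ A → (Nat.card X).Coprime (Nat.card (P : Subgroup G)) := fun X hX => by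
    obtain ⟨k, hk⟩ := IsPGroup.iff_card.mp P.2
    rw [hk]
    exact (Nat.Coprime.pow_right k hApc).coprime_dvd_left (Subgroup.card_dvd_of_le hX)
  have hfix : ∀ a ∈ A, a ≠ 1 → ∀ d ∈ commutator G, a * d = d * a → d = 1 := by
    intro a ha ha1 d hd hcomm
    obtain ⟨q, hq, hqd⟩ := Nat.exists_prime_and_dvd (n := orderOf a)
      (fun h0 => ha1 (orderOf_eq_one_iff.mp h0))
    set x := a ^ (orderOf a / q) with hx
    have hxo : orderOf x = q := orderOf_pow_orderOf_div (orderOf_pos a).ne' hqd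
    have hxA : x ∈ A := pow_mem ha _
    have hqA : q ∣ Nat.card A := by
      rw [← hxo]; exact Subgroup.orderOf_dvd_natCard _ hxA
    have hqp : q ≠ p := fun h0 => (Fact.out : p.Prime).coprime_iff_not_dvd.mp hApc.symm (h0 ▸ hqA)
    have hx1 : x ≠ 1 := fun h0 => hq.one_lt.ne (by rw [← hxo, h0, orderOf_one])
    have hvan : ∀ χ : IrrCharacter G, ¬ (χ : G → ℂ) 1 = 1 → (χ : G → ℂ) x = 0 := by
      intro χ hχ
      by_contra hne0
      have hz : ∀ u : commutator G, u ≠ 1 → (χ : G → ℂ) u = 0 := fun u hu => by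
        obtain ⟨k, hk⟩ := IsPGroup.iff_orderOf.mp hGp u
        refine (mul_eq_zero.mp (hprod x u q p 1 k hx1 (fun h0 => hu (Subtype.ext h0)) hq hp hqp
          (by rw [pow_one, hxo]) (by rw [Subgroup.orderOf_coe, hk]) χ hχ)).resolve_left hne0
      have hcl : classInner (fun n : commutator G => (χ : G → ℂ) n) 1 ≠ 0 := by
        rw [classInner, Finset.sum_eq_single (1 : commutator G)]
        · exact mul_ne_zero (inv_ne_zero (Nat.cast_ne_zero.mpr Nat.card_pos.ne'))
            (mul_ne_zero (Blocks.irr_one_ne_zero χ) (by simp))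
        · intro u _ hu
          rw [hz u hu, zero_mul]
        · simp
      obtain ⟨u, hu⟩ := Subgroup.ne_bot_iff_exists_ne_one.mp hne
      exact Blocks.irr_one_ne_zero χ
        ((CharApp.trivOn_of_constituent_one (commutator G) χ.2 hcl u).symm.trans (hz u hu))
    have hC : Nat.card (Subgroup.centralizer ({x} : Set G)) = (commutator G).index := by
      have h1 := centralizer_eq_index_add x
      rw [Finset.sum_eq_zero (fun χ hχ => by rw [hvan χ (Finset.mem_filter.mp hχ).2, map_zero]),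
        add_zero] at h1
      exact_mod_cast h1
    set C := Subgroup.centralizer ({x} : Set G) with hCdef
    have hxz : Subgroup.zpowers x ≤ A := Subgroup.zpowers_le.mpr hxA
    have hCsup : commutator G ⊔ C = ⊤ := by
      refine top_le_iff.mp (hsup ▸ sup_le (fun c hc => ?_) ?_)
      · refine Subgroup.mem_sup_right (Subgroup.mem_centralizer_iff.mpr fun z hz => ?_)
        rw [Set.mem_singleton_iff.mp hz]
        exact congrArg Subtype.val (hAab.is_comm.comm ⟨x, hxA⟩ ⟨c, hc⟩)
      · refine le_trans (le_of_eq (Coprime.commutator_sup_centralizer (hxz.trans hAP)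
          (hcopP _ hxz) (Or.inr ?_)).symm) (sup_le ?_ ?_)
        · have := P.2.isNilpotent
          infer_instance
        · exact le_sup_of_le_left (Subgroup.commutator_mono le_top le_top)
        · refine le_sup_of_le_right (inf_le_right.trans (Subgroup.centralizer_le ?_))
          rintro _ rfl
          exact Subgroup.mem_zpowers x
    have h2 := Subgroup.relIndex_sup_right C (commutator G)
    rw [sup_comm, hCsup, Subgroup.relIndex_top_right] at h2
    have h3 : (commutator G).relIndex C * Nat.card ((commutator G).subgroupOf C) = Nat.card C :=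
      Subgroup.index_mul_card _
    rw [← h2, hC] at h3
    have h4 : Nat.card ((commutator G).subgroupOf C) = 1 :=
      mul_left_cancel₀ Subgroup.index_ne_zero_of_finite (h3.trans (mul_one _).symm)
    have hdC : d ∈ C := Subgroup.mem_centralizer_iff.mpr fun z hz => by
      rw [Set.mem_singleton_iff.mp hz]
      exact (show Commute a d from hcomm).pow_left _
    have h5 : (⟨d, hdC⟩ : C) ∈ (⊥ : Subgroup C) :=
      (Subgroup.eq_bot_of_card_eq _ h4) ▸ Subgroup.mem_subgroupOf.mpr hd
    exact congrArg Subtype.val (Subgroup.mem_bot.mp h5)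
  obtain ⟨a₀, ha₀⟩ := Subgroup.ne_bot_iff_exists_ne_one.mp hAne
  have ha₀' : (a₀ : G) ≠ 1 := fun h0 => ha₀ (Subtype.ext h0)
  have hfixA : ∀ d ∈ commutator G, d ∈ Subgroup.centralizer (A : Set G) → d = 1 := fun d hd hdA =>
    hfix a₀ a₀.2 ha₀' d hd (hdA _ a₀.2)
  have hD : ⁅A, (P : Subgroup G)⁆ ≤ commutator G := Subgroup.commutator_mono le_top le_top
  refine ⟨p, this, P, A, hPn, ?_, hAne, hApc, hsup, ?_, ?_, ?_, ?_, fun a ha ha1 d hd => hfix a ha ha1 d (hD hd)⟩
  · by_contra hcyc
    refine hne (le_bot_iff.mp (Coprime.le_of_noncyclic hcyc Subgroup.le_normalizer_of_normal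
      ((hcopP A le_rfl).coprime_dvd_right (Subgroup.card_dvd_of_le hGP)) fun a ha ha1 d hd => ?_))
    exact Subgroup.mem_bot.mpr (hfix a ha ha1 d hd.1
      (Subgroup.mem_centralizer_iff.mp hd.2 a rfl))
  · refine ⟨⟨fun a b => Subtype.ext ?_⟩⟩
    have h1 : ⁅(a : G), (b : G)⁆ ∈ Subgroup.centralizer (A : Set G) := by
      rw [commutatorElement_def]
      exact mul_mem (mul_mem (mul_mem a.2.2 b.2.2) (inv_mem a.2.2)) (inv_mem b.2.2)
    exact commutatorElement_eq_one_iff_mul_comm.mp (hfixA _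
      (Subgroup.commutator_mem_commutator (Subgroup.mem_top _) (Subgroup.mem_top _)) h1)
  · refine Subgroup.normalizer_eq_top_iff.mp (top_le_iff.mp (hsup ▸ sup_le ?_ ?_))
    · exact Subgroup.normalizer_commutator_ge_left A _
    · exact Subgroup.normalizer_commutator_ge_right A _
  · rw [sup_comm, Subgroup.commutator_comm]
    refine Coprime.commutator_sup_centralizer hAP (hcopP A le_rfl) (Or.inr ?_)
    have := P.2.isNilpotent
    infer_instance
  · exact le_bot_iff.mp fun d hd => Subgroup.mem_bot.mpr (hfixA d (hD hd.2) hd.1.2)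

theorem mult_of_structure {p : ℕ} [Fact p.Prime] (P : Sylow p G) (A : Subgroup G)
    (hn : (P : Subgroup G).Normal) (hcyc : IsCyclic ↥A) (hcop : (Nat.card ↥A).Coprime p)
    (hsup : A ⊔ (P : Subgroup G) = ⊤)
    (hC : IsMulCommutative ↥((P : Subgroup G) ⊓ Subgroup.centralizer (A : Set G)))
    (hDn : (⁅A, (P : Subgroup G)⁆).Normal)
    (hCD : ((P : Subgroup G) ⊓ Subgroup.centralizer (A : Set G)) ⊔ ⁅A, (P : Subgroup G)⁆
      = (P : Subgroup G))
    (hfpf : ∀ a ∈ A, a ≠ 1 → ∀ d ∈ ⁅A, (P : Subgroup G)⁆, a * d = d * a → d = 1)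
    (χ : IrrCharacter G) (hχ : ¬ (χ : G → ℂ) 1 = 1) {g : G} (hg : g ∉ (P : Subgroup G)) :
    (χ : G → ℂ) g = 0 := by
  classical
  have := Fintype.ofFinite (IrrCharacter G)
  set C := (P : Subgroup G) ⊓ Subgroup.centralizer (A : Set G)
  set D := ⁅A, (P : Subgroup G)⁆
  set L := A ⊔ C
  have hLab : L ≤ Subgroup.centralizer (L : Set G) := by
    have hAA : A ≤ Subgroup.centralizer (A : Set G) := fun a ha b hb =>
      congrArg Subtype.val ((IsCyclic.commutative (α := A)).is_comm.comm ⟨b, hb⟩ ⟨a, ha⟩)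
    have hCC : C ≤ Subgroup.centralizer (C : Set G) := fun a ha b hb =>
      congrArg Subtype.val (hC.is_comm.comm ⟨b, hb⟩ ⟨a, ha⟩)
    have h1 : L ≤ Subgroup.centralizer (A : Set G) := sup_le hAA inf_le_right
    have h2 : L ≤ Subgroup.centralizer (C : Set G) :=
      sup_le (Subgroup.le_centralizer_iff.mp inf_le_right) hCC
    exact Subgroup.le_centralizer_iff.mp
      (sup_le (Subgroup.le_centralizer_iff.mp h1) (Subgroup.le_centralizer_iff.mp h2))
  have hLD : ∀ x : G, ∃ d ∈ D, ∃ l ∈ L, d * l = x := fun x =>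
    (Coprime.mem_sup_iff Subgroup.le_normalizer_of_normal).mp (by
      rw [sup_comm, sup_assoc, hCD, hsup]; exact Subgroup.mem_top x)
  let π := QuotientGroup.mk' D
  have hGD : commutator G ≤ D := by
    rw [commutator_def, Subgroup.commutator_le]
    intro x _ y _
    obtain ⟨d, hd, l, hl, rfl⟩ := hLD x
    obtain ⟨e, he, m, hm, rfl⟩ := hLD y
    have hd' : π d = 1 := (QuotientGroup.eq_one_iff d).mpr hd
    have he' : π e = 1 := (QuotientGroup.eq_one_iff e).mpr he
    refine (QuotientGroup.eq_one_iff _).mp (show π _ = 1 from ?_)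
    rw [map_commutatorElement, map_mul, map_mul, hd', he', one_mul, one_mul,
      ← map_commutatorElement, commutatorElement_eq_one_iff_mul_comm.mpr (hLab hm l hl), map_one]
  obtain ⟨k, hk⟩ := IsPGroup.iff_card.mp P.2
  -- centralisers in `D` of elements outside `P` are trivial
  have hfree : ∀ e ∈ D, g * e = e * g → e = 1 := by
    obtain ⟨d', hd', l, hl, hgl⟩ := hLD g
    obtain ⟨c, hc, a, ha, hca⟩ := (Coprime.mem_sup_iff (N := C) (H := A)
      (fun a ha => Subgroup.centralizer_le_normalizer (C : Set G)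
        (Subgroup.le_centralizer_iff.mp inf_le_right ha))).mp (show l ∈ C ⊔ A by
          rw [sup_comm]; exact hl)
    have ha1 : a ≠ 1 := by
      rintro rfl
      refine hg ?_
      rw [← hgl, ← hca, mul_one]
      exact mul_mem (hCD ▸ Subgroup.mem_sup_right hd') hc.1
    have hl1 : ∀ e ∈ D, l * e = e * l → e = 1 := by
      intro e he hcomm
      have hcmm : Commute c a := (hc.2 a ha).symm
      have hcP : c ^ Nat.card (P : Subgroup G) = 1 :=
        orderOf_dvd_iff_pow_eq_one.mp (Subgroup.orderOf_dvd_natCard _ hc.1)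
      have h1 : l ^ Nat.card (P : Subgroup G) = a ^ Nat.card (P : Subgroup G) := by
        rw [← hca, hcmm.mul_pow, hcP, one_mul]
      have h2 : a ^ Nat.card (P : Subgroup G) ≠ 1 := fun h0 => ha1 (by
        have hco : (orderOf a).Coprime (Nat.card (P : Subgroup G)) := by
          rw [hk]
          exact (Nat.Coprime.pow_right k hcop).coprime_dvd_left (Subgroup.orderOf_dvd_natCard _ ha)
        exact orderOf_eq_one_iff.mp (Nat.Coprime.eq_one_of_dvd hco (orderOf_dvd_iff_pow_eq_one.mpr h0)))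
      refine hfpf _ (pow_mem ha _) h2 e he ?_
      rw [← h1]
      exact ((show Commute l e from hcomm).pow_left _).eq
    let f : D → D := fun d => ⟨d * (l * (d : G)⁻¹ * l⁻¹), mul_mem d.2 (hDn.conj_mem _ (inv_mem d.2) l)⟩
    have hf : Function.Injective f := by
      intro d₁ d₂ h
      have h' : (d₁ : G) * (l * (d₁ : G)⁻¹ * l⁻¹) = d₂ * (l * (d₂ : G)⁻¹ * l⁻¹) :=
        congrArg Subtype.val h
      have h3 := hl1 ((d₂ : G)⁻¹ * d₁) (mul_mem (inv_mem d₂.2) d₁.2) (by
        have h4 : (d₂ : G)⁻¹ * d₁ * l = l * ((d₂ : G)⁻¹ * d₁) := by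
          calc (d₂ : G)⁻¹ * d₁ * l
              = (d₂ : G)⁻¹ * ((d₁ : G) * (l * (d₁ : G)⁻¹ * l⁻¹)) * l * d₁ := by group
            _ = (d₂ : G)⁻¹ * ((d₂ : G) * (l * (d₂ : G)⁻¹ * l⁻¹)) * l * d₁ := by rw [h']
            _ = l * ((d₂ : G)⁻¹ * d₁) := by group
        exact h4.symm)
      exact Subtype.ext (inv_mul_eq_one.mp h3).symm
    obtain ⟨d, hd⟩ := (Finite.injective_iff_surjective.mp hf) ⟨d', hd'⟩
    have hg' : g = (d : G) * l * (d : G)⁻¹ := by
      rw [← hgl, ← show (d : G) * (l * (d : G)⁻¹ * l⁻¹) = d' from congrArg Subtype.val hd]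
      group
    intro e he hcomm
    have := hl1 ((d : G)⁻¹ * e * d) (mul_mem (mul_mem (inv_mem d.2) he) d.2) (by
      calc l * ((d : G)⁻¹ * e * d) = (d : G)⁻¹ * (g * e) * d := by rw [hg']; group
        _ = (d : G)⁻¹ * (e * g) * d := by rw [hcomm]
        _ = (d : G)⁻¹ * e * d * l := by rw [hg']; group)
    calc e = (d : G) * ((d : G)⁻¹ * e * d) * (d : G)⁻¹ := by group
      _ = 1 := by rw [this]; group
  have hle : Nat.card (Subgroup.centralizer ({g} : Set G)) ≤ (commutator G).index := by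
    refine le_trans ?_ (Nat.le_of_dvd (Nat.pos_of_ne_zero Subgroup.index_ne_zero_of_finite)
      (Subgroup.index_dvd_of_le hGD))
    rw [Subgroup.index_eq_card]
    refine Nat.card_le_card_of_injective (fun c => π (c : G)) fun c₁ c₂ h => Subtype.ext ?_
    have h1 : (c₁ : G)⁻¹ * c₂ ∈ D := QuotientGroup.eq.mp h
    have h2 := hfree _ h1 (Subgroup.mem_centralizer_iff.mp
      (mul_mem (inv_mem c₁.2) c₂.2 : (c₁ : G)⁻¹ * c₂ ∈ Subgroup.centralizer ({g} : Set G)) g rfl)
    exact inv_mul_eq_one.mp h2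
  have h0 : ∑ ψ ∈ Finset.univ.filter (fun ψ : IrrCharacter G => ¬ (ψ : G → ℂ) 1 = 1),
      Complex.normSq ((ψ : G → ℂ) g) ≤ 0 := by
    have h1 := centralizer_eq_index_add g
    have h2 : (Nat.card (Subgroup.centralizer ({g} : Set G)) : ℝ) ≤ (commutator G).index := by
      exact_mod_cast hle
    linarith
  refine Complex.normSq_eq_zero.mp (le_antisymm (le_trans ?_ h0) (Complex.normSq_nonneg _))
  exact Finset.single_le_sum (f := fun ψ : IrrCharacter G => Complex.normSq ((ψ : G → ℂ) g))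
    (fun ψ _ => Complex.normSq_nonneg _) (Finset.mem_filter.mpr ⟨Finset.mem_univ χ, hχ⟩)

end Cfsg.Agent.S4756

namespace Cfsg.Agent.S4756

/-- For a finite group G the following are equivalent. (1) χ(x y) = χ(x) χ(y) for every irreducible character χ and all non-identity elements x, y of prime power orders for two different primes. (2) G is a p-group for some prime p, or G is abelian, or for some prime p: G = A P with P a normal Sylow p-subgroup and A a nontrivial cyclic subgroup of order prime to p such that, with C = C_P(A) and D = [A, P], one has P = C D, C abelian, D normal in G, C ∩ D = 1, and A acts fixed-point-freely on D (no non-identity element of A centralizes a non-identity element of D). -/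
theorem result {G : Type*} [Group G] [Finite G] : (∀ (x y : G) (χ : Cfsg.IrrCharacter G), x ≠ 1 → y ≠ 1 → (∃ p q a b : ℕ, p.Prime ∧ q.Prime ∧ p ≠ q ∧ orderOf x = p ^ a ∧ orderOf y = q ^ b) → (χ : G → ℂ) (x * y) = (χ : G → ℂ) x * (χ : G → ℂ) y) ↔ ((∃ p : ℕ, p.Prime ∧ IsPGroup p G) ∨ IsMulCommutative G ∨ ∃ (p : ℕ) (_ : Fact p.Prime) (P : Sylow p G) (A : Subgroup G), (P : Subgroup G).Normal ∧ IsCyclic ↥A ∧ A ≠ ⊥ ∧ (Nat.card ↥A).Coprime p ∧ A ⊔ (P : Subgroup G) = ⊤ ∧ IsMulCommutative ↥((P : Subgroup G) ⊓ Subgroup.centralizer (A : Set G)) ∧ (⁅A, (P : Subgroup G)⁆).Normal ∧ ((P : Subgroup G) ⊓ Subgroup.centralizer (A : Set G)) ⊔ ⁅A, (P : Subgroup G)⁆ = (P : Subgroup G) ∧ ((P : Subgroup G) ⊓ Subgroup.centralizer (A : Set G)) ⊓ ⁅A, (P : Subgroup G)⁆ = ⊥ ∧ ∀ a ∈ A, a ≠ 1 → ∀ d ∈ ⁅A, (P : Subgroup G)⁆, a * d = d * a → d = 1) := by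
  constructor
  · intro h
    by_cases hp : ∃ p : ℕ, p.Prime ∧ IsPGroup p G
    · exact Or.inl hp
    by_cases hab : IsMulCommutative G
    · exact Or.inr (Or.inl hab)
    exact Or.inr (Or.inr (structure_of_mult h hp hab))
  · intro hG x y χ hx hy ⟨q, r, a, b, hq, hr, hqr, hxo, hyo⟩
    by_cases hlin : (χ : G → ℂ) 1 = 1
    · obtain ⟨l, hl⟩ := Char.exists_hom_of_degree_one (Char.IsIrrCharacter.isCharacter χ.2) hlin
      rw [← hl, map_mul]
    have hpow : ∀ (s z : G) (t c : ℕ), t.Prime → z ≠ 1 → orderOf z = t ^ c → ∀ p' : ℕ, p'.Prime →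
        (∃ k, orderOf z = p' ^ k) → t = p' := by
      intro _ z t c ht hz hzo p' hp' ⟨k, hk⟩
      have hc : c ≠ 0 := fun h0 => hz (by rw [← orderOf_eq_one_iff, hzo, h0, pow_zero])
      exact (Nat.prime_dvd_prime_iff_eq ht hp').mp
        (ht.dvd_of_dvd_pow (hk ▸ hzo ▸ dvd_pow_self t hc))
    rcases hG with ⟨p, hp, hpG⟩ | hab | ⟨p, hpf, P, A, hn, hcyc, -, hcop, hsup, hC, hDn, hCD, -, hfpf⟩
    · have : Fact p.Prime := ⟨hp⟩
      exact absurd ((hpow 1 x q a hq hx hxo p hp (IsPGroup.iff_orderOf.mp hpG x)).trans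
        (hpow 1 y r b hr hy hyo p hp (IsPGroup.iff_orderOf.mp hpG y)).symm) hqr
    · exact absurd (Char.apply_one_eq_one_of_comm (fun u v => hab.is_comm.comm u v) χ) hlin
    · have hvan : ∀ g : G, g ∉ (P : Subgroup G) → (χ : G → ℂ) g = 0 := fun g hg =>
        mult_of_structure P A hn hcyc hcop hsup hC hDn hCD hfpf χ hlin hg
      have hmemP : ∀ (z : G) (t c : ℕ), t.Prime → z ≠ 1 → orderOf z = t ^ c →
          z ∈ (P : Subgroup G) → t = p := fun z t c ht hz hzo hzP => by
        refine hpow 1 z t c ht hz hzo p hpf.out ?_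
        obtain ⟨k, hk⟩ := IsPGroup.iff_orderOf.mp P.2 ⟨z, hzP⟩
        exact ⟨k, by rw [← hk, ← Subgroup.orderOf_coe]⟩
      have hnot : ¬ (x ∈ (P : Subgroup G) ∧ y ∈ (P : Subgroup G)) := fun h =>
        hqr ((hmemP x q a hq hx hxo h.1).trans (hmemP y r b hr hy hyo h.2).symm)
      have hxy : x * y ∉ (P : Subgroup G) := by
        intro h
        have h1 : (QuotientGroup.mk' (P : Subgroup G)) x * QuotientGroup.mk' (P : Subgroup G) y = 1 := by
          rw [← map_mul]; exact (QuotientGroup.eq_one_iff _).mpr h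
        have h2 : orderOf (QuotientGroup.mk' (P : Subgroup G) x) ∣ q ^ a := hxo ▸ orderOf_map_dvd _ x
        have h3 : orderOf (QuotientGroup.mk' (P : Subgroup G) x) ∣ r ^ b := by
          rw [eq_inv_of_mul_eq_one_left h1, orderOf_inv]
          exact hyo ▸ orderOf_map_dvd _ y
        have h4 := orderOf_eq_one_iff.mp (Nat.eq_one_of_dvd_coprimes
          (Nat.Coprime.pow a b ((Nat.coprime_primes hq hr).mpr hqr)) h2 h3)
        have hxP : x ∈ (P : Subgroup G) := (QuotientGroup.eq_one_iff _).mp h4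
        exact hnot ⟨hxP, (Subgroup.mul_mem_cancel_left _ hxP).mp h⟩
      rw [hvan _ hxy]
      rcases not_and_or.mp hnot with h | h
      · rw [hvan x h, zero_mul]
      · rw [hvan y h, mul_zero]

end Cfsg.Agent.S4756
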