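import Cfsg.Statements.S4757
import Cfsg.Agent.Lib.Char.Linear
import Cfsg.Agent.Lib.ClassCount.CharSum
import Cfsg.Agent.Lib.Cores.Basic

set_option autoImplicit false
open Cfsg

namespace Cfsg.Agent.S4757

open Cfsg.Agent

variable {G : Type*} [Group G] [Finite G]

theorem linear_mul (χ ψ : Cfsg.IrrCharacter G) (h1 : (ψ : G → ℂ) 1 = 1) :
    Cfsg.IsIrrCharacter G (fun g => (χ : G → ℂ) g * (ψ : G → ℂ) g) := by
  have := Fintype.ofFinite G
  obtain ⟨l, hl⟩ := Char.exists_hom_of_degree_one (Char.IsIrrCharacter.isCharacter ψ.2) h1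
  rw [← hl]
  exact Char.IsIrrCharacter.mul_linear χ.2 l

theorem perfect_case {u : G} (hu : u ≠ 1) {c : ℂ}
    (hyp : ∀ χ : Cfsg.IrrCharacter G, (χ : G → ℂ) ≠ (fun _ => (1 : ℂ)) →
      ((χ : G → ℂ) 1 - (χ : G → ℂ) u = c ∨ (χ : G → ℂ) u = 0))
    (h0 : c = 0 ∨ (c = 2 ∧ ∀ χ : Cfsg.IrrCharacter G,
      (χ : G → ℂ) ≠ (fun _ => (1 : ℂ)) → (χ : G → ℂ) 1 ≠ 1)) : False := by
  classical
  have := Fintype.ofFinite G
  have := Fintype.ofFinite (Cfsg.IrrCharacter G)
  let one : Cfsg.IrrCharacter G := ⟨fun _ => 1, Char.isIrrCharacter_one⟩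
  have h := Char.sum_degree_mul_apply (G := G) u
  rw [if_neg hu] at h
  have hre := congrArg Complex.re h
  rw [Complex.re_sum, Complex.zero_re] at hre
  have hnn : ∀ χ : Cfsg.IrrCharacter G, 0 ≤ ((χ : G → ℂ) 1 * (χ : G → ℂ) u).re := by
    intro χ
    obtain ⟨n, hn, hn1, -⟩ := ClassCount.exists_degree_eq χ
    by_cases h1 : (χ : G → ℂ) = fun _ => (1 : ℂ)
    · simp [h1]
    rcases hyp χ h1 with hc | hc
    · have hu' : (χ : G → ℂ) u = (n : ℂ) - c := by rw [← hn1, ← hc]; ring
      rcases h0 with rfl | ⟨rfl, hlin⟩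
      · rw [hu', hn1, sub_zero]; simp [mul_self_nonneg]
      · have hn2 : 2 ≤ n := by
          by_contra hlt
          have : n = 1 := by omega
          exact hlin χ h1 (by rw [hn1, this]; simp)
        rw [hu', hn1]
        have : (2 : ℝ) ≤ n := by exact_mod_cast hn2
        simp only [Complex.mul_re, Complex.natCast_re, Complex.sub_re, Complex.natCast_im,
          Complex.re_ofNat, zero_mul, sub_zero]
        nlinarith
    · simp [hc]
  have hone := Finset.single_le_sum (fun χ _ => hnn χ) (Finset.mem_univ one)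
  rw [hre] at hone
  simp [one] at hone
  linarith

/-- What a nontrivial linear character forces. -/
theorem linear_case {u : G} (hu : u ≠ 1) {c : ℂ}
    (hyp : ∀ χ : Cfsg.IrrCharacter G, (χ : G → ℂ) ≠ (fun _ => (1 : ℂ)) →
      ((χ : G → ℂ) 1 - (χ : G → ℂ) u = c ∨ (χ : G → ℂ) u = 0))
    (hG : commutator G ≠ ⊤) :
    c = 2 ∧ (commutator G).index = 2 ∧ u ∉ commutator G ∧
      Nat.card ↥(Subgroup.centralizer ({u} : Set G)) = 2 := by
  classical
  have := Fintype.ofFinite G
  have := Fintype.ofFinite (Cfsg.IrrCharacter G)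
  let one : Cfsg.IrrCharacter G := ⟨fun _ => 1, Char.isIrrCharacter_one⟩
  have hidx : (commutator G).index ≠ 1 := fun h => hG (Subgroup.index_eq_one.mp h)
  obtain ⟨lam, hlam1, hlamne⟩ : ∃ ψ : Cfsg.IrrCharacter G,
      (ψ : G → ℂ) 1 = 1 ∧ (ψ : G → ℂ) ≠ fun _ => (1 : ℂ) := by
    by_contra hne
    push Not at hne
    apply hidx
    rw [← Char.card_linear_irr, Nat.card_eq_one_iff_unique]
    exact ⟨⟨fun a b => Subtype.ext (Subtype.ext ((hne _ a.2).trans (hne _ b.2).symm))⟩,
      ⟨⟨one, rfl⟩⟩⟩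
  have hval : ∀ ψ : Cfsg.IrrCharacter G, (ψ : G → ℂ) 1 = 1 →
      (ψ : G → ℂ) ≠ (fun _ => (1 : ℂ)) → (ψ : G → ℂ) u = 1 - c := by
    intro ψ h1 hne
    rcases hyp ψ hne with h | h
    · rw [← h, h1]; ring
    · obtain ⟨l, hl⟩ := Char.exists_hom_of_degree_one (Char.IsIrrCharacter.isCharacter ψ.2) h1
      exfalso
      have := congrArg l (mul_inv_cancel u)
      rw [map_mul, map_one, show l u = 0 by rw [hl]; exact h, zero_mul] at this
      exact zero_ne_one this
  have hlu := hval lam hlam1 hlamne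
  have hc0 : c ≠ 0 := fun h => perfect_case hu hyp (Or.inl h)
  have hmul : ∀ ψ φ : Cfsg.IrrCharacter G, (ψ : G → ℂ) 1 = 1 → (φ : G → ℂ) 1 = 1 →
      (ψ : G → ℂ) ≠ (fun _ => (1 : ℂ)) → (φ : G → ℂ) ≠ (fun _ => (1 : ℂ)) →
      (fun g => (ψ : G → ℂ) g * (φ : G → ℂ) g) = (fun _ => (1 : ℂ)) := by
    intro ψ φ h1 h2 h3 h4
    by_contra hne
    have := hval ⟨_, linear_mul ψ φ h2⟩ (by simp [h1, h2]) hne
    simp only [hval ψ h1 h3, hval φ h2 h4] at this
    have h5 : (1 - c) * c = 0 := by linear_combination -this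
    rcases mul_eq_zero.mp h5 with h6 | h6
    · obtain ⟨l, hl⟩ := Char.exists_hom_of_degree_one (Char.IsIrrCharacter.isCharacter ψ.2) h1
      have h7 := congrArg l (mul_inv_cancel u)
      rw [map_mul, map_one, show l u = 0 by rw [hl, hval ψ h1 h3, h6], zero_mul] at h7
      exact zero_ne_one h7
    · exact hc0 h6
  have hc2 : c = 2 := by
    have := congrFun (hmul lam lam hlam1 hlam1 hlamne hlamne) u
    simp only [hlu] at this
    have h5 : c * (c - 2) = 0 := by linear_combination this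
    exact (mul_eq_zero.mp h5).elim (fun h => absurd h hc0) (fun h => by linear_combination h)
  have hlu' : (lam : G → ℂ) u = -1 := by rw [hlu, hc2]; norm_num
  have hlins : ∀ ψ : Cfsg.IrrCharacter G, (ψ : G → ℂ) 1 = 1 → ψ = one ∨ ψ = lam := by
    intro ψ h1
    by_cases h : (ψ : G → ℂ) = fun _ => (1 : ℂ)
    · exact Or.inl (Subtype.ext h)
    refine Or.inr (Subtype.ext (funext fun g => ?_))
    have h2 := congrFun (hmul ψ lam h1 hlam1 h hlamne) g
    have h3 := congrFun (hmul lam lam hlam1 hlam1 hlamne hlamne) g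
    calc (ψ : G → ℂ) g = (ψ : G → ℂ) g * ((lam : G → ℂ) g * (lam : G → ℂ) g) := by rw [h3, mul_one]
      _ = (lam : G → ℂ) g := by rw [← mul_assoc, h2, one_mul]
  have hne1 : one ≠ lam := fun h => hlamne (congrArg Subtype.val h).symm
  have hzero : ∀ χ : Cfsg.IrrCharacter G, χ ≠ one → χ ≠ lam → (χ : G → ℂ) u = 0 := by
    intro χ h1 h2
    by_contra h0
    have hn : (χ : G → ℂ) 1 ≠ 1 := fun h => (hlins χ h).elim h1 h2
    have e1 := (hyp χ fun h => h1 (Subtype.ext h)).resolve_right h0
    have hne : (fun g => (χ : G → ℂ) g * (lam : G → ℂ) g) ≠ fun _ => (1 : ℂ) := fun h => hn (by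
      have := congrFun h 1; simpa [hlam1] using this)
    rcases hyp ⟨_, linear_mul χ lam hlam1⟩ hne with e2 | e2
    · simp only [hlam1, hlu', mul_one] at e2
      exact h0 (by linear_combination (e2 - e1) / 2)
    · simp only [hlu'] at e2
      exact h0 (by linear_combination -e2)
  refine ⟨hc2, ?_, ?_, ?_⟩
  · rw [← Char.card_linear_irr, Nat.card_eq_fintype_card, Fintype.card_subtype]
    rw [show Finset.univ.filter (fun χ : Cfsg.IrrCharacter G => (χ : G → ℂ) 1 = 1) = {one, lam} by
      ext χ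
      simp only [Finset.mem_filter, Finset.mem_univ, true_and, Finset.mem_insert, Finset.mem_singleton]
      exact ⟨hlins χ, fun h => h.elim (fun h => h ▸ rfl) (fun h => h ▸ hlam1)⟩]
    exact Finset.card_pair hne1
  · intro hmem
    obtain ⟨l, hl⟩ := Char.exists_hom_of_degree_one (Char.IsIrrCharacter.isCharacter lam.2) hlam1
    have hk := (Abelianization.commutator_subset_ker l.toHomUnits) hmem
    rw [MonoidHom.mem_ker, Units.ext_iff, MonoidHom.coe_toHomUnits, hl, hlu'] at hk
    norm_num at hk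
  · have h := Char.column_orth (G := G) u u
    rw [if_pos (IsConj.refl u), Fintype.sum_eq_add one lam hne1 (fun χ hχ => by
      rw [hzero χ hχ.1 hχ.2, zero_mul]), hlu'] at h
    simp only [one, map_one, map_neg, mul_one, neg_mul_neg] at h
    exact_mod_cast (show (Nat.card ↥(Subgroup.centralizer ({u} : Set G)) : ℂ) = 2 by
      rw [← h]; norm_num)

theorem centralizer_facts {u : G} (hidx : (commutator G).index = 2) (humem : u ∉ commutator G)
    (hC : Nat.card ↥(Subgroup.centralizer ({u} : Set G)) = 2) (hu : u ≠ 1) :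
    orderOf u = 2 ∧ Subgroup.centralizer ({u} : Set G) = Subgroup.zpowers u ∧
      Odd (Nat.card ↥(commutator G)) := by
  have humC : u ∈ Subgroup.centralizer ({u} : Set G) := Subgroup.mem_centralizer_singleton_iff.mpr rfl
  have ho : orderOf u = 2 := by
    rcases Nat.prime_two.eq_one_or_self_of_dvd _ (hC ▸ Subgroup.orderOf_dvd_natCard _ humC) with h | h
    · exact absurd (orderOf_eq_one_iff.mp h) hu
    · exact h
  have hzp : Subgroup.centralizer ({u} : Set G) = Subgroup.zpowers u :=
    (Subgroup.eq_of_le_of_card_ge ((Subgroup.zpowers_le).mpr humC)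
      (by rw [Nat.card_zpowers, ho, hC])).symm
  refine ⟨ho, hzp, ?_⟩
  -- a Sylow 2-subgroup containing u has order 2
  have hup : IsPGroup 2 ↥(Subgroup.zpowers u) :=
    IsPGroup.of_card (n := 1) (by rw [Nat.card_zpowers, ho, pow_one])
  obtain ⟨S, hS⟩ := hup.exists_le_sylow
  have huS : u ∈ (S : Subgroup G) := hS (Subgroup.mem_zpowers u)
  have hScard : Nat.card ↥(S : Subgroup G) = 2 := by
    have : Nontrivial ↥(S : Subgroup G) := ⟨⟨u, huS⟩, 1, fun h => hu (congrArg Subtype.val h)⟩
    have := S.isPGroup'.center_nontrivial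
    obtain ⟨⟨z, hzc⟩, hz1⟩ := exists_ne (1 : Subgroup.center ↥(S : Subgroup G))
    have hzC : (z : G) ∈ Subgroup.centralizer ({u} : Set G) :=
      Subgroup.mem_centralizer_singleton_iff.mpr
        (congrArg Subtype.val (Subgroup.mem_center_iff.mp hzc ⟨u, huS⟩)).symm
    have hzu : (z : G) = u := by
      classical
      rw [hzp, mem_zpowers_iff_mem_range_orderOf, ho] at hzC
      simp only [Finset.mem_image, Finset.mem_range] at hzC
      obtain ⟨i, hi, hzi⟩ := hzC
      interval_cases i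
      · rw [pow_zero] at hzi
        exact absurd (Subtype.ext (Subtype.ext hzi.symm)) hz1
      · rw [← hzi, pow_one]
    have hle : (S : Subgroup G) ≤ Subgroup.centralizer ({u} : Set G) := fun s hs =>
      Subgroup.mem_centralizer_singleton_iff.mpr (hzu ▸
        congrArg Subtype.val (Subgroup.mem_center_iff.mp hzc ⟨s, hs⟩))
    have h1 := Subgroup.card_dvd_of_le hle
    rw [hC] at h1
    rcases Nat.prime_two.eq_one_or_self_of_dvd _ h1 with h | h
    · have h2 := Subgroup.orderOf_dvd_natCard _ huS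
      rw [h, ho] at h2; norm_num at h2
    · exact h
  rw [Sylow.card_eq_multiplicity S] at hScard
  by_contra hodd
  rw [Nat.not_odd_iff_even, even_iff_two_dvd] at hodd
  have h4 : 2 ^ 2 ∣ Nat.card G := by
    rw [← (commutator G).index_mul_card, hidx, pow_two]
    exact mul_dvd_mul_left 2 hodd
  rw [Nat.prime_two.pow_dvd_iff_le_factorization Nat.card_pos.ne'] at h4
  have : (Nat.card G).factorization 2 = 1 := by
    have h5 : (2 : ℕ) ^ (Nat.card G).factorization 2 = 2 ^ 1 := hScard
    exact Nat.pow_right_injective le_rfl h5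
  omega


/-- Let u ≠ 1 be an element of the finite group G and c a complex number such that every non-principal irreducible character χ satisfies χ(1) − χ(u) = c or χ(u) = 0. Then the following are equivalent: (a) u has order 2, G is generated by u together with O(G), the largest normal subgroup of G of odd order, and the centralizer of u is {1, u}; (b) G is not perfect; (c) c = 2. -/
theorem result {G : Type*} [Group G] [Finite G] (u : G) (hu : u ≠ 1) (c : ℂ) (hyp : ∀ χ : Cfsg.IrrCharacter G, (χ : G → ℂ) ≠ (fun _ => (1 : ℂ)) → ((χ : G → ℂ) 1 - (χ : G → ℂ) u = c ∨ (χ : G → ℂ) u = 0)) : ((orderOf u = 2 ∧ Subgroup.zpowers u ⊔ Cfsg.oddCore G = ⊤ ∧ Subgroup.centralizer ({u} : Set G) = Subgroup.zpowers u) ↔ commutator G ≠ ⊤) ∧ (commutator G ≠ ⊤ ↔ c = 2) := by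
  classical
  have hperf : commutator G = ⊤ → c ≠ 2 := by
    intro hG hc
    refine perfect_case hu hyp (Or.inr ⟨hc, fun χ hne h1 => hne ?_⟩)
    obtain ⟨l, hl⟩ := Char.exists_hom_of_degree_one (Char.IsIrrCharacter.isCharacter χ.2) h1
    funext g
    have hk := (Abelianization.commutator_subset_ker l.toHomUnits) (show g ∈ commutator G by rw [hG]; trivial)
    rw [MonoidHom.mem_ker, Units.ext_iff, MonoidHom.coe_toHomUnits, hl] at hk
    simpa using hk
  refine ⟨⟨?_, fun hG => ?_⟩, ⟨fun hG => (linear_case hu hyp hG).1, fun hc hG => hperf hG hc⟩⟩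
  · rintro ⟨ho, hsup, -⟩ hG
    have hodd : ¬ 2 ∣ Nat.card (Cfsg.oddCore G) := Cores.not_dvd_card_pPrimeCore
    set π := QuotientGroup.mk' (Cfsg.oddCore G) with hπ
    have hgen : ∀ x : G ⧸ Cfsg.oddCore G, x ∈ Subgroup.zpowers (π u) := by
      intro x
      obtain ⟨g, rfl⟩ := QuotientGroup.mk'_surjective (Cfsg.oddCore G) x
      have hg : g ∈ Subgroup.zpowers u ⊔ Cfsg.oddCore G := hsup ▸ Subgroup.mem_top g
      have hmem := Subgroup.mem_map_of_mem π hg
      rwa [Subgroup.map_sup, MonoidHom.map_zpowers, QuotientGroup.map_mk'_self, sup_bot_eq] at hmem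
    have hcomm : ∀ a b : G ⧸ Cfsg.oddCore G, a * b = b * a := by
      intro a b
      obtain ⟨i, rfl⟩ := Subgroup.mem_zpowers_iff.mp (hgen a)
      obtain ⟨j, rfl⟩ := Subgroup.mem_zpowers_iff.mp (hgen b)
      rw [← zpow_add, ← zpow_add, add_comm]
    apply hodd
    rw [← ho]
    refine Subgroup.orderOf_dvd_natCard _ ?_
    have hle : commutator G ≤ Cfsg.oddCore G := by
      rw [commutator_def, Subgroup.commutator_le]
      intro a _ b _
      rw [← QuotientGroup.eq_one_iff, ← QuotientGroup.mk'_apply, map_commutatorElement,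
        commutatorElement_eq_one_iff_mul_comm]
      exact hcomm _ _
    exact hle (hG ▸ Subgroup.mem_top u)
  · obtain ⟨-, hidx, humem, hC⟩ := linear_case hu hyp hG
    obtain ⟨ho, hzp, hodd⟩ := centralizer_facts hidx humem hC hu
    refine ⟨ho, ?_, hzp⟩
    have hle : commutator G ≤ Cfsg.oddCore G :=
      Cores.le_pPrimeCore inferInstance (Nat.coprime_two_right.mpr hodd)
    rw [eq_top_iff]
    intro g _
    by_cases hg : g ∈ commutator G
    · exact Subgroup.mem_sup_right (hle hg)
    · rw [← inv_mul_cancel_left u g]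
      refine mul_mem (Subgroup.mem_sup_left (inv_mem (Subgroup.mem_zpowers u))) (Subgroup.mem_sup_right (hle ?_))
      rw [Subgroup.mul_mem_iff_of_index_two hidx]
      exact ⟨fun h => absurd h humem, fun h => absurd h hg⟩

end Cfsg.Agent.S4757
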