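import Cfsg.Statements.S4758
import Cfsg.Agent.Lib.FourConst.Top
import Cfsg.Agent.Lib.GLOrder.Basic
import Cfsg.Agent.S4757

set_option autoImplicit false
set_option linter.style.haveILetI false
open Cfsg

namespace Cfsg.Agent.S4758

/-- Let u ≠ 1 be an element of the finite group G such that every non-principal irreducible character χ satisfies χ(1) − χ(u) = 4 or χ(u) = 0. Then O(G), the largest normal subgroup of odd order, is abelian, and either G ⧸ O(G) ≅ PSL₂(5) and u is an involution, or G ⧸ O(G) ≅ SL₂(5) and u has order 4. -/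
theorem result {G : Type*} [Group G] [Finite G] (u : G) (hu : u ≠ 1) (hyp : ∀ χ : Cfsg.IrrCharacter G, (χ : G → ℂ) ≠ (fun _ => (1 : ℂ)) → ((χ : G → ℂ) 1 - (χ : G → ℂ) u = 4 ∨ (χ : G → ℂ) u = 0)) : IsMulCommutative ↥(Cfsg.oddCore G) ∧ ((Nonempty (G ⧸ Cfsg.oddCore G ≃* Matrix.ProjectiveSpecialLinearGroup (Fin 2) (ZMod 5)) ∧ orderOf u = 2) ∨ (Nonempty (G ⧸ Cfsg.oddCore G ≃* Matrix.SpecialLinearGroup (Fin 2) (ZMod 5)) ∧ orderOf u = 4)) := by
  have hperf : commutator G = ⊤ := by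
    by_contra hne
    have h2 := (S4757.result u hu 4 hyp).2.1 hne
    norm_num at h2
  have h : FourConst.Hyp u := ⟨hu, hperf, hyp⟩
  obtain ⟨M, hMn, hM, huM⟩ := h.exists_simple_quotient
  haveI := hMn
  haveI := hM
  haveI : Fact (Nat.Prime 5) := ⟨Nat.prime_five⟩
  obtain ⟨hQ60, -, -, -⟩ := h.quot_facts huM
  have h5 : Nat.card (ZMod 5) = 5 := Nat.card_zmod 5
  have hpsl : Nat.card (Matrix.ProjectiveSpecialLinearGroup (Fin 2) (ZMod 5)) = 60 := by
    have := GLOrder.card_PSL_two_of_odd (F := ZMod 5) (by rw [h5]; decide)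
    rw [h5] at this
    omega
  haveI : IsSimpleGroup (Matrix.ProjectiveSpecialLinearGroup (Fin 2) (ZMod 5)) :=
    Matrix.ProjectiveSpecialLinearGroup.rank_two_simple (by omega)
  obtain ⟨e1⟩ := S0494.result hQ60
  obtain ⟨e2⟩ := S0494.result hpsl
  by_cases h2 : u * u = 1
  · have hbot := h.involution_case huM h2
    subst hbot
    have hoc : Cfsg.oddCore G = ⊥ := by
      have hodd : Odd (Nat.card (Cfsg.oddCore G)) :=
        Nat.coprime_two_right.1 (Cores.coprime_card_pPrimeCore 2)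
      haveI : Nontrivial G := ⟨⟨u, 1, hu⟩⟩
      haveI : IsSimpleGroup G := IsSimpleGroup.isSimpleGroup_of_surjective
        (QuotientGroup.quotientBot : G ⧸ (⊥ : Subgroup G) ≃* G).toMonoidHom
        (QuotientGroup.quotientBot : G ⧸ (⊥ : Subgroup G) ≃* G).surjective
      refine (IsSimpleGroup.eq_bot_or_eq_top_of_normal (Cfsg.oddCore G) inferInstance).resolve_right
        fun e => ?_
      rw [e, Subgroup.card_top, ← Nat.card_congr (QuotientGroup.quotientBot :
        G ⧸ (⊥ : Subgroup G) ≃* G).toEquiv, hQ60] at hodd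
      exact absurd hodd (by decide)
    refine ⟨?_, Or.inl ⟨⟨(QuotientGroup.quotientMulEquivOfEq hoc).trans (e1.trans e2.symm)⟩, ?_⟩⟩
    · rw [hoc]
      exact ⟨⟨fun a b => Subsingleton.elim _ _⟩⟩
    · exact orderOf_eq_prime (by rw [pow_two]; exact h2) hu
  · obtain ⟨hord, N, -, hoc, hcomm, hiso⟩ := h.order_four_case huM h2
    exact ⟨hoc ▸ hcomm, Or.inr ⟨hiso, hord⟩⟩

end Cfsg.Agent.S4758
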