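import Cfsg.Statements.S4759
import Cfsg.Agent.Lib.HeisenbergLift.Main
import Cfsg.Agent.Lib.CharExtend.Coprime
import Cfsg.Agent.Lib.ExtraspecialChar.Basic

set_option autoImplicit false
open Cfsg

namespace Cfsg.Agent.S4759

open Cfsg.Agent HeisenbergLift
open scoped commutatorElement

/-- Let G be a finite group that is the semidirect product of a normal extraspecial 2-subgroup E and a complement H acting faithfully on E (no non-identity element of H centralizes E), and suppose H has a normal subgroup K of odd order with [E, K] = E. Then every faithful irreducible character θ of E (there is exactly one) extends to G: some irreducible character of G restricts to θ on E. -/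
theorem result {G : Type*} [Group G] [Finite G] (E H : Subgroup G) [E.Normal] (hE : Cfsg.IsExtraspecial 2 ↥E) (hEH : E ⊓ H = ⊥) (hEHtop : E ⊔ H = ⊤) (hfaith : ∀ h ∈ H, (∀ e ∈ E, h * e = e * h) → h = 1) (K : Subgroup G) (hKH : K ≤ H) (hKn : ∀ h ∈ H, ∀ k ∈ K, h * k * h⁻¹ ∈ K) (hKodd : Odd (Nat.card ↥K)) (hEK : ⁅E, K⁆ = E) (θ : Cfsg.IrrCharacter ↥E) (hθ : ∀ e : ↥E, (θ : ↥E → ℂ) e = (θ : ↥E → ℂ) 1 → e = 1) : ∃ χ : Cfsg.IrrCharacter G, ∀ e : ↥E, (χ : G → ℂ) e = (θ : ↥E → ℂ) e := by
  classical
  haveI := Fintype.ofFinite G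
  haveI : Fintype E := Fintype.ofFinite E
  obtain ⟨χ₀, hirr⟩ := θ
  obtain ⟨n, ρ, hρ, rfl⟩ := hirr
  haveI := hρ
  haveI : Fact (Nat.Prime 2) := ⟨Nat.prime_two⟩
  simp only at hθ ⊢
  have hsc_center : ∀ e : E, (∃ c : ℂ, ρ e = c • 1) → e ∈ Subgroup.center E := by
    rintro e ⟨c, hc⟩
    refine Subgroup.mem_center_iff.mpr fun y => ?_
    have h1 : ρ (y * e * y⁻¹ * e⁻¹) = 1 := by
      rw [map_mul, map_mul, map_mul, hc, mul_smul_comm, mul_one, smul_mul_assoc, ← map_mul ρ y, mul_inv_cancel,
        map_one, ← hc, ← map_mul, mul_inv_cancel, map_one]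
    have h2 := hθ (y * e * y⁻¹ * e⁻¹) (by simp only [Representation.character, h1, map_one])
    rw [mul_inv_eq_one, mul_inv_eq_iff_eq_mul] at h2
    exact h2
  have hcenter_sc : ∀ e : E, e ∈ Subgroup.center E → ∃ c : ℂ, ρ e = c • 1 := fun e he =>
    CharApp.exists_scalar_of_mem_center ρ he
  have hmem_center_comm : ∀ a b : E, a * b * a⁻¹ * b⁻¹ ∈ Subgroup.center E := by
    intro a b
    rw [← hE.1.2.2]
    have := Subgroup.commutator_mem_commutator (Subgroup.mem_top a) (Subgroup.mem_top b)
    rwa [commutatorElement_def] at this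
  have hθ1 : ρ.character 1 ≠ 1 := by
    intro h1
    have hn : n = 1 := by
      rw [Representation.char_one, Module.finrank_fin_fun] at h1
      exact_mod_cast h1
    subst hn
    have hall : ∀ e : E, e ∈ Subgroup.center E := fun e => hsc_center e
      ⟨ρ e (fun _ => 1) 0, LinearMap.ext fun v => funext fun i => by
        rw [Subsingleton.elim i 0]
        have hv : v = v 0 • (fun _ => (1 : ℂ)) := funext fun j => by simp [Subsingleton.elim j 0]
        conv_lhs => rw [hv]
        simp [mul_comm]⟩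
    have hbot : commutator E = ⊥ := by
      rw [commutator_def, Subgroup.commutator_eq_bot_iff_le_centralizer]
      intro x _
      exact Subgroup.mem_centralizer_iff.mpr fun y _ => Subgroup.mem_center_iff.mp (hall x) y
    have h3 := hE.2
    rw [← hE.1.2.2, hbot, Subgroup.card_bot] at h3
    norm_num at h3
  have hvan : ∀ e : E, e ∉ Subgroup.center E → ρ.character e = 0 :=
    ExtraspecialChar.vanishes_off_center hE (Char.isIrrCharacter_character ρ) hθ1
  -- central elements are fixed by conjugation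
  have hfixz : ∀ (g : G) (s : E), s ∈ Subgroup.center E → g * (s : G) * g⁻¹ = s := by
    intro g s hs
    by_cases hs1 : s = 1
    · simp [hs1]
    let φ : MulAut E := MulAut.conjNormal g
    have hφ : φ s ∈ Subgroup.center E := Subgroup.mem_center_iff.mpr fun y => by
      obtain ⟨x, rfl⟩ := φ.surjective y
      rw [← map_mul, ← map_mul, Subgroup.mem_center_iff.mp hs x]
    have hφ1 : φ s ≠ 1 := fun h => hs1 (φ.injective (h.trans (map_one φ).symm))
    obtain ⟨u, w, -, huw⟩ := Nat.card_eq_two_iff.mp hE.2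
    have huniv : ∀ x : Subgroup.center E, x = u ∨ x = w := fun x => by
      have : x ∈ ({u, w} : Set (Subgroup.center E)) := by rw [huw]; trivial
      simpa using this
    have heq : (⟨φ s, hφ⟩ : Subgroup.center E) = ⟨s, hs⟩ := by
      have h1 := huniv 1
      have h2 : (⟨s, hs⟩ : Subgroup.center E) ≠ 1 := fun h => hs1 (congrArg Subtype.val h)
      have h3 : (⟨φ s, hφ⟩ : Subgroup.center E) ≠ 1 := fun h => hφ1 (congrArg Subtype.val h)
      rcases huniv ⟨s, hs⟩ with a | a <;> rcases huniv ⟨φ s, hφ⟩ with b | b <;> rcases h1 with c | c <;>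
        simp_all
    have h4 := congrArg (fun x : Subgroup.center E => ((x : E) : G)) heq
    simpa [φ, MulAut.conjNormal_apply] using h4
  have hinv : ∀ (g : G) (x : E), ρ.character ⟨g * x * g⁻¹, (‹E.Normal›).conj_mem x x.2 g⟩ = ρ.character x := by
    intro g x
    by_cases hx : x ∈ Subgroup.center E
    · rw [show (⟨g * x * g⁻¹, (‹E.Normal›).conj_mem x x.2 g⟩ : E) = x from Subtype.ext (hfixz g x hx)]
    · rw [hvan x hx, hvan]
      intro hc
      have h1 := hfixz g⁻¹ _ hc
      simp only [inv_inv] at h1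
      rw [show g⁻¹ * (g * (x : G) * g⁻¹) * g = x by group] at h1
      exact hx (by rw [show x = ⟨g * x * g⁻¹, (‹E.Normal›).conj_mem x x.2 g⟩ from Subtype.ext h1]; exact hc)
  -- the data of the lifting theorem
  let ρG : G → Module.End ℂ (Fin n → ℂ) := fun x => if hx : x ∈ E then ρ ⟨x, hx⟩ else 0
  have hρG : ∀ e : E, ρG e = ρ e := fun e => by simp only [ρG, dif_pos e.2]
  have hρG' : ∀ e (he : e ∈ E), ρG e = ρ ⟨e, he⟩ := fun e he => hρG ⟨e, he⟩
  have hscZ : ∀ e (he : e ∈ E), HeisenbergLift.Sc ρG e ↔ (⟨e, he⟩ : E) ∈ Subgroup.center E := fun e he => by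
    simp only [HeisenbergLift.Sc, hρG' e he]
    exact ⟨hsc_center _, hcenter_sc _⟩
  have hh : HeisenbergLift.Heis E ρG :=
  { one := by rw [hρG' 1 E.one_mem, show (⟨1, E.one_mem⟩ : E) = 1 from rfl, map_one]
    mul := fun a ha b hb => by
      rw [hρG' _ (E.mul_mem ha hb), hρG' a ha, hρG' b hb, ← map_mul]; rfl
    comm := fun a ha b hb => (hscZ _ (E.mul_mem (E.mul_mem (E.mul_mem ha hb) (E.inv_mem ha)) (E.inv_mem hb))).mpr
      (hmem_center_comm ⟨a, ha⟩ ⟨b, hb⟩)
    sq := fun a ha => (hscZ _ (E.mul_mem ha ha)).mpr (by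
      rw [← hE.1.2.1]
      have := BurnsideBasis.pow_mem_frattini hE.1.1 (⟨a, ha⟩ : E)
      rwa [pow_two] at this)
    irr := fun W hW => CharApp.eq_bot_or_top_of_invariant ρ W fun x v hv => by
      rw [← hρG]; exact hW x x.2 v hv
    nontrivial := CharApp.nontrivial_of_irr ρ }
  have hacts : ∀ X : Subgroup G, HeisenbergLift.Acts X E ρG := fun X =>
    ⟨fun g _ e he => (‹E.Normal›).conj_mem e he g, fun g _ s hs hsc => by
      rw [hfixz g ⟨s, hs⟩ ((hscZ s hs).mp hsc)]⟩
  have hfpf : HeisenbergLift.Fpf K E ρG := by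
    intro e he hall
    refine HeisenbergLift.sc_of_forall_cm hh he fun b hb => ?_
    let W : Subgroup G := HeisenbergLift.perp hh {e}
    have hle : ⁅E, K⁆ ≤ W := Subgroup.commutator_le.mpr fun a ha k hk => by
      have hka : k * a⁻¹ * k⁻¹ ∈ E := (‹E.Normal›).conj_mem _ (E.inv_mem ha) k
      rw [commutatorElement_def, show a * k * a⁻¹ * k⁻¹ = a * (k * a⁻¹ * k⁻¹) by group]
      refine ⟨E.mul_mem ha hka, fun c hc hcE => ?_⟩
      rw [Set.mem_singleton_iff] at hc
      subst hc
      have hx := hall k hk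
      have hke := (‹E.Normal›).conj_mem c hcE k
      have h1 := HeisenbergLift.cm_conj hh (hacts K) hk (E.inv_mem ha) hcE
      rw [show k * c * k⁻¹ = c * (c⁻¹ * (k * c * k⁻¹)) by group,
        HeisenbergLift.cm_mul_right hh hka hcE (E.mul_mem (E.inv_mem hcE) hke),
        HeisenbergLift.cm_of_sc_right hh hka (E.mul_mem (E.inv_mem hcE) hke) hx, mul_one] at h1
      rw [HeisenbergLift.cm_mul_left hh ha hka hcE, h1, ← HeisenbergLift.cm_mul_left hh ha (E.inv_mem ha) hcE,
        mul_inv_cancel, HeisenbergLift.cm_of_sc_left hh E.one_mem hcE (HeisenbergLift.sc_one hh)]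
    rw [HeisenbergLift.cm_symm hh he hb]
    exact (hle (by rw [hEK]; exact hb)).2 e rfl he
  -- local extensions
  have hloc : ∀ p : ℕ, p.Prime → ∃ (P : Subgroup G) (hNP : E ≤ P) (S : P →* CharExtend.EU n),
      Nat.Coprime P.index p ∧ ∀ x : E, S ⟨x, hNP x.2⟩ = ρ.toHomUnits x := by
    intro p hp
    haveI : Fact p.Prime := ⟨hp⟩
    obtain ⟨Q⟩ := (Sylow.nonempty (p := p) (G := H))
    let T : Subgroup G := (Q : Subgroup H).map H.subtype
    have hTH : T ≤ H := Subgroup.map_subtype_le _
    have hdisj : Disjoint T E := disjoint_iff.mpr (le_bot_iff.mp (fun x hx => by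
      rw [← hEH]; exact ⟨hx.2, hTH hx.1⟩))
    have hcardT : Nat.card T = Nat.card Q := Subgroup.card_map_of_injective H.subtype_injective
    have hcard : Nat.card (T ⊔ E : Subgroup G) = Nat.card T * Nat.card E :=
      Frobenius.card_sup_of_disjoint (fun x _ => by rw [Subgroup.normalizer_eq_top]; trivial) hdisj
    have hcardG : Nat.card G = Nat.card H * Nat.card E := by
      have hd : Disjoint H E := disjoint_iff.mpr (by rw [inf_comm]; exact hEH)
      have h1 := Frobenius.card_sup_of_disjoint (X := H) (Y := E)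
        (fun x _ => by rw [Subgroup.normalizer_eq_top]; trivial) hd
      rw [sup_comm, hEHtop, Subgroup.card_top] at h1
      exact h1
    have hindex : (T ⊔ E).index = (Q : Subgroup H).index := by
      have h1 := Subgroup.card_mul_index (T ⊔ E)
      have h2 := Subgroup.card_mul_index (Q : Subgroup H)
      rw [hcard, hcardG, hcardT, ← h2] at h1
      have hpos : 0 < Nat.card Q * Nat.card E := Nat.mul_pos Nat.card_pos Nat.card_pos
      exact Nat.eq_of_mul_eq_mul_left hpos (by rw [h1]; ring)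
    have hcop : Nat.Coprime (T ⊔ E).index p := by
      rw [hindex, Nat.coprime_comm, hp.coprime_iff_not_dvd]
      exact Q.not_dvd_index
    by_cases hp2 : p = 2
    · subst hp2
      have hT2 : IsPGroup 2 T := Q.isPGroup'.map _
      have hTK : ∀ t ∈ T, ∀ k ∈ K, t * k * t⁻¹ ∈ K := fun t ht => hKn t (hTH ht)
      obtain ⟨R, hR1, hRm, hR⟩ := HeisenbergLift.lifts hh (hacts T) (hacts K) hTK hT2 hKodd hfpf
      have hdec : ∀ x : (T ⊔ E : Subgroup G), ∃ et : E × T, (x : G) = et.1 * et.2 := by
        intro x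
        obtain ⟨x, hx⟩ := x
        have hx' : x ∈ (((E ⊔ T : Subgroup G)) : Set G) := by rw [sup_comm]; exact hx
        rw [Subgroup.normal_mul] at hx'
        obtain ⟨e, he, t, ht, het⟩ := hx'
        exact ⟨(⟨e, he⟩, ⟨t, ht⟩), het.symm⟩
      choose d hd using hdec
      have huniq : ∀ (a a' : E) (b b' : T), (a : G) * b = a' * b' → a = a' ∧ b = b' := by
        intro a a' b b' hab
        have h1 : (a' : G)⁻¹ * a = b' * (b : G)⁻¹ := by
          rw [eq_mul_inv_iff_mul_eq, mul_assoc, hab, inv_mul_cancel_left]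
        have h2 : (a' : G)⁻¹ * a = 1 := Subgroup.mem_bot.mp (hdisj.le_bot
          ⟨by rw [h1]; exact T.mul_mem b'.2 (T.inv_mem b.2), E.mul_mem (E.inv_mem a'.2) a.2⟩)
        have h3 : a = a' := Subtype.ext (inv_mul_eq_one.mp h2).symm
        subst h3
        exact ⟨rfl, Subtype.ext (mul_left_cancel hab)⟩
      have hRu : ∀ t : T, IsUnit (R t) := fun t =>
        ⟨⟨R t, R (t : G)⁻¹, by rw [← hRm t t.2 _ (T.inv_mem t.2), mul_inv_cancel, hR1],
          by rw [← hRm _ (T.inv_mem t.2) t t.2, inv_mul_cancel, hR1]⟩, rfl⟩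
      let F : (T ⊔ E : Subgroup G) → Module.End ℂ (Fin n → ℂ) := fun x => ρG ((d x).1 : G) * R ((d x).2 : G)
      have hF : ∀ (x : (T ⊔ E : Subgroup G)) (a : E) (b : T), (x : G) = a * b → F x = ρG a * R b := by
        intro x a b hx
        obtain ⟨h1, h2⟩ := huniq (d x).1 a (d x).2 b ((hd x).symm.trans hx)
        simp only [F, h1, h2]
      have hFm : ∀ x y, F (x * y) = F x * F y := by
        intro x y
        rcases hdx : d x with ⟨a, b⟩
        rcases hdy : d y with ⟨a', b'⟩
        have hx := hd x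
        have hy := hd y
        rw [hdx] at hx
        rw [hdy] at hy
        have hmem : (b : G) * a' * (b : G)⁻¹ ∈ E := (‹E.Normal›).conj_mem _ a'.2 _
        rw [hF x a b hx, hF y a' b' hy, hF (x * y) (a * ⟨_, hmem⟩) (b * b') (by
          rw [Subgroup.coe_mul, hx, hy, Subgroup.coe_mul, Subgroup.coe_mul]; group),
          Subgroup.coe_mul, Subgroup.coe_mul, hh.mul a a.2 _ hmem, hRm b b.2 b' b'.2,
          mul_assoc (ρG a) (R b), ← mul_assoc (R (b : G)), hR b b.2 a' a'.2]
        simp only [mul_assoc]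
      let F' : (T ⊔ E : Subgroup G) →* Module.End ℂ (Fin n → ℂ) :=
        { toFun := F
          map_one' := by rw [hF 1 1 1 (by simp), Subgroup.coe_one, Subgroup.coe_one, hh.one, hR1, mul_one]
          map_mul' := hFm }
      refine ⟨T ⊔ E, le_sup_right, F'.toHomUnits, hcop, fun x => Units.ext ?_⟩
      show F ⟨x, _⟩ = ρ x
      rw [hF _ x 1 (by simp), Subgroup.coe_one, hR1, mul_one, hρG]
    · let N' : Subgroup (T ⊔ E : Subgroup G) := E.subgroupOf (T ⊔ E)
      haveI : N'.Normal := inferInstanceAs (E.subgroupOf (T ⊔ E)).Normal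
      let e : N' ≃* E := Subgroup.subgroupOfEquivOfLe le_sup_right
      let ρ' : Representation ℂ N' (Fin n → ℂ) := ρ.comp e.toMonoidHom
      haveI : ρ'.IsIrreducible := by
        haveI := CharApp.nontrivial_of_irr ρ
        refine CharApp.isIrreducible_of_forall_invariant ρ' fun W hW => ?_
        refine CharApp.eq_bot_or_top_of_invariant ρ W fun x v hv => ?_
        have := hW (e.symm x) v hv
        simpa [ρ'] using this
      have hcopN : Nat.Coprime (Nat.card N') N'.index := by
        have hidx : N'.index = Nat.card T := by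
          have h1 := Subgroup.card_mul_index N'
          rw [Nat.card_congr e.toEquiv, hcard, mul_comm (Nat.card T)] at h1
          exact Nat.eq_of_mul_eq_mul_left Nat.card_pos h1
        rw [hidx, Nat.card_congr e.toEquiv]
        obtain ⟨a, ha⟩ := hE.1.1.exists_card_eq
        obtain ⟨b, hb⟩ := Q.isPGroup'.exists_card_eq
        rw [hcardT, ha, hb]
        exact Nat.Coprime.pow _ _ ((Nat.coprime_primes Nat.prime_two hp).mpr (Ne.symm hp2))
      obtain ⟨S, hS⟩ := CharExtend.hom_of_coprime ρ' (fun g x => by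
        show ρ.character _ = ρ.character _
        exact hinv (g : G) (e x)) hcopN
      refine ⟨T ⊔ E, le_sup_right, S, hcop, fun x => ?_⟩
      have h1 := hS (e.symm x)
      rw [show ρ'.toHomUnits (e.symm x) = ρ.toHomUnits x from Units.ext (by simp [ρ'])] at h1
      rw [← h1]
      rfl
  obtain ⟨R, hR⟩ := CharExtend.hom_of_local_extensions ρ hinv hloc
  obtain ⟨χ, hχ, hres⟩ := CharExtend.extends_of_hom ρ R hR
  exact ⟨⟨χ, hχ⟩, hres⟩

end Cfsg.Agent.S4759
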