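import Cfsg.Statements.S4762
import Cfsg.Agent.Lib.Blocks.Defect
import Cfsg.Agent.Lib.Cores.Basic
import Cfsg.Agent.Lib.Char.Linear
import Cfsg.Agent.Lib.CharApp.Schur
import Cfsg.Agent.Lib.ExtraspecialChar.Basic
import Cfsg.Agent.Lib.PGroup.Extraspecial

set_option autoImplicit false
open Cfsg
open scoped commutatorElement

namespace Cfsg.Agent.S4762

open Cfsg.Agent

theorem degree_eq_one_iff {G : Type*} [Group G] [Finite G] (χ : IrrCharacter G) :
    charDegree (χ : G → ℂ) = 1 ↔ (χ : G → ℂ) 1 = 1 := by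
  rw [← Blocks.charDegree_cast, Nat.cast_eq_one]

theorem dvd_degree_iff {G : Type*} [Group G] [Finite G] {p : ℕ} [hp : Fact p.Prime]
    (hG : IsPGroup p G) (χ : IrrCharacter G) :
    p ∣ charDegree (χ : G → ℂ) ↔ (χ : G → ℂ) 1 ≠ 1 := by
  rw [ne_eq, ← degree_eq_one_iff]
  obtain ⟨k, hk⟩ := hG.exists_card_eq
  obtain ⟨j, -, hj⟩ := (Nat.dvd_prime_pow hp.out).mp (hk ▸ Blocks.charDegree_dvd_card χ)
  rw [hj]
  constructor
  · intro h h1
    rw [h1] at h
    exact hp.out.not_dvd_one h
  · intro h
    exact dvd_pow_self p fun h0 => h (by rw [h0, pow_zero])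

/-- The degree equation: linear characters plus the others. -/
theorem card_eq {G : Type*} [Group G] [Finite G] [Fintype (IrrCharacter G)] :
    Nat.card G = (commutator G).index +
      ∑ χ ∈ Finset.univ.filter (fun χ : IrrCharacter G => charDegree (χ : G → ℂ) ≠ 1),
        charDegree (χ : G → ℂ) ^ 2 := by
  classical
  have h1 : (Nat.card G : ℂ)
      = ((∑ χ : IrrCharacter G, charDegree (χ : G → ℂ) ^ 2 : ℕ) : ℂ) := by
    push_cast
    simp only [Blocks.charDegree_cast]
    exact Char.sum_sq_degrees.symm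
  rw [Nat.cast_inj.mp h1, ← Char.card_linear_irr, ← Finset.sum_filter_add_sum_filter_not Finset.univ
    (fun χ : IrrCharacter G => charDegree (χ : G → ℂ) = 1)]
  congr 1
  rw [Nat.card_eq_fintype_card, Fintype.card_subtype,
    Finset.filter_congr fun χ _ => (degree_eq_one_iff χ).symm, Finset.card_eq_sum_ones]
  exact Finset.sum_congr rfl fun χ hχ => by rw [(Finset.mem_filter.mp hχ).2, one_pow]

/-- A nilpotent group with exactly one such character is a `p`-group. -/
theorem isPGroup_of_unique {G : Type*} [Group G] [Finite G] [Group.IsNilpotent G] {p : ℕ}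
    [hp : Fact p.Prime]
    (h : Nat.card {χ : IrrCharacter G // p ∣ charDegree (χ : G → ℂ)} = 1) : IsPGroup p G := by
  classical
  obtain ⟨hsub, ⟨χ⟩⟩ := Nat.card_eq_one_iff_unique.mp h
  set P : Sylow p G := default
  set Q := pPrimeCore p G with hQ
  have hnorm : ∀ (q : ℕ) (_ : Fact q.Prime) (S : Sylow q G), (S : Subgroup G).Normal :=
    fun q hq S => ((Group.isNilpotent_of_finite_tfae (G := G)).out 0 3 rfl rfl).mp ‹_› q hq S
  haveI hPn := hnorm p inferInstance P
  have hdisj : Disjoint (P : Subgroup G) Q := by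
    rw [← Cores.pCore_eq_sylow P]
    exact Cores.disjoint_pCore_pPrimeCore
  have hcomm : ∀ (a : (P : Subgroup G)) (b : Q), Commute (a : G) b := fun a b =>
    Subgroup.commute_of_normal_of_disjoint _ _ inferInstance inferInstance hdisj a b a.2 b.2
  set f := MonoidHom.noncommCoprod (P : Subgroup G).subtype Q.subtype hcomm
  have hf : Function.Injective f := by
    rw [← MonoidHom.ker_eq_bot_iff, eq_bot_iff]
    rintro ⟨a, b⟩ hab
    rw [MonoidHom.mem_ker] at hab
    replace hab : (a : G) * (b : G) = 1 := hab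
    have h1 : (a : G) = ((b : G))⁻¹ := eq_inv_of_mul_eq_one_left hab
    have h2 : (a : G) = 1 := Subgroup.disjoint_def.mp hdisj a.2 (h1 ▸ Q.inv_mem b.2)
    rw [h2, one_eq_inv] at h1
    rw [Subgroup.mem_bot, Prod.mk_eq_one]
    exact ⟨Subtype.ext h2, Subtype.ext h1⟩
  have hcard : Nat.card G ∣ Nat.card (↥(P : Subgroup G) × Q) := by
    rw [Nat.card_prod, ← Nat.factorization_prime_le_iff_dvd Nat.card_pos.ne'
      (Nat.mul_ne_zero Nat.card_pos.ne' Nat.card_pos.ne')]
    intro q hq
    haveI := Fact.mk hq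
    rw [← hq.pow_dvd_iff_le_factorization (Nat.mul_ne_zero Nat.card_pos.ne' Nat.card_pos.ne')]
    by_cases hqp : q = p
    · subst hqp
      exact dvd_mul_of_dvd_left (dvd_of_eq P.card_eq_multiplicity.symm) _
    · obtain ⟨S⟩ : Nonempty (Sylow q G) := inferInstance
      have hle : (S : Subgroup G) ≤ Q := Cores.le_pPrimeCore (hnorm q inferInstance S) (by
        rw [S.card_eq_multiplicity]
        exact ((Nat.coprime_primes hq hp.out).mpr hqp).pow_left _)
      exact dvd_mul_of_dvd_right (S.card_eq_multiplicity ▸ Subgroup.card_dvd_of_le hle) _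
  have hbij : Function.Bijective f := (Nat.bijective_iff_injective_and_card f).mpr
    ⟨hf, le_antisymm (Nat.card_le_card_of_injective f hf) (Nat.le_of_dvd Nat.card_pos hcard)⟩
  let e : ↥(P : Subgroup G) × Q ≃* G := MulEquiv.ofBijective f hbij
  obtain ⟨φ, ψ, hφ, hψ, hprod⟩ := (Char.isIrrCharacter_prod_iff _).mp
    (Char.IsIrrCharacter.comp_equiv χ.1.2 e)
  have hsing : Subsingleton (IrrCharacter Q) := by
    refine ⟨fun ψ₁ ψ₂ => ?_⟩
    have hd : p ∣ charDegree φ := by
      have h1 := congrFun hprod 1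
      simp only [map_one, Prod.fst_one, Prod.snd_one] at h1
      have e1 : (charDegree φ : ℂ) = φ 1 := Blocks.charDegree_cast ⟨φ, hφ⟩
      have e2 : (charDegree ψ : ℂ) = ψ 1 := Blocks.charDegree_cast ⟨ψ, hψ⟩
      rw [← Blocks.charDegree_cast, ← e1, ← e2, ← Nat.cast_mul, Nat.cast_inj] at h1
      refine (hp.out.dvd_mul.mp (h1 ▸ χ.2)).resolve_right fun hd => ?_
      exact Cores.not_dvd_card_pPrimeCore (hd.trans (Blocks.charDegree_dvd_card ⟨ψ, hψ⟩))
    have hdeg1 : ∀ ψ' : IrrCharacter Q,
        p ∣ charDegree (fun g : G => φ (e.symm g).1 * (ψ' : Q → ℂ) (e.symm g).2) := by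
      intro ψ'
      have : charDegree (fun g : G => φ (e.symm g).1 * (ψ' : Q → ℂ) (e.symm g).2)
          = charDegree φ * charDegree (ψ' : Q → ℂ) := by
        simp only [charDegree, map_one, Prod.fst_one, Prod.snd_one]
        have e1 : (charDegree φ : ℂ) = φ 1 := Blocks.charDegree_cast ⟨φ, hφ⟩
        rw [← e1, ← Blocks.charDegree_cast ψ']
        simp only [← Nat.cast_mul, Complex.natCast_re, Nat.floor_natCast]
      rw [this]
      exact dvd_mul_of_dvd_left hd _
    let F : IrrCharacter Q → {χ : IrrCharacter G // p ∣ charDegree (χ : G → ℂ)} := fun ψ' =>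
      ⟨⟨_, Char.IsIrrCharacter.comp_equiv (Char.IsIrrCharacter.prodMul hφ ψ'.2) e.symm⟩, hdeg1 ψ'⟩
    have h1 : F ψ₁ = F ψ₂ := Subsingleton.elim _ _
    apply Subtype.ext
    funext b
    have h2 := congrFun (congrArg (fun c : {χ : IrrCharacter G // p ∣ charDegree (χ : G → ℂ)} =>
      ((c.1 : IrrCharacter G) : G → ℂ)) h1) (e (1, b))
    simp only [F, MulEquiv.symm_apply_apply] at h2
    exact mul_left_cancel₀ (Blocks.irr_one_ne_zero ⟨φ, hφ⟩) h2
  have hQsub : Subsingleton Q := by
    refine ⟨fun a b => ?_⟩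
    have hone : ∀ θ : IrrCharacter Q, (θ : Q → ℂ) = 1 := fun θ => by
      have := Subsingleton.elim θ ⟨1, Char.isIrrCharacter_of_hom (1 : Q →* ℂ)⟩
      rw [this]
    have hc : ∀ c : Q, c = 1 := fun c => by
      have : IsConj c 1 := (Char.isConj_iff_irr c 1).mpr fun θ => by rw [hone θ]; rfl
      simpa using this
    rw [hc a, hc b]
  refine P.2.of_surjective ((MonoidHom.noncommCoprod (P : Subgroup G).subtype Q.subtype hcomm).comp
    (MonoidHom.inl _ _)) fun g => ?_
  obtain ⟨⟨a, b⟩, hab⟩ := hbij.2 g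
  exact ⟨a, by rw [← hab, Subsingleton.elim b 1]; rfl⟩

/-- Let p be a prime and G a finite nilpotent group. Then G has exactly one irreducible complex character of degree divisible by p if and only if p = 2 and G is an extraspecial 2-group. -/
theorem result {G : Type*} [Group G] [Finite G] [Group.IsNilpotent G] (p : ℕ) [Fact p.Prime] : Nat.card {χ : Cfsg.IrrCharacter G // p ∣ Cfsg.charDegree (χ : G → ℂ)} = 1 ↔ (p = 2 ∧ Cfsg.IsExtraspecial 2 G) := by
  classical
  have := Fintype.ofFinite G
  have := Fintype.ofFinite (IrrCharacter G)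
  have hp : p.Prime := Fact.out
  have hfilter : IsPGroup p G →
      Nat.card {χ : IrrCharacter G // p ∣ charDegree (χ : G → ℂ)} = (Finset.univ.filter
        (fun χ : IrrCharacter G => charDegree (χ : G → ℂ) ≠ 1)).card := by
    intro hG
    rw [Nat.card_eq_fintype_card, Fintype.card_subtype]
    congr 1
    exact Finset.filter_congr fun χ _ => by
      rw [dvd_degree_iff hG, ne_eq, ne_eq, degree_eq_one_iff]
  constructor
  · intro h
    have hG := isPGroup_of_unique h
    obtain ⟨hsub, ⟨χ₀⟩⟩ := Nat.card_eq_one_iff_unique.mp h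
    rw [hfilter hG, Finset.card_eq_one] at h
    obtain ⟨χ, hχ⟩ := h
    have hsum := card_eq (G := G)
    rw [hχ, Finset.sum_singleton] at hsum
    obtain ⟨N, hN⟩ := hG.exists_card_eq
    obtain ⟨c, hc, hL⟩ := (Nat.dvd_prime_pow hp).mp (hN ▸ (commutator G).index_dvd_card)
    obtain ⟨a, -, ha⟩ := (Nat.dvd_prime_pow hp).mp (hN ▸ Blocks.charDegree_dvd_card χ)
    rw [hN, hL, ha, ← pow_mul] at hsum
    have hcN : c < N := by
      rw [← Nat.pow_lt_pow_iff_right hp.one_lt, hsum]
      exact Nat.lt_add_of_pos_right (pow_pos hp.pos _)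
    have haN : a * 2 < N := by
      rw [← Nat.pow_lt_pow_iff_right hp.one_lt, hsum]
      exact Nat.lt_add_of_pos_left (pow_pos hp.pos _)
    have hca : c = a * 2 := by
      rcases lt_trichotomy c (a * 2) with hlt | he | hgt
      · exfalso
        have h1 : p ^ (c + 1) ∣ p ^ c := by
          have h2 : p ^ (c + 1) ∣ p ^ c + p ^ (a * 2) := hsum ▸ pow_dvd_pow p hcN
          exact (Nat.dvd_add_left (pow_dvd_pow p hlt)).mp h2
        exact absurd ((Nat.pow_dvd_pow_iff_le_right hp.one_lt).mp h1) (by omega)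
      · exact he
      · exfalso
        have h1 : p ^ (a * 2 + 1) ∣ p ^ (a * 2) := by
          have h2 : p ^ (a * 2 + 1) ∣ p ^ c + p ^ (a * 2) := hsum ▸ pow_dvd_pow p haN
          exact (Nat.dvd_add_right (pow_dvd_pow p hgt)).mp h2
        exact absurd ((Nat.pow_dvd_pow_iff_le_right hp.one_lt).mp h1) (by omega)
    rw [← hca, ← two_mul] at hsum
    have hpN : p ^ (N - c) = 2 := by
      apply Nat.eq_of_mul_eq_mul_left (pow_pos hp.pos c)
      rw [← pow_add, Nat.add_sub_cancel' hcN.le, hsum]
      ring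
    have hp2 : p = 2 := (Nat.prime_dvd_prime_iff_eq hp Nat.prime_two).mp
      (hpN ▸ dvd_pow_self p (by omega))
    subst hp2
    refine ⟨rfl, ?_⟩
    have hG'card : Nat.card (commutator G) = 2 := by
      apply Nat.eq_of_mul_eq_mul_left (pow_pos hp.pos c)
      have := (commutator G).index_mul_card
      rw [hL, hN] at this
      rw [this, hsum]; ring
    -- the derived group is central
    have hcentral : commutator G ≤ Subgroup.center G := by
      intro z hz
      rw [Subgroup.mem_center_iff]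
      intro g
      by_cases hz1 : z = 1
      · simp [hz1]
      have hmem : g * z * g⁻¹ ∈ commutator G := Subgroup.Normal.conj_mem inferInstance z hz g
      have hne : g * z * g⁻¹ ≠ 1 := fun h0 => hz1 (by simpa using h0)
      obtain ⟨w, hw1, hw⟩ := (Nat.card_eq_two_iff' (1 : commutator G)).mp hG'card
      have e1 := hw ⟨z, hz⟩ (fun hh => hz1 (congrArg Subtype.val hh))
      have e2 := hw ⟨g * z * g⁻¹, hmem⟩ (fun hh => hne (congrArg Subtype.val hh))
      exact mul_inv_eq_iff_eq_mul.mp (congrArg Subtype.val (e2.trans e1.symm))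
    have hcenter : Subgroup.center G = commutator G := by
      refine le_antisymm (fun z hz => ?_) hcentral
      by_contra hzc
      obtain ⟨φ, hφ⟩ := CommGroup.exists_apply_ne_one_of_hasEnoughRootsOfUnity (Abelianization G) ℂ
        (a := Abelianization.of z) (fun h0 => hzc ((Abelianization.ker_of G) ▸
          MonoidHom.mem_ker.mpr h0 : z ∈ commutator G))
      let l : G →* ℂ := (Units.coeHom ℂ).comp (φ.comp Abelianization.of)
      have hl : l z ≠ 1 := fun h0 => hφ (Units.ext h0)
      let ψ : IrrCharacter G := ⟨_, Char.IsIrrCharacter.mul_linear χ₀.1.2 l⟩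
      have hψd : 2 ∣ charDegree (ψ : G → ℂ) := by
        have : charDegree (ψ : G → ℂ) = charDegree (χ₀.1 : G → ℂ) := by
          simp [ψ, charDegree]
        rw [this]; exact χ₀.2
      have h1 := congrFun (congrArg (fun c : {χ : IrrCharacter G // 2 ∣ charDegree (χ : G → ℂ)} =>
        ((c.1 : IrrCharacter G) : G → ℂ)) (Subsingleton.elim ⟨ψ, hψd⟩ χ₀)) z
      have hz0 : (χ₀.1 : G → ℂ) z = 0 := by
        by_contra hne0
        refine hl (mul_left_cancel₀ hne0 ?_)
        simpa [ψ] using h1
      obtain ⟨n, ρ, hirr, hρ⟩ := χ₀.1.2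
      haveI := hirr
      obtain ⟨s, hs⟩ := CharApp.exists_scalar_of_mem_center ρ hz
      have h2 : ρ.character z = s * ρ.character 1 := by
        show LinearMap.trace ℂ _ (ρ z) = s * LinearMap.trace ℂ _ (ρ 1)
        rw [hs, map_smul, smul_eq_mul, map_one ρ]
      rw [hρ, hz0] at h2
      rcases mul_eq_zero.mp h2.symm with hs0 | h0
      · have h3 : ρ z⁻¹ * ρ z = 1 := by rw [← map_mul, inv_mul_cancel, map_one]
        rw [hs, hs0, zero_smul, mul_zero] at h3
        haveI := CharApp.nontrivial_of_irr ρ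
        exact zero_ne_one h3
      · exact Blocks.irr_one_ne_zero χ₀.1 h0
    refine ⟨⟨hG, ?_, hcenter.symm⟩, hcenter ▸ hG'card⟩
    rw [hcenter]
    refine le_antisymm (PGroup.frattini_le_of_quotient_elementary (p := 2) le_rfl fun x => ?_)
      ?_
    · rw [← hcenter, Subgroup.mem_center_iff]
      intro g
      have hc1 : ⁅x, g⁆ ∈ commutator G :=
        Subgroup.commutator_mem_commutator (Subgroup.mem_top x) (Subgroup.mem_top g)
      have hw := Subgroup.mem_center_iff.mp (hcentral hc1)
      have hw2 : ⁅x, g⁆ * ⁅x, g⁆ = 1 := by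
        have h := congrArg Subtype.val (pow_card_eq_one' (x := (⟨⁅x, g⁆, hc1⟩ : commutator G)))
        rw [hG'card, Subgroup.coe_pow, pow_two] at h
        exact h
      symm
      calc x ^ 2 * g = x * (⁅x, g⁆ * g * x) := by rw [commutatorElement_def, pow_two]; group
        _ = (x * ⁅x, g⁆) * g * x := by group
        _ = ⁅x, g⁆ * (⁅x, g⁆ * g * x) * x := by rw [hw x, commutatorElement_def]; group
        _ = (⁅x, g⁆ * ⁅x, g⁆) * (g * x ^ 2) := by rw [pow_two]; group
        _ = g * x ^ 2 := by rw [hw2, one_mul]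
    · exact PGroup.commutator_le_frattini hG
  · rintro ⟨rfl, hE⟩
    obtain ⟨n, hn⟩ := PGroup.IsES.card_eq_odd_pow (p := 2) _ G (PGroup.isES_of_isExtraspecial hE)
      le_rfl
    rw [hfilter hE.1.1]
    have hsum := card_eq (G := G)
    have hL : (commutator G).index = 2 ^ (2 * n) := by
      apply Nat.eq_of_mul_eq_mul_right (show 0 < 2 by norm_num)
      have := (commutator G).index_mul_card
      rw [hE.1.2.2, hE.2, hn] at this
      rw [hE.1.2.2, this]; ring
    rw [hL, hn, Finset.sum_congr rfl (g := fun _ => (2 ^ n) ^ 2) (fun χ hχ => by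
      have h1 := ExtraspecialChar.degree_eq hE hn χ.2
        (fun h0 => (Finset.mem_filter.mp hχ).2 ((degree_eq_one_iff χ).mpr h0))
      rw [← Blocks.charDegree_cast] at h1
      have h1' : charDegree (χ : G → ℂ) = 2 ^ n := by exact_mod_cast h1
      rw [h1']), Finset.sum_const, smul_eq_mul] at hsum
    apply Nat.eq_of_mul_eq_mul_right (pow_pos (pow_pos (show 0 < 2 by norm_num) n) 2)
    have e1 : 2 ^ (2 * n + 1) = 2 ^ (2 * n) + 2 ^ (2 * n) := by ring
    rw [← pow_mul, mul_comm n 2] at hsum ⊢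
    omega

end Cfsg.Agent.S4762
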