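import Cfsg.Statements.S4779
import Cfsg.Agent.Lib.CharApp.RelDegreeDist

set_option autoImplicit false
set_option linter.style.haveILetI false
open Cfsg

namespace Cfsg.Agent.S4779

open Cfsg.Agent.RelDegree Cfsg.Agent.RelDegreeDist Cfsg.Agent.CharExtend

attribute [-instance] MonoidHom.instPow MonoidHom.instInv MonoidHom.mul instOneMonoidHom

variable {G : Type*} [Group G] [Fintype G] (N : Subgroup G) [N.Normal] [Fintype N]

theorem pos_of_mem (v : ↥(relCharDegrees N)) : 0 < (v : ℕ) := by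
  obtain ⟨θ, -, hθ⟩ := exists_of_mem N v.2
  exact deg_pos N hθ

theorem adj_of_dvd {b c : ↥(relCharDegrees N)} (hbc : b ≠ c) {q : ℕ} (hq : q ≠ 1)
    (hb : q ∣ (b : ℕ)) (hc : q ∣ (c : ℕ)) : (commonDivisorGraph.induce (relCharDegrees N)).Adj b c := by
  refine ⟨fun h => hbc (Subtype.ext h), lt_of_le_of_ne (Nat.gcd_pos_of_pos_left _ (pos_of_mem N b))
    fun h1 => hq ?_⟩
  exact Nat.dvd_one.1 (h1 ▸ Nat.dvd_gcd hb hc)

theorem near_of_mid {b c : ↥(relCharDegrees N)} (hbc : b ≠ c) {θ : IrrCharacter N} (hθ : θ ≠ triv N)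
    {q q' : ℕ} (hq : q ≠ 1) (hq' : q' ≠ 1) (hb : q ∣ (b : ℕ)) (hc : q' ∣ (c : ℕ))
    (hd : ∀ e, Deg N θ e → q ∣ e ∧ q' ∣ e) :
    (commonDivisorGraph.induce (relCharDegrees N)).Adj b c ∨ ∃ d : ↥(relCharDegrees N),
      (commonDivisorGraph.induce (relCharDegrees N)).Adj b d ∧
        (commonDivisorGraph.induce (relCharDegrees N)).Adj d c := by
  obtain ⟨e, he⟩ := exists_deg N θ
  obtain ⟨h1, h2⟩ := hd e he
  let d : ↥(relCharDegrees N) := ⟨e, deg_mem N hθ he⟩
  by_cases hbd : b = d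
  · exact Or.inl (adj_of_dvd N hbc hq' (by rw [hbd]; exact h2) hc)
  by_cases hdc : d = c
  · exact Or.inl (adj_of_dvd N hbc hq hb (by rw [← hdc]; exact h1))
  exact Or.inr ⟨d, adj_of_dvd N hbd hq hb h1, adj_of_dvd N hdc hq' h2 hc⟩

theorem charDegree_eq (θ : IrrCharacter N) {d : ℕ} (hd : (θ : N → ℂ) 1 = d) :
    charDegree (θ : N → ℂ) = d := by
  simp [charDegree, hd]

theorem dr_prod_left {r s : ℕ} (hr : r.Prime) (hs : s.Prime) (hne : r ≠ s) {α β : N →* ℂˣ}
    (hαr : α ^ (ordProj[r] (Nat.card N)) = 1) (hβs : β ^ (ordProj[s] (Nat.card N)) = 1) :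
    dr hr (lin N (α * β) : N → ℂ) = α := by
  rw [coe_lin, dr, dh_valHom, mul_pow, pow_kr_eq_self hr hαr,
    pow_kr_eq_one hr hs (Ne.symm hne) hβs]
  exact hom_mul_one _

theorem main [Group.IsSolvable N] (hNG : N ≤ commutator G)
    (hdisc : ¬ (commonDivisorGraph.induce (relCharDegrees N)).Preconnected) :
    ∃ a₀ : ↥(relCharDegrees N),
      (∀ b c : ↥(relCharDegrees N), (commonDivisorGraph.induce (relCharDegrees N)).Reachable a₀ b →
        (commonDivisorGraph.induce (relCharDegrees N)).Reachable a₀ c → b ≠ c →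
          (commonDivisorGraph.induce (relCharDegrees N)).Adj b c) ∧
      (∀ b c : ↥(relCharDegrees N), ¬ (commonDivisorGraph.induce (relCharDegrees N)).Reachable a₀ b →
        ¬ (commonDivisorGraph.induce (relCharDegrees N)).Reachable a₀ c → b ≠ c →
          (commonDivisorGraph.induce (relCharDegrees N)).Adj b c ∨ ∃ d : ↥(relCharDegrees N),
            (commonDivisorGraph.induce (relCharDegrees N)).Adj b d ∧
              (commonDivisorGraph.induce (relCharDegrees N)).Adj d c) := by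
  classical
  set Γ := commonDivisorGraph.induce (relCharDegrees N)
  simp only [SimpleGraph.Preconnected, not_forall] at hdisc
  obtain ⟨u, v, huv⟩ := hdisc
  have hN : N ≠ ⊥ := fun h => by
    obtain ⟨χ, ⟨x, hx, hne⟩, -⟩ := u.2
    rw [h, Subgroup.mem_bot] at hx
    exact hne (by rw [hx])
  haveI : Nontrivial N := N.nontrivial_iff_ne_bot.2 hN
  have hrel := relIndex_commutator N
  have hm : (commutator N).index ≠ 1 := fun h =>
    (Group.IsSolvable.commutator_lt_top_of_nontrivial N).ne (Subgroup.index_eq_one.1 h)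
  obtain ⟨r, hr, hrm⟩ := Nat.exists_prime_and_dvd hm
  -- a vertex divisible by every prime of the index, the other one coprime to it
  obtain ⟨v, u, huv, hu, hv⟩ : ∃ v u : ↥(relCharDegrees N), ¬ Γ.Reachable v u ∧
      Nat.Coprime (u : ℕ) (commutator N).index ∧
      ∀ r : ℕ, r.Prime → r ∣ (commutator N).index → r ∣ (v : ℕ) := by
    rcases dichotomy N hNG u.2 v.2 huv with ⟨h1, h2⟩ | ⟨h1, h2⟩ <;> rw [hrel] at h1 h2
    · exact ⟨v, u, fun h => huv h.symm, h1, h2⟩
    · exact ⟨u, v, huv, h1, h2⟩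
  have hexcl : ∀ {x : ℕ}, Nat.Coprime x (commutator N).index →
      ¬ ∀ r : ℕ, r.Prime → r ∣ (commutator N).index → r ∣ x := fun h h' =>
    hr.ne_one (Nat.eq_one_of_dvd_coprimes h (h' r hr hrm) hrm)
  have hA : ∀ b : ↥(relCharDegrees N), Γ.Reachable v b →
      ∀ r : ℕ, r.Prime → r ∣ (commutator N).index → r ∣ (b : ℕ) := fun b hb => by
    rcases dichotomy N hNG u.2 b.2 (fun h => huv (hb.trans h.symm)) with ⟨-, h2⟩ | ⟨-, h2⟩ <;>
      rw [hrel] at h2
    · exact h2
    · exact absurd h2 (hexcl hu)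
  have hB : ∀ b : ↥(relCharDegrees N), ¬ Γ.Reachable v b →
      Nat.Coprime (b : ℕ) (commutator N).index := fun b hb => by
    rcases dichotomy N hNG v.2 b.2 hb with ⟨h1, -⟩ | ⟨h1, -⟩ <;> rw [hrel] at h1
    · exact absurd hv (hexcl h1)
    · exact h1
  refine ⟨v, fun b c hb hc hne => adj_of_dvd N hne hr.ne_one (hA b hb r hr hrm) (hA c hc r hr hrm), ?_⟩
  obtain ⟨p, hp1, hp⟩ := exists_p_or_mult (H := N)
  -- over a vertex outside the clique: a common prime, or a proper orbit of a linear character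
  have htype : ∀ b : ↥(relCharDegrees N), ¬ Γ.Reachable v b →
      (∃ (θ : IrrCharacter N) (d : ℕ), (θ : N → ℂ) 1 = d ∧ d ≠ 1 ∧ d ∣ (b : ℕ) ∧ p ∣ d) ∨
      ∃ (s : ℕ) (_ : s.Prime) (δ : N →* ℂˣ), s ∣ (commutator N).index ∧ δ ≠ 1 ∧
        δ ^ (ordProj[s] (Nat.card N)) = 1 ∧ (TT N δ).index ≠ 1 ∧ ¬ s ∣ (TT N δ).index ∧
        (TT N δ).index ∣ (b : ℕ) := by
    intro b hb
    obtain ⟨θ, hθ, hθb⟩ := exists_of_mem N b.2
    obtain ⟨d, -, hd⟩ := Char.IsIrrCharacter.exists_degree θ.2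
    by_cases hd1 : d = 1
    · exact Or.inr (route_linear N hNG hθ (by rw [hd, hd1, Nat.cast_one]) hθb (hB b hb))
    refine Or.inl ⟨θ, d, hd, hd1, ?_, ?_⟩
    · exact charDegree_eq N θ hd ▸ degree_dvd_deg N hθb
    have hdb : d ∣ (b : ℕ) := charDegree_eq N θ hd ▸ degree_dvd_deg N hθb
    refine (hp θ d hd hd1 ((hB b hb).coprime_dvd_left hdb)).resolve_right ?_
    rintro ⟨φ, c, hc, hdc, hcm⟩
    obtain ⟨e, he⟩ := exists_deg N φ
    have hφ : φ ≠ triv N := fun e' => hd1 (Nat.dvd_one.1 (by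
      have : c = 1 := by
        have h1 : ((c : ℕ) : ℂ) = 1 := by rw [← hc, e']; simp [triv, coe_lin]
        exact_mod_cast h1
      exact this ▸ hdc))
    have hce : c ∣ e := charDegree_eq N φ hc ▸ degree_dvd_deg N he
    have hreach : Γ.Reachable b ⟨e, deg_mem N hφ he⟩ :=
      (conn_of_dvd N b.2 (deg_mem N hφ he) (pos_of_mem N b) hd1 hdb (hdc.trans hce)).2.2
    have hne' : ¬ Γ.Reachable v ⟨e, deg_mem N hφ he⟩ := fun h => hb (h.trans hreach.symm)
    exact hcm ((hB _ hne').coprime_dvd_left hce)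
  intro b c hb hc hne
  -- mixed case
  have hmix : ∀ {x y : ↥(relCharDegrees N)}, x ≠ y → ¬ Γ.Reachable v x → ¬ Γ.Reachable v y →
      ∀ {θ : IrrCharacter N} {d : ℕ}, (θ : N → ℂ) 1 = d → d ≠ 1 → d ∣ (x : ℕ) →
      ∀ {s : ℕ} (hs : s.Prime) {δ : N →* ℂˣ}, s ∣ (commutator N).index → δ ≠ 1 →
        δ ^ (ordProj[s] (Nat.card N)) = 1 → (TT N δ).index ≠ 1 → (TT N δ).index ∣ (y : ℕ) →
      Γ.Adj x y ∨ ∃ z : ↥(relCharDegrees N), Γ.Adj x z ∧ Γ.Adj z y := by
    intro x y hxy hx _ θ d hd hd1 hdx s hs δ hsm hδ hδr hk hky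
    obtain ⟨θ', hθ', hd', hdr⟩ := twist N hs θ hd
      (fun h => hs.ne_one (Nat.eq_one_of_dvd_coprimes (hB x hx) (h.trans hdx) hsm)) hδ hδr
    exact near_of_mid N hxy hθ' hd1 hk hdx hky fun e he =>
      ⟨charDegree_eq N θ' hd' ▸ degree_dvd_deg N he,
        index_dvd_deg N he (hdr ▸ inertia_le_TT N hs θ')⟩
  rcases htype b hb with ⟨θ, d, hd, hd1, hdb, hpd⟩ | ⟨s, hs, δ, hsm, hδ, hδr, hk, hsk, hkb⟩ <;>
    rcases htype c hc with ⟨φ, d', hd', hd1', hdc, hpd'⟩ | ⟨t, ht, ε, htm, hε, hεt, hl, htl, hlc⟩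
  · exact Or.inl (adj_of_dvd N hne hp1 (hpd.trans hdb) (hpd'.trans hdc))
  · exact hmix hne hb hc hd hd1 hdb ht htm hε hεt hl hlc
  · rcases hmix hne.symm hc hb hd' hd1' hdc hs hsm hδ hδr hk hkb with h | ⟨z, h1, h2⟩
    · exact Or.inl h.symm
    · exact Or.inr ⟨z, h2.symm, h1.symm⟩
  by_cases hst : s = t
  · subst hst
    by_cases hcop : Nat.Coprime (TT N δ).index (TT N ε).index
    · obtain ⟨π, hπ, h1, h2⟩ := pair_mid N hs hδr hεt hsk hk htl hl hcop
      exact near_of_mid N hne (lin_ne_triv N hπ) h1 h2 ((Nat.gcd_dvd_left _ _).trans hkb)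
        ((Nat.gcd_dvd_right _ _).trans hlc) fun e he =>
        ⟨(Nat.gcd_dvd_right _ _).trans (index_dvd_deg N he le_rfl),
          (Nat.gcd_dvd_left _ _).trans (index_dvd_deg N he le_rfl)⟩
    · exact Or.inl (adj_of_dvd N hne hcop ((Nat.gcd_dvd_left _ _).trans hkb)
        ((Nat.gcd_dvd_right _ _).trans hlc))
  · have h1 := dr_prod_left N hs ht hst hδr hεt
    have h2 : dr ht (lin N (δ * ε) : N → ℂ) = ε := by
      rw [hom_mul_comm]; exact dr_prod_left N ht hs (Ne.symm hst) hεt hδr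
    have hne' : δ * ε ≠ 1 := fun e => hδ (by rw [← h1, e, coe_lin, dr, dh_valHom, one_pow])
    exact near_of_mid N hne (lin_ne_triv N hne') hk hl hkb hlc fun e he =>
      ⟨index_dvd_deg N he (le_of_le_of_eq (inertia_le_TT N hs (lin N (δ * ε))) (congrArg (TT N) h1)),
        index_dvd_deg N he (le_of_le_of_eq (inertia_le_TT N ht (lin N (δ * ε))) (congrArg (TT N) h2))⟩


/-- Let N be a solvable normal subgroup of the finite group G contained in the derived subgroup of G, and consider the common-divisor graph on the relative degree set cd(G|N) (degrees of irreducible complex characters of G whose kernel does not contain N, two distinct degrees adjacent when not coprime). If this graph has two vertices that are not joined by any path, then there is a vertex a₀ such that any two distinct vertices in the component of a₀ are adjacent, and any two distinct vertices outside that component are adjacent or have a common neighbour (one component is complete,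 the other has diameter at most 2). -/
theorem result {G : Type*} [Group G] [Finite G] (N : Subgroup G) [N.Normal] [Group.IsSolvable N] (hNG : N ≤ commutator G) (hdisc : ¬ (Cfsg.commonDivisorGraph.induce (Cfsg.relCharDegrees N)).Preconnected) : ∃ a₀ : ↥(Cfsg.relCharDegrees N), (∀ b c : ↥(Cfsg.relCharDegrees N), (Cfsg.commonDivisorGraph.induce (Cfsg.relCharDegrees N)).Reachable a₀ b → (Cfsg.commonDivisorGraph.induce (Cfsg.relCharDegrees N)).Reachable a₀ c → b ≠ c → (Cfsg.commonDivisorGraph.induce (Cfsg.relCharDegrees N)).Adj b c) ∧ (∀ b c : ↥(Cfsg.relCharDegrees N), ¬ (Cfsg.commonDivisorGraph.induce (Cfsg.relCharDegrees N)).Reachable a₀ b → ¬ (Cfsg.commonDivisorGraph.induce (Cfsg.relCharDegrees N)).Reachable a₀ c → b ≠ c → (Cfsg.commonDivisorGraph.induce (Cfsg.relCharDegrees N)).Adj b c ∨ ∃ d : ↥(Cfsg.relCharDegrees N), (Cfsg.commonDivisorGraph.induce (Cfsg.relCharDegrees N)).Adj b d ∧ (Cfsg.commonDivisorGraph.induce (Cfsg.relCharDegrees N)).Adj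 d c) := by
  haveI := Fintype.ofFinite G
  haveI := Fintype.ofFinite N
  exact main N hNG hdisc

end Cfsg.Agent.S4779
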