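import Cfsg.Statements.S4780
import Cfsg.Agent.Lib.NoDivDeg.Main

set_option autoImplicit false
open Cfsg

namespace Cfsg.Agent.S4780

/-- Let G be a finite solvable group in which no irreducible complex character degree a with 1 < a divides a larger irreducible character degree. Then G has at most four distinct irreducible character degrees and the third derived subgroup of G is trivial. -/
theorem result {G : Type*} [Group G] [Finite G] [Group.IsSolvable G] (hnd : ∀ a ∈ Cfsg.charDegrees G, ∀ b ∈ Cfsg.charDegrees G, 1 < a → a < b → ¬ a ∣ b) : Nat.card ↥(Cfsg.charDegrees G) ≤ 4 ∧ derivedSeries G 3 = ⊥ := by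
  classical
  have h : Cfsg.Agent.NoDivDeg.NoDiv G := fun χ χ' h1 h2 => hnd _ ⟨χ, rfl⟩ _ ⟨χ', rfl⟩ h1 h2
  obtain ⟨⟨a, b, c, habc⟩, h3⟩ := h.exists_four
  refine ⟨?_, h3⟩
  have hsub : Cfsg.charDegrees G ⊆ (({1, a, b, c} : Finset ℕ) : Set ℕ) := by
    rintro d ⟨χ, rfl⟩
    rcases habc χ with e | e | e | e <;> simp [e]
  rw [Nat.card_coe_set_eq]
  refine (Set.ncard_le_ncard hsub (Finset.finite_toSet _)).trans ?_
  rw [Set.ncard_coe_finset]
  exact Finset.card_le_four

end Cfsg.Agent.S4780
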