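import Cfsg.Statements.S4784
import Cfsg.Agent.Lib.Codegree.Basic
import Cfsg.Agent.Lib.Char.Perm
import Cfsg.Agent.S0158

set_option autoImplicit false
open Cfsg

namespace Cfsg.Agent.S4784

open Cfsg
open scoped ComplexConjugate

variable {G : Type*} [Group G] [Fintype G]

theorem nu_cases (χ : IrrCharacter G) :
    let ν := (Nat.card G : ℂ)⁻¹ * ∑ g : G, (χ : G → ℂ) (g * g)
    (ν = 0 ∨ ν = 1 ∨ ν = -1) ∧ (ν ≠ 0 → ∀ g : G, conj ((χ : G → ℂ) g) = (χ : G → ℂ) g) := by
  obtain ⟨n, ρ, hρ, hχ⟩ := χ.2
  simp only [← hχ]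
  have h := S0158.result ρ
  refine ⟨h.1, fun hne g => ?_⟩
  rw [Complex.conj_eq_iff_im]
  by_contra hg
  exact hne (h.2.2 ⟨g, hg⟩)

theorem coset_sum_zero (χ : IrrCharacter G) (M : Subgroup G) [M.Normal] [Fintype M]
    (hM : ¬ M ≤ Codegree.kerSub χ) (x : G) : ∑ m : M, (χ : G → ℂ) (x * m) = 0 := by
  classical
  obtain ⟨n, ρ, hρ, hχ⟩ := χ.2
  let f : G → ℂ := fun g => if g ∈ M then 1 else 0
  have hf : IsClassFunction G f := fun g h => by
    refine if_congr ⟨fun e => ?_, fun e => (inferInstance : M.Normal).conj_mem _ e h⟩ rfl rfl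
    simpa [mul_assoc] using (inferInstance : M.Normal).conj_mem _ e h⁻¹
  have hop := Char.groupSumOp_eq_smul ρ hf
  have h0 : ∑ g : G, f g * ρ.character g = 0 := by
    rw [← Codegree.sum_normal_eq_zero χ M hM]
    simp only [f, ite_mul, one_mul, zero_mul, ← hχ, ← Finset.sum_filter]
    exact Finset.sum_subtype _ (fun y => by simp) _
  rw [h0, zero_div, zero_smul] at hop
  have := congrArg (fun T => LinearMap.trace ℂ _ (ρ x * T)) hop
  simp only [Char.groupSumOp, Finset.mul_sum, mul_smul_comm, ← map_mul, map_sum, map_smul,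
    smul_eq_mul, mul_zero, map_zero] at this
  rw [← this, ← hχ]
  simp only [f, ite_mul, one_mul, zero_mul, ← Finset.sum_filter]
  symm
  exact Finset.sum_subtype _ (fun y => by simp) _

theorem sum_comp_mk (N : Subgroup G) [N.Normal] [Fintype (G ⧸ N)] (f : G ⧸ N → ℂ) :
    ∑ g : G, f g = (Nat.card N : ℂ) * ∑ q : G ⧸ N, f q := by
  classical
  haveI := Fintype.ofFinite N
  rw [← Finset.sum_fiberwise Finset.univ (fun g : G => (g : G ⧸ N)), Finset.mul_sum]
  refine Finset.sum_congr rfl fun q _ => ?_
  rw [Finset.sum_congr rfl (g := fun _ => f q) (fun g hg => by rw [(Finset.mem_filter.1 hg).2]),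
    Finset.sum_const, nsmul_eq_mul]
  congr 2
  rw [← Fintype.card_subtype, Nat.card_eq_fintype_card]
  refine Fintype.card_congr ?_
  exact { toFun := fun a => ⟨q.out⁻¹ * a.1, QuotientGroup.eq.1 (q.out_eq'.trans a.2.symm)⟩
          invFun := fun n => ⟨q.out * n.1, (QuotientGroup.mk_mul_of_mem q.out n.2).trans q.out_eq'⟩
          left_inv := fun a => by simp
          right_inv := fun n => by simp }

/-- At least `2|G|` pairs `(g, x)` with `g * g` fixing `x` when some element swaps two points. -/
theorem two_mul_card_le {X : Type*} [MulAction G X] [Finite X]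
    (htrans : MulAction.IsPretransitive G X) (x₀ : X) (t : G) (h1 : t • x₀ ≠ x₀)
    (h2 : t • (t • x₀) = x₀) :
    2 * Nat.card G ≤ ∑ g : G, Nat.card (MulAction.fixedBy X (g * g)) := by
  classical
  haveI := Fintype.ofFinite X
  let A : Finset (G × X) := Finset.univ.filter fun p => p.1 • p.1 • p.2 = p.2
  have hA : ∑ g : G, Nat.card (MulAction.fixedBy X (g * g)) = A.card := by
    simp only [A, Finset.card_filter, Fintype.sum_prod_type]
    refine Finset.sum_congr rfl fun g _ => ?_
    rw [Nat.card_eq_fintype_card, Fintype.card_subtype, Finset.card_filter]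
    refine Finset.sum_congr rfl fun x _ => ?_
    refine if_congr ?_ rfl rfl
    simp [mul_smul]
  rw [hA]
  let D := MulAction.stabilizer G x₀ ⊓ MulAction.stabilizer G (t • x₀)
  let Φ : G × D → G × X := fun p => (p.1 * t * (p.2 : G) * p.1⁻¹, p.1 • x₀)
  let B := (Finset.univ : Finset (G × D)).image Φ
  let C : Finset (G × X) := Finset.univ.filter fun p => p.1 • p.2 = p.2
  have hB : B ⊆ A \ C := by
    intro p hp
    obtain ⟨⟨k, s, hs1, hs2⟩, -, rfl⟩ := Finset.mem_image.1 hp
    change s • x₀ = x₀ at hs1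
    change s • (t • x₀) = t • x₀ at hs2
    have e1 : (k * t * s * k⁻¹) • k • x₀ = k • t • x₀ := by
      simp only [mul_smul, inv_smul_smul, hs1]
    have e2 : (k * t * s * k⁻¹) • k • t • x₀ = k • x₀ := by
      simp only [mul_smul, inv_smul_smul, hs2, h2]
    simp only [A, C, Φ, Finset.mem_sdiff, Finset.mem_filter, Finset.mem_univ, true_and]
    refine ⟨by rw [e1, e2], fun e => h1 ?_⟩
    rw [e1] at e
    exact smul_left_cancel k e
  have hBc : Nat.card G ≤ B.card := by
    have := Finset.card_le_mul_card_image (f := Φ) (Finset.univ : Finset (G × D)) (Nat.card D) ?_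
    · rw [Finset.card_univ, ← Nat.card_eq_fintype_card, Nat.card_prod, mul_comm] at this
      exact Nat.le_of_mul_le_mul_left this Nat.card_pos
    · intro q hq
      obtain ⟨⟨k, s⟩, -, rfl⟩ := Finset.mem_image.1 hq
      rw [← Fintype.card_subtype, ← Nat.card_eq_fintype_card]
      refine Nat.card_le_card_of_injective (fun r => (⟨k⁻¹ * r.1.1, ?_⟩ : D)) ?_
      · have e := r.2
        simp only [Φ, Prod.mk.injEq] at e
        obtain ⟨e1, e2⟩ := e
        have s1 := MulAction.mem_stabilizer_iff.1 s.2.1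
        have r1 := MulAction.mem_stabilizer_iff.1 r.1.2.2.1
        refine ⟨MulAction.mem_stabilizer_iff.2 ?_, MulAction.mem_stabilizer_iff.2 ?_⟩
        · rw [mul_smul, e2, inv_smul_smul]
        · have l : (r.1.1 * t * r.1.2.1 * r.1.1⁻¹) • r.1.1 • x₀ = r.1.1 • t • x₀ := by
            simp only [mul_smul, inv_smul_smul, r1]
          have l' : (k * t * s.1 * k⁻¹) • k • x₀ = k • t • x₀ := by
            simp only [mul_smul, inv_smul_smul, s1]
          have e3 : r.1.1 • t • x₀ = k • t • x₀ :=
            l.symm.trans ((congrArg₂ (fun (g : G) (y : X) => g • y) e1 e2).trans l')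
          rw [mul_smul, e3, inv_smul_smul]
      · intro r r' e
        have ek : r.1.1 = r'.1.1 := mul_left_cancel (congrArg Subtype.val e)
        have e1 := r.2
        have e1' := r'.2
        simp only [Φ, Prod.mk.injEq] at e1 e1'
        have := e1.1.trans e1'.1.symm
        rw [ek] at this
        exact Subtype.ext (Prod.ext ek (Subtype.ext (mul_left_cancel (mul_right_cancel this))))
  have hCA : C ⊆ A := by
    intro p hp
    simp only [A, C, Finset.mem_filter, Finset.mem_univ, true_and] at hp ⊢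
    rw [hp, hp]
  have hCc : C.card = Nat.card G := by
    have hu : ∀ x : X, (Finset.univ.filter fun g : G => g • x = x).card * Fintype.card X = Nat.card G := by
      intro x
      have := MulAction.card_orbit_mul_card_stabilizer_eq_card_group G x
      rw [mul_comm, ← Nat.card_eq_fintype_card (α := G)] at this
      rw [← this]
      congr 1
      · rw [← Fintype.card_subtype]; rfl
      · exact (Fintype.card_congr ((Equiv.setCongr (MulAction.orbit_eq_univ G x)).trans
          (Equiv.Set.univ X))).symm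
    simp only [C, Finset.card_filter, Fintype.sum_prod_type]
    rw [Finset.sum_comm]
    simp only [← Finset.card_filter]
    have hX : 0 < Fintype.card X := Fintype.card_pos_iff.2 ⟨x₀⟩
    refine Nat.eq_of_mul_eq_mul_right hX ?_
    rw [Finset.sum_mul, Finset.sum_congr rfl (fun x _ => hu x), Finset.sum_const, Finset.card_univ,
      smul_eq_mul, mul_comm]
  have h3 := Finset.card_le_card hB
  rw [Finset.card_sdiff_of_subset hCA] at h3
  omega

/-- Let H be a subgroup of the finite group G and consider the permutation character of G on the cosets of H (the function induced from the principal character of H). Then exactly one irreducible constituent of it is real-valued with Frobenius–Schur indicator +1 (namely the principal character) if and only if the normal core of H has odd index in G. -/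
theorem result {G : Type*} [Group G] [Fintype G] (H : Subgroup G) : Nat.card {χ : Cfsg.IrrCharacter G // Cfsg.classInner (Cfsg.indFun H (fun _ : H => (1 : ℂ))) (χ : G → ℂ) ≠ 0 ∧ (∀ g : G, (starRingEnd ℂ) ((χ : G → ℂ) g) = (χ : G → ℂ) g) ∧ (Nat.card G : ℂ)⁻¹ * ∑ g : G, (χ : G → ℂ) (g * g) = 1} = 1 ↔ Odd H.normalCore.index := by
  classical
  haveI := Fintype.ofFinite (Cfsg.IrrCharacter G)
  haveI := Fintype.ofFinite H
  let one : Cfsg.IrrCharacter G := ⟨fun _ => 1, Char.isIrrCharacter_one⟩
  let π := Cfsg.indFun H (fun _ : H => (1 : ℂ))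
  let P : Cfsg.IrrCharacter G → Prop := fun χ => Cfsg.classInner π (χ : G → ℂ) ≠ 0 ∧
    (∀ g : G, (starRingEnd ℂ) ((χ : G → ℂ) g) = (χ : G → ℂ) g) ∧
    (Nat.card G : ℂ)⁻¹ * ∑ g : G, (χ : G → ℂ) (g * g) = 1
  change Nat.card {χ // P χ} = 1 ↔ _
  have hG : (Nat.card G : ℂ) ≠ 0 := by simp
  have hπ : Cfsg.IsCharacter G π :=
    Char.IsCharacter.indFun (H := H) (Char.IsIrrCharacter.isCharacter Char.isIrrCharacter_one)
  have hrec : ∀ χ : Cfsg.IrrCharacter G, Cfsg.classInner π (χ : G → ℂ) =
      (Nat.card H : ℂ)⁻¹ * ∑ h : H, (starRingEnd ℂ) ((χ : G → ℂ) h) := by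
    intro χ
    rw [Char.frobenius_reciprocity _ _ (Char.IsIrrCharacter.isClassFunction χ.2)]
    simp [Cfsg.classInner]
  have hone : P one := by
    refine ⟨?_, fun g => by simp [one], ?_⟩
    · rw [hrec]; simp [one]
    · simp [one]
  constructor
  · intro h1
    by_contra hodd
    rw [Nat.not_odd_iff_even] at hodd
    -- an element acting as an involution on the cosets
    haveI := Fact.mk Nat.prime_two
    obtain ⟨q, hq⟩ := exists_prime_orderOf_dvd_card' (G := G ⧸ H.normalCore) 2 hodd.two_dvd
    obtain ⟨t, rfl⟩ := QuotientGroup.mk_surjective q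
    have ht : t ∉ H.normalCore := fun hmem => by
      rw [(QuotientGroup.eq_one_iff t).2 hmem, orderOf_one] at hq
      exact absurd hq (by decide)
    have ht2 : t * t ∈ H.normalCore := by
      rw [← QuotientGroup.eq_one_iff, QuotientGroup.mk_mul, ← sq, ← hq, pow_orderOf_eq_one]
    rw [Subgroup.normalCore_eq_ker, MonoidHom.mem_ker] at ht ht2
    obtain ⟨x₀, hx₀⟩ : ∃ x : G ⧸ H, t • x ≠ x := by
      by_contra hne
      push Not at hne
      exact ht (Equiv.ext hne)
    have h2 : t • (t • x₀) = x₀ := by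
      rw [smul_smul]
      exact Equiv.congr_fun ht2 x₀
    have hge := two_mul_card_le (G := G) inferInstance x₀ t hx₀ h2
    obtain ⟨m, hm, hmφ⟩ := Char.IsCharacter.decompose hπ
    have hs : (Nat.card G : ℂ)⁻¹ * ∑ g : G, π (g * g) =
        ∑ φ : Cfsg.IrrCharacter G, (m φ : ℂ) *
          ((Nat.card G : ℂ)⁻¹ * ∑ g : G, (φ : G → ℂ) (g * g)) := by
      rw [hm]
      simp only [Finset.sum_apply, Pi.smul_apply, smul_eq_mul, Finset.mul_sum]
      rw [Finset.sum_comm]
      exact Finset.sum_congr rfl fun φ _ => Finset.sum_congr rfl fun g _ => by ring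
    have hval : ∀ g : G, π g = (Nat.card (MulAction.fixedBy (G ⧸ H) g) : ℂ) :=
      fun g => Char.indFun_one_eq_fixedPoints H g
    have hlow : 2 ≤ ((Nat.card G : ℂ)⁻¹ * ∑ g : G, π (g * g)).re := by
      simp only [hval]
      rw [← Nat.cast_sum, ← Complex.ofReal_natCast, ← Complex.ofReal_natCast, ← Complex.ofReal_inv,
        ← Complex.ofReal_mul, Complex.ofReal_re, le_inv_mul_iff₀ (by exact_mod_cast Nat.card_pos)]
      calc (Nat.card G : ℝ) * 2 = ((2 * Nat.card G : ℕ) : ℝ) := by push_cast; ring
        _ ≤ _ := by exact_mod_cast hge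
    rw [hs, ← Finset.add_sum_erase _ _ (Finset.mem_univ one)] at hlow
    have hm1 : m one = 1 := by
      have := hmφ one
      rw [hrec] at this
      simp [one] at this
      exact_mod_cast this.symm
    rw [hone.2.2, hm1, Nat.cast_one, mul_one, Complex.add_re, Complex.one_re, Complex.re_sum] at hlow
    obtain ⟨φ, hφ, hpos⟩ : ∃ φ ∈ Finset.univ.erase one,
        0 < ((m φ : ℂ) * ((Nat.card G : ℂ)⁻¹ * ∑ g : G, (φ : G → ℂ) (g * g))).re := by
      by_contra hne
      push Not at hne
      have := Finset.sum_nonpos hne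
      linarith
    obtain ⟨hcases, hreal⟩ := nu_cases φ
    have hν : (Nat.card G : ℂ)⁻¹ * ∑ g : G, (φ : G → ℂ) (g * g) = 1 := by
      rcases hcases with e | e | e
      · rw [e] at hpos; simp at hpos
      · exact e
      · rw [e, mul_neg, mul_one, Complex.neg_re, Complex.natCast_re] at hpos
        linarith [Nat.cast_nonneg (α := ℝ) (m φ)]
    have hmne : m φ ≠ 0 := by intro e; rw [e] at hpos; simp at hpos
    have hP : P φ := ⟨by rw [hmφ]; exact Nat.cast_ne_zero.2 hmne,
      hreal (by rw [hν]; exact one_ne_zero), hν⟩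
    haveI := (Nat.card_eq_one_iff_unique.1 h1).1
    exact (Finset.mem_erase.1 hφ).1
      (congrArg Subtype.val (Subsingleton.elim (⟨φ, hP⟩ : {χ // P χ}) ⟨one, hone⟩))
  · intro hodd
    rw [Nat.card_eq_one_iff_unique]
    refine ⟨⟨?_⟩, ⟨⟨one, hone⟩⟩⟩
    suffices key : ∀ χ, P χ → χ = one by
      rintro ⟨a, ha⟩ ⟨b, hb⟩; exact Subtype.ext ((key a ha).trans (key b hb).symm)
    rintro χ ⟨hne, -, hν⟩
    by_contra hχ
    haveI := Fintype.ofFinite (G ⧸ H.normalCore)
    haveI := Fintype.ofFinite H.normalCore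
    by_cases hker : H.normalCore ≤ Codegree.kerSub χ
    · obtain ⟨ψ, hψ⟩ := Codegree.exists_quot χ H.normalCore hker
      have hodd' : Odd (Nat.card (G ⧸ H.normalCore)) := hodd
      have hbij : Function.Bijective (fun q : G ⧸ H.normalCore => q * q) := by
        have := (powCoprime (G := G ⧸ H.normalCore) (n := 2)
          (Nat.coprime_two_right.2 hodd')).bijective
        simpa [powCoprime, sq] using this
      have h2 : ∑ g : G, (χ : G → ℂ) (g * g) = ∑ g : G, (χ : G → ℂ) g := by
        simp only [← hψ, QuotientGroup.mk_mul]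
        rw [sum_comp_mk _ (fun q => (ψ : G ⧸ H.normalCore → ℂ) (q * q)),
          sum_comp_mk _ (fun q => (ψ : G ⧸ H.normalCore → ℂ) q),
          hbij.sum_comp (fun q => (ψ : G ⧸ H.normalCore → ℂ) q)]
      have h3 := TwoClassChar.row_orth χ one
      rw [if_neg hχ] at h3
      simp only [one, map_one, mul_one] at h3
      rw [h2, h3, mul_zero] at hν
      exact zero_ne_one hν
    · refine hne ?_
      rw [hrec, ← map_sum]
      suffices h : ∑ h : H, (χ : G → ℂ) h = 0 by rw [h, map_zero, mul_zero]
      have hc := coset_sum_zero χ H.normalCore hker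
      have : ∑ h : H, ∑ c : H.normalCore, (χ : G → ℂ) ((h : G) * c) = 0 :=
        Finset.sum_eq_zero fun h _ => hc h
      rw [Finset.sum_comm] at this
      have e : ∀ c : H.normalCore, ∑ h : H, (χ : G → ℂ) ((h : G) * c) = ∑ h : H, (χ : G → ℂ) h :=
        fun c => Fintype.sum_equiv (Equiv.mulRight ⟨c, Subgroup.normalCore_le H c.2⟩) _ _
          (fun h => rfl)
      simp only [e, Finset.sum_const, nsmul_eq_mul, mul_eq_zero] at this
      exact this.resolve_left (Nat.cast_ne_zero.2 (Finset.card_ne_zero.2 Finset.univ_nonempty))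

end Cfsg.Agent.S4784
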