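import Cfsg.Statements.S4796
import Cfsg.Agent.Lib.Codegree.Basic

set_option autoImplicit false
open Cfsg

namespace Cfsg.Agent.S4796

/-- Let G be a finite group with a faithful irreducible complex character χ whose codegree #G / χ(1) is a prime p (for a faithful character the kernel is trivial, so the codegree is #G / χ(1)). Then either G is cyclic of order p, or G is a Frobenius group whose Frobenius kernel has order p: some proper non-trivial subgroup H satisfies H ∩ gHg⁻¹ = 1 for every element g outside H, and the set of elements lying in no conjugate of H, together with the identity, has exactly p elements. -/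
theorem result {G : Type*} [Group G] [Finite G] (χ : Cfsg.IrrCharacter G) (hfaith : ∀ g : G, (χ : G → ℂ) g = (χ : G → ℂ) 1 → g = 1) (p : ℕ) (hp : p.Prime) (hcod : Nat.card G = p * Cfsg.charDegree (χ : G → ℂ)) : (IsCyclic G ∧ Nat.card G = p) ∨ ∃ H : Subgroup G, Cfsg.IsFrobeniusComplement H ∧ Nat.card ↥(Cfsg.frobeniusKernel H) = p := by
  obtain ⟨P, hPn, hPc, hPi, hPC, hcomm, hcop⟩ :=
    Codegree.prime_codegree_structure χ hfaith p hp hcod
  haveI := Fact.mk hp
  set d := Cfsg.charDegree (χ : G → ℂ) with hd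
  rcases eq_or_ne d 1 with h1 | h1
  · left
    rw [h1, mul_one] at hcod
    exact ⟨isCyclic_of_prime_card hcod, hcod⟩
  right
  haveI := hPn
  obtain ⟨H, hH⟩ := Subgroup.exists_right_complement'_of_coprime (N := P) (by rwa [hPc, hPi])
  have hHc : Nat.card H = d := by rw [← hH.symm.index_eq_card, hPi]
  have hfix : ∀ h ∈ H, ∀ y ∈ P, y ≠ 1 → h * y = y * h → h = 1 := by
    intro h hh y hy hy1 e
    have hgen : Subgroup.zpowers y = P := Subgroup.eq_of_le_of_card_ge
      (Subgroup.zpowers_le.2 hy) (by
        rw [Nat.card_zpowers, hPc]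
        rcases (Nat.dvd_prime hp).1 (hPc ▸ Subgroup.orderOf_dvd_natCard _ hy) with o | o
        · exact absurd (orderOf_eq_one_iff.1 o) hy1
        · rw [o])
    have : h ∈ Subgroup.centralizer (P : Set G) := by
      rw [← hgen, Subgroup.mem_centralizer_iff]
      rintro _ ⟨i, rfl⟩
      exact ((show Commute y h from e.symm).zpow_left i).eq
    rw [hPC] at this
    exact Subgroup.disjoint_def.1 hH.disjoint this hh
  have hdec : ∀ g : G, ∃ x ∈ P, ∃ h ∈ H, g = x * h := by
    intro g
    obtain ⟨⟨x, h⟩, e, -⟩ := hH.existsUnique g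
    exact ⟨x, x.2, h, h.2, e.symm⟩
  refine ⟨H, ⟨?_, ?_, ?_⟩, ?_⟩
  · intro e; rw [e, Subgroup.card_bot] at hHc; exact h1 hHc.symm
  · intro e
    rw [e, Subgroup.card_top, hcod] at hHc
    have hdpos : 0 < d := TwoClassChar.deg_pos χ.2
    exact hp.ne_one (Nat.eq_of_mul_eq_mul_right hdpos (hHc.trans (one_mul d).symm))
  · intro g hg
    rw [Subgroup.eq_bot_iff_forall]
    rintro a ⟨ha, b, hb, hab⟩
    simp only [MulDistribMulAction.toMonoidEnd_apply, MulDistribMulAction.toMonoidHom_apply,
      MulAut.smul_def, MulAut.conj_apply] at hab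
    obtain ⟨x, hx, h, hh, rfl⟩ := hdec g
    have hx1 : x ≠ 1 := fun e => hg (by rw [e, one_mul]; exact hh)
    set c := h * b * h⁻¹ with hc
    have hcH : c ∈ H := mul_mem (mul_mem hh hb) (inv_mem hh)
    have hac : a = x * c * x⁻¹ := by rw [← hab, hc]; group
    have hca : a * c⁻¹ ∈ P := by
      rw [hac, show x * c * x⁻¹ * c⁻¹ = x * (c * x⁻¹ * c⁻¹) by group]
      exact mul_mem hx (hPn.conj_mem _ (inv_mem hx) c)
    have : a * c⁻¹ = 1 := Subgroup.disjoint_def.1 hH.disjoint hca (mul_mem ha (inv_mem hcH))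
    rw [mul_inv_eq_one] at this
    have hcx : c * x = x * c := by
      have e := this.symm.trans hac
      nth_rw 1 [e]; group
    have := hfix c hcH x hx hx1 hcx
    rw [hac, this]; group
  · have hker : Cfsg.frobeniusKernel H = (P : Set G) := by
      ext y
      simp only [Cfsg.frobeniusKernel, Set.mem_ofPred_eq, SetLike.mem_coe]
      constructor
      · rintro (rfl | hy)
        · exact one_mem _
        by_contra hyP
        obtain ⟨x, hx, h, hh, rfl⟩ := hdec y
        have hh1 : h ≠ 1 := fun e => hyP (by rw [e, mul_one]; exact hx)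
        have hinj : Function.Injective
            (fun u : P => (⟨u.1 * (h * u.1⁻¹ * h⁻¹), mul_mem u.2 (hPn.conj_mem _ (inv_mem u.2) h)⟩ : P)) := by
          intro u v e
          have e' : u.1 * (h * u.1⁻¹ * h⁻¹) = v.1 * (h * v.1⁻¹ * h⁻¹) := congrArg Subtype.val e
          by_contra huv
          refine hh1 (hfix h hh (v.1⁻¹ * u.1) (mul_mem (inv_mem v.2) u.2) ?_ ?_)
          · rw [Ne, inv_mul_eq_one]; exact fun e2 => huv (Subtype.ext e2.symm)
          · calc h * (v.1⁻¹ * u.1) = v.1⁻¹ * (v.1 * (h * v.1⁻¹ * h⁻¹)) * (h * u.1) := by group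
              _ = v.1⁻¹ * (u.1 * (h * u.1⁻¹ * h⁻¹)) * (h * u.1) := by rw [e']
              _ = _ := by group
        obtain ⟨u, hu⟩ := (Finite.injective_iff_surjective.1 hinj) ⟨x, hx⟩
        refine hy u.1 ⟨h, hh, ?_⟩
        simp only [MulDistribMulAction.toMonoidEnd_apply, MulDistribMulAction.toMonoidHom_apply,
          MulAut.smul_def, MulAut.conj_apply]
        have hu' : u.1 * (h * u.1⁻¹ * h⁻¹) = x := congrArg Subtype.val hu
        rw [← hu']; group
      · intro hy
        refine or_iff_not_imp_left.2 fun hy1 g hg => hy1 ?_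
        obtain ⟨b, hb, hby⟩ := hg
        simp only [MulDistribMulAction.toMonoidEnd_apply, MulDistribMulAction.toMonoidHom_apply,
          MulAut.smul_def, MulAut.conj_apply] at hby
        have hbP : b ∈ P := by
          have := hPn.conj_mem _ hy g⁻¹
          rwa [← hby, show g⁻¹ * (g * b * g⁻¹) * g⁻¹⁻¹ = b by group] at this
        rw [← hby, Subgroup.disjoint_def.1 hH.disjoint hbP hb]; group
    rw [hker]
    exact hPc

end Cfsg.Agent.S4796
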