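import Cfsg.Statements.S4797
import Cfsg.Agent.Lib.Codegree.Basic

set_option autoImplicit false
open Cfsg

namespace Cfsg.Agent.S4797

/-- The codegree of an irreducible complex character χ of a finite group G is [G : ker χ] / χ(1), where ker χ is the set of elements at which χ takes the value χ(1). A non-trivial finite group is perfect if and only if no irreducible complex character of it has prime codegree. -/
theorem result {G : Type*} [Group G] [Finite G] [Nontrivial G] : commutator G = ⊤ ↔ ∀ χ : Cfsg.IrrCharacter G, ¬ ((Nat.card G / (Nat.card {g : G // (χ : G → ℂ) g = (χ : G → ℂ) 1} * Cfsg.charDegree (χ : G → ℂ)))).Prime := by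
  constructor
  · intro hperf χ hpr
    obtain ⟨ψ, hψ⟩ := Codegree.exists_quot χ (Codegree.kerSub χ) le_rfl
    have hf : ∀ g : G ⧸ Codegree.kerSub χ,
        (ψ : G ⧸ Codegree.kerSub χ → ℂ) g = (ψ : G ⧸ Codegree.kerSub χ → ℂ) 1 → g = 1 := by
      intro g
      induction g using QuotientGroup.induction_on with
      | H g =>
        intro e
        rw [hψ, show (1 : G ⧸ Codegree.kerSub χ) = ((1 : G) : G ⧸ Codegree.kerSub χ) from rfl, hψ] at e
        exact (QuotientGroup.eq_one_iff g).2 e
    have hd : Cfsg.charDegree (ψ : G ⧸ Codegree.kerSub χ → ℂ) = Cfsg.charDegree (χ : G → ℂ) := by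
      simp [Cfsg.charDegree, ← hψ]
    obtain ⟨P, hPn, hPc, hPi, hPC, hcomm, hcop⟩ :=
      Codegree.prime_codegree_structure ψ hf _ hpr (by
        rw [hd, Codegree.codeg_mul_deg]; rfl)
    have hperf' : commutator (G ⧸ Codegree.kerSub χ) = ⊤ := by
      rw [commutator_def, ← Subgroup.map_top_of_surjective (QuotientGroup.mk' (Codegree.kerSub χ))
        (QuotientGroup.mk'_surjective _), ← Subgroup.map_commutator, ← commutator_def, hperf]
    rw [hperf', top_le_iff] at hcomm
    haveI := Fact.mk hpr
    rw [hcomm, Subgroup.card_top] at hPc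
    have hcyc : IsCyclic (G ⧸ Codegree.kerSub χ) := isCyclic_of_prime_card hPc
    letI := hcyc.commGroup
    have hbot : commutator (G ⧸ Codegree.kerSub χ) = ⊥ := by
      rw [commutator_def, Subgroup.commutator_eq_bot_iff_le_centralizer]
      intro a _ b _
      exact mul_comm b a
    rw [hbot] at hperf'
    have : Nat.card (⊤ : Subgroup (G ⧸ Codegree.kerSub χ)) = 1 := by
      rw [← hperf', Subgroup.card_bot]
    rw [Subgroup.card_top, hPc] at this
    exact hpr.ne_one this
  · intro hall
    by_contra hne
    obtain ⟨M, hM, hle⟩ := (eq_top_or_exists_le_coatom (commutator G)).resolve_left hne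
    haveI hMn : M.Normal := ⟨fun m hm g => by
      have : g * m * g⁻¹ * m⁻¹ ∈ M := hle (Subgroup.commutator_mem_commutator (Subgroup.mem_top g) (Subgroup.mem_top m))
      simpa using mul_mem this hm⟩
    have hab : ∀ a b : G ⧸ M, a * b = b * a := by
      intro a b
      induction a using QuotientGroup.induction_on with
      | H a =>
        induction b using QuotientGroup.induction_on with
        | H b =>
          rw [← QuotientGroup.mk_mul, ← QuotientGroup.mk_mul, QuotientGroup.eq_iff_div_mem,
            show a * b / (b * a) = a * b * a⁻¹ * b⁻¹ by rw [div_eq_mul_inv, mul_inv_rev]; group]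
          exact hle (Subgroup.commutator_mem_commutator (Subgroup.mem_top a) (Subgroup.mem_top b))
    letI : CommGroup (G ⧸ M) := { (inferInstance : Group (G ⧸ M)) with mul_comm := hab }
    haveI : IsSimpleGroup (G ⧸ M) := by
      haveI : Nontrivial (G ⧸ M) := QuotientGroup.nontrivial_iff.2 hM.1
      refine ⟨fun K _ => ?_⟩
      have hcase : K.comap (QuotientGroup.mk' M) = M ∨ K.comap (QuotientGroup.mk' M) = ⊤ := by
        refine hM.le_iff.1 ?_ |>.symm
        intro m hm
        rw [Subgroup.mem_comap, QuotientGroup.mk'_apply, (QuotientGroup.eq_one_iff m).2 hm]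
        exact one_mem _
      have hsur := Subgroup.map_comap_eq_self_of_surjective (QuotientGroup.mk'_surjective M) K
      rcases hcase with e | e
      · left; rw [← hsur, e, Subgroup.map_eq_bot_iff, QuotientGroup.ker_mk']
      · right; rw [← hsur, e, Subgroup.map_top_of_surjective _ (QuotientGroup.mk'_surjective M)]
    have hq : (Nat.card (G ⧸ M)).Prime := IsSimpleGroup.prime_card
    haveI : Finite (Cfsg.IrrCharacter (G ⧸ M)) := Char.irrCharacter_finite
    haveI := Fintype.ofFinite (G ⧸ M)
    haveI : Nontrivial (Cfsg.IrrCharacter (G ⧸ M)) := by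
      rw [← Finite.one_lt_card_iff_nontrivial, Char.card_irr_eq_card_conjClasses,
        Char.card_conjClasses_of_comm hab]
      exact hq.one_lt
    obtain ⟨ψ, hψ⟩ := exists_ne (⟨fun _ => 1, Char.isIrrCharacter_one⟩ : Cfsg.IrrCharacter (G ⧸ M))
    refine hall (Codegree.inflate M ψ) ?_
    rw [Codegree.codeg_inflate, Codegree.codeg_eq]
    have h1 : (ψ : G ⧸ M → ℂ) 1 = 1 := Char.apply_one_eq_one_of_comm hab ψ
    have hd : Cfsg.charDegree (ψ : G ⧸ M → ℂ) = 1 := by simp [Cfsg.charDegree, h1]
    rw [hd, Nat.div_one]
    have hk : Codegree.kerSub ψ = ⊥ :=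
      (IsSimpleGroup.eq_bot_or_eq_top_of_normal _ (Codegree.kerSub_normal ψ)).resolve_right fun e =>
        hψ (Subtype.ext (funext fun g =>
          (Codegree.mem_kerSub.1 (e ▸ Subgroup.mem_top g)).trans h1))
    rw [hk, Subgroup.index_bot]
    exact hq

end Cfsg.Agent.S4797
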