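import Cfsg.Statements.S4798
import Cfsg.Agent.Lib.Codegree.Basic

set_option autoImplicit false
open Cfsg

namespace Cfsg.Agent.S4798

/-- Let p be a prime and χ a faithful irreducible complex character of the finite group G (χ(g) = χ(1) only for g = 1), so that its codegree is #G / χ(1). Then #G / χ(1) is a power of p if and only if χ is induced from a character of a Sylow p-subgroup of G. -/
theorem result {G : Type*} [Group G] [Fintype G] (p : ℕ) [Fact p.Prime] (χ : Cfsg.IrrCharacter G) (hfaith : ∀ g : G, (χ : G → ℂ) g = (χ : G → ℂ) 1 → g = 1) : (∃ k : ℕ, Nat.card G = p ^ k * Cfsg.charDegree (χ : G → ℂ)) ↔ ∃ (P : Sylow p G) (θ : ↥(P : Subgroup G) → ℂ), Cfsg.IsCharacter ↥(P : Subgroup G) θ ∧ (χ : G → ℂ) = Cfsg.indFun (P : Subgroup G) θ := by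
  classical
  set d := Cfsg.charDegree (χ : G → ℂ) with hd
  have hd0 : 0 < d := TwoClassChar.deg_pos χ.2
  constructor
  · rintro ⟨k, hk⟩
    obtain ⟨P⟩ : Nonempty (Sylow p G) := inferInstance
    haveI := Fintype.ofFinite (P : Subgroup G)
    haveI := Fintype.ofFinite (Cfsg.IrrCharacter (P : Subgroup G))
    obtain ⟨n, hn⟩ := IsPGroup.iff_card.1 P.isPGroup'
    have hp : p.Prime := Fact.out
    have hix : (P : Subgroup G).index ∣ d := by
      have hcop : Nat.Coprime (P : Subgroup G).index (p ^ k) :=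
        (Nat.Coprime.pow_left k (hp.coprime_iff_not_dvd.2 P.not_dvd_index)).symm
      refine hcop.dvd_of_dvd_mul_left ?_
      rw [← hk]; exact Subgroup.index_dvd_card _
    obtain ⟨e, he⟩ := hix
    have he2 : p ^ k * e = p ^ n := by
      have := Subgroup.card_mul_index (P : Subgroup G)
      rw [hn, hk, he] at this
      refine Nat.eq_of_mul_eq_mul_left (Nat.pos_of_ne_zero (P : Subgroup G).index_ne_zero_of_finite) ?_
      rw [mul_comm _ (p ^ n), this]; ring
    obtain ⟨a, -, rfl⟩ := (Nat.dvd_prime_pow hp).1 ⟨_, (mul_comm (p ^ k) e ▸ he2).symm⟩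
    have hres := Char.IsCharacter.restrict (Char.IsIrrCharacter.isCharacter χ.2) (P : Subgroup G)
    obtain ⟨m, hm, hmφ⟩ := Char.IsCharacter.decompose hres
    have hdeg : d = ∑ φ : Cfsg.IrrCharacter (P : Subgroup G),
        m φ * Cfsg.charDegree (φ : ↥(P : Subgroup G) → ℂ) := by
      have := congrFun hm 1
      simp only [Finset.sum_apply, Pi.smul_apply, smul_eq_mul, OneMemClass.coe_one,
        TwoClassChar.deg_eq (Subtype.prop _)] at this
      exact_mod_cast this
    obtain ⟨φ, hφm, hφd⟩ : ∃ φ : Cfsg.IrrCharacter (P : Subgroup G),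
        m φ ≠ 0 ∧ Cfsg.charDegree (φ : ↥(P : Subgroup G) → ℂ) ∣ p ^ a := by
      by_contra hne
      push Not at hne
      have : p ^ (a + 1) ∣ d := by
        rw [hdeg]
        refine Finset.dvd_sum fun φ _ => ?_
        rcases eq_or_ne (m φ) 0 with h0 | h0
        · simp [h0]
        · obtain ⟨b, -, hb⟩ := (Nat.dvd_prime_pow hp).1 (hn ▸ Codegree.deg_dvd_card φ)
          refine dvd_mul_of_dvd_right ?_ _
          rw [hb]
          refine Nat.pow_dvd_pow _ (Nat.succ_le_of_lt ?_)
          by_contra hab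
          exact hne φ h0 (hb ▸ Nat.pow_dvd_pow _ (not_lt.1 hab))
      rw [he, pow_succ, mul_comm (P : Subgroup G).index] at this
      exact P.not_dvd_index ((Nat.mul_dvd_mul_iff_left (pow_pos hp.pos a)).1 this)
    refine ⟨P, (φ : ↥(P : Subgroup G) → ℂ), Char.IsIrrCharacter.isCharacter φ.2, ?_⟩
    have hind := Char.IsCharacter.indFun (H := (P : Subgroup G)) (Char.IsIrrCharacter.isCharacter φ.2)
    have hne : Cfsg.classInner (Cfsg.indFun (P : Subgroup G) (φ : ↥(P : Subgroup G) → ℂ)) (χ : G → ℂ) ≠ 0 := by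
      rw [Char.frobenius_reciprocity _ _ (Char.IsIrrCharacter.isClassFunction χ.2),
        ← Char.classInner_conj_symm, hmφ, Complex.conj_natCast]
      exact Nat.cast_ne_zero.2 hφm
    have hval : Cfsg.indFun (P : Subgroup G) (φ : ↥(P : Subgroup G) → ℂ) 1 =
        (((P : Subgroup G).index * Cfsg.charDegree (φ : ↥(P : Subgroup G) → ℂ) : ℕ) : ℂ) := by
      rw [Char.indFun_one_apply, TwoClassChar.deg_eq φ.2]; push_cast; rfl
    refine ((Codegree.degree_le_and_eq hind χ hne hval).2 ?_).symm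
    rw [← hd, he]
    exact Nat.mul_le_mul_left _ (Nat.le_of_dvd (pow_pos hp.pos a) hφd)
  · rintro ⟨P, θ, hθ, hχ⟩
    have hp : p.Prime := Fact.out
    haveI := Fintype.ofFinite (P : Subgroup G)
    haveI := Fintype.ofFinite (Cfsg.IrrCharacter (P : Subgroup G))
    obtain ⟨n, hn⟩ := IsPGroup.iff_card.1 P.isPGroup'
    obtain ⟨m, hm, hmφ⟩ := Char.IsCharacter.decompose hθ
    have hinner : Cfsg.classInner θ (fun x : (P : Subgroup G) => (χ : G → ℂ) x) = 1 := by
      rw [← Char.frobenius_reciprocity _ _ (Char.IsIrrCharacter.isClassFunction χ.2), ← hχ,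
        Char.classInner_irr_self χ.2]
    obtain ⟨φ, hφm, hφ⟩ : ∃ φ : Cfsg.IrrCharacter (P : Subgroup G), m φ ≠ 0 ∧
        Cfsg.classInner (φ : ↥(P : Subgroup G) → ℂ) (fun x : (P : Subgroup G) => (χ : G → ℂ) x) ≠ 0 := by
      by_contra hne
      push Not at hne
      rw [hm, Char.classInner_sum_left, Finset.sum_eq_zero] at hinner
      · exact zero_ne_one hinner
      · intro φ _
        rw [Char.classInner_smul_left]
        rcases eq_or_ne (m φ) 0 with h0 | h0
        · simp [h0]
        · simp [hne φ h0]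
    have hval : Cfsg.indFun (P : Subgroup G) (φ : ↥(P : Subgroup G) → ℂ) 1 =
        (((P : Subgroup G).index * Cfsg.charDegree (φ : ↥(P : Subgroup G) → ℂ) : ℕ) : ℂ) := by
      rw [Char.indFun_one_apply, TwoClassChar.deg_eq φ.2]; push_cast; rfl
    have h1 : d ≤ (P : Subgroup G).index * Cfsg.charDegree (φ : ↥(P : Subgroup G) → ℂ) :=
      (Codegree.degree_le_and_eq (Char.IsCharacter.indFun (H := (P : Subgroup G))
        (Char.IsIrrCharacter.isCharacter φ.2)) χ
        (by rwa [Char.frobenius_reciprocity _ _ (Char.IsIrrCharacter.isClassFunction χ.2)]) hval).1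
    obtain ⟨t, ht⟩ := Char.IsCharacter.exists_degree hθ
    have h2 : Cfsg.charDegree (φ : ↥(P : Subgroup G) → ℂ) ≤ t :=
      (Codegree.degree_le_and_eq hθ φ (by rw [hmφ]; exact Nat.cast_ne_zero.2 hφm) ht).1
    have h3 : d = (P : Subgroup G).index * t := by
      have := congrFun hχ 1
      rw [Char.indFun_one_apply, ht, TwoClassChar.deg_eq χ.2] at this
      exact_mod_cast this
    have h4 : d = (P : Subgroup G).index * Cfsg.charDegree (φ : ↥(P : Subgroup G) → ℂ) :=
      le_antisymm h1 (h3 ▸ Nat.mul_le_mul_left _ h2)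
    obtain ⟨b, hbn, hb⟩ := (Nat.dvd_prime_pow hp).1 (hn ▸ Codegree.deg_dvd_card φ)
    refine ⟨n - b, ?_⟩
    rw [h4, hb, ← Subgroup.card_mul_index (P : Subgroup G), hn, mul_comm (P : Subgroup G).index,
      ← mul_assoc, ← pow_add, Nat.sub_add_cancel hbn]

end Cfsg.Agent.S4798
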