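import Cfsg.Statements.S4801
import Cfsg.Agent.Lib.Codegree.Basic

set_option autoImplicit false
open Cfsg

namespace Cfsg.Agent.S4801

/-- The codegree of an irreducible complex character χ of a finite group G is [G : ker χ] / χ(1), where ker χ is the set of elements at which χ takes the value χ(1). Let S be a finite simple group and G a finite group such that every codegree of an irreducible character of S is a codegree of an irreducible character of G. Then the order of S divides the order of G. -/
theorem result {S : Type*} [Group S] [Finite S] (hS : IsSimpleGroup S) {G : Type*} [Group G] [Finite G] (hsub : ∀ χ : Cfsg.IrrCharacter S, ∃ ψ : Cfsg.IrrCharacter G, (Nat.card S / (Nat.card {g : S // (χ : S → ℂ) g = (χ : S → ℂ) 1} * Cfsg.charDegree (χ : S → ℂ))) = (Nat.card G / (Nat.card {g : G // (ψ : G → ℂ) g = (ψ : G → ℂ) 1} * Cfsg.charDegree (ψ : G → ℂ)))) : Nat.card S ∣ Nat.card G := by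
  classical
  haveI := Fintype.ofFinite S
  haveI := Fintype.ofFinite (Cfsg.IrrCharacter S)
  let one : Cfsg.IrrCharacter S := ⟨fun _ => 1, Char.isIrrCharacter_one⟩
  have hkey : ∀ χ : Cfsg.IrrCharacter S, χ ≠ one →
      Nat.card S ∣ Nat.card G * Cfsg.charDegree (χ : S → ℂ) := by
    intro χ hne
    have hker : Codegree.kerSub χ = ⊥ := by
      rcases hS.eq_bot_or_eq_top_of_normal _ (Codegree.kerSub_normal χ) with e | e
      · exact e
      · exfalso
        have hrow := TwoClassChar.row_orth χ one
        rw [if_neg hne, Finset.sum_congr rfl (g := fun _ : S => (χ : S → ℂ) 1) (fun g _ => by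
          simp [one, Codegree.mem_kerSub.1 (e ▸ Subgroup.mem_top g)])] at hrow
        simp [Char.IsIrrCharacter.apply_one_ne_zero χ.2] at hrow
    obtain ⟨ψ, hψ⟩ := hsub χ
    have h1 := Codegree.codeg_mul_deg χ
    rw [hψ, hker, Subgroup.index_bot] at h1
    rw [← h1]
    exact mul_dvd_mul_right (Codegree.codeg_dvd_card ψ) _
  have h := Char.sum_sq_degrees (G := S)
  simp only [TwoClassChar.deg_eq (Subtype.prop _)] at h
  have h' : ∑ φ : Cfsg.IrrCharacter S, Cfsg.charDegree (φ : S → ℂ) ^ 2 = Nat.card S := by
    exact_mod_cast h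
  rw [← Finset.add_sum_erase _ _ (Finset.mem_univ one)] at h'
  have h1 : Cfsg.charDegree (one : S → ℂ) = 1 := by simp [one, Cfsg.charDegree]
  rw [h1, one_pow] at h'
  have hd : Nat.card S ∣ Nat.card G * ∑ φ ∈ Finset.univ.erase one, Cfsg.charDegree (φ : S → ℂ) ^ 2 := by
    rw [Finset.mul_sum]
    refine Finset.dvd_sum fun φ hφ => ?_
    rw [sq, ← mul_assoc]
    exact dvd_mul_of_dvd_left (hkey φ (Finset.mem_erase.1 hφ).1) _
  have hall : Nat.card S ∣ Nat.card G * Nat.card S := dvd_mul_left _ _
  nth_rw 2 [← h'] at hall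
  rw [mul_add, mul_one] at hall
  exact (Nat.dvd_add_left hd).1 hall

end Cfsg.Agent.S4801
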