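import Cfsg.Statements.S4802
import Cfsg.Agent.Lib.Codegree.Basic

set_option autoImplicit false
open Cfsg

namespace Cfsg.Agent.S4802

/-- Let N < M be normal subgroups of the finite group G and g ∈ M ∖ N. Then the conjugacy class of g is exactly M ∖ N if and only if every irreducible complex character of G whose kernel contains N takes the same value at all elements of M ∖ N, and every irreducible complex character of G whose kernel does not contain N vanishes at g. -/
theorem result {G : Type*} [Group G] [Finite G] (N M : Subgroup G) [N.Normal] [M.Normal] (hNM : N < M) (g : G) (hgM : g ∈ M) (hgN : g ∉ N) : {h : G | IsConj g h} = (M : Set G) \ (N : Set G) ↔ ((∀ χ : Cfsg.IrrCharacter G, (∀ x ∈ N, (χ : G → ℂ) x = (χ : G → ℂ) 1) → ∀ x ∈ M, x ∉ N → ∀ y ∈ M, y ∉ N → (χ : G → ℂ) x = (χ : G → ℂ) y) ∧ (∀ χ : Cfsg.IrrCharacter G, (∃ x ∈ N, (χ : G → ℂ) x ≠ (χ : G → ℂ) 1) → (χ : G → ℂ) g = 0)) := by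
  classical
  haveI := Fintype.ofFinite G
  haveI := Fintype.ofFinite (Cfsg.IrrCharacter G)
  haveI := Fintype.ofFinite M
  haveI := Fintype.ofFinite N
  constructor
  · intro hcl
    have hconj : ∀ x ∈ M, x ∉ N → IsConj g x := fun x hx hxN => by
      have : x ∈ {h : G | IsConj g h} := hcl ▸ ⟨hx, hxN⟩
      exact this
    have hval : ∀ (χ : Cfsg.IrrCharacter G) (x : G), x ∈ M → x ∉ N → (χ : G → ℂ) x = (χ : G → ℂ) g := by
      intro χ x hx hxN
      exact ((Char.isConj_iff_irr g x).1 (hconj x hx hxN) χ).symm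
    refine ⟨fun χ _ x hx hxN y hy hyN => (hval χ x hx hxN).trans (hval χ y hy hyN).symm,
      fun χ hχ => ?_⟩
    obtain ⟨x, hx, hxne⟩ := hχ
    have hN0 := Codegree.sum_normal_eq_zero χ N (fun h => hxne (h hx))
    have hM0 := Codegree.sum_normal_eq_zero χ M (fun h => hxne (h (hNM.le hx)))
    rw [← Finset.sum_filter_add_sum_filter_not Finset.univ (fun m : M => (m : G) ∈ N)] at hM0
    have e1 : ∑ m ∈ Finset.univ.filter (fun m : M => (m : G) ∈ N), (χ : G → ℂ) m = 0 := by
      rw [← hN0]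
      refine Finset.sum_bij' (fun m hm => ⟨(m : G), (Finset.mem_filter.1 hm).2⟩)
        (fun n _ => ⟨(n : G), hNM.le n.2⟩) ?_ ?_ ?_ ?_ ?_ <;> simp
    rw [e1, zero_add, Finset.sum_congr rfl (fun (m : M) hm =>
      hval χ m m.2 (Finset.mem_filter.1 hm).2), Finset.sum_const, nsmul_eq_mul] at hM0
    refine (mul_eq_zero.1 hM0).resolve_left (Nat.cast_ne_zero.2 ?_)
    exact Finset.card_ne_zero.2 ⟨⟨g, hgM⟩, Finset.mem_filter.2 ⟨Finset.mem_univ _, hgN⟩⟩
  · rintro ⟨h1, h2⟩
    refine Set.Subset.antisymm ?_ ?_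
    · intro h hh
      obtain ⟨c, rfl⟩ := isConj_iff.1 hh
      refine ⟨(inferInstance : M.Normal).conj_mem _ hgM c, fun hc => hgN ?_⟩
      simpa [mul_assoc] using (inferInstance : N.Normal).conj_mem _ hc c⁻¹
    · rintro x ⟨hxM, hxN⟩
      by_contra hne
      have hcol := Char.column_orth (G := G) x g
      rw [if_neg (fun e => hne e.symm)] at hcol
      have hself := Char.column_orth (G := G) g g
      rw [if_pos (IsConj.refl g)] at hself
      rw [Finset.sum_congr rfl (g := fun χ : Cfsg.IrrCharacter G =>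
        (χ : G → ℂ) g * (starRingEnd ℂ) ((χ : G → ℂ) g)) ?_] at hcol
      · rw [hcol] at hself
        exact (Nat.cast_ne_zero.2 Nat.card_pos.ne') hself.symm
      · intro χ _
        by_cases hk : ∀ y ∈ N, (χ : G → ℂ) y = (χ : G → ℂ) 1
        · rw [h1 χ hk x hxM hxN g hgM hgN]
        · push Not at hk
          simp [h2 χ hk]

end Cfsg.Agent.S4802
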