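import Cfsg.Statements.S4805
import Cfsg.Agent.Lib.OneSeen.Chars
import Cfsg.Agent.Lib.OneSeen.Main

set_option autoImplicit false
open Cfsg

namespace Cfsg.Agent.S4805

/-- Let G be a finite group, g an element outside the centre of G, and χ an irreducible complex character of degree greater than one with χ(g) ≠ 0 such that every other irreducible character of degree greater than one vanishes at g. Then g lies in the derived subgroup G′ and χ(g) = −[G : G′]/χ(1); G′ is the union of the kernel of χ (the elements where χ takes the value χ(1)) and the conjugacy class of g, and χ vanishes outside G′; every irreducible character of degree greater than one whose kernel contains that of χ equals χ; and G is solvable. -/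
theorem result {G : Type*} [Group G] [Finite G] (g : G) (hg : g ∉ Subgroup.center G) (χ : Cfsg.IrrCharacter G) (hχ1 : Cfsg.charDegree (χ : G → ℂ) ≠ 1) (hχg : (χ : G → ℂ) g ≠ 0) (hother : ∀ ψ : Cfsg.IrrCharacter G, Cfsg.charDegree (ψ : G → ℂ) ≠ 1 → ψ ≠ χ → (ψ : G → ℂ) g = 0) : g ∈ commutator G ∧ (χ : G → ℂ) g = -(((commutator G).index : ℂ) / (χ : G → ℂ) 1) ∧ ((commutator G : Set G) = {x : G | (χ : G → ℂ) x = (χ : G → ℂ) 1} ∪ {h : G | IsConj g h}) ∧ (∀ x : G, x ∉ commutator G → (χ : G → ℂ) x = 0) ∧ (∀ ψ : Cfsg.IrrCharacter G, Cfsg.charDegree (ψ : G → ℂ) ≠ 1 → (∀ x : G, (χ : G → ℂ) x = (χ : G → ℂ) 1 → (ψ : G → ℂ) x = (ψ : G → ℂ) 1) → ψ = χ) ∧ Group.IsSolvable G := by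
  classical
  haveI := Fintype.ofFinite G
  haveI := Fintype.ofFinite (IrrCharacter G)
  set a := (commutator G).index with ha
  obtain ⟨n, -, hn⟩ := Char.IsIrrCharacter.exists_degree χ.2
  have hdeg : ∀ ψ : IrrCharacter G, Cfsg.charDegree (ψ : G → ℂ) = 1 ↔ (ψ : G → ℂ) 1 = 1 := fun ψ => by
    obtain ⟨m, -, hm⟩ := Char.IsIrrCharacter.exists_degree ψ.2
    simp [Cfsg.charDegree, hm]
  have hn1 : n ≠ 1 := fun e => hχ1 ((hdeg χ).mpr (by rw [hn, e, Nat.cast_one]))
  have hn0 : (n : ℂ) ≠ 0 := hn ▸ Char.IsIrrCharacter.apply_one_ne_zero χ.2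
  have ha0 : (a : ℂ) ≠ 0 := Nat.cast_ne_zero.mpr Subgroup.index_ne_zero_of_finite
  have hlin : ∀ (x : G), ∀ ψ : IrrCharacter G, (ψ : G → ℂ) 1 = 1 → x ∈ commutator G →
      (ψ : G → ℂ) x = 1 := by
    intro x ψ hψ hx
    obtain ⟨l, hl⟩ := Char.exists_hom_of_degree_one (Char.IsIrrCharacter.isCharacter ψ.2) hψ
    rw [← hl]
    have : x ∈ l.toHomUnits.ker := Abelianization.commutator_subset_ker _ hx
    simpa using congrArg Units.val (MonoidHom.mem_ker.mp this)
  -- the column of `g`
  have hsplit : ∀ f : IrrCharacter G → ℂ,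
      (∀ ψ : IrrCharacter G, (ψ : G → ℂ) 1 ≠ 1 → ψ ≠ χ → f ψ = 0) →
      ∑ ψ, f ψ = ∑ ψ ∈ Finset.univ.filter (fun ψ : IrrCharacter G => (ψ : G → ℂ) 1 = 1), f ψ + f χ := by
    intro f hf
    rw [← Finset.sum_filter_add_sum_filter_not Finset.univ (fun ψ : IrrCharacter G => (ψ : G → ℂ) 1 = 1)]
    congr 1
    refine Finset.sum_eq_single χ (fun ψ hψ hne => hf ψ (Finset.mem_filter.mp hψ).2 hne) ?_
    intro hχ
    exact absurd (Finset.mem_filter.mpr ⟨Finset.mem_univ χ, fun e => hχ1 ((hdeg χ).mpr e)⟩) hχ
  have hzero : ∀ ψ : IrrCharacter G, (ψ : G → ℂ) 1 ≠ 1 → ψ ≠ χ → (ψ : G → ℂ) g = 0 :=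
    fun ψ h1 h2 => hother ψ (fun e => h1 ((hdeg ψ).mp e)) h2
  have hg1 : g ≠ 1 := fun e => hg (e ▸ one_mem _)
  have hgone : ¬ IsConj g 1 := fun e => hg1 (isConj_one_left.mp e)
  -- `g` lies in the derived subgroup
  have h0 : (if g ∈ commutator G then (a : ℂ) else 0) + (χ : G → ℂ) g * (n : ℂ) = 0 := by
    have h := Char.column_orth g (1 : G)
    rw [if_neg hgone, hsplit _ (fun ψ h1 h2 => by rw [hzero ψ h1 h2, zero_mul]), hn,
      Complex.conj_natCast] at h
    rw [← OneSeen.sum_linear g]
    refine Eq.trans ?_ h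
    congr 1
    refine Finset.sum_congr rfl fun ψ hψ => ?_
    rw [(Finset.mem_filter.mp hψ).2, map_one, mul_one]
  have hgD : g ∈ commutator G := by
    by_contra hne
    rw [if_neg hne, zero_add] at h0
    exact hχg ((mul_eq_zero.mp h0).resolve_right hn0)
  rw [if_pos hgD] at h0
  have hval : (χ : G → ℂ) g = -((a : ℂ) / (χ : G → ℂ) 1) := by
    rw [hn]; field_simp; linear_combination h0
  -- the other columns
  have hcol : ∀ x : G, (if IsConj g x then (Nat.card (Subgroup.centralizer ({g} : Set G)) : ℂ) else 0) =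
      (if x ∈ commutator G then (a : ℂ) else 0) + (χ : G → ℂ) g * starRingEnd ℂ ((χ : G → ℂ) x) := by
    intro x
    rw [← Char.column_orth g x, hsplit _ (fun ψ h1 h2 => by rw [hzero ψ h1 h2, zero_mul])]
    congr 1
    have e : (if x ∈ commutator G then (a : ℂ) else 0) =
        starRingEnd ℂ (if x ∈ commutator G then (a : ℂ) else 0) := by split_ifs <;> simp
    rw [e, ← OneSeen.sum_linear x, map_sum]
    refine Finset.sum_congr rfl fun ψ hψ => ?_
    rw [hlin g ψ (Finset.mem_filter.mp hψ).2 hgD, one_mul]
  have hout : ∀ x : G, x ∉ commutator G → (χ : G → ℂ) x = 0 := by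
    intro x hx
    have h := hcol x
    have hnc : ¬ IsConj g x := fun e => hx (by
      obtain ⟨s, rfl⟩ := isConj_iff.mp e
      exact (inferInstance : (commutator G).Normal).conj_mem g hgD s)
    rw [if_neg hnc, if_neg hx, zero_add] at h
    simpa using (mul_eq_zero.mp h.symm).resolve_left hχg
  have hin : ∀ x : G, x ∈ commutator G → ¬ IsConj g x → (χ : G → ℂ) x = (χ : G → ℂ) 1 := by
    intro x hx hnc
    have h := hcol x
    rw [if_neg hnc, if_pos hx] at h
    have h2 : starRingEnd ℂ ((χ : G → ℂ) x) = (n : ℂ) := by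
      refine mul_left_cancel₀ hχg ?_
      linear_combination -h - h0
    rw [hn, ← Complex.conj_natCast, ← h2, Complex.conj_conj]
  set K := Codegree.kerSub χ with hK
  have hKD : K ≤ commutator G := by
    intro x hx
    by_contra hne
    rw [hK, Codegree.mem_kerSub, hout x hne, hn] at hx
    exact hn0 hx.symm
  have hgK : g ∉ K := by
    rw [hK, Codegree.mem_kerSub, hn]
    intro e
    rw [e] at h0
    have h0' : ((a + n * n : ℕ) : ℂ) = 0 := by push_cast; linear_combination h0
    have := Nat.cast_eq_zero.mp h0'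
    exact ha0 (by simp [Nat.eq_zero_of_add_eq_zero this |>.1])
  have hclass : ∀ x : G, IsConj g x → x ∈ commutator G ∧ x ∉ K := by
    intro x e
    obtain ⟨s, rfl⟩ := isConj_iff.mp e
    refine ⟨(inferInstance : (commutator G).Normal).conj_mem g hgD s, fun hh => hgK ?_⟩
    have := (inferInstance : K.Normal).conj_mem _ hh s⁻¹
    simpa [mul_assoc] using this
  have hset : (commutator G : Set G) = {x : G | (χ : G → ℂ) x = (χ : G → ℂ) 1} ∪ {h : G | IsConj g h} := by
    ext x
    constructor
    · intro hx
      by_cases hc : IsConj g x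
      · exact Or.inr hc
      · exact Or.inl (hin x hx hc)
    · rintro (hx | hx)
      · exact hKD hx
      · exact (hclass x hx).1
  refine ⟨hgD, hval, hset, hout, ?_, ?_⟩
  · intro ψ hψ1 hker
    by_contra hne
    refine hψ1 ((hdeg ψ).mpr (OneSeen.apply_one_of_commutator_le ψ ?_))
    by_contra hle
    have h := Codegree.sum_normal_eq_zero ψ (commutator G) hle
    have hψg : (ψ : G → ℂ) g = 0 := hother ψ hψ1 hne
    have hterm : ∀ x : commutator G, (ψ : G → ℂ) x = if (x : G) ∈ K then (ψ : G → ℂ) 1 else 0 := by
      intro x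
      split_ifs with hx
      · exact hker x hx
      · have hc : IsConj g (x : G) := by
          by_contra hc; exact hx (hin x x.2 hc)
        obtain ⟨s, hs⟩ := isConj_iff.mp hc
        rw [← hs, Char.IsIrrCharacter.isClassFunction ψ.2, hψg]
    rw [Finset.sum_congr rfl fun x _ => hterm x, ← Finset.sum_filter, Finset.sum_const, nsmul_eq_mul,
      mul_eq_zero] at h
    rcases h with h | h
    · have := Nat.cast_eq_zero.mp h
      rw [Finset.card_eq_zero] at this
      exact absurd (this ▸ Finset.mem_filter.mpr
        ⟨Finset.mem_univ (1 : commutator G), one_mem K⟩) (Finset.notMem_empty _)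
    · exact Char.IsIrrCharacter.apply_one_ne_zero ψ.2 h
  · -- the local data
    set C := Nat.card (Subgroup.centralizer ({g} : Set G)) with hC
    set q := K.relIndex (commutator G) with hq
    have hself : (C : ℂ) * (n * n) = (a : ℂ) * (n * n) + (a : ℂ) * a := by
      have h := hcol g
      rw [if_pos (IsConj.refl g), if_pos hgD, hval, hn] at h
      simp only [map_neg, map_div₀, Complex.conj_natCast] at h
      rw [h]; field_simp
    have hselfN : C * (n * n) = a * (n * n) + a * a := by exact_mod_cast hself
    have hq2 : 2 ≤ q := by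
      have h1 : q ≠ 1 := fun e => hgK (Subgroup.relIndex_eq_one.mp e hgD)
      have h0' : q ≠ 0 := Subgroup.index_ne_zero_of_finite
      omega
    have hcount : C * (q - 1) = a * q := by
      have hcl : Nat.card {y : G | IsConj g y} = Nat.card (commutator G) - Nat.card K := by
        have : {y : G | IsConj g y} = (commutator G : Set G) \ (K : Set G) := by
          ext y
          constructor
          · exact fun e => hclass y e
          · rintro ⟨hy, hyK⟩
            by_contra hc
            exact hyK (hin y hy hc)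
        rw [this, Nat.card_coe_set_eq, Set.ncard_sdiff hKD, ← Nat.card_coe_set_eq, ← Nat.card_coe_set_eq]
        rfl
      have h1 := Char.card_conjugates_mul_card_centralizer g
      have h2 : Nat.card K * q = Nat.card (commutator G) := by
        rw [hq, mul_comm]
        have e := (K.subgroupOf (commutator G)).index_mul_card
        rwa [Nat.card_congr (Subgroup.subgroupOfEquivOfLe hKD).toEquiv] at e
      have h3 : Nat.card (commutator G) * a = Nat.card G := (commutator G).card_mul_index
      rw [hcl, ← h3, ← h2, ← Nat.mul_sub_one] at h1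
      refine Nat.eq_of_mul_eq_mul_left (Nat.card_pos (α := K)) ?_
      calc Nat.card K * (C * (q - 1)) = Nat.card K * (q - 1) * C := by ring
        _ = Nat.card K * q * a := h1
        _ = Nat.card K * (a * q) := by ring
    have hsq : a * (n * n) = a * (a * (q - 1)) := by
      have e : q = (q - 1) + 1 := by omega
      have h1 : a * q * (n * n) = (a * (n * n) + a * a) * (q - 1) := by
        rw [← hselfN, ← hcount]; ring
      nth_rw 1 [e] at h1
      linarith
    have hnn : n * n = a * (q - 1) :=
      Nat.eq_of_mul_eq_mul_left (Nat.pos_of_ne_zero Subgroup.index_ne_zero_of_finite) hsq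
    refine OneSeen.Data.isSolvable (D := commutator G) (K := K) (g := g)
      { normK := inferInstance
        normD := inferInstance
        le := hKD
        mem := hgD
        not_mem := hgK
        conj := fun x hx hxK => by
          by_contra hc; exact hxK (hin x hx hc)
        comm := fun x y => Subgroup.commutator_mem_commutator (Subgroup.mem_top x) (Subgroup.mem_top y)
        center := fun z hz => by
          by_contra hne
          exact OneSeen.apply_ne_zero_of_central_mod χ hz (hout z hne)
        card := hcount } ?_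
    intro hq'
    have h2' : n * n = a := by rw [hnn, show q - 1 = 1 by omega, mul_one]
    rcases Nat.lt_or_ge n 2 with h2 | h2
    · interval_cases n
      · exact absurd Nat.cast_zero hn0
      · exact absurd rfl hn1
    · have : 4 ≤ n * n := Nat.mul_le_mul h2 h2
      omega

end Cfsg.Agent.S4805
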