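import Cfsg.Statements.S4807
import Cfsg.Agent.Lib.OW.Main

set_option autoImplicit false
open Cfsg

namespace Cfsg.Agent.S4807

open Cfsg.Agent.OW Cfsg.Agent.Char

attribute [local instance 2000] Fintype.ofFinite

theorem mu_ne_iff {G : Type*} [Group G] [Finite G] {L H : Subgroup G} (hLH : L ≤ H) (χ : Cfsg.IrrCharacter ↥H)
    (ν : Cfsg.IrrCharacter ↥L) :
    mu L (E χ) (E ν) ≠ 0 ↔
      (∑ᶠ l : ↥L, (χ : ↥H → ℂ) (Subgroup.inclusion hLH l) * (starRingEnd ℂ) ((ν : ↥L → ℂ) l)) ≠ 0 := by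
  rw [finsum_eq_sum_of_fintype]
  have h := mu_spec ((isCh_E χ).mono hLH) (isCh_E ν)
  have hs : ip L (E χ) (E ν) = (Nat.card ↥L : ℂ)⁻¹ *
      ∑ l : ↥L, (χ : ↥H → ℂ) (Subgroup.inclusion hLH l) * (starRingEnd ℂ) ((ν : ↥L → ℂ) l) := by
    unfold ip classInner rs
    congr 1
    exact Finset.sum_congr rfl fun l _ => by rw [E_coe ν l, ← E_coe χ (Subgroup.inclusion hLH l)]; rfl
  rw [← Nat.cast_ne_zero (R := ℂ), ← h, hs]
  simp [Nat.card_pos.ne']

/-- Let p be a prime and G a finite p-solvable group, L a normal subgroup of G, S a Sylow p-subgroup of G and P the subgroup generated by L and S (so P/L is a Sylow p-subgroup of G/L), and let ν be an irreducible complex character of L that is invariant under conjugation by every element of P. Let N be the normalizer of P in G (it contains L). Then the number of irreducible characters of G of degree prime to p lying over ν (restriction to L not orthogonal to ν) equals the number of irreducible characters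 of N of degree prime to p lying over ν. -/
theorem result {G : Type*} [Group G] [Finite G] (p : ℕ) [Fact p.Prime] (hG : Cfsg.IsPSolvable p G) (L : Subgroup G) [L.Normal] (S : Sylow p G) (P : Subgroup G) (hP : P = L ⊔ (S : Subgroup G)) (hLN : L ≤ (Subgroup.normalizer ((P : Subgroup G) : Set G))) (ν : Cfsg.IrrCharacter ↥L) (hν : ∀ x ∈ P, Cfsg.IsConjCharOf L x (ν : ↥L → ℂ) (ν : ↥L → ℂ)) : Nat.card {χ : Cfsg.IrrCharacter G // ¬ p ∣ Cfsg.charDegree (χ : G → ℂ) ∧ (∑ᶠ l : ↥L, (χ : G → ℂ) (l : G) * (starRingEnd ℂ) ((ν : ↥L → ℂ) l)) ≠ 0} = Nat.card {ψ : Cfsg.IrrCharacter ↥(Subgroup.normalizer ((P : Subgroup G) : Set G)) // ¬ p ∣ Cfsg.charDegree (ψ : ↥(Subgroup.normalizer ((P : Subgroup G) : Set G)) → ℂ) ∧ (∑ᶠ l : ↥L, (ψ : ↥(Subgroup.normalizer ((P : Subgroup G) : Set G)) → ℂ) (Subgroup.inclusion hLN l) * (starRingEnd ℂ) ((ν : ↥L → ℂ) l)) ≠ 0} := by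
  classical
  have hνS : Fix (S : Subgroup G) L (E ν) := fun x hx l hl => by
    have hl' : x * l * x⁻¹ ∈ L := Subgroup.Normal.conj_mem inferInstance l hl x
    rw [E_of_mem ν hl, E_of_mem ν hl']
    exact hν x (hP ▸ Subgroup.mem_sup_right hx) ⟨l, hl⟩ ⟨_, hl'⟩ rfl
  have hmain := pc_normalizer hG S _ L ⊤ ν le_top (by rw [Subgroup.normalizer_eq_top]) le_top hνS rfl
  rw [top_inf_eq, ← hP] at hmain
  let e : Cfsg.IrrCharacter ↥(⊤ : Subgroup G) ≃ Cfsg.IrrCharacter G :=
    { toFun := fun χ => ⟨_, IsIrrCharacter.comp_equiv χ.2 Subgroup.topEquiv.symm⟩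
      invFun := fun χ => ⟨_, IsIrrCharacter.comp_equiv χ.2 Subgroup.topEquiv⟩
      left_inv := fun χ => Subtype.ext (funext fun g => rfl)
      right_inv := fun χ => Subtype.ext (funext fun g => rfl) }
  refine Eq.trans ?_ (hmain.trans ?_)
  · refine (Nat.card_congr (Equiv.subtypeEquiv e fun χ => ?_)).symm
    rw [mu_ne_iff le_top χ ν]
    exact Iff.rfl
  · refine Nat.card_congr (Equiv.subtypeEquivRight fun ψ => ?_)
    rw [mu_ne_iff hLN ψ ν]
    exact Iff.rfl

end Cfsg.Agent.S4807
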