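import Cfsg.Statements.S4808
import Cfsg.Agent.Lib.Codegree.Basic

set_option autoImplicit false
open Cfsg

namespace Cfsg.Agent.S4808

open Cfsg

universe u

theorem exists_dvd_codeg (p : ℕ) (hp : p.Prime) : ∀ (G : Type u) [Group G] [Finite G],
    p ∣ Nat.card G → ∃ χ : IrrCharacter G, p ∣ (Nat.card G /
      (Nat.card {g : G // (χ : G → ℂ) g = (χ : G → ℂ) 1} * charDegree (χ : G → ℂ))) := by
  intro G
  induction hc : Nat.card G using Nat.strong_induction_on generalizing G with
  | _ n ih =>
    intro _ _ hpG
    subst hc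
    classical
    haveI := Fintype.ofFinite G
    haveI := Fintype.ofFinite (IrrCharacter G)
    haveI := Fact.mk hp
    by_contra hne
    push Not at hne
    obtain ⟨x, hx⟩ := exists_prime_orderOf_dvd_card' p hpG
    let M := Subgroup.normalClosure ({x} : Set G)
    have hxM : x ∈ M := Subgroup.subset_normalClosure rfl
    have hM1 : 1 < Nat.card M := by
      rw [Finite.one_lt_card_iff_nontrivial, Subgroup.nontrivial_iff_ne_bot]
      intro e
      rw [e, Subgroup.mem_bot] at hxM
      rw [hxM, orderOf_one] at hx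
      exact hp.ne_one hx.symm
    by_cases hq : p ∣ Nat.card (G ⧸ M)
    · have hlt : Nat.card (G ⧸ M) < Nat.card G := by
        rw [Subgroup.card_eq_card_quotient_mul_card_subgroup M]
        exact lt_mul_of_one_lt_right Nat.card_pos hM1
      obtain ⟨ψ, hψ⟩ := ih _ hlt (G ⧸ M) rfl hq
      exact hne (Codegree.inflate M ψ) ((Codegree.codeg_inflate M ψ).symm ▸ hψ)
    have hdvd : ∀ χ : IrrCharacter G, ¬ M ≤ Codegree.kerSub χ → p ∣ charDegree (χ : G → ℂ) := by
      intro χ hχ
      have hxk : x ∉ Codegree.kerSub χ := fun h =>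
        hχ (Subgroup.normalClosure_le_normal (Set.singleton_subset_iff.2 h))
      have h1 : p ∣ (Codegree.kerSub χ).index := by
        have h2 : orderOf (x : G ⧸ Codegree.kerSub χ) ∣ p :=
          hx ▸ orderOf_map_dvd (QuotientGroup.mk' (Codegree.kerSub χ)) x
        rcases (Nat.dvd_prime hp).1 h2 with e | e
        · exact absurd ((QuotientGroup.eq_one_iff x).1 (orderOf_eq_one_iff.1 e)) hxk
        · exact e ▸ orderOf_dvd_natCard _
      rw [← Codegree.codeg_mul_deg χ] at h1
      exact (hp.dvd_mul.1 h1).resolve_left (hne χ)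
    have hsum := Char.sum_degree_mul_apply (G := G) x
    rw [if_neg (fun e => hp.ne_one (by rw [← hx, e, orderOf_one])),
      ← Finset.sum_filter_add_sum_filter_not Finset.univ
        (fun χ : IrrCharacter G => M ≤ Codegree.kerSub χ),
      Finset.sum_congr rfl (g := fun χ : IrrCharacter G => (χ : G → ℂ) 1 ^ 2) (fun χ hχ => by
        rw [Codegree.mem_kerSub.1 ((Finset.mem_filter.1 hχ).2 hxM), sq]),
      Codegree.index_sum M] at hsum
    have hint : IsIntegral ℤ ((M.index : ℂ) / (p : ℂ)) := by
      rw [eq_neg_of_add_eq_zero_left hsum, neg_div, Finset.sum_div]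
      refine IsIntegral.neg (IsIntegral.sum _ fun χ hχ => ?_)
      obtain ⟨c, hc⟩ := hdvd χ (Finset.mem_filter.1 hχ).2
      rw [TwoClassChar.deg_eq χ.2, hc, Nat.cast_mul, mul_assoc,
        mul_div_cancel_left₀ _ (Nat.cast_ne_zero.2 hp.ne_zero)]
      exact IsIntegral.mul (by simpa using isIntegral_algebraMap (R := ℤ) (A := ℂ) (x := (c : ℤ)))
        (Char.IsCharacter.isIntegral (Char.IsIrrCharacter.isCharacter χ.2) x)
    exact hq (Char.nat_dvd_of_isIntegral_div hp.ne_zero hint)

/-- The codegree of an irreducible complex character χ of a finite group G is [G : ker χ] / χ(1), where ker χ is the set of elements at which χ takes the value χ(1). A prime divides the order of G if and only if it divides the codegree of some irreducible complex character of G. -/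
theorem result {G : Type*} [Group G] [Finite G] (p : ℕ) (hp : p.Prime) : p ∣ Nat.card G ↔ ∃ χ : Cfsg.IrrCharacter G, p ∣ (Nat.card G / (Nat.card {g : G // (χ : G → ℂ) g = (χ : G → ℂ) 1} * Cfsg.charDegree (χ : G → ℂ))) := by
  constructor
  · intro h
    exact exists_dvd_codeg p hp G h
  · rintro ⟨χ, hχ⟩
    exact hχ.trans (Codegree.codeg_dvd_card χ)

end Cfsg.Agent.S4808
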