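import Cfsg.Agent.Lib.Char.Orth

set_option autoImplicit false
set_option linter.style.haveILetI false

namespace Cfsg.Agent.S4814
open Cfsg

variable {G : Type*} [Group G]

theorem scalar_of_commute {n : ℕ} (ρ : Representation ℂ G (Fin n → ℂ)) [ρ.IsIrreducible]
    (f : (Fin n → ℂ) →ₗ[ℂ] (Fin n → ℂ)) (hf : ∀ g v, f (ρ g v) = ρ g (f v)) :
    ∃ c : ℂ, f = c • LinearMap.id := by
  obtain ⟨c, hc⟩ := (Representation.IsIrreducible.algebraMap_intertwiningMap_bijective_of_isAlgClosed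
    (ρ := ρ)).2 (f.intertwiningMap_of_isIntertwiningMap ρ ρ hf)
  refine ⟨c, ?_⟩
  apply LinearMap.ext
  intro v
  have := congrArg (fun F : Representation.IntertwiningMap ρ ρ => F v) hc
  simpa [Algebra.algebraMap_eq_smul_one] using this.symm

variable [Fintype G] {n : ℕ} (ρ : Representation ℂ G (Fin n → ℂ)) [ρ.IsIrreducible]

theorem sum_conj (b : G) : (n : ℂ) • ∑ a : G, ρ (a * b * a⁻¹) =
    ((Fintype.card G : ℂ) * ρ.character b) • LinearMap.id := by
  obtain ⟨c, hc⟩ := scalar_of_commute ρ (∑ a : G, ρ (a * b * a⁻¹)) (by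
    intro g v
    simp only [LinearMap.sum_apply, map_sum]
    rw [← Fintype.sum_equiv (Equiv.mulLeft g) (fun a => ρ ((g*a) * b * (g*a)⁻¹) (ρ g v))
      (fun a => ρ (a * b * a⁻¹) (ρ g v)) (fun a => rfl)]
    refine Finset.sum_congr rfl fun a _ => ?_
    rw [← Module.End.mul_apply, ← map_mul, ← Module.End.mul_apply, ← map_mul]
    congr 2; group)
  have ht := congrArg (LinearMap.trace ℂ _) hc
  simp only [map_sum, map_smul, LinearMap.trace_id, smul_eq_mul, Module.finrank_pi,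
    Fintype.card_fin] at ht
  change ∑ a : G, ρ.character (a * b * a⁻¹) = _ at ht
  simp only [Representation.char_conj, Finset.sum_const, Finset.card_univ, nsmul_eq_mul] at ht
  rw [hc, smul_smul, ht, mul_comm]

theorem sum_char_smul : (n : ℂ) • ∑ b : G, ρ.character b • ρ b⁻¹ =
    (Fintype.card G : ℂ) • LinearMap.id := by
  haveI : Invertible (Nat.card G : ℂ) := invertibleOfNonzero (by simp)
  obtain ⟨c, hc⟩ := scalar_of_commute ρ (∑ b : G, ρ.character b • ρ b⁻¹) (by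
    intro g v
    simp only [LinearMap.sum_apply, map_sum, LinearMap.smul_apply, map_smul]
    rw [← Fintype.sum_equiv (MulAut.conj g).toEquiv
      (fun b => ρ.character (g*b*g⁻¹) • ρ (g*b*g⁻¹)⁻¹ (ρ g v))
      (fun b => ρ.character b • ρ b⁻¹ (ρ g v)) (fun a => rfl)]
    refine Finset.sum_congr rfl fun a _ => ?_
    rw [Representation.char_conj, ← Module.End.mul_apply, ← map_mul, ← Module.End.mul_apply,
      ← map_mul]
    congr 3; group)
  have ht := congrArg (LinearMap.trace ℂ _) hc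
  simp only [map_sum, map_smul, LinearMap.trace_id, smul_eq_mul, Module.finrank_pi,
    Fintype.card_fin] at ht
  have ho := Representation.char_orthonormal ρ ρ
  rw [if_pos ⟨Representation.Equiv.refl _⟩] at ho
  have hG : (Nat.card G : ℂ) ≠ 0 := by simp
  rw [inv_mul_eq_iff_eq_mul₀ hG, Nat.card_eq_fintype_card] at ho
  simp only [mul_one] at ho
  change ∑ g : G, ρ.character g * ρ.character g⁻¹ = _ at ht
  rw [hc, smul_smul]
  rw [ho] at ht
  rw [ht, mul_comm]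

/-- Commutators average to a scalar. -/
theorem sum_comm : (n : ℂ) • ((n : ℂ) • ∑ a : G, ∑ b : G, ρ (a * b * a⁻¹ * b⁻¹)) =
    ((Fintype.card G : ℂ) ^ 2) • LinearMap.id := by
  have h1 : (n : ℂ) • ∑ a : G, ∑ b : G, ρ (a * b * a⁻¹ * b⁻¹) =
      (Fintype.card G : ℂ) • ∑ b : G, ρ.character b • ρ b⁻¹ := by
    rw [Finset.sum_comm, Finset.smul_sum, Finset.smul_sum]
    refine Finset.sum_congr rfl fun b _ => ?_
    have : ∑ a : G, ρ (a * b * a⁻¹ * b⁻¹) = (∑ a : G, ρ (a * b * a⁻¹)) * ρ b⁻¹ := by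
      rw [Finset.sum_mul]; exact Finset.sum_congr rfl fun a _ => by rw [map_mul]
    rw [this, ← smul_mul_assoc, sum_conj, smul_mul_assoc, smul_smul]
    rfl
  rw [h1, smul_comm, sum_char_smul, smul_smul, sq]

theorem sum_two_comm (g : G) : (n : ℂ) ^ 4 * ∑ a : G, ∑ b : G, ∑ c : G, ∑ d : G,
    ρ.character ((a * b * a⁻¹ * b⁻¹) * (c * d * c⁻¹ * d⁻¹) * g) =
    (Fintype.card G : ℂ) ^ 4 * ρ.character g := by
  set S := ∑ a : G, ∑ b : G, ρ (a * b * a⁻¹ * b⁻¹) with hS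
  have h : ((n : ℂ) ^ 2 • S) * ((n : ℂ) ^ 2 • S) * ρ g = ((Fintype.card G : ℂ) ^ 4) • ρ g := by
    rw [sq, ← smul_smul, hS, sum_comm]
    simp only [smul_mul_assoc, mul_smul_comm, ← Module.End.one_eq_id, one_mul, smul_smul]
    ring_nf
  have ht := congrArg (LinearMap.trace ℂ _) h
  simp only [smul_mul_assoc, mul_smul_comm, map_smul, smul_eq_mul] at ht
  have e : S * S * ρ g = ∑ a : G, ∑ b : G, ∑ c : G, ∑ d : G,
      ρ ((a * b * a⁻¹ * b⁻¹) * (c * d * c⁻¹ * d⁻¹) * g) := by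
    simp only [hS, Finset.sum_mul]
    refine Finset.sum_congr rfl fun a _ => Finset.sum_congr rfl fun b _ => ?_
    simp only [Finset.mul_sum, Finset.sum_mul, ← map_mul]
  rw [e] at ht
  simp only [map_sum] at ht
  refine Eq.trans ?_ ht
  rw [← mul_assoc]
  congr 1
  ring

theorem norm_le {G : Type*} [Group G] [Finite G] {χ : G → ℂ} (h : IsIrrCharacter G χ) (g : G) :
    ‖χ g‖ ≤ ‖χ 1‖ :=
  (Char.IsCharacter.norm_le (Char.IsIrrCharacter.isCharacter h) g).trans (Complex.re_le_norm _)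

theorem result {G : Type*} [Group G] [Finite G]
    (h : ∑ᶠ χ : Cfsg.IrrCharacter G, 1 / ‖(χ : G → ℂ) 1‖ ^ 2 < (2 : ℝ)) (g : G) :
    ∃ a b c d : G, (a * b * a⁻¹ * b⁻¹) * (c * d * c⁻¹ * d⁻¹) = g := by
  classical
  haveI := Fintype.ofFinite G
  haveI := Fintype.ofFinite (IrrCharacter G)
  rw [finsum_eq_sum_of_fintype] at h
  by_contra hne
  push Not at hne
  have key : ∀ χ : IrrCharacter G, (χ : G → ℂ) 1 * ((χ : G → ℂ) 1 ^ 4 *
      ∑ a : G, ∑ b : G, ∑ c : G, ∑ d : G,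
        (χ : G → ℂ) ((a * b * a⁻¹ * b⁻¹) * (c * d * c⁻¹ * d⁻¹) * g⁻¹)) =
      (χ : G → ℂ) 1 * ((Fintype.card G : ℂ) ^ 4 * (χ : G → ℂ) g⁻¹) := by
    rintro ⟨χ, n, ρ, hρ, rfl⟩
    have : ρ.character 1 = (n : ℂ) := by simp
    simp only [this, sum_two_comm]
  have hd : ∀ χ : IrrCharacter G, (χ : G → ℂ) 1 ≠ 0 := by
    rintro ⟨χ, n, ρ, hρ, rfl⟩
    have hn : n ≠ 0 := by
      rintro rfl
      exact (IsSimpleOrder.bot_ne_top (α := Subrepresentation ρ))
        (Subrepresentation.toSubmodule_injective (Subsingleton.elim _ _))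
    simpa using hn
  have zero : ∑ χ : IrrCharacter G, ∑ a : G, ∑ b : G, ∑ c : G, ∑ d : G,
      (χ : G → ℂ) 1 * (χ : G → ℂ) ((a * b * a⁻¹ * b⁻¹) * (c * d * c⁻¹ * d⁻¹) * g⁻¹) = 0 := by
    simp only [Finset.sum_comm (γ := IrrCharacter G)]
    refine Finset.sum_eq_zero fun a _ => Finset.sum_eq_zero fun b _ => Finset.sum_eq_zero
      fun c _ => Finset.sum_eq_zero fun d _ => ?_
    rw [Char.sum_degree_mul_apply, if_neg]
    intro e; exact hne a b c d (by rwa [mul_inv_eq_one] at e)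
  have z2 : ∑ χ : IrrCharacter G, (χ : G → ℂ) g⁻¹ / (χ : G → ℂ) 1 ^ 3 = 0 := by
    have e : (Fintype.card G : ℂ) ^ 4 * ∑ χ : IrrCharacter G, (χ : G → ℂ) g⁻¹ / (χ : G → ℂ) 1 ^ 3 = 0 := by
      rw [Finset.mul_sum]; refine Eq.trans (Finset.sum_congr rfl fun χ _ => ?_) zero
      simp only [← Finset.mul_sum]
      have k := key χ
      have := hd χ
      field_simp at k ⊢
      linear_combination -k
    exact (mul_eq_zero.1 e).resolve_left (pow_ne_zero _ (by simp))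
  let one : IrrCharacter G := ⟨fun _ => 1, Char.isIrrCharacter_one⟩
  rw [← Finset.add_sum_erase _ _ (Finset.mem_univ one)] at z2 h
  have b : ‖∑ χ ∈ Finset.univ.erase one, (χ : G → ℂ) g⁻¹ / (χ : G → ℂ) 1 ^ 3‖ < 1 := by
    have b1 : ‖∑ χ ∈ Finset.univ.erase one, (χ : G → ℂ) g⁻¹ / (χ : G → ℂ) 1 ^ 3‖ ≤
        ∑ χ ∈ Finset.univ.erase one, 1 / ‖(χ : G → ℂ) 1‖ ^ 2 := by
      refine le_trans (norm_sum_le _ _) (Finset.sum_le_sum fun χ _ => ?_)
      rw [norm_div, norm_pow]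
      have := norm_pos_iff.2 (hd χ)
      rw [div_le_div_iff₀ (by positivity) (by positivity)]
      have := mul_le_mul_of_nonneg_right (norm_le χ.2 g⁻¹) (sq_nonneg ‖(χ : G → ℂ) 1‖)
      nlinarith
    have e : ‖(one : G → ℂ) 1‖ = 1 := by simp [one]
    rw [e] at h
    norm_num at h b1 ⊢
    linarith
  rw [eq_neg_of_add_eq_zero_right z2, norm_neg] at b
  simp [one] at b

end Cfsg.Agent.S4814
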