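import Cfsg.Statements.S4825
import Cfsg.Agent.S0925
import Cfsg.Agent.Lib.CentralChar.Congr
import Cfsg.Agent.Lib.CharApp.DegreeSets

set_option autoImplicit false
open Cfsg

namespace Cfsg.Agent.S4825

open scoped ComplexConjugate

/-- The squares of the `p'`-degrees in a block over a character of a normal subgroup not containing a
Sylow `p`-subgroup add up to a multiple of `p`. -/
theorem dvd_sum_sq {G : Type*} [Group G] [Fintype G] {p : ℕ} [hp : Fact p.Prime] (P : Sylow p G)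
    {M : Ideal Cfsg.AlgInt} (hM : Cfsg.IsPModular p M) {B : Set (Cfsg.IrrCharacter G)}
    (hB : Cfsg.IsPBlock M B) (N : Subgroup G) [N.Normal] [Fintype N]
    (hPN : ¬ (P : Subgroup G) ≤ N) (θ : Cfsg.IrrCharacter N) [Fintype (Cfsg.IrrCharacter G)]
    [DecidablePred fun χ : Cfsg.IrrCharacter G =>
      χ ∈ B ∧ ¬ p ∣ Cfsg.charDegree (χ : G → ℂ) ∧
        Cfsg.classInner (fun n : N => (χ : G → ℂ) n) (θ : N → ℂ) ≠ 0] :
    p ∣ ∑ χ ∈ Finset.univ.filter (fun χ : Cfsg.IrrCharacter G =>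
      χ ∈ B ∧ ¬ p ∣ Cfsg.charDegree (χ : G → ℂ) ∧
        Cfsg.classInner (fun n : N => (χ : G → ℂ) n) (θ : N → ℂ) ≠ 0),
          Cfsg.charDegree (χ : G → ℂ) ^ 2 := by
  classical
  obtain ⟨x, hxP, hxN⟩ := SetLike.not_le_iff_exists.1 hPN
  obtain ⟨k, hk⟩ := IsPGroup.iff_orderOf.1 P.2 ⟨x, hxP⟩
  rw [Subgroup.orderOf_mk] at hk
  set θ' : N → ℂ := (θ : N → ℂ)
  have hvan : ∀ u z : G, Cfsg.IsPPart p u z → IsConj x z → Cfsg.indFun N θ' u = 0 := by
    intro u z hu hxz
    refine CliffordChar.indFun_not_mem N θ' fun huN => hxN ?_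
    obtain ⟨y, rfl, hc, ⟨j, hj⟩, hy⟩ := hu
    have h1 : z ^ orderOf y ∈ N := by
      have := pow_mem huN (orderOf y)
      rwa [(show Commute z y from hc).mul_pow, pow_orderOf_eq_one, mul_one] at this
    have hcop : (orderOf z).Coprime (orderOf y) :=
      hj ▸ Nat.Coprime.pow_left _ (hp.out.coprime_iff_not_dvd.2 hy)
    have hz : z ∈ N := by
      obtain ⟨i, hi⟩ := exists_pow_eq_self_of_coprime hcop.symm
      exact hi ▸ pow_mem h1 i
    obtain ⟨g, hg⟩ := isConj_iff.1 hxz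
    have h2 := Subgroup.Normal.conj_mem ‹N.Normal› z hz g⁻¹
    rwa [← hg, inv_inv, ← mul_assoc g⁻¹, ← mul_assoc g⁻¹, inv_mul_cancel, one_mul,
      inv_mul_cancel_right] at h2
  have hzero := (S0925.result p M hM).1 _ (Char.indFun_isClassFunction N θ') x ⟨k, hk⟩ hvan B hB x x
    ⟨1, mul_one x, Commute.one_right x, ⟨k, hk⟩, by simpa using hp.out.not_dvd_one⟩
    (IsConj.refl x)
  rw [Agent.SecondMain.blockPart_apply] at hzero
  -- multiply by the common factor
  set c := (CharApp.inertia N θ').index * Cfsg.charDegree θ'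
  have hterm : ∀ χ : Cfsg.IrrCharacter G,
      (c : ℂ) * (Cfsg.classInner (Cfsg.indFun N θ') (χ : G → ℂ) * (χ : G → ℂ) x) =
        if Cfsg.classInner (fun n : N => (χ : G → ℂ) n) θ' ≠ 0 then
          (Cfsg.charDegree (χ : G → ℂ) : ℂ) * (χ : G → ℂ) x else 0 := by
    intro χ
    rw [Char.frobenius_reciprocity N θ' (Char.IsIrrCharacter.isClassFunction χ.2)]
    by_cases h : Cfsg.classInner (fun n : N => (χ : G → ℂ) n) θ' ≠ 0
    · obtain ⟨e, -, he, hd, -⟩ := CharApp.DegreeSets.degree_over N χ.2 θ.2 h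
      rw [if_pos h, CharApp.classInner_comm_of_nat he, hd]
      push_cast [c]
      ring
    · rw [if_neg h]
      push Not at h
      rw [CharApp.classInner_comm_of_nat (m := 0) (by simpa using h)]
      simp
  have hsum : ∑ χ ∈ Finset.univ.filter (fun χ : Cfsg.IrrCharacter G =>
      χ ∈ B ∧ Cfsg.classInner (fun n : N => (χ : G → ℂ) n) θ' ≠ 0),
        (Cfsg.charDegree (χ : G → ℂ) : ℂ) * (χ : G → ℂ) x = 0 := by
    rw [finsum_mem_eq_toFinset_sum] at hzero
    have h2 := congrArg ((c : ℂ) * ·) hzero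
    simp only [Finset.mul_sum, mul_zero, hterm, ← Finset.sum_filter] at h2
    refine Eq.trans (Finset.sum_congr ?_ fun _ _ => rfl) h2
    ext χ; simp
  -- reduce modulo `M`
  have hmem : Cfsg.MemLocalIdeal M
      ((∑ χ ∈ Finset.univ.filter (fun χ : Cfsg.IrrCharacter G =>
        χ ∈ B ∧ Cfsg.classInner (fun n : N => (χ : G → ℂ) n) θ' ≠ 0),
          Cfsg.charDegree (χ : G → ℂ) ^ 2 : ℕ) : ℂ) := by
    have h1 : Cfsg.MemLocalIdeal M (∑ χ ∈ Finset.univ.filter (fun χ : Cfsg.IrrCharacter G =>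
        χ ∈ B ∧ Cfsg.classInner (fun n : N => (χ : G → ℂ) n) θ' ≠ 0),
        (Cfsg.charDegree (χ : G → ℂ) : ℂ) * ((χ : G → ℂ) 1 - (χ : G → ℂ) x)) := by
      refine Blocks.memI_sum hM _ fun χ _ => Blocks.memI_mul_left hM
        (Blocks.memR_of_isIntegral hM (isIntegral_algebraMap (R := ℤ) (x := (Cfsg.charDegree (χ : G → ℂ) : ℤ)))) ?_
      have h := Blocks.memI_sub hM (Blocks.memI_zero hM) (CentralChar.memI_sub_apply_one hM
        (Char.IsIrrCharacter.isCharacter χ.2) (g := x) (k := k) (by rw [← hk, pow_orderOf_eq_one]))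
      simpa using h
    simp only [mul_sub, Finset.sum_sub_distrib, hsum, sub_zero] at h1
    push_cast
    convert h1 using 1
    refine Finset.sum_congr rfl fun χ _ => ?_
    rw [CharApp.DegreeSets.apply_one χ.2, sq]
  rw [Blocks.memI_natCast hM] at hmem
  rw [← Finset.sum_filter_add_sum_filter_not _
    (fun χ : Cfsg.IrrCharacter G => p ∣ Cfsg.charDegree (χ : G → ℂ))] at hmem
  rw [Nat.dvd_add_right (Finset.dvd_sum fun χ hχ =>
    dvd_pow (Finset.mem_filter.1 hχ).2 two_ne_zero)] at hmem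
  convert hmem using 1
  refine Finset.sum_congr ?_ fun _ _ => rfl
  ext χ
  simp [θ']
  tauto

theorem key2 : ∀ a : ZMod 2, a ≠ 0 → a ^ 2 = 1 := by decide

theorem key3 : ∀ a : ZMod 3, a ≠ 0 → a ^ 2 = 1 := by decide

/-- Let p be a prime, G a finite group with Sylow p-subgroup P, M a maximal ideal of the algebraic integers containing p, and B a p-block of G with defect group P. Let N be a normal subgroup of G not containing P and θ an irreducible character of N. Then the number of irreducible characters in B of degree prime to p lying over θ (having θ as a constituent on restriction to N) is either 0 or at least 2, and when p ≤ 3 it is divisible by p. -/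
theorem result {G : Type*} [Group G] [Fintype G] (p : ℕ) [Fact p.Prime] (P : Sylow p G) (M : Ideal Cfsg.AlgInt) (hM : Cfsg.IsPModular p M) (B : Set (Cfsg.IrrCharacter G)) (hB : Cfsg.IsPBlock M B) (hBP : Cfsg.IsDefectGroup p M B P) (N : Subgroup G) [N.Normal] [Fintype N] (hPN : ¬ (P : Subgroup G) ≤ N) (θ : Cfsg.IrrCharacter N) :
    (Nat.card {χ : Cfsg.IrrCharacter G // χ ∈ B ∧ ¬ p ∣ Cfsg.charDegree (χ : G → ℂ) ∧ Cfsg.classInner (fun n : N => (χ : G → ℂ) n) (θ : N → ℂ) ≠ 0} = 0 ∨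
      2 ≤ Nat.card {χ : Cfsg.IrrCharacter G // χ ∈ B ∧ ¬ p ∣ Cfsg.charDegree (χ : G → ℂ) ∧ Cfsg.classInner (fun n : N => (χ : G → ℂ) n) (θ : N → ℂ) ≠ 0}) ∧
    (p ≤ 3 → p ∣ Nat.card {χ : Cfsg.IrrCharacter G // χ ∈ B ∧ ¬ p ∣ Cfsg.charDegree (χ : G → ℂ) ∧ Cfsg.classInner (fun n : N => (χ : G → ℂ) n) (θ : N → ℂ) ≠ 0}) := by
  classical
  have hp : p.Prime := Fact.out
  haveI := Fintype.ofFinite (Cfsg.IrrCharacter G)
  rw [Nat.card_eq_fintype_card, Fintype.card_subtype]
  set s := Finset.univ.filter (fun χ : Cfsg.IrrCharacter G => χ ∈ B ∧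
    ¬ p ∣ Cfsg.charDegree (χ : G → ℂ) ∧
      Cfsg.classInner (fun n : N => (χ : G → ℂ) n) (θ : N → ℂ) ≠ 0) with hs
  have hdvd : p ∣ ∑ χ ∈ s, Cfsg.charDegree (χ : G → ℂ) ^ 2 := dvd_sum_sq P hM hB N hPN θ
  have hnd : ∀ χ ∈ s, ¬ p ∣ Cfsg.charDegree (χ : G → ℂ) := fun χ hχ =>
    (Finset.mem_filter.1 hχ).2.2.1
  refine ⟨?_, fun hp3 => ?_⟩
  · rcases Nat.lt_or_ge s.card 2 with h | h
    · left
      by_contra h0
      obtain ⟨χ, hχ⟩ := Finset.card_eq_one.1 (show s.card = 1 by omega)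
      rw [hχ, Finset.sum_singleton] at hdvd
      exact hnd χ (hχ ▸ Finset.mem_singleton_self χ) (hp.dvd_of_dvd_pow hdvd)
    · exact Or.inr h
  · rw [← ZMod.natCast_eq_zero_iff] at hdvd ⊢
    rw [Nat.cast_sum, Finset.sum_congr rfl (g := fun _ => (1 : ZMod p)) (fun χ hχ => by
      have h1 : ((Cfsg.charDegree (χ : G → ℂ) : ℕ) : ZMod p) ≠ 0 := fun e =>
        hnd χ hχ ((ZMod.natCast_eq_zero_iff _ _).1 e)
      push_cast
      revert h1
      generalize ((Cfsg.charDegree (χ : G → ℂ) : ℕ) : ZMod p) = a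
      have hp' : p = 2 ∨ p = 3 := by have := hp.two_le; omega
      rcases hp' with rfl | rfl
      · exact key2 a
      · exact key3 a), Finset.sum_const, nsmul_one] at hdvd
    exact hdvd

end Cfsg.Agent.S4825
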