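import Cfsg.Statements.S4828
import Cfsg.Agent.Lib.Blocks.HeightZero
import Cfsg.Agent.Lib.BrauerPairs.StableBlock
import Cfsg.Agent.Lib.BrauerPairs.NilpotentFusion
import Cfsg.Agent.Lib.BlocksNormal.CentralDefect

set_option autoImplicit false
open Cfsg

namespace Cfsg.Agent.S4828

open Cfsg.Agent.Blocks Cfsg.Agent.BrauerPairs

/-- The defect of a block, transported along a group isomorphism. -/
theorem blockDefect_image {G H : Type*} [Group G] [Finite G] [Group H] [Finite H] (f : H ≃* G)
    (p : ℕ) (b : Set (IrrCharacter G)) : blockDefect p (pullIrr f '' b) = blockDefect p b := by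
  have h : ∀ χ : IrrCharacter G,
      charDegree (pullIrr f χ : H → ℂ) = charDegree (χ : G → ℂ) := fun χ => by
    apply Nat.cast_injective (R := ℂ)
    rw [charDegree_cast, charDegree_cast, pullIrr_apply, map_one]
  rw [blockDefect, blockDefect, Nat.card_congr f.toEquiv, Set.image_image]
  simp only [h]

/-- The block of the stabiliser attached to a pair, seen on the centraliser inside it. -/
theorem image_idem {G : Type*} [Group G] [Finite G] {p : ℕ} {M : Ideal AlgInt} [Fact p.Prime]
    (hM : IsPModular p M) {C T : Subgroup G} (hCT : C ≤ T) {e : Set (IrrCharacter C)}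
    {F : Set (IrrCharacter T)} (hFe : ∀ t : T, blockCoeff F t = subgroupBlockCoeff C e t) :
    bIdem M (C.subgroupOf T) (pullIrr (Subgroup.subgroupOfEquivOfLe hCT) '' e) = blk M F := by
  refine emb_injective T ?_
  ext x
  by_cases hx : x ∈ T
  · rw [show x = ((⟨x, hx⟩ : T) : G) from rfl, coeff_emb_coe, coeff_emb_coe, coeff_bIdem hM, blk,
      coeff_red, hFe]
    congr 1
    simp only [subgroupBlockCoeff]
    by_cases hxC : x ∈ C
    · rw [dif_pos (show (⟨x, hx⟩ : T) ∈ C.subgroupOf T from hxC), dif_pos hxC, blockCoeff_image]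
      rfl
    · rw [dif_neg (show (⟨x, hx⟩ : T) ∉ C.subgroupOf T from hxC), dif_neg hxC]
  · rw [suppIn_emb _ _ x hx, suppIn_emb _ _ x hx]

/-- Let p be a prime, M a maximal ideal of the algebraic integers containing p, and (Q, e) a Brauer pair of the finite group G (Q a p-subgroup, e a block of C_G(Q)). Then (Q, e) is a maximal Brauer pair of some block of G if and only if e contains an irreducible character θ such that θ takes the value θ(1) at every element of Z(Q) = Q ∩ C_G(Q), the p-part of θ(1) times the p-part of the order of Z(Q) equals the p-part of the order of C_G(Q) (θ has defect zero as a character of C_G(Q)/Z(Q)), and every element of N_G(Q) of p-power order that stabilizes e lies in Q·C_G(Q) (the stabilizer of e in N_G(Q) has index prime to p over Q·C_G(Q)). -/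
theorem result {G : Type*} [Group G] [Finite G] (p : ℕ) [Fact p.Prime] (M : Ideal Cfsg.AlgInt) (hM : Cfsg.IsPModular p M) (Q : Subgroup G) (e : Set (Cfsg.IrrCharacter (Subgroup.centralizer (Q : Set G)))) (he : Cfsg.IsBrauerPair p M Q e) :
    (∃ B : Set (Cfsg.IrrCharacter G), Cfsg.IsMaximalBrauerPair p M B Q e) ↔
      ∃ θ ∈ e, (∀ z : Subgroup.centralizer (Q : Set G), (z : G) ∈ Q → (θ : Subgroup.centralizer (Q : Set G) → ℂ) z = (θ : Subgroup.centralizer (Q : Set G) → ℂ) 1) ∧
        (Cfsg.charDegree (θ : Subgroup.centralizer (Q : Set G) → ℂ)).factorization p + (Nat.card ↥(Q ⊓ Subgroup.centralizer (Q : Set G))).factorization p = (Nat.card (Subgroup.centralizer (Q : Set G))).factorization p ∧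
        (∀ g : G, g ∈ Subgroup.normalizer (Q : Set G) → Cfsg.StabilizesBlock (Subgroup.centralizer (Q : Set G)) e g → (∃ k : ℕ, orderOf g = p ^ k) → g ∈ Q ⊔ Subgroup.centralizer (Q : Set G)) := by
  classical
  have hp : p.Prime := Fact.out
  obtain ⟨hQp, heb⟩ := he
  set T := pairStab M Q e with hT
  have := Fintype.ofFinite G
  have hTN := pairStab_le_normalizer (M := M) Q e
  have hQT := le_pairStab (M := M) Q e
  have hCT := centralizer_le_pairStab hM Q e
  haveI hQn : (Q.subgroupOf T).Normal := ⟨fun q hq t =>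
    (Subgroup.mem_normalizer_iff.1 (hTN t.2) (q : G)).1 hq⟩
  haveI hCn : ((Subgroup.centralizer (Q : Set G)).subgroupOf T).Normal := ⟨fun q hq t =>
    (Subgroup.mem_normalizer_iff.1 (mem_normalizer_centralizer (hTN t.2)) (q : G)).1 hq⟩
  obtain ⟨F, hF, hFeq, hFe⟩ := exists_block_pairStab hM (Q := Q) (f := e) ⟨hQp, heb⟩
  have hidem := image_idem hM hCT hFe
  set c := pullIrr (Subgroup.subgroupOfEquivOfLe hCT) '' e with hc0
  have hc : IsPBlock M c := isPBlock_image _ heb
  set Z := (Q ⊓ (Subgroup.centralizer (Q : Set G))).subgroupOf (Subgroup.centralizer (Q : Set G)) with hZ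
  have hZc : Z ≤ Subgroup.center (Subgroup.centralizer (Q : Set G)) := fun z hz => Subgroup.mem_center_iff.2 fun x =>
    Subtype.ext (Subgroup.mem_centralizer_iff.1 x.2 (z : G) hz.1).symm
  have hZp : IsPGroup p Z :=
    (hQp.to_le inf_le_left).of_equiv (Subgroup.subgroupOfEquivOfLe inf_le_right).symm
  have hZcard : Nat.card Z = Nat.card (Q ⊓ (Subgroup.centralizer (Q : Set G)) : Subgroup G) :=
    Nat.card_congr (Subgroup.subgroupOfEquivOfLe inf_le_right).toEquiv
  have hinf : Nat.card ((Q.subgroupOf T ⊓ (Subgroup.centralizer (Q : Set G)).subgroupOf T).subgroupOf ((Subgroup.centralizer (Q : Set G)).subgroupOf T)) =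
      Nat.card (Q ⊓ (Subgroup.centralizer (Q : Set G)) : Subgroup G) := by
    rw [Nat.card_congr (Subgroup.subgroupOfEquivOfLe
      (inf_le_right : Q.subgroupOf T ⊓ (Subgroup.centralizer (Q : Set G)).subgroupOf T ≤ (Subgroup.centralizer (Q : Set G)).subgroupOf T)).toEquiv]
    exact Nat.card_congr
      (Subgroup.subgroupOfEquivOfLe ((inf_le_left : Q ⊓ (Subgroup.centralizer (Q : Set G)) ≤ Q).trans hQT)).toEquiv
  obtain ⟨a, ha⟩ := (hQp.to_le (inf_le_left : Q ⊓ (Subgroup.centralizer (Q : Set G)) ≤ Q)).exists_card_eq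
  have ha' : (Nat.card (Q ⊓ (Subgroup.centralizer (Q : Set G)) : Subgroup G)).factorization p = a := by
    rw [ha, hp.factorization_pow, Finsupp.single_eq_same]
  have hidx : Z.index.factorization p + a = (Nat.card (Subgroup.centralizer (Q : Set G))).factorization p := by
    rw [← Subgroup.card_mul_index Z, Nat.factorization_mul Nat.card_pos.ne'
      Subgroup.index_ne_zero_of_finite, Finsupp.add_apply, hZcard, ha', add_comm]
  have hmap : (Q.subgroupOf T ⊔ (Subgroup.centralizer (Q : Set G)).subgroupOf T).map T.subtype = Q ⊔ (Subgroup.centralizer (Q : Set G)) := by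
    rw [Subgroup.map_sup, Subgroup.map_subgroupOf_eq_of_le hQT,
      Subgroup.map_subgroupOf_eq_of_le hCT]
  have hmem : ∀ t : T, (t : G) ∈ Q ⊔ (Subgroup.centralizer (Q : Set G)) ↔ t ∈ Q.subgroupOf T ⊔ (Subgroup.centralizer (Q : Set G)).subgroupOf T := fun t => by
    rw [← hmap, Subgroup.mem_map]
    exact ⟨fun ⟨s, hs, h⟩ => Subtype.ext h ▸ hs, fun h => ⟨t, h, rfl⟩⟩
  constructor
  · rintro ⟨B, hmax⟩
    have hD : IsDefectGroup p M F (Q.subgroupOf T) := by
      have h := defect_pairStab_top hM hmax hF hFeq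
      rwa [inf_eq_left.2 hQT] at h
    have hdef : p ^ blockDefect p e = p ^ a := by
      rw [← blockDefect_image (Subgroup.subgroupOfEquivOfLe hCT) p e, ← hc0,
        ← card_defectGroup hM hc (isDefectGroup_inter_normal hM hF hc hidem hD), hinf, ha]
    obtain ⟨θ₀, hθ₀, hh⟩ := exists_blockHeight_eq_zero p (isPBlock_nonempty hM heb)
    have hv : (charDegree (θ₀ : (Subgroup.centralizer (Q : Set G)) → ℂ)).factorization p = Z.index.factorization p := by
      have hd := Nat.pow_right_injective hp.two_le hdef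
      have h1 := fun η (hη : η ∈ e) => factorization_le_of_height_zero hh hη
      have h2 : sInf ((fun χ : IrrCharacter (Subgroup.centralizer (Q : Set G)) => (charDegree (χ : (Subgroup.centralizer (Q : Set G)) → ℂ)).factorization p) '' e) =
          (charDegree (θ₀ : (Subgroup.centralizer (Q : Set G)) → ℂ)).factorization p :=
        le_antisymm (Nat.sInf_le ⟨θ₀, hθ₀, rfl⟩)
          (le_csInf ⟨_, θ₀, hθ₀, rfl⟩ fun n ⟨η, hη, hn⟩ => hn ▸ h1 η hη)
      rw [blockDefect, h2] at hd
      have h3 := (Nat.factorization_le_iff_dvd (charDegree_pos θ₀).ne' Nat.card_pos.ne').2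
        (Blocks.charDegree_dvd_card θ₀) p
      omega
    obtain ⟨θ, hθ, hθZ, hreg⟩ := BlocksNormal.exists_trivOn_twist hM hZp hZc θ₀ hv
    have hθe : θ ∈ e := by
      rw [isPBlock_eq_blockOf hM heb hθ₀]
      exact hθ
    refine ⟨θ, hθe, fun z hz => hθZ z ⟨hz, z.2⟩, ?_, fun g hgN hgS hgp => ?_⟩
    · rw [BlocksNormal.charDegree_congr (hreg 1 (by simpa using hp.one_lt.ne')), hv, ha', hidx]
    · obtain ⟨k, hk⟩ := hgp
      have hgT : g ∈ T := (mem_pairStab_iff hM heb).2 ⟨hgN, hgS⟩
      rw [show g = ((⟨g, hgT⟩ : T) : G) from rfl, hmem]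
      have hnd := not_dvd_index_sup_defect hM hF hc hidem hD
      have h1 : orderOf ((⟨g, hgT⟩ : T) : T ⧸ (Q.subgroupOf T ⊔ (Subgroup.centralizer (Q : Set G)).subgroupOf T)) ∣ p ^ k :=
        hk ▸ ((orderOf_map_dvd (QuotientGroup.mk' _) (⟨g, hgT⟩ : T)).trans (Subgroup.orderOf_mk g hgT).dvd)
      have h2 : orderOf ((⟨g, hgT⟩ : T) : T ⧸ (Q.subgroupOf T ⊔ (Subgroup.centralizer (Q : Set G)).subgroupOf T)) ∣
          (Q.subgroupOf T ⊔ (Subgroup.centralizer (Q : Set G)).subgroupOf T).index := orderOf_dvd_natCard _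
      have h3 := Nat.dvd_gcd h1 h2
      rw [Nat.Coprime.gcd_eq_one ((hp.coprime_iff_not_dvd.2 hnd).pow_left k), Nat.dvd_one,
        orderOf_eq_one_iff, QuotientGroup.eq_one_iff] at h3
      exact h3
  · rintro ⟨θ, hθe, -, hdeg, hstab⟩
    have hv : (charDegree (θ : (Subgroup.centralizer (Q : Set G)) → ℂ)).factorization p = Z.index.factorization p := by
      rw [ha'] at hdeg
      omega
    have hDZ := BlocksNormal.isDefectGroup_central hM hZp hZc θ hv
    rw [← isPBlock_eq_blockOf hM heb hθe] at hDZ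
    have hdef : p ^ blockDefect p e = p ^ a := by rw [← card_defectGroup hM heb hDZ, hZcard, ha]
    obtain ⟨D, hD⟩ := Blocks.exists_isDefectGroup (p := p) hM hF
    have hQD : Q.subgroupOf T ≤ D :=
      normal_le_defectGroup hM (hQp.of_equiv (Subgroup.subgroupOfEquivOfLe hQT).symm) hF hD
    have hcD := card_defectGroup hM hc (isDefectGroup_inter_normal hM hF hc hidem hD)
    rw [hc0, blockDefect_image, hdef, Nat.card_congr (Subgroup.subgroupOfEquivOfLe
      (inf_le_right : D ⊓ (Subgroup.centralizer (Q : Set G)).subgroupOf T ≤ (Subgroup.centralizer (Q : Set G)).subgroupOf T)).toEquiv] at hcD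
    have hDC : D ⊓ (Subgroup.centralizer (Q : Set G)).subgroupOf T = Q.subgroupOf T ⊓ (Subgroup.centralizer (Q : Set G)).subgroupOf T :=
      (Subgroup.eq_of_le_of_card_ge (inf_le_inf_right _ hQD) (by
        rw [hcD, ← ha, ← hinf, Nat.card_congr (Subgroup.subgroupOfEquivOfLe
          (inf_le_right : Q.subgroupOf T ⊓ (Subgroup.centralizer (Q : Set G)).subgroupOf T ≤ (Subgroup.centralizer (Q : Set G)).subgroupOf T)).toEquiv])).symm
    have hDle : D ≤ Q.subgroupOf T := by
      intro d hd
      obtain ⟨k, hk⟩ := IsPGroup.iff_orderOf.1 (isPGroup_defectGroup hM hD) ⟨d, hd⟩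
      rw [Subgroup.orderOf_mk] at hk
      have h1 : d ∈ Q.subgroupOf T ⊔ (Subgroup.centralizer (Q : Set G)).subgroupOf T := (hmem d).1
        (hstab d ((mem_pairStab_iff hM heb).1 d.2).1 ((mem_pairStab_iff hM heb).1 d.2).2
          ⟨k, by rw [Subgroup.orderOf_coe, hk]⟩)
      obtain ⟨q, hq, x, hx, rfl⟩ := Subgroup.mem_sup_of_normal_right.1 h1
      have hxD : x ∈ D ⊓ (Subgroup.centralizer (Q : Set G)).subgroupOf T := ⟨(D.mul_mem_cancel_left (hQD hq)).1 hd, hx⟩
      rw [hDC] at hxD
      exact mul_mem hq hxD.1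
    obtain ⟨B, hB, -⟩ := existsUnique_block_of_pair hM (P := Q) (e := e) ⟨hQp, heb⟩
    refine ⟨B, hB, fun R g _ hle => ?_⟩
    suffices key : ∀ b : BrauerPairIdx G,
        Relation.ReflTransGen (NormalSubpairRel p M) (⟨Q, e⟩ : BrauerPairIdx G) b →
          b = ⟨Q, e⟩ from congrArg Sigma.fst (key ⟨R, g⟩ hle)
    intro b hb
    induction hb with
    | refl => rfl
    | @tail b' b'' _ hstep ih =>
      subst ih
      obtain ⟨R₁, g₁⟩ := b''
      obtain ⟨-, hR₁, hQR, hRN, hfix, hbr⟩ := (isNormalSubpair_iff hM).1 hstep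
      dsimp only at hR₁ hQR hRN hfix hbr
      have hRT : R₁ ≤ T := fun r hr => ⟨hRN hr, hfix r hr⟩
      have hne : br R₁ (bIdem M T F) ≠ 0 := by
        rw [hFeq]
        intro h0
        rw [h0, zero_mul] at hbr
        exact bIdem_ne_zero hM hR₁.2 hbr.symm
      have hcard : Nat.card R₁ ≤ Nat.card Q :=
        ((sub_card_le_of_br_ne_zero hM hF hRT hR₁.1 hne hD).trans
          (Subgroup.card_le_of_le hDle)).trans_eq
            (Nat.card_congr (Subgroup.subgroupOfEquivOfLe hQT).toEquiv)
      obtain rfl : Q = R₁ := Subgroup.eq_of_le_of_card_ge hQR hcard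
      have hbre : br Q (cb M Q e) = cb M Q e := by
        ext x
        rw [coeff_br]
        by_cases hx : x ∈ Subgroup.centralizer (Q : Set G)
        · rw [if_pos hx]
        · rw [if_neg hx, (bIdem_central _ e).1 x hx]
      rw [hbre] at hbr
      by_contra hcontra
      refine bIdem_ne_zero hM hR₁.2 ?_
      show cb M Q g₁ = 0
      rw [← hbr]
      exact bIdem_mul_of_ne hM heb hR₁.2 fun h => hcontra (by rw [h])

end Cfsg.Agent.S4828
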