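import Cfsg.Statements.S4837
import Cfsg.Agent.Lib.TwoClassChar.Basic

set_option autoImplicit false
open Cfsg

namespace Cfsg.Agent.S4837

open scoped ComplexConjugate
open Cfsg

theorem irr_mul {A : Type*} [Group A] [Finite A] [IsMulCommutative A] (μ : IrrCharacter A) :
    ∃ l : A →* ℂ, (μ : A → ℂ) = l := by
  obtain ⟨n, ρ, hρ, e⟩ := μ.2
  have h1 := Representation.IsIrreducible.finrank_eq_one_of_isMulCommutative ρ
  have hsc : ∀ a : A, ρ a = ρ.character a • LinearMap.id := by
    intro a
    obtain ⟨c, hc⟩ : ∃ c : ℂ, ρ a = c • LinearMap.id := by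
      obtain ⟨v, hv, hspan⟩ := finrank_eq_one_iff'.1 h1
      obtain ⟨c, hc⟩ := hspan (ρ a v)
      refine ⟨c, LinearMap.ext fun w => ?_⟩
      obtain ⟨d, rfl⟩ := hspan w
      simp [← hc, smul_comm c d]
    have : ρ.character a = c := by
      simp [Representation.character, hc, LinearMap.trace_id, h1]
    rw [hc, this]
  refine ⟨{ toFun := ρ.character, map_one' := by simp [h1], map_mul' := fun a b => ?_ }, e.symm⟩
  show LinearMap.trace ℂ _ (ρ (a * b)) = _
  rw [map_mul, hsc a, smul_mul_assoc, map_smul, ← Module.End.one_eq_id, one_mul, smul_eq_mul]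
  rfl

open Classical in
theorem sum_hom {A : Type*} [Group A] [Fintype A] (l l' : A →* ℂ) :
    ∑ a : A, l a * conj (l' a) = if (l : A → ℂ) = l' then (Nat.card A : ℂ) else 0 := by
  have := TwoClassChar.row_orth (⟨l, Char.isIrrCharacter_of_hom l⟩ : IrrCharacter A)
    ⟨l', Char.isIrrCharacter_of_hom l'⟩
  simpa using this

theorem stabilizer_sylow {G : Type*} [Group G] [Finite G] {χ : IrrCharacter G}
    (h : TwoClassChar.TwoClass χ) (p : ℕ) [hp : Fact p.Prime] (hNp : IsPGroup p h.supp)
    [IsMulCommutative h.supp]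
    (μ : IrrCharacter h.supp) (hμ : (μ : h.supp → ℂ) ≠ fun _ => (1 : ℂ)) :
    ∃ P : Sylow p G, ∀ g : G, g ∈ (P : Subgroup G) ↔
      ∀ n n' : h.supp, (n' : G) = g * n * g⁻¹ → (μ : h.supp → ℂ) n' = (μ : h.supp → ℂ) n := by
  classical
  haveI := Fintype.ofFinite G
  haveI := Fintype.ofFinite h.supp
  obtain ⟨l, hl⟩ := irr_mul μ
  have hN := h.supp_normal
  -- the conjugation homomorphism
  let c : G → (h.supp →* h.supp) := fun g =>
    { toFun := fun n => ⟨g * n * g⁻¹, hN.conj_mem _ n.2 g⟩
      map_one' := by ext; simp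
      map_mul' := fun a b => by ext; simp }
  have cmul : ∀ g g' n, c g (c g' n) = c (g * g') n := fun g g' n => by
    apply Subtype.ext; simp [c, mul_assoc]
  let I : Subgroup G :=
    { carrier := {g | ∀ n, l (c g n) = l n}
      one_mem' := fun n => by congr 1; apply Subtype.ext; simp [c]
      mul_mem' := fun {a b} ha hb n => by rw [← cmul, ha, hb]
      inv_mem' := fun {a} ha n => by
        rw [← ha (c a⁻¹ n), cmul, mul_inv_cancel]
        congr 1; apply Subtype.ext; simp [c] }
  let F : h.supp → ℂ := fun n => ∑ g : G, l (c g n)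
  have hF : ∀ n : h.supp, n ≠ 1 → F n = F ⟨h.elt, h.elt_mem⟩ := by
    intro n hn
    obtain ⟨x, hx⟩ := isConj_iff.1 (h.conj_in_supp h.elt_mem n.2 h.elt_ne_one
      (fun e => hn (Subtype.ext e)))
    refine Fintype.sum_equiv (Equiv.mulRight x) _ _ (fun g => ?_)
    congr 1; apply Subtype.ext; simp [c, ← hx, mul_assoc]
  have hl1 : (l : h.supp → ℂ) ≠ ((1 : h.supp →* ℂ) : h.supp → ℂ) := fun e => hμ (hl.trans e)
  have hsum : ∑ n : h.supp, l n = 0 := by
    have := sum_hom l 1
    rw [if_neg hl1] at this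
    simpa using this
  have hsum' : ∑ n : h.supp, conj (l n) = 0 := by rw [← map_sum, hsum, map_zero]
  set K := F ⟨h.elt, h.elt_mem⟩ with hK
  have hF1 : F 1 = Fintype.card G := by simp [F]
  have hFK : ∀ n : h.supp, F n = K + (if n = 1 then (Fintype.card G : ℂ) - K else 0) := by
    intro n; split_ifs with e
    · rw [e, hF1]; ring
    · rw [hF n e, add_zero]
  have eA : (Fintype.card h.supp : ℂ) * K + ((Fintype.card G : ℂ) - K) = 0 := by
    have : ∑ n : h.supp, F n = 0 := by
      simp only [F]
      rw [Finset.sum_comm]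
      refine Finset.sum_eq_zero fun g _ => ?_
      rw [← hsum]
      refine Fintype.sum_bijective (c g) ?_ _ _ (fun n => rfl)
      rw [Finite.injective_iff_bijective.symm]
      exact fun a b e => Subtype.ext (by simpa [c] using congrArg Subtype.val e)
    rw [← this, Finset.sum_congr rfl (fun n _ => hFK n)]
    simp [Finset.sum_add_distrib]
  have eB : (Nat.card I : ℂ) * Fintype.card h.supp = (Fintype.card G : ℂ) - K := by
    have e1 : ∑ n : h.supp, conj (l n) * F n = (Fintype.card G : ℂ) - K := by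
      rw [Finset.sum_congr rfl (fun n _ => congrArg (conj (l n) * ·) (hFK n))]
      simp only [mul_add, Finset.sum_add_distrib, ← Finset.sum_mul, hsum', zero_mul, zero_add]
      rw [Finset.sum_eq_single (1 : h.supp) (fun b _ hb => by rw [if_neg hb, mul_zero])
        (fun hb => (hb (Finset.mem_univ _)).elim), if_pos rfl, map_one, map_one, one_mul]
    rw [← e1]
    simp only [F, Finset.mul_sum]
    rw [Finset.sum_comm]
    have e2 : ∀ g : G, ∑ n : h.supp, conj (l n) * l (c g n) =
        if g ∈ I then (Fintype.card h.supp : ℂ) else 0 := by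
      intro g
      have := sum_hom (l.comp (c g)) l
      simp only [MonoidHom.comp_apply, mul_comm (l (c g _)), Nat.card_eq_fintype_card] at this
      rw [this]
      refine if_congr ⟨fun e n => ?_, fun e => funext fun n => ?_⟩ rfl rfl
      · exact congrFun e n
      · exact e n
    simp only [e2, Finset.sum_ite, Finset.sum_const_zero, add_zero, Finset.sum_const, nsmul_eq_mul]
    congr 2
    rw [Nat.card_eq_fintype_card]
    exact Fintype.card_subtype _
  have eC : Nat.card I = Nat.card (Subgroup.centralizer ({h.elt} : Set G)) := by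
    have hm : (0 : ℕ) < Nat.card {x : G // IsConj h.elt x} := by
      haveI : Nonempty {x : G // IsConj h.elt x} := ⟨⟨h.elt, IsConj.refl _⟩⟩
      exact Nat.card_pos
    refine Nat.eq_of_mul_eq_mul_left hm ?_
    rw [TwoClassChar.card_isConj]
    have hq : (Fintype.card h.supp : ℂ) ≠ 0 := by simp
    have hcs : (Fintype.card h.supp : ℂ) = Nat.card {x : G // IsConj h.elt x} + 1 := by
      rw [← Nat.card_eq_fintype_card, h.card_supp]; push_cast; ring
    have : ((Nat.card {x : G // IsConj h.elt x} * Nat.card I : ℕ) : ℂ) = (Nat.card G : ℂ) := by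
      refine mul_left_cancel₀ hq ?_
      rw [Nat.card_eq_fintype_card (α := G)]
      push_cast
      linear_combination (Nat.card {x : G // IsConj h.elt x} : ℂ) * eB - eA +
        (K - (Fintype.card G : ℂ)) * hcs
    exact_mod_cast this
  obtain ⟨hC, P, hP⟩ := h.centralizer_sylow p hNp h.elt_mem h.elt_ne_one
  refine ⟨Sylow.ofCard I (by rw [eC, hP, Sylow.card_eq_multiplicity]), fun g => ?_⟩
  rw [Sylow.coe_ofCard, hl]
  refine ⟨fun hg n n' e => ?_, fun hg n => hg n _ rfl⟩
  rw [← hg n]
  congr 1
  exact Subtype.ext e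

/-- Let G be a finite group of order greater than 2 with an irreducible character χ nonzero on exactly two conjugacy classes, and let N be the set of elements where χ is nonzero, given as a nontrivial normal p-subgroup of G for the prime p. Then for every nonidentity x in N the centralizer C_G(x) is a Sylow p-subgroup of G, and for every irreducible character λ ≠ 1 of N the stabilizer of λ in G (its inertia group) is a Sylow p-subgroup of G. -/
theorem result {G : Type*} [Group G] [Finite G] (hG : 2 < Nat.card G) (χ : Cfsg.IrrCharacter G) (hχ : Nat.card {C : ConjClasses G // ∃ g ∈ C.carrier, (χ : G → ℂ) g ≠ 0} = 2) (p : ℕ) [Fact p.Prime] (N : Subgroup G) [N.Normal] (hN : ∀ g : G, g ∈ N ↔ (χ : G → ℂ) g ≠ 0) (hNp : IsPGroup p N) (hN1 : N ≠ ⊥) :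
    (∀ x ∈ N, x ≠ 1 → ∃ P : Sylow p G, Subgroup.centralizer ({x} : Set G) = P) ∧
      (∀ μ : Cfsg.IrrCharacter N, (μ : N → ℂ) ≠ (fun _ => (1 : ℂ)) → ∃ P : Sylow p G, ∀ g : G, g ∈ (P : Subgroup G) ↔ ∀ n n' : N, (n' : G) = g * n * g⁻¹ → (μ : N → ℂ) n' = (μ : N → ℂ) n) := by
  have h : TwoClassChar.TwoClass χ := ⟨hG, hχ⟩
  obtain rfl := h.eq_supp hN
  refine ⟨fun x hx hx1 => (h.centralizer_sylow p hNp hx hx1).2, fun μ hμ => ?_⟩
  obtain ⟨q, hq, hel⟩ := h.exists_prime
  haveI := hel.1
  exact stabilizer_sylow h p hNp μ hμ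

end Cfsg.Agent.S4837
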