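import Cfsg.Statements.S4838
import Cfsg.Agent.Lib.TwoClassChar.Basic

set_option autoImplicit false
open Cfsg

namespace Cfsg.Agent.S4838

open Cfsg

variable {G : Type*} [Group G] [Finite G] {χ : IrrCharacter G}

theorem card_centralizer_quot (h : TwoClassChar.TwoClass χ) {x : G} (hx : x ∉ h.supp) :
    Nat.card (Subgroup.centralizer ({x} : Set G)) =
      Nat.card (Subgroup.centralizer ({(x : G ⧸ h.supp)} : Set (G ⧸ h.supp))) := by
  classical
  have hfull : ∀ n : h.supp, ∃ g : G, g * x * g⁻¹ = x * n := by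
    intro n
    refine isConj_iff.1 ?_
    by_contra hne
    have hcol := TwoClassChar.col_orth_ne hne
    haveI := Fintype.ofFinite (IrrCharacter G)
    have hx0 : (χ : G → ℂ) x = 0 := by_contra fun h0 => hx (h.mem_supp_iff_ne.2 h0)
    rw [finsum_eq_sum_of_fintype, ← Finset.add_sum_erase _ _ (Finset.mem_univ χ), hx0, zero_mul,
      zero_add, Finset.sum_congr rfl (g := fun ψ : IrrCharacter G =>
        (ψ : G → ℂ) x * (starRingEnd ℂ) ((ψ : G → ℂ) x)) ?_] at hcol
    · exact TwoClassChar.others_ne_zero χ h.not_one x hcol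
    · intro ψ hψ
      rw [← TwoClassChar.char_conj ψ.2 (x * n) x⁻¹, show x⁻¹ * (x * n) * x⁻¹⁻¹ = n * x by group,
        TwoClassChar.ker_mul ψ.2 (n.2 ψ (Finset.mem_erase.1 hψ).1)]
  choose f hf using hfull
  let C := Subgroup.centralizer ({x} : Set G)
  let S := (Subgroup.centralizer ({(x : G ⧸ h.supp)} : Set (G ⧸ h.supp))).comap
    (QuotientGroup.mk' h.supp)
  have hS : Nat.card S = Nat.card h.supp *
      Nat.card (Subgroup.centralizer ({(x : G ⧸ h.supp)} : Set (G ⧸ h.supp))) := by
    have e : (QuotientGroup.mk' h.supp).ker ≤ S := fun g hg => by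
      simp [S, (MonoidHom.mem_ker).1 hg, one_mem]
    rw [QuotientGroup.ker_mk'] at e
    have h1 := Subgroup.relIndex_comap (Subgroup.centralizer ({(x : G ⧸ h.supp)} : Set (G ⧸ h.supp)))
      (QuotientGroup.mk' h.supp) ⊤
    rw [Subgroup.relIndex_top_right, ← MonoidHom.range_eq_map,
      QuotientGroup.range_mk', Subgroup.relIndex_top_right] at h1
    have h2 := Subgroup.card_mul_index S
    have h3 := Subgroup.card_mul_index (Subgroup.centralizer ({(x : G ⧸ h.supp)} : Set (G ⧸ h.supp)))
    have h4 : Nat.card G = Nat.card (G ⧸ h.supp) * Nat.card h.supp :=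
      Subgroup.card_eq_card_quotient_mul_card_subgroup _
    have hne : S.index ≠ 0 := Subgroup.index_ne_zero_of_finite
    refine Nat.eq_of_mul_eq_mul_right (Nat.pos_of_ne_zero hne) ?_
    rw [h2, h4, mul_assoc, ← h3]
    show _ = _ * (_ * (Subgroup.comap _ _).index)
    rw [h1]; ring
  have hmem : ∀ g : G, g ∈ S ↔ ((g * x * g⁻¹ : G) : G ⧸ h.supp) = (x : G ⧸ h.supp) := fun g => by
    simp [S, Subgroup.mem_centralizer_singleton_iff, mul_inv_eq_iff_eq_mul]
  let Φ : h.supp × C → S := fun a => ⟨f a.1 * a.2, (hmem _).2 (by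
    rw [QuotientGroup.eq_iff_div_mem]
    have hc : (a.2 : G) * x * (a.2 : G)⁻¹ = x := by
      rw [← (Subgroup.mem_centralizer_iff.1 a.2.2 x rfl)]; group
    have : f a.1 * (a.2 : G) * x * (f a.1 * (a.2 : G))⁻¹ / x = x * a.1 * x⁻¹ := by
      rw [div_eq_mul_inv, ← hf]; nth_rw 3 [← hc]; group
    rw [this]; exact h.supp_normal.conj_mem _ a.1.2 x)⟩
  have hbij : Function.Bijective Φ := by
    constructor
    · rintro ⟨n, a⟩ ⟨n', a'⟩ e
      have e' : f n * (a : G) = f n' * (a' : G) := congrArg Subtype.val e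
      have hc : ∀ a : C, (a : G) * x * (a : G)⁻¹ = x := fun a => by
        rw [← (Subgroup.mem_centralizer_iff.1 a.2 x rfl)]; group
      have : x * (n : G) = x * n' := by
        rw [← hf, ← hf]
        nth_rw 1 [← hc a]; nth_rw 2 [← hc a']
        calc f n * ((a : G) * x * (a : G)⁻¹) * (f n)⁻¹
            = (f n * a) * x * (f n * a)⁻¹ := by group
          _ = (f n' * a') * x * (f n' * a')⁻¹ := by rw [e']
          _ = _ := by group
      obtain rfl : n = n' := Subtype.ext (mul_left_cancel this)
      exact Prod.ext rfl (Subtype.ext (mul_left_cancel e'))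
    · rintro ⟨g, hg⟩
      rw [hmem, eq_comm, QuotientGroup.eq] at hg
      refine ⟨(⟨_, hg⟩, ⟨(f ⟨_, hg⟩)⁻¹ * g, ?_⟩), Subtype.ext (by simp [Φ])⟩
      rw [Subgroup.mem_centralizer_singleton_iff]
      have e := hf ⟨_, hg⟩
      simp only [mul_inv_cancel_left] at e
      calc (f ⟨_, hg⟩)⁻¹ * g * x = (f ⟨_, hg⟩)⁻¹ * (g * x * g⁻¹) * g := by group
        _ = _ := by nth_rw 2 [← e]; group
  have := Nat.card_congr (Equiv.ofBijective Φ hbij)
  rw [Nat.card_prod, hS] at this
  exact Nat.eq_of_mul_eq_mul_left Nat.card_pos this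

/-- Let G be a finite group of order greater than 2 with an irreducible character χ nonzero on exactly two conjugacy classes, N the normal p-subgroup of elements where χ is nonzero, and P a Sylow p-subgroup of G. Then (a) for every x outside N the centralizer of x in G has the same order as the centralizer of xN in G/N; (b) the centre of P lies in N, and equals N exactly when P is normal in G; (c) N, viewed inside P, is a term of the upper central series of P. -/
theorem result {G : Type*} [Group G] [Finite G] (hG : 2 < Nat.card G) (χ : Cfsg.IrrCharacter G) (hχ : Nat.card {C : ConjClasses G // ∃ g ∈ C.carrier, (χ : G → ℂ) g ≠ 0} = 2) (p : ℕ) [Fact p.Prime] (N : Subgroup G) [N.Normal] (hN : ∀ g : G, g ∈ N ↔ (χ : G → ℂ) g ≠ 0) (hNp : IsPGroup p N) (hN1 : N ≠ ⊥) (P : Sylow p G) :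
    (∀ x : G, x ∉ N → Nat.card (Subgroup.centralizer ({x} : Set G)) = Nat.card (Subgroup.centralizer ({(x : G ⧸ N)} : Set (G ⧸ N)))) ∧
      ((Subgroup.center ↥(P : Subgroup G)).map (P : Subgroup G).subtype ≤ N ∧
        ((Subgroup.center ↥(P : Subgroup G)).map (P : Subgroup G).subtype = N ↔ (P : Subgroup G).Normal)) ∧
      (∃ i : ℕ, Subgroup.upperCentralSeries ↥(P : Subgroup G) i = N.subgroupOf (P : Subgroup G)) := by
  have h : TwoClassChar.TwoClass χ := ⟨hG, hχ⟩
  obtain rfl := h.eq_supp hN
  have hp : p.Prime := Fact.out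
  have hNP : h.supp ≤ (P : Subgroup G) := by
    rw [← P.is_maximal' (IsPGroup.to_sup_of_normal_left hNp P.isPGroup') le_sup_right]
    exact le_sup_left
  obtain ⟨k, hk⟩ := IsPGroup.iff_card.1 P.isPGroup'
  obtain ⟨j, hj⟩ := IsPGroup.iff_card.1 hNp
  have hj0 : j ≠ 0 := by
    rintro rfl; exact hN1 (Subgroup.card_eq_one.1 (by simpa using hj))
  -- elements outside the support have small centralizers in the Sylow subgroup
  have small : ∀ z : G, z ∉ h.supp → ∀ D : Subgroup G, IsPGroup p D →
      D ≤ Subgroup.centralizer ({z} : Set G) → Nat.card D * Nat.card h.supp ≤ Nat.card P := by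
    intro z hz D hD hDC
    obtain ⟨a, ha⟩ := IsPGroup.iff_card.1 hD
    have h1 : Nat.card D * Nat.card h.supp ∣ Nat.card G := by
      rw [Subgroup.card_eq_card_quotient_mul_card_subgroup h.supp]
      refine mul_dvd_mul_right ?_ _
      refine (Subgroup.card_dvd_of_le hDC).trans ?_
      rw [card_centralizer_quot h hz]
      exact Subgroup.card_subgroup_dvd_card _
    rw [ha, hj, ← pow_add] at h1 ⊢
    rw [Sylow.card_eq_multiplicity]
    exact Nat.pow_le_pow_right hp.pos ((hp.pow_dvd_iff_le_factorization Nat.card_pos.ne').1 h1)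
  have hone : 1 < Nat.card h.supp := hj ▸ Nat.one_lt_pow hj0 hp.one_lt
  have hZ : (Subgroup.center ↥(P : Subgroup G)).map (P : Subgroup G).subtype ≤ h.supp := by
    rintro _ ⟨z, hz, rfl⟩
    by_contra hzN
    have := small _ hzN P P.isPGroup' (fun y hy => by
      rw [Subgroup.mem_centralizer_singleton_iff]
      exact congrArg Subtype.val (Subgroup.mem_center_iff.1 hz ⟨y, hy⟩))
    exact absurd (le_of_eq_of_le rfl this) (not_le.2 (lt_mul_of_one_lt_right Nat.card_pos hone))
  refine ⟨fun x hx => card_centralizer_quot h hx, ⟨hZ, ⟨fun e => ?_, fun hP => ?_⟩⟩, ?_⟩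
  · obtain ⟨hC, Q, hQ⟩ := h.centralizer_sylow p hNp h.elt_mem h.elt_ne_one
    have hle : (P : Subgroup G) ≤ Subgroup.centralizer (h.supp : Set G) := by
      intro y hy
      rw [Subgroup.mem_centralizer_iff]
      intro n hn
      rw [SetLike.mem_coe, ← e] at hn
      obtain ⟨z, hz, rfl⟩ := hn
      exact (congrArg Subtype.val (Subgroup.mem_center_iff.1 hz ⟨y, hy⟩)).symm
    have hle2 : Subgroup.centralizer (h.supp : Set G) ≤ Subgroup.centralizer ({h.elt} : Set G) :=
      Subgroup.centralizer_le (Set.singleton_subset_iff.2 h.elt_mem)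
    have hC' : IsPGroup p (Subgroup.centralizer (h.supp : Set G)) := hC.to_le hle2
    have := P.is_maximal' hC' hle
    rw [← this]
    exact Subgroup.normal_centralizer
  · refine le_antisymm hZ (h.le_of_normal ?_)
    haveI : Nontrivial P := (Subgroup.nontrivial_iff_ne_bot _).2 fun e =>
      hN1 (le_bot_iff.1 (e ▸ hNP))
    haveI := P.isPGroup'.center_nontrivial
    rw [Ne, Subgroup.map_eq_bot_iff_of_injective _ (Subgroup.subtype_injective _)]
    exact (Subgroup.nontrivial_iff_ne_bot _).1 inferInstance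
  · haveI : Group.IsNilpotent P := P.isPGroup'.isNilpotent
    set N' := h.supp.subgroupOf (P : Subgroup G) with hN'
    by_cases htop : N' = ⊤
    · obtain ⟨m, hm⟩ := Group.IsNilpotent.nilpotent' (G := P)
      exact ⟨m, hm.trans htop.symm⟩
    obtain ⟨i, hi, hi'⟩ : ∃ i, Subgroup.upperCentralSeries P i ≤ N' ∧
        ¬ Subgroup.upperCentralSeries P (i + 1) ≤ N' := by
      by_contra hne
      push Not at hne
      have : ∀ i, Subgroup.upperCentralSeries P i ≤ N' := fun i => by
        induction i with
        | zero => simp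
        | succ i ih => exact hne i ih
      obtain ⟨m, hm⟩ := Group.IsNilpotent.nilpotent' (G := P)
      exact htop (top_le_iff.1 (hm ▸ this m))
    refine ⟨i, hi.eq_of_not_lt fun hlt => ?_⟩
    obtain ⟨z, hz, hzN⟩ := SetLike.not_le_iff_exists.1 hi'
    set Z := Subgroup.upperCentralSeries P i
    let D := Subgroup.centralizer ({z} : Set P)
    have hD := small (z : G) hzN (D.map (P : Subgroup G).subtype)
      (P.isPGroup'.to_le (Subgroup.map_subtype_le _)) (by
        rintro _ ⟨d, hd, rfl⟩
        rw [Subgroup.mem_centralizer_singleton_iff]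
        exact congrArg Subtype.val ((Subgroup.mem_centralizer_iff.1 hd z rfl).symm))
    rw [Subgroup.card_map_of_injective (Subgroup.subtype_injective _)] at hD
    -- the class of z lies in one coset of Z
    have hcl : Nat.card {y : P // IsConj z y} ≤ Nat.card Z := by
      refine Nat.card_le_card_of_injective (fun y => ⟨z * y.1⁻¹, ?_⟩) ?_
      · obtain ⟨g, hg⟩ := isConj_iff.1 y.2
        have := Subgroup.mem_upperCentralSeries_succ_iff.1 hz g
        rw [commutatorElement_def] at this
        rw [← hg]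
        convert this using 1
        group
      · intro a b e
        exact Subtype.ext (inv_injective (mul_left_cancel (congrArg Subtype.val e)))
    have hlt' : Nat.card Z < Nat.card h.supp := by
      rw [← Nat.card_congr (Subgroup.subgroupOfEquivOfLe hNP).toEquiv, ← hN']
      exact Set.Finite.card_lt_card (Set.toFinite _) (SetLike.coe_ssubset_coe.2 hlt)
    have e2 := TwoClassChar.card_isConj z
    have : Nat.card P < Nat.card P :=
      calc Nat.card P = Nat.card {y : P // IsConj z y} * Nat.card D := e2.symm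
        _ ≤ Nat.card Z * Nat.card D := Nat.mul_le_mul_right _ hcl
        _ < Nat.card h.supp * Nat.card D :=
          Nat.mul_lt_mul_of_pos_right hlt' Nat.card_pos
        _ ≤ Nat.card P := by rw [mul_comm]; exact hD
    exact lt_irrefl _ this

end Cfsg.Agent.S4838
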