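import Cfsg.Statements.S4839
import Cfsg.Agent.Lib.TwoClassChar.Basic
import Cfsg.Agent.Lib.Cores.Basic
import Cfsg.Agent.Lib.Involution.BaerSuzuki
import Cfsg.Agent.Lib.Frobenius.Kernel

set_option autoImplicit false
set_option linter.style.haveILetI false
open Cfsg

namespace Cfsg.Agent.S4839

open TwoClassChar

variable {G : Type*} [Group G] [Finite G] {χ : Cfsg.IrrCharacter G}

/-- Every coset of the support outside it lies in one conjugacy class. -/
theorem isConj_mul (h : TwoClass χ) {x n : G} (hx : x ∉ h.supp) (hn : n ∈ h.supp) :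
    IsConj x (x * n) := by
  classical
  by_contra hne
  have hxn : x * n ∉ h.supp := fun e => hx (by simpa using mul_mem e (inv_mem hn))
  have hz1 : (χ : G → ℂ) x = 0 := by_contra fun e => hx (h.mem_supp_iff_ne.2 e)
  have hz2 : (χ : G → ℂ) (x * n) = 0 := by_contra fun e => hxn (h.mem_supp_iff_ne.2 e)
  haveI := Fintype.ofFinite (IrrCharacter G)
  have hsum := col_orth_ne hne
  rw [finsum_eq_sum_of_fintype, ← Finset.add_sum_erase _ _ (Finset.mem_univ χ), hz1, zero_mul,
    zero_add, Finset.sum_congr rfl (g := fun ψ : IrrCharacter G =>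
      (ψ : G → ℂ) x * starRingEnd ℂ ((ψ : G → ℂ) x))
      (fun ψ hψ => by
        have h1 : (ψ : G → ℂ) (x * n * x⁻¹) = (ψ : G → ℂ) 1 :=
          h.supp_normal.conj_mem n hn x ψ (Finset.mem_erase.1 hψ).1
        have h2 := ker_mul ψ.2 h1 x
        rw [inv_mul_cancel_right] at h2
        rw [h2])] at hsum
  exact others_ne_zero χ h.not_one x hsum

/-- An element centralising a nontrivial element of the support has `p`-power order. -/
theorem pow_of_commute (h : TwoClass χ) {p : ℕ} [Fact p.Prime] (hNp : IsPGroup p h.supp)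
    {g v : G} (hv : v ∈ h.supp) (hv1 : v ≠ 1) (hgv : g * v = v * g) :
    ∃ k, g ^ p ^ k = 1 := by
  obtain ⟨k, hk⟩ := (h.centralizer_sylow p hNp hv hv1).1
    ⟨g, Subgroup.mem_centralizer_singleton_iff.2 hgv⟩
  exact ⟨k, congrArg Subtype.val hk⟩

theorem supp_comm (h : TwoClass χ) {a b : G} (ha : a ∈ h.supp) (hb : b ∈ h.supp) :
    a * b = b * a := by
  obtain ⟨p, -, hab, -⟩ := h.exists_prime
  exact congrArg Subtype.val (hab.is_comm.comm (⟨a, ha⟩ : h.supp) ⟨b, hb⟩)

theorem supp_pow (h : TwoClass χ) {p : ℕ} [hp : Fact p.Prime] (hNp : IsPGroup p h.supp)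
    {a : G} (ha : a ∈ h.supp) : a ^ p = 1 := by
  obtain ⟨q, hq, -, hexp⟩ := h.exists_prime
  haveI := Fact.mk hq
  suffices p = q by subst this; exact hexp a ha
  obtain ⟨k, hk⟩ := hNp ⟨h.elt, h.elt_mem⟩
  have h1 : orderOf h.elt = q := orderOf_eq_prime (hexp _ h.elt_mem) h.elt_ne_one
  have h2 : orderOf h.elt ∣ p ^ k := orderOf_dvd_of_pow_eq_one (congrArg Subtype.val hk)
  rw [h1] at h2
  exact ((Nat.prime_dvd_prime_iff_eq hq hp.out).1 (hq.dvd_of_dvd_pow h2)).symm

/-- The case `p = 2`: the index of the support is odd. -/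
theorem not_two_dvd_index (h : TwoClass χ) (hNp : IsPGroup 2 h.supp)
    (hO : Cfsg.pCore 2 (G ⧸ h.supp) = ⊥) : ¬ 2 ∣ Nat.card (G ⧸ h.supp) := by
  haveI : Fact (Nat.Prime 2) := ⟨Nat.prime_two⟩
  intro hd
  obtain ⟨tb, htb⟩ := exists_prime_orderOf_dvd_card' 2 hd
  obtain ⟨sb, hsb1, hsbodd, hinv⟩ := Involution.exists_inverted_odd htb fun M hM hM2 htM => by
    have := Cores.le_pCore hM hM2 htM
    rw [hO, Subgroup.mem_bot] at this
    rw [this, orderOf_one] at htb
    omega
  obtain ⟨t, rfl⟩ := QuotientGroup.mk_surjective tb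
  have ht : t ∉ h.supp := fun e => by
    rw [(QuotientGroup.eq_one_iff t).2 e, orderOf_one] at htb; omega
  have ht2 : t * t ∈ h.supp := by
    rw [← QuotientGroup.eq_one_iff, QuotientGroup.mk_mul, ← pow_two, ← htb, pow_orderOf_eq_one]
  obtain ⟨k, hk⟩ := hsbodd
  obtain ⟨a, ha⟩ := QuotientGroup.mk_surjective (sb ^ (k + 1))
  let N := h.supp
  let C := N ⊓ Subgroup.centralizer ({t} : Set G)
  let C' := N ⊓ Subgroup.centralizer ({a * t * a⁻¹} : Set G)
  have hCC' : Nat.card C ≤ Nat.card C' := by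
    refine Nat.card_le_card_of_injective
      (fun v : C => (⟨a * v * a⁻¹, h.supp_normal.conj_mem _ v.2.1 a,
        Subgroup.mem_centralizer_singleton_iff.2 ?_⟩ : C')) ?_
    · have h1 := Subgroup.mem_centralizer_singleton_iff.1 v.2.2
      calc a * (v : G) * a⁻¹ * (a * t * a⁻¹) = a * ((v : G) * t) * a⁻¹ := by group
        _ = a * (t * (v : G)) * a⁻¹ := by rw [h1]
        _ = a * t * a⁻¹ * (a * (v : G) * a⁻¹) := by group
    · intro u v huv
      exact Subtype.ext (mul_left_cancel (mul_right_cancel (congrArg Subtype.val huv)))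
  have hdisj : Disjoint C C' := by
    rw [Subgroup.disjoint_def]
    intro v hv hv'
    by_contra hv1
    have h1 := Subgroup.mem_centralizer_singleton_iff.1 hv.2
    have h2 := Subgroup.mem_centralizer_singleton_iff.1 hv'.2
    have h3 : a * t * a⁻¹ * t⁻¹ * v = v * (a * t * a⁻¹ * t⁻¹) := by
      have e1 : t⁻¹ * v = v * t⁻¹ := by
        rw [eq_mul_inv_iff_mul_eq, mul_assoc, h1, inv_mul_cancel_left]
      rw [mul_assoc, e1, ← mul_assoc, ← h2, mul_assoc]
    obtain ⟨l, hl⟩ := pow_of_commute h hNp hv.1 hv1 h3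
    have hr : ((a * t * a⁻¹ * t⁻¹ : G) : G ⧸ h.supp) = sb := by
      have h4 : (t : G ⧸ h.supp) * (sb ^ (k + 1))⁻¹ * (t : G ⧸ h.supp)⁻¹ = sb ^ (k + 1) := by
        rw [← conj_inv, ← conj_pow, hinv, inv_pow, inv_inv]
      simp only [QuotientGroup.mk_mul, QuotientGroup.mk_inv, ha]
      rw [mul_assoc (sb ^ (k + 1)) _ _, mul_assoc (sb ^ (k + 1)) _ _, h4, ← pow_add,
        show k + 1 + (k + 1) = orderOf sb + 1 by omega, pow_succ, pow_orderOf_eq_one, one_mul]
    have h5 : sb ^ 2 ^ l = 1 := by rw [← hr, ← QuotientGroup.mk_pow, hl, QuotientGroup.mk_one]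
    refine hsb1 (orderOf_eq_one_iff.1 (Nat.eq_one_of_dvd_coprimes ?_
      (orderOf_dvd_of_pow_eq_one h5) (dvd_refl _)))
    exact Nat.Coprime.pow_left _ (Nat.coprime_two_left.2 ⟨k, hk⟩)
  have hle : Nat.card C * Nat.card C ≤ Nat.card h.supp := by
    refine le_trans (Nat.mul_le_mul_left _ hCC') ?_
    rw [← Nat.card_prod]
    refine Nat.card_le_card_of_injective
      (fun u : C × C' => (⟨(u.1 : G) * u.2, mul_mem u.1.2.1 u.2.2.1⟩ : h.supp)) ?_
    intro u v huv
    exact Subgroup.mul_injective_of_disjoint hdisj (congrArg Subtype.val huv)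
  -- the map `v ↦ v * v^t`
  let δ : h.supp →* h.supp :=
    { toFun := fun v => ⟨v * (t * v * t⁻¹), mul_mem v.2 (h.supp_normal.conj_mem _ v.2 t)⟩
      map_one' := by ext; simp
      map_mul' := fun u v => by
        apply Subtype.ext
        simp only [Subgroup.coe_mul]
        have := supp_comm h v.2 (h.supp_normal.conj_mem _ u.2 t)
        rw [show t * ((u : G) * v) * t⁻¹ = (t * u * t⁻¹) * (t * v * t⁻¹) by group, mul_assoc,
          ← mul_assoc (v : G), this]
        group }
  have himC : ∀ v : h.supp, (δ v : G) ∈ C := by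
    intro v
    refine ⟨(δ v).2, Subgroup.mem_centralizer_singleton_iff.2 ?_⟩
    show (v : G) * (t * v * t⁻¹) * t = t * ((v : G) * (t * v * t⁻¹))
    have hc := supp_comm h v.2 (h.supp_normal.conj_mem _ v.2 t)
    have hc2 := supp_comm h ht2 v.2
    have e1 : t * (t * (v : G) * t⁻¹) = (v : G) * t := by
      calc t * (t * (v : G) * t⁻¹) = t * t * v * t⁻¹ := by group
        _ = v * (t * t) * t⁻¹ := by rw [hc2]
        _ = v * t := by group
    rw [hc]
    calc t * ↑v * t⁻¹ * ↑v * t = t * ↑v * t⁻¹ * (t * (t * ↑v * t⁻¹)) := by rw [e1]; group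
      _ = t * (↑v * (t * ↑v * t⁻¹)) := by group
      _ = t * (t * ↑v * t⁻¹ * ↑v) := by rw [← hc]
  have hkerC : ∀ v : h.supp, δ v = 1 ↔ (v : G) ∈ C := by
    intro v
    have hv2 : (v : G)⁻¹ = v := by
      rw [inv_eq_iff_mul_eq_one, ← pow_two]; exact supp_pow h hNp v.2
    constructor
    · intro e
      have e' : (v : G) * (t * v * t⁻¹) = 1 := congrArg Subtype.val e
      refine ⟨v.2, Subgroup.mem_centralizer_singleton_iff.2 ?_⟩
      rw [mul_eq_one_iff_inv_eq, hv2] at e'
      exact (eq_mul_inv_iff_mul_eq.1 e')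
    · intro hv
      apply Subtype.ext
      show (v : G) * (t * v * t⁻¹) = 1
      rw [← Subgroup.mem_centralizer_singleton_iff.1 hv.2, mul_inv_cancel_right, ← pow_two]
      exact supp_pow h hNp v.2
  have hcard : Nat.card δ.range = Nat.card C := by
    refine le_antisymm (Nat.card_le_card_of_injective (fun u => (⟨((u : h.supp) : G), by
      obtain ⟨v, hv⟩ := u.2; rw [← hv]; exact himC v⟩ : C)) ?_) ?_
    · intro u v huv
      exact Subtype.ext (Subtype.ext (congrArg Subtype.val huv :))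
    · have h1 := Subgroup.card_mul_index δ.ker
      rw [Subgroup.index_ker] at h1
      have h2 : Nat.card δ.ker = Nat.card C := Nat.card_congr
        { toFun := fun u => ⟨((u : h.supp) : G), (hkerC u).1 u.2⟩
          invFun := fun u => ⟨⟨u, u.2.1⟩, (hkerC ⟨u, u.2.1⟩).2 u.2⟩
          left_inv := fun _ => rfl
          right_inv := fun _ => rfl }
      rw [h2] at h1
      rw [← h1] at hle
      exact Nat.le_of_mul_le_mul_left hle Nat.card_pos
  have hsurj : ∀ z : G, z ∈ C → ∃ v : h.supp, (δ v : G) = z := by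
    intro z hz
    have hinj : Function.Injective (fun u : δ.range => (⟨((u : h.supp) : G), by
      obtain ⟨v, hv⟩ := u.2; rw [← hv]; exact himC v⟩ : C)) :=
      fun u v huv => Subtype.ext (Subtype.ext (congrArg Subtype.val huv :))
    obtain ⟨⟨_, v, rfl⟩, hv⟩ :=
      ((Nat.bijective_iff_injective_and_card _).2 ⟨hinj, hcard⟩).2 ⟨z, hz⟩
    exact ⟨v, congrArg Subtype.val hv⟩
  obtain ⟨v, hv⟩ := hsurj (t * t) ⟨ht2, Subgroup.mem_centralizer_singleton_iff.2 (mul_assoc t t t)⟩
  replace hv : (v : G) * (t * v * t⁻¹) = t * t := hv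
  set u := (v : G) * t with hu
  have hu2 : u * u = 1 := by
    calc u * u = (v : G) * (t * v * t⁻¹) * (t * t) := by rw [hu]; group
      _ = t * t * (t * t) := by rw [hv]
      _ = 1 := by rw [← pow_two]; exact supp_pow h hNp ht2
  have huN : u ∉ h.supp := fun e => ht (by simpa [hu] using mul_mem (inv_mem v.2) e)
  obtain ⟨w, hw, hwC⟩ : ∃ w ∈ h.supp, w ∉ C := by
    by_contra! hall
    have h1 : Nat.card h.supp ≤ Nat.card C := Subgroup.card_le_of_le hall
    have h2 : 1 < Nat.card h.supp := Finite.one_lt_card_iff_nontrivial.2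
      ((Subgroup.nontrivial_iff_ne_bot _).2 h.supp_ne_bot)
    nlinarith
  obtain ⟨g, hg⟩ := isConj_iff.1 (isConj_mul h huN hw)
  have h1 : u * w * (u * w) = 1 := by
    rw [← hg, show g * u * g⁻¹ * (g * u * g⁻¹) = g * (u * u) * g⁻¹ by group, hu2]; group
  apply hwC
  refine ⟨hw, Subgroup.mem_centralizer_singleton_iff.2 ?_⟩
  have h2 : u * w = w * u := by
    have e1 : u⁻¹ = u := by rw [inv_eq_iff_mul_eq_one]; exact hu2
    have e2 : w⁻¹ = w := by rw [inv_eq_iff_mul_eq_one, ← pow_two]; exact supp_pow h hNp hw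
    have := eq_inv_of_mul_eq_one_left h1
    rwa [mul_inv_rev, e1, e2] at this
  rw [hu] at h2
  rw [mul_assoc, ← mul_assoc w, supp_comm h hw v.2, mul_assoc] at h2
  exact (mul_left_cancel h2).symm

/-- The case of odd `p`. -/
theorem not_dvd_index_odd (h : TwoClass χ) {p : ℕ} [hp : Fact p.Prime] (hp2 : p ≠ 2)
    (hNp : IsPGroup p h.supp) (hC : Subgroup.centralizer (h.supp : Set G) ≤ h.supp) :
    ¬ p ∣ Nat.card (G ⧸ h.supp) := by
  intro hd
  haveI : Fact (Nat.Prime 2) := ⟨Nat.prime_two⟩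
  have hodd : Odd p := hp.out.odd_of_ne_two hp2
  have h2G : 2 ∣ Nat.card G := by
    obtain ⟨k, hk⟩ := IsPGroup.iff_card.1 hNp
    have h1 : Odd (Nat.card h.supp) := hk ▸ hodd.pow
    rw [h.card_supp] at h1
    refine (even_iff_two_dvd.1 ?_).trans ⟨_, (card_isConj h.elt).symm⟩
    rcases Nat.even_or_odd (Nat.card {x : G // IsConj h.elt x}) with e | e
    · exact e
    · exact absurd h1 (Nat.not_odd_iff_even.2 (e.add_odd odd_one))
  obtain ⟨i, hi⟩ := exists_prime_orderOf_dvd_card' 2 h2G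
  have hi1 : i ≠ 1 := fun e => by rw [e, orderOf_one] at hi; omega
  have hii : i * i = 1 := by rw [← pow_two, ← hi, pow_orderOf_eq_one]
  have hi' : i⁻¹ = i := inv_eq_iff_mul_eq_one.2 hii
  have hinv : ∀ v ∈ h.supp, i * v * i = v⁻¹ := by
    intro v hv
    have hiv : i * v * i ∈ h.supp := by
      have := h.supp_normal.conj_mem v hv i; rwa [hi'] at this
    by_contra hne
    have hw1 : v * (i * v * i) ≠ 1 := fun e => hne (inv_eq_of_mul_eq_one_right e).symm
    have hw : i * (v * (i * v * i)) = (v * (i * v * i)) * i := by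
      calc i * (v * (i * v * i)) = (i * v * i) * v * i := by group
        _ = v * (i * v * i) * i := by rw [supp_comm h hiv hv]
    obtain ⟨k, hk⟩ := pow_of_commute h hNp (mul_mem hv hiv) hw1 hw
    have h3 := orderOf_dvd_of_pow_eq_one hk
    rw [hi] at h3
    exact hp2 ((Nat.prime_dvd_prime_iff_eq Nat.prime_two hp.out).1
      (Nat.prime_two.dvd_of_dvd_pow h3)).symm
  have hcent : ∀ g : G, g * i * g⁻¹ * i ∈ h.supp := by
    intro g
    refine hC (Subgroup.mem_centralizer_iff.2 fun v hv => ?_)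
    have hv' : g⁻¹ * v * g ∈ h.supp := by
      have := h.supp_normal.conj_mem v hv g⁻¹; rwa [inv_inv] at this
    have e2 := hinv _ hv
    have key : g * i * g⁻¹ * i * v = v * (g * i * g⁻¹ * i) := by
      have a1 : i * v = v⁻¹ * i := by rw [← e2, mul_assoc _ i i, hii, mul_one]
      have a2 : i * (g⁻¹ * v⁻¹ * g) = (g⁻¹ * v * g) * i := by
        have := hinv _ (inv_mem hv')
        rw [inv_inv] at this
        rw [← this, mul_assoc _ i i, hii, mul_one]
        group
      calc g * i * g⁻¹ * i * v = g * i * g⁻¹ * (i * v) := by group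
        _ = g * i * g⁻¹ * (v⁻¹ * i) := by rw [a1]
        _ = g * (i * (g⁻¹ * v⁻¹ * g)) * g⁻¹ * i := by group
        _ = g * ((g⁻¹ * v * g) * i) * g⁻¹ * i := by rw [a2]
        _ = v * (g * i * g⁻¹ * i) := by group
    exact key.symm
  -- every element is congruent to one commuting with `i`
  have hsplit : ∀ g : G, ∃ m ∈ h.supp, (m⁻¹ * g) * i = i * (m⁻¹ * g) := by
    intro g
    set n := g * i * g⁻¹ * i with hn
    obtain ⟨k, hk⟩ := hodd
    refine ⟨n ^ (k + 1), pow_mem (hcent g) _, ?_⟩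
    have hm : n ^ (k + 1) * n ^ (k + 1) = n := by
      rw [← pow_add, show k + 1 + (k + 1) = p + 1 by omega, pow_succ,
        supp_pow h hNp (hcent g), one_mul]
    have hgi : g * i = n * i * g := by
      rw [hn, mul_assoc _ i i, hii, mul_one]; group
    set m := n ^ (k + 1)
    have hmi : i * m⁻¹ = m * i := by
      have := hinv m⁻¹ (inv_mem (pow_mem (hcent g) _))
      rw [inv_inv] at this
      calc i * m⁻¹ = i * m⁻¹ * i * i := by rw [mul_assoc _ i i, hii, mul_one]
        _ = m * i := by rw [this]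
    calc m⁻¹ * g * i = m⁻¹ * (g * i) := mul_assoc _ _ _
      _ = m⁻¹ * (m * m) * i * g := by rw [hgi, hm]; group
      _ = m * i * g := by group
      _ = i * m⁻¹ * g := by rw [hmi]
      _ = i * (m⁻¹ * g) := mul_assoc _ _ _
  obtain ⟨xb, hxb⟩ := exists_prime_orderOf_dvd_card' p hd
  obtain ⟨x₀, rfl⟩ := QuotientGroup.mk_surjective xb
  obtain ⟨m₀, hm₀, hxi⟩ := hsplit x₀
  set x := m₀⁻¹ * x₀ with hxdef
  have hx₀N : x₀ ∉ h.supp := fun e => by
    rw [(QuotientGroup.eq_one_iff x₀).2 e, orderOf_one] at hxb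
    exact hp.out.one_lt.ne hxb
  have hxN : x ∉ h.supp := fun e => hx₀N (by simpa [hxdef] using mul_mem hm₀ e)
  have hxp : x ^ p ∈ h.supp := by
    rw [← QuotientGroup.eq_one_iff, QuotientGroup.mk_pow, hxdef, QuotientGroup.mk_mul,
      (QuotientGroup.eq_one_iff _).2 (inv_mem hm₀), one_mul, ← hxb, pow_orderOf_eq_one]
  -- a fixed vector of `x`
  obtain ⟨n0, hn0, hn01, hxn0⟩ : ∃ n0 ∈ h.supp, n0 ≠ 1 ∧ x * n0 = n0 * x := by
    let A := Subgroup.zpowers x
    have hA : IsPGroup p A := by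
      have hpp : x ^ p ^ 2 = 1 := by rw [pow_two, pow_mul, supp_pow h hNp hxp]
      intro a
      obtain ⟨j, hj⟩ := Subgroup.mem_zpowers_iff.1 a.2
      refine ⟨2, Subtype.ext ?_⟩
      rw [SubgroupClass.coe_pow, ← hj, ← zpow_natCast, ← zpow_mul, mul_comm, zpow_mul, zpow_natCast,
        hpp, one_zpow]
      rfl
    letI : MulAction A h.supp :=
      MulAction.compHom h.supp ((MulAut.conjNormal : G →* MulAut h.supp).comp A.subtype)
    have hmod := hA.card_modEq_card_fixedPoints h.supp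
    have hpos : 1 < Nat.card (MulAction.fixedPoints A h.supp) := by
      have h1 : (1 : h.supp) ∈ MulAction.fixedPoints A h.supp :=
        fun a => map_one (MulAut.conjNormal (a : G))
      haveI : Nonempty (MulAction.fixedPoints A h.supp) := ⟨⟨1, h1⟩⟩
      obtain ⟨k, hk⟩ := IsPGroup.iff_card.1 hNp
      have hk0 : k ≠ 0 := by
        rintro rfl; exact h.supp_ne_bot (Subgroup.card_eq_one.1 (by simpa using hk))
      have hpd : p ∣ Nat.card (MulAction.fixedPoints A h.supp) :=
        Nat.modEq_zero_iff_dvd.1 (hmod.symm.trans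
          (Nat.modEq_zero_iff_dvd.2 (hk ▸ dvd_pow_self p hk0)))
      exact lt_of_lt_of_le hp.out.one_lt (Nat.le_of_dvd Nat.card_pos hpd)
    haveI : Nontrivial (MulAction.fixedPoints A h.supp) := Finite.one_lt_card_iff_nontrivial.1 hpos
    obtain ⟨⟨u, hu⟩, hu1⟩ := exists_ne (⟨1, fun a => map_one (MulAut.conjNormal (a : G))⟩ :
      MulAction.fixedPoints A h.supp)
    refine ⟨u, u.2, fun e => hu1 (Subtype.ext (Subtype.ext e)), ?_⟩
    have := congrArg Subtype.val (hu ⟨x, Subgroup.mem_zpowers x⟩)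
    exact (mul_inv_eq_iff_eq_mul.1 this)
  have hsurj : ∀ n ∈ h.supp, ∃ w ∈ h.supp, x⁻¹ * w * x * w⁻¹ = n := by
    intro n hn
    obtain ⟨g, hg⟩ := isConj_iff.1 (isConj_mul h hxN hn)
    obtain ⟨m, hm, hmi⟩ := hsplit g
    set q := m⁻¹ * g
    have e1 : q * x * q⁻¹ = m⁻¹ * (x * n) * m := by rw [← hg]; simp only [q]; group
    set n' := x⁻¹ * (m⁻¹ * (x * n) * m) with hn'
    have hn'N : n' ∈ h.supp := by
      have : n' = (x⁻¹ * m⁻¹ * x⁻¹⁻¹) * (n * m) := by rw [hn']; group
      rw [this]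
      exact mul_mem (h.supp_normal.conj_mem _ (inv_mem hm) _) (mul_mem hn hm)
    have e2 : n' = x⁻¹ * (q * x * q⁻¹) := by rw [e1]
    have cq : Commute q i := hmi
    have cx : Commute x i := hxi
    have e3 : Commute n' i := e2 ▸ (cx.inv_left.mul_left ((cq.mul_left cx).mul_left cq.inv_left))
    have e4 : n' = 1 := by
      have h5 := hinv n' hn'N
      rw [← e3.eq, mul_assoc, hii, mul_one] at h5
      have h6 := supp_pow h hNp hn'N
      obtain ⟨k, hk⟩ := hodd
      rwa [hk, pow_succ, pow_mul, pow_two, eq_inv_iff_mul_eq_one.1 h5, one_pow, one_mul] at h6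
    refine ⟨m, hm, ?_⟩
    have e5 : m⁻¹ * (x * n) * m = x := (inv_mul_eq_one.1 (hn'.symm.trans e4)).symm
    calc x⁻¹ * m * x * m⁻¹ = x⁻¹ * m * (m⁻¹ * (x * n) * m) * m⁻¹ := by rw [e5]
      _ = n := by group
  let δ : h.supp → h.supp := fun w => ⟨x⁻¹ * w * x * (w : G)⁻¹, mul_mem
    (by have := h.supp_normal.conj_mem _ w.2 x⁻¹; rwa [inv_inv] at this) (inv_mem w.2)⟩
  have hδ : Function.Injective δ := Finite.injective_iff_surjective.2 fun n => by
    obtain ⟨w, hw, e⟩ := hsurj n n.2
    exact ⟨⟨w, hw⟩, Subtype.ext e⟩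
  refine hn01 (congrArg Subtype.val (hδ (a₁ := ⟨n0, hn0⟩) (a₂ := 1) (Subtype.ext ?_)))
  show x⁻¹ * n0 * x * n0⁻¹ = x⁻¹ * 1 * x * 1⁻¹
  rw [mul_assoc x⁻¹, ← hxn0]; group

/-- Let G be a finite group of order greater than 2 with an irreducible character χ nonzero on exactly two conjugacy classes, and let N be the normal p-subgroup of elements where χ is nonzero. Then N is the whole p-core O_p(G) if and only if G is a doubly transitive Frobenius group with kernel N: G has a Frobenius complement H whose Frobenius kernel is N and whose order is one less than that of N. -/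
theorem result {G : Type*} [Group G] [Finite G] (hG : 2 < Nat.card G) (χ : Cfsg.IrrCharacter G) (hχ : Nat.card {C : ConjClasses G // ∃ g ∈ C.carrier, (χ : G → ℂ) g ≠ 0} = 2) (p : ℕ) [Fact p.Prime] (N : Subgroup G) [N.Normal] (hN : ∀ g : G, g ∈ N ↔ (χ : G → ℂ) g ≠ 0) (hNp : IsPGroup p N) (hN1 : N ≠ ⊥) :
    N = Cfsg.pCore p G ↔ ∃ H : Subgroup G, Cfsg.IsFrobeniusComplement H ∧ Cfsg.frobeniusKernel H = (N : Set G) ∧ Nat.card H + 1 = Nat.card N := by
  have h : TwoClass χ := ⟨hG, hχ⟩
  obtain rfl := h.eq_supp hN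
  have hp : p.Prime := Fact.out
  obtain ⟨k, hk⟩ := IsPGroup.iff_card.1 hNp
  have hk0 : k ≠ 0 := by
    rintro rfl; exact hN1 (Subgroup.card_eq_one.1 (by simpa using hk))
  have hle : h.supp ≤ Cfsg.pCore p G := Cores.le_pCore inferInstance hNp
  constructor
  · intro hNO
    have hC : Subgroup.centralizer (h.supp : Set G) ≤ h.supp := by
      conv_rhs => rw [hNO]
      exact Cores.le_pCore inferInstance ((h.centralizer_isPGroup p hNp).to_le
        (Subgroup.centralizer_le (Set.singleton_subset_iff.2 h.elt_mem)))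
    have hndvd : ¬ p ∣ Nat.card (G ⧸ h.supp) := by
      by_cases hp2 : p = 2
      · subst hp2
        refine not_two_dvd_index h hNp ((Cores.pCore_eq_bot_iff).2 fun M hM hM2 => ?_)
        have hker : IsPGroup 2 (QuotientGroup.mk' h.supp).ker := by
          rw [QuotientGroup.ker_mk']; exact hNp
        have h1 : M.comap (QuotientGroup.mk' h.supp) ≤ h.supp := by
          conv_rhs => rw [hNO]
          exact Cores.le_pCore (hM.comap _) (hM2.comap_of_ker_isPGroup _ hker)
        refine (Subgroup.eq_bot_iff_forall _).2 fun x hx => ?_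
        obtain ⟨g, rfl⟩ := QuotientGroup.mk_surjective x
        exact (QuotientGroup.eq_one_iff g).2 (h1 hx)
      · exact not_dvd_index_odd h hp2 hNp hC
    have hcop : Nat.Coprime (Nat.card h.supp) h.supp.index := by
      rw [hk]; exact Nat.Coprime.pow_left _ (hp.coprime_iff_not_dvd.2 hndvd)
    obtain ⟨H, hc⟩ := Subgroup.exists_right_complement'_of_coprime (N := h.supp) hcop
    have hHc : h.supp.index = Nat.card H := hc.symm.index_eq_card
    have hfpf : Frobenius.FPF H h.supp := by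
      intro a ha ha1 v hv e
      by_contra hv1
      obtain ⟨l, hl⟩ := pow_of_commute h hNp hv hv1 e
      refine ha1 (orderOf_eq_one_iff.1 (Nat.eq_one_of_dvd_coprimes ?_ (orderOf_dvd_of_pow_eq_one hl)
        (Subgroup.orderOf_dvd_natCard H ha)))
      rw [← hHc]
      exact Nat.Coprime.pow_left _ (hp.coprime_iff_not_dvd.2 hndvd)
    have hCc : Subgroup.centralizer ({h.elt} : Set G) = h.supp := by
      refine le_antisymm (fun g hg => ?_) (fun g hg => ?_)
      · obtain ⟨l, hl⟩ := pow_of_commute h hNp h.elt_mem h.elt_ne_one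
          (Subgroup.mem_centralizer_singleton_iff.1 hg)
        rw [← QuotientGroup.eq_one_iff, ← orderOf_eq_one_iff]
        refine Nat.eq_one_of_dvd_coprimes ?_ (orderOf_dvd_of_pow_eq_one (n := p ^ l)
          (by rw [← QuotientGroup.mk_pow, hl, QuotientGroup.mk_one])) (orderOf_dvd_natCard _)
        exact Nat.Coprime.pow_left _ (hp.coprime_iff_not_dvd.2 hndvd)
      · exact Subgroup.mem_centralizer_singleton_iff.2 (supp_comm h hg h.elt_mem)
    have hHcard : Nat.card H + 1 = Nat.card h.supp := by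
      have h1 := card_isConj h.elt
      rw [hCc, ← h.supp.card_mul_index, hHc, mul_comm] at h1
      rw [h.card_supp, ← Nat.eq_of_mul_eq_mul_left Nat.card_pos h1]
    have hH1 : H ≠ ⊥ := by
      rintro rfl
      have h1 := h.supp.card_mul_index
      rw [hHc, Subgroup.card_bot] at h1
      rw [Subgroup.card_bot] at hHcard
      omega
    have hF := hfpf.isFrobeniusComplement hc hN1 hH1
    exact ⟨H, hF, (Frobenius.kernel_eq_of_normal_complement hF hc).symm, hHcard⟩
  · rintro ⟨H, hF, hker, hcard⟩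
    have he : Frobenius.frobKernel hF = h.supp :=
      SetLike.coe_injective ((Frobenius.coe_frobKernel hF).trans hker)
    have hmul := (Frobenius.frobKernel_isComplement hF).card_mul
    rw [he] at hmul
    have hnd : ¬ p ∣ Nat.card H := by
      intro hd
      have h1 : p ∣ Nat.card H + 1 := hcard.symm ▸ hk ▸ dvd_pow_self p hk0
      exact hp.one_lt.ne' (Nat.dvd_one.1 ((Nat.dvd_add_right hd).1 h1))
    refine Subgroup.eq_of_le_of_card_ge hle ?_
    obtain ⟨l, hl⟩ := IsPGroup.iff_card.1 (Cores.isPGroup_pCore p G)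
    refine Nat.le_of_dvd Nat.card_pos ((Nat.Coprime.dvd_mul_right
      (hl ▸ Nat.Coprime.pow_left _ (hp.coprime_iff_not_dvd.2 hnd) :
        Nat.Coprime (Nat.card (Cfsg.pCore p G)) (Nat.card H))).1 ?_)
    rw [hmul]
    exact Subgroup.card_subgroup_dvd_card _

end Cfsg.Agent.S4839
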