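import Cfsg.Statements.S4840
import Cfsg.Agent.Lib.TwoClassChar.Basic
import Cfsg.Agent.Lib.TwoClassChar.LinearAction

set_option autoImplicit false
open Cfsg

namespace Cfsg.Agent.S4840

/-- Let G be a finite solvable group of order greater than 2 with an irreducible character nonzero on exactly two conjugacy classes. Then there is exactly one prime p with O_p(G) ≠ 1, and the quotient G/O_p(G) has a normal p-complement and commutative Sylow p-subgroups. -/
theorem result {G : Type*} [Group G] [Finite G] [hs : Group.IsSolvable G] (hG : 2 < Nat.card G) (χ : Cfsg.IrrCharacter G) (hχ : Nat.card {C : ConjClasses G // ∃ g ∈ C.carrier, (χ : G → ℂ) g ≠ 0} = 2) :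
    ∃ p : ℕ, p.Prime ∧ (∀ q : ℕ, q.Prime → (Cfsg.pCore q G ≠ ⊥ ↔ q = p)) ∧
      Cfsg.HasNormalPComplement p (G ⧸ Cfsg.pCore p G) ∧ ∀ Q : Sylow p (G ⧸ Cfsg.pCore p G), IsMulCommutative (Q : Subgroup (G ⧸ Cfsg.pCore p G)) := by
  have h : TwoClassChar.TwoClass χ := ⟨hG, hχ⟩
  obtain ⟨p, hp, hab, hexp⟩ := h.exists_prime
  haveI := Fact.mk hp
  have hNp : IsPGroup p h.supp := fun x => ⟨1, Subtype.ext (by simpa using hexp x x.2)⟩
  have hNle : h.supp ≤ Cfsg.pCore p G := Cores.le_pCore h.supp_normal hNp
  refine ⟨p, hp, fun q hq => ⟨fun hne => ?_, fun e => ?_⟩, ?_⟩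
  · by_contra hqp
    haveI := Fact.mk hq
    have hle := h.le_of_normal hne
    obtain ⟨x, hx, hx1⟩ := (Subgroup.bot_or_exists_ne_one h.supp).resolve_left h.supp_ne_bot
    obtain ⟨k, hk⟩ := IsPGroup.iff_orderOf.1 (Cores.isPGroup_pCore q G) ⟨x, hle hx⟩
    rw [Subgroup.orderOf_mk] at hk
    have h1 : orderOf x = p := orderOf_eq_prime (hexp x hx) hx1
    rw [hk] at h1
    have h2 : p ∣ q := hp.dvd_of_dvd_pow (dvd_of_eq h1.symm)
    exact hqp ((Nat.prime_dvd_prime_iff_eq hp hq).1 h2).symm
  · subst e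
    exact fun e => h.supp_ne_bot (le_bot_iff.1 (e ▸ hNle))
  -- `O_p(G) = C_G(N)`
  have hT : Cfsg.pCore p G = Subgroup.centralizer (h.supp : Set G) := by
    refine le_antisymm (fun g hg => Subgroup.mem_centralizer_iff.2 fun x hx => ?_)
      (Cores.le_pCore inferInstance ((h.centralizer_isPGroup p hNp).to_le
        (Subgroup.centralizer_le (Set.singleton_subset_iff.2 h.elt_mem))))
    by_cases hx1 : x = 1
    · simp [hx1]
    obtain ⟨-, P, hP⟩ := h.centralizer_sylow p hNp hx hx1
    have hgc : g ∈ Subgroup.centralizer ({x} : Set G) := by rw [hP]; exact Cores.pCore_le_sylow P hg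
    exact Subgroup.mem_centralizer_iff.1 hgc x rfl
  set T := Cfsg.pCore p G
  haveI : IsMulCommutative h.supp := hab
  letI : CommGroup h.supp :=
    { (inferInstance : Group h.supp) with mul_comm := fun a b => hab.is_comm.comm a b }
  have hker : T ≤ (MulAut.conjNormal : G →* MulAut h.supp).ker := by
    intro g hg
    refine MulEquiv.ext fun x => Subtype.ext ?_
    rw [hT] at hg
    have hgx := Subgroup.mem_centralizer_iff.1 hg (x : G) x.2
    rw [MulAut.conjNormal_apply, MulAut.one_apply, ← hgx, mul_inv_cancel_right]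
  let φ : G ⧸ T →* MulAut h.supp := QuotientGroup.lift T MulAut.conjNormal hker
  have hinj : Function.Injective φ := by
    rw [injective_iff_map_eq_one]
    intro a
    induction a using QuotientGroup.induction_on with
    | _ g =>
      intro hg
      refine (QuotientGroup.eq_one_iff _).2 ?_
      show g ∈ T
      rw [hT]
      refine Subgroup.mem_centralizer_iff.2 fun x hx => ?_
      have h2 := MulAut.conjNormal_apply g (⟨x, hx⟩ : h.supp)
      rw [show (MulAut.conjNormal g : MulAut h.supp) = 1 from hg, MulAut.one_apply] at h2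
      exact eq_mul_inv_iff_mul_eq.1 h2
  have hsyl : ∀ v : h.supp, v ≠ 1 →
      ∃ P : Sylow p (G ⧸ T), (P : Subgroup (G ⧸ T)) = TwoClassChar.stab φ v := by
    intro v hv
    obtain ⟨-, P, hP⟩ := h.centralizer_sylow p hNp v.2 (fun e => hv (Subtype.ext e))
    refine ⟨P.mapSurjective (QuotientGroup.mk'_surjective T), ?_⟩
    rw [Sylow.coe_mapSurjective, ← hP]
    ext a
    induction a using QuotientGroup.induction_on with
    | _ g =>
      have key : g ∈ Subgroup.centralizer ({(v : G)} : Set G) ↔ φ (g : G ⧸ T) v = v := by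
        rw [Subgroup.mem_centralizer_singleton_iff, Subtype.ext_iff]
        show g * (v : G) = v * g ↔ ((MulAut.conjNormal g : MulAut h.supp) v : G) = v
        rw [MulAut.conjNormal_apply, mul_inv_eq_iff_eq_mul]
      rw [TwoClassChar.mem_stab]
      refine ⟨?_, fun hg => ⟨g, key.2 hg, rfl⟩⟩
      rintro ⟨g', hg', e⟩
      have hT' : g'⁻¹ * g ∈ T := QuotientGroup.eq.1 e
      have hgc : g ∈ Subgroup.centralizer ({(v : G)} : Set G) := by
        have h3 := mul_mem hg' (Subgroup.centralizer_le
          (Set.singleton_subset_iff.2 v.2) (hT ▸ hT'))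
        rwa [mul_inv_cancel_left] at h3
      exact key.1 hgc
  haveI : Nontrivial h.supp := (Subgroup.nontrivial_iff_ne_bot _).2 h.supp_ne_bot
  obtain ⟨K, hKn, hK, hcomm⟩ := TwoClassChar.exists_commutator_core φ hinj hNp hsyl
  exact TwoClassChar.complement_of_commutator_core hKn hK hcomm

end Cfsg.Agent.S4840
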