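import Cfsg.Statements.S4843
import Cfsg.Agent.Lib.Char.Eigen
import Cfsg.Agent.Lib.Char.Inner
import Cfsg.Agent.Lib.CharApp.Schur
import Cfsg.Agent.Lib.GaloisPow.Twist
import Cfsg.Agent.Lib.Cores.Fitting
import Cfsg.Agent.EqLemmas

set_option autoImplicit false
open Cfsg

namespace Cfsg.Agent.S4843

open scoped ComplexConjugate TensorProduct

/-- If `χ χ^σ` is irreducible, an element of a normal subgroup `N` is central provided `χ` sees
only elements of `g N` commuting with `g`. -/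
theorem mem_center_of {G : Type*} [Group G] [Finite G] (χ : Cfsg.IrrCharacter G)
    (hfaith : ∀ g : G, (χ : G → ℂ) g = (χ : G → ℂ) 1 → g = 1) (k : ℕ)
    (hk : Nat.Coprime k (Nat.card G))
    (hirr : Cfsg.IsIrrCharacter G (fun g => (χ : G → ℂ) g * (χ : G → ℂ) (g ^ k)))
    (N : Subgroup G) [N.Normal] {g : G} (hg : g ∈ N)
    (hzero : ∀ b ∈ N, (χ : G → ℂ) (g * b) = 0 ∨ g * b = b * g) :
    g ∈ Subgroup.center G := by
  classical
  haveI := Fintype.ofFinite G
  obtain ⟨n, ρ, hρ, hρc⟩ := χ.2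
  obtain ⟨m, σ, -, hσc⟩ := GaloisPow.isIrrCharacter_comp_pow hk χ.2
  obtain ⟨l, π, hπ, hπc⟩ := hirr
  have hd : (χ : G → ℂ) 1 = (n : ℂ) := by
    rw [← hρc, Representation.char_one, Module.finrank_fin_fun]
  let τ := Representation.tprod ρ σ
  have hτc : τ.character = π.character := by
    rw [hπc, Representation.char_tensor, hρc, hσc]; rfl
  obtain ⟨e⟩ := Char.equiv_of_character_eq π τ hτc.symm
  haveI : τ.IsIrreducible := Char.isIrreducible_congr e hπ
  obtain ⟨c, hc⟩ : ∃ c : ℕ, Nat.card G ∣ c * k + 1 := by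
    haveI : NeZero (Nat.card G) := ⟨Nat.card_pos.ne'⟩
    refine ⟨(-(k : ZMod (Nat.card G))⁻¹).val, (ZMod.natCast_eq_zero_iff _ _).1 ?_⟩
    push_cast
    rw [ZMod.natCast_zmod_val, neg_mul, mul_comm, ZMod.coe_mul_inv_eq_one k hk, neg_add_cancel]
  have hinv : ∀ x : G, (x ^ c) ^ k = x⁻¹ := fun x => by
    apply eq_inv_of_mul_eq_one_left
    obtain ⟨d, hd⟩ := hc
    rw [← pow_mul, ← pow_succ, hd, pow_mul, pow_card_eq_one', one_pow]
  have hchi : ∀ x : G, (χ : G → ℂ) x * (χ : G → ℂ) ((x ^ c) ^ k) =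
      ((Complex.normSq ((χ : G → ℂ) x) : ℝ) : ℂ) := fun x => by
    rw [hinv, Char.IsCharacter.apply_inv ⟨n, ρ, hρc⟩, Complex.mul_conj]
  let S : Module.End ℂ ((Fin n → ℂ) ⊗[ℂ] (Fin m → ℂ)) :=
    ∑ b : N, TensorProduct.map (ρ (b : G)) (σ ((b : G) ^ c))
  obtain ⟨s, hs⟩ := CharApp.exists_scalar_of_commute τ S (fun x => by
    rw [Finset.sum_mul, Finset.mul_sum]
    let e : N ≃ N := (MulAut.conjNormal x).toEquiv
    rw [← Equiv.sum_comp e]
    refine Finset.sum_congr rfl fun b _ => ?_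
    have he : ((e b : N) : G) = x * b * x⁻¹ := MulAut.conjNormal_apply x b
    rw [he, conj_pow, Representation.tprod_apply, ← TensorProduct.map_mul, ← TensorProduct.map_mul,
      ← map_mul, ← map_mul, ← map_mul, ← map_mul, inv_mul_cancel_right, inv_mul_cancel_right])
  have htr : ∀ x y : G, LinearMap.trace ℂ _ (TensorProduct.map (ρ x) (σ y) * S) =
      s * ((χ : G → ℂ) x * (χ : G → ℂ) (y ^ k)) := fun x y => by
    rw [hs, mul_smul_comm, mul_one, map_smul, LinearMap.trace_tensorProduct']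
    show s * (ρ.character x * σ.character y) = _
    rw [hρc, hσc]
  have htr' : ∀ x y : G, LinearMap.trace ℂ _ (TensorProduct.map (ρ x) (σ y) * S) =
      ∑ b : N, (χ : G → ℂ) (x * b) * (χ : G → ℂ) ((y * (b : G) ^ c) ^ k) := fun x y => by
    rw [Finset.mul_sum, map_sum]
    refine Finset.sum_congr rfl fun b _ => ?_
    rw [← TensorProduct.map_mul, ← map_mul, ← map_mul, LinearMap.trace_tensorProduct']
    show ρ.character _ * σ.character _ = _
    rw [hρc, hσc]
  let T : ℝ := ∑ b : N, Complex.normSq ((χ : G → ℂ) b)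
  have h1 : s * ((n : ℂ) * (n : ℂ)) = (T : ℂ) := by
    have := (htr 1 1).symm.trans (htr' 1 1)
    rw [one_pow, hd] at this
    rw [this]
    simp only [T, Complex.ofReal_sum, one_mul, hchi]
  have h2 : s * ((Complex.normSq ((χ : G → ℂ) g) : ℝ) : ℂ) = (T : ℂ) := by
    have := (htr g (g ^ c)).symm.trans (htr' g (g ^ c))
    rw [hchi] at this
    rw [this, Complex.ofReal_sum, ← Equiv.sum_comp (Equiv.mulLeft (⟨g, hg⟩ : N))
      (fun b : N => ((Complex.normSq ((χ : G → ℂ) b) : ℝ) : ℂ))]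
    refine Finset.sum_congr rfl fun b _ => ?_
    show _ = ((Complex.normSq ((χ : G → ℂ) (g * b)) : ℝ) : ℂ)
    rcases hzero b b.2 with h | h
    · rw [h, zero_mul, map_zero, Complex.ofReal_zero]
    · rw [← Commute.mul_pow h, hchi]
  have hT : 0 < T := by
    refine Finset.sum_pos' (fun b _ => Complex.normSq_nonneg _) ⟨1, Finset.mem_univ _, ?_⟩
    rw [Complex.normSq_pos, OneMemClass.coe_one]
    exact Char.IsIrrCharacter.apply_one_ne_zero χ.2
  have hnorm : Complex.normSq ((χ : G → ℂ) g) = (n : ℝ) * n := by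
    have hs0 : s ≠ 0 := fun e => hT.ne' (by
      rw [e, zero_mul] at h1; exact_mod_cast h1.symm)
    exact_mod_cast mul_left_cancel₀ hs0 (h2.trans h1.symm)
  have hn : ‖ρ.character g‖ = (Module.finrank ℂ (Fin n → ℂ) : ℝ) := by
    rw [Module.finrank_fin_fun, hρc, Complex.norm_def, hnorm, Real.sqrt_mul_self n.cast_nonneg]
  obtain ⟨ω, hω⟩ := (Char.norm_character_eq_iff ρ g).1 hn
  rw [Subgroup.mem_center_iff]
  intro h
  have hcomm : ρ (h * g) = ρ (g * h) := by
    rw [map_mul, map_mul, hω]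
    show ρ h * (ω • (1 : Module.End ℂ _)) = (ω • 1) * ρ h
    rw [mul_smul_comm, smul_mul_assoc, mul_one, one_mul]
  have h3 : ρ (h * g * (g * h)⁻¹) = 1 := by
    rw [map_mul, hcomm, ← map_mul, mul_inv_cancel, map_one]
  have h4 := hfaith (h * g * (g * h)⁻¹) (by
    rw [← hρc]
    show LinearMap.trace ℂ _ (ρ _) = LinearMap.trace ℂ _ (ρ 1)
    rw [h3, map_one ρ])
  exact mul_inv_eq_one.1 h4

/-- Let G be a finite group with a faithful irreducible character χ (taking the value χ(1) only at the identity) and let k be prime to the order of G, so that g ↦ χ(g^k) is a Galois conjugate of χ. If the pointwise product g ↦ χ(g)·χ(g^k) is again an irreducible character, then the Fitting subgroup of G equals its centre. -/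
theorem result {G : Type*} [Group G] [Finite G] (χ : Cfsg.IrrCharacter G) (hfaith : ∀ g : G, (χ : G → ℂ) g = (χ : G → ℂ) 1 → g = 1) (k : ℕ) (hk : Nat.Coprime k (Nat.card G)) (hirr : Cfsg.IsIrrCharacter G (fun g => (χ : G → ℂ) g * (χ : G → ℂ) (g ^ k))) : Cfsg.fittingSubgroup G = Subgroup.center G := by
  classical
  refine le_antisymm ?_ Cores.center_le_fittingSubgroup
  have habel : ∀ A : Subgroup G, A.Normal → IsMulCommutative A → A ≤ Subgroup.center G := by
    intro A hA hAc x hx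
    haveI := hA
    exact mem_center_of χ hfaith k hk hirr A hx fun b hb => Or.inr
      (congrArg Subtype.val (mul_comm' (⟨x, hx⟩ : A) ⟨b, hb⟩))
  set F := Cfsg.fittingSubgroup G with hF
  by_contra hne
  let f := QuotientGroup.mk' (Subgroup.center G)
  haveI : Group.IsNilpotent (F.map f) := Cores.isNilpotent_map f inferInstance
  haveI : Nontrivial (F.map f) := by
    rw [Subgroup.nontrivial_iff_ne_bot, Ne, Subgroup.map_eq_bot_iff, QuotientGroup.ker_mk']
    exact hne
  obtain ⟨⟨⟨q, hqF⟩, hq⟩, hq1⟩ :=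
    (Subgroup.ne_bot_iff_exists_ne_one).1 (Group.IsNilpotent.center_ne_bot (G := F.map f))
  obtain ⟨x, hxF, rfl⟩ := hqF
  have hxZ : x ∉ Subgroup.center G := fun h => hq1 (Subtype.ext (Subtype.ext
    ((QuotientGroup.eq_one_iff x).2 h)))
  let N : Subgroup G := F ⊓ (Subgroup.centralizer ((F.map f : Subgroup _) : Set _)).comap f
  haveI : (F.map f).Normal := Subgroup.Normal.map inferInstance f (QuotientGroup.mk'_surjective _)
  haveI : N.Normal := inferInstance
  have hNcomm : ∀ y ∈ N, ∀ h ∈ F, y * h * y⁻¹ * h⁻¹ ∈ Subgroup.center G := by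
    intro y hy h hh
    have := Subgroup.mem_centralizer_iff.1 hy.2 (f h) ⟨h, hh, rfl⟩
    rw [← QuotientGroup.eq_one_iff]
    show f _ = 1
    rw [map_mul, map_mul, map_mul, ← this, map_inv, map_inv, mul_inv_cancel_right, mul_inv_cancel]
  have hxN : x ∈ N := by
    refine ⟨hxF, Subgroup.mem_centralizer_iff.2 ?_⟩
    intro y hy
    exact congrArg Subtype.val (Subgroup.mem_center_iff.1 hq ⟨y, hy⟩)
  have hZF : ∀ y ∈ N, (∀ h ∈ F, y * h = h * y) → y ∈ Subgroup.center G := fun y hy hall => by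
    refine habel (F ⊓ Subgroup.centralizer (F : Set G)) inferInstance
      ⟨⟨fun a b => Subtype.ext ((Subgroup.mem_centralizer_iff.1 b.2.2 a a.2.1))⟩⟩
      ⟨hy.1, Subgroup.mem_centralizer_iff.2 fun h hh => (hall h hh).symm⟩
  refine hxZ (mem_center_of χ hfaith k hk hirr N hxN fun b hb => ?_)
  by_cases hxb : x * b ∈ Subgroup.center G
  · right
    have := Subgroup.mem_center_iff.1 hxb x
    exact mul_left_cancel (a := x) (by rw [this, mul_assoc])
  left
  obtain ⟨h, hh, hne'⟩ : ∃ h ∈ F, x * b * h ≠ h * (x * b) := by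
    by_contra hall
    push Not at hall
    exact hxb (hZF _ (mul_mem hxN hb) hall)
  set y := x * b
  have hz := hNcomm y (mul_mem hxN hb) h hh
  set z := y * h * y⁻¹ * h⁻¹ with hzdef
  obtain ⟨n, ρ, hρ, hρc⟩ := χ.2
  haveI := hρ
  obtain ⟨ω, hω⟩ := CharApp.exists_scalar_of_mem_center ρ hz
  have hω1 : ω ≠ 1 := fun e => hne' (by
    have h1 : z = 1 := hfaith z (by
      rw [← hρc]
      show LinearMap.trace ℂ _ (ρ _) = LinearMap.trace ℂ _ (ρ 1)
      rw [hω, e, one_smul, map_one ρ])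
    rw [hzdef, mul_inv_eq_one, mul_inv_eq_iff_eq_mul] at h1
    exact h1)
  have h6 : (χ : G → ℂ) (h * y * h⁻¹) = (χ : G → ℂ) y :=
    Char.IsCharacter.isClassFunction ⟨n, ρ, hρc⟩ y h
  have h7 : z * (h * y * h⁻¹) = y := by
    rw [hzdef]; group
  have h8 : (χ : G → ℂ) y = ω * (χ : G → ℂ) y := by
    conv_lhs => rw [← h7]
    conv_rhs => rw [← h6]
    rw [← hρc]
    show LinearMap.trace ℂ _ (ρ _) = ω * LinearMap.trace ℂ _ (ρ _)
    rw [map_mul, hω, smul_mul_assoc, one_mul, map_smul, smul_eq_mul]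
  by_contra h0
  exact hω1 (mul_right_cancel₀ h0 (h8.symm.trans (one_mul _).symm))


end Cfsg.Agent.S4843
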