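import Cfsg.Statements.S4850
import Cfsg.Agent.Lib.VanishSection.Basic

set_option autoImplicit false
open Cfsg

namespace Cfsg.Agent.S4850

/-- Let p be a prime and G a finite solvable group whose vanishing elements (elements at which some irreducible character is zero) of order divisible by p all have the same order, with at least one such element. Let P be a Sylow p-subgroup of G. Then the derived subgroup of P is subnormal in G and the image of P in G/O_p(G) is cyclic. -/
theorem result {G : Type*} [Group G] [Finite G] [hs : Group.IsSolvable G] (p : ℕ) [Fact p.Prime] (b : ℕ) (hvo : {n : ℕ | p ∣ n ∧ ∃ (g : G) (χ : Cfsg.IrrCharacter G), orderOf g = n ∧ (χ : G → ℂ) g = 0} = {b}) (P : Sylow p G) :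
    ((commutator ↥(P : Subgroup G)).map (P : Subgroup G).subtype).IsSubnormal ∧ IsCyclic ↥((P : Subgroup G).map (QuotientGroup.mk' (Cfsg.pCore p G))) := by
  classical
  set N := pCore p G with hN
  haveI : N.Normal := Subgroup.sSup_normal _ fun _ h => h.1
  have hb : ∀ g : G, p ∣ orderOf (g : G ⧸ N) →
      (∃ χ : IrrCharacter (G ⧸ N), (χ : G ⧸ N → ℂ) g = 0) → orderOf g = b := by
    intro g hg ⟨χ, hχ⟩
    rw [← Set.mem_singleton_iff, ← hvo]
    exact ⟨hg.trans (orderOf_map_dvd (QuotientGroup.mk' N) g), g, Codegree.inflate N χ, rfl,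
      by rw [Codegree.inflate_apply, hχ]⟩
  have hf : (Nat.card (G ⧸ N)).factorization p ≤ 1 := by
    refine VanishSection.factorization_le_one inferInstance (Cores.pCore_quotient_self p G) ?_
    intro x j hx hy hvx hvy
    obtain ⟨g, rfl⟩ := QuotientGroup.mk'_surjective N x
    have h1 : orderOf (g ^ j) = orderOf g := (hb (g ^ j) hy hvy).trans (hb g hx hvx).symm
    refine Nat.Coprime.orderOf_pow (Nat.Coprime.coprime_dvd_left
      (orderOf_map_dvd (QuotientGroup.mk' N) g) ?_)
    by_contra hne
    rw [orderOf_pow] at h1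
    refine (Nat.div_lt_self (orderOf_pos g) ?_).ne h1
    rcases Nat.lt_trichotomy 1 (Nat.gcd (orderOf g) j) with h | h | h
    · exact h
    · exact absurd h.symm hne
    · exact absurd (Nat.gcd_eq_zero_iff.1 (Nat.lt_one_iff.1 h)).1 (orderOf_pos g).ne'
  set R := (P : Subgroup G).map (QuotientGroup.mk' N) with hR
  have hRle : Nat.card R ∣ p := by
    obtain ⟨n, hn⟩ := IsPGroup.iff_card.1 (P.2.map (QuotientGroup.mk' N))
    have h1 : n ≤ 1 := le_trans (((Fact.out : p.Prime).pow_dvd_iff_le_factorization
      Nat.card_pos.ne').1 (hn ▸ Subgroup.card_subgroup_dvd_card R)) hf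
    rw [hn]
    exact (pow_dvd_pow p h1).trans (pow_one p).dvd
  haveI hcyc : IsCyclic R := by
    rcases (Nat.dvd_prime (Fact.out : p.Prime)).1 hRle with h | h
    · haveI := (Nat.card_eq_one_iff_unique.1 h).1
      exact isCyclic_of_subsingleton
    · exact isCyclic_of_prime_card h
  refine ⟨?_, hcyc⟩
  have hle : (commutator ↥(P : Subgroup G)).map (P : Subgroup G).subtype ≤ N := by
    rw [Subgroup.map_subtype_commutator, Subgroup.commutator_le]
    intro x hx y hy
    rw [← QuotientGroup.eq_one_iff, ← QuotientGroup.mk'_apply, map_commutatorElement,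
      commutatorElement_eq_one_iff_mul_comm]
    obtain ⟨r, hr⟩ := hcyc.exists_generator
    obtain ⟨i, hi⟩ := hr ⟨_, Subgroup.mem_map_of_mem _ hx⟩
    obtain ⟨k, hk⟩ := hr ⟨_, Subgroup.mem_map_of_mem _ hy⟩
    have := congrArg Subtype.val ((Commute.refl r).zpow_zpow i k).eq
    simp only at hi hk
    rw [hi, hk] at this
    exact this
  exact Cores.isSubnormal_of_le_fittingSubgroup (hle.trans (Cores.pCore_le_fittingSubgroup p))

end Cfsg.Agent.S4850
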