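import Cfsg.Statements.S4856
import Cfsg.Agent.EqLemmas
import Cfsg.Agent.Lib.Char.Orth
import Cfsg.Agent.Lib.CharApp.Schur

set_option autoImplicit false
open Cfsg

namespace Cfsg.Agent.S4856

/-- For an element z of a finite group G, the number of pairs (x, y) of elements with x y x⁻¹ y⁻¹ = z equals the order of G times the sum over the irreducible characters χ of χ(z)/χ(1). -/
theorem result {G : Type*} [Group G] [Finite G] (z : G) : (Nat.card {xy : G × G // xy.1 * xy.2 * xy.1⁻¹ * xy.2⁻¹ = z} : ℂ) = (Nat.card G : ℂ) * ∑ᶠ χ : Cfsg.IrrCharacter G, (χ : G → ℂ) z / (χ : G → ℂ) 1 := by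
  classical
  have := Fintype.ofFinite G
  have := Fintype.ofFinite (IrrCharacter G)
  rw [finsum_eq_sum_of_fintype]
  have hN : Nat.card {xy : G × G // xy.1 * xy.2 * xy.1⁻¹ * xy.2⁻¹ = z} =
      Nat.card {xy : G × G // xy.1 * xy.2 * xy.1⁻¹ * xy.2⁻¹ * z = 1} := by
    refine Nat.card_congr (Equiv.subtypeEquiv (Equiv.prodComm G G) fun xy => ?_)
    simp only [Equiv.prodComm_apply, Prod.fst_swap, Prod.snd_swap]
    rw [mul_eq_one_iff_eq_inv, ← inv_inj (a := xy.1 * xy.2 * xy.1⁻¹ * xy.2⁻¹), mul_inv_rev,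
      mul_inv_rev, mul_inv_rev, inv_inv, inv_inv]
    simp only [mul_assoc]
  have hG : (Nat.card G : ℂ) ≠ 0 := Nat.cast_ne_zero.2 Nat.card_pos.ne'
  have key : ∀ χ : IrrCharacter G, ∑ a : G, ∑ b : G, (χ : G → ℂ) (a * b * a⁻¹ * b⁻¹ * z) =
      ((Nat.card G : ℂ) / (χ : G → ℂ) 1) ^ 2 * (χ : G → ℂ) z := by
    rintro ⟨χ, n, ρ, hρ, rfl⟩
    have := hρ
    show ∑ a : G, ∑ b : G, ρ.character (a * b * a⁻¹ * b⁻¹ * z) = _
    simp only [CharApp.sum_char_commutator_mul, Representation.char_one]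
  refine mul_left_cancel₀ hG ?_
  calc (Nat.card G : ℂ) * (Nat.card {xy : G × G // xy.1 * xy.2 * xy.1⁻¹ * xy.2⁻¹ = z} : ℂ)
      = ∑ a : G, ∑ b : G, if a * b * a⁻¹ * b⁻¹ * z = 1 then (Nat.card G : ℂ) else 0 := by
        rw [hN, Nat.card_eq_fintype_card (α := {xy : G × G // xy.1 * xy.2 * xy.1⁻¹ * xy.2⁻¹ * z = 1}),
          Fintype.card_subtype,
          ← Fintype.sum_prod_type (f := fun x : G × G =>
            if x.1 * x.2 * x.1⁻¹ * x.2⁻¹ * z = 1 then (Nat.card G : ℂ) else 0), ← Finset.sum_filter,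
          Finset.sum_const, nsmul_eq_mul, mul_comm]
    _ = ∑ a : G, ∑ b : G, ∑ χ : IrrCharacter G,
          (χ : G → ℂ) 1 * (χ : G → ℂ) (a * b * a⁻¹ * b⁻¹ * z) := by
        simp only [Char.sum_degree_mul_apply]
    _ = ∑ χ : IrrCharacter G, (χ : G → ℂ) 1 *
          ∑ a : G, ∑ b : G, (χ : G → ℂ) (a * b * a⁻¹ * b⁻¹ * z) := by
        simp only [Finset.mul_sum]
        rw [Finset.sum_congr rfl fun a _ => Finset.sum_comm, Finset.sum_comm]
    _ = _ := by
        simp only [key, Finset.mul_sum]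
        refine Finset.sum_congr rfl fun χ _ => ?_
        have := Char.IsIrrCharacter.apply_one_ne_zero χ.2
        field_simp

end Cfsg.Agent.S4856
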