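import Cfsg.Statements.S4859
import Cfsg.Agent.EqLemmas
import Cfsg.Agent.Lib.FSInd.Basic

set_option autoImplicit false
open Cfsg

namespace Cfsg.Agent.S4859

/-- Let p be an odd prime, G a finite group and x an element of G whose order is a power of p (possibly 1) and whose centralizer has even order. Let y be a 2-element of the centralizer of x whose order is largest among the 2-elements of that centralizer. Then x * y is not a square in G, and some non-principal real-valued irreducible character of G does not vanish at x * y. -/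
theorem result {G : Type*} [Group G] [Finite G] (p : ℕ) [Fact p.Prime] (hp : p ≠ 2) (x : G) (hx : ∃ k : ℕ, orderOf x = p ^ k) (heven : Even (Nat.card (Subgroup.centralizer ({x} : Set G)))) (y : G) (hy : y ∈ Subgroup.centralizer ({x} : Set G)) (hy2 : ∃ k : ℕ, orderOf y = 2 ^ k) (hmax : ∀ z ∈ Subgroup.centralizer ({x} : Set G), (∃ k : ℕ, orderOf z = 2 ^ k) → orderOf z ≤ orderOf y) : (¬ ∃ u : G, u * u = x * y) ∧ ∃ χ : Cfsg.IrrCharacter G, ¬ ((χ : G → ℂ) = fun _ => (1 : ℂ)) ∧ (∀ g : G, ((χ : G → ℂ) g).im = 0) ∧ (χ : G → ℂ) (x * y) ≠ 0 := by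
  classical
  have := Fintype.ofFinite G
  have := Fintype.ofFinite (IrrCharacter G)
  have hpp : p.Prime := Fact.out
  obtain ⟨i, hi⟩ := hx
  obtain ⟨k, hk⟩ := hy2
  have hcomm : Commute y x := Subgroup.mem_centralizer_singleton_iff.1 hy
  have hk1 : k ≠ 0 := by
    rintro rfl
    have : Fact (Nat.Prime 2) := ⟨Nat.prime_two⟩
    obtain ⟨z, hz⟩ := exists_prime_orderOf_dvd_card' 2 heven.two_dvd
    have := hmax z z.2 ⟨1, by rw [Subgroup.orderOf_coe, hz]; rfl⟩
    rw [Subgroup.orderOf_coe, hz, hk] at this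
    omega
  have hcop : (p ^ i).Coprime (2 ^ k) :=
    Nat.Coprime.pow _ _ ((Nat.coprime_primes hpp Nat.prime_two).2 hp)
  have hord : orderOf (x * y) = p ^ i * 2 ^ k := by
    rw [hcomm.symm.orderOf_mul_eq_mul_orderOf_of_coprime (by rw [hi, hk]; exact hcop), hi, hk]
  have hnot : ¬ ∃ u : G, u * u = x * y := by
    rintro ⟨u, hu⟩
    have hux : Commute u x := by
      have h1 : Commute u (x * y) := hu ▸ ((Commute.refl u).mul_right (Commute.refl u))
      obtain ⟨c, hc⟩ := exists_pow_eq_self_of_coprime (x := x) (n := 2 ^ k) (by rw [hi]; exact hcop.symm)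
      have h2 : x = (x * y) ^ (2 ^ k * c) := by
        rw [hcomm.symm.mul_pow, pow_mul, pow_mul, hc, ← hk, pow_orderOf_eq_one, one_pow, mul_one]
      rw [h2]; exact h1.pow_right _
    have ho : orderOf (u ^ 2) = p ^ i * 2 ^ k := by rw [pow_two, hu, hord]
    have hou : orderOf u = 2 * (p ^ i * 2 ^ k) := by
      rw [orderOf_pow] at ho
      have hg := Nat.gcd_dvd_right (orderOf u) 2
      have hdiv := Nat.div_mul_cancel (Nat.gcd_dvd_left (orderOf u) 2)
      rw [ho] at hdiv
      rcases (Nat.dvd_prime Nat.prime_two).1 hg with h | h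
      · exfalso
        rw [h, mul_one] at hdiv
        have : Nat.gcd (orderOf u) 2 = 2 := by
          refine Nat.gcd_eq_right ?_
          rw [← hdiv]
          exact Dvd.dvd.mul_left (dvd_pow_self 2 hk1) _
        omega
      · rw [h] at hdiv; rw [← hdiv, mul_comm]
    have hz : orderOf (u ^ (p ^ i)) = 2 ^ (k + 1) := by
      rw [orderOf_pow, hou, show 2 * (p ^ i * 2 ^ k) = p ^ i * 2 ^ (k + 1) by ring,
        Nat.gcd_eq_right (dvd_mul_right _ _), Nat.mul_div_cancel_left _ (pow_pos hpp.pos i)]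
    have := hmax (u ^ (p ^ i)) (Subgroup.mem_centralizer_singleton_iff.2 (hux.pow_left _).eq)
      ⟨k + 1, hz⟩
    rw [hz, hk, Nat.pow_le_pow_iff_right (by norm_num)] at this
    omega
  refine ⟨hnot, ?_⟩
  have hcount := FSInd.card_sqrt_eq_sum (x * y)
  have h0 : Nat.card {s : G // s * s = x * y} = 0 := by
    have : IsEmpty {s : G // s * s = x * y} := ⟨fun s => hnot ⟨s, s.2⟩⟩
    exact Nat.card_of_isEmpty
  rw [h0, Nat.cast_zero] at hcount
  by_contra! hall
  let t : IrrCharacter G := ⟨1, Char.isIrrCharacter_one⟩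
  rw [Finset.sum_eq_single t] at hcount
  · have hν : FSInd.fsInd (1 : G → ℂ) = 1 := by
      simp [FSInd.fsInd, Fintype.card_ne_zero]
    simp [t, hν] at hcount
  · intro χ _ hne
    have hne' : (χ : G → ℂ) ≠ fun _ => 1 := fun h => hne (Subtype.ext h)
    by_cases hr : ∀ g : G, ((χ : G → ℂ) g).im = 0
    · rw [hall χ hne' hr, mul_zero]
    · rw [FSInd.fsInd_eq_zero_of_not_real χ.2 hr, zero_mul]
  · intro h; exact absurd (Finset.mem_univ _) h

end Cfsg.Agent.S4859
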