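import Cfsg.Statements.S4862
import Cfsg.Agent.Lib.RealDeg.Basic
import Cfsg.Agent.Lib.CharApp.CoprimeFixed
import Cfsg.Agent.Lib.Blocks.Defect
import Cfsg.Agent.EqLemmas

set_option autoImplicit false
open Cfsg
open scoped commutatorElement

namespace Cfsg.Agent.S4862

/-- Let p be an odd prime and G a finite group such that the subgroup generated by the p-elements of G is solvable and every real-valued irreducible complex character of G has degree prime to p. Let K be the subgroup generated by the 2-elements of G and P a Sylow p-subgroup of G. Then every normal subgroup M of G contained in K and in the derived subgroup of P is centralized by K. -/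
theorem result {G : Type*} [Group G] [Finite G] (p : ℕ) [Fact p.Prime] (hp : p ≠ 2) (hsolv : Group.IsSolvable ↥(Subgroup.closure {g : G | ∃ k : ℕ, orderOf g = p ^ k})) (hreal : ∀ χ : Cfsg.IrrCharacter G, (∀ g : G, ((χ : G → ℂ) g).im = 0) → ¬ p ∣ Cfsg.charDegree (χ : G → ℂ)) (P : Sylow p G) (M : Subgroup G) (hM : M.Normal) (hMK : M ≤ (Subgroup.closure {g : G | ∃ k : ℕ, orderOf g = 2 ^ k})) (hMP : M ≤ ⁅(P : Subgroup G), (P : Subgroup G)⁆) : (Subgroup.closure {g : G | ∃ k : ℕ, orderOf g = 2 ^ k}) ≤ Subgroup.centralizer (M : Set G) := by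
  classical
  haveI := hM
  haveI := Fintype.ofFinite G
  haveI := Fintype.ofFinite M
  haveI := Fintype.ofFinite (P : Subgroup G)
  haveI := Fintype.ofFinite (IrrCharacter (P : Subgroup G))
  have hMleP : M ≤ (P : Subgroup G) :=
    hMP.trans (Subgroup.commutator_le.mpr fun a ha b hb => by
      rw [commutatorElement_def]
      exact (P : Subgroup G).mul_mem ((P : Subgroup G).mul_mem ((P : Subgroup G).mul_mem ha hb)
        ((P : Subgroup G).inv_mem ha)) ((P : Subgroup G).inv_mem hb))
  have hodd : Odd (Nat.card M) := by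
    obtain ⟨k, hk⟩ := IsPGroup.iff_card.mp (P.2.to_le hMleP)
    rw [hk]; exact ((Fact.out : p.Prime).odd_of_ne_two hp).pow
  refine RealDeg.elemGen_le_centralizer fun x hx s hs => ?_
  by_contra hne
  obtain ⟨χ, hχr, hχM⟩ := RealDeg.exists_real_of_two_elem M hodd hx
    fun hc => hne (Subgroup.mem_centralizer_iff.mp hc s hs)
  obtain ⟨m, hm, hmn⟩ := Char.IsCharacter.decompose
    (Char.IsCharacter.restrict (Char.IsIrrCharacter.isCharacter χ.2) (P : Subgroup G))
  choose d hd0 hd using fun β : IrrCharacter (P : Subgroup G) => Char.IsIrrCharacter.exists_degree β.2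
  have hsum : charDegree (χ : G → ℂ) = ∑ β, m β * d β := by
    have h1 := congrFun hm 1
    simp only [Finset.sum_apply, Pi.smul_apply, smul_eq_mul, hd, OneMemClass.coe_one] at h1
    rw [← Blocks.charDegree_cast χ] at h1
    exact_mod_cast h1
  obtain ⟨β, hβ⟩ : ∃ β, ¬ p ∣ m β * d β := by
    by_contra hh
    push Not at hh
    exact hreal χ hχr (hsum ▸ Finset.dvd_sum fun β _ => hh β)
  have hdeg : charDegree (β : ↥(P : Subgroup G) → ℂ) = d β := by simp [charDegree, hd]
  have hd1 : d β = 1 := by
    obtain ⟨k, hk⟩ := IsPGroup.iff_card.mp P.2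
    obtain ⟨j, -, hj⟩ := (Nat.dvd_prime_pow Fact.out).mp (hk ▸ hdeg ▸ Blocks.charDegree_dvd_card β)
    rcases j with _ | j
    · simpa using hj
    · exact absurd (dvd_mul_of_dvd_right (hj ▸ dvd_pow_self p (by omega)) _) hβ
  obtain ⟨l, hl⟩ := Char.exists_hom_of_degree_one (Char.IsIrrCharacter.isCharacter β.2)
    (by rw [hd, hd1, Nat.cast_one])
  have hres : (fun x : M => (β : ↥(P : Subgroup G) → ℂ) (Subgroup.inclusion hMleP x)) = 1 := by
    funext x
    obtain ⟨y, hy, hyx⟩ := (Subgroup.map_subtype_commutator (P : Subgroup G)).ge (hMP x.2)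
    have hyk : ∀ a b : (P : Subgroup G), l ⁅a, b⁆ = 1 := fun a b => by
      rw [commutatorElement_def, map_mul, map_mul, map_mul,
        show l a * l b * l a⁻¹ * l b⁻¹ = l a * l a⁻¹ * (l b * l b⁻¹) by ring,
        ← map_mul, ← map_mul, mul_inv_cancel, mul_inv_cancel, map_one, one_mul]
    have hker : commutator (P : Subgroup G) ≤ l.ker := by
      rw [commutator_def, Subgroup.commutator_le]
      exact fun a _ b _ => MonoidHom.mem_ker.mpr (hyk a b)
    rw [show Subgroup.inclusion hMleP x = y from Subtype.ext hyx.symm, ← hl]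
    exact MonoidHom.mem_ker.mp (hker hy)
  refine hχM (CharApp.trivOn_of_constituent_one M χ.2 ?_)
  refine CharApp.over_trans (Subgroup.inclusion hMleP)
    (π := fun y : (P : Subgroup G) => (χ : G → ℂ) y)
    (Char.IsCharacter.restrict (Char.IsIrrCharacter.isCharacter χ.2) (P : Subgroup G)) β.2
    Char.isIrrCharacter_one ?_ ?_
  · exact fun h0 => hβ (by
      have : (m β : ℂ) = 0 := (hmn β).symm.trans h0
      rw [Nat.cast_eq_zero.mp this, zero_mul]; exact dvd_zero p)
  · rw [hres, Char.classInner_irr_self Char.isIrrCharacter_one]; exact one_ne_zero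

end Cfsg.Agent.S4862
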