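import Cfsg.Statements.S4866
import Cfsg.Agent.EqLemmas
import Cfsg.Agent.Lib.CharApp.PermLemma

set_option autoImplicit false
open Cfsg

namespace Cfsg.Agent.S4866

open scoped ComplexConjugate

variable {G : Type*} [Group G] (K : Subgroup G) [K.Normal]

@[reducible] noncomputable def charAct : MulAction G (IrrCharacter ↥K) where
  smul g θ := ⟨fun k => (θ : ↥K → ℂ) (MulAut.conjNormal g⁻¹ k),
    Char.IsIrrCharacter.comp_equiv θ.2 _⟩
  one_smul θ := Subtype.ext (funext fun k => by
    show (θ : ↥K → ℂ) (MulAut.conjNormal (1 : G)⁻¹ k) = _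
    simp)
  mul_smul g h θ := Subtype.ext (funext fun k => by
    show (θ : ↥K → ℂ) (MulAut.conjNormal (g * h)⁻¹ k) =
      (θ : ↥K → ℂ) (MulAut.conjNormal h⁻¹ (MulAut.conjNormal g⁻¹ k))
    rw [mul_inv_rev, map_mul]; rfl)

@[reducible] noncomputable def classAct : MulAction G (ConjClasses ↥K) where
  smul g C := ConjClasses.map (MulAut.conjNormal g).toMonoidHom C
  one_smul C := by
    obtain ⟨k, rfl⟩ := ConjClasses.mk_surjective C
    show ConjClasses.mk (MulAut.conjNormal (1 : G) k) = _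
    simp
  mul_smul g h C := by
    obtain ⟨k, rfl⟩ := ConjClasses.mk_surjective C
    show ConjClasses.mk (MulAut.conjNormal (g * h) k) =
      ConjClasses.mk (MulAut.conjNormal g (MulAut.conjNormal h k))
    rw [map_mul]; rfl

omit [K.Normal] in
theorem mem_of_sq {S : Subgroup G} {g : G} {d : ℕ} (hd : Odd d) (h2 : g * g ∈ S) (hgd : g ^ d ∈ S) :
    g ∈ S := by
  obtain ⟨e, rfl⟩ := hd
  have : g = g ^ (2 * e + 1) * ((g * g) ^ e)⁻¹ := by
    rw [← pow_two, ← pow_mul, pow_succ', mul_inv_cancel_right]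
  rw [this]
  exact S.mul_mem hgd (S.inv_mem (S.pow_mem h2 e))

theorem fixed_iff {X : Type*} [MulAction G X] (c : X → X) (hodd : Odd K.index) (hc : ∀ x, c (c x) = x)
    (hcomm : ∀ (g : G) x, g • c x = c (g • x)) (hK : ∀ k ∈ K, ∀ x : X, k • x = x) (g : G) (x : X) :
    g • x = c x ↔ c x = x ∧ g • x = x := by
  refine ⟨fun h => ?_, fun h => h.2.trans h.1.symm⟩
  have h2 : g * g ∈ MulAction.stabilizer G x := by
    rw [MulAction.mem_stabilizer_iff, mul_smul, h, hcomm, h, hc]
  have hd : g ^ K.index ∈ MulAction.stabilizer G x := hK _ (K.pow_index_mem g) x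
  have h1 : g • x = x := mem_of_sq hodd h2 hd
  exact ⟨h.symm.trans h1, h1⟩

/-- Let K be a normal subgroup of odd index in the finite group G. Then G has as many orbits on the real-valued irreducible complex characters of K (acting by conjugation) as it has orbits on the conjugacy classes of K that are real in K; equivalently, the number of G-orbits of real-valued irreducible characters of K equals the number of G-conjugacy classes of elements of K that are conjugate in K to their inverses. -/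
theorem result {G : Type*} [Group G] [Finite G] (K : Subgroup G) [K.Normal] (hodd : Odd K.index) : Nat.card (Quot (fun θ η : {θ : Cfsg.IrrCharacter ↥K // (∀ k : ↥K, ((θ : ↥K → ℂ) k).im = 0)} => ∃ g : G, ∀ k k' : ↥K, (k' : G) = g * (k : G) * g⁻¹ → (η.1 : ↥K → ℂ) k' = (θ.1 : ↥K → ℂ) k)) = Nat.card (Quot (fun x y : {x : ↥K // IsConj x x⁻¹} => ∃ g : G, (y.1 : G) = g * x.1 * g⁻¹)) := by
  classical
  letI := charAct K
  letI := classAct K
  have := Fintype.ofFinite G
  let f : G → ↥K → ↥K := fun g k => (MulAut.conjNormal g⁻¹ k)⁻¹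
  have hcl : ∀ {θ : IrrCharacter ↥K} (a b : ↥K), IsConj a b → (θ : ↥K → ℂ) a = (θ : ↥K → ℂ) b := by
    intro θ a b hab
    obtain ⟨c, rfl⟩ := isConj_iff.1 hab
    exact (Char.IsIrrCharacter.isClassFunction θ.2 a c).symm
  let cθ : IrrCharacter ↥K → IrrCharacter ↥K := fun θ =>
    ⟨fun k => conj ((θ : ↥K → ℂ) k), Char.IsIrrCharacter.conj θ.2⟩
  let X := {θ : IrrCharacter ↥K // ∀ k : ↥K, ((θ : ↥K → ℂ) k).im = 0}
  let Y := {C : ConjClasses ↥K // ∀ k : ↥K, ConjClasses.mk k = C → IsConj k k⁻¹}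
  have hreal : ∀ θ : IrrCharacter ↥K, cθ θ = θ ↔ ∀ k : ↥K, ((θ : ↥K → ℂ) k).im = 0 := fun θ => by
    simp [cθ, Subtype.ext_iff, funext_iff, Complex.conj_eq_iff_im]
  letI actX : MulAction G X :=
    { smul := fun g θ => ⟨g • θ.1, fun k => θ.2 _⟩
      one_smul := fun θ => Subtype.ext (one_smul G θ.1)
      mul_smul := fun g h θ => Subtype.ext (mul_smul g h θ.1) }
  have hYmem : ∀ (g : G) (C : ConjClasses ↥K), (∀ k : ↥K, ConjClasses.mk k = C → IsConj k k⁻¹) →
      ∀ k : ↥K, ConjClasses.mk k = g • C → IsConj k k⁻¹ := by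
    intro g C hC k hk
    obtain ⟨a, rfl⟩ := ConjClasses.mk_surjective C
    have h1 : IsConj k (MulAut.conjNormal g a) := ConjClasses.mk_eq_mk_iff_isConj.1 hk
    have h2 : IsConj (MulAut.conjNormal g a) (MulAut.conjNormal g a)⁻¹ := by
      rw [← map_inv]; exact (MulAut.conjNormal g).toMonoidHom.map_isConj (hC a rfl)
    obtain ⟨u, hu⟩ := isConj_iff.1 h1
    exact (h1.trans h2).trans (isConj_iff.2 ⟨u⁻¹, by rw [← hu]; group⟩)
  letI actY : MulAction G Y :=
    { smul := fun g C => ⟨g • C.1, hYmem g C.1 C.2⟩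
      one_smul := fun C => Subtype.ext (one_smul G C.1)
      mul_smul := fun g h C => Subtype.ext (mul_smul g h C.1) }
  have hKθ : ∀ k ∈ K, ∀ θ : IrrCharacter ↥K, k • θ = θ := by
    intro k hk θ
    refine Subtype.ext (funext fun a => ?_)
    show (θ : ↥K → ℂ) (MulAut.conjNormal k⁻¹ a) = (θ : ↥K → ℂ) a
    refine hcl _ _ (isConj_iff.2 ⟨⟨k, hk⟩, ?_⟩)
    refine Subtype.ext ?_
    simp [MulAut.conjNormal_apply]
    group
  have hKC : ∀ k ∈ K, ∀ C : ConjClasses ↥K, k • C = C := by
    intro k hk C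
    obtain ⟨a, rfl⟩ := ConjClasses.mk_surjective C
    refine ConjClasses.mk_eq_mk_iff_isConj.2 (isConj_iff.2 ⟨⟨k, hk⟩⁻¹, ?_⟩)
    refine Subtype.ext ?_
    simp [MulAut.conjNormal_apply]
    group
  let cC : ConjClasses ↥K → ConjClasses ↥K := fun C => Quotient.liftOn C
    (fun k => ConjClasses.mk k⁻¹) fun a b hab => by
      obtain ⟨u, rfl⟩ := isConj_iff.1 hab
      exact ConjClasses.mk_eq_mk_iff_isConj.2 (isConj_iff.2 ⟨u, by group⟩)
  have hcC : ∀ C, cC (cC C) = C := by
    intro C
    obtain ⟨a, rfl⟩ := ConjClasses.mk_surjective C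
    show ConjClasses.mk a⁻¹⁻¹ = _
    rw [inv_inv]
  have hYiff : ∀ C, cC C = C ↔ ∀ k : ↥K, ConjClasses.mk k = C → IsConj k k⁻¹ := by
    intro C
    obtain ⟨a, rfl⟩ := ConjClasses.mk_surjective C
    constructor
    · intro h k hk
      obtain ⟨u, rfl⟩ := isConj_iff.1 (ConjClasses.mk_eq_mk_iff_isConj.1 hk.symm)
      have ha : IsConj a⁻¹ a := ConjClasses.mk_eq_mk_iff_isConj.1 h
      refine ((isConj_iff.2 ⟨u, rfl⟩ : IsConj a (u * a * u⁻¹)).symm.trans ha.symm).trans ?_
      exact isConj_iff.2 ⟨u, by group⟩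
    · intro h
      exact ConjClasses.mk_eq_mk_iff_isConj.2 (h a rfl).symm
  have hcancel : ∀ (g : G) (u : ↥K), MulAut.conjNormal g (MulAut.conjNormal g⁻¹ u) = u := by
    intro g u; rw [← MulAut.mul_apply, ← map_mul, mul_inv_cancel, map_one]; rfl
  have hfix : ∀ g : G, Nat.card (MulAction.fixedBy X g) = Nat.card (MulAction.fixedBy Y g) := by
    intro g
    have e1 : MulAction.fixedBy X g ≃ {θ : IrrCharacter ↥K // g • θ = cθ θ} :=
      { toFun := fun θ => ⟨θ.1.1, ((congrArg Subtype.val θ.2).trans ((hreal _).2 θ.1.2).symm)⟩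
        invFun := fun θ => ⟨⟨θ.1, (hreal _).1 ((fixed_iff K cθ hodd
            (fun x => Subtype.ext (funext fun k => Complex.conj_conj _)) (fun _ _ => rfl) hKθ g θ.1).1
              θ.2).1⟩,
          Subtype.ext ((fixed_iff K cθ hodd
            (fun x => Subtype.ext (funext fun k => Complex.conj_conj _)) (fun _ _ => rfl) hKθ g θ.1).1
              θ.2).2⟩
        left_inv := fun θ => rfl
        right_inv := fun θ => rfl }
    have hcommC : ∀ (g : G) (C : ConjClasses ↥K), g • cC C = cC (g • C) := by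
      intro g C
      obtain ⟨a, rfl⟩ := ConjClasses.mk_surjective C
      show ConjClasses.mk (MulAut.conjNormal g a⁻¹) = ConjClasses.mk (MulAut.conjNormal g a)⁻¹
      rw [map_inv]
    have e2 : MulAction.fixedBy Y g ≃ {C : ConjClasses ↥K // g • C = cC C} :=
      { toFun := fun C => ⟨C.1.1, ((congrArg Subtype.val C.2).trans ((hYiff _).2 C.1.2).symm)⟩
        invFun := fun C => ⟨⟨C.1, (hYiff _).1 ((fixed_iff K cC hodd hcC hcommC hKC g C.1).1 C.2).1⟩,
          Subtype.ext ((fixed_iff K cC hodd hcC hcommC hKC g C.1).1 C.2).2⟩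
        left_inv := fun C => rfl
        right_inv := fun C => rfl }
    rw [Nat.card_congr e1, Nat.card_congr e2]
    have h1 : ∀ θ : IrrCharacter ↥K, g • θ = cθ θ ↔ (θ : ↥K → ℂ) ∘ f g = (θ : ↥K → ℂ) := by
      intro θ
      simp only [Subtype.ext_iff, funext_iff, Function.comp_apply, f]
      refine forall_congr' fun k => ?_
      rw [Char.IsCharacter.apply_inv (Char.IsIrrCharacter.isCharacter θ.2)]
      show (θ : ↥K → ℂ) (MulAut.conjNormal g⁻¹ k) = conj ((θ : ↥K → ℂ) k) ↔ _
      exact ⟨fun h => by rw [h, Complex.conj_conj], fun h => by rw [← h, Complex.conj_conj]⟩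
    rw [Nat.card_congr (Equiv.subtypeEquivRight h1), CharApp.fixed_count (f g)]
    · refine Nat.card_congr (Equiv.subtypeEquivRight fun C => ?_)
      obtain ⟨a, rfl⟩ := ConjClasses.mk_surjective C
      constructor
      · intro h
        have h' := (MulAut.conjNormal g).toMonoidHom.map_isConj (h a rfl)
        simp only [MulEquiv.coe_toMonoidHom, f] at h'
        rw [← map_inv (MulAut.conjNormal g⁻¹) a, hcancel] at h'
        exact ConjClasses.mk_eq_mk_iff_isConj.2 h'.symm
      · intro h k hk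
        have h' : IsConj (MulAut.conjNormal g a) a⁻¹ := ConjClasses.mk_eq_mk_iff_isConj.1 h
        have hka : IsConj k a := ConjClasses.mk_eq_mk_iff_isConj.1 hk
        have hga : IsConj (MulAut.conjNormal g k) (MulAut.conjNormal g a) :=
          MonoidHom.map_isConj (MulEquiv.toMonoidHom (MulAut.conjNormal g : MulAut ↥K)) hka
        have h2 : IsConj (MulAut.conjNormal g k) a⁻¹ := hga.trans h'
        have hinv : ∀ {u v : ↥K}, IsConj u v → IsConj u⁻¹ v⁻¹ := fun {u v} huv => by
          obtain ⟨w, rfl⟩ := isConj_iff.1 huv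
          exact isConj_iff.2 ⟨w, by group⟩
        have h3 := (MulAut.conjNormal g⁻¹).toMonoidHom.map_isConj
          (h2.trans (hinv hka.symm))
        have hc2 : MulAut.conjNormal g⁻¹ (MulAut.conjNormal g k) = k := by
          simpa using hcancel g⁻¹ k
        rw [MulEquiv.coe_toMonoidHom, hc2] at h3
        show IsConj (MulAut.conjNormal g⁻¹ k)⁻¹ k
        rw [← map_inv]
        exact h3.symm
    · intro θ
      have : (θ : ↥K → ℂ) ∘ f g = fun k => conj (((g • θ : IrrCharacter ↥K) : ↥K → ℂ) k) :=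
        funext fun k => Char.IsCharacter.apply_inv (Char.IsIrrCharacter.isCharacter θ.2) _
      rw [this]
      exact Char.IsIrrCharacter.conj (g • θ).2
    · intro a b hab
      obtain ⟨w, hw⟩ := isConj_iff.1 ((MulAut.conjNormal g⁻¹).toMonoidHom.map_isConj hab)
      refine isConj_iff.2 ⟨w, ?_⟩
      simp only [f, MulEquiv.coe_toMonoidHom] at hw ⊢
      rw [← hw]; group
  have hBX : Nat.card (MulAction.orbitRel.Quotient G X) = Nat.card (MulAction.orbitRel.Quotient G Y) := by
    have := fun g : G => Fintype.ofFinite (MulAction.fixedBy X g)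
    have := fun g : G => Fintype.ofFinite (MulAction.fixedBy Y g)
    have := Fintype.ofFinite (MulAction.orbitRel.Quotient G X)
    have := Fintype.ofFinite (MulAction.orbitRel.Quotient G Y)
    have hX := MulAction.sum_card_fixedBy_eq_card_orbits_mul_card_group G X
    have hY := MulAction.sum_card_fixedBy_eq_card_orbits_mul_card_group G Y
    simp only [← Nat.card_eq_fintype_card] at hX hY
    rw [Finset.sum_congr rfl fun g _ => hfix g] at hX
    exact Nat.eq_of_mul_eq_mul_right Nat.card_pos (hX.symm.trans hY)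
  refine Eq.trans ?_ (hBX.trans ?_)
  · refine Nat.card_congr (Quot.congrRight fun θ η => ?_)
    constructor
    · rintro ⟨g, hg⟩
      refine Setoid.symm' _ ⟨g, Subtype.ext (Subtype.ext (funext fun k => ?_))⟩
      show (θ.1 : ↥K → ℂ) (MulAut.conjNormal g⁻¹ k) = (η.1 : ↥K → ℂ) k
      exact (hg _ k (by simp [MulAut.conjNormal_apply]; group)).symm
    · intro h
      obtain ⟨g, hg⟩ := Setoid.symm' _ h
      refine ⟨g, fun k k' hkk => ?_⟩
      rw [← hg]
      show (θ.1 : ↥K → ℂ) (MulAut.conjNormal g⁻¹ k') = _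
      refine congrArg _ (Subtype.ext ?_)
      simp [MulAut.conjNormal_apply, hkk]
      group
  · let r := fun x y : {x : ↥K // IsConj x x⁻¹} => ∃ g : G, (y.1 : G) = g * x.1 * g⁻¹
    let F : Quot r → MulAction.orbitRel.Quotient G Y :=
      Quot.lift (fun x => Quotient.mk _ (⟨ConjClasses.mk x.1, fun k hk => by
          obtain ⟨w, hw⟩ := isConj_iff.1 (ConjClasses.mk_eq_mk_iff_isConj.1 hk)
          exact ((isConj_iff.2 ⟨w, hw⟩).trans x.2).trans
            (isConj_iff.2 ⟨w⁻¹, by rw [← hw]; group⟩)⟩ : Y))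
        (by
          rintro x y ⟨g, hg⟩
          refine (Quotient.sound (s := MulAction.orbitRel G Y) ⟨g, Subtype.ext ?_⟩).symm
          show ConjClasses.mk (MulAut.conjNormal g x.1) = ConjClasses.mk y.1
          congr 1
          exact Subtype.ext (by simp [hg]))
    refine (Nat.card_eq_of_bijective F ⟨?_, ?_⟩).symm
    · rintro ⟨x⟩ ⟨y⟩ h
      obtain ⟨g, hg⟩ := Quotient.exact h
      have h1 : IsConj (MulAut.conjNormal g y.1) x.1 :=
        ConjClasses.mk_eq_mk_iff_isConj.1 (congrArg Subtype.val hg)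
      obtain ⟨w, hw⟩ := isConj_iff.1 h1
      refine (Quot.sound ⟨(w : G) * g, ?_⟩).symm
      simp [← hw, MulAut.conjNormal_apply]
      group
    · rintro ⟨⟨C, hC⟩⟩
      obtain ⟨a, rfl⟩ := ConjClasses.mk_surjective C
      exact ⟨Quot.mk r ⟨a, hC a rfl⟩, rfl⟩

end Cfsg.Agent.S4866
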