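import Cfsg.Statements.S4870
import Cfsg.Agent.Lib.CliffordChar.LinearTwist

set_option autoImplicit false
open Cfsg

namespace Cfsg.Agent.S4870

/-- Let G be a finite group with a non-abelian minimal normal subgroup N, and let φ be an irreducible complex character of N with stabilizer I in G (the elements g with φ(g n g⁻¹) = φ(n) for all n ∈ N) such that φ extends to an irreducible character of I. Put d = φ(1)·[G : I]. Then the number of linear characters of G is at most [G : I] times the number of irreducible characters of G of degree d. -/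
theorem result {G : Type*} [Group G] [Finite G] (N : Subgroup G) (hN : N.Normal) (hN1 : N ≠ ⊥) (hmin : ∀ M : Subgroup G, M.Normal → M ≤ N → M = ⊥ ∨ M = N) (hna : ¬ IsMulCommutative ↥N) (φ : Cfsg.IrrCharacter ↥N) (I : Subgroup G) (hI : ∀ g : G, g ∈ I ↔ ∀ n n' : ↥N, (n' : G) = g * (n : G) * g⁻¹ → (φ : ↥N → ℂ) n' = (φ : ↥N → ℂ) n) (hNI : N ≤ I) (hext : ∃ ψ : Cfsg.IrrCharacter ↥I, ∀ n : ↥N, (ψ : ↥I → ℂ) (Subgroup.inclusion hNI n) = (φ : ↥N → ℂ) n) : Nat.card {χ : Cfsg.IrrCharacter G // Cfsg.charDegree (χ : G → ℂ) = 1} ≤ I.index * Nat.card {χ : Cfsg.IrrCharacter G // Cfsg.charDegree (χ : G → ℂ) = Cfsg.charDegree (φ : ↥N → ℂ) * I.index} := by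
  classical
  haveI := Fintype.ofFinite G
  haveI := Fintype.ofFinite I
  have := hN
  have hperf := CliffordChar.le_commutator_of_perfect
    (CliffordChar.commutator_eq_of_minimal_nonabelian N hmin hna)
  have hI' : I = CharApp.inertia N (φ : ↥N → ℂ) := by
    ext g
    rw [hI, CharApp.mem_inertia_iff]
    exact ⟨fun h n => h n _ rfl, fun h n n' e => by
      have := h n
      rwa [show (⟨g * n * g⁻¹, hN.conj_mem n n.2 g⟩ : ↥N) = n' from Subtype.ext e.symm] at this⟩
  obtain ⟨ψ, hψN⟩ := hext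
  refine CliffordChar.card_le_of_twist N I hperf φ.2 hI' hNI ψ.2 hψN _ _
    (fun χ hχ => by rw [CharApp.DegreeSets.apply_one χ.2, hχ, Nat.cast_one]) fun χ h hχ => ?_
  refine Nat.cast_injective (R := ℂ) ?_
  show (Cfsg.charDegree (indFun I fun i : I => (ψ : ↥I → ℂ) i * (χ : G → ℂ) i) : ℂ) = _
  rw [← CharApp.DegreeSets.apply_one h, Char.indFun_one_apply, Nat.cast_mul,
    ← CharApp.DegreeSets.apply_one φ.2, ← hψN 1]
  show (I.index : ℂ) * ((ψ : ↥I → ℂ) 1 * (χ : G → ℂ) 1) = (ψ : ↥I → ℂ) _ * _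
  rw [CharApp.DegreeSets.apply_one χ.2, hχ, Nat.cast_one, mul_one, map_one, mul_comm]

end Cfsg.Agent.S4870
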