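import Cfsg.Statements.S4871
import Cfsg.Agent.Lib.CliffordChar.LinearTwist
import Cfsg.Agent.Lib.FSInd.Basic

set_option autoImplicit false
open Cfsg

namespace Cfsg.Agent.S4871

open Char
open scoped ComplexConjugate commutatorElement

theorem dihedral_char {H : Type*} [Group H] [Fintype H] (N : Subgroup H) [N.Normal] [Fintype N]
    (z : H) (hz : z ∉ N) (hz2 : z * z = 1) (hcov : ∀ h : H, h ∈ N ∨ h * z ∈ N)
    (hinv : ∀ n ∈ N, z * n * z⁻¹ = n⁻¹) (hodd : Odd (Nat.card N)) (l : N →* ℂ) (hl : ∃ n, l n ≠ 1) :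
    IsIrrCharacter H (indFun N l) ∧ (∀ h : H, (indFun N l h).im = 0) ∧
      FSInd.fsInd (indFun N l) = 1 := by
  classical
  have hcard : Nat.card H = 2 * Nat.card N := by
    rw [← N.index_mul_card]
    congr 1
    rw [Subgroup.index_eq_two_iff]
    refine ⟨z, fun h => ?_⟩
    rcases hcov h with hh | hh
    · exact Or.inr ⟨hh, fun h' => hz ((N.mul_mem_cancel_left hh).1 h')⟩
    · exact Or.inl ⟨hh, fun h' => hz ((N.mul_mem_cancel_left h').1 hh)⟩
  have hsplit : ∀ f : H → ℂ, ∑ h : H, f h = ∑ n : N, (f n + f (n * z)) := by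
    intro f
    rw [← Finset.sum_filter_add_sum_filter_not Finset.univ (fun h : H => h ∈ N) f,
      Finset.sum_add_distrib]
    congr 1
    · refine Finset.sum_bij' (fun h hh => (⟨h, (Finset.mem_filter.1 hh).2⟩ : N)) (fun n _ => (n : H))
        ?_ ?_ ?_ ?_ ?_ <;> intros <;> simp_all
    · refine Finset.sum_bij' (fun h hh => (⟨h * z, (hcov h).resolve_left (Finset.mem_filter.1 hh).2⟩ : N))
        (fun n _ => (n : H) * z) ?_ ?_ ?_ ?_ ?_
      · intros; simp
      · intro n _
        exact Finset.mem_filter.2 ⟨Finset.mem_univ _, fun h => hz ((N.mul_mem_cancel_left n.2).1 h)⟩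
      · intro h _; simp [mul_assoc, hz2]
      · intro n _; exact Subtype.ext (by simp [mul_assoc, hz2])
      · intro h _; simp [mul_assoc, hz2]
  have hconj : ∀ n : N, l n⁻¹ = conj (l n) := fun n =>
    IsCharacter.apply_inv (isCharacter_of_hom l) n
  have hne : (Nat.card N : ℂ) ≠ 0 := Nat.cast_ne_zero.2 Nat.card_pos.ne'
  have hsum : ∑ n : N, l n = 0 := by
    obtain ⟨a, ha⟩ := hl
    have h1 : l a * ∑ n : N, l n = ∑ n : N, l n := by
      rw [Finset.mul_sum]
      exact Fintype.sum_equiv (Equiv.mulLeft a) _ _ fun n => by simp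
    exact (mul_eq_zero.1 (show (l a - 1) * ∑ n : N, l n = 0 by rw [sub_mul, h1, one_mul, sub_self])).resolve_left
      (sub_ne_zero.2 ha)
  have hsum2 : ∑ n : N, l (n * n) = 0 := by
    rw [← hsum]
    have hcop : (Nat.card N).Coprime 2 := Nat.coprime_two_right.2 hodd
    refine Fintype.sum_equiv (powCoprime hcop) _ _ fun n => ?_
    simp [pow_two]
  have hoff : ∀ n : N, indFun N l ((n : H) * z) = 0 := fun n =>
    CliffordChar.indFun_not_mem N _ fun h => hz ((N.mul_mem_cancel_left n.2).1 h)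
  have hon : ∀ n : N, indFun N l n = l n + conj (l n) := by
    intro n
    rw [CliffordChar.indFun_coe, CliffordChar.orbitSum, Finset.sum_apply, hsplit]
    have h1 : ∀ m : N, CliffordChar.conjFun N (m : H) l n = l n := fun m => by
      rw [CliffordChar.conjFun_apply,
        show (⟨(m : H)⁻¹ * n * m, _⟩ : N) = m⁻¹ * n * m from Subtype.ext rfl, map_mul, map_mul,
        mul_comm, ← mul_assoc, ← map_mul, mul_inv_cancel, map_one, one_mul]
    have h2 : ∀ m : N, CliffordChar.conjFun N ((m : H) * z) l n = conj (l n) := fun m => by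
      rw [CliffordChar.conjFun_apply, ← hconj]
      have e : ((m : H) * z)⁻¹ * n * ((m : H) * z) = ((m⁻¹ * n * m : N)⁻¹ : N) := by
        have hz' : z⁻¹ = z := inv_eq_of_mul_eq_one_right hz2
        have := hinv ((m⁻¹ * n * m : N) : H) (m⁻¹ * n * m : N).2
        rw [hz'] at this
        simp only [Subgroup.coe_mul, Subgroup.coe_inv] at this ⊢
        rw [← this, mul_inv_rev, hz']
        group
      rw [show (⟨((m : H) * z)⁻¹ * n * ((m : H) * z), _⟩ : N) = (m⁻¹ * n * m)⁻¹ from Subtype.ext e]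
      have hcomm : l (m⁻¹ * n * m) = l n := by
        rw [map_mul, map_mul, mul_comm, ← mul_assoc, ← map_mul, mul_inv_cancel, map_one, one_mul]
      rw [hconj, hcomm, hconj]
    simp only [h1, h2]
    rw [Finset.sum_const, Finset.card_univ, ← Nat.card_eq_fintype_card, nsmul_eq_mul, ← mul_assoc,
      inv_mul_cancel₀ hne, one_mul]
  have hreal : ∀ h : H, (indFun N l h).im = 0 := by
    intro h
    rcases hcov h with hh | hh
    · rw [show h = ((⟨h, hh⟩ : N) : H) from rfl, hon, Complex.add_im, Complex.conj_im, add_neg_cancel]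
    · rw [show h = ((⟨h * z, hh⟩ : N) : H) * z by simp [mul_assoc, hz2], hoff, Complex.zero_im]
  refine ⟨?_, hreal, ?_⟩
  · rw [isIrrCharacter_iff_norm_one (IsCharacter.indFun N (isCharacter_of_hom l)), classInner, hsplit]
    have h1 : ∀ n : N, indFun N l n * conj (indFun N l n) +
        indFun N l (n * z) * conj (indFun N l (n * z)) = 2 + (l (n * n) + conj (l (n * n))) := by
      intro n
      have hu : l n * conj (l n) = 1 := by rw [← hconj, ← map_mul, mul_inv_cancel, map_one]
      rw [hon, hoff, map_add, Complex.conj_conj, zero_mul, add_zero, map_mul, map_mul]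
      linear_combination (2 : ℂ) * hu
    simp only [h1, Finset.sum_add_distrib, ← map_sum, hsum2, map_zero, Finset.sum_const,
      Finset.card_univ, add_zero, nsmul_eq_mul]
    rw [hcard, ← Nat.card_eq_fintype_card]
    push_cast
    field_simp
  · rw [FSInd.fsInd, hsplit]
    have h1 : ∀ n : N, indFun N l ((n : H) * n) + indFun N l ((n : H) * z * ((n : H) * z)) =
        2 + (l (n * n) + conj (l (n * n))) := by
      intro n
      have e : (n : H) * z * ((n : H) * z) = ((1 : N) : H) := by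
        have hz' : z⁻¹ = z := inv_eq_of_mul_eq_one_right hz2
        have := hinv n n.2
        rw [hz'] at this
        calc (n : H) * z * ((n : H) * z) = n * (z * n * z) := by group
          _ = _ := by rw [this, mul_inv_cancel, OneMemClass.coe_one]
      rw [e, ← Subgroup.coe_mul, hon, hon, map_one, map_one]
      ring
    simp only [h1, Finset.sum_add_distrib, ← map_sum, hsum2, map_zero, Finset.sum_const,
      Finset.card_univ, add_zero, nsmul_eq_mul]
    rw [hcard, ← Nat.card_eq_fintype_card]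
    push_cast
    field_simp

/-- Let G be a finite group that is the semidirect product of a normal elementary abelian subgroup N of odd order by a non-trivial 2-subgroup P, with N the unique minimal normal subgroup of G. Consider the strongly real irreducible complex characters of G (Frobenius–Schur indicator +1) whose degree is 1 or even. Then their average degree is at least 4/3: four times their number is at most three times the sum of their degrees. -/
theorem result {G : Type*} [Group G] [Finite G] (N P : Subgroup G) (hN : N.Normal) (q : ℕ) [Fact q.Prime] (hq : q ≠ 2) (hNel : Cfsg.IsElementaryAbelian q N) (hP : IsPGroup 2 ↥P) (hP1 : P ≠ ⊥) (hdisj : N ⊓ P = ⊥) (hprod : N ⊔ P = ⊤) (hmin : N ≠ ⊥ ∧ ∀ M : Subgroup G, M.Normal → M ≠ ⊥ → N ≤ M) : 4 * Nat.card {χ : Cfsg.IrrCharacter G // (Cfsg.charDegree (χ : G → ℂ) = 1 ∨ 2 ∣ Cfsg.charDegree (χ : G → ℂ)) ∧ (Nat.card G : ℂ)⁻¹ * ∑ᶠ g : G, (χ : G → ℂ) (g * g) = 1} ≤ 3 * (∑ᶠ χ : {χ : Cfsg.IrrCharacter G // (Cfsg.charDegree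 (χ : G → ℂ) = 1 ∨ 2 ∣ Cfsg.charDegree (χ : G → ℂ)) ∧ (Nat.card G : ℂ)⁻¹ * ∑ᶠ g : G, (χ : G → ℂ) (g * g) = 1}, Cfsg.charDegree (χ.1 : G → ℂ)) := by
  classical
  haveI := Fintype.ofFinite G
  haveI := Fintype.ofFinite ↥N
  have := hN
  obtain ⟨hNab, hNpow⟩ := hNel
  have hcomm : ∀ a ∈ N, ∀ b ∈ N, a * b = b * a := fun a ha b hb =>
    congrArg Subtype.val (hNab.is_comm.comm ⟨a, ha⟩ ⟨b, hb⟩)
  have hoddN : Odd (Nat.card N) := by
    obtain ⟨k, hk⟩ := (IsPGroup.iff_card (p := q) (G := ↥N)).1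
      fun a => ⟨1, Subtype.ext (by simpa using hNpow a a.2)⟩
    rw [hk]
    exact ((Fact.out : q.Prime).odd_of_ne_two hq).pow
  haveI := (Subgroup.nontrivial_iff_ne_bot P).2 hP1
  haveI := hP.center_nontrivial
  obtain ⟨k, hk0, hk⟩ := (hP.to_subgroup (Subgroup.center ↥P)).nontrivial_iff_card.1 inferInstance
  obtain ⟨z', hz'⟩ := exists_prime_orderOf_dvd_card' (G := Subgroup.center ↥P) 2
    (hk ▸ dvd_pow_self 2 (by omega))
  set z : G := ((z' : ↥P) : G) with hzdef
  have hzP : z ∈ P := (z' : ↥P).2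
  have hzc : ∀ x ∈ P, x * z = z * x := fun x hx =>
    congrArg Subtype.val (Subgroup.mem_center_iff.1 z'.2 ⟨x, hx⟩)
  have hzord : orderOf z = 2 := by rw [hzdef, Subgroup.orderOf_coe, Subgroup.orderOf_coe, hz']
  have hz1 : z ≠ 1 := fun h => by rw [h, orderOf_one] at hzord; omega
  have hz2 : z * z = 1 := by rw [← pow_two, ← hzord, pow_orderOf_eq_one]
  have hdec : ∀ g : G, ∃ n : ↥N, ∃ x ∈ P, (n : G) * x = g := fun g => by
    obtain ⟨n, hn, x, hx, rfl⟩ := Subgroup.mem_sup_of_normal_left.1 (hprod ▸ Subgroup.mem_top g)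
    exact ⟨⟨n, hn⟩, x, hx, rfl⟩
  have hbot : ∀ x ∈ P, (∀ n ∈ N, x * n = n * x) → x = 1 := by
    by_contra hne
    push Not at hne
    obtain ⟨x, hxP, hxN, hx1⟩ := hne
    set C := P ⊓ Subgroup.centralizer (N : Set G) with hC
    have hCn : C.Normal := by
      refine ⟨fun c hc g => ?_⟩
      obtain ⟨n, y, hy, rfl⟩ := hdec g
      have h1 : y * c * y⁻¹ ∈ C := ⟨P.mul_mem (P.mul_mem hy hc.1) (P.inv_mem hy),
        (inferInstance : (Subgroup.centralizer (N : Set G)).Normal).conj_mem c hc.2 y⟩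
      have h2 : (n : G) * (y * c * y⁻¹) * (n : G)⁻¹ = y * c * y⁻¹ := by
        rw [Subgroup.mem_centralizer_iff.1 h1.2 n n.2, mul_inv_cancel_right]
      have h3 : (n : G) * y * c * ((n : G) * y)⁻¹ = (n : G) * (y * c * y⁻¹) * (n : G)⁻¹ := by group
      rw [h3, h2]; exact h1
    have hCne : C ≠ ⊥ := fun h => hx1 (Subgroup.mem_bot.1
      (h ▸ ⟨hxP, Subgroup.mem_centralizer_iff.2 fun n hn => (hxN n hn).symm⟩))
    exact hmin.1 (le_bot_iff.1 ((le_inf le_rfl ((hmin.2 C hCn hCne).trans inf_le_left)).trans hdisj.le))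
  have hinv : ∀ n ∈ N, z * n * z⁻¹ = n⁻¹ := by
    have hA : N ⊓ Subgroup.centralizer ({z} : Set G) = ⊥ := by
      by_contra hne
      have hAn : (N ⊓ Subgroup.centralizer ({z} : Set G)).Normal := by
        refine ⟨fun a ha g => ?_⟩
        obtain ⟨n, y, hy, rfl⟩ := hdec g
        have h0 : y * a * y⁻¹ ∈ N := hN.conj_mem a ha.1 y
        have h1 : (n : G) * y * a * ((n : G) * y)⁻¹ = y * a * y⁻¹ := by
          calc (n : G) * y * a * ((n : G) * y)⁻¹ = (n : G) * (y * a * y⁻¹) * (n : G)⁻¹ := by group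
            _ = _ := by rw [hcomm n n.2 _ h0, mul_inv_cancel_right]
        rw [h1]
        refine ⟨h0, Subgroup.mem_centralizer_singleton_iff.2 ?_⟩
        have haz : a * z = z * a := Subgroup.mem_centralizer_singleton_iff.1 ha.2
        have hyz : y⁻¹ * z = z * y⁻¹ := hzc _ (P.inv_mem hy)
        calc y * a * y⁻¹ * z = y * (a * z) * y⁻¹ := by simp only [mul_assoc, hyz]
          _ = y * z * a * y⁻¹ := by rw [haz]; group
          _ = z * (y * a * y⁻¹) := by rw [hzc y hy]; group
      exact hz1 (hbot z hzP fun n hn => (Subgroup.mem_centralizer_singleton_iff.1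
        ((hmin.2 _ hAn hne hn).2)).symm)
    intro n hn
    have h0 : z * n * z⁻¹ ∈ N := hN.conj_mem n hn z
    have h1 : n * (z * n * z⁻¹) ∈ N ⊓ Subgroup.centralizer ({z} : Set G) := by
      refine ⟨N.mul_mem hn h0, Subgroup.mem_centralizer_singleton_iff.2 ?_⟩
      have hzinv : z⁻¹ = z := inv_eq_of_mul_eq_one_right hz2
      have h2 := hcomm n hn _ h0
      rw [hzinv] at h2 ⊢
      calc n * (z * n * z) * z = n * z * n * (z * z) := by group
        _ = z * (z * n * z * n) := by rw [hz2, mul_one, ← mul_assoc, ← mul_assoc, ← mul_assoc, hz2, one_mul]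
        _ = z * (n * (z * n * z)) := by rw [h2]
    rw [hA, Subgroup.mem_bot] at h1
    exact eq_inv_of_mul_eq_one_right h1
  have hNG : N ≤ commutator G := by
    intro n hn
    obtain ⟨m, hm⟩ := (powCoprime (Nat.coprime_two_right.2 hoddN : (Nat.card N).Coprime 2)).surjective ⟨n, hn⟩
    have e : n = ⁅(m : G), z⁆ := by
      rw [commutatorElement_def]
      have h2 : z * (m : G)⁻¹ * z⁻¹ = m := by rw [hinv _ (N.inv_mem m.2), inv_inv]
      have h3 : (m : G) * m = n := by
        simpa [pow_two] using congrArg Subtype.val hm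
      calc n = (m : G) * (z * (m : G)⁻¹ * z⁻¹) := by rw [h2, h3]
        _ = _ := by group
    rw [e, commutator_def]
    exact Subgroup.commutator_mem_commutator (Subgroup.mem_top _) (Subgroup.mem_top _)
  obtain ⟨lam, ⟨a₀, ha₀⟩⟩ : ∃ lam : ↥N →* ℂ, ∃ n, lam n ≠ 1 := by
    by_contra hno
    push Not at hno
    obtain ⟨n, hn, hn1⟩ := (Subgroup.bot_or_exists_ne_one N).resolve_left hmin.1
    refine hn1 ?_
    have hc : IsConj (⟨n, hn⟩ : ↥N) 1 := (Char.isConj_iff_irr _ _).2 fun χ => by
      have hd := Char.apply_one_eq_one_of_comm (fun a b : ↥N => Subtype.ext (hcomm _ a.2 _ b.2)) χ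
      obtain ⟨l, hl⟩ := Char.exists_hom_of_degree_one (Char.IsIrrCharacter.isCharacter χ.2) hd
      rw [← hl, hno l, map_one]
    obtain ⟨c, hc⟩ := isConj_iff.1 hc
    have := congrArg Subtype.val hc
    simp only [Subgroup.coe_mul, Subgroup.coe_inv, OneMemClass.coe_one] at this
    rw [hcomm _ c.2 _ hn, mul_inv_cancel_right] at this
    exact this
  have hφ : IsIrrCharacter ↥N (lam : ↥N → ℂ) := isIrrCharacter_of_hom lam
  set I := CharApp.inertia N (lam : ↥N → ℂ) with hI
  haveI := Fintype.ofFinite I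
  have hNI : N ≤ I := CharApp.le_inertia N (Char.IsIrrCharacter.isClassFunction hφ)
  have hconj : ∀ n : ↥N, lam n⁻¹ = conj (lam n) := fun n =>
    IsCharacter.apply_inv (isCharacter_of_hom lam) n
  have hzI : z ∉ I := by
    rw [hI, CharApp.mem_inertia_iff]
    intro h
    obtain ⟨m, hm⟩ := (powCoprime (Nat.coprime_two_right.2 hoddN : (Nat.card N).Coprime 2)).surjective a₀
    have h1 := h m
    rw [show (⟨z * m * z⁻¹, _⟩ : ↥N) = m⁻¹ from Subtype.ext (hinv m m.2)] at h1
    refine ha₀ ?_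
    rw [← hm, powCoprime_apply, pow_two, map_mul]
    conv_lhs => arg 1; rw [← h1]
    rw [← map_mul, inv_mul_cancel, map_one]
  have hidx : 2 ∣ I.index := by
    have h1 : I.index ∣ Nat.card P := by
      refine (Subgroup.index_dvd_of_le hNI).trans ?_
      refine Dvd.intro_left 1 ?_
      rw [one_mul]
      exact (Subgroup.IsComplement'.index_eq_card
        (Subgroup.isComplement'_of_disjoint_and_mul_eq_univ (disjoint_iff.2 hdisj)
          (by rw [← Subgroup.normal_mul, hprod]; rfl)).symm)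
    obtain ⟨j, hj⟩ := hP.exists_card_eq
    rw [hj] at h1
    obtain ⟨i, -, hi⟩ := (Nat.dvd_prime_pow Nat.prime_two).1 h1
    rcases i with _ | i
    · rw [pow_zero, Subgroup.index_eq_one] at hi
      exact absurd (hi ▸ Subgroup.mem_top z) hzI
    · rw [hi]; exact dvd_pow_self 2 (by omega)
  -- the extension of `lam` to its inertia group
  choose nf xf hxf hnx using hdec
  have huniq : ∀ (n : ↥N) (x : G), x ∈ P → nf ((n : G) * x) = n := by
    intro n x hx
    have h := hnx ((n : G) * x)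
    have h1 : (n : G)⁻¹ * nf ((n : G) * x) = x * (xf ((n : G) * x))⁻¹ := by
      rw [eq_mul_inv_iff_mul_eq, mul_assoc, h, inv_mul_cancel_left]
    have h2 : (n : G)⁻¹ * nf ((n : G) * x) ∈ N ⊓ P :=
      ⟨N.mul_mem (N.inv_mem n.2) (Subtype.coe_prop _), h1 ▸ P.mul_mem hx (P.inv_mem (hxf _))⟩
    rw [hdisj, Subgroup.mem_bot, inv_mul_eq_one] at h2
    exact Subtype.ext h2.symm
  let ψh : ↥I →* ℂ :=
    { toFun := fun i => lam (nf i)
      map_one' := by
        have := huniq 1 1 P.one_mem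
        rw [OneMemClass.coe_one, mul_one] at this
        rw [OneMemClass.coe_one, this, map_one]
      map_mul' := fun i j => by
        have hxI : xf i ∈ I := by
          have : xf i = (nf i : G)⁻¹ * i := by rw [eq_inv_mul_iff_mul_eq, hnx]
          rw [this]
          exact I.mul_mem (I.inv_mem (hNI (Subtype.coe_prop _))) i.2
        have e : ((i * j : ↥I) : G) = ((nf i * ⟨xf i * nf j * (xf i)⁻¹,
            hN.conj_mem _ (Subtype.coe_prop _) _⟩ : ↥N) : G) * (xf i * xf j) := by
          rw [Subgroup.coe_mul, Subgroup.coe_mul]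
          conv_lhs => rw [← hnx i, ← hnx j]
          group
        rw [e, huniq _ _ (P.mul_mem (hxf _) (hxf _)), map_mul,
          (CharApp.mem_inertia_iff N).1 hxI (nf j)] }
  have hψN : ∀ n : ↥N, ψh (Subgroup.inclusion hNI n) = lam n := fun n => by
    show lam (nf (n : G)) = lam n
    have := huniq n 1 P.one_mem
    rw [mul_one] at this
    rw [this]
  have hψ : IsIrrCharacter ↥I (ψh : ↥I → ℂ) := isIrrCharacter_of_hom ψh
  have hkey : ∀ g : G, z * g * z⁻¹ ∈ I ↔ g ∈ I := by
    intro g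
    rw [hI, CharApp.mem_inertia_iff, CharApp.mem_inertia_iff]
    refine forall_congr' fun n => ?_
    have e : z * g * z⁻¹ * n * (z * g * z⁻¹)⁻¹ = g * n * g⁻¹ := by
      have h1 : z⁻¹ * n * z = (n : G)⁻¹ := by
        rw [show z⁻¹ = z from inv_eq_of_mul_eq_one_right hz2]
        have := hinv n n.2
        rwa [show z⁻¹ = z from inv_eq_of_mul_eq_one_right hz2] at this
      calc z * g * z⁻¹ * n * (z * g * z⁻¹)⁻¹ = z * (g * (z⁻¹ * n * z) * g⁻¹) * z⁻¹ := by group
        _ = z * (g * n * g⁻¹)⁻¹ * z⁻¹ := by rw [h1]; group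
        _ = _ := by rw [hinv _ (N.inv_mem (hN.conj_mem _ n.2 g)), inv_inv]
    rw [show (⟨z * g * z⁻¹ * n * (z * g * z⁻¹)⁻¹, _⟩ : ↥N) = ⟨g * n * g⁻¹, hN.conj_mem n n.2 g⟩ from
      Subtype.ext e]
  let Lp : IrrCharacter G → Prop := fun χ => Cfsg.charDegree (χ : G → ℂ) = 1 ∧
    (Nat.card G : ℂ)⁻¹ * ∑ᶠ g : G, (χ : G → ℂ) (g * g) = 1
  let Qp : IrrCharacter G → Prop := fun χ => Cfsg.charDegree (χ : G → ℂ) = I.index ∧
    (Nat.card G : ℂ)⁻¹ * ∑ᶠ g : G, (χ : G → ℂ) (g * g) = 1
  have hmain : Nat.card {χ : IrrCharacter G // Lp χ} ≤ I.index * Nat.card {χ : IrrCharacter G // Qp χ} := by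
    refine CliffordChar.card_le_of_twist N I hNG hφ hI hNI hψ hψN _ _
      (fun χ hχ => by rw [CharApp.DegreeSets.apply_one χ.2, hχ.1, Nat.cast_one]) fun χ h hχ => ⟨?_, ?_⟩
    · refine Nat.cast_injective (R := ℂ) ?_
      show (Cfsg.charDegree (indFun I fun i : I => ψh i * (χ : G → ℂ) i) : ℂ) = _
      rw [← CharApp.DegreeSets.apply_one h, Char.indFun_one_apply]
      show (I.index : ℂ) * (ψh 1 * (χ : G → ℂ) 1) = _
      rw [map_one, CharApp.DegreeSets.apply_one χ.2, hχ.1, Nat.cast_one, mul_one, mul_one]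
    · obtain ⟨hd, hν⟩ := hχ
      rw [FSInd.fsInd_eq_finsum] at hν ⊢
      obtain ⟨l, hl⟩ := Char.exists_hom_of_degree_one (Char.IsIrrCharacter.isCharacter χ.2)
        (by rw [CharApp.DegreeSets.apply_one χ.2, hd, Nat.cast_one])
      have hχreal := FSInd.real_of_fsInd_ne_zero χ.2 (by rw [hν]; exact one_ne_zero)
      show FSInd.fsInd (indFun I fun i : I => ψh i * (χ : G → ℂ) i) = 1
      set Ψ : ↥I → ℂ := fun i => ψh i * (χ : G → ℂ) i with hΨ
      have hz' : ∀ y : G, conj (extendByZero I Ψ y) = extendByZero I Ψ (z * y * z⁻¹) := by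
        intro y
        by_cases hy : y ∈ I
        · rw [extendByZero_mem _ _ hy, extendByZero_mem _ _ ((hkey y).2 hy)]
          show conj (lam (nf y) * (χ : G → ℂ) y) = lam (nf (z * y * z⁻¹)) * (χ : G → ℂ) (z * y * z⁻¹)
          have e : z * y * z⁻¹ = (((nf y)⁻¹ : ↥N) : G) * xf y := by
            conv_lhs => rw [← hnx y]
            rw [Subgroup.coe_inv, ← hinv _ (nf y).2,
              show z * ((nf y : G) * xf y) * z⁻¹ = (z * nf y * z⁻¹) * (z * xf y * z⁻¹) by group,
              ← hzc _ (hxf y), mul_inv_cancel_right]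
          rw [map_mul, Complex.conj_eq_iff_im.2 (hχreal y),
            Char.IsIrrCharacter.isClassFunction χ.2 y z, e, huniq _ _ (hxf y), hconj]
        · rw [extendByZero_not_mem _ _ hy, extendByZero_not_mem _ _ (mt (hkey y).1 hy), map_zero]
      have hreal : ∀ g : G, ((indFun I Ψ) g).im = 0 := by
        intro g
        rw [← Complex.conj_eq_iff_im]
        simp only [indFun, map_mul, map_inv₀, map_natCast, map_sum, hz']
        congr 1
        refine Fintype.sum_equiv (Equiv.mulRight z⁻¹) _ _ fun x => ?_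
        simp [mul_assoc]
      have hΨN : (fun n : ↥N => Ψ ⟨(n : G), hNI n.2⟩) = (lam : ↥N → ℂ) := funext fun n => by
        show ψh (Subgroup.inclusion hNI n) * (χ : G → ℂ) n = lam n
        rw [hψN, ← hl, CliffordChar.hom_apply_of_le_commutator hNG l n.2, mul_one]
      have hirr : IsIrrCharacter ↥I Ψ := by
        have := IsIrrCharacter.mul_linear hψ (l.comp I.subtype)
        rw [hΨ, ← hl]; exact this
      have hcc := (CharApp.clifford_correspondence N hφ hirr (by
        show classInner (fun n : ↥N => Ψ ⟨(n : G), hNI n.2⟩) (lam : ↥N → ℂ) ≠ 0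
        rw [hΨN, classInner_irr_self hφ]; exact one_ne_zero)).2.1
      replace hcc : classInner (fun n : ↥N => indFun I Ψ n) (lam : ↥N → ℂ) = 1 :=
        hcc.trans (by
          show classInner (fun n : ↥N => Ψ ⟨(n : G), hNI n.2⟩) (lam : ↥N → ℂ) = 1
          rw [hΨN, classInner_irr_self hφ])
      -- restrict to `N⟨z⟩`
      set H := N ⊔ Subgroup.zpowers z with hH
      have hNH : N ≤ H := le_sup_left
      haveI := Fintype.ofFinite H
      haveI := Fintype.ofFinite (N.subgroupOf H)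
      have hzH : z ∈ H := Subgroup.mem_sup_right (Subgroup.mem_zpowers z)
      let e := Subgroup.subgroupOfEquivOfLe hNH
      have hzN : z ∉ N := fun hh => hz1 (Subgroup.mem_bot.1 (hdisj ▸ ⟨hh, hzP⟩))
      obtain ⟨d1, d2, d3⟩ := dihedral_char (N.subgroupOf H) ⟨z, hzH⟩ hzN (Subtype.ext hz2)
        (fun ⟨w, hw⟩ => by
          obtain ⟨n, hn, u, hu, rfl⟩ := Subgroup.mem_sup_of_normal_left.1 hw
          obtain ⟨i, rfl⟩ := Subgroup.mem_zpowers_iff.1 hu
          rcases Int.even_or_odd' i with ⟨j, rfl | rfl⟩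
          · left
            show n * z ^ (2 * j) ∈ N
            rwa [zpow_mul, zpow_two, hz2, one_zpow, mul_one]
          · right
            show n * z ^ (2 * j + 1) * z ∈ N
            rwa [zpow_add, zpow_mul, zpow_two, hz2, one_zpow, one_mul, zpow_one, mul_assoc, hz2, mul_one])
        (fun n hn => Subtype.ext (hinv _ hn))
        (by rwa [Nat.card_congr e.toEquiv]) (lam.comp e.toMonoidHom) ⟨e.symm a₀, by simpa using ha₀⟩
      have hmult : classInner (fun w : H => indFun I Ψ w)
          (indFun (N.subgroupOf H) (lam.comp e.toMonoidHom : ↥(N.subgroupOf H) → ℂ)) = 1 := by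
        rw [Char.frobenius_reciprocity' (N.subgroupOf H) _
          (Char.IsCharacter.isClassFunction (Char.IsCharacter.restrict (Char.IsIrrCharacter.isCharacter h) H))]
        exact (classInner_comp_equiv e (fun n : ↥N => indFun I Ψ n) (lam : ↥N → ℂ)).trans hcc
      rw [FSInd.fsInd_eq_of_restrict H h hreal d1 d2 hmult, d3]
  -- counting
  let S := {χ : IrrCharacter G // (Cfsg.charDegree (χ : G → ℂ) = 1 ∨ 2 ∣ Cfsg.charDegree (χ : G → ℂ)) ∧
    (Nat.card G : ℂ)⁻¹ * ∑ᶠ g : G, (χ : G → ℂ) (g * g) = 1}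
  haveI := Fintype.ofFinite S
  have hL : Nat.card {χ : IrrCharacter G // Lp χ} =
      (Finset.univ.filter fun s : S => Cfsg.charDegree (s.1 : G → ℂ) = 1).card := by
    rw [← Fintype.card_subtype, ← Nat.card_eq_fintype_card]
    exact Nat.card_congr
      { toFun := fun x => ⟨⟨x.1, Or.inl x.2.1, x.2.2⟩, x.2.1⟩
        invFun := fun x => ⟨x.1.1, x.2, x.1.2.2⟩
        left_inv := fun x => rfl
        right_inv := fun x => rfl }
  have hQ : Nat.card {χ : IrrCharacter G // Qp χ} =
      (Finset.univ.filter fun s : S => Cfsg.charDegree (s.1 : G → ℂ) = I.index).card := by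
    rw [← Fintype.card_subtype, ← Nat.card_eq_fintype_card]
    exact Nat.card_congr
      { toFun := fun x => ⟨⟨x.1, Or.inr (x.2.1 ▸ hidx), x.2.2⟩, x.2.1⟩
        invFun := fun x => ⟨x.1.1, x.2, x.1.2.2⟩
        left_inv := fun x => rfl
        right_inv := fun x => rfl }
  have hsum : ∑ s : S, (4 + if Cfsg.charDegree (s.1 : G → ℂ) = I.index then I.index else 0) ≤
      ∑ s : S, (3 * Cfsg.charDegree (s.1 : G → ℂ) +
        if Cfsg.charDegree (s.1 : G → ℂ) = 1 then 1 else 0) := by
    refine Finset.sum_le_sum fun s _ => ?_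
    obtain ⟨i, hi⟩ := hidx
    rcases s.2.1 with h1 | ⟨j, hj⟩
    · rw [h1, if_neg (by omega), if_pos rfl]
    · have hpos : 0 < Cfsg.charDegree (s.1 : G → ℂ) := Nat.pos_of_ne_zero fun h0 => by
        have h2 := CharApp.DegreeSets.apply_one s.1.2
        rw [h0, Nat.cast_zero] at h2
        exact Char.IsIrrCharacter.apply_one_ne_zero s.1.2 h2
      split_ifs <;> omega
  rw [Finset.sum_add_distrib, Finset.sum_add_distrib, ← Finset.mul_sum, Finset.sum_boole,
    ← Finset.sum_filter, Finset.sum_const, Finset.sum_const, Finset.card_univ, smul_eq_mul,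
    smul_eq_mul, Nat.cast_id, ← hL, ← hQ, ← Nat.card_eq_fintype_card] at hsum
  rw [mul_comm] at hmain
  change 4 * Nat.card S ≤ 3 * ∑ᶠ s : S, Cfsg.charDegree (s.1 : G → ℂ)
  rw [finsum_eq_sum_of_fintype]
  omega

end Cfsg.Agent.S4871
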