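import Cfsg.Statements.S4872
import Cfsg.Agent.EqLemmas
import Cfsg.Agent.Lib.FSInd.OddFixed
import Cfsg.Agent.Lib.Blocks.Defect
import Cfsg.Agent.Lib.Blocks.Induced
import Cfsg.Agent.Lib.CharApp.Clifford
import Cfsg.Agent.Lib.RealBlock.GaloisFixed
import Cfsg.Agent.Lib.PReduced.Basic
import Cfsg.Agent.S0887
import Cfsg.Agent.Lib.Transfer.Residual

set_option autoImplicit false
open Cfsg

namespace Cfsg.Agent.S4872

/-- Let N be a normal subgroup of the finite group G with G/N a 2-group, and let φ be an irreducible complex character of N of 2-defect zero (the 2-part of #N divides φ(1)) whose complex conjugate is G-conjugate to φ. Then some irreducible character of G with Frobenius–Schur indicator +1 contains φ with multiplicity exactly one on restriction to N. -/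
theorem result {G : Type*} [Group G] [Finite G] (N : Subgroup G) [N.Normal] (h2 : IsPGroup 2 (G ⧸ N)) (φ : Cfsg.IrrCharacter ↥N) (hdef : 2 ^ (Nat.card ↥N).factorization 2 ∣ Cfsg.charDegree (φ : ↥N → ℂ)) (hconj : ∃ g : G, ∀ n n' : ↥N, (n' : G) = g * (n : G) * g⁻¹ → (φ : ↥N → ℂ) n' = (starRingEnd ℂ) ((φ : ↥N → ℂ) n)) : ∃ χ : Cfsg.IrrCharacter G, (Nat.card G : ℂ)⁻¹ * ∑ᶠ g : G, (χ : G → ℂ) (g * g) = 1 ∧ (Nat.card ↥N : ℂ)⁻¹ * ∑ᶠ n : ↥N, (χ : G → ℂ) n * (starRingEnd ℂ) ((φ : ↥N → ℂ) n) = 1 := by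
  classical
  obtain ⟨g₀, hg₀⟩ := hconj
  haveI := Fintype.ofFinite G
  haveI := Fintype.ofFinite ↥N
  haveI := Fintype.ofFinite (Cfsg.IrrCharacter G)
  haveI : Fact (Nat.Prime 2) := ⟨Nat.prime_two⟩
  obtain ⟨M, hM⟩ := Blocks.exists_isPModular Nat.prime_two
  obtain ⟨P⟩ : Nonempty (Sylow 2 G) := inferInstance
  haveI := Fintype.ofFinite (P : Subgroup G)
  -- the Sylow subgroup of `N`
  have hodd : ¬ 2 ∣ (P : Subgroup G).relIndex N := fun h =>
    (Nat.prime_two.coprime_iff_not_dvd.mp (PReduced.sylow_relIndex_coprime P N).symm) h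
  set H0 := (P : Subgroup G).subgroupOf N with hH0
  have hH0p : IsPGroup 2 H0 := P.2.comap_subtype
  obtain ⟨v, hv⟩ := IsPGroup.iff_card.mp hH0p
  have hcardN : Nat.card H0 * (P : Subgroup G).relIndex N = Nat.card N := H0.card_mul_index
  have hfac : (Nat.card N).factorization 2 = v := by
    rw [← hcardN, hv, Nat.factorization_mul (pow_ne_zero _ two_ne_zero) (fun h => hodd (by rw [h]; exact dvd_zero 2)),
      Finsupp.add_apply, Nat.Prime.factorization_pow Nat.prime_two, Finsupp.single_eq_same,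
      Nat.factorization_eq_zero_of_not_dvd hodd, add_zero]
  rw [hfac] at hdef
  obtain ⟨a, ha⟩ := hdef
  have haodd : ¬ 2 ∣ a := by
    intro h
    have := Blocks.charDegree_dvd_card φ
    rw [ha, ← hcardN, hv] at this
    exact hodd (h.trans ((Nat.mul_dvd_mul_iff_left (pow_pos two_pos v)).mp this))
  have hvan : ∀ y : N, 2 ∣ orderOf y → (φ : ↥N → ℂ) y = 0 := by
    intro y hy
    refine Blocks.apply_eq_zero_of_singleton hM ((Blocks.singleton_iff_not_dvd hM φ).mp ?_) hy
    rw [ha, ← hcardN, hv, Nat.mul_div_mul_left _ _ (pow_pos two_pos v)]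
    intro h
    obtain ⟨b, hb⟩ : a ∣ (P : Subgroup G).relIndex N := by
      have := Blocks.charDegree_dvd_card φ
      rw [ha, ← hcardN, hv] at this
      exact (Nat.mul_dvd_mul_iff_left (pow_pos two_pos v)).mp this
    have ha0 : 0 < a := Nat.pos_of_ne_zero fun h0 => haodd (h0 ▸ dvd_zero 2)
    rw [hb, Nat.mul_div_cancel_left _ ha0] at h
    exact hodd (hb ▸ h.mul_left a)
  -- the permutation character
  set π : G → ℂ := Cfsg.indFun (P : Subgroup G) (1 : ↥(P : Subgroup G) → ℂ) with hπdef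
  have hπ : Cfsg.IsCharacter G π := Char.IsCharacter.indFun _ Char.isCharacter_one
  have hπN : Cfsg.classInner (fun n : N => π n) (φ : ↥N → ℂ) = (a : ℂ) := by
    have key : ∀ x : G, ∑ n : N, Cfsg.extendByZero (P : Subgroup G) (1 : ↥(P : Subgroup G) → ℂ)
        (x⁻¹ * n * x) * (starRingEnd ℂ) ((φ : ↥N → ℂ) n) = (Cfsg.charDegree (φ : ↥N → ℂ) : ℂ) := by
      intro x
      rw [Finset.sum_eq_single (1 : N)]
      · rw [Char.extendByZero_mem _ _ (by simp), Pi.one_apply, one_mul,
          ← Blocks.charDegree_cast φ, Complex.conj_natCast]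
      · intro n _ hn
        by_cases hmem : x⁻¹ * (n : G) * x ∈ (P : Subgroup G)
        · have h0 : 2 ∣ orderOf n := by
            obtain ⟨j, hj⟩ := IsPGroup.iff_orderOf.mp P.2 ⟨x⁻¹ * (n : G) * x, hmem⟩
            have hconjord : orderOf (x⁻¹ * (n : G) * x) = orderOf n := by
              rw [← Subgroup.orderOf_coe n]
              simpa using (MulAut.conj x⁻¹).orderOf_eq (n : G)
            rw [Subgroup.orderOf_mk, hconjord] at hj
            rcases j with _ | j
            · rw [pow_zero, orderOf_eq_one_iff] at hj; exact absurd hj hn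
            · rw [hj]; exact dvd_pow_self 2 (by omega)
          rw [hvan n h0, map_zero, mul_zero]
        · rw [Char.extendByZero_not_mem _ _ hmem, zero_mul]
      · exact fun h => absurd (Finset.mem_univ _) h
    have hswap : Cfsg.classInner (fun n : N => π n) (φ : ↥N → ℂ) =
        (Nat.card N : ℂ)⁻¹ * (Nat.card (P : Subgroup G) : ℂ)⁻¹ *
          ∑ _x : G, (Cfsg.charDegree (φ : ↥N → ℂ) : ℂ) := by
      simp only [Cfsg.classInner, hπdef, Cfsg.indFun, mul_assoc]
      rw [← Finset.sum_congr rfl fun x _ => key x, Finset.sum_comm]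
      simp only [Finset.mul_sum, Finset.sum_mul, mul_assoc]
    rw [hswap]
    rw [Finset.sum_const, Finset.card_univ, ← Nat.card_eq_fintype_card, ha,
      nsmul_eq_mul, Nat.cast_mul, Nat.cast_pow]
    have hN2 := congrArg (Nat.cast (R := ℂ)) hcardN
    rw [hv, Nat.cast_mul, Nat.cast_pow] at hN2
    have hG : (Nat.card G : ℂ) = (Nat.card (P : Subgroup G) : ℂ) * ((P : Subgroup G).relIndex N : ℂ) := by
      have hsup : (P : Subgroup G) ⊔ N = ⊤ := by
        obtain ⟨k, hk⟩ := IsPGroup.iff_card.mp h2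
        exact Transfer.sup_eq_top_of_index P.not_dvd_index (k := k) hk
      have : (P : Subgroup G).relIndex N = (P : Subgroup G).index := by
        have e1 := Subgroup.relIndex_mul_index (inf_le_left : (P : Subgroup G) ⊓ N ≤ P)
        have e2 := Subgroup.relIndex_mul_index (inf_le_right : (P : Subgroup G) ⊓ N ≤ N)
        rw [Subgroup.inf_relIndex_left] at e1
        rw [Subgroup.inf_relIndex_right] at e2
        have e3 : N.relIndex (P : Subgroup G) = N.index := by
          rw [← Subgroup.relIndex_sup_right (H := (P : Subgroup G)) (K := N), hsup,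
            Subgroup.relIndex_top_right]
        rw [e3] at e1
        have h0 : 0 < N.index := Nat.pos_of_ne_zero Subgroup.index_ne_zero_of_finite
        exact Nat.eq_of_mul_eq_mul_right h0 (by rw [e2, ← e1, mul_comm])
      rw [this, ← Nat.cast_mul, Subgroup.card_mul_index]
    rw [hG, ← hN2]
    have h1 : ((P : Subgroup G).relIndex N : ℂ) ≠ 0 :=
      Nat.cast_ne_zero.mpr fun h => hodd (h ▸ dvd_zero 2)
    have h3 : (Nat.card (P : Subgroup G) : ℂ) ≠ 0 := Nat.cast_ne_zero.mpr Nat.card_pos.ne'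
    push_cast
    field_simp
  -- real constituents with both multiplicities odd
  obtain ⟨c, hc, hcn⟩ := Char.IsCharacter.decompose hπ
  choose e he using fun χ : Cfsg.IrrCharacter G => Char.IsCharacter.classInner_nat
    (Char.IsCharacter.restrict (Char.IsIrrCharacter.isCharacter χ.2) N)
    (Char.IsIrrCharacter.isCharacter φ.2)
  have hsum : a = ∑ χ, c χ * e χ := by
    have h1 : (fun n : N => π n) = ∑ χ : Cfsg.IrrCharacter G, (c χ : ℂ) • fun n : N => (χ : G → ℂ) n := by
      funext n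
      have := congrFun hc (n : G)
      simpa [Finset.sum_apply] using this
    rw [h1, Char.classInner_sum_left] at hπN
    simp only [Char.classInner_smul_left, he] at hπN
    exact_mod_cast hπN.symm
  let bar : Equiv.Perm (Cfsg.IrrCharacter G) :=
    Function.Involutive.toPerm (fun χ => ⟨fun g => (starRingEnd ℂ) ((χ : G → ℂ) g),
      Char.IsIrrCharacter.conj χ.2⟩) fun χ => Subtype.ext (funext fun g => Complex.conj_conj _)
  have hbar : ∀ χ g, ((bar χ : Cfsg.IrrCharacter G) : G → ℂ) g = (starRingEnd ℂ) ((χ : G → ℂ) g) :=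
    fun χ g => rfl
  have hπreal : ∀ g, (starRingEnd ℂ) (π g) = π g := by
    intro g
    simp only [hπdef, Cfsg.indFun, map_mul, map_inv₀, Complex.conj_natCast, map_sum]
    congr 1
    refine Finset.sum_congr rfl fun x _ => ?_
    by_cases h : x⁻¹ * g * x ∈ (P : Subgroup G)
    · rw [Char.extendByZero_mem _ _ h]; simp
    · rw [Char.extendByZero_not_mem _ _ h, map_zero]
  have hcbar : ∀ χ, c (bar χ) = c χ := by
    intro χ
    have h1 : Cfsg.classInner π (bar χ : G → ℂ) = (starRingEnd ℂ) (Cfsg.classInner π (χ : G → ℂ)) := by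
      simp only [Cfsg.classInner, hbar, map_mul, map_inv₀, Complex.conj_natCast, map_sum, hπreal]
    rw [hcn, hcn, Complex.conj_natCast] at h1
    exact_mod_cast h1
  have hebar : ∀ χ, e (bar χ) = e χ := by
    intro χ
    have h1 : CliffordChar.conjFun N g₀⁻¹ (φ : ↥N → ℂ) = fun n => (starRingEnd ℂ) ((φ : ↥N → ℂ) n) := by
      funext n
      rw [CliffordChar.conjFun_apply]
      exact hg₀ n _ (by simp)
    have h2 := CliffordChar.classInner_restrict_conjFun N (Char.IsIrrCharacter.isClassFunction χ.2)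
      g₀⁻¹ (φ : ↥N → ℂ)
    rw [h1, he] at h2
    have h3 : Cfsg.classInner (fun n : N => ((bar χ : Cfsg.IrrCharacter G) : G → ℂ) n) (φ : ↥N → ℂ) =
        (starRingEnd ℂ) (Cfsg.classInner (fun n : N => (χ : G → ℂ) n)
          fun n => (starRingEnd ℂ) ((φ : ↥N → ℂ) n)) := by
      simp only [Cfsg.classInner, hbar, map_mul, map_inv₀, Complex.conj_natCast, map_sum,
        Complex.conj_conj]
    rw [he, h2, Complex.conj_natCast] at h3
    exact_mod_cast h3
  have hmod := RealBlock.sum_modEq_fixed bar (m := 1)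
    (by rw [pow_one, pow_two]; exact Equiv.ext fun χ => Subtype.ext (funext fun g => Complex.conj_conj _))
    (fun χ => c χ * e χ) fun χ => by rw [hcbar, hebar]
  obtain ⟨χ, hχf, hχ2⟩ : ∃ χ ∈ Finset.univ.filter (fun χ => bar χ = χ), ¬ 2 ∣ c χ * e χ := by
    by_contra hne
    push Not at hne
    rw [← hsum] at hmod
    exact haodd (Nat.dvd_of_mod_eq_zero (Eq.trans hmod (Nat.mod_eq_zero_of_dvd (Finset.dvd_sum hne))))
  have hreal : ∀ g, ((χ : G → ℂ) g).im = 0 := fun g => Complex.conj_eq_iff_im.mp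
    (congrFun (congrArg Subtype.val (Finset.mem_filter.mp hχf).2) g)
  have he2 : ¬ 2 ∣ e χ := fun h => hχ2 (h.mul_left _)
  have hc2 : Odd (c χ) :=
    Nat.not_even_iff_odd.mp fun h => hχ2 ((even_iff_two_dvd.mp h).mul_right _)
  have hne : Cfsg.classInner (fun n : N => (χ : G → ℂ) n) (φ : ↥N → ℂ) ≠ 0 := by
    rw [he]; exact_mod_cast fun h : e χ = 0 => he2 (h ▸ dvd_zero 2)
  have hdeg := CharApp.restrict_degree N χ.2 φ.2 hne
  rw [he, ← Blocks.charDegree_cast χ, ← Blocks.charDegree_cast φ] at hdeg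
  have hdeg' : Cfsg.charDegree (χ : G → ℂ) =
      Cfsg.charDegree (φ : ↥N → ℂ) * (e χ * (CharApp.inertia N (φ : ↥N → ℂ)).index) := by
    rw [mul_comm (Cfsg.charDegree (φ : ↥N → ℂ))]
    exact_mod_cast hdeg
  obtain ⟨-, hdvd⟩ := S0887.result N _ χ.2 _ φ.2 hne _ _ (Blocks.charDegree_cast χ).symm
    (Blocks.charDegree_cast φ).symm
  rw [hdeg', Nat.mul_div_cancel_left _ (Blocks.charDegree_pos φ)] at hdvd
  obtain ⟨k, hk⟩ := IsPGroup.iff_card.mp h2
  rw [N.index_eq_card, hk] at hdvd
  obtain ⟨j, -, hj⟩ := (Nat.dvd_prime_pow Nat.prime_two).mp (dvd_of_mul_right_dvd hdvd)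
  have he1 : e χ = 1 := by
    rcases j with _ | j
    · simpa using hj
    · exact absurd (hj ▸ dvd_pow_self 2 (by omega)) he2
  refine ⟨χ, ?_, ?_⟩
  · rw [FSInd.fsInd_eq_finsum]
    refine FSInd.fsInd_eq_one_of_odd_fixed (P : Subgroup G) χ.2 hreal (e := c χ) ?_ hc2
    rw [← Char.frobenius_reciprocity' (P : Subgroup G) _ (Char.IsIrrCharacter.isClassFunction χ.2)]
    exact CharApp.classInner_comm_of_nat (hcn χ)
  · rw [finsum_eq_sum_of_fintype]
    show Cfsg.classInner (fun n : N => (χ : G → ℂ) n) (φ : ↥N → ℂ) = 1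
    rw [he, he1, Nat.cast_one]

end Cfsg.Agent.S4872
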