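import Cfsg.Statements.S4873
import Cfsg.Agent.S4866
import Cfsg.Agent.Lib.FSInd.Basic
import Cfsg.Agent.Lib.CliffordChar.Basic

set_option autoImplicit false
open Cfsg

namespace Cfsg.Agent.S4873

open scoped ComplexConjugate

variable {G : Type*} [Group G]

/-- an element inverted in `G` is inverted by an element of `N` -/
theorem exists_inverter {N : Subgroup G} [N.Normal] (hodd : Odd N.index) {x w : G}
    (h : w * x * w⁻¹ = x⁻¹) : ∃ n ∈ N, n * x * n⁻¹ = x⁻¹ := by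
  obtain ⟨e, he⟩ := hodd
  have hw2 : w * w ∈ Subgroup.centralizer ({x} : Set G) := by
    rw [Subgroup.mem_centralizer_singleton_iff]
    have h1 : w * x⁻¹ * w⁻¹ = x := by rw [← conj_inv, h, inv_inv]
    calc w * w * x = w * (w * x * w⁻¹) * w := by group
      _ = w * x⁻¹ * w⁻¹ * (w * w) := by rw [h]; group
      _ = x * (w * w) := by rw [h1]
  refine ⟨w ^ (2 * e + 1), he ▸ N.pow_index_mem w, ?_⟩
  have hc : (w * w) ^ e * x * ((w * w) ^ e)⁻¹ = x := by
    rw [(Subgroup.mem_centralizer_singleton_iff.1 (Subgroup.pow_mem _ hw2 e)), mul_inv_cancel_right]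
  calc w ^ (2 * e + 1) * x * (w ^ (2 * e + 1))⁻¹
      = w * ((w * w) ^ e * x * ((w * w) ^ e)⁻¹) * w⁻¹ := by
        rw [pow_succ', pow_mul, pow_two]; group
    _ = x⁻¹ := by rw [hc, h]

variable [Finite G]

theorem card_real_classes (N : Subgroup G) [N.Normal] (hodd : Odd N.index) :
    Nat.card {C : ConjClasses G // ∀ g : G, ConjClasses.mk g = C → IsConj g⁻¹ g} =
      Nat.card (Quot (fun x y : {x : ↥N // IsConj x x⁻¹} => ∃ g : G, (y.1 : G) = g * x.1 * g⁻¹)) := by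
  let r := fun x y : {x : ↥N // IsConj x x⁻¹} => ∃ g : G, (y.1 : G) = g * x.1 * g⁻¹
  have hmem : ∀ x : {x : ↥N // IsConj x x⁻¹}, ∀ g : G,
      ConjClasses.mk g = ConjClasses.mk (x.1 : G) → IsConj g⁻¹ g := by
    intro x g hg
    obtain ⟨w, hw⟩ := isConj_iff.1 (N.subtype.map_isConj x.2)
    obtain ⟨u, hu⟩ := isConj_iff.1 (ConjClasses.mk_eq_mk_iff_isConj.1 hg)
    simp only [Subgroup.subtype_apply, Subgroup.coe_inv] at hw
    refine (isConj_iff.2 ⟨u⁻¹ * w * u, ?_⟩ : IsConj g g⁻¹).symm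
    calc u⁻¹ * w * u * g * (u⁻¹ * w * u)⁻¹ = u⁻¹ * (w * (u * g * u⁻¹) * w⁻¹) * u := by group
      _ = u⁻¹ * (x.1 : G)⁻¹ * u := by rw [hu, hw]
      _ = g⁻¹ := by rw [← hu]; group
  let F : Quot r → {C : ConjClasses G // ∀ g : G, ConjClasses.mk g = C → IsConj g⁻¹ g} :=
    Quot.lift (fun x => ⟨ConjClasses.mk (x.1 : G), hmem x⟩) fun x y ⟨g, hg⟩ =>
      Subtype.ext (ConjClasses.mk_eq_mk_iff_isConj.2 (isConj_iff.2 ⟨g, hg.symm⟩))
  refine (Nat.card_eq_of_bijective F ⟨?_, ?_⟩).symm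
  · rintro ⟨x⟩ ⟨y⟩ h
    obtain ⟨g, hg⟩ := isConj_iff.1 (ConjClasses.mk_eq_mk_iff_isConj.1 (congrArg Subtype.val h))
    exact Quot.sound ⟨g, hg.symm⟩
  · rintro ⟨C, hC⟩
    obtain ⟨g, rfl⟩ := ConjClasses.mk_surjective C
    obtain ⟨w, hw⟩ := isConj_iff.1 (hC g rfl).symm
    obtain ⟨n, hn, hng⟩ := exists_inverter hodd hw
    have hgN : g ∈ N := by
      refine S4866.mem_of_sq hodd ?_ (N.pow_index_mem g)
      have h1 : (g : G ⧸ N)⁻¹ = g := by
        rw [← QuotientGroup.mk_inv, ← hng, QuotientGroup.mk_mul, QuotientGroup.mk_mul,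
          QuotientGroup.mk_inv, (QuotientGroup.eq_one_iff n).2 hn, inv_one, one_mul, mul_one]
      rw [← QuotientGroup.eq_one_iff, QuotientGroup.mk_mul]
      nth_rewrite 1 [← h1]
      exact inv_mul_cancel _
    exact ⟨Quot.mk r ⟨⟨g, hgN⟩, isConj_iff.2 ⟨⟨n, hn⟩, Subtype.ext hng⟩⟩, rfl⟩

/-- Let N be a normal subgroup of odd index in the finite group G. Then every irreducible complex character of N with Frobenius–Schur indicator +1 lies under exactly one irreducible character of G with Frobenius–Schur indicator +1. -/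
theorem result {G : Type*} [Group G] [Finite G] (N : Subgroup G) [N.Normal] (hodd : Odd N.index) (φ : Cfsg.IrrCharacter ↥N) (hφ : (Nat.card ↥N : ℂ)⁻¹ * ∑ᶠ g : ↥N, (φ : ↥N → ℂ) (g * g) = 1) : ∃! χ : Cfsg.IrrCharacter G, (Nat.card G : ℂ)⁻¹ * ∑ᶠ g : G, (χ : G → ℂ) (g * g) = 1 ∧ (∑ᶠ n : ↥N, (χ : G → ℂ) n * (starRingEnd ℂ) ((φ : ↥N → ℂ) n)) ≠ 0 := by
  classical
  haveI := Fintype.ofFinite G
  haveI := Fintype.ofFinite (IrrCharacter G)
  haveI := Fintype.ofFinite (IrrCharacter ↥N)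
  let res : (G → ℂ) → ↥N → ℂ := fun χ n => χ n
  have hfin : ∀ (χ : G → ℂ) (θ : ↥N → ℂ),
      (∑ᶠ n : ↥N, χ n * conj (θ n)) = (Nat.card N : ℂ) * classInner (res χ) θ := fun χ θ => by
    rw [finsum_eq_sum_of_fintype, classInner, ← mul_assoc, mul_inv_cancel₀ FSInd.card_ne, one_mul]
  have key1 : ∀ θ : IrrCharacter ↥N,
      ∑ χ : IrrCharacter G, FSInd.fsInd (χ : G → ℂ) * classInner (res χ) (θ : ↥N → ℂ) =
        FSInd.fsInd (θ : ↥N → ℂ) := by
    intro θ
    have hfun : (∑ χ : IrrCharacter G, FSInd.fsInd (χ : G → ℂ) • res χ) =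
        ∑ ψ : IrrCharacter ↥N, FSInd.fsInd (ψ : ↥N → ℂ) • (ψ : ↥N → ℂ) := by
      funext n
      simp only [Finset.sum_apply, Pi.smul_apply, smul_eq_mul, res]
      rw [← FSInd.card_sqrt_eq_sum, ← FSInd.card_sqrt_eq_sum]
      congr 1
      exact Nat.card_congr
        { toFun := fun s => ⟨⟨s.1, S4866.mem_of_sq hodd ((congrArg (fun y => y ∈ N) s.2).mpr n.2) (N.pow_index_mem _)⟩,
            Subtype.ext s.2⟩
          invFun := fun s => ⟨(s.1 : G), congrArg Subtype.val s.2⟩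
          left_inv := fun s => rfl
          right_inv := fun s => rfl }
    have h := congrArg (fun f => classInner f (θ : ↥N → ℂ)) hfun
    simp only [Char.classInner_sum_left, Char.classInner_smul_left] at h
    rw [h]
    simp only [Char.classInner_irr (Subtype.prop _) θ.2]
    rw [Finset.sum_eq_single θ (fun ψ _ hne => by
      rw [if_neg (fun hh => hne (Subtype.ext hh)), mul_zero]) (fun hh => absurd (Finset.mem_univ θ) hh)]
    rw [if_pos rfl, mul_one]
  letI := S4866.charAct N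
  let Z := {χ : IrrCharacter G // ∀ g : G, ((χ : G → ℂ) g).im = 0}
  let X := {θ : IrrCharacter ↥N // ∀ k : ↥N, ((θ : ↥N → ℂ) k).im = 0}
  let rX := fun θ η : X => ∃ g : G, ∀ k k' : ↥N, (k' : G) = g * (k : G) * g⁻¹ →
    (η.1 : ↥N → ℂ) k' = (θ.1 : ↥N → ℂ) k
  have hKθ : ∀ k ∈ N, ∀ θ : IrrCharacter ↥N, k • θ = θ := by
    intro k hk θ
    refine Subtype.ext (funext fun a => ?_)
    show (θ : ↥N → ℂ) (MulAut.conjNormal k⁻¹ a) = (θ : ↥N → ℂ) a
    have e : MulAut.conjNormal k⁻¹ a = (⟨k, hk⟩ : ↥N)⁻¹ * a * ((⟨k, hk⟩ : ↥N)⁻¹)⁻¹ := by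
      refine Subtype.ext ?_
      simp [MulAut.conjNormal_apply]
    rw [e]
    exact Char.IsIrrCharacter.isClassFunction θ.2 a _
  have hcons : ∀ χ : Z, ∃ θ : X, classInner (res (χ.1 : G → ℂ)) (θ.1 : ↥N → ℂ) ≠ 0 := by
    intro χ
    have hcl : IsClassFunction ↥N (res (χ.1 : G → ℂ)) :=
      Char.IsCharacter.isClassFunction
        (Char.IsCharacter.restrict (Char.IsIrrCharacter.isCharacter χ.1.2) N)
    obtain ⟨θ, hθ⟩ : ∃ θ : IrrCharacter ↥N, classInner (res (χ.1 : G → ℂ)) (θ : ↥N → ℂ) ≠ 0 := by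
      by_contra hno
      push Not at hno
      have h := congrFun (Char.classFunction_eq_sum hcl) 1
      simp only [hno, zero_smul, Finset.sum_const_zero, Pi.zero_apply] at h
      exact Char.IsIrrCharacter.apply_one_ne_zero χ.1.2 h
    let cθ : IrrCharacter ↥N → IrrCharacter ↥N := fun θ =>
      ⟨fun k => conj ((θ : ↥N → ℂ) k), Char.IsIrrCharacter.conj θ.2⟩
    have hθ' : classInner (res (χ.1 : G → ℂ)) ((cθ θ : IrrCharacter ↥N) : ↥N → ℂ) ≠ 0 := by
      have e : classInner (res (χ.1 : G → ℂ)) ((cθ θ : IrrCharacter ↥N) : ↥N → ℂ) =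
          conj (classInner (res (χ.1 : G → ℂ)) (θ : ↥N → ℂ)) := by
        simp only [classInner, map_mul, map_inv₀, map_natCast, map_sum, cθ, res]
        congr 1
        refine Finset.sum_congr rfl fun n _ => ?_
        rw [Complex.conj_eq_iff_im.2 (χ.2 n)]
      rw [e]
      simpa using hθ
    obtain ⟨x, hx⟩ := CliffordChar.constituents_conjugate N χ.1.2 θ.2 (cθ θ).2 hθ hθ'
    have hxθ : x • θ = cθ θ := Subtype.ext hx
    have hreal := ((S4866.fixed_iff N cθ hodd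
      (fun y => Subtype.ext (funext fun k => Complex.conj_conj _)) (fun _ _ => rfl) hKθ x θ).1 hxθ).1
    exact ⟨⟨θ, fun k => Complex.conj_eq_iff_im.1
      (congrFun (congrArg Subtype.val hreal) k)⟩, hθ⟩
  choose pick hpick using hcons
  let F : Z → Quot rX := fun χ => Quot.mk rX (pick χ)
  have hF : ∀ (χ : Z) (θ : X), classInner (res (χ.1 : G → ℂ)) (θ.1 : ↥N → ℂ) ≠ 0 →
      F χ = Quot.mk rX θ := by
    intro χ θ hθ
    obtain ⟨g, hg⟩ := CliffordChar.constituents_conjugate N χ.1.2 (pick χ).1.2 θ.1.2 (hpick χ) hθ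
    refine Quot.sound ⟨g, fun k k' hkk => ?_⟩
    rw [← hg]
    show ((pick χ).1 : ↥N → ℂ) (MulAut.conjNormal g⁻¹ k') = _
    refine congrArg _ (Subtype.ext ?_)
    simp [MulAut.conjNormal_apply, hkk]
    group
  have hex : ∀ θ : X, ∃ χ : Z, classInner (res (χ.1 : G → ℂ)) (θ.1 : ↥N → ℂ) ≠ 0 := by
    intro θ
    have h : ∑ χ : IrrCharacter G, FSInd.fsInd (χ : G → ℂ) *
        classInner (res χ) (θ.1 : ↥N → ℂ) ≠ 0 := by
      rw [key1]
      rcases FSInd.fsInd_eq_one_or_neg_one θ.1.2 θ.2 with h | h <;> simp [h]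
    obtain ⟨χ, -, hχ⟩ := Finset.exists_ne_zero_of_sum_ne_zero h
    exact ⟨⟨χ, FSInd.real_of_fsInd_ne_zero χ.2 (left_ne_zero_of_mul hχ)⟩, right_ne_zero_of_mul hχ⟩
  have hsurj : Function.Surjective F := by
    rintro ⟨θ⟩
    obtain ⟨χ, hχ⟩ := hex θ
    exact ⟨χ, hF χ θ hχ⟩
  have hcard : Nat.card Z = Nat.card (Quot rX) := by
    refine Eq.trans ?_ ((card_real_classes N hodd).trans (S4866.result N hodd).symm)
    rw [← CharApp.fixed_count (fun g : G => g⁻¹)]
    · refine Nat.card_congr (Equiv.subtypeEquivRight fun χ => ?_)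
      rw [funext_iff]
      refine forall_congr' fun g => ?_
      rw [Function.comp_apply, Char.IsCharacter.apply_inv (Char.IsIrrCharacter.isCharacter χ.2),
        Complex.conj_eq_iff_im]
    · intro χ
      have e : (χ : G → ℂ) ∘ (fun g : G => g⁻¹) = fun g => conj ((χ : G → ℂ) g) :=
        funext fun g => Char.IsCharacter.apply_inv (Char.IsIrrCharacter.isCharacter χ.2) g
      rw [e]
      exact Char.IsIrrCharacter.conj χ.2
    · intro a b hab
      obtain ⟨w, rfl⟩ := isConj_iff.1 hab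
      exact isConj_iff.2 ⟨w, by group⟩
  have hinj : Function.Injective F :=
    ((Nat.bijective_iff_surjective_and_card F).2 ⟨hsurj, hcard⟩).injective
  have hφ1 : FSInd.fsInd (φ : ↥N → ℂ) = 1 := (FSInd.fsInd_eq_finsum _).symm.trans hφ
  let φX : X := ⟨φ, FSInd.real_of_fsInd_ne_zero φ.2 (by rw [hφ1]; exact one_ne_zero)⟩
  obtain ⟨χ₀, hχ₀⟩ := hex φX
  have huniq : ∀ χ : Z, classInner (res (χ.1 : G → ℂ)) (φ : ↥N → ℂ) ≠ 0 → χ = χ₀ :=
    fun χ h => hinj ((hF χ φX h).trans (hF χ₀ φX hχ₀).symm)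
  have hone : FSInd.fsInd (χ₀.1 : G → ℂ) = 1 := by
    rcases FSInd.fsInd_eq_one_or_neg_one χ₀.1.2 χ₀.2 with h | h
    · exact h
    · exfalso
      have hk := key1 φ
      rw [hφ1, Finset.sum_eq_single χ₀.1 (fun χ _ hne => by
        by_contra hz
        exact hne (congrArg Subtype.val (huniq ⟨χ, FSInd.real_of_fsInd_ne_zero χ.2
          (left_ne_zero_of_mul hz)⟩ (right_ne_zero_of_mul hz))))
        (fun hh => absurd (Finset.mem_univ χ₀.1) hh), h] at hk
      obtain ⟨m, hm⟩ := Char.IsCharacter.classInner_nat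
        (Char.IsCharacter.restrict (Char.IsIrrCharacter.isCharacter χ₀.1.2) N)
        (Char.IsIrrCharacter.isCharacter φ.2)
      rw [show classInner (res (χ₀.1 : G → ℂ)) (φ : ↥N → ℂ) = m from hm] at hk
      have := congrArg Complex.re hk
      simp at this
      linarith [(Nat.cast_nonneg m : (0 : ℝ) ≤ m)]
  refine ⟨χ₀.1, ⟨by rw [FSInd.fsInd_eq_finsum]; exact hone, ?_⟩, fun χ hχ => ?_⟩
  · rw [hfin]
    exact mul_ne_zero FSInd.card_ne hχ₀
  · obtain ⟨h1, h2⟩ := hχ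
    rw [FSInd.fsInd_eq_finsum] at h1
    rw [hfin] at h2
    exact congrArg Subtype.val (huniq ⟨χ, FSInd.real_of_fsInd_ne_zero χ.2 (by rw [h1]; exact one_ne_zero)⟩
      (right_ne_zero_of_mul h2))

end Cfsg.Agent.S4873
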