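import Cfsg.Statements.S4878
import Cfsg.Agent.Lib.TransPPrime.Exception
import Cfsg.Agent.Lib.HallHigman.PSolvable
import Mathlib.GroupTheory.SchurZassenhaus

set_option autoImplicit false
open Cfsg

namespace Cfsg.Agent.S4878

open Cfsg.Agent.TransPPrime

theorem exists_pElement_preimage {G Q : Type*} [Group G] [Finite G] [Group Q] {p : ℕ} [hp : Fact p.Prime]
    (f : G →* Q) (hf : Function.Surjective f) {y : Q} {k : ℕ} (hy : orderOf y = p ^ k) :
    ∃ x : G, f x = y ∧ ∃ i : ℕ, orderOf x = p ^ i := by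
  obtain ⟨x, rfl⟩ := hf y
  obtain ⟨a, b, hb, hab⟩ := Nat.exists_eq_pow_mul_and_not_dvd (orderOf_pos x).ne' p hp.out.ne_one
  have hcop : Nat.Coprime (p ^ a) b := ((hp.out.coprime_iff_not_dvd).2 hb).pow_left a
  obtain ⟨t, ht1, ht0⟩ := Nat.chineseRemainder hcop 1 0
  refine ⟨x ^ t, ?_, ?_⟩
  · rw [map_pow]
    have hka : p ^ k ∣ p ^ a :=
      Nat.Coprime.dvd_of_dvd_mul_right (((hp.out.coprime_iff_not_dvd).2 hb).pow_left k)
        (hy ▸ hab ▸ orderOf_map_dvd f x)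
    conv_rhs => rw [← pow_one (f x)]
    exact pow_eq_pow_iff_modEq.2 (hy ▸ ht1.of_dvd hka)
  · obtain ⟨i, -, hi⟩ := (Nat.dvd_prime_pow hp.out).1 (show orderOf (x ^ t) ∣ p ^ a by
      refine orderOf_dvd_of_pow_eq_one ?_
      rw [← pow_mul]
      refine orderOf_dvd_iff_pow_eq_one.1 ?_
      rw [hab, mul_comm t]
      exact Nat.mul_dvd_mul_left (p ^ a) (Nat.modEq_zero_iff_dvd.1 ht0))
    exact ⟨i, hi⟩

theorem isFrobeniusComplement_of_stab_one {Q : Type*} [Group Q] [Finite Q] (V : Subgroup Q) [V.Normal]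
    (H : Subgroup Q) (hGV : Subgroup.IsComplement' V H) (hV : V ≠ ⊥) (hH : H ≠ ⊥)
    (hstab : ∀ w ∈ V, w ≠ 1 → Nat.card (H ⊓ Subgroup.centralizer ({w} : Set Q) : Subgroup Q) = 1) :
    Cfsg.IsFrobeniusComplement H := by
  refine ⟨hH, fun h => hV ?_, fun g hg => (Subgroup.eq_bot_iff_forall _).2 fun y hy => ?_⟩
  · have hd := hGV.disjoint.eq_bot
    rw [h, inf_top_eq] at hd
    exact hd
  obtain ⟨⟨u, h⟩, rfl⟩ := hGV.2 g
  obtain ⟨hyH, hyc⟩ := Subgroup.mem_inf.1 hy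
  obtain ⟨t, htH, rfl⟩ : ∃ t ∈ H, (u : Q) * h * t * ((u : Q) * h)⁻¹ = y := by
    obtain ⟨t, ht, rfl⟩ := hyc
    exact ⟨t, ht, rfl⟩
  have hu : (u : Q) ≠ 1 := fun h1 => hg (by
    show (u : Q) * h ∈ H
    rw [h1, one_mul]; exact h.2)
  set t' := (h : Q) * t * (h : Q)⁻¹ with ht'
  have ht'H : t' ∈ H := mul_mem (mul_mem h.2 htH) (inv_mem h.2)
  have e : (u : Q) * h * t * ((u : Q) * h)⁻¹ = u * t' * (u : Q)⁻¹ := by rw [ht']; group
  rw [e] at hyH ⊢
  have hmemV : (u : Q) * t' * (u : Q)⁻¹ * t'⁻¹ ∈ V := by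
    rw [show (u : Q) * t' * (u : Q)⁻¹ * t'⁻¹ = u * (t' * (u : Q)⁻¹ * t'⁻¹) by group]
    exact mul_mem u.2 (‹V.Normal›.conj_mem _ (inv_mem u.2) t')
  have hc : (u : Q) * t' * (u : Q)⁻¹ * t'⁻¹ = 1 :=
    Subgroup.mem_bot.1 (hGV.disjoint.le_bot ⟨hmemV, H.mul_mem hyH (H.inv_mem ht'H)⟩)
  have hut : t' ∈ H ⊓ Subgroup.centralizer ({(u : Q)} : Set Q) :=
    ⟨ht'H, Subgroup.mem_centralizer_singleton_iff.2 (mul_inv_eq_iff_eq_mul.1 (mul_inv_eq_one.1 hc)).symm⟩
  rw [Subgroup.card_eq_one.1 (hstab u u.2 hu), Subgroup.mem_bot] at hut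
  rw [hut, mul_one, mul_inv_cancel]

/-- Let p be a prime and G a finite p-solvable group of order divisible by p in which all non-identity p-elements are conjugate. Then G has at least p conjugacy classes of p-regular elements; or G has exactly p − 1 of them and is isomorphic to the one-dimensional affine group over the field with p elements; or p = 11, G has exactly 9 of them, G has order 121·120 and G is a Frobenius group whose complement is isomorphic to SL(2,5). -/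
theorem result {G : Type*} [Group G] [Finite G] (p : ℕ) [Fact p.Prime] (hsolv : Cfsg.IsPSolvable p G) (hdiv : p ∣ Nat.card G) (hconj : ∀ x y : G, x ≠ 1 → y ≠ 1 → (∃ k : ℕ, orderOf x = p ^ k) → (∃ k : ℕ, orderOf y = p ^ k) → IsConj x y) : p ≤ Nat.card {c : ConjClasses G // ∃ g : G, ConjClasses.mk g = c ∧ ¬ p ∣ orderOf g} ∨ (Nat.card {c : ConjClasses G // ∃ g : G, ConjClasses.mk g = c ∧ ¬ p ∣ orderOf g} = p - 1 ∧ Nonempty (G ≃* ↥(Cfsg.affineGroup (ZMod p)))) ∨ (p = 11 ∧ Nat.card {c : ConjClasses G // ∃ g : G, ConjClasses.mk g = c ∧ ¬ p ∣ orderOf g} = 9 ∧ (Nat.card G = 121 * 120 ∧ ∃ H : Subgroup G, Cfsg.IsFrobeniusComplement H ∧ Nonempty (↥H ≃* Matrix.SpecialLinearGroup (Fin 2) (ZMod 5)))) := by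
  classical
  have hp : p.Prime := Fact.out
  show p ≤ Nat.card (RegClass p G) ∨ (Nat.card (RegClass p G) = p - 1 ∧ _) ∨
    (p = 11 ∧ Nat.card (RegClass p G) = 9 ∧ _)
  set N := Cfsg.pPrimeCore p G with hN
  have hNp : ¬ p ∣ Nat.card N := Cores.not_dvd_card_pPrimeCore
  set π := QuotientGroup.mk' N with hπ
  have hπs : Function.Surjective π := QuotientGroup.mk'_surjective N
  set V := Cfsg.pCore p (G ⧸ N) with hV
  have hVp : IsPGroup p V := Cores.isPGroup_pCore p _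
  have hHH : Subgroup.centralizer (V : Set (G ⧸ N)) ≤ V :=
    HallHigman.centralizer_pCore_quotient_le (Solvable.isPiSeparable_of_isPSolvable hsolv)
  have hpQ : p ∣ Nat.card (G ⧸ N) := by
    have h := Subgroup.card_eq_card_quotient_mul_card_subgroup N
    rw [h] at hdiv
    exact (hp.dvd_mul.1 hdiv).resolve_right hNp
  have hVne : V ≠ ⊥ := by
    intro h
    rw [h] at hHH
    have htop : Subgroup.centralizer (((⊥ : Subgroup (G ⧸ N))) : Set (G ⧸ N)) = ⊤ :=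
      (Subgroup.eq_top_iff' _).2 fun x => Subgroup.mem_centralizer_iff.2 fun v hv => by
        rw [Subgroup.mem_bot.1 hv, one_mul, mul_one]
    rw [htop, top_le_iff] at hHH
    have h1 : Nat.card (G ⧸ N) = 1 := by
      rw [← Subgroup.card_top (G := G ⧸ N), ← hHH, Subgroup.card_bot]
    exact hp.not_dvd_one (h1 ▸ hpQ)
  have hconjQ : ∀ a b : G ⧸ N, a ≠ 1 → b ≠ 1 → (∃ k, orderOf a = p ^ k) → (∃ k, orderOf b = p ^ k) →
      IsConj a b := by
    rintro a b ha hb ⟨k, hk⟩ ⟨l, hl⟩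
    obtain ⟨x, rfl, hx⟩ := exists_pElement_preimage π hπs hk
    obtain ⟨y, rfl, hy⟩ := exists_pElement_preimage π hπs hl
    exact π.map_isConj (hconj x y (fun h => ha (by rw [h, map_one])) (fun h => hb (by rw [h, map_one])) hx hy)
  have hmemp : ∀ v ∈ V, ∃ k, orderOf v = p ^ k := fun v hv => by
    obtain ⟨k, hk⟩ := IsPGroup.iff_orderOf.1 hVp ⟨v, hv⟩
    exact ⟨k, by rwa [Subgroup.orderOf_mk] at hk⟩
  obtain ⟨v₀, hv₀⟩ := exists_prime_orderOf_dvd_card' (G := V) p (by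
    obtain ⟨k, hk⟩ := IsPGroup.iff_card.1 hVp
    rcases Nat.eq_zero_or_pos k with rfl | hk0
    · exact absurd (Subgroup.card_eq_one.1 (hk.trans (pow_zero p))) hVne
    · rw [hk]; exact dvd_pow_self p hk0.ne')
  have hv₀1 : (v₀ : G ⧸ N) ≠ 1 := fun h => hp.one_lt.ne (by
    rw [← hv₀, ← Subgroup.orderOf_coe, h, orderOf_one])
  have hall : ∀ a : G ⧸ N, (∃ k, orderOf a = p ^ k) → a ∈ V := fun a ha => by
    rcases eq_or_ne a 1 with rfl | ha1
    · exact one_mem _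
    obtain ⟨g, hg⟩ := isConj_iff.1 (hconjQ (v₀ : G ⧸ N) a hv₀1 ha1 (hmemp _ v₀.2) ha)
    exact hg ▸ (Cores.pCore_normal p (G ⧸ N)).conj_mem _ v₀.2 g
  have hVexp : ∀ v ∈ V, v ^ p = 1 := fun v hv => by
    rcases eq_or_ne v 1 with rfl | hv1
    · exact one_pow p
    have ho : orderOf v = p := by
      rw [← orderOf_eq_of_mk_eq (ConjClasses.mk_eq_mk_iff_isConj.2
        (hconjQ _ v hv₀1 hv1 (hmemp _ v₀.2) (hmemp v hv))), Subgroup.orderOf_coe, hv₀]
    exact orderOf_dvd_iff_pow_eq_one.1 ho.dvd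
  have hVab : ∀ a ∈ V, ∀ b ∈ V, a * b = b * a := by
    haveI : Nontrivial V := (Subgroup.nontrivial_iff_ne_bot V).2 hVne
    haveI := hVp.center_nontrivial
    obtain ⟨c, hc⟩ := exists_ne (1 : Subgroup.center V)
    have hc1 : ((c : V) : G ⧸ N) ≠ 1 := fun h => hc (Subtype.ext (Subtype.ext h))
    intro a ha b hb
    rcases eq_or_ne a 1 with rfl | ha1
    · rw [one_mul, mul_one]
    obtain ⟨g, hg⟩ := isConj_iff.1 (hconjQ _ a hc1 ha1 (hmemp _ (c : V).2) (hmemp a ha))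
    have hb' : g⁻¹ * b * g ∈ V := by
      have h := (Cores.pCore_normal p (G ⧸ N)).conj_mem _ hb g⁻¹
      rwa [inv_inv] at h
    have h1 : g⁻¹ * b * g * c = ((c : V) : G ⧸ N) * (g⁻¹ * b * g) :=
      congrArg Subtype.val (Subgroup.mem_center_iff.1 c.2 ⟨_, hb'⟩)
    rw [← hg]
    calc g * ((c : V) : G ⧸ N) * g⁻¹ * b = g * (((c : V) : G ⧸ N) * (g⁻¹ * b * g)) * g⁻¹ := by group
      _ = g * (g⁻¹ * b * g * ((c : V) : G ⧸ N)) * g⁻¹ := by rw [h1]
      _ = _ := by group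
  have hself : Subgroup.centralizer (V : Set (G ⧸ N)) = V :=
    le_antisymm hHH fun a ha => Subgroup.mem_centralizer_iff.2 fun b hb => hVab b hb a ha
  have hidx : ¬ p ∣ V.index := by
    let S : Sylow p (G ⧸ N) := default
    have hSV : (S : Subgroup (G ⧸ N)) ≤ V := fun a ha => hall a (by
      obtain ⟨k, hk⟩ := IsPGroup.iff_orderOf.1 S.isPGroup' ⟨a, ha⟩
      exact ⟨k, by rwa [Subgroup.orderOf_mk] at hk⟩)
    rw [S.is_maximal' hVp hSV]
    exact S.not_dvd_index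
  obtain ⟨H, hGV⟩ := Subgroup.exists_right_complement'_of_coprime (N := V) (by
    obtain ⟨k, hk⟩ := IsPGroup.iff_card.1 hVp
    rw [hk]
    exact ((hp.coprime_iff_not_dvd).2 hidx).pow_left k)
  have htrans : ∀ v ∈ V, ∀ w ∈ V, v ≠ 1 → w ≠ 1 → ∃ g ∈ H, g * v * g⁻¹ = w := by
    intro v hv w hw hv1 hw1
    obtain ⟨x, hx⟩ := isConj_iff.1 (hconjQ v w hv1 hw1 (hmemp v hv) (hmemp w hw))
    obtain ⟨⟨u, h⟩, rfl⟩ := hGV.2 x
    refine ⟨h, h.2, ?_⟩
    have h1 : (h : G ⧸ N) * v * (h : G ⧸ N)⁻¹ ∈ V := (Cores.pCore_normal p (G ⧸ N)).conj_mem v hv h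
    rw [← hx]
    calc (h : G ⧸ N) * v * (h : G ⧸ N)⁻¹ = (h : G ⧸ N) * v * (h : G ⧸ N)⁻¹ * (u : G ⧸ N) * (u : G ⧸ N)⁻¹ := by group
      _ = (u : G ⧸ N) * ((h : G ⧸ N) * v * (h : G ⧸ N)⁻¹) * (u : G ⧸ N)⁻¹ := by rw [hVab _ h1 _ u.2]
      _ = _ := by group
  obtain ⟨n, m, hn, hcard, hHcard, hstab, -, -, hone, htwo⟩ :=
    setting_bounds V hVexp hVne hidx hself H hGV htrans
  have hregQ := card_regular_of_complement V hVexp hVab hidx H hGV
  have hlow : Nat.card (ConjClasses H) ≤ Nat.card (RegClass p G) :=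
    hregQ ▸ card_regular_le π hπs
  have hbot : N = ⊥ → ∃ e : G ⧸ N ≃* G, Nat.card (RegClass p G) = Nat.card (RegClass p (G ⧸ N)) := by
    intro h
    let e : G ⧸ N ≃* G := (QuotientGroup.quotientMulEquivOfEq h).trans QuotientGroup.quotientBot
    exact ⟨e, le_antisymm (card_regular_le e.toMonoidHom e.surjective) (card_regular_le π hπs)⟩
  have hn12 : n = 1 ∨ 2 ≤ n := by omega
  rcases hn12 with hn1 | hn2
  · obtain ⟨hk, -, hHp⟩ := hone hn1
    by_cases hNbot : N = ⊥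
    · obtain ⟨e, he⟩ := hbot hNbot
      refine Or.inr (Or.inl ⟨by rw [he, hregQ, hk], ?_⟩)
      obtain ⟨f⟩ := mulEquiv_affine V (by rw [hcard, hn1, pow_one]) hself H hGV hHp
      exact ⟨e.symm.trans f⟩
    · left
      obtain ⟨a, ha, ha1⟩ := (Subgroup.bot_or_exists_ne_one N).resolve_left hNbot
      have h := card_regular_add_le (p := p) (ι := Unit) π hπs (fun _ => a)
        (fun _ => (QuotientGroup.eq_one_iff a).2 ha) (fun _ => ha1)
        (fun _ h => hNp (h.trans (Subgroup.orderOf_mk a ha ▸ orderOf_dvd_natCard (⟨a, ha⟩ : N))))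
        (fun _ _ _ => rfl)
      rw [hregQ, hk, Nat.card_unique] at h
      omega
  · rcases htwo hn2 with h | ⟨hn2', h11, hk9, hH120, ⟨eH⟩⟩
    · exact Or.inl (h.trans hlow)
    subst h11
    have hV121 : Nat.card V = 121 := by rw [hcard, hn2']; norm_num
    by_cases hNbot : N = ⊥
    · obtain ⟨e, he⟩ := hbot hNbot
      refine Or.inr (Or.inr ⟨rfl, by rw [he, hregQ, hk9], ?_, H.map e.toMonoidHom, ?_,
        ⟨(H.equivMapOfInjective e.toMonoidHom e.injective).symm.trans eH⟩⟩)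
      · rw [← Nat.card_congr e.toEquiv, ← hGV.card_mul, hV121, hH120]
      have hm1 : m = 1 := by rw [hn2', hH120] at hHcard; omega
      obtain ⟨hb, ht, hfr⟩ := isFrobeniusComplement_of_stab_one V H hGV hVne
        (fun h => by rw [h, Subgroup.card_bot] at hH120; omega) (fun w hw hw1 => hm1 ▸ hstab w hw hw1)
      refine ⟨fun h => hb ((Subgroup.map_eq_bot_iff_of_injective _ e.injective).1 h),
        fun h => ht ((Subgroup.eq_top_iff' _).2 fun x => ?_), fun g hg => ?_⟩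
      · obtain ⟨y, hy, hyx⟩ := h.ge (Subgroup.mem_top (e x))
        exact e.injective hyx ▸ hy
      · refine (Subgroup.eq_bot_iff_forall _).2 fun y hy => ?_
        obtain ⟨⟨a, haH, rfl⟩, b, ⟨c, hcH, rfl⟩, hbc⟩ := hy
        have hbc' : e.symm g * c * (e.symm g)⁻¹ = a := e.injective (by
          simpa [MulAut.smul_def] using hbc)
        have hg' : e.symm g ∉ H := fun h => hg ⟨e.symm g, h, e.apply_symm_apply g⟩
        have ha1 : a = 1 := (Subgroup.eq_bot_iff_forall _).1 (hfr _ hg') a ⟨haH, c, hcH, hbc'⟩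
        rw [ha1, map_one]
    · exact Or.inl (regular_ge_of_exception hp N hNp hNbot V hVexp hself hV121 H hGV htrans hH120 hk9)

end Cfsg.Agent.S4878
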