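import Cfsg.Statements.S4885
import Cfsg.Agent.EqLemmas
import Cfsg.Agent.Lib.PSolvableBlock.Basic

set_option autoImplicit false
open Cfsg

namespace Cfsg.Agent.S4885

open scoped Pointwise

/-- Over the join of `O_{p'}` and a normal subgroup killed by the characters there is no normal
`p'`-section. -/
theorem le_join {G : Type*} [Group G] [Finite G] {p : ℕ} [Fact p.Prime] {M : Ideal AlgInt}
    (hp : p ∣ Nat.card G) (hM : IsPModular p M) (hps : IsPSolvable p G) (B : Subgroup G) [B.Normal]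
    (hker : ∀ χ : IrrCharacter G, χ ∈ principalBlock M G → ¬ p ∣ charDegree (χ : G → ℂ) →
      ∀ b ∈ B, (χ : G → ℂ) b = (χ : G → ℂ) 1) :
    pPrimeCore p G ⊔ B ≠ ⊤ ∧ ∀ U : Subgroup G, U.Normal → pPrimeCore p G ⊔ B ≤ U →
      Nat.Coprime ((pPrimeCore p G ⊔ B).relIndex U) p → U ≤ pPrimeCore p G ⊔ B := by
  classical
  set f := QuotientGroup.mk' (pPrimeCore p G) with hf
  have hfs : Function.Surjective f := QuotientGroup.mk'_surjective _
  haveI hR : (B.map f).Normal := Subgroup.Normal.map inferInstance f hfs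
  obtain ⟨P⟩ : Nonempty (Sylow p (G ⧸ pPrimeCore p G)) := inferInstance
  have hO := Cores.pPrimeCore_quotient_self (G := G) p
  obtain ⟨hRp, hRΦ⟩ := PSolvableBlock.isPGroup_of_inf_le hO (B.map f) P
    (PSolvableBlock.inf_sylow_le_commutator _ (fun ψ hψ r hr => by
      obtain ⟨b, hb, rfl⟩ := hr
      let χ : IrrCharacter G := ⟨fun g => (ψ : G ⧸ pPrimeCore p G → ℂ) (f g),
        Char.IsIrrCharacter.comp_surjective ψ.2 f hfs⟩
      have hmem : χ ∈ principalBlock M G := (PSolvableBlock.mem_principal_iff hM hps χ).mpr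
        fun a ha => by
          show (ψ : G ⧸ pPrimeCore p G → ℂ) (f a) = (ψ : G ⧸ pPrimeCore p G → ℂ) (f 1)
          rw [show f a = 1 from (QuotientGroup.eq_one_iff a).mpr ha, map_one]
      have hdeg : charDegree (χ : G → ℂ) = charDegree (ψ : G ⧸ pPrimeCore p G → ℂ) := by
        show charDegree (fun g : G => (ψ : G ⧸ pPrimeCore p G → ℂ) (f g)) = _
        simp only [charDegree, map_one]
      have h1 : (ψ : G ⧸ pPrimeCore p G → ℂ) (f b) = (ψ : G ⧸ pPrimeCore p G → ℂ) (f 1) :=
        hker χ hmem (hdeg ▸ hψ) b hb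
      rwa [map_one] at h1) P)
  have hcomap : (B.map f).comap f = pPrimeCore p G ⊔ B := by
    rw [Subgroup.comap_map_eq, hf, QuotientGroup.ker_mk', sup_comm]
  refine ⟨fun htop => ?_, fun U hU hle hc => ?_⟩
  · have h1 : B.map f = ⊤ := by
      rw [← Subgroup.map_comap_eq_self_of_surjective hfs (B.map f), hcomap, htop,
        Subgroup.map_top_of_surjective f hfs]
    rw [h1] at hRΦ
    have h2 : (⊥ : Subgroup (G ⧸ pPrimeCore p G)) = ⊤ :=
      frattini_nongenerating (by rw [bot_sup_eq]; exact le_antisymm le_top hRΦ)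
    have h3 : (pPrimeCore p G).index = 1 := by
      rw [Subgroup.index_eq_card, ← Subgroup.card_top, ← h2, Subgroup.card_bot]
    rw [← Subgroup.card_mul_index (pPrimeCore p G), h3, mul_one] at hp
    exact Cores.not_dvd_card_pPrimeCore hp
  · haveI : (U.map f).Normal := Subgroup.Normal.map hU f hfs
    rw [← hcomap, Subgroup.relIndex_comap] at hc
    have hle' := PSolvableBlock.le_of_coprime_relIndex hO (U := U.map f) hRp hRΦ
      (Subgroup.map_mono (le_sup_right.trans hle)) hc
    rw [← hcomap]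
    exact Subgroup.map_le_iff_le_comap.mp hle'

/-- Let p and q be primes dividing the order of the finite group G, and suppose G is p-solvable and q-solvable. Fix maximal ideals of the algebraic integers containing p and q, defining the principal p-block and the principal q-block. If the irreducible characters of degree prime to p in the principal p-block are exactly the irreducible characters of degree prime to q in the principal q-block, then p = q. -/
theorem result {G : Type*} [Group G] [Finite G] (p q : ℕ) [Fact p.Prime] [Fact q.Prime] (hp : p ∣ Nat.card G) (hq : q ∣ Nat.card G) (hps : Cfsg.IsPSolvable p G) (hqs : Cfsg.IsPSolvable q G) (Mp Mq : Ideal Cfsg.AlgInt) (hMp : Cfsg.IsPModular p Mp) (hMq : Cfsg.IsPModular q Mq) (h : ∀ χ : Cfsg.IrrCharacter G, (χ ∈ Cfsg.principalBlock Mp G ∧ ¬ p ∣ Cfsg.charDegree (χ : G → ℂ)) ↔ (χ ∈ Cfsg.principalBlock Mq G ∧ ¬ q ∣ Cfsg.charDegree (χ : G → ℂ))) : p = q := by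
  classical
  by_contra hne
  have hkerp : ∀ χ : Cfsg.IrrCharacter G, χ ∈ Cfsg.principalBlock Mp G →
      ¬ p ∣ Cfsg.charDegree (χ : G → ℂ) → ∀ b ∈ Cfsg.pPrimeCore q G, (χ : G → ℂ) b = (χ : G → ℂ) 1 :=
    fun χ hχ hd => (PSolvableBlock.mem_principal_iff hMq hqs χ).mp ((h χ).mp ⟨hχ, hd⟩).1
  have hkerq : ∀ χ : Cfsg.IrrCharacter G, χ ∈ Cfsg.principalBlock Mq G →
      ¬ q ∣ Cfsg.charDegree (χ : G → ℂ) → ∀ b ∈ Cfsg.pPrimeCore p G, (χ : G → ℂ) b = (χ : G → ℂ) 1 :=
    fun χ hχ hd => (PSolvableBlock.mem_principal_iff hMp hps χ).mp ((h χ).mpr ⟨hχ, hd⟩).1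
  obtain ⟨hW, hpU⟩ := le_join hp hMp hps _ hkerp
  obtain ⟨-, hqU⟩ := le_join hq hMq hqs _ hkerq
  rw [sup_comm (Cfsg.pPrimeCore q G)] at hqU
  set W := Cfsg.pPrimeCore p G ⊔ Cfsg.pPrimeCore q G with hWdef
  haveI : Nontrivial (G ⧸ W) := Finite.one_lt_card_iff_nontrivial.mp (Subgroup.one_lt_index_of_ne_top hW)
  obtain ⟨V, hV, hV0, hVn⟩ := (PSolvableBlock.isPSolvable_quotient hps W).exists_normal_ne_bot
  haveI hUn : (V.comap (QuotientGroup.mk' W)).Normal := hV.comap _
  have hWU : W ≤ V.comap (QuotientGroup.mk' W) := fun x hx => by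
    rw [Subgroup.mem_comap, QuotientGroup.mk'_apply, (QuotientGroup.eq_one_iff x).mpr hx]
    exact V.one_mem
  have hrel : W.relIndex (V.comap (QuotientGroup.mk' W)) = Nat.card V := by
    have h1 : ((⊥ : Subgroup (G ⧸ W))).comap (QuotientGroup.mk' W) = W := by
      rw [MonoidHom.comap_bot, QuotientGroup.ker_mk']
    refine Eq.trans (congrArg (fun X : Subgroup G =>
      X.relIndex (V.comap (QuotientGroup.mk' W))) h1.symm) ?_
    rw [Subgroup.relIndex_comap, Subgroup.map_comap_eq_self_of_surjective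
      (QuotientGroup.mk'_surjective W), Subgroup.relIndex_bot_left]
  have hle : V.comap (QuotientGroup.mk' W) ≤ W := by
    rcases hVn with hpi | hpi
    · refine hqU _ hUn hWU ?_
      rw [hrel, Nat.coprime_comm, (Fact.out : q.Prime).coprime_iff_not_dvd]
      exact fun hd => hne (hpi q Fact.out hd : q ∈ ({p} : Set ℕ)).symm
    · refine hpU _ hUn hWU ?_
      rw [hrel, Nat.coprime_comm, (Fact.out : p.Prime).coprime_iff_not_dvd]
      exact fun hd => hpi p Fact.out hd (Set.mem_singleton p)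
  refine hV0 (Subgroup.card_eq_one.mp ?_)
  rw [← hrel, Subgroup.relIndex_eq_one]
  exact hle

end Cfsg.Agent.S4885
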