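import Cfsg.Statements.S4888
import Cfsg.Agent.EqLemmas
import Cfsg.Agent.Lib.Blocks.Simple
import Cfsg.Agent.Lib.Blocks.Defect
import Cfsg.Agent.Lib.Blocks.HeightZero
import Cfsg.Agent.Lib.BlocksNormal.Cover
import Cfsg.Agent.Lib.Char.Inner
import Cfsg.Agent.Lib.Char.Linear
import Cfsg.Agent.Lib.CentralChar.Twist
import Cfsg.Agent.Lib.CharExtend.DetExt
import Cfsg.Agent.Lib.GlauberChar.Basic
import Cfsg.Agent.Lib.Transfer.Residual

set_option autoImplicit false
open Cfsg

namespace Cfsg.Agent.S4888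

/-- `|P|` divides the sum of the squared degrees in the principal block. -/
theorem dvd_sum_sq {H : Type*} [Group H] [Finite H] [Fintype (IrrCharacter H)] {p : ℕ} [Fact p.Prime]
    {M : Ideal AlgInt} (hM : IsPModular p M) (hp : p ∣ Nat.card H)
    [DecidablePred (fun χ : IrrCharacter H => χ ∈ principalBlock M H)] :
    p ∣ ∑ χ : IrrCharacter H,
      if χ ∈ principalBlock M H then charDegree (χ : H → ℂ) * charDegree (χ : H → ℂ) else 0 := by
  classical
  haveI := Fintype.ofFinite H
  set B := principalBlock M H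
  obtain ⟨P⟩ : Nonempty (Sylow p H) := inferInstance
  haveI := Fintype.ofFinite (P : Subgroup H)
  let m : IrrCharacter H → ℕ := fun χ => if χ ∈ B then charDegree (χ : H → ℂ) else 0
  let f : ↥(P : Subgroup H) → ℂ :=
    ∑ χ : IrrCharacter H, (m χ : ℂ) • fun u : ↥(P : Subgroup H) => (χ : H → ℂ) u
  have hzero : ∀ u : ↥(P : Subgroup H), u ≠ 1 → f u = 0 := by
    intro u hu
    have hy : p ∣ orderOf ((u⁻¹ : ↥(P : Subgroup H)) : H) := by
      rw [Subgroup.coe_inv, orderOf_inv]
      obtain ⟨j, hj⟩ := IsPGroup.iff_orderOf.1 P.2 u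
      rw [← Subgroup.orderOf_coe] at hj
      rcases j with _ | j
      · rw [pow_zero, orderOf_eq_one_iff] at hj
        exact absurd (Subtype.ext hj) hu
      · rw [hj]; exact dvd_pow_self p (by omega)
    have h := Blocks.weak_orth hM
      (Blocks.blockInd_mem_intRing hM (B := B) (Blocks.principal_isPBlock hM).1)
      (x := (1 : H)) (by simpa using hM.1.one_lt.ne') hy
    rw [finsum_mem_def, finsum_eq_sum_of_fintype] at h
    rw [← h]
    simp only [f, Finset.sum_apply, Pi.smul_apply, smul_eq_mul, m]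
    refine Finset.sum_congr rfl fun χ _ => ?_
    by_cases hχ : χ ∈ B
    · rw [if_pos hχ, Set.indicator_of_mem hχ, Blocks.charDegree_cast,
        Subgroup.coe_inv, Char.IsCharacter.apply_inv (Char.IsIrrCharacter.isCharacter χ.2),
        Complex.conj_conj]
    · rw [if_neg hχ, Set.indicator_of_notMem hχ, Nat.cast_zero, zero_mul]
  choose c hc using fun χ : IrrCharacter H => Char.IsCharacter.classInner_nat
    (Char.IsCharacter.restrict (Char.IsIrrCharacter.isCharacter χ.2) (P : Subgroup H))
    (Char.isCharacter_one (G := ↥(P : Subgroup H)))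
  have h1 : classInner f 1 = (Nat.card (P : Subgroup H) : ℂ)⁻¹ * f 1 := by
    rw [classInner, Finset.sum_eq_single (1 : ↥(P : Subgroup H))
      (fun u _ hu => by rw [hzero u hu, zero_mul]) (fun h => absurd (Finset.mem_univ _) h)]
    simp
  have h2 : classInner f 1 = ((∑ χ : IrrCharacter H, m χ * c χ : ℕ) : ℂ) := by
    rw [Char.classInner_sum_left, Nat.cast_sum]
    exact Finset.sum_congr rfl fun χ _ => by rw [Char.classInner_smul_left, hc, Nat.cast_mul]
  have hf1 : f 1 = ((∑ χ : IrrCharacter H, m χ * m χ : ℕ) : ℂ) := by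
    rw [Nat.cast_sum]
    simp only [f, Finset.sum_apply, Pi.smul_apply, smul_eq_mul, m, OneMemClass.coe_one]
    refine Finset.sum_congr rfl fun χ _ => ?_
    by_cases hχ : χ ∈ B
    · rw [if_pos hχ, Nat.cast_mul, Blocks.charDegree_cast]
    · simp [if_neg hχ]
  have hdvd : Nat.card (P : Subgroup H) ∣ ∑ χ : IrrCharacter H, m χ * m χ := by
    refine ⟨∑ χ : IrrCharacter H, m χ * c χ, Nat.cast_injective (R := ℂ) ?_⟩
    rw [Nat.cast_mul, ← h2, h1, ← hf1, ← mul_assoc,
      mul_inv_cancel₀ (Nat.cast_ne_zero.2 Nat.card_pos.ne'), one_mul]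
  refine dvd_trans (dvd_trans (P.dvd_card_of_dvd_card hp) hdvd) (dvd_of_eq ?_)
  refine Finset.sum_congr rfl fun χ _ => ?_
  by_cases hχ : χ ∈ B
  · have h' : χ ∈ principalBlock M H := hχ
    simp only [m, if_pos hχ, if_pos h']
  · have h' : χ ∉ principalBlock M H := hχ
    simp only [m, if_neg hχ, if_neg h', mul_zero]

/-- A group generated by `p'`-elements has only homomorphisms to `ℂˣ` of order prime to `p`. -/
theorem coprime_orderOf_hom {K : Type*} [Group K] [Finite K] {p : ℕ} [Fact p.Prime]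
    (htop : pResidual p K = ⊤) (l : K →* ℂˣ) : Nat.Coprime (orderOf l) p := by
  have hp : p.Prime := Fact.out
  obtain ⟨a, m, hm, ho⟩ := Nat.exists_eq_pow_mul_and_not_dvd (Nat.card_pos (α := K)).ne' p hp.ne_one
  refine Nat.Coprime.coprime_dvd_left ?_ (hp.coprime_iff_not_dvd.mpr hm).symm
  refine orderOf_dvd_of_pow_eq_one (MonoidHom.ext fun x => ?_)
  have hle : pResidual p K ≤ (l ^ m).ker := by
    refine (Subgroup.closure_le _).mpr fun g hg => ?_
    have h1 : orderOf g ∣ m := Nat.Coprime.dvd_of_dvd_mul_left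
      (Nat.Coprime.pow_right a hg) (ho ▸ orderOf_dvd_natCard g)
    show (l ^ m) g = 1
    rw [MonoidHom.pow_apply, ← map_pow, orderOf_dvd_iff_pow_eq_one.mp h1, map_one]
  rw [htop] at hle
  exact hle (Subgroup.mem_top x)

/-- The linear character of a homomorphism. -/
noncomputable def linIrr {K : Type*} [Group K] (l : K →* ℂˣ) : IrrCharacter K :=
  ⟨fun x => ((l x : ℂˣ) : ℂ), Char.isIrrCharacter_of_hom ((Units.coeHom ℂ).comp l)⟩

/-- The invariant linear characters of the principal block. -/
noncomputable def invLinear {G : Type*} [Group G] (K : Subgroup G) [K.Normal] [Finite K]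
    {p : ℕ} {M : Ideal AlgInt} (hM : IsPModular p M) : Subgroup (K →* ℂˣ) where
  carrier := {l | (∀ g : G, BlocksNormal.conjIrr K g (linIrr l) = linIrr l) ∧
    ∀ x : K, MemLocalIdeal M
      (((Subgroup.centralizer ({x} : Set K)).index : ℂ) * ((l x : ℂ) - 1))}
  one_mem' := ⟨fun g => Subtype.ext (funext fun x => by
    simp [linIrr, BlocksNormal.conjIrr, CliffordChar.conjFun]),
    fun x => by simp [Blocks.memI_zero hM]⟩
  mul_mem' := by
    intro a b ha hb
    refine ⟨fun g => Subtype.ext (funext fun x => ?_), fun x => ?_⟩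
    · have e1 := congrFun (congrArg Subtype.val (ha.1 g)) x
      have e2 := congrFun (congrArg Subtype.val (hb.1 g)) x
      simp only [linIrr, BlocksNormal.conjIrr, CliffordChar.conjFun] at e1 e2 ⊢
      simp only [MonoidHom.mul_apply, Units.val_mul]
      rw [e1, e2]
    · haveI := Fintype.ofFinite K
      have hint : IsIntegral ℤ ((b x : ℂˣ) : ℂ) :=
        Char.IsCharacter.isIntegral (Char.IsIrrCharacter.isCharacter (linIrr b).2) x
      have := Blocks.memI_add hM (Blocks.memI_mul_right hM (ha.2 x)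
        (Blocks.memR_of_isIntegral hM hint)) (hb.2 x)
      convert this using 1
      rw [MonoidHom.mul_apply, Units.val_mul]; ring
  inv_mem' := by
    intro a ha
    refine ⟨fun g => Subtype.ext (funext fun x => ?_), fun x => ?_⟩
    · have e1 := congrFun (congrArg Subtype.val (ha.1 g)) x
      simp only [linIrr, BlocksNormal.conjIrr, CliffordChar.conjFun] at e1 ⊢
      simp only [MonoidHom.inv_apply, Units.val_inv_eq_inv_val]
      rw [e1]
    · haveI := Fintype.ofFinite K
      have hint : IsIntegral ℤ (-((a⁻¹ x : ℂˣ) : ℂ)) := IsIntegral.neg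
        (Char.IsCharacter.isIntegral (Char.IsIrrCharacter.isCharacter (linIrr a⁻¹).2) x)
      have := Blocks.memI_mul_left hM (Blocks.memR_of_isIntegral hM hint) (ha.2 x)
      convert this using 1
      rw [MonoidHom.inv_apply, Units.val_inv_eq_inv_val]
      field_simp
      ring

theorem linIrr_mem_iff {K : Type*} [Group K] {p : ℕ} {M : Ideal AlgInt} (hM : IsPModular p M)
    (l : K →* ℂˣ) : linIrr l ∈ principalBlock M K ↔ ∀ x : K, MemLocalIdeal M
      (((Subgroup.centralizer ({x} : Set K)).index : ℂ) * ((l x : ℂ) - 1)) := by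
  refine forall_congr' fun x => ?_
  have e : centralChar (fun _ : K => (1 : ℂ)) x - centralChar (linIrr l : K → ℂ) x =
      -(((Subgroup.centralizer ({x} : Set K)).index : ℂ) * ((l x : ℂ) - 1)) := by
    simp only [centralChar, linIrr, map_one, Units.val_one, div_one]
    ring
  rw [e]
  exact ⟨fun h => by simpa using Blocks.memI_neg h, fun h => Blocks.memI_neg h⟩

variable {G : Type*} [Group G] [Finite G] {p : ℕ} [Fact p.Prime] {M : Ideal AlgInt}

set_option maxHeartbeats 1000000 in
/-- With all height-zero degrees one, an invariant character of degree prime to `p` in the principal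
block of `O^p(G)` is linear. -/
theorem invariant_degree_one (hM : IsPModular p M)
    (h1 : ∀ χ : IrrCharacter G, χ ∈ principalBlock M G → ¬ p ∣ charDegree (χ : G → ℂ) →
      (χ : G → ℂ) 1 = 1)
    (K : Subgroup G) [K.Normal] {k : ℕ} (hidx : K.index = p ^ k) (htop : pResidual p K = ⊤)
    (θ : IrrCharacter K) (hθ : θ ∈ principalBlock M K)
    (hinv : ∀ g : G, BlocksNormal.conjIrr K g θ = θ) (hdeg : ¬ p ∣ charDegree (θ : K → ℂ)) :
    (θ : K → ℂ) 1 = 1 := by
  classical
  haveI := Fintype.ofFinite G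
  haveI := Fintype.ofFinite K
  have hp : p.Prime := Fact.out
  obtain ⟨n, ρ, hi, hρ⟩ := θ.2
  haveI := hi
  have hinv' : ∀ (g : G) (x : K),
      ρ.character ⟨g * x * g⁻¹, (‹K.Normal›).conj_mem x x.2 g⟩ = ρ.character x := by
    intro g x
    have h := congrFun (congrArg Subtype.val (hinv g⁻¹)) x
    simp only [BlocksNormal.conjIrr, CliffordChar.conjFun, inv_inv] at h
    rw [← hρ] at h
    exact h
  have hn : charDegree (θ : K → ℂ) = n := by simp [charDegree, ← hρ, Representation.char_one]
  rw [hn] at hdeg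
  let lam : K →* ℂˣ := (CharExtend.detU n).comp ρ.toHomUnits
  have hlam : ∀ x, ((lam x : ℂˣ) : ℂ) = detChar ρ.character x := fun x => by
    rw [CharExtend.detChar_character_toHomUnits]; rfl
  have hlinv : ∀ (g : G) (x : K), lam ⟨g * x * g⁻¹, (‹K.Normal›).conj_mem x x.2 g⟩ = lam x := by
    intro g x
    refine Units.ext ?_
    rw [hlam, hlam]
    let ρ' : Representation ℂ K (Fin n → ℂ) := ρ.comp (MulAut.conjNormal g : MulAut K).toMonoidHom
    have he : ρ'.character = ρ.character := funext fun y => hinv' g y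
    rw [CharExtend.detChar_character, ← he, CharExtend.detChar_character]
    rfl
  obtain ⟨μ, hμ, -⟩ := CharExtend.exists_coprime_extension lam hlinv
    (hidx ▸ ((coprime_orderOf_hom htop lam).symm.pow_left k))
  obtain ⟨R, hR⟩ := CharExtend.hom_of_det ρ hinv'
    (hidx ▸ (hp.coprime_iff_not_dvd.mpr hdeg).pow_left k) μ hμ
  obtain ⟨χ, hχ, hres⟩ := CharExtend.extends_of_hom ρ R hR
  have hr : (fun x : K => χ x) = (θ : K → ℂ) := funext fun x => by rw [hres, hρ]
  let X : IrrCharacter G := ⟨χ, hχ⟩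
  let oneG : IrrCharacter G := ⟨1, Char.isIrrCharacter_one⟩
  let oneK : IrrCharacter K := ⟨1, Char.isIrrCharacter_one⟩
  have hne1 : classInner (fun x : K => (oneG : G → ℂ) x) (oneK : K → ℂ) ≠ 0 := by
    rw [show (fun x : K => (oneG : G → ℂ) x) = (oneK : K → ℂ) from rfl,
      Char.classInner_irr_self oneK.2]
    exact one_ne_zero
  have hneX : classInner (fun x : K => (X : G → ℂ) x) (θ : K → ℂ) ≠ 0 := by
    show classInner (fun x : K => χ x) (θ : K → ℂ) ≠ 0
    rw [hr, Char.classInner_irr_self θ.2]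
    exact one_ne_zero
  have hmem : X ∈ principalBlock M G :=
    BlocksNormal.cover_unique K hM hidx (θ := oneK) (θ' := θ) hθ hne1 hneX
  have e1 : χ 1 = (θ : K → ℂ) 1 := (congrFun hr (1 : K))
  have hXdeg : charDegree (X : G → ℂ) = n := by
    rw [← hn]
    show charDegree χ = _
    simp only [charDegree, e1]
  rw [← e1]
  exact h1 X hmem (hXdeg ▸ hdeg)

/-- With all height-zero degrees one, `O^p(G)` has order prime to `p`. -/
theorem not_dvd_residual (hM : IsPModular p M)
    (h1 : ∀ χ : IrrCharacter G, χ ∈ principalBlock M G → ¬ p ∣ charDegree (χ : G → ℂ) →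
      (χ : G → ℂ) 1 = 1) :
    ¬ p ∣ Nat.card (pResidual p G) := by
  classical
  intro hp'
  haveI := Fintype.ofFinite G
  haveI : (pResidual p G).Normal := Transfer.pResidual_normal
  obtain ⟨k, hidx⟩ := Transfer.exists_index_pResidual (G := G) (p := p)
  have htop := Transfer.pResidual_pResidual (G := G) (p := p)
  have hsup := Transfer.sylow_sup_eq_top (default : Sylow p G)
  generalize pResidual p G = K at *
  haveI := Fintype.ofFinite K
  haveI := Fintype.ofFinite (IrrCharacter K)
  obtain ⟨P, hP⟩ : ∃ P : Subgroup G, IsPGroup p P ∧ P ⊔ K = ⊤ :=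
    ⟨_, (default : Sylow p G).2, hsup⟩
  obtain ⟨hP, hsup⟩ := hP
  letI : MulAction ↥P (IrrCharacter K) :=
    { smul := fun s θ => BlocksNormal.conjIrr K (s : G) θ
      one_smul := fun θ => BlocksNormal.conjIrr_one K θ
      mul_smul := fun s t θ => BlocksNormal.conjIrr_mul K (s : G) (t : G) θ }
  let oneK : IrrCharacter K := ⟨1, Char.isIrrCharacter_one⟩
  have hone : ∀ g : G, BlocksNormal.conjIrr K g oneK = oneK := fun g => rfl
  have hblock : ∀ (g : G) (θ : IrrCharacter K), θ ∈ principalBlock M K →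
      BlocksNormal.conjIrr K g θ ∈ principalBlock M K := fun g θ hθ =>
    BlocksNormal.sameBlock_conjIrr K g (θ := oneK) hθ
  let f : IrrCharacter K → ℕ := fun θ =>
    if θ ∈ principalBlock M K then charDegree (θ : K → ℂ) * charDegree (θ : K → ℂ) else 0
  have hfinv : ∀ (s : P) (θ : IrrCharacter K), f (s • θ) = f θ := by
    intro s θ
    have hd : charDegree ((s • θ : IrrCharacter K) : K → ℂ) = charDegree (θ : K → ℂ) := by
      show charDegree (CliffordChar.conjFun K (s : G) (θ : K → ℂ)) = _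
      simp only [charDegree, CharApp.conjFun_apply_one]
    have hb : s • θ ∈ principalBlock M K ↔ θ ∈ principalBlock M K := by
      refine ⟨fun h => ?_, hblock _ θ⟩
      have h2 := hblock ((s : G)⁻¹) _ h
      change BlocksNormal.conjIrr K (s : G)⁻¹ (BlocksNormal.conjIrr K (s : G) θ) ∈ _ at h2
      rwa [← BlocksNormal.conjIrr_mul, inv_mul_cancel, BlocksNormal.conjIrr_one] at h2
    simp only [f, hd, hb]
  set S := Finset.univ.filter (fun θ : IrrCharacter K => ∀ s : P, s • θ = θ) with hS
  have hfix : ∀ θ ∈ S, ∀ g : G, BlocksNormal.conjIrr K g θ = θ := by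
    intro θ hθ g
    have hle : P ⊔ K ≤ CharApp.inertia K (θ : K → ℂ) := sup_le
      (fun s hs => congrArg Subtype.val ((Finset.mem_filter.mp hθ).2 ⟨s, hs⟩))
      (CharApp.le_inertia K (Char.IsIrrCharacter.isClassFunction θ.2))
    exact Subtype.ext (hle (hsup ▸ Subgroup.mem_top g))
  have hsum : p ∣ ∑ θ ∈ S, f θ := by
    have hc := GlauberChar.cong_sum_fixed (p := p) hP (fun θ : IrrCharacter K => (f θ : ℂ))
      (fun θ => GlauberChar.isIntegral_natCast' _) (fun s θ => by rw [hfinv])
    have h2 : GlauberChar.Cong p (((∑ θ, f θ : ℕ) : ℤ) : ℂ) (((∑ θ ∈ S, f θ : ℕ) : ℤ) : ℂ) := by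
      simpa [hS] using hc
    have h3 := GlauberChar.int_dvd_of_cong (Fact.out : p.Prime).ne_zero h2
    have h4 : (p : ℤ) ∣ ((∑ θ, f θ : ℕ) : ℤ) := Int.natCast_dvd_natCast.mpr (dvd_sum_sq hM hp')
    exact Int.natCast_dvd_natCast.mp ((dvd_sub_right h4).mp h3)
  set L := S.filter (fun θ => θ ∈ principalBlock M K ∧ (θ : K → ℂ) 1 = 1) with hL
  have hrest : p ∣ ∑ θ ∈ S \ L, f θ := Finset.dvd_sum fun θ hθ => by
    obtain ⟨hθS, hθL⟩ := Finset.mem_sdiff.mp hθ
    by_cases hb : θ ∈ principalBlock M K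
    · simp only [f, if_pos hb]
      refine Dvd.dvd.mul_right ?_ _
      by_contra hd
      exact hθL (Finset.mem_filter.mpr ⟨hθS, hb,
        invariant_degree_one hM h1 K hidx htop θ hb (hfix θ hθS) hd⟩)
    · simp only [f, if_neg hb, dvd_zero]
  rw [← Finset.sum_sdiff (Finset.filter_subset _ S : L ⊆ S), Nat.dvd_add_right hrest] at hsum
  have hcardL : ∑ θ ∈ L, f θ = L.card := by
    rw [Finset.card_eq_sum_ones]
    refine Finset.sum_congr rfl fun θ hθ => ?_
    obtain ⟨-, hb, h⟩ := Finset.mem_filter.mp hθ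
    simp [f, if_pos hb, charDegree, h]
  rw [hcardL] at hsum
  set A := invLinear K hM
  have hA : Nat.card A = L.card := by
    rw [← Nat.card_eq_finsetCard]
    refine Nat.card_congr (Equiv.ofBijective (fun l : A => (⟨linIrr (l : K →* ℂˣ), ?_⟩ : L)) ⟨?_, ?_⟩)
    · refine Finset.mem_filter.mpr ⟨Finset.mem_filter.mpr ⟨Finset.mem_univ _, fun s => l.2.1 (s : G)⟩,
        (linIrr_mem_iff hM _).mpr l.2.2, ?_⟩
      simp [linIrr]
    · intro a b hab
      refine Subtype.ext (MonoidHom.ext fun x => Units.ext ?_)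
      exact congrFun (congrArg (fun z : L => ((z : IrrCharacter K) : K → ℂ)) hab) x
    · rintro ⟨θ, hθ⟩
      obtain ⟨hθS, hb, h⟩ := Finset.mem_filter.mp hθ
      obtain ⟨l, hl⟩ := Char.exists_hom_of_degree_one (Char.IsIrrCharacter.isCharacter θ.2) h
      have he : linIrr l.toHomUnits = θ := Subtype.ext (funext fun x => congrFun hl x)
      refine ⟨⟨l.toHomUnits, fun g => he ▸ hfix θ hθS g, (linIrr_mem_iff hM _).mp (he ▸ hb)⟩,
        Subtype.ext he⟩
  haveI : Finite A := Nat.finite_of_card_ne_zero (by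
    rw [hA]
    refine Finset.card_ne_zero_of_mem (a := oneK) ?_
    exact Finset.mem_filter.mpr ⟨Finset.mem_filter.mpr ⟨Finset.mem_univ _, fun s => hone (s : G)⟩,
      (Blocks.principal_isPBlock hM).2, rfl⟩)
  obtain ⟨a, ha⟩ := exists_prime_orderOf_dvd_card' p (hA ▸ hsum : p ∣ Nat.card A)
  have := coprime_orderOf_hom htop (a : K →* ℂˣ)
  rw [Subgroup.orderOf_coe, ha] at this
  exact (Fact.out : p.Prime).ne_one ((Nat.coprime_self p).mp this)


/-- Let G be a finite group, p a prime and M a maximal ideal of the algebraic integers containing p. Then all height-zero irreducible characters of the principal p-block of G (equivalently, all its characters of degree prime to p) have the same degree if and only if G has a normal p-complement. -/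
theorem result {G : Type*} [Group G] [Finite G] (p : ℕ) [Fact p.Prime] (M : Ideal Cfsg.AlgInt) (hM : Cfsg.IsPModular p M) : (∃ d : ℕ, ∀ χ : Cfsg.IrrCharacter G, χ ∈ (Cfsg.principalBlock M G) → Cfsg.blockHeight p (Cfsg.principalBlock M G) (χ : G → ℂ) = 0 → Cfsg.charDegree (χ : G → ℂ) = d) ↔ Cfsg.HasNormalPComplement p G := by
  classical
  haveI := Fintype.ofFinite G
  have hp : p.Prime := Fact.out
  let one : Cfsg.IrrCharacter G := ⟨1, Char.isIrrCharacter_one⟩
  have hone : one ∈ Cfsg.principalBlock M G := (Blocks.principal_isPBlock hM).2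
  have hmin : sInf ((fun ψ : Cfsg.IrrCharacter G => (Cfsg.charDegree (ψ : G → ℂ)).factorization p) ''
      Cfsg.principalBlock M G) = 0 :=
    Nat.sInf_eq_zero.mpr (Or.inl ⟨one, hone, by simp [one, Cfsg.charDegree]⟩)
  have hht : ∀ χ : Cfsg.IrrCharacter G,
      Cfsg.blockHeight p (Cfsg.principalBlock M G) (χ : G → ℂ) = 0 ↔
        ¬ p ∣ Cfsg.charDegree (χ : G → ℂ) := fun χ => by
    rw [Cfsg.blockHeight, hmin, Nat.sub_zero, Nat.factorization_eq_zero_iff]
    simp [hp, (Blocks.charDegree_pos χ).ne']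
  constructor
  · rintro ⟨d, hd⟩
    have hd1 : d = 1 := by
      rw [← hd one hone (Blocks.blockHeight_eq_zero_of_one rfl _)]
      simp [one, Cfsg.charDegree]
    refine Transfer.hasNormalPComplement_iff_coprime.mpr
      ((hp.coprime_iff_not_dvd.mpr (not_dvd_residual hM fun χ hχ hnd => ?_)).symm)
    rw [← Blocks.charDegree_cast χ, hd χ hχ ((hht χ).mpr hnd), hd1, Nat.cast_one]
  · intro h
    haveI : (Cfsg.pResidual p G).Normal := Transfer.pResidual_normal
    obtain ⟨k, hidx⟩ := Transfer.exists_index_pResidual (G := G) (p := p)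
    have hN := hp.coprime_iff_not_dvd.mp (Transfer.hasNormalPComplement_iff_coprime.mp h).symm
    refine ⟨1, fun χ hχ h0 => ?_⟩
    haveI := Fintype.ofFinite (Cfsg.pResidual p G)
    have htriv := BlocksNormal.trivOn_of_sameBlock (χ := one) (ψ := χ) _ hM hN hχ (fun n _ => rfl)
    obtain ⟨ψ, hψ⟩ := CentralChar.exists_deflation _ χ htriv
    haveI := Fintype.ofFinite (G ⧸ Cfsg.pResidual p G)
    have he : Cfsg.charDegree (χ : G → ℂ) = Cfsg.charDegree (ψ : G ⧸ Cfsg.pResidual p G → ℂ) := by
      simp only [Cfsg.charDegree, hψ, QuotientGroup.mk_one]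
    have hdvd : Cfsg.charDegree (χ : G → ℂ) ∣ p ^ k := by
      rw [he, ← hidx, Subgroup.index_eq_card]
      exact Blocks.charDegree_dvd_card ψ
    obtain ⟨j, -, hj⟩ := (Nat.dvd_prime_pow hp).mp hdvd
    rcases j with _ | j
    · simpa using hj
    · exact absurd (hj ▸ dvd_pow_self p (by omega)) ((hht χ).mp h0)

end Cfsg.Agent.S4888
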