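import Cfsg.Statements.S4892
import Cfsg.Agent.Lib.CharExtend.PRational
import Cfsg.Agent.Lib.CharApp.AlperinDade
import Cfsg.Agent.Lib.CharApp.Clifford

set_option autoImplicit false
open Cfsg

namespace Cfsg.Agent.S4892

open Cfsg.Agent

section

variable {G : Type*} [Group G] [Finite G]

theorem exists_mul_modEq_one {a n : ℕ} (hn : n ≠ 0) (h : a.Coprime n) :
    ∃ u, a * u ≡ 1 [MOD n] := by
  rcases Nat.lt_or_ge 1 n with h1 | h1
  · obtain ⟨u, -, hu⟩ := Nat.exists_mul_mod_eq_one_of_coprime h h1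
    exact ⟨u, by rw [Nat.ModEq, hu, Nat.mod_eq_of_lt h1]⟩
  · obtain rfl : n = 1 := by omega
    exact ⟨0, Nat.modEq_one⟩

theorem exists_prime_pow_mul (q : ℕ) (hq : q.Prime) (n : ℕ) (hn : n ≠ 0) :
    ∃ b r : ℕ, n = q ^ b * r ∧ ¬ q ∣ r :=
  ⟨n.factorization q, n / q ^ n.factorization q, (Nat.ordProj_mul_ordCompl_eq_self n q).symm,
    Nat.not_dvd_ordCompl hq hn⟩

/-- A homomorphism into an abelian group killing the elements of prime power order is trivial. -/
theorem hom_eq_one_of_prime_pow {H A : Type*} [Group H] [Finite H] [CommGroup A] (f : H →* A)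
    (x : H) (h : ∀ q : ℕ, q.Prime → ∀ j b : ℕ, orderOf (x ^ j) = q ^ b → f (x ^ j) = 1) :
    f x = 1 := by
  rw [← orderOf_eq_one_iff]
  by_contra hne
  obtain ⟨q, hq, hqd⟩ := Nat.exists_prime_and_dvd hne
  have := Fact.mk hq
  obtain ⟨b, r, hbr, hr⟩ := exists_prime_pow_mul q hq (orderOf x) (orderOf_pos x).ne'
  have h1 : orderOf (x ^ r) = q ^ b := by
    rw [orderOf_pow_of_dvd (fun h0 => hr (by rw [h0]; exact dvd_zero q)) (Dvd.intro_left _ hbr.symm), hbr,
      Nat.mul_div_cancel _ (Nat.pos_of_ne_zero fun h0 => hr (by rw [h0]; exact dvd_zero q))]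
  have h2 := h q hq r b h1
  rw [map_pow, ← orderOf_dvd_iff_pow_eq_one] at h2
  exact hr (hqd.trans h2)

end

section

variable {G : Type*} [Group G] [Finite G] {p : ℕ} [Fact p.Prime] {M : Ideal AlgInt}
  {N : Subgroup G} [N.Normal]

open Blocks BrauerPairs in
/-- The extension to an intermediate group of index prime to `p` over `N`. -/
theorem exists_local_ext (hM : IsPModular p M) (θ : IrrCharacter N)
    (hB : θ ∈ principalBlock M N) (Q : Sylow p N) {K : Subgroup G} (hNK : N ≤ K)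
    (hKL : K ≤ N ⊔ Subgroup.centralizer (((Q : Subgroup N).map N.subtype : Subgroup G) : Set G))
    (hidx : ¬ p ∣ N.relIndex K) :
    ∃ ψ : IrrCharacter K, (∀ n : N, (ψ : K → ℂ) ⟨n, hNK n.2⟩ = (θ : N → ℂ) n) ∧
      ∀ c : K, (c : G) ∈ Subgroup.centralizer (((Q : Subgroup N).map N.subtype : Subgroup G) : Set G) →
        MemLocalIdeal M ((ψ : K → ℂ) c - (θ : N → ℂ) 1) := by
  classical
  have := Fintype.ofFinite G
  set Qm := (Q : Subgroup N).map N.subtype
  have hQN : Qm ≤ N := Subgroup.map_subtype_le _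
  have hQp : IsPGroup p (Qm.subgroupOf K) :=
    (Q.2.map N.subtype).of_equiv (Subgroup.subgroupOfEquivOfLe (hQN.trans hNK)).symm
  have hQi : ¬ p ∣ (Qm.subgroupOf K).index := by
    show ¬ p ∣ Qm.relIndex K
    rw [← Subgroup.relIndex_mul_relIndex _ _ _ hQN hNK]
    intro h
    rcases (Fact.out : p.Prime).dvd_mul.1 h with h | h
    · refine Q.not_dvd_index ?_
      rwa [Subgroup.relIndex, Subgroup.subgroupOf,
        Subgroup.comap_map_eq_self_of_injective N.subtype_injective] at h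
    · exact hidx h
  let P : Sylow p K := hQp.toSylow hQi
  have hsup : N.subgroupOf K ⊔ Subgroup.centralizer ((P : Subgroup K) : Set K) = ⊤ := by
    refine top_le_iff.1 fun k _ => ?_
    obtain ⟨n, hn, c, hc, hk⟩ := Subgroup.mem_sup_of_normal_left.1 (hKL k.2)
    have hcK : c ∈ K := by
      rw [show c = n⁻¹ * (k : G) by rw [← hk, inv_mul_cancel_left]]
      exact K.mul_mem (K.inv_mem (hNK hn)) k.2
    rw [show k = ⟨n, hNK hn⟩ * ⟨c, hcK⟩ from Subtype.ext hk.symm]
    refine Subgroup.mul_mem_sup (Subgroup.mem_subgroupOf.2 hn) (Subgroup.mem_centralizer_iff.2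
      fun y hy => Subtype.ext (Subgroup.mem_centralizer_iff.1 hc _ hy))
  let e := Subgroup.subgroupOfEquivOfLe hNK
  have hθ : pullIrr e θ ∈ principalBlock M (N.subgroupOf K) := (pullIrr_mem_principal e θ).2 hB
  obtain ⟨ψ, ⟨hψB, hψ⟩, -⟩ := (AlperinDade.alperin_dade (N.subgroupOf K) hM hidx P hsup).2 _ hθ
  have hres : ∀ n : N, (ψ : K → ℂ) ⟨n, hNK n.2⟩ = (θ : N → ℂ) n := fun n => by
    rw [show (⟨n, hNK n.2⟩ : K) = ((e.symm n : N.subgroupOf K) : K) from rfl, hψ, pullIrr_apply,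
      MulEquiv.apply_symm_apply]
  refine ⟨ψ, hres, fun c hc => ?_⟩
  rw [← hres 1]
  refine PRational.memI_sub_of_mem_principal hM hψB P (Subgroup.mem_centralizer_iff.2 fun y hy => ?_)
  exact Subtype.ext (Subgroup.mem_centralizer_iff.1 hc _ hy)

end

section

variable {G : Type*} [Group G] [Finite G]

/-- Extensions as representations. -/
theorem exists_hom_of_ext {N : Subgroup G} {d : ℕ} (ρ : Representation ℂ N (Fin d → ℂ))
    {K : Subgroup G} (hNK : N ≤ K) {ψ : K → ℂ} (hψ : IsCharacter K ψ)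
    (hres : ∀ n : N, ψ ⟨n, hNK n.2⟩ = ρ.character n) :
    ∃ S : K →* CharExtend.EU d, ∀ n : N, S ⟨n, hNK n.2⟩ = ρ.toHomUnits n := by
  obtain ⟨d', σ, rfl⟩ := hψ
  obtain rfl : d' = d := by
    have h := hres 1
    rw [show (⟨((1 : N) : G), hNK (1 : N).2⟩ : K) = 1 from rfl, Representation.char_one,
      Representation.char_one, Module.finrank_fin_fun, Module.finrank_fin_fun] at h
    exact_mod_cast h
  let σN : Representation ℂ N (Fin d' → ℂ) := σ.comp (Subgroup.inclusion hNK)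
  obtain ⟨e⟩ := Char.equiv_of_character_eq ρ σN (funext fun n => (hres n).symm)
  let T : CharExtend.EU d' := ⟨e.toLinearEquiv.toLinearMap, e.toLinearEquiv.symm.toLinearMap,
    LinearMap.ext fun v => e.toLinearEquiv.apply_symm_apply v,
    LinearMap.ext fun v => e.toLinearEquiv.symm_apply_apply v⟩
  refine ⟨(MulAut.conj T⁻¹).toMonoidHom.comp σ.toHomUnits, fun n => ?_⟩
  show T⁻¹ * σ.toHomUnits ⟨n, hNK n.2⟩ * T⁻¹⁻¹ = _
  rw [inv_inv, mul_assoc, inv_mul_eq_iff_eq_mul]
  exact Units.ext (e.toIntertwiningMap.isIntertwining' n).symm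

/-- A linear character relating two extensions. -/
theorem exists_linear_between {N : Subgroup G} [N.Normal] {χ φ : G → ℂ}
    (hχ : IsIrrCharacter G χ) (hφ : IsIrrCharacter G φ)
    (hres : IsIrrCharacter N (fun n : N => χ n)) (h : ∀ n : N, φ n = χ n) :
    ∃ β : G →* ℂˣ, (∀ n : N, β n = 1) ∧ ∀ g, φ g = χ g * (β g : ℂ) := by
  have := Fintype.ofFinite G
  have := Fintype.ofFinite N
  obtain ⟨b, hb, hbt, hφb⟩ := CharApp.gallagher_exhaustive N hχ hres hφ (by
    rw [show (fun n : N => φ n) = fun n : N => χ n from funext h, Char.classInner_irr_self hres]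
    exact one_ne_zero)
  have hb1 : b 1 = 1 := by
    have h1 := h 1
    rw [OneMemClass.coe_one, hφb, Pi.mul_apply] at h1
    exact (mul_eq_left₀ (Char.IsIrrCharacter.apply_one_ne_zero hχ)).1 h1
  obtain ⟨β, rfl⟩ := CharExtend.exists_valHom (Char.IsIrrCharacter.isCharacter hb) hb1
  refine ⟨β, fun n => Units.ext ?_, fun g => congrFun hφb g⟩
  rw [Units.val_one, ← hb1]
  exact hbt n

end

/-- Let p be an odd prime, M a maximal ideal of the algebraic integers containing p, N a normal subgroup of the finite group G, and θ an irreducible character of N that is G-invariant, of degree prime to p, p-rational (values in the field generated over ℚ by a root of unity of order prime to p) and lies in the principal p-block of N. Let Q be a Sylow p-subgroup of N and suppose the index of N·C_G(Q) in G is a power of p. Then θ extends to a p-rational irreducible character of G lying in the principal p-block of G. -/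
theorem result {G : Type*} [Group G] [Finite G] (p : ℕ) [Fact p.Prime] (hp : p ≠ 2) (M : Ideal Cfsg.AlgInt) (hM : Cfsg.IsPModular p M) (N : Subgroup G) [N.Normal] (θ : Cfsg.IrrCharacter ↥N) (hinv : ∀ g : G, ∀ n n' : ↥N, (n' : G) = g * (n : G) * g⁻¹ → (θ : ↥N → ℂ) n' = (θ : ↥N → ℂ) n) (hdeg : ¬ p ∣ Cfsg.charDegree (θ : ↥N → ℂ)) (hrat : ∃ m : ℕ, ¬ p ∣ m ∧ ∀ n : ↥N, (θ : ↥N → ℂ) n ∈ IntermediateField.adjoin ℚ ({Complex.exp (2 * Real.pi * Complex.I / m)} : Set ℂ)) (hB : θ ∈ Cfsg.principalBlock M ↥N) (Q : Sylow p ↥N) (hidx : ∃ a : ℕ, (N ⊔ Subgroup.centralizer (((Q : Subgroup ↥N).map N.subtype : Subgroup G) : Set G)).index = p ^ a) : ∃ χ : Cfsg.IrrCharacter G, χ ∈ (Cfsg.principalBlock M G) ∧ (∃ n : ℕ, ¬ p ∣ n ∧ ∀ g : G, (χ : G → ℂ) g ∈ IntermediateField.adjoin ℚ ({Complex.exp (2 * Real.pi * Complex.I / n)} : Set ℂ)) ∧ ∀ n : ↥N, (χ : G → ℂ) n = (θ : ↥N → ℂ) n := by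
  classical
  have hpp : p.Prime := Fact.out
  have := Fintype.ofFinite G
  have := Fintype.ofFinite N
  set C := Subgroup.centralizer (((Q : Subgroup N).map N.subtype : Subgroup G) : Set G) with hC
  set Qm := (Q : Subgroup N).map N.subtype with hQm
  set d := Cfsg.charDegree (θ : N → ℂ) with hd
  have hd1 : (θ : N → ℂ) 1 = d := (Blocks.charDegree_cast θ).symm
  have hdI : ¬ MemLocalIdeal M (d : ℂ) := Blocks.not_memI_natCast hM hdeg
  obtain ⟨a, m₀, hG, hpm₀⟩ := exists_prime_pow_mul p hpp (Nat.card G) Nat.card_pos.ne'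
  -- decomposition of the group
  have hdec : ∀ g : G, ∃ n ∈ N, ∃ m ∈ Subgroup.normalizer (Qm : Set G), g = n * m := by
    intro g
    have h : g ∈ N ⊔ Subgroup.normalizer (Qm : Set G) := by
      rw [sup_comm, Sylow.normalizer_sup_eq_top Q]
      exact Subgroup.mem_top _
    obtain ⟨n, hn, m, hm, rfl⟩ := Subgroup.mem_sup_of_normal_left.1 h
    exact ⟨n, hn, m, hm, rfl⟩
  have hmC : ∀ m ∈ Subgroup.normalizer (Qm : Set G), ∀ c ∈ C, m * c * m⁻¹ ∈ C := by
    intro m hm c hc
    rw [hC, Subgroup.mem_centralizer_iff]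
    intro y hy
    have hy' : m⁻¹ * y * m⁻¹⁻¹ ∈ (Qm : Set G) :=
      (Subgroup.mem_normalizer_iff.1 (inv_mem hm) y).1 hy
    have h1 := Subgroup.mem_centralizer_iff.1 hc _ hy'
    calc y * (m * c * m⁻¹) = m * ((m⁻¹ * y * m⁻¹⁻¹) * c) * m⁻¹ := by group
      _ = m * (c * (m⁻¹ * y * m⁻¹⁻¹)) * m⁻¹ := by rw [h1]
      _ = m * c * m⁻¹ * y := by group
  have hLn : (N ⊔ C).Normal := by
    refine ⟨fun x hx g => ?_⟩
    obtain ⟨n, hn, m, hm, rfl⟩ := hdec g
    obtain ⟨n', hn', c, hc, rfl⟩ := Subgroup.mem_sup_of_normal_left.1 hx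
    rw [show n * m * (n' * c) * (n * m)⁻¹ = n * ((m * n' * m⁻¹) * (m * c * m⁻¹)) * n⁻¹ by group]
    refine Subgroup.mul_mem _ (Subgroup.mul_mem _ (Subgroup.mem_sup_left hn)
      (Subgroup.mul_mem_sup (Subgroup.Normal.conj_mem inferInstance n' hn' m) (hmC m hm c hc)))
      (Subgroup.mem_sup_left (inv_mem hn))
  have hreg : ∀ g : G, ¬ p ∣ orderOf g → g ∈ N ⊔ C := by
    intro g hg
    obtain ⟨i, hi⟩ := hidx
    rw [← QuotientGroup.eq_one_iff, ← orderOf_eq_one_iff]
    refine Nat.eq_one_of_dvd_coprimes ?_ (orderOf_map_dvd (QuotientGroup.mk' (N ⊔ C)) g)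
      (orderOf_dvd_natCard (g : G ⧸ (N ⊔ C)))
    rw [← Subgroup.index_eq_card, hi]
    exact ((hpp.coprime_iff_not_dvd.2 hg).symm).pow_right i
  -- invariance of `θ` under the power maps
  obtain ⟨m, hpm, hval⟩ := hrat
  have hm0 : m ≠ 0 := fun h => hpm (h ▸ dvd_zero p)
  have hθpow : ∀ k : ℕ, k.Coprime (Nat.card G) → k ≡ 1 [MOD m₀] →
      ∀ x : N, (θ : N → ℂ) (x ^ k) = (θ : N → ℂ) x := by
    intro k hk hk1 x
    have hcop : (p ^ a).Coprime (m₀ * m) := (hpp.coprime_iff_not_dvd.2 fun h =>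
      (hpp.dvd_mul.1 h).elim hpm₀ hpm).pow_left a
    obtain ⟨k', h1, h2⟩ := Nat.chineseRemainder hcop k 1
    have hk' : k' ≡ k [MOD Nat.card G] := by
      rw [hG]
      exact (Nat.modEq_and_modEq_iff_modEq_mul ((hpp.coprime_iff_not_dvd.2 hpm₀).pow_left a)).1
        ⟨h1, (h2.of_dvd (dvd_mul_right _ _)).trans hk1.symm⟩
    have hxk : x ^ k' = x ^ k := pow_eq_pow_iff_modEq.2
      (hk'.of_dvd ((orderOf_dvd_natCard x).trans N.card_subgroup_dvd_card))
    rw [← hxk]
    refine PRational.apply_pow_eq_of_adjoin (Char.IsIrrCharacter.isCharacter θ.2) hm0 hval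
      (Nat.Coprime.mul_right ?_ ?_) (h2.of_dvd (dvd_mul_left _ _)) x
    · exact Nat.Coprime.coprime_dvd_right N.card_subgroup_dvd_card
        (by rw [Nat.Coprime, hk'.gcd_eq]; exact hk)
    · rw [Nat.Coprime, (h2.of_dvd (dvd_mul_left m m₀)).gcd_eq, Nat.gcd_one_left]
  -- the representation and its determinant
  obtain ⟨d', ρ, hρi, hρ⟩ := θ.2
  obtain rfl : d' = d := by
    have h := congrFun hρ 1
    rw [Representation.char_one, Module.finrank_fin_fun, hd1] at h
    exact_mod_cast h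
  have hinv' : ∀ (g : G) (x : N),
      ρ.character ⟨g * x * g⁻¹, Subgroup.Normal.conj_mem inferInstance _ x.2 g⟩ = ρ.character x := by
    intro g x
    rw [hρ]
    exact hinv g x _ rfl
  set dt : N →* ℂˣ := (CharExtend.detU d).comp ρ.toHomUnits with hdt
  obtain ⟨E, hE, hE1⟩ : ∃ E : ℕ, ¬ p ∣ E ∧ ∀ x : N, dt x ^ E = 1 := by
    obtain ⟨k, h1, h2⟩ := Nat.chineseRemainder
      ((hpp.coprime_iff_not_dvd.2 hpm₀).pow_left (a + 1)) 2 1
    have h1' : k ≡ 2 [MOD p] := h1.of_dvd (dvd_pow_self p a.succ_ne_zero)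
    have hp3 : 2 < p := lt_of_le_of_ne hpp.two_le (Ne.symm hp)
    have hk : k.Coprime (Nat.card G) := by
      rw [hG]
      refine Nat.Coprime.mul_right (Nat.Coprime.pow_right _ ?_) ?_
      · rw [Nat.Coprime, h1'.gcd_eq]
        exact (Nat.prime_two.coprime_iff_not_dvd.2 fun h =>
          hp ((Nat.prime_dvd_prime_iff_eq Nat.prime_two hpp).1 h).symm)
      · rw [Nat.Coprime, h2.gcd_eq, Nat.gcd_one_left]
    have hk1 : 1 ≤ k := by
      by_contra h
      obtain rfl : k = 0 := by omega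
      rw [Nat.ModEq, Nat.zero_mod, Nat.mod_eq_of_lt hp3] at h1'
      omega
    refine ⟨k - 1, fun h => ?_, fun x => ?_⟩
    · have h3 : k ≡ 1 [MOD p] := ((Nat.modEq_iff_dvd' hk1).2 h).symm
      have h4 := h1'.symm.trans h3
      rw [Nat.ModEq, Nat.mod_eq_of_lt hp3, Nat.mod_eq_of_lt hpp.one_lt] at h4
      omega
    · have hcN : k.Coprime (Nat.card N) := Nat.Coprime.coprime_dvd_right N.card_subgroup_dvd_card hk
      have h3 := PRational.detChar_comp_pow (Char.isCharacter_character ρ) hcN x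
      rw [show (fun y : N => ρ.character (y ^ k)) = ρ.character from funext fun y => by
        rw [hρ]; exact hθpow k hk h2 y, CharExtend.detChar_character_toHomUnits,
        CharExtend.valHom_apply, ← hdt, ← Units.val_pow_eq_pow_val, Units.val_inj] at h3
      exact mul_left_cancel (a := dt x) (by
        rw [← pow_succ', Nat.sub_add_cancel hk1, mul_one, ← h3])
  -- extensions from the preimages of the Sylow subgroups
  have hlocal : ∀ q : ℕ, q.Prime → q ≠ p → ∀ S : Sylow q G, N ⊔ (S : Subgroup G) ≤ N ⊔ C ∧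
      ¬ p ∣ N.relIndex (N ⊔ (S : Subgroup G)) := by
    intro q hq hqp S
    have := Fact.mk hq
    have hpq : ∀ x ∈ (S : Subgroup G), ¬ p ∣ orderOf x := fun x hx h => by
      obtain ⟨i, hi⟩ := (IsPGroup.iff_orderOf.1 S.2) ⟨x, hx⟩
      rw [Subgroup.orderOf_mk] at hi
      exact hqp ((Nat.prime_dvd_prime_iff_eq hpp hq).1 (hpp.dvd_of_dvd_pow (hi ▸ h))).symm
    refine ⟨sup_le le_sup_left fun x hx => hreg x (hpq x hx), fun h => ?_⟩
    rw [sup_comm, Subgroup.relIndex_sup_right] at h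
    obtain ⟨i, hi⟩ := S.2.exists_card_eq
    exact hqp ((Nat.prime_dvd_prime_iff_eq hpp hq).1 (hpp.dvd_of_dvd_pow
      (hi ▸ h.trans (Subgroup.index_dvd_card _)))).symm
  obtain ⟨R, hR⟩ := CharExtend.hom_of_local_extensions ρ hinv' (fun q hq => by
    have := Fact.mk hq
    obtain ⟨S⟩ : Nonempty (Sylow q G) := inferInstance
    have hcopi : (N ⊔ (S : Subgroup G)).index.Coprime q := ((hq.coprime_iff_not_dvd).2 fun h =>
      S.not_dvd_index (h.trans (Subgroup.index_dvd_of_le le_sup_right))).symm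
    by_cases hqp : q = p
    · -- the determinant extends
      subst hqp
      set K := N ⊔ (S : Subgroup G)
      let e := Subgroup.subgroupOfEquivOfLe (le_sup_left : N ≤ K)
      let ρ' : Representation ℂ (N.subgroupOf K) (Fin d → ℂ) := ρ.comp e.toMonoidHom
      have : ρ'.IsIrreducible := by
        have : Nontrivial (Fin d → ℂ) := CharApp.nontrivial_of_irr ρ
        refine CharApp.isIrreducible_of_forall_invariant ρ' fun W hW =>
          CharApp.eq_bot_or_top_of_invariant ρ W fun x v hv => ?_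
        have h := hW (e.symm x) v hv
        rwa [show ρ' (e.symm x) = ρ x from congrArg ρ (e.apply_symm_apply x)] at h
      have hinv'' : ∀ (g : K) (x : N.subgroupOf K),
          ρ'.character ⟨g * x * g⁻¹, Subgroup.Normal.conj_mem inferInstance _ x.2 g⟩ =
            ρ'.character x := fun g x => hinv' (g : G) (e x)
      have hidxp : ∃ i, (N.subgroupOf K).index = q ^ i := by
        obtain ⟨i, hi⟩ := S.2.exists_card_eq
        have hd : N.relIndex K ∣ q ^ i := by
          rw [show K = (S : Subgroup G) ⊔ N from sup_comm _ _, Subgroup.relIndex_sup_right, ← hi]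
          exact Subgroup.index_dvd_card _
        exact ((Nat.dvd_prime_pow hq).1 hd).imp fun j hj => hj.2
      obtain ⟨i, hi⟩ := hidxp
      have hlam : ∀ (g : K) (x : N.subgroupOf K),
          (dt.comp e.toMonoidHom) ⟨g * x * g⁻¹, Subgroup.Normal.conj_mem inferInstance _ x.2 g⟩ =
            (dt.comp e.toMonoidHom) x := fun g x => by
        obtain ⟨T, hT⟩ := CharExtend.exists_intertwines ρ hinv' (g : G)
        have h := congrArg (CharExtend.detU d) (hT (e x))
        rw [map_mul, map_mul, mul_comm, mul_left_inj] at h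
        exact h.symm
      obtain ⟨μ, hμ, -⟩ := CharExtend.exists_coprime_extension (dt.comp e.toMonoidHom) hlam (by
        rw [hi]
        refine Nat.Coprime.pow_left _ (hq.coprime_iff_not_dvd.2 fun h => hE (h.trans ?_))
        exact orderOf_dvd_of_pow_eq_one (MonoidHom.ext fun x => hE1 (e x)))
      obtain ⟨R, hR⟩ := CharExtend.hom_of_det ρ' hinv''
        (by rw [hi]; exact (hq.coprime_iff_not_dvd.2 hdeg).pow_left i) μ (fun x => hμ x)
      refine ⟨K, le_sup_left, R, hcopi, fun x => ?_⟩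
      have h := hR (e.symm x)
      exact h.trans (Units.ext (congrArg ρ (e.apply_symm_apply x)))
    · obtain ⟨hle, hndvd⟩ := hlocal q hq hqp S
      obtain ⟨ψ, hψ, -⟩ := exists_local_ext hM θ hB Q le_sup_left hle hndvd
      obtain ⟨R, hR⟩ := exists_hom_of_ext ρ le_sup_left (Char.IsIrrCharacter.isCharacter ψ.2)
        (fun n => by rw [hψ, hρ])
      exact ⟨_, le_sup_left, R, hcopi, hR⟩)
  obtain ⟨χ₀, hχ₀, hχ₀N⟩ := CharExtend.extends_of_hom ρ R hR
  simp only [hρ] at hχ₀N
  have hresI : ∀ {φ : G → ℂ}, (∀ n : N, φ n = (θ : N → ℂ) n) →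
      IsIrrCharacter N (fun n : N => φ n) := fun {φ} h => by
    rw [show (fun n : N => φ n) = (θ : N → ℂ) from funext h]; exact θ.2
  have hχ₀1 : χ₀ 1 = d := by rw [← hd1, ← hχ₀N 1, OneMemClass.coe_one]
  -- the correcting character on intermediate groups
  have hcorr : ∀ K : Subgroup G, N ≤ K → K ≤ N ⊔ C → ¬ p ∣ N.relIndex K →
      ∃ β : K →* ℂˣ, (∀ x : K, (x : G) ∈ N → β x = 1) ∧
        ∀ c : K, (c : G) ∈ C → MemLocalIdeal M (χ₀ c * (β c : ℂ) - d) := by
    intro K hNK hKL hndvd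
    obtain ⟨ψ, hψ, hψC⟩ := exists_local_ext hM θ hB Q hNK hKL hndvd
    have hresK : IsIrrCharacter (N.subgroupOf K)
        (fun n : N.subgroupOf K => (fun x : K => χ₀ x) (n : K)) := by
      have h := Char.IsIrrCharacter.comp_equiv θ.2 (Subgroup.subgroupOfEquivOfLe hNK)
      convert h using 1
      exact funext fun n => hχ₀N (Subgroup.subgroupOfEquivOfLe hNK n)
    have hirr : IsIrrCharacter K (fun x : K => χ₀ x) := by
      obtain ⟨d'', σ, hσi, hσ⟩ := hresK
      obtain ⟨nn, τ, hτ⟩ := Char.IsCharacter.restrict (Char.IsIrrCharacter.isCharacter hχ₀) K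
      obtain rfl : d'' = nn := by
        have h1 := congrFun hσ 1
        have h2 := congrFun hτ 1
        rw [Representation.char_one, Module.finrank_fin_fun] at h1 h2
        simp only [OneMemClass.coe_one] at h1 h2
        exact_mod_cast h1.trans h2.symm
      let τN : Representation ℂ (N.subgroupOf K) (Fin d'' → ℂ) := τ.comp (N.subgroupOf K).subtype
      obtain ⟨f⟩ := Char.equiv_of_character_eq σ τN
        (funext fun n => (congrFun hσ n).trans (congrFun hτ (n : K)).symm)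
      have : τN.IsIrreducible := Char.isIrreducible_congr f hσi
      refine ⟨d'', τ, ?_, hτ⟩
      have : Nontrivial (Fin d'' → ℂ) := CharApp.nontrivial_of_irr σ
      exact CharApp.isIrreducible_of_forall_invariant τ fun W hW =>
        CharApp.eq_bot_or_top_of_invariant τN W
          fun x v hv => hW (x : K) v hv
    obtain ⟨β, hβN, hβ⟩ := exists_linear_between hirr ψ.2 hresK (fun n => by
      refine Eq.trans ?_ (hχ₀N (Subgroup.subgroupOfEquivOfLe hNK n)).symm
      exact hψ (Subgroup.subgroupOfEquivOfLe hNK n))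
    refine ⟨β, fun x hx => hβN ⟨x, hx⟩, fun c hc => ?_⟩
    rw [← hd1, ← hβ c]
    exact hψC c hc
  -- uniqueness of the correcting value
  have huniq : ∀ (c : G) (u v : ℂˣ), ¬ p ∣ orderOf c → u ^ orderOf c = 1 → v ^ orderOf c = 1 →
      MemLocalIdeal M (χ₀ c * (u : ℂ) - d) → MemLocalIdeal M (χ₀ c * (v : ℂ) - d) → u = v := by
    intro c u v hc hu hv h1 h2
    have hR : ∀ w : ℂˣ, w ^ orderOf c = 1 → MemLocalRing M (w : ℂ) := fun w hw =>
      Blocks.memR_of_isIntegral hM (IsIntegral.of_pow (orderOf_pos c) (by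
        rw [← Units.val_pow_eq_pow_val, hw, Units.val_one]; exact isIntegral_one))
    have hχR : MemLocalRing M (χ₀ c) := Blocks.memR_of_isIntegral hM
      (Char.IsCharacter.isIntegral (Char.IsIrrCharacter.isCharacter hχ₀) c)
    have hχv : ¬ MemLocalIdeal M (χ₀ c * (v : ℂ)) := fun h =>
      hdI ((Blocks.memI_iff_of_sub hM h2).1 h)
    have h3 : MemLocalIdeal M (χ₀ c * (v : ℂ) * (((u / v : ℂˣ) : ℂ) - 1)) := by
      convert Blocks.memI_sub hM h1 h2 using 1
      rw [Units.val_div_eq_div_val]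
      field_simp
      ring
    have hw : (u / v) ^ orderOf c = 1 := by rw [div_pow, hu, hv, div_one]
    have h4 : MemLocalIdeal M (((u / v : ℂˣ) : ℂ) - 1) :=
      (Blocks.memI_or_memI hM (Blocks.memR_mul hM hχR (hR v hv))
        (Blocks.memR_sub hM (hR _ hw) (Blocks.memR_one hM)) h3).resolve_left hχv
    refine div_eq_one.1 (Units.ext ?_)
    exact PRational.eq_one_of_memI_sub_one hM hc
      (by rw [← Units.val_pow_eq_pow_val, hw, Units.val_one]) h4
  have hroot : ∀ (K : Subgroup G) (β : K →* ℂˣ) (c : K), β c ^ orderOf (c : G) = 1 :=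
    fun K β c => by rw [← map_pow, Subgroup.orderOf_coe, pow_orderOf_eq_one, map_one]
  -- the correcting character of `G` at one prime
  have hmu : ∀ q : ℕ, ∃ μ : G →* ℂˣ, (∀ x ∈ N, μ x = 1) ∧ (∃ E, ¬ p ∣ E ∧ μ ^ E = 1) ∧
      (∀ x : G, ¬ q ∣ orderOf x → μ x = 1) ∧
      (q.Prime → q ≠ p → ∀ x ∈ C, ∀ j : ℕ, orderOf x = q ^ j →
        MemLocalIdeal M (χ₀ x * (μ x : ℂ) - d)) := by
    intro q
    by_cases hq : q.Prime ∧ q ≠ p
    swap
    · exact ⟨1, fun _ _ => rfl, ⟨1, hpp.not_dvd_one, MonoidHom.ext fun g => pow_one _⟩, fun _ _ => rfl,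
        fun h1 h2 => absurd ⟨h1, h2⟩ hq⟩
    obtain ⟨hq, hqp⟩ := hq
    have := Fact.mk hq
    obtain ⟨S⟩ : Nonempty (Sylow q G) := inferInstance
    obtain ⟨hle, hndvd⟩ := hlocal q hq hqp S
    set K := N ⊔ (S : Subgroup G)
    obtain ⟨β, hβN, hβ⟩ := hcorr K le_sup_left hle hndvd
    have htN : ∀ x ∈ N, MonoidHom.transfer β x = 1 := fun x hx =>
      (CharExtend.transfer_extension (1 : N →* ℂˣ) (fun _ _ => rfl) le_sup_left β
        (fun y => hβN _ y.2) ⟨x, hx⟩).trans (one_pow _)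
    have hmove : ∀ (g x : G), g * x * g⁻¹ ∈ K → x ∈ C →
        ∃ c : K, (c : G) ∈ C ∧ χ₀ c = χ₀ x ∧ orderOf (c : G) = orderOf x ∧
          (∀ μ : G →* ℂˣ, μ c = μ x) ∧ ∀ hm : g * x * g⁻¹ ∈ K, β ⟨_, hm⟩ = β c := by
      intro g x hgx hx
      obtain ⟨n, hn, m', hm', rfl⟩ := hdec g
      have hc : m' * x * m'⁻¹ ∈ K := by
        rw [show m' * x * m'⁻¹ = n⁻¹ * (n * m' * x * (n * m')⁻¹) * n by group]
        exact K.mul_mem (K.mul_mem (inv_mem (le_sup_left (α := Subgroup G) hn)) hgx)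
          (le_sup_left (α := Subgroup G) hn)
      refine ⟨⟨_, hc⟩, hmC m' hm' x hx, Char.IsIrrCharacter.isClassFunction hχ₀ x m',
        (MulAut.conj m').orderOf_eq x, fun μ => ?_, fun hm => ?_⟩
      · show μ (m' * x * m'⁻¹) = μ x
        rw [map_mul, map_mul, map_inv, mul_comm, inv_mul_cancel_left]
      · have e : (⟨_, hm⟩ : K) = ⟨n, le_sup_left (α := Subgroup G) hn⟩ * ⟨_, hc⟩ *
            (⟨n, le_sup_left (α := Subgroup G) hn⟩ : K)⁻¹ := Subtype.ext (by
          show n * m' * x * (n * m')⁻¹ = n * (m' * x * m'⁻¹) * n⁻¹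
          group)
        rw [e, map_mul, map_mul, map_inv, mul_comm, inv_mul_cancel_left]
    obtain ⟨b, r, hbr, hqr⟩ := exists_prime_pow_mul q hq (Nat.card G) Nat.card_pos.ne'
    have hcop : (K.index * r).Coprime (q ^ b) := Nat.Coprime.pow_right _ (Nat.Coprime.mul_left
      ((hq.coprime_iff_not_dvd.2 fun h =>
        S.not_dvd_index (h.trans (Subgroup.index_dvd_of_le le_sup_right))).symm)
      (hq.coprime_iff_not_dvd.2 hqr).symm)
    obtain ⟨u, hu⟩ := exists_mul_modEq_one (pow_pos hq.pos b).ne' hcop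
    refine ⟨MonoidHom.transfer β ^ (r * u), fun x hx => by
      rw [MonoidHom.pow_apply, htN x hx, one_pow], ⟨q ^ b, fun h => hqp
        ((Nat.prime_dvd_prime_iff_eq hpp hq).1 (hpp.dvd_of_dvd_pow h)).symm, ?_⟩, fun x hx => ?_,
      fun _ _ x hx j hj => ?_⟩
    · refine MonoidHom.ext fun g => ?_
      rw [MonoidHom.pow_apply, MonoidHom.pow_apply, ← pow_mul, mul_comm _ (q ^ b), ← mul_assoc,
        ← hbr, pow_mul, ← map_pow, pow_card_eq_one', map_one, one_pow, MonoidHom.one_apply]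
    · have hxr : x ^ r = 1 := orderOf_dvd_iff_pow_eq_one.1 ((Nat.Coprime.dvd_mul_left
        ((hq.coprime_iff_not_dvd.2 hx).symm.pow_right b)).1 (hbr ▸ orderOf_dvd_natCard x))
      rw [MonoidHom.pow_apply, pow_mul, ← map_pow, hxr, map_one, one_pow]
    · obtain ⟨S', hS'⟩ := (IsPGroup.of_card (n := j) (by rw [Nat.card_zpowers, hj]) :
        IsPGroup q (Subgroup.zpowers x)).exists_le_sylow
      obtain ⟨g, hg⟩ := MulAction.exists_smul_eq G S' S
      have hgx : g * x * g⁻¹ ∈ K := by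
        refine Subgroup.mem_sup_right ?_
        rw [← hg, Sylow.coe_subgroup_smul]
        exact ⟨x, hS' (Subgroup.mem_zpowers x), rfl⟩
      obtain ⟨c, hcC, hcχ, hco, hcμ, -⟩ := hmove g x hgx hx
      have hcq : ¬ p ∣ orderOf (c : G) := by
        rw [hco, hj]
        exact fun h => hqp ((Nat.prime_dvd_prime_iff_eq hpp hq).1 (hpp.dvd_of_dvd_pow h)).symm
      have hstable : ∀ (k : ℕ) (a : G) (hm : a * (c : G) ^ k * a⁻¹ ∈ K),
          β ⟨a * (c : G) ^ k * a⁻¹, hm⟩ = β c ^ k := by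
        intro k a hm
        obtain ⟨c', hc'C, hc'χ, hc'o, -, hc'β⟩ := hmove a _ hm (C.pow_mem hcC k)
        have hck : ¬ p ∣ orderOf ((c : G) ^ k) := fun h => hcq (h.trans (orderOf_pow_dvd k))
        rw [hc'β hm, ← map_pow]
        have h1 := hroot K β c'
        have h2 := hroot K β (c ^ k)
        rw [hc'o] at h1
        rw [Subgroup.coe_pow] at h2
        refine huniq _ _ _ hck h1 h2 ?_ ?_
        · rw [← hc'χ]; exact hβ c' hc'C
        · exact hβ (c ^ k) (C.pow_mem hcC k)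
      rw [← hcχ, MonoidHom.pow_apply, ← hcμ (MonoidHom.transfer β),
        TwoFusion.transfer_eq_pow_of_controlled β c hstable, ← pow_mul]
      convert hβ c hcC using 4
      have h1 := hroot K β c
      rw [hco, hj] at h1
      have hjb : j ≤ b := by
        have h2 : q ^ j ∣ q ^ b * r := hbr ▸ hj ▸ orderOf_dvd_natCard x
        exact (Nat.pow_dvd_pow_iff_le_right hq.one_lt).1 ((Nat.Coprime.dvd_mul_right
          (Nat.Coprime.pow_left _ (hq.coprime_iff_not_dvd.2 hqr))).1 h2)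
      have h3 : K.index * (r * u) ≡ 1 [MOD q ^ j] :=
        (by rwa [mul_assoc] at hu : K.index * (r * u) ≡ 1 [MOD q ^ b]).of_dvd (pow_dvd_pow q hjb)
      rw [pow_eq_pow_mod _ h1, h3, ← pow_eq_pow_mod 1 h1, pow_one]
  choose μ hμN hμE hμ1 hμC using hmu
  set ν : G →* ℂˣ := ∏ q ∈ (Nat.card G).primeFactors, μ q
  obtain ⟨Eν, hEν, hEν1⟩ : ∃ E : ℕ, ¬ p ∣ E ∧ ν ^ E = 1 := by
    choose E hEp hE' using hμE
    refine ⟨∏ q ∈ (Nat.card G).primeFactors, E q, fun h => ?_, ?_⟩
    · obtain ⟨q, -, hq⟩ := (Prime.dvd_finsetProd_iff hpp.prime E).1 h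
      exact hEp q hq
    · rw [← Finset.prod_pow]
      refine Finset.prod_eq_one fun q hq => ?_
      refine MonoidHom.ext fun x => ?_
      rw [← Finset.mul_prod_erase _ _ hq, pow_mul, hE', MonoidHom.pow_apply, MonoidHom.one_apply, one_pow]
  have hνN : ∀ x ∈ N, ν x = 1 := fun x hx => by
    rw [MonoidHom.finsetProd_apply]
    exact Finset.prod_eq_one fun q _ => hμN q x hx
  have hνC : ∀ c ∈ C, ¬ p ∣ orderOf c → MemLocalIdeal M (χ₀ c * (ν c : ℂ) - d) := by
    intro c hc hcp
    set K := N ⊔ Subgroup.zpowers c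
    have hcK : c ∈ K := Subgroup.mem_sup_right (Subgroup.mem_zpowers c)
    obtain ⟨β, hβN, hβ⟩ := hcorr K le_sup_left
      (sup_le le_sup_left ((Subgroup.zpowers_le).2 (Subgroup.mem_sup_right hc))) (by
        rw [show K = Subgroup.zpowers c ⊔ N from sup_comm _ _, Subgroup.relIndex_sup_right]
        exact fun h => hcp (Nat.card_zpowers c ▸ h.trans (Subgroup.index_dvd_card _)))
    have heq : (ν.comp K.subtype / β) ⟨c, hcK⟩ = 1 := by
      refine hom_eq_one_of_prime_pow _ _ fun q hq j b hb => ?_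
      rw [← Subgroup.orderOf_coe, Subgroup.coe_pow] at hb
      have hxC : c ^ j ∈ C := C.pow_mem hc j
      have hxp : ¬ p ∣ orderOf (c ^ j) := fun h => hcp (h.trans (orderOf_pow_dvd j))
      rw [MonoidHom.div_apply, div_eq_one, MonoidHom.comp_apply]
      rcases Nat.eq_zero_or_pos b with rfl | hb0
      · rw [pow_zero, orderOf_eq_one_iff] at hb
        rw [show (⟨c, hcK⟩ : K) ^ j = 1 from Subtype.ext hb, map_one, map_one, map_one]
      have hqp : q ≠ p := fun h => hxp (by rw [hb, h]; exact dvd_pow_self p hb0.ne')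
      have hval' : ν (c ^ j) = μ q (c ^ j) := by
        rw [MonoidHom.finsetProd_apply, Finset.prod_eq_single q]
        · intro q' hq' hne
          refine hμ1 q' _ fun h => hne ?_
          rw [hb] at h
          exact (Nat.prime_dvd_prime_iff_eq (Nat.prime_of_mem_primeFactors hq') hq).1
            ((Nat.prime_of_mem_primeFactors hq').dvd_of_dvd_pow h)
        · intro h
          refine hμ1 q _ fun h' => h ?_
          exact Nat.mem_primeFactors.2 ⟨hq, h'.trans (orderOf_dvd_natCard _), Nat.card_pos.ne'⟩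
      have h1 : μ q (c ^ j) ^ orderOf (c ^ j) = 1 := by
        rw [← map_pow, pow_orderOf_eq_one, map_one]
      show ν (c ^ j) = β (⟨c, hcK⟩ ^ j)
      rw [hval']
      refine huniq (c ^ j) _ _ hxp h1 ?_ (hμC q hq hqp _ hxC b hb) ?_
      · exact hroot K β (⟨c, hcK⟩ ^ j)
      · exact hβ (⟨c, hcK⟩ ^ j) hxC
    rw [MonoidHom.div_apply, div_eq_one, MonoidHom.comp_apply] at heq
    rw [show ν c = ν (K.subtype ⟨c, hcK⟩) from rfl, heq]
    exact hβ ⟨c, hcK⟩ hc
  -- the correction of the determinant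
  obtain ⟨l, hl⟩ := CharExtend.exists_detChar_eq (Char.IsIrrCharacter.isCharacter hχ₀)
  have hlN : ∀ x : N, l x ^ E = 1 := fun x => by
    have h := congrFun (CharExtend.detChar_restrict (Char.IsIrrCharacter.isCharacter hχ₀) N) x
    rw [show (fun y : N => χ₀ y) = ρ.character from funext fun y => by rw [hρ]; exact hχ₀N y,
      CharExtend.detChar_character_toHomUnits, hl] at h
    rw [← Units.val_inj.1 h]
    exact hE1 x
  obtain ⟨a', r, hlr, hr⟩ := exists_prime_pow_mul p hpp (orderOf l) (orderOf_pos l).ne'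
  obtain ⟨w, hw1, hw2⟩ : ∃ w, r ∣ w ∧ d * w + 1 ≡ 0 [MOD p ^ a'] := by
    obtain ⟨v, hv⟩ := exists_mul_modEq_one (pow_pos hpp.pos a').ne'
      ((Nat.Coprime.pow_right a' (Nat.Coprime.mul_left (hpp.coprime_iff_not_dvd.2 hdeg).symm
        (hpp.coprime_iff_not_dvd.2 hr).symm) : (d * r).Coprime (p ^ a')))
    refine ⟨r * v * (p ^ a' - 1), dvd_mul_of_dvd_left (dvd_mul_right _ _) _, ?_⟩
    have hpos : 1 ≤ p ^ a' := Nat.one_le_pow _ _ hpp.pos
    calc d * (r * v * (p ^ a' - 1)) + 1 = d * r * v * (p ^ a' - 1) + 1 := by ring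
      _ ≡ 1 * (p ^ a' - 1) + 1 [MOD p ^ a'] := (hv.mul_right _).add_right 1
      _ = p ^ a' := by omega
      _ ≡ 0 [MOD p ^ a'] := Nat.modEq_zero_iff_dvd.2 dvd_rfl
  have hlwN : ∀ x ∈ N, (l ^ w) x = 1 := fun x hx => by
    have h1 : l x ^ E = 1 := hlN ⟨x, hx⟩
    have h2 : l x ^ (p ^ a' * r) = 1 := by
      rw [← hlr, ← MonoidHom.pow_apply, pow_orderOf_eq_one, MonoidHom.one_apply]
    obtain ⟨w', rfl⟩ := hw1
    rw [MonoidHom.pow_apply, pow_mul, TwoFusion.eq_one_of_pow_eq_one_of_coprime (m := E) (n := p ^ a')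
      (x := l x ^ r) (by rw [← pow_mul, mul_comm, pow_mul, h1, one_pow])
      (by rw [← pow_mul, mul_comm, h2]) ((hpp.coprime_iff_not_dvd.2 hE).symm.pow_right a'), one_pow]
  have hlwC : ∀ c : G, ¬ p ∣ orderOf c → (l ^ w) c = 1 := fun c hc => by
    have h1 : l c ^ orderOf c = 1 := by rw [← map_pow, pow_orderOf_eq_one, map_one]
    have h2 : l c ^ (p ^ a' * r) = 1 := by
      rw [← hlr, ← MonoidHom.pow_apply, pow_orderOf_eq_one, MonoidHom.one_apply]
    obtain ⟨w', rfl⟩ := hw1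
    rw [MonoidHom.pow_apply, pow_mul, TwoFusion.eq_one_of_pow_eq_one_of_coprime (m := orderOf c)
      (n := p ^ a') (x := l c ^ r) (by rw [← pow_mul, mul_comm, pow_mul, h1, one_pow])
      (by rw [← pow_mul, mul_comm, h2]) ((hpp.coprime_iff_not_dvd.2 hc).symm.pow_right a'), one_pow]
  set t : G →* ℂˣ := ν * l ^ w with ht
  have htN : ∀ x ∈ N, t x = 1 := fun x hx => by
    rw [ht, MonoidHom.mul_apply, hνN x hx, hlwN x hx, one_mul]
  set χf : G → ℂ := χ₀ * CharExtend.valHom G t with hχf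
  have hχfN : ∀ n : N, χf n = (θ : N → ℂ) n := fun n => by
    rw [hχf, Pi.mul_apply, CharExtend.valHom_apply, htN _ n.2, Units.val_one, mul_one, hχ₀N]
  have hχfI : IsIrrCharacter G χf := CharApp.gallagher_irr N hχ₀ (hresI hχ₀N)
    (Char.isIrrCharacter_of_hom ((Units.coeHom ℂ).comp t))
    (fun n => by
      show ((t n : ℂˣ) : ℂ) = ((t 1 : ℂˣ) : ℂ)
      rw [htN _ n.2, map_one])
  have hχf1 : χf 1 = d := by rw [← hd1, ← hχfN 1, OneMemClass.coe_one]
  have hχfC : ∀ c ∈ C, ¬ p ∣ orderOf c → MemLocalIdeal M (χf c - d) := fun c hc hcp => by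
    rw [hχf, Pi.mul_apply, CharExtend.valHom_apply, ht, MonoidHom.mul_apply, hlwC c hcp, mul_one]
    exact hνC c hc hcp
  refine ⟨⟨χf, hχfI⟩, ?_, ⟨m₀, hpm₀, fun g => ?_⟩, hχfN⟩
  · refine PRational.mem_principal_of_regular hM fun g hg => ?_
    show MemLocalIdeal M (centralChar χf g - centralChar (fun _ => (1 : ℂ)) g)
    set i := (Subgroup.centralizer ({g} : Set G)).index with hi
    have hχR : ∀ x, MemLocalRing M (χf x) := fun x => Blocks.memR_of_isIntegral hM
      (Char.IsCharacter.isIntegral (Char.IsIrrCharacter.isCharacter hχfI) x)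
    simp only [centralChar, ← hi, hχf1, mul_one, div_one]
    rw [show (i : ℂ) * χf g / d - i = (i : ℂ) * ((d : ℂ)⁻¹ * (χf g - d)) by
      have : (d : ℂ) ≠ 0 := Blocks.ne_zero_of_not_memI hM hdI
      field_simp]
    by_cases hpi : p ∣ i
    · exact Blocks.memI_mul_right hM ((Blocks.memI_natCast hM).2 hpi)
        (Blocks.memR_mul hM (Blocks.memR_natCast_inv hM hdeg)
          (Blocks.memR_sub hM (hχR g) (Blocks.memR_natCast hM _)))
    refine Blocks.memI_mul_left hM (Blocks.memR_natCast hM _)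
      (Blocks.memI_mul_left hM (Blocks.memR_natCast_inv hM hdeg) ?_)
    obtain ⟨S₁⟩ : Nonempty (Sylow p (Subgroup.centralizer ({g} : Set G))) := inferInstance
    have hS₁i : ¬ p ∣ ((S₁ : Subgroup (Subgroup.centralizer ({g} : Set G))).map
        (Subgroup.centralizer ({g} : Set G)).subtype).index := by
      rw [Subgroup.index_map_subtype]
      exact fun h => (hpp.dvd_mul.1 h).elim S₁.not_dvd_index hpi
    obtain ⟨S₂, hS₂⟩ := (Q.2.map N.subtype).exists_le_sylow
    obtain ⟨z, hz⟩ := MulAction.exists_smul_eq G ((S₁.2.map _).toSylow hS₁i) S₂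
    have hzC : z * g * z⁻¹ ∈ C := by
      rw [hC, Subgroup.mem_centralizer_iff]
      intro y hy
      have hy' : y ∈ (S₂ : Subgroup G) := hS₂ hy
      rw [← hz, Sylow.coe_subgroup_smul] at hy'
      obtain ⟨y₁, hy₁, rfl⟩ := hy'
      obtain ⟨y₂, -, rfl⟩ := hy₁
      have h1 := Subgroup.mem_centralizer_singleton_iff.1 y₂.2
      show z * (y₂ : G) * z⁻¹ * (z * g * z⁻¹) = z * g * z⁻¹ * (z * (y₂ : G) * z⁻¹)
      calc z * (y₂ : G) * z⁻¹ * (z * g * z⁻¹) = z * ((y₂ : G) * g) * z⁻¹ := by group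
        _ = z * (g * (y₂ : G)) * z⁻¹ := by rw [h1]
        _ = _ := by group
    have h := hχfC _ hzC (by
      rw [show orderOf (z * g * z⁻¹) = orderOf g from (MulAut.conj z).orderOf_eq g]; exact hg)
    rwa [Char.IsIrrCharacter.isClassFunction hχfI g z] at h
  · refine PRational.mem_adjoin_of_pow_invariant (Char.IsIrrCharacter.isCharacter hχfI) g hpp hG
      hpm₀ fun k hk hk1 => ?_
    show χf (g ^ k) = χf g
    have h2N : ∀ n : N, χf ((n : G) ^ k) = χf n := fun n => by
      rw [← Subgroup.coe_pow, hχfN, hχfN, hθpow k hk hk1]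
    obtain ⟨β, hβN, hβ⟩ := exists_linear_between hχfI (GaloisPow.isIrrCharacter_comp_pow hk hχfI)
      (hresI hχfN) h2N
    -- trivial on regular elements
    have hβreg : ∀ x : G, ¬ p ∣ orderOf x → β x = 1 := by
      intro x hx
      have hC' : ∀ c ∈ C, ¬ p ∣ orderOf c → β c = 1 := fun c hc hcp => by
        have h1 : c ^ k = c := by
          conv_rhs => rw [← pow_one c]
          refine pow_eq_pow_iff_modEq.2 (hk1.of_dvd ?_)
          exact ((hpp.coprime_iff_not_dvd.2 hcp).symm.pow_right a).dvd_of_dvd_mul_left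
            (hG ▸ orderOf_dvd_natCard c)
        have h2 := hβ c
        simp only [h1] at h2
        have hne : χf c ≠ 0 := fun h0 => hdI (by
          have h3 := hχfC c hc hcp
          rw [h0, zero_sub] at h3
          simpa using Blocks.memI_neg h3)
        exact Units.ext ((mul_eq_left₀ hne).1 h2.symm)
      obtain ⟨n, hn, c, hc, rfl⟩ := Subgroup.mem_sup_of_normal_left.1 (hreg x hx)
      obtain ⟨b, r', hbr, hr'⟩ := exists_prime_pow_mul p hpp (orderOf c) (orderOf_pos c).ne'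
      have hcr : β (c ^ p ^ b) = 1 := by
        refine hC' _ (C.pow_mem hc _) fun h => hr' (h.trans (orderOf_dvd_of_pow_eq_one ?_))
        rw [← pow_mul, ← hbr, pow_orderOf_eq_one]
      refine TwoFusion.eq_one_of_pow_eq_one_of_coprime (m := orderOf (n * c)) (n := p ^ b)
        (by rw [← map_pow, pow_orderOf_eq_one, map_one]) ?_
        ((hpp.coprime_iff_not_dvd.2 hx).symm.pow_right b)
      rw [map_mul, hβN ⟨n, hn⟩, one_mul, ← map_pow]
      exact hcr
    -- trivial by the determinant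
    have hβd : ∀ x, β x ^ d = 1 := by
      intro x
      have h1 := PRational.detChar_comp_pow (Char.IsIrrCharacter.isCharacter hχfI) hk x
      rw [show (fun y => χf (y ^ k)) = χf * CharExtend.valHom G β from funext hβ,
        CharExtend.detChar_mul_valHom (Char.IsIrrCharacter.isCharacter hχfI) hχf1] at h1
      set u := l ^ (1 + d * w) * ν ^ d with hu
      have hdet : ∀ y, detChar χf y = (u y : ℂ) := fun y => by
        rw [hχf, CharExtend.detChar_mul_valHom (Char.IsIrrCharacter.isCharacter hχ₀) hχ₀1, hl,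
          CharExtend.valHom_apply, ← Units.val_pow_eq_pow_val, ← Units.val_mul, hu, ht]
        congr 1
        simp only [MonoidHom.mul_apply, MonoidHom.pow_apply, mul_pow, pow_add, pow_one, ← pow_mul,
          mul_comm w d]
        ac_rfl
      rw [hdet, ← Units.val_pow_eq_pow_val, ← Units.val_pow_eq_pow_val, ← Units.val_mul,
        Units.val_inj] at h1
      have hu1 : u x ^ (r * Eν) = 1 := by
        have h2 : (l ^ (1 + d * w)) x ^ r = 1 := by
          obtain ⟨c, hc⟩ := Nat.modEq_zero_iff_dvd.1 hw2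
          rw [MonoidHom.pow_apply, ← pow_mul, show (1 + d * w) * r = p ^ a' * r * c by
            rw [add_comm, hc]; ring, pow_mul, ← hlr, ← MonoidHom.pow_apply, pow_orderOf_eq_one,
            MonoidHom.one_apply, one_pow]
        have h3 : ν x ^ Eν = 1 := by rw [← MonoidHom.pow_apply, hEν1, MonoidHom.one_apply]
        rw [hu, MonoidHom.mul_apply, mul_pow, pow_mul, h2, one_pow, one_mul, MonoidHom.pow_apply,
          ← pow_mul, show d * (r * Eν) = Eν * (d * r) by ring, pow_mul, h3, one_pow]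
      have h4 : u x ^ Nat.card G = 1 := by rw [← map_pow, pow_card_eq_one', map_one]
      have h5 : orderOf (u x) ∣ m₀ := by
        refine ((Nat.Coprime.pow_right a ?_)).dvd_of_dvd_mul_left
          (hG ▸ orderOf_dvd_of_pow_eq_one h4)
        exact Nat.Coprime.coprime_dvd_left (orderOf_dvd_of_pow_eq_one hu1)
          (hpp.coprime_iff_not_dvd.2 fun h => (hpp.dvd_mul.1 h).elim hr hEν).symm
      have h6 : u x ^ k = u x := by
        conv_rhs => rw [← pow_one (u x)]
        exact pow_eq_pow_iff_modEq.2 (hk1.of_dvd h5)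
      rw [h6] at h1
      exact mul_eq_left.1 h1
    have hβ1 : β g = 1 := by
      refine TwoFusion.eq_one_of_pow_eq_one_of_coprime (m := p ^ a) (n := d) ?_ (hβd g)
        ((hpp.coprime_iff_not_dvd.2 hdeg).pow_left a)
      rw [← map_pow]
      refine hβreg _ fun h => hpm₀ (h.trans (orderOf_dvd_of_pow_eq_one ?_))
      rw [← pow_mul, ← hG, pow_card_eq_one']
    have h := hβ g
    rw [hβ1, Units.val_one, mul_one] at h
    exact h

end Cfsg.Agent.S4892
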