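import Cfsg.Statements.S4903
import Cfsg.Agent.Lib.FeitBound.Sixteen

set_option autoImplicit false
open Cfsg

namespace Cfsg.Agent.S4903

/-- Let G be a finite group with a faithful irreducible complex character of degree 16, p a prime with p ≥ 19, and P a Sylow p-subgroup of G. Then P is normal in G, or p = 31 and the quotient of G by its centre is isomorphic to PSL(2,31). -/
theorem result {G : Type*} [Group G] [Finite G] (χ : Cfsg.IrrCharacter G) (hdeg : Cfsg.charDegree (χ : G → ℂ) = 16) (hfaith : ∀ g : G, (χ : G → ℂ) g = (χ : G → ℂ) 1 → g = 1) (p : ℕ) [Fact p.Prime] (hp : 19 ≤ p) (P : Sylow p G) : (P : Subgroup G).Normal ∨ (p = 31 ∧ Nonempty (G ⧸ Subgroup.center G ≃* Matrix.ProjectiveSpecialLinearGroup (Fin 2) (ZMod 31))) := by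
  obtain ⟨n, ρ, hirr, hρ⟩ := χ.2
  haveI := hirr
  have := Fintype.ofFinite G
  have hn : Module.finrank ℂ (Fin n → ℂ) = 16 := by
    have h1 : ((charDegree (χ : G → ℂ) : ℕ) : ℂ) = (χ : G → ℂ) 1 := Agent.Blocks.charDegree_cast χ
    rw [hdeg, ← hρ, Representation.char_one] at h1
    exact_mod_cast h1.symm
  refine FeitBound.sixteen hp ρ ((injective_iff_map_eq_one ρ).mpr fun g hg => hfaith g ?_) hn P
  rw [← hρ]
  show LinearMap.trace ℂ _ (ρ g) = LinearMap.trace ℂ _ (ρ 1)
  rw [hg, map_one ρ]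

end Cfsg.Agent.S4903
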