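import Cfsg.Statements.S4911
import Cfsg.Agent.Lib.GlauberChar.Ambient
import Cfsg.Agent.Lib.CharApp.PermLemma

set_option autoImplicit false
open Cfsg

namespace Cfsg.Agent.S4911

open GlauberChar
open scoped ComplexConjugate

theorem card_real_irr (G : Type*) [Group G] [Finite G] :
    Nat.card {χ : IrrCharacter G // ∀ g : G, ((χ : G → ℂ) g).im = 0} =
      Nat.card {C : ConjClasses G // ∀ g : G, ConjClasses.mk g = C → IsConj g g⁻¹} := by
  classical
  have := Fintype.ofFinite G
  refine Eq.trans ?_ ((CharApp.fixed_count (fun g : G => g⁻¹) ?_ ?_).trans ?_)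
  · refine Nat.card_congr (Equiv.subtypeEquivRight fun χ => ?_)
    rw [funext_iff]
    refine forall_congr' fun g => ?_
    rw [Function.comp_apply, Char.IsCharacter.apply_inv (Char.IsIrrCharacter.isCharacter χ.2),
      Complex.conj_eq_iff_im]
  · intro χ
    have e : (χ : G → ℂ) ∘ (fun g : G => g⁻¹) = fun g => conj ((χ : G → ℂ) g) :=
      funext fun g => Char.IsCharacter.apply_inv (Char.IsIrrCharacter.isCharacter χ.2) g
    rw [e]
    exact Char.IsIrrCharacter.conj χ.2
  · intro a b hab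
    obtain ⟨w, rfl⟩ := isConj_iff.1 hab
    exact isConj_iff.2 ⟨w, by group⟩
  · exact Nat.card_congr (Equiv.subtypeEquivRight fun C =>
      forall_congr' fun g => imp_congr_right fun _ => ⟨IsConj.symm, IsConj.symm⟩)

variable {G P : Type*} [Group G] [Group P] (φ : P →* MulAut G)

theorem real_fixed_count [Finite G] [Finite P] {p : ℕ} [Fact p.Prime] (hP : IsPGroup p P)
    (hG : ¬ p ∣ Nat.card G) :
    Nat.card {χ : IrrCharacter G // (∀ g : G, ((χ : G → ℂ) g).im = 0) ∧ IsFixed φ (χ : G → ℂ)} =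
      Nat.card {K : ConjClasses G //
        (∀ g : G, ConjClasses.mk g = K → IsConj g g⁻¹) ∧ IsFixedClass φ K} := by
  classical
  have := Fintype.ofFinite G
  have := Fintype.ofFinite (fixedSub φ)
  refine Eq.trans ?_ ((card_real_irr (fixedSub φ)).trans ?_)
  · -- the correspondence commutes with complex conjugation
    let bar : IrrCharacter G → IrrCharacter G := fun χ =>
      ⟨fun g => conj ((χ : G → ℂ) g), Char.IsIrrCharacter.conj χ.2⟩
    have hbar : ∀ χ : IrrCharacter G, IsFixed φ (χ : G → ℂ) → IsFixed φ ((bar χ : IrrCharacter G) : G → ℂ) :=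
      fun χ h s g => congrArg conj (h s g)
    let e := Equiv.ofBijective _ (toFixedIrr_bijective φ hP hG)
    have hmult : ∀ (χ : IrrCharacter G) (β : IrrCharacter (fixedSub φ)),
        mult φ ((bar χ : IrrCharacter G) : G → ℂ) (fun c => conj ((β : fixedSub φ → ℂ) c)) =
          mult φ (χ : G → ℂ) (β : fixedSub φ → ℂ) := by
      intro χ β
      refine mult_eq_of_classInner φ ?_
      have h := congrArg conj (mult_spec φ (Char.IsIrrCharacter.isCharacter χ.2)
        (Char.IsIrrCharacter.isCharacter β.2))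
      rw [Complex.conj_natCast] at h
      rw [← h]
      simp only [classInner, map_mul, map_inv₀, map_natCast, map_sum]
      rfl
    have hcomm : ∀ χ : {χ : IrrCharacter G // IsFixed φ (χ : G → ℂ)},
        ((toFixedIrr φ hG (bar χ.1) : IrrCharacter (fixedSub φ)) : fixedSub φ → ℂ) =
          fun c => conj ((toFixedIrr φ hG χ.1 : fixedSub φ → ℂ) c) := by
      intro χ
      refine congrArg Subtype.val (irr_unique φ hP hG (hbar _ χ.2)
        (β' := ⟨_, Char.IsIrrCharacter.conj (toFixedIrr φ hG χ.1).2⟩)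
        (exists_irr_of_fixed φ hG (bar χ.1)).choose_spec ?_)
      show ¬ p ∣ mult φ ((bar χ.1 : IrrCharacter G) : G → ℂ)
        (fun c => conj ((toFixedIrr φ hG χ.1 : fixedSub φ → ℂ) c))
      rw [hmult]
      exact (exists_irr_of_fixed φ hG χ.1).choose_spec
    have hiff : ∀ χ : {χ : IrrCharacter G // IsFixed φ (χ : G → ℂ)},
        (∀ g : G, ((χ.1 : G → ℂ) g).im = 0) ↔ ∀ c, ((e χ : fixedSub φ → ℂ) c).im = 0 := by
      intro χ
      constructor
      · intro h c
        have hb : bar χ.1 = χ.1 := Subtype.ext (funext fun g => Complex.conj_eq_iff_im.2 (h g))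
        have h1 := congrFun (hcomm χ) c
        rw [hb] at h1
        exact Complex.conj_eq_iff_im.1 h1.symm
      · intro h g
        have h1 : e ⟨bar χ.1, hbar _ χ.2⟩ = e χ :=
          Subtype.ext ((hcomm χ).trans (funext fun c => Complex.conj_eq_iff_im.2 (h c)))
        exact Complex.conj_eq_iff_im.1
          (congrFun (congrArg (fun x : {χ : IrrCharacter G // IsFixed φ (χ : G → ℂ)} => (x.1 : G → ℂ))
            (e.injective h1)) g)
    exact Nat.card_congr
      (((Equiv.subtypeEquivRight fun χ => and_comm).trans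
        (Equiv.subtypeSubtypeEquivSubtypeInter _ _).symm).trans (e.subtypeEquiv hiff))
  · let e := Equiv.ofBijective _ (classMap_bijective φ hP hG)
    refine Nat.card_congr ((e.subtypeEquiv (q := fun K => ∀ g : G, ConjClasses.mk g = K.1 → IsConj g g⁻¹)
      fun C => ?_).trans ((Equiv.subtypeSubtypeEquivSubtypeInter (IsFixedClass φ)
        (fun K => ∀ g : G, ConjClasses.mk g = K → IsConj g g⁻¹)).trans
        (Equiv.subtypeEquivRight fun K => and_comm)))
    obtain ⟨a, rfl⟩ := ConjClasses.mk_surjective C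
    have he : (e (ConjClasses.mk a)).1 = ConjClasses.mk (a : G) := rfl
    constructor
    · intro h g hg
      rw [he] at hg
      have h1 : IsConj g (a : G) := ConjClasses.mk_eq_mk_iff_isConj.1 hg
      have h2 : IsConj (a : G) (a : G)⁻¹ := (fixedSub φ).subtype.map_isConj (h a rfl)
      obtain ⟨w, hw⟩ := isConj_iff.1 h1
      exact (h1.trans h2).trans (isConj_iff.2 ⟨w⁻¹, by rw [← hw]; group⟩)
    · intro h c hc
      obtain ⟨u, hu⟩ := isConj_iff.1 (ConjClasses.mk_eq_mk_iff_isConj.1 hc)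
      have h1 : IsConj (a : G) (a : G)⁻¹ := h _ he.symm
      obtain ⟨g, hg, hga⟩ := fused_in_fixed φ hP hG a.2 ((fixedSub φ).inv_mem a.2) h1
      have h2 : IsConj a a⁻¹ := isConj_iff.2 ⟨⟨g, hg⟩, Subtype.ext hga⟩
      exact ((isConj_iff.2 ⟨u, hu⟩).trans h2).trans (isConj_iff.2 ⟨u⁻¹, by rw [← hu]; group⟩)

/-- Let P and K be subgroups of a finite group with P a p-group normalizing K and K of order prime to p. Then the number of P-invariant real-valued irreducible complex characters of K equals the number of conjugacy classes of K that are real (closed under inversion) and P-invariant. Moreover, if every real-valued irreducible character of K is P-invariant, then every real element of K (one conjugate in K to its inverse) is conjugate in K to an element centralized by P. -/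
theorem result {G : Type*} [Group G] [Finite G] (p : ℕ) [Fact p.Prime] (P K : Subgroup G) (hP : IsPGroup p ↥P) (hK : ¬ p ∣ Nat.card ↥K) (hPK : P ≤ Subgroup.normalizer (K : Set G)) : Nat.card {θ : Cfsg.IrrCharacter ↥K // (∀ k : ↥K, ((θ : ↥K → ℂ) k).im = 0) ∧ (∀ x ∈ P, ∀ k k' : ↥K, (k' : G) = x * (k : G) * x⁻¹ → (θ : ↥K → ℂ) k' = (θ : ↥K → ℂ) k)} = Nat.card {c : ConjClasses ↥K // (∀ k : ↥K, ConjClasses.mk k = c → IsConj k k⁻¹) ∧ ∀ k : ↥K, ConjClasses.mk k = c → ∀ x ∈ P, ∀ k' : ↥K, (k' : G) = x * (k : G) * x⁻¹ → ConjClasses.mk k' = c} ∧ ((∀ θ : Cfsg.IrrCharacter ↥K, (∀ k : ↥K, ((θ : ↥K → ℂ) k).im = 0) → (∀ x ∈ P, ∀ k k' : ↥K, (k' : G) = x * (k : G) * x⁻¹ → (θ : ↥K → ℂ) k' = (θ : ↥K → ℂ) k)) → ∀ k : ↥K, IsConj k k⁻¹ → ∃ k' : ↥K, IsConj k k' ∧ ∀ x ∈ P, x * (k' : G) * x⁻¹ = (k' : G)) := by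
  classical
  have hnorm : ∀ x ∈ P, ∀ k ∈ K, x * k * x⁻¹ ∈ K :=
    fun x hx k hk => (Subgroup.mem_normalizer_iff.1 (hPK hx) k).1 hk
  set φ := actHom K P hnorm with hφ
  have hfix : ∀ c : ConjClasses ↥K, IsFixedClass φ c ↔
      ∀ k : ↥K, ConjClasses.mk k = c → ∀ x ∈ P, ∀ k' : ↥K, (k' : G) = x * (k : G) * x⁻¹ →
        ConjClasses.mk k' = c := fun c =>
    ⟨fun h k hk x hx k' hkk => by
      have : k' = φ ⟨x, hx⟩ k := Subtype.ext hkk
      rw [this]; exact h ⟨x, hx⟩ k hk,
     fun h x k hk => h k hk x x.2 _ rfl⟩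
  have hcount := real_fixed_count φ hP hK
  refine ⟨?_, fun hall k hk => ?_⟩
  · refine (Nat.card_congr (Equiv.subtypeEquivRight fun θ =>
      and_congr_right fun _ => (isFixed_iff K P hnorm _).symm)).trans (hcount.trans ?_)
    exact Nat.card_congr (Equiv.subtypeEquivRight fun c => and_congr_right fun _ => hfix c)
  · have hfixK : IsFixedClass φ (ConjClasses.mk k) := by
      let inc : {c : ConjClasses ↥K // (∀ g : ↥K, ConjClasses.mk g = c → IsConj g g⁻¹) ∧ IsFixedClass φ c} →
          {c : ConjClasses ↥K // ∀ g : ↥K, ConjClasses.mk g = c → IsConj g g⁻¹} :=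
        fun c => ⟨c.1, c.2.1⟩
      have hinj : Function.Injective inc := fun a b h => Subtype.ext (congrArg (fun x => x.1) h :)
      have hcard : Nat.card {c : ConjClasses ↥K // (∀ g : ↥K, ConjClasses.mk g = c → IsConj g g⁻¹) ∧ IsFixedClass φ c} =
          Nat.card {c : ConjClasses ↥K // ∀ g : ↥K, ConjClasses.mk g = c → IsConj g g⁻¹} := by
        rw [← hcount, ← card_real_irr]
        exact Nat.card_congr (Equiv.subtypeEquivRight fun θ =>
          ⟨fun h => h.1, fun h => ⟨h, (isFixed_iff K P hnorm _).2 (hall θ h)⟩⟩)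
      obtain ⟨c, hc⟩ := ((Nat.bijective_iff_injective_and_card inc).2 ⟨hinj, hcard⟩).surjective
        ⟨ConjClasses.mk k, fun g hg => by
          obtain ⟨w, hw⟩ := isConj_iff.1 (ConjClasses.mk_eq_mk_iff_isConj.1 hg)
          exact ((isConj_iff.2 ⟨w, hw⟩).trans hk).trans (isConj_iff.2 ⟨w⁻¹, by rw [← hw]; group⟩)⟩
      have := congrArg Subtype.val hc
      simp only [inc] at this
      exact this ▸ c.2.2
    obtain ⟨c, hc, hkc⟩ := exists_fixed_in_class φ hP hK
      (x := k) fun s => (ConjClasses.mk_eq_mk_iff_isConj.1 (hfixK s k rfl)).symm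
    exact ⟨c, hkc, fun x hx => congrArg Subtype.val (hc ⟨x, hx⟩)⟩

end Cfsg.Agent.S4911
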