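import Cfsg.Statements.S4912
import Cfsg.Agent.Lib.CliffordChar.LinearTwist
import Cfsg.Agent.Lib.FSInd.Basic

set_option autoImplicit false
open Cfsg

namespace Cfsg.Agent.S4912

/-- Let G be a finite group with a non-abelian minimal normal subgroup N, and let φ be an irreducible complex character of N with stabilizer I in G such that φ extends to an irreducible character of I with Frobenius–Schur indicator +1. Put d = φ(1)·[G : I]. Then the number of linear characters of G with Frobenius–Schur indicator +1 is at most [G : I] times the number of irreducible characters of G of degree d with Frobenius–Schur indicator +1. -/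
theorem result {G : Type*} [Group G] [Finite G] (N : Subgroup G) (hN : N.Normal) (hN1 : N ≠ ⊥) (hmin : ∀ M : Subgroup G, M.Normal → M ≤ N → M = ⊥ ∨ M = N) (hna : ¬ IsMulCommutative ↥N) (φ : Cfsg.IrrCharacter ↥N) (I : Subgroup G) (hI : ∀ g : G, g ∈ I ↔ ∀ n n' : ↥N, (n' : G) = g * (n : G) * g⁻¹ → (φ : ↥N → ℂ) n' = (φ : ↥N → ℂ) n) (hNI : N ≤ I) (hext : ∃ ψ : Cfsg.IrrCharacter ↥I, (Nat.card ↥I : ℂ)⁻¹ * ∑ᶠ g : ↥I, (ψ : ↥I → ℂ) (g * g) = 1 ∧ ∀ n : ↥N, (ψ : ↥I → ℂ) (Subgroup.inclusion hNI n) = (φ : ↥N → ℂ) n) : Nat.card {χ : Cfsg.IrrCharacter G // Cfsg.charDegree (χ : G → ℂ) = 1 ∧ (Nat.card G : ℂ)⁻¹ * ∑ᶠ g : G, (χ : G → ℂ) (g * g) = 1} ≤ I.index * Nat.card {χ : Cfsg.IrrCharacter G // Cfsg.charDegree (χ : G → ℂ) = Cfsg.charDegree (φ : ↥N → ℂ) * I.index ∧ (Nat.card G : ℂ)⁻¹ * ∑ᶠ g : G, (χ : G → ℂ) (g * g) = 1} := by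
  classical
  haveI := Fintype.ofFinite G
  haveI := Fintype.ofFinite I
  have := hN
  have hperf := CliffordChar.le_commutator_of_perfect
    (CliffordChar.commutator_eq_of_minimal_nonabelian N hmin hna)
  have hI' : I = CharApp.inertia N (φ : ↥N → ℂ) := by
    ext g
    rw [hI, CharApp.mem_inertia_iff]
    exact ⟨fun h n => h n _ rfl, fun h n n' e => by
      have := h n
      rwa [show (⟨g * n * g⁻¹, hN.conj_mem n n.2 g⟩ : ↥N) = n' from Subtype.ext e.symm] at this⟩
  haveI := Fintype.ofFinite ↥N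
  obtain ⟨ψ, hψν, hψN⟩ := hext
  rw [FSInd.fsInd_eq_finsum] at hψν
  refine CliffordChar.card_le_of_twist N I hperf φ.2 hI' hNI ψ.2 hψN _ _
    (fun χ hχ => by rw [CharApp.DegreeSets.apply_one χ.2, hχ.1, Nat.cast_one]) fun χ h hχ => ⟨?_, ?_⟩
  · refine Nat.cast_injective (R := ℂ) ?_
    show (Cfsg.charDegree (indFun I fun i : I => (ψ : ↥I → ℂ) i * (χ : G → ℂ) i) : ℂ) = _
    rw [← CharApp.DegreeSets.apply_one h, Char.indFun_one_apply, Nat.cast_mul,
      ← CharApp.DegreeSets.apply_one φ.2, ← hψN 1]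
    show (I.index : ℂ) * ((ψ : ↥I → ℂ) 1 * (χ : G → ℂ) 1) = (ψ : ↥I → ℂ) _ * _
    rw [CharApp.DegreeSets.apply_one χ.2, hχ.1, Nat.cast_one, mul_one, map_one, mul_comm]
  · obtain ⟨hd, hν⟩ := hχ
    rw [FSInd.fsInd_eq_finsum] at hν ⊢
    obtain ⟨l, hl⟩ := Char.exists_hom_of_degree_one (Char.IsIrrCharacter.isCharacter χ.2)
      (by rw [CharApp.DegreeSets.apply_one χ.2, hd, Nat.cast_one])
    have hχreal := FSInd.real_of_fsInd_ne_zero χ.2 (by rw [hν]; exact one_ne_zero)
    have hψreal := FSInd.real_of_fsInd_ne_zero ψ.2 (by rw [hψν]; exact one_ne_zero)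
    have hl2 : ∀ g : G, l g * l g = 1 := fun g => by
      have h1 := Char.IsCharacter.apply_inv (Char.IsIrrCharacter.isCharacter χ.2) g
      rw [Complex.conj_eq_iff_im.2 (hχreal g), ← hl] at h1
      calc l g * l g = l g * l g⁻¹ := by rw [h1]
        _ = 1 := by rw [← map_mul, mul_inv_cancel, map_one]
    have hirr := (CliffordChar.twist_data N I hperf φ.2 hI' hNI ψ.2 hψN l).1
    have hΨreal : ∀ i : I, ((ψ : ↥I → ℂ) i * l i).im = 0 := fun i => by
      rw [Complex.mul_im, hψreal i, hl, hχreal i, mul_zero, zero_mul, add_zero]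
    have hfun : (fun i : I => (ψ : ↥I → ℂ) i * (χ : G → ℂ) i) = fun i : I => (ψ : ↥I → ℂ) i * l i := by
      rw [hl]
    show FSInd.fsInd (indFun I fun i : I => (ψ : ↥I → ℂ) i * (χ : G → ℂ) i) = 1
    rw [hfun] at h ⊢
    have hreal : ∀ g : G, ((indFun I fun i : I => (ψ : ↥I → ℂ) i * l i) g).im = 0 := fun g => by
      have hz : ∀ x : G, (extendByZero I (fun i : I => (ψ : ↥I → ℂ) i * l i) x).im = 0 := fun x => by
        rw [Char.extendByZero_eq]
        split_ifs with hx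
        · exact hΨreal ⟨x, hx⟩
        · simp
      rw [Cfsg.indFun, Complex.mul_im, Complex.im_sum, Finset.sum_eq_zero (fun x _ => hz _)]
      simp
    have hmult : classInner (fun i : I => indFun I (fun i : I => (ψ : ↥I → ℂ) i * l i) i)
        (fun i : I => (ψ : ↥I → ℂ) i * l i) = 1 := by
      rw [← Char.frobenius_reciprocity' I _ (Char.IsIrrCharacter.isClassFunction h)]
      exact Char.classInner_irr_self h
    rw [FSInd.fsInd_eq_of_restrict I h hreal hirr hΨreal hmult, ← hψν, FSInd.fsInd, FSInd.fsInd]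
    refine congrArg _ (Finset.sum_congr rfl fun i _ => ?_)
    rw [Subgroup.coe_mul, map_mul, hl2, mul_one]

end Cfsg.Agent.S4912
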