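import Cfsg.Statements.S4914
import Cfsg.Agent.EqLemmas
import Cfsg.Agent.Lib.RelGlauber.Main
import Cfsg.Agent.Lib.GlauberChar.Ambient
import Cfsg.Agent.Lib.Blocks.Defect

set_option autoImplicit false
open Cfsg

namespace Cfsg.Agent.S4914

set_option maxHeartbeats 800000 in
/-- Let P and K be subgroups of a finite group G with P a p-group normalizing K, and suppose K has a normal Sylow p-subgroup Q. Let C be the subgroup of those k ∈ K whose commutator with every element of P lies in Q (so that C/Q is the fixed-point subgroup of P on K/Q). Then there is a bijection f from the P-invariant irreducible complex characters of K onto the P-invariant irreducible complex characters of C such that, for every P-invariant irreducible character χ of K, the multiplicity of f(χ) in the restriction of χ to C is a natural number congruent to 1 or to −1 modulo p, every other P-invariant irreducible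 character of C occurs in that restriction with multiplicity divisible by p, and the degrees of χ and f(χ) are congruent modulo p up to sign. -/
theorem result {G : Type*} [Group G] [Finite G] (p : ℕ) [Fact p.Prime] (P K Q C : Subgroup G) (hP : IsPGroup p ↥P) (hPK : P ≤ Subgroup.normalizer (K : Set G)) (hQK : Q ≤ K) (hQn : ∀ k ∈ K, ∀ q ∈ Q, k * q * k⁻¹ ∈ Q) (hQp : ∃ a : ℕ, Nat.card ↥Q = p ^ a) (hQsyl : ¬ p ∣ Q.relIndex K) (hCK : C ≤ K) (hC : ∀ k : G, k ∈ C ↔ (k ∈ K ∧ ∀ x ∈ P, x * k * x⁻¹ * k⁻¹ ∈ Q)) : ∃ f : {χ : Cfsg.IrrCharacter ↥K // (∀ x ∈ P, ∀ k k' : ↥K, (k' : G) = x * (k : G) * x⁻¹ → (χ : ↥K → ℂ) k' = (χ : ↥K → ℂ) k)} → {ξ : Cfsg.IrrCharacter ↥C // (∀ x ∈ P, ∀ k k' : ↥C, (k' : G) = x * (k : G) * x⁻¹ → (ξ : ↥C → ℂ) k' = (ξ : ↥C → ℂ) k)}, Function.Bijective f ∧ ∀ χ, (∀ ξ : {ξ : Cfsg.IrrCharacter ↥C // (∀ x ∈ P, ∀ k k' : ↥C, (k' : G) = x * (k : G) * x⁻¹ → (ξ : ↥C → ℂ) k' = (ξ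 : ↥C → ℂ) k)}, ∃ m : ℕ, (Nat.card ↥C : ℂ)⁻¹ * ∑ᶠ c : ↥C, (χ.1 : ↥K → ℂ) (Subgroup.inclusion hCK c) * (starRingEnd ℂ) ((ξ.1 : ↥C → ℂ) c) = (m : ℂ) ∧ (ξ = f χ → ((m : ZMod p) = 1 ∨ (m : ZMod p) = -1)) ∧ (ξ ≠ f χ → p ∣ m)) ∧ ((Cfsg.charDegree ((f χ).1 : ↥C → ℂ) : ZMod p) = (Cfsg.charDegree (χ.1 : ↥K → ℂ) : ZMod p) ∨ (Cfsg.charDegree ((f χ).1 : ↥C → ℂ) : ZMod p) = -(Cfsg.charDegree (χ.1 : ↥K → ℂ) : ZMod p)) := by
  classical
  have hnK : ∀ s ∈ P, ∀ g ∈ K, s * g * s⁻¹ ∈ K := fun s hs g hg =>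
    (Subgroup.mem_normalizer_iff.mp (hPK hs) g).mp hg
  haveI hQ' : (Q.subgroupOf K).Normal :=
    ⟨fun q hq k => hQn k k.2 q hq⟩
  have hQP : ∀ s ∈ P, ∀ q ∈ Q, s * q * s⁻¹ ∈ Q := by
    intro s hs q hq
    obtain ⟨a, ha⟩ := hQp
    let y : K := ⟨s * q * s⁻¹, hnK s hs q (hQK hq)⟩
    have h1 : (s * q * s⁻¹) ^ p ^ a = 1 := by
      have h2 : (⟨q, hq⟩ : Q) ^ p ^ a = 1 := by rw [← ha, pow_card_eq_one']
      have h3 : q ^ p ^ a = 1 := congrArg Subtype.val h2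
      rw [conj_pow, h3, mul_one, mul_inv_cancel]
    have h4 : ((y : K) : K ⧸ Q.subgroupOf K) ^ p ^ a = 1 := by
      rw [← QuotientGroup.mk_pow, show y ^ p ^ a = 1 from Subtype.ext h1, QuotientGroup.mk_one]
    have h5 : ((y : K) : K ⧸ Q.subgroupOf K) = 1 := orderOf_eq_one_iff.mp
      (Nat.eq_one_of_dvd_coprimes (((Fact.out : p.Prime).coprime_iff_not_dvd.mpr hQsyl).pow_left a)
        (orderOf_dvd_of_pow_eq_one h4) (orderOf_dvd_natCard _))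
    exact (QuotientGroup.eq_one_iff y).mp h5
  have hnC : ∀ s ∈ P, ∀ g ∈ C, s * g * s⁻¹ ∈ C := by
    intro s hs c hc
    obtain ⟨hcK, hcx⟩ := (hC c).mp hc
    refine (hC _).mpr ⟨hnK s hs c hcK, fun x hx => ?_⟩
    have h1 := hQP s hs _ (hcx (s⁻¹ * x * s) (P.mul_mem (P.mul_mem (P.inv_mem hs) hx) hs))
    convert h1 using 1
    group
  haveI := Fintype.ofFinite K
  haveI := Fintype.ofFinite C
  let φ := GlauberChar.actHom K P hnK
  let φC := GlauberChar.actHom C P hnC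
  let ι := Subgroup.inclusion hCK
  have hS : RelGlauber.Setting p φ φC ι (Q.subgroupOf K) := by
    refine ⟨hP, fun s q hq => hQP s s.2 _ hq, ?_, hQsyl, Subgroup.inclusion_injective hCK, fun k => ?_,
      fun s c => Subtype.ext rfl⟩
    · obtain ⟨a, ha⟩ := hQp
      exact (IsPGroup.of_card (n := a) ha).of_equiv (Subgroup.subgroupOfEquivOfLe hQK).symm
    · constructor
      · rintro ⟨c, rfl⟩ s
        exact ((hC c).mp c.2).2 s s.2
      · intro h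
        exact ⟨⟨(k : G), (hC k).mpr ⟨k.2, fun x hx => h ⟨x, hx⟩⟩⟩, Subtype.ext rfl⟩
  have hiK : ∀ χ : ↥K → ℂ, GlauberChar.IsFixed φ χ ↔
      ∀ x ∈ P, ∀ k k' : ↥K, (k' : G) = x * (k : G) * x⁻¹ → χ k' = χ k :=
    GlauberChar.isFixed_iff K P hnK
  have hiC : ∀ ξ : ↥C → ℂ, GlauberChar.IsFixed φC ξ ↔
      ∀ x ∈ P, ∀ k k' : ↥C, (k' : G) = x * (k : G) * x⁻¹ → ξ k' = ξ k :=
    GlauberChar.isFixed_iff C P hnC
  have hF := fun χ : {χ : Cfsg.IrrCharacter ↥K // (∀ x ∈ P, ∀ k k' : ↥K, (k' : G) = x * (k : G) * x⁻¹ →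
      (χ : ↥K → ℂ) k' = (χ : ↥K → ℂ) k)} => hS.forward χ.1.2 ((hiK _).mpr χ.2)
  choose F hFirr hFfix hF1 hF2 using hF
  have hnd : ∀ χ, ¬ p ∣ RelGlauber.rm ι (χ.1 : ↥K → ℂ) (F χ) := by
    intro χ hd
    have h0 := Int.modEq_zero_iff_dvd.mpr (Int.natCast_dvd_natCast.mpr hd)
    have hp1 : ¬ (p : ℤ) ∣ 1 := fun h1 =>
      (Fact.out : p.Prime).ne_one (Nat.dvd_one.mp (Int.natCast_dvd_natCast.mp (by exact_mod_cast h1)))
    rcases hF1 χ with h | h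
    · exact hp1 (Int.modEq_zero_iff_dvd.mp (h.symm.trans h0))
    · exact hp1 (dvd_neg.mp (Int.modEq_zero_iff_dvd.mp (h.symm.trans h0)))
  refine ⟨fun χ => ⟨⟨F χ, hFirr χ⟩, (hiC _).mp (hFfix χ)⟩, ⟨?_, ?_⟩, fun χ => ⟨fun ξ => ?_, ?_⟩⟩
  · intro χ χ' he
    have he' : F χ = F χ' := congrArg (fun z => ((z.1 : Cfsg.IrrCharacter ↥C) : ↥C → ℂ)) he
    obtain ⟨χ₀, -, -, -, hu⟩ := hS.backward (hFirr χ) (hFfix χ)
    exact Subtype.ext (Subtype.ext ((hu _ χ.1.2 ((hiK _).mpr χ.2) (hnd χ)).trans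
      (hu _ χ'.1.2 ((hiK _).mpr χ'.2) (he' ▸ hnd χ')).symm))
  · intro ξ
    obtain ⟨χ, hirr, hfix, hd, -⟩ := hS.backward ξ.1.2 ((hiC _).mpr ξ.2)
    refine ⟨⟨⟨χ, hirr⟩, (hiK _).mp hfix⟩, Subtype.ext (Subtype.ext ?_)⟩
    by_contra hne
    exact hd (hF2 ⟨⟨χ, hirr⟩, (hiK χ).mp hfix⟩ (ξ.1 : ↥C → ℂ) ξ.1.2 ((hiC _).mpr ξ.2) (Ne.symm hne))
  · refine ⟨RelGlauber.rm ι (χ.1 : ↥K → ℂ) (ξ.1 : ↥C → ℂ), ?_, ?_, fun hne => ?_⟩
    · rw [finsum_eq_sum_of_fintype]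
      exact RelGlauber.rm_spec (Char.IsIrrCharacter.isCharacter χ.1.2)
        (Char.IsIrrCharacter.isCharacter ξ.1.2)
    · rintro rfl
      rcases hF1 χ with h | h
      · left
        have := (ZMod.intCast_eq_intCast_iff _ _ _).mpr h
        simpa using this
      · right
        have := (ZMod.intCast_eq_intCast_iff _ _ _).mpr h
        simpa using this
    · exact hF2 χ _ ξ.1.2 ((hiC _).mpr ξ.2) fun h => hne (Subtype.ext (Subtype.ext h))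
  · have h := hS.degree_modEq χ.1.2 ((hiK _).mpr χ.2) (hFirr χ) (hFfix χ) (hF2 χ)
      (Blocks.charDegree_cast χ.1).symm (Blocks.charDegree_cast ⟨F χ, hFirr χ⟩).symm
    rw [h]
    rcases hF1 χ with h1 | h1
    · left
      have := (ZMod.intCast_eq_intCast_iff _ _ _).mpr h1
      push_cast at this
      rw [this, one_mul]
    · right
      have := (ZMod.intCast_eq_intCast_iff _ _ _).mpr h1
      push_cast at this
      rw [this, neg_one_mul, neg_neg]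

end Cfsg.Agent.S4914
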