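import Cfsg.Statements.S4916
import Cfsg.Agent.Lib.Blocks.Simple
import Cfsg.Agent.Lib.Blocks.Defect
import Cfsg.Agent.Lib.Char.Inner

set_option autoImplicit false
open Cfsg

namespace Cfsg.Agent.S4916

/-- Let G be a finite group, p a prime and M a maximal ideal of the algebraic integers containing p. Then the principal character is the only irreducible character of degree prime to p in the principal p-block of G if and only if p does not divide the order of G. -/
theorem result {G : Type*} [Group G] [Finite G] (p : ℕ) [Fact p.Prime] (M : Ideal Cfsg.AlgInt) (hM : Cfsg.IsPModular p M) : (∀ χ : Cfsg.IrrCharacter G, χ ∈ Cfsg.principalBlock M G → ¬ p ∣ Cfsg.charDegree (χ : G → ℂ) → (χ : G → ℂ) = fun _ => (1 : ℂ)) ↔ ¬ p ∣ Nat.card G := by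
  classical
  haveI := Fintype.ofFinite G
  haveI := Fintype.ofFinite (IrrCharacter G)
  let one : IrrCharacter G := ⟨1, Char.isIrrCharacter_one⟩
  have hone : one ∈ Cfsg.principalBlock M G := (Blocks.principal_isPBlock hM).2
  constructor
  · intro hall hp
    set B := Cfsg.principalBlock M G
    obtain ⟨P⟩ : Nonempty (Sylow p G) := inferInstance
    haveI := Fintype.ofFinite (P : Subgroup G)
    let m : IrrCharacter G → ℕ := fun χ =>
      if χ ∈ B then Cfsg.charDegree (χ : G → ℂ) else 0
    let f : ↥(P : Subgroup G) → ℂ :=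
      ∑ χ : IrrCharacter G, (m χ : ℂ) • fun u : ↥(P : Subgroup G) => (χ : G → ℂ) u
    have hzero : ∀ u : ↥(P : Subgroup G), u ≠ 1 → f u = 0 := by
      intro u hu
      have hy : p ∣ orderOf ((u⁻¹ : ↥(P : Subgroup G)) : G) := by
        rw [Subgroup.coe_inv, orderOf_inv]
        obtain ⟨j, hj⟩ := IsPGroup.iff_orderOf.1 P.2 u
        rw [← Subgroup.orderOf_coe] at hj
        rcases j with _ | j
        · rw [pow_zero, orderOf_eq_one_iff] at hj
          exact absurd (Subtype.ext hj) hu
        · rw [hj]; exact dvd_pow_self p (by omega)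
      have h := Blocks.weak_orth hM
        (Blocks.blockInd_mem_intRing hM (B := B) (Blocks.principal_isPBlock hM).1)
        (x := (1 : G)) (by simpa using hM.1.one_lt.ne') hy
      rw [finsum_mem_def, finsum_eq_sum_of_fintype] at h
      rw [← h]
      simp only [f, Finset.sum_apply, Pi.smul_apply, smul_eq_mul, m]
      refine Finset.sum_congr rfl fun χ _ => ?_
      by_cases hχ : χ ∈ B
      · rw [if_pos hχ, Set.indicator_of_mem hχ, Blocks.charDegree_cast,
          Subgroup.coe_inv, Char.IsCharacter.apply_inv (Char.IsIrrCharacter.isCharacter χ.2),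
          Complex.conj_conj]
      · rw [if_neg hχ, Set.indicator_of_notMem hχ, Nat.cast_zero, zero_mul]
    choose c hc using fun χ : IrrCharacter G => Char.IsCharacter.classInner_nat
      (Char.IsCharacter.restrict (Char.IsIrrCharacter.isCharacter χ.2) (P : Subgroup G))
      (Char.isCharacter_one (G := ↥(P : Subgroup G)))
    have h1 : classInner f 1 = (Nat.card (P : Subgroup G) : ℂ)⁻¹ * f 1 := by
      rw [classInner, Finset.sum_eq_single (1 : ↥(P : Subgroup G))
        (fun u _ hu => by rw [hzero u hu, zero_mul]) (fun h => absurd (Finset.mem_univ _) h)]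
      simp
    have h2 : classInner f 1 = ((∑ χ : IrrCharacter G, m χ * c χ : ℕ) : ℂ) := by
      rw [Char.classInner_sum_left, Nat.cast_sum]
      exact Finset.sum_congr rfl fun χ _ => by rw [Char.classInner_smul_left, hc, Nat.cast_mul]
    have hf1 : f 1 = ((∑ χ : IrrCharacter G, m χ * m χ : ℕ) : ℂ) := by
      rw [Nat.cast_sum]
      simp only [f, Finset.sum_apply, Pi.smul_apply, smul_eq_mul, m, OneMemClass.coe_one]
      refine Finset.sum_congr rfl fun χ _ => ?_
      by_cases hχ : χ ∈ B
      · rw [if_pos hχ, Nat.cast_mul, Blocks.charDegree_cast]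
      · simp [if_neg hχ]
    have hdvd : Nat.card (P : Subgroup G) ∣ ∑ χ : IrrCharacter G, m χ * m χ := by
      refine ⟨∑ χ : IrrCharacter G, m χ * c χ, Nat.cast_injective (R := ℂ) ?_⟩
      rw [Nat.cast_mul, ← h2, h1, ← hf1, ← mul_assoc,
        mul_inv_cancel₀ (Nat.cast_ne_zero.2 Nat.card_pos.ne'), one_mul]
    have hpP : p ∣ Nat.card (P : Subgroup G) := P.dvd_card_of_dvd_card hp
    have hmone : m one = 1 := by
      simp only [m, if_pos hone]
      refine Nat.cast_injective (R := ℂ) ?_
      rw [Blocks.charDegree_cast]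
      simp [one]
    rw [← Finset.add_sum_erase _ _ (Finset.mem_univ one), hmone, mul_one] at hdvd
    have hrest : p ∣ ∑ χ ∈ Finset.univ.erase one, m χ * m χ := Finset.dvd_sum fun χ hχ => by
      refine Dvd.dvd.mul_right ?_ _
      by_cases hB : χ ∈ B
      · simp only [m, if_pos hB]
        by_contra hd
        exact (Finset.mem_erase.1 hχ).1 (Subtype.ext (hall χ hB hd))
      · simp only [m, if_neg hB, dvd_zero]
    exact hM.1.one_lt.ne' (Nat.dvd_one.1 ((Nat.dvd_add_left hrest).1 (hpP.trans hdvd)))
  · intro hp χ hχ _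
    have hs := (Blocks.singleton_iff_not_dvd hM one).1
      (fun h => hp (h.trans (Nat.div_dvd_of_dvd (Blocks.charDegree_dvd_card one))))
    have : χ = one := by
      have h : χ ∈ Cfsg.blockOf M (one : G → ℂ) := hχ
      rwa [hs, Set.mem_singleton_iff] at h
    rw [this]
    rfl

end Cfsg.Agent.S4916
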