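import Cfsg.Statements.S4923
import Cfsg.Agent.EqLemmas
import Cfsg.Agent.Lib.Char.Orth

set_option autoImplicit false
open Cfsg

namespace Cfsg.Agent.S4923

variable {Q : Type*} [Group Q]

theorem commutator_le_of_index_two (A : Subgroup Q) (hA : ∀ a ∈ A, ∀ b ∈ A, a * b = b * a)
    (h2 : A.index = 2) {x : Q} (hx : x ∉ A) (K : Subgroup Q) [K.Normal]
    (h : ∀ a ∈ A, x * a * x⁻¹ * a⁻¹ ∈ K) : commutator Q ≤ K := by
  rw [← Subgroup.Normal.quotient_commutative_iff_commutator_le]
  have hax : ∀ a ∈ A, (x : Q ⧸ K) * a = a * x := by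
    intro a ha
    have := (QuotientGroup.eq_one_iff _).2 (h a ha)
    rw [QuotientGroup.mk_mul, QuotientGroup.mk_mul, QuotientGroup.mk_mul, QuotientGroup.mk_inv,
      QuotientGroup.mk_inv] at this
    rwa [mul_inv_eq_one, mul_inv_eq_iff_eq_mul] at this
  have haa : ∀ a ∈ A, ∀ b ∈ A, (a : Q ⧸ K) * b = b * a := fun a ha b hb => by
    rw [← QuotientGroup.mk_mul, hA a ha b hb, QuotientGroup.mk_mul]
  have hd : ∀ u : Q, ∃ a ∈ A, u = a ∨ u = a * x := fun u => by
    by_cases hu : u ∈ A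
    · exact ⟨u, hu, Or.inl rfl⟩
    · refine ⟨u * x⁻¹, ?_, Or.inr (by group)⟩
      rw [Subgroup.mul_mem_iff_of_index_two h2]
      simp [hu, inv_mem_iff, hx]
  constructor; constructor
  rintro ⟨u⟩ ⟨v⟩
  change (u : Q ⧸ K) * v = v * u
  obtain ⟨a, ha, rfl | rfl⟩ := hd u <;> obtain ⟨b, hb, rfl | rfl⟩ := hd v
  · exact haa _ ha _ hb
  · rw [QuotientGroup.mk_mul, ← mul_assoc, haa _ ha _ hb, mul_assoc, ← hax _ ha, mul_assoc]
  · rw [QuotientGroup.mk_mul, mul_assoc, hax _ hb, ← mul_assoc, haa _ ha _ hb, mul_assoc]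
  · rw [QuotientGroup.mk_mul, QuotientGroup.mk_mul]
    calc (a : Q ⧸ K) * x * (b * x) = a * (x * b) * x := by simp only [mul_assoc]
      _ = (a * b) * (x * x) := by rw [hax b hb]; simp only [mul_assoc]
      _ = (b * a) * (x * x) := by rw [haa a ha b hb]
      _ = b * (a * x) * x := by simp only [mul_assoc]
      _ = b * (x * a) * x := by rw [hax a ha]
      _ = b * x * (a * x) := by simp only [mul_assoc]

theorem normal_zpowers (A : Subgroup Q) (hA : ∀ a ∈ A, ∀ b ∈ A, a * b = b * a)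
    (h2 : A.index = 2) {x c : Q} (hx : x ∉ A) (hc : c ∈ A)
    (h : x * c * x⁻¹ ∈ Subgroup.zpowers c) : (Subgroup.zpowers c).Normal := by
  have hconj : ∀ u : Q, u * c * u⁻¹ ∈ Subgroup.zpowers c := by
    intro u
    by_cases hu : u ∈ A
    · rw [hA u hu c hc, mul_inv_cancel_right]; exact Subgroup.mem_zpowers c
    · have ha : u * x⁻¹ ∈ A := by
        rw [Subgroup.mul_mem_iff_of_index_two h2]; simp [hu, inv_mem_iff, hx]
      have h' : x * c * x⁻¹ ∈ A := Subgroup.zpowers_le.2 hc h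
      have : u * c * u⁻¹ = (u * x⁻¹) * (x * c * x⁻¹) * (u * x⁻¹)⁻¹ := by group
      rw [this, hA _ ha _ h', mul_inv_cancel_right]; exact h
  refine ⟨fun y hy u => ?_⟩
  obtain ⟨k, rfl⟩ := Subgroup.mem_zpowers_iff.1 hy
  rw [← conj_zpow]
  exact Subgroup.zpow_mem _ (hconj u) k

variable [Finite Q]

theorem ne_one_index_two {n : ℕ} (hQ : Nat.card Q = 2 ^ n) (hn : 1 ≤ n) :
    (commutator Q).index ≠ 1 ∧ ((∃ a b : Q, a * b ≠ b * a) → 4 ≤ (commutator Q).index) := by
  have hp : IsPGroup 2 Q := IsPGroup.of_card hQ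
  have : Group.IsNilpotent Q := hp.isNilpotent
  have hnt : Nontrivial Q := Finite.one_lt_card_iff_nontrivial.1 (by
    rw [hQ]; exact Nat.one_lt_two_pow (by omega))
  have h1 : (commutator Q).index ≠ 1 := by
    rw [Ne, Subgroup.index_eq_one]
    exact (Group.IsSolvable.commutator_lt_top_of_nontrivial Q).ne
  refine ⟨h1, fun ⟨a, b, hab⟩ => ?_⟩
  obtain ⟨k, hk⟩ := (IsPGroup.iff_card.1 (hp.to_quotient (commutator Q)))
  rw [← Subgroup.index_eq_card] at hk
  rcases k with _ | _ | k
  · simp_all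
  · exfalso
    have : Fact (Nat.Prime 2) := ⟨Nat.prime_two⟩
    have hcy : IsCyclic (Q ⧸ commutator Q) := isCyclic_of_prime_card (p := 2)
      (by rw [← Subgroup.index_eq_card, hk]; norm_num)
    apply hab
    have hfr : commutator Q ≤ frattini Q := by
      refine le_iInf₂ fun M hM => ?_
      have hMn : M.Normal := Subgroup.NormalizerCondition.normal_of_coatom M
        Group.normalizerCondition_of_isNilpotent hM
      rw [← Subgroup.Normal.quotient_commutative_iff_commutator_le]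
      obtain ⟨g, hg⟩ : ∃ g, g ∉ M := by
        by_contra! hall; exact hM.1 (top_le_iff.1 fun g _ => hall g)
      have htop : M ⊔ Subgroup.zpowers g = ⊤ := hM.2 _ (lt_of_le_of_ne le_sup_left
        fun he => hg (he ▸ Subgroup.mem_sup_right (Subgroup.mem_zpowers g)))
      have : IsCyclic (Q ⧸ M) := by
        refine isCyclic_iff_exists_zpowers_eq_top.2 ⟨QuotientGroup.mk' M g, ?_⟩
        have := congrArg (Subgroup.map (QuotientGroup.mk' M)) htop
        rwa [Subgroup.map_sup, MonoidHom.map_zpowers, QuotientGroup.map_mk'_self, bot_sup_eq,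
          Subgroup.map_top_of_surjective _ (QuotientGroup.mk'_surjective M)] at this
      infer_instance
    obtain ⟨u, hu⟩ := isCyclic_iff_exists_zpowers_eq_top.1 hcy
    obtain ⟨u, rfl⟩ := QuotientGroup.mk'_surjective _ u
    have htop : Subgroup.zpowers u ⊔ frattini Q = ⊤ := by
      refine top_le_iff.1 (le_trans ?_ (sup_le_sup_left hfr _))
      have := congrArg (Subgroup.comap (QuotientGroup.mk' (commutator Q))) hu
      rw [← MonoidHom.map_zpowers, Subgroup.comap_map_eq, Subgroup.comap_top,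
        QuotientGroup.ker_mk'] at this
      rw [this]
    have := frattini_nongenerating htop
    obtain ⟨i, rfl⟩ := Subgroup.mem_zpowers_iff.1 (this ▸ Subgroup.mem_top a)
    obtain ⟨j, rfl⟩ := Subgroup.mem_zpowers_iff.1 (this ▸ Subgroup.mem_top b)
    exact (Commute.refl u).zpow_zpow i j
  · rw [hk]; simp [pow_succ]; have := Nat.one_le_two_pow (n := k); omega



omit [Finite Q] in
theorem orderOf_two_pow_of_dvd {g : Q} {m : ℕ} (h : orderOf g ∣ 2 ^ m) :
    ∃ k ≤ m, orderOf g = 2 ^ k := (Nat.dvd_prime_pow Nat.prime_two).1 h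

theorem exists_center_commutator {n : ℕ} (hQ : Nat.card Q = 2 ^ n) (h : commutator Q ≠ ⊥) :
    ∃ z ∈ commutator Q, orderOf z = 2 ∧ ∀ u : Q, u * z = z * u := by
  have hp : IsPGroup 2 Q := IsPGroup.of_card hQ
  have : Fact (Nat.Prime 2) := ⟨Nat.prime_two⟩
  let act : MulAction Q (commutator Q) :=
    MulAction.compHom _ (MulAut.conjNormal (H := commutator Q))
  have hfix : ∃ z : commutator Q, z ∈ MulAction.fixedPoints Q (commutator Q) ∧ 1 ≠ z := by
    refine hp.exists_fixed_point_of_prime_dvd_card_of_fixed_point _ ?_ ?_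
    · obtain ⟨k, hk⟩ := (hp.to_subgroup (commutator Q)).exists_card_eq
      rcases k with _ | k
      · exact absurd (Subgroup.card_eq_one.1 (by simpa using hk)) h
      · rw [hk]; exact dvd_pow_self 2 k.succ_ne_zero
    · intro u
      change MulAut.conjNormal u (1 : commutator Q) = 1
      exact map_one _
  obtain ⟨⟨z, hz⟩, hzf, hz1⟩ := hfix
  have hz1' : z ≠ 1 := fun he => hz1 (Subtype.ext he.symm)
  have hcent : ∀ u : Q, u * z = z * u := fun u => by
    have := congrArg Subtype.val (hzf u)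
    change u * z * u⁻¹ = z at this
    rwa [mul_inv_eq_iff_eq_mul] at this
  obtain ⟨k, -, hk⟩ := orderOf_two_pow_of_dvd (hQ ▸ orderOf_dvd_natCard z)
  rcases k with _ | k
  · exact absurd (orderOf_eq_one_iff.1 (by simpa using hk)) hz1'
  refine ⟨z ^ (2 ^ k), Subgroup.pow_mem _ hz _, ?_, fun u => ?_⟩
  · rw [orderOf_pow' z (by positivity), hk, pow_succ, Nat.gcd_eq_right (dvd_mul_right _ _),
      Nat.mul_div_cancel_left _ (by positivity)]
  · exact (Commute.pow_right (hcent u) _).eq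

omit [Finite Q] in
theorem index_two_of_orderOf {n : ℕ} (hQ : Nat.card Q = 2 ^ n) (hn : 1 ≤ n) {g : Q}
    (hg : orderOf g = 2 ^ (n - 1)) :
    (Subgroup.zpowers g).index = 2 ∧ ∀ a ∈ Subgroup.zpowers g, ∀ b ∈ Subgroup.zpowers g,
      a * b = b * a := by
  constructor
  · have := Subgroup.card_mul_index (Subgroup.zpowers g)
    rw [Nat.card_zpowers, hg, hQ] at this
    refine Nat.eq_of_mul_eq_mul_left (Nat.two_pow_pos (n - 1)) ?_
    rw [this, ← pow_succ]; congr 1; omega
  · intro a ha b hb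
    obtain ⟨i, rfl⟩ := Subgroup.mem_zpowers_iff.1 ha
    obtain ⟨j, rfl⟩ := Subgroup.mem_zpowers_iff.1 hb
    exact (Commute.refl g).zpow_zpow i j

universe u

theorem exists_gen {n : ℕ} (hn : 3 ≤ n) : ∀ (Q : Type u) [Group Q] [Finite Q],
    Nat.card Q = 2 ^ n → (commutator Q).index = 4 → ∃ g : Q, orderOf g = 2 ^ (n - 1) := by
  induction n, hn using Nat.le_induction with
  | base =>
    intro Q _ _ hQ hidx
    by_contra! hne
    have h2 : ∀ u : Q, u * u = 1 := by
      intro u
      obtain ⟨k, hk, hku⟩ := orderOf_two_pow_of_dvd (hQ ▸ orderOf_dvd_natCard u)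
      have hk3 : k ≠ 3 := by
        intro he; subst he
        apply hne (u ^ 2)
        rw [orderOf_pow' u two_ne_zero, hku]; norm_num
      have hk2 : k ≠ 2 := by
        intro he; subst he; exact hne u hku
      rw [← pow_two, ← orderOf_dvd_iff_pow_eq_one, hku]
      interval_cases k <;> simp_all
    have hcomm : ∀ a b : Q, a * b = b * a := fun a b => by
      have hinv : ∀ u : Q, u⁻¹ = u := fun u => inv_eq_of_mul_eq_one_right (h2 u)
      calc a * b = (a * b)⁻¹ := (hinv _).symm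
        _ = b⁻¹ * a⁻¹ := mul_inv_rev a b
        _ = b * a := by rw [hinv, hinv]
    have hbot : commutator Q = ⊥ := by
      rw [eq_bot_iff, commutator_def, Subgroup.commutator_le]
      intro a _ b _
      rw [Subgroup.mem_bot, commutatorElement_eq_one_iff_mul_comm]; exact hcomm a b
    rw [hbot, Subgroup.index_bot, hQ] at hidx
    norm_num at hidx
  | succ n hn ih =>
    intro Q _ _ hQ hidx
    have hne : commutator Q ≠ ⊥ := by
      intro hb
      rw [hb, Subgroup.index_bot, hQ] at hidx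
      have : 2 ^ 3 ≤ 2 ^ (n + 1) := Nat.pow_le_pow_right (by norm_num) (by omega)
      omega
    obtain ⟨z, hzc, hz2, hzcent⟩ := exists_center_commutator hQ hne
    have hZn : (Subgroup.zpowers z).Normal := by
      refine ⟨fun y hy u => ?_⟩
      obtain ⟨i, rfl⟩ := Subgroup.mem_zpowers_iff.1 hy
      rw [((Commute.zpow_right (hzcent u) i)).eq, mul_inv_cancel_right]
      exact Subgroup.zpow_mem _ (Subgroup.mem_zpowers z) i
    set Z := Subgroup.zpowers z with hZ
    have hZle : Z ≤ commutator Q := Subgroup.zpowers_le.2 hzc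
    have hcQ : Nat.card (Q ⧸ Z) = 2 ^ n := by
      have := Subgroup.card_eq_card_quotient_mul_card_subgroup Z
      rw [hQ, Nat.card_zpowers, hz2, pow_succ] at this
      omega
    have hidx' : (commutator (Q ⧸ Z)).index = 4 := by
      have hmap : commutator (Q ⧸ Z) = (commutator Q).map (QuotientGroup.mk' Z) := by
        rw [commutator_def, commutator_def, Subgroup.map_commutator,
          Subgroup.map_top_of_surjective _ (QuotientGroup.mk'_surjective Z)]
      rw [hmap, Subgroup.index_map_eq _ (QuotientGroup.mk'_surjective Z) (by simpa using hZle),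
        hidx]
    obtain ⟨gb, hgb⟩ := ih (Q ⧸ Z) hcQ hidx'
    obtain ⟨g, rfl⟩ := QuotientGroup.mk'_surjective Z gb
    have hdvd : 2 ^ (n - 1) ∣ orderOf g := hgb ▸ orderOf_map_dvd (QuotientGroup.mk' Z) g
    have hgdvd : orderOf g ∣ 2 ^ n := by
      rw [orderOf_dvd_iff_pow_eq_one]
      have h1 : g ^ 2 ^ (n - 1) ∈ Z := by
        rw [← QuotientGroup.eq_one_iff, QuotientGroup.mk_pow]
        exact hgb ▸ pow_orderOf_eq_one ((QuotientGroup.mk' Z) g)
      obtain ⟨i, hi⟩ := Subgroup.mem_zpowers_iff.1 h1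
      have : n = (n - 1) + 1 := by omega
      have hz' : z ^ (2 : ℕ) = 1 := by rw [← hz2]; exact pow_orderOf_eq_one z
      rw [this, pow_succ, pow_mul, ← hi, ← zpow_natCast (z ^ i), zpow_comm, zpow_natCast, hz',
        one_zpow]
    obtain ⟨k, hk, hkg⟩ := orderOf_two_pow_of_dvd hgdvd
    rw [hkg, Nat.pow_dvd_pow_iff_le_right (by norm_num)] at hdvd
    rcases eq_or_lt_of_le hk with hkn | hkn
    · exact ⟨g, by rw [hkg, hkn]; congr 1⟩
    exfalso
    have hkn' : k = n - 1 := by omega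
    subst hkn'
    obtain ⟨hi2, -⟩ := index_two_of_orderOf hcQ (by omega) hgb
    set A := (Subgroup.zpowers ((QuotientGroup.mk' Z) g)).comap (QuotientGroup.mk' Z) with hA
    have hAi : A.index = 2 := by
      rw [hA, Subgroup.index_comap_of_surjective _ (QuotientGroup.mk'_surjective Z), hi2]
    have hAmem : ∀ a ∈ A, ∃ i j : ℤ, a = g ^ i * z ^ j := by
      intro a ha
      obtain ⟨i, hi⟩ := Subgroup.mem_zpowers_iff.1 (Subgroup.mem_comap.1 ha)
      rw [← map_zpow, QuotientGroup.mk'_apply, QuotientGroup.mk'_apply, QuotientGroup.eq] at hi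
      obtain ⟨j, hj⟩ := Subgroup.mem_zpowers_iff.1 hi
      exact ⟨i, j, by rw [hj]; group⟩
    have hAc : ∀ a ∈ A, ∀ b ∈ A, a * b = b * a := by
      intro a ha b hb
      obtain ⟨i, j, rfl⟩ := hAmem a ha
      obtain ⟨i', j', rfl⟩ := hAmem b hb
      have hgz : ∀ i j : ℤ, Commute (g ^ i) (z ^ j) := fun i j =>
        (show Commute g z from hzcent g).zpow_zpow i j
      exact (((Commute.refl g).zpow_zpow i i').mul_right (hgz i j')).mul_left
        ((hgz i' j).symm.mul_right ((Commute.refl z).zpow_zpow j j')) |>.eq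
    have hgA : g ∈ A := Subgroup.mem_comap.2 (Subgroup.mem_zpowers _)
    obtain ⟨x, hx⟩ : ∃ x, x ∉ A := by
      by_contra! hall
      have : A = ⊤ := top_le_iff.1 fun y _ => hall y
      rw [this, Subgroup.index_top] at hAi; omega
    have hAn : A.Normal := Subgroup.normal_of_index_eq_two hAi
    obtain ⟨i, j, hij⟩ := hAmem _ (hAn.conj_mem g hgA x)
    set c := g ^ (i - 1) * z ^ j with hc
    have hgm : orderOf g = 2 ^ (n - 1) := hkg
    have hz' : z ^ (2 : ℤ) = 1 := by
      rw [show (2 : ℤ) = ((2 : ℕ) : ℤ) from rfl, zpow_natCast, ← hz2]; exact pow_orderOf_eq_one z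
    have hiodd : Odd i := by
      rw [← Int.not_even_iff_odd]
      rintro ⟨t, rfl⟩
      have h1 : (x * g * x⁻¹) ^ 2 ^ (n - 2) = 1 := by
        rw [hij, ← zpow_natCast, ((show Commute g z from hzcent g).zpow_zpow _ _).mul_zpow,
          ← zpow_mul, ← zpow_mul]
        have e1 : g ^ ((t + t) * ((2 ^ (n - 2) : ℕ) : ℤ)) = 1 := by
          rw [← orderOf_dvd_iff_zpow_eq_one, hgm]
          refine ⟨t, ?_⟩
          have : n - 1 = (n - 2) + 1 := by omega
          rw [this]; push_cast; ring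
        have e2 : z ^ (j * ((2 ^ (n - 2) : ℕ) : ℤ)) = 1 := by
          have : n - 2 = (n - 3) + 1 := by omega
          rw [this, pow_succ', Nat.cast_mul, mul_left_comm, zpow_mul, Nat.cast_two, hz', one_zpow]
        rw [e1, e2, one_mul]
      rw [conj_pow, conj_eq_one_iff] at h1
      have := orderOf_dvd_of_pow_eq_one h1
      rw [hgm, Nat.pow_dvd_pow_iff_le_right (by norm_num)] at this
      omega
    obtain ⟨t, ht⟩ := hiodd
    have hcA : c ∈ A := Subgroup.mul_mem _ (Subgroup.zpow_mem _ hgA _)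
      (Subgroup.zpow_mem _ (Subgroup.mem_comap.2 (by
        rw [show (QuotientGroup.mk' Z) z = 1 from
          (QuotientGroup.eq_one_iff z).2 (Subgroup.mem_zpowers z)]
        exact Subgroup.one_mem _)) _)
    have hzj : z ^ (i * j) = z ^ j := by
      rw [ht, show (2 * t + 1) * j = 2 * (t * j) + j by ring, zpow_add, zpow_mul, hz', one_zpow,
        one_mul]
    have hxz : x * z * x⁻¹ = z := by rw [hzcent x, mul_inv_cancel_right]
    have hxc : x * c * x⁻¹ = c ^ i := by
      rw [hc, ((show Commute g z from hzcent g).zpow_zpow _ _).mul_zpow, ← conj_mul, ← conj_zpow,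
        ← conj_zpow, hij, hxz, ← zpow_mul, ← zpow_mul, mul_comm j i, hzj,
        ((show Commute g z from hzcent g).zpow_zpow _ _).mul_zpow, ← zpow_mul, ← zpow_mul,
        mul_comm i (i - 1), mul_assoc, ← zpow_add, show j * (i - 1) + j = i * j by ring, hzj]
    have hKn : (Subgroup.zpowers c).Normal := normal_zpowers A hAc hAi hx hcA
      (hxc ▸ Subgroup.zpow_mem _ (Subgroup.mem_zpowers c) i)
    have hle : commutator Q ≤ Subgroup.zpowers c := by
      refine commutator_le_of_index_two A hAc hAi hx _ fun a ha => ?_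
      obtain ⟨i', j', rfl⟩ := hAmem a ha
      refine Subgroup.mem_zpowers_iff.2 ⟨i', ?_⟩
      rw [← conj_mul, ← conj_zpow, ← conj_zpow, hij, hxz, hc,
        ((show Commute g z from hzcent g).zpow_zpow _ _).mul_zpow,
        ((show Commute g z from hzcent g).zpow_zpow _ _).mul_zpow, ← zpow_mul, ← zpow_mul,
        mul_inv_rev, sub_mul, one_mul, zpow_sub]
      have hgz : ∀ a b : ℤ, z ^ b * g ^ a = g ^ a * z ^ b := fun a b =>
        ((show Commute g z from hzcent g).zpow_zpow a b).eq.symm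
      simp only [mul_assoc, mul_inv_cancel_left]
      have hzi : ∀ a b : ℤ, z ^ b * (g ^ a)⁻¹ = (g ^ a)⁻¹ * z ^ b := fun a b =>
        (Commute.inv_right (hgz a b)).eq
      rw [← zpow_mul g i i', hzi]
    have hc0 : c ^ 2 ^ (n - 2) = 1 := by
      rw [hc, ← zpow_natCast, ((show Commute g z from hzcent g).zpow_zpow _ _).mul_zpow,
        ← zpow_mul, ← zpow_mul]
      have e1 : g ^ ((i - 1) * ((2 ^ (n - 2) : ℕ) : ℤ)) = 1 := by
        rw [← orderOf_dvd_iff_zpow_eq_one, hgm]
        refine ⟨t, ?_⟩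
        have : n - 1 = (n - 2) + 1 := by omega
        rw [this, ht]; push_cast; ring
      have e2 : z ^ (j * ((2 ^ (n - 2) : ℕ) : ℤ)) = 1 := by
        have : n - 2 = (n - 3) + 1 := by omega
        rw [this, pow_succ', Nat.cast_mul, mul_left_comm, zpow_mul, Nat.cast_two, hz', one_zpow]
      rw [e1, e2, one_mul]
    have h1 := Subgroup.card_le_of_le hle
    rw [Nat.card_zpowers] at h1
    have h2 := Nat.le_of_dvd (Nat.two_pow_pos _) (orderOf_dvd_of_pow_eq_one hc0)
    have h3 := Subgroup.card_mul_index (commutator Q)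
    rw [hidx, hQ] at h3
    have h4 : 2 ^ (n + 1) = 8 * 2 ^ (n - 2) := by
      rw [show n + 1 = 3 + (n - 2) by omega, pow_add]; norm_num
    have h5 := Nat.two_pow_pos (n - 2)
    omega

variable {Q : Type*} [Group Q] [Finite Q]

theorem index_eq_four {n : ℕ} (hQ : Nat.card Q = 2 ^ n) (hn : 3 ≤ n) {g x : Q} {b : ℕ}
    (hg : orderOf g = 2 ^ (n - 1)) (hx : x * g * x⁻¹ = g ^ b) (hne : x * g ≠ g * x) :
    (commutator Q).index = 2 * Nat.gcd (2 ^ (n - 1)) (b - 1) := by
  obtain ⟨hA2, hAc⟩ := index_two_of_orderOf hQ (by omega) hg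
  have hxA : x ∉ Subgroup.zpowers g := fun h =>
    hne (hAc x h g (Subgroup.mem_zpowers g))
  have hb : 1 ≤ b := by
    rcases Nat.eq_zero_or_pos b with rfl | h
    · rw [pow_zero, conj_eq_one_iff] at hx
      exact absurd (by rw [hx, mul_one, one_mul]) hne
    · exact h
  set c := g ^ (b - 1) with hc
  have hcA : c ∈ Subgroup.zpowers g := Subgroup.pow_mem _ (Subgroup.mem_zpowers g) _
  have hxc : x * c * x⁻¹ = c ^ b := by
    rw [hc, ← conj_pow, hx, ← pow_mul, ← pow_mul, mul_comm]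
  have hKn : (Subgroup.zpowers c).Normal := normal_zpowers _ hAc hA2 hxA hcA
    (hxc ▸ Subgroup.pow_mem _ (Subgroup.mem_zpowers c) b)
  have heq : commutator Q = Subgroup.zpowers c := by
    refine le_antisymm (commutator_le_of_index_two _ hAc hA2 hxA _ fun a ha => ?_) ?_
    · obtain ⟨i, rfl⟩ := Subgroup.mem_zpowers_iff.1 ha
      refine Subgroup.mem_zpowers_iff.2 ⟨i, ?_⟩
      rw [← conj_zpow, hx, hc, ← zpow_natCast g b, ← zpow_natCast g (b - 1), ← zpow_mul,
        ← zpow_mul, Nat.cast_sub hb, sub_mul, zpow_sub]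
      simp
    · rw [Subgroup.zpowers_le, hc]
      have : g ^ (b - 1) = x * g * x⁻¹ * g⁻¹ := by
        rw [hx]; exact (pow_sub g hb).trans (by rw [pow_one])
      rw [this]
      exact Subgroup.commutator_mem_commutator (Subgroup.mem_top x) (Subgroup.mem_top g)
  have h1 := Subgroup.card_mul_index (commutator Q)
  rw [heq, Nat.card_zpowers, hc, orderOf_pow, hg, hQ] at h1
  rw [heq]
  have hd : Nat.gcd (2 ^ (n - 1)) (b - 1) ∣ 2 ^ (n - 1) := Nat.gcd_dvd_left _ _
  have hpos : 0 < 2 ^ (n - 1) / Nat.gcd (2 ^ (n - 1)) (b - 1) :=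
    Nat.div_pos (Nat.le_of_dvd (Nat.two_pow_pos _) hd)
      (Nat.gcd_pos_of_pos_left _ (Nat.two_pow_pos _))
  refine Nat.eq_of_mul_eq_mul_left hpos ?_
  rw [h1, mul_comm 2, ← mul_assoc, Nat.div_mul_cancel hd, ← pow_succ]
  congr 1; omega


section galois
open IntermediateField

theorem isCyclo {m : ℕ} [NeZero m] {ζ : ℂ} (hζ : IsPrimitiveRoot ζ m) :
    IsCyclotomicExtension {m} ℚ (ℚ⟮ζ⟯) := by
  change IsCyclotomicExtension {m} ℚ (ℚ⟮ζ⟯).toSubalgebra
  rw [IntermediateField.adjoin_simple_toSubalgebra_of_isAlgebraic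
    (hζ.isIntegral (NeZero.pos m)).tower_top.isAlgebraic]
  exact hζ.adjoin_isCyclotomicExtension ℚ

theorem exists_aut {m : ℕ} [NeZero m] {ζ : ℂ} (hζ : IsPrimitiveRoot ζ m) {j : ℕ}
    (hj : j.Coprime m) :
    ∃ σ : (ℚ⟮ζ⟯) ≃ₐ[ℚ] (ℚ⟮ζ⟯), ((σ (AdjoinSimple.gen ℚ ζ)) : ℂ) = ζ ^ j := by
  have := isCyclo hζ
  have hz : IsPrimitiveRoot (AdjoinSimple.gen ℚ ζ) m :=
    IsPrimitiveRoot.coe_submonoidClass_iff.1 (by simpa using hζ)
  have hirr : Irreducible (Polynomial.cyclotomic m ℚ) :=
    Polynomial.cyclotomic.irreducible_rat (NeZero.pos m)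
  refine ⟨(IsCyclotomicExtension.fromZetaAut (hz.pow_of_coprime j hj) hirr) *
    (IsCyclotomicExtension.fromZetaAut hz hirr)⁻¹, ?_⟩
  have h1 := IsCyclotomicExtension.fromZetaAut_spec (hz.pow_of_coprime j hj) hirr
  have h2 := IsCyclotomicExtension.fromZetaAut_spec hz hirr
  have h3 : (IsCyclotomicExtension.fromZetaAut hz hirr)⁻¹ (AdjoinSimple.gen ℚ ζ)
      = IsCyclotomicExtension.zeta m ℚ (ℚ⟮ζ⟯) := by
    apply (IsCyclotomicExtension.fromZetaAut hz hirr).injective
    rw [h2]
    exact (IsCyclotomicExtension.fromZetaAut hz hirr).apply_symm_apply _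
  rw [AlgEquiv.mul_apply, h3, h1]
  simp

theorem aut_apply_gen {m : ℕ} [NeZero m] {ζ : ℂ} (hζ : IsPrimitiveRoot ζ m)
    (σ : (ℚ⟮ζ⟯) ≃ₐ[ℚ] (ℚ⟮ζ⟯)) :
    ∃ j : ℕ, j.Coprime m ∧ ((σ (AdjoinSimple.gen ℚ ζ)) : ℂ) = ζ ^ j := by
  have hz : IsPrimitiveRoot (AdjoinSimple.gen ℚ ζ) m :=
    IsPrimitiveRoot.coe_submonoidClass_iff.1 (by simpa using hζ)
  have h1 : IsPrimitiveRoot ((σ (AdjoinSimple.gen ℚ ζ)) : ℂ) m :=
    IsPrimitiveRoot.coe_submonoidClass_iff.2 (hz.map_of_injective σ.injective)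
  obtain ⟨j, -, hj⟩ := hζ.eq_pow_of_pow_eq_one h1.pow_eq_one
  exact ⟨j, (hζ.pow_iff_coprime (NeZero.pos m) j).1 (hj ▸ h1), hj.symm⟩

theorem value_galois {G : Type*} [Group G] [Finite G] {m : ℕ} [NeZero m] {ζ : ℂ}
    (hζ : IsPrimitiveRoot ζ m) {g : G} (hg : orderOf g ∣ m) (χ : IrrCharacter G) :
    ∃ v : ℚ⟮ζ⟯, (v : ℂ) = (χ : G → ℂ) g ∧
      ∀ (σ : (ℚ⟮ζ⟯) ≃ₐ[ℚ] (ℚ⟮ζ⟯)) (j : ℕ), ((σ (AdjoinSimple.gen ℚ ζ)) : ℂ) = ζ ^ j →
        ((σ v : ℚ⟮ζ⟯) : ℂ) = (χ : G → ℂ) (g ^ j) := by
  obtain ⟨d, ρ, -, hρ⟩ := χ.2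
  obtain ⟨b, μ, hμ, hroot⟩ := Char.exists_eigenbasis ρ g
  have hroot' : ∀ i, μ i ^ m = 1 := fun i => by
    obtain ⟨t, rfl⟩ := hg
    rw [pow_mul, hroot i, one_pow]
  choose e he using fun i => hζ.eq_pow_of_pow_eq_one (hroot' i)
  refine ⟨∑ i, (AdjoinSimple.gen ℚ ζ) ^ e i, ?_, fun σ j hσ => ?_⟩
  · rw [← hρ, Char.character_eq_sum_eigenvalues ρ g b μ hμ]
    push_cast
    exact Finset.sum_congr rfl fun i _ => by simp [(he i).2]
  · rw [← hρ, Char.character_pow ρ g b μ hμ, map_sum]
    push_cast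
    refine Finset.sum_congr rfl fun i _ => ?_
    rw [map_pow]
    push_cast
    rw [hσ, ← (he i).2, ← pow_mul, ← pow_mul, mul_comm]

theorem mem_of_fixed {m : ℕ} [NeZero m] {ζ : ℂ} (hζ : IsPrimitiveRoot ζ m)
    (F : IntermediateField ℚ ℂ) (t : ℚ⟮ζ⟯)
    (h : ∀ σ : (ℚ⟮ζ⟯) ≃ₐ[ℚ] (ℚ⟮ζ⟯), (∀ y : ℚ⟮ζ⟯, (y : ℂ) ∈ F → σ y = y) → σ t = t) :
    (t : ℂ) ∈ F := by
  have := isCyclo hζ
  have := IsCyclotomicExtension.finiteDimensional {m} ℚ (ℚ⟮ζ⟯)
  have hgal : IsGalois ℚ (ℚ⟮ζ⟯) := IsCyclotomicExtension.isGalois {m} ℚ (ℚ⟮ζ⟯)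
  have hmem : t ∈ F.comap (ℚ⟮ζ⟯).val := by
    rw [← IsGalois.fixedField_fixingSubgroup (h := hgal) (F.comap (ℚ⟮ζ⟯).val)]
    rintro ⟨σ, hσ⟩
    exact h σ fun y hy => hσ ⟨y, hy⟩
  exact hmem

end galois

theorem eq_or_eq_of_add {z w ε : ℂ} (hz : z ≠ 0) (hw : w ≠ 0)
    (h : w + ε * w⁻¹ = z + ε * z⁻¹) : w = z ∨ w = ε * z⁻¹ := by
  have h1 : (w - z) * (z * w - ε) = 0 := by
    field_simp at h
    linear_combination h
  rcases mul_eq_zero.1 h1 with h2 | h2
  · exact Or.inl (sub_eq_zero.1 h2)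
  · exact Or.inr (by rw [← sub_eq_zero.1 h2]; field_simp)

theorem commutator_ne_bot {Q : Type*} [Group Q] {a b : Q} (h : a * b ≠ b * a) :
    commutator Q ≠ ⊥ := by
  intro hb
  apply h
  rw [← commutatorElement_eq_one_iff_mul_comm, ← Subgroup.mem_bot, ← hb]
  exact Subgroup.commutator_mem_commutator (Subgroup.mem_top a) (Subgroup.mem_top b)

open IntermediateField in
theorem fusion_le_two {G : Type*} [Group G] [Finite G] {n : ℕ} (hn : 1 ≤ n) {g x : G}
    (hg : orderOf g = 2 ^ (n - 1)) {b : ℕ} (hx : x * g * x⁻¹ = g ^ b) (hne : x * g ≠ g * x)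
    (hG : ¬ 2 ^ (n + 1) ∣ Nat.card G) {y : G} {j : ℕ} (hj : j.Coprime (2 ^ (n - 1)))
    (hy : y * g * y⁻¹ = g ^ j) : g ^ j = g ∨ g ^ j = g ^ b := by
  classical
  have hNmem : ∀ (u : G) (i : ℕ), i.Coprime (2 ^ (n - 1)) → u * g * u⁻¹ = g ^ i →
      u ∈ Subgroup.normalizer (Subgroup.zpowers g : Set G) := by
    intro u i hi hu
    have hgen : Subgroup.zpowers (g ^ i) = Subgroup.zpowers g := by
      refine Subgroup.eq_of_le_of_card_ge
        (Subgroup.zpowers_le.2 (Subgroup.pow_mem _ (Subgroup.mem_zpowers g) _)) (le_of_eq ?_)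
      rw [Nat.card_zpowers, Nat.card_zpowers, Nat.Coprime.orderOf_pow (hg ▸ hi.symm)]
    rw [Subgroup.mem_normalizer_iff]
    intro a
    have hmap : (Subgroup.zpowers g).map (MulAut.conj u).toMonoidHom = Subgroup.zpowers g := by
      rw [MonoidHom.map_zpowers]; simpa [hu] using hgen
    conv_rhs => rw [← hmap]
    exact ⟨fun ha => ⟨a, ha, rfl⟩, fun ⟨c, hc, hca⟩ => by
      have : c = a := (MulAut.conj u).injective hca
      exact this ▸ hc⟩
  have hbc : b.Coprime (2 ^ (n - 1)) := by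
    have h1 : orderOf (g ^ b) = 2 ^ (n - 1) := by
      rw [← hx, ← hg]; exact (MulAut.conj x).orderOf_eq g
    rw [orderOf_pow, hg, Nat.div_eq_self] at h1
    rcases h1 with h1 | h1
    · exact absurd h1 (Nat.two_pow_pos _).ne'
    · exact Nat.coprime_comm.1 h1
  set θ := Subgroup.normalizerMonoidHom (Subgroup.zpowers g) with hθdef
  have hθ : ∀ u : Subgroup.normalizer (Subgroup.zpowers g : Set G),
      ((θ u ⟨g, Subgroup.mem_zpowers g⟩ : Subgroup.zpowers g) : G) = u * g * (u : G)⁻¹ :=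
    fun u => rfl
  obtain ⟨k, -, hk⟩ : ∃ k ≤ n - 1, Nat.card θ.range = 2 ^ k := by
    refine (Nat.dvd_prime_pow Nat.prime_two).1 ?_
    refine (Subgroup.card_subgroup_dvd_card θ.range).trans ?_
    rw [IsCyclic.card_mulAut, Nat.card_zpowers, hg]
    rcases Nat.eq_zero_or_pos (n - 1) with h0 | h0
    · simp [h0]
    · rw [Nat.totient_prime_pow Nat.prime_two h0]
      simpa using pow_dvd_pow 2 (Nat.sub_le (n - 1) 1)
  have hle : k ≤ 1 := by
    by_contra hk2
    apply hG
    have h1 : 2 ^ (n - 1) ∣ Nat.card θ.ker := by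
      rw [← hg, ← Nat.card_zpowers]
      have hsub : (Subgroup.zpowers g).subgroupOf _ ≤ θ.ker := by
        intro u hu
        rw [MonoidHom.mem_ker]
        ext ⟨a, ha⟩
        obtain ⟨i, hi⟩ := Subgroup.mem_zpowers_iff.1 (Subgroup.mem_subgroupOf.1 hu)
        obtain ⟨i', rfl⟩ := Subgroup.mem_zpowers_iff.1 ha
        show (u : G) * g ^ i' * (u : G)⁻¹ = g ^ i'
        rw [← hi, ← zpow_add, add_comm i i', zpow_add, mul_inv_cancel_right]
      have := Subgroup.card_dvd_of_le hsub
      rwa [Nat.card_congr (Subgroup.subgroupOfEquivOfLe Subgroup.le_normalizer).toEquiv] at this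
    have h2 : 2 ^ (n + 1) ∣ Nat.card θ.ker * Nat.card θ.range := by
      refine dvd_trans ?_ (mul_dvd_mul h1 (hk ▸ pow_dvd_pow 2 (show 2 ≤ k by omega)))
      rw [← pow_add]; exact pow_dvd_pow 2 (by omega)
    rw [← Subgroup.index_ker, Subgroup.card_mul_index] at h2
    exact h2.trans (Subgroup.card_subgroup_dvd_card _)
  set X : θ.range := ⟨θ ⟨x, hNmem x b hbc hx⟩, _, rfl⟩ with hXdef
  set Y : θ.range := ⟨θ ⟨y, hNmem y j hj hy⟩, _, rfl⟩ with hYdef
  have hX1 : X ≠ 1 := by
    intro h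
    have := congrArg (fun f : θ.range =>
      ((f.1 ⟨g, Subgroup.mem_zpowers g⟩ : Subgroup.zpowers g) : G)) h
    simp only [hXdef, hθ] at this
    apply hne
    exact mul_inv_eq_iff_eq_mul.1 this
  by_cases hY1 : Y = 1
  · left
    have := congrArg (fun f : θ.range =>
      ((f.1 ⟨g, Subgroup.mem_zpowers g⟩ : Subgroup.zpowers g) : G)) hY1
    simp only [hYdef, hθ, hy] at this
    exact this
  · right
    have hc2 : Nat.card θ.range = 2 := by
      have : 1 < Nat.card θ.range := Finite.one_lt_card_iff_nontrivial.2 ⟨⟨X, 1, hX1⟩⟩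
      rw [hk] at this ⊢
      interval_cases k <;> simp_all
    have : Y = X := ((Nat.card_eq_two_iff' (1 : θ.range)).1 hc2).unique hY1 hX1
    have := congrArg (fun f : θ.range =>
      ((f.1 ⟨g, Subgroup.mem_zpowers g⟩ : Subgroup.zpowers g) : G)) this
    simp only [hXdef, hYdef, hθ, hy, hx] at this
    exact this

/-- Let G be a finite group with Sylow 2-subgroup P of order 2^n ≥ 8, and let ζ be a primitive 2^(n−1)-th root of unity in ℂ. Then the commutator subgroup of P has index 4 in P if and only if there is an element g of P whose conjugacy class in G has even size and such that the field generated over ℚ by the values at g of all irreducible complex characters of G equals ℚ(ζ + ζ⁻¹) or ℚ(ζ − ζ⁻¹). -/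
theorem result {G : Type*} [Group G] [Finite G] (P : Sylow 2 G) (n : ℕ) (hn : 3 ≤ n) (hP : Nat.card P = 2 ^ n) (ζ : ℂ) (hζ : IsPrimitiveRoot ζ (2 ^ (n - 1))) :
    (commutator ↥P).index = 4 ↔
      ∃ g : G, g ∈ (P : Subgroup G) ∧ 2 ∣ (Subgroup.centralizer ({g} : Set G)).index ∧
        (IntermediateField.adjoin ℚ {z : ℂ | ∃ χ : Cfsg.IrrCharacter G, (χ : G → ℂ) g = z} = IntermediateField.adjoin ℚ ({ζ + ζ⁻¹} : Set ℂ) ∨
          IntermediateField.adjoin ℚ {z : ℂ | ∃ χ : Cfsg.IrrCharacter G, (χ : G → ℂ) g = z} = IntermediateField.adjoin ℚ ({ζ - ζ⁻¹} : Set ℂ)) := by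
  classical
  change Nat.card (P : Subgroup G) = 2 ^ n at hP
  change (commutator (P : Subgroup G)).index = 4 ↔ _
  have : Fact (Nat.Prime 2) := ⟨Nat.prime_two⟩
  set m := 2 ^ (n - 1) with hm
  have hNm : NeZero m := ⟨(Nat.two_pow_pos _).ne'⟩
  set h := 2 ^ (n - 2) with hh
  have hmh : m = 2 * h := by rw [hm, hh, ← pow_succ']; congr 1; omega
  have hh0 : 0 < h := Nat.two_pow_pos _
  have hζ0 : ζ ≠ 0 := hζ.ne_zero (NeZero.ne m)
  have hζh : ζ ^ h = -1 := by
    have h1 : IsPrimitiveRoot (ζ ^ h) 2 := hζ.pow (NeZero.pos m) (by rw [hmh, mul_comm])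
    exact h1.eq_neg_one_of_two_right
  have hfin : IsOfFinOrder ζ := isOfFinOrder_iff_pow_eq_one.2 ⟨m, NeZero.pos m, hζ.pow_eq_one⟩
  set Kf := IntermediateField.adjoin ℚ ({ζ} : Set ℂ) with hKf
  set z : Kf := IntermediateField.AdjoinSimple.gen ℚ ζ with hzdef
  have hzc : (z : ℂ) = ζ := rfl
  have hG : ¬ 2 ^ (n + 1) ∣ Nat.card G := by
    intro hd
    have h1 := (Nat.Prime.pow_dvd_iff_le_factorization Nat.prime_two Nat.card_pos.ne').1 hd
    have h2 : Nat.card P = 2 ^ (Nat.card G).factorization 2 := P.card_eq_multiplicity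
    rw [hP] at h2
    have := Nat.pow_right_injective le_rfl h2
    omega
  have hcent : ∀ g : G, ∀ hg : g ∈ (P : Subgroup G),
      2 ∣ (Subgroup.centralizer ({g} : Set G)).index →
      ∃ x : (P : Subgroup G), x * (⟨g, hg⟩ : (P : Subgroup G)) ≠ ⟨g, hg⟩ * x := by
    intro g hg hev
    by_contra! hall
    have hle : (P : Subgroup G) ≤ Subgroup.centralizer ({g} : Set G) := fun u hu =>
      Subgroup.mem_centralizer_singleton_iff.2 (congrArg Subtype.val (hall ⟨u, hu⟩))
    exact P.not_dvd_index (hev.trans (Subgroup.index_dvd_of_le hle))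
  constructor
  · intro hidx
    obtain ⟨g0, hg0⟩ := exists_gen hn (↥(P : Subgroup G)) hP hidx
    obtain ⟨hA2, hAc⟩ := index_two_of_orderOf hP (by omega) hg0
    have hnc : ¬ ∀ a b : (P : Subgroup G), a * b = b * a := by
      intro hc
      have : commutator ↥(P : Subgroup G) = ⊥ := by
        rw [eq_bot_iff, commutator_def, Subgroup.commutator_le]
        intro a _ c _
        rw [Subgroup.mem_bot, commutatorElement_eq_one_iff_mul_comm]; exact hc a c
      rw [this, Subgroup.index_bot, hP] at hidx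
      have : 2 ^ 3 ≤ 2 ^ n := Nat.pow_le_pow_right (by norm_num) hn
      omega
    obtain ⟨x, hxA⟩ : ∃ x, x ∉ Subgroup.zpowers g0 := by
      by_contra! hall
      exact hnc fun a c => hAc a (hall a) c (hall c)
    have hxne : x * g0 ≠ g0 * x := by
      intro hc
      have hbot : commutator ↥(P : Subgroup G) ≤ ⊥ := commutator_le_of_index_two _ hAc hA2 hxA ⊥ fun a ha => by
        obtain ⟨i, rfl⟩ := Subgroup.mem_zpowers_iff.1 ha
        rw [Subgroup.mem_bot, (Commute.zpow_right hc i).eq, mul_inv_cancel_right, mul_inv_cancel]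
      exact hnc fun a c => by
        by_contra hac
        exact commutator_ne_bot hac (eq_bot_iff.2 hbot)
    have hAn : (Subgroup.zpowers g0).Normal := Subgroup.normal_of_index_eq_two hA2
    obtain ⟨b, hb⟩ := ((isOfFinOrder_of_finite g0).mem_powers_iff_mem_zpowers.symm.trans
      (Submonoid.mem_powers_iff _ _)).1 (hAn.conj_mem g0 (Subgroup.mem_zpowers g0) x)
    have hgcd : Nat.gcd m (b - 1) = 2 := by
      have := index_eq_four hP hn hg0 hb.symm hxne
      rw [hidx] at this
      rw [hm]; omega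
    have hbb : b * b ≡ 1 [MOD m] := by
      have h2 : x * x ∈ Subgroup.zpowers g0 := Subgroup.mul_self_mem_of_index_two hA2 x
      have h3 := hAc _ h2 g0 (Subgroup.mem_zpowers g0)
      have h4 : g0 ^ (b * b) = g0 ^ 1 := by
        rw [pow_mul, hb, conj_pow, hb, pow_one]
        calc x * (x * g0 * x⁻¹) * x⁻¹ = (x * x) * g0 * (x * x)⁻¹ := by group
          _ = g0 := by rw [h3, mul_inv_cancel_right]
      rw [pow_eq_pow_iff_modEq, hg0] at h4
      exact h4
    have hbd : h ∣ b + 1 := by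
      obtain ⟨c, hc⟩ : 2 ∣ b - 1 := hgcd ▸ Nat.gcd_dvd_right _ _
      have hb1 : 1 ≤ b := by
        rcases Nat.eq_zero_or_pos b with rfl | h1
        · simp at hgcd
          have : 2 ^ 2 ≤ m := Nat.pow_le_pow_right (by norm_num) (by omega)
          omega
        · exact h1
      have hcop : Nat.Coprime h c := by
        have : Nat.gcd m (b - 1) = 2 * Nat.gcd h c := by rw [hmh, hc, Nat.gcd_mul_left]
        rw [Nat.coprime_iff_gcd_eq_one]; omega
      have h5 : m ∣ b * b - 1 := (Nat.modEq_iff_dvd' (Nat.mul_pos hb1 hb1)).1 hbb.symm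
      have h6 : b * b - 1 = 2 * (c * (b + 1)) := by
        have : b = 2 * c + 1 := by omega
        subst this
        have : (2 * c + 1) * (2 * c + 1) = 2 * (c * (2 * c + 1 + 1)) + 1 := by ring
        omega
      rw [hmh, h6] at h5
      exact hcop.dvd_of_dvd_mul_left (Nat.dvd_of_mul_dvd_mul_left (by norm_num) h5)
    obtain ⟨ε, hε, hεb⟩ : ∃ ε : ℂ, (ε = 1 ∨ ε = -1) ∧ ζ ^ b = ε * ζ⁻¹ := by
      obtain ⟨t, ht⟩ := hbd
      refine ⟨(-1) ^ t, neg_one_pow_eq_or ℂ t, ?_⟩
      rw [← hζh, ← pow_mul, ← ht, pow_succ, mul_assoc, mul_inv_cancel₀ hζ0, mul_one]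
    have hgG : orderOf (g0 : G) = m := by rw [Subgroup.orderOf_coe]; exact hg0
    have hxG : (x : G) * g0 * (x : G)⁻¹ = (g0 : G) ^ b :=
      (congrArg Subtype.val hb).symm
    have hxneG : (x : G) * g0 ≠ g0 * x := fun hc => hxne (Subtype.ext hc)
    refine ⟨g0, g0.2, ?_, ?_⟩
    · by_contra hodd
      set C := Subgroup.centralizer ({(g0 : G)} : Set G) with hC
      have hdC : 2 ^ n ∣ Nat.card C := by
        have h1 : 2 ^ n ∣ Nat.card C * C.index := by
          rw [Subgroup.card_mul_index, ← hP]; exact Subgroup.card_subgroup_dvd_card _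
        exact ((Nat.prime_two.coprime_iff_not_dvd.2 hodd).pow_left n).dvd_of_dvd_mul_right h1
      obtain ⟨R, hR⟩ := Sylow.exists_subgroup_card_pow_prime 2 hdC
      have hR' : Nat.card (R.map C.subtype : Subgroup G) = 2 ^ n := by
        rw [Subgroup.card_map_of_injective Subtype.val_injective, hR]
      have hRfac : 2 ^ n = 2 ^ (Nat.card G).factorization 2 := by
        rw [← hP]; exact P.card_eq_multiplicity
      set R' : Sylow 2 G := Sylow.ofCard (R.map C.subtype) (by rw [hR', hRfac]) with hR'def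
      have hcg : ∀ r ∈ (R' : Subgroup G), r * g0 = g0 * r := by
        intro r hr
        obtain ⟨c, -, rfl⟩ := hr
        exact Subgroup.mem_centralizer_singleton_iff.1 c.2
      have hgR : (g0 : G) ∈ (R' : Subgroup G) := by
        have hzn : Subgroup.zpowers (g0 : G) ≤ Subgroup.normalizer ((R' : Subgroup G) : Set G) := by
          rw [Subgroup.zpowers_le, Subgroup.mem_normalizer_iff]
          intro r
          constructor
          · intro hr; rw [← hcg r hr, mul_inv_cancel_right]; exact hr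
          · intro hr
            have := hcg _ hr
            rw [inv_mul_cancel_right] at this
            exact (mul_left_cancel this).symm ▸ hr
        have h1 : IsPGroup 2 (Subgroup.zpowers (g0 : G)) :=
          IsPGroup.of_card (n := n - 1) (by rw [Nat.card_zpowers, hgG])
        have h2 := R'.isPGroup'.to_sup_of_normal_left' h1 hzn
        have h3 := R'.is_maximal' h2 le_sup_left
        exact h3 ▸ Subgroup.mem_sup_right (Subgroup.mem_zpowers _)
      have e : R' ≃* (P : Subgroup G) := Sylow.equiv R' P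
      have hord : orderOf (e ⟨g0, hgR⟩) = m := by
        rw [MulEquiv.orderOf_eq, Subgroup.orderOf_mk, hgG]
      obtain ⟨hB2, hBc⟩ := index_two_of_orderOf hP (by omega) hord
      obtain ⟨y, hy⟩ : ∃ y, y ∉ Subgroup.zpowers (e ⟨g0, hgR⟩) := by
        by_contra! hall
        exact hnc fun a c => hBc a (hall a) c (hall c)
      have hyc : y * e ⟨g0, hgR⟩ = e ⟨g0, hgR⟩ * y := by
        obtain ⟨⟨r, hr⟩, rfl⟩ := e.surjective y
        rw [← map_mul, ← map_mul]
        exact congrArg e (Subtype.ext (hcg r hr))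
      have hbot : commutator ↥(P : Subgroup G) ≤ ⊥ := commutator_le_of_index_two _ hBc hB2 hy ⊥ fun a ha => by
        obtain ⟨i, rfl⟩ := Subgroup.mem_zpowers_iff.1 ha
        rw [Subgroup.mem_bot, (Commute.zpow_right hyc i).eq, mul_inv_cancel_right, mul_inv_cancel]
      exact commutator_ne_bot hxne (eq_bot_iff.2 hbot)
    · set s : Kf := z + (if ε = 1 then 1 else -1) * z⁻¹ with hs
      have hsc : (s : ℂ) = ζ + ε * ζ⁻¹ := by
        rcases hε with rfl | rfl <;> simp [hs, hzdef] <;> norm_num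
      have key : IntermediateField.adjoin ℚ
          {v : ℂ | ∃ χ : IrrCharacter G, (χ : G → ℂ) (g0 : G) = v} =
          IntermediateField.adjoin ℚ ({ζ + ε * ζ⁻¹} : Set ℂ) := by
        apply le_antisymm
        · rw [IntermediateField.adjoin_le_iff]
          rintro v ⟨χ, rfl⟩
          obtain ⟨v, hv, hvσ⟩ := value_galois hζ (g := (g0 : G)) (hgG ▸ dvd_rfl) χ
          rw [← hv]
          refine mem_of_fixed hζ _ v fun σ hσ => ?_
          obtain ⟨j, hjc, hj⟩ := aut_apply_gen hζ σ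
          have hfix : σ s = s := hσ s (by
            rw [hsc]; exact IntermediateField.subset_adjoin ℚ _ rfl)
          have hval : ((σ s : Kf) : ℂ) = ζ ^ j + ε * (ζ ^ j)⁻¹ := by
            rcases hε with rfl | rfl <;>
              · simp only [hs, if_true, map_add, map_mul, map_inv₀, map_one]
                norm_num [hzdef, hj, map_neg]
          rw [hfix, hsc] at hval
          refine Subtype.ext ?_
          rw [hvσ σ j hj, hv]
          rcases eq_or_eq_of_add hζ0 (pow_ne_zero _ hζ0) hval.symm with h1 | h1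
          · have h2 : j ≡ 1 [MOD m] := by
              have := h1.trans (pow_one ζ).symm
              rwa [hfin.pow_eq_pow_iff_modEq, ← hζ.eq_orderOf] at this
            rw [show (g0 : G) ^ j = g0 ^ 1 by rw [pow_eq_pow_iff_modEq, hgG]; exact h2, pow_one]
          · have h2 : j ≡ b [MOD m] := by
              have := h1.trans hεb.symm
              rwa [hfin.pow_eq_pow_iff_modEq, ← hζ.eq_orderOf] at this
            rw [show (g0 : G) ^ j = g0 ^ b by rw [pow_eq_pow_iff_modEq, hgG]; exact h2, ← hxG]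
            exact Char.IsIrrCharacter.isClassFunction χ.2 _ _
        · rw [IntermediateField.adjoin_le_iff, Set.singleton_subset_iff, ← hsc]
          refine mem_of_fixed hζ _ s fun σ hσ => ?_
          obtain ⟨j, hjc, hj⟩ := aut_apply_gen hζ σ
          have hconj : IsConj (g0 : G) ((g0 : G) ^ j) := by
            rw [Char.isConj_iff_irr]
            intro χ
            obtain ⟨v, hv, hvσ⟩ := value_galois hζ (g := (g0 : G)) (hgG ▸ dvd_rfl) χ
            rw [← hvσ σ j hj, hσ v (by rw [hv]; exact IntermediateField.subset_adjoin ℚ _ ⟨χ, rfl⟩),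
              hv]
          obtain ⟨y, hy⟩ := isConj_iff.1 hconj
          refine Subtype.ext ?_
          have hval : ((σ s : Kf) : ℂ) = ζ ^ j + ε * (ζ ^ j)⁻¹ := by
            rcases hε with rfl | rfl <;>
              · simp only [hs, if_true, map_add, map_mul, map_inv₀, map_one]
                norm_num [hzdef, hj, map_neg]
          rw [hval, hsc]
          rcases fusion_le_two (by omega) hgG hxG hxneG hG hjc hy with h1 | h1
          · have h2 : ζ ^ j = ζ ^ 1 := by
              rw [hfin.pow_eq_pow_iff_modEq, ← hζ.eq_orderOf]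
              have := h1.trans (pow_one (g0 : G)).symm
              rwa [pow_eq_pow_iff_modEq, hgG] at this
            rw [h2, pow_one]
          · have h2 : ζ ^ j = ζ ^ b := by
              rw [hfin.pow_eq_pow_iff_modEq, ← hζ.eq_orderOf]
              rwa [pow_eq_pow_iff_modEq, hgG] at h1
            rw [h2, hεb]
            rcases hε with rfl | rfl <;> simp <;> ring
      rcases hε with rfl | rfl
      · left; rw [key, one_mul]
      · right; rw [key]; simp [sub_eq_add_neg]
  · rintro ⟨g, hgP, hev, hF⟩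
    obtain ⟨x, hxne⟩ := hcent g hgP hev
    have h4 : 4 ≤ (commutator ↥(P : Subgroup G)).index :=
      (ne_one_index_two hP (by omega)).2 ⟨_, _, hxne⟩
    rcases eq_or_lt_of_le hn with hn3 | hn4
    · have h2 := Subgroup.card_mul_index (commutator ↥(P : Subgroup G))
      rw [hP, ← hn3] at h2
      have h3 : 2 ≤ Nat.card (commutator ↥(P : Subgroup G)) :=
        Finite.one_lt_card_iff_nontrivial.2
          ((Subgroup.nontrivial_iff_ne_bot _).2 (commutator_ne_bot hxne))
      nlinarith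
    obtain ⟨ε, hε, hmem⟩ : ∃ ε : ℂ, (ε = 1 ∨ ε = -1) ∧ ζ + ε * ζ⁻¹ ∈ IntermediateField.adjoin ℚ
        {v : ℂ | ∃ χ : IrrCharacter G, (χ : G → ℂ) g = v} := by
      rcases hF with hF | hF
      · exact ⟨1, Or.inl rfl, by rw [hF, one_mul]; exact IntermediateField.subset_adjoin ℚ _ rfl⟩
      · exact ⟨-1, Or.inr rfl, by
          rw [hF, neg_one_mul, ← sub_eq_add_neg]; exact IntermediateField.subset_adjoin ℚ _ rfl⟩
    have hm8 : 8 ≤ m := by
      have : 2 ^ 3 ≤ 2 ^ (n - 1) := Nat.pow_le_pow_right (by norm_num) (by omega)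
      omega
    have key : ∀ j : ℕ, j.Coprime m → orderOf g ∣ m →
        (∀ χ : IrrCharacter G, (χ : G → ℂ) (g ^ j) = (χ : G → ℂ) g) →
        ζ ^ j = ζ ∨ ζ ^ j = ε * ζ⁻¹ := by
      intro j hjc hgm hval
      obtain ⟨σ, hσ⟩ := exists_aut hζ hjc
      set S : IntermediateField ℚ ℂ := (IntermediateField.fixedField
        (Subgroup.zpowers σ)).map Kf.val with hS
      have hle : IntermediateField.adjoin ℚ
          {v : ℂ | ∃ χ : IrrCharacter G, (χ : G → ℂ) g = v} ≤ S := by
        rw [IntermediateField.adjoin_le_iff]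
        rintro v ⟨χ, rfl⟩
        obtain ⟨v, hv, hvσ⟩ := value_galois hζ hgm χ
        refine ⟨v, ?_, hv⟩
        rintro ⟨τ, hτ⟩
        obtain ⟨i, rfl⟩ := Subgroup.mem_zpowers_iff.1 hτ
        have h1 : σ ∈ MulAction.stabilizer _ v :=
          Subtype.ext (by
            show ((σ v : Kf) : ℂ) = v
            rw [hvσ σ j hσ, hval χ, hv])
        exact Subgroup.zpow_mem _ h1 i
      obtain ⟨t, ht, htv⟩ := hle hmem
      have hfix : σ t = t := ht ⟨σ, Subgroup.mem_zpowers σ⟩
      have h1 : t = z + (if ε = 1 then 1 else -1) * z⁻¹ := by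
        refine Subtype.ext ?_
        rw [show (t : ℂ) = ζ + ε * ζ⁻¹ from htv]
        rcases hε with rfl | rfl <;> simp [hzdef] <;> norm_num
      have hval' : ((σ t : Kf) : ℂ) = ζ ^ j + ε * (ζ ^ j)⁻¹ := by
        rw [h1]
        rcases hε with rfl | rfl <;>
          · simp only [if_true, map_add, map_mul, map_inv₀, map_one]
            norm_num [hzdef, hσ, map_neg]
      rw [hfix, show (t : ℂ) = ζ + ε * ζ⁻¹ from htv] at hval'
      exact eq_or_eq_of_add hζ0 (pow_ne_zero _ hζ0) hval'.symm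
    obtain ⟨k, hkn, hk⟩ := orderOf_two_pow_of_dvd
      (hP ▸ orderOf_dvd_natCard (⟨g, hgP⟩ : (P : Subgroup G)))
    have hgk : orderOf g = 2 ^ k := by rw [← hk, Subgroup.orderOf_mk]
    have hk' : k = n - 1 := by
      by_contra hkne
      rcases eq_or_lt_of_le hkn with rfl | hlt
      · have hcy : IsCyclic (P : Subgroup G) := isCyclic_of_orderOf_eq_card ⟨g, hgP⟩ (by rw [hk, hP])
        obtain ⟨u, hu⟩ := hcy.exists_generator
        obtain ⟨i, hi⟩ := Subgroup.mem_zpowers_iff.1 (hu x)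
        obtain ⟨i', hi'⟩ := Subgroup.mem_zpowers_iff.1 (hu ⟨g, hgP⟩)
        exact hxne (by rw [← hi, ← hi']; exact (Commute.refl u).zpow_zpow i i')
      have hdvd : orderOf g ∣ h := by rw [hgk]; exact pow_dvd_pow 2 (by omega)
      have hgh : g ^ h = 1 := orderOf_dvd_iff_pow_eq_one.1 hdvd
      have hcop : (1 + h).Coprime m := by
        have he : 2 ∣ h := dvd_pow_self 2 (by omega)
        refine Nat.Coprime.pow_right _ ?_
        rw [Nat.coprime_two_right, Nat.odd_iff]; omega
      rcases key (1 + h) hcop (hdvd.trans (by rw [hmh]; exact dvd_mul_left h 2))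
        (fun χ => by rw [pow_add, pow_one, hgh, mul_one]) with h1 | h1
      · rw [pow_add, pow_one, hζh, mul_neg_one, neg_eq_self] at h1
        exact hζ0 h1
      · rw [pow_add, pow_one, hζh] at h1
        have h2 : ζ ^ 2 = -ε := by
          field_simp at h1
          linear_combination -h1
        have h4 : ζ ^ 4 = 1 := by
          rw [show 4 = 2 * 2 from rfl, pow_mul, h2]
          rcases hε with rfl | rfl <;> norm_num
        have := Nat.le_of_dvd (by norm_num) (hζ.dvd_of_pow_eq_one 4 h4)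
        omega
    subst hk'
    obtain ⟨hA2, hAc⟩ := index_two_of_orderOf hP (by omega) hk
    have hAn := Subgroup.normal_of_index_eq_two hA2
    obtain ⟨b, hb⟩ := ((isOfFinOrder_of_finite _).mem_powers_iff_mem_zpowers.symm.trans
      (Submonoid.mem_powers_iff _ _)).1 (hAn.conj_mem ⟨g, hgP⟩ (Subgroup.mem_zpowers _) x)
    have hxG : (x : G) * g * (x : G)⁻¹ = g ^ b := (congrArg Subtype.val hb).symm
    have hbne : g ^ b ≠ g := fun hc =>
      hxne (Subtype.ext (mul_inv_eq_iff_eq_mul.1 (hxG.trans hc)))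
    have hbc : b.Coprime m := by
      have h1 : orderOf (g ^ b) = m := by
        rw [← hxG, hm, ← hgk]; exact (MulAut.conj (x : G)).orderOf_eq g
      rw [orderOf_pow, hgk, ← hm, Nat.div_eq_self] at h1
      rcases h1 with h1 | h1
      · exact absurd h1 (NeZero.ne m)
      · exact Nat.coprime_comm.1 h1
    have hb1 : ζ ^ b = ε * ζ⁻¹ := by
      rcases key b hbc (dvd_of_eq hgk) (fun χ => by
          rw [← hxG]; exact Char.IsIrrCharacter.isClassFunction χ.2 _ _) with h1 | h1
      · exfalso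
        have := h1.trans (pow_one ζ).symm
        rw [hfin.pow_eq_pow_iff_modEq, ← hζ.eq_orderOf] at this
        exact hbne ((pow_eq_pow_iff_modEq.2 (by rw [hgk]; exact this)).trans (pow_one g))
      · exact h1
    have hbd : h ∣ b + 1 := by
      refine Nat.dvd_of_mul_dvd_mul_left (show 0 < 2 by norm_num) ?_
      rw [← hmh]
      refine hζ.dvd_of_pow_eq_one _ ?_
      rw [mul_comm, pow_mul, pow_succ ζ b, hb1, mul_assoc, inv_mul_cancel₀ hζ0, mul_one]
      rcases hε with rfl | rfl <;> norm_num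
    have hbo : Odd b := by
      rcases Nat.even_or_odd b with he | ho
      · exfalso
        have h2 : 2 ∣ Nat.gcd b m := Nat.dvd_gcd he.two_dvd (by rw [hmh]; exact dvd_mul_right 2 h)
        rw [hbc] at h2; omega
      · exact ho
    obtain ⟨c, rfl⟩ := hbo
    rw [index_eq_four hP hn hk hb.symm hxne, ← hm]
    have h1 : 2 * c + 1 - 1 = 2 * c := by omega
    rw [h1, hmh, Nat.gcd_mul_left]
    suffices Nat.Coprime h c by rw [this]
    refine (Nat.coprime_two_left.2 ?_).pow_left _
    have h4h : 4 ∣ h := by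
      rw [hh, show n - 2 = (n - 4) + 2 by omega, pow_add]; exact dvd_mul_left _ _
    have := h4h.trans hbd
    rw [Nat.odd_iff]; omega

end Cfsg.Agent.S4923
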