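import Cfsg.Statements.S4930
import Cfsg.Agent.Lib.OddDegreeSum.Complement

set_option autoImplicit false
open Cfsg

namespace Cfsg.Agent.S4930

/-- Let G be a finite group, P a Sylow 2-subgroup of G with normalizer N, and P′ the commutator subgroup of P. Then the sum of the squares of the degrees of the irreducible complex characters of G of odd degree is at least the index of P′ in N (the order of N divided by the order of P′), and equality holds if and only if N has a normal complement in G: a normal subgroup K of G with K ∩ N = 1 and KN = G. -/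
theorem result {G : Type*} [Group G] [Finite G] (P : Sylow 2 G) :
    Nat.card (Subgroup.normalizer ((P : Subgroup G) : Set G)) ≤ Nat.card (commutator ↥P) * (∑ᶠ χ : {χ : Cfsg.IrrCharacter G // ¬ 2 ∣ Cfsg.charDegree (χ : G → ℂ)}, Cfsg.charDegree (χ.1 : G → ℂ) ^ 2) ∧
    (Nat.card (Subgroup.normalizer ((P : Subgroup G) : Set G)) = Nat.card (commutator ↥P) * (∑ᶠ χ : {χ : Cfsg.IrrCharacter G // ¬ 2 ∣ Cfsg.charDegree (χ : G → ℂ)}, Cfsg.charDegree (χ.1 : G → ℂ) ^ 2) ↔
      ∃ K : Subgroup G, K.Normal ∧ K ⊓ Subgroup.normalizer ((P : Subgroup G) : Set G) = ⊥ ∧ K ⊔ Subgroup.normalizer ((P : Subgroup G) : Set G) = ⊤) := by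
  classical
  have := Fintype.ofFinite G
  set N := Subgroup.normalizer ((P : Subgroup G) : Set G) with hN
  have := Fintype.ofFinite N
  have hPN : (P : Subgroup G) ≤ N := Subgroup.le_normalizer
  have hidx : ¬ 2 ∣ N.index := fun h => P.not_dvd_index (h.trans (Subgroup.index_dvd_of_le hPN))
  haveI : ((P : Subgroup G).subgroupOf N).Normal := Subgroup.normal_in_normalizer
  have hTidx : ¬ 2 ∣ ((P : Subgroup G).subgroupOf N).index := by
    intro h
    refine P.not_dvd_index (h.trans ?_)
    rw [← Subgroup.relIndex_mul_index hPN]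
    exact dvd_mul_right _ _
  have h1 := OddDegreeSum.oddSum_mul_card ((P : Subgroup G).subgroupOf N)
    (P.2.of_equiv (Subgroup.subgroupOfEquivOfLe hPN).symm) hTidx
  have hD : Nat.card (⁅(P : Subgroup G), (P : Subgroup G)⁆ : Subgroup G) = Nat.card (commutator ↥P) := by
    rw [← Subgroup.map_subtype_commutator, Subgroup.card_map_of_injective (P : Subgroup G).subtype_injective]
    rfl
  rw [OddDegreeSum.card_commutator_subgroupOf hPN, hD] at h1
  have hS : (∑ᶠ χ : {χ : Cfsg.IrrCharacter G // ¬ 2 ∣ Cfsg.charDegree (χ : G → ℂ)}, Cfsg.charDegree (χ.1 : G → ℂ) ^ 2) =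
      OddDegreeSum.oddSum G := by
    have := Fintype.ofFinite {χ : Cfsg.IrrCharacter G // ¬ 2 ∣ Cfsg.charDegree (χ : G → ℂ)}
    rw [finsum_eq_sum_of_fintype, OddDegreeSum.oddSum]
    exact (Finset.sum_subtype (OddDegreeSum.oddIrr G) (fun χ => OddDegreeSum.mem_oddIrr) (fun χ : Cfsg.IrrCharacter G => Cfsg.charDegree (χ : G → ℂ) ^ 2)).symm
  have hle := OddDegreeSum.oddSum_le N hidx
  have hpos : 0 < Nat.card (commutator ↥P) := Nat.card_pos
  rw [hS, ← h1]
  refine ⟨Nat.mul_le_mul_left _ hle, fun h => ?_, ?_⟩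
  · exact OddDegreeSum.exists_complement P (Nat.eq_of_mul_eq_mul_left hpos h).ge
  · rintro ⟨K, hK, hbot, htop⟩
    haveI := hK
    rw [le_antisymm hle (OddDegreeSum.eq_of_complement P K hbot htop)]

end Cfsg.Agent.S4930
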