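import Cfsg.Statements.S4931
import Cfsg.Agent.Lib.Transfer.Tate
import Cfsg.Agent.Lib.Ito.Basic
import Cfsg.Agent.Lib.Char.Orth
-- import your own Cfsg.Agent.* helpers here

set_option autoImplicit false
open Cfsg
open scoped Pointwise commutatorElement

namespace Cfsg.Agent.S4931

open scoped IsMulCommutative in
/-- A group with an abelian Sylow subgroup equal to its own normalizer: the focal part is trivial. -/
lemma commutator_inf_sylow_le {G : Type*} [Group G] [Finite G] {p : ℕ} [Fact p.Prime]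
    (Q : Sylow p G) [IsMulCommutative (Q : Subgroup G)]
    (hQ : Subgroup.normalizer ((Q : Subgroup G) : Set G) ≤ (Q : Subgroup G)) :
    commutator G ⊓ (Q : Subgroup G) = ⊥ := by
  have hle : Subgroup.normalizer ((Q : Subgroup G) : Set G) ≤
      Subgroup.centralizer ((Q : Subgroup G) : Set G) :=
    hQ.trans (Subgroup.le_centralizer _)
  exact le_bot_iff.mp ((inf_le_inf_right _ (Abelianization.commutator_subset_ker _)).trans
    (MonoidHom.ker_transferSylow_isComplement' Q hle).disjoint.le_bot)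

/-- `d ∣ |H : B|` for an irreducible character of `H` trivial on `A` when `B / A` is abelian. -/
lemma degree_dvd {H : Type*} [Group H] [Finite H] {χ : H → ℂ} (hχ : IsIrrCharacter H χ)
    (A B : Subgroup H) [A.Normal] [B.Normal] (hA : ∀ a ∈ A, χ a = χ 1) (hAB : A ≤ B)
    (hBA : ⁅B, B⁆ ≤ A) : Cfsg.charDegree χ ∣ B.index := by
  obtain ⟨n, ρ, hi, rfl⟩ := hχ
  have hker : ∀ a ∈ A, ρ a = 1 := fun a ha =>
    (Cfsg.Agent.Char.character_eq_finrank_iff ρ a).1 ((hA a ha).trans (Representation.char_one ρ))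
  let σ : Representation ℂ (H ⧸ A) (Fin n → ℂ) := QuotientGroup.lift A ρ hker
  have hσ : σ.IsIrreducible := by
    refine (OrderIso.isSimpleOrder_iff (β := Subrepresentation σ) ?_).1 hi
    exact
    { toFun := fun q => ⟨q.toSubmodule, fun x v hv => by
        induction x using QuotientGroup.induction_on with
        | _ h => exact q.apply_mem_toSubmodule h hv⟩
      invFun := fun q => ⟨q.toSubmodule, fun h v hv => q.apply_mem_toSubmodule (QuotientGroup.mk h) hv⟩
      left_inv := fun q => rfl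
      right_inv := fun q => rfl
      map_rel_iff' := Iff.rfl }
  have hd : Cfsg.charDegree ρ.character = Module.finrank ℂ (Fin n → ℂ) := by
    simp [Cfsg.charDegree]
  have : (B.map (QuotientGroup.mk' A)).Normal :=
    Subgroup.Normal.map inferInstance _ (QuotientGroup.mk'_surjective A)
  rw [hd, ← Subgroup.index_map_eq B (QuotientGroup.mk'_surjective A)
    (by rw [QuotientGroup.ker_mk']; exact hAB)]
  refine Cfsg.Agent.Ito.finrank_dvd_index σ _ ?_
  rintro _ ⟨a, ha, rfl⟩ _ ⟨b, hb, rfl⟩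
  rw [← map_mul, ← map_mul, QuotientGroup.mk'_eq_mk']
  refine ⟨(a * b)⁻¹ * (b * a), ?_, by group⟩
  refine hBA ?_
  have e : (a * b)⁻¹ * (b * a) = b⁻¹ * a⁻¹ * b⁻¹⁻¹ * a⁻¹⁻¹ := by group
  rw [e, ← commutatorElement_def]
  exact Subgroup.commutator_mem_commutator (B.inv_mem hb) (B.inv_mem ha)

/-- Let G be a finite group, p a prime and P a Sylow p-subgroup of G with normalizer N. Then every irreducible complex character of N of degree not divisible by p is the restriction of an irreducible character of G if and only if there is a normal subgroup K of G with KN = G and K ∩ N = 1. -/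
theorem result {G : Type*} [Group G] [Finite G] (p : ℕ) [Fact p.Prime] (P : Sylow p G) :
    (∀ θ : Cfsg.IrrCharacter ↥(Subgroup.normalizer ((P : Subgroup G) : Set G)), ¬ p ∣ Cfsg.charDegree (θ : ↥(Subgroup.normalizer ((P : Subgroup G) : Set G)) → ℂ) →
        ∃ χ : Cfsg.IrrCharacter G, ∀ x : ↥(Subgroup.normalizer ((P : Subgroup G) : Set G)), (χ : G → ℂ) x = (θ : ↥(Subgroup.normalizer ((P : Subgroup G) : Set G)) → ℂ) x) ↔
      ∃ K : Subgroup G, K.Normal ∧ K ⊔ Subgroup.normalizer ((P : Subgroup G) : Set G) = ⊤ ∧ K ⊓ Subgroup.normalizer ((P : Subgroup G) : Set G) = ⊥ := by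
  classical
  have : Fintype G := Fintype.ofFinite G
  set H := Subgroup.normalizer ((P : Subgroup G) : Set G) with hH
  constructor
  · intro hext
    have hPH : (P : Subgroup G) ≤ H := Subgroup.le_normalizer
    set B : Subgroup H := (P : Subgroup G).subgroupOf H with hB
    have : B.Normal := Subgroup.normal_in_normalizer
    set A : Subgroup H := ⁅B, B⁆ with hA
    have hAB : A ≤ B := Subgroup.commutator_le_right B B
    have hBidx : ¬ p ∣ B.index := by
      intro hd
      exact P.not_dvd_index (hd.trans ⟨H.index, (Subgroup.relIndex_mul_index hPH).symm⟩)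
    have hAmap : A.map H.subtype = ⁅(P : Subgroup G), (P : Subgroup G)⁆ := by
      rw [hA, Subgroup.map_commutator, hB, Subgroup.subgroupOf_map_subtype, inf_eq_left.2 hPH]
    let Θ := {θ : Cfsg.IrrCharacter H // ∀ a ∈ A, (θ : H → ℂ) a = (θ : H → ℂ) 1}
    have hp' : ∀ θ : Θ, ¬ p ∣ Cfsg.charDegree (θ.1 : H → ℂ) := fun θ hd =>
      hBidx (hd.trans (degree_dvd θ.1.2 A B θ.2 hAB le_rfl))
    choose ext hext' using fun θ : Θ => hext θ.1 (hp' θ)
    have hrep : ∀ θ : Θ, ∃ L : Subgroup G, L.Normal ∧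
        ∀ x : G, x ∈ L ↔ (ext θ : G → ℂ) x = (ext θ : G → ℂ) 1 := by
      intro θ
      obtain ⟨n, σ, -, hσ⟩ := (ext θ).2
      refine ⟨MonoidHom.ker σ, MonoidHom.normal_ker _, fun x => ?_⟩
      rw [← hσ, Representation.char_one, MonoidHom.mem_ker]
      exact (Cfsg.Agent.Char.character_eq_finrank_iff σ x).symm
    choose Kθ hKθn hKθ using hrep
    have hKθH : ∀ θ (x : H), (x : G) ∈ Kθ θ ↔ (θ.1 : H → ℂ) x = (θ.1 : H → ℂ) 1 := fun θ x => by
      have h1 := hext' θ 1
      rw [Subgroup.coe_one] at h1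
      rw [hKθ, hext' θ x, h1]
    set K : Subgroup G := ⨅ θ, Kθ θ with hK
    set K1 : Subgroup G := ⨅ θ : {θ : Θ // ∀ b ∈ B, (θ.1 : H → ℂ) b = (θ.1 : H → ℂ) 1}, Kθ θ.1 with hK1
    have : K.Normal := Subgroup.normal_iInf_normal fun θ => hKθn θ
    have : K1.Normal := Subgroup.normal_iInf_normal fun θ => hKθn θ.1
    have hKK1 : K ≤ K1 := le_iInf fun θ => iInf_le _ θ.1
    have hPK1 : (P : Subgroup G) ≤ K1 := le_iInf fun θ x hx =>
      (hKθH θ.1 ⟨x, hPH hx⟩).2 (θ.2 ⟨x, hPH hx⟩ hx)
    -- separation by characters of quotients of `H`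
    have hsep : ∀ (C : Subgroup H) [C.Normal] (x : H),
        (∀ θ : Cfsg.IrrCharacter H, (∀ c ∈ C, (θ : H → ℂ) c = (θ : H → ℂ) 1) →
          (θ : H → ℂ) x = (θ : H → ℂ) 1) → x ∈ C := by
      intro C _ x hx
      rw [← QuotientGroup.eq_one_iff]
      have h1 : IsConj (x : H ⧸ C) 1 := by
        rw [Cfsg.Agent.Char.isConj_iff_irr]
        intro ψ
        exact hx ⟨fun h => (ψ : H ⧸ C → ℂ) (QuotientGroup.mk' C h),
          Cfsg.Agent.Char.IsIrrCharacter.comp_surjective ψ.2 (QuotientGroup.mk' C) (QuotientGroup.mk'_surjective C)⟩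
          (fun c hc => by simp [(QuotientGroup.eq_one_iff c).2 hc])
      exact isConj_one_left.1 h1
    have hKH : ∀ x : H, (x : G) ∈ K → (x : G) ∈ ⁅(P : Subgroup G), (P : Subgroup G)⁆ := fun x hx =>
      hAmap ▸ ⟨x, hsep A x (fun θ hθ => (hKθH ⟨θ, hθ⟩ x).1 (Subgroup.mem_iInf.1 hx _)), rfl⟩
    have hK1H : ∀ x : H, (x : G) ∈ K1 → (x : G) ∈ (P : Subgroup G) := fun x hx =>
      hsep B x (fun θ hθ => (hKθH ⟨θ, fun a ha => hθ a (hAB ha)⟩ x).1
        (Subgroup.mem_iInf.1 hx ⟨⟨θ, fun a ha => hθ a (hAB ha)⟩, hθ⟩))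
    have hPK : ⁅(P : Subgroup G), (P : Subgroup G)⁆ ≤ K := by
      rw [← hAmap]
      rintro _ ⟨a, ha, rfl⟩
      exact Subgroup.mem_iInf.2 fun θ => (hKθH θ a).2 (θ.2 a ha)
    -- the quotient K1 / K
    set K0 : Subgroup K1 := K.subgroupOf K1 with hK0
    have : K0.Normal := Subgroup.Normal.subgroupOf inferInstance K1
    let P1 : Sylow p K1 := P.subtype hPK1
    let Pb : Sylow p (K1 ⧸ K0) := P1.mapSurjective (QuotientGroup.mk'_surjective K0)
    have hPb : ∀ y, y ∈ (Pb : Subgroup (K1 ⧸ K0)) ↔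
        ∃ x : K1, (x : G) ∈ (P : Subgroup G) ∧ QuotientGroup.mk' K0 x = y := fun y => by
      simp only [Pb, Sylow.coe_mapSurjective, P1, Sylow.coe_subtype, Subgroup.mem_map,
        Subgroup.mem_subgroupOf]
    have : IsMulCommutative (Pb : Subgroup (K1 ⧸ K0)) := by
      refine ⟨⟨fun a b => Subtype.ext ?_⟩⟩
      obtain ⟨x, hx, hxa⟩ := (hPb _).1 a.2
      obtain ⟨y, hy, hyb⟩ := (hPb _).1 b.2
      rw [Subgroup.coe_mul, Subgroup.coe_mul, ← hxa, ← hyb, ← map_mul, ← map_mul,
        QuotientGroup.mk'_eq_mk']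
      refine ⟨(x * y)⁻¹ * (y * x), ?_, by group⟩
      rw [hK0, Subgroup.mem_subgroupOf]
      refine hPK ?_
      have e : (((x * y)⁻¹ * (y * x) : K1) : G) =
          ((y : G))⁻¹ * (x : G)⁻¹ * (y : G)⁻¹⁻¹ * (x : G)⁻¹⁻¹ := by push_cast; group
      rw [e, ← commutatorElement_def]
      exact Subgroup.commutator_mem_commutator (Subgroup.inv_mem _ hy) (Subgroup.inv_mem _ hx)
    have hN : Subgroup.normalizer ((Pb : Subgroup (K1 ⧸ K0)) : Set (K1 ⧸ K0)) ≤
        (Pb : Subgroup (K1 ⧸ K0)) := by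
      intro q hq
      obtain ⟨g, rfl⟩ := QuotientGroup.mk'_surjective K0 q
      set M : Subgroup G := (P : Subgroup G) ⊔ K with hM
      have hKM : K ≤ M := le_sup_right
      have hPM : (P : Subgroup G) ≤ M := le_sup_left
      have hgP : ∀ x ∈ (P : Subgroup G), (g : G) * x * (g : G)⁻¹ ∈ M := by
        intro x hx
        have h1 := (Subgroup.mem_normalizer_iff.1 hq (QuotientGroup.mk' K0 ⟨x, hPK1 hx⟩)).1
          ((hPb _).2 ⟨_, hx, rfl⟩)
        rw [← map_inv, ← map_mul, ← map_mul] at h1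
        obtain ⟨y, hy, hyx⟩ := (hPb _).1 h1
        obtain ⟨k, hk, hke⟩ := (QuotientGroup.mk'_eq_mk' K0).1 hyx
        have := congrArg Subtype.val hke
        push_cast at this
        exact this ▸ M.mul_mem (hPM hy) (hKM (Subgroup.mem_subgroupOf.1 hk))
      -- conjugation within M back to P
      let Q : Sylow p G := MulAut.conj (g : G) • P
      have hQM : (Q : Subgroup G) ≤ M := by
        intro z hz0
        have hz : z ∈ MulAut.conj (g : G) • (P : Subgroup G) := hz0
        rw [Subgroup.mem_pointwise_smul_iff_inv_smul_mem] at hz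
        have := hgP _ hz
        simpa [MulAut.smul_def, MulAut.conj_apply, mul_assoc] using this
      obtain ⟨m, hm⟩ := MulAction.exists_smul_eq M (P.subtype hPM) (Q.subtype hQM)
      have hm' : MulAut.conj (m : G) • (P : Subgroup G) = (Q : Subgroup G) := by
        have h1 := congrArg (fun R : Sylow p M => (R : Subgroup M).map M.subtype) hm
        simp only [Sylow.coe_subtype, Subgroup.subgroupOf_map_subtype, inf_eq_left.2 hQM] at h1
        rw [← h1]
        ext z
        simp only [Sylow.coe_subgroup_smul, Sylow.coe_subtype, Subgroup.mem_map,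
          Subgroup.mem_pointwise_smul_iff_inv_smul_mem, MulAut.smul_def, MulAut.conj_inv_apply,
          Subgroup.mem_subgroupOf, Subgroup.coe_subtype]
        constructor
        · intro hz
          have hzM : z ∈ M := by
            have := M.mul_mem (M.mul_mem m.2 (hPM hz)) (M.inv_mem m.2)
            simpa [mul_assoc] using this
          exact ⟨⟨z, hzM⟩, by simpa using hz, rfl⟩
        · rintro ⟨w, hw, rfl⟩
          simpa using hw
      have hn : (m : G)⁻¹ * (g : G) ∈ H := by
        refine Subgroup.mem_normalizer_iff.2 fun x => ?_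
        have e1 : x ∈ (P : Subgroup G) ↔ (g : G) * x * (g : G)⁻¹ ∈ MulAut.conj (g : G) • (P : Subgroup G) := by
          rw [Subgroup.mem_pointwise_smul_iff_inv_smul_mem]
          simp [MulAut.smul_def, mul_assoc]
        rw [e1, show MulAut.conj (g : G) • (P : Subgroup G) = MulAut.conj (m : G) • (P : Subgroup G) from
          hm'.symm, Subgroup.mem_pointwise_smul_iff_inv_smul_mem]
        simp [MulAut.smul_def, mul_assoc]
      have hMK1 : M ≤ K1 := sup_le hPK1 hKK1
      have hgM : (g : G) ∈ M := by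
        have h1 : (m : G)⁻¹ * g ∈ K1 := K1.mul_mem (K1.inv_mem (hMK1 m.2)) g.2
        have := M.mul_mem m.2 (hPM (hK1H ⟨_, hn⟩ h1))
        simpa using this
      have hgM' : g ∈ ((P : Subgroup G) ⊔ K).subgroupOf K1 := hgM
      rw [Subgroup.subgroupOf_sup hPK1 hKK1] at hgM'
      have h2 := Subgroup.mem_map_of_mem (QuotientGroup.mk' K0) hgM'
      rw [Subgroup.map_sup, ← hK0, QuotientGroup.map_mk'_self, sup_bot_eq] at h2
      exact h2
    -- hence K1 has a normal p-complement
    have hc : commutator K1 ⊓ (P1 : Subgroup K1) ≤ ⁅(P1 : Subgroup K1), (P1 : Subgroup K1)⁆ := by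
      rintro x ⟨hx1, hx2⟩
      have h1 : QuotientGroup.mk' K0 x ∈ commutator (K1 ⧸ K0) ⊓ (Pb : Subgroup (K1 ⧸ K0)) := by
        refine ⟨?_, ⟨x, hx2, rfl⟩⟩
        have := Subgroup.mem_map_of_mem (QuotientGroup.mk' K0) hx1
        rw [commutator_def, Subgroup.map_commutator] at this
        rw [commutator_def]
        exact Subgroup.commutator_mono le_top le_top this
      rw [commutator_inf_sylow_le Pb hN, Subgroup.mem_bot] at h1
      have hx2' : (x : G) ∈ (P : Subgroup G) := hx2
      have h2 : (x : G) ∈ ⁅(P : Subgroup G), (P : Subgroup G)⁆ :=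
        hKH ⟨x, hPH hx2'⟩ ((QuotientGroup.eq_one_iff x).1 h1)
      have h3 : ⁅(P1 : Subgroup K1), (P1 : Subgroup K1)⁆.map K1.subtype =
          ⁅(P : Subgroup G), (P : Subgroup G)⁆ := by
        rw [Subgroup.map_commutator, Sylow.coe_subtype, Subgroup.subgroupOf_map_subtype,
          inf_eq_left.2 hPK1]
      rw [← h3] at h2
      obtain ⟨y, hy, hyx⟩ := h2
      rwa [← Subtype.ext (show (y : G) = x from hyx)]
    have hcomp := Cfsg.Agent.Transfer.hasNormalPComplement_of_commutator_inf_le P1 hc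
    have hinf := (Cfsg.Agent.Transfer.hasNormalPComplement_iff_inf_eq_bot P1).1 hcomp
    have hsup : (P1 : Subgroup K1) ⊔ Cfsg.pResidual p K1 = ⊤ :=
      Cfsg.Agent.Transfer.sylow_sup_eq_top P1
    refine ⟨(Cfsg.pResidual p K1).map K1.subtype, inferInstance, ?_, ?_⟩
    · refine top_le_iff.1 ?_
      rw [← Sylow.normalizer_sup_eq_top' P hPK1]
      refine sup_le le_sup_right ?_
      calc K1 = (⊤ : Subgroup K1).map K1.subtype := by
            rw [← MonoidHom.range_eq_map, Subgroup.range_subtype]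
        _ ≤ (P1 : Subgroup K1).map K1.subtype ⊔ (Cfsg.pResidual p K1).map K1.subtype := by
            rw [← Subgroup.map_sup, hsup]
        _ ≤ (Cfsg.pResidual p K1).map K1.subtype ⊔ H := by
            refine sup_le ?_ le_sup_left
            rintro _ ⟨z, hz, rfl⟩
            exact Subgroup.mem_sup_right (hPH hz)
    · rw [eq_bot_iff]
      rintro _ ⟨⟨z, hz, rfl⟩, hzH⟩
      have hzP : z ∈ (P1 : Subgroup K1) := hK1H ⟨_, hzH⟩ z.2
      have : z ∈ (⊥ : Subgroup K1) := hinf ▸ ⟨hzP, hz⟩
      rw [Subgroup.mem_bot] at this ⊢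
      rw [this]; rfl
  · rintro ⟨K, hKn, hsup, hinf⟩ θ -
    have hc : Subgroup.IsComplement' H K := by
      refine Subgroup.isComplement'_of_disjoint_and_mul_eq_univ
        (disjoint_iff.2 (by rw [inf_comm]; exact hinf)) ?_
      rw [← Subgroup.mul_normal H K, sup_comm, hsup, Subgroup.coe_top]
    let π : G →* H := (hc.QuotientMulEquiv : G ⧸ K ≃* H).toMonoidHom.comp (QuotientGroup.mk' K)
    have hπ : Function.Surjective π :=
      hc.QuotientMulEquiv.surjective.comp (QuotientGroup.mk'_surjective K)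
    refine ⟨⟨fun g => (θ : H → ℂ) (π g), Cfsg.Agent.Char.IsIrrCharacter.comp_surjective θ.2 π hπ⟩,
      fun x => ?_⟩
    have : π (x : G) = x := by
      simp only [π, MonoidHom.coe_comp, Function.comp_apply, QuotientGroup.mk'_apply]
      exact hc.QuotientMulEquiv.symm.injective (by rw [MulEquiv.toMonoidHom_eq_coe, MonoidHom.coe_coe, MulEquiv.symm_apply_apply]; rfl)
    exact congrArg (θ : H → ℂ) this


end Cfsg.Agent.S4931
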