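import Cfsg.Statements.S4937
import Cfsg.Agent.EqLemmas
import Cfsg.Agent.Lib.CosetScalar.Main

set_option autoImplicit false
open Cfsg

namespace Cfsg.Agent.S4937

open Cfsg.Agent.Blocks Cfsg.Agent.CosetScalar

theorem irreducible_of_restrict {H K : Type*} [Group H] [Group K] (i : K →* H) {n : ℕ}
    (σ : Representation ℂ H (Fin n → ℂ)) (h : Representation.IsIrreducible (σ.comp i)) :
    σ.IsIrreducible := by
  have : Nontrivial (Fin n → ℂ) := CharApp.nontrivial_of_irr (ρ := (σ.comp i : Representation ℂ K (Fin n → ℂ)))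
  exact CharApp.isIrreducible_of_forall_invariant σ fun W hW =>
    CharApp.eq_bot_or_top_of_invariant (σ.comp i : Representation ℂ K (Fin n → ℂ)) W
      fun x v hv => hW (i x) v hv

theorem sameBlock_one_of_orbits {G : Type*} [Group G] [Fintype G] {p : ℕ} {M : Ideal AlgInt}
    (hM : IsPModular p M) (N : Subgroup G) [N.Normal] [Fintype N] {χ : G → ℂ}
    (hcl : IsClassFunction G χ)
    (hχ : ∀ x : G, MemLocalIdeal M
      (((orb N x).card : ℂ) * χ x / χ 1 - ((orb N x).card : ℂ)))
    {J : Type*} [Group J] [Fintype J] (i : J →* G) (hi : Function.Injective i) (hN : N ≤ i.range) :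
    SameBlock M (fun _ : J => (1 : ℂ)) (fun y => χ (i y)) := by
  classical
  intro g
  set K : Finset G := (Finset.univ.filter fun y : J => IsConj g y).image i with hK
  have hinv : ∀ (m : N), ∀ x ∈ K, (m : G) * x * (m : G)⁻¹ ∈ K := by
    intro m x hx
    obtain ⟨y, hy, rfl⟩ := Finset.mem_image.1 hx
    obtain ⟨k, hk⟩ := hN m.2
    refine Finset.mem_image.2 ⟨k * y * k⁻¹, ?_, by rw [map_mul, map_mul, map_inv, hk]⟩
    exact Finset.mem_filter.2 ⟨Finset.mem_univ _,
      ((Finset.mem_filter.1 hy).2).trans (isConj_iff.2 ⟨k, rfl⟩)⟩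
  have h := classSum_congr N hM (fun m x => hcl x (m : G)) hχ K hinv
  have hcard : K.card = (Subgroup.centralizer ({g} : Set J)).index := by
    rw [Finset.card_image_of_injective _ hi, ← BrauerPairs.card_class, Nat.card_eq_fintype_card,
      ← Fintype.card_subtype]
    exact Fintype.card_congr (Equiv.refl _)
  have hsum : ∑ y ∈ K, χ y / χ 1 = (K.card : ℂ) * (χ (i g) / χ 1) := by
    rw [Finset.sum_congr rfl (g := fun _ => χ (i g) / χ 1) fun x hx => ?_, Finset.sum_const,
      nsmul_eq_mul]
    obtain ⟨y, hy, rfl⟩ := Finset.mem_image.1 hx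
    obtain ⟨k, rfl⟩ := isConj_iff.1 (Finset.mem_filter.1 hy).2
    rw [map_mul, map_mul, map_inv, hcl]
  rw [hsum, hcard] at h
  refine memI_sub_comm ?_
  simpa [centralChar, mul_div_assoc] using h

/-- Let G be a finite group, p a prime, M a maximal ideal of the algebraic integers containing p, N a normal subgroup of G and P a Sylow p-subgroup of N such that G = N·C_G(P). Let θ be an irreducible character in the principal p-block of N that is the restriction of some irreducible character of G. Then θ is the restriction of an irreducible character χ of G lying in the principal p-block of G such that, for every subgroup J of G containing N, the restriction of χ to J is an irreducible character of J lying in the principal p-block of J. -/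
theorem result {G : Type*} [Group G] [Finite G] (p : ℕ) [Fact p.Prime] (M : Ideal Cfsg.AlgInt) (hM : Cfsg.IsPModular p M) (N : Subgroup G) [N.Normal] (P : Sylow p ↥N)
    (hcov : N ⊔ Subgroup.centralizer (((P : Subgroup ↥N).map N.subtype : Subgroup G) : Set G) = ⊤)
    (θ : Cfsg.IrrCharacter ↥N) (hθ : θ ∈ Cfsg.principalBlock M ↥N)
    (hext : ∃ ψ : Cfsg.IrrCharacter G, ∀ x : ↥N, (ψ : G → ℂ) x = (θ : ↥N → ℂ) x) :
    ∃ χ : Cfsg.IrrCharacter G, χ ∈ Cfsg.principalBlock M G ∧ (∀ x : ↥N, (χ : G → ℂ) x = (θ : ↥N → ℂ) x) ∧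
      ∀ J : Subgroup G, N ≤ J → ∃ ξ : Cfsg.IrrCharacter ↥J, ξ ∈ Cfsg.principalBlock M ↥J ∧ ∀ y : ↥J, (ξ : ↥J → ℂ) y = (χ : G → ℂ) y := by
  classical
  have := Fintype.ofFinite G
  have := Fintype.ofFinite N
  obtain ⟨ψ, hψ⟩ := hext
  obtain ⟨n, ρ, hρi, hρ⟩ := ψ.2
  obtain ⟨t, τ, hτi, hτ⟩ := θ.2
  have hres : ∀ m : N, (θ : N → ℂ) m = ρ.character (m : G) := fun m => by rw [hρ, hψ]
  have hchar : τ.character = (resN N ρ).character := funext fun m => by
    rw [hτ, hres]
    rfl
  obtain ⟨e⟩ := Char.equiv_of_character_eq τ (resN N ρ) hchar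
  have : (resN N ρ).IsIrreducible := Char.isIrreducible_congr e hτi
  obtain ⟨l, hlN, hl⟩ := exists_twist N ρ hM hres hθ P hcov
  have hirr : Cfsg.IsIrrCharacter G (fun g => ρ.character g * ((l g : ℂˣ) : ℂ)) := by
    have h := Char.IsIrrCharacter.mul_linear (χ := ρ.character) (hρ ▸ ψ.2)
      ((Units.coeHom ℂ).comp l)
    exact h
  set χ : Cfsg.IrrCharacter G := ⟨_, hirr⟩ with hχ
  have hχN : ∀ m : N, (χ : G → ℂ) m = (θ : N → ℂ) m := fun m => by
    show ρ.character (m : G) * _ = _
    rw [hlN, Units.val_one, mul_one, hres]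
  have horb : ∀ x : G, MemLocalIdeal M
      (((orb N x).card : ℂ) * (χ : G → ℂ) x / (χ : G → ℂ) 1 - ((orb N x).card : ℂ)) := by
    intro x
    have h1 : (χ : G → ℂ) 1 = ρ.character 1 := by
      show ρ.character 1 * _ = _
      rw [map_one, Units.val_one, mul_one]
    rw [h1]
    exact hl x
  have hcl := Blocks.irr_class χ
  refine ⟨χ, sameBlock_one_of_orbits hM N hcl horb (MonoidHom.id G) (fun _ _ h => h)
    (fun m _ => ⟨m, rfl⟩), hχN, fun J hJ => ?_⟩
  have := Fintype.ofFinite J
  obtain ⟨m, σ, -, hσ⟩ := id hirr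
  let i : N →* J := Subgroup.inclusion hJ
  have hchar' : τ.character = Representation.character
      ((σ.comp J.subtype).comp i : Representation ℂ N (Fin m → ℂ)) := funext fun y => by
    rw [hτ, ← hχN y]
    show _ = σ.character (y : G)
    rw [hσ]
  obtain ⟨e'⟩ := Char.equiv_of_character_eq τ _ hchar'
  have hJi := irreducible_of_restrict i (σ.comp J.subtype) (Char.isIrreducible_congr e' hτi)
  refine ⟨⟨fun y : J => (χ : G → ℂ) y, m, _, hJi, funext fun y => ?_⟩, ?_, fun y => rfl⟩
  · show σ.character (y : G) = (χ : G → ℂ) y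
    rw [hσ]
  · exact sameBlock_one_of_orbits hM N hcl horb J.subtype J.subtype_injective
      (fun x hx => ⟨⟨x, hJ hx⟩, rfl⟩)

end Cfsg.Agent.S4937
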