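import Cfsg.Statements.S4949
import Cfsg.Agent.EqLemmas
import Cfsg.Agent.Lib.SymBlocks.AltHeights

set_option autoImplicit false
open Cfsg

namespace Cfsg.Agent.S4949

open Cfsg.Agent.SymBlocks

/-- The even part of the shifts is commutative. -/
theorem isMulCommutative_partSub_bot {n m w p : ℕ} (e : (Fin w × ZMod p) ⊕ Fin m ≃ Fin n) :
    IsMulCommutative (partSub e (⊥ : Subgroup (Equiv.Perm (Fin w)))) := by
  refine ⟨⟨fun a b => ?_⟩⟩
  obtain ⟨g, hg, ha⟩ := a.2
  obtain ⟨h, hh, hb⟩ := b.2
  have hg1 : g = SemidirectProduct.inl g.left := SemidirectProduct.ext rfl (Subgroup.mem_bot.mp hg)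
  have hh1 : h = SemidirectProduct.inl h.left := SemidirectProduct.ext rfl (Subgroup.mem_bot.mp hh)
  refine Subtype.ext (Subtype.ext ?_)
  simp only [Subgroup.coe_mul]
  rw [show ((a : alternatingGroup (Fin n)) : Equiv.Perm (Fin n)) = wreathHom e g from ha.symm,
    show ((b : alternatingGroup (Fin n)) : Equiv.Perm (Fin n)) = wreathHom e h from hb.symm,
    hg1, hh1, wreathHom_inl_eq, wreathHom_inl_eq, ← map_mul, ← map_mul, mul_comm]

/-- Transport of commutativity along an isomorphism. -/
theorem isMulCommutative_of_equiv {G H : Type*} [Group G] [Group H] (e : G ≃* H)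
    (h : IsMulCommutative H) : IsMulCommutative G :=
  ⟨⟨fun a b => e.injective (by rw [map_mul, map_mul]; exact h.is_comm.comm _ _)⟩⟩

/-- Let n be a natural number, p a prime, M a maximal ideal of the algebraic integers containing p, B a p-block of the alternating group of degree n and D a defect group of B. Then either B contains an irreducible character of height 1 and D has an irreducible complex character of degree p, or every irreducible character of B has height zero and D is commutative (so the least positive height in B and the least positive exponent of a character degree of D are both 1 or both absent). -/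
theorem result (n : ℕ) (p : ℕ) [Fact p.Prime] (M : Ideal Cfsg.AlgInt) (hM : Cfsg.IsPModular p M) (B : Set (Cfsg.IrrCharacter ↥(alternatingGroup (Fin n)))) (hB : Cfsg.IsPBlock M B) (D : Subgroup ↥(alternatingGroup (Fin n))) (hD : Cfsg.IsDefectGroup p M B D) :
    ((∃ χ : Cfsg.IrrCharacter ↥(alternatingGroup (Fin n)), χ ∈ B ∧ Cfsg.blockHeight p B (χ : ↥(alternatingGroup (Fin n)) → ℂ) = 1) ∧ (∃ φ : Cfsg.IrrCharacter ↥D, Cfsg.charDegree (φ : ↥D → ℂ) = p)) ∨
    ((∀ χ : Cfsg.IrrCharacter ↥(alternatingGroup (Fin n)), χ ∈ B → Cfsg.blockHeight p B (χ : ↥(alternatingGroup (Fin n)) → ℂ) = 0) ∧ IsMulCommutative D) := by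
  have hp : p.Prime := Fact.out
  rcases Nat.lt_or_ge n 2 with hn2 | hn2
  · have : Subsingleton (Fin n) := Fin.subsingleton_iff_le_one.mpr (by omega)
    refine Or.inr ⟨fun χ _ => ?_, ⟨⟨fun a b => Subtype.ext (Subsingleton.elim _ _)⟩⟩⟩
    have h := factorization_degree_le (p := p) χ
    rw [Nat.card_unique, Nat.factorization_one, Finsupp.zero_apply, Nat.le_zero] at h
    simp [Cfsg.blockHeight, h]
  set N := n + p * (n + 1)
  have hn : n ≤ N := Nat.le_add_right _ _
  obtain ⟨ξ, hξ⟩ := Blocks.isPBlock_nonempty hM hB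
  obtain ⟨ψ, hψ⟩ := BlocksNormal.exists_over (alternatingGroup (Fin n)) ξ
  obtain ⟨α, hinj, hsum, hε, -, -⟩ := exists_label hn ψ
  have hne : coef N α ψ ≠ 0 := by rcases hε with h | h <;> simp [h]
  have hα : α ∈ lev N n := mem_lev.mpr hsum
  obtain ⟨w, hw⟩ := exists_weight (p := p) hinj
  have hA := factorization_card_alt (p := p) hn2
  set vA := (Nat.card (alternatingGroup (Fin n))).factorization p with hvA
  let v : Cfsg.IrrCharacter (alternatingGroup (Fin n)) → ℕ := fun χ =>
    (Cfsg.charDegree (χ : alternatingGroup (Fin n) → ℂ)).factorization p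
  have hmle : sInf (v '' B) ≤ vA := (Nat.sInf_le (Set.mem_image_of_mem v hξ)).trans (factorization_degree_le ξ)
  have hdef : Cfsg.blockDefect p B = eA p w := by
    rcases Nat.eq_zero_or_pos w with hw0 | hw1
    · have hle : vA ≤ sInf (v '' B) :=
        le_csInf ((Blocks.isPBlock_nonempty hM hB).image _) (by
          rintro _ ⟨η, hη, rfl⟩
          obtain ⟨φ, β, hβ, hβne, -, hφη, hβw⟩ := exists_over_core hM hn hB hξ hψ hα hne hw hη
          have := le_degree hn2 hn hβ hβne hφη hβw
          rw [hw0, eA_zero] at this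
          exact this)
      rw [hw0, eA_zero]
      exact Nat.sub_eq_zero_of_le hle
    · exact (exists_defect_equiv hM hn2 hn hB hξ hψ hα hne hw hw1 hD).1
  have hmin : sInf (v '' B) + eA p w = vA := by
    rw [← hdef]
    exact Nat.add_sub_cancel' hmle
  have hheight : ∀ η : Cfsg.IrrCharacter (alternatingGroup (Fin n)),
      Cfsg.blockHeight p B (η : alternatingGroup (Fin n) → ℂ) = v η - sInf (v '' B) := fun _ => rfl
  have hcardD := Blocks.card_defectGroup hM hB hD
  rw [hdef] at hcardD
  have hbound := fun η hη => exists_over_core hM hn hB hξ hψ hα hne hw (η := η) hη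
  by_cases hlarge : p ≤ w ∧ (p = 2 → 3 ≤ w)
  · -- a character of height one and a character of degree `p` of the defect group
    obtain ⟨hwp, h3⟩ := hlarge
    have hw1 : 1 ≤ w := hp.one_lt.le.trans hwp
    obtain ⟨-, m, e, T, ⟨eD⟩⟩ := exists_defect_equiv hM hn2 hn hB hξ hψ hα hne hw hw1 hD
    obtain ⟨β, hβinj, hβ, hβc, hβw, hq, hmir⟩ :=
      exists_height_one hinj hsum hw hwp h3 le_rfl
    obtain ⟨φ, hφne⟩ := exists_irr_of_tuple hβinj hβ
    obtain ⟨η, hη⟩ := BlocksNormal.exists_constituent (alternatingGroup (Fin n)) φ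
    have hb : Cfsg.IsPBlock M (Cfsg.blockOf M (ψ : Equiv.Perm (Fin n) → ℂ)) := ⟨ψ, rfl⟩
    have hψb := Blocks.mem_blockOf_self hM ψ
    have hφb := mem_block_of_coreSet hM hn hb hψb (c := cnt p α) ⟨α, hα, hne, rfl⟩
      (φ := φ) ⟨β, hβ, hφne, hβc⟩
    obtain ⟨t, ht⟩ := BlocksNormal.exists_conjIrr_mem_of_sameBlock (alternatingGroup (Fin n)) hM hB
      (Blocks.sameBlock_of_mem hM hb hψb hφb) hξ hψ hη
    have hηB : η ∈ B := by
      have h1 := conj_mem hM hn hB hξ hψ hα hne hw hw1 h3 t⁻¹ ht
      rwa [← BlocksNormal.conjIrr_mul, inv_mul_cancel, BlocksNormal.conjIrr_one] at h1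
    refine Or.inl ⟨⟨η, hηB, ?_⟩, exists_irr_degree_equiv eD (exists_irr_degree_partSub hwp h3 e T)⟩
    have hv : v η + eA p w = vA + 1 := by
      rw [eA]
      rcases degree_alt hn2 hn hβ hφne hη hβw with ⟨-, h⟩ | ⟨hs, h⟩
      · simp only [v]
        split_ifs at hA ⊢ <;> omega
      · have hp2 : p ≠ 2 := fun hp2 => by
          subst hp2
          exact hmir rfl (mirror_of_selfConj hn hs hβ hφne)
        simp only [v, if_neg hp2] at hA h ⊢
        omega
    rw [hheight]
    omega
  -- every height is zero and the defect group is commutative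
  have hsmall : (p ≠ 2 ∧ w < p) ∨ (p = 2 ∧ w ≤ 2) := by
    push Not at hlarge
    by_cases hp2 : p = 2
    · refine Or.inr ⟨hp2, ?_⟩
      by_contra hc
      have := (hlarge (by omega)).2
      omega
    · refine Or.inl ⟨hp2, ?_⟩
      by_contra hc
      exact hp2 (hlarge (by omega)).1
  refine Or.inr ⟨fun η hη => ?_, ?_⟩
  · obtain ⟨φ, β, hβ, hβne, -, hφη, hβw⟩ := hbound η hη
    have hv : v η + eA p w ≤ vA := by
      have hq := (degree_weight hn hβ hβne hβw).2
      rcases Nat.eq_zero_or_pos w with rfl | hw1
      · rw [eA_zero]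
        exact factorization_degree_le η
      rw [eA]
      rcases hsmall with ⟨hp2, hwp⟩ | ⟨rfl, hw2⟩
      · rw [padicValNat.eq_zero_of_not_dvd fun hd =>
          absurd ((Nat.Prime.dvd_factorial hp).mp hd) (not_le.mpr hwp)] at hq ⊢
        simp only [v, if_neg hp2] at hA ⊢
        rcases degree_alt hn2 hn hβ hβne hφη hβw with ⟨-, h⟩ | ⟨-, h⟩
        · omega
        · rw [if_neg hp2] at h
          omega
      simp only [v, if_true] at hA ⊢
      rcases degree_alt hn2 hn hβ hβne hφη hβw with ⟨hs, h⟩ | ⟨hs, h⟩
      · interval_cases w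
        · rw [Nat.factorial_one, padicValNat_one_right] at hq ⊢
          omega
        · have hv2 : padicValNat 2 (Nat.factorial 2) = 1 := padicValNat_self
          rw [hv2]
          have hsw := sum_rw' two_pos (injective_of_coef hβne) hβw
          rw [show Finset.range 2 = {0, 1} from rfl, Finset.sum_pair zero_ne_one] at hsw
          have hq1 : 1 ≤ qE 2 (Finset.univ.image β) := by
            rw [qE, show Finset.range 2 = {0, 1} from rfl, Finset.sum_pair zero_ne_one]
            have hone : ∀ r, rw' 2 (Finset.univ.image β) r = 2 →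
                1 ≤ hookE 2 (runner 2 (Finset.univ.image β) r) := fun r hr =>
              one_le_hookE_two (by have := rw'_add (p := 2) (Finset.univ.image β) r; omega)
            rcases Nat.lt_trichotomy (rw' 2 (Finset.univ.image β) 0) 1 with h0 | h0 | h0
            · have := hone 1 (by omega)
              omega
            · refine absurd (selfConj_of_mirror hn hβ hβne (mirror_eq_of_one_one ?_ ?_ h0 (by omega))) hs
              · intro x hx
                obtain ⟨i, -, rfl⟩ := Finset.mem_image.mp hx
                exact lt_of_level (injective_of_coef hβne) (mem_lev.mp hβ) hn i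
              · rw [Finset.card_image_of_injective _ (injective_of_coef hβne), Finset.card_fin]
            · have := hone 0 (by omega)
              omega
          omega
      · have hlt := qE_lt_of_mirror (mirror_of_selfConj hn hs hβ hβne)
          (sum_rw' two_pos (injective_of_coef hβne) hβw) hw1
        simp only [if_true] at h
        interval_cases w
        · rw [Nat.factorial_one, padicValNat_one_right] at hlt
          omega
        · have hv2 : padicValNat 2 (Nat.factorial 2) = 1 := padicValNat_self
          rw [hv2] at hlt ⊢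
          omega
    rw [hheight]
    omega
  · rcases hsmall with ⟨hp2, hwp⟩ | ⟨rfl, hw2⟩
    · rcases Nat.eq_zero_or_pos w with rfl | hw1
      · rw [eA_zero, pow_zero, Subgroup.card_eq_one] at hcardD
        subst hcardD
        exact ⟨⟨fun a b => Subsingleton.elim _ _⟩⟩
      obtain ⟨-, m, e, T, ⟨eD⟩⟩ := exists_defect_equiv hM hn2 hn hB hξ hψ hα hne hw hw1 hD
      have hT : (T : Subgroup (Equiv.Perm (Fin w))) = ⊥ := by
        rw [← Subgroup.card_eq_one]
        refine (sylow_card_perm T).trans ?_
        rw [padicValNat.eq_zero_of_not_dvd fun hd =>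
          absurd ((Nat.Prime.dvd_factorial hp).mp hd) (not_le.mpr hwp), pow_zero]
      exact isMulCommutative_of_equiv eD (hT ▸ isMulCommutative_partSub_bot e)
    · interval_cases w
      · rw [eA_zero, pow_zero, Subgroup.card_eq_one] at hcardD
        subst hcardD
        exact ⟨⟨fun a b => Subsingleton.elim _ _⟩⟩
      · rw [show eA 2 1 = 0 by simp [eA], pow_zero, Subgroup.card_eq_one] at hcardD
        subst hcardD
        exact ⟨⟨fun a b => Subsingleton.elim _ _⟩⟩
      · have hv2 : padicValNat 2 (Nat.factorial 2) = 1 := padicValNat_self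
        rw [show eA 2 2 = 2 by simp [eA]] at hcardD
        exact IsPGroup.isMulCommutative_of_card_eq_prime_sq hcardD

end Cfsg.Agent.S4949
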