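import Cfsg.Statements.S4955
import Cfsg.Agent.Lib.GaloisAvg.PElement
import Cfsg.Agent.Lib.Ito.Basic
import Cfsg.Agent.Lib.Char.Orth
-- import your own Cfsg.Agent.* helpers here

set_option autoImplicit false
open Cfsg

namespace Cfsg.Agent.S4955

/-- Let X be a finite group with an abelian normal Sylow p-subgroup V (a normal p-subgroup of index prime to p in which any two elements commute), and let G be a complement to V in X. Then for every v in V, writing C for the centralizer of v in G, the number k(X) of conjugacy classes of X satisfies k(X) ≤ (order of C)·(order of V) − ((order of G) − k(G)); the statement is written with the subtracted term moved to the left. In particular, if some v in V is centralized by no nonidentity element of G, then k(X) is at most the order of V. -/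
theorem result {X : Type*} [Group X] [Finite X] (p : ℕ) [Fact p.Prime] (V : Subgroup X) [V.Normal] (hVp : IsPGroup p V) (hidx : ¬ p ∣ V.index) (hab : ∀ a ∈ V, ∀ b ∈ V, a * b = b * a) (G : Subgroup X) (hGV : Subgroup.IsComplement' V G) (v : X) (hv : v ∈ V) : Nat.card (ConjClasses X) + Nat.card G ≤ Nat.card ↥(G ⊓ Subgroup.centralizer ({v} : Set X)) * Nat.card V + Nat.card (ConjClasses G) := by
  classical
  have := Fintype.ofFinite (Cfsg.IrrCharacter X)
  have := Fintype.ofFinite (Cfsg.IrrCharacter G)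
  set N := Nat.card X with hNdef
  have : NeZero N := ⟨Nat.card_pos.ne'⟩
  have hz := Cfsg.Agent.GaloisAvg.zeta_isPrimitiveRoot (NeZero.ne N)
  set R := primitiveRoots N ℂ
  let e : ℂ → ℕ := fun z => if h : ∃ i, i.Coprime N ∧ Cfsg.Agent.GaloisAvg.zeta N ^ i = z then h.choose else 0
  have he : ∀ z ∈ R, (e z).Coprime N ∧ Cfsg.Agent.GaloisAvg.zeta N ^ e z = z := by
    intro z hzR
    obtain ⟨i, -, hi, hiz⟩ := hz.isPrimitiveRoot_iff.mp ((mem_primitiveRoots (NeZero.pos N)).mp hzR)
    have h : ∃ i, i.Coprime N ∧ Cfsg.Agent.GaloisAvg.zeta N ^ i = z := ⟨i, hi, hiz⟩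
    simp only [e, dif_pos h]
    exact h.choose_spec
  -- the projection onto the complement
  have hGV' : Subgroup.IsComplement' G V := hGV.symm
  let π : X →* G := (hGV'.QuotientMulEquiv : X ⧸ V ≃* G).toMonoidHom.comp (QuotientGroup.mk' V)
  have hπ : Function.Surjective π := (hGV'.QuotientMulEquiv).surjective.comp (QuotientGroup.mk'_surjective V)
  have hπv : π v = 1 := by
    simp only [π, MonoidHom.coe_comp, Function.comp_apply, QuotientGroup.mk'_apply]
    rw [(QuotientGroup.eq_one_iff v).2 hv, map_one]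
  let infl : Cfsg.IrrCharacter G → Cfsg.IrrCharacter X := fun θ =>
    ⟨fun x => (θ : G → ℂ) (π x), Cfsg.Agent.Char.IsIrrCharacter.comp_surjective θ.2 π hπ⟩
  have hinfl : Function.Injective infl := fun a b hab => Subtype.ext (funext fun y => by
    obtain ⟨x, rfl⟩ := hπ y
    exact congrFun (congrArg Subtype.val hab) x)
  -- every character is non-zero at every power of v
  have hne : ∀ (χ : Cfsg.IrrCharacter X) (j : ℕ), (χ : X → ℂ) (v ^ j) ≠ 0 := by
    intro χ j h0
    obtain ⟨n, -, hn, hdvd⟩ := Cfsg.Agent.Ito.exists_degree_dvd_index χ.2 V hab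
    obtain ⟨k, hk⟩ := hVp ⟨v ^ j, V.pow_mem hv j⟩
    exact hidx (dvd_trans (Cfsg.Agent.GaloisAvg.dvd_degree_of_apply_eq_zero
      (Cfsg.Agent.Char.IsIrrCharacter.isCharacter χ.2) (by simpa using congrArg Subtype.val hk) hn h0) hdvd)
  -- the centraliser of v
  have hC : Nat.card ↥(Subgroup.centralizer ({v} : Set X)) =
      Nat.card ↥(G ⊓ Subgroup.centralizer ({v} : Set X)) * Nat.card V := by
    rw [mul_comm, ← Nat.card_prod]
    refine (Nat.card_eq_of_bijective (fun z => (⟨(z.1 : X) * z.2, ?_⟩ : Subgroup.centralizer ({v} : Set X))) ⟨?_, ?_⟩).symm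
    · exact (Subgroup.centralizer ({v} : Set X)).mul_mem
        (Subgroup.mem_centralizer_singleton_iff.2 (hab _ z.1.2 _ hv)) z.2.2.2
    · intro a b hab'
      have := hGV.1 (a₁ := (a.1, ⟨a.2, a.2.2.1⟩)) (a₂ := (b.1, ⟨b.2, b.2.2.1⟩))
        (congrArg Subtype.val hab')
      simp only [Prod.mk.injEq, Subtype.mk.injEq] at this
      exact Prod.ext this.1 (Subtype.ext this.2)
    · rintro ⟨x, hx⟩
      obtain ⟨⟨t, g⟩, rfl⟩ := hGV.2 x
      have ht := Subgroup.mem_centralizer_singleton_iff.2 (hab _ t.2 _ hv)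
      refine ⟨(t, ⟨g, g.2, ?_⟩), rfl⟩
      simpa using (Subgroup.centralizer ({v} : Set X)).mul_mem
        ((Subgroup.centralizer ({v} : Set X)).inv_mem ht) hx
  have hCj : ∀ j : ℕ, j.Coprime N →
      Subgroup.centralizer ({v ^ j} : Set X) = Subgroup.centralizer ({v} : Set X) := by
    intro j hj
    obtain ⟨m, hm⟩ := exists_pow_eq_self_of_coprime (hj.coprime_dvd_right (orderOf_dvd_natCard v))
    ext x
    simp only [Subgroup.mem_centralizer_singleton_iff]
    constructor
    · intro h
      have h' : Commute x (v ^ j) := h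
      have h2 := (h'.pow_right m)
      rw [hm] at h2
      exact h2
    · intro h
      exact ((show Commute x v from h).pow_right j)
  set C := Nat.card ↥(Subgroup.centralizer ({v} : Set X))
  have hcol : ∀ z ∈ R, ∑ χ : Cfsg.IrrCharacter X, ‖(χ : X → ℂ) (v ^ e z)‖ ^ 2 = (C : ℝ) := by
    intro z hzR
    have h := Cfsg.Agent.Char.column_orth (v ^ e z) (v ^ e z)
    rw [if_pos (IsConj.refl _), hCj _ (he z hzR).1] at h
    apply Complex.ofReal_injective
    push_cast
    rw [← h]
    exact Finset.sum_congr rfl fun χ _ => (Complex.mul_conj' _).symm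
  -- split off the characters of G
  set A := Finset.univ.image infl with hA
  have hA1 : ∀ z : ℂ, ∑ χ ∈ A, ‖(χ : X → ℂ) (v ^ e z)‖ ^ 2 = (Nat.card G : ℝ) := by
    intro z
    rw [hA, Finset.sum_image fun a _ b _ h => hinfl h]
    have h := Cfsg.Agent.Char.sum_sq_degrees (G := G)
    apply Complex.ofReal_injective
    push_cast
    rw [← h]
    refine Finset.sum_congr rfl fun θ _ => ?_
    obtain ⟨n, hn⟩ := Cfsg.Agent.Char.IsIrrCharacter.exists_degree θ.2
    simp [infl, map_pow, hπv, hn]
  have hlow : ∀ χ : Cfsg.IrrCharacter X,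
      (R.card : ℝ) ≤ ∑ z ∈ R, ‖(χ : X → ℂ) (v ^ e z)‖ ^ 2 := by
    intro χ
    obtain ⟨P, hP⟩ := Cfsg.Agent.GaloisAvg.cycloValued_irr χ v
    have hfz : ∀ z ∈ R, (χ : X → ℂ) (v ^ e z) = Polynomial.aeval z P := fun z hzR => by
      rw [hP, (he z hzR).2]
    rw [Finset.sum_congr rfl fun z hzR => by rw [hfz z hzR]]
    exact Cfsg.Agent.GaloisAvg.card_le_sum_norm_pow_roots P
      (fun z hzR => by rw [← hfz z hzR]; exact hne χ _) 2
  have h1 : (Aᶜ.card : ℝ) * R.card ≤ R.card * ((C : ℝ) - Nat.card G) := by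
    calc (Aᶜ.card : ℝ) * R.card = ∑ χ ∈ Aᶜ, (R.card : ℝ) := by rw [Finset.sum_const, nsmul_eq_mul]
      _ ≤ ∑ χ ∈ Aᶜ, ∑ z ∈ R, ‖(χ : X → ℂ) (v ^ e z)‖ ^ 2 := Finset.sum_le_sum fun χ _ => hlow χ
      _ = ∑ z ∈ R, ((C : ℝ) - Nat.card G) := by
          rw [Finset.sum_comm]
          refine Finset.sum_congr rfl fun z hzR => ?_
          rw [← hA1 z, ← hcol z hzR, ← Finset.sum_compl_add_sum A]
          ring
      _ = _ := by rw [Finset.sum_const, nsmul_eq_mul]
  have hR : (0 : ℝ) < R.card := by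
    exact_mod_cast Finset.card_pos.2 ⟨_, (mem_primitiveRoots (NeZero.pos N)).2 hz⟩
  have h2 : (Aᶜ.card : ℝ) ≤ (C : ℝ) - Nat.card G :=
    le_of_mul_le_mul_left (by rwa [mul_comm (Aᶜ.card : ℝ)] at h1) hR
  have h3 : Aᶜ.card + Nat.card (ConjClasses G) = Nat.card (ConjClasses X) := by
    rw [← Cfsg.Agent.Char.card_irr_eq_card_conjClasses, ← Cfsg.Agent.Char.card_irr_eq_card_conjClasses,
      Nat.card_eq_fintype_card, Nat.card_eq_fintype_card,
      show Fintype.card (Cfsg.IrrCharacter G) = A.card by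
        rw [hA, Finset.card_image_of_injective _ hinfl, Finset.card_univ],
      Finset.card_compl_add_card]
  rw [← hC]
  have h4 : Aᶜ.card + Nat.card G ≤ C := by
    have : ((Aᶜ.card + Nat.card G : ℕ) : ℝ) ≤ (C : ℝ) := by push_cast; linarith
    exact_mod_cast this
  omega

end Cfsg.Agent.S4955
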