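import Cfsg.Statements.S4956
import Cfsg.Agent.EqLemmas

set_option autoImplicit false
open Cfsg

namespace Cfsg.Agent.S4956

section
variable {X : Type*} [Group X]

lemma eq_of_mul_eq_mul {V G : Subgroup X} (hGV : Subgroup.IsComplement' V G) {g g' u u' : X}
    (hg : g ∈ G) (hg' : g' ∈ G) (hu : u ∈ V) (hu' : u' ∈ V) (h : g * u = g' * u') :
    g = g' ∧ u = u' := by
  have e : g'⁻¹ * g = u' * u⁻¹ := by
    rw [inv_mul_eq_iff_eq_mul, ← mul_assoc, ← h, mul_inv_cancel_right]
  have h1 : g'⁻¹ * g ∈ V ⊓ G :=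
    ⟨e ▸ V.mul_mem hu' (V.inv_mem hu), G.mul_mem (G.inv_mem hg') hg⟩
  rw [hGV.disjoint.eq_bot, Subgroup.mem_bot, inv_mul_eq_one] at h1
  exact ⟨h1.symm, mul_left_cancel (a := g) (by rw [h, h1])⟩

variable (V : Subgroup X) [V.Normal] (hab : ∀ a ∈ V, ∀ b ∈ V, a * b = b * a) (g : X)

/-- `t ↦ g⁻¹ t g t⁻¹` on the abelian normal subgroup `V`. -/
def commMap : V →* V where
  toFun t := MulAut.conjNormal g⁻¹ t * t⁻¹
  map_one' := by simp
  map_mul' a b := by
    have c : ∀ x y : V, x * y = y * x := fun x y => Subtype.ext (hab _ x.2 _ y.2)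
    rw [map_mul, mul_inv_rev, c b⁻¹ a⁻¹, mul_assoc, mul_assoc, ← mul_assoc _ a⁻¹ b⁻¹,
      c (MulAut.conjNormal g⁻¹ b) a⁻¹, mul_assoc]

lemma commMap_apply (t : V) : ((commMap V hab g t : V) : X) = g⁻¹ * t * g * (t : X)⁻¹ := by
  simp [commMap]

lemma commMap_eq_one_iff (t : V) : commMap V hab g t = 1 ↔ g * t = (t : X) * g := by
  rw [Subtype.ext_iff, commMap_apply, Subgroup.coe_one, mul_inv_eq_one, mul_assoc,
    inv_mul_eq_iff_eq_mul, eq_comm]

lemma conj_mul_eq (t w : V) : (t : X) * (g * w) * (t : X)⁻¹ = g * ((w : X) * commMap V hab g t) := by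
  have hm : g⁻¹ * t * g ∈ V := by
    simpa using Subgroup.Normal.conj_mem inferInstance (t : X) t.2 g⁻¹
  rw [commMap_apply, ← mul_assoc (w : X), hab _ w.2 _ hm]
  group

lemma commMap_disjoint {n : ℕ} (hn : g ^ n = 1) (hcop : (Nat.card V).Coprime n) (t : V)
    (h : commMap V hab g (commMap V hab g t) = 1) : commMap V hab g t = 1 := by
  set u := commMap V hab g t with hu
  set a : MulAut V := MulAut.conjNormal g⁻¹ with ha
  have h1 : a u = u := mul_inv_eq_one.mp h
  have h2 : a t = u * t := (inv_mul_cancel_right (a t) t).symm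
  have h3 : ∀ k : ℕ, (a ^ k) t = u ^ k * t := by
    intro k
    induction k with
    | zero => simp
    | succ k ih =>
      rw [pow_succ', MulAut.mul_apply, ih, map_mul, map_pow, h1, h2, ← mul_assoc, ← pow_succ]
  have h4 : a ^ n = 1 := by rw [ha, ← map_pow, inv_pow, hn, inv_one, map_one]
  have h5 : u ^ n = 1 := by
    have := h3 n
    rw [h4, MulAut.one_apply] at this
    exact mul_eq_right.mp this.symm
  exact orderOf_eq_one_iff.mp (Nat.eq_one_of_dvd_coprimes hcop
    (orderOf_dvd_natCard u) (orderOf_dvd_of_pow_eq_one h5))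

lemma exists_commute [Finite X] {n : ℕ} (hn : g ^ n = 1) (hcop : (Nat.card V).Coprime n) (w : V) :
    ∃ t : V, commMap V hab g (w * commMap V hab g t) = 1 := by
  set f := commMap V hab g with hf
  have hdisj : Disjoint f.ker f.range := by
    rw [Subgroup.disjoint_def]
    rintro x hx ⟨t, rfl⟩
    exact commMap_disjoint V hab g hn hcop t hx
  have hcard : Nat.card f.ker * Nat.card f.range = Nat.card V := by
    rw [← Subgroup.index_ker, Subgroup.card_mul_index]
  have hc := Subgroup.isComplement'_of_disjoint_and_mul_eq_univ hdisj (by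
    refine Set.eq_univ_of_forall fun x => ?_
    have hinj : Function.Injective (fun z : f.ker × f.range => (z.1 : V) * z.2) :=
      Subgroup.mul_injective_of_disjoint hdisj
    obtain ⟨z, hz⟩ := ((Nat.bijective_iff_injective_and_card _).mpr
      ⟨hinj, by rw [Nat.card_prod, hcard]⟩).2 x
    exact ⟨_, z.1.2, _, z.2.2, hz⟩)
  obtain ⟨⟨⟨k, hk⟩, ⟨r, t, rfl⟩⟩, hkr⟩ := hc.2 w
  refine ⟨t⁻¹, ?_⟩
  simp only at hkr
  rw [map_inv, ← hkr, mul_inv_cancel_right]
  exact hk

end


/-- Let X be a finite group, V an abelian normal subgroup of X (any two elements of V commute) and G a complement to V in X whose order is coprime to that of V. Let S be a set of representatives of the orbits of G on V under conjugation: S lies in V and every element of V is conjugate under G to exactly one member of S. Then the number of conjugacy classes of X equals the sum, over s in S, of the number of conjugacy classes of the centralizer of s in G. -/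
theorem result {X : Type*} [Group X] [Finite X] (V : Subgroup X) [V.Normal] (hab : ∀ a ∈ V, ∀ b ∈ V, a * b = b * a) (G : Subgroup X) (hGV : Subgroup.IsComplement' V G) (hcop : (Nat.card V).Coprime (Nat.card G)) (S : Finset X) (hSV : ∀ s ∈ S, s ∈ V) (hrep : ∀ v ∈ V, ∃! s, s ∈ S ∧ ∃ g ∈ G, g * v * g⁻¹ = s) : Nat.card (ConjClasses X) = ∑ s ∈ S, Nat.card (ConjClasses ↥(G ⊓ Subgroup.centralizer ({s} : Set X))) := by
  classical
  let C : X → Subgroup X := fun s => G ⊓ Subgroup.centralizer ({s} : Set X)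
  have hC : ∀ s a, a ∈ C s ↔ a ∈ G ∧ a * s = s * a := by
    intro s a
    simp [C, Subgroup.mem_inf, Subgroup.mem_centralizer_singleton_iff]
  let Φ : (Σ s : S, ConjClasses (C s)) → ConjClasses X := fun p =>
    Quotient.liftOn p.2 (fun g => ConjClasses.mk ((g : X) * (p.1 : X))) (by
      intro a b hab'
      obtain ⟨⟨c, hc'⟩, hc⟩ := isConj_iff.mp hab'
      have hb : (b : X) = c * a * c⁻¹ := (congrArg Subtype.val hc).symm
      have hcs := ((hC _ _).mp hc').2
      refine ConjClasses.mk_eq_mk_iff_isConj.mpr (isConj_iff.mpr ⟨c, ?_⟩)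
      rw [hb, mul_assoc (c * (a : X)), inv_mul_eq_of_eq_mul
        (show (p.1 : X) = c * ((p.1 : X) * c⁻¹) by rw [← mul_assoc, hcs, mul_inv_cancel_right])]
      group)
  have hbij : Function.Bijective Φ := by
    constructor
    · rintro ⟨⟨s, hs⟩, c⟩ ⟨⟨s', hs'⟩, c'⟩ h
      obtain ⟨⟨a, ha⟩, rfl⟩ := Quotient.exists_rep c
      obtain ⟨⟨a', ha'⟩, rfl⟩ := Quotient.exists_rep c'
      obtain ⟨x, hx⟩ := isConj_iff.mp (ConjClasses.mk_eq_mk_iff_isConj.mp h)
      simp only at hx
      obtain ⟨⟨⟨t, ht⟩, ⟨k, hk⟩⟩, rfl⟩ := hGV.2 x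
      rw [hC] at ha ha'
      simp only at hx
      have hk1 : k * a * k⁻¹ ∈ G := G.mul_mem (G.mul_mem hk ha.1) (G.inv_mem hk)
      have hu1 : k * s * k⁻¹ ∈ V := Subgroup.Normal.conj_mem inferInstance _ (hSV s hs) _
      have e : t * ((k * a * k⁻¹) * (k * s * k⁻¹)) * t⁻¹ = a' * s' := by
        rw [← hx]; group
      have e1 := conj_mul_eq V hab (k * a * k⁻¹) ⟨t, ht⟩ ⟨_, hu1⟩
      simp only at e1
      rw [e1] at e
      obtain ⟨eg, eu⟩ := eq_of_mul_eq_mul hGV hk1 ha'.1
        (V.mul_mem hu1 (SetLike.coe_mem _)) (hSV s' hs') e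
      set f := commMap V hab (k * a * k⁻¹) with hf
      have hus : f ⟨_, hu1⟩ = 1 := by
        rw [hf, commMap_eq_one_iff]
        calc k * a * k⁻¹ * (k * s * k⁻¹) = k * (a * s) * k⁻¹ := by group
          _ = k * s * k⁻¹ * (k * a * k⁻¹) := by rw [ha.2]; group
      have hss : f ⟨s', hSV s' hs'⟩ = 1 := by
        rw [hf, commMap_eq_one_iff, eg]; exact ha'.2
      have hff : f (f ⟨t, ht⟩) = 1 := by
        have e2 : (⟨s', hSV s' hs'⟩ : V) = ⟨_, hu1⟩ * f ⟨t, ht⟩ := Subtype.ext eu.symm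
        rw [e2, map_mul, hus, one_mul] at hss
        exact hss
      have hn : (k * a * k⁻¹) ^ Nat.card G = 1 :=
        congrArg Subtype.val (pow_card_eq_one' (x := (⟨_, hk1⟩ : G)))
      have hft : f ⟨t, ht⟩ = 1 :=
        commMap_disjoint V hab (k * a * k⁻¹) hn hcop ⟨t, ht⟩ hff
      rw [hft, Subgroup.coe_one, mul_one] at eu
      have hse : s = s' :=
        (hrep s (hSV s hs)).unique ⟨hs, 1, G.one_mem, by group⟩ ⟨hs', k, hk, eu⟩
      subst hse
      have hks : k * s = s * k := mul_inv_eq_iff_eq_mul.mp eu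
      have : (Quotient.mk (IsConj.setoid (C s)) ⟨a, (hC _ _).mpr ha⟩) =
          Quotient.mk (IsConj.setoid (C s)) ⟨a', (hC _ _).mpr ha'⟩ :=
        Quotient.sound (isConj_iff.mpr ⟨⟨k, (hC _ _).mpr ⟨hk, hks⟩⟩, Subtype.ext eg⟩)
      exact Sigma.ext rfl (heq_of_eq this)
    · intro c
      obtain ⟨x, rfl⟩ := ConjClasses.exists_rep c
      obtain ⟨⟨⟨v, hv⟩, ⟨g, hg⟩⟩, rfl⟩ := hGV.2 x
      have hn : g ^ Nat.card G = 1 :=
        congrArg Subtype.val (pow_card_eq_one' (x := (⟨g, hg⟩ : G)))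
      have hw : g⁻¹ * v * g ∈ V := by
        simpa using Subgroup.Normal.conj_mem inferInstance v hv g⁻¹
      obtain ⟨t, ht⟩ := exists_commute V hab g hn hcop ⟨_, hw⟩
      set u : V := ⟨_, hw⟩ * commMap V hab g t with hu
      obtain ⟨s, ⟨hs, k, hk, hks⟩, -⟩ := hrep (u : X) u.2
      have hgu := (commMap_eq_one_iff V hab g u).mp ht
      have hmem : k * g * k⁻¹ ∈ C s := by
        refine (hC _ _).mpr ⟨G.mul_mem (G.mul_mem hk hg) (G.inv_mem hk), ?_⟩
        rw [← hks]
        calc k * g * k⁻¹ * (k * u * k⁻¹) = k * (g * u) * k⁻¹ := by group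
          _ = k * u * k⁻¹ * (k * g * k⁻¹) := by rw [hgu]; group
      refine ⟨⟨⟨s, hs⟩, ConjClasses.mk ⟨_, hmem⟩⟩, ?_⟩
      refine ConjClasses.mk_eq_mk_iff_isConj.mpr (IsConj.symm (isConj_iff.mpr ⟨k * t, ?_⟩))
      have e1 := conj_mul_eq V hab g t ⟨_, hw⟩
      simp only at e1 ⊢
      have e2 : g * (g⁻¹ * v * g) = v * g := by group
      rw [e2] at e1
      calc k * t * (v * g) * (k * (t : X))⁻¹ = k * ((t : X) * (v * g) * (t : X)⁻¹) * k⁻¹ := by group
        _ = k * (g * (u : X)) * k⁻¹ := by rw [e1, hu, Subgroup.coe_mul]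
        _ = k * g * k⁻¹ * (k * u * k⁻¹) := by group
        _ = k * g * k⁻¹ * s := by rw [hks]
  rw [← Nat.card_eq_of_bijective Φ hbij, Nat.card_sigma]
  exact Finset.sum_coe_sort S fun s => Nat.card (ConjClasses (C s))

end Cfsg.Agent.S4956
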