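import Cfsg.Statements.S4959
import Cfsg.Agent.Lib.KGV.Real

set_option autoImplicit false
open Cfsg

namespace Cfsg.Agent.S4959

/-- Let X be a finite group and V a normal subgroup of X in which every element has order dividing the prime p, whose index in X is prime to p and which is its own centralizer in X; so V is an elementary abelian normal Sylow p-subgroup, and any complement G to V in X is a group of order prime to p acting faithfully on the vector space V by conjugation (the coprime linear setting of the k(GV) problem). Let G be a complement to V in X, let v be in V and let H be the centralizer of v in G. Suppose there is a subgroup U of V normalized by H, on which H acts faithfully, and carrying an H-invariant bi-additive pairing β with values in the integers modulo p that is nondegenerate on U (equivalently: the restriction of the module V to H has a faithful self-dual submodule; such a v is called a real vector for G). Then the number of conjugacy classes of X is at most the order of V (the real-vector criterion for the k(GV) problem). The pairing is given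 as a function on X whose relevant values are those on pairs from U. -/
theorem result {X : Type*} [Group X] [Finite X] (p : ℕ) [Fact p.Prime] (V : Subgroup X) [V.Normal] (hVexp : ∀ v ∈ V, v ^ p = 1) (hidx : ¬ p ∣ V.index) (hself : Subgroup.centralizer (V : Set X) = V) (G : Subgroup X) (hGV : Subgroup.IsComplement' V G) (v : X) (hv : v ∈ V) (U : Subgroup X) (hUV : U ≤ V) (hUinv : ∀ h ∈ G, h * v * h⁻¹ = v → ∀ u ∈ U, h * u * h⁻¹ ∈ U) (hUfaith : ∀ h ∈ G, h * v * h⁻¹ = v → (∀ u ∈ U, h * u * h⁻¹ = u) → h = 1) (β : X → X → ZMod p) (hβl : ∀ u ∈ U, ∀ u' ∈ U, ∀ w ∈ U, β (u * u') w = β u w + β u' w) (hβr : ∀ u ∈ U, ∀ w ∈ U, ∀ w' ∈ U, β u (w * w') = β u w + β u w') (hβinv : ∀ h ∈ G, h * v * h⁻¹ = v → ∀ u ∈ U, ∀ w ∈ U, β (h * u * h⁻¹) (h * w * h⁻¹) = β u w) (hβnd : ∀ u ∈ U, (∀ w ∈ U, β u w = 0) → u = 1) : Nat.card (ConjClasses X) ≤ Nat.card V := by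
  classical
  have hp : p.Prime := Fact.out
  have habV : ∀ a ∈ V, ∀ b ∈ V, Commute a b := fun a ha b hb =>
    ((Subgroup.mem_centralizer_iff.mp (hself.symm ▸ ha : a ∈ Subgroup.centralizer (V : Set X))) b hb).symm
  set H := G ⊓ Subgroup.centralizer ({v} : Set X) with hH
  haveI := Fintype.ofFinite H
  have hGcard : Nat.card G = V.index := hGV.symm.index_eq_card.symm
  have hcop : ¬ p ∣ Nat.card H := fun hd => hidx (hGcard ▸ hd.trans
    (Subgroup.card_dvd_of_le inf_le_left))
  have hfix : ∀ h ∈ H, h * v * h⁻¹ = v := fun h hh => by
    rw [Subgroup.mem_centralizer_singleton_iff.mp hh.2, mul_inv_cancel_right]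
  obtain ⟨θ, hθ⟩ := KGV.exists_good_selfdual (H := H) U (fun u hu => hVexp u (hUV hu))
    (fun a ha b hb => habV a (hUV ha) b (hUV hb)) hcop (fun h hh => hUinv h hh.1 (hfix h hh)) β hβl hβr
    (fun h hh => hβinv h hh.1 (hfix h hh)) hβnd
  refine KGV.card_conjClasses_le hVexp hidx habV hGV hv hH hUV hθ fun h hh hc =>
    hUfaith h hh.1 (hfix h hh) fun u hu => ?_
  rw [(hc u hu).eq, mul_inv_cancel_right]

end Cfsg.Agent.S4959
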