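import Cfsg.Statements.S4967
import Cfsg.Agent.EqLemmas

set_option autoImplicit false
open Cfsg

namespace Cfsg.Agent.S4967

/-- Let F be a finite field with r elements and of characteristic p, H a finite abelian group of order prime to p, and V a faithful irreducible representation of H over F of dimension n (faithful: distinct elements act differently; irreducible: the only H-invariant subspaces are 0 and V). Call V self-dual when it carries a nondegenerate H-invariant bilinear form. If n = 1 and V is self-dual then H has order at most 2. If n ≥ 2 then V is self-dual if and only if n is even and the order of H divides r^(n/2) + 1. -/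
theorem result {F : Type*} [Field F] [Fintype F] (p : ℕ) [Fact p.Prime] [CharP F p] {H : Type*} [CommGroup H] [Finite H] (hcop : ¬ p ∣ Nat.card H) {V : Type*} [AddCommGroup V] [Module F V] [FiniteDimensional F V] (ρ : Representation F H V) (hfaith : Function.Injective ρ) (hirr : ∀ U : Submodule F V, (∀ h : H, ∀ u ∈ U, ρ h u ∈ U) → U = ⊥ ∨ U = ⊤) : (Module.finrank F V = 1 → (∃ B : LinearMap.BilinForm F V, B.Nondegenerate ∧ ∀ h : H, ∀ x y : V, B (ρ h x) (ρ h y) = B x y) → Nat.card H ≤ 2) ∧ (2 ≤ Module.finrank F V → ((∃ B : LinearMap.BilinForm F V, B.Nondegenerate ∧ ∀ h : H, ∀ x y : V, B (ρ h x) (ρ h y) = B x y) ↔ (Even (Module.finrank F V) ∧ Nat.card H ∣ Fintype.card F ^ (Module.finrank F V / 2) + 1))) := by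
  classical
  haveI := Fintype.ofFinite H
  have hcomm : ∀ a ∈ Set.range ρ, ∀ b ∈ Set.range ρ, a * b = b * a := by
    rintro _ ⟨a, rfl⟩ _ ⟨b, rfl⟩
    rw [← map_mul, ← map_mul, mul_comm]
  let K : Subalgebra F (Module.End F V) := Algebra.adjoin F (Set.range ρ)
  haveI hKc : IsMulCommutative K := Algebra.isMulCommutative_adjoin F hcomm
  letI : CommRing K := { (inferInstance : Ring K) with mul_comm := fun a b => hKc.is_comm.comm a b }
  let g : H → K := fun h => ⟨ρ h, Algebra.subset_adjoin ⟨h, rfl⟩⟩
  have hgmul : ∀ a b : H, g (a * b) = g a * g b := fun a b => Subtype.ext (map_mul ρ a b)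
  have hgone : g 1 = 1 := Subtype.ext (map_one ρ)
  have hker : ∀ (a : K) (v : V), (a : Module.End F V) v = 0 → v ≠ 0 → a = 0 := by
    intro a v hav hv
    rcases hirr (LinearMap.ker (a : Module.End F V)) (fun h u hu => by
      rw [LinearMap.mem_ker] at hu ⊢
      have hc := congrArg (fun t : K => (t : Module.End F V) u) (mul_comm a (g h))
      simp only [Subalgebra.coe_mul, Module.End.mul_apply, g] at hc
      rw [hc, hu, map_zero]) with e | e
    · exact absurd ((Submodule.mem_bot F).1 (e ▸ LinearMap.mem_ker.2 hav)) hv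
    · exact Subtype.ext (LinearMap.ext fun u => LinearMap.mem_ker.1 (e ▸ Submodule.mem_top))
  have hone : ∀ (B : LinearMap.BilinForm F V), (∀ h : H, ∀ x y : V, B (ρ h x) (ρ h y) = B x y) →
      B.Nondegenerate → Module.finrank F V = 1 → Nat.card H ≤ 2 := by
    intro B hBi hBn h1
    haveI : Nontrivial V := Module.nontrivial_of_finrank_eq_succ (n := 0) h1
    obtain ⟨v, hv⟩ := exists_ne (0 : V)
    choose c hc using fun h : H => exists_smul_eq_of_finrank_eq_one h1 hv (ρ h v)
    have hsq : ∀ h, c h = 1 ∨ c h = -1 := by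
      intro h
      have hvv : B v v ≠ 0 := fun h0 => hv (hBn.2 v fun y => by
        obtain ⟨a, rfl⟩ := exists_smul_eq_of_finrank_eq_one h1 hv y
        simp [h0])
      have h2 := hBi h v v
      rw [← hc h] at h2
      simp only [map_smul, LinearMap.smul_apply, smul_eq_mul] at h2
      exact mul_self_eq_one_iff.1 (mul_right_cancel₀ hvv (by linear_combination h2))
    have hinj : Function.Injective fun h => decide (c h = 1) := by
      intro a b hab
      have hcc : c a = c b := by
        simp only [decide_eq_decide] at hab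
        by_cases ha : c a = 1
        · rw [ha, hab.1 ha]
        · rw [(hsq a).resolve_left ha, (hsq b).resolve_left fun hb => ha (hab.2 hb)]
      refine hfaith (LinearMap.ext fun y => ?_)
      obtain ⟨t, rfl⟩ := exists_smul_eq_of_finrank_eq_one h1 hv y
      rw [map_smul, map_smul, ← hc a, ← hc b, hcc]
    exact (Nat.card_le_card_of_injective _ hinj).trans (by simp)
  refine ⟨fun h1 ⟨B, hBn, hBi⟩ => hone B hBi hBn h1, fun hn2 => ?_⟩
  haveI : Nontrivial V := Module.nontrivial_of_finrank_pos (R := F) (by omega)
  obtain ⟨v, hv⟩ := exists_ne (0 : V)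
  haveI : Nontrivial K := ⟨⟨0, 1, fun h => hv (by
    have := congrArg (fun t : K => (t : Module.End F V) v) h
    simpa using this.symm)⟩⟩
  haveI : NoZeroDivisors K := ⟨fun {a b} hab => by
    by_cases hb : b = 0
    · exact Or.inr hb
    left
    refine hker a ((b : Module.End F V) v) ?_ fun h0 => hb (hker b v h0 hv)
    have := congrArg (fun t : K => (t : Module.End F V) v) hab
    simpa using this⟩
  haveI : IsDomain K := NoZeroDivisors.to_isDomain K
  haveI : Finite (Module.End F V) := Module.finite_of_finite F
  haveI : Finite K := Subtype.finite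
  haveI := Fintype.ofFinite K
  letI : Field K := Fintype.fieldOfDomain K
  let ev : K →ₗ[F] V :=
    { toFun := fun a => (a : Module.End F V) v
      map_add' := fun a b => rfl
      map_smul' := fun c a => rfl }
  have hevi : Function.Injective ev := by
    rw [← LinearMap.ker_eq_bot, eq_bot_iff]
    exact fun a ha => (Submodule.mem_bot F).2 (hker a v (LinearMap.mem_ker.1 ha) hv)
  have hevs : Function.Surjective ev := by
    rw [← LinearMap.range_eq_top]
    refine (hirr _ fun h u hu => ?_).resolve_left fun e => ?_
    · obtain ⟨a, rfl⟩ := hu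
      exact ⟨g h * a, rfl⟩
    · exact hv ((Submodule.mem_bot F).1 (e ▸ ⟨1, rfl⟩))
  let e : K ≃ₗ[F] V := LinearEquiv.ofBijective ev ⟨hevi, hevs⟩
  set n := Module.finrank F V with hn
  have hKn : Module.finrank F K = n := e.finrank_eq
  have hfrob : ∀ (j : ℕ) (x : K), (FiniteField.frobeniusAlgHom F K ^ j) x = x ^ (Fintype.card F ^ j) := by
    intro j x
    rw [AlgHom.coe_pow, FiniteField.coe_frobeniusAlgHom, pow_iterate]
  let gH : H →* K := ⟨⟨g, hgone⟩, hgmul⟩
  have hgi : Function.Injective gH := fun a b h => hfaith (congrArg Subtype.val h)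
  haveI : IsCyclic H := isCyclic_of_subgroup_isDomain gH hgi
  constructor
  · rintro ⟨B, hBn, hBi⟩
    have hadj : ∀ h : H, ∀ x y : V, B (ρ h x) y = B x (ρ h⁻¹ y) := fun h x y => by
      conv_rhs => rw [← hBi h, ← Module.End.mul_apply, ← map_mul, mul_inv_cancel, map_one, Module.End.one_apply]
    have hex : ∀ a : K, ∃ b : K, ∀ x y, B ((a : Module.End F V) x) y = B x ((b : Module.End F V) y) := by
      rintro ⟨a, ha⟩
      induction ha using Algebra.adjoin_induction with
      | mem a ha =>
        obtain ⟨h, rfl⟩ := ha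
        exact ⟨g h⁻¹, hadj h⟩
      | algebraMap c =>
        exact ⟨algebraMap F K c, fun x y => by simp [Module.algebraMap_end_apply]⟩
      | add a b _ _ ha hb =>
        obtain ⟨a', ha'⟩ := ha
        obtain ⟨b', hb'⟩ := hb
        exact ⟨a' + b', fun x y => by simp [ha', hb']⟩
      | mul a b _ _ ha hb =>
        obtain ⟨a', ha'⟩ := ha
        obtain ⟨b', hb'⟩ := hb
        exact ⟨b' * a', fun x y => by simp [ha', hb']⟩
    choose τ hτ using hex
    have huniq : ∀ (a b : K), (∀ x y, B ((a : Module.End F V) x) y = B x ((b : Module.End F V) y)) → τ a = b := by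
      intro a b h
      refine Subtype.ext (LinearMap.ext fun y => sub_eq_zero.1 (hBn.2 _ fun x => ?_))
      rw [map_sub, ← hτ, h, sub_self]
    let T : K →ₐ[F] K :=
      { toFun := τ
        map_one' := huniq _ _ fun x y => by simp
        map_mul' := fun a b => huniq _ _ fun x y => by simp [mul_comm (τ a), hτ]
        map_zero' := huniq _ _ fun x y => by simp
        map_add' := fun a b => huniq _ _ fun x y => by simp [hτ]
        commutes' := fun c => huniq _ _ fun x y => by simp [Module.algebraMap_end_apply] }
    have hTg : ∀ h : H, T (g h) = g h⁻¹ := fun h => huniq _ _ (hadj h)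
    obtain ⟨⟨j, hj⟩, hjT⟩ := (FiniteField.bijective_frobeniusAlgHom_pow F K).2 T
    change FiniteField.frobeniusAlgHom F K ^ j = T at hjT
    rw [hKn] at hj
    have hTT : FiniteField.frobeniusAlgHom F K ^ (j + j) = 1 := by
      rw [pow_add, hjT]
      refine AlgHom.ext fun a => ?_
      obtain ⟨a, ha⟩ := a
      induction ha using Algebra.adjoin_induction with
      | mem a ha =>
        obtain ⟨h, rfl⟩ := ha
        show T (T (g h)) = g h
        rw [hTg, hTg, inv_inv]
      | algebraMap c => exact AlgHom.commutes (T * T) c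
      | add a b ha' hb' ha hb => exact (map_add (T * T) ⟨a, ha'⟩ ⟨b, hb'⟩).trans (by rw [ha, hb]; all_goals rfl)
      | mul a b ha' hb' ha hb => exact (map_mul (T * T) ⟨a, ha'⟩ ⟨b, hb'⟩).trans (by rw [ha, hb]; all_goals rfl)
    have hdvd : n ∣ j + j := by
      rw [← hKn, ← FiniteField.orderOf_frobeniusAlgHom]
      exact orderOf_dvd_of_pow_eq_one hTT
    have hj0 : j ≠ 0 := by
      intro h0
      have hT1 : ∀ a : K, T a = a := fun a => by rw [← hjT, h0, pow_zero, AlgHom.one_apply]
      have htop : ∀ a : K, ∃ c : F, a = algebraMap F K c := by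
        rintro ⟨a, ha⟩
        induction ha using Algebra.adjoin_induction with
        | mem a ha =>
          obtain ⟨h, rfl⟩ := ha
          have h2 : g h * g h = 1 := by
            conv_lhs => arg 2; rw [← hT1 (g h), hTg]
            rw [← hgmul, mul_inv_cancel, hgone]
          rcases mul_self_eq_one_iff.1 h2 with e1 | e1
          · exact ⟨1, by rw [map_one, ← e1]⟩
          · exact ⟨-1, by rw [map_neg, map_one, ← e1]⟩
        | algebraMap c => exact ⟨c, rfl⟩
        | add a b _ _ ha hb =>
          obtain ⟨a', ha'⟩ := ha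
          obtain ⟨b', hb'⟩ := hb
          exact ⟨a' + b', by rw [map_add, ← ha', ← hb']; rfl⟩
        | mul a b _ _ ha hb =>
          obtain ⟨a', ha'⟩ := ha
          obtain ⟨b', hb'⟩ := hb
          exact ⟨a' * b', by rw [map_mul, ← ha', ← hb']; rfl⟩
      have h1 : Module.finrank F V ≤ 1 := by
        refine finrank_le_one v fun w => ?_
        obtain ⟨a, rfl⟩ := hevs w
        obtain ⟨c, rfl⟩ := htop a
        exact ⟨c, by simp [ev, Module.algebraMap_end_apply]⟩
      omega
    have hnj : n = j + j := by
      obtain ⟨q, hq⟩ := hdvd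
      have : q < 2 := by
        by_contra hq2
        have : n * 2 ≤ n * q := Nat.mul_le_mul_left _ (not_lt.1 hq2)
        omega
      interval_cases q <;> omega
    refine ⟨⟨j, hnj⟩, ?_⟩
    rw [show n / 2 = j by omega, ← IsCyclic.exponent_eq_card]
    refine Monoid.exponent_dvd_of_forall_pow_eq_one fun h => hgi ?_
    rw [map_pow, map_one, pow_succ]
    show g h ^ Fintype.card F ^ j * g h = 1
    rw [← hfrob, hjT, hTg, ← hgmul, inv_mul_cancel, hgone]
  · rintro ⟨⟨j, hj⟩, hdvd⟩
    rw [show n / 2 = j by omega] at hdvd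
    let T : K →ₐ[F] K := FiniteField.frobeniusAlgHom F K ^ j
    have hTg : ∀ h : H, g h * T (g h) = 1 := fun h => by
      rw [hfrob, ← pow_succ', show g h ^ (Fintype.card F ^ j + 1) = gH (h ^ (Fintype.card F ^ j + 1)) from
        (map_pow gH h _).symm]
      obtain ⟨t, ht⟩ := hdvd
      rw [ht, pow_mul, pow_card_eq_one', one_pow, map_one]
    have hTs : Function.Surjective T := Finite.surjective_of_injective T.toRingHom.injective
    obtain ⟨f, hf⟩ : ∃ f : Module.Dual F K, f 1 ≠ 0 := by
      by_contra hh
      push Not at hh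
      exact one_ne_zero ((Module.forall_dual_apply_eq_zero_iff F (1 : K)).1 hh)
    let B : LinearMap.BilinForm F V :=
      ((LinearMap.mul F K).compl₁₂ e.symm.toLinearMap (T.toLinearMap.comp e.symm.toLinearMap)).compr₂ f
    have hB : ∀ x y, B x y = f (e.symm x * T (e.symm y)) := fun _ _ => rfl
    refine ⟨B, ⟨fun x hx => ?_, fun y hy => ?_⟩, fun h x y => ?_⟩
    · by_contra h0
      have ha : e.symm x ≠ 0 := fun he => h0 (e.symm.map_eq_zero_iff.1 he)
      obtain ⟨b, hb⟩ := hTs (e.symm x)⁻¹
      have := hx (e b)
      rw [hB, e.symm_apply_apply, hb, mul_inv_cancel₀ ha] at this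
      exact hf this
    · by_contra h0
      have ha : T (e.symm y) ≠ 0 := fun he => h0 (e.symm.map_eq_zero_iff.1
        (T.toRingHom.injective (he.trans (map_zero T).symm)))
      have := hy (e (T (e.symm y))⁻¹)
      rw [hB, e.symm_apply_apply, inv_mul_cancel₀ ha] at this
      exact hf this
    · have hact : ∀ z, e.symm (ρ h z) = g h * e.symm z := fun z => by
        rw [e.symm_apply_eq]
        show ρ h z = ρ h ((e.symm z : K).1 v)
        exact congrArg (ρ h) (e.apply_symm_apply z).symm
      rw [hB, hB, hact, hact, map_mul T, mul_mul_mul_comm, hTg, one_mul]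

end Cfsg.Agent.S4967
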