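import Cfsg.Statements.S5252
import Cfsg.Agent.Lib.FusionTransfer.Functor
import Cfsg.Agent.S1984
import Cfsg.Agent.S1971
import Cfsg.Agent.Lib.Cores.Basic
-- import your own Cfsg.Agent.* helpers here

set_option autoImplicit false
open Cfsg

namespace Cfsg.Agent.S5252
open Cfsg.FusionSystem Cfsg.Agent.Fusion

universe v

variable {p : ℕ}

/-- `K_∞` satisfies the local focal condition. -/
theorem kInf_local [Fact p.Prime] (hp : 5 ≤ p) (G : Type v) [Group G] [Finite G] (P : Sylow p G)
    (x : G) (hx : x ∈ (P : Subgroup G)) (hxc : x ∈ commutator G) :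
    x ∈ ⁅Subgroup.normalizer ((inducedFunctor kInfLower (P : Subgroup G) : Subgroup G) : Set G),
      Subgroup.normalizer ((inducedFunctor kInfLower (P : Subgroup G) : Subgroup G) : Set G)⁆ := by
  have hW := KInfinity.isCharPFunctor_kInfLower.{v} p
  have h := FunctorControl.controlsTransfer_at_top (𝓦 := ({fun Q inst => @kInfLower Q inst} : Set (∀ (Q : Type v) [Group Q], Subgroup Q)))
    (fun W' h' => (Set.mem_singleton_iff.1 h') ▸ hW) P (by
      rw [Set.image_singleton]
      exact AlperinFamily.controlsTransferIn_iff_family.1 (S1984.result hp))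
  have h2 := h.le (Subgroup.mem_inf.mpr ⟨hx, hxc⟩)
  simp only [FunctorControl.focalF, Set.mem_singleton_iff, iSup_iSup_eq_left] at h2
  exact (Subgroup.mem_inf.1 h2).2


/-- Let p ≥ 5 be a prime and F a saturated fusion system over a nontrivial finite p-group S such that Aut_F(S) is a p-group. Then the focal subgroup of F is a proper subgroup of S. -/
theorem result {Ω : Type*} [Group Ω] {S : Subgroup Ω} [Finite S] (p : ℕ) [Fact p.Prime] (hS : IsPGroup p S) (F : Cfsg.FusionSystem S) (hF : F.IsSaturated p) (hp : 5 ≤ p) (hS1 : S ≠ ⊥) (haut : IsPGroup p ↥(F.autGroup S)) : F.focalSubgroup < S := by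
  set W : ∀ (Q : Type _) [Group Q], Subgroup Q := fun Q _ => kInfLower Q
  have hW := KInfinity.isCharPFunctor_kInfLower p
  set w := inducedFunctor W S with hwdef
  have hwle : w ≤ S := FusionTransfer.func_le W S
  obtain ⟨hwN, hwfn⟩ := FusionTransfer.func_fullyNormalized (F := F) hS hW
  obtain ⟨N, hN⟩ := exists_normalizerSystem (F := F) hwle
  have hle : F.focalSubgroup ≤ N.focalSubgroup :=
    FusionTransfer.focal_le_normalizer W hW (fun G _ _ P _ x hx hxc =>
      kInf_local hp G P x ((Cfsg.Agent.Cores.pCore_le_sylow P) hx) hxc) hS F hF N hN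
  refine lt_of_le_of_ne FusionChain.focalSubgroup_le fun hfoc => ?_
  have hCw : centralizerIn S w ≤ w := by
    intro c hc
    haveI := hS.isNilpotent
    have h1 : (⟨c, hc.1⟩ : S) ∈ Subgroup.centralizer (kInfLower ↥S : Set ↥S) :=
      Subgroup.mem_centralizer_iff.2 fun y hy => Subtype.ext
        (Subgroup.mem_centralizer_iff.1 hc.2 _ ⟨y, hy, rfl⟩)
    exact ⟨_, KInfinity.centralizer_kInfLower_le h1, rfl⟩
  have hcen : F.IsCentric w := centric_of_fullyCentralized
    (fullyCentralized_of_fullyNormalized hS hF hwfn) hCw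
  have h : NC N p w := nc_normalizer hS hF hwfn hcen hN
  have hm := h.isModel_emb
  obtain ⟨hLfin, hι, ⟨T, hTr⟩, hLc⟩ := id hm
  haveI := hLfin
  set ι := h.emb
  have hTne : (T : Subgroup h.Mdl) ≠ ⊥ := by
    rw [hTr]
    intro hb
    apply hS1
    refine le_bot_iff.1 fun x hx => ?_
    have h1 : ι ⟨x, hwN.ge hx⟩ ∈ ι.range := ⟨_, rfl⟩
    rw [hb, Subgroup.mem_bot, ← map_one ι] at h1
    exact Subgroup.mem_bot.2 (congrArg Subtype.val (hι.1 h1))
  -- the `p'`-elements normalizing the Sylow subgroup centralize it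
  have hcent : ∀ g ∈ Subgroup.normalizer ((T : Subgroup h.Mdl) : Set h.Mdl),
      (orderOf g).Coprime p → g ∈ Subgroup.centralizer ((T : Subgroup h.Mdl) : Set h.Mdl) := by
    intro g hg hco
    rw [hTr] at hg ⊢
    let e := MonoidHom.ofInjective hι.1
    let A : Subgroup.normalizer (ι.range : Set h.Mdl) →* MulAut S :=
      (MulAut.congr (e.symm.trans (MulEquiv.subgroupCongr hwN))).toMonoidHom.comp
        (Subgroup.normalizerMonoidHom ι.range)
    have hA : ∀ (u : S), ι ⟨(A ⟨g, hg⟩ u : S), hwN.ge (Subtype.mem _)⟩ =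
        g * ι ⟨u, hwN.ge u.2⟩ * g⁻¹ := by
      intro u
      exact (congrArg Subtype.val (e.apply_symm_apply _)).trans rfl
    have hmem : A ⟨g, hg⟩ ∈ F.autGroup S := by
      refine (mem_autGroup_iff le_rfl).2 ?_
      obtain ⟨f, hf, hfe⟩ := conj_map hι (P := S) (hwN.ge) g fun x hx => by
        exact (Subgroup.mem_normalizer_iff.1 hg _).1 ⟨_, rfl⟩
      refine (isMap_sub (sub_normalizer hN) hf).congr fun x hx => ?_
      obtain ⟨hfx, e1⟩ := hfe x hx
      rw [autFn_apply _ hx]
      exact congrArg Subtype.val (hι.1 (e1.trans (hA ⟨x, hx⟩).symm))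
    obtain ⟨k, hk⟩ := (IsPGroup.iff_orderOf.1 haut) ⟨_, hmem⟩
    rw [Subgroup.orderOf_mk] at hk
    have hd : orderOf (A ⟨g, hg⟩) ∣ orderOf g :=
      (orderOf_map_dvd A ⟨g, hg⟩).trans (by rw [Subgroup.orderOf_mk])
    have h1 : A ⟨g, hg⟩ = 1 := orderOf_eq_one_iff.1
      (Nat.eq_one_of_dvd_coprimes (hco.pow_right k) hd (hk ▸ dvd_rfl))
    refine Subgroup.mem_centralizer_iff.2 fun t ht => ?_
    obtain ⟨u, rfl⟩ := ht
    have h2 := hA ⟨u, hwN.le u.2⟩
    rw [h1] at h2
    have h3 : ι u * g = g * ι u := by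
      have : ι u = g * ι u * g⁻¹ := h2
      calc ι u * g = g * ι u * g⁻¹ * g := by rw [← this]
        _ = g * ι u := inv_mul_cancel_right _ _
    exact h3
  obtain ⟨M, hMn, hMi⟩ := S1971.result (fun Q _ => kInfLower Q) hW
    (fun K R _ => S1984.result hp) T hTne hcent
  have hfocN : N.focalSubgroup ≤ (M.comap ι).map (normalizerIn S w).subtype := by
    refine (Subgroup.closure_le _).2 ?_
    rintro _ ⟨P, φ, y, hφ, rfl⟩
    have hP := (N.le_of_mem hφ).1
    have hφS := (N.le_of_mem hφ).2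
    obtain ⟨g, hg⟩ := (hι.2 P hP φ hφS).1 hφ
    refine ⟨⟨(y : Ω), hP y.2⟩⁻¹ * ⟨φ y, hφS y⟩, ?_, rfl⟩
    show ι _ ∈ M
    haveI : Fact (Nat.card (h.Mdl ⧸ M)).Prime := ⟨by rw [← Subgroup.index_eq_card, hMi]; exact Fact.out⟩
    haveI : IsCyclic (h.Mdl ⧸ M) := isCyclic_of_prime_card (p := p) (by rw [← Subgroup.index_eq_card, hMi])
    have hc : commutator h.Mdl ≤ M :=
      Subgroup.Normal.quotient_commutative_iff_commutator_le.mp inferInstance
    refine hc ?_
    rw [map_mul, map_inv, hg y]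
    have := Subgroup.commutator_mem_commutator (Subgroup.mem_top ((ι ⟨(y : Ω), hP y.2⟩)⁻¹))
      (Subgroup.mem_top g)
    rw [← commutator_def] at this
    simpa [commutatorElement_def, mul_assoc] using this
  -- the Sylow subgroup is not inside `M`
  have hTM : (T : Subgroup h.Mdl) ≤ M := by
    rw [hTr]
    rintro _ ⟨u, rfl⟩
    obtain ⟨v, hv, hve⟩ := hfocN (hle (hfoc.ge (hwN.le u.2)))
    rwa [show v = u from Subtype.ext hve] at hv
  have hd := Subgroup.index_dvd_of_le hTM
  rw [hMi] at hd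
  exact T.not_dvd_index hd

end Cfsg.Agent.S5252
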