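import Cfsg.Statements.S4978
import Cfsg.Agent.Lib.Star.HeightZeroCount
import Cfsg.Agent.Lib.Star.Nilpotent
import Cfsg.Agent.Lib.BrauerPairs.Saturation
import Cfsg.Agent.Lib.Blocks.Defect
import Cfsg.Agent.S5252

set_option autoImplicit false
open Cfsg

namespace Cfsg.Agent.S4978

/-- Let p be a prime and B a p-block of the finite group G (relative to a maximal ideal M of the algebraic integers containing p) with a nontrivial defect group D whose automorphism group is a p-group (for a p-group D this is the same as its outer automorphism group being a p-group). Then the number of irreducible characters of height zero in B is divisible by p; if p > 3 this number is at least 2p, and if moreover p ≡ 3 (mod 4) it is at least 3p. -/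
theorem result {G : Type*} [Group G] [Finite G] (p : ℕ) [Fact p.Prime] (M : Ideal Cfsg.AlgInt) (hM : Cfsg.IsPModular p M) (B : Set (Cfsg.IrrCharacter G)) (hB : Cfsg.IsPBlock M B) (D : Subgroup G) (hD : Cfsg.IsDefectGroup p M B D) (hD1 : D ≠ ⊥) (hAut : IsPGroup p (MulAut ↥D)) : p ∣ Nat.card {χ : Cfsg.IrrCharacter G // χ ∈ B ∧ Cfsg.blockHeight p B (χ : G → ℂ) = 0} ∧ (3 < p → 2 * p ≤ Nat.card {χ : Cfsg.IrrCharacter G // χ ∈ B ∧ Cfsg.blockHeight p B (χ : G → ℂ) = 0}) ∧ (3 < p → p % 4 = 3 → 3 * p ≤ Nat.card {χ : Cfsg.IrrCharacter G // χ ∈ B ∧ Cfsg.blockHeight p B (χ : G → ℂ) = 0}) := by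
  classical
  open Cfsg.Agent in
  haveI := Fintype.ofFinite G
  haveI : Fintype (Star.HZero p B) := Fintype.ofFinite _
  have hp : p.Prime := Fact.out
  obtain ⟨f, hunit, hreg, hdvd⟩ := Star.exists_contribution_row hM hB
  have hcard := Blocks.card_defectGroup hM hB hD
  have hd1 : 1 ≤ blockDefect p B := by
    by_contra h
    rw [show blockDefect p B = 0 by omega, pow_zero, Subgroup.card_eq_one] at hcard
    exact hD1 hcard
  by_cases hp5 : 5 ≤ p
  · obtain ⟨e, hmax⟩ := Star.exists_maximal_of_defectGroup hM hB hD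
    have hd2 : 2 ≤ blockDefect p B := by
      by_contra h
      rw [show blockDefect p B = 1 by omega, pow_one] at hcard
      haveI : IsCyclic ↥D := isCyclic_of_prime_card hcard
      let _ : CommGroup ↥D := IsCyclic.commGroup
      obtain ⟨k, hk⟩ := hAut (MulEquiv.inv ↥D)
      have h2 : (MulEquiv.inv ↥D : MulAut ↥D) ^ 2 = 1 := MulEquiv.ext fun x => inv_inv x
      have h3 : (MulEquiv.inv ↥D : MulAut ↥D) = 1 := by
        have hc : Nat.Coprime 2 (p ^ k) :=
          ((Nat.coprime_primes Nat.prime_two hp).2 (by omega)).pow_right k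
        have h4 := pow_gcd_eq_one.2 ⟨h2, hk⟩
        rwa [hc, pow_one] at h4
      haveI : Nontrivial ↥D := Finite.one_lt_card_iff_nontrivial.1 (hcard ▸ hp.one_lt)
      obtain ⟨x, hx⟩ := exists_ne (1 : ↥D)
      have h5 : x ^ 2 = 1 := by
        rw [sq]
        nth_rw 1 [← show x⁻¹ = x from MulEquiv.congr_fun h3 x]
        exact inv_mul_cancel x
      have h6 : orderOf x ∣ Nat.gcd 2 p :=
        Nat.dvd_gcd (orderOf_dvd_of_pow_eq_one h5) (hcard ▸ orderOf_dvd_natCard x)
      rw [(Nat.coprime_primes Nat.prime_two hp).2 (by omega), Nat.dvd_one, orderOf_eq_one_iff] at h6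
      exact hx h6
    have hF := BrauerPairs.isBlockFusionSystemOn_blockFusion hM hmax
    have hfoc := S5252.result p hmax.1.1.1 _ (BrauerPairs.isSaturated_blockFusion hM hF) hp5 hD1
      (hAut.to_subgroup _)
    obtain ⟨h1, h2, h3⟩ := Star.exists_free_orbits hM hmax hF hfoc f hreg hunit (hdvd 2 le_rfl hd2)
    exact ⟨h1, fun _ => h2, fun _ => h3⟩
  · have h23 : p = 2 ∨ p = 3 := by
      have := hp.two_le
      rcases eq_or_ne p 4 with rfl | h4
      · exact absurd hp (by decide)
      · omega
    refine ⟨Star.dvd_of_small h23 hunit (by simpa using hdvd 1 (by omega) hd1),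
      fun h => absurd h (by omega), fun h => absurd h (by omega)⟩

end Cfsg.Agent.S4978
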