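import Cfsg.Statements.S4989
import Cfsg.Agent.Lib.GaloisAvg.Basic

set_option autoImplicit false
open Cfsg

namespace Cfsg.Agent.S4989

open Cfsg.Agent.GaloisAvg

lemma sum_norm_sq {G : Type*} [Group G] [Fintype G] (χ : Cfsg.IrrCharacter G) :
    ∑ g : G, ‖(χ : G → ℂ) g‖ ^ 2 = (Nat.card G : ℝ) := by
  classical
  obtain ⟨n, ρ, hirr, hχ⟩ := χ.2
  have : Invertible (Nat.card G : ℂ) := invertibleOfNonzero (Nat.cast_ne_zero.mpr Nat.card_pos.ne')
  have h := Representation.char_orthonormal ρ ρ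
  rw [if_pos ⟨Representation.Equiv.refl ρ⟩, inv_mul_eq_one₀
    (Nat.cast_ne_zero.mpr Nat.card_pos.ne'), hχ] at h
  have h2 : ∀ g : G, (χ : G → ℂ) g * (χ : G → ℂ) g⁻¹ = ((‖(χ : G → ℂ) g‖ ^ 2 : ℝ) : ℂ) := by
    intro g
    rw [(cycloValued_irr χ).map_inv, Complex.mul_conj, Complex.normSq_eq_norm_sq]
  rw [Finset.sum_congr rfl fun g _ => h2 g] at h
  exact_mod_cast h.symm

/-- Let H be a subgroup of the finite group G and χ an irreducible complex character of G. Then the inner product of the restriction of χ to H with itself, (1/#H)·Σ_{h ∈ H} |χ(h)|², is at most 1 + #(Z ∖ H)/#H, where Z is the set of zeros of χ in G. -/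
theorem result {G : Type*} [Group G] [Finite G] (H : Subgroup G) (χ : Cfsg.IrrCharacter G) : (Nat.card ↥H : ℝ)⁻¹ * ∑ᶠ h : ↥H, ‖(χ : G → ℂ) h‖ ^ 2 ≤ 1 + (Set.ncard ({x : G | (χ : G → ℂ) x = 0} \ (H : Set G)) : ℝ) / (Nat.card ↥H : ℝ) := by
  classical
  have : Fintype G := Fintype.ofFinite G
  set f : G → ℂ := (χ : G → ℂ) with hfdef
  have hH : (0 : ℝ) < Nat.card H := Nat.cast_pos.mpr Nat.card_pos
  set A := Finset.univ.filter (fun x : G => x ∈ H) with hA
  set B := Finset.univ.filter (fun x : G => x ∉ H) with hB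
  set S := B.filter (fun x => f x ≠ 0) with hSdef
  set Z := B.filter (fun x => ¬ f x ≠ 0) with hZdef
  have htot : (∑ x ∈ A, ‖f x‖ ^ 2) + ∑ x ∈ B, ‖f x‖ ^ 2 = (Nat.card G : ℝ) := by
    rw [hA, hB, Finset.sum_filter_add_sum_filter_not]; exact sum_norm_sq χ
  have hS : (S.card : ℝ) ≤ ∑ x ∈ B, ‖f x‖ ^ 2 := by
    refine (card_le_sum_norm_pow (cycloValued_irr χ) S ?_ (fun g hg => (Finset.mem_filter.mp hg).2)
      2).trans (Finset.sum_le_sum_of_subset_of_nonneg (Finset.filter_subset _ _)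
        fun x _ _ => by positivity)
    intro g hg k hk
    simp only [hSdef, hB, Finset.mem_filter, Finset.mem_univ, true_and] at hg ⊢
    refine ⟨fun h => hg.1 ?_, fun h => hg.2 ((cycloValued_irr χ).eq_zero_of_pow_eq_zero hk h)⟩
    obtain ⟨m, hm⟩ := exists_pow_eq_self_of_coprime
      (hk.coprime_dvd_right (orderOf_dvd_natCard g))
    exact hm ▸ H.pow_mem h m
  have hZ : Set.ncard ({x : G | f x = 0} \ (H : Set G)) = Z.card := by
    rw [← Set.ncard_coe_finset]
    congr 1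
    ext x
    simp [hZdef, hB, and_comm]
  have hcard : (Nat.card G : ℝ) = Nat.card H + S.card + Z.card := by
    have h1 : A.card + B.card = Nat.card G := by
      rw [hA, hB, Finset.card_filter_add_card_filter_not, Finset.card_univ, Nat.card_eq_fintype_card]
    have h2 : S.card + Z.card = B.card := Finset.card_filter_add_card_filter_not _
    have h3 : A.card = Nat.card H := by
      rw [← Nat.card_eq_finsetCard]; exact Nat.card_congr (Equiv.subtypeEquivRight (by simp [hA]))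
    rw [← h1, ← h2, h3]; push_cast; ring
  have hsumH : ∑ᶠ h : H, ‖f h‖ ^ 2 = ∑ x ∈ A, ‖f x‖ ^ 2 := by
    rw [finsum_eq_sum_of_fintype]
    exact (Finset.sum_subtype A (by simp [hA]) (fun x => ‖f x‖ ^ 2)).symm
  rw [hsumH, hZ, inv_mul_le_iff₀ hH, mul_add, mul_one, mul_div_cancel₀ _ hH.ne']
  linarith

end Cfsg.Agent.S4989
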