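import Cfsg.Statements.S4993
import Cfsg.Agent.Lib.PrimChar.MetaTwo
import Cfsg.Agent.Lib.Char.Induced

set_option autoImplicit false
set_option linter.style.haveILetI false
open Cfsg

namespace Cfsg.Agent.S4993

/-- Let G be a group of odd order whose order has exactly two prime divisors and whose quotient by its Fitting subgroup is nilpotent (G is metanilpotent), and let χ be a primitive irreducible complex character of G (not induced from a character of any proper subgroup). Then χ(1) divides the size of some conjugacy class of G. -/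
theorem result {G : Type*} [Group G] [Fintype G] (hodd : Odd (Nat.card G)) (h2 : (Nat.card G).primeFactors.card = 2) [hF : (Cfsg.fittingSubgroup G).Normal] (hmeta : Group.IsNilpotent (G ⧸ Cfsg.fittingSubgroup G)) (χ : Cfsg.IrrCharacter G) (hprim : ¬ ∃ (H : Subgroup G), H ≠ ⊤ ∧ ∃ θ : ↥H → ℂ, Cfsg.IsCharacter ↥H θ ∧ Cfsg.indFun H θ = (χ : G → ℂ)) : ∃ g : G, Cfsg.charDegree (χ : G → ℂ) ∣ (Subgroup.centralizer ({g} : Set G)).index := by
  classical
  obtain ⟨p, q, hpq, hpi⟩ := Finset.card_eq_two.1 h2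
  have hmem : ∀ r ∈ ({p, q} : Finset ℕ), r.Prime ∧ r ∣ Nat.card G := fun r hr =>
    ⟨Nat.prime_of_mem_primeFactors (hpi ▸ hr), Nat.dvd_of_mem_primeFactors (hpi ▸ hr)⟩
  obtain ⟨hp, hpd⟩ := hmem p (Finset.mem_insert_self _ _)
  obtain ⟨hq, hqd⟩ := hmem q (Finset.mem_insert_of_mem (Finset.mem_singleton_self _))
  haveI : Fact p.Prime := ⟨hp⟩
  haveI : Fact q.Prime := ⟨hq⟩
  have hne2 : ∀ r, r ∣ Nat.card G → r ≠ 2 := fun r hr h => by
    rw [h] at hr
    exact (Nat.not_even_iff_odd.2 hodd) (even_iff_two_dvd.2 hr)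
  set K := Codegree.kerSub χ with hK
  haveI : K.Normal := inferInstance
  obtain ⟨ψ, hψ⟩ := Codegree.exists_quot χ K le_rfl
  haveI := Fintype.ofFinite (G ⧸ K)
  have hf : ∀ g, (ψ : G ⧸ K → ℂ) g = (ψ : G ⧸ K → ℂ) 1 → g = 1 := by
    intro g hg
    obtain ⟨x, rfl⟩ := QuotientGroup.mk_surjective g
    rw [← QuotientGroup.mk_one, hψ, hψ] at hg
    exact (QuotientGroup.eq_one_iff x).2 (Codegree.mem_kerSub.2 hg)
  -- primitivity passes to the quotient
  have hQP : PrimChar.IsQP (G ⧸ K) (ψ : G ⧸ K → ℂ) := by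
    intro N _ _ θ hθ hne
    haveI := Fintype.ofFinite (CharApp.inertia N θ)
    obtain ⟨η, hη, hind, -, -⟩ := CharApp.exists_correspondent N hθ ψ.2 hne
    by_contra htop
    set H : Subgroup G := (CharApp.inertia N θ).comap (QuotientGroup.mk' K)
    refine hprim ⟨H, fun h => htop (eq_top_iff.2 fun x _ => ?_),
      fun h : H => η ((QuotientGroup.mk' K).subgroupComap (CharApp.inertia N θ) h),
      Char.IsCharacter.comp_hom (Char.IsIrrCharacter.isCharacter hη)
        ((QuotientGroup.mk' K).subgroupComap (CharApp.inertia N θ)), ?_⟩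
    · obtain ⟨g, rfl⟩ := QuotientGroup.mk'_surjective K x
      exact (h ▸ Subgroup.mem_top g : g ∈ H)
    funext g
    have hext : ∀ x : G, extendByZero H (fun h : H => η ((QuotientGroup.mk' K).subgroupComap (CharApp.inertia N θ) h)) x =
        extendByZero (CharApp.inertia N θ) η (x : G ⧸ K) := by
      intro x
      by_cases hx : (x : G ⧸ K) ∈ (CharApp.inertia N θ)
      · exact (Subtype.val_injective.extend_apply _ _ (⟨x, hx⟩ : H)).trans
          (Subtype.val_injective.extend_apply η 0
            (⟨(x : G ⧸ K), hx⟩ : (CharApp.inertia N θ : Subgroup (G ⧸ K)))).symm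
      · unfold extendByZero
        rw [Function.extend_apply' _ _ _ (by rintro ⟨y, rfl⟩; exact hx y.2),
          Function.extend_apply' _ _ _ (by rintro ⟨y, hy⟩; exact hx (hy ▸ y.2))]
        rfl
    have hcard : Nat.card H = Nat.card (CharApp.inertia N θ) * Nat.card K := by
      have h1 := Cores.card_map_mul_ker (QuotientGroup.mk' K) H
        (fun x hx => by rw [Subgroup.mem_comap, MonoidHom.mem_ker.1 hx]; exact one_mem _)
      rw [Subgroup.map_comap_eq_self_of_surjective (QuotientGroup.mk'_surjective K),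
        QuotientGroup.ker_mk'] at h1
      exact h1.symm
    have hsum : ∀ F : G ⧸ K → ℂ, ∑ x : G, F x = (Nat.card K : ℂ) * ∑ x : G ⧸ K, F x := by
      intro F
      rw [← Equiv.sum_comp (Subgroup.groupEquivQuotientProdSubgroup (s := K)).symm,
        Fintype.sum_prod_type, Finset.mul_sum]
      refine Finset.sum_congr rfl fun a _ => ?_
      have hfst : ∀ b : K,
          ((((Subgroup.groupEquivQuotientProdSubgroup (s := K)).symm (a, b) : G)) : G ⧸ K) = a :=
        fun b => congrArg Prod.fst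
          ((Subgroup.groupEquivQuotientProdSubgroup (s := K)).apply_symm_apply (a, b))
      rw [Finset.sum_congr rfl fun b _ => congrArg F (hfst b), Finset.sum_const, Finset.card_univ,
        nsmul_eq_mul, Nat.card_eq_fintype_card]
    rw [← hψ g, ← hind]
    unfold indFun
    rw [Finset.sum_congr rfl fun x _ => hext (x⁻¹ * g * x)]
    simp only [QuotientGroup.mk_mul, QuotientGroup.mk_inv]
    rw [hsum (fun x => extendByZero (CharApp.inertia N θ) η (x⁻¹ * (g : G ⧸ K) * x)), hcard, Nat.cast_mul, mul_inv,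
      mul_assoc, ← mul_assoc _ (Nat.card K : ℂ),
      inv_mul_cancel₀ (Nat.cast_ne_zero.2 Nat.card_pos.ne'), one_mul]
  have hpi' : ∀ r : ℕ, r.Prime → r ∣ Nat.card (G ⧸ K) → r = p ∨ r = q := by
    intro r hr hd
    have h1 : r ∈ (Nat.card G).primeFactors := Nat.mem_primeFactors.2
      ⟨hr, hd.trans (Subgroup.index_eq_card K ▸ K.index_dvd_card), Nat.card_pos.ne'⟩
    rw [hpi, Finset.mem_insert, Finset.mem_singleton] at h1
    exact h1
  have hnil : Group.IsNilpotent ((G ⧸ K) ⧸ fittingSubgroup (G ⧸ K)) := by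
    haveI := hmeta
    refine Group.nilpotent_of_surjective (QuotientGroup.map (fittingSubgroup G)
      (fittingSubgroup (G ⧸ K)) (QuotientGroup.mk' K) (Subgroup.map_le_iff_le_comap.1
        (Cores.map_fittingSubgroup_le _ (QuotientGroup.mk'_surjective K)))) fun x => ?_
    obtain ⟨y, rfl⟩ := QuotientGroup.mk_surjective x
    obtain ⟨g, rfl⟩ := QuotientGroup.mk_surjective y
    exact ⟨(g : G ⧸ fittingSubgroup G), rfl⟩
  obtain ⟨g', hg'⟩ := PrimChar.exists_class hpq (hne2 p hpd) (hne2 q hqd) hpi' hnil ψ hf hQP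
  obtain ⟨g, rfl⟩ := QuotientGroup.mk'_surjective K g'
  have hdeg : charDegree (ψ : G ⧸ K → ℂ) = charDegree (χ : G → ℂ) := by simp [charDegree, ← hψ]
  refine ⟨g, hdeg ▸ hg'.trans ?_⟩
  rw [← Subgroup.index_comap_of_surjective _ (QuotientGroup.mk'_surjective K)]
  refine Subgroup.index_dvd_of_le fun x hx => ?_
  rw [Subgroup.mem_comap, Subgroup.mem_centralizer_singleton_iff, ← map_mul, ← map_mul,
    Subgroup.mem_centralizer_singleton_iff.1 hx]

end Cfsg.Agent.S4993
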