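import Cfsg.Statements.S4996
import Cfsg.Agent.Lib.GaloisAvg.Basic

set_option autoImplicit false
open Cfsg

namespace Cfsg.Agent.S4996

open Cfsg.Agent.GaloisAvg Representation

section
variable {G : Type*} [Group G] [Fintype G] (N : Subgroup G) [N.Normal] {d : ℕ}
  (ρ : Representation ℂ G (Fin d → ℂ))

lemma invariants_stable (g : G) (f : (Fin d → ℂ) →ₗ[ℂ] (Fin d → ℂ))
    (hf : f ∈ invariants ((linHom ρ ρ).comp N.subtype)) :
    linHom ρ ρ g f ∈ invariants ((linHom ρ ρ).comp N.subtype) := by
  intro n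
  have h := hf ⟨g⁻¹ * n * g, by simpa using Subgroup.Normal.conj_mem inferInstance (n : G) n.2 g⁻¹⟩
  simp only [MonoidHom.coe_comp, Function.comp_apply, Subgroup.coe_subtype] at h ⊢
  conv_rhs => rw [← h]
  rw [← Module.End.mul_apply, ← Module.End.mul_apply, ← map_mul, ← map_mul]
  congr 2
  group

/-- The action of `G` on the endomorphisms commuting with `N`. -/
noncomputable def endRep : Representation ℂ G (invariants ((linHom ρ ρ).comp N.subtype)) where
  toFun g := (linHom ρ ρ g).restrict (invariants_stable N ρ g)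
  map_one' := by ext f; simp
  map_mul' a b := by ext f; simp

lemma endRep_trace [Fintype N] (g : G) :
    LinearMap.trace ℂ _ (endRep N ρ g) =
      (Nat.card N : ℂ)⁻¹ * ∑ n : N, (((‖ρ.character (n * g)‖ ^ 2 : ℝ)) : ℂ) := by
  have : Invertible (Fintype.card N : ℂ) :=
    invertibleOfNonzero (Nat.cast_ne_zero.mpr Fintype.card_ne_zero)
  set L := linHom ρ ρ
  set W := invariants (L.comp N.subtype)
  have hP := isProj_averageMap (L.comp N.subtype)
  set f := averageMap (L.comp N.subtype) ∘ₗ L g
  have hf : ∀ x, f x ∈ W := fun x => hP.map_mem _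
  have h1 : LinearMap.trace ℂ _ (endRep N ρ g) = LinearMap.trace ℂ _ f := by
    rw [← LinearMap.trace_restrict_eq_of_forall_mem W f hf]
    congr 1
    refine LinearMap.ext fun x => Subtype.ext ?_
    exact (hP.map_id _ (invariants_stable N ρ g x x.2)).symm
  have h2 : f = (Nat.card N : ℂ)⁻¹ • ∑ n : N, L (n * g) := by
    refine LinearMap.ext fun v => ?_
    simp [f, L, averageMap, GroupAlgebra.average, map_sum, LinearMap.sum_apply, map_mul, invOf_eq_inv,
      Nat.card_eq_fintype_card]
  rw [h1, h2, map_smul, map_sum, smul_eq_mul]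
  refine congrArg _ (Finset.sum_congr rfl fun n _ => ?_)
  have h3 := char_linHom ρ ρ ((n : G) * g)
  rw [Representation.character] at h3
  rw [h3, (cycloValued_character ⟨d, ρ, rfl⟩).map_inv, Complex.conj_mul']
  norm_cast

lemma irreducible_of_finrank_eq_one [hρ : ρ.IsIrreducible]
    (h : Module.finrank ℂ (invariants ((linHom ρ ρ).comp N.subtype)) = 1) :
    IsIrreducible (ρ.comp N.subtype) := by
  have : Fintype N := Fintype.ofFinite N
  have : Nontrivial (Subrepresentation (ρ.comp N.subtype)) := by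
    refine ⟨⟨⊥, ⊤, fun h0 => ?_⟩⟩
    have h1 : (⊥ : Submodule ℂ (Fin d → ℂ)) = ⊤ := congrArg Subrepresentation.toSubmodule h0
    exact (bot_ne_top (α := Subrepresentation ρ)) (Subrepresentation.toSubmodule_injective h1)
  refine ⟨fun U => ?_⟩
  obtain ⟨W, hW⟩ := exists_isCompl U
  have hc : IsCompl U.toSubmodule W.toSubmodule :=
    ⟨disjoint_iff.mpr (congrArg Subrepresentation.toSubmodule hW.inf_eq_bot),
      codisjoint_iff.mpr (congrArg Subrepresentation.toSubmodule hW.sup_eq_top)⟩
  set P := Submodule.projection U.toSubmodule W.toSubmodule hc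
  have hPl : ∀ x ∈ U.toSubmodule, P x = x := fun x hx => by
    simpa [P] using Submodule.projection_apply_left hc ⟨x, hx⟩
  have hPr : ∀ x ∈ W.toSubmodule, P x = 0 := fun x hx => by
    simpa [P] using Submodule.projection_apply_right hc ⟨x, hx⟩
  have hdec : ∀ x, ∃ a ∈ U.toSubmodule, ∃ b ∈ W.toSubmodule, a + b = x := fun x =>
    Submodule.mem_sup.mp (hc.sup_eq_top ▸ Submodule.mem_top)
  have hPmem : P ∈ invariants ((linHom ρ ρ).comp N.subtype) := by
    intro n
    refine LinearMap.ext fun x => ?_
    have e : linHom ρ ρ (n : G) P x = ρ (n : G) (P (ρ (n : G)⁻¹ x)) := rfl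
    refine e.trans ?_
    obtain ⟨a, ha, b, hb, hab⟩ := hdec (ρ (n : G)⁻¹ x)
    have hx : x = ρ (n : G) a + ρ (n : G) b := by
      rw [← map_add, hab, Representation.self_inv_apply]
    rw [← hab, map_add, hPl a ha, hPr b hb, hx, add_zero, map_add P,
      hPl _ (show ρ (n : G) a ∈ U.toSubmodule from U.apply_mem_toSubmodule n ha),
      hPr _ (show ρ (n : G) b ∈ W.toSubmodule from W.apply_mem_toSubmodule n hb), add_zero]
  have hone : (1 : Module.End ℂ (Fin d → ℂ)) ∈ invariants ((linHom ρ ρ).comp N.subtype) := by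
    intro n
    refine LinearMap.ext fun x => ?_
    exact Representation.self_inv_apply ρ (n : G) x
  have hne : (⟨1, hone⟩ : invariants ((linHom ρ ρ).comp N.subtype)) ≠ 0 := by
    intro h0
    rw [Subtype.ext_iff] at h0
    refine bot_ne_top (α := Subrepresentation ρ) (Subrepresentation.toSubmodule_injective ?_)
    exact (eq_top_iff.mpr fun x _ => (Submodule.mem_bot _).mpr (LinearMap.congr_fun h0 x)).trans rfl
  obtain ⟨c, hc'⟩ := (finrank_eq_one_iff_of_nonzero' (K := ℂ)
    (⟨1, hone⟩ : invariants ((linHom ρ ρ).comp N.subtype)) hne).mp h ⟨P, hPmem⟩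
  have hPc : ∀ x, P x = c • x := fun x =>
    (LinearMap.congr_fun (congrArg Subtype.val hc') x).symm
  rcases eq_or_ne c 1 with rfl | hc1
  · refine Or.inr (Subrepresentation.toSubmodule_injective (eq_top_iff.mpr fun x _ => ?_))
    have := hPc x
    rw [one_smul] at this
    obtain ⟨a, ha, b, hb, rfl⟩ := hdec x
    rw [map_add, hPl a ha, hPr b hb, add_zero] at this
    rwa [← this]
  · refine Or.inl (Subrepresentation.toSubmodule_injective (eq_bot_iff.mpr fun x hx => ?_))
    have := hPc x
    rw [hPl x hx] at this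
    have h2 : (c - 1) • x = 0 := by rw [sub_smul, one_smul, ← this, sub_self]
    exact (Submodule.mem_bot _).mpr ((smul_eq_zero.mp h2).resolve_left (sub_ne_zero.mpr hc1))

end

/-- Let N be a normal subgroup of the finite group G and χ an irreducible complex character of G. Then the restriction of χ to N is not irreducible if and only if χ vanishes on some whole coset Nx of N in G. -/
theorem result {G : Type*} [Group G] [Finite G] (N : Subgroup G) [N.Normal] (χ : Cfsg.IrrCharacter G) : ¬ Cfsg.IsIrrCharacter ↥N (fun n : ↥N => (χ : G → ℂ) n) ↔ ∃ x : G, ∀ n : ↥N, (χ : G → ℂ) ((n : G) * x) = 0 := by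
  classical
  have : Fintype G := Fintype.ofFinite G
  have : Fintype N := Fintype.ofFinite N
  obtain ⟨d, ρ, hirr, hχ⟩ := χ.2
  set W := invariants ((linHom ρ ρ).comp N.subtype)
  have : Module.Free ℂ W := Module.Free.of_divisionRing ℂ W
  set α : G → ℝ := fun g => (Nat.card N : ℝ)⁻¹ * ∑ n : N, ‖ρ.character (n * g)‖ ^ 2
  have hN0 : (0 : ℝ) < Nat.card N := Nat.cast_pos.mpr Nat.card_pos
  have hα : ∀ g, LinearMap.trace ℂ _ (endRep N ρ g) = (α g : ℂ) := fun g => by
    rw [endRep_trace]; simp [α]
  have hm : α 1 = Module.finrank ℂ W := by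
    have := hα 1
    rw [map_one] at this
    have h1 := (LinearMap.trace_one ℂ W).symm.trans this
    exact_mod_cast h1.symm
  have hzero : ∀ x, (∀ n : N, (χ : G → ℂ) ((n : G) * x) = 0) ↔ α x = 0 := fun x => by
    simp [α, ← hχ, Finset.sum_eq_zero_iff_of_nonneg]
  have hsum : ∑ g : G, α g = Nat.card G := by
    have : Invertible (Nat.card G : ℂ) :=
      invertibleOfNonzero (Nat.cast_ne_zero.mpr Nat.card_pos.ne')
    have h := Representation.char_orthonormal ρ ρ
    rw [if_pos ⟨Representation.Equiv.refl ρ⟩, inv_mul_eq_one₀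
      (Nat.cast_ne_zero.mpr Nat.card_pos.ne'), Finset.sum_congr rfl fun g _ => by
        rw [(cycloValued_character ⟨d, ρ, rfl⟩).map_inv, Complex.mul_conj,
          Complex.normSq_eq_norm_sq]] at h
    norm_cast at h
    simp only [α, ← Finset.mul_sum]
    have hs : ∀ n : N, ∑ g : G, ‖ρ.character ((n : G) * g)‖ ^ 2 = ∑ g : G, ‖ρ.character g‖ ^ 2 :=
      fun n => Equiv.sum_comp (Equiv.mulLeft (n : G)) (fun g => ‖ρ.character g‖ ^ 2)
    rw [Finset.sum_comm, Finset.sum_congr rfl fun n _ => hs n, Finset.sum_const, Finset.card_univ, ← Nat.card_eq_fintype_card,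
      nsmul_eq_mul, ← h, inv_mul_cancel_left₀ hN0.ne']
  constructor
  · intro hred
    by_contra hcon
    push Not at hcon
    have hne : ∀ x, α x ≠ 0 := fun x h => by
      obtain ⟨n, hn⟩ := hcon x; exact hn ((hzero x).mpr h n)
    have h1 := card_le_sum_norm_pow (cycloValued_trace (G := G)
      (V := invariants ((linHom ρ ρ).comp N.subtype)) (endRep N ρ)) (Finset.univ.erase 1)
      (fun g hg k hk => by
        simp only [Finset.mem_erase, Finset.mem_univ, and_true] at hg ⊢
        intro h
        have := (powCoprime hk.symm).injective (a₁ := g) (a₂ := 1) (by simpa using h)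
        exact hg this)
      (fun g _ => by rw [hα]; exact_mod_cast hne g) 1
    simp only [pow_one, hα, Complex.norm_real, Real.norm_eq_abs] at h1
    have hnn : ∀ g, |α g| = α g := fun g => abs_of_nonneg (mul_nonneg (inv_nonneg.mpr hN0.le)
      (Finset.sum_nonneg fun n _ => sq_nonneg ‖ρ.character (n * g)‖))
    rw [Finset.sum_congr rfl fun g _ => hnn g,
      Finset.card_erase_of_mem (Finset.mem_univ _), Finset.card_univ, ← Nat.card_eq_fintype_card,
      Nat.cast_sub Nat.card_pos, Nat.cast_one] at h1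
    have h2 := Finset.sum_erase_add Finset.univ α (Finset.mem_univ (1 : G))
    have hle : α 1 ≤ 1 := by
      have : ∑ g ∈ Finset.univ.erase 1, α g + α 1 = Nat.card G := h2.trans hsum
      linarith [show (Nat.card G : ℝ) - 1 ≤ ∑ g ∈ Finset.univ.erase 1, α g from h1]
    rw [hm, Nat.cast_le_one] at hle
    have hpos : Module.finrank ℂ W ≠ 0 := fun h => hne 1 (by rw [hm, h, Nat.cast_zero])
    refine hred ⟨d, ρ.comp N.subtype, irreducible_of_finrank_eq_one N ρ (show Module.finrank ℂ W = 1 by omega), ?_⟩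
    rw [← hχ]; rfl
  · rintro ⟨x, hx⟩ ⟨e, σ, hσ, hσχ⟩
    rw [hzero] at hx
    have h1 : α 1 = 1 := by
      have : Invertible (Nat.card N : ℂ) :=
        invertibleOfNonzero (Nat.cast_ne_zero.mpr Nat.card_pos.ne')
      have h := Representation.char_orthonormal σ σ
      rw [if_pos ⟨Representation.Equiv.refl σ⟩, hσχ, ← hχ,
        Finset.sum_congr rfl fun (n : N) _ => show
            ρ.character (n : G) * ρ.character ((n⁻¹ : N) : G) =
              ((‖ρ.character (n : G)‖ ^ 2 : ℝ) : ℂ) by
          rw [Subgroup.coe_inv, (cycloValued_character ⟨d, ρ, rfl⟩).map_inv, Complex.mul_conj,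
            Complex.normSq_eq_norm_sq]] at h
      simp only [α, mul_one]
      refine Complex.ofReal_inj.mp ?_
      push_cast at h ⊢
      exact h
    rw [hm, Nat.cast_eq_one] at h1
    let b := Module.finBasisOfFinrankEq ℂ W h1
    have hc : ∀ g, ∀ w : W, endRep N ρ g w = LinearMap.trace ℂ _ (endRep N ρ g) • w := by
      intro g w
      obtain ⟨a, ha⟩ : ∃ a : ℂ, endRep N ρ g (b 0) = a • b 0 :=
        ⟨b.repr (endRep N ρ g (b 0)) 0, by
          conv_lhs => rw [← b.sum_repr (endRep N ρ g (b 0)), Fin.sum_univ_one]⟩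
      have htr : LinearMap.trace ℂ _ (endRep N ρ g) = a := by
        rw [LinearMap.trace_eq_matrix_trace ℂ b, Matrix.trace_fin_one,
          LinearMap.toMatrix_apply, ha]
        simp
      rw [htr, ← b.sum_repr w, Fin.sum_univ_one, map_smul, ha, smul_comm]
    have h0 := hc x (endRep N ρ x⁻¹ (b 0))
    rw [Representation.self_inv_apply, hα, hx, Complex.ofReal_zero, zero_smul] at h0
    exact b.ne_zero 0 h0

end Cfsg.Agent.S4996
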