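import Cfsg.Statements.S4997
import Cfsg.Agent.Lib.VanishSection.Basic

set_option autoImplicit false
open Cfsg

namespace Cfsg.Agent.S4997

/-- Let p be an odd prime and G a finite solvable group with exactly one conjugacy class consisting of vanishing elements (elements at which some irreducible complex character is zero) of order divisible by p. Let P be a Sylow p-subgroup of G. Then the order of P is at most p times the order of the largest normal p-subgroup of G. -/
theorem result {G : Type*} [Group G] [Finite G] (hsolv : Group.IsSolvable G) (p : ℕ) [Fact p.Prime] (hp : p ≠ 2) (h1 : Set.ncard {C : ConjClasses G | (∀ g ∈ C.carrier, ∃ χ : Cfsg.IrrCharacter G, (χ : G → ℂ) g = 0) ∧ ∃ g ∈ C.carrier, p ∣ orderOf g} = 1) (P : Sylow p G) : Nat.card ↥(P : Subgroup G) ≤ p * Nat.card ↥(Cfsg.pCore p G) := by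
  classical
  set N := pCore p G with hN
  haveI : N.Normal := Subgroup.sSup_normal _ fun _ h => h.1
  have hcard : Nat.card G = Nat.card (G ⧸ N) * Nat.card N :=
    Subgroup.card_eq_card_quotient_mul_card_subgroup N
  obtain ⟨a, ha⟩ : ∃ a : ℕ, Nat.card N = p ^ a := IsPGroup.iff_card.1 (Cores.isPGroup_pCore p G)
  have hf : (Nat.card (G ⧸ N)).factorization p ≤ 1 := by
    by_cases hd : p ∣ Nat.card (G ⧸ N)
    · haveI := hsolv
      refine (VanishSection.factorization_eq_one inferInstance
        (Cores.pCore_quotient_self p G) hd ?_).le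
      intro x y hx hy hvx hvy
      obtain ⟨C, hC⟩ := Set.ncard_eq_one.1 h1
      have key : ∀ g : G, p ∣ orderOf (g : G ⧸ N) →
          (∃ χ : IrrCharacter (G ⧸ N), (χ : G ⧸ N → ℂ) g = 0) → ConjClasses.mk g = C := by
        intro g hg ⟨χ, hχ⟩
        rw [← Set.mem_singleton_iff, ← hC]
        refine ⟨fun g' hg' => ⟨Codegree.inflate N χ, ?_⟩, g,
          ConjClasses.mem_carrier_mk, hg.trans (orderOf_map_dvd (QuotientGroup.mk' N) g)⟩
        obtain ⟨c, rfl⟩ := isConj_iff.1
          (ConjClasses.mk_eq_mk_iff_isConj.1 (ConjClasses.mem_carrier_iff_mk_eq.1 hg').symm)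
        rw [TwoClassChar.char_conj (Codegree.inflate N χ).2, Codegree.inflate_apply, hχ]
      obtain ⟨g, rfl⟩ := QuotientGroup.mk'_surjective N x
      obtain ⟨g', rfl⟩ := QuotientGroup.mk'_surjective N y
      exact MonoidHom.map_isConj _
        (ConjClasses.mk_eq_mk_iff_isConj.1 ((key g hx hvx).trans (key g' hy hvy).symm))
    · rw [Nat.factorization_eq_zero_of_not_dvd hd]; exact zero_le_one
  rw [P.card_eq_multiplicity, ha, ← pow_succ']
  refine Nat.pow_le_pow_right (Fact.out : p.Prime).pos ?_
  rw [hcard, Nat.factorization_mul Nat.card_pos.ne' Nat.card_pos.ne', Finsupp.add_apply, ha,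
    (Fact.out : p.Prime).factorization_pow, Finsupp.single_eq_same]
  omega

end Cfsg.Agent.S4997
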