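import Cfsg.Statements.S5001
import Cfsg.Agent.Lib.Blocks.Defect
import Cfsg.Agent.Lib.Char.Linear

set_option autoImplicit false
open Cfsg

namespace Cfsg.Agent.S5001

/-- Let p be a prime, G a finite group and B a p-block of G (relative to a maximal ideal M of the algebraic integers containing p) with defect group D. Let Z be a central p-subgroup of G contained in D and λ a linear character of Z (a homomorphism to the nonzero complex numbers). Say an irreducible character χ of G lies over λ when χ(z) = χ(1)λ(z) for all z ∈ Z. If some irreducible character in B lying over λ has height zero, then λ extends to a linear character of D. -/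
theorem result {G : Type*} [Group G] [Finite G] (p : ℕ) [Fact p.Prime] (M : Ideal Cfsg.AlgInt) (hM : Cfsg.IsPModular p M) (B : Set (Cfsg.IrrCharacter G)) (hB : Cfsg.IsPBlock M B) (D : Subgroup G) (hD : Cfsg.IsDefectGroup p M B D) (Z : Subgroup G) (hZc : Z ≤ Subgroup.center G) (hZp : IsPGroup p ↥Z) (hZD : Z ≤ D) (lam : ↥Z →* ℂˣ) (χ : Cfsg.IrrCharacter G) (hχ : χ ∈ B) (hover : (∀ z : ↥Z, (χ : G → ℂ) z = (χ : G → ℂ) 1 * (lam z : ℂ))) (h0 : Cfsg.blockHeight p B (χ : G → ℂ) = 0) : (∃ μ : ↥D →* ℂˣ, ∀ z : ↥Z, μ ⟨(z : G), hZD z.2⟩ = lam z) := by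
  classical
  have hp : p.Prime := Fact.out
  have hcard := Agent.Blocks.card_defectGroup hM hB hD
  obtain ⟨g, hg, hgD⟩ := hD
  have hreg := Agent.Blocks.pRegular_of_blockCoeff hM hB hg.2.1
  set C := Subgroup.centralizer ({g} : Set G)
  -- `χ g` is a unit at the defect class
  have hunit : ¬ MemLocalIdeal M ((χ : G → ℂ) g) := by
    intro hI
    set a := (Nat.card G).factorization p
    set d := charDegree (χ : G → ℂ)
    have hd : 0 < d := Agent.Blocks.charDegree_pos χ
    have hda : d.factorization p ≤ a :=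
      (Nat.factorization_le_iff_dvd hd.ne' Nat.card_pos.ne').2 (Agent.Blocks.charDegree_dvd_card χ) p
    have hmin : sInf ((fun ψ : IrrCharacter G => (charDegree (ψ : G → ℂ)).factorization p) '' B)
        = d.factorization p := by
      refine le_antisymm (Nat.sInf_le ⟨χ, hχ, rfl⟩) ?_
      have h0' : d.factorization p - sInf ((fun ψ : IrrCharacter G => (charDegree (ψ : G → ℂ)).factorization p) '' B) = 0 := h0
      omega
    have hC : Nat.card D = p ^ (Nat.card C).factorization p := Agent.Blocks.sylowIn_card hgD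
    rw [hcard] at hC
    have hk := Nat.pow_right_injective hp.two_le hC
    rw [blockDefect, hmin] at hk
    have hidx : C.index.factorization p = d.factorization p := by
      have h1 := congrArg (fun n => n.factorization p) C.index_mul_card
      simp only [Nat.factorization_mul Subgroup.index_ne_zero_of_finite Nat.card_pos.ne',
        Finsupp.add_apply] at h1
      omega
    obtain ⟨r, hr, hdr⟩ : ∃ r, ¬ p ∣ r ∧ d = p ^ d.factorization p * r :=
      ⟨_, Nat.not_dvd_ordCompl hp hd.ne', (Nat.ordProj_mul_ordCompl_eq_self d p).symm⟩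
    obtain ⟨t, -, hit⟩ : ∃ t, ¬ p ∣ t ∧ C.index = p ^ C.index.factorization p * t :=
      ⟨_, Nat.not_dvd_ordCompl hp Subgroup.index_ne_zero_of_finite,
        (Nat.ordProj_mul_ordCompl_eq_self _ p).symm⟩
    rw [hidx] at hit
    have hω : centralChar (χ : G → ℂ) g = (t : ℂ) * (χ : G → ℂ) g * (r : ℂ)⁻¹ := by
      rw [centralChar, hit, ← Agent.Blocks.charDegree_cast χ, show charDegree (χ : G → ℂ) = _ from hdr]
      have hp0 : (p : ℂ) ≠ 0 := Nat.cast_ne_zero.2 hp.ne_zero
      push_cast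
      field_simp
    refine hg.2.2 χ hχ ?_
    rw [hω]
    exact Agent.Blocks.memI_mul_right hM (Agent.Blocks.memI_mul_left hM (Agent.Blocks.memR_natCast hM t) hI)
      (Agent.Blocks.memR_natCast_inv hM hr)
  -- restriction to `D × ⟨g⟩`
  have hgC : g ∈ Subgroup.centralizer (D : Set G) :=
    Agent.Blocks.le_centralizer_singleton.mp (Agent.Blocks.sylowIn_le hgD)
  obtain ⟨k, hk⟩ := (Agent.Blocks.sylowIn_isPGroup hgD).exists_card_eq
  let ι : ↥D × ↥(Subgroup.zpowers g) →* G :=
    MonoidHom.noncommCoprod D.subtype (Subgroup.zpowers g).subtype fun x y => by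
      obtain ⟨i, hi⟩ := Subgroup.mem_zpowers_iff.1 y.2
      show Commute (x : G) (y : G)
      rw [← hi]
      have hxg : Commute (x : G) g := Subgroup.mem_centralizer_iff.mp hgC x x.2
      exact hxg.zpow_right i
  have := Fintype.ofFinite (IrrCharacter (↥D × ↥(Subgroup.zpowers g)))
  have := Fintype.ofFinite ↥D
  have := Fintype.ofFinite ↥(Subgroup.zpowers g)
  have := Fintype.ofFinite ↥Z
  obtain ⟨m, hm, -⟩ := Agent.Char.IsCharacter.decompose
    (Agent.Char.IsCharacter.comp_hom (Agent.Char.IsIrrCharacter.isCharacter χ.2) ι)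
  obtain ⟨ξ, hξm, φ, ψ, hφ, hψ, hξ, hφ1⟩ : ∃ ξ : IrrCharacter (↥D × ↥(Subgroup.zpowers g)), m ξ ≠ 0 ∧
      ∃ φ ψ, IsIrrCharacter ↥D φ ∧ IsIrrCharacter ↥(Subgroup.zpowers g) ψ ∧
        (ξ : ↥D × ↥(Subgroup.zpowers g) → ℂ) = (fun x => φ x.1 * ψ x.2) ∧ φ 1 = 1 := by
    by_contra hc
    push Not at hc
    refine hunit ?_
    have h1 := congrFun hm (1, ⟨g, Subgroup.mem_zpowers g⟩)
    simp only [ι, MonoidHom.noncommCoprod_apply, Subgroup.coe_subtype, OneMemClass.coe_one, one_mul,
      Finset.sum_apply, Pi.smul_apply, smul_eq_mul] at h1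
    rw [h1]
    refine Agent.Blocks.memI_sum hM _ fun ξ _ => ?_
    by_cases hξ : m ξ = 0
    · rw [hξ, Nat.cast_zero, zero_mul]; exact Agent.Blocks.memI_zero hM
    obtain ⟨φ, ψ, hφ, hψ, he⟩ := (Agent.Char.isIrrCharacter_prod_iff _).1 ξ.2
    refine Agent.Blocks.memI_mul_left hM (Agent.Blocks.memR_natCast hM _) ?_
    rw [he]
    refine Agent.Blocks.memI_mul_right hM ?_
      (Agent.Blocks.memR_of_isIntegral hM (Agent.Char.IsCharacter.isIntegral (Agent.Char.IsIrrCharacter.isCharacter hψ) _))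
    obtain ⟨n, -, hn, hdvd⟩ := Agent.Char.IsIrrCharacter.degree_dvd_card hφ
    rw [hk] at hdvd
    obtain ⟨j, -, hj⟩ := (Nat.dvd_prime_pow hp).1 hdvd
    show MemLocalIdeal M (φ 1)
    rw [hn, Agent.Blocks.memI_natCast hM, hj]
    rcases j with _ | j
    · exact absurd (by rw [hn, hj, pow_zero, Nat.cast_one]) (hc ξ hξ φ ψ hφ hψ he)
    · exact dvd_pow_self p (Nat.succ_ne_zero j)
  obtain ⟨l, hl⟩ := Agent.Char.exists_hom_of_degree_one (Agent.Char.IsIrrCharacter.isCharacter hφ) hφ1
  obtain ⟨l', hl'⟩ := Agent.Char.exists_hom_of_degree_one (Agent.Char.IsIrrCharacter.isCharacter hψ)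
    (Agent.Char.apply_one_eq_one_of_comm (fun a b => mul_comm' a b) ⟨ψ, hψ⟩)
  refine ⟨l.toHomUnits, fun z => ?_⟩
  -- compare on `Z`
  by_contra hne
  let incl : ↥Z →* ↥D × ↥(Subgroup.zpowers g) := (Subgroup.inclusion hZD).prod 1
  let ν : ↥Z →* ℂ := l.comp (Subgroup.inclusion hZD)
  let Λ : ↥Z →* ℂ := (Units.coeHom ℂ).comp lam
  have hνΛ : (ν : ↥Z → ℂ) ≠ Λ := fun h => hne (Units.ext (congrFun h z))
  have hξν : (fun x : ↥Z => (ξ : ↥D × ↥(Subgroup.zpowers g) → ℂ) (incl x)) = ν := by
    funext x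
    rw [hξ]
    show φ (Subgroup.inclusion hZD x) * ψ 1 = _
    rw [← hl, ← hl', map_one, mul_one]
    rfl
  have hzero : classInner (fun x : ↥Z => (χ : G → ℂ) (ι (incl x))) ν = 0 := by
    have h1 : (fun x : ↥Z => (χ : G → ℂ) (ι (incl x))) = (χ : G → ℂ) 1 • (Λ : ↥Z → ℂ) := by
      funext x
      simp only [ι, incl, MonoidHom.noncommCoprod_apply, MonoidHom.prod_apply, Subgroup.coe_subtype,
        MonoidHom.one_apply, OneMemClass.coe_one, mul_one, Subgroup.coe_inclusion, Pi.smul_apply,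
        smul_eq_mul]
      exact hover x
    rw [h1, Agent.Char.classInner_smul_left, Agent.Char.classInner_irr_of_ne
      (Agent.Char.isIrrCharacter_of_hom Λ) (Agent.Char.isIrrCharacter_of_hom ν) hνΛ.symm, mul_zero]
  have hsum : classInner (fun x : ↥Z => (χ : G → ℂ) (ι (incl x))) ν =
      ∑ η : IrrCharacter (↥D × ↥(Subgroup.zpowers g)),
        (m η : ℂ) * classInner (fun x : ↥Z => (η : ↥D × ↥(Subgroup.zpowers g) → ℂ) (incl x)) ν := by
    have h1 : (fun x : ↥Z => (χ : G → ℂ) (ι (incl x))) = ∑ η : IrrCharacter (↥D × ↥(Subgroup.zpowers g)),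
        (m η : ℂ) • (fun x : ↥Z => (η : ↥D × ↥(Subgroup.zpowers g) → ℂ) (incl x)) := by
      funext x
      have h2 := congrFun hm (incl x)
      simpa [Finset.sum_apply] using h2
    rw [h1, Agent.Char.classInner_sum_left]
    exact Finset.sum_congr rfl fun η _ => Agent.Char.classInner_smul_left _ _ _
  choose q hq using fun η : IrrCharacter (↥D × ↥(Subgroup.zpowers g)) =>
    Agent.Char.IsCharacter.classInner_nat
      (Agent.Char.IsCharacter.comp_hom (Agent.Char.IsIrrCharacter.isCharacter η.2) incl)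
      (Agent.Char.isCharacter_of_hom ν)
  have hq1 : q ξ = 1 := by
    have h1 := hq ξ
    rw [hξν, Agent.Char.classInner_irr_self (Agent.Char.isIrrCharacter_of_hom ν)] at h1
    exact_mod_cast h1.symm
  rw [hsum] at hzero
  simp only [hq] at hzero
  have h2 : ∑ η, m η * q η = 0 := by exact_mod_cast hzero
  have h3 := Finset.sum_eq_zero_iff.1 h2 ξ (Finset.mem_univ ξ)
  rw [hq1, mul_one] at h3
  exact hξm h3

end Cfsg.Agent.S5001
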