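import Cfsg.Statements.S5011
import Cfsg.Agent.EqLemmas

set_option autoImplicit false
open Cfsg

namespace Cfsg.Agent.S5011


/-- Let G be a finite non-abelian simple group and ρ an irreducible complex representation of G on a space of dimension greater than one (irreducible in the sense that the only subspaces invariant under every ρ(x) are 0 and the whole space). Then for every non-identity element g of G, the centralizer of g does not act irreducibly: there is a non-zero proper subspace invariant under ρ(c) for every c commuting with g. -/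
theorem result {G : Type*} [Group G] [Finite G] [IsSimpleGroup G]
    (hG : ¬ IsMulCommutative G) {V : Type*} [AddCommGroup V] [Module ℂ V] [FiniteDimensional ℂ V]
    (ρ : Representation ℂ G V)
    (hirr : ∀ W : Submodule ℂ V, (∀ x : G, ∀ v ∈ W, ρ x v ∈ W) → W = ⊥ ∨ W = ⊤)
    (hdim : 1 < Module.finrank ℂ V) (g : G) (hg : g ≠ 1) :
    ∃ W : Submodule ℂ V, W ≠ ⊥ ∧ W ≠ ⊤ ∧ ∀ c ∈ Subgroup.centralizer ({g} : Set G), ∀ v ∈ W, ρ c v ∈ W := by
  by_contra hcon
  push Not at hcon
  have hne : Nontrivial V := Module.nontrivial_of_finrank_pos (R := ℂ) (by omega)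
  obtain ⟨a, ha⟩ := Module.End.exists_eigenvalue (ρ g)
  have hinv : ∀ c ∈ Subgroup.centralizer ({g} : Set G),
      ∀ v ∈ Module.End.eigenspace (ρ g) a, ρ c v ∈ Module.End.eigenspace (ρ g) a := by
    intro c hc v hv
    rw [Module.End.mem_eigenspace_iff] at hv ⊢
    have hcg : g * c = c * g := Subgroup.mem_centralizer_singleton_iff.mp hc |>.symm
    rw [← Module.End.mul_apply, ← map_mul, hcg, map_mul, Module.End.mul_apply, hv, map_smul]
  have htop : Module.End.eigenspace (ρ g) a = ⊤ := by
    by_contra htop
    obtain ⟨c, hc, v, hv, hcv⟩ := hcon _ ha htop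
    exact hcv (hinv c hc v hv)
  have hsc : ∀ v, ρ g v = a • v := fun v =>
    Module.End.mem_eigenspace_iff.mp (htop ▸ Submodule.mem_top)
  have hinj : Function.Injective ρ := by
    rcases (MonoidHom.normal_ker ρ).eq_bot_or_eq_top with h | h
    · exact (MonoidHom.ker_eq_bot_iff _).mp h
    · exfalso
      obtain ⟨v, hv⟩ := exists_ne (0 : V)
      rcases hirr (Submodule.span ℂ {v}) (fun x w hw => by
        have : ρ x = 1 := (MonoidHom.mem_ker).mp (h ▸ Subgroup.mem_top x)
        simpa [this] using hw) with h0 | h0
      · exact hv (Submodule.span_singleton_eq_bot.mp h0)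
      · have : Module.finrank ℂ V ≤ 1 := by
          rw [← finrank_top ℂ V, ← h0, finrank_span_singleton hv]
        omega
  have hcen : g ∈ Subgroup.center G := by
    rw [Subgroup.mem_center_iff]
    intro x
    apply hinj
    ext v
    simp [hsc, map_mul]
  rcases (inferInstance : (Subgroup.center G).Normal).eq_bot_or_eq_top with h | h
  · exact hg (Subgroup.mem_bot.mp (h ▸ hcen))
  · exact hG ⟨⟨fun x y => (Subgroup.mem_center_iff.mp (h ▸ Subgroup.mem_top y)) x⟩⟩

end Cfsg.Agent.S5011
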