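import Cfsg.Statements.S5015
import Cfsg.Agent.Lib.RankOne.Basic

set_option autoImplicit false
open Cfsg

namespace Cfsg.Agent.S5015

/-- Let a group Y act doubly transitively on a set Ω with at least three points, and suppose that the stabilizer of a point α contains a nilpotent subgroup A, normalized by that stabilizer, which acts regularly on the points other than α. Then for any y in Y moving α, the subgroups A and y A y⁻¹ are the unipotent subgroups of a rank one group, and the normal closure of A in Y (the subgroup generated by all conjugates of A) is generated by A and y A y⁻¹ alone. -/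
theorem result {Y Ω : Type*} [Group Y] [MulAction Y Ω]
    (h2 : MulAction.IsMultiplyPretransitive Y Ω 2) (hΩ : 3 ≤ ENat.card Ω) (α : Ω) (A : Subgroup Y)
    (hA : A ≤ MulAction.stabilizer Y α) (hAn : ∀ y ∈ MulAction.stabilizer Y α, Cfsg.conjBy A y = A)
    (hnil : Group.IsNilpotent A) (hreg : ∀ β γ : Ω, β ≠ α → γ ≠ α → ∃! a : Y, a ∈ A ∧ a • β = γ)
    (y : Y) (hy : y ∉ MulAction.stabilizer Y α) :
    Cfsg.IsRankOnePair A (Cfsg.conjBy A y) ∧ Subgroup.normalClosure (A : Set Y) = A ⊔ Cfsg.conjBy A y := by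
  classical
  have key : ∀ g g' : Y, g • α = g' • α → Cfsg.conjBy A g = Cfsg.conjBy A g' := by
    intro g g' he
    rw [Agent.RankOne.conjBy_eq_conjBy_iff]
    exact hAn _ (by rw [MulAction.mem_stabilizer_iff, mul_smul, he, inv_smul_smul])
  have htrans : MulAction.IsPretransitive Y Ω := MulAction.isPretransitive_of_is_two_pretransitive
  have hyα : y • α ≠ α := hy
  -- the conjugate attached to `y • α` is again regular
  have hregB : ∀ β γ : Ω, β ≠ y • α → γ ≠ y • α → ∃! b : Y, b ∈ Cfsg.conjBy A y ∧ b • β = γ := by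
    intro β γ hβ hγ
    obtain ⟨a, ⟨ha, he⟩, hu⟩ := hreg (y⁻¹ • β) (y⁻¹ • γ)
      (fun e => hβ (by rw [← e, smul_inv_smul])) (fun e => hγ (by rw [← e, smul_inv_smul]))
    refine ⟨y * a * y⁻¹, ⟨Agent.RankOne.conj_mem_conjBy y ha, by
      rw [mul_smul, mul_smul, he, smul_inv_smul]⟩, ?_⟩
    rintro b ⟨hb, hbe⟩
    have := hu _ ⟨Agent.RankOne.mem_conjBy.1 hb, by
      rw [mul_smul, mul_smul, smul_inv_smul, hbe]⟩
    rw [← this]
    group
  have hfix : ∀ a ∈ A, a • α = α := fun a ha => hA ha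
  have hfixB : ∀ b ∈ Cfsg.conjBy A y, b • (y • α) = y • α := by
    intro b hb
    have := hfix _ (Agent.RankOne.mem_conjBy.1 hb)
    rw [mul_smul, mul_smul] at this
    exact inv_smul_eq_iff.1 this
  obtain ⟨γ, hγα, hγy⟩ : ∃ γ : Ω, γ ≠ α ∧ γ ≠ y • α := by
    by_contra hne
    push Not at hne
    have hsub : (Set.univ : Set Ω) ⊆ {α, y • α} := fun γ _ => by
      by_cases hγ : γ = α
      · exact Or.inl hγ
      · exact Or.inr (hne γ hγ)
    have := (Set.encard_le_encard hsub).trans (Set.encard_insert_le _ _)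
    rw [Set.encard_univ, Set.encard_singleton] at this
    exact absurd (hΩ.trans this) (by decide)
  refine ⟨⟨?_, hnil, Group.nilpotent_of_mulEquiv (A.equivMapOfInjective _ (MulAut.conj y).injective),
    ?_, ?_⟩, ?_⟩
  · intro he
    obtain ⟨a, ⟨ha, hae⟩, -⟩ := hreg (y • α) γ hyα hγα
    exact hγy (hae ▸ hfixB a (he ▸ ha))
  · intro a ha ha1
    have h1 : a⁻¹ • (y • α) ≠ y • α := fun e => ha1 (by
      obtain ⟨_, _, hu⟩ := hreg (y • α) (y • α) hyα hyα
      exact inv_eq_one.1 ((hu _ ⟨A.inv_mem ha, e⟩).trans (hu 1 ⟨A.one_mem, one_smul _ _⟩).symm))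
    obtain ⟨b, ⟨hb, hbe⟩, -⟩ := hregB α (a⁻¹ • (y • α)) hyα.symm h1
    refine ⟨b⁻¹, Subgroup.inv_mem _ hb, fun e => ?_, ?_⟩
    · rw [inv_eq_one.1 e, one_smul, eq_inv_smul_iff, hfix a ha] at hbe
      exact hyα hbe.symm
    · rw [inv_inv, Agent.RankOne.conjBy_conjBy]
      exact key _ _ (hbe.trans (mul_smul _ _ _).symm)
  · intro b hb hb1
    have h1 : b⁻¹ • α ≠ α := fun e => hb1 (by
      obtain ⟨_, _, hu⟩ := hregB α α hyα.symm hyα.symm
      exact inv_eq_one.1 ((hu _ ⟨Subgroup.inv_mem _ hb, e⟩).trans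
        (hu 1 ⟨Subgroup.one_mem _, one_smul _ _⟩).symm))
    obtain ⟨a, ⟨ha, hae⟩, -⟩ := hreg (y • α) (b⁻¹ • α) hyα h1
    refine ⟨a⁻¹, A.inv_mem ha, fun e => ?_, ?_⟩
    · rw [inv_eq_one.1 e, one_smul, eq_inv_smul_iff, hfixB b hb] at hae
      exact hyα hae
    · rw [inv_inv, Agent.RankOne.conjBy_conjBy]
      exact key _ _ ((mul_smul _ _ _).trans hae)
  · refine le_antisymm ?_ (sup_le Subgroup.le_normalClosure ?_)
    · refine Subgroup.closure_le _ |>.2 fun x hx => ?_
      obtain ⟨c, hc, hconj⟩ := Group.mem_conjugatesOfSet_iff.1 hx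
      obtain ⟨g, rfl⟩ := isConj_iff.1 hconj
      have hmem : g * c * g⁻¹ ∈ Cfsg.conjBy A g := Agent.RankOne.conj_mem_conjBy g hc
      by_cases hg : g • α = α
      · exact Subgroup.mem_sup_left (by rwa [hAn g hg] at hmem)
      · obtain ⟨a, ⟨ha, hae⟩, -⟩ := hreg (y • α) (g • α) hyα hg
        rw [key g (a * y) (by rw [mul_smul, hae]), ← Agent.RankOne.conjBy_conjBy] at hmem
        exact Agent.RankOne.conjBy_le_of_le_of_mem le_sup_right (Subgroup.mem_sup_left ha) hmem
    · intro b hb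
      have := (Subgroup.normalClosure_normal (s := (A : Set Y))).conj_mem _
        (Subgroup.subset_normalClosure (Agent.RankOne.mem_conjBy.1 hb)) y
      simpa [mul_assoc] using this

end Cfsg.Agent.S5015
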