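import Cfsg.Statements.S5017
import Cfsg.Agent.Lib.RankOne.Basic

set_option autoImplicit false
open Cfsg

namespace Cfsg.Agent.S5017

/-- Let X be a rank one group with unipotent subgroups A and B and N a normal subgroup of X. Then either X = N A or N lies in the centre of X. Consequently a perfect rank one group is quasisimple. -/
theorem result {X : Type*} [Group X] {A B : Subgroup X} (h : Cfsg.IsRankOneGroup X A B) :
    (∀ N : Subgroup X, N.Normal → N ⊔ A = ⊤ ∨ N ≤ Subgroup.center X) ∧
    (Group.IsPerfect X → Cfsg.IsQuasisimple X) := by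
  refine ⟨fun N hN => Agent.RankOne.normal_dichotomy h.1 h.2 N hN, fun hperf => ⟨hperf, ?_⟩⟩
  have hA : Group.IsNilpotent A := h.2.nilpotent_left
  have htop : ∀ M : Subgroup X, M.Normal → M ⊔ A = ⊤ → M = ⊤ := by
    intro M hM hMA
    have hsurj : Function.Surjective ((QuotientGroup.mk' M).comp A.subtype) := by
      intro q
      obtain ⟨x, rfl⟩ := QuotientGroup.mk'_surjective M q
      have hx : x ∈ A ⊔ M := by rw [sup_comm, hMA]; trivial
      rw [Subgroup.mem_sup_of_normal_right] at hx
      obtain ⟨a, ha, m, hm, rfl⟩ := hx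
      exact ⟨⟨a, ha⟩, by simpa using hm⟩
    have := Group.nilpotent_of_surjective _ hsurj
    by_contra hne
    have : Nontrivial (X ⧸ M) := QuotientGroup.nontrivial_iff.2 hne
    exact Group.IsPerfect.not_isNilpotent (X ⧸ M) ‹_›
  have hne : Subgroup.center X ≠ ⊤ := by
    intro hc
    have hB := Agent.RankOne.inf_normalizer_eq_bot (RankOnePair_symm h.2)
    refine Agent.RankOne.right_ne_bot h.2 (eq_bot_iff.2 (hB ▸ fun b hb => ⟨hb, ?_⟩))
    apply Agent.RankOne.conjBy_eq_self_iff.1
    ext z
    have hb' : b ∈ Subgroup.center X := hc ▸ Subgroup.mem_top b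
    rw [Agent.RankOne.mem_conjBy, show b⁻¹ * z * b = z by
      rw [mul_assoc, ← Subgroup.mem_center_iff.1 hb' z |>.symm, inv_mul_cancel_left]]
  have : Nontrivial (X ⧸ Subgroup.center X) := QuotientGroup.nontrivial_iff.2 hne
  refine ⟨fun K hK => ?_⟩
  rcases Agent.RankOne.normal_dichotomy h.1 h.2 (K.comap (QuotientGroup.mk' _)) inferInstance with h1 | h1
  · right
    have := congrArg (Subgroup.map (QuotientGroup.mk' (Subgroup.center X))) (htop _ inferInstance h1)
    rwa [Subgroup.map_comap_eq_self_of_surjective (QuotientGroup.mk'_surjective _),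
      Subgroup.map_top_of_surjective _ (QuotientGroup.mk'_surjective _)] at this
  · left
    rw [eq_bot_iff]
    intro q hq
    obtain ⟨x, rfl⟩ := QuotientGroup.mk'_surjective _ q
    rw [Subgroup.mem_bot, QuotientGroup.mk'_apply, QuotientGroup.eq_one_iff]
    exact h1 hq

end Cfsg.Agent.S5017
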