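import Cfsg.Statements.S5018
import Cfsg.Agent.Lib.RankOne.Basic

set_option autoImplicit false
open Cfsg
open scoped commutatorElement

namespace Cfsg.Agent.S5018

/-- A rank one group is not nilpotent, and its second centre equals its centre. -/
theorem result {X : Type*} [Group X] {A B : Subgroup X} (h : Cfsg.IsRankOneGroup X A B) :
    Subgroup.upperCentralSeries X 2 = Subgroup.center X ∧ ¬ Group.IsNilpotent X := by
  have hZ : Subgroup.upperCentralSeries X 2 = Subgroup.center X := by
    refine le_antisymm ?_ (by
      rw [← Subgroup.upperCentralSeries_one X]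
      exact Subgroup.upperCentralSeries_mono X one_le_two)
    rcases Agent.RankOne.normal_dichotomy h.1 h.2 (Subgroup.upperCentralSeries X 2) inferInstance with h1 | h1
    · exfalso
      have hnor : ⊤ ≤ Subgroup.normalizer ((A ⊔ Subgroup.center X : Subgroup X) : Set X) := by
        rw [← h1]
        refine sup_le (fun z hz => ?_) (le_sup_left.trans Subgroup.le_normalizer)
        have key : ∀ z ∈ Subgroup.upperCentralSeries X 2, ∀ y ∈ A ⊔ Subgroup.center X,
            z * y * z⁻¹ ∈ A ⊔ Subgroup.center X := by
          intro z hz y hy
          have hc : ⁅z, y⁆ ∈ Subgroup.center X := by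
            have := Subgroup.mem_upperCentralSeries_succ_iff.1 hz y
            rwa [Subgroup.upperCentralSeries_one] at this
          have := Subgroup.mul_mem _ (Subgroup.mem_sup_right (S := A) hc) hy
          simpa [commutatorElement_def] using this
        rw [Subgroup.mem_normalizer_iff]
        intro y
        refine ⟨key z hz y, fun hy => ?_⟩
        have := key z⁻¹ (Subgroup.inv_mem _ hz) _ hy
        simpa [mul_assoc] using this
      have hA' : (A ⊔ Subgroup.center X : Subgroup X) ≤ Subgroup.normalizer (A : Set X) :=
        sup_le Subgroup.le_normalizer (Subgroup.center_le_normalizer _)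
      obtain ⟨x, -, hx⟩ := Agent.RankOne.exists_conjBy_swap h.2
      have hB : B ≤ A ⊔ Subgroup.center X := by
        rw [← hx]
        refine (Agent.RankOne.conjBy_mono (le_sup_left (b := Subgroup.center X)) x).trans (le_of_eq ?_)
        exact Agent.RankOne.conjBy_of_mem_normalizer (hnor (Subgroup.mem_top x))
      apply Agent.RankOne.right_ne_bot h.2
      rw [eq_bot_iff, ← Agent.RankOne.inf_normalizer_eq_bot (RankOnePair_symm h.2)]
      exact le_inf le_rfl (hB.trans hA')
    · exact h1
  refine ⟨hZ, fun hnil => ?_⟩
  obtain ⟨n, hn⟩ := hnil.nilpotent'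
  have hstab : ∀ m, Subgroup.upperCentralSeries X (m + 1) = Subgroup.center X := by
    intro m
    induction m with
    | zero => exact Subgroup.upperCentralSeries_one X
    | succ m ih =>
      rw [← hZ]
      ext x
      rw [Subgroup.mem_upperCentralSeries_succ_iff, Subgroup.mem_upperCentralSeries_succ_iff, ih,
        Subgroup.upperCentralSeries_one]
  have htop : Subgroup.center X = ⊤ := by
    rw [← hstab n, eq_top_iff, ← hn]
    exact Subgroup.upperCentralSeries_mono X n.le_succ
  apply Agent.RankOne.right_ne_bot h.2
  rw [eq_bot_iff, ← Agent.RankOne.inf_normalizer_eq_bot (RankOnePair_symm h.2)]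
  exact le_inf le_rfl ((le_top.trans htop.ge).trans (Subgroup.center_le_normalizer _))

end Cfsg.Agent.S5018
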