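import Cfsg.Statements.S5020
import Cfsg.Agent.Lib.RankOne.SpecialSL2
import Cfsg.Agent.Lib.Components.Quasisimple
import Cfsg.Agent.S5017
import Cfsg.Agent.S5021

set_option autoImplicit false
open Cfsg
open scoped commutatorElement IsMulCommutative

namespace Cfsg.Agent.S5020

/-- If `A` has at most three elements, `X` is a small linear group. -/
theorem small {X : Type*} [Group X] {A B : Subgroup X} (h : Cfsg.IsRankOneGroup X A B)
    (hs : Cfsg.IsSpecialRankOnePair A B) (hab : Cfsg.HasAbelianUnipotents A B) (h3 : ENat.card A ≤ 3) :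
    Nonempty (X ≃* Matrix.SpecialLinearGroup (Fin 2) (ZMod 2)) ∨
      Nonempty (X ≃* Matrix.SpecialLinearGroup (Fin 2) (ZMod 3)) ∨
      Nonempty (X ≃* Matrix.ProjectiveSpecialLinearGroup (Fin 2) (ZMod 3)) := by
  have hfin : Finite A := by
    by_contra hcon
    rw [not_finite_iff_infinite] at hcon
    rw [ENat.card_eq_top_of_infinite] at h3
    exact absurd h3 (by decide)
  rw [ENat.card_eq_coe_natCard] at h3
  have h3' : Nat.card A ≤ 3 := by exact_mod_cast h3
  have h1 : 1 < Nat.card A := Subgroup.one_lt_card_iff_ne_bot A |>.2 (Agent.RankOne.left_ne_bot hs.1)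
  obtain ⟨a, ha, ha1⟩ := Agent.RankOne.exists_ne_one hs.1
  have key : ∀ p : ℕ, Nat.card A = p → ∀ [Fact p.Prime],
      Nonempty (X ≃* Matrix.SpecialLinearGroup (Fin 2) (ZMod p)) ∨
      Nonempty (X ≃* Matrix.ProjectiveSpecialLinearGroup (Fin 2) (ZMod p)) := by
    intro p hc hp
    have hz : Subgroup.zpowers a = A := by
      have := zpowers_eq_top_of_prime_card hc (g := (⟨a, ha⟩ : A)) (fun e => ha1 (congrArg Subtype.val e))
      have := congrArg (Subgroup.map A.subtype) this
      rwa [MonoidHom.map_zpowers, ← MonoidHom.range_eq_map, Subgroup.range_subtype] at this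
    have hap : a ^ p = 1 := by
      have := congrArg Subtype.val (pow_card_eq_one' (x := (⟨a, ha⟩ : A)))
      rwa [hc, SubmonoidClass.coe_pow] at this
    have htop : Subgroup.closure ({a, Agent.RankOne.partner A B a} : Set X) = ⊤ := by
      rw [eq_top_iff, ← h.1]
      have hA' : A ≤ Subgroup.closure ({a, Agent.RankOne.partner A B a} : Set X) := by
        intro x hx
        rw [← hz] at hx
        exact Subgroup.zpowers_le.2 (Subgroup.subset_closure (by simp)) hx
      refine sup_le hA' ?_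
      have hn : Agent.RankOne.nElt A B a ∈ Subgroup.closure ({a, Agent.RankOne.partner A B a} : Set X) :=
        Subgroup.mul_mem _ (Subgroup.mul_mem _ (Subgroup.subset_closure (by simp))
          (Subgroup.inv_mem _ (Subgroup.subset_closure (by simp)))) (Subgroup.subset_closure (by simp))
      have := Agent.RankOne.conjBy_le_of_le_of_mem hA' hn
      rwa [Agent.RankOne.conjBy_nElt_left hs ha ha1] at this
    let e : X ≃* ↥(Subgroup.closure ({a, Agent.RankOne.partner A B a} : Set X)) :=
      Subgroup.topEquiv.symm.trans (MulEquiv.subgroupCongr htop.symm)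
    rcases (Agent.RankOne.closure_pair_equiv (p := p) hs hab ha ha1 hap) with hf | hf <;> obtain ⟨f⟩ := hf
    · exact Or.inl ⟨e.trans f⟩
    · exact Or.inr ⟨e.trans f⟩
  rcases (show Nat.card A = 2 ∨ Nat.card A = 3 by omega) with hc | hc
  · rcases (key 2 hc) with hf | hf <;> obtain ⟨f⟩ := hf
    · exact Or.inl ⟨f⟩
    · refine Or.inl ⟨f.trans ((QuotientGroup.quotientMulEquivOfEq ?_).trans QuotientGroup.quotientBot)⟩
      rw [eq_bot_iff]
      intro z hz
      rw [Subgroup.mem_bot]
      rcases Agent.RankOne.center_SL2_two (p := 2) z hz with rfl | hz'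
      · rfl
      · apply Subtype.ext
        rw [hz', show (-1 : ZMod 2) = 1 from by decide, map_one]
        rfl
  · rcases (key 3 hc) with hf | hf <;> obtain ⟨f⟩ := hf
    · exact Or.inr (Or.inl ⟨f⟩)
    · exact Or.inr (Or.inr ⟨f⟩)

theorem comm_identity {M : Type*} [CommGroup M] {a y k₁ k₂ k₃ k₄ : M}
    (h : k₁ * (y * a) = k₂ * a * (k₃ * (a * (k₄ * y)))⁻¹) :
    y * y * a = k₁⁻¹ * k₂ * k₃⁻¹ * k₄⁻¹ := by
  rw [eq_mul_inv_iff_mul_eq] at h
  have h' : k₁ * (y * y * a * k₄ * k₃) = k₂ := by
    apply mul_right_cancel (b := a)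
    rw [← h]
    ac_rfl
  rw [← h', inv_mul_cancel_left]
  simp

/-- If `A` has more than three elements, it is generated by its commutators with the diagonal subgroup. -/
theorem commutator_diagonal {X : Type*} [Group X] {A B : Subgroup X}
    (hs : Cfsg.IsSpecialRankOnePair A B) (hab : Cfsg.HasAbelianUnipotents A B) (h3 : 3 < ENat.card A) :
    ⁅A, Cfsg.rankOneDiagonal A B⁆ = A := by
  set K : Subgroup X := ⁅A, Cfsg.rankOneDiagonal A B⁆ with hK
  refine le_antisymm (Subgroup.commutator_le.2 fun x hx g hg => ?_) ?_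
  · rw [commutatorElement_def, mul_assoc x, mul_assoc x]
    exact A.mul_mem hx ((Subgroup.mem_normalizer_iff.1 hg.1.2 x⁻¹).1 (A.inv_mem hx))
  have hcomm : ∀ {x y : X}, x ∈ A → y ∈ A → x * y = y * x :=
    fun hx hy => Agent.RankOne.comm_of_abelian hab.1 hx hy
  have hKA : K ≤ A := Subgroup.commutator_le.2 fun x hx g hg => by
    rw [commutatorElement_def, mul_assoc x, mul_assoc x]
    exact A.mul_mem hx ((Subgroup.mem_normalizer_iff.1 hg.1.2 x⁻¹).1 (A.inv_mem hx))
  -- the basic congruence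
  have key : ∀ a ∈ A, a ≠ 1 → ∀ y ∈ A, y ≠ 1 → y * a ≠ 1 → y * y * a ∈ K := by
    intro a ha ha1 y hy hy1 hya
    set n := Agent.RankOne.nElt A B a with hn
    let M : X → X := fun x => n⁻¹ * (Agent.RankOne.partner A B x)⁻¹ * n
    have hM : ∀ x ∈ A, x ≠ 1 → M x ∈ A ∧ M x * x⁻¹ ∈ K := by
      intro x hx hx1
      refine ⟨Agent.RankOne.inv_nElt_conj_mem hs ha ha1
        (B.inv_mem (Agent.RankOne.partner_mem hs.1 hx hx1)), ?_⟩
      set g := n⁻¹ * Agent.RankOne.nElt A B x with hg
      have hgH : g ∈ Cfsg.rankOneDiagonal A B := by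
        refine ⟨⟨Subgroup.mul_mem _ (Subgroup.inv_mem _ (Agent.RankOne.nElt_mem_sup hs ha ha1))
          (Agent.RankOne.nElt_mem_sup hs hx hx1), ?_⟩, ?_⟩
        · apply Agent.RankOne.conjBy_eq_self_iff.1
          rw [hg, ← Agent.RankOne.conjBy_conjBy, Agent.RankOne.conjBy_nElt_left hs hx hx1,
            Agent.RankOne.conjBy_eq_iff, inv_inv, Agent.RankOne.conjBy_nElt_left hs ha ha1]
        · apply Agent.RankOne.conjBy_eq_self_iff.1
          rw [hg, ← Agent.RankOne.conjBy_conjBy, Agent.RankOne.conjBy_nElt_right hs hx hx1,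
            Agent.RankOne.conjBy_eq_iff, inv_inv, Agent.RankOne.conjBy_nElt_right hs ha ha1]
      have e : M x * x⁻¹ = ⁅g, x⁆ := by
        simp only [M]
        rw [← Agent.RankOne.nElt_conj_left hs hx hx1, hg, commutatorElement_def]
        group
      rw [e, hK, Subgroup.commutator_comm]
      exact Subgroup.commutator_mem_commutator hgH hx
    have hMy := hM y hy hy1
    have haq : a * M y ≠ 1 := by
      intro e
      apply hya
      have e2 : M y = n⁻¹ * (Agent.RankOne.partner A B a) * n := by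
        rw [eq_inv_of_mul_eq_one_right e, ← inv_inv (Agent.RankOne.partner A B a),
          ← Agent.RankOne.nElt_conj_left hs ha ha1, hn]
        group
      have e3 : Agent.RankOne.partner A B y = Agent.RankOne.partner A B a⁻¹ := by
        rw [Agent.RankOne.partner_inv hs ha ha1]
        simp only [M] at e2
        exact inv_eq_iff_eq_inv.1 (mul_left_cancel (mul_right_cancel e2))
      rw [Agent.RankOne.partner_injOn hs.1 hy hy1 (A.inv_mem ha) (inv_ne_one.2 ha1) e3, inv_mul_cancel]
    have hmul := Agent.RankOne.partner_mul hs ha ha1 hy hy1 hya haq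
    have e : M (y * a) = M a * (M (a * M y))⁻¹ := by
      simp only [M, hn] at hmul ⊢
      rw [hmul]
      group
    have h1 := hM (y * a) (A.mul_mem hy ha) hya
    have h2 := hM a ha ha1
    have h3 := hM (a * M y) (A.mul_mem ha hMy.1) haq
    obtain ⟨k₁, hk₁, e1⟩ : ∃ k ∈ K, M (y * a) = k * (y * a) := ⟨_, h1.2, (inv_mul_cancel_right _ _).symm⟩
    obtain ⟨k₂, hk₂, e2⟩ : ∃ k ∈ K, M a = k * a := ⟨_, h2.2, (inv_mul_cancel_right _ _).symm⟩
    obtain ⟨k₃, hk₃, e3⟩ : ∃ k ∈ K, M (a * M y) = k * (a * M y) :=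
      ⟨_, h3.2, (inv_mul_cancel_right _ _).symm⟩
    obtain ⟨k₄, hk₄, e4⟩ : ∃ k ∈ K, M y = k * y := ⟨_, hMy.2, (inv_mul_cancel_right _ _).symm⟩
    rw [e1, e2, e3, e4] at e
    suffices y * y * a = k₁⁻¹ * k₂ * k₃⁻¹ * k₄⁻¹ by
      rw [this]
      exact K.mul_mem (K.mul_mem (K.mul_mem (K.inv_mem hk₁) hk₂) (K.inv_mem hk₃)) (K.inv_mem hk₄)
    have hcA : IsMulCommutative A := hab.1
    have : (⟨k₁, hKA hk₁⟩ : A) * (⟨y, hy⟩ * ⟨a, ha⟩) =
        ⟨k₂, hKA hk₂⟩ * ⟨a, ha⟩ * (⟨k₃, hKA hk₃⟩ * (⟨a, ha⟩ * (⟨k₄, hKA hk₄⟩ * ⟨y, hy⟩)))⁻¹ :=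
      Subtype.ext e
    have key := comm_identity this
    exact congrArg Subtype.val key
  have hsq : ∀ a ∈ A, a * a ∈ K := by
    intro a ha
    rcases eq_or_ne a 1 with rfl | ha1
    · simp
    obtain ⟨⟨y, hy⟩, hy'⟩ : ∃ y : A, (y : X) ∉ ({1, a, a⁻¹} : Set X) := by
      by_contra hcon
      push Not at hcon
      have hle : (A : Set X).encard ≤ ({1, a, a⁻¹} : Set X).encard :=
        Set.encard_le_encard fun x hx => hcon ⟨x, hx⟩
      have := hle.trans ((Set.encard_insert_le _ _).trans
        (add_le_add_left (Set.encard_insert_le _ _) 1))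
      rw [Set.encard_singleton] at this
      exact absurd (h3.trans_le this) (by decide)
    simp only [Set.mem_insert_iff, Set.mem_singleton_iff, not_or] at hy'
    have k1 := key a ha ha1 y hy hy'.1 (fun e => hy'.2.2 (eq_inv_of_mul_eq_one_left e))
    have k2 := key a ha ha1 y⁻¹ (A.inv_mem hy) (inv_ne_one.2 hy'.1)
      (fun e => hy'.2.1 (inv_mul_eq_one.1 e))
    convert K.mul_mem k1 k2 using 1
    calc a * a = (y * y) * (y⁻¹ * y⁻¹) * (a * a) := by group
      _ = y * y * ((y⁻¹ * y⁻¹) * a) * a := by group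
      _ = y * y * (a * (y⁻¹ * y⁻¹)) * a := by
          rw [hcomm (A.mul_mem (A.inv_mem hy) (A.inv_mem hy)) ha]
      _ = _ := by group
  intro a ha
  by_cases h2 : ∀ x ∈ A, x * x = 1
  · rcases eq_or_ne a 1 with rfl | ha1
    · exact K.one_mem
    obtain ⟨y, hy, hy1, hya⟩ : ∃ y ∈ A, y ≠ 1 ∧ y * a ≠ 1 := by
      by_contra hcon
      push Not at hcon
      have hle : (A : Set X).encard ≤ ({1, a⁻¹} : Set X).encard :=
        Set.encard_le_encard fun x hx => by
          by_cases hx1 : x = 1
          · exact Or.inl hx1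
          · exact Or.inr (eq_inv_of_mul_eq_one_left (hcon x hx hx1))
      have := hle.trans (Set.encard_insert_le _ _)
      rw [Set.encard_singleton] at this
      exact absurd (h3.trans_le this) (by decide)
    have := key a ha ha1 y hy hy1 hya
    rwa [h2 y hy, one_mul] at this
  · obtain ⟨c, hc, rfl⟩ : ∃ c ∈ A, c ^ 2 = a := by
      rcases Agent.RankOne.elementary_or_divisible hs hab with ⟨p, hp, hel⟩ | ⟨-, hdiv⟩
      · rcases hp.eq_two_or_odd' with rfl | ⟨m, rfl⟩
        · exact absurd (fun x hx => by simpa [sq] using hel.2 x hx) h2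
        · exact ⟨a ^ (m + 1), A.pow_mem ha _, by
            rw [← pow_mul, show (m + 1) * 2 = 2 * m + 1 + 1 by ring, pow_succ, hel.2 a ha, one_mul]⟩
      · exact hdiv a ha 2 (by norm_num)
    rw [sq]
    exact hsq c hc

/-- Let X be a special rank one group with abelian unipotent subgroups A and B, and H = N(A) ∩ N(B) its diagonal subgroup. Then either A has at most three elements and X is isomorphic to SL₂(2), SL₂(3) or PSL₂(3); or X = X' A with the commutator subgroup X' quasisimple and the commutator subgroup ⁅A, H⁆ having more than three elements. -/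
theorem result {X : Type*} [Group X] {A B : Subgroup X} (h : Cfsg.IsRankOneGroup X A B)
    (hs : Cfsg.IsSpecialRankOnePair A B) (hab : Cfsg.HasAbelianUnipotents A B) :
    (ENat.card A ≤ 3 ∧ (Nonempty (X ≃* Matrix.SpecialLinearGroup (Fin 2) (ZMod 2)) ∨
        Nonempty (X ≃* Matrix.SpecialLinearGroup (Fin 2) (ZMod 3)) ∨
        Nonempty (X ≃* Matrix.ProjectiveSpecialLinearGroup (Fin 2) (ZMod 3)))) ∨
    (commutator X ⊔ A = ⊤ ∧ Cfsg.IsQuasisimple (commutator X) ∧
      3 < ENat.card ↥(⁅A, Cfsg.rankOneDiagonal A B⁆ : Subgroup X)) := by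
  by_cases h3 : ENat.card A ≤ 3
  · exact Or.inl ⟨h3, small h hs hab h3⟩
  · rw [not_le] at h3
    have hA := commutator_diagonal hs hab h3
    have htop : commutator X = ⊤ := by
      have hAle : A ≤ commutator X := by
        rw [← hA, commutator_def]
        exact Subgroup.commutator_mono le_top le_top
      obtain ⟨x, -, hx⟩ := Agent.RankOne.exists_conjBy_swap hs.1
      rw [eq_top_iff, ← h.1]
      refine sup_le hAle ?_
      rw [← hx, ← Agent.RankOne.conjBy_of_normal (A := commutator X) inferInstance x]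
      exact Agent.RankOne.conjBy_mono hAle x
    refine Or.inr ⟨by rw [htop, top_sup_eq], ?_, by rw [hA]; exact h3⟩
    have hperf : Group.IsPerfect X := ⟨htop⟩
    have hq : Cfsg.IsQuasisimple X := (S5017.result h).2 hperf
    exact (Agent.Components.isQuasisimple_congr
      ((MulEquiv.subgroupCongr htop).trans Subgroup.topEquiv)).2 hq

end Cfsg.Agent.S5020
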