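import Cfsg.Statements.S5023
import Cfsg.Agent.Lib.RankOne.Quadratic
import Cfsg.Agent.S5018

set_option autoImplicit false
open Cfsg
open scoped commutatorElement

namespace Cfsg.Agent.S5023

/-- An automorphism of order dividing `p` of an abelian group of exponent `p` has a nilpotent difference map. -/
theorem iterate_sub_id {K : Type*} [AddCommGroup K] {p : ℕ} (hp : p.Prime) (hK : ∀ k : K, p • k = 0)
    (σ : AddMonoid.End K) (hσ : σ ^ p = 1) (k : K) : ((σ - 1) ^ p) k = 0 := by
  obtain ⟨r, hr⟩ := Commute.exists_add_pow_prime_eq hp (Commute.neg_one_right σ)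
  rw [sub_eq_add_neg, hr, hσ]
  have hpr : ∀ (e : AddMonoid.End K) (v : K), ((p : AddMonoid.End K) * e) v = 0 := fun e v => by
    change (p : AddMonoid.End K) (e v) = 0
    rw [AddMonoid.End.natCast_apply, hK]
  rcases hp.eq_two_or_odd' with rfl | hodd
  · rw [neg_one_sq]
    change k + k + _ = 0
    rw [mul_assoc, mul_assoc]; erw [hpr]; rw [add_zero, ← two_nsmul, hK]
  · rw [hodd.neg_one_pow]
    change k + -k + _ = 0
    rw [mul_assoc, mul_assoc]; erw [hpr]; rw [add_zero, add_neg_cancel]

/-- If `X = K A` with `K` abelian normal of exponent `p` and `a ∈ A` of order `p`, contradiction. -/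
theorem no_abelian_cover {X : Type*} [Group X] {A B : Subgroup X} (h : Cfsg.IsRankOneGroup X A B)
    (hA : ∀ x ∈ A, ∀ y ∈ A, x * y = y * x) {p : ℕ} (hp : p.Prime) {a : X} (ha : a ∈ A) (ha1 : a ≠ 1)
    (hap : a ^ p = 1) {K : Subgroup X} (hK : K.Normal) (hKc : ∀ x ∈ K, ∀ y ∈ K, x * y = y * x)
    (hKp : ∀ x ∈ K, x ^ p = 1) (htop : K ⊔ A = ⊤) (hKZ : ¬ K ≤ Subgroup.center X) : False := by
  have hcomm : IsMulCommutative K := ⟨⟨fun x y => Subtype.ext (hKc x x.2 y y.2)⟩⟩
  open scoped IsMulCommutative in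
  let σ : AddMonoid.End (Additive K) := MonoidHom.toAdditive
    (MonoidHom.mk' (fun x : K => (⟨a * (x : X) * a⁻¹, hK.conj_mem _ x.2 a⟩ : K))
      (fun x y => Subtype.ext (by simp [mul_assoc])))
  have hit : ∀ (n : ℕ) (x : Additive K),
      ((Additive.toMul ((σ ^ n) x) : K) : X) = a ^ n * (Additive.toMul x : K) * (a ^ n)⁻¹ := by
    intro n
    induction n with
    | zero => intro x; simp
    | succ n ih =>
      intro x
      rw [pow_succ']
      change a * ((Additive.toMul ((σ ^ n) x) : K) : X) * a⁻¹ = _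
      rw [ih, pow_succ']
      group
  have hσp : σ ^ p = 1 := by
    refine AddMonoidHom.ext fun x => ?_
    apply Additive.toMul.injective
    apply Subtype.ext
    exact (hit p x).trans (by rw [hap, one_mul, inv_one, mul_one]; rfl)
  obtain ⟨k₀, hk₀, hk₀Z⟩ := SetLike.not_le_iff_exists.1 hKZ
  classical
  let P : ℕ → Prop := fun n =>
    ((Additive.toMul (((σ - 1) ^ n) (Additive.ofMul (⟨k₀, hk₀⟩ : K))) : K) : X) ∈ Subgroup.center X
  have hex : ∃ n, P n := ⟨p, by
    simp only [P]
    rw [iterate_sub_id hp (fun x => Additive.toMul.injective (Subtype.ext (by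
      simp only [toMul_nsmul, SubmonoidClass.coe_pow, toMul_zero, OneMemClass.coe_one]
      exact hKp _ (Additive.toMul x).2))) σ hσp]
    simp⟩
  have hn := Nat.find_spec hex
  obtain ⟨m, hm⟩ : ∃ m, Nat.find hex = m + 1 := Nat.exists_eq_succ_of_ne_zero fun e => by
    rw [e] at hn
    exact hk₀Z (by simpa [P] using hn)
  have hnot := Nat.find_min hex (show m < Nat.find hex by omega)
  rw [hm] at hn
  simp only [P, pow_succ'] at hn hnot
  set k : K := Additive.toMul (((σ - 1) ^ m) (Additive.ofMul (⟨k₀, hk₀⟩ : K)))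
  have hn' : a * (k : X) * a⁻¹ * (k : X)⁻¹ ∈ Subgroup.center X := by
    have hdiv : a * (k : X) * a⁻¹ / (k : X) ∈ Subgroup.center X := hn
    rwa [div_eq_mul_inv] at hdiv
  obtain ⟨z, hzZ, hz⟩ : ∃ z ∈ Subgroup.center X, (k : X) * a * (k : X)⁻¹ = z * a := by
    refine ⟨_, Subgroup.inv_mem _ hn', ?_⟩
    group
  have hfix : Cfsg.conjBy A k = A := by
    by_contra hne
    have hmemA := Agent.RankOne.left_mem_unipotents A B
    have hmem := Agent.RankOne.conjBy_mem_unipotents hmemA (x := (k : X)) (by rw [h.1]; trivial)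
    have hpair := (Agent.RankOne.isRankOnePair_of_mem h.2 hmem hmemA hne).1
    have h1 := Agent.RankOne.eq_one_of_mem_of_conjBy_eq hpair
      (Agent.RankOne.conj_mem_conjBy (k : X) ha) (by
        rw [hz, ← Agent.RankOne.conjBy_conjBy, Agent.RankOne.conjBy_of_mem ha]
        exact Agent.RankOne.conjBy_of_mem_normalizer (Subgroup.center_le_normalizer _ hzZ))
    exact ha1 (conj_eq_one_iff.1 h1)
  apply hnot
  have hkx : ∀ x ∈ A, (k : X) * x = x * k := by
    intro x hx
    have h1 : (k : X) * x * (k : X)⁻¹ * x⁻¹ ∈ A := by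
      refine A.mul_mem ?_ (A.inv_mem hx)
      have := Agent.RankOne.conj_mem_conjBy (k : X) hx
      rwa [hfix] at this
    have h2 : (k : X) * x * (k : X)⁻¹ * x⁻¹ ∈ K := by
      have := K.mul_mem k.2 (hK.conj_mem _ (K.inv_mem k.2) x)
      simpa [mul_assoc] using this
    have hc : (k : X) * x * (k : X)⁻¹ * x⁻¹ ∈ Subgroup.center X := by
      rw [← Subgroup.centralizer_univ, ← Subgroup.coe_top, ← htop, Subgroup.mem_centralizer_iff]
      intro u hu
      rw [SetLike.mem_coe, Subgroup.mem_sup_of_normal_left] at hu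
      obtain ⟨v, hv, w, hw, rfl⟩ := hu
      exact ((show Commute v _ from hKc v hv _ h2).mul_left (show Commute w _ from hA w hw _ h1)).eq
    have h3 := Agent.RankOne.eq_one_of_mem_of_conjBy_eq h.2 h1
      (Agent.RankOne.conjBy_of_mem_normalizer (Subgroup.center_le_normalizer _ hc))
    rwa [mul_inv_eq_one, mul_inv_eq_iff_eq_mul] at h3
  rw [Subgroup.mem_center_iff]
  intro u
  have hu : u ∈ K ⊔ A := by rw [htop]; trivial
  rw [Subgroup.mem_sup_of_normal_left] at hu
  obtain ⟨v, hv, w, hw, rfl⟩ := hu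
  exact ((show Commute v k from hKc v hv k k.2).mul_left (show Commute w k from (hkx w hw).symm)).eq

/-- Let X be a rank one group with unipotent subgroups A and B that acts faithfully on an abelian group V (written additively) with A acting quadratically: a' • (a • v − v) = a • v − v for all a, a' in A and v in V. Then A is either torsion-free or an elementary abelian p-group for some prime p. -/
theorem result {X : Type*} [Group X] {A B : Subgroup X} (h : Cfsg.IsRankOneGroup X A B)
    {V : Type*} [AddCommGroup V] [DistribMulAction X V] (hf : ∀ x : X, (∀ v : V, x • v = v) → x = 1)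
    (hq : ∀ a ∈ A, ∀ a' ∈ A, ∀ v : V, a' • (a • v - v) = a • v - v) :
    (∀ a ∈ A, a ≠ 1 → ¬ IsOfFinOrder a) ∨ ∃ p : ℕ, p.Prime ∧ Cfsg.IsElementaryAbelian p A := by
  have hA : ∀ x ∈ A, ∀ y ∈ A, x * y = y * x := by
    intro x hx y hy
    refine mul_inv_eq_one.1 (hf _ fun v => ?_)
    have hxy : ∀ u : V, (x * y) • u = (y * x) • u := by
      intro u
      have h1 := hq y hy x hx u
      have h2 := hq x hx y hy u
      rw [smul_sub] at h1 h2
      rw [mul_smul, mul_smul]
      linear_combination (norm := abel) h1 - h2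
    rw [mul_smul, hxy, smul_inv_smul]
  rw [or_iff_not_imp_left]
  intro htf
  push Not at htf
  obtain ⟨b, hb, hb1, hfin⟩ := htf
  obtain ⟨p, hp, m, hm⟩ := Nat.exists_prime_and_dvd (orderOf_eq_one_iff.not.2 hb1)
  set a := b ^ m with hadef
  have ha : a ∈ A := A.pow_mem hb m
  have hap : a ^ p = 1 := by rw [hadef, ← pow_mul, mul_comm, ← hm, pow_orderOf_eq_one]
  have ha1 : a ≠ 1 := fun e => by
    have hmpos : 0 < m := Nat.pos_of_ne_zero fun e0 => by
      have := hfin.orderOf_pos
      rw [e0, mul_zero] at hm; omega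
    have := Nat.le_of_dvd hmpos (orderOf_dvd_of_pow_eq_one e)
    have := hp.two_le
    nlinarith
  refine ⟨p, hp, ⟨⟨fun u v => Subtype.ext (hA u u.2 v v.2)⟩⟩, fun x hx => ?_⟩
  by_contra hxp
  -- powers and differences
  have hcn : ∀ (g : X) (n : ℕ) (v : V), g • (n • v) = n • (g • v) := fun g n v =>
    map_nsmul (DistribSMul.toAddMonoidHom V g) n v
  have hlin : ∀ (y : X) (n : ℕ) (v : V), y • (y • v - v) = y • v - v →
      y ^ n • v - v = n • (y • v - v) := by
    intro y n v hy
    induction n with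
    | zero => simp
    | succ n ih =>
      rw [pow_succ', mul_smul, show y ^ n • v = v + n • (y • v - v) by rw [← ih]; abel,
        smul_add, hcn, hy, succ_nsmul]
      abel
  have hpa : ∀ v : V, p • (a • v - v) = 0 := fun v => by
    rw [← hlin a p v (hq a ha a ha v), hap, one_smul, sub_self]
  let M : Subgroup X := Agent.RankOne.fixerOf X {v : V | p • v = 0}
  let N : Subgroup X := Agent.RankOne.fixerOf X (Set.range fun v : V => p • v)
  have hM : M.Normal := Agent.RankOne.fixerOf_normal fun g v hv => by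
    change p • g • v = 0
    rw [← hcn, show p • v = 0 from hv, smul_zero]
  have hN : N.Normal := Agent.RankOne.fixerOf_normal fun g v hv => by
    obtain ⟨u, rfl⟩ := hv
    exact ⟨g • u, (hcn g p u).symm⟩
  have haN : a ∈ N := by
    rintro v ⟨u, rfl⟩
    rw [hcn, ← sub_eq_zero, ← nsmul_sub, hpa]
  have hNM : ∀ k : X, k ∈ N → ∀ v : V, p • (k • v - v) = 0 := fun k hk v => by
    rw [nsmul_sub, ← hcn, hk _ ⟨v, rfl⟩, sub_self]
  have hfix : ∀ k ∈ N ⊓ M, ∀ l ∈ N ⊓ M, ∀ v : V, l • (k • v - v) = k • v - v :=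
    fun k hk l hl v => hl.2 _ (hNM k hk.1 v)
  have hKc : ∀ k ∈ N ⊓ M, ∀ l ∈ N ⊓ M, k * l = l * k := by
    intro k hk l hl
    refine mul_inv_eq_one.1 (hf _ fun v => ?_)
    have hkl : ∀ u : V, (k * l) • u = (l * k) • u := by
      intro u
      have h1 := hfix l hl k hk u
      have h2 := hfix k hk l hl u
      rw [smul_sub] at h1 h2
      rw [mul_smul, mul_smul]
      linear_combination (norm := abel) h1 - h2
    rw [mul_smul, hkl, smul_inv_smul]
  have hKp : ∀ k ∈ N ⊓ M, k ^ p = 1 := fun k hk => hf _ fun v => by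
    rw [← sub_eq_zero, hlin k p v (hfix k hk k hk v), hNM k hk.1]
  have hnc : ∀ u ∈ A, u ≠ 1 → u ∉ Subgroup.center X := fun u hu hu1 hc =>
    hu1 (Agent.RankOne.eq_one_of_mem_of_conjBy_eq h.2 hu
      (Agent.RankOne.conjBy_of_mem_normalizer (Subgroup.center_le_normalizer _ hc)))
  rcases Agent.RankOne.normal_dichotomy h.1 h.2 (N ⊓ M) inferInstance with htop | hcen
  · by_cases hKZ : N ⊓ M ≤ Subgroup.center X
    · have : A = ⊤ → False := fun hA' => by
        apply Agent.RankOne.right_ne_bot h.2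
        rw [eq_bot_iff, ← Agent.RankOne.inf_eq_bot (RankOnePair_symm h.2)]
        exact le_inf le_rfl (hA' ▸ le_top)
      apply hnc a ha ha1
      rw [Subgroup.mem_center_iff]
      intro u
      have hu : u ∈ (N ⊓ M) ⊔ A := by rw [htop]; trivial
      rw [Subgroup.mem_sup_of_normal_left] at hu
      obtain ⟨v, hv, w, hw, rfl⟩ := hu
      exact ((show Commute v a from (Subgroup.mem_center_iff.1 (hKZ hv) a).symm).mul_left
        (show Commute w a from hA w hw a ha)).eq
    · exact no_abelian_cover h hA hp ha ha1 hap inferInstance hKc hKp htop hKZ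
  · have hxM : x ^ p ∈ M := fun v hv => by
      rw [← sub_eq_zero, hlin x p v (hq x hx x hx v), nsmul_sub, ← hcn,
        show p • v = 0 from hv, smul_zero, sub_zero]
    have htopM := (Agent.RankOne.normal_dichotomy h.1 h.2 M hM).resolve_right
      fun hle => hnc _ (A.pow_mem hx p) hxp (hle hxM)
    apply hnc a ha ha1
    rw [← (S5018.result h).1, Subgroup.mem_upperCentralSeries_succ_iff]
    intro u
    rw [Subgroup.upperCentralSeries_one]
    have hu : u ∈ M ⊔ A := by rw [htopM]; trivial
    rw [Subgroup.mem_sup_of_normal_left] at hu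
    obtain ⟨v, hv, w, hw, rfl⟩ := hu
    have e : ⁅a, v * w⁆ = ⁅a, v⁆ := by
      have hcw : w * a⁻¹ * w⁻¹ = a⁻¹ := by
        rw [hA w hw a⁻¹ (A.inv_mem ha), mul_inv_cancel_right]
      calc ⁅a, v * w⁆ = a * v * (w * a⁻¹ * w⁻¹) * v⁻¹ := by rw [commutatorElement_def]; group
        _ = ⁅a, v⁆ := by rw [hcw, commutatorElement_def]
    rw [e]
    exact hcen ⟨by
      rw [commutatorElement_def, mul_assoc a, mul_assoc a]
      exact N.mul_mem haN (hN.conj_mem _ (N.inv_mem haN) v), by
      rw [commutatorElement_def]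
      exact M.mul_mem (hM.conj_mem _ hv a) (M.inv_mem hv)⟩

end Cfsg.Agent.S5023
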