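import Cfsg.Statements.S5024
import Cfsg.Agent.Lib.RankOne.RootSet

set_option autoImplicit false
open Cfsg

namespace Cfsg.Agent.S5024

/-- Let S be a set of abstract root subgroups of G, A and C members of S, B a rank one partner of A in S and D a rank one partner of C in S. If the rank one group ⟨A, B⟩ is contained in ⟨C, D⟩ then the two coincide, and C and D are conjugates of A inside ⟨A, B⟩. -/
theorem result {G : Type*} [Group G] {S : Set (Subgroup G)} (hS : Cfsg.IsRootSubgroupSet S)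
    {A B C D : Subgroup G} (hA : A ∈ S) (hC : C ∈ S) (hB : B ∈ Cfsg.rankOnePartners S A) (hD : D ∈ Cfsg.rankOnePartners S C)
    (hle : A ⊔ B ≤ C ⊔ D) : A ⊔ B = C ⊔ D ∧ C ∈ Cfsg.unipotentSubgroups A B ∧ D ∈ Cfsg.unipotentSubgroups A B := by
  have key : ∀ P Q : Subgroup G, P ∈ S → Q ∈ S → Cfsg.IsRankOnePair P Q → P ⊔ Q ≤ C ⊔ D →
      P ∈ Cfsg.unipotentSubgroups C D := by
    intro P Q hP hQ hPQ hle'
    refine (Agent.RankOne.member_le_sup hS hD.2 hC hD.1 hP (le_sup_left.trans hle')).resolve_right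
      fun hc => ?_
    obtain ⟨p, hp, hp1⟩ := Agent.RankOne.exists_ne_one hPQ
    exact Agent.RankOne.not_commute hPQ hp hp1 fun q hq => (hc hp q (hle' (Subgroup.mem_sup_right hq))).symm
  have hA' := key A B hA hB.1 hB.2 hle
  have hB' := key B A hB.1 hA (RankOnePair_symm hB.2) (by rw [sup_comm]; exact hle)
  obtain ⟨-, hsup, hU⟩ := Agent.RankOne.isRankOnePair_of_mem hD.2 hA' hB' hB.2.ne
  refine ⟨hsup, ?_, ?_⟩
  · rw [hU]; exact Agent.RankOne.left_mem_unipotents C D
  · rw [hU]; exact Agent.RankOne.right_mem_unipotents hD.2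

end Cfsg.Agent.S5024
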