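import Cfsg.Statements.S5026
import Cfsg.Agent.Lib.RankOne.RootSet

set_option autoImplicit false
open Cfsg

namespace Cfsg.Agent.S5026

/-- Let S be a degenerate set of abstract root subgroups of G (a set of abstract transvection groups) and let a, b be commuting non-identity elements of members of S with a b ≠ 1. Then the members of S centralizing a b are exactly those centralizing both a and b. -/
theorem result {G : Type*} [Group G] {S : Set (Subgroup G)} (hS : Cfsg.IsRootSubgroupSet S) (hdeg : Cfsg.IsDegenerateRootSet S)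
    {a b : G} (ha : a ∈ Cfsg.rootElements S) (hb : b ∈ Cfsg.rootElements S) (hab : a * b = b * a) (hab1 : a * b ≠ 1) :
    Cfsg.centralizingMembers S (Subgroup.zpowers (a * b)) =
      Cfsg.centralizingMembers S (Subgroup.zpowers a) ∩ Cfsg.centralizingMembers S (Subgroup.zpowers b) := by
  obtain ⟨ha1, A, hA, haA⟩ := ha
  obtain ⟨hb1, B, hB, hbB⟩ := hb
  have hmem : ∀ {E : Subgroup G} {x : G}, E ≤ Subgroup.centralizer (Subgroup.zpowers x : Set G) ↔
      ∀ e ∈ E, Commute x e := by
    intro E x
    constructor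
    · intro h e he
      exact h he x (Subgroup.mem_zpowers x)
    · intro h e he y hy
      obtain ⟨i, rfl⟩ := Subgroup.mem_zpowers_iff.1 hy
      exact ((h e he).zpow_left i).eq
  ext E
  simp only [Cfsg.centralizingMembers, Set.mem_inter_iff, Set.mem_ofPred_eq, hmem]
  constructor
  · rintro ⟨hE, hc⟩
    have key : ∀ (P : Subgroup G) (p q : G), P ∈ S → p ∈ P → (∀ e ∈ E, Commute (p * q) e) →
        ⁅E, P⁆ = ⊥ → (∀ e ∈ E, Commute p e) ∧ (∀ e ∈ E, Commute q e) := by
      intro P p q hP hp hpq hEP
      have h1 : ∀ e ∈ E, Commute p e := fun e he => (Agent.RankOne.elem_commute hEP he hp).symm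
      refine ⟨h1, fun e he => ?_⟩
      have := ((h1 e he).inv_left).mul_left (hpq e he)
      rwa [inv_mul_cancel_left] at this
    rcases hS.pair E hE A hA with hEA | hEA | hEA
    · obtain ⟨h1, h2⟩ := key A a b hA haA hc hEA
      exact ⟨⟨hE, h1⟩, ⟨hE, h2⟩⟩
    swap
    · exact absurd hEA (hdeg E hE A hA)
    rcases hS.pair E hE B hB with hEB | hEB | hEB
    · obtain ⟨h1, h2⟩ := key B b a hB hbB (fun e he => by rw [← hab]; exact hc e he) hEB
      exact ⟨⟨hE, h2⟩, ⟨hE, h1⟩⟩
    swap
    · exact absurd hEB (hdeg E hE B hB)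
    exfalso
    have hAE := RankOnePair_symm hEA
    have hBE := RankOnePair_symm hEB
    obtain ⟨f, hf, -, hef⟩ := hAE.cond_left a⁻¹ (A.inv_mem haA) (inv_ne_one.2 ha1)
    obtain ⟨g, hg, -, heg⟩ := hBE.cond_left b hbB hb1
    have habE : Cfsg.conjBy E (a * b) = E :=
      Agent.RankOne.conjBy_of_commute fun e he => (hc e he).eq
    rw [← Agent.RankOne.conjBy_conjBy, Agent.RankOne.conjBy_eq_iff] at habE
    have hEab : Cfsg.conjBy E b⁻¹ = Cfsg.conjBy E a := by
      rw [Agent.RankOne.conjBy_eq_iff, inv_inv, Agent.RankOne.conjBy_conjBy]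
      have := Agent.RankOne.conjBy_of_commute (A := E) (g := a * b) fun e he => (hc e he).eq
      rw [← hab, this]
    rw [hEab] at heg
    rw [inv_inv] at hef
    have hB' : B ∈ Cfsg.unipotentSubgroups A E := by
      rw [← hef, Agent.RankOne.conjBy_eq_conjBy_iff, inv_inv, Agent.RankOne.conjBy_eq_iff] at heg
      rw [heg]
      exact Agent.RankOne.conjBy_mem_unipotents (Agent.RankOne.left_mem_unipotents A E)
        (Subgroup.mem_sup_right (E.inv_mem (E.mul_mem hf (E.inv_mem hg))))
    have hbA : B = A := by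
      by_contra hne
      apply hb1
      refine Agent.RankOne.eq_one_of_mem_of_conjBy_eq
        (Agent.RankOne.isRankOnePair_of_mem hAE hB' (Agent.RankOne.left_mem_unipotents A E) hne).1 hbB ?_
      -- `a` lies in `A` and in its conjugate by `b`
      have haconj : a ∈ Cfsg.conjBy A b := by
        have := Agent.RankOne.conj_mem_conjBy b haA
        rwa [← hab, mul_inv_cancel_right] at this
      exact Agent.RankOne.eq_of_mem_of_mem hAE
        (Agent.RankOne.conjBy_mem_unipotents (Agent.RankOne.left_mem_unipotents A E)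
          (Agent.RankOne.unipotent_le_sup hB' hbB))
        (Agent.RankOne.left_mem_unipotents A E) ha1 haconj haA
    subst hbA
    exact Agent.RankOne.not_commute hAE (B.mul_mem haA hbB) hab1 fun e he => (hc e he).eq
  · rintro ⟨⟨hE, h1⟩, -, h2⟩
    exact ⟨hE, fun e he => (h1 e he).mul_left (h2 e he)⟩

end Cfsg.Agent.S5026
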