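import Cfsg.Statements.S5027
import Cfsg.Agent.Lib.RankOne.RootSet

set_option autoImplicit false
open Cfsg

namespace Cfsg.Agent.S5027

/-- Let S be a set of abstract root subgroups of G such that every member of S has a rank one partner in S (the graph of rank one pairs on S has no isolated vertex). Then the second centre of G equals its centre. -/
theorem result {G : Type*} [Group G] {S : Set (Subgroup G)} (hS : Cfsg.IsRootSubgroupSet S)
    (hF : ∀ A ∈ S, ¬ Cfsg.IsIsolatedIn (Cfsg.FAdj S) S A) : Subgroup.upperCentralSeries G 2 = Subgroup.center G := by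
  refine le_antisymm ?_ (by
    rw [← Subgroup.upperCentralSeries_one G]
    exact Subgroup.upperCentralSeries_mono G one_le_two)
  intro z hz
  have hc : ∀ a : G, z * a * z⁻¹ * a⁻¹ ∈ Subgroup.center G := fun a => by
    have := Subgroup.mem_upperCentralSeries_succ_iff.1 hz a
    rwa [Subgroup.upperCentralSeries_one] at this
  have hle : (⨆ A ∈ S, A) ≤ Subgroup.centralizer {z} := by
    refine iSup₂_le fun A hA a ha => ?_
    rcases eq_or_ne a 1 with rfl | ha1
    · exact Subgroup.one_mem _
    obtain ⟨B, hB⟩ : ∃ B, Cfsg.FAdj S A B ∨ Cfsg.FAdj S B A := by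
      by_contra hcon
      push Not at hcon
      exact hF A hA ⟨hA, fun B => hcon B⟩
    have hB' : B ∈ S ∧ Cfsg.IsRankOnePair A B := by
      rcases hB with hB | hB
      · exact ⟨hB.2.1, hB.2.2⟩
      · exact ⟨hB.1, RankOnePair_symm hB.2.2⟩
    have hza : z * a * z⁻¹ * a⁻¹ * a ∈ Cfsg.conjBy A z := by
      rw [inv_mul_cancel_right]; exact Agent.RankOne.conj_mem_conjBy z ha
    have h1 := (Agent.RankOne.eq_of_translate hS hB'.2 hB'.1
      (Subgroup.center_le_centralizer _ (hc a)) ha ha1 (hS.conj_mem A hA z) hza).1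
    rw [mul_inv_eq_one, mul_inv_eq_iff_eq_mul] at h1
    intro y hy
    rw [Set.mem_singleton_iff] at hy
    rw [hy, h1]
  rw [hS.generates] at hle
  rw [Subgroup.mem_center_iff]
  intro g
  exact (hle (Subgroup.mem_top g) z rfl).symm

end Cfsg.Agent.S5027
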