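import Cfsg.Statements.S5028
import Cfsg.Agent.Lib.RankOne.RootSet

set_option autoImplicit false
open Cfsg

namespace Cfsg.Agent.S5028

/-- Let S be a set of abstract root subgroups of G and A a member of S having a rank one partner in S. Then A meets every other member of S trivially. -/
theorem result {G : Type*} [Group G] {S : Set (Subgroup G)} (hS : Cfsg.IsRootSubgroupSet S)
    {A : Subgroup G} (hA : ¬ Cfsg.IsIsolatedIn (Cfsg.FAdj S) S A) (hAS : A ∈ S) : ∀ B ∈ S, A ⊓ B = ⊥ ∨ A = B := by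
  intro B hB
  obtain ⟨D, hD⟩ : ∃ D, Cfsg.FAdj S A D ∨ Cfsg.FAdj S D A := by
    by_contra hcon
    push Not at hcon
    exact hA ⟨hAS, fun D => hcon D⟩
  have hD' : D ∈ S ∧ Cfsg.IsRankOnePair A D := by
    rcases hD with hD | hD
    · exact ⟨hD.2.1, hD.2.2⟩
    · exact ⟨hD.1, RankOnePair_symm hD.2.2⟩
  by_cases h : A ⊓ B = ⊥
  · exact Or.inl h
  · obtain ⟨⟨x, hx⟩, hx1⟩ := Subgroup.ne_bot_iff_exists_ne_one.1 h
    exact Or.inr (Agent.RankOne.eq_of_mem hS hD'.2 hD'.1 hx.1 (fun e => hx1 (Subtype.ext e)) hB hx.2).symm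

end Cfsg.Agent.S5028
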