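import Cfsg.Statements.S5029
import Cfsg.Agent.Lib.RankOne.Lines

set_option autoImplicit false
open Cfsg
open scoped commutatorElement

namespace Cfsg.Agent.S5029

/-- Let S be a set of abstract root subgroups of G, A ∈ S having a rank one partner in S, and B ∈ S with C = ⁅A, B⁆ ∈ S. Then the members of S contained in AC are the conjugates of A by elements of B together with C, they partition AC, the members of S inside AC partition AC so that A is a line partner of C, and for every non-identity a ∈ A the map b ↦ a⁻¹ b⁻¹ a b is an isomorphism from B onto C. -/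
theorem result {G : Type*} [Group G] {S : Set (Subgroup G)} (hS : Cfsg.IsRootSubgroupSet S)
    {A B : Subgroup G} (hA : ¬ Cfsg.IsIsolatedIn (Cfsg.FAdj S) S A) (hAS : A ∈ S) (hB : B ∈ S) (hC : ⁅A, B⁆ ∈ S) :
    Cfsg.membersIn S (A ⊔ ⁅A, B⁆) = (fun b : G => Cfsg.conjBy A b) '' (B : Set G) ∪ {⁅A, B⁆} ∧
    Cfsg.IsSubgroupPartition (A ⊔ ⁅A, B⁆) (Cfsg.membersIn S (A ⊔ ⁅A, B⁆)) ∧
    A ∈ Cfsg.linePartners S ⁅A, B⁆ ∧
    ∀ a ∈ A, a ≠ 1 → ∃ φ : ↥B ≃* ↥⁅A, B⁆, ∀ b : ↥B, (φ b : G) = a⁻¹ * (b : G)⁻¹ * a * b := by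
  obtain ⟨D, hD, h⟩ := Agent.RankOne.exists_partner hS hAS hA
  have hc := Agent.RankOne.case_of_commutator_mem hS hAS hB hC
  obtain ⟨hset, hpart⟩ := Agent.RankOne.line_partition hS h hAS hD hB hc
  have hne : A ≠ ⁅A, B⁆ := fun e => hS.ne_bot A hAS (by
    have := Agent.RankOne.line_inf hS h hAS hD hc
    rwa [← e, inf_idem] at this)
  refine ⟨hset, hpart, ⟨⟨hAS, hne, Agent.RankOne.central_left hc⟩, ?_⟩, fun a ha ha1 => ?_⟩
  · rw [sup_comm ⁅A, B⁆ A]
    exact hpart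
  have hmem : ∀ b : ↥B, a⁻¹ * (b : G)⁻¹ * a * b ∈ ⁅A, B⁆ := fun b => by
    have := Subgroup.commutator_mem_commutator (A.inv_mem ha) (B.inv_mem b.2)
    rwa [commutatorElement_def, inv_inv, inv_inv] at this
  let φ : ↥B →* ↥⁅A, B⁆ := MonoidHom.mk' (fun b => ⟨_, hmem b⟩) fun b b' => Subtype.ext (by
    simp only [Subgroup.coe_mul]
    have h1 := (Agent.RankOne.central_of_case hc (hmem b) (Subgroup.mem_sup_right b'.2)).eq
    have h2 := (Agent.RankOne.central_of_case hc (hmem b)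
      (Subgroup.commutator_le_sup A B (hmem b'))).eq
    calc a⁻¹ * ((b : G) * b')⁻¹ * a * ((b : G) * b')
        = (a⁻¹ * (b' : G)⁻¹ * a) * ((a⁻¹ * (b : G)⁻¹ * a * b) * b') := by group
      _ = (a⁻¹ * (b' : G)⁻¹ * a * b') * (a⁻¹ * (b : G)⁻¹ * a * b) := by rw [h1]; group
      _ = _ := by rw [h2])
  refine ⟨MulEquiv.ofBijective φ ⟨?_, ?_⟩, fun b => rfl⟩
  · rw [injective_iff_map_eq_one]
    intro b hb
    apply Subtype.ext
    refine Agent.RankOne.line_injective hS h hAS hB hD hc ha ha1 b.2 ?_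
    have := congrArg Subtype.val hb
    change a⁻¹ * (b : G)⁻¹ * a * b = 1 at this
    have h' := congrArg (fun t => (b : G) * a * t) this
    simpa [mul_assoc] using h'
  · rintro ⟨c, hcm⟩
    obtain ⟨b, hb, he⟩ := Agent.RankOne.exists_commutator_eq hc (A.inv_mem ha) (inv_ne_one.2 ha1) hcm
    refine ⟨⟨b⁻¹, B.inv_mem hb⟩, Subtype.ext ?_⟩
    change a⁻¹ * b⁻¹⁻¹ * a * b⁻¹ = c
    rw [← he, inv_inv, inv_inv]

end Cfsg.Agent.S5029
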