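import Cfsg.Statements.S5030
import Cfsg.Agent.Lib.RankOne.Lines

set_option autoImplicit false
open Cfsg
open scoped commutatorElement

namespace Cfsg.Agent.S5030

section
variable {G : Type*} [Group G] {S : Set (Subgroup G)} {A B C : Subgroup G}

open Cfsg.Agent.RankOne

theorem commutator_le_of_central {U Z : Subgroup G} {s : Set G} (hU : U = Subgroup.closure s)
    (hZ : ∀ z ∈ Z, ∀ u ∈ s, Commute z u) (h : ∀ x ∈ s, ∀ y ∈ s, ⁅x, y⁆ ∈ Z) :
    ⁅U, U⁆ ≤ Z ∧ ∀ z ∈ Z, ∀ u ∈ U, Commute z u := by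
  have hZU : ∀ z ∈ Z, ∀ u ∈ U, Commute z u := by
    intro z hz u hu
    rw [hU] at hu
    induction hu using Subgroup.closure_induction with
    | mem y hy => exact hZ z hz y hy
    | one => exact Commute.one_right z
    | mul y y' _ _ h1 h2 => exact h1.mul_right h2
    | inv y _ h1 => exact h1.inv_right
  refine ⟨?_, hZU⟩
  have hone : ∀ x ∈ U, (∀ y ∈ s, ⁅x, y⁆ ∈ Z) → ∀ y ∈ U, ⁅x, y⁆ ∈ Z := by
    intro x hx hs y hy
    rw [hU] at hy
    induction hy using Subgroup.closure_induction with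
    | mem y hy => exact hs y hy
    | one => simp
    | mul y y' hy' _ h1 h2 =>
      have e : ⁅x, y * y'⁆ = ⁅x, y⁆ * (y * ⁅x, y'⁆ * y⁻¹) := by simp only [commutatorElement_def]; group
      rw [e, ← (hZU _ h2 y (hU ▸ hy')).eq, mul_inv_cancel_right]
      exact Z.mul_mem h1 h2
    | inv y hy' h1 =>
      have e : ⁅x, y⁻¹⁆ = y⁻¹ * ⁅x, y⁆⁻¹ * y := by simp only [commutatorElement_def]; group
      rw [e, mul_assoc, ((hZU _ h1 y (hU ▸ hy')).inv_left).eq, inv_mul_cancel_left]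
      exact Z.inv_mem h1
  rw [Subgroup.commutator_le]
  intro x hx y hy
  refine hone x hx (fun y' hy' => ?_) y hy
  rw [← commutatorElement_inv]
  exact Z.inv_mem (hone y' (hU ▸ Subgroup.subset_closure hy') (h y' hy') x hx)

variable (hS : Cfsg.IsRootSubgroupSet S)
include hS

theorem not_rankOne (hA : A ∈ S) (hC : C ∈ S) (hAC : ⁅A, C⁆ = ⊥)
    (hc : Cfsg.RootCommutatorCase S C B) : ¬ Cfsg.IsRankOnePair ⁅C, B⁆ A := by
  intro h2
  obtain ⟨e, he, he1⟩ := member_exists_ne_one hS hC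
  obtain ⟨d, hd, -, hne⟩ := exists_commutator_ne_one hS hc he he1
  have hcm : (e * d * e⁻¹ * d⁻¹)⁻¹ ∈ ⁅C, B⁆ :=
    Subgroup.inv_mem _ (Subgroup.commutator_mem_commutator he hd)
  have hez : e ∈ Subgroup.centralizer ((⁅C, B⁆ ⊔ A : Subgroup G) : Set G) := by
    rw [Subgroup.sup_eq_closure, Subgroup.centralizer_closure]
    rintro y (hy | hy)
    · exact (central_of_case hc hy (Subgroup.mem_sup_left he)).eq
    · exact (elem_commute hAC hy he).eq
  refine he1 (eq_of_translate hS h2 hA hez hcm (inv_ne_one.2 hne) (hS.conj_mem C hC d) ?_).1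
  rw [← (central_of_case hc hcm (Subgroup.mem_sup_left he)).eq, mem_conjBy]
  simpa [mul_assoc] using he

/-- `⁅A, ⁅B, C⁆⁆` is centralised by `A`, `⁅B, C⁆` and `C`. -/
theorem inner_commute (hA : A ∈ S) (hC : C ∈ S) (hAC : ⁅A, C⁆ = ⊥)
    (h2 : Cfsg.RootCommutatorCase S B C) :
    (∀ q ∈ ⁅A, ⁅B, C⁆⁆, ∀ a ∈ A, Commute q a) ∧ (∀ q ∈ ⁅A, ⁅B, C⁆⁆, ∀ f ∈ ⁅B, C⁆, Commute q f) ∧
      (∀ q ∈ ⁅A, ⁅B, C⁆⁆, ∀ c ∈ C, Commute q c) := by
  have hcent : ∀ q ∈ ⁅A, ⁅B, C⁆⁆, ∀ c ∈ C, Commute q c := by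
    intro q hq c hc
    have hle : A ⊔ ⁅B, C⁆ ≤ Subgroup.centralizer {c} := sup_le
      (fun x hx y hy => by rw [Set.mem_singleton_iff] at hy; rw [hy]; exact (elem_commute hAC hx hc).eq.symm)
      (fun x hx y hy => by
        rw [Set.mem_singleton_iff] at hy; rw [hy]
        exact (central_of_case h2 hx (Subgroup.mem_sup_right hc)).eq.symm)
    exact ((hle (Subgroup.commutator_le_sup A ⁅B, C⁆ hq) c rfl).symm : q * c = c * q)
  rcases hS.pair A hA _ h2.1 with h | h | h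
  · have hq1 : ∀ q ∈ ⁅A, ⁅B, C⁆⁆, q = 1 := fun q hq => by rwa [h, Subgroup.mem_bot] at hq
    exact ⟨fun q hq a _ => by rw [hq1 q hq]; exact Commute.one_left a,
      fun q hq a _ => by rw [hq1 q hq]; exact Commute.one_left a, hcent⟩
  · refine absurd (RankOnePair_symm h) ?_
    rw [Subgroup.commutator_comm B C]
    exact not_rankOne hS hA hC hAC (case_symm h2)
  · exact ⟨fun q hq a ha => central_of_case h hq (Subgroup.mem_sup_left ha),
      fun q hq f hf => central_of_case h hq (Subgroup.mem_sup_right hf), hcent⟩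

/-- Facts about `X = ⟨A, b⁻¹ C b⟩`. -/
theorem half (hA : A ∈ S) (hC : C ∈ S) (hAC : ⁅A, C⁆ = ⊥)
    (h2 : Cfsg.RootCommutatorCase S B C) {b : G} (hb : b ∈ B) (hb1 : b ≠ 1) :
    ⁅⁅A ⊔ Cfsg.conjBy C b⁻¹, A ⊔ Cfsg.conjBy C b⁻¹⁆, A ⊔ Cfsg.conjBy C b⁻¹⁆ = ⊥ ∧
    (IsMulCommutative ↥(A ⊔ Cfsg.conjBy C b⁻¹) ↔ ⁅A, ⁅B, C⁆⁆ = ⊥) ∧
    ⁅B, C⁆ ≤ C ⊔ Cfsg.conjBy C b⁻¹ ∧
    (∀ q ∈ ⁅A, ⁅B, C⁆⁆, ∃ a ∈ A ⊔ Cfsg.conjBy C b⁻¹, a = q) := by
  obtain ⟨hqA, hqF, hqC⟩ := inner_commute hS hA hC hAC h2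
  have hconj : Cfsg.conjBy C b⁻¹ ≤ C ⊔ ⁅B, C⁆ := by
    rw [Subgroup.commutator_comm B C]
    exact conjBy_line_le hS (case_symm h2) (B.inv_mem hb)
  have hFC : ⁅C, ⁅B, C⁆⁆ = ⊥ := by rw [Subgroup.commutator_comm]; exact central_right h2
  -- each element of `⁅B, C⁆` is `(b⁻¹ c b) c⁻¹`
  have hf : ∀ f ∈ ⁅B, C⁆, ∃ c ∈ C, b⁻¹ * c * b * c⁻¹ = f := by
    intro f hf
    obtain ⟨c, hc, he⟩ := exists_commutator_eq h2 (B.inv_mem hb) (inv_ne_one.2 hb1) hf
    exact ⟨c, hc, by rw [← he, inv_inv]⟩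
  have hmemc : ∀ c ∈ C, b⁻¹ * c * b ∈ Cfsg.conjBy C b⁻¹ := fun c hc => by
    have := conj_mem_conjBy b⁻¹ hc
    rwa [inv_inv] at this
  have hFle : ⁅B, C⁆ ≤ C ⊔ Cfsg.conjBy C b⁻¹ := fun f hf' => by
    obtain ⟨c, hc, rfl⟩ := hf f hf'
    exact Subgroup.mul_mem _ (Subgroup.mem_sup_right (hmemc c hc))
      (Subgroup.mem_sup_left (C.inv_mem hc))
  have hbr : ∀ a ∈ A, ∀ y ∈ C ⊔ ⁅B, C⁆, ⁅a, y⁆ ∈ ⁅A, ⁅B, C⁆⁆ := by
    intro a ha y hy
    obtain ⟨c, hc, f, hf', rfl⟩ := mem_sup_of_commutator_eq_bot hFC hy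
    have hac : a * c * a⁻¹ = c := by
      rw [(elem_commute hAC ha hc).eq, mul_inv_cancel_right]
    have hq : ⁅a, f⁆ ∈ ⁅A, ⁅B, C⁆⁆ := Subgroup.commutator_mem_commutator ha hf'
    have e : ⁅a, c * f⁆ = ⁅a, f⁆ := by
      calc ⁅a, c * f⁆ = (a * c * a⁻¹) * ⁅a, f⁆ * c⁻¹ := by simp only [commutatorElement_def]; group
        _ = ⁅a, f⁆ := by rw [hac, ← (hqC _ hq c hc).eq, mul_inv_cancel_right]
    rw [e]; exact hq
  set Q := ⁅A, ⁅B, C⁆⁆
  obtain ⟨hXX, hXc⟩ := commutator_le_of_central (Z := Q) (Subgroup.sup_eq_closure A (Cfsg.conjBy C b⁻¹))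
    (fun q hq u hu => by
      rcases hu with hu | hu
      · exact hqA q hq u hu
      · obtain ⟨c, hc, f, hf', rfl⟩ := mem_sup_of_commutator_eq_bot hFC (hconj hu)
        exact (hqC q hq c hc).mul_right (hqF q hq f hf'))
    (fun x hx y hy => by
      rcases hx with hx | hx <;> rcases hy with hy | hy
      · rw [commutatorElement_eq_one_iff_mul_comm.2 (member_comm hS hA hx hy).eq]; exact Q.one_mem
      · exact hbr x hx y (hconj hy)
      · rw [← commutatorElement_inv]; exact Q.inv_mem (hbr y hy x (hconj hx))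
      · rw [commutatorElement_eq_one_iff_mul_comm.2 (member_comm hS (hS.conj_mem C hC b⁻¹) hx hy).eq]
        exact Q.one_mem)
  refine ⟨commutator_eq_bot_of fun q hq x hx => (hXc q (hXX hq) x hx).eq, ⟨fun hcomm => ?_, fun hbot => ?_⟩,
    hFle, fun q hq => ⟨q, ?_, rfl⟩⟩
  · refine commutator_eq_bot_of fun a ha f hf' => ?_
    obtain ⟨c, hc, rfl⟩ := hf f hf'
    exact ((elem_commute (self_commutator hcomm) (Subgroup.mem_sup_left ha)
      (Subgroup.mem_sup_right (hmemc c hc))).mul_right ((elem_commute hAC ha hc).inv_right)).eq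
  · rw [← Subgroup.commutator_self_eq_bot_iff, eq_bot_iff]
    exact hXX.trans (le_of_eq hbot)
  · have hle : Q ≤ A ⊔ Cfsg.conjBy C b⁻¹ := by
      refine Subgroup.commutator_le.2 fun a ha f hf' => ?_
      obtain ⟨c, hc, rfl⟩ := hf f hf'
      have hac : ∀ y : G, Commute a y → ∀ x : G, ⁅a, x * y⁆ = ⁅a, x⁆ := fun y hy x => by
        calc ⁅a, x * y⁆ = ⁅a, x⁆ * x * (a * y * a⁻¹ * y⁻¹) * x⁻¹ := by simp only [commutatorElement_def]; group
          _ = ⁅a, x⁆ := by rw [hy.eq]; group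
      rw [hac _ (elem_commute hAC ha hc).inv_right]
      exact Subgroup.commutator_le_sup _ _
        (Subgroup.commutator_mem_commutator ha (hmemc c hc))
    exact hle hq

end

/-- Let S be a set of abstract root subgroups of G and A, B, C ∈ S with ⁅A, B⁆ ∈ S and ⁅B, C⁆ ∈ S, where A and C are different and commute. For a non-identity b ∈ B put X = ⟨A, b⁻¹ C b⟩ and Y = ⟨b⁻¹ A b, C⟩ and R = ⟨A, B, C⟩. Then X and Y are either both abelian or both nilpotent of class exactly two; X and Y commute elementwise; XY is normal in R with R = (XY) B; and R is nilpotent. -/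
theorem result {G : Type*} [Group G] {S : Set (Subgroup G)} (hS : Cfsg.IsRootSubgroupSet S)
    {A B C : Subgroup G} (hA : A ∈ S) (hB : B ∈ S) (hC : C ∈ S) (hAB : ⁅A, B⁆ ∈ S) (hBC : ⁅B, C⁆ ∈ S)
    (hAC : C ∈ Cfsg.commutingPartners S A)
    {b : G} (hb : b ∈ B) (hb1 : b ≠ 1) :
    ((IsMulCommutative ↥(A ⊔ Cfsg.conjBy C b⁻¹) ∧ IsMulCommutative ↥(Cfsg.conjBy A b⁻¹ ⊔ C)) ∨
      ((¬ IsMulCommutative ↥(A ⊔ Cfsg.conjBy C b⁻¹) ∧
          ⁅⁅A ⊔ Cfsg.conjBy C b⁻¹, A ⊔ Cfsg.conjBy C b⁻¹⁆, A ⊔ Cfsg.conjBy C b⁻¹⁆ = ⊥) ∧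
        (¬ IsMulCommutative ↥(Cfsg.conjBy A b⁻¹ ⊔ C) ∧
          ⁅⁅Cfsg.conjBy A b⁻¹ ⊔ C, Cfsg.conjBy A b⁻¹ ⊔ C⁆, Cfsg.conjBy A b⁻¹ ⊔ C⁆ = ⊥))) ∧
    ⁅A ⊔ Cfsg.conjBy C b⁻¹, Cfsg.conjBy A b⁻¹ ⊔ C⁆ = ⊥ ∧
    (∀ r ∈ A ⊔ B ⊔ C, Cfsg.conjBy ((A ⊔ Cfsg.conjBy C b⁻¹) ⊔ (Cfsg.conjBy A b⁻¹ ⊔ C)) r =
      (A ⊔ Cfsg.conjBy C b⁻¹) ⊔ (Cfsg.conjBy A b⁻¹ ⊔ C)) ∧
    ((A ⊔ Cfsg.conjBy C b⁻¹) ⊔ (Cfsg.conjBy A b⁻¹ ⊔ C)) ⊔ B = A ⊔ B ⊔ C ∧
    Group.IsNilpotent ↥(A ⊔ B ⊔ C) := by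
  have hACb : ⁅A, C⁆ = ⊥ := hAC.2.2
  have hCA : ⁅C, A⁆ = ⊥ := by rw [Subgroup.commutator_comm]; exact hACb
  have h1 := Agent.RankOne.case_of_commutator_mem hS hA hB hAB
  have h2 := Agent.RankOne.case_of_commutator_mem hS hB hC hBC
  obtain ⟨hX2, hXc, hFle, hQX⟩ := half hS hA hC hACb h2 hb hb1
  obtain ⟨hY2, hYc, hEle, hQY⟩ := half hS hC hA hCA (Agent.RankOne.case_symm h1) hb hb1
  rw [sup_comm C (Cfsg.conjBy A b⁻¹)] at hY2 hYc hQY
  rw [Subgroup.commutator_comm B A] at hEle hQY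
  set Xs := A ⊔ Cfsg.conjBy C b⁻¹ with hXs
  set Ys := Cfsg.conjBy A b⁻¹ ⊔ C with hYs
  set E := ⁅A, B⁆ with hEdef
  set F := ⁅B, C⁆ with hFdef
  have hEA : ∀ e ∈ E, ∀ a ∈ A, Commute e a := fun e he a ha =>
    Agent.RankOne.central_of_case h1 he (Subgroup.mem_sup_left ha)
  have hEB : ∀ e ∈ E, ∀ x ∈ B, Commute e x := fun e he a ha =>
    Agent.RankOne.central_of_case h1 he (Subgroup.mem_sup_right ha)
  have hFB : ∀ e ∈ F, ∀ x ∈ B, Commute e x := fun e he a ha =>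
    Agent.RankOne.central_of_case h2 he (Subgroup.mem_sup_left ha)
  have hFC : ∀ e ∈ F, ∀ x ∈ C, Commute e x := fun e he a ha =>
    Agent.RankOne.central_of_case h2 he (Subgroup.mem_sup_right ha)
  have hAconj : Cfsg.conjBy A b⁻¹ ≤ A ⊔ E := Agent.RankOne.conjBy_line_le hS h1 (B.inv_mem hb)
  have hXY : ⁅Xs, Ys⁆ = ⊥ := by
    rw [eq_bot_iff, Subgroup.commutator_le]
    intro x hx y hy
    rw [Subgroup.mem_bot, commutatorElement_eq_one_iff_mul_comm]
    have h' : Xs ≤ Subgroup.centralizer (Ys : Set G) := by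
      have hcc : ∀ a ∈ A, ∀ z ∈ Cfsg.conjBy A b⁻¹, Commute a z := by
        intro a ha z hz
        obtain ⟨a', ha', e, he, rfl⟩ := Agent.RankOne.mem_sup_of_commutator_eq_bot
          (by rw [Subgroup.commutator_comm]; exact Agent.RankOne.central_left h1) (hAconj hz)
        exact (Agent.RankOne.member_comm hS hA ha ha').mul_right (hEA e he a ha).symm
      have hcC : ∀ z ∈ Cfsg.conjBy C b⁻¹, ∀ c ∈ C, Commute z c := by
        intro z hz c hc
        have hle := Agent.RankOne.conjBy_line_le hS (Agent.RankOne.case_symm h2) (B.inv_mem hb) hz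
        obtain ⟨c', hc', f, hf, rfl⟩ := Agent.RankOne.mem_sup_of_commutator_eq_bot
          (by rw [Subgroup.commutator_comm C B, Subgroup.commutator_comm]
              exact Agent.RankOne.central_right h2) hle
        exact (Agent.RankOne.member_comm hS hC hc' hc).mul_left
          (hFC f (by rwa [hFdef, Subgroup.commutator_comm]) c hc)
      have hbb : ∀ z ∈ Cfsg.conjBy C b⁻¹, ∀ w ∈ Cfsg.conjBy A b⁻¹, Commute z w := by
        intro z hz w hw
        have h0 : ⁅Cfsg.conjBy C b⁻¹, Cfsg.conjBy A b⁻¹⁆ = ⊥ := by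
          rw [← Agent.RankOne.conjBy_commutator, hCA, Agent.RankOne.conjBy_bot]
        exact Agent.RankOne.elem_commute h0 hz hw
      rw [hYs, Subgroup.sup_eq_closure (Cfsg.conjBy A b⁻¹) C, Subgroup.centralizer_closure]
      refine sup_le (fun a ha w hw => ?_) (fun z hz w hw => ?_)
      · rcases hw with hw | hw
        · exact (hcc a ha w hw).symm.eq
        · exact (Agent.RankOne.elem_commute hACb ha hw).symm.eq
      · rcases hw with hw | hw
        · exact (hbb z hz w hw).symm.eq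
        · exact (hcC z hz w hw).symm.eq
    exact (h' hx y hy).symm
  set W := Xs ⊔ Ys with hW
  have hAW : A ≤ W := le_sup_left.trans le_sup_left
  have hCW : C ≤ W := le_sup_right.trans le_sup_right
  have hEW : E ≤ W := hEle.trans (sup_le hAW (le_sup_left.trans le_sup_right))
  have hFW : F ≤ W := hFle.trans (sup_le hCW (le_sup_right.trans le_sup_left))
  set R := A ⊔ B ⊔ C with hR
  have hAR : A ≤ R := le_sup_left.trans le_sup_left
  have hBR : B ≤ R := le_sup_right.trans le_sup_left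
  have hCR : C ≤ R := le_sup_right
  have hconjle : ∀ P : Subgroup G, P ≤ R → Cfsg.conjBy P b⁻¹ ≤ R := fun P hP =>
    Agent.RankOne.conjBy_le_of_le_of_mem hP (R.inv_mem (hBR hb))
  have hWR : W ≤ R := sup_le (sup_le hAR (hconjle C hCR)) (sup_le (hconjle A hAR) hCR)
  have hWn : R ≤ Subgroup.normalizer (W : Set G) := by
    refine sup_le (sup_le (hAW.trans Subgroup.le_normalizer) ?_) (hCW.trans Subgroup.le_normalizer)
    refine Agent.RankOne.le_normalizer_of_conjBy_le fun x hx => ?_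
    have hA' : Cfsg.conjBy A x ≤ W := (Agent.RankOne.conjBy_line_le hS h1 hx).trans (sup_le hAW hEW)
    have hC' : Cfsg.conjBy C x ≤ W :=
      (Agent.RankOne.conjBy_line_le hS (Agent.RankOne.case_symm h2) hx).trans
        (sup_le hCW (by rw [Subgroup.commutator_comm C B]; exact hFW))
    have hE' : Cfsg.conjBy E x ≤ W := by
      rw [Agent.RankOne.conjBy_of_commute fun e he => (hEB e he x hx).symm.eq]; exact hEW
    have hF' : Cfsg.conjBy F x ≤ W := by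
      rw [Agent.RankOne.conjBy_of_commute fun e he => (hFB e he x hx).symm.eq]; exact hFW
    have hCb : Cfsg.conjBy C b⁻¹ ≤ C ⊔ F := by
      rw [hFdef, Subgroup.commutator_comm B C]
      exact Agent.RankOne.conjBy_line_le hS (Agent.RankOne.case_symm h2) (B.inv_mem hb)
    simp only [hW, hXs, hYs, Agent.RankOne.conjBy_sup]
    refine sup_le (sup_le hA' ?_) (sup_le ?_ hC')
    · exact (Agent.RankOne.conjBy_mono hCb x).trans
        (by rw [Agent.RankOne.conjBy_sup]; exact sup_le hC' hF')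
    · exact (Agent.RankOne.conjBy_mono hAconj x).trans
        (by rw [Agent.RankOne.conjBy_sup]; exact sup_le hA' hE')
  have habel : IsMulCommutative ↥Xs ↔ IsMulCommutative ↥Ys := by
    rw [hXc, hYc, Subgroup.commutator_comm A, Subgroup.commutator_comm C]
    constructor
    · intro h
      have h' : ⁅⁅C, A⁆, B⁆ = ⊥ := by rw [hCA, Subgroup.commutator_bot_left]
      have := Subgroup.commutator_commutator_eq_bot_of_rotate (H₁ := A) (H₂ := B) (H₃ := C)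
        (by rwa [hFdef] at h) h'
      rwa [Subgroup.commutator_comm B A]
    · intro h
      have h' : ⁅⁅A, C⁆, B⁆ = ⊥ := by rw [hACb, Subgroup.commutator_bot_left]
      have := Subgroup.commutator_commutator_eq_bot_of_rotate (H₁ := C) (H₂ := B) (H₃ := A)
        (by simpa [Subgroup.commutator_comm B A] using h) h'
      rwa [hFdef, Subgroup.commutator_comm B C]
  refine ⟨?_, hXY, fun r hr => Agent.RankOne.conjBy_of_mem_normalizer (hWn hr), ?_, ?_⟩
  · by_cases hx : IsMulCommutative ↥Xs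
    · exact Or.inl ⟨hx, habel.1 hx⟩
    · exact Or.inr ⟨⟨hx, hX2⟩, fun hy => hx (habel.2 hy), hY2⟩
  · exact le_antisymm (sup_le hWR hBR) (sup_le (sup_le (hAW.trans le_sup_left) le_sup_right)
      (hCW.trans le_sup_left))
  -- nilpotency
  set T : ℕ → Subgroup G := fun n => (Subgroup.upperCentralSeries ↥R n).map R.subtype with hT
  have hTR : ∀ n, T n ≤ R := fun n x hx => by obtain ⟨y, -, rfl⟩ := hx; exact y.2
  have hTn : ∀ n, ∀ x ∈ T n, ∀ r ∈ R, r * x * r⁻¹ ∈ T n := by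
    rintro n _ ⟨y, hy, rfl⟩ r hr
    exact ⟨⟨r, hr⟩ * y * ⟨r, hr⟩⁻¹, Subgroup.Normal.conj_mem inferInstance y hy _, by simp⟩
  have step : ∀ n, ∀ x ∈ R, (∀ y ∈ A, ⁅x, y⁆ ∈ T n) → (∀ y ∈ B, ⁅x, y⁆ ∈ T n) →
      (∀ y ∈ C, ⁅x, y⁆ ∈ T n) → x ∈ T (n + 1) := by
    intro n x hx hA' hB' hC'
    let K : Subgroup G :=
      { carrier := {y | y ∈ R ∧ ⁅x, y⁆ ∈ T n}
        one_mem' := ⟨R.one_mem, by simp⟩
        mul_mem' := fun {y z} hy hz => ⟨R.mul_mem hy.1 hz.1, by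
          rw [show ⁅x, y * z⁆ = ⁅x, y⁆ * (y * ⁅x, z⁆ * y⁻¹) by simp only [commutatorElement_def]; group]
          exact Subgroup.mul_mem _ hy.2 (hTn n _ hz.2 y hy.1)⟩
        inv_mem' := fun {y} hy => ⟨R.inv_mem hy.1, by
          rw [show ⁅x, y⁻¹⁆ = y⁻¹ * ⁅x, y⁆⁻¹ * y⁻¹⁻¹ by simp only [commutatorElement_def]; group]
          exact hTn n _ (Subgroup.inv_mem _ hy.2) _ (R.inv_mem hy.1)⟩ }
    have hle : R ≤ K := sup_le (sup_le (fun y hy => ⟨hAR hy, hA' y hy⟩)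
      (fun y hy => ⟨hBR hy, hB' y hy⟩)) (fun y hy => ⟨hCR hy, hC' y hy⟩)
    refine ⟨⟨x, hx⟩, Subgroup.mem_upperCentralSeries_succ_iff.2 fun y => ?_, rfl⟩
    obtain ⟨w, hw, hwe⟩ := (hle y.2).2
    have : ⁅(⟨x, hx⟩ : ↥R), y⁆ = w := Subtype.ext (by rw [Subgroup.subtype_apply] at hwe; rw [hwe]; rfl)
    rwa [this]
  have hone : ∀ n, (1 : G) ∈ T n := fun n => Subgroup.one_mem _
  have ofComm : ∀ n, ∀ x y : G, Commute x y → ⁅x, y⁆ ∈ T n := fun n x y h => by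
    rw [commutatorElement_eq_one_iff_mul_comm.2 h.eq]; exact hone n
  obtain ⟨hqA, hqF, hqC⟩ := inner_commute hS hA hC hACb h2
  obtain ⟨hqC', hqE, hqA'⟩ := inner_commute hS hC hA hCA (Agent.RankOne.case_symm h1)
  rw [Subgroup.commutator_comm B A] at hqC' hqE hqA'
  have hQE : ∀ q ∈ ⁅A, F⁆, ∀ e ∈ E, Commute q e := by
    intro q hq e he
    obtain ⟨q', hq', hqq⟩ := hQX q hq
    rw [hqq] at hq'
    obtain ⟨a', ha', rfl⟩ := Agent.RankOne.exists_commutator_eq' h1 (B.inv_mem hb) (inv_ne_one.2 hb1) he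
    have e' : a' * b⁻¹ * a'⁻¹ * b⁻¹⁻¹ = a' * (b⁻¹ * a'⁻¹ * b⁻¹⁻¹) := by group
    rw [e']
    exact (hqA q hq a' ha').mul_right (Agent.RankOne.elem_commute hXY hq'
      (Subgroup.mem_sup_left (Agent.RankOne.conj_mem_conjBy b⁻¹ (A.inv_mem ha'))))
  have hQF : ∀ q ∈ ⁅C, E⁆, ∀ f ∈ F, Commute q f := by
    intro q hq f hf
    obtain ⟨q', hq', hqq⟩ := hQY q hq
    rw [hqq] at hq'
    obtain ⟨c', hc', rfl⟩ := Agent.RankOne.exists_commutator_eq h2 (B.inv_mem hb) (inv_ne_one.2 hb1) hf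
    refine (Commute.mul_right ?_ ((hqC' q hq c' hc').inv_right))
    exact (Agent.RankOne.elem_commute hXY
      (Subgroup.mem_sup_right (Agent.RankOne.conj_mem_conjBy b⁻¹ hc')) hq').symm
  have conj_ef : ∀ {g e f q : G}, Commute g e → g * f * g⁻¹ = q * f → Commute q e → Commute q f →
      Commute ⁅e, f⁆ g := by
    intro g e f q hge hgf hqe hqf
    have h' : g * ⁅e, f⁆ * g⁻¹ = ⁅e, f⁆ := by
      calc g * ⁅e, f⁆ * g⁻¹ = ⁅g * e * g⁻¹, g * f * g⁻¹⁆ := by simp only [commutatorElement_def]; group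
        _ = ⁅e, q * f⁆ := by rw [hge.eq, mul_inv_cancel_right, hgf]
        _ = (e * q * e⁻¹) * ⁅e, f⁆ * q⁻¹ := by simp only [commutatorElement_def]; group
        _ = q * ⁅e, f⁆ * q⁻¹ := by rw [hqe.symm.eq, mul_inv_cancel_right]
        _ = ⁅e, f⁆ := by
          have : Commute q ⁅e, f⁆ := by
            rw [commutatorElement_def]
            exact ((hqe.mul_right hqf).mul_right hqe.inv_right).mul_right hqf.inv_right
          rw [this.eq, mul_inv_cancel_right]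
    exact (show Commute g ⁅e, f⁆ from mul_inv_eq_iff_eq_mul.1 h').symm
  have hT1 : ∀ e ∈ E, ∀ f ∈ F, ⁅e, f⁆ ∈ T 1 := by
    intro e he f hf
    refine step 0 _ ?_ (fun a ha => ofComm 0 _ _ ?_) (fun x hx => ofComm 0 _ _ ?_) (fun c hc => ofComm 0 _ _ ?_)
    · rw [commutatorElement_def]
      exact R.mul_mem (R.mul_mem (R.mul_mem (hWR (hEW he)) (hWR (hFW hf))) (R.inv_mem (hWR (hEW he))))
        (R.inv_mem (hWR (hFW hf)))
    · have hq : ⁅a, f⁆ ∈ ⁅A, F⁆ := Subgroup.commutator_mem_commutator ha hf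
      exact conj_ef (hEA e he a ha).symm (show a * f * a⁻¹ = ⁅a, f⁆ * f by simp [commutatorElement_def])
        (hQE _ hq e he) (hqF _ hq f hf)
    · rw [commutatorElement_def]
      exact (((hEB e he x hx).mul_left (hFB f hf x hx)).mul_left (hEB e he x hx).inv_left).mul_left
        (hFB f hf x hx).inv_left
    · have hq : ⁅c, e⁆ ∈ ⁅C, E⁆ := Subgroup.commutator_mem_commutator hc he
      have hg := conj_ef (hFC f hf c hc).symm (show c * e * c⁻¹ = ⁅c, e⁆ * e by simp [commutatorElement_def]) (hQF _ hq f hf) (hqE _ hq e he)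
      rw [← commutatorElement_inv]
      exact hg.inv_left
  have hEFT : ∀ e ∈ E, ∀ f ∈ F, ⁅f, e⁆ ∈ T 1 := fun e he f hf => by
    rw [← commutatorElement_inv]; exact Subgroup.inv_mem _ (hT1 e he f hf)
  have swap : ∀ {n x y}, ⁅x, y⁆ ∈ T n → ⁅y, x⁆ ∈ T n := fun {n x y} h => by
    rw [← commutatorElement_inv]; exact Subgroup.inv_mem _ h
  have hT2a : ∀ a ∈ A, ∀ f ∈ F, ⁅a, f⁆ ∈ T 2 := by
    intro a ha f hf
    have hq : ⁅a, f⁆ ∈ ⁅A, F⁆ := Subgroup.commutator_mem_commutator ha hf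
    refine step 1 _ ?_ (fun a' ha' => ofComm 1 _ _ (hqA _ hq a' ha')) (fun x hx => swap ?_)
      (fun c hc => ofComm 1 _ _ (hqC _ hq c hc))
    · rw [commutatorElement_def]
      exact R.mul_mem (R.mul_mem (R.mul_mem (hAR ha) (hWR (hFW hf))) (R.inv_mem (hAR ha)))
        (R.inv_mem (hWR (hFW hf)))
    · set e := a⁻¹ * x * a * x⁻¹ with he_def
      have he : e ∈ E := by
        have := Subgroup.commutator_mem_commutator (A.inv_mem ha) hx
        rwa [commutatorElement_def, inv_inv] at this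
      have e1 : ⁅x, ⁅a, f⁆⁆ = a * ⁅e, f⁆ * a⁻¹ := by
        calc ⁅x, ⁅a, f⁆⁆ = (x * ⁅a, f⁆ * x⁻¹) * ⁅a, f⁆⁻¹ := commutatorElement_def _ _
          _ = ⁅x * a * x⁻¹, x * f * x⁻¹⁆ * ⁅a, f⁆⁻¹ := by simp only [commutatorElement_def]; group
          _ = ⁅a * e, f⁆ * ⁅a, f⁆⁻¹ := by
            rw [(hFB f hf x hx).symm.eq, mul_inv_cancel_right,
              show x * a * x⁻¹ = a * e by simp only [he_def]; group]
          _ = _ := by simp only [commutatorElement_def]; group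
      rw [e1]
      exact hTn 1 _ (hT1 e he f hf) a (hAR ha)
  have hT2c : ∀ c ∈ C, ∀ e ∈ E, ⁅c, e⁆ ∈ T 2 := by
    intro c hc e he
    have hq : ⁅c, e⁆ ∈ ⁅C, E⁆ := Subgroup.commutator_mem_commutator hc he
    refine step 1 _ ?_ (fun a ha => ofComm 1 _ _ (hqA' _ hq a ha)) (fun x hx => swap ?_)
      (fun c' hc' => ofComm 1 _ _ (hqC' _ hq c' hc'))
    · rw [commutatorElement_def]
      exact R.mul_mem (R.mul_mem (R.mul_mem (hCR hc) (hWR (hEW he))) (R.inv_mem (hCR hc)))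
        (R.inv_mem (hWR (hEW he)))
    · set f := c⁻¹ * x * c * x⁻¹ with hf_def
      have hf : f ∈ F := by
        have := Subgroup.commutator_mem_commutator (C.inv_mem hc) hx
        rw [commutatorElement_def, inv_inv] at this
        rwa [hFdef, Subgroup.commutator_comm]
      have e1 : ⁅x, ⁅c, e⁆⁆ = c * ⁅f, e⁆ * c⁻¹ := by
        calc ⁅x, ⁅c, e⁆⁆ = (x * ⁅c, e⁆ * x⁻¹) * ⁅c, e⁆⁻¹ := commutatorElement_def _ _
          _ = ⁅x * c * x⁻¹, x * e * x⁻¹⁆ * ⁅c, e⁆⁻¹ := by simp only [commutatorElement_def]; group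
          _ = ⁅c * f, e⁆ * ⁅c, e⁆⁻¹ := by
            rw [(hEB e he x hx).symm.eq, mul_inv_cancel_right,
              show x * c * x⁻¹ = c * f by simp only [hf_def]; group]
          _ = _ := by simp only [commutatorElement_def]; group
      rw [e1]
      exact hTn 1 _ (hEFT e he f hf) c (hCR hc)
  have hT3E : ∀ e ∈ E, e ∈ T 3 := fun e he => step 2 e (hWR (hEW he))
    (fun a ha => ofComm 2 _ _ (hEA e he a ha)) (fun x hx => ofComm 2 _ _ (hEB e he x hx))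
    (fun c hc => swap (hT2c c hc e he))
  have hT3F : ∀ f ∈ F, f ∈ T 3 := fun f hf => step 2 f (hWR (hFW hf))
    (fun a ha => swap (hT2a a ha f hf)) (fun x hx => ofComm 2 _ _ (hFB f hf x hx))
    (fun c hc => ofComm 2 _ _ (hFC f hf c hc))
  have hT4A : ∀ a ∈ A, a ∈ T 4 := fun a ha => step 3 a (hAR ha)
    (fun a' ha' => ofComm 3 _ _ (Agent.RankOne.member_comm hS hA ha ha'))
    (fun x hx => hT3E _ (Subgroup.commutator_mem_commutator ha hx))
    (fun c hc => ofComm 3 _ _ (Agent.RankOne.elem_commute hACb ha hc))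
  have hT4C : ∀ c ∈ C, c ∈ T 4 := fun c hc => step 3 c (hCR hc)
    (fun a ha => ofComm 3 _ _ (Agent.RankOne.elem_commute hCA hc ha))
    (fun x hx => hT3F _ (by
      rw [hFdef, Subgroup.commutator_comm]; exact Subgroup.commutator_mem_commutator hc hx))
    (fun c' hc' => ofComm 3 _ _ (Agent.RankOne.member_comm hS hC hc hc'))
  have hT5B : ∀ x ∈ B, x ∈ T 5 := fun x hx => step 4 x (hBR hx)
    (fun a ha => by
      rw [commutatorElement_def, mul_assoc, mul_assoc, ← mul_assoc a, ← mul_assoc, ← mul_assoc]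
      exact Subgroup.mul_mem _ (hTn 4 _ (hT4A a ha) x (hBR hx)) (Subgroup.inv_mem _ (hT4A a ha)))
    (fun y hy => ofComm 4 _ _ (Agent.RankOne.member_comm hS hB hx hy))
    (fun c hc => by
      rw [commutatorElement_def]
      exact Subgroup.mul_mem _ (hTn 4 _ (hT4C c hc) x (hBR hx)) (Subgroup.inv_mem _ (hT4C c hc)))
  have mono : ∀ x, x ∈ T 4 → x ∈ T 5 := fun x hx =>
    Subgroup.map_mono (Subgroup.upperCentralSeries_mono _ (by norm_num)) hx
  have hRT : R ≤ T 5 := sup_le (sup_le (fun a ha => mono a (hT4A a ha)) hT5B)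
    (fun c hc => mono c (hT4C c hc))
  refine ⟨5, ?_⟩
  rw [eq_top_iff]
  intro y _
  obtain ⟨w, hw, hwe⟩ := hRT y.2
  rwa [← Subtype.ext hwe]

end Cfsg.Agent.S5030
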