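import Cfsg.Statements.S5031
import Cfsg.Agent.Lib.RankOne.Connected

set_option autoImplicit false
open Cfsg

namespace Cfsg.Agent.S5031

/-- Let S be a set of abstract root subgroups of G and let A, B ∈ S lie in different connected components of the graph of rank one pairs on S, each component having more than one member. Then B is not a line partner of A. -/
theorem result {G : Type*} [Group G] {S : Set (Subgroup G)} (hS : Cfsg.IsRootSubgroupSet S)
    {A B : Subgroup G} (hA : A ∈ S) (hB : B ∈ S)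
    (hne : Cfsg.componentOf (Cfsg.FAdj S) S A ≠ Cfsg.componentOf (Cfsg.FAdj S) S B)
    (hA2 : ∃ A' ∈ Cfsg.componentOf (Cfsg.FAdj S) S A, A' ≠ A) (hB2 : ∃ B' ∈ Cfsg.componentOf (Cfsg.FAdj S) S B, B' ≠ B) :
    B ∉ Cfsg.linePartners S A := by
  intro hline
  have key : ∀ P : Subgroup G, (∃ P' ∈ Cfsg.componentOf (Cfsg.FAdj S) S P, P' ≠ P) →
      ∃ D ∈ S, Cfsg.IsRankOnePair P D := by
    rintro P ⟨P', ⟨-, hreach⟩, hne'⟩
    rcases Relation.ReflTransGen.cases_head hreach with e | ⟨D, hD, -⟩
    · exact absurd e.symm hne'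
    · exact ⟨D, hD.2.1, hD.2.2⟩
  have hreach := Agent.RankOne.fReach_of_line hS hA hB (key A hA2) (key B hB2) hline.1.2.1.symm hline
  apply hne
  ext P
  exact ⟨fun hP => ⟨hP.1, (Agent.RankOne.fReach_symm hreach).trans hP.2⟩,
    fun hP => ⟨hP.1, hreach.trans hP.2⟩⟩

end Cfsg.Agent.S5031
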