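import Cfsg.Statements.S5033
import Cfsg.Agent.Lib.RankOne.Connected
import Cfsg.Agent.S5020

set_option autoImplicit false
open Cfsg

open scoped commutatorElement

namespace Cfsg.Agent.S5033

open Cfsg.Agent.RankOne

section

variable {G : Type*} [Group G] {S : Set (Subgroup G)} (hS : Cfsg.IsRootSubgroupSet S)
  (h1 : Cfsg.IsConnectedFamily (Cfsg.FAdj S) S)
include hS h1

theorem exists_conj {A B : Subgroup G} (hA : A ∈ S) (hB : B ∈ S) : ∃ g, B = Cfsg.conjBy A g := by
  have := h1 A hA B hB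
  clear hB
  induction this with
  | refl => exact ⟨1, (conjBy_one A).symm⟩
  | @tail X Y _ e ih =>
    obtain ⟨g, rfl⟩ := ih
    obtain ⟨x, -, hx⟩ := exists_conjBy_swap e.2.2
    exact ⟨x * g, by rw [← hx, conjBy_conjBy]⟩

theorem map_eq_of_noncentral (M : Subgroup G) [M.Normal] {A B : Subgroup G} (h : Cfsg.IsRankOnePair A B)
    {y : G} (hy : y ∈ A ⊔ B) (hyM : y ∈ M)
    (hnc : y ∉ Subgroup.centralizer ((A ⊔ B : Subgroup G) : Set G)) :
    A.map (QuotientGroup.mk' M) = B.map (QuotientGroup.mk' M) := by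
  have hn : A ⊔ B ≤ Subgroup.normalizer ((M ⊓ (A ⊔ B) : Subgroup G) : Set G) :=
    le_normalizer_of_conjBy_le fun g hg => by
      rw [conjBy_inf, conjBy_of_normal inferInstance, conjBy_of_mem hg]
  have hkill : (M ⊓ (A ⊔ B)).map (QuotientGroup.mk' M) = ⊥ :=
    (Subgroup.map_eq_bot_iff _).2 (by rw [QuotientGroup.ker_mk']; exact inf_le_left)
  have hA := (sup_eq_or_le_centralizer h inf_le_right hn).resolve_right fun hc => hnc (hc ⟨hyM, hy⟩)
  have hB := (sup_eq_or_le_centralizer (RankOnePair_symm h) (N := M ⊓ (A ⊔ B))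
    (by rw [sup_comm B A]; exact inf_le_right) (by rw [sup_comm B A]; exact hn)).resolve_right
    fun hc => hnc (by rw [sup_comm B A] at hc; exact hc ⟨hyM, hy⟩)
  have e1 := congrArg (Subgroup.map (QuotientGroup.mk' M)) hA
  have e2 := congrArg (Subgroup.map (QuotientGroup.mk' M)) hB
  rw [Subgroup.map_sup, hkill, bot_sup_eq] at e1 e2
  rw [e1, e2, sup_comm]

theorem top_of_meet (hperf : commutator G = ⊤) (M : Subgroup G) [M.Normal] {A : Subgroup G}
    (hA : A ∈ S) {a : G} (ha : a ∈ A) (ha1 : a ≠ 1) (haM : a ∈ M) : M = ⊤ := by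
  set π := QuotientGroup.mk' M
  have hall : ∀ X ∈ S, X.map π = A.map π := by
    intro X hX
    have := h1 A hA X hX
    clear hX
    induction this with
    | refl => rfl
    | @tail Y Z _ e ih =>
      obtain ⟨g, hg⟩ := exists_conj hS h1 hA e.1
      have hy : g * a * g⁻¹ ∈ Y := hg ▸ conj_mem_conjBy g ha
      rw [← ih]
      refine (map_eq_of_noncentral hS h1 M e.2.2 (Subgroup.mem_sup_left hy)
        (Subgroup.Normal.conj_mem inferInstance _ haM g) fun hc => ?_).symm
      refine not_commute e.2.2 hy (fun e' => ha1 (conj_eq_one_iff.1 e')) fun z hz => ?_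
      exact (hc z (Subgroup.mem_sup_right hz)).symm
  have hle : (⊤ : Subgroup G).map π ≤ A.map π := by
    rw [← hS.generates, Subgroup.map_iSup]
    refine iSup_le fun X => ?_
    rw [Subgroup.map_iSup]
    exact iSup_le fun hX => (hall X hX).le
  have hc : (⁅(⊤ : Subgroup G), (⊤ : Subgroup G)⁆ : Subgroup G).map π = ⊥ := by
    rw [eq_bot_iff, Subgroup.map_commutator]
    refine (Subgroup.commutator_mono hle hle).trans ?_
    rw [← Subgroup.map_commutator, self_commutator (hS.commutative A hA), Subgroup.map_bot]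
  rw [← commutator_def, hperf, Subgroup.map_eq_bot_iff, QuotientGroup.ker_mk'] at hc
  exact top_le_iff.1 hc

theorem top_of_noncentral (hperf : commutator G = ⊤)
    (h3 : Cfsg.IsDegenerateRootSet S → ∀ A ∈ S, 3 < ENat.card A)
    (h4 : ∀ A ∈ S, ∀ B ∈ Cfsg.rankOnePartners S A, Cfsg.IsSpecialRankOnePair A B)
    (M : Subgroup G) [M.Normal] {A B : Subgroup G} (hA : A ∈ S) (hB : B ∈ S)
    (h : Cfsg.IsRankOnePair A B) {y : G} (hy : y ∈ A ⊔ B) (hyM : y ∈ M)
    (hnc : y ∉ Subgroup.centralizer ((A ⊔ B : Subgroup G) : Set G)) : M = ⊤ := by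
  have hAB := map_eq_of_noncentral hS h1 M h hy hyM hnc
  set π := QuotientGroup.mk' M
  have hXM : ⁅A ⊔ B, A ⊔ B⁆ ≤ M := by
    rw [← QuotientGroup.ker_mk' M, ← Subgroup.map_eq_bot_iff, Subgroup.map_commutator, Subgroup.map_sup,
      ← hAB, sup_idem, ← Subgroup.map_commutator, self_commutator (hS.commutative A hA), Subgroup.map_bot]
  by_cases hdeg : Cfsg.IsDegenerateRootSet S
  · obtain ⟨a, ha, ha1⟩ := member_exists_ne_one hS hA
    refine top_of_meet hS h1 hperf M hA ha ha1 (hXM ?_)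
    have h' := S5020.commutator_diagonal (h4 A hA B ⟨hB, h⟩)
      ⟨hS.commutative A hA, hS.commutative B hB⟩ (h3 hdeg A hA)
    rw [← h'] at ha
    exact Subgroup.commutator_mono le_sup_left (inf_le_left.trans inf_le_left : Cfsg.rankOneDiagonal A B ≤ A ⊔ B) ha
  · simp only [Cfsg.IsDegenerateRootSet, not_forall, not_not] at hdeg
    obtain ⟨A₀, hA₀, B₀, hB₀, hc₀⟩ := hdeg
    obtain ⟨g, rfl⟩ := exists_conj hS h1 hA₀ hA
    set C := Cfsg.conjBy B₀ g
    have hC : C ∈ S := hS.conj_mem B₀ hB₀ g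
    have hc : Cfsg.RootCommutatorCase S (Cfsg.conjBy A₀ g) C :=
      case_of_commutator_mem hS hA hC (by rw [← conjBy_commutator]; exact hS.conj_mem _ hc₀.1 g)
    set A := Cfsg.conjBy A₀ g
    have hEA : ⁅⁅A, C⁆, A⁆ = ⊥ := central_left hc
    rcases hS.pair _ hc.1 B hB with h' | h' | h'
    · exfalso
      obtain ⟨a, ha, ha1⟩ := member_exists_ne_one hS hA
      obtain ⟨c, hcC, -, hne⟩ := exists_commutator_ne_one hS hc ha ha1
      set z := a * c * a⁻¹ * c⁻¹
      have hz : z⁻¹ ∈ ⁅A, C⁆ := Subgroup.inv_mem _ (Subgroup.commutator_mem_commutator ha hcC)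
      have hzc : z⁻¹ ∈ Subgroup.centralizer ((A ⊔ B : Subgroup G) : Set G) := by
        rw [Subgroup.sup_eq_closure, Subgroup.centralizer_closure]
        rintro x (hx | hx)
        · exact (elem_commute hEA hz hx).symm.eq
        · exact (elem_commute h' hz hx).symm.eq
      refine hne (inv_eq_one.1 (eq_of_translate hS h hB hzc ha ha1 (hS.conj_mem A hA c) ?_).1)
      have := conj_mem_conjBy c ha
      rwa [show z⁻¹ * a = c * a * c⁻¹ by simp only [z]; group]
    · have hZM : ∀ e ∈ ⁅A, C⁆, ∀ b ∈ B, e * b * e⁻¹ * b⁻¹ ∈ M := by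
        intro e he b hb
        rw [← QuotientGroup.eq_one_iff]
        obtain ⟨a, ha, hab⟩ : π b ∈ A.map π := hAB ▸ ⟨b, hb, rfl⟩
        show π (e * b * e⁻¹ * b⁻¹) = 1
        have e1 : π e * π a = π a * π e := by rw [← map_mul, ← map_mul, (elem_commute hEA he ha).eq]
        rw [map_mul, map_mul, map_mul, map_inv, map_inv, ← hab, e1]; group
      obtain ⟨e, he, he1⟩ := exists_ne_one h'
      obtain ⟨b, hb, hb1⟩ := exists_ne_one (RankOnePair_symm h')
      have hEB := map_eq_of_noncentral hS h1 M h'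
        (show e * b * e⁻¹ * b⁻¹ ∈ ⁅A, C⁆ ⊔ B from Subgroup.commutator_le_sup _ _
          (Subgroup.commutator_mem_commutator he hb)) (hZM e he b hb)
        fun hcen => conjBy_commutatorElement_ne h' he he1 hb hb1
          (conjBy_of_commute fun x hx => (hcen x (Subgroup.mem_sup_right hx)).symm)
      have hle : ⁅A, C⁆ ≤ M := by
        rw [← QuotientGroup.ker_mk' M, ← Subgroup.map_eq_bot_iff, Subgroup.map_commutator, hAB, ← hEB,
          ← Subgroup.map_commutator, central_right hc, Subgroup.map_bot]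
      exact top_of_meet hS h1 hperf M hc.1 he he1 (hle he)
    · obtain ⟨e, he, he1⟩ := member_exists_ne_one hS h'.1
      refine top_of_meet hS h1 hperf M h'.1 he he1 (?_ : e ∈ M)
      refine (?_ : ⁅⁅A, C⁆, B⁆ ≤ M) he
      rw [← QuotientGroup.ker_mk' M, ← Subgroup.map_eq_bot_iff, Subgroup.map_commutator, ← hAB,
        ← Subgroup.map_commutator, hEA, Subgroup.map_bot]

theorem normal_dichotomy' (h2' : ∀ A ∈ S, ∀ C ∈ S, A ≠ C → Cfsg.centralizingMembers S A ≠ Cfsg.centralizingMembers S C)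
    (hperf : commutator G = ⊤) (hF : ∀ A ∈ S, ∃ D ∈ S, Cfsg.IsRankOnePair A D)
    (h3 : Cfsg.IsDegenerateRootSet S → ∀ A ∈ S, 3 < ENat.card A)
    (h4 : ∀ A ∈ S, ∀ B ∈ Cfsg.rankOnePartners S A, Cfsg.IsSpecialRankOnePair A B)
    (M : Subgroup G) [M.Normal] : M = ⊤ ∨ M ≤ Subgroup.center G := by
  by_cases htop : M = ⊤
  · exact Or.inl htop
  right
  have hno : ∀ {A B : Subgroup G}, A ∈ S → B ∈ S → Cfsg.IsRankOnePair A B → ∀ y ∈ A ⊔ B,
      y ∈ M → y ∈ Subgroup.centralizer ((A ⊔ B : Subgroup G) : Set G) := fun hA hB h y hy hyM =>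
    by_contra fun hnc => htop (top_of_noncentral hS h1 hperf h3 h4 M hA hB h hy hyM hnc)
  have hmeet : ∀ {A : Subgroup G}, A ∈ S → ∀ a ∈ A, a ∈ M → a = 1 := fun hA a ha haM =>
    by_contra fun ha1 => htop (top_of_meet hS h1 hperf M hA ha ha1 haM)
  have hsub : ∀ m ∈ M, ∀ A ∈ S,
      Cfsg.centralizingMembers S A ⊆ Cfsg.centralizingMembers S (Cfsg.conjBy A m) := by
    intro m hm A hA
    rintro D ⟨hD, hDA⟩
    have hDA' : ⁅D, A⁆ = ⊥ := Subgroup.commutator_eq_bot_iff_le_centralizer.2 hDA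
    refine ⟨hD, Subgroup.commutator_eq_bot_iff_le_centralizer.1 ?_⟩
    set A' := Cfsg.conjBy A m
    have hA' : A' ∈ S := hS.conj_mem A hA m
    obtain ⟨a, ha, ha1⟩ := member_exists_ne_one hS hA
    set a' := m * a * m⁻¹
    have ha' : a' ∈ A' := conj_mem_conjBy m ha
    have ha'1 : a' ≠ 1 := fun e => ha1 (conj_eq_one_iff.1 e)
    set y := a' * a⁻¹
    have hyM : y ∈ M := by
      rw [show y = m * (a * m⁻¹ * a⁻¹) by simp only [y, a']; group]
      exact M.mul_mem hm (Subgroup.Normal.conj_mem inferInstance _ (M.inv_mem hm) a)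
    have hMd : ∀ x, a * x = x * a → a' * x * a'⁻¹ * x⁻¹ ∈ M := by
      intro x hx
      have e : a' * x * a'⁻¹ * x⁻¹ = y * (x * y⁻¹ * x⁻¹) := by
        have hx' : a * x * a⁻¹ = x := by rw [hx]; group
        calc a' * x * a'⁻¹ * x⁻¹ = a' * a⁻¹ * (a * x * a⁻¹) * (a * a'⁻¹) * x⁻¹ := by group
          _ = _ := by rw [hx']; simp only [y]; group
      rw [e]
      exact M.mul_mem hyM (Subgroup.Normal.conj_mem inferInstance _ (M.inv_mem hyM) x)
    have hAA : ⁅A', A⁆ = ⊥ := by
      rcases hS.pair A' hA' A hA with h | h | h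
      · exact h
      · exfalso
        have hc := hno hA' hA h y
          (Subgroup.mul_mem _ (Subgroup.mem_sup_left ha') (Subgroup.mem_sup_right (A.inv_mem ha))) hyM
        exact h.ne (eq_of_translate hS (RankOnePair_symm h) hA' (z := y) (by rwa [sup_comm A A']) ha ha1
          hA' (by simpa [y] using ha')).2
      · exfalso
        obtain ⟨a2, ha2, -, hne⟩ := exists_commutator_ne_one hS h ha' ha'1
        exact hne (hmeet h.1 _ (Subgroup.commutator_mem_commutator ha' ha2)
          (hMd a2 (member_comm hS hA ha ha2).eq))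
    have hMD : ∀ d ∈ D, a' * d * a'⁻¹ * d⁻¹ ∈ M := fun d hd => hMd d (elem_commute hDA' hd ha).symm.eq
    rcases hS.pair A' hA' D hD with h | h | h
    · rwa [Subgroup.commutator_comm]
    · exfalso
      obtain ⟨d, hd, hd1⟩ := member_exists_ne_one hS hD
      exact conjBy_commutatorElement_ne h ha' ha'1 hd hd1 (conjBy_of_commute fun x hx =>
        (hno hA' hD h _ (Subgroup.commutator_le_sup _ _ (Subgroup.commutator_mem_commutator ha' hd))
          (hMD d hd) x (Subgroup.mem_sup_right hx)).symm)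
    · exfalso
      obtain ⟨d, hd, -, hne⟩ := exists_commutator_ne_one hS h ha' ha'1
      exact hne (hmeet h.1 _ (Subgroup.commutator_mem_commutator ha' hd) (hMD d hd))
  intro m hm
  rw [Subgroup.mem_center_iff]
  have hcen : ∀ A ∈ S, A ≤ Subgroup.centralizer {m} := by
    intro A hA a ha
    have hfix : Cfsg.conjBy A m = A := by
      by_contra hne
      refine h2' A hA _ (hS.conj_mem A hA m) (Ne.symm hne) (Set.Subset.antisymm (hsub m hm A hA) ?_)
      have := hsub m⁻¹ (M.inv_mem hm) _ (hS.conj_mem A hA m)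
      rwa [conjBy_inv_conjBy] at this
    rw [Subgroup.mem_centralizer_singleton_iff]
    have h' : m * a * m⁻¹ ∈ A := by
      have := conj_mem_conjBy m ha
      rwa [hfix] at this
    have := hmeet hA (m * a * m⁻¹ * a⁻¹) (A.mul_mem h' (A.inv_mem ha)) (by
      rw [show m * a * m⁻¹ * a⁻¹ = m * (a * m⁻¹ * a⁻¹) by group]
      exact M.mul_mem hm (Subgroup.Normal.conj_mem inferInstance _ (M.inv_mem hm) a))
    rw [mul_inv_eq_one, mul_inv_eq_iff_eq_mul] at this
    exact this.symm
  intro g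
  have : (⊤ : Subgroup G) ≤ Subgroup.centralizer {m} := hS.generates ▸ iSup₂_le hcen
  exact Subgroup.mem_centralizer_singleton_iff.1 (this (Subgroup.mem_top g))

end

/-- Quasisimplicity criterion for groups generated by abstract root subgroups. Let S be a set of abstract root subgroups of G with more than one member such that: the graph of rank one pairs on S is connected; no two different members of S have the same set of commuting members of S; if S is degenerate then every member of S has more than three elements; and every rank one pair in S is special. Then for every A ∈ S one has G = G' A with A ∩ G' ≠ 1, and the commutator subgroup G' is quasisimple. Moreover G is perfect if S is non-degenerate, or if some rank one pair A, B in S generates a perfect group. -/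
theorem result {G : Type*} [Group G] {S : Set (Subgroup G)} (hS : Cfsg.IsRootSubgroupSet S) (h2 : ∃ A ∈ S, ∃ B ∈ S, A ≠ B)
    (h1 : Cfsg.IsConnectedFamily (Cfsg.FAdj S) S)
    (h2' : ∀ A ∈ S, ∀ C ∈ S, A ≠ C → Cfsg.centralizingMembers S A ≠ Cfsg.centralizingMembers S C)
    (h3 : Cfsg.IsDegenerateRootSet S → ∀ A ∈ S, 3 < ENat.card A)
    (h4 : ∀ A ∈ S, ∀ B ∈ Cfsg.rankOnePartners S A, Cfsg.IsSpecialRankOnePair A B) :
    (∀ A ∈ S, commutator G ⊔ A = ⊤ ∧ A ⊓ commutator G ≠ ⊥) ∧ Cfsg.IsQuasisimple ↥(commutator G) ∧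
    (Cfsg.IsNondegenerateRootSet S → commutator G = ⊤) ∧
    ((∃ A ∈ S, ∃ B ∈ Cfsg.rankOnePartners S A, Group.IsPerfect ↥(A ⊔ B)) → commutator G = ⊤) := by
  obtain ⟨A₀, hA₀, B₀, hB₀, hne₀⟩ := h2
  have hF : ∀ A ∈ S, ∃ D ∈ S, Cfsg.IsRankOnePair A D := by
    intro A hA
    obtain ⟨X, hX, hne⟩ : ∃ X ∈ S, X ≠ A := by
      rcases eq_or_ne A₀ A with rfl | h
      · exact ⟨B₀, hB₀, hne₀.symm⟩
      · exact ⟨A₀, hA₀, h⟩
    rcases (h1 A hA X hX).cases_head with h | ⟨Y, hY, -⟩
    · exact absurd h.symm hne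
    · exact ⟨Y, hY.2.1, hY.2.2⟩
  have hperf : commutator G = ⊤ := by
    obtain ⟨A, hA, hAle⟩ : ∃ A ∈ S, A ≤ commutator G := by
      by_cases hdeg : Cfsg.IsDegenerateRootSet S
      · obtain ⟨D, hD, h⟩ := hF A₀ hA₀
        refine ⟨A₀, hA₀, ?_⟩
        rw [← S5020.commutator_diagonal (h4 A₀ hA₀ D ⟨hD, h⟩)
          ⟨hS.commutative A₀ hA₀, hS.commutative D hD⟩ (h3 hdeg A₀ hA₀), commutator_def]
        exact Subgroup.commutator_mono le_top le_top
      · simp only [Cfsg.IsDegenerateRootSet, not_forall, not_not] at hdeg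
        obtain ⟨A, -, B, -, hc⟩ := hdeg
        exact ⟨_, hc.1, by rw [commutator_def]; exact Subgroup.commutator_mono le_top le_top⟩
    rw [eq_top_iff, ← hS.generates]
    refine iSup₂_le fun X hX => ?_
    obtain ⟨g, rfl⟩ := exists_conj hS h1 hA hX
    rw [← conjBy_of_normal (A := commutator G) inferInstance g]
    exact conjBy_mono hAle g
  refine ⟨fun A hA => ⟨by rw [hperf, top_sup_eq], by rw [hperf, inf_top_eq]; exact hS.ne_bot A hA⟩,
    ?_, fun _ => hperf, fun _ => hperf⟩
  refine (Agent.Components.isQuasisimple_congr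
    ((MulEquiv.subgroupCongr hperf).trans Subgroup.topEquiv)).2 ⟨⟨hperf⟩, ?_⟩
  have hne : Subgroup.center G ≠ ⊤ := by
    intro hc
    obtain ⟨D, hD, h⟩ := hF A₀ hA₀
    exact commutator_ne_bot h (commutator_eq_bot_of fun a _ b _ =>
      (Subgroup.mem_center_iff.1 (hc ▸ Subgroup.mem_top a) b).symm)
  haveI : Nontrivial (G ⧸ Subgroup.center G) := QuotientGroup.nontrivial_iff.2 hne
  refine ⟨fun K hK => ?_⟩
  rcases normal_dichotomy' hS h1 h2' hperf hF h3 h4 (K.comap (QuotientGroup.mk' _)) with h | h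
  · right
    have := congrArg (Subgroup.map (QuotientGroup.mk' (Subgroup.center G))) h
    rwa [Subgroup.map_comap_eq_self_of_surjective (QuotientGroup.mk'_surjective _),
      Subgroup.map_top_of_surjective _ (QuotientGroup.mk'_surjective _)] at this
  · left
    rw [eq_bot_iff]
    intro q hq
    obtain ⟨x, rfl⟩ := QuotientGroup.mk'_surjective _ q
    rw [Subgroup.mem_bot, QuotientGroup.mk'_apply, QuotientGroup.eq_one_iff]
    exact h hq

end Cfsg.Agent.S5033
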