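import Cfsg.Statements.S5035
import Cfsg.Agent.Lib.RankOne.Connected

set_option autoImplicit false
open Cfsg

namespace Cfsg.Agent.S5035

/-- Let S be a set of abstract root subgroups of G whose graph of rank one pairs is connected, and f a homomorphism from G onto a group H. Then either the images of the members of S form a set of abstract root subgroups of H whose graph of rank one pairs is again connected, or H equals the image of a member of S. -/
theorem result {G H : Type*} [Group G] [Group H] {S : Set (Subgroup G)} (hS : Cfsg.IsRootSubgroupSet S)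
    (hc : Cfsg.IsConnectedFamily (Cfsg.FAdj S) S) (f : G →* H) (hf : Function.Surjective f) :
    (Cfsg.IsRootSubgroupSet ((fun A : Subgroup G => A.map f) '' S) ∧
      Cfsg.IsConnectedFamily (Cfsg.FAdj ((fun A : Subgroup G => A.map f) '' S)) ((fun A : Subgroup G => A.map f) '' S)) ∨
    ∃ A ∈ S, A.map f = ⊤ := by
  classical
  -- images of non-identity members stay non-identity, unless everything collapses
  by_cases hkill : ∃ A ∈ S, A.map f = ⊥
  · right
    obtain ⟨A, hA, hAf⟩ := hkill
    refine ⟨A, hA, ?_⟩
    have hall : ∀ P ∈ S, P.map f = ⊥ := by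
      intro P hP
      have := hc A hA P hP
      induction this with
      | refl => exact hAf
      | tail _ e ih => exact (Agent.RankOne.map_bot_iff_of_pair hS f e.2.2).1 (ih e.1)
    have htop : (⊤ : Subgroup G).map f = ⊥ := by
      rw [Subgroup.map_eq_bot_iff, ← hS.generates]
      exact iSup₂_le fun P hP => (Subgroup.map_eq_bot_iff _).1 (hall P hP)
    rw [hAf, ← htop, Subgroup.map_top_of_surjective f hf]
  left
  push Not at hkill
  refine ⟨⟨?_, ?_, ?_, ?_, ?_⟩, ?_⟩
  · rintro _ ⟨A, hA, rfl⟩
    have := hS.commutative A hA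
    exact Subgroup.map_isMulCommutative A f
  · rintro _ ⟨A, hA, rfl⟩
    exact hkill A hA
  · rw [iSup_image, ← Subgroup.map_top_of_surjective f hf, ← hS.generates]
    simp only [Subgroup.map_iSup]
  · rintro _ ⟨A, hA, rfl⟩ h'
    obtain ⟨g, rfl⟩ := hf h'
    exact ⟨Cfsg.conjBy A g, hS.conj_mem A hA g, Agent.RankOne.map_conjBy f A g⟩
  · rintro _ ⟨A, hA, rfl⟩ _ ⟨B, hB, rfl⟩
    dsimp only
    rcases hS.pair A hA B hB with h | h | h
    · left
      rw [← Subgroup.map_commutator, h, Subgroup.map_bot]
    · rcases Agent.RankOne.map_pair hS f h with he | he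
      · left
        rw [← he]
        have := hS.commutative A hA
        exact Agent.RankOne.self_commutator (Subgroup.map_isMulCommutative A f)
      · exact Or.inr (Or.inl he)
    · refine Or.inr (Or.inr ⟨⟨⁅A, B⁆, h.1, Subgroup.map_commutator A B f⟩, ?_, ?_, ?_⟩)
      · rw [← Subgroup.map_commutator, ← Subgroup.map_sup]
        rintro _ ⟨c, hc', rfl⟩ _ ⟨x, hx, rfl⟩
        rw [← map_mul, ← map_mul, h.2.1 c hc' x hx]
      · rintro _ ⟨a, ha, rfl⟩ hne
        rw [← Subgroup.map_commutator, ← h.2.2.1 a ha (fun e => hne (by rw [e, map_one])),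
          MonoidHom.map_closure, Subgroup.coe_map, Set.image_image, Set.image_image]
        congr 1
        exact Set.image_congr fun x _ => by simp
      · rintro _ ⟨b, hb, rfl⟩ hne
        rw [← Subgroup.map_commutator, ← h.2.2.2 b hb (fun e => hne (by rw [e, map_one])),
          MonoidHom.map_closure, Subgroup.coe_map, Set.image_image, Set.image_image]
        congr 1
        exact Set.image_congr fun x _ => by simp
  · rintro _ ⟨A, hA, rfl⟩ _ ⟨B, hB, rfl⟩
    dsimp only
    have hr := hc A hA B hB
    induction hr with
    | refl => exact .refl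
    | @tail P Q _ e ih =>
      rcases Agent.RankOne.map_pair hS f e.2.2 with he | he
      · rw [← he]; exact ih e.1
      · exact (ih e.1).tail ⟨⟨P, e.1, rfl⟩, ⟨Q, e.2.1, rfl⟩, he⟩

end Cfsg.Agent.S5035
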