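import Cfsg.Statements.S5037
import Cfsg.Agent.Lib.RankOne.NonDeg

set_option autoImplicit false
open Cfsg

open scoped commutatorElement

namespace Cfsg.Agent.S5037

/-- Let S be a class of abstract root subgroups of G that is either degenerate or non-degenerate (so either the commutator case never occurs, or all three cases occur), and A ≠ C members of S. If every member of S commuting with A commutes with C, then A and C have the same commuting members of S; and if every rank one partner of A is a rank one partner of C, then A and C commute and have the same rank one partners. -/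
theorem result {G : Type*} [Group G] {S : Set (Subgroup G)} (hS : Cfsg.IsRootSubgroupClass S)
    (hdn : Cfsg.IsDegenerateRootSet S ∨ Cfsg.IsNondegenerateRootSet S)
    {A C : Subgroup G} (hA : A ∈ S) (hC : C ∈ S) (hAC : A ≠ C) :
    (Cfsg.centralizingMembers S A ⊆ Cfsg.centralizingMembers S C →
      Cfsg.centralizingMembers S A = Cfsg.centralizingMembers S C) ∧
    (Cfsg.rankOnePartners S A ⊆ Cfsg.rankOnePartners S C →
      ⁅A, C⁆ = ⊥ ∧ Cfsg.rankOnePartners S A = Cfsg.rankOnePartners S C) := by
  rcases hdn with hdeg | hnd
  · by_cases hex : ∃ P ∈ S, ∃ Q ∈ S, Cfsg.IsRankOnePair P Q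
    · have hF := Agent.RankOne.class_partner hS hex
      refine ⟨fun h => Agent.RankOne.centralizing_eq_of_subset_deg hS.1 hdeg hF hC hA h, fun h => ?_⟩
      have h' := (Agent.RankOne.partners_subset_iff hS.1 hdeg hA hC).1 h
      have he := Agent.RankOne.centralizing_eq_of_subset_deg hS.1 hdeg hF hA hC h'
      refine ⟨?_, Set.Subset.antisymm h
        ((Agent.RankOne.partners_subset_iff hS.1 hdeg hC hA).2 he.ge)⟩
      have := (Agent.RankOne.mem_centralizing_iff.1 (h' (Agent.RankOne.mem_centralizing_iff.2
        ⟨hC, Agent.RankOne.self_commutator (hS.1.commutative C hC)⟩))).2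
      rwa [Subgroup.commutator_comm]
    · push Not at hex
      have hcomm : ∀ P ∈ S, ∀ Q ∈ S, ⁅P, Q⁆ = ⊥ := fun P hP Q hQ =>
        (Agent.RankOne.dichotomy hS.1 hdeg hP hQ).resolve_right (hex P hP Q hQ)
      refine ⟨fun h => Set.Subset.antisymm h fun X hX => ?_, fun h => ⟨hcomm A hA C hC, ?_⟩⟩
      · exact Agent.RankOne.mem_centralizing_iff.2 ⟨hX.1, hcomm X hX.1 A hA⟩
      · exact Set.Subset.antisymm h fun X hX => absurd hX.2 (hex C hC X hX.1)
  · exact ⟨Agent.RankOne.centralizing_eq_of_subset hS hnd hA hC,
      Agent.RankOne.partners_eq_of_subset hS hnd hA hC⟩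

end Cfsg.Agent.S5037
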