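import Cfsg.Statements.S5039
import Cfsg.Agent.Lib.RankOne.DegSpecial
import Cfsg.Agent.S5034

set_option autoImplicit false
universe u
open Cfsg

namespace Cfsg.Agent.S5039

/-- Let S be a class of abstract root subgroups of G containing two different commuting members. Suppose that, in case S is degenerate and every element of every member of S has order at most 3, the following holds: for every A ∈ S and every rank one partner B of A there are subgroups A₀ ≤ A and B₀ ≤ B generating an image of SL₂(k) with central kernel, k a field with at least four elements, A₀ and B₀ being the images of the unitriangular subgroups. Then every rank one pair A, B in S is special. -/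
theorem result {G : Type u} [Group G] {S : Set (Subgroup G)} (hS : Cfsg.IsRootSubgroupClass S)
    (hcomm : ∃ A ∈ S, ∃ C ∈ S, A ≠ C ∧ ⁅A, C⁆ = ⊥)
    (hH : Cfsg.IsDegenerateRootSet S → (∀ A ∈ S, ∀ a ∈ A, 0 < orderOf a ∧ orderOf a ≤ 3) →
      ∀ A ∈ S, ∀ B ∈ Cfsg.rankOnePartners S A, ∃ A₀ B₀ : Subgroup G, A₀ ≤ A ∧ B₀ ≤ B ∧
        ∃ (k : Type u) (_ : Field k), 3 < ENat.card k ∧ Cfsg.IsPSL2PairOver k A₀ B₀)
    {A B : Subgroup G} (hA : A ∈ S) (hB : B ∈ Cfsg.rankOnePartners S A) : Cfsg.IsSpecialRankOnePair A B := by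
  by_cases hdeg : Cfsg.IsDegenerateRootSet S
  swap
  · simp only [Cfsg.IsDegenerateRootSet, not_forall, not_not] at hdeg
    obtain ⟨X, hX, Y, hY, hXY⟩ := hdeg
    obtain ⟨A', hA', C', hC', hne, hc⟩ := hcomm
    exact (Cfsg.Agent.S5034.result hS
      ⟨⟨A', hA', C', hC', hne, hc⟩, ⟨A, hA, B, hB.1, hB.2⟩, ⟨X, hX, Y, hY, hXY⟩⟩ hA hB).2
  have hd : Cfsg.Agent.RankOne.Deg.ClassData S := ⟨hS, hdeg, hcomm⟩
  by_cases hne : Cfsg.Agent.RankOne.Deg.F S A = Cfsg.Agent.RankOne.Deg.F S B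
  swap
  · exact Cfsg.Agent.RankOne.Deg.special_of_not_twin hd hA hB.1 hB.2 hne
  exfalso
  by_cases hsmall : ∀ X ∈ S, ∀ x ∈ X, 0 < orderOf x ∧ orderOf x ≤ 3
  · obtain ⟨A₀, B₀, hA₀, hB₀, k, _, hk, hpsl⟩ := hH hdeg hsmall A hA B hB
    exact Cfsg.Agent.RankOne.Deg.no_twin_sl2 hd hA hB.1 hne hA₀ hB₀ hk hpsl
  · simp only [not_forall] at hsmall
    obtain ⟨X₀, hX₀, x, hx, hord⟩ := hsmall
    refine Cfsg.Agent.RankOne.Deg.no_twin_big hd (fun X hX => ?_) hA hB.1 hB.2.ne hne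
    obtain ⟨g, rfl⟩ := hS.2.2 X₀ hX₀ X hX
    refine ⟨g * x * g⁻¹, Cfsg.Agent.RankOne.conj_mem_conjBy g hx, ?_⟩
    have hpow : ∀ n : ℕ, 0 < n → n ≤ 3 → x ^ n ≠ 1 := fun n h1 h3 he => hord
      ⟨(isOfFinOrder_iff_pow_eq_one.2 ⟨n, h1, he⟩).orderOf_pos,
        (orderOf_le_of_pow_eq_one h1 he).trans h3⟩
    have hcp : ∀ n : ℕ, 0 < n → n ≤ 3 → (g * x * g⁻¹) ^ n ≠ 1 := fun n h1 h3 he =>
      hpow n h1 h3 (conj_eq_one_iff.1 (by rwa [← conj_pow]))
    exact ⟨by simpa using hcp 1 one_pos (by norm_num),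
      by simpa [pow_succ] using hcp 2 two_pos (by norm_num),
      by simpa [pow_succ] using hcp 3 three_pos le_rfl⟩

end Cfsg.Agent.S5039
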