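import Cfsg.Statements.S5045
import Cfsg.Agent.Lib.RankOne.RootInvClass

set_option autoImplicit false
open Cfsg

namespace Cfsg.Agent.S5045

/-- Let G be a finite group generated by a set D of root involutions, and W the set of members of D whose product with every other member of D has even order or is trivial (the isolated vertices of the odd-order-product graph on D). Then W is conjugation-invariant and generates a normal 2-subgroup of G meeting D in exactly W; the commutator of two members of D lying in different connected components of that graph, each with more than one member, lies in the subgroup generated by W; and for a in such a component, every member of D commuting with a, different from a and with product with a in D, lies in that component or in W. -/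
theorem result {G : Type*} [Group G] [Finite G] {D : Set G} (hD : Cfsg.IsRootInvolutionSet D) :
    (∀ w ∈ {w | Cfsg.IsIsolatedElem (Cfsg.OddAdj D) D w}, ∀ g : G, g * w * g⁻¹ ∈ {w | Cfsg.IsIsolatedElem (Cfsg.OddAdj D) D w}) ∧
    (Subgroup.closure {w | Cfsg.IsIsolatedElem (Cfsg.OddAdj D) D w}).Normal ∧
    IsPGroup 2 ↥(Subgroup.closure {w | Cfsg.IsIsolatedElem (Cfsg.OddAdj D) D w}) ∧
    (Subgroup.closure {w | Cfsg.IsIsolatedElem (Cfsg.OddAdj D) D w} : Set G) ∩ D = {w | Cfsg.IsIsolatedElem (Cfsg.OddAdj D) D w} ∧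
    (∀ a ∈ D, ∀ b ∈ D, (∃ a' ∈ Cfsg.elemComponentOf (Cfsg.OddAdj D) D a, a' ≠ a) →
      (∃ b' ∈ Cfsg.elemComponentOf (Cfsg.OddAdj D) D b, b' ≠ b) →
      Cfsg.elemComponentOf (Cfsg.OddAdj D) D a ≠ Cfsg.elemComponentOf (Cfsg.OddAdj D) D b →
        a * b * a⁻¹ * b⁻¹ ∈ Subgroup.closure {w | Cfsg.IsIsolatedElem (Cfsg.OddAdj D) D w}) ∧
    (∀ a ∈ D, (∃ a' ∈ Cfsg.elemComponentOf (Cfsg.OddAdj D) D a, a' ≠ a) →
      Cfsg.productPartners D a ⊆ Cfsg.elemComponentOf (Cfsg.OddAdj D) D a ∪ {w | Cfsg.IsIsolatedElem (Cfsg.OddAdj D) D w}) := by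
  set W := {w | Cfsg.IsIsolatedElem (Cfsg.OddAdj D) D w} with hW
  haveI : Fact (Nat.Prime 2) := ⟨Nat.prime_two⟩
  have hiso : ∀ w, w ∈ W ↔ w ∈ D ∧ ∀ x ∈ D, ¬ Agent.RootInv.OddP w x := by
    intro w
    constructor
    · rintro ⟨hwD, h⟩
      exact ⟨hwD, fun x hx ho => (h x).1 ⟨hwD, hx, ho⟩⟩
    · rintro ⟨hwD, h⟩
      exact ⟨hwD, fun x => ⟨fun hh => h x hh.2.1 hh.2.2,
        fun hh => h x hh.1 (Agent.RootInv.oddP_symm hD hh.1 hwD hh.2.2)⟩⟩
  have hconj : ∀ w ∈ W, ∀ g : G, g * w * g⁻¹ ∈ W := by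
    intro w hw g
    rw [hiso] at hw ⊢
    refine ⟨hD.conj_mem w hw.1 g, fun x hx ho => hw.2 (g⁻¹ * x * g) (by simpa using hD.conj_mem x hx g⁻¹) ?_⟩
    have := Agent.RootInv.conj_oddP hD (g := g⁻¹) ho
    simpa [mul_assoc] using this
  have hnormal : (Subgroup.closure W).Normal := ⟨fun n hn g => by
    induction hn using Subgroup.closure_induction with
    | mem x hx => exact Subgroup.subset_closure (hconj x hx g)
    | one => simp
    | mul x y _ _ hx hy => rw [← conj_mul]; exact mul_mem hx hy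
    | inv x _ hx => rw [← conj_inv]; exact inv_mem hx⟩
  have hle : Subgroup.closure W ≤ Cfsg.pCore 2 G := by
    rw [Subgroup.closure_le]
    intro w hw
    refine Agent.Cores.le_pCore (N := Subgroup.normalClosure ({w} : Set G)) Subgroup.normalClosure_normal ?_
      (Subgroup.subset_normalClosure rfl)
    refine Agent.Involution.baer_suzuki_element w fun g => ?_
    have hwD := ((hiso w).1 hw).1
    have hgD := hD.conj_mem w hwD g
    rcases eq_or_ne w (g * w * g⁻¹) with heq | hne
    · rw [← heq, Set.pair_eq_singleton, ← Subgroup.zpowers_eq_closure]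
      exact IsPGroup.of_card (n := 1) (by rw [Nat.card_zpowers, pow_one]; exact hD.orderOf_eq w hwD)
    refine Agent.Involution.isPGroup_closure_pair (hD.orderOf_eq w hwD) (hD.orderOf_eq _ hgD) hne (a := 2) ?_
    rcases Agent.RootInv.cases' hD hwD hgD with h | h | h
    · rw [show 2 ^ 2 = 2 * 2 from rfl, pow_mul, sq (w * _), Agent.RootInv.sq_eq_one_of_commute hD hwD hgD h, one_pow]
    · exact absurd h (((hiso w).1 hw).2 _ hgD)
    · rw [show 2 ^ 2 = 4 from rfl, ← h]; exact pow_orderOf_eq_one _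
  have hmem : ∀ a ∈ D, ∀ b ∈ D, b * a = a * b → a * b ∈ D →
      (∃ a' ∈ D, Agent.RootInv.OddP a a') → b ∉ W → b ∈ Cfsg.elemComponentOf (Cfsg.OddAdj D) D a := by
    intro a ha b hb hab habD ⟨a', ha', haa'⟩ hbW
    rw [hiso] at hbW
    push Not at hbW
    obtain ⟨b', hb', hbb'⟩ := hbW hb
    exact ⟨hb, Agent.RootInv.reach_of_line hD ha hb hab habD ha' haa' hb' hbb'⟩
  have hpartner : ∀ a ∈ D, (∃ a' ∈ Cfsg.elemComponentOf (Cfsg.OddAdj D) D a, a' ≠ a) →
      ∃ a' ∈ D, Agent.RootInv.OddP a a' := by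
    intro a _ ⟨a', ⟨_, hr⟩, hne⟩
    rcases hr.cases_head with h | ⟨x, hx, -⟩
    · exact absurd h.symm hne
    · exact ⟨x, hx.2.1, hx.2.2⟩
  refine ⟨hconj, hnormal, (Agent.Cores.isPGroup_pCore 2 G).to_le hle, ?_, ?_, ?_⟩
  · ext d
    refine ⟨fun hd => (hiso d).2 ⟨hd.2, fun x hx ho => ?_⟩, fun hd => ⟨Subgroup.subset_closure hd, hd.1⟩⟩
    obtain ⟨c, -, rfl⟩ := Agent.Involution.exists_conj_of_odd (hD.orderOf_eq d hd.2) (hD.orderOf_eq x hx) ho.2
    have hdO := hle hd.1
    have h2 : d * (c * d * c⁻¹) ∈ Cfsg.pCore 2 G :=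
      mul_mem hdO ((Agent.Cores.pCore_normal 2 G).conj_mem d hdO c)
    obtain ⟨k, hk⟩ := (Agent.Cores.isPGroup_pCore 2 G) ⟨_, h2⟩
    have h3 := orderOf_dvd_of_pow_eq_one (congrArg Subtype.val hk)
    have h4 := (Nat.Coprime.pow_right k (Nat.coprime_two_right.2 ho.2)).eq_one_of_dvd h3
    refine ho.1 ?_
    have := orderOf_eq_one_iff.1 h4
    rwa [mul_eq_one_iff_eq_inv, Agent.RootInv.inv_eq hD hx] at this
  · intro a ha b hb ha1 hb1 hne
    rcases Agent.RootInv.cases' hD ha hb with h | h | h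
    · rw [show a * b * a⁻¹ * b⁻¹ = 1 by rw [h]; group]
      exact one_mem _
    · exfalso
      apply hne
      have h1 := Agent.RootInv.reach_single hD ha hb h
      ext x
      exact ⟨fun hx => ⟨hx.1, (Agent.RootInv.reach_symm hD h1).trans hx.2⟩, fun hx => ⟨hx.1, h1.trans hx.2⟩⟩
    · set c := a * b * (a * b) with hc_def
      have hcD : c ∈ D := Agent.RootInv.four_mem hD ha hb h
      have hca : c * a = a * c := (Agent.RootInv.four_commute_left hD ha hb h).eq
      have hcb : c * b = b * c := (Agent.RootInv.four_commute_right hD ha hb h).eq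
      have e0 : a * b * a⁻¹ * b⁻¹ = c := by
        rw [Agent.RootInv.inv_eq hD ha, Agent.RootInv.inv_eq hD hb, hc_def]; group
      rw [e0]
      by_contra hcW
      replace hcW : c ∉ W := fun hh => hcW (Subgroup.subset_closure hh)
      have h1 : a * c ∈ D := by
        rw [hc_def, show a * (a * b * (a * b)) = a * a * (b * a * b) by group, Agent.RootInv.mul_self hD ha, one_mul]
        exact Agent.RootInv.conj_mem' hD ha hb
      have h2 : b * c ∈ D := by
        rw [← hcb, hc_def, show a * b * (a * b) * b = a * b * a * (b * b) by group, Agent.RootInv.mul_self hD hb, mul_one]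
        exact Agent.RootInv.conj_mem' hD hb ha
      have r1 := (hmem a ha c hcD hca h1 (hpartner a ha ha1) hcW).2
      have r2 := (hmem b hb c hcD hcb h2 (hpartner b hb hb1) hcW).2
      have r3 := r1.trans (Agent.RootInv.reach_symm hD r2)
      apply hne
      ext x
      exact ⟨fun hx => ⟨hx.1, (Agent.RootInv.reach_symm hD r3).trans hx.2⟩, fun hx => ⟨hx.1, r3.trans hx.2⟩⟩
  · intro a ha ha1 b hb
    obtain ⟨⟨hbD, hba, -⟩, hbaD⟩ := hb
    by_cases hbW : b ∈ W
    · exact Or.inr hbW
    · exact Or.inl (hmem a ha b hbD hba (by rw [← hba]; exact hbaD) (hpartner a ha ha1) hbW)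

end Cfsg.Agent.S5045
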