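import Cfsg.Statements.S5049
import Cfsg.Agent.Lib.RankOne.RootInv
import Cfsg.Agent.Lib.Cores.Basic

set_option autoImplicit false
open Cfsg
open scoped commutatorElement

namespace Cfsg.Agent.S5049

/-- Let G be a finite group generated by a set D of odd transpositions (root involutions with no product of order 4), Q = O₂(G), and for a ∈ D let Q_a be the commutator subgroup of Q with a. Then every member of D commuting with a centralizes Q_a; and for b ∈ D with ab of odd order greater than 1, the centralizer of ab in Q is the intersection of the centralizers of a and b in Q. -/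
theorem result {G : Type*} [Group G] [Finite G] {D : Set G} (hD : Cfsg.IsOddTranspositionSet D) {a : G} (ha : a ∈ D) :
    (∀ e ∈ Cfsg.commutingMembers D a, ∀ q ∈ ⁅Cfsg.pCore 2 G, Subgroup.zpowers a⁆, e * q = q * e) ∧
    (∀ b ∈ Cfsg.oddPartners D a,
      Cfsg.pCore 2 G ⊓ Subgroup.centralizer {a * b} = Cfsg.pCore 2 G ⊓ Subgroup.centralizer {a} ⊓ Subgroup.centralizer {b}) := by
  haveI : Fact (Nat.Prime 2) := ⟨Nat.prime_two⟩
  obtain ⟨hR, hno⟩ := hD
  haveI := Agent.Cores.pCore_normal 2 G
  let π := QuotientGroup.mk' (Cfsg.pCore 2 G)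
  have hπ : ∀ x ∈ Cfsg.pCore 2 G, π x = 1 := fun x hx => (QuotientGroup.eq_one_iff x).2 hx
  have hodd2 : ∀ y : G, Odd (orderOf y) → y * y ∈ Cfsg.pCore 2 G → y = 1 := by
    intro y hy hy2
    obtain ⟨k, hk⟩ := (Agent.Cores.isPGroup_pCore 2 G) ⟨_, hy2⟩
    have h1 : y ^ (2 ^ (k + 1)) = 1 := by
      rw [pow_succ', pow_mul, sq]; exact congrArg Subtype.val hk
    exact orderOf_eq_one_iff.1
      ((Nat.Coprime.pow_right _ (Nat.coprime_two_right.2 hy)).eq_one_of_dvd (orderOf_dvd_of_pow_eq_one h1))
  have hcc : ∀ e ∈ D, ∀ q ∈ Cfsg.pCore 2 G, e * a = a * e → e * (q * a * q⁻¹) = q * a * q⁻¹ * e := by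
    intro e he q hq hea
    have ha' := hR.conj_mem a ha q
    rcases Agent.RootInv.cases' hR he ha' with h | h | h
    · exact h
    · exfalso
      refine h.1 ?_
      have := hodd2 _ h.2 (by
        rw [← QuotientGroup.eq_one_iff]
        show π (e * (q * a * q⁻¹) * (e * (q * a * q⁻¹))) = 1
        simp only [map_mul, map_inv, hπ q hq, inv_one, one_mul, mul_one]
        rw [← map_mul π e a, ← map_mul, Agent.RootInv.sq_eq_one_of_commute hR he ha hea, map_one])
      rwa [mul_eq_one_iff_eq_inv, Agent.RootInv.inv_eq hR ha'] at this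
    · exact absurd h (hno e he _ ha')
  refine ⟨fun e he q hq => ?_, fun b hb => ?_⟩
  · obtain ⟨heD, hea⟩ := he
    have hle : ⁅Cfsg.pCore 2 G, Subgroup.zpowers a⁆ ≤ Subgroup.centralizer {e} := by
      rw [Subgroup.commutator_le]
      intro p hp g hg
      obtain ⟨k, rfl⟩ := Subgroup.mem_zpowers_iff.1 hg
      have h1 : Commute e a := hea
      have h2 : Commute e (p * a * p⁻¹) := hcc e heD p hp hea
      refine Subgroup.mem_centralizer_singleton_iff.2 ?_
      rw [commutatorElement_def, show p * a ^ k * p⁻¹ * (a ^ k)⁻¹ = (p * a * p⁻¹) ^ k * (a ^ k)⁻¹ by rw [conj_zpow]]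
      exact ((h2.zpow_right k).mul_right (h1.zpow_right k).inv_right).symm.eq
    exact (Subgroup.mem_centralizer_singleton_iff.1 (hle hq)).symm
  · rw [Agent.RootInv.oddPartners_eq] at hb
    obtain ⟨hbD, hab⟩ := hb
    ext q
    simp only [Subgroup.mem_inf, Subgroup.mem_centralizer_singleton_iff]
    refine ⟨fun ⟨hq, hc⟩ => ?_, fun ⟨⟨hq, h1⟩, h2⟩ => ⟨hq, ((show Commute q a from h1).mul_right h2).eq⟩⟩
    have hqa : q * a = a * q := by
      have ha' := hR.conj_mem a ha q
      set x := a * (q * a * q⁻¹) with hx
      have hcx : Commute a (q * a * q⁻¹) := hcc a ha q hq rfl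
      have hx2 : x * x = 1 := Agent.RootInv.sq_eq_one_of_commute hR ha ha' hcx.eq
      have hxa : x * a = a * x := ((Commute.refl a).mul_right hcx).symm.eq
      have hxm : x * a = q * a * q⁻¹ := by
        rw [hxa, hx, ← mul_assoc, Agent.RootInv.mul_self hR ha, one_mul]
      by_contra hne
      have hx1 : x ≠ 1 := by
        intro e
        apply hne
        rw [e, one_mul] at hxm
        exact (mul_inv_eq_iff_eq_mul.1 hxm.symm)
      -- `x` commutes with `a b`, hence with `b`
      have hc' : Commute q (a * b) := hc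
      have hca : Commute (a * q * a) (a * b) := by
        have h1 : a * (a * b) * a = (a * b)⁻¹ := by
          have := Agent.Involution.inverts_mul_left (hR.orderOf_eq a ha) (hR.orderOf_eq b hbD)
          rwa [Agent.RootInv.inv_eq hR ha] at this
        have h2 := hc'.inv_right
        rw [← h1] at h2
        have h3 := congrArg (fun w => a * w * a) h2.eq
        show a * q * a * (a * b) = a * b * (a * q * a)
        calc a * q * a * (a * b) = a * (q * (a * (a * b) * a)) * a := by
              rw [show a * (q * (a * (a * b) * a)) * a = a * q * a * (a * b) * (a * a) by group,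
                Agent.RootInv.mul_self hR ha, mul_one]
          _ = a * (a * (a * b) * a * q) * a := h3
          _ = (a * a) * (a * b) * (a * q * a) := by group
          _ = _ := by rw [Agent.RootInv.mul_self hR ha, one_mul]
      have hxab : Commute x (a * b) := by
        rw [hx, show a * (q * a * q⁻¹) = a * q * a * q⁻¹ by group]
        exact hca.mul_left hc'.inv_left
      have hxb : Commute x b := by
        have := (show Commute x a from hxa).mul_right hxab
        rwa [Agent.Involution.left_mul_mul_left (hR.orderOf_eq a ha) (hR.orderOf_eq b hbD)] at this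
      exact Agent.RootInv.not_mem_of_central hR ha hbD hab hx2 hx1 hxa hxb.eq (hxm ▸ ha')
    have hqb : Commute q b := by
      have := (show Commute q a from hqa).mul_right (show Commute q (a * b) from hc)
      rwa [Agent.Involution.left_mul_mul_left (hR.orderOf_eq a ha) (hR.orderOf_eq b hbD)] at this
    exact ⟨⟨hq, hqa⟩, hqb.eq⟩

end Cfsg.Agent.S5049
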