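import Cfsg.Statements.S5058
import Cfsg.Agent.S2579
import Cfsg.Agent.Lib.SLGen.Cycle
-- import your own Cfsg.Agent.* helpers here

set_option autoImplicit false
open Matrix
open Cfsg

namespace Cfsg.Agent.S5058

theorem cubic {F R : Type*} [Field F] [CharP F 2] [Ring R] [Algebra F R] {A B : R} {l : F}
    (hA : A * A = 0) (hB : B * B = 0) (hABA : A * B * A = l • A) (hBAB : B * A * B = l • B) :
    (A + B + A * B) * ((A + B + A * B) * (A + B + A * B) + l • (A + B + A * B) + l • (1 : R)) = 0 := by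
  have hneg : ∀ x : R, x + x = 0 := fun x => by
    rw [← two_smul F x, CharTwo.two_eq_zero, zero_smul]
  set m := A + B + A * B with hm
  have hABAB : A * B * A * B = l • (A * B) := by rw [hABA, smul_mul_assoc]
  have h2 : m * m = A * B + B * A + l • m := by
    have : m * m = A * A + A * B + A * A * B + B * A + B * B + B * A * B + A * B * A
        + A * (B * B) + A * B * A * B := by
      rw [hm]; noncomm_ring
    rw [this, hA, hB, hABAB, hABA, hBAB, hm, smul_add, smul_add]
    simp only [zero_mul, mul_zero, add_zero, zero_add]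
    abel
  have h3 : m * (A * B + B * A) = l • m := by
    have : m * (A * B + B * A) = A * A * B + A * B * A + B * A * B + B * B * A + A * B * A * B
        + A * (B * B) * A := by
      rw [hm]; noncomm_ring
    rw [this, hA, hB, hABAB, hABA, hBAB, hm, smul_add, smul_add]
    simp only [zero_mul, mul_zero, add_zero, zero_add]
  calc m * (m * m + l • m + l • (1 : R))
      = m * (A * B + B * A + (l • m + l • m) + l • (1 : R)) := by rw [h2]; congr 1; rw [add_assoc (A * B + B * A)]
    _ = m * (A * B + B * A) + m * (l • (1 : R)) := by rw [hneg (l • m), add_zero, mul_add]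
    _ = l • m + l • m := by rw [h3, mul_smul_comm, mul_one]
    _ = 0 := hneg _

theorem separable_cubic {F : Type*} [Field F] [CharP F 2] {l : F} (hl : l ≠ 0) :
    ((Polynomial.X + 1) * (Polynomial.X ^ 2 + Polynomial.C l * Polynomial.X + 1) :
      Polynomial F).Separable := by
  have h2 : (2 : Polynomial F) = 0 := by
    rw [show (2 : Polynomial F) = Polynomial.C (2 : F) from (map_ofNat Polynomial.C 2).symm,
      CharTwo.two_eq_zero, map_zero]
  have hC : Polynomial.C l⁻¹ * Polynomial.C l = (1 : Polynomial F) := by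
    rw [← map_mul, inv_mul_cancel₀ hl, map_one]
  refine Polynomial.Separable.mul ?_ ?_ ?_
  · rw [← Polynomial.C_1]; exact Polynomial.separable_X_add_C 1
  · rw [Polynomial.separable_def]
    refine ⟨0, Polynomial.C l⁻¹, ?_⟩
    simp [Polynomial.derivative_add, Polynomial.derivative_X_pow, h2]
    rw [one_add_one_eq_two, h2, zero_mul, zero_add]
    exact hC
  · refine ⟨-(Polynomial.C l⁻¹ * (Polynomial.X + 1 + Polynomial.C l)), Polynomial.C l⁻¹, ?_⟩
    linear_combination hC + (-Polynomial.C l⁻¹ * Polynomial.X - Polynomial.C l⁻¹ * Polynomial.C l) * h2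

theorem odd_order {F R : Type*} [Field F] [CharP F 2] [Ring R] [Algebra F R] [Algebra.IsIntegral F R]
    {l : F} (hl : l ≠ 0) {u : Rˣ} (hfin : IsOfFinOrder u)
    (h : ((u : R) - 1) * ((u : R) * (u : R) + l • (u : R) + 1) = 0) : Odd (orderOf u) := by
  classical
  have hneg : ∀ x : R, x + x = 0 := fun x => by
    rw [← two_smul F x, CharTwo.two_eq_zero, zero_smul]
  set f : Polynomial F :=
    (Polynomial.X + 1) * (Polynomial.X ^ 2 + Polynomial.C l * Polynomial.X + 1) with hf
  have hfp : Polynomial.aeval (u : R) f = 0 := by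
    rw [hf, map_mul, map_add, map_add, map_add, map_mul, map_pow, Polynomial.aeval_X, map_one,
      Polynomial.aeval_C, ← Algebra.smul_def, pow_two]
    rwa [show (u : R) + 1 = (u : R) - 1 from ?_]
    rw [sub_eq_add_neg]
    exact congrArg _ (neg_eq_of_add_eq_zero_left (hneg 1)).symm
  have hsq : Squarefree (minpoly F (u : R)) :=
    (separable_cubic hl).squarefree.squarefree_of_dvd (minpoly.dvd F _ hfp)
  obtain ⟨e, r, hr, hre⟩ := Nat.exists_eq_pow_mul_and_not_dvd hfin.orderOf_pos.ne' 2 (by norm_num)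
  have hup : (u : R) ^ orderOf u = 1 := by
    rw [← Units.val_pow_eq_pow_val, pow_orderOf_eq_one, Units.val_one]
  have hg : Polynomial.aeval (u : R) ((Polynomial.X ^ r - 1) ^ 2 ^ e : Polynomial F) = 0 := by
    have : CharP (Polynomial F) 2 := inferInstance
    rw [sub_pow_char_pow, one_pow, ← pow_mul, mul_comm, ← hre, map_sub, map_pow,
      Polynomial.aeval_X, map_one, hup, sub_self]
  have hd := (hsq.dvd_pow_iff_dvd (pow_ne_zero e two_ne_zero)).1 (minpoly.dvd F _ hg)
  have h1 : (u : R) ^ r = 1 := by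
    obtain ⟨c, hc⟩ := hd
    have h2 := congrArg (Polynomial.aeval (u : R)) hc
    rwa [map_mul, minpoly.aeval, zero_mul, map_sub, map_pow, Polynomial.aeval_X, map_one,
      sub_eq_zero] at h2
  exact (Nat.not_even_iff_odd.1 fun he => hr he.two_dvd).of_dvd_nat
    (orderOf_dvd_of_pow_eq_one (Units.ext (by rw [Units.val_pow_eq_pow_val, h1, Units.val_one])))

variable {F : Type*} [Field F]

theorem form {m : ℕ} (N : Matrix (Fin m) (Fin m) F) (hr : N.rank = 1) (hsq : N * N = 0) :
    ∃ v φ : Fin m → F, v ≠ 0 ∧ φ ≠ 0 ∧ φ ⬝ᵥ v = 0 ∧ N = vecMulVec v φ := by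
  obtain ⟨v, a, χ, hv, hχv, hχa, hN⟩ := S2579.transvection_form N hr hsq
  have hχ : ∀ x, χ x = (fun j => χ (Pi.single j 1)) ⬝ᵥ x := by
    intro x
    conv_lhs => rw [pi_eq_sum_univ' x]
    simp [dotProduct, map_sum, mul_comm]
  refine ⟨v, fun j => χ (Pi.single j 1), hv, fun h => ?_, by rw [← hχ, hχv], ?_⟩
  · rw [hχ a, h, zero_dotProduct] at hχa
    exact zero_ne_one hχa
  · ext i j
    have h := congrFun (hN (Pi.single j 1)) i
    rw [Matrix.mulVec_single_one] at h
    rw [vecMulVec_apply, mul_comm]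
    exact h

theorem isTransvection_one_add {m : ℕ} {v φ : Fin m → F} (hv : v ≠ 0) (hφ : φ ≠ 0)
    (h : φ ⬝ᵥ v = 0) : Cfsg.IsTransvection (1 + vecMulVec v φ) := by
  rw [Cfsg.IsTransvection, add_sub_cancel_left]
  refine ⟨le_antisymm (Matrix.rank_vecMulVec_le v φ) ?_, ?_⟩
  · rw [Nat.one_le_iff_ne_zero]
    intro h0
    rw [Matrix.rank, Submodule.finrank_eq_zero, LinearMap.range_eq_bot] at h0
    have hz : vecMulVec v φ = 0 := Matrix.ext_iff_mulVec.2 fun x => by
      rw [← Matrix.mulVecLin_apply, h0, Matrix.zero_mulVec]; rfl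
    obtain ⟨i, hi⟩ := Function.ne_iff.1 hv
    obtain ⟨j, hj⟩ := Function.ne_iff.1 hφ
    exact mul_ne_zero hi hj (by rw [← vecMulVec_apply, hz]; rfl)
  · rw [vecMulVec_mul_vecMulVec, h, zero_smul, vecMulVec_zero]

theorem conj_inv_conj {G : Type*} [Group G] (g t : G) : g * (g⁻¹ * t * g) * g⁻¹ = t := by group

theorem eq_conj {m : ℕ} (g t : Matrix.SpecialLinearGroup (Fin m) F)
    (h : Cfsg.IsTransvection (t : Matrix (Fin m) (Fin m) F)) :
    Cfsg.IsTransvection ((g * t * g⁻¹ : Matrix.SpecialLinearGroup (Fin m) F) :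
      Matrix (Fin m) (Fin m) F) := by
  have hg : (g : Matrix (Fin m) (Fin m) F) * (g⁻¹ : Matrix.SpecialLinearGroup (Fin m) F) = 1 := by
    rw [← Matrix.SpecialLinearGroup.coe_mul, mul_inv_cancel, Matrix.SpecialLinearGroup.coe_one]
  have hg' : ((g⁻¹ : Matrix.SpecialLinearGroup (Fin m) F) : Matrix (Fin m) (Fin m) F) * g = 1 := by
    rw [← Matrix.SpecialLinearGroup.coe_mul, inv_mul_cancel, Matrix.SpecialLinearGroup.coe_one]
  have e : ((g * t * g⁻¹ : Matrix.SpecialLinearGroup (Fin m) F) : Matrix (Fin m) (Fin m) F) - 1 =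
      (g : Matrix (Fin m) (Fin m) F) * ((t : Matrix (Fin m) (Fin m) F) - 1) *
        (g⁻¹ : Matrix.SpecialLinearGroup (Fin m) F) := by
    rw [Matrix.SpecialLinearGroup.coe_mul, Matrix.SpecialLinearGroup.coe_mul, mul_sub, mul_one,
      sub_mul, hg]
  refine ⟨?_, ?_⟩
  · rw [e, Matrix.rank_mul_eq_left_of_isUnit_det _ _ (by rw [Matrix.SpecialLinearGroup.det_coe]; exact isUnit_one),
      Matrix.rank_mul_eq_right_of_isUnit_det _ _ (by rw [Matrix.SpecialLinearGroup.det_coe]; exact isUnit_one)]
    exact h.1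
  · rw [e]
    calc _ = (g : Matrix (Fin m) (Fin m) F) * ((t : Matrix (Fin m) (Fin m) F) - 1) *
          (((g⁻¹ : Matrix.SpecialLinearGroup (Fin m) F) : Matrix (Fin m) (Fin m) F) * g) *
          ((t : Matrix (Fin m) (Fin m) F) - 1) *
          (g⁻¹ : Matrix.SpecialLinearGroup (Fin m) F) := by noncomm_ring
      _ = 0 := by rw [hg', mul_one, mul_assoc (g : Matrix (Fin m) (Fin m) F), h.2, mul_zero, zero_mul]


/-- Let F be a finite field of characteristic 2 and n a natural number. Then the transvections of SL_{n+3}(F) (so in every dimension at least 3) (the conjugates of the elementary matrices 1 + c E₁₂, c ≠ 0) form a class of root involutions of SL_{n+3}(F); when F has two elements they form a class of {3,4}⁺-transpositions (every product of odd order has order 1 or 3). -/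
theorem result (F : Type*) [Field F] [Fintype F] [CharP F 2] (n : ℕ) :
    Cfsg.IsRootInvolutionClass {t : Matrix.SpecialLinearGroup (Fin (n + 3)) F | ∃ c : F, c ≠ 0 ∧
        ∃ g : Matrix.SpecialLinearGroup (Fin (n + 3)) F, ((g⁻¹ * t * g : Matrix.SpecialLinearGroup (Fin (n + 3)) F) :
          Matrix (Fin (n + 3)) (Fin (n + 3)) F) = Matrix.transvection 0 1 c} ∧
    (Fintype.card F = 2 → Cfsg.IsThreeFourPlusTranspositionSet {t : Matrix.SpecialLinearGroup (Fin (n + 3)) F | ∃ c : F, c ≠ 0 ∧
        ∃ g : Matrix.SpecialLinearGroup (Fin (n + 3)) F, ((g⁻¹ * t * g : Matrix.SpecialLinearGroup (Fin (n + 3)) F) :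
          Matrix (Fin (n + 3)) (Fin (n + 3)) F) = Matrix.transvection 0 1 c}) := by
  classical
  set SL := Matrix.SpecialLinearGroup (Fin (n + 3)) F
  set D : Set SL := {t | ∃ c : F, c ≠ 0 ∧ ∃ g : SL, ((g⁻¹ * t * g : SL) :
    Matrix (Fin (n + 3)) (Fin (n + 3)) F) = Matrix.transvection 0 1 c} with hD
  have h01 : (0 : Fin (n + 3)) ≠ 1 := Fin.zero_ne_one
  have htv : ∀ (i j : Fin (n + 3)) (hij : i ≠ j) (c : F), c ≠ 0 →
      Cfsg.IsTransvection (Matrix.transvection i j c) := by
    intro i j hij c hc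
    have : Matrix.transvection i j c = 1 + vecMulVec (Pi.single i c) (Pi.single j 1) := by
      rw [Matrix.transvection]
      congr 1
      ext a b
      simp only [Matrix.single_apply, vecMulVec_apply, Pi.single_apply]
      by_cases h1 : a = i <;> by_cases h2 : b = j <;>
        simp [h1, h2, Ne.symm, eq_comm (a := i) (b := a), eq_comm (a := j) (b := b)]
    rw [this]
    refine isTransvection_one_add (by simpa using hc) (by simp) ?_
    rw [dotProduct_single, Pi.single_apply, if_neg hij, zero_mul]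
  let t0 : SL := ⟨Matrix.transvection 0 1 1, Matrix.det_transvection_of_ne _ _ h01 1⟩
  have hmem : ∀ t : SL, t ∈ D ↔ Cfsg.IsTransvection (t : Matrix (Fin (n + 3)) (Fin (n + 3)) F) := by
    intro t
    constructor
    · rintro ⟨c, hc, g, hg⟩
      have h := eq_conj g (g⁻¹ * t * g) (hg ▸ htv 0 1 h01 c hc)
      rwa [conj_inv_conj g t] at h
    · intro ht
      obtain ⟨g, hg⟩ := isConj_iff.1 (S2579.result (by omega) t0 t (htv 0 1 h01 1 one_ne_zero) ht)
      exact ⟨1, one_ne_zero, g, congrArg Subtype.val (show g⁻¹ * t * g = t0 by rw [← hg]; group)⟩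
  have hchar : ∀ x : Matrix (Fin (n + 3)) (Fin (n + 3)) F, x + x = 0 := fun x => by
    rw [← two_smul F x, CharTwo.two_eq_zero, zero_smul]
  have hne : ∀ t : SL, t ∈ D → t ≠ 1 := by
    intro t ht e
    have h := ((hmem t).1 ht).1
    rw [e, Matrix.SpecialLinearGroup.coe_one, sub_self, Matrix.rank_zero] at h
    exact zero_ne_one h
  have hfield : Fintype.card F = 2 → ∀ x : F, x ≠ 0 → x = 1 := fun h x hx => by
    have := FiniteField.pow_card_sub_one_eq_one x hx
    rwa [h, show 2 - 1 = 1 from rfl, pow_one] at this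
  have main : ∀ a ∈ D, ∀ b ∈ D,
      (a * b = b * a ∧ a * a = 1 ∧ b * b = 1) ∨
      (Odd (orderOf (a * b)) ∧ (Fintype.card F = 2 → (a * b) ^ 3 = 1)) ∨
      (orderOf (a * b) = 4 ∧ (a * b) ^ 2 ∈ D) := by
    intro a ha b hb
    obtain ⟨v, φ, hv, hφ, hφv, hA⟩ := form _ ((hmem a).1 ha).1 ((hmem a).1 ha).2
    obtain ⟨u, ψ, hu, hψ, hψu, hB⟩ := form _ ((hmem b).1 hb).1 ((hmem b).1 hb).2
    set A := vecMulVec v φ with hAd
    set B := vecMulVec u ψ with hBd
    have ea : (a : Matrix (Fin (n + 3)) (Fin (n + 3)) F) = 1 + A := by rw [← hA]; abel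
    have eb : (b : Matrix (Fin (n + 3)) (Fin (n + 3)) F) = 1 + B := by rw [← hB]; abel
    have hAA : A * A = 0 := by rw [hAd, vecMulVec_mul_vecMulVec, hφv, zero_smul, vecMulVec_zero]
    have hBB : B * B = 0 := by rw [hBd, vecMulVec_mul_vecMulVec, hψu, zero_smul, vecMulVec_zero]
    have hAB : A * B = (φ ⬝ᵥ u) • vecMulVec v ψ := by
      rw [hAd, hBd, vecMulVec_mul_vecMulVec, vecMulVec_smul]
    have hBA : B * A = (ψ ⬝ᵥ v) • vecMulVec u φ := by
      rw [hAd, hBd, vecMulVec_mul_vecMulVec, vecMulVec_smul]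
    have eab : ((a * b : SL) : Matrix (Fin (n + 3)) (Fin (n + 3)) F) = 1 + (A + B + A * B) := by
      rw [Matrix.SpecialLinearGroup.coe_mul, ea, eb]; noncomm_ring
    have hsq1 : ∀ (t : SL) (N : Matrix (Fin (n + 3)) (Fin (n + 3)) F),
        (t : Matrix (Fin (n + 3)) (Fin (n + 3)) F) = 1 + N →
        ((t * t : SL) : Matrix (Fin (n + 3)) (Fin (n + 3)) F) = 1 + N * N := by
      intro t N e
      rw [Matrix.SpecialLinearGroup.coe_mul, e]
      calc (1 + N) * (1 + N) = 1 + (N + N) + N * N := by noncomm_ring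
        _ = _ := by rw [hchar, add_zero]
    have hfour : ∀ (z w : Fin (n + 3) → F) (c : F), c ≠ 0 → z ≠ 0 → w ≠ 0 → w ⬝ᵥ z = 0 →
        ((a * b * (a * b) : SL) : Matrix (Fin (n + 3)) (Fin (n + 3)) F) = 1 + c • vecMulVec z w →
        orderOf (a * b) = 4 ∧ (a * b) ^ 2 ∈ D := by
      intro z w c hc hz hw hwz e
      have hm : (a * b) ^ 2 ∈ D := by
        rw [pow_two, hmem, e, ← vecMulVec_smul]
        refine isTransvection_one_add hz (by simp [hc, hw]) ?_
        rw [smul_dotProduct, hwz, smul_zero]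
      refine ⟨?_, hm⟩
      have h4 : ((a * b) ^ 2) * ((a * b) ^ 2) = 1 := Subtype.ext (by
        rw [hsq1 _ _ (by rw [pow_two, e]), smul_mul_smul_comm, vecMulVec_mul_vecMulVec, hwz,
          zero_smul, vecMulVec_zero, smul_zero, add_zero]
        rfl)
      exact orderOf_eq_prime_pow (p := 2) (n := 1) (hne _ hm) (by
        rw [show 2 ^ (1 + 1) = 2 + 2 from rfl, pow_add, h4])
    by_cases h1 : φ ⬝ᵥ u = 0 <;> by_cases h2 : ψ ⬝ᵥ v = 0
    · left
      rw [h1, zero_smul] at hAB
      rw [h2, zero_smul] at hBA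
      refine ⟨Subtype.ext ?_, Subtype.ext ?_, Subtype.ext ?_⟩
      · rw [Matrix.SpecialLinearGroup.coe_mul, Matrix.SpecialLinearGroup.coe_mul, ea, eb, add_mul,
          add_mul, mul_add, mul_add, mul_add, mul_add, hAB, hBA]
        simp only [one_mul, mul_one, add_zero]
        abel
      · rw [hsq1 a A ea, hAA, add_zero]; rfl
      · rw [hsq1 b B eb, hBB, add_zero]; rfl
    · right; right
      rw [h1, zero_smul] at hAB
      refine hfour u φ _ h2 hu hφ h1 ?_
      rw [hsq1 _ _ eab, hAB, add_zero, ← hBA, add_mul, mul_add, mul_add, hAA, hBB, hAB]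
      simp
    · right; right
      rw [h2, zero_smul] at hBA
      refine hfour v ψ _ h1 hv hψ h2 ?_
      rw [hsq1 _ _ eab, ← hAB]
      congr 1
      have : (A + B + A * B) * (A + B + A * B) = A * A + A * B + A * A * B + B * A + B * B
          + B * A * B + A * (B * A) + A * (B * B) + A * (B * A) * B := by noncomm_ring
      rw [this, hAA, hBB, hBA]
      simp
    · right; left
      set l := (φ ⬝ᵥ u) * (ψ ⬝ᵥ v) with hl
      have hl0 : l ≠ 0 := mul_ne_zero h1 h2
      have hABA : A * B * A = l • A := by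
        rw [hAB, hAd, smul_mul_assoc, vecMulVec_mul_vecMulVec, vecMulVec_smul, smul_smul]
      have hBAB : B * A * B = l • B := by
        rw [hBA, hBd, smul_mul_assoc, vecMulVec_mul_vecMulVec, vecMulVec_smul, smul_smul, mul_comm]
      set m := A + B + A * B with hm
      have hcub : ((1 + m) - 1) * ((1 + m) * (1 + m) + l • (1 + m) + 1) = 0 := by
        rw [add_sub_cancel_left]
        have : (1 + m) * (1 + m) + l • (1 + m) + 1 =
            m * m + l • m + l • (1 : Matrix (Fin (n + 3)) (Fin (n + 3)) F) := by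
          rw [smul_add]
          calc _ = ((1 : Matrix (Fin (n + 3)) (Fin (n + 3)) F) + 1) + (m + m) + m * m +
                (l • (1 : Matrix (Fin (n + 3)) (Fin (n + 3)) F) + l • m) := by noncomm_ring
            _ = _ := by rw [hchar, hchar]; abel
        rw [this]
        exact cubic hAA hBB hABA hBAB
      refine ⟨?_, fun hF2 => Subtype.ext ?_⟩
      · have e : orderOf (Matrix.SpecialLinearGroup.toGL (a * b)) = orderOf (a * b) :=
          orderOf_injective _ Matrix.SpecialLinearGroup.toGL_injective _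
        rw [← e]
        refine odd_order hl0 (isOfFinOrder_of_finite _) ?_
        show (((a * b : SL) : Matrix (Fin (n + 3)) (Fin (n + 3)) F) - 1) * _ = 0
        rw [show ((Matrix.SpecialLinearGroup.toGL (a * b) : Matrix.GeneralLinearGroup (Fin (n + 3)) F) :
          Matrix (Fin (n + 3)) (Fin (n + 3)) F) = 1 + m from eab, eab]
        exact hcub
      · rw [hfield hF2 l hl0, one_smul] at hcub
        rw [Matrix.SpecialLinearGroup.coe_pow, eab, Matrix.SpecialLinearGroup.coe_one]
        rw [← sub_eq_zero]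
        calc (1 + m) ^ 3 - 1 = ((1 + m) - 1) * ((1 + m) * (1 + m) + (1 + m) + 1) := by noncomm_ring
          _ = 0 := hcub
  have hroot : Cfsg.IsRootInvolutionSet D := by
    refine ⟨fun d hd => ?_, ?_, fun d hd g => (hmem _).2 (eq_conj g d ((hmem d).1 hd)), fun a ha b hb => ?_⟩
    · refine orderOf_eq_prime (Subtype.ext ?_) (hne d hd)
      obtain ⟨-, h⟩ := (hmem d).1 hd
      rw [Matrix.SpecialLinearGroup.coe_pow, Matrix.SpecialLinearGroup.coe_one, pow_two]
      set N := (d : Matrix (Fin (n + 3)) (Fin (n + 3)) F) - 1 with hN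
      rw [show (d : Matrix (Fin (n + 3)) (Fin (n + 3)) F) = 1 + N by rw [hN]; abel]
      calc (1 + N) * (1 + N) = 1 + (N + N) + N * N := by noncomm_ring
        _ = 1 := by rw [hchar, h, add_zero, add_zero]
    · refine (Subgroup.eq_top_iff' _).2 (SLGen.mem_of_all_transvections _ fun i j hij c => ?_)
      by_cases hc : c = 0
      · subst hc
        have : Matrix.SpecialLinearGroup.transvection hij (0 : F) = 1 := Subtype.ext (by
          rw [SLGen.tv_coe, Matrix.transvection_zero]; rfl)
        rw [this]; exact one_mem _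
      · exact Subgroup.subset_closure ((hmem _).2 (htv i j hij c hc))
    · rcases main a ha b hb with h | h | h
      · exact Or.inl h.1
      · exact Or.inr (Or.inl h.1)
      · exact Or.inr (Or.inr h)
  refine ⟨⟨hroot, ⟨t0, (hmem t0).2 (htv 0 1 h01 1 one_ne_zero)⟩, fun a ha b hb => ?_⟩,
    fun hF2 => ⟨hroot, fun a ha b hb hodd => ?_⟩⟩
  · obtain ⟨g, hg⟩ := isConj_iff.1 (S2579.result (by omega) a b ((hmem a).1 ha) ((hmem b).1 hb))
    exact ⟨g, hg.symm⟩
  · rcases main a ha b hb with h | h | h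
    · left
      have hd : orderOf (a * b) ∣ 2 := orderOf_dvd_of_pow_eq_one (by
        rw [pow_two]
        calc a * b * (a * b) = a * b * (b * a) := by rw [h.1]
          _ = a * (b * b) * a := by group
          _ = 1 := by rw [h.2.2, mul_one, h.2.1])
      rcases (Nat.dvd_prime Nat.prime_two).1 hd with e | e
      · exact e
      · rw [e] at hodd; exact absurd hodd (by decide)
    · exact (Nat.dvd_prime Nat.prime_three).1 (orderOf_dvd_of_pow_eq_one (h.2 hF2))
    · rw [h.1] at hodd; exact absurd hodd (by decide)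

end Cfsg.Agent.S5058
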