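import Cfsg.Statements.S5059
import Cfsg.Agent.EqLemmas

set_option autoImplicit false
universe u
open Cfsg

namespace Cfsg.Agent.S5059

variable {k : Type*} [Field k] {M : Type*} [AddCommGroup M] [Module k M] [FiniteDimensional k M]
  {G : Subgroup (LinearMap.GeneralLinearGroup k M)}

local notation "GLM" => LinearMap.GeneralLinearGroup k M

/-- The linear part `g - 1`. -/
abbrev dev (g : GLM) : M →ₗ[k] M := (g : M →ₗ[k] M) - 1

theorem dev_one : dev (1 : GLM) = 0 := by simp [dev]

theorem coe_eq (g : GLM) : (g : M →ₗ[k] M) = 1 + dev g := by simp [dev]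

theorem mul_zero_of_mem {σ a b : GLM} (hσ : IsQuadraticOn σ)
    (ha : LinearMap.ker (dev a) = LinearMap.ker (dev σ))
    (hb : LinearMap.range (dev b) = LinearMap.range (dev σ)) : dev a * dev b = 0 := by
  refine LinearMap.ext fun v => ?_
  have hv : dev b v ∈ LinearMap.range (dev σ) := hb ▸ LinearMap.mem_range_self _ v
  obtain ⟨w, hw⟩ := hv
  have : dev b v ∈ LinearMap.ker (dev a) := by
    rw [ha, ← hw, LinearMap.mem_ker]
    exact LinearMap.congr_fun hσ.1 w
  simpa using this

theorem step {σ a b : GLM} (hσ : σ ∈ minimalQuadraticElements G)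
    (ha : a ∈ sameActionClass G σ) (hb : b ∈ sameActionClass G σ) :
    dev (a * b) = dev a + dev b ∧ (a * b = 1 ∨ a * b ∈ sameActionClass G σ) := by
  obtain ⟨haM, haK, haR⟩ := ha
  obtain ⟨hbM, hbK, hbR⟩ := hb
  have hab := mul_zero_of_mem hσ.1.2.1 haK hbR
  have e : dev (a * b) = dev a + dev b := by
    have : ((a * b : GLM) : M →ₗ[k] M) = 1 + (dev a + dev b) := by
      rw [Units.val_mul, coe_eq a, coe_eq b, mul_add, add_mul, add_mul, hab]
      simp only [one_mul, mul_one, add_zero]
      abel
    show ((a * b : GLM) : M →ₗ[k] M) - 1 = _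
    rw [this]; abel
  refine ⟨e, ?_⟩
  by_cases h1 : a * b = 1
  · exact Or.inl h1
  right
  have hker : LinearMap.ker (dev σ) ≤ LinearMap.ker (dev (a * b)) := by
    intro v hv
    have h2 : dev a v = 0 := (haK ▸ hv : v ∈ LinearMap.ker (dev a))
    have h3 : dev b v = 0 := (hbK ▸ hv : v ∈ LinearMap.ker (dev b))
    rw [LinearMap.mem_ker, e, LinearMap.add_apply, h2, h3, add_zero]
  have hran : LinearMap.range (dev (a * b)) ≤ LinearMap.range (dev σ) := by
    rintro _ ⟨v, rfl⟩
    rw [e, LinearMap.add_apply]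
    exact add_mem (haR ▸ LinearMap.mem_range_self _ v) (hbR ▸ LinearMap.mem_range_self _ v)
  have hsq : dev (a * b) * dev (a * b) = 0 := by
    rw [e, mul_add, add_mul, add_mul, mul_zero_of_mem hσ.1.2.1 haK haR,
      mul_zero_of_mem hσ.1.2.1 hbK hbR, hab, mul_zero_of_mem hσ.1.2.1 hbK haR]
    simp
  have hne : dev (a * b) ≠ 0 := by
    intro h
    exact h1 (Units.ext (by rw [coe_eq (a * b), h, add_zero, Units.val_one]))
  have hQ : a * b ∈ quadraticElements G := by
    refine ⟨G.mul_mem haM.1.1 hbM.1.1, ⟨hsq, hne⟩, ?_⟩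
    rintro τ ⟨c, hc⟩
    have mk : ∀ x : GLM, IsQuadraticOn x → ∃ y : GLM, (y : M →ₗ[k] M) = 1 + c • dev x := by
      intro x hx
      have hz : ∀ c d : k, (1 + c • dev x) * (1 + d • dev x) = 1 + (c + d) • dev x := by
        intro c d
        rw [mul_add, add_mul, add_mul, smul_mul_smul_comm, hx.1, add_smul]
        simp only [one_mul, mul_one, smul_zero, add_zero]
        abel
      refine ⟨⟨1 + c • dev x, 1 + (-c) • dev x, ?_, ?_⟩, rfl⟩ <;> rw [hz] <;> simp
    obtain ⟨a', ha'⟩ := mk a haM.1.2.1
    obtain ⟨b', hb'⟩ := mk b hbM.1.2.1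
    have : τ = a' * b' := Units.ext (by
      change (τ : M →ₗ[k] M) = 1 + c • dev (a * b) at hc
      rw [hc, Units.val_mul, ha', hb', e, mul_add, add_mul, add_mul, smul_mul_smul_comm, hab]
      simp only [one_mul, mul_one, smul_zero, add_zero, smul_add]
      abel)
    rw [this]
    exact G.mul_mem (haM.1.2.2 ⟨c, ha'⟩) (hbM.1.2.2 ⟨c, hb'⟩)
  have hr : LinearMap.range (dev (a * b)) = LinearMap.range (dev σ) :=
    Submodule.eq_of_le_of_finrank_le hran (hσ.2 _ hQ)
  have hk : LinearMap.ker (dev (a * b)) = LinearMap.ker (dev σ) := by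
    refine (Submodule.eq_of_le_of_finrank_eq hker ?_).symm
    have h2 := LinearMap.finrank_range_add_finrank_ker (dev (a * b))
    have h3 := LinearMap.finrank_range_add_finrank_ker (dev σ)
    rw [hr] at h2
    omega
  exact ⟨⟨hQ, fun τ hτ => by
    show Module.finrank k (LinearMap.range (dev (a * b))) ≤ _
    rw [hr]; exact hσ.2 τ hτ⟩, hk, hr⟩

theorem inv_mem_class {σ a : GLM} (hσ : σ ∈ minimalQuadraticElements G)
    (ha : a ∈ sameActionClass G σ) : a⁻¹ ∈ sameActionClass G σ := by
  obtain ⟨haM, haK, haR⟩ := ha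
  have h0 := mul_zero_of_mem hσ.1.2.1 haK haR
  have e : dev a⁻¹ = (-1 : k) • dev a := by
    have : ((a⁻¹ : GLM) : M →ₗ[k] M) = 1 + (-1 : k) • dev a := by
      apply Units.inv_eq_of_mul_eq_one_right
      rw [coe_eq a, neg_one_smul, mul_add, add_mul, add_mul, mul_neg (dev a), h0]
      simp
    show ((a⁻¹ : GLM) : M →ₗ[k] M) - 1 = _
    rw [this]; abel
  have hk : LinearMap.ker (dev a⁻¹) = LinearMap.ker (dev a) := by
    rw [e]; exact LinearMap.ker_smul _ _ (by simp)
  have hr : LinearMap.range (dev a⁻¹) = LinearMap.range (dev a) := by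
    rw [e]; exact LinearMap.range_smul _ _ (by simp)
  refine ⟨⟨⟨G.inv_mem haM.1.1, ⟨?_, ?_⟩, ?_⟩, ?_⟩, hk.trans haK, hr.trans haR⟩
  · show dev a⁻¹ * dev a⁻¹ = 0
    rw [e, smul_mul_smul_comm, h0, smul_zero]
  · show dev a⁻¹ ≠ 0
    rw [e, neg_one_smul]; exact neg_ne_zero.mpr haM.1.2.1.2
  · rintro τ ⟨c, hc⟩
    apply haM.1.2.2
    refine ⟨-c, ?_⟩
    change (τ : M →ₗ[k] M) = 1 + c • dev a⁻¹ at hc
    show (τ : M →ₗ[k] M) = 1 + (-c) • dev a
    rw [hc, e, smul_smul, mul_neg_one]
  · intro τ hτ
    show Module.finrank k (LinearMap.range (dev a⁻¹)) ≤ _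
    rw [hr]; exact haM.2 τ hτ


/-- Let k be a field of characteristic not 2 with k not of order 3, M a finite-dimensional k-vector space and G ≤ GL(M) such that (G, M) is a quadratic pair (M irreducible for G, and G generated by its quadratically acting elements σ whose scalar family 1 + c(σ − 1), c ∈ k, lies in G). Write 𝒬_d for the quadratic elements of G of minimal commutator rank, E(σ) for the subgroup generated by the members of 𝒬_d with the same fixed space and commutator space as σ, and Σ for the set of these subgroups. Then for σ ∈ 𝒬_d the subgroup E(σ) consists exactly of those members together with the identity, it is abelian, and if k has prime characteristic p every element of E(σ) has order dividing p. -/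
theorem result {k : Type u} [Field k] (hk2 : ringChar k ≠ 2) (hk3 : Nat.card k ≠ 3)
    {M : Type u} [AddCommGroup M] [Module k M] [FiniteDimensional k M]
    {G : Subgroup (LinearMap.GeneralLinearGroup k M)} (hG : Cfsg.IsQuadraticPair G)
    {σ : LinearMap.GeneralLinearGroup k M} (hσ : σ ∈ Cfsg.minimalQuadraticElements G) :
    (Cfsg.sameActionSubgroup G σ : Set (LinearMap.GeneralLinearGroup k M)) = Cfsg.sameActionClass G σ ∪ {1} ∧
    IsMulCommutative ↥(Cfsg.sameActionSubgroup G σ) ∧
    (∀ p : ℕ, p.Prime → ringChar k = p → ∀ x ∈ Cfsg.sameActionSubgroup G σ, x ^ p = 1) := by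
  have hσE : σ ∈ Cfsg.sameActionClass G σ := ⟨hσ, rfl, rfl⟩
  let H : Subgroup (LinearMap.GeneralLinearGroup k M) :=
    { carrier := Cfsg.sameActionClass G σ ∪ {1}
      mul_mem' := by
        rintro a b (ha | rfl) (hb | rfl)
        · rcases (step hσ ha hb).2 with h | h
          · exact Or.inr h
          · exact Or.inl h
        · exact Or.inl (by simpa using ha)
        · exact Or.inl (by simpa using hb)
        · exact Or.inr (by simp)
      one_mem' := Or.inr rfl
      inv_mem' := by
        rintro a (ha | rfl)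
        · exact Or.inl (inv_mem_class hσ ha)
        · exact Or.inr (by simp) }
  have hEq : Cfsg.sameActionSubgroup G σ = H := by
    refine le_antisymm ((Subgroup.closure_le _).mpr fun x hx => Or.inl hx) ?_
    rintro x (hx | rfl)
    · exact Subgroup.subset_closure hx
    · exact one_mem _
  have hcomm : ∀ a ∈ Cfsg.sameActionClass G σ, ∀ b ∈ Cfsg.sameActionClass G σ, a * b = b * a :=
    fun a ha b hb => Units.ext (by
      rw [coe_eq (a * b), coe_eq (b * a), (step hσ ha hb).1, (step hσ hb ha).1, add_comm (dev a)])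
  refine ⟨by rw [hEq]; rfl, ⟨⟨?_⟩⟩, ?_⟩
  · rintro ⟨a, ha⟩ ⟨b, hb⟩
    apply Subtype.ext
    rw [hEq] at ha hb
    rcases ha with ha | rfl <;> rcases hb with hb | rfl <;> try simp
    exact hcomm a ha b hb
  · intro p hp hchar x hx
    rw [hEq] at hx
    rcases hx with hx | rfl
    · apply Units.ext
      have h0 := mul_zero_of_mem hσ.1.2.1 hx.2.1 hx.2.2
      have key : ∀ n : ℕ, ((x ^ n : LinearMap.GeneralLinearGroup k M) : M →ₗ[k] M) = 1 + (n : k) • dev x := by
        intro n
        induction n with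
        | zero => simp
        | succ n ih =>
          rw [pow_succ, Units.val_mul, ih, coe_eq x, mul_add, add_mul, add_mul, smul_mul_assoc (n : k) (dev x) (dev x), h0]
          simp only [one_mul, mul_one, smul_zero, add_zero, Nat.cast_succ, add_smul, one_smul]
          abel
      rw [key, Units.val_one]
      have : CharP k p := hchar ▸ ringChar.charP k
      simp
    · simp

end Cfsg.Agent.S5059
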