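import Cfsg.Statements.S5060
import Cfsg.Agent.Lib.RankOne.GenInfinite

set_option autoImplicit false
open Cfsg

namespace Cfsg.Agent.S5060

open Cfsg.Agent.RankOne
open scoped MatrixGroups

theorem top_of_pb {k L : Type*} [Field k] [Field L] [Algebra k L] (hk2 : ringChar k ≠ 2)
    (hk3 : Nat.card k ≠ 3) (pb : PowerBasis k L) (h0 : pb.gen ≠ 0) : genPair k pb.gen = ⊤ := by
  cases finite_or_infinite k
  · haveI := pb.finite
    haveI : Finite L := Module.finite_of_finite k
    refine genPair_eq_top_of_finite hk2 hk3 h0 fun R hα hc => eq_top_iff.2 fun x _ => ?_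
    have hx : x ∈ Algebra.adjoin k ({pb.gen} : Set L) := by
      rw [pb.adjoin_gen_eq_top]; trivial
    induction hx using Algebra.adjoin_induction with
    | mem y hy => rw [Set.mem_singleton_iff] at hy; exact hy ▸ hα
    | algebraMap c => exact hc c
    | add x y _ _ hx hy => exact add_mem (hx trivial) (hy trivial)
    | mul x y _ _ hx hy => exact mul_mem (hx trivial) (hy trivial)
  · exact Dickson.genPair_eq_top_of_infinite pb (Ring.two_ne_zero hk2) h0

/-- Let k ⊆ K be fields with the characteristic of k not 2 and k not of order 3, and let α ∈ K be a non-zero element algebraic over k. Then the subgroup of SL₂(K) generated by the upper unitriangular matrices with entry c and the lower unitriangular matrices with entry cα, c ranging over k, is exactly the group of matrices of SL₂(K) with all entries in k(α). -/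
theorem result {k K : Type*} [Field k] [Field K] [Algebra k K] (hk2 : ringChar k ≠ 2) (hk3 : Nat.card k ≠ 3)
    (α : K) (hα : IsAlgebraic k α) (hα0 : α ≠ 0) :
    (Subgroup.closure ({g : Matrix.SpecialLinearGroup (Fin 2) K | ∃ c : k, (g : Matrix (Fin 2) (Fin 2) K) = !![1, algebraMap k K c; 0, 1]} ∪
        {g : Matrix.SpecialLinearGroup (Fin 2) K | ∃ c : k, (g : Matrix (Fin 2) (Fin 2) K) = !![1, 0; algebraMap k K c * α, 1]}) :
      Set (Matrix.SpecialLinearGroup (Fin 2) K)) =
    {g : Matrix.SpecialLinearGroup (Fin 2) K | ∀ i j : Fin 2, (g : Matrix (Fin 2) (Fin 2) K) i j ∈ IntermediateField.adjoin k ({α} : Set K)} := by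
  set L := IntermediateField.adjoin k ({α} : Set K) with hL
  let pb : PowerBasis k L := IntermediateField.adjoin.powerBasis hα.isIntegral
  have hgen : (pb.gen : K) = α := IntermediateField.AdjoinSimple.coe_gen k α
  have h0 : pb.gen ≠ 0 := fun e => hα0 (by rw [← hgen, e, ZeroMemClass.coe_zero])
  have htop := top_of_pb hk2 hk3 pb h0
  let f : SL(2, L) →* SL(2, K) := Matrix.SpecialLinearGroup.map (L.val : L →+* K)
  have key : Subgroup.closure ({g : Matrix.SpecialLinearGroup (Fin 2) K | ∃ c : k, (g : Matrix (Fin 2) (Fin 2) K) = !![1, algebraMap k K c; 0, 1]} ∪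
      {g : Matrix.SpecialLinearGroup (Fin 2) K | ∃ c : k, (g : Matrix (Fin 2) (Fin 2) K) = !![1, 0; algebraMap k K c * α, 1]}) =
      (genPair k pb.gen).map f := by
    have hu : ∀ t : L, f (upSL t) = upSL (t : K) := fun t => by
      apply Subtype.ext; ext i j
      fin_cases i <;> fin_cases j <;> simp [f, coe_upSL]
    have hl : ∀ t : L, f (loSL t) = loSL (t : K) := fun t => by
      apply Subtype.ext; ext i j
      fin_cases i <;> fin_cases j <;> simp [f, coe_loSL]
    rw [genPair, MonoidHom.map_closure, Set.image_union, ← Set.range_comp, ← Set.range_comp]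
    congr 2
    · ext g
      simp only [Set.mem_range, Function.comp_apply, hu, Set.mem_setOf_eq]
      exact exists_congr fun c => ⟨fun e => (Subtype.ext e).symm, fun e => e ▸ rfl⟩
    · ext g
      simp only [Set.mem_range, Function.comp_apply, hl, Set.mem_setOf_eq, MulMemClass.coe_mul, hgen]
      exact exists_congr fun c => ⟨fun e => (Subtype.ext e).symm, fun e => e ▸ rfl⟩
  rw [key, htop]
  ext g
  constructor
  · rintro ⟨y, -, rfl⟩ i j
    simp [f]
  · intro hg
    refine ⟨⟨Matrix.of fun i j => ⟨_, hg i j⟩, ?_⟩, trivial, ?_⟩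
    · apply (L.val : L →+* K).injective
      rw [RingHom.map_det, map_one]
      exact g.2
    · apply Subtype.ext; ext i j; rfl

end Cfsg.Agent.S5060
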