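import Cfsg.Statements.S5065
import Cfsg.Agent.EqLemmas
import Cfsg.Agent.Lib.QuadRoot.Classes

set_option autoImplicit false
universe u
open Cfsg

namespace Cfsg.Agent.S5065

/-- Let k be a field of characteristic not 2 with k not of order 3, M a finite-dimensional k-vector space and G ≤ GL(M) such that (G, M) is a quadratic pair (M irreducible for G, and G generated by its quadratically acting elements σ whose scalar family 1 + c(σ − 1), c ∈ k, lies in G). Write 𝒬_d for the quadratic elements of G of minimal commutator rank, E(σ) for the subgroup generated by the members of 𝒬_d with the same fixed space and commutator space as σ, and Σ for the set of these subgroups. For σ, τ ∈ 𝒬_d put A = E(σ), B = E(τ) and X = ⟨A, B⟩. Then either X acts unipotently on M, or A and B are the unipotent subgroups of a special rank one group X; in the latter case X contains exactly one central involution acting as −1 on the commutator space [M, X] and trivially on the fixed space C_M(X),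 and M is the direct sum of C_M(X) and [M, X]. -/
theorem result {k : Type u} [Field k] (hk2 : ringChar k ≠ 2) (hk3 : Nat.card k ≠ 3)
    {M : Type u} [AddCommGroup M] [Module k M] [FiniteDimensional k M]
    {G : Subgroup (LinearMap.GeneralLinearGroup k M)} (hG : Cfsg.IsQuadraticPair G)
    {σ τ : LinearMap.GeneralLinearGroup k M} (hσ : σ ∈ Cfsg.minimalQuadraticElements G) (hτ : τ ∈ Cfsg.minimalQuadraticElements G) :
    Cfsg.IsUnipotentOn (Cfsg.sameActionSubgroup G σ ⊔ Cfsg.sameActionSubgroup G τ) ∨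
    (Cfsg.IsSpecialRankOnePair (Cfsg.sameActionSubgroup G σ) (Cfsg.sameActionSubgroup G τ) ∧
      (∃! i : LinearMap.GeneralLinearGroup k M, i ∈ Cfsg.sameActionSubgroup G σ ⊔ Cfsg.sameActionSubgroup G τ ∧ i ≠ 1 ∧ i * i = 1 ∧
        (∀ x ∈ Cfsg.sameActionSubgroup G σ ⊔ Cfsg.sameActionSubgroup G τ, i * x = x * i) ∧
        (∀ m ∈ Cfsg.commutatorSubmodule (Cfsg.sameActionSubgroup G σ ⊔ Cfsg.sameActionSubgroup G τ), (i : M →ₗ[k] M) m = -m) ∧
        (∀ m ∈ Cfsg.fixedSubmodule (Cfsg.sameActionSubgroup G σ ⊔ Cfsg.sameActionSubgroup G τ), (i : M →ₗ[k] M) m = m)) ∧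
      IsCompl (Cfsg.fixedSubmodule (Cfsg.sameActionSubgroup G σ ⊔ Cfsg.sameActionSubgroup G τ))
        (Cfsg.commutatorSubmodule (Cfsg.sameActionSubgroup G σ ⊔ Cfsg.sameActionSubgroup G τ))) := by
  open Cfsg.Agent.QuadRoot in
  obtain ⟨a, ha, rfl⟩ := minimal_iff.1 hσ
  open Cfsg.Agent.QuadRoot in
  obtain ⟨b, hb, rfl⟩ := minimal_iff.1 hτ
  open Cfsg.Agent.QuadRoot in
  by_cases h : Opp a b
  · right
    rw [Cfsg.Agent.QuadRoot.fixed_sup ha hb, Cfsg.Agent.QuadRoot.commutator_sup ha hb]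
    obtain ⟨L, _, _, ⟨c⟩⟩ := Cfsg.Agent.QuadRoot.exists_model hk2 hk3 ha hb h
    obtain ⟨i, h1, h2, h3, h4, h5, h6⟩ := Cfsg.Agent.QuadRoot.exists_involution hk2 hk3 ha hb h
    refine ⟨Cfsg.Agent.QuadRoot.special_pair hk2 hk3 ha hb h, ⟨i, ⟨h1, h2, h3, h4, h5, h6⟩, ?_⟩, c.isCompl⟩
    rintro j ⟨-, -, -, -, g5, g6⟩
    refine Units.ext (LinearMap.ext fun m => ?_)
    have hm : m ∈ (LinearMap.ker a ⊓ LinearMap.ker b) ⊔ (LinearMap.range a ⊔ LinearMap.range b) := by
      rw [c.isCompl.sup_eq_top]; exact Submodule.mem_top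
    obtain ⟨x, hx, y, hy, rfl⟩ := Submodule.mem_sup.1 hm
    rw [map_add, map_add, g6 x hx, g5 y hy, h6 x hx, h5 y hy]
  · exact Or.inl (Cfsg.Agent.QuadRoot.unipotent_sup hk2 hk3 ha hb h)

end Cfsg.Agent.S5065
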