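import Cfsg.Statements.S5066
import Cfsg.Agent.EqLemmas
import Cfsg.Agent.Lib.QuadRoot.Commutator

set_option autoImplicit false
universe u
open Cfsg

namespace Cfsg.Agent.S5066

/-- Let k be a field of characteristic not 2 with k not of order 3, M a finite-dimensional k-vector space and G ≤ GL(M) such that (G, M) is a quadratic pair (M irreducible for G, and G generated by its quadratically acting elements σ whose scalar family 1 + c(σ − 1), c ∈ k, lies in G). Write 𝒬_d for the quadratic elements of G of minimal commutator rank, E(σ) for the subgroup generated by the members of 𝒬_d with the same fixed space and commutator space as σ, and Σ for the set of these subgroups. Let E, F ∈ Σ generate a subgroup that is nilpotent of class exactly two. Then D = ⁅E, F⁆ belongs to Σ, equals the subgroup generated by the commutators of e with F, and also of E with f, for every non-identity e ∈ E, f ∈ F, and ⟨E, F⟩ lies in U(D), the set of elements g of G normalizing D with (g − 1)M inside the fixed space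 of D, (g − 1) mapping that fixed space into the commutator space of D, and g acting trivially on the commutator space of D. -/
theorem result {k : Type u} [Field k] (hk2 : ringChar k ≠ 2) (hk3 : Nat.card k ≠ 3)
    {M : Type u} [AddCommGroup M] [Module k M] [FiniteDimensional k M]
    {G : Subgroup (LinearMap.GeneralLinearGroup k M)} (hG : Cfsg.IsQuadraticPair G)
    {E F : Subgroup (LinearMap.GeneralLinearGroup k M)} (hE : E ∈ Cfsg.quadraticRootSubgroups G) (hF : F ∈ Cfsg.quadraticRootSubgroups G)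
    (h2 : ⁅E ⊔ F, E ⊔ F⁆ ≠ ⊥ ∧ ⁅⁅E ⊔ F, E ⊔ F⁆, E ⊔ F⁆ = ⊥) :
    ⁅E, F⁆ ∈ Cfsg.quadraticRootSubgroups G ∧
    (∀ e ∈ E, e ≠ 1 → Subgroup.closure ((fun f : LinearMap.GeneralLinearGroup k M => e * f * e⁻¹ * f⁻¹) '' (F : Set (LinearMap.GeneralLinearGroup k M))) = ⁅E, F⁆) ∧
    (∀ f ∈ F, f ≠ 1 → Subgroup.closure ((fun e : LinearMap.GeneralLinearGroup k M => e * f * e⁻¹ * f⁻¹) '' (E : Set (LinearMap.GeneralLinearGroup k M))) = ⁅E, F⁆) ∧
    ((E ⊔ F : Subgroup (LinearMap.GeneralLinearGroup k M)) : Set (LinearMap.GeneralLinearGroup k M)) ⊆ Cfsg.quadraticUnipotentCore G ⁅E, F⁆ := by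
  obtain ⟨a, ha, rfl⟩ := Cfsg.Agent.QuadRoot.mem_quadraticRootSubgroups.1 hE
  obtain ⟨b, hb, rfl⟩ := Cfsg.Agent.QuadRoot.mem_quadraticRootSubgroups.1 hF
  have hno := Cfsg.Agent.QuadRoot.not_opp_of_class_two hk2 hk3 ha hb h2.2
  rcases Cfsg.Agent.QuadRoot.unipotent_cases hk2 hk3 (Cfsg.Agent.QuadRoot.reduced_of_irreducible hG.1) ha hb hno with h | ⟨z, hz⟩
  · haveI := Cfsg.Agent.QuadRoot.sameActionSubgroup_comm ha
    haveI := Cfsg.Agent.QuadRoot.sameActionSubgroup_comm hb
    refine absurd (le_bot_iff.1 (Cfsg.Agent.QuadRoot.commutator_sup_le (fun x hx y hy => ?_)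
      (fun c hc x _ => by rw [Subgroup.mem_bot.1 hc, one_mul, mul_one]))) h2.1
    exact h ▸ Subgroup.commutator_mem_commutator hx hy
  · exact ⟨Cfsg.Agent.QuadRoot.mem_quadraticRootSubgroups.2 ⟨z, hz.dmin, hz.eq⟩, hz.left, hz.right, hz.core⟩

end Cfsg.Agent.S5066
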