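import Cfsg.Statements.S5067
import Cfsg.Agent.EqLemmas

set_option autoImplicit false
open Cfsg
open scoped commutatorElement

namespace Cfsg.Agent.S5067

theorem key {P : Type*} [Group P] [Group.IsNilpotent P] (hna : ¬ IsMulCommutative P)
    {E : Subgroup P} (hE : IsMulCommutative ↥E) :
    Group.nilpotencyClass ↥(Subgroup.normalClosure (E : Set P)) < Group.nilpotencyClass P := by
  set c := Group.nilpotencyClass P with hc
  have hc2 : 2 ≤ c := by
    by_contra h
    exact hna (Group.IsNilpotent.nilpotencyClass_le_one_iff.mp (by omega))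
  set N := E ⊔ commutator P with hN
  have hNn : N.Normal := Subgroup.Normal.of_commutator_le (G := P) le_sup_right
  have hle : Subgroup.normalClosure (E : Set P) ≤ N := by
    have : N.Normal := hNn
    exact Subgroup.normalClosure_le_normal (SetLike.coe_subset_coe.mpr le_sup_left)
  set L := (⊤ : Subgroup P).lowerCentralSeries 2 with hL
  have h1 : ⁅N, N⁆ ≤ L := by
    have hKtop : ⁅commutator P, (⊤ : Subgroup P)⁆ ≤ L := le_of_eq rfl
    have hq : ∀ a b : P, ⁅a, b⁆ ∈ L →
        Commute (QuotientGroup.mk' L a) (QuotientGroup.mk' L b) := by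
      intro a b h
      rw [← commutatorElement_eq_one_iff_commute, ← map_commutatorElement]
      exact (QuotientGroup.eq_one_iff _).mpr h
    have : (N.map (QuotientGroup.mk' L)) ≤
        Subgroup.centralizer (N.map (QuotientGroup.mk' L) : Set (P ⧸ L)) := by
      rw [hN, Subgroup.map_sup]
      refine sup_le ?_ ?_
      · rw [Subgroup.le_centralizer_iff]
        refine sup_le ?_ ?_
        · rintro _ ⟨a, ha, rfl⟩ _ ⟨b, hb, rfl⟩
          rw [← map_mul, ← map_mul]
          exact congrArg _ (congrArg Subtype.val (hE.1.comm ⟨b, hb⟩ ⟨a, ha⟩) :)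
        · rintro _ ⟨a, ha, rfl⟩ _ ⟨b, hb, rfl⟩
          exact ((hq a b (hKtop (Subgroup.commutator_mem_commutator ha (Subgroup.mem_top b)))).symm).eq
      · rintro _ ⟨a, ha, rfl⟩ y _
        obtain ⟨b, rfl⟩ := QuotientGroup.mk'_surjective L y
        exact ((hq a b (hKtop (Subgroup.commutator_mem_commutator ha (Subgroup.mem_top b)))).symm).eq
    rw [← Subgroup.commutator_eq_bot_iff_le_centralizer, ← Subgroup.map_commutator,
      Subgroup.map_eq_bot_iff, QuotientGroup.ker_mk'] at this
    exact this
  have h2 : ∀ i, N.lowerCentralSeries (i + 1) ≤ (⊤ : Subgroup P).lowerCentralSeries (i + 2) := by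
    intro i
    induction i with
    | zero => simpa [hL] using h1
    | succ i ih =>
      rw [Subgroup.lowerCentralSeries_succ _ (i + 1), Subgroup.lowerCentralSeries_succ _ (i + 2)]
      exact Subgroup.commutator_mono ih le_top
  have h3 : (Subgroup.normalClosure (E : Set P)).lowerCentralSeries (c - 1) = ⊥ := by
    rw [eq_bot_iff]
    refine le_trans (Subgroup.lowerCentralSeries_mono _ hle) ?_
    have h4 := h2 (c - 2)
    rw [show c - 2 + 1 = c - 1 by omega, show c - 2 + 2 = c by omega] at h4
    refine h4.trans ?_
    rw [hc, Subgroup.lowerCentralSeries_nilpotencyClass]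
  have h5 : Group.nilpotencyClass ↥(Subgroup.normalClosure (E : Set P)) ≤ c - 1 := by
    rw [← Subgroup.lowerCentralSeries_eq_bot_iff_nilpotencyClass_le, ← Subgroup.map_subtype_inj,
      Subgroup.map_bot, Subgroup.top_subtype_lowerCentralSeries]
    exact h3
  omega


/-- Let P be a non-abelian nilpotent p-group (every element of p-power order; P possibly infinite) generated by two abelian subgroups E and F. Then the normal closure of E in P, and likewise that of F, has nilpotency class strictly smaller than that of P. -/
theorem result {P : Type*} [Group P] {p : ℕ} [Fact p.Prime] (hP : IsPGroup p P) [Group.IsNilpotent P]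
    (hna : ¬ IsMulCommutative P) {E F : Subgroup P} (hE : IsMulCommutative ↥E) (hF : IsMulCommutative ↥F) (hgen : E ⊔ F = ⊤) :
    Group.nilpotencyClass ↥(Subgroup.normalClosure (E : Set P)) < Group.nilpotencyClass P ∧
    Group.nilpotencyClass ↥(Subgroup.normalClosure (F : Set P)) < Group.nilpotencyClass P := by
  exact ⟨key hna hE, key hna hF⟩

end Cfsg.Agent.S5067
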