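import Cfsg.Statements.S5070
import Cfsg.Agent.Lib.RankOne.PairSpec
import Cfsg.Agent.Lib.Transvect.Symp

set_option autoImplicit false
open Matrix
open Cfsg

open Matrix

namespace Cfsg.Agent.S5070

open Cfsg.Agent.RankOne
open scoped MatrixGroups

variable {F : Type*} [Field F] {m : ℕ}

local notation "ι" => Fin m ⊕ Fin m
set_option quotPrecheck false in
local notation "Sp" => ↥(Matrix.symplecticGroup (Fin m) F)

/-- The functional of a point. -/
def dual (p : ι → F) : ι → F := Matrix.J (Fin m) F *ᵥ p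

theorem dual_dot (p q : ι → F) : dual p ⬝ᵥ q = Cfsg.sympForm m F q p := dotProduct_comm _ _

theorem dual_self (p : ι → F) : dual p ⬝ᵥ p = 0 := by
  rw [dual_dot]; exact (Transvect.sympForm_isSymplectic m).alternating p

theorem dual_ne_zero {p : ι → F} (hp : p ≠ 0) : dual p ≠ 0 := fun h => hp (by
  have := congrArg (fun x => Matrix.J (Fin m) F *ᵥ x) h
  simpa [dual, Matrix.mulVec_mulVec, Matrix.J_squared, Matrix.neg_mulVec, Matrix.one_mulVec] using this)

theorem mem_of_isom (g : Matrix ι ι F)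
    (h : ∀ u v, Cfsg.sympForm m F (g *ᵥ u) (g *ᵥ v) = Cfsg.sympForm m F u v) :
    g ∈ Matrix.symplecticGroup (Fin m) F := by
  rw [SymplecticGroup.mem_iff']
  ext i j
  have := h (Pi.single i 1) (Pi.single j 1)
  simp only [Cfsg.sympForm] at this
  rw [Matrix.mulVec_mulVec, dotProduct_comm, dotProduct_mulVec, dotProduct_comm,
    ← Matrix.mulVec_transpose, Matrix.mulVec_mulVec] at this
  simpa [Matrix.mul_assoc, single_dotProduct, Matrix.transpose_mul, Matrix.J_transpose] using this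

theorem isom_of_mem {g : Matrix ι ι F} (h : g ∈ Matrix.symplecticGroup (Fin m) F) (u v : ι → F) :
    Cfsg.sympForm m F (g *ᵥ u) (g *ᵥ v) = Cfsg.sympForm m F u v := by
  rw [SymplecticGroup.mem_iff'] at h
  simp only [Cfsg.sympForm]
  conv_rhs => rw [← h]
  rw [Matrix.mul_assoc, ← Matrix.mulVec_mulVec, ← Matrix.mulVec_mulVec, dotProduct_mulVec u,
    Matrix.vecMul_transpose]

theorem st_matrix_mem (p : ι → F) (c : F) :
    (1 + c • Matrix.vecMulVec p (dual p)) ∈ Matrix.symplecticGroup (Fin m) F := by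
  refine mem_of_isom _ fun u v => ?_
  have := Transvect.st_isIsom (Transvect.sympForm_isSymplectic (F := F) m) p c u v
  rw [Transvect.st_apply, Transvect.st_apply] at this
  have e : ∀ x : ι → F, (1 + c • Matrix.vecMulVec p (dual p)) *ᵥ x =
      x + (c * Cfsg.sympForm m F x p) • p := fun x => by
    rw [Matrix.add_mulVec, Matrix.one_mulVec, Matrix.smul_mulVec, Matrix.vecMulVec_mulVec,
      op_smul_eq_smul, smul_smul, dual_dot]
  rw [e, e]; exact this

/-- The transvection at `p`. -/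
def x (p : ι → F) (c : F) : Sp := ⟨_, st_matrix_mem p c⟩

theorem coe_x (p : ι → F) (c : F) :
    (x p c : Matrix ι ι F) = 1 + c • Matrix.vecMulVec p (dual p) := rfl

/-- The root group of `p`. -/
def T (p : ι → F) : Subgroup Sp :=
  Subgroup.closure {g : Sp | ∃ c : F, ∀ v : ι → F, (g : Matrix ι ι F) *ᵥ v =
    v + (c * (v ⬝ᵥ (Matrix.J (Fin m) F *ᵥ p))) • p}

theorem gen_iff {p : ι → F} {g : Sp} {c : F} :
    (∀ v : ι → F, (g : Matrix ι ι F) *ᵥ v = v + (c * (v ⬝ᵥ (Matrix.J (Fin m) F *ᵥ p))) • p) ↔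
      g = x p c := by
  have e : ∀ v : ι → F, (x p c : Matrix ι ι F) *ᵥ v =
      v + (c * (v ⬝ᵥ (Matrix.J (Fin m) F *ᵥ p))) • p := fun v => by
    rw [coe_x, Matrix.add_mulVec, Matrix.one_mulVec, Matrix.smul_mulVec, Matrix.vecMulVec_mulVec,
      op_smul_eq_smul, smul_smul, dotProduct_comm]
    rfl
  constructor
  · exact fun h => Subtype.ext (Matrix.ext_iff_mulVec.2 fun v => (h v).trans (e v).symm)
  · rintro rfl; exact e

theorem x_add (p : ι → F) (c d : F) : x p (c + d) = x p c * x p d :=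
  by
    have h := congrArg (fun t : Matrix.SpecialLinearGroup ι F => (t : Matrix ι ι F)) (Transv.tv_add (dual_self p) c d)
    exact Subtype.ext h

theorem x_zero (p : ι → F) : x p 0 = 1 :=
  by
    have h := congrArg (fun t : Matrix.SpecialLinearGroup ι F => (t : Matrix ι ι F)) (Transv.tv_zero (dual_self p))
    exact Subtype.ext h

/-- `c ↦ x p c` as a homomorphism. -/
def xHom (p : ι → F) : Multiplicative F →* Sp where
  toFun c := x p c.toAdd
  map_one' := x_zero p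
  map_mul' c d := x_add p c.toAdd d.toAdd

theorem mem_T {p : ι → F} {g : Sp} : g ∈ T p ↔ ∃ c, g = x p c := by
  have e : T p = (xHom p).range := by
    refine le_antisymm ?_ ?_
    · rw [T, Subgroup.closure_le]
      rintro g ⟨c, hc⟩
      exact ⟨Multiplicative.ofAdd c, (gen_iff.1 hc).symm⟩
    · rintro _ ⟨c, rfl⟩
      exact Subgroup.subset_closure ⟨c.toAdd, gen_iff.2 rfl⟩
  rw [e]
  exact ⟨fun ⟨c, hc⟩ => ⟨c.toAdd, hc.symm⟩, fun ⟨c, hc⟩ => ⟨Multiplicative.ofAdd c, hc.symm⟩⟩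

theorem x_mem (p : ι → F) (c : F) : x p c ∈ T p := mem_T.2 ⟨c, rfl⟩

theorem x_conj (g : Sp) (p : ι → F) (c : F) :
    g * x p c * g⁻¹ = x ((g : Matrix ι ι F) *ᵥ p) c := by
  have hg : ∀ v, (g : Matrix ι ι F) *ᵥ (((g⁻¹ : Sp) : Matrix ι ι F) *ᵥ v) = v := fun v => by
    rw [Matrix.mulVec_mulVec, ← Submonoid.coe_mul, mul_inv_cancel, Submonoid.coe_one, Matrix.one_mulVec]
  refine (gen_iff (p := (g : Matrix ι ι F) *ᵥ p) (c := c)).1 fun v => ?_
  rw [Submonoid.coe_mul, Submonoid.coe_mul, ← Matrix.mulVec_mulVec, ← Matrix.mulVec_mulVec,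
    (gen_iff (p := p) (c := c)).2 rfl, Matrix.mulVec_add, hg, Matrix.mulVec_smul]
  have := isom_of_mem g.2 (((g⁻¹ : Sp) : Matrix ι ι F) *ᵥ v) p
  simp only [Cfsg.sympForm, hg] at this
  rw [← this]

theorem conjBy_T (g : Sp) (p : ι → F) : Cfsg.conjBy (T p) g = T ((g : Matrix ι ι F) *ᵥ p) := by
  ext y
  rw [mem_conjBy, mem_T, mem_T]
  refine exists_congr fun c => ?_
  rw [← x_conj g p c]
  constructor
  · intro e; rw [← e]; group
  · intro e; rw [e]; group

theorem toSL_det (p : ι → F) (c : F) : (x p c : Matrix ι ι F).det = 1 :=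
  Transv.det_tv (dual_self p) c

theorem commute_x {p q : ι → F} (h : Cfsg.sympForm m F q p = 0) (c d : F) :
    x p c * x q d = x q d * x p c := by
  have h' : Cfsg.sympForm m F p q = 0 := by
    rw [(Transvect.sympForm_isSymplectic m).skew, h, neg_zero]
  have e := congrArg (fun t : Matrix.SpecialLinearGroup ι F => (t : Matrix ι ι F)) (Transv.tv_commute (dual_self p) (dual_self q)
    ((dual_dot p q).trans h) ((dual_dot q p).trans h') c d)
  exact Subtype.ext e

theorem pair_spec (p q : ι → F) : ⁅T p, T q⁆ = ⊥ ∨ SL2Pair F (T p) (T q) := by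
  by_cases h : Cfsg.sympForm m F q p = 0
  · left
    refine commutator_eq_bot_of fun a ha b hb => ?_
    obtain ⟨c, rfl⟩ := mem_T.1 ha
    obtain ⟨d, rfl⟩ := mem_T.1 hb
    exact commute_x h c d
  right
  have h' : dual q ⬝ᵥ p ≠ 0 := by
    rw [dual_dot, (Transvect.sympForm_isSymplectic m).skew]; exact neg_ne_zero.2 h
  obtain ⟨f, hf, hA, hB, -, -⟩ := Transv.exists_embedding (dual_self p) (dual_self q)
    (by rw [dual_dot]; exact h) h'
  have hroot : ∀ (r : ι → F) (g : Matrix.SpecialLinearGroup ι F), g ∈ Transv.root r (dual r) →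
      (g : Matrix ι ι F) ∈ Matrix.symplecticGroup (Fin m) F := by
    intro r g hg
    obtain ⟨c, rfl⟩ := (Transv.mem_root (dual_self r)).1 hg
    exact st_matrix_mem r c
  have hmem : ∀ M : SL(2, F), (f M : Matrix ι ι F) ∈ Matrix.symplecticGroup (Fin m) F := by
    intro M
    have hM : M ∈ lowerUnipotentSL2 F ⊔ upperUnipotentSL2 F := by
      rw [lower_sup_upper]; exact Subgroup.mem_top M
    rw [Subgroup.sup_eq_closure] at hM
    induction hM using Subgroup.closure_induction'' with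
    | mem y hy =>
      rcases hy with hy | hy
      · exact hroot q _ (hB ▸ ⟨y, hy, rfl⟩)
      · exact hroot p _ (hA ▸ ⟨y, hy, rfl⟩)
    | inv_mem y hy =>
      rcases hy with hy | hy
      · exact hroot q _ (hB ▸ ⟨_, Subgroup.inv_mem _ hy, rfl⟩)
      · exact hroot p _ (hA ▸ ⟨_, Subgroup.inv_mem _ hy, rfl⟩)
    | one => rw [map_one, Matrix.SpecialLinearGroup.coe_one]; exact Submonoid.one_mem _
    | mul y z _ _ hy hz =>
      rw [map_mul, Matrix.SpecialLinearGroup.coe_mul]; exact Submonoid.mul_mem _ hy hz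
  let f' : SL(2, F) →* Sp := MonoidHom.mk' (fun M => ⟨_, hmem M⟩) fun M N => Subtype.ext (by
    show ((f (M * N)) : Matrix ι ι F) = _
    rw [map_mul, Matrix.SpecialLinearGroup.coe_mul]; rfl)
  have key : ∀ (r : ι → F) (U : Subgroup SL(2, F)), U.map f = Transv.root r (dual r) →
      U.map f' = T r := by
    intro r U hU
    ext g
    constructor
    · rintro ⟨M, hM, rfl⟩
      obtain ⟨c, hc⟩ := (Transv.mem_root (dual_self r)).1 (hU ▸ ⟨M, hM, rfl⟩ : f M ∈ _)
      exact mem_T.2 ⟨c, Subtype.ext (congrArg (fun t : Matrix.SpecialLinearGroup ι F =>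
        (t : Matrix ι ι F)) hc)⟩
    · intro hg
      obtain ⟨c, rfl⟩ := mem_T.1 hg
      obtain ⟨M, hM, hMe⟩ := (hU.symm ▸ Transv.tv_mem (dual_self r) c : _ ∈ U.map f)
      exact ⟨M, hM, Subtype.ext (congrArg (fun t : Matrix.SpecialLinearGroup ι F =>
        (t : Matrix ι ι F)) hMe)⟩
  refine ⟨f', fun M N e => hf ?_, key p _ hA, key q _ hB⟩
  have e' := congrArg (fun t : Sp => (t : Matrix ι ι F)) e
  exact Subtype.ext e'

theorem T_ne_bot {p : ι → F} (hp : p ≠ 0) : T p ≠ ⊥ := fun e => by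
  have h := Subgroup.mem_bot.1 (e ▸ x_mem p (1 : F))
  have h' := congrArg (fun t : Sp => (t : Matrix ι ι F)) h
  exact one_ne_zero ((Transv.tv_eq_one_iff (dual_self p) hp (dual_ne_zero hp)).1 (Subtype.ext h'))

theorem main (hm : 0 < m) :
    IsRootSubgroupClass {A : Subgroup Sp | ∃ p : ι → F, p ≠ 0 ∧ A = T p} ∧
      IsDegenerateRootSet {A : Subgroup Sp | ∃ p : ι → F, p ≠ 0 ∧ A = T p} ∧
      IsKRootSubgroupSet F {A : Subgroup Sp | ∃ p : ι → F, p ≠ 0 ∧ A = T p} ∧
      IsConnectedFamily (FAdj {A : Subgroup Sp | ∃ p : ι → F, p ≠ 0 ∧ A = T p})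
        {A : Subgroup Sp | ∃ p : ι → F, p ≠ 0 ∧ A = T p} := by
  set S := {A : Subgroup Sp | ∃ p : ι → F, p ≠ 0 ∧ A = T p}
  have hsymp := Transvect.sympForm_isSymplectic (F := F) m
  have hgen : (⨆ A ∈ S, A) = ⊤ := by
    set K := ⨆ A ∈ S, A
    let toGL : Sp →* Matrix.GeneralLinearGroup ι F :=
      (Matrix.symplecticGroup (Fin m) F).subtype.toHomUnits
    have hle := Transvect.spGL_le_of_centres (K.map toGL) (fun p c => by
      have hx : x p c ∈ K := by
        by_cases hp : p = 0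
        · have : x p c = 1 := Subtype.ext (by rw [coe_x, hp]; simp)
          rw [this]; exact K.one_mem
        · exact Subgroup.mem_iSup_of_mem _ (Subgroup.mem_iSup_of_mem ⟨p, hp, rfl⟩ (x_mem p c))
      refine ⟨x p c, hx, Transvect.gl_ext fun v => ?_⟩
      rw [Transvect.st_apply, Transvect.app_apply]
      exact (gen_iff (p := p) (c := c)).2 rfl v)
    refine eq_top_iff.2 fun g _ => ?_
    obtain ⟨g', hg', he⟩ := hle (show toGL g ∈ Cfsg.spGL m F from fun u v => isom_of_mem g.2 u v)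
    rwa [show g = g' from Subtype.ext (congrArg Units.val he).symm]
  have hadj : ∀ {p q : ι → F}, p ≠ 0 → q ≠ 0 → Cfsg.sympForm m F q p ≠ 0 → FAdj S (T p) (T q) := by
    intro p q hp hq h
    refine ⟨⟨p, hp, rfl⟩, ⟨q, hq, rfl⟩, ((pair_spec p q).resolve_left fun hc => h ?_).rankOne⟩
    have := elem_commute hc (x_mem p (1 : F)) (x_mem q (1 : F))
    have h2 := congrArg (fun g : Sp => (g : Matrix ι ι F) *ᵥ q) this.eq
    simp only [Submonoid.coe_mul, ← Matrix.mulVec_mulVec] at h2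
    rw [(gen_iff (p := q) (c := (1 : F))).2 rfl q, (gen_iff (p := p) (c := (1 : F))).2 rfl] at h2
    rw [show q ⬝ᵥ (Matrix.J (Fin m) F *ᵥ q) = 0 from hsymp.alternating q, mul_zero, zero_smul,
      add_zero, (gen_iff (p := q) (c := (1 : F))).2 rfl, (gen_iff (p := p) (c := (1 : F))).2 rfl] at h2
    simp only [add_dotProduct, smul_dotProduct, one_mul, smul_eq_mul] at h2
    rw [show q ⬝ᵥ (Matrix.J (Fin m) F *ᵥ q) = 0 from hsymp.alternating q, zero_add,
      left_eq_add] at h2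
    rcases smul_eq_zero.1 h2 with h3 | h3
    · rw [show p ⬝ᵥ (Matrix.J (Fin m) F *ᵥ q) = Cfsg.sympForm m F p q from rfl, hsymp.skew] at h3
      simpa [Cfsg.sympForm] using h3
    · exact absurd h3 hq
  have hconn : IsConnectedFamily (FAdj S) S := by
    rintro _ ⟨p, hp, rfl⟩ _ ⟨q, hq, rfl⟩
    obtain ⟨⟨a, ha⟩, -⟩ := hsymp.nondegenerate p hp
    obtain ⟨-, ⟨b, hb⟩⟩ := hsymp.nondegenerate q hq
    obtain ⟨r, -, h1, h2⟩ := exists_both (fun _ => True) (fun _ _ _ _ => trivial)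
      (fun r => Cfsg.sympForm m F r p) (fun r => Cfsg.sympForm m F q r)
      (fun u v => hsymp.bilinear.add_left u v p) (fun u v => hsymp.bilinear.add_right q u v)
      (x := a) (y := b) trivial ha trivial hb
    have hr : r ≠ 0 := fun e => h2 (by rw [e]; simp [Cfsg.sympForm])
    exact (Relation.ReflTransGen.single (hadj hp hr h1)).tail (hadj hr hq h2)
  obtain ⟨h1, h2, h3⟩ := degenerate_spec F (S := S)
    ⟨T (Pi.single (Sum.inl ⟨0, hm⟩) 1), _, by simp, rfl⟩
    (by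
      rintro _ ⟨p, -, rfl⟩
      refine ⟨⟨fun a b => Subtype.ext ?_⟩⟩
      obtain ⟨c, hc⟩ := mem_T.1 a.2
      obtain ⟨d, hd⟩ := mem_T.1 b.2
      simp only [Subgroup.coe_mul, hc, hd, ← x_add, add_comm])
    (by rintro _ ⟨p, hp, rfl⟩; exact T_ne_bot hp) hgen
    (by
      rintro _ ⟨p, hp, rfl⟩ g
      refine ⟨_, fun e => hp ?_, conjBy_T g p⟩
      have := congrArg (fun v => ((g⁻¹ : Sp) : Matrix ι ι F) *ᵥ v) e
      simpa [Matrix.mulVec_mulVec, ← Submonoid.coe_mul] using this)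
    (by rintro _ ⟨p, -, rfl⟩ _ ⟨q, -, rfl⟩; exact pair_spec p q) hconn
  exact ⟨h1, h2, h3, hconn⟩

/-- Let F be a field, m a natural number and V = F^{2(m+1)} with the standard non-degenerate alternating form f(u, v) = uᵀ J v. For a non-zero vector p let T(p) be the group of symplectic transvections v ↦ v + c f(v, p) p, c ∈ F. Then the subgroups T(p), p ≠ 0, generate the symplectic group Sp_{2(m+1)}(F) and form a degenerate class of abstract F-root subgroups of it (any two of them either commute elementwise or are the unipotent subgroups of a rank one group that is an image of SL₂(F) with central kernel, never the commutator case), and their graph of rank one pairs is connected. -/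
theorem result (F : Type*) [Field F] (m : ℕ) :
    Cfsg.IsRootSubgroupClass {A : Subgroup ↥(Matrix.symplecticGroup (Fin (m + 1)) F) | ∃ p : Fin (m + 1) ⊕ Fin (m + 1) → F, p ≠ 0 ∧
        A = Subgroup.closure {g : ↥(Matrix.symplecticGroup (Fin (m + 1)) F) | ∃ c : F, ∀ v : Fin (m + 1) ⊕ Fin (m + 1) → F,
          (g : Matrix (Fin (m + 1) ⊕ Fin (m + 1)) (Fin (m + 1) ⊕ Fin (m + 1)) F) *ᵥ v =
            v + (c * (v ⬝ᵥ (Matrix.J (Fin (m + 1)) F *ᵥ p))) • p}} ∧
    Cfsg.IsDegenerateRootSet {A : Subgroup ↥(Matrix.symplecticGroup (Fin (m + 1)) F) | ∃ p : Fin (m + 1) ⊕ Fin (m + 1) → F, p ≠ 0 ∧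
        A = Subgroup.closure {g : ↥(Matrix.symplecticGroup (Fin (m + 1)) F) | ∃ c : F, ∀ v : Fin (m + 1) ⊕ Fin (m + 1) → F,
          (g : Matrix (Fin (m + 1) ⊕ Fin (m + 1)) (Fin (m + 1) ⊕ Fin (m + 1)) F) *ᵥ v =
            v + (c * (v ⬝ᵥ (Matrix.J (Fin (m + 1)) F *ᵥ p))) • p}} ∧
    Cfsg.IsKRootSubgroupSet F {A : Subgroup ↥(Matrix.symplecticGroup (Fin (m + 1)) F) | ∃ p : Fin (m + 1) ⊕ Fin (m + 1) → F, p ≠ 0 ∧
        A = Subgroup.closure {g : ↥(Matrix.symplecticGroup (Fin (m + 1)) F) | ∃ c : F, ∀ v : Fin (m + 1) ⊕ Fin (m + 1) → F,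
          (g : Matrix (Fin (m + 1) ⊕ Fin (m + 1)) (Fin (m + 1) ⊕ Fin (m + 1)) F) *ᵥ v =
            v + (c * (v ⬝ᵥ (Matrix.J (Fin (m + 1)) F *ᵥ p))) • p}} ∧
    Cfsg.IsConnectedFamily (Cfsg.FAdj {A : Subgroup ↥(Matrix.symplecticGroup (Fin (m + 1)) F) | ∃ p : Fin (m + 1) ⊕ Fin (m + 1) → F, p ≠ 0 ∧
        A = Subgroup.closure {g : ↥(Matrix.symplecticGroup (Fin (m + 1)) F) | ∃ c : F, ∀ v : Fin (m + 1) ⊕ Fin (m + 1) → F,
          (g : Matrix (Fin (m + 1) ⊕ Fin (m + 1)) (Fin (m + 1) ⊕ Fin (m + 1)) F) *ᵥ v =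
            v + (c * (v ⬝ᵥ (Matrix.J (Fin (m + 1)) F *ᵥ p))) • p}})
      {A : Subgroup ↥(Matrix.symplecticGroup (Fin (m + 1)) F) | ∃ p : Fin (m + 1) ⊕ Fin (m + 1) → F, p ≠ 0 ∧
        A = Subgroup.closure {g : ↥(Matrix.symplecticGroup (Fin (m + 1)) F) | ∃ c : F, ∀ v : Fin (m + 1) ⊕ Fin (m + 1) → F,
          (g : Matrix (Fin (m + 1) ⊕ Fin (m + 1)) (Fin (m + 1) ⊕ Fin (m + 1)) F) *ᵥ v =
            v + (c * (v ⬝ᵥ (Matrix.J (Fin (m + 1)) F *ᵥ p))) • p}} := by
  exact main (Nat.succ_pos m)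

end Cfsg.Agent.S5070
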