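import Cfsg.Statements.S5071
import Cfsg.Agent.Lib.RankOne.PairSpec
import Cfsg.Agent.Lib.Unitary.Generation

set_option autoImplicit false
open Matrix
open Cfsg

open Matrix

namespace Cfsg.Agent.S5071

open Cfsg.Agent.RankOne
open scoped MatrixGroups

variable {F : Type*} [Field F] [Fintype F] {q N : ℕ}

local notation "𝕙" => Cfsg.hermForm N F q

/-- The root group of an isotropic point. -/
def T (q : ℕ) (p : Fin N → F) : Subgroup ↥(Cfsg.SU N F q) :=
  Subgroup.closure {g : ↥(Cfsg.SU N F q) |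
    (∀ v : Fin N → F, ∃ c : F,
      ((g : Matrix.SpecialLinearGroup (Fin N) F) : Matrix (Fin N) (Fin N) F) *ᵥ v = v + c • p) ∧
    ∀ v : Fin N → F, Cfsg.hermForm N F q v p = 0 →
      ((g : Matrix.SpecialLinearGroup (Fin N) F) : Matrix (Fin N) (Fin N) F) *ᵥ v = v}

/-- The conjugate vector. -/
def cv (q : ℕ) (p : Fin N → F) : Fin N → F := fun j => p j ^ q

omit [Fintype F] in
theorem cv_dot (p v : Fin N → F) : cv q p ⬝ᵥ v = Cfsg.hermForm N F q v p := by
  simp [cv, dotProduct, Cfsg.hermForm, mul_comm]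

variable (hF : Fintype.card F = q ^ 2) {L : Type} [Field L] (ι : L →+* F)
  (hι : ∀ a, ι a ^ q = ι a) (hsur : ∀ a : F, a ^ q = a → ∃ t, ι t = a)
  {δ : F} (hδ0 : δ ≠ 0) (hδ : δ ^ q = -δ)

omit [Fintype F] in
include hι hδ in
theorem skew_param (t : L) : ι t * δ + (ι t * δ) ^ q = 0 := by
  rw [mul_pow, hι, hδ]; ring

/-- The transvection at `p` with parameter `t`. -/
def x (p : Fin N → F) (hp : Cfsg.hermForm N F q p p = 0) (t : L) : ↥(Cfsg.SU N F q) :=
  Unitary.suTransvection hF p hp (ι t * δ) (skew_param ι hι hδ t)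

theorem coe_x (p : Fin N → F) (hp : Cfsg.hermForm N F q p p = 0) (t : L) :
    ((x hF ι hι hδ p hp t : Matrix.SpecialLinearGroup (Fin N) F) : Matrix (Fin N) (Fin N) F) =
      1 + (ι t * δ) • Matrix.vecMulVec p (cv q p) := rfl

theorem act_x (p : Fin N → F) (hp : Cfsg.hermForm N F q p p = 0) (t : L) (v : Fin N → F) :
    Unitary.suAct (x hF ι hι hδ p hp t) v = v + (ι t * δ * Cfsg.hermForm N F q v p) • p :=
  Unitary.suAct_suTransvection hF p v hp _ _

theorem x_zero (p : Fin N → F) (hp : Cfsg.hermForm N F q p p = 0) : x hF ι hι hδ p hp 0 = 1 :=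
  Unitary.suAct_ext fun v => by simp [act_x]

theorem x_add (p : Fin N → F) (hp : Cfsg.hermForm N F q p p = 0) (s t : L) :
    x hF ι hι hδ p hp (s + t) = x hF ι hι hδ p hp s * x hF ι hι hδ p hp t :=
  Unitary.suAct_ext fun v => by
    have H := Unitary.hermForm_isHerm hF N
    rw [Unitary.suAct_mul, act_x, act_x, act_x, H.add_left, H.smul_left, hp, mul_zero, add_zero,
      map_add, add_assoc, ← add_smul]
    congr 2; ring

theorem gen_iff {p : Fin N → F} (hp0 : p ≠ 0) (hp : Cfsg.hermForm N F q p p = 0)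
    (g : ↥(Cfsg.SU N F q)) (hsur : ∀ a : F, a ^ q = a → ∃ t, ι t = a) (hδ0 : δ ≠ 0) :
    ((∀ v : Fin N → F, ∃ c : F,
        ((g : Matrix.SpecialLinearGroup (Fin N) F) : Matrix (Fin N) (Fin N) F) *ᵥ v = v + c • p) ∧
      ∀ v : Fin N → F, Cfsg.hermForm N F q v p = 0 →
        ((g : Matrix.SpecialLinearGroup (Fin N) F) : Matrix (Fin N) (Fin N) F) *ᵥ v = v) ↔
      ∃ t, g = x hF ι hι hδ p hp t := by
  have H := Unitary.hermForm_isHerm hF N
  constructor
  · rintro ⟨h1, h2⟩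
    obtain ⟨i, hi⟩ := Function.ne_iff.1 hp0
    have hz : Cfsg.hermForm N F q (Pi.single i 1) p ≠ 0 := by
      rw [Unitary.hermForm_single_left]
      exact fun e => hi ((Unitary.pow_q_eq_zero hF).1 e)
    obtain ⟨c, hc⟩ := h1 (Pi.single i 1)
    set y := (Pi.single i 1 : Fin N → F)
    set a := c / Cfsg.hermForm N F q y p
    have hg : ∀ v, Unitary.suAct g v = v + (a * Cfsg.hermForm N F q v p) • p := by
      intro v
      set r := Cfsg.hermForm N F q v p / Cfsg.hermForm N F q y p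
      have hv : Cfsg.hermForm N F q (v - r • y) p = 0 := by
        rw [H.sub_left, H.smul_left, div_mul_cancel₀ _ hz, sub_self]
      have e1 : Unitary.suAct g (v - r • y) = v - r • y := h2 _ hv
      rw [Unitary.suAct_sub, Unitary.suAct_smul, show Unitary.suAct g y = y + c • p from hc,
        smul_add, sub_eq_iff_eq_add] at e1
      rw [e1, smul_smul, show r * c = a * Cfsg.hermForm N F q v p by simp only [r, a]; ring]
      abel
    have hM : ((g : Matrix.SpecialLinearGroup (Fin N) F) : Matrix (Fin N) (Fin N) F) =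
        Cfsg.unitaryTransvection N q p a :=
      Matrix.ext_iff_mulVec.2 fun v => (hg v).trans (Unitary.transvection_mulVec p v a).symm
    have ha : a + a ^ q = 0 :=
      (Unitary.transvection_isometry_iff hF p hp0 hp a).1 (hM ▸ (g.2 : Unitary.IsUnitary q _))
    obtain ⟨t, ht⟩ := hsur (a / δ) (by
      rw [div_pow, hδ, eq_neg_of_add_eq_zero_right ha, neg_div_neg_eq])
    exact ⟨t, Unitary.suAct_ext fun v => by rw [hg, act_x, ht, div_mul_cancel₀ _ hδ0]⟩
  · rintro ⟨t, rfl⟩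
    exact ⟨fun v => ⟨_, act_x hF ι hι hδ p hp t v⟩, fun v hv => by
      have := act_x hF ι hι hδ p hp t v
      rwa [hv, mul_zero, zero_smul, add_zero] at this⟩

/-- `t ↦ x p t` as a homomorphism. -/
def xHom (p : Fin N → F) (hp : Cfsg.hermForm N F q p p = 0) :
    Multiplicative L →* ↥(Cfsg.SU N F q) where
  toFun t := x hF ι hι hδ p hp t.toAdd
  map_one' := x_zero hF ι hι hδ p hp
  map_mul' s t := x_add hF ι hι hδ p hp s.toAdd t.toAdd

include hsur hδ0 in
theorem mem_T {p : Fin N → F} (hp0 : p ≠ 0) (hp : Cfsg.hermForm N F q p p = 0)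
    {g : ↥(Cfsg.SU N F q)} : g ∈ T q p ↔ ∃ t, g = x hF ι hι hδ p hp t := by
  have e : T q p = (xHom hF ι hι hδ p hp).range := by
    refine le_antisymm ?_ ?_
    · rw [T, Subgroup.closure_le]
      intro g hg
      obtain ⟨t, rfl⟩ := (gen_iff hF ι hι hδ hp0 hp g hsur hδ0).1 hg
      exact ⟨Multiplicative.ofAdd t, rfl⟩
    · rintro _ ⟨t, rfl⟩
      exact Subgroup.subset_closure ((gen_iff hF ι hι hδ hp0 hp _ hsur hδ0).2 ⟨t.toAdd, rfl⟩)
  rw [e]
  exact ⟨fun ⟨t, ht⟩ => ⟨t.toAdd, ht.symm⟩, fun ⟨t, ht⟩ => ⟨Multiplicative.ofAdd t, ht.symm⟩⟩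

include hF in
theorem T_smul {s : F} (hs : s ≠ 0) (p : Fin N → F) : T q (s • p) = T q p := by
  have H := Unitary.hermForm_isHerm hF N
  have hperp : ∀ v, Cfsg.hermForm N F q v (s • p) = 0 ↔ Cfsg.hermForm N F q v p = 0 := fun v => by
    rw [H.conj_symm (s • p) v, H.smul_left, Unitary.pow_q_eq_zero hF, mul_eq_zero,
      or_iff_right hs, H.conj_symm p v, Unitary.pow_q_eq_zero hF]
  unfold T; congr 1; ext g
  refine and_congr (forall_congr' fun v => ⟨?_, ?_⟩) (forall_congr' fun v => imp_congr (hperp v) Iff.rfl)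
  · rintro ⟨c, hc⟩; exact ⟨c * s, by rw [hc, smul_smul]⟩
  · rintro ⟨c, hc⟩; exact ⟨c / s, by rw [hc, smul_smul, div_mul_cancel₀ c hs]⟩

include hF in
theorem conjBy_T (g : ↥(Cfsg.SU N F q)) (p : Fin N → F) :
    Cfsg.conjBy (T q p) g = T q (Unitary.suAct g p) := by
  have key : ∀ (g : ↥(Cfsg.SU N F q)) (p : Fin N → F), Cfsg.conjBy (T q p) g ≤ T q (Unitary.suAct g p) := by
    intro g p
    rw [Cfsg.conjBy, T, MonoidHom.map_closure, Subgroup.closure_le]
    rintro _ ⟨y, ⟨h1, h2⟩, rfl⟩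
    refine Subgroup.subset_closure ⟨fun v => ?_, fun v hv => ?_⟩
    · obtain ⟨c, hc⟩ := h1 (Unitary.suAct g⁻¹ v)
      refine ⟨c, ?_⟩
      show Unitary.suAct (g * y * g⁻¹) v = _
      rw [Unitary.suAct_mul, Unitary.suAct_mul, show Unitary.suAct y (Unitary.suAct g⁻¹ v) = _ from hc,
        Unitary.suAct_add, Unitary.suAct_smul, Unitary.suAct_suAct_inv]
    · show Unitary.suAct (g * y * g⁻¹) v = _
      rw [Unitary.suAct_mul, Unitary.suAct_mul,
        show Unitary.suAct y (Unitary.suAct g⁻¹ v) = Unitary.suAct g⁻¹ v from h2 _ ?_,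
        Unitary.suAct_suAct_inv]
      rwa [← Unitary.suAct_herm g, Unitary.suAct_suAct_inv]
  refine le_antisymm (key g p) ?_
  have h := conjBy_mono (key g⁻¹ (Unitary.suAct g p)) g
  rwa [Unitary.suAct_inv_suAct, conjBy_conjBy_inv] at h

theorem x_commute {p w : Fin N → F} (hp : Cfsg.hermForm N F q p p = 0)
    (hw : Cfsg.hermForm N F q w w = 0) (h : Cfsg.hermForm N F q p w = 0) (s t : L) :
    x hF ι hι hδ p hp s * x hF ι hι hδ w hw t = x hF ι hι hδ w hw t * x hF ι hι hδ p hp s := by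
  have H := Unitary.hermForm_isHerm hF N
  have h' : Cfsg.hermForm N F q w p = 0 := (H.eq_zero_symm hF).1 h
  refine Unitary.suAct_ext fun v => ?_
  simp only [Unitary.suAct_mul, act_x, H.add_left, H.smul_left, h, h', mul_zero, add_zero]
  abel

include hι hsur hδ0 hδ hF in
theorem pair_spec {p w : Fin N → F} (hp0 : p ≠ 0) (hp : Cfsg.hermForm N F q p p = 0) (hw0 : w ≠ 0)
    (hw : Cfsg.hermForm N F q w w = 0) : ⁅T q p, T q w⁆ = ⊥ ∨ SL2Pair L (T q p) (T q w) := by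
  have H := Unitary.hermForm_isHerm hF N
  by_cases h : Cfsg.hermForm N F q p w = 0
  · left
    refine commutator_eq_bot_of fun a ha b hb => ?_
    obtain ⟨s, rfl⟩ := (mem_T hF ι hι hsur hδ0 hδ hp0 hp).1 ha
    obtain ⟨t, rfl⟩ := (mem_T hF ι hι hsur hδ0 hδ hw0 hw).1 hb
    exact x_commute hF ι hι hδ hp hw h s t
  right
  have h' : Cfsg.hermForm N F q w p ≠ 0 := fun e => h ((H.eq_zero_symm hF).1 e)
  set s := (δ * Cfsg.hermForm N F q w p)⁻¹ with hs
  have hs0 : s ≠ 0 := inv_ne_zero (mul_ne_zero hδ0 h')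
  rw [← T_smul hF hs0 w]
  set w' := s • w
  have hw0' : w' ≠ 0 := smul_ne_zero hs0 hw0
  have hw' : Cfsg.hermForm N F q w' w' = 0 := by
    rw [H.smul_left, H.smul_right, hw, mul_zero, mul_zero]
  have hwp : Cfsg.hermForm N F q w' p = δ⁻¹ := by
    rw [H.smul_left, hs, mul_inv, mul_assoc, inv_mul_cancel₀ h', mul_one]
  have hpw : Cfsg.hermForm N F q p w' = -δ⁻¹ := by
    rw [H.conj_symm w' p, hwp, inv_pow, hδ, inv_neg]
  have hv1 : (δ • cv q p) ⬝ᵥ p = 0 := by rw [smul_dotProduct, cv_dot, hp, smul_zero]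
  have hv2 : (δ • cv q w') ⬝ᵥ w' = 0 := by rw [smul_dotProduct, cv_dot, hw', smul_zero]
  have ha : (δ • cv q p) ⬝ᵥ w' = 1 := by
    rw [smul_dotProduct, cv_dot, hwp, smul_eq_mul, mul_inv_cancel₀ hδ0]
  have hb : (δ • cv q w') ⬝ᵥ p = -1 := by
    rw [smul_dotProduct, cv_dot, hpw, smul_eq_mul, mul_neg, mul_inv_cancel₀ hδ0]
  obtain ⟨f, hf, -, -, hup, hlo⟩ := Transv.exists_embedding hv1 hv2 (by rw [ha]; exact one_ne_zero)
    (by rw [hb]; exact neg_ne_zero.2 one_ne_zero)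
  let f₁ : SL(2, L) →* Matrix.SpecialLinearGroup (Fin N) F :=
    f.comp (Matrix.SpecialLinearGroup.map ι)
  have hmapu : ∀ t : L, Matrix.SpecialLinearGroup.map ι (upSL t) = upSL (ι t) := fun t => by
    apply Subtype.ext
    ext i j; fin_cases i <;> fin_cases j <;> simp [coe_upSL]
  have hmapl : ∀ t : L, Matrix.SpecialLinearGroup.map ι (loSL t) = loSL (ι t) := fun t => by
    apply Subtype.ext
    ext i j; fin_cases i <;> fin_cases j <;> simp [coe_loSL]
  have hu : ∀ t : L, f₁ (upSL t) = (x hF ι hι hδ p hp t : Matrix.SpecialLinearGroup (Fin N) F) :=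
    fun t => by
      apply Subtype.ext
      simp only [f₁, MonoidHom.comp_apply, hmapu, hup, Transv.coe_tv, coe_x, ha, div_one,
        vecMulVec_smul, smul_smul]
  have hl : ∀ t : L, f₁ (loSL t) = (x hF ι hι hδ w' hw' (-t) : Matrix.SpecialLinearGroup (Fin N) F) :=
    fun t => by
      apply Subtype.ext
      simp only [f₁, MonoidHom.comp_apply, hmapl, hlo, Transv.coe_tv, coe_x, hb, div_neg, div_one,
        vecMulVec_smul, smul_smul, map_neg]
  have hrange : ∀ M, f₁ M ∈ Cfsg.SU N F q := by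
    intro M
    have hle : (lowerUnipotentSL2 L ⊔ upperUnipotentSL2 L) ≤ (Cfsg.SU N F q).comap f₁ := by
      refine sup_le ?_ ?_
      · intro y hy
        obtain ⟨t, rfl⟩ := mem_lowerUnipotentSL2.1 hy
        rw [Subgroup.mem_comap, hl]; exact SetLike.coe_mem _
      · intro y hy
        obtain ⟨t, rfl⟩ := mem_upperUnipotentSL2.1 hy
        rw [Subgroup.mem_comap, hu]; exact SetLike.coe_mem _
    rw [lower_sup_upper] at hle
    exact hle (Subgroup.mem_top M)
  refine ⟨f₁.codRestrict (Cfsg.SU N F q) hrange, fun M M' e => ?_, ?_, ?_⟩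
  · have e' : f₁ M = f₁ M' := congrArg Subtype.val e
    have e'' := congrArg Subtype.val (hf e')
    exact Subtype.ext (Matrix.map_injective ι.injective e'')
  · ext g
    constructor
    · rintro ⟨y, hy, rfl⟩
      obtain ⟨t, rfl⟩ := mem_upperUnipotentSL2.1 hy
      exact (mem_T hF ι hι hsur hδ0 hδ hp0 hp).2 ⟨t, Subtype.ext (hu t)⟩
    · intro hg
      obtain ⟨t, rfl⟩ := (mem_T hF ι hι hsur hδ0 hδ hp0 hp).1 hg
      exact ⟨upSL t, upSL_mem t, Subtype.ext (hu t)⟩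
  · ext g
    constructor
    · rintro ⟨y, hy, rfl⟩
      obtain ⟨t, rfl⟩ := mem_lowerUnipotentSL2.1 hy
      exact (mem_T hF ι hι hsur hδ0 hδ hw0' hw').2 ⟨-t, Subtype.ext (hl t)⟩
    · intro hg
      obtain ⟨t, rfl⟩ := (mem_T hF ι hι hsur hδ0 hδ hw0' hw').1 hg
      exact ⟨loSL (-t), loSL_mem _, Subtype.ext ((hl (-t)).trans (by rw [neg_neg]))⟩

/-- A type with `q` elements, to carry the fixed field in `Type`. -/
def Carrier (q : ℕ) : Type := Fin q

instance instFintypeCarrier (q : ℕ) : Fintype (Carrier q) := inferInstanceAs (Fintype (Fin q))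

/-- An embedded pair inside a subgroup. -/
theorem SL2Pair_subgroupOf {k : Type*} [Field k] {G : Type*} [Group G] {A B K : Subgroup G}
    (h : SL2Pair k A B) (hA : A ≤ K) (hB : B ≤ K) : SL2Pair k (A.subgroupOf K) (B.subgroupOf K) := by
  obtain ⟨f, hf, hfA, hfB⟩ := h
  have hr : ∀ M, f M ∈ K := by
    intro M
    have hle : lowerUnipotentSL2 k ⊔ upperUnipotentSL2 k ≤ K.comap f :=
      sup_le (Subgroup.map_le_iff_le_comap.1 (hfB.le.trans hB))
        (Subgroup.map_le_iff_le_comap.1 (hfA.le.trans hA))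
    rw [lower_sup_upper] at hle
    exact hle (Subgroup.mem_top M)
  have key : ∀ (U : Subgroup SL(2, k)) (X : Subgroup G), U.map f = X →
      U.map (f.codRestrict K hr) = X.subgroupOf K := by
    intro U X hX
    ext g
    rw [Subgroup.mem_subgroupOf, ← hX]
    constructor
    · rintro ⟨M, hM, rfl⟩; exact ⟨M, hM, rfl⟩
    · rintro ⟨M, hM, he⟩; exact ⟨M, hM, Subtype.ext he⟩
  exact ⟨_, fun M M' e => hf (congrArg Subtype.val e), key _ _ hfA, key _ _ hfB⟩

include hι hsur hδ0 hδ hF in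
theorem main {n : ℕ} (hN : N = n + 2) :
    let S := {A : Subgroup ↥(Cfsg.SU N F q) | ∃ p : Fin N → F, p ≠ 0 ∧
      Cfsg.hermForm N F q p p = 0 ∧ A = T q p}
    let S' := (fun A : Subgroup ↥(Cfsg.SU N F q) => A.subgroupOf (⨆ B ∈ S, B)) '' S
    IsRootSubgroupClass S' ∧ IsDegenerateRootSet S' ∧ IsKRootSubgroupSet L S' ∧
      IsConnectedFamily (FAdj S') S' := by
  intro S S'
  have H := Unitary.hermForm_isHerm hF N
  have hle : ∀ A ∈ S, A ≤ ⨆ B ∈ S, B := fun A hA => le_biSup (fun B : Subgroup ↥(Cfsg.SU N F q) => B) hA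
  have hadj : ∀ {p w : Fin N → F}, p ≠ 0 → Cfsg.hermForm N F q p p = 0 → w ≠ 0 →
      Cfsg.hermForm N F q w w = 0 → Cfsg.hermForm N F q p w ≠ 0 →
      FAdj S' ((T q p).subgroupOf (⨆ B ∈ S, B)) ((T q w).subgroupOf (⨆ B ∈ S, B)) := by
    intro p w hp0 hp hw0 hw h
    refine ⟨⟨_, ⟨p, hp0, hp, rfl⟩, rfl⟩, ⟨_, ⟨w, hw0, hw, rfl⟩, rfl⟩,
      (SL2Pair_subgroupOf ((pair_spec hF ι hι hsur hδ0 hδ hp0 hp hw0 hw).resolve_left fun hc => h ?_)
        (hle _ ⟨p, hp0, hp, rfl⟩) (hle _ ⟨w, hw0, hw, rfl⟩)).rankOne⟩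
    have h1 : x hF ι hι hδ p hp 1 ∈ T q p := (mem_T hF ι hι hsur hδ0 hδ hp0 hp).2 ⟨1, rfl⟩
    have h2 : x hF ι hι hδ w hw 1 ∈ T q w := (mem_T hF ι hι hsur hδ0 hδ hw0 hw).2 ⟨1, rfl⟩
    have e := congrArg (fun g => Unitary.suAct g p) (elem_commute hc h1 h2).eq
    simp only [Unitary.suAct_mul, act_x, H.add_left, H.smul_left, hp, map_one, one_mul, mul_zero,
      zero_smul, add_zero, zero_add] at e
    have e2 : (δ * (δ * Cfsg.hermForm N F q p w * Cfsg.hermForm N F q w p)) • p = 0 :=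
      add_left_cancel (e.trans (add_zero _).symm)
    rw [smul_eq_zero, or_iff_left hp0, mul_eq_zero, or_iff_right hδ0, mul_eq_zero, mul_eq_zero,
      or_iff_right hδ0] at e2
    rcases e2 with e2 | e2
    · exact e2
    · exact (H.eq_zero_symm hF).1 e2
  have hconn : IsConnectedFamily (FAdj S') S' := by
    rintro _ ⟨_, ⟨p, hp0, hp, rfl⟩, rfl⟩ _ ⟨_, ⟨w, hw0, hw, rfl⟩, rfl⟩
    by_cases h : Cfsg.hermForm N F q p w = 0
    · obtain ⟨i, hi⟩ := Function.ne_iff.1 hp0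
      obtain ⟨j, hj⟩ := Function.ne_iff.1 hw0
      obtain ⟨y, -, hy1, hy2⟩ := exists_both (fun _ => True) (fun _ _ _ _ => trivial)
        (fun y => Cfsg.hermForm N F q y p) (fun y => Cfsg.hermForm N F q y w)
        (fun u v => H.add_left u v p) (fun u v => H.add_left u v w)
        (x := Pi.single i 1) (y := Pi.single j 1) trivial
        (by rw [Unitary.hermForm_single_left]; exact fun e => hi ((Unitary.pow_q_eq_zero hF).1 e))
        trivial
        (by rw [Unitary.hermForm_single_left]; exact fun e => hj ((Unitary.pow_q_eq_zero hF).1 e))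
      obtain ⟨a, ha⟩ := Unitary.exists_trace_eq hF (c := -Cfsg.hermForm N F q y y)
        (by rw [Unitary.neg_pow_q hF, H.self_fixed])
      have hpy : Cfsg.hermForm N F q p y ≠ 0 := fun e => hy1 ((H.eq_zero_symm hF).1 e)
      set s := a / Cfsg.hermForm N F q p y
      set r := y + s • p
      have hsa : s * Cfsg.hermForm N F q p y = a := div_mul_cancel₀ a hpy
      have hr : Cfsg.hermForm N F q r r = 0 := by
        simp only [r, H.add_left, H.add_right hF, H.smul_left, H.smul_right, hp, mul_zero, add_zero]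
        rw [H.conj_symm p y, ← mul_pow, hsa]
        linear_combination ha
      have hrp : Cfsg.hermForm N F q r p ≠ 0 := by
        simpa only [r, H.add_left, H.smul_left, hp, mul_zero, add_zero] using hy1
      have hrw : Cfsg.hermForm N F q r w ≠ 0 := by
        simpa only [r, H.add_left, H.smul_left, h, mul_zero, add_zero] using hy2
      have hr0 : r ≠ 0 := fun e => hrp (by rw [e, H.zero_left])
      exact (Relation.ReflTransGen.single
        (hadj hp0 hp hr0 hr fun e => hrp ((H.eq_zero_symm hF).1 e))).tail (hadj hr0 hr hw0 hw hrw)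
    · exact Relation.ReflTransGen.single (hadj hp0 hp hw0 hw h)
  refine (fun hs => ⟨hs.1, hs.2.1, hs.2.2, hconn⟩)
    (degenerate_spec L (S := S') ?_ ?_ ?_ ?_ ?_ ?_ hconn)
  · obtain ⟨ε, hε⟩ := Unitary.exists_eps hF
    subst hN
    refine ⟨_, T q (Pi.single 0 1 + ε • Pi.single 1 1), ⟨_, fun e => ?_, ?_, rfl⟩, rfl⟩
    · simpa using congrFun e 0
    · have h01 : (0 : Fin (n + 2)) ≠ 1 := by simp
      simp only [H.add_left, H.add_right hF, H.smul_left, H.smul_right, Unitary.hermForm_single_left,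
        Pi.single_eq_same, Pi.single_eq_of_ne h01, Pi.single_eq_of_ne h01.symm, one_pow,
        zero_pow (show q ≠ 0 by have := Unitary.two_le_q hF; omega)]
      linear_combination hε
  · rintro _ ⟨_, ⟨p, hp0, hp, rfl⟩, rfl⟩
    refine ⟨⟨fun a b => Subtype.ext (Subtype.ext ?_)⟩⟩
    obtain ⟨s, hs⟩ := (mem_T hF ι hι hsur hδ0 hδ hp0 hp).1 a.2
    obtain ⟨t, ht⟩ := (mem_T hF ι hι hsur hδ0 hδ hp0 hp).1 b.2
    simp only [Subgroup.coe_subtype] at hs ht
    simp only [Subgroup.coe_mul, hs, ht, ← x_add, add_comm]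
  · rintro _ ⟨_, ⟨p, hp0, hp, rfl⟩, rfl⟩ e
    have h1 : x hF ι hι hδ p hp 1 ∈ T q p := (mem_T hF ι hι hsur hδ0 hδ hp0 hp).2 ⟨1, rfl⟩
    have h2 : (⟨_, hle _ ⟨p, hp0, hp, rfl⟩ h1⟩ : ↥(⨆ B ∈ S, B)) ∈ (T q p).subgroupOf (⨆ B ∈ S, B) := h1
    rw [show (T q p).subgroupOf (⨆ B ∈ S, B) = ⊥ from e, Subgroup.mem_bot] at h2
    obtain ⟨i, hi⟩ := Function.ne_iff.1 hp0
    have := congrArg (fun g => Unitary.suAct g (Pi.single i 1)) (congrArg Subtype.val h2)
    simp only [act_x, Subgroup.coe_one, Unitary.suAct_one, add_eq_left, map_one, one_mul,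
      smul_eq_zero, mul_eq_zero, or_iff_left hp0, or_iff_right hδ0, Unitary.hermForm_single_left,
      Unitary.pow_q_eq_zero hF] at this
    exact hi this
  · refine Subgroup.map_injective (Subgroup.subtype_injective _) ?_
    rw [← MonoidHom.range_eq_map, Subgroup.range_subtype]
    simp only [Subgroup.map_iSup]
    refine le_antisymm (iSup₂_le ?_) (iSup₂_le fun A hA => ?_)
    · rintro _ ⟨A, hA, rfl⟩
      exact (Subgroup.map_subgroupOf_eq_of_le (hle A hA)).le.trans (hle A hA)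
    · refine le_iSup₂_of_le (A.subgroupOf _) ⟨A, hA, rfl⟩ ?_
      rw [Subgroup.map_subgroupOf_eq_of_le (hle A hA)]
  · rintro _ ⟨_, ⟨p, hp0, hp, rfl⟩, rfl⟩ g
    refine ⟨_, ⟨Unitary.suAct (g : ↥(Cfsg.SU N F q)) p, fun e => hp0 ?_, by rw [Unitary.suAct_herm, hp],
      rfl⟩, ?_⟩
    · have := congrArg (Unitary.suAct (g : ↥(Cfsg.SU N F q))⁻¹) e
      rwa [Unitary.suAct_inv_suAct, Unitary.suAct_zero] at this
    · show (T q _).comap _ = Cfsg.conjBy ((T q p).comap _) g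
      rw [comap_conjBy, Subgroup.coe_subtype, conjBy_T hF]
  · rintro _ ⟨_, ⟨p, hp0, hp, rfl⟩, rfl⟩ _ ⟨_, ⟨w, hw0, hw, rfl⟩, rfl⟩
    rcases pair_spec hF ι hι hsur hδ0 hδ hp0 hp hw0 hw with h | h
    · left
      refine commutator_eq_bot_of fun a ha b hb => Subtype.ext ?_
      exact (elem_commute h ha hb).eq
    · exact Or.inr (SL2Pair_subgroupOf h (hle _ ⟨p, hp0, hp, rfl⟩) (hle _ ⟨w, hw0, hw, rfl⟩))

/-- Let F be a finite field with q² elements, n a natural number, and h the Hermitian form Σ uᵢ vᵢ^q on F^{n+2}. For a non-zero isotropic vector p let T(p) be the group of unitary transvections with centre ⟨p⟩: the elements of SU_{n+2}(q) moving every vector by a multiple of p and fixing every vector perpendicular to p. Let Σ be the set of these T(p) and G₀ the subgroup they generate. Then, viewed inside G₀, the members of Σ form a degenerate class of abstract k-root subgroups of G₀ for some field k with q elements (any two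 commute or are the unipotent subgroups of a rank one group that is an image of SL₂(k) with central kernel, never the commutator case), and their graph of rank one pairs is connected. -/
theorem result (F : Type*) [Field F] [Fintype F] (q n : ℕ) (hF : Fintype.card F = q ^ 2) :
    Cfsg.IsRootSubgroupClass ((fun A : Subgroup ↥(Cfsg.SU (n + 2) F q) => A.subgroupOf (⨆ B ∈ {A : Subgroup ↥(Cfsg.SU (n + 2) F q) | ∃ p : Fin (n + 2) → F, p ≠ 0 ∧ Cfsg.hermForm (n + 2) F q p p = 0 ∧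
          A = Subgroup.closure {g : ↥(Cfsg.SU (n + 2) F q) |
            (∀ v : Fin (n + 2) → F, ∃ c : F, ((g : Matrix.SpecialLinearGroup (Fin (n + 2)) F) : Matrix (Fin (n + 2)) (Fin (n + 2)) F) *ᵥ v = v + c • p) ∧
            ∀ v : Fin (n + 2) → F, Cfsg.hermForm (n + 2) F q v p = 0 →
              ((g : Matrix.SpecialLinearGroup (Fin (n + 2)) F) : Matrix (Fin (n + 2)) (Fin (n + 2)) F) *ᵥ v = v}}, B)) ''
      {A : Subgroup ↥(Cfsg.SU (n + 2) F q) | ∃ p : Fin (n + 2) → F, p ≠ 0 ∧ Cfsg.hermForm (n + 2) F q p p = 0 ∧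
          A = Subgroup.closure {g : ↥(Cfsg.SU (n + 2) F q) |
            (∀ v : Fin (n + 2) → F, ∃ c : F, ((g : Matrix.SpecialLinearGroup (Fin (n + 2)) F) : Matrix (Fin (n + 2)) (Fin (n + 2)) F) *ᵥ v = v + c • p) ∧
            ∀ v : Fin (n + 2) → F, Cfsg.hermForm (n + 2) F q v p = 0 →
              ((g : Matrix.SpecialLinearGroup (Fin (n + 2)) F) : Matrix (Fin (n + 2)) (Fin (n + 2)) F) *ᵥ v = v}}) ∧
    Cfsg.IsDegenerateRootSet ((fun A : Subgroup ↥(Cfsg.SU (n + 2) F q) => A.subgroupOf (⨆ B ∈ {A : Subgroup ↥(Cfsg.SU (n + 2) F q) | ∃ p : Fin (n + 2) → F, p ≠ 0 ∧ Cfsg.hermForm (n + 2) F q p p = 0 ∧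
          A = Subgroup.closure {g : ↥(Cfsg.SU (n + 2) F q) |
            (∀ v : Fin (n + 2) → F, ∃ c : F, ((g : Matrix.SpecialLinearGroup (Fin (n + 2)) F) : Matrix (Fin (n + 2)) (Fin (n + 2)) F) *ᵥ v = v + c • p) ∧
            ∀ v : Fin (n + 2) → F, Cfsg.hermForm (n + 2) F q v p = 0 →
              ((g : Matrix.SpecialLinearGroup (Fin (n + 2)) F) : Matrix (Fin (n + 2)) (Fin (n + 2)) F) *ᵥ v = v}}, B)) ''
      {A : Subgroup ↥(Cfsg.SU (n + 2) F q) | ∃ p : Fin (n + 2) → F, p ≠ 0 ∧ Cfsg.hermForm (n + 2) F q p p = 0 ∧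
          A = Subgroup.closure {g : ↥(Cfsg.SU (n + 2) F q) |
            (∀ v : Fin (n + 2) → F, ∃ c : F, ((g : Matrix.SpecialLinearGroup (Fin (n + 2)) F) : Matrix (Fin (n + 2)) (Fin (n + 2)) F) *ᵥ v = v + c • p) ∧
            ∀ v : Fin (n + 2) → F, Cfsg.hermForm (n + 2) F q v p = 0 →
              ((g : Matrix.SpecialLinearGroup (Fin (n + 2)) F) : Matrix (Fin (n + 2)) (Fin (n + 2)) F) *ᵥ v = v}}) ∧
    (∃ (L : Type) (_ : Field L) (_ : Fintype L), Fintype.card L = q ∧ Cfsg.IsKRootSubgroupSet L ((fun A : Subgroup ↥(Cfsg.SU (n + 2) F q) => A.subgroupOf (⨆ B ∈ {A : Subgroup ↥(Cfsg.SU (n + 2) F q) | ∃ p : Fin (n + 2) → F, p ≠ 0 ∧ Cfsg.hermForm (n + 2) F q p p = 0 ∧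
          A = Subgroup.closure {g : ↥(Cfsg.SU (n + 2) F q) |
            (∀ v : Fin (n + 2) → F, ∃ c : F, ((g : Matrix.SpecialLinearGroup (Fin (n + 2)) F) : Matrix (Fin (n + 2)) (Fin (n + 2)) F) *ᵥ v = v + c • p) ∧
            ∀ v : Fin (n + 2) → F, Cfsg.hermForm (n + 2) F q v p = 0 →
              ((g : Matrix.SpecialLinearGroup (Fin (n + 2)) F) : Matrix (Fin (n + 2)) (Fin (n + 2)) F) *ᵥ v = v}}, B)) ''
      {A : Subgroup ↥(Cfsg.SU (n + 2) F q) | ∃ p : Fin (n + 2) → F, p ≠ 0 ∧ Cfsg.hermForm (n + 2) F q p p = 0 ∧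
          A = Subgroup.closure {g : ↥(Cfsg.SU (n + 2) F q) |
            (∀ v : Fin (n + 2) → F, ∃ c : F, ((g : Matrix.SpecialLinearGroup (Fin (n + 2)) F) : Matrix (Fin (n + 2)) (Fin (n + 2)) F) *ᵥ v = v + c • p) ∧
            ∀ v : Fin (n + 2) → F, Cfsg.hermForm (n + 2) F q v p = 0 →
              ((g : Matrix.SpecialLinearGroup (Fin (n + 2)) F) : Matrix (Fin (n + 2)) (Fin (n + 2)) F) *ᵥ v = v}})) ∧
    Cfsg.IsConnectedFamily (Cfsg.FAdj ((fun A : Subgroup ↥(Cfsg.SU (n + 2) F q) => A.subgroupOf (⨆ B ∈ {A : Subgroup ↥(Cfsg.SU (n + 2) F q) | ∃ p : Fin (n + 2) → F, p ≠ 0 ∧ Cfsg.hermForm (n + 2) F q p p = 0 ∧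
          A = Subgroup.closure {g : ↥(Cfsg.SU (n + 2) F q) |
            (∀ v : Fin (n + 2) → F, ∃ c : F, ((g : Matrix.SpecialLinearGroup (Fin (n + 2)) F) : Matrix (Fin (n + 2)) (Fin (n + 2)) F) *ᵥ v = v + c • p) ∧
            ∀ v : Fin (n + 2) → F, Cfsg.hermForm (n + 2) F q v p = 0 →
              ((g : Matrix.SpecialLinearGroup (Fin (n + 2)) F) : Matrix (Fin (n + 2)) (Fin (n + 2)) F) *ᵥ v = v}}, B)) ''
      {A : Subgroup ↥(Cfsg.SU (n + 2) F q) | ∃ p : Fin (n + 2) → F, p ≠ 0 ∧ Cfsg.hermForm (n + 2) F q p p = 0 ∧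
          A = Subgroup.closure {g : ↥(Cfsg.SU (n + 2) F q) |
            (∀ v : Fin (n + 2) → F, ∃ c : F, ((g : Matrix.SpecialLinearGroup (Fin (n + 2)) F) : Matrix (Fin (n + 2)) (Fin (n + 2)) F) *ᵥ v = v + c • p) ∧
            ∀ v : Fin (n + 2) → F, Cfsg.hermForm (n + 2) F q v p = 0 →
              ((g : Matrix.SpecialLinearGroup (Fin (n + 2)) F) : Matrix (Fin (n + 2)) (Fin (n + 2)) F) *ᵥ v = v}})) ((fun A : Subgroup ↥(Cfsg.SU (n + 2) F q) => A.subgroupOf (⨆ B ∈ {A : Subgroup ↥(Cfsg.SU (n + 2) F q) | ∃ p : Fin (n + 2) → F, p ≠ 0 ∧ Cfsg.hermForm (n + 2) F q p p = 0 ∧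
          A = Subgroup.closure {g : ↥(Cfsg.SU (n + 2) F q) |
            (∀ v : Fin (n + 2) → F, ∃ c : F, ((g : Matrix.SpecialLinearGroup (Fin (n + 2)) F) : Matrix (Fin (n + 2)) (Fin (n + 2)) F) *ᵥ v = v + c • p) ∧
            ∀ v : Fin (n + 2) → F, Cfsg.hermForm (n + 2) F q v p = 0 →
              ((g : Matrix.SpecialLinearGroup (Fin (n + 2)) F) : Matrix (Fin (n + 2)) (Fin (n + 2)) F) *ᵥ v = v}}, B)) ''
      {A : Subgroup ↥(Cfsg.SU (n + 2) F q) | ∃ p : Fin (n + 2) → F, p ≠ 0 ∧ Cfsg.hermForm (n + 2) F q p p = 0 ∧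
          A = Subgroup.closure {g : ↥(Cfsg.SU (n + 2) F q) |
            (∀ v : Fin (n + 2) → F, ∃ c : F, ((g : Matrix.SpecialLinearGroup (Fin (n + 2)) F) : Matrix (Fin (n + 2)) (Fin (n + 2)) F) *ᵥ v = v + c • p) ∧
            ∀ v : Fin (n + 2) → F, Cfsg.hermForm (n + 2) F q v p = 0 →
              ((g : Matrix.SpecialLinearGroup (Fin (n + 2)) F) : Matrix (Fin (n + 2)) (Fin (n + 2)) F) *ᵥ v = v}}) := by
  obtain ⟨δ, hδ0, hδ⟩ := Agent.Unitary.exists_skew hF
  haveI : Finite (Agent.Unitary.fixedField hF) := inferInstance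
  let e : Carrier q ≃ Agent.Unitary.fixedField hF :=
    (Finite.equivFinOfCardEq (Agent.Unitary.card_fixedField hF)).symm
  letI : Field (Carrier q) := e.field
  let ι : Carrier q →+* F := (Agent.Unitary.fixedField hF).subtype.comp e.ringEquiv.toRingHom
  have hι : ∀ a, ι a ^ q = ι a := fun a => (e.ringEquiv a).2
  have hsur : ∀ a : F, a ^ q = a → ∃ t, ι t = a := fun a ha =>
    ⟨e.ringEquiv.symm ⟨a, ha⟩, by simp [ι]⟩
  obtain ⟨h1, h2, h3, h4⟩ := main hF ι hι hsur hδ0 hδ (N := n + 2) rfl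
  exact ⟨h1, h2, ⟨Carrier q, e.field, inferInstance, Fintype.card_fin q, h3⟩, h4⟩

end Cfsg.Agent.S5071
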