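import Cfsg.Statements.S5072
import Cfsg.Agent.Lib.RankOne.Siegel
import Cfsg.Agent.Lib.Orth.Models

set_option autoImplicit false
open Matrix
open Cfsg

namespace Cfsg.Agent.S5072

open Cfsg.Agent.RankOne
open scoped MatrixGroups

theorem SL2Pair_subgroupOf {k : Type*} [Field k] {G : Type*} [Group G] {A B K : Subgroup G}
    (h : SL2Pair k A B) (hA : A ≤ K) (hB : B ≤ K) : SL2Pair k (A.subgroupOf K) (B.subgroupOf K) := by
  obtain ⟨f, hf, hfA, hfB⟩ := h
  have hr : ∀ M, f M ∈ K := by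
    intro M
    have hle : lowerUnipotentSL2 k ⊔ upperUnipotentSL2 k ≤ K.comap f :=
      sup_le (Subgroup.map_le_iff_le_comap.1 (hfB.le.trans hB))
        (Subgroup.map_le_iff_le_comap.1 (hfA.le.trans hA))
    rw [lower_sup_upper] at hle
    exact hle (Subgroup.mem_top M)
  have key : ∀ (U : Subgroup SL(2, k)) (X : Subgroup G), U.map f = X →
      U.map (f.codRestrict K hr) = X.subgroupOf K := by
    intro U X hX
    ext g
    rw [Subgroup.mem_subgroupOf, ← hX]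
    constructor
    · rintro ⟨M, hM, rfl⟩; exact ⟨M, hM, rfl⟩
    · rintro ⟨M, hM, he⟩; exact ⟨M, hM, Subtype.ext he⟩
  exact ⟨_, fun M M' e => hf (congrArg Subtype.val e), key _ _ hfA, key _ _ hfB⟩

theorem case_subgroupOf {G : Type*} [Group G] {A B K : Subgroup G} {S : Set (Subgroup G)}
    (h : RootCommutatorCase S A B) (hA : A ≤ K) (hB : B ≤ K) :
    RootCommutatorCase ((fun A : Subgroup G => A.subgroupOf K) '' S) (A.subgroupOf K) (B.subgroupOf K) := by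
  have hmA := Subgroup.map_subgroupOf_eq_of_le hA
  have hmB := Subgroup.map_subgroupOf_eq_of_le hB
  have hC : ⁅A.subgroupOf K, B.subgroupOf K⁆ = ⁅A, B⁆.subgroupOf K := by
    refine Subgroup.map_injective K.subtype_injective ?_
    rw [Subgroup.map_commutator, hmA, hmB, Subgroup.map_subgroupOf_eq_of_le
      (Subgroup.commutator_le.2 fun a ha b hb =>
        mul_mem (mul_mem (mul_mem (hA ha) (hB hb)) (inv_mem (hA ha))) (inv_mem (hB hb)))]
  obtain ⟨h1, h2, h3, h4⟩ := h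
  have hsup : ∀ x ∈ A.subgroupOf K ⊔ B.subgroupOf K, (x : G) ∈ A ⊔ B := by
    intro x hx
    have := Subgroup.mem_map_of_mem K.subtype hx
    rwa [Subgroup.map_sup, hmA, hmB] at this
  refine ⟨⟨_, h1, hC.symm⟩, fun c hc x hx => Subtype.ext (h2 c ?_ x (hsup x hx)), fun a ha ha1 => ?_,
    fun b hb hb1 => ?_⟩
  · rw [hC] at hc; exact hc
  · refine Subgroup.map_injective K.subtype_injective ?_
    rw [MonoidHom.map_closure, Subgroup.map_commutator, hmA, hmB,
      ← h3 a ha (fun e => ha1 (Subtype.ext e)), ← Set.image_comp]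
    congr 1
    ext y
    exact ⟨fun ⟨b, hb, e⟩ => ⟨b, hb, e⟩, fun ⟨b, hb, e⟩ => ⟨⟨b, hB hb⟩, hb, e⟩⟩
  · refine Subgroup.map_injective K.subtype_injective ?_
    rw [MonoidHom.map_closure, Subgroup.map_commutator, hmA, hmB,
      ← h4 b hb (fun e => hb1 (Subtype.ext e)), ← Set.image_comp]
    congr 1
    ext y
    exact ⟨fun ⟨a, ha, e⟩ => ⟨a, ha, e⟩, fun ⟨a, ha, e⟩ => ⟨⟨a, hA ha⟩, ha, e⟩⟩

theorem kRoot_spec (k : Type*) [Field k] {G : Type*} [Group G] {S : Set (Subgroup G)}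
    (hcomm : ∀ A ∈ S, IsMulCommutative A) (hbot : ∀ A ∈ S, A ≠ ⊥) (hgen : (⨆ A ∈ S, A) = ⊤)
    (hconj : ∀ A ∈ S, ∀ g : G, conjBy A g ∈ S)
    (hpair : ∀ A ∈ S, ∀ B ∈ S, ⁅A, B⁆ = ⊥ ∨ SL2Pair k A B ∨ RootCommutatorCase S A B) :
    IsKRootSubgroupSet k S := by
  have hS : IsRootSubgroupSet S := ⟨hcomm, hbot, hgen, hconj, fun A hA B hB =>
    (hpair A hA B hB).imp_right fun h => h.imp_left SL2Pair.rankOne⟩
  refine ⟨hS, fun A hA B hB h => ?_⟩
  rcases hpair A hA B hB with h' | h' | hc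
  · exact absurd h' (commutator_ne_bot h)
  · exact h'.psl2
  · obtain ⟨a, ha, ha1⟩ := exists_ne_one h
    obtain ⟨b, hb, hb1⟩ := exists_ne_one (RankOnePair_symm h)
    exact absurd (conjBy_of_commute fun y hy => (central_of_case hc
      (Subgroup.commutator_mem_commutator ha hb) (Subgroup.mem_sup_right hy)).eq)
      (conjBy_commutatorElement_ne h ha ha1 hb hb1)

open Siegel in
theorem main {ι : Type} [Fintype ι] [DecidableEq ι] {F : Type*} [Field F]
    (Q : QuadraticForm F (ι → F)) (hQ : Q.polarBilin.Nondegenerate) (hn : 5 ≤ Fintype.card ι) :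
    let S := {A : Subgroup (Orth.IsoGrp Q) | ∃ p r : ι → F, LinearIndependent F ![p, r] ∧
      Q p = 0 ∧ Q r = 0 ∧ Q (p + r) = 0 ∧ A = T Q p r}
    IsKRootSubgroupSet F ((fun A : Subgroup (Orth.IsoGrp Q) => A.subgroupOf (⨆ B ∈ S, B)) '' S) ∧
      IsConnectedFamily (FAdj S) S := by
  intro S
  have hmem : ∀ p r, Line Q p r → T Q p r ∈ S := fun p r h =>
    ⟨p, r, h.ind, h.qp, h.qr, by rw [Orth.Q_add, h.qp, h.qr, h.pr]; ring, rfl⟩
  have hS : ∀ A ∈ S, ∃ p r, Line Q p r ∧ A = T Q p r := by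
    rintro _ ⟨p, r, hi, hp, hr, hpr, rfl⟩
    refine ⟨p, r, ⟨hp, hr, ?_, hi⟩, rfl⟩
    rwa [Orth.Q_add, hp, hr, zero_add, zero_add] at hpr
  have hle : ∀ A ∈ S, A ≤ ⨆ B ∈ S, B := fun A hA => le_biSup (fun B : Subgroup (Orth.IsoGrp Q) => B) hA
  refine ⟨kRoot_spec F ?_ ?_ ?_ ?_ ?_, fun A hA B hB => ?_⟩
  · rintro _ ⟨A, hA, rfl⟩
    obtain ⟨p, r, h, rfl⟩ := hS A hA
    refine ⟨⟨fun a b => Subtype.ext (Subtype.ext ?_)⟩⟩
    exact (elem_commute (self_commutator (T_comm hQ h)) a.2 b.2).eq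
  · rintro _ ⟨A, hA, rfl⟩ e
    obtain ⟨p, r, h, rfl⟩ := hS A hA
    refine T_ne_bot hQ h ?_
    rw [← Subgroup.map_subgroupOf_eq_of_le (hle _ hA), show (T Q p r).subgroupOf _ = ⊥ from e,
      Subgroup.map_bot]
  · refine Subgroup.map_injective (Subgroup.subtype_injective _) ?_
    rw [← MonoidHom.range_eq_map, Subgroup.range_subtype]
    simp only [Subgroup.map_iSup]
    refine le_antisymm (iSup₂_le ?_) (iSup₂_le fun A hA => ?_)
    · rintro _ ⟨A, hA, rfl⟩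
      exact (Subgroup.map_subgroupOf_eq_of_le (hle A hA)).le.trans (hle A hA)
    · refine le_iSup₂_of_le (A.subgroupOf _) ⟨A, hA, rfl⟩ ?_
      rw [Subgroup.map_subgroupOf_eq_of_le (hle A hA)]
  · rintro _ ⟨A, hA, rfl⟩ g
    obtain ⟨p, r, h, rfl⟩ := hS A hA
    refine ⟨_, hmem _ _ (line_map h (g : Orth.IsoGrp Q)), ?_⟩
    show (T Q _ _).comap _ = conjBy ((T Q p r).comap _) g
    rw [comap_conjBy, Subgroup.coe_subtype, conjBy_T]
  · rintro _ ⟨A, hA, rfl⟩ _ ⟨B, hB, rfl⟩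
    obtain ⟨p, r, h, rfl⟩ := hS A hA
    obtain ⟨w, u, h', rfl⟩ := hS B hB
    rcases trichotomy hQ hmem h h' with e | e | e
    · refine Or.inl (commutator_eq_bot_of fun a ha b hb => Subtype.ext ?_)
      exact (elem_commute e ha hb).eq
    · exact Or.inr (Or.inl (SL2Pair_subgroupOf e (hle _ hA) (hle _ hB)))
    · exact Or.inr (Or.inr (case_subgroupOf e (hle _ hA) (hle _ hB)))
  · obtain ⟨p, r, h, rfl⟩ := hS A hA
    obtain ⟨w, u, h', rfl⟩ := hS B hB
    exact line_connected hQ hn hmem h h'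

/-- Let F be a field, m a natural number and V = F^{2(m+3)} with the hyperbolic quadratic form q(x, y) = Σ xᵢ yᵢ (non-degenerate, Witt index m + 3 ≥ 3). For a singular line ℓ (a 2-dimensional subspace on which q vanishes) let T(ℓ) be the group of isometries of q fixing every vector of ℓ^⊥ (the Siegel transvection group of ℓ), let Σ be the set of these groups and G₀ the subgroup they generate. Then, viewed inside G₀, the members of Σ form a set of abstract F-root subgroups of G₀ (any two commute, or are the unipotent subgroups of a rank one group that is an image of SL₂(F) with central kernel, or satisfy the commutator case), and their graph of rank one pairs is connected. -/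
theorem result (F : Type*) [Field F] (m : ℕ) :
    Cfsg.IsKRootSubgroupSet F ((fun A : Subgroup ↥(Cfsg.isometryGroup F (Cfsg.quadFormPlus (m + 3) F)) => A.subgroupOf (⨆ B ∈ {A : Subgroup ↥(Cfsg.isometryGroup F (Cfsg.quadFormPlus (m + 3) F)) | ∃ p r : Fin (m + 3) ⊕ Fin (m + 3) → F, LinearIndependent F ![p, r] ∧
          Cfsg.quadFormPlus (m + 3) F p = 0 ∧ Cfsg.quadFormPlus (m + 3) F r = 0 ∧
          Cfsg.quadFormPlus (m + 3) F (p + r) = 0 ∧
          A = Subgroup.closure {σ : ↥(Cfsg.isometryGroup F (Cfsg.quadFormPlus (m + 3) F)) | ∀ v : Fin (m + 3) ⊕ Fin (m + 3) → F,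
            Cfsg.quadFormPlus (m + 3) F (v + p) - Cfsg.quadFormPlus (m + 3) F v - Cfsg.quadFormPlus (m + 3) F p = 0 →
            Cfsg.quadFormPlus (m + 3) F (v + r) - Cfsg.quadFormPlus (m + 3) F v - Cfsg.quadFormPlus (m + 3) F r = 0 →
              ((σ : Matrix.GeneralLinearGroup (Fin (m + 3) ⊕ Fin (m + 3)) F) : Matrix (Fin (m + 3) ⊕ Fin (m + 3)) (Fin (m + 3) ⊕ Fin (m + 3)) F) *ᵥ v = v}}, B)) ''
      {A : Subgroup ↥(Cfsg.isometryGroup F (Cfsg.quadFormPlus (m + 3) F)) | ∃ p r : Fin (m + 3) ⊕ Fin (m + 3) → F, LinearIndependent F ![p, r] ∧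
          Cfsg.quadFormPlus (m + 3) F p = 0 ∧ Cfsg.quadFormPlus (m + 3) F r = 0 ∧
          Cfsg.quadFormPlus (m + 3) F (p + r) = 0 ∧
          A = Subgroup.closure {σ : ↥(Cfsg.isometryGroup F (Cfsg.quadFormPlus (m + 3) F)) | ∀ v : Fin (m + 3) ⊕ Fin (m + 3) → F,
            Cfsg.quadFormPlus (m + 3) F (v + p) - Cfsg.quadFormPlus (m + 3) F v - Cfsg.quadFormPlus (m + 3) F p = 0 →
            Cfsg.quadFormPlus (m + 3) F (v + r) - Cfsg.quadFormPlus (m + 3) F v - Cfsg.quadFormPlus (m + 3) F r = 0 →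
              ((σ : Matrix.GeneralLinearGroup (Fin (m + 3) ⊕ Fin (m + 3)) F) : Matrix (Fin (m + 3) ⊕ Fin (m + 3)) (Fin (m + 3) ⊕ Fin (m + 3)) F) *ᵥ v = v}}) ∧
    Cfsg.IsConnectedFamily (Cfsg.FAdj {A : Subgroup ↥(Cfsg.isometryGroup F (Cfsg.quadFormPlus (m + 3) F)) | ∃ p r : Fin (m + 3) ⊕ Fin (m + 3) → F, LinearIndependent F ![p, r] ∧
          Cfsg.quadFormPlus (m + 3) F p = 0 ∧ Cfsg.quadFormPlus (m + 3) F r = 0 ∧
          Cfsg.quadFormPlus (m + 3) F (p + r) = 0 ∧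
          A = Subgroup.closure {σ : ↥(Cfsg.isometryGroup F (Cfsg.quadFormPlus (m + 3) F)) | ∀ v : Fin (m + 3) ⊕ Fin (m + 3) → F,
            Cfsg.quadFormPlus (m + 3) F (v + p) - Cfsg.quadFormPlus (m + 3) F v - Cfsg.quadFormPlus (m + 3) F p = 0 →
            Cfsg.quadFormPlus (m + 3) F (v + r) - Cfsg.quadFormPlus (m + 3) F v - Cfsg.quadFormPlus (m + 3) F r = 0 →
              ((σ : Matrix.GeneralLinearGroup (Fin (m + 3) ⊕ Fin (m + 3)) F) : Matrix (Fin (m + 3) ⊕ Fin (m + 3)) (Fin (m + 3) ⊕ Fin (m + 3)) F) *ᵥ v = v}})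
      {A : Subgroup ↥(Cfsg.isometryGroup F (Cfsg.quadFormPlus (m + 3) F)) | ∃ p r : Fin (m + 3) ⊕ Fin (m + 3) → F, LinearIndependent F ![p, r] ∧
          Cfsg.quadFormPlus (m + 3) F p = 0 ∧ Cfsg.quadFormPlus (m + 3) F r = 0 ∧
          Cfsg.quadFormPlus (m + 3) F (p + r) = 0 ∧
          A = Subgroup.closure {σ : ↥(Cfsg.isometryGroup F (Cfsg.quadFormPlus (m + 3) F)) | ∀ v : Fin (m + 3) ⊕ Fin (m + 3) → F,
            Cfsg.quadFormPlus (m + 3) F (v + p) - Cfsg.quadFormPlus (m + 3) F v - Cfsg.quadFormPlus (m + 3) F p = 0 →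
            Cfsg.quadFormPlus (m + 3) F (v + r) - Cfsg.quadFormPlus (m + 3) F v - Cfsg.quadFormPlus (m + 3) F r = 0 →
              ((σ : Matrix.GeneralLinearGroup (Fin (m + 3) ⊕ Fin (m + 3)) F) : Matrix (Fin (m + 3) ⊕ Fin (m + 3)) (Fin (m + 3) ⊕ Fin (m + 3)) F) *ᵥ v = v}} := by
  exact main (Orth.quadPlus (m + 3) F) (Orth.quadPlus_nondeg _) (by simp; omega)

end Cfsg.Agent.S5072
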