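import Cfsg.Statements.S5073
import Cfsg.Agent.EqLemmas
import Cfsg.Agent.Lib.QuadRoot.Commutator

set_option autoImplicit false
universe u
open Cfsg

namespace Cfsg.Agent.S5073

/-- Let k be a field of characteristic not 2 with k not of order 3, M a finite-dimensional k-vector space and G ≤ GL(M) such that (G, M) is a quadratic pair (M irreducible for G, and G generated by its quadratically acting elements σ whose scalar family 1 + c(σ − 1), c ∈ k, lies in G). Write 𝒬_d for the quadratic elements of G of minimal commutator rank, E(σ) for the subgroup generated by the members of 𝒬_d with the same fixed space and commutator space as σ, and Σ for the set of these subgroups. Let E, F ∈ Σ. If some non-identity element of E commutes with some non-identity element of F, or some non-identity element of E normalizes F, then E and F commute elementwise. -/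
theorem result {k : Type u} [Field k] (hk2 : ringChar k ≠ 2) (hk3 : Nat.card k ≠ 3)
    {M : Type u} [AddCommGroup M] [Module k M] [FiniteDimensional k M]
    {G : Subgroup (LinearMap.GeneralLinearGroup k M)} (hG : Cfsg.IsQuadraticPair G)
    {E F : Subgroup (LinearMap.GeneralLinearGroup k M)} (hE : E ∈ Cfsg.quadraticRootSubgroups G) (hF : F ∈ Cfsg.quadraticRootSubgroups G)
    (h : (∃ e ∈ E, e ≠ 1 ∧ ∃ f ∈ F, f ≠ 1 ∧ e * f = f * e) ∨ E ⊓ Subgroup.normalizer (F : Set (LinearMap.GeneralLinearGroup k M)) ≠ ⊥) :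
    ⁅E, F⁆ = ⊥ := by
  obtain ⟨a, ha, rfl⟩ := Cfsg.Agent.QuadRoot.mem_quadraticRootSubgroups.1 hE
  obtain ⟨b, hb, rfl⟩ := Cfsg.Agent.QuadRoot.mem_quadraticRootSubgroups.1 hF
  suffices hs : ¬ Cfsg.Agent.QuadRoot.Opp a b ∧ a * b - b * a = 0 from
    Cfsg.Agent.QuadRoot.commute_case hk2 hk3 ha hb hs.1 hs.2
  rcases h with ⟨e, he, he1, f, hf, hf1, hef⟩ | h
  · obtain ⟨p, hp, rfl⟩ := (Cfsg.Agent.QuadRoot.mem_sameActionSubgroup ha).1 he
    obtain ⟨q, hq, rfl⟩ := (Cfsg.Agent.QuadRoot.mem_sameActionSubgroup hb).1 hf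
    exact Cfsg.Agent.QuadRoot.not_opp_of_commute hk2 hk3 ha hb
      (hp.resolve_left fun e => he1 (e ▸ Cfsg.Agent.QuadRoot.ex_zero))
      (hq.resolve_left fun e => hf1 (e ▸ Cfsg.Agent.QuadRoot.ex_zero)) hef
  · exact Cfsg.Agent.QuadRoot.no_normalizer hk2 hk3 ha hb h

end Cfsg.Agent.S5073
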