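import Cfsg.Statements.S5075
import Cfsg.Agent.Lib.TransvGroup.Decomp
import Cfsg.Agent.EqLemmas

set_option autoImplicit false
open Cfsg

namespace Cfsg.Agent.S5075

open Module in
theorem exists_pair {p : ℕ} [Fact p.Prime] {V : Type*} [AddCommGroup V] [Module (ZMod p) V] [Finite V]
    {H : Subgroup (V ≃ₗ[ZMod p] V)} {t : V ≃ₗ[ZMod p] V} (hmem : t ∈ H) (hord : orderOf t = p)
    (hker : finrank (ZMod p) ↥(LinearMap.ker ((t : V →ₗ[ZMod p] V) - LinearMap.id)) + 1 = finrank (ZMod p) V) :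
    ∃ a φ, TransvGroup.tvRel H a φ ∧ TransvGroup.IsTv t a φ := by
  set D : V →ₗ[ZMod p] V := (t : V →ₗ[ZMod p] V) - LinearMap.id
  have h1 : finrank (ZMod p) ↥(LinearMap.range D) = 1 := by
    have := D.finrank_range_add_finrank_ker
    omega
  obtain ⟨⟨a, ha⟩, hne, hspan⟩ := finrank_eq_one_iff'.1 h1
  have ha0 : a ≠ 0 := fun e => hne (Subtype.ext e)
  choose φ hφ using fun x => hspan ⟨D x, LinearMap.mem_range_self D x⟩
  have hφ' : ∀ x, φ x • a = D x := fun x => congrArg Subtype.val (hφ x)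
  let L : Dual (ZMod p) V :=
    { toFun := φ
      map_add' := fun x y => smul_left_injective (ZMod p) ha0 (by simp [add_smul, hφ'])
      map_smul' := fun c x => smul_left_injective (ZMod p) ha0 (by simp [mul_smul, hφ']) }
  have htv : ∀ x, t x = x + L x • a := fun x => by
    show t x = x + φ x • a
    rw [hφ']; simp [D]
  have hpow : ∀ n : ℕ, (t ^ n) a = (1 + L a) ^ n • a := fun n => by
    induction n with
    | zero => simp
    | succ n ih =>
      rw [pow_succ', LinearEquiv.mul_apply, ih, map_smul, htv a, pow_succ, mul_smul, add_smul, one_smul]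
  have hLa : L a = 0 := by
    have h := hpow p
    have htp : t ^ p = 1 := orderOf_dvd_iff_pow_eq_one.1 hord.dvd
    rw [htp, ZMod.pow_card] at h
    have h2 : L a • a = 0 := by
      have h3 : a + L a • a = a := by simpa [add_smul] using h.symm
      simpa using h3
    exact (smul_eq_zero.1 h2).resolve_right ha0
  refine ⟨a, L, ⟨ha0, fun e => ?_, hLa, t, hmem, htv⟩, htv⟩
  have : t = 1 := LinearEquiv.ext fun x => by simp [htv x, e]
  rw [this, orderOf_one] at hord
  exact (Fact.out : p.Prime).ne_one hord.symm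

/-- Let p be an odd prime, V a finite-dimensional vector space over the field with p elements, and H a group of linear automorphisms of V generated by transvections (elements of order p fixing a hyperplane pointwise) and having no nontrivial normal p-subgroup. Then for some n ≥ 1 there are a decomposition V = V₀ ⊕ V₁ ⊕ ⋯ ⊕ Vₙ into H-invariant subspaces and a decomposition of H as the internal direct product of normal subgroups H₁, …, Hₙ such that Hⱼ acts trivially on every Vᵢ with i ≠ j, and Hⱼ induces on Vⱼ exactly the special linear group of Vⱼ or exactly the isometry group of a non-degenerate alternating form on Vⱼ. -/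
theorem result {p : ℕ} [Fact p.Prime] (hp : Odd p) {V : Type*} [AddCommGroup V] [Module (ZMod p) V] [Finite V]
    (H : Subgroup (V ≃ₗ[ZMod p] V)) (T : Set (V ≃ₗ[ZMod p] V)) (hHT : H = Subgroup.closure T)
    (hT : ∀ t ∈ T, orderOf t = p ∧
      Module.finrank (ZMod p) ↥(LinearMap.ker ((t : V →ₗ[ZMod p] V) - LinearMap.id)) + 1 =
        Module.finrank (ZMod p) V)
    (hOp : Cfsg.pCore p ↥H = ⊥) :
    ∃ (n : ℕ) (W : Fin (n + 1) → Submodule (ZMod p) V) (K : Fin n → Subgroup (V ≃ₗ[ZMod p] V)),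
      1 ≤ n ∧ DirectSum.IsInternal W ∧
      (∀ h ∈ H, ∀ i, (W i).map (h : V →ₗ[ZMod p] V) = W i) ∧
      (∀ j, K j ≤ H ∧ ((K j).subgroupOf H).Normal) ∧ ⨆ j, K j = H ∧
      (∀ j, K j ⊓ (⨆ j' ∈ {j' : Fin n | j' ≠ j}, K j') = ⊥) ∧
      (∀ j j', j ≠ j' → ∀ a ∈ K j, ∀ b ∈ K j', a * b = b * a) ∧
      (∀ j, ∀ h ∈ K j, ∀ i : Fin (n + 1), i ≠ j.succ → ∀ v ∈ W i, h v = v) ∧
      (∀ j, ∃ ρ : ↥(K j) →* (↥(W j.succ) ≃ₗ[ZMod p] ↥(W j.succ)),
        (∀ (h : ↥(K j)) (v : ↥(W j.succ)), ((ρ h v : ↥(W j.succ)) : V) = (h : V ≃ₗ[ZMod p] V) (v : V)) ∧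
        ((ρ.range : Set (↥(W j.succ) ≃ₗ[ZMod p] ↥(W j.succ))) =
            {f : ↥(W j.succ) ≃ₗ[ZMod p] ↥(W j.succ) | LinearMap.det (f : ↥(W j.succ) →ₗ[ZMod p] ↥(W j.succ)) = 1} ∨
          ∃ B : LinearMap.BilinForm (ZMod p) ↥(W j.succ), B.IsAlt ∧ B.Nondegenerate ∧
            (ρ.range : Set (↥(W j.succ) ≃ₗ[ZMod p] ↥(W j.succ))) = {f : ↥(W j.succ) ≃ₗ[ZMod p] ↥(W j.succ) | ∀ x y, B (f x) (f y) = B x y})) := by
  have hT' : ∀ t ∈ T, ∃ b ψ, TransvGroup.tvRel H b ψ ∧ TransvGroup.IsTv t b ψ := fun t ht =>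
    exists_pair (hHT ▸ Subgroup.subset_closure ht) (hT t ht).1 (hT t ht).2
  exact TransvGroup.decomposition (TransvGroup.sys hp hHT hT' hOp) hHT hT'

end Cfsg.Agent.S5075
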