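import Cfsg.Statements.S5084
import Cfsg.Agent.Lib.Fusion.Criterion

set_option autoImplicit false
open Cfsg

namespace Cfsg.Agent.S5084

open Cfsg.FusionSystem Cfsg.Agent.Fusion

/-- In a saturated fusion system over a finite p-group S, a subgroup Q is central in the system if and only if Q ≤ S and no element of Q is conjugate in the system to any element other than itself. -/
theorem result {Ω : Type*} [Group Ω] {S : Subgroup Ω} [Finite S] (p : ℕ) [Fact p.Prime] (hS : IsPGroup p S) (F : Cfsg.FusionSystem S) (hF : F.IsSaturated p) (Q : Subgroup Ω) : F.IsCentral Q ↔ (Q ≤ S ∧ ∀ x ∈ Q, ∀ y : Ω, F.IsConjElt x y → y = x) := by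
  constructor
  · rintro ⟨hQS, h⟩
    refine ⟨hQS, fun x hx y hy => ?_⟩
    obtain ⟨φ, hφ, rfl⟩ := hy
    obtain ⟨ψ, -, hext, hfix⟩ := h _ φ hφ
    rw [← hext ⟨x, Subgroup.mem_zpowers x⟩]
    exact hfix ⟨x, hx⟩
  · rintro ⟨hQS, h⟩
    have hfix : ∀ (P : Subgroup Ω) (f : Ω → Ω), IsMap F P f → ∀ x ∈ P, x ∈ Q → f x = x := by
      intro P f hf x hxP hxQ
      obtain ⟨φ, hφ, e⟩ := hf.mono ((Subgroup.zpowers_le).2 hxP)
      exact h x hxQ (f x) ⟨φ, hφ, e x (Subgroup.mem_zpowers x)⟩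
    have hcent : ∀ P : Subgroup Ω, P ≤ S → Q ≤ centralizerIn S P := fun P hP q hq =>
      mem_centralizerIn.2 ⟨hQS hq, fun s hs => by
        have h1 := hfix S _ (IsMap.conj le_rfl (hP hs)) q (hQS hq) hq
        exact (mul_inv_eq_iff_eq_mul.1 h1).symm⟩
    refine ⟨hQS, fun P φ hφ => ?_⟩
    have hf := isMap_toFn hφ
    obtain ⟨R, hR, hRn⟩ := exists_fullyNormalized F hf.img_le_S
    obtain ⟨a, ha⟩ := isConj_iff.1 hR
    have hrec := receptive_of_fullyNormalized hS hF hRn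
    obtain ⟨A, hA, hAe⟩ := (isReceptive_iff.1 hrec).2 _ a ha
    obtain ⟨B, hB, hBe⟩ := (isReceptive_iff.1 hrec).2 P _ (hf.isIso.trans ha)
    have hA' : IsMap F (img (toFn φ) P ⊔ Q) A := hA.mono
      (sup_le (le_Nx ha.1) ((hcent _ hf.img_le_S).trans (centralizerIn_le_Nx S _ a)))
    have hB' : IsMap F (P ⊔ Q) B := hB.mono
      (sup_le (le_Nx (hf.isIso.trans ha).1)
        ((hcent P hf.le).trans (centralizerIn_le_Nx S _ _)))
    obtain ⟨A', hA'', hA'A, hAA'⟩ := hA'.isIso.symm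
    have hmem : ∀ x ∈ P ⊔ Q, B x ∈ img A (img (toFn φ) P ⊔ Q) := by
      intro x hx
      refine hB'.forall_mem_sup le_sup_left le_sup_right (fun y hy => ?_) (fun y hy => ?_) hx
      · rw [hBe y hy]
        show a (toFn φ y) ∈ _
        rw [← hAe _ (hf.mem_img hy)]
        exact hA'.mem_img (Subgroup.mem_sup_left (hf.mem_img hy))
      · rw [hfix _ B hB' y (Subgroup.mem_sup_right hy) hy,
          ← hfix _ A hA' y (Subgroup.mem_sup_right hy) hy]
        exact hA'.mem_img (Subgroup.mem_sup_right hy)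
    obtain ⟨ψ, hψ, e⟩ := hB'.comp hA''.1 hmem
    refine ⟨ψ, hψ, fun x => (e _ _).trans ?_, fun x => (e _ _).trans ?_⟩
    · show A' (B x) = φ x
      rw [hBe x x.2]
      show A' (a (toFn φ x)) = φ x
      rw [← hAe _ (hf.mem_img x.2), hA'A _ (Subgroup.mem_sup_left (hf.mem_img x.2)), toFn_coe]
    · exact hfix _ _ (hB'.comp hA''.1 hmem) x (Subgroup.mem_sup_right x.2) x.2

end Cfsg.Agent.S5084
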