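import Cfsg.Statements.S5085
import Cfsg.Agent.Lib.Fusion.Basic

set_option autoImplicit false
open Cfsg

namespace Cfsg.Agent.S5085

open Cfsg.FusionSystem Cfsg.Agent.Fusion

/-- In any fusion system, a characteristic subgroup of a subgroup that is normal in the system is itself normal in the system. -/
theorem result {Ω : Type*} [Group Ω] {S : Subgroup Ω} (F : Cfsg.FusionSystem S) (Q U : Subgroup Ω) (hQ : F.IsNormal Q) (hUQ : U ≤ Q) (hU : (U.subgroupOf Q).Characteristic) : F.IsNormal U := by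
  refine ⟨hUQ.trans hQ.1, fun P φ hφ => ?_⟩
  obtain ⟨ψ, hψ, hext, hQQ⟩ := hQ.2 P φ hφ
  have hle : P ⊔ U ≤ P ⊔ Q := sup_le_sup_left hUQ P
  have hm : IsMap F (P ⊔ Q) (toFn ψ) := isMap_toFn hψ
  obtain ⟨χ, hχ, e⟩ := hm.mono hle
  refine ⟨χ, hχ, fun x => ?_, ?_⟩
  · exact (e _ _).trans ((toFn_apply ψ _).trans (hext x))
  have hiso : IsIso F Q Q (toFn ψ) := by
    refine ⟨hm.mono le_sup_right, IsIso.img_eq_of hm le_sup_right (fun x hx => ?_) fun y hy => ?_⟩
    · rw [toFn_apply ψ (Subgroup.mem_sup_right hx)]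
      exact hQQ.le ⟨_, hx, rfl⟩
    · replace hy := hQQ.ge hy
      obtain ⟨x, hx, rfl⟩ := hy
      exact ⟨x, hx, toFn_coe ψ x⟩
  have hfix := hU.fixed hiso.equiv
  ext y
  constructor
  · rintro ⟨x, hx, rfl⟩
    rw [e x x.2]
    have : (⟨(x : Ω), hUQ hx⟩ : Q) ∈ (U.subgroupOf Q).comap hiso.equiv.toMonoidHom := by
      rw [hfix]; exact hx
    exact this
  · intro hy
    obtain ⟨x, hx⟩ := hiso.equiv.surjective ⟨y, hUQ hy⟩
    have hxU : x ∈ U.subgroupOf Q := by
      rw [← hfix]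
      show hiso.equiv x ∈ U.subgroupOf Q
      rw [hx]; exact hy
    exact ⟨⟨x, Subgroup.mem_sup_right hxU⟩, hxU, (e _ _).trans (congrArg Subtype.val hx)⟩

end Cfsg.Agent.S5085
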