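import Cfsg.Statements.S5087
import Cfsg.Agent.Lib.Fusion.NormalSeries

set_option autoImplicit false
open Cfsg

namespace Cfsg.Agent.S5087

open Cfsg.FusionSystem Cfsg.Agent.Fusion

/-- In a saturated fusion system over a finite p-group S, a subgroup Q is normal in the system if and only if every subgroup P that equals S or is essential contains Q and every element of Aut_F(P) maps Q onto itself. -/
theorem result {Ω : Type*} [Group Ω] {S : Subgroup Ω} [Finite S] (p : ℕ) [Fact p.Prime] (hS : IsPGroup p S) (F : Cfsg.FusionSystem S) (hF : F.IsSaturated p) (Q : Subgroup Ω) : F.IsNormal Q ↔ ∀ P : Subgroup Ω, (P = S ∨ F.IsEssential p P) → (Q ≤ P ∧ ∀ α ∈ F.autGroup P, (Q.subgroupOf P).map α.toMonoidHom = Q.subgroupOf P) := by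
  constructor
  · intro h P hP
    have hsc := stronglyClosed_of_normal h
    have hQP : Q ≤ P := by
      rcases hP with rfl | he
      · exact h.1
      · exact le_radical_of_normal hS h he.1 (radical_of_essential hS he)
    have hPS : P ≤ S := hP.elim (fun e => e.le) fun e => e.1.1
    refine ⟨hQP, fun α hα => ?_⟩
    have := finite_of_le hPS
    refine Subgroup.eq_of_le_of_card_ge ?_ (Subgroup.card_map_of_injective α.injective).ge
    rintro _ ⟨x, hx, rfl⟩
    show ((α x : P) : Ω) ∈ Q
    rw [← autFn_apply α x.2]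
    exact autFn_mem_of_stronglyClosed hsc hPS hα x.2 hx
  · intro h
    refine isNormal_of_essentials hS hF (h S (.inl rfl)).1 fun R hR => ⟨(h R hR).1, ?_⟩
    intro α hα q hq
    rw [autFn_apply α ((h R hR).1 hq)]
    exact ((h R hR).2 α hα).le ⟨⟨q, (h R hR).1 hq⟩, hq, rfl⟩

end Cfsg.Agent.S5087
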