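import Cfsg.Statements.S5088
import Cfsg.Agent.Lib.Fusion.NormalSeries

set_option autoImplicit false
open Cfsg

namespace Cfsg.Agent.S5088

open Cfsg.FusionSystem Cfsg.Agent.Fusion

/-- In a saturated fusion system over a finite p-group, a subgroup Q is normal in the system if and only if there is a chain of subgroups 1 = Q₀ ≤ Q₁ ≤ ⋯ ≤ Qₙ = Q such that each Qᵢ with i ≥ 1 is strongly closed in the system and [Q, Qᵢ] ≤ Qᵢ₋₁. -/
theorem result {Ω : Type*} [Group Ω] {S : Subgroup Ω} [Finite S] (p : ℕ) [Fact p.Prime] (hS : IsPGroup p S) (F : Cfsg.FusionSystem S) (hF : F.IsSaturated p) (Q : Subgroup Ω) : F.IsNormal Q ↔ ∃ (n : ℕ) (Qs : Fin (n + 1) → Subgroup Ω), Qs 0 = ⊥ ∧ Qs (Fin.last n) = Q ∧ Monotone Qs ∧ ∀ i : Fin n, F.StronglyClosed (Qs i.succ) ∧ ⁅Q, Qs i.succ⁆ ≤ Qs (Fin.castSucc i) := by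
  constructor
  · intro h
    obtain ⟨n, hn⟩ := exists_lowerCentralSeries_eq_bot hS h.1
    refine ⟨n, fun i => Q.lowerCentralSeries (n - i), by simpa using hn, by simp, ?_, fun i =>
      ⟨stronglyClosed_lowerCentralSeries h _, ?_⟩⟩
    · intro i j hij
      exact Q.lowerCentralSeries_antitone (Nat.sub_le_sub_left hij n)
    · have e : n - (Fin.castSucc i : Fin (n + 1)).1 = (n - (i.succ : Fin (n + 1)).1) + 1 := by
        simp only [Fin.val_castSucc, Fin.val_succ]; omega
      show ⁅Q, Q.lowerCentralSeries (n - (i.succ : Fin (n + 1)).1)⁆ ≤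
        Q.lowerCentralSeries (n - (Fin.castSucc i : Fin (n + 1)).1)
      rw [e, Subgroup.lowerCentralSeries_succ, Subgroup.commutator_comm]
  · rintro ⟨n, Qs, h0, hn, hmono, h⟩
    refine isNormal_of_chain hS hF n (fun i => Qs ⟨min i n, by omega⟩) ?_ ?_ ?_ ?_ ?_ ?_
    · simpa using h0
    · simpa [Fin.last] using hn
    · intro i j hij
      exact hmono (by simp only [Fin.le_def]; omega)
    · rcases Nat.eq_zero_or_pos n with rfl | hpos
      · have : Q = ⊥ := hn.symm.trans h0
        subst this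
        refine stronglyClosed_iff.2 ⟨bot_le, fun P f hf x _ hx => ?_⟩
        rw [Subgroup.mem_bot.1 hx, hf.map_one]
        exact one_mem _
      · have h1 := (h ⟨n - 1, by omega⟩).1
        have e : (⟨n - 1, by omega⟩ : Fin n).succ = Fin.last n := Fin.ext (by simp; omega)
        rwa [e, hn] at h1
    · intro i hi hi1
      convert (h ⟨i - 1, by omega⟩).1 using 2
      exact Fin.ext (by first | omega | (simp; omega))
    · intro i hi
      convert (h ⟨i, hi⟩).2 using 3
      · refine Fin.ext ?_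
        show min (i + 1) n = i + 1
        omega
      · show min i n = i; omega

end Cfsg.Agent.S5088
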