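import Cfsg.Statements.S5102
import Cfsg.Agent.Lib.Fusion.Group

set_option autoImplicit false
open Cfsg

namespace Cfsg.Agent.S5102

open Cfsg.FusionSystem Cfsg.Agent.Fusion

/-- A normal p-subgroup of a finite group G is normal in the fusion system of G on a Sylow p-subgroup. -/
theorem result {G : Type*} [Group G] [Finite G] (p : ℕ) [Fact p.Prime] (S : Sylow p G) (R : Subgroup G) [R.Normal] (hR : IsPGroup p R) : (Cfsg.groupFusionSystem (S : Subgroup G)).IsNormal R := by
  have hRS : R ≤ S := hR.le_sylow_of_normal S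
  refine ⟨hRS, fun P φ hφ => ?_⟩
  obtain ⟨hP, g, hg⟩ := isMap_group_iff.1 (isMap_toFn hφ)
  have hn : ∀ x ∈ R, g * x * g⁻¹ ∈ R := fun x hx => Subgroup.Normal.conj_mem ‹_› x hx g
  refine ⟨conjHom (P ⊔ R) g, ⟨sup_le hP hRS, fun x => ?_, g, fun x => rfl⟩, fun x => ?_, ?_⟩
  · have hle : P ⊔ R ≤ (S : Subgroup G).comap (MulAut.conj g).toMonoidHom :=
      sup_le (fun y hy => (hg y hy).1) fun y hy => hRS (hn y hy)
    exact hle x.2
  · show g * (x : G) * g⁻¹ = φ x
    rw [← toFn_coe φ x, (hg x x.2).2]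
  · ext y
    constructor
    · rintro ⟨x, hx, rfl⟩
      exact hn x hx
    · intro hy
      refine ⟨⟨g⁻¹ * y * g, Subgroup.mem_sup_right ?_⟩, ?_, ?_⟩
      · simpa using Subgroup.Normal.conj_mem ‹R.Normal› y hy g⁻¹
      · simpa [Subgroup.mem_subgroupOf] using Subgroup.Normal.conj_mem ‹R.Normal› y hy g⁻¹
      · show g * (g⁻¹ * y * g) * g⁻¹ = y
        group

end Cfsg.Agent.S5102
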