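import Cfsg.Statements.S5105
import Cfsg.Agent.Lib.Fusion.Realized

set_option autoImplicit false
open Cfsg

namespace Cfsg.Agent.S5105

open Cfsg.FusionSystem Cfsg.Agent.Fusion

/-- Model Theorem, rigidity: if G is a model of a constrained fusion system over a finite p-group S (through ι : S → G), then every automorphism of G fixing ι(S) elementwise is conjugation by ι(z) for some z in the centre of S. -/
theorem result {Ω : Type*} [Group Ω] {S : Subgroup Ω} [Finite S] (p : ℕ) [Fact p.Prime] (hS : IsPGroup p S) (F : Cfsg.FusionSystem S) (hF : F.IsConstrained p) {G : Type*} [Group G] (ι : S →* G) (hG : F.IsModel p G ι) (ψ : G ≃* G) (hψ : ∀ x : S, ψ (ι x) = ι x) : ∃ z : S, z ∈ Subgroup.center S ∧ ∀ g : G, ψ g = ι z * g * (ι z)⁻¹ := by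
  have := hG.1
  obtain ⟨T, hT⟩ := hG.2.2.1
  set R := Cfsg.pCore p G
  have hn : R.Normal := Subgroup.sSup_normal _ fun _ h => h.1
  set Z := R ⊓ Subgroup.centralizer (R : Set G) with hZ
  have hZn : Z.Normal := by
    have : (Subgroup.centralizer (R : Set G)).Normal := Subgroup.normal_centralizer
    exact inferInstance
  have hZc : IsMulCommutative Z :=
    Subgroup.le_centralizer_iff_isMulCommutative.1
      (inf_le_right.trans (Subgroup.centralizer_le inf_le_left))
  have hcop : (Nat.card Z).Coprime ι.range.index := by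
    obtain ⟨n, hn⟩ := IsPGroup.iff_card.1 (((Cfsg.Agent.Cores.isPGroup_pCore p G).to_inf_left) :
      IsPGroup p Z)
    rw [hn, ← hT]
    exact ((Fact.out : p.Prime).coprime_iff_not_dvd.2 T.not_dvd_index).pow_left n
  have hfix : ∀ t ∈ ι.range, ψ t = t := by
    rintro _ ⟨x, rfl⟩
    exact hψ x
  have hRr : ∀ y ∈ R, ψ y = y := fun y hy => hfix y (pCore_le_range hG hy)
  obtain ⟨z, hzZ, hzT, hze⟩ := eq_conj_of_derivation Z ι.range hcop ψ.toMonoidHom hfix fun g => by
    have hc : g⁻¹ * ψ g ∈ Subgroup.centralizer (R : Set G) := by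
      refine Subgroup.mem_centralizer_iff.2 fun y hy => ?_
      have h1 := hRr (g * y * g⁻¹) (hn.conj_mem y hy g)
      rw [map_mul, map_mul, map_inv, hRr y hy] at h1
      calc y * (g⁻¹ * ψ g) = g⁻¹ * (g * y * g⁻¹) * ψ g := by group
        _ = g⁻¹ * (ψ g * y * (ψ g)⁻¹) * ψ g := by rw [h1]
        _ = g⁻¹ * ψ g * y := by group
    have h2 := hZn.conj_mem (g⁻¹ * ψ g) ⟨hG.2.2.2 hc, hc⟩ g
    simpa [mul_assoc] using h2
  obtain ⟨w, rfl⟩ := pCore_le_range hG hzZ.1
  refine ⟨w, Subgroup.mem_center_iff.2 fun s => ?_, hze⟩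
  exact hG.2.1.1 (by rw [map_mul, map_mul]; exact (hzT _ ⟨s, rfl⟩).symm)

end Cfsg.Agent.S5105
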