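import Cfsg.Statements.S5106
import Cfsg.Agent.Lib.Fusion.NormalSeries

set_option autoImplicit false
open Cfsg

namespace Cfsg.Agent.S5106

open Cfsg.FusionSystem Cfsg.Agent.Fusion

/-- In a saturated fusion system over a finite p-group S, a subgroup R ≤ S is normal in the system if and only if every map of the system whose source is a subgroup of R is the restriction of an element of Aut_F(R). -/
theorem result {Ω : Type*} [Group Ω] {S : Subgroup Ω} [Finite S] (p : ℕ) [Fact p.Prime] (hS : IsPGroup p S) (F : Cfsg.FusionSystem S) (hF : F.IsSaturated p) (R : Subgroup Ω) (hRS : R ≤ S) : F.IsNormal R ↔ ∀ (P : Subgroup Ω) (hPR : P ≤ R) (φ : P →* Ω), φ ∈ F.Hom P → ∃ α ∈ F.autGroup R, ∀ x : P, ((α (Subgroup.inclusion hPR x) : R) : Ω) = φ x := by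
  constructor
  · intro h P hPR φ hφ
    obtain ⟨g, hg, hgφ, hgR⟩ := (FusionChain.isNormal_iff.1 h).2 P _ (isMap_toFn hφ)
    have hgm : IsMap F R g := hg.mono le_sup_right
    have hiso : IsIso F R R g :=
      ⟨hgm, eq_of_le_of_card hRS (hgm.img_le le_rfl hgR) (hgm.card_img le_rfl).ge⟩
    obtain ⟨α, hα, e⟩ := exists_aut_of_isIso hiso
    exact ⟨α, hα, fun x => (e _).trans ((hgφ x x.2).trans (toFn_coe φ x))⟩
  · intro h
    refine isNormal_of_extend hS hF hRS fun P f hPR hf => ?_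
    obtain ⟨φ, hφ, e⟩ := hf
    obtain ⟨α, hα, hαφ⟩ := h P hPR φ hφ
    exact ⟨α, hα, fun x hx =>
      ((autFn_apply α (hPR hx)).trans (hαφ ⟨x, hx⟩)).trans (e x hx)⟩

end Cfsg.Agent.S5106
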