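import Cfsg.Statements.S5107
import Cfsg.Agent.Lib.Fusion.NormalSeries

set_option autoImplicit false
open Cfsg

namespace Cfsg.Agent.S5107

open Cfsg.FusionSystem Cfsg.Agent.Fusion

/-- If a Sylow p-subgroup S of a finite group G has nilpotency class at most two and its centre is strongly closed in S with respect to G, then every map of the fusion system of G on S is conjugation by an element of N_G(S), and S is the largest subgroup normal in that fusion system. -/
theorem result {G : Type*} [Group G] [Finite G] (p : ℕ) [Fact p.Prime] (S : Sylow p G) (hcl : ⁅(S : Subgroup G), (S : Subgroup G)⁆ ≤ (S : Subgroup G) ⊓ Subgroup.centralizer ((S : Subgroup G) : Set G)) (hZ : Cfsg.IsStronglyClosed ((S : Subgroup G) ⊓ Subgroup.centralizer ((S : Subgroup G) : Set G)) (S : Subgroup G)) : (∀ (P : Subgroup G) (φ : P →* G), φ ∈ (Cfsg.groupFusionSystem (S : Subgroup G)).Hom P → ∃ g ∈ Subgroup.normalizer ((S : Subgroup G) : Set G), ∀ x : P, φ x = g * (x : G) * g⁻¹) ∧ (Cfsg.groupFusionSystem (S : Subgroup G)).core = S := by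
  set F := Cfsg.groupFusionSystem (S : Subgroup G)
  set Z := (S : Subgroup G) ⊓ Subgroup.centralizer ((S : Subgroup G) : Set G)
  have hsat : F.IsSaturated p := isSaturated_group S
  have hscS : F.StronglyClosed (S : Subgroup G) :=
    stronglyClosed_iff.2 ⟨le_rfl, fun P f hf x hx _ => hf.mem hx⟩
  have hscZ : F.StronglyClosed Z := by
    refine stronglyClosed_iff.2 ⟨inf_le_left, fun P f hf x hx hxZ => ?_⟩
    obtain ⟨-, g, hg⟩ := isMap_group_iff.1 hf
    rw [(hg x hx).2]
    exact hZ.2 x hxZ g (hg x hx).1
  have hN : F.IsNormal (S : Subgroup G) := by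
    refine isNormal_of_chain S.isPGroup' hsat 2
      (fun i => if i = 0 then ⊥ else if i = 1 then Z else (S : Subgroup G)) rfl rfl ?_ hscS ?_ ?_
    · refine monotone_nat_of_le_succ fun i => ?_
      rcases i with - | - | i <;> simp [Z]
    · intro i _ hi
      rcases i with - | - | i
      · omega
      · simpa using hscZ
      · simpa using hscS
    · intro i hi
      rcases i with - | - | i
      · simp only [Nat.zero_add, if_true, if_neg Nat.one_ne_zero, le_bot_iff,
          Subgroup.commutator_eq_bot_iff_le_centralizer]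
        intro s hs
        refine Subgroup.mem_centralizer_iff.2 fun z hz => ?_
        exact (Subgroup.mem_centralizer_iff.1 hz.2 s hs).symm
      · simpa using hcl
      · omega
  refine ⟨fun P φ hφ => ?_, le_antisymm (sSup_le fun Q hQ => hQ.1) (normal_le_core hN)⟩
  obtain ⟨g, hg, hgφ, -⟩ := (FusionChain.isNormal_iff.1 hN).2 P _ (isMap_toFn hφ)
  obtain ⟨-, a, ha⟩ := isMap_group_iff.1 hg
  refine ⟨a, ?_, fun x => ?_⟩
  · refine Sylow.smul_eq_iff_mem_normalizer.1 (Sylow.ext ?_)
    refine Subgroup.eq_of_le_of_card_ge ?_ (Sylow.card_eq_multiplicity _ |>.trans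
      (Sylow.card_eq_multiplicity _).symm).ge
    rintro _ ⟨s, hs, rfl⟩
    exact (ha s (Subgroup.mem_sup_right hs)).1
  · rw [← toFn_coe φ x, ← hgφ x x.2, (ha x (Subgroup.mem_sup_left x.2)).2]

end Cfsg.Agent.S5107
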