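import Cfsg.Statements.S5114
import Cfsg.Agent.Lib.FusionCrit.PrimeIndex
-- import your own Cfsg.Agent.* helpers here

set_option autoImplicit false
open Cfsg

namespace Cfsg.Agent.S5114

/-- Let F be a saturated fusion system over a finite p-group S and E a fusion system over S contained in F. If Aut_E(P) contains the subgroup of Aut_F(P) generated by its elements of p-power order for every subgroup P that is centric in F, then the same holds for every subgroup of S (E has index prime to p in F), every map of F with source a subgroup P of S is an element of Aut_F(S) composed with a map of E, and a subgroup is centric in E exactly when it is centric in F. -/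
theorem result {Ω : Type*} [Group Ω] {S : Subgroup Ω} [Finite S] (p : ℕ) [Fact p.Prime] (hS : IsPGroup p S) (F : Cfsg.FusionSystem S) (hF : F.IsSaturated p) (E : Cfsg.FusionSystem S) (hEF : E.IsSubsystemOf F) (h : ∀ P : Subgroup Ω, F.IsCentric P → (Subgroup.closure {α : ↥(F.autGroup P) | ∃ k : ℕ, orderOf α = p ^ k}).map (F.autGroup P).subtype ≤ E.autGroup P) : E.HasPrimeToPIndexIn F p ∧ (∀ (P : Subgroup Ω) (φ : P →* Ω), φ ∈ F.Hom P → ∃ α ∈ F.autGroup S, ∃ φ₀ ∈ E.Hom P, ∀ (x : P) (hx : φ₀ x ∈ S), φ x = ((α ⟨φ₀ x, hx⟩ : S) : Ω)) ∧ ∀ P : Subgroup Ω, E.IsCentric P ↔ F.IsCentric P := by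
  have h' : ∀ R, F.IsCentric R → FusionCrit.ppAut F p R ≤ E.autGroup R := fun R hR =>
    FusionCrit.ppAut_eq_map F p R ▸ h R hR
  refine ⟨⟨hEF, fun P hP => ?_⟩, fun P φ hφ => ?_, fun P => ⟨fun hc => ⟨hc.1, fun Q hQ => ?_⟩,
    fun hc => ⟨hc.1, fun Q hQ => ?_⟩⟩⟩
  · rw [FusionCrit.ppAut_eq_map, FusionCrit.ppAut, Subgroup.closure_le]
    rintro α ⟨hα, k, hk⟩
    exact (Fusion.mem_autGroup_iff hP).2 ((FusionCrit.gen_of_pElement hS hF hP hα hk).isMap_of h')
  · obtain ⟨β, hβ, g, hg, hfg⟩ := FusionCrit.exists_frattini hS hF (Fusion.isMap_toFn hφ)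
    obtain ⟨φ₀, hφ₀, he⟩ := hg.isMap_of h'
    refine ⟨β, hβ, φ₀, hφ₀, fun x hx => ?_⟩
    rw [← Fusion.toFn_coe φ x, hfg x x.2, ← Fusion.autFn_apply β hx, he x x.2]
  · obtain ⟨f, hf⟩ := Fusion.isConj_iff.1 hQ
    obtain ⟨β, hβ, g, hg, hfg⟩ := FusionCrit.exists_frattini hS hF hf.1
    have hgE := hg.isMap_of h'
    have hC := hc.2 _ (Fusion.isConj_iff.2 ⟨g, hgE.isIso⟩)
    have hb : Fusion.IsMap F S (Fusion.autFn β) := (Fusion.mem_autGroup_iff le_rfl).1 hβ
    intro c hcQ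
    have hcS : c ∈ S := hcQ.1
    set d := Fusion.autFn β⁻¹ c with hd
    have hdS : d ∈ S := Fusion.autFn_mem _ hcS
    have hdc : Fusion.autFn β d = c := FusionCrit.autFn_self_inv β hcS
    have hdC : d ∈ Cfsg.FusionSystem.centralizerIn S (Fusion.img g P) := by
      refine Fusion.mem_centralizerIn_of_conj hdS fun y hy => ?_
      obtain ⟨x, hx, rfl⟩ := (hgE.mem_img_iff le_rfl).1 hy
      have hgx := hgE.mem hx
      apply hb.inj (mul_mem (mul_mem hdS hgx) (inv_mem hdS)) hgx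
      rw [hb.map_conj hdS hgx, hdc, ← hfg x hx]
      exact Fusion.centralizerIn_conj hcQ (hf.mem hx)
    obtain ⟨x, hx, hxd⟩ := (hgE.mem_img_iff le_rfl).1 (hC hdC)
    have hfx := hfg x hx
    rw [hxd, hdc] at hfx
    exact hfx ▸ hf.mem hx
  · obtain ⟨φ, hφ, hr⟩ := hQ
    exact hc.2 Q ⟨φ, hEF P hφ, hr⟩

end Cfsg.Agent.S5114
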