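import Cfsg.Statements.S5118
import Cfsg.Agent.Lib.FusionIso.Subgroup

set_option autoImplicit false
open Cfsg

namespace Cfsg.Agent.S5118

open Cfsg.FusionSystem hiding inv_mem
open Cfsg.Agent.Fusion Cfsg.Agent.FusionIso


/-- For a finite group G with Sylow p-subgroup S and a normal subgroup H, the fusion system of H on S ∩ H is a normal subsystem of the fusion system of G on S. -/
theorem result {G : Type*} [Group G] [Finite G] (p : ℕ) [Fact p.Prime] (S : Sylow p G) (H : Subgroup G) [H.Normal] : (Cfsg.fusionSystemOfSubgroup H ((S : Subgroup G) ⊓ H) inf_le_right).IsNormalIn (Cfsg.groupFusionSystem (S : Subgroup G)) p := by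
  set T := (S : Subgroup G) ⊓ H with hTdef
  have hTH : T ≤ H := inf_le_right
  have hTS : T ≤ (S : Subgroup G) := inf_le_left
  have hnorm : ∀ g : G, ∀ x ∈ H, g * x * g⁻¹ ∈ H := fun g x hx => ‹H.Normal›.conj_mem x hx g
  have hTsyl : IsSylowIn p T H :=
    (isSylowIn_top S).inf_normal le_top fun a _ n hn => hnorm a n hn
  have hsub : ∀ P, (Cfsg.fusionSystemOfSubgroup H T hTH).Hom P ⊆
      (Cfsg.groupFusionSystem (S : Subgroup G)).Hom P := by
    rintro P φ ⟨hP, hφ, g, -, hg⟩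
    exact ⟨hP.trans hTS, fun x => hTS (hφ x), g, hg⟩
  refine ⟨⟨isSaturated_subgroup hTsyl, isSaturated_group S, hsub, ⟨hTS, ?_⟩, ?_, ?_⟩, ?_⟩
  · rintro R hR φ ⟨-, hφ, g, hg⟩ x
    exact ⟨hφ x, (hg x).symm ▸ hnorm g x (hTH (hR x.2))⟩
  · rintro P hPT φ ⟨-, hφT, h, hh, hφ⟩ α hα
    rw [autGroup_group hTS] at hα
    obtain ⟨g, -, hg⟩ := mem_autInducedBy_iff.1 hα
    set P' := (P.subgroupOf T).map (T.subtype.comp α.toMonoidHom)
    have hP' : ∀ y ∈ P', ∃ (x : G) (hx : x ∈ P), y = g * x * g⁻¹ ∧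
        g * h * g⁻¹ * y * (g * h * g⁻¹)⁻¹ = ((α ⟨φ ⟨x, hx⟩, hφT _⟩ : T) : G) := by
      rintro _ ⟨x, hx, rfl⟩
      refine ⟨x, hx, hg x, ?_⟩
      show g * h * g⁻¹ * ((α x : T) : G) * (g * h * g⁻¹)⁻¹ = _
      rw [hg, hg]
      show g * h * g⁻¹ * (g * (x : G) * g⁻¹) * (g * h * g⁻¹)⁻¹ = g * φ ⟨(x : G), hx⟩ * g⁻¹
      rw [hφ]
      group
    refine ⟨Cfsg.conjHom P' (g * h * g⁻¹), ⟨?_, fun y => ?_, g * h * g⁻¹, hnorm g h hh, fun y => rfl⟩,
      fun x hφx hαx => ?_⟩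
    · rintro _ ⟨x, -, rfl⟩
      exact (α x).2
    · obtain ⟨x, hx, -, he⟩ := hP' y y.2
      show g * h * g⁻¹ * (y : G) * (g * h * g⁻¹)⁻¹ ∈ T
      rw [he]
      exact Subtype.prop _
    · show g * h * g⁻¹ * ((α ⟨(x : G), _⟩ : T) : G) * (g * h * g⁻¹)⁻¹ = _
      rw [hg, hg]
      show g * h * g⁻¹ * (g * (x : G) * g⁻¹) * (g * h * g⁻¹)⁻¹ = g * φ x * g⁻¹
      rw [hφ]
      group
  · rintro P hP φ ⟨-, hφS, g, hg⟩
    obtain ⟨h, hh, hconj⟩ := hTsyl.exists_conj_le (H := T.map (MulAut.conj g⁻¹).toMonoidHom)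
      (hTsyl.isPGroup.map _) (by rintro _ ⟨t, ht, rfl⟩; exact hnorm g⁻¹ t (hTH ht))
    have hn : (g * h⁻¹)⁻¹ ∈ Subgroup.normalizer (T : Set G) := by
      refine (mem_normalizerIn_of_conj (S := ⊤) (P := T) trivial fun t ht => ?_).2
      have h1 := hconj _ ⟨t, ht, rfl⟩
      simpa [mul_assoc] using h1
    set n := g * h⁻¹ with hndef
    have hn1 := Subgroup.mem_normalizer_iff.1 hn
    have hval : ∀ x : P, h * (x : G) * h⁻¹ ∈ T := by
      intro x
      have hφT : φ x ∈ T := ⟨hφS x, hg x ▸ hnorm g x (hTH (hP x.2))⟩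
      have := (hn1 _).1 hφT
      rw [hg x] at this
      simpa [hndef, mul_assoc] using this
    refine ⟨normConj ⊤ T ⟨n, trivial, (Subgroup.inv_mem_iff _).1 hn⟩, ?_, Cfsg.conjHom P h,
      ⟨hP, hval, h, hh, fun x => rfl⟩, fun x hx => ?_⟩
    · rw [autGroup_group hTS, ← range_normConj]
      exact ⟨_, rfl⟩
    · rw [hg x, normConj_apply]
      show g * (x : G) * g⁻¹ = g * h⁻¹ * (h * (x : G) * h⁻¹) * (g * h⁻¹)⁻¹
      group
  · intro α hα
    obtain ⟨-, h, hh, hhα⟩ := (isMap_subgroup_iff hTH).1 ((mem_autGroup_iff le_rfl).1 hα)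
    have hαh : ∀ x : T, ((α x : T) : G) = h * x * h⁻¹ := fun x =>
      (autFn_apply α x.2).symm.trans (hhα x x.2).2
    have hhN : h ∈ Subgroup.normalizer (T : Set G) :=
      (mem_normalizerIn_of_aut (S := ⊤) trivial hαh).2
    set C := centralizerIn (S : Subgroup G) T
    set Z := Subgroup.centralizer (T : Set G)
    have hSN : (S : Subgroup G) ≤ Subgroup.normalizer (T : Set G) := fun s hs =>
      (mem_normalizerIn_of_conj (S := ⊤) (P := T) trivial fun t ht =>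
        ⟨mul_mem (mul_mem hs ht.1) (Subgroup.inv_mem _ hs), hnorm s t ht.2⟩).2
    have hC : IsSylowIn p C Z := by
      refine sylow_centralizer S ?_
      rw [show normalizerIn (S : Subgroup G) T = S from inf_eq_left.2 hSN]
      exact (isSylowIn_top S).mono hSN le_top
    have hZn : ∀ n ∈ Subgroup.normalizer (T : Set G), ∀ z ∈ Z, n * z * n⁻¹ ∈ Z := by
      intro n hn z hz
      refine Subgroup.mem_centralizer_iff.2 fun t ht => ?_
      have ht' : n⁻¹ * t * n ∈ T := by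
        simpa using (Subgroup.mem_normalizer_iff.1 (inv_mem hn) t).1 ht
      have := Subgroup.mem_centralizer_iff.1 hz _ ht'
      calc t * (n * z * n⁻¹) = n * (n⁻¹ * t * n * z) * n⁻¹ := by group
        _ = n * (z * (n⁻¹ * t * n)) * n⁻¹ := by rw [this]
        _ = n * z * n⁻¹ * t := by group
    set W := C ⊔ (Z ⊓ H)
    have hW : IsSylowIn p C W := hC.mono le_sup_left (sup_le inf_le_right inf_le_left)
    obtain ⟨w, hw, hwc⟩ := hW.exists_conj_le (H := C.map (MulAut.conj h).toMonoidHom)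
      (hC.isPGroup.map _) (by
        rintro _ ⟨c, hc, rfl⟩
        show h * c * h⁻¹ ∈ W
        have h1 : h * c * h⁻¹ * c⁻¹ ∈ Z ⊓ H := by
          refine ⟨mul_mem (hZn h hhN c hc.2) (Z.inv_mem hc.2), ?_⟩
          show h * c * h⁻¹ * c⁻¹ ∈ H
          rw [mul_assoc h, mul_assoc h]
          exact mul_mem hh (by simpa [mul_assoc] using hnorm c h⁻¹ (inv_mem hh))
        have := mul_mem (Subgroup.mem_sup_right (S := C) h1) (Subgroup.mem_sup_left hc)
        simpa [mul_assoc] using this)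
    have hCN : C ≤ Subgroup.normalizer ((Z ⊓ H : Subgroup G) : Set G) := fun c hc =>
      (mem_normalizerIn_of_conj (S := ⊤) (P := Z ⊓ H) trivial fun z hz =>
        ⟨mul_mem (mul_mem hc.2 hz.1) (Z.inv_mem hc.2), hnorm c z hz.2⟩).2
    rw [← SetLike.mem_coe, Subgroup.coe_mul_of_left_le_normalizer_right _ _ hCN] at hw
    obtain ⟨c0, hc0, z, hz, rfl⟩ := hw
    set u := z * h
    have huT : ∀ t ∈ T, u * t * u⁻¹ = h * t * h⁻¹ := by
      intro t ht
      have h1 : h * t * h⁻¹ ∈ T := hhα t ht |>.1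
      have := Subgroup.mem_centralizer_iff.1 hz.1 _ h1
      calc u * t * u⁻¹ = z * (h * t * h⁻¹) * z⁻¹ := by simp only [u]; group
        _ = (h * t * h⁻¹) * z * z⁻¹ := by rw [this]
        _ = h * t * h⁻¹ := by group
    have huC : ∀ c ∈ C, u * c * u⁻¹ ∈ C := by
      intro c hc
      have h1 : c0⁻¹ * (c0 * z * (h * c * h⁻¹) * (c0 * z)⁻¹) * c0 ∈ C :=
        mul_mem (mul_mem (inv_mem hc0) (hwc _ ⟨c, hc, rfl⟩)) hc0
      convert h1 using 1
      simp only [u]
      group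
    have hTC : T ⊔ C ≤ (S : Subgroup G) := sup_le hTS inf_le_left
    have huN : u ∈ normalizerIn ⊤ (T ⊔ C) := by
      refine mem_normalizerIn_of_conj trivial fun x hx => ?_
      have hle : T ⊔ C ≤ (T ⊔ C).comap (MulAut.conj u).toMonoidHom := sup_le
        (fun t ht => Subgroup.mem_sup_left (show u * t * u⁻¹ ∈ T from (huT t ht).symm ▸ (hhα t ht).1))
        (fun c hc => Subgroup.mem_sup_right (huC c hc))
      exact hle hx
    refine ⟨normConj ⊤ (T ⊔ C) ⟨u, huN⟩, ?_, fun x => ?_, fun c hc => ?_⟩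
    · rw [autGroup_group hTC, ← range_normConj]
      exact ⟨_, rfl⟩
    · rw [normConj_apply, hαh x]
      exact huT x x.2
    · rw [normConj_apply]
      have huc := huC c hc
      have huH : u ∈ H := mul_mem hz.2 hh
      refine ⟨⟨mul_mem (Subgroup.inv_mem _ hc.1) huc.1, ?_⟩, mul_mem (Z.inv_mem hc.2) huc.2⟩
      show (c : G)⁻¹ * (u * c * u⁻¹) ∈ H
      rw [show (c : G)⁻¹ * (u * c * u⁻¹) = ((c : G)⁻¹ * u * c) * u⁻¹ by group]
      exact mul_mem (by simpa using hnorm (c : G)⁻¹ u huH) (inv_mem huH)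

end Cfsg.Agent.S5118
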