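import Cfsg.Statements.S5119
import Cfsg.Agent.Lib.FusionNormal.Basic

set_option autoImplicit false
open Cfsg

namespace Cfsg.Agent.S5119

open Cfsg.FusionSystem Cfsg.Agent.Fusion Cfsg.Agent.FusionNormal

variable {Ω : Type*} [Group Ω] {S T : Subgroup Ω} {F : Cfsg.FusionSystem S} {E : Cfsg.FusionSystem T}

theorem closed_mem (hT : F.StronglyClosed T) {P : Subgroup Ω} {f : Ω → Ω} (hf : IsMap F P f)
    {Q : Subgroup Ω} (hQP : Q ≤ P) (hQT : Q ≤ T) {x : Ω} (hx : x ∈ Q) : f x ∈ T := by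
  obtain ⟨φ, hφ, e⟩ := hf.mono hQP
  rw [← e x hx]
  exact hT.2 Q hQT φ hφ ⟨x, hx⟩

theorem dom_eq {Q P : Subgroup Ω} (hPQ : P ≤ Q) {ψ : Q →* Ω} (hψ : ψ ∈ F.Hom Q) :
    (P.subgroupOf Q).map ψ = img (toFn ψ) P := by
  refine le_antisymm ?_ ((isMap_toFn hψ).img_le hPQ fun x hx => ?_)
  · rintro _ ⟨x, hx, rfl⟩
    exact Subgroup.subset_closure ⟨x, hx, toFn_coe ψ x⟩
  · exact ⟨⟨x, hPQ hx⟩, hx, (toFn_coe ψ ⟨x, hPQ hx⟩).symm⟩

/-- Strong invariance for maps as functions. -/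
def SI (F : Cfsg.FusionSystem S) (E : Cfsg.FusionSystem T) : Prop :=
  ∀ (P Q : Subgroup Ω), P ≤ Q → Q ≤ T → ∀ f g, IsMap E P f → (∀ x ∈ P, f x ∈ Q) → IsMap F Q g →
    ∃ h, IsMap E (img g P) h ∧ ∀ x ∈ P, h (g x) = g (f x)

theorem si_of_invariant (hE : E.IsInvariantIn F) : SI F E := by
  intro P Q hPQ hQT f g hf hfQ hg
  obtain ⟨α, hα, g₀, hg₀, hge⟩ := frattini_map hE hQT hg
  have hαS : IsMap F T (autFn α) := (mem_autGroup_iff hE.2.1.1).1 hα
  have h0 : IsIso E P (img g₀ P) g₀ := hg₀.mono hPQ |>.isIso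
  obtain ⟨i, hi, hil, -⟩ := h0.symm
  have hmid : IsMap E (img g₀ P) (fun y => g₀ (f (i y))) :=
    (hi.1.comp (hf.comp hg₀ hfQ) fun y hy => hi.mem hy)
  obtain ⟨h, hh, hhe⟩ := transport_map hE h0.le_right hmid hα
  refine ⟨h, ?_, fun x hx => ?_⟩
  · suffices himg : img g P = img (autFn α) (img g₀ P) by rw [himg]; exact hh
    refine IsIso.img_eq_of hg hPQ (fun x hx => ?_) fun y hy => ?_
    · rw [hge x (hPQ hx)]
      exact hαS.mem_img (h0.mem hx)
    · obtain ⟨z, hz, rfl⟩ := (hαS.mem_img_iff h0.le_right).1 hy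
      obtain ⟨x, hx, rfl⟩ := h0.exists_eq hz
      exact ⟨x, hx, hge x (hPQ hx)⟩
  · rw [hge x (hPQ hx), hge (f x) (hfQ x hx), hhe _ (h0.mem hx), hil x hx]

/-- `f` is an element of `Aut_F(T)` composed with a map of `E`. -/
def Good (F : Cfsg.FusionSystem S) (E : Cfsg.FusionSystem T) (P : Subgroup Ω) (f : Ω → Ω) : Prop :=
  ∃ α ∈ F.autGroup T, ∃ f₀, IsMap E P f₀ ∧ ∀ x ∈ P, f x = autFn α (f₀ x)

theorem Good.congr {P : Subgroup Ω} {f g : Ω → Ω} (h : Good F E P f) (e : ∀ x ∈ P, f x = g x) :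
    Good F E P g :=
  let ⟨α, hα, f₀, h0, he⟩ := h
  ⟨α, hα, f₀, h0, fun x hx => (e x hx).symm.trans (he x hx)⟩

theorem Good.mono {P Q : Subgroup Ω} {f : Ω → Ω} (h : Good F E P f) (hQ : Q ≤ P) : Good F E Q f :=
  let ⟨α, hα, f₀, h0, he⟩ := h
  ⟨α, hα, f₀, h0.mono hQ, fun x hx => he x (hQ hx)⟩

theorem autFn_mul {R : Subgroup Ω} (α β : MulAut R) {x : Ω} (hx : x ∈ R) :
    autFn (α * β) x = autFn α (autFn β x) := by
  rw [autFn_apply (α * β) hx, autFn_apply β hx, autFn_apply α (β ⟨x, hx⟩).2]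
  rfl

theorem Good.comp (hT : F.StronglyClosed T) (hsi : SI F E) {P Q : Subgroup Ω} {f g : Ω → Ω}
    (hf : Good F E P f) (hfQ : ∀ x ∈ P, f x ∈ Q) (hg : Good F E Q g) :
    Good F E P (fun x => g (f x)) := by
  obtain ⟨α, hα, f₀, hf₀, he⟩ := hf
  obtain ⟨β, hβ, g₀, hg₀, hge⟩ := hg
  have hαi : IsMap F T (autFn α⁻¹) := (mem_autGroup_iff hT.1).1 (inv_mem hα)
  obtain ⟨h, hh, hhe⟩ := hsi Q T hg₀.le le_rfl g₀ (autFn α⁻¹) hg₀ (fun x hx => hg₀.mem hx) hαi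
  have h1 : ∀ x ∈ P, autFn α⁻¹ (f x) = f₀ x := fun x hx => by
    rw [he x hx, ← autFn_mul _ _ (hf₀.mem hx), inv_mul_cancel, autFn_apply _ (hf₀.mem hx)]
    rfl
  have hmem : ∀ x ∈ P, f₀ x ∈ img (autFn α⁻¹) Q := fun x hx => h1 x hx ▸ hαi.mem_img (hfQ x hx)
  refine ⟨β * α, mul_mem hβ hα, fun x => h (f₀ x), hf₀.comp hh hmem, fun x hx => ?_⟩
  have h2 := hhe _ (hfQ x hx)
  rw [h1 x hx] at h2
  have hgT : g₀ (f x) ∈ T := hg₀.mem (hfQ x hx)
  show g (f x) = autFn (β * α) (h (f₀ x))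
  rw [hge _ (hfQ x hx), h2, ← autFn_mul (β * α) α⁻¹ hgT, mul_inv_cancel_right]

theorem Good.symm (hT : F.StronglyClosed T) (hsi : SI F E) {P Q : Subgroup Ω} {f g : Ω → Ω}
    (hf : Good F E P f) (hQ : ∀ y ∈ Q, ∃ x ∈ P, f x = y) (hgf : ∀ x ∈ P, g (f x) = x) :
    Good F E Q g := by
  obtain ⟨α, hα, f₀, hf₀, he⟩ := hf
  obtain ⟨i, hi, hil, -⟩ := hf₀.isIso.symm
  have hαm : IsMap F T (autFn α) := (mem_autGroup_iff hT.1).1 hα
  obtain ⟨h, hh, hhe⟩ := hsi _ T hi.le_left le_rfl i (autFn α) hi.1 (fun x hx => hi.1.mem hx) hαm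
  have hle : Q ≤ img (autFn α) (img f₀ P) := fun y hy => by
    obtain ⟨x, hx, rfl⟩ := hQ y hy
    rw [he x hx]
    exact hαm.mem_img (hf₀.mem_img hx)
  refine ⟨α⁻¹, inv_mem hα, h, hh.mono hle, fun y hy => ?_⟩
  obtain ⟨x, hx, rfl⟩ := hQ y hy
  have hxT : x ∈ T := hf₀.le hx
  rw [hgf x hx, he x hx, hhe _ (hf₀.mem_img hx), hil x hx, ← autFn_mul _ _ hxT, inv_mul_cancel,
    autFn_apply _ hxT]
  rfl

theorem good_autGroup [Finite S] {p : ℕ} [Fact p.Prime] (hS : IsPGroup p S) (hF : F.IsSaturated p)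
    (hE : E.IsSubsystemOf F) (hT : F.StronglyClosed T) (hsi : SI F E) {R : Subgroup Ω} (hRT : R ≤ T)
    (hR : F.IsFullyNormalized R)
    (hind : ∀ (M : Subgroup Ω) (f : Ω → Ω), R < M → M ≤ T → IsMap F M f → Good F E M f) (hlt : R < normalizerIn T R)
    {χ : MulAut R} (hχ : χ ∈ F.autGroup R) : Good F E R (autFn χ) := by
  have := finite_mulAut (S := S) (P := R) hR.1
  have := finite_of_le (S := S) (P := R) hR.1
  set A := F.autGroup R
  set K := E.autGroup R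
  have hKA : K ≤ A := autGroup_le_of_sub hE hRT
  have hnorm : ∀ a ∈ A, ∀ k ∈ K, a * k * a⁻¹ ∈ K := by
    intro a ha k hk
    have hk' : IsMap E R (autFn k) := (mem_autGroup_iff hRT).1 hk
    have ha' : IsMap F R (autFn a) := (mem_autGroup_iff hR.1).1 ha
    obtain ⟨h, hh, he⟩ := hsi R R le_rfl hRT _ _ hk' (fun x hx => autFn_mem k hx) ha'
    rw [(isIso_autFn hR.1 ha).2] at hh
    refine (mem_autGroup_iff hRT).2 (hh.congr fun y hy => ?_)
    have e : autFn a (autFn a⁻¹ y) = y := by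
      rw [← autFn_mul a a⁻¹ hy, mul_inv_cancel, autFn_apply _ hy]; rfl
    conv_lhs => rw [← e]
    rw [he _ (autFn_mem a⁻¹ hy), ← autFn_mul k a⁻¹ hy, ← autFn_mul a (k * a⁻¹) hy, ← mul_assoc]
  have hSyl := (isFullyAutomized_iff.1 (fullyAutomized_of_fullyNormalized hS hF hR)).2
  set B := autInducedBy S R ⊓ K
  have hB : IsSylowIn p B K := hSyl.inf_normal hKA hnorm
  obtain ⟨k, hk, hkc⟩ := hB.exists_conj_le (H := B.map (MulAut.conj χ).toMonoidHom)
    (hB.2.1.map _) (by rintro _ ⟨b, hb, rfl⟩; exact hnorm χ hχ b hb.2)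
  set μ := k * χ with hμdef
  have hμ : μ ∈ A := mul_mem (hKA hk) hχ
  obtain ⟨f', hf', he'⟩ := (isReceptive_iff.1 (receptive_of_fullyNormalized hS hF hR)).2 R (autFn μ)
    (isIso_autFn hR.1 hμ)
  have hle : normalizerIn T R ≤ Nx S R (autFn μ) := by
    intro g hg
    have hgN : g ∈ normalizerIn S R := ⟨hT.1 hg.1, hg.2⟩
    set b := normConj S R ⟨g, hgN⟩
    have hbS : b ∈ autInducedBy S R := range_normConj S R ▸ ⟨_, rfl⟩
    have hbT : b ∈ autInducedBy T R := mem_autInducedBy_iff.2 ⟨g, hg.1, fun x => normConj_apply _ x⟩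
    have hb : b ∈ B := ⟨hbS, autInducedBy_le_autGroup E le_rfl hRT hbT⟩
    have h1 : μ * b * μ⁻¹ ∈ autInducedBy S R := by
      have := (hkc _ ⟨b, hb, rfl⟩).1
      simpa [hμdef, mul_assoc] using this
    obtain ⟨h, hh, hhe⟩ := mem_autInducedBy_iff.1 h1
    refine mem_Nx.2 ⟨hgN, h, hh, fun x hx => ?_⟩
    have := hhe (μ ⟨x, hx⟩)
    rw [MulAut.mul_apply, MulAut.mul_apply, MulAut.inv_apply_self] at this
    rw [autFn_apply μ hx, ← this]
    have hbx : ((b ⟨x, hx⟩ : R) : Ω) = g * x * g⁻¹ := normConj_apply _ _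
    rw [← hbx, autFn_apply μ (b ⟨x, hx⟩).2]
  have hgood : Good F E R (autFn μ) :=
    ((hind _ f' hlt inf_le_left (hf'.mono hle)).mono hlt.le).congr fun x hx => he' x hx
  have hkgood : Good F E R (autFn k⁻¹) :=
    ⟨1, one_mem _, autFn k⁻¹, (mem_autGroup_iff hRT).1 (inv_mem hk), fun x hx => by
      rw [autFn_apply 1 (hRT (autFn_mem k⁻¹ hx))]; rfl⟩
  refine (hgood.comp hT hsi (fun x hx => autFn_mem μ hx) hkgood).congr fun x hx => ?_
  rw [← autFn_mul _ _ hx, hμdef, inv_mul_cancel_left]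

theorem good_all [Finite S] {p : ℕ} [Fact p.Prime] (hS : IsPGroup p S) (hF : F.IsSaturated p)
    (hE : E.IsSubsystemOf F) (hT : F.StronglyClosed T) (hsi : SI F E) :
    ∀ (n : ℕ) (P : Subgroup Ω) (f : Ω → Ω), Nat.card T - Nat.card P = n → P ≤ T → IsMap F P f → Good F E P f := by
  intro n
  induction n using Nat.strong_induction_on with
  | _ n ih =>
  intro P f hn hPT hf
  have := finite_of_le (S := S) (P := T) hT.1
  rcases eq_or_lt_of_le hPT with rfl | hlt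
  · have himg : img f P = P := eq_of_le_of_card hT.1 (hf.img_le le_rfl fun x hx => closed_mem hT hf le_rfl le_rfl hx)
      (hf.card_img le_rfl).ge
    obtain ⟨α, hα, e⟩ := exists_aut_of_isIso (show IsIso F P P f from ⟨hf, himg⟩)
    exact ⟨α, hα, fun x => x, Fusion.IsMap.id le_rfl, fun x hx => by rw [autFn_apply α hx, e]⟩
  obtain ⟨R, g, hR, hg, hgimg, hgN⟩ := exists_fullyNormalized_map hS hF (hPT.trans hT.1)
  have hQT : img f P ≤ T := hf.img_le le_rfl fun x hx => closed_mem hT hf le_rfl hPT hx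
  have key : ∀ Q, Q ≤ T → Q ≠ T → Nat.card Q = Nat.card P →
      ∀ M h, Q < M → M ≤ T → IsMap F M h → Good F E M h := by
    intro Q _ _ hc M h hQM hM hh
    refine ih _ ?_ M h rfl hM hh
    have := finite_of_le (S := S) (P := M) (hM.trans hT.1)
    have h1 : Nat.card Q < Nat.card M := Set.ncard_lt_ncard hQM (Set.toFinite _)
    have h2 : Nat.card M ≤ Nat.card T := Subgroup.card_le_of_le hM
    omega
  have hpT : IsPGroup p T := hS.to_le hT.1
  have toR : ∀ Q a, Q < T → Nat.card Q = Nat.card P → IsMap F (normalizerIn S Q) a →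
      Good F E Q a := by
    intro Q a hQ hc ha
    have hlt' : Q < normalizerIn T Q := lt_normalizerIn hS hT.1 hQ
    exact (key Q hQ.le hQ.ne hc _ a hlt' inf_le_left
      (ha.mono (inf_le_inf_right _ hT.1))).mono hlt'.le
  have hPmap : IsMap F P g := hg.mono (le_normalizerIn (hPT.trans hT.1))
  have hRT : R ≤ T := hgimg ▸ hPmap.img_le le_rfl fun x hx => closed_mem hT hPmap le_rfl hPT hx
  have hcR : Nat.card R = Nat.card P := hgimg ▸ hPmap.card_img le_rfl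
  have ha : IsIso F P R g := ⟨hPmap, hgimg⟩
  have hcQ : Nat.card (img f P) = Nat.card P := hf.card_img le_rfl
  have hcard : Nat.card P < Nat.card T := Set.ncard_lt_ncard hlt (Set.toFinite _)
  have hRlt : R < T := lt_of_le_of_ne hRT fun h => by rw [h] at hcR; omega
  have hQlt : img f P < T := lt_of_le_of_ne hQT fun h => by rw [h] at hcQ; omega
  obtain ⟨b, hb, hbimg, -⟩ := exists_normalizer_map hS (fullyAutomized_of_fullyNormalized hS hF hR)
    (receptive_of_fullyNormalized hS hF hR)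
    (isConj_trans (isConj_symm (isConj_iff.2 ⟨f, hf.isIso⟩)) (isConj_iff.2 ⟨g, ha⟩))
  have hbiso : IsIso F (img f P) R b := ⟨hb.mono (le_normalizerIn hf.img_le_S), hbimg⟩
  obtain ⟨a', ha', hal, har⟩ := ha.symm
  obtain ⟨b', hb', hbl, hbr⟩ := hbiso.symm
  have hχ : IsIso F R R (fun y => b (f (a' y))) := (ha'.trans hf.isIso).trans hbiso
  obtain ⟨χ, hχA, hχe⟩ := exists_aut_of_isIso hχ
  have g1 : Good F E P g := toR P g hlt rfl hg
  have g2 : Good F E R (autFn χ) := good_autGroup hS hF hE hT hsi hRT hR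
    (key R hRT hRlt.ne hcR) (lt_normalizerIn hS hT.1 hRlt) hχA
  have g3 : Good F E R b' := (toR _ b hQlt hcQ hb).symm hT hsi (fun y hy => hbiso.exists_eq hy) hbl
  refine ((g1.comp hT hsi (fun x hx => ha.mem hx) g2).comp hT hsi
    (fun x hx => autFn_mem χ (ha.mem hx)) g3).congr fun x hx => ?_
  rw [autFn_apply χ (ha.mem hx), hχe]
  show b' (b (f (a' (g x)))) = f x
  rw [hal x hx, hbl _ (hf.mem_img hx)]


/-- Let F be a saturated fusion system over a finite p-group S and E a subsystem of F over a subgroup T that is strongly closed in F. Then E is invariant in F (invariance under Aut_F(T) plus the Frattini condition) if and only if the strong invariance condition holds: for P ≤ Q ≤ T, every map φ of E from P into Q and every map ψ of F with source Q, the transported map ψ φ ψ⁻¹ on ψ(P) is a map of E. -/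
theorem result {Ω : Type*} [Group Ω] {S : Subgroup Ω} [Finite S] (p : ℕ) [Fact p.Prime] (hS : IsPGroup p S) (F : Cfsg.FusionSystem S) (hF : F.IsSaturated p) {T : Subgroup Ω} (E : Cfsg.FusionSystem T) (hE : E.IsSubsystemOf F) (hT : F.StronglyClosed T) : E.IsInvariantIn F ↔ ∀ (P Q : Subgroup Ω) (hPQ : P ≤ Q) (_ : Q ≤ T) (φ : P →* Ω) (_ : φ ∈ E.Hom P) (hφQ : ∀ x : P, φ x ∈ Q) (ψ : Q →* Ω) (_ : ψ ∈ F.Hom Q), ∃ χ ∈ E.Hom ((P.subgroupOf Q).map ψ), ∀ (x : P) (hx : ψ (Subgroup.inclusion hPQ x) ∈ (P.subgroupOf Q).map ψ), χ ⟨ψ (Subgroup.inclusion hPQ x), hx⟩ = ψ ⟨φ x, hφQ x⟩ := by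
  constructor
  · intro h P Q hPQ hQT φ hφ hφQ ψ hψ
    obtain ⟨h', hh', he⟩ := si_of_invariant h P Q hPQ hQT (toFn φ) (toFn ψ) (isMap_toFn hφ)
      (fun x hx => toFn_apply φ hx ▸ hφQ ⟨x, hx⟩) (isMap_toFn hψ)
    rw [← dom_eq hPQ hψ] at hh'
    obtain ⟨χ, hχ, eχ⟩ := hh'
    refine ⟨χ, hχ, fun x hx => ?_⟩
    have := he x x.2
    rw [toFn_coe φ x, toFn_apply ψ (hPQ x.2), toFn_apply ψ (hφQ x)] at this
    exact (eχ _ hx).trans this
  · intro h
    have hsi : SI F E := by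
      intro P Q hPQ hQT f g hf hfQ hg
      obtain ⟨φ, hφ, e⟩ := hf
      obtain ⟨ψ, hψ, eg⟩ := hg
      have hφQ : ∀ x : P, φ x ∈ Q := fun x => (e x x.2).symm ▸ hfQ x x.2
      obtain ⟨χ, hχ, he⟩ := h P Q hPQ hQT φ hφ hφQ ψ hψ
      have himg : (P.subgroupOf Q).map ψ = img g P :=
        (dom_eq hPQ hψ).trans (img_congr fun x hx => (toFn_apply ψ (hPQ hx)).trans (eg x (hPQ hx)))
      refine ⟨toFn χ, himg ▸ isMap_toFn hχ, fun x hx => ?_⟩
      have hm : ψ (Subgroup.inclusion hPQ ⟨x, hx⟩) ∈ (P.subgroupOf Q).map ψ := ⟨_, hx, rfl⟩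
      have h1 : g x = ψ (Subgroup.inclusion hPQ ⟨x, hx⟩) := (eg x (hPQ hx)).symm
      rw [h1, toFn_apply χ hm, he ⟨x, hx⟩ hm, ← e x hx, ← eg _ (hφQ ⟨x, hx⟩)]
    refine ⟨hE, hT, fun P hPT φ hφ α hα => ?_, fun P hPT φ hφ => ?_⟩
    · have hαm : T.subtype.comp α.toMonoidHom ∈ F.Hom T := by
        obtain ⟨χ, hχ, e⟩ := (mem_autGroup_iff hT.1).1 hα
        convert hχ using 1
        exact MonoidHom.ext fun x => ((e x x.2).trans (autFn_apply α x.2)).symm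
      obtain ⟨χ, hχ, he⟩ := h P T hPT le_rfl φ hφ (fun x => (E.le_of_mem hφ).2 x) _ hαm
      exact ⟨χ, hχ, fun x _ hαx => he x hαx⟩
    · obtain ⟨α, hα, f₀, ⟨φ₀, hφ₀, e₀⟩, he⟩ :=
        good_all hS hF hE hT hsi _ P (toFn φ) rfl hPT (isMap_toFn hφ)
      refine ⟨α, hα, φ₀, hφ₀, fun x hx => ?_⟩
      rw [← toFn_coe φ x, he x x.2, ← e₀ x x.2, autFn_apply α hx]

end Cfsg.Agent.S5119
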