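import Cfsg.Statements.S5126
import Cfsg.Agent.Lib.Fusion.GroupBridge
import Cfsg.Agent.Lib.Fusion.SectionFree

set_option autoImplicit false
open Cfsg Cfsg.FusionSystem
open Cfsg.Agent Cfsg.Agent.Fusion

namespace Cfsg.Agent.S5126

/-- In a saturated fusion system over a finite p-group S, the normalizer system of a fully normalized, centric, radical subgroup R is constrained, and in every model of that normalizer system the largest normal p-subgroup is the image of R. -/
theorem result {Ω : Type*} [Group Ω] {S : Subgroup Ω} [Finite S] (p : ℕ) [Fact p.Prime] (hS : IsPGroup p S) (F : Cfsg.FusionSystem S) (hF : F.IsSaturated p) (R : Subgroup Ω) (hRn : F.IsFullyNormalized R) (hRc : F.IsCentric R) (hRr : F.IsRadical p R) (E : Cfsg.FusionSystem (Cfsg.FusionSystem.normalizerIn S R)) (hE : F.IsNormalizerSystem R E) {G : Type*} [Group G] (ι : ↥(Cfsg.FusionSystem.normalizerIn S R) →* G) : E.IsConstrained p ∧ (E.IsModel p G ι → (Cfsg.pCore p G : Subgroup G) = (R.subgroupOf (Cfsg.FusionSystem.normalizerIn S R)).map ι) := by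
  have hnc := nc_normalizer hS hF hRn hRc hE
  have : Finite (normalizerIn S R) := finite_of_le (S := S) inf_le_left
  have hc : E.IsConstrained p := ⟨isSaturated_normalizer hS hF hRn hE, R, hnc.nor, hnc.cen⟩
  refine ⟨hc, fun hG => ?_⟩
  have hRN : R ≤ normalizerIn S R := le_normalizerIn hRn.1
  have hrad : E.IsRadical p R := by
    refine ⟨hRN, ?_⟩
    rw [autGroup_normalizer hRn.1 hE]
    exact hRr.2
  have hcore : E.core = R := le_antisymm
    (sSup_le fun Q hQ => le_radical_of_normal (S := normalizerIn S R) (hS.to_le inf_le_left) hQ hnc.cen hrad)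
    (le_sSup hnc.nor)
  rw [← model_core hG (hS.to_le inf_le_left)] at hcore
  exact (map_pre _ (pCore_le_range hG)).symm.trans
    (congrArg (fun X : Subgroup Ω => (X.subgroupOf (normalizerIn S R)).map ι) hcore)

end Cfsg.Agent.S5126
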