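import Cfsg.Statements.S5133
import Cfsg.Agent.Lib.Fusion.Quotient

set_option autoImplicit false
open Cfsg

namespace Cfsg.Agent.S5133

/-- Let F be a saturated fusion system over a finite p-group S, F' a fusion system over S', and α : S → S' a surjective morphism of fusion systems from F to F' (α maps S onto S' and every map of F' with source P' ≤ S' is induced along α by a map of F on the full preimage of P'). Then F' is saturated. -/
theorem result {Ω : Type*} [Group Ω] {S : Subgroup Ω} [Finite S] (p : ℕ) [Fact p.Prime] (hS : IsPGroup p S) (F : Cfsg.FusionSystem S) (hF : F.IsSaturated p) {Ω' : Type*} [Group Ω'] {S' : Subgroup Ω'} (F' : Cfsg.FusionSystem S') (α : S →* Ω') (hα : F.IsSurjectiveMorphism F' α) : F'.IsSaturated p := by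
  obtain ⟨⟨hαS, hm⟩, hr, hs⟩ := hα
  let S₀ : Subgroup Ω := α.ker.map S.subtype
  have hker : ∀ s : S, α s = 1 ↔ (s : Ω) ∈ S₀ := fun s =>
    ⟨fun h => ⟨s, h, rfl⟩, fun ⟨t, ht, e⟩ => Subtype.ext (p := fun x => x ∈ S) e ▸ ht⟩
  have hcl : F.StronglyClosed S₀ := by
    refine Agent.Fusion.stronglyClosed_iff.2 ⟨Subgroup.map_subtype_le _, fun P f hf x hxP hx => ?_⟩
    obtain ⟨φ, hφ, e⟩ := hf
    obtain ⟨φ', -, hP, hφS, hP', h⟩ := hm P φ hφ
    have hx1 : α ⟨x, hP hxP⟩ = 1 := (hker _).2 hx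
    have h1 := h ⟨x, hxP⟩
    have h0 : (⟨α ⟨x, hP hxP⟩, hP' ⟨x, hxP⟩⟩ : Cfsg.FusionSystem.imageAlong α P) = 1 :=
      Subtype.ext hx1
    rw [h0, map_one] at h1
    rw [← e x hxP]
    exact (hker ⟨φ ⟨x, hxP⟩, hφS _⟩).1 h1.symm
  have D : Agent.Fusion.QData F S₀ α S' := ⟨hcl, hker, hr⟩
  refine D.isSaturated_factor hS hF ⟨D.le, hker, hr, fun P' φ' => ⟨fun h => ?_, ?_⟩⟩
  · have hP : P' ≤ S' := (F'.le_of_mem h).1
    exact ⟨hP, hs P' hP φ' h⟩
  rintro ⟨hP, φ, hφ, hi⟩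
  obtain ⟨φ'', hφ'', hi''⟩ := hm _ φ hφ
  obtain ⟨hS1, hφS, hP1⟩ := Agent.Fusion.inducedAlong_le hi
  have e1 := (Agent.Fusion.inducedAlong_iff hS1 hφS hP1).1 hi
  have e2 := (Agent.Fusion.inducedAlong_iff hS1 hφS (Agent.Fusion.inducedAlong_le hi'').2.2).1 hi''
  have heq := D.image_preimage hP
  refine Agent.Fusion.mem_of_isMap
    ((congrArg (fun Q => Agent.Fusion.IsMap F' Q (Agent.Fusion.toFn φ'')) heq).mp
      (Agent.Fusion.isMap_toFn hφ'')) fun y => ?_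
  obtain ⟨x, hx, -, e⟩ := Agent.Fusion.mem_imageAlong.1 (show (y : Ω') ∈
    Cfsg.FusionSystem.imageAlong α (Cfsg.FusionSystem.preimageAlong α P') by rw [heq]; exact y.2)
  rw [← Agent.Fusion.toFn_coe φ' y, ← e, e1 x hx, e2 x hx]

end Cfsg.Agent.S5133
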