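import Cfsg.Statements.S5134
import Cfsg.Agent.Lib.Fusion.Quotient
import Cfsg.Agent.Lib.FusionChain.Puig

set_option autoImplicit false
open Cfsg

namespace Cfsg.Agent.S5134

/-- Let F be a saturated fusion system over a finite p-group S, S₀ a subgroup strongly closed in F, and E the factor system of F modulo S₀ read through θ (a homomorphism on S with kernel S₀ and image the group of E). Then θ is a surjective morphism of fusion systems from F onto E: in particular every map of F, and not only the maps whose source contains S₀, induces along θ a map of E. -/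
theorem result {Ω : Type*} [Group Ω] {S : Subgroup Ω} [Finite S] (p : ℕ) [Fact p.Prime] (hS : IsPGroup p S) (F : Cfsg.FusionSystem S) (hF : F.IsSaturated p) (S₀ : Subgroup Ω) (hS₀ : F.StronglyClosed S₀) {Ω' : Type*} [Group Ω'] {S' : Subgroup Ω'} (θ : S →* Ω') (E : Cfsg.FusionSystem S') (hE : F.IsFactorSystem S₀ θ E) : F.IsSurjectiveMorphism E θ := by
  have D : Agent.Fusion.QData F S₀ θ S' := ⟨hS₀, hE.2.1, hE.2.2.1⟩
  refine ⟨⟨fun s => hE.2.2.1 ▸ ⟨s, rfl⟩, fun P φ hφ => ?_⟩, hE.2.2.1, fun P' hP' φ' hφ' => ?_⟩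
  · have hP : P ≤ S := (F.le_of_mem hφ).1
    obtain ⟨g, hg, hgf⟩ := Agent.FusionChain.exists_map_congr_mod hS hF hS₀ (Agent.Fusion.isMap_toFn hφ)
    obtain ⟨f', ⟨φ', hφ', e'⟩, hf'⟩ := D.isMap_image hE hg le_sup_right
    have himg : Cfsg.FusionSystem.imageAlong θ (P ⊔ S₀) = Cfsg.FusionSystem.imageAlong θ P := by
      have hle : Cfsg.FusionSystem.imageAlong θ P ≤ S' := fun y hy => by
        obtain ⟨x, -, hx, rfl⟩ := Agent.Fusion.mem_imageAlong.1 hy
        exact D.thF_mem hx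
      rw [← D.preimage_image hP, D.image_preimage hle]
    have hm : Agent.Fusion.IsMap E (Cfsg.FusionSystem.imageAlong θ P) f' :=
      himg ▸ ⟨φ', hφ', e'⟩
    obtain ⟨ψ, hψ, hψe⟩ := hm
    refine ⟨ψ, hψ, (Agent.Fusion.inducedAlong_iff hP (F.le_of_mem hφ).2 fun x hx =>
      Agent.Fusion.mem_imageAlong.2 ⟨x, hx, hP hx, rfl⟩).2 fun x hx => ?_⟩
    rw [Agent.Fusion.toFn_apply ψ (Agent.Fusion.mem_imageAlong.2 ⟨x, hx, hP hx, rfl⟩), hψe,
      hf' x (Subgroup.mem_sup_left hx),
      D.thF_eq_iff (hg.mem (Subgroup.mem_sup_left hx)) (Agent.Fusion.IsMap.mem (Agent.Fusion.isMap_toFn hφ) hx)]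
    exact hgf x hx
  · exact ((hE.2.2.2 P' φ').1 hφ').2

end Cfsg.Agent.S5134
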