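import Cfsg.Statements.S5135
import Cfsg.Agent.EqLemmas

set_option autoImplicit false
open Cfsg

namespace Cfsg.Agent.S5135

theorem exists_conj_le {G : Type*} [Group G] [Finite G] {p : ℕ} [Fact p.Prime] (S : Sylow p G)
    (H : Subgroup G) [H.Normal] {Q : Subgroup G} (hQ : IsPGroup p Q)
    (hle : Q ≤ (S : Subgroup G) ⊔ H) : ∃ h ∈ H, ∀ q ∈ Q, h * q * h⁻¹ ∈ (S : Subgroup G) := by
  set M := (S : Subgroup G) ⊔ H
  obtain ⟨R, hR⟩ := (hQ.comap_subtype (K := M)).exists_le_sylow
  obtain ⟨m, hm⟩ := MulAction.exists_smul_eq M R (S.subtype (le_sup_left : (S : Subgroup G) ≤ M))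
  obtain ⟨s, hs, h, hh, hsh⟩ := Subgroup.mem_sup_of_normal_right.mp m.2
  refine ⟨h, hh, fun q hq => ?_⟩
  have h1 : m * ⟨q, hle hq⟩ * m⁻¹ ∈ ((m • R : Sylow p M) : Subgroup M) := by
    rw [Sylow.coe_subgroup_smul]
    exact ⟨⟨q, hle hq⟩, hR hq, rfl⟩
  rw [hm] at h1
  have h2 : (m : G) * q * (m : G)⁻¹ ∈ (S : Subgroup G) := h1
  have h3 : s⁻¹ * ((m : G) * q * (m : G)⁻¹) * s ∈ (S : Subgroup G) :=
    mul_mem (mul_mem (inv_mem hs) h2) hs
  convert h3 using 1
  rw [← hsh]
  group


/-- Let G be a finite group, S a Sylow p-subgroup and H a normal subgroup of G. Then the fusion system of G/H on the image SH/H of S is the factor system of the fusion system of G on S modulo S ∩ H, read through the quotient map restricted to S: for each subgroup P' of SH/H, the conjugation maps by elements of G/H defined on P' with values in SH/H are exactly the homomorphisms induced by the conjugation maps by elements of G defined on the full preimage of P' in S with values in S.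 -/
theorem result {G : Type*} [Group G] [Finite G] (p : ℕ) [Fact p.Prime] (S : Sylow p G) (H : Subgroup G) [H.Normal] : (Cfsg.groupFusionSystem (S : Subgroup G)).IsFactorSystem ((S : Subgroup G) ⊓ H) ((QuotientGroup.mk' H).comp (S : Subgroup G).subtype) (Cfsg.groupFusionSystem ((S : Subgroup G).map (QuotientGroup.mk' H))) := by
  refine ⟨inf_le_left, fun s => ?_, ?_, fun P' φ' => ⟨?_, ?_⟩⟩
  · rw [MonoidHom.comp_apply, QuotientGroup.mk'_apply, QuotientGroup.eq_one_iff]
    exact ⟨fun h => ⟨s.2, h⟩, fun h => h.2⟩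
  · rw [MonoidHom.range_comp, Subgroup.range_subtype]
  · rintro ⟨hP', hφ'S, gq, hg⟩
    obtain ⟨g, rfl⟩ := QuotientGroup.mk'_surjective H gq
    refine ⟨hP', ?_⟩
    set P := Cfsg.FusionSystem.preimageAlong ((QuotientGroup.mk' H).comp (S : Subgroup G).subtype) P'
    have hPS : P ≤ (S : Subgroup G) := Subgroup.map_subtype_le _
    have hPmem : ∀ x ∈ P, QuotientGroup.mk' H x ∈ P' := by
      rintro _ ⟨x, hx, rfl⟩; exact hx
    have hQ : IsPGroup p (P.map (MulAut.conj g).toMonoidHom) := (S.isPGroup'.to_le hPS).map _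
    have hle : P.map (MulAut.conj g).toMonoidHom ≤ (S : Subgroup G) ⊔ H := by
      rintro _ ⟨x, hx, rfl⟩
      have h1 : QuotientGroup.mk' H (g * x * g⁻¹) ∈ (S : Subgroup G).map (QuotientGroup.mk' H) := by
        rw [map_mul, map_mul, map_inv, ← hg ⟨_, hPmem x hx⟩]
        exact hφ'S _
      obtain ⟨s, hs, he⟩ := h1
      obtain ⟨z, hz, hz'⟩ := (QuotientGroup.mk'_eq_mk' H).mp he
      exact show g * x * g⁻¹ ∈ _ from hz' ▸ Subgroup.mul_mem_sup hs hz
    obtain ⟨h, hh, hconj⟩ := exists_conj_le S H hQ hle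
    refine ⟨Cfsg.conjHom P (h * g), ⟨hPS, fun x => ?_, h * g, fun x => rfl⟩, hPS, fun x => ?_,
      fun x => hPmem x x.2, fun x => ?_⟩
    all_goals
      have h2 : (h * g) * (x : G) * (h * g)⁻¹ ∈ (S : Subgroup G) := by
        have := hconj _ ⟨x, x.2, rfl⟩
        simpa [mul_assoc] using this
    · exact h2
    · exact h2
    · show φ' ⟨QuotientGroup.mk' H x, _⟩ = QuotientGroup.mk' H ((h * g) * (x : G) * (h * g)⁻¹)
      rw [hg, map_mul, map_mul, map_inv, map_mul,
        show QuotientGroup.mk' H h = 1 from (QuotientGroup.eq_one_iff h).mpr hh, one_mul]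
  · rintro ⟨hP', φ, ⟨-, -, g, hg⟩, hP, hφ, hP'', he⟩
    have key : ∀ y : P', ∃ x : Cfsg.FusionSystem.preimageAlong
        ((QuotientGroup.mk' H).comp (S : Subgroup G).subtype) P', QuotientGroup.mk' H (x : G) = (y : G ⧸ H) := by
      intro y
      obtain ⟨s, hs, he⟩ := hP' y.2
      exact ⟨⟨s, ⟨s, hs⟩, show QuotientGroup.mk' H s ∈ P' from he ▸ y.2, rfl⟩, he⟩
    refine ⟨hP', fun y => ?_, QuotientGroup.mk' H g, fun y => ?_⟩
    all_goals
      obtain ⟨x, hx⟩ := key y
      have hy : y = ⟨_, hP'' x⟩ := Subtype.ext hx.symm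
      rw [hy, he x]
    · exact ⟨φ x, hφ x, rfl⟩
    · show QuotientGroup.mk' H (φ x) = _
      rw [hg x, map_mul, map_mul, map_inv]
      rfl

end Cfsg.Agent.S5135
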