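import Cfsg.Statements.S5136
import Cfsg.Agent.EqLemmas

set_option autoImplicit false
open Cfsg

namespace Cfsg.Agent.S5136

section
variable {Ω₁ Ω₂ : Type*} [Group Ω₁] [Group Ω₂] {S₁ : Subgroup Ω₁} {S₂ : Subgroup Ω₂}
  (F₁ : Cfsg.FusionSystem S₁) (F₂ : Cfsg.FusionSystem S₂)

local notation "π₁" => MonoidHom.fst Ω₁ Ω₂
local notation "π₂" => MonoidHom.snd Ω₁ Ω₂

theorem restr {Ω : Type*} [Group Ω] {S : Subgroup Ω} (F : Cfsg.FusionSystem S) {A B : Subgroup Ω}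
    {ψ : B →* Ω} (hle : A ≤ B) (hψ : ψ ∈ F.Hom B) : ψ.comp (Subgroup.inclusion hle) ∈ F.Hom A := by
  have := F.comp_mem (F.conj_mem (hle.trans (F.le_of_mem hψ).1) S.one_mem) hψ
    (fun x => by simpa [Cfsg.conjHom] using hle x.2)
  convert this using 1
  ext x
  simp [Cfsg.conjHom, Subgroup.inclusion, MonoidHom.codRestrict]

def homs (P : Subgroup (Ω₁ × Ω₂)) : Set (P →* Ω₁ × Ω₂) :=
  {φ | P ≤ S₁.prod S₂ ∧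
      ∃ φ₁ ∈ F₁.Hom (P.map π₁), ∃ φ₂ ∈ F₂.Hom (P.map π₂),
        ∀ (x : P) (h₁ : (x : Ω₁ × Ω₂).1 ∈ P.map π₁) (h₂ : (x : Ω₁ × Ω₂).2 ∈ P.map π₂),
          φ x = (φ₁ ⟨(x : Ω₁ × Ω₂).1, h₁⟩, φ₂ ⟨(x : Ω₁ × Ω₂).2, h₂⟩)}

def product : Cfsg.FusionSystem (S₁.prod S₂) where
  Hom := homs F₁ F₂
  le_of_mem := by
    rintro P φ ⟨hP, φ₁, h1, φ₂, h2, he⟩
    refine ⟨hP, fun x => ?_⟩
    rw [he x ⟨x, x.2, rfl⟩ ⟨x, x.2, rfl⟩]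
    exact ⟨(F₁.le_of_mem h1).2 _, (F₂.le_of_mem h2).2 _⟩
  injective_of_mem := by
    rintro P φ ⟨hP, φ₁, h1, φ₂, h2, he⟩ x y hxy
    rw [he x ⟨x, x.2, rfl⟩ ⟨x, x.2, rfl⟩, he y ⟨y, y.2, rfl⟩ ⟨y, y.2, rfl⟩, Prod.mk.injEq] at hxy
    exact Subtype.ext (Prod.ext (congrArg Subtype.val (F₁.injective_of_mem h1 hxy.1))
      (congrArg Subtype.val (F₂.injective_of_mem h2 hxy.2)))
  conj_mem := by
    intro P g hP hg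
    refine ⟨hP, Cfsg.conjHom (P.map π₁) g.1, F₁.conj_mem ?_ hg.1,
      Cfsg.conjHom (P.map π₂) g.2, F₂.conj_mem ?_ hg.2, fun x _ _ => rfl⟩
    · rintro _ ⟨x, hx, rfl⟩; exact (hP hx).1
    · rintro _ ⟨x, hx, rfl⟩; exact (hP hx).2
  comp_mem := by
    rintro P Q φ ψ ⟨hP, φ₁, h1, φ₂, h2, he⟩ ⟨hQ, ψ₁, k1, ψ₂, k2, ke⟩ h
    have m1 : ∀ y : P.map π₁, φ₁ y ∈ Q.map π₁ := by
      rintro ⟨_, x, hx, rfl⟩
      exact ⟨φ ⟨x, hx⟩, h ⟨x, hx⟩, congrArg Prod.fst (he ⟨x, hx⟩ ⟨x, hx, rfl⟩ ⟨x, hx, rfl⟩)⟩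
    have m2 : ∀ y : P.map π₂, φ₂ y ∈ Q.map π₂ := by
      rintro ⟨_, x, hx, rfl⟩
      exact ⟨φ ⟨x, hx⟩, h ⟨x, hx⟩, congrArg Prod.snd (he ⟨x, hx⟩ ⟨x, hx, rfl⟩ ⟨x, hx, rfl⟩)⟩
    refine ⟨hP, _, F₁.comp_mem h1 k1 m1, _, F₂.comp_mem h2 k2 m2, fun x h₁ h₂ => ?_⟩
    have := he x h₁ h₂
    show ψ ⟨φ x, h x⟩ = _
    rw [ke ⟨φ x, h x⟩ ⟨φ x, h x, rfl⟩ ⟨φ x, h x, rfl⟩]
    refine Prod.ext ?_ ?_
    · exact congrArg ψ₁ (Subtype.ext (congrArg Prod.fst this))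
    · exact congrArg ψ₂ (Subtype.ext (congrArg Prod.snd this))
  inv_mem := by
    rintro P φ ⟨hP, φ₁, h1, φ₂, h2, he⟩
    obtain ⟨ψ₁, k1, e1⟩ := F₁.inv_mem h1
    obtain ⟨ψ₂, k2, e2⟩ := F₂.inv_mem h2
    have l1 : φ.range.map π₁ ≤ φ₁.range := by
      rintro _ ⟨_, ⟨x, rfl⟩, rfl⟩
      exact ⟨⟨_, x, x.2, rfl⟩, (congrArg Prod.fst (he x ⟨x, x.2, rfl⟩ ⟨x, x.2, rfl⟩)).symm⟩
    have l2 : φ.range.map π₂ ≤ φ₂.range := by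
      rintro _ ⟨_, ⟨x, rfl⟩, rfl⟩
      exact ⟨⟨_, x, x.2, rfl⟩, (congrArg Prod.snd (he x ⟨x, x.2, rfl⟩ ⟨x, x.2, rfl⟩)).symm⟩
    have hR : φ.range ≤ S₁.prod S₂ := by
      rintro _ ⟨x, rfl⟩
      rw [he x ⟨x, x.2, rfl⟩ ⟨x, x.2, rfl⟩]
      exact ⟨(F₁.le_of_mem h1).2 _, (F₂.le_of_mem h2).2 _⟩
    let j₁ : φ.range →* φ.range.map π₁ :=
      { toFun := fun y => ⟨(y : Ω₁ × Ω₂).1, y, y.2, rfl⟩, map_one' := rfl, map_mul' := fun _ _ => rfl }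
    let j₂ : φ.range →* φ.range.map π₂ :=
      { toFun := fun y => ⟨(y : Ω₁ × Ω₂).2, y, y.2, rfl⟩, map_one' := rfl, map_mul' := fun _ _ => rfl }
    let j := j₁.prod j₂
    refine ⟨((ψ₁.comp (Subgroup.inclusion l1)).prodMap (ψ₂.comp (Subgroup.inclusion l2))).comp j,
      ⟨hR, _, restr F₁ l1 k1, _, restr F₂ l2 k2, fun x _ _ => rfl⟩, fun x => ?_⟩
    have hx := he x ⟨x, x.2, rfl⟩ ⟨x, x.2, rfl⟩
    refine Prod.ext ?_ ?_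
    · exact (congrArg ψ₁ (Subtype.ext (congrArg Prod.fst hx))).trans (e1 ⟨(x : Ω₁ × Ω₂).1, x, x.2, rfl⟩)
    · exact (congrArg ψ₂ (Subtype.ext (congrArg Prod.snd hx))).trans (e2 ⟨(x : Ω₁ × Ω₂).2, x, x.2, rfl⟩)

end


/-- Let F₁ and F₂ be fusion systems over finite p-groups S₁ and S₂ (inside ambient groups Ω₁ and Ω₂). Then their direct product exists: there is a fusion system over S₁ × S₂ inside Ω₁ × Ω₂ whose maps with source P ≤ S₁ × S₂ are exactly the restrictions to P of the homomorphisms (x₁, x₂) ↦ (φ₁ x₁, φ₂ x₂) with φ₁ a map of F₁ on the first projection of P and φ₂ a map of F₂ on the second projection. -/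
theorem result {Ω₁ Ω₂ : Type*} [Group Ω₁] [Group Ω₂] {S₁ : Subgroup Ω₁} {S₂ : Subgroup Ω₂} [Finite S₁] [Finite S₂] (p : ℕ) [Fact p.Prime] (h₁ : IsPGroup p S₁) (h₂ : IsPGroup p S₂) (F₁ : Cfsg.FusionSystem S₁) (F₂ : Cfsg.FusionSystem S₂) : ∃ E : Cfsg.FusionSystem (S₁.prod S₂), Cfsg.FusionSystem.IsProductSystem F₁ F₂ E := by
  exact ⟨product F₁ F₂, fun P φ => Iff.rfl⟩

end Cfsg.Agent.S5136
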