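import Cfsg.Statements.S5138
import Cfsg.Agent.EqLemmas
import Cfsg.Agent.Lib.FusionLayer.ProductNormal

set_option autoImplicit false
open Cfsg

namespace Cfsg.Agent.S5138

/-- Let F be a saturated fusion system over a finite p-group S and E₁, E₂ normal subsystems over T₁, T₂ with [T₁, T₂] = 1. Then there is a normal subsystem of F over T₁T₂ which, if moreover T₁ ∩ T₂ lies in the centre of E₁ and in the centre of E₂, is a central product of E₁ and E₂ (the factor system of a direct product of E₁ and E₂ modulo a subgroup of its centre meeting both factors trivially). -/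
theorem result {Ω : Type*} [Group Ω] {S : Subgroup Ω} [Finite S] (p : ℕ) [Fact p.Prime] (hS : IsPGroup p S) (F : Cfsg.FusionSystem S) (hF : F.IsSaturated p) {T₁ T₂ : Subgroup Ω} (E₁ : Cfsg.FusionSystem T₁) (E₂ : Cfsg.FusionSystem T₂) (hE₁ : E₁.IsNormalIn F p) (hE₂ : E₂.IsNormalIn F p) (hc : ⁅T₁, T₂⁆ = ⊥) : ∃ D : Cfsg.FusionSystem (T₁ ⊔ T₂), D.IsNormalIn F p ∧ (T₁ ⊓ T₂ ≤ E₁.center → T₁ ⊓ T₂ ≤ E₂.center → Cfsg.FusionSystem.IsCentralProductOf E₁ E₂ D) := by
  have c1 := hE₁.1.2.2.2.1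
  have c2 := hE₂.1.2.2.2.1
  have hcomm : ∀ x ∈ T₁, ∀ y ∈ T₂, x * y = y * x := fun x hx y hy =>
    (Subgroup.mem_centralizer_iff.1 (Subgroup.commutator_eq_bot_iff_le_centralizer.1 hc hx) y hy).symm
  have cR := Agent.FusionInner.stronglyClosed_inf c1 c2
  obtain ⟨E₁', hn₁, hz₁, -, he₁⟩ := Agent.FusionLayer.exists_fixed_subsystem hS hE₁ inf_le_left
    (fun t ht r hr => hcomm t ht r (Subgroup.mem_inf.1 hr).2) cR
  obtain ⟨E₂', hn₂, hz₂, -, he₂⟩ := Agent.FusionLayer.exists_fixed_subsystem hS hE₂ inf_le_right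
    (fun t ht r hr => (hcomm r (Subgroup.mem_inf.1 hr).1 t ht).symm) cR
  obtain ⟨D, hD, hcp, -⟩ :=
    Agent.FusionLayer.exists_normal_product hS ⟨hF, hn₁, hn₂, hcomm, hz₁, hz₂⟩
  refine ⟨D, hD, fun h1 h2 => ?_⟩
  rwa [he₁ h1, he₂ h2] at hcp

end Cfsg.Agent.S5138
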