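import Cfsg.Statements.S5143
import Cfsg.Agent.EqLemmas
import Cfsg.Agent.Lib.FusionProdR.Unique

set_option autoImplicit false
open Cfsg

namespace Cfsg.Agent.S5143

/-- Let F be a saturated fusion system over a finite p-group S, E a normal subsystem over T, and R a subgroup with T ≤ R ≤ S. Then there is exactly one saturated subsystem D of F over R (exactly one family of map sets) whose p-residual subsystem is that of E: the hyperfocal subgroups of D and E coincide and the p-residual subsystems of D and of E have the same maps. -/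
theorem result {Ω : Type*} [Group Ω] {S : Subgroup Ω} [Finite S] (p : ℕ) [Fact p.Prime] (hS : IsPGroup p S) (F : Cfsg.FusionSystem S) (hF : F.IsSaturated p) {T : Subgroup Ω} (E : Cfsg.FusionSystem T) (hE : E.IsNormalIn F p) (R : Subgroup Ω) (hTR : T ≤ R) (hRS : R ≤ S) : ∃ D : Cfsg.FusionSystem R, (D.IsSaturated p ∧ D.IsSubsystemOf F ∧ D.hyperfocalSubgroup p = E.hyperfocalSubgroup p ∧ ∀ (D₁ : Cfsg.FusionSystem (D.hyperfocalSubgroup p)) (E₁ : Cfsg.FusionSystem (E.hyperfocalSubgroup p)), D.IsPResidual p D₁ → E.IsPResidual p E₁ → ∀ P : Subgroup Ω, D₁.Hom P = E₁.Hom P) ∧ ∀ D' : Cfsg.FusionSystem R, D'.IsSaturated p → D'.IsSubsystemOf F → D'.hyperfocalSubgroup p = E.hyperfocalSubgroup p → (∀ (D₁ : Cfsg.FusionSystem (D'.hyperfocalSubgroup p)) (E₁ : Cfsg.FusionSystem (E.hyperfocalSubgroup p)), D'.IsPResidual p D₁ → E.IsPResidual p E₁ → ∀ P : Subgroup Ω, D₁.Hom P = E₁.Hom P) → ∀ P : Subgroup Ω, D'.Hom P = D.Hom P := by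
  classical
  have h : Agent.FusionProdR.PSys F p E := ⟨hS, hF, hE⟩
  have hTS : T ≤ S := h.T_le
  have := Agent.Fusion.finite_of_le hTS
  have := Agent.Fusion.finite_of_le hRS
  set H := E.hyperfocalSubgroup p with hH
  have hHT : H ≤ T := Agent.FusionChain.hyperfocalSubgroup_le p
  have hHS : H ≤ S := hHT.trans hTS
  have := Agent.Fusion.finite_of_le hHS
  obtain ⟨hsat, hsub, hhyp, hind⟩ := h.prod_props hTR hRS
  obtain ⟨E₁, hE₁s, hE₁i⟩ := Agent.FusionPIndex.exists_pPowerIndex h.pT h.esat hHT le_rfl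
  have h₁ : Agent.FusionProdR.PSys F p E₁ := ⟨hS, hF, h.residual_normal hH.symm hE₁s hE₁i⟩
  have hHp : IsPGroup p H := hS.to_le hHS
  set D := Agent.FusionProdR.prodSys F p E hRS 0
  refine ⟨D, ⟨hsat, hsub, hhyp, fun D₁ E₁' hD₁ hE₁' => ?_⟩, fun D' hs' hF' hh' hres => ?_⟩
  · have := Agent.Fusion.finite_of_le (P := D.hyperfocalSubgroup p) (hhyp.le.trans hHS)
    exact Agent.FusionProdR.hom_eq_of_residual hhyp (hS.to_le (hhyp.le.trans hHS)) hD₁.1 hD₁.2
      hE₁'.1 (hind E₁' hE₁'.2)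
  · obtain ⟨D₁, hD₁⟩ := Agent.FusionPIndex.exists_pPowerIndex (hS.to_le hRS) hs'
      (hh'.le.trans (hHT.trans hTR)) le_rfl
    have hi' : E₁.HasPPowerIndexIn D' p :=
      Agent.FusionProdR.pPowerIndex_congr hh' (hres D₁ E₁ hD₁ ⟨hE₁s, hE₁i⟩) hD₁.2
    exact fun P => Set.Subset.antisymm
      (h₁.sub_of_residual (hHT.trans hTR) hRS hs' hF' hi' hsat hsub (hind E₁ hE₁i) P)
      (h₁.sub_of_residual (hHT.trans hTR) hRS hsat hsub (hind E₁ hE₁i) hs' hF' hi' P)

end Cfsg.Agent.S5143
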