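import Cfsg.Statements.S5151
import Cfsg.Agent.EqLemmas
import Cfsg.Agent.Lib.FusionBalance.Claim
import Cfsg.Agent.Lib.Fusion.NormalSeries

set_option autoImplicit false
open Cfsg Cfsg.Agent.Fusion Cfsg.Agent.FusionLayer Cfsg.Agent.FusionBalance
open Cfsg.FusionSystem hiding inv_mem

namespace Cfsg.Agent.S5151

/-- E-balance for fusion systems: let F be a saturated fusion system over a finite p-group S, X a fully normalized subgroup and N the normalizer system of X. Then the layer of N is a subsystem of the layer of F. -/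
theorem result {Ω : Type*} [Group Ω] {S : Subgroup Ω} [Finite S] (p : ℕ) [Fact p.Prime] (hS : IsPGroup p S) (F : Cfsg.FusionSystem S) (hF : F.IsSaturated p) (X : Subgroup Ω) (hX : F.IsFullyNormalized X) (N : Cfsg.FusionSystem (Cfsg.FusionSystem.normalizerIn S X)) (hN : F.IsNormalizerSystem X N) {U : Subgroup Ω} (EN : Cfsg.FusionSystem U) (hEN : EN.IsLayerOf N p) {T : Subgroup Ω} (E : Cfsg.FusionSystem T) (hE : E.IsLayerOf F p) : EN.IsSubsystemOf E := by
  have hNfin := finite_of_le (S := S) (P := normalizerIn S X) inf_le_left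
  have hSN : IsPGroup p (normalizerIn S X) := hS.to_le inf_le_left
  have hNs := isSaturated_normalizer hS hF hX hN
  have hXN := Fusion.normal_in_normalizer hX.1 hN
  have hc := layer_centralizes_core hSN hNs hEN
  have hUX : U ≤ centralizerIn S X := fun t ht => mem_centralizerIn.2
    ⟨(hEN.1.1.2.2.2.1.1 ht).1,
      fun x hx => ((mem_centralizerIn.1 (hc.1 (Fusion.normal_le_core hXN hx))).2 t ht).symm⟩
  have h : FusionProdR.PSys F p E := ⟨hS, hF, hE.1⟩
  obtain ⟨M, hM, hMsub⟩ := exists_normalizer_normal h hX hN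
  have hcomp : ∀ (V : Subgroup Ω) (C : Cfsg.FusionSystem V), C.IsComponentIn N p →
      C.IsSubsystemOf M := fun V C hC => by
    have hVX : V ≤ centralizerIn S X :=
      (le_base_of_sub (hEN.2.1 V C hC)).trans hUX
    obtain ⟨K, hKs, hK, hCK⟩ := component_centralizer hS hF hX hN hC hVX
    exact component_sub_of_le hSN hC hM (le_inf
      ((le_base_of_sub (component_cent_sub hS hF hE hX hKs hK hCK)).trans le_sup_left)
      (hVX.trans ((centralizerIn_le_normalizerIn S X).trans inf_le_right)))
  exact (sub_of_prod h le_sup_left (prod_le h hX) hEN.1.1.1 (layer_perfect hSN hEN)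
    fun P φ hφ => hMsub P (hEN.2.2 _ M hM hcomp P hφ)).2

end Cfsg.Agent.S5151
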