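import Cfsg.Statements.S5152
import Cfsg.Agent.EqLemmas
import Cfsg.Agent.Lib.FusionProduct.LocalConstrained
import Cfsg.Agent.Lib.PGroup.Basic

set_option autoImplicit false
open Cfsg

namespace Cfsg.Agent.S5152

open Cfsg.FusionSystem Cfsg.Agent.Fusion Cfsg.Agent.FusionProduct

/-- Dichotomy for saturated fusion systems: a saturated fusion system over a finite p-group is of characteristic p-type (the normalizer system of every nontrivial fully normalized subgroup is constrained) or of component type (the centralizer system of some fully normalized subgroup of order p has a component). -/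
theorem result {Ω : Type*} [Group Ω] {S : Subgroup Ω} [Finite S] (p : ℕ) [Fact p.Prime] (hS : IsPGroup p S) (F : Cfsg.FusionSystem S) (hF : F.IsSaturated p) : F.IsOfCharacteristicPType p ∨ F.IsOfComponentType p := by
  refine or_iff_not_imp_right.2 fun hnot => fun U hne hU N hN => ?_
  -- an element of order `p` of `U` central in `N_S(U)`
  have hNle : normalizerIn S U ≤ S := inf_le_left
  haveI := finite_of_le hNle
  have hUN : U ≤ normalizerIn S U := le_normalizerIn hU.1
  haveI : (U.subgroupOf (normalizerIn S U)).Normal :=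
    ⟨fun n hn g => normalizerIn_conj (P := U) g.2 (show (n : Ω) ∈ U from hn)⟩
  obtain ⟨z, hzU, hzc, hzo⟩ := PGroup.exists_central_order_p (hS.to_le hNle)
    (N := U.subgroupOf (normalizerIn S U)) fun h => hne (le_bot_iff.1 fun x hx => by
      have h1 : (⟨x, hUN hx⟩ : normalizerIn S U) ∈ U.subgroupOf (normalizerIn S U) := hx
      rw [h, Subgroup.mem_bot] at h1
      exact congrArg Subtype.val h1)
  set Z := Subgroup.zpowers (z : Ω) with hZdef
  have hZU : Z ≤ U := Subgroup.zpowers_le.2 hzU
  have hZS : Z ≤ S := hZU.trans hU.1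
  have hZcard : Nat.card Z = p := by rw [hZdef, Nat.card_zpowers, Subgroup.orderOf_coe, hzo]
  have hNC : ∀ g ∈ normalizerIn S U, ∀ x ∈ Z, g * x = x * g := by
    intro g hg x hx
    obtain ⟨n, rfl⟩ := Subgroup.mem_zpowers_iff.1 hx
    have h1 : Commute (g : Ω) (z : Ω) :=
      congrArg Subtype.val (Subgroup.mem_center_iff.1 hzc ⟨g, hg⟩)
    exact h1.zpow_right n
  have hNZ : normalizerIn S U ≤ normalizerIn S Z := fun g hg =>
    centralizerIn_le_normalizerIn S Z (mem_centralizerIn.2 ⟨hg.1, hNC g hg⟩)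
  obtain ⟨X, φ, hX, hφ, hφZ, -⟩ := exists_fullyNormalized_map hS hF hZS
  have hXcard : Nat.card X = p := by
    rw [← hφZ, hφ.card_img (le_normalizerIn hZS), hZcard]
  set U' := img φ U with hU'def
  have hUφ : U ≤ normalizerIn S Z := hUN.trans hNZ
  have hU'S : U' ≤ S := hφ.img_le hUφ fun x hx => hφ.mem (hUφ hx)
  have hφN : ∀ g ∈ normalizerIn S U, φ g ∈ normalizerIn S U' := fun g hg =>
    map_normalizerIn hφ hUφ rfl (hNZ hg) hg
  have hXU' : X ≤ U' := hφZ ▸ Subgroup.closure_mono (Set.image_mono hZU)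
  have hconj : F.IsConj U U' := isConj_iff.2 ⟨φ, hφ.mono hUφ, rfl⟩
  have hU'n : F.IsFullyNormalized U' := by
    refine ⟨hU'S, fun R hR => (hU.2 R (isConj_trans hconj hR)).trans ?_⟩
    rw [← hφ.card_img hNZ]
    haveI := finite_of_le (S := S) (P := normalizerIn S U') inf_le_left
    exact Subgroup.card_le_of_le (hφ.img_le hNZ hφN)
  have hN' : normalizerIn S U' ≤ centralizerIn S X := by
    have himg : img φ (normalizerIn S U) = normalizerIn S U' := by
      refine eq_of_le_of_card inf_le_left (hφ.img_le hNZ hφN) ?_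
      rw [hφ.card_img hNZ]
      exact hU.2 _ hconj
    intro y hy
    obtain ⟨g, hg, rfl⟩ := (hφ.mem_img_iff hNZ).1 (himg.symm ▸ hy)
    refine mem_centralizerIn.2 ⟨hφ.mem (hNZ hg), fun x hx => ?_⟩
    obtain ⟨w, hw, rfl⟩ := (hφ.mem_img_iff (le_normalizerIn hZS)).1 (hφZ.symm ▸ hx)
    rw [← hφ.map_mul (hNZ hg) (le_normalizerIn hZS hw), hNC g hg w hw,
      hφ.map_mul (le_normalizerIn hZS hw) (hNZ hg)]
  -- the centralizer system of `X` is constrained
  have hXc := fullyCentralized_of_fullyNormalized hS hF hX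
  obtain ⟨D, hD⟩ := exists_system_congr (NK_bot S X) (kSys F X ⊥ hX.1)
    (H := fun P => F.centralizerHom X P) (kSys_bot_hom hX.1)
  have hDs : D.IsSaturated p := isSaturated_congr (NK_bot S X)
    (fun P => (kSys_bot_hom hX.1 P).trans (hD P).symm)
    (isSaturated_kSys hS hF (isFullyK_bot_iff.2 hXc))
  have hDle : centralizerIn S X ≤ S := inf_le_left
  haveI := finite_of_le hDle
  have hDc : D.IsConstrained p := by
    by_contra hc
    exact hnot ⟨X, hXcard, hX, D, hD, exists_component (hS.to_le hDle) hDs hc⟩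
  -- the centralizer system of `U'`
  have hU'c := fullyCentralized_of_fullyNormalized hS hF hU'n
  have hC'N : centralizerIn S U' ≤ centralizerIn S X :=
    (centralizerIn_le_normalizerIn S U').trans hN'
  have hU'X : U' ≤ centralizerIn S X := (le_normalizerIn hU'S).trans hN'
  have heq : centralizerIn (centralizerIn S X) U' = centralizerIn S U' :=
    le_antisymm (inf_le_inf_right _ inf_le_left) (le_inf hC'N inf_le_right)
  have hDsub : D.IsSubsystemOf F := FusionNormalCent.centralizer_le hD
  have hU'Dc : D.IsFullyCentralized U' := by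
    refine ⟨hU'X, fun R hR => ?_⟩
    rw [heq]
    obtain ⟨f, hf⟩ := isConj_iff.1 hR
    refine le_trans ?_ (hU'c.2 R (isConj_iff.2 ⟨f, FusionNormal.isIso_of_sub hDsub hf⟩))
    haveI := finite_of_le (S := S) (P := centralizerIn S R) inf_le_left
    exact Subgroup.card_le_of_le (inf_le_inf_right _ inf_le_left)
  obtain ⟨L₀, hL₀⟩ := exists_system_congr (NK_bot (centralizerIn S X) U') (kSys D U' ⊥ hU'X)
    (H := fun P => D.centralizerHom U' P) (kSys_bot_hom hU'X)
  have hL₀c := isConstrained_centralizer (hS.to_le hDle) hDc hU'Dc hL₀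
  obtain ⟨L', hL'⟩ := exists_system_congr (NK_bot S U') (kSys F U' ⊥ hU'S)
    (H := fun P => F.centralizerHom U' P) (kSys_bot_hom hU'S)
  have hL'c : L'.IsConstrained p := by
    have key : ∀ (T : Subgroup Ω) (E : FusionSystem T), T = centralizerIn S U' →
        (∀ P f, IsMap E P f ↔ IsMap L' P f) → E.IsConstrained p → L'.IsConstrained p := by
      rintro T E rfl h hE
      rwa [ext_of_le (le_of_isMap fun P f hf => (h P f).2 hf)
        (le_of_isMap fun P f hf => (h P f).1 hf)]
    refine key _ L₀ heq (fun P f => ?_) hL₀c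
    rw [FusionNormalCent.isMap_centralizer hU'X hL₀, FusionNormalCent.isMap_centralizer hU'S hL',
      heq]
    refine and_congr_right fun hP => and_congr_right fun hf => ⟨?_, ?_⟩
    · rintro ⟨g, hg, h1, h2⟩
      exact ⟨g, FusionNormal.isMap_of_sub hDsub hg, h1, h2⟩
    · rintro ⟨g, hg, h1, h2⟩
      have hle : P ⊔ U' ≤ centralizerIn S X := sup_le (hP.trans hC'N) hU'X
      refine ⟨g, (FusionNormalCent.isMap_centralizer hX.1 hD).2 ⟨hle, fun x hx =>
        hg.forall_mem_sup le_sup_left le_sup_right (fun w hw => hC'N (h1 w hw ▸ hf w hw))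
          (fun w hw => hU'X ((h2 w hw).symm ▸ hw)) hx, g,
          hg.mono (sup_le le_rfl (hXU'.trans le_sup_right)), fun _ _ => rfl,
          fun x hx => h2 x (hXU' hx)⟩, h1, h2⟩
  -- back to `U`
  obtain ⟨L, hL⟩ := exists_system_congr (NK_bot S U) (kSys F U ⊥ hU.1)
    (H := fun P => F.centralizerHom U P) (kSys_bot_hom hU.1)
  refine isConstrained_normalizer_of_centralizer hS hF hU hN hL ?_
  have hCU : centralizerIn S U ≤ normalizerIn S U := centralizerIn_le_normalizerIn S U
  have hM : centralizerIn S U ⊔ U ≤ normalizerIn S Z := (sup_le hCU hUN).trans hNZ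
  have hCimg : img φ (centralizerIn S U) = centralizerIn S U' := by
    refine eq_of_le_of_card inf_le_left (hφ.img_le (hCU.trans hNZ) fun g hg =>
      map_centralizerIn hφ hUφ rfl (hNZ (hCU hg)) hg) ?_
    rw [hφ.card_img (hCU.trans hNZ)]
    exact (fullyCentralized_of_fullyNormalized hS hF hU).2 _ hconj
  refine isConstrained_centralizer_conj hU.1 ⟨hφ.mono hM, IsIso.img_eq_of hφ hM
    (fun x hx => (hφ.mono hM).forall_mem_sup le_sup_left le_sup_right
      (fun w hw => Subgroup.mem_sup_left (hCimg ▸ hφ.mem_img hw))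
      (fun w hw => Subgroup.mem_sup_right (hφ.mem_img hw)) hx) fun y hy => ?_⟩ rfl hCimg hL hL' hL'c
  refine (hφ.mem_img_iff hM).1 ?_
  refine (?_ : centralizerIn S U' ⊔ U' ≤ img φ (centralizerIn S U ⊔ U)) hy
  refine sup_le ?_ (Subgroup.closure_mono (Set.image_mono fun x hx => Subgroup.mem_sup_right hx))
  rw [← hCimg]
  exact Subgroup.closure_mono (Set.image_mono fun x hx => Subgroup.mem_sup_left hx)

end Cfsg.Agent.S5152
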