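import Cfsg.Statements.S5153
import Cfsg.Agent.Lib.Fusion.Saturation

set_option autoImplicit false
open Cfsg

namespace Cfsg.Agent.S5153

open Cfsg.FusionSystem Cfsg.Agent.Fusion

variable {Ω : Type*} [Group Ω] {S U : Subgroup Ω} {p : ℕ}

theorem le_of_subnormal {T : Subgroup Ω} {E : Cfsg.FusionSystem T} {F : Cfsg.FusionSystem S}
    (h : E.IsSubnormalIn F p) : T ≤ S := by
  induction h with
  | refl => exact le_rfl
  | step _ hD ih => exact ih.trans hD.1.2.2.2.1.1

theorem normalized_of_closed [Finite S] [Fact p.Prime] (hS : IsPGroup p S)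
    {F : Cfsg.FusionSystem S} (hF : F.IsSaturated p) {D : Cfsg.FusionSystem U}
    (hD : D.IsSubsystemOf F) (hU : F.StronglyClosed U) {P : Subgroup Ω} (hP : F.IsFullyNormalized P)
    (hPU : P ≤ U) : D.IsFullyNormalized P := by
  refine ⟨hPU, fun Q hQ => ?_⟩
  obtain ⟨φ, hφ, hr⟩ := hQ
  have hc : F.IsConj Q P := isConj_symm ⟨φ, hD P hφ, hr⟩
  obtain ⟨f, hf, -, hN⟩ := exists_normalizer_map hS (fullyAutomized_of_fullyNormalized hS hF hP)
    (receptive_of_fullyNormalized hS hF hP) hc
  have hle : normalizerIn U Q ≤ normalizerIn S Q := inf_le_inf_right _ hU.1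
  obtain ⟨ψ, hψ, e⟩ := hf.mono hle
  rw [← hf.card_img hle]
  have := finite_of_le (S := S) (P := normalizerIn U P) (inf_le_left.trans hU.1)
  refine Subgroup.card_le_of_le (hf.img_le hle fun g hg => ⟨?_, (hN g (hle hg)).2⟩)
  rw [← e g hg]
  exact hU.2 _ inf_le_left ψ hψ ⟨g, hg⟩


theorem aux {T : Subgroup Ω} {E : Cfsg.FusionSystem T} {F : Cfsg.FusionSystem S}
    (h : E.IsSubnormalIn F p) : Finite S → Fact p.Prime → IsPGroup p S → F.IsSaturated p →
    ∀ {P : Subgroup Ω}, F.IsFullyNormalized P → P ≤ T → E.IsFullyNormalized P := by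
  induction h with
  | refl => intro _ _ _ _ P hP _; exact hP
  | step hED hD ih =>
    intro hfin hfact hS hF P hP hPT
    have hUS := hD.1.2.2.2.1.1
    exact ih (finite_of_le hUS) hfact (hS.to_le hUS) hD.1.1
      (normalized_of_closed hS hF hD.1.2.2.1 hD.1.2.2.2.1 hP (hPT.trans (le_of_subnormal hED))) hPT

/-- Let F be a saturated fusion system over a finite p-group S and E a subnormal subsystem of F over T. Then every subgroup of T that is fully normalized in F is fully normalized in E. -/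
theorem result {Ω : Type*} [Group Ω] {S : Subgroup Ω} [Finite S] (p : ℕ) [Fact p.Prime] (hS : IsPGroup p S) (F : Cfsg.FusionSystem S) (hF : F.IsSaturated p) {T : Subgroup Ω} (E : Cfsg.FusionSystem T) (hE : E.IsSubnormalIn F p) (P : Subgroup Ω) (hPT : P ≤ T) (hP : F.IsFullyNormalized P) : E.IsFullyNormalized P := by
  exact aux hE ‹_› ‹_› hS hF hP hPT

end Cfsg.Agent.S5153
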