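import Cfsg.Statements.S5160
import Cfsg.Agent.Lib.FusionNormal.Basic
import Cfsg.Agent.Lib.Fusion.Group

set_option autoImplicit false
open Cfsg

namespace Cfsg.Agent.S5160

open Cfsg.FusionSystem Cfsg.Agent.Fusion Cfsg.Agent.FusionNormal

variable {G : Type*} [Group G] {p : ℕ} {S R : Subgroup G}

/-- The automorphism of `R` induced by an element of the subgroup generated by the `p`-elements of `N_G(R)` lies in
the subgroup generated by the `p`-elements of `Aut_F(R)`. -/
theorem aut_mem_closure (hR : R ≤ S) {g : G}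
    (hg : g ∈ Subgroup.closure {g : G | g ∈ Subgroup.normalizer (R : Set G) ∧ ∃ k : ℕ, orderOf g = p ^ k}) :
    ∃ hgN : g ∈ normalizerIn ⊤ R, normConj ⊤ R ⟨g, hgN⟩ ∈ Subgroup.closure {γ : MulAut R |
      γ ∈ (Cfsg.groupFusionSystem S).autGroup R ∧ ∃ k, γ ^ p ^ k = 1} := by
  induction hg using Subgroup.closure_induction with
  | mem x hx =>
    have hxN : x ∈ normalizerIn ⊤ R := ⟨trivial, hx.1⟩
    obtain ⟨k, hk⟩ := hx.2
    refine ⟨hxN, Subgroup.subset_closure ⟨?_, k, ?_⟩⟩
    · rw [autGroup_group hR, ← range_normConj]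
      exact ⟨_, rfl⟩
    · rw [← map_pow]
      convert map_one (normConj ⊤ R)
      exact Subtype.ext (by rw [SubgroupClass.coe_pow, ← hk, pow_orderOf_eq_one]; rfl)
  | one => exact ⟨one_mem _, by
      rw [show (⟨1, one_mem _⟩ : normalizerIn ⊤ R) = 1 from rfl, map_one]; exact one_mem _⟩
  | mul a b _ _ ha hb =>
    obtain ⟨ha', ha⟩ := ha
    obtain ⟨hb', hb⟩ := hb
    refine ⟨mul_mem ha' hb', ?_⟩
    rw [show (⟨a * b, mul_mem ha' hb'⟩ : normalizerIn ⊤ R) = ⟨a, ha'⟩ * ⟨b, hb'⟩ from rfl, map_mul]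
    exact mul_mem ha hb
  | inv a _ ha =>
    obtain ⟨ha', ha⟩ := ha
    refine ⟨inv_mem ha', ?_⟩
    rw [show (⟨a⁻¹, inv_mem ha'⟩ : normalizerIn ⊤ R) = ⟨a, ha'⟩⁻¹ from rfl, map_inv]
    exact inv_mem ha

/-- Let G be a finite group with nontrivial Sylow p-subgroup S and F its fusion system on S. Suppose (a) no nontrivial proper subgroup of S is strongly closed in F, and (b) the automorphisms of S induced by G are generated by those induced, for R running over the fully normalized radical centric subgroups of F, by the subgroup of N_G(R) generated by its elements of p-power order. Then F is simple. -/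
theorem result {G : Type*} [Group G] [Finite G] (p : ℕ) [Fact p.Prime] (S : Sylow p G) (hS1 : (S : Subgroup G) ≠ ⊥) (ha : ∀ T : Subgroup G, (Cfsg.groupFusionSystem (S : Subgroup G)).StronglyClosed T → T = ⊥ ∨ T = (S : Subgroup G)) (hb : Cfsg.autInducedBy ⊤ (S : Subgroup G) = ⨆ (R : Subgroup G) (_ : (Cfsg.groupFusionSystem (S : Subgroup G)).IsFullyNormalized R ∧ (Cfsg.groupFusionSystem (S : Subgroup G)).IsRadical p R ∧ (Cfsg.groupFusionSystem (S : Subgroup G)).IsCentric R), Cfsg.autInducedBy (Subgroup.closure {g : G | g ∈ Subgroup.normalizer (R : Set G) ∧ ∃ k : ℕ, orderOf g = p ^ k}) (S : Subgroup G)) : (Cfsg.groupFusionSystem (S : Subgroup G)).IsSimple p := by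
  refine isSimple_of_top_generated S.isPGroup' (isSaturated_group S) hS1 ha ?_
  rw [autGroup_group le_rfl]
  refine hb.le.trans (iSup₂_le fun R hR => ?_)
  intro β hβ
  obtain ⟨g, hg, hβg⟩ := mem_autInducedBy_iff.1 hβ
  refine Subgroup.subset_closure ⟨mem_autInducedBy_iff.2 ⟨g, trivial, hβg⟩, Or.inr ⟨R, hR.2.2, ?_⟩⟩
  obtain ⟨hgN, hγ⟩ := aut_mem_closure hR.2.2.1 hg
  refine ⟨_, hγ, fun x => ?_⟩
  rw [autFn_apply β (hR.2.2.1 x.2)]
  rw [normConj_apply]
  exact (hβg ⟨(x : G), hR.2.2.1 x.2⟩).symm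

end Cfsg.Agent.S5160
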