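import Cfsg.Statements.S5163
import Cfsg.Agent.Lib.SLFusion.Basic
import Cfsg.Agent.S5160
import Cfsg.Agent.Lib.Linear.SpFusion

set_option autoImplicit false
open Cfsg

namespace Cfsg.Agent.S5163

open Cfsg.FusionSystem Cfsg.Agent.SLFusion Cfsg.Agent.Fusion Cfsg.Agent.FusionNormal

/-- For a finite field K of characteristic p and n ≥ 3, the p-fusion system of the projective special linear group PSL_n(K) on a Sylow p-subgroup is simple. -/
theorem result {K : Type*} [Field K] [Fintype K] (p : ℕ) [Fact p.Prime] [CharP K p] (n : ℕ) (hn : 3 ≤ n) (S : Sylow p (Matrix.ProjectiveSpecialLinearGroup (Fin n) K)) : (Cfsg.groupFusionSystem (S : Subgroup (Matrix.ProjectiveSpecialLinearGroup (Fin n) K))).IsSimple p := by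
  let G := Matrix.ProjectiveSpecialLinearGroup (Fin n) K
  let π₀ : Matrix.SpecialLinearGroup (Fin n) K →* G := QuotientGroup.mk' _
  have hπ₀ : Function.Surjective π₀ := QuotientGroup.mk'_surjective _
  obtain ⟨g₀, hg₀⟩ := MulAction.exists_smul_eq G ((slSylow n K p).mapSurjective hπ₀) S
  let π : Matrix.SpecialLinearGroup (Fin n) K →* G := (MulAut.conj g₀).toMonoidHom.comp π₀
  have hπ : Function.Surjective π := (MulAut.conj g₀).surjective.comp hπ₀
  have hπU : (slU n K).map π = (S : Subgroup G) := by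
    rw [← hg₀, Sylow.coe_subgroup_smul, ← Subgroup.map_map]
    rfl
  have hker : ∀ z, π z = 1 ↔ z ∈ Subgroup.center (Matrix.SpecialLinearGroup (Fin n) K) := by
    intro z
    refine (map_eq_one_iff (MulAut.conj g₀).toMonoidHom (MulAut.conj g₀).injective).trans ?_
    exact QuotientGroup.eq_one_iff z
  have huniq : ∀ a b : Matrix.SpecialLinearGroup (Fin n) K, ∀ k : ℕ, a ^ p ^ k = 1 → b ^ p ^ k = 1 →
      π a = π b → a = b := by
    intro a b k ha hb hab
    have hz : a⁻¹ * b ∈ Subgroup.center _ := (hker _).1 (by rw [map_mul, map_inv, hab, inv_mul_cancel])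
    have hc : Commute a (a⁻¹ * b) := Subgroup.mem_center_iff.1 hz a
    have h1 : (a⁻¹ * b) ^ p ^ k = 1 := by
      have h2 : b ^ p ^ k = a ^ p ^ k * (a⁻¹ * b) ^ p ^ k := by
        rw [← hc.mul_pow, mul_inv_cancel_left]
      rw [hb, ha, one_mul] at h2
      exact h2.symm
    exact inv_mul_eq_one.1 (center_eq_one p hz h1)
  have hkU : ∀ u ∈ slU n K, u ^ p ^ n = 1 := fun u hu => slU_pow_eq_one p hu
  -- the lift of an element of `S`, and of conjugation
  have hconjlift : ∀ (x u v : Matrix.SpecialLinearGroup (Fin n) K), u ∈ slU n K →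
      v ∈ slU n K → π x * π u * (π x)⁻¹ = π v → x * u * x⁻¹ = v := by
    intro x u v hu hv h
    refine huniq _ _ n ?_ (hkU v hv) (by rw [map_mul, map_mul, map_inv, h])
    rw [conj_pow, hkU u hu, mul_one, mul_inv_cancel]
  have hU1 : slU n K ≠ ⊥ := by
    intro hb
    have hne : (⟨0, by omega⟩ : Fin n) ≠ ⟨1, by omega⟩ := by simp [Fin.ext_iff]
    have h := Subgroup.mem_bot.1 (hb ▸ transvection_mem_slU (K := K) hne (by simp [Fin.lt_def]) 1)
    have h' : Matrix.transvection (⟨0, by omega⟩ : Fin n) ⟨1, by omega⟩ (1 : K) ⟨0, by omega⟩ ⟨1, by omega⟩ =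
        (1 : Matrix (Fin n) (Fin n) K) ⟨0, by omega⟩ ⟨1, by omega⟩ :=
      congrFun (congrFun (congrArg Subtype.val h) _) _
    simp [Matrix.transvection, hne] at h'
  have hS1 : (S : Subgroup G) ≠ ⊥ := by
    intro hb
    refine hU1 ((Subgroup.eq_bot_iff_forall _).2 fun u hu => huniq u 1 n (hkU u hu) (one_pow _) ?_)
    rw [map_one, ← Subgroup.mem_bot, ← hb, ← hπU]
    exact ⟨u, hu, rfl⟩
  refine isSimple_of_top_generated S.isPGroup' (isSaturated_group S) hS1 ?_ ?_
  · -- strongly closed subgroups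
    intro T hT
    set T' := T.comap π ⊓ slU n K with hT'
    have hmap : ∀ x ∈ T, ∀ g : G, g * x * g⁻¹ ∈ (S : Subgroup G) → g * x * g⁻¹ ∈ T := by
      intro x hx g hg
      have hle : Subgroup.zpowers x ≤ T := Subgroup.zpowers_le.2 hx
      have hcS : (S : Subgroup G).comap (MulAut.conj g).toMonoidHom ≥ Subgroup.zpowers x :=
        Subgroup.zpowers_le.2 hg
      obtain ⟨φ, hφ, e⟩ := isMap_group_iff.2 ⟨hle.trans hT.1, g, fun y hy => ⟨hcS hy, rfl⟩⟩
      have := hT.2 _ hle φ hφ ⟨x, Subgroup.mem_zpowers x⟩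
      rwa [e x (Subgroup.mem_zpowers x)] at this
    by_cases hb : T' = ⊥
    · left
      refine (Subgroup.eq_bot_iff_forall _).2 fun x hx => ?_
      obtain ⟨u, hu, rfl⟩ : x ∈ (slU n K).map π := hπU.symm ▸ hT.1 hx
      have : u ∈ T' := ⟨hx, hu⟩
      rw [hb, Subgroup.mem_bot] at this
      rw [this, map_one]
    · right
      have hTU := eq_slU_of_closed p hn inf_le_right hb
        fun x hx g hg => ⟨by
          have hx' : π x ∈ T := hx.1
          have h := hmap (π x) hx' (π g) (hπU ▸ ⟨_, hg, by rw [map_mul, map_mul, map_inv]⟩)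
          rw [← map_inv, ← map_mul, ← map_mul] at h
          exact h, hg⟩
      refine le_antisymm hT.1 fun y hy => ?_
      rw [← hπU] at hy
      obtain ⟨u, hu, rfl⟩ := hy
      rw [← hTU] at hu
      exact hu.1
  · -- generation of the automorphisms of `S`
    rw [autGroup_group le_rfl]
    set B := {β : MulAut (S : Subgroup G) | β ∈ autInducedBy ⊤ (S : Subgroup G) ∧
      ((∃ k, β ^ p ^ k = 1) ∨ ∃ Q, (Cfsg.groupFusionSystem (S : Subgroup G)).IsCentric Q ∧
        ∃ γ ∈ Subgroup.closure {γ : MulAut Q |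
          γ ∈ (Cfsg.groupFusionSystem (S : Subgroup G)).autGroup Q ∧ ∃ k, γ ^ p ^ k = 1},
        ∀ x : Q, ((γ x : Q) : G) = autFn β x)} with hB
    suffices hsuff : ∀ g : normalizerIn ⊤ (S : Subgroup G),
        normConj ⊤ (S : Subgroup G) g ∈ Subgroup.closure B by
      intro β hβ
      rw [← range_normConj] at hβ
      obtain ⟨g, rfl⟩ := hβ
      exact hsuff g
    let N := normalizerIn ⊤ (S : Subgroup G)
    let H : Subgroup (Matrix.SpecialLinearGroup (Fin n) K) :=
      (((Subgroup.closure B).comap (normConj ⊤ (S : Subgroup G))).map N.subtype).comap π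
    have hborel : ∀ h ∈ slB n K, π h ∈ N := fun h hh => ⟨trivial, by
      refine Subgroup.mem_normalizer_iff.2 fun y => ⟨fun hy => ?_, fun hy => ?_⟩
      · rw [← hπU] at hy ⊢
        obtain ⟨u, hu, rfl⟩ := hy
        exact ⟨h * u * h⁻¹, slU_conj hh hu, by rw [map_mul, map_mul, map_inv]⟩
      · rw [← hπU] at hy ⊢
        obtain ⟨u, hu, hu'⟩ := hy
        refine ⟨h⁻¹ * u * h, by simpa using slU_conj (inv_mem hh) hu, ?_⟩
        rw [map_mul, map_mul, map_inv, hu']
        group⟩
    have hin : ∀ (h : Matrix.SpecialLinearGroup (Fin n) K) (hh : π h ∈ N),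
        normConj ⊤ (S : Subgroup G) ⟨π h, hh⟩ ∈ Subgroup.closure B → h ∈ H :=
      fun h hh hc => ⟨⟨π h, hh⟩, hc, rfl⟩
    have hU : ∀ u ∈ slU n K, u ∈ H := by
      intro u hu
      have hN := hborel u (slU_le_slB hu)
      refine hin u hN (Subgroup.subset_closure ⟨?_, .inl ⟨n, ?_⟩⟩)
      · rw [← range_normConj]; exact ⟨_, rfl⟩
      · rw [← map_pow]
        convert map_one (normConj ⊤ (S : Subgroup G))
        exact Subtype.ext (by rw [SubgroupClass.coe_pow, ← map_pow, hkU u hu, map_one]; rfl)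
    have htor : ∀ (k k' : Fin n) (hne : k ≠ k'), k'.1 = k.1 + 1 → ∀ (a : K) (ha : a ≠ 0),
        Matrix.SpecialLinearGroup.diag2n hne a ha ∈ H := by
      intro k k' hne h a ha
      set R := slR (K := K) k k' h
      have hRU : R ≤ slU n K := fun g hg => hg.1
      have hRS : R.map π ≤ (S : Subgroup G) := hπU ▸ Subgroup.map_mono hRU
      have htc : π (Matrix.SpecialLinearGroup.diag2n hne a ha) ∈ Subgroup.closure
          {g : G | g ∈ Subgroup.normalizer ((R.map π : Subgroup G) : Set G) ∧ ∃ k : ℕ, orderOf g = p ^ k} := by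
        have hx : ∀ (i j : Fin n) (hij : i ≠ j) (t : K),
            ((i = k ∧ j = k') ∨ (i = k' ∧ j = k)) →
            π (Matrix.SpecialLinearGroup.transvection hij t) ∈ Subgroup.closure
              {g : G | g ∈ Subgroup.normalizer ((R.map π : Subgroup G) : Set G) ∧ ∃ k : ℕ, orderOf g = p ^ k} := by
          intro i j hij t hk
          refine Subgroup.subset_closure ⟨Subgroup.le_normalizer_map π ⟨_, ?_, rfl⟩, ?_⟩
          · refine Subgroup.mem_normalizer_iff.2 fun r => ⟨transvection_conj_slR h hij hk t, fun hr => ?_⟩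
            have := transvection_conj_slR h hij hk (-t) hr
            rw [← Matrix.SpecialLinearGroup.transvection_inv] at this
            simpa [mul_assoc] using this
          · have hpow : (Matrix.SpecialLinearGroup.transvection hij t) ^ p = 1 :=
              Cfsg.Agent.Linear.pow_char_eq_one_of_add p
                (fun c => Matrix.SpecialLinearGroup.transvection hij c)
                (fun c d => Matrix.SpecialLinearGroup.transvection_add hij c d) t
            have hdvd : orderOf (π (Matrix.SpecialLinearGroup.transvection hij t)) ∣ p ^ 1 := by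
              rw [pow_one]
              exact orderOf_dvd_of_pow_eq_one (by rw [← map_pow, hpow, map_one])
            obtain ⟨m, -, hm⟩ := (Nat.dvd_prime_pow Fact.out).1 hdvd
            exact ⟨m, hm⟩
        rw [Cfsg.Agent.Linear.diag2n_eq hne ha, map_mul, map_mul, map_mul, map_mul, map_mul]
        exact mul_mem (mul_mem (mul_mem (mul_mem (mul_mem (hx _ _ hne _ (.inl ⟨rfl, rfl⟩))
          (hx _ _ hne.symm _ (.inr ⟨rfl, rfl⟩))) (hx _ _ hne _ (.inl ⟨rfl, rfl⟩)))
          (hx _ _ hne _ (.inl ⟨rfl, rfl⟩))) (hx _ _ hne.symm _ (.inr ⟨rfl, rfl⟩)))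
          (hx _ _ hne _ (.inl ⟨rfl, rfl⟩))
      obtain ⟨hgN, hγ⟩ := Cfsg.Agent.S5160.aut_mem_closure (S := (S : Subgroup G)) hRS htc
      refine hin _ (hborel _ (diag2n_mem_slB hne a ha))
        (Subgroup.subset_closure ⟨?_, .inr ⟨R.map π, ?_, _, hγ, ?_⟩⟩)
      · rw [← range_normConj]; exact ⟨_, rfl⟩
      · refine ⟨hRS, fun Q hQ y hy => ?_⟩
        obtain ⟨-, -, g, rfl⟩ := exists_conj_of_isConj hQ
        obtain ⟨hyS, hyc⟩ := mem_centralizerIn.1 hy
        obtain ⟨w, hw⟩ := hπ (g⁻¹ * y * g)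
        have hfix : ∀ r ∈ R, w * r = r * w := fun r hr => by
          refine mul_inv_eq_iff_eq_mul.1 (hconjlift w r r (hRU hr) (hRU hr) ?_)
          have := hyc _ ⟨π r, ⟨r, hr, rfl⟩, rfl⟩
          rw [MulEquiv.coe_toMonoidHom, MulAut.conj_apply] at this
          rw [hw]
          calc g⁻¹ * y * g * π r * (g⁻¹ * y * g)⁻¹
              = g⁻¹ * (y * (g * π r * g⁻¹) * y⁻¹) * g := by group
            _ = π r := by rw [mul_inv_eq_iff_eq_mul.2 this]; group
        obtain ⟨z, hz, hzw⟩ := centralizer_slR hn h hfix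
        refine ⟨π (z * w), ⟨_, hzw, rfl⟩, ?_⟩
        rw [MulEquiv.coe_toMonoidHom, MulAut.conj_apply, map_mul, (hker z).2 hz, one_mul, hw]
        group
      · intro x
        rw [autFn_apply _ (hRS x.2), normConj_apply, normConj_apply]
    intro g
    obtain ⟨w, hw⟩ := hπ g.1
    have hwB : w ∈ slB n K := by
      refine mem_slB_of_normalizes fun u hu => ?_
      have h1 : g.1⁻¹ * π u * g.1 ∈ (S : Subgroup G) :=
        (Subgroup.mem_normalizer_iff''.1 g.2.2 _).1 (hπU ▸ ⟨u, hu, rfl⟩)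
      obtain ⟨v, hv, hv'⟩ : g.1⁻¹ * π u * g.1 ∈ (slU n K).map π := hπU.symm ▸ h1
      have h2 := hconjlift w⁻¹ u v hu hv (by rw [map_inv, hw, inv_inv, hv'])
      rw [inv_inv] at h2
      exact h2 ▸ hv
    obtain ⟨u, hu, d, hd, rfl⟩ := exists_eq_mul_torus hwB
    have hmem : u * slDiag d hd ∈ H := mul_mem (hU u hu) (torus_mem htor d hd)
    obtain ⟨g', hg', e⟩ := hmem
    have : g' = g := Subtype.ext (e.trans hw)
    exact this ▸ hg'

end Cfsg.Agent.S5163
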