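import Cfsg.Statements.S5164
import Cfsg.Agent.EqLemmas

set_option autoImplicit false
open Cfsg

namespace Cfsg.Agent.S5164

variable {n p : ℕ}

/-- The maps `(x, y) ↦ (x + a, y + b x + c)` of the affine plane over `ZMod p`. -/
def shearGroup (p : ℕ) : Subgroup (Equiv.Perm (ZMod p × ZMod p)) where
  carrier := {f | ∃ a b c : ZMod p, ∀ v, f v = (v.1 + a, v.2 + b * v.1 + c)}
  mul_mem' := by
    rintro f g ⟨a, b, c, hf⟩ ⟨a', b', c', hg⟩
    refine ⟨a + a', b + b', c' + b * a' + c, fun v => ?_⟩
    rw [Equiv.Perm.mul_apply, hg, hf]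
    ext <;> simp <;> ring
  one_mem' := ⟨0, 0, 0, fun v => by simp⟩
  inv_mem' := by
    rintro f ⟨a, b, c, hf⟩
    refine ⟨-a, -b, b * a - c, fun v => ?_⟩
    apply f.injective
    rw [← Equiv.Perm.mul_apply, mul_inv_cancel, Equiv.Perm.one_apply, hf]
    ext <;> simp <;> ring

theorem shearGroup_isPGroup [Fact p.Prime] : IsPGroup p (shearGroup p) := by
  rintro ⟨f, a, b, c, hf⟩
  refine ⟨2, Subtype.ext ?_⟩
  have key : ∀ k : ℕ, ∃ d : ZMod p, ∀ v, (f ^ k) v = (v.1 + k * a, v.2 + k * b * v.1 + d) := by
    intro k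
    induction k with
    | zero => exact ⟨0, fun v => by simp⟩
    | succ k ih =>
      obtain ⟨d, hd⟩ := ih
      refine ⟨d + b * (k * a) + c, fun v => ?_⟩
      rw [pow_succ', Equiv.Perm.mul_apply, hd, hf]
      ext <;> push_cast <;> ring
  obtain ⟨d, hd⟩ := key p
  have hd' : ∀ v, (f ^ p) v = (v.1, v.2 + d) := fun v => by simp [hd]
  have key2 : ∀ k : ℕ, ∀ v, ((f ^ p) ^ k) v = (v.1, v.2 + k * d) := by
    intro k
    induction k with
    | zero => simp
    | succ k ih =>
      intro v
      rw [pow_succ', Equiv.Perm.mul_apply, ih, hd']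
      ext <;> push_cast <;> ring
  simp only [SubmonoidClass.coe_pow, OneMemClass.coe_one]
  rw [pow_two, pow_mul]
  ext v <;> simp [key2]

/-- Translation `(x, y) ↦ (x + 1, y)`. -/
def transl (p : ℕ) : Equiv.Perm (ZMod p × ZMod p) where
  toFun v := (v.1 + 1, v.2)
  invFun v := (v.1 - 1, v.2)
  left_inv v := by simp
  right_inv v := by simp

/-- Shear `(x, y) ↦ (x, y + x)`. -/
def shear (p : ℕ) : Equiv.Perm (ZMod p × ZMod p) where
  toFun v := (v.1, v.2 + v.1)
  invFun v := (v.1, v.2 - v.1)
  left_inv v := by simp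
  right_inv v := by simp

theorem shearGroup_not_comm [Fact p.Prime] :
    ∃ x y : shearGroup p, x * y ≠ y * x := by
  refine ⟨⟨transl p, 1, 0, 0, fun v => by simp [transl]⟩, ⟨shear p, 0, 1, 0, fun v => by simp [shear]⟩,
    fun h => ?_⟩
  have h1 : transl p * shear p = shear p * transl p := congrArg Subtype.val h
  have h2 := congrArg Prod.snd (Equiv.Perm.ext_iff.mp h1 (0, 0))
  simp [transl, shear, Equiv.Perm.mul_apply] at h2

/-- An injective map of a `p`-group into the alternating group lands in a conjugate of `S`. -/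
theorem not_comm_of_hom [Fact p.Prime] (S : Sylow p (alternatingGroup (Fin n))) {H : Type*} [Group H]
    (hH : IsPGroup p H) (f : H →* Equiv.Perm (Fin n)) (hf : Function.Injective f)
    (hev : ∀ x, Equiv.Perm.sign (f x) = 1) (hne : ∃ x y : H, x * y ≠ y * x) :
    ¬ IsMulCommutative S := by
  intro hS
  let g : H →* alternatingGroup (Fin n) :=
    f.codRestrict _ fun x => Equiv.Perm.mem_alternatingGroup.mpr (hev x)
  have hg : Function.Injective g := fun a b h => hf (congrArg Subtype.val h)
  obtain ⟨T, hT⟩ := (hH.of_surjective g.rangeRestrict g.rangeRestrict_surjective).exists_le_sylow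
  obtain ⟨x, y, hxy⟩ := hne
  refine hxy (hg ?_)
  have e : (T : Subgroup (alternatingGroup (Fin n))) ≃* (S : Subgroup (alternatingGroup (Fin n))) := Sylow.equiv T S
  have hc := mul_comm' (e ⟨g x, hT ⟨x, rfl⟩⟩) (e ⟨g y, hT ⟨y, rfl⟩⟩)
  rw [← map_mul, ← map_mul, e.injective.eq_iff] at hc
  rw [map_mul, map_mul]
  exact congrArg Subtype.val hc

/-- Rotations of `k` disjoint cycles of length `p`. -/
def rot (k p : ℕ) : (Fin k → Multiplicative (ZMod p)) →* Equiv.Perm (Fin k × ZMod p) where
  toFun c :=
    { toFun := fun v => (v.1, v.2 + (c v.1).toAdd)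
      invFun := fun v => (v.1, v.2 - (c v.1).toAdd)
      left_inv := fun v => by simp
      right_inv := fun v => by simp }
  map_one' := by ext v <;> simp
  map_mul' c d := by ext v <;> simp <;> ring

theorem rot_injective (k p : ℕ) : Function.Injective (rot k p) := by
  intro c d h
  funext i
  have := congrArg Prod.snd (Equiv.Perm.ext_iff.mp h (i, 0))
  simpa [rot] using this

/-- A Sylow subgroup of the symmetric group of degree below `p²` is abelian. -/
theorem perm_sylow_comm [hp : Fact p.Prime] (hnp : n < p ^ 2) (T : Sylow p (Equiv.Perm (Fin n))) :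
    IsMulCommutative T := by
  classical
  obtain ⟨ι⟩ : Nonempty (Fin (n / p) × ZMod p ↪ Fin n) :=
    Function.Embedding.nonempty_of_card_le (by simpa using Nat.div_mul_le_self n p)
  let f : (Fin (n / p) → Multiplicative (ZMod p)) →* Equiv.Perm (Fin n) :=
    (Equiv.Perm.viaEmbeddingHom ι).comp (rot (n / p) p)
  have hf : Function.Injective f :=
    (Equiv.Perm.viaEmbeddingHom_injective ι).comp (rot_injective _ _)
  have hv : (n.factorial).factorization p = n / p := by
    have hlog : Nat.log p n < 2 := Nat.log_lt_of_lt_pow' two_ne_zero hnp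
    rw [Nat.factorization_factorial hp.out hlog]
    simp
  have hcard : Nat.card f.range = p ^ (Nat.card (Equiv.Perm (Fin n))).factorization p := by
    rw [← Nat.card_congr (MonoidHom.ofInjective hf).toEquiv, Nat.card_perm, Nat.card_fin, hv]
    simp
  let T₀ : Sylow p (Equiv.Perm (Fin n)) := Sylow.ofCard f.range hcard
  let e : (T : Subgroup (Equiv.Perm (Fin n))) ≃* f.range := Sylow.equiv T T₀
  refine ⟨⟨fun a b => e.injective ?_⟩⟩
  obtain ⟨x, hx⟩ := f.rangeRestrict_surjective (e a)
  obtain ⟨y, hy⟩ := f.rangeRestrict_surjective (e b)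
  rw [map_mul, map_mul, ← hx, ← hy, ← map_mul, ← map_mul, mul_comm]

/-- For n ≥ 6 and a prime p, a nontrivial Sylow p-subgroup of the alternating group of degree n is abelian if and only if n < p². -/
theorem result (n p : ℕ) (hn : 6 ≤ n) [Fact p.Prime] (S : Sylow p (alternatingGroup (Fin n))) (hS : (S : Subgroup (alternatingGroup (Fin n))) ≠ ⊥) : IsMulCommutative S ↔ n < p ^ 2 := by
  classical
  have hp := (inferInstance : Fact p.Prime).out
  refine ⟨fun hc => ?_, fun hnp => ?_⟩
  · by_contra hle
    rw [not_lt] at hle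
    by_cases h2 : p = 2
    · subst h2
      obtain ⟨ι⟩ : Nonempty ((ZMod 2 × ZMod 2) ⊕ Fin 2 ↪ Fin n) :=
        Function.Embedding.nonempty_of_card_le (by simpa using hn)
      let sgn : Equiv.Perm (ZMod 2 × ZMod 2) →* Equiv.Perm (Fin 2) :=
        { toFun := fun f => if Equiv.Perm.sign f = 1 then 1 else Equiv.swap 0 1
          map_one' := by simp
          map_mul' := fun f g => by
            rcases Int.units_eq_one_or (Equiv.Perm.sign f) with hf | hf <;>
              rcases Int.units_eq_one_or (Equiv.Perm.sign g) with hg | hg <;>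
              simp [map_mul, hf, hg, Equiv.swap_mul_self] }
      have hsgn : ∀ f, Equiv.Perm.sign (sgn f) = Equiv.Perm.sign f := fun f => by
        rcases Int.units_eq_one_or (Equiv.Perm.sign f) with hf | hf <;> simp [sgn, hf]
      let f : shearGroup 2 →* Equiv.Perm (Fin n) := (Equiv.Perm.viaEmbeddingHom ι).comp
        ((Equiv.Perm.sumCongrHom _ _).comp ((MonoidHom.id _).prod sgn |>.comp (shearGroup 2).subtype))
      refine not_comm_of_hom S shearGroup_isPGroup f ?_ ?_ shearGroup_not_comm hc
      · intro a b h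
        have h1 := (Equiv.Perm.viaEmbeddingHom_injective ι) h
        have h2 := Equiv.Perm.sumCongrHom_injective h1
        exact Subtype.ext (congrArg Prod.fst h2)
      · intro x
        show Equiv.Perm.sign (Equiv.Perm.viaEmbedding
          (Equiv.Perm.sumCongr (x : Equiv.Perm (ZMod 2 × ZMod 2)) (sgn x)) ι) = 1
        rw [Equiv.Perm.viaEmbedding, Equiv.Perm.sign_extendDomain, Equiv.Perm.sign_sumCongr, hsgn,
          Int.units_mul_self]
    · obtain ⟨ι⟩ : Nonempty (ZMod p × ZMod p ↪ Fin n) :=
        Function.Embedding.nonempty_of_card_le (by simpa [sq] using hle)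
      let f : shearGroup p →* Equiv.Perm (Fin n) :=
        (Equiv.Perm.viaEmbeddingHom ι).comp (shearGroup p).subtype
      refine not_comm_of_hom S shearGroup_isPGroup f
        ((Equiv.Perm.viaEmbeddingHom_injective ι).comp Subtype.val_injective) ?_ shearGroup_not_comm hc
      intro x
      obtain ⟨k, hk⟩ := shearGroup_isPGroup (p := p) x
      have h := congrArg (fun y => Equiv.Perm.sign (f y)) hk
      simp only [map_pow, map_one] at h
      have hodd : Odd (p ^ k) := (hp.odd_of_ne_two h2).pow
      rcases Int.units_eq_one_or (Equiv.Perm.sign (f x)) with h' | h'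
      · exact h'
      · rw [h', hodd.neg_one_pow] at h
        exact absurd h (by decide)
  · let j := (alternatingGroup (Fin n)).subtype
    obtain ⟨T, hT⟩ := (S.isPGroup'.map j).exists_le_sylow
    have := perm_sylow_comm hnp T
    refine ⟨⟨fun a b => Subtype.ext (Subtype.ext ?_)⟩⟩
    let a' : (T : Subgroup (Equiv.Perm (Fin n))) := ⟨j (a : alternatingGroup (Fin n)), hT ⟨a, a.2, rfl⟩⟩
    let b' : (T : Subgroup (Equiv.Perm (Fin n))) := ⟨j (b : alternatingGroup (Fin n)), hT ⟨b, b.2, rfl⟩⟩
    have h : (a' : Equiv.Perm (Fin n)) * b' = b' * a' := congrArg Subtype.val (mul_comm' a' b')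
    simpa [a', b', j] using h

end Cfsg.Agent.S5164
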