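import Cfsg.Statements.S5165
import Cfsg.Agent.Lib.AltFusion.Main
-- import your own Cfsg.Agent.* helpers here

set_option autoImplicit false
open Cfsg

namespace Cfsg.Agent.S5165

open Cfsg.Agent.AltFusion Cfsg.Agent.SymSylowGen

/-- For n ≥ 6, a prime p with p² ≤ n, and n congruent to 0 or 1 modulo p, the p-fusion system of the alternating group of degree n on a Sylow p-subgroup is simple. -/
theorem result (n p : ℕ) (hn : 6 ≤ n) [Fact p.Prime] (hnp : p ^ 2 ≤ n) (hb : n % p ≤ 1) (S : Sylow p (alternatingGroup (Fin n))) : (Cfsg.groupFusionSystem (S : Subgroup (alternatingGroup (Fin n)))).IsSimple p := by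
  classical
  have hp : p.Prime := Fact.out
  have hmod := Nat.div_add_mod n p
  have hm : 3 ≤ n / p ∧ p ≤ n / p := by
    have h1 : p ≤ n / p := (Nat.le_div_iff_mul_le hp.pos).2 (by rwa [pow_two] at hnp)
    refine ⟨?_, h1⟩
    rcases Nat.lt_or_ge p 3 with h2 | h2
    · obtain rfl : p = 2 := by have := hp.two_le; omega
      omega
    · omega
  set m := n / p
  have hle : m * p ≤ n := Nat.div_mul_le_self n p
  obtain ⟨emb⟩ : Nonempty (Fin m × ZMod p ↪ Fin n) :=
    Function.Embedding.nonempty_of_card_le (by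
      rwa [Fintype.card_prod, Fintype.card_fin, ZMod.card, Fintype.card_fin])
  have hsub : ∀ x y : Fin n, x ∉ Set.range emb → y ∉ Set.range emb → x = y := by
    intro x y hx hy
    have hc : (Finset.univ.map emb)ᶜ.card ≤ 1 := by
      rw [Finset.card_compl, Finset.card_map, Finset.card_univ, Fintype.card_prod, ZMod.card,
        Fintype.card_fin, Fintype.card_fin, mul_comm]
      omega
    exact Finset.card_le_one.1 hc x (by simpa using fun a b h => hx ⟨(a, b), h⟩)
      y (by simpa using fun a b h => hy ⟨(a, b), h⟩)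
  obtain ⟨Q, hτ⟩ := exists_sylow_shiftTop (p := p) hm.2
  -- the embedding of the alternating groups
  have hsign : ∀ a : Equiv.Perm (Fin m × ZMod p),
      Equiv.Perm.sign (Equiv.Perm.viaEmbeddingHom emb a) = Equiv.Perm.sign a := fun a => by
    rw [Equiv.Perm.viaEmbeddingHom_apply, Equiv.Perm.viaEmbedding]
    convert Equiv.Perm.sign_extendDomain a (Equiv.ofInjective emb.1 emb.2)
  let ι₀ : alternatingGroup (Fin m × ZMod p) →* alternatingGroup (Fin n) :=
    ((Equiv.Perm.viaEmbeddingHom emb).comp (Subgroup.subtype _)).codRestrict _ fun a =>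
      mem_alt_of_sign ((hsign _).trans (Equiv.Perm.mem_alternatingGroup.1 a.2))
  have hι₀ : Function.Injective ι₀ := fun a b h =>
    Subtype.ext (Equiv.Perm.viaEmbeddingHom_injective emb (congrArg Subtype.val h))
  set W := wreathPerm (p := p) (Q : Subgroup (Equiv.Perm (Fin m)))
  set W' := W.map (Equiv.Perm.viaEmbeddingHom emb)
  have hT : push ι₀ (evenWreath (Q : Subgroup (Equiv.Perm (Fin m)))) =
      W'.subgroupOf (alternatingGroup (Fin n)) := by
    ext y
    constructor
    · rintro ⟨a, ha, rfl⟩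
      exact Subgroup.mem_map_of_mem _ ha.1
    · rintro ⟨u, hu, he⟩
      have hu' : u ∈ alternatingGroup (Fin m × ZMod p) := mem_alt_of_sign (by
        rw [← hsign u, he]
        exact Equiv.Perm.mem_alternatingGroup.1 y.2)
      exact ⟨⟨u, hu'⟩, Subgroup.mem_subgroupOf.2 ⟨hu, hu'⟩, Subtype.ext he⟩
  have hW'p : IsPGroup p W' := (isPGroup_wreathPerm Q.isPGroup').map _
  have hW'c : Nat.card W' = p ^ (Nat.card (Equiv.Perm (Fin n))).factorization p := by
    rw [Subgroup.card_map_of_injective (Equiv.Perm.viaEmbeddingHom_injective emb), card_wreathPerm,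
      Q.card_eq_multiplicity, ← pow_add, Nat.card_eq_fintype_card (α := Equiv.Perm (Fin m)),
      Nat.card_eq_fintype_card (α := Equiv.Perm (Fin n)), Fintype.card_perm, Fintype.card_perm,
      Fintype.card_fin, Fintype.card_fin, Nat.factorization_def _ hp, Nat.factorization_def _ hp]
    congr 1
    conv_rhs => rw [← hmod, padicValNat_factorial_mul_add _ (Nat.mod_lt n hp.pos),
      padicValNat_factorial_mul]
    rw [add_comm]
  have hndvd : ¬p ∣ (W'.subgroupOf (alternatingGroup (Fin n))).index := by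
    intro h
    have : (alternatingGroup (Fin n)).Normal := alternatingGroup.normal
    have h1 := (Sylow.ofCard W' hW'c).not_dvd_index
    rw [Sylow.coe_ofCard] at h1
    refine h1 (h.trans ?_)
    have h2 := Subgroup.relIndex_mul_relIndex (W' ⊓ alternatingGroup (Fin n)) W' ⊤ inf_le_left le_top
    have h3 := Subgroup.relIndex_mul_relIndex (W' ⊓ alternatingGroup (Fin n))
      (alternatingGroup (Fin n)) ⊤ inf_le_right le_top
    simp only [Subgroup.relIndex_top_right, Subgroup.inf_relIndex_left,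
      Subgroup.inf_relIndex_right] at h2 h3
    obtain ⟨k, hk⟩ := Subgroup.relIndex_dvd_index_of_normal (alternatingGroup (Fin n)) W'
    have hb0 : (alternatingGroup (Fin n)).relIndex W' ≠ 0 := fun h0 => by
      rw [h0, zero_mul] at hk
      exact Subgroup.index_ne_zero_of_finite hk
    show W'.relIndex (alternatingGroup (Fin n)) ∣ W'.index
    refine ⟨k, Nat.eq_of_mul_eq_mul_left (Nat.pos_of_ne_zero hb0) ?_⟩
    rw [h2, ← h3, hk]
    ring
  obtain ⟨c, hc⟩ := MulAction.exists_smul_eq (alternatingGroup (Fin n))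
    ((hT ▸ hW'p.comap_subtype : IsPGroup p
      (push ι₀ (evenWreath (Q : Subgroup (Equiv.Perm (Fin m)))))).toSylow (hT ▸ hndvd)) S
  let ι : alternatingGroup (Fin m × ZMod p) →* alternatingGroup (Fin n) :=
    (MulAut.conj c).toMonoidHom.comp ι₀
  have hι : Function.Injective ι := (MulAut.conj c).injective.comp hι₀
  refine isSimple_of_embedding ι hm.1 hm.2 Q hτ hι S ?_ fun K hK hfree g hg => ?_
  · rw [← hc, Sylow.coe_subgroup_smul, IsPGroup.toSylow_coe, push, push, ← Subgroup.map_map]
    rfl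
  · have hconj : c⁻¹ * g * c ∈ Subgroup.normalizer
        ((push ι₀ K : Subgroup (alternatingGroup (Fin n))) : Set (alternatingGroup (Fin n))) := by
      refine mem_normalizer_of_conj ?_
      rintro _ ⟨k, hk, rfl⟩
      obtain ⟨k', hk', he⟩ := conj_mem_of_normalizer hg (⟨k, hk, rfl⟩ : ι k ∈ push ι K)
      refine ⟨k', hk', ?_⟩
      change c * ι₀ k' * c⁻¹ = g * (c * ι₀ k * c⁻¹) * g⁻¹ at he
      calc ι₀ k' = c⁻¹ * (c * ι₀ k' * c⁻¹) * c := by group
        _ = c⁻¹ * g * c * ι₀ k * (c⁻¹ * g * c)⁻¹ := by rw [he]; group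
    have hmap : (push ι₀ K).map (Subgroup.subtype _) = K.map (Equiv.Perm.viaEmbeddingHom emb) := by
      rw [push, Subgroup.map_map]
      conv_rhs => rw [← Subgroup.map_subgroupOf_eq_of_le hK, Subgroup.map_map]
      rfl
    have hconj' : ((c⁻¹ * g * c : alternatingGroup (Fin n)) : Equiv.Perm (Fin n)) ∈ Subgroup.normalizer
        ((K.map (Equiv.Perm.viaEmbeddingHom emb) : Subgroup (Equiv.Perm (Fin n))) : Set (Equiv.Perm (Fin n))) :=
      hmap ▸ Subgroup.le_normalizer_map _ (Subgroup.mem_map_of_mem (Subgroup.subtype _) hconj)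
    obtain ⟨a, ha, -⟩ := exists_preimage_of_normalizes emb hsub hfree hconj'
    have haA : a ∈ alternatingGroup (Fin m × ZMod p) := mem_alt_of_sign (by
      rw [← hsign a, ha]
      exact Equiv.Perm.mem_alternatingGroup.1 (c⁻¹ * g * c).2)
    refine ⟨⟨a, haA⟩, ?_⟩
    show c * ι₀ ⟨a, haA⟩ * c⁻¹ = g
    rw [show ι₀ ⟨a, haA⟩ = c⁻¹ * g * c from Subtype.ext ha]
    group

end Cfsg.Agent.S5165
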