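import Cfsg.Statements.S5170
import Cfsg.Agent.EqLemmas
import Cfsg.Agent.Lib.Fusion.Group
import Cfsg.Agent.Lib.M24SylowTwo.Basic
import Cfsg.Agent.S5339

set_option autoImplicit false
open Cfsg

namespace Cfsg.Agent.S5170

/-- The 2-fusion system of the Mathieu group M₂₄ (as the explicit permutation group of the 24 points preserving the binary Golay code) on a Sylow 2-subgroup is simple: saturated, over a nontrivial 2-group, with no normal subsystem other than the trivial one and itself. -/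
theorem result (S : Sylow 2 Cfsg.M24) : (Cfsg.groupFusionSystem (S : Subgroup Cfsg.M24)).IsSimple 2 := by
  have h2 : Fact (Nat.Prime 2) := ⟨Nat.prime_two⟩
  have hne : (S : Subgroup ↥Cfsg.M24) ≠ ⊥ := by
    refine S.ne_bot_of_dvd_card ?_
    rw [Golay.natCard_M24]; norm_num
  refine S5339.result 2 S.isPGroup' _ (Fusion.isSaturated_group S) hne ?_ fun T hT => ?_
  · refine le_antisymm ((Subgroup.closure_le _).2 ?_) ?_
    · rintro α ⟨-, -, g, hg⟩
      have hgN : g ∈ Subgroup.normalizer ((S : Subgroup ↥Cfsg.M24) : Set ↥Cfsg.M24) := by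
        rw [Subgroup.mem_normalizer_iff]
        intro n
        refine ⟨fun hn => (hg ⟨n, hn⟩) ▸ (α ⟨n, hn⟩).2, fun hn => ?_⟩
        have h := hg (α.symm ⟨_, hn⟩)
        simp at h
        exact h ▸ (α.symm ⟨_, hn⟩).2
      rw [M24SylowTwo.normalizer_eq] at hgN
      exact ⟨⟨g, hgN⟩, MulEquiv.ext fun x => Subtype.ext (hg x).symm⟩
    · rintro _ ⟨g, rfl⟩
      exact Subgroup.subset_closure ⟨le_rfl, fun x => ((MulAut.conj g) x).2, g.1, fun x => rfl⟩
  · by_cases hb : T = ⊥
    · exact Or.inl hb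
    refine Or.inr (M24SylowTwo.closed_eq S hT.1 (fun g x hx hgx => ?_) hb)
    let φ : ↥(Subgroup.zpowers x) →* ↥Cfsg.M24 :=
      (MulAut.conj g).toMonoidHom.comp (Subgroup.zpowers x).subtype
    have hle : Subgroup.zpowers x ≤ T := Subgroup.zpowers_le.2 hx
    have hmem : φ ∈ (Cfsg.groupFusionSystem (S : Subgroup ↥Cfsg.M24)).Hom (Subgroup.zpowers x) := by
      refine ⟨hle.trans hT.1, fun y => ?_, g, fun y => rfl⟩
      have h : Subgroup.zpowers x ≤ (S : Subgroup ↥Cfsg.M24).comap (MulAut.conj g).toMonoidHom :=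
        Subgroup.zpowers_le.2 hgx
      exact h y.2
    exact hT.2 _ hle φ hmem ⟨x, Subgroup.mem_zpowers x⟩

end Cfsg.Agent.S5170
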