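import Cfsg.Statements.S5171
import Cfsg.Agent.Lib.Linear.SpFusion
import Cfsg.Agent.S5160

set_option autoImplicit false
open Cfsg

namespace Cfsg.Agent.S5171

open Cfsg.FusionSystem Cfsg.Agent.Linear Cfsg.Agent.Fusion Cfsg.Agent.FusionNormal

variable {K : Type*} [Field K] {m : ℕ}

/-- A central element maps every vector to itself or its negative. -/
theorem central_smul {z : Cfsg.spGL m K} (hz : z ∈ Subgroup.center (Cfsg.spGL m K))
    (v : Fin m ⊕ Fin m → K) : z • v = v ∨ z • v = -v := by
  by_cases hv : v = 0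
  · exact .inl (by rw [hv, smul_zero])
  refine spTv_inj hv ?_
  rw [← spTv_conj, mul_inv_eq_iff_eq_mul]
  exact (Subgroup.mem_center_iff.1 hz _).symm

theorem central_sq {z : Cfsg.spGL m K} (hz : z ∈ Subgroup.center (Cfsg.spGL m K)) : z * z = 1 :=
  spGL_ext fun v => by
    rw [mul_smul, one_smul]
    rcases central_smul hz v with h | h
    · rw [h, h]
    · rw [h, smul_neg, h, neg_neg]

theorem central_eq_one {p k : ℕ} [Fact p.Prime] [CharP K p] {z : Cfsg.spGL m K}
    (hz : z ∈ Subgroup.center (Cfsg.spGL m K)) (hk : z ^ p ^ k = 1) : z = 1 := by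
  by_cases hp : p = 2
  · subst hp
    refine spGL_ext fun v => ?_
    have h2 : (2 : K) = 0 := by exact_mod_cast CharP.cast_eq_zero K 2
    have hneg : (-1 : K) = 1 := by linear_combination -h2
    rw [one_smul]
    rcases central_smul hz v with h | h
    · exact h
    · rw [h]; funext x; rw [Pi.neg_apply, ← neg_one_mul, hneg, one_mul]
  · have hodd : Odd (p ^ k) := ((Fact.out : p.Prime).odd_of_ne_two hp).pow
    obtain ⟨j, hj⟩ := hodd
    rw [hj, pow_succ, pow_mul, pow_two, central_sq hz, one_pow, one_mul] at hk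
    exact hk

theorem exists_field_ne [Fintype K] (hm : 2 ≤ m) (hex : m = 2 → 3 ≤ Fintype.card K) :
    3 ≤ m ∨ ∃ a : K, a ≠ 0 ∧ a ≠ 1 := by
  classical
  by_cases h : m = 2
  · right
    by_contra! hc
    have : (Finset.univ : Finset K) ⊆ {0, 1} := fun a _ => by
      by_cases ha : a = 0
      · simp [ha]
      · simp [hc a ha]
    have := (Finset.card_le_card this).trans Finset.card_le_two
    have := hex h
    simp only [Finset.card_univ] at *
    omega
  · exact .inl (by omega)

/-- For a finite field K of characteristic p and m ≥ 2, excluding the case m = 2 with K of two elements, the p-fusion system of the projective symplectic group PSp_{2m}(K) on a Sylow p-subgroup is simple. -/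
theorem result {K : Type*} [Field K] [Fintype K] (p : ℕ) [Fact p.Prime] [CharP K p] (m : ℕ) (hm : 2 ≤ m) (hex : m = 2 → 3 ≤ Fintype.card K) (S : Sylow p (Cfsg.PSp m K)) : (Cfsg.groupFusionSystem (S : Subgroup (Cfsg.PSp m K))).IsSimple p := by
  let G := Cfsg.PSp m K
  let π₀ : Cfsg.spGL m K →* G :=
    (QuotientGroup.mk' _).comp (spEquiv m K).symm.toMonoidHom
  have hπ₀ : Function.Surjective π₀ :=
    (QuotientGroup.mk'_surjective _).comp (spEquiv m K).symm.surjective
  obtain ⟨g₀, hg₀⟩ := MulAction.exists_smul_eq G ((spSylow m K p).mapSurjective hπ₀) S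
  let π : Cfsg.spGL m K →* G := (MulAut.conj g₀).toMonoidHom.comp π₀
  have hπ : Function.Surjective π := (MulAut.conj g₀).surjective.comp hπ₀
  have hπU : (spBorelU m K).map π = (S : Subgroup G) := by
    rw [← hg₀, Sylow.coe_subgroup_smul, ← Subgroup.map_map]
    rfl
  have hker : ∀ z, π z = 1 → z ∈ Subgroup.center (Cfsg.spGL m K) := by
    intro z hz
    have h1 : π₀ z = 1 := (MulAut.conj g₀).injective (hz.trans (map_one (MulAut.conj g₀)).symm)
    have h2 : (spEquiv m K).symm z ∈ Subgroup.center _ := (QuotientGroup.eq_one_iff _).1 h1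
    refine Subgroup.mem_center_iff.2 fun y => (spEquiv m K).symm.injective ?_
    rw [map_mul, map_mul]
    exact Subgroup.mem_center_iff.1 h2 _
  have hnegone : π (spNegOne m K) = 1 := by
    have h2 : (spEquiv m K).symm (spNegOne m K) ∈ Subgroup.center _ := by
      refine Subgroup.mem_center_iff.2 fun y => (spEquiv m K).injective ?_
      rw [map_mul, map_mul, MulEquiv.apply_symm_apply]
      exact Subgroup.mem_center_iff.1 spNegOne_mem_center _
    change MulAut.conj g₀ (π₀ (spNegOne m K)) = 1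
    rw [show π₀ (spNegOne m K) = 1 from (QuotientGroup.eq_one_iff _).2 h2, map_one]
  have huniq : ∀ a b : Cfsg.spGL m K, ∀ k : ℕ, a ^ p ^ k = 1 → b ^ p ^ k = 1 → π a = π b → a = b := by
    intro a b k ha hb hab
    have hz : a⁻¹ * b ∈ Subgroup.center _ := hker _ (by rw [map_mul, map_inv, hab, inv_mul_cancel])
    have hc : Commute a (a⁻¹ * b) := Subgroup.mem_center_iff.1 hz a
    have h1 : (a⁻¹ * b) ^ p ^ k = 1 := by
      have h2 : b ^ p ^ k = a ^ p ^ k * (a⁻¹ * b) ^ p ^ k := by
        rw [← hc.mul_pow, mul_inv_cancel_left]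
      rw [hb, ha, one_mul] at h2
      exact h2.symm
    exact inv_mul_eq_one.1 (central_eq_one hz h1)
  have hUpow : ∃ k, ∀ u ∈ spBorelU m K, u ^ p ^ k = 1 := by
    obtain ⟨k, hk⟩ := IsPGroup.iff_card.1 (isPGroup_spBorelU (m := m) (F := K) p)
    exact ⟨k, fun u hu => congrArg Subtype.val
      (show (⟨u, hu⟩ : spBorelU m K) ^ p ^ k = 1 by rw [← hk]; exact pow_card_eq_one')⟩
  obtain ⟨kU, hkU⟩ := hUpow
  -- the lift of an element of `S`, and of conjugation
  have hconjlift : ∀ (x : Cfsg.spGL m K) (u v : Cfsg.spGL m K), u ∈ spBorelU m K →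
      v ∈ spBorelU m K → π x * π u * (π x)⁻¹ = π v → x * u * x⁻¹ = v := by
    intro x u v hu hv h
    refine huniq _ _ kU ?_ (hkU v hv) (by rw [map_mul, map_mul, map_inv, h])
    rw [conj_pow, hkU u hu, mul_one, mul_inv_cancel]
  have hU1 : spBorelU m K ≠ ⊥ := by
    intro hb
    have h := Subgroup.mem_bot.1 (hb ▸ spSiegel_mem_spBorelU
      (B := Matrix.single (⟨0, by omega⟩ : Fin m) ⟨0, by omega⟩ (1 : K)) (isSymm_single_diag _ _))
    have h' := congrFun (congrFun (congrArg blkB h) ⟨0, by omega⟩) ⟨0, by omega⟩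
    simp [blk_one.2.1] at h'
  have hS1 : (S : Subgroup G) ≠ ⊥ := by
    intro hb
    refine hU1 ((Subgroup.eq_bot_iff_forall _).2 fun u hu => huniq u 1 kU (hkU u hu) (one_pow _) ?_)
    rw [map_one, ← Subgroup.mem_bot, ← hb, ← hπU]
    exact ⟨u, hu, rfl⟩
  refine isSimple_of_top_generated S.isPGroup' (isSaturated_group S) hS1 ?_ ?_
  · -- strongly closed subgroups
    intro T hT
    set T' := T.comap π ⊓ spBorelU m K with hT'
    have hmap : ∀ x ∈ T, ∀ g : G, g * x * g⁻¹ ∈ (S : Subgroup G) → g * x * g⁻¹ ∈ T := by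
      intro x hx g hg
      have hle : Subgroup.zpowers x ≤ T := Subgroup.zpowers_le.2 hx
      have hcS : (S : Subgroup G).comap (MulAut.conj g).toMonoidHom ≥ Subgroup.zpowers x :=
        Subgroup.zpowers_le.2 hg
      obtain ⟨φ, hφ, e⟩ := isMap_group_iff.2 ⟨hle.trans hT.1, g, fun y hy => ⟨hcS hy, rfl⟩⟩
      have := hT.2 _ hle φ hφ ⟨x, Subgroup.mem_zpowers x⟩
      rwa [e x (Subgroup.mem_zpowers x)] at this
    by_cases hb : T' = ⊥
    · left
      refine (Subgroup.eq_bot_iff_forall _).2 fun x hx => ?_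
      obtain ⟨u, hu, rfl⟩ : x ∈ (spBorelU m K).map π := hπU.symm ▸ hT.1 hx
      have : u ∈ T' := ⟨hx, hu⟩
      rw [hb, Subgroup.mem_bot] at this
      rw [this, map_one]
    · right
      have hTU := eq_spBorelU_of_closed hm (exists_field_ne hm hex) inf_le_right hb
        fun x hx g hg => ⟨by
          have hx' : π x ∈ T := hx.1
          have h := hmap (π x) hx' (π g) (hπU ▸ ⟨_, hg, by rw [map_mul, map_mul, map_inv]⟩)
          rw [← map_inv, ← map_mul, ← map_mul] at h
          exact h, hg⟩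
      refine le_antisymm hT.1 fun y hy => ?_
      rw [← hπU] at hy
      obtain ⟨u, hu, rfl⟩ := hy
      rw [← hTU] at hu
      exact hu.1
  · -- generation of the automorphisms of `S`
    rw [autGroup_group le_rfl]
    set B := {β : MulAut (S : Subgroup G) | β ∈ autInducedBy ⊤ (S : Subgroup G) ∧
      ((∃ k, β ^ p ^ k = 1) ∨ ∃ Q, (Cfsg.groupFusionSystem (S : Subgroup G)).IsCentric Q ∧
        ∃ γ ∈ Subgroup.closure {γ : MulAut Q |
          γ ∈ (Cfsg.groupFusionSystem (S : Subgroup G)).autGroup Q ∧ ∃ k, γ ^ p ^ k = 1},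
        ∀ x : Q, ((γ x : Q) : G) = autFn β x)} with hB
    suffices hsuff : ∀ g : normalizerIn ⊤ (S : Subgroup G),
        normConj ⊤ (S : Subgroup G) g ∈ Subgroup.closure B by
      intro β hβ
      rw [← range_normConj] at hβ
      obtain ⟨g, rfl⟩ := hβ
      exact hsuff g
    let N := normalizerIn ⊤ (S : Subgroup G)
    let H : Subgroup (Cfsg.spGL m K) :=
      (((Subgroup.closure B).comap (normConj ⊤ (S : Subgroup G))).map N.subtype).comap π
    have hborel : ∀ h ∈ spBorel m K, π h ∈ N := fun h hh => ⟨trivial, by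
      refine mem_normalizer_of_conj_mem fun y hy => ?_
      rw [← hπU] at hy ⊢
      obtain ⟨u, hu, rfl⟩ := hy
      exact ⟨h * u * h⁻¹, spBorelU_conj hh hu, by rw [map_mul, map_mul, map_inv]⟩⟩
    have hin : ∀ (h : Cfsg.spGL m K) (hh : π h ∈ N),
        normConj ⊤ (S : Subgroup G) ⟨π h, hh⟩ ∈ Subgroup.closure B → h ∈ H :=
      fun h hh hc => ⟨⟨π h, hh⟩, hc, rfl⟩
    have hU : ∀ u ∈ spBorelU m K, u ∈ H := by
      intro u hu
      have hN := hborel u (spBorelU_le_spBorel hu)
      refine hin u hN (Subgroup.subset_closure ⟨?_, .inl ⟨kU, ?_⟩⟩)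
      · rw [← range_normConj]; exact ⟨_, rfl⟩
      · rw [← map_pow]
        convert map_one (normConj ⊤ (S : Subgroup G))
        exact Subtype.ext (by rw [SubgroupClass.coe_pow, ← map_pow, hkU u hu, map_one]; rfl)
    have hgen : ∀ (R : Subgroup (Cfsg.spGL m K)), R ≤ spBorelU m K →
        (∀ g : Cfsg.spGL m K, (∀ r ∈ R, g * r * g⁻¹ = r) →
          ∃ z ∈ ({1, spNegOne m K} : Set (Cfsg.spGL m K)), z * g ∈ R) →
        ∀ t ∈ spBorel m K,
        π t ∈ Subgroup.closure {g : G | g ∈ Subgroup.normalizer ((R.map π : Subgroup G) : Set G) ∧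
          ∃ k : ℕ, orderOf g = p ^ k} → t ∈ H := by
      intro R hRU hRc t ht htc
      have hRS : R.map π ≤ (S : Subgroup G) := hπU ▸ Subgroup.map_mono hRU
      obtain ⟨hgN, hγ⟩ := Cfsg.Agent.S5160.aut_mem_closure (S := (S : Subgroup G)) hRS htc
      refine hin t (hborel t ht) (Subgroup.subset_closure ⟨?_, .inr ⟨R.map π, ?_, _, hγ, ?_⟩⟩)
      · rw [← range_normConj]; exact ⟨_, rfl⟩
      · refine ⟨hRS, fun Q hQ y hy => ?_⟩
        obtain ⟨-, -, g, rfl⟩ := exists_conj_of_isConj hQ
        obtain ⟨hyS, hyc⟩ := mem_centralizerIn.1 hy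
        obtain ⟨w, hw⟩ := hπ (g⁻¹ * y * g)
        have hfix : ∀ r ∈ R, w * r * w⁻¹ = r := fun r hr => by
          refine hconjlift w r r (hRU hr) (hRU hr) ?_
          have := hyc _ ⟨π r, ⟨r, hr, rfl⟩, rfl⟩
          rw [MulEquiv.coe_toMonoidHom, MulAut.conj_apply] at this
          rw [hw]
          calc g⁻¹ * y * g * π r * (g⁻¹ * y * g)⁻¹
              = g⁻¹ * (y * (g * π r * g⁻¹) * y⁻¹) * g := by group
            _ = π r := by rw [mul_inv_eq_iff_eq_mul.2 this]; group
        obtain ⟨z, hz, hzw⟩ := hRc w hfix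
        refine ⟨π (z * w), ⟨_, hzw, rfl⟩, ?_⟩
        have hz1 : π z = 1 := by
          rcases hz with rfl | rfl
          · exact map_one π
          · exact hnegone
        rw [MulEquiv.coe_toMonoidHom, MulAut.conj_apply, map_mul, hz1, one_mul, hw]
        group
      · intro x
        rw [autFn_apply _ (hRS x.2), normConj_apply, normConj_apply]
    have hpelt : ∀ (R : Subgroup (Cfsg.spGL m K)) (x : Cfsg.spGL m K),
        x ∈ Subgroup.normalizer (R : Set (Cfsg.spGL m K)) → x ^ p = 1 →
        π x ∈ Subgroup.closure {g : G | g ∈ Subgroup.normalizer ((R.map π : Subgroup G) : Set G) ∧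
          ∃ k : ℕ, orderOf g = p ^ k} := by
      intro R x hx hxp
      refine Subgroup.subset_closure ⟨Subgroup.le_normalizer_map π ⟨x, hx, rfl⟩, ?_⟩
      have hdvd : orderOf (π x) ∣ p ^ 1 := by
        rw [pow_one]
        exact orderOf_dvd_of_pow_eq_one (by rw [← map_pow, hxp, map_one])
      obtain ⟨k, -, hk⟩ := (Nat.dvd_prime_pow Fact.out).1 hdvd
      exact ⟨k, hk⟩
    have htor : ∀ d : Fin m → Kˣ, spLevi (glDiag d) ∈ H := by
      have hdiagB : ∀ d : Fin m → Kˣ, spLevi (glDiag d) ∈ spBorel m K := fun d =>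
        spLevi_mem_spBorel fun i j h => by simp [glDiag_val, h.ne']
      refine torus_mem_closure (fun k k' h a => ?_) (fun l h a => ?_)
      · have hne : k ≠ k' := fun e => by simp [e] at h
        refine hgen (spShortR k k' h) (fun g hg => hg.1) (fun g => centralizer_shortR h) _
          (hdiagB _) ?_
        rw [spLevi_shortCoroot hne, map_mul, map_mul, map_mul, map_mul, map_mul]
        have hx : ∀ (i j : Fin m) (hij : i ≠ j) (t : K),
            ((i = k ∧ j = k') ∨ (i = k' ∧ j = k)) →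
            π (spLevi (glElem hij t)) ∈ Subgroup.closure {g : G |
              g ∈ Subgroup.normalizer (((spShortR k k' h).map π : Subgroup G) : Set G) ∧
                ∃ n : ℕ, orderOf g = p ^ n} :=
          fun i j hij t hk => hpelt _ _ (spLevi_glElem_normalizes_shortR h hij hk t)
            (pow_char_eq_one_of_add p (fun c => spLevi (glElem hij c)) (fun c d => by
              simp only [glElem]
              rw [Matrix.SpecialLinearGroup.transvection_add, map_mul, map_mul]) t)
        exact mul_mem (mul_mem (mul_mem (mul_mem (mul_mem (hx _ _ hne _ (.inl ⟨rfl, rfl⟩))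
          (hx _ _ hne.symm _ (.inr ⟨rfl, rfl⟩))) (hx _ _ hne _ (.inl ⟨rfl, rfl⟩)))
          (hx _ _ hne _ (.inl ⟨rfl, rfl⟩))) (hx _ _ hne.symm _ (.inr ⟨rfl, rfl⟩)))
          (hx _ _ hne _ (.inl ⟨rfl, rfl⟩))
      · refine hgen (spLongR l h) (fun g hg => hg.1) (fun g => centralizer_longR hm h) _
          (hdiagB _) ?_
        rw [spLevi_mulSingle, map_mul, map_mul, map_mul, map_mul, map_mul]
        have hy : ∀ c : K, π (spLow l c) ∈ Subgroup.closure {g : G |
              g ∈ Subgroup.normalizer (((spLongR l h).map π : Subgroup G) : Set G) ∧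
                ∃ n : ℕ, orderOf g = p ^ n} := fun c =>
          hpelt _ _ (spLow_normalizes_longR h c)
            (pow_char_eq_one_of_add p (spLow (F := K) l) (spLow_add l) c)
        have hx : ∀ c : K, π (spSiegel (Matrix.single l l c) (isSymm_single_diag l c)) ∈
            Subgroup.closure {g : G |
              g ∈ Subgroup.normalizer (((spLongR l h).map π : Subgroup G) : Set G) ∧
                ∃ n : ℕ, orderOf g = p ^ n} := fun c => by
          refine hpelt _ _ (mem_normalizer_of_conj_mem fun r hr => ?_) (spSiegel_pow_char p _)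
          refine ⟨mul_mem (mul_mem (spSiegel_mem_spBorelU _) hr.1)
            (inv_mem (spSiegel_mem_spBorelU _)), ?_⟩
          rw [spSiegel_inv]
          simp [blkB_mul, blkA_mul, hr.1.1, hr.2, hr.1.2 l l le_rfl,
            spBorelU_blkD hr.1 (le_refl l), Matrix.single_mul_apply_same,
            Matrix.mul_single_apply_same]
        exact mul_mem (mul_mem (mul_mem (mul_mem (mul_mem (hx _) (hy _)) (hx _)) (hx _)) (hy _))
          (hx _)
    intro g
    obtain ⟨w, hw⟩ := hπ g.1
    have hwB : w ∈ spBorel m K := by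
      refine mem_spBorel_of_normalizes fun u hu => ?_
      have h1 : g.1⁻¹ * π u * g.1 ∈ (S : Subgroup G) :=
        (Subgroup.mem_normalizer_iff''.1 g.2.2 _).1 (hπU ▸ ⟨u, hu, rfl⟩)
      obtain ⟨v, hv, hv'⟩ : g.1⁻¹ * π u * g.1 ∈ (spBorelU m K).map π := hπU.symm ▸ h1
      have h2 := hconjlift w⁻¹ u v hu hv (by rw [map_inv, hw, inv_inv, hv'])
      rw [inv_inv] at h2
      exact h2 ▸ hv
    obtain ⟨u, hu, d, rfl⟩ := exists_eq_mul_spLevi_diag hwB
    have hmem : u * spLevi (glDiag d) ∈ H := mul_mem (hU u hu) (htor d)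
    obtain ⟨g', hg', e⟩ := hmem
    have : g' = g := Subtype.ext (e.trans hw)
    exact this ▸ hg'

end Cfsg.Agent.S5171
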