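import Cfsg.Statements.S5172
import Cfsg.Agent.Lib.Linear.UnitaryTorus
import Cfsg.Agent.S5160

set_option autoImplicit false
open Cfsg

namespace Cfsg.Agent.S5172

open Cfsg.FusionSystem Cfsg.Agent.Fusion Cfsg.Agent.FusionNormal Cfsg.Agent.UFus Cfsg.Agent.Unitary

/-- For a finite field K with q² elements of characteristic p and n ≥ 4, the p-fusion system of the projective special unitary group PSU_n(q) (realised over K) on a Sylow p-subgroup is simple. -/
theorem result {K : Type*} [Field K] [Fintype K] (p q : ℕ) [Fact p.Prime] [CharP K p] (hK : Fintype.card K = q ^ 2) (n : ℕ) (hn : 4 ≤ n) (S : Sylow p (Cfsg.PSU n K q)) : (Cfsg.groupFusionSystem (S : Subgroup (Cfsg.PSU n K q))).IsSimple p := by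
  classical
  obtain ⟨Φ⟩ := exists_frame hK n
  have hm : 2 ≤ n / 2 := by omega
  let z : Fin (n / 2) := ⟨0, by omega⟩
  let l : Fin (n / 2) := ⟨1, by omega⟩
  have hlz : l ≠ z := by simp [l, z, Fin.ext_iff]
  set U := Φ.unip hK with hU
  obtain ⟨P, hP⟩ := (Φ.isPGroup_unip hK p).exists_le_sylow
  have hPU : (P : Subgroup (Cfsg.SU n K q)) = U := Φ.eq_unip_of_isPGroup hK p P.isPGroup' hP
  let G := Cfsg.PSU n K q
  let π₀ : Cfsg.SU n K q →* G := QuotientGroup.mk' _
  have hπ₀ : Function.Surjective π₀ := QuotientGroup.mk'_surjective _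
  obtain ⟨g₀, hg₀⟩ := MulAction.exists_smul_eq G (P.mapSurjective hπ₀) S
  let π : Cfsg.SU n K q →* G := (MulAut.conj g₀).toMonoidHom.comp π₀
  have hπ : Function.Surjective π := (MulAut.conj g₀).surjective.comp hπ₀
  have hπU : U.map π = (S : Subgroup G) := by
    rw [← hg₀, Sylow.coe_subgroup_smul, ← hPU, ← Subgroup.map_map]
    rfl
  have hker : ∀ c, π c = 1 → c ∈ Subgroup.center (Cfsg.SU n K q) := fun c hc =>
    (QuotientGroup.eq_one_iff _).1
      ((MulAut.conj g₀).injective (hc.trans (map_one (MulAut.conj g₀)).symm))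
  have hπc : ∀ c ∈ Subgroup.center (Cfsg.SU n K q), π c = 1 := fun c hc => by
    change MulAut.conj g₀ (π₀ c) = 1
    rw [show π₀ c = 1 from (QuotientGroup.eq_one_iff _).2 hc, map_one]
  have hcentral : ∀ (c : Cfsg.SU n K q) (k : ℕ), c ∈ Subgroup.center (Cfsg.SU n K q) →
      c ^ p ^ k = 1 → c = 1 := by
    intro c k hc hk
    obtain ⟨s, -, -, hs⟩ := center_SU_scalar hK (by omega) hc
    have h1 : s ^ p ^ k = 1 := by
      have h2 := congrArg (fun x : Cfsg.SU n K q =>
        ((x : Matrix.SpecialLinearGroup (Fin n) K) : Matrix (Fin n) (Fin n) K) ⟨0, by omega⟩ ⟨0, by omega⟩) hk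
      simpa [hs, Matrix.diagonal_pow] using h2
    have h2 : (s - 1) ^ p ^ k = 0 := by rw [sub_pow_char_pow, one_pow, h1, sub_self]
    rw [pow_eq_zero_iff (pow_ne_zero _ (Fact.out : p.Prime).ne_zero), sub_eq_zero] at h2
    subst h2
    exact Subtype.ext (Subtype.ext (hs.trans (map_one _)))
  have huniq : ∀ a b : Cfsg.SU n K q, ∀ k : ℕ, a ^ p ^ k = 1 → b ^ p ^ k = 1 → π a = π b → a = b := by
    intro a b k ha hb hab
    have hz : a⁻¹ * b ∈ Subgroup.center _ := hker _ (by rw [map_mul, map_inv, hab, inv_mul_cancel])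
    have hc : Commute a (a⁻¹ * b) := Subgroup.mem_center_iff.1 hz a
    have h1 : (a⁻¹ * b) ^ p ^ k = 1 := by
      have h2 : b ^ p ^ k = a ^ p ^ k * (a⁻¹ * b) ^ p ^ k := by
        rw [← hc.mul_pow, mul_inv_cancel_left]
      rw [hb, ha, one_mul] at h2
      exact h2.symm
    exact inv_mul_eq_one.1 (hcentral _ k hz h1)
  have hkU : ∀ u ∈ U, u ^ p ^ (2 * (n / 2) + 1) = 1 := fun u hu => Φ.unip_pow hK p hu
  have hconjlift : ∀ (x u v : Cfsg.SU n K q), u ∈ U →
      v ∈ U → π x * π u * (π x)⁻¹ = π v → x * u * x⁻¹ = v := by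
    intro x u v hu hv h
    refine huniq _ _ (2 * (n / 2) + 1) ?_ (hkU v hv) (by rw [map_mul, map_mul, map_inv, h])
    rw [conj_pow, hkU u hu, mul_one, mul_inv_cancel]
  have hS1 : (S : Subgroup G) ≠ ⊥ := by
    intro hb
    obtain ⟨δ, hδ0, hδ⟩ := exists_skew hK
    have H := hermForm_isHerm hK n
    have ok : Ok q (Φ.e z) 0 δ :=
      ⟨Φ.ee z z, H.zero_left _, by rw [H.zero_left, hδ, add_neg_cancel, neg_zero]⟩
    have hmem : eich hK ok ∈ U := Φ.tiRad_le hK (Φ.transvection_mem_tiRad hK (Φ.e_mem_low hK z.isLt) ok)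
    have h1 : eich hK ok = 1 := huniq _ 1 _ (hkU _ hmem) (one_pow _) (by
      rw [map_one, ← Subgroup.mem_bot, ← hb, ← hπU]; exact ⟨_, hmem, rfl⟩)
    have h2 := congrArg (fun g => Cfsg.hermForm n K q (suAct g (Φ.f z)) (Φ.f z)) h1
    simp [suAct_eich, H.zero_right hK, H.add_left, H.smul_left, Φ.fe hK, Φ.ef, Φ.ff] at h2
    exact hδ0 h2
  refine isSimple_of_top_generated S.isPGroup' (isSaturated_group S) hS1 ?_ ?_
  · -- strongly closed subgroups
    intro T hT
    set T' := T.comap π ⊓ U with hT'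
    have hmap : ∀ x ∈ T, ∀ g : G, g * x * g⁻¹ ∈ (S : Subgroup G) → g * x * g⁻¹ ∈ T := by
      intro x hx g hg
      have hle : Subgroup.zpowers x ≤ T := Subgroup.zpowers_le.2 hx
      have hcS : (S : Subgroup G).comap (MulAut.conj g).toMonoidHom ≥ Subgroup.zpowers x :=
        Subgroup.zpowers_le.2 hg
      obtain ⟨φ, hφ, e⟩ := isMap_group_iff.2 ⟨hle.trans hT.1, g, fun y hy => ⟨hcS hy, rfl⟩⟩
      have := hT.2 _ hle φ hφ ⟨x, Subgroup.mem_zpowers x⟩
      rwa [e x (Subgroup.mem_zpowers x)] at this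
    by_cases hb : T = ⊥
    · exact .inl hb
    right
    refine le_antisymm hT.1 fun y hy => ?_
    obtain ⟨x, hx, hx1⟩ : ∃ x, x ∈ T' ∧ x ≠ 1 := by
      by_contra! hall
      refine hb ((Subgroup.eq_bot_iff_forall _).2 fun x hx => ?_)
      obtain ⟨u, hu, rfl⟩ : x ∈ U.map π := hπU.symm ▸ hT.1 hx
      rw [hall u ⟨hx, hu⟩, map_one]
    have hTU : U ≤ T' := Φ.unip_le_of_closed hK (by omega) (z := z) (j := l) rfl hlz inf_le_right hx hx1
      fun x hx g hg => ⟨by
        have hx' : π x ∈ T := hx.1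
        have h := hmap (π x) hx' (π g) (hπU ▸ ⟨_, hg, by rw [map_mul, map_mul, map_inv]⟩)
        rw [← map_inv, ← map_mul, ← map_mul] at h
        exact h, hg⟩
    rw [← hπU] at hy
    obtain ⟨u, hu, rfl⟩ := hy
    exact (hTU hu).1
  · -- generation of the automorphisms of `S`
    rw [autGroup_group le_rfl]
    set B := {β : MulAut (S : Subgroup G) | β ∈ autInducedBy ⊤ (S : Subgroup G) ∧
      ((∃ k, β ^ p ^ k = 1) ∨ ∃ Q, (Cfsg.groupFusionSystem (S : Subgroup G)).IsCentric Q ∧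
        ∃ γ ∈ Subgroup.closure {γ : MulAut Q |
          γ ∈ (Cfsg.groupFusionSystem (S : Subgroup G)).autGroup Q ∧ ∃ k, γ ^ p ^ k = 1},
        ∀ x : Q, ((γ x : Q) : G) = autFn β x)} with hB
    suffices hsuff : ∀ g : normalizerIn ⊤ (S : Subgroup G),
        normConj ⊤ (S : Subgroup G) g ∈ Subgroup.closure B by
      intro β hβ
      rw [← range_normConj] at hβ
      obtain ⟨g, rfl⟩ := hβ
      exact hsuff g
    let N := normalizerIn ⊤ (S : Subgroup G)
    let H : Subgroup (Cfsg.SU n K q) :=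
      (((Subgroup.closure B).comap (normConj ⊤ (S : Subgroup G))).map N.subtype).comap π
    have hborel : ∀ h ∈ Φ.borel hK, π h ∈ N := fun h hh => ⟨trivial, by
      refine mem_normalizer_of_conj fun y hy => ?_
      rw [← hπU] at hy ⊢
      obtain ⟨u, hu, rfl⟩ := hy
      exact ⟨h * u * h⁻¹, Φ.borel_normalizes hK hh hu, by rw [map_mul, map_mul, map_inv]⟩⟩
    have hin : ∀ (h : Cfsg.SU n K q) (hh : π h ∈ N),
        normConj ⊤ (S : Subgroup G) ⟨π h, hh⟩ ∈ Subgroup.closure B → h ∈ H :=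
      fun h hh hc => ⟨⟨π h, hh⟩, hc, rfl⟩
    have hUH : U ≤ H := by
      intro u hu
      have hN := hborel u (Φ.unip_le_borel hK hu)
      refine hin u hN (Subgroup.subset_closure ⟨?_, .inl ⟨2 * (n / 2) + 1, ?_⟩⟩)
      · rw [← range_normConj]; exact ⟨_, rfl⟩
      · rw [← map_pow]
        convert map_one (normConj ⊤ (S : Subgroup G))
        exact Subtype.ext (by rw [SubgroupClass.coe_pow, ← map_pow, hkU u hu, map_one]; rfl)
    have hgen : ∀ (R : Subgroup (Cfsg.SU n K q)), R ≤ U →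
        (∀ y : Cfsg.SU n K q, (∀ r ∈ R, y * r * y⁻¹ = r) →
          ∃ c ∈ Subgroup.center (Cfsg.SU n K q), c * y ∈ R) →
        ∀ t ∈ Φ.borel hK, t ∈ pNorm p R → t ∈ H := by
      intro R hRU hRc t ht htc
      have hRS : R.map π ≤ (S : Subgroup G) := hπU ▸ Subgroup.map_mono hRU
      have htc' : π t ∈ Subgroup.closure {g : G | g ∈ Subgroup.normalizer ((R.map π : Subgroup G) : Set G) ∧
          ∃ k : ℕ, orderOf g = p ^ k} := by
        have hmem := Subgroup.mem_map_of_mem π htc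
        rw [pNorm, MonoidHom.map_closure] at hmem
        refine Subgroup.closure_mono ?_ hmem
        rintro _ ⟨x, ⟨hxN, k, hk⟩, rfl⟩
        refine ⟨Subgroup.le_normalizer_map π ⟨x, hxN, rfl⟩, ?_⟩
        obtain ⟨j, -, hj⟩ := (Nat.dvd_prime_pow Fact.out).1
          (orderOf_dvd_of_pow_eq_one (show (π x) ^ p ^ k = 1 by rw [← map_pow, hk, map_one]))
        exact ⟨j, hj⟩
      obtain ⟨hgN, hγ⟩ := Cfsg.Agent.S5160.aut_mem_closure (S := (S : Subgroup G)) hRS htc'
      refine hin t (hborel t ht) (Subgroup.subset_closure ⟨?_, .inr ⟨R.map π, ?_, _, hγ, ?_⟩⟩)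
      · rw [← range_normConj]; exact ⟨_, rfl⟩
      · refine ⟨hRS, fun Q hQ y hy => ?_⟩
        obtain ⟨-, -, g, rfl⟩ := exists_conj_of_isConj hQ
        obtain ⟨hyS, hyc⟩ := mem_centralizerIn.1 hy
        obtain ⟨w, hw⟩ := hπ (g⁻¹ * y * g)
        have hfix : ∀ r ∈ R, w * r * w⁻¹ = r := fun r hr => by
          refine hconjlift w r r (hRU hr) (hRU hr) ?_
          have := hyc _ ⟨π r, ⟨r, hr, rfl⟩, rfl⟩
          rw [MulEquiv.coe_toMonoidHom, MulAut.conj_apply] at this
          rw [hw]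
          calc g⁻¹ * y * g * π r * (g⁻¹ * y * g)⁻¹
              = g⁻¹ * (y * (g * π r * g⁻¹) * y⁻¹) * g := by group
            _ = π r := by rw [mul_inv_eq_iff_eq_mul.2 this]; group
        obtain ⟨c, hc, hcw⟩ := hRc w hfix
        refine ⟨π (c * w), ⟨_, hcw, rfl⟩, ?_⟩
        rw [MulEquiv.coe_toMonoidHom, MulAut.conj_apply, map_mul, hπc c hc, one_mul, hw]
        group
      · intro x
        rw [autFn_apply _ (hRS x.2), normConj_apply, normConj_apply]
    have hle : Φ.borel hK ≤ H := Φ.borel_le hK p hlz hUH fun R hR t ht htc => by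
      rcases hR with rfl | rfl
      · exact hgen _ (Φ.pointRad_le hK rfl)
          (fun y hy => Φ.centralizer_pointRad hK (by omega) rfl hy) t ht htc
      · exact hgen _ (Φ.tiRad_le hK)
          (fun y hy => Φ.centralizer_tiRad hK (by omega) z hy) t ht htc
    intro g
    obtain ⟨w, hw⟩ := hπ g.1
    have hwB : w ∈ Φ.borel hK := by
      refine Φ.mem_borel_of_normalizes hK (mem_normalizer_of_conj fun u hu => ?_)
      have h1 : g.1 * π u * g.1⁻¹ ∈ (S : Subgroup G) :=
        (Subgroup.mem_normalizer_iff.1 g.2.2 _).1 (hπU ▸ ⟨u, hu, rfl⟩)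
      obtain ⟨v, hv, hv'⟩ : g.1 * π u * g.1⁻¹ ∈ U.map π := hπU.symm ▸ h1
      rw [hconjlift w u v hu hv (by rw [hw, hv'])]
      exact hv
    obtain ⟨g', hg', e⟩ := hle hwB
    have : g' = g := Subtype.ext (e.trans hw)
    exact this ▸ hg'

end Cfsg.Agent.S5172
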