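import Cfsg.Statements.S5177
import Cfsg.Agent.Lib.ExtraspecialIndexP.CaseOne
import Cfsg.Agent.Lib.ExtraspecialIndexP.TransData
import Cfsg.Agent.Lib.ExtraspecialIndexP.QuadData

set_option autoImplicit false
universe u
open Cfsg
open scoped commutatorElement

namespace Cfsg.Agent.S5177

/-- Let p be an odd prime, S a finite p-group of order at least p⁶ containing an extraspecial subgroup Q of index p, and F a saturated fusion system over S whose largest subgroup normal in F is trivial. Then S is isomorphic to a Sylow p-subgroup of SL(4,p), to a Sylow p-subgroup of SU(4,p), to a Sylow p-subgroup of G₂(p) with p ≥ 5, or p ≥ 11 and S has order p^(p−1), exponent p and maximal nilpotency class. -/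
theorem result {Ω : Type u} [Group Ω] {S : Subgroup Ω} [Finite S] (p : ℕ) [Fact p.Prime] (hp : Odd p) (hS : IsPGroup p S)
    (Q : Subgroup Ω) (hQS : Q ≤ S) (hQ : Cfsg.IsExtraspecial p ↥Q) (hQi : (Q.subgroupOf S).index = p)
    (h6 : p ^ 6 ≤ Nat.card S)
    (F : Cfsg.FusionSystem S) (hF : F.IsSaturated p) (hO : F.core = ⊥) [Group.IsNilpotent ↥S] :
    (∃ P : Sylow p (Matrix.SpecialLinearGroup (Fin 4) (ZMod p)),
        Nonempty (↥S ≃* ↥(P : Subgroup (Matrix.SpecialLinearGroup (Fin 4) (ZMod p))))) ∨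
      (∃ (K : Type) (_ : Field K) (_ : Fintype K), Fintype.card K = p ^ 2 ∧
        ∃ P : Sylow p ↥(Cfsg.SU 4 K p), Nonempty (↥S ≃* ↥(P : Subgroup ↥(Cfsg.SU 4 K p)))) ∨
      (5 ≤ p ∧ ∃ P : Sylow p ↥(Cfsg.Lie.G2 (ZMod p)), Nonempty (↥S ≃* ↥(P : Subgroup ↥(Cfsg.Lie.G2 (ZMod p))))) ∨
      (11 ≤ p ∧ Nat.card S = p ^ (p - 1) ∧ (∀ x : ↥S, x ^ p = 1) ∧ Group.nilpotencyClass ↥S = p - 2) := by
  obtain ⟨z, D⟩ := ExtraspecialIndexP.Setup.of_hyps hp hS hQS hQ hQi h6 hF hO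
  obtain ⟨R, M⟩ := D.exists_mover
  by_cases hin : ∃ w, M.Moved w ∧ w ∈ Q
  · obtain ⟨w, hw, hwQ⟩ := hin
    rcases M.caseOne hw hwQ with h | h
    · exact Or.inr (Or.inr (Or.inl (D.iso_of_G h)))
    · exact Or.inl (D.iso_of_L h)
  push Not at hin
  by_cases htr : ∃ x y, M.Moved x ∧ y ∈ Q ∧ ⁅x, y⁆ ∈ Subgroup.zpowers z ∧ ⁅x, y⁆ ≠ 1
  · obtain ⟨x, y, hx, hy, hc, hne⟩ := htr
    have T : ExtraspecialIndexP.Trans M x y := ⟨hin, hx, hy, hc, hne⟩
    obtain ⟨n, hn2, hn, hnS⟩ := D.exists_card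
    rcases eq_or_lt_of_le hn2 with h | h
    · subst h
      exact Or.inr (Or.inr (Or.inl (D.iso_of_G (T.gData hn))))
    · have hpn := T.n_eq hn hn2
      have hpp := D.prime
      have hne3 : n ≠ 3 := fun e => by
        rw [hpn, e] at hpp
        norm_num at hpp
      refine Or.inr (Or.inr (Or.inr ⟨by omega, ?_, T.exponent_eq hn hn2, T.class_eq hn hn2⟩))
      rw [hnS]
      congr 1
      omega
  · push Not at htr
    obtain ⟨x, hx⟩ := M.exists_moved
    exact Or.inr (Or.inl (D.iso_of_U (ExtraspecialIndexP.Quad.uData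
      (x := x) ⟨hin, fun a b ha hb hc => htr a b ha hb hc, hx⟩)))

end Cfsg.Agent.S5177
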