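import Cfsg.Statements.S5179
import Cfsg.Agent.Lib.StrongPEmb.Basic
import Cfsg.Agent.Lib.EssentialSmall.Basic
import Cfsg.Agent.EqLemmas

set_option autoImplicit false
universe u
open Cfsg

namespace Cfsg.Agent.S5179

open Cfsg.FusionSystem Cfsg.Agent.Fusion
open scoped commutatorElement

/-- If all commutators are central, `k ↦ ⁅k, y⁆` bounds the index of a centralizer. -/
theorem card_le_mul_centralizer {R : Type*} [Group R] [Finite R]
    (hc : ∀ a b : R, ⁅a, b⁆ ∈ Subgroup.center R) (K : Subgroup R) (y : R) :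
    Nat.card K ≤ Nat.card (Subgroup.center R) * Nat.card (K ⊓ Subgroup.centralizer {y} : Subgroup R) := by
  have hmul : ∀ a b : R, ⁅a * b, y⁆ = ⁅a, y⁆ * ⁅b, y⁆ := fun a b => by
    have h1 : ⁅a * b, y⁆ = a * ⁅b, y⁆ * a⁻¹ * ⁅a, y⁆ := by simp only [commutatorElement_def]; group
    rw [h1, Subgroup.mem_center_iff.1 (hc b y) a, mul_inv_cancel_right,
      (Subgroup.mem_center_iff.1 (hc b y) _).symm]
  let f : K →* Subgroup.center R :=
    MonoidHom.mk' (fun k => ⟨⁅(k : R), y⁆, hc _ _⟩) fun a b => Subtype.ext (hmul a b)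
  have h1 := Subgroup.index_mul_card f.ker
  rw [Subgroup.index_ker] at h1
  rw [← h1]
  refine Nat.mul_le_mul (Subgroup.card_le_card_group _) ?_
  refine Nat.card_le_card_of_injective
    (fun k => ⟨(k : K), (k : K).2, Subgroup.mem_centralizer_singleton_iff.2
      (commutatorElement_eq_one_iff_mul_comm.1 (congrArg Subtype.val (MonoidHom.mem_ker.1 k.2)))⟩) ?_
  intro a b h
  exact Subtype.ext (Subtype.ext (congrArg Subtype.val h :))

/-- A nontrivial element of a group of prime order generates it. -/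
theorem mem_zpowers_of_prime {R : Type*} [Group R] {p : ℕ} [Fact p.Prime] {z c : R}
    (hz : z ^ p = 1) (hc : c ∈ Subgroup.zpowers z) (hc1 : c ≠ 1) : z ∈ Subgroup.zpowers c := by
  have hp : p.Prime := Fact.out
  obtain ⟨i, rfl⟩ := Subgroup.mem_zpowers_iff.1 hc
  have hco : IsCoprime (p : ℤ) i := by
    refine (Nat.prime_iff_prime_int.1 hp).coprime_iff_not_dvd.2 ?_
    rintro ⟨d, rfl⟩
    exact hc1 (by rw [zpow_mul, zpow_natCast, hz, one_zpow])
  obtain ⟨a, b, hab⟩ := hco
  refine Subgroup.mem_zpowers_iff.2 ⟨b, ?_⟩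
  rw [← zpow_mul]
  conv_rhs => rw [← zpow_one z, ← hab]
  rw [zpow_add, mul_comm a, zpow_mul z _ a, zpow_natCast, hz, one_zpow, one_mul, mul_comm i]

/-- Two automorphisms of an abelian group, each fixing the line in which the other one moves, commute. -/
theorem commute_of_lines {R : Type*} [Group R] (hab : ∀ a b : R, a * b = b * a) (T U : MulAut R)
    (z z' : R) (hT : ∀ y, y⁻¹ * T y ∈ Subgroup.zpowers z)
    (hU : ∀ y, y⁻¹ * U y ∈ Subgroup.zpowers z') (hTz' : T z' = z') (hUz : U z = z) :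
    T * U = U * T := by
  refine MulEquiv.ext fun y => ?_
  obtain ⟨a, ha⟩ := Subgroup.mem_zpowers_iff.1 (hT y)
  obtain ⟨b, hb⟩ := Subgroup.mem_zpowers_iff.1 (hU y)
  rw [eq_inv_mul_iff_mul_eq] at ha hb
  rw [MulAut.mul_apply, MulAut.mul_apply, ← hb, ← ha, map_mul, map_mul, map_zpow, map_zpow, hTz', hUz,
    ← ha, ← hb, mul_assoc, mul_assoc, hab (z ^ a) (z' ^ b)]

/-- Let p be an odd prime, S a finite p-group of order at least p⁶ containing an extraspecial subgroup Q of index p, and F a saturated fusion system over S whose largest subgroup normal in F is trivial. Then no proper subgroup of Q is essential in F: an essential subgroup of F contained in Q equals Q. -/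
theorem result {Ω : Type u} [Group Ω] {S : Subgroup Ω} [Finite S] (p : ℕ) [Fact p.Prime] (hp : Odd p) (hS : IsPGroup p S)
    (Q : Subgroup Ω) (hQS : Q ≤ S) (hQ : Cfsg.IsExtraspecial p ↥Q) (hQi : (Q.subgroupOf S).index = p)
    (h6 : p ^ 6 ≤ Nat.card S)
    (F : Cfsg.FusionSystem S) (hF : F.IsSaturated p) (hO : F.core = ⊥)
    (E : Subgroup Ω) (hEQ : E ≤ Q) (hE : F.IsEssential p E) : E = Q := by
  have hp' : p.Prime := Fact.out
  have r := FusionAbelianIndex.Rad.of_essential hS hF hE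
  obtain ⟨hcen, -, hN, H', hH'⟩ := hE
  have hES : E ≤ S := hcen.1
  haveI := finite_of_le hES
  haveI := finite_of_le hQS
  haveI := finite_mulAut hES
  have hEp : IsPGroup p E := hS.to_le hES
  by_contra hne
  -- the centre of `Q`
  haveI : Nontrivial (Subgroup.center Q) :=
    Finite.one_lt_card_iff_nontrivial.1 (hQ.2.symm ▸ hp'.one_lt)
  obtain ⟨zC, hzC⟩ := exists_ne (1 : Subgroup.center Q)
  let zQ : Q := zC
  have hzQc : zQ ∈ Subgroup.center Q := zC.2
  have hzQ1 : zQ ≠ 1 := fun e => hzC (Subtype.ext e)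
  have hzQp : zQ ^ p = 1 := by
    have h := pow_card_eq_one' (x := zC)
    rw [hQ.2] at h
    exact congrArg Subtype.val h
  have hzQcen : Subgroup.center Q = Subgroup.zpowers zQ := by
    refine (Subgroup.eq_of_le_of_card_ge (Subgroup.zpowers_le.2 hzQc) ?_).symm
    rw [hQ.2, Nat.card_zpowers, orderOf_eq_prime hzQp hzQ1]
  have hzE' : (zQ : Ω) ∈ E := hcen.2 E (isConj_refl F hES) (mem_centralizerIn.2
    ⟨hQS zQ.2, fun x hx =>
      (congrArg Subtype.val (Subgroup.mem_center_iff.1 hzQc ⟨x, hEQ hx⟩) :).symm⟩)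
  let z : E := ⟨zQ, hzE'⟩
  have hz1 : z ≠ 1 := fun e => hzQ1 (Subtype.ext (congrArg Subtype.val e :))
  have hzp : z ^ p = 1 := Subtype.ext (congrArg Subtype.val hzQp :)
  have hcc : ∀ a b : Q, ⁅a, b⁆ ∈ Subgroup.center Q := fun a b => by
    rw [← hQ.1.2.2]
    exact Subgroup.commutator_mem_commutator (Subgroup.mem_top _) (Subgroup.mem_top _)
  have hlift : ∀ (w : Q) (y : E), (w : Ω) = y → w ∈ Subgroup.center Q → y ∈ Subgroup.zpowers z := by
    intro w y e hw
    rw [hzQcen] at hw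
    obtain ⟨i, rfl⟩ := Subgroup.mem_zpowers_iff.1 hw
    refine Subgroup.mem_zpowers_iff.2 ⟨i, Subtype.ext ?_⟩
    rw [← e, SubgroupClass.coe_zpow, SubgroupClass.coe_zpow]
  -- conjugation by elements of `Q`
  have hnorm : ∀ q : Q, (q : Ω) ∈ normalizerIn S E := by
    intro q
    refine mem_normalizerIn_of_conj (hQS q.2) fun x hx => ?_
    have h := hcc q ⟨x, hEQ hx⟩
    rw [hzQcen] at h
    obtain ⟨i, hi⟩ := Subgroup.mem_zpowers_iff.1 h
    have h2 : (q : Ω) * x * (q : Ω)⁻¹ = ((zQ ^ i : Q) : Ω) * x := by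
      rw [hi]; simp [commutatorElement_def]
    rw [h2, SubgroupClass.coe_zpow]
    exact mul_mem (zpow_mem hzE' i) hx
  set A := F.autGroup E with hA
  let c : Q →* A := (((normConj S E).comp
    ({ toFun := fun q => ⟨q, hnorm q⟩, map_one' := rfl, map_mul' := fun _ _ => rfl } :
      Q →* normalizerIn S E))).codRestrict A fun q =>
        autInducedBy_le_autGroup F le_rfl hES ((range_normConj S E).le ⟨_, rfl⟩)
  have hcapp : ∀ (q : Q) (y : E), (((c q : MulAut E) y : E) : Ω) = q * y * (q : Ω)⁻¹ := fun _ _ => rfl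
  have hcst : ∀ (q : Q) (y : E), y⁻¹ * (c q : MulAut E) y ∈ Subgroup.zpowers z := fun q y => by
    refine hlift ⁅(⟨y, hEQ y.2⟩ : Q)⁻¹, q⁆ _ ?_ (hcc _ _)
    rw [Subgroup.coe_mul, hcapp]
    simp [commutatorElement_def, mul_assoc]
  have hcz : ∀ q : Q, (c q : MulAut E) z = z := fun q => Subtype.ext (by
    rw [hcapp]
    exact mul_inv_eq_iff_eq_mul.2 (congrArg Subtype.val (Subgroup.mem_center_iff.1 hzQc q) :))
  by_cases hinv : ∀ α ∈ A, α z ∈ Subgroup.zpowers z
  · -- the centre is invariant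
    refine hne (le_antisymm hEQ fun q hq => ?_)
    have hin : ∀ α ∈ A, ∀ x ∈ Subgroup.zpowers z, α x ∈ Subgroup.zpowers z := by
      intro α hα x hx
      obtain ⟨i, rfl⟩ := Subgroup.mem_zpowers_iff.1 hx
      rw [map_zpow]
      exact zpow_mem (hinv α hα) i
    have hmem : c ⟨q, hq⟩ ∈ Cfsg.pCore p A := by
      refine FusionChain.mem_pCore_of_stabilizes_chain hEp A 2
        (fun i => match i with | 0 => ⊥ | 1 => Subgroup.zpowers z | _ => ⊤) rfl rfl ?_ ?_ _ ?_
      · intro i hi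
        rcases i with _ | _ | i
        · exact bot_le
        · exact le_top
        · omega
      · intro a ha i _ x hx
        rcases i with _ | _ | i
        · show a x ∈ (⊥ : Subgroup E)
          rw [show x = 1 from hx, map_one]
          exact one_mem _
        · exact hin a ha x hx
        · exact Subgroup.mem_top _
      · intro i hi x hx
        rcases i with _ | _ | i
        · show x⁻¹ * (c ⟨q, hq⟩ : MulAut E) x ∈ (⊥ : Subgroup E)
          obtain ⟨j, rfl⟩ := Subgroup.mem_zpowers_iff.1 hx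
          rw [map_zpow, hcz, inv_mul_cancel]
          exact one_mem _
        · exact hcst _ x
        · omega
    have hInn : (c ⟨q, hq⟩ : MulAut E) ∈ Cfsg.Inn E :=
      (FusionChain.isRadical_iff.1 r.radical).2.le ⟨c ⟨q, hq⟩, hmem, rfl⟩
    exact FusionChain.mem_of_conj_mem_inn r.cle (hQS hq) hES hInn fun x => hcapp ⟨q, hq⟩ x
  -- otherwise `E` is elementary abelian
  have hkey : ∀ w ∈ Subgroup.zpowers z, w ≠ 1 → ¬ ∀ α ∈ A, α w ∈ Subgroup.zpowers z := by
    intro w hw hw1 h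
    refine hinv fun α hα => ?_
    obtain ⟨j, hj⟩ := Subgroup.mem_zpowers_iff.1 (mem_zpowers_of_prime hzp hw hw1)
    rw [← hj, map_zpow, hj]
    exact zpow_mem (h α hα) j
  have hcommE : ∀ a b : E, ⁅a, b⁆ ∈ Subgroup.zpowers z := fun a b =>
    hlift ⁅(⟨a, hEQ a.2⟩ : Q), ⟨b, hEQ b.2⟩⁆ _ (by simp [commutatorElement_def]) (hcc _ _)
  have hab : ∀ a b : E, a * b = b * a := by
    intro a b
    by_contra h
    refine hkey _ (hcommE a b) (fun e => h (commutatorElement_eq_one_iff_mul_comm.1 e)) fun α _ => ?_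
    rw [map_commutatorElement]
    exact hcommE _ _
  have hpowE : ∀ a : E, a ^ p ∈ Subgroup.zpowers z := fun a =>
    hlift ((⟨a, hEQ a.2⟩ : Q) ^ p) _ rfl (hQ.1.2.1 ▸ PGroup.pow_mem_frattini hQ.1.1 _)
  have hexp : ∀ a : E, a ^ p = 1 := fun a => by
    by_contra h
    exact hkey _ (hpowE a) h fun α _ => (map_pow α a p).symm ▸ hpowE (α a)
  -- every element of `E` is centralized by some element of `Q` outside `E`
  have hfix : ∀ y : E, ∃ q : Q, (q : Ω) ∉ E ∧ (c q : MulAut E) y = y := by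
    intro y
    by_contra h
    push Not at h
    let EQ := E.subgroupOf Q
    have hEQc : Nat.card EQ = Nat.card E := Nat.card_congr (Subgroup.subgroupOfEquivOfLe hEQ).toEquiv
    have h1 := card_le_mul_centralizer hcc (⊤ : Subgroup Q) ⟨y, hEQ y.2⟩
    have h1' : ((⊤ : Subgroup Q) ⊓ Subgroup.centralizer {(⟨y, hEQ y.2⟩ : Q)}) ≤ EQ := by
      rintro q ⟨-, hq⟩
      by_contra hqE
      refine h q (fun hh => hqE (Subgroup.mem_subgroupOf.2 hh)) (Subtype.ext ?_)
      rw [hcapp]
      exact mul_inv_eq_iff_eq_mul.2 (congrArg Subtype.val (Subgroup.mem_centralizer_singleton_iff.1 hq) :)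
    replace h1 := h1.trans (Nat.mul_le_mul le_rfl (Subgroup.card_le_of_le h1'))
    rw [Subgroup.card_top, hQ.2, hEQc] at h1
    obtain ⟨q, hq, hqE⟩ := SetLike.exists_of_lt (lt_of_le_of_ne hEQ hne)
    have hqEQ : (⟨q, hq⟩ : Q) ∉ EQ := fun h => hqE (Subgroup.mem_subgroupOf.1 h)
    have hlt : EQ < EQ ⊔ Subgroup.zpowers (⟨q, hq⟩ : Q) := lt_of_le_of_ne le_sup_left fun e =>
      hqEQ (e ▸ Subgroup.mem_sup_right (Subgroup.mem_zpowers _))
    have htop : EQ ⊔ Subgroup.zpowers (⟨q, hq⟩ : Q) = ⊤ := Subgroup.eq_top_of_le_card _ (by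
      refine h1.trans ?_
      rw [← hEQc]
      exact PGroup.mul_card_le_of_lt hQ.1.1 hlt)
    have h2 := card_le_mul_centralizer hcc EQ (⟨q, hq⟩ : Q)
    have h2' : EQ ⊓ Subgroup.centralizer {(⟨q, hq⟩ : Q)} ≤ Subgroup.center Q := by
      rintro e ⟨he, heq⟩
      refine Subgroup.mem_center_iff.2 fun w => ?_
      have hle : EQ ⊔ Subgroup.zpowers (⟨q, hq⟩ : Q) ≤ Subgroup.centralizer {e} := by
        refine sup_le (fun v hv => Subgroup.mem_centralizer_singleton_iff.2 (Subtype.ext ?_))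
          (Subgroup.zpowers_le.2 (Subgroup.mem_centralizer_singleton_iff.2
            (Subgroup.mem_centralizer_singleton_iff.1 heq).symm))
        exact (congrArg Subtype.val
          (hab ⟨_, Subgroup.mem_subgroupOf.1 hv⟩ ⟨_, Subgroup.mem_subgroupOf.1 he⟩) :)
      exact Subgroup.mem_centralizer_singleton_iff.1 (hle (htop ▸ Subgroup.mem_top w))
    replace h2 := h2.trans (Nat.mul_le_mul le_rfl (Subgroup.card_le_of_le h2'))
    rw [hQ.2, hEQc] at h2
    have hScard : Nat.card S = p * Nat.card Q := by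
      rw [← Subgroup.index_mul_card (Q.subgroupOf S), hQi,
        Nat.card_congr (Subgroup.subgroupOfEquivOfLe hQS).toEquiv]
    have h3 : p ^ 6 ≤ p ^ 4 := by
      refine h6.trans ?_
      rw [hScard]
      calc p * Nat.card Q ≤ p * (p * (p * p)) :=
            Nat.mul_le_mul le_rfl (h1.trans (Nat.mul_le_mul le_rfl h2))
        _ = p ^ 4 := by ring
    exact absurd h3 (not_le.2 (Nat.pow_lt_pow_right hp'.one_lt (by norm_num)))
  have hc1 : ∀ q : Q, (q : Ω) ∉ E → c q ≠ 1 := fun q hq e => hq <| by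
    refine r.cle (mem_centralizerIn_of_conj (hQS q.2) fun x hx => ?_)
    have := hcapp q ⟨x, hx⟩
    rw [e] at this
    exact this.symm
  have hcp : ∀ q : Q, c q ≠ 1 → orderOf (c q) = p := by
    intro q hq
    refine orderOf_eq_prime (Subtype.ext (MulEquiv.ext fun y => ?_)) hq
    obtain ⟨i, hi⟩ := Subgroup.mem_zpowers_iff.1 (hcst q y)
    rw [eq_inv_mul_iff_mul_eq] at hi
    have hn : ∀ n : ℕ, ((c q : MulAut E) ^ n) y = y * (z ^ i) ^ n := by
      intro n
      induction n with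
      | zero => simp
      | succ n ih =>
        rw [pow_succ' (c q : MulAut E), MulAut.mul_apply, ih, map_mul, map_pow, map_zpow, hcz, ← hi,
          mul_assoc, ← pow_succ']
    rw [SubgroupClass.coe_pow, hn, hexp, mul_one]
    rfl
  -- strongly embedded subgroup
  set π := QuotientGroup.mk' ((Cfsg.Inn E).subgroupOf A) with hπ
  have hπi : Function.Injective π := by
    refine (injective_iff_map_eq_one π).2 fun a ha => ?_
    have ha' := (QuotientGroup.eq_one_iff a).1 ha
    obtain ⟨e, he⟩ := Subgroup.mem_subgroupOf.1 ha'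
    refine Subtype.ext ?_
    rw [← he]
    exact MulEquiv.ext fun y => by rw [MulAut.conj_apply, hab, inv_mul_cancel_left]; rfl
  have hT : IsPGroup p (π.comp c).range :=
    hQ.1.1.of_surjective (π.comp c).rangeRestrict (MonoidHom.rangeRestrict_surjective _)
  obtain ⟨P', hP'⟩ := hT.exists_le_sylow
  obtain ⟨P, hP⟩ := StrongPEmb.exists_sylow_le hH'
  obtain ⟨x, hx⟩ := MulAction.exists_smul_eq (A ⧸ (Cfsg.Inn E).subgroupOf A) P' P
  have hTH : ∀ q : Q, x * π (c q) * x⁻¹ ∈ H' := fun q => hP <| by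
    rw [← hx]
    exact Subgroup.smul_mem_pointwise_smul _ (MulAut.conj x) _ (hP' ⟨q, rfl⟩)
  have hmove : ∀ g : A, (g : MulAut E) z ∉ Subgroup.zpowers z → x * π g * x⁻¹ ∈ H' := by
    intro g hg
    obtain ⟨q, hqE, hqz⟩ := hfix ((g : MulAut E) z)
    obtain ⟨q₀, hq₀E, hq₀z⟩ := hfix ((g : MulAut E)⁻¹ z)
    set u : A := g * c q₀ * g⁻¹ with hu
    have huapp : ∀ y, (u : MulAut E) y = (g : MulAut E) ((c q₀ : MulAut E) ((g : MulAut E)⁻¹ y)) :=
      fun _ => rfl
    have hcomm : c q * u = u * c q := by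
      refine Subtype.ext (commute_of_lines hab (c q : MulAut E) (u : MulAut E) z ((g : MulAut E) z)
        (hcst q) (fun y => ?_) hqz ?_)
      · obtain ⟨i, hi⟩ := Subgroup.mem_zpowers_iff.1 (hcst q₀ ((g : MulAut E)⁻¹ y))
        refine Subgroup.mem_zpowers_iff.2 ⟨i, ?_⟩
        rw [huapp, ← map_zpow, hi, map_mul, map_inv, MulAut.apply_inv_self]
      · rw [huapp, hq₀z, MulAut.apply_inv_self]
    have ho : ∀ w : Q, (w : Ω) ∉ E → orderOf (x * π (c w) * x⁻¹) = p := fun w hw => by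
      rw [← MulAut.conj_apply, MulEquiv.orderOf_eq, orderOf_injective π hπi, hcp w (hc1 w hw)]
    have hu' : x * π u * x⁻¹ ∈ H' := by
      refine StrongPEmb.centralizer_le hH' (hTH q) (ho q hqE) ?_
      rw [Subgroup.mem_centralizer_singleton_iff]
      simp only [← MulAut.conj_apply, ← map_mul, hcomm]
    refine StrongPEmb.mem_of_conj_mem hH' (ho q₀ hq₀E) (hTH q₀) ?_
    convert hu' using 1
    rw [hu, map_mul, map_mul, map_inv]
    group
  refine hH'.2.1 ((Subgroup.eq_top_iff' H').2 fun w => ?_)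
  obtain ⟨g, hg⟩ := QuotientGroup.mk'_surjective ((Cfsg.Inn E).subgroupOf A) (x⁻¹ * w * x)
  have hgw : x * π g * x⁻¹ = w := by rw [hπ, hg]; group
  rw [← hgw]
  by_cases hgz : (g : MulAut E) z ∈ Subgroup.zpowers z
  · push Not at hinv
    obtain ⟨g₀, hg₀, hg₀z⟩ := hinv
    have h2 : ((⟨g₀, hg₀⟩ : A) * g : A).1 z ∉ Subgroup.zpowers z := by
      intro hh
      have hgz1 : (g : MulAut E) z ≠ 1 := fun e => hz1 ((map_eq_one_iff _ (g : MulAut E).injective).1 e)
      obtain ⟨j, hj⟩ := Subgroup.mem_zpowers_iff.1 (mem_zpowers_of_prime hzp hgz hgz1)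
      apply hg₀z
      rw [← hj, map_zpow, hj]
      exact zpow_mem hh j
    have := mul_mem (inv_mem (hmove _ (show (⟨g₀, hg₀⟩ : A).1 z ∉ _ from hg₀z))) (hmove _ h2)
    convert this using 1
    rw [map_mul]
    group
  · exact hmove g hgz

end Cfsg.Agent.S5179
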