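import Cfsg.Statements.S5187
import Cfsg.Agent.Lib.EssentialSmall.Basic

set_option autoImplicit false
universe u
open Cfsg

namespace Cfsg.Agent.S5187

open Cfsg.Agent.EssentialSmall

theorem end_mul_apply {M : Type*} [AddCommGroup M] (f g : AddMonoid.End M) (x : M) :
    (f * g) x = f (g x) := rfl

theorem end_sum_apply {M ι : Type*} [AddCommGroup M] (s : Finset ι) (f : ι → AddMonoid.End M)
    (x : M) : (∑ i ∈ s, f i) x = ∑ i ∈ s, f i x :=
  AddMonoidHom.finsetSum_apply f s x

theorem end_add_apply {M : Type*} [AddCommGroup M] (f g : AddMonoid.End M) (x : M) :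
    (f + g) x = f x + g x := rfl

section

variable {H : Type*} [CommGroup H] [Finite H] {p : ℕ} [hp : Fact p.Prime] {A : Subgroup (MulAut H)}

/-- The `p ^ i`-th powers. -/
def pw (H : Type*) [CommGroup H] (p i : ℕ) : Subgroup H := (powMonoidHom (p ^ i) : H →* H).range

omit [Finite H] hp in
theorem mem_pw {i : ℕ} {x : H} : x ∈ pw H p i ↔ ∃ y, y ^ p ^ i = x := Iff.rfl

omit [Finite H] hp in
theorem pw_invariant (a : MulAut H) (i : ℕ) : ∀ x ∈ pw H p i, a x ∈ pw H p i := by
  rintro _ ⟨y, rfl⟩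
  exact ⟨a y, (map_pow a y _).symm⟩

/-- An element stabilizing `pw 1 ≤ U ≤ ⊤` stabilizes a whole series, hence is trivial. -/
theorem eq_one_of_stab (s : Setting p A) (U : Subgroup H) (hU : pw H p 1 ≤ U)
    (hUi : ∀ a ∈ A, ∀ x ∈ U, a x ∈ U) {a : MulAut H} (ha : a ∈ A)
    (h1 : ∀ y : H, y⁻¹ * a y ∈ U) (h2 : ∀ y ∈ U, y⁻¹ * a y ∈ pw H p 1) : a = 1 := by
  refine (s.exists_orderOf mul_comm).1 a ha ?_
  obtain ⟨n, hn⟩ := IsPGroup.iff_card.1 s.pgroup
  have hbot : pw H p n = ⊥ := (Subgroup.eq_bot_iff_forall _).2 fun x hx => by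
    obtain ⟨y, rfl⟩ := hx
    show y ^ p ^ n = 1
    rw [← hn]
    exact pow_card_eq_one'
  refine s.mem_inn_of_chain (2 * n) (fun j => if j % 2 = 0 then pw H p (n - j / 2)
    else U.map (powMonoidHom (p ^ (n - j / 2 - 1)))) ?_ ?_ ?_ ?_ ha ?_
  · simp [hbot]
  · have h0 : 2 * n % 2 = 0 := by omega
    simp only [h0, if_true, show n - 2 * n / 2 = 0 by omega]
    exact (Subgroup.eq_top_iff' _).2 fun x => ⟨x, by simp⟩
  · intro j hj
    rcases Nat.mod_two_eq_zero_or_one j with h | h
    · simp only [h, if_true, show (j + 1) % 2 = 1 by omega, one_ne_zero, if_false,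
        show (j + 1) / 2 = j / 2 by omega]
      rintro _ ⟨y, rfl⟩
      refine ⟨y ^ p, hU ⟨y, by simp⟩, ?_⟩
      show (y ^ p) ^ p ^ (n - j / 2 - 1) = y ^ p ^ (n - j / 2)
      rw [← pow_mul, ← pow_succ', show n - j / 2 - 1 + 1 = n - j / 2 by omega]
    · simp only [h, one_ne_zero, if_false, show (j + 1) % 2 = 0 by omega, if_true,
        show n - (j + 1) / 2 = n - j / 2 - 1 by omega]
      rintro _ ⟨y, -, rfl⟩
      exact ⟨y, rfl⟩
  · intro b hb j _ x hx
    rcases Nat.mod_two_eq_zero_or_one j with h | h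
    · simp only [h, if_true] at hx ⊢
      exact pw_invariant b _ x hx
    · simp only [h, one_ne_zero, if_false] at hx ⊢
      obtain ⟨y, hy, rfl⟩ := hx
      exact ⟨b y, hUi b hb y hy, (map_pow b y _).symm⟩
  · intro j hj x hx
    rcases Nat.mod_two_eq_zero_or_one j with h | h
    · simp only [h, if_true, show (j + 1) % 2 = 1 by omega, one_ne_zero, if_false,
        show (j + 1) / 2 = j / 2 by omega] at hx ⊢
      obtain ⟨y, hy, rfl⟩ := hx
      obtain ⟨w, hw⟩ := h2 y hy
      refine ⟨w, ?_⟩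
      show w ^ p ^ (n - j / 2) = (y ^ p ^ (n - j / 2 - 1))⁻¹ * a (y ^ p ^ (n - j / 2 - 1))
      have hw' : w ^ p = y⁻¹ * a y := by simpa using hw
      rw [map_pow, ← inv_pow, ← mul_pow, ← hw', ← pow_mul, ← pow_succ',
        show n - j / 2 - 1 + 1 = n - j / 2 by omega]
    · simp only [h, one_ne_zero, if_false, show (j + 1) % 2 = 0 by omega, if_true,
        show n - (j + 1) / 2 = n - j / 2 - 1 by omega] at hx ⊢
      obtain ⟨y, rfl⟩ := hx
      refine ⟨y⁻¹ * a y, h1 y, ?_⟩
      show (y⁻¹ * a y) ^ p ^ (n - j / 2 - 1) = _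
      simp [mul_pow]

/-- The endomorphism of the additive group given by an automorphism. -/
def toEnd (a : MulAut H) : AddMonoid.End (Additive H) := MonoidHom.toAdditive a.toMonoidHom

omit [Finite H] hp in
theorem toEnd_pow (a : MulAut H) : ∀ (n : ℕ) (x : Additive H),
    (toEnd a ^ n) x = Additive.ofMul ((a ^ n) x.toMul)
  | 0, x => rfl
  | n + 1, x => by
    rw [pow_succ', end_mul_apply, toEnd_pow a n x, pow_succ',
      MulAut.mul_apply]
    rfl

theorem main (s : Setting p A) (hidx : (pw H p 1).index ≤ p ^ 2) :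
    ((∀ x : H, x ^ p = 1) ∧ Nat.card H = p ^ 2) ∨
      (p ≤ 3 ∧ ∃ k : ℕ, Nonempty (H ≃* Multiplicative (ZMod (p ^ k) × ZMod (p ^ k)))) := by
  have hH := s.pgroup
  set P := pw H p 1
  have hmemP : ∀ y : H, y ^ p ∈ P := fun y => ⟨y, by simp⟩
  obtain ⟨a, ha, ha1, hap⟩ := (s.exists_orderOf mul_comm).2
  have hak : a ^ p ^ 1 = 1 := by rw [pow_one, hap]
  have hPi : ∀ b ∈ A, ∀ x ∈ P, b x ∈ P := fun b _ => pw_invariant b 1
  -- a proper subgroup strictly between is not invariant
  have hno : ∀ U : Subgroup H, P ≤ U → (∀ b ∈ A, ∀ x ∈ U, b x ∈ U) →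
      Nat.card H ≤ p * Nat.card U → Nat.card U ≤ p * Nat.card P → False := by
    intro U hPU hUi hc1 hc2
    refine ha1 (eq_one_of_stab s U hPU hUi ha (fun y => ?_) fun y hy => ?_)
    · exact mul_apply_mem_of_card_le hH le_top (by rwa [Subgroup.card_top]) hak (hUi a ha)
        (fun _ _ => Subgroup.mem_top _) (Subgroup.mem_top y)
    · exact mul_apply_mem_of_card_le hH hPU hc2 hak (hPi a ha) (hUi a ha) hy
  have hcardP : Nat.card H = p ^ 2 * Nat.card P := by
    have h := P.index_mul_card
    obtain ⟨n, hn⟩ := IsPGroup.iff_card.1 hH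
    obtain ⟨i, -, hi⟩ := (Nat.dvd_prime_pow hp.out).1 (hn ▸ P.index_dvd_card)
    rcases i with _ | _ | i
    · exfalso
      refine hno ⊤ le_top (fun _ _ _ _ => Subgroup.mem_top _) ?_ ?_
      · rw [Subgroup.card_top]; exact Nat.le_mul_of_pos_left _ hp.out.pos
      · rw [Subgroup.card_top, ← h, hi, pow_zero, one_mul]; exact Nat.le_mul_of_pos_left _ hp.out.pos
    · exfalso
      refine hno ⊤ le_top (fun _ _ _ _ => Subgroup.mem_top _) ?_ ?_
      · rw [Subgroup.card_top]; exact Nat.le_mul_of_pos_left _ hp.out.pos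
      · rw [Subgroup.card_top, ← h, hi, pow_one]
    · have : i = 0 := by
        rw [hi] at hidx
        have := (Nat.pow_le_pow_iff_right hp.out.one_lt).1 hidx
        omega
      rw [← h, hi, this]
  obtain ⟨n, hn⟩ := IsPGroup.iff_card.1 hH
  have hex : ∃ e, ∀ x : H, x ^ p ^ e = 1 := ⟨n, fun x => hn ▸ pow_card_eq_one'⟩
  obtain ⟨e, he, hmin⟩ : ∃ e, (∀ x : H, x ^ p ^ e = 1) ∧ ∀ d < e, ∃ x : H, x ^ p ^ d ≠ 1 := by
    classical
    exact ⟨Nat.find hex, Nat.find_spec hex, fun d hd => by simpa using Nat.find_min hex hd⟩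
  have hne : ∃ x : H, x ≠ 1 := by
    by_contra h
    push Not at h
    exact ha1 (MulEquiv.ext fun x => by rw [h x, MulAut.one_apply, map_one])
  have he0 : e ≠ 0 := by
    rintro rfl
    obtain ⟨x, hx⟩ := hne
    exact hx (by simpa using he x)
  -- the kernel of the highest power is the Frattini subgroup
  set K := (powMonoidHom (p ^ (e - 1)) : H →* H).ker
  have hPK : P ≤ K := by
    rintro _ ⟨y, rfl⟩
    show (y ^ p ^ 1) ^ p ^ (e - 1) = 1
    rw [← pow_mul, ← pow_add, show 1 + (e - 1) = e by omega, he]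
  have hKP : K = P := by
    by_contra hne'
    have hlt : P < K := lt_of_le_of_ne hPK (Ne.symm hne')
    have hKtop : K ≠ ⊤ := by
      obtain ⟨x, hx⟩ := hmin (e - 1) (by omega)
      exact fun h => hx (show x ∈ K from h ▸ Subgroup.mem_top x)
    have h1 : p * Nat.card P ≤ Nat.card K := PGroup.mul_card_le_of_lt hH hlt
    have h2 : p * Nat.card K ≤ Nat.card H := by
      have := PGroup.mul_card_le_of_lt hH (lt_top_iff_ne_top.2 hKtop)
      rwa [Subgroup.card_top] at this
    refine hno K hPK (fun b _ x hx => ?_) ?_ ?_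
    · show (b x) ^ p ^ (e - 1) = 1
      rw [← map_pow, show x ^ p ^ (e - 1) = 1 from hx, map_one]
    · calc Nat.card H = p * (p * Nat.card P) := by rw [hcardP]; ring
        _ ≤ p * Nat.card K := Nat.mul_le_mul_left _ h1
    · have h3 : p * Nat.card K ≤ p * (p * Nat.card P) := by
        rw [← mul_assoc, ← pow_two, ← hcardP]; exact h2
      exact Nat.le_of_mul_le_mul_left h3 hp.out.pos
  rcases Nat.lt_or_ge e 2 with he2 | he2
  · left
    obtain rfl : e = 1 := by omega
    have hexp : ∀ x : H, x ^ p = 1 := fun x => by simpa using he x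
    refine ⟨hexp, ?_⟩
    have : P = ⊥ := (Subgroup.eq_bot_iff_forall _).2 fun x hx => by
      obtain ⟨y, rfl⟩ := hx
      show y ^ p ^ 1 = 1
      rw [pow_one]; exact hexp y
    rw [hcardP, this, Subgroup.card_bot, mul_one]
  right
  refine ⟨?_, e, ?_⟩
  · -- the bound on `p`
    by_contra hp3
    push Not at hp3
    set N : AddMonoid.End (Additive H) := toEnd a - 1 with hN
    have hNapp : ∀ x, N x = Additive.ofMul (x.toMul⁻¹ * a x.toMul) := by
      intro x
      show Additive.ofMul (a x.toMul) - x = _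
      rw [sub_eq_neg_add]
      rfl
    set P₂ := pw H p 2
    have hsum : ∑ k ∈ Finset.range p, (p.choose (k + 1) : AddMonoid.End (Additive H)) * N ^ (k + 1) = 0 := by
      have h1 : (N + 1) ^ p = 1 := by
        rw [hN, sub_add_cancel]
        ext x
        rw [toEnd_pow, hap]
        rfl
      rw [(Commute.one_right N).add_pow, Finset.sum_range_succ'] at h1
      simp only [one_pow, mul_one, pow_zero, Nat.choose_zero_right, Nat.cast_one,
        add_eq_right] at h1
      rw [← h1]
      exact Finset.sum_congr rfl fun k _ => (Nat.cast_commute _ _).eq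
    have hPsm : ∀ (i : ℕ) (b : Additive H), b.toMul ∈ pw H p i →
        ∀ (M : AddMonoid.End (Additive H)), (M b).toMul ∈ pw H p i := by
      intro i b hb M
      obtain ⟨w, hw⟩ := hb
      refine ⟨(M (Additive.ofMul w)).toMul, ?_⟩
      have hbw : b = p ^ i • Additive.ofMul w := by
        rw [← ofMul_pow]; exact congrArg Additive.ofMul hw.symm
      rw [hbw, map_nsmul]
      rfl
    have hPadd : ∀ (i : ℕ) (f : ℕ → Additive H) (s : Finset ℕ),
        (∀ k ∈ s, (f k).toMul ∈ pw H p i) → (∑ k ∈ s, f k).toMul ∈ pw H p i := by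
      intro i f s hf
      rw [toMul_sum]
      exact Subgroup.prod_mem _ hf
    -- an element outside `P` fixed modulo `P`
    set B : Subgroup H := {
      carrier := {x | x⁻¹ * a x ∈ P}
      one_mem' := by simp
      mul_mem' := fun {u v} hu hv => by
        show (u * v)⁻¹ * a (u * v) ∈ P
        rw [map_mul, mul_inv, mul_mul_mul_comm]
        exact mul_mem hu hv
      inv_mem' := fun {u} hu => by
        show u⁻¹⁻¹ * a u⁻¹ ∈ P
        rw [map_inv, ← mul_inv]
        exact inv_mem hu }
    have hPB : P ≤ B := fun x hx => mul_mem (inv_mem hx) (hPi a ha x hx)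
    have hnil : ∀ x, ((N ^ p) x).toMul ∈ P := by
      intro x
      have h1 := congrArg (fun E : AddMonoid.End (Additive H) => E x) hsum
      obtain ⟨q, hq⟩ : ∃ q, p = q + 1 := ⟨p - 1, by omega⟩
      have hr : Finset.range p = Finset.range (q + 1) := by rw [hq]
      simp only [hr, Finset.sum_range_succ] at h1
      rw [show p.choose (q + 1) = 1 by rw [← hq, Nat.choose_self], Nat.cast_one, one_mul, ← hq,
        end_add_apply, AddMonoid.End.zero_apply, add_eq_zero_iff_eq_neg] at h1
      have h2 : ((∑ k ∈ Finset.range q, (p.choose (k + 1) : AddMonoid.End (Additive H)) *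
          N ^ (k + 1)) x).toMul ∈ P := by
        rw [end_sum_apply]
        refine hPadd 1 _ _ fun k hk => ?_
        obtain ⟨c, hc⟩ := hp.out.dvd_choose_self (k := k + 1) (by omega)
          (by have := Finset.mem_range.1 hk; omega)
        rw [hc, end_mul_apply, AddMonoid.End.natCast_apply,
          mul_comm p c, mul_smul]
        refine hPsm 1 _ ?_ ((c : AddMonoid.End (Additive H)))
        exact ⟨((N ^ (k + 1)) x).toMul, by simp⟩
      rw [h1] at h2
      simpa using h2
    have hidxB : Nat.card H ≤ p * Nat.card B := by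
      obtain ⟨x, hx⟩ : ∃ x : H, x ∉ P := by
        obtain ⟨x, hx⟩ := hmin (e - 1) (by omega)
        exact ⟨x, fun h => hx (hPK h)⟩
      have hex' : ∃ k, ((N ^ k) (Additive.ofMul x)).toMul ∈ P := ⟨p, hnil _⟩
      classical
      obtain ⟨k, hk⟩ : ∃ k, Nat.find hex' = k + 1 := by
        refine Nat.exists_eq_succ_of_ne_zero fun h0 => hx ?_
        have := Nat.find_spec hex'
        rwa [h0, pow_zero] at this
      have h1 := Nat.find_spec hex'
      rw [hk, pow_succ', end_mul_apply, hNapp] at h1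
      have hlt : P < B := lt_of_le_of_ne hPB fun he' =>
        Nat.find_min hex' (show k < Nat.find hex' by omega) (he' ▸ h1)
      have := Nat.mul_le_mul_left p (PGroup.mul_card_le_of_lt hH hlt)
      rw [hcardP]
      calc p ^ 2 * Nat.card P = p * (p * Nat.card P) := by ring
        _ ≤ _ := this
    have hN2 : ∀ x, (N (N x)).toMul ∈ P := by
      intro x
      rw [hNapp (N x)]
      refine (show (N x).toMul ∈ B from ?_)
      rw [hNapp]
      exact mul_apply_mem_of_card_le hH le_top (by rwa [Subgroup.card_top]) hak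
        (fun u hu => by
          have h := hPi a ha _ hu
          rw [map_mul, map_inv] at h
          exact h)
        (fun _ _ => Subgroup.mem_top _) (Subgroup.mem_top _)
    have hN4 : ∀ x, (N (N (N (N x)))).toMul ∈ P₂ := by
      intro x
      obtain ⟨w, hw⟩ := hN2 x
      obtain ⟨w', hw'⟩ := hN2 (Additive.ofMul w)
      refine ⟨w', ?_⟩
      have h2 : N (N x) = p • Additive.ofMul w := by
        rw [← ofMul_pow]; exact congrArg Additive.ofMul ((show w ^ p ^ 1 = _ from hw).symm.trans (by rw [pow_one]))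
      have h3 : N (N (Additive.ofMul w)) = p • Additive.ofMul w' := by
        rw [← ofMul_pow]; exact congrArg Additive.ofMul ((show w' ^ p ^ 1 = _ from hw').symm.trans (by rw [pow_one]))
      rw [h2, map_nsmul, map_nsmul, h3, smul_smul, ← pow_two]
      rfl
    have hP2 : ∀ x, (p • N x).toMul ∈ P₂ := by
      intro x
      have h1 := congrArg (fun E : AddMonoid.End (Additive H) => E x) hsum
      obtain ⟨q, hq⟩ : ∃ q, p = q + 1 := ⟨p - 1, by omega⟩
      have hr : Finset.range p = Finset.range (q + 1) := by rw [hq]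
      simp only [hr, Finset.sum_range_succ'] at h1
      rw [pow_one, Nat.choose_one_right, end_add_apply, AddMonoid.End.zero_apply,
        add_eq_zero_iff_eq_neg', end_mul_apply,
        AddMonoid.End.natCast_apply] at h1
      rw [h1]
      refine inv_mem ?_
      rw [end_sum_apply]
      refine hPadd 2 _ _ fun k hk => ?_
      have hk' := Finset.mem_range.1 hk
      rw [end_mul_apply]
      by_cases hlast : k + 1 + 1 = p
      · refine hPsm 2 _ ?_ _
        obtain ⟨m, hm⟩ : ∃ m, k + 1 + 1 = m + 4 := ⟨k - 2, by omega⟩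
        rw [hm, pow_add, (Commute.pow_pow_self N m 4).eq, end_mul_apply]
        exact hN4 _
      · obtain ⟨c, hc⟩ := hp.out.dvd_choose_self (k := k + 1 + 1) (by omega) (by omega)
        rw [AddMonoid.End.natCast_apply, hc, mul_comm p c, mul_smul]
        refine hPsm 2 _ ?_ ((c : AddMonoid.End (Additive H)))
        obtain ⟨w, hw⟩ := hN2 ((N ^ k) x)
        refine ⟨w, ?_⟩
        rw [pow_succ' N, pow_succ' N, end_mul_apply, end_mul_apply]
        show w ^ p ^ 2 = ((N (N ((N ^ k) x))).toMul) ^ p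
        rw [← hw]
        simp [← pow_mul, pow_two]
    refine ha1 (eq_one_of_stab s ⊤ le_top (fun _ _ _ _ => Subgroup.mem_top _) ha
      (fun _ => Subgroup.mem_top _) fun y _ => ?_)
    obtain ⟨w, hw⟩ := hP2 (Additive.ofMul y)
    have hw' : w ^ p ^ 2 = (y⁻¹ * a y) ^ p := by
      rw [hNapp] at hw
      rw [mul_pow, inv_pow]
      simpa using hw
    have hk : (y⁻¹ * a y) * (w ^ p)⁻¹ ∈ K := by
      show ((y⁻¹ * a y) * (w ^ p)⁻¹) ^ p ^ (e - 1) = 1
      have h1 : ((y⁻¹ * a y) * (w ^ p)⁻¹) ^ p = 1 := by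
        rw [mul_pow, inv_pow, ← pow_mul, ← pow_two, hw', mul_inv_cancel]
      rw [show e - 1 = 1 + (e - 2) by omega, pow_add, pow_one, pow_mul, h1, one_pow]
    rw [hKP] at hk
    have := mul_mem hk (hmemP w)
    rwa [inv_mul_cancel_right] at this
  · -- the homocyclic structure
    obtain ⟨x, hx⟩ : ∃ x : H, x ∉ P := by
      obtain ⟨x, hx⟩ := hmin (e - 1) (by omega)
      exact ⟨x, fun h => hx (hPK h)⟩
    have hxlt : P < Subgroup.zpowers x ⊔ P :=
      lt_of_le_of_ne le_sup_right fun h => hx (h ▸ Subgroup.mem_sup_left (Subgroup.mem_zpowers x))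
    have hfr : frattini H = P := by
      refine le_antisymm (PGroup.frattini_le_of_quotient_elementary ?_ hmemP) ?_
      · rw [(commutator_eq_bot_iff_center_eq_top _).2 (Subgroup.eq_top_iff' _ |>.2 fun g =>
          Subgroup.mem_center_iff.2 fun h => mul_comm h g)]
        exact bot_le
      · rintro _ ⟨y, rfl⟩
        simpa using PGroup.pow_mem_frattini hH y
    have hdecomp : ∀ (v : H), v ∉ P → ∀ (Q : Subgroup H), P ≤ Q → ∀ m : ℤ, v ^ m ∈ Q → v ∉ Q →
        (p : ℤ) ∣ m := by
      intro v _ Q hPQ m hm hvQ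
      by_contra hd
      refine hvQ ?_
      have hg := Int.gcd_eq_gcd_ab m p
      rw [show Int.gcd m p = 1 from Int.isCoprime_iff_gcd_eq_one.1
        (((Nat.prime_iff_prime_int.1 hp.out).coprime_iff_not_dvd.2 hd).symm)] at hg
      have := mul_mem (zpow_mem hm (Int.gcdA m p)) (hPQ (zpow_mem (hmemP v) (Int.gcdB m p)))
      rwa [← zpow_natCast, ← zpow_mul, ← zpow_mul, ← zpow_add, ← hg, Nat.cast_one, zpow_one] at this
    obtain ⟨y, hy⟩ : ∃ y, y ∉ Subgroup.zpowers x ⊔ P := by
      by_contra h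
      push Not at h
      have h1 : Subgroup.zpowers x ⊔ frattini H = ⊤ := hfr ▸ (Subgroup.eq_top_iff' _).2 h
      have h2 := PGroup.eq_top_of_sup_frattini h1
      -- then `P` has index `p`
      refine hno ⊤ le_top (fun _ _ _ _ => Subgroup.mem_top _) ?_ ?_
      · rw [Subgroup.card_top]; exact Nat.le_mul_of_pos_left _ hp.out.pos
      · have hle : Nat.card H ≤ p * Nat.card P := by
          let f : Fin p × P → H := fun t => x ^ (t.1 : ℕ) * t.2
          have hf : Function.Surjective f := by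
            intro w
            obtain ⟨m, rfl⟩ := Subgroup.mem_zpowers_iff.1 (h2 ▸ Subgroup.mem_top w)
            have hp0 : (0 : ℤ) < p := by exact_mod_cast hp.out.pos
            refine ⟨(⟨(m % p).toNat, by
              have := Int.emod_lt_of_pos m hp0; omega⟩, ⟨(x ^ p) ^ (m / p), zpow_mem (hmemP x) _⟩), ?_⟩
            show x ^ (m % p).toNat * (x ^ p) ^ (m / p) = x ^ m
            rw [← zpow_natCast, ← zpow_natCast x p, ← zpow_mul, ← zpow_add,
              Int.toNat_of_nonneg (Int.emod_nonneg _ hp0.ne'), Int.emod_add_mul_ediv]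
          have := Nat.card_le_card_of_surjective f hf
          rwa [Nat.card_prod, Nat.card_fin] at this
        rwa [Subgroup.card_top]
    have hgen : Subgroup.zpowers x ⊔ Subgroup.zpowers y = ⊤ := by
      refine PGroup.eq_top_of_sup_frattini ?_
      rw [hfr]
      refine Subgroup.eq_top_of_card_eq _ (le_antisymm (Subgroup.card_le_card_group _) ?_)
      have h1 := PGroup.mul_card_le_of_lt hH hxlt
      have h2 : p * Nat.card ↥(Subgroup.zpowers x ⊔ P) ≤
          Nat.card ↥(Subgroup.zpowers x ⊔ Subgroup.zpowers y ⊔ P) :=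
        PGroup.mul_card_le_of_lt hH (lt_of_le_of_ne
          (sup_le (le_sup_left.trans le_sup_left) le_sup_right) fun h =>
          hy (h ▸ Subgroup.mem_sup_left (Subgroup.mem_sup_right (Subgroup.mem_zpowers y))))
      calc Nat.card H = p * (p * Nat.card P) := by rw [hcardP]; ring
        _ ≤ p * Nat.card ↥(Subgroup.zpowers x ⊔ P) := Nat.mul_le_mul_left _ h1
        _ ≤ _ := h2
    have hind : ∀ m l : ℤ, x ^ m * y ^ l ∈ P → (p : ℤ) ∣ m ∧ (p : ℤ) ∣ l := by
      intro m l h
      have hyP : y ∉ P := fun h' => hy (Subgroup.mem_sup_right h')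
      have hl : (p : ℤ) ∣ l := by
        refine hdecomp y hyP (Subgroup.zpowers x ⊔ P) le_sup_right l ?_ hy
        have h1 : (x ^ m)⁻¹ * (x ^ m * y ^ l) ∈ Subgroup.zpowers x ⊔ P :=
          mul_mem (inv_mem (Subgroup.mem_sup_left (zpow_mem (Subgroup.mem_zpowers x) m)))
            (Subgroup.mem_sup_right h)
        rwa [inv_mul_cancel_left] at h1
      refine ⟨hdecomp x hx P le_rfl m ?_ hx, hl⟩
      obtain ⟨c, rfl⟩ := hl
      have h1 : y ^ ((p : ℤ) * c) ∈ P := by
        rw [zpow_mul, zpow_natCast]; exact zpow_mem (hmemP y) c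
      have := mul_mem h (inv_mem h1)
      rwa [mul_inv_cancel_right] at this
    have hinj : ∀ m l : ℤ, x ^ m * y ^ l = 1 → ((p ^ e : ℕ) : ℤ) ∣ m ∧ ((p ^ e : ℕ) : ℤ) ∣ l := by
      intro m l h
      suffices ∀ d ≤ e, ((p ^ d : ℕ) : ℤ) ∣ m ∧ ((p ^ d : ℕ) : ℤ) ∣ l from this e le_rfl
      intro d
      induction d with
      | zero => simp
      | succ d ih =>
        intro hd
        obtain ⟨⟨m', hm⟩, l', hl⟩ := ih (by omega)
        have hwK : x ^ m' * y ^ l' ∈ K := by
          show (x ^ m' * y ^ l') ^ p ^ (e - 1) = 1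
          rw [show e - 1 = d + (e - 1 - d) by omega, pow_add, pow_mul]
          have : (x ^ m' * y ^ l') ^ p ^ d = 1 := by
            rw [← h, hm, hl, mul_comm ((p ^ d : ℕ) : ℤ), mul_comm ((p ^ d : ℕ) : ℤ), zpow_mul, zpow_mul,
              zpow_natCast, zpow_natCast, mul_pow]
          rw [this, one_pow]
        rw [hKP] at hwK
        obtain ⟨⟨m'', hm''⟩, l'', hl''⟩ := hind m' l' hwK
        refine ⟨⟨m'', ?_⟩, ⟨l'', ?_⟩⟩
        · rw [hm, hm'', pow_succ, Nat.cast_mul, mul_assoc]
        · rw [hl, hl'', pow_succ, Nat.cast_mul, mul_assoc]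
    haveI : NeZero (p ^ e) := ⟨pow_ne_zero _ hp.out.ne_zero⟩
    let ψ : Multiplicative (ZMod (p ^ e) × ZMod (p ^ e)) →* H := MonoidHom.mk'
      (fun v => x ^ v.toAdd.1.val * y ^ v.toAdd.2.val) fun u v => by
        have hmod : ∀ (w : H) (i j : ZMod (p ^ e)), w ^ (i + j).val = w ^ i.val * w ^ j.val := by
          intro w i j
          rw [← pow_add, ZMod.val_add, ← pow_eq_pow_mod _ (he w)]
        simp only [toAdd_mul, Prod.fst_add, Prod.snd_add, hmod]
        exact mul_mul_mul_comm _ _ _ _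
    have hψi : Function.Injective ψ := by
      refine (injective_iff_map_eq_one ψ).2 fun v hv => ?_
      have h := hinj v.toAdd.1.val v.toAdd.2.val (by rw [zpow_natCast, zpow_natCast]; exact hv)
      rw [Int.natCast_dvd_natCast, Int.natCast_dvd_natCast] at h
      have h1 := Nat.eq_zero_of_dvd_of_lt h.1 (ZMod.val_lt _)
      have h2 := Nat.eq_zero_of_dvd_of_lt h.2 (ZMod.val_lt _)
      rw [ZMod.val_eq_zero] at h1 h2
      exact Multiplicative.toAdd.injective (Prod.ext h1 h2)
    have hψs : Function.Surjective ψ := by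
      rw [← MonoidHom.range_eq_top, eq_top_iff, ← hgen]
      have h1 : ((1 : ZMod (p ^ e))).val = 1 := by
        haveI : Fact (1 < p ^ e) := ⟨Nat.one_lt_pow he0 hp.out.one_lt⟩
        exact ZMod.val_one _
      refine sup_le (Subgroup.zpowers_le.2 ⟨Multiplicative.ofAdd (1, 0), ?_⟩)
        (Subgroup.zpowers_le.2 ⟨Multiplicative.ofAdd (0, 1), ?_⟩)
      · simp [ψ, h1]
      · simp [ψ, h1]
    exact ⟨(MulEquiv.ofBijective ψ ⟨hψi, hψs⟩).symm⟩

end

/-- Let F be a saturated fusion system over a finite p-group S and H an abelian essential subgroup that can be generated by two elements (its Frattini quotient has order at most p²). Then H is elementary abelian of order p², or p ≤ 3 and H is homocyclic of rank two, that is isomorphic to C_{pᵏ} × C_{pᵏ} for some k. -/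
theorem result {Ω : Type u} [Group Ω] {S : Subgroup Ω} [Finite S] (p : ℕ) [Fact p.Prime] (hS : IsPGroup p S)
    (F : Cfsg.FusionSystem S) (hF : F.IsSaturated p) (H : Subgroup Ω) (hH : F.IsEssential p H) (hab : IsMulCommutative ↥H) (hrk : (frattini ↥H).index ≤ p ^ 2) :
    (Cfsg.IsElementaryAbelian p H ∧ Nat.card H = p ^ 2) ∨
      (p ≤ 3 ∧ ∃ k : ℕ, Nonempty (↥H ≃* Multiplicative (ZMod (p ^ k) × ZMod (p ^ k)))) := by
  have hs := setting_of_essential hS hF hH
  haveI := Fusion.finite_of_le (S := S) hH.1.1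
  letI : CommGroup H :=
    { (inferInstance : Group H) with mul_comm := fun a b => hab.is_comm.comm a b }
  have hidx : (pw H p 1).index ≤ p ^ 2 := by
    refine le_trans (le_of_eq ?_) hrk
    congr 1
    refine le_antisymm ?_ (PGroup.frattini_le_of_quotient_elementary (p := p) ?_ fun x => ⟨x, by simp⟩)
    · rintro _ ⟨y, rfl⟩
      simpa using PGroup.pow_mem_frattini hs.pgroup y
    · rw [(commutator_eq_bot_iff_center_eq_top _).2 (Subgroup.eq_top_iff' _ |>.2 fun g =>
        Subgroup.mem_center_iff.2 fun h => mul_comm h g)]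
      exact bot_le
  rcases main hs hidx with ⟨hexp, hc⟩ | h
  · exact .inl ⟨⟨hab, fun a ha => congrArg Subtype.val (hexp ⟨a, ha⟩)⟩, hc⟩
  · exact .inr h

end Cfsg.Agent.S5187
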