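import Cfsg.Statements.S5188
import Cfsg.Agent.Lib.EssentialSmall.OrderFour
import Cfsg.Agent.S5187
-- import your own Cfsg.Agent.* helpers here

set_option autoImplicit false
universe u
open Cfsg

namespace Cfsg.Agent.S5188

open Cfsg.Agent.EssentialSmall

/-- Let F be a saturated fusion system over a finite p-group S and H an essential subgroup of order p⁴. Then H is isomorphic to one of: C_p⁴ or C_{p²} × C_p × C_p (any p); C_{p²} × C_{p²} with p ∈ {2, 3}; p^{1+2}_+ × C_p with p odd (the direct product of an extraspecial group of order p³ and exponent p with a group of order p); Q₈ × C₂ (p = 2); or the non-abelian group of order p⁴ of exponent p² whose centre is cyclic of order p² (the central product of an extraspecial group of order p³ with a cyclic group of order p²; for p = 2 this is D₈ ∘ C₄). -/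
theorem result {Ω : Type u} [Group Ω] {S : Subgroup Ω} [Finite S] (p : ℕ) [Fact p.Prime] (hS : IsPGroup p S)
    (F : Cfsg.FusionSystem S) (hF : F.IsSaturated p) (H : Subgroup Ω) (hH : F.IsEssential p H) (hcard : Nat.card H = p ^ 4) :
    Cfsg.IsElementaryAbelian p H ∨
      Nonempty (↥H ≃* Multiplicative (ZMod (p ^ 2) × ZMod p × ZMod p)) ∨
      ((p = 2 ∨ p = 3) ∧ Nonempty (↥H ≃* Multiplicative (ZMod (p ^ 2) × ZMod (p ^ 2)))) ∨
      (Odd p ∧ ∃ (E : Type) (_ : Group E) (_ : Finite E), Cfsg.IsExtraspecial p E ∧ Nat.card E = p ^ 3 ∧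
        (∀ x : E, x ^ p = 1) ∧ Nonempty (↥H ≃* E × Multiplicative (ZMod p))) ∨
      (p = 2 ∧ Nonempty (↥H ≃* QuaternionGroup 2 × Multiplicative (ZMod 2))) ∨
      (¬ IsMulCommutative ↥H ∧ (∀ x ∈ H, x ^ (p ^ 2) = 1) ∧ IsCyclic ↥(Subgroup.center ↥H) ∧
        Nat.card (Subgroup.center ↥H) = p ^ 2) := by
  have hs := setting_of_essential hS hF hH
  haveI := Fusion.finite_of_le (S := S) hH.1.1
  have hp : p.Prime := Fact.out
  by_cases hab : ∀ x y : H, x * y = y * x
  · by_cases hexp : ∀ x : H, x ^ p = 1
    · exact .inl ⟨⟨⟨hab⟩⟩, fun a ha => congrArg Subtype.val (hexp ⟨a, ha⟩)⟩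
    push Not at hexp
    by_cases hrk : (frattini H).index ≤ p ^ 2
    · rcases S5187.result p hS F hF H hH ⟨⟨hab⟩⟩ hrk with ⟨-, hc⟩ | ⟨hp3, k, ⟨e⟩⟩
      · rw [hcard] at hc
        exact absurd (Nat.pow_right_injective hp.two_le hc) (by norm_num)
      · refine .inr (.inr (.inl ⟨?_, ?_⟩))
        · have := hp.two_le
          omega
        · haveI : NeZero (p ^ k) := ⟨pow_ne_zero _ hp.ne_zero⟩
          have h1 := Nat.card_congr e.toEquiv
          rw [hcard, Nat.card_congr (Multiplicative.toAdd :
            Multiplicative (ZMod (p ^ k) × ZMod (p ^ k)) ≃ _), Nat.card_prod, Nat.card_zmod,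
            ← pow_add] at h1
          have h2 := Nat.pow_right_injective hp.two_le h1
          obtain rfl : k = 2 := by omega
          exact ⟨e⟩
    · refine .inr (.inl (abelian_rank_three hcard hab ?_ hexp))
      push Not at hrk
      have hfr : Subgroup.closure {y : H | ∃ x, y = x ^ p} ≤ frattini H := by
        rw [Subgroup.closure_le]
        rintro _ ⟨x, rfl⟩
        exact PGroup.pow_mem_frattini hs.pgroup x
      refine le_trans (Subgroup.card_le_of_le hfr) ?_
      obtain ⟨i, -, hi⟩ := (Nat.dvd_prime_pow hp).1 (hcard ▸ Subgroup.index_dvd_card (frattini H))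
      have h1 := Subgroup.index_mul_card (frattini H)
      rw [hi] at hrk h1
      rw [hcard] at h1
      have hi3 : 2 < i := (Nat.pow_lt_pow_iff_right hp.one_lt).1 hrk
      by_contra hlt
      push Not at hlt
      have : p ^ i * p < p ^ 4 := by
        rw [← h1]
        exact Nat.mul_lt_mul_of_pos_left hlt (pow_pos hp.pos _)
      rw [← pow_succ, Nat.pow_lt_pow_iff_right hp.one_lt] at this
      omega
  rcases nonabelian_order_four hs hcard hab with h | h | ⟨h1, h2, h3⟩
  · exact .inr (.inr (.inr (.inl h)))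
  · exact .inr (.inr (.inr (.inr (.inl h))))
  · exact .inr (.inr (.inr (.inr (.inr ⟨fun h => hab fun x y => h.is_comm.comm x y,
      fun x hx => congrArg Subtype.val (h1 ⟨x, hx⟩), h2, h3⟩))))

end Cfsg.Agent.S5188
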