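import Cfsg.Statements.S5189
import Cfsg.Agent.Lib.NormalEss.Main
import Cfsg.Agent.Lib.NormalEss.PairGens
import Cfsg.Agent.Lib.NormalEss.PairModel
-- import your own Cfsg.Agent.* helpers here

set_option autoImplicit false
universe u
open Cfsg

namespace Cfsg.Agent.S5189

open scoped commutatorElement
open Cfsg.FusionSystem Cfsg.Agent.Fusion Cfsg.Agent.NormalEss

theorem transfer_elementary {Ω : Type u} [Group Ω] {S E : Subgroup Ω} (hE : E ≤ S) {p : ℕ}
    (h : Cfsg.IsElementaryAbelian p (E.subgroupOf S)) : Cfsg.IsElementaryAbelian p E := by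
  refine ⟨⟨⟨fun a b => Subtype.ext ?_⟩⟩, fun a ha => ?_⟩
  · have := congrArg (fun w : E.subgroupOf S => ((w : S) : Ω))
      (h.1.is_comm.comm ⟨⟨a, hE a.2⟩, a.2⟩ ⟨⟨b, hE b.2⟩, b.2⟩)
    exact this
  · have := congrArg Subtype.val (h.2 ⟨a, hE ha⟩ ha)
    simpa using this

theorem transfer_extraspecial {G H : Type u} [Group G] [Group H] [Finite G] (e : G ≃* H) {p : ℕ} [Fact p.Prime]
    (h : Cfsg.IsExtraspecial p G) : Cfsg.IsExtraspecial p H := by
  obtain ⟨⟨h1, h2, h3⟩, h4⟩ := h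
  have hc : (Subgroup.center G).map e.toMonoidHom = Subgroup.center H := by
    refine Subgroup.ext fun w => ⟨?_, fun hw => ?_⟩
    · rintro ⟨q, hq, rfl⟩
      refine Subgroup.mem_center_iff.2 fun r => ?_
      obtain ⟨r, rfl⟩ := e.surjective r
      show e r * e q = e q * e r
      rw [← map_mul, ← map_mul, Subgroup.mem_center_iff.1 hq r]
    · obtain ⟨q, rfl⟩ := e.surjective w
      refine ⟨q, Subgroup.mem_center_iff.2 fun r => e.injective ?_, rfl⟩
      rw [map_mul, map_mul]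
      exact Subgroup.mem_center_iff.1 hw (e r)
  have hder : (commutator G).map e.toMonoidHom = commutator H := by
    rw [_root_.commutator_def, Subgroup.map_commutator, Subgroup.map_top_of_surjective _ e.surjective,
      ← _root_.commutator_def]
  refine ⟨⟨h1.of_equiv e, ?_, by rw [← hder, h3, hc]⟩, ?_⟩
  · rw [← hc, ← h2]
    exact (Cfsg.Agent.PGroup.frattini_map h1 (f := e.toMonoidHom) e.surjective).symm
  · rw [← hc, Subgroup.card_map_of_injective (f := e.toMonoidHom) e.injective, h4]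


/-- Let p be an odd prime, S a finite p-group of sectional p-rank exactly 3, and F a saturated fusion system over S whose largest subgroup normal in F is trivial. Suppose S has two distinct essential subgroups E₁, E₂ each of which is invariant under every F-automorphism of S. Then S is isomorphic to a Sylow p-subgroup of Sp(4,p), and one of E₁, E₂ is extraspecial of order p³ and exponent p while the other is elementary abelian of order p³. -/
theorem result {Ω : Type u} [Group Ω] {S : Subgroup Ω} [Finite S] (p : ℕ) [Fact p.Prime] (hp : Odd p) (hS : IsPGroup p S)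
    (hsr : Cfsg.SectionalPRankLE p 3 ↥S ∧ ¬ Cfsg.SectionalPRankLE p 2 ↥S)
    (F : Cfsg.FusionSystem S) (hF : F.IsSaturated p) (hO : F.core = ⊥)
    (E₁ E₂ : Subgroup Ω) (hne : E₁ ≠ E₂) (hE₁ : F.IsEssential p E₁) (hE₂ : F.IsEssential p E₂)
    (hc₁ : (∀ φ : MulAut ↥S, φ ∈ F.autGroup S → (E₁.subgroupOf S).map φ.toMonoidHom = E₁.subgroupOf S))
    (hc₂ : (∀ φ : MulAut ↥S, φ ∈ F.autGroup S → (E₂.subgroupOf S).map φ.toMonoidHom = E₂.subgroupOf S)) :
    (∃ P : Sylow p ↥(Matrix.symplecticGroup (Fin 2) (ZMod p)),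
        Nonempty (↥S ≃* ↥(P : Subgroup ↥(Matrix.symplecticGroup (Fin 2) (ZMod p))))) ∧
      ((Cfsg.IsExtraspecial p ↥E₁ ∧ Nat.card E₁ = p ^ 3 ∧ (∀ x ∈ E₁, x ^ p = 1) ∧
          Cfsg.IsElementaryAbelian p E₂ ∧ Nat.card E₂ = p ^ 3) ∨
        (Cfsg.IsExtraspecial p ↥E₂ ∧ Nat.card E₂ = p ^ 3 ∧ (∀ x ∈ E₂, x ^ p = 1) ∧
          Cfsg.IsElementaryAbelian p E₁ ∧ Nat.card E₁ = p ^ 3)) := by
  have hp2 : p ≠ 2 := fun h => by subst h; exact absurd hp (by decide)
  have three : 3 ≤ p := by have := (Fact.out : p.Prime).two_le; omega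
  set X₁ := E₁.subgroupOf S with hX₁
  set X₂ := E₂.subgroupOf S with hX₂
  have hm₁ : X₁.map S.subtype = E₁ := Subgroup.map_subgroupOf_eq_of_le hE₁.1.1
  have hm₂ : X₂.map S.subtype = E₂ := Subgroup.map_subgroupOf_eq_of_le hE₂.1.1
  have hnX : X₁ ≠ X₂ := fun h => hne (hm₁.symm.trans ((congrArg _ h).trans hm₂))
  let Q : Subgroup S → Prop := fun X => X = X₁ ∨ X = X₂
  have hnorm : ∀ X, Q X → S ≤ Subgroup.normalizer ((X.map S.subtype : Subgroup Ω) : Set Ω) := by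
    intro X hX
    have hcX : ∀ φ : MulAut S, φ ∈ F.autGroup S → X.map φ.toMonoidHom = X := by
      rcases hX with rfl | rfl
      exacts [hc₁, hc₂]
    have hmem : ∀ g : S, ∀ x ∈ X, g * x * g⁻¹ ∈ X := fun g x hx =>
      (hcX (MulAut.conj g) (inn_le_autGroup F le_rfl ⟨g, rfl⟩)).le ⟨x, hx, rfl⟩
    intro s hs
    refine Subgroup.mem_normalizer_iff.2 fun y => ⟨?_, fun hy => ?_⟩
    · rintro ⟨x, hx, rfl⟩
      exact ⟨_, hmem ⟨s, hs⟩ x hx, rfl⟩
    · obtain ⟨x, hx, hxy⟩ := hy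
      refine ⟨_, hmem ⟨s, hs⟩⁻¹ x hx, ?_⟩
      simp [show ((x : S) : Ω) = s * y * s⁻¹ from hxy, mul_assoc]
  obtain ⟨d, hAut, hess, -⟩ := exists_pre three hS hsr.1 hF Q
    (fun X hX => by rcases hX with rfl | rfl; exacts [hm₁.symm ▸ hE₁, hm₂.symm ▸ hE₂]) hnorm
    (fun σ hσ X hX _ => by
      rcases hX with rfl | rfl
      exacts [Or.inl (hc₁ σ hσ), Or.inr (hc₂ σ hσ)])
  have h₁ : X₁ ∈ d.ess := hess.ge (Or.inl rfl)
  have h₂ : X₂ ∈ d.ess := hess.ge (Or.inr rfl)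
  have honly : ∀ X ∈ d.ess, X = X₁ ∨ X = X₂ := fun X hX => hess.le hX
  have hfix : Pre.Fixed d := by
    refine ⟨fun σ hσ X hX x hx => ?_, fun X hX => ?_⟩
    · rw [hAut] at hσ
      rcases honly X hX with h | h <;> rw [h] at hx ⊢
      exacts [(hc₁ σ hσ).le ⟨x, hx, rfl⟩, (hc₂ σ hσ).le ⟨x, hx, rfl⟩]
    · rcases honly X hX with rfl | rfl
      exacts [⟨X₂, h₂, hnX.symm⟩, ⟨X₁, h₁, hnX⟩]
  obtain ⟨N, hN, hmax⟩ := d.exists_core hfix
  haveI := d.inv_normal hN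
  have hP : Pre.Pair d N X₁ X₂ := ⟨hp2, hS, hsr.1, hfix, hN, h₁, h₂, hnX.symm, honly, hmax⟩
  obtain ⟨D, -⟩ := d.exists_datum_quotient hp2 hS hsr.1 hfix hN hmax
  haveI : Nontrivial (S ⧸ N) := by
    obtain ⟨x, hx⟩ := d.exists_not_mem h₁
    exact ⟨⟨(x : S ⧸ N), 1, fun h => hx (hN.le X₁ h₁ ((QuotientGroup.eq_one_iff x).1 h))⟩⟩
  rcases D.model' hp2 (hS.to_quotient N) (sectional_quotient hsr.1 N) with ⟨⟨M⟩⟩ | hsmall
  swap
  · exfalso
    have hc : Nat.card S ≤ p ^ 3 * Nat.card N := by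
      have h := N.card_mul_index
      rw [Subgroup.index_eq_card] at h
      rw [← h, mul_comm]
      exact Nat.mul_le_mul hsmall le_rfl
    have hclass := hP.comm_central_small hc
    obtain ⟨D'⟩ := exists_datum three hS hsr.1 hF hO fun E hE s hs => by
      have hE' := hE.1.1
      have hcl : ∀ e ∈ E, ∀ t ∈ S, t * e * t⁻¹ ∈ E := by
        intro e he t ht
        have h : ((⁅(⟨t, ht⟩ : S), ⟨e, hE' he⟩⁆ : S) : Ω) ∈ centralizerIn S E := by
          refine ⟨SetLike.coe_mem _, Subgroup.mem_centralizer_iff.2 fun w hw => ?_⟩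
          exact (congrArg Subtype.val
            (commutatorElement_eq_one_iff_commute.1 (hclass ⟨t, ht⟩ ⟨e, hE' he⟩ ⟨w, hE' hw⟩)).eq).symm
        have h2 := mul_mem (hE.1.2 E (isConj_refl F hE') h) he
        simpa [commutatorElement_def] using h2
      refine Subgroup.mem_normalizer_iff.2 fun y => ⟨fun hy => hcl y hy s hs, fun hy => ?_⟩
      have h3 := hcl _ hy s⁻¹ (inv_mem hs)
      simpa [mul_assoc] using h3
    obtain ⟨M⟩ := D'.model hp2 hS hsr.1 hsr.2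
    refine Model.c_ne M ?_
    rw [← Model.comm_xb M, ← Model.comm_xa M, ← commutatorElement_inv]
    rw [hclass, inv_one]
  have key : ∀ {X Y}, Pre.Pair d N X Y → X = (Model.A M).comap (QuotientGroup.mk' N) →
      N = ⊥ ∧ Cfsg.IsExtraspecial p (Y : Subgroup S) ∧ Nat.card Y = p ^ 3 ∧ (∀ e ∈ Y, e ^ p = 1) ∧
        Cfsg.IsElementaryAbelian p X ∧ Nat.card X = p ^ 3 := fun {X Y} hXY hX => by
    obtain ⟨⟨a1, a2⟩, a3, a4, a5⟩ := hXY.shapes M hX
    exact ⟨hXY.core_eq_bot M hX, a3, a4, a5, a1, a2⟩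
  let e₁ : X₁ ≃* E₁ := Subgroup.subgroupOfEquivOfLe hE₁.1.1
  let e₂ : X₂ ≃* E₂ := Subgroup.subgroupOfEquivOfLe hE₂.1.1
  have hsyl : N = ⊥ → ∃ P : Sylow p ↥(Matrix.symplecticGroup (Fin 2) (ZMod p)),
      Nonempty (↥S ≃* ↥(P : Subgroup ↥(Matrix.symplecticGroup (Fin 2) (ZMod p)))) := fun hN => by
    obtain ⟨P, ⟨f⟩⟩ := Cfsg.Agent.SectionalThree.exists_sylow_equiv hp2 M
    subst hN
    exact ⟨P, ⟨QuotientGroup.quotientBot.symm.trans f⟩⟩
  rcases hP.abelian_or_abelian M with h | h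
  · obtain ⟨hN0, a3, a4, a5, a1, a2⟩ := key hP h
    refine ⟨hsyl hN0, Or.inr ⟨transfer_extraspecial e₂ a3, (Nat.card_congr e₂.toEquiv).symm.trans a4, fun y hy => ?_,
      transfer_elementary hE₁.1.1 a1, (Nat.card_congr e₁.toEquiv).symm.trans a2⟩⟩
    simpa using congrArg Subtype.val (a5 ⟨y, hE₂.1.1 hy⟩ hy)
  · obtain ⟨hN0, a3, a4, a5, a1, a2⟩ := key hP.symm h
    refine ⟨hsyl hN0, Or.inl ⟨transfer_extraspecial e₁ a3, (Nat.card_congr e₁.toEquiv).symm.trans a4, fun y hy => ?_,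
      transfer_elementary hE₂.1.1 a1, (Nat.card_congr e₂.toEquiv).symm.trans a2⟩⟩
    simpa using congrArg Subtype.val (a5 ⟨y, hE₁.1.1 hy⟩ hy)

end Cfsg.Agent.S5189
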