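import Cfsg.Statements.S5190
import Cfsg.Agent.Lib.SFourW.Main
import Cfsg.Agent.Lib.FusionSolvable.QdFree
import Cfsg.Agent.S2761
import Cfsg.Agent.S1169

set_option autoImplicit false
universe u
open Cfsg

namespace Cfsg.Agent.S5190

/-- Let F be a saturated fusion system over a nontrivial finite p-group S that is Qd(p)-free: no model of the normalizer system of a fully normalized centric subgroup has a section isomorphic to Qd(p), the semidirect product of an elementary abelian group of order p² by SL(2,p) acting naturally. Then some nontrivial characteristic subgroup of S is normal in F. -/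
theorem result {Ω : Type u} [Group Ω] {S : Subgroup Ω} [Finite S] (p : ℕ) [Fact p.Prime] (hS : IsPGroup p S) (hS1 : S ≠ ⊥)
    (F : Cfsg.FusionSystem S) (hF : F.IsSaturated p)
    (hfree : ∀ Q : Subgroup Ω, F.IsCentric Q → F.IsFullyNormalized Q →
      ∀ E : Cfsg.FusionSystem (Cfsg.FusionSystem.normalizerIn S Q), F.IsNormalizerSystem Q E →
        ∀ (G : Type u) (_ : Group G) (ι : ↥(Cfsg.FusionSystem.normalizerIn S Q) →* G),
          E.IsModel p G ι → ¬ Cfsg.Involves ↥(Cfsg.qd p) G) :
    ∃ W : Subgroup Ω, W ≤ S ∧ W ≠ ⊥ ∧ (W.subgroupOf S).Characteristic ∧ F.IsNormal W := by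
  have hfree' : F.IsSectionFree p ↥(Cfsg.qd p) :=
    fun Q hfn hc N hN L _ ι hι => hfree Q hc hfn N hN L inferInstance ι hι
  by_cases hp : p = 2
  · subst hp
    obtain ⟨e⟩ := S2761.result
    obtain ⟨W, h1, h2, h3, h4⟩ := FusionSolvable.exists_characteristic_normal hS hS1
      (SFourW.stellmacherTwo (fun _ _ _ _ S A h1 h2 h3 => S1169.result S A h1 h2 h3))
    refine ⟨W, h1, h2, h3, h4 F hF fun Q hfn hc N hN L _ ι hι h => hfree' Q hfn hc N hN L ι hι ?_⟩
    obtain ⟨K, R, hR, ⟨f⟩⟩ := h
    exact ⟨K, R, hR, ⟨f.trans e.symm⟩⟩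
  · refine ⟨Cfsg.centerThompsonAOf S, inf_le_left.trans (PLocal.thompsonSubgroupAOf_le S), ?_, ?_,
      FusionSolvable.isNormal_zj_of_qdFree hp hS hF hfree'⟩
    · rw [← FusionSolvable.wsub_zjFunctor]
      exact Fusion.wsub_ne_bot PLocal.zjFunctor PLocal.isCharPFunctor_zjFunctor.1 hS hS1
    · rw [← FusionSolvable.wsub_zjFunctor]
      show (((PLocal.zjFunctor ↥S).map S.subtype).subgroupOf S).Characteristic
      rw [Subgroup.subgroupOf, Subgroup.comap_map_eq_self_of_injective S.subtype_injective]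
      exact Subgroup.characteristic_iff_map_eq.2 fun φ => PLocal.isCharPFunctor_zjFunctor.2 _ _ hS φ

end Cfsg.Agent.S5190
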