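import Cfsg.Statements.S5191
import Cfsg.Agent.EqLemmas

set_option autoImplicit false
open Cfsg

namespace Cfsg.Agent.S5191

/-- Fusion in a finite group G and in its quotient by O_{p'}(G) agree. Let S be a Sylow p-subgroup of G, N = O_{p'}(G) and P ≤ S. If an element of G/N conjugates the image of P into the image of S, then some element g of G conjugates P into S and induces the same map on P modulo N. (Together with the injectivity of S → G/N this says that g ↦ gN induces an isomorphism of the fusion system of G on S with that of G/N on SN/N.) -/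
theorem result {G : Type*} [Group G] [Finite G] {p : ℕ} [Fact p.Prime]
    [hN : (Cfsg.pPrimeCore p G).Normal] (S : Sylow p G) (P : Subgroup G) (hP : P ≤ (S : Subgroup G))
    (γ : G ⧸ Cfsg.pPrimeCore p G)
    (hγ : ∀ x ∈ P, γ * QuotientGroup.mk x * γ⁻¹ ∈ ((S : Subgroup G).map (QuotientGroup.mk' (Cfsg.pPrimeCore p G)))) :
    ∃ g : G, ∀ x ∈ P, g * x * g⁻¹ ∈ S ∧
      (QuotientGroup.mk (g * x * g⁻¹) : G ⧸ Cfsg.pPrimeCore p G) = γ * QuotientGroup.mk x * γ⁻¹ := by
  obtain ⟨g₀, rfl⟩ := QuotientGroup.mk_surjective γ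
  set N := Cfsg.pPrimeCore p G with hNdef
  set H : Subgroup G := (S : Subgroup G) ⊔ N with hH
  set Q : Subgroup G := P.map (MulAut.conj g₀).toMonoidHom with hQdef
  have hQH : Q ≤ H := by
    rintro _ ⟨x, hx, rfl⟩
    obtain ⟨s, hs, hse⟩ := hγ x hx
    show g₀ * x * g₀⁻¹ ∈ H
    have h1 : s⁻¹ * (g₀ * x * g₀⁻¹) ∈ N := by
      rw [← QuotientGroup.eq]
      simpa using hse
    simpa using H.mul_mem (Subgroup.mem_sup_left hs) (Subgroup.mem_sup_right (S := (S : Subgroup G)) h1)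
  have hQp : IsPGroup p ↥Q := (S.isPGroup'.to_le hP).map _
  obtain ⟨T, hT⟩ := (hQp.comap_subtype (K := H)).exists_le_sylow
  obtain ⟨h, hh⟩ := MulAction.exists_smul_eq ↥H T (S.subtype (le_sup_left : (S : Subgroup G) ≤ H))
  obtain ⟨s, hs, n, hn, hsn⟩ := Subgroup.mem_sup_of_normal_right.mp h.2
  refine ⟨n * g₀, fun x hx => ⟨?_, ?_⟩⟩
  · have hxH : g₀ * x * g₀⁻¹ ∈ H := hQH ⟨x, hx, rfl⟩
    have h2 : h * (⟨_, hxH⟩ : ↥H) * h⁻¹ ∈ ((h • T : Sylow p ↥H) : Subgroup ↥H) := by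
      rw [Sylow.coe_subgroup_smul]
      exact Subgroup.smul_mem_pointwise_smul _ (MulAut.conj h) _ (hT ⟨x, hx, rfl⟩)
    rw [hh, Sylow.coe_subtype, Subgroup.mem_subgroupOf] at h2
    have h3 : (h : G) * (g₀ * x * g₀⁻¹) * (h : G)⁻¹ ∈ (S : Subgroup G) := h2
    rw [← hsn] at h3
    have h4 := S.1.mul_mem (S.1.mul_mem (S.1.inv_mem hs) h3) hs
    have e : n * g₀ * x * (n * g₀)⁻¹ = s⁻¹ * (s * n * (g₀ * x * g₀⁻¹) * (s * n)⁻¹) * s := by group
    rw [e]
    exact h4
  · have hn1 : (n : G ⧸ Cfsg.pPrimeCore p G) = 1 :=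
      (QuotientGroup.eq_one_iff (N := Cfsg.pPrimeCore p G) n).mpr hn
    simp [hn1]

end Cfsg.Agent.S5191
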