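import Cfsg.Statements.S5192
import Cfsg.Agent.Lib.FusionTransfer.Cycles
import Cfsg.Agent.Lib.FusionTate.Lift

set_option autoImplicit false
open Cfsg

namespace Cfsg.Agent.S5192

open Cfsg.FusionSystem Cfsg.Agent.Fusion Cfsg.Agent.Biset
open scoped Classical

theorem zpowers_eq_pair {Ω : Type*} [Group Ω] {x y : Ω} (hx : x * x = 1)
    (hy : y ∈ Subgroup.zpowers x) : y = 1 ∨ y = x := by
  obtain ⟨n, rfl⟩ := Subgroup.mem_zpowers_iff.1 hy
  rcases Int.even_or_odd n with ⟨k, rfl⟩ | ⟨k, rfl⟩
  · exact .inl (by rw [zpow_add, ← (Commute.refl x).mul_zpow, hx, one_zpow])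
  · refine .inr ?_
    rw [zpow_add, two_mul, zpow_add, ← (Commute.refl x).mul_zpow, hx, one_zpow, one_mul, zpow_one]

theorem c2_eq : (Multiplicative.ofAdd (1 : ZMod 2)) * Multiplicative.ofAdd 1 = 1 := by decide

/-- A Thompson-type transfer for saturated fusion systems. Let F be a saturated fusion system on a finite 2-group S, T a subgroup of S of index 2, and i an involution of S such that every fully normalized F-conjugate of i lies in S but outside T. Then i does not lie in the hyperfocal subgroup of F (the Sylow group of the 2-residual subsystem). -/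
theorem result {Ω : Type*} [Group Ω] [Finite Ω] {S : Subgroup Ω}
    (hS : IsPGroup 2 ↥S) (F : Cfsg.FusionSystem S) (hF : F.IsSaturated 2)
    (T : Subgroup Ω) (hTS : T ≤ S) (hT : T.relIndex S = 2)
    (i : Ω) (hi : i ∈ S) (hi2 : orderOf i = 2)
    (h : ∀ j : Ω, F.IsConjElt i j → F.IsFullyNormalized (Subgroup.zpowers j) → j ∉ T) :
    i ∉ F.hyperfocalSubgroup 2 := by
  have : Fact (Nat.Prime 2) := ⟨Nat.prime_two⟩
  intro hyp
  -- the form with kernel `T`
  set T' := T.subgroupOf S with hT'
  have hidx : T'.index = 2 := hT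
  let ab : S →* Multiplicative (ZMod 2) := MonoidHom.mk'
    (fun a => if a ∈ T' then 1 else Multiplicative.ofAdd 1) fun a b => by
      have h2 := Subgroup.mul_mem_iff_of_index_two hidx (a := a) (b := b)
      by_cases ha : a ∈ T' <;> by_cases hb : b ∈ T' <;> simp [ha, hb, h2, c2_eq]
  obtain ⟨c, hc, hdeg⟩ := exists_characteristic hS hF
  haveI : Finite (ROrb c) := Quotient.finite _
  letI := Fintype.ofFinite (ROrb c)
  have hodd := FusionTate.not_dvd_card_rorb hc.1 hdeg
  have hs : IsSection (c := c) Quotient.out := fun q => Quotient.out_eq q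
  let τ : S →* Multiplicative (ZMod 2) :=
    MonoidHom.mk' (transferVal ab hs) (transferVal_mul hc.1 ab hs)
  have hinv : ∀ (P : Subgroup Ω) (f : Ω → Ω), IsMap F P f → ∀ u v : S, (u : Ω) ∈ P →
      (v : Ω) = f u → τ v = τ u := fun P f hf u v hu hv =>
    Yoshida.transferVal_invariant hc ab hf u v hu hv
  have hker : F.hyperfocalSubgroup 2 ≤ τ.ker.map S.subtype := by
    refine (Subgroup.closure_le _).2 ?_
    rintro _ ⟨P, α, x, hP, -, rfl⟩
    let u : S := ⟨x, hP x.2⟩
    let v : S := ⟨((α : MulAut P) x : P), hP ((α : MulAut P) x).2⟩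
    refine ⟨u⁻¹ * v, ?_, rfl⟩
    show τ _ = 1
    rw [map_mul, map_inv, hinv P _ ((mem_autGroup_iff hP).1 α.2) u v x.2
      (autFn_apply _ x.2).symm, inv_mul_cancel]
  obtain ⟨i', hτi', hii'⟩ := hker hyp
  -- a fully normalized conjugate
  have hi_sq : i * i = 1 := by
    have := pow_orderOf_eq_one i
    rwa [hi2, pow_two] at this
  have hPS : Subgroup.zpowers i ≤ S := Subgroup.zpowers_le.2 hi
  obtain ⟨R, a, hR, ha, hRimg, -⟩ := exists_fullyNormalized_map hS hF hPS
  have haI : IsIso F (Subgroup.zpowers i) R a := ⟨ha.mono (le_normalizerIn hPS), hRimg⟩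
  set jΩ := a i with hjΩ
  have hiP : i ∈ Subgroup.zpowers i := Subgroup.mem_zpowers i
  have hjR : jΩ ∈ R := haI.mem hiP
  let j : S := ⟨jΩ, hR.1 hjR⟩
  have hj2 : jΩ * jΩ = 1 := by rw [hjΩ, ← haI.1.map_mul hiP hiP, hi_sq, haI.1.map_one]
  have hjj : j * j = 1 := Subtype.ext hj2
  have hRz : R = Subgroup.zpowers jΩ := by
    refine le_antisymm ?_ (Subgroup.zpowers_le.2 hjR)
    intro y hy
    obtain ⟨x, hx, rfl⟩ := haI.exists_eq hy
    rcases zpowers_eq_pair hi_sq hx with rfl | rfl
    · rw [haI.1.map_one]; exact one_mem _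
    · exact Subgroup.mem_zpowers _
  have hτj : τ j = 1 := by
    rw [hinv _ _ haI.1 i' j (by rw [show (i' : Ω) = i from hii']; exact hiP)
      (by show jΩ = _; rw [show (i' : Ω) = i from hii'])]
    exact hτi'
  -- the product over the orbits
  set d : ROrb c → Multiplicative (ZMod 2) := fun q => ab (coord hs j q) with hd
  have hone : ∀ q, coord hs (1 : S) q = 1 := fun q => by
    have h := Yoshida.coord_mul hc.1 hs 1 1 q
    rw [one_mul, one_smul] at h
    exact mul_left_cancel (h.symm.trans (mul_one _).symm)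
  have hjq : ∀ q : ROrb c, j • j • q = q := fun q => by rw [smul_smul, hjj, one_smul]
  have hsplit : ∏ q, d q = ∏ q ∈ Finset.univ.filter (fun q => j • q = q), d q := by
    rw [← Finset.prod_filter_mul_prod_filter_not Finset.univ (fun q => j • q = q)]
    rw [show (∏ q ∈ Finset.univ.filter (fun q => ¬ j • q = q), d q) = 1 from ?_, mul_one]
    refine Finset.prod_involution (fun q _ => j • q) (fun q _ => ?_) (fun q hq _ => ?_)
      (fun q hq => ?_) (fun q _ => hjq q)
    · show ab _ * ab _ = 1
      rw [← map_mul, ← Yoshida.coord_mul hc.1 hs, hjj, hone, map_one]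
    · exact (Finset.mem_filter.1 hq).2
    · refine Finset.mem_filter.2 ⟨Finset.mem_univ _, fun e => (Finset.mem_filter.1 hq).2 ?_⟩
      rw [hjq] at e
      exact e.symm
  let QT : Set (ROrb c) := {q | j • q = q ∧ coord hs j q ∈ T'}
  -- the centralizer acts on the fixed orbits with image in `T` without fixed points
  let H : Subgroup S := Subgroup.centralizer {j}
  have hTn : T'.Normal := Subgroup.normal_of_index_eq_two hidx
  have hQinv : ∀ h : H, ∀ q ∈ QT, (h : S) • q ∈ QT := by
    intro h q hq
    have hcomm : j * (h : S) = (h : S) * j := (Subgroup.mem_centralizer_singleton_iff.1 h.2).symm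
    have hfix : j • ((h : S) • q) = (h : S) • q := by
      rw [smul_smul, hcomm, ← smul_smul, hq.1]
    refine ⟨hfix, ?_⟩
    have h1 := Yoshida.coord_mul hc.1 hs j (h : S) q
    rw [hcomm, Yoshida.coord_mul hc.1 hs (h : S) j q, hq.1] at h1
    rw [show coord hs j ((h : S) • q) = (coord hs (h : S) q)⁻¹ * coord hs j q * coord hs (h : S) q
      by rw [mul_assoc, h1, inv_mul_cancel_left]]
    simpa using hTn.conj_mem _ hq.2 (coord hs (h : S) q)⁻¹
  let A : SubMulAction H (ROrb c) :=
    { carrier := QT
      smul_mem' := fun h q hq => hQinv h q hq }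
  have hH : IsPGroup 2 H := hS.to_subgroup H
  have hfixed : Nat.card (MulAction.fixedPoints H A) = 0 := by
    rw [Nat.card_eq_zero]
    refine .inl ⟨?_⟩
    rintro ⟨⟨q, hq1, hq2⟩, hqfix⟩
    have hqH : ∀ h ∈ H, h • q = q := fun h hh => congrArg Subtype.val (hqfix ⟨h, hh⟩)
    obtain ⟨f, hf, he⟩ := Yoshida.exists_map_coord hc.1 hs H q hqH
    have hjH : j ∈ H := Subgroup.mem_centralizer_singleton_iff.2 rfl
    set k := (coord hs j q)⁻¹ with hk
    have hkT : (k : Ω) ∈ T := by
      have := inv_mem hq2
      rwa [Subgroup.mem_subgroupOf] at this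
    have hjM : jΩ ∈ H.map S.subtype := ⟨j, hjH, rfl⟩
    have hfj : f jΩ = k := (he j hjH).symm
    have hN : normalizerIn S R ≤ H.map S.subtype := by
      intro g hg
      obtain ⟨hgS, -⟩ := mem_normalizerIn.1 hg
      refine ⟨⟨g, hgS⟩, Subgroup.mem_centralizer_singleton_iff.2 (Subtype.ext ?_), rfl⟩
      have hgj := normalizerIn_conj hg hjR
      rw [hRz] at hgj
      show g * jΩ = jΩ * g
      refine Eq.symm ?_
      rcases zpowers_eq_pair hj2 hgj with e | e
      · have : jΩ = 1 := by
          calc jΩ = g⁻¹ * (g * jΩ * g⁻¹) * g := by group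
            _ = 1 := by rw [e]; group
        rw [this, one_mul, mul_one]
      · calc jΩ * g = (g * jΩ * g⁻¹) * g := by rw [e]
          _ = g * jΩ := by group
    have hRM : R ≤ H.map S.subtype := hRz ▸ Subgroup.zpowers_le.2 hjM
    have hkR : IsIso F R (Subgroup.zpowers (k : Ω)) f := by
      refine ⟨hf.mono hRM, le_antisymm (hf.img_le hRM fun x hx => ?_) ?_⟩
      · rw [hRz] at hx
        rcases zpowers_eq_pair hj2 hx with rfl | rfl
        · rw [hf.map_one]; exact one_mem _
        · rw [hfj]; exact Subgroup.mem_zpowers _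
      · refine Subgroup.zpowers_le.2 ?_
        rw [← hfj]
        exact hf.mem_img hjR
    have hfn : F.IsFullyNormalized (Subgroup.zpowers (k : Ω)) := by
      refine ⟨hkR.le_right, fun Q hQ => ?_⟩
      have h1 := hR.2 Q (isConj_trans (isConj_iff.2 ⟨f, hkR⟩) hQ)
      refine h1.trans ?_
      rw [← hf.card_img hN]
      refine Subgroup.card_le_of_le (hf.img_le hN fun x hx => ?_)
      refine mem_normalizerIn.2 ⟨hf.mem (hN hx), ?_⟩
      have hxH := hN hx
      have hcx : x * jΩ = jΩ * x := by
        obtain ⟨y, hy, rfl⟩ := hxH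
        exact congrArg Subtype.val (Subgroup.mem_centralizer_singleton_iff.1 hy)
      have hfc : f x * k = k * f x := by
        rw [← hfj, ← hf.map_mul hxH hjM, ← hf.map_mul hjM hxH, hcx]
      refine Subgroup.centralizer_le_normalizer _ (Subgroup.mem_centralizer_iff.2 ?_)
      rintro y hy
      obtain ⟨n, rfl⟩ := Subgroup.mem_zpowers_iff.1 hy
      exact (Commute.zpow_left hfc.symm n).eq
    refine h k ?_ hfn hkT
    have hcomp : IsMap F (Subgroup.zpowers i) (fun x => f (a x)) :=
      haI.1.comp (hf.mono hRM) fun x hx => haI.mem hx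
    obtain ⟨φ, hφ, e⟩ := hcomp
    exact ⟨φ, hφ, (e i hiP).trans hfj⟩
  have heven : 2 ∣ Nat.card A := by
    haveI : Finite A := Subtype.finite
    have := hH.card_modEq_card_fixedPoints A
    rw [hfixed] at this
    exact (Nat.modEq_zero_iff_dvd).1 this
  -- the fixed orbits are odd in number
  have hfodd : ¬ 2 ∣ (Finset.univ.filter (fun q : ROrb c => j • q = q)).card := by
    have h2 : 2 ∣ (Finset.univ.filter (fun q : ROrb c => ¬ j • q = q)).card := by
      rw [← ZMod.natCast_eq_zero_iff_even.trans even_iff_two_dvd, Finset.card_eq_sum_ones,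
        Nat.cast_sum]
      refine Finset.sum_involution (fun q _ => j • q) (fun q _ => ?_) (fun q hq _ => ?_)
        (fun q hq => ?_) (fun q _ => hjq q)
      · rfl
      · exact (Finset.mem_filter.1 hq).2
      · refine Finset.mem_filter.2 ⟨Finset.mem_univ _, fun e => (Finset.mem_filter.1 hq).2 ?_⟩
        rw [hjq] at e
        exact e.symm
    intro h1
    apply hodd
    rw [← Finset.card_univ, ← Finset.card_filter_add_card_filter_not
      (p := fun q : ROrb c => j • q = q)]
    exact Nat.dvd_add h1 h2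
  have hval : ∏ q, d q = Multiplicative.ofAdd 1 ^
      (((Finset.univ.filter fun q => j • q = q).filter fun q => ¬ coord hs j q ∈ T').card) := by
    rw [hsplit, ← Finset.prod_filter_mul_prod_filter_not (Finset.univ.filter fun q => j • q = q)
      (fun q => coord hs j q ∈ T')]
    rw [Finset.prod_eq_one fun q hq => ?_, one_mul, ← Finset.prod_const]
    · refine Finset.prod_congr rfl fun q hq => ?_
      show ab _ = _
      simp [ab, (Finset.mem_filter.1 hq).2]
    · show ab _ = _
      simp [ab, (Finset.mem_filter.1 hq).2]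
  have hcardA : ((Finset.univ.filter fun q => j • q = q).filter fun q =>
      coord hs j q ∈ T').card = Nat.card A := by
    rw [Finset.filter_filter, ← Nat.card_eq_finsetCard]
    exact Nat.card_congr (Equiv.subtypeEquivRight fun q => by
      rw [Finset.mem_filter]
      exact ⟨fun h => h.2, fun h => ⟨Finset.mem_univ _, h⟩⟩)
  have hn := Finset.card_filter_add_card_filter_not
    (s := Finset.univ.filter fun q => j • q = q) (p := fun q => coord hs j q ∈ T')
  have hNodd : ¬ 2 ∣ (((Finset.univ.filter fun q => j • q = q).filter fun q =>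
      ¬ coord hs j q ∈ T').card) := fun hd2 => hfodd (hn ▸ Nat.dvd_add (hcardA ▸ heven) hd2)
  have h1 : Multiplicative.ofAdd (1 : ZMod 2) ^ (((Finset.univ.filter fun q => j • q = q).filter
      fun q => ¬ coord hs j q ∈ T').card) = 1 := hval ▸ hτj
  refine hNodd ?_
  have h3 := orderOf_dvd_of_pow_eq_one h1
  rwa [orderOf_ofAdd_eq_addOrderOf, ZMod.addOrderOf_one] at h3

end Cfsg.Agent.S5192
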