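import Cfsg.Statements.S5193
import Cfsg.Agent.Lib.Fusion.CenterFunctor
import Cfsg.Agent.Lib.WCCenter.Main
import Cfsg.Agent.EqLemmas

set_option autoImplicit false
open Cfsg

namespace Cfsg.Agent.S5193

/-- Glauberman's Theorem for fusion systems. Let F be a saturated fusion system over a finite p-group S, let J(S) be the subgroup generated by the abelian subgroups of S of largest order, and let N be the normalizer fusion system of J(S) in F (a fusion system over N_S(J(S)) = S). Then every p-th power of an element of Z(S) that lies in the centre of N lies in the centre of F; and if p is odd, or if the symmetric group of degree 4 is not involved in any model of the normalizer system of a fully normalized F-centric subgroup (F is S₄-free), then the centre of N equals the centre of F. -/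
theorem result {Ω : Type*} [Group Ω] {S : Subgroup Ω} [Finite S] (p : ℕ) [Fact p.Prime] (hS : IsPGroup p S) (F : Cfsg.FusionSystem S) (hF : F.IsSaturated p) (N : Cfsg.FusionSystem (Cfsg.FusionSystem.normalizerIn S (Cfsg.thompsonSubgroupAOf S))) (hN : F.IsNormalizerSystem (Cfsg.thompsonSubgroupAOf S) N) : Subgroup.closure ((fun z : Ω => z ^ p) '' ((S ⊓ Subgroup.centralizer (S : Set Ω) : Subgroup Ω) : Set Ω)) ⊓ N.center ≤ F.center ∧ (p ≠ 2 ∨ F.IsSectionFree p (Equiv.Perm (Fin 4)) → N.center = F.center) := by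
  let W : ∀ (Q : Type _) [Group Q], Subgroup Q := fun Q _ => Cfsg.thompsonSubgroupAOf (⊤ : Subgroup Q)
  have hW2 : ∀ (Q R : Type _) [Group Q] [Group R] [Finite Q], IsPGroup p Q → ∀ φ : Q ≃* R,
      (W Q).map φ.toMonoidHom = W R := fun Q R _ _ _ _ φ => by
    show (Cfsg.thompsonSubgroupAOf ⊤).map φ.toMonoidHom = _
    rw [PLocal.map_thompsonSubgroupAOf _ φ.injective.injOn,
      Subgroup.map_top_of_surjective _ φ.surjective]
  have hWeq : ∀ {X : Type _} [Group X] (T : Subgroup X),
      Fusion.wsub W T = Cfsg.thompsonSubgroupAOf T := fun T => by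
    show (Cfsg.thompsonSubgroupAOf ⊤).map T.subtype = _
    rw [PLocal.map_thompsonSubgroupAOf _ T.subtype_injective.injOn, ← MonoidHom.range_eq_map,
      T.range_subtype]
  have hWZ : ∀ (Q : Type _) [Group Q] [Finite Q], IsPGroup p Q → Subgroup.center Q ≤ W Q :=
    fun Q _ _ _ z hz => (PLocal.central_le_centerThompsonAOf (H := (⊤ : Subgroup Q))
      ⟨Subgroup.mem_top z, Subgroup.mem_centralizer_iff.2 fun y _ => Subgroup.mem_center_iff.1 hz y⟩).1
  revert N hN
  rw [← hWeq]
  intro N hN
  have hn : Cfsg.FusionSystem.normalizerIn S (Fusion.wsub W S) = S := inf_eq_left.2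
    (Subgroup.le_normalizer.trans (Fusion.normalizer_le_wsub W hW2 hS))
  -- the group theorem in a local model
  have main : ∀ x ∈ N.center,
      (p ≠ 2 ∨ (∃ z ∈ S ⊓ Subgroup.centralizer (S : Set Ω), z ^ p = x) ∨
        F.IsSectionFree p (Equiv.Perm (Fin 4))) → x ∈ F.center := by
    intro x hxN hcond
    refine Fusion.mem_center_of_functor W hW2 hS hF hWZ hN hxN
      fun L _ _ P y _ hy _ hfix hpow hsec g => ?_
    refine WCCenter.good p L P y ⟨Cores.pCore_le_sylow P hy, fun n hn => hfix n (by rwa [hWeq])⟩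
      ?_ g (Cores.pCore_le_sylow P ((Cores.pCore_normal p L).conj_mem y hy g))
    rcases hcond with h | ⟨z, hz, hzx⟩ | h
    · exact Or.inl h
    · obtain ⟨w, hwP, hwc, hwy⟩ := hpow z hz hzx
      exact Or.inr (Or.inl ⟨w, ⟨hwP, Subgroup.mem_centralizer_iff.2 hwc⟩, hwy⟩)
    · exact Or.inr (Or.inr (hsec _ h))
  refine ⟨?_, fun h => le_antisymm (fun x hx => main x hx ?_)
    (Fusion.center_le_normalizer_center (Fusion.wsub_le W S |>.trans le_rfl) hn hN)⟩
  · rintro x ⟨hx, hxN⟩
    obtain ⟨z, hz, hzx⟩ := Fusion.exists_pow_of_mem_closure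
      (fun a ha b hb => Fusion.central_comm ha hb) hx
    exact main x hxN (Or.inr (Or.inl ⟨z, hz, hzx⟩))
  · exact h.elim Or.inl fun h => Or.inr (Or.inr h)

end Cfsg.Agent.S5193
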