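import Cfsg.Statements.S5196
import Cfsg.Agent.Lib.FusionTransfer.Center
-- import your own Cfsg.Agent.* helpers here

set_option autoImplicit false
universe u
open Cfsg

namespace Cfsg.Agent.S5196
open Cfsg.FusionSystem Cfsg.Agent.Fusion Cfsg.Agent.FusionTransfer

/-- Let p be an odd prime and W a positive characteristic p-functor: W assigns to every finite p-group Q (in a fixed universe) a subgroup W(Q), nontrivial when Q is, carried to W(R) by every isomorphism Q ≅ R; assume also Z(Q) ≤ W(Q) for every finite p-group Q. Suppose W satisfies the local condition: for every finite group G with Sylow p-subgroup P, O_p(G) ∩ Z(G) = O_p(G) ∩ Z(N_G(W(P))). Then W controls weak closure of elements in every saturated fusion system F over a finite p-group S: the centre of the normalizer fusion system of W(S) in F equals the centre of F. (For p = 2 no functor satisfies the local condition, so p is taken odd.) -/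
theorem result {p : ℕ} [Fact p.Prime] (hp : p ≠ 2) (W : ∀ (Q : Type u) [Group Q], Subgroup Q) (hW1 : ∀ (Q : Type u) [Group Q] [Finite Q], IsPGroup p Q → Nontrivial Q → W Q ≠ ⊥) (hW2 : ∀ (Q R : Type u) [Group Q] [Group R] [Finite Q], IsPGroup p Q → ∀ φ : Q ≃* R, (W Q).map φ.toMonoidHom = W R) (hWZ : ∀ (Q : Type u) [Group Q] [Finite Q], IsPGroup p Q → Subgroup.center Q ≤ W Q) (hC : ∀ (G : Type u) [Group G] [Finite G] (P : Sylow p G), Cfsg.pCore p G ⊓ Subgroup.center G = Cfsg.pCore p G ⊓ (Subgroup.center ↥(Subgroup.normalizer (((W ↥(P : Subgroup G)).map (P : Subgroup G).subtype : Subgroup G) : Set G))).map (Subgroup.normalizer (((W ↥(P : Subgroup G)).map (P : Subgroup G).subtype : Subgroup G) : Set G)).subtype) {Ω : Type u} [Group Ω] {S : Subgroup Ω} [Finite S] (hS : IsPGroup p S) (F : Cfsg.FusionSystem S) (hF : F.IsSaturated p) (N : Cfsg.FusionSystem (Cfsg.FusionSystem.normalizerIn S ((W ↥S).map S.subtype))) (hN : F.IsNormalizerSystem ((W ↥S).map S.subtype) N) : N.center = F.center := by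
  have hW : IsCharPFunctor.{u} p W := ⟨hW1, hW2⟩
  obtain ⟨hwN, hwfn⟩ := func_fullyNormalized (F := F) hS hW
  have hwle := func_le W S
  have : Finite (normalizerIn S ((W ↥S).map S.subtype)) := finite_of_le (S := S) inf_le_left
  have hNp : IsPGroup p (normalizerIn S ((W ↥S).map S.subtype)) := hS.to_le inf_le_left
  refine le_antisymm (fun z hz => ?_) fun z hz => ?_
  · have hzc : z ∈ Subgroup.centralizer ((normalizerIn S (inducedFunctor W S)) : Set Ω) :=
      N.center_le_centralizer hz
    rw [hwN] at hzc
    have hzS : z ∈ S := by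
      have hle : N.center ≤ normalizerIn S ((W ↥S).map S.subtype) := sSup_le fun Q hQ => hQ.1
      exact (hle hz).1
    have h := center_normalizer_mem W hW hWZ 1 (fun G _ _ P hP y hy hyc hyn g => ?_) hS F hF N hN
      (y := z) hzS hzc (by rwa [pow_one])
    · rwa [pow_one] at h
    · rw [pow_one] at hyn ⊢
      set Nm := Subgroup.normalizer ((inducedFunctor W (P : Subgroup G) : Subgroup G) : Set G)
      have hyNm : y ∈ Nm :=
        (func_normalizer P.isPGroup' hW le_rfl ((normalizerIn_self (P : Subgroup G)).ge hy)).2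
      have hyO : y ∈ Cfsg.pCore p G := hP (Subgroup.mem_centralizer_iff.2 fun t ht =>
        hyc t (Agent.Cores.pCore_le_sylow P ht))
      have h1 : y ∈ Cfsg.pCore p G ⊓ (Subgroup.center ↥Nm).map Nm.subtype :=
        Subgroup.mem_inf.mpr ⟨hyO, ⟨⟨y, hyNm⟩,
          Subgroup.mem_center_iff.2 fun n => Subtype.ext (hyn n n.2), rfl⟩⟩
      exact Subgroup.mem_center_iff.1 (Subgroup.mem_inf.1 ((hC G P).ge h1)).2 g
  · have hzc := F.center_le_centralizer hz
    have hle : F.center ≤ S := sSup_le fun Q hQ => hQ.1
    refine mem_center_of_radicals hNp (isSaturated_normalizer hS hF hwfn hN) (hwN.ge (hle hz))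
      (Subgroup.centralizer_le (inf_le_left : normalizerIn S ((W ↥S).map S.subtype) ≤ S) hzc)
      fun R hR _ hzR α hα => ?_
    exact fixed_of_mem_center hz (isMap_sub (sub_normalizer hN) (isIso_autFn hR.1 hα).1) hzR

end Cfsg.Agent.S5196
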