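import Cfsg.Statements.S5198
import Cfsg.Agent.Lib.FusionChain.Alperin
import Cfsg.Agent.Lib.Transfer.Residual

set_option autoImplicit false
open Cfsg

namespace Cfsg.Agent.S5198

open Cfsg.FusionSystem Cfsg.Agent.Fusion Cfsg.Agent.FusionChain
open scoped Pointwise

variable {Ω : Type*} [Group Ω] {S T : Subgroup Ω} {F : Cfsg.FusionSystem S}

theorem map_mem {P : Subgroup Ω} {f : Ω → Ω} (hT : F.StronglyClosed T)
    (hf : IsMap F P f) {x : Ω} (hxP : x ∈ P) (hx : x ∈ T) : f x ∈ T := by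
  obtain ⟨φ, hφ, e⟩ := hf.mono (inf_le_left : P ⊓ T ≤ P)
  rw [← e x ⟨hxP, hx⟩]
  exact hT.2 (P ⊓ T) inf_le_right φ hφ ⟨x, hxP, hx⟩

theorem conj_mem (hT : F.StronglyClosed T) {s x : Ω} (hs : s ∈ S) (hx : x ∈ T) :
    s * x * s⁻¹ ∈ T :=
  map_mem hT (IsMap.conj hT.1 hs) hx hx

theorem mem_normalizer (hT : F.StronglyClosed T) {s : Ω} (hs : s ∈ S) :
    s ∈ normalizerIn S T :=
  mem_normalizerIn.2 ⟨hs, fun x => ⟨conj_mem hT hs, fun hx => by
    simpa [mul_assoc] using conj_mem hT (S.inv_mem hs) hx⟩⟩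

/-- The action of `S` on `T` inside `Aut_F(T)`. -/
def act (hT : F.StronglyClosed T) : S →* F.autGroup T where
  toFun s := ⟨normConj S T ⟨s, mem_normalizer hT s.2⟩, autInducedBy_le_autGroup F le_rfl hT.1
    (range_normConj S T ▸ ⟨_, rfl⟩)⟩
  map_one' := Subtype.ext (map_one (normConj S T))
  map_mul' a b := Subtype.ext ((normConj S T).map_mul ⟨a, mem_normalizer hT a.2⟩ ⟨b, mem_normalizer hT b.2⟩)

@[simp] theorem act_apply (hT : F.StronglyClosed T) (s : S) (t : T) :
    (((act hT s : MulAut T) t : T) : Ω) = s * t * (s : Ω)⁻¹ := rfl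

/-- `O^p(Aut_F(T)) Inn(T)` inside `Aut_F(T)`. -/
def kerGrp (F : Cfsg.FusionSystem S) (p : ℕ) (T : Subgroup Ω) : Subgroup (F.autGroup T) :=
  Cfsg.pResidual p (F.autGroup T) ⊔ (Cfsg.Inn T).subgroupOf (F.autGroup T)

instance kerGrp_normal (F : Cfsg.FusionSystem S) (p : ℕ) (T : Subgroup Ω) : (kerGrp F p T).Normal := by
  have h : (Cfsg.Inn T).Normal := ⟨fun a ⟨t, ht⟩ b => ⟨b t, by
    subst ht
    exact MulEquiv.ext fun x => by simp [MulAut.conj_apply]⟩⟩
  have h2 : ((Cfsg.Inn T).subgroupOf (F.autGroup T)).Normal := inferInstance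
  have h1 : (Cfsg.pResidual p (F.autGroup T)).Normal := Cfsg.Agent.Transfer.pResidual_normal ..
  exact Subgroup.sup_normal _ _

theorem isPGroup_quot [Finite S] {p : ℕ} [Fact p.Prime] (hT : T ≤ S) :
    IsPGroup p (F.autGroup T ⧸ kerGrp F p T) := by
  have := finite_mulAut hT
  intro g
  obtain ⟨a, rfl⟩ := QuotientGroup.mk_surjective g
  obtain ⟨k, hk⟩ := exists_pow_coprime p a
  refine ⟨k, ?_⟩
  rw [← QuotientGroup.mk_pow, QuotientGroup.eq_one_iff]
  exact Subgroup.mem_sup_left (Subgroup.subset_closure hk)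

/-- The class of the action of `x` on `T`. -/
noncomputable def theta (hT : F.StronglyClosed T) (p : ℕ) (x : Ω) : F.autGroup T ⧸ kerGrp F p T :=
  open scoped Classical in if h : x ∈ S then QuotientGroup.mk (act hT ⟨x, h⟩) else 1

theorem theta_of_mem (hT : F.StronglyClosed T) (p : ℕ) {x : Ω} (hx : x ∈ S) :
    theta hT p x = QuotientGroup.mk (act hT ⟨x, hx⟩) := dif_pos hx

theorem theta_mul (hT : F.StronglyClosed T) (p : ℕ) {x y : Ω} (hx : x ∈ S) (hy : y ∈ S) :
    theta hT p (x * y) = theta hT p x * theta hT p y := by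
  rw [theta_of_mem hT p hx, theta_of_mem hT p hy, theta_of_mem hT p (S.mul_mem hx hy),
    ← QuotientGroup.mk_mul, ← map_mul]
  rfl

theorem theta_eq_one_of_mem (hT : F.StronglyClosed T) (p : ℕ) {x : Ω} (hx : x ∈ T) :
    theta hT p x = 1 := by
  rw [theta_of_mem hT p (hT.1 hx), QuotientGroup.eq_one_iff]
  exact Subgroup.mem_sup_right ⟨⟨x, hx⟩, MulEquiv.ext fun y => Subtype.ext rfl⟩

theorem exists_gamma [Finite S] {p : ℕ} [Fact p.Prime] (hS : IsPGroup p S) (hF : F.IsSaturated p)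
    (hT : F.StronglyClosed T) {P : Subgroup Ω} {f : Ω → Ω} (hf : IsMap F P f) :
    ∃ γ, ∀ x ∈ P, theta hT p (f x) = γ * theta hT p x * γ⁻¹ := by
  refine alperin_induction hS hF
    (fun P f => ∃ γ, ∀ x ∈ P, theta hT p (f x) = γ * theta hT p x * γ⁻¹) ?_ ?_ ?_ ?_ hf
  · rintro P f g - ⟨γ, h⟩ he
    exact ⟨γ, fun x hx => he x hx ▸ h x hx⟩
  · rintro P P' f - hle ⟨γ, h⟩
    exact ⟨γ, fun x hx => h x (hle hx)⟩
  · rintro P P' f g - - hfP ⟨γ, h⟩ ⟨δ, h'⟩
    exact ⟨δ * γ, fun x hx => by rw [h' _ (hfP x hx), h x hx]; group⟩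
  intro R hR _ _ α hα IH
  have hRS := hR.1
  have := finite_mulAut (S := S) hRS
  have hαm : IsMap F R (autFn α) := (mem_autGroup_iff hRS).1 hα
  by_cases hTR : T ≤ R
  · have hαT : IsIso F T T (autFn α) :=
      ⟨hαm.mono hTR, eq_of_le_of_card hT.1 ((hαm.mono hTR).img_le le_rfl fun x hx => map_mem hT hαm (hTR hx) hx)
        ((hαm.mono hTR).card_img le_rfl).ge⟩
    obtain ⟨β, hβ, hβe⟩ := exists_aut_of_isIso hαT
    refine ⟨QuotientGroup.mk ⟨β, hβ⟩, fun x hx => ?_⟩
    rw [theta_of_mem hT p (hαm.mem hx), theta_of_mem hT p (hRS hx), ← QuotientGroup.mk_inv,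
      ← QuotientGroup.mk_mul, ← QuotientGroup.mk_mul]
    refine congrArg _ (Subtype.ext (MulEquiv.ext fun t => Subtype.ext ?_))
    obtain ⟨u, rfl⟩ := β.surjective t
    show autFn α x * (β u : T) * (autFn α x)⁻¹ = _
    rw [Subgroup.coe_mul, Subgroup.coe_mul, InvMemClass.coe_inv, MulAut.mul_apply, MulAut.mul_apply,
      MulAut.inv_apply_self, hβe, hβe, act_apply]
    exact (hαm.map_conj hx (hTR u.2)).symm
  -- automorphisms inducing the identity modulo `T`
  let K₀ : Subgroup (MulAut R) :=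
    { carrier := {a | a ∈ F.autGroup R ∧ ∀ x : R, (x : Ω)⁻¹ * (a x : R) ∈ T}
      one_mem' := ⟨one_mem _, fun x => by simp⟩
      mul_mem' := fun {a b} ha hb => ⟨mul_mem ha.1 hb.1, fun x => by
        have := T.mul_mem (hb.2 x) (ha.2 (b x))
        simpa [mul_assoc] using this⟩
      inv_mem' := fun {a} ha => ⟨inv_mem ha.1, fun x => by
        have := T.inv_mem (ha.2 (a⁻¹ x))
        simpa [mul_assoc] using this⟩ }
  have hK₀n : ∀ a ∈ F.autGroup R, ∀ k ∈ K₀, a * k * a⁻¹ ∈ K₀ := fun a ha k hk =>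
    ⟨mul_mem (mul_mem ha hk.1) (inv_mem ha), fun x => by
      obtain ⟨y, rfl⟩ := a.surjective x
      rw [MulAut.mul_apply, MulAut.mul_apply, MulAut.inv_apply_self]
      have h1 : y⁻¹ * k y ∈ T.subgroupOf R := hk.2 y
      have h2 := map_mem hT ((mem_autGroup_iff hRS).1 ha) (y⁻¹ * k y).2 h1
      rw [autFn_apply a (y⁻¹ * k y).2, Subtype.coe_eta, map_mul, map_inv] at h2
      exact h2⟩
  have hP₀ := (isFullyAutomized_iff.1 (fullyAutomized_of_fullyNormalized hS hF hR)).2.inf_normal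
    (N := K₀) (fun k hk => hk.1) hK₀n
  have hH : (autInducedBy S R ⊓ K₀).map (MulAut.conj α).toMonoidHom ≤ K₀ := by
    rintro _ ⟨k, hk, rfl⟩
    exact hK₀n α hα k hk.2
  obtain ⟨a, ha, hconj⟩ := hP₀.exists_conj_le (hP₀.isPGroup.map _) hH
  have hn : a * α ∈ F.autGroup R := mul_mem ha.1 hα
  obtain ⟨g, hg, hge, -⟩ := exists_extension_NK (receptive_of_fullyNormalized hS hF hR) hn K₀ (fun k hk => by
    have h := hconj _ ⟨k, hk, rfl⟩
    rw [show a * α * k * (a * α)⁻¹ = a * ((MulAut.conj α).toMonoidHom k) * a⁻¹ by simp [mul_assoc]]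
    exact h)
  have hlt : Nat.card R < Nat.card (R ⊔ NK S R K₀ : Subgroup Ω) := by
    have := finite_of_le hg.le
    refine lt_of_le_of_ne (Subgroup.card_le_of_le le_sup_left) fun he => ?_
    have heq : R = R ⊔ NK S R K₀ := eq_of_le_of_card hg.le le_sup_left he.ge
    have hRT : R ⊔ T ≤ S := sup_le hRS hT.1
    obtain ⟨x, hx, hxR⟩ := SetLike.exists_of_lt (lt_normalizerIn hS hRT (left_lt_sup.2 hTR))
    have hnorm : R ≤ Subgroup.normalizer (T : Set Ω) := fun r hr => (mem_normalizer hT (hRS hr)).2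
    obtain ⟨r, hr, w, hw, hrw⟩ : x ∈ (R : Set Ω) * (T : Set Ω) := by
      rw [← Subgroup.coe_mul_of_left_le_normalizer_right R T hnorm]
      exact hx.1
    refine hxR (hrw ▸ R.mul_mem hr ?_)
    have hwN : w ∈ normalizerIn S R := by
      rw [show w = r⁻¹ * x by rw [← hrw]; simp]
      exact mul_mem (inv_mem (le_normalizerIn hRS hr)) ⟨hRT hx.1, hx.2⟩
    rw [heq]
    refine Subgroup.mem_sup_right (mem_NK.2 ⟨hT.1 hw, normConj S R ⟨w, hwN⟩,
      ⟨autInducedBy_le_autGroup F le_rfl hRS (range_normConj S R ▸ ⟨_, rfl⟩), fun y => ?_⟩, fun y => rfl⟩)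
    show (y : Ω)⁻¹ * (w * y * w⁻¹) ∈ T
    have := T.mul_mem (conj_mem hT (S.inv_mem (hRS y.2)) hw) (T.inv_mem hw)
    simpa [mul_assoc] using this
  obtain ⟨γ, hγ⟩ := IH _ g hg hlt
  refine ⟨γ, fun x hx => ?_⟩
  rw [← hγ x (Subgroup.mem_sup_left hx), hge x hx, autFn_apply _ hx, autFn_apply _ hx, MulAut.mul_apply]
  have h1 := ha.2 (α ⟨x, hx⟩)
  have h2 : ((a (α ⟨x, hx⟩) : R) : Ω) = (α ⟨x, hx⟩ : R) *
      (((α ⟨x, hx⟩ : R) : Ω)⁻¹ * (a (α ⟨x, hx⟩) : R)) := by group
  rw [h2, theta_mul hT p (hRS (α ⟨x, hx⟩).2) (hT.1 h1), theta_eq_one_of_mem hT p h1, mul_one]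

theorem theta_residual [Finite S] {p : ℕ} [Fact p.Prime] (hS : IsPGroup p S) (hF : F.IsSaturated p)
    (hT : F.StronglyClosed T) {P : Subgroup Ω} (hP : P ≤ S) {α : F.autGroup P}
    (hα : α ∈ Cfsg.pResidual p (F.autGroup P)) :
    ∀ x : P, theta hT p ((α : MulAut P) x : P) = theta hT p x := by
  induction hα using Subgroup.closure_induction with
  | one => intro x; simp
  | mul a b _ _ ha hb =>
    intro x
    rw [Subgroup.coe_mul, MulAut.mul_apply, ha, hb]
  | inv a _ ha =>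
    intro x
    have := ha ((a : MulAut P)⁻¹ x)
    rw [MulAut.apply_inv_self] at this
    rw [InvMemClass.coe_inv, this]
  | mem a hga =>
    obtain ⟨γ, hγ⟩ := exists_gamma hS hF hT ((mem_autGroup_iff hP).1 a.2)
    have key : ∀ n : ℕ, ∀ x : P, theta hT p ((((a : MulAut P) ^ n) x : P) : Ω) = γ ^ n * theta hT p x * (γ ^ n)⁻¹ := by
      intro n
      induction n with
      | zero => intro x; simp
      | succ n ih =>
        intro x
        have h := hγ _ (((a : MulAut P) ^ n) x).2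
        rw [autFn_apply _ (((a : MulAut P) ^ n) x).2, ih] at h
        rw [pow_succ', MulAut.mul_apply, pow_succ', mul_inv_rev]
        refine h.trans ?_
        simp only [mul_assoc]
    intro x
    obtain ⟨k, hk⟩ := isPGroup_quot (p := p) (F := F) hT.1 γ
    have hn : (orderOf a).Coprime (p ^ k) := hga.pow_right k
    have h1 := key (orderOf a) x
    rw [← SubgroupClass.coe_pow, pow_orderOf_eq_one, OneMemClass.coe_one, MulAut.one_apply] at h1
    have h2 : Commute (γ ^ orderOf a) (theta hT p x) := mul_inv_eq_iff_eq_mul.1 h1.symm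
    have h3 : Commute γ (theta hT p x) := by
      have hcl : γ ∈ Subgroup.centralizer ({theta hT p x} : Set _) := by
        rw [← pow_one γ, ← hn.gcd_eq_one, ← zpow_natCast, Nat.gcd_eq_gcd_ab, zpow_add, zpow_mul,
          zpow_mul, zpow_natCast, zpow_natCast, hk, one_zpow, mul_one]
        exact Subgroup.zpow_mem _ (Subgroup.mem_centralizer_singleton_iff.2 h2.eq) _
      exact Subgroup.mem_centralizer_singleton_iff.1 hcl
    have h := hγ _ x.2
    rw [autFn_apply _ x.2, Subtype.coe_eta] at h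
    rw [h, h3.eq, mul_inv_cancel_right]

/-- Let F be a saturated fusion system over a finite p-group S and T a subgroup of S strongly closed in F (so T is normal in S). Then every element x of the hyperfocal subgroup of F acts on T by conjugation as an element of O^p(Aut_F(T))·Inn(T): there is an automorphism of T in the subgroup generated by the elements of Aut_F(T) of order prime to p together with the inner automorphisms of T that agrees with conjugation by x. -/
theorem result {Ω : Type*} [Group Ω] {S : Subgroup Ω} [Finite S] (p : ℕ) [Fact p.Prime] (hS : IsPGroup p S) (F : Cfsg.FusionSystem S) (hF : F.IsSaturated p) (T : Subgroup Ω) (hT : F.StronglyClosed T) : ∀ x ∈ F.hyperfocalSubgroup p, ∃ α ∈ ((Cfsg.pResidual p ↥(F.autGroup T)).map (F.autGroup T).subtype ⊔ Cfsg.Inn ↥T : Subgroup (MulAut ↥T)), ∀ t : ↥T, ((α t : ↥T) : Ω) = x * (t : Ω) * x⁻¹ := by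
  have hker : ∀ x ∈ F.hyperfocalSubgroup p, x ∈ S ∧ theta hT p x = 1 := by
    intro x hx
    induction hx using Subgroup.closure_induction with
    | one => exact ⟨one_mem _, theta_eq_one_of_mem hT p T.one_mem⟩
    | mul a b _ _ ha hb => exact ⟨mul_mem ha.1 hb.1, by rw [theta_mul hT p ha.1 hb.1, ha.2, hb.2, one_mul]⟩
    | inv a _ ha =>
      refine ⟨inv_mem ha.1, ?_⟩
      have h := theta_mul hT p (inv_mem ha.1) ha.1
      rwa [inv_mul_cancel, theta_eq_one_of_mem hT p T.one_mem, ha.2, mul_one, eq_comm] at h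
    | mem a ha =>
      obtain ⟨P, α, y, hP, hα, rfl⟩ := ha
      have hy := hP y.2
      have hy' : (((α : MulAut P) y : P) : Ω) ∈ S := hP ((α : MulAut P) y).2
      refine ⟨mul_mem (inv_mem hy) hy', ?_⟩
      have h := theta_mul hT p (inv_mem hy) hy
      rw [inv_mul_cancel, theta_eq_one_of_mem hT p T.one_mem] at h
      rw [theta_mul hT p (inv_mem hy) hy', theta_residual hS hF hT hP hα, ← h]
  intro x hx
  obtain ⟨hxS, h1⟩ := hker x hx
  rw [theta_of_mem hT p hxS, QuotientGroup.eq_one_iff] at h1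
  refine ⟨(act hT ⟨x, hxS⟩ : MulAut T), ?_, fun t => rfl⟩
  have hle : (kerGrp F p T).map (F.autGroup T).subtype ≤
      (Cfsg.pResidual p (F.autGroup T)).map (F.autGroup T).subtype ⊔ Cfsg.Inn T := by
    rw [kerGrp, Subgroup.map_sup]
    exact sup_le_sup_left (Subgroup.map_le_iff_le_comap.2 fun a ha => ha) _
  exact hle ⟨_, h1, rfl⟩

end Cfsg.Agent.S5198
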