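import Cfsg.Agent.Lib.FusionFix.Control
-- import your own Cfsg.Agent.* helpers here

set_option autoImplicit false
open Cfsg
open scoped commutatorElement

namespace Cfsg.Agent.S5200

/-- Let F be a saturated fusion system over a finite p-group S and E a normal subsystem of F over T whose centralizer in S lies in T: every subgroup Y of C_S(T) such that E is contained in the centralizer fusion system of Y in F satisfies Y ≤ T. Then T·C_S(T)/T is abelian (the commutator subgroup of T·C_S(T) lies in T), and if p is odd then C_S(T) ≤ T. -/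
theorem result {Ω : Type*} [Group Ω] {S : Subgroup Ω} [Finite S] (p : ℕ) [Fact p.Prime] (hS : IsPGroup p S) (F : Cfsg.FusionSystem S) (hF : F.IsSaturated p) {T : Subgroup Ω} (E : Cfsg.FusionSystem T) (hE : E.IsNormalIn F p) (hCE : ∀ Y : Subgroup Ω, Y ≤ Cfsg.FusionSystem.centralizerIn S T → (∀ C : Cfsg.FusionSystem (Cfsg.FusionSystem.centralizerIn S Y), F.IsCentralizerSystem Y C → E.IsSubsystemOf C) → Y ≤ T) : ⁅T ⊔ Cfsg.FusionSystem.centralizerIn S T, T ⊔ Cfsg.FusionSystem.centralizerIn S T⁆ ≤ T ∧ (p ≠ 2 → Cfsg.FusionSystem.centralizerIn S T ≤ T) := by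
  have hTS : T ≤ S := hE.1.2.2.2.1.1
  have hY : ∀ Y : Subgroup Ω, Cfsg.Agent.FusionNormalCent.Centralizes F E Y → Y ≤ T := fun Y hY =>
    hCE Y hY.1 fun C hC P φ hφ => by
      rw [hC P]
      exact (Cfsg.Agent.FusionNormalCent.centralizes_iff hTS hY.1).2 hY P hφ
  have hcent : Cfsg.Agent.FusionNormalCent.cent F E p hE.1.2.2 ≤ T :=
    hY _ (Cfsg.Agent.FusionNormalCent.cent_centralizes hE hS hF)
  let C := Cfsg.FusionSystem.centralizerIn S T
  obtain ⟨D, hD⟩ := Cfsg.Agent.Fusion.exists_centralizerSystem (F := F) hTS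
  have hcomm : ∀ a ∈ C, ∀ b ∈ C, a⁻¹ * (b * a * b⁻¹) ∈ T := by
    intro a ha b hb
    obtain ⟨φ, hφ, e⟩ := Cfsg.Agent.Fusion.IsMap.conj (F := D) le_rfl hb
    refine hcent (Cfsg.Agent.FusionNormalCent.focal_le_cent hE hS hF hD
      (Subgroup.subset_closure ⟨C, φ, ⟨a, ha⟩, hφ, ?_⟩))
    rw [e a ha]
  refine ⟨Subgroup.commutator_le.2 fun x hx y hy => ?_, fun hp c hc => ?_⟩
  · obtain ⟨t, ht, c, hc, rfl⟩ := Cfsg.Agent.FusionFix.exists_mul_of_mem_dom hTS hx
    obtain ⟨t', ht', c', hc', rfl⟩ := Cfsg.Agent.FusionFix.exists_mul_of_mem_dom hTS hy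
    have h1 : t' * c = c * t' := (Cfsg.Agent.Fusion.mem_centralizerIn.1 hc).2 t' ht' |>.symm
    have h2 : t⁻¹ * (c * c' * c⁻¹) = c * c' * c⁻¹ * t⁻¹ :=
      ((Cfsg.Agent.Fusion.mem_centralizerIn.1 (mul_mem (mul_mem hc hc') (inv_mem hc))).2 t⁻¹
        (inv_mem ht)).symm
    have h3 := hcomm c'⁻¹ (inv_mem hc') c hc
    have h4 : c * c' * c⁻¹ * c'⁻¹ ∈ T := by
      have := inv_mem h3
      simpa [mul_assoc] using this
    have e : ⁅t * c, t' * c'⁆ = t * t' * t⁻¹ * (c * c' * c⁻¹ * c'⁻¹) * t'⁻¹ := by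
      calc ⁅t * c, t' * c'⁆ = t * (c * t') * c' * c⁻¹ * t⁻¹ * c'⁻¹ * t'⁻¹ := by
            rw [commutatorElement_def]; group
        _ = t * (t' * c) * c' * c⁻¹ * t⁻¹ * c'⁻¹ * t'⁻¹ := by rw [h1]
        _ = t * t' * ((c * c' * c⁻¹) * t⁻¹) * c'⁻¹ * t'⁻¹ := by group
        _ = t * t' * (t⁻¹ * (c * c' * c⁻¹)) * c'⁻¹ * t'⁻¹ := by rw [h2]
        _ = _ := by group
    rw [e]
    exact mul_mem (mul_mem (mul_mem (mul_mem ht ht') (inv_mem ht)) h4) (inv_mem ht')
  · obtain ⟨z, hz, -, hzC⟩ := Cfsg.Agent.FusionFix.centralizes_shift hp hS hF hE hc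
    have := mul_mem (hY _ hzC (Subgroup.mem_zpowers (c * z))) (inv_mem hz)
    rwa [mul_inv_cancel_right] at this

end Cfsg.Agent.S5200
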