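import Cfsg.Statements.S5204
import Cfsg.Agent.Lib.Fusion.GroupBridge
import Cfsg.Agent.Lib.PLocal.Complements

set_option autoImplicit false
open Cfsg Cfsg.FusionSystem

namespace Cfsg.Agent.S5204

open Cfsg.Agent.Fusion

universe u

/-- The criterion through `Z(J(S))`. -/
def crit (p : ℕ) [Fact p.Prime] : Crit.{u} p where
  H Ω _ S F := NPAut p F (centerThompsonAOf S)
  Ok _ _ _ _ := True
  W Ω _ R := {centerThompsonAOf R}
  W_spec := by
    intro Ω _ R _ hR hne X hX
    obtain rfl := Set.mem_singleton_iff.1 hX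
    have hle : centerThompsonAOf R ≤ R := inf_le_left.trans (PLocal.thompsonSubgroupAOf_le R)
    refine ⟨hle, fun e => ?_, le_normalizer_of_functorial (fun {X} [Group X] K => centerThompsonAOf K)
      (fun f K hf => PLocal.map_centerThompsonAOf f hf) R⟩
    have : Nontrivial R := (Subgroup.nontrivial_iff_ne_bot R).2 hne
    obtain ⟨z, hz, hz1, -⟩ := PLocal.exists_central_of_order_p (G := R) (H := ⊤)
      (hR.to_subgroup ⊤) top_ne_bot
    have h1 : (z : Ω) ∈ centerThompsonAOf R := by
      have h2 := Subgroup.mem_map_of_mem R.subtype (PLocal.central_le_centerThompsonAOf hz)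
      rwa [PLocal.map_centerThompsonAOf _ R.subtype_injective.injOn, ← MonoidHom.range_eq_map,
        R.range_subtype] at h2
    rw [e, Subgroup.mem_bot] at h1
    exact hz1 (Subtype.ext h1)
  mono := by
    intro Ω _ S T F E hT hE h
    subst hT
    exact h.sub hE
  of_npaut := fun _ _ _ _ _ _ _ h => h _ rfl
  ok_normalizer := fun _ _ _ _ _ _ _ _ _ _ _ _ => trivial
  ok_factor := fun _ _ _ _ _ _ _ _ _ _ _ _ _ _ _ _ => trivial

theorem pAut_of_npaut {Ω : Type u} [Group Ω] {S : Subgroup Ω} [Finite S] (p : ℕ) [Fact p.Prime]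
    (hp : p ≠ 2) (hS : IsPGroup p S) (F : FusionSystem S) (hF : F.IsSaturated p)
    (h : NPAut p F (centerThompsonAOf S)) : PAut p F := by
  refine (crit.{u} p).pAut (fun Ω _ S _ F hS hc _ hH _ => ?_) hS hF trivial h
  have hnc := nc_core hS hc
  have hm := hnc.isModel_emb
  obtain ⟨hfin, hι, ⟨T, hT⟩, -⟩ := hm
  have hle : centerThompsonAOf S ≤ S := inf_le_left.trans (PLocal.thompsonSubgroupAOf_le S)
  have hnor := le_normalizer_of_functorial (fun {X} [Group X] K => centerThompsonAOf K)
      (fun f K hf => PLocal.map_centerThompsonAOf f hf) S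
  have hN := hnpc_normalizer_of_npaut hι ⟨T, hT⟩ hle (Subgroup.le_normalizer.trans hnor) hH
  rw [subgroupOf_map_eq (fun {X} [Group X] K => centerThompsonAOf K)
    (fun f K hf => PLocal.map_centerThompsonAOf f hf) hnc.emb hι.1, ← hT] at hN
  exact pAut_of_model_hnpc hS hnc.isModel_emb (PLocal.glauberman_complementA hp T hN)

/-- The Glauberman–Thompson normal p-complement criterion for fusion systems, p odd. Let F be a saturated fusion system over a finite p-group S with p odd, and let Z(J(S)) be the centre of the subgroup generated by the abelian subgroups of S of largest order. Then F is the inner fusion system of S if and only if the normalizer fusion system of Z(J(S)) in F is the inner fusion system of N_S(Z(J(S))) = S. -/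
theorem result {Ω : Type*} [Group Ω] {S : Subgroup Ω} [Finite S] (p : ℕ) [Fact p.Prime] (hS : IsPGroup p S) (F : Cfsg.FusionSystem S) (hF : F.IsSaturated p) (hp : p ≠ 2) : (∀ P : Subgroup Ω, F.Hom P = (Cfsg.innerFusionSystem S).Hom P) ↔ ∀ N : Cfsg.FusionSystem (Cfsg.FusionSystem.normalizerIn S (Cfsg.centerThompsonAOf S)), F.IsNormalizerSystem (Cfsg.centerThompsonAOf S) N → ∀ P : Subgroup Ω, N.Hom P = (Cfsg.innerFusionSystem (Cfsg.FusionSystem.normalizerIn S (Cfsg.centerThompsonAOf S))).Hom P := by
  have hle : centerThompsonAOf S ≤ S := inf_le_left.trans (PLocal.thompsonSubgroupAOf_le S)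
  exact ⟨fun h N hN => normalizer_inner_of_inner hle h hN, fun h => inner_of_pAut hS hF
    (pAut_of_npaut p hp hS F hF (npaut_of_normalizer_inner hS hle h))⟩

end Cfsg.Agent.S5204
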