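import Cfsg.Statements.S5212
import Cfsg.Agent.Lib.FusionMetaTwo.Radical

set_option autoImplicit false
open Cfsg

namespace Cfsg.Agent.S5212

/-- Let S be a finite metacyclic 2-group that is not homocyclic abelian (a direct product of cyclic groups of one common order), not dihedral, not semidihedral and not generalized quaternion. Then every saturated fusion system over S is the inner fusion system of S. -/
theorem result {Ω : Type*} [Group Ω] {S : Subgroup Ω} [Finite S] (hS : IsPGroup 2 S) (F : Cfsg.FusionSystem S) (hF : F.IsSaturated 2) (hm : Cfsg.IsMetacyclic ↥S) (hh : ¬ ∃ n k : ℕ, Nonempty (↥S ≃* Multiplicative (Fin k → ZMod (2 ^ n)))) (hd : ¬ ∃ m : ℕ, Nonempty (↥S ≃* DihedralGroup m)) (hq : ¬ ∃ m : ℕ, Nonempty (↥S ≃* QuaternionGroup m)) (hsd : ¬ Cfsg.IsQuasiDihedral ↥S) : ∀ P : Subgroup Ω, F.Hom P = (Cfsg.innerFusionSystem S).Hom P := by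
  have hx : ¬ Cfsg.Agent.FusionMetaTwo.MaxClassTwo ↥S := by
    rintro (⟨n, -, h⟩ | h | ⟨n, -, h⟩)
    exacts [hd ⟨n, h⟩, hsd h, hq ⟨n, h⟩]
  have hA := Cfsg.Agent.FusionMetaTwo.aut_isPGroup_two hS hm (by
    rintro ⟨n, -, ⟨e⟩⟩
    refine hh ⟨n, 2, ⟨e.trans ?_⟩⟩
    exact
      { toFun := fun z => Multiplicative.ofAdd ![z.1.toAdd, z.2.toAdd]
        invFun := fun v => (Multiplicative.ofAdd (v.toAdd 0), Multiplicative.ofAdd (v.toAdd 1))
        left_inv := fun z => by simp
        right_inv := fun v => by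
          refine Multiplicative.toAdd.injective (funext fun i => ?_)
          fin_cases i <;> simp
        map_mul' := fun z w => by
          refine Multiplicative.toAdd.injective (funext fun i => ?_)
          fin_cases i <;> simp }) hx
  intro P
  haveI : Fact (Nat.Prime 2) := ⟨Nat.prime_two⟩
  exact Cfsg.Agent.FusionMetaTwo.hom_eq_inner hS hF (Cfsg.Agent.FusionMetaTwo.isNormal_two hS hm hx hF) hA P

end Cfsg.Agent.S5212
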