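import Cfsg.Statements.S5218
import Cfsg.Agent.Lib.FusionTate.PowerFix
import Cfsg.Agent.Lib.FusionChain.Alperin

set_option autoImplicit false
open Cfsg

namespace Cfsg.Agent.S5218

open Cfsg.FusionSystem Cfsg.Agent.Fusion Cfsg.Agent.FusionChain
open scoped commutatorElement

variable {Ω : Type*} [Group Ω] {S : Subgroup Ω} {F : FusionSystem S} {p : ℕ}

theorem iff_of_forward {R : Subgroup Ω} [Finite R] (V : Subgroup Ω) (a : MulAut R)
    (h : ∀ y : R, (y : Ω) ∈ V → ((a y : R) : Ω) ∈ V) (y : R) :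
    ((a y : R) : Ω) ∈ V ↔ (y : Ω) ∈ V := by
  haveI : Finite (MulAut R) := Finite.of_injective (fun f => (⇑f : R → R)) DFunLike.coe_injective
  refine ⟨fun hy => ?_, h y⟩
  have key : ∀ m : ℕ, (((a ^ m) (a y) : R) : Ω) ∈ V := by
    intro m
    induction m with
    | zero => simpa using hy
    | succ m ih => rw [pow_succ', MulAut.mul_apply]; exact h _ ih
  have h1 := key (orderOf a - 1)
  rwa [← MulAut.mul_apply, ← pow_succ, Nat.sub_add_cancel (orderOf_pos a), pow_orderOf_eq_one] at h1

/-- Elements normalizing `D ≤ T` with `p`-th power in `D` fix the `pⁿ`-th powers of the centre. -/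
theorem fix_power [Finite S] [Fact p.Prime] {n : ℕ}
    (hcl : Subgroup.lowerCentralSeries S (n * (p - 1) + 1) = ⊥) {R : Subgroup Ω} (hRS : R ≤ S)
    {A : Subgroup (MulAut R)} (hT : IsSylowIn p (autInducedBy S R) A) {t : MulAut R} (htA : t ∈ A)
    (htp : t ^ p ∈ autInducedBy S R) {z : Ω} (hzR : z ∈ R)
    (hz : z ∈ Subgroup.centralizer (S : Set Ω)) :
    t ⟨z ^ p ^ n, R.pow_mem hzR _⟩ = ⟨z ^ p ^ n, R.pow_mem hzR _⟩ := by
  haveI : Finite R := finite_of_le hRS
  haveI : Finite (MulAut R) := Finite.of_injective (fun f => (⇑f : R → R)) DFunLike.coe_injective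
  have htP : IsPGroup p (Subgroup.zpowers t) := by
    rintro ⟨_, i, rfl⟩
    obtain ⟨k, hk⟩ := hT.isPGroup ⟨t ^ p, htp⟩
    refine ⟨k + 1, Subtype.ext ?_⟩
    have hk' : (t ^ p) ^ p ^ k = 1 := congrArg Subtype.val hk
    show (t ^ i) ^ p ^ (k + 1) = 1
    rw [← zpow_natCast, ← zpow_mul, mul_comm i, zpow_mul, zpow_natCast, pow_succ', pow_mul, hk', one_zpow]
  obtain ⟨a, ha, has⟩ := hT.exists_conj_le htP (Subgroup.zpowers_le.2 htA)
  obtain ⟨x, hx, hxe⟩ := mem_autInducedBy_iff.1 (has t (Subgroup.mem_zpowers t))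
  obtain ⟨x', hx', hxe'⟩ := mem_autInducedBy_iff.1 htp
  -- iterated commutators with `x`
  let Dt : R → R := fun y => t y * y⁻¹
  let Ds : R → R := fun y => (a * t * a⁻¹) y * y⁻¹
  have hsemi : Function.Semiconj a Dt Ds := fun y => by
    show a (t y * y⁻¹) = (a * t * a⁻¹) (a y) * (a y)⁻¹
    simp [map_mul, map_inv]
  have hDs : ∀ j (y : R), ((Ds^[j] y : R) : Ω) ∈ Subgroup.lowerCentralSeries S j := by
    intro j
    induction j with
    | zero => intro y; exact hRS y.2
    | succ j ih =>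
      intro y
      rw [Function.iterate_succ_apply']
      set w := Ds^[j] y
      show (((a * t * a⁻¹) w * w⁻¹ : R) : Ω) ∈ _
      rw [Subgroup.coe_mul, InvMemClass.coe_inv, hxe]
      have : ⁅(w : Ω), x⁆ ∈ Subgroup.lowerCentralSeries S (j + 1) :=
        Subgroup.commutator_mem_commutator (ih y) hx
      have h' := Subgroup.inv_mem _ this
      rw [commutatorElement_inv, commutatorElement_def] at h'
      exact h'
  have hDt : ∀ y : R, Dt^[n * (p - 1) + 1] y = 1 := by
    intro y
    have h1 := hsemi.iterate_right (n * (p - 1) + 1) y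
    have h2 := hDs (n * (p - 1) + 1) (a y)
    rw [hcl, Subgroup.mem_bot] at h2
    rw [show Ds^[n * (p - 1) + 1] (a y) = 1 from Subtype.ext h2] at h1
    exact a.injective (h1.trans (map_one a).symm)
  -- the module
  letI : CommGroup (Subgroup.center R) :=
    { (inferInstance : Group (Subgroup.center R)) with
      mul_comm := fun u v => Subtype.ext (Subgroup.mem_center_iff.1 v.2 u) }
  have hchar : ∀ w : Subgroup.center R, t w ∈ Subgroup.center R := fun w =>
    Subgroup.mem_center_iff.2 fun g => by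
      obtain ⟨g', rfl⟩ := t.surjective g
      rw [← map_mul, ← map_mul, Subgroup.mem_center_iff.1 w.2 g']
  let τ : AddMonoid.End (Additive (Subgroup.center R)) := MonoidHom.toAdditive
    ((t.toMonoidHom.comp (Subgroup.center R).subtype).codRestrict (Subgroup.center R) hchar)
  let δ : AddMonoid.End (Additive (Subgroup.center R)) := τ - 1
  have hval : ∀ j (w : Additive (Subgroup.center R)),
      (((δ ^ j) w).toMul : R) = Dt^[j] (w.toMul : R) := by
    intro j
    induction j with
    | zero => intro w; rfl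
    | succ j ih =>
      intro w
      rw [Function.iterate_succ_apply', pow_succ', ← ih w]
      set v := (δ ^ j) w
      show ((δ v).toMul : R) = t (v.toMul : R) * (v.toMul : R)⁻¹
      show ((((τ v - v : Additive (Subgroup.center R))).toMul : Subgroup.center R) : R) = _
      rw [toMul_sub, div_eq_mul_inv, Subgroup.coe_mul, InvMemClass.coe_inv]
      rfl
  have hδ : δ ^ (n * (p - 1) + 1) = 0 := by
    refine AddMonoidHom.ext fun w => ?_
    refine Additive.toMul.injective (Subtype.ext ?_)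
    exact (hval _ w).trans (hDt _)
  have hzc : (⟨z, hzR⟩ : R) ∈ Subgroup.center R := Subgroup.mem_center_iff.2 fun g =>
    Subtype.ext (Subgroup.mem_centralizer_iff.1 hz g (hRS g.2))
  have hfix : ((δ + 1) ^ p) (Additive.ofMul (⟨⟨z, hzR⟩, hzc⟩ : Subgroup.center R)) =
      Additive.ofMul (⟨⟨z, hzR⟩, hzc⟩ : Subgroup.center R) := by
    rw [show δ + 1 = τ from sub_add_cancel τ 1]
    have hpow : ∀ m (w : Additive (Subgroup.center R)), (((τ ^ m) w).toMul : R) = (t ^ m) (w.toMul : R) := by
      intro m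
      induction m with
      | zero => intro w; rfl
      | succ m ih =>
        intro w
        rw [pow_succ', pow_succ' t, MulAut.mul_apply, ← ih w]
        rfl
    refine Additive.toMul.injective (Subtype.ext ((hpow p _).trans (Subtype.ext ?_)))
    show (((t ^ p) ⟨z, hzR⟩ : R) : Ω) = z
    rw [hxe']
    show x' * z * x'⁻¹ = z
    rw [Subgroup.mem_centralizer_iff.1 hz x' hx', mul_inv_cancel_right]
  have h := FusionTate.smul_pow_fixed n (n * (p - 1) + 1) δ hδ le_rfl hfix
  have h2 := hval 1 ((p ^ n) • Additive.ofMul (⟨⟨z, hzR⟩, hzc⟩ : Subgroup.center R))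
  rw [pow_one, h] at h2
  have h3 : t ((⟨z, hzR⟩ : R) ^ p ^ n) * ((⟨z, hzR⟩ : R) ^ p ^ n)⁻¹ = 1 := h2.symm
  exact mul_inv_eq_one.1 h3

theorem le_center_of_mem {n : ℕ} {v : Ω}
    (hv : v ∈ Cfsg.powerClosure p n (S ⊓ Subgroup.centralizer (S : Set Ω))) :
    v ∈ S ⊓ Subgroup.centralizer (S : Set Ω) := by
  refine (Subgroup.closure_le _).2 ?_ hv
  rintro _ ⟨x, hx, rfl⟩
  exact pow_mem hx _

theorem map_mem [Finite S] [Fact p.Prime] (hS : IsPGroup p S) (hF : F.IsSaturated p) {n : ℕ}
    (hcl : Subgroup.lowerCentralSeries S (n * (p - 1) + 1) = ⊥) {P : Subgroup Ω} {f : Ω → Ω}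
    (hf : IsMap F P f) :
    ∀ v ∈ Cfsg.powerClosure p n (S ⊓ Subgroup.centralizer (S : Set Ω)), v ∈ P →
      f v ∈ Cfsg.powerClosure p n (S ⊓ Subgroup.centralizer (S : Set Ω)) := by
  set V := Cfsg.powerClosure p n (S ⊓ Subgroup.centralizer (S : Set Ω)) with hVdef
  refine alperin_induction hS hF (fun P f => ∀ v ∈ V, v ∈ P → f v ∈ V) ?_ ?_ ?_ ?_ hf
  · intro P f g _ h e v hv hvP
    rw [← e v hvP]
    exact h v hv hvP
  · intro P P' f _ hle h v hv hvP
    exact h v hv (hle hvP)
  · intro P P' f g _ _ hfP h h' v hv hvP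
    exact h' _ (h v hv hvP) (hfP v hvP)
  intro R hR hRc _ α hα IH
  have hRS := hR.1
  haveI : Finite R := finite_of_le hRS
  haveI : Finite (MulAut R) := Finite.of_injective (fun f => (⇑f : R → R)) DFunLike.coe_injective
  have hZR : S ⊓ Subgroup.centralizer (S : Set Ω) ≤ R := fun z hz =>
    hRc.2 R (isConj_refl _ hRS) ⟨hz.1, Subgroup.centralizer_le (fun y hy => hRS hy) hz.2⟩
  let M : Subgroup (MulAut R) :=
    { carrier := {a | ∀ y : R, ((a y : R) : Ω) ∈ V ↔ (y : Ω) ∈ V}
      one_mem' := fun y => Iff.rfl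
      mul_mem' := fun {a b} ha hb y => (ha (b y)).trans (hb y)
      inv_mem' := fun {a} ha y => by
        conv_rhs => rw [← MulAut.apply_inv_self R a y]
        exact (ha _).symm }
  have hgen : ∀ a : MulAut R, (∀ z, ∀ hz : z ∈ S ⊓ Subgroup.centralizer (S : Set Ω),
      ((a ⟨z ^ p ^ n, R.pow_mem (hZR hz) _⟩ : R) : Ω) ∈ V) → a ∈ M := by
    intro a h
    refine iff_of_forward V a fun y hy => ?_
    have hle : V ≤ (V.comap (R.subtype.comp a.toMonoidHom)).map R.subtype := by
      refine (Subgroup.closure_le _).2 ?_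
      rintro _ ⟨z, hz, rfl⟩
      exact ⟨⟨z ^ p ^ n, R.pow_mem (hZR hz) _⟩, h z hz, rfl⟩
    obtain ⟨y', hy', e⟩ := hle hy
    rw [← show y' = y from Subtype.ext e]
    exact hy'
  have hA : F.autGroup R ≤ M := by
    have hT := (isFullyAutomized_iff.1 (fullyAutomized_of_fullyNormalized hS hF hR)).2
    refine FusionTate.le_of_local hT M ?_ ?_
    · intro g hg hgT
      refine hgen g fun z hz => ?_
      have hzV : z ^ p ^ n ∈ V := Subgroup.subset_closure ⟨z, hz, rfl⟩
      by_cases hRe : R = S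
      · subst hRe
        refine Subgroup.subset_closure ⟨(g ⟨z, hZR hz⟩ : R), ⟨(g ⟨z, hZR hz⟩).2, ?_⟩, ?_⟩
        · refine Subgroup.mem_centralizer_iff.2 fun y hy => ?_
          obtain ⟨y', hy'⟩ := g.surjective ⟨y, hy⟩
          have : (y' : R) * ⟨z, hZR hz⟩ = ⟨z, hZR hz⟩ * y' :=
            Subtype.ext (Subgroup.mem_centralizer_iff.1 hz.2 y' y'.2)
          have := congrArg (fun w : R => ((g w : R) : Ω)) this
          simpa [hy'] using this
        · rw [← SubmonoidClass.coe_pow, ← map_pow]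
          rfl
      obtain ⟨f', hf', hfe⟩ := exists_extension (receptive_of_fullyNormalized hS hF hR) hg le_rfl
        (fun x hx => hgT _ (range_normConj S R ▸ ⟨_, rfl⟩))
      have hlt : Nat.card R < Nat.card (R ⊔ normalizerIn S R : Subgroup Ω) := by
        haveI := finite_of_le hf'.le
        refine lt_of_le_of_ne (Subgroup.card_le_of_le le_sup_left) fun he => ?_
        have heq := eq_of_le_of_card hf'.le le_sup_left he.ge
        exact (lt_normalizerIn hS le_rfl (lt_of_le_of_ne hRS hRe)).not_ge (le_sup_right.trans heq.ge)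
      have := IH _ f' hf' hlt _ hzV (Subgroup.mem_sup_left (R.pow_mem (hZR hz) _))
      rwa [hfe _ (R.pow_mem (hZR hz) _), autFn_apply] at this
    · intro D hD t ht _ htp
      refine hgen t fun z hz => ?_
      rw [fix_power hcl hRS hT ht (hD htp) (hZR hz) hz.2]
      exact Subgroup.subset_closure ⟨z, hz, rfl⟩
  intro v hv hvR
  rw [autFn_apply α hvR]
  exact (hA hα ⟨v, hvR⟩).2 hv

/-- Let p be a prime, n a natural number, S a nontrivial finite p-group of nilpotence class at most n(p−1)+1, and F a saturated fusion system over S. Then the subgroup generated by the pⁿ-th powers of the elements of Z(S) is normal in F. -/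
theorem result {Ω : Type*} [Group Ω] {S : Subgroup Ω} [Finite S] (p : ℕ) [Fact p.Prime] (hS : IsPGroup p S) (F : Cfsg.FusionSystem S) (hF : F.IsSaturated p) (n : ℕ) (hS1 : S ≠ ⊥) (hcl : Subgroup.lowerCentralSeries S (n * (p - 1) + 1) = ⊥) : F.IsNormal (Cfsg.powerClosure p n (S ⊓ Subgroup.centralizer (S : Set Ω))) := by
  refine isNormal_of_radicals hS hF (fun v hv => (le_center_of_mem hv).1) fun R hR hRc _ => ⟨?_, ?_⟩
  · intro v hv
    have hvc := le_center_of_mem hv
    exact hRc.2 R (isConj_refl _ hR.1) ⟨hvc.1, Subgroup.centralizer_le (fun y hy => hR.1 hy) hvc.2⟩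
  · intro α hα v hv
    refine map_mem hS hF hcl (isIso_autFn hR.1 hα).1 v hv ?_
    have hvc := le_center_of_mem hv
    exact hRc.2 R (isConj_refl _ hR.1) ⟨hvc.1, Subgroup.centralizer_le (fun y hy => hR.1 hy) hvc.2⟩

end Cfsg.Agent.S5218
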