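import Cfsg.Statements.S5219
import Cfsg.Agent.S5218

set_option autoImplicit false
open Cfsg

namespace Cfsg.Agent.S5219

open scoped commutatorElement

theorem pow_mem_ucs {G : Type*} [Group G] (m : ℕ) (hZ : ∀ z ∈ Subgroup.center G, z ^ m = 1) :
    ∀ i : ℕ, ∀ x ∈ Subgroup.upperCentralSeries G i, x ^ (m ^ i) = 1 := by
  have step : ∀ i : ℕ, ∀ x ∈ Subgroup.upperCentralSeries G (i + 1),
      x ^ m ∈ Subgroup.upperCentralSeries G i := by
    intro i
    induction i with
    | zero =>
      intro x hx
      rw [zero_add, Subgroup.upperCentralSeries_one] at hx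
      rw [hZ x hx]
      exact one_mem _
    | succ i ih =>
      intro x hx
      rw [Subgroup.mem_upperCentralSeries_succ_iff]
      intro y
      have hxy := Subgroup.mem_upperCentralSeries_succ_iff.1 hx y
      let π := QuotientGroup.mk' (Subgroup.upperCentralSeries G i)
      have hc : ∀ g, π ⁅x, y⁆ * π g = π g * π ⁅x, y⁆ := by
        intro g
        have h := Subgroup.mem_upperCentralSeries_succ_iff.1 hxy g
        have h1 : π ⁅⁅x, y⁆, g⁆ = 1 := (QuotientGroup.eq_one_iff _).2 h
        rw [map_commutatorElement, commutatorElement_eq_one_iff_mul_comm] at h1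
        exact h1
      have key : ∀ j : ℕ, π ⁅x ^ j, y⁆ = π ⁅x, y⁆ ^ j := by
        intro j
        induction j with
        | zero => simp
        | succ j ihj =>
          have e : ⁅x ^ (j + 1), y⁆ = x * ⁅x ^ j, y⁆ * x⁻¹ * ⁅x, y⁆ := by
            simp only [commutatorElement_def, pow_succ']
            group
          rw [e, map_mul, map_mul, map_mul, map_inv, ihj, pow_succ]
          have hcj : Commute (π x) (π ⁅x, y⁆ ^ j) := (show Commute (π x) (π ⁅x, y⁆) from (hc x).symm).pow_right j
          rw [hcj.eq, mul_inv_cancel_right]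
      refine (QuotientGroup.eq_one_iff _).1 ?_
      show π ⁅x ^ m, y⁆ = 1
      rw [key, ← map_pow]
      exact (QuotientGroup.eq_one_iff _).2 (ih _ hxy)
  intro i
  induction i with
  | zero =>
    intro x hx
    rw [Subgroup.upperCentralSeries_zero, Subgroup.mem_bot] at hx
    rw [hx, one_pow]
  | succ i ih =>
    intro x hx
    rw [pow_succ', pow_mul]
    exact ih _ (step i x hx)

/-- Let p be a prime, n a natural number, S a nontrivial finite p-group of nilpotence class at most n(p−1)+1, and F a saturated fusion system over S with no nontrivial normal subgroup (O_p(F) = 1). Then S has exponent dividing p^(n²(p−1)+n). -/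
theorem result {Ω : Type*} [Group Ω] {S : Subgroup Ω} [Finite S] (p : ℕ) [Fact p.Prime] (hS : IsPGroup p S) (F : Cfsg.FusionSystem S) (hF : F.IsSaturated p) (n : ℕ) (hS1 : S ≠ ⊥) (hcl : Subgroup.lowerCentralSeries S (n * (p - 1) + 1) = ⊥) (hcore : F.core = ⊥) : Monoid.exponent ↥S ∣ p ^ (n ^ 2 * (p - 1) + n) := by
  have hV : Cfsg.powerClosure p n (S ⊓ Subgroup.centralizer (S : Set Ω)) ≤ ⊥ :=
    hcore ▸ le_sSup (S5218.result p hS F hF n hS1 hcl)
  have hucs : Subgroup.upperCentralSeries S (n * (p - 1) + 1) = ⊤ := by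
    refine Subgroup.lowerCentralSeries_eq_bot_iff_upperCentralSeries_eq_top.1 ?_
    refine Subgroup.map_injective S.subtype_injective ?_
    rw [Subgroup.top_subtype_lowerCentralSeries, hcl, Subgroup.map_bot]
  have hZ : ∀ z ∈ Subgroup.center S, z ^ (p ^ n) = 1 := by
    intro z hz
    refine Subtype.ext (Subgroup.mem_bot.1 (hV (Subgroup.subset_closure ⟨z, ⟨z.2, ?_⟩, ?_⟩)))
    · exact Subgroup.mem_centralizer_iff.2 fun y hy =>
        congrArg Subtype.val (Subgroup.mem_center_iff.1 hz ⟨y, hy⟩)
    · exact SubmonoidClass.coe_pow z _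
  refine Monoid.exponent_dvd_of_forall_pow_eq_one fun x => ?_
  have h := pow_mem_ucs (p ^ n) hZ (n * (p - 1) + 1) x (hucs ▸ Subgroup.mem_top x)
  rwa [← pow_mul, show n * (n * (p - 1) + 1) = n ^ 2 * (p - 1) + n by ring] at h

end Cfsg.Agent.S5219
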