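import Cfsg.Statements.S5220
import Cfsg.Agent.Lib.FusionTate.Control

set_option autoImplicit false
open Cfsg

namespace Cfsg.Agent.S5220

open Cfsg.FusionSystem Cfsg.Agent.Fusion Cfsg.Agent.FusionChain Cfsg.Agent.FusionTate

/-- Let F be a saturated fusion system over a nontrivial finite p-group S, let J(S) be the subgroup generated by the abelian subgroups of S of largest order, and let V be the subgroup generated by the p-th powers of the elements of Z(S). Then F is generated by the centralizer fusion system of V and the normalizer fusion system of J(S): every fusion system over S containing the maps of both contains every map of F. -/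
theorem result {Ω : Type*} [Group Ω] {S : Subgroup Ω} [Finite S] (p : ℕ) [Fact p.Prime] (hS : IsPGroup p S) (F : Cfsg.FusionSystem S) (hF : F.IsSaturated p) (hS1 : S ≠ ⊥) (C : Cfsg.FusionSystem (Cfsg.FusionSystem.centralizerIn S (Cfsg.powerClosure p 1 (S ⊓ Subgroup.centralizer (S : Set Ω))))) (hC : F.IsCentralizerSystem (Cfsg.powerClosure p 1 (S ⊓ Subgroup.centralizer (S : Set Ω))) C) (N : Cfsg.FusionSystem (Cfsg.FusionSystem.normalizerIn S (Cfsg.thompsonSubgroupAOf S))) (hN : F.IsNormalizerSystem (Cfsg.thompsonSubgroupAOf S) N) (E : Cfsg.FusionSystem S) (hCE : C.IsSubsystemOf E) (hNE : N.IsSubsystemOf E) : F.IsSubsystemOf E := by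
  refine fun P φ hφ => mem_of_isMap (?_ : IsMap E P (toFn φ)) fun y => (toFn_coe φ y).symm
  refine alperin_induction hS hF (fun P f => IsMap E P f) ?_ ?_ ?_ ?_ (isMap_toFn hφ)
  · intro P f g _ h e
    exact h.congr e
  · intro P P' f _ hle h
    exact h.mono hle
  · intro P P' f g _ _ hfP h h'
    exact h.comp h' hfP
  intro R hR hRc _ α hα IH
  have hRS := hR.1
  haveI := finite_of_le hRS
  have hZR : S ⊓ Subgroup.centralizer (S : Set Ω) ≤ R := fun z hz =>
    hRc.2 R (isConj_refl F hRS) ⟨hz.1, Subgroup.centralizer_le (fun y hy => hRS hy) hz.2⟩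
  -- automorphisms of subgroups containing `J(S)` are in the normalizer system
  have hNcase : ∀ (R : Subgroup Ω) (α : MulAut R), R ≤ S → α ∈ F.autGroup R →
      FusionTate.jt S ≤ R → IsMap E R (autFn α) := by
    intro R α hRS hα hJR
    haveI := finite_of_le hRS
    have hjt : FusionTate.jt R = (Cfsg.thompsonSubgroupAOf S) := by
      rw [← jt_eq]
      exact FusionTate.jt_eq_of_le hRS fun A hA => hA.le_jt.trans hJR
    have hαm : IsMap F R (autFn α) := (isIso_autFn hRS hα).1
    have hαJ : Fusion.img (autFn α) (Cfsg.thompsonSubgroupAOf S) = (Cfsg.thompsonSubgroupAOf S) := by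
      rw [← hjt, FusionTate.img_jt hαm le_rfl, (isIso_autFn hRS hα).2]
    have hJle : (Cfsg.thompsonSubgroupAOf S) ≤ R := hjt ▸ FusionTate.jt_le R
    have hnorm : normalizerIn S (Cfsg.thompsonSubgroupAOf S) = S := by
      refine le_antisymm inf_le_left ?_
      have := le_normalizerIn_jt (le_refl S) F
      rwa [normalizerIn_self, jt_eq] at this
    obtain ⟨φ, hφ, hφe⟩ := id hαm
    obtain ⟨ψ, hψ, hψe⟩ := hαm.mono (sup_le le_rfl hJle : R ⊔ (Cfsg.thompsonSubgroupAOf S) ≤ R)
    have hφN : φ ∈ N.Hom R := by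
      rw [hN]
      refine ⟨hφ, by rw [hnorm]; exact hRS, fun y => by rw [hnorm]; exact (F.le_of_mem hφ).2 y,
        ψ, hψ, fun y => (hψe _ _).trans (hφe y y.2).symm, ?_⟩
      ext y
      constructor
      · rintro ⟨u, hu, rfl⟩
        rw [hψe u u.2]
        exact hαJ.le (hαm.mem_img hu)
      · intro hy
        rw [← hαJ, hαm.mem_img_iff hJle] at hy
        obtain ⟨u, hu, rfl⟩ := hy
        exact ⟨⟨u, Subgroup.mem_sup_right hu⟩, hu, hψe _ _⟩
    exact ⟨φ, hNE _ hφN, hφe⟩
  by_cases hJR : FusionTate.jt S ≤ R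
  · exact hNcase R α hRS hα hJR
  have hRne : R ≠ S := fun e => hJR (e ▸ FusionTate.jt_le S)
  have hN1 : R < normalizerIn S R := lt_normalizerIn hS le_rfl (lt_of_le_of_ne hRS hRne)
  haveI : Finite (normalizerIn S R) := finite_of_le inf_le_left
  by_cases hgood : ∃ A, FusionTate.AMax (normalizerIn S R) A ∧ ¬ A ≤ R
  · obtain ⟨A, hA, hAR⟩ := hgood
    obtain ⟨x, hx, hxR, hq⟩ := exists_quadratic_in hS le_rfl hN1.le hA hAR fun B _ hBR b hb =>
      Subgroup.mem_centralizer_iff.2 fun w hw => (Subgroup.mem_centralizer_iff.1 hw.2 b (hBR hb)).symm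
    exact isMap_core hS hF rfl hC hCE hα hRS le_rfl hN1.le (isIso_autFn hRS hα).2 hZR hR hx hxR hq IH
  push Not at hgood
  -- move `J(R)` to a fully normalized subgroup
  set Q := FusionTate.jt R with hQdef
  have hQS : Q ≤ S := (FusionTate.jt_le R).trans hRS
  have hNQ : normalizerIn S R ≤ normalizerIn S Q := le_normalizerIn_jt hRS F
  obtain ⟨Q', ρ, hQ', hρ, hρQ, -⟩ := exists_fullyNormalized_map hS hF hQS
  haveI : Finite (normalizerIn S Q) := finite_of_le inf_le_left
  have hlt : Nat.card R < Nat.card (normalizerIn S Q) := by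
    haveI := finite_of_le (inf_le_left : normalizerIn S Q ≤ S)
    have h1 : Nat.card R < Nat.card (normalizerIn S R) :=
      lt_of_le_of_ne (Subgroup.card_le_of_le hN1.le) fun e =>
        hN1.ne (eq_of_le_of_card inf_le_left hN1.le e.ge)
    exact h1.trans_le (Subgroup.card_le_of_le hNQ)
  have hρE : IsMap E (normalizerIn S Q) ρ := IH _ ρ hρ hlt
  have hRQ : R ≤ normalizerIn S Q := hN1.le.trans hNQ
  set R' := Fusion.img ρ R
  have hR'S : R' ≤ S := (hρ.mono hRQ).img_le_S
  haveI := finite_of_le hR'S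
  have hρI : IsIso F R R' ρ := (hρ.mono hRQ).isIso
  have hρI' : IsIso E R R' ρ := (hρE.mono hRQ).isIso
  obtain ⟨ρi, hρi, hρi1, hρi2⟩ := hρI.symm
  obtain ⟨ρj, hρj, hρj1, hρj2⟩ := hρI'.symm
  obtain ⟨α', hα', hα'e⟩ := exists_aut_of_isIso ((hρi.trans (isIso_autFn hRS hα)).trans hρI)
  have hfinal : IsMap E R' (autFn α') → IsMap E R (autFn α) := by
    intro h
    refine ((hρI'.trans (autFn_isIso h)).trans hρj).1.congr fun y hy => ?_
    show ρj (autFn α' (ρ y)) = autFn α y
    rw [autFn_apply _ (hρI.mem hy), hα'e]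
    show ρj (ρ (autFn α (ρi (ρ y)))) = autFn α y
    rw [hρi1 y hy, hρj1 _ (autFn_mem α hy)]
  refine hfinal ?_
  have hcard : Nat.card R' = Nat.card R := hρI.card_eq
  by_cases hJR' : FusionTate.jt S ≤ R'
  · exact hNcase R' α' hR'S hα' hJR'
  -- the properties of `R'` and `Q'`
  have hQ'eq : Q' = FusionTate.jt R' := by rw [← hρQ, hQdef, FusionTate.img_jt hρ hRQ]
  have hQR' : Q' ≤ R' := hQ'eq ▸ FusionTate.jt_le R'
  have hRN' : normalizerIn S R' ≤ normalizerIn S Q' := hQ'eq ▸ le_normalizerIn_jt hR'S F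
  haveI : Finite (normalizerIn S R') := finite_of_le inf_le_left
  have hconjR : F.IsConj R R' := isConj_iff.2 ⟨ρ, hρI⟩
  have hin : ∀ A, FusionTate.AMax (normalizerIn S R') A → A ≤ R' := by
    have hNR : Fusion.img ρ (normalizerIn S R) = normalizerIn S R' := by
      have hle : Fusion.img ρ (normalizerIn S R) ≤ normalizerIn S R' := by
        refine hρ.img_le hNQ fun g hg => ?_
        have hgn := (mem_normalizerIn.1 hg).2
        refine mem_normalizerIn.2 ⟨hρ.mem (hNQ hg), fun y => ⟨fun hy => ?_, fun hy => ?_⟩⟩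
        · obtain ⟨u, hu, rfl⟩ := hρI.exists_eq hy
          rw [← hρ.map_conj (hNQ hg) (hRQ hu)]
          exact hρI.mem ((hgn u).1 hu)
        · obtain ⟨u, hu, hue⟩ := hρI.exists_eq hy
          have hu' : g⁻¹ * u * g ∈ R := (hgn _).2 (by simpa [mul_assoc] using hu)
          have h2 := hρI.mem hu'
          have h3 : ρ (g⁻¹ * u * g) = y := by
            have e1 := hρ.map_conj (inv_mem (hNQ hg)) (hRQ hu)
            rw [inv_inv, hρ.map_inv (hNQ hg), inv_inv, hue] at e1
            rw [e1]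
            group
          rwa [h3] at h2
      refine eq_of_le_of_card inf_le_left hle ?_
      rw [hρ.card_img hNQ]
      exact hR.2 R' hconjR
    intro A hA
    obtain ⟨g, hg, hg1, hg2⟩ := (hρ.mono hNQ).isIso.symm
    have hA1 : A ≤ Fusion.img ρ (normalizerIn S R) := hNR.symm ▸ hA.1
    have h := hgood _ (by
      have := FusionTate.AMax.img hg.1 le_rfl (hNR.symm ▸ hA : FusionTate.AMax (Fusion.img ρ (normalizerIn S R)) A)
      rwa [hg.2] at this)
    intro a ha
    rw [← hg2 a (hA1 ha)]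
    exact hρI.mem (h (hg.1.mem_img ha))
  have hC' : centralizerIn S Q' ≤ R' := by
    have hCn : ∀ r ∈ R', ∀ c ∈ centralizerIn S Q', r * c * r⁻¹ ∈ centralizerIn S Q' := by
      intro r hr c hc
      have hrn := (mem_normalizerIn.1 (hRN' (le_normalizerIn hR'S hr))).2
      refine mem_centralizerIn_of_conj (S.mul_mem (S.mul_mem (hR'S hr) hc.1) (S.inv_mem (hR'S hr))) fun q hq => ?_
      have hq' : r⁻¹ * q * r ∈ Q' := (hrn _).2 (by simpa [mul_assoc] using hq)
      have h := centralizerIn_conj hc hq'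
      have h' := congrArg (fun z => r * z * r⁻¹) h
      simpa [mul_assoc] using h'
    by_contra hle
    obtain ⟨y, hy, hyR⟩ := SetLike.exists_of_lt
      (lt_normalizerIn hS (sup_le hR'S inf_le_left) (left_lt_sup.2 hle))
    have hnorm : R' ≤ Subgroup.normalizer (centralizerIn S Q' : Set Ω) := fun r hr =>
      Subgroup.mem_normalizer_iff.2 fun c => ⟨hCn r hr c, fun h => by
        have := hCn _ (inv_mem hr) _ h
        simpa [mul_assoc] using this⟩
    have hy1 := hy.1
    change y ∈ ((R' ⊔ centralizerIn S Q' : Subgroup Ω) : Set Ω) at hy1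
    rw [Subgroup.coe_mul_of_left_le_normalizer_right _ _ hnorm] at hy1
    obtain ⟨r, hr, c, hc, rfl⟩ := Set.mem_mul.1 hy1
    have hcN : c ∈ normalizerIn S R' := by
      rw [show c = r⁻¹ * (r * c) by group]
      refine mul_mem (inv_mem (le_normalizerIn hR'S hr)) ⟨S.mul_mem (hR'S hr) hc.1, hy.2⟩
    obtain ⟨A, hA⟩ := FusionTate.exists_amax (normalizerIn S R')
    have hAR := hA.of_le (hin A hA) (le_normalizerIn hR'S)
    exact hyR (R'.mul_mem hr (hin A hA (hA.mem_of_centralizes hcN
      (Subgroup.centralizer_le (hQ'eq ▸ hAR.le_jt) hc.2))))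
  have hRQ' : R' ≤ normalizerIn S Q' := (le_normalizerIn hR'S).trans hRN'
  haveI : Finite (normalizerIn S Q') := finite_of_le inf_le_left
  obtain ⟨A, hA, hAR⟩ : ∃ A, FusionTate.AMax (normalizerIn S Q') A ∧ ¬ A ≤ R' := by
    by_contra h
    push Not at h
    have hjt : FusionTate.jt (normalizerIn S Q') = Q' := by
      exact (FusionTate.jt_eq_of_le hRQ' h).symm.trans hQ'eq.symm
    by_cases hX : normalizerIn S Q' = S
    · exact hJR' (by rw [hX] at hjt; rw [hjt]; exact hQR')
    · have h2 := le_normalizerIn_jt (X := normalizerIn S Q') inf_le_left F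
      rw [hjt] at h2
      exact (lt_normalizerIn hS le_rfl (lt_of_le_of_ne inf_le_left hX)).not_ge h2
  have hinW : ∀ B, FusionTate.AMax (normalizerIn S Q') B → B ≤ R' →
      B ≤ Subgroup.centralizer ((Q' ⊓ Subgroup.centralizer (Q' : Set Ω) : Subgroup Ω) : Set Ω) := by
    intro B hB hBR b hb
    have hbQ : b ∈ Q' := hQ'eq ▸ (hB.of_le hBR hRQ').le_jt hb
    exact Subgroup.mem_centralizer_iff.2 fun w hw => (Subgroup.mem_centralizer_iff.1 hw.2 b hbQ).symm
  obtain ⟨x, hx, hxR, hq⟩ := exists_quadratic_in hS hQR' hRQ' hA hAR hinW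
  have hαQ : Fusion.img (autFn α') Q' = Q' := by
    conv_lhs => rw [hQ'eq, FusionTate.img_jt (isIso_autFn hR'S hα').1 le_rfl, (isIso_autFn hR'S hα').2]
    exact hQ'eq.symm
  have hZQ : S ⊓ Subgroup.centralizer (S : Set Ω) ≤ Q' := by
    rw [hQ'eq]
    refine center_le_jt hR'S fun z hz => hC' ⟨hz.1, Subgroup.centralizer_le (fun y hy => hQ'.1 hy) hz.2⟩
  exact isMap_core hS hF rfl hC hCE hα' hR'S hQR' hRQ' hαQ hZQ hQ' hx hxR hq
    fun P f hf h => IH P f hf (hcard ▸ h)


end Cfsg.Agent.S5220
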