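import Cfsg.Statements.S5222
import Cfsg.Agent.Lib.FusionTate.Lift
import Cfsg.Agent.Lib.Fusion.KSystem

set_option autoImplicit false
open Cfsg

namespace Cfsg.Agent.S5222

open scoped commutatorElement
open Cfsg.FusionSystem Cfsg.Agent.Fusion Cfsg.Agent.FusionChain

theorem eq_inner {Ω : Type*} [Group Ω] {S : Subgroup Ω} [Finite S] {p : ℕ} [Fact p.Prime]
    (hS : IsPGroup p S) {E : FusionSystem S} (hE : E.IsSaturated p) {Q : Subgroup Ω}
    (hQS : Q ≤ S) (h1 : (commutator S).map S.subtype ≤ Q) (h2 : Q ≤ (frattini S).map S.subtype)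
    (hQn : ∀ P f, IsMap E P f → ∃ g, IsMap E (P ⊔ Q) g ∧ (∀ x ∈ P, g x = f x) ∧ ∀ x ∈ Q, g x ∈ Q)
    (hAut : ∀ α ∈ E.autGroup S, ∃ g ∈ S, ∀ x : S, ((α x : S) : Ω) = g * x * g⁻¹) (P : Subgroup Ω) :
    E.Hom P = (innerFusionSystem S).Hom P := by
  have hcom : ∀ g ∈ S, ∀ x ∈ S, x⁻¹ * (g * x * g⁻¹) ∈ Q := fun g hg x hx => h1 ⟨⁅(⟨x, hx⟩ : S)⁻¹, ⟨g, hg⟩⁆,
    Subgroup.commutator_mem_commutator (Subgroup.mem_top _) (Subgroup.mem_top _), by
      simp [commutatorElement_def, mul_assoc]⟩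
  have hconj : ∀ g ∈ S, ∀ x ∈ Q, g * x * g⁻¹ ∈ Q := fun g hg x hx => by
    have := Q.mul_mem hx (hcom g hg x (hQS hx))
    rwa [mul_inv_cancel_left] at this
  -- every map is the identity modulo `Q`
  have hmod : ∀ P f, IsMap E P f → ∀ x ∈ P, x⁻¹ * f x ∈ Q := by
    intro P f hf
    refine alperin_induction hS hE (fun P f => ∀ x ∈ P, x⁻¹ * f x ∈ Q) ?_ ?_ ?_ ?_ hf
    · intro P f g _ h e x hx
      rw [← e x hx]
      exact h x hx
    · intro P P' f _ hle h x hx
      exact h x (hle hx)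
    · intro P P' f g _ _ hfP h h' x hx
      have := Q.mul_mem (h x hx) (h' _ (hfP x hx))
      simpa [mul_assoc] using this
    intro R hR _ _ α hα IH
    have hRS := hR.1
    have := finite_mulAut (S := S) hRS
    have hαm : IsMap E R (autFn α) := (mem_autGroup_iff hRS).1 hα
    by_cases hQR : Q ≤ R
    swap
    · obtain ⟨g, hg, hge, -⟩ := hQn R _ hαm
      have hlt : Nat.card R < Nat.card (R ⊔ Q : Subgroup Ω) := by
        have := finite_of_le hg.le
        exact lt_of_le_of_ne (Subgroup.card_le_of_le le_sup_left) fun he =>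
          hQR (le_sup_right.trans (eq_of_le_of_card hg.le le_sup_left he.ge).ge)
      intro x hx
      rw [← hge x hx]
      exact IH _ g hg hlt x (Subgroup.mem_sup_left hx)
    by_cases hRe : R = S
    · subst hRe
      obtain ⟨g, hg, hge⟩ := hAut α hα
      intro x hx
      rw [autFn_apply α hx, hge]
      exact hcom g hg x hx
    have hQa : ∀ a ∈ E.autGroup R, ∀ x ∈ Q, autFn a x ∈ Q := by
      intro a ha x hx
      obtain ⟨g, _, hge, hgQ⟩ := hQn R _ ((mem_autGroup_iff hRS).1 ha)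
      rw [← hge x (hQR hx)]
      exact hgQ x hx
    let K₀ : Subgroup (MulAut R) :=
      { carrier := {a | a ∈ E.autGroup R ∧ ∀ x : R, (x : Ω)⁻¹ * (a x : R) ∈ Q}
        one_mem' := ⟨one_mem _, fun x => by simp⟩
        mul_mem' := fun {a b} ha hb => ⟨mul_mem ha.1 hb.1, fun x => by
          have := Q.mul_mem (hb.2 x) (ha.2 (b x))
          simpa [mul_assoc] using this⟩
        inv_mem' := fun {a} ha => ⟨inv_mem ha.1, fun x => by
          have := Q.inv_mem (ha.2 (a⁻¹ x))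
          simpa [mul_assoc] using this⟩ }
    have hK₀n : ∀ a ∈ E.autGroup R, ∀ k ∈ K₀, a * k * a⁻¹ ∈ K₀ := fun a ha k hk =>
      ⟨mul_mem (mul_mem ha hk.1) (inv_mem ha), fun x => by
        obtain ⟨y, rfl⟩ := a.surjective x
        rw [MulAut.mul_apply, MulAut.mul_apply, MulAut.inv_apply_self]
        have hy : y⁻¹ * k y ∈ Q.subgroupOf R := hk.2 y
        have h2 : autFn a ((y⁻¹ * k y : R) : Ω) ∈ Q := hQa a ha _ hy
        rw [autFn_apply a (y⁻¹ * k y).2, Subtype.coe_eta, map_mul, map_inv] at h2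
        exact h2⟩
    have hP₀ := (isFullyAutomized_iff.1 (fullyAutomized_of_fullyNormalized hS hE hR)).2.inf_normal
      (N := K₀) (fun k hk => hk.1) hK₀n
    have hH : (autInducedBy S R ⊓ K₀).map (MulAut.conj α).toMonoidHom ≤ K₀ := by
      rintro _ ⟨k, hk, rfl⟩
      exact hK₀n α hα k hk.2
    obtain ⟨a, ha, hconj'⟩ := hP₀.exists_conj_le (hP₀.isPGroup.map _) hH
    obtain ⟨g, hg, hge, -⟩ := exists_extension_NK (receptive_of_fullyNormalized hS hE hR)
      (mul_mem ha.1 hα) K₀ (fun k hk => by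
      have h := hconj' _ ⟨k, hk, rfl⟩
      rw [show a * α * k * (a * α)⁻¹ = a * ((MulAut.conj α).toMonoidHom k) * a⁻¹ by simp [mul_assoc]]
      exact h)
    have hlt : Nat.card R < Nat.card (R ⊔ NK S R K₀ : Subgroup Ω) := by
      have := finite_of_le hg.le
      refine lt_of_le_of_ne (Subgroup.card_le_of_le le_sup_left) fun he => hRe ?_
      refine le_antisymm hRS fun w hw => ?_
      rw [eq_of_le_of_card hg.le le_sup_left he.ge]
      refine Subgroup.mem_sup_right ?_
      have hwN : w ∈ normalizerIn S R := by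
        refine mem_normalizerIn.2 ⟨hw, fun x => ⟨fun hx => ?_, fun hx => ?_⟩⟩
        · have := R.mul_mem hx (hQR (hcom w hw x (hRS hx)))
          rwa [mul_inv_cancel_left] at this
        · have := R.mul_mem hx (hQR (hcom w⁻¹ (S.inv_mem hw) _ (hRS hx)))
          simpa [mul_assoc] using this
      exact mem_NK.2 ⟨hw, normConj S R ⟨w, hwN⟩,
        ⟨autInducedBy_le_autGroup E le_rfl hRS (range_normConj S R ▸ ⟨_, rfl⟩),
          fun y => hcom w hw y (hRS y.2)⟩, fun y => rfl⟩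
    intro x hx
    have h1' := IH _ g hg hlt x (Subgroup.mem_sup_left hx)
    rw [hge x hx, autFn_apply _ hx, MulAut.mul_apply] at h1'
    rw [autFn_apply α hx]
    have := Q.mul_mem h1' (Q.inv_mem (ha.2 (α ⟨x, hx⟩)))
    simpa [mul_assoc] using this
  -- hence the hyperfocal subgroup is trivial
  have hyp : (E.hyperfocalSubgroup p).subgroupOf S = ⊥ := by
    refine (FusionTate.hyperfocal_eq_of_le_frattini_sup hS hE (M := ⊥) bot_le ?_).symm
    intro u hu
    have hle : E.hyperfocalSubgroup p ≤ Q := by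
      refine (Subgroup.closure_le _).2 ?_
      rintro _ ⟨P, α, x, hP, -, rfl⟩
      have := hmod P _ ((mem_autGroup_iff hP).1 α.2) x x.2
      rwa [autFn_apply _ x.2] at this
    obtain ⟨y, hy, hyu⟩ := h2 (hle hu)
    rw [← show y = u from Subtype.ext hyu]
    exact Subgroup.mem_sup_left hy
  refine FusionNormal.eq_inner_of_isPGroup hS hE (fun R hR g hg hco => MulEquiv.ext fun x => Subtype.ext ?_) P
  have hm := inv_mul_autFn_mem_hyperfocal hR hg (mem_pResidual_of_coprime hg hco) x.2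
  have : (⟨_, hyperfocalSubgroup_le p hm⟩ : S) ∈ (E.hyperfocalSubgroup p).subgroupOf S := hm
  rw [hyp, Subgroup.mem_bot] at this
  have h' := congrArg Subtype.val this
  rw [OneMemClass.coe_one, inv_mul_eq_one, autFn_apply g x.2] at h'
  exact h'.symm

theorem main {Ω : Type*} [Group Ω] {S : Subgroup Ω} [Finite S] {p : ℕ} [Fact p.Prime]
    (hS : IsPGroup p S) {F : FusionSystem S} (hF : F.IsSaturated p)
    (hN : ∀ N : FusionSystem (normalizerIn S S), F.IsNormalizerSystem S N →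
      ∀ P : Subgroup Ω, N.Hom P = (innerFusionSystem (normalizerIn S S)).Hom P)
    {Q : Subgroup Ω} (hQS : Q ≤ S) (h1 : (commutator S).map S.subtype ≤ Q)
    (h2 : Q ≤ (frattini S).map S.subtype) (hQT : normalizerIn S Q = S)
    {T : Subgroup Ω} (hT : S = T) (N : FusionSystem T) (hNQ : ∀ P, N.Hom P = F.normalizerHom Q P)
    (P : Subgroup Ω) : N.Hom P = (innerFusionSystem T).Hom P := by
  subst hT
  have hfn : F.IsFullyNormalized Q := ⟨hQS, fun R _ => by
    rw [hQT]; exact Subgroup.card_le_of_le inf_le_left⟩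
  have hsat : N.IsSaturated p := isSaturated_congr ((NK_top S Q).trans hQT)
    (fun P => (kSys_top_hom hQS P).trans (hNQ P).symm)
    (isSaturated_kSys hS hF (isFullyK_top_iff.2 hfn))
  refine eq_inner hS hsat hQS h1 h2 ?_ ?_ P
  · intro P f hf
    obtain ⟨φ, hφ, e⟩ := hf
    rw [hNQ] at hφ
    obtain ⟨-, hPN, -, ψ, hψ, hψe, hψQ⟩ := hφ
    have hmem : ψ ∈ N.Hom (P ⊔ Q) := by
      rw [hNQ]
      have hle : P ⊔ Q ≤ S := (F.le_of_mem hψ).1
      have hm : IsMap F ((P ⊔ Q) ⊔ Q) (toFn ψ) := (isMap_toFn hψ).mono (le_of_eq (by simp))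
      obtain ⟨χ, hχ, hχe⟩ := hm
      refine ⟨hψ, hQT.symm ▸ hle, fun x => hQT.symm ▸ (F.le_of_mem hψ).2 x, χ, hχ, fun x => ?_, ?_⟩
      · exact (hχe _ _).trans (toFn_coe ψ x)
      · ext y
        constructor
        · rintro ⟨x, hx, rfl⟩
          refine hψQ.le ⟨⟨x, Subgroup.mem_sup_right hx⟩, hx, ?_⟩
          rw [hχe x x.2, toFn_apply]
        · intro hy
          obtain ⟨x, hx, rfl⟩ := hψQ.ge hy
          exact ⟨⟨x, Subgroup.mem_sup_right hx⟩, hx, (hχe _ _).trans (toFn_apply _ _)⟩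
    refine ⟨toFn ψ, isMap_toFn hmem, fun x hx => ?_, fun x hx => ?_⟩
    · rw [toFn_apply ψ (Subgroup.mem_sup_left hx)]
      exact (hψe ⟨x, hx⟩).trans (e x hx)
    · rw [toFn_apply ψ (Subgroup.mem_sup_right hx)]
      exact hψQ.le ⟨_, hx, rfl⟩
  · intro α hα
    obtain ⟨φ, hφ, e⟩ := (mem_autGroup_iff le_rfl).1 hα
    rw [hNQ] at hφ
    obtain ⟨N', hN'⟩ := exists_system_congr (NK_top S S) (kSys F S ⊤ le_rfl)
      (kSys_top_hom (F := F) le_rfl)
    have hin : φ ∈ (innerFusionSystem (normalizerIn S S)).Hom S := by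
      rw [← hN N' hN', hN']
      obtain ⟨ψ, hψ, hψe⟩ := (isMap_toFn hφ.1).mono (le_of_eq (sup_idem S))
      refine ⟨hφ.1, by rw [normalizerIn_self], fun x => ?_, ψ, hψ, fun x => ?_, ?_⟩
      · rw [normalizerIn_self]
        exact (F.le_of_mem hφ.1).2 x
      · exact (hψe _ _).trans (toFn_coe φ x)
      · ext y
        constructor
        · rintro ⟨x, hx, rfl⟩
          rw [hψe x x.2]
          exact (isMap_toFn hφ.1).mem hx
        · intro hy
          obtain ⟨z, hz⟩ := α.surjective ⟨y, hy⟩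
          refine ⟨⟨z, Subgroup.mem_sup_left z.2⟩, z.2, ?_⟩
          rw [hψe _ _, toFn_apply φ z.2, e z z.2, autFn_apply α z.2, Subtype.coe_eta, hz]
    obtain ⟨-, g, hg, hge⟩ := hin
    refine ⟨g, normalizerIn_self S ▸ hg, fun x => ?_⟩
    rw [← hge x, show φ x = φ ⟨x, x.2⟩ from rfl, e x x.2, autFn_apply α x.2]

/-- Let F be a saturated fusion system over a finite p-group S whose normalizer fusion system of S is the inner fusion system of S (Aut_F(S) is a p-group). Then for every subgroup Q of S with [S, S] ≤ Q ≤ Φ(S), the normalizer fusion system of Q in F is the inner fusion system of N_S(Q) = S. -/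
theorem result {Ω : Type*} [Group Ω] {S : Subgroup Ω} [Finite S] (p : ℕ) [Fact p.Prime] (hS : IsPGroup p S) (F : Cfsg.FusionSystem S) (hF : F.IsSaturated p) (hN : ∀ N : Cfsg.FusionSystem (Cfsg.FusionSystem.normalizerIn S S), F.IsNormalizerSystem S N → ∀ P : Subgroup Ω, N.Hom P = (Cfsg.innerFusionSystem (Cfsg.FusionSystem.normalizerIn S S)).Hom P) (Q : Subgroup Ω) (h1 : (commutator ↥S).map S.subtype ≤ Q) (h2 : Q ≤ (frattini ↥S).map S.subtype) : ∀ N : Cfsg.FusionSystem (Cfsg.FusionSystem.normalizerIn S Q), F.IsNormalizerSystem Q N → ∀ P : Subgroup Ω, N.Hom P = (Cfsg.innerFusionSystem (Cfsg.FusionSystem.normalizerIn S Q)).Hom P := by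
  intro N hNQ P
  have hQS : Q ≤ S := h2.trans (Subgroup.map_subtype_le _)
  have hQT : normalizerIn S Q = S := by
    refine le_antisymm inf_le_left fun w hw => mem_normalizerIn.2 ⟨hw, fun x => ?_⟩
    have hc : ∀ g ∈ S, ∀ y ∈ Q, g * y * g⁻¹ ∈ Q := fun g hg y hy => by
      have h3 : y⁻¹ * (g * y * g⁻¹) ∈ Q := h1 ⟨⁅(⟨y, hQS hy⟩ : S)⁻¹, ⟨g, hg⟩⁆,
        Subgroup.commutator_mem_commutator (Subgroup.mem_top _) (Subgroup.mem_top _), by
          simp [commutatorElement_def, mul_assoc]⟩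
      have := Q.mul_mem hy h3
      rwa [mul_inv_cancel_left] at this
    exact ⟨hc w hw x, fun hx => by simpa [mul_assoc] using hc w⁻¹ (S.inv_mem hw) _ hx⟩
  exact main hS hF hN hQS h1 h2 hQT hQT.symm N hNQ P

end Cfsg.Agent.S5222
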