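import Cfsg.Statements.S5223
import Cfsg.Agent.Lib.FusionNormal.Generation
import Cfsg.Agent.Lib.FusionChain.Stabilizer

set_option autoImplicit false
open Cfsg

namespace Cfsg.Agent.S5223

open Cfsg.Agent.Fusion Cfsg.Agent.FusionNormal

/-- Let F be a saturated fusion system over a finite p-group S. Suppose there are subgroups Q₀ = S, Q₁, …, Qₙ = 1 (not required to be nested) such that for each i < n the focal subgroup of Qᵢ (generated by the elements x⁻¹φ(x), x ∈ Qᵢ, φ a map of F defined on the cyclic group generated by x) lies in Qᵢ₊₁. Then F is the inner fusion system of S. -/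
theorem result {Ω : Type*} [Group Ω] {S : Subgroup Ω} [Finite S] (p : ℕ) [Fact p.Prime] (hS : IsPGroup p S) (F : Cfsg.FusionSystem S) (hF : F.IsSaturated p) (n : ℕ) (Q : Fin (n + 1) → Subgroup Ω) (hQ0 : Q 0 = S) (hQn : Q (Fin.last n) = ⊥) (hstep : ∀ i : Fin n, Subgroup.closure {y : Ω | ∃ x ∈ Q i.castSucc, ∃ φ ∈ F.Hom (Subgroup.zpowers x), y = x⁻¹ * φ ⟨x, Subgroup.mem_zpowers x⟩} ≤ Q i.succ) : ∀ P : Subgroup Ω, F.Hom P = (Cfsg.innerFusionSystem S).Hom P := by
  refine eq_inner_of_isPGroup hS hF fun P hP g hg hgp => ?_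
  have key : ∀ i : Fin (n + 1), ∀ x : ↥P, (x : Ω) ∈ Q i → g x = x := by
    intro i
    induction i using Fin.reverseInduction with
    | last =>
      intro x hx
      rw [hQn, Subgroup.mem_bot] at hx
      rw [show x = 1 from Subtype.ext hx, map_one]
    | cast i ih =>
      intro x hx
      refine Cfsg.Agent.FusionChain.eq_self_of_stab (hS.to_le hP) g hgp ((Q i.succ).subgroupOf P) ih x ?_
      have hmap : IsMap F (Subgroup.zpowers (x : Ω)) (autFn g) :=
        ((mem_autGroup_iff hP).1 hg).mono (Subgroup.zpowers_le.2 x.2)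
      obtain ⟨φ, hφ, e⟩ := hmap
      refine hstep i (Subgroup.subset_closure ⟨x, hx, φ, hφ, ?_⟩)
      rw [e _ (Subgroup.mem_zpowers _), autFn_apply g x.2]
      rfl
  exact MulEquiv.ext fun x => key 0 x (hQ0 ▸ hP x.2)

end Cfsg.Agent.S5223
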