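import Cfsg.Statements.S5224
import Cfsg.Agent.Lib.FusionTate.Lift

set_option autoImplicit false
open Cfsg

namespace Cfsg.Agent.S5224

/-- Tate's Theorem for fusion systems. Let F be a saturated fusion system over a finite p-group S and H a saturated fusion system over S contained in F. Then the following are equivalent: the elementary focal subgroups Φ(S)·foc agree for F and H; the focal subgroups of F and H agree; the hyperfocal subgroups of F and H agree. -/
theorem result {Ω : Type*} [Group Ω] {S : Subgroup Ω} [Finite S] (p : ℕ) [Fact p.Prime] (hS : IsPGroup p S) (F : Cfsg.FusionSystem S) (hF : F.IsSaturated p) (H : Cfsg.FusionSystem S) (hH : H.IsSaturated p) (hHF : H.IsSubsystemOf F) : (((frattini ↥S).map S.subtype ⊔ F.focalSubgroup) = ((frattini ↥S).map S.subtype ⊔ H.focalSubgroup) ↔ F.focalSubgroup = H.focalSubgroup) ∧ (F.focalSubgroup = H.focalSubgroup ↔ F.hyperfocalSubgroup p = H.hyperfocalSubgroup p) := by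
  have eF := FusionTate.focal_eq hS hF
  have eH := FusionTate.focal_eq hS hH
  have hCA : F.focalSubgroup = H.focalSubgroup →
      ((frattini ↥S).map S.subtype ⊔ F.focalSubgroup) = ((frattini ↥S).map S.subtype ⊔ H.focalSubgroup) :=
    fun h => by rw [h]
  have hBC : F.hyperfocalSubgroup p = H.hyperfocalSubgroup p → F.focalSubgroup = H.focalSubgroup :=
    fun h => by rw [eF, eH, h]
  have hAC : ((frattini ↥S).map S.subtype ⊔ F.focalSubgroup) = ((frattini ↥S).map S.subtype ⊔ H.focalSubgroup) →
      F.hyperfocalSubgroup p = H.hyperfocalSubgroup p := by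
    intro h
    have hle : H.hyperfocalSubgroup p ≤ F.hyperfocalSubgroup p :=
      FusionNormal.hyperfocal_mono hHF le_rfl
    haveI : ((H.hyperfocalSubgroup p).subgroupOf S).Normal := FusionTate.hyperfocal_normal
    have hcom : (commutator S).map S.subtype ≤ (frattini S).map S.subtype :=
      Subgroup.map_mono (PGroup.commutator_le_frattini hS)
    have hcov : (F.hyperfocalSubgroup p).subgroupOf S ≤
        frattini S ⊔ (H.hyperfocalSubgroup p).subgroupOf S := by
      intro x hx
      have h1 : (x : Ω) ∈ (frattini S).map S.subtype ⊔ H.focalSubgroup :=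
        h ▸ Subgroup.mem_sup_right (FusionChain.hyperfocal_le_focal p hx)
      have h2 : (x : Ω) ∈ (frattini S ⊔ (H.hyperfocalSubgroup p).subgroupOf S).map S.subtype := by
        rw [Subgroup.map_sup, Subgroup.map_subgroupOf_eq_of_le (FusionChain.hyperfocalSubgroup_le p)]
        rw [eH] at h1
        exact (sup_le le_sup_left (sup_le le_sup_right (hcom.trans le_sup_left))) h1
      obtain ⟨y, hy, hyx⟩ := h2
      rwa [← show y = x from Subtype.ext hyx]
    have e := FusionTate.hyperfocal_eq_of_le_frattini_sup hS hF
      (M := (H.hyperfocalSubgroup p).subgroupOf S) (fun x hx => hle hx) hcov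
    refine le_antisymm (fun x hx => ?_) hle
    have hxS : x ∈ S := FusionChain.hyperfocalSubgroup_le p hx
    have : (⟨x, hxS⟩ : S) ∈ (H.hyperfocalSubgroup p).subgroupOf S := e ▸ hx
    exact this
  exact ⟨⟨fun h => hBC (hAC h), hCA⟩, ⟨fun h => hAC (hCA h), hBC⟩⟩

end Cfsg.Agent.S5224
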