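import Cfsg.Statements.S5225
import Cfsg.Agent.Lib.Yoshida.Fusion
-- import your own Cfsg.Agent.* helpers here

set_option autoImplicit false
open Cfsg

namespace Cfsg.Agent.S5225
open Cfsg.FusionSystem Cfsg.Agent.Fusion

/-- Yoshida's Theorem for fusion systems. Let F be a saturated fusion system over a finite p-group S and N the normalizer fusion system of S in F. If the focal subgroups of F and N differ (N does not control transfer in F), then S has a quotient isomorphic to the wreath product C_p ≀ C_p (realised as a Sylow p-subgroup of the symmetric group of degree p²). -/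
theorem result {Ω : Type*} [Group Ω] {S : Subgroup Ω} [Finite S] (p : ℕ) [Fact p.Prime] (hS : IsPGroup p S) (F : Cfsg.FusionSystem S) (hF : F.IsSaturated p) (N : Cfsg.FusionSystem (Cfsg.FusionSystem.normalizerIn S S)) (hN : F.IsNormalizerSystem S N) (hne : N.focalSubgroup ≠ F.focalSubgroup) : ∃ (W : Sylow p (Equiv.Perm (Fin (p ^ 2)))) (f : ↥S →* ↥(W : Subgroup (Equiv.Perm (Fin (p ^ 2))))), Function.Surjective f := by
  have hsubset : N.focalSubgroup ≤ F.focalSubgroup := by
    refine Subgroup.closure_mono ?_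
    rintro y ⟨P, φ, x, hφ, rfl⟩
    exact ⟨P, φ, x, ((hN P) ▸ hφ).1, rfl⟩
  have hsub : ∀ (f : Ω → Ω) (_ : IsMap F S f) (u : Ω), u ∈ S → u⁻¹ * f u ∈ N.focalSubgroup := by
    intro f hf u hu
    obtain ⟨φ, hφ, he⟩ := id hf
    refine Subgroup.subset_closure ⟨S, φ, ⟨u, hu⟩, ?_, by rw [he u hu]⟩
    rw [hN S]
    obtain ⟨ψ, hψ, hψe⟩ := hf.mono (Q := S ⊔ S) (sup_idem S).le
    have himg : img f S = S :=
      eq_of_le_of_card le_rfl hf.img_le_S (le_of_eq (hf.card_img le_rfl).symm)
    refine ⟨hφ, le_normalizerIn le_rfl, fun x => le_normalizerIn le_rfl ((F.le_of_mem hφ).2 x), ψ, hψ,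
      fun x => (hψe x _).trans (he x x.2).symm, ?_⟩
    ext y
    constructor
    · rintro ⟨z, -, rfl⟩
      exact (F.le_of_mem hψ).2 z
    · intro hy
      rw [← himg, hf.mem_img_iff le_rfl] at hy
      obtain ⟨z, hz, rfl⟩ := hy
      exact ⟨⟨z, le_sup_left (b := S) hz⟩, hz, hψe z _⟩
  exact Cfsg.Agent.Yoshida.yoshida_fusion hS hF N.focalSubgroup hsub
    fun h => hne (le_antisymm hsubset h)

end Cfsg.Agent.S5225
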