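import Cfsg.Statements.S5238
import Cfsg.Agent.Lib.PearlRank.Fusion

set_option autoImplicit false
open Cfsg Cfsg.Agent

namespace Cfsg.Agent.S5238

/-- Let p be an odd prime and F a saturated fusion system over a finite p-group S having a pearl: an F-essential subgroup E that is elementary abelian of order p² or nonabelian of order p³. Then S has maximal nilpotency class (if S has order pⁿ with n ≥ 3, the term of index n − 2 of its lower central series, counting S itself as the term of index 0, is nontrivial), and every subgroup of S can be generated by at most p elements (the sectional rank of S is at most p). -/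
theorem result {Ω : Type*} [Group Ω] {S : Subgroup Ω} [Finite S] (p : ℕ) [Fact p.Prime] (hS : IsPGroup p S) (F : Cfsg.FusionSystem S) (hF : F.IsSaturated p) (hp : p ≠ 2) (E : Subgroup Ω) (hE : F.IsEssential p E) (hpearl : (Nat.card E = p ^ 2 ∧ ∀ x ∈ E, x ^ p = 1 ∧ IsMulCommutative ↥E) ∨ (Nat.card E = p ^ 3 ∧ ¬ IsMulCommutative ↥E)) : (∀ n : ℕ, Nat.card S = p ^ n → 3 ≤ n → Subgroup.lowerCentralSeries S (n - 2) ≠ ⊥) ∧ ∀ H : Subgroup Ω, H ≤ S → ∃ T : Finset Ω, T.card ≤ p ∧ Subgroup.closure (T : Set Ω) = H := by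
  classical
  obtain ⟨n, hn⟩ := IsPGroup.iff_card.1 hS
  obtain ⟨x, c⟩ : ∃ x : S, PearlRank.Pc S p n x := by
    rcases hpearl with ⟨h2, h⟩ | ⟨h3, hnc⟩
    · exact PearlRank.pc_of_sq hS hF hE h2 (fun y hy => (h y hy).1) hn
    · exact PearlRank.pc_of_cube hS hF hp hE h3 hnc hn
  refine ⟨fun m hm h3 hbot => ?_, fun H hH => ?_⟩
  · obtain rfl : m = n := Nat.pow_right_injective (Fact.out : p.Prime).two_le (hm.symm.trans hn)
    have h1 : PearlRank.L S (m - 2) = ⊥ := by
      rw [← Subgroup.map_eq_bot_iff_of_injective _ S.subtype_injective, Subgroup.top_subtype_lowerCentralSeries]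
      exact hbot
    have h2 := c.card_L (i := m - 2) (by omega)
    rw [h1, Subgroup.card_bot, show m - 1 - (m - 2) = 1 by omega, pow_one] at h2
    exact (Fact.out : p.Prime).ne_one h2.symm
  · obtain ⟨T, hT, hTH⟩ := c.exists_gen (H.subgroupOf S)
    refine ⟨T.image Subtype.val, Finset.card_image_le.trans hT, ?_⟩
    have h1 := congrArg (Subgroup.map S.subtype) hTH
    rw [MonoidHom.map_closure, Subgroup.map_subgroupOf_eq_of_le hH] at h1
    rwa [Finset.coe_image]

end Cfsg.Agent.S5238
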