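import Cfsg.Statements.S5239
import Cfsg.Agent.Lib.Pearl.Fusion

set_option autoImplicit false
open Cfsg

namespace Cfsg.Agent.S5239

/-- Let F be a saturated fusion system over a finite 3-group S having a pearl: an F-essential subgroup E that is elementary abelian of order 9 or nonabelian of order 27. Then either S is extraspecial of order 27 and exponent 3, or S has order at least 81 and every subgroup of S can be generated by at most two elements, or S is isomorphic to the wreath product C₃ ≀ C₃ (a Sylow 3-subgroup of the symmetric group of degree 9). -/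
theorem result {Ω : Type*} [Group Ω] {S : Subgroup Ω} [Finite S] (hS : IsPGroup 3 S) (F : Cfsg.FusionSystem S) (hF : F.IsSaturated 3) [Fact (Nat.Prime 3)] (E : Subgroup Ω) (hE : F.IsEssential 3 E) (hpearl : (Nat.card E = 9 ∧ ∀ x ∈ E, x ^ 3 = 1 ∧ IsMulCommutative ↥E) ∨ (Nat.card E = 27 ∧ ¬ IsMulCommutative ↥E)) : (Cfsg.IsExtraspecial 3 ↥S ∧ Nat.card S = 27 ∧ Monoid.exponent ↥S = 3) ∨ (81 ≤ Nat.card S ∧ ∀ H : Subgroup Ω, H ≤ S → ∃ T : Finset Ω, T.card ≤ 2 ∧ Subgroup.closure (T : Set Ω) = H) ∨ (∃ W : Sylow 3 (Equiv.Perm (Fin 9)), Nonempty (↥S ≃* ↥(W : Subgroup (Equiv.Perm (Fin 9))))) := by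
  obtain ⟨n, hn⟩ := Cfsg.Agent.PGroup.exists_card_eq_pow (p := 3) hS
  suffices h : (Cfsg.IsExtraspecial 3 ↥S ∧ Nat.card S = 27 ∧ Monoid.exponent ↥S = 3) ∨
      ∃ x : S, Pearl.Ctx S n x ∧ 4 ≤ n by
    rcases h with h | ⟨x, c, h4⟩
    · exact Or.inl h
    have h81 : 81 ≤ Nat.card S := by
      rw [hn, show (81 : ℕ) = 3 ^ 4 by norm_num]
      exact Nat.pow_le_pow_right (by norm_num) h4
    have hfin : (∀ K : Subgroup S, Pearl.TwoGen K) →
        ∀ H : Subgroup Ω, H ≤ S → ∃ T : Finset Ω, T.card ≤ 2 ∧ Subgroup.closure (T : Set Ω) = H := by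
      classical
      intro h H hH
      obtain ⟨a, b, e⟩ := h (H.subgroupOf S)
      refine ⟨{(a : Ω), (b : Ω)}, Finset.card_le_two, ?_⟩
      rw [Finset.coe_pair, ← Subgroup.map_subgroupOf_eq_of_le hH, ← e, MonoidHom.map_closure, Set.image_pair]
      rfl
    rcases h4.eq_or_lt with h | h
    · rcases c.four h.symm with h' | h'
      · exact Or.inr (Or.inl ⟨h81, hfin h'⟩)
      · exact Or.inr (Or.inr h')
    · exact Or.inr (Or.inl ⟨h81, hfin fun K => c.twoGen h K⟩)
  rcases hpearl with ⟨h9, hx⟩ | ⟨h27, hnc⟩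
  swap
  · obtain ⟨h4, x, c⟩ := Pearl.ctx_of_27 hS hF hE h27 hnc hn
    exact Or.inr ⟨x, c, h4⟩
  obtain ⟨x, hxE, hxC, c⟩ := Pearl.ctx_of_nine hS hF hE h9 (fun y hy => (hx y hy).1) hn
  rcases c.three_le.eq_or_lt with h | h
  swap
  · exact Or.inr ⟨x, c, h⟩
  left
  subst h
  have hcard : Nat.card S = 27 := by rw [hn]; norm_num
  have hnc : ¬ IsMulCommutative S := fun hc => c.not_mem_center
    (Subgroup.mem_center_iff.mpr fun g => hc.is_comm.comm g x)
  have d := Pearl.data27 hcard hnc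
  have hexp := Pearl.exponent_three hS hF hE h9 (fun y hy => (hx y hy).1) hcard d hxE hxC
  have hcomm : commutator S = Subgroup.center S := by
    have hle : commutator S ≤ Subgroup.center S := by
      rw [_root_.commutator_def, Subgroup.commutator_le]
      exact fun a _ b _ => d.comm a b
    refine Cfsg.Agent.PGroup.eq_of_le_of_card_le hle ?_
    have h1 : commutator S ≠ ⊥ := fun h => hnc ⟨⟨fun a b => commutatorElement_eq_one_iff_mul_comm.mp
      (Subgroup.mem_bot.mp (h ▸ Subgroup.commutator_mem_commutator (Subgroup.mem_top a) (Subgroup.mem_top b)))⟩⟩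
    obtain ⟨k, hk⟩ := Cfsg.Agent.PGroup.exists_subgroup_card_eq_pow hS (commutator S)
    rw [d.center, hk]
    refine Nat.le_self_pow ?_ 3
    rintro rfl
    exact h1 (Subgroup.eq_bot_of_card_eq _ (by simpa using hk))
  refine ⟨⟨⟨hS, le_antisymm ?_ ?_, hcomm⟩, d.center⟩, hcard, ?_⟩
  · exact Cfsg.Agent.PGroup.frattini_le_of_quotient_elementary hcomm.le d.pow
  · exact hcomm.ge.trans (Cfsg.Agent.PGroup.commutator_le_frattini hS)
  · haveI : Nontrivial S := Finite.one_lt_card_iff_nontrivial.mp (by omega)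
    exact (Monoid.exponent_eq_prime_iff Nat.prime_three).mpr fun g hg => orderOf_eq_prime (hexp g) hg

end Cfsg.Agent.S5239
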