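import Cfsg.Statements.S5245
import Cfsg.Agent.Lib.FusionSparse.Basic
import Cfsg.Agent.Lib.FusionChain.Hyperfocal
import Cfsg.Agent.Lib.FusionChain.Alperin

set_option autoImplicit false
open Cfsg

namespace Cfsg.Agent.S5245

/-- Let F be an extremely sparse fusion system over a finite p-group S (saturated, not the inner system, and every saturated fusion system over any subgroup T of S contained in F is F itself or the inner system of T). Then S is normal in F, the focal and hyperfocal subgroups of F are both S, and Aut_F(S) is generated by the inner automorphisms of S together with a single automorphism of prime order q ≠ p (F is the fusion system of the semidirect product of S by a cyclic group of prime order). -/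
theorem result {Ω : Type*} [Group Ω] {S : Subgroup Ω} [Finite S] (p : ℕ) [Fact p.Prime] (hS : IsPGroup p S) (F : Cfsg.FusionSystem S) (hF : F.IsSaturated p) (hxs : ¬ (∀ P : Subgroup Ω, F.Hom P = (Cfsg.innerFusionSystem S).Hom P) ∧ ∀ (T : Subgroup Ω) (E : Cfsg.FusionSystem T), E.IsSaturated p → E.IsSubsystemOf F → (T = S ∧ ∀ P : Subgroup Ω, E.Hom P = F.Hom P) ∨ (∀ P : Subgroup Ω, E.Hom P = (Cfsg.innerFusionSystem T).Hom P)) : F.IsNormal S ∧ F.focalSubgroup = S ∧ F.hyperfocalSubgroup p = S ∧ ∃ (q : ℕ) (β : MulAut ↥S), q.Prime ∧ q ≠ p ∧ β ∈ F.autGroup S ∧ orderOf β = q ∧ (F.autGroup S : Subgroup (MulAut ↥S)) = Cfsg.Inn ↥S ⊔ Subgroup.zpowers β := by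
  open Cfsg.Agent.Fusion Cfsg.Agent.FusionChain Cfsg.Agent.FusionSparse in
  obtain ⟨hni, hall⟩ := hxs
  obtain ⟨Q, hQ, g, hg, hgc, hg1⟩ : ∃ Q : Subgroup Ω, Q ≤ S ∧ ∃ g ∈ F.autGroup Q,
      (orderOf g).Coprime p ∧ g ≠ 1 := by
    by_contra hcon
    exact hni (Cfsg.Agent.FusionNormal.eq_inner_of_isPGroup hS hF fun P hP g hg hc => by
      by_contra h1
      exact hcon ⟨P, hP, g, hg, hc, h1⟩)
  have := Cfsg.Agent.Fusion.finite_mulAut hQ
  set n := orderOf g with hn
  have hn1 : n ≠ 1 := fun h => hg1 (orderOf_eq_one_iff.1 h)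
  have hq : n.minFac.Prime := Nat.minFac_prime hn1
  have hβq : orderOf (g ^ (n / n.minFac)) = n.minFac :=
    orderOf_pow_orderOf_div (orderOf_pos g).ne' (Nat.minFac_dvd n)
  have hqc : n.minFac.Coprime p := hgc.coprime_dvd_left (Nat.minFac_dvd n)
  have hqp : n.minFac ≠ p := fun h => by
    rw [h, Nat.coprime_self] at hqc
    exact (Fact.out : p.Prime).ne_one hqc
  set β := g ^ (n / n.minFac) with hβ
  have hβc : (orderOf β).Coprime p := hβq ▸ hqc
  have hβ1 : β ≠ 1 := fun h => hq.ne_one (by rw [← hβq, h, orderOf_one])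
  have hβF : β ∈ F.autGroup Q := pow_mem hg _
  obtain ⟨hsat, hsub, hne⟩ := exists_autSys_sub hS hQ hβF hβc hβ1
  rcases hall Q _ hsat hsub with ⟨rfl, heq⟩ | h
  swap
  · exact absurd h hne
  -- now `Q = S` and `F` is the system of `Inn(S)⟨β⟩`
  have hext : ∀ P f, IsMap F P f → P ≤ Q ∧ ∃ α ∈ Cfsg.Inn Q ⊔ Subgroup.zpowers β,
      ∀ x ∈ P, f x = autFn α x := by
    intro P f ⟨φ, hφ, e⟩
    rw [← heq P] at hφ
    exact isMap_autSys.1 ⟨φ, hφ, e⟩
  refine ⟨isNormal_iff.2 ⟨le_rfl, fun P f hf => ?_⟩, ?_⟩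
  · obtain ⟨hP, α, hα, e⟩ := hext P f hf
    refine ⟨autFn α, ?_, fun x hx => (e x hx).symm, fun q hq => autFn_mem α hq⟩
    rw [sup_eq_right.2 hP]
    refine (mem_autGroup_iff le_rfl).1 ?_
    exact sup_le (inn_le_autGroup F le_rfl) (Subgroup.zpowers_le.2 hβF) hα
  -- the subgroup generated by the displacements of `β`
  set T := Subgroup.closure ((fun x => x⁻¹ * autFn β x) '' (Q : Set Ω)) with hT
  have hTQ : T ≤ Q := by
    rw [hT, Subgroup.closure_le]
    rintro _ ⟨x, hx, rfl⟩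
    exact mul_mem (inv_mem hx) (autFn_mem β hx)
  have hTh : T ≤ F.hyperfocalSubgroup p := by
    rw [hT, Subgroup.closure_le]
    rintro _ ⟨x, hx, rfl⟩
    exact inv_mul_autFn_mem_hyperfocal le_rfl hβF (mem_pResidual_of_coprime hβF hβc) hx
  have hm : IsMap F Q (autFn β) := (mem_autGroup_iff le_rfl).1 hβF
  have hinv : ∀ t ∈ T, autFn β t ∈ T := by
    intro t ht
    refine (?_ : img (autFn β) T ≤ T) (hm.mem_img ht)
    rw [img, Subgroup.closure_le]
    rintro _ ⟨y, hy, rfl⟩
    induction hy using Subgroup.closure_induction with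
    | mem z hz =>
      obtain ⟨x, hx, rfl⟩ := hz
      refine Subgroup.subset_closure ⟨autFn β x, autFn_mem β hx, ?_⟩
      rw [hm.map_mul (inv_mem hx) (autFn_mem β hx), hm.map_inv hx]
    | one => rw [hm.map_one]; exact one_mem _
    | mul a b ha hb iha ihb => rw [hm.map_mul (hTQ ha) (hTQ hb)]; exact mul_mem iha ihb
    | inv a ha iha => rw [hm.map_inv (hTQ ha)]; exact inv_mem iha
  have hiso : IsIso F T T (autFn β) :=
    ⟨hm.mono hTQ, eq_of_le_of_card hTQ (hm.img_le hTQ hinv) (hm.card_img hTQ).ge⟩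
  obtain ⟨γ, hγ, hγe⟩ := exists_aut_of_isIso hiso
  have hγpow : ∀ (k : ℕ), ∀ x : T, (((γ ^ k) x : T) : Ω) = autFn (β ^ k) (x : Ω) := by
    intro k
    induction k with
    | zero => exact fun x => (autFn_one (hTQ x.2)).symm
    | succ k ih =>
      intro x
      rw [pow_succ', pow_succ', autFn_mul_comp _ _ (hTQ x.2), MulAut.mul_apply, hγe, ih]
  have hγq : γ ^ n.minFac = 1 := MulEquiv.ext fun x => Subtype.ext <| by
    rw [hγpow, ← hβq, pow_orderOf_eq_one]
    exact autFn_one (hTQ x.2)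
  have hγ1 : γ ≠ 1 := by
    intro h1
    refine hβ1 (MulEquiv.ext fun x => ?_)
    refine eq_self_of_stab hS β hβc (T.subgroupOf Q) (fun u hu => Subtype.ext ?_) x ?_
    · have := hγe ⟨u, hu⟩
      rw [h1] at this
      rw [← autFn_apply β u.2]
      exact this.symm
    · refine Subgroup.subset_closure ⟨x, x.2, ?_⟩
      show (x : Ω)⁻¹ * autFn β x = _
      rw [autFn_apply β x.2]
      rfl
  have hγc : (orderOf γ).Coprime p := hqc.coprime_dvd_left (orderOf_dvd_of_pow_eq_one hγq)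
  obtain ⟨hsatT, hsubT, hneT⟩ := exists_autSys_sub hS hTQ hγ hγc hγ1
  have hTS : T = Q := by
    rcases hall T _ hsatT hsubT with ⟨h, -⟩ | h
    · exact h
    · exact absurd h hneT
  rw [hTS] at hTh
  have hH : F.hyperfocalSubgroup p = Q := le_antisymm (hyperfocalSubgroup_le p) hTh
  refine ⟨le_antisymm focalSubgroup_le (hH.ge.trans (hyperfocal_le_focal p)), hH, n.minFac, β, hq, hqp,
    hβF, hβq, le_antisymm (fun α hα => ?_) (sup_le (inn_le_autGroup F le_rfl) (Subgroup.zpowers_le.2 hβF))⟩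
  obtain ⟨-, a, ha, e⟩ := hext Q _ ((mem_autGroup_iff le_rfl).1 hα)
  have : α = a := MulEquiv.ext fun x => Subtype.ext <| by
    rw [← autFn_apply α x.2, ← autFn_apply a x.2]
    exact e x x.2
  exact this ▸ ha

end Cfsg.Agent.S5245
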