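import Cfsg.Statements.S5246
import Cfsg.Agent.Lib.Cores.Basic

set_option autoImplicit false
open Cfsg

namespace Cfsg.Agent.S5246

/-- An isomorphism carrying a subgroup onto another carries `O_p` onto `O_p`. -/
theorem map_mem_pCore {M M' : Type*} [Group M] [Group M'] (p : ℕ) (f : M ≃* M') {A : Subgroup M}
    {A' : Subgroup M'} (h : A.map f.toMonoidHom = A') {x : M}
    (hx : x ∈ (Cfsg.pCore p A).map A.subtype) : f x ∈ (Cfsg.pCore p A').map A'.subtype := by
  subst h
  obtain ⟨a, ha, rfl⟩ := hx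
  refine ⟨(A.equivMapOfInjective f.toMonoidHom f.injective) a, ?_, rfl⟩
  rw [← Cfsg.Agent.Cores.pCore_map_mulEquiv (A.equivMapOfInjective f.toMonoidHom f.injective) p]
  exact ⟨a, ha, rfl⟩

variable {G : Type*} [Group G]

/-- The quadratic condition on an automorphism in the form used by the statement. -/
theorem quad_iff (Q : Subgroup G) (χ : MulAut Q) :
    (∀ a : Q, (χ a⁻¹) * a * (χ a⁻¹) * (χ (χ a)) = 1) ↔ ∀ a : Q, χ (a⁻¹ * χ a) = a⁻¹ * χ a := by
  refine forall_congr' fun a => ?_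
  rw [map_mul, map_inv]
  constructor
  · intro h
    have h2 : (χ a)⁻¹ * (χ (χ a)) = ((χ a)⁻¹ * a)⁻¹ := eq_inv_of_mul_eq_one_right (by simpa [mul_assoc] using h)
    rw [h2, mul_inv_rev, inv_inv]
  · intro h
    rw [mul_assoc, h]
    group

open scoped commutatorElement in
/-- The quadratic condition on `g` agrees with the commutator condition. -/
theorem quad_conj_iff (Q : Subgroup G) (g : Subgroup.normalizer (Q : Set G)) :
    (∀ a : Q, (Q.normalizerMonoidHom g a⁻¹) * a * (Q.normalizerMonoidHom g a⁻¹) *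
      (Q.normalizerMonoidHom g (Q.normalizerMonoidHom g a)) = 1) ↔
      ⁅⁅Q, Subgroup.zpowers (g : G)⁆, Subgroup.zpowers (g : G)⁆ = ⊥ := by
  rw [quad_iff, Subgroup.commutator_eq_bot_iff_le_centralizer]
  have hq : ∀ a : Q, (Q.normalizerMonoidHom g a : G) = g * a * (g : G)⁻¹ := fun a => rfl
  constructor
  · intro h
    have key : ∀ a : Q, (g : G) * ((a : G)⁻¹ * (g * a * (g : G)⁻¹)) = (a : G)⁻¹ * (g * a * (g : G)⁻¹) * g := by
      intro a
      have h2 := congrArg Subtype.val (h a)
      rw [hq] at h2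
      exact mul_inv_eq_iff_eq_mul.mp h2
    -- every conjugate of `a` by a power of `g` is `a` times an element commuting with `g`
    let C : Subgroup G := Subgroup.centralizer {(g : G)}
    have hC : ∀ c : G, c ∈ C ↔ (g : G) * c = c * g := fun c => by
      rw [Subgroup.mem_centralizer_singleton_iff]
      exact eq_comm
    have hpow : ∀ n : ℤ, ∀ a ∈ Q, a⁻¹ * ((g : G) ^ n * a * ((g : G) ^ n)⁻¹) ∈ C := by
      intro n
      induction n using Int.induction_on with
      | zero => intro a _; simp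
      | succ i ih =>
        intro a ha
        have h1 := (hC _).mpr (key ⟨a, ha⟩)
        have h2 := ih _ ((Subgroup.mem_normalizer_iff.mp g.2 a).mp ha)
        have := C.mul_mem h1 h2
        convert this using 1
        rw [zpow_add, zpow_one]
        group
      | pred i ih =>
        intro a ha
        have hb : (g : G)⁻¹ * a * g ∈ Q := by
          rw [Subgroup.mem_normalizer_iff.mp g.2]
          simpa [mul_assoc] using ha
        have h1 := C.inv_mem ((hC _).mpr (key ⟨_, hb⟩))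
        have h2 := ih _ hb
        have := C.mul_mem h1 h2
        convert this using 1
        simp only [zpow_sub, zpow_one]
        group
    intro x hx
    have hle : ⁅Q, Subgroup.zpowers (g : G)⁆ ≤ C := by
      rw [Subgroup.commutator_le]
      rintro a ha _ ⟨n, rfl⟩
      have := hpow n a⁻¹ (Q.inv_mem ha)
      simpa [commutatorElement_def, mul_assoc] using this
    rintro _ ⟨n, rfl⟩
    exact (Commute.zpow_left ((hC x).mp (hle hx)) n).eq
  · intro h a
    apply Subtype.ext
    rw [hq]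
    have h1 : ⁅(a : G)⁻¹, (g : G)⁆ ∈ ⁅Q, Subgroup.zpowers (g : G)⁆ :=
      Subgroup.commutator_mem_commutator (Q.inv_mem a.2) (Subgroup.mem_zpowers _)
    have h2 : (g : G) * ⁅(a : G)⁻¹, (g : G)⁆ = ⁅(a : G)⁻¹, (g : G)⁆ * g := h h1 g (Subgroup.mem_zpowers _)
    have h3 : ((a⁻¹ * Q.normalizerMonoidHom g a : Q) : G) = ⁅(a : G)⁻¹, (g : G)⁆ := by
      show (a : G)⁻¹ * (g * a * (g : G)⁻¹) = _
      simp [commutatorElement_def, mul_assoc]
    rw [h3, h2, mul_inv_cancel_right]

/-- The automorphisms of the group fusion system are the conjugations by the normalizer. -/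
theorem autGroup_eq {P Q : Subgroup G} (hQ : Q ≤ P) :
    (Cfsg.groupFusionSystem P).autGroup Q = Q.normalizerMonoidHom.range := by
  refine le_antisymm ((Subgroup.closure_le _).mpr ?_) ?_
  · rintro α ⟨-, -, g, hg⟩
    have hn : g ∈ Subgroup.normalizer (Q : Set G) := by
      rw [Subgroup.mem_normalizer_iff]
      intro y
      constructor
      · intro hy
        rw [← hg ⟨y, hy⟩]
        exact (α ⟨y, hy⟩).2
      · intro hy
        have h1 := hg (α.symm ⟨_, hy⟩)
        simp at h1
        exact h1.symm ▸ (α.symm ⟨_, hy⟩).2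
    exact ⟨⟨g, hn⟩, MulEquiv.ext fun x => Subtype.ext (hg x).symm⟩
  · rintro _ ⟨g, rfl⟩
    exact Subgroup.subset_closure ⟨hQ, fun x => hQ (Q.normalizerMonoidHom g x).2, g, fun x => rfl⟩

/-- The `p`-stability condition at `(Q, g)` in terms of automorphisms. -/
theorem mk_mem_iff (p : ℕ) (Q : Subgroup G) (g : G) (hg : g ∈ Subgroup.normalizer (Q : Set G)) :
    (QuotientGroup.mk (s := (Subgroup.centralizer (Q : Set G)).subgroupOf (Subgroup.normalizer (Q : Set G)))
        (⟨g, hg⟩ : ↥(Subgroup.normalizer (Q : Set G)))) ∈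
      Cfsg.pCore p (↥(Subgroup.normalizer (Q : Set G)) ⧸
        (Subgroup.centralizer (Q : Set G)).subgroupOf (Subgroup.normalizer (Q : Set G))) ↔
    Q.normalizerMonoidHom ⟨g, hg⟩ ∈
      (Cfsg.pCore p Q.normalizerMonoidHom.range).map Q.normalizerMonoidHom.range.subtype := by
  let e := (QuotientGroup.quotientMulEquivOfEq Q.normalizerMonoidHom_ker.symm).trans
    (QuotientGroup.quotientKerEquivRange Q.normalizerMonoidHom)
  constructor
  · intro h
    refine ⟨e (QuotientGroup.mk ⟨g, hg⟩), ?_, rfl⟩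
    rw [← Cfsg.Agent.Cores.pCore_map_mulEquiv e p]
    exact ⟨_, h, rfl⟩
  · rintro ⟨y, hy, hye⟩
    rw [← Cfsg.Agent.Cores.pCore_map_mulEquiv e p] at hy
    obtain ⟨z, hz, rfl⟩ := hy
    have : z = QuotientGroup.mk ⟨g, hg⟩ := e.injective (Subtype.ext hye)
    exact this ▸ hz

/-- Let p be an odd prime, G a finite group and P a Sylow p-subgroup. Call a fusion system F p-stable when, for every fully normalized subgroup Q and every χ ∈ Aut_F(Q) acting quadratically on Q (that is, χ fixes a⁻¹χ(a) for every a ∈ Q; equivalently χ(a⁻¹)·a·χ(a⁻¹)·χ(χ(a)) = 1), χ lies in O_p(Aut_F(Q)). Then G is p-stable in the normalizer form (for every p-subgroup Q and x ∈ N_G(Q) with [Q, x, x] = 1, the image of x lies in O_p(N_G(Q)/C_G(Q))) if and only if the fusion system of G on P is p-stable. -/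
theorem result {Ω : Type*} [Group Ω] [Finite Ω] {p : ℕ} [Fact p.Prime] (hp : p ≠ 2) (P : Sylow p Ω) : Cfsg.IsNormalizerPStable p Ω ↔ (∀ Q : Subgroup Ω, (Cfsg.groupFusionSystem (P : Subgroup Ω)).IsFullyNormalized Q → ∀ χ : MulAut ↥Q, χ ∈ (Cfsg.groupFusionSystem (P : Subgroup Ω)).autGroup Q → (∀ a : ↥Q, (χ a⁻¹) * a * (χ a⁻¹) * (χ (χ a)) = 1) → χ ∈ ((Cfsg.pCore p ↥((Cfsg.groupFusionSystem (P : Subgroup Ω)).autGroup Q)).map ((Cfsg.groupFusionSystem (P : Subgroup Ω)).autGroup Q).subtype : Subgroup (MulAut ↥Q))) := by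
  constructor
  · intro h Q hQ χ hχ hquad
    rw [autGroup_eq hQ.1] at hχ ⊢
    obtain ⟨⟨g, hg⟩, rfl⟩ := hχ
    exact (mk_mem_iff p Q g hg).mp
      (h Q (P.isPGroup'.to_le hQ.1) g hg ((quad_conj_iff Q ⟨g, hg⟩).mp hquad))
  · intro h Q hQ g hg hquad
    rw [mk_mem_iff]
    set N := Subgroup.normalizer (Q : Set Ω) with hN
    -- a conjugate of `Q` that is fully normalized
    obtain ⟨R, hR⟩ := (hQ.comap_of_injective N.subtype N.subtype_injective).exists_le_sylow
    obtain ⟨P', hP'⟩ := (R.isPGroup'.map N.subtype).exists_le_sylow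
    obtain ⟨c, hc⟩ := MulAction.exists_smul_eq Ω P' P
    have hRP : ∀ r ∈ (R : Subgroup N), c * (r : Ω) * c⁻¹ ∈ (P : Subgroup Ω) := fun r hr => by
      rw [← hc]
      exact Subgroup.mem_map_of_mem (MulAut.conj c).toMonoidHom (hP' ⟨r, hr, rfl⟩)
    set Q' := Q.map (MulAut.conj c).toMonoidHom with hQ'
    have hQ'P : Q' ≤ (P : Subgroup Ω) := by
      rintro _ ⟨x, hx, rfl⟩
      exact hRP ⟨x, Subgroup.le_normalizer hx⟩ (hR hx)
    have hnorm : ∀ (b : Ω) (Q₁ : Subgroup Ω), Subgroup.normalizer ((Q₁.map (MulAut.conj b).toMonoidHom : Subgroup Ω) : Set Ω) =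
        (Subgroup.normalizer (Q₁ : Set Ω)).map (MulAut.conj b).toMonoidHom :=
      fun b Q₁ => (Subgroup.map_equiv_normalizer_eq Q₁ (MulAut.conj b)).symm
    have hfn : (Cfsg.groupFusionSystem (P : Subgroup Ω)).IsFullyNormalized Q' := by
      refine ⟨hQ'P, ?_⟩
      rintro Q₂ ⟨φ, ⟨-, -, b, hb⟩, hφr⟩
      have hQ₂ : Q₂ = Q.map (MulAut.conj (b * c)).toMonoidHom := by
        rw [← hφr]
        ext y
        constructor
        · rintro ⟨⟨_, x, hx, rfl⟩, rfl⟩
          refine ⟨x, hx, ?_⟩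
          rw [hb]
          simp [mul_assoc]
        · rintro ⟨x, hx, rfl⟩
          refine ⟨⟨_, x, hx, rfl⟩, ?_⟩
          rw [hb]
          simp [mul_assoc]
      subst hQ₂
      -- pull `N_P(Q₂)` back to a `p`-subgroup of `N`
      let X : Subgroup N := ((P : Subgroup Ω).comap (MulAut.conj (b * c)).toMonoidHom).subgroupOf N
      have hX : IsPGroup p X :=
        (P.isPGroup'.comap_of_injective _ (MulAut.conj (b * c)).injective).comap_of_injective N.subtype
          N.subtype_injective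
      obtain ⟨R', hR'⟩ := hX.exists_le_sylow
      have h1 : Nat.card (Cfsg.FusionSystem.normalizerIn (P : Subgroup Ω) (Q.map (MulAut.conj (b * c)).toMonoidHom)) ≤
          Nat.card R := by
        rw [R.card_eq_multiplicity, ← R'.card_eq_multiplicity]
        have hle : Cfsg.FusionSystem.normalizerIn (P : Subgroup Ω) (Q.map (MulAut.conj (b * c)).toMonoidHom) ≤
            (X.map N.subtype).map (MulAut.conj (b * c)).toMonoidHom := by
          rintro y ⟨hyP, hyN⟩
          rw [hnorm] at hyN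
          obtain ⟨x, hx, rfl⟩ := hyN
          exact ⟨x, ⟨⟨x, hx⟩, hyP, rfl⟩, rfl⟩
        refine (Subgroup.card_le_of_le hle).trans ?_
        rw [Subgroup.card_map_of_injective (MulAut.conj (b * c)).injective,
          Subgroup.card_map_of_injective N.subtype_injective]
        exact Subgroup.card_le_of_le hR'
      refine h1.trans ?_
      have hle : ((R : Subgroup N).map N.subtype).map (MulAut.conj c).toMonoidHom ≤
          Cfsg.FusionSystem.normalizerIn (P : Subgroup Ω) Q' := by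
        rintro _ ⟨_, ⟨r, hr, rfl⟩, rfl⟩
        refine ⟨hRP r hr, ?_⟩
        rw [hnorm]
        exact ⟨_, r.2, rfl⟩
      refine le_trans (le_of_eq ?_) (Subgroup.card_le_of_le hle)
      rw [Subgroup.card_map_of_injective (MulAut.conj c).injective,
        Subgroup.card_map_of_injective N.subtype_injective]
    -- transport along conjugation by `c`
    let e : ↥Q ≃* ↥Q' := Q.equivMapOfInjective (MulAut.conj c).toMonoidHom (MulAut.conj c).injective
    have hecoe : ∀ x : Q, (e x : Ω) = c * x * c⁻¹ := fun x => rfl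
    have hcg : c * g * c⁻¹ ∈ Subgroup.normalizer (Q' : Set Ω) := by
      rw [hnorm]
      exact ⟨g, hg, rfl⟩
    have hmap : Q.normalizerMonoidHom.range.map (MulAut.congr e).toMonoidHom = Q'.normalizerMonoidHom.range := by
      ext β
      constructor
      · rintro ⟨_, ⟨n, rfl⟩, rfl⟩
        refine ⟨⟨c * n * c⁻¹, hnorm c Q ▸ ⟨(n : Ω), n.2, rfl⟩⟩, MulEquiv.ext fun x => Subtype.ext ?_⟩
        obtain ⟨x, rfl⟩ := e.surjective x
        show c * (n : Ω) * c⁻¹ * (e x : Ω) * (c * n * c⁻¹)⁻¹ = (e (Q.normalizerMonoidHom n (e.symm (e x))) : Ω)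
        rw [MulEquiv.symm_apply_apply, hecoe, hecoe]
        show _ = c * ((n : Ω) * x * (n : Ω)⁻¹) * c⁻¹
        group
      · rintro ⟨⟨m, hm⟩, rfl⟩
        rw [hnorm] at hm
        obtain ⟨n, hn, rfl⟩ := hm
        refine ⟨_, ⟨⟨n, hn⟩, rfl⟩, MulEquiv.ext fun x => Subtype.ext ?_⟩
        obtain ⟨x, rfl⟩ := e.surjective x
        show (e (Q.normalizerMonoidHom ⟨n, hn⟩ (e.symm (e x))) : Ω) = c * n * c⁻¹ * (e x : Ω) * (c * n * c⁻¹)⁻¹
        rw [MulEquiv.symm_apply_apply, hecoe, hecoe]
        show c * (n * x * n⁻¹) * c⁻¹ = _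
        group
    have himg : MulAut.congr e (Q.normalizerMonoidHom ⟨g, hg⟩) = Q'.normalizerMonoidHom ⟨c * g * c⁻¹, hcg⟩ := by
      refine MulEquiv.ext fun x => Subtype.ext ?_
      obtain ⟨x, rfl⟩ := e.surjective x
      show (e (Q.normalizerMonoidHom ⟨g, hg⟩ (e.symm (e x))) : Ω) = c * g * c⁻¹ * (e x : Ω) * (c * g * c⁻¹)⁻¹
      rw [MulEquiv.symm_apply_apply, hecoe, hecoe]
      show c * (g * x * g⁻¹) * c⁻¹ = _
      group
    have hquad' : ⁅⁅Q', Subgroup.zpowers (c * g * c⁻¹)⁆, Subgroup.zpowers (c * g * c⁻¹)⁆ = ⊥ := by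
      have hz : Subgroup.zpowers (c * g * c⁻¹) = (Subgroup.zpowers g).map (MulAut.conj c).toMonoidHom := by
        rw [MonoidHom.map_zpowers]
        rfl
      rw [hz, hQ', ← Subgroup.map_commutator, ← Subgroup.map_commutator, hquad, Subgroup.map_bot]
    have hmain := h Q' hfn (Q'.normalizerMonoidHom ⟨c * g * c⁻¹, hcg⟩)
      (by rw [autGroup_eq hQ'P]; exact ⟨_, rfl⟩) ((quad_conj_iff Q' ⟨_, hcg⟩).mpr hquad')
    rw [autGroup_eq hQ'P, ← himg] at hmain
    have hback : Q'.normalizerMonoidHom.range.map (MulAut.congr e).symm.toMonoidHom = Q.normalizerMonoidHom.range := by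
      rw [← hmap, Subgroup.map_map]
      ext; simp
    have := map_mem_pCore p (MulAut.congr e).symm hback hmain
    rwa [MulEquiv.symm_apply_apply] at this

end Cfsg.Agent.S5246
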