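import Cfsg.Statements.S5254
import Cfsg.Agent.Lib.FusionAbelianIndex.Main

set_option autoImplicit false
open Cfsg Cfsg.Agent

namespace Cfsg.Agent.S5254

/-- Let p be an odd prime, S a finite nonabelian p-group with a unique abelian subgroup A of index p, and F a saturated fusion system over S. Then every F-essential subgroup P is A, or Z(S)⟨x⟩ for some x ∈ S outside A, or (when the second centre Z₂(S) lies in A) Z₂(S)⟨x⟩ for some x ∈ S outside A; and P has index p in its normalizer in S. -/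
theorem result {Ω : Type*} [Group Ω] {S : Subgroup Ω} [Finite S] (p : ℕ) [Fact p.Prime] (hS : IsPGroup p S) (F : Cfsg.FusionSystem S) (hF : F.IsSaturated p) (hp : p ≠ 2) (hna : ¬ IsMulCommutative ↥S) (A : Subgroup Ω) (hA : A ≤ S ∧ IsMulCommutative ↥A ∧ (A.subgroupOf S).index = p) (huniq : ∀ B : Subgroup Ω, B ≤ S → IsMulCommutative ↥B → (B.subgroupOf S).index = p → B = A) (P : Subgroup Ω) (hP : F.IsEssential p P) : (P = A ∨ (∃ x ∈ S, x ∉ A ∧ P = (S ⊓ Subgroup.centralizer (S : Set Ω)) ⊔ Subgroup.zpowers x) ∨ (((upperCentralSeries ↥S 2).map S.subtype) ≤ A ∧ ∃ x ∈ S, x ∉ A ∧ P = ((upperCentralSeries ↥S 2).map S.subtype) ⊔ Subgroup.zpowers x)) ∧ (P.subgroupOf (S ⊓ Subgroup.normalizer (P : Set Ω))).index = p := by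
  classical
  obtain ⟨hAS, hAc, hAi⟩ := hA
  let c : FusionAbelianIndex.Ctx S A p := ⟨hAS, fun a ha b hb =>
    congrArg Subtype.val (hAc.is_comm.comm ⟨a, ha⟩ ⟨b, hb⟩), hAi, hS⟩
  by_cases hne : P = A
  · subst hne
    refine ⟨Or.inl rfl, ?_⟩
    have hN : S ⊓ Subgroup.normalizer (P : Set Ω) = S := inf_eq_left.2 fun s hs => by
      have := Fusion.finite_of_le hAS
      exact (Fusion.mem_normalizerIn_of_conj hs fun a ha => c.conj_mem hs ha).2
    rw [hN]
    exact hAi
  have r := FusionAbelianIndex.Rad.of_essential hS hF hP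
  obtain ⟨x, hxP, hxA, hcase, hW, hR, hidx⟩ := r.analysis hF c hna hne
  refine ⟨Or.inr ?_, hidx⟩
  rcases hcase with h | h
  · exact Or.inl ⟨x, r.lt.le hxP, hxA, h⟩
  · have e := c.upperTwo_eq hna huniq (r.lt.le hxP) hxA hW
    refine Or.inr ⟨?_, x, r.lt.le hxP, hxA, ?_⟩
    · show _
      simp only [show upperCentralSeries S 2 = Subgroup.upperCentralSeries S 2 from rfl, e]; exact fun a ha => ((c.mem_W2 _).1 ha).1
    · show _
      simp only [show upperCentralSeries S 2 = Subgroup.upperCentralSeries S 2 from rfl, e]; exact h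

end Cfsg.Agent.S5254
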