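import Cfsg.Statements.S5255
import Cfsg.Agent.Lib.FusionChain.Puig

set_option autoImplicit false
open Cfsg
open scoped Pointwise

namespace Cfsg.Agent.S5255

/-- Let F be a saturated fusion system over a finite p-group S and T a subgroup of S strongly closed in F. Then T·C_S(T) is strongly closed in F. -/
theorem result {Ω : Type*} [Group Ω] {S : Subgroup Ω} [Finite S] (p : ℕ) [Fact p.Prime] (hS : IsPGroup p S) (F : Cfsg.FusionSystem S) (hF : F.IsSaturated p) (T : Subgroup Ω) (hT : F.StronglyClosed T) : F.StronglyClosed (T ⊔ Cfsg.FusionSystem.centralizerIn S T) := by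
  set C := Cfsg.FusionSystem.centralizerIn S T with hC
  have hCS : C ≤ S := inf_le_left
  refine Cfsg.Agent.FusionChain.stronglyClosed_of_mapsTo (sup_le hT.1 hCS) fun P f hf hP x hx => ?_
  obtain ⟨g, hg, hgf⟩ := Cfsg.Agent.FusionChain.exists_map_congr_mod hS hF hT hf
  have hfinT := Cfsg.Agent.Fusion.finite_of_le hT.1
  have hCN : C ≤ Subgroup.normalizer (T : Set Ω) :=
    (Cfsg.Agent.Fusion.centralizerIn_le_normalizerIn S T).trans inf_le_right
  obtain ⟨t, ht, c, hc, htc⟩ : x ∈ (T : Set Ω) * (C : Set Ω) := by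
    rw [← Subgroup.coe_mul_of_right_le_normalizer_left T C hCN]
    exact hP hx
  have hcmem : c ∈ P ⊔ T := by
    have : c = t⁻¹ * x := by rw [← htc]; simp
    rw [this]
    exact Subgroup.mul_mem _ (Subgroup.mem_sup_right (T.inv_mem ht)) (Subgroup.mem_sup_left hx)
  have himg : Cfsg.Agent.Fusion.img g T = T :=
    Cfsg.Agent.Fusion.eq_of_le_of_card hT.1 (hg.img_le le_sup_right fun y hy =>
      Cfsg.Agent.FusionChain.isMap_mem_of_stronglyClosed hT hg (Subgroup.mem_sup_right hy) hy)
      (hg.card_img le_sup_right).ge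
  have hgc : g c ∈ C := Cfsg.Agent.Fusion.map_centralizerIn hg le_sup_right himg hcmem hc
  have hgx : g x = g t * g c := by
    rw [← htc]
    exact hg.map_mul (Subgroup.mem_sup_right ht) hcmem
  have hfx : f x = g x * ((g x)⁻¹ * f x) := (mul_inv_cancel_left _ _).symm
  rw [hfx, hgx]
  refine Subgroup.mul_mem _ (Subgroup.mul_mem _ ?_ (Subgroup.mem_sup_right hgc)) (Subgroup.mem_sup_left ?_)
  · exact Subgroup.mem_sup_left
      (Cfsg.Agent.FusionChain.isMap_mem_of_stronglyClosed hT hg (Subgroup.mem_sup_right ht) ht)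
  · have := hgf x hx
    rwa [hgx] at this

end Cfsg.Agent.S5255
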