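import Cfsg.Statements.S5256
import Cfsg.Agent.Lib.FusionChain.Puig
import Cfsg.Agent.Lib.FusionChain.Hyperfocal

set_option autoImplicit false
open Cfsg

namespace Cfsg.Agent.S5256

section
open Cfsg.FusionSystem Cfsg.Agent.Fusion Cfsg.Agent.FusionChain
open scoped Pointwise

/-- The automorphisms whose displacements lie in `H`, among those preserving `H`. -/
theorem disp_mem_of_closure {P : Type*} [Group P] {Ω : Type*} [Group Ω] (ι : P →* Ω) (H : Subgroup Ω)
    {A : Type*} [Group A] (act : A →* MulAut P) {s : Set A}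
    (hs : ∀ a ∈ s, ∀ x : P, (ι x)⁻¹ * ι (act a x) ∈ H) {a : A} (ha : a ∈ Subgroup.closure s) :
    ∀ x : P, (ι x)⁻¹ * ι (act a x) ∈ H := by
  induction ha using Subgroup.closure_induction with
  | mem a ha => exact hs a ha
  | one => intro x; simp
  | mul a b _ _ iha ihb =>
    intro x
    have h := H.mul_mem (ihb x) (iha (act b x))
    rwa [mul_assoc, mul_inv_cancel_left, ← MulAut.mul_apply, ← map_mul] at h
  | inv a _ iha =>
    intro x
    have h := H.inv_mem (iha (act a⁻¹ x))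
    rw [map_inv act] at h ⊢
    rwa [MulAut.apply_inv_self, mul_inv_rev, inv_inv] at h

variable {Ω : Type*} [Group Ω] {S : Subgroup Ω} [Finite S] {p : ℕ} [Fact p.Prime]
  {F : Cfsg.FusionSystem S} {T : Subgroup Ω} {Ω' : Type*} [Group Ω'] {S' : Subgroup Ω'}
  {θ : ↥S →* Ω'} {E : Cfsg.FusionSystem S'}

/-- Displacements of the factor system lie in the image of the hyperfocal subgroup. -/
theorem factor_disp_mem (hE : F.IsFactorSystem T θ E) {P' : Subgroup Ω'} (hP' : P' ≤ S')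
    {β : MulAut P'} (hβ : β ∈ E.autGroup P') (hcop : (orderOf β).Coprime p) (x : P') :
    ((x : Ω'))⁻¹ * ((β x : P') : Ω') ∈ ((F.hyperfocalSubgroup p).subgroupOf S).map θ := by
  obtain ⟨-, hker, hrange, hhom⟩ := hE
  have hfin' : Finite θ.range := Finite.of_surjective _ θ.rangeRestrict_surjective
  have : Finite S' := hrange ▸ hfin'
  have hmem : P'.subtype.comp β.toMonoidHom ∈ E.Hom P' :=
    mem_of_isMap ((mem_autGroup_iff hP').1 hβ) fun y => (autFn_apply β y.2).symm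
  obtain ⟨-, hex⟩ := (hhom P' _).1 hmem
  set P := Cfsg.FusionSystem.preimageAlong θ P' with hP
  obtain ⟨φ, hφ, hPS, hφS, hθP, hind⟩ := hex
  have hpre : ∀ s : S, (s : Ω) ∈ P ↔ θ s ∈ P' := fun s => by
    constructor
    · rintro ⟨s', hs', he⟩
      exact (Subtype.ext he : s' = s) ▸ hs'
    · exact fun h => ⟨s, h, rfl⟩
  have hm := isMap_toFn hφ
  have hinvP : ∀ y ∈ P, toFn φ y ∈ P := fun y hy => by
    rw [toFn_apply φ hy]
    refine (hpre ⟨_, hφS ⟨y, hy⟩⟩).2 ?_
    rw [← hind ⟨y, hy⟩]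
    exact (β _).2
  have hiso : IsIso F P P (toFn φ) :=
    ⟨hm, eq_of_le_of_card hPS (hm.img_le le_rfl hinvP) (hm.card_img le_rfl).ge⟩
  obtain ⟨α, hα, hαe⟩ := exists_aut_of_isIso hiso
  -- `α` lifts every power of `β`
  have hpow : ∀ (n : ℕ) (y : P), θ ⟨((α ^ n) y : P), hPS ((α ^ n) y).2⟩ =
      (((β ^ n) ⟨θ ⟨y, hPS y.2⟩, hθP y⟩ : P') : Ω') := by
    intro n
    induction n with
    | zero => intro y; rfl
    | succ m ih =>
      intro y
      have e1 : θ ⟨((α ((α ^ m) y) : P) : Ω), hPS (α ((α ^ m) y)).2⟩ =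
          ((β ⟨θ ⟨((α ^ m) y : P), hPS ((α ^ m) y).2⟩, hθP _⟩ : P') : Ω') := by
        refine Eq.trans (congrArg θ (Subtype.ext ?_)) (hind _).symm
        exact (hαe _).trans (toFn_coe φ _)
      rw [pow_succ', pow_succ']
      refine e1.trans ?_
      exact congrArg (fun z : P' => ((β z : P') : Ω')) (Subtype.ext (ih y))
  have := finite_mulAut (S := S) hPS
  obtain ⟨k, hk⟩ := exists_pow_coprime p α
  obtain ⟨j, hj⟩ := exists_pow_eq_self_of_coprime (x := β) (n := p ^ k) (hcop.symm.pow_left k)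
  set γ := (α ^ p ^ k) ^ j with hγ
  have hγA : γ ∈ F.autGroup P := Subgroup.pow_mem _ (Subgroup.pow_mem _ hα _) _
  have hγc : (orderOf γ).Coprime p := Nat.Coprime.coprime_dvd_left (orderOf_pow_dvd _) hk
  obtain ⟨s, hs⟩ : (x : Ω') ∈ θ.range := hrange.symm ▸ hP' x.2
  have hsP : (s : Ω) ∈ P := (hpre s).2 (hs.symm ▸ x.2)
  have hy := inv_mul_autFn_mem_hyperfocal hPS hγA (mem_pResidual_of_coprime hγA hγc) hsP
  rw [autFn_apply γ hsP] at hy
  refine ⟨s⁻¹ * ⟨(γ ⟨s, hsP⟩ : P), hPS (γ ⟨s, hsP⟩).2⟩, hy, ?_⟩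
  rw [map_mul, map_inv, hs]
  congr 1
  have h1 := hpow (p ^ k * j) ⟨s, hsP⟩
  rw [pow_mul β, hj] at h1
  refine Eq.trans ?_ (h1.trans ?_)
  · exact congrArg θ (Subtype.ext (by rw [hγ, ← pow_mul]))
  · exact congrArg (fun z : P' => ((β z : P') : Ω')) (Subtype.ext hs)

/-- Images of displacements lie in the hyperfocal subgroup of the factor system. -/
theorem image_disp_mem (hS : IsPGroup p S) (hF : F.IsSaturated p) (hT : F.StronglyClosed T)
    (hE : F.IsFactorSystem T θ E) {P : Subgroup Ω} (hP : P ≤ S) {α : MulAut P} (hα : α ∈ F.autGroup P)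
    (hcop : (orderOf α).Coprime p) (x : P) :
    (θ ⟨x, hP x.2⟩)⁻¹ * θ ⟨(α x : P), hP (α x).2⟩ ∈ E.hyperfocalSubgroup p := by
  obtain ⟨-, hker, hrange, hhom⟩ := hE
  have hm := (isIso_autFn hP hα).1
  obtain ⟨g, hg, hgα⟩ := exists_map_congr_mod hS hF hT hm
  set P' := Cfsg.FusionSystem.imageAlong θ P with hP'
  let π : P →* P' :=
    { toFun := fun y => ⟨θ ⟨y, hP y.2⟩, ⟨⟨y, hP y.2⟩, y.2, rfl⟩⟩
      map_one' := Subtype.ext (map_one θ)
      map_mul' := fun a b => Subtype.ext (map_mul θ ⟨(a : Ω), hP a.2⟩ ⟨(b : Ω), hP b.2⟩) }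
  have hπ : Function.Surjective π := by
    rintro ⟨_, ⟨y, hyS⟩, hy, rfl⟩
    exact ⟨⟨y, hy⟩, rfl⟩
  have hπ1 : ∀ y : P, π y = 1 ↔ (y : Ω) ∈ T := fun y => by
    rw [← hker ⟨y, hP y.2⟩]
    exact ⟨fun h => congrArg Subtype.val h, fun h => Subtype.ext h⟩
  have hle : π.ker ≤ (π.comp α.toMonoidHom).ker := fun y hy => by
    rw [MonoidHom.mem_ker, hπ1] at hy
    rw [MonoidHom.mem_ker]
    refine (hπ1 _).2 ?_
    have := isMap_mem_of_stronglyClosed hT hm y.2 hy
    rwa [autFn_apply α y.2] at this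
  let b : P' →* P' := π.liftOfSurjective hπ ⟨π.comp α.toMonoidHom, hle⟩
  have hb : ∀ y, b (π y) = π (α y) := fun y =>
    MonoidHom.liftOfRightInverse_comp_apply _ _ _ ⟨π.comp α.toMonoidHom, hle⟩ y
  have hbs : Function.Surjective b := fun z => by
    obtain ⟨y, rfl⟩ := hπ z
    exact ⟨π (α⁻¹ y), by rw [hb, MulAut.apply_inv_self]⟩
  have : Finite P := finite_of_le hP
  have : Finite P' := Finite.of_surjective π hπ
  let β : MulAut P' := MulEquiv.ofBijective b ⟨Finite.injective_iff_surjective.2 hbs, hbs⟩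
  have hP'S : P' ≤ S' := fun z hz => by
    obtain ⟨s, -, rfl⟩ := hz
    exact hrange ▸ ⟨s, rfl⟩
  -- the preimage of the image
  have hpre : Cfsg.FusionSystem.preimageAlong θ P' ≤ P ⊔ T := by
    rintro _ ⟨s, ⟨y, hy, he⟩, rfl⟩
    have h1 : ((y⁻¹ * s : S) : Ω) ∈ T := (hker _).1 (by rw [map_mul, map_inv, he, inv_mul_cancel])
    have h2 := Subgroup.mul_mem (P ⊔ T) (Subgroup.mem_sup_left (show ((y : S) : Ω) ∈ P from hy))
      (Subgroup.mem_sup_right h1)
    rwa [Subgroup.coe_mul, Subgroup.coe_inv, mul_inv_cancel_left] at h2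
  have hgm := hg.mono hpre
  have hφ : ∀ y : P, θ ⟨g y, hg.mem (Subgroup.mem_sup_left y.2)⟩ = ((π (α y) : P') : Ω') := by
    intro y
    have h1 := hgα y y.2
    rw [autFn_apply α y.2] at h1
    have h2 : θ (⟨g y, hg.mem (Subgroup.mem_sup_left y.2)⟩⁻¹ * ⟨(α y : P), hP (α y).2⟩) = 1 := (hker _).2 h1
    rw [map_mul, map_inv, inv_mul_eq_one] at h2
    exact h2
  have hmemE : β ∈ E.autGroup P' := by
    refine Subgroup.subset_closure ((hhom P' _).2 ⟨hP'S, ?_⟩)
    obtain ⟨ψ, hψ, hψe⟩ := hgm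
    refine ⟨ψ, hψ, fun y hy => (F.le_of_mem hψ).1 hy, (F.le_of_mem hψ).2, ?_, ?_⟩
    · rintro ⟨_, s, hs, rfl⟩
      exact hs
    · rintro ⟨_, s, hs, rfl⟩
      obtain ⟨y, hy, he⟩ := id hs
      show ((b ⟨θ s, hs⟩ : P') : Ω') = θ ⟨ψ _, _⟩
      have h1 : (⟨θ s, hs⟩ : P') = π ⟨y, hy⟩ := Subtype.ext he.symm
      rw [h1, hb, ← hφ ⟨y, hy⟩]
      have hyp : (y : Ω) ∈ Cfsg.FusionSystem.preimageAlong θ P' := ⟨y, ⟨y, hy, rfl⟩, rfl⟩
      have hsp : (s : Ω) ∈ Cfsg.FusionSystem.preimageAlong θ P' := ⟨s, hs, rfl⟩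
      have hgm' : IsMap F (Cfsg.FusionSystem.preimageAlong θ P') g := hg.mono hpre
      have h3 : ((y⁻¹ * s : S) : Ω) ∈ T := (hker _).1 (by rw [map_mul, map_inv, he, inv_mul_cancel])
      have h4 : g ((y⁻¹ * s : S) : Ω) ∈ T := isMap_mem_of_stronglyClosed hT hg (Subgroup.mem_sup_right h3) h3
      have h5 : g (s : Ω) = g (y : Ω) * g ((y⁻¹ * s : S) : Ω) := by
        rw [← hg.map_mul (Subgroup.mem_sup_left (show ((y : S) : Ω) ∈ P from hy)) (Subgroup.mem_sup_right h3)]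
        simp
      have h6 : (⟨ψ ⟨(s : Ω), hsp⟩, (F.le_of_mem hψ).2 _⟩ : S) =
          ⟨g y, hg.mem (Subgroup.mem_sup_left hy)⟩ *
            ⟨g ((y⁻¹ * s : S) : Ω), hg.mem (Subgroup.mem_sup_right h3)⟩ :=
        Subtype.ext ((hψe _ hsp).trans h5)
      refine Eq.trans ?_ (congrArg θ h6).symm
      rw [map_mul θ]
      conv_rhs => rw [(hker ⟨g ((y⁻¹ * s : S) : Ω), hg.mem (Subgroup.mem_sup_right h3)⟩).2 h4, mul_one]
  have hβcop : (orderOf β).Coprime p := by
    refine Nat.Coprime.coprime_dvd_left (orderOf_dvd_of_pow_eq_one ?_) hcop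
    have hpow : ∀ (n : ℕ) (y : P), (β ^ n) (π y) = π ((α ^ n) y) := by
      intro n
      induction n with
      | zero => intro y; rfl
      | succ m ih =>
        intro y
        rw [pow_succ', pow_succ', MulAut.mul_apply, MulAut.mul_apply, ih, ← hb]
        rfl
    refine MulEquiv.ext fun z => ?_
    obtain ⟨y, rfl⟩ := hπ z
    rw [hpow, pow_orderOf_eq_one]
    rfl
  refine Subgroup.subset_closure ⟨P', ⟨β, hmemE⟩, π x, hP'S,
    mem_pResidual_of_coprime hmemE hβcop, ?_⟩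
  exact congrArg (fun z : P' => ((π x : P') : Ω')⁻¹ * (z : Ω')) (hb x).symm

end

/-- Let F be a saturated fusion system over a finite p-group S, T a subgroup of S strongly closed in F, and E a factor system F/T realised along a homomorphism θ of S with kernel T. Then the hyperfocal subgroup of E is the image under θ of the hyperfocal subgroup of F (hyp(F/T) = T·hyp(F)/T). -/
theorem result {Ω : Type*} [Group Ω] {S : Subgroup Ω} [Finite S] (p : ℕ) [Fact p.Prime] (hS : IsPGroup p S) (F : Cfsg.FusionSystem S) (hF : F.IsSaturated p) (T : Subgroup Ω) (hT : F.StronglyClosed T) {Ω' : Type*} [Group Ω'] {S' : Subgroup Ω'} (θ : ↥S →* Ω') (E : Cfsg.FusionSystem S') (hE : F.IsFactorSystem T θ E) : E.hyperfocalSubgroup p = ((F.hyperfocalSubgroup p).subgroupOf S).map θ := by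
  refine le_antisymm ((Subgroup.closure_le _).2 ?_) (Subgroup.map_le_iff_le_comap.2 ?_)
  · rintro _ ⟨P', β, x, hP', hβ, rfl⟩
    refine disp_mem_of_closure P'.subtype _ (E.autGroup P').subtype
      (s := {g : E.autGroup P' | Nat.Coprime (orderOf g) p}) ?_ hβ x
    intro b hb y
    exact factor_disp_mem hE hP' b.2 (show (orderOf (b : MulAut P')).Coprime p by rwa [Subgroup.orderOf_coe]) y
  · intro z hz
    have hle : F.hyperfocalSubgroup p ≤ ((E.hyperfocalSubgroup p).comap θ).map S.subtype := by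
      refine (Subgroup.closure_le _).2 ?_
      rintro _ ⟨P, α, x, hP, hα, rfl⟩
      refine ⟨⟨x, hP x.2⟩⁻¹ * ⟨((α : MulAut P) x : P), hP (Subtype.prop _)⟩, ?_, rfl⟩
      show θ _ ∈ E.hyperfocalSubgroup p
      rw [map_mul, map_inv]
      refine disp_mem_of_closure (θ.comp (Subgroup.inclusion hP)) _ (F.autGroup P).subtype
        (s := {g : F.autGroup P | Nat.Coprime (orderOf g) p}) ?_ hα x
      intro a ha y
      exact image_disp_mem hS hF hT hE hP a.2
        (show (orderOf (a : MulAut P)).Coprime p by rwa [Subgroup.orderOf_coe]) y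
    obtain ⟨w, hw, he⟩ := hle (show (z : Ω) ∈ F.hyperfocalSubgroup p from hz)
    exact (Subtype.ext he : w = z) ▸ hw

end Cfsg.Agent.S5256
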