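import Cfsg.Statements.S5257
import Cfsg.Agent.Lib.FusionAbelianIndex.Main

set_option autoImplicit false
open Cfsg Cfsg.Agent

namespace Cfsg.Agent.S5257

/-- Let p be an odd prime, S a finite nonabelian p-group with a unique abelian subgroup A of index p, and F a saturated fusion system over S having an F-essential subgroup other than A. Then the second centre Z₂(S) lies in A; Z(S) ∩ [S, S] has order p; Z(S)[S, S] has index p in A; Z(S) has index p in Z₂(S); and S/Z(S) has maximal nilpotency class (if S/Z(S) has order pᵐ with m ≥ 3 then the term of index m − 2 of the lower central series of S, counting S as index 0, is not contained in Z(S)). -/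
theorem result {Ω : Type*} [Group Ω] {S : Subgroup Ω} [Finite S] (p : ℕ) [Fact p.Prime] (hS : IsPGroup p S) (F : Cfsg.FusionSystem S) (hF : F.IsSaturated p) (hp : p ≠ 2) (hna : ¬ IsMulCommutative ↥S) (A : Subgroup Ω) (hA : A ≤ S ∧ IsMulCommutative ↥A ∧ (A.subgroupOf S).index = p) (huniq : ∀ B : Subgroup Ω, B ≤ S → IsMulCommutative ↥B → (B.subgroupOf S).index = p → B = A) (P : Subgroup Ω) (hP : F.IsEssential p P) (hPA : P ≠ A) : ((upperCentralSeries ↥S 2).map S.subtype) ≤ A ∧ Nat.card ↥((S ⊓ Subgroup.centralizer (S : Set Ω)) ⊓ ((commutator ↥S).map S.subtype)) = p ∧ (((S ⊓ Subgroup.centralizer (S : Set Ω)) ⊔ ((commutator ↥S).map S.subtype)).subgroupOf A).index = p ∧ (((S ⊓ Subgroup.centralizer (S : Set Ω))).subgroupOf ((upperCentralSeries ↥S 2).map S.subtype)).index = p ∧ ∀ m : ℕ, ((S ⊓ Subgroup.centralizer (S : Set Ω)).subgroupOf S).index = p ^ m → 3 ≤ m → ¬ Subgroup.lowerCentralSeries S (m - 2) ≤ (S ⊓ Subgroup.centralizer (S : Set Ω)) := by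
  classical
  obtain ⟨hAS, hAc, hAi⟩ := hA
  let c : FusionAbelianIndex.Ctx S A p := ⟨hAS, fun a ha b hb =>
    congrArg Subtype.val (hAc.is_comm.comm ⟨a, ha⟩ ⟨b, hb⟩), hAi, hS⟩
  have r := FusionAbelianIndex.Rad.of_essential hS hF hP
  obtain ⟨x, hxP, hxA, -, hW, hR, -⟩ := r.analysis hF c hna hPA
  have hxS := r.lt.le hxP
  have hp0 : 0 < p := (Fact.out : p.Prime).pos
  have := Fusion.finite_of_le hAS
  have hZA : FusionAbelianIndex.Zs S ≤ A := c.Zs_le hna
  have : Finite (FusionAbelianIndex.Zs S) := Fusion.finite_of_le (FusionAbelianIndex.Zs_le S)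
  have e2 := c.upperTwo_eq hna huniq hxS hxA hW
  have eR := c.R_eq_commutator hxS hxA
  refine ⟨?_, ?_, ?_, ?_, ?_⟩
  · show (Subgroup.upperCentralSeries S 2).map S.subtype ≤ A
    rw [e2]; exact fun a ha => ((c.mem_W2 _).1 ha).1
  · rw [← eR]; exact hR
  · rw [← eR]
    have h1 := (c.d hxS).ker.card_mul_index
    rw [Subgroup.index_ker, c.ker_d hna hxS hxA,
      Nat.card_congr (Subgroup.subgroupOfEquivOfLe hZA).toEquiv,
      ← Subgroup.card_map_of_injective A.subtype_injective (K := (c.d hxS).range)] at h1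
    exact FusionAbelianIndex.index_sup_of_card hZA (c.R_le hxS)
      c.comm h1.symm hR
  · show ((FusionAbelianIndex.Zs S).subgroupOf ((Subgroup.upperCentralSeries S 2).map S.subtype)).index = p
    rw [e2]
    have hle : FusionAbelianIndex.Zs S ≤ c.W2 hxS := fun z hz => (c.mem_W2 hxS).2
      ⟨hZA hz, by rw [(FusionAbelianIndex.mem_Zs.1 hz).2 x hxS, mul_inv_cancel_right, inv_mul_cancel]
                  exact one_mem _⟩
    have h1 := ((FusionAbelianIndex.Zs S).subgroupOf (c.W2 hxS)).card_mul_index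
    rw [Nat.card_congr (Subgroup.subgroupOfEquivOfLe hle).toEquiv, hW, mul_comm p] at h1
    exact Nat.eq_of_mul_eq_mul_left Nat.card_pos h1
  · intro m hm h3
    exact c.lowerCentral_not_le hna hxS hxA hR hm h3

end Cfsg.Agent.S5257
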