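import Cfsg.Statements.S5259
import Cfsg.Agent.Lib.SLFusion.Basic
import Cfsg.Agent.Lib.FusionHeis.Sl3

set_option autoImplicit false
open Cfsg

namespace Cfsg.Agent.S5259

open Cfsg.Agent Matrix

/-- The three entries of an upper unitriangular matrix of size three. -/
noncomputable def slUEquiv (K : Type*) [Field K] [Finite K] :
    SLFusion.slU 3 K ≃ K × K × K where
  toFun g := (g.1.1 0 1, g.1.1 1 2, g.1.1 0 2)
  invFun v := ⟨⟨!![1, v.1, v.2.2; 0, 1, v.2.1; 0, 0, 1], by simp [Matrix.det_fin_three]⟩, by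
    refine SLFusion.mem_slU.2 fun i j h => ?_
    fin_cases i <;> fin_cases j <;> simp at h ⊢⟩
  left_inv g := by
    have hg := SLFusion.mem_slU.1 g.2
    refine Subtype.ext (Subtype.ext (Matrix.ext fun i j => ?_))
    fin_cases i <;> fin_cases j <;> simp <;> (rw [hg _ _ (by decide)]; simp)
  right_inv v := by simp

theorem slUEquiv_mul {K : Type*} [Field K] [Finite K] (s t : SLFusion.slU 3 K) :
    slUEquiv K (s * t) = ((slUEquiv K s).1 + (slUEquiv K t).1,
      (slUEquiv K s).2.1 + (slUEquiv K t).2.1,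
      (slUEquiv K s).2.2 + (slUEquiv K t).2.2 + (slUEquiv K s).1 * (slUEquiv K t).2.1) := by
  have hs := SLFusion.mem_slU.1 s.2
  have ht := SLFusion.mem_slU.1 t.2
  show ((s.1.1 * t.1.1) 0 1, (s.1.1 * t.1.1) 1 2, (s.1.1 * t.1.1) 0 2) = _
  simp [slUEquiv, Matrix.mul_apply, Fin.sum_univ_three, hs 0 0 le_rfl, hs 1 1 le_rfl, hs 1 0 (by decide),
    ht 1 1 le_rfl, ht 2 2 le_rfl, ht 2 1 (by decide)]
  exact ⟨add_comm _ _, add_comm _ _, by ring⟩

/-- Let p be a prime, K a finite field of characteristic p, and S a finite p-group isomorphic to a Sylow p-subgroup of SL₃(K). Then every exotic fusion system F over S (saturated but not the fusion system of a finite group on a Sylow p-subgroup) has no nontrivial normal subgroup: O_p(F) = 1. -/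
theorem result {Ω : Type*} [Group Ω] {S : Subgroup Ω} [Finite S] (p : ℕ) [Fact p.Prime] (hS : IsPGroup p S) (F : Cfsg.FusionSystem S) (hF : F.IsSaturated p) {K : Type*} [Field K] [Fintype K] [CharP K p] (T : Sylow p (Matrix.SpecialLinearGroup (Fin 3) K)) (e : ↥S ≃* ↥(T : Subgroup (Matrix.SpecialLinearGroup (Fin 3) K))) (hex : F.IsExotic p) : F.core = ⊥ := by
  obtain ⟨hsat, hnr⟩ := hex
  by_contra hne
  obtain ⟨Q, hQ, hQne⟩ : ∃ Q, F.IsNormal Q ∧ Q ≠ ⊥ := by
    by_contra h
    push Not at h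
    exact hne (eq_bot_iff.2 (sSup_le fun Q hQ => (h Q hQ).le))
  let e' : ↥S ≃* ↥(SLFusion.slU 3 K) := e.trans (Sylow.equiv T (SLFusion.slSylow 3 K p))
  let H : FusionHeis.Coord S K :=
    { e := e'.toEquiv.trans (slUEquiv K)
      mul := fun s t => by
        simp only [Equiv.trans_apply, MulEquiv.toEquiv_eq_coe, EquivLike.coe_coe, map_mul]
        exact slUEquiv_mul _ _ }
  obtain ⟨N, hN, hNc⟩ := H.exists_normal_centric hS hF hQ hQne
  have h : Fusion.NC F p N := ⟨inferInstance, inferInstance, hS, hF, hN, hNc⟩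
  obtain ⟨hfin, hreal, hsyl, -⟩ := h.isModel_emb
  exact hnr ⟨h.Mdl, inferInstance, hfin, h.emb, hreal, hsyl⟩

end Cfsg.Agent.S5259
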