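import Cfsg.Statements.S5264
import Cfsg.Agent.Lib.OrderFive.Final

set_option autoImplicit false
open Cfsg

namespace Cfsg.Agent.S5264

/-- Let p be an odd prime other than 7, S a finite p-group of order p^5, and F a saturated fusion system over S with no nontrivial normal subgroup and with hyperfocal subgroup equal to S (so F is its own p-residual subsystem). Then S has an abelian subgroup of index p. -/
theorem result {Ω : Type*} [Group Ω] {S : Subgroup Ω} [Finite S] (p : ℕ) [Fact p.Prime] (hS : IsPGroup p ↥S) (F : Cfsg.FusionSystem S) (hF : F.IsSaturated p) (hp : p ≠ 2) (hp7 : p ≠ 7) (hcard : Nat.card S = p ^ 5) (hcore : F.core = ⊥) (hhyp : F.hyperfocalSubgroup p = S) : ∃ A : Subgroup Ω, A ≤ S ∧ IsMulCommutative ↥A ∧ (A.subgroupOf S).index = p := by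
  by_contra hne
  have h5 : Cfsg.Agent.OrderFive.Five p F := by
    refine ⟨hS, hF, hp, hcard, fun A hA => ?_⟩
    by_contra h
    push Not at h
    refine hne ⟨A.map S.subtype, Subgroup.map_subtype_le A, ?_, ?_⟩
    · refine ⟨⟨fun a b => Subtype.ext ?_⟩⟩
      obtain ⟨u, hu, hua⟩ := a.2
      obtain ⟨v, hv, hvb⟩ := b.2
      show (a : Ω) * (b : Ω) = (b : Ω) * (a : Ω)
      rw [← hua, ← hvb, ← map_mul, h u hu v hv, map_mul]
    · rw [Subgroup.subgroupOf, Subgroup.comap_map_eq_self_of_injective S.subtype_injective, hA]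
  exact Cfsg.Agent.OrderFive.false_of_good h5 (Cfsg.Agent.OrderFive.exists_good h5 hp7 hcore) hhyp

end Cfsg.Agent.S5264
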