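import Cfsg.Statements.S5269
import Cfsg.Agent.Lib.UniserialSE.MaxClassEss

set_option autoImplicit false
open Cfsg
open scoped commutatorElement

namespace Cfsg.Agent.S5269

/-- Let p ≥ 5 be a prime, S a finite p-group of maximal class of order p^n with n ≥ 4, F a saturated fusion system over S, and E an F-essential subgroup that is normal in S. Then E has index p in S; moreover E is the two-step centralizer Γ₁ = C_S([S,S]/γ₄(S)) or E = C_S(Z₂(S)), unless S has order p^4 and E is extraspecial of order p³ and exponent p. -/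
theorem result {Ω : Type*} [Group Ω] {S : Subgroup Ω} [Finite S] (p : ℕ) [Fact p.Prime] (hS : IsPGroup p ↥S) (n : ℕ) (hn : Nat.card S = p ^ n) (h4 : 4 ≤ n) (hmax : Subgroup.lowerCentralSeries S (n - 2) ≠ ⊥) (F : Cfsg.FusionSystem S) (hF : F.IsSaturated p) (hp : 5 ≤ p) (Γ₁ : Subgroup Ω) (hΓ₁ : ∀ x : Ω, x ∈ Γ₁ ↔ x ∈ S ∧ ∀ y ∈ Subgroup.lowerCentralSeries S 1, x * y * x⁻¹ * y⁻¹ ∈ Subgroup.lowerCentralSeries S 3) (E : Subgroup Ω) (hE : F.IsEssential p E) (hEn : (E.subgroupOf S).Normal) : (E.subgroupOf S).index = p ∧ (E = Γ₁ ∨ E = (S ⊓ Subgroup.centralizer (((Subgroup.upperCentralSeries ↥S 2).map S.subtype) : Set Ω)) ∨ (n = 4 ∧ Nat.card ↥E = p ^ 3 ∧ Cfsg.IsExtraspecial p ↥E ∧ Monoid.exponent ↥E = p)) := by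
  have c : MaxClassPower.Mc S p n := MaxClassPower.Mc.of_not_top hn (by omega) (MaxClass.not_top_of_lowerCentralSeries hmax)
  have hES : E ≤ S := hE.1.1
  have hlt : E < S := Resist.lt_of_essential hS hF hE
  haveI := hEn
  obtain ⟨r, hr⟩ := hS.index (E.subgroupOf S)
  have hr1 : r = 1 := by
    by_contra hne
    rcases Nat.eq_zero_or_pos r with h0 | h0
    · rw [h0, pow_zero] at hr
      exact hlt.not_ge (Subgroup.subgroupOf_eq_top.1 (Subgroup.index_eq_one.1 hr))
    · exact UniserialSE.false_of_lower hp hS hF c h4 hE hEn (k := r - 1) (by omega)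
        (PGroup.normal_eq_lcs c.three_le c.card c.cls (by omega) hr)
  have hidx : (E.subgroupOf S).index = p := by rw [hr, hr1, pow_one]
  refine ⟨hidx, ?_⟩
  have hEmap : (E.subgroupOf S).map S.subtype = E := Subgroup.map_subgroupOf_eq_of_le hES
  have hlcs : ∀ i, Subgroup.lowerCentralSeries S i = (PearlRank.L S i).map S.subtype :=
    fun i => (Subgroup.top_subtype_lowerCentralSeries S i).symm
  have hcomm : ∀ g u : S, ((⁅g, u⁆ : S) : Ω) = g * u * (g : Ω)⁻¹ * (u : Ω)⁻¹ := fun g u => rfl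
  rcases UniserialSE.cases_of_index hp hS hF c h4 hE hEn hidx with h | h | h
  · left
    rw [← hEmap, h]
    ext x
    rw [hΓ₁]
    constructor
    · rintro ⟨g, hg, rfl⟩
      refine ⟨g.2, fun y hy => ?_⟩
      rw [hlcs] at hy ⊢
      obtain ⟨u, hu, rfl⟩ := hy
      exact ⟨⁅g, u⁆, MaxClassPower.mem_twoStep.1 hg u hu, rfl⟩
    · rintro ⟨hx, hxy⟩
      refine ⟨⟨x, hx⟩, MaxClassPower.mem_twoStep.2 fun u hu => ?_, rfl⟩
      have h1 := hxy u (by rw [hlcs]; exact Subgroup.mem_map_of_mem _ hu)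
      rw [hlcs] at h1
      obtain ⟨w, hw, hwe⟩ := h1
      rwa [show ⁅(⟨x, hx⟩ : S), u⁆ = w from Subtype.ext hwe.symm]
  · right; left
    have hZ : Subgroup.upperCentralSeries S 2 = PearlRank.L S (n - 3) := by
      refine (PGroup.eq_of_le_of_card_le (fun u hu => ?_) ?_).symm
      · rw [Subgroup.mem_upperCentralSeries_succ_iff]
        intro y
        rw [Subgroup.mem_upperCentralSeries_succ_iff]
        intro z
        have h2 : ⁅u, y⁆ ∈ PearlRank.L S (n - 2) :=
          MaxClassPower.comm_L_mem (j := 0) (by omega) hu (MaxClassPower.mem_L_zero y)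
        have h3 := c.commute_of_mem h2 z
        rw [Subgroup.upperCentralSeries_zero, Subgroup.mem_bot, commutatorElement_eq_one_iff_mul_comm]
        exact h3.symm.eq
      · rw [MaxClass.card_upperCentralSeries hS hn (by omega) (MaxClass.not_top_of_lowerCentralSeries hmax)
          (by omega), c.card_L (by omega), show n - 1 - (n - 3) = 2 by omega]
    rw [← hEmap, h, hZ]
    ext x
    constructor
    · rintro ⟨g, hg, rfl⟩
      refine ⟨g.2, Subgroup.mem_centralizer_iff.2 ?_⟩
      rintro _ ⟨u, hu, rfl⟩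
      have h1 := MaxClassPower.mem_twoStep.1 hg u hu
      rw [c.L_bot (by omega), Subgroup.mem_bot, commutatorElement_eq_one_iff_mul_comm] at h1
      exact (congrArg Subtype.val h1).symm
    · rintro ⟨hx, hxc⟩
      refine ⟨⟨x, hx⟩, MaxClassPower.mem_twoStep.2 fun u hu => ?_, rfl⟩
      rw [c.L_bot (by omega), Subgroup.mem_bot, commutatorElement_eq_one_iff_mul_comm]
      exact Subtype.ext (Subgroup.mem_centralizer_iff.1 hxc u (Subgroup.mem_map_of_mem _ hu)).symm
  · exact Or.inr (Or.inr h)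

end Cfsg.Agent.S5269
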