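import Cfsg.Statements.S5270
import Cfsg.Agent.Lib.MaxClass.Basic
import Cfsg.Agent.Lib.FusionChain.StronglyClosed

set_option autoImplicit false
open Cfsg
open scoped commutatorElement

namespace Cfsg.Agent.S5270

section
open Cfsg.FusionSystem Cfsg.Agent.Fusion Cfsg.Agent.FusionChain
open scoped commutatorElement

/-- A Sylow subgroup of order `p` that is not normal gives a strongly `p`-embedded subgroup. -/
theorem isStronglyPEmbedded_normalizer {X : Type*} [Group X] {p : ℕ} [Fact p.Prime] (P : Sylow p X)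
    (hcard : Nat.card P = p) (hn : ¬ (P : Subgroup X).Normal) :
    Cfsg.IsStronglyPEmbedded p (Subgroup.normalizer ((P : Subgroup X) : Set X)) := by
  have : Finite P := Nat.finite_of_card_ne_zero (by rw [hcard]; exact (Fact.out : p.Prime).ne_zero)
  refine ⟨?_, fun h => hn (Subgroup.normalizer_eq_top_iff.mp h), P, iSup_le fun Q => ?_⟩
  · exact hcard ▸ Subgroup.card_subgroup_dvd_card (P : Subgroup X)
  · have hQ : (Q : Subgroup X) ≠ ⊥ := by
      intro h
      refine Q.2.2 fun A _ _ => ?_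
      simp only [Nat.sub_self, pow_zero]
      have : Subsingleton ↥(Q : Subgroup X) := by rw [h]; infer_instance
      exact Finite.card_le_one_iff_subsingleton.mpr inferInstance
    have hQP : (Q : Subgroup X) = (P : Subgroup X) := by
      refine Subgroup.eq_of_le_of_card_ge Q.2.1 ?_
      have h1 : Nat.card (Q : Subgroup X) ∣ p := (Subgroup.card_dvd_of_le Q.2.1).trans hcard.dvd
      rcases (Nat.dvd_prime Fact.out).mp h1 with h | h
      · exact absurd (Subgroup.eq_bot_of_card_eq _ h) hQ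
      · rw [h]; exact hcard.le
    rw [hQP]

variable {Ω : Type*} [Group Ω] {S : Subgroup Ω} [Finite S] {p : ℕ} [Fact p.Prime]

/-- A centric fully normalized `M`, normal of index `p` in `S`, whose automizer does not normalize `Aut_S(M)`,
is essential. -/
theorem isEssential_of_index_prime (hS : IsPGroup p S) {F : Cfsg.FusionSystem S} (hF : F.IsSaturated p)
    {M : Subgroup Ω} (hc : F.IsCentric M) (hfn : F.IsFullyNormalized M) (hM : normalizerIn S M = S)
    (hidx : (M.subgroupOf S).index = p)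
    (hnn : ∃ γ ∈ F.autGroup M, ∃ a ∈ autInducedBy S M, γ * a * γ⁻¹ ∉ autInducedBy S M) :
    F.IsEssential p M := by
  have hMS := hc.1
  set A := F.autGroup M
  have := finite_mulAut hMS
  have hInn : (Cfsg.Inn M).subgroupOf A = (Cfsg.Inn M).subgroupOf A := rfl
  let N := (Cfsg.Inn M).subgroupOf A
  have hN : N.Normal := ⟨fun x hx g => (Cfsg.innNormal M).conj_mem x hx g⟩
  refine ⟨hc, hfn, hN, ?_⟩
  obtain ⟨-, R, hR⟩ := fullyAutomized_of_fullyNormalized hS hF hfn
  have hNR : N ≤ (R : Subgroup A) := by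
    rw [hR]
    exact fun x hx => inn_le_autInducedBy hMS hx
  let π := QuotientGroup.mk' N
  have hπ : Function.Surjective π := QuotientGroup.mk'_surjective N
  let P := R.mapSurjective hπ
  -- the image of `Aut_S(M)` has order `p`
  have hcard : Nat.card P = p := by
    let q : S →* A ⧸ N := π.comp (((normConj S M).comp (Subgroup.inclusion hM.ge)).codRestrict A
      fun s => autInducedBy_le_autGroup F le_rfl hMS (range_normConj S M ▸ ⟨_, rfl⟩))
    have hrange : q.range = (P : Subgroup (A ⧸ N)) := by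
      show q.range = (R.mapSurjective hπ : Subgroup _)
      rw [Sylow.coe_mapSurjective, hR]
      ext z
      constructor
      · rintro ⟨s, rfl⟩
        exact ⟨_, (range_normConj S M ▸ ⟨_, rfl⟩ :
          normConj S M (Subgroup.inclusion hM.ge s) ∈ autInducedBy S M), rfl⟩
      · rintro ⟨a, ha, rfl⟩
        obtain ⟨g, hg⟩ := (range_normConj S M).symm ▸
          (show (a : MulAut M) ∈ autInducedBy S M from ha)
        exact ⟨⟨g, g.2.1⟩, congrArg π (Subtype.ext hg)⟩
    have hker : q.ker = M.subgroupOf S := by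
      ext s
      rw [MonoidHom.mem_ker, MonoidHom.comp_apply]
      constructor
      · intro h
        have h' := (QuotientGroup.eq_one_iff _).mp h
        exact mem_of_conj_mem_inn (centralizerIn_le_of_centric hc) s.2 hMS h' fun x => rfl
      · intro h
        refine (QuotientGroup.eq_one_iff _).mpr ?_
        exact ⟨⟨s, h⟩, MulEquiv.ext fun x => Subtype.ext rfl⟩
    show Nat.card (P : Subgroup (A ⧸ N)) = p
    rw [← hrange, ← Subgroup.index_ker, hker, hidx]
  refine ⟨_, isStronglyPEmbedded_normalizer P hcard fun hPn => ?_⟩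
  obtain ⟨γ, hγ, a, ha, hnot⟩ := hnn
  apply hnot
  have hback : (P : Subgroup (A ⧸ N)).comap π = (R : Subgroup A) := by
    show (R.mapSurjective hπ : Subgroup _).comap π = _
    rw [Sylow.coe_mapSurjective, Subgroup.comap_map_eq_self]
    rwa [QuotientGroup.ker_mk']
  have hRn : ((R : Subgroup A)).Normal := hback ▸ hPn.comap π
  have haA : a ∈ A := autInducedBy_le_autGroup F le_rfl hMS ha
  have hb := hRn.conj_mem ⟨a, haA⟩ (hR ▸ ha) ⟨γ, hγ⟩
  rw [hR] at hb
  exact hb

end

/-- Let p ≥ 5 be a prime, S a finite p-group of maximal class of order p^n with n ≥ 4, and F a saturated fusion system over S. If some map of F defined on the second centre Z₂(S) with image Z₂(S) does not carry Z(S) into itself, then the centralizer C_S(Z₂(S)) is an F-essential subgroup. -/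
theorem result {Ω : Type*} [Group Ω] {S : Subgroup Ω} [Finite S] (p : ℕ) [Fact p.Prime] (hS : IsPGroup p ↥S) (n : ℕ) (hn : Nat.card S = p ^ n) (h4 : 4 ≤ n) (hmax : Subgroup.lowerCentralSeries S (n - 2) ≠ ⊥) (F : Cfsg.FusionSystem S) (hF : F.IsSaturated p) (hp : 5 ≤ p) (φ : ↥((Subgroup.upperCentralSeries ↥S 2).map S.subtype) →* Ω) (hφ : φ ∈ F.Hom ((Subgroup.upperCentralSeries ↥S 2).map S.subtype)) (hφZ : φ.range = ((Subgroup.upperCentralSeries ↥S 2).map S.subtype)) (hmove : ∃ (z : Ω) (hz : z ∈ ((Subgroup.upperCentralSeries ↥S 2).map S.subtype)), z ∈ ((Subgroup.center ↥S).map S.subtype) ∧ φ ⟨z, hz⟩ ∉ ((Subgroup.center ↥S).map S.subtype)) : F.IsEssential p (S ⊓ Subgroup.centralizer (((Subgroup.upperCentralSeries ↥S 2).map S.subtype) : Set Ω)) := by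
  classical
  revert φ
  set Z₂ := (Subgroup.upperCentralSeries ↥S 2).map S.subtype with hZ₂
  set Z := (Subgroup.center ↥S).map S.subtype with hZ
  intro φ hφ hφZ hmove
  obtain ⟨z, hz, hzZ, hzφ⟩ := hmove
  have hnot := Cfsg.Agent.MaxClass.not_top_of_lowerCentralSeries hmax
  have hc2 := Cfsg.Agent.MaxClass.card_upperCentralSeries hS hn (by omega) hnot (i := 2) (by omega)
  have hc1 := Cfsg.Agent.MaxClass.card_upperCentralSeries hS hn (by omega) hnot (i := 1) (by omega)
  rw [Subgroup.upperCentralSeries_one, pow_one] at hc1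
  have hlt : Subgroup.center ↥S < Subgroup.upperCentralSeries ↥S 2 := by
    rw [← Subgroup.upperCentralSeries_one]
    exact Cfsg.Agent.MaxClass.upperCentralSeries_lt_succ hS fun h => hnot
      (top_le_iff.mp (h ▸ Subgroup.upperCentralSeries_mono ↥S (by omega : 1 ≤ n - 2)))
  obtain ⟨u, hu, huZ⟩ := SetLike.exists_of_lt hlt
  have hgen : Subgroup.upperCentralSeries ↥S 2 = Subgroup.center ↥S ⊔ Subgroup.zpowers u := by
    symm
    refine Subgroup.eq_of_le_of_card_ge (sup_le hlt.le (Subgroup.zpowers_le.mpr hu)) ?_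
    have h1 : Subgroup.center ↥S < Subgroup.center ↥S ⊔ Subgroup.zpowers u :=
      left_lt_sup.2 fun h => huZ (h (Subgroup.mem_zpowers u))
    have h2 := Cfsg.Agent.PGroup.mul_card_le_of_lt hS h1
    rw [hc1] at h2
    rw [hc2, pow_two]
    exact h2
  -- `C_S(Z₂)` is the kernel of `s ↦ ⁅u, s⁆`
  let θ : ↥S →* Subgroup.center ↥S :=
    MonoidHom.mk' (fun s => ⟨⁅u, s⁆, by
        rw [← Subgroup.upperCentralSeries_one]; exact Subgroup.mem_upperCentralSeries_succ_iff.mp hu s⟩)
      (fun a b => Subtype.ext (Cfsg.Agent.PGroup.commutator_mul_right (Subgroup.mem_center_iff.mp (by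
        rw [← Subgroup.upperCentralSeries_one]; exact Subgroup.mem_upperCentralSeries_succ_iff.mp hu b) a)))
  set M := S ⊓ Subgroup.centralizer (Z₂ : Set Ω) with hM
  have hMS : M ≤ S := inf_le_left
  have hMker : M.subgroupOf S = θ.ker := by
    ext s
    constructor
    · intro hs
      refine Subtype.ext (commutatorElement_eq_one_iff_mul_comm.mpr (Subtype.ext ?_))
      exact hs.2 (u : Ω) ⟨u, hu, rfl⟩
    · intro hs
      refine ⟨s.2, ?_⟩
      rintro _ ⟨w, hw, rfl⟩
      have hle : Subgroup.center ↥S ⊔ Subgroup.zpowers u ≤ Subgroup.centralizer {s} := by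
        refine sup_le (fun c hc => ?_) (Subgroup.zpowers_le.mpr ?_)
        · rw [Subgroup.mem_centralizer_singleton_iff]
          exact ((Subgroup.mem_center_iff.mp hc) s).symm
        · rw [Subgroup.mem_centralizer_singleton_iff]
          exact commutatorElement_eq_one_iff_mul_comm.mp (congrArg Subtype.val hs)
      have h1 := Subgroup.mem_centralizer_singleton_iff.mp (hle (hgen ▸ hw))
      exact congrArg Subtype.val h1
  have hZ₂S : Z₂ ≤ S := Subgroup.map_subtype_le _
  have hZ₂M : Z₂ ≤ M := by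
    rintro _ ⟨w, hw, rfl⟩
    have hle : Subgroup.center ↥S ⊔ Subgroup.zpowers u ≤ θ.ker := by
      refine sup_le (fun c hc => ?_) (Subgroup.zpowers_le.mpr ?_)
      · exact Subtype.ext (commutatorElement_eq_one_iff_mul_comm.mpr (Subgroup.mem_center_iff.mp hc u))
      · exact Subtype.ext (commutatorElement_eq_one_iff_mul_comm.mpr rfl)
    have h1 : w ∈ M.subgroupOf S := hMker.symm ▸ hle (hgen ▸ hw)
    exact h1
  -- the automorphism of `Z₂`, extended to `M`
  have hN2 : Cfsg.FusionSystem.normalizerIn S Z₂ = S := by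
    refine le_antisymm inf_le_left fun s hs => ?_
    have := Cfsg.Agent.Fusion.finite_of_le hZ₂S
    refine Cfsg.Agent.Fusion.mem_normalizerIn_of_conj hs ?_
    rintro _ ⟨w, hw, rfl⟩
    have hn2 : (Subgroup.upperCentralSeries ↥S 2).Normal := inferInstance
    exact Subgroup.mem_map.mpr ⟨(⟨s, hs⟩ : ↥S) * w * (⟨s, hs⟩ : ↥S)⁻¹, hn2.conj_mem w hw _,
      by simp only [map_mul, map_inv, Subgroup.subtype_apply]⟩
  have hfn2 : F.IsFullyNormalized Z₂ := ⟨hZ₂S, fun Q hQ => by
    rw [hN2]; exact Subgroup.card_le_of_le inf_le_left⟩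
  have hMn : ∀ s ∈ S, s ∈ Cfsg.FusionSystem.normalizerIn S M := by
    intro s hs
    have := Cfsg.Agent.Fusion.finite_of_le hMS
    refine Cfsg.Agent.Fusion.mem_normalizerIn_of_conj hs fun m hm => ?_
    have h1 : (⟨s, hs⟩ * ⟨m, hMS hm⟩ * ⟨s, hs⟩⁻¹ : ↥S) ∈ M.subgroupOf S := by
      rw [hMker]
      exact (inferInstance : θ.ker.Normal).conj_mem _ (hMker ▸ (show (⟨m, hMS hm⟩ : ↥S) ∈ M.subgroupOf S from hm)) _
    exact h1
  have hNM : Cfsg.FusionSystem.normalizerIn S M = S := le_antisymm inf_le_left hMn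
  have hmφ := Cfsg.Agent.Fusion.isMap_toFn hφ
  have hisoφ : Cfsg.Agent.Fusion.IsIso F Z₂ Z₂ (Cfsg.Agent.Fusion.toFn φ) :=
    ⟨hmφ, (Cfsg.Agent.Fusion.toFn_img φ).trans hφZ⟩
  obtain ⟨f, hf, hfφ⟩ := (Cfsg.Agent.Fusion.isReceptive_iff.1
    (Cfsg.Agent.Fusion.receptive_of_fullyNormalized hS hF hfn2)).2 Z₂ _ hisoφ
  have hMN : M ≤ Cfsg.Agent.Fusion.Nx S Z₂ (Cfsg.Agent.Fusion.toFn φ) :=
    Cfsg.Agent.Fusion.centralizerIn_le_Nx S Z₂ _
  have hfM : ∀ m ∈ M, f m ∈ M := fun m hm =>
    Cfsg.Agent.Fusion.map_centralizerIn hf (Cfsg.Agent.Fusion.le_Nx hmφ)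
      ((Cfsg.Agent.Fusion.img_congr hfφ).trans hisoφ.2) (hMN hm) hm
  have hfm := hf.mono hMN
  obtain ⟨γ, hγ, hγe⟩ := Cfsg.Agent.Fusion.exists_aut_of_isIso (⟨hfm,
    Cfsg.Agent.Fusion.eq_of_le_of_card hMS (hfm.img_le le_rfl hfM) (hfm.card_img le_rfl).ge⟩ :
      Cfsg.Agent.Fusion.IsIso F M M f)
  have hzM : z ∈ M := hZ₂M hz
  have hfz : f z = φ ⟨z, hz⟩ := (hfφ z hz).trans (Cfsg.Agent.Fusion.toFn_apply φ hz)
  have hfzM : φ ⟨z, hz⟩ ∈ M := hfz ▸ hfM z hzM
  -- the index
  have hne : θ.ker ≠ ⊤ := by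
    intro htop
    apply hzφ
    refine ⟨⟨φ ⟨z, hz⟩, hMS hfzM⟩, Subgroup.mem_center_iff.mpr fun s => ?_, rfl⟩
    have hs : s ∈ M.subgroupOf S := by rw [hMker, htop]; exact Subgroup.mem_top s
    exact Subtype.ext ((hs.2 _ (hφZ.le ⟨⟨z, hz⟩, rfl⟩)).symm)
  have hidx : (M.subgroupOf S).index = p := by
    rw [hMker, Subgroup.index_ker]
    have hd : Nat.card θ.range ∣ p := hc1 ▸ Subgroup.card_subgroup_dvd_card θ.range
    rcases (Nat.dvd_prime Fact.out).mp hd with h | h
    · exact absurd (MonoidHom.range_eq_bot_iff.mp (Subgroup.eq_bot_of_card_eq _ h))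
        fun h1 => hne (by rw [h1, MonoidHom.ker_one])
    · exact h
  have hfn : F.IsFullyNormalized M := ⟨hMS, fun Q hQ => by
    rw [hNM]; exact Subgroup.card_le_of_le inf_le_left⟩
  have hcen : F.IsCentric M := Cfsg.Agent.Fusion.centric_of_fullyCentralized
    (Cfsg.Agent.Fusion.fullyCentralized_of_fullyNormalized hS hF hfn)
    fun c hc => ⟨hc.1, fun w hw => hc.2 w (hZ₂M hw)⟩
  refine isEssential_of_index_prime hS hF hcen hfn hNM hidx ⟨γ, hγ, ?_⟩
  by_contra hcon
  push_neg at hcon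
  -- otherwise the fixed points `Z` of `Aut_S(M)` would be invariant
  apply hzφ
  have hall : ∀ s ∈ S, s * φ ⟨z, hz⟩ * s⁻¹ = φ ⟨z, hz⟩ := by
    intro s hs
    have ha : Cfsg.Agent.Fusion.normConj S M ⟨s, hMn s hs⟩ ∈ Cfsg.autInducedBy S M :=
      Cfsg.Agent.Fusion.range_normConj S M ▸ ⟨_, rfl⟩
    obtain ⟨t, ht, hte⟩ : ∃ t ∈ S, ∀ x : M,
        (((γ⁻¹ * Cfsg.Agent.Fusion.normConj S M ⟨s, hMn s hs⟩ * γ) x : M) : Ω) = t * x * t⁻¹ := by
      have hK : ∀ a ∈ Cfsg.autInducedBy S M, γ⁻¹ * a * γ ∈ Cfsg.autInducedBy S M := by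
        intro a ha
        have := Cfsg.Agent.Fusion.finite_mulAut (S := S) hMS
        let e : Cfsg.autInducedBy S M → Cfsg.autInducedBy S M := fun b => ⟨γ * b * γ⁻¹, hcon b b.2⟩
        have he : Function.Surjective e := Finite.injective_iff_surjective.mp fun b c h =>
          Subtype.ext (mul_left_cancel (mul_right_cancel (congrArg Subtype.val h)))
        obtain ⟨b, hb⟩ := he ⟨a, ha⟩
        have hb' : γ * b * γ⁻¹ = a := congrArg Subtype.val hb
        rw [← hb']
        simp [mul_assoc]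
      exact Cfsg.Agent.Fusion.mem_autInducedBy_iff.1 (hK _ ha)
    have h1 := hte ⟨z, hzM⟩
    have h2 : t * z * t⁻¹ = z := by
      obtain ⟨z', hz', rfl⟩ := hzZ
      have h9 := congrArg Subtype.val (Subgroup.mem_center_iff.mp hz' ⟨t, ht⟩)
      exact mul_inv_eq_iff_eq_mul.mpr h9
    have h2' : (γ⁻¹ * Cfsg.Agent.Fusion.normConj S M ⟨s, hMn s hs⟩ * γ) ⟨z, hzM⟩ = ⟨z, hzM⟩ :=
      Subtype.ext (h1.trans h2)
    have h3 := congrArg γ h2'
    rw [MulAut.mul_apply, MulAut.mul_apply, MulAut.apply_inv_self] at h3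
    have h4 := congrArg Subtype.val h3
    rw [Cfsg.Agent.Fusion.normConj_apply, hγe] at h4
    simpa only [hfz] using h4
  refine ⟨⟨φ ⟨z, hz⟩, hMS hfzM⟩, Subgroup.mem_center_iff.mpr fun s => ?_, rfl⟩
  exact Subtype.ext (mul_inv_eq_iff_eq_mul.mp (hall s s.2))

end Cfsg.Agent.S5270
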