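import Cfsg.Statements.S5271
import Cfsg.Agent.Lib.FusionInner.Criterion
-- import your own Cfsg.Agent.* helpers here

set_option autoImplicit false
open Cfsg

namespace Cfsg.Agent.S5271

open Cfsg.FusionSystem Cfsg.Agent.Fusion Cfsg.Agent.FusionChain Cfsg.Agent.FusionSparse Cfsg.Agent.FusionInner

variable {Ω : Type*} [Group Ω] {S : Subgroup Ω} {F : Cfsg.FusionSystem S} {p : ℕ}

/-- Inner normalizer systems of the subgroups of one order kill the automorphisms of order prime to `p`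
stabilising such a subgroup. -/
theorem eq_one_of_stab [Finite S] [Fact p.Prime] (hS : IsPGroup p S) (hF : F.IsSaturated p) {d : ℕ}
    (hN : ∀ H : Subgroup Ω, F.IsFullyNormalized H → Nat.card H = d →
      ∀ N : Cfsg.FusionSystem (normalizerIn S H), F.IsNormalizerSystem H N →
        ∀ P : Subgroup Ω, N.Hom P = (Cfsg.innerFusionSystem (normalizerIn S H)).Hom P)
    (R Q : Subgroup Ω) (hQR : Q ≤ R) (hR : R ≤ S) (hQ : Nat.card Q = d) (α : MulAut R)
    (hα : α ∈ F.autGroup R) (hst : ∀ x ∈ Q, autFn α x ∈ Q) (hc : (orderOf α).Coprime p) : α = 1 := by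
  haveI := finite_of_le (hQR.trans hR)
  obtain ⟨H, φ, hH, hφ, himg, hφN⟩ := exists_fullyNormalized_map hS hF (hQR.trans hR)
  have hm := (isIso_autFn hR hα).1
  -- the part of `R` normalizing `Q`
  have hinv : ∀ x ∈ R ⊓ normalizerIn S Q, autFn α x ∈ R ⊓ normalizerIn S Q := by
    intro x hx
    refine ⟨autFn_mem α hx.1, mem_normalizerIn_of_conj (hR (autFn_mem α hx.1)) fun y hy => ?_⟩
    have himgQ : img (autFn α) Q = Q := eq_of_le_of_card (hQR.trans hR) ((hm.mono hQR).img_le le_rfl hst)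
      (hm.card_img hQR).ge
    obtain ⟨z, hz, rfl⟩ := (hm.mem_img_iff hQR).1 (himgQ.symm ▸ hy : y ∈ img (autFn α) Q)
    rw [← hm.map_conj hx.1 (hQR hz)]
    exact hst _ (normalizerIn_conj hx.2 hz)
  have hQR1 : Q ≤ R ⊓ normalizerIn S Q := le_inf hQR (le_normalizerIn (hQR.trans hR))
  obtain ⟨β, hβ, eβ, hdiv⟩ := exists_restrict hR inf_le_left hα hinv
  have hφ' := hφ.mono (inf_le_right : R ⊓ normalizerIn S Q ≤ normalizerIn S Q)
  have hM : img φ (R ⊓ normalizerIn S Q) ≤ normalizerIn S H :=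
    hφ'.img_le le_rfl fun x hx => hφN x hx.2
  have hHM : H ≤ img φ (R ⊓ normalizerIn S Q) := himg ▸ hφ'.img_le hQR1 fun x hx => hφ'.mem_img (hQR1 hx)
  let e := hφ'.isIso.equiv
  have hγ : MulAut.congr e β ∈ F.autGroup (img φ (R ⊓ normalizerIn S Q)) :=
    congr_mem_autGroup hφ'.isIso hβ
  obtain ⟨N, hNs⟩ := FusionStable.exists_normalizerSystem (F := F) hH.1
  have hγiso := isIso_autFn (hM.trans inf_le_left) hγ
  have hγN : IsMap N (img φ (R ⊓ normalizerIn S Q)) (autFn (MulAut.congr e β)) := by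
    refine (FusionStable.isMap_normalizer_iff hNs hH.1).2
      ⟨by rwa [NK_top], fun x hx => by rw [NK_top]; exact hM (hγiso.mem hx),
        autFn (MulAut.congr e β), ?_, fun _ _ => rfl, ?_⟩
    · rw [sup_eq_left.2 hHM]
      exact hγiso.1
    · have hH' : ∀ y ∈ H, autFn (MulAut.congr e β) y ∈ H := by
        intro y hy
        obtain ⟨z, hz, rfl⟩ := (hφ.mem_img_iff (le_normalizerIn (hQR.trans hR))).1
          (himg.symm ▸ hy : y ∈ img φ Q)
        have hz1 : z ∈ R ⊓ normalizerIn S Q := hQR1 hz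
        have hk := congr_apply_coe hφ'.isIso β ⟨z, hz1⟩
        rw [autFn_apply _ (hφ'.mem_img hz1)]
        have he : (⟨φ z, hφ'.mem_img hz1⟩ : img φ (R ⊓ normalizerIn S Q)) = e ⟨z, hz1⟩ := rfl
        rw [he, hk]
        rw [← himg]
        refine (hφ.mem_img_iff (le_normalizerIn (hQR.trans hR))).2 ⟨_, ?_, rfl⟩
        rw [← autFn_apply β hz1, eβ z hz1]
        exact hst z hz
      have hmH := hγiso.1.mono hHM
      obtain ⟨δ, -, eδ⟩ := exists_aut_of_isIso (F := F) (⟨hmH, eq_of_le_of_card hH.1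
        (hmH.img_le le_rfl hH') (hmH.card_img le_rfl).ge⟩ : IsIso F H H (autFn (MulAut.congr e β)))
      exact ⟨δ, Subgroup.mem_top _, eδ⟩
  have hcard : Nat.card H = d := by rw [← himg, hφ.card_img (le_normalizerIn (hQR.trans hR)), hQ]
  obtain ⟨s, hs, es⟩ := (hom_eq_inner_iff _).1 (hN H hH hcard N hNs _) _ hγN
  have hind : MulAut.congr e β ∈ autInducedBy S (img φ (R ⊓ normalizerIn S Q)) :=
    mem_autInducedBy_iff.2 ⟨s, hs.1, fun x => (autFn_apply _ x.2).symm.trans (es x x.2)⟩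
  have hβ1 : β = 1 := by
    haveI := finite_of_le (hM.trans inf_le_left)
    obtain ⟨k, hk⟩ := isPGroup_autInducedBy hS ⟨_, hind⟩
    have hk' : (MulAut.congr e β) ^ p ^ k = 1 := congrArg Subtype.val hk
    rw [← map_pow, map_eq_one_iff _ (MulAut.congr e).injective] at hk'
    exact orderOf_eq_one_iff.1 (Nat.eq_one_of_dvd_coprimes ((hc.of_dvd_left hdiv).pow_right k) dvd_rfl
      (orderOf_dvd_of_pow_eq_one hk'))
  have hfix : ∀ x ∈ R ⊓ normalizerIn S Q, autFn α x = x := fun x hx => by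
    rw [← eβ x hx, hβ1, autFn_one hx]
  refine eq_one_of_fix_centralizer hS hR hQR hc (fun x hx => hfix x (hQR1 hx)) fun x hx hxc => ?_
  refine hfix x ⟨hx, mem_normalizerIn_of_conj (hR hx) fun y hy => ?_⟩
  rw [hxc y hy]
  simpa using hy

theorem stronglyClosed_inner_of_conj {P : Subgroup Ω} (hP : P ≤ S)
    (hF : ∀ P : Subgroup Ω, F.Hom P = (Cfsg.innerFusionSystem S).Hom P)
    (h : ∀ s ∈ S, ∀ x ∈ P, s * x * s⁻¹ ∈ P) : F.StronglyClosed P := by
  refine stronglyClosed_iff.2 ⟨hP, fun R f hf x hx hxP => ?_⟩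
  obtain ⟨s, hs, e⟩ := (hom_eq_inner_iff R).1 (hF R) f hf
  rw [e x hx]
  exact h s hs x hxP

/-- In a finite `p`-group every subgroup of order `p` is weakly embedded. -/
theorem exists_embedding [Finite S] [Fact p.Prime] (hS : IsPGroup p S) (hcard : p ^ 2 ≤ Nat.card S)
    (hF : ∀ P : Subgroup Ω, F.Hom P = (Cfsg.innerFusionSystem S).Hom P) {Q : Subgroup Ω} (hQS : Q ≤ S)
    (hQ : Nat.card Q = p) :
    ∃ P, F.StronglyClosed P ∧ F.StronglyClosed (Q ⊔ P) ∧ F.StronglyClosed (Q ⊓ P) := by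
  classical
  have hp : p.Prime := Fact.out
  haveI := finite_of_le hQS
  by_cases hQn : ∀ s ∈ S, ∀ x ∈ Q, s * x * s⁻¹ ∈ Q
  · have hQc := stronglyClosed_inner_of_conj hQS hF hQn
    exact ⟨⊥, stronglyClosed_bot, by rwa [sup_bot_eq], by rw [inf_bot_eq]; exact stronglyClosed_bot⟩
  -- a normal subgroup maximal without `Q`
  let T : Set (Subgroup S) := {K | K.Normal ∧ ¬ Q.subgroupOf S ≤ K}
  have hT : T.Nonempty := ⟨⊥, inferInstance, fun h => by
    have hc1 := Subgroup.card_le_of_le h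
    rw [Nat.card_congr (Subgroup.subgroupOfEquivOfLe hQS).toEquiv, hQ, Subgroup.card_bot] at hc1
    exact absurd hc1 (not_le.2 hp.one_lt)⟩
  obtain ⟨K, hK, hmax⟩ := Set.exists_max_image T (fun K => Nat.card K) (Set.toFinite T) hT
  haveI := hK.1
  have hKne : K ≠ ⊤ := fun h => hK.2 (h ▸ le_top)
  -- the preimage of the centre of the quotient contains `Q`
  let Z : Subgroup S := (Subgroup.center (S ⧸ K)).comap (QuotientGroup.mk' K)
  have hKZ : K < Z := by
    haveI : Nontrivial (S ⧸ K) := by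
      rw [← Finite.one_lt_card_iff_nontrivial, ← Subgroup.index_eq_card]
      exact Subgroup.one_lt_index_of_ne_top hKne
    haveI := (hS.to_quotient K).center_nontrivial
    obtain ⟨z, hz⟩ := exists_ne (1 : Subgroup.center (S ⧸ K))
    obtain ⟨w, hw⟩ := QuotientGroup.mk'_surjective K z
    refine lt_of_le_of_ne (fun y hy => ?_) fun he => hz ?_
    · show (QuotientGroup.mk y : S ⧸ K) ∈ Subgroup.center (S ⧸ K)
      rw [(QuotientGroup.eq_one_iff y).2 hy]
      exact Subgroup.one_mem _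
    · have hwK : w ∈ K := he ▸ (show QuotientGroup.mk' K w ∈ Subgroup.center (S ⧸ K) from hw.symm ▸ z.2)
      exact Subtype.ext (hw.symm.trans ((QuotientGroup.eq_one_iff w).2 hwK))
  have hQZ : Q.subgroupOf S ≤ Z := by
    by_contra hn
    have hZT : Z ∈ T := ⟨inferInstance, hn⟩
    exact absurd (hmax Z hZT) (not_le.2 (lt_of_le_of_ne (Subgroup.card_le_of_le hKZ.le)
      fun he => hKZ.ne (Subgroup.eq_of_le_of_card_ge hKZ.le he.ge)))
  let P : Subgroup Ω := K.map S.subtype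
  have hPS : P ≤ S := Subgroup.map_subtype_le K
  have hPn : ∀ s ∈ S, ∀ x ∈ P, s * x * s⁻¹ ∈ P := by
    rintro s hs _ ⟨y, hy, rfl⟩
    exact ⟨⟨s, hs⟩ * y * ⟨s, hs⟩⁻¹, hK.1.conj_mem y hy ⟨s, hs⟩, rfl⟩
  have hsup : ∀ s ∈ S, ∀ x ∈ Q ⊔ P, s * x * s⁻¹ ∈ Q ⊔ P := by
    intro s hs x hx
    have hle : Q ⊔ P ≤ (Q ⊔ P).comap (MulAut.conj s).toMonoidHom := sup_le (fun q hq => by
      have hc1 : QuotientGroup.mk' K (⟨s, hs⟩ * ⟨q, hQS hq⟩ * ⟨s, hs⟩⁻¹) =
          QuotientGroup.mk' K ⟨q, hQS hq⟩ := by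
        have := Subgroup.mem_center_iff.1
          (hQZ (show (⟨q, hQS hq⟩ : S) ∈ Q.subgroupOf S from hq)) (QuotientGroup.mk' K ⟨s, hs⟩)
        rw [map_mul, map_mul, this, map_inv, mul_inv_cancel_right]
      have hc2 := (QuotientGroup.eq.1 hc1.symm)
      have hc3 : q⁻¹ * (s * q * s⁻¹) ∈ P := ⟨_, hc2, rfl⟩
      show s * q * s⁻¹ ∈ Q ⊔ P
      simpa using Subgroup.mul_mem _ (Subgroup.mem_sup_left hq) (Subgroup.mem_sup_right (S := Q) hc3))
      fun y hy => Subgroup.mem_sup_right (hPn s hs y hy)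
    exact hle hx
  have hinf : Q ⊓ P = ⊥ := by
    rw [← Subgroup.card_eq_one]
    have hd := Subgroup.card_dvd_of_le (inf_le_left : Q ⊓ P ≤ Q)
    rw [hQ, Nat.dvd_prime hp] at hd
    refine hd.resolve_right fun h1 => hK.2 fun y hy => ?_
    have he : Q ⊓ P = Q := eq_of_le_of_card hQS inf_le_left (by rw [h1, hQ])
    obtain ⟨z, hz, e⟩ := (he.symm ▸ hy : (y : Ω) ∈ Q ⊓ P).2
    exact (Subtype.ext e : z = y) ▸ hz
  exact ⟨P, stronglyClosed_inner_of_conj hPS hF hPn,
    stronglyClosed_inner_of_conj (sup_le hQS hPS) hF hsup, hinf ▸ stronglyClosed_bot⟩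

/-- A nilpotency criterion for fusion systems. Let F be a saturated fusion system over a finite p-group S of order at least p². Call a subgroup Q of S weakly embedded in F when there is a subgroup P of S strongly closed in F such that both the product QP and the intersection Q ∩ P are strongly closed in F. Then F is the inner fusion system of S if and only if there is a subgroup D of S with 1 < D < S such that every subgroup of S of the same order as D is weakly embedded in F and, for every fully normalized subgroup H of S of that order, the normalizer fusion system of H in F is the inner fusion system of N_S(H). -/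
theorem result {Ω : Type*} [Group Ω] {S : Subgroup Ω} [Finite S] (p : ℕ) [Fact p.Prime] (hS : IsPGroup p ↥S) (F : Cfsg.FusionSystem S) (hF : F.IsSaturated p) (hcard : p ^ 2 ≤ Nat.card S) : (∀ P : Subgroup Ω, F.Hom P = (Cfsg.innerFusionSystem S).Hom P) ↔ ∃ D : Subgroup Ω, ⊥ < D ∧ D < S ∧ (∀ Q : Subgroup Ω, Q ≤ S → Nat.card ↥Q = Nat.card ↥D → ∃ P : Subgroup Ω, F.StronglyClosed P ∧ F.StronglyClosed (Q ⊔ P) ∧ F.StronglyClosed (Q ⊓ P)) ∧ (∀ H : Subgroup Ω, F.IsFullyNormalized H → Nat.card ↥H = Nat.card ↥D → ∀ N : Cfsg.FusionSystem (Cfsg.FusionSystem.normalizerIn S H), F.IsNormalizerSystem H N → ∀ P : Subgroup Ω, N.Hom P = (Cfsg.innerFusionSystem (Cfsg.FusionSystem.normalizerIn S H)).Hom P) := by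
  constructor
  · intro hin
    have hp : p.Prime := Fact.out
    obtain ⟨n, hn⟩ := IsPGroup.iff_card.1 hS
    obtain ⟨D, -, hDS, hD⟩ := exists_between hS (bot_le : (⊥ : Subgroup Ω) ≤ S) le_rfl (m := 1)
      (by rw [Subgroup.card_bot, pow_one]; exact hp.pos)
      (le_trans (by rw [pow_one]; exact Nat.le_self_pow two_ne_zero p) hcard)
    rw [pow_one] at hD
    haveI := finite_of_le hDS
    refine ⟨D, bot_lt_iff_ne_bot.2 fun h => hp.ne_one (by rw [← hD, h, Subgroup.card_bot]),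
      lt_of_le_of_ne hDS fun h => ?_, fun Q hQ hc => exists_embedding hS hcard hin hQ (hc.trans hD), ?_⟩
    · rw [h] at hD
      rw [hD] at hcard
      exact absurd hcard (not_le.2 (lt_of_eq_of_lt (pow_one p).symm (Nat.pow_lt_pow_right hp.one_lt one_lt_two)))
    intro H hH _ N hN P
    refine (hom_eq_inner_iff P).2 fun f hf => ?_
    obtain ⟨hP, -, g, hg, hgf, hgH⟩ := (FusionStable.isMap_normalizer_iff hN hH.1).1 hf
    obtain ⟨s, hs, e⟩ := (hom_eq_inner_iff _).1 (hin _) g hg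
    haveI := finite_of_le hH.1
    refine ⟨s, mem_normalizerIn_of_conj hs fun x hx => ?_, fun x hx => ?_⟩
    · rw [← e x (Subgroup.mem_sup_right hx)]
      exact hgH.mem hx
    · rw [← hgf x hx, e x (Subgroup.mem_sup_left hx)]
  · rintro ⟨D, hD1, hDS, hemb, hN⟩ P
    haveI := finite_of_le hDS.le
    obtain ⟨m, hm⟩ := IsPGroup.iff_card.1 (hS.to_le hDS.le)
    have hh : FusionInner.Hyp F p (Nat.card D) := by
      refine ⟨⟨m, hm⟩, (Subgroup.one_lt_card_iff_ne_bot D).2 hD1.ne', ?_, eq_one_of_stab hS hF hN, hemb⟩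
      exact lt_of_le_of_ne (Subgroup.card_le_of_le hDS.le)
        fun h => hDS.ne (eq_of_le_of_card le_rfl hDS.le h.ge)
    exact (hom_eq_inner_iff P).2 fun f hf => exists_conj_of_noPPrime hS hF (hh.noPPrime hS hF) hf

end Cfsg.Agent.S5271
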