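import Cfsg.Statements.S5274
import Cfsg.Agent.Lib.Fusion.Normal
import Cfsg.Agent.Lib.FusionChain.Alperin
import Cfsg.Agent.Lib.FusionChain.Puig
-- import your own Cfsg.Agent.* helpers here

set_option autoImplicit false
open Cfsg

namespace Cfsg.Agent.S5274

open Cfsg.FusionSystem Cfsg.Agent.Fusion Cfsg.Agent.FusionChain

variable {Ω : Type*} [Group Ω] {S : Subgroup Ω} {F : Cfsg.FusionSystem S}

/-- A subgroup conjugate to a central one has no nontrivial automorphisms induced by `S`. -/
theorem commute_of_conj_central [Finite S] (hS : IsPGroup 2 S) (hF : F.IsSaturated 2) {U V : Subgroup Ω}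
    {g : Ω → Ω} (hg : IsIso F U V g) (hV : ∀ v ∈ V, ∀ s ∈ S, s * v = v * s) {x : Ω}
    (hx : x ∈ normalizerIn S U) {u : Ω} (hu : u ∈ U) : x * u = u * x := by
  have := finite_of_le hg.le_left
  have := finite_of_le hg.le_right
  have := finite_mulAut hg.le_right
  have hfn : F.IsFullyNormalized V := by
    refine ⟨hg.le_right, fun Q _ => ?_⟩
    have := finite_of_le (inf_le_left : normalizerIn S V ≤ S)
    haveI : Finite (normalizerIn S V) := this
    refine Subgroup.card_le_of_le fun s hs => mem_normalizerIn_of_conj hs.1 fun v hv => ?_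
    rw [hV v hv s hs.1, mul_inv_cancel_right]
    exact hv
  obtain ⟨-, T, hT⟩ := fullyAutomized_of_fullyNormalized hS hF hfn
  have hbot : (T : Subgroup (F.autGroup V)) = ⊥ := by
    rw [hT, Subgroup.eq_bot_iff_forall]
    intro a ha
    obtain ⟨s, hs, es⟩ := mem_autInducedBy_iff.1 (Subgroup.mem_subgroupOf.1 ha)
    refine Subtype.ext (MulEquiv.ext fun v => Subtype.ext ?_)
    rw [es v, hV v v.2 s hs, mul_inv_cancel_right]
    rfl
  let γ : MulAut U := normConj S U ⟨x, hx⟩
  have hγS : γ ∈ autInducedBy S U := range_normConj S U ▸ ⟨_, rfl⟩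
  have hγ : MulAut.congr hg.equiv γ ∈ F.autGroup V :=
    congr_mem_autGroup hg (autInducedBy_le_autGroup F le_rfl hg.le_left hγS)
  have hpow : ∃ k, (⟨_, hγ⟩ : F.autGroup V) ^ 2 ^ k = 1 := by
    obtain ⟨k, hk⟩ := isPGroup_autInducedBy hS ⟨γ, hγS⟩
    refine ⟨k, Subtype.ext ?_⟩
    rw [SubgroupClass.coe_pow, ← map_pow, show γ ^ 2 ^ k = 1 from congrArg Subtype.val hk, map_one]
    rfl
  have hone : (⟨_, hγ⟩ : F.autGroup V) = 1 := by
    have hpg : IsPGroup 2 (Subgroup.zpowers (⟨_, hγ⟩ : F.autGroup V)) := by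
      rintro ⟨a, ha⟩
      obtain ⟨i, rfl⟩ := Subgroup.mem_zpowers_iff.1 ha
      obtain ⟨k, hk⟩ := hpow
      exact ⟨k, Subtype.ext (by
        rw [SubgroupClass.coe_pow, ← zpow_natCast, ← zpow_mul, mul_comm, zpow_mul, zpow_natCast, hk,
          one_zpow]; rfl)⟩
    obtain ⟨T', hT'⟩ := hpg.exists_le_sylow
    obtain ⟨a, ha⟩ := MulAction.exists_smul_eq (F.autGroup V) T T'
    have h1 : (T' : Subgroup (F.autGroup V)) = ⊥ := by
      rw [← ha, Sylow.coe_subgroup_smul, hbot]
      exact Subgroup.map_bot _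
    have := hT' (Subgroup.mem_zpowers _)
    rwa [h1, Subgroup.mem_bot] at this
  have h2 : γ ⟨u, hu⟩ = ⟨u, hu⟩ := by
    have := congrArg Subtype.val hone
    rw [Subgroup.coe_one, show MulAut.congr hg.equiv γ = 1 ↔ γ = 1 from
      map_eq_one_iff _ (MulAut.congr hg.equiv).injective] at this
    rw [this, MulAut.one_apply]
  have h3 : x * u * x⁻¹ = u := congrArg Subtype.val h2
  exact mul_inv_eq_iff_eq_mul.1 h3

/-- Let F be a saturated fusion system over a finite 2-group S. Suppose that every element of S is F-conjugate to an element of the centre Z(S) (some map of F defined on the cyclic subgroup it generates sends it into Z(S)). Then S is abelian. -/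
theorem result {Ω : Type*} [Group Ω] {S : Subgroup Ω} [Finite S] (hS : IsPGroup 2 ↥S) (F : Cfsg.FusionSystem S) (hF : F.IsSaturated 2) (h : ∀ x ∈ S, ∃ z ∈ S ⊓ Subgroup.centralizer (S : Set Ω), F.IsConjElt x z) : IsMulCommutative ↥S := by
  have hZ : ∀ z ∈ S ⊓ Subgroup.centralizer (S : Set Ω), ∀ s ∈ S, s * z = z * s := fun z hz s hs =>
    Subgroup.mem_centralizer_iff.1 hz.2 s hs
  have key : ∀ k : ℕ, ∀ x ∈ S, x ^ 2 ^ k = 1 → ∀ s ∈ S, s * x = x * s := by
    intro k
    induction k with
    | zero => intro x _ hx s _; rw [pow_zero, pow_one] at hx; rw [hx, mul_one, one_mul]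
    | succ k ih =>
      -- the elements killed by `2 ^ k`
      let W : Subgroup Ω :=
        { carrier := {w | w ∈ S ∧ w ^ 2 ^ k = 1}
          one_mem' := ⟨one_mem _, one_pow _⟩
          mul_mem' := fun {a b} ha hb => ⟨mul_mem ha.1 hb.1, by
            rw [(show Commute a b from ih b hb.1 hb.2 a ha.1).mul_pow, ha.2, hb.2, one_mul]⟩
          inv_mem' := fun {a} ha => ⟨inv_mem ha.1, by rw [inv_pow, ha.2, inv_one]⟩ }
      have hpow : ∀ {P : Subgroup Ω} {f : Ω → Ω}, IsMap F P f → ∀ x ∈ P, ∀ n : ℕ, f (x ^ n) = f x ^ n := by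
        intro P f hf x hx n
        induction n with
        | zero => rw [pow_zero, pow_zero, hf.map_one]
        | succ m ihm => rw [pow_succ, pow_succ, hf.map_mul (P.pow_mem hx m) hx, ihm]
      have hWn : F.IsNormal W := Fusion.isNormal_of_abelian hS hF
        (stronglyClosed_iff.2 ⟨fun w hw => hw.1, fun P f hf x hx hxW => ⟨hf.mem hx, by
          rw [← hpow hf x hx, hxW.2, hf.map_one]⟩⟩)
        ⟨⟨fun a b => Subtype.ext (ih b b.2.1 b.2.2 a a.2.1)⟩⟩
      -- two elements killed by `2 ^ (k + 1)` commute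
      have hcomm : ∀ x ∈ S, x ^ 2 ^ (k + 1) = 1 → ∀ y ∈ S, y ^ 2 ^ (k + 1) = 1 → x * y = y * x := by
        intro x hx hx1 y hy hy1
        have hxW : x ^ 2 ∈ W := ⟨pow_mem hx 2, by rw [← pow_mul, ← pow_succ']; exact hx1⟩
        have hyW : y ^ 2 ∈ W := ⟨pow_mem hy 2, by rw [← pow_mul, ← pow_succ']; exact hy1⟩
        obtain ⟨z, hz, φ, hφ, hφz⟩ := h (x * y) (mul_mem hx hy)
        obtain ⟨g, hg, hge, hgW⟩ := (isNormal_iff.1 hWn).2 _ _ (isMap_toFn hφ)
        let U := Subgroup.zpowers (x * y) ⊔ W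
        have hgz : g (x * y) = z := by
          rw [hge _ (Subgroup.mem_zpowers _), toFn_apply _ (Subgroup.mem_zpowers _)]
          exact hφz
        have hV : ∀ v ∈ img g U, ∀ s ∈ S, s * v = v * s := by
          intro v hv s hs
          obtain ⟨u, hu, rfl⟩ := (hg.mem_img_iff le_rfl).1 hv
          have hgu : g u ∈ S ⊓ Subgroup.centralizer (S : Set Ω) := by
            refine sup_mapsTo hg le_sup_left le_sup_right (C := S ⊓ Subgroup.centralizer (S : Set Ω))
              (fun w hw => ?_) (fun w hw => ?_) u hu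
            · obtain ⟨i, rfl⟩ := Subgroup.mem_zpowers_iff.1 hw
              have hm : IsMap F (Subgroup.zpowers (x * y)) g := hg.mono le_sup_left
              have hz' : ∀ n : ℕ, g ((x * y) ^ n) = z ^ n := fun n => by
                rw [hpow hm _ (Subgroup.mem_zpowers _) n, hgz]
              rcases Int.eq_nat_or_neg i with ⟨n, rfl | rfl⟩
              · rw [zpow_natCast, hz']; exact pow_mem hz n
              · rw [zpow_neg, zpow_natCast, hm.map_inv (Subgroup.pow_mem _ (Subgroup.mem_zpowers _) n), hz']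
                exact inv_mem (pow_mem hz n)
            · exact ⟨(hgW w hw).1, Subgroup.mem_centralizer_iff.2 fun t ht =>
                ih _ (hgW w hw).1 (hgW w hw).2 t ht⟩
          exact hZ _ hgu s hs
        have hxU : x ∈ normalizerIn S U := by
          have hUS : U ≤ S := hg.le
          have := finite_of_le hUS
          have hle : U ≤ U.comap (MulAut.conj x).toMonoidHom := by
            refine sup_le (Subgroup.zpowers_le.2 ?_) fun w hw => ?_
            · show x * (x * y) * x⁻¹ ∈ U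
              have e : x * (x * y) * x⁻¹ = (y * x⁻¹) * x ^ 2 := by
                calc x * (x * y) * x⁻¹ = (x ^ 2 * y) * x⁻¹ := by rw [pow_two, mul_assoc x x y]
                  _ = (y * x ^ 2) * x⁻¹ := by rw [ih _ hxW.1 hxW.2 y hy]
                  _ = (y * x⁻¹) * x ^ 2 := by group
              have e2 : y * x⁻¹ = y ^ 2 * (x * y)⁻¹ := by group
              rw [e, e2]
              exact mul_mem (mul_mem (Subgroup.mem_sup_right hyW)
                (inv_mem (Subgroup.mem_sup_left (Subgroup.mem_zpowers _)))) (Subgroup.mem_sup_right hxW)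
            · show x * w * x⁻¹ ∈ U
              rw [ih w hw.1 hw.2 x hx, mul_inv_cancel_right]
              exact Subgroup.mem_sup_right hw
          exact mem_normalizerIn_of_conj hx fun v hv => hle hv
        have := commute_of_conj_central hS hF hg.isIso hV hxU
          (Subgroup.mem_sup_left (Subgroup.mem_zpowers (x * y)) : x * y ∈ U)
        rw [← mul_assoc, mul_assoc x y x] at this
        rw [mul_assoc] at this
        exact mul_left_cancel this
      let L : Subgroup Ω :=
        { carrier := {w | w ∈ S ∧ w ^ 2 ^ (k + 1) = 1}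
          one_mem' := ⟨one_mem _, one_pow _⟩
          mul_mem' := fun {a b} ha hb => ⟨mul_mem ha.1 hb.1, by
            rw [(show Commute a b from hcomm a ha.1 ha.2 b hb.1 hb.2).mul_pow, ha.2, hb.2, one_mul]⟩
          inv_mem' := fun {a} ha => ⟨inv_mem ha.1, by rw [inv_pow, ha.2, inv_one]⟩ }
      have hLn : F.IsNormal L := Fusion.isNormal_of_abelian hS hF
        (stronglyClosed_iff.2 ⟨fun w hw => hw.1, fun P f hf x hx hxL => ⟨hf.mem hx, by
          rw [← hpow hf x hx, hxL.2, hf.map_one]⟩⟩)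
        ⟨⟨fun a b => Subtype.ext (hcomm a a.2.1 a.2.2 b b.2.1 b.2.2)⟩⟩
      intro w hw hw1 s hs
      obtain ⟨z, hz, φ, hφ, hφz⟩ := h s hs
      obtain ⟨g, hg, hge, hgL⟩ := (isNormal_iff.1 hLn).2 _ _ (isMap_toFn hφ)
      have hsP : s ∈ Subgroup.zpowers s ⊔ L := Subgroup.mem_sup_left (Subgroup.mem_zpowers s)
      have hwP : w ∈ Subgroup.zpowers s ⊔ L := Subgroup.mem_sup_right (show w ∈ L from ⟨hw, hw1⟩)
      refine hg.inj (mul_mem hsP hwP) (mul_mem hwP hsP) ?_
      rw [hg.map_mul hsP hwP, hg.map_mul hwP hsP, hge _ (Subgroup.mem_zpowers _),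
        toFn_apply _ (Subgroup.mem_zpowers _), hφz]
      exact (hZ z hz (g w) (hg.mem hwP)).symm
  refine ⟨⟨fun a b => Subtype.ext ?_⟩⟩
  obtain ⟨k, hk⟩ := hS b
  exact key k b b.2 (by simpa using congrArg Subtype.val hk) a a.2

end Cfsg.Agent.S5274
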