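import Cfsg.Statements.S5275
import Cfsg.Agent.S5204
import Cfsg.Agent.Lib.ClosedZJ.Basic

set_option autoImplicit false
open Cfsg Cfsg.FusionSystem

namespace Cfsg.Agent.S5275

open Cfsg.Agent.Fusion

universe u

theorem stronglyClosed_self {Ω : Type*} [Group Ω] {S : Subgroup Ω} (F : FusionSystem S) :
    F.StronglyClosed S :=
  ⟨le_rfl, fun _ _ _ hφ x => (F.le_of_mem hφ).2 x⟩

/-- The criterion through `Z(J(D))`. -/
def crit (p : ℕ) [Fact p.Prime] : Crit.{u} p where
  H Ω _ S F := ∃ D : Subgroup Ω, F.StronglyClosed D ∧ (D ≠ ⊥ ∨ S = ⊥) ∧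
    NPAut p F (centerThompsonAOf D)
  Ok _ _ _ _ := True
  W := (S5204.crit.{u} p).W
  W_spec := (S5204.crit.{u} p).W_spec
  mono := by
    intro Ω _ S T F E hT hE h
    subst hT
    obtain ⟨D, hD, hne, h⟩ := h
    exact ⟨D, ⟨hD.1, fun R hR φ hφ => hD.2 R hR φ (hE R hφ)⟩, hne, h.sub hE⟩
  of_npaut := fun Ω _ S _ F _ _ h => ⟨S, stronglyClosed_self F, (em (S = ⊥)).symm, h _ rfl⟩
  ok_normalizer := fun _ _ _ _ _ _ _ _ _ _ _ _ => trivial
  ok_factor := fun _ _ _ _ _ _ _ _ _ _ _ _ _ _ _ _ => trivial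

theorem zj_map {Ω : Type u} [Group Ω] {S : Subgroup Ω} {L : Type u} [Group L] (κ : S →* L)
    (hκ : Function.Injective κ) {D : Subgroup Ω} (hD : D ≤ S) :
    ((centerThompsonAOf D).subgroupOf S).map κ = centerThompsonAOf ((D.subgroupOf S).map κ) := by
  have h1 : (centerThompsonAOf (D.subgroupOf S)).map S.subtype = centerThompsonAOf D := by
    rw [PLocal.map_centerThompsonAOf _ S.subtype_injective.injOn,
      Subgroup.map_subgroupOf_eq_of_le hD]
  rw [← h1, Subgroup.subgroupOf, Subgroup.comap_map_eq_self_of_injective S.subtype_injective,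
    PLocal.map_centerThompsonAOf _ hκ.injOn]

theorem base {Ω : Type u} [Group Ω] {S : Subgroup Ω} [Finite S] {p : ℕ} [Fact p.Prime] (hp : p ≠ 2)
    {F : FusionSystem S} (hS : IsPGroup p S) (hc : F.IsConstrained p) {D : Subgroup Ω}
    (hD : F.StronglyClosed D) (h : NPAut p F (centerThompsonAOf D)) : PAut p F := by
  have hnc := nc_core hS hc
  obtain ⟨hfin, hι, ⟨T, hT⟩, -⟩ := hnc.isModel_emb
  have hclosed : Cfsg.IsStronglyClosed ((D.subgroupOf S).map hnc.emb) (T : Subgroup hnc.Mdl) := by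
    refine ⟨hT ▸ subgroupOf_map_le _ _, ?_⟩
    rintro _ ⟨d, hd, rfl⟩ g hg
    obtain ⟨y, hy⟩ := hT ▸ hg
    have hP : Subgroup.zpowers (d : Ω) ≤ S := Subgroup.zpowers_le.2 d.2
    obtain ⟨f, hf, hfe⟩ := conj_map hι hP g (by
      intro x hx
      obtain ⟨i, rfl⟩ := hx
      have e : (⟨(d : Ω) ^ i, hP ⟨i, rfl⟩⟩ : S) = d ^ i := Subtype.ext (by simp)
      simp only [e, map_zpow]
      rw [← conj_zpow, ← hy, ← map_zpow]
      exact ⟨_, rfl⟩)
    obtain ⟨hfS, e⟩ := hfe d (Subgroup.mem_zpowers _)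
    obtain ⟨φ, hφ, hφe⟩ := hf
    refine ⟨⟨f d, hfS⟩, ?_, e⟩
    have := hD.2 _ (Subgroup.zpowers_le.2 hd) φ hφ ⟨d, Subgroup.mem_zpowers _⟩
    exact Eq.subst (motive := fun z => z ∈ D) (hφe _ (Subgroup.mem_zpowers _)) this
  have hSD : S ≤ Subgroup.normalizer (centerThompsonAOf D : Set Ω) :=
    (normalizes_of_stronglyClosed hD).trans (le_normalizer_of_functorial
      (fun {X} [Group X] K => centerThompsonAOf K) (fun f K hf => PLocal.map_centerThompsonAOf f hf) D)
  have hN := hnpc_normalizer_of_npaut hι ⟨T, hT⟩ ((ClosedZJ.zj_le D).trans hD.1) hSD h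
  rw [zj_map hnc.emb hι.1 hD.1] at hN
  exact pAut_of_model_hnpc hS hnc.isModel_emb (ClosedZJ.closed_complement hp T hclosed hN)

theorem pAut_of_closed {Ω : Type u} [Group Ω] {S : Subgroup Ω} [Finite S] {p : ℕ} [Fact p.Prime]
    (hp : p ≠ 2) (hS : IsPGroup p S) {F : FusionSystem S} (hF : F.IsSaturated p) {D : Subgroup Ω}
    (hD : F.StronglyClosed D) (h : NPAut p F (centerThompsonAOf D)) : PAut p F := by
  by_cases hb : D = ⊥ ∧ S ≠ ⊥
  · refine pAut_of_exists_pow fun Q hQ α hα => ?_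
    have hZ : centerThompsonAOf D = ⊥ := le_bot_iff.1 (hb.1 ▸ ClosedZJ.zj_le D)
    rw [hZ] at h
    refine h Q (le_inf hQ ?_) α hα (autFn α) (by rw [sup_bot_eq]; exact (isIso_autFn hQ hα).1)
      (fun _ _ => rfl) fun w hw => ?_
    · rw [Subgroup.normalizer_eq_top_iff.2 (inferInstance : (⊥ : Subgroup Ω).Normal)]
      exact le_top
    · obtain rfl := Subgroup.mem_bot.1 hw
      rw [autFn_apply α Q.one_mem]
      exact congrArg Subtype.val (map_one α)
  exact (crit.{u} p).pAut (fun Ω _ S _ F hS hc _ hH _ => hH.elim fun D hD => base hp hS hc hD.1 hD.2.2)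
    hS hF trivial ⟨D, hD, (not_and_or.1 hb).imp id not_not.1, h⟩

/-- A Glauberman–Thompson nilpotency criterion for fusion systems relative to a strongly closed subgroup. Let p be an odd prime, F a saturated fusion system over a finite p-group S, and D a subgroup of S that is strongly closed in F. Let Z(J(D)) be the centre of the subgroup of D generated by the abelian subgroups of D of largest order. Then F is the inner fusion system of S if and only if the normalizer fusion system of Z(J(D)) in F is the inner fusion system of N_S(Z(J(D))) = S. -/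
theorem result {Ω : Type*} [Group Ω] {S : Subgroup Ω} [Finite S] (p : ℕ) [Fact p.Prime] (hS : IsPGroup p ↥S) (F : Cfsg.FusionSystem S) (hF : F.IsSaturated p) (hp : p ≠ 2) (D : Subgroup Ω) (hD : F.StronglyClosed D) : (∀ P : Subgroup Ω, F.Hom P = (Cfsg.innerFusionSystem S).Hom P) ↔ ∀ N : Cfsg.FusionSystem (Cfsg.FusionSystem.normalizerIn S (Cfsg.centerThompsonAOf D)), F.IsNormalizerSystem (Cfsg.centerThompsonAOf D) N → ∀ P : Subgroup Ω, N.Hom P = (Cfsg.innerFusionSystem (Cfsg.FusionSystem.normalizerIn S (Cfsg.centerThompsonAOf D))).Hom P := by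
  have hle : centerThompsonAOf D ≤ S := (ClosedZJ.zj_le D).trans hD.1
  exact ⟨fun h N hN => normalizer_inner_of_inner hle h hN, fun h => inner_of_pAut hS hF
    (pAut_of_closed hp hS hF hD (npaut_of_normalizer_inner hS hle h))⟩

end Cfsg.Agent.S5275
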