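import Cfsg.Statements.S5276
import Cfsg.Agent.Lib.Fusion.PAut
import Cfsg.Agent.Lib.Fusion.Induction
import Cfsg.Agent.Lib.FusionChain.Puig
import Cfsg.Agent.Lib.FusionTate.Lift

set_option autoImplicit false
open Cfsg Cfsg.FusionSystem
open Cfsg.Agent Cfsg.Agent.Fusion

namespace Cfsg.Agent.S5276

universe u

theorem inner_of_conditions {Ω : Type u} [Group Ω] {S : Subgroup Ω} [Finite S] {p : ℕ} [Fact p.Prime]
    (hS : IsPGroup p S) {F : FusionSystem S} (hF : F.IsSaturated p)
    (hA : ∀ g, IsMap F S g → ∃ s ∈ S, ∀ x ∈ S, g x = s * x * s⁻¹)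
    (hΦ : F.StronglyClosed ((frattini S).map S.subtype)) :
    ∀ P : Subgroup Ω, F.Hom P = (innerFusionSystem S).Hom P := by
  set T := (frattini S).map S.subtype
  have hTS : T.subgroupOf S = frattini S :=
    Subgroup.comap_map_eq_self_of_injective S.subtype_injective _
  have hn : (T.subgroupOf S).Normal := by rw [hTS]; infer_instance
  have D := quotientData hΦ (F := F)
  set θ := QuotientGroup.mk' (T.subgroupOf S)
  set S' : Subgroup (S ⧸ T.subgroupOf S) := ⊤
  have hcomm : ∀ a b : S, θ a * θ b = θ b * θ a := fun a b => by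
    rw [← commutatorElement_eq_one_iff_mul_comm, ← map_commutatorElement]
    refine (QuotientGroup.eq_one_iff _).2 ?_
    rw [hTS]
    exact PGroup.commutatorElement_mem_frattini hS a b
  have hab : IsMulCommutative S' := ⟨⟨fun a b => by
    obtain ⟨x, hx⟩ := QuotientGroup.mk'_surjective (T.subgroupOf S) (a : S ⧸ T.subgroupOf S)
    obtain ⟨y, hy⟩ := QuotientGroup.mk'_surjective (T.subgroupOf S) (b : S ⧸ T.subgroupOf S)
    refine Subtype.ext ?_
    show (a : S ⧸ T.subgroupOf S) * b = b * a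
    rw [← hx, ← hy]
    exact hcomm x y⟩⟩
  obtain ⟨E, hE⟩ := D.exists_factorSystem
  have := D.finite_S'
  have hEn : E.IsNormal S' := isNormal_of_abelian (D.isPGroup_S' hS) (D.isSaturated_factor hS hF hE)
    ⟨le_rfl, fun _ _ _ hφ x => (E.le_of_mem hφ).2 x⟩ hab
  have hfoc : F.focalSubgroup ≤ T := by
    refine (Subgroup.closure_le _).2 ?_
    rintro _ ⟨P, φ, x, hφ, rfl⟩
    have hf := isMap_toFn hφ
    obtain ⟨g, hg, hgf⟩ := FusionChain.exists_map_congr_mod hS hF hΦ hf
    obtain ⟨f', hf', hf'e⟩ := D.isMap_image hE hg le_sup_right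
    obtain ⟨h', hh', hh'e, hh'S⟩ := (FusionChain.isNormal_iff.1 hEn).2 _ _ hf'
    obtain ⟨l, hl, hle⟩ := D.exists_lift_iso hE (f' := h') (P' := S') (R' := S')
      ⟨hh'.mono le_sup_right, eq_of_le_of_card le_rfl ((hh'.mono le_sup_right).img_le le_rfl hh'S)
        ((hh'.mono le_sup_right).card_img le_rfl).ge⟩
    rw [D.preimage_S'] at hl hle
    obtain ⟨s, hs, hse⟩ := hA l hl.1
    have hxS : (x : Ω) ∈ S := (F.le_of_mem hφ).1 x.2
    have hxP : (x : Ω) ∈ P ⊔ T := Subgroup.mem_sup_left x.2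
    have hgx : thF θ (g x) = thF θ x := by
      rw [← hf'e x hxP, ← hh'e _ (mem_imageAlong.2 ⟨x, hxP, hxS, rfl⟩), hle x hxS, hse x hxS,
        thF_apply θ (S.mul_mem (S.mul_mem hs hxS) (S.inv_mem hs)), thF_apply θ hxS]
      show θ (⟨s, hs⟩ * ⟨x, hxS⟩ * ⟨s, hs⟩⁻¹) = _
      rw [map_mul, map_mul, map_inv, hcomm, mul_inv_cancel_right]
    have h1 := (D.thF_eq_iff hxS (hg.mem hxP)).1 hgx.symm
    have h2 := hgf x x.2
    have h3 := T.mul_mem h1 h2
    rwa [mul_assoc, mul_inv_cancel_left, toFn_coe] at h3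
  have hhyp : F.hyperfocalSubgroup p = ⊥ := by
    have h := FusionTate.hyperfocal_eq_of_le_frattini_sup hS hF (M := ⊥) bot_le (by
      rw [sup_bot_eq, ← hTS]
      exact Subgroup.comap_mono ((FusionChain.hyperfocal_le_focal p).trans hfoc))
    refine le_bot_iff.1 fun y hy => ?_
    have hy' : (⟨y, FusionChain.hyperfocalSubgroup_le p hy⟩ : S) ∈
        (F.hyperfocalSubgroup p).subgroupOf S := hy
    rw [← h, Subgroup.mem_bot] at hy'
    exact Subgroup.mem_bot.2 (congrArg Subtype.val hy')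
  refine inner_of_pAut hS hF (pAut_of_exists_pow fun Q hQ α hα => ?_)
  have := finite_mulAut hQ
  obtain ⟨k, hk⟩ := FusionChain.exists_pow_coprime p α
  refine ⟨k, MulEquiv.ext fun y => Subtype.ext ?_⟩
  have h1 := FusionChain.inv_mul_autFn_mem_hyperfocal hQ (pow_mem hα (p ^ k))
    (FusionChain.mem_pResidual_of_coprime (pow_mem hα _) hk) y.2
  rw [hhyp, Subgroup.mem_bot, inv_mul_eq_one, autFn_apply _ y.2] at h1
  exact h1.symm

/-- Let p be a prime and F a saturated fusion system over a finite p-group S. Then F is the inner fusion system of S if and only if the normalizer fusion system of S itself in F is the inner fusion system (equivalently, Aut_F(S) is induced by S) and the Frattini subgroup Φ(S) is strongly closed in F. -/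
theorem result {Ω : Type*} [Group Ω] {S : Subgroup Ω} [Finite S] (p : ℕ) [Fact p.Prime] (hS : IsPGroup p ↥S) (F : Cfsg.FusionSystem S) (hF : F.IsSaturated p) : (∀ P : Subgroup Ω, F.Hom P = (Cfsg.innerFusionSystem S).Hom P) ↔ (∀ N : Cfsg.FusionSystem (Cfsg.FusionSystem.normalizerIn S S), F.IsNormalizerSystem S N → ∀ P : Subgroup Ω, N.Hom P = (Cfsg.innerFusionSystem (Cfsg.FusionSystem.normalizerIn S S)).Hom P) ∧ F.StronglyClosed ((frattini ↥S).map S.subtype) := by
  constructor
  · intro h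
    refine ⟨fun N hN => normalizer_inner_of_inner le_rfl h hN, Subgroup.map_subtype_le _,
      fun R hR φ hφ x => ?_⟩
    obtain ⟨-, s, hs, e⟩ := isMap_inner_iff.1 ((isMap_congr_hom h).1 (isMap_toFn hφ))
    obtain ⟨z, hz, hzx⟩ := hR x.2
    rw [← toFn_coe φ x, e x x.2, ← hzx]
    exact ⟨⟨s, hs⟩ * z * ⟨s, hs⟩⁻¹,
      (inferInstance : (frattini S).Normal).conj_mem z hz ⟨s, hs⟩, rfl⟩
  · rintro ⟨hN, hΦ⟩
    refine inner_of_conditions hS hF (fun g hg => ?_) hΦ
    obtain ⟨N, hNs⟩ := exists_normalizerSystem (F := F) (le_refl S)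
    have hSN : S ≤ normalizerIn S S := le_normalizerIn le_rfl
    have hm : IsMap N S g := (isMap_normalizer_iff le_rfl hNs).2
      ⟨hSN, fun x hx => hSN (hg.mem hx), g, by rwa [sup_idem], fun _ _ => rfl, fun x hx => hg.mem hx⟩
    obtain ⟨-, s, hs, e⟩ := isMap_inner_iff.1 ((isMap_congr_hom (hN N hNs)).1 hm)
    exact ⟨s, hs.1, e⟩

end Cfsg.Agent.S5276
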