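import Cfsg.Statements.S5284
import Cfsg.Agent.Lib.FusionSupersoluble.Invariant
import Cfsg.Agent.Lib.FusionSupersoluble.Abelian
import Cfsg.Agent.Lib.FusionSupersoluble.SwapAut
import Cfsg.Agent.Lib.FusionAbelian.Basic

set_option autoImplicit false
open Cfsg

namespace Cfsg.Agent.S5284

/-- Let S be a finite abelian p-group. Every saturated fusion system over S is supersoluble (S has a chain of F-strongly closed subgroups from 1 to S with cyclic steps) if and only if the invariants of S are pairwise distinct, that is, S is not isomorphic to a direct product (Z/p^n × Z/p^n) × H with n ≥ 1. -/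
theorem result {Ω : Type*} [Group Ω] {S : Subgroup Ω} [Finite S] (p : ℕ) [Fact p.Prime] (hS : IsPGroup p ↥S) (hab : IsMulCommutative ↥S) : (∀ F : Cfsg.FusionSystem S, F.IsSaturated p → (∃ (m : ℕ) (c : Fin (m + 1) → Subgroup Ω), c 0 = ⊥ ∧ c (Fin.last m) = S ∧ (∀ i : Fin (m + 1), F.StronglyClosed (c i)) ∧ ∀ i : Fin m, c i.castSucc ≤ c i.succ ∧ ∃ x ∈ S, c i.succ = c i.castSucc ⊔ Subgroup.zpowers x)) ↔ ¬ ∃ (n : ℕ) (H : Type) (_ : CommGroup H), 0 < n ∧ Nonempty (↥S ≃* (Multiplicative (ZMod (p ^ n)) × Multiplicative (ZMod (p ^ n))) × H) := by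
  open Cfsg.Agent.FusionSupersoluble in
  constructor
  · rintro h ⟨n, H, _, hn, ⟨e⟩⟩
    exact false_of_repeated hn e (coprime_aut_abelian hS h)
  · intro h F hF
    letI : CommGroup ↥S := { (inferInstance : Group ↥S) with mul_comm := hab.is_comm.comm }
    rcases layer_or_repeated ↥S hS with hL | hrep
    swap
    · exact absurd hrep h
    obtain ⟨N, hN⟩ := IsPGroup.iff_card.1 hS
    obtain ⟨m, c, h0, hm, hinv, hstep⟩ := exists_char_chain (Fact.out : p.Prime)
      (N := N) (fun x => by rw [← hN]; exact pow_card_eq_one') hL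
    exact isSupersoluble_of_chain (fun P f hf => Cfsg.Agent.FusionAbelian.exists_aut_extension hS hF
      (fun x hx y hy => congrArg Subtype.val (hab.is_comm.comm (⟨x, hx⟩ : ↥S) ⟨y, hy⟩)) hf) m c h0 hm
      (fun i _ α _ x hx => hinv i α.toMonoidHom x hx) hstep

end Cfsg.Agent.S5284
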