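import Cfsg.Statements.S5287
import Cfsg.Agent.Lib.FusionMetaTwo.Systems
import Cfsg.Agent.Lib.FusionMetaTwo.Ambient
import Cfsg.Agent.Lib.FusionMetaTwo.Odd
import Cfsg.Agent.S5284
import Cfsg.Agent.S5234

set_option autoImplicit false
open Cfsg

namespace Cfsg.Agent.S5287

/-- Let S be a finite metacyclic p-group (an extension of a cyclic group by a cyclic group). Every saturated fusion system over S is supersoluble (S has a chain of F-strongly closed subgroups from 1 to S with cyclic steps) if and only if S is not homocyclic of rank two (isomorphic to Z/p^n × Z/p^n with n ≥ 1) and, when p = 2, S is not dihedral of order at least 4, not quasi-dihedral (semidihedral) and not generalized quaternion of order at least 8. -/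
theorem result {Ω : Type*} [Group Ω] {S : Subgroup Ω} [Finite S] (p : ℕ) [Fact p.Prime] (hS : IsPGroup p ↥S) (hm : Cfsg.IsMetacyclic ↥S) : (∀ F : Cfsg.FusionSystem S, F.IsSaturated p → (∃ (m : ℕ) (c : Fin (m + 1) → Subgroup Ω), c 0 = ⊥ ∧ c (Fin.last m) = S ∧ (∀ i : Fin (m + 1), F.StronglyClosed (c i)) ∧ ∀ i : Fin m, c i.castSucc ≤ c i.succ ∧ ∃ x ∈ S, c i.succ = c i.castSucc ⊔ Subgroup.zpowers x)) ↔ ¬ ((∃ n : ℕ, 0 < n ∧ Nonempty (↥S ≃* Multiplicative (ZMod (p ^ n)) × Multiplicative (ZMod (p ^ n)))) ∨ (p = 2 ∧ ((∃ n : ℕ, 2 ≤ n ∧ Nonempty (↥S ≃* DihedralGroup n)) ∨ Cfsg.IsQuasiDihedral ↥S ∨ (∃ n : ℕ, 2 ≤ n ∧ Nonempty (↥S ≃* QuaternionGroup n))))) := by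
  have hp : p.Prime := Fact.out
  constructor
  · rintro h (⟨n, hn, ⟨e⟩⟩ | ⟨rfl, hlist⟩)
    · refine (S5284.result p hS ⟨⟨fun a b => e.injective (by rw [map_mul, map_mul, mul_comm])⟩⟩).1 h
        ⟨n, PUnit, inferInstance, hn, ⟨e.trans MulEquiv.prodUnique.symm⟩⟩
    obtain ⟨k, hk⟩ := hS.exists_card_eq
    rcases hlist with ⟨n, hn, ⟨e⟩⟩ | hq | ⟨n, hn, ⟨e⟩⟩
    · obtain ⟨i, -, rfl⟩ := (Nat.dvd_prime_pow Nat.prime_two).1 (show n ∣ 2 ^ k by
        rw [← hk, Nat.card_congr e.toEquiv, DihedralGroup.nat_card]; exact dvd_mul_left n 2)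
      obtain ⟨G, _, _, P, K, ⟨f⟩, hK, he⟩ := FusionMetaTwo.exists_dihedral i
        (by rcases i with _ | i; exacts [absurd hn (by norm_num), i.succ_pos])
      exact FusionMetaTwo.false_of_supersoluble hS h P (e.trans f.symm) K hK he
    · obtain ⟨G, _, _, P, K, ⟨f⟩, hK, he⟩ := FusionMetaTwo.exists_quasiDihedral hq
      exact FusionMetaTwo.false_of_supersoluble hS h P f.symm K hK he
    · haveI : NeZero n := ⟨by omega⟩
      obtain ⟨i, -, rfl⟩ := (Nat.dvd_prime_pow Nat.prime_two).1 (show n ∣ 2 ^ k by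
        rw [← hk, Nat.card_congr e.toEquiv, Nat.card_eq_fintype_card, QuaternionGroup.card]
        exact dvd_mul_left n 4)
      obtain ⟨G, _, _, P, K, ⟨f⟩, hK, he⟩ := FusionMetaTwo.exists_quaternion i
        (by rcases i with _ | i; exacts [absurd hn (by norm_num), i.succ_pos])
      exact FusionMetaTwo.false_of_supersoluble hS h P (e.trans f.symm) K hK he
  · intro hne
    by_cases hp2 : p = 2
    · subst hp2
      have hx : ¬ FusionMetaTwo.MaxClassTwo ↥S := fun hx => hne (Or.inr ⟨rfl, hx⟩)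
      have hA := FusionMetaTwo.aut_isPGroup_two hS hm (fun hh => hne (Or.inl hh)) hx
      refine (S5283.result 2 hS).2 ⟨fun F hF => FusionMetaTwo.isNormal_two hS hm hx hF, fun H hH => ?_⟩
      haveI := Fusion.finite_mulAut (S := S) (P := S) le_rfl
      obtain ⟨k, hk⟩ := (hA.to_subgroup H).exists_card_eq
      rw [hk] at hH
      have hk0 : k = 0 := by
        by_contra hk0
        rw [Nat.coprime_pow_left_iff (Nat.pos_of_ne_zero hk0), Nat.coprime_self] at hH
        omega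
      have hbot : H = ⊥ := H.eq_bot_of_card_eq (by rw [hk, hk0, pow_zero])
      subst hbot
      exact ⟨⟨⟨fun a b => Subsingleton.elim _ _⟩⟩, fun h hh => by rw [Subgroup.mem_bot.1 hh, one_pow]⟩
    by_cases hab : IsMulCommutative ↥S
    · refine (S5284.result p hS hab).2 ?_
      rintro ⟨n, H, _, hn, ⟨e⟩⟩
      exact hne (Or.inl ⟨n, hn, FusionMetaTwo.not_repeated hS hm hn e⟩)
    · refine (S5283.result p hS).2 ⟨fun F hF => ?_, fun H hH =>
        FusionMetaTwo.coprime_aut_of_metacyclic hp2 hS hm hab H hH⟩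
      exact S5234.result p hS F hF S ⟨le_rfl, fun R _ φ hφ x => (F.le_of_mem hφ).2 x⟩ hp2 hm

end Cfsg.Agent.S5287
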