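import Cfsg.Statements.S5290
import Cfsg.Agent.Lib.FusionChain.StronglyClosed
import Cfsg.Agent.S5226

set_option autoImplicit false
open Cfsg

namespace Cfsg.Agent.S5290

section
open Cfsg.FusionSystem Cfsg.Agent.Fusion Cfsg.Agent.FusionChain
open scoped commutatorElement

variable {Ω : Type*} [Group Ω] {S : Subgroup Ω} {F : Cfsg.FusionSystem S}

/-- `W` is normal as soon as every map of the system on a subgroup of `W` is the restriction of an automorphism
of `W`: its upper central series is then a weakly closed central series. -/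
theorem isNormal_of_series [Finite S] {p : ℕ} [Fact p.Prime] (hS : IsPGroup p S) (hF : F.IsSaturated p)
    {W : Subgroup Ω} (hW : W ≤ S)
    (h : ∀ P f, IsMap F P f → P ≤ W → ∃ α : MulAut W, ∀ x ∈ P, f x = autFn α x) : F.IsNormal W := by
  have hsc : F.StronglyClosed W := stronglyClosed_of_mapsTo hW fun P f hf hP x hx => by
    obtain ⟨α, hα⟩ := h P f hf hP
    rw [hα x hx]
    exact autFn_mem α (hP hx)
  have := finite_of_le hW
  have : Group.IsNilpotent W := (hS.to_le hW).isNilpotent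
  obtain ⟨n, hn⟩ := Group.IsNilpotent.nilpotent W
  refine Cfsg.Agent.S5226.to_normal hS hF hsc n
    (fun i => (Subgroup.upperCentralSeries W i).map W.subtype) ?_ ?_ ?_ (fun i => ?_) fun i => ?_
  · simp
  · simp [hn, ← MonoidHom.range_eq_map]
  · exact fun i j hij => Subgroup.map_mono (Subgroup.upperCentralSeries_mono W hij)
  · rw [Subgroup.commutator_le]
    rintro _ ⟨x, hx, rfl⟩ y hy
    exact ⟨⁅x, ⟨y, hy⟩⁆, (Subgroup.mem_upperCentralSeries_succ_iff.1 hx) ⟨y, hy⟩, rfl⟩
  · set C := (Subgroup.upperCentralSeries W (i.castSucc : ℕ)).map W.subtype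
    have hC : C ≤ W := Subgroup.map_subtype_le _
    refine ⟨hC.trans hW, fun φ hφ => ?_⟩
    obtain ⟨α, hα⟩ := h C _ (isMap_toFn hφ) hC
    have hm := isMap_toFn hφ
    rw [← toFn_img φ]
    refine eq_of_le_of_card (hC.trans hW) (hm.img_le le_rfl fun x hx => ?_) (hm.card_img le_rfl).ge
    rw [hα x hx]
    exact map_upperCentral_mem α _ hx

end

/-- Let F be a saturated fusion system over a finite p-group S and Q a subgroup of S. Then Q is normal in F (F = N_F(Q)) if and only if the inner fusion system of Q, consisting of the conjugations by elements of Q on subgroups of Q, is a weakly normal subsystem of F (both saturated, Q strongly closed, invariant under F-conjugation, with the Frattini property). -/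
theorem result {Ω : Type*} [Group Ω] {S : Subgroup Ω} [Finite S] (p : ℕ) [Fact p.Prime] (hS : IsPGroup p S)
    (F : Cfsg.FusionSystem S) (hF : F.IsSaturated p)
    (Q : Subgroup Ω) (hQ : Q ≤ S) :
    F.IsNormal Q ↔ (Cfsg.innerFusionSystem Q).IsWeaklyNormalIn F p := by
  constructor
  · intro hN
    have hfin := Cfsg.Agent.Fusion.finite_of_le hQ
    refine ⟨Cfsg.Agent.FusionChain.isSaturated_inner (hS.to_le hQ), hF, ?_,
      Cfsg.Agent.FusionChain.stronglyClosed_of_normal hN, ?_, ?_⟩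
    · rintro P φ ⟨hP, g, hg, he⟩
      have : φ = Cfsg.conjHom P g := MonoidHom.ext he
      exact this ▸ F.conj_mem (hP.trans hQ) (hQ hg)
    · rintro P hPQ φ ⟨-, g, hg, he⟩ α hα
      refine ⟨Cfsg.conjHom _ ((α ⟨g, hg⟩ : Q) : Ω),
        (Cfsg.innerFusionSystem Q).conj_mem (Subgroup.map_le_range _ _ |>.trans ?_) (Subtype.prop _), ?_⟩
      · rintro _ ⟨x, rfl⟩
        exact (α x).2
      · intro x hφx hαx
        show ((α ⟨g, hg⟩ : Q) : Ω) * ((α ⟨x, hPQ x.2⟩ : Q) : Ω) * ((α ⟨g, hg⟩ : Q) : Ω)⁻¹ = _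
        rw [← Subgroup.coe_mul, ← Subgroup.coe_inv, ← Subgroup.coe_mul, ← map_inv, ← map_mul, ← map_mul]
        exact congrArg (fun z : Q => ((α z : Q) : Ω)) (Subtype.ext (he x).symm)
    · intro P hP φ hφ
      obtain ⟨α, hα, he⟩ := Cfsg.Agent.FusionChain.exists_top_extension_of_normal hN (Cfsg.Agent.Fusion.isMap_toFn hφ)
      refine ⟨α, hα, Cfsg.conjHom P 1, (Cfsg.innerFusionSystem Q).conj_mem hP Q.one_mem, fun x hx => ?_⟩
      have h1 := he x x.2 (hP x.2)
      rw [Cfsg.Agent.Fusion.toFn_coe, Cfsg.Agent.Fusion.autFn_apply α (hP x.2)] at h1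
      rw [← h1]
      exact congrArg (fun z : Q => ((α z : Q) : Ω)) (Subtype.ext (by simp [Cfsg.conjHom]))
  · rintro ⟨-, -, -, -, -, hfrat⟩
    refine isNormal_of_series hS hF hQ fun P f hf hP => ?_
    obtain ⟨φ, hφ, he⟩ := hf
    obtain ⟨α, -, φ₀, ⟨-, g, hg, hg'⟩, h₀⟩ := hfrat P hP φ hφ
    refine ⟨α * MulAut.conj ⟨g, hg⟩, fun x hx => ?_⟩
    rw [← he x hx, Cfsg.Agent.Fusion.autFn_apply _ (hP hx)]
    have hmem : φ₀ ⟨x, hx⟩ ∈ Q := by
      rw [hg']
      exact Q.mul_mem (Q.mul_mem hg (hP hx)) (Q.inv_mem hg)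
    rw [h₀ ⟨x, hx⟩ hmem]
    exact congrArg (fun z : Q => ((α z : Q) : Ω)) (Subtype.ext (hg' _))

end Cfsg.Agent.S5290
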