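import Cfsg.Statements.S5291
import Cfsg.Agent.S5290

set_option autoImplicit false
open Cfsg

namespace Cfsg.Agent.S5291

/-- Let F be a saturated fusion system over a finite p-group S and E a weakly normal subsystem of F over a subgroup T. Suppose a subgroup R of T is normal in E (E = N_E(R)), and let R* be the subgroup of T generated by the images of R under all maps of F with source R. Then R* is normal in F (F = N_F(R*)). -/
theorem result {Ω : Type*} [Group Ω] {S : Subgroup Ω} [Finite S] (p : ℕ) [Fact p.Prime] (hS : IsPGroup p S)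
    (F : Cfsg.FusionSystem S) (hF : F.IsSaturated p)
    {T : Subgroup Ω} (E : Cfsg.FusionSystem T) (hE : E.IsWeaklyNormalIn F p)
    (R : Subgroup Ω) (hR : E.IsNormal R) :
    F.IsNormal (Subgroup.closure {x : Ω | ∃ φ ∈ F.Hom R, ∃ r : R, x = φ r}) := by
  obtain ⟨hEsat, -, hsub, hT, hinv, hfrat⟩ := hE
  have hTS : T ≤ S := hT.1
  have hfinT : Finite T := Cfsg.Agent.Fusion.finite_of_le hTS
  have hTp : IsPGroup p T := hS.to_le hTS
  set W := Subgroup.closure {x : Ω | ∃ φ ∈ F.Hom R, ∃ r : R, x = φ r} with hWdef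
  have hWT : W ≤ T := by
    refine (Subgroup.closure_le _).2 ?_
    rintro _ ⟨φ, hφ, r, rfl⟩
    exact hT.2 R hR.1 φ hφ r
  -- all maps of `E` on subgroups of `W` extend to `W`
  have hWE : E.IsNormal W := by
    have hgen : W = sSup (Set.range fun φ : F.Hom R => (φ.1).range) := by
      refine le_antisymm ((Subgroup.closure_le _).2 ?_) (sSup_le ?_)
      · rintro _ ⟨φ, hφ, r, rfl⟩
        exact le_sSup (α := Subgroup Ω) (s := Set.range fun φ : F.Hom R => (φ.1).range) (a := φ.range) ⟨⟨φ, hφ⟩, rfl⟩ ⟨r, rfl⟩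
      · rintro _ ⟨φ, rfl⟩ _ ⟨r, rfl⟩
        exact Subgroup.subset_closure ⟨φ.1, φ.2, r, rfl⟩
    -- each image is normal in `E`
    have himg : ∀ φ : F.Hom R, E.IsNormal (φ.1).range := by
      intro φ
      obtain ⟨α, hα, φ₀, hφ₀, he⟩ := hfrat R hR.1 φ.1 φ.2
      have h0R : ∀ r : R, φ₀ r ∈ R := fun r => by
        rw [← Cfsg.Agent.Fusion.toFn_coe φ₀ r]
        exact Cfsg.Agent.FusionChain.mapsTo_of_normal hR (Cfsg.Agent.Fusion.isMap_toFn hφ₀) le_rfl r r.2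
      have hrange : (φ.1).range = (R.subgroupOf T).map (T.subtype.comp α.toMonoidHom) := by
        refine Cfsg.Agent.Fusion.eq_of_le_of_card
          ((Subgroup.map_le_range _ _).trans (by rintro _ ⟨x, rfl⟩; exact hTS (α x).2)) ?_ (le_of_eq ?_)
        · rintro _ ⟨r, rfl⟩
          exact ⟨⟨φ₀ r, hR.1 (h0R r)⟩, h0R r, (he r _).symm⟩
        · rw [Subgroup.card_map_of_injective (f := T.subtype.comp α.toMonoidHom) (T.subtype_injective.comp α.injective),
            Nat.card_congr (Subgroup.subgroupOfEquivOfLe hR.1).toEquiv,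
            Nat.card_congr (MonoidHom.ofInjective (F.injective_of_mem φ.2)).toEquiv.symm]
      refine Cfsg.Agent.FusionChain.isNormal_iff.2 ⟨hrange ▸ ((Subgroup.map_le_range _ _).trans
        (by rintro _ ⟨x, rfl⟩; exact (α x).2)), fun P f hf => ?_⟩
      -- pull the map back along `α`, extend, and push forward
      obtain ⟨ψ, hψ, hψe⟩ := hf
      have hPT : P ≤ T := (E.le_of_mem hψ).1
      set P' := (P.subgroupOf T).map (T.subtype.comp (α⁻¹ : MulAut T).toMonoidHom) with hP'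
      have hP'mem : ∀ x (hx : x ∈ P), (((α⁻¹ : MulAut T) ⟨x, hPT hx⟩ : T) : Ω) ∈ P' :=
        fun x hx => ⟨⟨x, hPT hx⟩, hx, rfl⟩
      obtain ⟨χ, hχ, hχe⟩ := hinv P hPT ψ hψ α⁻¹ (inv_mem hα)
      obtain ⟨g, hg, hgχ, hgR⟩ := (Cfsg.Agent.FusionChain.isNormal_iff.1 hR).2 _ _
        (Cfsg.Agent.Fusion.isMap_toFn hχ)
      obtain ⟨κ, hκ, hκe⟩ := hg
      have hP'T : P' ⊔ R ≤ T := sup_le ((E.le_of_mem hχ).1) hR.1
      set M := ((P' ⊔ R).subgroupOf T).map (T.subtype.comp α.toMonoidHom) with hM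
      obtain ⟨ω, hω, hωe⟩ := hinv (P' ⊔ R) hP'T κ hκ α hα
      have hMmem : ∀ y (hy : y ∈ P' ⊔ R), ((α ⟨y, hP'T hy⟩ : T) : Ω) ∈ M :=
        fun y hy => ⟨⟨y, hP'T hy⟩, hy, rfl⟩
      have hle : P ⊔ (φ.1).range ≤ M := by
        refine sup_le (fun x hx => ?_) ?_
        · refine ⟨⟨_, hP'T (Subgroup.mem_sup_left (hP'mem x hx))⟩, Subgroup.mem_sup_left (hP'mem x hx), ?_⟩
          show ((α _ : T) : Ω) = x
          simp
        · rw [hrange]
          exact Subgroup.map_mono (fun z hz => Subgroup.mem_sup_right hz)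
      refine ⟨Cfsg.Agent.Fusion.toFn ω, (Cfsg.Agent.Fusion.isMap_toFn hω).mono hle, fun x hx => ?_, fun q hq => ?_⟩
      · have hx' := hP'mem x hx
        have hm := hMmem _ (Subgroup.mem_sup_left hx' : _ ∈ P' ⊔ R)
        have hψT : ψ ⟨x, hx⟩ ∈ T := (E.le_of_mem hψ).2 _
        have h1 : χ ⟨_, hx'⟩ = (((α⁻¹ : MulAut T) ⟨ψ ⟨x, hx⟩, hψT⟩ : T) : Ω) := hχe ⟨x, hx⟩ hψT hx'
        have h2 : κ ⟨_, Subgroup.mem_sup_left hx'⟩ = χ ⟨_, hx'⟩ := by
          rw [hκe, hgχ _ hx']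
          exact Cfsg.Agent.Fusion.toFn_apply χ hx'
        have hκT : κ ⟨_, Subgroup.mem_sup_left hx'⟩ ∈ T := (E.le_of_mem hκ).2 _
        have h3 := hωe ⟨_, Subgroup.mem_sup_left hx'⟩ hκT hm
        have hxM : x ∈ M := hle (Subgroup.mem_sup_left hx)
        rw [Cfsg.Agent.Fusion.toFn_apply ω hxM]
        refine Eq.trans (congrArg ω (Subtype.ext ?_)) (h3.trans ?_)
        · show x = ((α _ : T) : Ω)
          simp
        · rw [← hψe x hx]
          have : (⟨κ ⟨_, Subgroup.mem_sup_left hx'⟩, hκT⟩ : T) = (α⁻¹ : MulAut T) ⟨ψ ⟨x, hx⟩, hψT⟩ :=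
            Subtype.ext (h2.trans h1)
          rw [this, MulAut.apply_inv_self]
      · rw [hrange] at hq ⊢
        obtain ⟨r, hr, rfl⟩ := hq
        have hκT : κ ⟨(r : Ω), Subgroup.mem_sup_right hr⟩ ∈ T := (E.le_of_mem hκ).2 _
        have hm := hMmem _ (Subgroup.mem_sup_right hr : (r : Ω) ∈ P' ⊔ R)
        have h3 := hωe ⟨(r : Ω), Subgroup.mem_sup_right hr⟩ hκT hm
        refine ⟨⟨κ ⟨(r : Ω), Subgroup.mem_sup_right hr⟩, hκT⟩, ?_, ?_⟩
        · show κ _ ∈ R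
          rw [hκe]
          exact hgR r hr
        · refine Eq.trans h3.symm ?_
          exact (Cfsg.Agent.Fusion.toFn_apply ω hm).symm
    have hfin : (Set.range fun φ : F.Hom R => (φ.1).range).Finite := by
      refine Set.Finite.subset (Set.finite_range (fun H : Subgroup S => H.map S.subtype)) ?_
      rintro _ ⟨φ, rfl⟩
      exact ⟨(φ.1).range.subgroupOf S, Subgroup.map_subgroupOf_eq_of_le
        (by rintro _ ⟨x, rfl⟩; exact (F.le_of_mem φ.2).2 x)⟩
    rw [hgen]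
    obtain ⟨s, hs⟩ := hfin.exists_finset_coe
    rw [← hs, ← Finset.sup_id_eq_sSup]
    refine Finset.sup_induction ?_ ?_ fun b hb => ?_
    · exact Cfsg.Agent.FusionChain.isNormal_iff.2 ⟨bot_le, fun P f hf =>
        ⟨f, by rwa [sup_bot_eq], fun _ _ => rfl, fun q hq => by
          rw [Subgroup.mem_bot] at hq ⊢; rw [hq, hf.map_one]⟩⟩
    · intro a ha b hb
      refine Cfsg.Agent.FusionChain.isNormal_iff.2 ⟨sup_le ha.1 hb.1, fun P f hf => ?_⟩
      obtain ⟨g, hg, hgf, hga⟩ := (Cfsg.Agent.FusionChain.isNormal_iff.1 ha).2 P f hf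
      obtain ⟨k, hk, hkg, hkb⟩ := (Cfsg.Agent.FusionChain.isNormal_iff.1 hb).2 _ g hg
      refine ⟨k, hk.mono (sup_assoc P a b).ge, fun x hx => by rw [hkg x (Subgroup.mem_sup_left hx), hgf x hx],
        fun q hq => ?_⟩
      obtain ⟨κ, -, hκ⟩ := id hk
      have hle : a ⊔ b ≤ ((a ⊔ b).comap κ).map ((P ⊔ a) ⊔ b).subtype := by
        refine sup_le (fun y hy => ?_) (fun y hy => ?_)
        · refine ⟨⟨y, Subgroup.mem_sup_left (Subgroup.mem_sup_right hy)⟩, ?_, rfl⟩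
          show κ _ ∈ a ⊔ b
          rw [hκ, hkg y (Subgroup.mem_sup_right hy)]
          exact Subgroup.mem_sup_left (hga y hy)
        · refine ⟨⟨y, Subgroup.mem_sup_right hy⟩, ?_, rfl⟩
          show κ _ ∈ a ⊔ b
          rw [hκ]
          exact Subgroup.mem_sup_right (hkb y hy)
      obtain ⟨⟨y, hy'⟩, hy, rfl⟩ := hle hq
      show k y ∈ a ⊔ b
      rw [← hκ y hy']
      exact hy
    · obtain ⟨φ, rfl⟩ := hs.subset hb
      exact himg φ
  -- every automorphism of `T` in the system preserves `W`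
  have hαW : ∀ α ∈ F.autGroup T, ∀ x ∈ W, Cfsg.Agent.Fusion.autFn α x ∈ W := by
    intro α hα x hx
    have hm := (Cfsg.Agent.Fusion.isIso_autFn hTS hα).1
    have hle : Cfsg.Agent.Fusion.img (Cfsg.Agent.Fusion.autFn α) W ≤ W := by
      obtain ⟨κ, -, hκ⟩ := id hm
      have hle : W ≤ (W.comap κ).map T.subtype := by
        refine (Subgroup.closure_le _).2 ?_
        rintro _ ⟨φ, hφ, r, rfl⟩
        refine ⟨⟨φ r, hT.2 R hR.1 φ hφ r⟩, ?_, rfl⟩
        show κ _ ∈ W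
        rw [hκ]
        obtain ⟨χ, hχ, he⟩ := (Cfsg.Agent.Fusion.isMap_toFn hφ).comp hm
          (fun y hy => by rw [Cfsg.Agent.Fusion.toFn_apply φ hy]; exact hT.2 R hR.1 φ hφ ⟨y, hy⟩)
        refine Subgroup.subset_closure ⟨χ, hχ, r, ?_⟩
        refine Eq.trans ?_ (he r r.2).symm
        exact (congrArg (Cfsg.Agent.Fusion.autFn α) (Cfsg.Agent.Fusion.toFn_coe φ r)).symm
      refine hm.img_le hWT fun y hy => ?_
      obtain ⟨⟨z, hz'⟩, hz, rfl⟩ := hle hy
      show Cfsg.Agent.Fusion.autFn α z ∈ W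
      rw [← hκ z hz']
      exact hz
    exact hle (hm.mem_img hx)
  refine Cfsg.Agent.S5290.isNormal_of_series hS hF (hWT.trans hTS) fun P f hf hP => ?_
  obtain ⟨ψ, hψ, he⟩ := hf
  obtain ⟨α, hα, φ₀, hφ₀, h₀⟩ := hfrat P (hP.trans hWT) ψ hψ
  obtain ⟨β, -, hβ⟩ := Cfsg.Agent.FusionChain.exists_top_extension_of_normal hWE (Cfsg.Agent.Fusion.isMap_toFn hφ₀)
  have hm : Cfsg.Agent.Fusion.IsMap F W (Cfsg.Agent.Fusion.autFn α) :=
    ((Cfsg.Agent.Fusion.isIso_autFn hTS hα).1).mono hWT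
  have hiso : Cfsg.Agent.Fusion.IsIso F W W (Cfsg.Agent.Fusion.autFn α) :=
    ⟨hm, Cfsg.Agent.Fusion.eq_of_le_of_card (hWT.trans hTS) (hm.img_le le_rfl (hαW α hα)) (hm.card_img le_rfl).ge⟩
  refine ⟨hiso.equiv * β, fun x hx => ?_⟩
  have hb : φ₀ ⟨x, hx⟩ = Cfsg.Agent.Fusion.autFn β x := by
    rw [hβ x hx (hP hx), Cfsg.Agent.Fusion.toFn_apply φ₀ hx]
  have hmem : φ₀ ⟨x, hx⟩ ∈ T := (E.le_of_mem hφ₀).2 _
  rw [← he x hx, h₀ ⟨x, hx⟩ hmem, Cfsg.Agent.Fusion.autFn_apply _ (hP hx), MulAut.mul_apply,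
    Cfsg.Agent.Fusion.IsIso.equiv_apply, ← Cfsg.Agent.Fusion.autFn_apply β (hP hx), ← hb,
    Cfsg.Agent.Fusion.autFn_apply α hmem]

end Cfsg.Agent.S5291
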