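import Cfsg.Statements.S5292
import Cfsg.Agent.Lib.Fusion.Realized
import Cfsg.Agent.Lib.FusionIso.Realize
import Cfsg.Agent.Lib.HallHigman.PSolvable
import Cfsg.Agent.Lib.PLocal.ActionStable
import Cfsg.Agent.EqLemmas

set_option autoImplicit false
universe u
open Cfsg

namespace Cfsg.Agent.S5292

/-- Let F be a saturated fusion system over a finite p-group S. Then F is the fusion system of some finite p-solvable group on a Sylow p-subgroup if and only if F is constrained (some subgroup normal in F is centric in F) and the group of automorphisms that F induces on its largest normal subgroup O_p(F) is p-solvable. -/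
theorem result {Ω : Type u} [Group Ω] {S : Subgroup Ω} [Finite S] (p : ℕ) [Fact p.Prime] (hS : IsPGroup p S)
    (F : Cfsg.FusionSystem S) (hF : F.IsSaturated p) :
    (∃ (G : Type u) (_ : Group G) (_ : Finite G) (ι : S →* G), Cfsg.IsPSolvable p G ∧ F.IsRealizedBy ι ∧
        ∃ T : Sylow p G, (T : Subgroup G) = ι.range) ↔
      (F.IsConstrained p ∧ Cfsg.IsPSolvable p ↥(F.autGroup F.core)) := by
  haveI : Finite (MulAut F.core) := by
    haveI : Finite F.core := Fusion.finite_of_le (sSup_le fun _ h => h.1)
    exact Finite.of_injective (fun f => (⇑f : F.core → F.core)) DFunLike.coe_injective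
  constructor
  · rintro ⟨G, _, _, ι, hsol, hι, T, hT⟩
    set K := Cfsg.pPrimeCore p G
    have hK : (Nat.card K).Coprime p := Cores.coprime_card_pPrimeCore p
    have hG : F.IsModel p (G ⧸ K) ((QuotientGroup.mk' K).comp ι) :=
      ⟨inferInstance, FusionIso.isRealizedBy_quotient hS hι hK,
        ⟨T.mapSurjective (QuotientGroup.mk'_surjective K), by
          rw [MonoidHom.range_comp, ← hT]; rfl⟩,
        HallHigman.centralizer_pCore_le_of_isPSolvable
          (PLocal.isPSolvable_surjective hsol _ (QuotientGroup.mk'_surjective K))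
          (Cores.pPrimeCore_quotient_self p)⟩
    have hc := Fusion.model_isConstrained hG
    have h := Fusion.nc_core hS hc
    haveI := h.finite_mdl
    obtain ⟨ψ, -⟩ := Fusion.model_equiv hG hS h
    exact ⟨hc, PLocal.isPSolvable_surjective
      (PLocal.isPSolvable_surjective hsol _ (QuotientGroup.mk'_surjective K))
      (h.proj.comp ψ.toMonoidHom) (h.proj_surjective.comp ψ.surjective)⟩
  · rintro ⟨hc, hsol⟩
    have h := Fusion.nc_core hS hc
    haveI := h.finite_mdl
    obtain ⟨_, hι, hT, -⟩ := h.isModel_emb
    have hker : IsPGroup p h.proj.ker := by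
      refine (hS.of_surjective h.emb.rangeRestrict h.emb.rangeRestrict_surjective).to_le ?_
      intro g hg
      obtain ⟨z, -, rfl⟩ := h.ker_proj g hg
      exact ⟨z, rfl⟩
    refine ⟨h.Mdl, inferInstance, inferInstance, h.emb,
      ClassIndex.isPSolvable_of_ext h.proj.ker (Or.inl (IsPGroup.iff_card.1 hker)) ?_, hι, hT⟩
    exact PLocal.isPSolvable_surjective hsol
      (QuotientGroup.quotientKerEquivOfSurjective h.proj h.proj_surjective).symm.toMonoidHom
      (MulEquiv.surjective _)

end Cfsg.Agent.S5292
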