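import Cfsg.Statements.S5294
import Cfsg.Agent.EqLemmas

set_option autoImplicit false
universe u
open Cfsg

namespace Cfsg.Agent.S5294

variable {Ω : Type*} [Group Ω] {S : Subgroup Ω}

/-- Restriction of a map of the system. -/
theorem restrict_mem (F : Cfsg.FusionSystem S) {P P' : Subgroup Ω} {φ : P' →* Ω} (hφ : φ ∈ F.Hom P')
    (hle : P ≤ P') : φ.comp (Subgroup.inclusion hle) ∈ F.Hom P := by
  have h1 : Cfsg.conjHom P (1 : Ω) ∈ F.Hom P := F.conj_mem (hle.trans (F.le_of_mem hφ).1) S.one_mem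
  have hc : ∀ x : P, Cfsg.conjHom P (1 : Ω) x ∈ P' := fun x => by
    simpa [Cfsg.conjHom] using hle x.2
  have heq : φ.comp (Subgroup.inclusion hle) = φ.comp ((Cfsg.conjHom P (1 : Ω)).codRestrict P' hc) := by
    refine MonoidHom.ext fun x => ?_
    show φ _ = φ _
    exact congrArg φ (Subtype.ext (by simp [Cfsg.conjHom, Subgroup.inclusion]))
  rw [heq]
  exact F.comp_mem h1 hφ hc

theorem isNormal_bot (F : Cfsg.FusionSystem S) : F.IsNormal ⊥ := by
  refine ⟨bot_le, fun P φ hφ => ⟨φ.comp (Subgroup.inclusion (sup_le le_rfl bot_le)),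
    restrict_mem F hφ _, fun x => congrArg φ (Subtype.ext rfl), ?_⟩⟩
  rw [Subgroup.bot_subgroupOf, Subgroup.map_bot]

theorem isNormal_sup (F : Cfsg.FusionSystem S) {Q R : Subgroup Ω} (hQ : F.IsNormal Q) (hR : F.IsNormal R) :
    F.IsNormal (Q ⊔ R) := by
  refine ⟨sup_le hQ.1 hR.1, fun P φ hφ => ?_⟩
  obtain ⟨ψ, hψ, hψP, hψQ⟩ := hQ.2 P φ hφ
  obtain ⟨χ, hχ, hχP, hχR⟩ := hR.2 (P ⊔ Q) ψ hψ
  have hle : P ⊔ (Q ⊔ R) ≤ (P ⊔ Q) ⊔ R := (sup_assoc P Q R).ge
  refine ⟨χ.comp (Subgroup.inclusion hle), restrict_mem F hχ hle, fun x => ?_, ?_⟩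
  · rw [← hψP x, ← hχP]
    exact congrArg χ (Subtype.ext rfl)
  · rw [Subgroup.subgroupOf_sup (le_sup_left.trans le_sup_right) (le_sup_right.trans le_sup_right),
      Subgroup.map_sup]
    refine congrArg₂ (· ⊔ ·) ?_ ?_
    · conv_rhs => rw [← hψQ]
      ext y
      simp only [Subgroup.mem_map, Subgroup.mem_subgroupOf]
      constructor
      · rintro ⟨x, hx, rfl⟩
        refine ⟨⟨x, Subgroup.mem_sup_right hx⟩, hx, ?_⟩
        rw [← hχP]
        exact congrArg χ (Subtype.ext rfl)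
      · rintro ⟨x, hx, rfl⟩
        refine ⟨⟨x, Subgroup.mem_sup_right (Subgroup.mem_sup_left hx)⟩, hx, ?_⟩
        rw [← hχP]
        exact congrArg χ (Subtype.ext rfl)
    · conv_rhs => rw [← hχR]
      ext y
      simp only [Subgroup.mem_map, Subgroup.mem_subgroupOf]
      constructor
      · rintro ⟨x, hx, rfl⟩
        exact ⟨⟨x, Subgroup.mem_sup_right hx⟩, hx, congrArg χ (Subtype.ext rfl)⟩
      · rintro ⟨x, hx, rfl⟩
        exact ⟨⟨x, Subgroup.mem_sup_right (Subgroup.mem_sup_right hx)⟩, hx, congrArg χ (Subtype.ext rfl)⟩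

theorem isNormal_core [Finite S] (F : Cfsg.FusionSystem S) : F.IsNormal F.core := by
  have hfin : {Q : Subgroup Ω | F.IsNormal Q}.Finite := by
    refine Set.Finite.subset (Set.finite_range (fun H : Subgroup S => H.map S.subtype)) fun Q hQ => ?_
    exact ⟨Q.subgroupOf S, Subgroup.map_subgroupOf_eq_of_le hQ.1⟩
  unfold Cfsg.FusionSystem.core
  obtain ⟨s, hs⟩ := hfin.exists_finset_coe
  rw [← hs, ← Finset.sup_id_eq_sSup]
  exact Finset.sup_induction (isNormal_bot F) (fun a ha b hb => isNormal_sup F ha hb)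
    (fun b hb => hs.subset hb)

/-- The fixed points of `H` have a complement in the fixed points of a subgroup of index prime to `p`. -/
theorem exists_complement_fixed {p : ℕ} [Fact p.Prime] {A H : Type*} [CommGroup A] [Group H] [Finite H]
    [MulDistribMulAction H A] (hA : IsPGroup p A) (P : Subgroup H) (hP : ¬ p ∣ P.index) :
    ∃ K : Subgroup A, (∀ a ∈ K, ∀ x ∈ P, x • a = a) ∧ (∀ a ∈ K, (∀ h : H, h • a = a) → a = 1) ∧
      ∀ a : A, (∀ x ∈ P, x • a = a) → ∃ b, (∀ h : H, h • b = b) ∧ b⁻¹ * a ∈ K := by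
  classical
  let _ : Fintype (H ⧸ P) := Fintype.ofFinite _
  have hcop : ∀ a : A, (orderOf a).Coprime P.index := fun a => by
    obtain ⟨k, hk⟩ := IsPGroup.iff_orderOf.mp hA a
    rw [hk]
    exact ((Nat.Prime.coprime_iff_not_dvd Fact.out).mpr hP).pow_left k
  let tr : A →* A :=
    { toFun := fun a => ∏ c : H ⧸ P, c.out • a
      map_one' := by simp
      map_mul' := fun a b => by simp [Finset.prod_mul_distrib] }
  have trfix : ∀ a : A, (∀ x ∈ P, x • a = a) → ∀ h : H, h • tr a = tr a := by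
    intro a ha h
    show h • (∏ c : H ⧸ P, c.out • a) = _
    rw [Finset.smul_prod']
    refine Fintype.prod_equiv (MulAction.toPerm h : (H ⧸ P) ≃ (H ⧸ P)) _ _ fun c => ?_
    show h • c.out • a = (h • c).out • a
    have hmk : (QuotientGroup.mk (h • c).out : H ⧸ P) = QuotientGroup.mk (h * c.out) := by
      rw [QuotientGroup.out_eq']
      conv_lhs => rw [← QuotientGroup.out_eq' c]
      rfl
    obtain ⟨x, hx⟩ : ∃ x ∈ P, h * c.out = (h • c).out * x :=
      ⟨(h • c).out⁻¹ * (h * c.out), QuotientGroup.eq.mp hmk, by group⟩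
    rw [← mul_smul, hx.2, mul_smul, ha x hx.1]
  refine ⟨{ carrier := {a | (∀ x ∈ P, x • a = a) ∧ tr a = 1}
            one_mem' := ⟨fun x _ => smul_one x, map_one _⟩
            mul_mem' := fun {a b} ha hb => ⟨fun x hx => by rw [smul_mul', ha.1 x hx, hb.1 x hx],
              by rw [map_mul, ha.2, hb.2, one_mul]⟩
            inv_mem' := fun {a} ha => ⟨fun x hx => by rw [smul_inv', ha.1 x hx],
              by rw [map_inv, ha.2, inv_one]⟩ }, fun a ha => ha.1, ?_, ?_⟩
  · rintro a ⟨-, ha⟩ hfix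
    have h1 : a ^ P.index = 1 := by
      rw [← ha]
      show _ = ∏ c : H ⧸ P, c.out • a
      simp [hfix, Subgroup.index, Nat.card_eq_fintype_card]
    exact orderOf_eq_one_iff.mp (Nat.eq_one_of_dvd_coprimes (hcop a) dvd_rfl (orderOf_dvd_of_pow_eq_one h1))
  · intro a ha
    obtain ⟨m, hm⟩ := exists_pow_eq_self_of_coprime (hcop (tr a)).symm
    refine ⟨tr a ^ m, fun h => by rw [smul_pow', trfix a ha], fun x hx => ?_, ?_⟩
    · rw [smul_mul', smul_inv', smul_pow', trfix a ha, ha x hx]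
    · rw [map_mul, map_inv, map_pow]
      have : tr (tr a) = tr a ^ P.index := by
        show (∏ c : H ⧸ P, c.out • tr a) = _
        simp [trfix a ha, Subgroup.index, Nat.card_eq_fintype_card]
      rw [this, hm, inv_mul_cancel]

/-- Let F be a saturated fusion system over a finite p-group S whose centre Z(S) lies in the largest subgroup O_p(F) normal in F. Then the centre Z(F) of F is a direct factor of Z(S): there is a subgroup K of Z(S) with Z(F) ∩ K = 1 and Z(F)K = Z(S). -/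
theorem result {Ω : Type u} [Group Ω] {S : Subgroup Ω} [Finite S] (p : ℕ) [Fact p.Prime] (hS : IsPGroup p S)
    (F : Cfsg.FusionSystem S) (hF : F.IsSaturated p) (hZ : (S ⊓ Subgroup.centralizer (S : Set Ω)) ≤ F.core) :
    ∃ K : Subgroup Ω, K ≤ (S ⊓ Subgroup.centralizer (S : Set Ω)) ∧ F.center ⊓ K = ⊥ ∧ F.center ⊔ K = (S ⊓ Subgroup.centralizer (S : Set Ω)) := by
  set Q := F.core with hQdef
  have hQ : F.IsNormal Q := isNormal_core F
  set A : Subgroup Ω := S ⊓ Subgroup.centralizer (S : Set Ω) with hAdef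
  have hrange : ∀ φ ∈ F.Hom Q, φ.range = Q := by
    intro φ hφ
    obtain ⟨ψ, -, hψ, hψQ⟩ := hQ.2 Q φ hφ
    conv_rhs => rw [← hψQ]
    ext y
    simp only [MonoidHom.mem_range, Subgroup.mem_map, Subgroup.mem_subgroupOf]
    constructor
    · rintro ⟨x, rfl⟩
      exact ⟨Subgroup.inclusion le_sup_left x, x.2, hψ x⟩
    · rintro ⟨x, hx, rfl⟩
      exact ⟨⟨x, hx⟩, (hψ _).symm.trans (congrArg ψ (Subtype.ext rfl))⟩
  -- the full group of automorphisms and the Sylow subgroup induced by `S`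
  obtain ⟨Q', ⟨φ₀, hφ₀, hφ₀r⟩, ⟨-, R, hR⟩, -⟩ := hF Q hQ.1
  obtain rfl : Q = Q' := (hrange φ₀ hφ₀).symm.trans hφ₀r
  have hfinQ : Finite Q := Finite.of_injective _ (Subgroup.inclusion_injective hQ.1)
  let H := F.autGroup Q
  have hfinM : Finite (MulAut Q) := inferInstance
  let C : Subgroup Q := Subgroup.center Q
  let _ : MulDistribMulAction H C :=
    { smul := fun h c => ⟨(h : MulAut Q) c, Subgroup.mem_center_iff.mpr fun y => by
        have := Subgroup.mem_center_iff.mp c.2 ((h : MulAut Q).symm y)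
        simpa using congrArg (h : MulAut Q) this⟩
      one_smul := fun c => Subtype.ext rfl
      mul_smul := fun g h c => Subtype.ext rfl
      smul_mul := fun h a b => Subtype.ext (map_mul (h : MulAut Q) _ _)
      smul_one := fun h => Subtype.ext (map_one (h : MulAut Q)) }
  let _ : CommGroup C := { (inferInstance : Group C) with
    mul_comm := fun a b => Subtype.ext (Subgroup.mem_center_iff.mp b.2 a) }
  have hC : IsPGroup p C := ((hS.to_le hQ.1)).to_subgroup C
  obtain ⟨K, hK1, hK2, hK3⟩ := exists_complement_fixed hC (R : Subgroup H) R.not_dvd_index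
  -- fixed by the Sylow subgroup means central in `S`
  have hA : ∀ c : C, (∀ x ∈ (R : Subgroup H), x • c = c) ↔ ((c : Q) : Ω) ∈ A := by
    intro c
    constructor
    · intro h
      refine ⟨hQ.1 (c : Q).2, fun s hs => ?_⟩
      have hn : s ∈ Subgroup.normalizer (Q : Set Ω) := by
        obtain ⟨ψ, hψ⟩ : ∃ ψ ∈ F.Hom Q, ∀ x : Q, ψ x = s * (x : Ω) * s⁻¹ :=
          ⟨Cfsg.conjHom Q s, F.conj_mem hQ.1 hs, fun x => rfl⟩
        rw [Subgroup.mem_normalizer_iff]
        intro y
        constructor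
        · intro hy
          rw [← hψ.2 ⟨y, hy⟩]
          exact (hrange ψ hψ.1).le ⟨_, rfl⟩
        · intro hy
          rw [← hrange ψ hψ.1] at hy
          obtain ⟨z, hz⟩ := hy
          rw [hψ.2] at hz
          rw [← mul_left_cancel (mul_right_cancel hz)]
          exact z.2
      let α : MulAut Q :=
        { toFun := fun x => ⟨s * x * s⁻¹, (Subgroup.mem_normalizer_iff.mp hn x).mp x.2⟩
          invFun := fun x => ⟨s⁻¹ * x * s, by
            rw [Subgroup.mem_normalizer_iff.mp hn]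
            simp [mul_assoc]⟩
          left_inv := fun x => Subtype.ext (by simp [mul_assoc])
          right_inv := fun x => Subtype.ext (by simp [mul_assoc])
          map_mul' := fun x y => Subtype.ext (by simp [mul_assoc]) }
      have hαS : α ∈ Cfsg.autInducedBy S Q := Subgroup.subset_closure ⟨s, hs, fun x => rfl⟩
      have hαH : α ∈ H := Subgroup.subset_closure (by
        have : Q.subtype.comp α.toMonoidHom = Cfsg.conjHom Q s := rfl
        show _ ∈ F.Hom Q
        rw [this]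
        exact F.conj_mem hQ.1 hs)
      have := h ⟨α, hαH⟩ (hR ▸ hαS)
      have h2 : s * ((c : Q) : Ω) * s⁻¹ = ((c : Q) : Ω) := congrArg (fun z : C => ((z : Q) : Ω)) this
      exact mul_inv_eq_iff_eq_mul.mp h2
    · intro hc x hx
      rw [hR] at hx
      have hle : Cfsg.autInducedBy S Q ≤ MulAction.stabilizer (MulAut Q) (c : Q) := by
        refine (Subgroup.closure_le _).mpr ?_
        rintro α ⟨s, hs, hα⟩
        refine Subtype.ext ((hα _).trans ?_)
        rw [hc.2 s hs, mul_inv_cancel_right]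
      exact Subtype.ext (hle hx)
  -- the centre of the system consists of the points fixed by the automorphism group
  have hcore : ∀ X : Subgroup Ω, F.IsCentral X → X ≤ Q := by
    rintro X ⟨hX, hext⟩
    refine le_sSup ⟨hX, fun P φ hφ => ?_⟩
    obtain ⟨ψ, hψ, hψP, hψX⟩ := hext P φ hφ
    refine ⟨ψ, hψ, hψP, ?_⟩
    ext y
    simp only [Subgroup.mem_map, Subgroup.mem_subgroupOf]
    constructor
    · rintro ⟨x, hx, rfl⟩
      have : x = Subgroup.inclusion le_sup_right (⟨x, hx⟩ : X) := Subtype.ext rfl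
      rw [this, hψX]
      exact hx
    · intro hy
      exact ⟨Subgroup.inclusion le_sup_right (⟨y, hy⟩ : X), hy, hψX ⟨y, hy⟩⟩
  have hcen : ∀ c : C, (∀ h : H, h • c = c) ↔ ((c : Q) : Ω) ∈ F.center := by
    intro c
    constructor
    · intro hc
      refine SetLike.le_def.mp (le_sSup (show Subgroup.zpowers ((c : Q) : Ω) ∈
        {X : Subgroup Ω | F.IsCentral X} from ?_)) (Subgroup.mem_zpowers _)
      refine ⟨Subgroup.zpowers_le.mpr (hQ.1 (c : Q).2), fun P φ hφ => ?_⟩
      obtain ⟨ψ, hψ, hψP, hψQ⟩ := hQ.2 P φ hφ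
      have hle : P ⊔ Subgroup.zpowers ((c : Q) : Ω) ≤ P ⊔ Q :=
        sup_le_sup_left (Subgroup.zpowers_le.mpr (c : Q).2) P
      refine ⟨ψ.comp (Subgroup.inclusion hle), restrict_mem F hψ hle, fun x => ?_, ?_⟩
      · rw [← hψP x]
        exact congrArg ψ (Subtype.ext rfl)
      · rintro ⟨x, n, rfl⟩
        have hres := restrict_mem F hψ (le_sup_right : Q ≤ P ⊔ Q)
        let χ := ψ.comp (Subgroup.inclusion (le_sup_right : Q ≤ P ⊔ Q))
        have hχQ : χ.range = Q := hrange χ hres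
        let α : MulAut Q := (MonoidHom.ofInjective (F.injective_of_mem hres)).trans
          (MulEquiv.subgroupCongr hχQ)
        have hα : α ∈ H := Subgroup.subset_closure (show Q.subtype.comp α.toMonoidHom ∈ F.Hom Q from hres)
        have h2 : χ ((c : Q) ^ n) = ((c : Q) : Ω) ^ n := by
          rw [map_zpow]
          exact congrArg (· ^ n) (congrArg (fun z : C => ((z : Q) : Ω)) (hc ⟨α, hα⟩))
        exact (congrArg ψ (Subtype.ext (by simp [Subgroup.inclusion]))).trans h2
    · intro hc h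
      have hle : H ≤ MulAction.stabilizer (MulAut Q) (c : Q) := by
        refine (Subgroup.closure_le _).mpr fun α hα => ?_
        have : F.center ≤ (MonoidHom.eqLocus (Q.subtype.comp α.toMonoidHom) Q.subtype).map Q.subtype := by
          refine sSup_le fun X hX x hx => ⟨⟨x, hcore X hX hx⟩, ?_, rfl⟩
          obtain ⟨ψ, hψ, hψQ, hψX⟩ := hX.2 Q (Q.subtype.comp α.toMonoidHom) hα
          show Q.subtype.comp α.toMonoidHom ⟨x, hcore X hX hx⟩ = x
          rw [← hψQ]
          exact (congrArg ψ (Subtype.ext rfl)).trans (hψX ⟨x, hx⟩)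
        obtain ⟨z, hz, hzc⟩ := this hc
        obtain rfl : z = (c : Q) := Subtype.ext hzc
        exact Subtype.ext hz
      exact Subtype.ext (hle h.2)
  have hAQ : A ≤ Q := hZ
  have hAC : ∀ a : Ω, ∀ ha : a ∈ A, (⟨a, hAQ ha⟩ : Q) ∈ C := fun a ha =>
    Subgroup.mem_center_iff.mpr fun y => Subtype.ext (ha.2 y (hQ.1 y.2))
  have hFA : F.center ≤ A := le_inf (sSup_le fun X hX => hX.1) F.center_le_centralizer
  refine ⟨(K.map C.subtype).map Q.subtype, ?_, ?_, ?_⟩
  · rintro _ ⟨_, ⟨k, hk, rfl⟩, rfl⟩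
    exact (hA k).mp (hK1 k hk)
  · rw [eq_bot_iff]
    rintro x ⟨hxF, _, ⟨k, hk, rfl⟩, rfl⟩
    rw [hK2 k hk ((hcen k).mpr hxF)]
    simp
  · refine le_antisymm (sup_le hFA ?_) ?_
    · rintro _ ⟨_, ⟨k, hk, rfl⟩, rfl⟩
      exact (hA k).mp (hK1 k hk)
    · intro a ha
      let c : C := ⟨⟨a, hAQ ha⟩, hAC a ha⟩
      obtain ⟨b, hb, hbc⟩ := hK3 c ((hA c).mpr ha)
      have hsplit : a = ((b : Q) : Ω) * (((b⁻¹ * c : C) : Q) : Ω) := by
        show a = ((b : Q) : Ω) * (((b : Q) : Ω)⁻¹ * a)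
        rw [mul_inv_cancel_left]
      rw [hsplit]
      exact Subgroup.mul_mem_sup ((hcen b).mp hb) ⟨_, ⟨_, hbc, rfl⟩, rfl⟩

end Cfsg.Agent.S5294
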