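import Cfsg.Statements.S5295
import Cfsg.Agent.S5193
import Cfsg.Agent.S5294
import Cfsg.Agent.Lib.Fusion.ThompsonCrit
import Cfsg.Agent.EqLemmas

set_option autoImplicit false
universe u
open Cfsg

namespace Cfsg.Agent.S5295

/-- The centre depends only on the maps. -/
theorem center_congr {Ω : Type*} [Group Ω] {T T' : Subgroup Ω} (h : T = T')
    {E : Cfsg.FusionSystem T} {E' : Cfsg.FusionSystem T'} (hH : ∀ P, E.Hom P = E'.Hom P) :
    E.center = E'.center := by
  subst h
  rw [Fusion.ext_of_hom hH]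

/-- Let F be a saturated fusion system over a finite p-group S with p odd. Then the centre Z(F) of F is a direct factor of Z(S): there is a subgroup K of Z(S) with Z(F) ∩ K = 1 and Z(F)K = Z(S). (At the prime 2 this can fail.) -/
theorem result {Ω : Type u} [Group Ω] {S : Subgroup Ω} [Finite S] (p : ℕ) [Fact p.Prime] (hp : p ≠ 2) (hS : IsPGroup p S)
    (F : Cfsg.FusionSystem S) (hF : F.IsSaturated p) :
    ∃ K : Subgroup Ω, K ≤ (S ⊓ Subgroup.centralizer (S : Set Ω)) ∧ F.center ⊓ K = ⊥ ∧ F.center ⊔ K = (S ⊓ Subgroup.centralizer (S : Set Ω)) := by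
  set J := Cfsg.thompsonSubgroupAOf S with hJdef
  have hJS : J ≤ S := PLocal.thompsonSubgroupAOf_le S
  have hJn : Cfsg.FusionSystem.normalizerIn S J = S := inf_eq_left.2
    (Subgroup.le_normalizer.trans (PLocal.normalizer_le_normalizer_thompsonSubgroupAOf S))
  obtain ⟨N, hN⟩ := Fusion.exists_normalizerSystem (F := F) hJS
  have hJfn : F.IsFullyNormalized J :=
    ⟨hJS, fun R _ => hJn.symm ▸ Subgroup.card_le_of_le inf_le_left⟩
  have hsat := Fusion.isSaturated_normalizer hS hF hJfn hN
  obtain ⟨N', hN'⟩ := Fusion.exists_system_congr hJn N (H := N.Hom) fun _ => rfl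
  have hH : ∀ P, N.Hom P = N'.Hom P := fun P => (hN' P).symm
  have hJN : N'.IsNormal J :=
    Fusion.normalizerSystem_congr hJn hH (Fusion.normal_in_normalizer hJS hN)
  have hZ : S ⊓ Subgroup.centralizer (S : Set Ω) ≤ N'.core := fun x hx =>
    Fusion.normal_le_core hJN (Fusion.centralizerIn_thompsonA_le
      (show x ∈ Cfsg.FusionSystem.centralizerIn S (Cfsg.thompsonSubgroupAOf S) from
        ⟨hx.1, Subgroup.centralizer_le (SetLike.coe_subset_coe.2 hJS) hx.2⟩))
  have hc : F.center = N'.center := by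
    rw [← ((S5193.result p hS F hF N hN).2 (Or.inl hp)), center_congr hJn hH]
  rw [hc]
  exact S5294.result p hS N' (Fusion.isSaturated_congr hJn hH hsat) hZ

end Cfsg.Agent.S5295
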