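import Cfsg.Statements.S5296
import Cfsg.Agent.Lib.FusionSmallControl.Main
-- import your own Cfsg.Agent.* helpers here

set_option autoImplicit false
universe u
open Cfsg

namespace Cfsg.Agent.S5296

/-- Small-exponent abelian subgroups of the hyperfocal subgroup control fusion. Let E and F be saturated fusion systems over the same finite p-group S with E contained in F. Suppose that E and F have the same maps between A and B for all subgroups A, B of the hyperfocal subgroup of F that are elementary abelian when p is odd, respectively abelian of exponent dividing 4 when p = 2. Then E = F. -/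
theorem result {Ω : Type u} [Group Ω] {S : Subgroup Ω} [Finite S] (p : ℕ) [Fact p.Prime] (hS : IsPGroup p S)
    (E F : Cfsg.FusionSystem S) (hE : E.IsSaturated p) (hF : F.IsSaturated p) (hEF : E.IsSubsystemOf F)
    (hodd : p ≠ 2 → ∀ A B : Subgroup Ω, A ≤ (F.hyperfocalSubgroup p) → B ≤ (F.hyperfocalSubgroup p) →
      Cfsg.IsElementaryAbelian p A → Cfsg.IsElementaryAbelian p B → E.homSet A B = F.homSet A B)
    (htwo : p = 2 → ∀ A B : Subgroup Ω, A ≤ (F.hyperfocalSubgroup p) → B ≤ (F.hyperfocalSubgroup p) →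
      IsMulCommutative ↥A → IsMulCommutative ↥B → (∀ a ∈ A, a ^ 4 = 1) → (∀ b ∈ B, b ^ 4 = 1) → E.homSet A B = F.homSet A B) :
    ∀ P : Subgroup Ω, E.Hom P = F.Hom P := by
  intro P
  refine Set.Subset.antisymm (hEF P) fun φ hφ => Cfsg.Agent.Fusion.mem_of_isMap
    (Cfsg.Agent.FusionSmallControl.isMap_of_agree p _ le_rfl hS hE hF hEF ?_ P _ (Cfsg.Agent.Fusion.isMap_toFn hφ))
    fun x => (Cfsg.Agent.Fusion.toFn_coe φ x).symm
  intro A hA hAs f hf hfh
  have hB : Cfsg.Agent.Fusion.img f A ≤ F.hyperfocalSubgroup p := hf.img_le le_rfl hfh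
  have hBs := Cfsg.Agent.FusionSmallControl.small_img hAs hf le_rfl
  have key : E.homSet A (Cfsg.Agent.Fusion.img f A) = F.homSet A (Cfsg.Agent.Fusion.img f A) := by
    by_cases hp : p = 2
    · exact htwo hp A _ hA hB
        ⟨⟨fun a b => Subtype.ext (hAs.comm a a.2 b b.2)⟩⟩ ⟨⟨fun a b => Subtype.ext (hBs.comm a a.2 b b.2)⟩⟩
        (fun a ha => by have := hAs.pow a ha; rwa [hp] at this)
        (fun b hb => by have := hBs.pow b hb; rwa [hp] at this)
    · exact hodd hp A _ hA hB
        ⟨⟨⟨fun a b => Subtype.ext (hAs.comm a a.2 b b.2)⟩⟩, fun a ha => by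
          have := hAs.pow a ha; rwa [Cfsg.Agent.FusionSmallControl.qexp_odd hp] at this⟩
        ⟨⟨⟨fun a b => Subtype.ext (hBs.comm a a.2 b b.2)⟩⟩, fun a ha => by
          have := hBs.pow a ha; rwa [Cfsg.Agent.FusionSmallControl.qexp_odd hp] at this⟩
  obtain ⟨ψ, hψ, e⟩ := hf
  have hm : ψ ∈ E.homSet A (Cfsg.Agent.Fusion.img f A) := by
    rw [key]
    exact ⟨hψ, fun x => by
      rw [e x x.2]; exact Cfsg.Agent.Fusion.IsMap.mem_img (Cfsg.Agent.Fusion.isMap_toFn hψ |>.congr
        fun y hy => (Cfsg.Agent.Fusion.toFn_apply ψ hy).trans (e y hy)) x.2⟩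
  exact ⟨ψ, hm.1, e⟩

end Cfsg.Agent.S5296
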