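import Cfsg.Statements.S5297
import Cfsg.Agent.Lib.FusionChain.Hyperfocal
import Cfsg.Agent.Lib.FusionChain.SmallSubgroup

set_option autoImplicit false
universe u
open Cfsg

namespace Cfsg.Agent.S5297

section
open Cfsg.FusionSystem Cfsg.Agent.Fusion Cfsg.Agent.FusionChain

variable {Ω : Type*} [Group Ω] {S : Subgroup Ω}

/-- The upper central series of `S` seen in the ambient group. -/
def Z (S : Subgroup Ω) (i : ℕ) : Subgroup Ω := (Subgroup.upperCentralSeries S i).map S.subtype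

theorem mem_Z_zero {x : Ω} : x ∈ Z S 0 ↔ x = 1 := by
  rw [Z, Subgroup.upperCentralSeries_zero, Subgroup.map_bot, Subgroup.mem_bot]

theorem comm_mem_Z {i : ℕ} {x s : Ω} (hx : x ∈ Z S (i + 1)) (hs : s ∈ S) : x⁻¹ * (s * x * s⁻¹) ∈ Z S i := by
  obtain ⟨y, hy, rfl⟩ := hx
  have h := Subgroup.mem_upperCentralSeries_succ_iff.mp (inv_mem hy) ⟨s, hs⟩
  exact ⟨_, h, by simp [commutatorElement_def, mul_assoc]⟩

theorem exists_Z_eq [Finite S] {p : ℕ} [Fact p.Prime] (hS : IsPGroup p S) : ∃ n, S ≤ Z S n := by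
  have := hS.isNilpotent
  obtain ⟨n, hn⟩ := Group.IsNilpotent.nilpotent (G := S)
  exact ⟨n, fun s hs => ⟨⟨s, hs⟩, by simp [hn], rfl⟩⟩

/-- A map of the system on a small element of the hyperfocal subgroup preserves every term of the series. -/
theorem apply_mem_Z [Finite S] {p : ℕ} [Fact p.Prime] {F : Cfsg.FusionSystem S}
    (h : ∀ A B : Subgroup Ω, A ≤ (F.hyperfocalSubgroup p) → B ≤ (F.hyperfocalSubgroup p) → IsCyclic ↥A →
      (Nat.card ↥A = p ∨ Nat.card ↥A = 4) → IsCyclic ↥B → (Nat.card ↥B = p ∨ Nat.card ↥B = 4) →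
      F.homSet A B ⊆ F.normalizerHom S A)
    {P : Subgroup Ω} {f : Ω → Ω} (hf : IsMap F P f) {x : Ω} (hx : x ∈ P) (hs : IsSmall p x)
    (hxh : x ∈ F.hyperfocalSubgroup p) (hfh : f x ∈ F.hyperfocalSubgroup p) {i : ℕ} (hi : x ∈ Z S i) :
    f x ∈ Z S i := by
  rcases eq_or_ne x 1 with rfl | hne
  · rw [hf.map_one]
    exact one_mem _
  have hxS := hf.le hx
  have hcard : Nat.card (Subgroup.zpowers x) = p ∨ Nat.card (Subgroup.zpowers x) = 4 := by
    rw [Nat.card_zpowers]
    rcases hs with hs | ⟨rfl, hs⟩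
    · exact Or.inl (orderOf_eq_prime hs hne)
    · by_cases h2 : x ^ 2 = 1
      · exact Or.inl (orderOf_eq_prime h2 hne)
      · refine Or.inr ?_
        have := orderOf_eq_prime_pow (p := 2) (n := 1) (x := x) (by simpa using h2) (by simpa using hs)
        simpa using this
  have hA : IsMap F (Subgroup.zpowers x) f := hf.mono (Subgroup.zpowers_le.mpr hx)
  obtain ⟨φ, hφ, he⟩ := hA
  have himg : ∀ a : Subgroup.zpowers x, φ a ∈ Subgroup.zpowers (f x) := by
    rintro ⟨a, n, rfl⟩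
    have : (⟨x ^ n, n, rfl⟩ : Subgroup.zpowers x) = ⟨x, Subgroup.mem_zpowers x⟩ ^ n := Subtype.ext (by simp)
    rw [this, map_zpow, he]
    exact ⟨n, rfl⟩
  have hcard' : Nat.card (Subgroup.zpowers (f x)) = Nat.card (Subgroup.zpowers x) := by
    rw [Nat.card_zpowers, Nat.card_zpowers, ← he x (Subgroup.mem_zpowers x),
      orderOf_injective φ (F.injective_of_mem hφ), Subgroup.orderOf_mk]
  obtain ⟨-, -, -, ψ, hψ, hψA, hψS⟩ := h (Subgroup.zpowers x) (Subgroup.zpowers (f x))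
    (Subgroup.zpowers_le.mpr hxh) (Subgroup.zpowers_le.mpr hfh) inferInstance hcard inferInstance
    (hcard'.symm ▸ hcard) ⟨hφ, himg⟩
  have hle : Subgroup.zpowers x ⊔ S = S := sup_eq_right.mpr (Subgroup.zpowers_le.mpr hxS)
  have hg : IsMap F S (toFn ψ) := (isMap_toFn hψ).mono hle.ge
  have hSS : IsIso F S S (toFn ψ) :=
    ⟨hg, eq_of_le_of_card le_rfl hg.img_le_S (hg.card_img le_rfl).ge⟩
  obtain ⟨γ, -, hγ⟩ := exists_aut_of_isIso hSS
  obtain ⟨⟨x', hx'⟩, hy, rfl⟩ := hi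
  refine ⟨γ ⟨x', hx'⟩, ?_, ?_⟩
  · exact (Subgroup.characteristic_iff_le_comap.mp inferInstance γ) hy
  · refine (hγ ⟨x', hx'⟩).trans ?_
    rw [toFn_apply ψ (hle.symm ▸ hx')]
    refine Eq.trans ?_ (he x' (Subgroup.mem_zpowers x'))
    exact (congrArg ψ (Subtype.ext rfl)).trans (hψA ⟨x', Subgroup.mem_zpowers x'⟩)

/-- `Aut_S(R) ≤ O_p(Aut_F(R))` in the presence of an invariant series, centralized by `Aut_S(R)`, that detects
automorphisms of order prime to `p`. -/
theorem autS_le_pCore_of_family [Finite S] {p : ℕ} [Fact p.Prime] {F : Cfsg.FusionSystem S} (hS : IsPGroup p S)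
    {R : Subgroup Ω} (hR : R ≤ S) (U : ℕ → Subgroup R) (h0 : U 0 = ⊥) (n : ℕ)
    (hinv : ∀ a ∈ F.autGroup R, ∀ i, ∀ x ∈ U i, a x ∈ U i)
    (hst : ∀ a ∈ autInducedBy S R, ∀ i, ∀ x ∈ U (i + 1), x⁻¹ * a x ∈ U i)
    (hdet : ∀ β ∈ F.autGroup R, (orderOf β).Coprime p → (∀ x ∈ U n, β x = x) → β = 1) :
    autInducedBy S R ≤ pCoreAut F p R := by
  have := finite_of_le hR
  let K : Subgroup (MulAut R) :=
    { carrier := {a | a ∈ F.autGroup R ∧ ∀ i, ∀ x ∈ U (i + 1), x⁻¹ * a x ∈ U i}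
      one_mem' := ⟨one_mem _, fun i x _ => by simp⟩
      mul_mem' := by
        rintro a b ⟨ha, ha'⟩ ⟨hb, hb'⟩
        refine ⟨mul_mem ha hb, fun i x hx => ?_⟩
        have h1 := (U i).mul_mem (hb' i x hx) (ha' i _ (hinv b hb _ x hx))
        rwa [mul_assoc, mul_inv_cancel_left, ← MulAut.mul_apply] at h1
      inv_mem' := by
        rintro a ⟨ha, ha'⟩
        refine ⟨inv_mem ha, fun i x hx => ?_⟩
        have h1 := (U i).inv_mem (ha' i _ (hinv _ (inv_mem ha) _ x hx))
        rwa [MulAut.apply_inv_self, mul_inv_rev, inv_inv] at h1 }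
  refine le_trans (b := K) (fun a ha => ⟨autInducedBy_le_autGroup F le_rfl hR ha, hst a ha⟩)
    (le_pCoreAut (F := F) (K := K) ?_ (fun a ha => ha.1) ?_)
  · refine isPGroup_of_coprime_trivial fun a ha => Subtype.ext ?_
    have hcop : (orderOf (a : MulAut R)).Coprime p := by rwa [Subgroup.orderOf_coe]
    refine hdet _ a.2.1 hcop ?_
    suffices hall : ∀ i, ∀ x ∈ U i, (a : MulAut R) x = x from hall n
    intro i
    induction i with
    | zero => intro x hx; rw [h0, Subgroup.mem_bot] at hx; rw [hx, map_one]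
    | succ m ih => exact fun x hx => eq_self_of_stab (hS.to_le hR) _ hcop (U m) ih x (a.2.2 m x hx)
  · intro c hc a ha
    refine ⟨mul_mem (mul_mem hc ha.1) (inv_mem hc), fun i x hx => ?_⟩
    have h1 := hinv c hc i _ (ha.2 i _ (hinv _ (inv_mem hc) _ x hx))
    rwa [map_mul, map_inv, MulAut.apply_inv_self, ← MulAut.mul_apply, ← MulAut.mul_apply] at h1

/-- The chief step: every fully normalized centric radical subgroup is `S`. -/
theorem eq_top_of_control [Finite S] {p : ℕ} [Fact p.Prime] (hS : IsPGroup p S) {F : Cfsg.FusionSystem S}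
    (hF : F.IsSaturated p)
    (h : ∀ A B : Subgroup Ω, A ≤ (F.hyperfocalSubgroup p) → B ≤ (F.hyperfocalSubgroup p) → IsCyclic ↥A →
      (Nat.card ↥A = p ∨ Nat.card ↥A = 4) → IsCyclic ↥B → (Nat.card ↥B = p ∨ Nat.card ↥B = 4) →
      F.homSet A B ⊆ F.normalizerHom S A)
    {R : Subgroup Ω} (h1 : F.IsFullyNormalized R) (h2 : F.IsCentric R) (h3 : F.IsRadical p R) : R = S := by
  refine eq_top_of_autS_le_pCore hS h2 h3 ?_
  have hR := h1.1
  have hA := fullyAutomized_of_fullyNormalized hS hF h1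
  have := finite_of_le hR
  have hRp : IsPGroup p R := hS.to_le hR
  set D : Subgroup R := (F.hyperfocalSubgroup p).subgroupOf R with hD
  obtain ⟨E, hEc, hEs, hEd⟩ := exists_small_detecting (hRp.to_subgroup D)
  have hDinv : ∀ a ∈ F.autGroup R, ∀ x ∈ D, a x ∈ D := fun a ha x hx => by
    have := autFn_mem_hyperfocal hA ha x.2 hx
    rwa [autFn_apply a x.2] at this
  have hres : ∀ a ∈ F.autGroup R, ∃ γ : MulAut D, ∀ x : D, ((γ x : D) : R) = a x := by
    intro a ha
    refine ⟨MulEquiv.ofBijective ((a.toMonoidHom.comp D.subtype).codRestrict D fun v => hDinv a ha v v.2)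
      (Finite.injective_iff_bijective.mp fun u v huv => Subtype.ext (a.injective (congrArg Subtype.val huv))),
      fun x => rfl⟩
  set E' : Subgroup R := E.map D.subtype with hE'
  have hE'inv : ∀ a ∈ F.autGroup R, ∀ x ∈ E', a x ∈ E' := by
    rintro a ha _ ⟨x, hx, rfl⟩
    obtain ⟨γ, hγ⟩ := hres a ha
    exact ⟨γ x, (Subgroup.characteristic_iff_le_comap.mp hEc γ) hx, hγ x⟩
  obtain ⟨n, hn⟩ := exists_Z_eq hS
  refine autS_le_pCore_of_family hS hR (fun i => E' ⊓ (Z S i).subgroupOf R) ?_ n ?_ ?_ ?_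
  · rw [eq_bot_iff]
    intro x hxx
    have hx : (x : Ω) ∈ Z S 0 := hxx.2
    rw [mem_Z_zero] at hx
    exact Subgroup.mem_bot.mpr (Subtype.ext hx)
  · rintro a ha i x ⟨hxE, hxZ⟩
    refine ⟨hE'inv a ha x hxE, ?_⟩
    obtain ⟨e, he, rfl⟩ := hxE
    have hmap := (isIso_autFn hR ha).1
    have hsm : IsSmall p ((e : R) : Ω) := ((hEs e he).map D.subtype).map R.subtype
    have hz := apply_mem_Z h hmap (e : R).2 hsm e.2 (autFn_mem_hyperfocal hA ha (e : R).2 e.2) hxZ
    rwa [autFn_apply a (e : R).2] at hz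
  · intro a ha i x hxx
    have hxE : x ∈ E' := hxx.1
    have hxZ : (x : Ω) ∈ Z S (i + 1) := hxx.2
    refine ⟨mul_mem (E'.inv_mem hxE) (hE'inv a (autInducedBy_le_autGroup F le_rfl hR ha) x hxE), ?_⟩
    obtain ⟨s, hs, he⟩ := mem_autInducedBy_iff.1 ha
    show ((x⁻¹ * a x : R) : Ω) ∈ Z S i
    rw [Subgroup.coe_mul, Subgroup.coe_inv, he]
    exact comm_mem_Z hxZ hs
  · intro β hβ hcop hfix
    obtain ⟨γ, hγ⟩ := hres β hβ
    have hγcop : (orderOf γ).Coprime p := by
      refine Nat.Coprime.coprime_dvd_left (orderOf_dvd_of_pow_eq_one ?_) hcop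
      have hpow : ∀ (k : ℕ) (v : D), ((γ ^ k) v : R) = (β ^ k) v := by
        intro k
        induction k with
        | zero => intro v; rfl
        | succ m ihm => intro v; rw [pow_succ', pow_succ', MulAut.mul_apply, MulAut.mul_apply, hγ, ihm v]
      exact MulEquiv.ext fun v => Subtype.ext (by rw [hpow, pow_orderOf_eq_one]; rfl)
    have hγ1 : γ = 1 := hEd γ hγcop fun x hx => Subtype.ext <| by
      rw [hγ]
      exact hfix _ ⟨⟨x, hx, rfl⟩, hn (hR (x : R).2)⟩
    refine MulEquiv.ext fun x => eq_self_of_stab hRp β hcop D (fun u hu => ?_) x ?_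
    · have := hγ ⟨u, hu⟩
      rw [hγ1] at this
      exact this.symm
    · have := inv_mul_autFn_mem_hyperfocal hR hβ (mem_pResidual_of_coprime hβ hcop) x.2
      rwa [autFn_apply β x.2] at this

end

/-- Let F be a saturated fusion system over a finite p-group S. If every map of F between cyclic subgroups of the hyperfocal subgroup of F of order p or 4 is a map of the normalizer system of S (it extends to a map of F defined on all of S), then S is normal in F. -/
theorem result {Ω : Type u} [Group Ω] {S : Subgroup Ω} [Finite S] (p : ℕ) [Fact p.Prime] (hS : IsPGroup p S)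
    (F : Cfsg.FusionSystem S) (hF : F.IsSaturated p)
    (h : ∀ A B : Subgroup Ω, A ≤ (F.hyperfocalSubgroup p) → B ≤ (F.hyperfocalSubgroup p) → IsCyclic ↥A → (Nat.card ↥A = p ∨ Nat.card ↥A = 4) → IsCyclic ↥B → (Nat.card ↥B = p ∨ Nat.card ↥B = 4) →
      F.homSet A B ⊆ F.normalizerHom S A) :
    F.IsNormal S := by
  exact Cfsg.Agent.FusionChain.isNormal_top_of_radicals hS hF fun R h1 h2 h3 =>
    eq_top_of_control hS hF h h1 h2 h3

end Cfsg.Agent.S5297
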