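import Cfsg.Statements.S5298
import Cfsg.Agent.S5297

set_option autoImplicit false
universe u
open Cfsg

namespace Cfsg.Agent.S5298

/-- Let F be a saturated fusion system over a finite p-group S. If every map of F between cyclic subgroups of the hyperfocal subgroup of F of order p or 4 is conjugation by an element of S, then F is the inner fusion system of S. -/
theorem result {Ω : Type u} [Group Ω] {S : Subgroup Ω} [Finite S] (p : ℕ) [Fact p.Prime] (hS : IsPGroup p S)
    (F : Cfsg.FusionSystem S) (hF : F.IsSaturated p)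
    (h : ∀ A B : Subgroup Ω, A ≤ (F.hyperfocalSubgroup p) → B ≤ (F.hyperfocalSubgroup p) → IsCyclic ↥A → (Nat.card ↥A = p ∨ Nat.card ↥A = 4) → IsCyclic ↥B → (Nat.card ↥B = p ∨ Nat.card ↥B = 4) →
      F.homSet A B ⊆ (Cfsg.innerFusionSystem S).Hom A) :
    ∀ P : Subgroup Ω, F.Hom P = (Cfsg.innerFusionSystem S).Hom P := by
  have hnorm : ∀ A B : Subgroup Ω, A ≤ (F.hyperfocalSubgroup p) → B ≤ (F.hyperfocalSubgroup p) → IsCyclic ↥A →
      (Nat.card ↥A = p ∨ Nat.card ↥A = 4) → IsCyclic ↥B → (Nat.card ↥B = p ∨ Nat.card ↥B = 4) →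
      F.homSet A B ⊆ F.normalizerHom S A := by
    intro A B h1 h2 h3 h4 h5 h6 φ hφ
    have hmem := h A B h1 h2 h3 h4 h5 h6 hφ
    obtain ⟨hAS, s, hs, he⟩ := hmem
    refine ⟨hφ.1, hAS.trans (Cfsg.Agent.Fusion.le_normalizerIn le_rfl |>.trans le_rfl), ?_, ?_⟩
    · intro x
      rw [Cfsg.Agent.Fusion.normalizerIn_self]
      exact (F.le_of_mem hφ.1).2 x
    · refine ⟨Cfsg.conjHom (A ⊔ S) s, F.conj_mem (sup_le hAS le_rfl) hs, fun x => (he x).symm, ?_⟩
      refine Cfsg.Agent.Fusion.eq_of_le_of_card le_rfl ?_ ?_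
      · rintro _ ⟨x, hx, rfl⟩
        exact S.mul_mem (S.mul_mem hs hx) (S.inv_mem hs)
      · rw [Subgroup.card_map_of_injective (F.injective_of_mem (F.conj_mem (sup_le hAS le_rfl) hs)),
          Nat.card_congr (Subgroup.subgroupOfEquivOfLe (le_sup_right : S ≤ A ⊔ S)).toEquiv]
  have hN := Cfsg.Agent.S5297.result p hS F hF hnorm
  have hfn : F.IsFullyNormalized S := ⟨le_rfl, fun Q _ => by
    rw [Cfsg.Agent.Fusion.normalizerIn_self]; exact Subgroup.card_le_of_le inf_le_left⟩
  have hA := Cfsg.Agent.Fusion.fullyAutomized_of_fullyNormalized hS hF hfn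
  have hfinA := Cfsg.Agent.Fusion.finite_mulAut (S := S) (P := S) le_rfl
  -- no automorphism of `S` of order prime to `p`
  have haut : ∀ β ∈ F.autGroup S, (orderOf β).Coprime p → β = 1 := by
    intro β hβ hcop
    obtain ⟨n, hn⟩ := Cfsg.Agent.S5297.exists_Z_eq hS
    set D : Subgroup S := (F.hyperfocalSubgroup p).subgroupOf S
    have hstep : ∀ x : S, (x : Ω) ∈ F.hyperfocalSubgroup p → Cfsg.Agent.FusionChain.IsSmall p x →
        ∃ s ∈ S, ((β x : S) : Ω) = s * (x : Ω) * s⁻¹ := by
      intro x hx hsx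
      rcases eq_or_ne x 1 with rfl | hne
      · exact ⟨1, S.one_mem, by simp⟩
      have hmap := (Cfsg.Agent.Fusion.isIso_autFn le_rfl hβ).1
      have hxA : Cfsg.Agent.Fusion.IsMap F (Subgroup.zpowers (x : Ω)) (Cfsg.Agent.Fusion.autFn β) :=
        hmap.mono (Subgroup.zpowers_le.mpr x.2)
      obtain ⟨φ, hφ, he⟩ := hxA
      have hy : Cfsg.Agent.Fusion.autFn β (x : Ω) ∈ F.hyperfocalSubgroup p :=
        Cfsg.Agent.FusionChain.autFn_mem_hyperfocal hA hβ x.2 hx
      have hcard : ∀ z : Ω, orderOf z = orderOf x →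
          Nat.card (Subgroup.zpowers z) = p ∨ Nat.card (Subgroup.zpowers z) = 4 := by
        intro z hz
        rw [Nat.card_zpowers, hz]
        rcases hsx with h' | ⟨rfl, h'⟩
        · exact Or.inl (orderOf_eq_prime h' hne)
        · by_cases h2 : x ^ 2 = 1
          · exact Or.inl (orderOf_eq_prime h2 hne)
          · refine Or.inr ?_
            have := orderOf_eq_prime_pow (p := 2) (n := 1) (x := x) (by simpa using h2) (by simpa using h')
            simpa using this
      have hord : orderOf (Cfsg.Agent.Fusion.autFn β (x : Ω)) = orderOf x := by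
        rw [Cfsg.Agent.Fusion.autFn_apply β x.2, Subgroup.orderOf_coe, MulEquiv.orderOf_eq]
      obtain ⟨-, s, hs, hs'⟩ := h (Subgroup.zpowers (x : Ω)) (Subgroup.zpowers (Cfsg.Agent.Fusion.autFn β (x : Ω)))
        (Subgroup.zpowers_le.mpr hx) (Subgroup.zpowers_le.mpr hy) inferInstance
        (hcard _ (Subgroup.orderOf_coe x)) inferInstance (hcard _ hord) ⟨hφ, by
          rintro ⟨a, m, rfl⟩
          have : (⟨(x : Ω) ^ m, m, rfl⟩ : Subgroup.zpowers (x : Ω)) = ⟨(x : Ω), Subgroup.mem_zpowers _⟩ ^ m :=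
            Subtype.ext (by simp)
          rw [this, map_zpow, he]
          exact ⟨m, rfl⟩⟩
      refine ⟨s, hs, ?_⟩
      have h9 := hs' ⟨(x : Ω), Subgroup.mem_zpowers _⟩
      rw [he, Cfsg.Agent.Fusion.autFn_apply β x.2] at h9
      exact h9
    have hDinv : ∀ u ∈ D, β u ∈ D := fun u hu => by
      have := Cfsg.Agent.FusionChain.autFn_mem_hyperfocal hA hβ u.2 hu
      rwa [Cfsg.Agent.Fusion.autFn_apply β u.2] at this
    refine Cfsg.Agent.FusionChain.eq_one_of_fixes_small_of_moves hS β hcop D (fun x => ?_) ?_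
    · have := Cfsg.Agent.FusionChain.inv_mul_autFn_mem_hyperfocal le_rfl hβ
        (Cfsg.Agent.FusionChain.mem_pResidual_of_coprime hβ hcop) x.2
      rwa [Cfsg.Agent.Fusion.autFn_apply β x.2] at this
    · obtain ⟨E, hEc, hEs, hEd⟩ := Cfsg.Agent.FusionChain.exists_small_detecting (hS.to_subgroup D)
      let γ : MulAut D := MulEquiv.ofBijective ((β.toMonoidHom.comp D.subtype).codRestrict D fun v => hDinv v v.2)
        (Finite.injective_iff_bijective.mp fun u v huv => Subtype.ext (β.injective (congrArg Subtype.val huv)))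
      have hγcop : (orderOf γ).Coprime p := by
        refine Nat.Coprime.coprime_dvd_left (orderOf_dvd_of_pow_eq_one ?_) hcop
        have hpow : ∀ (k : ℕ) (v : D), ((γ ^ k) v : S) = (β ^ k) v := by
          intro k
          induction k with
          | zero => intro v; rfl
          | succ m ihm =>
            intro v
            rw [pow_succ', pow_succ', MulAut.mul_apply, MulAut.mul_apply, ← ihm v]
            rfl
        exact MulEquiv.ext fun v => Subtype.ext (by rw [hpow, pow_orderOf_eq_one]; rfl)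
      -- induction along the upper central series, inside the small detecting subgroup
      have key : ∀ i, ∀ e ∈ E, ((e : S) : Ω) ∈ Cfsg.Agent.S5297.Z S i → γ e = e := by
        intro i
        induction i with
        | zero =>
          intro e _ hz
          rw [Cfsg.Agent.S5297.mem_Z_zero] at hz
          have : e = 1 := Subtype.ext (Subtype.ext hz)
          rw [this, map_one]
        | succ m ih =>
          intro e he hz
          obtain ⟨s, hs, hse⟩ := hstep (e : S) e.2 ((hEs e he).map D.subtype)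
          refine Cfsg.Agent.FusionChain.eq_self_of_coprime γ e (ih _ ?_ ?_) ?_
          · exact mul_mem (inv_mem he) ((Subgroup.characteristic_iff_le_comap.mp hEc γ) he)
          · show ((e : S) : Ω)⁻¹ * ((β (e : S) : S) : Ω) ∈ Cfsg.Agent.S5297.Z S m
            rw [hse]
            exact Cfsg.Agent.S5297.comm_mem_Z hz hs
          · obtain ⟨k, hk⟩ := IsPGroup.iff_orderOf.mp (hS.to_subgroup D) (e⁻¹ * γ e)
            rw [hk]
            exact hγcop.pow_right k
      have hγ1 : γ = 1 := hEd γ hγcop fun e he => key n e he (hn (e : S).2)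
      intro u hu _
      exact (congrArg Subtype.val (DFunLike.congr_fun hγ1 (⟨u, hu⟩ : D)) :)
  -- every automorphism of `S` in the system is conjugation by an element of `S`
  have hinner : F.autGroup S ≤ Cfsg.autInducedBy S S := by
    have hp : IsPGroup p (F.autGroup S) := Cfsg.Agent.FusionChain.isPGroup_of_coprime_trivial fun a ha =>
      Subtype.ext (haut a a.2 (by rwa [Subgroup.orderOf_coe]))
    exact ((Cfsg.Agent.Fusion.isFullyAutomized_iff.1 hA).2.2.2 _
      (Cfsg.Agent.Fusion.autInducedBy_le_autGroup F le_rfl le_rfl) le_rfl hp).le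
  intro P
  ext φ
  constructor
  · intro hφ
    obtain ⟨g, hg, hgP, hgS⟩ := (Cfsg.Agent.FusionChain.isNormal_iff.1 hN).2 P _ (Cfsg.Agent.Fusion.isMap_toFn hφ)
    have hPS := (F.le_of_mem hφ).1
    have hgm : Cfsg.Agent.Fusion.IsMap F S g := hg.mono le_sup_right
    obtain ⟨γ, hγ, hγe⟩ := Cfsg.Agent.Fusion.exists_aut_of_isIso (⟨hgm,
      Cfsg.Agent.Fusion.eq_of_le_of_card le_rfl hgm.img_le_S (hgm.card_img le_rfl).ge⟩ :
        Cfsg.Agent.Fusion.IsIso F S S g)
    obtain ⟨s, hs, hse⟩ := Cfsg.Agent.Fusion.mem_autInducedBy_iff.1 (hinner hγ)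
    refine ⟨hPS, s, hs, fun x => ?_⟩
    have h9 := hse ⟨x, hPS x.2⟩
    rw [hγe, hgP x x.2, Cfsg.Agent.Fusion.toFn_coe] at h9
    exact h9
  · rintro ⟨hPS, s, hs, he⟩
    have : φ = Cfsg.conjHom P s := MonoidHom.ext he
    exact this ▸ F.conj_mem hPS hs

end Cfsg.Agent.S5298
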