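import Cfsg.Statements.S5299
import Cfsg.Agent.EqLemmas

set_option autoImplicit false
universe u
open Cfsg

namespace Cfsg.Agent.S5299

/-- A group with a surjection onto `B` and an injection into `C` shows that `B` is involved in `C`. -/
theorem involves_of_surjective_of_injective {A B C : Type*} [Group A] [Group B] [Group C]
    (f : A →* B) (hf : Function.Surjective f) (j : A →* C) (hj : Function.Injective j) :
    Cfsg.Involves B C := by
  let e := MonoidHom.ofInjective hj
  let f' : ↥j.range →* B := f.comp e.symm.toMonoidHom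
  have hf' : Function.Surjective f' := hf.comp e.symm.surjective
  have hR : (f'.ker.map j.range.subtype).subgroupOf j.range = f'.ker :=
    Subgroup.comap_map_eq_self_of_injective j.range.subtype_injective _
  have hn : ((f'.ker.map j.range.subtype).subgroupOf j.range).Normal := by rw [hR]; infer_instance
  exact ⟨j.range, f'.ker.map j.range.subtype, hn,
    ⟨(QuotientGroup.quotientMulEquivOfEq hR).trans (QuotientGroup.quotientKerEquivOfSurjective f' hf')⟩⟩

/-- Let F be a saturated fusion system over a finite p-group S, H a finite group and Q a p-subgroup of H. If Q is not involved in S (no section of S is isomorphic to Q), then F is H-free: H is involved in no model of the normalizer system of a fully normalized centric subgroup. -/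
theorem result {Ω : Type u} [Group Ω] {S : Subgroup Ω} [Finite S] (p : ℕ) [Fact p.Prime] (hS : IsPGroup p S)
    (F : Cfsg.FusionSystem S) (hF : F.IsSaturated p) (H : Type*) [Group H] [Finite H] (Q : Subgroup H) (hQ : IsPGroup p Q)
    (hfree : ¬ Cfsg.Involves (↥Q) (↥S)) : F.IsSectionFree p H := by
  intro Q₀ _ _ N _ L _ ι hmodel hinv
  obtain ⟨hLfin, ⟨hι, -⟩, ⟨T, hT⟩, -⟩ := hmodel
  obtain ⟨K, R, hR, ⟨e⟩⟩ := hinv
  let π : ↥K →* H := e.toMonoidHom.comp (QuotientGroup.mk' (R.subgroupOf K))
  have hπ : Function.Surjective π := e.surjective.comp (QuotientGroup.mk'_surjective _)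
  let f : ↥(Q.comap π) →* ↥Q := π.subgroupComap Q
  have hf : Function.Surjective f := by
    rintro ⟨q, hq⟩
    obtain ⟨k, rfl⟩ := hπ q
    exact ⟨⟨k, hq⟩, rfl⟩
  obtain ⟨P₀⟩ : Nonempty (Sylow p ↥(Q.comap π)) := inferInstance
  -- the image of a Sylow subgroup is a Sylow subgroup, hence everything
  have himg : (P₀.mapSurjective hf : Subgroup ↥Q) = ⊤ :=
    ((P₀.mapSurjective hf).is_maximal' (Q := ⊤) (hQ.to_subgroup _) le_top).symm
  let g : ↥(P₀ : Subgroup ↥(Q.comap π)) →* ↥Q := f.comp (P₀ : Subgroup ↥(Q.comap π)).subtype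
  have hg : Function.Surjective g := by
    intro q
    have : q ∈ (P₀.mapSurjective hf : Subgroup ↥Q) := himg ▸ Subgroup.mem_top q
    rw [Sylow.coe_mapSurjective] at this
    obtain ⟨a, ha, rfl⟩ := this
    exact ⟨⟨a, ha⟩, rfl⟩
  let i : ↥(P₀ : Subgroup ↥(Q.comap π)) →* L :=
    (K.subtype.comp (Q.comap π).subtype).comp (P₀ : Subgroup ↥(Q.comap π)).subtype
  have hi : Function.Injective i :=
    (K.subtype_injective.comp (Q.comap π).subtype_injective).comp
      (P₀ : Subgroup ↥(Q.comap π)).subtype_injective
  -- conjugate the image into the image of ι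
  have hip : IsPGroup p ↥i.range := P₀.isPGroup'.of_surjective i.rangeRestrict i.rangeRestrict_surjective
  obtain ⟨T', hT'⟩ := hip.exists_le_sylow
  obtain ⟨c, hc⟩ := MulAction.exists_smul_eq L T' T
  let i' : ↥(P₀ : Subgroup ↥(Q.comap π)) →* L := (MulAut.conj c).toMonoidHom.comp i
  have hi' : Function.Injective i' := (MulAut.conj c).injective.comp hi
  have hrange : ∀ a, i' a ∈ ι.range := by
    intro a
    rw [← hT, ← hc]
    exact Subgroup.mem_map_of_mem _ (hT' ⟨a, rfl⟩)
  let eι := MonoidHom.ofInjective hι
  have hle : Cfsg.FusionSystem.normalizerIn S Q₀ ≤ S := inf_le_left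
  let j : ↥(P₀ : Subgroup ↥(Q.comap π)) →* ↥S :=
    (Subgroup.inclusion hle).comp
      (eι.symm.toMonoidHom.comp (i'.codRestrict ι.range hrange))
  have hj : Function.Injective j := by
    refine (Subgroup.inclusion_injective hle).comp (eι.symm.injective.comp ?_)
    intro a b hab
    exact hi' (congrArg Subtype.val hab)
  exact hfree (involves_of_surjective_of_injective g hg j hj)

end Cfsg.Agent.S5299
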