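import Cfsg.Statements.S5300
import Cfsg.Agent.Lib.FusionChain.Hyperfocal
import Cfsg.Agent.Lib.FusionChain.SmallElements

set_option autoImplicit false
universe u
open Cfsg

namespace Cfsg.Agent.S5300

open Cfsg.Agent.Fusion Cfsg.Agent.FusionChain in
/-- The automorphisms of the system mapping each small focal element into the subgroup it generates, and fixing those
of order dividing `p`. -/
def smallStab {Ω : Type*} [Group Ω] {S : Subgroup Ω} [Finite S] (p : ℕ) (F : Cfsg.FusionSystem S) {R : Subgroup Ω}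
    (hR : R ≤ S) : Subgroup (MulAut R) where
  carrier := {a | a ∈ F.autGroup R ∧ ∀ x : R, (x : Ω) ∈ F.focalSubgroup → IsSmall p x →
    a x ∈ Subgroup.zpowers x ∧ (x ^ p = 1 → a x = x)}
  one_mem' := ⟨one_mem _, fun x _ _ => ⟨Subgroup.mem_zpowers x, fun _ => rfl⟩⟩
  mul_mem' := by
    rintro a b ⟨ha, ha'⟩ ⟨hb, hb'⟩
    refine ⟨mul_mem ha hb, fun x hx hs => ⟨?_, fun hp => ?_⟩⟩
    · obtain ⟨k, hk⟩ := Subgroup.mem_zpowers_iff.mp (hb' x hx hs).1
      rw [MulAut.mul_apply, ← hk, map_zpow]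
      exact Subgroup.zpow_mem _ (ha' x hx hs).1 k
    · rw [MulAut.mul_apply, (hb' x hx hs).2 hp]
      exact (ha' x hx hs).2 hp
  inv_mem' := by
    rintro a ⟨ha, ha'⟩
    refine ⟨inv_mem ha, fun x hx hs => ⟨?_, fun hp => ?_⟩⟩
    · have hfin : Finite R := finite_of_le hR
      have he : Subgroup.zpowers (a x) = Subgroup.zpowers x := by
        refine Subgroup.eq_of_le_of_card_ge (Subgroup.zpowers_le.mpr (ha' x hx hs).1) ?_
        rw [Nat.card_zpowers, Nat.card_zpowers, MulEquiv.orderOf_eq]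
      obtain ⟨k, hk⟩ := Subgroup.mem_zpowers_iff.mp (he.symm ▸ Subgroup.mem_zpowers x : x ∈ Subgroup.zpowers (a x))
      refine Subgroup.mem_zpowers_iff.mpr ⟨k, a.injective ?_⟩
      rw [map_zpow, hk, MulAut.apply_inv_self]
    · conv_lhs => rw [← (ha' x hx hs).2 hp]
      exact MulAut.inv_apply_self _ _ _

/-- Conjugation by an element of a `p`-group fixes elements of order dividing `p` whose subgroup it normalizes. -/
theorem eq_of_mem_zpowers {G : Type*} [Group G] {p : ℕ} [hp : Fact p.Prime] {s x : G} {m : ℕ}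
    (hs : s ^ p ^ m = 1) (hx : x ^ p = 1) (h : s * x * s⁻¹ ∈ Subgroup.zpowers x) : s * x * s⁻¹ = x := by
  obtain ⟨k, hk⟩ := Subgroup.mem_zpowers_iff.mp h
  rcases eq_or_ne x 1 with rfl | hne
  · simp
  have key : ∀ n : ℕ, s ^ n * x * (s ^ n)⁻¹ = x ^ (k ^ n) := by
    intro n
    induction n with
    | zero => simp
    | succ n ih =>
      calc s ^ (n + 1) * x * (s ^ (n + 1))⁻¹ = s * (s ^ n * x * (s ^ n)⁻¹) * s⁻¹ := by group
        _ = (s * x * s⁻¹) ^ (k ^ n) := by rw [ih, conj_zpow]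
        _ = x ^ (k ^ (n + 1)) := by rw [← hk, ← zpow_mul, pow_succ']
  have h1 := key (p ^ m)
  rw [hs, one_mul, inv_one, mul_one] at h1
  have hord : orderOf x = p := orderOf_eq_prime hx hne
  have h2 : (1 : ℤ) ≡ k ^ p ^ m [ZMOD (p : ℤ)] := by
    have : (1 : ℤ) ≡ k ^ p ^ m [ZMOD ((orderOf x : ℕ) : ℤ)] := by rw [← zpow_eq_zpow_iff_modEq, zpow_one]; exact h1
    rwa [hord] at this
  have h3 : ((k : ZMod p)) = 1 := by
    have := ((ZMod.intCast_eq_intCast_iff _ _ _).mpr h2).symm
    push_cast at this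
    rwa [ZMod.pow_card_pow] at this
  rw [← hk]
  conv_rhs => rw [← zpow_one x]
  rw [zpow_eq_zpow_iff_modEq, hord, ← ZMod.intCast_eq_intCast_iff]
  simpa using h3

/-- Let F be a saturated fusion system over a finite p-group S. If every cyclic subgroup of the focal subgroup of F of order p (of order 2 or 4 when p = 2) is normal in S, then S is normal in F. -/
theorem result {Ω : Type u} [Group Ω] {S : Subgroup Ω} [Finite S] (p : ℕ) [Fact p.Prime] (hS : IsPGroup p S)
    (F : Cfsg.FusionSystem S) (hF : F.IsSaturated p)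
    (hnorm : ∀ x ∈ F.focalSubgroup, (x ^ p = 1 ∨ (p = 2 ∧ x ^ 4 = 1)) → ∀ s ∈ S, s * x * s⁻¹ ∈ Subgroup.zpowers x) :
    F.IsNormal S := by
  refine Cfsg.Agent.FusionChain.isNormal_top_of_radicals hS hF fun R h1 h2 h3 => ?_
  refine Cfsg.Agent.FusionChain.eq_top_of_autS_le_pCore hS h2 h3 ?_
  have hR := h1.1
  have := Cfsg.Agent.Fusion.finite_of_le hR
  have hRp : IsPGroup p R := hS.to_le hR
  set K := smallStab p F hR
  refine le_trans ?_ (Cfsg.Agent.FusionChain.le_pCoreAut (p := p) (F := F) (K := K) ?_ (fun a ha => ha.1) ?_)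
  · intro α hα
    refine ⟨Cfsg.Agent.Fusion.autInducedBy_le_autGroup F le_rfl hR hα, fun x hx hs => ?_⟩
    obtain ⟨s, hsS, he⟩ := Cfsg.Agent.Fusion.mem_autInducedBy_iff.1 hα
    have hsmall : (x : Ω) ^ p = 1 ∨ (p = 2 ∧ (x : Ω) ^ 4 = 1) := hs.map R.subtype
    have hmem := hnorm (x : Ω) hx hsmall s hsS
    refine ⟨?_, fun hp => ?_⟩
    · obtain ⟨k, hk⟩ := Subgroup.mem_zpowers_iff.mp hmem
      refine Subgroup.mem_zpowers_iff.mpr ⟨k, Subtype.ext ?_⟩
      rw [Subgroup.coe_zpow, hk, he]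
    · refine Subtype.ext ?_
      rw [he]
      obtain ⟨m, hm⟩ := hS ⟨s, hsS⟩
      refine eq_of_mem_zpowers (p := p) (m := m) ?_ ?_ hmem
      · exact congrArg Subtype.val hm
      · exact congrArg Subtype.val hp
  · refine Cfsg.Agent.FusionChain.isPGroup_of_coprime_trivial (G := K) fun a ha => Subtype.ext ?_
    have hcop : (orderOf (a : MulAut R)).Coprime p := by rwa [Subgroup.orderOf_coe]
    refine Cfsg.Agent.FusionChain.eq_one_of_fixes_small_of_moves hRp _ hcop
      ((F.focalSubgroup).subgroupOf R) (fun x => ?_) fun x hx hs => ?_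
    · have h := Cfsg.Agent.FusionChain.inv_mul_map_mem_focal (Cfsg.Agent.Fusion.isIso_autFn hR a.2.1).1 x.2
      rwa [Cfsg.Agent.Fusion.autFn_apply _ x.2] at h
    · obtain ⟨hz, hfix⟩ := a.2.2 x hx hs
      rcases hs with hs | ⟨rfl, hs⟩
      · exact hfix hs
      · obtain ⟨k, hk⟩ := Subgroup.mem_zpowers_iff.mp hz
        by_cases h2 : x ^ 2 = 1
        · exact hfix h2
        have hord : orderOf x = 4 := by
          have := orderOf_eq_prime_pow (p := 2) (n := 1) (x := x) (by simpa using h2) (by simpa using hs)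
          simpa using this
        have hodd : Odd k := by
          by_contra hev
          obtain ⟨l, rfl⟩ := Int.not_odd_iff_even.mp hev
          have h5 : ((a : MulAut R) x) ^ 2 = 1 := by
            rw [← hk, ← zpow_natCast, ← zpow_mul, show (l + l) * ((2 : ℕ) : ℤ) = ((4 : ℕ) : ℤ) * l by push_cast; ring,
              zpow_mul, zpow_natCast, hs, one_zpow]
          exact h2 ((a : MulAut R).injective (by rw [map_pow, h5, map_one]))
        have hsq : k * k ≡ 1 [ZMOD ((4 : ℕ) : ℤ)] := by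
          obtain ⟨l, rfl⟩ := hodd
          rw [Int.modEq_iff_dvd]
          exact ⟨-(l * l + l), by push_cast; ring⟩
        have h2x : ((a : MulAut R) * (a : MulAut R)) x = x := by
          rw [MulAut.mul_apply, ← hk, map_zpow, ← hk, ← zpow_mul]
          conv_rhs => rw [← zpow_one x]
          rw [zpow_eq_zpow_iff_modEq, hord]
          exact hsq
        have hpow : ∀ j : ℕ, (((a : MulAut R) * (a : MulAut R)) ^ j) x = x := by
          intro j
          induction j with
          | zero => rfl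
          | succ j ih => rw [pow_succ, MulAut.mul_apply, h2x, ih]
        obtain ⟨j, hj⟩ := exists_pow_eq_self_of_coprime (n := 2) hcop.symm
        rw [← pow_two] at hpow
        have h7 := hpow j
        rwa [hj] at h7
  · intro c hc a ha
    refine ⟨mul_mem (mul_mem hc ha.1) (inv_mem hc), fun x hx hs => ?_⟩
    have hy : ((c⁻¹ x : R) : Ω) ∈ F.focalSubgroup := by
      have h := Cfsg.Agent.FusionChain.autFn_mem_focal hR (inv_mem hc) x.2 hx
      rwa [Cfsg.Agent.Fusion.autFn_apply _ x.2] at h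
    obtain ⟨hz, hfix⟩ := ha.2 (c⁻¹ x) hy (hs.map (c⁻¹ : MulAut R))
    refine ⟨?_, fun hp => ?_⟩
    · obtain ⟨k, hk⟩ := Subgroup.mem_zpowers_iff.mp hz
      refine Subgroup.mem_zpowers_iff.mpr ⟨k, ?_⟩
      rw [MulAut.mul_apply, MulAut.mul_apply, ← hk, map_zpow, MulAut.apply_inv_self]
    · rw [MulAut.mul_apply, MulAut.mul_apply, hfix (by rw [← map_pow, hp, map_one]), MulAut.apply_inv_self]

end Cfsg.Agent.S5300
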