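import Cfsg.Statements.S5301
import Cfsg.Agent.Lib.FusionChain.Radical

set_option autoImplicit false
universe u
open Cfsg

namespace Cfsg.Agent.S5301

/-- Let F be a saturated fusion system over a finite p-group S. If for every subgroup P of S that is fully normalized, centric and radical in F the automorphism group that F induces on P has a normal Sylow p-subgroup, then S is normal in F. -/
theorem result {Ω : Type u} [Group Ω] {S : Subgroup Ω} [Finite S] (p : ℕ) [Fact p.Prime] (hS : IsPGroup p S)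
    (F : Cfsg.FusionSystem S) (hF : F.IsSaturated p)
    (hcl : ∀ P : Subgroup Ω, F.IsFullyNormalized P → F.IsCentric P → F.IsRadical p P →
      ∃ R : Sylow p ↥(F.autGroup P), (R : Subgroup ↥(F.autGroup P)).Normal) :
    F.IsNormal S := by
  refine Cfsg.Agent.FusionChain.isNormal_top_of_radicals hS hF fun Q h1 h2 h3 =>
    Cfsg.Agent.FusionChain.eq_top_of_autS_le_pCore hS h2 h3 ?_
  obtain ⟨R, hR⟩ := hcl Q h1 h2 h3
  have hA := Cfsg.Agent.Fusion.fullyAutomized_of_fullyNormalized hS hF h1
  obtain ⟨-, R', hR'⟩ := hA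
  have := Cfsg.Agent.Fusion.finite_mulAut h1.1
  obtain ⟨g, hg⟩ := MulAction.exists_smul_eq (F.autGroup Q) R R'
  have hRR : R' = R := by
    rw [← hg]
    exact Sylow.smul_eq_iff_mem_normalizer.mpr (Subgroup.mem_normalizer_iff.mpr fun n => ⟨fun h => hR.conj_mem n h g, fun h => by simpa [mul_assoc] using hR.conj_mem _ h g⁻¹⟩)
  intro α hα
  have hαA := Cfsg.Agent.Fusion.autInducedBy_le_autGroup F le_rfl h1.1 hα
  refine ⟨⟨α, hαA⟩, Cfsg.Agent.FusionChain.le_pCore_of_normal (R : Subgroup ↥(F.autGroup Q)) hR R.isPGroup' ?_, rfl⟩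
  rw [← hRR, hR']
  exact hα

end Cfsg.Agent.S5301
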