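import Cfsg.Statements.S5306
import Cfsg.Agent.EqLemmas

set_option autoImplicit false
open Cfsg

namespace Cfsg.Agent.S5306

/-- Being elementary abelian passes to images under homomorphisms. -/
theorem isElementaryAbelian_map {A B : Type*} [Group A] [Group B] {p : ℕ} {E : Subgroup A}
    (h : Cfsg.IsElementaryAbelian p E) (f : A →* B) : Cfsg.IsElementaryAbelian p (E.map f) := by
  obtain ⟨hc, hp⟩ := h
  refine ⟨⟨⟨?_⟩⟩, ?_⟩
  · rintro ⟨_, a, ha, rfl⟩ ⟨_, b, hb, rfl⟩
    apply Subtype.ext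
    show f a * f b = f b * f a
    rw [← map_mul, ← map_mul]
    have := hc.is_comm.comm (⟨a, ha⟩ : E) ⟨b, hb⟩
    exact congrArg f (congrArg Subtype.val this)
  · rintro _ ⟨a, ha, rfl⟩
    rw [← map_pow, hp a ha, map_one]

/-- The Thompson subgroup of `P` is weakly closed in `P`. -/
theorem thompson_weaklyClosed {X : Type*} [Group X] [Finite X] (p : ℕ) (P : Subgroup X) (c : X)
    (h : (Cfsg.thompsonSubgroupOf p P).map (MulAut.conj c).toMonoidHom ≤ P) :
    (Cfsg.thompsonSubgroupOf p P).map (MulAut.conj c).toMonoidHom = Cfsg.thompsonSubgroupOf p P := by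
  refine Subgroup.eq_of_le_of_card_ge ?_
    (Subgroup.card_map_of_injective (MulAut.conj c).injective).ge
  rw [Subgroup.map_le_iff_le_comap, Cfsg.thompsonSubgroupOf, Subgroup.map_le_iff_le_comap,
    Cfsg.thompsonSubgroup]
  refine sSup_le fun A hA => ?_
  rw [← Subgroup.map_le_iff_le_comap, ← Subgroup.map_le_iff_le_comap]
  have hAJ : A.map P.subtype ≤ Cfsg.thompsonSubgroupOf p P := Subgroup.map_mono (le_sSup hA)
  -- the conjugate of `A` lies in `P` and is again elementary abelian of largest order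
  set A' := (A.map P.subtype).map (MulAut.conj c).toMonoidHom with hA'
  have hA'P : A' ≤ P := (Subgroup.map_mono hAJ).trans h
  have hback : (A'.subgroupOf P).map P.subtype = A' := Subgroup.map_subgroupOf_eq_of_le hA'P
  have hel : Cfsg.IsElementaryAbelian p (A'.subgroupOf P) := by
    have h2 := isElementaryAbelian_map (isElementaryAbelian_map hA.1 P.subtype) (MulAut.conj c).toMonoidHom
    refine ⟨⟨⟨fun a b => ?_⟩⟩, fun a ha => ?_⟩
    · have := h2.1.is_comm.comm (⟨((a : P) : X), a.2⟩ : A') ⟨((b : P) : X), b.2⟩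
      exact Subtype.ext (Subtype.ext (congrArg (fun z : A' => (z : X)) this))
    · exact Subtype.ext (h2.2 (a : X) ha)
  have hcard : Nat.card ↥(A'.subgroupOf P) = Nat.card ↥A := by
    rw [← Subgroup.card_map_of_injective (K := A'.subgroupOf P) P.subtype_injective, hback, hA',
      Subgroup.card_map_of_injective (MulAut.conj c).injective,
      Subgroup.card_map_of_injective P.subtype_injective]
  rw [← hback]
  exact Subgroup.map_mono (le_sSup ⟨hel, fun B hB => (hA.2 B hB).trans hcard.ge⟩)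

/-- Let P be a Sylow p-subgroup of the finite group X and J = J(P) its Thompson subgroup (generated by the elementary abelian subgroups of P of largest order). If x and y lie in the centre of J and y = g x g⁻¹ for some g in X, then y = n x n⁻¹ for some n in the normalizer N_X(J). -/
theorem result {X : Type*} [Group X] [Finite X] (p : ℕ) [Fact p.Prime] (P : Sylow p X) (J : Subgroup X) (hJ : J = Cfsg.thompsonSubgroupOf p (P : Subgroup X))
    (x y : X) (hx : x ∈ J ∧ ∀ j ∈ J, Commute j x) (hy : y ∈ J ∧ ∀ j ∈ J, Commute j y) (g : X) (hg : g * x * g⁻¹ = y) :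
    ∃ n ∈ Subgroup.normalizer (J : Set X), n * x * n⁻¹ = y := by
  classical
  -- `J` and `gJg⁻¹` lie in the centralizer `C` of `y`
  let C : Subgroup X := Subgroup.centralizer {y}
  have hJC : J ≤ C := fun j hj => by
    rw [Subgroup.mem_centralizer_singleton_iff]
    exact (hy.2 j hj).eq
  have hgJC : J.map (MulAut.conj g).toMonoidHom ≤ C := by
    rintro _ ⟨j, hj, rfl⟩
    rw [Subgroup.mem_centralizer_singleton_iff]
    show g * j * g⁻¹ * y = y * (g * j * g⁻¹)
    rw [← hg]
    simp only [mul_assoc, inv_mul_cancel_left]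
    rw [← mul_assoc j, (hx.2 j hj).eq, mul_assoc]
  have hJp : IsPGroup p ↥J := by
    refine P.isPGroup'.to_le ?_
    rw [hJ, Cfsg.thompsonSubgroupOf]
    exact Subgroup.map_subtype_le _
  -- conjugate, inside `C`, the Sylow subgroups of `C` containing them
  obtain ⟨R₁, hR₁⟩ := (hJp.comap_of_injective C.subtype C.subtype_injective).exists_le_sylow
  obtain ⟨R₂, hR₂⟩ :=
    ((hJp.map (MulAut.conj g).toMonoidHom).comap_of_injective C.subtype C.subtype_injective).exists_le_sylow
  obtain ⟨c, hc⟩ := MulAction.exists_smul_eq C R₂ R₁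
  obtain ⟨P', hP'⟩ := ((R₁.isPGroup').map C.subtype).exists_le_sylow
  obtain ⟨a, ha⟩ := MulAction.exists_smul_eq X P' P
  have key : ∀ j ∈ C, (∃ r ∈ (R₁ : Subgroup C), (r : X) = j) → a * j * a⁻¹ ∈ (P : Subgroup X) := by
    rintro j - ⟨r, hr, rfl⟩
    rw [← ha]
    exact Subgroup.mem_map_of_mem (MulAut.conj a).toMonoidHom (hP' ⟨r, hr, rfl⟩)
  have h1 := thompson_weaklyClosed p (P : Subgroup X) a (by
    rw [← hJ]
    rintro _ ⟨j, hj, rfl⟩
    exact key j (hJC hj) ⟨⟨j, hJC hj⟩, hR₁ hj, rfl⟩)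
  have h2 := thompson_weaklyClosed p (P : Subgroup X) (a * (c : X) * g) (by
    rw [← hJ]
    rintro _ ⟨j, hj, rfl⟩
    have hgj : g * j * g⁻¹ ∈ C := hgJC ⟨j, hj, rfl⟩
    have hcj : (c : X) * (g * j * g⁻¹) * (c : X)⁻¹ ∈ C := C.mul_mem (C.mul_mem c.2 hgj) (C.inv_mem c.2)
    have := key _ hcj ⟨c * ⟨g * j * g⁻¹, hgj⟩ * c⁻¹, by
      rw [← hc]
      exact Subgroup.mem_map_of_mem (MulAut.conj c).toMonoidHom (hR₂ (⟨j, hj, rfl⟩ :
        ((⟨g * j * g⁻¹, hgj⟩ : C) : X) ∈ J.map (MulAut.conj g).toMonoidHom)), rfl⟩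
    show a * (c : X) * g * j * (a * (c : X) * g)⁻¹ ∈ (P : Subgroup X)
    simpa only [mul_inv_rev, mul_assoc] using this)
  rw [← hJ] at h1 h2
  have hmem : ∀ b : X, J.map (MulAut.conj b).toMonoidHom = J → b ∈ Subgroup.normalizer (J : Set X) := by
    intro b hb
    rw [Subgroup.mem_normalizer_iff]
    intro j
    constructor
    · intro hj
      have := Subgroup.mem_map_of_mem (MulAut.conj b).toMonoidHom hj
      rwa [hb] at this
    · intro hj
      rw [← hb] at hj
      obtain ⟨i, hi, he⟩ := hj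
      have : i = j := (MulAut.conj b).injective he
      exact this ▸ hi
  refine ⟨a⁻¹ * (a * (c : X) * g), Subgroup.mul_mem _ (Subgroup.inv_mem _ (hmem _ h1)) (hmem _ h2), ?_⟩
  have hcy : (c : X) * y * (c : X)⁻¹ = y := by
    have := Subgroup.mem_centralizer_singleton_iff.mp c.2
    rw [this, mul_inv_cancel_right]
  calc a⁻¹ * (a * (c : X) * g) * x * (a⁻¹ * (a * (c : X) * g))⁻¹
      = (c : X) * (g * x * g⁻¹) * (c : X)⁻¹ := by group
    _ = y := by rw [hg, hcy]

end Cfsg.Agent.S5306
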