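import Cfsg.Statements.S5308
import Cfsg.Agent.EqLemmas
import Cfsg.Agent.Lib.FusionLayer.GFit

set_option autoImplicit false
open Cfsg

namespace Cfsg.Agent.S5308

/-- A saturated fusion system F over a finite p-group S has a generalized Fitting subsystem — a central product of the inner fusion system of O_p(F) (the largest subgroup of S normal in F) with a layer of F — and every generalized Fitting subsystem of F is a normal subsystem of F. -/
theorem result {Ω : Type*} [Group Ω] {S : Subgroup Ω} [Finite S] (p : ℕ) [Fact p.Prime] (hS : IsPGroup p S) (F : Cfsg.FusionSystem S) (hF : F.IsSaturated p) :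
    (∃ (U : Subgroup Ω) (D : Cfsg.FusionSystem U), D.IsGeneralizedFittingOf F p) ∧
      ∀ (U : Subgroup Ω) (D : Cfsg.FusionSystem U), D.IsGeneralizedFittingOf F p → D.IsNormalIn F p := by
  obtain ⟨T, E, hE⟩ := Cfsg.Agent.FusionLayer.exists_layer hS hF
  obtain ⟨D, -, hD, -⟩ := Cfsg.Agent.FusionLayer.exists_fitting hS hF hE
  exact ⟨⟨_, D, hD⟩, fun U D' hD' => (Cfsg.Agent.FusionLayer.fitting_data hS hF hE hD').2.1⟩

end Cfsg.Agent.S5308
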