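import Cfsg.Statements.S5309
import Cfsg.Agent.EqLemmas
import Cfsg.Agent.Lib.FusionLayer.SelfCentral

set_option autoImplicit false
open Cfsg

namespace Cfsg.Agent.S5309

/-- Self-centralizing property of the generalized Fitting subsystem. Let F be a saturated fusion system over a finite p-group S and D a generalized Fitting subsystem of F, over U. Then the centre of D is the largest subgroup Y of C_S(U) centralized by D in F, in the sense that every map of D extends to a map of F fixing Y elementwise: the centre of D is such a subgroup, and every such Y lies in the centre of D. -/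
theorem result {Ω : Type*} [Group Ω] {S : Subgroup Ω} [Finite S] (p : ℕ) [Fact p.Prime] (hS : IsPGroup p S) (F : Cfsg.FusionSystem S) (hF : F.IsSaturated p)
    {U : Subgroup Ω} (D : Cfsg.FusionSystem U) (hD : D.IsGeneralizedFittingOf F p) :
    (D.center ≤ Cfsg.FusionSystem.centralizerIn S U ∧ ∀ P : Subgroup Ω, D.Hom P ⊆ F.centralizerHom D.center P) ∧
      ∀ Y : Subgroup Ω, Y ≤ Cfsg.FusionSystem.centralizerIn S U →
        (∀ P : Subgroup Ω, D.Hom P ⊆ F.centralizerHom Y P) → Y ≤ D.center := by
  obtain ⟨R, L, hL⟩ := Agent.FusionLayer.exists_layer hS hF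
  obtain ⟨hU, hDn, D', hprod, hD', h1, h2⟩ := Agent.FusionLayer.fitting_data hS hF hL hD
  subst hU
  obtain rfl : D = D' := Agent.Fusion.ext_of_hom fun P => (h1 P).antisymm (h2 P)
  have hUS : F.core ⊔ R ≤ S := hDn.1.2.2.2.1.1
  have := Agent.Fusion.finite_of_le hUS
  have hc : D.center ≤ Cfsg.FusionSystem.centralizerIn S (F.core ⊔ R) := fun x hx =>
    Agent.Fusion.mem_centralizerIn.2 ⟨hUS (Agent.FusionLayer.center_le D hx),
      fun y hy => (Agent.FusionLayer.center_comm hx hy).symm⟩
  refine ⟨⟨hc, (Agent.FusionNormalCent.centralizes_iff hUS hc).2 ⟨hc, fun P f hf => ?_⟩⟩, fun Y hY hDY => ?_⟩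
  · obtain ⟨g, hg, hge, hgZ⟩ := Agent.FusionLayer.fix_of_center (le_refl D.center) hf
    exact ⟨g, Agent.FusionNormal.isMap_of_sub hDn.1.2.2.1 hg, hge, hgZ⟩
  · exact (Agent.FusionNormalCent.centralizes_le_cent hDn hS hF
      ((Agent.FusionNormalCent.centralizes_iff hUS hY).1 hDY)).trans
      (Agent.FusionLayer.cent_le_center hS hF hL hDn hprod)

end Cfsg.Agent.S5309
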