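import Cfsg.Statements.S5310
import Cfsg.Agent.EqLemmas
import Cfsg.Agent.Lib.FusionProduct.Components
import Cfsg.Agent.Lib.FusionCrit.Product
import Cfsg.Agent.S5136

set_option autoImplicit false
open Cfsg

namespace Cfsg.Agent.S5310

open Cfsg.FusionSystem Cfsg.Agent.Fusion

variable {Ω : Type*} [Group Ω] {S : Subgroup Ω}

/-- A system whose maps are conjugations by elements of a `p`-group has trivial hyperfocal subgroup. -/
theorem hyperfocal_eq_bot {U R : Subgroup Ω} [Finite R] {p : ℕ} [Fact p.Prime] (hR : IsPGroup p R)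
    (hUR : U ≤ R) {C : FusionSystem U}
    (hC : ∀ P f, IsMap C P f → ∃ g ∈ R, ∀ x ∈ P, f x = g * x * g⁻¹) :
    C.hyperfocalSubgroup p = ⊥ := by
  refine le_bot_iff.1 ((Subgroup.closure_le _).2 ?_)
  rintro y ⟨P, α, x, hP, hα, rfl⟩
  have hAut : C.autGroup P ≤ autInducedBy R P := fun β hβ => by
    obtain ⟨g, hg, e⟩ := hC P _ ((mem_autGroup_iff hP).1 hβ)
    exact mem_autInducedBy_iff.2 ⟨g, hg, fun z => (autFn_apply β z.2).symm.trans (e z z.2)⟩
  have hp : IsPGroup p (C.autGroup P) := (isPGroup_autInducedBy hR).to_le hAut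
  have hres : pResidual p (C.autGroup P) ≤ (⊥ : Subgroup (C.autGroup P)) := by
    refine (Subgroup.closure_le _).2 fun β hβ => ?_
    obtain ⟨k, hk⟩ := hp β
    have h1 : orderOf β = 1 :=
      Nat.eq_one_of_dvd_coprimes ((show (orderOf β).Coprime p from hβ).pow_right k) dvd_rfl
        (orderOf_dvd_of_pow_eq_one hk)
    exact Subgroup.mem_bot.2 (orderOf_eq_one_iff.1 h1)
  rw [Subgroup.mem_bot.1 (hres hα)]
  simp

/-- A saturated fusion system F over a finite p-group S is constrained (its largest normal subgroup O_p(F) is centric) if and only if the inner fusion system of O_p(F) is itself a generalized Fitting subsystem of F (that is, F*(F) = O_p(F)). -/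
theorem result {Ω : Type*} [Group Ω] {S : Subgroup Ω} [Finite S] (p : ℕ) [Fact p.Prime] (hS : IsPGroup p S) (F : Cfsg.FusionSystem S) (hF : F.IsSaturated p) :
    F.IsConstrained p ↔ (Cfsg.innerFusionSystem F.core).IsGeneralizedFittingOf F p := by
  have hR : F.IsNormal F.core := S5145.result F
  have hRS : F.core ≤ S := hR.1
  have hbotN : F.IsNormal (⊥ : Subgroup Ω) := S5145.bot_normal F
  constructor
  · intro hc
    refine ⟨⊥, innerFusionSystem ⊥,
      ⟨FusionProduct.isNormalIn_inner hS hF hbotN, fun U C hC => ?_, fun R' D _ _ => ?_⟩, ?_⟩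
    · exact absurd ⟨U, C, hC⟩ (FusionProduct.not_component_of_constrained hS hc)
    · rintro P φ ⟨hP, g, hg, h⟩
      refine mem_of_isMap (IsMap.id (F := D) (hP.trans bot_le)) fun x => ?_
      rw [h x, Subgroup.mem_bot.1 hg]
      group
    · refine ⟨S5136.product _ _, fun P φ => Iff.rfl, ⊥,
        (MonoidHom.fst Ω Ω).comp (F.core.prod (⊥ : Subgroup Ω)).subtype, bot_le,
        bot_inf_eq _, bot_inf_eq _, fun x hx => rfl, fun y hy => ?_, bot_le, fun s => ?_, ?_,
        fun P' φ' => ?_⟩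
      · exact (Subgroup.mem_bot.1 hy.2).symm
      · rw [Subgroup.mem_bot]
        exact ⟨fun h => Prod.ext h (Subgroup.mem_bot.1 s.2.2), fun h => congrArg Prod.fst h⟩
      · ext y
        constructor
        · rintro ⟨s, rfl⟩
          exact s.2.1
        · exact fun hy => ⟨⟨(y, 1), hy, one_mem _⟩, rfl⟩
      · set D₀ := S5136.product (innerFusionSystem F.core) (innerFusionSystem (⊥ : Subgroup Ω))
        set θ := (MonoidHom.fst Ω Ω).comp (F.core.prod (⊥ : Subgroup Ω)).subtype with hθ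
        have hth : ∀ x ∈ F.core.prod (⊥ : Subgroup Ω), thF θ x = x.1 := fun x hx => by
          rw [thF_apply θ hx]
          rfl
        constructor
        · rintro ⟨hP', g, hg, h⟩
          have hgm : ((g, 1) : Ω × Ω) ∈ F.core.prod (⊥ : Subgroup Ω) := ⟨hg, one_mem _⟩
          have hle := preimageAlong_le θ P'
          refine ⟨hP', conjHom (preimageAlong θ P') (g, 1), D₀.conj_mem hle hgm,
            (inducedAlong_iff hle (fun x => mul_mem (mul_mem hgm (hle x.2)) (inv_mem hgm))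
              (fun x hx => (mem_preimageAlong.1 hx).2)).2 fun x hx => ?_⟩
          rw [toFn_apply φ' (mem_preimageAlong.1 hx).2, h, toFn_apply (conjHom _ _) hx]
          show g * thF θ x * g⁻¹ = _
          rw [hth x (hle hx)]
          exact (hth _ (mul_mem (mul_mem hgm (hle hx)) (inv_mem hgm))).symm
        · rintro ⟨hP', φ, hφ, hi⟩
          obtain ⟨hle, φ₁, ⟨-, g, hg, h1⟩, φ₂, -, he⟩ := hφ
          refine ⟨hP', g, hg, fun y => ?_⟩
          have hy : (((y : Ω), 1) : Ω × Ω) ∈ preimageAlong θ P' :=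
            mem_preimageAlong.2 ⟨⟨hP' y.2, one_mem _⟩, by rw [hth _ ⟨hP' y.2, one_mem _⟩]; exact y.2⟩
          obtain ⟨-, hφS, -⟩ := inducedAlong_le hi
          have h2 := (inducedAlong_iff hle hφS (fun x hx => (mem_preimageAlong.1 hx).2)).1 hi _ hy
          rw [hth _ (hle hy), toFn_apply φ hy, hth _ (hφS ⟨_, hy⟩),
            he ⟨_, hy⟩ ⟨_, hy, rfl⟩ ⟨_, hy, rfl⟩, toFn_coe] at h2
          exact h2.trans (h1 _)
  · rintro ⟨T, E, hL, D₀, hprod, Z, θ, hZc, -, -, -, hθ2, hfac⟩
    by_contra hc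
    obtain ⟨U, C, hC⟩ := FusionProduct.exists_component hS hF hc
    have hTS : T ≤ S := hL.1.1.2.2.2.1.1
    haveI := finite_of_le hRS
    haveI := finite_of_le hTS
    haveI : Finite ↥(F.core.prod T) := Finite.of_equiv _ (Subgroup.prodEquiv F.core T).toEquiv.symm
    have hcent := S5144.result D₀
    have hZsc : D₀.StronglyClosed Z := by
      refine Fusion.stronglyClosed_iff.2 ⟨hfac.1, fun P f hf x hxP hx => ?_⟩
      obtain ⟨φ, hφ, e⟩ := hf
      obtain ⟨ψ, -, hψP, hψQ⟩ := hcent.2 P φ hφ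
      have h1 : φ ⟨x, hxP⟩ = x := (hψP ⟨x, hxP⟩).symm.trans (hψQ ⟨x, hZc hx⟩)
      rw [← e x hxP, h1]
      exact hx
    have Dd : QData D₀ Z θ F.core := QData.ofFactor hZsc hfac
    have hEmap : ∀ P f, IsMap E P f → ∃ g ∈ F.core, ∀ x ∈ P, f x = g * x * g⁻¹ := by
      intro P f hf
      set M := (⊥ : Subgroup Ω).prod P with hM
      have h0 : IsMap (innerFusionSystem F.core) (FusionCrit.pr₁ M) (fun x => x) :=
        IsMap.id (by rw [FusionCrit.pr₁_prod]; exact bot_le)
      have hm : IsMap D₀ M (fun x => (x.1, f x.2)) :=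
        (FusionCrit.isMap_product_iff hprod).2
          ⟨Subgroup.prod_mono bot_le hf.le, _, f, h0, by rwa [FusionCrit.pr₂_prod], fun _ _ => rfl⟩
      obtain ⟨φ, hφ, e⟩ := hm
      obtain ⟨ψ, hψ, hψP, -⟩ := hcent.2 M φ hφ
      have hψ' : IsMap D₀ (M ⊔ D₀.center) (toFn ψ) := isMap_toFn hψ
      obtain ⟨f', hf', he⟩ := Dd.isMap_image hfac hψ' (hZc.trans le_sup_right)
      obtain ⟨-, g, hg, hge⟩ := isMap_inner_iff.1 hf'
      refine ⟨g, hg, fun x hx => ?_⟩
      have hxM : ((1, x) : Ω × Ω) ∈ M := ⟨one_mem _, hx⟩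
      have hxd : ((1, x) : Ω × Ω) ∈ F.core.prod T := ⟨one_mem _, hf.le hx⟩
      have h1 : thF θ (1, x) = x := by rw [thF_apply θ hxd]; exact hθ2 x hxd
      have h2 : toFn ψ (1, x) = (1, f x) := by
        rw [toFn_apply ψ (Subgroup.mem_sup_left hxM)]
        exact (hψP ⟨_, hxM⟩).trans (e _ hxM)
      have h3 : thF θ (1, f x) = f x := by
        rw [thF_apply θ (⟨one_mem _, hf.mem hx⟩ : ((1, f x) : Ω × Ω) ∈ F.core.prod T)]
        exact hθ2 _ _
      have h4 := hge _ (FusionProduct.thF_mem_image θ hψ'.le (Subgroup.mem_sup_left hxM))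
      rwa [he _ (Subgroup.mem_sup_left hxM), h2, h3, h1] at h4
    have hTR : T ≤ F.core := fun x hx => by
      have hxd : ((1, x) : Ω × Ω) ∈ F.core.prod T := ⟨one_mem _, hx⟩
      have := Dd.thF_mem hxd
      rwa [thF_apply θ hxd, hθ2 x hxd] at this
    have hCE : C.IsSubsystemOf E := hL.2.1 U C hC
    have hUT : U ≤ T := (FusionNormal.isMap_of_sub hCE (IsMap.id (le_refl U))).le
    have hCmap : ∀ P f, IsMap C P f → ∃ g ∈ F.core, ∀ x ∈ P, f x = g * x * g⁻¹ :=
      fun P f hf => hEmap P f (FusionNormal.isMap_of_sub hCE hf)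
    have hU : U = ⊥ := hC.2.2.1.symm.trans
      (hyperfocal_eq_bot (hS.to_le hRS) (hUT.trans hTR) hCmap)
    haveI := finite_of_le (hUT.trans hTS)
    refine S5148.result p (hS.to_le (hUT.trans hTS)) C hC.2 ⟨⟨fun a b => ?_⟩⟩
    subst hU
    exact Subsingleton.elim _ _

end Cfsg.Agent.S5310
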