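import Cfsg.Statements.S5311
import Cfsg.Agent.Lib.FusionIso.Components

set_option autoImplicit false
open Cfsg

namespace Cfsg.Agent.S5311

open Cfsg.Agent.Fusion Cfsg.Agent.FusionIso

open Classical in
/-- An automorphism of `S` as a function on the ambient group. -/
noncomputable def ext {Ω : Type*} [Group Ω] {S : Subgroup Ω} (α : S ≃* S) (x : Ω) : Ω :=
  if h : x ∈ S then ((α ⟨x, h⟩ : S) : Ω) else 1

theorem ext_apply {Ω : Type*} [Group Ω] {S : Subgroup Ω} (α : S ≃* S) {x : Ω} (h : x ∈ S) :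
    ext α x = ((α ⟨x, h⟩ : S) : Ω) := by
  simp [ext, h]

theorem imT_ext {Ω : Type*} [Group Ω] {S : Subgroup Ω} (α : S ≃* S) {P : Subgroup Ω} (hP : P ≤ S) :
    imT (ext α) P = Cfsg.FusionSystem.imageAlong (S.subtype.comp α.toMonoidHom) P := by
  refine le_antisymm ((Subgroup.closure_le _).2 ?_) ?_
  · rintro _ ⟨x, hx, rfl⟩
    exact ⟨⟨x, hP hx⟩, hx, (ext_apply α (hP hx)).symm⟩
  · rintro _ ⟨x, hx, rfl⟩
    exact Subgroup.subset_closure ⟨x, hx, ext_apply α x.2⟩

theorem isMap_ext {Ω : Type*} [Group Ω] {S : Subgroup Ω} {F : Cfsg.FusionSystem S} (α : S ≃* S)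
    (hα : F.IsMorphism F (S.subtype.comp α.toMonoidHom)) {P : Subgroup Ω} {f : Ω → Ω}
    (hf : IsMap F P f) : IsMap F (imT (ext α) P) fun y => ext α (f (ext α.symm y)) := by
  have hfP := hf.le
  obtain ⟨φ, hφ, he⟩ := hf
  obtain ⟨φ', hφ', hP, hφS, hP', hind⟩ := hα.2 P φ hφ
  rw [imT_ext α hfP]
  refine ⟨φ', hφ', fun y hy => ?_⟩
  obtain ⟨x, hx, rfl⟩ := hy
  have h1 : ext α.symm ((S.subtype.comp α.toMonoidHom) x) = x := by
    rw [ext_apply α.symm (show (S.subtype.comp α.toMonoidHom) x ∈ S from (α x).2)]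
    exact congrArg Subtype.val (α.symm_apply_apply x)
  show φ' _ = ext α (f (ext α.symm ((S.subtype.comp α.toMonoidHom) x)))
  have hx' : (x : Ω) ∈ P := hx
  rw [h1, ext_apply α (he x hx' ▸ hφS ⟨x, hx'⟩)]
  refine Eq.trans (hind ⟨x, hx'⟩) ?_
  exact congrArg (fun z : S => ((α z : S) : Ω)) (Subtype.ext (he x hx'))

/-- The layer of a saturated fusion system F over a finite p-group S is characteristic in F: for every automorphism α of S that is an automorphism of F (α and its inverse are morphisms from F to F) and every layer E of F over T, α carries T onto T and, for every map φ of E with source P, the map induced by α on α(P) (that is, α ∘ φ ∘ α⁻¹) is a map of E. -/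
theorem result {Ω : Type*} [Group Ω] {S : Subgroup Ω} [Finite S] (p : ℕ) [Fact p.Prime] (hS : IsPGroup p S) (F : Cfsg.FusionSystem S) (hF : F.IsSaturated p)
    (α : ↥S ≃* ↥S) (hα : F.IsMorphism F (S.subtype.comp α.toMonoidHom))
    (hα' : F.IsMorphism F (S.subtype.comp α.symm.toMonoidHom))
    {T : Subgroup Ω} (E : Cfsg.FusionSystem T) (hE : E.IsLayerOf F p) :
    Cfsg.FusionSystem.imageAlong (S.subtype.comp α.toMonoidHom) T = T ∧
      ∀ (P : Subgroup Ω) (φ : ↥P →* Ω), φ ∈ E.Hom P →
        ∀ φ' : ↥(Cfsg.FusionSystem.imageAlong (S.subtype.comp α.toMonoidHom) P) →* Ω,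
          Cfsg.FusionSystem.InducedAlong (S.subtype.comp α.toMonoidHom) φ φ' →
            φ' ∈ E.Hom (Cfsg.FusionSystem.imageAlong (S.subtype.comp α.toMonoidHom) P) := by
  let e : FIso F F :=
    { toFun := ext α
      invFun := ext α.symm
      mem := fun x hx => by rw [ext_apply α hx]; exact (α _).2
      mem' := fun x hx => by rw [ext_apply α.symm hx]; exact (α.symm _).2
      left := fun x hx => by
        rw [ext_apply α.symm (show ext α x ∈ S by rw [ext_apply α hx]; exact (α _).2)]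
        simp only [ext_apply α hx, Subtype.coe_eta, MulEquiv.symm_apply_apply]
      right := fun x hx => by
        rw [ext_apply α (show ext α.symm x ∈ S by rw [ext_apply α.symm hx]; exact (α.symm _).2)]
        simp only [ext_apply α.symm hx, Subtype.coe_eta, MulEquiv.apply_symm_apply]
      mul := fun x hx y hy => by
        rw [ext_apply α hx, ext_apply α hy, ext_apply α (mul_mem hx hy), ← Subgroup.coe_mul,
          ← map_mul]
        rfl
      fwd := fun P f hf => isMap_ext α hα hf
      bwd := fun P f hf => isMap_ext α.symm hα' hf }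
  obtain ⟨hn, hcomp, hmin⟩ := hE
  have hTS : T ≤ S := hn.1.2.2.2.1.1
  have hT₀ : e.symm.im T ≤ S := e.symm.im_le hTS
  have hT : T = e.im (e.symm.im T) := (e.im_symm_im hTS).symm
  have hnD := e.isNormalIn_pullSub hT₀ hT hF hn
  have hsub : E.IsSubsystemOf (e.pullSub hT₀ hT E) := by
    refine hmin _ _ hnD fun U C hC P φ hφ => ?_
    obtain ⟨U', C', g, hg1, hg2, hC'⟩ := exists_component hC e hF
    have h1 : IsMap E (e.im P) (e.fn (toFn φ)) := by
      have h2 := FusionNormal.isMap_of_sub (hcomp U' C' hC') (g.isMap_fn (isMap_toFn hφ))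
      have hfn : g.fn (toFn φ) = e.fn (toFn φ) := by
        funext y
        simp only [FIso.fn, hg1, hg2]
      have him : g.im P = e.im P := by
        show imT g.toFun P = imT e.toFun P
        rw [hg1]
      rwa [hfn, him] at h2
    have hφF : φ ∈ F.Hom P := by
      refine mem_of_isMap (f := toFn φ) ?_ fun x => (toFn_coe φ x).symm
      exact FusionNormal.isMap_of_sub hn.1.2.2.1
        (FusionNormal.isMap_of_sub (hcomp U C hC) (isMap_toFn hφ))
    obtain ⟨hPS, hφS⟩ := F.le_of_mem hφF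
    refine ⟨fun x hx => ?_, fun x => ?_, h1⟩
    · have h3 : e.toFun x ∈ e.im (e.symm.im T) := hT.le (h1.le (e.mem_im_of_mem hx))
      exact (e.toFun_mem_im hT₀ (hPS hx)).1 h3
    · have h3 : e.toFun (φ x) ∈ e.im (e.symm.im T) := by
        have := h1.mem (e.mem_im_of_mem x.2)
        rw [e.fn_apply _ (hPS x.2), toFn_coe] at this
        exact hT.le this
      exact (e.toFun_mem_im hT₀ (hφS x)).1 h3
  have hle : T ≤ e.symm.im T := (hsub T (E.conj_mem le_rfl T.one_mem)).1
  have := finite_of_le hT₀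
  have heq : T = e.symm.im T := Subgroup.eq_of_le_of_card_ge hle (e.symm.card_im hTS).le
  have himT : e.im T = T := by
    conv_lhs => rw [heq]
    exact hT.symm
  refine ⟨(imT_ext α hTS).symm.trans himT, fun P φ hφ φ' hind => ?_⟩
  obtain ⟨hPT, hφT, hm⟩ := hsub P hφ
  have hPS : P ≤ S := hPT.trans hT₀
  have himP : e.im P = Cfsg.FusionSystem.imageAlong (S.subtype.comp α.toMonoidHom) P :=
    imT_ext α hPS
  rw [himP] at hm
  refine mem_of_isMap hm ?_
  rintro ⟨y, x, hx, rfl⟩
  obtain ⟨hP, hφS, hP', hval⟩ := hind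
  have h1 : (S.subtype.comp α.toMonoidHom) x = e.toFun x := (ext_apply α x.2).symm
  refine Eq.trans (hval ⟨x, hx⟩) ?_
  show ((α _ : S) : Ω) = e.fn (toFn φ) ((S.subtype.comp α.toMonoidHom) x)
  rw [h1, e.fn_apply _ x.2, toFn_apply φ (show (x : Ω) ∈ P from hx)]
  exact (ext_apply α _).symm

end Cfsg.Agent.S5311
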