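import Cfsg.Statements.S5315
import Cfsg.Agent.Lib.Fusion.Essential
import Cfsg.Agent.Lib.FusionChain.Hyperfocal
import Cfsg.Agent.Lib.Biset.Transfer
import Cfsg.Agent.EqLemmas

set_option autoImplicit false
open Cfsg

namespace Cfsg.Agent.S5315

section Helpers

open Cfsg.FusionSystem hiding inv_mem
open Cfsg.Agent.Fusion

variable {Ω : Type*} [Group Ω] {S : Subgroup Ω} {F : Cfsg.FusionSystem S}

theorem center_le : F.center ≤ S := sSup_le fun _ h => h.1

/-- Every map extends to the centre, fixing it pointwise. -/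
theorem exists_extension_center [Finite S] {P : Subgroup Ω} {f : Ω → Ω} (hf : IsMap F P f) :
    ∃ f', IsMap F (P ⊔ F.center) f' ∧ (∀ x ∈ P, f' x = f x) ∧ ∀ z ∈ F.center, f' z = z := by
  classical
  haveI := finite_of_le (S := S) (P := F.center) center_le
  suffices key : ∀ s : Finset Ω, (∀ z ∈ s, z ∈ F.center) →
      ∃ f', IsMap F (P ⊔ Subgroup.closure (s : Set Ω)) f' ∧ ∀ x ∈ P, f' x = f x by
    obtain ⟨f', h1, h2⟩ := key (Set.toFinite (F.center : Set Ω)).toFinset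
      fun z hz => by simpa using hz
    rw [Set.Finite.coe_toFinset, Subgroup.closure_eq] at h1
    exact ⟨f', h1, h2, fun z hz =>
      Biset.eq_of_mem_center hz h1 (Subgroup.mem_sup_right hz)⟩
  intro s
  induction s using Finset.induction with
  | empty => intro _; exact ⟨f, by simpa using hf, fun _ _ => rfl⟩
  | insert a s ha ih =>
    intro hs
    obtain ⟨f₁, h₁, e₁⟩ := ih fun z hz => hs z (Finset.mem_insert_of_mem hz)
    obtain ⟨f₂, h₂, e₂, -⟩ := Biset.exists_extension_fixing_center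
      (hs a (Finset.mem_insert_self a s)) h₁
    refine ⟨f₂, h₂.mono (sup_le (le_sup_left.trans le_sup_left) ?_),
      fun x hx => (e₂ x (Subgroup.mem_sup_left hx)).trans (e₁ x hx)⟩
    rw [Subgroup.closure_le, Finset.coe_insert, Set.insert_subset_iff]
    exact ⟨Subgroup.mem_sup_right (Subgroup.mem_zpowers a),
      fun z hz => Subgroup.mem_sup_left (Subgroup.mem_sup_right (Subgroup.subset_closure hz))⟩

variable {Ω' : Type*} [Group Ω'] {S' : Subgroup Ω'} {θ : S →* Ω'} {E : Cfsg.FusionSystem S'}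

theorem mem_preimage {A : Subgroup Ω'} {x : Ω} (hx : x ∈ S) :
    x ∈ Cfsg.FusionSystem.preimageAlong θ A ↔ θ ⟨x, hx⟩ ∈ A := by
  constructor
  · rintro ⟨s, hs, he⟩
    exact (Subtype.ext he : s = ⟨x, hx⟩) ▸ hs
  · exact fun h => ⟨⟨x, hx⟩, h, rfl⟩

theorem preimage_le {A : Subgroup Ω'} : Cfsg.FusionSystem.preimageAlong θ A ≤ S :=
  Subgroup.map_subtype_le _

theorem inv_mul_mem_center (hker : ∀ s : S, θ s = 1 ↔ (s : Ω) ∈ F.center) {a b : Ω} (ha : a ∈ S)
    (hb : b ∈ S) (h : θ ⟨a, ha⟩ = θ ⟨b, hb⟩) : a⁻¹ * b ∈ F.center := by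
  refine (hker (⟨a, ha⟩⁻¹ * ⟨b, hb⟩)).1 ?_
  rw [map_mul, map_inv, h, inv_mul_cancel]

/-- Lifting of the extension of a map which is given by centrality in the factor system. -/
theorem exists_lift [Finite S] (hE : F.IsFactorSystem F.center θ E) {Q' : Subgroup Ω'}
    (hQ' : E.IsCentral Q') {P : Subgroup Ω} {f : Ω → Ω} (hf : IsMap F P f) :
    ∃ D g, IsMap F D g ∧ P ≤ D ∧ Cfsg.FusionSystem.preimageAlong θ Q' ≤ D ∧
      (∀ x ∈ P, (f x)⁻¹ * g x ∈ F.center) ∧
      ∀ w ∈ Cfsg.FusionSystem.preimageAlong θ Q', w⁻¹ * g w ∈ F.center := by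
  obtain ⟨-, hker, hrange, hhom⟩ := hE
  obtain ⟨h, hh, hhP, hhC⟩ := exists_extension_center hf
  set P₁ := P ⊔ F.center with hP₁def
  have hP₁ : P₁ ≤ S := sup_le hf.le center_le
  obtain ⟨φ, hφ, hφe⟩ := id hh
  set π : P₁ →* Ω' := θ.comp (Subgroup.inclusion hP₁)
  set θφ : P₁ →* Ω' := θ.comp (φ.codRestrict S fun x => (F.le_of_mem hφ).2 x)
  have hle : π.rangeRestrict.ker ≤ θφ.ker := by
    intro x hx
    rw [MonoidHom.ker_rangeRestrict, MonoidHom.mem_ker] at hx
    have hxC : (x : Ω) ∈ F.center := (hker _).1 hx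
    rw [MonoidHom.mem_ker]
    refine (hker _).2 ?_
    show φ x ∈ F.center
    rw [hφe x x.2, hhC x hxC]
    exact hxC
  set φ' : π.range →* Ω' :=
    (π.rangeRestrict).liftOfSurjective π.rangeRestrict_surjective ⟨θφ, hle⟩
  have hφ' : ∀ x : P₁, φ' ⟨π x, x, rfl⟩ = θφ x := fun x =>
    MonoidHom.liftOfRightInverse_comp_apply _ _ _ ⟨θφ, hle⟩ x
  have hpre : Cfsg.FusionSystem.preimageAlong θ π.range = P₁ := by
    refine le_antisymm (fun x hx => ?_) fun x hx => (mem_preimage (hP₁ hx)).2 ⟨⟨x, hx⟩, rfl⟩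
    obtain ⟨a, ha⟩ := (mem_preimage (preimage_le hx)).1 hx
    have := inv_mul_mem_center hker (hP₁ a.2) (preimage_le hx) ha
    simpa using mul_mem a.2 (Subgroup.mem_sup_right this)
  have hr : π.range ≤ S' := by rintro _ ⟨a, rfl⟩; rw [← hrange]; exact ⟨_, rfl⟩
  have hφ'E : φ' ∈ E.Hom π.range := by
    refine (hhom _ _).2 ⟨hr, ?_⟩
    have key : ∀ A : Subgroup Ω, A = P₁ → ∃ ψ ∈ F.Hom A, InducedAlong θ ψ φ' := by
      rintro A rfl
      exact ⟨φ, hφ, hP₁, (F.le_of_mem hφ).2, fun x => ⟨x, rfl⟩, fun x => hφ' x⟩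
    exact key _ hpre
  obtain ⟨ψ', hψ', hψP, hψQ⟩ := hQ'.2 _ _ hφ'E
  obtain ⟨-, g, hg, hDS, hgS, hgD, hgind⟩ := (hhom _ _).1 hψ'
  have hPD : ∀ x ∈ P₁, x ∈ Cfsg.FusionSystem.preimageAlong θ (π.range ⊔ Q') := fun x hx =>
    (mem_preimage (hP₁ hx)).2 (Subgroup.mem_sup_left ⟨⟨x, hx⟩, rfl⟩)
  have hQD : Cfsg.FusionSystem.preimageAlong θ Q' ≤
      Cfsg.FusionSystem.preimageAlong θ (π.range ⊔ Q') := fun x hx =>
    (mem_preimage (preimage_le hx)).2 (Subgroup.mem_sup_right ((mem_preimage (preimage_le hx)).1 hx))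
  refine ⟨_, toFn g, isMap_toFn hg, fun x hx => hPD x (Subgroup.mem_sup_left hx), hQD,
    fun x hx => ?_, fun w hw => ?_⟩
  · have hx₁ : x ∈ P₁ := Subgroup.mem_sup_left hx
    rw [toFn_apply g (hPD x hx₁)]
    refine inv_mul_mem_center hker (hf.mem hx) (hgS _) ?_
    rw [← hgind]
    refine Eq.trans ?_ (hψP ⟨π ⟨x, hx₁⟩, _, rfl⟩).symm
    rw [hφ' ⟨x, hx₁⟩]
    exact congrArg θ (Subtype.ext ((hhP x hx).symm.trans (hφe x hx₁).symm))
  · rw [toFn_apply g (hQD hw)]
    refine inv_mul_mem_center hker (preimage_le hw) (hgS _) ?_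
    rw [← hgind]
    exact (hψQ ⟨_, (mem_preimage (preimage_le hw)).1 hw⟩).symm

theorem center_commute {z x : Ω} (hz : z ∈ F.center) (hx : x ∈ S) : x * z = z * x := by
  have := Biset.eq_of_mem_center hz (IsMap.conj (F := F) le_rfl hx) (center_le hz)
  exact mul_inv_eq_iff_eq_mul.1 this

theorem isCentral_preimage [Finite S] {p : ℕ} [Fact p.Prime] (hS : IsPGroup p S)
    (hF : F.IsSaturated p) (hperf : F.hyperfocalSubgroup p = S)
    (hE : F.IsFactorSystem F.center θ E) {Q' : Subgroup Ω'} (hQ' : E.IsCentral Q') :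
    F.IsCentral (Cfsg.FusionSystem.preimageAlong θ Q') := by
  obtain ⟨-, hker, hrange, -⟩ := id hE
  set W := Cfsg.FusionSystem.preimageAlong θ Q'
  have hWS : W ≤ S := preimage_le
  have hcomm : ∀ x ∈ S, ∀ w ∈ W, x * w * x⁻¹ * w⁻¹ ∈ F.center := by
    intro x hx w hw
    obtain ⟨D, g, hg, hSD, -, hgx, hgw⟩ := exists_lift hE hQ' (IsMap.conj (F := F) le_rfl hx)
    have h1 := hgx w (hWS hw)
    have h2 := hgw w hw
    have h4 : w⁻¹ * (x * w * x⁻¹) ∈ F.center := by
      have := mul_mem h2 (inv_mem h1)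
      simpa [mul_assoc] using this
    have h5 := center_commute (inv_mem h4) (hWS hw)
    have : x * w * x⁻¹ * w⁻¹ = w⁻¹ * (x * w * x⁻¹) := by
      have e : w * (w⁻¹ * (x * w * x⁻¹))⁻¹ * w⁻¹ = (w⁻¹ * (x * w * x⁻¹))⁻¹ := by
        rw [h5]; group
      have := congrArg (·⁻¹) e
      simpa [mul_assoc] using this
    rwa [this]
  -- `W` is centralised by the focal subgroup
  have hfoc : F.focalSubgroup ≤ Subgroup.centralizer (W : Set Ω) := by
    refine (Subgroup.closure_le _).2 ?_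
    rintro _ ⟨P, φ, x, hφ, rfl⟩
    refine Subgroup.mem_centralizer_iff.2 fun w hw => ?_
    obtain ⟨D, g, hg, hPD, hWD, hgx, hgw⟩ := exists_lift hE hQ' (isMap_toFn hφ)
    have hxS : (x : Ω) ∈ S := (F.le_of_mem hφ).1 x.2
    have hc := hcomm x hxS w hw
    have hxD : (x : Ω) ∈ D := hPD x.2
    have hwD : w ∈ D := hWD hw
    have hfix : g ((x : Ω) * w * (x : Ω)⁻¹ * w⁻¹) = (x : Ω) * w * (x : Ω)⁻¹ * w⁻¹ :=
      Biset.eq_of_mem_center hc hg (mul_mem (mul_mem (mul_mem hxD hwD) (inv_mem hxD)) (inv_mem hwD))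
    rw [hg.map_mul (mul_mem (mul_mem hxD hwD) (inv_mem hxD)) (inv_mem hwD), hg.map_conj hxD hwD,
      hg.map_inv hwD] at hfix
    have h1 := hgx x x.2
    rw [toFn_coe] at h1
    have h2 := hgw w hw
    obtain ⟨z₁, hz₁, e₁⟩ : ∃ z ∈ F.center, g x = φ x * z := ⟨_, h1, (mul_inv_cancel_left _ _).symm⟩
    obtain ⟨z₂, hz₂, e₂⟩ : ∃ z ∈ F.center, g w = w * z := ⟨_, h2, (mul_inv_cancel_left _ _).symm⟩
    have hyS : φ x ∈ S := (F.le_of_mem hφ).2 x
    have hw' : w ∈ S := hWS hw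
    have c1 : z₁ * (w * z₂) * z₁⁻¹ = w * z₂ := by
      rw [← center_commute hz₁ (mul_mem hw' (center_le hz₂))]; group
    have c2 : φ x * (w * z₂) * (φ x)⁻¹ * (w * z₂)⁻¹ = φ x * w * (φ x)⁻¹ * w⁻¹ := by
      calc φ x * (w * z₂) * (φ x)⁻¹ * (w * z₂)⁻¹
          = φ x * w * (z₂ * (φ x)⁻¹) * z₂⁻¹ * w⁻¹ := by group
        _ = φ x * w * ((φ x)⁻¹ * z₂) * z₂⁻¹ * w⁻¹ := by rw [← center_commute hz₂ (inv_mem hyS)]
        _ = φ x * w * (φ x)⁻¹ * w⁻¹ := by group
    have h3 : φ x * w * (φ x)⁻¹ * w⁻¹ = (x : Ω) * w * (x : Ω)⁻¹ * w⁻¹ := by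
      rw [← hfix, e₁, e₂, ← c2]
      calc φ x * (w * z₂) * (φ x)⁻¹ * (w * z₂)⁻¹
          = φ x * (z₁ * (w * z₂) * z₁⁻¹) * (φ x)⁻¹ * (w * z₂)⁻¹ := by rw [c1]
        _ = φ x * z₁ * (w * z₂) * (φ x * z₁)⁻¹ * (w * z₂)⁻¹ := by group
    have h4 : φ x * w * (φ x)⁻¹ = (x : Ω) * w * (x : Ω)⁻¹ := mul_right_cancel h3
    calc w * ((x : Ω)⁻¹ * φ x) = (x : Ω)⁻¹ * ((x : Ω) * w * (x : Ω)⁻¹) * φ x := by group
      _ = (x : Ω)⁻¹ * (φ x * w * (φ x)⁻¹) * φ x := by rw [h4]
      _ = (x : Ω)⁻¹ * φ x * w := by group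
  have hWcentral : W ≤ Subgroup.centralizer (S : Set Ω) := fun w hw =>
    Subgroup.mem_centralizer_iff.2 fun s hs => by
      have := hfoc (FusionChain.hyperfocal_le_focal p (hperf.ge hs))
      exact (Subgroup.mem_centralizer_iff.1 this w hw).symm
  -- the automizers of subgroups containing `W` fix it
  have hfixW : ∀ R : Subgroup Ω, W ≤ R → F.IsFullyAutomized p R → ∀ α ∈ F.autGroup R,
      ∀ w ∈ W, autFn α w = w := by
    intro R hWR hA α hα
    have hR := hA.1
    have := finite_mulAut hR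
    obtain ⟨-, T, hT⟩ := id hA
    let Fx : Subgroup (MulAut R) :=
      { carrier := {a | ∀ w (hw : w ∈ W), a ⟨w, hWR hw⟩ = ⟨w, hWR hw⟩}
        one_mem' := fun w hw => rfl
        mul_mem' := fun {a b} ha hb w hw => by rw [MulAut.mul_apply, hb w hw, ha w hw]
        inv_mem' := fun {a} ha w hw => by conv_lhs => rw [← ha w hw, MulAut.inv_apply_self] }
    suffices hle : (⊤ : Subgroup (F.autGroup R)) ≤ Fx.comap (F.autGroup R).subtype by
      intro w hw
      rw [autFn_apply α (hWR hw)]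
      exact congrArg Subtype.val (hle (Subgroup.mem_top ⟨α, hα⟩) w hw)
    have htop : IsSylowIn p (T : Subgroup (F.autGroup R)) ⊤ :=
      ⟨le_top, T.isPGroup', fun C h1 _ h3 => T.is_maximal' h3 h1⟩
    rw [← htop.sup_pResidual]
    refine sup_le (fun a ha w hw => ?_) ((Subgroup.closure_le _).2 fun a ha w hw => ?_)
    · rw [hT] at ha
      obtain ⟨s, hs, hsa⟩ := mem_autInducedBy_iff.1 ha
      refine Subtype.ext ((hsa _).trans ?_)
      rw [Subgroup.mem_centralizer_iff.1 (hWcentral hw) s hs, mul_inv_cancel_right]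
    · have haF := isIso_autFn hR a.2
      obtain ⟨D, g, hg, hRD, hWD, hgx, hgw⟩ := exists_lift hE hQ' haF.1
      have hz : w⁻¹ * autFn (a : MulAut R) w ∈ F.center := by
        simpa [mul_assoc] using mul_mem (hgw w hw) (inv_mem (hgx w (hWR hw)))
      have hzR : w⁻¹ * autFn (a : MulAut R) w ∈ R :=
        mul_mem (inv_mem (hWR hw)) (autFn_mem _ (hWR hw))
      set z : R := ⟨_, hzR⟩ with hzdef
      have hzfix : (a : MulAut R) z = z := Subtype.ext (by
        rw [← autFn_apply (a : MulAut R) hzR]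
        exact Biset.eq_of_mem_center hz haF.1 hzR)
      have hstep : (a : MulAut R) ⟨w, hWR hw⟩ = ⟨w, hWR hw⟩ * z := Subtype.ext (by
        rw [← autFn_apply (a : MulAut R) (hWR hw), Subgroup.coe_mul, hzdef, mul_inv_cancel_left])
      have hpow : ∀ n : ℕ, ((a : MulAut R) ^ n) ⟨w, hWR hw⟩ = ⟨w, hWR hw⟩ * z ^ n := by
        intro n
        induction n with
        | zero => simp
        | succ m ih =>
          rw [pow_succ', MulAut.mul_apply, ih, map_mul, map_pow, hstep, hzfix, pow_succ', mul_assoc]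
      have hn := hpow (orderOf (a : MulAut R))
      rw [pow_orderOf_eq_one, MulAut.one_apply, left_eq_mul] at hn
      obtain ⟨k, hk⟩ := (hS.to_le hR) z
      have h1 : orderOf z ∣ p ^ k := orderOf_dvd_of_pow_eq_one hk
      have h2 : orderOf z ∣ orderOf (a : MulAut R) := orderOf_dvd_of_pow_eq_one hn
      have hco : (orderOf (a : MulAut R)).Coprime p := by
        rw [Subgroup.orderOf_coe]
        exact ha
      rw [orderOf_eq_one_iff.1
        (Nat.eq_one_of_dvd_coprimes (hco.symm.pow_left k) h1 h2), mul_one] at hstep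
      exact hstep
  refine ⟨hWS, fun P φ hφ => ?_⟩
  obtain ⟨g, hg, hgP, hgW⟩ := alperin_essential hS hF
    (fun P f => ∃ g, IsMap F (P ⊔ W) g ∧ (∀ x ∈ P, g x = f x) ∧ ∀ w ∈ W, g w = w)
    (fun P f f' _ ⟨g, h1, h2, h3⟩ e => ⟨g, h1, fun x hx => (h2 x hx).trans (e x hx), h3⟩)
    (fun P P' f _ hle ⟨g, h1, h2, h3⟩ =>
      ⟨g, h1.mono (sup_le_sup_right hle W), fun x hx => h2 x (hle hx), h3⟩)
    (fun P P' f f' _ _ hm ⟨g, h1, h2, h3⟩ ⟨g', h1', h2', h3'⟩ => by
      have hmem : ∀ y ∈ P ⊔ W, g y ∈ P' ⊔ W := by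
        intro y hy
        obtain ⟨φg, hφg, he⟩ := id h1
        have hle : P ⊔ W ≤ ((P' ⊔ W).comap φg).map (P ⊔ W).subtype := by
          refine sup_le (fun x hx => ?_) fun x hx => ?_
          · refine ⟨⟨x, Subgroup.mem_sup_left hx⟩, Subgroup.mem_comap.2 ?_, rfl⟩
            rw [he, h2 x hx]
            exact Subgroup.mem_sup_left (hm x hx)
          · refine ⟨⟨x, Subgroup.mem_sup_right hx⟩, Subgroup.mem_comap.2 ?_, rfl⟩
            rw [he, h3 x hx]
            exact Subgroup.mem_sup_right hx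
        obtain ⟨⟨u, hu⟩, hu', rfl⟩ := hle hy
        show g u ∈ P' ⊔ W
        rw [← he u hu]
        exact Subgroup.mem_comap.1 hu'
      refine ⟨fun x => g' (g x), h1.comp h1' hmem, fun x hx => ?_, fun w hw => ?_⟩
      · show g' (g x) = f' (f x)
        rw [h2 x hx, h2' _ (hm x hx)]
      · show g' (g w) = w
        rw [h3 w hw, h3' w hw])
    (fun R hR α hα => by
      have hA : F.IsFullyAutomized p R := by
        rcases hR with rfl | he
        · exact fullyAutomized_of_fullyNormalized hS hF (isFullyNormalized_self F)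
        · exact fullyAutomized_of_fullyNormalized hS hF he.2.1
      have hWR : W ≤ R := fun w hw => by
        rcases hR with rfl | he
        · exact hWS hw
        · refine he.1.2 R (isConj_refl F hA.1) ⟨hWS hw, Subgroup.mem_centralizer_iff.2 fun r hr => ?_⟩
          exact Subgroup.mem_centralizer_iff.1 (hWcentral hw) r (hA.1 hr)
      refine ⟨autFn α, ?_, fun x _ => rfl, hfixW R hWR hA α hα⟩
      rw [sup_eq_left.2 hWR]
      exact (isIso_autFn hA.1 hα).1)
    (isMap_toFn hφ)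
  obtain ⟨ψ, hψ, he⟩ := hg
  exact ⟨ψ, hψ, fun x => (he _ _).trans ((hgP x x.2).trans (toFn_coe φ x)),
    fun w => (he _ _).trans (hgW w w.2)⟩

end Helpers

/-- An analogue of Grün's lemma for fusion systems. Let F be a saturated fusion system over a finite p-group S that is perfect in the sense that its hyperfocal subgroup is all of S (F coincides with its p-residual subsystem). Then the second centre of F equals its centre: every fusion system over S/(Z(F) ∩ S) that is the factor system of F modulo its centre Z(F), read through the quotient map, has trivial centre. -/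
theorem result {Ω : Type*} [Group Ω] {S : Subgroup Ω} [Finite S] (p : ℕ) [Fact p.Prime] (hS : IsPGroup p S) (F : Cfsg.FusionSystem S) (hF : F.IsSaturated p)
    (hperf : F.hyperfocalSubgroup p = S)
    (E : Cfsg.FusionSystem (⊤ : Subgroup (↥S ⧸ (F.center).subgroupOf S)))
    (hE : F.IsFactorSystem F.center (QuotientGroup.mk' ((F.center).subgroupOf S)) E) : E.center = ⊥ := by
  refine le_bot_iff.1 (sSup_le fun Q' hQ' => ?_)
  have hc : F.IsCentral (Cfsg.FusionSystem.preimageAlong _ Q') :=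
    isCentral_preimage hS hF hperf hE hQ'
  have hle : Cfsg.FusionSystem.preimageAlong _ Q' ≤ F.center := le_sSup hc
  intro y hy
  obtain ⟨x, rfl⟩ := QuotientGroup.mk'_surjective _ y
  exact Subgroup.mem_bot.2 ((hE.2.1 x).2 (hle ⟨x, hy, rfl⟩))

end Cfsg.Agent.S5315
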