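import Cfsg.Statements.S5316
import Cfsg.Agent.Lib.MaxClass.SmallEssential

set_option autoImplicit false
open Cfsg

namespace Cfsg.Agent.S5316

/-- Let p ≥ 5 be a prime, S a finite p-group of maximal class of order p^n with n ≥ 5 (nilpotency class n − 1), F a saturated fusion system over S, and E an F-essential subgroup that is not a pearl (not elementary abelian of order p² and not extraspecial of order p³ and exponent p). Then E has order at least p⁴. -/
theorem result {Ω : Type*} [Group Ω] {S : Subgroup Ω} [Finite S] (p : ℕ) [Fact p.Prime] (hp : 5 ≤ p) (hS : IsPGroup p ↥S) (n : ℕ) (hn : Nat.card S = p ^ n) (h5 : 5 ≤ n)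
    (hmax : Subgroup.lowerCentralSeries S (n - 2) ≠ ⊥) (F : Cfsg.FusionSystem S) (hF : F.IsSaturated p)
    (E : Subgroup Ω) (hE : F.IsEssential p E)
    (hnp : ¬ ((Nat.card ↥E = p ^ 2 ∧ Cfsg.IsElementaryAbelian p E) ∨ (Nat.card ↥E = p ^ 3 ∧ Cfsg.IsExtraspecial p ↥E ∧ Monoid.exponent ↥E = p))) :
    p ^ 4 ≤ Nat.card ↥E := by
  haveI := Agent.Fusion.finite_of_le (S := S) hE.1.1
  have hupper : Subgroup.upperCentralSeries S (n - 2) ≠ ⊤ := MaxClass.not_top_of_lowerCentralSeries hmax
  have c := MaxClassPower.Mc.of_not_top hn (by omega) hupper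
  by_contra hlt
  rw [not_le] at hlt
  have s := EssentialSmall.setting_of_essential hS hF hE
  have hle : Nat.card E ≤ p ^ 3 := by
    obtain ⟨j, hj⟩ := IsPGroup.iff_card.mp s.pgroup
    rw [hj] at hlt ⊢
    rw [Nat.pow_lt_pow_iff_right (Fact.out : p.Prime).one_lt] at hlt
    exact Nat.pow_le_pow_right (Fact.out : p.Prime).pos (by omega)
  rcases MaxClassPower.small_cases s (by omega) hle with ⟨h2, hab, hexp⟩ | h | ⟨h3, hab, hexp⟩
  · exact hnp (Or.inl ⟨h2, ⟨⟨fun a b => hab a b⟩⟩, fun a ha => congrArg Subtype.val (hexp ⟨a, ha⟩)⟩)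
  · exact hnp (Or.inr h)
  · exact MaxClassPower.false_of_elementary_cube hp h5 hS hF c hE h3 hab hexp

end Cfsg.Agent.S5316
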