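import Cfsg.Statements.S5317
import Cfsg.Agent.Lib.PSL2.Conjugacy
import Cfsg.Agent.Lib.Fusion.Group
import Cfsg.Agent.Lib.Fusion3.Linear
import Cfsg.Agent.S2431
import Cfsg.Agent.S0261
import Cfsg.Agent.S5339

set_option autoImplicit false
open Cfsg

namespace Cfsg.Agent.S5317

section
open Matrix Cfsg.Agent.PSL2

variable {F : Type*} [Field F] [Fintype F]

/-- Involutions of `PSL_2`, `q` odd, are conjugate. -/
theorem involution_conj (hodd : Fintype.card F % 2 = 1) {x y : PSL2 F} (hx : x ≠ 1) (hy : y ≠ 1)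
    (hx2 : x * x = 1) (hy2 : y * y = 1) : ∃ g, g * x * g⁻¹ = y := by
  have h2 : (2 : F) ≠ 0 := Fusion3.two_ne_zero_of_odd hodd
  obtain ⟨A, rfl, hA⟩ := exists_lift_involution h2 hx hx2
  obtain ⟨B, rfl, hB⟩ := exists_lift_involution h2 hy hy2
  have hns : ∀ g : SL2 F, tr g = 0 → ¬ TwoByTwo.IsScalar (g : Matrix (Fin 2) (Fin 2) F) := by
    intro g hg hs
    have hd := det_eq g
    have hs2 : g.1 0 0 = g.1 1 1 := hs.2.2
    have h0 : (2 : F) * g.1 0 0 = 0 := by
      rw [tr, ← hs2] at hg; linear_combination hg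
    rw [hs.1, ← hs2, (mul_eq_zero.1 h0).resolve_left h2] at hd
    simp at hd
  obtain ⟨c, hc⟩ := isConj_iff.1 (TwoByTwo.gl_isConj_of_eq
    (A := (A : GL (Fin 2) F)) (B := (B : GL (Fin 2) F)) (hns A hA) (hns B hB)
    (by simp only [Matrix.SpecialLinearGroup.coe_GL_coe_matrix]; rw [← tr_eq_trace, ← tr_eq_trace, hA, hB])
    (by simp only [Matrix.SpecialLinearGroup.coe_GL_coe_matrix]; rw [A.2, B.2]))
  set C : Matrix (Fin 2) (Fin 2) F := (c : Matrix (Fin 2) (Fin 2) F) with hC
  have hcA : C * A.1 = B.1 * C := by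
    have := congrArg Units.val (mul_inv_eq_iff_eq_mul.1 hc)
    simpa using this
  have hdet : C.det ≠ 0 := ((Matrix.isUnit_iff_isUnit_det _).1 c.isUnit).ne_zero
  obtain ⟨a, b, hab⟩ := Fusion3.exists_sq_add_sq (K := F) (by rwa [Nat.card_eq_fintype_card]) C.det⁻¹
  let g : SL2 F := ⟨C * lin A a b, by
    rw [Matrix.det_mul, det_lin, hA, zero_mul, zero_mul, add_zero, pow_two, pow_two, hab, mul_inv_cancel₀ hdet]⟩
  have hg : g * A = B * g := Subtype.ext (by
    show C * lin A a b * A.1 = B.1 * (C * lin A a b)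
    have h1 : lin A a b * A.1 = A.1 * lin A a b := by simp [lin, add_mul, mul_add]
    rw [mul_assoc, h1, ← mul_assoc, hcA, mul_assoc])
  refine ⟨QuotientGroup.mk g, ?_⟩
  rw [← QuotientGroup.mk_mul, hg, QuotientGroup.mk_mul, mul_inv_cancel_right]

theorem exists_involution (hodd : Fintype.card F % 2 = 1) : ∃ x : PSL2 F, x ≠ 1 ∧ x * x = 1 := by
  have h2 : (2 : F) ≠ 0 := Fusion3.two_ne_zero_of_odd hodd
  let A : SL2 F := ⟨!![0, 1; -1, 0], by simp [Matrix.det_fin_two]⟩
  have hA : tr A = 0 := by simp [tr, A]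
  refine ⟨QuotientGroup.mk A, ne_one_of_tr_zero h2 hA, ?_⟩
  rw [← QuotientGroup.mk_mul, mk_one_iff]
  exact Or.inr (sq_eq_neg_one_of_tr_zero hA)

end

/-- Let F be a finite field of odd order q with q² ≡ 1 mod 16 (so that a Sylow 2-subgroup of PSL(2,q), dihedral of order the 2-part of (q²−1)/2, has order at least 8). Then the 2-fusion system of PSL(2,F) on a Sylow 2-subgroup is simple: saturated, over a nontrivial 2-group, with no normal subsystem other than the trivial one and itself. -/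
theorem result {F : Type*} [Field F] [Fintype F] (hodd : Fintype.card F % 2 = 1) (h16 : 16 ∣ Fintype.card F ^ 2 - 1)
    (S : Sylow 2 (Matrix.ProjectiveSpecialLinearGroup (Fin 2) F)) :
    (Cfsg.groupFusionSystem (S : Subgroup (Matrix.ProjectiveSpecialLinearGroup (Fin 2) F))).IsSimple 2 := by
  classical
  open Cfsg.Agent.PSL2 Cfsg.Agent.Fusion in
  have h2 : (2 : F) ≠ 0 := Fusion3.two_ne_zero_of_odd hodd
  have : Fact (Nat.Prime 2) := ⟨Nat.prime_two⟩
  set K := Subgroup.center (Matrix.SpecialLinearGroup (Fin 2) F) with hK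
  set f : Matrix.SpecialLinearGroup (Fin 2) F →* Matrix.ProjectiveSpecialLinearGroup (Fin 2) F :=
    QuotientGroup.mk' K with hf
  obtain ⟨P, rfl⟩ := Sylow.mapSurjective_surjective (f := f) (QuotientGroup.mk'_surjective K) 2 S
  obtain ⟨hcen, hself, -⟩ := S2431.result (Nat.odd_iff.2 hodd) P
  have h8 : Fintype.card F % 8 = 1 ∨ Fintype.card F % 8 = 7 := by
    set q := Fintype.card F
    rcases (show q % 8 = 1 ∨ q % 8 = 7 ∨ q % 8 = 3 ∨ q % 8 = 5 by omega) with h | h | h | h
    · exact Or.inl h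
    · exact Or.inr h
    all_goals
      exfalso
      have e : q = 8 * (q / 8) + q % 8 := (Nat.div_add_mod q 8).symm
      rw [h] at e
      rw [e, pow_two] at h16
      obtain ⟨k, hk⟩ := h16
      ring_nf at hk
      omega
  have hNP := hself h8
  have hKP : K ≤ P.toSubgroup := fun z hz => hNP.le (by
    rw [Subgroup.mem_normalizer_iff]
    intro x
    rw [← Subgroup.mem_center_iff.1 hz x, mul_inv_cancel_right])
  have hker : f.ker = K := QuotientGroup.ker_mk' K
  have hcm : (P.toSubgroup.map f).comap f = P.toSubgroup :=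
    Subgroup.comap_map_eq_self (hker.trans_le hKP)
  set S := P.mapSurjective (QuotientGroup.mk'_surjective K) with hSdef
  have hScoe : S.toSubgroup = P.toSubgroup.map f := Sylow.coe_mapSurjective _ P
  have hne : S.toSubgroup ≠ ⊥ := by
    obtain ⟨x, hx1, hx2⟩ := exists_involution hodd
    have ho : orderOf x = 2 := orderOf_eq_prime (by rw [pow_two, hx2]) hx1
    exact S.ne_bot_of_dvd_card ((dvd_of_eq ho.symm).trans (orderOf_dvd_natCard x))
  refine S5339.result 2 S.isPGroup' _ (Fusion.isSaturated_group S) hne ?_ fun T hT => ?_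
  · rw [Fusion.autGroup_group le_rfl]
    ext α
    rw [Fusion.mem_autInducedBy_iff]
    constructor
    · rintro ⟨g, -, hg⟩
      obtain ⟨g', rfl⟩ := QuotientGroup.mk'_surjective K g
      have hmem : ∀ y, y ∈ S.toSubgroup ↔ f g' * y * (f g')⁻¹ ∈ S.toSubgroup := by
        intro y
        refine ⟨fun hy => by rw [← hg ⟨y, hy⟩]; exact (α ⟨y, hy⟩).2, fun hy => ?_⟩
        obtain ⟨z, hz⟩ := α.surjective ⟨_, hy⟩
        have h1 := hg z
        rw [hz] at h1
        have : y = (z : _) := mul_left_cancel (mul_right_cancel h1)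
        exact this ▸ z.2
      have hg' : g' ∈ P.toSubgroup := hNP.le (Subgroup.mem_normalizer_iff.2 fun x => by
        rw [← hcm, Subgroup.mem_comap, Subgroup.mem_comap, map_mul, map_mul, map_inv, ← hScoe]
        exact hmem (f x))
      exact ⟨⟨f g', hScoe ▸ ⟨g', hg', rfl⟩⟩, MulEquiv.ext fun x => Subtype.ext (hg x).symm⟩
    · rintro ⟨s, rfl⟩
      exact ⟨s, trivial, fun x => rfl⟩
  · by_cases hT1 : T = ⊥
    · exact Or.inl hT1
    right
    refine le_antisymm hT.1 ?_
    have hinv : ∀ y ∈ S.toSubgroup, y * y = 1 → y ∈ T := by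
      intro y hy hy2
      by_cases hy1 : y = 1
      · rw [hy1]; exact T.one_mem
      obtain ⟨k, hk⟩ := IsPGroup.iff_card.1 (S.isPGroup'.to_le hT.1)
      obtain ⟨⟨t, ht⟩, hto⟩ := exists_prime_orderOf_dvd_card' (G := T) 2 (by
        rw [hk]
        refine dvd_pow_self 2 fun h0 => hT1 (Subgroup.card_eq_one.1 ?_)
        rw [hk, h0, pow_zero])
      rw [Subgroup.orderOf_mk] at hto
      obtain ⟨g, hg⟩ := involution_conj hodd (x := t) (y := y)
        (fun e => by rw [e, orderOf_one] at hto; omega) hy1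
        (by have := pow_orderOf_eq_one t; rwa [hto, pow_two] at this) hy2
      have hle : Subgroup.zpowers t ≤ T := Subgroup.zpowers_le.2 ht
      have hmap : Cfsg.conjHom (Subgroup.zpowers t) g ∈
          (Cfsg.groupFusionSystem S.toSubgroup).Hom (Subgroup.zpowers t) := by
        refine ⟨hle.trans hT.1, fun z => ?_, g, fun z => rfl⟩
        obtain ⟨j, hj⟩ := Subgroup.mem_zpowers_iff.1 z.2
        show g * (z : _) * g⁻¹ ∈ _
        rw [← hj, ← conj_zpow, hg]
        exact zpow_mem hy j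
      exact hg ▸ hT.2 _ hle _ hmap ⟨t, Subgroup.mem_zpowers t⟩
    rw [hScoe]
    rintro _ ⟨y, hy, rfl⟩
    obtain ⟨k, -, ⟨e⟩⟩ := S0261.result (Nat.odd_iff.2 hodd) P
    have hxa : ∀ z : P.toSubgroup, ∀ i, e z = QuaternionGroup.xa i → f z ∈ T := by
      intro z i hz
      refine hinv _ (hScoe ▸ ⟨z, z.2, rfl⟩) ?_
      have ho : orderOf z = 4 := by
        rw [← MulEquiv.orderOf_eq e, hz, QuaternionGroup.orderOf_xa]
      have h4 : (((z : P.toSubgroup) : Matrix.SpecialLinearGroup (Fin 2) F) * z) *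
          ((z : Matrix.SpecialLinearGroup (Fin 2) F) * z) = 1 := by
        have := congrArg Subtype.val (pow_orderOf_eq_one z)
        rw [ho] at this
        simpa [pow_succ, mul_assoc] using this
      rw [← map_mul]
      exact (QuotientGroup.eq_one_iff _).2 (PSL2.mem_center_of_mul_self h2 h4)
    rcases hey : e ⟨y, hy⟩ with i | i
    · set w := e.symm (QuaternionGroup.xa 0)
      set w' := e.symm (QuaternionGroup.xa (i - ((2 ^ k : ℕ) : ZMod (2 * 2 ^ k)))) with hw'
      have hww : (⟨y, hy⟩ : P.toSubgroup) = w * w' := by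
        apply e.injective
        rw [hey, map_mul, MulEquiv.apply_symm_apply, MulEquiv.apply_symm_apply,
          QuaternionGroup.xa_mul_xa]
        congr 1
        ring
      have : y = (w : Matrix.SpecialLinearGroup (Fin 2) F) * w' := congrArg Subtype.val hww
      rw [this, map_mul]
      exact mul_mem (hxa w _ (e.apply_symm_apply _)) (hxa w' _ (e.apply_symm_apply _))
    · exact hxa ⟨y, hy⟩ i hey

end Cfsg.Agent.S5317
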