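import Cfsg.Statements.S5318
import Cfsg.Agent.Lib.Fusion3.Equiv
import Cfsg.Agent.Lib.Fusion3.Linear
import Cfsg.Agent.Lib.GLOrder.Basic

set_option autoImplicit false
open Cfsg

namespace Cfsg.Agent.S5318

/-- For a finite field F of odd order, the 2-fusion system of PSL(3,F) on a Sylow 2-subgroup (semidihedral or wreathed according as |F| ≡ 3 or 1 mod 4) is simple. -/
theorem result {F : Type*} [Field F] [Fintype F] (hodd : Fintype.card F % 2 = 1) (S : Sylow 2 (Matrix.ProjectiveSpecialLinearGroup (Fin 3) F)) :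
    (Cfsg.groupFusionSystem (S : Subgroup (Matrix.ProjectiveSpecialLinearGroup (Fin 3) F))).IsSimple 2 := by
  classical
  have : Fact (Nat.Prime 2) := ⟨Nat.prime_two⟩
  have hK : (Nat.card (Subgroup.center (Matrix.SpecialLinearGroup (Fin 3) F))).Coprime 2 := by
    rw [GLOrder.card_center_SL]
    exact Nat.Coprime.coprime_dvd_left (Nat.gcd_dvd_left _ _) (by decide)
  refine Fusion3.isSimple_quotient _ hK (fun S₁ => ?_) S
  exact Fusion3.isSimple_mulEquiv Subgroup.topEquiv
    (fun S₂ => (Fusion3.data_sl hodd).isSimple S₂) S₁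

end Cfsg.Agent.S5318
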