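import Cfsg.Statements.S5319
import Cfsg.Agent.Lib.Fusion3.Equiv
import Cfsg.Agent.Lib.Fusion3.Unitary
import Cfsg.Agent.Lib.Unitary.Center

set_option autoImplicit false
open Cfsg

namespace Cfsg.Agent.S5319

/-- Let q be an odd prime power and F a field with q² elements. Then the 2-fusion system of PSU(3,q) (realised as the special unitary group of the standard Hermitian form over F modulo its centre) on a Sylow 2-subgroup is simple. -/
theorem result {F : Type*} [Field F] [Fintype F] (q : ℕ) (hq : Fintype.card F = q ^ 2) (hodd : q % 2 = 1) (S : Sylow 2 (Cfsg.PSU 3 F q)) :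
    (Cfsg.groupFusionSystem (S : Subgroup (Cfsg.PSU 3 F q))).IsSimple 2 := by
  classical
  have : Fact (Nat.Prime 2) := ⟨Nat.prime_two⟩
  have hK : (Nat.card (Subgroup.center (Cfsg.SU 3 F q))).Coprime 2 := by
    rw [Unitary.card_center_SU hq (by norm_num)]
    exact Nat.Coprime.coprime_dvd_left (Nat.gcd_dvd_left _ _) (by decide)
  exact Fusion3.isSimple_quotient _ hK
    (fun S₁ => (Fusion3.data_su hq hodd).isSimple S₁) S

end Cfsg.Agent.S5319
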