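import Cfsg.Statements.S5320
import Cfsg.Agent.Lib.Linear.SpFourOddFusion
import Cfsg.Agent.S5160

set_option autoImplicit false
open Cfsg

namespace Cfsg.Agent.S5320

open Cfsg.FusionSystem Cfsg.Agent.Linear Cfsg.Agent.Fusion Cfsg.Agent.FusionNormal
open Cfsg.Agent.Linear.SLTwo Cfsg.Agent.Linear.SpFour
open scoped MatrixGroups

/-- For a finite field F of odd order, the 2-fusion system of the projective symplectic group PSp(4,F) on a Sylow 2-subgroup is simple. -/
theorem result {F : Type*} [Field F] [Fintype F] (hodd : Fintype.card F % 2 = 1) (S : Sylow 2 (Cfsg.PSp 2 F)) :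
    (Cfsg.groupFusionSystem (S : Subgroup (Cfsg.PSp 2 F))).IsSimple 2 := by
  haveI : Fact (Nat.Prime 2) := ⟨Nat.prime_two⟩
  haveI : Finite (Matrix.symplecticGroup (Fin 2) F) := inferInstance
  have hodd' : Odd (Nat.card F) := by
    rw [Nat.card_eq_fintype_card]; exact Nat.odd_iff.2 hodd
  have h2 : (2 : F) ≠ 0 := Ring.two_ne_zero fun hc => by
    have := FiniteField.even_card_iff_char_two.1 hc
    omega
  obtain ⟨α, β, hab⟩ : ∃ α β : F, α ^ 2 + β ^ 2 = -1 := by
    obtain ⟨u, w, h⟩ := Linear.exists_sq_sub_eq 0 (-1 : F) (-1) (neg_ne_zero.2 one_ne_zero)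
    exact ⟨u, w, by linear_combination h⟩
  obtain ⟨Q, hiQ, hjQ, hgen, hN⟩ := exists_two_sylow hodd' α β hab h2
  have hQp : IsPGroup 2 (Q : Subgroup SL(2, F)) := Q.isPGroup'
  have hWcard : Nat.card (spW (Q : Subgroup SL(2, F))) =
      2 ^ (Nat.card (Matrix.symplecticGroup (Fin 2) F)).factorization 2 := by
    rw [card_spW, Q.card_eq_multiplicity, Nat.factorization_def _ Nat.prime_two,
      Nat.factorization_def _ Nat.prime_two, SympSylowTwo.padic_card_eq hodd',
      SympSylowTwo.card_mono, padicValNat.mul (pow_ne_zero _ Nat.card_pos.ne') (Nat.factorial_ne_zero 2),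
      padicValNat.pow, Nat.factorial_two, padicValNat.self (by norm_num)]
    ring
  let G := Cfsg.PSp 2 F
  let π₀ : Matrix.symplecticGroup (Fin 2) F →* G := QuotientGroup.mk' _
  have hπ₀ : Function.Surjective π₀ := QuotientGroup.mk'_surjective _
  obtain ⟨g₀, hg₀⟩ := MulAction.exists_smul_eq G
    ((Sylow.ofCard (spW (Q : Subgroup SL(2, F))) hWcard).mapSurjective hπ₀) S
  let π : Matrix.symplecticGroup (Fin 2) F →* G := (MulAut.conj g₀).toMonoidHom.comp π₀
  have hπ : Function.Surjective π := (MulAut.conj g₀).surjective.comp hπ₀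
  have hπW : (spW (Q : Subgroup SL(2, F))).map π = (S : Subgroup G) := by
    rw [← hg₀, Sylow.coe_subgroup_smul, ← Subgroup.map_map]
    rfl
  have hkerc : ∀ z, π z = 1 → z ∈ Subgroup.center (Matrix.symplecticGroup (Fin 2) F) := by
    intro z hz
    exact (QuotientGroup.eq_one_iff _).1
      ((MulAut.conj g₀).injective (hz.trans (map_one (MulAut.conj g₀)).symm))
  have hneg : π negOne = 1 := by
    change MulAut.conj g₀ (π₀ negOne) = 1
    rw [show π₀ negOne = 1 from (QuotientGroup.eq_one_iff _).2 negOne_mem_center, map_one]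
  have hker : ∀ z, π z = 1 → z = 1 ∨ z = negOne := by
    intro z hz
    have hc := fun y => (Subgroup.mem_center_iff.1 (hkerc z hz) y).symm
    exact eq_one_or_negOne α β hab h2 (hc _) (hc _) (hc _) (hc _)
  have hm1 : (-1 : SL(2, F)) ∈ (Q : Subgroup SL(2, F)) := by
    rw [← iS_sq]; exact mul_mem hiQ hiQ
  have hnegW : negOne ∈ spW (Q : Subgroup SL(2, F)) := pair_mem hm1 hm1
  have hpre : ∀ w, π w ∈ (S : Subgroup G) → w ∈ spW (Q : Subgroup SL(2, F)) := by
    intro w hw
    rw [← hπW] at hw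
    obtain ⟨v, hv, e⟩ := hw
    rcases hker (v⁻¹ * w) (by rw [map_mul, map_inv, e, inv_mul_cancel]) with h | h
    · rwa [inv_mul_eq_one.1 h] at hv
    · have := mul_mem hv hnegW
      rwa [← h, mul_inv_cancel_left] at this
  have hmemS : ∀ w ∈ spW (Q : Subgroup SL(2, F)), π w ∈ (S : Subgroup G) := fun w hw =>
    hπW ▸ ⟨w, hw, rfl⟩
  have hS1 : (S : Subgroup G) ≠ ⊥ := by
    intro hb
    have h := hmemS sw sw_mem_spW
    rw [hb, Subgroup.mem_bot] at h
    rcases hker _ h with e | e
    · exact pair_ne_sw (1 : SL(2, F)) 1 1 1 (by rw [pair_one, one_mul]; exact e.symm)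
    · exact pair_ne_sw (-1 : SL(2, F)) (-1) 1 1 (by rw [pair_one, one_mul]; exact e.symm)
  refine isSimple_of_top_generated S.isPGroup' (isSaturated_group S) hS1 ?_ ?_
  · -- strongly closed subgroups
    intro T hT
    have hmap : ∀ x ∈ T, ∀ g : G, g * x * g⁻¹ ∈ (S : Subgroup G) → g * x * g⁻¹ ∈ T := by
      intro x hx g hg
      have hle : Subgroup.zpowers x ≤ T := Subgroup.zpowers_le.2 hx
      have hcS : (S : Subgroup G).comap (MulAut.conj g).toMonoidHom ≥ Subgroup.zpowers x :=
        Subgroup.zpowers_le.2 hg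
      obtain ⟨φ, hφ, e⟩ := isMap_group_iff.2 ⟨hle.trans hT.1, g, fun y hy => ⟨hcS hy, rfl⟩⟩
      have := hT.2 _ hle φ hφ ⟨x, Subgroup.mem_zpowers x⟩
      rwa [e x (Subgroup.mem_zpowers x)] at this
    by_cases hb : T = ⊥
    · exact .inl hb
    right
    obtain ⟨y, hy, hy1⟩ := (Subgroup.ne_bot_iff_exists_ne_one.1 hb) |> fun ⟨a, ha⟩ =>
      (⟨(a : G), a.2, fun e => ha (Subtype.ext e)⟩ : ∃ y, y ∈ T ∧ y ≠ 1)
    obtain ⟨x, rfl⟩ := hπ y
    have hle : spW (Q : Subgroup SL(2, F)) ≤ T.comap π := by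
      refine spW_le_of_closed h2 hQp hiQ hjQ hgen (fun w hw => hpre w (hT.1 hw)) ?_ hy
        (fun e => hy1 (by rw [e, map_one])) (fun e => hy1 (by rw [e, hneg])) ?_
      · rw [Subgroup.mem_comap, hneg]; exact one_mem T
      · intro v hv g hg
        rw [Subgroup.mem_comap, map_mul, map_mul, map_inv]
        refine hmap _ hv (π g) ?_
        rw [← map_inv, ← map_mul, ← map_mul]
        exact hmemS _ hg
    refine le_antisymm hT.1 ?_
    rw [← hπW, Subgroup.map_le_iff_le_comap]
    exact hle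
  · -- generation of the automorphisms of `S`
    rw [autGroup_group le_rfl]
    set B := {β : MulAut (S : Subgroup G) | β ∈ autInducedBy ⊤ (S : Subgroup G) ∧
      ((∃ k, β ^ 2 ^ k = 1) ∨ ∃ R, (Cfsg.groupFusionSystem (S : Subgroup G)).IsCentric R ∧
        ∃ γ ∈ Subgroup.closure {γ : MulAut R |
          γ ∈ (Cfsg.groupFusionSystem (S : Subgroup G)).autGroup R ∧ ∃ k, γ ^ 2 ^ k = 1},
        ∀ x : R, ((γ x : R) : G) = autFn β x)} with hB
    suffices hsuff : ∀ g : normalizerIn ⊤ (S : Subgroup G),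
        normConj ⊤ (S : Subgroup G) g ∈ Subgroup.closure B by
      intro β hβ
      rw [← range_normConj] at hβ
      obtain ⟨g, rfl⟩ := hβ
      exact hsuff g
    let N := normalizerIn ⊤ (S : Subgroup G)
    let H : Subgroup (Matrix.symplecticGroup (Fin 2) F) :=
      (((Subgroup.closure B).comap (normConj ⊤ (S : Subgroup G))).map N.subtype).comap π
    have hin : ∀ (h : Matrix.symplecticGroup (Fin 2) F) (hh : π h ∈ N),
        normConj ⊤ (S : Subgroup G) ⟨π h, hh⟩ ∈ Subgroup.closure B → h ∈ H :=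
      fun h hh hc => ⟨⟨π h, hh⟩, hc, rfl⟩
    have hW : spW (Q : Subgroup SL(2, F)) ≤ H := by
      intro u hu
      have hN' : π u ∈ N := ⟨trivial, Subgroup.le_normalizer (hmemS u hu)⟩
      obtain ⟨k, hk⟩ := S.isPGroup' ⟨π u, hmemS u hu⟩
      refine hin u hN' (Subgroup.subset_closure ⟨?_, .inl ⟨k, ?_⟩⟩)
      · rw [← range_normConj]; exact ⟨_, rfl⟩
      · rw [← map_pow]
        convert map_one (normConj ⊤ (S : Subgroup G))
        refine Subtype.ext ?_
        rw [SubgroupClass.coe_pow]
        exact congrArg Subtype.val hk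
    have hgH : gS α β hab h2 ∈ Subgroup.normalizer ((Q : Subgroup SL(2, F)) : Set SL(2, F)) →
        pair (gS α β hab h2) (gS α β hab h2) ∈ H := by
      intro hgN
      set t := pair (gS α β hab h2) (gS α β hab h2) with ht
      set R := (spE α β hab).map π with hR
      have hRS : R ≤ (S : Subgroup G) := hπW ▸ Subgroup.map_mono (spE_le_spW hiQ hjQ)
      have htN : π t ∈ N := by
        refine ⟨trivial, Subgroup.mem_normalizer_iff_map_conj_eq.2 (Subgroup.eq_of_le_of_card_ge ?_ ?_)⟩
        · rw [← hπW, Subgroup.map_map, Subgroup.map_le_iff_le_comap]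
          intro u hu
          show π t * π u * (π t)⁻¹ ∈ (spW (Q : Subgroup SL(2, F))).map π
          rw [← map_inv, ← map_mul, ← map_mul]
          refine Subgroup.mem_map_of_mem π ?_
          obtain ⟨a, ha, b, hb, rfl | rfl⟩ := hu
          · rw [ht, pair_inv, pair_mul, pair_mul]
            exact pair_mem ((Subgroup.mem_normalizer_iff.1 hgN a).1 ha)
              ((Subgroup.mem_normalizer_iff.1 hgN b).1 hb)
          · rw [ht, pair_inv, ← mul_assoc, pair_mul, mul_assoc, sw_pair, ← mul_assoc, pair_mul,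
              pair_sw_mem_iff]
            exact ⟨(Subgroup.mem_normalizer_iff.1 hgN a).1 ha,
              (Subgroup.mem_normalizer_iff.1 hgN b).1 hb⟩
        · rw [Subgroup.card_map_of_injective (MulAut.conj (π t)).injective]
      have hpelt : ∀ x, x * x = negOne →
          x ∈ Subgroup.normalizer ((spE α β hab : Subgroup _) : Set (Matrix.symplecticGroup (Fin 2) F)) →
          π x ∈ Subgroup.closure {g : G | g ∈ Subgroup.normalizer (R : Set G) ∧
            ∃ k : ℕ, orderOf g = 2 ^ k} := by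
        intro x hxx hx
        refine Subgroup.subset_closure ⟨Subgroup.le_normalizer_map π ⟨x, hx, rfl⟩, ?_⟩
        have hdvd : orderOf (π x) ∣ 2 ^ 1 := by
          rw [pow_one]
          exact orderOf_dvd_of_pow_eq_one (by rw [sq, ← map_mul, hxx, hneg])
        obtain ⟨k, -, hk⟩ := (Nat.dvd_prime_pow Nat.prime_two).1 hdvd
        exact ⟨k, hk⟩
      have htc : π t ∈ Subgroup.closure {g : G | g ∈ Subgroup.normalizer (R : Set G) ∧
          ∃ k : ℕ, orderOf g = 2 ^ k} := by
        rw [ht, ← xOne_mul_xTwo, map_mul]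
        exact mul_mem (hpelt _ (xOne_sq α β hab h2) (xOne_normalizes α β hab h2))
          (hpelt _ (xTwo_sq α β hab h2) (xTwo_normalizes α β hab h2))
      obtain ⟨hgN', hγ⟩ := Cfsg.Agent.S5160.aut_mem_closure (S := (S : Subgroup G)) hRS htc
      refine hin t htN (Subgroup.subset_closure ⟨?_, .inr ⟨R, ?_, _, hγ, ?_⟩⟩)
      · rw [← range_normConj]; exact ⟨_, rfl⟩
      · refine ⟨hRS, fun R' hR' y hy => ?_⟩
        obtain ⟨-, -, g, rfl⟩ := exists_conj_of_isConj hR'
        obtain ⟨-, hyc⟩ := mem_centralizerIn.1 hy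
        obtain ⟨w, hw⟩ := hπ (g⁻¹ * y * g)
        have hfix : ∀ r ∈ spE α β hab, w * r * w⁻¹ = r ∨ w * r * w⁻¹ = negOne * r := by
          intro r hr
          have h1 : π (w * r * w⁻¹ * r⁻¹) = 1 := by
            have := hyc _ ⟨π r, ⟨r, hr, rfl⟩, rfl⟩
            rw [MulEquiv.coe_toMonoidHom, MulAut.conj_apply] at this
            rw [map_mul, map_mul, map_mul, map_inv, map_inv, hw, mul_inv_eq_one]
            calc g⁻¹ * y * g * π r * (g⁻¹ * y * g)⁻¹
                = g⁻¹ * (y * (g * π r * g⁻¹) * y⁻¹) * g := by group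
              _ = π r := by rw [mul_inv_eq_iff_eq_mul.2 this]; group
          rcases hker _ h1 with e | e
          · exact .inl (mul_inv_eq_one.1 e)
          · exact .inr (mul_inv_eq_iff_eq_mul.1 e)
        have hwE : w ∈ spE α β hab := mem_spE_of_sign α β hab h2 fun r hr => hfix r (by
          simp only [Set.mem_insert_iff, Set.mem_singleton_iff] at hr
          rcases hr with rfl | rfl | rfl | rfl
          exacts [ga_mem α β hab, sw_mem α β hab, gi_mem α β hab, gj_mem α β hab])
        refine ⟨π w, ⟨_, hwE, rfl⟩, ?_⟩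
        rw [MulEquiv.coe_toMonoidHom, MulAut.conj_apply, hw]
        group
      · intro x
        rw [autFn_apply _ (hRS x.2), normConj_apply, normConj_apply]
    intro g
    obtain ⟨w, hw⟩ := hπ g.1
    have hcomap : (S : Subgroup G).comap π = spW (Q : Subgroup SL(2, F)) :=
      le_antisymm hpre hmemS
    have hwN : w ∈ Subgroup.normalizer ((spW (Q : Subgroup SL(2, F)) : Subgroup _) :
        Set (Matrix.symplecticGroup (Fin 2) F)) := by
      rw [← hcomap]
      refine Subgroup.le_normalizer_comap π ?_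
      rw [Subgroup.mem_comap, hw]
      exact g.2.2
    obtain ⟨g', hg', e⟩ := mem_of_normalizes_spW h2 hiQ hjQ hN hW hgH hwN
    have : g' = g := Subtype.ext (e.trans hw)
    exact this ▸ hg'

end Cfsg.Agent.S5320
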