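import Cfsg.Statements.S5326
import Cfsg.Agent.Lib.Fusion.Essential
import Cfsg.Agent.EqLemmas

set_option autoImplicit false
open Cfsg

namespace Cfsg.Agent.S5326

open Cfsg.FusionSystem hiding inv_mem
open Cfsg.Agent.Fusion

variable {Ω : Type*} [Group Ω] {S : Subgroup Ω}

/-- A map on `N_S(P)` carrying `P` onto `Q`. -/
def Good (F : Cfsg.FusionSystem S) (Q P : Subgroup Ω) (τ : Ω → Ω) : Prop :=
  IsMap F (normalizerIn S P) τ ∧ img τ P = Q

/-- On the class of `Q` the map lies, after identification with `Q`, in `upGroup`. -/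
def Allowed (F : Cfsg.FusionSystem S) (Q P : Subgroup Ω) (f : Ω → Ω) : Prop :=
  IsMap F P f ∧ ∀ τ τ', Good F Q P τ → Good F Q (img f P) τ' →
    ∀ α : MulAut Q, (∀ x ∈ P, autFn α (τ x) = τ' (f x)) → α ∈ upGroup F Q

variable {F : Cfsg.FusionSystem S} {Q : Subgroup Ω}

theorem Good.isIso {P : Subgroup Ω} {τ : Ω → Ω} (h : Good F Q P τ) (hP : P ≤ S) :
    IsIso F P Q τ :=
  ⟨h.1.mono (le_normalizerIn hP), h.2⟩

theorem Allowed.congr {P : Subgroup Ω} {f g : Ω → Ω} (h : Allowed F Q P f)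
    (e : ∀ x ∈ P, f x = g x) : Allowed F Q P g := by
  refine ⟨h.1.congr e, fun τ τ' hτ hτ' α hα => h.2 τ τ' hτ (by rwa [img_congr e]) α fun x hx => ?_⟩
  rw [e x hx]
  exact hα x hx

theorem Allowed.of_not_conj {P : Subgroup Ω} {f : Ω → Ω} (hf : IsMap F P f)
    (h : ¬ F.IsConj P Q) : Allowed F Q P f :=
  ⟨hf, fun τ _ hτ _ _ _ => absurd (isConj_iff.2 ⟨τ, hτ.isIso hf.le⟩) h⟩

theorem Allowed.mono [Finite S] {p : ℕ} [Fact p.Prime] (hS : IsPGroup p S)
    {P P' : Subgroup Ω} {f : Ω → Ω} (h : Allowed F Q P f) (hle : P' ≤ P) :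
    Allowed F Q P' f := by
  rcases eq_or_lt_of_le hle with rfl | hlt
  · exact h
  refine ⟨h.1.mono hle, fun τ τ' hτ hτ' α hα => ?_⟩
  set R := normalizerIn P P' with hR
  have hRP : R ≤ P := inf_le_left
  have hP'R : P' < R := lt_normalizerIn hS h.1.le hlt
  have hRN : R ≤ normalizerIn S P' := fun g hg => ⟨h.1.le hg.1, hg.2⟩
  have hRS : R ≤ S := hRP.trans h.1.le
  have hτR : IsIso F R (img τ R) τ := ⟨hτ.1.mono hRN, rfl⟩
  obtain ⟨τi, hτi, hτi1, -⟩ := hτR.symm
  have hfN : ∀ g ∈ R, f g ∈ normalizerIn S (img f P') := fun g hg => by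
    haveI := finite_of_le (S := S) (h.1.mono hle).img_le_S
    refine mem_normalizerIn_of_conj (h.1.mem (hRP hg)) fun z hz => ?_
    obtain ⟨x, hx, rfl⟩ := (h.1.mem_img_iff hle).1 hz
    rw [← h.1.map_conj (hRP hg) (hle hx)]
    exact h.1.mem_img (normalizerIn_conj hg hx)
  have hQR : Q < img τ R := by
    refine lt_of_le_of_ne ?_ fun e => ?_
    · rw [← hτ.2]
      exact (hτ.1.mono hRN).img_le hP'R.le fun x hx => (hτ.1.mono hRN).mem_img (hP'R.le hx)
    · have h1 : Nat.card (img τ R) = Nat.card R := hτR.card_eq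
      have h2 : Nat.card Q = Nat.card P' := (hτ.isIso (hle.trans h.1.le)).card_eq
      haveI := finite_of_le (S := S) hRS
      rw [← e, h2] at h1
      exact hP'R.ne (Subgroup.eq_of_le_of_card_ge hP'R.le h1.ge)
  refine Subgroup.subset_closure ⟨_, hQR, fun y => τ' (f (τi y)),
    (hτi.1.comp (h.1.mono hRP) fun y hy => hτi.mem hy).comp hτ'.1 fun y hy =>
      hfN _ (hτi.mem hy), fun y hy => ?_⟩
  obtain ⟨x, hx, rfl⟩ := (hτ.isIso (hle.trans h.1.le)).exists_eq hy
  show τ' (f (τi (τ x))) = autFn α (τ x)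
  rw [hτi1 x (hP'R.le hx), hα x hx]

theorem Allowed.comp [Finite S] {p : ℕ} [Fact p.Prime] (hS : IsPGroup p S)
    (hA : F.IsFullyAutomized p Q) (hr : F.IsReceptive Q) {P P' : Subgroup Ω} {f g : Ω → Ω}
    (hf : Allowed F Q P f) (hg : Allowed F Q P' g) (hm : ∀ x ∈ P, f x ∈ P') :
    Allowed F Q P (fun x => g (f x)) := by
  have hfg := hf.1.comp hg.1 hm
  refine ⟨hfg, fun τ τ' hτ hτ' α hα => ?_⟩
  have hle : img f P ≤ P' := hf.1.img_le le_rfl hm
  have hg' := hg.mono hS hle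
  have hτI := hτ.isIso hf.1.le
  have hc : F.IsConj (img f P) Q := isConj_trans (isConj_symm (isConj_iff.2 ⟨f, hf.1.isIso⟩))
    (isConj_iff.2 ⟨τ, hτI⟩)
  obtain ⟨σ, hσ, hσi, -⟩ := exists_normalizer_map hS hA hr hc
  have hσG : Good F Q (img f P) σ := ⟨hσ, hσi⟩
  have himg : img (fun x => g (f x)) P = img g (img f P) := by
    refine IsIso.img_eq_of hfg le_rfl (fun x hx => hg'.1.mem_img (hf.1.mem_img hx)) fun y hy => ?_
    obtain ⟨z, hz, rfl⟩ := (hg'.1.mem_img_iff le_rfl).1 hy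
    obtain ⟨x, hx, rfl⟩ := (hf.1.mem_img_iff le_rfl).1 hz
    exact ⟨x, hx, rfl⟩
  rw [himg] at hτ'
  obtain ⟨τi, hτi, hτi1, -⟩ := hτI.symm
  have hh : IsIso F Q Q (fun y => σ (f (τi y))) :=
    (hτi.trans hf.1.isIso).trans (hσG.isIso hf.1.img_le_S)
  have hαf : ∀ x ∈ P, autFn hh.equiv (τ x) = σ (f x) := fun x hx => by
    rw [autFn_apply _ (hτI.mem hx)]
    show σ (f (τi (τ x))) = σ (f x)
    rw [hτi1 x hx]
  have h1 := hf.2 τ σ hτ hσG hh.equiv hαf
  have h2 := hg'.2 σ τ' hσG hτ' (α * (hh.equiv : MulAut Q)⁻¹) fun z hz => by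
    obtain ⟨x, hx, rfl⟩ := (hf.1.mem_img_iff le_rfl).1 hz
    rw [← hα x hx, ← hαf x hx, autFn_apply _ (autFn_mem _ (hτI.mem hx)),
      show (⟨autFn (hh.equiv : MulAut Q) (τ x), autFn_mem _ (hτI.mem hx)⟩ : Q) =
      (hh.equiv : MulAut Q) ⟨τ x, hτI.mem hx⟩ from Subtype.ext (autFn_apply _ (hτI.mem hx)),
      MulAut.mul_apply, MulAut.inv_apply_self, autFn_apply α (hτI.mem hx)]
  simpa using mul_mem h2 h1

theorem Allowed.inv {P : Subgroup Ω} {f g : Ω → Ω} (hf : Allowed F Q P f)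
    (hg : IsIso F (img f P) P g) (hgf : ∀ x ∈ P, g (f x) = x) : Allowed F Q (img f P) g := by
  refine ⟨hg.1, fun τ τ' hτ hτ' α hα => ?_⟩
  rw [hg.2] at hτ'
  have hτI := hτ'.isIso hf.1.le
  have h := hf.2 τ' τ hτ' hτ α⁻¹ fun x hx => by
    have h1 := hα _ (hf.1.mem_img hx)
    have hyQ : τ (f x) ∈ Q := (hτ.isIso hf.1.img_le_S).mem (hf.1.mem_img hx)
    rw [hgf x hx, autFn_apply α hyQ] at h1
    rw [autFn_apply _ (hτI.mem hx)]
    rw [show (⟨τ' x, hτI.mem hx⟩ : Q) = α ⟨τ (f x), hyQ⟩ from Subtype.ext h1.symm,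
      MulAut.inv_apply_self]
  simpa using inv_mem h

theorem lt_of_isEssential [Finite S] {p : ℕ} [Fact p.Prime] (hS : IsPGroup p S)
    (hF : F.IsSaturated p) (hQ : F.IsEssential p Q) : Q < S := by
  refine lt_of_le_of_ne hQ.1.1 ?_
  rintro rfl
  obtain ⟨-, hn, hI, E, hE⟩ := hQ
  obtain ⟨R, hR⟩ := (isSylowIn_iff_exists (isFullyAutomized_iff.1
    (fullyAutomized_of_fullyNormalized hS hF hn)).2.le).1
    (isFullyAutomized_iff.1 (fullyAutomized_of_fullyNormalized hS hF hn)).2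
  have := finite_mulAut (S := Q) (le_refl Q)
  have hinn : Cfsg.autInducedBy Q Q = Cfsg.Inn Q := by
    refine le_antisymm (fun a ha => ?_) (inn_le_autInducedBy le_rfl)
    obtain ⟨u, hu, h⟩ := mem_autInducedBy_iff.1 ha
    exact ⟨⟨u, hu⟩, MulEquiv.ext fun x => Subtype.ext (h x).symm⟩
  rw [hinn] at hR
  have hRn : (R : Subgroup (F.autGroup Q)).Normal := by rw [hR]; exact hI
  have h := hE.1
  rw [← Subgroup.index_eq_card, ← hR] at h
  exact R.not_dvd_index h

/-- Let F be a saturated fusion system over a finite p-group S and Q an essential subgroup. Then the F-conjugacy class of Q cannot be left out of a generating family: there is a fusion system E over S whose automorphism group of every subgroup R ≤ S not F-conjugate to Q contains Aut_F(R), and yet E does not contain every map of F. -/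
theorem result {Ω : Type*} [Group Ω] {S : Subgroup Ω} [Finite S] (p : ℕ) [Fact p.Prime] (hS : IsPGroup p S) (F : Cfsg.FusionSystem S) (hF : F.IsSaturated p) (Q : Subgroup Ω) (hQ : F.IsEssential p Q) : ∃ E : Cfsg.FusionSystem S, (∀ R : Subgroup Ω, R ≤ S → ¬ F.IsConj Q R → F.autGroup R ≤ E.autGroup R) ∧ ¬ F ≤ E := by
  have hn := hQ.2.1
  have hA := fullyAutomized_of_fullyNormalized hS hF hn
  have hr := receptive_of_fullyNormalized hS hF hn
  have hlt := lt_of_isEssential hS hF hQ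
  have hnotS : ¬ F.IsConj S Q := fun h => by
    obtain ⟨f, hf⟩ := isConj_iff.1 h
    exact hlt.ne (Subgroup.eq_of_le_of_card_ge hlt.le hf.card_eq.ge)
  have htop : ∀ {P : Subgroup Ω} {f : Ω → Ω}, IsMap F S f → P ≤ S → Allowed F Q P f :=
    fun hf hP => (Allowed.of_not_conj hf hnotS).mono hS hP
  let E : Cfsg.FusionSystem S :=
    { Hom := fun P => {φ | φ ∈ F.Hom P ∧ Allowed F Q P (toFn φ)}
      le_of_mem := fun h => F.le_of_mem h.1
      injective_of_mem := fun h => F.injective_of_mem h.1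
      conj_mem := fun {P g} hP hg => ⟨F.conj_mem hP hg,
        (htop (IsMap.conj le_rfl hg) hP).congr fun x hx => (toFn_apply (Cfsg.conjHom P g) hx).symm⟩
      comp_mem := fun {P P' φ ψ} hφ hψ h => ⟨F.comp_mem hφ.1 hψ.1 h,
        ((hφ.2.comp hS hA hr hψ.2 fun x hx => by rw [toFn_apply φ hx]; exact h _).congr
          fun x hx => by
            show toFn ψ (toFn φ x) = toFn (ψ.comp (φ.codRestrict P' h)) x
            rw [toFn_apply φ hx, toFn_apply ψ (h ⟨x, hx⟩), toFn_apply _ hx]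
            rfl)⟩
      inv_mem := fun {P φ} hφ => by
        obtain ⟨ψ, hψ, hinv⟩ := F.inv_mem hφ.1
        refine ⟨ψ, ⟨hψ, ?_⟩, hinv⟩
        have hi : img (toFn φ) P = φ.range := toFn_img φ
        have hgf : ∀ x ∈ P, toFn ψ (toFn φ x) = x := fun x hx => by
          rw [toFn_apply φ hx, toFn_apply ψ (MonoidHom.mem_range.2 ⟨⟨x, hx⟩, rfl⟩)]
          exact hinv ⟨x, hx⟩
        have hm : IsMap F (img (toFn φ) P) (toFn ψ) := by rw [hi]; exact isMap_toFn hψ
        have hiso : IsIso F (img (toFn φ) P) P (toFn ψ) := ⟨hm, IsIso.img_eq_of hm le_rfl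
          (fun y hy => by
            obtain ⟨x, hx, rfl⟩ := (hφ.2.1.mem_img_iff le_rfl).1 hy
            rwa [hgf x hx])
          fun x hx => ⟨_, hφ.2.1.mem_img hx, hgf x hx⟩⟩
        have key : ∀ A : Subgroup Ω, A = img (toFn φ) P → Allowed F Q A (toFn ψ) := by
          rintro A rfl
          exact hφ.2.inv hiso hgf
        exact key _ hi.symm }
  refine ⟨E, fun R hR hnc α hα => ?_, fun hle => ?_⟩
  · have hm := (mem_autGroup_iff hR).1 hα
    obtain ⟨φ, hφ, e⟩ := hm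
    refine (mem_autGroup_iff hR).2 ⟨φ, ⟨hφ, ?_⟩, e⟩
    exact Allowed.of_not_conj (isMap_toFn hφ) fun h => hnc (isConj_symm h)
  · rcases dichotomy hS hF hlt hn with ⟨hne, -⟩ | ⟨-, hI, hsp⟩
    · exact hne hQ
    refine hsp.2.1 ?_
    have heq : upGroup F Q = F.autGroup Q := by
      refine le_antisymm (upGroup_le_autGroup hn.1) fun α hα => ?_
      obtain ⟨φ, hφ, e⟩ := (mem_autGroup_iff hn.1).1 hα
      have hal := (hle Q hφ).2.congr fun x hx => (toFn_apply φ hx).trans (e x hx)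
      have hid : Good F Q Q (fun x => x) := ⟨IsMap.id inf_le_left, (IsIso.refl (F := F) hn.1).2⟩
      exact hal.2 _ _ hid (by rwa [(isIso_autFn hn.1 hα).2]) α fun x hx => rfl
    rw [heq, Subgroup.subgroupOf_self, Subgroup.map_top_of_surjective _
      (QuotientGroup.mk'_surjective _)]

end Cfsg.Agent.S5326
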