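import Cfsg.Statements.S5327
import Cfsg.Agent.Lib.Fusion.Basic

set_option autoImplicit false
open Cfsg

namespace Cfsg.Agent.S5327

open Cfsg.Agent.Fusion Cfsg.FusionSystem

variable {Ω : Type*} [Group Ω] {S : Subgroup Ω}

/-- The maps of `F` that, when their source is conjugate to `R`, are maps of `E`. -/
def cutDown (F E : FusionSystem S) (R : Subgroup Ω) [Finite S]
    (hbig : ∀ (P : Subgroup Ω), Nat.card R < Nat.card P → F.Hom P ⊆ E.Hom P) :
    FusionSystem S where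
  Hom P := {φ | φ ∈ F.Hom P ∧ (F.IsConj R P → φ ∈ E.Hom P)}
  le_of_mem h := F.le_of_mem h.1
  injective_of_mem h := F.injective_of_mem h.1
  conj_mem hP hg := ⟨F.conj_mem hP hg, fun _ => E.conj_mem hP hg⟩
  comp_mem := by
    rintro P Q φ ψ ⟨hφ, hφE⟩ ⟨hψ, hψE⟩ h
    refine ⟨F.comp_mem hφ hψ h, fun hP => E.comp_mem (hφE hP) ?_ h⟩
    by_cases hQ : F.IsConj R Q
    · exact hψE hQ
    refine hbig Q ?_ hψ
    have hφQ : φ.range ≤ Q := by rintro _ ⟨x, rfl⟩; exact h x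
    have hr : F.IsConj R φ.range := isConj_trans hP ⟨φ, hφ, rfl⟩
    obtain ⟨f, hf⟩ := isConj_iff.1 hr
    rw [← hf.card_eq]
    haveI := finite_of_le (F.le_of_mem hψ).1
    refine lt_of_le_of_ne (Subgroup.card_le_of_le hφQ) fun e => hQ ?_
    rwa [← Subgroup.eq_of_le_of_card_ge hφQ e.ge]
  inv_mem := by
    rintro P φ ⟨hφ, hφE⟩
    obtain ⟨ψ, hψ, hinv⟩ := F.inv_mem hφ
    refine ⟨ψ, ⟨hψ, fun hr => ?_⟩, hinv⟩
    obtain ⟨ψ', hψ', hinv'⟩ := E.inv_mem (hφE (isConj_trans hr (isConj_symm ⟨φ, hφ, rfl⟩)))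
    have : ψ = ψ' := by
      ext y
      obtain ⟨x, hx⟩ := y.2
      have hy : y = ⟨φ x, ⟨x, rfl⟩⟩ := Subtype.ext hx.symm
      rw [hy, hinv, hinv']
    rwa [this]

/-- Let F be a saturated fusion system over a finite p-group S. Call a family of subgroups of S generating when every fusion system over S whose automorphism group of each member R contains Aut_F(R) contains every map of F. If two families are each closed under F-conjugacy and each generating, then their intersection is generating. -/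
theorem result {Ω : Type*} [Group Ω] {S : Subgroup Ω} [Finite S] (p : ℕ) [Fact p.Prime] (hS : IsPGroup p S) (F : Cfsg.FusionSystem S) (hF : F.IsSaturated p) (𝒬₁ 𝒬₂ : Set (Subgroup Ω)) (h₁ : ∀ R ∈ 𝒬₁, ∀ R' : Subgroup Ω, F.IsConj R R' → R' ∈ 𝒬₁) (h₂ : ∀ R ∈ 𝒬₂, ∀ R' : Subgroup Ω, F.IsConj R R' → R' ∈ 𝒬₂) (hg₁ : ∀ E : Cfsg.FusionSystem S, (∀ R ∈ 𝒬₁, F.autGroup R ≤ E.autGroup R) → F ≤ E) (hg₂ : ∀ E : Cfsg.FusionSystem S, (∀ R ∈ 𝒬₂, F.autGroup R ≤ E.autGroup R) → F ≤ E) (E : Cfsg.FusionSystem S) (hE : ∀ R ∈ 𝒬₁ ∩ 𝒬₂, F.autGroup R ≤ E.autGroup R) : F ≤ E := by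
  suffices h : ∀ n, ∀ R : Subgroup _, R ≤ S → Nat.card S - Nat.card R = n → F.Hom R ⊆ E.Hom R by
    intro P φ hφ
    exact h _ P (F.le_of_mem hφ).1 rfl hφ
  intro n
  induction n using Nat.strong_induction_on with
  | _ n ih =>
    intro R hR hn φ hφ
    have hbig : ∀ P : Subgroup _, Nat.card R < Nat.card P → F.Hom P ⊆ E.Hom P := by
      intro P hlt ψ hψ
      have hPS := (F.le_of_mem hψ).1
      have := Subgroup.card_le_of_le hPS
      exact ih (Nat.card S - Nat.card P) (by omega) P hPS rfl hψ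
    have key : ∀ 𝒬 : Set (Subgroup _), (∀ X ∈ 𝒬, F.IsConj R X → X ∈ 𝒬₁ ∩ 𝒬₂) →
        ∀ X ∈ 𝒬, F.autGroup X ≤ (cutDown F E R hbig).autGroup X := by
      intro 𝒬 h𝒬 X hX α hα
      by_cases hXS : X ≤ S
      · refine Subgroup.subset_closure ⟨isMap_aut_iff.2 ((mem_autGroup_iff hXS).1 hα), fun hc => ?_⟩
        exact isMap_aut_iff.2 ((mem_autGroup_iff hXS).1 (hE X (h𝒬 X hX hc) hα))
      · have : F.autGroup X = ⊥ := by
          rw [eq_bot_iff, FusionSystem.autGroup, Subgroup.closure_le]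
          intro a ha
          exact absurd (F.le_of_mem ha).1 hXS
        rw [this, Subgroup.mem_bot] at hα
        rw [hα]
        exact one_mem _
    by_cases hR1 : R ∈ 𝒬₁
    · by_cases hR2 : R ∈ 𝒬₂
      · exact (hg₁ (cutDown F E R hbig) (key 𝒬₁ fun X _ hc => ⟨h₁ R hR1 X hc, h₂ R hR2 X hc⟩)
          R hφ).2 (isConj_refl F hR)
      · exact (hg₂ (cutDown F E R hbig) (key 𝒬₂ fun X hX hc =>
          absurd (h₂ X hX R (isConj_symm hc)) hR2) R hφ).2 (isConj_refl F hR)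
    · exact (hg₁ (cutDown F E R hbig) (key 𝒬₁ fun X hX hc =>
          absurd (h₁ X hX R (isConj_symm hc)) hR1) R hφ).2 (isConj_refl F hR)

end Cfsg.Agent.S5327
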