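import Cfsg.Statements.S5328
import Cfsg.Agent.Lib.Biset.Park

set_option autoImplicit false
universe u
open Cfsg

namespace Cfsg.Agent.S5328

open Cfsg.Agent.Fusion Cfsg.Agent.Biset Cfsg.FusionSystem

/-- Every fusion system over a finite p-group S, saturated or not, is realized inside some finite group: there is a finite group G and an injective homomorphism ι of S into G such that the maps of the system are exactly the homomorphisms between subgroups of S that become conjugations by elements of G (the image of S need not be a Sylow p-subgroup of G). -/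
theorem result {Ω : Type u} [Group Ω] {S : Subgroup Ω} [Finite S] (p : ℕ) [Fact p.Prime] (hS : IsPGroup p S) (F : Cfsg.FusionSystem S) : ∃ (G : Type u) (_ : Group G) (_ : Finite G) (ι : ↥S →* G), F.IsRealizedBy ι := by
  obtain ⟨c, hc, hdiag⟩ := Cfsg.Agent.Biset.exists_isStable F
  let C : Subgroup (Equiv.Perm (Model c)) :=
    { carrier := {g | ∀ (b : S) (x : Model c), g (((1 : S), b) • x) = ((1 : S), b) • g x}
      one_mem' := fun _ _ => rfl
      mul_mem' := fun {g g'} hg hg' b x => by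
        show g (g' (((1 : S), b) • x)) = ((1 : S), b) • g (g' x)
        rw [hg', hg]
      inv_mem' := fun {g} hg b x => by
        show g.symm (((1 : S), b) • x) = ((1 : S), b) • g.symm x
        apply g.injective
        rw [hg, Equiv.apply_symm_apply, Equiv.apply_symm_apply] }
  let ι : S →* C := MonoidHom.mk'
    (fun s => ⟨MulAction.toPerm ((s, 1) : S × S), fun b x => by
      show ((s, 1) : S × S) • (((1 : S), b) : S × S) • x = (((1 : S), b) : S × S) • ((s, 1) : S × S) • x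
      rw [smul_smul, smul_smul, Prod.mk_mul_mk, Prod.mk_mul_mk]
      simp⟩)
    (fun s t => Subtype.ext (Equiv.ext fun x => by
      show ((s * t, 1) : S × S) • x = ((s, 1) : S × S) • ((t, 1) : S × S) • x
      rw [smul_smul, Prod.mk_mul_mk, mul_one]))
  let x₀ : Model c := Model.point (graph (IsMap.id (F := F) (le_refl S)))
    ⟨0, Nat.pos_of_ne_zero hdiag⟩ ((1 : S × S) : (S × S) ⧸ _)
  have hx₀ : ∀ u : S, ((u, u) : S × S) • x₀ = x₀ := fun u =>
    smul_mk_eq_iff.2 (fixed_mk_iff.2 (fun k hk => ⟨k, hk, by simp⟩) (u, u) ⟨u.2, rfl⟩)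
  refine ⟨C, inferInstance, inferInstance, ι, ⟨fun s t hst => ?_, fun P hP φ hφ => ⟨?_, ?_⟩⟩⟩
  · have h : ((s, 1) : S × S) • x₀ = ((t, 1) : S × S) • x₀ :=
      congrArg (fun g : C => g.1 x₀) hst
    let x : Model c := x₀
    let K : Subgroup (S × S) := Subgroup.zpowers (t⁻¹ * s, 1)
    have hfix : ∀ k ∈ K, k • x = x := by
      intro k hk
      have hle : K ≤ MulAction.stabilizer (S × S) x := by
        rw [Subgroup.zpowers_le, MulAction.mem_stabilizer_iff]
        have e : ((t⁻¹ * s, 1) : S × S) = ((t, 1) : S × S)⁻¹ * (s, 1) := by simp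
        rw [e, mul_smul, h, inv_smul_smul]
      exact hle hk
    obtain ⟨f, hf, he⟩ := hc.1.good_of_fixed hfix
    have hmem : ((t⁻¹ * s, 1) : S × S) ∈ K := Subgroup.mem_zpowers _
    have h1 : f ((t⁻¹ * s : S) : Ω) = f 1 := by
      rw [he _ hmem, hf.map_one]
      simp
    have h2 := hf.inj (fst_mem_src hmem) (one_mem _) h1
    exact inv_mul_eq_one.1 (Subtype.ext h2) |>.symm
  · intro hφF
    obtain ⟨e, he⟩ := hc.exists_equiv_of_isMap (isMap_toFn hφF)
    refine ⟨⟨e, fun b x => ?_⟩, fun x => Subtype.ext (Equiv.ext fun y => ?_)⟩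
    · exact he 1 1 b P.one_mem
        (by rw [OneMemClass.coe_one, (isMap_toFn hφF).map_one]) x
    · show ((⟨φ x, hφ x⟩, 1) : S × S) • y = e (((⟨x, hP x.2⟩, 1) : S × S) • e.symm y)
      rw [he ⟨x, hP x.2⟩ ⟨φ x, hφ x⟩ 1 x.2 (toFn_coe φ x).symm, Equiv.apply_symm_apply]
  · rintro ⟨g, hg⟩
    have hgx : ∀ (u : S) (hu : (u : Ω) ∈ P), ((⟨φ ⟨u, hu⟩, hφ _⟩, u) : S × S) • g.1 x₀ = g.1 x₀ := by
      intro u hu
      have h := congrArg (fun z : C => z.1 (((1 : S), u) • g.1 x₀)) (hg ⟨u, hu⟩)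
      have hb : g.1.symm (((1 : S), u) • g.1 x₀) = ((1 : S), u) • x₀ := by
        rw [← g.2 u x₀, Equiv.symm_apply_apply]
      have hl : ((⟨φ ⟨u, hu⟩, hφ _⟩, 1) : S × S) • ((1, u) : S × S) • g.1 x₀ =
          g.1 (((u, 1) : S × S) • g.1.symm (((1 : S), u) • g.1 x₀)) := h
      rw [hb, smul_smul, smul_smul, Prod.mk_mul_mk, Prod.mk_mul_mk] at hl
      simp only [mul_one, one_mul] at hl
      rw [hx₀ u] at hl
      exact hl
    let θ : ↥(P.subgroupOf S) →* ↥S × ↥S := MonoidHom.prod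
      (MonoidHom.mk' (fun u => (⟨φ ⟨u.1, u.2⟩, hφ _⟩ : S)) (fun a b => Subtype.ext (by
        show φ _ = φ _ * φ _
        rw [← map_mul]; rfl)))
      (P.subgroupOf S).subtype
    have hfix : ∀ k ∈ θ.range, k • g.1 x₀ = g.1 x₀ := by
      rintro _ ⟨u, rfl⟩
      exact hgx u.1 u.2
    obtain ⟨f, hf, he⟩ := hc.1.good_of_fixed hfix
    obtain ⟨fi, hfi, hfi1, hfi2⟩ := hf.isIso.symm
    have hsrc : ∀ x : P, φ x ∈ src θ.range := fun x =>
      fst_mem_src (a := θ ⟨⟨x, hP x.2⟩, x.2⟩) ⟨_, rfl⟩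
    have hfx : ∀ x : P, f (φ x) = x := fun x => he (θ ⟨⟨x, hP x.2⟩, x.2⟩) ⟨_, rfl⟩
    refine mem_of_isMap (hfi.1.mono (Q := P) ?_) fun x => ?_
    · have key : ∀ z : P, (z : Ω) ∈ img f (src θ.range) := fun z => by
        rw [← hfx z]
        exact hf.isIso.mem (hsrc z)
      exact fun y hy => key ⟨y, hy⟩
    · rw [← hfi1 _ (hsrc x), hfx x]

end Cfsg.Agent.S5328
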