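import Cfsg.Statements.S5329
import Cfsg.Agent.Lib.Biset.Transfer

set_option autoImplicit false
open Cfsg

namespace Cfsg.Agent.S5329

open Cfsg.Agent.Fusion Cfsg.Agent.Biset Cfsg.FusionSystem
open scoped commutatorElement

/-- For a saturated fusion system F over a finite p-group S, the focal subgroup and the derived subgroup of S meet the centre Z(F) of the system in the same subgroup: foc(F) ∩ Z(F) = S′ ∩ Z(F). -/
theorem result {Ω : Type*} [Group Ω] {S : Subgroup Ω} [Finite S] (p : ℕ) [Fact p.Prime] (hS : IsPGroup p S) (F : Cfsg.FusionSystem S) (hF : F.IsSaturated p) : F.focalSubgroup ⊓ F.center = ⁅(S : Subgroup Ω), (S : Subgroup Ω)⁆ ⊓ F.center := by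
  refine le_antisymm (le_inf ?_ inf_le_right) (inf_le_inf_right _ ?_)
  · obtain ⟨τ, k, hk, hinv, hpow⟩ := exists_transfer hS hF (Abelianization.of : S →* Abelianization S)
    have hfS : F.focalSubgroup ≤ τ.ker.map S.subtype := by
      refine (Subgroup.closure_le _).2 ?_
      rintro _ ⟨P, φ, x, hφ, rfl⟩
      have hm := isMap_toFn hφ
      let u : S := ⟨x, hm.le x.2⟩
      let v : S := ⟨φ x, (F.le_of_mem hφ).2 x⟩
      refine ⟨u⁻¹ * v, ?_, rfl⟩
      show τ (u⁻¹ * v) = 1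
      rw [map_mul, map_inv, hinv P _ hm u v x.2 (toFn_coe φ x).symm, inv_mul_cancel]
    intro y hy
    obtain ⟨hyf, hyz⟩ := Subgroup.mem_inf.1 hy
    obtain ⟨u, hu, rfl⟩ := hfS hyf
    rw [← S.map_subtype_commutator]
    refine ⟨u, ?_, rfl⟩
    have h1 : (Abelianization.of u⁻¹ : Abelianization S) ^ k = 1 := (hpow u hyz).symm.trans hu
    have hpg : IsPGroup p (Abelianization S) := hS.to_quotient _
    obtain ⟨n, hn⟩ := hpg (Abelianization.of u⁻¹)
    have hco : Nat.Coprime k (p ^ n) :=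
      ((Nat.Prime.coprime_iff_not_dvd Fact.out).2 hk).symm.pow_right n
    have h2 : (Abelianization.of u⁻¹ : Abelianization S) ^ k.gcd (p ^ n) = 1 := pow_gcd_eq_one.2 ⟨h1, hn⟩
    rw [Nat.Coprime.gcd_eq_one hco, pow_one, map_inv, inv_eq_one] at h2
    rw [← Abelianization.ker_of, SetLike.mem_coe, MonoidHom.mem_ker]
    exact h2
  · rw [Subgroup.commutator_le]
    intro g hg x hx
    have h : (x⁻¹ : Ω)⁻¹ * (g * x⁻¹ * g⁻¹) ∈ F.focalSubgroup :=
      Subgroup.subset_closure ⟨S, conjHom S g, ⟨x⁻¹, S.inv_mem hx⟩, F.conj_mem le_rfl hg, rfl⟩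
    have e : ⁅g, x⁆ = ((x⁻¹ : Ω)⁻¹ * (g * x⁻¹ * g⁻¹))⁻¹ := by
      rw [commutatorElement_def]; group
    rw [e]
    exact Subgroup.inv_mem _ h

end Cfsg.Agent.S5329
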