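import Cfsg.Statements.S5330
import Cfsg.Agent.Lib.FusionAbelian.Basic

set_option autoImplicit false
open Cfsg

namespace Cfsg.Agent.S5330

open Cfsg.Agent.Fusion Cfsg.Agent.FusionAbelian Cfsg.FusionSystem

/-- Let F be a saturated fusion system over a finite abelian p-group S. Then S is the internal direct product of the centre of the system and the focal subgroup: Z(F) ∩ foc(F) = 1 and Z(F)·foc(F) = S. -/
theorem result {Ω : Type*} [Group Ω] {S : Subgroup Ω} [Finite S] (p : ℕ) [Fact p.Prime] (hS : IsPGroup p S) (F : Cfsg.FusionSystem S) (hF : F.IsSaturated p) (hab : ∀ x ∈ S, ∀ y ∈ S, x * y = y * x) : F.center ⊓ F.focalSubgroup = ⊥ ∧ F.center ⊔ F.focalSubgroup = S := by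
  classical
  letI : CommGroup S :=
    { (inferInstance : Group S) with mul_comm := fun a b => Subtype.ext (hab a a.2 b b.2) }
  haveI := finite_mulAut (S := S) (P := S) le_rfl
  letI : Fintype (F.autGroup S) := Fintype.ofFinite _
  let C₀ : Subgroup S :=
    { carrier := {x | ∀ α ∈ F.autGroup S, (α : MulAut S) x = x}
      one_mem' := fun α _ => map_one α
      mul_mem' := fun {x y} hx hy α hα => by rw [map_mul, hx α hα, hy α hα]
      inv_mem' := fun {x} hx α hα => by rw [map_inv, hx α hα] }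
  let C : Subgroup _ := C₀.map S.subtype
  have hCS : C ≤ S := by
    rintro _ ⟨x, -, rfl⟩
    exact x.2
  have hmemC : ∀ x : S, (x : Ω) ∈ C ↔ x ∈ C₀ := fun x =>
    Subgroup.mem_map_iff_mem (Subgroup.subtype_injective S)
  have hcenter : F.center = C := by
    refine le_antisymm (sSup_le ?_) (le_sSup ?_)
    · rintro Q ⟨hQS, hQ⟩ q hq
      refine (hmemC ⟨q, hQS hq⟩).2 fun α hα => ?_
      obtain ⟨φ, hφ, he⟩ := (mem_autGroup_iff le_rfl).1 hα
      obtain ⟨ψ, hψ, hψS, hψQ⟩ := hQ S φ hφ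
      apply Subtype.ext
      have h1 := hψS ⟨q, hQS hq⟩
      have h2 := hψQ ⟨q, hq⟩
      have e : Subgroup.inclusion (le_sup_left : S ≤ S ⊔ Q) ⟨q, hQS hq⟩ =
          Subgroup.inclusion (le_sup_right : Q ≤ S ⊔ Q) ⟨q, hq⟩ := Subtype.ext rfl
      rw [e, h2, he q (hQS hq), autFn_apply α (hQS hq)] at h1
      exact h1.symm
    · refine ⟨hCS, fun P φ hφ => ?_⟩
      have hP := (F.le_of_mem hφ).1
      obtain ⟨α, hα, he⟩ := exists_aut_extension hS hF hab (isMap_toFn hφ)
      obtain ⟨ψ, hψ, hψe⟩ := ((mem_autGroup_iff le_rfl).1 hα).mono (sup_le hP hCS)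
      refine ⟨ψ, hψ, fun x => ?_, fun x => ?_⟩
      · exact (hψe x (le_sup_left (a := P) (b := C) x.2)).trans
          ((he x x.2).trans (toFn_coe φ x))
      · refine (hψe x (le_sup_right (a := P) (b := C) x.2)).trans ?_
        rw [autFn_apply α (hCS x.2)]
        exact congrArg Subtype.val ((hmemC ⟨x, hCS x.2⟩).1 x.2 α hα)
  let N : S →* S := MonoidHom.mk' (fun x => ∏ a : F.autGroup S, (a : MulAut S) x)
    (fun x y => by simp only [map_mul, Finset.prod_mul_distrib])
  have hNfix : ∀ x, N x ∈ C₀ := by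
    intro x α hα
    show α (∏ a : F.autGroup S, (a : MulAut S) x) = ∏ a : F.autGroup S, (a : MulAut S) x
    rw [map_prod]
    exact Fintype.prod_equiv (Equiv.mulLeft (⟨α, hα⟩ : F.autGroup S)) _ _ fun a => rfl
  have hNα : ∀ (a : F.autGroup S) (x : S), N ((a : MulAut S) x) = N x := fun a x =>
    Fintype.prod_equiv (Equiv.mulRight a) _ _ fun b => rfl
  have hgen : ∀ (a : F.autGroup S) (x : S),
      ((x⁻¹ * (a : MulAut S) x : S) : Ω) ∈ F.focalSubgroup := by
    intro a x
    obtain ⟨φ, hφ, he⟩ := (mem_autGroup_iff le_rfl).1 a.2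
    refine Subgroup.subset_closure ⟨S, φ, x, hφ, ?_⟩
    rw [show φ x = autFn (a : MulAut S) x from he x x.2, autFn_apply (a : MulAut S) x.2]
    rfl
  have hfocS : F.focalSubgroup ≤ N.ker.map S.subtype := by
    refine (Subgroup.closure_le _).2 ?_
    rintro _ ⟨P, φ, x, hφ, rfl⟩
    obtain ⟨α, hα, he⟩ := exists_aut_extension hS hF hab (isMap_toFn hφ)
    let x' : S := ⟨x, (F.le_of_mem hφ).1 x.2⟩
    refine ⟨x'⁻¹ * α x', ?_, ?_⟩
    · show N _ = 1
      rw [map_mul, map_inv, hNα ⟨α, hα⟩, inv_mul_cancel]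
    · have h := he x x.2
      rw [autFn_apply α x'.2, toFn_coe] at h
      simp only [Subgroup.coe_subtype, Subgroup.coe_mul, Subgroup.coe_inv]
      rw [← h]
  obtain ⟨k, hk⟩ := hS.exists_card_eq
  have hco : (Nat.card S).Coprime (Nat.card (F.autGroup S)) := by
    rw [hk]
    exact Nat.Coprime.pow_left _
      ((Nat.Prime.coprime_iff_not_dvd Fact.out).2 (not_dvd_card_autGroup hS hF hab))
  rw [hcenter]
  refine ⟨?_, ?_⟩
  · rw [eq_bot_iff]
    rintro y ⟨hyC, hyF⟩
    obtain ⟨x, hx, rfl⟩ := hfocS hyF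
    have hxC : x ∈ C₀ := (hmemC x).1 hyC
    have h1 : x ^ Nat.card (F.autGroup S) = 1 := by
      rw [← show N x = 1 from hx]
      show _ = ∏ a : F.autGroup S, (a : MulAut S) x
      rw [Finset.prod_congr rfl (g := fun _ => x) fun (a : F.autGroup S) _ => hxC (a : MulAut S) a.2,
        Finset.prod_const, Finset.card_univ,
        Nat.card_eq_fintype_card]
    have : x = 1 := by
      apply (powCoprime hco).injective
      simpa using h1
    simp [this]
  · refine le_antisymm (sup_le hCS (hfocS.trans ?_)) fun y hy => ?_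
    · rintro _ ⟨x, -, rfl⟩
      exact x.2
    obtain ⟨x, hx⟩ := (powCoprime hco).surjective ⟨y, hy⟩
    have key : ∀ z : S, ((z ^ Nat.card (F.autGroup S) : S) : Ω) ∈ C ⊔ F.focalSubgroup := by
      intro z
      have e : z ^ Nat.card (F.autGroup S) = N z * (∏ a : F.autGroup S, (z⁻¹ * (a : MulAut S) z))⁻¹ := by
        show _ = (∏ a : F.autGroup S, (a : MulAut S) z) * _
        rw [Finset.prod_mul_distrib, Finset.prod_const, Finset.card_univ, Nat.card_eq_fintype_card,
          inv_pow, mul_inv, inv_inv, mul_comm (_ ^ _), ← mul_assoc, mul_inv_cancel, one_mul]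
      rw [e, Subgroup.coe_mul]
      refine Subgroup.mul_mem_sup ((hmemC _).2 (hNfix z)) (Subgroup.inv_mem _ ?_)
      exact Subgroup.mem_subgroupOf.1 (Subgroup.prod_mem (F.focalSubgroup.subgroupOf S)
        fun a _ => hgen a z)
    have := key x
    rwa [show x ^ Nat.card (F.autGroup S) = ⟨y, hy⟩ from hx] at this

end Cfsg.Agent.S5330
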