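import Cfsg.Statements.S5331
import Cfsg.Agent.Lib.FusionAbelian.Basic

set_option autoImplicit false
open Cfsg

namespace Cfsg.Agent.S5331

open Cfsg.Agent.Fusion Cfsg.Agent.FusionAbelian Cfsg.FusionSystem

/-- Over `ZMod (2^b)`, two non-zero elements killed by 2 are equal. -/
theorem eq_of_two_torsion {b : ℕ} (x y : ZMod (2 ^ b)) (hx : x + x = 0) (hy : y + y = 0)
    (hx0 : x ≠ 0) (hy0 : y ≠ 0) : x = y := by
  haveI : NeZero (2 ^ b) := ⟨by positivity⟩
  have key : ∀ z : ZMod (2 ^ b), z + z = 0 → z ≠ 0 → 2 * z.val = 2 ^ b := by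
    intro z hz hz0
    have h1 : ((2 * z.val : ℕ) : ZMod (2 ^ b)) = 0 := by
      push_cast
      rw [ZMod.natCast_zmod_val, two_mul, hz]
    rw [ZMod.natCast_eq_zero_iff] at h1
    have hlt := ZMod.val_lt z
    have hpos : z.val ≠ 0 := fun h => hz0 ((ZMod.val_eq_zero z).1 h)
    obtain ⟨k, hk⟩ := h1
    rcases Nat.lt_or_ge k 2 with hk2 | hk2
    · interval_cases k <;> omega
    · nlinarith
  apply ZMod.val_injective
  have := key x hx hx0
  have := key y hy hy0
  omega

variable {n : ℕ} {a : Fin n → ℕ}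

/-- An element killed by 2 that is fixed modulo fixed elements is fixed, for odd period. -/
theorem diff_eq_zero {f : ((i : Fin n) → ZMod (2 ^ a i)) →+ ((i : Fin n) → ZMod (2 ^ a i))}
    {N : ℕ} (hN : Odd N) (hf : ∀ x, f^[N] x = x) {x : (i : Fin n) → ZMod (2 ^ a i)}
    (hd : f (f x - x) = f x - x) (h2 : (f x - x) + (f x - x) = 0) : f x = x := by
  have hit : ∀ k, f^[k] x = x + k • (f x - x) := by
    intro k
    induction k with
    | zero => simp
    | succ k ih =>
      rw [Function.iterate_succ_apply', ih, map_add, map_nsmul, hd, succ_nsmul]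
      abel
  have h := hit N
  rw [hf x] at h
  obtain ⟨m, rfl⟩ := hN
  have : (2 * m + 1) • (f x - x) = 0 := by simpa using h.symm
  rw [add_nsmul, one_nsmul, mul_comm, mul_nsmul', two_nsmul, h2, nsmul_zero, zero_add] at this
  exact sub_eq_zero.1 this

theorem fixed_two_torsion (ha : StrictMono a) (ha1 : ∀ i, 1 ≤ a i)
    {f : ((i : Fin n) → ZMod (2 ^ a i)) →+ ((i : Fin n) → ZMod (2 ^ a i))}
    {N : ℕ} (hN : Odd N) (hf : ∀ x, f^[N] x = x) :
    ∀ (m k : ℕ), n ≤ k + m → ∀ v : (i : Fin n) → ZMod (2 ^ a i), v + v = 0 →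
      (∀ j : Fin n, j.val < k → v j = 0) → f v = v := by
  intro m
  induction m with
  | zero =>
    intro k hk v _ hz
    have : v = 0 := funext fun j => hz j (lt_of_lt_of_le j.2 (by omega))
    rw [this, map_zero]
  | succ m ih =>
    intro k hk v hv hz
    by_cases hkn : n ≤ k + m
    · exact ih k hkn v hv hz
    have hkn' : k < n := by omega
    set i : Fin n := ⟨k, hkn'⟩ with hi
    have hnext : ∀ w : (j : Fin n) → ZMod (2 ^ a j), w + w = 0 →
        (∀ j : Fin n, j.val < k → w j = 0) → w i = 0 → f w = w := by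
      intro w hw hz hwi
      refine ih (k + 1) (by omega) w hw fun j hj => ?_
      rcases Nat.lt_succ_iff_lt_or_eq.1 hj with h | h
      · exact hz j h
      · rw [show j = i from Fin.ext h]
        exact hwi
    by_cases hvi : v i = 0
    · exact hnext v hv hz hvi
    let e : (j : Fin n) → ZMod (2 ^ a j) := (2 ^ (a i - 1)) • Pi.single i 1
    have ha2 : 2 * 2 ^ (a i - 1) = 2 ^ a i := by
      rw [← pow_succ', Nat.sub_add_cancel (ha1 i)]
    have hei : e i ≠ 0 := by
      show (2 ^ (a i - 1)) • (Pi.single i 1 : (j : Fin n) → ZMod (2 ^ a j)) i ≠ 0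
      rw [Pi.single_eq_same, nsmul_eq_mul, mul_one, Ne, ZMod.natCast_eq_zero_iff]
      intro h
      have := Nat.le_of_dvd (by positivity) h
      have := Nat.two_pow_pos (a i - 1)
      omega
    have he2 : e + e = 0 := by
      funext j
      simp only [e, Pi.add_apply, Pi.zero_apply, Pi.smul_apply]
      by_cases hj : j = i
      · subst hj
        rw [Pi.single_eq_same, ← add_nsmul, nsmul_eq_mul, mul_one, ZMod.natCast_eq_zero_iff,
          ← two_mul, ha2]
      · rw [Pi.single_eq_of_ne hj, nsmul_zero, add_zero]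
    have hez : ∀ j : Fin n, j.val < k → e j = 0 := by
      intro j hj
      have hji : j ≠ i := fun h => by simp [h, hi] at hj
      simp [e, hji]
    have hfe2 : f e + f e = 0 := by rw [← map_add, he2, map_zero]
    have hfez : ∀ j : Fin n, j.val < k → f e j = 0 := by
      intro j hj
      show f ((2 ^ (a i - 1)) • (Pi.single i 1 : (j : Fin n) → ZMod (2 ^ a j))) j = 0
      rw [map_nsmul, Pi.smul_apply, nsmul_eq_mul]
      have hdvd : 2 ^ a j ∣ 2 ^ (a i - 1) := by
        apply Nat.pow_dvd_pow
        have := ha (show j < i from hj)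
        omega
      rw [(ZMod.natCast_eq_zero_iff _ _).2 hdvd, zero_mul]
    have hfei : f e i ≠ 0 := by
      intro h
      have h1 := hnext (f e) hfe2 hfez h
      have hinj : Function.Injective f := by
        intro x y hxy
        rw [← hf x, ← hf y]
        obtain ⟨N', rfl⟩ : ∃ N', N = N' + 1 := ⟨N - 1, by obtain ⟨m, rfl⟩ := hN; omega⟩
        rw [Function.iterate_succ_apply, Function.iterate_succ_apply, hxy]
      exact hei (by rw [← hinj h1]; exact h)
    have hfe : f e = e := by
      refine diff_eq_zero hN hf (hnext _ ?_ ?_ ?_) ?_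
      · rw [show f e - e + (f e - e) = f e + f e - (e + e) by abel, hfe2, he2, sub_zero]
      · intro j hj; rw [Pi.sub_apply, hfez j hj, hez j hj, sub_zero]
      · rw [Pi.sub_apply, sub_eq_zero]
        exact eq_of_two_torsion _ _ (congrFun hfe2 i) (congrFun he2 i) hfei hei
      · rw [show f e - e + (f e - e) = f e + f e - (e + e) by abel, hfe2, he2, sub_zero]
    have hw : f (v - e) = v - e := by
      refine hnext _ ?_ (fun j hj => by rw [Pi.sub_apply, hz j hj, hez j hj, sub_zero]) ?_
      · rw [show v - e + (v - e) = v + v - (e + e) by abel, hv, he2, sub_zero]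
      · rw [Pi.sub_apply, sub_eq_zero]
        exact eq_of_two_torsion _ _ (congrFun hv i) (congrFun he2 i) hvi hei
    rw [map_sub, hfe] at hw
    exact sub_left_injective hw

theorem fixed_all (ha : StrictMono a) (ha1 : ∀ i, 1 ≤ a i)
    {f : ((i : Fin n) → ZMod (2 ^ a i)) →+ ((i : Fin n) → ZMod (2 ^ a i))}
    {N : ℕ} (hN : Odd N) (hf : ∀ x, f^[N] x = x) (x : (i : Fin n) → ZMod (2 ^ a i)) : f x = x := by
  suffices h : ∀ m x, (∀ i, (2 ^ m) • x i = (0 : ZMod (2 ^ a i))) → f x = x by
    refine h (∑ i, a i) x fun i => ?_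
    rw [nsmul_eq_mul, (ZMod.natCast_eq_zero_iff _ _).2
      (Nat.pow_dvd_pow 2 (Finset.single_le_sum (fun j _ => Nat.zero_le _) (Finset.mem_univ i))),
      zero_mul]
  intro m
  induction m with
  | zero =>
    intro x hx
    have : x = 0 := funext fun i => by simpa using hx i
    rw [this, map_zero]
  | succ m ih =>
    intro x hx
    have h2 : f (x + x) = x + x := ih _ fun i => by
      rw [Pi.add_apply, nsmul_add, ← two_nsmul, ← mul_nsmul, ← pow_succ]
      exact hx i
    have hd : (f x - x) + (f x - x) = 0 := by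
      rw [show f x - x + (f x - x) = f x + f x - (x + x) by abel, ← map_add, h2, sub_self]
    exact diff_eq_zero hN hf (fixed_two_torsion ha ha1 hN hf n 0 (by omega) _ hd
      (fun j hj => absurd hj (Nat.not_lt_zero _))) hd

/-- Let S be a finite abelian 2-group that is a direct product of cyclic groups of pairwise distinct orders 2^{a_1} < 2^{a_2} < ⋯ < 2^{a_n} (all a_i ≥ 1). Then every saturated fusion system over S is the inner one: its maps are exactly the conjugations by elements of S. -/
theorem result {Ω : Type*} [Group Ω] {S : Subgroup Ω} [Finite S] (n : ℕ) (a : Fin n → ℕ) (ha : StrictMono a) (ha1 : ∀ i, 1 ≤ a i) (e : ↥S ≃* Multiplicative ((i : Fin n) → ZMod (2 ^ a i))) (F : Cfsg.FusionSystem S) (hF : F.IsSaturated 2) (P : Subgroup Ω) : F.Hom P = (Cfsg.innerFusionSystem S).Hom P := by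
  haveI : Fact (Nat.Prime 2) := ⟨Nat.prime_two⟩
  have hab : ∀ x ∈ S, ∀ y ∈ S, x * y = y * x := by
    intro x hx y hy
    have h : (⟨x, hx⟩ : S) * ⟨y, hy⟩ = ⟨y, hy⟩ * ⟨x, hx⟩ := e.injective (by rw [map_mul, map_mul, mul_comm])
    exact congrArg Subtype.val h
  haveI : ∀ i, NeZero (2 ^ a i) := fun i => ⟨by positivity⟩
  have hS : IsPGroup 2 S := by
    refine IsPGroup.of_card (n := ∑ i, a i) ?_
    rw [Nat.card_congr (e.toEquiv.trans Multiplicative.toAdd), Nat.card_pi,
      ← Finset.prod_pow_eq_pow_sum]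
    simp
  haveI := finite_mulAut (S := S) (P := S) le_rfl
  have htriv : ∀ α ∈ F.autGroup S, α = 1 := by
    intro α hα
    have hN : Odd (Nat.card (F.autGroup S)) := by
      rw [Nat.odd_iff]
      have := not_dvd_card_autGroup hS hF hab
      omega
    let f : ((i : Fin n) → ZMod (2 ^ a i)) →+ ((i : Fin n) → ZMod (2 ^ a i)) :=
      AddMonoidHom.mk' (fun v => Multiplicative.toAdd (e (α (e.symm (Multiplicative.ofAdd v)))))
        (fun u v => by simp [map_mul, toAdd_mul])
    have hit : ∀ k v, f^[k] v =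
        Multiplicative.toAdd (e ((α ^ k) (e.symm (Multiplicative.ofAdd v)))) := by
      intro k
      induction k with
      | zero => intro v; simp
      | succ k ih =>
        intro v
        rw [Function.iterate_succ_apply', ih, pow_succ']
        simp [f, MulAut.mul_apply]
    have hpow : α ^ Nat.card (F.autGroup S) = 1 := by
      have := pow_card_eq_one' (x := (⟨α, hα⟩ : F.autGroup S))
      exact congrArg Subtype.val this
    have hf : ∀ v, f^[Nat.card (F.autGroup S)] v = v := by
      intro v
      rw [hit, hpow]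
      simp
    apply MulEquiv.ext
    intro x
    have h := fixed_all ha ha1 hN hf (Multiplicative.toAdd (e x))
    simp only [f, AddMonoidHom.mk'_apply, ofAdd_toAdd, MulEquiv.symm_apply_apply] at h
    exact e.injective (Multiplicative.toAdd.injective h)
  refine Set.Subset.antisymm (fun φ hφ => ?_) fun φ hφ => ?_
  · obtain ⟨α, hα, he⟩ := exists_aut_extension hS hF hab (isMap_toFn hφ)
    refine mem_of_isMap (IsMap.id (F.le_of_mem hφ).1) fun x => ?_
    have h := he x x.2
    rw [htriv α hα, autFn_apply _ ((F.le_of_mem hφ).1 x.2), toFn_coe] at h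
    exact h.symm
  · obtain ⟨hP, g, hg, h⟩ := hφ
    exact mem_of_isMap (IsMap.conj (F := F) hP hg) h

end Cfsg.Agent.S5331
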