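import Cfsg.Statements.S5332
import Cfsg.Agent.S5204

set_option autoImplicit false
open Cfsg Cfsg.FusionSystem

namespace Cfsg.Agent.S5332

open Cfsg.Agent.Fusion

/-- Let p be odd and F a saturated fusion system over a finite p-group S that is not the inner system of S. Then F contains a saturated constrained subsystem over S that is itself not the inner system. -/
theorem result {Ω : Type*} [Group Ω] {S : Subgroup Ω} [Finite S] (p : ℕ) [Fact p.Prime] (hS : IsPGroup p S) (F : Cfsg.FusionSystem S) (hF : F.IsSaturated p) (hp : p ≠ 2) (hne : ∃ P : Subgroup Ω, F.Hom P ≠ (Cfsg.innerFusionSystem S).Hom P) : ∃ E : Cfsg.FusionSystem S, E ≤ F ∧ E.IsConstrained p ∧ ∃ P : Subgroup Ω, E.Hom P ≠ (Cfsg.innerFusionSystem S).Hom P := by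
  suffices h : ∀ n, ∀ E : FusionSystem S, (graphs E).ncard = n → E.IsSaturated p →
      E.IsSubsystemOf F → ¬ PAut p E →
      ∃ E' : FusionSystem S, E'.IsSubsystemOf F ∧ E'.IsConstrained p ∧ ¬ PAut p E' by
    obtain ⟨E, hle, hc, hn⟩ := h _ F rfl hF (fun P φ hφ => hφ) fun hP => by
      obtain ⟨P, hP'⟩ := hne
      exact hP' (inner_of_pAut hS hF hP P)
    refine ⟨E, hle, hc, ?_⟩
    by_contra hno
    push Not at hno
    exact hn (pAut_of_inner hS hno)
  intro n
  induction n using Nat.strong_induction_on with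
  | _ n ih =>
  intro E hn hE hle hnp
  by_cases hmin : ∀ E' : FusionSystem S, E'.IsSaturated p → E'.IsSubsystemOf E →
      ¬ E.IsSubsystemOf E' → PAut p E'
  · exact ⟨E, hle, (S5204.crit p).isConstrained_of_minimal
      (fun Ω _ S _ F hS hF _ hH => S5204.pAut_of_npaut p hp hS F hF hH) hS hE trivial hnp hmin,
      hnp⟩
  · push Not at hmin
    obtain ⟨E', hs, hsub, hlt, hnp'⟩ := hmin
    exact ih _ (hn ▸ graphs_lt hsub hlt) E' rfl hs (fun P φ hφ => hle P (hsub P hφ)) hnp'

end Cfsg.Agent.S5332
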