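import Cfsg.Statements.S5333
import Cfsg.Agent.S5097
import Cfsg.Agent.Lib.Fusion.Saturation

set_option autoImplicit false
open Cfsg

namespace Cfsg.Agent.S5333

open Cfsg.Agent.Fusion Cfsg.FusionSystem

/-- Let F′ ≤ F be saturated fusion systems over the same finite p-group S. Suppose that for every subgroup Z ≤ S of order p that is fully centralized in F′, the maps of F and of F′ with source Z coincide and the centralizer systems C_F(Z) and C_{F′}(Z) coincide. Then F = F′. -/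
theorem result {Ω : Type*} [Group Ω] {S : Subgroup Ω} [Finite S] (p : ℕ) [Fact p.Prime] (hS : IsPGroup p S) (F : Cfsg.FusionSystem S) (hF : F.IsSaturated p) (F' : Cfsg.FusionSystem S) (hF' : F'.IsSaturated p) (hle : F' ≤ F) (hZ : ∀ Z : Subgroup Ω, Z ≤ S → Nat.card Z = p → F'.IsFullyCentralized Z → F.Hom Z = F'.Hom Z ∧ ∀ (C C' : Cfsg.FusionSystem (Cfsg.FusionSystem.centralizerIn S Z)), F.IsCentralizerSystem Z C → F'.IsCentralizerSystem Z C' → ∀ P : Subgroup Ω, C.Hom P = C'.Hom P) (P : Subgroup Ω) : F.Hom P = F'.Hom P := by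
  refine Set.Subset.antisymm (fun φ hφ => ?_) (hle P)
  refine mem_of_isMap (f := toFn φ) ?_ fun x => (toFn_coe φ x).symm
  have hf := isMap_toFn hφ
  generalize toFn φ = f at hf
  clear hφ φ
  rcases eq_or_ne P ⊥ with rfl | hP1
  · exact (IsMap.id (F := F') bot_le).congr fun x hx => by
      rw [Subgroup.mem_bot.1 hx, hf.map_one]
  haveI := finite_of_le (S := S) hf.le
  haveI : Nontrivial P := (Subgroup.nontrivial_iff_ne_bot P).2 hP1
  have hPp : IsPGroup p P := hS.to_le hf.le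
  haveI := hPp.center_nontrivial
  have hdvd : p ∣ Nat.card (Subgroup.center P) := by
    obtain ⟨k, hk0, hk⟩ := (hPp.to_subgroup _).nontrivial_iff_card.1
      (inferInstance : Nontrivial (Subgroup.center P))
    rw [hk]
    exact dvd_pow_self p hk0.ne'
  obtain ⟨c, hc⟩ := exists_prime_orderOf_dvd_card' p hdvd
  set Z : Subgroup Ω := Subgroup.zpowers ((c : P) : Ω) with hZdef
  have hZP : Z ≤ P := Subgroup.zpowers_le.2 c.1.2
  have hZS : Z ≤ S := hZP.trans hf.le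
  have hZcard : Nat.card Z = p := by
    rw [hZdef, Nat.card_zpowers, Subgroup.orderOf_coe, Subgroup.orderOf_coe, hc]
  have hPC : P ≤ centralizerIn S Z := by
    intro x hx
    refine mem_centralizerIn.2 ⟨hf.le hx, fun z hz => ?_⟩
    obtain ⟨k, rfl⟩ := Subgroup.mem_zpowers_iff.1 hz
    have := congrArg Subtype.val (Subgroup.mem_center_iff.1 c.2 ⟨x, hx⟩)
    exact Commute.zpow_right this k
  obtain ⟨Z₀, hconj, hZ₀n⟩ := exists_fullyNormalized F' hZS
  have hZ₀c := fullyCentralized_of_fullyNormalized hS hF' hZ₀n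
  obtain ⟨h, hh⟩ := isConj_iff.1 hconj
  obtain ⟨hi, hhi, hhi1, hhi2⟩ := hh.symm
  obtain ⟨hhom, hcent⟩ := hZ Z₀ hZ₀n.1 (hh.card_eq.trans hZcard) hZ₀c
  -- `f` on `Z` is a map of `F'`
  have hfZ : IsMap F' Z f := by
    obtain ⟨χ, hχ, hχe⟩ := (isMap_of_le hle hhi.1).comp (hf.mono hZP) fun y hy => hhi.mem hy
    rw [hhom] at hχ
    refine (hh.1.comp ⟨χ, hχ, hχe⟩ fun x hx => hh.mem hx).congr fun x hx => ?_
    show f (hi (h x)) = f x
    rw [hhi1 x hx]
  obtain ⟨e1, he1, he1a, -⟩ := hfZ.isIso.symm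
  have hh' : IsIso F' (img f Z) Z₀ (fun y => h (e1 y)) := he1.trans hh
  have hrec := receptive_of_fullyCentralized hS hF' hZ₀c
  obtain ⟨χ, hχ, hχh⟩ := (isReceptive_iff.1 hrec).2 Z h hh
  obtain ⟨χ', hχ', hχ'h⟩ := (isReceptive_iff.1 hrec).2 _ _ hh'
  have hP' : P ≤ Nx S Z h := hPC.trans (centralizerIn_le_Nx S Z h)
  have hfP : ∀ x ∈ P, f x ∈ Nx S (img f Z) (fun y => h (e1 y)) := fun x hx =>
    centralizerIn_le_Nx S _ _ (map_centralizerIn hf hZP rfl hx (hPC hx))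
  have hχP : IsMap F' P χ := hχ.mono hP'
  obtain ⟨χi, hχi, hχi1, -⟩ := hχP.isIso.symm
  obtain ⟨χ'i, hχ'i, hχ'i1, -⟩ := hχ'.isIso.symm
  set ξ := fun y => χ' (f (χi y))
  have hξ : IsMap F (img χ P) ξ := ((isMap_of_le hle hχi.1).comp hf fun y hy => hχi.mem hy).comp
    (isMap_of_le hle hχ') fun y hy => hfP _ (hχi.mem hy)
  have hZimg : img χ Z = Z₀ := (img_congr hχh).trans hh.2
  have hZ₀le : Z₀ ≤ img χ P := by
    rw [← hZimg]
    exact hχP.img_le hZP fun z hz => hχP.mem_img (hZP hz)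
  have hsupeq : img χ P ⊔ Z₀ = img χ P := sup_eq_left.2 hZ₀le
  obtain ⟨C, hC⟩ := Cfsg.Agent.S5097.result F Z₀ hZ₀n.1
  obtain ⟨C', hC'⟩ := Cfsg.Agent.S5097.result F' Z₀ hZ₀n.1
  have hξfix : ∀ z ∈ Z₀, ξ z = z := by
    intro y hy
    obtain ⟨z, hz, rfl⟩ := hh.exists_eq hy
    show χ' (f (χi (h z))) = h z
    rw [← hχh z hz, hχi1 z (hZP hz), hχ'h _ (hf.mem_img hz), hχh z hz]
    show h (e1 (f z)) = h z
    rw [he1a z hz]
  obtain ⟨η, hη, hηe⟩ := hξ
  have hmemC : η ∈ C.Hom (img χ P) := by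
    rw [hC]
    refine ⟨hη, ?_, fun y => ?_, ?_⟩
    · exact hχP.img_le le_rfl fun x hx =>
        map_centralizerIn hχP hZP hZimg hx (hPC hx)
    · obtain ⟨x, hx, e⟩ := (hχP.mem_img_iff le_rfl).1 y.2
      rw [hηe y.1 y.2]
      show χ' (f (χi y.1)) ∈ _
      have hfx := hfP _ (hχi.mem y.2)
      refine map_centralizerIn hχ' (le_Nx hh'.1) ((img_congr hχ'h).trans hh'.2) hfx ?_
      exact map_centralizerIn hf hZP rfl (hχi.mem y.2) (hPC (hχi.mem y.2))
    · have key : ∀ A, A = img χ P ⊔ Z₀ → IsMap F A ξ := by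
        rintro A rfl
        rw [hsupeq]
        exact ⟨η, hη, hηe⟩
      obtain ⟨ψ, hψ, hψe⟩ := key _ rfl
      exact ⟨ψ, hψ, fun x => (hψe _ _).trans (hηe x.1 x.2).symm,
        fun z => (hψe _ _).trans (hξfix z.1 z.2)⟩
  rw [hcent C C' hC hC', hC'] at hmemC
  have hξ' : IsMap F' (img χ P) ξ := ⟨η, hmemC.1, hηe⟩
  refine ((hχP.comp hξ' fun x hx => hχP.mem_img hx).comp hχ'i.1 fun x hx => ?_).congr
    fun x hx => ?_
  · exact hχ'.mem_img (hfP _ (hχi.mem (hχP.mem_img hx)))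
  · show χ'i (χ' (f (χi (χ x)))) = f x
    rw [hχi1 x hx, hχ'i1 _ (hfP x hx)]

end Cfsg.Agent.S5333
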