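import Cfsg.Statements.S5334
import Cfsg.Agent.Lib.FusionSub.Centric

set_option autoImplicit false
open Cfsg

namespace Cfsg.Agent.S5334

open Cfsg.Agent.Fusion Cfsg.Agent.FusionSub Cfsg.FusionSystem

/-- Let F′ ≤ F be saturated fusion systems over the same finite p-group S, let Q and R be F-centric subgroups, φ a map of F with source Q and values in R, and ψ a map of F with source R. If two of φ, ψ and the composite ψ ∘ φ are maps of F′ then so is the third. -/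
theorem result {Ω : Type*} [Group Ω] {S : Subgroup Ω} [Finite S] (p : ℕ) [Fact p.Prime] (hS : IsPGroup p S) (F : Cfsg.FusionSystem S) (hF : F.IsSaturated p) (F' : Cfsg.FusionSystem S) (hF' : F'.IsSaturated p) (hle : F' ≤ F) (Q R : Subgroup Ω) (hQ : F.IsCentric Q) (hR : F.IsCentric R) (φ : ↥Q →* Ω) (hφ : φ ∈ F.Hom Q) (hφR : ∀ x : Q, φ x ∈ R) (ψ : ↥R →* Ω) (hψ : ψ ∈ F.Hom R) : (φ ∈ F'.Hom Q → ψ ∈ F'.Hom R → ψ.comp (φ.codRestrict R hφR) ∈ F'.Hom Q) ∧ (ψ ∈ F'.Hom R → ψ.comp (φ.codRestrict R hφR) ∈ F'.Hom Q → φ ∈ F'.Hom Q) ∧ (φ ∈ F'.Hom Q → ψ.comp (φ.codRestrict R hφR) ∈ F'.Hom Q → ψ ∈ F'.Hom R) := by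
  have hφm := isMap_toFn hφ
  have hψm := isMap_toFn hψ
  have hR' : ∀ x ∈ Q, toFn φ x ∈ R := fun x hx => by
    rw [toFn_apply φ hx]
    exact hφR ⟨x, hx⟩
  have hcomp : ∀ (x : _) (hx : x ∈ Q), ψ.comp (φ.codRestrict R hφR) ⟨x, hx⟩ = toFn ψ (toFn φ x) :=
    fun x hx => by
      rw [toFn_apply φ hx, toFn_apply ψ (hφR ⟨x, hx⟩)]
      rfl
  refine ⟨fun h1 h2 => F'.comp_mem h1 h2 hφR, fun h2 h3 => ?_, fun h1 h3 => ?_⟩
  · have hc : IsMap F' Q (fun x => toFn ψ (toFn φ x)) := ⟨_, h3, hcomp⟩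
    obtain ⟨g, hg, hg1, -⟩ := (isMap_toFn h2).isIso.symm
    refine mem_of_isMap ((hc.comp hg.1 fun x hx => (isMap_toFn h2).mem_img (hR' x hx)).congr
      (g := toFn φ) fun x hx => hg1 _ (hR' x hx)) fun x => (toFn_coe φ x).symm
  · have hc : IsMap F' Q (fun x => toFn ψ (toFn φ x)) := ⟨_, h3, hcomp⟩
    obtain ⟨g, hg, hg1, hg2⟩ := (isMap_toFn h1).isIso.symm
    have hQ' : F.IsCentric (img (toFn φ) Q) := by
      have hconj : F.IsConj Q (img (toFn φ) Q) := isConj_iff.2 ⟨_, hφm.isIso⟩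
      exact ⟨hφm.img_le_S, fun Q' h => hQ.2 Q' (isConj_trans hconj h)⟩
    refine mem_of_isMap (isMap_of_restrict_centric hS hF hF' hle hQ'
      (hφm.img_le le_rfl hR') hψm ((hg.1.comp hc fun y hy => hg.mem hy).congr fun y hy => ?_))
      fun x => (toFn_coe ψ x).symm
    show toFn ψ (toFn φ (g y)) = toFn ψ y
    rw [hg2 y hy]

end Cfsg.Agent.S5334
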