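import Cfsg.Statements.S5335
import Cfsg.Agent.Lib.FusionSub.Centric
import Cfsg.Agent.Lib.FusionChain.Alperin

set_option autoImplicit false
open Cfsg

namespace Cfsg.Agent.S5335

open Cfsg.Agent.Fusion Cfsg.Agent.FusionSub Cfsg.FusionSystem

/-- Let F′ ≤ F be saturated fusion systems over the same finite p-group S. If the maps of F and of F′ with source Q coincide for every F-centric subgroup Q that is minimal among F-centric subgroups, then F = F′. -/
theorem result {Ω : Type*} [Group Ω] {S : Subgroup Ω} [Finite S] (p : ℕ) [Fact p.Prime] (hS : IsPGroup p S) (F : Cfsg.FusionSystem S) (hF : F.IsSaturated p) (F' : Cfsg.FusionSystem S) (hF' : F'.IsSaturated p) (hle : F' ≤ F) (hmin : ∀ Q : Subgroup Ω, F.IsCentric Q → (∀ R : Subgroup Ω, R < Q → ¬ F.IsCentric R) → F.Hom Q = F'.Hom Q) (P : Subgroup Ω) : F.Hom P = F'.Hom P := by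
  refine Set.Subset.antisymm (fun φ hφ => ?_) (hle P)
  refine mem_of_isMap (f := toFn φ) ?_ fun x => (toFn_coe φ x).symm
  refine FusionChain.alperin_induction hS hF (fun P f => IsMap F' P f)
    (fun _ _ _ _ h e => h.congr e) (fun _ _ _ _ hle h => h.mono hle)
    (fun _ _ _ _ _ _ hm h1 h2 => h1.comp h2 hm) (fun R hR hRc _ α hα _ => ?_) (isMap_toFn hφ)
  have key : ∀ n (Q : Subgroup _), Nat.card Q = n → F.IsCentric Q →
      ∃ Q₀ ≤ Q, F.IsCentric Q₀ ∧ ∀ R, R < Q₀ → ¬ F.IsCentric R := by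
    intro n
    induction n using Nat.strong_induction_on with
    | _ n ih =>
      intro Q hn hQ
      by_cases h : ∀ R, R < Q → ¬ F.IsCentric R
      · exact ⟨Q, le_rfl, hQ, h⟩
      push Not at h
      obtain ⟨R, hRQ, hR⟩ := h
      haveI := finite_of_le (S := S) hQ.1
      have hlt : Nat.card R < n := hn ▸ lt_of_le_of_ne (Subgroup.card_le_of_le hRQ.le)
        fun e => hRQ.ne (Subgroup.eq_of_le_of_card_ge hRQ.le e.ge)
      obtain ⟨Q₀, h0, h1, h2⟩ := ih _ hlt R rfl hR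
      exact ⟨Q₀, h0.trans hRQ.le, h1, h2⟩
  obtain ⟨Q₀, h0, h1, h2⟩ := key _ R rfl hRc
  have hα' := (mem_autGroup_iff hR.1).1 hα
  refine isMap_of_restrict_centric hS hF hF' hle h1 h0 hα' ?_
  obtain ⟨χ, hχ, hχe⟩ := hα'.mono h0
  rw [hmin Q₀ h1 h2] at hχ
  exact ⟨χ, hχ, hχe⟩

end Cfsg.Agent.S5335
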