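import Cfsg.Statements.S5336
import Cfsg.Agent.S5118
import Cfsg.Agent.Lib.FusionIso.Subgroup
import Cfsg.Agent.EqLemmas

set_option autoImplicit false
open Cfsg

namespace Cfsg.Agent.S5336

open Cfsg.FusionSystem hiding inv_mem
open Cfsg.Agent.Fusion

/-- Let G be a finite group with Sylow p-subgroup S whose fusion system F_S(G) is simple. If G has no nontrivial normal subgroup of order prime to p and no proper subgroup H containing S induces the same fusion system on S as G does, then G is a simple group. -/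
theorem result {G : Type*} [Group G] [Finite G] (p : ℕ) [Fact p.Prime] (S : Sylow p G) (hsimple : (Cfsg.groupFusionSystem (S : Subgroup G)).IsSimple p) (hcore : Cfsg.pPrimeCore p G = ⊥) (hmin : ∀ (H : Subgroup G) (hSH : (S : Subgroup G) ≤ H), H ≠ ⊤ → ∃ P : Subgroup G, (Cfsg.fusionSystemOfSubgroup H (S : Subgroup G) hSH).Hom P ≠ (Cfsg.groupFusionSystem (S : Subgroup G)).Hom P) : IsSimpleGroup G := by
  have hS1 : (S : Subgroup G) ≠ ⊥ := hsimple.2.1
  obtain ⟨⟨x, hx⟩, hx1⟩ := (S : Subgroup G).ne_bot_iff_exists_ne_one.1 hS1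
  haveI : Nontrivial G := ⟨⟨x, 1, fun e => hx1 (Subtype.ext e)⟩⟩
  refine ⟨fun N hN => or_iff_not_imp_left.2 fun hN1 => ?_⟩
  haveI := hN
  rcases hsimple.2.2 _ _ (Cfsg.Agent.S5118.result p S N) with hT | ⟨hT, hE⟩
  · suffices hco : (Nat.card N).Coprime p by
      exact absurd (le_bot_iff.1 (((le_sSup (show N ∈ {K : Subgroup G | K.Normal ∧
        (Nat.card K).Coprime p} from ⟨hN, hco⟩)) : N ≤ Cfsg.pPrimeCore p G).trans hcore.le)) hN1
    have hsyl : IsSylowIn p ((S : Subgroup G) ⊓ N) N :=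
      (isSylowIn_top S).inf_normal le_top fun a _ n hn => hN.conj_mem n hn a
    refine ((Fact.out : p.Prime).coprime_iff_not_dvd.2 fun hdvd => ?_).symm
    obtain ⟨y, hy⟩ := exists_prime_orderOf_dvd_card' p hdvd
    have hY : IsPGroup p (Subgroup.zpowers (y : G)) := IsPGroup.of_card (n := 1) (by
      rw [pow_one, Nat.card_zpowers, Subgroup.orderOf_coe, hy])
    obtain ⟨a, -, ha⟩ := hsyl.exists_conj_le hY (Subgroup.zpowers_le.2 y.2)
    have h1 := ha _ (Subgroup.mem_zpowers (y : G))
    rw [hT, Subgroup.mem_bot, conj_eq_one_iff] at h1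
    have : y = 1 := Subtype.ext h1
    rw [this, orderOf_one] at hy
    exact (Fact.out : p.Prime).one_lt.ne hy
  · by_contra hNtop
    have key : ∀ (T : Subgroup G) (h : T ≤ N), T = (S : Subgroup G) ⊓ N → ∀ P : Subgroup G,
        (Cfsg.fusionSystemOfSubgroup N T h).Hom P =
          (Cfsg.groupFusionSystem (S : Subgroup G)).Hom P := by
      rintro _ h rfl P
      exact hE P
    have hSN : (S : Subgroup G) ≤ N := inf_eq_left.1 hT
    obtain ⟨P, hP⟩ := hmin N hSN hNtop
    exact hP (key _ hSN hT.symm P)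

end Cfsg.Agent.S5336
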