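import Cfsg.Statements.S5338
import Cfsg.Agent.Lib.FusionChain.Alperin

set_option autoImplicit false
open Cfsg

namespace Cfsg.Agent.S5338

open Cfsg.Agent.Fusion Cfsg.FusionSystem

/-- Let F be a saturated fusion system over a finite p-group S and F′ ≤ F a saturated subsystem over all of S that is invariant under F in the conjugation sense: for every map φ of F with source Q and every map ψ of F′ between subgroups R ≤ Q (with values in Q), the transported map φψφ⁻¹ defined on φ(R) is again a map of F′. If moreover Aut_{F′}(S) = Aut_F(S), then F′ = F. -/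
theorem result {Ω : Type*} [Group Ω] {S : Subgroup Ω} [Finite S] (p : ℕ) [Fact p.Prime] (hS : IsPGroup p S) (F : Cfsg.FusionSystem S) (hF : F.IsSaturated p) (F' : Cfsg.FusionSystem S) (hF' : F'.IsSaturated p) (hle : F' ≤ F) (hinv : ∀ (Q : Subgroup Ω) (φ : ↥Q →* Ω), φ ∈ F.Hom Q → ∀ (R : Subgroup Ω) (hRQ : R ≤ Q) (ψ : ↥R →* Ω), ψ ∈ F'.Hom R → ∀ (hψQ : ∀ x : R, ψ x ∈ Q), ∃ χ ∈ F'.Hom ((R.subgroupOf Q).map φ), ∀ (x : R) (hx : φ ⟨(x : Ω), hRQ x.2⟩ ∈ (R.subgroupOf Q).map φ), χ ⟨φ ⟨(x : Ω), hRQ x.2⟩, hx⟩ = φ ⟨ψ x, hψQ x⟩) (htop : F'.autGroup S = F.autGroup S) (P : Subgroup Ω) : F'.Hom P = F.Hom P := by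
  refine Set.Subset.antisymm (hle P) fun φ hφ => ?_
  refine mem_of_isMap (f := toFn φ) ?_ fun x => (toFn_coe φ x).symm
  refine FusionChain.alperin_induction hS hF (fun P f => IsMap F' P f)
    (fun _ _ _ _ h e => h.congr e) (fun _ _ _ _ hle h => h.mono hle)
    (fun _ _ _ _ _ _ hm h1 h2 => h1.comp h2 hm) (fun R hR _ _ α hα big => ?_) (isMap_toFn hφ)
  rcases eq_or_lt_of_le hR.1 with rfl | hlt
  · exact (mem_autGroup_iff le_rfl).1 (htop.symm ▸ hα)
  haveI := finite_mulAut (S := S) hR.1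
  have hA := (isFullyAutomized_iff.1 (fullyAutomized_of_fullyNormalized hS hF hR)).2
  have hTB : autInducedBy S R ≤ F'.autGroup R := autInducedBy_le_autGroup F' le_rfl hR.1
  have hBA : F'.autGroup R ≤ F.autGroup R := fun β hβ =>
    (mem_autGroup_iff hR.1).2 (isMap_of_le hle ((mem_autGroup_iff hR.1).1 hβ))
  have hnorm : ∀ β ∈ F'.autGroup R, α * β * α⁻¹ ∈ F'.autGroup R := by
    intro β hβ
    obtain ⟨φ, hφ, hφe⟩ := (mem_autGroup_iff hR.1).1 hα
    obtain ⟨ψ, hψ, hψe⟩ := (mem_autGroup_iff hR.1).1 hβ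
    have hψR : ∀ x : R, ψ x ∈ R := fun x => by
      rw [show ψ x = autFn β x from hψe x x.2]
      exact autFn_mem β x.2
    obtain ⟨χ, hχ, hχe⟩ := hinv R φ hφ R le_rfl ψ hψ hψR
    have hφ' : ∀ x : R, φ x = ((α x : R) : _) := fun x =>
      (hφe x x.2).trans (autFn_apply α x.2)
    have himg : (R.subgroupOf R).map φ = R := by
      ext y
      constructor
      · rintro ⟨x, -, rfl⟩
        rw [hφ']
        exact (α x).2
      · intro hy
        refine ⟨α⁻¹ ⟨y, hy⟩, Subgroup.mem_subgroupOf.2 (α⁻¹ ⟨y, hy⟩).2, ?_⟩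
        rw [hφ', MulAut.apply_inv_self]
    refine (mem_autGroup_iff hR.1).2 ?_
    have key : ∀ A : Subgroup Ω, A = (R.subgroupOf R).map φ → IsMap F' A (toFn χ) := by
      rintro A rfl
      exact isMap_toFn hχ
    refine (key R himg.symm).congr fun y hy => ?_
    set x : R := α⁻¹ ⟨y, hy⟩ with hx
    have hxy : φ x = y := by rw [hφ', hx, MulAut.apply_inv_self]
    have hm : φ x ∈ (R.subgroupOf R).map φ := ⟨x, Subgroup.mem_subgroupOf.2 x.2, rfl⟩
    have h := hχe x hm
    rw [autFn_apply (α * β * α⁻¹) hy]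
    show toFn χ y = ((α (β x) : R) : _)
    calc toFn χ y = toFn χ (φ x) := by rw [hxy]
      _ = φ ⟨ψ x, hψR x⟩ := (toFn_apply χ hm).trans h
      _ = _ := by
        rw [hφ']
        have e : (⟨ψ x, hψR x⟩ : R) = β x := Subtype.ext ((hψe x x.2).trans (autFn_apply β x.2))
        rw [e]
  have hsylB : IsSylowIn p (autInducedBy S R) (F'.autGroup R) :=
    ⟨hTB, hA.2.1, fun C h1 h2 h3 => hA.2.2 C h1 (h2.trans hBA) h3⟩
  obtain ⟨b, hb, hconj⟩ := hsylB.exists_conj_le
    (H := (autInducedBy S R).map (MulAut.conj α).toMonoidHom) (hA.isPGroup.map _) (by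
      rintro _ ⟨t, ht, rfl⟩
      exact hnorm t (hTB ht))
  have hba : b * α ∈ F.autGroup R := mul_mem (hBA hb) hα
  obtain ⟨g, hg, hge⟩ := FusionChain.exists_extension (receptive_of_fullyNormalized hS hF hR) hba
    (M := normalizerIn S R) le_rfl fun u hu => by
      have := hconj _ ⟨normConj S R ⟨u, hu⟩, (range_normConj S R).le ⟨_, rfl⟩, rfl⟩
      simpa [mul_assoc] using this
  have hbig : IsMap F' (R ⊔ normalizerIn S R) g := by
    refine big _ g hg ?_
    haveI := finite_of_le (S := S) hg.le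
    refine lt_of_lt_of_le ?_ (Subgroup.card_le_of_le (le_sup_right : normalizerIn S R ≤ _))
    haveI := finite_of_le (S := S) (P := normalizerIn S R) inf_le_left
    have hlt' := lt_normalizerIn hS le_rfl hlt
    exact lt_of_le_of_ne (Subgroup.card_le_of_le hlt'.le) fun e =>
      hlt'.ne (Subgroup.eq_of_le_of_card_ge hlt'.le e.ge)
  have h1 : b * α ∈ F'.autGroup R :=
    (mem_autGroup_iff hR.1).2 ((hbig.mono le_sup_left).congr hge)
  have h2 := mul_mem (inv_mem hb) h1
  rw [inv_mul_cancel_left] at h2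
  exact (mem_autGroup_iff hR.1).1 h2

end Cfsg.Agent.S5338
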