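import Cfsg.Statements.S5340
import Cfsg.Agent.S5339

set_option autoImplicit false
open Cfsg

namespace Cfsg.Agent.S5340

/-- Let F be a saturated fusion system over a nontrivial finite p-group S such that S is generated by its elements of order p, any two subgroups of S of order p are F-conjugate, and Aut_F(S) consists of inner automorphisms only. Then F is simple. -/
theorem result {Ω : Type*} [Group Ω] {S : Subgroup Ω} [Finite S] (p : ℕ) [Fact p.Prime] (hS : IsPGroup p S) (F : Cfsg.FusionSystem S) (hF : F.IsSaturated p) (hS1 : S ≠ ⊥) (hgen : Subgroup.closure {x : Ω | x ∈ S ∧ orderOf x = p} = S) (htr : ∀ A B : Subgroup Ω, A ≤ S → B ≤ S → Nat.card A = p → Nat.card B = p → F.IsConj A B) (htop : F.autGroup S = Cfsg.Inn ↥S) : F.IsSimple p := by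
  refine Cfsg.Agent.S5339.result p hS F hF hS1 htop fun T hT => ?_
  by_cases hT1 : T = ⊥
  · exact Or.inl hT1
  refine Or.inr (le_antisymm hT.1 ?_)
  have hpp : p.Prime := Fact.out
  haveI : Finite T := Finite.of_injective _ (Subgroup.inclusion_injective hT.1)
  have hTp : IsPGroup p T := hS.to_le hT.1
  haveI : Nontrivial T := (Subgroup.nontrivial_iff_ne_bot T).2 hT1
  have hdvd : p ∣ Nat.card T := by
    obtain ⟨n, hn0, hn⟩ := hTp.nontrivial_iff_card.1 inferInstance
    rw [hn]
    exact dvd_pow_self p hn0.ne'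
  obtain ⟨x, hx⟩ := exists_prime_orderOf_dvd_card' p hdvd
  have hxo : orderOf (x : Ω) = p := by rw [Subgroup.orderOf_coe]; exact hx
  rw [← hgen, Subgroup.closure_le]
  rintro y ⟨hyS, hy⟩
  obtain ⟨φ, hφ, hr⟩ := htr (Subgroup.zpowers (x : Ω)) (Subgroup.zpowers y)
    ((Subgroup.zpowers_le).2 (hT.1 x.2)) ((Subgroup.zpowers_le).2 hyS)
    (by rw [Nat.card_zpowers, hxo]) (by rw [Nat.card_zpowers, hy])
  have hy' : y ∈ φ.range := by rw [hr]; exact Subgroup.mem_zpowers y
  obtain ⟨z, hz⟩ := hy'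
  rw [← hz]
  exact hT.2 _ ((Subgroup.zpowers_le).2 x.2) φ hφ z

end Cfsg.Agent.S5340
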