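import Cfsg.Statements.S5341
import Cfsg.Agent.Lib.Fusion.Saturation

set_option autoImplicit false
open Cfsg

namespace Cfsg.Agent.S5341

open Cfsg.Agent.Fusion Cfsg.FusionSystem

/-- Let F be a saturated fusion system over a finite p-group S, T a subgroup strongly closed in F, and F′ any fusion system over T all of whose maps are maps of F. For a subgroup Q ≤ T: if Q is fully centralized in F then it is fully centralized in F′, and if Q is fully normalized in F then it is fully normalized in F′. -/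
theorem result {Ω : Type*} [Group Ω] {S : Subgroup Ω} [Finite S] (p : ℕ) [Fact p.Prime] (hS : IsPGroup p S) (F : Cfsg.FusionSystem S) (hF : F.IsSaturated p) (T : Subgroup Ω) (hT : F.StronglyClosed T) (F' : Cfsg.FusionSystem T) (hsub : F'.IsSubsystemOf F) (Q : Subgroup Ω) (hQT : Q ≤ T) : (F.IsFullyCentralized Q → F'.IsFullyCentralized Q) ∧ (F.IsFullyNormalized Q → F'.IsFullyNormalized Q) := by
  have hsub' : ∀ Q' : Subgroup Ω, F'.IsConj Q Q' → F.IsConj Q' Q ∧ Q' ≤ T := by
    intro Q' h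
    obtain ⟨f, hf⟩ := isConj_iff.1 h
    obtain ⟨φ, hφ, he⟩ := hf.1
    exact ⟨isConj_symm (isConj_iff.2 ⟨f, ⟨φ, hsub Q hφ, he⟩, hf.2⟩), hf.le_right⟩
  have hT' : ∀ (P : Subgroup Ω) (f : Ω → Ω), IsMap F P f → ∀ x ∈ P, x ∈ T → f x ∈ T := by
    intro P f hf x hx hxT
    obtain ⟨φ, hφ, he⟩ := hf.mono (Q := Subgroup.zpowers x) (Subgroup.zpowers_le.2 hx)
    have := hT.2 _ (Subgroup.zpowers_le.2 hxT) φ hφ ⟨x, Subgroup.mem_zpowers x⟩
    rwa [he x (Subgroup.mem_zpowers x)] at this
  haveI := finite_of_le (S := S) hT.1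
  constructor
  · intro hQ
    refine ⟨hQT, fun Q' h => ?_⟩
    obtain ⟨hconj, hQ'T⟩ := hsub' Q' h
    obtain ⟨f, hf⟩ := isConj_iff.1 hconj
    obtain ⟨f', hf', he⟩ :=
      (isReceptive_iff.1 (receptive_of_fullyCentralized hS hF hQ)).2 Q' f hf
    have himg : img f' Q' = Q := (img_congr he).trans hf.2
    have hle : centralizerIn T Q' ≤ centralizerIn S Q' := inf_le_inf_right _ hT.1
    have hleN := hle.trans (centralizerIn_le_Nx S Q' f)
    rw [← hf'.card_img hleN]
    haveI := finite_of_le (S := S) (P := centralizerIn T Q) (inf_le_left.trans hT.1)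
    refine Subgroup.card_le_of_le (hf'.img_le hleN fun g hg => ⟨hT' _ f' hf' g (hleN hg) hg.1, ?_⟩)
    exact (map_centralizerIn hf' (le_Nx hf.1) himg (hleN hg) (hle hg)).2
  · intro hQ
    refine ⟨hQT, fun Q' h => ?_⟩
    obtain ⟨hconj, hQ'T⟩ := hsub' Q' h
    obtain ⟨f, hf, himg, hfN⟩ := exists_normalizer_map hS
      (fullyAutomized_of_fullyNormalized hS hF hQ) (receptive_of_fullyNormalized hS hF hQ) hconj
    have hle : normalizerIn T Q' ≤ normalizerIn S Q' := inf_le_inf_right _ hT.1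
    rw [← hf.card_img hle]
    haveI := finite_of_le (S := S) (P := normalizerIn T Q) (inf_le_left.trans hT.1)
    exact Subgroup.card_le_of_le (hf.img_le hle fun g hg => ⟨hT' _ f hf g (hle hg) hg.1, (hfN g (hle hg)).2⟩)

end Cfsg.Agent.S5341
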