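import Cfsg.Statements.S5342
import Cfsg.Agent.Lib.Fusion.Normal
import Cfsg.Agent.Lib.Fusion.Centric
import Cfsg.Agent.Lib.FusionNormal.Basic

set_option autoImplicit false
open Cfsg

namespace Cfsg.Agent.S5342

section Helpers

open Cfsg.FusionSystem hiding inv_mem
open Cfsg.Agent.Fusion

variable {Ω : Type*} [Group Ω] {S : Subgroup Ω} [Finite S] {p : ℕ} [Fact p.Prime]
  {F : Cfsg.FusionSystem S}

/-- The centraliser in a strongly closed `T` of the trace on `T` of a normal centric subgroup can be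
added to that subgroup. -/
theorem isNormal_sup_centralizer (hS : IsPGroup p S) (hF : F.IsSaturated p) {Q T : Subgroup Ω}
    (hQ : F.IsNormal Q) (hc : F.IsCentric Q) (hT : F.StronglyClosed T) :
    F.IsNormal (Q ⊔ centralizerIn T (Q ⊓ T)) := by
  set C := centralizerIn T (Q ⊓ T)
  have hQs := Fusion.stronglyClosed_of_normal hQ
  have hSQ := normalizes_of_stronglyClosed hQs
  have hCS : C ≤ S := inf_le_left.trans hT.1
  have := finite_of_le hQ.1
  have hQinv := (stronglyClosed_iff.1 hQs).2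
  have hTinv := (stronglyClosed_iff.1 hT).2
  have hconjQ : ∀ R, F.IsConj Q R → R = Q := by
    intro R hR
    obtain ⟨f, hf⟩ := Fusion.isConj_iff.1 hR
    rw [← hf.2]
    exact eq_of_le_of_card hQ.1
      (hf.1.img_le le_rfl fun x hx => hQinv Q f hf.1 x hx hx) (hf.1.card_img le_rfl).ge
  have hQn : F.IsFullyNormalized Q := ⟨hQ.1, fun R hR => by rw [hconjQ R hR]⟩
  have hA := fullyAutomized_of_fullyNormalized hS hF hQn
  have hr := receptive_of_fullyNormalized hS hF hQn
  refine FusionChain.isNormal_iff.2 ⟨sup_le hQ.1 hCS, fun P f hf => ?_⟩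
  obtain ⟨g, hg, hgf, hgQ⟩ := (FusionChain.isNormal_iff.1 hQ).2 P f hf
  have hD : P ⊔ Q ≤ S := hg.le
  have hgi : IsIso F Q Q g := ⟨hg.mono le_sup_right, eq_of_le_of_card hQ.1
    ((hg.mono le_sup_right).img_le le_rfl hgQ) (hg.card_img le_sup_right).ge⟩
  obtain ⟨α, hα, hαe⟩ := exists_aut_of_isIso hgi
  have hDN : P ⊔ Q ≤ Nx S Q g := by
    intro x hx
    have hxN : x ∈ normalizerIn S Q := ⟨hD hx, hSQ (hD hx)⟩
    exact mem_Nx.2 ⟨hxN, g x, hg.mem hx, fun q hq => hg.map_conj hx (Subgroup.mem_sup_right hq)⟩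
  -- `C` induces `p`-automorphisms of `Q` in `O_p` of its automizer
  have hCp : ∀ c ∈ C, ∀ hcN : c ∈ normalizerIn S Q,
      normConj S Q ⟨c, hcN⟩ ∈ FusionChain.pCoreAut F p Q := by
    intro c hc hcN
    refine FusionChain.mem_pCoreAut_of_chain hS hQ.1 2
      (fun i => if i = 0 then ⊥ else if i = 1 then (Q ⊓ T).subgroupOf Q else ⊤) (by simp) (by simp)
      ?_ ?_ (autInducedBy_le_autGroup F le_rfl hQ.1 ((range_normConj S Q).le ⟨_, rfl⟩)) ?_
    · intro i hi
      interval_cases i <;> simp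
    · intro a ha i hi x hx
      interval_cases i
      · simp_all
      · simp only [one_ne_zero, if_false, if_true] at hx ⊢
        refine Subgroup.mem_subgroupOf.2 ⟨(a x).2, ?_⟩
        rw [← autFn_apply a x.2]
        exact autFn_mem_of_stronglyClosed hT hQ.1 ha x.2 (Subgroup.mem_subgroupOf.1 hx).2
      · simp
    · intro i hi x hx
      interval_cases i
      · simp only [zero_add, one_ne_zero, if_false, if_true] at hx ⊢
        rw [Subgroup.mem_bot, inv_mul_eq_one]
        refine Subtype.ext ?_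
        rw [normConj_apply]
        exact (centralizerIn_conj hc (Subgroup.mem_subgroupOf.1 hx)).symm
      · simp only [one_ne_zero, if_false, if_true] at hx ⊢
        refine Subgroup.mem_subgroupOf.2 ⟨(x⁻¹ * normConj S Q ⟨c, hcN⟩ x).2, ?_⟩
        show (x : Ω)⁻¹ * ((normConj S Q ⟨c, hcN⟩ x : Q) : Ω) ∈ T
        rw [normConj_apply]
        have h1 := conj_mem_of_stronglyClosed hT (S.inv_mem (hQ.1 x.2)) hc.1
        rw [inv_inv] at h1
        have h2 := T.mul_mem h1 (T.inv_mem hc.1)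
        simpa [mul_assoc] using h2
  have hCN : C ≤ Nx S Q g := by
    intro c hc
    have hcN : c ∈ normalizerIn S Q := ⟨hCS hc, hSQ (hCS hc)⟩
    obtain ⟨s, hs, hse⟩ := mem_autInducedBy_iff.1
      (FusionChain.pCoreAut_le_autInducedBy hA (FusionChain.conj_mem_pCoreAut hα (hCp c hc hcN)))
    refine mem_Nx.2 ⟨hcN, s, hs, fun q hq => ?_⟩
    have h1 := hse (α ⟨q, hq⟩)
    rw [MulAut.mul_apply, MulAut.mul_apply, MulAut.inv_apply_self, hαe, hαe, normConj_apply] at h1
    exact h1
  obtain ⟨-, hext⟩ := isReceptive_iff.1 hr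
  obtain ⟨h, hh, hhg⟩ := hext Q g hgi
  obtain ⟨z, hz, hzQ, hzx⟩ := exists_center_of_eqOn hS hF le_sup_right (hD.trans hSQ) hc
    (hh.mono hDN) hg fun q hq => hhg q hq
  set M := P ⊔ (Q ⊔ C) with hM
  have hQM : Q ≤ M := le_sup_left.trans le_sup_right
  have hCM : C ≤ M := le_sup_right.trans le_sup_right
  have hUM : Q ⊓ T ≤ M := inf_le_left.trans hQM
  have hMN : M ≤ Nx S Q g :=
    sup_le (le_sup_left.trans hDN) (sup_le (le_sup_right.trans hDN) hCN)
  have hzM : z ∈ M := hQM hzQ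
  have hMS : M ≤ S := sup_le hf.le (sup_le hQ.1 hCS)
  have hk : IsMap F M (fun x => h (z * x * z⁻¹)) :=
    (IsMap.conj hMS hz.1).comp (hh.mono hMN) fun x hx =>
      mul_mem (mul_mem hzM hx) (inv_mem hzM)
  refine ⟨fun x => h (z * x * z⁻¹), hk, fun x hx => ?_, fun q hq => ?_⟩
  · show h (z * x * z⁻¹) = f x
    rw [← hzx x (Subgroup.mem_sup_left hx), hgf x hx]
  · set k := fun x => h (z * x * z⁻¹)
    have himg : img k (Q ⊓ T) = Q ⊓ T :=
      eq_of_le_of_card (inf_le_left.trans hQ.1) (hk.img_le hUM fun t ht =>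
        ⟨hQinv M _ hk t (hUM ht) ht.1, hTinv M _ hk t (hUM ht) ht.2⟩) (hk.card_img hUM).ge
    obtain ⟨φ, hφ, he⟩ := id hk
    have hle : Q ⊔ C ≤ ((Q ⊔ C).comap φ).map M.subtype := by
      refine sup_le (fun u hu => ?_) fun u hu => ?_
      · refine ⟨⟨u, hQM hu⟩, Subgroup.mem_comap.2 ?_, rfl⟩
        rw [he]
        exact Subgroup.mem_sup_left (hQinv M _ hk u (hQM hu) hu)
      · refine ⟨⟨u, hCM hu⟩, Subgroup.mem_comap.2 ?_, rfl⟩
        rw [he]
        refine Subgroup.mem_sup_right ⟨hTinv M _ hk u (hCM hu) hu.1,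
          Subgroup.mem_centralizer_iff.2 fun w hw => ?_⟩
        obtain ⟨t, ht, hte⟩ := (hk.mem_img_iff hUM).1 (himg.ge hw)
        rw [← hte, ← hk.map_mul (hUM ht) (hCM hu), ← hk.map_mul (hCM hu) (hUM ht),
          Subgroup.mem_centralizer_iff.1 hu.2 t ht]
    obtain ⟨⟨u, hu⟩, hu', rfl⟩ := hle hq
    show k u ∈ Q ⊔ C
    rw [← he u hu]
    exact Subgroup.mem_comap.1 hu'

/-- A normal subsystem of a constrained system is constrained. -/
theorem isConstrained_of_isNormalIn (hS : IsPGroup p S) (hF : F.IsConstrained p) {T : Subgroup Ω}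
    {E : Cfsg.FusionSystem T} (hE : E.IsNormalIn F p) : E.IsConstrained p := by
  obtain ⟨hFs, Q₀, hQ₀, hQ₀c⟩ := hF
  obtain ⟨⟨hEs, -, hinv⟩, -⟩ := hE
  have hT : F.StronglyClosed T := hinv.2.1
  have hTS : T ≤ S := hT.1
  have := finite_of_le hTS
  have hTp : IsPGroup p T := hS.to_le hTS
  set Q := Q₀ ⊔ centralizerIn T (Q₀ ⊓ T)
  have hQ : F.IsNormal Q := isNormal_sup_centralizer hS hFs hQ₀ hQ₀c hT
  have hQs := Fusion.stronglyClosed_of_normal hQ
  set U := Q ⊓ T with hU
  have hUT : U ≤ T := inf_le_right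
  have hcentral : centralizerIn T U ≤ U := fun c hc => by
    refine ⟨Subgroup.mem_sup_right ⟨hc.1, ?_⟩, hc.1⟩
    exact Subgroup.centralizer_le (SetLike.coe_subset_coe.2
      (inf_le_inf_right T le_sup_left : Q₀ ⊓ T ≤ U)) hc.2
  have hUs : E.StronglyClosed U := by
    refine stronglyClosed_iff.2 ⟨hUT, fun P f hf x hxP hx => ?_⟩
    exact ⟨(stronglyClosed_iff.1 hQs).2 P f (FusionNormal.isMap_of_sub hinv.1 hf) x hxP hx.1,
      hf.mem hxP⟩
  have hUn : E.IsNormal U := by
    refine isNormal_of_stronglyClosed_le hTp hEs hUs fun R _ hRc hRr => ?_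
    have hRT : R ≤ T := hRc.1
    refine le_of_normalizer_inf_le hTp hRT hUT (hRT.trans (normalizes_of_stronglyClosed hUs))
      fun q hq hqN => ?_
    have hle : autInducedBy U R ≤ FusionChain.pCoreAut E p R := by
      refine FusionChain.le_pCoreAut ((isPGroup_autInducedBy hTp).to_le
        (autInducedBy_le_of_le hUT)) (autInducedBy_le_autGroup E hUT hRT) fun α hα k hk => ?_
      obtain ⟨g, hg, e⟩ := mem_autInducedBy_iff.1 hk
      have hαF : α ∈ F.autGroup R := FusionNormal.autGroup_le_of_sub hinv.1 hRT hα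
      obtain ⟨f, hf, hfα, hfQ⟩ :=
        (FusionChain.isNormal_iff.1 hQ).2 R _ (isIso_autFn (hRT.trans hTS) hαF).1
      refine mem_autInducedBy_iff.2 ⟨f g, ⟨hfQ g hg.1,
        (stronglyClosed_iff.1 hT).2 _ f hf g (Subgroup.mem_sup_right hg.1) hg.2⟩, fun y => ?_⟩
      obtain ⟨x, rfl⟩ := α.surjective y
      rw [MulAut.mul_apply, MulAut.mul_apply, MulAut.inv_apply_self, ← autFn_apply α x.2,
        ← hfα x x.2, ← hf.map_conj (Subgroup.mem_sup_right hg.1) (Subgroup.mem_sup_left x.2), ← e x,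
        hfα _ (k x).2, autFn_apply α (k x).2]
    exact FusionChain.mem_of_mem_pCoreAut hRc hRr hqN.1
      (hle (mem_autInducedBy_iff.2 ⟨q, hq, fun x => rfl⟩ :
        normConj T R ⟨q, hqN⟩ ∈ autInducedBy U R)) fun x => rfl
  refine ⟨hEs, U, hUn, hUT, fun R hR => ?_⟩
  obtain ⟨f, hf⟩ := Fusion.isConj_iff.1 hR
  have hRU : R = U := by
    rw [← hf.2]
    exact eq_of_le_of_card hUT
      (hf.1.img_le le_rfl fun x hx => (stronglyClosed_iff.1 hUs).2 U f hf.1 x hx hx)
      (hf.1.card_img le_rfl).ge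
  rw [hRU]
  exact hcentral

/-- Constrained systems have constrained subnormal subsystems. -/
theorem isConstrained_of_isSubnormalIn {Ω : Type*} [Group Ω] {T : Subgroup Ω}
    {E : Cfsg.FusionSystem T} {S : Subgroup Ω} {F : Cfsg.FusionSystem S} {p : ℕ}
    (hE : E.IsSubnormalIn F p) :
    Finite S → Fact p.Prime → IsPGroup p S → F.IsConstrained p → E.IsConstrained p := by
  induction hE with
  | refl => exact fun _ _ _ hF => hF
  | step hsub hn ih =>
    intro hfin hp hS hF
    have hle := hn.1.2.2.2.1.1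
    exact ih (finite_of_le hle) hp (hS.to_le hle) (isConstrained_of_isNormalIn hS hF hn)

end Helpers

/-- Let F be a constrained saturated fusion system over a finite p-group S. Then every subsystem of F that is subnormal in F (reached from F by a finite chain of successive normal subsystems) is constrained. -/
theorem result {Ω : Type*} [Group Ω] {S : Subgroup Ω} [Finite S] (p : ℕ) [Fact p.Prime] (hS : IsPGroup p S) (F : Cfsg.FusionSystem S) (hF : F.IsConstrained p) {T : Subgroup Ω} (E : Cfsg.FusionSystem T) (hE : E.IsSubnormalIn F p) : E.IsConstrained p := by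
  exact isConstrained_of_isSubnormalIn hE ‹_› ‹_› hS hF

end Cfsg.Agent.S5342
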