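import Cfsg.Statements.S5343
import Cfsg.Agent.S5336
import Cfsg.Agent.Lib.FusionIso.Simple
import Cfsg.Agent.Lib.FusionIso.Realize
import Cfsg.Agent.Lib.Cores.Basic
import Cfsg.Agent.EqLemmas

set_option autoImplicit false
universe u
open Cfsg

namespace Cfsg.Agent.S5343

/-- Let F be a simple saturated fusion system over a finite p-group S that is realized by some finite group on a Sylow p-subgroup. Then F is realized by a finite simple group on a Sylow p-subgroup. -/
theorem result {Ω : Type u} [Group Ω] {S : Subgroup Ω} [Finite S] (p : ℕ) [Fact p.Prime] (hS : IsPGroup p S) (F : Cfsg.FusionSystem S) (hsimple : F.IsSimple p) (hreal : F.IsRealizable p) : ∃ (G : Type u) (_ : Group G) (_ : Finite G) (_ : IsSimpleGroup G) (ι : ↥S →* G), F.IsRealizedBy ι ∧ ∃ T : Sylow p G, (T : Subgroup G) = ι.range := by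
  have hex : ∃ n, ∃ (G : Type u) (_ : Group G) (_ : Finite G) (ι : ↥S →* G),
      (F.IsRealizedBy ι ∧ ∃ T : Sylow p G, (T : Subgroup G) = ι.range) ∧ Nat.card G = n := by
    obtain ⟨G, hG, hfin, ι, h⟩ := hreal
    exact ⟨_, G, hG, hfin, ι, h, rfl⟩
  classical
  obtain ⟨G, hG, hfin, ι, ⟨hι, T, hT⟩, hcard⟩ := Nat.find_spec hex
  have hmin : ∀ (G' : Type u) [Group G'] [Finite G'] (ι' : ↥S →* G'), F.IsRealizedBy ι' →
      (∃ T' : Sylow p G', (T' : Subgroup G') = ι'.range) → Nat.card G ≤ Nat.card G' := by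
    intro G' i1 i2 ι' h1 h2
    rw [hcard]
    exact Nat.find_min' hex ⟨G', i1, i2, ι', ⟨h1, h2⟩, rfl⟩
  refine ⟨G, hG, hfin, ?_, ι, hι, T, hT⟩
  refine Cfsg.Agent.S5336.result p T ?_ ?_ fun H hTH hH => ?_
  · rw [hT]
    exact (FusionIso.ofRealized hι).isSimple hsimple
  · by_contra hK1
    set K := Cfsg.pPrimeCore p G
    have hK : (Nat.card K).Coprime p := Cores.coprime_card_pPrimeCore p
    have h1 := hmin (G ⧸ K) _ (FusionIso.isRealizedBy_quotient hS hι hK)
      ⟨T.mapSurjective (QuotientGroup.mk'_surjective K), by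
        rw [Sylow.coe_mapSurjective, hT, MonoidHom.range_comp]⟩
    rw [Subgroup.card_eq_card_quotient_mul_card_subgroup K] at h1
    have h2 : 1 < Nat.card K := lt_of_le_of_ne Nat.card_pos fun e =>
      hK1 (Subgroup.eq_bot_of_card_eq K e.symm)
    have h3 : 0 < Nat.card (G ⧸ K) := Nat.card_pos
    nlinarith
  · by_contra hne
    push Not at hne
    have hle : ι.range ≤ H := hT ▸ hTH
    have key : ∀ (R : Subgroup G) (h : R ≤ H), R = (T : Subgroup G) → ∀ P : Subgroup G,
        (Cfsg.fusionSystemOfSubgroup H R h).Hom P = (Cfsg.groupFusionSystem R).Hom P := by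
      rintro _ h rfl P
      exact hne P
    have hrange : (ι.codRestrict H fun x => hle ⟨x, rfl⟩).range = ι.range.subgroupOf H := by
      ext y
      constructor
      · rintro ⟨x, rfl⟩
        exact ⟨x, rfl⟩
      · rintro ⟨x, hx⟩
        exact ⟨x, Subtype.ext hx⟩
    have h1 := hmin H _ (FusionIso.isRealizedBy_codRestrict hι hle (key _ hle hT.symm))
      ⟨T.subtype hTH, by rw [hrange, ← hT]; rfl⟩
    exact hH (Subgroup.eq_top_of_le_card H h1)

end Cfsg.Agent.S5343
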