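import Cfsg.Statements.S5344
import Cfsg.Agent.EqLemmas
import Cfsg.Agent.Lib.ThreeTrans.Basic
import Cfsg.Agent.Lib.ThreeTrans.SymmPresentation

set_option autoImplicit false
open Cfsg

namespace Cfsg.Agent.S5344

/-- In a set of 3-transpositions, let a, b, c be members with a and c different and commuting, while neither a nor c commutes with b (a 3-string). Then there is an injective homomorphism from the symmetric group of degree 4 into the ambient group sending the transpositions (0 1), (1 2), (2 3) to a, b, c; so a, b, c generate a copy of the symmetric group of degree 4 in which they are transpositions. -/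
theorem result {G : Type*} [Group G] {D : Set G} (hD : Cfsg.IsThreeTranspositionSet D) {a b c : G} (ha : a ∈ D) (hb : b ∈ D) (hc : c ∈ D) (hac : a ≠ c) (hac' : Commute a c) (hab : ¬ Commute a b) (hbc : ¬ Commute b c) : ∃ φ : Equiv.Perm (Fin 4) →* G, Function.Injective φ ∧ φ (Equiv.swap 0 1) = a ∧ φ (Equiv.swap 1 2) = b ∧ φ (Equiv.swap 2 3) = c := by
  let t : ℕ → G := fun i => if i = 0 then a else if i = 1 then b else c
  have hbr : ThreeTrans.BraidA t 3 := by
    refine ⟨fun i hi => ?_, fun i hi => ?_, fun i j h1 h2 => ?_⟩
    · interval_cases i <;>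
        simp [t, ThreeTrans.mul_self hD ha, ThreeTrans.mul_self hD hb, ThreeTrans.mul_self hD hc]
    · have hi' : i < 2 := by omega
      interval_cases i
      · simpa [t] using ThreeTrans.braid hD ha hb hab
      · simpa [t] using ThreeTrans.braid hD hb hc hbc
    · obtain rfl : i = 0 := by omega
      obtain rfl : j = 2 := by omega
      simpa [t] using hac'
  obtain ⟨φ, hφ⟩ := ThreeTrans.exists_hom_perm hbr
  have h0 : φ (Equiv.swap 0 1) = a := hφ 0
  have h1 : φ (Equiv.swap 1 2) = b := hφ 1
  have h2 : φ (Equiv.swap 2 3) = c := hφ 2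
  refine ⟨φ, ThreeTrans.injective_perm_four ?_, h0, h1, h2⟩
  rw [map_mul, h0, h2]
  intro h
  apply hac
  rw [eq_inv_of_mul_eq_one_left h, ThreeTrans.inv_eq hD hc]

end Cfsg.Agent.S5344
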