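import Cfsg.Statements.S5345
import Cfsg.Agent.EqLemmas
import Cfsg.Agent.Lib.ThreeTrans.Basic

set_option autoImplicit false
open Cfsg

namespace Cfsg.Agent.S5345

/-- Let D be a conjugation-invariant generating set of 3-transpositions of a finite group G and T a Sylow 2-subgroup of G. Then the members of D lying in T generate an abelian subgroup, and their number is the width of D (the largest number of pairwise commuting members of D). -/
theorem result {G : Type*} [Group G] [Finite G] {D : Set G} (hD : Cfsg.IsThreeTranspositionGroup D) (T : Sylow 2 G) : IsMulCommutative (Subgroup.closure {d : G | d ∈ D ∧ d ∈ T}) ∧ {d : G | d ∈ D ∧ d ∈ T}.ncard = Cfsg.commutingWidth D := by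
  have : Fact (Nat.Prime 2) := ⟨Nat.prime_two⟩
  obtain ⟨hset, hconj, -⟩ := hD
  have hcomm : ∀ a ∈ {d : G | d ∈ D ∧ d ∈ T}, ∀ b ∈ {d : G | d ∈ D ∧ d ∈ T}, Commute a b := by
    rintro a ⟨ha, haT⟩ b ⟨hb, hbT⟩
    rw [ThreeTrans.commute_iff_sq hset ha hb]
    rcases hset.2 a ha b hb with h | h
    · exact h
    · obtain ⟨k, hk⟩ := T.isPGroup' ⟨a * b, mul_mem haT hbT⟩
      have hk' : (a * b) ^ (2 ^ k) = 1 := congrArg Subtype.val hk
      have h1 : (a * b) ^ Nat.gcd (2 ^ k) 3 = 1 := pow_gcd_eq_one.2 ⟨hk', h⟩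
      rw [show Nat.gcd (2 ^ k) 3 = 1 from Nat.Coprime.pow_left k (by norm_num), pow_one] at h1
      rw [h1, one_pow]
  refine ⟨Subgroup.isMulCommutative_closure hcomm, le_antisymm
    (ThreeTrans.ncard_le_commutingWidth (fun x hx => hx.1) hcomm) ?_⟩
  obtain ⟨E, hED, hEc, hEn⟩ := ThreeTrans.exists_commutingWidth D
  rw [← hEn]
  have hcl : IsPGroup 2 (Subgroup.closure E) := by
    have := Subgroup.isMulCommutative_closure hEc
    intro x
    obtain ⟨x, hx⟩ := x
    refine ⟨1, Subtype.ext ?_⟩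
    show x ^ (2 ^ 1) = 1
    induction hx using Subgroup.closure_induction with
    | mem y hy => rw [pow_one, pow_two]; exact ThreeTrans.mul_self hset (hED hy)
    | one => simp
    | mul y z hy hz h1 h2 =>
      rw [(show Commute y z from congrArg Subtype.val
        (mul_comm' (⟨y, hy⟩ : Subgroup.closure E) ⟨z, hz⟩)).mul_pow, h1, h2, one_mul]
    | inv y hy h1 => rw [inv_pow, h1, inv_one]
  obtain ⟨S, hS⟩ := hcl.exists_le_sylow
  obtain ⟨g, hg⟩ := MulAction.exists_smul_eq G T S
  have hsub : E ⊆ (fun x => g * x * g⁻¹) '' {d : G | d ∈ D ∧ d ∈ T} := by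
    intro x hx
    have hxS : x ∈ (S : Subgroup G) := hS (Subgroup.subset_closure hx)
    rw [← hg, Sylow.coe_subgroup_smul, Subgroup.mem_pointwise_smul_iff_inv_smul_mem] at hxS
    refine ⟨g⁻¹ * x * g, ⟨?_, ?_⟩, by group⟩
    · simpa using hconj g⁻¹ x (hED hx)
    · show g⁻¹ * x * g ∈ (T : Subgroup G)
      simpa [MulAut.smul_def] using hxS
  exact (Set.ncard_le_ncard hsub).trans (Set.ncard_image_le (Set.toFinite _))

end Cfsg.Agent.S5345
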