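import Cfsg.Statements.S5346
import Cfsg.Agent.EqLemmas
import Cfsg.Agent.Lib.ThreeTrans.Basic
import Cfsg.Agent.Lib.ThreeTrans.WidthOne

set_option autoImplicit false
open Cfsg

namespace Cfsg.Agent.S5346

/-- Let D be a conjugation-invariant generating set of 3-transpositions of a finite group G and d a member of D. Then D has width 1 (no two different members of D commute) if and only if G is the product of the subgroup generated by d with the largest normal 3-subgroup of G. -/
theorem result {G : Type*} [Group G] [Finite G] {D : Set G} (hD : Cfsg.IsThreeTranspositionGroup D) {d : G} (hd : d ∈ D) : Cfsg.commutingWidth D = 1 ↔ Subgroup.zpowers d ⊔ Cfsg.pCore 3 G = ⊤ := by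
  have : Fact (Nat.Prime 3) := ⟨Nat.prime_three⟩
  obtain ⟨hset, hconj, hgen⟩ := hD
  constructor
  · intro hw
    have hcube : ThreeTrans.CubeSet D := ⟨hset.1, hconj, fun u hu v hv => by
      by_cases huv : u = v
      · rw [huv, ThreeTrans.mul_self hset hv, one_pow]
      refine ThreeTrans.pow_three_of_not_commute hset hu hv fun hc => ?_
      have h2 := ThreeTrans.ncard_le_commutingWidth (D := D) (E := {u, v})
        (by rintro x (rfl | rfl) <;> assumption)
        (by rintro x (rfl | rfl) y (rfl | rfl) <;> first | exact Commute.refl _ | exact hc | exact hc.symm)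
      rw [Set.ncard_pair huv, hw] at h2
      omega⟩
    rw [eq_top_iff, ← hgen, Subgroup.closure_le]
    intro e he
    have e1 : e = d * (d * e) := by rw [← mul_assoc, ThreeTrans.mul_self hset hd, one_mul]
    rw [e1]
    exact Subgroup.mul_mem_sup (Subgroup.mem_zpowers d) (hcube.mul_mem_pCore_three hd he)
  · intro htop
    have hp : IsPGroup 3 (pCore 3 G) := Cores.isPGroup_pCore 3 G
    have small : ∀ x : G, x * x = 1 → x ∈ pCore 3 G → x = 1 := by
      intro x hx hmem
      obtain ⟨n, hn⟩ := hp ⟨x, hmem⟩
      have hn' : x ^ 3 ^ n = 1 := congrArg Subtype.val hn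
      have h1 : x ^ Nat.gcd (3 ^ n) 2 = 1 := pow_gcd_eq_one.2 ⟨hn', by rw [pow_two, hx]⟩
      rwa [show Nat.gcd (3 ^ n) 2 = 1 from Nat.Coprime.pow_left n (by norm_num), pow_one] at h1
    have hdd : d * d = 1 := ThreeTrans.mul_self hset hd
    have hcoset : ∀ e ∈ D, d * e ∈ pCore 3 G := by
      intro e he
      have hnorm : (pCore 3 G).Normal := inferInstance
      have hmem : e ∈ Subgroup.zpowers d ⊔ pCore 3 G := by rw [htop]; exact Subgroup.mem_top e
      obtain ⟨z, hz, k, hk, hzk⟩ := Subgroup.mem_sup_of_normal_right.1 hmem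
      obtain ⟨n, rfl⟩ := hz
      have h2 : d ^ n = 1 ∨ d ^ n = d := by
        rw [← zpow_mod_orderOf, hset.1 d hd]
        rcases Int.emod_two_eq n with h | h
        · left; simp [h]
        · right; simp [h]
      rcases h2 with h2 | h2
      · exfalso
        apply ThreeTrans.ne_one hset he
        refine small e (ThreeTrans.mul_self hset he) ?_
        rw [← hzk]
        simpa [h2] using hk
      · rw [← hzk]
        have : d * (d ^ n * k) = k := by rw [h2, ← mul_assoc, hdd, one_mul]
        simpa [this] using hk
    refine le_antisymm ?_ ?_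
    · obtain ⟨E, hED, hEc, hEn⟩ := ThreeTrans.exists_commutingWidth D
      rw [← hEn, Set.ncard_le_one_iff]
      intro a b ha hb
      have h1 : a * b ∈ pCore 3 G := by
        have e1 : a * b = (d * a)⁻¹ * (d * b) := by
          rw [mul_inv_rev, ThreeTrans.inv_eq hset hd, ThreeTrans.inv_eq hset (hED ha), mul_assoc,
            ← mul_assoc d d, hdd, one_mul]
        rw [e1]
        exact mul_mem (inv_mem (hcoset a (hED ha))) (hcoset b (hED hb))
      have h2 := small _ (by
        have := (ThreeTrans.commute_iff_sq hset (hED ha) (hED hb)).1 (hEc a ha b hb)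
        rwa [pow_two] at this) h1
      rw [eq_inv_of_mul_eq_one_left h2, ThreeTrans.inv_eq hset (hED hb)]
    · calc 1 = ({d} : Set G).ncard := (Set.ncard_singleton d).symm
        _ ≤ _ := ThreeTrans.ncard_le_commutingWidth (by simpa using hd)
          (by rintro a rfl b rfl; exact Commute.refl _)

end Cfsg.Agent.S5346
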