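import Cfsg.Statements.S5350
import Cfsg.Agent.EqLemmas
import Cfsg.Agent.Lib.ThreeTrans.Classes

set_option autoImplicit false
open Cfsg

namespace Cfsg.Agent.S5350

/-- Let D be a conjugacy class of 3-transpositions generating the finite group G, with at least two members, and d a member of D. Then the set of members w of D whose commuting partners in D (other than w) are exactly those of d (other than d) coincides with the set of members of D lying in the coset of d modulo the largest normal 3-subgroup of G, and also with the orbit of d under conjugation by that normal 3-subgroup. -/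
theorem result {G : Type*} [Group G] [Finite G] {D : Set G} (hD : Cfsg.IsThreeTranspositionClass D) (hD2 : ∃ a ∈ D, ∃ b ∈ D, a ≠ b) {d : G} (hd : d ∈ D) : {w : G | w ∈ D ∧ {y : G | y ∈ D ∧ y ≠ d ∧ Commute d y} = {y : G | y ∈ D ∧ y ≠ w ∧ Commute w y}} = {w : G | w ∈ D ∧ d⁻¹ * w ∈ Cfsg.pCore 3 G} ∧ {w : G | w ∈ D ∧ {y : G | y ∈ D ∧ y ≠ d ∧ Commute d y} = {y : G | y ∈ D ∧ y ≠ w ∧ Commute w y}} = {w : G | ∃ g ∈ Cfsg.pCore 3 G, w = g * d * g⁻¹} := by
  have hg := ThreeTrans.group_of_class hD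
  have _h2 := hD2
  have key : ∀ v, (∃ g ∈ pCore 3 G, v = g * d * g⁻¹) → v ∈ D ∧ d⁻¹ * v ∈ pCore 3 G := by
    rintro v ⟨g, hgm, rfl⟩
    exact ⟨hg.2.1 g d hd, ThreeTrans.inv_mul_conj_mem hgm⟩
  constructor <;> ext v
  · exact ⟨fun ⟨hv, h⟩ => ⟨hv, by
        rw [ThreeTrans.inv_eq hg.1 hd]
        exact ThreeTrans.mul_mem_pCore_three_of_adj_eq hg.1 hg.2.1 hd hv h⟩,
      fun ⟨hv, h⟩ => ⟨hv, ThreeTrans.adj_eq_of_mem_pCore_three hg.1 hd hv h⟩⟩
  · exact ⟨fun ⟨hv, h⟩ => ThreeTrans.exists_conj_of_adj_eq hg.1 hg.2.1 hd hv h,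
      fun h => ⟨(key v h).1, ThreeTrans.adj_eq_of_mem_pCore_three hg.1 hd (key v h).1 (key v h).2⟩⟩

end Cfsg.Agent.S5350
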