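import Cfsg.Statements.S5354
import Cfsg.Agent.Lib.ThreeTrans.Structure

set_option autoImplicit false
open Cfsg

namespace Cfsg.Agent.S5354

/-- Let D be a conjugation-invariant generating set of 3-transpositions of the finite group G on which G acts primitively by conjugation, and suppose two different members of D commute (width at least 2). Then G has a quasisimple normal subgroup L of index at most 2 with the generalized Fitting subgroup of G equal to L times the centre, the commuting graph of D is connected, and for d in D the subgroup generated by the members of D commuting with d is a maximal D-subgroup: it is proper, and every subgroup generated by members of D that contains it is either it or G. -/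
theorem result {G : Type*} [Group G] [Finite G] {D : Set G} (hD : Cfsg.IsThreeTranspositionGroup D) (hprim : Cfsg.IsPrimitiveUnderConj D) (hw : ∃ a ∈ D, ∃ b ∈ D, a ≠ b ∧ Commute a b) : (∃ L : Subgroup G, L.Normal ∧ Cfsg.IsQuasisimple L ∧ L.index ≤ 2 ∧ Cfsg.generalizedFittingSubgroup G = L ⊔ Subgroup.center G) ∧ (Cfsg.commutingGraph D).Connected ∧ ∀ d ∈ D, Subgroup.closure {y : G | y ∈ D ∧ Commute d y} ≠ ⊤ ∧ ∀ H : Subgroup G, Cfsg.IsDSubgroup D H → Subgroup.closure {y : G | y ∈ D ∧ Commute d y} ≤ H → H = Subgroup.closure {y : G | y ∈ D ∧ Commute d y} ∨ H = ⊤ := by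
  have hcl := ThreeTrans.class_of_primitive hD hprim
  have hcc := ThreeTrans.centralCores_of_primitive hD hprim hw
  have hconn := ThreeTrans.connected_of_primitive hD hprim hw
  have h2 := hprim.2.1
  obtain ⟨L, hL, hLn, -⟩ := ThreeTrans.exists_component hcl h2 hcc
  refine ⟨⟨L, hLn, hL.2, ThreeTrans.index_le_two_of_connected hcl h2 hcc hconn hL,
    ThreeTrans.genFitting_eq hcl hcc hL⟩, ?_, fun d hd => ⟨?_, fun H hH hle => ?_⟩⟩
  · obtain ⟨a, ha, -⟩ := hw
    exact ThreeTrans.connected_iff.2 ⟨⟨a, ha⟩, hconn⟩
  · intro htop
    obtain ⟨e, he, hne⟩ := ThreeTrans.exists_not_commute hcl h2 hd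
    apply hne
    have key : ∀ x ∈ Subgroup.closure {y : G | y ∈ D ∧ Commute d y}, Commute d x := by
      intro x hx
      induction hx using Subgroup.closure_induction with
      | mem z hz => exact hz.2
      | one => exact Commute.one_right d
      | mul u v _ _ hu hv => exact hu.mul_right hv
      | inv u _ hu => exact hu.inv_right
    exact key e (htop ▸ Subgroup.mem_top e)
  · by_cases hex : ∃ e ∈ D, e ∈ H ∧ ¬ Commute d e
    · obtain ⟨e, he, heH, hde⟩ := hex
      refine Or.inr (ThreeTrans.eq_top_of_contains_local hcl h2 hcc hconn hd he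
        (hle (Subgroup.subset_closure ⟨hd, Commute.refl d⟩)) heH
        (fun y hy => hle (Subgroup.subset_closure ⟨hy.1, hy.2.2⟩)) hde)
    · refine Or.inl (le_antisymm ?_ hle)
      rw [← (show Subgroup.closure {e : G | e ∈ D ∧ e ∈ H} = H from hH), Subgroup.closure_le]
      intro e he
      refine Subgroup.subset_closure ⟨he.1, ?_⟩
      by_contra h
      exact hex ⟨e, he.1, he.2, h⟩

end Cfsg.Agent.S5354
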