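import Cfsg.Statements.S5355
import Cfsg.Agent.Lib.ThreeTrans.Perp

set_option autoImplicit false
open Cfsg

namespace Cfsg.Agent.S5355

/-- Let D be a conjugacy class of 3-transpositions generating the finite group G, with at least two members, and d a member of D. Suppose that every member of D commuting with d commutes with exactly the same members of D as d does, and that exactly one member of D other than d commutes with d. Then G is isomorphic to the symmetric group of degree 4. -/
theorem result {G : Type*} [Group G] [Finite G] {D : Set G} (hD : Cfsg.IsThreeTranspositionClass D) (hD2 : ∃ a ∈ D, ∃ b ∈ D, a ≠ b) {d : G} (hd : d ∈ D) (hV : {y : G | y ∈ D ∧ Commute d y} = {v : G | v ∈ D ∧ ∀ e ∈ D, Commute v e ↔ Commute d e}) (hm : {y : G | y ∈ D ∧ Commute d y}.ncard = 2) : Nonempty (G ≃* Equiv.Perm (Fin 4)) := by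
  have hg := ThreeTrans.group_of_class hD
  have hp : ThreeTrans.CommuteIsVRel D := ThreeTrans.commuteIsVRel_of_one hD hd fun y hy h => by
    have : y ∈ {y : G | y ∈ D ∧ Commute d y} := ⟨hy, h⟩
    rw [hV] at this
    exact this.2
  have htwo : ∀ x ∈ D, {y : G | y ∈ D ∧ Commute x y}.ncard = 2 := by
    intro x hx
    obtain ⟨g, rfl⟩ := ThreeTrans.class_conj hD hd hx
    have himg : (fun y => g * y * g⁻¹) '' {y : G | y ∈ D ∧ Commute d y} =
        {y : G | y ∈ D ∧ Commute (g * d * g⁻¹) y} := by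
      ext y
      constructor
      · rintro ⟨u, ⟨hu, hc⟩, rfl⟩
        exact ⟨hg.2.1 g u hu, hc.map (MulAut.conj g).toMonoidHom⟩
      · rintro ⟨hy, hc⟩
        refine ⟨g⁻¹ * y * g, ⟨by simpa using hg.2.1 g⁻¹ y hy, ?_⟩, by group⟩
        simpa [mul_assoc] using hc.map (MulAut.conj g⁻¹).toMonoidHom
    rw [← himg, Set.ncard_image_of_injective _ fun u v h => mul_left_cancel (mul_right_cancel h)]
    exact hm
  have hpar : ∀ x ∈ D, ∃ x' ∈ D, x' ≠ x ∧ Commute x x' := by
    intro x hx
    obtain ⟨u, v, huv, he⟩ := Set.ncard_eq_two.1 (htwo x hx)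
    rcases eq_or_ne u x with rfl | hne
    · have : v ∈ {y : G | y ∈ D ∧ Commute u y} := by rw [he]; exact Or.inr rfl
      exact ⟨v, this.1, huv.symm, this.2⟩
    · have : u ∈ {y : G | y ∈ D ∧ Commute x y} := by rw [he]; exact Or.inl rfl
      exact ⟨u, this.1, hne, this.2⟩
  have huniq : ∀ x ∈ D, ∀ u ∈ D, ∀ v ∈ D, u ≠ x → v ≠ x → Commute x u → Commute x v → u = v := by
    intro x hx u hu v hv hux hvx hcu hcv
    by_contra huv
    have h3 : ({x, u, v} : Set G) ⊆ {y : G | y ∈ D ∧ Commute x y} := by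
      rintro y (rfl | rfl | rfl)
      exacts [⟨hx, Commute.refl _⟩, ⟨hu, hcu⟩, ⟨hv, hcv⟩]
    have h4 := Set.ncard_le_ncard h3
    rw [htwo x hx, Set.ncard_insert_of_notMem (by simp [hux.symm, hvx.symm]), Set.ncard_pair huv] at h4
    omega
  obtain ⟨a', ha', hne, hc⟩ := hpar d hd
  obtain ⟨b, hb, hdb⟩ := ThreeTrans.exists_not_commute hD hD2 hd
  have hba' : ¬ Commute b a' := fun h => hdb ((hp d hd a' ha' hc b hb).1 h.symm)
  obtain ⟨φ, h0, h1, h2⟩ := ThreeTrans.exists_hom_four hg.1 hd hb ha' hc hdb hba'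
  have hinj : Function.Injective φ := ThreeTrans.injective_perm_four (by
    rw [map_mul, h0, h2, Ne, mul_eq_one_iff_eq_inv, ThreeTrans.inv_eq hg.1 ha']
    exact fun h => hne h.symm)
  have hb' : φ (Equiv.swap 0 3) ∈ D := by
    have e : φ (Equiv.swap 0 3) =
        (φ (Equiv.swap 2 3) * φ (Equiv.swap 1 2)) * φ (Equiv.swap 0 1) *
          (φ (Equiv.swap 2 3) * φ (Equiv.swap 1 2))⁻¹ := by
      rw [← map_mul φ, ← map_inv, ← map_mul, ← map_mul]
      exact congrArg φ (by decide +kernel)
    rw [e, h0]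
    exact hg.2.1 _ d hd
  have near : ∀ u ∈ D, Commute b u → u ∈ φ.range := by
    intro u hu hcu
    rcases eq_or_ne u b with rfl | hub
    · exact ⟨_, h1⟩
    · refine ⟨Equiv.swap 0 3, huniq b hb _ hb' u hu (fun h => ?_) hub ?_ hcu⟩
      · exact absurd (hinj (h.trans h1.symm)) (by decide +kernel)
      · rw [← h1]
        exact (show Commute (Equiv.swap (1 : Fin 4) 2) (Equiv.swap 0 3) by
          rw [commute_iff_eq]; decide +kernel).map φ
  have hall : ∀ t ∈ D, t ∈ φ.range := by
    intro t ht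
    by_cases hdt : Commute d t
    · rcases eq_or_ne t d with rfl | htd
      · exact ⟨_, h0⟩
      · exact ⟨Equiv.swap 2 3, h2.trans (huniq d hd a' ha' t ht hne htd hc hdt)⟩
    by_cases hbt : Commute b t
    · exact near t ht hbt
    have hY := near _ (ThreeTrans.conj_mem hg.1 hg.2.1 hd ht)
      (ThreeTrans.commute_conj_of_pairs hg hpar huniq hp hd hb ht hdb hdt hbt)
    have hdr : d ∈ φ.range := ⟨_, h0⟩
    have := φ.range.mul_mem (φ.range.mul_mem hdr hY) hdr
    simpa [mul_assoc, ThreeTrans.mul_self hg.1 hd, ThreeTrans.mul_self_cancel hg.1 hd] using this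
  have htop : φ.range = ⊤ := by
    rw [eq_top_iff, ← hD.2.2, Subgroup.closure_le]
    exact hall
  exact ⟨(MulEquiv.ofBijective φ ⟨hinj, MonoidHom.range_eq_top.1 htop⟩).symm⟩

end Cfsg.Agent.S5355
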