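import Cfsg.Statements.S5358
import Cfsg.Agent.EqLemmas
import Cfsg.Agent.Lib.Orth.Basic

set_option autoImplicit false
open scoped MatrixGroups
open Cfsg Matrix

namespace Cfsg.Agent.S5358

/-- Let Q be a non-degenerate quadratic form on the n-dimensional coordinate space over the field with three elements and u, v vectors of the same non-zero norm Q(u) = Q(v) spanning different lines (v ≠ u and v ≠ −u). Then the reflection matrices of u and v commute if and only if u and v are orthogonal for the polar form of Q. -/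
theorem result (n : ℕ) (Q : QuadraticForm (ZMod 3) (Fin n → ZMod 3)) (hQ : (QuadraticMap.polarBilin Q).Nondegenerate) (u v : Fin n → ZMod 3) (hu : Q u ≠ 0) (huv : Q u = Q v) (h1 : v ≠ u) (h2 : v ≠ -u) : Commute (Cfsg.reflectionMatrix (⇑Q) u) (Cfsg.reflectionMatrix (⇑Q) v) ↔ QuadraticMap.polar (⇑Q) u v = 0 := by
  have hker : ∀ x, reflectionMatrix (⇑Q) u *ᵥ (reflectionMatrix (⇑Q) v *ᵥ x) -
      reflectionMatrix (⇑Q) v *ᵥ (reflectionMatrix (⇑Q) u *ᵥ x) =
      ((Q u)⁻¹ * (Q u)⁻¹ * QuadraticMap.polar (⇑Q) u v) •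
        (QuadraticMap.polar (⇑Q) v x • u - QuadraticMap.polar (⇑Q) u x • v) := by
    intro x
    simp only [Orth.reflectionMatrix_mulVec, Orth.pl_sub_right, Orth.pl_smul_right, ← huv, Orth.pl_comm Q v u]
    funext i
    simp only [Pi.sub_apply, Pi.smul_apply, smul_eq_mul]
    ring
  constructor
  · intro hc
    by_contra hf
    have h0 := hker u
    rw [Matrix.mulVec_mulVec, Matrix.mulVec_mulVec, hc.eq, sub_self] at h0
    rcases smul_eq_zero.1 h0.symm with h | h
    · simp [hu, hf] at h
    · rw [Cfsg.Agent.Orth.pl_self, sub_eq_zero, Cfsg.Agent.Orth.pl_comm Q v u] at h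
      have h22 : (2 : ZMod 3) * Q u ≠ 0 := mul_ne_zero (by decide) hu
      have hv : v = ((2 * Q u)⁻¹ * QuadraticMap.polar (⇑Q) u v) • u := by
        rw [mul_smul, h, smul_smul, inv_mul_cancel₀ h22, one_smul]
      generalize (2 * Q u)⁻¹ * QuadraticMap.polar (⇑Q) u v = k at hv
      have hk : k = 0 ∨ k = 1 ∨ k = -1 := by clear hv; revert k; decide
      rcases hk with rfl | rfl | rfl
      · apply hu; rw [huv, hv, zero_smul, QuadraticMap.map_zero]
      · exact h1 (by rw [hv, one_smul])
      · exact h2 (by rw [hv, neg_one_smul])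
  · intro hf
    refine Matrix.ext_of_mulVec_single fun i => ?_
    have h0 := hker (Pi.single i 1)
    rw [hf, mul_zero, zero_smul, sub_eq_zero, Matrix.mulVec_mulVec, Matrix.mulVec_mulVec] at h0
    exact h0

end Cfsg.Agent.S5358
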