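import Cfsg.Statements.S5361
import Cfsg.Agent.Lib.ThreeTrans.Structure

set_option autoImplicit false
open Cfsg

namespace Cfsg.Agent.S5361

open scoped commutatorElement

/-- Let D be a conjugacy class of 3-transpositions generating the finite group G, and suppose the centre of G is trivial and some two different members of D commute. Then the following are equivalent: (1) the commutator subgroup of G is simple (possibly of prime order); (2) G acts primitively on D by conjugation; (3) the largest normal 2-subgroup and the largest normal 3-subgroup of G are trivial and the commuting graph of D is connected. -/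
theorem result {G : Type*} [Group G] [Finite G] {D : Set G} (hD : Cfsg.IsThreeTranspositionClass D) (hZ : Subgroup.center G = ⊥) (hw : ∃ a ∈ D, ∃ b ∈ D, a ≠ b ∧ Commute a b) : (IsSimpleGroup (commutator G) ↔ Cfsg.IsPrimitiveUnderConj D) ∧ (Cfsg.IsPrimitiveUnderConj D ↔ (Cfsg.pCore 2 G = ⊥ ∧ Cfsg.pCore 3 G = ⊥ ∧ (Cfsg.commutingGraph D).Connected)) := by
  have hg := ThreeTrans.group_of_class hD
  have h2' : ∃ a ∈ D, ∃ b ∈ D, a ≠ b := by
    obtain ⟨a, ha, b, hb, hab, -⟩ := hw
    exact ⟨a, ha, b, hb, hab⟩
  have h13 : IsSimpleGroup (commutator G) →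
      Cfsg.pCore 2 G = ⊥ ∧ Cfsg.pCore 3 G = ⊥ ∧ (Cfsg.commutingGraph D).Connected := by
    intro hs
    by_cases hab : ∀ x y : commutator G, x * y = y * x
    · exfalso
      obtain ⟨a, ha, b, hb, hne, hc⟩ := hw
      obtain ⟨g, hgb⟩ := ThreeTrans.class_conj hD ha hb
      have ht : a * b ∈ commutator G := by
        have e : a * b = ⁅a, g⁆ := by
          rw [commutatorElement_def, ThreeTrans.inv_eq hg.1 ha]
          conv_lhs => rw [← hgb]
          rw [← ThreeTrans.inv_eq hg.1 (hg.2.1 g a ha)]
          simp only [mul_inv_rev, inv_inv, ThreeTrans.inv_eq hg.1 ha, mul_assoc]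
        rw [e]
        exact Subgroup.commutator_mem_commutator (Subgroup.mem_top a) (Subgroup.mem_top g)
      set t : commutator G := ⟨a * b, ht⟩
      have ht1 : t ≠ 1 := fun h => hne (by
        have h' := congrArg Subtype.val h
        simp only [t, OneMemClass.coe_one] at h'
        rw [mul_eq_one_iff_eq_inv, ThreeTrans.inv_eq hg.1 hb] at h'
        exact h')
      have ht2 : t ^ 2 = 1 := Subtype.ext (by
        simpa [t] using (ThreeTrans.commute_iff_sq hg.1 ha hb).1 hc)
      have hcomm : IsMulCommutative (commutator G) := ⟨⟨hab⟩⟩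
      have hz : Subgroup.zpowers t = ⊤ := by
        have : (Subgroup.zpowers t).Normal :=
          ⟨fun n hn g => by rwa [hab g n, mul_inv_cancel_right]⟩
        rcases hs.eq_bot_or_eq_top_of_normal _ this with h | h
        · exact absurd (Subgroup.zpowers_eq_bot.1 h) ht1
        · exact h
      -- the commutator subgroup has order two, hence is central
      have hall : ∀ x : commutator G, x = 1 ∨ x = t := by
        intro x
        have hx : x ∈ Subgroup.zpowers t := hz ▸ Subgroup.mem_top x
        obtain ⟨k, rfl⟩ := hx
        rcases Int.even_or_odd k with ⟨m, rfl⟩ | ⟨m, rfl⟩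
        · left
          show t ^ (m + m) = 1
          rw [← two_mul, zpow_mul]
          norm_cast
          rw [ht2, one_zpow]
        · right
          show t ^ (2 * m + 1) = t
          rw [zpow_add, zpow_mul]
          norm_cast
          rw [ht2, one_zpow, one_mul, pow_one]
      have htz : (t : G) ∈ Subgroup.center G := by
        rw [Subgroup.mem_center_iff]
        intro x
        have hm : x * (t : G) * x⁻¹ ∈ commutator G :=
          Subgroup.Normal.conj_mem inferInstance _ t.2 x
        rcases hall ⟨_, hm⟩ with h | h
        · exfalso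
          apply ht1
          apply Subtype.ext
          have h' : x * (t : G) * x⁻¹ = 1 := congrArg Subtype.val h
          exact conj_eq_one_iff.1 h'
        · have h' : x * (t : G) * x⁻¹ = t := congrArg Subtype.val h
          exact mul_inv_eq_iff_eq_mul.1 h'
      rw [hZ, Subgroup.mem_bot] at htz
      exact ht1 (Subtype.ext htz)
    · have hna : ∃ x y : commutator G, x * y ≠ y * x := by
        by_contra h
        exact hab fun x y => by_contra fun hh => h ⟨x, y, hh⟩
      have hcc := ThreeTrans.centralCores_of_simple_derived hs hna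
      refine ⟨eq_bot_iff.2 (hZ ▸ hcc.1), eq_bot_iff.2 (hZ ▸ hcc.2), ThreeTrans.connected_iff.2
        ⟨?_, ThreeTrans.connected_of_simple_derived hD hs hna⟩⟩
      obtain ⟨a, ha, -⟩ := hw
      exact ⟨a, ha⟩
  have h32 : Cfsg.pCore 2 G = ⊥ ∧ Cfsg.pCore 3 G = ⊥ ∧ (Cfsg.commutingGraph D).Connected →
      Cfsg.IsPrimitiveUnderConj D := fun h =>
    ThreeTrans.primitive_of_connected hD h2' ⟨h.1 ▸ bot_le, h.2.1 ▸ bot_le⟩
      (ThreeTrans.connected_iff.1 h.2.2).2
  have h21 : Cfsg.IsPrimitiveUnderConj D → IsSimpleGroup (commutator G) := by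
    intro hp
    have hcc := ThreeTrans.centralCores_of_primitive hg hp hw
    have hconn := ThreeTrans.connected_of_primitive hg hp hw
    obtain ⟨L, hL, hLn, -⟩ := ThreeTrans.exists_component hD h2' hcc
    have e : commutator G = L := le_antisymm
      (ThreeTrans.commutator_le_of_index_le_two L
        (ThreeTrans.index_le_two_of_connected hD h2' hcc hconn hL))
      (ThreeTrans.component_le_commutator hL)
    rw [e]
    have hsol : Group.IsSolvable ↥((Subgroup.center ↥L).map L.subtype) := by
      refine Group.isSolvable_of_comm ?_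
      rintro ⟨_, a, ha, rfl⟩ ⟨_, b, _, rfl⟩
      exact Subtype.ext (congrArg Subtype.val (Subgroup.mem_center_iff.1 ha b)).symm
    have hn : ((Subgroup.center ↥L).map L.subtype).Normal :=
      Cores.map_subtype_normal_of_characteristic L _
    have hb : Subgroup.center ↥L = ⊥ := by
      have h := ThreeTrans.solvable_normal_le_center hg hcc hsol
      rw [hZ, le_bot_iff, Subgroup.map_eq_bot_iff_of_injective _ L.subtype_injective] at h
      exact h
    have := hL.2.2
    exact ((QuotientGroup.quotientMulEquivOfEq hb).trans
      QuotientGroup.quotientBot).symm.isSimpleGroup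
  exact ⟨⟨fun h => h32 (h13 h), h21⟩, ⟨fun h => h13 (h21 h), h32⟩⟩

end Cfsg.Agent.S5361
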