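import Cfsg.Statements.S5363
import Cfsg.Agent.EqLemmas

set_option autoImplicit false
open Cfsg

namespace Cfsg.Agent.S5363

/-- Let D be a conjugation-invariant set of involutions of a finite group G. Then every product of two members of D has odd order or order 2 if and only if, for every a in D and every b in D different from a and commuting with a, the members of D commuting with a b are exactly those commuting with both a and b. -/
theorem result {G : Type*} [Group G] [Finite G] {D : Set G} (hinv : ∀ d ∈ D, orderOf d = 2) (hconj : ∀ g : G, ∀ d ∈ D, g * d * g⁻¹ ∈ D) : (∀ a ∈ D, ∀ b ∈ D, Odd (orderOf (a * b)) ∨ orderOf (a * b) = 2) ↔ ∀ a ∈ D, ∀ b ∈ D, b ≠ a → Commute a b → {y : G | y ∈ D ∧ Commute (a * b) y} = {y : G | y ∈ D ∧ Commute a y} ∩ {y : G | y ∈ D ∧ Commute b y} := by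
  have mulself : ∀ x ∈ D, x * x = 1 := fun x hx => by
    have := pow_orderOf_eq_one x
    rwa [hinv x hx, pow_two] at this
  have inv' : ∀ x ∈ D, x⁻¹ = x := fun x hx => inv_eq_of_mul_eq_one_left (mulself x hx)
  have conjd : ∀ x ∈ D, ∀ y : G, x * (x * y) = y := fun x hx y => by
    rw [← mul_assoc, mulself x hx, one_mul]
  have comm_sq : ∀ x ∈ D, ∀ y ∈ D, Commute x y ↔ (x * y) ^ 2 = 1 := fun x hx y hy => by
    rw [pow_two, mul_eq_one_iff_eq_inv, mul_inv_rev, inv' x hx, inv' y hy]
    exact Iff.rfl
  constructor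
  · intro h a ha b hb hba hab
    ext y
    refine ⟨?_, fun ⟨⟨hy, h1⟩, ⟨_, h2⟩⟩ => ⟨hy, h1.mul_left h2⟩⟩
    rintro ⟨hy, hc⟩
    by_cases hya : Commute a y
    · refine ⟨⟨hy, hya⟩, hy, ?_⟩
      have h1 := hya.mul_left hc
      rwa [conjd a ha] at h1
    · exfalso
      have hsq : (y * a) ^ 2 = (y * b) ^ 2 := by
        have h1 : a * y * a = b * y * b := by
          have h2 : a * b * y = y * (a * b) := hc.eq
          calc a * y * a = a * (y * (a * b)) * b := by
                simp only [mul_assoc, mulself b hb, mul_one]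
            _ = a * (a * b * y) * b := by rw [h2]
            _ = b * y * b := by simp only [mul_assoc, conjd a ha]
        calc (y * a) ^ 2 = y * (a * y * a) := by simp only [pow_two, mul_assoc]
          _ = (y * b) ^ 2 := by rw [h1]; simp only [pow_two, mul_assoc]
      have hoa : Odd (orderOf (y * a)) := by
        rcases h y hy a ha with h1 | h1
        · exact h1
        · exact absurd ((comm_sq y hy a ha).2 (h1 ▸ pow_orderOf_eq_one _)).symm hya
      have hob : Odd (orderOf (y * b)) := by
        rcases h y hy b hb with h1 | h1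
        · exact h1
        · have h2 : (y * a) ^ 2 = 1 := hsq.trans (h1 ▸ pow_orderOf_eq_one _)
          exact absurd ((comm_sq y hy a ha).2 h2).symm hya
      obtain ⟨k, hk⟩ := hoa.mul hob
      have key : ∀ x : G, x ^ (2 * k + 1) = 1 → x = (x ^ 2) ^ (k + 1) := by
        intro x hx
        rw [← pow_mul, show 2 * (k + 1) = 2 * k + 1 + 1 by ring, pow_succ, hx, one_mul]
      have h1 : y * a = y * b := by
        rw [key (y * a), hsq, ← key (y * b)]
        · rw [← hk, mul_comm, pow_mul, pow_orderOf_eq_one, one_pow]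
        · rw [← hk, pow_mul, pow_orderOf_eq_one, one_pow]
      exact hba (mul_left_cancel h1).symm
  · intro h a ha b hb
    rcases Nat.even_or_odd (orderOf (a * b)) with ⟨m, hm⟩ | ho
    swap
    · exact Or.inl ho
    right
    by_contra hne
    have hpos : 0 < orderOf (a * b) := orderOf_pos _
    have hia := inv' a ha
    have hk : ∀ k : ℕ, a * (a * b) ^ k * a = ((a * b) ^ k)⁻¹ := by
      intro k
      have h1 : a * (a * b) * a⁻¹ = (a * b)⁻¹ := by
        rw [mul_inv_rev, inv' b hb, hia, ← mul_assoc, mulself a ha, one_mul]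
      rw [← inv_pow, ← h1, conj_pow, hia]
    set z := (a * b) ^ m with hz
    have hz1 : z ≠ 1 := fun hz1 => by
      have := Nat.le_of_dvd (by omega) (orderOf_dvd_of_pow_eq_one hz1)
      omega
    have hz2 : z * z = 1 := by rw [hz, ← pow_add, ← hm, pow_orderOf_eq_one]
    have haz : Commute a z := by
      have h1 := hk m
      rw [← hz, ← eq_inv_of_mul_eq_one_left hz2] at h1
      show a * z = z * a
      conv_rhs => rw [← h1, mul_assoc _ a a, mulself a ha, mul_one]
    have ha' : a * z ∈ D := by
      rcases Nat.even_or_odd' m with ⟨k, hk2 | hk2⟩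
      · have h2 : a * z = ((a * b) ^ k)⁻¹ * a * ((a * b) ^ k)⁻¹⁻¹ := by
          rw [hz, hk2, two_mul, pow_add, inv_inv, ← hk k]
          simp only [mul_assoc, conjd a ha]
        rw [h2]; exact hconj _ a ha
      · have h2 : a * z = ((a * b) ^ k)⁻¹ * b * ((a * b) ^ k)⁻¹⁻¹ := by
          rw [hz, hk2, two_mul, pow_succ', ← pow_succ' , add_assoc, pow_add, pow_succ', inv_inv,
            ← hk k]
          simp only [mul_assoc, conjd a ha]
        rw [h2]; exact hconj _ b hb
    have hset := h a ha (a * z) ha' (fun hc => hz1 (by simpa using hc))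
      (show a * (a * z) = a * z * a by rw [mul_assoc, haz.eq])
    have hb' : b ∈ {y : G | y ∈ D ∧ Commute (a * (a * z)) y} := by
      refine ⟨hb, ?_⟩
      rw [conjd a ha]
      have h1 : Commute z (a * b) := Commute.pow_self (a * b) m
      have h2 := haz.symm.mul_right h1
      rwa [conjd a ha] at h2
    rw [hset] at hb'
    have h2 : (a * b) ^ 2 = 1 := (comm_sq a ha b hb).1 hb'.1.2
    have := Nat.le_of_dvd two_pos (orderOf_dvd_of_pow_eq_one h2)
    omega

end Cfsg.Agent.S5363
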