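import Cfsg.Statements.S5364
import Cfsg.Agent.EqLemmas
import Cfsg.Agent.Lib.ThreeTrans.Basic

set_option autoImplicit false
open Cfsg

namespace Cfsg.Agent.S5364

/-- Let D be a conjugation-invariant set of involutions of a finite group G and t an involution in the centre of G such that d t does not lie in D for any d in D. If the images of the members of D in G modulo the subgroup generated by t satisfy the 3-transposition order conditions (each has order 2 and any two have product of order at most 3), then so do the members of D. -/
theorem result {G : Type*} [Group G] [Finite G] {D : Set G} (hinv : ∀ d ∈ D, orderOf d = 2) (hconj : ∀ g : G, ∀ d ∈ D, g * d * g⁻¹ ∈ D) (t : G) (ht : orderOf t = 2) (htZ : t ∈ Subgroup.center G) (hDt : ∀ d ∈ D, d * t ∉ D) [(Subgroup.zpowers t).Normal] (himg : Cfsg.IsThreeTranspositionSet ((QuotientGroup.mk : G → G ⧸ Subgroup.zpowers t) '' D)) : Cfsg.IsThreeTranspositionSet D := by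
  refine ⟨hinv, fun d hd e he => ?_⟩
  have mulself : ∀ x ∈ D, x * x = 1 := fun x hx => by
    have := pow_orderOf_eq_one x
    rwa [hinv x hx, pow_two] at this
  have tt : t * t = 1 := by
    have := pow_orderOf_eq_one t
    rwa [ht, pow_two] at this
  have hmem : ∀ x ∈ Subgroup.zpowers t, x = 1 ∨ x = t := by
    rintro x ⟨n, rfl⟩
    show t ^ n = 1 ∨ t ^ n = t
    rw [← zpow_mod_orderOf, ht]
    rcases Int.emod_two_eq n with h | h
    · left; simp [h]
    · right; simp [h]
  have inv' : ∀ x ∈ D, x⁻¹ = x := fun x hx => inv_eq_of_mul_eq_one_left (mulself x hx)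
  have conj' : ∀ x ∈ D, ∀ y ∈ D, x * y * x ∈ D := fun x hx y hy => by
    have := hconj x y hy
    rwa [inv' x hx] at this
  rcases himg.2 _ ⟨d, hd, rfl⟩ _ ⟨e, he, rfl⟩ with h | h
  · rw [← QuotientGroup.mk_mul, ← QuotientGroup.mk_pow, QuotientGroup.eq_one_iff] at h
    rcases hmem _ h with h | h
    · exact Or.inl h
    · exfalso
      apply hDt e he
      have h1 : d * e * d = t * e := by
        calc d * e * d = (d * e) ^ 2 * e := by
              rw [pow_two]; simp only [mul_assoc, mulself e he, mul_one]
          _ = t * e := by rw [h]
      rw [Subgroup.mem_center_iff.1 htZ e, ← h1]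
      exact conj' d hd e he
  · rw [← QuotientGroup.mk_mul, ← QuotientGroup.mk_pow, QuotientGroup.eq_one_iff] at h
    rcases hmem _ h with h | h
    · exact Or.inr h
    · exfalso
      apply hDt _ (conj' e he d hd)
      have h1 : d * e * d = t * (e * d * e) := by
        calc d * e * d = (d * e) ^ 3 * (e * d * e) := by
              simp only [pow_succ, pow_zero, one_mul, mul_assoc]
              simp only [← mul_assoc e e, mulself e he, one_mul, ← mul_assoc d d, mulself d hd,
                mul_one]
          _ = t * (e * d * e) := by rw [h]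
      rw [Subgroup.mem_center_iff.1 htZ, ← h1]
      exact conj' d hd e he

end Cfsg.Agent.S5364
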