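import Cfsg.Statements.S5366
import Cfsg.Agent.EqLemmas
import Cfsg.Agent.Lib.ThreeTrans.FischerSpace

set_option autoImplicit false
open Cfsg

namespace Cfsg.Agent.S5366

/-- Let L be a nondegenerate Fischer space on the point type X (every point on a line). Then for every point x the map t(x) — sending a point collinear with x to the third point of their common line and fixing every other point — is a permutation of X of order 2 and an automorphism of the line system; and the set of all t(x) satisfies the 3-transposition order conditions in the permutation group of X (any two have product of order at most 3). -/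
theorem result {X : Type*} (L : Set (Set X)) (hL : Cfsg.IsFischerSpace L) (hnd : Cfsg.LineSystem.IsNondegenerate L) : (∀ x : X, ∃ σ : Equiv.Perm X, ⇑σ = Cfsg.LineSystem.lineMap L x ∧ orderOf σ = 2 ∧ Cfsg.LineSystem.IsIso L L σ) ∧ Cfsg.IsThreeTranspositionSet {σ : Equiv.Perm X | ∃ x : X, ⇑σ = Cfsg.LineSystem.lineMap L x} := by
  have hord : ∀ x, orderOf (ThreeTrans.linePerm hL.1 hL.2.1 x) = 2 := by
    intro x
    refine orderOf_eq_prime (by rw [pow_two, ThreeTrans.linePerm_self]) ?_
    obtain ⟨l, hl, hxl⟩ := hnd x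
    obtain ⟨y, hy, hyx⟩ := Set.exists_ne_of_one_lt_ncard (by rw [hL.2.1 l hl]; omega) x
    obtain ⟨z, rfl⟩ := ThreeTrans.exists_third hL.2.1 hl hxl hy hyx.symm
    intro h
    have h1 := Equiv.congr_fun h y
    change Cfsg.LineSystem.lineMap L x y = y at h1
    rw [ThreeTrans.lineMap_of_mem hL.1 hL.2.1 hl] at h1
    exact (ThreeTrans.line_ne hL.2.1 hl).2.2 h1.symm
  refine ⟨fun x => ⟨_, rfl, hord x, ThreeTrans.isIso_linePerm hL x⟩, ?_, ?_⟩
  · rintro σ ⟨x, hσ⟩
    rw [show σ = ThreeTrans.linePerm hL.1 hL.2.1 x from DFunLike.coe_injective hσ]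
    exact hord x
  · rintro σ ⟨x, hσ⟩ τ ⟨y, hτ⟩
    rw [show σ = ThreeTrans.linePerm hL.1 hL.2.1 x from DFunLike.coe_injective hσ,
      show τ = ThreeTrans.linePerm hL.1 hL.2.1 y from DFunLike.coe_injective hτ]
    exact ThreeTrans.linePerm_prod hL x y

end Cfsg.Agent.S5366
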