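import Cfsg.Statements.S5367
import Cfsg.Agent.Lib.ThreeTrans.Basic
import Cfsg.Agent.S5344

set_option autoImplicit false
open Cfsg

namespace Cfsg.Agent.S5367

section Helpers

open Cfsg.Agent.ThreeTrans

/-! ### Sub line systems given by a model -/

theorem isomorphic_of_model {X Y : Type*} {L : Set (Set X)} {M : Set (Set Y)} {l m : Set X}
    (hL : LineSystem.IsPartialLinear L) (f : Y → X) (hf : Function.Injective f)
    (hline : ∀ n ∈ M, f '' n ∈ L)
    (hpair : ∀ u v, u ≠ v → ∀ n ∈ L, f u ∈ n → f v ∈ n → ∃ k ∈ M, u ∈ k ∧ v ∈ k)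
    (hsub : l ∪ m ⊆ Set.range f)
    (hgen : ∀ T, LineSystem.IsSubspace L T → l ∪ m ⊆ T → Set.range f ⊆ T)
    (htwo : ∀ n ∈ L, ∃ x ∈ n, ∃ y ∈ n, x ≠ y) :
    LineSystem.Isomorphic (LineSystem.restrict L (LineSystem.span L (l ∪ m))) M := by
  have hR : LineSystem.IsSubspace L (Set.range f) := by
    rintro n hn _ ⟨u, rfl⟩ _ ⟨v, rfl⟩ hne hu hv
    obtain ⟨k, hk, hku, hkv⟩ := hpair u v (fun h => hne (h ▸ rfl)) n hn hu hv
    rw [hL n hn (f '' k) (hline k hk) _ _ hne hu hv ⟨u, hku, rfl⟩ ⟨v, hkv, rfl⟩]
    exact Set.image_subset_range f k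
  have hspan : LineSystem.span L (l ∪ m) = Set.range f := by
    refine Set.Subset.antisymm (Set.sInter_subset_of_mem ⟨hsub, hR⟩) ?_
    rintro x hx T ⟨hT1, hT2⟩
    exact hgen T hT2 hT1 hx
  suffices key : ∀ S : Set X, S = Set.range f →
      LineSystem.Isomorphic (LineSystem.restrict L S) M from key _ hspan
  rintro _ rfl
  set e := (Equiv.ofInjective f hf).symm with he
  have hfe : ∀ x : Set.range f, f (e x) = x := fun x => Equiv.apply_ofInjective_symm hf x
  refine ⟨e, fun t => ⟨?_, fun ht => ?_⟩⟩
  · rintro ⟨n, hn, hns, rfl⟩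
    obtain ⟨x, hx, y, hy, hne⟩ := htwo n hn
    obtain ⟨u, rfl⟩ := hns hx
    obtain ⟨v, rfl⟩ := hns hy
    obtain ⟨k, hk, hku, hkv⟩ := hpair u v (fun h => hne (h ▸ rfl)) n hn hx hy
    have hnk := hL n hn (f '' k) (hline k hk) _ _ hne hx hy ⟨u, hku, rfl⟩ ⟨v, hkv, rfl⟩
    convert hk using 1
    ext w
    constructor
    · rintro ⟨z, hz, rfl⟩
      have hz' : f (e z) ∈ f '' k := by
        rw [hfe, ← hnk]
        exact hz
      exact hf.mem_set_image.1 hz'
    · intro hw
      refine ⟨⟨f w, w, rfl⟩, ?_, ?_⟩
      · show f w ∈ n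
        rw [hnk]
        exact ⟨w, hw, rfl⟩
      · exact Equiv.ofInjective_symm_apply hf w
  · refine ⟨f '' (e '' t), hline _ ht, Set.image_subset_range f _, ?_⟩
    ext z
    show z ∈ t ↔ (z : X) ∈ f '' (e '' t)
    rw [← hfe z, hf.mem_set_image, e.injective.mem_set_image]

/-! ### The nine point quasigroup -/

/-- The point in the given position. -/
def pt {X : Type*} (op : X → X → X) (p a b : X) : ZMod 3 → ZMod 3 → X :=
  ![![p, b, op p b], ![a, op (op p a) (op p b), op (op p a) b], ![op p a, op a (op p b), op a b]]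

theorem pt_op {X : Type*} (op : X → X → X) (p a b : X) (hidem : ∀ x, op x x = x)
    (hinvol : ∀ x y, op x (op x y) = y) (hdist : ∀ x y z, op x (op y z) = op (op x y) (op x z))
    (hpa : op a p = op p a) (hpb : op b p = op p b) (hab : op b a = op a b)
    (hab' : op (op p b) a = op a (op p b)) (ha'b : op b (op p a) = op (op p a) b)
    (ha'b' : op (op p b) (op p a) = op (op p a) (op p b)) :
    ∀ u v : Fin 2 → ZMod 3, op (pt op p a b (u 0) (u 1)) (pt op p a b (v 0) (v 1)) =
      pt op p a b (-u 0 - v 0) (-u 1 - v 1) := by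
  set F := pt op p a b with hF
  let Good : ZMod 3 → ZMod 3 → Prop := fun i j =>
    ∀ k l : ZMod 3, op (F i j) (F k l) = F (-i - k) (-j - l)
  have e00 : F 0 0 = p := rfl
  have e01 : F 0 1 = b := rfl
  have e02 : F 0 2 = op p b := rfl
  have e10 : F 1 0 = a := rfl
  have e11 : F 1 1 = op (op p a) (op p b) := rfl
  have e12 : F 1 2 = op (op p a) b := rfl
  have e20 : F 2 0 = op p a := rfl
  have e21 : F 2 1 = op a (op p b) := rfl
  have e22 : F 2 2 = op a b := rfl
  have r0 : Good 0 0 := by
    intro k l
    have e1 : op p (op (op p a) (op p b)) = op a b := by rw [← hdist, hinvol]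
    have e2 : op p (op (op p a) b) = op a (op p b) := by rw [hdist, hinvol]
    have e3 : op p (op a (op p b)) = op (op p a) b := by rw [hdist, hinvol]
    have e4 : op p (op a b) = op (op p a) (op p b) := hdist _ _ _
    fin_cases k <;> fin_cases l
    all_goals first
      | exact hidem p
      | exact e1
      | exact e2
      | exact e3
      | exact e4
      | exact hinvol p b
      | exact hinvol p a
      | exact (rfl : op p b = op p b)
      | exact (rfl : op p a = op p a)
  have haa' : op a (op p a) = p := by rw [← hpa, hinvol]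
  have hbb' : op b (op p b) = p := by rw [← hpb, hinvol]
  have r1 : Good 1 0 := by
    intro k l
    have e1 : op a (op (op p a) (op p b)) = op (op p a) b := by
      rw [hdist, haa', hdist, hinvol]
    have e2 : op a (op (op p a) b) = op (op p a) (op p b) := by
      rw [hdist, haa', hdist]
    fin_cases k <;> fin_cases l
    all_goals first
      | exact hidem a
      | exact hpa
      | exact haa'
      | exact e1
      | exact e2
      | exact hinvol a (op p b)
      | exact hinvol a b
      | exact (rfl : op a b = op a b)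
      | exact (rfl : op a (op p b) = op a (op p b))
  have r2 : Good 0 1 := by
    intro k l
    have e1 : op b (op (op p a) (op p b)) = op a (op p b) := by
      rw [← ha'b', hdist, hbb', ha'b, hdist, hinvol]
    have e2 : op b (op (op p a) b) = op p a := by rw [← ha'b, hinvol]
    have e3 : op b (op a (op p b)) = op (op p a) (op p b) := by
      rw [← hab', hdist, hbb', hab, hdist]
    have e4 : op b (op a b) = a := by rw [← hab, hinvol]
    fin_cases k <;> fin_cases l
    all_goals first
      | exact hidem b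
      | exact hpb
      | exact hbb'
      | exact hab
      | exact ha'b
      | exact e1
      | exact e2
      | exact e3
      | exact e4
  have hz : ∀ c d e : ZMod 3, -c - (-d - (-c - e)) = -(-c - d) - e := by decide
  have hstep : ∀ i j k l, Good i j → Good k l → Good (-i - k) (-j - l) := by
    intro i j k l h1 h2 x y
    have hx : F x y = op (F i j) (F (-i - x) (-j - y)) := by
      rw [h1]
      congr 1 <;> ring
    rw [← h1 k l, hx, ← hdist, h2, h1, hz, hz]
  have r02 : Good 0 2 := hstep 0 0 0 1 r0 r2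
  have r20 : Good 2 0 := hstep 0 0 1 0 r0 r1
  have r22 : Good 2 2 := hstep 1 0 0 1 r1 r2
  have r11 : Good 1 1 := hstep 2 0 0 2 r20 r02
  have r12 : Good 1 2 := hstep 2 0 0 1 r20 r2
  have r21 : Good 2 1 := hstep 1 0 0 2 r1 r02
  have hall : ∀ i j, Good i j := by
    intro i j
    fin_cases i <;> fin_cases j
    exacts [r0, r2, r02, r1, r11, r12, r20, r21, r22]
  intro u v
  exact hall (u 0) (u 1) (v 0) (v 1)

theorem line_iff (u v x : Fin 2 → ZMod 3) (h : u ≠ v) :
    (∃ c : ZMod 3, x = u + c • (v - u)) ↔ x = u ∨ x = v ∨ x = -u - v := by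
  have h3 : -u - v = u + (2 : ZMod 3) • (v - u) := by
    funext i
    simp only [Pi.sub_apply, Pi.neg_apply, Pi.add_apply, Pi.smul_apply, smul_eq_mul]
    generalize u i = a
    generalize v i = b
    revert a b
    decide
  constructor
  · rintro ⟨c, rfl⟩
    have hc : c = 0 ∨ c = 1 ∨ c = 2 := by revert c; decide
    rcases hc with rfl | rfl | rfl
    · left; simp
    · right; left; simp
    · right; right; rw [h3]
  · rintro (rfl | rfl | rfl)
    · exact ⟨0, by simp⟩
    · exact ⟨1, by simp⟩
    · exact ⟨2, h3⟩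

/-- The transposition attached to a two-element subset. -/
def tau (s : DualAffinePoint) : Equiv.Perm (Fin 4) :=
  Equiv.swap (s.1.min' (Finset.card_pos.1 (by rw [s.2]; omega)))
    (s.1.max' (Finset.card_pos.1 (by rw [s.2]; omega)))

set_option maxRecDepth 8000 in
theorem tau_injective : ∀ s t, tau s = tau t → s = t := by decide

set_option maxRecDepth 8000 in
theorem tau_pair : ∀ s t : DualAffinePoint, tau s * tau t ≠ tau t * tau s →
    ∃ i : Fin 4, i ∉ s.1 ∧ i ∉ t.1 := by decide

set_option maxRecDepth 8000 in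
theorem tau_line : ∀ i : Fin 4, ∃ u v w : DualAffinePoint, tau u * tau v ≠ tau v * tau u ∧
    tau v * tau u * tau v = tau w ∧ ∀ s : DualAffinePoint, i ∉ s.1 ↔ s = u ∨ s = v ∨ s = w := by
  decide

theorem tau_isConj (s : DualAffinePoint) :
    ∃ g : Equiv.Perm (Fin 4), g * Equiv.swap 0 1 * g⁻¹ = tau s := by
  refine isConj_iff.1 (Equiv.Perm.isConj_swap (by decide) ?_)
  exact ne_of_lt (Finset.min'_lt_max'_of_card _ (by rw [s.2]; omega))

variable {G : Type*} [Group G] {D : Set G}

/-- The third point of the line through two points. -/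
def star (hD : IsThreeTranspositionGroup D) (x y : D) : D :=
  ⟨(x : G) * y * x, conj_mem hD.1 hD.2.1 x.2 y.2⟩

/-- The line through two points. -/
def line (hD : IsThreeTranspositionGroup D) (x y : D) : Set D :=
  {z | z = x ∨ z = y ∨ z = star hD y x}

variable (hD : IsThreeTranspositionGroup D)

include hD in
theorem mem_lines_iff {l : Set D} :
    l ∈ threeTranspositionLines D ↔ ∃ x y : D, ¬ Commute (x : G) y ∧ l = line hD x y := by
  have key : ∀ x y : D, line hD x y = {z : D | (z : G) = x ∨ (z : G) = y ∨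
      (z : G) = (y : G) * (x : G) * (y : G)⁻¹} := by
    intro x y
    ext z
    simp only [line, Set.mem_ofPred_eq, Subtype.ext_iff, star, inv_eq hD.1 y.2]
  constructor
  · rintro ⟨x, y, h, rfl⟩
    exact ⟨x, y, h, (key x y).symm⟩
  · rintro ⟨x, y, h, rfl⟩
    exact ⟨x, y, h, key x y⟩

theorem star_comm {x y : D} (h : ¬ Commute (x : G) y) : star hD x y = star hD y x :=
  Subtype.ext (braid hD.1 x.2 y.2 h)

theorem star_self (x : D) : star hD x x = x :=
  Subtype.ext (conj_conj_of_commute hD.1 x.2 (Commute.refl _))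

theorem star_star (x y : D) : star hD x (star hD x y) = y := by
  refine Subtype.ext ?_
  show (x : G) * ((x : G) * y * x) * x = y
  rw [mul_assoc (x : G) (y : G), mul_self_cancel hD.1 x.2, mul_assoc, mul_self hD.1 x.2, mul_one]

theorem star_dist (x y z : D) :
    star hD x (star hD y z) = star hD (star hD x y) (star hD x z) := by
  refine Subtype.ext ?_
  show (x : G) * ((y : G) * z * y) * x = ((x : G) * y * x) * ((x : G) * z * x) * ((x : G) * y * x)
  simp only [mul_assoc, mul_self_cancel hD.1 x.2]

theorem star_eq_of_commute {x y : D} (h : Commute (x : G) y) : star hD x y = y :=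
  Subtype.ext (conj_conj_of_commute hD.1 x.2 h)

theorem not_commute_star {x y : D} (h : ¬ Commute (x : G) y) :
    ¬ Commute (x : G) (star hD y x) := by
  rw [← star_comm hD h]
  intro hc
  apply h
  have h1 := star_eq_of_commute hD hc
  rw [star_star] at h1
  have h2 := congrArg Subtype.val h1
  exact commute_of_conj_eq hD.1 x.2 h2.symm

theorem line_symm {x y : D} (h : ¬ Commute (x : G) y) : line hD y x = line hD x y := by
  ext z
  simp only [line, Set.mem_ofPred_eq, star_comm hD h]
  tauto

theorem line_third {x y : D} (h : ¬ Commute (x : G) y) :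
    line hD x (star hD y x) = line hD x y := by
  have e : star hD (star hD y x) x = y := by
    rw [← star_comm hD (not_commute_star hD h), ← star_comm hD h, star_star]
  ext z
  simp only [line, Set.mem_ofPred_eq, e]
  tauto

include hD in
/-- A line is determined by any two of its points. -/
theorem line_eq {l : Set D} (hl : l ∈ threeTranspositionLines D) {p q : D} (hp : p ∈ l)
    (hq : q ∈ l) (hne : p ≠ q) : ¬ Commute (p : G) q ∧ l = line hD p q := by
  obtain ⟨x, y, h, rfl⟩ := (mem_lines_iff hD).1 hl
  have h' : ¬ Commute (y : G) x := fun c => h c.symm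
  have hx := not_commute_star hD h
  have hy : ¬ Commute (y : G) (star hD y x) := by
    rw [← star_comm hD h]
    exact not_commute_star hD h'
  have hyl : line hD y (star hD y x) = line hD x y := by
    rw [← star_comm hD h, line_third hD h', line_symm hD h]
  rcases hp with rfl | rfl | rfl <;> rcases hq with rfl | rfl | rfl
  all_goals first
    | exact absurd rfl hne
    | exact ⟨h, rfl⟩
    | exact ⟨h', (line_symm hD h).symm⟩
    | exact ⟨hx, (line_third hD h).symm⟩
    | exact ⟨hy, hyl.symm⟩
    | exact ⟨fun c => hx c.symm, by rw [line_symm hD hx, line_third hD h]⟩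
    | exact ⟨fun c => hy c.symm, by rw [line_symm hD hy, hyl]⟩

include hD in
theorem isPartialLinear : LineSystem.IsPartialLinear (threeTranspositionLines D) := by
  intro l hl m hm x y hne hxl hyl hxm hym
  rw [(line_eq hD hl hxl hyl hne).2, (line_eq hD hm hxm hym hne).2]

theorem left_ne_star {x y : D} (h : ¬ Commute (x : G) y) : x ≠ star hD y x := fun e => by
  refine not_commute_star hD h ?_
  rw [← e]

theorem right_ne_star {x y : D} (h : ¬ Commute (x : G) y) : y ≠ star hD y x := fun e => by
  have := star_star hD y x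
  rw [← e, star_self] at this
  exact h (by rw [← this])

include hD in
theorem ncard_line {l : Set D} (hl : l ∈ threeTranspositionLines D) : l.ncard = 3 := by
  obtain ⟨x, y, h, rfl⟩ := (mem_lines_iff hD).1 hl
  have hxy : x ≠ y := fun e => h (by rw [e])
  rw [show line hD x y = {x, y, star hD y x} by ext z; simp [line]]
  rw [Set.ncard_insert_of_notMem (by simp [hxy, left_ne_star hD h]) (Set.toFinite _),
    Set.ncard_pair (right_ne_star hD h)]

include hD in
theorem exists_two {l : Set D} (hl : l ∈ threeTranspositionLines D) :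
    ∃ x ∈ l, ∃ y ∈ l, x ≠ y := by
  obtain ⟨x, y, h, rfl⟩ := (mem_lines_iff hD).1 hl
  exact ⟨x, Or.inl rfl, y, Or.inr (Or.inl rfl), fun e => h (by rw [e])⟩

theorem star_mem_of_subspace {T : Set D}
    (hT : LineSystem.IsSubspace (threeTranspositionLines D) T) {x y : D}
    (hx : x ∈ T) (hy : y ∈ T) (h : ¬ Commute (x : G) y) : star hD x y ∈ T :=
  hT _ ((mem_lines_iff hD).2 ⟨x, y, h, rfl⟩) x hx y hy (fun e => h (by rw [e]))
    (Or.inl rfl) (Or.inr (Or.inl rfl)) (Or.inr (Or.inr (star_comm hD h)))

include hD in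
/-- The dual affine case. -/
theorem plane_two {l m : Set D} (hl : l ∈ threeTranspositionLines D)
    (hm : m ∈ threeTranspositionLines D) {p a b : D} (hpl : p ∈ l) (hal : a ∈ l) (hpm : p ∈ m)
    (hbm : b ∈ m) (hap : a ≠ p) (hbp : b ≠ p) (hne : a ≠ b) (hc : Commute (a : G) b) :
    LineSystem.Isomorphic
      (LineSystem.restrict (threeTranspositionLines D)
        (LineSystem.span (threeTranspositionLines D) (l ∪ m))) dualAffinePlaneTwo := by
  obtain ⟨hnap, hl'⟩ := line_eq hD hl hal hpl hap
  obtain ⟨hnpb, hm'⟩ := line_eq hD hm hpm hbm hbp.symm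
  obtain ⟨φ, hφ, h01, h12, h23⟩ :=
    Cfsg.Agent.S5344.result hD.1 a.2 p.2 b.2 (fun e => hne (Subtype.ext e)) hc hnap hnpb
  have hmem : ∀ s, φ (tau s) ∈ D := fun s => by
    obtain ⟨g, hg⟩ := tau_isConj s
    rw [← hg, map_mul, map_mul, map_inv, h01]
    exact hD.2.1 _ _ a.2
  let f : DualAffinePoint → D := fun s => ⟨φ (tau s), hmem s⟩
  have hf : Function.Injective f := fun s t e =>
    tau_injective s t (hφ (congrArg Subtype.val e))
  have hcomm : ∀ s t, ¬ Commute (f s : G) (f t) ↔ tau s * tau t ≠ tau t * tau s := by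
    intro s t
    refine not_congr ⟨fun h => hφ ?_, fun h => ?_⟩
    · rw [map_mul, map_mul]
      exact h
    · show φ (tau s) * φ (tau t) = φ (tau t) * φ (tau s)
      rw [← map_mul, h, map_mul]
  have hstar : ∀ u v w, tau v * tau u * tau v = tau w → star hD (f v) (f u) = f w := by
    intro u v w h
    refine Subtype.ext ?_
    show φ (tau v) * φ (tau u) * φ (tau v) = φ (tau w)
    rw [← map_mul, ← map_mul, h]
  let q01 : DualAffinePoint := ⟨{0, 1}, by decide⟩
  let q12 : DualAffinePoint := ⟨{1, 2}, by decide⟩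
  let q23 : DualAffinePoint := ⟨{2, 3}, by decide⟩
  let q02 : DualAffinePoint := ⟨{0, 2}, by decide⟩
  let q13 : DualAffinePoint := ⟨{1, 3}, by decide⟩
  let q03 : DualAffinePoint := ⟨{0, 3}, by decide⟩
  have ea : f q01 = a := Subtype.ext (by rw [← h01]; exact congrArg φ (by decide))
  have ep : f q12 = p := Subtype.ext (by rw [← h12]; exact congrArg φ (by decide))
  have eb : f q23 = b := Subtype.ext (by rw [← h23]; exact congrArg φ (by decide))
  have e02 : star hD p a = f q02 := by rw [← ea, ← ep]; exact hstar _ _ _ (by decide)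
  have e13 : star hD b p = f q13 := by rw [← eb, ← ep]; exact hstar _ _ _ (by decide)
  refine isomorphic_of_model (isPartialLinear hD) f hf ?_ ?_ ?_ ?_ (fun n hn => exists_two hD hn)
  · rintro _ ⟨i, rfl⟩
    obtain ⟨u, v, w, huv, hw, hi⟩ := tau_line i
    refine (mem_lines_iff hD).2 ⟨f u, f v, (hcomm u v).2 huv, ?_⟩
    ext z
    simp only [line, Set.mem_image, Set.mem_ofPred_eq, hi, hstar u v w hw]
    constructor
    · rintro ⟨s, rfl | rfl | rfl, rfl⟩ <;> simp
    · rintro (rfl | rfl | rfl) <;> exact ⟨_, by simp, rfl⟩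
  · intro u v huv n hn hu hv
    obtain ⟨i, hiu, hiv⟩ := tau_pair u v
      ((hcomm u v).1 (line_eq hD hn hu hv fun e => huv (hf e)).1)
    exact ⟨_, ⟨i, rfl⟩, hiu, hiv⟩
  · rw [hl', hm']
    rintro z ((rfl | rfl | rfl) | (rfl | rfl | rfl))
    exacts [⟨q01, ea⟩, ⟨q12, ep⟩, ⟨q02, e02.symm⟩, ⟨q12, ep⟩, ⟨q23, eb⟩, ⟨q13, e13.symm⟩]
  · rintro T hT hlm _ ⟨s, rfl⟩
    have h01' : f q01 ∈ T := hlm (Or.inl (ea ▸ hal))
    have h12' : f q12 ∈ T := hlm (Or.inl (ep ▸ hpl))
    have h23' : f q23 ∈ T := hlm (Or.inr (eb ▸ hbm))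
    have hgen : ∀ u v w, f v ∈ T → f u ∈ T → tau u * tau v ≠ tau v * tau u →
        tau v * tau u * tau v = tau w → f w ∈ T := by
      intro u v w hv hu h1 h2
      rw [← hstar u v w h2]
      exact star_mem_of_subspace hD hT hv hu fun c => (hcomm u v).2 h1 c.symm
    have h02' : f q02 ∈ T := hgen q01 q12 q02 h12' h01' (by decide) (by decide)
    have h13' : f q13 ∈ T := hgen q12 q23 q13 h23' h12' (by decide) (by decide)
    have h03' : f q03 ∈ T := hgen q02 q23 q03 h23' h02' (by decide) (by decide)
    have hs : s = q01 ∨ s = q12 ∨ s = q23 ∨ s = q02 ∨ s = q13 ∨ s = q03 := by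
      revert s; decide
    rcases hs with rfl | rfl | rfl | rfl | rfl | rfl <;> assumption

include hD in
/-- The affine case. -/
theorem plane_three {l m : Set D} (hl : l ∈ threeTranspositionLines D)
    (hm : m ∈ threeTranspositionLines D) {p a b : D} (hpl : p ∈ l) (hal : a ∈ l) (hpm : p ∈ m)
    (hbm : b ∈ m) (hap : a ≠ p) (hbp : b ≠ p)
    (hall : ∀ x ∈ l, x ≠ p → ∀ y ∈ m, y ≠ p → ¬ Commute (x : G) y) :
    LineSystem.Isomorphic
      (LineSystem.restrict (threeTranspositionLines D)
        (LineSystem.span (threeTranspositionLines D) (l ∪ m))) affinePlaneThree := by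
  obtain ⟨hnpa, hl'⟩ := line_eq hD hl hpl hal hap.symm
  obtain ⟨hnpb, hm'⟩ := line_eq hD hm hpm hbm hbp.symm
  set a' := star hD p a with ha'
  set b' := star hD p b with hb'
  have hal' : a' ∈ l := by rw [hl', ha', star_comm hD hnpa]; exact Or.inr (Or.inr rfl)
  have hbm' : b' ∈ m := by rw [hm', hb', star_comm hD hnpb]; exact Or.inr (Or.inr rfl)
  have ha'p : a' ≠ p := by rw [ha', star_comm hD hnpa]; exact (left_ne_star hD hnpa).symm
  have hb'p : b' ≠ p := by rw [hb', star_comm hD hnpb]; exact (left_ne_star hD hnpb).symm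
  have n1 := hall a hal hap b hbm hbp
  have n2 := hall a hal hap b' hbm' hb'p
  have n3 := hall a' hal' ha'p b hbm hbp
  have n4 := hall a' hal' ha'p b' hbm' hb'p
  let f : (Fin 2 → ZMod 3) → D := fun v => pt (star hD) p a b (v 0) (v 1)
  have hop : ∀ u v, star hD (f u) (f v) = f (-u - v) := fun u v =>
    pt_op (star hD) p a b (star_self hD) (star_star hD) (star_dist hD) (star_comm hD hnpa).symm
      (star_comm hD hnpb).symm (star_comm hD n1).symm (star_comm hD n2).symm (star_comm hD n3).symm
      (star_comm hD n4).symm u v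
  have hf : Function.Injective f := by
    intro u v e
    have hper : ∀ w, f (w + (u - v)) = f w := fun w => by
      have h1 := hop u (-u - (w + (u - v)))
      have h2 := hop v (-u - (w + (u - v)))
      rw [e, h2] at h1
      rw [show -u - (-u - (w + (u - v))) = w + (u - v) by abel,
        show -v - (-u - (w + (u - v))) = w + (u - v) + (u - v) by abel] at h1
      have h3 : ∀ x : Fin 2 → ZMod 3, x + x + x = 0 := fun x => by
        funext i
        show x i + x i + x i = 0
        generalize x i = c
        revert c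
        decide
      have h1' := h1
      have h4 := hop u (-u - (w + (u - v) + (u - v)))
      have h5 := hop v (-u - (w + (u - v) + (u - v)))
      rw [e, h5] at h4
      rw [show -u - (-u - (w + (u - v) + (u - v))) = w + (u - v) + (u - v) by abel,
        show -v - (-u - (w + (u - v) + (u - v))) = w + ((u - v) + (u - v) + (u - v)) by abel,
        h3, add_zero] at h4
      exact h1'.symm.trans h4.symm
    have hcases : ∀ i j : ZMod 3, (u - v) 0 = i → (u - v) 1 = j → i = 0 ∧ j = 0 := by
      intro i j hi hj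
      have key : ∀ k l : ZMod 3, pt (star hD) p a b (k + i) (l + j) = pt (star hD) p a b k l :=
        fun k l => by
          have := hper ![k, l]
          simp only [f, Pi.add_apply, hi, hj] at this
          simpa using this
      have hpa' : p ≠ a := hap.symm
      have hpb' : p ≠ b := hbp.symm
      have hab : a ≠ b := fun e => n1 (by rw [e])
      have hab' : a ≠ b' := fun e => n2 (by rw [e])
      fin_cases i <;> fin_cases j
      · exact ⟨rfl, rfl⟩
      · exact absurd (key 0 0) (fun e : b = p => hpb' e.symm)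
      · exact absurd (key 0 0) (fun e : b' = p => hb'p e)
      · exact absurd (key 0 0) (fun e : a = p => hpa' e.symm)
      · exact absurd (key 0 2) (fun e : a = b' => hab' e)
      · exact absurd (key 0 1) (fun e : a = b => hab e)
      · exact absurd (key 0 0) (fun e : a' = p => ha'p e)
      · exact absurd (key 1 0) (fun e : b = a => hab e.symm)
      · exact absurd (key 1 0) (fun e : b' = a => hab' e.symm)
    have h0 := hcases _ _ rfl rfl
    funext i
    fin_cases i
    · exact sub_eq_zero.1 h0.1
    · exact sub_eq_zero.1 h0.2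
  have hnc : ∀ u v, u ≠ v → ¬ Commute (f u : G) (f v) := by
    intro u v h hc
    have h1 : f (-u - v) = f v := by rw [← hop, star_eq_of_commute hD hc]
    refine h (funext fun i => ?_)
    have h2 := congrFun (hf h1) i
    simp only [Pi.sub_apply, Pi.neg_apply] at h2
    revert h2
    generalize u i = c
    generalize v i = d
    revert c d
    decide
  have himage : ∀ u v, u ≠ v →
      f '' {x | ∃ c : ZMod 3, x = u + c • (v - u)} = line hD (f u) (f v) := by
    intro u v h
    ext z
    simp only [Set.mem_image, Set.mem_ofPred_eq, line, line_iff u v _ h, hop v u,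
      show -v - u = -u - v by abel]
    constructor
    · rintro ⟨x, rfl | rfl | rfl, rfl⟩ <;> simp
    · rintro (rfl | rfl | rfl) <;> exact ⟨_, by simp, rfl⟩
  refine isomorphic_of_model (isPartialLinear hD) f hf ?_ ?_ ?_ ?_ (fun n hn => exists_two hD hn)
  · rintro _ ⟨v, w, hw, rfl⟩
    have hvw : v ≠ v + w := fun e => hw (left_eq_add.1 e)
    refine (mem_lines_iff hD).2 ⟨f v, f (v + w), hnc _ _ hvw, ?_⟩
    rw [← himage _ _ hvw, add_sub_cancel_left]
  · intro u v huv n hn hu hv
    exact ⟨{x | ∃ c : ZMod 3, x = u + c • (v - u)}, ⟨u, v - u, sub_ne_zero.2 huv.symm, rfl⟩,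
      ⟨0, by simp⟩, ⟨1, by simp⟩⟩
  · rw [hl', hm']
    rintro z ((rfl | rfl | rfl) | (rfl | rfl | rfl))
    exacts [⟨![0, 0], rfl⟩, ⟨![1, 0], rfl⟩, ⟨![2, 0], star_comm hD hnpa⟩, ⟨![0, 0], rfl⟩,
      ⟨![0, 1], rfl⟩, ⟨![0, 2], star_comm hD hnpb⟩]
  · rintro T hT hlm _ ⟨v, rfl⟩
    have hp : p ∈ T := hlm (Or.inl hpl)
    have ha : a ∈ T := hlm (Or.inl hal)
    have haT' : a' ∈ T := hlm (Or.inl hal')
    have hb : b ∈ T := hlm (Or.inr hbm)
    have hbT' : b' ∈ T := hlm (Or.inr hbm')
    have c11 : star hD a' b' ∈ T := star_mem_of_subspace hD hT haT' hbT' n4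
    have c12 : star hD a' b ∈ T := star_mem_of_subspace hD hT haT' hb n3
    have c21 : star hD a b' ∈ T := star_mem_of_subspace hD hT ha hbT' n2
    have c22 : star hD a b ∈ T := star_mem_of_subspace hD hT ha hb n1
    show pt (star hD) p a b (v 0) (v 1) ∈ T
    generalize v 0 = i
    generalize v 1 = j
    fin_cases i <;> fin_cases j
    exacts [hp, hb, hbT', ha, c11, c12, haT', c21, c22]

end Helpers

/-- Let D be a conjugation-invariant generating set of 3-transpositions of a finite group G. Then the line system on D whose lines are the triples {x, y, y x y⁻¹} for non-commuting members x, y of D is a Fischer space: two points lie on at most one line, lines have three points, and two different meeting lines generate a subspace isomorphic to the dual affine plane of order two or to the affine plane of order three. -/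
theorem result {G : Type*} [Group G] [Finite G] {D : Set G} (hD : Cfsg.IsThreeTranspositionGroup D) : Cfsg.IsFischerSpace (Cfsg.threeTranspositionLines D) := by
  refine ⟨isPartialLinear hD, fun l hl => ncard_line hD hl, fun l hl m hm hne ⟨p, hpl, hpm⟩ => ?_⟩
  have hex : ∀ n ∈ Cfsg.threeTranspositionLines D, ∃ a ∈ n, a ≠ p := fun n hn => by
    obtain ⟨x, hx, y, hy, hxy⟩ := exists_two hD hn
    by_cases h : x = p
    · exact ⟨y, hy, fun e => hxy (h.trans e.symm)⟩
    · exact ⟨x, hx, h⟩
  by_cases hall : ∀ x ∈ l, x ≠ p → ∀ y ∈ m, y ≠ p → ¬ Commute (x : G) y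
  · obtain ⟨a, hal, hap⟩ := hex l hl
    obtain ⟨b, hbm, hbp⟩ := hex m hm
    exact Or.inr (plane_three hD hl hm hpl hal hpm hbm hap hbp hall)
  · simp only [not_forall, not_not, exists_prop] at hall
    obtain ⟨a, hal, hap, b, hbm, hbp, hc⟩ := hall
    refine Or.inl (plane_two hD hl hm hpl hal hpm hbm hap hbp ?_ hc)
    rintro rfl
    exact hne (isPartialLinear hD l hl m hm p a hap.symm hpl hal hpm hbm)

end Cfsg.Agent.S5367
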