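import Cfsg.Statements.S5385
import Cfsg.Agent.Lib.CoFive.Main

set_option autoImplicit false
open Cfsg

namespace Cfsg.Agent.S5385

/-- Let G be a finite group of Conway type (involution z with generalized Fitting subgroup Q of its centralizer C extraspecial of order 2^9, C/Q the commutator subgroup of the isometry group of the hyperbolic quadratic form in dimension 8 over the field with two elements, z not weakly closed in Q), and let B be a subgroup of C of order 5 such that the centralizer of B in Q is extraspecial of order 32 containing no elementary abelian subgroup of order 8 (the quaternion-times-dihedral type). Then the layer L of the centralizer of B in G is isomorphic to the Hall–Janko group and the centralizer of L is isomorphic to the alternating group of degree 5. -/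
theorem result {G : Type*} [Group G] [Finite G] (z : G) (hz : orderOf z = 2) (Q : Subgroup (Subgroup.centralizer ({z} : Set G))) [Q.Normal] (hF : Cfsg.generalizedFittingSubgroup (Subgroup.centralizer ({z} : Set G)) = Q) (hQ : Cfsg.IsExtraspecial 2 Q) (hcard : Nat.card Q = 2 ^ 9) (e : (Subgroup.centralizer ({z} : Set G)) ⧸ Q ≃* Cfsg.Omega (ZMod 2) (Cfsg.quadFormPlus 4 (ZMod 2))) (hnwc : ∃ g : G, (∃ hq : g * z * g⁻¹ ∈ Subgroup.centralizer ({z} : Set G), (⟨g * z * g⁻¹, hq⟩ : Subgroup.centralizer ({z} : Set G)) ∈ Q) ∧ g * z * g⁻¹ ≠ z) (B : Subgroup (Subgroup.centralizer ({z} : Set G))) (hB : Nat.card B = 5) (hCQ : Cfsg.IsExtraspecial 2 ↥(Q ⊓ Subgroup.centralizer (B : Set (Subgroup.centralizer ({z} : Set G))))) (hCQcard : Nat.card ↥(Q ⊓ Subgroup.centralizer (B : Set (Subgroup.centralizer ({z} : Set G)))) = 32) (hminus : ∀ A : Subgroup (Subgroup.centralizer ({z} : Set G)), A ≤ Q ⊓ Subgroup.centralizer (B : Set (Subgroup.centralizer ({z} : Set G))) → Cfsg.IsElementaryAbelian 2 A → Nat.card A ≤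 4) : Cfsg.Spor.IsoJ2 ↥(Cfsg.layer ↥(Subgroup.centralizer ((B.map (Subgroup.subtype (Subgroup.centralizer ({z} : Set G)))) : Set G))) ∧ Nonempty (↥(Subgroup.centralizer (((Cfsg.layer ↥(Subgroup.centralizer ((B.map (Subgroup.subtype (Subgroup.centralizer ({z} : Set G)))) : Set G))).map (Subgroup.subtype _)) : Set G)) ≃* alternatingGroup (Fin 5)) := by
  classical
  have h5 : Fact (Nat.Prime 5) := ⟨by norm_num⟩
  obtain ⟨T, hTz, hTQ⟩ := Agent.CoType.exists_co z hz Q hF hQ hcard e hnwc
  subst hTz
  have : IsCyclic B := isCyclic_of_prime_card hB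
  obtain ⟨b, hb⟩ := IsCyclic.exists_generator (α := B)
  have hBeq : B = Subgroup.zpowers (b : Subgroup.centralizer ({T.z} : Set G)) := by
    refine le_antisymm (fun x hx => ?_) (Subgroup.zpowers_le.mpr b.2)
    obtain ⟨k, hk⟩ := Subgroup.mem_zpowers_iff.mp (hb ⟨x, hx⟩)
    exact Subgroup.mem_zpowers_iff.mpr ⟨k, congrArg Subtype.val hk⟩
  set b₀ : G := ((b : Subgroup.centralizer ({T.z} : Set G)) : G) with hb₀
  have hbz : b₀ * T.z = T.z * b₀ := Subgroup.mem_centralizer_singleton_iff.mp b.1.2
  have hob : orderOf b₀ = 5 := by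
    rw [hb₀, Subgroup.orderOf_coe, Subgroup.orderOf_coe, orderOf_eq_card_of_forall_mem_zpowers hb, hB]
  have hb5 : b₀ ^ 5 = 1 := by rw [← hob]; exact pow_orderOf_eq_one _
  have hb1 : b₀ ≠ 1 := fun h => by rw [h, orderOf_one] at hob; norm_num at hob
  have hmem : ∀ x : Subgroup.centralizer ({T.z} : Set G),
      x ∈ Subgroup.centralizer (B : Set (Subgroup.centralizer ({T.z} : Set G))) ↔
        b₀ * (x : G) = (x : G) * b₀ := by
    intro x
    rw [hBeq, ← SetLike.mem_coe, Subgroup.zpowers_eq_closure, Subgroup.centralizer_closure,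
      SetLike.mem_coe, Subgroup.mem_centralizer_singleton_iff, ← Subtype.coe_inj]
    exact eq_comm
  -- a fixed vector
  obtain ⟨w, hw, hw0⟩ : ∃ w : ↥(Q ⊓ Subgroup.centralizer (B : Set (Subgroup.centralizer ({T.z} : Set G)))),
      True ∧ T.c ((w : Subgroup.centralizer ({T.z} : Set G)) : G) ≠ 0 := by
    by_contra hno
    push Not at hno
    have h2 : Nat.card ↥(Q ⊓ Subgroup.centralizer (B : Set (Subgroup.centralizer ({T.z} : Set G)))) ≤ 2 := by
      refine (Nat.card_le_card_of_injective (fun w : ↥(Q ⊓ Subgroup.centralizer (B : Set (Subgroup.centralizer ({T.z} : Set G)))) => decide (((w : Subgroup.centralizer ({T.z} : Set G)) : G) = 1))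
        fun u v huv => ?_).trans (Nat.card_eq_fintype_card.trans_le (le_of_eq Fintype.card_bool))
      have key : ∀ w : ↥(Q ⊓ Subgroup.centralizer (B : Set (Subgroup.centralizer ({T.z} : Set G)))),
          ((w : Subgroup.centralizer ({T.z} : Set G)) : G) = 1 ∨
            ((w : Subgroup.centralizer ({T.z} : Set G)) : G) = T.z := fun w =>
        T.c_ker _ (hTQ.symm ▸ Subgroup.mem_map_of_mem _ w.2.1) (hno w trivial)
      simp only [decide_eq_decide] at huv
      refine Subtype.ext (Subtype.ext ?_)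
      rcases key u with hu | hu <;> rcases key v with hv | hv <;> simp_all [T.z_ne]
    omega
  have hwQ : ((w : Subgroup.centralizer ({T.z} : Set G)) : G) ∈ T.Q :=
    hTQ.symm ▸ Subgroup.mem_map_of_mem _ w.2.1
  obtain ⟨S, hSz, hSQ, m, hm, hSb⟩ :=
    Agent.CoFive.exists_std T hbz hb5 hb1 hwQ hw0 ((hmem _).mp w.2.2)
  obtain ⟨L, rfl⟩ := Agent.CoFive.exists_loc S
  obtain ⟨r, hr⟩ := Agent.CoFive.mul_mod_five hm
  have hcomm : ∀ g : G, g * L.S.b = L.S.b * g ↔ g * b₀ = b₀ * g := by
    intro g
    rw [hSb]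
    refine ⟨fun h => ?_, fun h => Commute.pow_right h m⟩
    have := (Commute.pow_right h r).eq
    rwa [← pow_mul, Agent.CoFive.pow_five_mod hb5, hr, pow_one] at this
  have hCb : ∀ g : G, g ∈ Subgroup.centralizer
      ((B.map (Subgroup.subtype (Subgroup.centralizer ({T.z} : Set G)))) : Set G) ↔
      g * L.S.b = L.S.b * g := by
    intro g
    rw [hcomm, hBeq, MonoidHom.map_zpowers, ← SetLike.mem_coe, Subgroup.zpowers_eq_closure,
      Subgroup.centralizer_closure, SetLike.mem_coe, Subgroup.mem_centralizer_singleton_iff]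
    exact Iff.rfl
  have hR : L.S.R = (Q ⊓ Subgroup.centralizer (B : Set (Subgroup.centralizer ({T.z} : Set G)))).map
      (Subgroup.centralizer ({T.z} : Set G)).subtype := by
    ext x
    rw [Agent.CoFive.Std.R, Subgroup.mem_inf, Subgroup.mem_centralizer_singleton_iff, hcomm, hSQ, hTQ]
    constructor
    · rintro ⟨⟨q, hq, rfl⟩, hc⟩
      exact ⟨q, ⟨hq, (hmem q).mpr hc.symm⟩, rfl⟩
    · rintro ⟨q, ⟨hq, hc⟩, rfl⟩
      exact ⟨⟨q, hq, rfl⟩, ((hmem q).mp hc).symm⟩
  refine L.layer_cent ?_ _ hCb
  rw [hR]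
  exact Agent.LargeExtraspecial.isExtraspecial_congr
    (Subgroup.equivMapOfInjective _ _ (Subgroup.subtype_injective _)) hCQ

end Cfsg.Agent.S5385
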