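import Cfsg.Statements.S5386
import Cfsg.Agent.Lib.CoOneUniq.Uniqueness
import Cfsg.Agent.Lib.CoOneLocal.NineA
import Cfsg.Agent.Lib.CoOneLocal.SevenA
import Cfsg.Agent.EqLemmas

set_option autoImplicit false
open Cfsg

namespace Cfsg.Agent.S5386

/-- Let G be a finite group of Conway type (involution z with generalized Fitting subgroup Q of its centralizer C extraspecial of order 2^9, C/Q the commutator subgroup of the isometry group of the hyperbolic quadratic form in dimension 8 over the field with two elements, z not weakly closed in Q). Then G has a subgroup V of order 7 whose centralizer is isomorphic to the direct product of a cyclic group of order 7 and the alternating group of degree 7, and a subgroup W of order 3 whose normalizer is isomorphic to the direct product of the symmetric group of degree 3 and the alternating group of degree 9. -/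
theorem result {G : Type*} [Group G] [Finite G] (z : G) (hz : orderOf z = 2) (Q : Subgroup (Subgroup.centralizer ({z} : Set G))) [Q.Normal] (hF : Cfsg.generalizedFittingSubgroup (Subgroup.centralizer ({z} : Set G)) = Q) (hQ : Cfsg.IsExtraspecial 2 Q) (hcard : Nat.card Q = 2 ^ 9) (e : (Subgroup.centralizer ({z} : Set G)) ⧸ Q ≃* Cfsg.Omega (ZMod 2) (Cfsg.quadFormPlus 4 (ZMod 2))) (hnwc : ∃ g : G, (∃ hq : g * z * g⁻¹ ∈ Subgroup.centralizer ({z} : Set G), (⟨g * z * g⁻¹, hq⟩ : Subgroup.centralizer ({z} : Set G)) ∈ Q) ∧ g * z * g⁻¹ ≠ z) : (∃ V : Subgroup G, Nat.card V = 7 ∧ Nonempty (↥(Subgroup.centralizer (V : Set G)) ≃* Multiplicative (ZMod 7) × alternatingGroup (Fin 7))) ∧ ∃ W : Subgroup G, Nat.card W = 3 ∧ Nonempty (↥(Subgroup.normalizer (W : Set G)) ≃* Equiv.Perm (Fin 3) × alternatingGroup (Fin 9)) := by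
  obtain ⟨T, -, -⟩ := CoType.exists_co z hz Q hF hQ hcard e hnwc
  obtain ⟨i⟩ := CoOneUniq.iso_of_co T
  obtain ⟨V, hV, ⟨eV⟩⟩ := CoOneLocal.exists_seven
  obtain ⟨W, hW, ⟨eW⟩⟩ := CoOneLocal.exists_three
  refine ⟨⟨V.map i.symm.toMonoidHom, ?_, ⟨?_⟩⟩, ⟨W.map i.symm.toMonoidHom, ?_, ⟨?_⟩⟩⟩
  · rw [Subgroup.card_map_of_injective i.symm.injective, hV]
  · refine (MulEquiv.subgroupCongr ?_).trans ((i.symm.subgroupMap (Subgroup.centralizer (V : Set _))).symm.trans eV)
    ext x
    constructor
    · intro h
      refine ⟨i x, fun v hv => ?_, i.symm_apply_apply x⟩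
      apply i.symm.injective
      rw [map_mul, map_mul, i.symm_apply_apply]
      exact h _ ⟨v, hv, rfl⟩
    · rintro ⟨y, hy, rfl⟩ _ ⟨v, hv, rfl⟩
      show i.symm v * i.symm y = i.symm y * i.symm v
      rw [← map_mul, ← map_mul, hy v hv]
  · rw [Subgroup.card_map_of_injective i.symm.injective, hW]
  · refine (MulEquiv.subgroupCongr ?_).trans ((i.symm.subgroupMap (Subgroup.normalizer (W : Set _))).symm.trans eW)
    exact (Subgroup.map_normalizer_eq_of_bijective W (f := i.symm.toMonoidHom) i.symm.bijective).symm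

end Cfsg.Agent.S5386
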