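import Cfsg.Statements.S5392
import Cfsg.Agent.Lib.Leech.Unique
import Cfsg.Agent.Lib.Leech.Generation

set_option autoImplicit false
open Cfsg

namespace Cfsg.Agent.S5392

open Leech

variable (M : AddSubgroup (GolayPt → ℤ))

theorem top_of_min (hinv : ∀ g : Co0, ∀ v : leechLattice, (v : GolayPt → ℤ) ∈ M →
      ((g • v : leechLattice) : GolayPt → ℤ) ∈ M) (hle : M ≤ leechLattice)
    {u : leechLattice} (hu : (u : GolayPt → ℤ) ∈ M) (hn : sqNorm (u : GolayPt → ℤ) = 32) :
    M = leechLattice := by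
  refine le_antisymm hle ?_
  rw [← minGen_eq, minGen, AddSubgroup.closure_le]
  rintro x ⟨hx, hxn⟩
  obtain ⟨g, hg⟩ := transitive32 golayUnique (v := u) (w := ⟨x, hx⟩) hn hxn
  have := hinv g u hu
  rw [hg] at this
  exact this

theorem dichotomy (h2M : ∀ v ∈ leechLattice, (2 : ℤ) • v ∈ M) (hle : M ≤ leechLattice)
    (hinv : ∀ g : Co0, ∀ v : leechLattice, (v : GolayPt → ℤ) ∈ M →
      ((g • v : leechLattice) : GolayPt → ℤ) ∈ M) :
    (∀ x ∈ M, ∃ w ∈ leechLattice, x = (2 : ℤ) • w) ∨ M = leechLattice := by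
  rw [or_iff_not_imp_left]
  intro hne
  push Not at hne
  obtain ⟨x, hxM, hx2⟩ := hne
  obtain ⟨y, hy, hyn, z, hz, hxy⟩ := exists_short_rep (hle hxM)
  have h2' : ∀ v ∈ leechLattice, 2 • v ∈ M := fun v hv => by
    have := h2M v hv
    rwa [← Nat.cast_ofNat (R := ℤ), natCast_zsmul] at this
  have hcong : ∀ {a b : GolayPt → ℤ}, a ∈ M → Congr a b → b ∈ M := by
    rintro a b ha ⟨c, hc, he⟩
    have := M.sub_mem ha (h2' c hc)
    rwa [← he, sub_sub_cancel] at this
  have hyM : y ∈ M := hcong hxM ⟨z, hz, hxy⟩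
  have hy0 : y ≠ 0 := by
    rintro rfl
    apply hx2 z hz
    rw [sub_zero] at hxy
    rw [hxy, ← natCast_zsmul]; rfl
  have h32 := min_norm hy hy0
  obtain ⟨r, hr⟩ := dvd_sqNorm hy
  rcases (show r = 2 ∨ r = 3 ∨ r = 4 by omega) with rfl | rfl | rfl
  · exact top_of_min M hinv hle (u := ⟨y, hy⟩) hyM (by rw [hr]; norm_num)
  · have hall : ∀ w : leechLattice, sqNorm (w : GolayPt → ℤ) = 48 → (w : GolayPt → ℤ) ∈ M := by
      intro w hw
      obtain ⟨g, hg⟩ := transitive48 golayUnique (v := ⟨y, hy⟩) (w := w)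
        (by show sqNorm y = 48; rw [hr]; norm_num) hw
      exact hg ▸ hinv g ⟨y, hy⟩ hyM
    have hswap : Equiv.swap (none : GolayPt) (some 0) none = some 0 := Equiv.swap_apply_left _ _
    obtain ⟨σ, hσ, hσ0, -, -⟩ := exists_map_three (a := (none : GolayPt)) (b := some 0) (c := some 1)
      (a' := some 0) (b' := none) (c' := some 1) (by decide) (by decide)
    have h1 := hall baseF sqNorm_baseF
    have h2 := hall (mono σ hσ ∅ Golay.empty_mem • baseF) (by rw [sqNorm_smul, sqNorm_baseF])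
    refine top_of_min M hinv hle (u := baseF - mono σ hσ ∅ Golay.empty_mem • baseF)
      (by rw [AddSubgroup.coe_sub]; exact M.sub_mem h1 h2) ?_
    rw [AddSubgroup.coe_sub, sqNorm_sub, sqNorm_smul, sqNorm_baseF, vec_mono]
    have hsp : signedPerm σ ∅ (baseF : GolayPt → ℤ) = fun i => if i = some 0 then 5 else 1 := by
      funext i
      simp only [signedPerm, Finset.notMem_empty, if_false]
      show fiveFun (σ.symm i) = _
      simp only [fiveFun, Equiv.symm_apply_eq, hσ0]
    rw [hsp]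
    decide +kernel
  · have hall : ∀ w : leechLattice, sqNorm (w : GolayPt → ℤ) = 64 → (w : GolayPt → ℤ) ∈ M := by
      intro w hw
      obtain ⟨g, hg⟩ := transitive64 golayUnique (v := ⟨y, hy⟩) (w := w)
        (by show sqNorm y = 64; rw [hr]; norm_num) hw
      exact hcong (hinv g ⟨y, hy⟩ hyM) hg
    let p : Fin 5 → GolayPt := ![none, some 0, some 1, some 2, some 3]
    let P := fun i j => pairVec (p i) (p j) 1 1 (by norm_num)
    have h1 := hall (P 0 1 + P 2 3) (by decide +kernel)
    have h2 := hall (P 0 1 + P 2 4) (by decide +kernel)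
    refine top_of_min M hinv hle (u := (P 0 1 + P 2 3) - (P 0 1 + P 2 4))
      (by rw [AddSubgroup.coe_sub]; exact M.sub_mem h1 h2) ?_
    decide +kernel

/-- The Leech lattice modulo twice itself is a faithful irreducible module for the first Conway group: an automorphism of the rank-24 lattice built from the length-24 code that moves every lattice vector only by twice a lattice vector lies in the centre of the automorphism group (the centre consists of ±1, which act trivially there, so the kernel is exactly the centre), and an additive subgroup lying between twice the lattice and the lattice that is invariant under all lattice automorphisms is one of the two. -/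
theorem result : (∀ g : ↥Cfsg.Co0, (∀ v : ↥Cfsg.leechLattice, ∃ w : ↥Cfsg.leechLattice, ((g • v : ↥Cfsg.leechLattice) : Cfsg.GolayPt → ℤ) - (v : Cfsg.GolayPt → ℤ) = 2 • (w : Cfsg.GolayPt → ℤ)) → g ∈ Subgroup.center ↥Cfsg.Co0) ∧ ∀ M : AddSubgroup (Cfsg.GolayPt → ℤ), (∀ v ∈ Cfsg.leechLattice, (2 : ℤ) • v ∈ M) → M ≤ Cfsg.leechLattice → (∀ g : ↥Cfsg.Co0, ∀ v : ↥Cfsg.leechLattice, (v : Cfsg.GolayPt → ℤ) ∈ M → ((g • v : ↥Cfsg.leechLattice) : Cfsg.GolayPt → ℤ) ∈ M) → (∀ x ∈ M, ∃ w ∈ Cfsg.leechLattice, x = (2 : ℤ) • w) ∨ M = Cfsg.leechLattice := by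
  refine ⟨fun g hg => ?_, fun M h2M hle hinv => ?_⟩
  · rcases Cfsg.Agent.Leech.eq_one_or_negOne_of_congr (g := g) (fun v => by
      obtain ⟨w, hw⟩ := hg v; exact ⟨w, w.2, hw⟩) with rfl | rfl
    · exact Subgroup.one_mem _
    · exact Cfsg.Agent.Leech.negOne_mem_center
  · exact Cfsg.Agent.S5392.dichotomy M h2M hle hinv

end Cfsg.Agent.S5392
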