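import Cfsg.Statements.S5393
import Cfsg.Agent.EqLemmas

set_option autoImplicit false
open Cfsg
open scoped Pointwise

namespace Cfsg.Agent.S5393

/-- The translation of the projective line by 1, fixing the point at infinity. -/
def shift : Equiv.Perm GolayPt := Equiv.optionCongr (Equiv.addRight (1 : ZMod 23))

/-- A permutation of the points, as a linear map on words. -/
def permWord (σ : Equiv.Perm GolayPt) : (GolayPt → ZMod 2) →ₗ[ZMod 2] (GolayPt → ZMod 2) where
  toFun w := fun p => w (σ.symm p)
  map_add' _ _ := rfl
  map_smul' _ _ := rfl

lemma permWord_qr (t : ZMod 23) : permWord shift (qrWord t) = qrWord (t + 1) := by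
  funext p
  cases p with
  | none => rfl
  | some x =>
    show qrWord t (some ((Equiv.addRight (1 : ZMod 23)).symm x)) = qrWord (t + 1) (some x)
    simp only [qrWord, Equiv.addRight_symm, Equiv.coe_addRight]
    refine if_congr ⟨fun ⟨r, h⟩ => ⟨r, ?_⟩, fun ⟨r, h⟩ => ⟨r, ?_⟩⟩ rfl rfl
    · linear_combination h
    · linear_combination h

lemma permWord_one (σ : Equiv.Perm GolayPt) : permWord σ 1 = 1 := rfl

/-- The span of twelve explicit words. -/
def twelveSpan : Submodule (ZMod 2) (GolayPt → ZMod 2) :=
  Submodule.span (ZMod 2) (Set.range fun i : Option (Fin 11) =>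
    i.elim (1 : GolayPt → ZMod 2) fun k => qrWord (k.val : ZMod 23))

lemma qr_small_mem {k : ℕ} (hk : k < 11) : qrWord (k : ZMod 23) ∈ twelveSpan :=
  Submodule.subset_span ⟨some ⟨k, hk⟩, rfl⟩

lemma one_mem_twelve : (1 : GolayPt → ZMod 2) ∈ twelveSpan :=
  Submodule.subset_span ⟨none, rfl⟩

lemma qr_eleven : qrWord 11 = qrWord 0 + qrWord 1 + qrWord 5 + qrWord 6 + qrWord 7 + qrWord 9 := by
  decide +kernel

lemma qr_mem (n : ℕ) : qrWord (n : ZMod 23) ∈ twelveSpan := by
  have hsh : twelveSpan ≤ twelveSpan.comap (permWord shift) := by
    conv_lhs => rw [twelveSpan]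
    rw [Submodule.span_le]
    rintro _ ⟨i, rfl⟩
    show permWord shift _ ∈ twelveSpan
    cases i with
    | none => exact (permWord_one shift).symm ▸ one_mem_twelve
    | some k =>
      show permWord shift (qrWord _) ∈ twelveSpan
      rw [permWord_qr]
      by_cases hk : k.val + 1 < 11
      · have := qr_small_mem hk
        rwa [Nat.cast_succ] at this
      · have hk10 : k.val = 10 := by omega
        have h11 : ((k.val : ℕ) : ZMod 23) + 1 = 11 := by rw [hk10]; decide
        rw [h11, qr_eleven]
        refine add_mem (add_mem (add_mem (add_mem (add_mem ?_ ?_) ?_) ?_) ?_) ?_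
        · simpa using qr_small_mem (k := 0) (by norm_num)
        · simpa using qr_small_mem (k := 1) (by norm_num)
        · simpa using qr_small_mem (k := 5) (by norm_num)
        · simpa using qr_small_mem (k := 6) (by norm_num)
        · simpa using qr_small_mem (k := 7) (by norm_num)
        · simpa using qr_small_mem (k := 9) (by norm_num)
  induction n with
  | zero => exact qr_small_mem (by norm_num)
  | succ n ih =>
    have := hsh ih
    rw [Submodule.mem_comap, permWord_qr] at this
    rwa [Nat.cast_succ]

lemma finrank_code_le : Module.finrank (ZMod 2) golayCode ≤ 12 := by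
  have h : golayCode ≤ twelveSpan := by
    rw [golayCode, Submodule.span_le]
    rintro w (⟨t, rfl⟩ | rfl)
    · simpa [ZMod.natCast_zmod_val] using qr_mem t.val
    · exact one_mem_twelve
  refine (Submodule.finrank_mono h).trans ?_
  refine (finrank_range_le_card (R := ZMod 2) _).trans ?_
  simp

lemma sum_eq_zero {w : GolayPt → ZMod 2} (hw : w ∈ golayCode) : ∑ p, w p = 0 := by
  have hw' : w ∈ Submodule.span (ZMod 2) (Set.range qrWord ∪ {1}) := hw
  refine Submodule.span_induction (s := Set.range qrWord ∪ {1}) (p := fun w _ => ∑ p, w p = 0)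
    ?_ ?_ ?_ ?_ hw'
  · rintro x (⟨t, rfl⟩ | rfl)
    · revert t
      decide +kernel
    · decide +kernel
  · exact Finset.sum_const_zero
  · intro x y _ _ hx hy
    simp [Finset.sum_add_distrib, hx, hy]
  · intro a x _ hx
    simp [← Finset.mul_sum, hx]

lemma mem_code_perm {w : GolayPt → ZMod 2} (hw : w ∈ golayCode) (n : ℕ) :
    permWord (shift ^ n) w ∈ golayCode := by
  induction n with
  | zero => exact hw
  | succ n ih =>
    have h1 : golayCode ≤ golayCode.comap (permWord shift) := by
      conv_lhs => rw [golayCode]
      rw [Submodule.span_le]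
      rintro x (⟨t, rfl⟩ | rfl)
      · show permWord shift _ ∈ golayCode
        rw [permWord_qr]
        exact Submodule.subset_span (Or.inl ⟨t + 1, rfl⟩)
      · exact Submodule.subset_span (Or.inr rfl)
    have := h1 ih
    rw [pow_succ']
    exact this

lemma shift_pow : shift ^ 23 = 1 := by decide

lemma shift_mem : shift ∈ M24 := by
  rw [MulAction.mem_stabilizer_iff]
  have key : ∀ n : ℕ, ∀ b ∈ supports (golayCode : Set (GolayPt → ZMod 2)),
      (shift ^ n) • b ∈ supports (golayCode : Set (GolayPt → ZMod 2)) := by
    rintro n b ⟨w, hw, rfl⟩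
    refine ⟨permWord (shift ^ n) w, mem_code_perm hw n, ?_⟩
    ext p
    rw [Finset.mem_smul_finset]
    simp only [support₂, Finset.mem_filter, Finset.mem_univ, true_and]
    constructor
    · intro h
      exact ⟨(shift ^ n).symm p, h, Equiv.apply_symm_apply _ _⟩
    · rintro ⟨q, hq, rfl⟩
      show w ((shift ^ n).symm ((shift ^ n) q)) ≠ 0
      rwa [Equiv.symm_apply_apply]
  ext b
  constructor
  · rintro ⟨c, hc, rfl⟩
    simpa using key 1 c hc
  · intro hb
    refine ⟨(shift ^ 22) • b, key 22 b hb, ?_⟩
    show shift • (shift ^ 22) • b = b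
    rw [smul_smul, ← pow_succ', shift_pow, one_smul]

/-- The length-24 code built from the squares modulo 23 contains the all-ones word, and the code modulo the all-ones word is an irreducible module over the field with two elements for the code's automorphism group: a subspace of the code that contains the all-ones word and is invariant under every coordinate permutation preserving the code is either the span of the all-ones word or the whole code. -/
theorem result : (fun _ : Cfsg.GolayPt => (1 : ZMod 2)) ∈ Cfsg.golayCode ∧ ∀ W : Submodule (ZMod 2) (Cfsg.GolayPt → ZMod 2), (fun _ => (1 : ZMod 2)) ∈ W → W ≤ Cfsg.golayCode → (∀ σ ∈ Cfsg.M24, ∀ w ∈ W, (fun p => w (σ.symm p)) ∈ W) → W = Submodule.span (ZMod 2) {fun _ => (1 : ZMod 2)} ∨ W = Cfsg.golayCode := by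
  classical
  refine ⟨Submodule.subset_span (Or.inr rfl), fun W h1 hWC hinv => ?_⟩
  haveI : Fact (Nat.Prime 23) := ⟨by norm_num⟩
  let T : Subgroup (Equiv.Perm GolayPt) := Subgroup.zpowers shift
  have hT : T ≤ M24 := Subgroup.zpowers_le.2 shift_mem
  have hTp : IsPGroup 23 T := by
    apply IsPGroup.of_card (n := 1)
    rw [Nat.card_zpowers, pow_one]
    exact orderOf_eq_prime shift_pow (by decide)
  letI : MulAction T W :=
    { smul := fun g w => ⟨permWord (g : Equiv.Perm GolayPt) w.1, hinv _ (hT g.2) _ w.2⟩
      one_smul := fun w => Subtype.ext rfl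
      mul_smul := fun g h w => Subtype.ext rfl }
  have hmod := hTp.card_modEq_card_fixedPoints W
  have hW1 : (1 : GolayPt → ZMod 2) ∈ W := h1
  have hfix : MulAction.fixedPoints T W = {(0 : W), ⟨1, hW1⟩} := by
    ext w
    constructor
    · intro hw
      have hs : ∀ x : ZMod 23, w.1 (some x) = w.1 (some 0) := by
        intro x
        have e : ∀ y : ZMod 23, w.1 (some (y + 1)) = w.1 (some y) := by
          intro y
          have h := congrFun (congrArg Subtype.val (hw ⟨shift, Subgroup.mem_zpowers _⟩)) (some (y + 1))
          refine h.symm.trans ?_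
          show w.1 (some ((Equiv.addRight (1 : ZMod 23)).symm (y + 1))) = _
          simp
        rw [← ZMod.natCast_zmod_val x]
        induction x.val with
        | zero => simp
        | succ n ih => rw [Nat.cast_succ, e, ih]
      have hsum := sum_eq_zero (hWC w.2)
      rw [Fintype.sum_option, Finset.sum_congr rfl (fun x _ => hs x)] at hsum
      rw [Finset.sum_const, Finset.card_univ, ZMod.card, nsmul_eq_mul] at hsum
      have hab : w.1 none = w.1 (some 0) := by
        revert hsum
        generalize w.1 none = a
        generalize w.1 (some 0) = b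
        revert a b
        decide
      have h01 : w.1 (some 0) = 0 ∨ w.1 (some 0) = 1 := by
        generalize w.1 (some 0) = b
        revert b
        decide
      rcases h01 with h | h
      · left
        apply Subtype.ext
        funext q
        cases q with
        | none => exact hab.trans h
        | some x => exact (hs x).trans h
      · right
        rw [Set.mem_singleton_iff]
        apply Subtype.ext
        funext q
        cases q with
        | none => exact hab.trans h
        | some x => exact (hs x).trans h
    · rintro (rfl | rfl) g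
      · exact Subtype.ext rfl
      · exact Subtype.ext rfl
  have hne : (0 : W) ≠ ⟨1, hW1⟩ := fun h => by
    have := congrFun (congrArg Subtype.val h) none
    simp at this
  rw [Nat.card_coe_set_eq, hfix, Set.ncard_pair hne] at hmod
  rw [Module.natCard_eq_pow_finrank (K := ZMod 2), Nat.card_zmod] at hmod
  have hle : Module.finrank (ZMod 2) W ≤ 12 :=
    (Submodule.finrank_mono hWC).trans finrank_code_le
  have h112 : Module.finrank (ZMod 2) W = 1 ∨ Module.finrank (ZMod 2) W = 12 := by
    unfold Nat.ModEq at hmod
    revert hmod hle
    generalize Module.finrank (ZMod 2) W = k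
    intro hmod hle
    interval_cases k <;> omega
  rcases h112 with h | h
  · left
    symm
    refine Submodule.eq_of_le_of_finrank_le ?_ ?_
    · rw [Submodule.span_singleton_le_iff_mem]
      exact h1
    · rw [h, finrank_span_singleton]
      exact fun h => one_ne_zero (congrFun h none)
  · right
    refine Submodule.eq_of_le_of_finrank_le hWC ?_
    rw [h]
    exact finrank_code_le

end Cfsg.Agent.S5393
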