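import Cfsg.Statements.S5394
import Cfsg.Agent.Lib.GolayInvol.Basic

set_option autoImplicit false
open Cfsg

namespace Cfsg.Agent.S5394

/-- The automorphism group of the length-24 code built from the squares modulo 23 has exactly two conjugacy classes of involutions: an involution either fixes exactly the eight points of an octad or has no fixed points, both kinds occur, and any two involutions of the same kind are conjugate in the group. -/
theorem result : (∀ g ∈ Cfsg.M24, orderOf g = 2 → (Finset.univ.filter fun p => g p = p) ∈ Cfsg.octads ∨ ∀ p, g p ≠ p) ∧ (∃ g ∈ Cfsg.M24, orderOf g = 2 ∧ (Finset.univ.filter fun p => g p = p) ∈ Cfsg.octads) ∧ (∃ g ∈ Cfsg.M24, orderOf g = 2 ∧ ∀ p, g p ≠ p) ∧ ∀ g ∈ Cfsg.M24, ∀ h ∈ Cfsg.M24, orderOf g = 2 → orderOf h = 2 → ((∀ p, g p ≠ p) ↔ (∀ p, h p ≠ p)) → ∃ k ∈ Cfsg.M24, k * g * k⁻¹ = h := by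
  classical
  have hfix : ∀ k r : Equiv.Perm GolayPt, ∀ p, (k * r * k⁻¹) p = p ↔ r (k⁻¹ p) = k⁻¹ p := by
    intro k r p
    rw [Equiv.Perm.mul_apply, Equiv.Perm.mul_apply]
    exact Equiv.apply_eq_iff_eq_symm_apply k
  have hoct : ∀ k ∈ M24, (Finset.univ.filter fun p => (k * GolayInvol.repFix * k⁻¹) p = p) ∈ octads := by
    intro k hk
    have h := Golay.smul_mem_octads hk GolayInvol.fixSet_repFix
    convert h using 1
    ext p
    rw [Finset.mem_filter, ← Finset.inv_smul_mem_iff, Finset.mem_filter, hfix]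
    simp [Equiv.Perm.smul_def]
  have hfree : ∀ k : Equiv.Perm GolayPt, ∀ p, (k * GolayInvol.repFree * k⁻¹) p ≠ p :=
    fun k p h => GolayInvol.repFree_ne _ ((hfix _ _ _).1 h)
  have hord : ∀ r : Equiv.Perm GolayPt, r * r = 1 → r ≠ 1 → orderOf r = 2 := fun r h1 h2 =>
    orderOf_eq_prime (by rw [pow_two]; exact h1) h2
  have hne8 : ∀ g : Equiv.Perm GolayPt, (Finset.univ.filter fun p => g p = p) ∈ octads →
      ¬ ∀ p, g p ≠ p := by
    intro g hg hall
    have h8 := hg.2
    rw [Finset.filter_false_of_mem fun p _ => hall p, Finset.card_empty] at h8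
    omega
  have hRne : GolayInvol.repFix ≠ 1 := by
    intro h
    have h8 := GolayInvol.fixSet_repFix.2
    rw [h, Finset.filter_true_of_mem fun p _ => Equiv.Perm.one_apply p, Finset.card_univ] at h8
    exact absurd h8 (by decide +kernel)
  have hFne : GolayInvol.repFree ≠ 1 := fun h => GolayInvol.repFree_ne none (by rw [h]; rfl)
  refine ⟨fun g hg hg2 => ?_, ⟨GolayInvol.repFix, GolayInvol.repFix_mem,
    hord _ GolayInvol.repFix_sq hRne, GolayInvol.fixSet_repFix⟩,
    ⟨GolayInvol.repFree, GolayInvol.repFree_mem, hord _ GolayInvol.repFree_sq hFne,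
      GolayInvol.repFree_ne⟩, fun g hg h hh hg2 hh2 hiff => ?_⟩
  · obtain ⟨k, hk, rfl | rfl⟩ := GolayInvol.involution_cases hg hg2
    · exact Or.inl (hoct k hk)
    · exact Or.inr (hfree k)
  · obtain ⟨k, hk, rfl | rfl⟩ := GolayInvol.involution_cases hg hg2 <;>
      obtain ⟨l, hl, rfl | rfl⟩ := GolayInvol.involution_cases hh hh2
    · exact ⟨l * k⁻¹, mul_mem hl (inv_mem hk), by group⟩
    · exact absurd (hiff.2 (hfree l)) (hne8 _ (hoct k hk))
    · exact absurd (hiff.1 (hfree k)) (hne8 _ (hoct l hl))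
    · exact ⟨l * k⁻¹, mul_mem hl (inv_mem hk), by group⟩

end Cfsg.Agent.S5394
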