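import Cfsg.Statements.S5396
import Cfsg.Agent.EqLemmas

set_option autoImplicit false
open Cfsg
open scoped commutatorElement

namespace Cfsg.Agent.S5396

/-- The space `F₂^(2(m+1))`. -/
abbrev Sp2 (m : ℕ) : Type := (Fin (m + 1) → ZMod 2) × (Fin (m + 1) → ZMod 2)

/-- The cocycle: plus type for `c = 0`, minus type for `c = 1`. -/
def cocycle {m : ℕ} (c : ZMod 2) (v w : Sp2 m) : ZMod 2 :=
  ∑ i, v.1 i * w.2 i + c * (v.1 0 * w.1 0 + v.2 0 * w.2 0)

variable {m : ℕ} {c : ZMod 2}

theorem cocycle_add_left (u v w : Sp2 m) :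
    cocycle c (u + v) w = cocycle c u w + cocycle c v w := by
  simp only [cocycle, Prod.fst_add, Prod.snd_add, Pi.add_apply, add_mul, Finset.sum_add_distrib]
  ring

theorem cocycle_add_right (u v w : Sp2 m) :
    cocycle c u (v + w) = cocycle c u v + cocycle c u w := by
  simp only [cocycle, Prod.fst_add, Prod.snd_add, Pi.add_apply, mul_add, Finset.sum_add_distrib]
  ring

@[simp] theorem cocycle_zero_left (w : Sp2 m) : cocycle c 0 w = 0 := by simp [cocycle]

@[simp] theorem cocycle_zero_right (w : Sp2 m) : cocycle c w 0 = 0 := by simp [cocycle]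

/-- The central extension of `F₂^(2(m+1))` by `F₂`. -/
@[ext]
structure Ext (m : ℕ) (c : ZMod 2) : Type where
  vec : Sp2 m
  cen : ZMod 2

instance instGroupExt : Group (Ext m c) where
  mul a b := ⟨a.vec + b.vec, a.cen + b.cen + cocycle c a.vec b.vec⟩
  one := ⟨0, 0⟩
  inv a := ⟨a.vec, a.cen + cocycle c a.vec a.vec⟩
  mul_assoc a b d := by
    apply Ext.ext
    · exact add_assoc _ _ _
    · show a.cen + b.cen + cocycle c a.vec b.vec + d.cen + cocycle c (a.vec + b.vec) d.vec =
        a.cen + (b.cen + d.cen + cocycle c b.vec d.vec) + cocycle c a.vec (b.vec + d.vec)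
      rw [cocycle_add_left, cocycle_add_right]
      ring
  one_mul a := by
    apply Ext.ext
    · exact zero_add _
    · show 0 + a.cen + cocycle c 0 a.vec = a.cen
      simp
  mul_one a := by
    apply Ext.ext
    · exact add_zero _
    · show a.cen + 0 + cocycle c a.vec 0 = a.cen
      simp
  inv_mul_cancel a := by
    apply Ext.ext
    · exact ZModModule.add_self a.vec
    · show a.cen + cocycle c a.vec a.vec + a.cen + cocycle c a.vec a.vec = 0
      generalize cocycle c a.vec a.vec = t
      generalize a.cen = s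
      revert t s
      decide

/-- The extension as a product of sets. -/
def extEquiv (m : ℕ) (c : ZMod 2) : Ext m c ≃ Sp2 m × ZMod 2 where
  toFun a := (a.vec, a.cen)
  invFun a := ⟨a.1, a.2⟩

instance instFiniteExt : Finite (Ext m c) := Finite.of_equiv _ (extEquiv m c).symm

@[simp] theorem mul_vec (a b : Ext m c) : (a * b).vec = a.vec + b.vec := rfl
@[simp] theorem mul_cen (a b : Ext m c) :
    (a * b).cen = a.cen + b.cen + cocycle c a.vec b.vec := rfl
@[simp] theorem one_vec : (1 : Ext m c).vec = 0 := rfl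
@[simp] theorem one_cen : (1 : Ext m c).cen = 0 := rfl
@[simp] theorem inv_vec (a : Ext m c) : a⁻¹.vec = a.vec := rfl

/-- The commutator form. -/
def cform (m : ℕ) : Sp2 m →ₗ[ZMod 2] Sp2 m →ₗ[ZMod 2] ZMod 2 :=
  LinearMap.mk₂ (ZMod 2) (fun v w => ∑ i, (v.1 i * w.2 i + v.2 i * w.1 i))
    (fun u v w => by
      simp only [Prod.fst_add, Prod.snd_add, Pi.add_apply, add_mul, Finset.sum_add_distrib]; ring)
    (fun k v w => by
      simp only [Prod.smul_fst, Prod.smul_snd, Pi.smul_apply, smul_eq_mul, Finset.mul_sum]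
      exact Finset.sum_congr rfl fun i _ => by ring)
    (fun u v w => by
      simp only [Prod.fst_add, Prod.snd_add, Pi.add_apply, mul_add, Finset.sum_add_distrib]; ring)
    (fun k v w => by
      simp only [Prod.smul_fst, Prod.smul_snd, Pi.smul_apply, smul_eq_mul, Finset.mul_sum]
      exact Finset.sum_congr rfl fun i _ => by ring)

theorem cform_eq (v w : Sp2 m) : cform m v w = cocycle c v w + cocycle c w v := by
  simp only [cform, LinearMap.mk₂_apply, cocycle, Finset.sum_add_distrib]
  have h : ∀ s : ZMod 2, s + s = 0 := by decide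
  have e : ∑ i, v.2 i * w.1 i = ∑ i, w.1 i * v.2 i := Finset.sum_congr rfl fun i _ => mul_comm _ _
  rw [e]
  linear_combination -(h (c * (v.1 0 * w.1 0 + v.2 0 * w.2 0)))

theorem cform_nondeg {v : Sp2 m} (h : ∀ w, cform m v w = 0) : v = 0 := by
  refine Prod.ext ?_ ?_ <;> funext i
  · have := h (0, Pi.single i 1)
    simpa [cform, Pi.single_apply] using this
  · have := h (Pi.single i 1, 0)
    simpa [cform, Pi.single_apply] using this

theorem mem_center (a : Ext m c) : a ∈ Subgroup.center (Ext m c) ↔ a.vec = 0 := by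
  rw [Subgroup.mem_center_iff]
  constructor
  · intro h
    refine cform_nondeg fun w => ?_
    have h1 := congrArg Ext.cen (h ⟨w, 0⟩)
    simp only [mul_cen] at h1
    rw [cform_eq (c := c)]
    revert h1
    generalize cocycle c w a.vec = s
    generalize cocycle c a.vec w = t
    generalize a.cen = u
    revert s t u
    decide
  · intro h g
    ext1
    · simp [add_comm]
    · simp [h, add_comm]

theorem card_center : Nat.card (Subgroup.center (Ext m c)) = 2 := by
  rw [← Nat.card_zmod 2]
  refine Nat.card_congr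
    { toFun := fun a => a.1.cen
      invFun := fun z => ⟨⟨0, z⟩, (mem_center _).2 rfl⟩
      left_inv := fun a => Subtype.ext (Ext.ext ((mem_center _).1 a.2).symm rfl)
      right_inv := fun z => rfl }

theorem card_ext : Nat.card (Ext m c) = 2 ^ (2 * (m + 1) + 1) := by
  rw [Nat.card_congr (extEquiv m c), Nat.card_prod, Nat.card_prod, Nat.card_fun, Nat.card_zmod,
    Nat.card_fin]
  ring

theorem commutator_eq : commutator (Ext m c) = Subgroup.center (Ext m c) := by
  apply le_antisymm
  · rw [commutator_def, Subgroup.commutator_le]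
    intro a _ b _
    rw [mem_center, commutatorElement_def]
    simp only [mul_vec, inv_vec]
    rw [show a.vec + b.vec + a.vec + b.vec = (a.vec + a.vec) + (b.vec + b.vec) by abel,
      ZModModule.add_self, ZModModule.add_self, add_zero]
  · intro a ha
    rw [mem_center] at ha
    let x : Ext m c := ⟨(Pi.single 0 1, 0), 0⟩
    let y : Ext m c := ⟨(0, Pi.single 0 1), 0⟩
    have hxy : x * y * x⁻¹ * y⁻¹ = ⟨0, 1⟩ := by
      rw [mul_inv_eq_iff_eq_mul, mul_inv_eq_iff_eq_mul]
      ext1
      · simp [x, y, add_comm]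
      · simp [x, y, cocycle, Pi.single_apply]
    have h1 : (⟨0, 1⟩ : Ext m c) ∈ commutator (Ext m c) := by
      rw [← hxy]
      exact Subgroup.commutator_mem_commutator (Subgroup.mem_top x) (Subgroup.mem_top y)
    have h01 : a.cen = 0 ∨ a.cen = 1 := by generalize a.cen = z; revert z; decide
    rcases h01 with h | h
    · rw [show a = 1 from Ext.ext ha h]
      exact one_mem _
    · rwa [show a = ⟨0, 1⟩ from Ext.ext ha h]

theorem frattini_eq : frattini (Ext m c) = Subgroup.center (Ext m c) := by
  apply le_antisymm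
  · intro a ha
    rw [mem_center]
    have key : ∀ ℓ : Sp2 m →ₗ[ZMod 2] ZMod 2, ℓ a.vec = 0 := by
      intro ℓ
      let K : Subgroup (Ext m c) :=
        { carrier := {b | ℓ b.vec = 0}
          one_mem' := map_zero ℓ
          mul_mem' := fun {x y} hx hy => by
            show ℓ (x.vec + y.vec) = 0
            rw [map_add, show ℓ x.vec = 0 from hx, show ℓ y.vec = 0 from hy, add_zero]
          inv_mem' := fun {x} hx => hx }
      by_contra hne
      have hK : IsCoatom K := by
        refine ⟨fun h => hne (show a ∈ K from h ▸ Subgroup.mem_top a), fun L hL => ?_⟩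
        obtain ⟨b, hbL, hbK⟩ := SetLike.exists_of_lt hL
        rw [eq_top_iff]
        intro d _
        by_cases hd : d ∈ K
        · exact hL.le hd
        · have : d * b⁻¹ ∈ K := by
            show ℓ (d.vec + b⁻¹.vec) = 0
            rw [inv_vec, map_add]
            have hd' : ℓ d.vec ≠ 0 := hd
            have hb' : ℓ b.vec ≠ 0 := hbK
            revert hd' hb'
            generalize ℓ d.vec = s
            generalize ℓ b.vec = t
            revert s t
            decide
          have := L.mul_mem (hL.le this) hbL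
          rwa [inv_mul_cancel_right] at this
      exact hne (frattini_le_coatom hK ha)
    refine cform_nondeg fun w => ?_
    exact key (LinearMap.applyₗ w ∘ₗ cform m)
  · refine le_iInf fun M => le_iInf fun hM => ?_
    by_contra hle
    have htop : M ⊔ Subgroup.center (Ext m c) = ⊤ :=
      hM.2 _ (lt_of_le_of_ne le_sup_left fun h => hle (h ▸ le_sup_right))
    have hcomm : commutator (Ext m c) ≤ M := by
      rw [commutator_def, Subgroup.commutator_le]
      intro a _ b _
      have ha : a ∈ M ⊔ Subgroup.center (Ext m c) := htop ▸ Subgroup.mem_top a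
      have hb : b ∈ M ⊔ Subgroup.center (Ext m c) := htop ▸ Subgroup.mem_top b
      rw [Subgroup.mem_sup_of_normal_right] at ha hb
      obtain ⟨x, hx, z, hz, rfl⟩ := ha
      obtain ⟨y, hy, z', hz', rfl⟩ := hb
      have hzc := Subgroup.mem_center_iff.1 hz
      have hzc' := Subgroup.mem_center_iff.1 hz'
      have : ⁅x * z, y * z'⁆ = ⁅x, y⁆ := by
        simp only [commutatorElement_def]
        calc x * z * (y * z') * (x * z)⁻¹ * (y * z')⁻¹
            = x * ((z * y) * z') * z⁻¹ * x⁻¹ * z'⁻¹ * y⁻¹ := by group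
          _ = x * y * (z * z') * z⁻¹ * x⁻¹ * z'⁻¹ * y⁻¹ := by rw [← hzc y]; group
          _ = x * y * (z' * z) * z⁻¹ * x⁻¹ * z'⁻¹ * y⁻¹ := by rw [hzc' z]
          _ = x * y * ((z' * x⁻¹) * z'⁻¹) * y⁻¹ := by group
          _ = x * y * x⁻¹ * y⁻¹ := by rw [← hzc' x⁻¹]; group
      rw [this, commutatorElement_def]
      exact M.mul_mem (M.mul_mem (M.mul_mem hx hy) (M.inv_mem hx)) (M.inv_mem hy)
    rw [commutator_eq] at hcomm
    exact hle hcomm

theorem isExtraspecial : IsExtraspecial 2 (Ext m c) :=
  ⟨⟨IsPGroup.of_card card_ext, frattini_eq, commutator_eq⟩, card_center⟩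

/-- The sign of an element of `ZMod 2`. -/
def sgn (z : ZMod 2) : ℤ := if z = 0 then 1 else -1

theorem sgn_add (a b : ZMod 2) : sgn (a + b) = sgn a * sgn b := by revert a b; decide

/-- `W` is totally singular for the square map. -/
def TotSing (c : ZMod 2) (W : Submodule (ZMod 2) (Sp2 m)) : Prop :=
  ∀ v ∈ W, cocycle c v v = 0

theorem TotSing.cform {W : Submodule (ZMod 2) (Sp2 m)} (hW : TotSing c W) {v w : Sp2 m}
    (hv : v ∈ W) (hw : w ∈ W) : cform m v w = 0 := by
  rw [cform_eq (c := c)]
  have h := hW _ (add_mem hv hw)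
  rw [cocycle_add_left, cocycle_add_right, cocycle_add_right, hW v hv, hW w hw] at h
  simpa using h

/-- `v ↦ B(v, ·)` restricted to `W`. -/
def restrictForm (W : Submodule (ZMod 2) (Sp2 m)) : Sp2 m →ₗ[ZMod 2] Module.Dual (ZMod 2) W :=
  W.subtype.dualMap ∘ₗ (cform m)

theorem finrank_restrictForm (W : Submodule (ZMod 2) (Sp2 m)) :
    Module.finrank (ZMod 2) W + Module.finrank (ZMod 2) (LinearMap.ker (restrictForm W))
      = 2 * (m + 1) := by
  have hinj : Function.Injective (cform m) := by
    intro v w h
    have : ∀ u, cform m (v - w) u = 0 := fun u => by rw [map_sub, h, sub_self]; rfl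
    exact sub_eq_zero.1 (cform_nondeg this)
  have hsurj : Function.Surjective (cform m) :=
    (LinearMap.injective_iff_surjective_of_finrank_eq_finrank Subspace.dual_finrank_eq.symm).1 hinj
  have hs : Function.Surjective (restrictForm W) :=
    (LinearMap.dualMap_surjective_of_injective W.injective_subtype).comp hsurj
  have h := LinearMap.finrank_range_add_finrank_ker (restrictForm W)
  rw [LinearMap.range_eq_top.2 hs, finrank_top, Subspace.dual_finrank_eq] at h
  rw [h]
  simp [Module.finrank_prod, two_mul]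

theorem TotSing.le_ker {W : Submodule (ZMod 2) (Sp2 m)} (hW : TotSing c W) :
    W ≤ LinearMap.ker (restrictForm W) := by
  intro v hv
  rw [LinearMap.mem_ker]
  ext w
  exact hW.cform hv w.2

theorem TotSing.finrank_le {W : Submodule (ZMod 2) (Sp2 m)} (hW : TotSing c W) :
    Module.finrank (ZMod 2) W ≤ m + 1 := by
  have h1 := finrank_restrictForm W
  have h2 := Submodule.finrank_mono hW.le_ker
  omega

theorem gauss {W : Submodule (ZMod 2) (Sp2 m)} (hW : TotSing c W)
    (hdim : Module.finrank (ZMod 2) W = m + 1) :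
    ∑ v : Sp2 m, sgn (cocycle c v v) = (Nat.card W : ℤ) := by
  classical
  have hker : LinearMap.ker (restrictForm W) = W := by
    refine (Submodule.eq_of_le_of_finrank_le hW.le_ker ?_).symm
    have h1 := finrank_restrictForm W
    omega
  have hsum : ∀ v, ∑ w : W, sgn (restrictForm W v w) = if v ∈ W then (Nat.card W : ℤ) else 0 := by
    intro v
    split_ifs with hv
    · rw [← hker, LinearMap.mem_ker] at hv
      simp [hv, sgn, Nat.card_eq_fintype_card]
    · rw [← hker, LinearMap.mem_ker] at hv
      obtain ⟨u, hu⟩ : ∃ u : W, restrictForm W v u ≠ 0 := by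
        by_contra h
        push Not at h
        exact hv (LinearMap.ext h)
      have hu1 : restrictForm W v u = 1 := by
        revert hu; generalize restrictForm W v u = z; revert z; decide
      have h := Equiv.sum_comp (Equiv.addRight u) (fun w : W => sgn (restrictForm W v w))
      simp only [Equiv.coe_addRight, map_add, sgn_add, hu1, ← Finset.sum_mul] at h
      have hs1 : sgn 1 = -1 := by decide
      rw [hs1] at h
      linarith
  have hshift : ∀ (v : Sp2 m) (w : W), sgn (cocycle c (v + (w : Sp2 m)) (v + (w : Sp2 m))) =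
      sgn (cocycle c v v) * sgn (restrictForm W v w) := by
    intro v w
    rw [cocycle_add_left, cocycle_add_right, cocycle_add_right, hW w w.2, add_zero,
      show restrictForm W v w = cform m v w from rfl, cform_eq (c := c), ← sgn_add]
    congr 1
    ring
  have hpos : (0 : ℤ) < Nat.card W := by exact_mod_cast Nat.card_pos
  have hmain : (Nat.card W : ℤ) * ∑ v : Sp2 m, sgn (cocycle c v v) = Nat.card W * Nat.card W := by
    calc (Nat.card W : ℤ) * ∑ v : Sp2 m, sgn (cocycle c v v)
        = ∑ w : W, ∑ v : Sp2 m, sgn (cocycle c (v + (w : Sp2 m)) (v + (w : Sp2 m))) := by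
          have e : ∀ w : W, ∑ v : Sp2 m, sgn (cocycle c (v + (w : Sp2 m)) (v + (w : Sp2 m))) =
              ∑ v : Sp2 m, sgn (cocycle c v v) := fun w =>
            Equiv.sum_comp (Equiv.addRight (w : Sp2 m)) (fun v : Sp2 m => sgn (cocycle c v v))
          rw [Finset.sum_congr rfl (fun (w : W) _ => e w), Finset.sum_const, Finset.card_univ,
            nsmul_eq_mul, Nat.card_eq_fintype_card]
      _ = ∑ v : Sp2 m, sgn (cocycle c v v) * ∑ w : W, sgn (restrictForm W v w) := by
          rw [Finset.sum_comm]
          simp only [hshift, Finset.mul_sum]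
      _ = _ := by
          simp only [hsum, mul_ite, mul_zero]
          rw [Finset.sum_ite, Finset.sum_const_zero, add_zero]
          have h1 : ∀ v ∈ Finset.univ.filter (fun v : Sp2 m => v ∈ W),
              sgn (cocycle c v v) * (Nat.card W : ℤ) = Nat.card W := by
            intro v hv
            rw [Finset.mem_filter] at hv
            simp [hW v hv.2, sgn]
          rw [Finset.sum_congr rfl h1, Finset.sum_const, nsmul_eq_mul]
          congr 2
          rw [Nat.card_eq_fintype_card, Fintype.card_subtype]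
  exact mul_left_cancel₀ hpos.ne' hmain

/-- The first half of the space. -/
def half (m : ℕ) : Submodule (ZMod 2) (Sp2 m) := LinearMap.ker (LinearMap.snd (ZMod 2) _ _)

theorem half_totSing : TotSing (0 : ZMod 2) (half m) := by
  intro v hv
  have : v.2 = 0 := hv
  simp [cocycle, this]

theorem finrank_half : Module.finrank (ZMod 2) (half m) = m + 1 := by
  have h := LinearMap.finrank_range_add_finrank_ker
    (LinearMap.snd (ZMod 2) (Fin (m + 1) → ZMod 2) (Fin (m + 1) → ZMod 2))
  rw [LinearMap.range_eq_top.2 LinearMap.snd_surjective, finrank_top] at h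
  simp [Module.finrank_prod] at h
  exact h

theorem minus_finrank_le {W : Submodule (ZMod 2) (Sp2 m)} (hW : TotSing (1 : ZMod 2) W) :
    Module.finrank (ZMod 2) W ≤ m := by
  by_contra hgt
  have hdim : Module.finrank (ZMod 2) W = m + 1 := by have := hW.finrank_le; omega
  let u : Sp2 m := (Pi.single 0 1, Pi.single 0 1)
  have key : ∀ v : Sp2 m, sgn (cocycle 0 (v + u) (v + u)) = - sgn (cocycle 1 v v) := by
    intro v
    rw [show -sgn (cocycle 1 v v) = sgn (cocycle 1 v v) * sgn 1 by
      rw [show sgn 1 = -1 by decide]; ring, ← sgn_add]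
    congr 1
    rw [cocycle_add_left, cocycle_add_right, cocycle_add_right]
    simp only [cocycle, u, Pi.single_apply, mul_ite, mul_one, mul_zero, ite_mul, one_mul, zero_mul,
      Finset.sum_ite_eq', Finset.mem_univ, if_true, add_zero]
    generalize (∑ i, v.1 i * v.2 i) = s
    generalize v.1 0 = x
    generalize v.2 0 = y
    revert s x y
    decide
  have h0 := gauss half_totSing (finrank_half (m := m))
  rw [← Equiv.sum_comp (Equiv.addRight u) (fun v => sgn (cocycle 0 v v))] at h0
  simp only [Equiv.coe_addRight, key, Finset.sum_neg_distrib, gauss hW hdim] at h0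
  have h1 : 0 < Nat.card W := Nat.card_pos
  omega

/-- The image in the space of a subgroup. -/
def image (A : Subgroup (Ext m c)) : Submodule (ZMod 2) (Sp2 m) where
  carrier := Ext.vec '' (A : Set (Ext m c))
  zero_mem' := ⟨1, A.one_mem, rfl⟩
  add_mem' := by
    rintro _ _ ⟨a, ha, rfl⟩ ⟨b, hb, rfl⟩
    exact ⟨a * b, A.mul_mem ha hb, rfl⟩
  smul_mem' := by
    rintro k _ ⟨a, ha, rfl⟩
    have : k = 0 ∨ k = 1 := by revert k; decide
    rcases this with rfl | rfl
    · exact ⟨1, A.one_mem, by simp⟩
    · exact ⟨a, ha, by simp⟩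

theorem image_totSing {A : Subgroup (Ext m c)} (hA : IsElementaryAbelian 2 A) :
    TotSing c (image A) := by
  rintro _ ⟨a, ha, rfl⟩
  have h := congrArg Ext.cen (hA.2 a ha)
  rw [pow_two, mul_cen, one_cen] at h
  revert h
  generalize cocycle c a.vec a.vec = s
  generalize a.cen = t
  revert s t
  decide

theorem card_le (A : Subgroup (Ext m c)) :
    Nat.card A ≤ 2 ^ (Module.finrank (ZMod 2) (image A) + 1) := by
  have h : Nat.card A ≤ Nat.card (image A × ZMod 2) :=
    Nat.card_le_card_of_injective (fun a => (⟨a.1.vec, a.1, a.2, rfl⟩, a.1.cen)) fun a b h => by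
      simp only [Prod.mk.injEq] at h
      exact Subtype.ext (Ext.ext (congrArg Subtype.val h.1) h.2)
  rwa [Nat.card_prod, Module.natCard_eq_pow_finrank (K := ZMod 2) (V := image A), Nat.card_zmod,
    ← pow_succ] at h

/-- The preimage of a totally singular subspace. -/
def preimage (W : Submodule (ZMod 2) (Sp2 m)) : Subgroup (Ext m c) where
  carrier := {a | a.vec ∈ W}
  one_mem' := W.zero_mem
  mul_mem' := fun ha hb => W.add_mem ha hb
  inv_mem' := fun ha => ha

theorem preimage_elemAbelian {W : Submodule (ZMod 2) (Sp2 m)} (hW : TotSing c W) :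
    IsElementaryAbelian 2 (preimage W : Subgroup (Ext m c)) := by
  refine ⟨⟨⟨fun a b => Subtype.ext (Ext.ext (add_comm _ _) ?_)⟩⟩, fun a ha => ?_⟩
  · show a.1.cen + b.1.cen + cocycle c a.1.vec b.1.vec = b.1.cen + a.1.cen + cocycle c b.1.vec a.1.vec
    have h := hW.cform a.2 b.2
    rw [cform_eq (c := c)] at h
    revert h
    generalize cocycle c a.1.vec b.1.vec = s
    generalize cocycle c b.1.vec a.1.vec = t
    generalize a.1.cen = x
    generalize b.1.cen = y
    revert s t x y
    decide
  · rw [pow_two]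
    ext1
    · exact ZModModule.add_self a.vec
    · rw [mul_cen, hW a.vec ha, add_zero, one_cen]
      exact ZModModule.add_self a.cen

theorem card_preimage (W : Submodule (ZMod 2) (Sp2 m)) :
    Nat.card (preimage W : Subgroup (Ext m c)) = 2 ^ (Module.finrank (ZMod 2) W + 1) := by
  rw [Nat.card_congr (β := W × ZMod 2)
    { toFun := fun a => (⟨a.1.vec, a.2⟩, a.1.cen)
      invFun := fun a => ⟨⟨a.1.1, a.2⟩, a.1.2⟩ },
    Nat.card_prod, Module.natCard_eq_pow_finrank (K := ZMod 2) (V := W), Nat.card_zmod, pow_succ]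

theorem rank_eq {r : ℕ} (W : Submodule (ZMod 2) (Sp2 m)) (hW : TotSing c W)
    (hr : Module.finrank (ZMod 2) W + 1 = r)
    (hmax : ∀ W' : Submodule (ZMod 2) (Sp2 m), TotSing c W' →
      Module.finrank (ZMod 2) W' + 1 ≤ r) :
    sSup {k : ℕ | ∃ A : Subgroup (Ext m c), IsElementaryAbelian 2 A ∧ Nat.card A = 2 ^ k} = r := by
  refine IsGreatest.csSup_eq ⟨⟨preimage W, preimage_elemAbelian hW, by rw [card_preimage, hr]⟩, ?_⟩
  rintro k ⟨A, hA, hk⟩
  have h1 := card_le A
  rw [hk, Nat.pow_le_pow_iff_right (by norm_num)] at h1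
  exact h1.trans (hmax _ (image_totSing hA))

/-- A subspace of the first half avoiding the distinguished coordinate. -/
def halfMinus (m : ℕ) : Submodule (ZMod 2) (Sp2 m) :=
  LinearMap.ker ((LinearMap.proj 0 ∘ₗ LinearMap.fst (ZMod 2) _ _).prod (LinearMap.snd (ZMod 2) _ _))

theorem halfMinus_totSing : TotSing (1 : ZMod 2) (halfMinus m) := by
  intro v hv
  have h : (v.1 0, v.2) = (0, 0) := hv
  rw [Prod.mk.injEq] at h
  simp [cocycle, h.1, h.2]

theorem finrank_halfMinus : Module.finrank (ZMod 2) (halfMinus m) = m := by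
  refine le_antisymm (minus_finrank_le halfMinus_totSing) ?_
  have h := LinearMap.finrank_range_add_finrank_ker
    ((LinearMap.proj 0 ∘ₗ LinearMap.fst (ZMod 2) _ _).prod (LinearMap.snd (ZMod 2) _ _) :
      Sp2 m →ₗ[ZMod 2] ZMod 2 × (Fin (m + 1) → ZMod 2))
  have h2 := Submodule.finrank_le (LinearMap.range
    ((LinearMap.proj 0 ∘ₗ LinearMap.fst (ZMod 2) _ _).prod (LinearMap.snd (ZMod 2) _ _) :
      Sp2 m →ₗ[ZMod 2] ZMod 2 × (Fin (m + 1) → ZMod 2)))
  rw [Module.finrank_prod, Module.finrank_self, Module.finrank_fintype_fun_eq_card, Fintype.card_fin] at h2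
  rw [Module.finrank_prod, Module.finrank_fintype_fun_eq_card, Fintype.card_fin] at h
  have key : m ≤ Module.finrank (ZMod 2) (LinearMap.ker
    ((LinearMap.proj 0 ∘ₗ LinearMap.fst (ZMod 2) _ _).prod (LinearMap.snd (ZMod 2) _ _) :
      Sp2 m →ₗ[ZMod 2] ZMod 2 × (Fin (m + 1) → ZMod 2))) := by omega
  exact key

/-- For every n ≥ 1 there exist finite extraspecial 2-groups of order 2^(2n+1) whose 2-rank (the largest rank of an elementary abelian subgroup) is n, and ones whose 2-rank is n + 1 (so for each such order there are two non-isomorphic extraspecial 2-groups, told apart by their 2-rank). -/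
theorem result (n : ℕ) (hn : 1 ≤ n) : ∀ r ∈ ({n, n + 1} : Set ℕ), ∃ (E : Type) (_ : Group E) (_ : Finite E), Cfsg.IsExtraspecial 2 E ∧ Nat.card E = 2 ^ (2 * n + 1) ∧ sSup {k : ℕ | ∃ A : Subgroup E, Cfsg.IsElementaryAbelian 2 A ∧ Nat.card A = 2 ^ k} = r := by
  obtain ⟨m, rfl⟩ : ∃ m, n = m + 1 := ⟨n - 1, by omega⟩
  intro r hr
  simp only [Set.mem_insert_iff, Set.mem_singleton_iff] at hr
  rcases hr with rfl | rfl
  · exact ⟨Ext m 1, inferInstance, inferInstance, isExtraspecial, card_ext,
      rank_eq (halfMinus m) halfMinus_totSing (by rw [finrank_halfMinus])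
        fun W hW => Nat.succ_le_succ (minus_finrank_le hW)⟩
  · exact ⟨Ext m 0, inferInstance, inferInstance, isExtraspecial, card_ext,
      rank_eq (half m) half_totSing (by rw [finrank_half])
        fun W hW => Nat.succ_le_succ hW.finrank_le⟩

end Cfsg.Agent.S5396
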