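import Cfsg.Statements.S5450
import Cfsg.Agent.EqLemmas
import Cfsg.Agent.Lib.U62Fischer.Cent
import Cfsg.Agent.Lib.Symplectic.FStarFour
-- import your own Cfsg.Agent.* helpers here

set_option autoImplicit false
open Cfsg

namespace Cfsg.Agent.S5450

/-- Let G be a finite group of large Fischer type at the involution z: the generalized Fitting subgroup Q of H = C_G(z) is extraspecial of order 2^13, H has normal subgroups Q ≤ H₁ ≤ H₂ with H₁/Q of order 3, H₂/H₁ the projective special unitary group of dimension 4 over the field with nine elements and H₂ of index 2 in H, and some conjugate of z other than z lies in Q. Let t be an involution of Q not conjugate to z in G, and K the generalized Fitting subgroup of the centralizer of t. Then K is quasisimple of index 2 in the centralizer of t, contains t, and the centralizer of t modulo the subgroup generated by t is isomorphic to the full automorphism group of the Fischer group Fi₂₂ (as presented). -/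
theorem result {G : Type*} [Group G] [Finite G] (z : G) (Q : Subgroup (Subgroup.centralizer ({z} : Set G))) [Q.Normal] (hF : Cfsg.IsOfLargeFischerTypeAt z Q) (t : G) (htQ : ∃ htc : t ∈ Subgroup.centralizer ({z} : Set G), (⟨t, htc⟩ : Subgroup.centralizer ({z} : Set G)) ∈ Q) (ht2 : orderOf t = 2) (ht : ¬ IsConj z t) (K : Subgroup ↥(Subgroup.centralizer ({t} : Set G))) (hK : K = Cfsg.generalizedFittingSubgroup ↥(Subgroup.centralizer ({t} : Set G))) [hn : ((Subgroup.zpowers t).subgroupOf (Subgroup.centralizer ({t} : Set G))).Normal] : Cfsg.IsQuasisimple ↥K ∧ K.index = 2 ∧ (∃ htc : t ∈ Subgroup.centralizer ({t} : Set G), (⟨t, htc⟩ : ↥(Subgroup.centralizer ({t} : Set G))) ∈ K) ∧ Nonempty (↥(Subgroup.centralizer ({t} : Set G)) ⧸ (Subgroup.zpowers t).subgroupOf (Subgroup.centralizer ({t} : Set G)) ≃* MulAut Cfsg.Spor.Fi22) := by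
  haveI : Fact (Cfsg.IsExtraspecial 2 Q) := ⟨hF.1.2.2.1⟩
  obtain ⟨S⟩ := LargeFischer.exists_setting hF
  obtain ⟨htc, htQ'⟩ := htQ
  have ht2' : t * t = 1 := by rw [← pow_two, ← ht2, pow_orderOf_eq_one]
  have ht1 : t ≠ 1 := fun h => by rw [h, orderOf_one] at ht2; exact absurd ht2 (by norm_num)
  obtain ⟨g, u, F⟩ := U62Fischer.exists_four_conj hF S (t := t) ⟨⟨t, htc⟩, htQ', rfl⟩ ht2' ht1 ht
  obtain ⟨t', hte⟩ : ∃ t', t' = g * t * g⁻¹ := ⟨_, rfl⟩
  rw [← hte] at F
  have hmap : (Subgroup.centralizer ({t} : Set G)).map (MulAut.conj g).toMonoidHom =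
      Subgroup.centralizer ({t'} : Set G) := by
    subst hte
    ext x
    simp only [Subgroup.mem_map, MulEquiv.coe_toMonoidHom, MulAut.conj_apply, Subgroup.mem_centralizer_singleton_iff]
    refine ⟨?_, fun hx => ⟨g⁻¹ * x * g, ?_, by group⟩⟩
    · rintro ⟨y, hy, rfl⟩
      calc g * y * g⁻¹ * (g * t * g⁻¹) = g * (y * t) * g⁻¹ := by group
        _ = _ := by rw [hy]; group
    · calc g⁻¹ * x * g * t = g⁻¹ * (x * (g * t * g⁻¹)) * g := by group
        _ = _ := by rw [hx]; group
  let e : ↥(Subgroup.centralizer ({t} : Set G)) ≃* ↥(Subgroup.centralizer ({t'} : Set G)) :=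
    ((MulAut.conj g).subgroupMap _).trans (MulEquiv.subgroupCongr hmap)
  have hes : e (U62Fischer.selfC t) = U62Fischer.selfC t' := Subtype.ext hte.symm
  have hT : (Subgroup.zpowers t).subgroupOf (Subgroup.centralizer ({t} : Set G)) =
      Subgroup.zpowers (U62Fischer.selfC t) := by
    refine le_antisymm (fun x hx => ?_) (Subgroup.zpowers_le.2 (Subgroup.mem_zpowers t))
    obtain ⟨i, hi⟩ := Subgroup.mem_zpowers_iff.1 (Subgroup.mem_subgroupOf.1 hx)
    exact Subgroup.mem_zpowers_iff.2 ⟨i, Subtype.ext hi⟩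
  have hTmap : ((Subgroup.zpowers t).subgroupOf (Subgroup.centralizer ({t} : Set G))).map e.toMonoidHom =
      Subgroup.zpowers (U62Fischer.selfC t') := by
    rw [hT, MonoidHom.map_zpowers]
    exact congrArg Subgroup.zpowers hes
  haveI : (Subgroup.zpowers (U62Fischer.selfC t')).Normal := hTmap ▸ hn.map _ e.surjective
  obtain ⟨Y0, hY, hq, hidx, htY, ⟨iso⟩⟩ := F.cent_structure
  have hKY : K.map e.toMonoidHom = Y0 := by rw [hK, Symplectic.generalizedFitting_map_equiv, hY]
  have hKe : Y0.comap e.toMonoidHom = K := by rw [← hKY, Subgroup.comap_map_eq_self_of_injective e.injective]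
  refine ⟨(Components.isQuasisimple_congr ((K.equivMapOfInjective e.toMonoidHom e.injective).trans
    (MulEquiv.subgroupCongr hKY))).2 hq, ?_, ⟨Subgroup.mem_centralizer_singleton_iff.2 rfl, ?_⟩,
    ⟨(QuotientGroup.congr _ _ e hTmap).trans iso⟩⟩
  · rw [← hKe, Subgroup.index_comap_of_surjective _ e.surjective, hidx]
  · rw [← hKe, Subgroup.mem_comap]
    exact hes ▸ htY

end Cfsg.Agent.S5450
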