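import Cfsg.Statements.S5405
import Cfsg.Agent.Lib.BitMat.H1

set_option autoImplicit false
open scoped MatrixGroups
open Cfsg

namespace Cfsg.Agent.S5405

section Helpers

open Matrix Cfsg.Agent.Orth Cfsg.Agent.BitMat
open QuadraticMap (polar)
open scoped commutatorElement

/-- A standard basis vector. -/
def ev {ι : Type} [DecidableEq ι] (i : ι) : ι → ZMod 2 := Pi.single i 1

/-- The family of Eichler transformations attached to a basis of the orthogonal of a pair. -/
noncomputable def gensOf {ι : Type} [Fintype ι] [DecidableEq ι] (Q : QuadraticForm (ZMod 2) (ι → ZMod 2))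
    {m : ℕ} (e f : ι → ZMod 2) (b : Fin m → ι → ZMod 2) (s : Fin (m + m)) : IsoGrp Q :=
  Fin.append (fun i => eich Q e (b i)) (fun i => eich Q f (b i)) s

theorem gensOf_mat {ι : Type} [Fintype ι] [DecidableEq ι] {Q : QuadraticForm (ZMod 2) (ι → ZMod 2)}
    {m n : ℕ} (ε : ι ≃ Fin n) {e f : ι → ZMod 2} {b : Fin m → ι → ZMod 2}
    (h : HPair Q e f) (hb : ∀ i, polar ⇑Q e (b i) = 0 ∧ polar ⇑Q f (b i) = 0)
    (L : Fin (m + m) → List ℕ) (he : ∀ i, eichMat Q e (b i) = toMat ε (L (Fin.castAdd m i)))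
    (hf : ∀ i, eichMat Q f (b i) = toMat ε (L (Fin.natAdd m i))) (s : Fin (m + m)) :
    ((gensOf Q e f b s : GL ι (ZMod 2)) : Matrix ι ι (ZMod 2)) = toMat ε (L s) := by
  induction s using Fin.addCases with
  | left i => rw [gensOf, Fin.append_left, eich_mat h.qe (hb i).1]; exact he i
  | right i => rw [gensOf, Fin.append_right, eich_mat h.qf (hb i).2]; exact hf i

theorem eichPair_eq_closure {ι : Type} [Fintype ι] [DecidableEq ι]
    {Q : QuadraticForm (ZMod 2) (ι → ZMod 2)} {m : ℕ} {e f : ι → ZMod 2}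
    {b : Fin m → ι → ZMod 2} (h : HPair Q e f)
    (hb : ∀ i, polar ⇑Q e (b i) = 0 ∧ polar ⇑Q f (b i) = 0)
    (hspan : ∀ w, polar ⇑Q e w = 0 → polar ⇑Q f w = 0 → ∃ c : Fin m → ZMod 2, w = ∑ i, c i • b i) :
    eichPair Q e f = Subgroup.closure (Set.range (gensOf Q e f b)) := by
  refine le_antisymm ((Subgroup.closure_le _).2 ?_) ((Subgroup.closure_le _).2 ?_)
  · rintro _ ⟨w, hw, hg⟩
    obtain ⟨c, rfl⟩ := hspan w (mem_perp.1 hw).1 (mem_perp.1 hw).2
    rcases hg with rfl | rfl
    · refine eich_mem_of_basis h.qe b (fun i => (hb i).1) (fun i => ?_) c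
      exact Subgroup.subset_closure ⟨Fin.castAdd m i, Fin.append_left ..⟩
    · refine eich_mem_of_basis h.qf b (fun i => (hb i).2) (fun i => ?_) c
      exact Subgroup.subset_closure ⟨Fin.natAdd m i, Fin.append_right ..⟩
  · rintro _ ⟨s, rfl⟩
    induction s using Fin.addCases with
    | left i =>
      rw [gensOf, Fin.append_left]
      exact eich_left_mem_eichPair (mem_perp.2 (hb i))
    | right i =>
      rw [gensOf, Fin.append_right]
      exact eich_right_mem_eichPair (mem_perp.2 (hb i))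

/-! ### dimension 8 -/

/-- Coordinates. -/
def e8 : Fin 4 ⊕ Fin 4 ≃ Fin 8 := finSumFinEquiv

/-- Basis of the orthogonal of the first pair. -/
def b8 : Fin 6 → Fin 4 ⊕ Fin 4 → ZMod 2 :=
  ![ev (.inl 1), ev (.inl 2), ev (.inl 3), ev (.inr 1), ev (.inr 2), ev (.inr 3)]

def gL8 (s : Fin 12) : List ℕ :=
  [[1, 2, 4, 8, 18, 33, 64, 128],
    [1, 2, 4, 8, 20, 32, 65, 128],
    [1, 2, 4, 8, 24, 32, 64, 129],
    [1, 3, 4, 8, 48, 32, 64, 128],
    [1, 2, 5, 8, 80, 32, 64, 128],
    [1, 2, 4, 9, 144, 32, 64, 128],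
    [3, 2, 4, 8, 16, 48, 64, 128],
    [5, 2, 4, 8, 16, 32, 80, 128],
    [9, 2, 4, 8, 16, 32, 64, 144],
    [33, 18, 4, 8, 16, 32, 64, 128],
    [65, 2, 20, 8, 16, 32, 64, 128],
    [129, 2, 4, 24, 16, 32, 64, 128]].getD s []

def kt8 : Bool → List (Fin 12)
  | false => [11, 2, 1, 5, 4, 10, 9, 0, 7, 4]
  | true => [10, 11, 1]

def words8 (s : Fin 12) : List Bool :=
  [[false, false, false, false, false, true, true, false, true, false, true, false, true, false, false, false, true, false, true, false, false, true, false, true, false, true, false, true, false, false, true, true],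
    [false, true, true, false, true, false, false, false, true, false, false, true, false, false, true, false, false, false, true, false, false, true, false, false, true, false, true, true, false, true],
    [false, false, false, true, true, false, false, true, false, false, true, false, true, false, false, true, true, false, false, false, false, true, true, false, false, false, false, true, false, true, false, true],
    [false, false, false, false, true, false, false, false, false, false, false, true, true, false, true, false, false, false, false, false, false, false, true, true, false, false, true, false, true, false],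
    [true, false, false, true, false, false, true, false, false, true, true, false, false, false, false, false, false, true, false, false, true, false, false, true, true, false, false, false, false, true, true],
    [false, false, false, true, true, false, false, false, false, false, true, true, false, true, false, false, false, true, false, true, false, false, true, false, false, false, true, true, false],
    [false, true, false, true, false, true, true, false, true, false, true, false, true, false, false, false, false, false, false, true, false, false, false, true, true, false, false, false, true, true],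
    [false, true, false, true, false, false, false, true, true, false, false, true, false, false, true, false, true, false, false, true, true, false, false, false, false, true, true, false, false, false, false, true],
    [false, true, false, false, true, false, false, false, true, true, false, true, false, true, false, false, true, false, true, false, true, false, true, false, false, false, false, false, true],
    [true, false, false, true, false, true, false, true, false, true, false, false, true, true, false, false, true, false, true, false, false, false, true, true, false, true, false, true, false],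
    [true, false, false, false, false, false, false, false, true, true, false, false, true, false, false, true, false, true, true, false, false, false, false, true, false, false, true],
    [false, false, false, true, true, false, true, false, false, false, false, false, false, false, true, true, false, false, true, false, true, false, false, false, false, false, true, false, false, false]].getD s []

def inv8 : List ℕ := [135, 192, 36, 57, 136, 56, 24, 7]

def rels8 : List (List Bool × List ℕ) :=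
  [([true, true, true], [0, 194, 29, 0, 0, 241, 0, 132]),
    ([false, false, false, true, false, false, false, true, false, false, false, true, false, false, false, true, false, false, false, true, false, false, false, true], [197, 0, 0, 0, 1, 0, 0, 0]),
    ([false, true, false, false, true, false, true, false, false, true, false, true, false, false, true, false, true, false, false, true, false, true, false, false, true, false, true, false, false, true], [5, 0, 213, 0, 0, 0, 0, 0])]

theorem principal8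
    (f : ↥(Omega (ZMod 2) ⇑(quadPlus 4 (ZMod 2))) → Fin 4 ⊕ Fin 4 → ZMod 2)
    (hf : ∀ g h, f (g * h) = f g +
      ((((g : IsoGrp (quadPlus 4 (ZMod 2)))) : GL (Fin 4 ⊕ Fin 4) (ZMod 2)) : Matrix (Fin 4 ⊕ Fin 4) (Fin 4 ⊕ Fin 4) (ZMod 2)) *ᵥ f h) :
    ∃ v : Fin 4 ⊕ Fin 4 → ZMod 2, ∀ g, f g =
      ((((g : IsoGrp (quadPlus 4 (ZMod 2)))) : GL (Fin 4 ⊕ Fin 4) (ZMod 2)) : Matrix (Fin 4 ⊕ Fin 4) (Fin 4 ⊕ Fin 4) (ZMod 2)) *ᵥ v - v := by
  revert f
  set Q := quadPlus 4 (ZMod 2)
  intro f hf
  have hp : HPair Q (ev (.inl 0)) (ev (.inr 0)) :=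
    ⟨by decide +kernel, by decide +kernel, by decide +kernel⟩
  have hb : ∀ i, polar ⇑Q (ev (.inl 0)) (b8 i) = 0 ∧ polar ⇑Q (ev (.inr 0)) (b8 i) = 0 := by
    decide +kernel
  have hG : Good Q := ⟨quadPlus_nondeg 4, .inr (by simp)⟩
  have hΩ := omega_eq_eichPair hG (by simp) (.inr (by simp)) hp
  rw [eichPair_eq_closure hp hb] at hΩ
  swap
  · intro w h1 h2
    refine ⟨![w (.inl 1), w (.inl 2), w (.inl 3), w (.inr 1), w (.inr 2), w (.inr 3)], ?_⟩
    change polar (quadFormPlus 4 (ZMod 2)) _ w = 0 at h1 h2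
    simp [polar_quadPlus, Fin.sum_univ_four, ev] at h1 h2
    funext i
    rcases i with i | i <;> fin_cases i <;>
      simp [Fin.sum_univ_six, b8, ev, h1, h2]
  refine principal_omega e8 (gensOf Q (ev (.inl 0)) (ev (.inr 0)) b8) gL8 (by decide +kernel)
    (gensOf_mat e8 hp hb gL8 (by decide +kernel) (by decide +kernel)) hΩ.le
    (fun s => hΩ.ge (Subgroup.subset_closure ⟨s, rfl⟩)) kt8 words8 (by decide +kernel)
    inv8 (by decide +kernel) (by decide +kernel) rels8 (by decide +kernel) (by decide +kernel) f hf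

/-! ### dimension 6 -/

/-- Coordinates. -/
def e6 : (Fin 2 ⊕ Fin 2) ⊕ Fin 2 ≃ Fin 6 :=
  (Equiv.sumCongr finSumFinEquiv (Equiv.refl _)).trans finSumFinEquiv

/-- Basis of the orthogonal of the first pair. -/
def b6 : Fin 4 → (Fin 2 ⊕ Fin 2) ⊕ Fin 2 → ZMod 2 :=
  ![ev (.inl (.inl 1)), ev (.inl (.inr 1)), ev (.inr 0), ev (.inr 1)]

theorem aniso : Aniso (1 : ZMod 2) 1 := by
  unfold Aniso
  decide

def gL6 (s : Fin 8) : List ℕ :=
  [[1, 2, 6, 9, 16, 32],
    [1, 3, 12, 8, 16, 32],
    [1, 2, 21, 8, 16, 33],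
    [1, 2, 37, 8, 17, 32],
    [3, 2, 4, 12, 16, 32],
    [9, 6, 4, 8, 16, 32],
    [21, 2, 4, 8, 16, 36],
    [37, 2, 4, 8, 20, 32]].getD s []

def kt6 : Bool → List (Fin 8)
  | false => [4, 3, 4, 1, 6]
  | true => [6, 7, 7, 1, 1, 0, 0, 2]

def words6 (s : Fin 8) : List Bool :=
  [[true, false, true, false, false, true, true, false, false, false, true, false, false, true, true],
    [true, false, false, false, true, true, false, true, false, false, false],
    [false, false, false, false, false, true, true, false, true, true, false, true, false, false, true],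
    [false, true, false, true],
    [false, true, false, false, true, true, false, false, false, true, false, false],
    [false, false, false, true, true, false, true, false, false, false, true],
    [false, false, false, false, false, true, true, false, true, true, false, true, false, false],
    [false, true, false, false, true, false, true, true, false, true, false, false, true, false]].getD s []

def inv6 : List ℕ := [2, 18, 36, 4, 49, 24]

def rels6 : List (List Bool × List ℕ) :=
  [([true, true, true], [49, 7, 0, 8, 21, 0]),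
    ([false, true, false, true, false, true, false, true], [20, 0, 0, 0, 0, 0]),
    ([false, false, true, false, false, true, false, false, true, false, false, true, false, false, true], [5, 0, 0, 0, 0, 0])]

theorem principal6
    (f : ↥(Omega (ZMod 2) ⇑(quadMinus 2 (ZMod 2) 1 1)) → (Fin 2 ⊕ Fin 2) ⊕ Fin 2 → ZMod 2)
    (hf : ∀ g h, f (g * h) = f g +
      ((((g : IsoGrp (quadMinus 2 (ZMod 2) 1 1))) : GL ((Fin 2 ⊕ Fin 2) ⊕ Fin 2) (ZMod 2)) : Matrix ((Fin 2 ⊕ Fin 2) ⊕ Fin 2) ((Fin 2 ⊕ Fin 2) ⊕ Fin 2) (ZMod 2)) *ᵥ f h) :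
    ∃ v : (Fin 2 ⊕ Fin 2) ⊕ Fin 2 → ZMod 2, ∀ g, f g =
      ((((g : IsoGrp (quadMinus 2 (ZMod 2) 1 1))) : GL ((Fin 2 ⊕ Fin 2) ⊕ Fin 2) (ZMod 2)) : Matrix ((Fin 2 ⊕ Fin 2) ⊕ Fin 2) ((Fin 2 ⊕ Fin 2) ⊕ Fin 2) (ZMod 2)) *ᵥ v - v := by
  revert f
  set Q := quadMinus 2 (ZMod 2) 1 1
  intro f hf
  have hp : HPair Q (ev (.inl (.inl 0))) (ev (.inl (.inr 0))) :=
    ⟨by decide +kernel, by decide +kernel, by decide +kernel⟩
  have hb : ∀ i, polar ⇑Q (ev (.inl (.inl 0))) (b6 i) = 0 ∧
      polar ⇑Q (ev (.inl (.inr 0))) (b6 i) = 0 := by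
    decide +kernel
  have hG : Good Q := ⟨quadMinus_nondeg 2 aniso, .inr (by simp)⟩
  have hΩ := omega_eq_eichPair hG (by simp) (.inr (by simp)) hp
  rw [eichPair_eq_closure hp hb] at hΩ
  swap
  · intro w h1 h2
    refine ⟨![w (.inl (.inl 1)), w (.inl (.inr 1)), w (.inr 0), w (.inr 1)], ?_⟩
    change polar (quadFormMinus 2 (ZMod 2) 1 1) _ w = 0 at h1 h2
    simp [polar_quadMinus, Fin.sum_univ_two, ev] at h1 h2
    funext i
    rcases i with (i | i) | i <;> fin_cases i <;>
      simp [Fin.sum_univ_four, b6, ev, h1, h2]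
  refine principal_omega e6 (gensOf Q (ev (.inl (.inl 0))) (ev (.inl (.inr 0))) b6) gL6
    (by decide +kernel) (gensOf_mat e6 hp hb gL6 (by decide +kernel) (by decide +kernel)) hΩ.le
    (fun s => hΩ.ge (Subgroup.subset_closure ⟨s, rfl⟩)) kt6 words6 (by decide +kernel)
    inv6 (by decide +kernel) (by decide +kernel) rels6 (by decide +kernel) (by decide +kernel) f hf

/-! ### dimension 4 -/

/-- Coordinates. -/
def e4 : (Fin 1 ⊕ Fin 1) ⊕ Fin 2 ≃ Fin 4 :=
  (Equiv.sumCongr finSumFinEquiv (Equiv.refl _)).trans finSumFinEquiv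

/-- Basis of the orthogonal of the pair. -/
def b4 : Fin 2 → (Fin 1 ⊕ Fin 1) ⊕ Fin 2 → ZMod 2 := ![ev (.inr 0), ev (.inr 1)]

def gL4 (s : Fin 4) : List ℕ :=
  [[1, 7, 4, 9],
    [1, 11, 5, 8],
    [7, 2, 4, 10],
    [11, 2, 6, 8]].getD s []

def kt4 : Bool → List (Fin 4)
  | false => [2, 0, 3, 3, 1]
  | true => [0, 0, 3]

def words4 (s : Fin 4) : List Bool :=
  [[true, false, false, true, false],
    [false, false, true, false, false, false],
    [false, false, true, false, false, false, true, false, false, true],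
    [true]].getD s []

def inv4 : List ℕ := [5, 12, 13, 7]

def rels4 : List (List Bool × List ℕ) :=
  [([true, true], [0, 14, 0, 13]),
    ([false, true, false, true, false, true], [8, 2, 0, 0])]

def reflVec (i : Fin 10) : (Fin 1 ⊕ Fin 1) ⊕ Fin 2 → ZMod 2 :=
  fun j => bitVal (([3, 4, 5, 6, 8, 9, 10, 12, 13, 14] : List ℕ).getD i 0) (e4 j)

def rL (i : Fin 10) : List ℕ :=
  [[2, 1, 4, 8], [1, 2, 4, 12], [1, 7, 4, 13], [7, 2, 4, 14], [1, 2, 12, 8], [1, 11, 13, 8], [11, 2, 14, 8], [1, 2, 8, 4], [1, 15, 9, 5], [15, 2, 10, 6]].getD i []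

def comm4 (s : Fin 4) : List (Fin 10) × List (Fin 10) :=
  [([1], [4, 5]), ([1, 2], [4]), ([1], [4, 6]), ([1, 3], [4])].getD s ([], [])

def six (j : Fin 6) : List ℕ × Bool × List Bool :=
  [([1, 2, 4, 8], false, []),
    ([1, 2, 4, 12], true, []),
    ([1, 2, 12, 8], true, [false, false, false, true, false]),
    ([1, 2, 8, 4], true, [true, false, true, false, false, false]),
    ([1, 2, 8, 12], false, [false, false, false, true, false]),
    ([1, 2, 12, 4], false, [true, false, true, false, false, false])].getD j ([], false, [])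

set_option synthInstance.maxSize 1024 in
set_option synthInstance.maxHeartbeats 400000 in
theorem principal4
    (f : ↥(Omega (ZMod 2) ⇑(quadMinus 1 (ZMod 2) 1 1)) → (Fin 1 ⊕ Fin 1) ⊕ Fin 2 → ZMod 2)
    (hf : ∀ g h, f (g * h) = f g +
      ((((g : IsoGrp (quadMinus 1 (ZMod 2) 1 1))) : GL ((Fin 1 ⊕ Fin 1) ⊕ Fin 2) (ZMod 2)) : Matrix ((Fin 1 ⊕ Fin 1) ⊕ Fin 2) ((Fin 1 ⊕ Fin 1) ⊕ Fin 2) (ZMod 2)) *ᵥ f h) :
    ∃ v : (Fin 1 ⊕ Fin 1) ⊕ Fin 2 → ZMod 2, ∀ g, f g =
      ((((g : IsoGrp (quadMinus 1 (ZMod 2) 1 1))) : GL ((Fin 1 ⊕ Fin 1) ⊕ Fin 2) (ZMod 2)) : Matrix ((Fin 1 ⊕ Fin 1) ⊕ Fin 2) ((Fin 1 ⊕ Fin 1) ⊕ Fin 2) (ZMod 2)) *ᵥ v - v := by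
  revert f
  set Q := quadMinus 1 (ZMod 2) 1 1
  intro f hf
  set ee : (Fin 1 ⊕ Fin 1) ⊕ Fin 2 → ZMod 2 := ev (.inl (.inl 0)) with hee
  set ff : (Fin 1 ⊕ Fin 1) ⊕ Fin 2 → ZMod 2 := ev (.inl (.inr 0)) with hff
  have hp : HPair Q ee ff := ⟨by decide +kernel, by decide +kernel, by decide +kernel⟩
  have hb : ∀ i, polar ⇑Q ee (b4 i) = 0 ∧ polar ⇑Q ff (b4 i) = 0 := by decide +kernel
  have hspan : ∀ w, polar ⇑Q ee w = 0 → polar ⇑Q ff w = 0 →
      ∃ c : Fin 2 → ZMod 2, w = ∑ i, c i • b4 i := by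
    decide +kernel
  have hnd : Q.polarBilin.Nondegenerate := quadMinus_nondeg 1 aniso
  have heq : eichGen Q = Subgroup.closure (Set.range (gensOf Q ee ff b4)) :=
    (hp.eichGen_eq hnd (by simp)).trans (eichPair_eq_closure hp hb hspan)
  let ρ : IsoGrp Q →* Matrix ((Fin 1 ⊕ Fin 1) ⊕ Fin 2) ((Fin 1 ⊕ Fin 1) ⊕ Fin 2) (ZMod 2) :=
    (Units.coeHom _).comp (isometryGroup (ZMod 2) ⇑Q).subtype
  have hρ : Function.Injective ρ := fun a b h => Subtype.ext (Units.ext h)
  have hgL : ∀ s, (gL4 s).length = 4 := by decide +kernel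
  have hmat := gensOf_mat e4 hp hb gL4 (by decide +kernel) (by decide +kernel)
  have hrl : ∀ i, (rL i).length = 4 := by decide +kernel
  have hrmat : ∀ i, ρ (refl Q (reflVec i)) = toMat e4 (rL i) :=
    show ∀ i, reflectionMatrix ⇑Q (reflVec i) = toMat e4 (rL i) by decide +kernel
  have hmem : ∀ s, gensOf Q ee ff b4 s ∈ Omega (ZMod 2) ⇑Q := by
    intro s
    set A := ((comm4 s).1.map fun i => refl Q (reflVec i)).prod
    set B := ((comm4 s).2.map fun i => refl Q (reflVec i)).prod
    have key : gensOf Q ee ff b4 s * (B * A) = A * B := by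
      apply hρ
      have hA : ρ A = toMat e4 (evalB 4 rL (comm4 s).1) := mat_prod e4 ρ hrl hrmat _
      have hB : ρ B = toMat e4 (evalB 4 rL (comm4 s).2) := mat_prod e4 ρ hrl hrmat _
      rw [map_mul, map_mul, map_mul, show ρ (gensOf Q ee ff b4 s) = toMat e4 (gL4 s) from hmat s, hA,
        hB, ← toMat_mulB e4 (length_evalB hrl _) (length_evalB hrl _),
        ← toMat_mulB e4 (length_evalB hrl _) (length_evalB hrl _),
        ← toMat_mulB e4 (hgL s) (by rw [length_mulB, length_evalB hrl])]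
      congr 1
      revert s
      decide +kernel
    rw [eq_mul_inv_of_mul_eq key]
    have : A * B * (B * A)⁻¹ = ⁅A, B⁆ := by rw [commutatorElement_def]; group
    rw [this]
    exact Subgroup.commutator_mem_commutator (Subgroup.mem_top A) (Subgroup.mem_top B)
  have hkt : ∀ b, (evalB 4 gL4 (kt4 b)).length = 4 := fun b => length_evalB hgL _
  -- two cosets of the group generated by Eichler transformations
  have hcos : ∀ g : IsoGrp Q, g ∈ eichGen Q ∨ refl Q (reflVec 1) * g ∈ eichGen Q := by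
    intro g
    have hxf : ap g ff ≠ 0 := fun h => by
      have := ap_inj g (h.trans (map_zero (ap g)).symm)
      exact (by decide +kernel : ff ≠ 0) this
    obtain ⟨h, hh, c, hc, hgf⟩ :=
      hp.exists_move_singular hnd (by simp) hxf (by rw [Q_ap]; exact hp.qf)
    have hc1 : c = 1 := by revert hc; clear hgf; revert c; decide
    rw [hc1, one_smul, ← ap_mul] at hgf
    have hsing : ∀ x, Q x = 0 → polar ⇑Q ff x = 1 →
        ∃ c : Fin 2 → ZMod 2, eichMat Q ff (∑ i, c i • b4 i) *ᵥ x = ee ∧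
          eichMat Q ff (∑ i, c i • b4 i) *ᵥ ff = ff ∧ polar ⇑Q ff (∑ i, c i • b4 i) = 0 := by
      decide +kernel
    obtain ⟨c', hce, hcf, hcp⟩ := hsing (ap (h * g) ee) (by rw [Q_ap]; exact hp.qe)
      (by
        calc polar ⇑Q ff (ap (h * g) ee) = polar ⇑Q (ap (h * g) ff) (ap (h * g) ee) := by rw [hgf]
          _ = 1 := by rw [polar_ap, pl_comm]; exact hp.pf)
    set h2 := eich Q ff (∑ i, c' i • b4 i) with hh2
    have hh2m : h2 ∈ eichGen Q := eich_mem_eichGen _ _
    have hh2ap : ∀ x, ap h2 x = eichMat Q ff (∑ i, c' i • b4 i) *ᵥ x := fun x => by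
      rw [ap_apply, hh2, eich_mat hp.qf hcp]
    set g2 := h2 * (h * g) with hg2
    have e1 : ap g2 ee = ee := by rw [hg2, ap_mul, hh2ap, hce]
    have e2 : ap g2 ff = ff := by rw [hg2, ap_mul, hgf, hh2ap, hcf]
    have hsix : ∀ y0 y1, Q y0 = 1 → Q y1 = 1 → polar ⇑Q ee y0 = 0 → polar ⇑Q ff y0 = 0 →
        polar ⇑Q ee y1 = 0 → polar ⇑Q ff y1 = 0 → polar ⇑Q y0 y1 = 1 →
        ∃ j, (fun i => toMat e4 (six j).1 i (.inr 0)) = y0 ∧
          (fun i => toMat e4 (six j).1 i (.inr 1)) = y1 := by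
      decide +kernel
    obtain ⟨j, hj0, hj1⟩ := hsix (ap g2 (ev (.inr 0))) (ap g2 (ev (.inr 1)))
      (by rw [Q_ap]; decide +kernel) (by rw [Q_ap]; decide +kernel)
      (by rw [← e1, polar_ap]; decide +kernel) (by rw [← e2, polar_ap]; decide +kernel)
      (by rw [← e1, polar_ap]; decide +kernel) (by rw [← e2, polar_ap]; decide +kernel)
      (by rw [polar_ap]; decide +kernel)
    have hfix : ∀ j, (fun i => toMat e4 (six j).1 i (.inl (.inl 0))) = ee ∧
        (fun i => toMat e4 (six j).1 i (.inl (.inr 0))) = ff := by decide +kernel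
    have hg2m : ρ g2 = toMat e4 (six j).1 := by
      refine Matrix.ext_of_mulVec_single fun i => ?_
      have : ρ g2 *ᵥ Pi.single i 1 = ap g2 (ev i) := rfl
      rw [this, Matrix.mulVec_single_one]
      rcases i with (i | i) | i <;> fin_cases i
      · exact e1.trans (hfix j).1.symm
      · exact e2.trans (hfix j).2.symm
      · exact hj0.symm
      · exact hj1.symm
    set g₀ : Bool → IsoGrp Q := fun b => ((kt4 b).map (gensOf Q ee ff b4)).prod
    set W := ((six j).2.2.map g₀).prod
    have hWm : W ∈ eichGen Q := by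
      refine list_prod_mem fun x hx => ?_
      obtain ⟨b, -, rfl⟩ := List.mem_map.1 hx
      refine list_prod_mem fun y hy => ?_
      obtain ⟨s, -, rfl⟩ := List.mem_map.1 hy
      rw [heq]
      exact Subgroup.subset_closure ⟨s, rfl⟩
    have hW : ρ W = toMat e4 (evalB 4 (fun b => evalB 4 gL4 (kt4 b)) (six j).2.2) :=
      mat_prod e4 ρ hkt (fun b => mat_prod e4 ρ hgL hmat (kt4 b)) _
    have hdata : ∀ j, (if (six j).2.1 then mulB (rL 1) (six j).1 else (six j).1) =
        evalB 4 (fun b => evalB 4 gL4 (kt4 b)) (six j).2.2 ∧ (six j).1.length = 4 := by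
      decide +kernel
    have hhm : h ∈ eichGen Q := eichPair_le _ _ hh
    have hback : ∀ x : IsoGrp Q, x * (h2 * (h * g)) ∈ eichGen Q → x * g ∈ eichGen Q := by
      intro x hx
      have h3 := mul_mem ((eichGen_normal (Q := Q)).conj_mem _
        (inv_mem (mul_mem hh2m hhm)) x) hx
      simpa [mul_assoc] using h3
    rcases hd : (six j).2.1 with _ | _
    · left
      have : g2 = W := hρ (by rw [hg2m, hW, ← (hdata j).1, if_neg (by simp [hd])])
      rw [← this, hg2] at hWm
      simpa using hback 1 (by simpa using hWm)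
    · right
      have : refl Q (reflVec 1) * g2 = W := hρ (by
        rw [hW, ← (hdata j).1, if_pos hd, map_mul, hg2m, hrmat,
          toMat_mulB e4 (hrl 1) (hdata j).2])
      rw [← this, hg2] at hWm
      exact hback _ hWm
  have hle : Omega (ZMod 2) ⇑Q ≤ Subgroup.closure (Set.range (gensOf Q ee ff b4)) := by
    rw [← heq]
    show commutator (IsoGrp Q) ≤ _
    rw [commutator_def, Subgroup.commutator_le]
    intro a _ b _
    set π := QuotientGroup.mk' (eichGen Q) with hπ
    set r := refl Q (reflVec 1) with hr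
    have hrr : r⁻¹ = r := refl_inv Q _
    have hval : ∀ x, π x = 1 ∨ π x = π r := by
      intro x
      rcases hcos x with hx | hx
      · exact .inl ((QuotientGroup.eq_one_iff x).2 hx)
      · right
        have h1 : π r * π x = 1 := by rw [← map_mul]; exact (QuotientGroup.eq_one_iff _).2 hx
        rw [eq_inv_of_mul_eq_one_right h1, ← map_inv, hrr]
    rw [← QuotientGroup.eq_one_iff, commutatorElement_def]
    show π (a * b * a⁻¹ * b⁻¹) = 1
    simp only [map_mul, map_inv]
    rcases hval a with ha | ha <;> rcases hval b with hb' | hb' <;> simp [ha, hb']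
  exact principal_omega e4 (gensOf Q ee ff b4) gL4 hgL hmat hle hmem kt4 words4
    (by decide +kernel) inv4 (by decide +kernel) (by decide +kernel) rels4 (by decide +kernel)
    (by decide +kernel) f hf

end Helpers

/-- Vanishing of first cohomology on the natural module for three small orthogonal groups over the field with two elements: for the commutator subgroup of the isometry group of the elliptic quadratic form in dimension 4, of the elliptic form in dimension 6, and of the hyperbolic form in dimension 8, every crossed homomorphism into the natural module (a map f with f(gh) = f(g) + g·f(h)) is principal (of the form g ↦ g·v − v). -/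
theorem result : (∀ f : ↥(Cfsg.Omega (ZMod 2) (Cfsg.quadFormMinus 1 (ZMod 2) 1 1)) → ((Fin 1 ⊕ Fin 1) ⊕ Fin 2 → ZMod 2), (∀ g h : ↥(Cfsg.Omega (ZMod 2) (Cfsg.quadFormMinus 1 (ZMod 2) 1 1)), f (g * h) = f g + Matrix.mulVec (((g : ↥(Cfsg.isometryGroup (ZMod 2) (Cfsg.quadFormMinus 1 (ZMod 2) 1 1))) : GL ((Fin 1 ⊕ Fin 1) ⊕ Fin 2) (ZMod 2)) : Matrix ((Fin 1 ⊕ Fin 1) ⊕ Fin 2) ((Fin 1 ⊕ Fin 1) ⊕ Fin 2) (ZMod 2)) (f h)) → ∃ v : (Fin 1 ⊕ Fin 1) ⊕ Fin 2 → ZMod 2, ∀ g : ↥(Cfsg.Omega (ZMod 2) (Cfsg.quadFormMinus 1 (ZMod 2) 1 1)), f g = Matrix.mulVec (((g : ↥(Cfsg.isometryGroup (ZMod 2) (Cfsg.quadFormMinus 1 (ZMod 2) 1 1))) : GL ((Fin 1 ⊕ Fin 1) ⊕ Fin 2) (ZMod 2)) : Matrix ((Fin 1 ⊕ Fin 1) ⊕ Fin 2) ((Fin 1 ⊕ Fin 1) ⊕ Fin 2) (ZMod 2)) v - v) ∧ (∀ f : ↥(Cfsg.Omega (ZMod 2) (Cfsg.quadFormMinus 2 (ZMod 2) 1 1)) → ((Fin 2 ⊕ Fin 2) ⊕ Fin 2 → ZMod 2), (∀ g h : ↥(Cfsg.Omega (ZMod 2) (Cfsg.quadFormMinus 2 (ZMod 2) 1 1)), f (g * h) = f g + Matrix.mulVec (((g : ↥(Cfsg.isometryGroup (ZMod 2) (Cfsg.quadFormMinus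 2 (ZMod 2) 1 1))) : GL ((Fin 2 ⊕ Fin 2) ⊕ Fin 2) (ZMod 2)) : Matrix ((Fin 2 ⊕ Fin 2) ⊕ Fin 2) ((Fin 2 ⊕ Fin 2) ⊕ Fin 2) (ZMod 2)) (f h)) → ∃ v : (Fin 2 ⊕ Fin 2) ⊕ Fin 2 → ZMod 2, ∀ g : ↥(Cfsg.Omega (ZMod 2) (Cfsg.quadFormMinus 2 (ZMod 2) 1 1)), f g = Matrix.mulVec (((g : ↥(Cfsg.isometryGroup (ZMod 2) (Cfsg.quadFormMinus 2 (ZMod 2) 1 1))) : GL ((Fin 2 ⊕ Fin 2) ⊕ Fin 2) (ZMod 2)) : Matrix ((Fin 2 ⊕ Fin 2) ⊕ Fin 2) ((Fin 2 ⊕ Fin 2) ⊕ Fin 2) (ZMod 2)) v - v) ∧ (∀ f : ↥(Cfsg.Omega (ZMod 2) (Cfsg.quadFormPlus 4 (ZMod 2))) → (Fin 4 ⊕ Fin 4 → ZMod 2), (∀ g h : ↥(Cfsg.Omega (ZMod 2) (Cfsg.quadFormPlus 4 (ZMod 2))), f (g * h) = f g + Matrix.mulVec (((g : ↥(Cfsg.isometryGroup (ZMod 2) (Cfsg.quadFormPlus 4 (ZMod 2)))) : GL (Fin 4 ⊕ Fin 4) (ZMod 2)) : Matrix (Fin 4 ⊕ Fin 4) (Fin 4 ⊕ Fin 4) (ZMod 2)) (f h)) → ∃ v : Fin 4 ⊕ Fin 4 → ZMod 2, ∀ g : ↥(Cfsg.Omega (ZMod 2) (Cfsg.quadFormPlus 4 (ZMod 2))), f g = Matrix.mulVec (((g : ↥(Cfsg.isometryGroup (ZMod 2) (Cfsg.quadFormPlus 4 (ZMod 2)))) :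 GL (Fin 4 ⊕ Fin 4) (ZMod 2)) : Matrix (Fin 4 ⊕ Fin 4) (Fin 4 ⊕ Fin 4) (ZMod 2)) v - v) := by
  exact ⟨fun f hf => principal4 f hf, fun f hf => principal6 f hf, fun f hf => principal8 f hf⟩

end Cfsg.Agent.S5405
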