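import Cfsg.Statements.S5408
import Cfsg.Agent.Lib.LargeExtraspecial.LeechQuad

set_option autoImplicit false
open Cfsg

namespace Cfsg.Agent.S5408

theorem exists_elementaryAbelian_of_invariant {Q : Type*} [Group Q] [Finite Q]
    (hp : IsPGroup 2 Q) (hc : Nat.card (Subgroup.center Q) = 2)
    (ψ : leechLattice → Q ⧸ Subgroup.center Q) (hadd : ∀ v w, ψ (v + w) = ψ v * ψ w)
    (hsurj : Function.Surjective ψ) (hker : ∀ v, ψ v = 1 ↔ ∃ w, v = w + w)
    (hinv : ∀ (g : ↥Co0) v (q : Q), ψ v = QuotientGroup.mk q →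
      ∃ a : MulAut Q, ψ (g.1 v) = QuotientGroup.mk (a q)) :
    ∃ E : Subgroup Q, Cfsg.IsElementaryAbelian 2 E ∧ Nat.card E = 2 ^ 13 := by
  classical
  haveI : Fact (Nat.Prime 2) := ⟨Nat.prime_two⟩
  have hcc : ∀ c ∈ (Subgroup.center Q), ∀ x : Q, x * c = c * x := fun c hc x => Subgroup.mem_center_iff.mp hc x
  have htwo : ∀ a ∈ (Subgroup.center Q), ∀ b ∈ (Subgroup.center Q), a ≠ 1 → b ≠ 1 → a = b := by
    intro a ha b hb ha1 hb1
    obtain ⟨y, -, hy⟩ := (Nat.card_eq_two_iff' (1 : (Subgroup.center Q))).mp hc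
    have h1 := hy ⟨a, ha⟩ fun h => ha1 (congrArg Subtype.val h)
    have h2 := hy ⟨b, hb⟩ fun h => hb1 (congrArg Subtype.val h)
    exact congrArg Subtype.val (h1.trans h2.symm)
  have hzz : ∀ a ∈ (Subgroup.center Q), a * a = 1 := by
    intro a ha
    by_contra h
    have h1 : a ≠ 1 := fun h1 => h (by rw [h1, one_mul])
    have := htwo (a * a) (mul_mem ha ha) a ha h h1
    exact h1 (mul_eq_left.mp this)
  let χ : Q → ZMod 2 := fun x => if x = 1 then 0 else 1
  have hχ : ∀ a ∈ (Subgroup.center Q), ∀ b ∈ (Subgroup.center Q), χ (a * b) = χ a + χ b := by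
    intro a ha b hb
    by_cases h1 : a = 1
    · simp [χ, h1]
    by_cases h2 : b = 1
    · simp [χ, h2]
    obtain rfl := htwo a ha b hb h1 h2
    simp [χ, h1, hzz a ha]
    exact (CharTwo.add_self_eq_zero (1 : ZMod 2)).symm
  have h2 : ∀ x : Q, x * x ∈ (Subgroup.center Q) := by
    intro x
    obtain ⟨v, hv⟩ := hsurj (QuotientGroup.mk x)
    rw [← QuotientGroup.eq_one_iff, QuotientGroup.mk_mul, ← hv, ← hadd, hker]
    exact ⟨v, rfl⟩
  have hcomm : ∀ x y : Q, x⁻¹ * y * x * y⁻¹ ∈ (Subgroup.center Q) := by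
    intro x y
    have : (x * y) * (x * y) = (x * x) * (x⁻¹ * y * x * y⁻¹) * (y * y) := by group
    have e : x⁻¹ * y * x * y⁻¹ = (x * x)⁻¹ * ((x * y) * (x * y)) * (y * y)⁻¹ := by rw [this]; group
    rw [e]
    exact mul_mem (mul_mem (inv_mem (h2 x)) (h2 _)) (inv_mem (h2 y))
  let Φ : Q → ZMod 2 := fun x => χ (x * x)
  have hΦmk : ∀ x y : Q, (QuotientGroup.mk x : Q ⧸ (Subgroup.center Q)) = QuotientGroup.mk y → Φ x = Φ y := by
    intro x y h
    rw [QuotientGroup.eq] at h
    have e : y = x * (x⁻¹ * y) := by group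
    show χ (x * x) = χ (y * y)
    congr 1
    rw [e]
    set c := x⁻¹ * y
    calc x * x = x * x * (c * c) := by rw [hzz c h, mul_one]
      _ = x * (x * c) * c := by group
      _ = x * (c * x) * c := by rw [hcc c h x]
      _ = x * c * (x * c) := by group
  have hΦmul : ∀ x y : Q, Φ (x * y) = Φ x + Φ y + χ (x⁻¹ * y * x * y⁻¹) := by
    intro x y
    have e : (x * y) * (x * y) = (x * x) * (x⁻¹ * y * x * y⁻¹) * (y * y) := by group
    show χ _ = χ _ + χ _ + _
    rw [e, hχ _ (mul_mem (h2 x) (hcomm x y)) _ (h2 y), hχ _ (h2 x) _ (hcomm x y)]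
    ring
  let rep : leechLattice → Q := fun v => (ψ v).out
  have hrep : ∀ v, (QuotientGroup.mk (rep v) : Q ⧸ (Subgroup.center Q)) = ψ v := fun v => Quotient.out_eq _
  let f : leechLattice → ZMod 2 := fun v => Φ (rep v)
  have hf : ∀ v x, ψ v = QuotientGroup.mk x → f v = Φ x := fun v x h => hΦmk _ _ ((hrep v).trans h)
  have hpol : ∀ v w, LeechQuad.pol f v w = χ ((rep v)⁻¹ * rep w * rep v * (rep w)⁻¹) := by
    intro v w
    have h := hf (v + w) (rep v * rep w) (by rw [QuotientGroup.mk_mul, hrep, hrep, hadd])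
    rw [hΦmul] at h
    rw [LeechQuad.pol, h]
    show Φ _ + Φ _ + _ + Φ _ + Φ _ = _
    linear_combination LeechQuad.two_add (Φ (rep v)) + LeechQuad.two_add (Φ (rep w))
  have hb : ∀ u v w, LeechQuad.pol f (u + v) w = LeechQuad.pol f u w + LeechQuad.pol f v w := by
    intro u v w
    rw [hpol, hpol, hpol]
    have h : (QuotientGroup.mk (rep (u + v)) : Q ⧸ (Subgroup.center Q)) = QuotientGroup.mk (rep u * rep v) := by
      rw [QuotientGroup.mk_mul, hrep, hrep, hrep, hadd]
    rw [QuotientGroup.eq] at h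
    set c := (rep (u + v))⁻¹ * (rep u * rep v) with hcdef
    set a := rep u
    set b := rep v
    set y := rep w
    have ec : rep (u + v) = (a * b) * c⁻¹ := by rw [hcdef]; group
    rw [ec, ← hχ _ (hcomm a y) _ (hcomm b y)]
    congr 1
    calc (a * b * c⁻¹)⁻¹ * y * (a * b * c⁻¹) * y⁻¹
        = c * (b⁻¹ * a⁻¹ * y * a * b) * c⁻¹ * y⁻¹ := by group
      _ = (b⁻¹ * a⁻¹ * y * a * b) * c * c⁻¹ * y⁻¹ := by rw [hcc c h]
      _ = b⁻¹ * (a⁻¹ * y * a * y⁻¹) * (y * b * y⁻¹) := by group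
      _ = (a⁻¹ * y * a * y⁻¹) * b⁻¹ * (y * b * y⁻¹) := by rw [hcc _ (hcomm a y)]
      _ = (a⁻¹ * y * a * y⁻¹) * (b⁻¹ * y * b * y⁻¹) := by group
  have hcls : ∀ v w, f (v + (w + w)) = f v := by
    intro v w
    apply hf
    rw [hrep, hadd, (hker (w + w)).mpr ⟨w, rfl⟩, mul_one]
  have hinv' : ∀ (g : ↥Co0) v, f (g.1 v) = f v := by
    intro g v
    obtain ⟨a, ha⟩ := hinv g v (rep v) (hrep v).symm
    rw [hf _ _ ha]
    show χ (a (rep v) * a (rep v)) = χ (rep v * rep v)
    simp [χ, ← map_mul]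
  have hvan : ∀ x, rep (LeechQuad.four x) * rep (LeechQuad.four x) = 1 := by
    intro x
    have := LeechQuad.quad_four_eq_zero hb hcls hinv' x
    by_contra h
    simp [f, Φ, χ, h] at this
  have hone : ψ 0 = 1 := (hker 0).mpr ⟨0, by simp⟩
  let E : Subgroup Q :=
    { carrier := {q | ∃ x, ψ (LeechQuad.four x) = QuotientGroup.mk q}
      one_mem' := ⟨0, by rw [map_zero, hone, QuotientGroup.mk_one]⟩
      mul_mem' := by
        rintro a b ⟨x, hx⟩ ⟨y, hy⟩
        exact ⟨x + y, by rw [map_add, hadd, hx, hy, QuotientGroup.mk_mul]⟩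
      inv_mem' := by
        rintro a ⟨x, hx⟩
        refine ⟨-x, ?_⟩
        rw [QuotientGroup.mk_inv, eq_inv_iff_mul_eq_one, ← hx, ← hadd, ← map_add, neg_add_cancel, map_zero, hone] }
  have hE : ∀ a ∈ E, a * a = 1 := by
    rintro a ⟨x, hx⟩
    have := hf _ _ hx
    by_contra h
    simp [f, Φ, χ, h, hvan x] at this
  -- the lower bound
  obtain ⟨z, hz, hz1⟩ : ∃ z ∈ (Subgroup.center Q), z ≠ 1 := by
    obtain ⟨y, hy, -⟩ := (Nat.card_eq_two_iff' (1 : (Subgroup.center Q))).mp hc
    exact ⟨y, y.2, fun h => hy (Subtype.ext h)⟩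
  let F : Bool × (Fin 12 → Bool) → E := fun p =>
    ⟨rep (LeechQuad.four (LeechQuad.pick p.2)) * (if p.1 then z else 1), ⟨LeechQuad.pick p.2, by
      have : (QuotientGroup.mk (if p.1 then z else 1) : Q ⧸ (Subgroup.center Q)) = 1 := by
        rw [QuotientGroup.eq_one_iff]; split
        · exact hz
        · exact one_mem _
      rw [QuotientGroup.mk_mul, this, mul_one, hrep]⟩⟩
  have hF : Function.Injective F := by
    rintro ⟨b, u⟩ ⟨b', u'⟩ h
    have h' := congrArg Subtype.val h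
    have hm : ψ (LeechQuad.four (LeechQuad.pick u)) = ψ (LeechQuad.four (LeechQuad.pick u')) := by
      have := congrArg (QuotientGroup.mk (s := (Subgroup.center Q))) h'
      simp only [F, QuotientGroup.mk_mul, hrep] at this
      have e : ∀ c : Bool, (QuotientGroup.mk (if c then z else 1) : Q ⧸ (Subgroup.center Q)) = 1 := fun c => by
        rw [QuotientGroup.eq_one_iff]; split
        · exact hz
        · exact one_mem _
      rwa [e, e, mul_one, mul_one] at this
    obtain ⟨w, hw⟩ : ∃ w, LeechQuad.four (LeechQuad.pick u) = LeechQuad.four (LeechQuad.pick u') + (w + w) := by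
      have h1 : ψ (LeechQuad.four (LeechQuad.pick u) - LeechQuad.four (LeechQuad.pick u')) = 1 := by
        have e := hadd (LeechQuad.four (LeechQuad.pick u) - LeechQuad.four (LeechQuad.pick u'))
          (LeechQuad.four (LeechQuad.pick u'))
        rw [sub_add_cancel, hm] at e
        exact mul_eq_right.mp e.symm
      obtain ⟨w, hw⟩ := (hker _).mp h1
      exact ⟨w, by rw [← hw]; abel⟩
    obtain rfl := LeechQuad.pick_class_injective u u' w hw
    have h5 : (if b then z else 1) = if b' then z else 1 := mul_left_cancel h'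
    cases b <;> cases b'
    · rfl
    · exact absurd h5.symm hz1
    · exact absurd h5 hz1
    · rfl
  have hcard : 2 ^ 13 ≤ Nat.card E := by
    have := Nat.card_le_card_of_injective F hF
    rw [Nat.card_prod, Nat.card_fun] at this
    simpa using this
  obtain ⟨n, hn⟩ := IsPGroup.iff_card.mp (hp.to_subgroup E)
  have hn13 : 13 ≤ n := by
    rw [hn] at hcard
    exact (Nat.pow_le_pow_iff_right (by norm_num)).mp hcard
  obtain ⟨K, hK⟩ := Sylow.exists_subgroup_card_pow_prime (G := E) 2 (n := 13) (hn ▸ pow_dvd_pow 2 hn13)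
  refine ⟨K.map E.subtype, ⟨⟨⟨?_⟩⟩, ?_⟩, by rw [Subgroup.card_subtype, hK]⟩
  · rintro ⟨a, ha⟩ ⟨b, hb⟩
    have hsub : K.map E.subtype ≤ E := Subgroup.map_subtype_le _
    apply Subtype.ext
    show a * b = b * a
    have h3 := hE _ (mul_mem (hsub ha) (hsub hb))
    calc a * b = (a * b)⁻¹ := eq_inv_of_mul_eq_one_left h3
      _ = b⁻¹ * a⁻¹ := mul_inv_rev a b
      _ = b * a := by rw [← eq_inv_of_mul_eq_one_left (hE _ (hsub ha)), ← eq_inv_of_mul_eq_one_left (hE _ (hsub hb))]
  · intro a ha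
    rw [sq]
    exact hE _ (Subgroup.map_subtype_le _ ha)

/-- Let G be a finite group of Monster type at the involution z with Q the extraspecial normal subgroup of order 2^25 of C = C_G(z) (so C/Q is identified with the first Conway group with Q modulo its centre the Leech lattice modulo 2, and z is not weakly closed in Q). Then Q is of plus type: it contains an elementary abelian subgroup of order 2^13. -/
theorem result {G : Type*} [Group G] [Finite G] (z : G) (Q : Subgroup (Subgroup.centralizer ({z} : Set G))) [Q.Normal] (hM : Cfsg.IsOfMonsterType z Q) : ∃ E : Subgroup Q, Cfsg.IsElementaryAbelian 2 E ∧ Nat.card E = 2 ^ 13 := by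
  obtain ⟨⟨-, -, hQ, -, -⟩, e, ψ, hadd, hsurj, hker, hconj⟩ := hM
  refine exists_elementaryAbelian_of_invariant hQ.1.1 hQ.2 ψ hadd hsurj hker fun g v q hq => ?_
  obtain ⟨k, hk⟩ := e.surjective (QuotientGroup.mk g)
  obtain ⟨h, rfl⟩ := QuotientGroup.mk_surjective k
  refine ⟨MulAut.conjNormal h, ?_⟩
  refine (hconj h g hk.symm v q hq).trans ?_
  rfl

end Cfsg.Agent.S5408
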