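import Cfsg.Statements.S5410
import Cfsg.Agent.Lib.LargeExtraspecial.MonsterSetup

set_option autoImplicit false
open Cfsg

namespace Cfsg.Agent.S5410

/-- Let G be a finite group of Monster type at the involution z with Q the extraspecial normal subgroup of order 2^25 of C = C_G(z) (so C/Q is identified with the first Conway group with Q modulo its centre the Leech lattice modulo 2, and z is not weakly closed in Q). Let g in G with s = g z g⁻¹ a member of Q other than z, let X be the image in C/Q of the centralizer of s in C, and let E be the image in C/Q of the intersection of g Q g⁻¹ with C. Then E is a normal subgroup of X, elementary abelian of order 2^11, and it has a complement in X isomorphic to the Mathieu group of degree 24 (the automorphism group of the length-24 binary Golay code). -/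
theorem result {G : Type*} [Group G] [Finite G] (z : G) (Q : Subgroup (Subgroup.centralizer ({z} : Set G))) [Q.Normal] (hM : Cfsg.IsOfMonsterType z Q) (s : G) (hsQ : ∃ hsc : s ∈ Subgroup.centralizer ({z} : Set G), (⟨s, hsc⟩ : Subgroup.centralizer ({z} : Set G)) ∈ Q) (hs : IsConj z s) (hs1 : s ≠ z) (g : G) (hg : g * z * g⁻¹ = s) (X E : Subgroup ((Subgroup.centralizer ({z} : Set G)) ⧸ Q)) (hX : X = ((Subgroup.centralizer ({z} : Set G) ⊓ Subgroup.centralizer ({s} : Set G)).subgroupOf (Subgroup.centralizer ({z} : Set G))).map (QuotientGroup.mk' Q)) (hE : E = (((Q.map (Subgroup.centralizer ({z} : Set G)).subtype).map (MulAut.conj g).toMonoidHom ⊓ Subgroup.centralizer ({z} : Set G)).subgroupOf (Subgroup.centralizer ({z} : Set G))).map (QuotientGroup.mk' Q)) : E ≤ X ∧ (∀ x ∈ X, ∀ y ∈ E, x * y * x⁻¹ ∈ E) ∧ Cfsg.IsElementaryAbelian 2 E ∧ Nat.card E = 2 ^ 11 ∧ ∃ K : Subgroup ((Subgroup.centralizer ({z} : Set G)) ⧸ Q), K ≤ X ∧ E ⊓ K = ⊥ ∧ E ⊔ K = X ∧ Nonempty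 (K ≃* Cfsg.M24) := by
  obtain ⟨e, M, hκ⟩ := Monster.exists_setting_of_type hM
  obtain ⟨hsc, hs'⟩ := hsQ
  subst hg
  obtain ⟨-, hcE, v, hv, hvn, F, hF⟩ := M.card_inter g ⟨_, hs', rfl⟩ hs1
  set π := QuotientGroup.mk' (Subgroup.center Co0) with hπ
  have hmap : ∀ H : Subgroup (Subgroup.centralizer ({z} : Set G)), (H.map (QuotientGroup.mk' Q)).map e.toMonoidHom = H.map M.κ :=
    fun H => by rw [Subgroup.map_map, hκ]
  have hinj : Function.Injective e.toMonoidHom := e.injective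
  have hEe : E.map e.toMonoidHom = F.S.map π := by
    rw [hE, hmap, ← hF, Monster.Setting.Epre,
      Subgroup.map_comap_eq_self_of_surjective (QuotientGroup.mk'_surjective _),
      Subgroup.inf_subgroupOf_right]
    rfl
  have hXe : X.map e.toMonoidHom = (MonsterLattice.clsStab v).map π := by
    rw [hX, hmap, Subgroup.inf_subgroupOf_left, M.map_centralizer hv (Or.inr (Or.inr hvn))]
  have hsymm : ∀ a, e.symm (π a) ∈ E ↔ π a ∈ F.S.map π := fun a => by
    rw [← hEe]
    exact ⟨fun h => ⟨_, h, e.apply_symm_apply _⟩, fun ⟨b, hb, he⟩ => by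
      rw [← he]; simpa using hb⟩
  have hsymX : ∀ a, e.symm (π a) ∈ X ↔ π a ∈ (MonsterLattice.clsStab v).map π := fun a => by
    rw [← hXe]
    exact ⟨fun h => ⟨_, h, e.apply_symm_apply _⟩, fun ⟨b, hb, he⟩ => by
      rw [← he]; simpa using hb⟩
  have hS : ∀ a, π a ∈ F.S.map π → a ∈ F.S := fun a ⟨b, hb, he⟩ => by
    obtain ⟨c, hc, rfl⟩ := (QuotientGroup.mk'_eq_mk' _).1 he
    exact mul_mem hb (F.center_le hc)
  have hle : E ≤ X := by
    intro x hx
    obtain ⟨a, rfl⟩ : ∃ a, e.symm (π a) = x :=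
      ⟨(QuotientGroup.mk'_surjective (Subgroup.center Co0) (e x)).choose, by
        rw [(QuotientGroup.mk'_surjective (Subgroup.center Co0) (e x)).choose_spec]; simp⟩
    exact (hsymX a).2 ⟨a, F.S_le (hS a ((hsymm a).1 hx)), rfl⟩
  have hsq : ∀ x ∈ E, x * x = 1 := by
    intro x hx
    obtain ⟨a, ha, hae⟩ : e x ∈ F.S.map π := hEe ▸ Subgroup.mem_map_of_mem _ hx
    apply e.injective
    rw [map_mul, map_one, ← hae, ← map_mul, F.S_sq a ha, map_one]
  refine ⟨hle, ?_, ⟨⟨⟨?_⟩⟩, ?_⟩, ?_, ?_⟩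
  · intro x hx y hy
    obtain ⟨a, ha, hae⟩ : e x ∈ (MonsterLattice.clsStab v).map π :=
      hXe ▸ Subgroup.mem_map_of_mem _ hx
    obtain ⟨b, hb, hbe⟩ : e y ∈ F.S.map π := hEe ▸ Subgroup.mem_map_of_mem _ hy
    have hn := (M.E0_le g hv (Or.inr (Or.inr hvn))).2 a ha b (hF ▸ hb)
    have : x * y * x⁻¹ = e.symm (π (a * b * a⁻¹)) := by
      apply e.injective
      simp [hae, hbe]
    rw [this]
    exact (hsymm _).2 ⟨_, hF ▸ hn, rfl⟩
  · rintro ⟨a, ha⟩ ⟨b, hb⟩
    refine Subtype.ext ?_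
    show a * b = b * a
    calc a * b = (a * b)⁻¹ := eq_inv_of_mul_eq_one_left (hsq _ (mul_mem ha hb))
      _ = b⁻¹ * a⁻¹ := mul_inv_rev a b
      _ = b * a := by rw [← eq_inv_of_mul_eq_one_left (hsq _ ha), ← eq_inv_of_mul_eq_one_left (hsq _ hb)]
  · intro a ha
    rw [sq]; exact hsq a ha
  · rw [← hcE, Nat.card_congr (Subgroup.equivMapOfInjective E _ hinj).toEquiv, hEe, ← hF,
      Monster.Setting.Epre, Subgroup.map_comap_eq_self_of_surjective (QuotientGroup.mk'_surjective _)]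
  · let κ' : M24 →* (Subgroup.centralizer ({z} : Set G)) ⧸ Q := e.symm.toMonoidHom.comp (π.comp F.perm)
    have hκinj : Function.Injective κ' := by
      refine (injective_iff_map_eq_one κ').2 fun σ hσ => F.disjoint σ (hS _ ?_)
      have h1 : π (F.perm σ) = 1 := e.symm.map_eq_one_iff.1 hσ
      rw [h1]; exact one_mem _
    refine ⟨κ'.range, ?_, ?_, ?_, ⟨(MonoidHom.ofInjective hκinj).symm⟩⟩
    · rintro _ ⟨σ, rfl⟩
      exact (hsymX _).2 ⟨_, F.perm_mem σ, rfl⟩
    · rw [Subgroup.eq_bot_iff_forall]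
      rintro _ ⟨hx, σ, rfl⟩
      rw [F.disjoint σ (hS _ ((hsymm _).1 hx)), map_one]
    · refine le_antisymm (sup_le hle ?_) fun x hx => ?_
      · rintro _ ⟨σ, rfl⟩
        exact (hsymX _).2 ⟨_, F.perm_mem σ, rfl⟩
      obtain ⟨a, ha, hae⟩ : e x ∈ (MonsterLattice.clsStab v).map π :=
        hXe ▸ Subgroup.mem_map_of_mem _ hx
      obtain ⟨b, hb, σ, rfl⟩ := F.decomp a ha
      have : x = e.symm (π b) * κ' σ := by
        apply e.injective
        simp [κ', ← hae]
      rw [this]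
      exact Subgroup.mul_mem_sup ((hsymm _).2 ⟨b, hb, rfl⟩) ⟨σ, rfl⟩

end Cfsg.Agent.S5410
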