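import Cfsg.Statements.S5411
import Cfsg.Agent.Lib.LargeExtraspecial.MonsterSetup

set_option autoImplicit false
open Cfsg

namespace Cfsg.Agent.S5411

/-- Let G be a finite group of Monster type at the involution z with Q the extraspecial normal subgroup of order 2^25 of C = C_G(z) (so C/Q is identified with the first Conway group with Q modulo its centre the Leech lattice modulo 2, and z is not weakly closed in Q). Then C acts transitively by conjugation on the involutions of Q that are not conjugate to z in G. -/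
theorem result {G : Type*} [Group G] [Finite G] (z : G) (Q : Subgroup (Subgroup.centralizer ({z} : Set G))) [Q.Normal] (hM : Cfsg.IsOfMonsterType z Q) (s t : G) (hsQ : ∃ hsc : s ∈ Subgroup.centralizer ({z} : Set G), (⟨s, hsc⟩ : Subgroup.centralizer ({z} : Set G)) ∈ Q) (htQ : ∃ htc : t ∈ Subgroup.centralizer ({z} : Set G), (⟨t, htc⟩ : Subgroup.centralizer ({z} : Set G)) ∈ Q) (hs2 : orderOf s = 2) (ht2 : orderOf t = 2) (hs : ¬ IsConj z s) (ht : ¬ IsConj z t) : ∃ h ∈ Subgroup.centralizer ({z} : Set G), h * s * h⁻¹ = t := by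
  obtain ⟨e, M, -⟩ := Monster.exists_setting_of_type hM
  obtain ⟨hsc, hs'⟩ := hsQ
  obtain ⟨htc, ht'⟩ := htQ
  have key : ∀ u : G, u ∈ Q.map (Subgroup.centralizer ({z} : Set G)).subtype → orderOf u = 2 →
      ¬ IsConj z u → ∃ v, M.rel v u ∧ sqNorm (v : GolayPt → ℤ) = 32 := by
    intro u hu hu2 hnc
    obtain ⟨v, hv, h | h⟩ := M.classify_sq_one hu
      (by rw [← pow_two, ← hu2, pow_orderOf_eq_one]) (fun h => by simp [h] at hu2)
      (fun h => hnc (h ▸ IsConj.refl z))
    · exact ⟨v, hv, h⟩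
    · exact absurd (M.conj64 hv h).1 hnc
  obtain ⟨v, hv, hvn⟩ := key s ⟨_, hs', rfl⟩ hs2 hs
  obtain ⟨w, hw, hwn⟩ := key t ⟨_, ht', rfl⟩ ht2 ht
  exact M.conj_of_norm hv hw (Or.inl hvn) (hwn.trans hvn.symm)

end Cfsg.Agent.S5411
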