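import Cfsg.Statements.S5413
import Cfsg.Agent.Lib.MonsterLocal.Cases

set_option autoImplicit false
open Cfsg

namespace Cfsg.Agent.S5413

/-- Let G be a finite group of Monster type at the involution z with Q the extraspecial normal subgroup of order 2^25 of C = C_G(z) (so C/Q is identified with the first Conway group with Q modulo its centre the Leech lattice modulo 2, and z is not weakly closed in Q). Let s be a conjugate of z in Q other than z and let B be a Sylow 5-subgroup of the joint centralizer of z and s. Then the centralizer of B modulo B is a group of Harada–Norton type (an involution whose centralizer D has generalized Fitting subgroup R extraspecial of order 2^9 with D/R the wreath product of the alternating group of degree 5 by a group of order 2, the involution not weakly closed in R). -/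
theorem result {G : Type*} [Group G] [Finite G] (z : G) (Q : Subgroup (Subgroup.centralizer ({z} : Set G))) [Q.Normal] (hM : Cfsg.IsOfMonsterType z Q) (s : G) (hsQ : ∃ hsc : s ∈ Subgroup.centralizer ({z} : Set G), (⟨s, hsc⟩ : Subgroup.centralizer ({z} : Set G)) ∈ Q) (hs : IsConj z s) (hs1 : s ≠ z) (B : Subgroup G) (hB : B ≤ Subgroup.centralizer ({z, s} : Set G)) (hBp : Nat.card B = 5 ^ (Nat.card ↥(Subgroup.centralizer ({z, s} : Set G))).factorization 5) [hn : (B.subgroupOf (Subgroup.centralizer (B : Set G))).Normal] : Cfsg.IsOfHaradaNortonType (↥(Subgroup.centralizer (B : Set G)) ⧸ B.subgroupOf (Subgroup.centralizer (B : Set G))) := by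
  obtain ⟨hsc, hs'⟩ := hsQ
  obtain ⟨e, M, -⟩ := Monster.exists_setting_of_type hM
  have hsQ : s ∈ Q.map (Subgroup.centralizer ({z} : Set G)).subtype := ⟨_, hs', rfl⟩
  obtain ⟨k, hk⟩ := MonsterLocal.exists_std M hsQ hs hs1
  haveI : Fact (Nat.Prime 5) := ⟨by norm_num⟩
  set N := MonsterLocal.twist M k
  set v := (Nat.card ↥(Subgroup.centralizer ({z, s} : Set G))).factorization 5
  have hBg : IsPGroup 5 (B.subgroupOf (Subgroup.centralizer ({z, s} : Set G))) :=
    IsPGroup.of_card (n := v) (by rw [Nat.card_congr (Subgroup.subgroupOfEquivOfLe hB).toEquiv, hBp])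
  have hle : v ≤ 1 := by
    have h := MonsterLocal.card_pgroup_dvd N hk (by decide) hBg
    rw [Nat.card_congr (Subgroup.subgroupOfEquivOfLe hB).toEquiv, hBp] at h
    by_contra! hv
    exact absurd ((pow_dvd_pow 5 hv).trans h) (by norm_num)
  have hge : 1 ≤ v := by
    obtain ⟨x, hx, hκ⟩ := MonsterLocal.exists_lift_perm N hk MonsterLocal.fiveFix.pi
    have h1 : orderOf (N.κ ⟨x, MonsterLocal.joint_le hx⟩) = 5 := by
      rw [hκ]; exact MonsterLocal.FixData.orderOf_bar MonsterLocal.fiveFix_ok (by norm_num [MonsterLocal.fiveFix])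
    refine (Nat.Prime.dvd_iff_one_le_factorization (by norm_num) Nat.card_pos.ne').1 ?_
    calc 5 ∣ orderOf x := h1 ▸ (orderOf_map_dvd N.κ _).trans (dvd_of_eq (Subgroup.orderOf_coe _).symm)
      _ ∣ _ := Subgroup.orderOf_dvd_natCard _ hx
  have hB5 : Nat.card B = 5 := by rw [hBp, show v = 1 by omega, pow_one]
  haveI : IsCyclic B := isCyclic_of_prime_card hB5
  obtain ⟨⟨y, hyB⟩, hgen⟩ := IsCyclic.exists_ofOrder_eq_natCard (α := B)
  rw [hB5, ← Subgroup.orderOf_coe] at hgen
  obtain rfl : B = Subgroup.zpowers y := by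
    refine (Subgroup.eq_of_le_of_card_ge (Subgroup.zpowers_le.2 hyB) ?_).symm
    rw [hB5, Nat.card_zpowers, hgen]
  have hy := hB (Subgroup.mem_zpowers y)
  have hys := (MonsterLocal.mem_joint.1 hy).2
  obtain ⟨M', σ, hσ, hs2, hκ⟩ := MonsterLocal.exists_frame_perm M hsQ hs hs1 (p := 5) (by norm_num)
    (by decide) hgen (MonsterLocal.joint_le hy) hys
  obtain ⟨τ, hτ⟩ := MonsterLocal.five_conj hσ
  obtain ⟨M'', -, hκ'⟩ := MonsterLocal.exists_conj_perm M' hs2 hκ hτ
  obtain ⟨θ, g0, hg0, hθs, hθk, hmove, hg03, hmin⟩ := MonsterLocal.five_theta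
  exact MonsterLocal.local_type M'' MonsterLocal.fiveFix_ok (by norm_num [MonsterLocal.fiveFix])
    hsQ hs hs1 (MonsterLocal.joint_le hy) hys hgen hκ' θ hθs hθk hg0 (by norm_num) hmove hg03 hmin
    (QuotientGroup.mk' _) (QuotientGroup.mk'_surjective _)
    (fun c => (QuotientGroup.eq_one_iff c).trans Subgroup.mem_subgroupOf)

end Cfsg.Agent.S5413
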