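import Cfsg.Statements.S5414
import Cfsg.Agent.Lib.MonsterLocal.Cases

set_option autoImplicit false
open Cfsg

namespace Cfsg.Agent.S5414

/-- Let G be a finite group of Monster type at the involution z with Q the extraspecial normal subgroup of order 2^25 of C = C_G(z) (so C/Q is identified with the first Conway group with Q modulo its centre the Leech lattice modulo 2, and z is not weakly closed in Q). Let s be a conjugate of z in Q other than z and let Y be a subgroup of order 3 of the joint centralizer L of z and s that is not 3-central in L (Y lies in the centre of no Sylow 3-subgroup of L). Then the centralizer of Y modulo Y is a group of Thompson type (an involution whose centralizer D has generalized Fitting subgroup R extraspecial of order 2^9 with D/R the alternating group of degree 9, the involution not weakly closed in R). -/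
theorem result {G : Type*} [Group G] [Finite G] (z : G) (Q : Subgroup (Subgroup.centralizer ({z} : Set G))) [Q.Normal] (hM : Cfsg.IsOfMonsterType z Q) (s : G) (hsQ : ∃ hsc : s ∈ Subgroup.centralizer ({z} : Set G), (⟨s, hsc⟩ : Subgroup.centralizer ({z} : Set G)) ∈ Q) (hs : IsConj z s) (hs1 : s ≠ z) (Y : Subgroup G) (hY : Y ≤ Subgroup.centralizer ({z, s} : Set G)) (hY3 : Nat.card Y = 3) (hnc : ∀ P : Sylow 3 ↥(Subgroup.centralizer ({z, s} : Set G)), ¬ Y.subgroupOf (Subgroup.centralizer ({z, s} : Set G)) ≤ (Subgroup.center ↥(P : Subgroup ↥(Subgroup.centralizer ({z, s} : Set G)))).map (P : Subgroup ↥(Subgroup.centralizer ({z, s} : Set G))).subtype) [hn : (Y.subgroupOf (Subgroup.centralizer (Y : Set G))).Normal] : Cfsg.IsOfThompsonType (↥(Subgroup.centralizer (Y : Set G)) ⧸ Y.subgroupOf (Subgroup.centralizer (Y : Set G))) := by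
  obtain ⟨hsc, hs'⟩ := hsQ
  obtain ⟨e, M, -⟩ := Monster.exists_setting_of_type hM
  have hsQ : s ∈ Q.map (Subgroup.centralizer ({z} : Set G)).subtype := ⟨_, hs', rfl⟩
  haveI : Fact (Nat.Prime 3) := ⟨by norm_num⟩
  haveI : IsCyclic Y := isCyclic_of_prime_card hY3
  obtain ⟨⟨y, hyY⟩, hgen⟩ := IsCyclic.exists_ofOrder_eq_natCard (α := Y)
  rw [hY3, ← Subgroup.orderOf_coe] at hgen
  obtain rfl : Y = Subgroup.zpowers y := by
    refine (Subgroup.eq_of_le_of_card_ge (Subgroup.zpowers_le.2 hyY) ?_).symm
    rw [hY3, Nat.card_zpowers, hgen]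
  have hy := hY (Subgroup.mem_zpowers y)
  have hys := (MonsterLocal.mem_joint.1 hy).2
  obtain ⟨M', σ, hσ, hs2, hκ⟩ := MonsterLocal.exists_frame_perm M hsQ hs hs1 (p := 3) (by norm_num)
    (by decide) hgen (MonsterLocal.joint_le hy) hys
  rcases MonsterLocal.three_conj hσ with ⟨τ, hτ⟩ | ⟨T, hT, hσT, hTc⟩
  swap
  · obtain ⟨P, hP⟩ := MonsterLocal.exists_central_sylow M' hs2 hy hgen hκ hT hσT hTc
    exact absurd hP (hnc P)
  obtain ⟨M'', -, hκ'⟩ := MonsterLocal.exists_conj_perm M' hs2 hκ hτ
  obtain ⟨θ, g0, hg0, hθs, hθk, hmove, hg03, hmin⟩ := MonsterLocal.three_theta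
  exact MonsterLocal.local_type M'' MonsterLocal.threeFix_ok (by norm_num [MonsterLocal.threeFix])
    hsQ hs hs1 (MonsterLocal.joint_le hy) hys hgen hκ' θ hθs hθk hg0 (by norm_num) hmove hg03 hmin
    (QuotientGroup.mk' _) (QuotientGroup.mk'_surjective _)
    (fun c => (QuotientGroup.eq_one_iff c).trans Subgroup.mem_subgroupOf)

end Cfsg.Agent.S5414
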