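import Cfsg.Statements.S5418
import Cfsg.Agent.Lib.MonsterSeven.Normalizer

set_option autoImplicit false
open Cfsg

namespace Cfsg.Agent.S5418

/-- Let G be a finite group of Monster type at the involution z with Q the extraspecial normal subgroup of order 2^25 of C = C_G(z) (so C/Q is identified with the first Conway group with Q modulo its centre the Leech lattice modulo 2, and z is not weakly closed in Q). Let s be a conjugate of z in Q other than z and let B be a Sylow 7-subgroup of the joint centralizer of z and s. Then the centralizer of B has index 6 in the normalizer of B; and some involution inverting B induces, by conjugation, a non-inner automorphism of the layer of the centralizer of B. -/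
theorem result {G : Type*} [Group G] [Finite G] (z : G) (Q : Subgroup (Subgroup.centralizer ({z} : Set G))) [Q.Normal] (hM : Cfsg.IsOfMonsterType z Q) (s : G) (hsQ : ∃ hsc : s ∈ Subgroup.centralizer ({z} : Set G), (⟨s, hsc⟩ : Subgroup.centralizer ({z} : Set G)) ∈ Q) (hs : IsConj z s) (hs1 : s ≠ z) (B : Subgroup G) (hB : B ≤ Subgroup.centralizer ({z, s} : Set G)) (hBp : Nat.card B = 7 ^ (Nat.card ↥(Subgroup.centralizer ({z, s} : Set G))).factorization 7) : (Subgroup.centralizer (B : Set G)).relIndex (Subgroup.normalizer (B : Set G)) = 6 ∧ ∃ t : G, orderOf t = 2 ∧ (∀ b ∈ B, t * b * t⁻¹ = b⁻¹) ∧ (∀ x ∈ (Cfsg.layer ↥(Subgroup.centralizer (B : Set G))).map (Subgroup.centralizer (B : Set G)).subtype, t * x * t⁻¹ ∈ (Cfsg.layer ↥(Subgroup.centralizer (B : Set G))).map (Subgroup.centralizer (B : Set G)).subtype) ∧ ¬ ∃ l ∈ (Cfsg.layer ↥(Subgroup.centralizer (B : Set G))).map (Subgroup.centralizer (B : Set G)).subtype, ∀ x ∈ (Cfsg.layer ↥(Subgroup.centralizer (B : Set G))).map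 (Subgroup.centralizer (B : Set G)).subtype, t * x * t⁻¹ = l * x * l⁻¹ := by
  obtain ⟨hsc', hsQ'⟩ := hsQ
  obtain ⟨-, M, -⟩ := Monster.exists_setting_of_type hM
  obtain ⟨M', hrel, b, hbz, hbs, hBb, hb7, hκ⟩ :=
    MonsterSeven.exists_adapted M ⟨_, hsQ', rfl⟩ hs hs1 hB hBp
  subst hBb
  let X : MonsterSeven.Ctx G := ⟨z, _, M', s, hrel, b, hbz, hbs, hb7, hκ⟩
  obtain ⟨t, ht2, ht⟩ := X.exists_inverting
  have hinv : ∀ x ∈ Subgroup.zpowers b, t * x * t⁻¹ = x⁻¹ := by
    intro x hx
    obtain ⟨i, rfl⟩ := Subgroup.mem_zpowers_iff.1 hx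
    rw [← conj_zpow, show t * b * t⁻¹ = b⁻¹ from ht, inv_zpow]
  refine ⟨X.relIndex_eq, t, ht2, hinv, ?_, X.not_inner hs1 hs ht⟩
  have htN : t ∈ Subgroup.normalizer (Subgroup.centralizer (Subgroup.zpowers b : Set G) : Set G) := by
    refine Subgroup.mem_normalizer_fintype fun c hc => Subgroup.mem_centralizer_iff.2 fun y hy => ?_
    have h1 := Subgroup.mem_centralizer_iff.1 hc y⁻¹ (inv_mem hy)
    have h2 : t * y⁻¹ * t⁻¹ = y := by rw [hinv _ (inv_mem hy), inv_inv]
    calc y * (t * c * t⁻¹) = (t * y⁻¹ * t⁻¹) * (t * c * t⁻¹) := by rw [h2]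
      _ = t * (y⁻¹ * c) * t⁻¹ := by group
      _ = (t * c * t⁻¹) * (t * y⁻¹ * t⁻¹) := by rw [h1]; group
      _ = _ := by rw [h2]
  rintro _ ⟨y, hy, rfl⟩
  let e := (Subgroup.centralizer (Subgroup.zpowers b : Set G)).normalizerMonoidHom ⟨t, htN⟩
  have he : e y ∈ Cfsg.layer (Subgroup.centralizer (Subgroup.zpowers b : Set G)) := by
    rw [← Components.layer_map_equiv e]
    exact ⟨y, hy, rfl⟩
  exact ⟨e y, he, rfl⟩

end Cfsg.Agent.S5418
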