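import Cfsg.Statements.S5423
import Cfsg.Agent.Lib.LargeExtraspecial.AffineInst
-- import your own Cfsg.Agent.* helpers here

set_option autoImplicit false
open Cfsg

namespace Cfsg.Agent.S5423

/-- Let G be a finite group that is the split extension of an elementary abelian normal subgroup U of order 2^(n+1), n ≥ 1, by its full automorphism group: U has a complement M in G whose conjugation action on U is faithful and realizes every automorphism of U. Let Z be a subgroup of U of order 2 and Q the largest normal 2-subgroup of the centralizer C of Z. Then Q is extraspecial of order 2^(2n+1) with an elementary abelian subgroup of order 2^(n+1) (plus type), Q is a large extraspecial 2-subgroup of G, and C is the split extension of Q by the general linear group of degree n over the field with two elements. -/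
theorem result {G : Type*} [Group G] [Finite G] (n : ℕ) (hn : 1 ≤ n) (U M : Subgroup G) [U.Normal] (hU : Cfsg.IsElementaryAbelian 2 U) (hUcard : Nat.card ↥U = 2 ^ (n + 1)) (hUM : U ⊓ M = ⊥) (hUM' : U ⊔ M = ⊤) (hfaith : ∀ m ∈ M, (∀ u ∈ U, m * u * m⁻¹ = u) → m = 1) (hfull : ∀ φ : ↥U ≃* ↥U, ∃ m ∈ M, ∀ u : ↥U, ((φ u : ↥U) : G) = m * u * m⁻¹) (Z : Subgroup G) (hZU : Z ≤ U) (hZ : Nat.card ↥Z = 2) (Q : Subgroup G) (hQ : Q = (Cfsg.pCore 2 ↥(Subgroup.centralizer (Z : Set G))).map (Subgroup.centralizer (Z : Set G)).subtype) : Cfsg.IsExtraspecial 2 ↥Q ∧ Nat.card ↥Q = 2 ^ (2 * n + 1) ∧ (∃ E : Subgroup G, E ≤ Q ∧ Cfsg.IsElementaryAbelian 2 E ∧ Nat.card ↥E = 2 ^ (n + 1)) ∧ Cfsg.IsLargeExtraspecial Q ∧ ∃ K : Subgroup G, K ≤ Subgroup.centralizer (Z : Set G) ∧ Q ⊓ K = ⊥ ∧ Q ⊔ K = Subgroup.centralizer (Z : Set G) ∧ Nonempty (↥K ≃* Matrix.GeneralLinearGroup (Fin n) (ZMod 2)) := by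
  open LargeExtraspecial.Affine in
  obtain ⟨z, hzZ, hzgen, hz1⟩ : ∃ z ∈ Z, (∀ y ∈ Z, y = 1 ∨ y = z) ∧ z ≠ 1 := by
    obtain ⟨a, b, hab, huniv⟩ := Nat.card_eq_two_iff.mp hZ
    have hall : ∀ y : Z, y = a ∨ y = b := fun y => by
      have : y ∈ ({a, b} : Set Z) := huniv ▸ Set.mem_univ y
      simpa using this
    rcases hall 1 with h | h
    · exact ⟨b, b.2, fun y hy => by
        rcases hall ⟨y, hy⟩ with e | e
        · left; exact congrArg Subtype.val (e.trans h.symm)
        · right; exact congrArg Subtype.val e, fun e => hab (h.symm.trans (Subtype.ext e).symm)⟩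
    · exact ⟨a, a.2, fun y hy => by
        rcases hall ⟨y, hy⟩ with e | e
        · right; exact congrArg Subtype.val e
        · left; exact congrArg Subtype.val (e.trans h.symm), fun e => hab ((Subtype.ext e).trans h)⟩
  have hCz : Subgroup.centralizer (Z : Set G) = Subgroup.centralizer ({z} : Set G) := by
    refine le_antisymm (Subgroup.centralizer_le (Set.singleton_subset_iff.mpr hzZ)) fun g hg => ?_
    rw [Subgroup.mem_centralizer_singleton_iff] at hg
    rw [Subgroup.mem_centralizer_iff]
    intro y hy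
    rcases hzgen y hy with rfl | rfl
    · simp
    · exact hg.symm
  rw [hCz] at hQ ⊢
  haveI : IsMulCommutative U := hU.1
  letI : CommGroup U := { (inferInstance : Group U) with mul_comm := mul_comm' }
  letI : Module (ZMod 2) (Additive U) := AddCommGroup.zmodModule (n := 2) fun x => by
    apply Additive.toMul.injective
    apply Subtype.ext
    simpa using hU.2 _ x.toMul.2
  have hrank : Module.finrank (ZMod 2) (Additive U) = n + 1 := by
    have h := Module.natCard_eq_pow_finrank (K := ZMod 2) (V := Additive U)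
    rw [Nat.card_congr Additive.toMul, hUcard, Nat.card_zmod] at h
    exact (Nat.pow_right_injective le_rfl h).symm
  obtain ⟨L, hLe⟩ : ∃ L : LargeExtraspecial.Affine.X n ≃ₗ[ZMod 2] Additive U,
      L (LargeExtraspecial.Affine.e n) = Additive.ofMul (⟨z, hZU hzZ⟩ : U) := by
    let L0 : LargeExtraspecial.Affine.V (n + 1) ≃ₗ[ZMod 2] Additive U :=
      LinearEquiv.ofFinrankEq _ _ (by rw [hrank, Module.finrank_pi, Fintype.card_fin])
    let c : LargeExtraspecial.Affine.X n ≃ₗ[ZMod 2] LargeExtraspecial.Affine.V (n + 1) :=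
      Fin.consLinearEquiv (ZMod 2) fun _ : Fin (n + 1) => ZMod 2
    obtain ⟨g, hg⟩ := LargeExtraspecial.Affine.exists_map_eq
      (v := c (LargeExtraspecial.Affine.e n)) (w := L0.symm (Additive.ofMul (⟨z, hZU hzZ⟩ : U)))
      (fun h => by
        have := congrArg Prod.fst (c.injective (h.trans (map_zero c).symm))
        simp at this)
      (fun h => by
        have := congrArg L0 h
        rw [L0.apply_symm_apply, map_zero] at this
        exact hz1 (congrArg Subtype.val (congrArg Additive.toMul this)))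
    exact ⟨(c.trans g).trans L0, by
      show L0 (g (c _)) = _
      rw [hg, L0.apply_symm_apply]⟩
  let p : LargeExtraspecial.Affine.X n → G := fun x => ((L x).toMul : U)
  have hp_add : ∀ x y, p (x + y) = p x * p y := fun x y => by simp [p]
  have hp_inj : Function.Injective p := fun x y h =>
    L.injective (Additive.toMul.injective (Subtype.ext h))
  have hp_surj : ∀ u ∈ U, ∃ x, p x = u := fun u hu =>
    ⟨L.symm (Additive.ofMul ⟨u, hu⟩), by simp [p]⟩
  have hex : ∀ s : LargeExtraspecial.Affine.AutX n, ∃ a : M, ∀ x, (a : G) * p x * (a : G)⁻¹ = p (s x) := by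
    intro s
    let φ : U ≃* U :=
      { toFun := fun u => (L (s (L.symm (Additive.ofMul u)))).toMul
        invFun := fun u => (L (s.symm (L.symm (Additive.ofMul u)))).toMul
        left_inv := fun u => by simp
        right_inv := fun u => by simp
        map_mul' := fun u v => by simp }
    obtain ⟨a, ha, h⟩ := hfull φ
    refine ⟨⟨a, ha⟩, fun x => ?_⟩
    rw [← h ((L x).toMul)]
    simp [φ, p]
  choose mf hmf using hex
  have huniq : ∀ a b : M, (∀ x, (a : G) * p x * (a : G)⁻¹ = (b : G) * p x * (b : G)⁻¹) → a = b := by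
    intro a b h
    refine inv_mul_eq_one.mp (Subtype.ext (hfaith _ (a⁻¹ * b).2 fun u hu => ?_))
    obtain ⟨x, rfl⟩ := hp_surj u hu
    calc (a : G)⁻¹ * b * p x * ((a : G)⁻¹ * b)⁻¹ = (a : G)⁻¹ * (b * p x * (b : G)⁻¹) * a := by group
      _ = (a : G)⁻¹ * (a * p x * (a : G)⁻¹) * a := by rw [h]
      _ = p x := by group
  let m : LargeExtraspecial.Affine.AutX n →* G := M.subtype.comp
    { toFun := mf
      map_one' := huniq _ _ fun x => by rw [hmf]; simp
      map_mul' := fun s t => huniq _ _ fun x => by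
        rw [hmf, Subgroup.coe_mul, LinearEquiv.mul_apply, ← hmf s, ← hmf t]; group }
  have S : LargeExtraspecial.Affine.Setup p m := by
    refine ⟨hp_add, hp_inj, fun s t h => LinearEquiv.ext fun x => hp_inj ?_, hmf, fun s x h => ?_, fun g hg => ?_⟩
    · rw [← hmf, ← hmf, show mf s = mf t from Subtype.ext h]
    · have : p x ∈ U ⊓ M := ⟨((L x).toMul : U).2, h ▸ (mf s).2⟩
      rw [hUM, Subgroup.mem_bot] at this
      apply hp_inj
      rw [this]
      simp [p]
    · have hg' : g ∈ ((U ⊔ M : Subgroup G) : Set G) := by rw [hUM']; trivial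
      rw [Subgroup.normal_mul] at hg'
      obtain ⟨u, hu, a, ha, rfl⟩ := Set.mem_mul.mp hg'
      obtain ⟨x, rfl⟩ := hp_surj u hu
      have hst : ∀ y, ∃ y', p y' = a * p y * a⁻¹ := fun y =>
        hp_surj _ (‹U.Normal›.conj_mem _ ((L y).toMul : U).2 a)
      choose f hf using hst
      let f0 : LargeExtraspecial.Affine.X n →+ LargeExtraspecial.Affine.X n :=
        AddMonoidHom.mk' f fun y y' => hp_inj (by rw [hp_add, hf, hf, hf, hp_add]; group)
      have hinj : Function.Injective f := fun y y' h => hp_inj (by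
        have := congrArg p h
        rw [hf, hf] at this
        simpa using this)
      let s : LargeExtraspecial.Affine.AutX n :=
        LinearEquiv.ofBijective (f0.toZModLinearMap 2) ⟨hinj, Finite.injective_iff_surjective.mp hinj⟩
      refine ⟨x, s, ?_⟩
      rw [show a = m s from congrArg Subtype.val (huniq ⟨a, ha⟩ (mf s) fun y => by
        rw [hmf]; exact (hf y).symm)]
  have hpe : p (LargeExtraspecial.Affine.e n) = z := by simp [p, hLe]
  rw [← hpe] at hQ ⊢
  obtain ⟨h1, h2, h3, h4, K, h5, h6, h7, ⟨φ⟩⟩ := S.main hn Q hQ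
  exact ⟨h1, h2, h3, h4, K, h5, h6, h7, ⟨φ.trans (LargeExtraspecial.Affine.glEquiv n).symm⟩⟩

end Cfsg.Agent.S5423
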