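import Cfsg.Statements.S5426
import Cfsg.Agent.Lib.LargeExtraspecial.Simple
import Cfsg.Agent.Lib.LargeExtraspecial.CompProduct
import Cfsg.Agent.Lib.TwoTransfer.CenterInvolution
import Cfsg.Agent.Lib.PGroup.Basic
import Cfsg.Agent.Lib.Components.PComponent
import Cfsg.Agent.Lib.Cores.Subnormal
-- import your own Cfsg.Agent.* helpers here

set_option autoImplicit false
open Cfsg
open scoped commutatorElement

namespace Cfsg.Agent.S5426

/-- A self-centralising involution of a Sylow 2-subgroup of a simple group: the Sylow subgroup is larger. -/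
theorem exists_third {L : Type*} [Group L] [Finite L] [IsSimpleGroup L] (hL : ¬ IsMulCommutative L)
    (R : Sylow 2 L) (z : (R : Subgroup L)) (hz1 : z ≠ 1) : ∃ c ∈ (R : Subgroup L), c ≠ 1 ∧ c ≠ (z : L) := by
  haveI : Fact (Nat.Prime 2) := ⟨Nat.prime_two⟩
  by_contra! h
  have hall : ∀ y : (R : Subgroup L), y = 1 ∨ y = z := fun y => by
    by_cases hy : (y : L) = 1
    · exact Or.inl (Subtype.ext hy)
    · exact Or.inr (Subtype.ext (h y y.2 hy))
  have hperf : commutator L = ⊤ := by
    rcases (inferInstance : (commutator L).Normal).eq_bot_or_eq_top with h | h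
    · refine absurd ⟨⟨fun a b => ?_⟩⟩ hL
      exact commutatorElement_eq_one_iff_mul_comm.mp (Subgroup.mem_bot.mp (h ▸ (by
        rw [commutator_def]; exact Subgroup.commutator_mem_commutator (Subgroup.mem_top a) (Subgroup.mem_top b))))
    · exact h
  have hz2 : z ^ 2 = 1 := by
    rcases hall (z ^ 2) with h' | h'
    · exact h'
    · exact absurd (by simpa [pow_two] using h') hz1
  have hzc : ∀ y : (R : Subgroup L), y * z = z * y := fun y => by rcases hall y with rfl | rfl <;> simp
  refine TwoTransfer.pResidual_ne_top R z hz2 (Subgroup.mem_center_iff.mpr hzc) ?_ ?_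
    ((Transfer.pResidual_eq_top_iff R).mpr (hperf ▸ le_top))
  · intro hzF
    have htop : frattini (R : Subgroup L) = ⊤ := by
      refine eq_top_iff.mpr fun y _ => ?_
      rcases hall y with rfl | rfl
      exacts [one_mem _, hzF]
    haveI : Nontrivial (R : Subgroup L) := ⟨⟨z, 1, hz1⟩⟩
    rcases IsCoatomic.eq_top_or_exists_le_coatom (⊥ : Subgroup (R : Subgroup L)) with h' | ⟨M, hM, -⟩
    · exact bot_ne_top h'
    · exact hM.1 (top_le_iff.mp (htop ▸ frattini_le_coatom hM))
  · intro n hn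
    have hnz : n * (z : L) * n⁻¹ ∈ (R : Subgroup L) := (Subgroup.mem_normalizer_iff.mp hn _).mp z.2
    rcases hall ⟨_, hnz⟩ with h' | h'
    · exact absurd (Subtype.ext (conj_eq_one_iff.mp (congrArg Subtype.val h'))) hz1
    · exact congrArg Subtype.val h'

/-- Let Q be a large extraspecial 2-subgroup of the finite group G (extraspecial; centralizer equal to its centre; normal in the centralizer of its centre; normalizing no non-trivial subgroup of odd order) with centre generated by z, and let M be the normal closure of z in G. Then one of the following holds: Q is normal in G; or M is abelian and the generalized Fitting subgroup of G is its largest normal 2-subgroup; or M is the generalized Fitting subgroup of G and is a non-abelian simple group; or M is the generalized Fitting subgroup of G and is the direct product of a non-abelian simple subgroup L and its conjugate u L u⁻¹ by some u in Q (the two meet trivially and commute elementwise), with z = z₁ (u z₁ u⁻¹) for some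 z₁ in L whose centralizer in L is a Sylow 2-subgroup of L with Frattini subgroup inside the subgroup generated by z₁, and Q is not the largest normal 2-subgroup of the centralizer of z. -/
theorem result {G : Type*} [Group G] [Finite G] (Q : Subgroup G) (hQ : Cfsg.IsLargeExtraspecial Q) (z : G) (hz : ((Subgroup.center ↥Q).map Q.subtype) = Subgroup.zpowers z) (M : Subgroup G) (hM : M = Subgroup.normalClosure ({z} : Set G)) : Q.Normal ∨ (IsMulCommutative ↥M ∧ Cfsg.generalizedFittingSubgroup G = Cfsg.pCore 2 G) ∨ (M = Cfsg.generalizedFittingSubgroup G ∧ IsSimpleGroup ↥M ∧ ¬ IsMulCommutative ↥M) ∨ (M = Cfsg.generalizedFittingSubgroup G ∧ ∃ (L : Subgroup G) (u : G), u ∈ Q ∧ IsSimpleGroup ↥L ∧ ¬ IsMulCommutative ↥L ∧ L ⊓ (L).map (MulAut.conj u).toMonoidHom = ⊥ ∧ (∀ x ∈ L, ∀ y ∈ (L).map (MulAut.conj u).toMonoidHom, x * y = y * x) ∧ L ⊔ (L).map (MulAut.conj u).toMonoidHom = M ∧ ∃ z₁ ∈ L, z = z₁ * (u * z₁ * u⁻¹) ∧ (∃ R : Sylow 2 ↥L, (R : Subgroup ↥L) = (Subgroup.centralizer ({z₁}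 : Set G)).subgroupOf L ∧ (frattini ↥(R : Subgroup ↥L)).map ((L.subtype).comp (R : Subgroup ↥L).subtype) ≤ Subgroup.zpowers z₁) ∧ Q ≠ (Cfsg.pCore 2 ↥(Subgroup.centralizer ({z} : Set G))).map (Subgroup.centralizer ({z} : Set G)).subtype) := by
  haveI : Fact (Nat.Prime 2) := ⟨Nat.prime_two⟩
  have hLE := hQ
  obtain ⟨hQe, hL2, hL3, hodd⟩ := hQ
  change LargeExtraspecial.zc Q = Subgroup.zpowers z at hz
  have hz2 : orderOf z = 2 := by rw [← Nat.card_zpowers, ← hz, LargeExtraspecial.card_zc hQe]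
  have D := LargeExtraspecial.Data.of_extraspecial hQe hL2 hL3 hz hz2
  obtain ⟨T, hT⟩ := hQe.1.1.exists_le_sylow
  have hTz : LargeExtraspecial.zc (T : Subgroup G) = Subgroup.zpowers z :=
    (LargeExtraspecial.center_sylow_eq hQe hL2 T.isPGroup' hT).trans hz
  have hzT : ∀ t ∈ (T : Subgroup G), t * z = z * t :=
    (LargeExtraspecial.mem_zc.mp (hTz ▸ Subgroup.mem_zpowers z : z ∈ LargeExtraspecial.zc (T : Subgroup G))).2
  have hnorm : ∀ (N : Subgroup G), N.Normal → N ≠ ⊥ → z ∈ N := fun N hN hN1 =>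
    haveI := hN; LargeExtraspecial.mem_of_normal hLE hz D.z_sq hN1
  have hMn : M.Normal := hM ▸ Subgroup.normalClosure_normal
  have hzM : z ∈ M := hM ▸ Subgroup.subset_normalClosure rfl
  have hMle : ∀ N : Subgroup G, N.Normal → N ≠ ⊥ → M ≤ N := fun N hN hN1 => by
    haveI := hN
    rw [hM]
    exact Subgroup.normalClosure_le_normal (Set.singleton_subset_iff.mpr (hnorm N hN hN1))
  have hO : Cfsg.pPrimeCore 2 G = ⊥ := by
    refine hodd _ (Nat.coprime_two_right.mp (Cores.coprime_card_pPrimeCore 2)) ?_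
    rw [Subgroup.normalizer_eq_top]; exact le_top
  have hF := Components.fitting_eq_pCore_of (p := 2) hO
  refine Or.inr ?_
  by_cases hE : Cfsg.layer G = ⊥
  · have hFs := Components.genFitting_eq_pCore_of hE hO
    refine Or.inl ⟨?_, hFs⟩
    have hD1 : Cfsg.pCore 2 G ≠ ⊥ := fun h => D.z_ne (by
      have h1 : z ∈ Cfsg.generalizedFittingSubgroup G := Components.centralizer_genFitting_le
        (Subgroup.mem_centralizer_iff.mpr fun y hy => by
          rw [hFs, h] at hy
          rw [Subgroup.mem_bot.mp hy]; simp)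
      rw [hFs, h] at h1
      exact Subgroup.mem_bot.mp h1)
    haveI : Nontrivial (Cfsg.pCore 2 G) := (Subgroup.nontrivial_iff_ne_bot _).mpr hD1
    haveI := (LargeExtraspecial.isPGroup_pCore (G := G) 2).center_nontrivial
    have hle := hMle ((Subgroup.center (Cfsg.pCore 2 G)).map (Cfsg.pCore 2 G).subtype) inferInstance
      ((Subgroup.map_eq_bot_iff_of_injective _ (Subgroup.subtype_injective _)).not.mpr
        ((Subgroup.nontrivial_iff_ne_bot _).mp inferInstance))
    refine ⟨⟨fun a b => Subtype.ext ?_⟩⟩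
    obtain ⟨a', ha', ea⟩ := hle a.2
    obtain ⟨b', -, eb⟩ := hle b.2
    show (a : G) * b = b * a
    rw [← ea, ← eb]
    exact congrArg Subtype.val (Subgroup.mem_center_iff.mp ha' b').symm
  -- the layer is not trivial
  set E := Cfsg.layer G with hEdef
  have hEz : ¬ ∀ e ∈ E, e * z = z * e := by
    intro h
    have hEQ : E ≤ Subgroup.normalizer (Q : Set G) := fun e he =>
      Subgroup.mem_normalizer_fintype (D.norm e (h e he))
    have hsol : Group.IsSolvable ↥(E ⊓ Q) := by
      haveI := (hQe.1.1.to_le (inf_le_right : E ⊓ Q ≤ Q)).isNilpotent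
      infer_instance
    have hEC := Components.layer_le_centralizer_of_solvable hsol fun e he =>
      Subgroup.mem_normalizer_fintype fun x hx =>
        ⟨(Components.layer_normal (G := G)).conj_mem x hx.1 e, D.norm e (h e he) x hx.2⟩
    have h1 : ⁅E, Q⁆ ≤ E ⊓ Q := Subgroup.commutator_le.mpr fun e he q hq => by
      refine ⟨?_, Q.mul_mem (D.norm e (h e he) q hq) (Q.inv_mem hq)⟩
      rw [commutatorElement_def, show e * q * e⁻¹ * q⁻¹ = e * (q * e⁻¹ * q⁻¹) by group]
      exact mul_mem he ((Components.layer_normal (G := G)).conj_mem _ (inv_mem he) q)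
    have h2 : ⁅⁅E, Q⁆, E⁆ = ⊥ := le_bot_iff.mp ((Subgroup.commutator_mono h1 le_rfl).trans
      (le_of_eq (Subgroup.commutator_eq_bot_iff_le_centralizer.mpr (Subgroup.le_centralizer_iff.mp hEC))))
    have h3 := Subgroup.commutator_eq_bot_iff_le_centralizer.mp
      (Components.commutator_eq_bot_of_perfect Components.layer_perfect h2)
    rw [hL2] at h3
    have h4 : ⁅E, E⁆ = ⊥ := by
      rw [Subgroup.commutator_eq_bot_iff_le_centralizer]
      intro a ha
      rw [Subgroup.mem_centralizer_iff]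
      intro b hb
      exact (LargeExtraspecial.mem_zc.mp (h3 ha)).2 b (LargeExtraspecial.zc_le Q (h3 hb))
    rw [Components.layer_perfect] at h4
    exact hE h4
  have hFit : Cfsg.fittingSubgroup G = ⊥ := by
    by_contra h
    exact hEz fun e he => (Subgroup.mem_centralizer_iff.mp (Components.layer_le_centralizer_fitting he) z
      (hnorm _ (by rw [hF]; infer_instance) h)).symm
  have hFs : Cfsg.generalizedFittingSubgroup G = E := by
    rw [Cfsg.generalizedFittingSubgroup, hFit, sup_bot_eq]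
  have hC : Subgroup.centralizer (E : Set G) = ⊥ := by
    rw [← hFs, ← le_bot_iff, ← hFit]
    exact Components.centralizer_genFitting_le_fitting
  have hME : M = E := by
    refine le_antisymm (hMle E Components.layer_normal hE) (Components.layer_le fun L hL => ?_)
    refine (Components.IsComponent.le_or_commutes hL hMn.isSubnormal).resolve_right fun h => ?_
    rw [Subgroup.commutator_eq_bot_iff_le_centralizer] at h
    haveI := hMn
    have hMC : M ≤ Subgroup.centralizer (M : Set G) := hMle _ inferInstance fun hb =>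
      Components.IsComponent.ne_bot hL (le_bot_iff.mp (hb ▸ h))
    haveI : IsMulCommutative M :=
      ⟨⟨fun a b => Subtype.ext (Subgroup.mem_centralizer_iff.mp (hMC b.2) a a.2)⟩⟩
    exact D.z_ne (Subgroup.mem_bot.mp (hFit ▸ Cores.le_fittingSubgroup_of_isMulCommutative M hzM))
  have hMF : M = Cfsg.generalizedFittingSubgroup G := hME.trans hFs.symm
  -- `z` has a non-trivial part in every component
  have hrest : ∀ L : Subgroup G, Cfsg.IsComponent L → z ∉ LargeExtraspecial.rest L := by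
    intro L hL hzL
    set O : Set (Subgroup G) :=
      {K | ∃ t ∈ (T : Subgroup G), K = L.map (MulAut.conj t).toMonoidHom} with hO'
    set P : Subgroup G := sSup O with hP
    have hPn : ∀ t ∈ (T : Subgroup G), ∀ x ∈ P, t * x * t⁻¹ ∈ P := by
      intro t ht x hx
      have : P ≤ P.comap (MulAut.conj t).toMonoidHom := by
        refine sSup_le ?_
        rintro _ ⟨t', ht', rfl⟩
        rintro _ ⟨a, ha, rfl⟩
        refine le_sSup (s := O) ⟨t * t', mul_mem ht ht', rfl⟩ ⟨a, ha, ?_⟩
        simp [mul_assoc]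
      exact this hx
    haveI hN : (P.subgroupOf (T : Subgroup G)).Normal := ⟨fun n hn t => hPn t t.2 n hn⟩
    have hLP : L ≤ P := le_sSup (s := O) ⟨1, one_mem _, by ext; simp⟩
    have hN1 : P.subgroupOf (T : Subgroup G) ≠ ⊥ := by
      obtain ⟨R, hR⟩ := Cores.sylow_inf_isSubnormal T hL.1
      obtain ⟨x, hx, hx1⟩ := (Subgroup.nontrivial_iff_exists_ne_one _).mp
        ((Subgroup.nontrivial_iff_ne_bot _).mpr (R.ne_bot_of_dvd_card (Components.IsComponent.dvd_card hO hL)))
      rw [hR] at hx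
      intro h
      have h' : (⟨(x : G), hx⟩ : (T : Subgroup G)) ∈ P.subgroupOf (T : Subgroup G) := hLP x.2
      rw [h, Subgroup.mem_bot] at h'
      exact hx1 (Subtype.ext (by simpa using congrArg Subtype.val h'))
    obtain ⟨x, ⟨hxP, hxc⟩, hx1⟩ := (Subgroup.nontrivial_iff_exists_ne_one _).mp
      ((Subgroup.nontrivial_iff_ne_bot _).mpr (PGroup.inf_center_ne_bot T.isPGroup' hN1))
    have hzP : z ∈ P := by
      rcases LargeExtraspecial.mem_zpowers_two D.z_sq
        (hTz ▸ ⟨x, hxc, rfl⟩ : (x : G) ∈ Subgroup.zpowers z) with h | h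
      · exact absurd (Subtype.ext h) hx1
      · exact h ▸ hxP
    have hJ : ∀ J : Subgroup G, Cfsg.IsComponent J → J ≤ Subgroup.centralizer ({z} : Set G) := by
      intro J hJc a ha
      rw [Subgroup.mem_centralizer_singleton_iff]
      by_cases hJO : J ∈ O
      · obtain ⟨t, ht, rfl⟩ := hJO
        obtain ⟨b, hb, rfl⟩ := ha
        have h1 : Commute b z := LargeExtraspecial.commute_rest hL hb hzL
        have h2 : Commute t z := hzT t ht
        exact ((h2.mul_left h1).mul_left h2.inv_left).eq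
      · refine LargeExtraspecial.commute_rest hJc ha ((sSup_le fun K hK => ?_ : P ≤ _) hzP)
        obtain ⟨t, ht, rfl⟩ := hK
        exact LargeExtraspecial.le_rest (Components.IsComponent.conj hL t) fun h =>
          hJO ⟨t, ht, h.symm⟩
    exact hEz fun e he => Subgroup.mem_centralizer_singleton_iff.mp (Components.layer_le hJ he)
  obtain ⟨L, hL⟩ : ∃ L : Subgroup G, Cfsg.IsComponent L := by
    by_contra! h
    exact hE (Components.layer_eq_bot_iff.mpr h)
  obtain ⟨hLs, hLna⟩ := LargeExtraspecial.isSimpleGroup_component hC hL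
  by_cases hone : ∀ K : Subgroup G, Cfsg.IsComponent K → K = L
  · have hEL : E = L := le_antisymm (Components.layer_le fun K hK => (hone K hK).le)
      (Components.IsComponent.le_layer hL)
    refine Or.inr (Or.inl ⟨hMF, ?_⟩)
    rw [hME, hEL]
    exact ⟨hLs, hLna⟩
  push Not at hone
  obtain ⟨K₀, hK₀, hK₀L⟩ := hone
  refine Or.inr (Or.inr ⟨hMF, ?_⟩)
  have hzL : ∀ J : Subgroup G, Cfsg.IsComponent J → z ∉ J := by
    intro J hJ hzJ
    obtain ⟨K, hK, hKJ⟩ : ∃ K, Cfsg.IsComponent K ∧ K ≠ J := by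
      by_cases h : K₀ = J
      · exact ⟨L, hL, fun h' => hK₀L (h.trans h'.symm)⟩
      · exact ⟨K₀, hK₀, h⟩
    exact hrest K hK (LargeExtraspecial.le_rest hJ hKJ.symm hzJ)
  obtain ⟨z₁, hz₁, n, hn, hzn⟩ := LargeExtraspecial.exists_decomp hL (hME ▸ hzM : z ∈ E)
  have hc1 : ∀ {a b : G}, a ∈ L → b ∈ LargeExtraspecial.rest L → a * b = b * a :=
    fun ha hb => LargeExtraspecial.commute_rest hL ha hb
  have huniq : ∀ {a a' b b' : G}, a ∈ L → a' ∈ L → b ∈ LargeExtraspecial.rest L →
      b' ∈ LargeExtraspecial.rest L → a * b = a' * b' → a = a' ∧ b = b' :=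
    fun ha ha' hb hb' h => LargeExtraspecial.decomp_unique hC hL ha ha' hb hb' h
  have hz₁1 : z₁ ≠ 1 := fun h => hrest L hL (by rw [← hzn, h, one_mul]; exact hn)
  have hz₁2 : z₁ * z₁ = 1 := by
    refine (huniq (mul_mem hz₁ hz₁) (one_mem _) (mul_mem hn hn) (one_mem _) ?_).1
    rw [one_mul, ← D.z_sq, ← hzn]
    calc z₁ * z₁ * (n * n) = z₁ * (z₁ * n) * n := by group
      _ = z₁ * (n * z₁) * n := by rw [hc1 hz₁ hn]
      _ = z₁ * n * (z₁ * n) := by group
  have hcz : ∀ c ∈ L, c * z = z * c ↔ c * z₁ = z₁ * c := by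
    intro c hc
    constructor
    · intro h
      refine (huniq (mul_mem hc hz₁) (mul_mem hz₁ hc) hn hn ?_).1
      calc c * z₁ * n = c * z := by rw [← hzn]; group
        _ = z₁ * n * c := by rw [h, ← hzn]
        _ = z₁ * (n * c) := by group
        _ = z₁ * c * n := by rw [← hc1 hc hn]; group
    · intro h
      rw [← hzn]
      exact ((show Commute c z₁ from h).mul_right (hc1 hc hn)).eq
  have hz₁z : z₁ * z = z * z₁ := (hcz z₁ hz₁).mpr rfl
  -- some element of Q moves L
  obtain ⟨u, hu, huL⟩ : ∃ u ∈ Q, L.map (MulAut.conj u).toMonoidHom ≠ L := by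
    by_contra! hfix
    have hnQ : ∀ q ∈ Q, ∀ a ∈ L, q * a * q⁻¹ ∈ L := fun q hq a ha => by
      have : q * a * q⁻¹ ∈ L.map (MulAut.conj q).toMonoidHom := ⟨a, ha, rfl⟩
      rwa [hfix q hq] at this
    have hbot : (L ⊓ Q).subgroupOf Q = ⊥ := by
      by_contra hne
      haveI : ((L ⊓ Q).subgroupOf Q).Normal :=
        ⟨fun a ha q => ⟨hnQ q q.2 a ha.1, Q.mul_mem (Q.mul_mem q.2 a.2) (Q.inv_mem q.2)⟩⟩
      obtain ⟨x, ⟨hxL, hxc⟩, hx1⟩ := (Subgroup.nontrivial_iff_exists_ne_one _).mp
        ((Subgroup.nontrivial_iff_ne_bot _).mpr (PGroup.inf_center_ne_bot hQe.1.1 hne))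
      rcases D.cent (x : G) (fun q hq => congrArg Subtype.val (Subgroup.mem_center_iff.mp hxc ⟨q, hq⟩)) with h | h
      · exact hx1 (Subtype.ext h)
      · exact hzL L hL (h ▸ hxL.1)
    rcases D.cent z₁ (fun q hq => by
      have hmQ : z₁ * q * z₁⁻¹ * q⁻¹ ∈ Q := mul_mem (D.norm z₁ hz₁z q hq) (inv_mem hq)
      have hmL : z₁ * q * z₁⁻¹ * q⁻¹ ∈ L := by
        rw [show z₁ * q * z₁⁻¹ * q⁻¹ = z₁ * (q * z₁⁻¹ * q⁻¹) by group]
        exact mul_mem hz₁ (hnQ q hq _ (inv_mem hz₁))
      have h : (⟨_, hmQ⟩ : Q) ∈ (L ⊓ Q).subgroupOf Q := ⟨hmL, hmQ⟩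
      rw [hbot, Subgroup.mem_bot] at h
      exact (commutatorElement_eq_one_iff_mul_comm.mp (congrArg Subtype.val h)).symm) with h | h
    exacts [hz₁1 h, hzL L hL (h ▸ hz₁)]
  set L' := L.map (MulAut.conj u).toMonoidHom with hL'
  have hL'c : Cfsg.IsComponent L' := Components.IsComponent.conj hL u
  have hmem' : ∀ a ∈ L, u * a * u⁻¹ ∈ L' := fun a ha => ⟨a, ha, rfl⟩
  have hrle : L' ≤ LargeExtraspecial.rest L := LargeExtraspecial.le_rest hL'c huL
  have huz : u * z = z * u := D.z_central u hu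
  have huniq' : ∀ {a a' b b' : G}, a ∈ L' → a' ∈ L' → b ∈ LargeExtraspecial.rest L' →
      b' ∈ LargeExtraspecial.rest L' → a * b = a' * b' → a = a' ∧ b = b' :=
    fun ha ha' hb hb' h => LargeExtraspecial.decomp_unique hC hL'c ha ha' hb hb' h
  have hrestmap : ∀ x ∈ LargeExtraspecial.rest L, u * x * u⁻¹ ∈ LargeExtraspecial.rest L' := by
    intro x hx
    have : LargeExtraspecial.rest L ≤ (LargeExtraspecial.rest L').comap (MulAut.conj u).toMonoidHom := by
      refine sSup_le fun K hK => ?_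
      rw [← Subgroup.map_le_iff_le_comap]
      exact LargeExtraspecial.le_rest (Components.IsComponent.conj hK.1 u) fun h =>
        hK.2 (Subgroup.map_injective (MulEquiv.injective _) h)
    exact this hx
  have hz2' : u * z₁ * u⁻¹ * (u * n * u⁻¹) = z := by
    calc u * z₁ * u⁻¹ * (u * n * u⁻¹) = u * (z₁ * n) * u⁻¹ := by group
      _ = u * z * u⁻¹ := by rw [hzn]
      _ = z := by rw [huz, mul_inv_cancel_right]
  -- commutators of u with elements of C_L(z)
  have hd : ∀ c ∈ L, c * z = z * c → u * c * u⁻¹ * c⁻¹ ∈ Q := fun c hc h => by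
    rw [show u * c * u⁻¹ * c⁻¹ = u * (c * u⁻¹ * c⁻¹) by group]
    exact mul_mem hu (D.norm c h _ (inv_mem hu))
  have hcc : ∀ c ∈ L, Commute c (u * c * u⁻¹) := fun c hc => hc1 hc (hrle (hmem' c hc))
  have hdne : ∀ c ∈ L, c ≠ 1 → c ≠ z₁ → u * c * u⁻¹ * c⁻¹ ≠ 1 ∧ u * c * u⁻¹ * c⁻¹ ≠ z := by
    intro c hc h1 h2
    refine ⟨fun h => h1 ?_, fun h => h2 ?_⟩
    · rw [mul_inv_eq_one] at h
      exact LargeExtraspecial.eq_one_of_mem hC hL hc (h ▸ hrle (hmem' c hc))
    · rw [← ((hcc c hc).inv_left).eq, ← hzn] at h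
      have e := (huniq (inv_mem hc) hz₁ (hrle (hmem' c hc)) hn h).1
      rw [← inv_inv c, e, inv_eq_of_mul_eq_one_right hz₁2]
  have hC2 : ∀ c ∈ L, c * z = z * c → ∃ m : ℕ, c ^ 2 ^ m = 1 := by
    intro c hc h
    obtain ⟨m, hm⟩ := hQe.1.1 ⟨_, hd c hc h⟩
    refine ⟨m, ?_⟩
    have hm' : (u * c * u⁻¹ * c⁻¹) ^ 2 ^ m = 1 := by
      have := congrArg Subtype.val hm
      rwa [Subgroup.coe_pow] at this
    rw [((hcc c hc).symm.inv_right).mul_pow, inv_pow, mul_inv_eq_one] at hm'
    exact LargeExtraspecial.eq_one_of_mem hC hL (pow_mem hc _) (hm' ▸ pow_mem (hrle (hmem' c hc)) _)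
  -- the Sylow subgroup of L
  have hCL : (Subgroup.centralizer ({z₁} : Set G)).subgroupOf L =
      (Subgroup.centralizer ({z} : Set G)).subgroupOf L := by
    ext c
    simp only [Subgroup.mem_subgroupOf, Subgroup.mem_centralizer_singleton_iff]
    exact (hcz c c.2).symm
  obtain ⟨R, hR⟩ := Cores.sylow_inf_isSubnormal T hL.1
  have hReq : (R : Subgroup L) = (Subgroup.centralizer ({z₁} : Set G)).subgroupOf L := by
    rw [hCL]
    refine (R.is_maximal' ?_ ?_).symm
    · intro c
      obtain ⟨m, hm⟩ := hC2 _ (c : L).2 (Subgroup.mem_centralizer_singleton_iff.mp c.2)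
      exact ⟨m, Subtype.ext (Subtype.ext (by simpa using hm))⟩
    · intro c hc
      rw [hR] at hc
      exact Subgroup.mem_centralizer_singleton_iff.mpr (hzT _ hc)
  have hRmem : ∀ c : L, c ∈ (R : Subgroup L) ↔ (c : G) * z = z * c := fun c => by
    rw [hReq, hCL, Subgroup.mem_subgroupOf, Subgroup.mem_centralizer_singleton_iff]
  obtain ⟨c, hcR, hc1', hcz1⟩ := exists_third hLna R ⟨⟨z₁, hz₁⟩, (hRmem _).mpr hz₁z⟩
    fun h => hz₁1 (congrArg (fun y : (R : Subgroup L) => ((y : L) : G)) h)
  have hcL : (c : G) ∈ L := c.2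
  have hc1 : (c : G) ≠ 1 := fun h => hc1' (Subtype.ext h)
  have hcz₁ : (c : G) ≠ z₁ := fun h => hcz1 (Subtype.ext h)
  have hczz : (c : G) * z = z * c := (hRmem c).mp hcR
  obtain ⟨hd1, hdz⟩ := hdne _ hcL hc1 hcz₁
  -- only two components
  have htwo : ∀ K : Subgroup G, Cfsg.IsComponent K → K = L ∨ K = L' := by
    intro K hK
    by_contra! hKne
    obtain ⟨hKL, hKL'⟩ := hKne
    obtain ⟨v, hv, hvd⟩ := D.exists_conj_eq (hd _ hcL hczz) hd1 hdz
    set d := u * (c : G) * u⁻¹ * (c : G)⁻¹ with hddef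
    have hdzmem : ∀ J : Subgroup G, L.map (MulAut.conj v).toMonoidHom ≠ J →
        L'.map (MulAut.conj v).toMonoidHom ≠ J → d * z ∈ LargeExtraspecial.rest J := by
      intro J h1 h2
      rw [← hvd]
      have hdin : d ∈ L' ⊔ L := mul_mem (Subgroup.mem_sup_left (hmem' _ hcL)) (inv_mem (Subgroup.mem_sup_right hcL))
      have : (L' ⊔ L).map (MulAut.conj v).toMonoidHom ≤ LargeExtraspecial.rest J := by
        rw [Subgroup.map_sup]
        exact sup_le (LargeExtraspecial.le_rest (Components.IsComponent.conj hL'c v) h2)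
          (LargeExtraspecial.le_rest (Components.IsComponent.conj hL v) h1)
      exact this ⟨d, hdin, rfl⟩
    have hK' : L.map (MulAut.conj v).toMonoidHom = K ∨ L'.map (MulAut.conj v).toMonoidHom = K := by
      by_contra! h
      have h1 := hdzmem K h.1 h.2
      have h2 : d ∈ LargeExtraspecial.rest K := mul_mem
        (LargeExtraspecial.le_rest hL'c (Ne.symm hKL') (hmem' _ hcL))
        (inv_mem (LargeExtraspecial.le_rest hL (Ne.symm hKL) hcL))
      exact hrest K hK (by simpa using mul_mem (inv_mem h2) h1)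
    by_cases hA : L.map (MulAut.conj v).toMonoidHom ≠ L ∧ L'.map (MulAut.conj v).toMonoidHom ≠ L
    · have h1 := hdzmem L hA.1 hA.2
      apply hcz₁
      have e : d * z = ((c : G)⁻¹ * z₁) * (u * (c : G) * u⁻¹ * n) := by
        rw [hddef, ← hzn]
        calc u * (c : G) * u⁻¹ * (c : G)⁻¹ * (z₁ * n) = u * (c : G) * u⁻¹ * ((c : G)⁻¹ * z₁) * n := by group
          _ = ((c : G)⁻¹ * z₁) * (u * (c : G) * u⁻¹) * n := by
            rw [← LargeExtraspecial.commute_rest hL (mul_mem (inv_mem hcL) hz₁) (hrle (hmem' _ hcL))]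
          _ = _ := by group
      have := (huniq (mul_mem (inv_mem hcL) hz₁) (one_mem _) (mul_mem (hrle (hmem' _ hcL)) hn) h1
        (by rw [one_mul, ← e])).1
      exact inv_mul_eq_one.mp this
    · -- then L' is moved away
      have hB : L.map (MulAut.conj v).toMonoidHom ≠ L' ∧ L'.map (MulAut.conj v).toMonoidHom ≠ L' := by
        rw [not_and_or, not_ne_iff, not_ne_iff] at hA
        rcases hA with hA | hA <;> rcases hK' with h | h
        · exact absurd (h.symm.trans hA) hKL
        · exact ⟨by rw [hA]; exact huL.symm, by rw [h]; exact hKL'⟩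
        · exact ⟨by rw [h]; exact hKL', by rw [hA]; exact huL.symm⟩
        · exact absurd (h.symm.trans hA) hKL
      have h1 := hdzmem L' hB.1 hB.2
      apply hcz₁
      have hcr : (c : G)⁻¹ ∈ LargeExtraspecial.rest L' := inv_mem (LargeExtraspecial.le_rest hL huL.symm hcL)
      have e : d * z = (u * (c : G) * u⁻¹ * (u * z₁ * u⁻¹)) * ((c : G)⁻¹ * (u * n * u⁻¹)) := by
        have hh := LargeExtraspecial.commute_rest hL'c (hmem' _ hz₁) hcr
        rw [hddef]
        calc u * (c : G) * u⁻¹ * (c : G)⁻¹ * z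
            = u * (c : G) * u⁻¹ * ((c : G)⁻¹ * (u * z₁ * u⁻¹)) * (u * n * u⁻¹) := by
              conv_lhs => rw [← hz2']
              simp only [mul_assoc]
          _ = u * (c : G) * u⁻¹ * ((u * z₁ * u⁻¹) * (c : G)⁻¹) * (u * n * u⁻¹) := by rw [← hh]
          _ = _ := by simp only [mul_assoc]
      have := (huniq' (mul_mem (hmem' _ hcL) (hmem' _ hz₁)) (one_mem _) (mul_mem hcr (hrestmap n hn)) h1
        (by rw [one_mul, ← e])).1
      have hcz' : (c : G) * z₁ = 1 := by
        calc (c : G) * z₁ = u⁻¹ * (u * (c : G) * u⁻¹ * (u * z₁ * u⁻¹)) * u := by group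
          _ = 1 := by rw [this]; group
      rw [eq_inv_of_mul_eq_one_left hcz', inv_eq_of_mul_eq_one_right hz₁2]
  have hrL : LargeExtraspecial.rest L = L' :=
    le_antisymm (sSup_le fun K hK => ((htwo K hK.1).resolve_left hK.2).le) hrle
  have hrL' : LargeExtraspecial.rest L' ≤ L :=
    sSup_le fun K hK => ((htwo K hK.1).resolve_right hK.2).le
  have hn' : n ∈ L' := hrL ▸ hn
  have hnz : n = u * z₁ * u⁻¹ := by
    have hm := hrL' (hrestmap n hn)
    have h' : z₁ * n = u * n * u⁻¹ * (u * z₁ * u⁻¹) := by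
      rw [hzn]
      conv_lhs => rw [← hz2']
      exact (LargeExtraspecial.commute_rest hL hm (hrle (hmem' _ hz₁))).symm
    exact (huniq hz₁ hm hn (hrle (hmem' _ hz₁)) h').2
  refine ⟨L, u, hu, hLs, hLna, ?_, fun x hx y hy => LargeExtraspecial.commute_rest hL hx (hrle hy), ?_, z₁, hz₁, ?_,
    ⟨R, hReq, ?_⟩, ?_⟩
  · rw [Subgroup.eq_bot_iff_forall]
    exact fun x hx => LargeExtraspecial.eq_one_of_mem hC hL hx.1 (hrle hx.2)
  · rw [hME]
    refine le_antisymm (sup_le (Components.IsComponent.le_layer hL) (Components.IsComponent.le_layer hL'c))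
      (Components.layer_le fun K hK => ?_)
    rcases htwo K hK with rfl | rfl
    exacts [le_sup_left, le_sup_right]
  · rw [← hnz, hzn]
  · have hN1 : z₁ ∈ L := hz₁
    set N : Subgroup (R : Subgroup L) :=
      Subgroup.zpowers (⟨⟨z₁, hz₁⟩, (hRmem _).mpr hz₁z⟩ : (R : Subgroup L)) with hNdef
    have hNc : N ≤ Subgroup.center _ := Subgroup.zpowers_le.mpr (Subgroup.mem_center_iff.mpr fun y =>
      Subtype.ext (Subtype.ext ((hcz _ (y : L).2).mp ((hRmem _).mp y.2))))
    haveI : N.Normal := ⟨fun a ha g => by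
      rw [Subgroup.mem_center_iff.mp (hNc ha) g, mul_inv_cancel_right]; exact ha⟩
    have hsq : ∀ y : (R : Subgroup L), y ^ 2 ∈ N := by
      intro y
      have hy := (hRmem _).mp y.2
      have hyL : ((y : L) : G) ∈ L := (y : L).2
      obtain ⟨a, ha⟩ : ∃ a : G, a = ((y : L) : G) := ⟨_, rfl⟩
      rw [← ha] at hy hyL
      have hq := hd a hyL hy
      have hpow : (u * a * u⁻¹ * a⁻¹) * (u * a * u⁻¹ * a⁻¹) = (a * a)⁻¹ * (u * (a * a) * u⁻¹) := by
        rw [← ((hcc a hyL).inv_left).eq]
        calc a⁻¹ * (u * a * u⁻¹) * (a⁻¹ * (u * a * u⁻¹))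
            = a⁻¹ * (u * a * u⁻¹ * a⁻¹) * (u * a * u⁻¹) := by group
          _ = a⁻¹ * (a⁻¹ * (u * a * u⁻¹)) * (u * a * u⁻¹) := by rw [← ((hcc a hyL).inv_left).eq]
          _ = _ := by group
      have hcases : a * a = 1 ∨ a * a = z₁ := by
        rcases D.sq hq with h | h <;> rw [hpow] at h
        · left
          have := (huniq (inv_mem (mul_mem hyL hyL)) (one_mem _) (hrle (hmem' _ (mul_mem hyL hyL)))
            (one_mem _) (by rw [h, one_mul])).1
          exact inv_eq_one.mp this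
        · right
          rw [← hzn] at h
          have := (huniq (inv_mem (mul_mem hyL hyL)) hz₁ (hrle (hmem' _ (mul_mem hyL hyL))) hn h).1
          rw [← inv_inv (a * a), this, inv_eq_of_mul_eq_one_right hz₁2]
      rcases hcases with h | h
      · rw [show y ^ 2 = 1 from Subtype.ext (Subtype.ext (by simpa [pow_two, ← ha] using h))]
        exact one_mem _
      · rw [hNdef, show y ^ 2 = ⟨⟨z₁, hz₁⟩, (hRmem _).mpr hz₁z⟩ from
          Subtype.ext (Subtype.ext (by simpa [pow_two, ← ha] using h))]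
        exact Subgroup.mem_zpowers _
    have hle := PGroup.frattini_le_of_quotient_elementary (p := 2) (N := N) (by
      rw [commutator_def, Subgroup.commutator_le]
      intro a _ b _
      have e : ⁅a, b⁆ = (a * b) ^ 2 * (b⁻¹ * (a ^ 2)⁻¹ * b⁻¹) := by
        rw [pow_two, pow_two, commutatorElement_def]; group
      rw [e, Subgroup.mem_center_iff.mp (hNc (inv_mem (hsq a))) b⁻¹, mul_assoc ((a ^ 2)⁻¹), ← mul_inv_rev b b, ← pow_two]
      exact mul_mem (hsq _) (mul_mem (inv_mem (hsq a)) (inv_mem (hsq b)))) hsq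
    refine (Subgroup.map_mono hle).trans ?_
    rw [hNdef, MonoidHom.map_zpowers]
    exact le_rfl
  · intro hQO
    obtain ⟨Cz, hCz⟩ : ∃ Cz, Cz = Subgroup.centralizer ({z} : Set G) := ⟨_, rfl⟩
    rw [← hCz] at hQO
    haveI := Components.layer_normal (G := G)
    have hS : IsPGroup 2 (E.subgroupOf Cz) := by
      intro x
      obtain ⟨l, hl, m, hm, e⟩ := LargeExtraspecial.exists_decomp hL (x.2 : ((x : Cz) : G) ∈ E)
      simp only [Subgroup.coe_subtype] at e
      have hx : ((x : Cz) : G) * z = z * ((x : Cz) : G) :=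
        Subgroup.mem_centralizer_singleton_iff.mp (hCz ▸ (x : Cz).2)
      have h' : l * z₁ * (m * n) = z₁ * l * (n * m) := by
        calc l * z₁ * (m * n) = l * (z₁ * m) * n := by group
          _ = l * (m * z₁) * n := by rw [LargeExtraspecial.commute_rest hL hz₁ hm]
          _ = (l * m) * (z₁ * n) := by group
          _ = (z₁ * n) * (l * m) := by rw [e, hzn, hx]
          _ = z₁ * (n * l) * m := by group
          _ = z₁ * (l * n) * m := by rw [LargeExtraspecial.commute_rest hL hl hn]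
          _ = _ := by group
      obtain ⟨e1, e2⟩ := huniq (mul_mem hl hz₁) (mul_mem hz₁ hl) (mul_mem hm hn) (mul_mem hn hm) h'
      obtain ⟨i, hi⟩ := hC2 l hl ((hcz l hl).mpr e1)
      have hm' : m ∈ L' := hrL ▸ hm
      obtain ⟨m', hm'', rfl⟩ := hm'
      change m' ∈ L at hm''
      rw [hnz] at e2
      have e3 : m' * z₁ = z₁ * m' := by
        calc m' * z₁ = u⁻¹ * ((u * m' * u⁻¹) * (u * z₁ * u⁻¹)) * u := by group
          _ = u⁻¹ * ((u * z₁ * u⁻¹) * (u * m' * u⁻¹)) * u := by
            rw [show u * m' * u⁻¹ * (u * z₁ * u⁻¹) = u * z₁ * u⁻¹ * (u * m' * u⁻¹) from e2]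
          _ = _ := by group
      obtain ⟨j, hj⟩ := hC2 m' hm'' ((hcz m' hm'').mpr e3)
      refine ⟨i + j, Subtype.ext (Subtype.ext ?_)⟩
      simp only [SubmonoidClass.coe_pow, OneMemClass.coe_one]
      rw [← e, (show Commute l _ from LargeExtraspecial.commute_rest hL hl hm).mul_pow, show l ^ 2 ^ (i + j) = 1 by
        rw [pow_add, pow_mul, hi, one_pow], one_mul]
      simp only [MulEquiv.coe_toMonoidHom, MulAut.conj_apply, conj_pow]
      rw [show m' ^ 2 ^ (i + j) = 1 by rw [pow_add, mul_comm, pow_mul, hj, one_pow]]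
      group
    have hcCz : (c : G) ∈ Cz := hCz ▸ Subgroup.mem_centralizer_singleton_iff.mpr hczz
    have hcQ : (c : G) ∈ Q := by
      rw [hQO]
      exact ⟨⟨(c : G), hcCz⟩, le_sSup (s := {N : Subgroup Cz | N.Normal ∧ IsPGroup 2 N})
        ⟨inferInstance, hS⟩ (Components.IsComponent.le_layer hL hcL), rfl⟩
    rcases D.comm u hu (c : G) hcQ with h | h
    exacts [hd1 h, hdz h]

end Cfsg.Agent.S5426
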