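import Cfsg.Statements.S5427
import Cfsg.Agent.Lib.LargeExtraspecial.Simple
-- import your own Cfsg.Agent.* helpers here

set_option autoImplicit false
open Cfsg
open scoped commutatorElement

namespace Cfsg.Agent.S5427

/-- Let z be an involution of the finite group G whose centralizer C has generalized Fitting subgroup Q, an extraspecial 2-group of width at least 2 (order 2^(2w+1), w ≥ 2). Let K be a subgroup of G such that the subgroup U generated by the K-conjugates of z is abelian and C is generated by the C-conjugates of U. Suppose that either some K-conjugate of z other than z lies in Q, or some element u of U ∩ Q outside the subgroup generated by z has z in the largest normal 2-subgroup of its centralizer. Then G is simple and Q is a large extraspecial 2-subgroup of G. -/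
theorem result {G : Type*} [Group G] [Finite G] (z : G) (hz : orderOf z = 2) (Q : Subgroup G) (hQC : Q ≤ Subgroup.centralizer ({z} : Set G)) (hF : (Cfsg.generalizedFittingSubgroup ↥(Subgroup.centralizer ({z} : Set G))).map (Subgroup.centralizer ({z} : Set G)).subtype = Q) (hQ : Cfsg.IsExtraspecial 2 ↥Q) (w : ℕ) (hw : 2 ≤ w) (hcard : Nat.card ↥Q = 2 ^ (2 * w + 1)) (K U : Subgroup G) (hU : U = Subgroup.closure {x : G | ∃ k ∈ K, x = k * z * k⁻¹}) (hUab : IsMulCommutative ↥U) (hgen : Subgroup.closure {x : G | ∃ c ∈ Subgroup.centralizer ({z} : Set G), ∃ u ∈ U, x = c * u * c⁻¹} = Subgroup.centralizer ({z} : Set G)) (h3 : (∃ k ∈ K, k * z * k⁻¹ ∈ Q ∧ k * z * k⁻¹ ≠ z) ∨ ∃ u ∈ U ⊓ Q, u ∉ Subgroup.zpowers z ∧ (∃ hz' : z ∈ Subgroup.centralizer ({u} : Set G), (⟨z, hz'⟩ : ↥(Subgroup.centralizer ({u} : Set G))) ∈ Cfsg.pCore 2 ↥(Subgroup.centralizer ({u} : Set G)))) : IsSimpleGroup G ∧ Cfsg.IsLargeExtraspecial Q := by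
  obtain ⟨D, hzc⟩ := LargeExtraspecial.Data.of_generalizedFitting hz hF hQ
  have hp := LargeExtraspecial.isPGroup_of_extraspecial hQ
  have hcard' : 32 ≤ Nat.card Q := by
    rw [hcard]
    calc 32 = 2 ^ 5 := by norm_num
      _ ≤ _ := Nat.pow_le_pow_right (by norm_num) (by omega)
  have hzU : ∀ k ∈ K, k * z * k⁻¹ ∈ U := fun k hk => hU ▸ Subgroup.subset_closure ⟨k, hk, rfl⟩
  have hUsq : ∀ u ∈ U, u * u = 1 := by
    intro u hu
    rw [hU] at hu
    induction hu using Subgroup.closure_induction with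
    | mem x hx =>
      obtain ⟨k, -, rfl⟩ := hx
      exact (D.conjugate k).z_sq
    | one => simp
    | mul a b ha hb iha ihb =>
      rw [← hU] at ha hb
      have hab : Commute a b := setLike_mul_comm ha hb
      rw [show a * b * (a * b) = a * (b * a) * b by group, ← hab.eq,
        show a * (a * b) * b = (a * a) * (b * b) by group, iha, ihb, one_mul]
    | inv a _ iha => rw [← mul_inv_rev, iha, inv_one]
  have hnab : ∀ b ∈ Q, b ≠ 1 → b ≠ z → ∃ x ∈ Q, ∃ y ∈ Q, ⁅x, y⁆ ≠ 1 := by
    intro b hb hb1 hbz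
    obtain ⟨q, hq, hqs⟩ := D.exists_conj_eq hb hb1 hbz
    refine ⟨q, hq, _, hb, fun h => D.z_ne ?_⟩
    rw [commutatorElement_def, hqs, D.z_central _ hb, mul_inv_cancel_right] at h
    exact h
  have hL : Cfsg.IsLargeExtraspecial Q := by
    rcases h3 with ⟨k, hk, hkQ, hkz⟩ | ⟨u, ⟨hu, huQ⟩, huz, hz', hzO⟩
    · have hk1 : k * z * k⁻¹ ≠ 1 := by rw [ne_eq, conj_eq_one_iff]; exact D.z_ne
      exact LargeExtraspecial.isLarge_of_involution D hp (hnab _ hkQ hk1 hkz) hkQ hk1 hkz
        (D.conjugate k).z_sq (S := LargeExtraspecial.conjS k Q) (hp.map _) (D.mem_conj hkQ hkz hcard')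
        (D.conjugate k).z_central (D.conjugate k).norm
    · have hu1 : u ≠ 1 := fun h => huz (h ▸ one_mem _)
      have hu2 : u ≠ z := fun h => huz (h ▸ Subgroup.mem_zpowers z)
      haveI : Fact (Nat.Prime 2) := ⟨Nat.prime_two⟩
      refine LargeExtraspecial.isLarge_of_involution D hp (hnab _ huQ hu1 hu2) huQ hu1 hu2 (hUsq u hu)
        (S := (Cfsg.pCore 2 _).map (Subgroup.centralizer ({u} : Set G)).subtype)
        ((LargeExtraspecial.isPGroup_pCore 2).map _) ⟨_, hzO, rfl⟩ ?_ ?_
      · rintro _ ⟨x, -, rfl⟩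
        exact Subgroup.mem_centralizer_singleton_iff.mp x.2
      · rintro c hc _ ⟨x, hx, rfl⟩
        exact ⟨⟨c, Subgroup.mem_centralizer_singleton_iff.mpr hc⟩ * x *
          ⟨c, Subgroup.mem_centralizer_singleton_iff.mpr hc⟩⁻¹,
          LargeExtraspecial.pCore_conj_mem 2 hx _, rfl⟩
  haveI : Nontrivial G := ⟨⟨z, 1, D.z_ne⟩⟩
  refine ⟨⟨fun N hN => ?_⟩, hL⟩
  by_cases hN1 : N = ⊥
  · exact Or.inl hN1
  refine Or.inr (LargeExtraspecial.eq_top_of_centralizer_le hL hzc D.z_sq ?_)
  have hzN := LargeExtraspecial.mem_of_normal hL hzc D.z_sq hN1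
  have hUN : U ≤ N := by
    rw [hU, Subgroup.closure_le]
    rintro _ ⟨k, -, rfl⟩
    exact hN.conj_mem z hzN k
  rw [← hgen, Subgroup.closure_le]
  rintro _ ⟨c, -, u, hu, rfl⟩
  exact hN.conj_mem u (hUN hu) c

end Cfsg.Agent.S5427
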