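import Cfsg.Statements.S5428
import Cfsg.Agent.Lib.LargeExtraspecial.Quotient

set_option autoImplicit false
open Cfsg
open scoped commutatorElement

namespace Cfsg.Agent.S5428

theorem mem_of_four_not_dvd {W : Type*} [Group W] [Finite W] {z : W} (hz : orderOf z = 2)
    (hc : ∀ w : W, w * z = z * w) (h4 : ¬ 4 ∣ Nat.card W) (w : W) :
    w ∈ Cfsg.oddCore W ⊔ Subgroup.zpowers z := by
  haveI : Fact (Nat.Prime 2) := ⟨Nat.prime_two⟩
  have hzc : Nat.card (Subgroup.zpowers z) = 2 := by rw [Nat.card_zpowers, hz]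
  obtain ⟨P, hP⟩ := (IsPGroup.of_card (p := 2) (n := 1) (by rw [hzc, pow_one])).exists_le_sylow
  have hPc : Nat.card (P : Subgroup W) = 2 := by
    obtain ⟨n, hn⟩ := IsPGroup.iff_card.mp P.isPGroup'
    have hd := Subgroup.card_dvd_of_le hP
    rw [hzc, hn] at hd
    rcases n with - | - | n
    · simp at hd
    · simpa using hn
    · exfalso; apply h4
      have h1 := Subgroup.card_subgroup_dvd_card (P : Subgroup W)
      rw [hn] at h1
      exact (Dvd.intro (2 ^ n) (by ring)).trans h1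
  have hPz : Subgroup.zpowers z = (P : Subgroup W) :=
    Subgroup.eq_of_le_of_card_ge hP (by rw [hPc, hzc])
  have hcl : ∀ y ∈ (P : Subgroup W), ∀ v : W, v * y = y * v := by
    intro y hy v
    rw [← hPz] at hy
    obtain ⟨k, rfl⟩ := Subgroup.mem_zpowers_iff.mp hy
    exact (Commute.zpow_right (hc v) k).eq
  have hle : Subgroup.normalizer ((P : Subgroup W) : Set W) ≤ Subgroup.centralizer (P : Set W) := fun v _ =>
    Subgroup.mem_centralizer_iff.mpr fun y hy => (hcl y hy v).symm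
  have hK := MonoidHom.ker_transferSylow_isComplement' P hle
  set K := (MonoidHom.transferSylow P hle).ker with hKdef
  have hKodd : (Nat.card K).Coprime 2 := by
    rw [Nat.coprime_two_right, ← Nat.not_even_iff_odd]
    rintro ⟨m, hm⟩
    exact h4 ⟨m, by rw [← hK.card_mul, hPc, hm]; ring⟩
  have hKle : K ≤ Cfsg.oddCore W :=
    le_sSup (s := {N : Subgroup W | N.Normal ∧ (Nat.card N).Coprime 2}) ⟨MonoidHom.normal_ker _, hKodd⟩
  obtain ⟨⟨k, p⟩, hkp⟩ := hK.2 w
  rw [← hkp]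
  exact mul_mem (Subgroup.mem_sup_left (hKle k.2)) (Subgroup.mem_sup_right (hPz.symm ▸ p.2))

/-- Let z be an involution of the finite group G whose centralizer C has generalized Fitting subgroup Q extraspecial (as a 2-group), let A be a subgroup of C of odd order, and let R be the centralizer of A in Q; suppose R has order at least 32, the largest normal subgroup of odd order of the centralizer of the subgroup generated by A and R lies in A, the order of that centralizer is not divisible by 4, and g is an element of G with g z g⁻¹ in R but outside the centre Z of Q. Let M be the subgroup generated by A and the centralizer of A (A is normal in it). Then: the centralizer in M of the subgroup generated by R and A, joined with A, equals the subgroup generated by A and Z; the image of R in M/A is a large extraspecial 2-subgroup of M/A; and g z g⁻¹ is conjugate to z inside the subgroup generated by R and the centralizer of A in g Q g⁻¹. -/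
theorem result {G : Type*} [Group G] [Finite G] (z : G) (hz : orderOf z = 2) (Q : Subgroup G) (hQC : Q ≤ Subgroup.centralizer ({z} : Set G)) (hF : (Cfsg.generalizedFittingSubgroup ↥(Subgroup.centralizer ({z} : Set G))).map (Subgroup.centralizer ({z} : Set G)).subtype = Q) (hQ : Cfsg.IsExtraspecial 2 ↥Q) (A : Subgroup G) (hA : A ≤ Subgroup.centralizer ({z} : Set G)) (hAodd : Odd (Nat.card ↥A)) (R : Subgroup G) (hR : R = Q ⊓ Subgroup.centralizer (A : Set G)) (hR32 : 32 ≤ Nat.card ↥R) (hO : (Cfsg.oddCore ↥(Subgroup.centralizer ((A ⊔ R : Subgroup G) : Set G))).map (Subgroup.centralizer ((A ⊔ R : Subgroup G) : Set G)).subtype ≤ A) (h4 : ¬ 4 ∣ Nat.card ↥(Subgroup.centralizer ((A ⊔ R : Subgroup G) : Set G))) (g : G) (hgR : g * z * g⁻¹ ∈ R) (hgZ : g * z * g⁻¹ ∉ ((Subgroup.center ↥Q).map Q.subtype)) (M : Subgroup G) (hM : M = Subgroup.centralizer (A : Set G) ⊔ A) [hn : (A.subgroupOf M).Normal] : (M ⊓ Subgroup.centralizer ((R ⊔ A : Subgroup G) : Set G))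 ⊔ A = A ⊔ ((Subgroup.center ↥Q).map Q.subtype) ∧ Cfsg.IsLargeExtraspecial ((R.subgroupOf M).map (QuotientGroup.mk' (A.subgroupOf M))) ∧ ∃ x ∈ R ⊔ ((Q).map (MulAut.conj g).toMonoidHom ⊓ Subgroup.centralizer (A : Set G)), x * (g * z * g⁻¹) * x⁻¹ = z := by
  haveI : Fact (Nat.Prime 2) := ⟨Nat.prime_two⟩
  obtain ⟨D, hzc⟩ := LargeExtraspecial.Data.of_generalizedFitting hz hF hQ
  have hp := LargeExtraspecial.isPGroup_of_extraspecial hQ
  set s := g * z * g⁻¹ with hsdef
  set P := LargeExtraspecial.conjS g Q with hPdef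
  have hAz : ∀ a ∈ A, a * z = z * a := fun a ha => Subgroup.mem_centralizer_singleton_iff.mp (hA ha)
  have hAN : A ≤ Subgroup.normalizer (Q : Set G) := fun a ha =>
    Subgroup.mem_normalizer_fintype (D.norm a (hAz a ha))
  have hzA : z ∈ Subgroup.centralizer (A : Set G) := Subgroup.mem_centralizer_iff.mpr hAz
  have hRmem : ∀ x, x ∈ R ↔ x ∈ Q ∧ ∀ a ∈ A, a * x = x * a := fun x => by
    rw [hR, Subgroup.mem_inf, Subgroup.mem_centralizer_iff]; rfl
  have hzR : z ∈ R := (hRmem z).mpr ⟨D.z_mem, hAz⟩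
  have hsQ : s ∈ Q := ((hRmem s).mp hgR).1
  have hsA : ∀ a ∈ A, a * s = s * a := ((hRmem s).mp hgR).2
  have hs1 : s ≠ 1 := fun h => hgZ (h ▸ one_mem _)
  have hsz : s ≠ z := fun h => hgZ (by
    show s ∈ LargeExtraspecial.zc Q
    rw [h, hzc]; exact Subgroup.mem_zpowers z)
  have hQ32 : 32 ≤ Nat.card Q := hR32.trans (Subgroup.card_le_of_le (hR ▸ inf_le_left))
  have hzP : z ∈ P := D.mem_conj hsQ hsz hQ32
  have DP := D.conjugate g
  have hAP : A ≤ Subgroup.normalizer (P : Set G) := fun a ha =>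
    Subgroup.mem_normalizer_fintype (DP.norm a (hsA a ha))
  obtain ⟨q, hq, hqs⟩ := LargeExtraspecial.exists_conj_eq_centralizer D hp hAN hAodd hsQ
    (Subgroup.mem_centralizer_iff.mpr hsA) hs1 hsz
  have hqR : q ∈ R := hR ▸ hq
  obtain ⟨r, hr, hrz⟩ := LargeExtraspecial.exists_conj_eq_centralizer DP (hp.map _) hAP hAodd hzP hzA
    D.z_ne (Ne.symm hsz)
  -- A is centralized by C(A) up to itself
  have hCA : Subgroup.centralizer (A : Set G) ≤ Subgroup.normalizer (A : Set G) :=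
    Subgroup.centralizer_le_normalizer (A : Set G)
  have hMdec : ∀ x ∈ M, ∃ a ∈ A, ∃ c ∈ Subgroup.centralizer (A : Set G), a * c = x := by
    intro x hx
    rw [hM, sup_comm, Coprime.mem_sup_iff hCA] at hx
    exact hx
  have hCM : Subgroup.centralizer (A : Set G) ≤ M := hM ▸ le_sup_left
  have hAM : A ≤ M := hM ▸ le_sup_right
  -- coprime order trick
  have key : ∀ c ∈ Subgroup.centralizer (A : Set G), ∀ u ∈ Q ⊔ P,
      (∀ a ∈ A, a * u = u * a) → (u ∈ Q ∨ u ∈ P) → c * u * c⁻¹ * u⁻¹ ∈ A → c * u = u * c := by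
    intro c hc u _ hu huQP hα
    set α := c * u * c⁻¹ * u⁻¹ with hαdef
    have hαu : Commute α u := hu α hα
    have e : c * u * c⁻¹ = α * u := by rw [hαdef]; group
    obtain ⟨n, hn⟩ : ∃ n, u ^ 2 ^ n = 1 := by
      rcases huQP with h | h
      · obtain ⟨n, hn⟩ := hp ⟨u, h⟩
        exact ⟨n, by have := congrArg Subtype.val hn; rwa [Subgroup.coe_pow] at this⟩
      · obtain ⟨n, hn⟩ := (hp.map (MulAut.conj g).toMonoidHom) ⟨u, h⟩
        exact ⟨n, by have := congrArg Subtype.val hn; rwa [Subgroup.coe_pow] at this⟩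
    have h1 : α ^ 2 ^ n = 1 := by
      have h0 := congrArg (fun w => w ^ 2 ^ n) e
      simp only [conj_pow, hαu.mul_pow, hn] at h0
      simpa using h0.symm
    have h2 : α ^ Nat.card A = 1 := by
      have := congrArg Subtype.val (pow_card_eq_one' (x := (⟨α, hα⟩ : A)))
      rwa [Subgroup.coe_pow] at this
    have h3 := pow_gcd_eq_one.mpr ⟨h1, h2⟩
    rw [Nat.Coprime.pow_left n (Nat.coprime_two_left.mpr hAodd), pow_one] at h3
    rw [hαdef, mul_inv_eq_one] at h3
    exact mul_inv_eq_iff_eq_mul.mp h3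
  set W := Subgroup.centralizer ((A ⊔ R : Subgroup G) : Set G) with hW
  have hWmem : ∀ x, x ∈ W ↔ x ∈ Subgroup.centralizer (A : Set G) ∧ ∀ u ∈ R, u * x = x * u := by
    intro x
    rw [hW, Subgroup.sup_eq_closure, Subgroup.centralizer_closure]
    simp only [Subgroup.mem_centralizer_iff, Set.mem_union, or_imp, forall_and, SetLike.mem_coe]
  have hzW : z ∈ W := (hWmem z).mpr ⟨hzA, fun u hu => D.z_central u ((hRmem u).mp hu).1⟩
  have hWdec : W ≤ A ⊔ LargeExtraspecial.zc Q := by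
    intro w hw
    have hcen : ∀ v : W, v * (⟨z, hzW⟩ : W) = ⟨z, hzW⟩ * v := fun v =>
      Subtype.ext (((hWmem v).mp v.2).2 z hzR).symm
    have h := mem_of_four_not_dvd (z := (⟨z, hzW⟩ : W)) (by rw [Subgroup.orderOf_mk]; exact hz) hcen h4 ⟨w, hw⟩
    have h' : w ∈ (Cfsg.oddCore W ⊔ Subgroup.zpowers (⟨z, hzW⟩ : W)).map W.subtype := ⟨_, h, rfl⟩
    rw [Subgroup.map_sup, MonoidHom.map_zpowers] at h'
    exact sup_le_sup hO (le_of_eq hzc.symm) h'
  have hzle : LargeExtraspecial.zc Q ≤ W := hzc ▸ Subgroup.zpowers_le.mpr hzW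
  refine ⟨?_, ?_, ?_⟩
  · rw [sup_comm (a := R) (b := A), ← hW]
    apply le_antisymm
    · exact sup_le (inf_le_right.trans hWdec) le_sup_left
    · exact sup_le le_sup_right (le_sup_of_le_left (le_inf (hzle.trans fun x hx => hCM ((hWmem x).mp hx).1) hzle))
  · set π := QuotientGroup.mk' (A.subgroupOf M) with hπ
    have hπ1 : ∀ x : M, (x : G) ∈ A → π x = 1 := fun x hx => (QuotientGroup.eq_one_iff x).mpr hx
    have hπ1' : ∀ x : M, π x = 1 → (x : G) ∈ A := fun x hx => (QuotientGroup.eq_one_iff x).mp hx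
    have hπeq : ∀ x y : M, π x = π y → (x : G) * (y : G)⁻¹ ∈ A := fun x y h =>
      hπ1' (x * y⁻¹) (by rw [map_mul, map_inv, h, mul_inv_cancel])
    have hRM : R ≤ M := fun x hx => hCM (Subgroup.mem_centralizer_iff.mpr ((hRmem x).mp hx).2)
    have lift : ∀ y : M ⧸ A.subgroupOf M, ∃ (c : G) (hc : c ∈ Subgroup.centralizer (A : Set G)),
        y = π ⟨c, hCM hc⟩ := by
      intro y
      obtain ⟨⟨x, hx⟩, rfl⟩ := QuotientGroup.mk'_surjective _ y
      obtain ⟨a, ha, c, hc, rfl⟩ := hMdec x hx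
      refine ⟨c, hc, ?_⟩
      rw [show (⟨a * c, hx⟩ : M) = ⟨a, hAM ha⟩ * ⟨c, hCM hc⟩ from rfl, ← hπ, map_mul,
        hπ1 ⟨a, hAM ha⟩ ha, one_mul]
    have comm_of : ∀ c (hc : c ∈ Subgroup.centralizer (A : Set G)) u (hu : u ∈ M),
        (∀ a ∈ A, a * u = u * a) → (u ∈ Q ∨ u ∈ P) →
        π ⟨c, hCM hc⟩ * π ⟨u, hu⟩ = π ⟨u, hu⟩ * π ⟨c, hCM hc⟩ → c * u = u * c := by
      intro c hc u hu hua huQP h
      refine key c hc u (huQP.elim (fun h => Subgroup.mem_sup_left h) (fun h => Subgroup.mem_sup_right h)) hua huQP ?_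
      have := hπeq (⟨c, hCM hc⟩ * ⟨u, hu⟩) (⟨u, hu⟩ * ⟨c, hCM hc⟩) (by rw [map_mul, map_mul]; exact h)
      simpa [mul_assoc] using this
    set Rb := (R.subgroupOf M).map π with hRb
    have hRb' : ∀ y, y ∈ Rb ↔ ∃ u, ∃ hu : u ∈ R, y = π ⟨u, hRM hu⟩ := by
      intro y
      constructor
      · rintro ⟨⟨u, huM⟩, hu, rfl⟩; exact ⟨u, hu, rfl⟩
      · rintro ⟨u, hu, rfl⟩; exact ⟨⟨u, hRM hu⟩, hu, rfl⟩
    have hzM : z ∈ M := hRM hzR
    have h2A : ∀ u ∈ Q, u ∈ A → u = 1 := fun u hu huA =>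
      LargeExtraspecial.eq_one_of_odd_of_two hAodd hp huA hu
    have hne : ∀ u (hu : u ∈ R), u ≠ 1 → π ⟨u, hRM hu⟩ ≠ 1 := fun u hu h1 h =>
      h1 (h2A u ((hRmem u).mp hu).1 (hπ1' _ h))
    have Db : LargeExtraspecial.Data Rb (π ⟨z, hzM⟩) := by
      refine ⟨(hRb' _).mpr ⟨z, hzR, rfl⟩, hne z hzR D.z_ne, ?_, ?_, ?_, ?_, ?_⟩
      · rw [← map_mul, show (⟨z, hzM⟩ * ⟨z, hzM⟩ : M) = 1 from Subtype.ext D.z_sq, map_one]
      · intro y hy
        obtain ⟨u, hu, rfl⟩ := (hRb' _).mp hy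
        rw [← map_mul, ← map_mul]
        congr 1
        exact Subtype.ext (D.z_central u ((hRmem u).mp hu).1)
      · intro y hy
        obtain ⟨c, hc, rfl⟩ := lift y
        have hcW : c ∈ W := (hWmem c).mpr ⟨hc, fun u hu =>
          (comm_of c hc u (hRM hu) ((hRmem u).mp hu).2 (Or.inl ((hRmem u).mp hu).1)
            (hy _ ((hRb' _).mpr ⟨u, hu, rfl⟩)).symm).symm⟩
        have hcd := hWdec hcW
        have hzN : LargeExtraspecial.zc Q ≤ Subgroup.normalizer (A : Set G) :=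
          hzle.trans fun x hx => hCA ((hWmem x).mp hx).1
        rw [Coprime.mem_sup_iff hzN] at hcd
        obtain ⟨a, ha, w, hw, rfl⟩ := hcd
        rcases LargeExtraspecial.mem_zpowers_two D.z_sq (hzc ▸ hw : w ∈ Subgroup.zpowers z) with rfl | rfl
        · left; exact hπ1 _ (by simpa using ha)
        · right
          rw [show (⟨a * w, hCM hc⟩ : M) = ⟨a, hAM ha⟩ * ⟨w, hzM⟩ from rfl, map_mul,
            hπ1 ⟨a, hAM ha⟩ ha, one_mul]
      · intro y hy y' hy'
        obtain ⟨u, hu, rfl⟩ := (hRb' _).mp hy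
        obtain ⟨u', hu', rfl⟩ := (hRb' _).mp hy'
        have e := map_commutatorElement M.subtype (⟨u, hRM hu⟩ : M) ⟨u', hRM hu'⟩
        rw [← map_commutatorElement]
        rcases D.comm u ((hRmem u).mp hu).1 u' ((hRmem u').mp hu').1 with h | h
        · left
          rw [show ⁅(⟨u, hRM hu⟩ : M), (⟨u', hRM hu'⟩ : M)⁆ = 1 from Subtype.ext (e.trans h), map_one]
        · right
          exact congrArg π (Subtype.ext (e.trans h))
      · intro y hy y' hy'
        obtain ⟨c, hc, rfl⟩ := lift y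
        obtain ⟨u, hu, rfl⟩ := (hRb' _).mp hy'
        have hcz := comm_of c hc z hzM hAz (Or.inl D.z_mem) hy
        have hu' := (hRmem u).mp hu
        have hm : c * u * c⁻¹ ∈ R := (hRmem _).mpr ⟨D.norm c hcz u hu'.1, fun a ha => by
          have e1 : Commute a c := Subgroup.mem_centralizer_iff.mp hc a ha
          exact ((e1.mul_right (hu'.2 a ha)).mul_right e1.inv_right).eq⟩
        exact (hRb' _).mpr ⟨_, hm, by rw [← map_inv, ← map_mul, ← map_mul]; rfl⟩
    have hRp : IsPGroup 2 Rb := ((hp.to_le (hR ▸ inf_le_left : R ≤ Q)).comap_subtype).map π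
    set S := P ⊓ Subgroup.centralizer (A : Set G) with hS
    refine LargeExtraspecial.isLarge_of_involution (S := (S.subgroupOf M).map π)
      (b := π ⟨s, hRM hgR⟩) Db hRp ?_ ((hRb' _).mpr ⟨s, hgR, rfl⟩) (hne s hgR hs1) ?_ ?_
      ((((hp.map _).to_le inf_le_left).comap_subtype).map π) ⟨⟨z, hzM⟩, ⟨hzP, hzA⟩, rfl⟩ ?_ ?_
    · refine ⟨_, (hRb' _).mpr ⟨q, hqR, rfl⟩, _, (hRb' _).mpr ⟨s, hgR, rfl⟩, ?_⟩
      rw [← map_commutatorElement]
      intro h
      have := hπ1' _ h
      rw [show ((⁅(⟨q, hRM hqR⟩ : M), (⟨s, hRM hgR⟩ : M)⁆ : M) : G) = ⁅q, s⁆ from map_commutatorElement M.subtype _ _,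
        commutatorElement_def, hqs] at this
      exact D.z_ne (h2A z D.z_mem (by rwa [D.z_central s hsQ, mul_inv_cancel_right] at this))
    · intro h
      have := hπeq _ _ h
      exact hsz (mul_inv_eq_one.mp (h2A _ (mul_mem hsQ (inv_mem D.z_mem)) this))
    · rw [← map_mul, show (⟨s, hRM hgR⟩ * ⟨s, hRM hgR⟩ : M) = 1 from Subtype.ext DP.z_sq, map_one]
    · rintro _ ⟨x, hx, rfl⟩
      rw [← map_mul, ← map_mul]
      congr 1
      exact Subtype.ext (DP.z_central x hx.1)
    · intro y hy w hw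
      obtain ⟨c, hc, rfl⟩ := lift y
      obtain ⟨x, hx, rfl⟩ := hw
      have hcs := comm_of c hc s (hRM hgR) hsA (Or.inl hsQ) hy
      refine ⟨⟨c, hCM hc⟩ * x * ⟨c, hCM hc⟩⁻¹, ⟨DP.norm c hcs x hx.1, ?_⟩, by simp⟩
      refine Subgroup.mem_centralizer_iff.mpr fun a ha => ?_
      have e1 : Commute a c := Subgroup.mem_centralizer_iff.mp hc a ha
      exact ((e1.mul_right (Subgroup.mem_centralizer_iff.mp hx.2 a ha)).mul_right e1.inv_right).eq
  · refine ⟨(q * r)⁻¹, inv_mem (mul_mem (Subgroup.mem_sup_left hqR) (Subgroup.mem_sup_right hr)), ?_⟩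
    have hqz : q * z * q⁻¹ = z := by rw [D.z_central q hq.1]; group
    have e : (q * r) * z * (q * r)⁻¹ = s := by
      calc (q * r) * z * (q * r)⁻¹ = q * (r * z * r⁻¹) * q⁻¹ := by group
        _ = (q * z * q⁻¹) * (q * s * q⁻¹) := by rw [hrz, hsdef]; group
        _ = s * (z * z) := by rw [hqz, hqs, ← mul_assoc, ← D.z_central s hsQ, mul_assoc]
        _ = s := by rw [D.z_sq, mul_one]
    rw [← e]; group

end Cfsg.Agent.S5428
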