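import Cfsg.Statements.S5429
import Cfsg.Agent.Lib.LargeExtraspecial.Quotient

set_option autoImplicit false
open Cfsg
open scoped commutatorElement

namespace Cfsg.Agent.S5429

/-- Let z be an involution of the finite group G with centralizer C whose generalized Fitting subgroup Q is extraspecial of width at least 3 (order 2^(2w+1), w ≥ 3); let g be an element of G with g z g⁻¹ in Q but outside the centre Z of Q, and t an involution lying in both Q and g Q g⁻¹ that is not conjugate to z; write P for the centralizer of t in Q and suppose that the elements of C acting trivially by conjugation on P modulo the subgroup generated by t and z are exactly the elements of Q. Then the image of P in the centralizer of t modulo the subgroup generated by t is a large extraspecial 2-subgroup there, and g z g⁻¹ is conjugate to z inside the subgroup generated by P and the centralizer of t in g Q g⁻¹. -/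
theorem result {G : Type*} [Group G] [Finite G] (z : G) (hz : orderOf z = 2) (Q : Subgroup G) (hQC : Q ≤ Subgroup.centralizer ({z} : Set G)) (hF : (Cfsg.generalizedFittingSubgroup ↥(Subgroup.centralizer ({z} : Set G))).map (Subgroup.centralizer ({z} : Set G)).subtype = Q) (hQ : Cfsg.IsExtraspecial 2 ↥Q) (w : ℕ) (hw : 3 ≤ w) (hcard : Nat.card ↥Q = 2 ^ (2 * w + 1)) (g : G) (hgQ : g * z * g⁻¹ ∈ Q) (hgZ : g * z * g⁻¹ ∉ ((Subgroup.center ↥Q).map Q.subtype)) (t : G) (ht : orderOf t = 2) (htQ : t ∈ Q ⊓ (Q).map (MulAut.conj g).toMonoidHom) (htz : ¬ IsConj z t) (P : Subgroup G) (hP : P = Q ⊓ Subgroup.centralizer ({t} : Set G)) (hCP : ∀ c ∈ Subgroup.centralizer ({z} : Set G), (∀ x ∈ P, ∃ y ∈ Subgroup.closure ({t, z} : Set G), c * x * c⁻¹ = x * y) ↔ c ∈ Q) [hn : ((Subgroup.zpowers t).subgroupOf (Subgroup.centralizer ({t} : Set G))).Normal] : Cfsg.IsLargeExtraspecial ((P.subgroupOf (Subgroup.centralizer ({t} : Set G))).map (QuotientGroup.mk' ((Subgroup.zpowers t).subgroupOf (Subgroup.centralizer ({t} : Set G))))) ∧ ∃ x ∈ P ⊔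 ((Q).map (MulAut.conj g).toMonoidHom ⊓ Subgroup.centralizer ({t} : Set G)), x * (g * z * g⁻¹) * x⁻¹ = z := by
  haveI : Fact (Nat.Prime 2) := ⟨Nat.prime_two⟩
  obtain ⟨D, hzc⟩ := LargeExtraspecial.Data.of_generalizedFitting hz hF hQ
  have hp := LargeExtraspecial.isPGroup_of_extraspecial hQ
  set s := g * z * g⁻¹ with hsdef
  set U := LargeExtraspecial.conjS g Q with hUdef
  have hs1 : s ≠ 1 := fun h => hgZ (h ▸ one_mem _)
  have hsz : s ≠ z := fun h => hgZ (by
    show s ∈ LargeExtraspecial.zc Q
    rw [h, hzc]; exact Subgroup.mem_zpowers z)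
  have hQ32 : 32 ≤ Nat.card Q := by
    rw [hcard]
    calc 32 = 2 ^ 5 := by norm_num
      _ ≤ _ := Nat.pow_le_pow_right (by norm_num) (by omega)
  have hzU : z ∈ U := D.mem_conj hgQ hsz hQ32
  have DP := D.conjugate g
  obtain ⟨htQ', htU⟩ := htQ
  change t ∈ U at htU
  have ht1 : t ≠ 1 := fun h => by simp [h] at ht
  have htt : t * t = 1 := by rw [← pow_two, ← ht, pow_orderOf_eq_one]
  have htz' : t ≠ z := fun h => htz (h ▸ IsConj.refl z)
  have hts : t ≠ s := fun h => htz (h ▸ isConj_iff.mpr ⟨g, rfl⟩)
  have hzt : z * t = t * z := (D.z_central t htQ').symm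
  have hst : s * t = t * s := (DP.z_central t htU).symm
  -- the conjugates tz and ts of t
  obtain ⟨qt, hqt, hqtt⟩ := D.exists_conj_eq htQ' ht1 htz'
  obtain ⟨rt, hrt, hrtt⟩ := DP.exists_conj_eq htU ht1 hts
  have htzc : ¬ IsConj z (t * z) := fun h =>
    htz (h.trans (isConj_iff.mpr ⟨qt, hqtt⟩).symm)
  have htsc : ¬ IsConj z (t * s) := fun h =>
    htz (h.trans (isConj_iff.mpr ⟨rt, hrtt⟩).symm)
  have hzs : z * s = s * z := (D.z_central s hgQ).symm
  have hPmem : ∀ x, x ∈ P ↔ x ∈ Q ∧ x * t = t * x := fun x => by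
    rw [hP, Subgroup.mem_inf, Subgroup.mem_centralizer_singleton_iff]
  -- elements moving s and z
  obtain ⟨q, hq, hqs⟩ : ∃ q ∈ P, q * s * q⁻¹ = s * z := by
    by_contra! hno
    -- otherwise s commutes with C_Q(t)
    obtain ⟨h1, -⟩ : (∀ x ∈ P, x * s = s * x) ∧ True := ⟨fun x hx => by
      rcases D.comm x ((hPmem x).mp hx).1 s hgQ with h | h
      · exact commutatorElement_eq_one_iff_mul_comm.mp h
      · refine absurd ?_ (hno x hx)
        rw [D.z_central s hgQ, ← h, commutatorElement_def]; group, trivial⟩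
    have hqts : qt * s * qt⁻¹ = s * z := by
      rcases D.comm qt hqt s hgQ with h | h
      · exfalso
        have hqs' := commutatorElement_eq_one_iff_mul_comm.mp h
        rcases D.cent s (fun x hx => by
          rcases D.comm x hx t htQ' with e | e
          · exact h1 x ((hPmem x).mpr ⟨hx, commutatorElement_eq_one_iff_mul_comm.mp e⟩)
          · have hm : qt * x ∈ P := (hPmem _).mpr ⟨mul_mem hqt hx, by
              rw [← commutatorElement_eq_one_iff_mul_comm, D.comm_mul_left hqt hx htQ', e,
                show ⁅qt, t⁆ = z by rw [commutatorElement_def, hqtt, ← hzt, mul_inv_cancel_right], D.z_sq]⟩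
            have e2 := h1 _ hm
            calc x * s = qt⁻¹ * (qt * x * s) := by group
              _ = qt⁻¹ * (s * qt) * x := by rw [e2]; group
              _ = qt⁻¹ * (qt * s) * x := by rw [hqs']
              _ = s * x := by group) with h' | h'
        exacts [hs1 h', hsz h']
      · rw [D.z_central s hgQ, ← h, commutatorElement_def]; group
    have hc : ∀ x ∈ Q, x * (s * t) = (s * t) * x := by
      intro x hx
      rcases D.comm x hx t htQ' with e | e
      · have e' := commutatorElement_eq_one_iff_mul_comm.mp e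
        exact (Commute.mul_right (h1 x ((hPmem x).mpr ⟨hx, e'⟩)) e').eq
      · have hm : qt * x ∈ P := (hPmem _).mpr ⟨mul_mem hqt hx, by
          rw [← commutatorElement_eq_one_iff_mul_comm, D.comm_mul_left hqt hx htQ', e,
            show ⁅qt, t⁆ = z by rw [commutatorElement_def, hqtt, ← hzt, mul_inv_cancel_right], D.z_sq]⟩
        have e2 : Commute (qt * x) (s * t) := Commute.mul_right (h1 _ hm) ((hPmem _).mp hm).2
        have e3 : qt * (s * t) = (s * t) * qt := by
          calc qt * (s * t) = (qt * s * qt⁻¹) * (qt * t * qt⁻¹) * qt := by group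
            _ = (s * z) * (t * z) * qt := by rw [hqts, hqtt]
            _ = s * (z * t) * z * qt := by group
            _ = s * t * (z * z) * qt := by rw [hzt]; group
            _ = s * t * qt := by rw [D.z_sq, mul_one]
        calc x * (s * t) = qt⁻¹ * (qt * x * (s * t)) := by group
          _ = qt⁻¹ * ((s * t) * qt) * x := by rw [e2.eq]; group
          _ = qt⁻¹ * (qt * (s * t)) * x := by rw [e3]
          _ = s * t * x := by group
    rcases D.cent _ hc with h | h
    · exact hts ((eq_inv_of_mul_eq_one_right h).trans (inv_eq_of_mul_eq_one_right DP.z_sq))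
    · refine htsc (?_ : IsConj z (t * s))
      rw [← hst, h]
  obtain ⟨r, hr, hrt', hrz⟩ : ∃ r ∈ U, r * t = t * r ∧ r * z * r⁻¹ = z * s := by
    by_contra! hno
    have h1 : ∀ x ∈ U, x * t = t * x → x * z = z * x := fun x hx hxt => by
      rcases DP.comm x hx z hzU with h | h
      · exact commutatorElement_eq_one_iff_mul_comm.mp h
      · refine absurd ?_ (hno x hx hxt)
        rw [DP.z_central z hzU, ← h, commutatorElement_def]; group
    have hrts : ⁅rt, t⁆ = s := by
      rw [commutatorElement_def, hrtt]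
      show t * s * t⁻¹ = s
      rw [← hst, mul_inv_cancel_right]
    have hdec : ∀ x ∈ U, x * t = t * x ∨ (rt * x) * t = t * (rt * x) := fun x hx => by
      rcases DP.comm x hx t htU with e | e
      · exact Or.inl (commutatorElement_eq_one_iff_mul_comm.mp e)
      · right
        rw [← commutatorElement_eq_one_iff_mul_comm, DP.comm_mul_left hrt hx htU, e, hrts, hsdef, DP.z_sq]
    rcases DP.comm rt hrt z hzU with h | h
    · have hrz' := commutatorElement_eq_one_iff_mul_comm.mp h
      rcases DP.cent z (fun x hx => by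
        rcases hdec x hx with e | e
        · exact h1 x hx e
        · calc x * z = rt⁻¹ * (rt * x * z) := by group
            _ = rt⁻¹ * (z * rt) * x := by rw [h1 _ (mul_mem hrt hx) e]; group
            _ = rt⁻¹ * (rt * z) * x := by rw [hrz']
            _ = z * x := by group) with h' | h'
      exacts [D.z_ne h', hsz h'.symm]
    · have hrz2 : rt * z * rt⁻¹ = s * z := by rw [hsdef, ← h, commutatorElement_def]; group
      have e3 : rt * (z * t) = (z * t) * rt := by
        calc rt * (z * t) = (rt * z * rt⁻¹) * (rt * t * rt⁻¹) * rt := by group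
          _ = (s * z) * (t * s) * rt := by rw [hrz2, hrtt]
          _ = s * (z * t) * s * rt := by group
          _ = (z * t) * s * s * rt := by rw [(Commute.mul_right (hzs.symm : Commute s z) hst).eq]
          _ = z * t * rt := by rw [mul_assoc (z * t), hsdef, DP.z_sq, mul_one]
      rcases DP.cent (z * t) (fun x hx => by
        rcases hdec x hx with e | e
        · exact (Commute.mul_right (h1 x hx e) e).eq
        · calc x * (z * t) = rt⁻¹ * (rt * x * (z * t)) := by group
            _ = rt⁻¹ * ((z * t) * rt) * x := by rw [(Commute.mul_right (h1 _ (mul_mem hrt hx) e) e).eq]; group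
            _ = rt⁻¹ * (rt * (z * t)) * x := by rw [e3]
            _ = z * t * x := by group) with h' | h'
      · exact htz' ((eq_inv_of_mul_eq_one_right h').trans (inv_eq_of_mul_eq_one_right D.z_sq))
      · refine htzc (?_ : IsConj z (t * z))
        rw [← hzt, h']
        exact isConj_iff.mpr ⟨g, rfl⟩
  set C := Subgroup.centralizer ({t} : Set G) with hC
  have hCmem : ∀ x, x ∈ C ↔ x * t = t * x := fun x => Subgroup.mem_centralizer_singleton_iff
  have hPC : P ≤ C := fun x hx => (hCmem x).mpr ((hPmem x).mp hx).2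
  have hsP : s ∈ P := (hPmem s).mpr ⟨hgQ, hst⟩
  have hzP : z ∈ P := (hPmem z).mpr ⟨D.z_mem, hzt⟩
  refine ⟨?_, ⟨(q * r)⁻¹, inv_mem (mul_mem (Subgroup.mem_sup_left hq)
    (Subgroup.mem_sup_right ⟨hr, (hCmem r).mpr hrt'⟩)), ?_⟩⟩
  · set π := QuotientGroup.mk' ((Subgroup.zpowers t).subgroupOf C) with hπ
    have hπ1' : ∀ x : C, π x = 1 → (x : G) = 1 ∨ (x : G) = t := fun x hx =>
      LargeExtraspecial.mem_zpowers_two htt ((QuotientGroup.eq_one_iff x).mp hx : (x : G) ∈ Subgroup.zpowers t)
    have hπ1 : ∀ x : C, (x : G) = 1 ∨ (x : G) = t → π x = 1 := fun x hx => by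
      refine (QuotientGroup.eq_one_iff x).mpr ?_
      show (x : G) ∈ Subgroup.zpowers t
      rcases hx with h | h <;> rw [h]
      exacts [one_mem _, Subgroup.mem_zpowers t]
    -- commutation modulo t with z or s is commutation
    have comm_of : ∀ (c : C) (u : C), ¬ IsConj (u : G) (t * u) → π c * π u = π u * π c →
        (c : G) * u = u * c := by
      intro c u hu h
      have h' : π (c * u * c⁻¹ * u⁻¹) = 1 := by rw [map_mul, map_mul, map_mul, map_inv, map_inv, h]; simp
      rcases hπ1' _ h' with e | e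
      · exact mul_inv_eq_iff_eq_mul.mp (mul_inv_eq_one.mp e)
      · refine absurd (isConj_iff.mpr ⟨(c : G), ?_⟩) hu
        rw [← e]; simp [mul_assoc]
    have hz_ct : ¬ IsConj z (t * z) := htzc
    have hs_ct : ¬ IsConj s (t * s) := fun h => htsc ((isConj_iff.mpr ⟨g, rfl⟩ : IsConj z s).trans h)
    set zC : C := ⟨z, hPC hzP⟩
    set sC : C := ⟨s, hPC hsP⟩
    set Pb := (P.subgroupOf C).map π with hPb
    have hPb' : ∀ y, y ∈ Pb ↔ ∃ u, ∃ hu : u ∈ P, y = π ⟨u, hPC hu⟩ := by
      intro y
      constructor
      · rintro ⟨⟨u, huC⟩, hu, rfl⟩; exact ⟨u, hu, rfl⟩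
      · rintro ⟨u, hu, rfl⟩; exact ⟨⟨u, hPC hu⟩, hu, rfl⟩
    have hz1 : π zC ≠ 1 := fun h => (hπ1' _ h).elim D.z_ne (fun h => htz' h.symm)
    have hQP : ∀ x ∈ Q, (∀ u ∈ P, x * u = u * x) → x = 1 ∨ x = z ∨ x = t ∨ x = t * z := by
      intro x hx hxu
      rcases D.comm qt hqt x hx with e | e
      · have e' := commutatorElement_eq_one_iff_mul_comm.mp e
        rcases D.cent x (fun p hp => by
          rcases D.comm p hp t htQ' with e2 | e2
          · exact (hxu p ((hPmem p).mpr ⟨hp, commutatorElement_eq_one_iff_mul_comm.mp e2⟩)).symm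
          · have hm : qt * p ∈ P := (hPmem _).mpr ⟨mul_mem hqt hp, by
              rw [← commutatorElement_eq_one_iff_mul_comm, D.comm_mul_left hqt hp htQ', e2,
                show ⁅qt, t⁆ = z by rw [commutatorElement_def, hqtt, ← hzt, mul_inv_cancel_right], D.z_sq]⟩
            calc p * x = qt⁻¹ * (qt * p * x) := by group
              _ = qt⁻¹ * (x * qt) * p := by rw [← hxu _ hm]; group
              _ = qt⁻¹ * (qt * x) * p := by rw [e']
              _ = x * p := by group) with h | h
        · exact Or.inl h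
        · exact Or.inr (Or.inl h)
      · have hqx : qt * x * qt⁻¹ = z * x := by rw [← e, commutatorElement_def]; group
        have e' : qt * (x * t) = (x * t) * qt := by
          calc qt * (x * t) = (qt * x * qt⁻¹) * (qt * t * qt⁻¹) * qt := by group
            _ = (z * x) * (t * z) * qt := by rw [hqx, hqtt]
            _ = (z * x) * (z * t) * qt := by rw [hzt]
            _ = z * (x * z) * t * qt := by group
            _ = (z * z) * x * t * qt := by rw [D.z_central x hx]; group
            _ = x * t * qt := by rw [D.z_sq, one_mul]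
        have hxt : ∀ p ∈ P, p * (x * t) = (x * t) * p := fun p hp =>
          (Commute.mul_right (hxu p hp).symm ((hPmem p).mp hp).2).eq
        rcases D.cent (x * t) (fun p hp => by
          rcases D.comm p hp t htQ' with e2 | e2
          · exact hxt p ((hPmem p).mpr ⟨hp, commutatorElement_eq_one_iff_mul_comm.mp e2⟩)
          · have hm : qt * p ∈ P := (hPmem _).mpr ⟨mul_mem hqt hp, by
              rw [← commutatorElement_eq_one_iff_mul_comm, D.comm_mul_left hqt hp htQ', e2,
                show ⁅qt, t⁆ = z by rw [commutatorElement_def, hqtt, ← hzt, mul_inv_cancel_right], D.z_sq]⟩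
            calc p * (x * t) = qt⁻¹ * (qt * p * (x * t)) := by group
              _ = qt⁻¹ * ((x * t) * qt) * p := by rw [hxt _ hm]; group
              _ = qt⁻¹ * (qt * (x * t)) * p := by rw [e']
              _ = x * t * p := by group) with h | h
        · refine Or.inr (Or.inr (Or.inl ?_))
          exact (eq_inv_of_mul_eq_one_left h).trans (inv_eq_of_mul_eq_one_right htt)
        · refine Or.inr (Or.inr (Or.inr ?_))
          rw [← hzt, ← h, mul_assoc, htt, mul_one]
    have Db : LargeExtraspecial.Data Pb (π zC) := by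
      refine ⟨(hPb' _).mpr ⟨z, hzP, rfl⟩, hz1, ?_, ?_, ?_, ?_, ?_⟩
      · rw [← map_mul, show zC * zC = 1 from Subtype.ext D.z_sq, map_one]
      · intro y hy
        obtain ⟨u, hu, rfl⟩ := (hPb' _).mp hy
        rw [← map_mul, ← map_mul]
        congr 1
        exact Subtype.ext (D.z_central u ((hPmem u).mp hu).1)
      · intro y hy
        obtain ⟨c, rfl⟩ := QuotientGroup.mk'_surjective _ y
        change ∀ q ∈ Pb, q * π c = π c * q at hy
        have hcz := comm_of c zC hz_ct (hy _ ((hPb' _).mpr ⟨z, hzP, rfl⟩)).symm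
        have hcQ : (c : G) ∈ Q := by
          refine (hCP c (Subgroup.mem_centralizer_singleton_iff.mpr hcz)).mp fun x hx => ?_
          have h' : π (⟨x, hPC hx⟩⁻¹ * (c * ⟨x, hPC hx⟩ * c⁻¹)) = 1 := by
            rw [map_mul, map_mul, map_mul, map_inv, map_inv, ← hy _ ((hPb' _).mpr ⟨x, hx, rfl⟩)]
            group
          refine ⟨x⁻¹ * ((c : G) * x * (c : G)⁻¹), ?_, by group⟩
          rcases hπ1' _ h' with e | e
          · rw [show x⁻¹ * ((c : G) * x * (c : G)⁻¹) = 1 from e]; exact one_mem _
          · rw [show x⁻¹ * ((c : G) * x * (c : G)⁻¹) = t from e]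
            exact Subgroup.subset_closure (Set.mem_insert _ _)
        have hcu : ∀ u ∈ P, (c : G) * u = u * c := by
          intro u hu
          rcases D.comm c hcQ u ((hPmem u).mp hu).1 with e | e
          · exact commutatorElement_eq_one_iff_mul_comm.mp e
          · exfalso
            have h' : π ⁅c, (⟨u, hPC hu⟩ : C)⁆ = 1 := by
              rw [map_commutatorElement, commutatorElement_eq_one_iff_mul_comm]
              exact (hy _ ((hPb' _).mpr ⟨u, hu, rfl⟩)).symm
            have e' := map_commutatorElement C.subtype c (⟨u, hPC hu⟩ : C)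
            rcases hπ1' _ h' with h2 | h2
            · exact D.z_ne (e.symm.trans (e'.symm.trans h2))
            · exact htz' ((e'.symm.trans h2).symm.trans e)
        rcases hQP c hcQ hcu with h | h | h | h
        · exact Or.inl (hπ1 c (Or.inl h))
        · right; exact congrArg π (Subtype.ext h)
        · exact Or.inl (hπ1 c (Or.inr h))
        · right
          show π c = π zC
          rw [show c = ⟨t, (hCmem t).mpr rfl⟩ * zC from Subtype.ext h, map_mul, hπ1 ⟨t, _⟩ (Or.inr rfl), one_mul]
      · intro y hy y' hy'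
        obtain ⟨u, hu, rfl⟩ := (hPb' _).mp hy
        obtain ⟨u', hu', rfl⟩ := (hPb' _).mp hy'
        have e := map_commutatorElement C.subtype (⟨u, hPC hu⟩ : C) ⟨u', hPC hu'⟩
        rw [← map_commutatorElement]
        rcases D.comm u ((hPmem u).mp hu).1 u' ((hPmem u').mp hu').1 with h | h
        · left
          rw [show ⁅(⟨u, hPC hu⟩ : C), (⟨u', hPC hu'⟩ : C)⁆ = 1 from Subtype.ext (e.trans h), map_one]
        · right
          exact congrArg π (Subtype.ext (e.trans h))
      · intro y hy y' hy'
        obtain ⟨c, rfl⟩ := QuotientGroup.mk'_surjective _ y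
        change π c * π zC = π zC * π c at hy
        obtain ⟨u, hu, rfl⟩ := (hPb' _).mp hy'
        have hcz := comm_of c zC hz_ct hy
        have hu' := (hPmem u).mp hu
        have e1 : Commute (c : G) t := (hCmem c).mp c.2
        have hm : (c : G) * u * (c : G)⁻¹ ∈ P :=
          (hPmem _).mpr ⟨D.norm c hcz u hu'.1, ((e1.mul_left hu'.2).mul_left e1.inv_left).eq⟩
        refine (hPb' _).mpr ⟨_, hm, ?_⟩
        show π c * π ⟨u, hPC hu⟩ * (π c)⁻¹ = _
        rw [← map_inv, ← map_mul, ← map_mul]; rfl
    have hPp : IsPGroup 2 Pb := ((hp.to_le (hP ▸ inf_le_left : P ≤ Q)).comap_subtype).map π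
    refine LargeExtraspecial.isLarge_of_involution (S := ((U ⊓ C).subgroupOf C).map π) (b := π sC) Db hPp
      ?_ ((hPb' _).mpr ⟨s, hsP, rfl⟩) (fun h => (hπ1' _ h).elim hs1 (fun h => hts h.symm)) ?_ ?_
      ((((hp.map _).to_le inf_le_left).comap_subtype).map π) ⟨zC, ⟨hzU, hPC hzP⟩, rfl⟩ ?_ ?_
    · refine ⟨_, (hPb' _).mpr ⟨q, hq, rfl⟩, _, (hPb' _).mpr ⟨s, hsP, rfl⟩, ?_⟩
      rw [← map_commutatorElement]
      intro h
      have e : ⁅q, s⁆ = z := by rw [commutatorElement_def, hqs, ← hzs, mul_inv_cancel_right]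
      rcases hπ1' _ h with h' | h' <;>
        rw [show ((⁅(⟨q, hPC hq⟩ : C), (⟨s, hPC hsP⟩ : C)⁆ : C) : G) = ⁅q, s⁆ from map_commutatorElement C.subtype _ _, e] at h'
      exacts [D.z_ne h', htz' h'.symm]
    · intro h
      have h' : π (sC * zC⁻¹) = 1 := by rw [map_mul, map_inv, h, mul_inv_cancel]
      rcases hπ1' _ h' with e | e
      · exact hsz (mul_inv_eq_one.mp e)
      · refine htzc ((isConj_iff.mpr ⟨g, rfl⟩ : IsConj z s).trans ?_)
        rw [show s = t * z from mul_inv_eq_iff_eq_mul.mp e]
    · rw [← map_mul, show sC * sC = 1 from Subtype.ext DP.z_sq, map_one]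
    · rintro _ ⟨x, hx, rfl⟩
      rw [← map_mul, ← map_mul]
      congr 1
      exact Subtype.ext (DP.z_central x hx.1)
    · intro y hy w hw
      obtain ⟨c, rfl⟩ := QuotientGroup.mk'_surjective _ y
      change π c * π sC = π sC * π c at hy
      obtain ⟨x, hx, rfl⟩ := hw
      have hcs := comm_of c sC hs_ct hy
      exact ⟨c * x * c⁻¹, ⟨DP.norm c hcs x hx.1, (c * x * c⁻¹).2⟩, by rw [map_mul, map_mul, map_inv]⟩
  · have hqz : q * z * q⁻¹ = z := by rw [D.z_central q ((hPmem q).mp hq).1]; group
    have e : (q * r) * z * (q * r)⁻¹ = s := by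
      calc (q * r) * z * (q * r)⁻¹ = q * (r * z * r⁻¹) * q⁻¹ := by group
        _ = (q * z * q⁻¹) * (q * s * q⁻¹) := by rw [hrz]; group
        _ = s * (z * z) := by rw [hqz, hqs, ← mul_assoc, ← D.z_central s hgQ, mul_assoc]
        _ = s := by rw [D.z_sq, mul_one]
    rw [← e]; group

end Cfsg.Agent.S5429
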