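import Cfsg.Statements.S5430
import Cfsg.Agent.Lib.LargeExtraspecial.FourGroup

set_option autoImplicit false
open Cfsg

namespace Cfsg.Agent.S5430

theorem le_of_six {M : Type*} [Group M] {a b : M} (ha : a * a = 1) (hb : b * b = 1)
    (hab : a * b * a = b * a * b) (h : Subgroup.closure ({a, b} : Set M) = ⊤) :
    ∀ x : M, x = 1 ∨ x = a ∨ x = b ∨ x = a * b ∨ x = b * a ∨ x = a * b * a := by
  intro x
  have hx : x ∈ Subgroup.closure ({a, b} : Set M) := h ▸ Subgroup.mem_top x
  have hainv := inv_eq_of_mul_eq_one_right ha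
  have hbinv := inv_eq_of_mul_eq_one_right hb
  have e1 : ∀ y : M, a * (a * y) = y := fun y => by rw [← mul_assoc, ha, one_mul]
  have e2 : ∀ y : M, b * (b * y) = y := fun y => by rw [← mul_assoc, hb, one_mul]
  have e3 : b * (a * b) = a * (b * a) := by rw [← mul_assoc, ← hab, mul_assoc]
  have e4 : ∀ y : M, b * (a * (b * y)) = a * (b * (a * y)) := fun y => by
    rw [← mul_assoc a b, ← mul_assoc b, e3]; simp [mul_assoc]
  induction hx using Subgroup.closure_induction'' with
  | mem y hy => rcases hy with rfl | rfl <;> simp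
  | inv_mem y hy => rcases hy with rfl | rfl <;> simp [hainv, hbinv]
  | one => simp
  | mul u v _ _ hu hv =>
    rcases hu with rfl | rfl | rfl | rfl | rfl | rfl <;> rcases hv with rfl | rfl | rfl | rfl | rfl | rfl <;>
      simp [mul_assoc, ha, hb, e1, e2, e3, e4]

/-- Let Q be a large extraspecial 2-subgroup of the finite group G (extraspecial; centralizer equal to its centre; normal in the centralizer of its centre; normalizing no non-trivial subgroup of odd order) with centre generated by z, an involution, of width w ≥ 2 (order 2^(2w+1)); let g be an element outside the centralizer H of z with g z g⁻¹ in Q; write V for the subgroup generated by z and g z g⁻¹, X for the subgroup generated by Q and g Q g⁻¹, R for the subgroup generated by the centralizer of z in g Q g⁻¹ and the centralizer of g z g⁻¹ in Q, and E for the intersection of Q and g Q g⁻¹. Then R is the centralizer of V in X and is the largest normal 2-subgroup of X, and X/R is isomorphic to the symmetric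 group of degree 3; moreover the normalizer of V is the product of X and the centralizer of V in H, X is normal in it, and modulo R it is the direct product of X/R and of the centralizer of V in H modulo R. -/
theorem result {G : Type*} [Group G] [Finite G] (Q : Subgroup G) (hQ : Cfsg.IsLargeExtraspecial Q) (z : G) (hz : ((Subgroup.center ↥Q).map Q.subtype) = Subgroup.zpowers z) (hz2 : orderOf z = 2) (w : ℕ) (hw : 2 ≤ w) (hcard : Nat.card ↥Q = 2 ^ (2 * w + 1)) (g : G) (hgH : g ∉ Subgroup.centralizer ({z} : Set G)) (hgQ : g * z * g⁻¹ ∈ Q) (V X R E : Subgroup G) (hV : V = Subgroup.closure ({z, g * z * g⁻¹} : Set G)) (hX : X = Q ⊔ (Q).map (MulAut.conj g).toMonoidHom) (hR : R = ((Q).map (MulAut.conj g).toMonoidHom ⊓ Subgroup.centralizer ({z} : Set G)) ⊔ (Q ⊓ Subgroup.centralizer ({g * z * g⁻¹} : Set G))) (hE : E = Q ⊓ (Q).map (MulAut.conj g).toMonoidHom) : R = X ⊓ Subgroup.centralizer (V : Set G) ∧ R = (Cfsg.pCore 2 ↥X).map X.subtype ∧ (∃ h : (R.subgroupOf X).Normal, Nonempty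 (↥X ⧸ R.subgroupOf X ≃* Equiv.Perm (Fin 3))) ∧ Subgroup.normalizer (V : Set G) = X ⊔ (Subgroup.centralizer ({z} : Set G) ⊓ Subgroup.centralizer (V : Set G)) ∧ (∀ y ∈ Subgroup.normalizer (V : Set G), ∀ x ∈ X, y * x * y⁻¹ ∈ X) ∧ R ≤ Subgroup.centralizer ({z} : Set G) ⊓ Subgroup.centralizer (V : Set G) ∧ (∀ x ∈ X, ∀ c ∈ Subgroup.centralizer ({z} : Set G) ⊓ Subgroup.centralizer (V : Set G), x * c * x⁻¹ * c⁻¹ ∈ R) ∧ X ⊓ (Subgroup.centralizer ({z} : Set G) ⊓ Subgroup.centralizer (V : Set G)) = R := by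
  haveI : Fact (Nat.Prime 2) := ⟨Nat.prime_two⟩
  obtain ⟨hQe, hL2, hL3, -⟩ := hQ
  have D := LargeExtraspecial.Data.of_extraspecial hQe hL2 hL3 hz hz2
  have hsz : g * z * g⁻¹ ≠ z := fun h => hgH (Subgroup.mem_centralizer_singleton_iff.mpr
    (mul_inv_eq_iff_eq_mul.mp h))
  have h32 : 32 ≤ Nat.card Q := by
    rw [hcard]
    calc 32 = 2 ^ 5 := by norm_num
      _ ≤ _ := Nat.pow_le_pow_right (by norm_num) (by omega)
  have C := LargeExtraspecial.Cfg.of_conj D hgQ hsz h32
  set s := g * z * g⁻¹ with hsdef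
  set P := LargeExtraspecial.conjS g Q with hP
  have hR' : R = LargeExtraspecial.Cfg.A P z ⊔ LargeExtraspecial.Cfg.A Q s := hR
  subst hV hX hE
  have hXeq : Q ⊔ Q.map (MulAut.conj g).toMonoidHom = Q ⊔ P := rfl
  rw [hXeq]
  have hRX : R ≤ Q ⊔ P := by
    rw [hR']; exact sup_le (le_sup_of_le_right inf_le_left) (le_sup_of_le_left inf_le_left)
  set X := Q ⊔ P with hX
  set V := Subgroup.closure ({z, s} : Set G) with hV
  have hRn : ∀ x ∈ X, ∀ n ∈ R, x * n * x⁻¹ ∈ R := fun x hx n hn => by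
    rw [hR'] at hn ⊢; exact C.conj_R_iff hx hn
  haveI hRnor : (R.subgroupOf X).Normal := ⟨fun n hn x => hRn x x.2 n hn⟩
  obtain ⟨q, hq, hqs⟩ := D.exists_conj_eq C.s_mem C.dP.z_ne C.ne
  obtain ⟨r, hr, hrz⟩ := C.dP.exists_conj_eq C.z_mem D.z_ne C.ne.symm
  have hqX : q ∈ X := Subgroup.mem_sup_left hq
  have hrX : r ∈ X := Subgroup.mem_sup_right hr
  set qb : X ⧸ R.subgroupOf X := QuotientGroup.mk ⟨q, hqX⟩ with hqb
  set rb : X ⧸ R.subgroupOf X := QuotientGroup.mk ⟨r, hrX⟩ with hrb
  have hmk : ∀ {x : X}, (x : G) ∈ R → (QuotientGroup.mk x : X ⧸ R.subgroupOf X) = 1 := fun {x} hx =>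
    (QuotientGroup.eq_one_iff x).mpr hx
  have hqq : qb * qb = 1 := (QuotientGroup.mk_mul _ _ _).symm.trans (hmk (x := ⟨q, hqX⟩ * ⟨q, hqX⟩) (by
    show q * q ∈ R
    rw [hR']
    rcases D.sq hq with h | h <;> rw [h]
    exacts [one_mem _, C.z_mem_R]))
  have hrr : rb * rb = 1 := (QuotientGroup.mk_mul _ _ _).symm.trans (hmk (x := ⟨r, hrX⟩ * ⟨r, hrX⟩) (by
    show r * r ∈ R
    rw [hR']
    rcases C.dP.sq hr with h | h <;> rw [h]
    exacts [one_mem _, C.s_mem_R]))
  have hzs : z * s = s * z := C.zs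
  have hqz : q * z * q⁻¹ = z := by rw [D.z_central q hq]; group
  have hrs : r * s * r⁻¹ = s := by rw [C.dP.z_central r hr]; group
  -- braid relation
  have hbraid : qb * rb * qb = rb * qb * rb := by
    have hPu : LargeExtraspecial.conjS (r : G) Q = LargeExtraspecial.conjS (q * g) Q := by
      refine D.conjS_eq_of_conj_eq ?_
      rw [hrz, show q * g * z * (q * g)⁻¹ = q * s * q⁻¹ by rw [hsdef]; group, hqs, hzs]
    -- u = q r q⁻¹ and v = r q r⁻¹ both lie in the conjugate of Q at sz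
    have hu : g⁻¹ * (q⁻¹ * (q * r * q⁻¹) * q) * g ∈ Q := by
      have := LargeExtraspecial.mem_conjS.mp hr
      simpa [mul_assoc] using this
    have hv : r * q * r⁻¹ ∈ LargeExtraspecial.conjS (q * g) Q := hPu ▸ ⟨q, hq, rfl⟩
    rw [LargeExtraspecial.mem_conjS] at hv
    have hv' : q⁻¹ * (r * q * r⁻¹) * q ∈ P := by
      rw [hP, LargeExtraspecial.mem_conjS]; simpa [mul_assoc] using hv
    -- r⁻¹ (q⁻¹ r q r⁻¹ q) lies in C_P(z)
    set w := q⁻¹ * (r * q * r⁻¹) * q with hw
    have hwP : r⁻¹ * w ∈ P := mul_mem (inv_mem hr) hv'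
    have hwz : (r⁻¹ * w) * z * (r⁻¹ * w)⁻¹ = z := by
      have hq' : q⁻¹ * s * q = s * z := by
        have : q * (s * z) * q⁻¹ = s := by
          calc q * (s * z) * q⁻¹ = (q * s * q⁻¹) * (q * z * q⁻¹) := by group
            _ = s * (z * z) := by rw [hqs, hqz]; group
            _ = s := by rw [D.z_sq, mul_one]
        calc q⁻¹ * s * q = q⁻¹ * (q * (s * z) * q⁻¹) * q := by rw [this]
          _ = s * z := by group
      have hq'' : q⁻¹ * z * q = z := by rw [mul_assoc, ← D.z_central q hq]; group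
      have hr' : r⁻¹ * (z * s) * r = z := by rw [← hrz]; group
      have hr2 : r * s * r⁻¹ = s := hrs
      have e1 : r⁻¹ * z * r = z * s := by
        calc r⁻¹ * z * r = (r⁻¹ * (z * s) * r) * (r⁻¹ * s * r) := by
              rw [show r⁻¹ * (z * s) * r * (r⁻¹ * s * r) = r⁻¹ * (z * (s * s)) * r by group, C.dP.z_sq, mul_one]
          _ = z * s := by
              rw [hr', show r⁻¹ * s * r = s by rw [mul_assoc, ← C.dP.z_central r hr]; group]
      calc r⁻¹ * w * z * (r⁻¹ * w)⁻¹
          = r⁻¹ * (q⁻¹ * (r * (q * (r⁻¹ * (q * z * q⁻¹) * r) * q⁻¹) * r⁻¹) * q) * r := by rw [hw]; group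
        _ = r⁻¹ * (q⁻¹ * (r * ((q * z * q⁻¹) * (q * s * q⁻¹)) * r⁻¹) * q) * r := by
            rw [hqz, e1, show q * (z * s) * q⁻¹ = (q * z * q⁻¹) * (q * s * q⁻¹) by group, hqz]
        _ = r⁻¹ * (q⁻¹ * (r * (z * (s * z)) * r⁻¹) * q) * r := by rw [hqz, hqs]
        _ = r⁻¹ * (q⁻¹ * s * q) * r := by
            rw [show z * (s * z) = s by rw [← mul_assoc, hzs, mul_assoc, D.z_sq, mul_one], hrs]
        _ = r⁻¹ * (z * s) * r := by rw [hq', hzs]
        _ = z := hr'
    have hwR : r⁻¹ * w ∈ R := by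
      rw [hR']
      exact Subgroup.mem_sup_left (LargeExtraspecial.Cfg.mem_A.mpr ⟨hwP, mul_inv_eq_iff_eq_mul.mp hwz⟩)
    have h1 : (QuotientGroup.mk (⟨r, hrX⟩⁻¹ * (⟨q, hqX⟩⁻¹ * (⟨r, hrX⟩ * ⟨q, hqX⟩ * ⟨r, hrX⟩⁻¹) * ⟨q, hqX⟩) : X) : X ⧸ R.subgroupOf X) = 1 :=
      hmk (by simpa [hw] using hwR)
    simp only [QuotientGroup.mk_mul, QuotientGroup.mk_inv, ← hqb, ← hrb, inv_eq_of_mul_eq_one_right hqq,
      inv_eq_of_mul_eq_one_right hrr] at h1
    have h2 : rb * qb * rb * (qb * rb * qb) = 1 := by rw [← h1]; group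
    calc qb * rb * qb = (rb * qb * rb)⁻¹ := eq_inv_of_mul_eq_one_right h2
      _ = rb⁻¹ * qb⁻¹ * rb⁻¹ := by group
      _ = rb * qb * rb := by
        rw [inv_eq_of_mul_eq_one_right hqq, inv_eq_of_mul_eq_one_right hrr]
  -- generation of the quotient
  have hQdec : ∀ p ∈ Q, p ∈ R ∨ q⁻¹ * p ∈ R := by
    intro p hp
    rw [hR']
    rcases C.q_conj hp with h | h
    · exact Or.inl (Subgroup.mem_sup_right (LargeExtraspecial.Cfg.mem_A.mpr ⟨hp, mul_inv_eq_iff_eq_mul.mp h⟩))
    · refine Or.inr (Subgroup.mem_sup_right (LargeExtraspecial.Cfg.mem_A.mpr ⟨mul_mem (inv_mem hq) hp, ?_⟩))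
      calc q⁻¹ * p * s = q⁻¹ * (p * s * p⁻¹) * p := by group
        _ = q⁻¹ * (q * s * q⁻¹) * p := by rw [h, hqs]
        _ = s * (q⁻¹ * p) := by group
  have hPdec : ∀ p ∈ P, p ∈ R ∨ r⁻¹ * p ∈ R := by
    intro p hp
    rw [hR']
    rcases C.symm.q_conj hp with h | h
    · exact Or.inl (Subgroup.mem_sup_left (LargeExtraspecial.Cfg.mem_A.mpr ⟨hp, mul_inv_eq_iff_eq_mul.mp h⟩))
    · refine Or.inr (Subgroup.mem_sup_left (LargeExtraspecial.Cfg.mem_A.mpr ⟨mul_mem (inv_mem hr) hp, ?_⟩))
      calc r⁻¹ * p * z = r⁻¹ * (p * z * p⁻¹) * p := by group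
        _ = r⁻¹ * (r * z * r⁻¹) * p := by rw [h, hrz]
        _ = z * (r⁻¹ * p) := by group
  have hgen : Subgroup.closure ({qb, rb} : Set (X ⧸ R.subgroupOf X)) = ⊤ := by
    rw [eq_top_iff]
    rintro x -
    obtain ⟨⟨x, hx⟩, rfl⟩ := QuotientGroup.mk_surjective x
    have hx' := hx
    rw [hX, Subgroup.sup_eq_closure] at hx'
    have key : ∀ y ∈ (Q : Set G) ∪ P, ∀ hy : y ∈ X,
        (QuotientGroup.mk ⟨y, hy⟩ : X ⧸ R.subgroupOf X) ∈ Subgroup.closure ({qb, rb} : Set (X ⧸ R.subgroupOf X)) := by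
      rintro y (hyQ | hyP) hy
      · rcases hQdec y hyQ with h | h
        · rw [hmk h]; exact one_mem _
        · have : (QuotientGroup.mk ⟨y, hy⟩ : X ⧸ R.subgroupOf X) = qb * QuotientGroup.mk (⟨q, hqX⟩⁻¹ * ⟨y, hy⟩) := by
            rw [hqb, ← QuotientGroup.mk_mul, mul_inv_cancel_left]
          rw [this, hmk (x := ⟨q, hqX⟩⁻¹ * ⟨y, hy⟩) h, mul_one]
          exact Subgroup.subset_closure (Set.mem_insert _ _)
      · rcases hPdec y hyP with h | h
        · rw [hmk h]; exact one_mem _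
        · have : (QuotientGroup.mk ⟨y, hy⟩ : X ⧸ R.subgroupOf X) = rb * QuotientGroup.mk (⟨r, hrX⟩⁻¹ * ⟨y, hy⟩) := by
            rw [hrb, ← QuotientGroup.mk_mul, mul_inv_cancel_left]
          rw [this, hmk (x := ⟨r, hrX⟩⁻¹ * ⟨y, hy⟩) h, mul_one]
          exact Subgroup.subset_closure (Set.mem_insert_of_mem _ rfl)
    suffices ∃ h : x ∈ X, (QuotientGroup.mk ⟨x, h⟩ : X ⧸ R.subgroupOf X) ∈ Subgroup.closure ({qb, rb} : Set _) from this.2
    clear hx
    induction hx' using Subgroup.closure_induction'' with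
    | mem y hy =>
      have hy' : y ∈ X := hy.elim (fun h => Subgroup.mem_sup_left h) (fun h => Subgroup.mem_sup_right h)
      exact ⟨hy', key y hy hy'⟩
    | inv_mem y hy =>
      have hy' : y ∈ X := hy.elim (fun h => Subgroup.mem_sup_left h) (fun h => Subgroup.mem_sup_right h)
      exact ⟨inv_mem hy', by
        rw [show (⟨y⁻¹, inv_mem hy'⟩ : X) = (⟨y, hy'⟩ : X)⁻¹ from rfl, QuotientGroup.mk_inv]
        exact inv_mem (key y hy hy')⟩
    | one => exact ⟨one_mem _, by rw [hmk (x := ⟨1, one_mem _⟩) (one_mem R)]; exact one_mem _⟩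
    | mul a b _ _ ha hb =>
      obtain ⟨ha, ha'⟩ := ha
      obtain ⟨hb, hb'⟩ := hb
      exact ⟨mul_mem ha hb, by
        rw [show (⟨a * b, mul_mem ha hb⟩ : X) = (⟨a, ha⟩ : X) * ⟨b, hb⟩ from rfl, QuotientGroup.mk_mul]
        exact mul_mem ha' hb'⟩
  -- the action on the three involutions
  set N := Subgroup.normalizer (V : Set G) with hN
  let T := {x : G // x = z ∨ x = s ∨ x = s * z}
  have hVmem : ∀ x, x ∈ V ↔ x = 1 ∨ x = z ∨ x = s ∨ x = s * z := fun x => C.mem_V
  have hT1 : ∀ x : T, (x : G) ≠ 1 := fun x => by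
    rcases x.2 with h | h | h <;> rw [h]
    · exact D.z_ne
    · exact C.dP.z_ne
    · intro h'; exact C.ne ((eq_inv_of_mul_eq_one_left h').trans (inv_eq_of_mul_eq_one_right D.z_sq))
  have hXN : X ≤ N := by
    rw [hX]
    refine sup_le (fun p hp => ?_) (fun p hp => ?_)
    · exact Subgroup.mem_normalizer_fintype (fun v hv => C.normalizes_V_of_mem hp hv)
    · refine Subgroup.mem_normalizer_fintype (fun v hv => ?_)
      have := C.symm.normalizes_V_of_mem hp (v := v) (by rwa [Set.pair_comm])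
      rwa [Set.pair_comm] at this
  have hT : ∀ (n : N) (x : T), (n : G) * x * (n : G)⁻¹ = z ∨ (n : G) * x * (n : G)⁻¹ = s ∨
      (n : G) * x * (n : G)⁻¹ = s * z := by
    intro n x
    have := (Subgroup.mem_normalizer_iff.mp n.2 x).mp ((hVmem _).mpr (Or.inr x.2))
    exact ((hVmem _).mp this).resolve_left (fun h => hT1 x (conj_eq_one_iff.mp h))
  let φ : N →* Equiv.Perm T :=
    { toFun := fun n =>
        { toFun := fun x => ⟨_, hT n x⟩
          invFun := fun x => ⟨_, hT n⁻¹ x⟩
          left_inv := fun x => by apply Subtype.ext; simp [mul_assoc]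
          right_inv := fun x => by apply Subtype.ext; simp [mul_assoc] }
      map_one' := by ext x; simp
      map_mul' := fun m n => by ext x; simp [mul_assoc] }
  set CV := Subgroup.centralizer (V : Set G) with hCV
  have hker : ∀ n : N, φ n = 1 ↔ (n : G) ∈ CV := by
    intro n
    rw [hCV, C.mem_centralizer_V]
    constructor
    · intro h
      have h1 : (n : G) * z * (n : G)⁻¹ = z := congrArg Subtype.val (DFunLike.congr_fun h ⟨z, Or.inl rfl⟩)
      have h2 : (n : G) * s * (n : G)⁻¹ = s :=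
        congrArg Subtype.val (DFunLike.congr_fun h ⟨s, Or.inr (Or.inl rfl)⟩)
      exact ⟨mul_inv_eq_iff_eq_mul.mp h1, mul_inv_eq_iff_eq_mul.mp h2⟩
    · intro h
      ext x
      show (n : G) * x * (n : G)⁻¹ = x
      have hx : (n : G) * x = x * n := by
        rcases x.2 with e | e | e <;> rw [e]
        exacts [h.1, h.2, (Commute.mul_right h.2 h.1).eq]
      rw [hx, mul_inv_cancel_right]
  have hRCV : R ≤ CV := fun x hx => by
    rw [hCV, C.mem_centralizer_V]; exact C.R_centralizes (hR' ▸ hx)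
  have hmemCV : ∀ x : G, x ∈ CV → x * z = z * x ∧ x * s = s * x := fun x hx => C.mem_centralizer_V.mp hx
  let ψ : X ⧸ R.subgroupOf X →* Equiv.Perm T := QuotientGroup.lift (R.subgroupOf X) (φ.comp (Subgroup.inclusion hXN))
    (fun x hx => (hker _).mpr (hRCV hx))
  let qN : N := ⟨q, hXN hqX⟩
  let rN : N := ⟨r, hXN hrX⟩
  let zT : T := ⟨z, Or.inl rfl⟩
  let sT : T := ⟨s, Or.inr (Or.inl rfl)⟩
  let uT : T := ⟨s * z, Or.inr (Or.inr rfl)⟩
  have a1 : φ qN zT = zT := Subtype.ext hqz
  have a2 : φ qN sT = uT := Subtype.ext hqs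
  have a3 : φ rN zT = uT := Subtype.ext (hrz.trans hzs)
  have a4 : φ rN sT = sT := Subtype.ext hrs
  have n1 : zT ≠ sT := fun h => C.ne (congrArg Subtype.val h).symm
  have n2 : zT ≠ uT := fun h => C.dP.z_ne (mul_eq_right.mp (congrArg Subtype.val h).symm)
  have n3 : sT ≠ uT := fun h => D.z_ne (mul_eq_left.mp (congrArg Subtype.val h).symm)
  have hT3 : ∀ x : T, x = zT ∨ x = sT ∨ x = uT := by
    rintro ⟨x, hx⟩
    rcases hx with e | e | e
    exacts [Or.inl (Subtype.ext e), Or.inr (Or.inl (Subtype.ext e)), Or.inr (Or.inr (Subtype.ext e))]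
  have a5 : φ qN uT = sT := by
    rcases hT3 (φ qN uT) with h | h | h
    · exact absurd ((φ qN).injective (h.trans a1.symm)) (Ne.symm n2)
    · exact h
    · exact absurd ((φ qN).injective (h.trans a2.symm)) (Ne.symm n3)
  have a6 : φ rN uT = zT := by
    rcases hT3 (φ rN uT) with h | h | h
    · exact h
    · exact absurd ((φ rN).injective (h.trans a4.symm)) (Ne.symm n3)
    · exact absurd ((φ rN).injective (h.trans a3.symm)) (Ne.symm n2)
  have hsix := le_of_six hqq hrr hbraid hgen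
  have hψq : ψ qb = φ qN := rfl
  have hψr : ψ rb = φ rN := rfl
  have hinj : Function.Injective ψ := by
    refine (injective_iff_map_eq_one ψ).mpr fun x hx => ?_
    have hx1 := DFunLike.congr_fun hx zT
    have hx2 := DFunLike.congr_fun hx sT
    rcases hsix x with rfl | rfl | rfl | rfl | rfl | rfl <;>
      simp [map_mul, hψq, hψr, a1, a2, a3, a4, a5, a6, n1, n1.symm, n2, n2.symm, n3, n3.symm] at hx1 hx2 ⊢
  have hc3 : Nat.card T = 3 := by
    have : Nat.card T = Set.ncard ({z, s, s * z} : Set G) := by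
      rw [← Nat.card_coe_set_eq]; rfl
    rw [this, Set.ncard_insert_of_notMem (by
      simp only [Set.mem_insert_iff, Set.mem_singleton_iff, not_or]
      exact ⟨fun h => n1 (Subtype.ext h), fun h => n2 (Subtype.ext h)⟩), Set.ncard_pair (fun h => n3 (Subtype.ext h))]
  have hperm : ∀ π : Equiv.Perm T, ∃ x, ψ x = π := by
    have h6 : Nat.card (Equiv.Perm T) = 6 := by rw [Nat.card_perm, hc3]; rfl
    have hge : 6 ≤ Nat.card (X ⧸ R.subgroupOf X) := by
      have := Nat.card_le_card_of_injective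
        (fun i : Fin 6 => (![1, qb, rb, qb * rb, rb * qb, qb * rb * qb] : Fin 6 → X ⧸ R.subgroupOf X) i) ?_
      · simpa using this
      · intro i j hij
        have h1 := DFunLike.congr_fun (congrArg ψ hij) zT
        have h2 := DFunLike.congr_fun (congrArg ψ hij) sT
        fin_cases i <;> fin_cases j <;>
          simp [map_mul, hψq, hψr, a1, a2, a3, a4, a5, a6, n1, n1.symm, n2, n2.symm, n3, n3.symm] at h1 h2 ⊢
    intro π
    have hbij : Function.Bijective ψ :=
      (Nat.bijective_iff_injective_and_card ψ).mpr ⟨hinj, le_antisymm (Nat.card_le_card_of_injective ψ hinj) (h6.trans_le hge)⟩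
    exact hbij.2 π
  have hker' : ∀ x ∈ X, x ∈ CV → x ∈ R := fun x hx hxc => by
    have : (QuotientGroup.mk ⟨x, hx⟩ : X ⧸ R.subgroupOf X) = 1 := hinj (by
      rw [map_one]; exact (hker ⟨x, hXN hx⟩).mpr hxc)
    exact (QuotientGroup.eq_one_iff (⟨x, hx⟩ : X)).mp this
  have eqR : R = X ⊓ CV := le_antisymm (le_inf hRX hRCV) fun x hx => hker' x hx.1 hx.2
  have hXn : ∀ c ∈ CV, ∀ x ∈ X, c * x * c⁻¹ ∈ X := by
    intro c hc x hx
    have hc' := hmemCV c hc
    have hle : X ≤ X.comap (MulAut.conj c).toMonoidHom := by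
      rw [hX]
      exact sup_le (fun p hp => Subgroup.mem_sup_left (D.norm c hc'.1 p hp))
        (fun p hp => Subgroup.mem_sup_right (C.dP.norm c hc'.2 p hp))
    exact hle hx
  have hNX : ∀ y ∈ N, ∃ x ∈ X, x⁻¹ * y ∈ CV := by
    intro y hy
    obtain ⟨xb, hxb⟩ := hperm (φ ⟨y, hy⟩)
    obtain ⟨⟨x, hx⟩, rfl⟩ := QuotientGroup.mk_surjective xb
    refine ⟨x, hx, (hker ((⟨x, hXN hx⟩ : N)⁻¹ * ⟨y, hy⟩)).mp ?_⟩
    rw [map_mul, map_inv, inv_mul_eq_one]
    exact hxb
  have hCN : CV ≤ N := Subgroup.centralizer_le_normalizer (V : Set G)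
  have hCz : Subgroup.centralizer ({z} : Set G) ⊓ CV = CV :=
    inf_eq_right.mpr fun c hc => Subgroup.mem_centralizer_singleton_iff.mpr (hmemCV c hc).1
  rw [hCz]
  refine ⟨eqR, ?_, ⟨hRnor, ?_⟩, ?_, ?_, hRCV, ?_, eqR.symm⟩
  · have hpQ := LargeExtraspecial.isPGroup_of_extraspecial hQe
    have hRp : IsPGroup 2 R := by
      rw [hR']
      refine IsPGroup.to_sup_of_normal_right' ((hpQ.map _).to_le inf_le_left) (hpQ.to_le inf_le_left) ?_
      intro b hb
      rw [Subgroup.mem_normalizer_iff]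
      have hb' := LargeExtraspecial.Cfg.mem_A.mp hb
      have hbs : b * s = s * b := C.dP.z_central b hb'.1
      intro a
      refine ⟨fun h => C.norm_A hb'.2 hbs h, fun h => ?_⟩
      have := C.norm_A (c := b⁻¹) (Commute.inv_left hb'.2).eq (Commute.inv_left hbs).eq h
      simpa [mul_assoc] using this
    apply le_antisymm
    · intro x hx
      exact ⟨⟨x, hRX hx⟩, le_sSup (a := R.subgroupOf X) (s := {N : Subgroup X | N.Normal ∧ IsPGroup 2 N}) ⟨hRnor, hRp.comap_subtype⟩ hx, rfl⟩
    · rintro _ ⟨x, hx, rfl⟩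
      have hp : IsPGroup 2 ((Cfsg.pCore 2 X).map (QuotientGroup.mk' (R.subgroupOf X))) :=
        (LargeExtraspecial.isPGroup_pCore 2).map _
      have hxb : ψ (QuotientGroup.mk x) = 1 := by
        set S := ((Cfsg.pCore 2 X).map (QuotientGroup.mk' (R.subgroupOf X))).map ψ with hS
        have hSp : IsPGroup 2 S := hp.map ψ
        have hSn : ∀ t ∈ S, ∀ π : Equiv.Perm T, π * t * π⁻¹ ∈ S := by
          rintro _ ⟨_, ⟨y, hy, rfl⟩, rfl⟩ π
          obtain ⟨u, rfl⟩ := hperm π
          obtain ⟨u, rfl⟩ := QuotientGroup.mk_surjective u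
          exact ⟨_, ⟨u * y * u⁻¹, LargeExtraspecial.pCore_conj_mem 2 hy u, rfl⟩, by simp⟩
        set t := ψ (QuotientGroup.mk x)
        have ht : t ∈ S := ⟨_, ⟨x, hx, rfl⟩, rfl⟩
        have h6 : Nat.card (Equiv.Perm T) = 6 := by rw [Nat.card_perm, hc3]; rfl
        obtain ⟨k, hk⟩ := IsPGroup.iff_card.mp hSp
        have hdvd : Nat.card S ∣ 6 := h6 ▸ Subgroup.card_subgroup_dvd_card S
        have hle : Nat.card S ≤ 2 := by
          rw [hk] at hdvd ⊢
          rcases k with - | - | k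
          · norm_num
          · norm_num
          · exfalso
            have : (4 : ℕ) ∣ 6 := (Dvd.intro (2 ^ k) (by ring)).trans hdvd
            norm_num at this
        by_contra ht1
        -- a central element of the symmetric group of degree 3 is trivial
        have hcen : ∀ π : Equiv.Perm T, π * t * π⁻¹ = t := by
          intro π
          by_contra hne
          have h3 : 3 ≤ Nat.card S := by
            have := Nat.card_le_card_of_injective
              (fun i : Fin 3 => (![1, ⟨t, ht⟩, ⟨_, hSn t ht π⟩] : Fin 3 → S) i) ?_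
            · simpa using this
            · intro i j hij
              have hij' := congrArg Subtype.val hij
              have hne1 : π * t * π⁻¹ ≠ 1 := fun h => ht1 (conj_eq_one_iff.mp h)
              fin_cases i <;> fin_cases j <;> first
                | rfl
                | exact absurd hij' ht1 | exact absurd hij'.symm ht1
                | exact absurd hij' hne1 | exact absurd hij'.symm hne1
                | exact absurd hij' hne | exact absurd hij'.symm hne
          omega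
        apply ht1
        have c1 : ∀ x, φ qN (t x) = t (φ qN x) := fun x => by
          have := DFunLike.congr_fun (hcen (φ qN)) (φ qN x)
          simpa using this
        have c2 : ∀ x, φ rN (t x) = t (φ rN x) := fun x => by
          have := DFunLike.congr_fun (hcen (φ rN)) (φ rN x)
          simpa using this
        have tz : t zT = zT := by
          have h := c1 zT
          rw [a1] at h
          rcases hT3 (t zT) with e | e | e <;> rw [e] at h ⊢
          · exact absurd (a2.symm.trans h) n3.symm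
          · exact absurd (a5.symm.trans h) n3
        have ts : t sT = sT := by
          have h := c2 sT
          rw [a4] at h
          rcases hT3 (t sT) with e | e | e <;> rw [e] at h ⊢
          · exact absurd (a3.symm.trans h) n2.symm
          · exact absurd (a6.symm.trans h) n2
        ext w
        rcases hT3 w with e | e | e <;> rw [e]
        · rw [tz]; rfl
        · rw [ts]; rfl
        · rcases hT3 (t uT) with e | e | e
          · exact absurd (t.injective (e.trans tz.symm)) n2.symm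
          · exact absurd (t.injective (e.trans ts.symm)) n3.symm
          · rw [e]; rfl
      have := hinj (hxb.trans (map_one ψ).symm)
      exact (QuotientGroup.eq_one_iff (x : X)).mp this
  · have e : T ≃ Fin 3 := Nat.equivFinOfCardPos (by rw [hc3]; norm_num) |>.trans (finCongr hc3)
    exact ⟨(MulEquiv.ofBijective ψ ⟨hinj, hperm⟩).trans (Equiv.permCongrHom e)⟩
  · refine le_antisymm (fun y hy => ?_) (sup_le hXN hCN)
    obtain ⟨x, hx, hxy⟩ := hNX y hy
    have := Subgroup.mul_mem_sup hx hxy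
    rwa [mul_inv_cancel_left] at this
  · intro y hy x hx
    obtain ⟨u, hu, huy⟩ := hNX y hy
    have := mul_mem (mul_mem hu (hXn _ huy x hx)) (inv_mem hu)
    simpa [mul_assoc] using this
  · intro x hx c hc
    apply hker'
    · have := mul_mem hx (hXn c hc x⁻¹ (inv_mem hx))
      simpa [mul_assoc] using this
    · have hxN := hXN hx
      refine mul_mem ?_ (inv_mem hc)
      have h := (hker (⟨x, hxN⟩ * ⟨c, hCN hc⟩ * ⟨x, hxN⟩⁻¹)).mp (by
        rw [map_mul, map_mul, (hker ⟨c, hCN hc⟩).mpr hc, map_inv]; simp)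
      exact h

end Cfsg.Agent.S5430
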