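import Cfsg.Statements.S5431
import Cfsg.Agent.Lib.LargeExtraspecial.FourGroup

set_option autoImplicit false
open Cfsg
open scoped commutatorElement

namespace Cfsg.Agent.S5431

/-- Let Q be a large extraspecial 2-subgroup of the finite group G (extraspecial; centralizer equal to its centre; normal in the centralizer of its centre; normalizing no non-trivial subgroup of odd order) with centre generated by z, an involution, of width w ≥ 2 (order 2^(2w+1)); let g be an element outside the centralizer H of z with g z g⁻¹ in Q; write V for the subgroup generated by z and g z g⁻¹, X for the subgroup generated by Q and g Q g⁻¹, R for the subgroup generated by the centralizer of z in g Q g⁻¹ and the centralizer of g z g⁻¹ in Q, and E for the intersection of Q and g Q g⁻¹. Then V is the centre of R, E lies in the second centre of R, R is nilpotent of class at most 3, E and R/E are elementary abelian, R/E is the direct product of the images of the centralizer of g z g⁻¹ in Q and of the centralizer of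 z in g Q g⁻¹ (R is their product and they meet in E), and the commutator subgroup of X and E lies in V. -/
theorem result {G : Type*} [Group G] [Finite G] (Q : Subgroup G) (hQ : Cfsg.IsLargeExtraspecial Q) (z : G) (hz : ((Subgroup.center ↥Q).map Q.subtype) = Subgroup.zpowers z) (hz2 : orderOf z = 2) (w : ℕ) (hw : 2 ≤ w) (hcard : Nat.card ↥Q = 2 ^ (2 * w + 1)) (g : G) (hgH : g ∉ Subgroup.centralizer ({z} : Set G)) (hgQ : g * z * g⁻¹ ∈ Q) (V X R E : Subgroup G) (hV : V = Subgroup.closure ({z, g * z * g⁻¹} : Set G)) (hX : X = Q ⊔ (Q).map (MulAut.conj g).toMonoidHom) (hR : R = ((Q).map (MulAut.conj g).toMonoidHom ⊓ Subgroup.centralizer ({z} : Set G)) ⊔ (Q ⊓ Subgroup.centralizer ({g * z * g⁻¹} : Set G))) (hE : E = Q ⊓ (Q).map (MulAut.conj g).toMonoidHom) : (Subgroup.center ↥R).map R.subtype = V ∧ E ≤ (Subgroup.upperCentralSeries ↥R 2).map R.subtype ∧ Subgroup.upperCentralSeries ↥R 3 = ⊤ ∧ Cfsg.IsElementaryAbelian 2 E ∧ (∀ x ∈ R, ∀ y ∈ R, x * y * x⁻¹ * y⁻¹ ∈ E ∧ x ^ 2 ∈ E) ∧ ((Q).map (MulAut.conj g).toMonoidHom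 ⊓ Subgroup.centralizer ({z} : Set G)) ⊓ (Q ⊓ Subgroup.centralizer ({g * z * g⁻¹} : Set G)) = E ∧ ⁅X, E⁆ ≤ V := by
  obtain ⟨hQe, hL2, hL3, -⟩ := hQ
  have D := LargeExtraspecial.Data.of_extraspecial hQe hL2 hL3 hz hz2
  have hsz : g * z * g⁻¹ ≠ z := fun h => hgH (Subgroup.mem_centralizer_singleton_iff.mpr
    (mul_inv_eq_iff_eq_mul.mp h))
  have h32 : 32 ≤ Nat.card Q := by
    rw [hcard]
    calc 32 = 2 ^ 5 := by norm_num
      _ ≤ _ := Nat.pow_le_pow_right (by norm_num) (by omega)
  have C := LargeExtraspecial.Cfg.of_conj D hgQ hsz h32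
  set s := g * z * g⁻¹
  set P := LargeExtraspecial.conjS g Q with hP
  have hR' : R = LargeExtraspecial.Cfg.A P z ⊔ LargeExtraspecial.Cfg.A Q s := hR
  have hE' : E = Q ⊓ P := hE
  subst hV hR' hE' hX
  have hcen : ∀ x : ↥(LargeExtraspecial.Cfg.A P z ⊔ LargeExtraspecial.Cfg.A Q s),
      x ∈ Subgroup.center _ ↔ (x : G) ∈ Subgroup.closure ({z, s} : Set G) := by
    intro x
    rw [Subgroup.mem_center_iff]
    constructor
    · intro h
      refine C.cent_AB (C.R_centralizes x.2).1 fun a ha => ?_
      exact (congrArg Subtype.val (h ⟨a, Subgroup.mem_sup_right ha⟩)).symm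
    · intro h y
      apply Subtype.ext
      show (y : G) * x = x * y
      have hy := C.R_centralizes y.2
      rcases C.mem_V.mp h with e | e | e | e <;> rw [e]
      · simp
      · exact hy.1
      · exact hy.2
      · exact (Commute.mul_right hy.2 hy.1).eq
  have hE2 : ∀ x : ↥(LargeExtraspecial.Cfg.A P z ⊔ LargeExtraspecial.Cfg.A Q s),
      (x : G) ∈ Q ⊓ P → x ∈ Subgroup.upperCentralSeries _ 2 := by
    intro x hx
    rw [Subgroup.mem_upperCentralSeries_succ_iff]
    intro y
    rw [Subgroup.upperCentralSeries_one, hcen]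
    have hm : ∀ u ∈ LargeExtraspecial.Cfg.A P z ⊔ LargeExtraspecial.Cfg.A Q s, u ∈ Q ⊔ P :=
      fun u hu => (sup_le (le_trans inf_le_left le_sup_right) (le_trans inf_le_left le_sup_left) :
        LargeExtraspecial.Cfg.A P z ⊔ LargeExtraspecial.Cfg.A Q s ≤ Q ⊔ P) hu
    have h := C.comm_X_E (Subgroup.commutator_mem_commutator (hm y y.2) hx)
    have := inv_mem h
    rw [commutatorElement_inv] at this
    simpa [commutatorElement_def, mul_assoc] using this
  refine ⟨?_, ?_, ?_, C.E_elementary, fun x hx y hy => C.R_comm_mem hx hy, C.E_eq, C.comm_X_E⟩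
  · ext v
    constructor
    · rintro ⟨x, hx, rfl⟩; exact (hcen x).mp hx
    · intro hv; exact ⟨⟨v, C.V_le_R hv⟩, (hcen _).mpr hv, rfl⟩
  · intro e he
    exact ⟨⟨e, Subgroup.mem_sup_right (C.E_le_A he)⟩, hE2 _ he, rfl⟩
  · rw [eq_top_iff]
    intro x _
    rw [Subgroup.mem_upperCentralSeries_succ_iff]
    exact fun y => hE2 _ (C.R_comm_mem x.2 y.2).1

end Cfsg.Agent.S5431
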