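import Cfsg.Statements.S5435
import Cfsg.Agent.Lib.TwoTransfer.CenterInvolution
import Cfsg.Agent.Lib.Transfer.Focal
import Cfsg.Agent.Lib.PGroup.Basic
import Cfsg.Agent.Lib.PGroup.CyclicMaximal
-- import your own Cfsg.Agent.* helpers here

set_option autoImplicit false
open Cfsg
open scoped commutatorElement

namespace Cfsg.Agent.S5435

/-- Let L be a finite non-abelian simple group with an involution z whose centralizer R is a Sylow 2-subgroup of L whose Frattini subgroup is the subgroup generated by z. Then R is dihedral of order 8. -/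
theorem result {L : Type*} [Group L] [Finite L] [IsSimpleGroup L] (hL : ¬ IsMulCommutative L) (z : L) (hz : orderOf z = 2) (R : Sylow 2 L) (hR : (R : Subgroup L) = Subgroup.centralizer ({z} : Set L)) (hΦ : (frattini ↥(R : Subgroup L)).map (R : Subgroup L).subtype = Subgroup.zpowers z) : Nonempty (↥(R : Subgroup L) ≃* DihedralGroup 4) := by
  haveI : Fact (Nat.Prime 2) := ⟨Nat.prime_two⟩
  have hRp : IsPGroup 2 (R : Subgroup L) := R.isPGroup'
  have hzz : z * z = 1 := by rw [← pow_two, ← hz, pow_orderOf_eq_one]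
  have hz1 : z ≠ 1 := fun h => by simp [h] at hz
  have hR' : ∀ x, x ∈ (R : Subgroup L) ↔ x * z = z * x := fun x => by
    rw [hR, Subgroup.mem_centralizer_singleton_iff]
  have hzR : z ∈ (R : Subgroup L) := (hR' z).mpr rfl
  have htwo : ∀ x, x ∈ Subgroup.zpowers z → x = 1 ∨ x = z := by
    intro x hx
    obtain ⟨n, rfl⟩ := Subgroup.mem_zpowers_iff.mp hx
    rcases Int.even_or_odd n with ⟨m, rfl⟩ | ⟨m, rfl⟩
    · left; rw [← two_mul, zpow_mul, zpow_ofNat, pow_two, hzz, one_zpow]
    · right; rw [zpow_add, zpow_mul, zpow_ofNat, pow_two, hzz, one_zpow, one_mul, zpow_one]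
  have hΦ' : ∀ x : (R : Subgroup L), x ∈ frattini (R : Subgroup L) → (x : L) = 1 ∨ (x : L) = z :=
    fun x hx => htwo _ (hΦ ▸ ⟨x, hx, rfl⟩)
  have hzΦ : (⟨z, hzR⟩ : (R : Subgroup L)) ∈ frattini (R : Subgroup L) := by
    obtain ⟨x, hx, hxz⟩ : z ∈ (frattini (R : Subgroup L)).map (R : Subgroup L).subtype :=
      hΦ ▸ Subgroup.mem_zpowers z
    rwa [show (⟨z, hzR⟩ : (R : Subgroup L)) = x from Subtype.ext hxz.symm]
  have hsq : ∀ x ∈ (R : Subgroup L), x * x = 1 ∨ x * x = z := fun x hx => by
    have h := hΦ' (⟨x, hx⟩ ^ 2) (PGroup.pow_mem_frattini hRp _)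
    simpa [pow_two] using h
  have hcom : ∀ x ∈ (R : Subgroup L), ∀ y ∈ (R : Subgroup L), ⁅x, y⁆ = 1 ∨ ⁅x, y⁆ = z := fun x hx y hy => by
    have h := hΦ' ⁅(⟨x, hx⟩ : (R : Subgroup L)), ⟨y, hy⟩⁆ (PGroup.commutatorElement_mem_frattini hRp _ _)
    have e : ((⁅(⟨x, hx⟩ : (R : Subgroup L)), (⟨y, hy⟩ : (R : Subgroup L))⁆ : (R : Subgroup L)) : L) = ⁅x, y⁆ :=
      map_commutatorElement (R : Subgroup L).subtype _ _
    rwa [e] at h
  have hN : ∀ n ∈ Subgroup.normalizer ((R : Subgroup L) : Set L), n * z * n⁻¹ = z := by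
    intro n hn
    have hnz : n * z * n⁻¹ ∈ (R : Subgroup L) := (Subgroup.mem_normalizer_iff.mp hn z).mp hzR
    let e : (R : Subgroup L) ≃* (R : Subgroup L) :=
      { toFun := fun x => ⟨n * x * n⁻¹, (Subgroup.mem_normalizer_iff.mp hn x).mp x.2⟩
        invFun := fun x => ⟨n⁻¹ * x * n, (Subgroup.mem_normalizer_iff''.mp hn x).mp x.2⟩
        left_inv := fun x => Subtype.ext (by simp [mul_assoc])
        right_inv := fun x => Subtype.ext (by simp [mul_assoc])
        map_mul' := fun x y => Subtype.ext (by simp [mul_assoc]) }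
    have h := frattini_le_comap_frattini_of_surjective (φ := e.toMonoidHom) e.surjective hzΦ
    rcases hΦ' _ (Subgroup.mem_comap.mp h) with h' | h'
    · exact absurd (conj_eq_one_iff.mp h') hz1
    · exact h'
  have hperf : commutator L = ⊤ := by
    rcases (inferInstance : (commutator L).Normal).eq_bot_or_eq_top with h | h
    · refine absurd ⟨⟨fun a b => ?_⟩⟩ hL
      exact commutatorElement_eq_one_iff_mul_comm.mp (Subgroup.mem_bot.mp (h ▸ (by
        rw [commutator_def]; exact Subgroup.commutator_mem_commutator (Subgroup.mem_top a) (Subgroup.mem_top b))))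
    · exact h
  have hres : Cfsg.pResidual 2 L = ⊤ := (Transfer.pResidual_eq_top_iff R).mpr (hperf ▸ le_top)
  -- involutions of the centre
  have hZ : ∀ x ∈ (R : Subgroup L), (∀ y ∈ (R : Subgroup L), y * x = x * y) → x * x = 1 → x = 1 ∨ x = z := by
    intro x hx hxc hxx
    by_contra hne
    refine TwoTransfer.pResidual_ne_top R ⟨x, hx⟩ (Subtype.ext (by simpa [pow_two] using hxx))
      (Subgroup.mem_center_iff.mpr fun y => Subtype.ext (hxc y y.2)) (fun h => hne (hΦ' _ h)) ?_ hres
    intro n hn
    have hnR : n ∈ (R : Subgroup L) := (hR' n).mpr (mul_inv_eq_iff_eq_mul.mp (hN n hn))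
    show n * x * n⁻¹ = x
    rw [hxc n hnR, mul_inv_cancel_right]
  -- `z` is not isolated
  obtain ⟨g, hgR, hgz⟩ : ∃ g : L, g * z * g⁻¹ ∈ (R : Subgroup L) ∧ g * z * g⁻¹ ≠ z := by
    by_contra! hiso
    have hW : Cfsg.IsWeaklyClosed (Subgroup.zpowers z) (R : Subgroup L) := by
      refine ⟨Subgroup.zpowers_le.mpr hzR, fun c hc => ?_⟩
      rw [MonoidHom.map_zpowers]
      have h := hiso c (hc ⟨z, Subgroup.mem_zpowers z, rfl⟩)
      rw [show (MulAut.conj c).toMonoidHom z = z from h]
    have hctrl := Transfer.weaklyClosed_central_control R (Z := Subgroup.zpowers z)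
      (Subgroup.zpowers_le.mpr (Subgroup.mem_centralizer_iff.mpr fun y hy => (hR' y).mp hy)) hW
    have h2 := Transfer.commutator_inf_eq_of_self_control R (fun x hx c hc => by
      obtain ⟨m, hm, he⟩ := hctrl x hx c hc
      refine ⟨m, (hR' m).mpr ?_, he⟩
      rcases htwo _ ((Subgroup.mem_normalizer_iff.mp hm z).mp (Subgroup.mem_zpowers z)) with h | h
      · exact absurd (conj_eq_one_iff.mp h) hz1
      · exact mul_inv_eq_iff_eq_mul.mp h)
    rw [hperf, top_inf_eq] at h2
    have h3 : (R : Subgroup L) ≤ Subgroup.zpowers z := by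
      rw [h2, Subgroup.commutator_le]
      intro x hx y hy
      rcases hcom x hx y hy with h | h <;> rw [h]
      exacts [one_mem _, Subgroup.mem_zpowers z]
    have hcl : ∀ x y : (R : Subgroup L), x * y = y * x := fun x y => Subtype.ext (by
      rcases htwo _ (h3 x.2) with h | h <;> rcases htwo _ (h3 y.2) with h' | h' <;> simp [h, h'])
    obtain ⟨M, hM, hzM⟩ := PGroup.exists_isCoatom_not_mem (p := 2) hcl (fun x => Subtype.ext (by
      rcases htwo _ (h3 x.2) with h | h <;> simp [pow_two, h, hzz]))
      (x := (⟨z, hzR⟩ : (R : Subgroup L))) (fun h => hz1 (congrArg Subtype.val h))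
    exact hzM (frattini_le_coatom hM hzΦ)
  set b := g * z * g⁻¹ with hb
  have hbb : b * b = 1 := by
    rw [hb, show g * z * g⁻¹ * (g * z * g⁻¹) = g * (z * z) * g⁻¹ by group, hzz]; group
  have hb1 : b ≠ 1 := fun h => hz1 (conj_eq_one_iff.mp h)
  obtain ⟨x, hx, hxb⟩ : ∃ x ∈ (R : Subgroup L), ⁅x, b⁆ = z := by
    by_contra! hno
    rcases hZ b hgR (fun y hy => commutatorElement_eq_one_iff_mul_comm.mp
      ((hcom y hy b hgR).resolve_right (hno y hy))) hbb with h | h
    exacts [hb1 h, hgz h]
  have hzc : ∀ y ∈ (R : Subgroup L), Commute y z := fun y hy => (hR' y).mp hy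
  have hA : ∀ a ∈ (R : Subgroup L), a * b = b * a → a * a = 1 := by
    intro a ha hab
    rcases hsq a ha with h | h
    · exact h
    · exfalso
      have hga : g⁻¹ * a * g ∈ (R : Subgroup L) := (hR' _).mpr (by
        calc g⁻¹ * a * g * z = g⁻¹ * (a * b) * g := by rw [hb]; group
          _ = g⁻¹ * (b * a) * g := by rw [hab]
          _ = z * (g⁻¹ * a * g) := by rw [hb]; group)
      rcases hsq _ hga with h' | h'
      · apply hz1
        calc z = a * a := h.symm
          _ = g * (g⁻¹ * a * g * (g⁻¹ * a * g)) * g⁻¹ := by group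
          _ = 1 := by rw [h']; group
      · apply hgz
        calc g * z * g⁻¹ = g * (g⁻¹ * a * g * (g⁻¹ * a * g)) * g⁻¹ := by rw [h']
          _ = a * a := by group
          _ = z := h
  have hxb' : x * b = z * b * x := by
    rw [← hxb, commutatorElement_def]; group
  -- every element commuting with `b` lies in `<z, b>`
  have hA4 : ∀ a ∈ (R : Subgroup L), a * b = b * a → a = 1 ∨ a = z ∨ a = b ∨ a = z * b := by
    intro a ha hab
    have hcen : ∀ c ∈ (R : Subgroup L), c * b = b * c → c * x = x * c → c = 1 ∨ c = z := by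
      intro c hc hcb hcx
      refine hZ c hc (fun y hy => ?_) (hA c hc hcb)
      have key : ∀ u ∈ (R : Subgroup L), u * b = b * u → u * c = c * u := by
        intro u hu hub
        have huc := hA (u * c) (mul_mem hu hc) (Commute.mul_left hub hcb)
        rw [← inv_eq_of_mul_eq_one_right huc, mul_inv_rev, inv_eq_of_mul_eq_one_right (hA c hc hcb),
          inv_eq_of_mul_eq_one_right (hA u hu hub)]
      rcases hcom y hy b hgR with h | h
      · exact key y hy (commutatorElement_eq_one_iff_mul_comm.mp h)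
      · have hyb : y * b = z * b * y := by rw [← h, commutatorElement_def]; group
        have hu : x⁻¹ * y * b = b * (x⁻¹ * y) := by
          calc x⁻¹ * y * b = x⁻¹ * (y * b) := by group
            _ = x⁻¹ * (z * b * x) * (x⁻¹ * y) := by rw [hyb]; group
            _ = x⁻¹ * (x * b) * (x⁻¹ * y) := by rw [hxb']
            _ = b * (x⁻¹ * y) := by group
        have h5 := key _ (mul_mem (inv_mem hx) hy) hu
        calc y * c = x * (x⁻¹ * y * c) := by group
          _ = (x * c) * (x⁻¹ * y) := by rw [h5]; group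
          _ = (c * x) * (x⁻¹ * y) := by rw [hcx]
          _ = c * y := by group
    rcases hcom x hx a ha with h | h
    · rcases hcen a ha hab (commutatorElement_eq_one_iff_mul_comm.mp h).symm with h' | h'
      exacts [Or.inl h', Or.inr (Or.inl h')]
    · have hxa : x * a = z * a * x := by rw [← h, commutatorElement_def]; group
      rcases hcen (a * b) (mul_mem ha hgR) (Commute.mul_left hab rfl) (by
        calc a * b * x = (z * z) * (a * b) * x := by rw [hzz, one_mul]
          _ = z * (z * a) * (b * x) := by group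
          _ = z * (a * z) * (b * x) := by rw [(hzc a ha).eq]
          _ = (z * a) * (z * b * x) := by group
          _ = (z * a) * (x * b) := by rw [hxb']
          _ = (z * a * x) * b := by group
          _ = x * (a * b) := by rw [← hxa]; group) with h' | h'
      · exact Or.inr (Or.inr (Or.inl (by
          rw [eq_inv_of_mul_eq_one_left h', inv_eq_of_mul_eq_one_right hbb])))
      · exact Or.inr (Or.inr (Or.inr (by rw [← h', mul_assoc, hbb, mul_one])))
  -- a rotation of order 4
  obtain ⟨r, hr, hrb, hr2⟩ : ∃ r ∈ (R : Subgroup L), r * b = z * b * r ∧ r * r = z := by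
    rcases hsq x hx with h | h
    · refine ⟨x * b, mul_mem hx hgR, ?_, ?_⟩
      · calc x * b * b = (z * b * x) * b := by rw [hxb']
          _ = z * b * (x * b) := mul_assoc _ _ _
      · calc x * b * (x * b) = (z * b * x) * (x * b) := by rw [hxb']
          _ = z * b * (x * x) * b := by group
          _ = z * (b * b) := by rw [h]; group
          _ = z := by rw [hbb, mul_one]
    · exact ⟨x, hx, hxb', h⟩
  have hord : orderOf (⟨r, hr⟩ : (R : Subgroup L)) = 4 := by
    rw [Subgroup.orderOf_mk, show (4 : ℕ) = 2 ^ (1 + 1) from rfl]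
    exact orderOf_eq_prime_pow (by simp [pow_two, hr2, hz1])
      (by rw [show 2 ^ (1 + 1) = 2 + 2 from rfl, pow_add, pow_two, hr2, hzz])
  have hrpow : ∀ a ∈ Subgroup.zpowers r, a = 1 ∨ a = r ∨ a = z ∨ a = r * z := by
    intro a ha
    obtain ⟨n, rfl⟩ := Subgroup.mem_zpowers_iff.mp ha
    rcases Int.even_or_odd n with ⟨m, rfl⟩ | ⟨m, rfl⟩
    · rw [← two_mul, zpow_mul, zpow_ofNat, pow_two, hr2]
      rcases htwo _ (zpow_mem (Subgroup.mem_zpowers z) m) with h | h <;> rw [h] <;> simp
    · rw [add_comm, zpow_add, zpow_one, zpow_mul, zpow_ofNat, pow_two, hr2]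
      rcases htwo _ (zpow_mem (Subgroup.mem_zpowers z) m) with h | h <;> rw [h] <;> simp
  have hbr : (⟨b, hgR⟩ : (R : Subgroup L)) ∉ Subgroup.zpowers (⟨r, hr⟩ : (R : Subgroup L)) := by
    intro h
    have h' : b ∈ (Subgroup.zpowers (⟨r, hr⟩ : (R : Subgroup L))).map (R : Subgroup L).subtype := ⟨_, h, rfl⟩
    rw [MonoidHom.map_zpowers] at h'
    rcases hrpow b h' with e | e | e | e
    · exact hb1 e
    · exact hz1 (by rw [← hr2, ← e, hbb])
    · exact hgz e
    · refine hz1 ?_
      calc z = r * r * (z * z) := by rw [hr2, hzz, mul_one]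
        _ = r * (r * z) * z := by group
        _ = r * (z * r) * z := by rw [(hzc r hr).eq]
        _ = (r * z) * (r * z) := by group
        _ = 1 := by rw [← e, hbb]
  have hcard : Nat.card (R : Subgroup L) = 2 * 4 := by
    classical
    haveI : Fintype (R : Subgroup L) := Fintype.ofFinite _
    refine le_antisymm ?_ ?_
    · let e1 : (R : Subgroup L) := 1
      let zR : (R : Subgroup L) := ⟨z, hzR⟩
      let bR : (R : Subgroup L) := ⟨b, hgR⟩
      let rR : (R : Subgroup L) := ⟨r, hr⟩
      have hall : (Finset.univ : Finset (R : Subgroup L)) ⊆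
          [e1, zR, bR, zR * bR, rR, rR * zR, rR * bR, rR * (zR * bR)].toFinset := by
        rintro ⟨y, hy⟩ -
        simp only [List.mem_toFinset, List.mem_cons, List.not_mem_nil, or_false, Subtype.ext_iff, e1, zR, bR, rR,
          Subgroup.coe_mul, OneMemClass.coe_one]
        rcases hcom y hy b hgR with h | h
        · have := hA4 y hy (commutatorElement_eq_one_iff_mul_comm.mp h)
          tauto
        · have hyb : y * b = z * b * y := by rw [← h, commutatorElement_def]; group
          have hu : r⁻¹ * y * b = b * (r⁻¹ * y) := by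
            calc r⁻¹ * y * b = r⁻¹ * (y * b) := by group
              _ = r⁻¹ * (z * b * r) * (r⁻¹ * y) := by rw [hyb]; group
              _ = r⁻¹ * (r * b) * (r⁻¹ * y) := by rw [hrb]
              _ = b * (r⁻¹ * y) := by group
          have hy' : y = r * (r⁻¹ * y) := by group
          rcases hA4 _ (mul_mem (inv_mem hr) hy) hu with e | e | e | e <;> rw [e] at hy' <;>
            simp [hy']
      rw [Nat.card_eq_fintype_card]
      refine le_trans (Finset.card_le_card hall) ?_
      exact List.toFinset_card_le _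
    · have hlt : Nat.card (Subgroup.zpowers (⟨r, hr⟩ : (R : Subgroup L))) < Nat.card (R : Subgroup L) := by
        exact Finite.card_subtype_lt hbr
      have hdvd := Subgroup.card_subgroup_dvd_card (Subgroup.zpowers (⟨r, hr⟩ : (R : Subgroup L)))
      rw [Nat.card_zpowers, hord] at hlt hdvd
      omega
  obtain ⟨e⟩ := PGroup.dihedralEquivOfGen hord (Subtype.ext (by simpa [pow_two] using hbb)) (b := ⟨b, hgR⟩)
    (Subtype.ext (show b * r * b⁻¹ = r⁻¹ by
      have h1 : z * r = r * z := ((hzc r hr).symm).eq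
      have h2 : r⁻¹ = r * z := inv_eq_of_mul_eq_one_right (by rw [← mul_assoc, hr2, hzz])
      rw [h2, inv_eq_of_mul_eq_one_right hbb, ← h1]
      calc b * r * b = b * (r * b) := by group
        _ = b * (z * b * r) := by rw [hrb]
        _ = (b * z) * b * r := by group
        _ = (z * b) * b * r := by rw [(hzc b hgR).eq]
        _ = z * r := by rw [mul_assoc z b b, hbb, mul_one])) hbr hcard
  exact ⟨e.symm⟩

end Cfsg.Agent.S5435
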