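import Cfsg.Statements.S5436
import Cfsg.Agent.Lib.LargeExtraspecial.Simple
-- import your own Cfsg.Agent.* helpers here

set_option autoImplicit false
open Cfsg
open scoped commutatorElement

namespace Cfsg.Agent.S5436

/-- Let z be an involution of the finite group G with centralizer H whose generalized Fitting subgroup Q is extraspecial of width at least 2 (order 2^(2w+1), w ≥ 2); suppose some conjugate of z other than z lies in Q, H/Q is a non-abelian simple group, H acts irreducibly by conjugation on Q modulo the subgroup generated by z (the only H-invariant subgroups of Q containing z are that subgroup and Q), and Q is not the subgroup generated by the conjugates of z lying in H. Then G is simple. -/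
theorem result {G : Type*} [Group G] [Finite G] (z : G) (hz : orderOf z = 2) (Q : Subgroup (Subgroup.centralizer ({z} : Set G))) [Q.Normal] (hF : Cfsg.generalizedFittingSubgroup ↥(Subgroup.centralizer ({z} : Set G)) = Q) (hQ : Cfsg.IsExtraspecial 2 ↥Q) (w : ℕ) (hw : 2 ≤ w) (hcard : Nat.card ↥Q = 2 ^ (2 * w + 1)) (hnwc : ∃ g : G, (∃ hq : g * z * g⁻¹ ∈ Subgroup.centralizer ({z} : Set G), (⟨g * z * g⁻¹, hq⟩ : Subgroup.centralizer ({z} : Set G)) ∈ Q) ∧ g * z * g⁻¹ ≠ z) (hsimp : IsSimpleGroup (↥(Subgroup.centralizer ({z} : Set G)) ⧸ Q)) (hna : ¬ IsMulCommutative (↥(Subgroup.centralizer ({z} : Set G)) ⧸ Q)) (hirr : ∀ W : Subgroup (Subgroup.centralizer ({z} : Set G)), W.Normal → W ≤ Q → (W = Q ∨ ∀ x ∈ W, (x : G) ∈ Subgroup.zpowers z)) (hwcl : Subgroup.closure {x : Subgroup.centralizer ({z} : Set G) | IsConj z (x : G)} ≠ Q) : IsSimpleGroup G := by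
  set Q' : Subgroup G := Q.map (Subgroup.centralizer ({z} : Set G)).subtype with hQ'
  have hQe : Cfsg.IsExtraspecial 2 Q' := by
    have e : Q ≃* Q' := Q.equivMapOfInjective (Subgroup.centralizer ({z} : Set G)).subtype (Subgroup.subtype_injective _)
    exact Cfsg.Agent.LargeExtraspecial.isExtraspecial_congr e hQ
  obtain ⟨D, hzc⟩ := LargeExtraspecial.Data.of_generalizedFitting (Q := Q') hz (by rw [hF]) hQe
  obtain ⟨g, ⟨hgH, hgQ⟩, hgz⟩ := hnwc
  have hgQ' : g * z * g⁻¹ ∈ Q' := ⟨⟨_, hgH⟩, hgQ, rfl⟩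
  have hg1 : g * z * g⁻¹ ≠ 1 := by rw [ne_eq, conj_eq_one_iff]; exact D.z_ne
  have hcard' : 32 ≤ Nat.card Q' := by
    rw [hQ', Subgroup.card_subtype, hcard]
    calc 32 = 2 ^ 5 := by norm_num
      _ ≤ _ := Nat.pow_le_pow_right (by norm_num) (by omega)
  have hp := LargeExtraspecial.isPGroup_of_extraspecial hQe
  have hnab : ∃ x ∈ Q', ∃ y ∈ Q', ⁅x, y⁆ ≠ 1 := by
    obtain ⟨q, hq, hqs⟩ := D.exists_conj_eq hgQ' hg1 hgz
    refine ⟨q, hq, _, hgQ', fun h => D.z_ne ?_⟩
    rw [commutatorElement_def, hqs, D.z_central _ hgQ', mul_inv_cancel_right] at h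
    exact h
  have hL : Cfsg.IsLargeExtraspecial Q' := LargeExtraspecial.isLarge_of_involution D hp hnab hgQ' hg1 hgz
    (D.conjugate g).z_sq (S := LargeExtraspecial.conjS g Q') (hp.map _) (D.mem_conj hgQ' hgz hcard')
    (D.conjugate g).z_central (D.conjugate g).norm
  haveI : Nontrivial G := ⟨⟨z, 1, D.z_ne⟩⟩
  refine ⟨fun N hN => ?_⟩
  by_cases hN1 : N = ⊥
  · exact Or.inl hN1
  refine Or.inr (LargeExtraspecial.eq_top_of_centralizer_le hL hzc D.z_sq ?_)
  have hzN := LargeExtraspecial.mem_of_normal hL hzc D.z_sq hN1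
  set W := Subgroup.closure {x : ↥(Subgroup.centralizer ({z} : Set G)) | IsConj z (x : G)} with hW
  have hWN : W ≤ N.subgroupOf (Subgroup.centralizer ({z} : Set G)) := by
    rw [hW, Subgroup.closure_le]
    intro x hx
    obtain ⟨c, hc⟩ := isConj_iff.mp (hx : IsConj z (x : G))
    show (x : G) ∈ N
    rw [← hc]; exact hN.conj_mem z hzN c
  haveI hWn : W.Normal := by
    refine ⟨fun n hn c => ?_⟩
    have : W ≤ W.comap (MulAut.conj c).toMonoidHom := by
      rw [hW, Subgroup.closure_le]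
      intro x hx
      refine Subgroup.subset_closure ?_
      exact (hx : IsConj z (x : G)).trans (isConj_iff.mpr ⟨(c : G), rfl⟩)
    exact this hn
  have hQW : Q ≤ W := by
    have hmem : (⟨_, hgH⟩ : ↥(Subgroup.centralizer ({z} : Set G))) ∈ W := Subgroup.subset_closure (isConj_iff.mpr ⟨g, rfl⟩)
    rcases hirr (W ⊓ Q) inferInstance inf_le_right with h | h
    · exact inf_eq_right.mp h
    · rcases LargeExtraspecial.mem_zpowers_two D.z_sq (h _ ⟨hmem, hgQ⟩) with h' | h'
      exacts [absurd h' hg1, absurd h' hgz]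
  have hWtop : W = ⊤ := by
    rcases (hWn.map (QuotientGroup.mk' Q) (QuotientGroup.mk'_surjective Q)).eq_bot_or_eq_top with h | h
    · exfalso
      refine hwcl (le_antisymm ?_ hQW)
      rw [Subgroup.map_eq_bot_iff, QuotientGroup.ker_mk'] at h
      exact h
    · rw [eq_top_iff]
      intro x _
      have hx : QuotientGroup.mk' Q x ∈ W.map (QuotientGroup.mk' Q) := h ▸ Subgroup.mem_top _
      obtain ⟨w, hw, hwx⟩ := hx
      rw [QuotientGroup.mk'_eq_mk'] at hwx
      obtain ⟨q, hq, rfl⟩ := hwx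
      exact mul_mem hw (hQW hq)
  intro x hx
  exact hWN (hWtop ▸ Subgroup.mem_top (⟨x, hx⟩ : ↥(Subgroup.centralizer ({z} : Set G))))

end Cfsg.Agent.S5436
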