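import Cfsg.Statements.S5437
import Cfsg.Agent.Lib.LargeExtraspecial.Basic

set_option autoImplicit false
open Cfsg

namespace Cfsg.Agent.S5437

/-- Let I be a set of involutions of the finite group G closed under conjugation, and H a subgroup of G. The following are equivalent: (1) for every member x of I lying in H, the conjugates of x lying in H form a single H-class and the centralizer of x lies in H; (2) for every g outside H, no member of I lies in both H and g H g⁻¹; (3) every member of I lying in H fixes exactly one coset in the action of G on the cosets of H. -/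
theorem result {G : Type*} [Group G] [Finite G] (I : Set G) (hI : ∀ x ∈ I, orderOf x = 2) (hIc : ∀ g : G, ∀ x ∈ I, g * x * g⁻¹ ∈ I) (H : Subgroup G) : ((∀ x ∈ I, x ∈ H → (∀ g : G, g * x * g⁻¹ ∈ H → ∃ h ∈ H, h * x * h⁻¹ = g * x * g⁻¹) ∧ Subgroup.centralizer ({x} : Set G) ≤ H) ↔ (∀ g : G, g ∉ H → ∀ x ∈ I, ¬ (x ∈ H ∧ x ∈ (H : Subgroup G).map (MulAut.conj g).toMonoidHom))) ∧ ((∀ g : G, g ∉ H → ∀ x ∈ I, ¬ (x ∈ H ∧ x ∈ (H : Subgroup G).map (MulAut.conj g).toMonoidHom)) ↔ ∀ x ∈ I, x ∈ H → ∃! c : G ⧸ H, x • c = c) := by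
  refine ⟨⟨fun h1 g hg x hx ⟨hxH, hxg⟩ => hg ?_, fun h2 x hx hxH => ⟨fun g hg => ?_, fun c hc => ?_⟩⟩,
    ⟨fun h2 x hx hxH => ?_, fun h3 g hg x hx ⟨hxH, hxg⟩ => hg ?_⟩⟩
  · obtain ⟨y, hy, rfl⟩ := hxg
    have hyI : y ∈ I := by simpa [mul_assoc] using hIc g⁻¹ _ hx
    obtain ⟨h, hh, hhy⟩ := (h1 y hyI hy).1 g (by simpa using hxH)
    have : h⁻¹ * g ∈ Subgroup.centralizer ({y} : Set G) := by
      rw [Subgroup.mem_centralizer_iff]
      rintro _ rfl
      have := congrArg (fun a => h⁻¹ * a * g) hhy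
      simpa [mul_assoc] using this
    simpa using mul_mem hh ((h1 y hyI hy).2 this)
  · refine ⟨g, ?_, rfl⟩
    by_contra hgH
    exact h2 g hgH (g * x * g⁻¹) (hIc g x hx) ⟨hg, x, hxH, by simp⟩
  · by_contra hcH
    refine h2 c hcH x hx ⟨hxH, x, hxH, ?_⟩
    have := Subgroup.mem_centralizer_iff.mp hc x rfl
    simp [← this, mul_assoc]
  · refine ⟨QuotientGroup.mk 1, ?_, fun c hc => ?_⟩
    · simpa [MulAction.Quotient.smul_mk, QuotientGroup.eq] using hxH
    · induction c using QuotientGroup.induction_on with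
      | H c =>
        rw [QuotientGroup.eq]
        simp only [mul_one, inv_mem_iff]
        by_contra hcH
        refine h2 c hcH x hx ⟨hxH, ⟨c⁻¹ * x * c, ?_, by simp [mul_assoc]⟩⟩
        have := QuotientGroup.eq.mp hc.symm
        simpa [mul_assoc] using this
  · have h1 : x • (QuotientGroup.mk 1 : G ⧸ H) = QuotientGroup.mk 1 := by
      simpa [MulAction.Quotient.smul_mk, QuotientGroup.eq] using hxH
    obtain ⟨y, hy, rfl⟩ := hxg
    have h2 : (MulAut.conj g).toMonoidHom y • (QuotientGroup.mk g : G ⧸ H) = QuotientGroup.mk g := by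
      simpa [MulAction.Quotient.smul_mk, QuotientGroup.eq, mul_assoc] using hy
    simpa [QuotientGroup.eq] using ((h3 _ hx hxH).unique h1 h2)

end Cfsg.Agent.S5437
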