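import Cfsg.Statements.S5438
import Cfsg.Agent.Lib.LargeExtraspecial.Basic

set_option autoImplicit false
open Cfsg

namespace Cfsg.Agent.S5438

/-- Let z be a 2-central involution of the finite group G (an involution central in some Sylow 2-subgroup) and H a subgroup containing z such that the coset H is the only coset of H fixed by z (in the action of G on the cosets of H). Then H has odd index in G, and for every 2-element x of H the conjugates of x lying in H form a single H-class. -/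
theorem result {G : Type*} [Group G] [Finite G] (z : G) (hz : Cfsg.IsTwoCentralInvolution z) (H : Subgroup G) (hzH : z ∈ H) (hfix : ∀ g : G, g⁻¹ * z * g ∈ H → g ∈ H) : Odd H.index ∧ ∀ x ∈ H, (∃ k : ℕ, orderOf x = 2 ^ k) → ∀ g : G, g * x * g⁻¹ ∈ H → ∃ h ∈ H, h * x * h⁻¹ = g * x * g⁻¹ := by
  haveI : Fact (Nat.Prime 2) := ⟨Nat.prime_two⟩
  obtain ⟨-, T, hzT, hTc⟩ := hz
  have hTH : (T : Subgroup G) ≤ H := fun t ht =>
    hfix t (by rw [mul_assoc, ← hTc t ht, ← mul_assoc, inv_mul_cancel, one_mul]; exact hzH)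
  refine ⟨?_, ?_⟩
  · rw [Nat.odd_iff, ← Nat.two_dvd_ne_zero]
    intro h
    exact T.not_dvd_index (h.trans (Subgroup.index_dvd_of_le hTH))
  rintro x hxH ⟨k, hk⟩ g hg
  have hprop : ∀ u ∈ H, ∀ a : G, a * (u * z * u⁻¹) * a⁻¹ ∈ H → a ∈ H := by
    intro u hu a ha
    have h2 : (u⁻¹ * a⁻¹) ∈ H := by
      refine mul_mem (inv_mem hu) (inv_mem ?_)
      have := hfix (u⁻¹ * a⁻¹) ?_
      · simpa [mul_mem_cancel_left (inv_mem hu)] using this
      · have hb : (a * u) * z * (a * u)⁻¹ ∈ H := by simpa [mul_assoc] using ha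
        simpa [mul_assoc] using hb
    simpa [mul_mem_cancel_left (inv_mem hu)] using h2
  have hcomm : ∀ y ∈ H, (∃ m : ℕ, orderOf y = 2 ^ m) → ∃ u ∈ H, y * (u * z * u⁻¹) = (u * z * u⁻¹) * y := by
    rintro y hy ⟨m, hm⟩
    have hp : IsPGroup 2 (Subgroup.zpowers (⟨y, hy⟩ : H)) :=
      IsPGroup.of_card (n := m) (by rw [Nat.card_zpowers, Subgroup.orderOf_mk, hm])
    obtain ⟨P, hP⟩ := hp.exists_le_sylow
    obtain ⟨⟨u, hu⟩, huP⟩ := MulAction.exists_smul_eq H (T.subtype hTH) P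
    refine ⟨u, hu, ?_⟩
    have hy' : (⟨y, hy⟩ : H) ∈ (P : Subgroup H) := hP (Subgroup.mem_zpowers _)
    rw [← huP, Sylow.coe_subgroup_smul, Subgroup.mem_pointwise_smul_iff_inv_smul_mem] at hy'
    have hy'' : u⁻¹ * y * u ∈ (T : Subgroup G) := by
      simpa [MulAut.smul_def, Subgroup.mem_subgroupOf] using hy'
    have := congrArg (fun a => u * a * u⁻¹) (hTc _ hy'')
    simpa [mul_assoc] using this
  set y := g * x * g⁻¹ with hy
  obtain ⟨u, hu, hux⟩ := hcomm x hxH ⟨k, hk⟩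
  obtain ⟨v, hv, hvy⟩ := hcomm y hg ⟨k, by
    rw [hy, ← hk]; exact orderOf_injective (MulAut.conj g).toMonoidHom (MulAut.conj g).injective x⟩
  set z₁ := u * z * u⁻¹ with hz₁
  set z₂ := v * z * v⁻¹ with hz₂
  set C := Subgroup.centralizer ({y} : Set G) with hC
  have hz₁C : g * z₁ * g⁻¹ ∈ C := by
    rw [hC, Subgroup.mem_centralizer_singleton_iff]
    have := congrArg (fun a => g * a * g⁻¹) hux
    simpa [hy, mul_assoc] using this.symm
  have hz₂C : z₂ ∈ C := Subgroup.mem_centralizer_singleton_iff.mpr hvy.symm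
  have h2z : ∀ w : G, IsPGroup 2 (Subgroup.zpowers (w * z * w⁻¹)) := fun w => by
    have := (T.isPGroup'.to_le (Subgroup.zpowers_le.mpr hzT)).map (MulAut.conj w).toMonoidHom
    rwa [MonoidHom.map_zpowers] at this
  have hp1 : IsPGroup 2 (Subgroup.zpowers (⟨g * z₁ * g⁻¹, hz₁C⟩ : C)) := by
    have := (h2z (g * u)).comap_subtype (K := C)
    refine this.to_le ?_
    rw [Subgroup.zpowers_le, Subgroup.mem_comap]
    simp [hz₁, mul_assoc]
  have hz₂H : z₂ ∈ H := mul_mem (mul_mem hv hzH) (inv_mem hv)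
  set CH := H.subgroupOf C
  have hp2 : IsPGroup 2 (Subgroup.zpowers (⟨⟨z₂, hz₂C⟩, hz₂H⟩ : CH)) := by
    have := ((h2z v).comap_subtype (K := C)).comap_subtype (K := CH)
    refine this.to_le ?_
    rw [Subgroup.zpowers_le, Subgroup.mem_comap]
    exact Subgroup.mem_zpowers _
  obtain ⟨S, hS⟩ := hp2.exists_le_sylow
  set S' : Subgroup C := (S : Subgroup CH).map CH.subtype with hS'
  have hz₂S : (⟨z₂, hz₂C⟩ : C) ∈ S' := ⟨_, hS (Subgroup.mem_zpowers _), rfl⟩
  have hSH : S' ≤ CH := Subgroup.map_subtype_le _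
  obtain ⟨R, hR⟩ := (S.isPGroup'.map CH.subtype).exists_le_sylow
  have hRH : ∀ n : C, n ∈ Subgroup.normalizer (S' : Set C) → n ∈ CH := fun n hn =>
    hprop v hv n (hSH ((Subgroup.mem_normalizer_iff.mp hn _).mp hz₂S))
  have hRS : (R : Subgroup C) = S' := by
    by_contra hne
    haveI : Group.IsNilpotent (R : Subgroup C) := R.isPGroup'.isNilpotent
    have hlt : S'.subgroupOf R < ⊤ := lt_top_iff_ne_top.mpr fun h =>
      hne (le_antisymm (Subgroup.subgroupOf_eq_top.mp h) hR)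
    have hnc := Group.normalizerCondition_of_isNilpotent (G := (R : Subgroup C)) _ hlt
    obtain ⟨n, hn, hnS⟩ := SetLike.exists_of_lt hnc
    apply hnS
    have hnC : (n : C) ∈ Subgroup.normalizer (S' : Set C) := by
      rw [Subgroup.mem_normalizer_iff]
      intro s
      constructor
      · intro hs
        simpa [Subgroup.mem_subgroupOf] using
          (Subgroup.mem_normalizer_iff.mp hn ⟨s, hR hs⟩).mp (by simpa [Subgroup.mem_subgroupOf] using hs)
      · intro hs
        have hsR : s ∈ (R : Subgroup C) := by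
          simpa [mul_assoc] using mul_mem (mul_mem (inv_mem n.2) (hR hs)) n.2
        simpa [Subgroup.mem_subgroupOf] using
          (Subgroup.mem_normalizer_iff.mp hn ⟨s, hsR⟩).mpr (by simpa [Subgroup.mem_subgroupOf] using hs)
    have hR' : (R : Subgroup C) ⊓ CH ≤ S' := by
      intro a ha
      have hp3 : IsPGroup 2 ↥((R : Subgroup C) ⊓ CH) := R.isPGroup'.to_le inf_le_left
      have e1 : (S : Subgroup CH) ≤ ((R : Subgroup C) ⊓ CH).comap CH.subtype := fun b hb =>
        ⟨hR ⟨b, hb, rfl⟩, b.2⟩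
      have e2 := S.3 (hp3.comap_subtype (K := CH)) e1
      exact ⟨⟨a, ha.2⟩, e2 ▸ Subgroup.mem_comap.mpr ha, rfl⟩
    exact hR' ⟨n.2, hRH _ hnC⟩
  obtain ⟨R₁, hR₁⟩ := hp1.exists_le_sylow
  obtain ⟨⟨c, hc⟩, hcR⟩ := MulAction.exists_smul_eq C R₁ R
  have hmem : (c * (g * z₁ * g⁻¹) * c⁻¹) ∈ H := by
    have : (⟨c, hc⟩ : C) * ⟨g * z₁ * g⁻¹, hz₁C⟩ * (⟨c, hc⟩ : C)⁻¹ ∈ (R : Subgroup C) := by
      rw [← hcR, Sylow.coe_subgroup_smul, Subgroup.mem_pointwise_smul_iff_inv_smul_mem]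
      simp only [MulAut.smul_def, MulAut.conj_inv_apply, MulAut.inv_apply, MulAut.conj_symm_apply]
      convert hR₁ (Subgroup.mem_zpowers _) using 1
      group
    rw [hRS] at this
    simpa [Subgroup.mem_subgroupOf, CH] using hSH this
  refine ⟨c * g, hprop u hu (c * g) (by simpa [hz₁, mul_assoc] using hmem), ?_⟩
  have := Subgroup.mem_centralizer_singleton_iff.mp hc
  calc c * g * x * (c * g)⁻¹ = c * y * c⁻¹ := by simp [hy, mul_assoc]
    _ = y := by rw [this, mul_inv_cancel_right]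

end Cfsg.Agent.S5438
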