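import Cfsg.Statements.S5439
import Cfsg.Agent.Lib.LargeExtraspecial.Basic

set_option autoImplicit false
open Cfsg

namespace Cfsg.Agent.S5439

/-- Let I and J be two different conjugacy classes of involutions of the finite group G and H a subgroup such that every member of I ∪ J fixes exactly one coset in the action on the cosets of H, and such that for every a in I ∩ H and every b in (I ∪ J) ∩ H different from a and commuting with it, the centralizer of a b lies in H. Then H = G. -/
theorem result {G : Type*} [Group G] [Finite G] (I J : Set G) (a₀ b₀ : G) (ha₀ : orderOf a₀ = 2) (hb₀ : orderOf b₀ = 2) (hI : I = {x | IsConj a₀ x}) (hJ : J = {x | IsConj b₀ x}) (hIJ : I ≠ J) (H : Subgroup G) (hfix : ∀ x ∈ I ∪ J, ∃! c : G ⧸ H, x • c = c) (hcent : ∀ a ∈ I, a ∈ H → ∀ b ∈ I ∪ J, b ∈ H → a ≠ b → a * b = b * a → Subgroup.centralizer ({a * b} : Set G) ≤ H) : H = ⊤ := by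
  have hconj : ∀ (u : G) x, x ∈ I → u * x * u⁻¹ ∈ I := fun u x hx => by
    rw [hI] at hx ⊢; exact hx.trans (isConj_iff.mpr ⟨u, rfl⟩)
  have hconjJ : ∀ (u : G) x, x ∈ J → u * x * u⁻¹ ∈ J := fun u x hx => by
    rw [hJ] at hx ⊢; exact hx.trans (isConj_iff.mpr ⟨u, rfl⟩)
  have hsmul : ∀ (x u : G), x • (QuotientGroup.mk u : G ⧸ H) = QuotientGroup.mk u ↔ u⁻¹ * x * u ∈ H := by
    intro x u
    rw [MulAction.Quotient.smul_mk, smul_eq_mul, eq_comm, QuotientGroup.eq, mul_assoc]
  have hord : ∀ x ∈ I ∪ J, x * x = 1 := by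
    intro x hx
    rw [← sq]
    rcases hx with hx | hx
    · rw [hI] at hx; obtain ⟨u, rfl⟩ := isConj_iff.mp hx
      rw [conj_pow, ← ha₀, pow_orderOf_eq_one]; simp
    · rw [hJ] at hx; obtain ⟨u, rfl⟩ := isConj_iff.mp hx
      rw [conj_pow, ← hb₀, pow_orderOf_eq_one]; simp
  -- some element of I lies in H
  obtain ⟨a, ha, haH⟩ : ∃ a ∈ I, a ∈ H := by
    have ha0 : a₀ ∈ I := by rw [hI]; exact IsConj.refl a₀
    obtain ⟨c, hc, -⟩ := hfix a₀ (Or.inl ha0)
    obtain ⟨u, rfl⟩ := QuotientGroup.mk_surjective c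
    exact ⟨u⁻¹ * a₀ * u⁻¹⁻¹, hconj u⁻¹ a₀ ha0, by simpa using (hsmul a₀ u).mp hc⟩
  have hne : ∀ x ∈ I, x ∉ J := by
    intro x hx hx'
    apply hIJ
    rw [hI] at hx ⊢; rw [hJ] at hx' ⊢
    ext y
    exact ⟨fun h => (hx'.trans hx.symm).trans h, fun h => (hx.trans hx'.symm).trans h⟩
  -- every element of J lies in H
  have hJH : ∀ b ∈ J, b ∈ H := by
    intro b hb
    have haa := hord a (Or.inl ha)
    have hbb := hord b (Or.inr hb)
    have hainv : a⁻¹ = a := inv_eq_of_mul_eq_one_right haa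
    have hbinv : b⁻¹ = b := inv_eq_of_mul_eq_one_right hbb
    set r := a * b with hr
    have hra : ∀ m : ℕ, a * r ^ m * a⁻¹ = (r ^ m)⁻¹ := fun m => by
      rw [← conj_pow, ← inv_pow]
      congr 1
      rw [hr, mul_inv_rev, hbinv, ← mul_assoc, haa, one_mul]
    have hrb : ∀ m : ℕ, b * r ^ m * b⁻¹ = (r ^ m)⁻¹ := fun m => by
      rw [← conj_pow, ← inv_pow]
      congr 1
      rw [hr, mul_inv_rev, hbinv, hainv, mul_assoc, mul_assoc, hbb, mul_one]
    have hinvI : ∀ m : ℕ, a * r ^ (2 * m) ∈ I := fun m => by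
      have := hconj (r ^ m)⁻¹ a ha
      convert this using 1
      have e := hra m
      rw [two_mul, pow_add, inv_inv]
      calc a * (r ^ m * r ^ m) = (a * r ^ m * a⁻¹) * a * r ^ m := by group
        _ = (r ^ m)⁻¹ * a * r ^ m := by rw [e]
    have hinvJ : ∀ m : ℕ, a * r ^ (2 * m + 1) ∈ J := fun m => by
      have := hconjJ (r ^ m)⁻¹ b hb
      convert this using 1
      have e := hrb m
      have e2 : a * r ^ (2 * m + 1) = b * (r ^ m * r ^ m) := by
        rw [← pow_add, ← two_mul, pow_succ', hr, ← mul_assoc, ← mul_assoc, haa, one_mul]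
      rw [e2, inv_inv]
      calc b * (r ^ m * r ^ m) = (b * r ^ m * b⁻¹) * b * r ^ m := by group
        _ = (r ^ m)⁻¹ * b * r ^ m := by rw [e]
    obtain ⟨n, hn⟩ : Even (orderOf r) := by
      by_contra h
      obtain ⟨m, hm⟩ := Nat.not_even_iff_odd.mp h
      refine hne a ha ?_
      have := hinvJ m
      rwa [← hm, pow_orderOf_eq_one, mul_one] at this
    rw [← two_mul] at hn
    have hpos : 0 < orderOf r := orderOf_pos r
    set t := r ^ n with ht
    have htt : t * t = 1 := by rw [ht, ← pow_add, ← two_mul, ← hn, pow_orderOf_eq_one]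
    have htinv : t⁻¹ = t := inv_eq_of_mul_eq_one_right htt
    have hta : a * t = t * a := by
      have := hra n
      rw [← ht, htinv] at this
      calc a * t = (a * t * a⁻¹) * a := by group
        _ = t * a := by rw [this]
    have htb : b * t = t * b := by
      have := hrb n
      rw [← ht, htinv] at this
      calc b * t = (b * t * b⁻¹) * b := by group
        _ = t * b := by rw [this]
    have ht1 : t ≠ 1 := fun h => by
      have := Nat.le_of_dvd (by omega) (orderOf_dvd_of_pow_eq_one (x := r) h)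
      omega
    have hatmem : a * t ∈ I ∪ J := by
      rcases Nat.even_or_odd' n with ⟨m, hm | hm⟩
      · left; rw [ht, hm]; exact hinvI m
      · right; rw [ht, hm]; exact hinvJ m
    have hfa : a • (QuotientGroup.mk 1 : G ⧸ H) = QuotientGroup.mk 1 := (hsmul a 1).mpr (by simpa using haH)
    obtain ⟨c, hc, huniq⟩ := hfix a (Or.inl ha)
    have htfix : t • (QuotientGroup.mk 1 : G ⧸ H) = QuotientGroup.mk 1 := by
      rw [huniq _ hfa]
      apply huniq
      show a • t • c = t • c
      rw [← mul_smul, hta, mul_smul, hc]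
    have htH : t ∈ H := by simpa using (hsmul t 1).mp htfix
    have hcen := hcent a ha haH (a * t) hatmem (mul_mem haH htH)
      (fun h => ht1 (by simpa using h))
      (by rw [mul_assoc a t a, ← hta])
    rw [show a * (a * t) = t by rw [← mul_assoc, haa, one_mul]] at hcen
    exact hcen (Subgroup.mem_centralizer_singleton_iff.mpr htb)
  rw [eq_top_iff]
  intro g _
  have hb0 : b₀ ∈ J := by rw [hJ]; exact IsConj.refl b₀
  have h1 : b₀ • (QuotientGroup.mk 1 : G ⧸ H) = QuotientGroup.mk 1 := (hsmul _ 1).mpr (by simpa using hJH _ hb0)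
  have h2 : b₀ • (QuotientGroup.mk g : G ⧸ H) = QuotientGroup.mk g :=
    (hsmul _ g).mpr (by simpa using hJH _ (hconjJ g⁻¹ _ hb0))
  simpa [QuotientGroup.eq] using (hfix b₀ (Or.inr hb0)).unique h1 h2

end Cfsg.Agent.S5439
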