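import Cfsg.Statements.S5440
import Cfsg.Agent.Lib.LargeFischer.OfType

set_option autoImplicit false
open Cfsg

namespace Cfsg.Agent.S5440

/-- Let G be a finite group of large Fischer type at the involution z: the generalized Fitting subgroup Q of H = C_G(z) is extraspecial of order 2^13, H has normal subgroups Q ≤ H₁ ≤ H₂ with H₁/Q of order 3, H₂/H₁ the projective special unitary group of dimension 4 over the field with nine elements and H₂ of index 2 in H, and some conjugate of z other than z lies in Q. Then H has exactly two orbits, under conjugation, on the involutions of Q other than z. -/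
theorem result {G : Type*} [Group G] [Finite G] (z : G) (Q : Subgroup (Subgroup.centralizer ({z} : Set G))) [Q.Normal] (hF : Cfsg.IsOfLargeFischerTypeAt z Q) : ∃ s t : Subgroup.centralizer ({z} : Set G), s ∈ Q ∧ t ∈ Q ∧ orderOf s = 2 ∧ orderOf t = 2 ∧ (s : G) ≠ z ∧ (t : G) ≠ z ∧ (¬ ∃ h : Subgroup.centralizer ({z} : Set G), h * s * h⁻¹ = t) ∧ ∀ x : Subgroup.centralizer ({z} : Set G), x ∈ Q → orderOf x = 2 → (x : G) ≠ z → (∃ h : Subgroup.centralizer ({z} : Set G), h * s * h⁻¹ = x) ∨ ∃ h : Subgroup.centralizer ({z} : Set G), h * t * h⁻¹ = x := by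
  classical
  haveI hex : Fact (Cfsg.IsExtraspecial 2 Q) := ⟨hF.1.2.2.1⟩
  obtain ⟨u, w, hu, hqu, hw, hqw, hne, hall⟩ := LargeFischer.two_orbits hF
  obtain ⟨-, hfit, -, -, -⟩ := hF.1
  -- the central involution lies in `Q`
  have hzc : ∀ x : Q, x ∈ Subgroup.center Q → x = 1 ∨ ((x : Subgroup.centralizer ({z} : Set G)) : G) = z := by
    intro x hx
    let zc : Subgroup.centralizer ({z} : Set G) := ⟨z, Subgroup.mem_centralizer_singleton_iff.2 rfl⟩
    have hzQ : zc ∈ Q := by
      rw [← hfit]
      exact Symplectic.centralizer_generalizedFitting_le _ (Subgroup.mem_centralizer_iff.2 fun q _ =>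
        Subtype.ext (Subgroup.mem_centralizer_singleton_iff.1 q.2))
    have hzm : (⟨zc, hzQ⟩ : Q) ∈ Subgroup.center Q := Subgroup.mem_center_iff.2 fun q =>
      Subtype.ext (Subtype.ext (Subgroup.mem_centralizer_singleton_iff.1 q.1.2))
    rcases LargeExtraspecial.OutForm.zeta_cases hx with h | h
    · exact Or.inl h
    rcases LargeExtraspecial.OutForm.zeta_cases hzm with h' | h'
    · exfalso
      have hz1 : z = 1 := congrArg (fun q : Q => ((q : Subgroup.centralizer ({z} : Set G)) : G)) h'
      have := hF.1.1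
      rw [hz1, orderOf_one] at this
      norm_num at this
    · exact Or.inr (congrArg (fun q : Q => ((q : Subgroup.centralizer ({z} : Set G)) : G)) (h.trans h'.symm))
  have hlift : ∀ v : LargeExtraspecial.OutForm.Vm Q, v ≠ 0 → LargeExtraspecial.OutForm.qf Q v = 0 →
      ∃ x : Q, LargeExtraspecial.OutForm.pr x = v ∧ orderOf (x : Subgroup.centralizer ({z} : Set G)) = 2 ∧
        ((x : Subgroup.centralizer ({z} : Set G)) : G) ≠ z := by
    intro v hv hqv
    obtain ⟨x, rfl⟩ := LargeExtraspecial.OutForm.pr_surjective v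
    have hxc : x ∉ Subgroup.center Q := fun h => hv (LargeExtraspecial.OutForm.pr_eq_zero.2 h)
    refine ⟨x, rfl, ?_, fun h => hxc (Subgroup.mem_center_iff.2 fun q => Subtype.ext (Subtype.ext ?_))⟩
    · rw [LargeExtraspecial.OutForm.qf_apply, ← LargeExtraspecial.OutForm.eps_one (E := Q)] at hqv
      have hxx := LargeExtraspecial.OutForm.eps_inj (LargeExtraspecial.OutForm.sq_mem x) (one_mem _) hqv
      refine orderOf_eq_prime (by rw [pow_two]; exact congrArg Subtype.val hxx) fun h => hxc ?_
      rw [show x = 1 from Subtype.ext h]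
      exact one_mem _
    · show ((q : Subgroup.centralizer ({z} : Set G)) : G) * (x : Subgroup.centralizer ({z} : Set G)) =
        (x : Subgroup.centralizer ({z} : Set G)) * (q : Subgroup.centralizer ({z} : Set G))
      rw [h]
      exact Subgroup.mem_centralizer_singleton_iff.1 q.1.2
  obtain ⟨s, rfl, hs2, hsz⟩ := hlift u hu hqu
  obtain ⟨t, rfl, ht2, htz⟩ := hlift w hw hqw
  refine ⟨s, t, s.2, t.2, hs2, ht2, hsz, htz, fun ⟨h, hh⟩ => hne ⟨h, ?_⟩, fun x hxQ hx2 hxz => ?_⟩
  · rw [LargeFischer.toGL_pr, show MulAut.conjNormal h s = t from Subtype.ext hh]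
  · have hx1 : LargeExtraspecial.OutForm.pr (⟨x, hxQ⟩ : Q) ≠ 0 := fun h => by
      rcases hzc _ (LargeExtraspecial.OutForm.pr_eq_zero.1 h) with h1 | h1
      · rw [show x = 1 from congrArg Subtype.val h1, orderOf_one] at hx2
        norm_num at hx2
      · exact hxz h1
    have hqx : LargeExtraspecial.OutForm.qf Q (LargeExtraspecial.OutForm.pr (⟨x, hxQ⟩ : Q)) = 0 := by
      rw [LargeExtraspecial.OutForm.qf_apply, show (⟨x, hxQ⟩ : Q) * ⟨x, hxQ⟩ = 1 from
        Subtype.ext (by show x * x = 1; rw [← pow_two, ← hx2, pow_orderOf_eq_one])]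
      exact LargeExtraspecial.OutForm.eps_one
    rcases hall _ hx1 hqx with ⟨c, hc⟩ | ⟨c, hc⟩
    · exact Or.inl (LargeFischer.exists_conj_lift hx1 hc)
    · exact Or.inr (LargeFischer.exists_conj_lift hx1 hc)

end Cfsg.Agent.S5440
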