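import Cfsg.Statements.S5443
import Cfsg.Agent.Lib.LargeFischer.ToSmall

set_option autoImplicit false
open Cfsg

namespace Cfsg.Agent.S5443

/-- Let G be a finite group of large Fischer type at the involution z: the generalized Fitting subgroup Q of H = C_G(z) is extraspecial of order 2^13, H has normal subgroups Q ≤ H₁ ≤ H₂ with H₁/Q of order 3, H₂/H₁ the projective special unitary group of dimension 4 over the field with nine elements and H₂ of index 2 in H, and some conjugate of z other than z lies in Q. Let t be an involution of Q not conjugate to z in G, and S the set of elements of H conjugating t to t or to t z (the stabilizer of the image of t in Q modulo its centre). Then the image of S in H/Q is isomorphic to the full isometry group of the elliptic quadratic form in dimension 6 over the field with two elements. -/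
theorem result {G : Type*} [Group G] [Finite G] (z : G) (Q : Subgroup (Subgroup.centralizer ({z} : Set G))) [Q.Normal] (hF : Cfsg.IsOfLargeFischerTypeAt z Q) (t : Subgroup.centralizer ({z} : Set G)) (htQ : t ∈ Q) (ht2 : orderOf t = 2) (ht : ¬ IsConj z (t : G)) (S : Subgroup (Subgroup.centralizer ({z} : Set G))) (hS : ∀ h : Subgroup.centralizer ({z} : Set G), h ∈ S ↔ (h * t * h⁻¹ = t ∨ ((h * t * h⁻¹ : Subgroup.centralizer ({z} : Set G)) : G) = t * z)) : Nonempty (↥(S.map (QuotientGroup.mk' Q)) ≃* Cfsg.isometryGroup (ZMod 2) (Cfsg.quadFormMinus 2 (ZMod 2) 1 1)) := by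
  classical
  haveI hex : Fact (Cfsg.IsExtraspecial 2 Q) := ⟨hF.1.2.2.1⟩
  obtain ⟨g, ⟨hgC, hgQ⟩, hgz⟩ := hF.1.2.2.2.2
  obtain ⟨hw, hqw, hwc, ⟨φ, hφ⟩, -⟩ := LargeFischer.central_facts hF rfl hgz hgC hgQ _ _ rfl rfl
  have D := LargeFischer.data_of_type hF
  have hzt : (t : G) ≠ z := fun h => ht (by rw [h])
  let tQ : Q := ⟨t, htQ⟩
  have hv : LargeExtraspecial.OutForm.pr tQ ≠ 0 := fun h => by
    have hc := Subgroup.mem_center_iff.1 (LargeExtraspecial.OutForm.pr_eq_zero.1 h)
    rcases D.cent (t : G) (by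
      rintro _ ⟨q, hq, rfl⟩
      exact congrArg (fun a : Q => ((a : Subgroup.centralizer ({z} : Set G)) : G)) (hc ⟨q, hq⟩)) with h' | h'
    · rw [show t = 1 from Subtype.ext h', orderOf_one] at ht2
      norm_num at ht2
    · exact hzt h'
  have hqv : LargeExtraspecial.OutForm.qf Q (LargeExtraspecial.OutForm.pr tQ) = 0 := by
    rw [LargeExtraspecial.OutForm.qf_apply, show tQ * tQ = 1 from
      Subtype.ext (by show t * t = 1; rw [← pow_two, ← ht2, pow_orderOf_eq_one])]
    exact LargeExtraspecial.OutForm.eps_one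
  obtain ⟨hsizes, -⟩ := (LargeFischer.stab_type hF).1 _ hv hqv
  have hvc : Nat.card (MulAction.stabilizer (LargeFischer.toGL Q).range (LargeExtraspecial.OutForm.pr tQ)) = 51840 := by
    refine hsizes.resolve_right fun h => ht ?_
    obtain ⟨_, ⟨c, rfl⟩, hc⟩ := (LargeFischer.stab_type hF).2 _ _ hw hqw hv hqv (hwc.trans h.symm)
    obtain ⟨d, hd⟩ := LargeFischer.exists_conj_lift hv hc
    refine isConj_iff.2 ⟨(d : G) * g, ?_⟩
    have := congrArg Subtype.val hd
    rw [← show (d : G) * (g * z * g⁻¹) * (d : G)⁻¹ = (t : G) from this]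
    group
  obtain ⟨i⟩ := LargeFischer.stab_small hF hw hqw hwc φ hφ hv hqv hvc
  have hker := (LargeFischer.exists_frame hF).1
  have hpr : ∀ x : Q, LargeExtraspecial.OutForm.pr x = LargeExtraspecial.OutForm.pr tQ ↔
      ((x : Subgroup.centralizer ({z} : Set G)) = t ∨ ((x : Subgroup.centralizer ({z} : Set G)) : G) = t * z) := by
    intro x
    constructor
    · intro h
      obtain ⟨c, hc, rfl⟩ := LargeExtraspecial.OutForm.eq_mul_center h
      have hc' := Subgroup.mem_center_iff.1 hc
      rcases D.cent ((c : Subgroup.centralizer ({z} : Set G)) : G) (by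
        rintro _ ⟨q, hq, rfl⟩
        exact congrArg (fun a : Q => ((a : Subgroup.centralizer ({z} : Set G)) : G)) (hc' ⟨q, hq⟩)) with h' | h'
      · left; apply Subtype.ext; show (t : G) * _ = t; rw [h', mul_one]
      · right; show (t : G) * _ = (t : G) * z; rw [h']
    · rintro (h | h)
      · rw [show x = tQ from Subtype.ext h]
      · obtain ⟨zq, hzq, hzqe⟩ := D.z_mem
        have hzc : (⟨zq, hzq⟩ : Q) ∈ Subgroup.center Q := Subgroup.mem_center_iff.2 fun a =>
          Subtype.ext (Subtype.ext (by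
            have hze : (zq : G) = z := hzqe
            show ((a : Subgroup.centralizer ({z} : Set G)) : G) * (zq : G) = (zq : G) * _
            rw [hze]
            exact Subgroup.mem_centralizer_singleton_iff.1 a.1.2))
        rw [show x = tQ * ⟨zq, hzq⟩ from Subtype.ext (Subtype.ext (h.trans (congrArg ((t : G) * ·) hzqe.symm))),
          LargeExtraspecial.OutForm.pr_mul, LargeExtraspecial.OutForm.pr_eq_zero.2 hzc, add_zero]
  have hSc : ∀ c : Subgroup.centralizer ({z} : Set G), c ∈ S ↔
      LargeFischer.toGL Q c (LargeExtraspecial.OutForm.pr tQ) = LargeExtraspecial.OutForm.pr tQ := by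
    intro c
    rw [hS, LargeFischer.toGL_pr, hpr]
    rfl
  -- transport to the image
  let ψ : Subgroup.centralizer ({z} : Set G) ⧸ Q →* (LargeFischer.toGL Q).range :=
    QuotientGroup.lift Q (LargeFischer.toGL Q).rangeRestrict (by rw [MonoidHom.ker_rangeRestrict, hker])
  have hmem : ∀ x : S.map (QuotientGroup.mk' Q),
      ψ x.1 ∈ MulAction.stabilizer (LargeFischer.toGL Q).range (LargeExtraspecial.OutForm.pr tQ) := by
    rintro ⟨_, c, hc, rfl⟩
    exact (hSc c).1 hc
  let θ : S.map (QuotientGroup.mk' Q) →*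
      MulAction.stabilizer (LargeFischer.toGL Q).range (LargeExtraspecial.OutForm.pr tQ) :=
    (ψ.comp (S.map (QuotientGroup.mk' Q)).subtype).codRestrict _ hmem
  have hθ : Function.Bijective θ := by
    refine ⟨(injective_iff_map_eq_one θ).2 ?_, ?_⟩
    · rintro ⟨_, c, hc, rfl⟩ h
      refine Subtype.ext ((QuotientGroup.eq_one_iff c).2 ?_)
      rw [← hker, MonoidHom.mem_ker]
      exact congrArg (fun y : MulAction.stabilizer (LargeFischer.toGL Q).range _ => y.1.1) h
    · rintro ⟨⟨_, c, rfl⟩, hy⟩
      exact ⟨⟨QuotientGroup.mk c, c, (hSc c).2 hy, rfl⟩, rfl⟩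
  have hq : (⇑LargeFischer.qW : LargeFischer.W6 → ZMod 2) = Cfsg.quadFormMinus 2 (ZMod 2) 1 1 :=
    Forms.qfMinus_eq 2 1 1
  rw [hq] at i
  exact ⟨((MulEquiv.ofBijective θ hθ).trans i).trans (Forms.isometryGroupEquiv _).symm⟩

end Cfsg.Agent.S5443
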