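import Cfsg.Statements.S5444
import Cfsg.Agent.Lib.LargeFischer.MaxElem

set_option autoImplicit false
open Cfsg

namespace Cfsg.Agent.S5444

/-- Let G be a finite group of large Fischer type at the involution z: the generalized Fitting subgroup Q of H = C_G(z) is extraspecial of order 2^13, H has normal subgroups Q ≤ H₁ ≤ H₂ with H₁/Q of order 3, H₂/H₁ the projective special unitary group of dimension 4 over the field with nine elements and H₂ of index 2 in H, and some conjugate of z other than z lies in Q. Let T be a Sylow 2-subgroup of H. Then T has exactly one elementary abelian subgroup A of largest order; A has order 2^11, it meets Q in a subgroup of order 2^7, and its image in H/Q has order 16. -/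
theorem result {G : Type*} [Group G] [Finite G] (z : G) (Q : Subgroup (Subgroup.centralizer ({z} : Set G))) [Q.Normal] (hF : Cfsg.IsOfLargeFischerTypeAt z Q) (T : Sylow 2 ↥(Subgroup.centralizer ({z} : Set G))) : ∃ A : Subgroup ↥(T : Subgroup (Subgroup.centralizer ({z} : Set G))), Cfsg.maxElementaryAbelianSubgroups 2 ↥(T : Subgroup (Subgroup.centralizer ({z} : Set G))) = {A} ∧ Nat.card A = 2 ^ 11 ∧ Nat.card ↥(A.map (T : Subgroup (Subgroup.centralizer ({z} : Set G))).subtype ⊓ Q) = 2 ^ 7 ∧ Nat.card ↥((A.map (T : Subgroup (Subgroup.centralizer ({z} : Set G))).subtype).map (QuotientGroup.mk' Q)) = 16 := by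
  classical
  haveI hex : Fact (Cfsg.IsExtraspecial 2 Q) := ⟨hF.1.2.2.1⟩
  obtain ⟨T₀, A₀, hT₀, hA₀T, hA₀sq, hA₀, hA₀Q, hA₀im, huniq⟩ := LargeFischer.exists_max hF
  obtain ⟨P, hP⟩ := (IsPGroup.of_card (p := 2) (n := 21) hT₀).exists_le_sylow
  have hPT : (P : Subgroup (Subgroup.centralizer ({z} : Set G))) = T₀ := by
    refine (Subgroup.eq_of_le_of_card_ge hP ?_).symm
    obtain ⟨k, hk⟩ := P.2.exists_card_eq
    rw [hk, hT₀]
    refine Nat.pow_le_pow_right (by norm_num) ?_
    have hcardH : Nat.card (Subgroup.centralizer ({z} : Set G)) = 2 ^ 21 * 76545 := by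
      obtain ⟨hker, hr, -⟩ := LargeFischer.exists_frame hF
      rw [Subgroup.card_eq_card_quotient_mul_card_subgroup (LargeFischer.toGL Q).ker,
        Nat.card_congr (QuotientGroup.quotientKerEquivRange _).toEquiv, hr, hker, hF.1.2.2.2.1]
      norm_num
    have hd := Subgroup.card_subgroup_dvd_card (P : Subgroup (Subgroup.centralizer ({z} : Set G)))
    rw [hk, hcardH] at hd
    exact (Nat.pow_dvd_pow_iff_le_right one_lt_two).1
      (((Nat.Coprime.pow_left k (by norm_num : Nat.Coprime 2 76545))).dvd_of_dvd_mul_right hd)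
  obtain ⟨c, hc⟩ := MulAction.exists_smul_eq (Subgroup.centralizer ({z} : Set G)) P T
  let f : Subgroup.centralizer ({z} : Set G) →* Subgroup.centralizer ({z} : Set G) := (MulAut.conj c).toMonoidHom
  have hfi : Function.Injective f := (MulAut.conj c).injective
  have hTf : (T : Subgroup (Subgroup.centralizer ({z} : Set G))) = T₀.map f := by
    rw [← hc, ← hPT]; rfl
  have hfT : A₀.map f ≤ T := hTf ▸ Subgroup.map_mono hA₀T
  let A : Subgroup ↥(T : Subgroup (Subgroup.centralizer ({z} : Set G))) :=
    (A₀.map f).subgroupOf (T : Subgroup (Subgroup.centralizer ({z} : Set G)))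
  have hAmap : A.map (T : Subgroup (Subgroup.centralizer ({z} : Set G))).subtype = A₀.map f :=
    Subgroup.map_subgroupOf_eq_of_le hfT
  have hel : ∀ {K : Type _} [Group K] (B : Subgroup K), (∀ b ∈ B, b * b = 1) → Cfsg.IsElementaryAbelian 2 B := by
    intro K _ B hB
    refine ⟨⟨⟨fun a b => Subtype.ext ?_⟩⟩, fun a ha => by rw [pow_two]; exact hB a ha⟩
    show (a : K) * b = b * a
    calc (a : K) * b = ((a : K) * b)⁻¹ := eq_inv_of_mul_eq_one_left (hB _ (mul_mem a.2 b.2))
      _ = _ := by rw [mul_inv_rev, inv_eq_of_mul_eq_one_left (hB a a.2), inv_eq_of_mul_eq_one_left (hB b b.2)]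
  have hAsq : ∀ a ∈ A, a * a = 1 := by
    rintro a ha
    obtain ⟨b, hb, hba⟩ := Subgroup.mem_subgroupOf.1 ha
    exact Subtype.ext (by rw [Subgroup.coe_mul, ← hba, ← map_mul, hA₀sq b hb, map_one]; rfl)
  have hAcard : Nat.card A = 2 ^ 11 := by
    rw [← Subgroup.card_subtype, hAmap, ← Nat.card_congr (Subgroup.equivMapOfInjective A₀ f hfi).toEquiv, hA₀]
  have hmax : ∀ B : Subgroup ↥(T : Subgroup (Subgroup.centralizer ({z} : Set G))), Cfsg.IsElementaryAbelian 2 B →
      2 ^ 11 ≤ Nat.card B → B = A := by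
    intro B hB hBc
    let B₀ := (B.map (T : Subgroup (Subgroup.centralizer ({z} : Set G))).subtype).comap f
    have hsurj : Function.Surjective f := (MulAut.conj c).surjective
    have hBB : B₀.map f = B.map (T : Subgroup (Subgroup.centralizer ({z} : Set G))).subtype :=
      Subgroup.map_comap_eq_self_of_surjective hsurj _
    have h1 : B₀ = A₀ := by
      refine huniq B₀ (fun x hx => ?_) (fun x hx => ?_) ?_
      · obtain ⟨b, -, hb⟩ := hx
        have : f x ∈ T₀.map f := hTf ▸ hb ▸ b.2
        obtain ⟨y, hy, hye⟩ := this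
        exact hfi hye ▸ hy
      · obtain ⟨b, hb, hbe⟩ := hx
        apply hfi
        rw [map_mul, map_one, ← hbe, ← map_mul, ← pow_two b, hB.2 b hb, map_one]
      · rw [Nat.card_congr (Subgroup.equivMapOfInjective B₀ f hfi).toEquiv, hBB, Subgroup.card_subtype]
        exact hBc
    refine Subgroup.map_injective (Subgroup.subtype_injective _) ?_
    rw [hAmap, ← hBB, h1]
  refine ⟨A, Set.ext fun B => ⟨fun hB => ?_, fun hB => ?_⟩, hAcard, ?_, ?_⟩
  · exact hmax B hB.1 (hAcard ▸ hB.2 A (hel A hAsq))
  · rw [Set.mem_singleton_iff.1 hB]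
    refine ⟨hel A hAsq, fun B hB => ?_⟩
    by_contra h
    push Not at h
    have := hmax B hB (hAcard ▸ h.le)
    rw [this] at h
    exact lt_irrefl _ h
  · have hQf : Q.map f = Q := by
      refine le_antisymm (Subgroup.map_le_iff_le_comap.2 fun x hx => Subgroup.Normal.conj_mem inferInstance x hx c) fun x hx => ?_
      refine ⟨c⁻¹ * x * c, ?_, by simp [f, mul_assoc]⟩
      simpa using Subgroup.Normal.conj_mem inferInstance x hx c⁻¹
    rw [hAmap]
    conv_lhs => rw [← hQf, ← Subgroup.map_inf _ _ f hfi,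
      ← Nat.card_congr (Subgroup.equivMapOfInjective (A₀ ⊓ Q) f hfi).toEquiv]
    exact hA₀Q
  · rw [hAmap, Subgroup.map_map,
      show (QuotientGroup.mk' Q).comp f = (MulAut.conj (QuotientGroup.mk' Q c)).toMonoidHom.comp (QuotientGroup.mk' Q) from
        MonoidHom.ext fun x => by simp [f], ← Subgroup.map_map]
    exact (Nat.card_congr (Subgroup.equivMapOfInjective _ _ (MulAut.conj (QuotientGroup.mk' Q c)).injective).toEquiv).symm.trans hA₀im

end Cfsg.Agent.S5444
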