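import Cfsg.Statements.S5447
import Cfsg.Agent.Lib.LargeFischer.Thompson

set_option autoImplicit false
open Cfsg

namespace Cfsg.Agent.S5447

/-- Let G be a finite group of large Fischer type at the involution z: the generalized Fitting subgroup Q of H = C_G(z) is extraspecial of order 2^13, H has normal subgroups Q ≤ H₁ ≤ H₂ with H₁/Q of order 3, H₂/H₁ the projective special unitary group of dimension 4 over the field with nine elements and H₂ of index 2 in H, and some conjugate of z other than z lies in Q. Let T be a Sylow 2-subgroup of G, A its Thompson subgroup and M = N_G(A) its normalizer. Then M controls fusion in A (elements of A conjugate in G are conjugate in M), and M has exactly two orbits on the non-identity elements of A: those conjugate to z in G and those not. -/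
theorem result {G : Type*} [Group G] [Finite G] (z : G) (Q : Subgroup (Subgroup.centralizer ({z} : Set G))) [Q.Normal] (hF : Cfsg.IsOfLargeFischerTypeAt z Q) (T : Sylow 2 G) (A M : Subgroup G) (hA : A = Cfsg.thompsonSubgroupOf 2 (T : Subgroup G)) (hM : M = Subgroup.normalizer (A : Set G)) : (∀ a ∈ A, ∀ g : G, g * a * g⁻¹ ∈ A → ∃ m ∈ M, m * a * m⁻¹ = g * a * g⁻¹) ∧ (∃ a ∈ A, a ≠ 1 ∧ IsConj z a) ∧ (∃ a ∈ A, a ≠ 1 ∧ ¬ IsConj z a) ∧ ∀ a ∈ A, ∀ b ∈ A, a ≠ 1 → b ≠ 1 → (IsConj z a ↔ IsConj z b) → ∃ m ∈ M, m * a * m⁻¹ = b := by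
  subst hA hM
  obtain ⟨D⟩ := LargeFischer.thompson_adata hF T
  refine ⟨fun a ha g hg => D.fusion ha hg, ?_, ?_, fun a ha b hb ha1 hb1 h => D.orbit_class ha hb ha1 hb1 h⟩
  · obtain ⟨y, hy, hy0, hyT⟩ : ∃ y < 2048, y ≠ 0 ∧ LargeFischer.isTL y = false := ⟨1, by norm_num, by norm_num, by decide +kernel⟩
    refine ⟨D.el y, D.mem y hy, fun e => hy0 (D.inj y hy 0 (by norm_num) (e.trans D.el_zero.symm)), ?_⟩
    by_contra hn
    have := (D.cls y hy).2 ⟨hy0, hn⟩
    rw [hyT] at this
    exact Bool.noConfusion this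
  · have hne : (none : Cfsg.GolayPt) ≠ some 0 := by simp
    exact ⟨D.pairEl none (some 0), D.pairEl_mem _ _, (D.pairEl_noncentral hne).1, (D.pairEl_noncentral hne).2⟩

end Cfsg.Agent.S5447
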