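import Cfsg.Statements.S5449
import Cfsg.Agent.EqLemmas
import Cfsg.Agent.Lib.U62Fischer.Main

set_option autoImplicit false
open Cfsg

namespace Cfsg.Agent.S5449

/-- Let G be a finite group of large Fischer type at the involution z: the generalized Fitting subgroup Q of H = C_G(z) is extraspecial of order 2^13, H has normal subgroups Q ≤ H₁ ≤ H₂ with H₁/Q of order 3, H₂/H₁ the projective special unitary group of dimension 4 over the field with nine elements and H₂ of index 2 in H, and some conjugate of z other than z lies in Q. Then Q contains a four-group E, not containing z and containing an involution not conjugate to z in G, whose centralizer in G is quasisimple with quotient by E isomorphic to the projective special unitary group of dimension 6 over the field with four elements. -/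
theorem result {G : Type*} [Group G] [Finite G] (z : G) (Q : Subgroup (Subgroup.centralizer ({z} : Set G))) [Q.Normal] (hF : Cfsg.IsOfLargeFischerTypeAt z Q) : ∃ E : Subgroup G, E ≤ (Q.map (Subgroup.centralizer ({z} : Set G)).subtype) ∧ Cfsg.IsElementaryAbelian 2 E ∧ Nat.card E = 4 ∧ z ∉ E ∧ (∃ t ∈ E, orderOf t = 2 ∧ ¬ IsConj z t) ∧ Cfsg.IsQuasisimple ↥(Subgroup.centralizer (E : Set G)) ∧ ∃ (_ : (E.subgroupOf (Subgroup.centralizer (E : Set G))).Normal) (K : Type) (_ : Field K) (_ : Fintype K), Fintype.card K = 4 ∧ Nonempty (↥(Subgroup.centralizer (E : Set G)) ⧸ E.subgroupOf (Subgroup.centralizer (E : Set G)) ≃* Cfsg.PSU 6 K 2) := by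
  haveI : Fact (Cfsg.IsExtraspecial 2 Q) := ⟨hF.1.2.2.1⟩
  obtain ⟨S⟩ := LargeFischer.exists_setting hF
  obtain ⟨t, u, F⟩ := U62Fischer.exists_four (S := S) hF
  obtain ⟨e⟩ := F.exists_quot
  refine ⟨F.E, F.E_le, F.E_elem, F.E_card, F.z_notMem,
    ⟨t, F.mem_E.2 (by simp), orderOf_eq_prime (by rw [pow_two]; exact F.t_sq) F.t_ne,
      F.E_nonconj (F.mem_E.2 (by simp)) F.t_ne⟩, F.quasisimple, ?_⟩
  exact ⟨U62Fischer.Four.EC_normal F, U62Rec.K, inferInstance, inferInstance, U62Rec.cardK, ⟨e⟩⟩

end Cfsg.Agent.S5449
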