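import Cfsg.Statements.S5452
import Cfsg.Agent.Lib.U62Cover.Lift
-- import your own Cfsg.Agent.* helpers here

set_option autoImplicit false
open Cfsg

namespace Cfsg.Agent.S5452

/-- Let G be a finite group with an involution d whose centralizer C is quasisimple with C modulo the subgroup generated by d isomorphic to the projective special unitary group of dimension 6 over the field with four elements, and suppose some conjugate of d other than d commutes with d. Then every involution of C modulo the subgroup generated by d is the image of an involution of C, and d is not a square in G. -/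
theorem result {G : Type*} [Group G] [Finite G] (d : G) (hd : orderOf d = 2) (hq : Cfsg.IsQuasisimple ↥(Subgroup.centralizer ({d} : Set G))) [hzn : ((Subgroup.zpowers d).subgroupOf (Subgroup.centralizer ({d} : Set G))).Normal] (K : Type) [Field K] [Fintype K] (hK : Fintype.card K = 4) (e : ↥(Subgroup.centralizer ({d} : Set G)) ⧸ (Subgroup.zpowers d).subgroupOf (Subgroup.centralizer ({d} : Set G)) ≃* Cfsg.PSU 6 K 2) (hnwc : ∃ g : G, g * d * g⁻¹ ∈ Subgroup.centralizer ({d} : Set G) ∧ g * d * g⁻¹ ≠ d) : (∀ x : ↥(Subgroup.centralizer ({d} : Set G)) ⧸ (Subgroup.zpowers d).subgroupOf (Subgroup.centralizer ({d} : Set G)), orderOf x = 2 → ∃ y : ↥(Subgroup.centralizer ({d} : Set G)), orderOf y = 2 ∧ (QuotientGroup.mk y : ↥(Subgroup.centralizer ({d} : Set G)) ⧸ (Subgroup.zpowers d).subgroupOf (Subgroup.centralizer ({d} : Set G))) = x) ∧ ¬ ∃ g : G, g ^ 2 = d := by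
  set C := Subgroup.centralizer ({d} : Set G) with hC
  set Z := (Subgroup.zpowers d).subgroupOf C with hZ
  have hd2 : d * d = 1 := by
    rw [← sq]; exact hd ▸ pow_orderOf_eq_one d
  let ψ : ↥C →* Cfsg.PSU 6 K 2 := e.toMonoidHom.comp (QuotientGroup.mk' Z)
  have hψ : Function.Surjective ψ := e.surjective.comp (QuotientGroup.mk'_surjective Z)
  have hker : ψ.ker = Z := by
    ext a
    simp [ψ, MonoidHom.mem_ker]
  have hcen : ψ.ker ≤ Subgroup.center ↥C := by
    intro a ha
    rw [hker, hZ, Subgroup.mem_subgroupOf] at ha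
    obtain ⟨i, hi⟩ := Subgroup.mem_zpowers_iff.1 ha
    refine Subgroup.mem_center_iff.2 fun g => Subtype.ext ?_
    show (g : G) * a = a * g
    rw [← hi]
    have hg : Commute (g : G) d := (Subgroup.mem_centralizer_iff.1 g.2 d rfl).symm
    exact (hg.zpow_right i).eq
  have hsq : ∀ k ∈ ψ.ker, k * k = 1 := by
    intro a ha
    rw [hker, hZ, Subgroup.mem_subgroupOf] at ha
    obtain ⟨i, hi⟩ := Subgroup.mem_zpowers_iff.1 ha
    refine Subtype.ext ?_
    show (a : G) * a = 1
    rw [← hi, ← (Commute.refl d).mul_zpow, hd2, one_zpow]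
  have lift : ∀ x : ↥C ⧸ Z, x * x = 1 → ∃ y : ↥C, y * y = 1 ∧ (QuotientGroup.mk y : ↥C ⧸ Z) = x := by
    intro x hx
    obtain ⟨y, hy, hyx⟩ := Cfsg.Agent.U62Cover.exists_involution_lift ψ hψ hcen hsq hK (e x)
      (by rw [← map_mul, hx, map_one])
    exact ⟨y, hy, e.injective hyx⟩
  refine ⟨fun x hx => ?_, ?_⟩
  · obtain ⟨y, hy, hyx⟩ := lift x (by rw [← sq]; exact hx ▸ pow_orderOf_eq_one x)
    refine ⟨y, orderOf_eq_prime (by rw [sq]; exact hy) fun h1 => ?_, hyx⟩
    rw [h1, QuotientGroup.mk_one] at hyx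
    rw [← hyx, orderOf_one] at hx
    omega
  · rintro ⟨g, hg⟩
    have hgC : g ∈ C := by
      rw [hC, Subgroup.mem_centralizer_iff]
      intro b hb
      rw [Set.mem_singleton_iff] at hb
      subst hb
      rw [← hg]
      group
    have hgd : (⟨g, hgC⟩ : ↥C) * ⟨g, hgC⟩ ∈ Z := by
      rw [hZ, Subgroup.mem_subgroupOf]
      show g * g ∈ _
      rw [← sq, hg]
      exact Subgroup.mem_zpowers d
    obtain ⟨y, hy, hyx⟩ := lift (QuotientGroup.mk ⟨g, hgC⟩)
      (by rw [← QuotientGroup.mk_mul, QuotientGroup.eq_one_iff]; exact hgd)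
    have h1 := Cfsg.Agent.U62Cover.sq_eq_of_eq ψ hcen hsq
      (a := y) (b := ⟨g, hgC⟩) (congrArg e hyx)
    rw [hy] at h1
    have h2 : g * g = 1 := (congrArg Subtype.val h1).symm
    rw [← sq, hg] at h2
    rw [h2, orderOf_one] at hd
    omega

end Cfsg.Agent.S5452
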