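import Cfsg.Statements.S5453
import Cfsg.Agent.Lib.M22Cover.Main
-- import your own Cfsg.Agent.* helpers here

set_option autoImplicit false
open Cfsg
open Cfsg.Agent.FischerM22 Cfsg.Agent.ThreeTrans

namespace Cfsg.Agent.S5453

/-- Let G be a finite group with an involution d whose centralizer C is quasisimple, such that C modulo the subgroup generated by d is of type M(22) with respect to some conjugacy class of 3-transpositions generating it and also has an involution whose own centralizer is quasisimple with quotient by it isomorphic to the projective special unitary group of dimension 6 over the field with four elements and which is not weakly closed in that centralizer; and suppose some conjugate of d other than d commutes with d. Then every involution of C modulo the subgroup generated by d is the image of an involution of C, and d is not a square in G. -/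
theorem result {G : Type*} [Group G] [Finite G] (d : G) (hd : orderOf d = 2) (hq : Cfsg.IsQuasisimple ↥(Subgroup.centralizer ({d} : Set G))) [hzn : ((Subgroup.zpowers d).subgroupOf (Subgroup.centralizer ({d} : Set G))).Normal] (htype : ∃ E : Set (↥(Subgroup.centralizer ({d} : Set G)) ⧸ (Subgroup.zpowers d).subgroupOf (Subgroup.centralizer ({d} : Set G))), Cfsg.IsThreeTranspositionClass E ∧ Cfsg.IsOfTypeM22 _ E) (hinvol : ∃ d' : ↥(Subgroup.centralizer ({d} : Set G)) ⧸ (Subgroup.zpowers d).subgroupOf (Subgroup.centralizer ({d} : Set G)), orderOf d' = 2 ∧ Cfsg.IsQuasisimple ↥(Subgroup.centralizer ({d'} : Set _)) ∧ (∃ (K : Type) (_ : Field K) (_ : Fintype K), Fintype.card K = 4 ∧ ∃ _ : ((Subgroup.zpowers d').subgroupOf (Subgroup.centralizer ({d'} : Set _))).Normal, Nonempty (↥(Subgroup.centralizer ({d'} : Set _)) ⧸ (Subgroup.zpowers d').subgroupOf (Subgroup.centralizer ({d'} : Set _)) ≃* Cfsg.PSU 6 K 2)) ∧ ∃ g, g * d' * g⁻¹ ∈ Subgroup.centralizer ({d'} : Set _) ∧ g * d' * g⁻¹ ≠ d') (hnwc : ∃ g : G, g * d *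 g⁻¹ ∈ Subgroup.centralizer ({d} : Set G) ∧ g * d * g⁻¹ ≠ d) : (∀ x : ↥(Subgroup.centralizer ({d} : Set G)) ⧸ (Subgroup.zpowers d).subgroupOf (Subgroup.centralizer ({d} : Set G)), orderOf x = 2 → ∃ y : ↥(Subgroup.centralizer ({d} : Set G)), orderOf y = 2 ∧ (QuotientGroup.mk y : ↥(Subgroup.centralizer ({d} : Set G)) ⧸ (Subgroup.zpowers d).subgroupOf (Subgroup.centralizer ({d} : Set G))) = x) ∧ ¬ ∃ g : G, g ^ 2 = d := by
  set C := Subgroup.centralizer ({d} : Set G) with hC
  set Z := (Subgroup.zpowers d).subgroupOf C with hZ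
  obtain ⟨E, hE, h22⟩ := htype
  have hdC : d ∈ C := Subgroup.mem_centralizer_singleton_iff.2 rfl
  have hd2 : d * d = 1 := by rw [← sq]; exact hd ▸ pow_orderOf_eq_one d
  have hd1 : d ≠ 1 := fun e => by rw [e, orderOf_one] at hd; omega
  have memZ : ∀ h : ↥C, h ∈ Z ↔ h = 1 ∨ h = ⟨d, hdC⟩ := by
    intro h
    rw [hZ, Subgroup.mem_subgroupOf, Subgroup.mem_zpowers_iff]
    constructor
    · rintro ⟨i, hi⟩
      rcases Int.even_or_odd i with ⟨j, rfl⟩ | ⟨j, rfl⟩
      · refine Or.inl (Subtype.ext ?_)
        rw [Subgroup.coe_one, ← hi, zpow_add, ← (Commute.refl d).mul_zpow, hd2, one_zpow]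
      · refine Or.inr (Subtype.ext ?_)
        show (h : G) = d
        rw [← hi, zpow_add_one, two_mul, zpow_add, ← (Commute.refl d).mul_zpow, hd2, one_zpow, one_mul]
    · rintro (rfl | rfl)
      · exact ⟨0, by simp⟩
      · exact ⟨1, by simp⟩
  have hcen : Z = Subgroup.center ↥C := by
    refine le_antisymm (fun h hh => ?_) fun h hh => ?_
    · rcases (memZ h).1 hh with rfl | rfl
      · exact one_mem _
      · exact Subgroup.mem_center_iff.2 fun c =>
          Subtype.ext (Subgroup.mem_centralizer_singleton_iff.1 c.2)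
    · rw [← QuotientGroup.eq_one_iff, ← Subgroup.mem_bot, ← h22.1]
      refine Subgroup.mem_center_iff.2 fun c => ?_
      induction c using QuotientGroup.induction_on with
      | _ c => exact congrArg QuotientGroup.mk (Subgroup.mem_center_iff.1 hh c)
  have hperf : commutator (↥C ⧸ Z) = ⊤ := by
    have h := hq.1.commutator_eq_top
    have := congrArg (Subgroup.map (QuotientGroup.mk' Z)) h
    rw [commutator_def, Subgroup.map_commutator,
      Subgroup.map_top_of_surjective _ (QuotientGroup.mk'_surjective Z)] at this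
    exact this
  have hsimp : IsSimpleGroup (↥C ⧸ Z) := by
    haveI : IsSimpleGroup (↥C ⧸ Subgroup.center ↥C) := hq.2
    exact MulEquiv.isSimpleGroup (QuotientGroup.quotientMulEquivOfEq hcen)
  have hsimp' : IsSimpleGroup ↥(commutator (↥C ⧸ Z)) :=
    MulEquiv.isSimpleGroup ((MulEquiv.subgroupCongr hperf).trans Subgroup.topEquiv)
  have hnonab : ∃ x y : ↥(commutator (↥C ⧸ Z)), x * y ≠ y * x := by
    by_contra hall
    push Not at hall
    obtain ⟨x, hx⟩ := exists_ne (1 : ↥C ⧸ Z)
    apply hx
    rw [← Subgroup.mem_bot, ← h22.1, Subgroup.mem_center_iff]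
    intro y
    exact congrArg Subtype.val (hall ⟨y, hperf ▸ Subgroup.mem_top y⟩ ⟨x, hperf ▸ Subgroup.mem_top x⟩)
  have S : Fi22Setup E := ⟨hE, centralCores_of_simple_derived hsimp' hnonab,
    connected_of_simple_derived hE hsimp' hnonab, h22⟩
  have X : M22Cover.Ext (QuotientGroup.mk' Z) (⟨d, hdC⟩ : ↥C) :=
    ⟨QuotientGroup.mk'_surjective Z, fun e => hd1 (congrArg Subtype.val e), Subtype.ext hd2,
      fun h => Subtype.ext (Subgroup.mem_centralizer_singleton_iff.1 h.2).symm,
      fun h => (QuotientGroup.eq_one_iff h).trans (memZ h)⟩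
  obtain ⟨h1, h2⟩ := M22Cover.lifts X S rfl hnwc
  refine ⟨fun x hx => ?_, h2⟩
  obtain ⟨y, rfl⟩ := QuotientGroup.mk'_surjective Z x
  have hy1 : (QuotientGroup.mk' Z) y ≠ 1 := fun e => by rw [e, orderOf_one] at hx; omega
  refine ⟨y, orderOf_eq_prime ?_ fun e => hy1 (by rw [e, map_one]), rfl⟩
  rw [pow_two]
  refine h1 y ?_ hy1
  rw [← pow_two]
  exact hx ▸ pow_orderOf_eq_one _

end Cfsg.Agent.S5453
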