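import Cfsg.Statements.S5454
import Cfsg.Agent.Lib.U62Base.Orbit
import Cfsg.Agent.Lib.M22Cover.Thompson
-- import your own Cfsg.Agent.* helpers here

set_option autoImplicit false
open Cfsg
open Cfsg.Agent.Unitary Cfsg.Agent.U62Cover Cfsg.Agent.ThreeTransSU

namespace Cfsg.Agent.S5454

/-- Let G be a finite group with an involution d whose centralizer C is quasisimple with C modulo the subgroup generated by d isomorphic to the projective special unitary group of dimension 6 over the field with four elements, and suppose some conjugate of d other than d commutes with d. Let S be a Sylow 2-subgroup of C and A the Thompson subgroup of S (generated by the elementary abelian subgroups of S of largest order), regarded as a subgroup of G. Then A is elementary abelian of order 2^10, exactly 22 conjugates of d lie in A, and the normalizer of A permutes them transitively. -/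
theorem result {G : Type*} [Group G] [Finite G] (d : G) (hd : orderOf d = 2) (hq : Cfsg.IsQuasisimple ↥(Subgroup.centralizer ({d} : Set G))) [hzn : ((Subgroup.zpowers d).subgroupOf (Subgroup.centralizer ({d} : Set G))).Normal] (K : Type) [Field K] [Fintype K] (hK : Fintype.card K = 4) (e : ↥(Subgroup.centralizer ({d} : Set G)) ⧸ (Subgroup.zpowers d).subgroupOf (Subgroup.centralizer ({d} : Set G)) ≃* Cfsg.PSU 6 K 2) (hnwc : ∃ g : G, g * d * g⁻¹ ∈ Subgroup.centralizer ({d} : Set G) ∧ g * d * g⁻¹ ≠ d) (S : Sylow 2 ↥(Subgroup.centralizer ({d} : Set G))) (A : Subgroup G) (hA : A = (Cfsg.thompsonSubgroupOf 2 (S : Subgroup ↥(Subgroup.centralizer ({d} : Set G)))).map (Subgroup.centralizer ({d} : Set G)).subtype) : Cfsg.IsElementaryAbelian 2 A ∧ Nat.card A = 2 ^ 10 ∧ Set.ncard {x : G | x ∈ A ∧ IsConj d x} = 22 ∧ ∀ x ∈ A, ∀ y ∈ A, IsConj d x → IsConj d y → ∃ n ∈ Subgroup.normalizer (A : Set G), n * x * n⁻¹ = y := by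
  set Z := (Subgroup.zpowers d).subgroupOf (Subgroup.centralizer ({d} : Set G)) with hZ
  have hdC : d ∈ Subgroup.centralizer ({d} : Set G) := Subgroup.mem_centralizer_singleton_iff.2 rfl
  have hd2 : d * d = 1 := by rw [← sq]; exact hd ▸ pow_orderOf_eq_one d
  have hd1 : d ≠ 1 := fun e => by rw [e, orderOf_one] at hd; omega
  have memZ : ∀ h : ↥(Subgroup.centralizer ({d} : Set G)), h ∈ Z ↔ h = 1 ∨ h = ⟨d, hdC⟩ := by
    intro h
    rw [hZ, Subgroup.mem_subgroupOf, Subgroup.mem_zpowers_iff]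
    constructor
    · rintro ⟨i, hi⟩
      rcases Int.even_or_odd i with ⟨j, rfl⟩ | ⟨j, rfl⟩
      · refine Or.inl (Subtype.ext ?_)
        rw [Subgroup.coe_one, ← hi, zpow_add, ← (Commute.refl d).mul_zpow, hd2, one_zpow]
      · refine Or.inr (Subtype.ext ?_)
        show (h : G) = d
        rw [← hi, zpow_add_one, two_mul, zpow_add, ← (Commute.refl d).mul_zpow, hd2, one_zpow, one_mul]
    · rintro (rfl | rfl)
      · exact ⟨0, by simp⟩
      · exact ⟨1, by simp⟩
  set ψ : ↥(Subgroup.centralizer ({d} : Set G)) →* Cfsg.PSU 6 K 2 :=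
    e.toMonoidHom.comp (QuotientGroup.mk' Z) with hψ
  have X : M22Cover.Ext ψ (⟨d, hdC⟩ : ↥(Subgroup.centralizer ({d} : Set G))) :=
    ⟨e.surjective.comp (QuotientGroup.mk'_surjective Z), fun h => hd1 (congrArg Subtype.val h), Subtype.ext hd2,
      fun h => Subtype.ext (Subgroup.mem_centralizer_singleton_iff.1 h.2).symm,
      fun h => by
        rw [← memZ h, ← QuotientGroup.eq_one_iff (N := Z) h]
        exact e.map_eq_one_iff⟩
  have hker : ψ.ker ≤ Subgroup.center ↥(Subgroup.centralizer ({d} : Set G)) := fun h hh => by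
    rcases (X.ker h).1 hh with rfl | rfl
    exacts [one_mem _, Subgroup.mem_center_iff.2 fun c => (X.central c).eq.symm]
  have hsq : ∀ h ∈ ψ.ker, h * h = 1 := fun h hh => by
    rcases (X.ker h).1 hh with rfl | rfl
    exacts [one_mul 1, X.sq]
  have : Fact (Nat.Prime 2) := ⟨Nat.prime_two⟩
  obtain ⟨W, P, hW⟩ := U62Base.sylow_plane hK (S.mapSurjective X.surj)
  have K' : U62Base.Ctx hK ψ (⟨d, hdC⟩ : ↥(Subgroup.centralizer ({d} : Set G))) W :=
    ⟨X, rfl, P, fun y hy _ => by
      obtain ⟨z, hz, ez⟩ := exists_involution_lift ψ X.surj hker hsq hK (ψ y) hy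
      rw [sq_eq_of_eq ψ hker hsq ez.symm, hz]⟩
  -- the kernel lies in the Sylow subgroup
  have hdS : (⟨d, hdC⟩ : ↥(Subgroup.centralizer ({d} : Set G))) ∈ S := by
    have hp : IsPGroup 2 ↥(Subgroup.zpowers (⟨d, hdC⟩ : ↥(Subgroup.centralizer ({d} : Set G)))) := fun x => by
      obtain ⟨i, hi⟩ := Subgroup.mem_zpowers_iff.1 x.2
      exact ⟨1, by
        refine Subtype.ext ?_
        rw [pow_one, Subgroup.coe_pow, Subgroup.coe_one, ← hi, pow_two, ← (Commute.refl _).mul_zpow, X.sq, one_zpow]⟩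
    obtain ⟨P, hP⟩ := hp.exists_le_sylow
    obtain ⟨g, hg⟩ := MulAction.exists_smul_eq ↥(Subgroup.centralizer ({d} : Set G)) P S
    rw [← hg]
    show _ ∈ ((g • P : Sylow 2 ↥(Subgroup.centralizer ({d} : Set G))) : Subgroup ↥(Subgroup.centralizer ({d} : Set G)))
    rw [Sylow.coe_subgroup_smul]
    have := Subgroup.smul_mem_pointwise_smul _ (MulAut.conj g) _ (hP (Subgroup.mem_zpowers (⟨d, hdC⟩ : ↥(Subgroup.centralizer ({d} : Set G)))))
    rwa [MulAut.smul_def, MulAut.conj_apply, ← (X.central g).eq, mul_inv_cancel_right] at this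
  have hA0S : U62Base.A0 ψ W ≤ (S : Subgroup ↥(Subgroup.centralizer ({d} : Set G))) := by
    intro x hx
    have hx' : ψ x ∈ U62Base.spanW W := hx
    rw [U62Base.spanW_eq_closure hK P] at hx'
    obtain ⟨s, hs, e'⟩ := ((Subgroup.closure_le _).2 fun b hb => by
      rw [← hW] at hb; exact hb.2) hx'
    rcases X.fibre e' with rfl | rfl
    exacts [hs, mul_mem hs hdS]
  have hJ : Cfsg.thompsonSubgroupOf 2 (S : Subgroup ↥(Subgroup.centralizer ({d} : Set G))) = U62Base.A0 ψ W := by
    refine M22Cover.thompson _ hA0S ⟨⟨⟨fun x y => Subtype.ext (K'.comm_A0 x.2 y.2).eq⟩⟩,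
      fun x hx => by rw [pow_two]; exact K'.sq_A0 hx⟩ fun E hE hsq' hc hbig => ?_
    refine K'.eq_A0 hsq' hc (fun t ht b hb => ?_) (K'.card_A0 ▸ hbig)
    have htS : ψ t ∈ (S.mapSurjective X.surj : Subgroup _) := ⟨t, hE ht, rfl⟩
    rw [← hW] at hb ⊢
    exact ⟨U62Base.members_conj hK _ hb.1, mul_mem (mul_mem htS hb.2) (inv_mem htS)⟩
  have hAeq : A = U62Base.bigA ψ W := by
    rw [hA, hJ]; rfl
  subst hAeq
  refine ⟨K'.elementary, K'.card_bigA, K'.omega_ncard hq.1.commutator_eq_top hnwc, fun x hx y hy cx cy => ?_⟩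
  obtain ⟨m, hm, hmx⟩ := K'.transitive hx cx
  obtain ⟨n, hn, hny⟩ := K'.transitive hy cy
  refine ⟨n * m⁻¹, mul_mem hn (inv_mem hm), ?_⟩
  rw [← hmx, ← hny]
  group

end Cfsg.Agent.S5454
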