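import Cfsg.Statements.S5455
import Cfsg.Agent.Lib.M22Cover.Main
import Cfsg.Agent.Lib.M22Cover.Orbit
-- import your own Cfsg.Agent.* helpers here

set_option autoImplicit false
open Cfsg
open Cfsg.Agent.FischerM22 Cfsg.Agent.ThreeTrans

namespace Cfsg.Agent.S5455

/-- Let G be a finite group with an involution d whose centralizer C is quasisimple, such that C modulo the subgroup generated by d is of type M(22) with respect to some conjugacy class of 3-transpositions generating it and also has an involution whose own centralizer is quasisimple with quotient by it isomorphic to the projective special unitary group of dimension 6 over the field with four elements and which is not weakly closed in that centralizer; and suppose some conjugate of d other than d commutes with d. Let S be a Sylow 2-subgroup of C and A the Thompson subgroup of S, regarded as a subgroup of G. Then A is elementary abelian of order 2^11, exactly 23 conjugates of d lie in A, and the normalizer of A permutes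 them transitively. -/
theorem result {G : Type*} [Group G] [Finite G] (d : G) (hd : orderOf d = 2) (hq : Cfsg.IsQuasisimple ↥(Subgroup.centralizer ({d} : Set G))) [hzn : ((Subgroup.zpowers d).subgroupOf (Subgroup.centralizer ({d} : Set G))).Normal] (htype : ∃ E : Set (↥(Subgroup.centralizer ({d} : Set G)) ⧸ (Subgroup.zpowers d).subgroupOf (Subgroup.centralizer ({d} : Set G))), Cfsg.IsThreeTranspositionClass E ∧ Cfsg.IsOfTypeM22 _ E) (hinvol : ∃ d' : ↥(Subgroup.centralizer ({d} : Set G)) ⧸ (Subgroup.zpowers d).subgroupOf (Subgroup.centralizer ({d} : Set G)), orderOf d' = 2 ∧ Cfsg.IsQuasisimple ↥(Subgroup.centralizer ({d'} : Set _)) ∧ (∃ (K : Type) (_ : Field K) (_ : Fintype K), Fintype.card K = 4 ∧ ∃ _ : ((Subgroup.zpowers d').subgroupOf (Subgroup.centralizer ({d'} : Set _))).Normal, Nonempty (↥(Subgroup.centralizer ({d'} : Set _)) ⧸ (Subgroup.zpowers d').subgroupOf (Subgroup.centralizer ({d'} : Set _)) ≃* Cfsg.PSU 6 K 2)) ∧ ∃ g, g * d' * g⁻¹ ∈ Subgroup.centralizer ({d'} :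 Set _) ∧ g * d' * g⁻¹ ≠ d') (hnwc : ∃ g : G, g * d * g⁻¹ ∈ Subgroup.centralizer ({d} : Set G) ∧ g * d * g⁻¹ ≠ d) (S : Sylow 2 ↥(Subgroup.centralizer ({d} : Set G))) (A : Subgroup G) (hA : A = (Cfsg.thompsonSubgroupOf 2 (S : Subgroup ↥(Subgroup.centralizer ({d} : Set G)))).map (Subgroup.centralizer ({d} : Set G)).subtype) : Cfsg.IsElementaryAbelian 2 A ∧ Nat.card A = 2 ^ 11 ∧ Set.ncard {x : G | x ∈ A ∧ IsConj d x} = 23 ∧ ∀ x ∈ A, ∀ y ∈ A, IsConj d x → IsConj d y → ∃ n ∈ Subgroup.normalizer (A : Set G), n * x * n⁻¹ = y := by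
  set Z := (Subgroup.zpowers d).subgroupOf (Subgroup.centralizer ({d} : Set G)) with hZ
  obtain ⟨E, hE, h22⟩ := htype
  have hdC : d ∈ Subgroup.centralizer ({d} : Set G) := Subgroup.mem_centralizer_singleton_iff.2 rfl
  have hd2 : d * d = 1 := by rw [← sq]; exact hd ▸ pow_orderOf_eq_one d
  have hd1 : d ≠ 1 := fun e => by rw [e, orderOf_one] at hd; omega
  have memZ : ∀ h : ↥(Subgroup.centralizer ({d} : Set G)), h ∈ Z ↔ h = 1 ∨ h = ⟨d, hdC⟩ := by
    intro h
    rw [hZ, Subgroup.mem_subgroupOf, Subgroup.mem_zpowers_iff]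
    constructor
    · rintro ⟨i, hi⟩
      rcases Int.even_or_odd i with ⟨j, rfl⟩ | ⟨j, rfl⟩
      · refine Or.inl (Subtype.ext ?_)
        rw [Subgroup.coe_one, ← hi, zpow_add, ← (Commute.refl d).mul_zpow, hd2, one_zpow]
      · refine Or.inr (Subtype.ext ?_)
        show (h : G) = d
        rw [← hi, zpow_add_one, two_mul, zpow_add, ← (Commute.refl d).mul_zpow, hd2, one_zpow, one_mul]
    · rintro (rfl | rfl)
      · exact ⟨0, by simp⟩
      · exact ⟨1, by simp⟩
  have hcen : Z = Subgroup.center ↥(Subgroup.centralizer ({d} : Set G)) := by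
    refine le_antisymm (fun h hh => ?_) fun h hh => ?_
    · rcases (memZ h).1 hh with rfl | rfl
      · exact one_mem _
      · exact Subgroup.mem_center_iff.2 fun c =>
          Subtype.ext (Subgroup.mem_centralizer_singleton_iff.1 c.2)
    · rw [← QuotientGroup.eq_one_iff, ← Subgroup.mem_bot, ← h22.1]
      refine Subgroup.mem_center_iff.2 fun c => ?_
      induction c using QuotientGroup.induction_on with
      | _ c => exact congrArg QuotientGroup.mk (Subgroup.mem_center_iff.1 hh c)
  have hperf : commutator (↥(Subgroup.centralizer ({d} : Set G)) ⧸ Z) = ⊤ := by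
    have h := hq.1.commutator_eq_top
    have := congrArg (Subgroup.map (QuotientGroup.mk' Z)) h
    rw [commutator_def, Subgroup.map_commutator,
      Subgroup.map_top_of_surjective _ (QuotientGroup.mk'_surjective Z)] at this
    exact this
  have hsimp : IsSimpleGroup (↥(Subgroup.centralizer ({d} : Set G)) ⧸ Z) := by
    haveI : IsSimpleGroup (↥(Subgroup.centralizer ({d} : Set G)) ⧸ Subgroup.center ↥(Subgroup.centralizer ({d} : Set G))) := hq.2
    exact MulEquiv.isSimpleGroup (QuotientGroup.quotientMulEquivOfEq hcen)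
  have hsimp' : IsSimpleGroup ↥(commutator (↥(Subgroup.centralizer ({d} : Set G)) ⧸ Z)) :=
    MulEquiv.isSimpleGroup ((MulEquiv.subgroupCongr hperf).trans Subgroup.topEquiv)
  have hnonab : ∃ x y : ↥(commutator (↥(Subgroup.centralizer ({d} : Set G)) ⧸ Z)), x * y ≠ y * x := by
    by_contra hall
    push Not at hall
    obtain ⟨x, hx⟩ := exists_ne (1 : ↥(Subgroup.centralizer ({d} : Set G)) ⧸ Z)
    apply hx
    rw [← Subgroup.mem_bot, ← h22.1, Subgroup.mem_center_iff]
    intro y
    exact congrArg Subtype.val (hall ⟨y, hperf ▸ Subgroup.mem_top y⟩ ⟨x, hperf ▸ Subgroup.mem_top x⟩)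
  have F : Fi22Setup E := ⟨hE, centralCores_of_simple_derived hsimp' hnonab,
    connected_of_simple_derived hE hsimp' hnonab, h22⟩
  have X : M22Cover.Ext (QuotientGroup.mk' Z) (⟨d, hdC⟩ : ↥(Subgroup.centralizer ({d} : Set G))) :=
    ⟨QuotientGroup.mk'_surjective Z, fun e => hd1 (congrArg Subtype.val e), Subtype.ext hd2,
      fun h => Subtype.ext (Subgroup.mem_centralizer_singleton_iff.1 h.2).symm,
      fun h => (QuotientGroup.eq_one_iff h).trans (memZ h)⟩
  obtain ⟨hkey, -⟩ := M22Cover.lifts X F rfl hnwc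
  have : Fact (Nat.Prime 2) := ⟨Nat.prime_two⟩
  have hB := M22Cover.sylow_base F (S.mapSurjective X.surj)
  have K : M22Cover.Ctx (QuotientGroup.mk' Z) (⟨d, hdC⟩ : ↥(Subgroup.centralizer ({d} : Set G))) E
      {x | x ∈ E ∧ x ∈ (S.mapSurjective X.surj : Subgroup _)} := ⟨X, F, rfl, hB, hkey⟩
  -- the kernel lies in the Sylow subgroup
  have hdS : (⟨d, hdC⟩ : ↥(Subgroup.centralizer ({d} : Set G))) ∈ S := by
    have hp : IsPGroup 2 ↥(Subgroup.zpowers (⟨d, hdC⟩ : ↥(Subgroup.centralizer ({d} : Set G)))) := fun x => by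
      obtain ⟨i, hi⟩ := Subgroup.mem_zpowers_iff.1 x.2
      exact ⟨1, by
        refine Subtype.ext ?_
        rw [pow_one, Subgroup.coe_pow, Subgroup.coe_one, ← hi, pow_two, ← (Commute.refl _).mul_zpow, X.sq, one_zpow]⟩
    obtain ⟨P, hP⟩ := hp.exists_le_sylow
    obtain ⟨g, hg⟩ := MulAction.exists_smul_eq ↥(Subgroup.centralizer ({d} : Set G)) P S
    rw [← hg]
    show _ ∈ ((g • P : Sylow 2 ↥(Subgroup.centralizer ({d} : Set G))) : Subgroup ↥(Subgroup.centralizer ({d} : Set G)))
    rw [Sylow.coe_subgroup_smul]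
    have := Subgroup.smul_mem_pointwise_smul _ (MulAut.conj g) _ (hP (Subgroup.mem_zpowers (⟨d, hdC⟩ : ↥(Subgroup.centralizer ({d} : Set G)))))
    rwa [MulAut.smul_def, MulAut.conj_apply, ← (X.central g).eq, mul_inv_cancel_right] at this
  have hA0S : M22Cover.A0 (QuotientGroup.mk' Z) {x | x ∈ E ∧ x ∈ (S.mapSurjective X.surj : Subgroup _)}
      ≤ (S : Subgroup ↥(Subgroup.centralizer ({d} : Set G))) := by
    intro x hx
    obtain ⟨s, hs, e⟩ := ((Subgroup.closure_le _).2 fun b hb => hb.2) hx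
    rcases X.fibre e with rfl | rfl
    exacts [hs, mul_mem hs hdS]
  have hJ : Cfsg.thompsonSubgroupOf 2 (S : Subgroup ↥(Subgroup.centralizer ({d} : Set G)))
      = M22Cover.A0 (QuotientGroup.mk' Z) {x | x ∈ E ∧ x ∈ (S.mapSurjective X.surj : Subgroup _)} := by
    refine M22Cover.thompson _ hA0S ⟨⟨⟨fun x y => Subtype.ext (K.comm_A0 x.2 y.2).eq⟩⟩,
      fun x hx => by rw [pow_two]; exact K.sq_A0 hx⟩ fun P hP hsq hc hbig => ?_
    refine K.eq_A0 hsq hc (fun t ht b hb => ?_) (K.card_A0 ▸ hbig)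
    have htS : (QuotientGroup.mk' Z) t ∈ (S.mapSurjective X.surj : Subgroup _) := ⟨t, hP ht, rfl⟩
    exact ⟨F.conj_mem _ hb.1, mul_mem (mul_mem htS hb.2) (inv_mem htS)⟩
  have hAeq : A = M22Cover.bigA (QuotientGroup.mk' Z) {x | x ∈ E ∧ x ∈ (S.mapSurjective X.surj : Subgroup _)} := by
    rw [hA, hJ]; rfl
  subst hAeq
  refine ⟨K.elementary, K.card_bigA, K.omega_ncard hq.1.commutator_eq_top hnwc, fun x hx y hy cx cy => ?_⟩
  obtain ⟨m, hm, hmx⟩ := K.transitive hx cx
  obtain ⟨n, hn, hny⟩ := K.transitive hy cy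
  refine ⟨n * m⁻¹, mul_mem hn (inv_mem hm), ?_⟩
  rw [← hmx, ← hny]
  group

end Cfsg.Agent.S5455
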