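import Cfsg.Statements.S5458
import Cfsg.Agent.Lib.FischerM22.Base
-- import your own Cfsg.Agent.* helpers here

set_option autoImplicit false
open Cfsg

namespace Cfsg.Agent.S5458

/-- Let G be a finite group with trivial centre generated by a conjugation-invariant set D of 3-transpositions on which it acts primitively, of type M(22), and suppose G also has an involution whose centralizer is quasisimple with quotient by it the projective special unitary group of dimension 6 over the field with four elements and which is not weakly closed in that centralizer. Let T be a Sylow 2-subgroup of G. Then the subgroup generated by the members of D lying in T is the Thompson subgroup of T (generated by the elementary abelian subgroups of T of largest order). -/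
theorem result {G : Type*} [Group G] [Finite G] {D : Set G} (hD : Cfsg.IsThreeTranspositionGroup D) (hprim : Cfsg.IsPrimitiveUnderConj D) (h22 : Cfsg.IsOfTypeM22 G D) (hM : ∃ d : G, orderOf d = 2 ∧ Cfsg.IsQuasisimple ↥(Subgroup.centralizer ({d} : Set G)) ∧ (∃ (_ : ((Subgroup.zpowers d).subgroupOf (Subgroup.centralizer ({d} : Set G))).Normal) (K : Type) (_ : Field K) (_ : Fintype K), Fintype.card K = 4 ∧ Nonempty (↥(Subgroup.centralizer ({d} : Set G)) ⧸ (Subgroup.zpowers d).subgroupOf (Subgroup.centralizer ({d} : Set G)) ≃* Cfsg.PSU 6 K 2)) ∧ ∃ g : G, g * d * g⁻¹ ∈ Subgroup.centralizer ({d} : Set G) ∧ g * d * g⁻¹ ≠ d) (T : Sylow 2 G) : Subgroup.closure {x : G | x ∈ D ∧ x ∈ (T : Subgroup G)} = Cfsg.thompsonSubgroupOf 2 (T : Subgroup G) := by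
  have S := Cfsg.Agent.FischerM22.setup_of_primitive hD hprim h22
  have hcls := S.cls
  obtain ⟨B₀, hB₀D, -, hB₀c, hB₀n⟩ := Cfsg.Agent.FischerM22.exists_commuting S
  have hB₀ : Cfsg.Agent.FischerM22.IsBase D B₀ := ⟨hB₀D, hB₀c, hB₀n⟩
  have : Fact (Nat.Prime 2) := ⟨Nat.prime_two⟩
  obtain ⟨P, hP⟩ := IsPGroup.exists_le_sylow (show IsPGroup 2 ↥(Subgroup.closure B₀) from fun x =>
    ⟨1, by rw [pow_one, pow_two]; exact Subtype.ext (hB₀.span_sq S x.2)⟩)
  obtain ⟨g, hg⟩ := MulAction.exists_smul_eq G P T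
  have hmemT : ∀ x ∈ (P : Subgroup G), g * x * g⁻¹ ∈ (T : Subgroup G) := fun x hx => by
    rw [← hg, Sylow.coe_subgroup_smul]
    exact Subgroup.smul_mem_pointwise_smul x (MulAut.conj g) _ hx
  set B := {x : G | x ∈ D ∧ x ∈ (T : Subgroup G)} with hBdef
  have hcomm : ∀ a ∈ B, ∀ b ∈ B, Commute a b := by
    intro a ha b hb
    by_contra hn
    obtain ⟨k, hk⟩ := (IsPGroup.iff_orderOf.1 T.isPGroup') ⟨a * b, mul_mem ha.2 hb.2⟩
    have h3 : orderOf (a * b) = 3 := by
      have : Fact (Nat.Prime 3) := ⟨Nat.prime_three⟩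
      refine orderOf_eq_prime (Cfsg.Agent.ThreeTrans.pow_three_of_not_commute hcls.1 ha.1 hb.1 hn) fun e => hn ?_
      rw [← eq_inv_of_mul_eq_one_left e |>.trans (Cfsg.Agent.ThreeTrans.inv_eq hcls.1 hb.1) |>.symm]
    rw [← Subgroup.orderOf_coe, h3] at hk
    match k, hk with
    | 0, hk => simp at hk
    | k + 1, hk => rw [pow_succ] at hk; omega
  have hB : Cfsg.Agent.FischerM22.IsBase D B := by
    refine ⟨fun x hx => hx.1, hcomm,
      le_antisymm (Cfsg.Agent.FischerM22.commuting_le S (fun x hx => hx.1) hcomm) ?_⟩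
    rw [← hB₀n, ← Set.ncard_image_of_injective B₀ (MulAut.conj g).injective]
    refine Set.ncard_le_ncard ?_ (Set.toFinite _)
    rintro _ ⟨x, hx, rfl⟩
    exact ⟨S.conj_mem g (hB₀D hx), hmemT x (hP (Subgroup.subset_closure hx))⟩
  have hnorm : ∀ t ∈ (T : Subgroup G), ∀ b ∈ B, t * b * t⁻¹ ∈ B := fun t ht b hb =>
    ⟨S.conj_mem t hb.1, mul_mem (mul_mem ht hb.2) (inv_mem ht)⟩
  have hle : Subgroup.closure B ≤ (T : Subgroup G) := (Subgroup.closure_le _).2 fun x hx => hx.2
  have hcard : Nat.card ↥((Subgroup.closure B).subgroupOf (T : Subgroup G)) = 1024 := by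
    rw [Nat.card_congr (Subgroup.subgroupOfEquivOfLe hle).toEquiv, hB.span_card S]
  have key : ∀ A : Subgroup ↥(T : Subgroup G), Cfsg.IsElementaryAbelian 2 A → 1024 ≤ Nat.card A →
      A = (Subgroup.closure B).subgroupOf (T : Subgroup G) := by
    intro A hA hbig
    have e := hB.abelian_eq S (A := A.map (T : Subgroup G).subtype) ?_ ?_ ?_ ?_
    · rw [← e, Subgroup.subgroupOf, Subgroup.comap_map_eq_self_of_injective Subtype.val_injective]
    · rintro _ ⟨x, hx, rfl⟩
      have := congrArg Subtype.val (hA.2 x hx)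
      simpa [pow_two] using this
    · rintro _ ⟨x, hx, rfl⟩ _ ⟨y, hy, rfl⟩
      have := hA.1
      exact congrArg Subtype.val (congrArg Subtype.val (mul_comm' (⟨x, hx⟩ : A) ⟨y, hy⟩))
    · rintro _ ⟨x, -, rfl⟩
      exact hnorm _ x.2
    · rwa [Nat.card_congr (A.equivMapOfInjective _ Subtype.val_injective).symm.toEquiv]
  have hEA : Cfsg.IsElementaryAbelian 2 ((Subgroup.closure B).subgroupOf (T : Subgroup G)) :=
    ⟨⟨⟨fun x y => Subtype.ext (Subtype.ext (hB.comm_span x.2 y.2))⟩⟩,
      fun x hx => Subtype.ext (by simpa [pow_two] using hB.span_sq S hx)⟩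
  have hset : Cfsg.maxElementaryAbelianSubgroups 2 ↥(T : Subgroup G)
      = {(Subgroup.closure B).subgroupOf (T : Subgroup G)} := by
    ext A
    constructor
    · exact fun hA => key A hA.1 (hcard ▸ hA.2 _ hEA)
    · rintro rfl
      refine ⟨hEA, fun A hA => ?_⟩
      by_contra h
      exact h (le_of_eq (by rw [key A hA (by omega)]))
  rw [Cfsg.thompsonSubgroupOf, Cfsg.thompsonSubgroup, hset, sSup_singleton,
    Subgroup.map_subgroupOf_eq_of_le hle]

end Cfsg.Agent.S5458
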