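import Cfsg.Statements.S5459
import Cfsg.Agent.Lib.LargeExtraspecial.Basic

set_option autoImplicit false
open Cfsg
open scoped commutatorElement

namespace Cfsg.Agent.S5459

/-- Let G be a finite group with a quasisimple normal subgroup L and an involution d such that G is generated by L and d, the centre of L has odd order, and d inverts every element of the centre of L. If the commuting graph on the conjugacy class of the image of d in G modulo the centre of L is connected, then the commuting graph on the conjugacy class of d is connected. -/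
theorem result {G : Type*} [Group G] [Finite G] (L : Subgroup G) [L.Normal] (hL : Cfsg.IsQuasisimple ↥L) (d : G) (hd : orderOf d = 2) (hgen : L ⊔ Subgroup.zpowers d = ⊤) (hodd : Odd (Nat.card ↥(Subgroup.center ↥L))) (hinv : ∀ c ∈ (Subgroup.center ↥L).map L.subtype, d * c * d⁻¹ = c⁻¹) [hn : ((Subgroup.center ↥L).map L.subtype).Normal] (hconn : (Cfsg.commutingGraph (conjugatesOf (QuotientGroup.mk d : G ⧸ (Subgroup.center ↥L).map L.subtype))).Connected) : (Cfsg.commutingGraph (conjugatesOf d)).Connected := by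
  set Z : Subgroup G := (Subgroup.center ↥L).map L.subtype with hZ
  have hdd : d * d = 1 := by rw [← sq, ← hd, pow_orderOf_eq_one]
  have hZL : ∀ c ∈ Z, ∀ l ∈ L, c * l = l * c := by
    rintro _ ⟨c, hc, rfl⟩ l hl
    exact congrArg Subtype.val (Subgroup.mem_center_iff.mp hc ⟨l, hl⟩).symm
  set K := conjugatesOf d with hK
  have hdK : d ∈ K := mem_conjugatesOf_self
  have hKmem : ∀ {x : G}, x ∈ K → ∀ g : G, g * x * g⁻¹ ∈ K := fun {x} hx g =>
    (show IsConj d x from hx).trans (isConj_iff.mpr ⟨g, rfl⟩)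
  let Γ := Cfsg.commutingGraph K
  -- conjugation acts on the graph
  let act : ∀ g : G, Γ →g Γ := fun g =>
    { toFun := fun x => ⟨g * x * g⁻¹, hKmem x.2 g⟩
      map_rel' := by
        intro x y hxy
        obtain ⟨hne, hxy⟩ := hxy
        refine ⟨fun h => hne (Subtype.ext ?_), ?_⟩
        · simpa using congrArg Subtype.val h
        · rcases hxy with h | h
          · left; show Commute (g * x * g⁻¹) (g * y * g⁻¹); rwa [Commute.conj_iff]
          · right; show Commute (g * y * g⁻¹) (g * x * g⁻¹); rwa [Commute.conj_iff] }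
  let d₁ : K := ⟨d, hdK⟩
  have hcoset : ∀ g : G, ∀ x : K, Γ.Reachable d₁ x → Γ.Reachable ⟨g * d * g⁻¹, hKmem hdK g⟩ ⟨g * x * g⁻¹, hKmem x.2 g⟩ :=
    fun g x h => h.map (act g)
  let S : Subgroup G :=
    { carrier := {g | Γ.Reachable d₁ ⟨g * d * g⁻¹, hKmem hdK g⟩}
      one_mem' := by
        show Γ.Reachable _ _
        convert SimpleGraph.Reachable.refl d₁
        simp
      mul_mem' := by
        intro g h hg hh
        refine SimpleGraph.Reachable.trans hg ?_
        convert hcoset g _ hh using 2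
        simp [mul_assoc]
      inv_mem' := by
        intro g hg
        have := hcoset g⁻¹ _ hg
        show Γ.Reachable _ _
        convert this.symm using 2 <;> simp [mul_assoc, d₁] }
  obtain ⟨m, hm⟩ := hodd
  have hcard : ∀ e ∈ Z, e ^ (2 * m + 1) = 1 := by
    rintro _ ⟨e, he, rfl⟩
    rw [← map_pow]
    have : (⟨e, he⟩ : Subgroup.center L) ^ (2 * m + 1) = 1 := by rw [← hm]; exact pow_card_eq_one'
    have := congrArg Subtype.val this
    simp only [SubgroupClass.coe_pow, OneMemClass.coe_one] at this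
    rw [this]; simp
  -- lifting of paths
  have hlift : ∀ x : K, ∀ q : K, Commute (QuotientGroup.mk (x : G) : G ⧸ Z) (QuotientGroup.mk (q : G)) →
      ∃ c ∈ Z, ∃ hm : c * (q : G) * c⁻¹ ∈ K, Γ.Reachable x ⟨c * (q : G) * c⁻¹, hm⟩ := by
    intro x q hq
    obtain ⟨g, hg⟩ := isConj_iff.mp (show IsConj d (x : G) from x.2)
    obtain ⟨g', hg'⟩ := isConj_iff.mp (show IsConj d (q : G) from q.2)
    set f : G := g⁻¹ * q * g with hf
    -- work with d and f
    have hcz : d * f * d⁻¹ * f⁻¹ ∈ Z := by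
      have h1 : (QuotientGroup.mk (x * q * (x : G)⁻¹ * (q : G)⁻¹) : G ⧸ Z) = 1 := by
        simp only [QuotientGroup.mk_mul, QuotientGroup.mk_inv]
        rw [hq.eq]; group
      rw [QuotientGroup.eq_one_iff] at h1
      have := hn.conj_mem _ h1 g⁻¹
      convert this using 1
      rw [hf, ← hg]; group
    set c := d * f * d⁻¹ * f⁻¹ with hc
    have hfinv : ∀ e ∈ Z, f * e * f⁻¹ = e⁻¹ := by
      intro e he
      set u := g⁻¹ * g' with hu
      have hfu : f = u * d * u⁻¹ := by rw [hf, hu, ← hg']; group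
      have he' := hinv _ (hn.conj_mem e he u⁻¹)
      rw [hfu]
      calc u * d * u⁻¹ * e * (u * d * u⁻¹)⁻¹ = u * (d * (u⁻¹ * e * u⁻¹⁻¹) * d⁻¹) * u⁻¹ := by group
        _ = u * (u⁻¹ * e * u⁻¹⁻¹)⁻¹ * u⁻¹ := by rw [he']
        _ = e⁻¹ := by group
    -- e = c ^ k with f ↦ e f e⁻¹ = e² f commuting with d
    set e := c ^ ((m + 1) * (m + 1)) with he
    have heZ : e ∈ Z := pow_mem hcz _
    have hefe : e * f * e⁻¹ = e * e * f := by
      have := hfinv e heZ
      calc e * f * e⁻¹ = e * (f * e * f⁻¹)⁻¹ * f := by group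
        _ = e * e * f := by rw [this, inv_inv]
    have h4 : e * e * (e * e) = c := by
      rw [he, ← pow_add, ← pow_add]
      rw [show (m + 1) * (m + 1) + (m + 1) * (m + 1) + ((m + 1) * (m + 1) + (m + 1) * (m + 1)) =
        (2 * m + 1) * (2 * m + 3) + 1 by ring, pow_succ, pow_mul, hcard c hcz, one_pow, one_mul]
    have hcom : Commute d (e * f * e⁻¹) := by
      rw [hefe]
      have h3 : d * f * d⁻¹ = c * f := by rw [hc]; group
      have h5 : d * (e * e) * d⁻¹ = (e * e)⁻¹ := hinv _ (mul_mem heZ heZ)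
      show d * (e * e * f) = e * e * f * d
      calc d * (e * e * f) = (d * (e * e) * d⁻¹) * (d * f * d⁻¹) * d := by group
        _ = (e * e)⁻¹ * (c * f) * d := by rw [h3, h5]
        _ = e * e * f * d := by rw [← h4]; simp [mul_assoc]
    refine ⟨g * e * g⁻¹, hn.conj_mem _ heZ g, hKmem q.2 _, ?_⟩
    by_cases heq : (⟨g * e * g⁻¹ * (q : G) * (g * e * g⁻¹)⁻¹, hKmem q.2 _⟩ : K) = x
    · rw [heq]
    refine SimpleGraph.Adj.reachable ⟨fun h => heq h.symm, Or.inl ?_⟩
    have := (Commute.conj_iff g).mpr hcom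
    convert this using 1
    · exact hg.symm
    · show g * e * g⁻¹ * (q : G) * (g * e * g⁻¹)⁻¹ = g * (e * f * e⁻¹) * g⁻¹
      rw [hf]; group
  -- every class upstairs meets the component of d
  have hreach : ∀ v w : conjugatesOf (QuotientGroup.mk d : G ⧸ Z),
      (Cfsg.commutingGraph (conjugatesOf (QuotientGroup.mk d : G ⧸ Z))).Walk v w →
      (∃ x : K, Γ.Reachable d₁ x ∧ (QuotientGroup.mk (x : G) : G ⧸ Z) = v) →
      ∃ x : K, Γ.Reachable d₁ x ∧ (QuotientGroup.mk (x : G) : G ⧸ Z) = w := by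
    intro v w p
    induction p with
    | nil => exact id
    | @cons a b c hab _ ih =>
      rintro ⟨x, hx, hxa⟩
      apply ih
      obtain ⟨u, hu⟩ := isConj_iff.mp (show IsConj (QuotientGroup.mk d : G ⧸ Z) b from b.2)
      obtain ⟨g, rfl⟩ := QuotientGroup.mk_surjective u
      have hq : Commute (QuotientGroup.mk (x : G) : G ⧸ Z) (QuotientGroup.mk (g * d * g⁻¹)) := by
        rw [hxa, QuotientGroup.mk_mul, QuotientGroup.mk_mul, QuotientGroup.mk_inv, hu]
        rcases hab.2 with h | h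
        · exact h
        · exact h.symm
      obtain ⟨c', hc', hmem, hr⟩ := hlift x ⟨g * d * g⁻¹, hKmem hdK g⟩ hq
      refine ⟨_, hx.trans hr, ?_⟩
      show (QuotientGroup.mk (c' * (g * d * g⁻¹) * c'⁻¹) : G ⧸ Z) = b
      simp only [QuotientGroup.mk_mul, QuotientGroup.mk_inv, (QuotientGroup.eq_one_iff c').mpr hc', hu]
      simp
  have hcover : ∀ g : G, ∃ e ∈ Z, e * g ∈ S := by
    intro g
    have hmem : (QuotientGroup.mk (g * d * g⁻¹) : G ⧸ Z) ∈ conjugatesOf (QuotientGroup.mk d : G ⧸ Z) :=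
      isConj_iff.mpr ⟨QuotientGroup.mk g, by simp⟩
    obtain ⟨p⟩ := hconn.preconnected ⟨_, mem_conjugatesOf_self⟩ ⟨_, hmem⟩
    obtain ⟨x, hx, hxe⟩ := hreach _ _ p ⟨d₁, SimpleGraph.Reachable.refl d₁, rfl⟩
    set z := (x : G) * (g * d * g⁻¹)⁻¹ with hz
    have hzZ : z ∈ Z := by
      rw [← QuotientGroup.eq_one_iff, hz, QuotientGroup.mk_mul, QuotientGroup.mk_inv, hxe]
      simp
    refine ⟨z ^ (m + 1), pow_mem hzZ _, ?_⟩
    show Γ.Reachable d₁ _
    convert hx
    show z ^ (m + 1) * g * d * (z ^ (m + 1) * g)⁻¹ = x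
    set e := z ^ (m + 1) with he
    have hee : e * e = z := by
      rw [he, ← pow_add, show m + 1 + (m + 1) = 2 * m + 1 + 1 by ring, pow_succ, hcard z hzZ, one_mul]
    have hei := hinv _ (hn.conj_mem e (pow_mem hzZ _) g⁻¹)
    calc e * g * d * (e * g)⁻¹
        = e * g * (d * (g⁻¹ * e * g⁻¹⁻¹) * d⁻¹)⁻¹ * d * g⁻¹ := by group
      _ = e * g * (g⁻¹ * e * g⁻¹⁻¹) * d * g⁻¹ := by rw [hei, inv_inv]
      _ = (e * e) * (g * d * g⁻¹) := by group
      _ = x := by rw [hee, hz]; group
  have hdS : d ∈ S := by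
    show Γ.Reachable _ _
    convert SimpleGraph.Reachable.refl d₁
    simp
  have hcomm : commutator L ≤ S.comap L.subtype := by
    rw [commutator_def, Subgroup.commutator_le]
    rintro a - b -
    obtain ⟨e, he, hea⟩ := hcover (a : G)
    obtain ⟨e', he', heb⟩ := hcover (b : G)
    have heL : e ∈ L := Subgroup.map_subtype_le _ he
    have he'L : e' ∈ L := Subgroup.map_subtype_le _ he'
    show ((⁅a, b⁆ : L) : G) ∈ S
    have key : ((⁅a, b⁆ : L) : G) = ⁅e * (a : G), e' * (b : G)⁆ := by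
      simp only [commutatorElement_def, Subgroup.coe_mul, Subgroup.coe_inv, mul_inv_rev]
      have ca : ∀ l ∈ L, e * l = l * e := hZL e he
      have cb : ∀ l ∈ L, e' * l = l * e' := hZL e' he'
      symm
      calc e * (a : G) * (e' * b) * ((a : G)⁻¹ * e⁻¹) * ((b : G)⁻¹ * e'⁻¹)
          = e * ((a : G) * e') * ((b : G) * (a : G)⁻¹) * e⁻¹ * (b : G)⁻¹ * e'⁻¹ := by group
        _ = e * (e' * (a : G)) * ((b : G) * (a : G)⁻¹) * e⁻¹ * (b : G)⁻¹ * e'⁻¹ := by rw [cb a a.2]
        _ = e * (e' * ((a : G) * (b : G) * (a : G)⁻¹)) * e⁻¹ * (b : G)⁻¹ * e'⁻¹ := by group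
        _ = (e' * ((a : G) * (b : G) * (a : G)⁻¹)) * e * e⁻¹ * (b : G)⁻¹ * e'⁻¹ := by
            rw [ca _ (mul_mem he'L (mul_mem (mul_mem a.2 b.2) (inv_mem a.2)))]
        _ = e' * ((a : G) * (b : G) * (a : G)⁻¹ * (b : G)⁻¹) * e'⁻¹ := by group
        _ = ((a : G) * (b : G) * (a : G)⁻¹ * (b : G)⁻¹) * e' * e'⁻¹ := by
            rw [cb _ (mul_mem (mul_mem (mul_mem a.2 b.2) (inv_mem a.2)) (inv_mem b.2))]
        _ = _ := by group
    rw [key, commutatorElement_def]
    exact mul_mem (mul_mem (mul_mem hea heb) (inv_mem hea)) (inv_mem heb)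
  have hLS : L ≤ S := fun l hl => by
    have : (⟨l, hl⟩ : L) ∈ commutator L := by rw [hL.1.commutator_eq_top]; trivial
    exact hcomm this
  have hS : ∀ g : G, g ∈ S := fun g =>
    (show (⊤ : Subgroup G) ≤ S from hgen ▸ sup_le hLS (Subgroup.zpowers_le.mpr hdS)) (Subgroup.mem_top g)
  have hall : ∀ x : K, Γ.Reachable d₁ x := by
    intro x
    obtain ⟨g, hg⟩ := isConj_iff.mp (show IsConj d (x : G) from x.2)
    have := hS g
    convert show Γ.Reachable d₁ _ from this using 1
    exact Subtype.ext hg.symm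
  have : Nonempty K := ⟨d₁⟩
  exact ⟨fun x y => (hall x).symm.trans (hall y)⟩

end Cfsg.Agent.S5459
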