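import Cfsg.Statements.S5462
import Cfsg.Agent.Lib.FischerM22.AutFix
import Cfsg.Agent.Lib.FischerM22.Unique

set_option autoImplicit false
open Cfsg

namespace Cfsg.Agent.S5462

/-- Let G be a finite group with trivial centre generated by a conjugation-invariant set D of 3-transpositions on which it acts primitively, such that for some d in D the subgroup generated by the members of D other than d commuting with d has central largest normal 2- and 3-subgroups, and suppose G with D is of type M(22). Then every automorphism of G of order 2 fixes some member of D. -/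
theorem result {G : Type*} [Group G] [Finite G] {D : Set G} (hD : Cfsg.IsThreeTranspositionGroup D) (hprim : Cfsg.IsPrimitiveUnderConj D) (d₀ : G) (hd₀ : d₀ ∈ D) (h3 : Cfsg.pCore 3 ↥(Subgroup.closure {y : G | y ∈ D ∧ y ≠ d₀ ∧ Commute d₀ y}) ≤ Subgroup.center ↥(Subgroup.closure {y : G | y ∈ D ∧ y ≠ d₀ ∧ Commute d₀ y})) (h2 : Cfsg.pCore 2 ↥(Subgroup.closure {y : G | y ∈ D ∧ y ≠ d₀ ∧ Commute d₀ y}) ≤ Subgroup.center ↥(Subgroup.closure {y : G | y ∈ D ∧ y ≠ d₀ ∧ Commute d₀ y})) (h22 : Cfsg.IsOfTypeM22 G D) (φ : MulAut G) (hφ : orderOf φ = 2) : ∃ d ∈ D, φ d = d := by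
  have S := Cfsg.Agent.FischerM22.setup_of_primitive hD hprim h22
  have hinv : ∀ x, φ (φ x) = x := fun x => by
    have h := pow_orderOf_eq_one φ
    rw [hφ, pow_two] at h
    exact DFunLike.congr_fun h x
  have hcls : Cfsg.IsThreeTranspositionClass (φ '' D) := by
    obtain ⟨⟨ho, hp⟩, ⟨d, hd, hconj⟩, hgen⟩ := S.cls
    refine ⟨⟨?_, ?_⟩, ⟨φ d, ⟨d, hd, rfl⟩, ?_⟩, ?_⟩
    · rintro _ ⟨x, hx, rfl⟩
      rw [MulEquiv.orderOf_eq]; exact ho x hx
    · rintro _ ⟨x, hx, rfl⟩ _ ⟨y, hy, rfl⟩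
      rw [← map_mul, ← map_pow, ← map_pow, map_eq_one_iff φ φ.injective, map_eq_one_iff φ φ.injective]
      exact hp x hx y hy
    · ext x
      obtain ⟨x, rfl⟩ := φ.surjective x
      rw [φ.injective.mem_set_image, hconj]; simp only [conjugatesOf, Set.mem_ofPred_eq]; rw [isConj_iff,
        isConj_iff]
      refine ⟨fun ⟨g, hg⟩ => ⟨φ g, by rw [← map_inv, ← map_mul, ← map_mul, hg]⟩, fun ⟨g, hg⟩ => ⟨φ g, ?_⟩⟩
      apply φ.injective
      rw [map_mul, map_mul, map_inv, hinv, hg]
    · have h := MonoidHom.map_closure φ.toMonoidHom D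
      rw [hgen, Subgroup.map_top_of_surjective _ φ.surjective] at h
      exact h.symm
  have himg := Cfsg.Agent.FischerM22.class_unique S hcls
  refine Cfsg.Agent.FischerM22.involution_fixes S φ hinv fun x => ⟨fun h => ?_, fun h => ?_⟩
  · rw [← hinv x]; exact himg.subset ⟨φ x, h, rfl⟩
  · exact himg.subset ⟨x, h, rfl⟩

end Cfsg.Agent.S5462
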