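import Cfsg.Statements.S5463
import Cfsg.Agent.Lib.ThreeTransSU.Hexad

set_option autoImplicit false
open Cfsg

namespace Cfsg.Agent.S5463

open Cfsg.Agent.ThreeTrans Cfsg.Agent.ThreeTransSU


/-- Let G be a finite group with trivial centre generated by a conjugation-invariant set D of 3-transpositions on which it acts primitively, such that for some d in D the subgroup generated by the members of D other than d commuting with d has central largest normal 2- and 3-subgroups, and suppose G with D is of type M(22). A product j of two distinct commuting members of D determines the pair: any two 2-element sets of commuting members of D with product j coincide. A product j of three distinct pairwise commuting members of D arises from exactly two such 3-element sets. -/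
theorem result {G : Type*} [Group G] [Finite G] {D : Set G} (hD : Cfsg.IsThreeTranspositionGroup D) (hprim : Cfsg.IsPrimitiveUnderConj D) (d₀ : G) (hd₀ : d₀ ∈ D) (h3 : Cfsg.pCore 3 ↥(Subgroup.closure {y : G | y ∈ D ∧ y ≠ d₀ ∧ Commute d₀ y}) ≤ Subgroup.center ↥(Subgroup.closure {y : G | y ∈ D ∧ y ≠ d₀ ∧ Commute d₀ y})) (h2 : Cfsg.pCore 2 ↥(Subgroup.closure {y : G | y ∈ D ∧ y ≠ d₀ ∧ Commute d₀ y}) ≤ Subgroup.center ↥(Subgroup.closure {y : G | y ∈ D ∧ y ≠ d₀ ∧ Commute d₀ y})) (h22 : Cfsg.IsOfTypeM22 G D) : (∀ (j : G) (l l' : List G), (l.Nodup ∧ l.length = 2 ∧ (∀ a ∈ l, a ∈ D) ∧ (∀ a ∈ l, ∀ b ∈ l, Commute a b) ∧ l.prod = j) → (l'.Nodup ∧ l'.length = 2 ∧ (∀ a ∈ l', a ∈ D) ∧ (∀ a ∈ l', ∀ b ∈ l', Commute a b) ∧ l'.prod = j) → (∀ x : G, x ∈ l ↔ x ∈ l')) ∧ ∀ (j : G) (l₀ : List G), (l₀.Nodup ∧ l₀.length = 3 ∧ (∀ a ∈ l₀, a ∈ D) ∧ (∀ a ∈ l₀, ∀ b ∈ l₀, Commute a b) ∧ l₀.prod = j) → ∃ l₁ l₂ : List G, (l₁.Nodup ∧ l₁.length = 3 ∧ (∀ a ∈ l₁, a ∈ D) ∧ (∀ a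 ∈ l₁, ∀ b ∈ l₁, Commute a b) ∧ l₁.prod = j) ∧ (l₂.Nodup ∧ l₂.length = 3 ∧ (∀ a ∈ l₂, a ∈ D) ∧ (∀ a ∈ l₂, ∀ b ∈ l₂, Commute a b) ∧ l₂.prod = j) ∧ ¬ (∀ x : G, x ∈ l₁ ↔ x ∈ l₂) ∧ ∀ l : List G, (l.Nodup ∧ l.length = 3 ∧ (∀ a ∈ l, a ∈ D) ∧ (∀ a ∈ l, ∀ b ∈ l, Commute a b) ∧ l.prod = j) → ((∀ x : G, x ∈ l ↔ x ∈ l₁) ∨ (∀ x : G, x ∈ l ↔ x ∈ l₂)) := by
  obtain ⟨d, hd, hs⟩ := exists_simple_of_M22 h22
  have hne := adj_nonempty_of_simple_quotient hs
  obtain ⟨hcl, hcc⟩ := mtype_setup hD hprim hd hne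
  have hconn : ConnectedComm D := by
    obtain ⟨y, hy⟩ := hne
    exact connected_of_primitive hD hprim ⟨d, hd, y, hy.1, hy.2.1.symm, hy.2.2⟩
  have pairs : ∀ (j : G) (l l' : List G), (l.Nodup ∧ l.length = 2 ∧ (∀ a ∈ l, a ∈ D) ∧
      (∀ a ∈ l, ∀ b ∈ l, Commute a b) ∧ l.prod = j) → (l'.Nodup ∧ l'.length = 2 ∧ (∀ a ∈ l', a ∈ D) ∧
      (∀ a ∈ l', ∀ b ∈ l', Commute a b) ∧ l'.prod = j) → (∀ x : G, x ∈ l ↔ x ∈ l') := by
    rintro j l l' ⟨hn, hlen, hm, hc, hp⟩ ⟨hn', hlen', hm', hc', hp'⟩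
    obtain ⟨a, b, rfl⟩ := List.length_eq_two.1 hlen
    obtain ⟨c, e, rfl⟩ := List.length_eq_two.1 hlen'
    have hab : a ≠ b := by simpa using hn
    have hce : c ≠ e := by simpa using hn'
    have h : a * b = c * e := by simpa using hp.trans hp'.symm
    have c1 : Commute a b := hc a (by simp) b (by simp)
    have c2 : Commute c e := hc' c (by simp) e (by simp)
    intro x
    simp only [List.mem_cons, List.not_mem_nil, or_false]
    rcases pair_unique hcl hcc.1 (hm a (by simp)) (hm b (by simp)) (hm' c (by simp)) (hm' e (by simp))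
      hab hce c1 c2 h with e1 | e1
    · subst e1
      rw [mul_left_cancel h]
    · subst e1
      rw [c2.eq] at h
      rw [mul_left_cancel h]
      exact or_comm
  refine ⟨pairs, fun j l₀ h₀ => ?_⟩
  -- two triples with a common member are equal
  have shared : ∀ l l' : List G, (l.Nodup ∧ l.length = 3 ∧ (∀ a ∈ l, a ∈ D) ∧
      (∀ a ∈ l, ∀ b ∈ l, Commute a b) ∧ l.prod = j) → (l'.Nodup ∧ l'.length = 3 ∧ (∀ a ∈ l', a ∈ D) ∧
      (∀ a ∈ l', ∀ b ∈ l', Commute a b) ∧ l'.prod = j) → ∀ x, x ∈ l → x ∈ l' →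
      ∀ y : G, y ∈ l ↔ y ∈ l' := by
    classical
    intro l l' ⟨hn, hlen, hm, hc, hp⟩ ⟨hn', hlen', hm', hc', hp'⟩ x hx hx' y
    have e1 : x * (l.erase x).prod = j := by
      rw [← hp, ← List.prod_cons]
      exact ((List.perm_cons_erase hx).symm).prod_eq'
        (List.pairwise_of_forall_mem_list fun p hp q hq => hc p
          ((List.perm_cons_erase hx).symm.subset hp) q ((List.perm_cons_erase hx).symm.subset hq))
    have e2 : x * (l'.erase x).prod = j := by
      rw [← hp', ← List.prod_cons]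
      exact ((List.perm_cons_erase hx').symm).prod_eq'
        (List.pairwise_of_forall_mem_list fun p hp q hq => hc' p
          ((List.perm_cons_erase hx').symm.subset hp) q ((List.perm_cons_erase hx').symm.subset hq))
    have h3 := pairs _ (l.erase x) (l'.erase x)
      ⟨hn.erase x, by rw [List.length_erase_of_mem hx, hlen],
        fun a ha => hm a (List.mem_of_mem_erase ha),
        fun a ha b hb => hc a (List.mem_of_mem_erase ha) b (List.mem_of_mem_erase hb), rfl⟩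
      ⟨hn'.erase x, by rw [List.length_erase_of_mem hx', hlen'],
        fun a ha => hm' a (List.mem_of_mem_erase ha),
        fun a ha b hb => hc' a (List.mem_of_mem_erase ha) b (List.mem_of_mem_erase hb),
        (mul_left_cancel (e1.trans e2.symm)).symm⟩
    rw [(List.perm_cons_erase hx).mem_iff, (List.perm_cons_erase hx').mem_iff, List.mem_cons,
      List.mem_cons, h3 y]
  obtain ⟨hn, hlen, hm, hc, hp⟩ := id h₀
  obtain ⟨a, b, c, rfl⟩ := List.length_eq_three.1 hlen
  simp only [List.nodup_cons, List.mem_cons, List.not_mem_nil, or_false, not_or] at hn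
  have ha : a ∈ D := hm a (by simp)
  have hb : b ∈ D := hm b (by simp)
  have hcD : c ∈ D := hm c (by simp)
  have cab : Commute a b := hc a (by simp) b (by simp)
  have cac : Commute a c := hc a (by simp) c (by simp)
  have cbc : Commute b c := hc b (by simp) c (by simp)
  obtain ⟨u, v, w, hnd, hmem, heq⟩ :=
    exists_other_triple hcl hcc hconn h22 ha hb hcD hn.1.1 hn.1.2 hn.2.1 cab cac cbc
  have hp' : a * b * c = j := by
    rw [← hp]; simp [mul_assoc]
  have sub : ∀ p ∈ [u, v, w], p ∈ [a, b, c, u, v, w] := fun p hp =>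
    List.mem_cons_of_mem _ (List.mem_cons_of_mem _ (List.mem_cons_of_mem _ hp))
  have h₂ : [u, v, w].Nodup ∧ [u, v, w].length = 3 ∧ (∀ a ∈ [u, v, w], a ∈ D) ∧
      (∀ a ∈ [u, v, w], ∀ b ∈ [u, v, w], Commute a b) ∧ [u, v, w].prod = j :=
    ⟨(List.nodup_cons.1 (List.nodup_cons.1 (List.nodup_cons.1 hnd).2).2).2, rfl,
      fun p hp => ((hmem p).1 (sub p hp)).1,
      fun p hp q hq => hexSet_commute ((hmem p).1 (sub p hp)) ((hmem q).1 (sub q hq)),
      by rw [← hp', heq]; simp [mul_assoc]⟩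
  refine ⟨[a, b, c], [u, v, w], h₀, h₂, fun hall => ?_, fun l hl => ?_⟩
  · have h1 := (hall a).1 List.mem_cons_self
    exact (List.nodup_cons.1 hnd).1 (List.mem_cons_of_mem _ (List.mem_cons_of_mem _ h1))
  by_cases hsh : ∃ x, x ∈ l ∧ x ∈ [a, b, c]
  · obtain ⟨x, hx, hx'⟩ := hsh
    exact Or.inl (shared l _ hl h₀ x hx hx')
  -- the members of such a triple lie in the six
  obtain ⟨hln, hll, hlm, hlc, hlp⟩ := id hl
  obtain ⟨p, q, r, rfl⟩ := List.length_eq_three.1 hll
  simp only [List.nodup_cons, List.mem_cons, List.not_mem_nil, or_false, not_or] at hln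
  have hlp' : p * q * r = j := by rw [← hlp]; simp [mul_assoc]
  have hin : ∀ x ∈ [p, q, r], x ∈ [a, b, c, u, v, w] := by
    intro x hx
    refine (hmem x).2 ?_
    have h1 : Commute x (a * b * c) := by
      rw [hp', ← hlp]
      exact Commute.list_prod_right _ _ (hlc x hx)
    obtain ⟨k1, k2, k3⟩ := (commute_mul_three_iff hcl.1 ha hb hcD (hlm x hx) hn.1.1 hn.1.2 hn.2.1
      cab cac cbc).1 h1
    refine ⟨hlm x hx, k1, k2, k3, fun y hy q1 q2 q3 => ?_⟩
    have h2 : Commute y (p * q * r) := by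
      rw [hlp', ← hp']
      exact (q1.mul_right q2).mul_right q3
    obtain ⟨m1, m2, m3⟩ := (commute_mul_three_iff hcl.1 (hlm p (by simp)) (hlm q (by simp))
      (hlm r (by simp)) hy hln.1.1 hln.1.2 hln.2.1 (hlc p (by simp) q (by simp))
      (hlc p (by simp) r (by simp)) (hlc q (by simp) r (by simp))).1 h2
    simp only [List.mem_cons, List.not_mem_nil, or_false] at hx
    rcases hx with rfl | rfl | rfl
    exacts [m1.symm, m2.symm, m3.symm]
  refine Or.inr fun x => List.Perm.mem_iff ?_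
  refine (List.subperm_of_subset hl.1 fun x hx => ?_).perm_of_length_le (le_refl _)
  have := hin x hx
  simp only [List.mem_cons, List.not_mem_nil, or_false] at this ⊢
  rcases this with e | e | e | e | e | e
  exacts [absurd ⟨x, hx, by simp [e]⟩ hsh, absurd ⟨x, hx, by simp [e]⟩ hsh,
    absurd ⟨x, hx, by simp [e]⟩ hsh, Or.inl e, Or.inr (Or.inl e), Or.inr (Or.inr e)]

end Cfsg.Agent.S5463
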