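import Cfsg.Statements.S5464
import Cfsg.Agent.EqLemmas
import Cfsg.Agent.Lib.ThreeTrans.MTypes

set_option autoImplicit false
open Cfsg

namespace Cfsg.Agent.S5464

/-- Let G be a finite group with trivial centre generated by a conjugation-invariant set D of 3-transpositions on which it acts primitively, such that for some d in D the subgroup generated by the members of D other than d commuting with d has central largest normal 2- and 3-subgroups, and suppose G with D is of type M(23) or of type M(24). Then for m ≤ 3, a product of m distinct pairwise commuting members of D determines the set of factors: any two m-element sets of pairwise commuting members of D with the same product coincide. -/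
theorem result {G : Type*} [Group G] [Finite G] {D : Set G} (hD : Cfsg.IsThreeTranspositionGroup D) (hprim : Cfsg.IsPrimitiveUnderConj D) (d₀ : G) (hd₀ : d₀ ∈ D) (h3 : Cfsg.pCore 3 ↥(Subgroup.closure {y : G | y ∈ D ∧ y ≠ d₀ ∧ Commute d₀ y}) ≤ Subgroup.center ↥(Subgroup.closure {y : G | y ∈ D ∧ y ≠ d₀ ∧ Commute d₀ y})) (h2 : Cfsg.pCore 2 ↥(Subgroup.closure {y : G | y ∈ D ∧ y ≠ d₀ ∧ Commute d₀ y}) ≤ Subgroup.center ↥(Subgroup.closure {y : G | y ∈ D ∧ y ≠ d₀ ∧ Commute d₀ y})) (h : Cfsg.IsOfTypeM23 G D ∨ Cfsg.IsOfTypeM24 G D) (m : ℕ) (hm : m ≤ 3) (j : G) (l l' : List G) (hl : (l.Nodup ∧ l.length = m ∧ (∀ a ∈ l, a ∈ D) ∧ (∀ a ∈ l, ∀ b ∈ l, Commute a b) ∧ l.prod = j)) (hl' : (l'.Nodup ∧ l'.length = m ∧ (∀ a ∈ l', a ∈ D) ∧ (∀ a ∈ l', ∀ b ∈ l', Commute a b) ∧ l'.prod = j)) : (∀ x : G, x ∈ l ↔ x ∈ l') := by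
  have hne : (ThreeTrans.adj D d₀).Nonempty := by
    have key : ∀ d ∈ D, (ThreeTrans.adj D d).Nonempty → (ThreeTrans.adj D d₀).Nonempty :=
      fun d hd h => ThreeTrans.adj_nonempty_all (ThreeTrans.class_of_primitive hD hprim) hd hd₀ h
    rcases h with h | h
    · obtain ⟨-, d, hd, c, -, -, h22, -⟩ := h
      obtain ⟨-, ⟨x, hx, -⟩, -⟩ := ThreeTrans.exists_simple_of_M22 h22
      exact key d hd ⟨_, hx⟩
    · obtain ⟨-, d, hd, c, -, -, h23, -⟩ := h
      obtain ⟨-, _, ⟨x, hx, -⟩, -⟩ := h23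
      exact key d hd ⟨_, hx⟩
  obtain ⟨hcl, hc⟩ := ThreeTrans.mtype_setup hD hprim hd₀ hne
  have hsep := ThreeTrans.adjSeparated_of_type hcl hc hd₀ hne ⟨h2, h3⟩ h
  -- one inclusion is enough
  suffices key : ∀ l l' : List G,
      (l.Nodup ∧ l.length = m ∧ (∀ a ∈ l, a ∈ D) ∧ (∀ a ∈ l, ∀ b ∈ l, Commute a b) ∧ l.prod = j) →
      (l'.Nodup ∧ l'.length = m ∧ (∀ a ∈ l', a ∈ D) ∧ (∀ a ∈ l', ∀ b ∈ l', Commute a b) ∧ l'.prod = j) →
      ∀ x ∈ l, x ∈ l' from fun x => ⟨key l l' hl hl' x, key l' l hl' hl x⟩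
  intro l l' ⟨hnd, hlen, hmem, hcm, hprod⟩ ⟨hnd', hlen', hmem', hcm', hprod'⟩ x hx
  interval_cases m
  · simp [List.length_eq_zero_iff] at hlen; simp [hlen] at hx
  · obtain ⟨a, rfl⟩ := List.length_eq_one_iff.1 hlen
    obtain ⟨b, rfl⟩ := List.length_eq_one_iff.1 hlen'
    simp only [List.prod_cons, List.prod_nil, mul_one] at hprod hprod'
    rw [hprod', ← hprod]; exact hx
  · obtain ⟨a, b, rfl⟩ := List.length_eq_two.1 hlen
    obtain ⟨c, d, rfl⟩ := List.length_eq_two.1 hlen'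
    simp only [List.nodup_cons, List.mem_cons, List.not_mem_nil, or_false] at hnd hnd' hx ⊢
    simp only [List.forall_mem_cons, List.not_mem_nil, IsEmpty.forall_iff, implies_true, and_true] at hmem hmem' hcm hcm'
    simp only [List.prod_cons, List.prod_nil, mul_one] at hprod hprod'
    have e := hprod.trans hprod'.symm
    rcases hx with rfl | rfl
    · exact ThreeTrans.pair_unique hcl hc.1 hmem.1 hmem.2 hmem'.1 hmem'.2 hnd.1 hnd'.1 hcm.1.2 hcm'.1.2 e
    · exact ThreeTrans.pair_unique hcl hc.1 hmem.2 hmem.1 hmem'.1 hmem'.2 (Ne.symm hnd.1) hnd'.1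
        hcm.2.1 hcm'.1.2 (hcm.2.1.eq.trans e)
  · obtain ⟨a, b, c, rfl⟩ := List.length_eq_three.1 hlen
    obtain ⟨d, e, f, rfl⟩ := List.length_eq_three.1 hlen'
    simp only [List.nodup_cons, List.mem_cons, List.not_mem_nil, or_false, not_or] at hnd hnd' hx ⊢
    simp only [List.forall_mem_cons, List.not_mem_nil, IsEmpty.forall_iff, implies_true, and_true] at hmem hmem' hcm hcm'
    simp only [List.prod_cons, List.prod_nil, mul_one] at hprod hprod'
    have e1 : a * b * c = d * e * f := by rw [mul_assoc, mul_assoc]; exact hprod.trans hprod'.symm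
    obtain ⟨⟨-, cab, cac⟩, ⟨cba, -, cbc⟩, cca, ccb, -⟩ := hcm
    obtain ⟨⟨-, cde, cdf⟩, ⟨-, -, cef⟩, -⟩ := hcm'
    obtain ⟨⟨nab, nac⟩, nbc, -⟩ := hnd
    obtain ⟨⟨nde, ndf⟩, nef, -⟩ := hnd'
    obtain ⟨ma, mb, mc⟩ := hmem
    obtain ⟨md, me, mf⟩ := hmem'
    rcases hx with rfl | rfl | rfl
    · exact ThreeTrans.triple_mem hcl hc.1 hsep ma mb mc md me mf nab nac nbc nde ndf nef cab cac cbc cde cdf cef e1
    · refine ThreeTrans.triple_mem hcl hc.1 hsep mb ma mc md me mf (Ne.symm nab) nbc nac nde ndf nef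
        cba cbc cac cde cdf cef ?_
      rw [cba.eq]; exact e1
    · refine ThreeTrans.triple_mem hcl hc.1 hsep mc ma mb md me mf (Ne.symm nac) (Ne.symm nbc) nab nde ndf nef
        cca ccb cab cde cdf cef ?_
      rw [← e1, mul_assoc]; exact (cca.mul_right ccb).eq

end Cfsg.Agent.S5464
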