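import Cfsg.Statements.S5465
import Cfsg.Agent.Lib.FischerM24.PairProd
import Cfsg.Agent.Lib.FischerM22.Iso
import Cfsg.Agent.S1696
import Cfsg.Agent.S2079
import Cfsg.Agent.EqLemmas
import Cfsg.Agent.EqLemmas

set_option autoImplicit false
open Cfsg

namespace Cfsg.Agent.S5465

theorem card_mulAut : Nat.card (MulAut Cfsg.Spor.Fi22) = 2 * Nat.card Cfsg.Spor.Fi22 := by
  obtain ⟨hs, hc⟩ := S1696.result
  have h := S2079.result
  have hcen : Subgroup.center Cfsg.Spor.Fi22 = ⊥ := by
    refine (Subgroup.Normal.eq_bot_or_eq_top inferInstance).resolve_right fun htop => ?_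
    have hab : ∀ x y : Cfsg.Spor.Fi22, x * y = y * x := fun x y =>
      (Subgroup.mem_center_iff.1 (htop ▸ Subgroup.mem_top x) y).symm
    let _ : CommGroup Cfsg.Spor.Fi22 := { (inferInstance : Group Cfsg.Spor.Fi22) with mul_comm := hab }
    have hp : (Nat.card Cfsg.Spor.Fi22).Prime := IsSimpleGroup.prime_card
    rw [hc] at hp
    exact absurd hp (by norm_num)
  have hinj : Function.Injective (MulAut.conj (G := Cfsg.Spor.Fi22)) := by
    rw [← MonoidHom.ker_eq_bot_iff, eq_bot_iff]
    intro x hx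
    rw [← hcen, Subgroup.mem_center_iff]
    intro y
    have := DFunLike.congr_fun (MonoidHom.mem_ker.1 hx) y
    rw [MulAut.conj_apply, MulAut.one_apply, mul_inv_eq_iff_eq_mul] at this
    exact this.symm
  rw [Subgroup.card_eq_card_quotient_mul_card_subgroup (Cfsg.Inn Cfsg.Spor.Fi22)]
  show Nat.card (Cfsg.Out Cfsg.Spor.Fi22) * _ = _
  rw [h]
  congr 1
  exact Nat.card_congr (MonoidHom.ofInjective hinj).toEquiv.symm

theorem center_map {A B : Type*} [Group A] [Group B] (e : A ≃* B) :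
    (Subgroup.center A).map e.toMonoidHom = Subgroup.center B := by
  ext x
  obtain ⟨a, rfl⟩ := e.surjective x
  rw [Subgroup.mem_center_iff]
  constructor
  · rintro ⟨a', ha', h⟩ g
    obtain ⟨g, rfl⟩ := e.surjective g
    rw [← h]
    exact (map_mul e g a').symm.trans ((congrArg e (Subgroup.mem_center_iff.1 ha' g)).trans (map_mul e a' g))
  · exact fun h => ⟨a, Subgroup.mem_center_iff.2 fun g => e.injective (by rw [map_mul, map_mul, h]), rfl⟩

/-- Let G be a finite group with trivial centre generated by a conjugation-invariant set D of 3-transpositions on which it acts primitively, such that for some d in D the subgroup generated by the members of D other than d commuting with d has central largest normal 2- and 3-subgroups, and suppose G with D is of type M(24), and let L be the commutator subgroup of G. Let d₁, d₂ be distinct commuting members of D and j = d₁ d₂. Then K, the joint centralizer of d₁ and d₂ in L, is quasisimple, is the generalized Fitting subgroup of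 the centralizer of j in L, has index 2 in it and contains j, and the centralizer of j in L modulo the subgroup generated by j is isomorphic to the full automorphism group of the Fischer group Fi₂₂ (as presented). -/
theorem result {G : Type*} [Group G] [Finite G] {D : Set G} (hD : Cfsg.IsThreeTranspositionGroup D) (hprim : Cfsg.IsPrimitiveUnderConj D) (d₀ : G) (hd₀ : d₀ ∈ D) (h3 : Cfsg.pCore 3 ↥(Subgroup.closure {y : G | y ∈ D ∧ y ≠ d₀ ∧ Commute d₀ y}) ≤ Subgroup.center ↥(Subgroup.closure {y : G | y ∈ D ∧ y ≠ d₀ ∧ Commute d₀ y})) (h2 : Cfsg.pCore 2 ↥(Subgroup.closure {y : G | y ∈ D ∧ y ≠ d₀ ∧ Commute d₀ y}) ≤ Subgroup.center ↥(Subgroup.closure {y : G | y ∈ D ∧ y ≠ d₀ ∧ Commute d₀ y})) (h24 : Cfsg.IsOfTypeM24 G D) (L : Subgroup G) (hL : L = commutator G) (d₁ d₂ : G) (h₁ : d₁ ∈ D) (h₂ : d₂ ∈ D) (hne : d₁ ≠ d₂) (hc : Commute d₁ d₂) (K CL : Subgroup G) (hK : K = L ⊓ Subgroup.centralizer ({d₁, d₂} : Set G)) (hCL : CL = L ⊓ Subgroup.centralizer ({d₁ * d₂} : Set G)) [hn : ((Subgroup.zpowers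 (d₁ * d₂)).subgroupOf CL).Normal] : Cfsg.IsQuasisimple ↥K ∧ K = (Cfsg.generalizedFittingSubgroup ↥CL).map CL.subtype ∧ K ≤ CL ∧ (K.subgroupOf CL).index = 2 ∧ d₁ * d₂ ∈ K ∧ Nonempty (↥CL ⧸ (Subgroup.zpowers (d₁ * d₂)).subgroupOf CL ≃* MulAut Cfsg.Spor.Fi22) := by
  have S := FischerM24.setup_of_primitive hD hprim h24
  subst hL
  have hb : d₂ ∈ ThreeTrans.adj D d₁ := ⟨h₂, hne.symm, hc⟩
  rw [← FischerM24.edgeKer_eq S h₁] at hK
  subst hK
  obtain ⟨hKn, hqs, hZ, -⟩ := FischerM24.pairProd_struct S h₁ hb hCL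
  have hle := FischerM24.edgeKer_le S hCL
  obtain ⟨e⟩ : Nonempty (FischerM23.QL (FischerM23.QSet D d₁) (FischerM23.qm D d₁ d₂) ≃* Cfsg.Spor.Fi22) := by
    exact FischerM22.iso_fi22 ((S.localSetup h₁).localSetup (FischerM23.qm_mem hb))
  refine ⟨⟨⟨FischerM24.edgeKer_perfect S h₁ hb⟩, ?_⟩, ?_, hle, FischerM24.edgeKer_index S h₁ hb hCL,
    FischerM24.pair_mem_edgeKer S h₁ hb, FischerM24.pairProd_mulAut S h₁ hb hCL e card_mulAut⟩
  · obtain ⟨-, hs⟩ := hqs
    let iso := Subgroup.subgroupOfEquivOfLe hle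
    exact (QuotientGroup.congr _ _ iso (Cfsg.Agent.S5465.center_map iso)).symm.isSimpleGroup
  · rw [FischerM24.genFitting_eq_of_quasisimple _ hqs (FischerM24.edgeKer_cent S h₁ hb hCL),
      Subgroup.map_subgroupOf_eq_of_le hle]

end Cfsg.Agent.S5465
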