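import Cfsg.Statements.S5466
import Cfsg.Agent.Lib.FischerM24.TripleProd
import Cfsg.Agent.S0815
import Cfsg.Agent.EqLemmas
import Cfsg.Agent.EqLemmas

set_option autoImplicit false
open Cfsg

namespace Cfsg.Agent.S5466

/-- Let G be a finite group with trivial centre generated by a conjugation-invariant set D of 3-transpositions on which it acts primitively, such that for some d in D the subgroup generated by the members of D other than d commuting with d has central largest normal 2- and 3-subgroups, and suppose G with D is of type M(24), and let L be the commutator subgroup of G. Let d₁, d₂, d₃ be distinct pairwise commuting members of D, j their product, E the subgroup generated by d₁ d₂ and d₁ d₃ (a four-group lying in L), CL the centralizer of j in L and K its generalized Fitting subgroup. Then K is quasisimple with centre E, K is the centralizer of E in L, K modulo E is isomorphic to the projective special unitary group of dimension 6 over the field with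 four elements, CL/K is isomorphic to the symmetric group of degree 3, and CL modulo E is isomorphic to the full automorphism group of that unitary group. -/
theorem result {G : Type*} [Group G] [Finite G] {D : Set G} (hD : Cfsg.IsThreeTranspositionGroup D) (hprim : Cfsg.IsPrimitiveUnderConj D) (d₀ : G) (hd₀ : d₀ ∈ D) (h3 : Cfsg.pCore 3 ↥(Subgroup.closure {y : G | y ∈ D ∧ y ≠ d₀ ∧ Commute d₀ y}) ≤ Subgroup.center ↥(Subgroup.closure {y : G | y ∈ D ∧ y ≠ d₀ ∧ Commute d₀ y})) (h2 : Cfsg.pCore 2 ↥(Subgroup.closure {y : G | y ∈ D ∧ y ≠ d₀ ∧ Commute d₀ y}) ≤ Subgroup.center ↥(Subgroup.closure {y : G | y ∈ D ∧ y ≠ d₀ ∧ Commute d₀ y})) (h24 : Cfsg.IsOfTypeM24 G D) (L : Subgroup G) (hL : L = commutator G) (d₁ d₂ d₃ : G) (h₁ : d₁ ∈ D) (h₂ : d₂ ∈ D) (h₃ : d₃ ∈ D) (h12 : d₁ ≠ d₂) (h13 : d₁ ≠ d₃) (h23 : d₂ ≠ d₃) (c12 : Commute d₁ d₂) (c13 : Commute d₁ d₃) (c23 : Commute d₂ d₃) (E CL K : Subgroup G) (hE : E = Subgroup.closure ({d₁ * d₂, d₁ * d₃} : Set G)) (hCL : CL = L ⊓ Subgroup.centralizer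 ({d₁ * d₂ * d₃} : Set G)) (hK : K = (Cfsg.generalizedFittingSubgroup ↥CL).map CL.subtype) : Cfsg.IsQuasisimple ↥K ∧ (Subgroup.center ↥K).map K.subtype = E ∧ K = L ⊓ Subgroup.centralizer (E : Set G) ∧ (∃ (_ : (E.subgroupOf K).Normal) (F : Type) (_ : Field F) (_ : Fintype F), Fintype.card F = 4 ∧ Nonempty (↥K ⧸ E.subgroupOf K ≃* Cfsg.PSU 6 F 2)) ∧ ∃ _ : (K.subgroupOf CL).Normal, Nonempty (↥CL ⧸ K.subgroupOf CL ≃* Equiv.Perm (Fin 3)) ∧ E ≤ CL ∧ ∃ (_ : (E.subgroupOf CL).Normal) (F : Type) (_ : Field F) (_ : Fintype F), Fintype.card F = 4 ∧ Nonempty (↥CL ⧸ E.subgroupOf CL ≃* MulAut (Cfsg.PSU 6 F 2)) := by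
  classical
  have S := FischerM24.setup_of_primitive hD hprim h24
  have hT : FischerM22.IsTriple D d₁ d₂ d₃ := ⟨h₁, h₂, h₃, h12, h13, h23, c12, c13, c23⟩
  subst hL
  set K₀ := FischerM24.triKer D d₁ d₂ d₃ with hK₀
  have hEK : E ≤ K₀ := hE ▸ FischerM24.pair_mem_triKer S hT
  have hK₀eq : K₀ = commutator G ⊓ Subgroup.centralizer (E : Set G) := by
    rw [hE]; exact FischerM24.triKer_eq S hT
  have hK₀CL : K₀ ≤ CL := fun x hx => by
    rw [hCL]
    obtain ⟨e1, e2, e3⟩ := (FischerM24.mem_triGroup_iff S hT).1 hx.2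
    exact ⟨hx.1, Subgroup.mem_centralizer_singleton_iff.2 ((e1.mul_right e2).mul_right e3).eq⟩
  obtain ⟨f, hf, hfker⟩ := FischerM24.triProd_perm S hT CL hCL
  obtain ⟨F, iF, iT, hcard, η, hη, hηker⟩ := FischerM24.triKer_model S hT
  rw [← hE] at hηker
  have : IsSimpleGroup (Cfsg.PSU 6 F 2) :=
    S0283.result (q := 2) (by rw [hcard]; norm_num) 6 (by norm_num) (by norm_num)
  -- the centre
  have hcen : Subgroup.center ↥K₀ = η.ker := by
    refine le_antisymm (fun z hz => ?_) (fun z hz => ?_)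
    · rw [MonoidHom.mem_ker]
      have hmem : η z ∈ Subgroup.center (Cfsg.PSU 6 F 2) := Subgroup.mem_center_iff.2 fun g => by
        obtain ⟨g, rfl⟩ := hη g
        rw [← map_mul, Subgroup.mem_center_iff.1 hz g, map_mul]
      rwa [FischerM22.center_psu_eq_bot hcard, Subgroup.mem_bot] at hmem
    · rw [hηker, Subgroup.mem_subgroupOf] at hz
      exact Subgroup.mem_center_iff.2 fun g => Subtype.ext ((hK₀eq.le g.2).2 z hz).symm
  have hperf : Group.IsPerfect ↥K₀ := ⟨FischerM24.triKer_perfect S hT⟩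
  let eq₀ : ↥K₀ ⧸ Subgroup.center ↥K₀ ≃* Cfsg.PSU 6 F 2 :=
    (QuotientGroup.quotientMulEquivOfEq hcen).trans (QuotientGroup.quotientKerEquivOfSurjective η hη)
  -- inside the centraliser of the product
  set Kc := K₀.subgroupOf CL with hKc
  have hKcn : Kc.Normal := hfker ▸ f.normal_ker
  let iso : ↥Kc ≃* ↥K₀ := Subgroup.subgroupOfEquivOfLe hK₀CL
  have hKperf : Group.IsPerfect ↥Kc :=
    Group.IsPerfect.ofSurjective (f := iso.symm.toMonoidHom) iso.symm.surjective
  let η' : ↥Kc →* Cfsg.PSU 6 F 2 := η.comp iso.toMonoidHom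
  have hcen' : Subgroup.center ↥Kc = η'.ker := by
    ext z
    rw [MonoidHom.mem_ker]
    show _ ↔ η (iso z) = 1
    rw [← MonoidHom.mem_ker, ← hcen, Subgroup.mem_center_iff, Subgroup.mem_center_iff]
    refine ⟨fun h g => ?_, fun h g => iso.injective ?_⟩
    · obtain ⟨g, rfl⟩ := iso.surjective g
      rw [← map_mul, h g, map_mul]
    · rw [map_mul, h (iso g), map_mul]
  let eq' : ↥Kc ⧸ Subgroup.center ↥Kc ≃* Cfsg.PSU 6 F 2 :=
    (QuotientGroup.quotientMulEquivOfEq hcen').trans
      (QuotientGroup.quotientKerEquivOfSurjective η' (hη.comp iso.surjective))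
  have hqs : Cfsg.IsQuasisimple ↥Kc := ⟨hKperf, eq'.isSimpleGroup⟩
  have hC : Subgroup.centralizer (Kc : Set ↥CL) ≤ Kc := fun x hx => by
    rw [hKc, Subgroup.mem_subgroupOf, hK₀eq]
    refine ⟨(hCL.le x.2).1, fun e he => ?_⟩
    exact congrArg Subtype.val (hx ⟨e, hK₀CL (hEK he)⟩ (Subgroup.mem_subgroupOf.2 (hEK he)))
  have hgf := FischerM24.genFitting_eq_of_quasisimple Kc hqs hC
  rw [hgf, Subgroup.map_subgroupOf_eq_of_le hK₀CL] at hK
  subst hK
  refine ⟨⟨hperf, eq₀.isSimpleGroup⟩, ?_, hK₀eq, ?_, ?_⟩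
  · rw [hcen, hηker, Subgroup.map_subgroupOf_eq_of_le hEK]
  · have hEn : (E.subgroupOf K₀).Normal := hηker ▸ η.normal_ker
    exact ⟨hEn, F, iF, iT, hcard, ⟨(QuotientGroup.quotientMulEquivOfEq hηker.symm).trans
      (QuotientGroup.quotientKerEquivOfSurjective η hη)⟩⟩
  · refine ⟨hKcn, ⟨(QuotientGroup.quotientMulEquivOfEq hfker.symm).trans
      (QuotientGroup.quotientKerEquivOfSurjective f hf)⟩, hEK.trans hK₀CL, ?_⟩
    have hZ : E.subgroupOf CL = (Subgroup.center ↥Kc).map Kc.subtype := by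
      ext x
      rw [hcen', Subgroup.mem_subgroupOf]
      constructor
      · intro hx
        refine ⟨⟨x, Subgroup.mem_subgroupOf.2 (hEK hx)⟩, ?_, rfl⟩
        show η _ = 1
        rw [← MonoidHom.mem_ker, hηker, Subgroup.mem_subgroupOf]
        exact hx
      · rintro ⟨z, hz, rfl⟩
        have : iso z ∈ η.ker := hz
        rw [hηker, Subgroup.mem_subgroupOf] at this
        exact this
    have hn : (E.subgroupOf CL).Normal := by
      rw [hZ]; infer_instance
    refine ⟨hn, F, iF, iT, hcard, FischerM24.quotient_mulAut Kc eq' hKperf.commutator_eq_top hC ?_ _ hZ⟩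
    have h1 : Nat.card ↥(Subgroup.center ↥Kc) = 4 := by
      rw [← Subgroup.card_map_of_injective Kc.subtype_injective, ← hZ,
        Nat.card_congr (Subgroup.subgroupOfEquivOfLe (hEK.trans hK₀CL)).toEquiv, hE,
        FischerM24.pair_closure_card S hT]
    have h2 : Nat.card ↥Kc = 4 * Nat.card (Cfsg.PSU 6 F 2) := by
      rw [← h1, ← Subgroup.card_mul_index (Subgroup.center ↥Kc), Subgroup.index_eq_card, Nat.card_congr eq'.toEquiv]
    have h3 : Kc.index = 6 := by
      rw [← hfker, Subgroup.index_ker, f.range_eq_top.2 hf, Subgroup.card_top, Nat.card_perm, Nat.card_fin]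
      rfl
    have h4 := Subgroup.card_mul_index Kc
    have h5 := S0815.result (F := F) 2 1 le_rfl (q := 2) (by norm_num) (by rw [hcard]; norm_num) 6 (by norm_num)
      (by norm_num)
    rw [h2, h3] at h4
    rw [h1, h5, ← h4]
    norm_num
    ring

end Cfsg.Agent.S5466
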