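import Cfsg.Statements.S5468
import Cfsg.Agent.Lib.FischerM23.Pair
import Cfsg.Agent.EqLemmas

set_option autoImplicit false
open Cfsg

namespace Cfsg.Agent.S5468

/-- Let G be a finite group with trivial centre generated by a conjugation-invariant set D of 3-transpositions on which it acts primitively, such that for some d in D the subgroup generated by the members of D other than d commuting with d has central largest normal 2- and 3-subgroups, and suppose G with D is of type M(23). Let d₁, d₂ be distinct commuting members of D, j = d₁ d₂, K the joint centralizer of d₁ and d₂ and C the centralizer of j. Then K has index 2 in C, the centre of K is the subgroup generated by d₁ and d₂, K is quasisimple with K modulo its centre isomorphic to the projective special unitary group of dimension 6 over the field with four elements, and C modulo the subgroup generated by d₁ and d₂ has trivial centre (so it is that unitary group extended by an outer involution). -/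
theorem result {G : Type*} [Group G] [Finite G] {D : Set G} (hD : Cfsg.IsThreeTranspositionGroup D) (hprim : Cfsg.IsPrimitiveUnderConj D) (d₀ : G) (hd₀ : d₀ ∈ D) (h3 : Cfsg.pCore 3 ↥(Subgroup.closure {y : G | y ∈ D ∧ y ≠ d₀ ∧ Commute d₀ y}) ≤ Subgroup.center ↥(Subgroup.closure {y : G | y ∈ D ∧ y ≠ d₀ ∧ Commute d₀ y})) (h2 : Cfsg.pCore 2 ↥(Subgroup.closure {y : G | y ∈ D ∧ y ≠ d₀ ∧ Commute d₀ y}) ≤ Subgroup.center ↥(Subgroup.closure {y : G | y ∈ D ∧ y ≠ d₀ ∧ Commute d₀ y})) (h23 : Cfsg.IsOfTypeM23 G D) (d₁ d₂ : G) (h₁ : d₁ ∈ D) (h₂ : d₂ ∈ D) (hne : d₁ ≠ d₂) (hc : Commute d₁ d₂) (K C V : Subgroup G) (hK : K = Subgroup.centralizer ({d₁, d₂} : Set G)) (hC : C = Subgroup.centralizer ({d₁ * d₂} : Set G)) (hV : V = Subgroup.closure ({d₁, d₂} : Set G)) [hn : (V.subgroupOf C).Normal] : K ≤ C ∧ (K.subgroupOf C).index = 2 ∧ (Subgroup.center ↥K).map K.subtype = V ∧ Cfsg.IsQuasisimple ↥K ∧ (∃ (F : Type) (_ : Field F) (_ : Fintype F), Fintype.card F = 4 ∧ Nonempty (↥K ⧸ Subgroup.center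 ↥K ≃* Cfsg.PSU 6 F 2)) ∧ Subgroup.center (↥C ⧸ V.subgroupOf C) = ⊥ := by
  have S := FischerM23.setup_of_primitive hD hprim h23
  have hb : d₂ ∈ ThreeTrans.adj D d₁ := ⟨h₂, hne.symm, hc⟩
  subst hK hC hV
  set a := d₁
  set b := d₂
  set K := Subgroup.centralizer ({a, b} : Set G) with hKdef
  set C := Subgroup.centralizer ({a * b} : Set G) with hCdef
  set V := Subgroup.closure ({a, b} : Set G) with hVdef
  have hKC : K ≤ C := fun g hg => by
    obtain ⟨c1, c2⟩ := FischerM23.mem_pair_iff.1 hg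
    exact Subgroup.mem_centralizer_singleton_iff.2 (c1.mul_right c2)
  have hVK : V ≤ K := FischerM23.pair_closure_le hc
  have hZ : (Subgroup.center ↥K).map K.subtype = V := by
    ext z
    refine ⟨?_, fun hz => ⟨⟨z, hVK hz⟩, (FischerM23.pair_center S h₁ hb _).2 hz, rfl⟩⟩
    rintro ⟨y, hy, rfl⟩
    exact (FischerM23.pair_center S h₁ hb y).1 hy
  obtain ⟨F, fF, tF, hF, ψ, hψ, hker⟩ := FischerM23.pairModel S h₁ hb
  let e := (QuotientGroup.quotientMulEquivOfEq hker.symm).trans
    (QuotientGroup.quotientKerEquivOfSurjective ψ hψ)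
  have hsimple : IsSimpleGroup (↥K ⧸ Subgroup.center ↥K) := by
    have : IsSimpleGroup (Cfsg.PSU 6 F 2) :=
      S0283.result (q := 2) (by rw [hF]; norm_num) 6 (by norm_num) (by norm_num)
    exact e.isSimpleGroup
  have hperf := FischerM23.pair_commutator S h₁ hb
  have conj_self : ∀ {g x : G}, Commute g x → g * x * g⁻¹ = x := fun {g x} h => by
    rw [h.eq, mul_inv_cancel_right]
  -- elements of C fix or exchange the two members
  have hcases : ∀ x ∈ C, x ∈ K ∨ (x * a * x⁻¹ = b ∧ x * b * x⁻¹ = a) := by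
    intro x hx
    have hx' : Commute x (a * b) := Subgroup.mem_centralizer_singleton_iff.1 hx
    have hprod : x * a * x⁻¹ * (x * b * x⁻¹) = a * b :=
      calc x * a * x⁻¹ * (x * b * x⁻¹) = x * (a * b) * x⁻¹ := by group
        _ = a * b := conj_self hx'
    rcases ThreeTrans.pair_unique S.cls S.cores.1 (S.conj_mem x h₁) (S.conj_mem x h₂) h₁ h₂
        (fun e' => hne (mul_left_cancel (mul_right_cancel e'))) hne
        (hc.map (MulAut.conj x).toMonoidHom) hc hprod with h | h
    · rw [h] at hprod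
      exact Or.inl (FischerM23.mem_pair_iff.2
        ⟨mul_inv_eq_iff_eq_mul.1 h, mul_inv_eq_iff_eq_mul.1 (mul_left_cancel hprod)⟩)
    · rw [h, hc.eq] at hprod
      exact Or.inr ⟨h, mul_left_cancel hprod⟩
  refine ⟨hKC, ?_, hZ, ⟨Group.isPerfect_def.2 hperf, hsimple⟩, ⟨F, fF, tF, hF, ⟨e⟩⟩, ?_⟩
  · obtain ⟨q, hq⟩ : (ThreeTrans.adj D a ∩ ThreeTrans.adj D b).Nonempty := by
      rw [← Set.ncard_pos (Set.toFinite _), FischerM23.common_ncard S h₁ hb]
      norm_num
    obtain ⟨s, -, sa, sb⟩ := FischerM23.trans_commuting S hq.1.1 (FischerM22.adj_symm h₁ hq.1)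
      (FischerM22.adj_symm h₂ hq.2) hne hc (FischerM22.adj_symm h₂ hq.2) (FischerM22.adj_symm h₁ hq.1)
      hne.symm hc.symm
    have hsC : s ∈ C := by
      refine Subgroup.mem_centralizer_singleton_iff.2 (mul_inv_eq_iff_eq_mul.1 ?_)
      calc s * (a * b) * s⁻¹ = s * a * s⁻¹ * (s * b * s⁻¹) := by group
        _ = a * b := by rw [sa, sb, hc.eq]
    rw [Subgroup.index_eq_two_iff]
    refine ⟨⟨s, hsC⟩, fun x => ?_⟩
    show Xor ((x : G) * s ∈ K) ((x : G) ∈ K)
    have e1 : (x : G) * s * a * ((x : G) * s)⁻¹ = (x : G) * b * (x : G)⁻¹ := by rw [← sa]; group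
    have e2 : (x : G) * s * b * ((x : G) * s)⁻¹ = (x : G) * a * (x : G)⁻¹ := by rw [← sb]; group
    rcases hcases x x.2 with hx | ⟨xa, xb⟩
    · refine Or.inr ⟨hx, fun h => hne ?_⟩
      rw [conj_self (FischerM23.mem_pair_iff.1 h).1, conj_self (FischerM23.mem_pair_iff.1 hx).2] at e1
      exact e1
    · refine Or.inl ⟨FischerM23.mem_pair_iff.2 ⟨mul_inv_eq_iff_eq_mul.1 (e1.trans xb),
        mul_inv_eq_iff_eq_mul.1 (e2.trans xa)⟩, fun h => hne ?_⟩
      rw [conj_self (FischerM23.mem_pair_iff.1 h).1] at xa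
      exact xa
  · rw [eq_bot_iff]
    intro q hq
    obtain ⟨x, rfl⟩ := QuotientGroup.mk'_surjective _ q
    rw [Subgroup.mem_bot, QuotientGroup.mk'_apply, QuotientGroup.eq_one_iff]
    have hxc : ∀ y ∈ C, (x : G) * y * (x : G)⁻¹ * y⁻¹ ∈ V := fun y hy => by
      have h := Subgroup.mem_center_iff.1 hq (QuotientGroup.mk' _ (⟨y, hy⟩ : ↥C))
      rw [← map_mul, ← map_mul] at h
      have h' := QuotientGroup.eq.1 h
      have h'' : (y * (x : G))⁻¹ * ((x : G) * y) ∈ V := h'
      -- conjugate by `y * x`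
      have hmem : (x : G) * y * (x : G)⁻¹ * y⁻¹
          = (y * (x : G)) * ((y * (x : G))⁻¹ * ((x : G) * y)) * (y * (x : G))⁻¹ := by group
      rw [hmem]
      exact hn.conj_mem ⟨_, hKC (hVK h'')⟩ h'' (⟨y, hy⟩ * x)
    have hcen : ∀ v ∈ V, ∀ k ∈ K, Commute v k := fun v hv k hk =>
      (congrArg Subtype.val
        (Subgroup.mem_center_iff.1 ((FischerM23.pair_center S h₁ hb ⟨v, hVK hv⟩).2 hv) ⟨k, hk⟩)).symm
    let χ : ↥K →* G :=
      { toFun := fun k => (x : G) * k * (x : G)⁻¹ * (k : G)⁻¹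
        map_one' := by simp
        map_mul' := fun k l => by
          have h := hcen _ (hxc l (hKC l.2)) _ (inv_mem k.2)
          calc (x : G) * ((k : G) * (l : G)) * (x : G)⁻¹ * ((k : G) * (l : G))⁻¹
              = (x : G) * k * (x : G)⁻¹ * ((x : G) * l * (x : G)⁻¹ * (l : G)⁻¹ * (k : G)⁻¹) := by group
            _ = _ := by rw [h.eq]; group }
    have hχ : ∀ k, χ k = 1 := fun k => by
      have hle : commutator ↥K ≤ χ.ker := by
        rw [commutator_def, Subgroup.commutator_le]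
        intro g _ g' _
        rw [MonoidHom.mem_ker, map_commutatorElement, commutatorElement_eq_one_iff_commute]
        exact hcen _ (hxc g (hKC g.2)) _ (hVK (hxc g' (hKC g'.2)))
      exact hle (hperf ▸ Subgroup.mem_top k)
    have hxK : ∀ k ∈ K, Commute (x : G) k := fun k hk =>
      mul_inv_eq_iff_eq_mul.1 (mul_inv_eq_one.1 (hχ ⟨k, hk⟩))
    have haK : a ∈ K := hVK (Subgroup.subset_closure (Or.inl rfl))
    have hbK : b ∈ K := hVK (Subgroup.subset_closure (Or.inr rfl))
    exact (FischerM23.pair_center S h₁ hb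
      ⟨(x : G), FischerM23.mem_pair_iff.2 ⟨hxK a haK, hxK b hbK⟩⟩).1
      (Subgroup.mem_center_iff.2 fun k => Subtype.ext (hxK k k.2).symm.eq)

end Cfsg.Agent.S5468
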