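import Cfsg.Statements.S5471
import Cfsg.Agent.EqLemmas
import Cfsg.Agent.Lib.ThreeTrans.MTypes
import Cfsg.Agent.S5464

set_option autoImplicit false
open Cfsg

namespace Cfsg.Agent.S5471

theorem fin3_cases : ∀ i k l : Fin 3, i ≠ k → i ≠ l → k ≠ l → ∀ m, m = i ∨ m = k ∨ m = l := by decide

theorem fin3_perm : ∀ τ : Fin 3 → Fin 3, Function.Bijective τ →
    List.Perm [τ 0, τ 1, τ 2] [0, 1, 2] := by decide +kernel

/-- Let G be a finite group with trivial centre generated by a conjugation-invariant set D of 3-transpositions on which it acts primitively, such that for some d in D the subgroup generated by the members of D other than d commuting with d has central largest normal 2- and 3-subgroups, and suppose G with D is of type M(23). Let d₁, d₂, d₃ be distinct pairwise commuting members of D and j their product. Then the joint centralizer of d₁, d₂, d₃ is normal in the centralizer of j with quotient isomorphic to the symmetric group of degree 3. -/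
theorem result {G : Type*} [Group G] [Finite G] {D : Set G} (hD : Cfsg.IsThreeTranspositionGroup D) (hprim : Cfsg.IsPrimitiveUnderConj D) (d₀ : G) (hd₀ : d₀ ∈ D) (h3 : Cfsg.pCore 3 ↥(Subgroup.closure {y : G | y ∈ D ∧ y ≠ d₀ ∧ Commute d₀ y}) ≤ Subgroup.center ↥(Subgroup.closure {y : G | y ∈ D ∧ y ≠ d₀ ∧ Commute d₀ y})) (h2 : Cfsg.pCore 2 ↥(Subgroup.closure {y : G | y ∈ D ∧ y ≠ d₀ ∧ Commute d₀ y}) ≤ Subgroup.center ↥(Subgroup.closure {y : G | y ∈ D ∧ y ≠ d₀ ∧ Commute d₀ y})) (h23 : Cfsg.IsOfTypeM23 G D) (d₁ d₂ d₃ : G) (h₁ : d₁ ∈ D) (h₂ : d₂ ∈ D) (h₃ : d₃ ∈ D) (h12 : d₁ ≠ d₂) (h13 : d₁ ≠ d₃) (h23 : d₂ ≠ d₃) (c12 : Commute d₁ d₂) (c13 : Commute d₁ d₃) (c23 : Commute d₂ d₃) (K C : Subgroup G) (hK : K = Subgroup.centralizer ({d₁, d₂, d₃} : Set G)) (hC : C = Subgroup.centralizer ({d₁ * d₂ * d₃} : Set G)) : K ≤ C ∧ ∃ _ : (K.subgroupOf C).Normal, Nonempty (↥C ⧸ K.subgroupOf C ≃* Equiv.Perm (Fin 3)) := by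
  have hne : (ThreeTrans.adj D d₁).Nonempty := ⟨d₂, h₂, h12.symm, c12⟩
  obtain ⟨hcl, hc⟩ := ThreeTrans.mtype_setup hD hprim h₁ hne
  have hg := hD.1
  let d : Fin 3 → G := ![d₁, d₂, d₃]
  have hdD : ∀ i, d i ∈ D := by intro i; fin_cases i <;> assumption
  have hdc : ∀ i k, Commute (d i) (d k) := by
    intro i k
    fin_cases i <;> fin_cases k
    all_goals first
      | exact Commute.refl _ | exact c12 | exact c12.symm | exact c13 | exact c13.symm
      | exact c23 | exact c23.symm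
  have hdinj : Function.Injective d := by
    intro i k h
    fin_cases i <;> fin_cases k <;>
      first | rfl | exact absurd h h12 | exact absurd h.symm h12 | exact absurd h h13
            | exact absurd h.symm h13 | exact absurd h h23 | exact absurd h.symm h23
  have hKC : K ≤ C := by
    intro g hgK
    rw [hK, Subgroup.mem_centralizer_iff] at hgK
    rw [hC, Subgroup.mem_centralizer_singleton_iff]
    have c1 : Commute g d₁ := (hgK d₁ (Or.inl rfl)).symm
    have c2 : Commute g d₂ := (hgK d₂ (Or.inr (Or.inl rfl))).symm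
    have c3 : Commute g d₃ := (hgK d₃ (Or.inr (Or.inr rfl))).symm
    exact ((c1.mul_right c2).mul_right c3).eq
  refine ⟨hKC, ?_⟩
  have hmove : ∀ g : C, ∀ i, ∃ k, (g : G) * d i * (g : G)⁻¹ = d k := by
    intro g i
    have hgc : Commute (g : G) (d₁ * d₂ * d₃) :=
      Subgroup.mem_centralizer_singleton_iff.1 (hC ▸ g.2)
    have hl : ([d₁, d₂, d₃] : List G).Nodup ∧ ([d₁, d₂, d₃] : List G).length = 3 ∧
        (∀ a ∈ ([d₁, d₂, d₃] : List G), a ∈ D) ∧
        (∀ a ∈ ([d₁, d₂, d₃] : List G), ∀ b ∈ ([d₁, d₂, d₃] : List G), Commute a b) ∧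
        ([d₁, d₂, d₃] : List G).prod = d₁ * d₂ * d₃ := by
      refine ⟨by simp [h12, h13, h23], rfl, by simp [h₁, h₂, h₃], ?_, by simp [mul_assoc]⟩
      simp [c12, c12.symm, c13, c13.symm, c23, c23.symm]
    set φ : G →* G := (MulAut.conj (g : G)).toMonoidHom with hφ
    have hφinj : Function.Injective φ := (MulAut.conj (g : G)).injective
    have hl' : (([d₁, d₂, d₃] : List G).map φ).Nodup ∧ (([d₁, d₂, d₃] : List G).map φ).length = 3 ∧
        (∀ a ∈ ([d₁, d₂, d₃] : List G).map φ, a ∈ D) ∧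
        (∀ a ∈ ([d₁, d₂, d₃] : List G).map φ, ∀ b ∈ ([d₁, d₂, d₃] : List G).map φ, Commute a b) ∧
        (([d₁, d₂, d₃] : List G).map φ).prod = d₁ * d₂ * d₃ := by
      refine ⟨hl.1.map hφinj, rfl, ?_, ?_, ?_⟩
      · intro a ha
        obtain ⟨b, hb, rfl⟩ := List.mem_map.1 ha
        exact hD.2.1 _ b (hl.2.2.1 b hb)
      · intro a ha b hb
        obtain ⟨a', ha', rfl⟩ := List.mem_map.1 ha
        obtain ⟨b', hb', rfl⟩ := List.mem_map.1 hb
        exact (hl.2.2.2.1 a' ha' b' hb').map φ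
      · rw [← map_list_prod, hl.2.2.2.2]
        show (g : G) * (d₁ * d₂ * d₃) * (g : G)⁻¹ = _
        rw [hgc.eq, mul_assoc _ (g : G), mul_inv_cancel, mul_one]
    have hiff := S5464.result hD hprim d₀ hd₀ h3 h2 (Or.inl (by assumption)) 3 le_rfl _ _ _ hl' hl
      ((g : G) * d i * (g : G)⁻¹)
    have hin : (g : G) * d i * (g : G)⁻¹ ∈ ([d₁, d₂, d₃] : List G).map φ :=
      List.mem_map.2 ⟨d i, by fin_cases i <;> simp [d], rfl⟩
    have := hiff.1 hin
    simp only [List.mem_cons, List.not_mem_nil, or_false] at this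
    rcases this with h | h | h
    · exact ⟨0, h⟩
    · exact ⟨1, h⟩
    · exact ⟨2, h⟩
  choose σ hσ using hmove
  have hσmul : ∀ g g' : C, ∀ i, σ (g * g') i = σ g (σ g' i) := by
    intro g g' i
    apply hdinj
    rw [← hσ, ← hσ, ← hσ]
    push_cast
    group
  have hσone : ∀ i, σ 1 i = i := by
    intro i
    apply hdinj
    rw [← hσ]
    simp
  let φ : C →* Equiv.Perm (Fin 3) :=
    { toFun := fun g => ⟨σ g, σ g⁻¹, fun i => by rw [← hσmul, inv_mul_cancel, hσone],
        fun i => by rw [← hσmul, mul_inv_cancel, hσone]⟩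
      map_one' := Equiv.ext hσone
      map_mul' := fun g g' => Equiv.ext (hσmul g g') }
  have hker : K.subgroupOf C = φ.ker := by
    ext g
    rw [Subgroup.mem_subgroupOf, MonoidHom.mem_ker, hK, Subgroup.mem_centralizer_iff]
    constructor
    · intro h
      refine Equiv.ext fun i => hdinj ?_
      show d (σ g i) = d i
      rw [← hσ]
      have hc' : d i * (g : G) = (g : G) * d i := h (d i) (by fin_cases i <;> simp [d])
      rw [← hc', mul_assoc, mul_inv_cancel, mul_one]
    · intro h x hx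
      obtain ⟨i, rfl⟩ : ∃ i, d i = x := by
        rcases hx with rfl | rfl | rfl
        exacts [⟨0, rfl⟩, ⟨1, rfl⟩, ⟨2, rfl⟩]
      have h1 : σ g i = i := Equiv.congr_fun h i
      have h2 := hσ g i
      rw [h1] at h2
      calc d i * (g : G) = (g : G) * d i * (g : G)⁻¹ * (g : G) := by rw [h2]
        _ = (g : G) * d i := by group
  have hswap : ∀ i k l : Fin 3, i ≠ k → i ≠ l → k ≠ l → Equiv.swap k l ∈ φ.range := by
    intro i k l hik hil hkl
    have hnei : (ThreeTrans.adj D (d i)).Nonempty :=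
      ⟨d k, hdD k, fun e => hik (hdinj e).symm, hdc i k⟩
    have hL := ThreeTrans.loc_class hcl hc (hdD i) hnei
    have hLc := ThreeTrans.centralCores_loc_transport hcl hd₀ (hdD i) ⟨h2, h3⟩
    have hL2 := ThreeTrans.loc_two hcl hc (hdD i) hnei
    let kL : ThreeTrans.Loc D (d i) :=
      ⟨d k, Subgroup.subset_closure ⟨hdD k, fun e => hik (hdinj e).symm, hdc i k⟩⟩
    let lL : ThreeTrans.Loc D (d i) :=
      ⟨d l, Subgroup.subset_closure ⟨hdD l, fun e => hil (hdinj e).symm, hdc i l⟩⟩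
    have mk' : kL ∈ ThreeTrans.locSet D (d i) := ⟨hdD k, fun e => hik (hdinj e).symm, hdc i k⟩
    have ml : lL ∈ ThreeTrans.locSet D (d i) := ⟨hdD l, fun e => hil (hdinj e).symm, hdc i l⟩
    obtain ⟨g₁, hg₁⟩ := ThreeTrans.class_conj hL mk' ml
    have hadj : kL ∈ ThreeTrans.adj (ThreeTrans.locSet D (d i)) lL :=
      ⟨mk', fun e => hkl (hdinj (congrArg Subtype.val e)), Subtype.ext (hdc l k)⟩
    have hmoved : g₁ * lL * g₁⁻¹ ∈ ThreeTrans.adj (ThreeTrans.locSet D (d i)) lL := by
      have h1 : lL ∈ ThreeTrans.adj (ThreeTrans.locSet D (d i)) kL :=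
        ⟨ml, fun e => hkl (hdinj (congrArg Subtype.val e).symm), Subtype.ext (hdc k l)⟩
      rw [← hg₁, ThreeTrans.adj_conj_image (ThreeTrans.group_of_class hL).2.1]
      exact ⟨lL, h1, by rw [hg₁]⟩
    obtain ⟨g₂, hg₂c, hg₂⟩ :=
      ThreeTrans.commuting_transitive_of_centralCores hL hL2 hLc ml hmoved hadj
    set g := g₂ * g₁ with hgdef
    have e1 : g * kL * g⁻¹ = lL := by
      calc g * kL * g⁻¹ = g₂ * (g₁ * kL * g₁⁻¹) * g₂⁻¹ := by rw [hgdef]; group
        _ = lL := by rw [hg₁, hg₂c.eq, mul_assoc, mul_inv_cancel, mul_one]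
    have e2 : g * lL * g⁻¹ = kL := by rw [← hg₂, hgdef]; group
    have a1 : (g : G) * d k * (g : G)⁻¹ = d l := congrArg Subtype.val e1
    have a2 : (g : G) * d l * (g : G)⁻¹ = d k := congrArg Subtype.val e2
    have a0 : (g : G) * d i * (g : G)⁻¹ = d i := by
      rw [(ThreeTrans.commute_of_mem_Loc g.2).eq, mul_assoc, mul_inv_cancel, mul_one]
    have hcases : ∀ m, (g : G) * d m * (g : G)⁻¹ = d (Equiv.swap k l m) := by
      intro m
      have hm : m = i ∨ m = k ∨ m = l := fin3_cases i k l hik hil hkl m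
      rcases hm with rfl | rfl | rfl
      · rw [Equiv.swap_apply_of_ne_of_ne hik hil]; exact a0
      · rw [Equiv.swap_apply_left]; exact a1
      · rw [Equiv.swap_apply_right]; exact a2
    have hprod : ∀ τ : Fin 3 → Fin 3, Function.Bijective τ → d (τ 0) * d (τ 1) * d (τ 2) = d 0 * d 1 * d 2 := by
      intro τ hτ
      have hperm : List.Perm (List.map d [τ 0, τ 1, τ 2]) (List.map d [0, 1, 2]) :=
        (fin3_perm τ hτ).map d
      have := hperm.prod_eq' (by
        rw [List.pairwise_iff_forall_sublist]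
        intro x y hxy
        obtain ⟨x', -, rfl⟩ := List.mem_map.1 (hxy.subset List.mem_cons_self)
        obtain ⟨y', -, rfl⟩ := List.mem_map.1 (hxy.subset (List.mem_cons_of_mem _ List.mem_cons_self))
        exact hdc x' y')
      simpa [mul_assoc] using this
    have hgC : (g : G) ∈ C := by
      rw [hC, Subgroup.mem_centralizer_singleton_iff]
      have e : (g : G) * (d 0 * d 1 * d 2) * (g : G)⁻¹ = d 0 * d 1 * d 2 := by
        have h := hprod _ (Equiv.swap k l).bijective
        rw [← hcases, ← hcases, ← hcases] at h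
        refine Eq.trans ?_ h; group
      calc (g : G) * (d₁ * d₂ * d₃) = (g : G) * (d 0 * d 1 * d 2) * (g : G)⁻¹ * (g : G) := by
            simp [d]
        _ = d₁ * d₂ * d₃ * (g : G) := by rw [e]; rfl
    refine ⟨⟨(g : G), hgC⟩, Equiv.ext fun m => hdinj ?_⟩
    show d (σ ⟨(g : G), hgC⟩ m) = _
    rw [← hσ]
    exact hcases m
  have hsurj : Function.Surjective φ := by
    rw [← MonoidHom.range_eq_top, eq_top_iff, ← Equiv.Perm.closure_isSwap, Subgroup.closure_le]
    rintro τ ⟨k, l, hkl, rfl⟩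
    obtain ⟨i, hik, hil⟩ : ∃ i : Fin 3, i ≠ k ∧ i ≠ l := by clear hswap; revert k l; decide
    exact hswap i k l hik hil hkl
  have hn : (K.subgroupOf C).Normal := hker ▸ φ.normal_ker
  exact ⟨hn, ⟨(QuotientGroup.quotientMulEquivOfEq hker).trans
    (QuotientGroup.quotientKerEquivOfSurjective φ hsurj)⟩⟩

end Cfsg.Agent.S5471
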