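import Cfsg.Statements.S5472
import Cfsg.Agent.Lib.FischerM22.AutFour.Transfer

set_option autoImplicit false
open Cfsg

namespace Cfsg.Agent.S5472

open Cfsg.Agent.CosetEnum (fi22Setup)
open Cfsg.Agent.Fi22U62 (rho pt0 z0)
open Cfsg.Agent.Fi22Aut (model)
open Cfsg.Agent.FischerM22

theorem congr_conj {H G : Type*} [Group H] [Group G] (ε : H ≃* G) (g : H) :
    MulAut.congr ε (MulAut.conj g) = MulAut.conj (ε g) :=
  MulEquiv.ext fun x => by simp

theorem congr_out {H G : Type*} [Group H] [Group G] (ε : H ≃* G) {t : MulAut H}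
    (h : t ∉ (MulAut.conj : H →* MulAut H).range) : MulAut.congr ε t ∉ (MulAut.conj : G →* MulAut G).range := by
  rintro ⟨g, hg⟩
  refine h ⟨ε.symm g, (MulAut.congr ε).injective ?_⟩
  rw [congr_conj, ε.apply_symm_apply, hg]

theorem congr_fix {H G : Type*} [Group H] [Group G] (ε : H ≃* G) (t : MulAut H) (x : H) :
    MulAut.congr ε t (ε x) = ε x ↔ t x = x := by
  rw [show MulAut.congr ε t (ε x) = ε (t (ε.symm (ε x))) from rfl, MulEquiv.symm_apply_apply, ε.apply_eq_iff_eq]

/-- Let G be a finite group with trivial centre generated by a conjugation-invariant set D of 3-transpositions on which it acts primitively, such that for some d in D the subgroup generated by the members of D other than d commuting with d has central largest normal 2- and 3-subgroups, and suppose G with D is of type M(22). Then G has a non-inner automorphism s of order 2 whose fixed-point subgroup is isomorphic to the full automorphism group of Ω⁺(8, 2) (the commutator subgroup of the isometry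 group of the hyperbolic quadratic form in dimension 8 over the field with two elements), together with distinct commuting members a, b of D fixed by s such that: s, s composed with conjugation by a, and s composed with conjugation by a b represent the three classes (under the automorphism group) of non-inner automorphisms of order 2; the elements fixed by the automorphism s composed with conjugation by a are exactly those fixed by s and commuting with a, and they form a group isomorphic to the direct product of a group of order 2 and the symplectic group of dimension 6 over the field with two elements; and the elements fixed by the automorphism s composed with conjugation by a b form a group whose largest normal 2-subgroup is elementary abelian of order 64 with quotient isomorphic to the full isometry group of the elliptic quadratic form in dimension 6 over the field with two elements. -/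
theorem result {G : Type*} [Group G] [Finite G] {D : Set G} (hD : Cfsg.IsThreeTranspositionGroup D) (hprim : Cfsg.IsPrimitiveUnderConj D) (d₀ : G) (hd₀ : d₀ ∈ D) (h3 : Cfsg.pCore 3 ↥(Subgroup.closure {y : G | y ∈ D ∧ y ≠ d₀ ∧ Commute d₀ y}) ≤ Subgroup.center ↥(Subgroup.closure {y : G | y ∈ D ∧ y ≠ d₀ ∧ Commute d₀ y})) (h2 : Cfsg.pCore 2 ↥(Subgroup.closure {y : G | y ∈ D ∧ y ≠ d₀ ∧ Commute d₀ y}) ≤ Subgroup.center ↥(Subgroup.closure {y : G | y ∈ D ∧ y ≠ d₀ ∧ Commute d₀ y})) (h22 : Cfsg.IsOfTypeM22 G D) : ∃ (s : MulAut G) (a b : G) (Cs : Subgroup G), orderOf s = 2 ∧ s ∉ (MulAut.conj : G →* MulAut G).range ∧ (∀ g : G, g ∈ Cs ↔ s g = g) ∧ Nonempty (↥Cs ≃* MulAut (Cfsg.Omega (ZMod 2) (Cfsg.quadFormPlus 4 (ZMod 2)))) ∧ a ∈ D ∧ b ∈ D ∧ a ≠ b ∧ Commute a b ∧ s a = a ∧ s b = b ∧ (∀ t : MulAut G, orderOf t = 2 → t ∉ (MulAut.conj : G →* MulAut G).range → (IsConj t s ∨ IsConj t (s * MulAut.conj a) ∨ IsConj t (s * MulAut.conj (a * b)))) ∧ ¬ IsConj s (s * MulAut.conj a) ∧ ¬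 IsConj s (s * MulAut.conj (a * b)) ∧ ¬ IsConj (s * MulAut.conj a) (s * MulAut.conj (a * b)) ∧ (∀ g : G, (s * MulAut.conj a) g = g ↔ g ∈ Cs ⊓ Subgroup.centralizer ({a} : Set G)) ∧ Nonempty (↥(Cs ⊓ Subgroup.centralizer ({a} : Set G)) ≃* Multiplicative (ZMod 2) × Cfsg.PSp 3 (ZMod 2)) ∧ ∃ Csab O : Subgroup G, (∀ g : G, g ∈ Csab ↔ (s * MulAut.conj (a * b)) g = g) ∧ O = (Cfsg.pCore 2 ↥Csab).map Csab.subtype ∧ Cfsg.IsElementaryAbelian 2 O ∧ Nat.card O = 64 ∧ ∃ _ : (O.subgroupOf Csab).Normal, Nonempty (↥Csab ⧸ O.subgroupOf Csab ≃* Cfsg.isometryGroup (ZMod 2) (Cfsg.quadFormMinus 2 (ZMod 2) 1 1)) := by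
  have S' := setup_of_primitive hD hprim h22
  obtain ⟨ε, hεD⟩ := Fi22AutFour.exists_equiv S'
  have := Fi22U62.fi22_finite
  let Φ : MulAut fi22Setup.G ≃* MulAut G := MulAut.congr ε
  have hso : Outer.s ∉ (MulAut.conj : fi22Setup.G →* MulAut fi22Setup.G).range :=
    fun ⟨g, hg⟩ => Outer.s_ne_conj g hg.symm
  have hs1 : Outer.s ≠ 1 := fun h => hso (h ▸ one_mem _)
  have hΦsa : Φ Outer.s * MulAut.conj (ε z0) = Φ (Outer.s * MulAut.conj z0) := by
    rw [map_mul, congr_conj]
  have hΦsab : Φ Outer.s * MulAut.conj (ε z0 * ε Outer.bd) = Φ (Outer.s * MulAut.conj (z0 * Outer.bd)) := by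
    rw [← map_mul ε, map_mul Φ, congr_conj]
  have hconj : ∀ {t u : MulAut fi22Setup.G}, IsConj (Φ t) (Φ u) ↔ IsConj t u := fun {t u} =>
    ⟨fun h => by simpa using Φ.symm.toMonoidHom.map_isConj h, fun h => Φ.toMonoidHom.map_isConj h⟩
  have hC : ∀ g, g ∈ Outer.Cs.map ε.toMonoidHom ↔ Φ Outer.s g = g := fun g => by
    obtain ⟨x, rfl⟩ := ε.surjective g
    rw [show Φ Outer.s (ε x) = ε x ↔ Outer.s x = x from congr_fix ε _ x]
    exact Subgroup.mem_map_iff_mem (f := ε.toMonoidHom) ε.injective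
  have hinf : Outer.Cs.map ε.toMonoidHom ⊓ Subgroup.centralizer ({ε z0} : Set G) =
      (Outer.Cs ⊓ Subgroup.centralizer ({z0} : Set fi22Setup.G)).map ε.toMonoidHom := by
    ext g
    obtain ⟨x, rfl⟩ := ε.surjective g
    refine Iff.trans ?_ (Subgroup.mem_map_iff_mem (f := ε.toMonoidHom) ε.injective).symm
    rw [Subgroup.mem_inf, Subgroup.mem_inf, Subgroup.mem_centralizer_singleton_iff,
      Subgroup.mem_centralizer_singleton_iff, ← map_mul, ← map_mul, ε.apply_eq_iff_eq]
    exact and_congr_left' (Subgroup.mem_map_iff_mem (f := ε.toMonoidHom) ε.injective)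
  obtain ⟨e8⟩ := Outer.cs_equiv
  obtain ⟨e6⟩ := Outer.csa_equiv
  obtain ⟨C, O, hCmem, hO, hO2, hOcard, hOn, ⟨eO⟩⟩ := Fi22AutFour.ab_structure
  refine ⟨Φ Outer.s, ε z0, ε Outer.bd, Outer.Cs.map ε.toMonoidHom, ?_, congr_out ε hso, hC,
    ⟨(Subgroup.equivMapOfInjective _ _ ε.injective).symm.trans e8⟩,
    (hεD _).2 ⟨pt0, by rw [Fi22Aut.model_d0]⟩, (hεD _).2 ⟨_, rfl⟩, ?_, Outer.b_facts.2.2.1.map ε,
    (congr_fix ε _ _).2 Outer.s_z0, (congr_fix ε _ _).2 Outer.s_bd, ?_, ?_, ?_, ?_, ?_, ?_, ?_⟩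
  · exact (Φ.orderOf_eq _).trans (orderOf_eq_prime (by rw [pow_two]; exact Outer.s_mul_s) hs1)
  · intro h
    refine Outer.b_facts.2.2.2 (model.inj ?_)
    rw [Fi22Aut.model_d0]
    exact (ε.injective h).symm
  · intro t ht hout
    obtain ⟨t, rfl⟩ := Φ.surjective t
    rw [hΦsa, hΦsab, hconj, hconj, hconj]
    have htt : t * t = 1 := by
      rw [← pow_two, ← ht, MulEquiv.orderOf_eq, pow_orderOf_eq_one]
    have hout' : t ∉ (MulAut.conj : fi22Setup.G →* MulAut fi22Setup.G).range := fun ⟨g, hg⟩ =>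
      hout ⟨ε g, by rw [← congr_conj, hg]⟩
    have hmem : ∀ x, x ∈ D → Φ t x ∈ D := fun x hx => by
      obtain ⟨i, rfl⟩ := (hεD x).1 hx
      obtain ⟨τ, hτ⟩ := Outer.exists_acts t
      refine (hεD _).2 ⟨τ i, ?_⟩
      show _ = ε (t (ε.symm (ε (model.d i))))
      rw [MulEquiv.symm_apply_apply, hτ]
    have hinv : ∀ x, Φ t (Φ t x) = x := fun x => by
      rw [← MulAut.mul_apply, ← map_mul, htt, map_one, MulAut.one_apply]
    obtain ⟨d, hdD, hd⟩ := involution_fixes S' (Φ t) hinv
      (fun x => ⟨fun h => by simpa [hinv] using hmem _ h, hmem x⟩)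
    obtain ⟨i, rfl⟩ := (hεD d).1 hdD
    exact Outer.classes hout' htt ((congr_fix ε t _).1 hd)
  · rw [hΦsa, hconj]; exact Outer.not_conj.1
  · rw [hΦsab, hconj]; exact Outer.not_conj.2.1
  · rw [hΦsa, hΦsab, hconj]; exact Outer.not_conj.2.2
  · intro g
    obtain ⟨x, rfl⟩ := ε.surjective g
    rw [hΦsa, congr_fix, Outer.sa_fixed_iff, hinf]
    exact (Subgroup.mem_map_iff_mem (f := ε.toMonoidHom) ε.injective).symm
  · rw [hinf]
    exact ⟨(Subgroup.equivMapOfInjective _ _ ε.injective).symm.trans e6⟩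
  · let f : ↥C ≃* ↥(C.map ε.toMonoidHom) := C.equivMapOfInjective _ ε.injective
    have hOle : O ≤ C := hO ▸ Subgroup.map_subtype_le _
    have he : (O.subgroupOf C).map f.toMonoidHom = (O.map ε.toMonoidHom).subgroupOf (C.map ε.toMonoidHom) := by
      ext ⟨x, hx⟩
      obtain ⟨y, hy, rfl⟩ := hx
      constructor
      · rintro ⟨z, hz, hzy⟩
        have : ε z.1 = ε y := congrArg Subtype.val hzy
        exact ⟨y, ε.injective this ▸ hz, rfl⟩
      · intro h
        rw [Subgroup.mem_subgroupOf] at h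
        exact ⟨⟨y, hy⟩, (Subgroup.mem_map_iff_mem (f := ε.toMonoidHom) ε.injective).1 h, Subtype.ext rfl⟩
    have hn' : ((O.map ε.toMonoidHom).subgroupOf (C.map ε.toMonoidHom)).Normal :=
      he ▸ hOn.map f.toMonoidHom f.surjective
    refine ⟨C.map ε.toMonoidHom, O.map ε.toMonoidHom, fun g => ?_, ?_, ⟨⟨⟨?_⟩⟩, ?_⟩, ?_, hn',
      ⟨(QuotientGroup.congr _ _ f he).symm.trans eO⟩⟩
    · obtain ⟨x, rfl⟩ := ε.surjective g
      rw [hΦsab, congr_fix, ← hCmem]
      exact Subgroup.mem_map_iff_mem (f := ε.toMonoidHom) ε.injective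
    · rw [← Cores.pCore_map_mulEquiv f 2, hO, Subgroup.map_map, Subgroup.map_map]
      congr 1
    · rintro ⟨_, a, ha, rfl⟩ ⟨_, b, hb, rfl⟩
      refine Subtype.ext ?_
      show ε a * ε b = ε b * ε a
      rw [← map_mul, ← map_mul]
      exact congrArg ε (congrArg Subtype.val (hO2.1.is_comm.comm ⟨a, ha⟩ ⟨b, hb⟩))
    · rintro _ ⟨a, ha, rfl⟩
      rw [← map_pow, hO2.2 a ha, map_one]
    · rw [Nat.card_congr (O.equivMapOfInjective _ ε.injective).symm.toEquiv, hOcard]

end Cfsg.Agent.S5472
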