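import Cfsg.Statements.S5518
import Cfsg.Agent.Lib.FischerM24.PrimeNorm.ThirteenG2

set_option autoImplicit false
open Cfsg

namespace Cfsg.Agent.S5518

/-- Let G be a finite group with trivial centre generated by a conjugation-invariant set D of 3-transpositions on which it acts primitively, such that for some d in D the subgroup generated by the members of D other than d commuting with d has central largest normal 2- and 3-subgroups, and suppose G with D is of type M(24). Then any two subgroups of order 13 are conjugate; and there are members a, b, c, d of D generating the direct product T of two symmetric groups of degree 3 (a, d non-commuting; b, c non-commuting; b and c commuting with a and d) whose centralizer K is isomorphic to the Chevalley group G₂(3), such that for every subgroup B of K of order 13: the normalizer of B lies in the normalizer of K, the normalizer F of B in K is a Frobenius group of order 78 with kernel B (order 78, centralizer of B in it equal to B), and the subgroup generated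 by F and T has index 2 in the normalizer of B. -/
theorem result {G : Type*} [Group G] [Finite G] {D : Set G} (hD : Cfsg.IsThreeTranspositionGroup D) (hprim : Cfsg.IsPrimitiveUnderConj D) (d₀ : G) (hd₀ : d₀ ∈ D) (h3 : Cfsg.pCore 3 ↥(Subgroup.closure {y : G | y ∈ D ∧ y ≠ d₀ ∧ Commute d₀ y}) ≤ Subgroup.center ↥(Subgroup.closure {y : G | y ∈ D ∧ y ≠ d₀ ∧ Commute d₀ y})) (h2 : Cfsg.pCore 2 ↥(Subgroup.closure {y : G | y ∈ D ∧ y ≠ d₀ ∧ Commute d₀ y}) ≤ Subgroup.center ↥(Subgroup.closure {y : G | y ∈ D ∧ y ≠ d₀ ∧ Commute d₀ y})) (h24 : Cfsg.IsOfTypeM24 G D) : (∀ X Y : Subgroup G, Nat.card X = 13 → Nat.card Y = 13 → ∃ g : G, X.map (MulAut.conj g).toMonoidHom = Y) ∧ ∃ (a b c d : G) (T K : Subgroup G), (∀ x ∈ [a, b, c, d], x ∈ D) ∧ ¬ Commute a d ∧ ¬ Commute b c ∧ Commute a b ∧ Commute a c ∧ Commute d b ∧ Commute d c ∧ T = Subgroup.closure ({a, b, c, d} : Set G) ∧ K = Subgroup.centralizer (T : Set G) ∧ Nonempty (↥K ≃* ↥(Cfsg.Lie.chevG2.group (ZMod 3))) ∧ ∀ B : Subgroup G, B ≤ K → Nat.card B = 13 → Subgroup.normalizer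 ((B : Subgroup G) : Set G) ≤ Subgroup.normalizer ((K : Subgroup G) : Set G) ∧ Nat.card ↥(K ⊓ Subgroup.normalizer ((B : Subgroup G) : Set G)) = 78 ∧ K ⊓ Subgroup.centralizer ((B : Subgroup G) : Set G) = B ∧ (((K ⊓ Subgroup.normalizer ((B : Subgroup G) : Set G)) ⊔ T).subgroupOf (Subgroup.normalizer ((B : Subgroup G) : Set G))).index = 2 := by
  have : Fact (Nat.Prime 13) := ⟨by norm_num⟩
  have S := Cfsg.Agent.FischerM24.setup_of_primitive hD hprim h24
  refine ⟨fun X Y hX hY => PrimeNorm.conj_prime ?_ hX hY, ?_⟩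
  · rw [Cfsg.Agent.FischerM24.group_card S]; norm_num
  obtain ⟨x, hx⟩ := exists_prime_orderOf_dvd_card' (G := G) 13
    (by rw [Cfsg.Agent.FischerM24.group_card S]; norm_num)
  have hX : Nat.card (Subgroup.zpowers x) = 13 := by rw [Nat.card_zpowers, hx]
  obtain ⟨a, b, c, d, h, ha, hb, hc, hd⟩ := PrimeNorm24.thirteen_six S hX
  refine ⟨a, b, c, d, _, PrimeNorm24.centFour a b c d, ?_, h.had, h.hbc, h.hab, h.hac, h.hdb, h.hdc, rfl,
    PrimeNorm24.centFour_eq a b c d, PrimeNorm24.centFour_iso S hX h ha hb hc hd, fun B hB hBc => ?_⟩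
  · simp only [List.mem_cons, List.not_mem_nil, or_false]
    rintro x (rfl | rfl | rfl | rfl)
    exacts [h.ha, h.hb, h.hc, h.hd]
  obtain ⟨fa, fb, fc, fd⟩ := PrimeNorm24.mem_fixD_of_le hB h
  obtain ⟨-, hn, hcc⟩ := PrimeNorm24.thirteen_norm S hBc h fa fb fc fd
  exact ⟨PrimeNorm24.thirteen_normalizes S hBc h hB, (inf_comm (PrimeNorm24.centFour a b c d) _) ▸ hn, hcc,
    PrimeNorm24.thirteen_index S hBc h hB⟩

end Cfsg.Agent.S5518
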