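import Cfsg.Statements.S5521
import Cfsg.Agent.Lib.Golay.M24

set_option autoImplicit false
open scoped Pointwise
open Cfsg Cfsg.Agent.Golay

namespace Cfsg.Agent.S5521

/-- The Mathieu group M₂₄ in its natural action on the 24 coordinate positions of the binary Golay code has minimal base size exactly 7: every set of at most 6 positions is fixed pointwise by some non-identity element of M₂₄, while some set of 7 positions is fixed pointwise only by the identity. -/
theorem result :
    (∀ B : Finset Cfsg.GolayPt, B.card ≤ 6 → ∃ g ∈ Cfsg.M24, g ≠ 1 ∧ ∀ b ∈ B, g b = b) ∧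
    (∃ B : Finset Cfsg.GolayPt, B.card = 7 ∧ ∀ g ∈ Cfsg.M24, (∀ b ∈ B, g b = b) → g = 1) := by
  classical
  constructor
  · intro B hB
    obtain ⟨B', hBB, hB'⟩ := Finset.exists_superset_card_eq (n := 6) hB (by simp)
    obtain ⟨b, hb⟩ := Finset.card_pos.1 (show 0 < B'.card by omega)
    have h5 : (B'.erase b).card = 5 := by rw [Finset.card_erase_of_mem hb]; omega
    let e : Fin 5 ≃ ↥(B'.erase b) :=
      (Fintype.equivFinOfCardEq (by rw [Fintype.card_coe, h5])).symm
    obtain ⟨t, ht, htx⟩ := exists_map_five
      ⟨fun i => (e i : GolayPt), Subtype.val_injective.comp e.injective⟩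
      ⟨fun i => bpt i.val, by decide +kernel⟩
    have hnot : ¬ Function.Injective (fun g : ↥(chain 5) => (g : Equiv.Perm GolayPt) (t b)) := by
      intro hinj
      have h48 : Nat.card ↥(chain 5) = 48 := natCard_chain 5 (by norm_num)
      have hle := Nat.card_le_card_of_injective _ hinj
      rw [h48, Nat.card_eq_fintype_card] at hle
      simp at hle
    simp only [Function.Injective, not_forall] at hnot
    obtain ⟨u, v, huv, hne⟩ := hnot
    obtain ⟨hcM, hcfix⟩ := mem_chain.1 (mul_mem (inv_mem v.2) u.2)
    refine ⟨t⁻¹ * ((v : Equiv.Perm GolayPt)⁻¹ * u) * t, mul_mem (mul_mem (inv_mem ht) hcM) ht,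
      fun h => hne (Subtype.ext ?_), fun y hy => ?_⟩
    · rw [mul_assoc, inv_mul_eq_one, eq_comm, mul_eq_right, inv_mul_eq_one] at h
      exact h.symm
    · simp only [Equiv.Perm.mul_apply, Equiv.Perm.inv_def]
      rcases eq_or_ne y b with rfl | hyb
      · rw [huv, Equiv.symm_apply_apply, Equiv.symm_apply_apply]
      · obtain ⟨i, hi⟩ := e.surjective ⟨y, Finset.mem_erase.2 ⟨hyb, hBB hy⟩⟩
        have hti : t y = bpt i.val := by
          have h := htx i
          simp only [Function.Embedding.coeFn_mk, hi] at h
          exact h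
        have h := hcfix i.val (by omega)
        rw [Equiv.Perm.mul_apply, Equiv.Perm.inv_def] at h
        rw [hti, h, ← hti, Equiv.symm_apply_apply]
  · refine ⟨Finset.univ.image base, ?_, fun g hg h => ?_⟩
    · rw [Finset.card_image_of_injective _ isFrame_base.1]
      simp
    · exact eq_one_of_base hg fun i => h _ (Finset.mem_image_of_mem _ (Finset.mem_univ i))

end Cfsg.Agent.S5521
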