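import Cfsg.Statements.S5522
import Cfsg.Agent.Lib.Golay.M23Aut
import Cfsg.Agent.Lib.GolayClasses.Three
import Cfsg.Agent.Lib.GolayInvol.Basic
import Cfsg.Agent.Lib.MathieuEleven.Basic

set_option autoImplicit false
open scoped Pointwise
open Cfsg Cfsg.Agent.Golay Cfsg.Agent.GolayClasses

namespace Cfsg.Agent.S5522

/-- An element of order two or three in M24 with a fixed point fixes at least six points. -/
theorem six_le_fixed {g : Equiv.Perm GolayPt} (hg : g ∈ M24) (ho : orderOf g = 2 ∨ orderOf g = 3)
    {a : GolayPt} (ha : g a = a) : 6 ≤ (Finset.univ.filter fun p => g p = p).card := by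
  rcases ho with ho | ho
  · obtain ⟨k, -, rfl | rfl⟩ := GolayInvol.involution_cases hg ho
    · rw [card_fixed_conj, GolayInvol.fixSet_repFix.2]
      norm_num
    · refine absurd ?_ (GolayInvol.repFree_ne (k.symm a))
      simpa [Equiv.Perm.mul_apply, Equiv.apply_eq_iff_eq_symm_apply] using ha
  · obtain ⟨k, -, rfl | rfl⟩ := three_cases hg ho
    · rw [card_fixed_conj, fixed_repA]
    · refine absurd ?_ (fixed_repB (k.symm a))
      simpa [Equiv.Perm.mul_apply, Equiv.apply_eq_iff_eq_symm_apply] using ha

/-- The Mathieu group M₁₁, realised as the stabiliser of one point of the dodecad of squares inside the stabiliser M₁₂ of that dodecad in M₂₄, acts on the twelve coordinate positions outside the dodecad of squares (its 3-transitive action of degree 12); in this action every element of prime order fixes a point, i.e. the action is elusive. -/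
theorem result (g : Equiv.Perm Cfsg.GolayPt) (hg : g ∈ Cfsg.Spor.M11) (hord : (orderOf g).Prime) :
    ∃ x : Cfsg.GolayPt, x ∉ Cfsg.Spor.squareDodecad ∧ g x = x := by
  classical
  by_contra hcon
  push Not at hcon
  obtain ⟨⟨hgM, hgD⟩, hg0⟩ := hg
  have hg0' : g (some 0) = some 0 := hg0
  set D := Spor.squareDodecad with hD
  have hDd : D ∈ dodecads := by rw [hD, ← pts_dodecad0]; exact dodecad0_mem
  have hgD' : g • D = D := hgD
  set F := Finset.univ.filter fun p => g p = p with hF
  have hsub : F ⊆ D := fun p hp => by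
    by_contra hpD
    exact hcon p hpD (Finset.mem_filter.1 hp).2
  have hne : g ≠ 1 := fun h => by rw [h, orderOf_one] at hord; exact Nat.not_prime_one hord
  have hle : F.card ≤ 4 := by
    by_contra h5
    obtain ⟨S, hSF, hS⟩ := Finset.exists_subset_card_eq (show 5 ≤ F.card by omega)
    obtain ⟨e⟩ : Nonempty (Fin 5 ≃ ↥S) :=
      ⟨(Fintype.equivFinOfCardEq (by rw [Fintype.card_coe, hS])).symm⟩
    refine hne (eq_one_of_five_dodecad hgM hDd hgD'
      ⟨fun i => (e i : GolayPt), Subtype.val_injective.comp e.injective⟩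
      (fun i => hsub (hSF (e i).2)) fun i => (Finset.mem_filter.1 (hSF (e i).2)).2)
  have hinv : ∀ y, g y ∈ D ↔ y ∈ D := fun y => by
    constructor
    · intro h
      rw [← hgD'] at h
      exact (Finset.smul_mem_smul_finset_iff g).1 h
    · intro h
      rw [← hgD']
      exact Finset.smul_mem_smul_finset h
  have hpos : 1 ≤ F.card := Finset.card_pos.2 ⟨some 0, by rw [hF, Finset.mem_filter]; exact ⟨Finset.mem_univ _, hg0'⟩⟩
  set p := orderOf g with hpo
  haveI : Fact p.Prime := ⟨hord⟩
  have hp : g ^ p = 1 := pow_orderOf_eq_one g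
  have h1 : F.card % p = 24 % p := by
    have h := card_mod_of_invariant (O := Finset.univ) hp (fun y => by simp)
    simpa using h
  have h2 : F.card % p = 12 % p := by
    have h := card_mod_of_invariant (O := D) hp hinv
    rw [hDd.2] at h
    rw [show F = D.filter fun y => g y = y from ?_]
    · exact h
    · ext y
      simp only [hF, Finset.mem_filter, Finset.mem_univ, true_and]
      exact ⟨fun hy => ⟨hsub (Finset.mem_filter.2 ⟨Finset.mem_univ _, hy⟩), hy⟩, fun hy => hy.2⟩
  have hdvd : p ∣ 7920 := by
    rw [← MathieuEleven.natCard_m11]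
    exact Subgroup.orderOf_dvd_natCard _ ⟨⟨hgM, hgD⟩, hg0⟩
  have hp11 : p = 2 ∨ p = 3 ∨ p = 5 ∨ p = 11 := by
    have h : p ∈ (7920 : ℕ).primeFactors := Nat.mem_primeFactors.2 ⟨hord, hdvd, by norm_num⟩
    rw [show (7920 : ℕ) = 2 ^ 4 * 3 ^ 2 * 5 * 11 by norm_num] at hdvd
    rcases (Nat.Prime.dvd_mul hord).1 hdvd with h | h
    · rcases (Nat.Prime.dvd_mul hord).1 h with h | h
      · rcases (Nat.Prime.dvd_mul hord).1 h with h | h
        · exact Or.inl ((Nat.prime_dvd_prime_iff_eq hord Nat.prime_two).1 (hord.dvd_of_dvd_pow h))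
        · exact Or.inr (Or.inl ((Nat.prime_dvd_prime_iff_eq hord Nat.prime_three).1
            (hord.dvd_of_dvd_pow h)))
      · exact Or.inr (Or.inr (Or.inl ((Nat.prime_dvd_prime_iff_eq hord (by norm_num)).1 h)))
    · exact Or.inr (Or.inr (Or.inr ((Nat.prime_dvd_prime_iff_eq hord (by norm_num)).1 h)))
  have hfilt : ∀ n, 6 ≤ n → (Finset.univ.filter fun p => g p = p).card = n → F.card = n := by
    intro n _ hn
    rw [← hn, hF]
  rcases hp11 with h | h | h | h
  · have := six_le_fixed hgM (Or.inl h) hg0'
    have := hfilt _ this rfl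
    omega
  · have := six_le_fixed hgM (Or.inr h) hg0'
    have := hfilt _ this rfl
    omega
  · rw [h] at h1 h2
    omega
  · rw [h] at h1 h2
    omega

end Cfsg.Agent.S5522
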