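import Cfsg.Statements.S5529
import Cfsg.Agent.Lib.Golay.Triples

set_option autoImplicit false
open Cfsg

namespace Cfsg.Agent.S5529

/-- The positive triples are covered by the certificates. -/
theorem covered : ([2, 3, 5, 7, 11, 23].all fun p => [2, 3, 5, 7, 11, 23].all fun q =>
    [2, 3, 5, 7, 11, 23].all fun r => decide (q < p) || decide (r < q) || (p == 2 && q == 2) ||
      ((p == 2 && q == 3) || (p == 2 && q == 5 && r == 5) || (p == 2 && q == 5 && r == 7) ||
        (p == 3 && q == 3 && decide (r ≤ 7))) ||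
      Cfsg.Agent.Golay.Triples.entries.any fun e => e.1 == p && e.2.1 == q && e.2.2.1 == r) =
    true := by
  decide +kernel

theorem mem_primes {p : ℕ} (hp : p.Prime) (h : p ∣ 10200960) : p ∈ [2, 3, 5, 7, 11, 23] := by
  have e : (10200960 : ℕ) = 2 ^ 7 * 3 ^ 2 * 5 * 7 * 11 * 23 := by norm_num
  rw [e] at h
  simp only [hp.dvd_mul] at h
  rcases h with (((((h | h) | h) | h) | h) | h)
  · simp [(Nat.prime_dvd_prime_iff_eq hp Nat.prime_two).mp (hp.dvd_of_dvd_pow h)]
  · simp [(Nat.prime_dvd_prime_iff_eq hp Nat.prime_three).mp (hp.dvd_of_dvd_pow h)]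
  · simp [(Nat.prime_dvd_prime_iff_eq hp (by norm_num : (5 : ℕ).Prime)).mp h]
  · simp [(Nat.prime_dvd_prime_iff_eq hp (by norm_num : (7 : ℕ).Prime)).mp h]
  · simp [(Nat.prime_dvd_prime_iff_eq hp (by norm_num : (11 : ℕ).Prime)).mp h]
  · simp [(Nat.prime_dvd_prime_iff_eq hp (by norm_num : (23 : ℕ).Prime)).mp h]


/-- Generation of the Mathieu group M₂₃ (the stabiliser of a point in the Mathieu group M₂₄ acting on 24 points) by triples of prime orders. Let p ≤ q ≤ r be primes dividing |M₂₃| = 10200960 = 2⁷·3²·5·7·11·23, not both p and q equal to 2. Then M₂₃ contains elements x, y, z of orders p, q, r with xyz = 1 and ⟨x, y⟩ = M₂₃ if and only if (p, q, r) is none of: (2, 3, r) for any r, (2, 5, 5), (2, 5, 7), (3, 3, 3), (3, 3, 5), (3, 3, 7). -/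
theorem result (p q r : ℕ) (hp : p.Prime) (hq : q.Prime)
    (hr : r.Prime) (hpq : p ≤ q) (hqr : q ≤ r) (hp2 : ¬ (p = 2 ∧ q = 2))
    (hdvd : p ∣ 10200960 ∧ q ∣ 10200960 ∧ r ∣ 10200960) :
    (∃ x y z : Cfsg.Spor.M23, orderOf x = p ∧ orderOf y = q ∧ orderOf z = r ∧ x * y * z = 1 ∧
        Subgroup.closure {x, y} = ⊤) ↔
      ¬ ((p = 2 ∧ q = 3) ∨ (p = 2 ∧ q = 5 ∧ r = 5) ∨ (p = 2 ∧ q = 5 ∧ r = 7) ∨ (p = 3 ∧ q = 3 ∧ r ≤ 7)) := by
  constructor
  · rintro ⟨x, y, z, hx, hy, hz, hxyz, htop⟩ hbad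
    exact Cfsg.Agent.Golay.Triples.not_generate hp hq hr hqr hbad x y z hx hy hz hxyz htop
  · intro hgood
    have h := covered
    simp only [List.all_eq_true] at h
    have := h p (mem_primes hp hdvd.1) q (mem_primes hq hdvd.2.1) r (mem_primes hr hdvd.2.2)
    simp only [Bool.or_eq_true, Bool.and_eq_true, decide_eq_true_eq, beq_iff_eq,
      List.any_eq_true] at this
    rcases this with (((h1 | h1) | h1) | h1) | ⟨e, he, ⟨h1, h2⟩, h3⟩
    · omega
    · omega
    · exact absurd h1 hp2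
    · exact absurd (by tauto) hgood
    · exact Cfsg.Agent.Golay.Triples.exists_of_entry he hp hq hr h1 h2 h3

end Cfsg.Agent.S5529
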