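import Cfsg.Statements.S5541
import Cfsg.Agent.EqLemmas

set_option autoImplicit false
open Cfsg

namespace Cfsg.Agent.S5541

/-- Let ρ be a representation of a group H on a finite-dimensional real vector space U whose only ρ-invariant subspaces are the zero subspace and U, and suppose U carries a non-zero ρ-invariant symmetric bilinear form. Then the following are equivalent: (1) there is a non-zero ρ-equivariant commutative bilinear product on U of which every ρ-equivariant bilinear product is a scalar multiple; (2) there is a non-zero ρ-invariant trilinear form on U that is symmetric under all permutations of its arguments and of which every ρ-invariant trilinear form is a scalar multiple. -/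
theorem result {H : Type*} [Group H] {U : Type*} [AddCommGroup U] [Module ℝ U] [FiniteDimensional ℝ U] (ρ : Representation ℝ H U) (hirr : ∀ W : Submodule ℝ U, (∀ g : H, W.map (ρ g) ≤ W) → W = ⊥ ∨ W = ⊤) (B : LinearMap.BilinForm ℝ U) (hB0 : B ≠ 0) (hBs : ∀ u v, B u v = B v u) (hBi : ∀ (g : H) (u v : U), B (ρ g u) (ρ g v) = B u v) : (∃ m : U →ₗ[ℝ] U →ₗ[ℝ] U, m ≠ 0 ∧ (∀ u v, m u v = m v u) ∧ (∀ (g : H) (u v : U), m (ρ g u) (ρ g v) = ρ g (m u v)) ∧ ∀ m' : U →ₗ[ℝ] U →ₗ[ℝ] U, (∀ (g : H) (u v : U), m' (ρ g u) (ρ g v) = ρ g (m' u v)) → ∃ c : ℝ, m' = c • m) ↔ (∃ t : U →ₗ[ℝ] U →ₗ[ℝ] U →ₗ[ℝ] ℝ, t ≠ 0 ∧ (∀ u v w, t u v w = t v u w ∧ t u v w = t u w v) ∧ (∀ (g : H) (u v w : U), t (ρ g u) (ρ g v) (ρ g w) = t u v w) ∧ ∀ t' : U →ₗ[ℝ] U →ₗ[ℝ] U →ₗ[ℝ] ℝ, (∀ (g : H) (u v w : U), t' (ρ g u) (ρ g v) (ρ g w) = t' u v w) → ∃ c : ℝ, t' = c • t) := by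
  -- the form is non-degenerate
  have hker : LinearMap.ker B = ⊥ := by
    rcases hirr (LinearMap.ker B) (fun g => by
      rintro _ ⟨u, hu, rfl⟩
      rw [LinearMap.mem_ker]
      ext v
      have hv : ρ g (ρ g⁻¹ v) = v := ρ.self_inv_apply g v
      rw [← hv, hBi]
      rw [SetLike.mem_coe, LinearMap.mem_ker] at hu
      simp [hu]) with h | h
    · exact h
    · exact absurd (LinearMap.ker_eq_top.mp h) hB0
  have hBinj : ∀ u v : U, (∀ w, B u w = B v w) → u = v := fun u v h =>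
    LinearMap.ker_eq_bot.mp hker (LinearMap.ext h)
  let e : U ≃ₗ[ℝ] Module.Dual ℝ U := LinearMap.linearEquivOfInjective B
    (LinearMap.ker_eq_bot.mp hker) Subspace.dual_finrank_eq.symm
  have he : ∀ u v, e u v = B u v := fun u v => rfl
  -- products to forms, forms to products
  let T : (U →ₗ[ℝ] U →ₗ[ℝ] U) → (U →ₗ[ℝ] U →ₗ[ℝ] U →ₗ[ℝ] ℝ) :=
    fun m => m.compr₂ (B : U →ₗ[ℝ] U →ₗ[ℝ] ℝ)
  let M : (U →ₗ[ℝ] U →ₗ[ℝ] U →ₗ[ℝ] ℝ) → (U →ₗ[ℝ] U →ₗ[ℝ] U) :=
    fun t => t.compr₂ e.symm.toLinearMap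
  have hT : ∀ m u v w, T m u v w = B (m u v) w := fun m u v w => rfl
  have hM : ∀ t u v w, B (M t u v) w = t u v w := fun t u v w => by
    rw [← he]
    show e (e.symm (t u v)) w = t u v w
    rw [e.apply_symm_apply]
  have hTi : ∀ m, (∀ (g : H) (u v : U), m (ρ g u) (ρ g v) = ρ g (m u v)) →
      ∀ (g : H) (u v w : U), T m (ρ g u) (ρ g v) (ρ g w) = T m u v w := fun m hm g u v w => by
    rw [hT, hT, hm, hBi]
  have hMi : ∀ t, (∀ (g : H) (u v w : U), t (ρ g u) (ρ g v) (ρ g w) = t u v w) →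
      ∀ (g : H) (u v : U), M t (ρ g u) (ρ g v) = ρ g (M t u v) := fun t ht g u v => hBinj _ _ fun w => by
    have hw : ρ g (ρ g⁻¹ w) = w := ρ.self_inv_apply g w
    rw [← hw, hM, hBi, hM, ht]
  constructor
  · rintro ⟨m, hm0, hms, hmi, hmu⟩
    have huniq : ∀ t' : U →ₗ[ℝ] U →ₗ[ℝ] U →ₗ[ℝ] ℝ,
        (∀ (g : H) (u v w : U), t' (ρ g u) (ρ g v) (ρ g w) = t' u v w) →
        ∃ c : ℝ, t' = c • T m := fun t' ht' => by
      obtain ⟨c, hc⟩ := hmu (M t') (hMi t' ht')
      refine ⟨c, ?_⟩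
      ext u v w
      rw [← hM t', hc]
      simp [hT]
    have hT0 : T m ≠ 0 := fun h => hm0 (by
      refine LinearMap.ext fun u => LinearMap.ext fun v => hBinj _ _ fun w => ?_
      rw [← hT, h]
      simp)
    let t' : U →ₗ[ℝ] U →ₗ[ℝ] U →ₗ[ℝ] ℝ := LinearMap.lflip.toLinearMap ∘ₗ T m
    have ht' : ∀ u v w, t' u v w = T m u w v := fun u v w => rfl
    obtain ⟨c, hc⟩ := huniq t' (fun g u v w => by rw [ht', ht', hTi m hmi])
    have hsw : ∀ u v w, T m u w v = c * T m u v w := fun u v w => by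
      rw [← ht', hc]
      simp
    have hs1 : ∀ u v w, T m u v w = T m v u w := fun u v w => by rw [hT, hT, hms]
    refine ⟨T m, hT0, fun u v w => ⟨hs1 u v w, ?_⟩, hTi m hmi, huniq⟩
    by_contra hne
    have hne' : T m u w v ≠ T m u v w := fun h => hne h.symm
    have h2 : T m u v w = c * (c * T m u v w) := by rw [← hsw, ← hsw]
    have hc1 : c ≠ 1 := fun h => hne' (by rw [hsw, h, one_mul])
    have h0 : T m u v w ≠ 0 := fun h => hne' (by rw [hsw, h, mul_zero])
    have hcsq : c * c = 1 := by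
      apply mul_right_cancel₀ h0
      linarith [mul_assoc c c (T m u v w)]
    have hc' : c = -1 := by
      rcases mul_self_eq_one_iff.mp hcsq with h | h
      · exact absurd h hc1
      · exact h
    -- antisymmetric in the last two, symmetric in the first two
    have a1 := hsw u v w
    have a2 := hsw v u w
    have a3 := hsw w u v
    have b1 := hs1 u v w
    have b2 := hs1 v w u
    have b3 := hs1 w u v
    rw [hc'] at a1 a2 a3
    apply h0
    linarith
  · rintro ⟨t, ht0, hts, hti, htu⟩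
    refine ⟨M t, ?_, fun u v => hBinj _ _ fun w => ?_, hMi t hti, fun m' hm' => ?_⟩
    · intro h
      apply ht0
      ext u v w
      rw [← hM t, h]
      simp
    · rw [hM, hM, (hts u v w).1]
    · obtain ⟨c, hc⟩ := htu (T m') (hTi m' hm')
      refine ⟨c, LinearMap.ext fun u => LinearMap.ext fun v => hBinj _ _ fun w => ?_⟩
      rw [← hT, hc]
      simp [hM]

end Cfsg.Agent.S5541
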