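import Cfsg.Statements.S5543
import Cfsg.Agent.Lib.Axial.Majorana

set_option autoImplicit false
open Cfsg

open Cfsg.Axial Cfsg.Agent.Axial

namespace Cfsg.Agent.S5543

/-- Let V be a finite-dimensional real vector space with a commutative bilinear product and a positive-definite symmetric bilinear form that associates with the product and satisfies the Norton inequality (the Majorana setting of the definitions). Let X be a group of linear automorphisms of V in which every element squares to the identity, and suppose every non-identity element x of X is a Majorana involution with an axial vector a(x) of squared length 1, such that for any two distinct non-identity x, y the product a(x) ∘ a(y) equals (1/8)(a(x) + a(y) − a(xy)) (the dihedral subalgebra of type 2A whose third axis belongs to the involution xy). Then X has order at most 4. -/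
theorem result {V : Type*} [AddCommGroup V] [Module ℝ V] [FiniteDimensional ℝ V] (mul : V →ₗ[ℝ] V →ₗ[ℝ] V) (B : LinearMap.BilinForm ℝ V) (hV : Cfsg.Axial.IsMajoranaAmbient mul B) (X : Subgroup (V ≃ₗ[ℝ] V)) (hX : ∀ x ∈ X, x * x = 1) (ax : (V ≃ₗ[ℝ] V) → V) (hax : ∀ x ∈ X, x ≠ 1 → Cfsg.Axial.IsMajoranaPair mul B x (ax x)) (h1 : ∀ x ∈ X, x ≠ 1 → B (ax x) (ax x) = 1) (h2A : ∀ x ∈ X, ∀ y ∈ X, x ≠ 1 → y ≠ 1 → x ≠ y → mul (ax x) (ax y) = (1 / 8 : ℝ) • (ax x + ax y - ax (x * y))) : Nat.card ↥X ≤ 4 := by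
  classical
  obtain ⟨hcomm, hsymm, hpos, hassoc, -⟩ := hV
  by_contra hcard
  rw [not_le] at hcard
  have hfin : Finite ↥X := Nat.finite_of_card_ne_zero (by omega)
  have hXfin : (X : Set (V ≃ₗ[ℝ] V)).Finite := Set.toFinite _
  have hnc : 4 < (X : Set (V ≃ₗ[ℝ] V)).ncard := by
    rwa [← Nat.card_coe_set_eq]
  have pick : ∀ s : Finset (V ≃ₗ[ℝ] V), s.card ≤ 4 → ∃ x ∈ X, x ∉ s := by
    intro s hs
    by_contra hno
    push Not at hno
    have hsub : (X : Set (V ≃ₗ[ℝ] V)) ⊆ ↑s := fun x hx => hno x hx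
    have := Set.ncard_le_ncard hsub s.finite_toSet
    rw [Set.ncard_coe_finset] at this
    omega
  obtain ⟨x, hx, hx1⟩ := pick {1} (by simp)
  obtain ⟨y, hy, hy'⟩ := pick {1, x} (le_trans Finset.card_le_two (by norm_num))
  obtain ⟨z, hz, hz'⟩ := pick {1, x, y, x * y} Finset.card_le_four
  simp only [Finset.mem_singleton, Finset.mem_insert, not_or] at hx1 hy' hz'
  obtain ⟨hy1, hyx⟩ := hy'
  obtain ⟨hz1, hzx, hzy, hzxy⟩ := hz'
  have inv' : ∀ u ∈ X, ∀ v, u * (u * v) = v := fun u hu v => by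
    rw [← mul_assoc, hX u hu, one_mul]
  have eq_of : ∀ u ∈ X, ∀ v, u * v = 1 → v = u := fun u hu v h => by
    have := inv' u hu v
    rw [h, mul_one] at this
    exact this.symm
  have ne_left : ∀ u v : V ≃ₗ[ℝ] V, v ≠ 1 → u ≠ u * v := fun u v hv h => by
    exact hv (by simpa using h.symm)
  -- inner products of two different axes
  have hb : ∀ u ∈ X, ∀ v ∈ X, u ≠ 1 → v ≠ 1 → u ≠ v → B (ax u) (ax v) = 1 / 8 := by
    intro u hu v hv hu1 hv1 huv
    have huv1 : u * v ≠ 1 := fun h => huv (eq_of u hu v h).symm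
    have huv' : u * v ∈ X := X.mul_mem hu hv
    have key : ∀ v' ∈ X, v' ≠ 1 → u ≠ v' →
        B (ax u) (ax v') = 1 / 8 * (1 + B (ax u) (ax v') - B (ax u) (ax (u * v'))) := by
      intro v' hv' hv'1 huv2
      have h := hassoc (ax u) (ax u) (ax v')
      rw [h2A u hu v' hv' hu1 hv'1 huv2, (hax u hu hu1).2.2.1.1.2.1] at h
      simp only [map_smul, map_add, map_sub, smul_eq_mul, h1 u hu hu1] at h
      linarith
    have e1 := key v hv hv1 huv
    have e2 := key (u * v) huv' huv1 (ne_left u v hv1)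
    rw [inv' u hu v] at e2
    linarith
  -- quarter eigenvectors
  have hq : ∀ u ∈ X, ∀ v ∈ X, u ≠ 1 → v ≠ 1 → u ≠ v →
      mul (ax u) (ax v - ax (u * v)) = (1 / 4 : ℝ) • (ax v - ax (u * v)) := by
    intro u hu v hv hu1 hv1 huv
    have huv1 : u * v ≠ 1 := fun h => huv (eq_of u hu v h).symm
    rw [map_sub, h2A u hu v hv hu1 hv1 huv,
      h2A u hu (u * v) (X.mul_mem hu hv) hu1 huv1 (ne_left u v hv1), inv' u hu v]
    module
  have comm : ∀ u ∈ X, ∀ v ∈ X, u * v = v * u := fun u hu v hv => by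
    have h := inv' (u * v) (X.mul_mem hu hv) (v * u)
    have h' : u * v * (v * u) = 1 := by rw [mul_assoc, inv' v hv, hX u hu]
    rw [h', mul_one] at h
    exact h
  have hxy := X.mul_mem hx hy
  have hxz := X.mul_mem hx hz
  have hyz := X.mul_mem hy hz
  have hxy1 : x * y ≠ 1 := fun h => hyx (eq_of x hx y h)
  have hxz1 : x * z ≠ 1 := fun h => hzx (eq_of x hx z h)
  have hyz1 : y * z ≠ 1 := fun h => hzy (eq_of y hy z h)
  have hxyz : x ≠ y * z := fun h => hzxy (by
    have := inv' y hy z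
    rw [← h] at this
    rw [← this, comm y hy x hx])
  have hy_xz : y ≠ x * z := fun h => hzxy (by
    have := inv' x hx z
    rw [← h] at this
    exact this.symm)
  have hxy_z : x * y ≠ z := fun h => hzxy h.symm
  have hxy_xz : x * y ≠ x * z := fun h => hzy (mul_left_cancel h).symm
  have p1 := hq x hx y hy hx1 hy1 (Ne.symm hyx)
  have p2 := hq x hx z hz hx1 hz1 (Ne.symm hzx)
  have p3 := hq x hx (y * z) hyz hx1 hyz1 hxyz
  have key : mul (ax y - ax (x * y)) (ax z - ax (x * z)) =
      (-(1 / 4) : ℝ) • (ax (y * z) - ax (x * (y * z))) := by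
    simp only [map_sub, LinearMap.sub_apply, h2A y hy z hz hy1 hz1 (Ne.symm hzy),
      h2A y hy (x * z) hxz hy1 hxz1 hy_xz, h2A (x * y) hxy z hz hxy1 hz1 hxy_z,
      h2A (x * y) hxy (x * z) hxz hxy1 hxz1 hxy_xz]
    have e1 : y * (x * z) = x * (y * z) := by
      rw [← mul_assoc, comm y hy x hx, mul_assoc]
    have e2 : x * y * z = x * (y * z) := mul_assoc _ _ _
    have e3 : x * y * (x * z) = y * z := by
      rw [comm x hx y hy, mul_assoc, inv' x hx]
    rw [e1, e2, e3]
    module
  have hw := quarter_mul_quarter (hax x hx hx1) p1 p2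
  rw [key] at hw
  have hw0 : ax (y * z) - ax (x * (y * z)) = 0 := by
    refine eq_zero_of_quarter_of_even p3 ?_
    have := (eigenSum mul (ax x) ({1, 0} : Set ℝ)).smul_mem (-4 : ℝ) hw
    rwa [smul_smul, show (-4 : ℝ) * -(1 / 4) = 1 by norm_num, one_smul] at this
  rw [sub_eq_zero] at hw0
  have hne : y * z ≠ x * (y * z) := fun h => hx1 (by simpa using h.symm)
  have hxyz1 : x * (y * z) ≠ 1 := fun h => hxyz (eq_of x hx _ h).symm
  have h18 := hb (y * z) hyz (x * (y * z)) (X.mul_mem hx hyz) hyz1 hxyz1 hne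
  rw [← hw0, h1 (y * z) hyz hyz1] at h18
  norm_num at h18

end Cfsg.Agent.S5543
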