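import Cfsg.Statements.S5544
import Cfsg.Agent.Lib.Sakuma.Seq
-- import your own Cfsg.Agent.* helpers here

set_option autoImplicit false
open Cfsg

namespace Cfsg.Agent.S5544

/-- Let V be a finite-dimensional real vector space with a commutative bilinear product and a positive-definite symmetric bilinear form that associates with the product and satisfies the Norton inequality (the Majorana setting of the definitions). Let μ₀ and μ₁ be Majorana involutions with axial vectors a₀ and a₁ of squared length 1, each involution having no other axial vector. Then the product μ₀μ₁ has order at most 6: some power (μ₀μ₁)^n with 1 ≤ n ≤ 6 is the identity (so the two involutions generate a dihedral group of order at most 12). This is the 6-transposition property of Majorana involutions. -/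
theorem result {V : Type*} [AddCommGroup V] [Module ℝ V] [FiniteDimensional ℝ V] (mul : V →ₗ[ℝ] V →ₗ[ℝ] V) (B : LinearMap.BilinForm ℝ V) (hV : Cfsg.Axial.IsMajoranaAmbient mul B) (μ₀ μ₁ : V ≃ₗ[ℝ] V) (a₀ a₁ : V) (h₀ : Cfsg.Axial.IsMajoranaPair mul B μ₀ a₀) (h₁ : Cfsg.Axial.IsMajoranaPair mul B μ₁ a₁) (hu₀ : ∀ a : V, Cfsg.Axial.IsMajoranaPair mul B μ₀ a → a = a₀) (hu₁ : ∀ a : V, Cfsg.Axial.IsMajoranaPair mul B μ₁ a → a = a₁) (hn₀ : B a₀ a₀ = 1) (hn₁ : B a₁ a₁ = 1) : ∃ n : ℕ, 1 ≤ n ∧ n ≤ 6 ∧ (μ₀ * μ₁) ^ n = 1 := by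
  have happly : ∀ {μ : V ≃ₗ[ℝ] V} {a : V}, Cfsg.Axial.IsMajoranaPair mul B μ a → μ * μ = 1 :=
    fun h => LinearEquiv.ext fun v => Cfsg.Agent.Sakuma.apply_self h v
  set σ : V ≃ₗ[ℝ] V := μ₁ * μ₀ with hσ
  have s00 : μ₀ * μ₀ = 1 := happly h₀
  have s11 : μ₁ * μ₁ = 1 := happly h₁
  have i0 : μ₀⁻¹ = μ₀ := inv_eq_of_mul_eq_one_left s00
  have i1 : μ₁⁻¹ = μ₁ := inv_eq_of_mul_eq_one_left s11
  have hσinv : σ⁻¹ = μ₀ * μ₁ := by rw [hσ, mul_inv_rev, i0, i1]
  have c0 : SemiconjBy μ₀ σ σ⁻¹ := by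
    show μ₀ * σ = σ⁻¹ * μ₀
    rw [hσinv, hσ]
    simp only [mul_assoc]
  have c1 : SemiconjBy μ₁ σ σ⁻¹ := by
    show μ₁ * σ = σ⁻¹ * μ₁
    rw [hσinv, hσ, mul_assoc μ₀, s11, ← mul_assoc, s11, one_mul, mul_one]
  have hrev0 : ∀ k : ℤ, μ₀ * σ ^ k = σ ^ (-k) * μ₀ := fun k => by
    have h := (c0.zpow_right k).eq
    rwa [inv_zpow'] at h
  have hrev1 : ∀ k : ℤ, μ₁ * σ ^ k = σ ^ (-k) * μ₁ := fun k => by
    have h := (c1.zpow_right k).eq
    rwa [inv_zpow'] at h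
  let a : ℤ → V := fun i => if 2 ∣ i then (σ ^ (i / 2)) a₀ else (σ ^ (i / 2)) a₁
  let M : ℤ → V ≃ₗ[ℝ] V := fun i =>
    if 2 ∣ i then σ ^ (i / 2) * μ₀ * (σ ^ (i / 2))⁻¹ else σ ^ (i / 2) * μ₁ * (σ ^ (i / 2))⁻¹
  have ae : ∀ k : ℤ, a (2 * k) = (σ ^ k) a₀ := fun k => by
    simp only [a, if_pos (dvd_mul_right (2 : ℤ) k)]
    rw [show (2 * k) / 2 = k by omega]
  have ao : ∀ k : ℤ, a (2 * k + 1) = (σ ^ k) a₁ := fun k => by
    simp only [a, if_neg (show ¬ (2 : ℤ) ∣ 2 * k + 1 by omega)]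
    rw [show (2 * k + 1) / 2 = k by omega]
  have Me : ∀ k : ℤ, M (2 * k) = σ ^ (2 * k) * μ₀ := fun k => by
    simp only [M, if_pos (dvd_mul_right (2 : ℤ) k)]
    rw [show (2 * k) / 2 = k by omega, mul_assoc, ← zpow_neg, hrev0, neg_neg, ← mul_assoc,
      ← zpow_add, two_mul]
  have Mo : ∀ k : ℤ, M (2 * k + 1) = σ ^ (2 * k) * μ₁ := fun k => by
    simp only [M, if_neg (show ¬ (2 : ℤ) ∣ 2 * k + 1 by omega)]
    rw [show (2 * k + 1) / 2 = k by omega, mul_assoc, ← zpow_neg, hrev1, neg_neg, ← mul_assoc,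
      ← zpow_add, two_mul]
  have hfa0 := Cfsg.Agent.Sakuma.apply_axis h₀
  have hfa1 := Cfsg.Agent.Sakuma.apply_axis h₁
  have h01 : μ₀ a₁ = (σ⁻¹) a₁ := by
    rw [hσinv, LinearEquiv.mul_apply, hfa1]
  have h10 : μ₁ a₀ = σ a₀ := by rw [hσ, LinearEquiv.mul_apply, hfa0]
  have hrefl : ∀ i j : ℤ, M i (a j) = a (2 * i - j) := by
    intro i j
    rcases Int.even_or_odd' i with ⟨k, rfl | rfl⟩ <;> rcases Int.even_or_odd' j with ⟨m, rfl | rfl⟩
    · rw [Me, ae, show 2 * (2 * k) - 2 * m = 2 * (2 * k - m) by ring, ae, ← LinearEquiv.mul_apply,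
        mul_assoc, hrev0, ← mul_assoc, ← zpow_add, LinearEquiv.mul_apply, hfa0]
      congr 2
    · rw [Me, ao, show 2 * (2 * k) - (2 * m + 1) = 2 * (2 * k - m - 1) + 1 by ring, ao,
        ← LinearEquiv.mul_apply, mul_assoc, hrev0, ← mul_assoc, ← zpow_add, LinearEquiv.mul_apply, h01,
        ← LinearEquiv.mul_apply, ← zpow_sub_one]
      congr 2
    · rw [Mo, ae, show 2 * (2 * k + 1) - 2 * m = 2 * (2 * k - m + 1) by ring, ae,
        ← LinearEquiv.mul_apply, mul_assoc, hrev1, ← mul_assoc, ← zpow_add, LinearEquiv.mul_apply, h10,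
        ← LinearEquiv.mul_apply, ← zpow_add_one]
      congr 2
    · rw [Mo, ao, show 2 * (2 * k + 1) - (2 * m + 1) = 2 * (2 * k - m) + 1 by ring, ao,
        ← LinearEquiv.mul_apply, mul_assoc, hrev1, ← mul_assoc, ← zpow_add, LinearEquiv.mul_apply, hfa1]
      congr 2
  let G : Subgroup (V ≃ₗ[ℝ] V) :=
    { carrier := {φ | (∀ u v, φ (mul u v) = mul (φ u) (φ v)) ∧ ∀ u v, B (φ u) (φ v) = B u v}
      one_mem' := ⟨fun _ _ => rfl, fun _ _ => rfl⟩
      mul_mem' := fun {φ ψ} hφ hψ => ⟨fun u v => by simp [LinearEquiv.mul_apply, hψ.1, hφ.1],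
        fun u v => by simp [LinearEquiv.mul_apply, hψ.2, hφ.2]⟩
      inv_mem' := fun {φ} hφ => by
        refine ⟨fun u v => φ.injective ?_, fun u v => ?_⟩
        · rw [hφ.1]; simp [← LinearEquiv.mul_apply]
        · rw [← hφ.2]; simp [← LinearEquiv.mul_apply] }
  have hσG : ∀ k : ℤ, σ ^ k ∈ G := fun k =>
    zpow_mem (mul_mem (⟨h₁.1, h₁.2.1⟩ : μ₁ ∈ G) (⟨h₀.1, h₀.2.1⟩ : μ₀ ∈ G)) k
  let Q : Cfsg.Agent.Sakuma.Seq mul B :=
    { a := a
      M := M
      amb := hV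
      pair := fun i => by
        rcases Int.even_or_odd' i with ⟨k, rfl | rfl⟩
        · rw [ae, show M (2 * k) = σ ^ k * μ₀ * (σ ^ k)⁻¹ by
            simp only [M, if_pos (dvd_mul_right (2 : ℤ) k)]; rw [show (2 * k) / 2 = k by omega]]
          exact Cfsg.Agent.Axial.pair_map h₀ _ (hσG k).1 (hσG k).2
        · rw [ao, show M (2 * k + 1) = σ ^ k * μ₁ * (σ ^ k)⁻¹ by
            simp only [M, if_neg (show ¬ (2 : ℤ) ∣ 2 * k + 1 by omega)]
            rw [show (2 * k + 1) / 2 = k by omega]]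
          exact Cfsg.Agent.Axial.pair_map h₁ _ (hσG k).1 (hσG k).2
      norm := fun i => by
        rcases Int.even_or_odd' i with ⟨k, rfl | rfl⟩
        · rw [ae, (hσG k).2, hn₀]
        · rw [ao, (hσG k).2, hn₁]
      refl := hrefl }
  obtain ⟨n, hn1, hn6, hn⟩ := Q.exists_period
  refine ⟨n, hn1, hn6, ?_⟩
  have hMz : M 0 = μ₀ := by
    have h := Me 0
    simpa using h
  have hM : M n = μ₀ := by
    have hpn := Q.pair n
    rw [show Q.a n = Q.a 0 from hn] at hpn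
    have h := Cfsg.Agent.Sakuma.pair_unique hpn (Q.pair 0)
    exact h.trans hMz
  have hσn : σ ^ (n : ℤ) = 1 := by
    rcases Int.even_or_odd' (n : ℤ) with ⟨k, hk | hk⟩
    · rw [hk, Me] at hM
      rw [hk]
      exact mul_eq_right.mp hM
    · rw [hk, Mo] at hM
      rw [hk, zpow_add_one, hσ, ← mul_assoc, ← hσ, hM, s00]
  rw [zpow_natCast] at hσn
  rw [← hσinv, inv_pow, hσn, inv_one]

end Cfsg.Agent.S5544
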