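import Cfsg.Statements.S5545
import Cfsg.Agent.Lib.Axial.Majorana

set_option autoImplicit false
open Cfsg

open Cfsg.Axial Cfsg.Agent.Axial

namespace Cfsg.Agent.S5545

variable {V : Type*} [AddCommGroup V] [Module ℝ V] {mul : V →ₗ[ℝ] V →ₗ[ℝ] V}
  {B : LinearMap.BilinForm ℝ V} {μ₀ μ₁ : V ≃ₗ[ℝ] V} {a₀ a₁ : V}

theorem fixes (h₀ : IsMajoranaPair mul B μ₀ a₀) (h₁ : IsMajoranaPair mul B μ₁ a₁)
    (hu₁ : ∀ a : V, IsMajoranaPair mul B μ₁ a → a = a₁) (hc : μ₀ * μ₁ = μ₁ * μ₀) :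
    μ₀ a₁ = a₁ := by
  refine hu₁ _ ?_
  have := pair_map h₁ μ₀ h₀.1 h₀.2.1
  rwa [hc, mul_inv_cancel_right] at this

theorem twice (hV : IsMajoranaAmbient mul B) {μ : V ≃ₗ[ℝ] V} {a b : V}
    (h : IsMajoranaPair mul B μ a) (hn : B a a = 1) (hb : μ b = b) :
    mul a (mul a b) = (1 / 4 : ℝ) • mul a b + (3 / 4 * B a b) • a := by
  obtain ⟨z, q, hz, hq, -, -, hd⟩ := fixed_decomp hV h hn hb
  generalize B a b = t at hd ⊢
  subst hd
  simp only [map_add, map_smul, h.2.2.1.1.2.1, hz, hq, map_zero]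
  module


/-- Let V be a finite-dimensional real vector space with a commutative bilinear product and a positive-definite symmetric bilinear form that associates with the product and satisfies the Norton inequality (the Majorana setting of the definitions). Let μ₀, μ₁ be commuting Majorana involutions with distinct axial vectors a₀ ≠ a₁ of squared length 1, each involution having no other axial vector. Then either a₀ and a₁ are orthogonal with a₀ ∘ a₁ = 0 (type 2B), or their inner product is 1/8 and, with a₂ = a₀ + a₁ − 8 a₀ ∘ a₁, the vector a₂ is an idempotent and a₀ ∘ a₂ = (1/8)(a₀ + a₂ − a₁), a₁ ∘ a₂ = (1/8)(a₁ + a₂ − a₀) (type 2A: the three idempotents span a subalgebra with aᵢ ∘ aⱼ = (1/8)(aᵢ + aⱼ − aₖ)). -/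
theorem result {V : Type*} [AddCommGroup V] [Module ℝ V] [FiniteDimensional ℝ V] (mul : V →ₗ[ℝ] V →ₗ[ℝ] V) (B : LinearMap.BilinForm ℝ V) (hV : Cfsg.Axial.IsMajoranaAmbient mul B) (μ₀ μ₁ : V ≃ₗ[ℝ] V) (a₀ a₁ : V) (h₀ : Cfsg.Axial.IsMajoranaPair mul B μ₀ a₀) (h₁ : Cfsg.Axial.IsMajoranaPair mul B μ₁ a₁) (hu₀ : ∀ a : V, Cfsg.Axial.IsMajoranaPair mul B μ₀ a → a = a₀) (hu₁ : ∀ a : V, Cfsg.Axial.IsMajoranaPair mul B μ₁ a → a = a₁) (hn₀ : B a₀ a₀ = 1) (hn₁ : B a₁ a₁ = 1) (hc : μ₀ * μ₁ = μ₁ * μ₀) (hne : a₀ ≠ a₁) : (B a₀ a₁ = 0 ∧ mul a₀ a₁ = 0) ∨ (B a₀ a₁ = 1 / 8 ∧ mul (a₀ + a₁ - (8 : ℝ) • mul a₀ a₁) (a₀ + a₁ - (8 : ℝ) • mul a₀ a₁) = a₀ + a₁ - (8 : ℝ) • mul a₀ a₁ ∧ mul a₀ (a₀ + a₁ - (8 : ℝ) • mul a₀ a₁) = (1 / 8 : ℝ) • (a₀ + (a₀ + a₁ - (8 : ℝ) • mul a₀ a₁) - a₁) ∧ mul a₁ (a₀ + a₁ - (8 : ℝ) • mul a₀ a₁) = (1 / 8 : ℝ) • (a₁ + (a₀ + a₁ - (8 : ℝ) • mul a₀ a₁) - a₀)) := by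
  have hf₀ : μ₀ a₁ = a₁ := fixes h₀ h₁ hu₁ hc
  have hf₁ : μ₁ a₀ = a₀ := fixes h₁ h₀ hu₀ hc.symm
  have hcomm := hV.1
  have hid : mul a₀ a₀ = a₀ := h₀.2.2.1.1.2.1
  have ha0 : a₀ ≠ 0 := h₀.2.2.1.1.1
  obtain ⟨z, q, hz, hq, hBz, hBq, hd⟩ := fixed_decomp hV h₀ hn₀ hf₀
  generalize hlam : B a₀ a₁ = t at hd
  have hz' : mul z a₀ = 0 := by rw [hcomm, hz]
  have hq' : mul q a₀ = (1 / 4 : ℝ) • q := by rw [hcomm, hq]
  have hzq' : mul q z = mul z q := hcomm q z
  have hab : mul a₀ a₁ = t • a₀ + (1 / 4 : ℝ) • q := by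
    simp only [hd, map_add, map_smul, hid, hz, hq, add_zero]
  -- the second axis sees the same vector
  have h2 : mul a₁ (mul a₀ a₁) = (1 / 4 : ℝ) • mul a₀ a₁ + (3 / 4 * t) • a₁ := by
    have := twice hV h₁ hn₁ hf₁
    rwa [hV.2.1 a₁ a₀, hlam, hcomm a₁ a₀] at this
  rw [hab, hd] at h2
  simp only [map_add, map_smul, LinearMap.add_apply, LinearMap.smul_apply, hid, hz', hq, hq', hz,
    map_zero, smul_zero, add_zero] at h2
  have hbb : mul a₁ a₁ = a₁ := h₁.2.2.1.1.2.1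
  rw [hd] at hbb
  simp only [map_add, map_smul, LinearMap.add_apply, LinearMap.smul_apply, hid, hz, hz', hq, hq',
    hzq', map_zero, smul_zero, add_zero, zero_add] at hbb
  have hazz : mul a₀ (mul z z) = 0 := zero_mul_zero h₀ hz hz
  have hazq : mul a₀ (mul z q) = (1 / 4 : ℝ) • mul z q := zero_mul_quarter h₀ hz hq
  have hqq := quarter_mul_quarter h₀ hq hq
  rw [eigenSum_one_zero, Submodule.mem_sup] at hqq
  obtain ⟨p, hp, u, hu, hpu⟩ := hqq
  rw [mem_eigen, one_smul] at hp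
  rw [mem_eigen, zero_smul] at hu
  have haqq : mul a₀ (mul q q) = p := by rw [← hpu, map_add, hp, hu, add_zero]
  -- separate the eigencomponents
  have h3 := congrArg (mul a₀) hbb
  simp only [map_add, map_smul, hid, hz, hq, hazz, hazq, haqq] at h3
  have h4 := congrArg (mul a₀) h3
  simp only [map_add, map_smul, hid, hq, hazq, hp, map_zero] at h4
  have hzq : mul z q = (1 / 2 - t / 4) • q := by
    have h5 := sub_eq_zero.mpr h3
    have h6 := sub_eq_zero.mpr h4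
    linear_combination (norm := module) (8 / 3 : ℝ) • h5 - (8 / 3 : ℝ) • h6
  rw [hzq] at h2 hbb h3
  have g3 := congrArg (mul a₀) h2
  simp only [map_add, map_smul, hid, hz, hq, haqq, smul_zero] at g3
  have g4 := congrArg (mul a₀) g3
  simp only [map_add, map_smul, hid, hq, hp, map_zero] at g4
  have hqt : (1 / 4 - 2 * t) • q = 0 := by
    linear_combination (norm := module) (64 / 3 : ℝ) • g3 - (64 / 3 : ℝ) • g4
  rcases smul_eq_zero.mp hqt with ht | hq0
  · right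
    have ht8 : t = 1 / 8 := by linarith
    subst ht8
    have hqq : mul q q = (7 / 64 : ℝ) • a₀ + (3 / 8 : ℝ) • z := by
      linear_combination (norm := module) (4 : ℝ) • h2
    have hzz : mul z z = (5 / 8 : ℝ) • z := by
      rw [hqq] at hbb
      linear_combination (norm := module) hbb
    refine ⟨rfl, ?_, ?_, ?_⟩
    all_goals
      simp only [hab, hd, map_add, map_sub, map_smul, LinearMap.add_apply, LinearMap.sub_apply,
        LinearMap.smul_apply, hid, hz, hz', hq, hq', hzq', hzq, hzz, hqq, smul_zero, add_zero]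
      module
  · subst hq0
    simp only [map_zero, LinearMap.zero_apply, smul_zero, add_zero] at hbb h3 hd hab haqq
    subst haqq
    left
    have ht : (t * t - t) • a₀ = 0 := by linear_combination (norm := module) h3
    have ht' : t * t - t = 0 := (smul_eq_zero.mp ht).resolve_right ha0
    rcases mul_eq_zero.mp (show t * (t - 1) = 0 by linarith) with ht0 | ht1
    · exact ⟨ht0, by rw [hab, ht0, zero_smul]⟩
    · exfalso
      have ht1' : t = 1 := by linarith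
      rw [ht1', one_smul] at hd
      have hzz : B z z = 0 := by
        have h7 := hn₁
        rw [hd] at h7
        simp only [map_add, LinearMap.add_apply, hn₀, hBz, hV.2.1 z a₀] at h7
        linarith
      have hz0 : z = 0 := by
        by_contra hne0
        exact absurd hzz (ne_of_gt (hV.2.2.1 z hne0))
      exact hne (by rw [hd, hz0, add_zero])

end Cfsg.Agent.S5545
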