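import Cfsg.Statements.S5546
import Cfsg.Agent.Lib.Co0Mod.Basic

set_option autoImplicit false
open Cfsg

namespace Cfsg.Agent.S5546

/-- The second Conway group (the stabilizer in the Leech lattice automorphism group of the short vector fixed in the definitions) is isomorphic to a subgroup of the general linear group of degree 23 over the field with 13 elements: there is an injective homomorphism into it. -/
theorem result : ∃ f : ↥Cfsg.Spor.Co2 →* GL (Fin 23) (ZMod 13), Function.Injective f := by
  have h8 : (8 : ZMod 13) ≠ 0 := by decide
  have h6 : ((32 : ℤ) : ZMod 13) ≠ 0 := by decide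
  have : Fact (Nat.Prime 13) := ⟨by norm_num⟩
  refine Cfsg.Agent.Co0Mod.embed (p := 13) h8 (by norm_num) Cfsg.Spor.leechU ?_
    Cfsg.Spor.Co2 inf_le_left (fun g hg => hg.2)
  have h : sqNorm (Cfsg.Spor.leechU : GolayPt → ℤ) = 32 := by decide
  rw [h]; exact h6

end Cfsg.Agent.S5546
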