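import Cfsg.Statements.S5547
import Cfsg.Agent.S1696
import Cfsg.Agent.Lib.Fi22Deg78.Rels

set_option autoImplicit false
open Cfsg

namespace Cfsg.Agent.S5547

open Cfsg.Agent.Fi22Deg78 Cfsg.Spor

/-- number of a generator -/
def idx : Fi22.Gen → ℕ
  | .a => 0
  | .b => 1
  | .c => 2
  | .d => 3
  | .e => 4
  | .f => 5
  | .g => 6
  | .h => 7
  | .i => 8

theorem idx_lt (x : Fi22.Gen) : idx x < 9 := by cases x <;> decide

theorem label_eq (x y : Fi22.Gen) : coxLabel Fi22.edges x y = lab (idx x) (idx y) := by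
  cases x <;> cases y <;> rfl

theorem sq_one (x : Fi22.Gen) : mat (idx x) * mat (idx x) = 1 := by
  have h := pair_rel (idx_lt x) (idx_lt x)
  simpa [lab] using h

/-- the matrix of a generator as a unit -/
noncomputable def unit (x : Fi22.Gen) : GL (Fin 78) (ZMod 13) := ⟨mat (idx x), mat (idx x), sq_one x, sq_one x⟩

theorem unit_val (x : Fi22.Gen) : ((unit x : GL (Fin 78) (ZMod 13)) : Matrix (Fin 78) (Fin 78) (ZMod 13)) = mat (idx x) := rfl

theorem word_rel (l : List Fi22.Gen) (n : ℕ) (h : relB (l.map idx) n = true) :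
    FreeGroup.lift unit ((l.map FreeGroup.of).prod ^ n) = 1 := by
  apply Units.ext
  rw [map_pow, map_list_prod, List.map_map, Units.val_pow_eq_pow_val, Units.val_one,
    ← Units.coeHom_apply, map_list_prod, List.map_map]
  have h2 := relB_spec h
  rw [List.map_map] at h2
  refine Eq.trans (congrArg (fun z => z ^ n) (congrArg List.prod (List.map_congr_left fun x _ => ?_))) h2
  simp [unit_val]

theorem rels_hold : ∀ r ∈ coxRelators Fi22.edges ∪ {r | r ∈ Fi22.extra}, FreeGroup.lift unit r = 1 := by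
  rintro r (⟨x, -, y, -, rfl⟩ | hr)
  · rw [map_pow, map_mul, FreeGroup.lift_apply_of, FreeGroup.lift_apply_of, label_eq]
    apply Units.ext
    rw [Units.val_pow_eq_pow_val, Units.val_mul, unit_val, unit_val, Units.val_one]
    exact pair_rel (idx_lt x) (idx_lt y)
  · simp only [Fi22.extra, Set.mem_setOf_eq, List.mem_cons, List.not_mem_nil, or_false] at hr
    rcases hr with rfl | rfl | rfl
    · have h := word_rel [.d, .c, .b, .d, .e, .f, .d, .h, .i] 10 extra1
      simpa [Fi22.a, Fi22.b, Fi22.c, Fi22.d, Fi22.e, Fi22.f, Fi22.g, Fi22.h, Fi22.i, mul_assoc] using h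
    · have h := word_rel [.a, .b, .c, .d, .e, .f, .h] 9 extra2
      simpa [Fi22.a, Fi22.b, Fi22.c, Fi22.d, Fi22.e, Fi22.f, Fi22.g, Fi22.h, Fi22.i, mul_assoc] using h
    · have h := word_rel [.b, .c, .d, .e, .f, .g, .h] 9 extra3
      simpa [Fi22.a, Fi22.b, Fi22.c, Fi22.d, Fi22.e, Fi22.f, Fi22.g, Fi22.h, Fi22.i, mul_assoc] using h

/-- The Fischer group Fi₂₂ (the finitely presented 3-transposition group of the definitions) is isomorphic to a subgroup of the general linear group of degree 78 over the field with 13 elements: there is an injective homomorphism into it. -/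
theorem result : ∃ f : Cfsg.Spor.Fi22 →* GL (Fin 78) (ZMod 13), Function.Injective f := by
  have := Cfsg.Agent.S1696.main.1
  have hs : IsSimpleGroup Cfsg.Spor.Fi22 := Cfsg.Agent.S1696.main.1
  refine ⟨PresentedGroup.toGroup rels_hold, ?_⟩
  rw [← MonoidHom.ker_eq_bot_iff]
  refine (MonoidHom.normal_ker _).eq_bot_or_eq_top.resolve_right fun h => Fi22Deg78.mat_ne_one ?_
  have h2 : PresentedGroup.toGroup rels_hold (PresentedGroup.of Cfsg.Spor.Fi22.Gen.a) = 1 :=
    MonoidHom.mem_ker.mp (h ▸ Subgroup.mem_top _)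
  rw [PresentedGroup.toGroup.of] at h2
  exact congrArg Units.val h2

end Cfsg.Agent.S5547
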