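import Cfsg.Statements.S5552
import Cfsg.Agent.Lib.Leech.Transitive
import Cfsg.Agent.Lib.Leech.Unique
import Cfsg.Agent.Lib.Leech.Shapes

set_option autoImplicit false
open Cfsg Cfsg.Agent.Leech

namespace Cfsg.Agent.S5552

/-- On the Leech lattice of the definitions, let Q be a function to the field with two elements that is constant on cosets of twice the lattice, is a quadratic form there (Q(u+v+w) + Q(u) + Q(v) + Q(w) = Q(u+v) + Q(u+w) + Q(v+w) for all u, v, w), is invariant under every lattice automorphism, and is not identically zero. Then Q(v) is the squared length of v divided by 16, reduced modulo 2, for every lattice vector v (squared lengths of lattice vectors are multiples of 16). -/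
theorem result (Q : ↥Cfsg.leechLattice → ZMod 2) (hcoset : ∀ v w : ↥Cfsg.leechLattice, Q (v + (w + w)) = Q v) (hquad : ∀ u v w : ↥Cfsg.leechLattice, Q (u + v + w) + Q u + Q v + Q w = Q (u + v) + Q (u + w) + Q (v + w)) (hinv : ∀ (g : ↥Cfsg.Co0) (v : ↥Cfsg.leechLattice), Q (g • v) = Q v) (hne : ∃ v : ↥Cfsg.leechLattice, Q v ≠ 0) (v : ↥Cfsg.leechLattice) : Q v = ((Cfsg.sqNorm (v : Cfsg.GolayPt → ℤ) / 16 : ℤ) : ZMod 2) := by
  have hQ0 : Q 0 = 0 := by
    have h := hquad 0 0 0
    simp only [add_zero] at h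
    generalize Q 0 = a at h
    revert a h
    decide
  have hcongr : ∀ {u w : ↥leechLattice}, Congr (u : GolayPt → ℤ) (w : GolayPt → ℤ) → Q u = Q w := by
    rintro u w ⟨z, hz, he⟩
    have e : u = w + (⟨z, hz⟩ + ⟨z, hz⟩) := Subtype.ext (by
      show (u : GolayPt → ℤ) = (w : GolayPt → ℤ) + (z + z)
      rw [← two_nsmul, ← he, add_sub_cancel])
    rw [e, hcoset]
  have hinv' : ∀ {u w : ↥leechLattice}, (∃ g : ↥Co0, g • u = w) → Q u = Q w := fun ⟨g, hg⟩ => by
    rw [← hg, hinv]
  -- four fixed minimal vectors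
  let d6 : GolayPt := some 6
  let d7 : GolayPt := some 7
  let c4 : GolayPt := some 4
  let u : ↥leechLattice := pairVec none (some 0) 1 1 (by norm_num)
  let w : ↥leechLattice := pairVec none c4 1 1 (by norm_num)
  let x : ↥leechLattice := pairVec d6 d7 1 1 (by norm_num)
  let y : ↥leechLattice := ⟨octVec (Golay.pts Golay.octad0) ∅,
    octVec_mem Golay.octad0_mem (by simp)⟩
  let B : ↥leechLattice → ↥leechLattice → ZMod 2 := fun a b => Q (a + b) + Q a + Q b
  have hBadd : ∀ a b c, B a (b + c) = B a b + B a c := by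
    intro a b c
    have h := hquad a b c
    rw [add_assoc a b c] at h
    simp only [B]
    generalize Q (a + (b + c)) = t₁, Q (a + b) = t₂, Q (a + c) = t₃, Q (b + c) = t₄, Q a = t₅,
      Q b = t₆, Q c = t₇ at h ⊢
    revert h t₁ t₂ t₃ t₄ t₅ t₆ t₇
    decide
  have hBsub : ∀ a b c, B a (b - c) = B a b + B a c := by
    intro a b c
    have h := hBadd a (b - c) c
    rw [sub_add_cancel] at h
    rw [h, add_assoc, CharTwo.add_self_eq_zero, add_zero]
  have hdiff : ∀ a b : ↥leechLattice, Q (a + b) = Q (a - b) := by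
    intro a b
    have h := hcoset (a - b) b
    rw [← h]
    congr 1
    abel
  have hn : ∀ (v : ↥leechLattice), sqNorm (v : GolayPt → ℤ) = 32 → Q v = Q u := fun v hv =>
    hinv' (transitive32 golayUnique hv (by decide +kernel))
  have hn64 : ∀ (v : ↥leechLattice), sqNorm (v : GolayPt → ℤ) = 64 → Q v = Q (u + x) := fun v hv =>
    by
      obtain ⟨g, hg⟩ := transitive64 golayUnique hv
        (show sqNorm ((u + x : ↥leechLattice) : GolayPt → ℤ) = 64 by decide +kernel)
      rw [← hcongr hg, hinv]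
  -- orthogonal minimal vectors
  have h64 : Q (u + x) = 0 := by
    have h := hBsub x u w
    simp only [B] at h
    rw [hn64 (x + u) (by decide +kernel), hn64 (x + w) (by decide +kernel), hn x (by decide +kernel),
      hn w (by decide +kernel), hn (u - w) (by decide +kernel), hn64 (x + (u - w)) (by decide +kernel)] at h
    generalize Q (u + x) = t₁, Q u = t₂ at h
    revert h t₁ t₂
    decide
  -- inner products sixteen and eight
  have h32 : Q u = 0 := by
    have h := hBsub y u w
    simp only [B] at h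
    have hy : sqNorm (y : GolayPt → ℤ) = 32 := sqNorm_octVec Golay.octad0_mem _
    rw [hdiff y u, hn (y - u) (by decide +kernel), hdiff y w, hdiff y (u - w), hn y hy,
      hn w (by decide +kernel), hn (u - w) (by decide +kernel)] at h
    have e : Q (y - w) = Q (y - (u - w)) := hinv'
      (transitive48 golayUnique (by decide +kernel) (by decide +kernel))
    rw [e] at h
    generalize Q (y - (u - w)) = t₁, Q u = t₂ at h
    revert h t₁ t₂
    decide
  have h48 : ∀ (a : ↥leechLattice), sqNorm (a : GolayPt → ℤ) = 48 → Q a = Q baseF := fun a ha =>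
    hinv' (transitive48 golayUnique ha sqNorm_baseF)
  have hclass : ∀ a : ↥leechLattice, ∃ r : ↥leechLattice, Q a = Q r ∧
      Congr (a : GolayPt → ℤ) (r : GolayPt → ℤ) ∧ (sqNorm (r : GolayPt → ℤ) = 0 ∨
        sqNorm (r : GolayPt → ℤ) = 32 ∨ sqNorm (r : GolayPt → ℤ) = 48 ∨
        sqNorm (r : GolayPt → ℤ) = 64) := by
    intro a
    obtain ⟨r, hr, hle, hc⟩ := exists_short_rep a.2
    refine ⟨⟨r, hr⟩, hcongr hc, hc, ?_⟩
    have h16 := dvd_sqNorm hr
    have h0 := sqNorm_nonneg r
    show sqNorm r = 0 ∨ sqNorm r = 32 ∨ sqNorm r = 48 ∨ sqNorm r = 64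
    by_cases hz : r = 0
    · exact Or.inl (by rw [hz, sqNorm_zero])
    · have := min_norm hr hz
      omega
  have hF : Q baseF = 1 := by
    obtain ⟨a, ha⟩ := hne
    obtain ⟨r, hr, -, h | h | h | h⟩ := hclass a
    · rw [sqNorm_eq_zero] at h
      rw [hr, show r = 0 from Subtype.ext h, hQ0] at ha
      exact absurd rfl ha
    · rw [hr, hn r h, h32] at ha
      exact absurd rfl ha
    · rw [hr, h48 r h] at ha
      generalize Q baseF = t at ha ⊢
      revert t ha
      decide
    · rw [hr, hn64 r h, h64] at ha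
      exact absurd rfl ha
  obtain ⟨r, hr, ⟨z, hz, hze⟩, hcases⟩ := hclass v
  have hnorm : ∃ k : ℤ, sqNorm (v : GolayPt → ℤ) = sqNorm (r : GolayPt → ℤ) + 32 * k := by
    obtain ⟨k₁, hk₁⟩ := dvd_dotInt r.2 hz
    obtain ⟨k₂, hk₂⟩ := dvd_sqNorm hz
    refine ⟨k₁ + 2 * k₂, ?_⟩
    have e : (v : GolayPt → ℤ) = (r : GolayPt → ℤ) + (2 : ℤ) • z := by
      rw [← add_sub_cancel (r : GolayPt → ℤ) (v : GolayPt → ℤ), hze, two_nsmul, two_zsmul]
    rw [e, sqNorm_add, sqNorm_zsmul, dotInt_smul_right, hk₁, hk₂]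
    ring
  obtain ⟨k, hk⟩ := hnorm
  have h2 : (2 : ZMod 2) = 0 := by decide
  rcases hcases with h | h | h | h <;> rw [hk, h]
  · rw [show (0 + 32 * k) / 16 = 2 * k by omega, hr,
      show r = 0 from Subtype.ext (sqNorm_eq_zero.1 h), hQ0]
    push_cast
    rw [h2, zero_mul]
  · rw [show (32 + 32 * k) / 16 = 2 * (1 + k) by omega, hr, hn r h, h32]
    push_cast
    rw [h2, zero_mul]
  · rw [show (48 + 32 * k) / 16 = 1 + 2 * (1 + k) by omega, hr, h48 r h, hF]
    push_cast
    rw [h2, zero_mul, add_zero]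
  · rw [show (64 + 32 * k) / 16 = 2 * (2 + k) by omega, hr, hn64 r h, h64]
    push_cast
    rw [h2, zero_mul]

end Cfsg.Agent.S5552
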