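import Cfsg.Statements.S5553
import Cfsg.Agent.Lib.Leech.Basic

set_option autoImplicit false
open Cfsg

namespace Cfsg.Agent.S5553

/-- Summands of the systematic basis. -/
def combo : Fin 12 → Finset (ZMod 23) :=
  ![{2, 3, 7}, {3, 4, 8}, {2, 3, 4, 5, 7, 9}, {3, 4, 5, 6, 8, 10}, {0, 1, 2, 3, 4, 7},
    {1, 4, 5, 7, 8}, {3, 5, 6, 7, 8, 9}, {4, 6, 7, 8, 9, 10}, {0, 1, 6, 8, 10}, {0, 2, 5, 6},
    {1, 2, 6}, {0, 2, 5, 9, 10}]

/-- The twelve information positions. -/
def info : Fin 12 → GolayPt := fun j => if j = 11 then none else some (j.val : ZMod 23)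

/-- The systematic basis of the code. -/
def row (j : Fin 12) : GolayPt → ZMod 2 :=
  fun i => (∑ t ∈ combo j, qrWord t i) + (if j = 11 then 1 else 0)

theorem row_mem (j : Fin 12) : row j ∈ golayCode := by
  have h : row j = (∑ t ∈ combo j, qrWord t) +
      (if j = 11 then (1 : GolayPt → ZMod 2) else 0) := by
    funext i
    simp only [row, Pi.add_apply, Finset.sum_apply]
    split_ifs <;> rfl
  rw [h]
  refine golayCode.add_mem (golayCode.sum_mem fun t _ =>
    Submodule.subset_span (Set.mem_union_left _ ⟨t, rfl⟩)) ?_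
  split_ifs
  · exact Leech.one_mem_code
  · exact golayCode.zero_mem

theorem row_info : ∀ j k : Fin 12, row j (info k) = if j = k then 1 else 0 := by decide +kernel

theorem qr_expand : ∀ (t : ZMod 23) (i : GolayPt),
    qrWord t i = ∑ j, qrWord t (info j) * row j i := by decide +kernel

theorem one_expand : ∀ i : GolayPt, (1 : ZMod 2) = ∑ j, row j i := by decide +kernel

theorem qr_even : ∀ t : ZMod 23, ∑ i, qrWord t i = 0 := by decide +kernel

theorem expand {c : GolayPt → ZMod 2} (hc : c ∈ golayCode) :
    c = ∑ j, c (info j) • row j := by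
  induction hc using Submodule.span_induction with
  | mem x hx =>
    rcases hx with ⟨t, rfl⟩ | rfl
    · funext i
      simpa [Finset.sum_apply] using qr_expand t i
    · funext i
      simpa [Finset.sum_apply] using one_expand i
  | zero => simp
  | add x y _ _ hx hy =>
    simp only [Pi.add_apply, add_smul, Finset.sum_add_distrib, ← hx, ← hy]
  | smul a x _ hx =>
    simp only [Pi.smul_apply, smul_assoc, ← Finset.smul_sum, ← hx]

theorem even_sum {c : GolayPt → ZMod 2} (hc : c ∈ golayCode) : ∑ i, c i = 0 := by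
  induction hc using Submodule.span_induction with
  | mem x hx =>
    rcases hx with ⟨t, rfl⟩ | rfl
    · exact qr_even t
    · decide +kernel
  | zero => simp
  | add x y _ _ hx hy => simp [Finset.sum_add_distrib, hx, hy]
  | smul a x _ hx => simp [← Finset.mul_sum, hx]

theorem card_code : Nat.card golayCode = 4096 := by
  let f : golayCode → (Fin 12 → ZMod 2) := fun c j => (c : GolayPt → ZMod 2) (info j)
  have hf : Function.Bijective f := by
    refine ⟨fun a b h => Subtype.ext ?_, fun w => ⟨⟨∑ j, w j • row j,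
      golayCode.sum_mem fun j _ => golayCode.smul_mem _ (row_mem j)⟩, ?_⟩⟩
    · rw [expand a.2, expand b.2]
      exact Finset.sum_congr rfl fun j _ => by rw [show (a : GolayPt → ZMod 2) (info j) = _ from congrFun h j]
    · funext k
      simp [f, Finset.sum_apply, row_info]
  rw [Nat.card_congr (Equiv.ofBijective f hf), Nat.card_eq_fintype_card]
  simp

/-- Reduction of the lattice modulo four. -/
def red4 : leechLattice →+ (GolayPt → ZMod 4) where
  toFun v := fun i => ((v : GolayPt → ℤ) i : ZMod 4)
  map_zero' := by funext i; simp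
  map_add' v w := by funext i; simp

/-- The residue of a parity and a code word. -/
def pattern (q : ZMod 2 × golayCode) : GolayPt → ZMod 4 :=
  fun i => ((q.1.val + 2 * ((q.2 : GolayPt → ZMod 2) i).val : ℕ) : ZMod 4)

theorem pattern_inj : Function.Injective pattern := by
  have key : ∀ m n a b : ZMod 2,
      ((m.val + 2 * a.val : ℕ) : ZMod 4) = ((n.val + 2 * b.val : ℕ) : ZMod 4) → m = n ∧ a = b := by
    decide
  intro p q h
  have h' : ∀ i, p.1 = q.1 ∧ (p.2 : GolayPt → ZMod 2) i = (q.2 : GolayPt → ZMod 2) i :=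
    fun i => key _ _ _ _ (congrFun h i)
  exact Prod.ext (h' none).1 (Subtype.ext (funext fun i => (h' i).2))

theorem range_red4 : (red4.range : Set (GolayPt → ZMod 4)) = Set.range pattern := by
  ext w
  simp only [AddMonoidHom.coe_range, Set.mem_range]
  constructor
  · rintro ⟨v, rfl⟩
    obtain ⟨m, a, hm, hx, -, hw⟩ := Leech.exists_rep v.2
    refine ⟨((m : ZMod 2), ⟨Leech.mod2 a, hw⟩), funext fun i => ?_⟩
    show _ = (((v : GolayPt → ℤ) i : ℤ) : ZMod 4)
    rw [hx i]
    simp only [pattern, Leech.mod2]
    have h2 : ∀ z : ℤ, (2 : ZMod 4) * (((z : ZMod 2).val : ℕ) : ZMod 4) = 2 * (z : ZMod 4) := by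
      intro z
      rcases Int.even_or_odd z with ⟨k, rfl⟩ | ⟨k, rfl⟩
      · rw [show ((k + k : ℤ) : ZMod 2) = 0 from by push_cast; exact CharTwo.add_self_eq_zero _]
        push_cast
        simp only [ZMod.val_zero, Nat.cast_zero, mul_zero]
        generalize (k : ZMod 4) = u
        revert u; decide
      · rw [show ((2 * k + 1 : ℤ) : ZMod 2) = 1 from by
          push_cast; rw [show (2 : ZMod 2) = 0 from rfl]; simp]
        push_cast
        generalize (k : ZMod 4) = u
        revert u; decide
    rcases hm with rfl | rfl <;>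
    · push_cast
      rw [h2]
      rfl
  · rintro ⟨⟨m, c, hc⟩, rfl⟩
    have hS : (2 : ℤ) ∣ ∑ i, ((c i).val : ℤ) := by
      have h := even_sum hc
      apply (ZMod.intCast_zmod_eq_zero_iff_dvd _ 2).1
      push_cast
      simpa using h
    obtain ⟨S, hS⟩ := hS
    let d : ℤ := 2 * (m.val : ℤ) - 2 * S
    let a : GolayPt → ℤ := fun i => ((c i).val : ℤ) + if i = none then d else 0
    have hd : ((d : ℤ) : ZMod 2) = 0 := by
      rw [ZMod.intCast_zmod_eq_zero_iff_dvd]
      exact ⟨(m.val : ℤ) - S, by simp only [d]; push_cast; ring⟩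
    refine ⟨⟨_, Leech.mem_mk (m.val : ℤ) a ?_ ?_⟩, funext fun i => ?_⟩
    · simp only [a, Finset.sum_add_distrib, hS, Finset.sum_ite_eq', Finset.mem_univ, if_true]
      simp [d, Int.ModEq]
    · convert hc using 1
      funext i
      simp only [Leech.mod2, a]
      split_ifs <;> simp [hd]
    · show ((((m.val : ℤ) + 2 * a i : ℤ)) : ZMod 4) = _
      simp only [pattern, a]
      split_ifs with hi
      · have hd4 : (2 : ZMod 4) * (d : ZMod 4) = 0 := by
          simp only [d]
          push_cast
          have h4 : (4 : ZMod 4) = 0 := rfl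
          linear_combination ((m.val : ZMod 4) - (S : ZMod 4)) * h4
        push_cast
        rw [mul_add, hd4, add_zero]
      · push_cast
        rw [add_zero]

/-- The constant two. -/
def two : GolayPt → ZMod 4 := fun _ => 2

theorem card_two : Nat.card (AddSubgroup.zmultiples two) = 2 := by
  rw [Nat.card_zmultiples]
  exact addOrderOf_eq_prime (by decide +kernel) (by decide +kernel)

/-- The Leech lattice of the definitions has an additive subgroup A containing twice the lattice, of index 2^12 in the lattice, all of whose vectors have squared length divisible by 32: the invariant quadratic form 'squared length over 16 modulo 2' on the lattice modulo twice the lattice (a 24-dimensional space over the field with two elements) vanishes on a 12-dimensional subspace, so it is of plus type. -/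
theorem result : ∃ A : AddSubgroup (Cfsg.GolayPt → ℤ), A ≤ Cfsg.leechLattice ∧ (∀ v ∈ Cfsg.leechLattice, (2 : ℤ) • v ∈ A) ∧ (A.addSubgroupOf Cfsg.leechLattice).index = 2 ^ 12 ∧ ∀ v ∈ A, (32 : ℤ) ∣ Cfsg.sqNorm v := by
  let A₀ : AddSubgroup leechLattice := (AddSubgroup.zmultiples two).comap red4
  refine ⟨A₀.map leechLattice.subtype, ?_, ?_, ?_, ?_⟩
  · rintro x ⟨v, -, rfl⟩
    exact v.2
  · intro v hv
    refine ⟨(2 : ℤ) • ⟨v, hv⟩, ?_, by simp⟩
    obtain ⟨m, a, hx, -, -⟩ := Leech.mem_iff.1 hv
    show red4 ((2 : ℤ) • ⟨v, hv⟩) ∈ AddSubgroup.zmultiples two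
    rw [AddSubgroup.mem_zmultiples_iff]
    refine ⟨m, funext fun i => ?_⟩
    show m • (2 : ZMod 4) = (((2 : ℤ) • v) i : ℤ)
    rw [Pi.smul_apply, hx i]
    have h4 : (4 : ZMod 4) = 0 := rfl
    simp only [zsmul_eq_mul, smul_eq_mul]
    push_cast
    linear_combination (-(a i : ZMod 4)) * h4
  · have hA : (A₀.map leechLattice.subtype).addSubgroupOf leechLattice = A₀ :=
      AddSubgroup.comap_map_eq_self_of_injective Subtype.val_injective A₀
    rw [hA]
    show ((AddSubgroup.zmultiples two).comap red4).index = 2 ^ 12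
    rw [AddSubgroup.index_comap]
    have hle : AddSubgroup.zmultiples two ≤ red4.range := by
      rw [AddSubgroup.zmultiples_le]
      rw [← SetLike.mem_coe, range_red4]
      refine ⟨(0, ⟨1, Leech.one_mem_code⟩), funext fun i => ?_⟩
      simp only [pattern, two, Pi.one_apply]
      decide
    have h := AddSubgroup.relIndex_mul_relIndex (⊥ : AddSubgroup (GolayPt → ZMod 4)) _ _ bot_le hle
    rw [AddSubgroup.relIndex_bot_left, AddSubgroup.relIndex_bot_left, card_two] at h
    have hc : Nat.card red4.range = 8192 := by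
      rw [← SetLike.coe_sort_coe, range_red4, Nat.card_range_of_injective pattern_inj, Nat.card_prod,
        card_code, Nat.card_zmod]
    rw [hc] at h
    omega
  · rintro x ⟨v, hv, rfl⟩
    obtain ⟨k, hk⟩ := AddSubgroup.mem_zmultiples_iff.1 hv
    show (32 : ℤ) ∣ sqNorm (v : GolayPt → ℤ)
    have hb : ∀ i, ∃ b : ℤ, (v : GolayPt → ℤ) i = 2 * k + 4 * b := by
      intro i
      have hi : (((v : GolayPt → ℤ) i : ℤ) : ZMod 4) = ((2 * k : ℤ) : ZMod 4) := by
        have := congrFun hk i
        simp only [Pi.smul_apply, two, zsmul_eq_mul] at this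
        push_cast
        rw [mul_comm]
        exact this.symm
      rw [ZMod.intCast_eq_intCast_iff_dvd_sub] at hi
      obtain ⟨b, hb⟩ := hi
      refine ⟨-b, ?_⟩
      push_cast at hb
      linarith
    choose b hb using hb
    obtain ⟨m, a, hx, hsum, -⟩ := Leech.mem_iff.1 v.2
    have hS : (2 : ℤ) ∣ ∑ i, b i := by
      have h1 : ∑ i, (v : GolayPt → ℤ) i = 48 * k + 4 * ∑ i, b i := by
        rw [Finset.sum_congr rfl fun i _ => hb i, Finset.sum_add_distrib, Finset.sum_const,
          Finset.card_univ, Leech.card_pt, Finset.mul_sum]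
        simp only [nsmul_eq_mul]
        push_cast
        ring
      have h2 : ∑ i, (v : GolayPt → ℤ) i = 24 * m + 2 * ∑ i, a i := by
        rw [Finset.sum_congr rfl fun i _ => hx i, Finset.sum_add_distrib, Finset.sum_const,
          Finset.card_univ, Leech.card_pt, Finset.mul_sum]
        simp
      have h3 := hx none
      have h4 := hb none
      simp only [Int.ModEq] at hsum
      omega
    have hsq : (2 : ℤ) ∣ ∑ i, b i ^ 2 := by
      have h : (2 : ℤ) ∣ ∑ i, (b i ^ 2 - b i) := by
        refine Finset.dvd_sum fun i _ => ?_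
        obtain ⟨c, hc⟩ := Int.even_mul_succ_self (b i - 1)
        exact ⟨c, by linear_combination hc⟩
      rw [Finset.sum_sub_distrib] at h
      simpa using dvd_add h hS
    have hn : sqNorm (v : GolayPt → ℤ) =
        96 * k ^ 2 + 16 * k * (∑ i, b i) + 16 * ∑ i, b i ^ 2 := by
      unfold sqNorm
      rw [Finset.mul_sum, Finset.mul_sum]
      rw [Finset.sum_congr rfl fun i _ => show (v : GolayPt → ℤ) i ^ 2 =
        4 * k ^ 2 + 16 * k * b i + 16 * b i ^ 2 by rw [hb i]; ring]
      rw [Finset.sum_add_distrib, Finset.sum_add_distrib, Finset.sum_const, Finset.card_univ,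
        Leech.card_pt, nsmul_eq_mul]
      push_cast
      ring
    obtain ⟨S, hS⟩ := hS
    obtain ⟨T, hT⟩ := hsq
    exact ⟨3 * k ^ 2 + k * S + T, by rw [hn, hS, hT]; ring⟩

end Cfsg.Agent.S5553
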