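import Cfsg.Statements.S5555
import Cfsg.Agent.Lib.SU32.Basic
import Cfsg.Agent.Lib.Cores.Basic

set_option autoImplicit false
open Cfsg

namespace Cfsg.Agent.S5555

section Affine

variable {G : Type*} [Group G] {a b c : G}

/-- The translation `c * (a b a)`. -/
def u (a b c : G) : G := c * (a * b * a)
/-- Its conjugate under `a`. -/
def v (a b c : G) : G := a * u a b c * a

theorem swap (ha : a * a = 1) (hb : b * b = 1) (h : (a * b) ^ 3 = 1) :
    a * b * a = b * a * b := by
  have h' : (a * b * a) * (b * a * b) = 1 := by rw [← h]; simp [pow_succ, mul_assoc]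
  rw [eq_inv_of_mul_eq_one_left h', mul_inv_rev, mul_inv_rev, inv_eq_of_mul_eq_one_right ha,
    inv_eq_of_mul_eq_one_right hb, mul_assoc]

/-- Three involutions with pairwise product cubes one and `(c a b a)^3 = 1` generate at most 54 elements. -/
theorem card_le (ha : a * a = 1) (hb : b * b = 1) (hc : c * c = 1) (hab : (a * b) ^ 3 = 1)
    (hac : (a * c) ^ 3 = 1) (hbc : (b * c) ^ 3 = 1) (hu : (c * (a * b * a)) ^ 3 = 1) :
    Nat.card ↥(Subgroup.closure ({a, b, c} : Set G)) ≤ 54 := by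
  have ca : ∀ x, a * (a * x) = x := fun x => by rw [← mul_assoc, ha, one_mul]
  have cb : ∀ x, b * (b * x) = x := fun x => by rw [← mul_assoc, hb, one_mul]
  have cc : ∀ x, c * (c * x) = x := fun x => by rw [← mul_assoc, hc, one_mul]
  have sab : ∀ x, a * (b * (a * x)) = b * (a * (b * x)) := fun x => by
    have := congrArg (· * x) (swap ha hb hab); simpa only [mul_assoc] using this
  have sac : ∀ x, a * (c * (a * x)) = c * (a * (c * x)) := fun x => by
    have := congrArg (· * x) (swap ha hc hac); simpa only [mul_assoc] using this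
  have sbc : ∀ x, b * (c * (b * x)) = c * (b * (c * x)) := fun x => by
    have := congrArg (· * x) (swap hb hc hbc); simpa only [mul_assoc] using this
  have sab1 : a * (b * a) = b * (a * b) := by
    rw [← mul_assoc, ← mul_assoc]; exact swap ha hb hab
  set U := u a b c with hU
  set W := v a b c with hW
  have hU3 : U ^ 3 = 1 := hu
  have hWe : W = a * (c * (a * b)) := by
    simp only [hW, v, u, mul_assoc, ha, mul_one]
  have hUW : U * W = W * U := by
    have e1 : U * W = c * (a * (b * (c * (a * b)))) := by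
      rw [hWe, hU, u]; simp only [mul_assoc, ca]
    have e2 : W * U = c * (a * (b * (c * (a * b)))) := by
      rw [hWe, hU, u]
      simp only [mul_assoc]
      rw [sac, ← sbc, ← sab a, ha, mul_one]
    rw [e1, e2]
  have haU : a * U = W * a := by
    simp only [hW, v, ← hU, mul_assoc, ha, mul_one]
  have haW : a * W = U * a := by
    simp only [hW, v, ← hU, mul_assoc]
    rw [ca]
  have hW3 : W ^ 3 = 1 := by
    have : ∀ n : ℕ, W ^ n = a * U ^ n * a := by
      intro n
      induction n with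
      | zero => simp [ha]
      | succ n ih => rw [pow_succ, pow_succ, ih, hW, v, ← hU]; simp only [mul_assoc, ca]
    rw [this, hU3, mul_one, ha]
  have hWinv : W⁻¹ = b * a * c * a := by
    rw [hWe]; simp only [mul_inv_rev, inv_eq_of_mul_eq_one_right ha, inv_eq_of_mul_eq_one_right hb,
      inv_eq_of_mul_eq_one_right hc, mul_assoc]
  have hbW : b * W = W⁻¹ * b := by
    rw [hWinv, hWe]; simp only [mul_assoc]
  have hbU : b * U = (U * W⁻¹) * b := by
    rw [hWinv, hU, u]
    simp only [mul_assoc]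
    rw [sab (b * (a * (c * (a * b)))), cb, ca, ← sbc, sab1]
  -- conjugation by a and b preserves the translations
  have key_a : ∀ i j : ℕ, a * (U ^ i * W ^ j) = (W ^ i * U ^ j) * a := fun i j => by
    have h1 : SemiconjBy a (U ^ i) (W ^ i) := SemiconjBy.pow_right haU i
    have h2 : SemiconjBy a (W ^ j) (U ^ j) := SemiconjBy.pow_right haW j
    exact SemiconjBy.mul_right h1 h2
  have key_b : ∀ i j : ℕ, b * (U ^ i * W ^ j) = ((U * W⁻¹) ^ i * W⁻¹ ^ j) * b := fun i j => by
    have h1 : SemiconjBy b (U ^ i) ((U * W⁻¹) ^ i) := SemiconjBy.pow_right hbU i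
    have h2 : SemiconjBy b (W ^ j) (W⁻¹ ^ j) := SemiconjBy.pow_right hbW j
    exact SemiconjBy.mul_right h1 h2
  let S : List G := [1, a, b, a * b, b * a, a * b * a]
  let X : Set G := Set.range fun p : Fin 3 × Fin 3 × Fin 6 =>
    U ^ (p.1 : ℕ) * W ^ (p.2.1 : ℕ) * S.get p.2.2
  have mkX : ∀ (i j : ℕ) (s : G), s ∈ S → U ^ i * W ^ j * s ∈ X := by
    intro i j s hs
    obtain ⟨k, rfl⟩ := List.get_of_mem hs
    refine ⟨(⟨i % 3, Nat.mod_lt _ (by norm_num)⟩, ⟨j % 3, Nat.mod_lt _ (by norm_num)⟩, k), ?_⟩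
    show U ^ (i % 3) * W ^ (j % 3) * _ = _
    rw [← pow_eq_pow_mod i hU3, ← pow_eq_pow_mod j hW3]
  have Sa : ∀ s ∈ S, a * s ∈ S := by
    intro s hs
    simp only [S, List.mem_cons, List.not_mem_nil, or_false] at hs ⊢
    rcases hs with rfl | rfl | rfl | rfl | rfl | rfl <;> simp [mul_assoc, ha, ca]
  have Sb : ∀ s ∈ S, b * s ∈ S := by
    intro s hs
    simp only [S, List.mem_cons, List.not_mem_nil, or_false] at hs ⊢
    have e1 : b * (a * b) = a * b * a := by rw [mul_assoc, sab1]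
    have e2 : b * (b * a) = a := cb a
    have e3 : b * (a * b * a) = a * b := by rw [mul_assoc, sab1, cb]
    rcases hs with rfl | rfl | rfl | rfl | rfl | rfl
    · simp
    · simp
    · simp [hb]
    · simp [e1]
    · simp [e2]
    · simp [e3]
  have winv : W⁻¹ = W ^ 2 := inv_eq_of_mul_eq_one_right (by rw [← pow_succ']; exact hW3)
  have hcomm : Commute U W := hUW
  have la : ∀ x ∈ X, a * x ∈ X := by
    rintro _ ⟨⟨i, j, k⟩, rfl⟩
    show a * (U ^ (i : ℕ) * W ^ (j : ℕ) * S.get k) ∈ X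
    rw [← mul_assoc, key_a, mul_assoc, ← (hcomm.pow_pow (j : ℕ) (i : ℕ)).eq]
    exact mkX _ _ _ (Sa _ (List.get_mem _ _))
  have lb : ∀ x ∈ X, b * x ∈ X := by
    rintro _ ⟨⟨i, j, k⟩, rfl⟩
    show b * (U ^ (i : ℕ) * W ^ (j : ℕ) * S.get k) ∈ X
    rw [← mul_assoc, key_b, mul_assoc, winv, (hcomm.pow_right 2).mul_pow, mul_assoc (U ^ (i : ℕ)),
      ← pow_mul, ← pow_mul, ← pow_add]
    exact mkX _ _ _ (Sb _ (List.get_mem _ _))
  have lu : ∀ x ∈ X, U * x ∈ X := by
    rintro _ ⟨⟨i, j, k⟩, rfl⟩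
    show U * (U ^ (i : ℕ) * W ^ (j : ℕ) * S.get k) ∈ X
    rw [← mul_assoc, ← mul_assoc, ← pow_succ']
    exact mkX _ _ _ (List.get_mem _ _)
  have lc : ∀ x ∈ X, c * x ∈ X := by
    intro x hx
    have e : c * x = U * (a * (b * (a * x))) := by
      rw [hU, u]; simp only [mul_assoc, ca, cb]
    rw [e]
    exact lu _ (la _ (lb _ (la _ hx)))
  have h1X : (1 : G) ∈ X := by
    have := mkX 0 0 1 (by simp [S])
    simpa using this
  have hsub : (Subgroup.closure ({a, b, c} : Set G) : Set G) ⊆ X := by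
    intro x hx
    induction hx using Subgroup.closure_induction_left with
    | one => exact h1X
    | mul_left t ht y hy ih =>
      rcases ht with rfl | rfl | rfl
      exacts [la _ ih, lb _ ih, lc _ ih]
    | inv_mul_cancel t ht y hy ih =>
      rcases ht with rfl | rfl | rfl
      · rw [inv_eq_of_mul_eq_one_right ha]; exact la _ ih
      · rw [inv_eq_of_mul_eq_one_right hb]; exact lb _ ih
      · rw [inv_eq_of_mul_eq_one_right hc]; exact lc _ ih
  rw [← SetLike.coe_sort_coe, Nat.card_coe_set_eq]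
  refine (Set.ncard_le_ncard hsub (Set.finite_range _)).trans ?_
  rw [← Nat.card_coe_set_eq]
  refine (Finite.card_range_le _).trans ?_
  simp [Nat.card_eq_fintype_card, S]

end Affine


/-- Let G be a finite group generated by a conjugacy class D of 3-transpositions, with trivial centre and with generalized Fitting subgroup F*(G) = O₂(G) (so the Fitting subgroup is O₂(G) too). If G/O₂(G) is isomorphic to the derived group of SU₃(2) (the group of order 54 generated by nine 3-transpositions), then O₂(G) has a complement in G. -/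
theorem result {G : Type*} [Group G] [Finite G] {D : Set G} (hD : Cfsg.IsThreeTranspositionClass D)
    (hZ : Subgroup.center G = ⊥) (hF : Cfsg.generalizedFittingSubgroup G = Cfsg.pCore 2 G)
    (hq : ∃ (F : Type) (_ : Field F) (_ : Fintype F), Fintype.card F = 4 ∧ Nonempty (G ⧸ Cfsg.pCore 2 G ≃* ↥(commutator ↥(Cfsg.SU 3 F 2)))) :
    ∃ K : Subgroup G, (Cfsg.pCore 2 G).IsComplement' K := by
  obtain ⟨hset, ⟨d₁, hd₁, hconj⟩, hgen⟩ := hD
  have hcl : ∀ g : G, ∀ d ∈ D, g * d * g⁻¹ ∈ D := by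
    intro g d hd
    rw [hconj] at hd ⊢
    rw [conjugatesOf, Set.mem_ofPred_eq] at hd ⊢
    exact hd.trans (isConj_iff.mpr ⟨g, rfl⟩)
  obtain ⟨F, i1, i2, hF, ⟨e⟩⟩ := hq
  obtain ⟨hcard, a', b', c', ha', hb', hc', htop, nab, nac, nbc, ncab⟩ :=
    SU32.derived_su32 (F := F) hF
  let π : G →* ↥(commutator ↥(Cfsg.SU 3 F 2)) :=
    e.toMonoidHom.comp (QuotientGroup.mk' (Cfsg.pCore 2 G))
  have hπs : Function.Surjective π := e.surjective.comp (QuotientGroup.mk'_surjective _)
  have hπk : ∀ x, π x = 1 ↔ x ∈ Cfsg.pCore 2 G := fun x => by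
    show e (QuotientGroup.mk x) = 1 ↔ _
    rw [map_eq_one_iff _ e.injective, QuotientGroup.eq_one_iff]
  -- every involution of the quotient lifts into D
  have hne : ∀ d ∈ D, π d ≠ 1 := by
    intro d hd h1
    have hD1 : ∀ d' ∈ D, π d' = 1 := fun d' hd' => by
      rw [hconj, conjugatesOf, Set.mem_ofPred_eq] at hd hd'
      obtain ⟨g, hg⟩ := isConj_iff.mp (hd.symm.trans hd')
      rw [← hg, map_mul, map_mul, h1, mul_one, ← map_mul, mul_inv_cancel, map_one]
    have hker : (⊤ : Subgroup G) ≤ π.ker := hgen ▸ (Subgroup.closure_le _).mpr hD1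
    obtain ⟨x, hx⟩ := hπs (a' * b')
    exact nab (by rw [← hx, show π x = 1 from hker (Subgroup.mem_top x), one_pow])
  have : Finite ↥(commutator ↥(Cfsg.SU 3 F 2)) := Nat.finite_of_card_ne_zero (by omega)
  have : Fact (Nat.Prime 2) := ⟨Nat.prime_two⟩
  have hlift : ∀ q : ↥(commutator ↥(Cfsg.SU 3 F 2)), q * q = 1 → q ≠ 1 → ∃ d ∈ D, π d = q := by
    intro q hq hq1
    have hsyl : ∀ r : ↥(commutator ↥(Cfsg.SU 3 F 2)), r * r = 1 → r ≠ 1 →
        Nat.card (Subgroup.zpowers r) =
          2 ^ (Nat.card ↥(commutator ↥(Cfsg.SU 3 F 2))).factorization 2 := by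
      intro r hr hr1
      rw [Nat.card_zpowers, orderOf_eq_prime (by rw [pow_two]; exact hr) hr1, hcard]
      have h2 : (54 : ℕ).factorization 2 = 1 := by
        rw [show (54 : ℕ) = 2 * 27 from rfl, Nat.factorization_mul (by norm_num) (by norm_num),
          Finsupp.add_apply, Nat.prime_two.factorization_self,
          Nat.factorization_eq_zero_of_not_dvd (by norm_num)]
      rw [h2, pow_one]
    have hr : π d₁ * π d₁ = 1 := by
      have h := pow_orderOf_eq_one d₁
      rw [hset.1 d₁ (hconj ▸ mem_conjugatesOf_self), pow_two] at h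
      rw [← map_mul, h, map_one]
    have hr1 := hne d₁ (hconj ▸ mem_conjugatesOf_self)
    obtain ⟨g, hg⟩ := MulAction.exists_smul_eq ↥(commutator ↥(Cfsg.SU 3 F 2))
      (Sylow.ofCard _ (hsyl _ hr hr1)) (Sylow.ofCard _ (hsyl q hq hq1))
    have hmem : g * π d₁ * g⁻¹ ∈ Subgroup.zpowers q := by
      have h := congrArg Sylow.toSubgroup hg
      simp only [Sylow.coe_ofCard, Sylow.coe_subgroup_smul] at h
      rw [← h]
      exact ⟨π d₁, Subgroup.mem_zpowers _, rfl⟩
    obtain ⟨x, rfl⟩ := hπs g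
    refine ⟨x * d₁ * x⁻¹, hcl x d₁ (hconj ▸ mem_conjugatesOf_self), ?_⟩
    rw [map_mul, map_mul, map_inv]
    obtain ⟨k, hk⟩ := hmem
    have hk' : q ^ k = π x * π d₁ * (π x)⁻¹ := hk
    rcases Int.even_or_odd k with ⟨m, rfl⟩ | ⟨m, rfl⟩
    · exfalso
      apply hr1
      rw [← two_mul, zpow_mul, zpow_two, hq, one_zpow, eq_mul_inv_iff_mul_eq, one_mul] at hk'
      simpa using hk'.symm
    · rw [← hk', zpow_add, zpow_one, zpow_mul, zpow_two, hq, one_zpow, one_mul]
  have hone : a' ≠ 1 ∧ b' ≠ 1 ∧ c' ≠ 1 := by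
    refine ⟨?_, ?_, ?_⟩ <;> rintro rfl
    · exact nab (by rw [one_mul, pow_two, hb'])
    · exact nab (by rw [mul_one, pow_two, ha'])
    · exact nac (by rw [mul_one, pow_two, ha'])
  obtain ⟨a, haD, ha⟩ := hlift a' ha' hone.1
  obtain ⟨b, hbD, hb⟩ := hlift b' hb' hone.2.1
  obtain ⟨c, hcD, hc⟩ := hlift c' hc' hone.2.2
  have hsq : ∀ d ∈ D, d * d = 1 := fun d hd => by
    rw [← pow_two, ← hset.1 d hd, pow_orderOf_eq_one]
  have habaD : a * b * a ∈ D := by
    have := hcl a b hbD
    rwa [inv_eq_of_mul_eq_one_right (hsq a haD)] at this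
  have cube : ∀ x ∈ D, ∀ y ∈ D, (π x * π y) ^ 2 ≠ 1 → (x * y) ^ 3 = 1 := fun x hx y hy h =>
    (hset.2 x hx y hy).resolve_left fun h2 => h (by rw [← map_mul, ← map_pow, h2, map_one])
  set T := Subgroup.closure ({a, b, c} : Set G) with hT
  have hle : Nat.card T ≤ 54 := card_le (hsq a haD) (hsq b hbD) (hsq c hcD)
    (cube a haD b hbD (by rw [ha, hb]; exact nab)) (cube a haD c hcD (by rw [ha, hc]; exact nac))
    (cube b hbD c hcD (by rw [hb, hc]; exact nbc))
    (cube c hcD _ habaD (by rw [map_mul, map_mul, ha, hb, hc]; exact ncab))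
  let θ : ↥T →* ↥(commutator ↥(Cfsg.SU 3 F 2)) := π.comp T.subtype
  have hθs : Function.Surjective θ := by
    rw [← MonoidHom.range_eq_top, eq_top_iff, ← htop, Subgroup.closure_le]
    rintro x (rfl | rfl | rfl)
    exacts [⟨⟨a, Subgroup.subset_closure (by simp)⟩, ha⟩, ⟨⟨b, Subgroup.subset_closure (by simp)⟩, hb⟩,
      ⟨⟨c, Subgroup.subset_closure (by simp)⟩, hc⟩]
  have hθb : Function.Bijective θ := by
    have hge := Nat.card_le_card_of_surjective θ hθs
    exact (Nat.bijective_iff_surjective_and_card θ).2 ⟨hθs, by omega⟩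
  refine ⟨T, ?_⟩
  refine Subgroup.isComplement'_of_disjoint_and_mul_eq_univ ?_ ?_
  · rw [Subgroup.disjoint_def]
    intro x hxO hxT
    have : θ ⟨x, hxT⟩ = θ 1 := by rw [map_one]; exact (hπk x).2 hxO
    exact congrArg Subtype.val (hθb.1 this)
  · rw [Set.eq_univ_iff_forall]
    intro x
    obtain ⟨t, ht⟩ := hθs (π x)
    refine ⟨x * (t : G)⁻¹, (hπk _).1 ?_, t, t.2, by simp⟩
    rw [map_mul, map_inv, show π (t : G) = π x from ht, mul_inv_cancel]

end Cfsg.Agent.S5555
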