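import Cfsg.Statements.S5559
import Cfsg.Agent.EqLemmas
import Cfsg.Agent.S5555
import Cfsg.Agent.Lib.SU32.Cubes
import Cfsg.Agent.Lib.SU32.Dihedral
import Cfsg.Agent.Lib.HallHigman.FrattiniModule
import Cfsg.Agent.Lib.Components.GenFitting

set_option autoImplicit false
open Cfsg

namespace Cfsg.Agent.S5559

open Subgroup

/-- In a 2-group generated by the conjugates of one involution that involution generates. -/
theorem zpowers_eq_top {G : Type*} [Group G] [Finite G] (hG : IsPGroup 2 G) (x : G)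
    (h : closure (conjugatesOf x) = ⊤) : zpowers x = ⊤ := by
  by_contra hne
  have : Fact (Nat.Prime 2) := ⟨Nat.prime_two⟩
  obtain ⟨M, hM, hle⟩ := (eq_top_or_exists_le_coatom (zpowers x)).resolve_left hne
  have : Group.IsNilpotent G := hG.isNilpotent
  have hn : M.Normal := normalizerCondition_of_isNilpotent.normal_of_coatom M hM
  refine hM.1 (eq_top_iff.2 (h ▸ (closure_le _).2 fun y hy => ?_))
  obtain ⟨g, rfl⟩ := isConj_iff.1 (show IsConj x y from hy)
  exact hn.conj_mem x (hle (mem_zpowers x)) g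

/-- A group of order at most 54 with cubes of products one is the model once it has order at least 54. -/
theorem iso_model {G K : Type*} [Group G] [Finite G] [Group K] [Finite K] {a b c : G} {a' b' c' : K}
    (ha : a * a = 1) (hb : b * b = 1) (hc : c * c = 1) (hab : (a * b) ^ 3 = 1) (hac : (a * c) ^ 3 = 1)
    (hbc : (b * c) ^ 3 = 1) (hu : (c * (a * b * a)) ^ 3 = 1) (ha' : a' * a' = 1) (hb' : b' * b' = 1)
    (hc' : c' * c' = 1) (hab' : (a' * b') ^ 3 = 1) (hac' : (a' * c') ^ 3 = 1) (hbc' : (b' * c') ^ 3 = 1)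
    (hu' : (c' * (a' * b' * a')) ^ 3 = 1) (htop : closure {a, b, c} = ⊤) (htop' : closure {a', b', c'} = ⊤)
    (hG : 54 ≤ Nat.card G) (hK : 54 ≤ Nat.card K) : Nonempty (G ≃* K) := by
  set T := closure ({(a, a'), (b, b'), (c, c')} : Set (G × K)) with hT
  have hle : Nat.card T ≤ 54 := S5555.card_le (Prod.ext ha ha') (Prod.ext hb hb') (Prod.ext hc hc')
    (Prod.ext hab hab') (Prod.ext hac hac') (Prod.ext hbc hbc') (Prod.ext hu hu')
  let p : T →* G := (MonoidHom.fst G K).comp T.subtype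
  let q : T →* K := (MonoidHom.snd G K).comp T.subtype
  have hp : Function.Surjective p := by
    rw [← MonoidHom.range_eq_top, eq_top_iff, ← htop, closure_le]
    rintro x (rfl | rfl | rfl)
    exacts [⟨⟨(x, a'), subset_closure (by simp)⟩, rfl⟩, ⟨⟨(x, b'), subset_closure (by simp)⟩, rfl⟩,
      ⟨⟨(x, c'), subset_closure (by simp)⟩, rfl⟩]
  have hq : Function.Surjective q := by
    rw [← MonoidHom.range_eq_top, eq_top_iff, ← htop', closure_le]
    rintro x (rfl | rfl | rfl)
    exacts [⟨⟨(a, x), subset_closure (by simp)⟩, rfl⟩, ⟨⟨(b, x), subset_closure (by simp)⟩, rfl⟩,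
      ⟨⟨(c, x), subset_closure (by simp)⟩, rfl⟩]
  have h1 := Nat.card_le_card_of_surjective p hp
  have h2 := Nat.card_le_card_of_surjective q hq
  exact ⟨(MulEquiv.ofBijective p ((Nat.bijective_iff_surjective_and_card p).2 ⟨hp, by omega⟩)).symm.trans
    (MulEquiv.ofBijective q ((Nat.bijective_iff_surjective_and_card q).2 ⟨hq, by omega⟩))⟩

/-- Let H be a finite group generated by a conjugacy class E of 3-transpositions with at least two members, with F*(H) = O₂(H), and such that H/O₂(H) has a normal Sylow 3-subgroup of 2-power index (that is, H = O_{2,3,2}(H)). Then H/O₂(H) is isomorphic to the symmetric group of degree 3 or to the derived group of SU₃(2) (of order 54). -/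
theorem result {H : Type*} [Group H] [Finite H] {E : Set H} (hE : Cfsg.IsThreeTranspositionClass E)
    (hE2 : ∃ a ∈ E, ∃ b ∈ E, a ≠ b) (hF : Cfsg.generalizedFittingSubgroup H = Cfsg.pCore 2 H)
    (h232 : ∃ P : Sylow 3 (H ⧸ Cfsg.pCore 2 H), (P : Subgroup (H ⧸ Cfsg.pCore 2 H)).Normal ∧
      ∃ k : ℕ, (P : Subgroup (H ⧸ Cfsg.pCore 2 H)).index = 2 ^ k) :
    Nonempty (H ⧸ Cfsg.pCore 2 H ≃* Equiv.Perm (Fin 3)) ∨
      ∃ (F : Type) (_ : Field F) (_ : Fintype F), Fintype.card F = 4 ∧
        Nonempty (H ⧸ Cfsg.pCore 2 H ≃* ↥(commutator ↥(Cfsg.SU 3 F 2))) := by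
  have : Fact (Nat.Prime 2) := ⟨Nat.prime_two⟩
  have : Fact (Nat.Prime 3) := ⟨Nat.prime_three⟩
  have hC : Subgroup.centralizer (Cfsg.pCore 2 H : Set H) ≤ Cfsg.pCore 2 H := by
    have h1 := Components.centralizer_genFitting_le (G := H)
    rwa [hF] at h1
  obtain ⟨F⟩ := HallHigman.exists_frattiniData hC
  obtain ⟨P, hPn, k, hk⟩ := h232
  obtain ⟨hset, ⟨e₀, he₀, hconj⟩, hgen⟩ := hE
  have hcl : ∀ g : H, ∀ e ∈ E, g * e * g⁻¹ ∈ E := by
    intro g e he
    rw [hconj, conjugatesOf, Set.mem_ofPred_eq] at he ⊢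
    exact he.trans (isConj_iff.2 ⟨g, rfl⟩)
  set π : H →* H ⧸ Cfsg.pCore 2 H := QuotientGroup.mk' (Cfsg.pCore 2 H) with hπ
  have hπs : Function.Surjective π := QuotientGroup.mk'_surjective _
  have hπk : ∀ x, π x = 1 ↔ x ∈ Cfsg.pCore 2 H := fun x => QuotientGroup.eq_one_iff x
  have hsqE : ∀ e ∈ E, e * e = 1 := fun e he => by
    rw [← pow_two, ← hset.1 e he, pow_orderOf_eq_one]
  -- two members have different images
  obtain ⟨e₁, he₁, hne⟩ : ∃ e ∈ E, π e ≠ π e₀ := by
    by_contra hcon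
    push Not at hcon
    obtain ⟨a, ha, b, hb, hab⟩ := hE2
    have hcomm : ∀ x ∈ E, ∀ y ∈ E, x * y = y * x := by
      intro x hx y hy
      have h1 : x * y ∈ Cfsg.pCore 2 H := (hπk _).1 (by
        rw [map_mul, hcon x hx, hcon y hy, ← map_mul, hsqE e₀ he₀, map_one])
      rcases hset.2 x hx y hy with h | h
      · calc x * y = (x * y) ^ 2 * (y⁻¹ * x⁻¹) := by rw [pow_two]; group
          _ = y * x := by rw [h, one_mul, inv_eq_of_mul_eq_one_right (hsqE x hx),
              inv_eq_of_mul_eq_one_right (hsqE y hy)]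
      · obtain ⟨n, hn⟩ := Cores.isPGroup_pCore 2 H ⟨_, h1⟩
        have hn' : (x * y) ^ 2 ^ n = 1 := congrArg Subtype.val hn
        have h' := pow_gcd_eq_one.2 ⟨h, hn'⟩
        rw [show Nat.gcd 3 (2 ^ n) = 1 from Nat.Coprime.pow_right n (by norm_num), pow_one] at h'
        rw [eq_inv_of_mul_eq_one_left h', inv_mul_cancel, mul_inv_cancel]
    have hcen : ∀ x ∈ E, ∀ g : H, g * x * g⁻¹ = x := by
      intro x hx g
      have hle : closure E ≤ Subgroup.centralizer ({x} : Set H) := (closure_le _).2 fun y hy =>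
        Subgroup.mem_centralizer_singleton_iff.2 (hcomm y hy x hx)
      rw [hgen] at hle
      rw [Subgroup.mem_centralizer_singleton_iff.1 (hle (Subgroup.mem_top g)), mul_inv_cancel_right]
    have hall : ∀ x ∈ E, x = e₀ := fun x hx => by
      rw [hconj, conjugatesOf, Set.mem_ofPred_eq, isConj_iff] at hx
      obtain ⟨g, rfl⟩ := hx
      exact hcen e₀ he₀ g
    exact hab (by rw [hall a ha, hall b hb])
  have hne1 : ∀ e ∈ E, π e ≠ 1 := by
    have : ∀ e ∈ E, π e = 1 → ∀ f ∈ E, π f = 1 := by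
      intro e he h f hf
      rw [hconj, conjugatesOf, Set.mem_ofPred_eq] at he hf
      obtain ⟨g, rfl⟩ := isConj_iff.1 (he.symm.trans hf)
      rw [map_mul, map_mul, h, mul_one, ← map_mul, mul_inv_cancel, map_one]
    exact fun e he h => hne (by rw [this e he h e₁ he₁, this e he h e₀ he₀])
  set a := π e₀ with ha
  have haa : a * a = 1 := by rw [ha, ← map_mul, hsqE e₀ he₀, map_one]
  have hnotP : ∀ d : H ⧸ Cfsg.pCore 2 H, d * d = 1 → d ≠ 1 → d ∉ (P : Subgroup _) := by
    intro d hd hd1 hdP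
    obtain ⟨n, hn⟩ := P.2 ⟨d, hdP⟩
    have hn' : d ^ 3 ^ n = 1 := congrArg Subtype.val hn
    have h' := pow_gcd_eq_one.2 ⟨(pow_two d).trans hd, hn'⟩
    rw [show Nat.gcd 2 (3 ^ n) = 1 from Nat.Coprime.pow_right n (by norm_num), pow_one] at h'
    exact hd1 h'
  have haP : a ∉ (P : Subgroup _) := hnotP a haa (hne1 e₀ he₀)
  have hDgen : closure (π '' E) = ⊤ := by
    rw [← MonoidHom.map_closure, hgen, Subgroup.map_top_of_surjective _ hπs]
  have hidx : (P : Subgroup (H ⧸ Cfsg.pCore 2 H)).index = 2 := by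
    have hp2 : IsPGroup 2 ((H ⧸ Cfsg.pCore 2 H) ⧸ (P : Subgroup (H ⧸ Cfsg.pCore 2 H))) :=
      IsPGroup.of_card (n := k) hk
    set σ := QuotientGroup.mk' (P : Subgroup (H ⧸ Cfsg.pCore 2 H)) with hσ
    have hσs : Function.Surjective σ := QuotientGroup.mk'_surjective _
    have htop : closure (conjugatesOf (σ a)) = ⊤ := by
      rw [eq_top_iff, ← Subgroup.map_top_of_surjective σ hσs, ← hDgen, MonoidHom.map_closure]
      refine closure_mono ?_
      rintro _ ⟨_, ⟨e, he, rfl⟩, rfl⟩
      rw [hconj, conjugatesOf, Set.mem_ofPred_eq] at he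
      exact σ.map_isConj (π.map_isConj (show IsConj e₀ e from he))
    have hz := congrArg (fun S : Subgroup _ => Nat.card S) (zpowers_eq_top hp2 (σ a) htop)
    simp only [Nat.card_zpowers, Subgroup.card_top] at hz
    rw [Subgroup.index_eq_card, ← hz]
    refine orderOf_eq_prime (by rw [pow_two, ← map_mul, haa, map_one]) fun h1 => haP ?_
    exact (QuotientGroup.eq_one_iff a).1 h1
  have hcubeE : ∀ x ∈ E, ∀ y ∈ E, π x ≠ π y → (x * y) ^ 3 = 1 := by
    intro x hx y hy hxy
    refine (hset.2 x hx y hy).resolve_left fun h => hxy ?_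
    have hP1 : π x * π y ∈ (P : Subgroup _) :=
      (Subgroup.mul_mem_iff_of_index_two hidx).2 (iff_of_false
        (hnotP _ (by rw [← map_mul, hsqE x hx, map_one]) (hne1 x hx))
        (hnotP _ (by rw [← map_mul, hsqE y hy, map_one]) (hne1 y hy)))
    have hsq1 : π x * π y * (π x * π y) = 1 := by
      rw [← pow_two, ← map_mul, ← map_pow, h, map_one]
    have h1 : π x * π y = 1 := by_contra fun h1 => hnotP _ hsq1 h1 hP1
    rw [eq_inv_of_mul_eq_one_left h1, ← map_inv, inv_eq_of_mul_eq_one_right (hsqE y hy)]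
  -- all involutions of the quotient are images
  have hlift : ∀ d : H ⧸ Cfsg.pCore 2 H, d * d = 1 → d ∉ (P : Subgroup _) → ∃ e ∈ E, π e = d := by
    intro d hd hdP
    have hkP : d * a ∈ (P : Subgroup _) :=
      (Subgroup.mul_mem_iff_of_index_two hidx).2 (iff_of_false hdP haP)
    obtain ⟨n, hn⟩ := P.2 ⟨_, hkP⟩
    have hn' : (d * a) ^ 3 ^ n = 1 := congrArg Subtype.val hn
    obtain ⟨m, hm⟩ := (show Odd 3 by decide).pow (n := n)
    set j := (d * a) ^ (m + 1) with hj
    have hj2 : j * j = d * a := by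
      rw [hj, ← pow_add, show m + 1 + (m + 1) = 2 * m + 1 + 1 by ring, ← hm, pow_succ, hn', one_mul]
    have haj : a * j⁻¹ = j * a := by
      have h1 : SemiconjBy a (d * a) (d * a)⁻¹ := by
        show a * (d * a) = (d * a)⁻¹ * a
        rw [mul_inv_rev, inv_eq_of_mul_eq_one_right haa, inv_eq_of_mul_eq_one_right hd, mul_assoc]
      have h2 : SemiconjBy a j j⁻¹ := by rw [hj, ← inv_pow]; exact h1.pow_right _
      have h3 : SemiconjBy a j⁻¹ j := by simpa using h2.inv_right
      exact h3.eq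
    obtain ⟨g, hg⟩ := hπs j
    refine ⟨g * e₀ * g⁻¹, hcl g e₀ he₀, ?_⟩
    rw [map_mul, map_mul, map_inv, hg, ← ha, mul_assoc, haj, ← mul_assoc, hj2, mul_assoc, haa, mul_one]
  have hyp : SU32.Hyp F.ρ (P : Subgroup (H ⧸ Cfsg.pCore 2 H)) a := by
    refine ⟨inferInstance, F.injective, P.2, hidx, haa, haP, ?_, ?_, ?_, ?_⟩
    · rw [eq_top_iff, ← hDgen]
      refine closure_mono ?_
      rintro _ ⟨e, he, rfl⟩
      have h1 : π e * π e = 1 := by rw [← map_mul, hsqE e he, map_one]
      exact ⟨h1, hnotP _ h1 (hne1 e he)⟩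
    · intro d e hd hdP he heP
      obtain ⟨x, hx, rfl⟩ := hlift d hd hdP
      obtain ⟨y, hy, rfl⟩ := hlift e he heP
      by_cases hxy : π x = π y
      · rw [hxy, he, one_pow]
      · rw [← map_mul, ← map_pow, hcubeE x hx y hy hxy, map_one]
    · intro e d he heP hd hdP hed v hv
      obtain ⟨y, hy, rfl⟩ := hlift e he heP
      obtain ⟨x, hx, rfl⟩ := hlift d hd hdP
      -- here `y * x` acts trivially on `v`
      have hs2 : ∀ w : F.V, w + w = 0 := SU32.two_torsion
      have hneg : ∀ w : F.V, -w = w := fun w => neg_eq_of_add_eq_zero_left (hs2 w)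
      obtain ⟨q, rfl⟩ := F.pi_surjective v
      set f := (q : H) * x * (q : H)⁻¹ with hf
      have hfE : f ∈ E := hcl q x hx
      have hfπ : π f = π x := by
        rw [hf, map_mul, map_mul, map_inv, (hπk q).2 q.2, one_mul, inv_one, mul_one]
      have h3 : (y * f) ^ 3 = 1 := hcubeE y hy f hfE (by rw [hfπ]; exact hed)
      have h0 : (y * x) ^ 3 = 1 := hcubeE y hy x hx hed
      have hnor := F.normalInst
      set w : Cfsg.pCore 2 H := q * ⟨x * (q⁻¹ : Cfsg.pCore 2 H) * x⁻¹, hnor.conj_mem _ (q⁻¹).2 x⟩ with hw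
      set w' : Cfsg.pCore 2 H := ⟨y * w * y⁻¹, hnor.conj_mem _ w.2 y⟩ with hw'
      have hyf : (w' : H) * (y * x) = y * f := by
        simp [hw', hw, hf, mul_assoc]
      obtain ⟨hmem, hgeo⟩ := F.pi_geom (y * x) w' 3
      have h1 : F.pi ⟨_, hmem⟩ = 0 := by
        refine (F.pi_eq_of_eq (b := 1) ?_).trans F.pi_one
        show ((w' : H) * (y * x)) ^ 3 * ((y * x) ^ 3)⁻¹ = 1
        rw [hyf, h3, h0, inv_one, one_mul]
      have hpinv : F.pi q⁻¹ = F.pi q := by
        have := F.pi_mul q q⁻¹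
        rw [mul_inv_cancel, F.pi_one] at this
        rw [eq_neg_of_add_eq_zero_right this.symm, hneg]
      have hpw : F.pi w' = F.ρ (π y) (F.pi q + F.ρ (π x) (F.pi q)) := by
        rw [hw', ← F.pi_conj y w]
        show F.ρ (π y) (F.pi w) = _
        rw [hw, F.pi_mul, ← F.pi_conj x q⁻¹, hpinv]
        rfl
      rw [h1, hpw] at hgeo
      set v := F.pi q with hvdef
      set A := F.ρ (π y) with hA
      set B := F.ρ (π x) with hB
      have hyx : F.ρ ((y * x : H) : H ⧸ Cfsg.pCore 2 H) = A * B := by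
        rw [hA, hB, ← map_mul, ← map_mul]; rfl
      rw [hyx] at hgeo
      have hAA : ∀ u, A (A u) = u := fun u => by
        rw [← Module.End.mul_apply, hA, ← map_mul, he, map_one, Module.End.one_apply]
      have hBB : ∀ u, B (B u) = u := fun u => by
        rw [← Module.End.mul_apply, hB, ← map_mul, hd, map_one, Module.End.one_apply]
      have hfix : A (B v) = v := by
        rw [← Module.End.mul_apply, hA, hB, ← map_mul]; exact hv
      have hBv : B v = A v := by rw [← hAA (B v), hfix]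
      have e1 : A (v + B v) = v + B v := by rw [map_add, hfix, hBv, add_comm]
      have e2 : A (B (v + B v)) = v + B v := by rw [map_add, hBB, add_comm (B v) v, e1]
      simp only [Finset.sum_range_succ, Finset.sum_range_zero, zero_add, pow_zero, pow_one, pow_two,
        LinearMap.add_apply, Module.End.mul_apply, Module.End.one_apply, e1, e2] at hgeo
      have h4 : v + B v = 0 := by rw [hgeo, hs2, zero_add]
      have hBfix : B v = v := by rw [eq_neg_of_add_eq_zero_right h4, hneg]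
      show A v = v
      rw [← hBv, hBfix]
    · exact ⟨π e₁, by rw [← map_mul, hsqE e₁ he₁, map_one],
        hnotP _ (by rw [← map_mul, hsqE e₁ he₁, map_one]) (hne1 e₁ he₁), hne⟩
  rcases hyp.classify with hiso | ⟨hcard, b, c, hb, hbP, hc, hcP, htop⟩
  · exact Or.inl hiso
  · refine Or.inr ⟨SU32.K4, inferInstance, inferInstance, SU32.K4.card_eq, ?_⟩
    obtain ⟨h54, a', b', c', ha', hb', hc', htop', hab', hac', hbc', hu'⟩ :=
      SU32.derived_su32_cubes (F := SU32.K4) SU32.K4.card_eq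
    have : Finite ↥(commutator ↥(Cfsg.SU 3 SU32.K4 2)) := Nat.finite_of_card_ne_zero (by omega)
    have haba : (a * b * a) * (a * b * a) = 1 ∧ a * b * a ∉ (P : Subgroup _) := by
      refine ⟨?_, ?_⟩
      · simp only [mul_assoc]
        rw [← mul_assoc a a, haa, one_mul, ← mul_assoc b b, hb, one_mul, haa]
      · intro hm
        have := hPn.conj_mem _ hm a
        rw [inv_eq_of_mul_eq_one_right haa] at this
        apply hbP
        simpa [mul_assoc, haa, ← mul_assoc a a] using this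
    exact iso_model haa hb hc (hyp.cube _ _ haa haP hb hbP) (hyp.cube _ _ haa haP hc hcP)
      (hyp.cube _ _ hb hbP hc hcP) (hyp.cube _ _ hc hcP haba.1 haba.2) ha' hb' hc' hab' hac' hbc' hu'
      htop htop' hcard h54.ge

end Cfsg.Agent.S5559
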