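import Cfsg.Statements.S5594
import Cfsg.Agent.Lib.Leech.Co0Center

set_option autoImplicit false
open Cfsg

namespace Cfsg.Agent.S5594

/-- The automorphism group of the Leech lattice contains the negation map, and the subgroup of order 2 it generates has no complement: the automorphism group is a non-split extension of its quotient by that subgroup (it is not the direct product of a group of order 2 with the first Conway group). -/
theorem result :
    ∃ n : ↥Cfsg.Co0, (∀ v : ↥Cfsg.leechLattice, ((n • v : ↥Cfsg.leechLattice) : Cfsg.GolayPt → ℤ) = -(v : Cfsg.GolayPt → ℤ)) ∧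
    ∀ K : Subgroup ↥Cfsg.Co0, ¬ (Subgroup.zpowers n).IsComplement' K := by
  refine ⟨Cfsg.Agent.Leech.negOne, Cfsg.Agent.Leech.vec_negOne, fun K hK => ?_⟩
  set n := Cfsg.Agent.Leech.negOne with hn
  have hc : Cfsg.support₂ (Cfsg.qrWord 0) ∈
      Cfsg.supports (Cfsg.golayCode : Set (Cfsg.GolayPt → ZMod 2)) :=
    ⟨Cfsg.qrWord 0, Submodule.subset_span (Or.inl ⟨0, rfl⟩), rfl⟩
  have hswap : ∀ p : Cfsg.GolayPt, (Cfsg.projInv p ∈ Cfsg.support₂ (Cfsg.qrWord 0)) ↔
      ¬ p ∈ Cfsg.support₂ (Cfsg.qrWord 0) := by decide +kernel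
  have hinv : ∀ p : Cfsg.GolayPt, Cfsg.projInv.symm p = Cfsg.projInv p := fun _ => rfl
  have hinv2 : ∀ p : Cfsg.GolayPt, Cfsg.projInv (Cfsg.projInv p) = p := by decide +kernel
  set g := Cfsg.Agent.Leech.mono Cfsg.projInv Cfsg.Agent.Leech.projInv_mem_M24 _ hc with hg
  have hgg : g * g = n := Cfsg.Agent.Leech.co0_ext fun v => by
    refine Subtype.ext (funext fun i => ?_)
    rw [mul_smul, hn, Cfsg.Agent.Leech.vec_negOne, hg, Cfsg.Agent.Leech.vec_mono,
      Cfsg.Agent.Leech.vec_mono]
    simp only [Cfsg.signedPerm, hinv, hinv2, hswap, Pi.neg_apply]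
    split_ifs <;> simp
  have hcard : Nat.card (Subgroup.zpowers n) = 2 := by
    rw [Nat.card_zpowers]
    refine orderOf_eq_prime ?_ Cfsg.Agent.Leech.negOne_ne_one
    refine Cfsg.Agent.Leech.co0_ext fun v => ?_
    rw [hn, pow_two, mul_smul, one_smul, Cfsg.Agent.Leech.negOne_smul,
      Cfsg.Agent.Leech.negOne_smul, neg_neg]
  have hidx : K.index = 2 := by rw [← hcard]; exact hK.index_eq_card
  have hnK : n ∈ K := by
    rw [← hgg]; exact Subgroup.mul_self_mem_of_index_two hidx g
  exact Cfsg.Agent.Leech.negOne_ne_one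
    (Subgroup.disjoint_def.1 hK.disjoint (Subgroup.mem_zpowers n) hnK)

end Cfsg.Agent.S5594
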