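import Cfsg.Statements.S5599
import Cfsg.Agent.EqLemmas
import Cfsg.Agent.Lib.Golay.M24

set_option autoImplicit false
open scoped Pointwise
open Cfsg

namespace Cfsg.Agent.S5599

open Cfsg.Agent Cfsg.Agent.Golay

theorem mem_M22 {x : Equiv.Perm GolayPt} :
    x ∈ Cfsg.Spor.M22 ↔ x ∈ M24 ∧ x none = none ∧ x (some 0) = some 0 := by
  exact ⟨fun h => ⟨h.1.1, h.1.2, h.2⟩, fun h => ⟨⟨h.1, h.2.1⟩, h.2.2⟩⟩

/-- Some element of M22 fixes `p` and moves `q`. -/
theorem exists_move {p q : GolayPt} (hp : p ≠ none) (hp0 : p ≠ some 0) (hq : q ≠ none)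
    (hq0 : q ≠ some 0) (hqp : q ≠ p) :
    ∃ x ∈ Cfsg.Spor.M22, x p = p ∧ x q ≠ q := by
  have hc : ∀ s : Finset GolayPt, s.card < 24 → ∃ r, r ∉ s := fun s hs => by
    by_contra! h
    rw [Finset.eq_univ_iff_forall.mpr h, Finset.card_univ] at hs
    exact absurd hs (by decide)
  obtain ⟨r, hr⟩ := hc {none, some 0, p, q} (lt_of_le_of_lt Finset.card_le_four (by norm_num))
  obtain ⟨s, hs⟩ := hc {none, some 0, p, q, r} (lt_of_le_of_lt Finset.card_le_five (by norm_num))
  simp only [Finset.mem_insert, Finset.mem_singleton, not_or] at hr hs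
  have hp' := Ne.symm hp; have hp0' := Ne.symm hp0; have hq' := Ne.symm hq
  have hq0' := Ne.symm hq0; have hqp' := Ne.symm hqp
  obtain ⟨r1, r2, r3, r4⟩ := hr
  obtain ⟨s1, s2, s3, s4, s5⟩ := hs
  have r1' := Ne.symm r1; have r2' := Ne.symm r2; have r3' := Ne.symm r3
  have s1' := Ne.symm s1; have s2' := Ne.symm s2; have s3' := Ne.symm s3
  have s4' := Ne.symm s4; have s5' := Ne.symm s5
  let x : Fin 5 ↪ GolayPt := ⟨![none, some 0, p, q, s], fun i j h => by
    fin_cases i <;> fin_cases j <;> simp_all⟩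
  let y : Fin 5 ↪ GolayPt := ⟨![none, some 0, p, r, s], fun i j h => by
    fin_cases i <;> fin_cases j <;> simp_all⟩
  obtain ⟨t, ht, htx⟩ := exists_map_five x y
  refine ⟨t, mem_M22.mpr ⟨ht, htx 0, htx 1⟩, htx 2, fun h => r4 ?_⟩
  exact ((htx 3).symm.trans h)

theorem exists_octad_split : ∃ o ∈ octads, (none : GolayPt) ∈ o ∧ (some 0 : GolayPt) ∉ o :=
  ⟨pts 0xd4b004, pts_mem_octads (by decide +kernel), by decide +kernel, by decide +kernel⟩

/-- In the automorphism group of the length-24 code, the two-point Mathieu group (permutations of the code's group fixing the extra point and the residue 0) has index 2 in the setwise stabiliser of that pair of points, and an element of the code's group interchanging the two points normalises the two-point group and induces on it, by conjugation, an automorphism that is not inner. -/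
theorem result (g : Equiv.Perm Cfsg.GolayPt) (hg : g ∈ Cfsg.M24) (h₁ : g none = some 0) (h₂ : g (some 0) = none) : Cfsg.Spor.M22.relIndex (Cfsg.M24 ⊓ MulAction.stabilizer (Equiv.Perm Cfsg.GolayPt) ({none, some 0} : Finset Cfsg.GolayPt)) = 2 ∧ (∀ x ∈ Cfsg.Spor.M22, g * x * g⁻¹ ∈ Cfsg.Spor.M22) ∧ ¬ ∃ h ∈ Cfsg.Spor.M22, ∀ x ∈ Cfsg.Spor.M22, g * x * g⁻¹ = h * x * h⁻¹ := by
  have hsmul : ∀ x : Equiv.Perm GolayPt,
      x • ({none, some 0} : Finset GolayPt) = {x none, x (some 0)} := fun x => by
    simp [smul_eq_image]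
  refine ⟨?_, ?_, ?_⟩
  · have hle : Cfsg.Spor.M22 ≤
        M24 ⊓ MulAction.stabilizer (Equiv.Perm GolayPt) ({none, some 0} : Finset GolayPt) :=
      fun x hx => by
        obtain ⟨hxM, h0, h1⟩ := mem_M22.mp hx
        exact ⟨hxM, by show x • _ = _; rw [hsmul, h0, h1]⟩
    have hstep := natCard_step
      (M24 ⊓ MulAction.stabilizer (Equiv.Perm GolayPt) ({none, some 0} : Finset GolayPt))
      (none : GolayPt) {none, some 0} (fun x hx => by
        have hx' : x • ({none, some 0} : Finset GolayPt) = {none, some 0} := hx.2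
        have hm := Finset.smul_mem_smul_finset (a := x)
          (Finset.mem_insert_self (none : GolayPt) {some 0})
        rwa [hx'] at hm) (fun y hy => by
        simp only [Finset.mem_insert, Finset.mem_singleton] at hy
        rcases hy with rfl | rfl
        · exact ⟨1, one_mem _, rfl⟩
        · exact ⟨g, ⟨hg, by show g • _ = _; rw [hsmul, h₁, h₂, Finset.pair_comm]⟩, h₁⟩)
    have hM22 : M24 ⊓ MulAction.stabilizer (Equiv.Perm GolayPt) ({none, some 0} : Finset GolayPt) ⊓
        MulAction.stabilizer (Equiv.Perm GolayPt) (none : GolayPt) = Cfsg.Spor.M22 := by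
      ext x
      rw [mem_M22]
      constructor
      · rintro ⟨⟨hM, hx⟩, h0⟩
        have h0' : x none = none := h0
        refine ⟨hM, h0', ?_⟩
        have hx' : x • ({none, some 0} : Finset GolayPt) = {none, some 0} := hx
        have hm := Finset.smul_mem_smul_finset (a := x)
          (show (some 0 : GolayPt) ∈ ({none, some 0} : Finset GolayPt) by simp)
        rw [hx'] at hm
        simp only [Equiv.Perm.smul_def, Finset.mem_insert, Finset.mem_singleton] at hm
        rcases hm with hm | hm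
        · exact absurd (x.injective (hm.trans h0'.symm)) (by decide)
        · exact hm
      · rintro ⟨hM, h0, h1⟩
        exact ⟨⟨hM, by show x • _ = _; rw [hsmul, h0, h1]⟩, h0⟩
    rw [hM22, Finset.card_pair (by decide)] at hstep
    have hi := Subgroup.relIndex_mul_relIndex ⊥ Cfsg.Spor.M22
      (M24 ⊓ MulAction.stabilizer (Equiv.Perm GolayPt) ({none, some 0} : Finset GolayPt))
      bot_le hle
    rw [Subgroup.relIndex_bot_left, Subgroup.relIndex_bot_left, hstep] at hi
    exact Nat.eq_of_mul_eq_mul_left Nat.card_pos (hi.trans (Nat.mul_comm _ _))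
  · intro x hx
    obtain ⟨hxM, h0, h1⟩ := mem_M22.mp hx
    have e0 : g⁻¹ none = some 0 := by rw [Equiv.Perm.inv_eq_iff_eq, h₂]
    have e1 : g⁻¹ (some 0) = none := by rw [Equiv.Perm.inv_eq_iff_eq, h₁]
    refine mem_M22.mpr ⟨mul_mem (mul_mem hg hxM) (inv_mem hg), ?_, ?_⟩
    · rw [Equiv.Perm.mul_apply, Equiv.Perm.mul_apply, e0, h1, h₂]
    · rw [Equiv.Perm.mul_apply, Equiv.Perm.mul_apply, e1, h0, h₁]
  · rintro ⟨h, hh, hconj⟩
    obtain ⟨hhM, hh0, hh1⟩ := mem_M22.mp hh
    set c : Equiv.Perm GolayPt := h⁻¹ * g with hcdef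
    have hcM : c ∈ M24 := mul_mem (inv_mem hhM) hg
    have hc0 : c none = some 0 := by
      rw [hcdef, Equiv.Perm.mul_apply, h₁, Equiv.Perm.inv_eq_iff_eq, hh1]
    have hc1 : c (some 0) = none := by
      rw [hcdef, Equiv.Perm.mul_apply, h₂, Equiv.Perm.inv_eq_iff_eq, hh0]
    have hcomm : ∀ x ∈ Cfsg.Spor.M22, c * x = x * c := fun x hx => by
      have e := hconj x hx
      calc c * x = h⁻¹ * (g * x * g⁻¹) * g := by rw [hcdef]; group
        _ = h⁻¹ * (h * x * h⁻¹) * g := by rw [e]
        _ = x * c := by rw [hcdef]; group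
    have hfix : ∀ p, p ≠ none → p ≠ some 0 → c p = p := fun p hp hp0 => by
      by_contra hne
      obtain ⟨x, hx, hxp, hxq⟩ := exists_move hp hp0
        (fun e => hp0 (c.injective (e.trans hc1.symm)))
        (fun e => hp (c.injective (e.trans hc0.symm))) hne
      refine hxq ?_
      have e := Equiv.Perm.ext_iff.mp (hcomm x hx) p
      rw [Equiv.Perm.mul_apply, Equiv.Perm.mul_apply, hxp] at e
      exact e.symm
    obtain ⟨o, ho, hno, h0o⟩ := exists_octad_split
    have heq : c • o = o := by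
      refine octad_eq_of_five (smul_mem_octads hcM ho) ho ?_
      refine le_trans ?_ (Finset.card_le_card (s := o.erase none) fun p hp => ?_)
      · rw [Finset.card_erase_of_mem hno, show o.card = 8 from ho.2]
        norm_num
      · obtain ⟨hpn, hpo⟩ := Finset.mem_erase.mp hp
        refine Finset.mem_inter.mpr ⟨?_, hpo⟩
        rw [← hfix p hpn fun e => h0o (e ▸ hpo)]
        exact Finset.smul_mem_smul_finset hpo
    have hm := Finset.smul_mem_smul_finset (a := c) hno
    rw [heq, Equiv.Perm.smul_def, hc0] at hm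
    exact h0o hm

end Cfsg.Agent.S5599
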