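import Cfsg.Statements.S5600
import Cfsg.Agent.EqLemmas
import Cfsg.Agent.Lib.Golay.OctadStab

set_option autoImplicit false
open scoped Pointwise
open Cfsg

namespace Cfsg.Agent.S5600

open Cfsg.Agent Cfsg.Agent.Golay MulAction

theorem isFrame_in {o : Finset GolayPt} (ho : o ∈ octads) {e : Fin 6 → GolayPt}
    (he : Function.Injective e) (hin : ∀ i, e i ∈ o) {p : GolayPt} (hp : p ∉ o) :
    IsFrame (![e 0, e 1, e 2, e 3, e 4, e 5, p]) := by
  have hne : ∀ i, e i ≠ p := fun i h => hp (h ▸ hin i)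
  have hne' : ∀ i, p ≠ e i := fun i h => hne i h.symm
  refine ⟨fun i j h => ?_, o, ho, fun i hi => ?_, hp⟩
  · fin_cases i <;> fin_cases j <;> simp_all [he.eq_iff]
  · fin_cases i <;> simp_all

theorem isFrame_out {o : Finset GolayPt} (ho : o ∈ octads) {e : Fin 6 → GolayPt}
    (he : Function.Injective e) (hin : ∀ i, i ≠ 5 → e i ∈ o) (hout : e 5 ∉ o) {a : GolayPt}
    (ha : a ∈ o) (hae : ∀ i, e i ≠ a) :
    IsFrame (![e 0, e 1, e 2, e 3, e 4, a, e 5]) := by
  have hne' : ∀ i, a ≠ e i := fun i h => hae i h.symm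
  refine ⟨fun i j h => ?_, o, ho, fun i hi => ?_, hout⟩
  · fin_cases i <;> fin_cases j <;> simp_all [he.eq_iff]
  · fin_cases i <;> simp_all

theorem image_five_card {e : Fin 6 → GolayPt} (he : Function.Injective e) :
    ((Finset.univ.erase (5 : Fin 6)).image e).card = 5 := by
  rw [Finset.card_image_of_injective _ he]
  decide

/-- An octad through the first five points misses the sixth. -/
theorem exists_octad_five {E : Finset GolayPt} (h : ¬ ∃ o ∈ octads, E ⊆ o) {e : Fin 6 → GolayPt}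
    (he : Function.Injective e) (hE : ∀ p ∈ E, ∃ i, e i = p) :
    ∃ o ∈ octads, (∀ i, i ≠ 5 → e i ∈ o) ∧ e 5 ∉ o ∧
      {a ∈ o | ∀ i, e i ≠ a}.card = 3 := by
  obtain ⟨o, ho, hsub⟩ := exists_octad (image_five_card he)
  have hin : ∀ i, i ≠ 5 → e i ∈ o := fun i hi =>
    hsub (Finset.mem_image_of_mem e (Finset.mem_erase.mpr ⟨hi, Finset.mem_univ i⟩))
  have hout : e 5 ∉ o := fun h5 => h ⟨o, ho, fun p hp => by
    obtain ⟨i, rfl⟩ := hE p hp
    by_cases hi : i = 5
    · exact hi ▸ h5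
    · exact hin i hi⟩
  refine ⟨o, ho, hin, hout, ?_⟩
  have hset : {a ∈ o | ∀ i, e i ≠ a} = o \ (Finset.univ.erase (5 : Fin 6)).image e := by
    ext a
    simp only [Finset.mem_filter, Finset.mem_sdiff, Finset.mem_image, Finset.mem_erase,
      Finset.mem_univ, and_true, not_exists, not_and]
    refine and_congr_right fun ha => ⟨fun h i _ => h i, fun h i => ?_⟩
    by_cases hi : i = 5
    · exact fun he5 => hout (hi ▸ he5 ▸ ha)
    · exact h i hi
  rw [hset, Finset.card_sdiff_of_subset hsub, show o.card = 8 from ho.2, image_five_card he]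

theorem smul_octad_eq {o : Finset GolayPt} (ho : o ∈ octads) {e : Fin 6 → GolayPt}
    (he : Function.Injective e) (hin : ∀ i, i ≠ 5 → e i ∈ o) {g : Equiv.Perm GolayPt}
    (hg : g ∈ M24) (hfix : ∀ i, g (e i) = e i) : g • o = o := by
  refine octad_eq_of_five (smul_mem_octads hg ho) ho ?_
  rw [← image_five_card he]
  refine Finset.card_le_card fun p hp => ?_
  obtain ⟨i, hi, rfl⟩ := Finset.mem_image.mp hp
  have hi' := (Finset.mem_erase.mp hi).1
  refine Finset.mem_inter.mpr ⟨?_, hin i hi'⟩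
  rw [← hfix i]
  exact Finset.smul_mem_smul_finset (hin i hi')

theorem extend6 {E : Finset GolayPt} (hE : E.card = 6) (σ : Equiv.Perm ↥E) :
    ∃ g ∈ M24, ∀ p : ↥E, g p = σ p := by
  let f : Fin 6 ≃ ↥E := (Finset.equivFinOfCardEq hE).symm
  let e : Fin 6 → GolayPt := fun i => f i
  let e' : Fin 6 → GolayPt := fun i => σ (f i)
  have he : Function.Injective e := Subtype.val_injective.comp f.injective
  have he' : Function.Injective e' := Subtype.val_injective.comp (σ.injective.comp f.injective)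
  suffices h : ∃ g ∈ M24, ∀ i, g (e i) = e' i by
    obtain ⟨g, hg, hge⟩ := h
    refine ⟨g, hg, fun p => ?_⟩
    simpa [e, e'] using hge (f.symm p)
  by_cases h : ∃ o ∈ octads, E ⊆ o
  · obtain ⟨o, ho, hsub⟩ := h
    obtain ⟨p, hp⟩ : ∃ p, p ∉ o := by
      by_contra! h
      have := Finset.eq_univ_iff_forall.mpr h
      have h8 := ho.2
      rw [this, Finset.card_univ] at h8
      exact absurd h8 (by decide)
    obtain ⟨g, hg, hgx⟩ := exists_frame_map (isFrame_in ho he (fun i => hsub (f i).2) hp)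
      (isFrame_in ho he' (fun i => hsub (σ (f i)).2) hp)
    refine ⟨g, hg, fun i => ?_⟩
    fin_cases i
    exacts [hgx 0, hgx 1, hgx 2, hgx 3, hgx 4, hgx 5]
  · obtain ⟨o, ho, hin, hout, h3⟩ := exists_octad_five h he
      fun p hp => ⟨f.symm ⟨p, hp⟩, by simp [e]⟩
    obtain ⟨o', ho', hin', hout', h3'⟩ := exists_octad_five h he'
      fun p hp => ⟨f.symm (σ.symm ⟨p, hp⟩), by simp [e']⟩
    obtain ⟨a, ha⟩ := Finset.card_pos.mp (show 0 < _ from h3 ▸ (by norm_num : 0 < 3))
    obtain ⟨b, hb⟩ := Finset.card_pos.mp (show 0 < _ from h3' ▸ (by norm_num : 0 < 3))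
    rw [Finset.mem_filter] at ha hb
    obtain ⟨g, hg, hgx⟩ := exists_frame_map (isFrame_out ho he hin hout ha.1 ha.2)
      (isFrame_out ho' he' hin' hout' hb.1 hb.2)
    refine ⟨g, hg, fun i => ?_⟩
    fin_cases i
    exacts [hgx 0, hgx 1, hgx 2, hgx 3, hgx 4, hgx 6]

theorem natCard_fix_in {E o : Finset GolayPt} (hE : E.card = 6) (ho : o ∈ octads) (hsub : E ⊆ o) :
    Nat.card {g : Equiv.Perm GolayPt // g ∈ M24 ∧ ∀ p ∈ E, g p = p} = 16 := by
  obtain ⟨p, hp⟩ : ∃ p, p ∉ o := by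
    by_contra! h
    have := Finset.eq_univ_iff_forall.mpr h
    have h8 := ho.2
    rw [this, Finset.card_univ] at h8
    exact absurd h8 (by decide)
  let e : Fin 6 → GolayPt := fun i => (Finset.equivFinOfCardEq hE).symm i
  have he : Function.Injective e :=
    Subtype.val_injective.comp (Finset.equivFinOfCardEq hE).symm.injective
  have heE : ∀ i, e i ∈ E := fun i => ((Finset.equivFinOfCardEq hE).symm i).2
  have hstab : ∀ g : {g : Equiv.Perm GolayPt // g ∈ M24 ∧ ∀ p ∈ E, g p = p},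
      (g : Equiv.Perm GolayPt) p ∈ oᶜ := fun g => by
    have h := smul_octad_eq ho he (fun i _ => hsub (heE i)) g.2.1 fun i => g.2.2 _ (heE i)
    rw [Finset.mem_compl]
    intro hm
    rw [← h] at hm
    exact hp ((Finset.smul_mem_smul_finset_iff (g : Equiv.Perm GolayPt)).mp hm)
  refine le_antisymm ?_ ?_
  · refine le_trans (Nat.card_le_card_of_injective
      (fun g => (⟨_, hstab g⟩ : {x // x ∈ oᶜ})) fun g g' hgg => ?_) ?_
    · refine Subtype.ext (eq_of_frame g.2.1 g'.2.1 (isFrame_in ho he (fun i => hsub (heE i)) hp)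
        fun i => ?_)
      have hgg' := congrArg Subtype.val hgg
      fin_cases i <;> simp_all [g.2.2 _ (heE _), g'.2.2 _ (heE _)]
    · rw [Nat.card_eq_fintype_card, Fintype.card_coe, Finset.card_compl,
        show o.card = 8 from ho.2]
      rfl
  · rw [← natCard_octadFix ho]
    exact Nat.card_le_card_of_injective
      (fun g => ⟨g.1, (mem_octadFix.mp g.2).1, fun q hq => (mem_octadFix.mp g.2).2 q (hsub hq)⟩)
      fun g g' h => Subtype.ext (congrArg (fun x => x.1) h)

theorem natCard_fix_out {E : Finset GolayPt} (hE : E.card = 6) (h : ¬ ∃ o ∈ octads, E ⊆ o) :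
    Nat.card {g : Equiv.Perm GolayPt // g ∈ M24 ∧ ∀ p ∈ E, g p = p} = 3 := by
  let f : Fin 6 ≃ ↥E := (Finset.equivFinOfCardEq hE).symm
  let e : Fin 6 → GolayPt := fun i => f i
  have he : Function.Injective e := Subtype.val_injective.comp f.injective
  obtain ⟨o, ho, hin, hout, h3⟩ := exists_octad_five h he
    fun p hp => ⟨f.symm ⟨p, hp⟩, by simp [e]⟩
  obtain ⟨a, ha⟩ := Finset.card_pos.mp (show 0 < _ from h3 ▸ (by norm_num : 0 < 3))
  have ha' := Finset.mem_filter.mp ha
  have hmaps : ∀ g : {g : Equiv.Perm GolayPt // g ∈ M24 ∧ ∀ p ∈ E, g p = p},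
      (g : Equiv.Perm GolayPt) a ∈ {b ∈ o | ∀ i, e i ≠ b} := fun g => by
    have hfix : ∀ i, (g : Equiv.Perm GolayPt) (e i) = e i := fun i => g.2.2 _ (f i).2
    refine Finset.mem_filter.mpr ⟨?_, fun i hi => ha'.2 i ?_⟩
    · rw [← smul_octad_eq ho he hin g.2.1 hfix]
      exact Finset.smul_mem_smul_finset ha'.1
    · rw [← hfix i] at hi
      exact (g : Equiv.Perm GolayPt).injective hi
  have hbij : Function.Bijective
      fun g => (⟨_, hmaps g⟩ : {x // x ∈ {b ∈ o | ∀ i, e i ≠ b}}) := by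
    refine ⟨fun g g' hgg => Subtype.ext (eq_of_frame g.2.1 g'.2.1
      (isFrame_out ho he hin hout ha'.1 ha'.2) fun i => ?_), fun b => ?_⟩
    · have hgg' := congrArg Subtype.val hgg
      fin_cases i <;> simp_all [e, g.2.2 _ (f _).2, g'.2.2 _ (f _).2]
    · have hb := Finset.mem_filter.mp b.2
      obtain ⟨g, hg, hgx⟩ := exists_frame_map (isFrame_out ho he hin hout ha'.1 ha'.2)
        (isFrame_out ho he hin hout hb.1 hb.2)
      refine ⟨⟨g, hg, fun p hp => ?_⟩, Subtype.ext (hgx 5)⟩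
      have hall : ∀ i, g (e i) = e i := fun i => by
        fin_cases i
        exacts [hgx 0, hgx 1, hgx 2, hgx 3, hgx 4, hgx 6]
      simpa [e] using hall (f.symm ⟨p, hp⟩)
  rw [Nat.card_eq_of_bijective _ hbij, Nat.card_eq_fintype_card, Fintype.card_coe, h3]

theorem natCard_setwise {E : Finset GolayPt} (hE : E.card = 6) :
    Nat.card ↥(MulAction.stabilizer M24 E) =
      720 * Nat.card {g : Equiv.Perm GolayPt // g ∈ M24 ∧ ∀ p ∈ E, g p = p} := by
  have hmap : ∀ (g : ↥(MulAction.stabilizer M24 E)) (p : GolayPt),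
      ((g : M24) : Equiv.Perm GolayPt) p ∈ E ↔ p ∈ E := fun g p => by
    have hgE : ((g : M24) : Equiv.Perm GolayPt) • E = E := g.2
    refine Iff.trans ?_ (Finset.smul_mem_smul_finset_iff (b := p) (s := E)
      ((g : M24) : Equiv.Perm GolayPt))
    exact Iff.of_eq (congrArg (fun s => ((g : M24) : Equiv.Perm GolayPt) p ∈ s) hgE.symm)
  let φ : ↥(MulAction.stabilizer M24 E) →* Equiv.Perm ↥E :=
    { toFun := fun g => ((g : M24) : Equiv.Perm GolayPt).subtypePerm (hmap g)
      map_one' := Equiv.ext fun _ => rfl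
      map_mul' := fun _ _ => Equiv.ext fun _ => rfl }
  have hfixE : ∀ g : Equiv.Perm GolayPt, (∀ p ∈ E, g p = p) → g • E = E := fun g hg => by
    rw [smul_eq_image, Finset.image_congr (f := g) (g := id) fun p hp => hg p hp, Finset.image_id]
  have hsurj : Function.Surjective φ := fun σ => by
    obtain ⟨g, hg, hge⟩ := extend6 hE σ
    have hgE : g • E = E := by
      refine Finset.eq_of_subset_of_card_le (fun q hq => ?_) (by rw [Finset.card_smul_finset])
      obtain ⟨p, hp, rfl⟩ := Finset.mem_smul_finset.mp hq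
      rw [Equiv.Perm.smul_def, show g p = σ ⟨p, hp⟩ from hge ⟨p, hp⟩]
      exact (σ ⟨p, hp⟩).2
    exact ⟨⟨⟨g, hg⟩, hgE⟩, Equiv.ext fun p => Subtype.ext (hge p)⟩
  have h := φ.ker.index_mul_card
  rw [Subgroup.index_ker, MonoidHom.range_eq_top.mpr hsurj, Subgroup.card_top,
    Nat.card_eq_fintype_card, Fintype.card_perm, Fintype.card_coe, hE] at h
  rw [← h]
  have e : ↥φ.ker ≃ {g : Equiv.Perm GolayPt // g ∈ M24 ∧ ∀ p ∈ E, g p = p} :=
    { toFun := fun g => ⟨((g.1 : ↥(MulAction.stabilizer M24 E)) : ↥M24), (g.1.1).2, fun p hp =>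
        congrArg Subtype.val (Equiv.ext_iff.mp g.2 ⟨p, hp⟩)⟩
      invFun := fun g => ⟨⟨⟨g.1, g.2.1⟩, hfixE g.1 g.2.2⟩,
        Equiv.ext fun p => Subtype.ext (g.2.2 p p.2)⟩ }
  rw [Nat.card_congr e]
  rfl

/-- Although the group of the length-24 code is only 5-transitive on the 24 points, it induces the full symmetric group on every 6-element subset: every permutation of a 6-set E is the restriction of an element of the group mapping E to itself. The pointwise stabiliser of E has order 16 when E lies in an octad and order 3 otherwise; in the latter case the setwise stabiliser of E has order 2160. -/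
theorem result (E : Finset Cfsg.GolayPt) (hE : E.card = 6) : (∀ σ : Equiv.Perm ↥E, ∃ g ∈ Cfsg.M24, ∀ p : ↥E, g p = σ p) ∧ ((∃ o ∈ Cfsg.octads, E ⊆ o) → Nat.card {g : Equiv.Perm Cfsg.GolayPt // g ∈ Cfsg.M24 ∧ ∀ p ∈ E, g p = p} = 16) ∧ ((¬ ∃ o ∈ Cfsg.octads, E ⊆ o) → Nat.card {g : Equiv.Perm Cfsg.GolayPt // g ∈ Cfsg.M24 ∧ ∀ p ∈ E, g p = p} = 3 ∧ Nat.card ↥(MulAction.stabilizer Cfsg.M24 E) = 2160) := by
  refine ⟨extend6 hE, fun ⟨o, ho, hsub⟩ => natCard_fix_in hE ho hsub, fun h => ⟨natCard_fix_out hE h, ?_⟩⟩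
  rw [natCard_setwise hE, natCard_fix_out hE h]

end Cfsg.Agent.S5600
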