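import Cfsg.Statements.S5601
import Cfsg.Agent.EqLemmas
import Cfsg.Agent.Lib.GolayClasses.Three

set_option autoImplicit false
open scoped Pointwise
open Cfsg

namespace Cfsg.Agent.S5601

open Cfsg.Agent Cfsg.Agent.GolayClasses

theorem exists_gen (X : Subgroup ↥M24) (hX : Nat.card X = 3) :
    ∃ x : ↥M24, orderOf (x : Equiv.Perm GolayPt) = 3 ∧ X = Subgroup.zpowers x ∧
      {p : GolayPt | ∀ y ∈ X, ((y : ↥M24) : Equiv.Perm GolayPt) p = p}.ncard =
        (Finset.univ.filter fun p => (x : Equiv.Perm GolayPt) p = p).card := by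
  have : Fact (Nat.Prime 3) := ⟨Nat.prime_three⟩
  obtain ⟨x, hx⟩ := exists_prime_orderOf_dvd_card' (G := X) 3 (by rw [hX])
  rw [← Subgroup.orderOf_coe] at hx
  have hXx : Subgroup.zpowers (x : ↥M24) = X :=
    Subgroup.eq_of_le_of_card_ge (Subgroup.zpowers_le.mpr x.2) (by rw [Nat.card_zpowers, hx, hX])
  refine ⟨x, by rw [Subgroup.orderOf_coe, hx], hXx.symm, ?_⟩
  rw [← Set.ncard_coe_finset]
  congr 1
  ext p
  refine Iff.trans ?_ Finset.mem_coe.symm
  refine Iff.trans ?_ (Finset.mem_filter (s := Finset.univ)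
    (p := fun q => ((x : ↥M24) : Equiv.Perm GolayPt) q = q) (a := p)).symm
  refine ⟨fun h => ⟨Finset.mem_univ p, h _ x.2⟩, fun h => ?_⟩
  intro y hy
  rw [← hXx, Subgroup.mem_zpowers_iff] at hy
  obtain ⟨n, rfl⟩ := hy
  rw [Subgroup.coe_zpow]
  exact Function.IsFixedPt.perm_zpow h.2 n

theorem exists_conj_gen {X Y : Subgroup ↥M24} {x y k : ↥M24} (hX : X = Subgroup.zpowers x)
    (hY : Y = Subgroup.zpowers y) (h : k * x * k⁻¹ = y) : MulAut.conj k • X = Y := by
  subst hX hY h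
  rw [Subgroup.pointwise_smul_def]
  exact MonoidHom.map_zpowers _ x

theorem rep_ne_one {r : Equiv.Perm GolayPt} (hr : (Finset.univ.filter fun p => r p = p).card ≠ 24) :
    r ≠ 1 := by
  rintro rfl
  refine hr ?_
  rw [Finset.filter_true_of_mem fun p _ => Equiv.Perm.one_apply p, Finset.card_univ]
  decide +kernel

theorem witness {r : Equiv.Perm GolayPt} (hr : r ∈ M24) (h3 : ∀ p, r (r (r p)) = p) {n : ℕ}
    (hn : (Finset.univ.filter fun p => r p = p).card = n) (hne : n ≠ 24) :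
    ∃ X : Subgroup ↥M24, Nat.card X = 3 ∧
      {p : GolayPt | ∀ y ∈ X, ((y : ↥M24) : Equiv.Perm GolayPt) p = p}.ncard = n := by
  have : Fact (Nat.Prime 3) := ⟨Nat.prime_three⟩
  have ho : orderOf r = 3 :=
    orderOf_eq_prime (Equiv.ext fun p => by simp [pow_succ, h3]) (rep_ne_one (hn ▸ hne))
  have hc : Nat.card (Subgroup.zpowers (⟨r, hr⟩ : ↥M24)) = 3 := by
    rw [Nat.card_zpowers, ← Subgroup.orderOf_coe, ho]
  refine ⟨_, hc, ?_⟩
  rw [← hn, ← Set.ncard_coe_finset]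
  congr 1
  ext p
  refine Iff.trans ?_ Finset.mem_coe.symm
  refine Iff.trans ?_ (Finset.mem_filter (s := Finset.univ) (p := fun q => r q = q) (a := p)).symm
  refine ⟨fun h => ⟨Finset.mem_univ p, h _ (Subgroup.mem_zpowers _)⟩, fun h => ?_⟩
  intro y hy
  rw [Subgroup.mem_zpowers_iff] at hy
  obtain ⟨n, rfl⟩ := hy
  rw [Subgroup.coe_zpow]
  exact Function.IsFixedPt.perm_zpow h.2 n

theorem card_repB : (Finset.univ.filter fun p => repB p = p).card = 0 := by
  rw [Finset.card_eq_zero, Finset.filter_eq_empty_iff]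
  exact fun {p} _ => fixed_repB p

/-- The group of the length-24 code has exactly two conjugacy classes of subgroups of order 3: a subgroup of order 3 fixes either exactly 6 of the 24 points or none of them, both cases occur, and two subgroups of order 3 with the same number of fixed points are conjugate. -/
theorem result : (∀ X : Subgroup ↥Cfsg.M24, Nat.card X = 3 → {p : Cfsg.GolayPt | ∀ x ∈ X, ((x : ↥Cfsg.M24) : Equiv.Perm Cfsg.GolayPt) p = p}.ncard = 6 ∨ {p : Cfsg.GolayPt | ∀ x ∈ X, ((x : ↥Cfsg.M24) : Equiv.Perm Cfsg.GolayPt) p = p}.ncard = 0) ∧ (∃ X : Subgroup ↥Cfsg.M24, Nat.card X = 3 ∧ {p : Cfsg.GolayPt | ∀ x ∈ X, ((x : ↥Cfsg.M24) : Equiv.Perm Cfsg.GolayPt) p = p}.ncard = 6) ∧ (∃ X : Subgroup ↥Cfsg.M24, Nat.card X = 3 ∧ {p : Cfsg.GolayPt | ∀ x ∈ X, ((x : ↥Cfsg.M24) : Equiv.Perm Cfsg.GolayPt) p = p}.ncard = 0) ∧ ∀ X Y : Subgroup ↥Cfsg.M24, Nat.card X = 3 → Nat.card Y = 3 → {p : Cfsg.GolayPt | ∀ x ∈ X, ((x : ↥Cfsg.M24)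 : Equiv.Perm Cfsg.GolayPt) p = p}.ncard = {p : Cfsg.GolayPt | ∀ x ∈ Y, ((x : ↥Cfsg.M24) : Equiv.Perm Cfsg.GolayPt) p = p}.ncard → ∃ k : ↥Cfsg.M24, MulAut.conj k • X = Y := by
  refine ⟨fun X hX => ?_, witness repA_mem rep_orders.1 fixed_repA (by norm_num),
    witness repB_mem rep_orders.2 card_repB (by norm_num), fun X Y hX hY he => ?_⟩
  · obtain ⟨x, hx3, -, hn⟩ := exists_gen X hX
    rw [hn]
    obtain ⟨k, -, h | h⟩ := three_cases x.2 hx3 <;> rw [← h, card_fixed_conj]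
    · exact Or.inl fixed_repA
    · exact Or.inr card_repB
  · obtain ⟨x, hx3, hXx, hnx⟩ := exists_gen X hX
    obtain ⟨y, hy3, hYy, hny⟩ := exists_gen Y hY
    rw [hnx, hny] at he
    obtain ⟨k, hk, hkx⟩ := three_cases x.2 hx3
    obtain ⟨l, hl, hly⟩ := three_cases y.2 hy3
    refine ⟨⟨l * k⁻¹, mul_mem hl (inv_mem hk)⟩, exists_conj_gen hXx hYy (Subtype.ext ?_)⟩
    show (l * k⁻¹) * (x : Equiv.Perm GolayPt) * (l * k⁻¹)⁻¹ = (y : Equiv.Perm GolayPt)
    rcases hkx with hkx | hkx <;> rcases hly with hly | hly <;>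
      first
        | (rw [← hkx, ← hly]; group; done)
        | (exfalso
           rw [← hkx, ← hly, card_fixed_conj, card_fixed_conj, fixed_repA, card_repB] at he
           omega)

end Cfsg.Agent.S5601
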