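import Cfsg.Statements.S5604
import Cfsg.Agent.EqLemmas
import Cfsg.Agent.Lib.GolayClasses.Seven

set_option autoImplicit false
set_option maxRecDepth 100000
open scoped Pointwise
open Cfsg

namespace Cfsg.Agent.S5604

open Cfsg.Agent Cfsg.Agent.Golay Cfsg.Agent.GolayClasses Cfsg.Agent.GolayOrbitLists

/-- The element of order seven in `M24`. -/
noncomputable def z : ↥M24 := ⟨sevenZ, sevenZ_mem⟩

theorem orderOf_z : orderOf z = 7 := by rw [← Subgroup.orderOf_coe]; exact orderOf_sevenZ

theorem mem_centralizer_iff (n : ↥M24) :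
    n ∈ Subgroup.centralizer (Subgroup.zpowers z : Set ↥M24) ↔
      Twists 1 (n : Equiv.Perm GolayPt) := by
  constructor
  · intro h
    refine ⟨n.2, ?_⟩
    rw [pow_one]
    exact (congrArg Subtype.val (h z (Subgroup.mem_zpowers z))).symm
  · intro h y hy
    have hz : Commute z n := by
      refine Subtype.ext ?_
      have e := h.2
      rw [pow_one] at e
      exact e.symm
    rw [SetLike.mem_coe, Subgroup.mem_zpowers_iff] at hy
    obtain ⟨k, rfl⟩ := hy
    exact (hz.zpow_left k).eq

theorem mem_normalizer_iff_inNorm (n : ↥M24) :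
    n ∈ Subgroup.normalizer (Subgroup.zpowers z : Set ↥M24) ↔
      InNorm (n : Equiv.Perm GolayPt) := by
  constructor
  · intro h
    have hm : n * z * n⁻¹ ∈ Subgroup.zpowers z :=
      (Subgroup.mem_normalizer_iff.mp h z).mp (Subgroup.mem_zpowers z)
    rw [← mem_powers_iff_mem_zpowers, Submonoid.mem_powers_iff] at hm
    obtain ⟨k, hk⟩ := hm
    rw [← pow_mod_orderOf, orderOf_z] at hk
    refine ⟨k % 7, Nat.one_le_iff_ne_zero.mpr fun e => ?_, Nat.mod_lt _ (by norm_num), n.2, ?_⟩
    · rw [e, pow_zero, eq_comm, conj_eq_one_iff] at hk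
      have h7 := orderOf_z
      rw [hk, orderOf_one] at h7
      norm_num at h7
    · have e : n * z = z ^ (k % 7) * n := eq_mul_inv_iff_mul_eq.mp hk |>.symm
      exact congrArg Subtype.val e
  · rintro ⟨j, h1, h7, -, hj⟩
    have e : n * z * n⁻¹ = z ^ j := by
      rw [mul_inv_eq_iff_eq_mul]
      exact Subtype.ext hj
    have hmap : (Subgroup.zpowers z).map (MulAut.conj n).toMonoidHom = Subgroup.zpowers z := by
      refine Subgroup.eq_of_le_of_card_ge ?_ ?_
      · rw [MonoidHom.map_zpowers, Subgroup.zpowers_le]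
        show n * z * n⁻¹ ∈ _
        rw [e]
        exact pow_mem (Subgroup.mem_zpowers z) j
      · rw [Subgroup.card_map_of_injective (MulAut.conj n).injective]
    rw [Subgroup.mem_normalizer_iff]
    intro h
    conv_rhs => rw [← hmap]
    exact (Subgroup.mem_map_iff_mem (MulAut.conj n).injective).symm

theorem cent_witness : (sevenCent.any fun a => sevenCent.any fun b => (List.range 24).any fun i =>
    fn a (fn b i) != fn b (fn a i)) = true := by
  decide +kernel

theorem exists_conj (S : Subgroup ↥M24) (hS : Nat.card S = 7) :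
    ∃ v : ↥M24, MulAut.conj v • Subgroup.zpowers z = S := by
  have : Fact (Nat.Prime 7) := ⟨by norm_num⟩
  have hf : (Nat.card ↥M24).factorization 7 = 1 := by
    rw [natCard_M24]
    have h : (244823040 : ℕ) = 7 * 34974720 := by norm_num
    rw [h, Nat.factorization_mul (by norm_num) (by norm_num), Finsupp.add_apply,
      Nat.Prime.factorization_self (by norm_num),
      Nat.factorization_eq_zero_of_not_dvd (by norm_num)]
  let P₀ : Sylow 7 ↥M24 := Sylow.ofCard (Subgroup.zpowers z)
    (by rw [Nat.card_zpowers, orderOf_z, hf, pow_one])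
  let P : Sylow 7 ↥M24 := Sylow.ofCard S (by rw [hS, hf, pow_one])
  obtain ⟨v, hv⟩ := MulAction.exists_smul_eq ↥M24 P₀ P
  exact ⟨v, congrArg (fun Q : Sylow 7 ↥M24 => (Q : Subgroup ↥M24)) hv⟩

/-- For a subgroup S of order 7 of the group of the length-24 code (a Sylow 7-subgroup): the normaliser of S has order 126, the centraliser of S has order 42 and is non-abelian, and the whole normaliser leaves some trio invariant. (These are the orders of a Frobenius group of order 21 times a symmetric group of degree 3; the isomorphism type itself is not asserted here.) -/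
theorem result (S : Subgroup ↥Cfsg.M24) (hS : Nat.card S = 7) : Nat.card ↥(Subgroup.normalizer (S : Set ↥Cfsg.M24)) = 126 ∧ Nat.card ↥(Subgroup.centralizer (S : Set ↥Cfsg.M24)) = 42 ∧ (∃ x ∈ Subgroup.centralizer (S : Set ↥Cfsg.M24), ∃ y ∈ Subgroup.centralizer (S : Set ↥Cfsg.M24), x * y ≠ y * x) ∧ ∃ T ∈ Cfsg.trios, ∀ n ∈ Subgroup.normalizer (S : Set ↥Cfsg.M24), ((n : ↥Cfsg.M24) : Equiv.Perm Cfsg.GolayPt) • T = T := by
  obtain ⟨v, rfl⟩ := exists_conj S hS
  have hN : ∀ n : ↥M24, n ∈ Subgroup.normalizer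
      ((MulAut.conj v • Subgroup.zpowers z : Subgroup ↥M24) : Set ↥M24) ↔
        InNorm ((v⁻¹ * n * v : ↥M24) : Equiv.Perm GolayPt) := fun n => by
    rw [← mem_normalizer_iff_inNorm, Subgroup.mem_normalizer_iff, Subgroup.mem_normalizer_iff]
    simp only [Subgroup.mem_pointwise_smul_iff_inv_smul_mem, MulAut.smul_def, MulAut.conj_inv_apply]
    constructor
    · intro h w
      simpa [mul_assoc] using h (v * w * v⁻¹)
    · intro h w
      simpa [mul_assoc] using h (v⁻¹ * w * v)
  have hC : ∀ n : ↥M24, n ∈ Subgroup.centralizer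
      ((MulAut.conj v • Subgroup.zpowers z : Subgroup ↥M24) : Set ↥M24) ↔
        Twists 1 ((v⁻¹ * n * v : ↥M24) : Equiv.Perm GolayPt) := fun n => by
    rw [← mem_centralizer_iff, Subgroup.mem_centralizer_iff, Subgroup.mem_centralizer_iff]
    simp only [SetLike.mem_coe, Subgroup.mem_pointwise_smul_iff_inv_smul_mem, MulAut.smul_def,
      MulAut.conj_inv_apply]
    constructor
    · intro h w hw
      have e := h (v * w * v⁻¹) (by simpa [mul_assoc] using hw)
      calc w * (v⁻¹ * n * v) = v⁻¹ * (v * w * v⁻¹ * n) * v := by group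
        _ = v⁻¹ * (n * (v * w * v⁻¹)) * v := by rw [e]
        _ = v⁻¹ * n * v * w := by group
    · intro h w hw
      have e := h _ hw
      calc w * n = v * (v⁻¹ * w * v * (v⁻¹ * n * v)) * v⁻¹ := by group
        _ = v * (v⁻¹ * n * v * (v⁻¹ * w * v)) * v⁻¹ := by rw [e]
        _ = n * w := by group
  have hequiv : ∀ (P : Equiv.Perm GolayPt → Prop) (H : Subgroup ↥M24),
      (∀ g, P g → g ∈ M24) →
      (∀ n : ↥M24, n ∈ H ↔ P ((v⁻¹ * n * v : ↥M24) : Equiv.Perm GolayPt)) →
      Nat.card H = Nat.card {g // P g} := fun P H hP hH => by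
    refine Nat.card_congr
      { toFun := fun n => ⟨_, (hH n).mp n.2⟩
        invFun := fun g => ⟨v * ⟨g.1, hP _ g.2⟩ * v⁻¹, (hH _).mpr (by
          simpa [mul_assoc] using g.2)⟩
        left_inv := fun n => Subtype.ext (Subtype.ext (by simp [mul_assoc]))
        right_inv := fun g => Subtype.ext (by simp [mul_assoc]) }
  obtain ⟨hfix, htrio, -, -⟩ := seven_trio
  refine ⟨?_, ?_, ?_, ?_⟩
  · rw [hequiv InNorm _ (fun g ⟨_, _, _, h⟩ => h.1) hN, natCard_seven_norm]
  · rw [hequiv (Twists 1) _ (fun g h => h.1) hC, natCard_seven_cent]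
  · have h := sevenCheck_eq
    simp only [sevenCheck, Bool.and_eq_true] at h
    have hcent := h.1.1.1.1.1.2
    obtain ⟨a, ha, hb⟩ := List.any_eq_true.mp cent_witness
    obtain ⟨b, hb, hi⟩ := List.any_eq_true.mp hb
    obtain ⟨i, hi, hne⟩ := List.any_eq_true.mp hi
    have hA := Bool.and_eq_true_iff.mp
      (Bool.and_eq_true_iff.mp (List.all_eq_true.mp hcent a ha)).1
    have hB := Bool.and_eq_true_iff.mp
      (Bool.and_eq_true_iff.mp (List.all_eq_true.mp hcent b hb)).1
    refine ⟨v * ⟨_, toPerm_mem_M24 hA.1⟩ * v⁻¹, (hC _).mpr ?_,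
      v * ⟨_, toPerm_mem_M24 hB.1⟩ * v⁻¹, (hC _).mpr ?_, fun e => ?_⟩
    · simpa [mul_assoc] using twists_sound hA.1 hA.2
    · simpa [mul_assoc] using twists_sound hB.1 hB.2
    · have e' : toPerm a * toPerm b = toPerm b * toPerm a := by
        have e1 := congrArg (fun g : ↥M24 => ((v⁻¹ * g * v : ↥M24) : Equiv.Perm GolayPt)) e
        simpa [mul_assoc] using e1
      have e2 := congrArg idx (Equiv.Perm.ext_iff.mp e' (pt i))
      rw [Equiv.Perm.mul_apply, Equiv.Perm.mul_apply, idx_toPerm (validPerm_of_isAut hA.1),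
        idx_toPerm (validPerm_of_isAut hB.1), idx_toPerm (validPerm_of_isAut hB.1),
        idx_toPerm (validPerm_of_isAut hA.1), idx_pt (List.mem_range.mp hi)] at e2
      simp [e2] at hne
  · refine ⟨v • obj sevenTrio, smul_mem_trios' v _ (obj_mem_trios htrio), fun n hn => ?_⟩
    obtain ⟨d, hd, hde⟩ := exists_norm ((hN n).mp hn)
    obtain ⟨_ha, hm⟩ := mem_stab_of_fixesObj hfix d hd
    have e : (v⁻¹ * n * v) • obj sevenTrio = obj sevenTrio := by
      show ((v⁻¹ * n * v : ↥M24) : Equiv.Perm GolayPt) • obj sevenTrio = obj sevenTrio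
      rw [← hde]
      exact MulAction.mem_stabilizer_iff.mp hm
    show n • v • obj sevenTrio = v • obj sevenTrio
    rw [mul_smul, mul_smul, inv_smul_eq_iff] at e
    exact e

end Cfsg.Agent.S5604
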