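import Cfsg.Statements.S5605
import Cfsg.Agent.EqLemmas
import Cfsg.Agent.Lib.GolayInvol.Basic
import Cfsg.Agent.Lib.GolayClasses.Three
import Cfsg.Agent.Lib.GolayClasses.Fixed

set_option autoImplicit false
set_option maxRecDepth 100000
open scoped Pointwise
open Cfsg

namespace Cfsg.Agent.S5605

open Cfsg.Agent Cfsg.Agent.Golay Cfsg.Agent.GolayClasses

/-- An involution of the group of the length-24 code with exactly 8 fixed points maps to themselves exactly 71 octads, exactly 99 trios and exactly 91 sextets. -/
theorem result (g : Equiv.Perm Cfsg.GolayPt) (hg : g ∈ Cfsg.M24) (h₂ : orderOf g = 2) (h₈ : (Finset.univ.filter fun p => g p = p).card = 8) : {o : Finset Cfsg.GolayPt | o ∈ Cfsg.octads ∧ g • o = o}.ncard = 71 ∧ {T : Finset (Finset Cfsg.GolayPt) | T ∈ Cfsg.trios ∧ g • T = T}.ncard = 99 ∧ {S : Finset (Finset Cfsg.GolayPt) | S ∈ Cfsg.sextets ∧ g • S = S}.ncard = 91 := by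
  have hv : validPerm GolayInvol.invRepFix = true := by decide +kernel
  obtain ⟨k, hk, rfl | rfl⟩ := GolayInvol.involution_cases hg h₂
  · refine ⟨?_, ?_, ?_⟩
    refine (ncard_fixed_conj (fun X => smul_mem_iff (fun g hg X => smul_mem_octads hg) hk X) _).trans
      ((ncard_fixed_words hv 8).trans (by decide +kernel))
    refine (ncard_fixed_conj (fun X => smul_mem_iff (fun g hg X => smul_mem_trios hg) hk X) _).trans
      ((ncard_fixed_trios hv).trans (by decide +kernel))
    refine (ncard_fixed_conj (fun X => smul_mem_iff (fun g hg X => smul_mem_sextets hg) hk X) _).trans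
      ((ncard_fixed_sextets hv).trans (by decide +kernel))
  · rw [card_fixed_conj, Finset.filter_false_of_mem fun p _ => GolayInvol.repFree_ne p,
      Finset.card_empty] at h₈
    omega

end Cfsg.Agent.S5605
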