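import Cfsg.Statements.S5607
import Cfsg.Agent.EqLemmas
import Cfsg.Agent.Lib.GolayClasses.FreeConj

set_option autoImplicit false
open scoped Pointwise
open Cfsg

namespace Cfsg.Agent.S5607

open Cfsg.Agent Cfsg.Agent.Golay Cfsg.Agent.GolayClasses

/-- For a fixed-point-free involution t of the group of the length-24 code: its centraliser in that group has order 7680, is transitive on the 24 points, and is contained, together with t, in the stabiliser of some sextet. -/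
theorem result (t : Equiv.Perm Cfsg.GolayPt) (ht : t ∈ Cfsg.M24) (h₂ : orderOf t = 2) (h₀ : ∀ p, t p ≠ p) : Nat.card {c : Equiv.Perm Cfsg.GolayPt // c ∈ Cfsg.M24 ∧ c * t = t * c} = 7680 ∧ (∀ p q : Cfsg.GolayPt, ∃ c ∈ Cfsg.M24, c * t = t * c ∧ c p = q) ∧ ∃ S ∈ Cfsg.sextets, t • S = S ∧ ∀ c ∈ Cfsg.M24, c * t = t * c → c • S = S := by
  obtain ⟨u, hu, rfl⟩ := exists_conj_of_free ht h₂ h₀
  refine ⟨natCard_cent_free hu, fun p q => ?_, ?_⟩
  · obtain ⟨a, -, ha, hap⟩ := exists_move (u⁻¹ p)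
    obtain ⟨b, -, hb, hbq⟩ := exists_move (u⁻¹ q)
    have hc : u⁻¹ * (u * (Golay.toPerm b * (Golay.toPerm a)⁻¹) * u⁻¹) * u ∈ Cent := by
      simpa [mul_assoc] using mul_mem hb (inv_mem ha)
    obtain ⟨h1, h2⟩ := (mem_cent_conj hu).mpr hc
    refine ⟨_, h1, h2, ?_⟩
    rw [Equiv.Perm.mul_apply, Equiv.Perm.mul_apply, Equiv.Perm.mul_apply, ← hap,
      Equiv.Perm.coe_inv (Golay.toPerm a), Equiv.symm_apply_apply, hbq, Equiv.Perm.coe_inv,
      Equiv.apply_symm_apply]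
  · obtain ⟨hS, hsS, hC⟩ := free_sextet
    refine ⟨u • GolayOrbitLists.obj freeSextet, Golay.smul_mem_sextets hu hS, ?_, fun c hc hcc => ?_⟩
    · rw [mul_smul, mul_smul, inv_smul_smul, hsS]
    · have h := hC _ ((mem_cent_conj hu).mp ⟨hc, hcc⟩)
      rwa [mul_smul, mul_smul, inv_smul_eq_iff] at h

end Cfsg.Agent.S5607
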