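import Cfsg.Statements.S5608
import Cfsg.Agent.EqLemmas
import Cfsg.Agent.Lib.GolayClasses.FreeConj
import Cfsg.Agent.Lib.GolayClasses.Three
import Cfsg.Agent.Lib.Golay.M23Aut

set_option autoImplicit false
open scoped Pointwise
open Cfsg

namespace Cfsg.Agent.S5608

open Cfsg.Agent Cfsg.Agent.Golay Cfsg.Agent.GolayClasses

theorem fix_iff_of_commute {x s : Equiv.Perm GolayPt} (hc : Commute x s) (y : GolayPt) :
    s (x y) = x y ↔ s y = y := by
  have e : s (x y) = x (s y) := (Equiv.Perm.ext_iff.mp hc.eq y).symm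
  rw [e]
  exact x.injective.eq_iff

/-- If an element of order 3 and an involution of the group of the length-24 code commute, then either the element of order 3 has exactly 6 fixed points and the involution exactly 8, or both are fixed-point-free. -/
theorem result (x s : Equiv.Perm Cfsg.GolayPt) (hx : x ∈ Cfsg.M24) (hs : s ∈ Cfsg.M24) (h₃ : orderOf x = 3) (h₂ : orderOf s = 2) (hc : Commute x s) : ((Finset.univ.filter fun p => x p = p).card = 6 ∧ (Finset.univ.filter fun p => s p = p).card = 8) ∨ ((Finset.univ.filter fun p => x p = p).card = 0 ∧ (Finset.univ.filter fun p => s p = p).card = 0) := by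
  classical
  have : Fact (Nat.Prime 3) := ⟨Nat.prime_three⟩
  obtain ⟨k, hk, hkx⟩ := three_cases hx h₃
  obtain ⟨l, hl, hls⟩ := GolayInvol.involution_cases hs h₂
  have hfree : (Finset.univ.filter fun p => GolayInvol.repFree p = p).card = 0 := by
    rw [Finset.card_eq_zero, Finset.filter_eq_empty_iff]
    exact fun {p} _ => GolayInvol.repFree_ne p
  have hB : (Finset.univ.filter fun p => repB p = p).card = 0 := by
    rw [Finset.card_eq_zero, Finset.filter_eq_empty_iff]
    exact fun {p} _ => fixed_repB p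
  have h8 : (Finset.univ.filter fun p => GolayInvol.repFix p = p).card = 8 :=
    GolayInvol.fixSet_repFix.2
  rcases hkx with hkx | hkx <;> rcases hls with hls | hls
  · exact Or.inl ⟨by rw [← hkx, card_fixed_conj]; exact fixed_repA,
      by rw [← hls, card_fixed_conj]; exact h8⟩
  · exfalso
    obtain ⟨p, hp⟩ : ∃ p, x p = p := by
      obtain ⟨q, hq⟩ := Finset.card_pos.mp (fixed_repA.symm ▸ (by norm_num : 0 < 6))
      refine ⟨k q, ?_⟩
      rw [← hkx]
      simp [(Finset.mem_filter.mp hq).2]
    have h0 : ∀ q, s q ≠ q := fun q hq => by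
      rw [← hls] at hq
      simp only [Equiv.Perm.mul_apply] at hq
      exact GolayInvol.repFree_ne _ (Equiv.Perm.eq_inv_iff_eq.mpr hq)
    obtain ⟨u, hu, rfl⟩ := exists_conj_of_free hs h₂ h0
    have hx' := (mem_cent_conj hu).mp ⟨hx, hc.eq⟩
    obtain ⟨d, -, hd, hdp⟩ := exists_move (u⁻¹ p)
    set y := (Golay.toPerm d)⁻¹ * (u⁻¹ * x * u) * Golay.toPerm d with hy
    have hyC : y ∈ Cent := mul_mem (mul_mem (inv_mem hd) hx') hd
    have hy0 : y (Golay.bpt 0) = Golay.bpt 0 := by
      rw [hy, Equiv.Perm.mul_apply, hdp, Equiv.Perm.mul_apply, Equiv.Perm.mul_apply,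
        Equiv.Perm.mul_apply, Equiv.Perm.coe_inv u, Equiv.apply_symm_apply, hp,
        Equiv.Perm.inv_eq_iff_eq, hdp]
      rfl
    have hyo : orderOf y = 3 := by
      rw [hy, ← h₃, show (Golay.toPerm d)⁻¹ * (u⁻¹ * x * u) * Golay.toPerm d =
        (u * Golay.toPerm d)⁻¹ * x * ((u * Golay.toPerm d)⁻¹)⁻¹ by group]
      exact MulEquiv.orderOf_eq (MulAut.conj ((u * Golay.toPerm d)⁻¹)) x
    have hdvd := orderOf_dvd_natCard
      (G := ↥(Cent ⊓ MulAction.stabilizer (Equiv.Perm GolayPt) (Golay.bpt 0))) ⟨y, hyC, hy0⟩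
    rw [← Subgroup.orderOf_coe, hyo, Nat.card_congr (Equiv.subtypeEquivRight fun g => Iff.rfl :
      ↥(Cent ⊓ MulAction.stabilizer (Equiv.Perm GolayPt) (Golay.bpt 0)) ≃
        {g // g ∈ Cent ∧ g (Golay.bpt 0) = Golay.bpt 0}), natCard_cent_stab.1] at hdvd
    exact absurd hdvd (by decide)
  · exfalso
    have hinv := Golay.card_mod_of_invariant (p := 3) (by rw [← h₃]; exact pow_orderOf_eq_one x)
      (O := Finset.univ.filter fun q => s q = q) fun y => by
        simp only [Finset.mem_filter, Finset.mem_univ, true_and]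
        exact fix_iff_of_commute hc y
    have hx0 : ∀ y, x y ≠ y := fun y hy => by
      rw [← hkx] at hy
      simp only [Equiv.Perm.mul_apply] at hy
      exact fixed_repB _ (Equiv.Perm.eq_inv_iff_eq.mpr hy)
    rw [Finset.filter_false_of_mem fun y _ => hx0 y, Finset.card_empty, ← hls, card_fixed_conj,
      h8] at hinv
    exact absurd hinv (by decide)
  · exact Or.inr ⟨by rw [← hkx, card_fixed_conj]; exact hB,
      by rw [← hls, card_fixed_conj]; exact hfree⟩

end Cfsg.Agent.S5608
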