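import Cfsg.Statements.S5609
import Cfsg.Agent.EqLemmas
import Cfsg.Agent.Lib.Golay.OctadOrbits

set_option autoImplicit false
open scoped Pointwise
open Cfsg

namespace Cfsg.Agent.S5609

open Cfsg.Agent Cfsg.Agent.Golay

/-- A pair of octads is a translate of the standard pair with the same meet. -/
theorem exists_standard {c : ℕ} (hc : (isCode c && popcount c == 8) = true) {o o' : Finset GolayPt}
    (ho : o ∈ octads) (ho' : o' ∈ octads) (h : (o ∩ o').card = popcount (octad0 &&& c)) :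
    ∃ g ∈ M24, g • pts octad0 = o ∧ g • pts c = o' := by
  obtain ⟨t, ht, rfl⟩ := exists_map_octad octad0_mem ho
  obtain ⟨u, hu, huo⟩ := exists_map_octad_pair (octad0_mem) (pts_mem_octads hc)
    (smul_mem_octads (inv_mem ht) ho') (by
      rw [← pts_and, card_pts, ← h, ← Finset.card_smul_finset t (pts octad0 ∩ _),
        Finset.smul_finset_inter, smul_inv_smul])
  refine ⟨t * u, mul_mem ht hu.1, ?_, ?_⟩
  · rw [mul_smul, show u • pts octad0 = pts octad0 from hu.2]
  · rw [mul_smul, huo, smul_inv_smul]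

theorem disjoint_smul {g : Equiv.Perm GolayPt} {a b : ℕ} (h : a &&& b = 0) :
    Disjoint (g • pts a) (g • pts b) := by
  rw [Finset.disjoint_iff_inter_eq_empty, ← Finset.smul_finset_inter, ← pts_and, h, pts_zero,
    Finset.smul_finset_empty]

theorem adj {a b : Finset GolayPt} (ha : a ∈ octads) (hb : b ∈ octads) (h : Disjoint a b) :
    (Cfsg.blockGraph octads).Adj ⟨a, ha⟩ ⟨b, hb⟩ := by
  refine (SimpleGraph.fromRel_adj _ _ _).mpr ⟨fun he => ?_, Or.inl h⟩
  have h8 : b.card = 8 := hb.2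
  rw [show a = b from congrArg Subtype.val he, disjoint_self] at h
  rw [h] at h8
  simp at h8

theorem disjoint_of_adj {a b : octads} (h : (Cfsg.blockGraph octads).Adj a b) :
    Disjoint (a : Finset GolayPt) b := by
  rcases ((SimpleGraph.fromRel_adj _ _ _).mp h).2 with h | h
  · exact h
  · exact h.symm

/-- No octad is disjoint from both of two standard octads meeting in two points. -/
theorem check2 : allSpan (fun c => !(popcount c == 8) ||
    !(c &&& octad0 == 0 && c &&& 0x49f002 == 0)) rows 0 = true := by decide +kernel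

theorem no_common {o o' z : Finset GolayPt} (ho : o ∈ octads) (ho' : o' ∈ octads)
    (hz : z ∈ octads) (h : (o ∩ o').card = 2) (h1 : Disjoint o z) (h2 : Disjoint z o') : False := by
  obtain ⟨g, hg, rfl, rfl⟩ := exists_standard (c := 0x49f002) (by decide +kernel) ho ho'
    (h.trans (by decide +kernel))
  have hw : g⁻¹ • z ∈ octads := smul_mem_octads (inv_mem hg) hz
  obtain ⟨x, -, hx⟩ := mem_supports_iff_exists.mp hw.1
  have hc := allSpan_rows check2 x
  have h8 : popcount (enc x) = 8 := by rw [← card_pts, hx]; exact hw.2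
  have hdis : ∀ m : ℕ, Disjoint z (g • pts m) → enc x &&& m = 0 := fun m hm => by
    refine pts_injOn (lt_of_le_of_lt Nat.and_le_left (enc_lt x)) (by norm_num) ?_
    rw [pts_and, hx, pts_zero, ← Finset.smul_finset_eq_empty (a := g), Finset.smul_finset_inter,
      smul_inv_smul]
    exact Finset.disjoint_iff_inter_eq_empty.mp hm
  rw [h8, hdis _ h1.symm, hdis _ h2] at hc
  exact absurd hc (by decide)

theorem dist_of_meet {o o' : Finset GolayPt} (ho : o ∈ octads) (ho' : o' ∈ octads) (hne : o ≠ o') :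
    (Cfsg.blockGraph octads).Reachable ⟨o, ho⟩ ⟨o', ho'⟩ ∧
      (((o ∩ o').card = 0 ∧ (Cfsg.blockGraph octads).dist ⟨o, ho⟩ ⟨o', ho'⟩ = 1) ∨
      ((o ∩ o').card = 4 ∧ (Cfsg.blockGraph octads).dist ⟨o, ho⟩ ⟨o', ho'⟩ = 2) ∨
      ((o ∩ o').card = 2 ∧ (Cfsg.blockGraph octads).dist ⟨o, ho⟩ ⟨o', ho'⟩ = 3)) := by
  have hne' : (⟨o, ho⟩ : octads) ≠ ⟨o', ho'⟩ := fun h => hne (congrArg Subtype.val h)
  have hnadj : (o ∩ o').card ≠ 0 → ¬ (Cfsg.blockGraph octads).Adj ⟨o, ho⟩ ⟨o', ho'⟩ :=
    fun h ha => h (by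
      rw [Finset.disjoint_iff_inter_eq_empty.mp (disjoint_of_adj ha), Finset.card_empty])
  rcases octad_inter_octad ho ho' with h | h | h | h
  · have ha := adj ho ho' (Finset.disjoint_iff_inter_eq_empty.mpr (Finset.card_eq_zero.mp h))
    exact ⟨ha.reachable, Or.inl ⟨h, SimpleGraph.dist_eq_one_iff_adj.mpr ha⟩⟩
  · obtain ⟨g, hg, hgo, hgo'⟩ := exists_standard (c := 0x49f002) (by decide +kernel) ho ho'
      (h.trans (by decide +kernel))
    have hA : g • pts 0x6920d0 ∈ octads := smul_mem_octads hg (pts_mem_octads (by decide +kernel))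
    have hB : g • pts 0x860721 ∈ octads := smul_mem_octads hg (pts_mem_octads (by decide +kernel))
    have d1 : Disjoint o (g • pts 0x6920d0) := hgo ▸ disjoint_smul (by decide +kernel)
    have d2 : Disjoint (g • pts 0x6920d0) (g • pts 0x860721) := disjoint_smul (by decide +kernel)
    have d3 : Disjoint (g • pts 0x860721) o' := hgo' ▸ disjoint_smul (by decide +kernel)
    let w := SimpleGraph.Walk.cons (adj ho hA d1)
      (SimpleGraph.Walk.cons (adj hA hB d2) (SimpleGraph.Walk.cons (adj hB ho' d3)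
        SimpleGraph.Walk.nil))
    refine ⟨w.reachable, Or.inr (Or.inr ⟨h, ?_⟩)⟩
    have hle : (Cfsg.blockGraph octads).dist ⟨o, ho⟩ ⟨o', ho'⟩ ≤ 3 := by
      simpa [w] using SimpleGraph.dist_le w
    have h1 : (Cfsg.blockGraph octads).dist ⟨o, ho⟩ ⟨o', ho'⟩ ≠ 1 :=
      fun e => hnadj (by omega) (SimpleGraph.dist_eq_one_iff_adj.mp e)
    have h0 := w.reachable.pos_dist_of_ne hne'
    by_contra h3
    obtain ⟨p, hp⟩ := w.reachable.exists_walk_length_eq_dist
    have hp2 : p.length = 2 := by omega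
    have a1 := p.adj_getVert_succ (i := 0) (by omega)
    have a2 := p.adj_getVert_succ (i := 1) (by omega)
    rw [SimpleGraph.Walk.getVert_zero] at a1
    have hl : p.getVert (1 + 1) = ⟨o', ho'⟩ := by
      rw [show (1 + 1 : ℕ) = p.length by omega, SimpleGraph.Walk.getVert_length]
    rw [hl] at a2
    exact no_common ho ho' (p.getVert 1).2 h (disjoint_of_adj a1) (disjoint_of_adj a2)
  · obtain ⟨g, hg, hgo, hgo'⟩ := exists_standard (c := 0xc75001) (by decide +kernel) ho ho'
      (h.trans (by decide +kernel))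
    have hE : g • pts 0x3886c0 ∈ octads := smul_mem_octads hg (pts_mem_octads (by decide +kernel))
    have d1 : Disjoint o (g • pts 0x3886c0) := hgo ▸ disjoint_smul (by decide +kernel)
    have d2 : Disjoint (g • pts 0x3886c0) o' := hgo' ▸ disjoint_smul (by decide +kernel)
    let w := SimpleGraph.Walk.cons (adj ho hE d1)
      (SimpleGraph.Walk.cons (adj hE ho' d2) SimpleGraph.Walk.nil)
    refine ⟨w.reachable, Or.inr (Or.inl ⟨h, ?_⟩)⟩
    have hle : (Cfsg.blockGraph octads).dist ⟨o, ho⟩ ⟨o', ho'⟩ ≤ 2 := by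
      simpa [w] using SimpleGraph.dist_le w
    have h1 : (Cfsg.blockGraph octads).dist ⟨o, ho⟩ ⟨o', ho'⟩ ≠ 1 :=
      fun e => hnadj (by omega) (SimpleGraph.dist_eq_one_iff_adj.mp e)
    have h0 := w.reachable.pos_dist_of_ne hne'
    omega
  · exact absurd h hne

/-- In the graph on the 759 octads of the length-24 code in which two octads are adjacent when they are disjoint, the graph is connected (of diameter 3) and two distinct octads are at distance 1, 2 or 3 exactly when they meet in 0, 4 or 2 points respectively. -/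
theorem result (o o' : Finset Cfsg.GolayPt) (ho : o ∈ Cfsg.octads) (ho' : o' ∈ Cfsg.octads) (hne : o ≠ o') : (Cfsg.blockGraph Cfsg.octads).Connected ∧ ((Cfsg.blockGraph Cfsg.octads).dist ⟨o, ho⟩ ⟨o', ho'⟩ = 1 ↔ (o ∩ o').card = 0) ∧ ((Cfsg.blockGraph Cfsg.octads).dist ⟨o, ho⟩ ⟨o', ho'⟩ = 2 ↔ (o ∩ o').card = 4) ∧ ((Cfsg.blockGraph Cfsg.octads).dist ⟨o, ho⟩ ⟨o', ho'⟩ = 3 ↔ (o ∩ o').card = 2) := by
  obtain ⟨-, hd⟩ := dist_of_meet ho ho' hne
  refine ⟨{ preconnected := fun a b => ?_, nonempty := ⟨⟨o, ho⟩⟩ }, ?_⟩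
  · by_cases h : a = b
    · rw [h]
    · exact (dist_of_meet a.2 b.2 fun e => h (Subtype.ext e)).1
  · rcases hd with ⟨h, hd⟩ | ⟨h, hd⟩ | ⟨h, hd⟩ <;> rw [h, hd] <;> simp

end Cfsg.Agent.S5609
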