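import Cfsg.Statements.S5610
import Cfsg.Agent.EqLemmas
import Cfsg.Agent.Lib.GolayOrbitLists.OctTrio
import Cfsg.Agent.Lib.GolayOrbitLists.OctSext

set_option autoImplicit false
set_option maxRecDepth 100000
open scoped Pointwise
open Cfsg

namespace Cfsg.Agent.S5610

open Cfsg.Agent Cfsg.Agent.GolayOrbitLists

/-- The stabiliser of an octad in the group of the length-24 code has exactly three orbits on the 3795 trios, of sizes 15, 420 and 3360, and exactly three orbits on the 1771 sextets, of sizes 35, 840 and 896. -/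
theorem result (o : Finset Cfsg.GolayPt) (ho : o ∈ Cfsg.octads) : (∃ X₁ ∈ Cfsg.trios, ∃ X₂ ∈ Cfsg.trios, ∃ X₃ ∈ Cfsg.trios, (MulAction.orbit ↥(MulAction.stabilizer Cfsg.M24 o) X₁).ncard = 15 ∧ (MulAction.orbit ↥(MulAction.stabilizer Cfsg.M24 o) X₂).ncard = 420 ∧ (MulAction.orbit ↥(MulAction.stabilizer Cfsg.M24 o) X₃).ncard = 3360 ∧ Cfsg.trios = MulAction.orbit ↥(MulAction.stabilizer Cfsg.M24 o) X₁ ∪ MulAction.orbit ↥(MulAction.stabilizer Cfsg.M24 o) X₂ ∪ MulAction.orbit ↥(MulAction.stabilizer Cfsg.M24 o) X₃) ∧ (∃ Y₁ ∈ Cfsg.sextets, ∃ Y₂ ∈ Cfsg.sextets, ∃ Y₃ ∈ Cfsg.sextets, (MulAction.orbit ↥(MulAction.stabilizer Cfsg.M24 o) Y₁).ncard = 35 ∧ (MulAction.orbit ↥(MulAction.stabilizer Cfsg.M24 o) Y₂).ncard = 840 ∧ (MulAction.orbit ↥(MulAction.stabilizer Cfsg.M24 o) Y₃).ncard = 896 ∧ Cfsg.sextets = MulAction.orbit ↥(MulAction.stabilizer Cfsg.M24 o) Y₁ ∪ MulAction.orbit ↥(MulAction.stabilizer Cfsg.M24 o) Y₂ ∪ MulAction.orbit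 ↥(MulAction.stabilizer Cfsg.M24 o) Y₃) := by
  obtain ⟨t, ht, hto⟩ := Golay.exists_map_octad Golay.octad0_mem ho
  have hA : ∃ g : ↥Cfsg.M24, g • obj [Golay.octad0] = ({o} : Obj) :=
    ⟨⟨t, ht⟩, by
      show t • ({Golay.pts Golay.octad0} : Obj) = _
      rw [Finset.smul_finset_singleton, hto]⟩
  rw [← stabilizer_singleton o]
  exact ⟨three_orbits octTrio_certified smul_mem_trios' hA (by decide +kernel) (by decide +kernel) (by decide +kernel),
    three_orbits octSext_certified smul_mem_sextets' hA (by decide +kernel) (by decide +kernel) (by decide +kernel)⟩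

end Cfsg.Agent.S5610
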