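import Cfsg.Statements.S5614
import Cfsg.Agent.EqLemmas
import Cfsg.Agent.Lib.GolayPairs.Basic

set_option autoImplicit false
open scoped Pointwise
open Cfsg

namespace Cfsg.Agent.S5614

open Cfsg.Agent Cfsg.Agent.Golay MulAction

/-- No nontrivial element fixing the first octad pointwise fixes an octad meeting it in two points. -/
def fixCheck : Bool :=
  allSpan (fun c => bif popcount c == 8 && popcount (c &&& octad0) == 2 then
      (transTable.getD 6 []).all fun d =>
        !(imgMask d c == c) || (List.range 24).all fun i => fn d i == i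
    else true) rows 0

theorem fixCheck_eq : fixCheck = true := by decide +kernel

theorem eq_one_of_fix {o o' : Finset GolayPt} (ho : o ∈ octads) (ho' : o' ∈ octads)
    (h₂ : (o ∩ o').card = 2) {g : Equiv.Perm GolayPt} (hg : g ∈ octadFix o)
    (hgo : g • o' = o') : g = 1 := by
  obtain ⟨t, ht, rfl⟩ := exists_map_octad octad0_mem ho
  have h := conj_mem_octadFix ht hg
  rw [octadFix_octad0] at h
  obtain ⟨d, hd, haut, hgd⟩ := exists_transversal_mem (k := 6) (by norm_num) h
  rw [show (6 + 1 : ℕ) = 7 from rfl, chain_seven, Subgroup.mem_bot, inv_mul_eq_one] at hgd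
  have hc : t⁻¹ • o' ∈ octads := smul_mem_octads (inv_mem ht) ho'
  obtain ⟨x, -, hxc⟩ := mem_supports_iff_exists.mp hc.1
  have h1 := allSpan_rows fixCheck_eq x
  have hpc : popcount (enc x) = 8 := by rw [← card_pts, hxc]; exact hc.2
  have hand : popcount (enc x &&& octad0) = 2 := by
    rw [← card_pts, pts_and, hxc, ← Finset.card_smul_finset t, Finset.smul_finset_inter,
      smul_inv_smul, Finset.inter_comm]
    exact h₂
  rw [hpc, hand] at h1
  simp only [beq_self_eq_true, Bool.and_self, cond_true, List.all_eq_true, Bool.or_eq_true,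
    Bool.not_eq_true', beq_eq_false_iff_ne, beq_iff_eq, List.mem_range] at h1
  have hv := validPerm_of_isAut haut
  rcases h1 d hd with h1 | h1
  · exfalso
    apply h1
    refine pts_injOn (imgMask_lt hv _) (enc_lt x) ?_
    rw [pts_imgMask hv, hgd, hxc, mul_smul, mul_smul, smul_inv_smul, hgo]
  · have hone : toPerm d = 1 := by
      refine Equiv.ext fun p => idx_injective ?_
      rw [idx_toPerm hv, h1 _ (idx_lt p)]
      rfl
    rw [hone] at hgd
    calc g = t * (t⁻¹ * g * t) * t⁻¹ := by group
      _ = 1 := by rw [← hgd]; group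

theorem eq_one_of_even {α : Type*} [Fintype α] [DecidableEq α] {f : Equiv.Perm α}
    (hf : f ∈ alternatingGroup α) {s : Finset α} (hs : s.card ≤ 2) (h : ∀ a ∉ s, f a = a) :
    f = 1 := by
  by_contra hne
  have hle : f.support.card ≤ 2 := le_trans (Finset.card_le_card fun a ha => by
    by_contra hn
    exact Equiv.Perm.mem_support.mp ha (h a hn)) hs
  have h2 : f.support.card = 2 :=
    le_antisymm hle (Equiv.Perm.two_le_card_support_of_ne_one hne)
  have hsw := (Equiv.Perm.card_support_eq_two.mp h2).sign_eq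
  rw [Equiv.Perm.mem_alternatingGroup.mp hf] at hsw
  exact absurd hsw (by decide)

/-- In the group of the length-24 code, the joint stabiliser of two octads meeting in exactly two points is isomorphic to the symmetric group of degree 6. -/
theorem result (o o' : Finset Cfsg.GolayPt) (ho : o ∈ Cfsg.octads) (ho' : o' ∈ Cfsg.octads) (h₂ : (o ∩ o').card = 2) : Nonempty (↥(MulAction.stabilizer Cfsg.M24 o ⊓ MulAction.stabilizer Cfsg.M24 o') ≃* Equiv.Perm (Fin 6)) := by
  have h6 : (o \ o').card = 6 := by
    have h := Finset.card_sdiff_add_card_inter o o'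
    have h8 : o.card = 8 := ho.2
    omega
  have hmap : ∀ (g : ↥(octadStab o ⊓ stabilizer (Equiv.Perm GolayPt) o')) (p : GolayPt),
      (g : Equiv.Perm GolayPt) p ∈ o \ o' ↔ p ∈ o \ o' := fun g p => by
    have h1 : (g : Equiv.Perm GolayPt) • o = o := g.2.1.2
    have h2 : (g : Equiv.Perm GolayPt) • o' = o' := g.2.2
    refine Iff.trans ?_ (Finset.smul_mem_smul_finset_iff (b := p) (s := o \ o')
      (g : Equiv.Perm GolayPt))
    rw [Finset.smul_finset_sdiff]
    exact Iff.of_eq (congrArg₂ (fun a b => (g : Equiv.Perm GolayPt) p ∈ a \ b) h1.symm h2.symm)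
  let φ : ↥(octadStab o ⊓ stabilizer (Equiv.Perm GolayPt) o') →* Equiv.Perm ↥(o \ o') :=
    { toFun := fun g => (g : Equiv.Perm GolayPt).subtypePerm (hmap g)
      map_one' := Equiv.ext fun _ => rfl
      map_mul' := fun _ _ => Equiv.ext fun _ => rfl }
  have hinj : Function.Injective φ := (injective_iff_map_eq_one φ).mpr fun g hg => by
    have hfix : ∀ p ∈ o \ o', (g : Equiv.Perm GolayPt) p = p := fun p hp =>
      congrArg Subtype.val (Equiv.ext_iff.mp hg ⟨p, hp⟩)
    have hres : octadRes o ⟨g.1, g.2.1⟩ = 1 := by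
      refine eq_one_of_even (range_octadRes ho ▸ ⟨_, rfl⟩)
        (s := Finset.univ.filter fun a : ↥o => (a : GolayPt) ∈ o') ?_ fun a ha => ?_
      · rw [← Finset.card_map (Function.Embedding.subtype _), ← h₂]
        refine Finset.card_le_card fun q hq => ?_
        obtain ⟨a, ha, rfl⟩ := Finset.mem_map.mp hq
        exact Finset.mem_inter.mpr ⟨a.2, (Finset.mem_filter.mp ha).2⟩
      · exact Subtype.ext (hfix _ (Finset.mem_sdiff.mpr ⟨a.2, fun h =>
          ha (Finset.mem_filter.mpr ⟨Finset.mem_univ _, h⟩)⟩))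
    exact Subtype.ext (eq_one_of_fix ho ho' h₂
      (mem_ker_octadRes.mp (MonoidHom.mem_ker.mpr hres)) g.2.2)
  have hbij : Function.Bijective φ := (Nat.bijective_iff_injective_and_card φ).mpr ⟨hinj, by
    rw [← Nat.card_congr (GolayPairs.pairEquiv o o').toEquiv,
      (GolayPairs.natCard_pair ho ho').2.2 h₂, Nat.card_eq_fintype_card, Fintype.card_perm,
      Fintype.card_coe, h6]
    rfl⟩
  exact ⟨((GolayPairs.pairEquiv o o').trans (MulEquiv.ofBijective φ hbij)).trans
    (Equiv.permCongrHom (Finset.equivFinOfCardEq h6))⟩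

end Cfsg.Agent.S5614
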