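import Cfsg.Statements.S5615
import Cfsg.Agent.EqLemmas
import Cfsg.Agent.Lib.GolayOrbitLists.OctTrio

set_option autoImplicit false
set_option maxRecDepth 100000
open scoped Pointwise
open Cfsg

namespace Cfsg.Agent.S5615

open Cfsg.Agent Cfsg.Agent.Golay Cfsg.Agent.GolayOrbitLists MulAction

/-- The trios through an octad. -/
def through (o : Finset GolayPt) : Set Obj := {T | T ∈ trios ∧ o ∈ T}

theorem exists_std {o : Finset GolayPt} {T : Obj} (hT : T ∈ through o) :
    ∃ a : ↥M24, a • pts octad0 = o ∧ a • obj trio0 = T := by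
  obtain ⟨hT, hoT⟩ := hT
  obtain ⟨o', ho'T, hne⟩ := Finset.exists_mem_ne (show 1 < T.card by rw [hT.1]; norm_num) o
  have h0 : obj trio0 ∈ trios := obj_mem_trios (by decide +kernel)
  obtain ⟨a, ha, hao⟩ := exists_map_octad octad0_mem (hT.2.1 o hoT)
  have hdis : ∀ {x y : Finset GolayPt}, Disjoint x y → (x ∩ y).card = 0 := fun h => by
    rw [Finset.disjoint_iff_inter_eq_empty.mp h, Finset.card_empty]
  obtain ⟨b, hb, hbo⟩ := exists_map_octad_pair (hT.2.1 o hoT)
    (smul_mem_octads ha (pts_mem_octads (m := 0x258c50) (by decide +kernel))) (hT.2.1 o' ho'T) (by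
      rw [hdis (hT.2.2 o hoT o' ho'T hne.symm), ← hao, ← Finset.smul_finset_inter,
        Finset.card_smul_finset, ← pts_and, card_pts]
      decide +kernel)
  have hg : b * a ∈ M24 := mul_mem hb.1 ha
  have hmove : (b * a) • pts octad0 = o := by rw [mul_smul, hao]; exact hb.2
  refine ⟨⟨b * a, hg⟩, hmove, ?_⟩
  have m1 : o ∈ (b * a) • obj trio0 := by
    rw [← hmove]
    exact Finset.smul_mem_smul_finset (mem_obj.mpr ⟨octad0, by decide +kernel, rfl⟩)
  have m2 : o' ∈ (b * a) • obj trio0 := by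
    rw [← hbo, ← mul_smul]
    exact Finset.smul_mem_smul_finset (mem_obj.mpr ⟨_, by decide, rfl⟩)
  exact (trio_third (smul_mem_trios hg h0) m1 m2 hne.symm).trans
    (trio_third hT hoT ho'T hne.symm).symm

theorem through_check : pts octad0 ∈ obj octTrioRep0 ∧ pts octad0 ∉ obj octTrioRep1 ∧
    pts octad0 ∉ obj octTrioRep2 ∧ (orbitList octTrioGens (octTrioRep0, octTrioPlan0)).length = 15 := by
  decide +kernel

theorem ncard_through {o : Finset GolayPt} (ho : o ∈ octads) : (through o).ncard = 15 := by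
  obtain ⟨t, ht, rfl⟩ := exists_map_octad octad0_mem ho
  obtain ⟨hf, hc, hj, hr, hn⟩ := octTrio_certified
  obtain ⟨hcov, horb⟩ := orbits_at hf hc hj smul_mem_trios' hr hn ⟨t, ht⟩
  have hA : (⟨t, ht⟩ : ↥M24) • obj [octad0] = ({t • pts octad0} : Obj) :=
    Finset.smul_finset_singleton _
  rw [hA, stabilizer_singleton] at hcov horb
  have hmem : ∀ (e : List ℕ), ∀ X ∈ orbit (stabilizer M24 (t • pts octad0))
      ((⟨t, ht⟩ : ↥M24) • obj e), (t • pts octad0 ∈ X ↔ pts octad0 ∈ obj e) := by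
    rintro e _ ⟨g, rfl⟩
    have hg : ((g : ↥M24) : Equiv.Perm GolayPt) • t • pts octad0 = t • pts octad0 := g.2
    refine Iff.trans ?_ (Finset.smul_mem_smul_finset_iff t)
    refine Iff.trans ?_ (Finset.smul_mem_smul_finset_iff ((g : ↥M24) : Equiv.Perm GolayPt))
    rw [hg]
    exact Iff.rfl
  have he0 : (octTrioRep0, octTrioPlan0) ∈ octTrioData := by simp [octTrioData]
  rw [← through_check.2.2.2, ← (horb _ he0).2.2]
  congr 1
  ext X
  constructor
  · rintro ⟨hX, hoX⟩
    obtain ⟨e, he, hm⟩ := hcov X hX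
    have := (hmem e.1 X hm).mp hoX
    simp only [octTrioData, List.mem_cons, List.not_mem_nil, or_false] at he
    rcases he with rfl | rfl | rfl
    · exact hm
    · exact absurd this through_check.2.1
    · exact absurd this through_check.2.2.1
  · exact fun hX => ⟨(horb _ he0).2.1 hX, (hmem _ X hX).mpr through_check.1⟩

/-- Generators fixing the first octad and the standard trio. -/
def pairGens : List ℕ :=
  [0x199aa25849a05eb41eb09323375ca0, 0xb4964d47250a7482ce8619cf2de20,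
    0x718eb7ccb668250626aa222f40c462]

/-- The orbit of the other trios. -/
def pairPlan : List ℕ × List (List (List ℕ)) :=
  ([0x527c0, 0x789810, 0x82402f],
    [[[0, 1, 2]], [[0, 1, 2], [0, 1], [1]], [[0], [], [0, 2], [1], [], []]])

theorem pair_facts : fixesObj [octad0] pairGens = true ∧ fixesObj trio0 pairGens = true ∧
    check pairGens [pairPlan] = true ∧ isTrioList pairPlan.1 = true ∧
    pts octad0 ∈ obj pairPlan.1 ∧ obj pairPlan.1 ≠ obj trio0 ∧
    ([pairPlan].flatMap (orbitList pairGens)).length = 14 := by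
  decide +kernel

theorem exists_pair {T : Obj} (hT : T ∈ through (pts octad0)) (hne : T ≠ obj trio0) :
    ∃ h : ↥M24, h • pts octad0 = pts octad0 ∧ h • obj trio0 = obj trio0 ∧
      h • obj pairPlan.1 = T := by
  have h0 : obj trio0 ∈ through (pts octad0) :=
    ⟨obj_mem_trios (by decide +kernel), mem_obj.mpr ⟨octad0, by decide +kernel, rfl⟩⟩
  obtain ⟨f1, f2, f3, f4, f5, f6, f7⟩ := pair_facts
  obtain ⟨hcov, -⟩ := orbits (gens := pairGens) (D := [pairPlan]) f3
    (H := stabilizer M24 (obj [octad0]) ⊓ stabilizer M24 (obj trio0))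
    (fun d hd => ⟨(mem_stab_of_fixesObj f1 d hd).1,
      (mem_stab_of_fixesObj f1 d hd).2, (mem_stab_of_fixesObj f2 d hd).2⟩)
    (J := fun _ => 0) (fun _ _ _ => rfl) (List.nodup_singleton _)
    (Ω := through (pts octad0) \ {obj trio0})
    (fun h hh X hX => by
      obtain ⟨⟨hX1, hX2⟩, hX3⟩ := hX
      have e1 : h • pts octad0 = pts octad0 := by
        have e : h • ({pts octad0} : Obj) = {pts octad0} := hh.1
        rwa [Finset.smul_finset_singleton, Finset.singleton_inj] at e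
      refine ⟨⟨smul_mem_trios' h X hX1, ?_⟩, fun e => hX3 ?_⟩
      · rw [← e1]; exact Finset.smul_mem_smul_finset hX2
      · have e2 : h • obj trio0 = obj trio0 := hh.2
        exact MulAction.injective h ((Set.mem_singleton_iff.mp e).trans e2.symm))
    (fun e he => by
      rw [List.mem_singleton.mp he]
      exact ⟨⟨obj_mem_trios f4, f5⟩, f6⟩)
    (by
      rw [Set.ncard_diff_singleton_of_mem h0, ncard_through octad0_mem, f7])
  obtain ⟨e, he, ⟨⟨h, hh1, hh2⟩, hh⟩⟩ := hcov T ⟨hT, hne⟩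
  rw [List.mem_singleton.mp he] at hh
  refine ⟨h, ?_, hh2, hh⟩
  have e : h • ({pts octad0} : Obj) = {pts octad0} := hh1
  rwa [Finset.smul_finset_singleton, Finset.singleton_inj] at e

theorem exists_std_pair {o : Finset GolayPt} {T₁ T₂ : Obj} (h₁ : T₁ ∈ through o)
    (h₂ : T₂ ∈ through o) (hne : T₁ ≠ T₂) :
    ∃ a : ↥M24, a • pts octad0 = o ∧ a • obj trio0 = T₁ ∧ a • obj pairPlan.1 = T₂ := by
  obtain ⟨a, hao, haT⟩ := exists_std h₁
  have hm : a⁻¹ • T₂ ∈ through (pts octad0) := by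
    refine ⟨smul_mem_trios' a⁻¹ T₂ h₂.1, ?_⟩
    rw [← inv_smul_smul a (pts octad0), hao]
    exact Finset.smul_mem_smul_finset h₂.2
  obtain ⟨b, hbo, hbT, hb2⟩ := exists_pair hm fun e => hne (by
    rw [← haT, ← e, smul_inv_smul])
  exact ⟨a * b, by rw [mul_smul, hbo, hao], by rw [mul_smul, hbT, haT],
    by rw [mul_smul, hb2, smul_inv_smul]⟩

theorem fix_check : fixesObj trio0 (transTable.getD 6 []) = true := by decide +kernel

theorem fixes_through {o : Finset GolayPt} {g : Equiv.Perm GolayPt} (hg : g ∈ octadFix o)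
    {T : Obj} (hT : T ∈ through o) : g • T = T := by
  obtain ⟨⟨a, ha⟩, hao, haT⟩ := exists_std hT
  have hao' : a • pts octad0 = o := hao
  have haT' : a • obj trio0 = T := haT
  rw [← hao'] at hg
  have h := conj_mem_octadFix ha hg
  rw [octadFix_octad0] at h
  obtain ⟨d, hd, haut, hgd⟩ := exists_transversal_mem (k := 6) (by norm_num) h
  rw [show (6 + 1 : ℕ) = 7 from rfl, chain_seven, Subgroup.mem_bot, inv_mul_eq_one] at hgd
  obtain ⟨hm, hstab⟩ := mem_stab_of_fixesObj fix_check d hd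
  have hfix : toPerm d • obj trio0 = obj trio0 := mem_stabilizer_iff.mp hstab
  rw [hgd, mul_smul, mul_smul, haT', inv_smul_eq_iff, haT'] at hfix
  exact hfix

/-- An octad of the length-24 code lies in exactly 15 trios; the stabiliser of the octad in the code's group acts doubly transitively on these 15 trios, and the kernel of this action is the pointwise stabiliser of the octad. -/
theorem result (o : Finset Cfsg.GolayPt) (ho : o ∈ Cfsg.octads) : {T : Finset (Finset Cfsg.GolayPt) | T ∈ Cfsg.trios ∧ o ∈ T}.ncard = 15 ∧ (∀ T₁ T₂ T₁' T₂' : Finset (Finset Cfsg.GolayPt), T₁ ∈ Cfsg.trios → T₂ ∈ Cfsg.trios → T₁' ∈ Cfsg.trios → T₂' ∈ Cfsg.trios → o ∈ T₁ → o ∈ T₂ → o ∈ T₁' → o ∈ T₂' → T₁ ≠ T₂ → T₁' ≠ T₂' → ∃ g ∈ Cfsg.M24, g • o = o ∧ g • T₁ = T₁' ∧ g • T₂ = T₂') ∧ ∀ g ∈ Cfsg.M24, g • o = o → ((∀ T ∈ Cfsg.trios, o ∈ T → g • T = T) ↔ ∀ p ∈ o, g p = p) := by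
  refine ⟨ncard_through ho, fun T₁ T₂ T₁' T₂' h1 h2 h1' h2' o1 o2 o1' o2' hne hne' => ?_,
    fun g hg hgo => ⟨fun hall => ?_, fun hfix T hT hoT =>
      fixes_through (Golay.mem_octadFix.mpr ⟨hg, hfix⟩) ⟨hT, hoT⟩⟩⟩
  · obtain ⟨a, a0, a1, a2⟩ := exists_std_pair (o := o) ⟨h1, o1⟩ ⟨h2, o2⟩ hne
    obtain ⟨b, b0, b1, b2⟩ := exists_std_pair (o := o) ⟨h1', o1'⟩ ⟨h2', o2'⟩ hne'
    refine ⟨((b * a⁻¹ : ↥M24) : Equiv.Perm GolayPt), (b * a⁻¹).2, ?_, ?_, ?_⟩
    · show (b * a⁻¹) • o = o
      rw [mul_smul, ← a0, inv_smul_smul, b0, a0]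
    · show (b * a⁻¹) • T₁ = T₁'
      rw [mul_smul, ← a1, inv_smul_smul, b1]
    · show (b * a⁻¹) • T₂ = T₂'
      rw [mul_smul, ← a2, inv_smul_smul, b2]
  · classical
    let K : Subgroup ↥(octadStab o) :=
      { carrier := {x | ∀ T ∈ through o, (x : Equiv.Perm GolayPt) • T = T}
        one_mem' := fun T _ => one_smul _ T
        mul_mem' := fun {x y} hx hy T hT => by
          rw [Subgroup.coe_mul, mul_smul, hy T hT, hx T hT]
        inv_mem' := fun {x} hx T hT => by
          rw [InvMemClass.coe_inv, inv_smul_eq_iff, hx T hT] }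
    have hpre : ∀ (x : ↥(octadStab o)) (T : Obj), T ∈ through o →
        (x : Equiv.Perm GolayPt) • T ∈ through o := fun x T hT => by
      refine ⟨smul_mem_trios x.2.1 hT.1, ?_⟩
      have hx : (x : Equiv.Perm GolayPt) • o = o := x.2.2
      have hm := Finset.smul_mem_smul_finset (a := (x : Equiv.Perm GolayPt)) hT.2
      rwa [hx] at hm
    have hKn : K.Normal := ⟨fun k hk x T hT => by
      have h := hk _ (hpre x⁻¹ T hT)
      rw [Subgroup.coe_mul, Subgroup.coe_mul, mul_smul, mul_smul, h, InvMemClass.coe_inv,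
        smul_inv_smul]⟩
    let φ : ↥(octadStab o) →* ↥(alternatingGroup ↥o) :=
      (octadRes o).codRestrict _ fun x => range_octadRes ho ▸ ⟨x, rfl⟩
    have hsurj : Function.Surjective φ := fun e => by
      obtain ⟨x, hx⟩ := octadRes_surjective ho e.2
      exact ⟨x, Subtype.ext hx⟩
    have hker : ∀ x, φ x = 1 → x ∈ K := fun x hx T hT =>
      fixes_through (mem_ker_octadRes.mp (MonoidHom.mem_ker.mpr (congrArg Subtype.val hx))) hT
    have : IsSimpleGroup (alternatingGroup ↥o) := alternatingGroup.isSimpleGroup (by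
      rw [Nat.card_eq_fintype_card, Fintype.card_coe, show o.card = 8 from ho.2]
      norm_num)
    have hgK : (⟨g, hg, hgo⟩ : ↥(octadStab o)) ∈ K := fun T hT => hall T hT.1 hT.2
    rcases (hKn.map φ hsurj).eq_bot_or_eq_top with h | h
    · have hm : φ ⟨g, hg, hgo⟩ ∈ K.map φ := ⟨_, hgK, rfl⟩
      rw [h, Subgroup.mem_bot] at hm
      exact (Golay.mem_octadFix.mp
        (mem_ker_octadRes.mp (MonoidHom.mem_ker.mpr (congrArg Subtype.val hm)))).2
    · exfalso
      have hall' : ∀ x, x ∈ K := fun x => by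
        obtain ⟨k, hk, he⟩ : φ x ∈ K.map φ := by rw [h]; trivial
        have hx : k⁻¹ * x ∈ K := hker _ (by rw [map_mul, map_inv, he, inv_mul_cancel])
        simpa using mul_mem hk hx
      obtain ⟨T₁, hT₁, T₂, hT₂, hne⟩ := (Set.one_lt_ncard (Set.toFinite _)).mp
        (show 1 < (through o).ncard by rw [ncard_through ho]; norm_num)
      obtain ⟨a, a0, a1, a2⟩ := exists_std_pair hT₁ hT₂ hne
      obtain ⟨b, b0, b1, b2⟩ := exists_std_pair hT₂ hT₁ hne.symm
      have hx : ((b * a⁻¹ : ↥M24) : Equiv.Perm GolayPt) ∈ octadStab o := by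
        refine ⟨(b * a⁻¹).2, ?_⟩
        show (b * a⁻¹) • o = o
        rw [mul_smul, ← a0, inv_smul_smul, b0, a0]
      have hfix : (b * a⁻¹) • T₁ = T₁ := hall' ⟨_, hx⟩ T₁ hT₁
      rw [mul_smul, ← a1, inv_smul_smul, b1, a1] at hfix
      exact hne hfix.symm

end Cfsg.Agent.S5615
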