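import Cfsg.Statements.S5616
import Cfsg.Agent.EqLemmas
import Cfsg.Agent.Lib.GolayOrbitLists.TriSext

set_option autoImplicit false
set_option maxRecDepth 100000
open scoped Pointwise
open Cfsg

namespace Cfsg.Agent.S5616

open Cfsg.Agent Cfsg.Agent.Golay Cfsg.Agent.GolayOrbitLists MulAction

/-- The number of members meeting `Y`. -/
def meets (Y : Finset GolayPt) (S : Obj) : ℕ := (S.filter fun t => (t ∩ Y).Nonempty).card

theorem meets_smul (g : Equiv.Perm GolayPt) (Y : Finset GolayPt) (S : Obj) :
    meets (g • Y) (g • S) = meets Y S := by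
  have e : (g • S).filter (fun t => (t ∩ g • Y).Nonempty) =
      g • S.filter fun t => (t ∩ Y).Nonempty := by
    rw [show g • S = S.image (g • ·) from rfl, Finset.filter_image]
    show _ = (S.filter _).image (g • ·)
    congr 1
    refine Finset.filter_congr fun t _ => ?_
    rw [← Finset.smul_finset_inter, Finset.smul_finset_nonempty]
  rw [meets, e, Finset.card_smul_finset, meets]

theorem meets_reps : meets (pts 0x800003) (obj triSextRep0) = 1 ∧
    meets (pts 0x800003) (obj triSextRep1) = 2 ∧ meets (pts 0x800003) (obj triSextRep2) = 3 := by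
  decide +kernel

/-- Let Y be a set of 3 of the 24 points. The sextets of the length-24 code whose tetrads meeting Y number 1, 2 or 3 are respectively 21, 630 and 1120 in number, and two sextets with the same number of tetrads meeting Y are conjugate under the setwise stabiliser of Y in the code's group. -/
theorem result (Y : Finset Cfsg.GolayPt) (hY : Y.card = 3) : {S : Finset (Finset Cfsg.GolayPt) | S ∈ Cfsg.sextets ∧ (S.filter fun t => (t ∩ Y).Nonempty).card = 1}.ncard = 21 ∧ {S : Finset (Finset Cfsg.GolayPt) | S ∈ Cfsg.sextets ∧ (S.filter fun t => (t ∩ Y).Nonempty).card = 2}.ncard = 630 ∧ {S : Finset (Finset Cfsg.GolayPt) | S ∈ Cfsg.sextets ∧ (S.filter fun t => (t ∩ Y).Nonempty).card = 3}.ncard = 1120 ∧ ∀ S S' : Finset (Finset Cfsg.GolayPt), S ∈ Cfsg.sextets → S' ∈ Cfsg.sextets → (S.filter fun t => (t ∩ Y).Nonempty).card = (S'.filter fun t => (t ∩ Y).Nonempty).card → ∃ g ∈ Cfsg.M24, g • Y = Y ∧ g • S = S' := by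
  obtain ⟨t, ht⟩ := exists_map_three hY
  have htY : (t : Equiv.Perm GolayPt) • pts 0x800003 = Y := by
    have h : (t : Equiv.Perm GolayPt) • ({pts 0x800003} : Obj) = {Y} := ht
    rwa [Finset.smul_finset_singleton, Finset.singleton_inj] at h
  obtain ⟨hf, hc, hj, hr, hn⟩ := triSext_certified
  obtain ⟨hcov, horb⟩ := orbits_at hf hc hj smul_mem_sextets' hr hn t
  rw [ht, stabilizer_singleton] at hcov horb
  have hinv : ∀ e : List ℕ × List (List (List ℕ)),
      ∀ S ∈ orbit (stabilizer M24 Y) (t • obj e.1), meets Y S = meets (pts 0x800003) (obj e.1) := by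
    rintro e _ ⟨g, rfl⟩
    have hg : ((g : ↥M24) : Equiv.Perm GolayPt) • Y = Y := g.2
    show meets Y (((g : ↥M24) : Equiv.Perm GolayPt) • (t : Equiv.Perm GolayPt) • obj e.1) = _
    have h1 := meets_smul ((g : ↥M24) : Equiv.Perm GolayPt) Y ((t : Equiv.Perm GolayPt) • obj e.1)
    have h2 := meets_smul (t : Equiv.Perm GolayPt) (pts 0x800003) (obj e.1)
    rw [hg] at h1
    rw [htY] at h2
    exact h1.trans h2
  have hreps : ∀ e ∈ triSextData, ∀ e' ∈ triSextData,
      meets (pts 0x800003) (obj e.1) = meets (pts 0x800003) (obj e'.1) → e = e' := by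
    simp only [triSextData, List.forall_mem_cons, List.not_mem_nil, IsEmpty.forall_iff,
      implies_true, and_true, meets_reps.1, meets_reps.2.1, meets_reps.2.2]
    simp
  have hclass : ∀ e ∈ triSextData, {S : Finset (Finset GolayPt) | S ∈ sextets ∧
      meets Y S = meets (pts 0x800003) (obj e.1)}.ncard = (orbitList triSextGens e).length := by
    intro e he
    rw [← (horb e he).2.2]
    congr 1
    ext S
    refine ⟨fun ⟨hS, hm⟩ => ?_, fun hS => ⟨(horb e he).2.1 hS, hinv e S hS⟩⟩
    obtain ⟨e', he', hm'⟩ := hcov S hS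
    rwa [hreps e he e' he' (hm.symm.trans (hinv e' S hm'))]
  have h0 := hclass (triSextRep0, triSextPlan0) (by simp [triSextData])
  have h1 := hclass (triSextRep1, triSextPlan1) (by simp [triSextData])
  have h2 := hclass (triSextRep2, triSextPlan2) (by simp [triSextData])
  rw [meets_reps.1] at h0
  rw [meets_reps.2.1] at h1
  rw [meets_reps.2.2] at h2
  refine ⟨h0.trans (by decide +kernel), h1.trans (by decide +kernel), h2.trans (by decide +kernel),
    fun S S' hS hS' he => ?_⟩
  obtain ⟨e, hein, hm⟩ := hcov S hS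
  obtain ⟨e', hein', hm'⟩ := hcov S' hS'
  obtain rfl : e = e' := hreps e hein e' hein' ((hinv e S hm).symm.trans (he.trans (hinv e' S' hm')))
  rw [← orbit_eq_iff.mpr hm] at hm'
  obtain ⟨g, hg⟩ := hm'
  exact ⟨((g : ↥M24) : Equiv.Perm GolayPt), (g : ↥M24).2, g.2, hg⟩

end Cfsg.Agent.S5616
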