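import Cfsg.Statements.S5618
import Cfsg.Agent.EqLemmas
import Cfsg.Agent.Lib.Golay.Dodecad

set_option autoImplicit false
open scoped Pointwise
open Cfsg

namespace Cfsg.Agent.S5618

open Cfsg.Agent Cfsg.Agent.Golay

theorem eq_of_agree_off {α : Type*} {f h : Equiv.Perm α} {a : α}
    (he : ∀ q, q ≠ a → f q = h q) : f = h := by
  refine Equiv.ext fun q => ?_
  by_cases hq : q = a
  · subst hq
    by_contra hne
    have hb : h⁻¹ (f q) ≠ q := fun hh => hne (Equiv.Perm.inv_eq_iff_eq.mp hh)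
    have h2 := he _ hb
    rw [Equiv.Perm.coe_inv, Equiv.apply_symm_apply] at h2
    exact hb (f.injective h2)
  · exact he q hq

/-- Fixing five or more points of the dodecad forces the identity. -/
theorem faithful {d : Finset GolayPt} (hd : d ∈ dodecads) {s : Finset GolayPt} (hs : s ⊆ d)
    (h5 : 5 ≤ s.card) {g : Equiv.Perm GolayPt} (hg : g ∈ M24) (hgd : g • d = d)
    (hfix : ∀ p ∈ s, g p = p) : g = 1 := by
  obtain ⟨t, hts, ht⟩ := Finset.exists_subset_card_eq h5
  refine eq_one_of_five_dodecad hg hd hgd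
    ((Finset.equivFinOfCardEq ht).symm.toEmbedding.trans (Function.Embedding.subtype _))
    (fun i => hs (hts ((Finset.equivFinOfCardEq ht).symm i).2))
    fun i => hfix _ (hts ((Finset.equivFinOfCardEq ht).symm i).2)

/-- Every permutation of a hexad is induced by the stabiliser of the dodecad. -/
theorem extend {d : Finset GolayPt} (hd : d ∈ dodecads) {C : Finset GolayPt}
    (hC : C ∈ Cfsg.hexadsOn d) (σ : Equiv.Perm ↥C) :
    ∃ g : ↥M24, g ∈ MulAction.stabilizer M24 d ⊓ MulAction.stabilizer M24 C ∧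
      ∀ p : ↥C, ((g : Equiv.Perm GolayPt)) p = σ p := by
  obtain ⟨h6, o, ho, hoC⟩ := hC
  have hCd : C ⊆ d := hoC ▸ Finset.inter_subset_right
  have hCo : C ⊆ o := hoC ▸ Finset.inter_subset_left
  let e : Fin 6 ≃ ↥C := (Finset.equivFinOfCardEq h6).symm
  let x : Fin 5 ↪ GolayPt :=
    Fin.castSuccEmb.trans (e.toEmbedding.trans (Function.Embedding.subtype _))
  let y : Fin 5 ↪ GolayPt :=
    Fin.castSuccEmb.trans ((e.trans σ).toEmbedding.trans (Function.Embedding.subtype _))
  obtain ⟨g, hg, -⟩ := existsUnique_map_five_dodecad hd x y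
    (fun i => hCd (e _).2) (fun i => hCd ((e.trans σ) _).2)
  have hgd : ((g : M24) : Equiv.Perm GolayPt) • d = d := g.2
  have hgo : ((g : M24) : Equiv.Perm GolayPt) • o = o := by
    refine octad_eq_of_five (smul_mem_octads (g : M24).2 ho) ho ?_
    calc 5 = (Finset.univ.map y).card := by simp
      _ ≤ _ := Finset.card_le_card fun p hp => by
          obtain ⟨i, -, rfl⟩ := Finset.mem_map.mp hp
          refine Finset.mem_inter.mpr ⟨?_, hCo ((e.trans σ) _).2⟩
          rw [← hg i]
          exact Finset.smul_mem_smul_finset (hCo (e _).2)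
  have hgC : ((g : M24) : Equiv.Perm GolayPt) • C = C := by
    have h := Finset.smul_finset_inter (a := ((g : M24) : Equiv.Perm GolayPt)) (s := o) (t := d)
    rw [hoC] at h
    exact h.trans ((congrArg₂ (· ∩ ·) hgo hgd).trans hoC)
  refine ⟨g, ⟨g.2, hgC⟩, ?_⟩
  let f : Equiv.Perm ↥C := ((g : M24) : Equiv.Perm GolayPt).subtypePerm fun p => by
    conv_lhs => rw [← hgC]
    exact Finset.smul_mem_smul_finset_iff ((g : M24) : Equiv.Perm GolayPt)
  have hf : f = σ := by
    refine eq_of_agree_off (a := e (Fin.last 5)) fun q hq => Subtype.ext ?_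
    obtain ⟨j, rfl⟩ := e.surjective q
    have hj : j ≠ Fin.last 5 := fun h => hq (by rw [h])
    obtain ⟨i, rfl⟩ := Fin.exists_castSucc_eq.mpr hj
    exact hg i
  intro p
  rw [← hf]
  rfl

/-- For a dodecad d of the length-24 code and a hexad C on it (a 6-point intersection of d with an octad): the joint stabiliser of d and C in the code's group is isomorphic to the symmetric group of degree 6, and it acts faithfully both on the six points of C and on the six points of d outside C. -/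
theorem result (d : Finset Cfsg.GolayPt) (hd : d ∈ Cfsg.dodecads) (C : Finset Cfsg.GolayPt) (hC : C ∈ Cfsg.hexadsOn d) : Nonempty (↥(MulAction.stabilizer Cfsg.M24 d ⊓ MulAction.stabilizer Cfsg.M24 C) ≃* Equiv.Perm (Fin 6)) ∧ (∀ g ∈ MulAction.stabilizer Cfsg.M24 d ⊓ MulAction.stabilizer Cfsg.M24 C, (∀ p ∈ C, ((g : ↥Cfsg.M24) : Equiv.Perm Cfsg.GolayPt) p = p) → g = 1) ∧ ∀ g ∈ MulAction.stabilizer Cfsg.M24 d ⊓ MulAction.stabilizer Cfsg.M24 C, (∀ p ∈ d \ C, ((g : ↥Cfsg.M24) : Equiv.Perm Cfsg.GolayPt) p = p) → g = 1 := by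
  obtain ⟨h6, o, ho, hoC⟩ := hC
  have hCd : C ⊆ d := hoC ▸ Finset.inter_subset_right
  have hfC : ∀ g ∈ MulAction.stabilizer Cfsg.M24 d ⊓ MulAction.stabilizer Cfsg.M24 C,
      (∀ p ∈ C, ((g : ↥Cfsg.M24) : Equiv.Perm Cfsg.GolayPt) p = p) → g = 1 :=
    fun g hg hfix => Subtype.ext (faithful hd hCd (by omega) g.2 hg.1 hfix)
  refine ⟨?_, hfC, fun g hg hfix =>
    Subtype.ext (faithful hd Finset.sdiff_subset ?_ g.2 hg.1 hfix)⟩
  · have hmap : ∀ (g : ↥(MulAction.stabilizer M24 d ⊓ MulAction.stabilizer M24 C)) (p : GolayPt),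
        ((g : M24) : Equiv.Perm GolayPt) p ∈ C ↔ p ∈ C := fun g p => by
      have hgC : ((g : M24) : Equiv.Perm GolayPt) • C = C := g.2.2
      refine Iff.trans ?_ (Finset.smul_mem_smul_finset_iff (b := p) (s := C)
        ((g : M24) : Equiv.Perm GolayPt))
      exact Iff.of_eq (congrArg (fun s => ((g : M24) : Equiv.Perm GolayPt) p ∈ s) hgC.symm)
    let φ : ↥(MulAction.stabilizer M24 d ⊓ MulAction.stabilizer M24 C) →* Equiv.Perm ↥C :=
      { toFun := fun g => ((g : M24) : Equiv.Perm GolayPt).subtypePerm (hmap g)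
        map_one' := Equiv.ext fun _ => rfl
        map_mul' := fun _ _ => Equiv.ext fun _ => rfl }
    have hbij : Function.Bijective φ := by
      refine ⟨(injective_iff_map_eq_one φ).mpr fun g hg => Subtype.ext (hfC g g.2 fun p hp => ?_),
        fun σ => ?_⟩
      · exact congrArg Subtype.val (Equiv.ext_iff.mp hg ⟨p, hp⟩)
      · obtain ⟨g, hg, hσ⟩ := extend hd ⟨h6, o, ho, hoC⟩ σ
        exact ⟨⟨g, hg⟩, Equiv.ext fun p => Subtype.ext (hσ p)⟩
    exact ⟨(MulEquiv.ofBijective φ hbij).trans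
      (Equiv.permCongrHom (Finset.equivFinOfCardEq h6))⟩
  · rw [Finset.card_sdiff_of_subset hCd, h6, show d.card = 12 from hd.2]
    norm_num

end Cfsg.Agent.S5618
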