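import Cfsg.Statements.S5619
import Cfsg.Agent.EqLemmas
import Cfsg.Agent.Lib.Golay.Dodecad
import Cfsg.Agent.Lib.GolayOrbits.Dodecad
import Cfsg.Agent.Lib.Perm.FrobeniusNormal
import Cfsg.Agent.S0016

set_option autoImplicit false
open scoped Pointwise
open Cfsg

namespace Cfsg.Agent.S5619

open Cfsg.Agent Cfsg.Agent.Golay MulAction

/-- A sharply 2-transitive group on nine points with a nonabelian point stabiliser. -/
theorem structure_nine {G X : Type*} [Group G] [Finite G] [MulAction G X] [Finite X]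
    (hX : Nat.card X = 9) (hG : Nat.card G = 72) (h2 : IsMultiplyPretransitive G X 2)
    (hs : ∀ g : G, ∀ a b : X, a ≠ b → g • a = a → g • b = b → g = 1) (a : X)
    {u v : G} (hu : u • a = a) (hv : v • a = a) (huv : u * v ≠ v * u) :
    (∀ Q : Sylow 3 G, (Q : Subgroup G).Normal ∧ Nat.card Q = 9 ∧
        ∀ x ∈ (Q : Subgroup G), x ^ 3 = 1) ∧
      ∀ P : Sylow 2 G, Nonempty (P ≃* QuaternionGroup 2) := by
  classical
  obtain ⟨p, j, T, hp, hj, hpj, hTn, hTc, hexp, hTt, hTs, -⟩ :=
    Perm.exists_regular_of_sharply_two_transitive (G := G) (X := X) (by omega) h2 hs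
  have hp3 : p = 3 := by
    have h9 : p ∣ 3 ^ 2 := by rw [show (3 : ℕ) ^ 2 = p ^ j by omega]; exact dvd_pow_self p (by omega)
    exact (Nat.prime_dvd_prime_iff_eq hp Nat.prime_three).mp (hp.dvd_of_dvd_pow h9)
  subst hp3
  have hbij : Function.Bijective fun t : T => t • a := by
    refine ⟨fun s t h => ?_, fun x => exists_smul_eq T a x⟩
    have h1 : t⁻¹ * s ∈ stabilizer T a := by
      rw [mem_stabilizer_iff, mul_smul, show s • a = t • a from h, inv_smul_smul]
    rw [hTs a, Subgroup.mem_bot] at h1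
    exact (inv_mul_eq_one.mp h1).symm
  have hT9 : Nat.card T = 9 := (Nat.card_eq_of_bijective _ hbij).trans hX
  have : Fact (Nat.Prime 3) := ⟨Nat.prime_three⟩
  have : Fact (Nat.Prime 2) := ⟨Nat.prime_two⟩
  have hf : (72 : ℕ).factorization = Finsupp.single 2 3 + Finsupp.single 3 2 := by
    rw [show (72 : ℕ) = 2 ^ 3 * 3 ^ 2 by norm_num, Nat.factorization_mul (by norm_num) (by norm_num),
      Nat.Prime.factorization_pow Nat.prime_two, Nat.Prime.factorization_pow Nat.prime_three]
  have hf3 : (72 : ℕ).factorization 3 = 2 := by rw [hf]; simp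
  have hf2 : (72 : ℕ).factorization 2 = 3 := by rw [hf]; simp
  let T₀ : Sylow 3 G := Sylow.ofCard T (by rw [hT9, hG, hf3]; norm_num)
  refine ⟨fun Q => ?_, ?_⟩
  · have : (T₀ : Subgroup G).Normal := hTn
    have := Sylow.unique_of_normal T₀ this
    rw [Subsingleton.elim Q T₀]
    exact ⟨hTn, hT9, fun x hx => hexp x hx⟩
  · have hpre : IsPretransitive G X := isPretransitive_of_is_two_pretransitive
    have hA : Nat.card (stabilizer G a) = 8 := by
      have h := (stabilizer G a).index_mul_card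
      rw [index_stabilizer_of_transitive, hX, hG] at h
      omega
    let A₀ : Sylow 2 G := Sylow.ofCard (stabilizer G a) (by rw [hA, hG, hf2]; norm_num)
    have hinv : ∀ t : G, t • a = a → t * t = 1 → t ≠ 1 → ∀ k ∈ T, t * k * t⁻¹ = k⁻¹ := by
      intro t hta htt ht1 k hk
      have hti : t⁻¹ = t := inv_eq_of_mul_eq_one_right htt
      have hk' : t * k * t⁻¹ ∈ T := hTn.conj_mem k hk t
      have hcomm : k * (t * k * t⁻¹) = (t * k * t⁻¹) * k :=
        congrArg Subtype.val (hTc.is_comm.comm (⟨k, hk⟩ : T) ⟨_, hk'⟩)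
      have hfix : t * (k * (t * k * t⁻¹)) * t⁻¹ = k * (t * k * t⁻¹) := by
        calc t * (k * (t * k * t⁻¹)) * t⁻¹ = (t * k * t⁻¹) * (t * t) * k * (t * t)⁻¹ := by group
          _ = (t * k * t⁻¹) * k := by rw [htt]; group
          _ = k * (t * k * t⁻¹) := hcomm.symm
      have hma : (k * (t * k * t⁻¹)) • a = a := by
        by_contra hne
        refine ht1 (hs t a _ (Ne.symm hne) hta ?_)
        have e : t * (k * (t * k * t⁻¹)) = (k * (t * k * t⁻¹)) * t := by
          rw [← mul_inv_eq_iff_eq_mul]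
          exact hfix
        rw [← mul_smul, e, mul_smul, hta]
      have h1 : (⟨_, T.mul_mem hk hk'⟩ : T) ∈ stabilizer T a := hma
      rw [hTs a, Subgroup.mem_bot] at h1
      exact eq_inv_of_mul_eq_one_right (congrArg Subtype.val h1)
    have huniq : ∀ t t' : G, t • a = a → t' • a = a → t * t = 1 → t' * t' = 1 → t ≠ 1 → t' ≠ 1 →
        t = t' := by
      intro t t' hta hta' htt htt' h1 h1'
      refine (inv_mul_eq_one.mp (?_ : t'⁻¹ * t = 1)).symm
      obtain ⟨b, hb⟩ : ∃ b, b ≠ a := by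
        by_contra! h
        have hsub : Subsingleton X := ⟨fun x y => (h x).trans (h y).symm⟩
        rw [Nat.card_of_subsingleton a] at hX
        omega
      have ha' : (t'⁻¹ * t) • a = a := by rw [mul_smul, hta, inv_smul_eq_iff, hta']
      refine hs _ a b (Ne.symm hb) ha' ?_
      obtain ⟨k, hk⟩ := hbij.2 b
      have e : (t'⁻¹ * t) * k = (k : G) * (t'⁻¹ * t) := by
        have e1 := hinv t hta htt h1 k k.2
        have e2 := hinv t' hta' htt' h1' k k.2
        calc (t'⁻¹ * t) * k = t'⁻¹ * (t * k * t⁻¹) * t := by group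
          _ = t'⁻¹ * (t' * k * t'⁻¹) * t := by rw [e1, ← e2]
          _ = (k : G) * (t'⁻¹ * t) := by group
      rw [← hk]
      show (t'⁻¹ * t) • (k : G) • a = (k : G) • a
      rw [← mul_smul, e, mul_smul, ha']
    have hgen : ∀ K : Subgroup (stabilizer G a), Nat.card K = 2 →
        ∃ t : G, t • a = a ∧ t * t = 1 ∧ t ≠ 1 ∧ ∀ x : stabilizer G a,
          x ∈ K → (x : G) = 1 ∨ (x : G) = t := by
      intro K hK
      obtain ⟨x, hx1, hxu⟩ := (Nat.card_eq_two_iff' (1 : K)).mp hK
      have ho : x * x = 1 := by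
        have := pow_card_eq_one' (G := K) (x := x)
        rwa [hK, pow_two] at this
      refine ⟨((x : stabilizer G a) : G), (x : stabilizer G a).2,
        congrArg (fun z : K => ((z : stabilizer G a) : G)) ho, fun h => hx1 (Subtype.ext (Subtype.ext h)),
        fun y hy => ?_⟩
      by_cases hy1 : (⟨y, hy⟩ : K) = 1
      · exact Or.inl (congrArg (fun z : K => ((z : stabilizer G a) : G)) hy1)
      · exact Or.inr (congrArg (fun z : K => ((z : stabilizer G a) : G)) (hxu _ hy1))
    have hS := S0016.result (G := stabilizer G a) 2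
      (IsPGroup.of_card (n := 3) (by rw [hA]; norm_num)) fun K L hK hL => by
        obtain ⟨t, hta, htt, ht1, hK'⟩ := hgen K hK
        obtain ⟨t', hta', htt', ht1', hL'⟩ := hgen L hL
        have e := huniq t t' hta hta' htt htt' ht1 ht1'
        subst e
        refine Subgroup.eq_of_le_of_card_ge (fun x hx => ?_) (by rw [hK, hL])
        rcases hK' x hx with h | h
        · rw [show x = 1 from Subtype.ext h]; exact one_mem L
        · obtain ⟨y, hy1, -⟩ := (Nat.card_eq_two_iff' (1 : L)).mp hL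
          rcases hL' y y.2 with h' | h'
          · exact absurd (Subtype.ext (Subtype.ext h')) hy1
          · rw [show x = (y : stabilizer G a) from Subtype.ext (h.trans h'.symm)]
            exact y.2
    rcases hS with hc | ⟨-, n, ⟨e⟩⟩
    · exact absurd (congrArg Subtype.val
        ((IsCyclic.isMulCommutative (α := stabilizer G a)).is_comm.comm
          ⟨u, hu⟩ ⟨v, hv⟩)) huv
    · intro P
      have hn := Nat.card_congr e.toEquiv
      rw [hA, Nat.card_eq_fintype_card, QuaternionGroup.card] at hn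
      have hn2 : 2 ^ n = 2 := by omega
      rw [hn2] at e
      exact ⟨(Sylow.equiv P A₀).trans e⟩

theorem wit : isAut 0x8aa6fa22f2a96093ac8db31c618820 = true ∧
    isAut 0x752cb3a4a455cd0acdac7ca2818820 = true ∧
    imgMask 0x8aa6fa22f2a96093ac8db31c618820 dodecad0 = dodecad0 ∧
    imgMask 0x752cb3a4a455cd0acdac7ca2818820 dodecad0 = dodecad0 ∧
    (∀ i < 4, fn 0x8aa6fa22f2a96093ac8db31c618820 i = i ∧
      fn 0x752cb3a4a455cd0acdac7ca2818820 i = i) ∧
    fn 0x8aa6fa22f2a96093ac8db31c618820 (fn 0x752cb3a4a455cd0acdac7ca2818820 4) ≠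
      fn 0x752cb3a4a455cd0acdac7ca2818820 (fn 0x8aa6fa22f2a96093ac8db31c618820 4) := by
  decide +kernel

/-- In the group of the length-24 code, the subgroup fixing a dodecad setwise and three of its points individually (a group of order 72) has a normal Sylow 3-subgroup that is elementary abelian of order 9, and its Sylow 2-subgroups are quaternion of order 8. -/
theorem result (d : Finset Cfsg.GolayPt) (hd : d ∈ Cfsg.dodecads) (p q r : Cfsg.GolayPt) (hp : p ∈ d) (hq : q ∈ d) (hr : r ∈ d) (hpq : p ≠ q) (hpr : p ≠ r) (hqr : q ≠ r) : (∀ Q : Sylow 3 ↥(MulAction.stabilizer Cfsg.M24 d ⊓ MulAction.stabilizer Cfsg.M24 p ⊓ MulAction.stabilizer Cfsg.M24 q ⊓ MulAction.stabilizer Cfsg.M24 r), (Q : Subgroup ↥(MulAction.stabilizer Cfsg.M24 d ⊓ MulAction.stabilizer Cfsg.M24 p ⊓ MulAction.stabilizer Cfsg.M24 q ⊓ MulAction.stabilizer Cfsg.M24 r)).Normal ∧ Nat.card ↥Q = 9 ∧ ∀ x ∈ (Q : Subgroup ↥(MulAction.stabilizer Cfsg.M24 d ⊓ MulAction.stabilizer Cfsg.M24 p ⊓ MulAction.stabilizer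 Cfsg.M24 q ⊓ MulAction.stabilizer Cfsg.M24 r)), x ^ 3 = 1) ∧ ∀ P : Sylow 2 ↥(MulAction.stabilizer Cfsg.M24 d ⊓ MulAction.stabilizer Cfsg.M24 p ⊓ MulAction.stabilizer Cfsg.M24 q ⊓ MulAction.stabilizer Cfsg.M24 r), Nonempty (↥P ≃* QuaternionGroup 2) := by
  classical
  let G := ↥(MulAction.stabilizer Cfsg.M24 d ⊓ MulAction.stabilizer Cfsg.M24 p ⊓
    MulAction.stabilizer Cfsg.M24 q ⊓ MulAction.stabilizer Cfsg.M24 r)
  let X := {x : GolayPt // x ∈ ((d.erase p).erase q).erase r}
  have hXcard : Nat.card X = 9 := by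
    rw [Nat.card_eq_fintype_card, Fintype.card_coe, Finset.card_erase_of_mem (by simp [hr, hpr.symm, hqr.symm]),
      Finset.card_erase_of_mem (by simp [hq, hpq.symm]), Finset.card_erase_of_mem hp,
      show d.card = 12 from hd.2]
  have hgd : ∀ g : G, ((g : ↥M24) : Equiv.Perm GolayPt) • d = d ∧
      ((g : ↥M24) : Equiv.Perm GolayPt) p = p ∧ ((g : ↥M24) : Equiv.Perm GolayPt) q = q ∧
      ((g : ↥M24) : Equiv.Perm GolayPt) r = r :=
    fun g => ⟨g.2.1.1.1, g.2.1.1.2, g.2.1.2, g.2.2⟩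
  have hmem : ∀ (g : G) (x : X), ((g : ↥M24) : Equiv.Perm GolayPt) x ∈
      ((d.erase p).erase q).erase r := fun g x => by
    obtain ⟨h1, h2, h3, h4⟩ := hgd g
    have hx := x.2
    simp only [Finset.mem_erase] at hx ⊢
    refine ⟨fun e => hx.1 ?_, fun e => hx.2.1 ?_, fun e => hx.2.2.1 ?_, ?_⟩
    · exact ((g : ↥M24) : Equiv.Perm GolayPt).injective (e.trans h4.symm)
    · exact ((g : ↥M24) : Equiv.Perm GolayPt).injective (e.trans h3.symm)
    · exact ((g : ↥M24) : Equiv.Perm GolayPt).injective (e.trans h2.symm)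
    · have hm := Finset.smul_mem_smul_finset (a := ((g : ↥M24) : Equiv.Perm GolayPt)) hx.2.2.2
      rwa [h1] at hm
  letI act : MulAction G X :=
    { smul := fun g x => ⟨((g : ↥M24) : Equiv.Perm GolayPt) x, hmem g x⟩
      one_smul := fun _ => rfl
      mul_smul := fun _ _ _ => rfl }
  have hemb : ∀ a b : X, a ≠ b → ∃ e : Fin 5 ↪ GolayPt, (∀ i, e i ∈ d) ∧
      e 0 = p ∧ e 1 = q ∧ e 2 = r ∧ e 3 = a ∧ e 4 = b := by
    intro a b hab
    have ha := a.2
    have hb := b.2
    simp only [Finset.mem_erase] at ha hb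
    obtain ⟨a1, a2, a3, a4⟩ := ha
    obtain ⟨b1, b2, b3, b4⟩ := hb
    have a1' := Ne.symm a1; have a2' := Ne.symm a2; have a3' := Ne.symm a3
    have b1' := Ne.symm b1; have b2' := Ne.symm b2; have b3' := Ne.symm b3
    have hab1 : (a : GolayPt) ≠ b := fun e => hab (Subtype.ext e)
    have hab2 := Ne.symm hab1
    have hpq' := Ne.symm hpq; have hpr' := Ne.symm hpr; have hqr' := Ne.symm hqr
    refine ⟨⟨![p, q, r, a, b], fun i j h => ?_⟩, fun i => ?_, rfl, rfl, rfl, rfl, rfl⟩
    · fin_cases i <;> fin_cases j <;> simp_all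
    · fin_cases i
      exacts [hp, hq, hr, a4, b4]
  have hs : ∀ g : G, ∀ a b : X, a ≠ b → g • a = a → g • b = b → g = 1 := by
    intro g a b hab hga hgb
    obtain ⟨e, hed, h0, h1, h2, h3, h4⟩ := hemb a b hab
    obtain ⟨g1, g2, g3, g4⟩ := hgd g
    refine Subtype.ext (Subtype.ext (eq_one_of_five_dodecad (g : ↥M24).2 hd g1 e hed fun i => ?_))
    fin_cases i
    · simpa [h0] using g2
    · simpa [h1] using g3
    · simpa [h2] using g4
    · show ((g : ↥M24) : Equiv.Perm GolayPt) (e 3) = e 3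
      rw [h3]
      exact congrArg Subtype.val hga
    · show ((g : ↥M24) : Equiv.Perm GolayPt) (e 4) = e 4
      rw [h4]
      exact congrArg Subtype.val hgb
  have hex : ∀ a b a' b' : X, a ≠ b → a' ≠ b' → ∃ g : G, g • a = a' ∧ g • b = b' := by
    intro a b a' b' hab hab'
    obtain ⟨e, hed, h0, h1, h2, h3, h4⟩ := hemb a b hab
    obtain ⟨e', hed', h0', h1', h2', h3', h4'⟩ := hemb a' b' hab'
    obtain ⟨g, hg, -⟩ := existsUnique_map_five_dodecad hd e e' hed hed'
    refine ⟨⟨g, ⟨⟨g.2, ?_⟩, ?_⟩, ?_⟩, Subtype.ext ?_, Subtype.ext ?_⟩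
    · show ((g : M24) : Equiv.Perm GolayPt) p = p
      rw [← h0]; conv_rhs => rw [h0, ← h0']
      exact hg 0
    · show ((g : M24) : Equiv.Perm GolayPt) q = q
      rw [← h1]; conv_rhs => rw [h1, ← h1']
      exact hg 1
    · show ((g : M24) : Equiv.Perm GolayPt) r = r
      rw [← h2]; conv_rhs => rw [h2, ← h2']
      exact hg 2
    · show ((g : M24) : Equiv.Perm GolayPt) a = a'
      rw [← h3, ← h3']
      exact hg 3
    · show ((g : M24) : Equiv.Perm GolayPt) b = b'
      rw [← h4, ← h4']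
      exact hg 4
  have h2 : IsMultiplyPretransitive G X 2 :=
    is_two_pretransitive_iff.mpr fun {a b c e} hab hce => hex a b c e hab hce
  obtain ⟨t, ht, htd, htp, htq, htr⟩ :=
    GolayOrbits.exists_map_dodecad_three hd hp hq hr hpq hpr hqr
  have hta : ∀ i : ℕ, (pt i ∈ pts GolayOrbits.dodec0 ∧ pt i ≠ pt 0 ∧ pt i ≠ pt 1 ∧ pt i ≠ pt 2) →
      t (pt i) ∈ ((d.erase p).erase q).erase r := fun i ⟨hi, i0, i1, i2⟩ => by
    simp only [Finset.mem_erase]
    exact ⟨fun e => i2 (t.injective (e.trans htr.symm)), fun e => i1 (t.injective (e.trans htq.symm)),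
      fun e => i0 (t.injective (e.trans htp.symm)), htd ▸ Finset.smul_mem_smul_finset hi⟩
  let a : X := ⟨t (pt 3), hta 3 (by decide +kernel)⟩
  let b : X := ⟨t (pt 4), hta 4 (by decide +kernel)⟩
  have hab : a ≠ b := fun e =>
    (by decide +kernel : pt 3 ≠ pt 4) (t.injective (congrArg Subtype.val e))
  have hG : Nat.card G = 72 := by
    let f : G → {z : X × X // z ∈ (Set.univ : Set X).offDiag} := fun g =>
      ⟨(g • a, g • b), trivial, trivial, fun e => hab (MulAction.injective g e)⟩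
    have hf : Function.Bijective f := by
      refine ⟨fun g g' e => ?_, fun z => ?_⟩
      · have e' := congrArg Subtype.val e
        refine (inv_mul_eq_one.mp (hs _ a b hab ?_ ?_)).symm
        · rw [mul_smul, inv_smul_eq_iff]; exact congrArg Prod.fst e'
        · rw [mul_smul, inv_smul_eq_iff]; exact congrArg Prod.snd e'
      · obtain ⟨g, h1, h2⟩ := hex a b z.1.1 z.1.2 hab z.2.2.2
        exact ⟨g, Subtype.ext (Prod.ext h1 h2)⟩
    have hXf : Fintype.card X = 9 := by rw [← Nat.card_eq_fintype_card, hXcard]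
    rw [Nat.card_eq_of_bijective f hf, Nat.card_coe_set_eq, Set.ncard_eq_toFinset_card',
      show (Set.univ : Set X).offDiag.toFinset = (Finset.univ : Finset X).offDiag by ext; simp,
      Finset.offDiag_card, Finset.card_univ, hXf]
  obtain ⟨wu, wv, wud, wvd, wfix, wne⟩ := wit
  have hconj : ∀ c, isAut c = true → imgMask c dodecad0 = dodecad0 → (∀ i < 4, fn c i = i) →
      ∃ g : G, ((g : ↥M24) : Equiv.Perm GolayPt) = t * toPerm c * t⁻¹ ∧ g • a = a := by
    intro c hc hcd hfix
    have hv := validPerm_of_isAut hc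
    have hf : ∀ i < 4, toPerm c (pt i) = pt i := fun i hi => by
      rw [toPerm_pt hv (by omega), hfix i hi]
    have hev : ∀ i < 4, (t * toPerm c * t⁻¹) (t (pt i)) = t (pt i) := fun i hi => by
      rw [Equiv.Perm.mul_apply, Equiv.Perm.mul_apply, Equiv.Perm.coe_inv, Equiv.symm_apply_apply,
        hf i hi]
    refine ⟨⟨⟨t * toPerm c * t⁻¹, mul_mem (mul_mem ht (toPerm_mem_M24 hc)) (inv_mem ht)⟩,
      ⟨⟨?_, ?_⟩, ?_⟩, ?_⟩, rfl, Subtype.ext (hev 3 (by norm_num))⟩
    · show (t * toPerm c * t⁻¹) • d = d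
      rw [← htd, mul_smul, mul_smul, inv_smul_smul, show GolayOrbits.dodec0 = dodecad0 from rfl,
        ← pts_imgMask hv, hcd]
    · show (t * toPerm c * t⁻¹) p = p
      rw [← htp]; exact hev 0 (by norm_num)
    · show (t * toPerm c * t⁻¹) q = q
      rw [← htq]; exact hev 1 (by norm_num)
    · show (t * toPerm c * t⁻¹) r = r
      rw [← htr]; exact hev 2 (by norm_num)
  obtain ⟨u, hu, hua⟩ := hconj _ wu wud fun i hi => (wfix i hi).1
  obtain ⟨v, hv, hva⟩ := hconj _ wv wvd fun i hi => (wfix i hi).2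
  refine structure_nine hXcard hG h2 hs a hua hva fun e => wne ?_
  have e1 := congrArg (fun g : G => t⁻¹ * ((g : ↥M24) : Equiv.Perm GolayPt) * t) e
  simp only [Subgroup.coe_mul, hu, hv] at e1
  have hvu := validPerm_of_isAut wu
  have hvv := validPerm_of_isAut wv
  have e2 := congrArg (fun g : Equiv.Perm GolayPt => idx (g (pt 4))) e1
  simp only [Equiv.Perm.mul_apply, Equiv.Perm.coe_inv, Equiv.symm_apply_apply,
    idx_toPerm hvu, idx_toPerm hvv, idx_pt (show 4 < 24 by norm_num)] at e2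
  exact e2

end Cfsg.Agent.S5619
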