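import Cfsg.Statements.S5620
import Cfsg.Agent.EqLemmas
import Cfsg.Agent.S0372
import Cfsg.Agent.Lib.Golay.Dodecad
import Cfsg.Agent.Lib.GolayOrbits.Dodecad

set_option autoImplicit false
open scoped Pointwise
open Cfsg

namespace Cfsg.Agent.S5620

open Cfsg.Agent Cfsg.Agent.Golay

theorem sq_eq : Cfsg.Spor.squareDodecad = pts dodecad0 := pts_dodecad0.symm

theorem swap_dodecad :
    Cfsg.projInv • Cfsg.Spor.squareDodecad = Finset.univ \ Cfsg.Spor.squareDodecad := by
  rw [sq_eq, smul_eq_image]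
  decide +kernel

theorem smul_sdiff_iff (x : Equiv.Perm GolayPt) (d : Finset GolayPt) :
    x • (Finset.univ \ d) = Finset.univ \ d ↔ x • d = d := by
  have e : x • (Finset.univ \ d) = Finset.univ \ (x • d) := by
    rw [Finset.smul_finset_sdiff, Finset.smul_finset_univ]
  rw [e]
  exact ⟨fun h => by simpa using congrArg (Finset.univ \ ·) h, fun h => by rw [h]⟩

theorem conj_eq : MulAut.conj Cfsg.projInv • Cfsg.Spor.M11 =
    Cfsg.Spor.M12 ⊓ MulAction.stabilizer (Equiv.Perm GolayPt) (none : GolayPt) := by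
  have hp : Cfsg.projInv ∈ M24 := S0372.result
  ext x
  rw [Subgroup.mem_pointwise_smul_iff_inv_smul_mem]
  have e : (MulAut.conj Cfsg.projInv)⁻¹ • x = Cfsg.projInv⁻¹ * x * Cfsg.projInv := by
    simp [MulAut.smul_def]
  rw [e]
  show ((_ ∈ M24) ∧ (Cfsg.projInv⁻¹ * x * Cfsg.projInv) • Cfsg.Spor.squareDodecad =
      Cfsg.Spor.squareDodecad) ∧ (Cfsg.projInv⁻¹ * x * Cfsg.projInv) • (some 0 : GolayPt) = some 0 ↔
    (x ∈ M24 ∧ x • Cfsg.Spor.squareDodecad = Cfsg.Spor.squareDodecad) ∧ x • (none : GolayPt) = none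
  rw [mul_smul, mul_smul, inv_smul_eq_iff, swap_dodecad, mul_smul, mul_smul, inv_smul_eq_iff,
    show Cfsg.projInv • (some 0 : GolayPt) = none from rfl, smul_sdiff_iff]
  refine and_congr (and_congr ?_ Iff.rfl) Iff.rfl
  exact ⟨fun h => by
    have := mul_mem (mul_mem hp h) (inv_mem hp)
    simpa [mul_assoc] using this, fun h => mul_mem (mul_mem (inv_mem hp) h) hp⟩

/-- Inside the stabiliser of the dodecad of squares (a Mathieu group of degree 12), the stabiliser of the residue 0 (a point of the dodecad) and the stabiliser of the extra point (a point outside the dodecad) are isomorphic but not conjugate; conjugation by a suitable element of the code's group that maps the dodecad of squares onto its complement carries the first onto the second. -/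
theorem result : Nonempty (↥(Cfsg.Spor.M12 ⊓ MulAction.stabilizer (Equiv.Perm Cfsg.GolayPt) (none : Cfsg.GolayPt)) ≃* ↥Cfsg.Spor.M11) ∧ (¬ ∃ k ∈ Cfsg.Spor.M12, MulAut.conj k • Cfsg.Spor.M11 = Cfsg.Spor.M12 ⊓ MulAction.stabilizer (Equiv.Perm Cfsg.GolayPt) (none : Cfsg.GolayPt)) ∧ ∃ g ∈ Cfsg.M24, g • Cfsg.Spor.squareDodecad = Finset.univ \ Cfsg.Spor.squareDodecad ∧ MulAut.conj g • Cfsg.Spor.M11 = Cfsg.Spor.M12 ⊓ MulAction.stabilizer (Equiv.Perm Cfsg.GolayPt) (none : Cfsg.GolayPt) := by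
  refine ⟨?_, ?_, ⟨Cfsg.projInv, S0372.result, swap_dodecad, conj_eq⟩⟩
  · rw [← conj_eq]
    exact ⟨(Subgroup.equivSMul (MulAut.conj Cfsg.projInv) Cfsg.Spor.M11).symm⟩
  · rintro ⟨k, hk, hkc⟩
    have hk0 : k (some 0) ∈ Cfsg.Spor.squareDodecad := by
      have h := Finset.smul_mem_smul_finset (a := k)
        (show (some 0 : GolayPt) ∈ Cfsg.Spor.squareDodecad by rw [sq_eq]; decide +kernel)
      rw [MulAction.mem_stabilizer_iff.mp hk.2] at h
      exact h
    set q : GolayPt := Cfsg.projInv⁻¹ (k (some 0))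
    have hq : q ∈ pts 0xfacca0 := by
      have h : (Cfsg.projInv • q : GolayPt) = k (some 0) := by simp [q]
      rw [GolayOrbits.mem_dodec0_compl, show GolayOrbits.dodec0 = dodecad0 from rfl]
      intro hin
      have h2 := Finset.smul_mem_smul_finset (a := Cfsg.projInv) (sq_eq ▸ hin :
        q ∈ Cfsg.Spor.squareDodecad)
      rw [swap_dodecad, h] at h2
      exact (Finset.mem_sdiff.mp h2).2 hk0
    obtain ⟨r, hr, hrq⟩ := Finset.exists_mem_ne
      (show 1 < (pts 0xfacca0).card by rw [card_pts]; decide +kernel) q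
    obtain ⟨h, hh, hhq⟩ := GolayOrbits.orbit_point GolayOrbits.out1_cert hq hr
    have hh11 : h ∈ Cfsg.Spor.M11 := by
      refine ⟨⟨hh.1, ?_⟩, ?_⟩
      · show h • Cfsg.Spor.squareDodecad = _
        rw [sq_eq]
        exact hh.2 dodecad0 (by simp [GolayOrbits.dodec0, dodecad0])
      · show h (pt 0) = pt 0
        exact GolayOrbits.apply_eq_of_Fix hh (by norm_num) (by simp)
    have hmem : Cfsg.projInv * h * Cfsg.projInv⁻¹ ∈ MulAut.conj k • Cfsg.Spor.M11 := by
      rw [hkc, ← conj_eq]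
      exact ⟨h, hh11, rfl⟩
    obtain ⟨m, hm, hme⟩ := hmem
    have hfix : (Cfsg.projInv * h * Cfsg.projInv⁻¹) (k (some 0)) = k (some 0) := by
      rw [← hme]
      show (k * m * k⁻¹) (k (some 0)) = k (some 0)
      rw [Equiv.Perm.mul_apply, Equiv.Perm.mul_apply, Equiv.Perm.coe_inv, Equiv.symm_apply_apply,
        show m (some 0) = some 0 from hm.2]
    refine hrq ?_
    have h3 : Cfsg.projInv (h q) = k (some 0) := hfix
    rw [hhq] at h3
    show r = Cfsg.projInv⁻¹ (k (some 0))
    rw [← h3, Equiv.Perm.coe_inv, Equiv.symm_apply_apply]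

end Cfsg.Agent.S5620
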