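import Cfsg.Statements.S5625
import Cfsg.Agent.Lib.SteinerCount.Basic

set_option autoImplicit false
open Cfsg

namespace Cfsg.Agent.S5625

/-- In any Steiner system S(5, 8, 24) and for any set Y of three points, the blocks meeting Y in exactly 3, 2, 1 and 0 points number 21, 168, 360 and 210 respectively (so there are 759 blocks in all). -/
theorem result (α : Type*) [Fintype α] [DecidableEq α] (hα : Fintype.card α = 24) (B : Set (Finset α)) (hB : Cfsg.IsSteinerSystem 5 8 B) (Y : Finset α) (hY : Y.card = 3) : {b : Finset α | b ∈ B ∧ (b ∩ Y).card = 3}.ncard = 21 ∧ {b : Finset α | b ∈ B ∧ (b ∩ Y).card = 2}.ncard = 168 ∧ {b : Finset α | b ∈ B ∧ (b ∩ Y).card = 1}.ncard = 360 ∧ {b : Finset α | b ∈ B ∧ (b ∩ Y).card = 0}.ncard = 210 := by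
  classical
  open SteinerCount in
  have hl : ∀ Z : Finset α, Z.card ≤ 5 →
      ((blocks B).filter (Z ⊆ ·)).card * (8 - Z.card).choose (5 - Z.card) = (24 - Z.card).choose (5 - Z.card) :=
    fun Z hZ => hα ▸ card_containing_mul hB hZ
  open SteinerCount in
  have key : ∀ i n, i ≤ 5 → n * (8 - i).choose (5 - i) = (24 - i).choose (5 - i) → 0 < (8 - i).choose (5 - i) →
      ∑ b ∈ blocks B, (b ∩ Y).card.choose i = (3 : ℕ).choose i * n := by
    intro i n hi hn hpos
    rw [← hY]
    refine sum_choose_inter B Y i n fun Z hZ => ?_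
    have hZc := (Finset.mem_powersetCard.1 hZ).2
    have h := hl Z (hZc ▸ hi)
    rw [hZc, ← hn] at h
    exact Nat.eq_of_mul_eq_mul_right hpos h
  have h0 := key 0 759 (by omega) (by decide) (by decide)
  have h1 := key 1 253 (by omega) (by decide) (by decide)
  have h2 := key 2 77 (by omega) (by decide) (by decide)
  have h3 := key 3 21 (by omega) (by decide) (by decide)
  have fib : ∀ i, ∑ b ∈ SteinerCount.blocks B, (b ∩ Y).card.choose i =
      ∑ j ∈ Finset.range 4, ((SteinerCount.blocks B).filter fun b => (b ∩ Y).card = j).card * j.choose i := by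
    intro i
    rw [← Finset.sum_fiberwise_of_maps_to (g := fun b => (b ∩ Y).card) (t := Finset.range 4)]
    · refine Finset.sum_congr rfl fun j _ => ?_
      rw [← smul_eq_mul, ← Finset.sum_const]
      exact Finset.sum_congr rfl fun b hb => by rw [(Finset.mem_filter.1 hb).2]
    · intro b _
      have := Finset.card_le_card (Finset.inter_subset_right : b ∩ Y ⊆ Y)
      simp only [Finset.mem_range]
      omega
  rw [fib] at h0 h1 h2 h3
  simp [Finset.sum_range_succ, Nat.choose] at h0 h1 h2 h3
  simp only [SteinerCount.card_inter_counts]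
  simp only [Finset.card_eq_zero]
  omega

end Cfsg.Agent.S5625
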