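import Cfsg.Statements.S5628
import Cfsg.Agent.Lib.PlaneFour.Frame
import Cfsg.Agent.EqLemmas

set_option autoImplicit false
open Cfsg
open scoped Pointwise

namespace Cfsg.Agent.S5628

/-- In a projective plane of order 4 (a Steiner system S(2, 5, 21)), every permutation of the six points of a hyperoval (a 6-set met by no line in more than two points) is the restriction of exactly one automorphism of the plane. In particular the stabiliser of a hyperoval in the automorphism group is isomorphic to the symmetric group of degree 6 acting faithfully on the hyperoval. -/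
theorem result {α : Type*} [Fintype α] [DecidableEq α] (hα : Fintype.card α = 21) (L : Set (Finset α)) (hL : Cfsg.IsSteinerSystem 2 5 L) (H : Finset α) (hH : (H.card = 6 ∧ ∀ l ∈ L, (l ∩ H).card ≤ 2)) (σ : Equiv.Perm ↥H) : ∃! g : Equiv.Perm α, g ∈ Cfsg.setSystemAut L ∧ ∀ p : ↥H, g p = σ p := by
  classical
  have P : PlaneFour.Plane L := ⟨hα, hL⟩
  let c : Fin 6 ≃ ↥H := (H.equivFinOfCardEq hH.1).symm
  have hframe : ∀ τ : Equiv.Perm ↥H, PlaneFour.Frame L fun i => (τ (c i) : α) := fun τ =>
    ⟨P, fun i j h => c.injective (τ.injective (Subtype.ext h)), P.isArc_subset hH.2 fun x hx => by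
      obtain ⟨i, -, rfl⟩ := Finset.mem_image.1 hx
      exact (τ (c i)).2⟩
  obtain ⟨g, hg, hge⟩ := PlaneFour.exists_iso (hframe 1) (hframe σ)
  have hsmul : ∀ (f : Equiv.Perm α) (l : Finset α), f • l = l.image f := fun f l => rfl
  refine ⟨g, ⟨?_, fun p => ?_⟩, fun f hf => ?_⟩
  · rw [MulAction.mem_stabilizer_iff]
    show (fun l : Finset α => g • l) '' L = L
    simp only [hsmul]
    exact hg
  · obtain ⟨i, rfl⟩ := c.surjective p
    exact hge i
  · refine PlaneFour.iso_unique (hframe 1) (hframe σ) ?_ ?_ (fun i => hf.2 (c i)) hge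
    · intro l hl
      rw [← hsmul]
      exact (MulAction.mem_stabilizer_iff.1 hf.1) ▸ Set.smul_mem_smul_set hl
    · intro l hl
      exact hg ▸ Set.mem_image_of_mem _ hl

end Cfsg.Agent.S5628
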