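import Cfsg.Statements.S5630
import Cfsg.Agent.Lib.Aschbacher.WreathGeneral
import Cfsg.Agent.Lib.Aschbacher.SmallQ

set_option autoImplicit false
open Cfsg
open Cfsg.Agent.Aschbacher Cfsg.Agent.PrimeDim

namespace Cfsg.Agent.S5630

/-- Subgroup structure of the finite linear groups in dimension at least 3. Let F be a finite field, n ≥ 3, and let H be a subgroup of SL_n(F) (the kernel of the determinant inside GL_n(F)) whose product with the scalar matrices of determinant one is not all of SL_n(F), i.e. H does not cover PSL_n(F). Then either H is contained in a member of one of the eight geometric classes of subgroups of GL_n(F) (reducible, imprimitive, extension field, tensor product, subfield, symplectic-type normaliser, tensor wreath, similarity group of a form, with the conditions built into InLinearClass), or H is in the residual class: modulo scalars it is almost simple, and the perfect preimage of its socle acts absolutely irreducibly, is realisable over no proper subfield,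 and fixes no non-degenerate quadratic, symplectic or unitary form. (Dimension 2, where the linear and symplectic groups coincide, is left to the classical list of subgroups of PSL_2.) -/
theorem result {F : Type*} [Field F] [Fintype F] (n : ℕ) (hn : 3 ≤ n) (H : Subgroup (Matrix.GeneralLinearGroup (Fin n) F)) (hH : H ≤ Cfsg.Geo.specialLinear (Fin n) F) (hproper : H ⊔ (Cfsg.Geo.scalars (Fin n) F ⊓ Cfsg.Geo.specialLinear (Fin n) F) ≠ Cfsg.Geo.specialLinear (Fin n) F) : (∃ M : Subgroup (Matrix.GeneralLinearGroup (Fin n) F), Cfsg.Geo.InLinearClass n F M ∧ H ≤ M) ∨ Cfsg.Geo.InLinearResidualClass H := by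
  classical
  have hcard : Fintype.card (Fin n) = n := Fintype.card_fin n
  have : Nonempty (Fin n) := ⟨⟨0, by omega⟩⟩
  have hform : FormOutcome H → ∃ M, Geo.InLinearClass n F M ∧ H ≤ M := by
    rintro (⟨f, hf, hle⟩ | ⟨ho, Q, hQ, hle⟩ | ⟨σ, f, hf, hle⟩)
    · have he : Even n := (Nat.even_or_odd n).resolve_right fun ho => not_symplectic_of_odd (hcard.symm ▸ ho) f hf
      refine ⟨_, ?_, hle⟩
      iterate 9 right
      exact Or.inl ⟨f, hf, he, by obtain ⟨j, rfl⟩ := he; omega, rfl⟩
    · refine ⟨_, ?_, hle⟩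
      iterate 11 right
      exact ⟨Q, hQ, Nat.card_eq_fintype_card (α := F) ▸ ho, hn, rfl⟩
    · refine ⟨_, ?_, hle⟩
      iterate 10 right
      exact Or.inl ⟨σ, f, hf, hn, rfl⟩
  have hwreath : ∀ d k : ℕ, 3 ≤ d → 2 ≤ k → ∀ (e : Fin n ≃ (Fin k → Fin d)) (P : GL (Fin n) F),
      H ≤ Geo.tensorWreathSubgroup d k e P → ∃ M, Geo.InLinearClass n F M ∧ H ≤ M := by
    intro d k hd hk e P hle
    refine ⟨_, ?_, hle⟩
    iterate 8 right
    exact Or.inl ⟨d, k, e, P, hd, hk, rfl⟩
  rcases aschbacher_any (hcard.symm ▸ hn) H with ⟨W, hb, ht, hle⟩ | ⟨m, t, D, htm, hD, hle⟩ |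
    ⟨r, K, hr, hrn, hK, hle⟩ | ⟨-, d, t, hd, ht, hT⟩ | hf | ⟨d, k, hd, hk, hdk, hW⟩ |
    ⟨F₀, r, P, hr, hc, -, hle⟩ | ⟨r, R, m, -, -, hR, hle⟩ | h
  · exact Or.inl ⟨_, Or.inl ⟨W, hb, ht, rfl⟩, hle⟩
  · refine Or.inl ⟨_, ?_, hle⟩
    iterate 3 right
    exact Or.inl ⟨t, m, D, hD, rfl⟩
  · refine Or.inl ⟨_, ?_, hle⟩
    iterate 4 right
    exact Or.inl ⟨r, K, hr, hK, rfl⟩
  · left
    wlog hdt : d ≤ t generalizing d t
    · exact this t d ht hd hT.swap (by omega)
    have hdtn : d * t = n := hT.1.trans hcard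
    let e : Fin n ≃ Fin d × Fin t := (finCongr hdtn.symm).trans finProdFinEquiv.symm
    rcases Nat.lt_or_eq_of_le hdt with hlt | rfl
    · obtain ⟨P, hP⟩ := hT.2 e
      refine ⟨_, ?_, hP⟩
      iterate 5 right
      exact Or.inl ⟨d, t, e, P, hd, hlt, rfl⟩
    · obtain ⟨P, hP⟩ := hT.2 e
      rcases eq_or_ne d 2 with rfl | hd2
      · exact hform (tensor_four_form e P hP)
      · let e' : Fin n ≃ (Fin 2 → Fin d) := e.trans (finTwoArrowEquiv (Fin d)).symm
        obtain ⟨P', hP'⟩ := hT.2 (e'.trans (finTwoArrowEquiv (Fin d)))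
        exact hwreath d 2 (by omega) le_rfl e' P' (hP'.trans (tensor_le_wreath e' P'))
  · exact Or.inl (hform hf)
  · let e : Fin n ≃ (Fin k → Fin d) := Fintype.equivOfCardEq (by simp [← hdk])
    obtain ⟨P, hP⟩ := hW e
    exact Or.inl (hwreath d k hd hk e P hP)
  · refine Or.inl ⟨_, ?_, hle⟩
    iterate 6 right
    exact Or.inl ⟨F₀, r, P, hr, Nat.card_eq_fintype_card (α := F) ▸ hc, rfl⟩
  · refine Or.inl ⟨_, ?_, hle⟩
    iterate 7 right
    exact Or.inl ⟨r, R, hR, rfl⟩
  · exact Or.inr h

end Cfsg.Agent.S5630
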