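import Cfsg.Statements.S5631
import Cfsg.Agent.EqLemmas
import Cfsg.Agent.Lib.Transvect.Basic

set_option autoImplicit false
open Cfsg

namespace Cfsg.Agent.S5631

open Cfsg.Agent.Transvect

open scoped MatrixGroups

variable {F : Type*} [Field F] {n : ℕ}

lemma stab_transitive {W : Submodule F (Fin n → F)} {M : Subgroup (GL (Fin n) F)}
    (hM : Cfsg.Geo.subspaceStabilizer W ⊓ Cfsg.Geo.specialLinear (Fin n) F ≤ M)
    {u u' : Fin n → F} (hu : u ∉ W) (hd : u' - u ∈ W) (h : IsFull M u) : IsFull M u' := by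
  obtain ⟨φ, hφW, hφu⟩ := exists_dual_eq_one (W := W) hu
  have hd0 : φ (u' - u) = 0 := hφW _ hd
  have hmem : tv (u' - u) φ ∈ M :=
    hM ⟨mem_stab_of_le fun v hv => by
      rw [tv_apply hd0, hφW v hv, zero_smul, add_zero]; exact hv, tv_mem_sl _ _⟩
  simpa [tv_apply hd0, hφu] using h.conj hmem

lemma stab_transitive' {W : Submodule F (Fin n → F)} {M : Subgroup (GL (Fin n) F)}
    (hM : Cfsg.Geo.subspaceStabilizer W ⊓ Cfsg.Geo.specialLinear (Fin n) F ≤ M)
    {u u' : Fin n → F} (hu : u ∉ W) (hu' : u' ∉ W) (h : IsFull M u) : IsFull M u' := by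
  classical
  by_cases hd : u ∈ W ⊔ Submodule.span F {u' - u}
  · obtain ⟨w, hw, z, hz, hwz⟩ := Submodule.mem_sup.1 hd
    obtain ⟨c, rfl⟩ := Submodule.mem_span_singleton.1 hz
    have hc : c ≠ 0 := by
      rintro rfl
      rw [zero_smul, add_zero] at hwz
      exact hu (hwz ▸ hw)
    have key : c • u' = (1 + c) • u - w := by
      rw [add_smul, one_smul]
      linear_combination (norm := module) hwz
    have h1c : (1 : F) + c ≠ 0 := by
      intro h0
      rw [h0, zero_smul, zero_sub] at key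
      exact hu' (by
        have h5 := congrArg (c⁻¹ • ·) key
        simp only [smul_smul, inv_mul_cancel₀ hc, one_smul] at h5
        rw [h5]; exact W.smul_mem _ (W.neg_mem hw))
    have h2 : IsFull M (((1 + c) / c) • u) := h.smul (div_ne_zero h1c hc)
    refine stab_transitive hM ?_ ?_ h2
    · intro h6
      have h7 := W.smul_mem ((1 + c) / c)⁻¹ h6
      rw [smul_smul, inv_mul_cancel₀ (div_ne_zero h1c hc), one_smul] at h7
      exact hu h7
    · have h8 : u' - ((1 + c) / c) • u = c⁻¹ • (-w) := by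
        apply smul_right_injective (Fin n → F) hc
        simp only [smul_sub, smul_smul, mul_div_cancel₀ _ hc, mul_inv_cancel₀ hc, one_smul]
        rw [key]; module
      rw [h8]; exact W.smul_mem _ (W.neg_mem hw)
  · obtain ⟨φ, hφW, hφu⟩ := exists_dual_eq_one hd
    have hd0 : φ (u' - u) = 0 :=
      hφW _ (Submodule.mem_sup_right (Submodule.mem_span_singleton_self _))
    have hmem : tv (u' - u) φ ∈ M :=
      hM ⟨mem_stab_of_le fun v hv => by
        rw [tv_apply hd0, hφW v (Submodule.mem_sup_left hv), zero_smul, add_zero]; exact hv,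
        tv_mem_sl _ _⟩
    simpa [tv_apply hd0, hφu] using h.conj hmem


/-- For a finite field F and n ≥ 13, the stabiliser in SL_n(F) of any proper non-zero subspace W of F^n is a maximal subgroup of SL_n(F). Here SL_n(F) is the kernel of the determinant inside GL_n(F) and the stabiliser is the set of elements of determinant one mapping W onto itself. -/
theorem result {F : Type*} [Field F] [Fintype F] (n : ℕ) (hn : 13 ≤ n) (W : Submodule F (Fin n → F)) (hW0 : W ≠ ⊥) (hW1 : W ≠ ⊤) : Cfsg.Geo.IsMaximalIn (Cfsg.Geo.specialLinear (Fin n) F) (Cfsg.Geo.subspaceStabilizer W ⊓ Cfsg.Geo.specialLinear (Fin n) F) := by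
  classical
  obtain ⟨w0, hw0W, hw0⟩ := Submodule.exists_mem_ne_zero_of_ne_bot hW0
  obtain ⟨u0, -, hu0⟩ := SetLike.exists_of_lt (lt_top_iff_ne_top.2 hW1)
  refine isMaximalIn_of_forall inf_le_right ?_ ?_
  · obtain ⟨φ, hφ, hφw⟩ := exists_dual_eq_one (W := Submodule.span F {u0}) (u := w0) (by
      intro h
      obtain ⟨a, ha⟩ := Submodule.mem_span_singleton.1 h
      rcases eq_or_ne a 0 with rfl | ha0
      · simp [eq_comm, hw0] at ha
      · exact hu0 (by simpa [← ha, smul_smul, inv_mul_cancel₀ ha0] using W.smul_mem a⁻¹ hw0W))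
    have hu : φ u0 = 0 := hφ u0 (Submodule.mem_span_singleton_self u0)
    refine ⟨tv u0 φ, tv_mem_sl _ _, fun h => ?_⟩
    have h2 := mem_stab_iff.1 h.1 w0 hw0W
    rw [tv_apply hu, hφw, one_smul] at h2
    exact hu0 ((Submodule.add_mem_iff_right W hw0W).1 h2)
  · intro M hHM hMK g hgM hgH
    have hW : ∀ v ∈ W, IsFull M v := fun v hv φ hφ =>
      ⟨hφ, fun c => hHM ⟨mem_stab_of_le fun x hx => by
        rw [tv_apply (by simp [hφ])]
        exact W.add_mem hx (W.smul_mem _ hv), tv_mem_sl _ _⟩⟩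
    obtain ⟨w, hwW, hgw⟩ : ∃ w ∈ W, app g w ∉ W := by
      by_contra h
      push Not at h
      exact hgH ⟨mem_stab_of_le h, hMK hgM⟩
    refine sl_le_of_isFull M fun v _ => ?_
    by_cases hv : v ∈ W
    · exact hW v hv
    · exact stab_transitive' hHM hgw hv ((hW w hwW).conj hgM)

end Cfsg.Agent.S5631
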