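import Cfsg.Statements.S5632
import Cfsg.Agent.EqLemmas
import Cfsg.Agent.Lib.Transvect.Basic

set_option autoImplicit false
open Cfsg

namespace Cfsg.Agent.S5632

open Cfsg.Agent.Transvect

/-- For a finite field F and subspaces 0 < W < U of F^n with dim W + dim U = n, the elements of SL_n(F) stabilising both W and U form a subgroup that is not maximal in SL_n(F): some subgroup lies strictly between it and SL_n(F). -/
theorem result {F : Type*} [Field F] [Fintype F] (n : ℕ) (W U : Submodule F (Fin n → F)) (hW0 : W ≠ ⊥) (hWU : W < U) (hdim : Module.finrank F W + Module.finrank F U = n) : ∃ K : Subgroup (Matrix.GeneralLinearGroup (Fin n) F), Cfsg.Geo.subspaceStabilizer W ⊓ Cfsg.Geo.subspaceStabilizer U ⊓ Cfsg.Geo.specialLinear (Fin n) F < K ∧ K < Cfsg.Geo.specialLinear (Fin n) F := by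
  classical
  obtain ⟨u, huU, huW⟩ := SetLike.exists_of_lt hWU
  obtain ⟨w, hwW, hw0⟩ := Submodule.exists_mem_ne_zero_of_ne_bot hW0
  have hU : U ≠ ⊤ := by
    rintro rfl
    rw [finrank_top, Module.finrank_fin_fun] at hdim
    have : 0 < Module.finrank F W :=
      Module.finrank_pos_iff_exists_ne_zero.2 ⟨⟨w, hwW⟩, fun h => hw0 (congrArg Subtype.val h)⟩
    omega
  obtain ⟨x, hx⟩ := SetLike.exists_of_lt (lt_top_iff_ne_top.2 hU)
  refine ⟨Cfsg.Geo.subspaceStabilizer W ⊓ Cfsg.Geo.specialLinear (Fin n) F,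
    lt_of_le_of_ne (inf_le_inf_right _ inf_le_left) ?_, lt_of_le_of_ne inf_le_right ?_⟩
  · intro he
    obtain ⟨φ, hφW, hφu⟩ := exists_dual_eq_one (W := W) huW
    let y := x - φ x • u
    have hy : φ y = 0 := by simp [y, hφu]
    have hmem : tv y φ ∈ Cfsg.Geo.subspaceStabilizer W ⊓ Cfsg.Geo.specialLinear (Fin n) F := by
      refine ⟨mem_stab_of_le fun v hv => ?_, tv_mem_sl _ _⟩
      rw [tv_apply hy, hφW v hv, zero_smul, add_zero]; exact hv
    rw [← he] at hmem
    have h2 := mem_stab_iff.1 hmem.1.2 u huU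
    rw [tv_apply hy, hφu, one_smul] at h2
    have h3 : y ∈ U := (Submodule.add_mem_iff_right U huU).1 h2
    have h4 : x ∈ U := by
      have := U.add_mem h3 (U.smul_mem (φ x) huU)
      simpa [y] using this
    exact hx.2 h4
  · intro he
    obtain ⟨φ, hφW, hφu⟩ := exists_dual_eq_one (W := Submodule.span F {u}) (u := w) (by
      intro h
      obtain ⟨a, ha⟩ := Submodule.mem_span_singleton.1 h
      rcases eq_or_ne a 0 with rfl | ha0
      · simp [eq_comm, hw0] at ha
      · exact huW (by simpa [← ha, smul_smul, inv_mul_cancel₀ ha0] using W.smul_mem a⁻¹ hwW))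
    have hu : φ u = 0 := hφW u (Submodule.mem_span_singleton_self u)
    have hmem : tv u φ ∈ Cfsg.Geo.specialLinear (Fin n) F := tv_mem_sl _ _
    rw [← he] at hmem
    have h2 := mem_stab_iff.1 hmem.1 w hwW
    rw [tv_apply hu, hφu, one_smul] at h2
    exact huW ((Submodule.add_mem_iff_right W hwW).1 h2)

end Cfsg.Agent.S5632
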