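import Cfsg.Statements.S5633
import Cfsg.Agent.EqLemmas
import Cfsg.Agent.Lib.Transvect.Basic

set_option autoImplicit false
open Cfsg

namespace Cfsg.Agent.S5633

open Cfsg.Agent.Transvect

/-- For a finite field F and complementary non-zero subspaces W ⊕ U = F^n with dim W < dim U, the elements of SL_n(F) stabilising both W and U form a subgroup that is not maximal in SL_n(F): some subgroup lies strictly between it and SL_n(F). -/
theorem result {F : Type*} [Field F] [Fintype F] (n : ℕ) (W U : Submodule F (Fin n → F)) (hW0 : W ≠ ⊥) (hWU : W ⊓ U = ⊥) (hWU' : W ⊔ U = ⊤) (hdim : Module.finrank F W < Module.finrank F U) : ∃ K : Subgroup (Matrix.GeneralLinearGroup (Fin n) F), Cfsg.Geo.subspaceStabilizer W ⊓ Cfsg.Geo.subspaceStabilizer U ⊓ Cfsg.Geo.specialLinear (Fin n) F < K ∧ K < Cfsg.Geo.specialLinear (Fin n) F := by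
  classical
  obtain ⟨w, hwW, hw0⟩ := Submodule.exists_mem_ne_zero_of_ne_bot hW0
  have hU0 : U ≠ ⊥ := by
    rintro rfl
    simp at hdim
  obtain ⟨u, huU, hu0⟩ := Submodule.exists_mem_ne_zero_of_ne_bot hU0
  have huW : u ∉ W := fun h => hu0 (by
    have : u ∈ W ⊓ U := ⟨h, huU⟩
    rwa [hWU, Submodule.mem_bot] at this)
  have hwU : w ∉ U := fun h => hw0 (by
    have : w ∈ W ⊓ U := ⟨hwW, h⟩
    rwa [hWU, Submodule.mem_bot] at this)
  refine ⟨Cfsg.Geo.subspaceStabilizer W ⊓ Cfsg.Geo.specialLinear (Fin n) F,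
    lt_of_le_of_ne (inf_le_inf_right _ inf_le_left) ?_, lt_of_le_of_ne inf_le_right ?_⟩
  · intro he
    obtain ⟨φ, hφW, hφu⟩ := exists_dual_eq_one (W := W) huW
    have hw : φ w = 0 := hφW w hwW
    have hmem : tv w φ ∈ Cfsg.Geo.subspaceStabilizer W ⊓ Cfsg.Geo.specialLinear (Fin n) F := by
      refine ⟨mem_stab_of_le fun v hv => ?_, tv_mem_sl _ _⟩
      rw [tv_apply hw, hφW v hv, zero_smul, add_zero]; exact hv
    rw [← he] at hmem
    have h2 := mem_stab_iff.1 hmem.1.2 u huU
    rw [tv_apply hw, hφu, one_smul] at h2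
    exact hwU ((Submodule.add_mem_iff_right U huU).1 h2)
  · intro he
    obtain ⟨φ, hφU, hφw⟩ := exists_dual_eq_one (W := U) hwU
    have hu : φ u = 0 := hφU u huU
    have hmem : tv u φ ∈ Cfsg.Geo.specialLinear (Fin n) F := tv_mem_sl _ _
    rw [← he] at hmem
    have h2 := mem_stab_iff.1 hmem.1 w hwW
    rw [tv_apply hu, hφw, one_smul] at h2
    exact huW ((Submodule.add_mem_iff_right W hwW).1 h2)

end Cfsg.Agent.S5633
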