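import Cfsg.Statements.S5634
import Cfsg.Agent.Lib.Transvect.BlockLine

set_option autoImplicit false
open Cfsg

namespace Cfsg.Agent.S5634

/-- For a finite field F with q elements and n ≥ 13, let D be a decomposition of F^n into t ≥ 2 independent subspaces of equal dimension m ≥ 1 spanning F^n. Unless m = 1 and q ≤ 4, or m = 2 and q = 2, the elements of SL_n(F) permuting the members of D form a maximal subgroup of SL_n(F). -/
theorem result {F : Type*} [Field F] [Fintype F] (n : ℕ) (hn : 13 ≤ n) {t : ℕ} (m : ℕ) (D : Fin t → Submodule F (Fin n → F)) (hD : Cfsg.Geo.IsMDecomposition m D) (h1 : ¬ (m = 1 ∧ Fintype.card F ≤ 4)) (h2 : ¬ (m = 2 ∧ Fintype.card F = 2)) : Cfsg.Geo.IsMaximalIn (Cfsg.Geo.specialLinear (Fin n) F) (Cfsg.Geo.decompositionStabilizer D ⊓ Cfsg.Geo.specialLinear (Fin n) F) := by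
  refine Transvect.isMaximalIn_of_forall inf_le_right ?_ fun M hHM hMS g hg hgH => ?_
  · obtain ⟨x, hx, hx'⟩ := Transvect.exists_sl_notMem_stab hD
    exact ⟨x, hx, fun h => hx' h.1⟩
  · have hgD : g ∉ Cfsg.Geo.decompositionStabilizer D := fun h => hgH ⟨h, hMS hg⟩
    rcases Nat.eq_or_lt_of_le (Nat.succ_le_of_lt hD.pos) with hm | hm
    · subst hm
      exact Transvect.sl_le_of_not_line hD (by rw [Fintype.card_fin]; omega) (by omega) hHM hMS hg hgD
    · exact Transvect.sl_le_of_not_block hD hHM (by omega) (by rw [Fintype.card_fin]; omega) h2 hg hgD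

end Cfsg.Agent.S5634
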