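import Cfsg.Statements.S5635
import Cfsg.Agent.Lib.Transvect.NonMax

set_option autoImplicit false
open Cfsg

namespace Cfsg.Agent.S5635

open Cfsg.Agent.Transvect

/-- For a finite field F with q elements and n ≥ 13, let D be a decomposition of F^n into t ≥ 2 independent subspaces of equal dimension m spanning F^n, where m = 1 and q ≤ 4, or m = 2 and q = 2. Then the elements of SL_n(F) permuting the members of D form a subgroup that is not maximal: some subgroup lies strictly between it and SL_n(F). -/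
theorem result {F : Type*} [Field F] [Fintype F] (n : ℕ) (hn : 13 ≤ n) {t : ℕ} (m : ℕ) (D : Fin t → Submodule F (Fin n → F)) (hD : Cfsg.Geo.IsMDecomposition m D) (h : (m = 1 ∧ Fintype.card F ≤ 4) ∨ (m = 2 ∧ Fintype.card F = 2)) : ∃ K : Subgroup (Matrix.GeneralLinearGroup (Fin n) F), Cfsg.Geo.decompositionStabilizer D ⊓ Cfsg.Geo.specialLinear (Fin n) F < K ∧ K < Cfsg.Geo.specialLinear (Fin n) F := by
  classical
  have hq4 : Fintype.card F ≤ 4 := by rcases h with ⟨-, h⟩ | ⟨-, h⟩ <;> omega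
  have h5 : (5 : F) ≠ 0 := five_ne_zero_of (two_or_three_eq_zero hq4)
  have hnt : n ≤ t * m := by simpa using card_le_mul hD
  have ht : 4 ≤ t := by rcases h with ⟨hm, -⟩ | ⟨hm, -⟩ <;> subst hm <;> omega
  let e : Fin 4 → Fin t := Fin.castLE ht
  obtain ⟨g, hgN, hgD⟩ : ∃ g, g ∈ fixer (nblocks hD) ∧ g ∉ Geo.decompositionStabilizer D := by
    rcases h with ⟨hm, hq⟩ | ⟨hm, hq⟩
    · let ψ : ∀ k, F ≃ₗ[F] D (e k) := fun k =>
        LinearEquiv.ofFinrankEq _ _ (by rw [Module.finrank_self, hD.finrank_eq, hm])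
      obtain ⟨g, -, hg⟩ := exists_mix hD e (Fin.castLE_injective ht) ψ h5 fun c => nblocks_id_line hq c
      exact ⟨g, hg⟩
    · let ψ : ∀ k, (F × F) ≃ₗ[F] D (e k) := fun k =>
        LinearEquiv.ofFinrankEq _ _ (by rw [Module.finrank_prod, Module.finrank_self, hD.finrank_eq, hm])
      obtain ⟨g, -, hg⟩ := exists_mix hD e (Fin.castLE_injective ht) ψ h5
        fun c => by convert nblocks_id_plane hq c
      exact ⟨g, hg⟩
  obtain ⟨k, hk, hkg⟩ := exists_det_fix hD g
  refine exists_between (fixer (nblocks hD)) (inf_le_left.trans (stab_le_fixer hD)) inf_le_right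
    ⟨k * g, mul_mem (stab_le_fixer hD hk) hgN, hkg,
      fun hc => hgD ((Subgroup.mul_mem_cancel_left _ hk).1 hc.1)⟩ ?_
  let i0 : Fin t := ⟨0, by omega⟩
  let i1 : Fin t := ⟨1, by omega⟩
  have h01 : i0 ≠ i1 := by simp [i0, i1, Fin.ext_iff]
  obtain ⟨a, ha, ha0⟩ := exists_notMem hD (i := i0) (W := ⊥) (by rw [finrank_bot]; exact hD.pos)
  obtain ⟨b, hb, hb0⟩ := exists_notMem hD (i := i1) (W := ⊥) (by rw [finrank_bot]; exact hD.pos)
  obtain ⟨θ, hθ, hθb, -⟩ := exists_blk_dual hD hb hb0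
  refine ⟨tv a θ, tv_mem_sl _ _, fun hc => ?_⟩
  have h1 := hc b
  have ha' : a ≠ 0 := by simpa using ha0
  have hb' : b ≠ 0 := by simpa using hb0
  rw [tv_apply (hθ i0 h01 a ha), hθb, one_smul, nblocks_add hD h01.symm hb hb' ha ha',
    nblocks_of_mem hD hb hb'] at h1
  exact one_ne_zero (show (1 : F) = 0 by linear_combination h1)

end Cfsg.Agent.S5635
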