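import Cfsg.Statements.S5638
import Cfsg.Agent.Lib.Transvect.TensorFrame

set_option autoImplicit false
open Cfsg

namespace Cfsg.Agent.S5638

open Cfsg.Agent.Transvect
open Cfsg.Agent.PrimeDim Cfsg.Agent.Aschbacher
open scoped Matrix Kronecker

variable {ι : Type} [Fintype ι] [DecidableEq ι] {F : Type*} [Field F]

/-- The elements conjugating J to J or J + 1. -/
def twoNorm (h2 : (2 : F) = 0) (J : Matrix ι ι F) : Subgroup (Matrix.GeneralLinearGroup ι F) :=
  have h11 : (J + 1) + 1 = J := by
    rw [add_assoc]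
    have : (1 + 1 : Matrix ι ι F) = (2 : F) • 1 := by rw [two_smul]
    rw [this, h2, zero_smul, add_zero]
  { carrier := {g | cj g J = J ∨ cj g J = J + 1}
    one_mem' := Or.inl (by simp [cj])
    mul_mem' := fun {g h} hg hh => by
      have hc : cj (g * h) J = cj g (cj h J) := by simp [cj, mul_assoc]
      rcases hh with hh | hh <;> rcases hg with hg | hg <;>
        simp only [Set.mem_ofPred_eq, hc, hh, map_add, map_one, hg, h11] <;> simp
    inv_mem' := fun {g} hg => by
      have hc : cj g⁻¹ (cj g J) = J := by simp [cj, mul_assoc]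
      rcases hg with hg | hg
      · left; rw [hg] at hc; exact hc
      · right
        rw [hg, map_add, map_one] at hc
        calc cj g⁻¹ J = cj g⁻¹ J + 1 + 1 := by
              rw [add_assoc, show (1 + 1 : Matrix ι ι F) = (2 : F) • 1 by rw [two_smul], h2, zero_smul, add_zero]
          _ = J + 1 := by rw [hc] }


/-- Over the field with 2 elements, for n = 2 n₂ ≥ 13, the stabiliser in SL_n of a tensor decomposition with factors of dimensions 2 and n₂ (the conjugate by any P of the Kronecker-product subgroup transported along any bijection Fin n ≃ Fin 2 × Fin n₂, intersected with SL_n) is not a maximal subgroup: some subgroup lies strictly between it and SL_n. -/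
theorem result {F : Type*} [Field F] [Fintype F] (n : ℕ) (hn : 13 ≤ n) (hq : Fintype.card F = 2) (n₂ : ℕ) (e : Fin n ≃ Fin 2 × Fin n₂) (P : Matrix.GeneralLinearGroup (Fin n) F) : ∃ K : Subgroup (Matrix.GeneralLinearGroup (Fin n) F), Cfsg.Geo.tensorProductSubgroup 2 n₂ e P ⊓ Cfsg.Geo.specialLinear (Fin n) F < K ∧ K < Cfsg.Geo.specialLinear (Fin n) F := by
  classical
  have h2 : (2 : F) = 0 := by
    have hz := FiniteField.cast_card_eq_zero F
    rw [hq] at hz
    simpa using hz
  have hsl : ∀ g : Matrix.GeneralLinearGroup (Fin n) F, g ∈ Cfsg.Geo.specialLinear (Fin n) F :=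
    fun g => mem_sl_iff.2 ((zero_or_one hq _).resolve_left g.det_ne_zero)
  have hn₂ : n = 2 * n₂ := by simpa using Fintype.card_congr e
  let w : Matrix (Fin 2) (Fin 2) F := !![0, 1; 1, 1]
  let E : Matrix (Fin 2) (Fin 2) F := !![0, 1; 0, 0]
  let k0 : Fin n₂ := ⟨0, by omega⟩
  let k1 : Fin n₂ := ⟨1, by omega⟩
  have hk : k0 ≠ k1 := by simp [k0, k1, Fin.ext_iff]
  let N : Matrix (Fin n₂) (Fin n₂) F := Matrix.single k0 k1 1
  have hN : N * N = 0 := Matrix.single_mul_single_of_ne _ _ _ _ hk.symm _
  have hneg : ∀ (X : Matrix (Fin 2) (Fin 2) F) (Y : Matrix (Fin n₂) (Fin n₂) F),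
      tens e X Y + tens e X Y = 0 := fun X Y => by rw [← two_smul F, h2, zero_smul]
  have hsq : ∀ X : Matrix (Fin 2) (Fin 2) F, (1 + tens e X N) * (1 + tens e X N) = 1 := fun X => by
    have : tens e X N * tens e X N = 0 := by
      rw [tens_mul, hN]
      ext a b
      simp [tens_apply]
    rw [add_mul, mul_add, mul_add, one_mul, one_mul, mul_one, this, add_zero, add_assoc, hneg, add_zero]
  let T : Matrix (Fin 2) (Fin 2) F → Matrix.GeneralLinearGroup (Fin n) F := fun X =>
    ⟨cj P (1 + tens e X N), cj P (1 + tens e X N),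
      by rw [← map_mul, hsq, map_one], by rw [← map_mul, hsq, map_one]⟩
  have hT : ∀ X (Z : Matrix (Fin n) (Fin n) F),
      cj (T X) (cj P Z) = cj P ((1 + tens e X N) * Z * (1 + tens e X N)) := fun X Z => by
    show cj P (1 + tens e X N) * cj P Z * cj P (1 + tens e X N) = _
    rw [map_mul, map_mul]
  have hinj : Function.Injective (cj P : Matrix (Fin n) (Fin n) F → Matrix (Fin n) (Fin n) F) := by
    intro x y h
    have := congrArg (cj P⁻¹) h
    simpa [cj, mul_assoc] using this
  set J := cj P (tens e w 1) with hJ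
  have hentry : ∀ (X : Matrix (Fin 2) (Fin 2) F) (Y : Matrix (Fin n₂) (Fin n₂) F) i j k l,
      tens e X Y (e.symm (i, k)) (e.symm (j, l)) = X i j * Y k l := fun X Y i j k l => by
    simp [tens_apply]
  have hone : ∀ i j k l, (1 : Matrix (Fin n) (Fin n) F) (e.symm (i, k)) (e.symm (j, l)) =
      (1 : Matrix (Fin 2) (Fin 2) F) i j * (1 : Matrix (Fin n₂) (Fin n₂) F) k l := fun i j k l => by
    rw [← tens_one e, hentry]
  refine Transvect.exists_between (twoNorm h2 J) ?_ inf_le_right ⟨T w, ?_, hsl _, ?_⟩ ⟨T E, hsl _, ?_⟩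
  · rintro g ⟨hg, -⟩
    obtain ⟨a, b, hab⟩ := (mem_tensorProductSubgroup_iff e P g).1 hg
    have ha : (a : Matrix (Fin 2) (Fin 2) F) * w = w * a ∨
        (a : Matrix (Fin 2) (Fin 2) F) * w = (w + 1) * a := by
      have hd := a.det_ne_zero
      have hA : (a : Matrix (Fin 2) (Fin 2) F) = !![a.1 0 0, a.1 0 1; a.1 1 0, a.1 1 1] :=
        Matrix.eta_fin_two _
      rw [Matrix.det_fin_two] at hd
      rw [hA]
      generalize (a : Matrix (Fin 2) (Fin 2) F) 0 0 = p at hd ⊢
      generalize (a : Matrix (Fin 2) (Fin 2) F) 0 1 = q at hd ⊢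
      generalize (a : Matrix (Fin 2) (Fin 2) F) 1 0 = r at hd ⊢
      generalize (a : Matrix (Fin 2) (Fin 2) F) 1 1 = s at hd ⊢
      rcases zero_or_one hq p with rfl | rfl <;> rcases zero_or_one hq q with rfl | rfl <;>
        rcases zero_or_one hq r with rfl | rfl <;> rcases zero_or_one hq s with rfl | rfl <;> first
        | (exfalso; simp at hd; done)
        | (left; simp [w, show (1 : F) + 1 = 0 by linear_combination h2]; done)
        | (right; simp [w, Matrix.one_fin_two, show (1 : F) + 1 = 0 by linear_combination h2]; done)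
    have hinv : ((g⁻¹ : Matrix.GeneralLinearGroup (Fin n) F) : Matrix (Fin n) (Fin n) F) =
        cj P (tens e ((a⁻¹ : Matrix.GeneralLinearGroup (Fin 2) F) : Matrix (Fin 2) (Fin 2) F)
          ((b⁻¹ : Matrix.GeneralLinearGroup (Fin n₂) F) : Matrix (Fin n₂) (Fin n₂) F)) := by
      refine Units.inv_eq_of_mul_eq_one_right ?_
      rw [hab, ← map_mul, tens_mul, Units.mul_inv, Units.mul_inv, tens_one, map_one]
    have hg' : cj g J = cj P (tens e ((a : Matrix (Fin 2) (Fin 2) F) * w *
        ((a⁻¹ : Matrix.GeneralLinearGroup (Fin 2) F) : Matrix (Fin 2) (Fin 2) F)) 1) := by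
      show (g : Matrix (Fin n) (Fin n) F) * J * _ = _
      rw [hinv, hab, hJ, ← map_mul, ← map_mul, tens_mul, tens_mul, mul_one, Units.mul_inv]
    rcases ha with ha | ha
    · left
      rw [hg', ha, mul_assoc, Units.mul_inv, mul_one]
    · right
      rw [hg', ha, mul_assoc, Units.mul_inv, mul_one, hJ, ← map_one (cj P), ← map_add]
      congr 1
      ext x y
      rw [tens_apply, Matrix.add_apply, Matrix.add_apply, tens_apply, add_mul, ← tens_one e, tens_apply]
  · left
    have hc : (1 + tens e w N) * tens e w 1 = tens e w 1 * (1 + tens e w N) := by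
      rw [add_mul, mul_add, one_mul, mul_one, tens_mul, tens_mul, mul_one, one_mul]
    rw [hJ, hT, hc, mul_assoc, hsq, mul_one]
  · intro hc
    obtain ⟨a, b, hab⟩ := (mem_tensorProductSubgroup_iff e P (T w)).1 hc.1
    have h1 : 1 + tens e w N = tens e (a : Matrix (Fin 2) (Fin 2) F) (b : Matrix _ _ F) := hinj hab
    have ev : ∀ i j k l, (1 : Matrix (Fin 2) (Fin 2) F) i j * (1 : Matrix (Fin n₂) (Fin n₂) F) k l +
        w i j * N k l = a.1 i j * b.1 k l := fun i j k l => by
      have := congrFun (congrFun h1 (e.symm (i, k))) (e.symm (j, l))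
      rwa [Matrix.add_apply, hone, hentry, hentry] at this
    have e0 := ev 0 0 k0 k0
    have e1 := ev 0 0 k0 k1
    have e2 := ev 0 1 k0 k1
    simp [w, N, hk] at e0 e1 e2
    rcases e1 with h | h
    · rw [h, zero_mul] at e0; exact one_ne_zero e0
    · rw [h, mul_zero] at e2; exact one_ne_zero e2
  · intro hc
    have key : (1 + tens e E N) * tens e w 1 * (1 + tens e E N) =
        tens e w 1 + (tens e (E * w) N + tens e (w * E) N) := by
      simp only [add_mul, mul_add, one_mul, mul_one, tens_mul, hN]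
      have h0 : ∀ X, tens e X (0 : Matrix (Fin n₂) (Fin n₂) F) = 0 := fun X => by
        ext x y; simp [tens_apply]
      rw [h0]
      abel
    have hv : ∀ Z, cj (T E) J = cj P Z →
        tens e w 1 + (tens e (E * w) N + tens e (w * E) N) = Z := fun Z hZ => by
      rw [hJ, hT, key] at hZ
      exact hinj hZ
    rcases hc with hc | hc
    · have h1 := congrFun (congrFun (hv _ (hc.trans hJ)) (e.symm (0, k0))) (e.symm (1, k1))
      simp [hentry, w, E, N, hk, Matrix.mul_apply, Fin.sum_univ_two] at h1
    · have h1 := congrFun (congrFun (hv (tens e w 1 + 1) (by rw [hc, hJ, map_add, map_one]))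
        (e.symm (0, k0))) (e.symm (1, k1))
      simp [hentry, hone, w, E, N, hk, Matrix.mul_apply, Fin.sum_univ_two] at h1

end Cfsg.Agent.S5638
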