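import Cfsg.Statements.S5639
import Cfsg.Agent.Lib.C5.Linear
import Cfsg.Agent.Lib.C5.Transfer

set_option autoImplicit false
open Cfsg

namespace Cfsg.Agent.S5639

/-- For a finite field F, a subfield F₀ with |F| = |F₀| ^ r for a prime r, and n ≥ 13, the subfield group (the conjugate by any P of the product of GL_n(F₀) with the non-zero scalars of F, intersected with SL_n(F)) is a maximal subgroup of SL_n(F). -/
theorem result {F : Type*} [Field F] [Fintype F] (n : ℕ) (hn : 13 ≤ n) (F₀ : Subfield F) (r : ℕ) (hr : r.Prime) (hcard : Fintype.card F = Nat.card F₀ ^ r) (P : Matrix.GeneralLinearGroup (Fin n) F) : Cfsg.Geo.IsMaximalIn (Cfsg.Geo.specialLinear (Fin n) F) (Cfsg.Geo.subfieldSubgroup F₀ P ⊓ Cfsg.Geo.specialLinear (Fin n) F) := by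
  classical
  have key : Cfsg.Geo.IsMaximalIn (Cfsg.Geo.specialLinear (Fin n) F)
      (Cfsg.Geo.subfieldSubgroup F₀ 1 ⊓ Cfsg.Geo.specialLinear (Fin n) F) := by
    refine Transvect.isMaximalIn_of_forall inf_le_right ?_ fun M hHM hMK g hg hgH =>
      C5.sl_le_of_not_mem hr hcard (by rw [Fintype.card_fin]; omega) hHM hg fun h => hgH ⟨h, hMK hg⟩
    obtain ⟨l, hl⟩ : ∃ l : F, l ∉ F₀ := by
      by_contra! hall
      have h1 : Nat.card F₀ = Fintype.card F := by
        rw [← Nat.card_eq_fintype_card]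
        exact Nat.card_congr (Equiv.subtypeUnivEquiv hall)
      have h2 := Nat.pow_lt_pow_right (Fintype.one_lt_card (α := F)) hr.one_lt
      rw [pow_one] at h2
      rw [h1] at hcard
      omega
    let i : Fin n := ⟨0, by omega⟩
    let j : Fin n := ⟨1, by omega⟩
    have hij : i ≠ j := by simp [i, j]
    refine ⟨Transvect.tv (Pi.single i 1) (l • LinearMap.proj j), Transvect.tv_mem_sl _ _, fun h => ?_⟩
    obtain ⟨c, hc, hrat⟩ := C5.ratLine_mem_iff.1 h.1
    have hv : (l • LinearMap.proj j : (Fin n → F) →ₗ[F] F) (Pi.single i 1) = 0 := by simp [hij.symm]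
    have e1 := hrat _ (C5.rat_single i) i
    have e2 := hrat _ (C5.rat_single j) i
    rw [Transvect.tv_apply hv] at e1 e2
    simp [hij, hij.symm] at e1 e2
    apply hl
    have h3 := F₀.mul_mem e2 e1
    rw [mul_comm c⁻¹, mul_assoc, inv_mul_cancel₀ hc, mul_one] at h3
    exact h3
  have h1 := C5.isMaximalIn_map (MulAut.conj P) key
  rw [Subgroup.map_inf _ _ (MulAut.conj P).toMonoidHom (MulEquiv.injective _),
    C5.specialLinear_map_conj, ← C5.subfieldSubgroup_eq_map] at h1
  exact h1

end Cfsg.Agent.S5639
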