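import Cfsg.Statements.S5641
import Cfsg.Agent.Lib.C7.Main
import Cfsg.Agent.Lib.C5.Transfer

set_option autoImplicit false
open Cfsg

namespace Cfsg.Agent.S5641

open Cfsg.Agent.Transvect in
/-- Reindexing preserves `SL`. -/
lemma specialLinear_map_glReindex {F : Type*} [Field F] {ι κ : Type} [Fintype ι] [DecidableEq ι]
    [Fintype κ] [DecidableEq κ] (e : κ ≃ ι) :
    (Cfsg.Geo.specialLinear κ F).map (Cfsg.Geo.glReindex e).toMonoidHom =
      Cfsg.Geo.specialLinear ι F := by
  have key : ∀ g : Matrix.GeneralLinearGroup κ F,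
      Cfsg.Geo.glReindex e g ∈ Cfsg.Geo.specialLinear ι F ↔ g ∈ Cfsg.Geo.specialLinear κ F := by
    intro g
    rw [mem_sl_iff, mem_sl_iff,
      show ((Cfsg.Geo.glReindex e g : Matrix.GeneralLinearGroup ι F) : Matrix ι ι F) =
        Matrix.reindex e e (g : Matrix κ κ F) from rfl, Matrix.det_reindex_self]
  ext g
  rw [Subgroup.mem_map]
  exact ⟨fun ⟨x, hx, hxe⟩ => hxe ▸ (key x).2 hx,
    fun hg => ⟨(Cfsg.Geo.glReindex e).symm g, (key _).1 (by simpa using hg), by simp⟩⟩

/-- For a finite field F and n = m ^ t ≥ 13 with m ≥ 3 and t ≥ 2, the stabiliser in SL_n(F) of a tensor decomposition of F^n into t factors of dimension m (the conjugate by any P of the standard tensor-wreath subgroup transported along any bijection Fin n ≃ (Fin t → Fin m), intersected with SL_n(F)) is a maximal subgroup of SL_n(F). -/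
theorem result {F : Type*} [Field F] [Fintype F] (n : ℕ) (hn : 13 ≤ n) (m t : ℕ) (hm : 3 ≤ m) (ht : 2 ≤ t) (e : Fin n ≃ (Fin t → Fin m)) (P : Matrix.GeneralLinearGroup (Fin n) F) : Cfsg.Geo.IsMaximalIn (Cfsg.Geo.specialLinear (Fin n) F) (Cfsg.Geo.tensorWreathSubgroup m t e P ⊓ Cfsg.Geo.specialLinear (Fin n) F) := by
  obtain ⟨s, rfl⟩ : ∃ s, t = s + 2 := ⟨t - 2, by omega⟩
  have h := C5.isMaximalIn_map (MulAut.conj P)
    (C5.isMaximalIn_map (Cfsg.Geo.glReindex e.symm) (C7.isMaximalIn_stab (F := F) (s := s) hm))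
  rw [C7.stab, C7.Wr, Subgroup.map_inf _ _ (Cfsg.Geo.glReindex e.symm).toMonoidHom
      (Cfsg.Geo.glReindex e.symm).injective,
    Subgroup.map_inf _ _ (MulAut.conj P).toMonoidHom (MulAut.conj P).injective,
    specialLinear_map_glReindex, C5.specialLinear_map_conj] at h
  exact h

end Cfsg.Agent.S5641
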