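import Cfsg.Statements.S5645
import Cfsg.Agent.EqLemmas
import Cfsg.Agent.Lib.Transvect.Symp

set_option autoImplicit false
open Cfsg

namespace Cfsg.Agent.S5645

open Cfsg.Agent.Transvect
open scoped MatrixGroups

variable {F : Type*} [Field F] {m : ℕ}

local notation "hs" => sympForm_isSymplectic (F := F) m

lemma st_mem_stab {W : Submodule F (Fin m ⊕ Fin m → F)} {v : Fin m ⊕ Fin m → F}
    (hv : v ∈ perp (sympForm_isSymplectic (F := F) m).bilinear W) (c : F) :
    st hs v c ∈ Cfsg.Geo.subspaceStabilizer W ⊓ Cfsg.spGL m F := by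
  refine ⟨mem_stab_of_le fun w hw => ?_, mem_spGL_iff.2 (st_isIsom _ _ _)⟩
  rw [st_apply, hv w hw, mul_zero, zero_smul, add_zero]; exact hw

/-- The statement in every degree covered by the proof. -/
theorem general {F : Type*} [Field F] [Fintype F] (m : ℕ) (hm : 3 ≤ m) (W : Submodule F (Fin m ⊕ Fin m → F)) (hW0 : W ≠ ⊥) (hW : Cfsg.Geo.IsTotallySingularFor (Cfsg.sympForm m F) W) : Cfsg.Geo.IsMaximalIn (Cfsg.spGL m F) (Cfsg.Geo.subspaceStabilizer W ⊓ Cfsg.spGL m F) := by
  classical
  have hf := sympForm_isSymplectic (F := F) m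
  set f := Cfsg.sympForm m F with hf_def
  obtain ⟨w0, hw0W, hw0⟩ := Submodule.exists_mem_ne_zero_of_ne_bot hW0
  have hWP : W ≤ perp hf.bilinear W := fun v hv w hw => hW w hw v hv
  refine isMaximalIn_of_forall inf_le_right ?_ ?_
  · obtain ⟨-, v, hv⟩ := hf.nondegenerate w0 hw0
    refine ⟨st hf v 1, mem_spGL_iff.2 (st_isIsom _ _ _), fun h => ?_⟩
    have h2 := mem_stab_iff.1 h.1 w0 hw0W
    rw [st_apply, Submodule.add_mem_iff_right W hw0W, one_mul] at h2
    have h3 := W.smul_mem (f w0 v)⁻¹ h2
    rw [smul_smul, inv_mul_cancel₀ hv, one_smul] at h3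
    exact hv (hW w0 hw0W v h3)
  · intro M hHM hMK g hgM hgH
    have hiso : ∀ {x}, x ∈ M → IsIsom f x := fun hx => mem_spGL_iff.1 (hMK hx)
    have hP : ∀ v ∈ perp hf.bilinear W, v ∈ centres hf M := fun v hv c => hHM (st_mem_stab hv c)
    obtain ⟨w, hwW, hgw⟩ : ∃ w ∈ W, app g w ∉ W := by
      by_contra h
      push Not at h
      exact hgH ⟨mem_stab_of_le h, hMK hgM⟩
    obtain ⟨v, hvS, hv⟩ : ∃ v ∈ centres hf M, v ∉ perp hf.bilinear W := by
      by_contra h
      push Not at h
      obtain ⟨φ, hφW, hφg⟩ := exists_dual_eq_one hgw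
      obtain ⟨z, rfl⟩ := flin_surjective hf.bilinear hf.nondegenerate φ
      have hz : z ∈ perp hf.bilinear W := fun x hx => hφW x hx
      have h1 := h _ (centres_conj hf (inv_mem hgM) (hiso (inv_mem hgM)) (hP z hz)) w hwW
      rw [← hiso hgM, app_app_inv] at h1
      exact one_ne_zero (hφg.symm.trans h1)
    -- adding elements of the perp
    have stepA : ∀ v ∈ centres hf M, v ∉ perp hf.bilinear W → ∀ y ∈ perp hf.bilinear W,
        v + y ∈ centres hf M := by
      intro v hvS hv y hy
      by_cases h : f v y = 0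
      · simp only [mem_perp, not_forall] at hv
        obtain ⟨b, hbW, hb⟩ := hv
        set b' := (f v b)⁻¹ • b with hb'
        have hbne : f v b ≠ 0 := fun h0 => hb (by rw [hf.skew, h0, neg_zero])
        have h1 : f v b' = 1 := by rw [hb', hf.bilinear.smul_right, inv_mul_cancel₀ hbne]
        have hbW' : b' ∈ W := W.smul_mem _ hbW
        have h2 : f v (y + b') ≠ 0 := by
          rw [hf.bilinear.add_right, h, h1, zero_add]; exact one_ne_zero
        have h3 : v + (1 : F) • (y + b') ∈ centres hf M :=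
          centres_step' hf (hP _ (Submodule.add_mem _ hy (hWP hbW'))) hvS h2 1
        rw [one_smul] at h3
        have h4 : f (v + (y + b')) b' ≠ 0 := by
          rw [hf.bilinear.add_left, hf.bilinear.add_left, h1, hf.alternating, hf.skew y b',
            hy b' hbW', neg_zero, add_zero, add_zero]
          exact one_ne_zero
        convert centres_step' hf (hP _ (hWP hbW')) h3 h4 (-1) using 1
        rw [neg_one_smul]; abel
      · simpa using centres_step' hf (hP y hy) hvS h 1
    refine spGL_le_of_centres M fun u => ?_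
    by_cases hu : u ∈ perp hf.bilinear W
    · exact hP u hu
    simp only [mem_perp, not_forall] at hu hv
    obtain ⟨b₁, hb₁, hb₁'⟩ := hu
    obtain ⟨b₂, hb₂, hb₂'⟩ := hv
    obtain ⟨b, hb, hub, hvb⟩ : ∃ b ∈ W, f u b ≠ 0 ∧ f v b ≠ 0 := by
      have h1 : f u b₁ ≠ 0 := fun h0 => hb₁' (by rw [hf.skew, h0, neg_zero])
      have h2 : f v b₂ ≠ 0 := fun h0 => hb₂' (by rw [hf.skew, h0, neg_zero])
      by_cases e1 : f v b₁ = 0
      · by_cases e2 : f u b₂ = 0
        · exact ⟨b₁ + b₂, W.add_mem hb₁ hb₂,
            by rw [hf.bilinear.add_right, e2, add_zero]; exact h1,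
            by rw [hf.bilinear.add_right, e1, zero_add]; exact h2⟩
        · exact ⟨b₂, hb₂, e2, h2⟩
      · exact ⟨b₁, hb₁, h1, e1⟩
    set r := f v b / f u b with hr
    have hr0 : r ≠ 0 := div_ne_zero hvb hub
    set a := r • u - v with ha
    have hab : f a b = 0 := by
      rw [← flin_apply hf.bilinear b a, ha, map_sub, map_smul]
      simp [hr, div_mul_cancel₀ _ hub]
    have hba : f b a = 0 := by rw [hf.skew, hab, neg_zero]
    -- the Siegel element x ↦ x + c (f(x,a) b + f(x,b) a)
    set c := (f v b)⁻¹ with hc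
    set σ := st hf (a + b) c * st hf a (-c) * st hf b (-c) with hσ
    have happ : ∀ x, app σ x = x + (c * f x a) • b + (c * f x b) • a := by
      intro x
      have e1 : app (st hf b (-c)) x = x + (-c * f x b) • b := st_apply hf b _ x
      have e2 : ∀ t : F, f (x + t • b) a = f x a := fun t => by
        rw [hf.bilinear.add_left, hf.bilinear.smul_left, hba, mul_zero, add_zero]
      have e3 : ∀ t t' : F, f (x + t • b + t' • a) (a + b) = f x a + f x b := fun t t' => by
        simp [hf.bilinear.add_left, hf.bilinear.add_right, hf.bilinear.smul_left, hab, hba,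
          hf.alternating]
      rw [hσ, map_mul, map_mul, LinearEquiv.mul_apply, LinearEquiv.mul_apply, e1, st_apply hf (a + b), st_apply hf a, e2,
        e3]
      module
    have hσH : σ ∈ Cfsg.Geo.subspaceStabilizer W ⊓ Cfsg.spGL m F := by
      refine ⟨mem_stab_of_le fun x hx => ?_, mem_spGL_iff.2
        (((st_isIsom _ _ _).mul (st_isIsom _ _ _)).mul (st_isIsom _ _ _))⟩
      rw [happ, hW x hx b hb, mul_zero, zero_smul, add_zero]
      exact W.add_mem hx (W.smul_mem _ hb)
    have h1 := centres_conj hf (hHM hσH) (hiso (hHM hσH)) hvS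
    rw [happ, hc, inv_mul_cancel₀ hvb, one_smul] at h1
    have h2 : v + ((f v b)⁻¹ * f v a) • b + a ∉ perp hf.bilinear W := fun h => by
      have := h b hb
      rw [hf.bilinear.add_right, hf.bilinear.add_right, hf.bilinear.smul_right, hf.alternating,
        hba, mul_zero, add_zero, add_zero, hf.skew, neg_eq_zero] at this
      exact hvb this
    have h3 := stepA _ h1 h2 (-(((f v b)⁻¹ * f v a) • b))
      (Submodule.neg_mem _ (Submodule.smul_mem _ _ (hWP hb)))
    have h4 := centres_smul hf h3 r⁻¹
    have h5 : v + ((f v b)⁻¹ * f v a) • b + a + -(((f v b)⁻¹ * f v a) • b) = r • u := by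
      rw [ha]; abel
    rwa [h5, smul_smul, inv_mul_cancel₀ hr0, one_smul] at h4

/-- For a finite field F and m ≥ 7, in the symplectic group Sp_2m(F) of the standard alternating form on F^(2m) (as a subgroup of GL_2m(F)), the stabiliser of any non-zero subspace on which the form vanishes identically is a maximal subgroup. -/
theorem result {F : Type*} [Field F] [Fintype F] (m : ℕ) (hm : 7 ≤ m) (W : Submodule F (Fin m ⊕ Fin m → F)) (hW0 : W ≠ ⊥) (hW : Cfsg.Geo.IsTotallySingularFor (Cfsg.sympForm m F) W) : Cfsg.Geo.IsMaximalIn (Cfsg.spGL m F) (Cfsg.Geo.subspaceStabilizer W ⊓ Cfsg.spGL m F) := by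
  apply general <;> first | assumption | omega

end Cfsg.Agent.S5645
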