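import Cfsg.Statements.S5646
import Cfsg.Agent.EqLemmas
import Cfsg.Agent.Lib.Transvect.Symp

set_option autoImplicit false
open Cfsg

namespace Cfsg.Agent.S5646

open Cfsg.Agent.Transvect
open scoped MatrixGroups

/-- The statement in every degree covered by the proof. -/
theorem general {F : Type*} [Field F] [Fintype F] (m : ℕ) (hm : 3 ≤ m) (W : Submodule F (Fin m ⊕ Fin m → F)) (hW0 : W ≠ ⊥) (hW : Cfsg.Geo.IsNondegenerateOn (Cfsg.sympForm m F) W) (hdim : Module.finrank F W < m) : Cfsg.Geo.IsMaximalIn (Cfsg.spGL m F) (Cfsg.Geo.subspaceStabilizer W ⊓ Cfsg.spGL m F) := by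
  classical
  have hf := sympForm_isSymplectic (F := F) m
  set f := Cfsg.sympForm m F with hf_def
  obtain ⟨p, hp1, hp2, hp3⟩ := exists_pr hf.bilinear hW
  set P := perp hf.bilinear W with hPdef
  have hsub : ∀ x, x - p x ∈ P := fun x w hw => by
    rw [sub_eq_add_neg, ← neg_one_smul F (p x), hf.bilinear.add_right, hf.bilinear.smul_right,
      hp3 x w hw]
    ring
  have symm0 : ∀ {a b}, f a b = 0 → f b a = 0 := fun h => by rw [hf.skew, h, neg_zero]
  have hPW : ∀ x, (∀ y ∈ P, f y x = 0) → x ∈ W := by
    intro x hx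
    have h0 : x - p x = 0 := by
      by_contra hne
      obtain ⟨⟨y, hy⟩, -⟩ := hf.nondegenerate _ hne
      apply hy
      have e : y = p y + (y - p y) := by abel
      rw [e, hf.bilinear.add_left, hsub x (p y) (hp1 y), zero_add, sub_eq_add_neg x,
        ← neg_one_smul F (p x), hf.bilinear.add_right, hx _ (hsub y), hf.bilinear.smul_right,
        symm0 (hsub y (p x) (hp1 x)), mul_zero, add_zero]
    rw [sub_eq_zero] at h0
    rw [h0]; exact hp1 x
  have hrank : Module.finrank F W < Module.finrank F P := by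
    have hker : LinearMap.ker p ≤ P := fun x hx => by
      have := hsub x
      rwa [LinearMap.mem_ker.1 hx, sub_zero] at this
    have h1 := LinearMap.finrank_range_add_finrank_ker p
    have h2 : Module.finrank F (LinearMap.range p) ≤ Module.finrank F W :=
      Submodule.finrank_mono (by rintro _ ⟨x, rfl⟩; exact hp1 x)
    have h3 := Submodule.finrank_mono hker
    simp only [Module.finrank_fintype_fun_eq_card, Fintype.card_sum, Fintype.card_fin] at h1
    omega
  obtain ⟨w0, hw0W, hw0⟩ := Submodule.exists_mem_ne_zero_of_ne_bot hW0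
  refine isMaximalIn_of_forall inf_le_right ?_ ?_
  · obtain ⟨-, z, hz, hz'⟩ := hW w0 hw0W hw0
    obtain ⟨y, hy, hy0⟩ := Submodule.exists_mem_ne_zero_of_ne_bot (p := P) (by
      intro h; rw [h, finrank_bot] at hrank; omega)
    refine ⟨st hf (z + y) 1, mem_spGL_iff.2 (st_isIsom _ _ _), fun h => ?_⟩
    have h2 := mem_stab_iff.1 h.1 w0 hw0W
    rw [st_apply, Submodule.add_mem_iff_right W hw0W, one_mul, hf.bilinear.add_right,
      hy w0 hw0W, add_zero] at h2
    have h3 := W.smul_mem (f w0 z)⁻¹ h2
    rw [smul_smul, inv_mul_cancel₀ hz', one_smul, Submodule.add_mem_iff_right W hz] at h3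
    obtain ⟨⟨x, hx⟩, -⟩ := hf.nondegenerate y hy0
    obtain ⟨⟨x', hx', hxy⟩, -⟩ := hW y h3 hy0
    exact hxy (hy x' hx')
  · intro M hHM hMK g hgM hgH
    have hiso : ∀ {x}, x ∈ M → IsIsom f x := fun hx => mem_spGL_iff.1 (hMK hx)
    have hWc : ∀ v ∈ W, v ∈ centres hf M := fun v hv c =>
      hHM ⟨mem_stab_of_le fun x hx => by
        rw [st_apply]; exact W.add_mem hx (W.smul_mem _ hv),
        mem_spGL_iff.2 (st_isIsom _ _ _)⟩
    have hPc : ∀ v ∈ P, v ∈ centres hf M := fun v hv c =>
      hHM ⟨mem_stab_of_le fun x hx => by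
        rw [st_apply, hv x hx, mul_zero, zero_smul, add_zero]; exact hx,
        mem_spGL_iff.2 (st_isIsom _ _ _)⟩
    -- a mixed centre
    obtain ⟨v, hvS, hvW, hvP⟩ : ∃ v ∈ centres hf M, v ∉ W ∧ v ∉ P := by
      by_contra h
      push Not at h
      have hun : ∀ y ∈ P, app g y ∈ W ∨ app g y ∈ P := fun y hy => by
        by_cases hyW : app g y ∈ W
        · exact Or.inl hyW
        · exact Or.inr (h _ (centres_conj hf hgM (hiso hgM) (hPc y hy)) hyW)
      have hgP : ∀ y ∈ P, app g y ∈ P := by
        by_contra hc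
        push Not at hc
        obtain ⟨y₁, hy₁, hy₁'⟩ := hc
        have hall : ∀ y ∈ P, app g y ∈ W := fun y hy => by
          rcases hun y hy with h1 | h1
          · exact h1
          rcases hun (y + y₁) (P.add_mem hy hy₁) with h2 | h2
          · rw [map_add] at h2
            exact (Submodule.add_mem_iff_left W ((hun y₁ hy₁).resolve_right hy₁')).1 h2
          · rw [map_add] at h2
            exact absurd ((Submodule.add_mem_iff_right P h1).1 h2) hy₁'
        have := Submodule.finrank_mono (show P.map (app g).toLinearMap ≤ W by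
          rintro _ ⟨y, hy, rfl⟩; exact hall y hy)
        rw [LinearEquiv.finrank_map_eq (app g) P] at this
        omega
      apply hgH
      refine ⟨mem_stab_of_le fun w hw => hPW _ fun y hy => ?_, hMK hgM⟩
      have h5 := (mem_stab_iff.1 (inv_mem (mem_stab_of_le hgP))) y hy
      rw [← app_app_inv g y, hiso hgM]
      exact symm0 (h5 w hw)
    set a := p v with ha
    set b := v - p v with hb
    have hbP : b ∈ P := hsub v
    have ha0 : a ≠ 0 := fun h => hvP (by
      have e : v = a + b := by rw [ha, hb]; abel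
      rw [e, h, zero_add]; exact hbP)
    have hb0 : b ≠ 0 := fun h => hvW (by
      have e : v = a + b := by rw [ha, hb]; abel
      rw [e, h, add_zero]; exact hp1 v)
    have hv' : a + b ∈ centres hf M := by
      have e : v = a + b := by rw [ha, hb]; abel
      rwa [← e]
    have hnP : Cfsg.Geo.IsNondegenerateOn f P := by
      intro y hy hy0
      obtain ⟨⟨x, hx⟩, -⟩ := hf.nondegenerate y hy0
      have h1 : f (x - p x) y = f x y := by
        rw [sub_eq_add_neg, ← neg_one_smul F (p x), hf.bilinear.add_left, hf.bilinear.smul_left,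
          hy (p x) (hp1 x), mul_zero, add_zero]
      exact ⟨⟨x - p x, hsub x, by rwa [h1]⟩, ⟨x - p x, hsub x, by rw [hf.skew, h1]; simpa using hx⟩⟩
    refine spGL_le_of_centres M fun u => ?_
    by_cases h1 : p u = 0
    · exact hPc u (by simpa [h1] using hsub u)
    by_cases h2 : u - p u = 0
    · rw [sub_eq_zero] at h2; rw [h2]; exact hWc _ (hp1 u)
    have s1 : p u + b ∈ centres hf M :=
      move_component hf hW hWc (hp1 v) (hp1 u) ha0 h1 (fun x hx => symm0 (hbP x hx)) hv'
    rw [add_comm] at s1
    have s2 : (u - p u) + p u ∈ centres hf M :=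
      move_component hf hnP hPc hbP (hsub u) hb0 h2 (fun x hx => hx (p u) (hp1 u)) s1
    simpa using s2

/-- For a finite field F and m ≥ 7, in the symplectic group Sp_2m(F) of the standard alternating form on F^(2m), the stabiliser of any non-zero subspace W on which the form is non-degenerate and with dim W < m is a maximal subgroup. -/
theorem result {F : Type*} [Field F] [Fintype F] (m : ℕ) (hm : 7 ≤ m) (W : Submodule F (Fin m ⊕ Fin m → F)) (hW0 : W ≠ ⊥) (hW : Cfsg.Geo.IsNondegenerateOn (Cfsg.sympForm m F) W) (hdim : Module.finrank F W < m) : Cfsg.Geo.IsMaximalIn (Cfsg.spGL m F) (Cfsg.Geo.subspaceStabilizer W ⊓ Cfsg.spGL m F) := by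
  apply general <;> first | assumption | omega

end Cfsg.Agent.S5646
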