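import Cfsg.Statements.S5648
import Cfsg.Agent.Lib.Transvect.NonMax
import Cfsg.Agent.Lib.Transvect.LagPair

set_option autoImplicit false
open Cfsg

namespace Cfsg.Agent.S5648

open Cfsg.Agent.Transvect

variable {ι : Type} [Fintype ι] [DecidableEq ι] {F : Type*} [Field F]
  {f : (ι → F) → (ι → F) → F} (hf : Cfsg.Geo.IsSymplecticForm f)
  {t : ℕ} {D : Fin t → Submodule F (ι → F)} (hD : Cfsg.Geo.IsNondegenerateMDecomposition f 2 D)
include hf hD

lemma form_pr (i : Fin t) {w : ι → F} (hw : w ∈ D i) (x : ι → F) :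
    f x w = f (pr hD.decomp i x) w := by
  conv_lhs => rw [← sum_pr hD.decomp x]
  rw [← bl_apply hf, map_sum, LinearMap.sum_apply, Finset.sum_eq_single i
    (fun k _ hk => by rw [bl_apply]; exact hD.orthogonal k i hk _ (pr_mem hD.decomp k x) _ hw)
    (fun h => absurd (Finset.mem_univ i) h), bl_apply]

lemma exists_plane (i : Fin t) : ∃ ψ : (F × F) ≃ₗ[F] D i,
    ∀ u v : F × F, f (ψ u : ι → F) (ψ v : ι → F) = u.1 * v.2 - u.2 * v.1 := by
  obtain ⟨a, ha, ha0⟩ := exists_notMem hD.decomp (i := i) (W := ⊥) (by rw [finrank_bot]; omega)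
  obtain ⟨-, b0, hb0, hab0⟩ := hD.nondegenerate i a ha (by simpa using ha0)
  have hab : f a ((f a b0)⁻¹ • b0) = 1 := by rw [hf.bilinear.smul_right, inv_mul_cancel₀ hab0]
  set b := (f a b0)⁻¹ • b0
  have hb : b ∈ D i := Submodule.smul_mem _ _ hb0
  let L : (F × F) →ₗ[F] D i :=
    (LinearMap.fst F F F).smulRight (⟨a, ha⟩ : D i) + (LinearMap.snd F F F).smulRight (⟨b, hb⟩ : D i)
  have hform : ∀ u v : F × F, f (L u : ι → F) (L v : ι → F) = u.1 * v.2 - u.2 * v.1 := fun u v => by
    simp [L, hf.bilinear.add_left, hf.bilinear.add_right, hf.bilinear.smul_left,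
      hf.bilinear.smul_right, hf.alternating, hab, hf.skew b a]
    ring
  have hinj : Function.Injective L := by
    rw [← LinearMap.ker_eq_bot, LinearMap.ker_eq_bot']
    intro u hu
    have h1 := hform u (0, 1)
    have h2 := hform u (1, 0)
    rw [hu, Submodule.coe_zero, ← bl_apply hf, map_zero, LinearMap.zero_apply] at h1 h2
    simp at h1 h2
    exact Prod.ext h1.symm h2
  exact ⟨LinearEquiv.ofBijective L ⟨hinj, (LinearMap.injective_iff_surjective_of_finrank_eq_finrank
    (by rw [Module.finrank_prod, Module.finrank_self, hD.decomp.finrank_eq i])).1 hinj⟩, hform⟩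

lemma form_plane {i : Fin t} (ψ : (F × F) ≃ₗ[F] D i)
    (hψ : ∀ u v : F × F, f (ψ u : ι → F) (ψ v : ι → F) = u.1 * v.2 - u.2 * v.1)
    (x : ι → F) (w : F × F) : f x (ψ w : ι → F) =
      (ψ.symm ⟨pr hD.decomp i x, pr_mem hD.decomp i x⟩).1 * w.2 -
        (ψ.symm ⟨pr hD.decomp i x, pr_mem hD.decomp i x⟩).2 * w.1 := by
  rw [form_pr hf hD i (ψ w).2, ← hψ, LinearEquiv.apply_symm_apply]

omit hf hD

/-- Over the field with 2 elements and for m ≥ 7, let D be a decomposition of F^(2m) into t pairwise orthogonal non-degenerate 2-dimensional subspaces for the standard alternating form (t = m ≥ 2). Then the elements of Sp_2m(2) permuting the members of D form a subgroup that is not maximal: some subgroup lies strictly between it and Sp_2m(2). -/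
theorem result {F : Type*} [Field F] [Fintype F] (m : ℕ) (hm : 7 ≤ m) (hq : Fintype.card F = 2) {t : ℕ} (D : Fin t → Submodule F (Fin m ⊕ Fin m → F)) (hD : Cfsg.Geo.IsNondegenerateMDecomposition (Cfsg.sympForm m F) 2 D) : ∃ K : Subgroup (Matrix.GeneralLinearGroup (Fin m ⊕ Fin m) F), Cfsg.Geo.decompositionStabilizer D ⊓ Cfsg.spGL m F < K ∧ K < Cfsg.spGL m F := by
  classical
  have hf := sympForm_isSymplectic (F := F) m
  have h2 : (2 : F) = 0 := by
    have := FiniteField.cast_card_eq_zero F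
    rw [hq] at this; simpa using this
  have hnt := card_le_mul hD.decomp
  rw [Fintype.card_sum, Fintype.card_fin] at hnt
  have ht : 4 ≤ t := by omega
  let e : Fin 4 → Fin t := Fin.castLE ht
  have he : Function.Injective e := Fin.castLE_injective ht
  choose ψ hψ using fun k => exists_plane hf hD (e k)
  obtain ⟨g, hg, hgN, hgD⟩ := exists_mix hD.decomp e he ψ (five_ne_zero_of (Or.inl h2))
    fun c => by convert nblocks_id_plane hq c
  refine exists_between (fixer (nblocks hD.decomp))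
    (inf_le_left.trans (stab_le_fixer hD.decomp)) inf_le_right
    ⟨g, hgN, mem_spGL_iff.2 fun x y => ?_, fun hc => hgD hc.1⟩ ?_
  · let c : (Fin m ⊕ Fin m → F) → Fin 4 → F × F := fun x k =>
      (ψ k).symm ⟨pr hD.decomp (e k) x, pr_mem hD.decomp (e k) x⟩
    have hl : ∀ k x w, Cfsg.sympForm m F x (ψ k w) = (c x k).1 * w.2 - (c x k).2 * w.1 :=
      fun k x w => form_plane hf hD (ψ k) (hψ k) x w
    have hr : ∀ k w y, Cfsg.sympForm m F (ψ k w) y = w.1 * (c y k).2 - w.2 * (c y k).1 :=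
      fun k w y => by rw [hf.skew, hl]; ring
    have hkl : ∀ k l u v, Cfsg.sympForm m F (ψ k u) (ψ l v) =
        if k = l then u.1 * v.2 - u.2 * v.1 else 0 := fun k l u v => by
      split_ifs with h
      · subst h; exact hψ k u v
      · exact hD.orthogonal _ _ (fun h' => h (he h')) _ (ψ k u).2 _ (ψ l v).2
    rw [hg, hg, show (∑ l, (ψ l).symm ⟨pr hD.decomp (e l) x, pr_mem hD.decomp (e l) x⟩) = ∑ l, c x l
        from rfl,
      show (∑ l, (ψ l).symm ⟨pr hD.decomp (e l) y, pr_mem hD.decomp (e l) y⟩) = ∑ l, c y l from rfl]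
    generalize hu : ∑ l, c x l = u
    generalize hv : ∑ l, c y l = v
    simp only [Fin.sum_univ_four, hf.bilinear.add_left, hf.bilinear.add_right]
    simp only [hkl, Fin.reduceEq, if_false, if_true]
    simp only [hl, hr]
    subst hu hv
    simp only [Fin.sum_univ_four, Prod.fst_add, Prod.snd_add]
    set A := c x
    set B := c y
    linear_combination (3 * (((A 0).1 + (A 1).1 + (A 2).1 + (A 3).1) *
      ((B 0).2 + (B 1).2 + (B 2).2 + (B 3).2) - ((A 0).2 + (A 1).2 + (A 2).2 + (A 3).2) *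
      ((B 0).1 + (B 1).1 + (B 2).1 + (B 3).1))) * h2
  · let i0 : Fin t := ⟨0, by omega⟩
    let i1 : Fin t := ⟨1, by omega⟩
    have h01 : i0 ≠ i1 := by simp [i0, i1, Fin.ext_iff]
    obtain ⟨ψ0, hψ0⟩ := exists_plane hf hD i0
    obtain ⟨ψ1, hψ1⟩ := exists_plane hf hD i1
    have hne : ∀ (i : Fin t) (φ : (F × F) ≃ₗ[F] D i) (w : F × F), w ≠ 0 →
        ((φ w : D i) : Fin m ⊕ Fin m → F) ≠ 0 := fun i φ w hw => by simpa using hw
    refine ⟨st hf ((ψ0 (0, 1) : Fin m ⊕ Fin m → F) + ψ1 (1, 0)) 1,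
      mem_spGL_iff.2 (st_isIsom hf _ _), fun hc => ?_⟩
    have h1 := hc (ψ0 (1, 0))
    have hform : Cfsg.sympForm m F (ψ0 (1, 0)) ((ψ0 (0, 1) : Fin m ⊕ Fin m → F) + ψ1 (1, 0)) = 1 := by
      rw [hf.bilinear.add_right, hψ0, hD.orthogonal _ _ h01 _ (ψ0 _).2 _ (ψ1 _).2]
      simp
    rw [st_apply, hform, mul_one, one_smul, ← add_assoc, ← Submodule.coe_add, ← map_add,
      nblocks_add hD.decomp h01 (ψ0 _).2 (hne _ _ _ (by simp)) (ψ1 _).2 (hne _ _ _ (by simp)),
      nblocks_of_mem hD.decomp (ψ0 _).2 (hne _ _ _ (by simp))] at h1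
    exact one_ne_zero (show (1 : F) = 0 by linear_combination h1)

end Cfsg.Agent.S5648
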