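import Cfsg.Statements.S5649
import Cfsg.Agent.Lib.Transvect.LagPair

set_option autoImplicit false
open Cfsg

namespace Cfsg.Agent.S5649

open Cfsg.Agent.Transvect

/-- The statement in every degree covered by the proof. -/
theorem general {F : Type*} [Field F] [Fintype F] (m : ℕ) (hm : 3 ≤ m) (hodd : Odd (Fintype.card F)) (D : Fin 2 → Submodule F (Fin m ⊕ Fin m → F)) (hD : Cfsg.Geo.IsMDecomposition m D) (hts : ∀ i, Cfsg.Geo.IsTotallySingularFor (Cfsg.sympForm m F) (D i)) : Cfsg.Geo.IsMaximalIn (Cfsg.spGL m F) (Cfsg.Geo.decompositionStabilizer D ⊓ Cfsg.spGL m F) := by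
  have hf := sympForm_isSymplectic (F := F) m
  have hchar : ringChar F ≠ 2 := fun h => by
    have := FiniteField.even_card_iff_char_two.1 h
    rw [Nat.odd_iff] at hodd
    omega
  have h2 : (2 : F) ≠ 0 := Ring.two_ne_zero hchar
  refine isMaximalIn_of_forall inf_le_right ?_ fun M hHM hMS g hg hgH => ?_
  · obtain ⟨a, ha, ha0⟩ := exists_notMem hD (i := 0) (W := ⊥) (by rw [finrank_bot]; omega)
    obtain ⟨b, hb, hab, -⟩ := exists_partner hf hD hts zero_ne_one ha ha0
    refine ⟨st hf (a + b) 1, mem_spGL_iff.2 (st_isIsom hf _ _), fun h => ?_⟩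
    obtain ⟨σ, hσ⟩ := exists_blockMap h.1
    have h1 := hσ 0 a ha
    rw [st_apply, hf.bilinear.add_right, hf.alternating, hab, zero_add, mul_one, one_smul] at h1
    have ha' : a ≠ 0 := by simpa using ha0
    have hb' : b ≠ 0 := fun h0 => by
      rw [h0, ← bl_apply hf, map_zero] at hab
      exact zero_ne_one hab
    obtain ⟨k, hk⟩ : ∃ k, σ 0 = k := ⟨_, rfl⟩
    rw [hk] at h1
    fin_cases k
    · have h3 := pr_of_mem_ne hD (i := 1) zero_ne_one h1
      rw [map_add, map_add, pr_of_mem_ne hD zero_ne_one ha, pr_of_mem hD hb, zero_add, zero_add] at h3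
      exact hb' h3
    · have h3 := pr_of_mem_ne hD (i := 0) one_ne_zero h1
      rw [map_add, map_add, pr_of_mem_ne hD one_ne_zero hb, pr_of_mem hD ha, add_zero] at h3
      exact ha' ((smul_eq_zero.1 (by rw [two_smul]; exact h3 : (2 : F) • a = 0)).resolve_left h2)
  · refine spGL_le_of_centres M (isom_mem_of_not_pair hf h2 hD hts
      (fun x hx hxi => hHM ⟨hx, mem_spGL_iff.2 hxi⟩) (by omega) hg (mem_spGL_iff.1 (hMS hg))
      fun h => hgH ⟨h, hMS hg⟩)

/-- For a finite field F of odd order and m ≥ 7, let D be a decomposition of F^(2m) into two complementary subspaces of dimension m on each of which the standard alternating form vanishes identically. Then the elements of Sp_2m(F) preserving or interchanging the two subspaces form a maximal subgroup of Sp_2m(F). -/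
theorem result {F : Type*} [Field F] [Fintype F] (m : ℕ) (hm : 7 ≤ m) (hodd : Odd (Fintype.card F)) (D : Fin 2 → Submodule F (Fin m ⊕ Fin m → F)) (hD : Cfsg.Geo.IsMDecomposition m D) (hts : ∀ i, Cfsg.Geo.IsTotallySingularFor (Cfsg.sympForm m F) (D i)) : Cfsg.Geo.IsMaximalIn (Cfsg.spGL m F) (Cfsg.Geo.decompositionStabilizer D ⊓ Cfsg.spGL m F) := by
  apply general <;> first | assumption | omega

end Cfsg.Agent.S5649
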