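import Cfsg.Statements.S5650
import Cfsg.Agent.Lib.C5.Symplectic
import Cfsg.Agent.Lib.C5.Transfer

set_option autoImplicit false
open Cfsg

namespace Cfsg.Agent.S5650

/-- The statement in every degree covered by the proof. -/
theorem general {F : Type*} [Field F] [Fintype F] (m : ℕ) (hm : 2 ≤ m ∧ Odd (Fintype.card F) ∨ 3 ≤ m) (F₀ : Subfield F) (r : ℕ) (hr : r.Prime) (hcard : Fintype.card F = Nat.card F₀ ^ r) (P : Matrix.GeneralLinearGroup (Fin m ⊕ Fin m) F) (ζ : F) (hζ : ζ ≠ 0) (hP : Cfsg.Geo.IsFormRationalStructure (Cfsg.sympForm m F) F₀ ζ P) : Cfsg.Geo.IsMaximalIn (Cfsg.spGL m F) (Cfsg.Geo.subfieldSubgroup F₀ P ⊓ Cfsg.spGL m F) := by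
  classical
  have hs := Transvect.sympForm_isSymplectic (F := F) m
  let f : (Fin m ⊕ Fin m → F) → (Fin m ⊕ Fin m → F) → F := fun u v =>
    ζ * Cfsg.sympForm m F (Transvect.app P u) (Transvect.app P v)
  have hf : Cfsg.Geo.IsSymplecticForm f := by
    refine ⟨⟨fun x y v => ?_, fun c x v => ?_, fun v x y => ?_, fun c v x => ?_⟩,
      fun v w => ?_, fun v => ?_, fun v hv => ?_⟩
    · simp only [f]; rw [map_add, hs.bilinear.add_left, mul_add]
    · simp only [f]; rw [map_smul, hs.bilinear.smul_left]; ring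
    · simp only [f]; rw [map_add, hs.bilinear.add_right, mul_add]
    · simp only [f]; rw [map_smul, hs.bilinear.smul_right]; ring
    · simp only [f]; rw [hs.skew, mul_neg]
    · simp only [f]; rw [hs.alternating, mul_zero]
    · obtain ⟨⟨x, hx⟩, ⟨y, hy⟩⟩ := hs.nondegenerate (Transvect.app P v)
        fun h => hv ((Transvect.app P).map_eq_zero_iff.1 h)
      exact ⟨⟨Transvect.app P⁻¹ x, by simp only [f]; rw [Transvect.app_app_inv]; exact mul_ne_zero hζ hx⟩,
        ⟨Transvect.app P⁻¹ y, by simp only [f]; rw [Transvect.app_app_inv]; exact mul_ne_zero hζ hy⟩⟩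
  have hR : C5.RatForm F₀ f := hP
  have hn : 6 ≤ Fintype.card (Fin m ⊕ Fin m) ∨ 4 ≤ Fintype.card (Fin m ⊕ Fin m) ∧ (2 : F) ≠ 0 := by
    rw [Fintype.card_sum, Fintype.card_fin]
    rcases hm with ⟨hm, hodd⟩ | hm
    · refine Or.inr ⟨by omega, Ring.two_ne_zero fun h => ?_⟩
      have := FiniteField.even_card_iff_char_two.1 h
      rw [Nat.odd_iff] at hodd
      omega
    · exact Or.inl (by omega)
  have key : Cfsg.Geo.IsMaximalIn (C5.isoGroup f)
      (Cfsg.Geo.subfieldSubgroup F₀ 1 ⊓ C5.isoGroup f) := by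
    refine Transvect.isMaximalIn_of_forall inf_le_right ?_ fun M hHM hMK g hg hgH =>
      C5.isoGroup_le_of_not_mem hf hr hcard hn hR hMK hHM hg fun h => hgH ⟨h, hMK hg⟩
    obtain ⟨l, hl⟩ : ∃ l : F, l ∉ F₀ := by
      by_contra! hall
      have h1 : Nat.card F₀ = Fintype.card F := by
        rw [← Nat.card_eq_fintype_card]
        exact Nat.card_congr (Equiv.subtypeUnivEquiv hall)
      have h2 := Nat.pow_lt_pow_right (Fintype.one_lt_card (α := F)) hr.one_lt
      rw [pow_one] at h2
      rw [h1] at hcard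
      omega
    obtain ⟨e, he, he0, -⟩ := C5.exists_rat_kill (F₀ := F₀) (ι := Fin m ⊕ Fin m) (k := 0) (φ := ![])
      (by omega) (fun j => j.elim0)
    obtain ⟨t, ht, het⟩ := C5.exists_rat_partner hf hn hR he he0
    refine ⟨Transvect.st hf e l, Transvect.st_isIsom hf e l, fun h => hl ?_⟩
    obtain ⟨c, hc, hrat⟩ := C5.ratLine_mem_iff.1 h.1
    have e1 := hrat e he
    rw [Transvect.st_apply, hf.alternating, mul_zero, zero_smul, add_zero] at e1
    have hcF := C5.mem_of_smul_rat he he0 e1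
    have e2 := (hrat t ht).sub (ht.smul hcF)
    rw [Transvect.st_apply, smul_add, add_sub_cancel_left, smul_smul, hf.skew t e, het] at e2
    have h3 := F₀.mul_mem (C5.mem_of_smul_rat he he0 e2) (F₀.inv_mem hcF)
    have : c⁻¹ * (l * -1) * c⁻¹⁻¹ = -l := by field_simp
    rw [this] at h3
    simpa using F₀.neg_mem h3
  have hmap : (C5.isoGroup f).map (MulAut.conj P).toMonoidHom = Cfsg.spGL m F := by
    ext g
    rw [Transvect.mem_spGL_iff, Subgroup.mem_map]
    constructor
    · rintro ⟨x, hx, rfl⟩ u v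
      have h1 := mul_left_cancel₀ hζ (hx (Transvect.app P⁻¹ u) (Transvect.app P⁻¹ v))
      simp only [Transvect.app_app_inv] at h1
      simp only [MulEquiv.coe_toMonoidHom, MulAut.conj_apply, map_mul, LinearEquiv.mul_apply]
      exact h1
    · intro hg
      refine ⟨P⁻¹ * g * P, fun u v => ?_, by simp [mul_assoc]⟩
      simp only [f, map_mul, LinearEquiv.mul_apply, Transvect.app_app_inv]
      rw [hg]
  have h1 := C5.isMaximalIn_map (MulAut.conj P) key
  rw [Subgroup.map_inf _ _ (MulAut.conj P).toMonoidHom (MulEquiv.injective _), hmap,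
    ← C5.subfieldSubgroup_eq_map] at h1
  exact h1

/-- For a finite field F, a subfield F₀ with |F| = |F₀| ^ r for a prime r, and m ≥ 7, let P be an invertible matrix and ζ a non-zero scalar such that ζ times the standard alternating form takes values in F₀ on the F₀-span of the columns of P. Then the elements of Sp_2m(F) lying in the subfield group of P (the conjugate by P of the product of GL_2m(F₀) with the scalars) form a maximal subgroup of Sp_2m(F). -/
theorem result {F : Type*} [Field F] [Fintype F] (m : ℕ) (hm : 7 ≤ m) (F₀ : Subfield F) (r : ℕ) (hr : r.Prime) (hcard : Fintype.card F = Nat.card F₀ ^ r) (P : Matrix.GeneralLinearGroup (Fin m ⊕ Fin m) F) (ζ : F) (hζ : ζ ≠ 0) (hP : Cfsg.Geo.IsFormRationalStructure (Cfsg.sympForm m F) F₀ ζ P) : Cfsg.Geo.IsMaximalIn (Cfsg.spGL m F) (Cfsg.Geo.subfieldSubgroup F₀ P ⊓ Cfsg.spGL m F) := by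
  apply general <;> first | assumption | omega

end Cfsg.Agent.S5650
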