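import Cfsg.Statements.S5651
import Cfsg.Agent.EqLemmas
import Cfsg.Agent.Lib.C6Gen.SympMax
import Cfsg.Agent.Lib.C6Gen.Dim

set_option autoImplicit false
open Cfsg
open scoped commutatorElement

namespace Cfsg.Agent.S5651

/-- Let p be an odd prime, F the field with p elements, and m ≥ 7. Let R be a 2-subgroup of GL_2m(F) of exponent 4 in which every characteristic abelian subgroup is cyclic, of order 2^(1+2k) with centre of order 2 and with no elementary abelian subgroup of order 2^(k+1) (minus type), acting absolutely irreducibly on F^(2m) and consisting of isometries of the standard alternating form. Then the elements of Sp_2m(F) normalising R form a maximal subgroup of Sp_2m(F). -/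
theorem result {F : Type*} [Field F] [Fintype F] (m : ℕ) (hm : 7 ≤ m) (p k : ℕ) (hp : p.Prime) (hpo : Odd p) (hF : Fintype.card F = p) (R : Subgroup (Matrix.GeneralLinearGroup (Fin m ⊕ Fin m) F)) (hR : Cfsg.Geo.IsSymplecticTypeGroup 2 R) (hirr : Cfsg.Geo.ActsAbsolutelyIrreducibly (Cfsg.Geo.matrixSet R)) (hRD : R ≤ Cfsg.spGL m F) (hcard : Nat.card R = 2 ^ (1 + 2 * k)) (hZ : Nat.card (Subgroup.center R) = 2) (hminus : Cfsg.Geo.IsOfMinusType k R) : Cfsg.Geo.IsMaximalIn (Cfsg.spGL m F) (Cfsg.Geo.subgroupNormalizer R ⊓ Cfsg.spGL m F) := by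
  classical
  have : NeZero m := ⟨by omega⟩
  have h2 : (2 : F) ≠ 0 := fun h => by
    have hc := CharP.ringChar_of_prime_eq_zero Nat.prime_two (by exact_mod_cast h : ((2 : ℕ) : F) = 0)
    obtain ⟨n, hprime, hcard'⟩ := FiniteField.card F (ringChar F)
    rw [hF, hc] at hcard'
    rw [hcard'] at hp hpo
    exact (Nat.not_even_iff_odd.mpr hpo) (Nat.even_pow.mpr ⟨even_two, n.pos.ne'⟩)
  have hcen : ∀ M : Matrix (Fin m ⊕ Fin m) (Fin m ⊕ Fin m) F, (∀ g ∈ R, M * g.1 = g.1 * M) →
      ∃ c : F, M = c • 1 :=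
    fun M hM => hirr.2 M (by rintro _ ⟨g, hg, rfl⟩; exact hM g hg)
  have he : Monoid.exponent R = 4 := hR.exponent_eq
  have h4 : ∀ t : R, t ^ 4 = 1 := fun t => by
    have := Monoid.pow_exponent_eq_one t
    rwa [he] at this
  have : Finite R := Nat.finite_of_card_ne_zero (by rw [hcard]; positivity)
  obtain ⟨z, hz, hz1⟩ : ∃ z ∈ Subgroup.center R, z ≠ 1 := by
    by_contra hno
    push Not at hno
    have h1 : Subgroup.center R = ⊥ := (Subgroup.eq_bot_iff_forall _).mpr hno
    rw [h1, Subgroup.card_bot] at hZ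
    omega
  have hz2 : z ^ 2 = 1 := by
    have h := congrArg Subtype.val (pow_card_eq_one' (x := (⟨z, hz⟩ : Subgroup.center R)))
    rw [hZ] at h
    exact h
  obtain ⟨e, he'⟩ := hcen (z : Matrix.GeneralLinearGroup (Fin m ⊕ Fin m) F).1 fun g hg =>
    congrArg (fun u : R => (u : Matrix.GeneralLinearGroup (Fin m ⊕ Fin m) F).1)
      (Subgroup.mem_center_iff.mp hz ⟨g, hg⟩).symm
  have hzneg : (z : Matrix.GeneralLinearGroup (Fin m ⊕ Fin m) F) = -1 :=
    (C6Gen.scalar_pm_sp (hRD z.2) he').resolve_left fun h => hz1 (Subtype.ext h)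
  obtain ⟨hsq, hcm⟩ := Symplectic.exists_relations (T := R)
    ⟨hR.pGroup, hR.cyclic_of_characteristic⟩ h4 hz hz2 hz1
  have hsys : C6Gen.Sys k R := by
    refine ⟨h2, by rw [hcard, add_comm], hzneg ▸ z.2, fun g hg => ?_, fun g hg h hh => ?_, hcen,
      fun g hg c hc => C6Gen.scalar_pm_sp (hRD hg) hc⟩
    · exact (hsq ⟨g, hg⟩).imp (congrArg Subtype.val) fun e => (congrArg Subtype.val e).trans hzneg
    · have e1 : g * h = ⁅g, h⁆ * (h * g) := by rw [commutatorElement_def]; group
      rcases hcm ⟨g, hg⟩ ⟨h, hh⟩ with h' | h'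
      · left
        rw [e1, show ⁅g, h⁆ = 1 from congrArg Subtype.val h', one_mul]
      · right
        rw [e1, show ⁅g, h⁆ = -1 from (congrArg Subtype.val h').trans hzneg, neg_mul, one_mul]
  have hk : 3 ≤ k := by
    have h := hsys.card_eq
    rw [Fintype.card_sum, Fintype.card_fin] at h
    by_contra hlt
    have := Nat.pow_le_pow_right (show 1 ≤ 2 by norm_num) (show k ≤ 3 by omega)
    omega
  exact C6Gen.SMinus.maximal (hF ▸ hp) k hk m R ⟨hsys, hRD, hminus⟩

end Cfsg.Agent.S5651
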