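import Cfsg.Statements.S5652
import Cfsg.Agent.EqLemmas
import Cfsg.Agent.Lib.Transvect.Symp

set_option autoImplicit false
open Cfsg

namespace Cfsg.Agent.S5652

open Cfsg.Agent.Transvect
open scoped MatrixGroups

variable {F : Type*} [Field F]
variable {ι : Type} [Fintype ι] [DecidableEq ι] {f : (ι → F) → (ι → F) → F} {Q : (ι → F) → F}

/-- Given three vectors there is a non-singular vector orthogonal to all of them. -/
lemma exists_nonsingular (hf : Cfsg.Geo.IsSymplecticForm f)
    (hpol : ∀ u v, QuadraticMap.polar Q u v = f u v) (hn : 6 ≤ Fintype.card ι) (a b c : ι → F)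
    (habc : b = c ∨ f a c ≠ 0) :
    ∃ w, Q w ≠ 0 ∧ f w a = 0 ∧ f w b = 0 ∧ f w c = 0 := by
  by_contra h
  push Not at h
  let L : (ι → F) →ₗ[F] F × F × F :=
    (flin hf.bilinear a).prod ((flin hf.bilinear b).prod (flin hf.bilinear c))
  set U := LinearMap.ker L with hU
  have hmem : ∀ x, x ∈ U ↔ f x a = 0 ∧ f x b = 0 ∧ f x c = 0 := fun x => by
    rw [hU, LinearMap.mem_ker]
    simp [L, Prod.ext_iff]
  have hQ : ∀ x ∈ U, Q x = 0 := fun x hx => by
    obtain ⟨h1, h2, h3⟩ := (hmem x).1 hx
    by_contra h0
    exact h x h0 h1 h2 h3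
  have hdim : Fintype.card ι ≤ Module.finrank F U + 3 := by
    have h1 := LinearMap.finrank_range_add_finrank_ker L
    have h2 : Module.finrank F (LinearMap.range L) ≤ 3 :=
      le_trans (Submodule.finrank_le _) (by simp)
    rw [Module.finrank_fintype_fun_eq_card, ← hU] at h1
    omega
  have hts : ∀ x ∈ U, ∀ y ∈ U, f x y = 0 := fun x hx y hy => by
    rw [← hpol, QuadraticMap.polar, hQ _ (U.add_mem hx hy), hQ x hx, hQ y hy, sub_zero, sub_zero]
  have hle : U.map (flin hf.bilinear) ≤ U.dualAnnihilator := by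
    rintro _ ⟨y, hy, rfl⟩
    rw [Submodule.mem_dualAnnihilator]
    exact fun x hx => hts x hx y hy
  have h1 := Submodule.finrank_mono hle
  have h2 := Subspace.finrank_add_finrank_dualAnnihilator_eq U
  have h3 : Module.finrank F (U.map (flin hf.bilinear)) = Module.finrank F U :=
    (Submodule.equivMapOfInjective _ (flin_injective hf.bilinear hf.nondegenerate) U).finrank_eq.symm
  have h4 := (Nat.add_le_add_left h1 (Module.finrank F U)).trans_eq h2
  rw [Module.finrank_fintype_fun_eq_card, h3] at h4
  rcases habc with rfl | hac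
  · -- two conditions only
    have h6 : Module.finrank F (LinearMap.range L) ≤ 2 := by
      refine le_trans (Submodule.finrank_mono (t := LinearMap.range
        ((LinearMap.fst F F F).prod ((LinearMap.snd F F F).prod (LinearMap.snd F F F)))) ?_)
        (le_trans (LinearMap.finrank_range_le _) (by simp))
      rintro _ ⟨x, rfl⟩
      exact ⟨(flin hf.bilinear a x, flin hf.bilinear b x), rfl⟩
    have h7 := LinearMap.finrank_range_add_finrank_ker L
    rw [Module.finrank_fintype_fun_eq_card, ← hU] at h7
    omega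
  · -- a maximal totally singular subspace is its own orthogonal
    have he : U.map (flin hf.bilinear) = U.dualAnnihilator :=
      Submodule.eq_of_le_of_finrank_le hle (by
        rw [h3]
        have h8 := h2
        rw [Module.finrank_fintype_fun_eq_card] at h8
        exact Nat.le_of_add_le_add_left (h8.le.trans (by omega)))
    obtain ⟨y, hy, hya⟩ : flin hf.bilinear a ∈ U.map (flin hf.bilinear) := by
      rw [he, Submodule.mem_dualAnnihilator]
      intro x hx
      rw [flin_apply, ((hmem x).1 hx).1]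
    rw [flin_injective hf.bilinear hf.nondegenerate hya] at hy
    exact hac ((hmem a).1 hy).2.2

theorem quadratic_maximal (hf : Cfsg.Geo.IsSymplecticForm f)
    (hQ : Cfsg.Geo.IsNondegenerateQuadraticForm Q)
    (hpol : ∀ u v, QuadraticMap.polar Q u v = f u v) (hn : 6 ≤ Fintype.card ι)
    (h2 : (2 : F) = 0) (hsq : ∀ a : F, ∃ b : F, b * b = a)
    (I : Subgroup (GL ι F)) (hI : ∀ g, g ∈ I ↔ IsIsom f g) :
    Cfsg.Geo.IsMaximalIn I (Cfsg.Geo.quadSimilarityGroup Q ⊓ I) := by
  classical
  have hb := hf.bilinear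
  have hneg : ∀ x : F, -x = x := fun x => by linear_combination -x * h2
  have hsymm : ∀ x y, f x y = f y x := fun x y => by rw [hf.skew, hneg]
  have hQadd : ∀ x y, Q (x + y) = Q x + Q y + f x y := fun x y => by
    rw [← hpol, QuadraticMap.polar]; ring
  have hQsmul : ∀ (c : F) x, Q (c • x) = c * c * Q x := fun c x => by rw [hQ.smul]; ring
  have hQst : ∀ u c x, Q (app (st hf u c) x) = Q x + f x u * f x u * (c * (c * Q u + 1)) := by
    intro u c x
    rw [st_apply, hQadd, hQsmul, hb.smul_right]; ring
  have hrH : ∀ u, st hf u (Q u)⁻¹ ∈ Cfsg.Geo.quadSimilarityGroup Q ⊓ I := fun u => by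
    refine ⟨⟨1, fun x => ?_⟩, (hI _).2 (st_isIsom _ _ _)⟩
    rw [← app_apply, hQst, Units.val_one, one_mul]
    rcases eq_or_ne (Q u) 0 with h | h
    · rw [h, inv_zero]; ring
    · rw [inv_mul_cancel₀ h]; linear_combination (f x u * f x u * (Q u)⁻¹) * h2
  refine isMaximalIn_of_forall inf_le_right ?_ ?_
  · haveI : Nonempty ι := Fintype.card_pos_iff.1 (by omega)
    obtain ⟨a, ha⟩ := exists_ne (0 : ι → F)
    obtain ⟨-, z, hz⟩ := hf.nondegenerate a ha
    obtain ⟨w, hw, hwa, hwz, -⟩ := exists_nonsingular hf hpol hn a z z (Or.inl rfl)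
    obtain ⟨t, ht⟩ := hsq (Q a / Q w)
    have hu0 : Q (a + t • w) = 0 := by
      rw [hQadd, hQsmul, ht, hb.smul_right, hsymm, hwa, div_mul_cancel₀ _ hw]
      linear_combination (Q a) * h2
    have hune : a + t • w ≠ 0 := fun h => by
      apply hz
      have h1 : f (a + t • w) z = f a z := by
        rw [hb.add_left, hb.smul_left, hwz, mul_zero, add_zero]
      rw [← h1, h, ← flin_apply hb, map_zero]
    refine ⟨st hf (a + t • w) 1, (hI _).2 (st_isIsom _ _ _), ?_⟩
    rintro ⟨⟨c, hc⟩, -⟩
    obtain ⟨⟨x, hx⟩, -⟩ := hf.nondegenerate _ hune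
    obtain ⟨w', hw', hw'u, -, -⟩ := exists_nonsingular hf hpol hn (a + t • w) a a (Or.inl rfl)
    have h1 := hc w'
    rw [← app_apply, hQst, hw'u] at h1
    have h3 : (c : F) = 1 := mul_right_cancel₀ hw' (by rw [one_mul, ← h1]; ring)
    have h4 := hc x
    rw [← app_apply, hQst, hu0, h3, one_mul] at h4
    exact hx (mul_self_eq_zero.1 (by linear_combination h4))
  · intro M hHM hMK g hgM hgH
    have hiso : ∀ {x}, x ∈ M → IsIsom f x := fun hx => (hI _).1 (hMK hx)
    set S : Set (ι → F) := {u | st hf u 1 ∈ M} with hS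
    have hS1 : ∀ u, Q u = 1 → u ∈ S := fun u hu => by
      have := hHM (hrH u)
      rwa [hu, inv_one] at this
    have hSconj : ∀ k ∈ M, ∀ u ∈ S, app k u ∈ S := fun k hk u hu => by
      show st hf (app k u) 1 ∈ M
      rw [← st_conj hf (hiso hk)]; exact mul_mem (mul_mem hk hu) (inv_mem hk)
    have move : ∀ v v', f v v' ≠ 0 → Q v = Q v' → v ∈ S → v' ∈ S := by
      intro v v' hne he hv
      have hw : Q (v + v') = f v v' := by rw [hQadd, he]; linear_combination (Q v') * h2
      have := hSconj _ (hHM (hrH (v + v'))) v hv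
      rw [st_apply, hw, hb.add_right, hf.alternating, zero_add, inv_mul_cancel₀ hne, one_smul,
        ← add_assoc] at this
      have h0 : v + v = 0 := by funext i; simp only [Pi.add_apply, Pi.zero_apply]; linear_combination (v i) * h2
      rwa [h0, zero_add] at this
    have htrans : ∀ v v', v ≠ 0 → v' ≠ 0 → Q v = Q v' → v ∈ S → v' ∈ S := by
      intro v v' hv hv' he hvS
      by_cases hne : f v v' = 0
      · obtain ⟨y, hy1, hy2⟩ := exists_nonorth hf hv hv'
        obtain ⟨w, hw, hwv, hwv', hwy⟩ := exists_nonsingular hf hpol hn v v' y (Or.inr hy1)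
        obtain ⟨t, ht⟩ := hsq ((Q v + Q y) / Q w)
        have hz : Q (y + t • w) = Q v := by
          rw [hQadd, hQsmul, ht, hb.smul_right, hsymm y w, hwy, div_mul_cancel₀ _ hw]
          linear_combination (Q y) * h2
        have h1 : f v (y + t • w) = f v y := by
          rw [hb.add_right, hb.smul_right, hsymm v w, hwv, mul_zero, add_zero]
        have h3 : f (y + t • w) v' = f y v' := by
          rw [hb.add_left, hb.smul_left, hwv', mul_zero, add_zero]
        exact move _ v' (h3 ▸ hy2) (hz.trans he) (move v _ (h1 ▸ hy1) hz.symm hvS)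
      · exact move v v' hne he hvS
    -- a centre with a new value of Q
    obtain ⟨u, huS, hu1, hu0⟩ : ∃ u ∈ S, Q u ≠ 1 ∧ u ≠ 0 := by
      by_contra h
      push Not at h
      apply hgH
      refine ⟨⟨1, fun x => ?_⟩, hMK hgM⟩
      rw [Units.val_one, one_mul, ← app_apply]
      have h1 : ∀ y, Q y ≠ 0 → Q (app g y) = Q y := by
        intro y hy
        obtain ⟨t, ht⟩ := hsq (Q y)⁻¹
        have h3 : Q (t • y) = 1 := by rw [hQsmul, ht, inv_mul_cancel₀ hy]
        have h4 : Q (app g (t • y)) = 1 := by
          by_contra h5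
          have h6 := h _ (hSconj g hgM _ (hS1 _ h3)) h5
          rw [← map_zero (app g)] at h6
          have := (app g).injective h6
          rw [this, ← zero_smul F (0 : ι → F), hQsmul] at h3
          simp at h3
        rw [map_smul, hQsmul, ht] at h4
        field_simp at h4
        exact h4
      by_cases hx : Q x = 0
      · obtain ⟨y, hy, hyx, -, -⟩ := exists_nonsingular hf hpol hn x x x (Or.inl rfl)
        have h3 : Q (x + y) ≠ 0 := by
          rw [hQadd, hx, hsymm, hyx]; simpa using hy
        have h4 := h1 _ h3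
        rw [map_add, hQadd, hQadd, hiso hgM, h1 y hy] at h4
        linear_combination h4
      · exact h1 x hx
    have hall : ∀ v, v ∈ S := by
      intro v
      rcases eq_or_ne v 0 with rfl | hv
      · show st hf 0 1 ∈ M
        exact zero_mem_centres hf M 1
      have hd : Q u + 1 ≠ 0 := fun h => hu1 (by linear_combination h - h2)
      obtain ⟨lam, hl⟩ := hsq ((Q v + 1) / (Q u + 1))
      obtain ⟨-, z, hz⟩ := hf.nondegenerate u hu0
      obtain ⟨y, hfy⟩ : ∃ y, f u y = lam :=
        ⟨(lam / f u z) • z, by rw [hb.smul_right, div_mul_cancel₀ _ hz]⟩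
      obtain ⟨w, hw, hwu, hwy, -⟩ := exists_nonsingular hf hpol hn u y y (Or.inl rfl)
      obtain ⟨t, ht⟩ := hsq ((1 + Q y) / Q w)
      obtain ⟨u', hu'⟩ : ∃ u', u' = y + t • w := ⟨_, rfl⟩
      have hQu' : Q u' = 1 := by
        rw [hu', hQadd, hQsmul, ht, hb.smul_right, hsymm y w, hwy, div_mul_cancel₀ _ hw]
        linear_combination (Q y) * h2
      have hfu : f u' u = lam := by
        rw [hsymm, hu', hb.add_right, hb.smul_right, hfy, hsymm u w, hwu, mul_zero, add_zero]
      have himg := hSconj _ huS u' (hS1 u' hQu')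
      rw [st_apply, one_mul, hfu] at himg
      have hval : Q (u' + lam • u) = Q v := by
        rw [hQadd, hQsmul, hb.smul_right, hQu', hfu]
        have h7 : lam * lam * (Q u + 1) = Q v + 1 := by rw [hl, div_mul_cancel₀ _ hd]
        linear_combination h7 + h2
      refine htrans _ v (fun h => ?_) hv hval himg
      have h8 : f (u' + lam • u) u = lam := by
        rw [hb.add_left, hb.smul_left, hf.alternating, mul_zero, add_zero, hfu]
      rw [h, ← flin_apply hb, map_zero] at h8
      subst h8
      rw [zero_smul, add_zero] at h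
      rw [h, ← zero_smul F (0 : ι → F), hQsmul] at hQu'
      simp at hQu'
    intro k hk
    refine isometry_mem_of_centres hf M (fun v c => ?_) ((hI k).1 hk)
    obtain ⟨t, ht⟩ := hsq c
    have h9 := hall (t • v)
    change st hf (t • v) 1 ∈ M at h9
    convert h9 using 1
    refine gl_ext fun x => ?_
    rw [st_apply, st_apply, hb.smul_right, smul_smul, one_mul, ← ht]; congr 1; ring_nf


/-- The statement in every degree covered by the proof. -/
theorem general {F : Type*} [Field F] [Fintype F] (m : ℕ) (hm : 3 ≤ m) (heven : ¬ Odd (Fintype.card F)) (Q : (Fin m ⊕ Fin m → F) → F) (hQ : Cfsg.Geo.IsNondegenerateQuadraticForm Q) (hpol : ∀ u v, QuadraticMap.polar Q u v = Cfsg.sympForm m F u v) : Cfsg.Geo.IsMaximalIn (Cfsg.spGL m F) (Cfsg.Geo.quadSimilarityGroup Q ⊓ Cfsg.spGL m F) := by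
  classical
  have hr : ringChar F = 2 := FiniteField.even_card_iff_char_two.2
    (Nat.even_iff.1 (Nat.not_odd_iff_even.1 heven))
  haveI : CharP F 2 := ringChar.of_eq hr
  refine quadratic_maximal (sympForm_isSymplectic m) hQ hpol (by simp; omega) CharTwo.two_eq_zero
    (fun a => ?_) _ (fun g => mem_spGL_iff)
  obtain ⟨b, hb⟩ := FiniteField.isSquare_of_char_two hr a
  exact ⟨b, hb.symm⟩

/-- For a finite field F of characteristic two and m ≥ 7, let Q be a non-degenerate quadratic form on F^(2m) whose polar form is the standard alternating form. Then the elements of Sp_2m(F) that are similarities of Q (they are exactly the isometries of Q) form a maximal subgroup of Sp_2m(F). -/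
theorem result {F : Type*} [Field F] [Fintype F] (m : ℕ) (hm : 7 ≤ m) (heven : ¬ Odd (Fintype.card F)) (Q : (Fin m ⊕ Fin m → F) → F) (hQ : Cfsg.Geo.IsNondegenerateQuadraticForm Q) (hpol : ∀ u v, QuadraticMap.polar Q u v = Cfsg.sympForm m F u v) : Cfsg.Geo.IsMaximalIn (Cfsg.spGL m F) (Cfsg.Geo.quadSimilarityGroup Q ⊓ Cfsg.spGL m F) := by
  apply general <;> first | assumption | omega

end Cfsg.Agent.S5652
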