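import Cfsg.Statements.S5655
import Cfsg.Agent.Lib.Unitary.MonoMax

set_option autoImplicit false
open Cfsg

namespace Cfsg.Agent.S5655

/-- Let F be the field with q² elements and n ≥ 13. Let D be a decomposition of F^n into t ≥ 2 pairwise orthogonal subspaces of equal dimension k, each non-degenerate for the standard unitary form, spanning F^n. Unless k = 2 and q = 2, the elements of SU_n(q) permuting the members of D form a maximal subgroup of SU_n(q). -/
theorem result {F : Type*} [Field F] [Fintype F] (n q : ℕ) (hF : Fintype.card F = q ^ 2) (hn : 13 ≤ n) {t : ℕ} (k : ℕ) (D : Fin t → Submodule F (Fin n → F)) (hD : Cfsg.Geo.IsNondegenerateMDecomposition (Cfsg.hermForm n F q) k D) (hex : ¬ (k = 2 ∧ q = 2)) : Cfsg.Geo.IsMaximalIn (Cfsg.GU n F q ⊓ Cfsg.Geo.specialLinear (Fin n) F) (Cfsg.Geo.decompositionStabilizer D ⊓ (Cfsg.GU n F q ⊓ Cfsg.Geo.specialLinear (Fin n) F)) := by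
  classical
  obtain ⟨b, hb, hmem⟩ := Cfsg.Agent.Unitary.exists_frame_of_decomposition hF hD
  have hdim : ∀ i, Module.finrank F (D i) = k := hD.1.finrank_eq
  have iff : ∀ g : Matrix.GeneralLinearGroup (Fin n) F,
      g ∈ Cfsg.Geo.decompositionStabilizer D ↔ Cfsg.Agent.Unitary.InStab b g := fun g =>
    Cfsg.Agent.Unitary.mem_decompositionStabilizer_iff hF hmem hdim
  have ht : 2 ≤ t := hD.1.two_le
  have hk : 0 < k := hD.1.pos
  have hcard := hb.card
  refine ⟨lt_of_le_of_ne inf_le_right fun h => ?_, fun M hHM hMK => ?_⟩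
  · obtain ⟨g, hg, hgH⟩ : ∃ g ∈ Cfsg.Agent.Unitary.suGL n F q, ¬ Cfsg.Agent.Unitary.InStab b g := by
      rcases Nat.lt_or_ge k 2 with h1 | h2
      · obtain rfl : k = 1 := by omega
        exact Cfsg.Agent.Unitary.exists_outside_mono hF (by omega) hb
      · exact Cfsg.Agent.Unitary.exists_outside_decomp hF hb h2 ht
    have : g ∈ Cfsg.Geo.decompositionStabilizer D ⊓ (Cfsg.GU n F q ⊓ Cfsg.Geo.specialLinear (Fin n) F) := by
      rw [h]; exact hg
    exact hgH ((iff g).1 this.1)
  · by_cases hle : M ≤ Cfsg.Geo.decompositionStabilizer D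
    · exact Or.inl (le_antisymm (le_inf hle hMK) hHM)
    right
    obtain ⟨g, hgM, hg⟩ := SetLike.not_le_iff_exists.1 hle
    have hHM' : ∀ x ∈ Cfsg.Agent.Unitary.suGL n F q, Cfsg.Agent.Unitary.InStab b x → x ∈ M :=
      fun x hx h => hHM ⟨(iff x).2 h, hx⟩
    refine le_antisymm hMK ?_
    rcases Nat.lt_or_ge k 2 with h1 | h2
    · obtain rfl : k = 1 := by omega
      exact Cfsg.Agent.Unitary.mono_overgroup hF (by omega) hb hHM' hMK hgM fun h => hg ((iff g).2 h)
    · have hkt : 3 ≤ k ∨ 3 ≤ t := by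
        by_contra h
        simp only [not_or, not_le] at h
        have : t * k ≤ 2 * 2 := Nat.mul_le_mul (by omega) (by omega)
        omega
      have hkq : 3 ≤ k ∨ 3 ≤ q := by
        have := Cfsg.Agent.Unitary.two_le_q hF
        by_contra h
        exact hex ⟨by omega, by omega⟩
      exact Cfsg.Agent.Unitary.decomp_overgroup hF hb hHM' h2 hkt hkq (by omega) hgM (hMK hgM)
        fun h => hg ((iff g).2 h)

end Cfsg.Agent.S5655
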