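import Cfsg.Statements.S5656
import Cfsg.Agent.Lib.Transvect.NonMax
import Cfsg.Agent.Lib.Unitary.Form

set_option autoImplicit false
open Cfsg

namespace Cfsg.Agent.S5656

open Cfsg.Agent.Transvect
open scoped Matrix

variable {n : ℕ} {F : Type*} [Field F] [Fintype F] (hF : Fintype.card F = 4)
include hF

local notation "𝔥" => Cfsg.hermForm n F 2

lemma herm_isHerm : Unitary.IsHerm 2 (Cfsg.hermForm n F 2) :=
  Unitary.hermForm_isHerm (by rw [hF]; norm_num) n

lemma two_eq_zero : (2 : F) = 0 := by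
  have hz := FiniteField.cast_card_eq_zero F
  rw [hF] at hz
  push_cast at hz
  exact mul_self_eq_zero.1 (by linear_combination hz)

lemma cube_eq_one {x : F} (hx : x ≠ 0) : x ^ 3 = 1 := by
  have := FiniteField.pow_card_sub_one_eq_one x hx
  rwa [hF] at this

/-- The functional h(·, v). -/
def hl (v : Fin n → F) : (Fin n → F) →ₗ[F] F where
  toFun x := Cfsg.hermForm n F 2 x v
  map_add' x y := (herm_isHerm hF).add_left x y v
  map_smul' c x := (herm_isHerm hF).smul_left c x v

/-- A unitary transvection. -/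
lemma hv_apply {v : Fin n → F} (hv : 𝔥 v v = 0) (x : Fin n → F) :
    app (tv v (hl hF v)) x = x + 𝔥 x v • v :=
  tv_apply (φ := hl hF v) hv x

lemma hv_mem {v : Fin n → F} (hv : 𝔥 v v = 0) :
    tv v (hl hF v) ∈ Cfsg.GU n F 2 ⊓ Cfsg.Geo.specialLinear (Fin n) F := by
  refine ⟨fun x y => ?_, tv_mem_sl _ _⟩
  show 𝔥 ((tv v (hl hF v) : Matrix (Fin n) (Fin n) F) *ᵥ x) _ = _
  rw [← app_apply]
  show 𝔥 (app (tv v (hl hF v)) x) (app (tv v (hl hF v)) y) = _
  have H := herm_isHerm (n := n) hF
  have hq : Fintype.card F = 2 ^ 2 := by rw [hF]; norm_num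
  rw [hv_apply hF hv, hv_apply hF hv, H.add_left, H.add_right hq, H.add_right hq, H.smul_left,
    H.smul_left, H.smul_right, H.smul_right, hv, H.conj_symm y v]
  linear_combination (𝔥 x v * 𝔥 y v ^ 2) * two_eq_zero hF

variable {t : ℕ} {D : Fin t → Submodule F (Fin n → F)}
  (hD : Cfsg.Geo.IsNondegenerateMDecomposition (Cfsg.hermForm n F 2) 2 D)
include hD

lemma exists_orth_pair (i : Fin t) : ∃ a b, a ∈ D i ∧ b ∈ D i ∧ 𝔥 a a = 1 ∧ 𝔥 b b = 1 ∧ 𝔥 a b = 0 ∧
    ∀ x ∈ D i, 𝔥 x x ≠ 0 → ∃ c : F, c ≠ 0 ∧ (x = c • a ∨ x = c • b) := by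
  classical
  have H := herm_isHerm (n := n) hF
  have hq : Fintype.card F = 2 ^ 2 := by rw [hF]; norm_num
  have one : ∀ x : Fin n → F, 𝔥 x x ≠ 0 → 𝔥 x x = 1 := fun x hx => by
    have h1 := H.self_fixed x
    exact mul_right_cancel₀ hx (by rw [one_mul, ← sq, h1])
  obtain ⟨a, ha, ha0⟩ : ∃ a ∈ D i, 𝔥 a a ≠ 0 := by
    by_contra hc
    push Not at hc
    obtain ⟨u, hu, hu0⟩ := exists_notMem hD.decomp (i := i) (W := ⊥) (by rw [finrank_bot]; omega)
    obtain ⟨⟨w, hw, hwu⟩, -⟩ := hD.nondegenerate i u hu (by simpa using hu0)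
    exact hwu (Unitary.IsHerm.eq_zero_of_isotropic (V := D i) (H.comap (D i).subtype) hq
      (fun x => hc x.1 x.2) ⟨w, hw⟩ ⟨u, hu⟩)
  have ha1 := one a ha0
  obtain ⟨y, hy, hya⟩ := exists_notMem hD.decomp (i := i) (W := Submodule.span F {a})
    (lt_of_le_of_lt (b := 1) ((finrank_span_le_card _).trans (by simp)) (by norm_num))
  set b := y + 𝔥 y a • a with hb
  have hbm : b ∈ D i := add_mem hy (Submodule.smul_mem _ _ ha)
  have hba : 𝔥 b a = 0 := by
    rw [hb, H.add_left, H.smul_left, ha1]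
    linear_combination (𝔥 y a) * two_eq_zero hF
  have hab : 𝔥 a b = 0 := by rw [H.conj_symm b a, hba]; norm_num
  have hspan : ∀ x ∈ D i, ∃ r s : F, x = r • a + s • b := fun x hx => by
    by_contra hc
    push Not at hc
    have hle : Submodule.span F (↑({a, y} : Finset (Fin n → F)) : Set (Fin n → F)) ≤ D i := by
      rw [Submodule.span_le]
      intro z hz
      simp only [Finset.coe_insert, Finset.coe_singleton, Set.mem_insert_iff, Set.mem_singleton_iff] at hz
      rcases hz with rfl | rfl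
      · exact ha
      · exact hy
    have heq : Submodule.span F (↑({a, y} : Finset (Fin n → F)) : Set (Fin n → F)) = D i := by
      refine Submodule.eq_of_le_of_finrank_le hle ?_
      rw [hD.decomp.finrank_eq]
      by_contra h1
      push Not at h1
      have h2 : Submodule.span F {a} ≤
          Submodule.span F (↑({a, y} : Finset (Fin n → F)) : Set (Fin n → F)) :=
        Submodule.span_mono (by simp)
      have hane : a ≠ 0 := fun h => ha0 (by rw [h]; exact H.zero_left 0)
      have h3 := Submodule.eq_of_le_of_finrank_le h2 (by rw [finrank_span_singleton hane]; omega)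
      exact hya (h3 ▸ Submodule.subset_span (by simp))
    rw [← heq, Finset.coe_insert, Finset.coe_singleton, Submodule.mem_span_pair] at hx
    obtain ⟨r, s, hrs⟩ := hx
    apply hc (r - s * 𝔥 y a) s
    rw [← hrs, hb, smul_add, smul_smul, sub_smul]
    abel
  have hb0 : b ≠ 0 := fun h => hya (Submodule.mem_span_singleton.2 ⟨- 𝔥 y a, by
    rw [neg_smul, eq_comm, eq_neg_iff_add_eq_zero, ← hb, h]⟩)
  have hbb : 𝔥 b b ≠ 0 := by
    intro h0
    obtain ⟨⟨w, hw, hwb⟩, -⟩ := hD.nondegenerate i b hbm hb0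
    obtain ⟨r, s, rfl⟩ := hspan w hw
    apply hwb
    rw [H.add_left, H.smul_left, H.smul_left, hab, h0]
    ring
  refine ⟨a, b, ha, hbm, ha1, one b hbb, hab, fun x hx hxx => ?_⟩
  obtain ⟨r, s, rfl⟩ := hspan x hx
  rcases eq_or_ne r 0 with rfl | hr
  · refine ⟨s, ?_, Or.inr (by rw [zero_smul, zero_add])⟩
    rintro rfl
    exact hxx (by rw [zero_smul, zero_smul, add_zero]; exact H.zero_left 0)
  rcases eq_or_ne s 0 with rfl | hs
  · exact ⟨r, hr, Or.inl (by rw [zero_smul, add_zero])⟩
  exfalso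
  apply hxx
  rw [H.add_left, H.add_right hq, H.add_right hq, H.smul_left, H.smul_left, H.smul_left,
    H.smul_left, H.smul_right, H.smul_right, H.smul_right, H.smul_right, hab, hba, ha1, one b hbb]
  linear_combination cube_eq_one hF hr + cube_eq_one hF hs + two_eq_zero hF

omit hF hD

/-- Let F be the field with 4 elements (q = 2) and n ≥ 13. Let D be a decomposition of F^n into t pairwise orthogonal 2-dimensional subspaces, each non-degenerate for the standard unitary form Σ u_i v_i². Then the elements of SU_n(2) permuting the members of D form a subgroup that is not maximal: some subgroup lies strictly between it and SU_n(2). -/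
theorem result {F : Type*} [Field F] [Fintype F] (n : ℕ) (hF : Fintype.card F = 4) (hn : 13 ≤ n) {t : ℕ} (D : Fin t → Submodule F (Fin n → F)) (hD : Cfsg.Geo.IsNondegenerateMDecomposition (Cfsg.hermForm n F 2) 2 D) : ∃ K : Subgroup (Matrix.GeneralLinearGroup (Fin n) F), Cfsg.Geo.decompositionStabilizer D ⊓ (Cfsg.GU n F 2 ⊓ Cfsg.Geo.specialLinear (Fin n) F) < K ∧ K < (Cfsg.GU n F 2 ⊓ Cfsg.Geo.specialLinear (Fin n) F) := by
  classical
  have H := herm_isHerm (n := n) hF
  have hq : Fintype.card F = 2 ^ 2 := by rw [hF]; norm_num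
  have h2 := two_eq_zero hF
  set X : (Fin n → F) → Prop := fun x => ∃ i, x ∈ D i ∧ Cfsg.hermForm n F 2 x x ≠ 0 with hX
  have hnt : n ≤ t * 2 := by simpa using card_le_mul hD.decomp
  choose a b ha hb haa hbb hab hlines using exists_orth_pair hF hD
  have hba : ∀ i, Cfsg.hermForm n F 2 (b i) (a i) = 0 := fun i => by
    rw [H.conj_symm (a i), hab]; norm_num
  have horth : ∀ i j, i ≠ j → ∀ u ∈ D i, ∀ v ∈ D j, Cfsg.hermForm n F 2 u v = 0 :=
    fun i j hij => hD.orthogonal i j hij
  let i0 : Fin t := ⟨0, by omega⟩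
  let i1 : Fin t := ⟨1, by omega⟩
  have h01 : i0 ≠ i1 := by simp [i0, i1, Fin.ext_iff]
  have hb0 : b i0 ≠ 0 := fun h => by
    have := hbb i0; rw [h, H.zero_left] at this; exact zero_ne_one this
  have ha1 : a i1 ≠ 0 := fun h => by
    have := haa i1; rw [h, H.zero_left] at this; exact zero_ne_one this
  set v := a i0 + a i1 with hv
  have hvv : Cfsg.hermForm n F 2 v v = 0 := by
    rw [hv, H.add_left, H.add_right hq, H.add_right hq, haa, haa, horth _ _ h01 _ (ha _) _ (ha _),
      horth _ _ h01.symm _ (ha _) _ (ha _)]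
    linear_combination h2
  have hS : ∀ g : Matrix.GeneralLinearGroup (Fin n) F, g ∈ Cfsg.Geo.decompositionStabilizer D →
      g ∈ Cfsg.GU n F 2 → ∀ x, X x → X (app g x) := by
    rintro g hg hgU x ⟨i, hxi, hx⟩
    obtain ⟨σ, hσ⟩ := exists_blockMap hg
    exact ⟨σ i, hσ i x hxi, by rw [show Cfsg.hermForm n F 2 (app g x) (app g x) = _ from hgU x x]; exact hx⟩
  set g := tv v (hl hF v) with hg
  have hga : ∀ i j, (i = i0 ∧ j = i1) ∨ (i = i1 ∧ j = i0) → app g (a i) = a j := by
    rintro i j (⟨rfl, rfl⟩ | ⟨rfl, rfl⟩)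
    · rw [hv_apply hF hvv, hv, H.add_right hq, haa, horth _ _ h01 _ (ha _) _ (ha _), add_zero, one_smul,
        ← add_assoc, ← two_smul F (a i0), h2, zero_smul, zero_add]
    · rw [hv_apply hF hvv, hv, H.add_right hq, haa, horth _ _ h01.symm _ (ha _) _ (ha _), zero_add, one_smul,
        add_comm (a i0), ← add_assoc, ← two_smul F (a i1), h2, zero_smul, zero_add]
  have hgb : ∀ i, app g (b i) = b i := fun i => by
    have e : ∀ k, Cfsg.hermForm n F 2 (b i) (a k) = 0 := fun k => by
      by_cases h : i = k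
      · subst h; exact hba i
      · exact horth i k h _ (hb i) _ (ha k)
    rw [hv_apply hF hvv, hv, H.add_right hq, e, e, add_zero, zero_smul, add_zero]
  have hgX : ∀ x, X x → X (app g x) := by
    rintro x ⟨i, hxi, hx⟩
    obtain ⟨c, hc, rfl | rfl⟩ := hlines i x hxi hx
    · have hex : ∃ j, app g (a i) = a j := by
        by_cases h0 : i = i0
        · exact ⟨i1, hga _ _ (Or.inl ⟨h0, rfl⟩)⟩
        by_cases h1 : i = i1
        · exact ⟨i0, hga _ _ (Or.inr ⟨h1, rfl⟩)⟩
        refine ⟨i, ?_⟩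
        rw [hv_apply hF hvv, hv, H.add_right hq, horth _ _ h0 _ (ha _) _ (ha _),
          horth _ _ h1 _ (ha _) _ (ha _), add_zero, zero_smul, add_zero]
      obtain ⟨j, hj⟩ := hex
      refine ⟨j, by rw [map_smul, hj]; exact Submodule.smul_mem _ _ (ha j), ?_⟩
      rw [map_smul, hj, H.smul_left, H.smul_right, haa]
      simp [hc]
    · exact ⟨i, by rw [map_smul, hgb]; exact Submodule.smul_mem _ _ (hb i), by rwa [map_smul, hgb]⟩
  refine exists_between (fixer X) ?_ inf_le_right ⟨g, ?_, hv_mem hF hvv, ?_⟩ ?_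
  · intro x hx z
    refine propext ⟨fun h => ?_, hS x hx.1 hx.2.1 z⟩
    have := hS x⁻¹ (inv_mem hx.1) (inv_mem hx.2.1) _ h
    rwa [app_inv_app] at this
  · intro z
    have hgg : app g (app g z) = z := by
      rw [hv_apply hF hvv, hv_apply hF hvv, H.add_left, H.smul_left, hvv, mul_zero, add_zero, add_assoc,
        ← two_smul F, h2, zero_smul, add_zero]
    exact propext ⟨fun h => by simpa only [hgg] using hgX _ h, hgX z⟩
  · intro hc
    obtain ⟨σ, hσ⟩ := exists_blockMap hc.1
    have e1 := hσ i0 (a i0) (ha i0)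
    have e2 := hσ i0 (b i0) (hb i0)
    rw [hga _ _ (Or.inl ⟨rfl, rfl⟩)] at e1
    rw [hgb] at e2
    rcases eq_or_ne (σ i0) i0 with h | h
    · have := pr_of_mem_ne hD.decomp (i := i1) (by rw [h]; exact h01) e1
      rw [pr_of_mem hD.decomp (ha i1)] at this
      exact ha1 this
    · have := pr_of_mem_ne hD.decomp (i := i0) h e2
      rw [pr_of_mem hD.decomp (hb i0)] at this
      exact hb0 this
  · set w := a i0 + b i0 + (a i1 + b i1) with hw
    have hww : Cfsg.hermForm n F 2 w w = 0 := by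
      simp only [hw, H.add_left, H.add_right hq, haa, hbb, hab, hba, horth _ _ h01 _ (ha _) _ (ha _),
        horth _ _ h01 _ (ha _) _ (hb _), horth _ _ h01 _ (hb _) _ (ha _),
        horth _ _ h01 _ (hb _) _ (hb _), horth _ _ h01.symm _ (ha _) _ (ha _),
        horth _ _ h01.symm _ (ha _) _ (hb _), horth _ _ h01.symm _ (hb _) _ (ha _),
        horth _ _ h01.symm _ (hb _) _ (hb _)]
      linear_combination 2 * h2
    refine ⟨tv w (hl hF w), hv_mem hF hww, fun hc => ?_⟩
    have hXa : X (a i0) := ⟨i0, ha i0, by rw [haa]; exact one_ne_zero⟩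
    rw [← hc (a i0)] at hXa
    obtain ⟨i, hi, -⟩ := hXa
    have himg : app (tv w (hl hF w)) (a i0) = b i0 + (a i1 + b i1) := by
      rw [hv_apply hF hww, hw, H.add_right hq, H.add_right hq, H.add_right hq, haa, hab,
        horth _ _ h01 _ (ha _) _ (ha _), horth _ _ h01 _ (ha _) _ (hb _), add_zero, add_zero, add_zero,
        one_smul]
      calc _ = (2 : F) • a i0 + (b i0 + (a i1 + b i1)) := by rw [two_smul]; abel
        _ = _ := by rw [h2, zero_smul, zero_add]
    rw [himg] at hi
    rcases eq_or_ne i i0 with h | h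
    · have := pr_of_mem_ne hD.decomp (i := i1) (by rw [h]; exact h01) hi
      rw [map_add, map_add, pr_of_mem_ne hD.decomp h01 (hb i0), pr_of_mem hD.decomp (ha i1),
        pr_of_mem hD.decomp (hb i1), zero_add] at this
      have h7 : Cfsg.hermForm n F 2 (a i1 + b i1) (a i1) = 0 := by rw [this]; exact H.zero_left _
      rw [H.add_left, haa, hba, add_zero] at h7
      exact one_ne_zero h7
    · have := pr_of_mem_ne hD.decomp (i := i0) h hi
      rw [map_add, map_add, pr_of_mem hD.decomp (hb i0), pr_of_mem_ne hD.decomp h01.symm (ha i1),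
        pr_of_mem_ne hD.decomp h01.symm (hb i1), add_zero, add_zero] at this
      exact hb0 this

end Cfsg.Agent.S5656
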