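import Cfsg.Statements.S5664
import Cfsg.Agent.Lib.FieldExtMax.SpMatrix

set_option autoImplicit false
open Cfsg

namespace Cfsg.Agent.S5664

/-- The statement in every degree covered by the proof. -/
theorem general {F : Type*} [Field F] [Fintype F] (m : ℕ) (hm : 2 ≤ m ∧ Odd (Fintype.card F) ∨ 3 ≤ m) (r : ℕ) (hr : r.Prime) (K : Subalgebra F (Matrix (Fin m ⊕ Fin m) (Fin m ⊕ Fin m) F)) (hK : Cfsg.Geo.IsFieldSubalgebra r K) (hsa : Cfsg.Geo.IsSelfAdjointFor (Cfsg.sympForm m F) K) (halt : ∀ k ∈ K, ∀ v : (Fin m ⊕ Fin m → F), Cfsg.sympForm m F (Matrix.mulVec k v) v = 0) : Cfsg.Geo.IsMaximalIn (Cfsg.spGL m F) (Cfsg.Geo.subalgebraNormalizer K ⊓ Cfsg.spGL m F) := by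
  haveI : Nonempty (Fin m ⊕ Fin m) := ⟨.inl ⟨0, by omega⟩⟩
  have hbig : (∀ t : F, t = 0 ∨ t = 1) → r = 2 → 6 ≤ Fintype.card (Fin m ⊕ Fin m) := fun hF2 _ => by
    rcases hm with ⟨-, hodd⟩ | hm
    · exfalso
      classical
      have hc : (Finset.univ : Finset F) = {0, 1} := Finset.ext fun t => by simpa using hF2 t
      rw [← Finset.card_univ, hc, Finset.card_pair zero_ne_one] at hodd
      exact absurd hodd (by decide)
    · simp; omega
  obtain ⟨hM, g₀, hg₀, hg₀N⟩ := FieldExtMax.sp_cases (f := Cfsg.sympForm m F) hr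
    (Transvect.sympForm_isSymplectic m) hbig hK hsa halt
  refine ⟨lt_of_le_of_ne inf_le_right fun h => hg₀N ?_, fun M hM₁ hM₂ => ?_⟩
  · exact (inf_eq_right.1 h) (Transvect.mem_spGL_iff.2 hg₀)
  · rcases hM M (fun g hg hi => hM₁ ⟨hg, Transvect.mem_spGL_iff.2 hi⟩)
      (fun g hg => Transvect.mem_spGL_iff.1 (hM₂ hg)) with h | h
    · exact Or.inl (le_antisymm (le_inf h hM₂) hM₁)
    · exact Or.inr (le_antisymm hM₂ fun g hg => h g (Transvect.mem_spGL_iff.1 hg))

/-- For a finite field F and m ≥ 7, let K be a subfield of the algebra of 2m × 2m matrices over F containing the scalars, of prime degree r over F, whose elements k are self-adjoint for the standard alternating form f on F^(2m) (f(k u, v) = f(u, k v)) and satisfy f(k v, v) = 0 for all v. Then the elements of Sp_2m(F) normalising K form a maximal subgroup of Sp_2m(F). -/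
theorem result {F : Type*} [Field F] [Fintype F] (m : ℕ) (hm : 7 ≤ m) (r : ℕ) (hr : r.Prime) (K : Subalgebra F (Matrix (Fin m ⊕ Fin m) (Fin m ⊕ Fin m) F)) (hK : Cfsg.Geo.IsFieldSubalgebra r K) (hsa : Cfsg.Geo.IsSelfAdjointFor (Cfsg.sympForm m F) K) (halt : ∀ k ∈ K, ∀ v : (Fin m ⊕ Fin m → F), Cfsg.sympForm m F (Matrix.mulVec k v) v = 0) : Cfsg.Geo.IsMaximalIn (Cfsg.spGL m F) (Cfsg.Geo.subalgebraNormalizer K ⊓ Cfsg.spGL m F) := by
  apply general <;> first | assumption | omega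

end Cfsg.Agent.S5664
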