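import Cfsg.Statements.S5665
import Cfsg.Agent.Lib.Transvect.UnitarySymp
import Cfsg.Agent.Lib.Transvect.UnitarySympSix

set_option autoImplicit false
open Cfsg

namespace Cfsg.Agent.S5665

open Cfsg.Agent.Transvect
open scoped Matrix

variable {ι : Type} [Fintype ι] [DecidableEq ι] {F : Type*} [Field F]

/-- A quadratic adjoint-closed field subalgebra is spanned by 1 and an anti-self-adjoint j with j² a non-square. -/
lemma exists_skew {f : (ι → F) → (ι → F) → F} (hf : Cfsg.Geo.IsSymplecticForm f) (h2 : (2 : F) ≠ 0)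
    [Nonempty ι] {K : Subalgebra F (Matrix ι ι F)} (hK : Cfsg.Geo.IsFieldSubalgebra 2 K)
    (hac : Cfsg.Geo.IsAdjointClosedFor f K) (hnsa : ¬ Cfsg.Geo.IsSelfAdjointFor f K) :
    ∃ (j : Matrix ι ι F) (d : F), j ∈ K ∧ (∀ u v, f (j *ᵥ u) v = - f u (j *ᵥ v)) ∧ j * j = d • 1 ∧
      (∀ c : F, c * c ≠ d) ∧ ∀ k ∈ K, ∃ α β : F, k = α • (1 : Matrix ι ι F) + β • j := by
  obtain ⟨k, hk, u0, v0, hne⟩ : ∃ k ∈ K, ∃ u v, f (k *ᵥ u) v ≠ f u (k *ᵥ v) := by
    simpa [Cfsg.Geo.IsSelfAdjointFor] using hnsa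
  obtain ⟨k', hk', hadj⟩ := hac k hk
  set j := k - k' with hj
  have hskew : ∀ u v, f (j *ᵥ u) v = - f u (j *ᵥ v) := fun u v => by
    have e1 : f (k' *ᵥ u) v = f u (k *ᵥ v) := by rw [hf.skew, ← hadj, ← hf.skew]
    rw [hj, Matrix.sub_mulVec, Matrix.sub_mulVec]
    simp only [← bl_apply hf, map_sub, LinearMap.sub_apply]
    simp only [bl_apply, hadj, e1]
    ring
  have hjK : j ∈ K := K.sub_mem hk hk'
  have hj0 : j ≠ 0 := fun h => hne (by
    rw [hadj, show k' = k from (sub_eq_zero.1 h).symm])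
  have hns : ∀ c : F, j ≠ c • (1 : Matrix ι ι F) := fun c h => by
    have hc : c ≠ 0 := fun h0 => hj0 (by rw [h, h0, zero_smul])
    obtain ⟨v, hv⟩ := exists_ne (0 : ι → F)
    obtain ⟨⟨u, hu⟩, -⟩ := hf.nondegenerate v hv
    have h1 := hskew u v
    rw [h, Matrix.smul_mulVec, Matrix.smul_mulVec, Matrix.one_mulVec, Matrix.one_mulVec,
      hf.bilinear.smul_left, hf.bilinear.smul_right] at h1
    have : 2 * (c * f u v) = 0 := by linear_combination h1
    exact mul_ne_zero h2 (mul_ne_zero hc hu) this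
  have hfd : Module.Finite F K := Module.finite_of_finrank_pos (by rw [hK.finrank_eq]; norm_num)
  have hind : LinearIndependent F ![(⟨1, K.one_mem⟩ : K), ⟨j, hjK⟩] := by
    rw [LinearIndependent.pair_iff]
    intro s t h
    have h' : s • (1 : Matrix ι ι F) + t • j = 0 := congrArg Subtype.val h
    by_cases ht : t = 0
    · subst ht
      rw [zero_smul, add_zero, smul_eq_zero] at h'
      exact ⟨h'.resolve_right one_ne_zero, rfl⟩
    · exfalso
      apply hns (-(t⁻¹ * s))
      calc j = t⁻¹ • (t • j) := by rw [smul_smul, inv_mul_cancel₀ ht, one_smul]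
        _ = _ := by rw [eq_neg_of_add_eq_zero_right h', smul_neg, smul_smul, neg_smul]
  have hspan := hind.span_eq_top_of_card_eq_finrank' (by rw [Fintype.card_fin, hK.finrank_eq])
  have hsp : ∀ x ∈ K, ∃ α β : F, x = α • (1 : Matrix ι ι F) + β • j := fun x hx => by
    have : (⟨x, hx⟩ : K) ∈ Submodule.span F (Set.range ![(⟨1, K.one_mem⟩ : K), ⟨j, hjK⟩]) :=
      hspan ▸ Submodule.mem_top
    rw [Matrix.range_cons, Matrix.range_cons, Matrix.range_empty, Set.union_empty,
      Set.singleton_union, Submodule.mem_span_pair] at this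
    obtain ⟨α, β, h⟩ := this
    exact ⟨α, β, (congrArg Subtype.val h).symm⟩
  obtain ⟨d, β, hdb⟩ := hsp (j * j) (K.mul_mem hjK hjK)
  have hβ : β = 0 := by
    by_contra hβ
    have hall : ∀ u v, f (j *ᵥ u) v = 0 := fun u v => by
      have e2 : f ((j * j) *ᵥ u) v = f u ((j * j) *ᵥ v) := by
        rw [← Matrix.mulVec_mulVec, ← Matrix.mulVec_mulVec, hskew, hskew, neg_neg]
      rw [hdb, Matrix.add_mulVec, Matrix.add_mulVec, Matrix.smul_mulVec, Matrix.smul_mulVec,
        Matrix.smul_mulVec, Matrix.smul_mulVec, Matrix.one_mulVec, Matrix.one_mulVec,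
        hf.bilinear.add_left, hf.bilinear.add_right, hf.bilinear.smul_left, hf.bilinear.smul_left,
        hf.bilinear.smul_right, hf.bilinear.smul_right] at e2
      have h3 : (2 * β) * f (j *ᵥ u) v = 0 := by linear_combination e2 + β * hskew u v
      exact (mul_eq_zero.1 h3).resolve_left (mul_ne_zero h2 hβ)
    apply hj0
    refine Matrix.ext_of_mulVec_single fun i => ?_
    rw [Matrix.zero_mulVec]
    by_contra h0
    obtain ⟨-, x, hx⟩ := hf.nondegenerate _ h0
    exact hx (hall _ x)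
  subst hβ
  rw [zero_smul, add_zero] at hdb
  refine ⟨j, d, hjK, hskew, hdb, fun c hc => ?_, hsp⟩
  have h1 : j - c • (1 : Matrix ι ι F) ≠ 0 := fun h => hns c (sub_eq_zero.1 h)
  obtain ⟨y, -, hy⟩ := hK.inv _ (K.sub_mem hjK (K.smul_mem K.one_mem c)) h1
  have h3 : (j + c • (1 : Matrix ι ι F)) * (j - c • (1 : Matrix ι ι F)) = 0 := by
    rw [mul_sub, add_mul, add_mul, hdb, ← hc, Matrix.smul_mul, Matrix.smul_mul, Matrix.mul_smul,
      Matrix.mul_smul, one_mul, mul_one, one_mul, smul_smul]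
    abel
  have h4 : j + c • (1 : Matrix ι ι F) = 0 := by
    have := congrArg (· * y) h3
    simpa only [mul_assoc, hy, mul_one, zero_mul] using this
  exact hns (-c) (by rw [neg_smul]; exact eq_neg_of_add_eq_zero_left h4)

lemma mem_norm {K : Subalgebra F (Matrix ι ι F)} {j : Matrix ι ι F} (hjK : j ∈ K)
    (hsp : ∀ k ∈ K, ∃ α β : F, k = α • (1 : Matrix ι ι F) + β • j) {g : Matrix.GeneralLinearGroup ι F}
    {s : F} (hs : s * s = 1) (h : (g : Matrix ι ι F) * j = s • (j * (g : Matrix ι ι F))) :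
    g ∈ Cfsg.Geo.subalgebraNormalizer K := by
  have e : (g : Matrix ι ι F) * j * ((g⁻¹ : Matrix.GeneralLinearGroup ι F) : Matrix ι ι F) = s • j := by
    rw [h, Matrix.smul_mul, mul_assoc, Units.mul_inv, mul_one]
  have fwd : ∀ k ∈ K, (g : Matrix ι ι F) * k * ((g⁻¹ : Matrix.GeneralLinearGroup ι F) : Matrix ι ι F) ∈ K := by
    intro k hk
    obtain ⟨α, β, rfl⟩ := hsp k hk
    rw [mul_add, add_mul, Matrix.mul_smul, Matrix.mul_smul, mul_one, Matrix.smul_mul, Matrix.smul_mul,
      Units.mul_inv, e]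
    exact K.add_mem (K.smul_mem K.one_mem α) (K.smul_mem (K.smul_mem hjK s) β)
  refine fun k => ⟨fwd k, fun hk => ?_⟩
  obtain ⟨α, β, hαβ⟩ := hsp _ hk
  have hk' : k = ((g⁻¹ : Matrix.GeneralLinearGroup ι F) : Matrix ι ι F) *
      (α • (1 : Matrix ι ι F) + β • j) * (g : Matrix ι ι F) := by
    rw [← hαβ]; simp [mul_assoc, ← mul_assoc ((g⁻¹ : Matrix.GeneralLinearGroup ι F) : Matrix ι ι F) (g : Matrix ι ι F)]
  have e2 : ((g⁻¹ : Matrix.GeneralLinearGroup ι F) : Matrix ι ι F) * j * (g : Matrix ι ι F) = s • j := by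
    have h1 : ((g⁻¹ : Matrix.GeneralLinearGroup ι F) : Matrix ι ι F) *
        ((g : Matrix ι ι F) * j) = s • (((g⁻¹ : Matrix.GeneralLinearGroup ι F) : Matrix ι ι F) * j * g) := by
      rw [h, Matrix.mul_smul, mul_assoc]
    rw [← mul_assoc, Units.inv_mul, one_mul] at h1
    conv_rhs => rw [h1, smul_smul, hs, one_smul]
  rw [hk', mul_add, add_mul, Matrix.mul_smul, Matrix.mul_smul, mul_one, Matrix.smul_mul, Matrix.smul_mul,
    Units.inv_mul, e2]
  exact K.add_mem (K.smul_mem K.one_mem α) (K.smul_mem (K.smul_mem hjK s) β)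


/-- The statement in every degree covered by the proof. -/
theorem general {F : Type*} [Field F] [Fintype F] (m : ℕ) (hm : m = 3 ∨ 4 ≤ m) (hodd : Odd (Fintype.card F)) (K : Subalgebra F (Matrix (Fin m ⊕ Fin m) (Fin m ⊕ Fin m) F)) (hK : Cfsg.Geo.IsFieldSubalgebra 2 K) (hac : Cfsg.Geo.IsAdjointClosedFor (Cfsg.sympForm m F) K) (hnsa : ¬ Cfsg.Geo.IsSelfAdjointFor (Cfsg.sympForm m F) K) : Cfsg.Geo.IsMaximalIn (Cfsg.spGL m F) (Cfsg.Geo.subalgebraNormalizer K ⊓ Cfsg.spGL m F) := by
  classical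
  have hchar : ringChar F ≠ 2 := fun h => by
    have := FiniteField.even_card_iff_char_two.1 h
    rw [Nat.odd_iff] at hodd
    omega
  have h2 : (2 : F) ≠ 0 := Ring.two_ne_zero hchar
  have hf := sympForm_isSymplectic (F := F) m
  haveI : Nonempty (Fin m ⊕ Fin m) := ⟨.inl ⟨0, by omega⟩⟩
  obtain ⟨j, d, hjK, hskew, hj2, hd, hsp⟩ := exists_skew hf h2 hK hac hnsa
  let J : (Fin m ⊕ Fin m → F) →ₗ[F] (Fin m ⊕ Fin m → F) := Matrix.mulVecLin j
  have hJ2 : ∀ x, J (J x) = d • x := fun x => by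
    simp [J, Matrix.mulVec_mulVec, hj2, Matrix.smul_mulVec]
  have hcard : Fintype.card (Fin m ⊕ Fin m) = m + m := by rw [Fintype.card_sum, Fintype.card_fin]
  have hcomm : ∀ (g : Matrix.GeneralLinearGroup (Fin m ⊕ Fin m) F) (s : F),
      (∀ x, app g (J x) = s • J (app g x)) →
      (g : Matrix _ _ F) * j = s • (j * (g : Matrix _ _ F)) := fun g s h => by
    refine Matrix.ext_of_mulVec_single fun i => ?_
    rw [← Matrix.mulVec_mulVec, Matrix.smul_mulVec, ← Matrix.mulVec_mulVec]
    exact h _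
  refine isMaximalIn_of_forall inf_le_right ?_ fun M hHM hMS g hg hgH => ?_
  · obtain ⟨e, he⟩ := exists_ne (0 : Fin m ⊕ Fin m → F)
    refine ⟨st hf e 1, mem_spGL_iff.2 (st_isIsom hf e 1), fun hc => ?_⟩
    obtain ⟨α, β, hαβ⟩ := hsp _ ((hc.1 j).1 hjK)
    set g := st hf e 1
    have hgj : ∀ x, app g (J x) = α • app g x + β • J (app g x) := fun x => by
      have h1 : (g : Matrix _ _ F) * j = (α • (1 : Matrix _ _ F) + β • j) * (g : Matrix _ _ F) := by
        rw [← hαβ, mul_assoc, Units.inv_mul, mul_one]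
      have := congrArg (· *ᵥ x) h1
      simp only [← Matrix.mulVec_mulVec, Matrix.add_mulVec, Matrix.smul_mulVec, Matrix.one_mulVec] at this
      exact this
    -- a vector orthogonal to e and J e
    obtain ⟨i, hi, i0, -⟩ := exists_iso hf hJ2 hd hskew hodd (S := orthJ hf (J := J) ![e])
      (fun x hx => orthJ_J hf hJ2 hskew hx) (by
        have := finrank_orthJ hf (J := J) ![e]
        omega)
    have hi0 := (mem_orthJ hf).1 hi 0
    simp only [Matrix.cons_val_zero] at hi0
    have hJi : Cfsg.sympForm m F (J i) e = 0 := by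
      rw [show Cfsg.sympForm m F (J i) e = _ from hskew i e]
      exact neg_eq_zero.2 hi0.2
    have h1 := hgj i
    rw [st_apply, st_apply, hJi, hi0.1, mul_zero, zero_smul, add_zero, add_zero] at h1
    have hJi' := congrArg J h1
    rw [map_add, map_smul, map_smul, hJ2, h1] at hJi'
    have hi' : i ∉ Submodule.span F {J i} := by
      intro h
      obtain ⟨c, hc⟩ := Submodule.mem_span_singleton.1 h
      have h3 := congrArg J hc
      rw [map_smul, hJ2, smul_smul] at h3
      rw [← h3, smul_smul] at hc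
      have h4 : c * (c * d) = 1 := by
        by_contra hne
        have : (c * (c * d) - 1) • i = 0 := by rw [sub_smul, one_smul, hc, sub_self]
        exact hne (sub_eq_zero.1 ((smul_eq_zero.1 this).resolve_right i0))
      exact hd c⁻¹ (by
        have hc0 : c ≠ 0 := fun h => by rw [h] at h4; simp at h4
        field_simp
        linear_combination -h4)
    have hβ : α = 0 ∧ β = 1 := by
      have hα : α = 0 := by
        by_contra hne
        apply hi'
        refine Submodule.mem_span_singleton.2 ⟨(1 - β) / α, ?_⟩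
        have h5 : α • i = (1 - β) • J i := by rw [sub_smul, one_smul]; exact eq_sub_of_add_eq h1.symm
        rw [div_eq_inv_mul, ← smul_smul, ← h5, smul_smul, inv_mul_cancel₀ hne, one_smul]
      refine ⟨hα, ?_⟩
      subst hα
      rw [zero_smul, zero_add] at h1
      by_contra hne
      have : (1 - β) • J i = 0 := by rw [sub_smul, one_smul, ← h1, sub_self]
      rcases smul_eq_zero.1 this with h6 | h6
      · exact hne (sub_eq_zero.1 h6).symm
      · exact hi' (by
          have := congrArg J h6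
          rw [hJ2, map_zero] at this
          have hd0 : d ≠ 0 := fun h => hd 0 (by rw [h, mul_zero])
          rw [(smul_eq_zero.1 this).resolve_left hd0]; exact zero_mem _)
    -- so g commutes with J, which forces J e to be a multiple of e
    obtain ⟨rfl, rfl⟩ := hβ
    obtain ⟨⟨y, hy⟩, -⟩ := hf.nondegenerate e he
    have h7 := hgj y
    rw [zero_smul, zero_add, one_smul, st_apply, st_apply, map_add, map_smul, add_right_inj, one_mul,
      one_mul] at h7
    obtain ⟨c, hc'⟩ : ∃ c : F, J e = c • e := ⟨(Cfsg.sympForm m F y e)⁻¹ * Cfsg.sympForm m F (J y) e, by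
      rw [← smul_smul, h7, smul_smul, inv_mul_cancel₀ hy, one_smul]⟩
    have h8 := congrArg J hc'
    rw [hJ2, map_smul, hc', smul_smul] at h8
    have : (d - c * c) • e = 0 := by rw [sub_smul, h8, sub_self]
    exact hd c (sub_eq_zero.1 ((smul_eq_zero.1 this).resolve_right he)).symm
  · have hH : ∀ x : Matrix.GeneralLinearGroup (Fin m ⊕ Fin m) F,
        IsIsom (Cfsg.sympForm m F) x → (∀ y, app x (J y) = J (app x y)) → x ∈ M := fun x hx hxc =>
      hHM ⟨mem_norm hjK hsp (one_mul (1 : F)) (hcomm x 1 fun y => by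
        rw [one_smul]; exact hxc y), mem_spGL_iff.2 hx⟩
    have hns : ¬ ∃ s : F, s * s = 1 ∧ ∀ x, app g (J x) = s • J (app g x) := fun ⟨s, hs, hsx⟩ =>
      hgH ⟨mem_norm hjK hsp hs (hcomm g s hsx), hMS hg⟩
    exact spGL_le_of_centres M (centres_of_not_semilinear_six hf hJ2 hd hskew hodd h2 hH
      (by omega) hg (mem_spGL_iff.1 (hMS hg)) hns)

/-- For a finite field F of odd order and m ≥ 7, let K be a subfield of the algebra of 2m × 2m matrices over F containing the scalars, of degree 2 over F, that is closed under adjoints for the standard alternating form on F^(2m) but whose elements are not all self-adjoint (so the adjoint map induces the automorphism of order two of K). Then the elements of Sp_2m(F) normalising K form a maximal subgroup of Sp_2m(F). -/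
theorem result {F : Type*} [Field F] [Fintype F] (m : ℕ) (hm : 7 ≤ m) (hodd : Odd (Fintype.card F)) (K : Subalgebra F (Matrix (Fin m ⊕ Fin m) (Fin m ⊕ Fin m) F)) (hK : Cfsg.Geo.IsFieldSubalgebra 2 K) (hac : Cfsg.Geo.IsAdjointClosedFor (Cfsg.sympForm m F) K) (hnsa : ¬ Cfsg.Geo.IsSelfAdjointFor (Cfsg.sympForm m F) K) : Cfsg.Geo.IsMaximalIn (Cfsg.spGL m F) (Cfsg.Geo.subalgebraNormalizer K ⊓ Cfsg.spGL m F) := by
  exact general m (Or.inr (by omega)) hodd K hK hac hnsa

end Cfsg.Agent.S5665
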