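import Cfsg.Statements.S5668
import Cfsg.Agent.Lib.C7F.Transport
import Cfsg.Agent.Lib.C5.Transfer

set_option autoImplicit false
open Cfsg

namespace Cfsg.Agent.S5668

/-- The statement without the degree bound. -/
theorem general {F : Type*} [Field F] [Fintype F] (m : ℕ) (hodd : Odd (Fintype.card F)) (k t : ℕ) (h01 : 2 ≤ k) (ht : Odd t) (ht3 : 3 ≤ t) (hex : ¬ (Fintype.card F = 3 ∧ k = 2)) (e : (Fin m ⊕ Fin m) ≃ (Fin t → Fin k)) (P : Matrix.GeneralLinearGroup (Fin m ⊕ Fin m) F) (f₁ : (Fin k → F) → (Fin k → F) → F) (hf₁ : Cfsg.Geo.IsSymplecticForm f₁) (hT : Cfsg.Geo.IsTensorPowerFormStructure id (Cfsg.sympForm m F) f₁ e P) : Cfsg.Geo.IsMaximalIn (Cfsg.spGL m F) (Cfsg.Geo.tensorWreathSubgroup k t e P ⊓ Cfsg.spGL m F) := by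
  
  classical
  obtain ⟨c, hc, hf⟩ := hT
  have h2 : (2 : F) ≠ 0 := Ring.two_ne_zero fun h =>
    (Nat.not_even_iff_odd.2 hodd) (Nat.even_iff.2 (FiniteField.even_card_of_char_two h))
  obtain ⟨s, rfl⟩ : ∃ s, t = s + 1 := ⟨t - 1, by omega⟩
  set G := C7F.ofForm h2 hf₁ with hG
  have hcard : 2 * m = k ^ (s + 1) := by
    have := Fintype.card_congr e
    simp at this
    omega
  have hk : k = 2 ∨ 4 ≤ k := by
    obtain ⟨r, rfl⟩ := G.even_k
    omega
  have hq : k = 2 → Fintype.card F ≠ 3 := fun hk2 hF => hex ⟨hF, hk2⟩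
  have hs : G.sgn (s + 1) = -1 := by rw [C7F.Fm.sgn, ht.neg_one_pow]
  have h := C5.isMaximalIn_map (C7F.carry e P)
    (C7F.Fm.isMaximalIn_isoGrp (G := G) hk hq (t := s) (by omega) hs)
  have hiso : (G.isoGrp (s + 1)).map (C7F.carry e P).toMonoidHom = Cfsg.spGL m F := by
    ext g
    obtain ⟨g, rfl⟩ := (C7F.carry e P).surjective g
    rw [Subgroup.mem_map_equiv, MulEquiv.symm_apply_apply, Transvect.mem_spGL_iff,
      C7F.mem_isoGrp_iff_carry (G := G) hc e P fun x y => hf x y]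
  rw [Subgroup.map_inf _ _ (C7F.carry e P).toMonoidHom (C7F.carry e P).injective, hiso,
    C7F.map_carry] at h
  exact h

/-- For a finite field F of odd order q and m ≥ 7, suppose the standard alternating form on F^(2m) is similar, through a change of basis P and a bijection of index sets e, to the t-fold tensor power of a non-degenerate symplectic form f₁ on F^k, with t odd, t ≥ 3 and (q, k) ≠ (3, 2). Then the elements of Sp_2m(F) in the stabiliser of this decomposition (the conjugate by P of the standard tensor-wreath subgroup transported along e) form a maximal subgroup of Sp_2m(F). -/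
theorem result {F : Type*} [Field F] [Fintype F] (m : ℕ) (hm : 7 ≤ m) (hodd : Odd (Fintype.card F)) (k t : ℕ) (ht : Odd t) (ht3 : 3 ≤ t) (hex : ¬ (Fintype.card F = 3 ∧ k = 2)) (e : (Fin m ⊕ Fin m) ≃ (Fin t → Fin k)) (P : Matrix.GeneralLinearGroup (Fin m ⊕ Fin m) F) (f₁ : (Fin k → F) → (Fin k → F) → F) (hf₁ : Cfsg.Geo.IsSymplecticForm f₁) (hT : Cfsg.Geo.IsTensorPowerFormStructure id (Cfsg.sympForm m F) f₁ e P) : Cfsg.Geo.IsMaximalIn (Cfsg.spGL m F) (Cfsg.Geo.tensorWreathSubgroup k t e P ⊓ Cfsg.spGL m F) := by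
  refine general m hodd k t ?_ ht ht3 hex e P f₁ hf₁ hT
  by_contra hlt
  have h1 : k ^ t ≤ 1 := (Nat.pow_le_pow_left (by omega : k ≤ 1) _).trans (by simp)
  have h2 := Fintype.card_congr e
  simp at h2
  omega

end Cfsg.Agent.S5668
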