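import Cfsg.Statements.S5671
import Cfsg.Agent.Lib.Transvect.TensorFrame
import Cfsg.Agent.Lib.Unitary.Form

set_option autoImplicit false
open Cfsg

namespace Cfsg.Agent.S5671

open Cfsg.Agent.Transvect
open scoped Matrix

variable {F : Type*} [Field F] [Fintype F]

lemma fog_eq (hq : Fintype.card F = 2 ^ 2) {k : ℕ} {f : (Fin k → F) → (Fin k → F) → F}
    (H : Unitary.IsHerm 2 f) (x y : Fin k → F) :
    Cfsg.Geo.formOfGram (fun a : F => a ^ 2) (Cfsg.Geo.gramMatrix f) x y = f x y := by
  conv_rhs => rw [pi_eq_sum_univ' x, pi_eq_sum_univ' y]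
  rw [H.sum_left]
  simp only [H.sum_right hq, H.smul_left, H.smul_right, Cfsg.Geo.formOfGram, Cfsg.Geo.gramMatrix,
    Finset.mul_sum]
  refine Finset.sum_congr rfl fun a _ => Finset.sum_congr rfl fun b _ => ?_
  ring


/-- Let F be the field with 4 elements (q = 2) and n = 2 n₂ ≥ 13. Suppose the standard unitary form Σ u_i v_i² on F^n is similar, through P and e, to the tensor product of non-degenerate unitary forms f₁ on F^2 and f₂ on F^(n₂). Then the elements of SU_n(2) in the stabiliser of this tensor decomposition form a subgroup that is not maximal: some subgroup lies strictly between it and SU_n(2). -/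
theorem result {F : Type*} [Field F] [Fintype F] (n : ℕ) (hF : Fintype.card F = 4) (hn : 13 ≤ n) (n₂ : ℕ) (e : Fin n ≃ Fin 2 × Fin n₂) (P : Matrix.GeneralLinearGroup (Fin n) F) (f₁ : (Fin 2 → F) → (Fin 2 → F) → F) (f₂ : (Fin n₂ → F) → (Fin n₂ → F) → F) (hf₁ : Cfsg.Geo.IsUnitaryFormPow 2 f₁) (hf₂ : Cfsg.Geo.IsUnitaryFormPow 2 f₂) (hT : Cfsg.Geo.IsTensorFormStructure (fun x : F => x ^ 2) (Cfsg.hermForm n F 2) f₁ f₂ e P) : ∃ K : Subgroup (Matrix.GeneralLinearGroup (Fin n) F), Cfsg.Geo.tensorProductSubgroup 2 n₂ e P ⊓ (Cfsg.GU n F 2 ⊓ Cfsg.Geo.specialLinear (Fin n) F) < K ∧ K < (Cfsg.GU n F 2 ⊓ Cfsg.Geo.specialLinear (Fin n) F) := by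
  classical
  have hq : Fintype.card F = 2 ^ 2 := by rw [hF]; norm_num
  have h2 : (2 : F) = 0 := by
    have hz := FiniteField.cast_card_eq_zero F
    rw [hF] at hz
    push_cast at hz
    exact mul_self_eq_zero.1 (by linear_combination hz)
  have hcube : ∀ x : F, x ≠ 0 → x ^ 3 = 1 := fun x hx => by
    have := FiniteField.pow_card_sub_one_eq_one x hx
    rwa [hF] at this
  have Hf := Unitary.hermForm_isHerm hq n
  have H1 : Unitary.IsHerm 2 f₁ := ⟨hf₁.add_left, hf₁.smul_left, fun x y => hf₁.herm y x⟩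
  have H2 : Unitary.IsHerm 2 f₂ := ⟨hf₂.add_left, hf₂.smul_left, fun x y => hf₂.herm y x⟩
  have nd : ∀ {k : ℕ} {f : (Fin k → F) → (Fin k → F) → F}, Cfsg.Geo.IsNondegenerateForm f →
      Unitary.Nondeg f := fun hnd x hx => by
    by_contra h
    obtain ⟨-, y, hy⟩ := hnd x h
    exact hy (hx y)
  obtain ⟨u, hu, -⟩ := Unitary.exists_orthonormal_extend hq H1 (nd hf₁.nondegenerate) (k := 0)
    (b := Fin.elim0) ⟨fun i => i.elim0, fun i => i.elim0⟩ (Nat.zero_le _) (n := 2) (by simp)
  have hn₂ : n = 2 * n₂ := by simpa using Fintype.card_congr e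
  obtain ⟨v, hv, -⟩ := Unitary.exists_orthonormal_extend hq H2 (nd hf₂.nondegenerate) (k := 0)
    (b := Fin.elim0) ⟨fun i => i.elim0, fun i => i.elim0⟩ (Nat.zero_le _) (n := 2)
    (by rw [Module.finrank_fintype_fun_eq_card, Fintype.card_fin]; omega)
  obtain ⟨c, hc, htp⟩ := form_tp (fun x y => mul_pow x y 2) (fog_eq hq H1) (fog_eq hq H2) hT
  -- non-isotropic vectors of the small factor are coordinate vectors
  have hlines : ∀ x, f₁ x x ≠ 0 → ∃ (i : Fin 2) (r : F), x = r • u i := fun x hx => by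
    have hli := Unitary.Orthonormal.linearIndependent H1 hu
    let B := basisOfLinearIndependentOfCardEqFinrank hli (by simp)
    have hrepr := B.sum_repr x
    simp only [B, coe_basisOfLinearIndependentOfCardEqFinrank, Fin.sum_univ_two] at hrepr
    set r := B.repr x 0
    set s := B.repr x 1
    rcases eq_or_ne r 0 with hr | hr
    · exact ⟨1, s, by rw [← hrepr, hr, zero_smul, zero_add]⟩
    rcases eq_or_ne s 0 with hs | hs
    · exact ⟨0, r, by rw [← hrepr, hs, zero_smul, add_zero]⟩
    exfalso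
    apply hx
    rw [← hrepr, H1.add_left, H1.add_right hq, H1.add_right hq, H1.smul_left, H1.smul_left,
      H1.smul_left, H1.smul_left, H1.smul_right, H1.smul_right, H1.smul_right, H1.smul_right,
      hu.apply, hu.apply, hu.apply, hu.apply]
    simp only [if_true, Fin.reduceEq, if_false]
    linear_combination hcube r hr + hcube s hs + h2
  set w := v 0 + v 1 with hw
  let φa : (Fin n₂ → F) →ₗ[F] F :=
    { toFun := fun x => c * f₂ x w
      map_add' := fun x y => by rw [H2.add_left, mul_add]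
      map_smul' := fun a x => by rw [H2.smul_left, RingHom.id_apply, smul_eq_mul]; ring }
  have hv0w : f₂ (v 0) w = 1 := by
    rw [hw, H2.add_right hq, hv.apply, hv.apply]; simp
  have hww : f₂ w w = 0 := by
    rw [hw, H2.add_left, H2.add_right hq, H2.add_right hq, hv.apply, hv.apply, hv.apply, hv.apply]
    simp only [if_true, Fin.reduceEq, if_false]
    linear_combination h2
  refine exists_between_frame (f := Cfsg.hermForm n F 2) (J := fun k => tp e P (u k))
    (φ := fun a b => c * f₂ a b) (w := w) (w' := c⁻¹ • v 0) le_rfl φa ?_ (Hf.add_right hq) ?_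
    (fun _ => rfl) ?_ ?_ ?_ inf_le_right ?_ ?_
  · exact fun z => ⟨{ toFun := fun x => Cfsg.hermForm n F 2 x z
                      map_add' := fun x y => Hf.add_left x y z
                      map_smul' := fun a x => Hf.smul_left a x z }, fun x => rfl⟩
  · intro k l a b
    rw [htp, hu.apply]
    split_ifs <;> simp
  · show c * f₂ w w = 0
    rw [hww, mul_zero]
  · show c * f₂ (c⁻¹ • v 0) w = 1
    rw [H2.smul_left, hv0w, mul_one, mul_inv_cancel₀ hc]
  · show c * f₂ w (c⁻¹ • v 0) ≠ 0
    rw [H2.smul_right, H2.conj_symm (v 0) w, hv0w]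
    simp [hc]
  · intro z hz φz hφz
    refine ⟨fun x y => ?_, tv_mem_sl _ _⟩
    have hφzz : φz z = 0 := by rw [hφz, hz]
    show Cfsg.hermForm n F 2 (app (tv z φz) x) (app (tv z φz) y) = _
    rw [tv_apply hφzz, tv_apply hφzz, hφz, hφz, Hf.add_left, Hf.add_right hq, Hf.add_right hq,
      Hf.smul_left, Hf.smul_left, Hf.smul_right, Hf.smul_right, hz, Hf.conj_symm y z]
    linear_combination (Cfsg.hermForm n F 2 x z * Cfsg.hermForm n F 2 y z ^ 2) * h2
  · intro T hT'
    obtain ⟨A, B, hAB⟩ := exists_app_tp hT'.1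
    have hline : ∀ k, ∃ (i : Fin 2) (r : F), app A (u k) = r • u i := fun k => by
      refine hlines _ fun h0 => ?_
      have h1 : Cfsg.hermForm n F 2 (app T (tp e P (u k) (v 0))) (app T (tp e P (u k) (v 0))) =
          Cfsg.hermForm n F 2 (tp e P (u k) (v 0)) (tp e P (u k) (v 0)) := hT'.2.1 _ _
      rw [hAB, htp, htp, h0, zero_mul, mul_zero, hu.1, hv.1] at h1
      simp [eq_comm, hc] at h1
    choose σ r hr using hline
    exact ⟨σ, r, app B, fun k x => by rw [hAB, hr, map_smul, LinearMap.smul_apply]⟩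

end Cfsg.Agent.S5671
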