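import Cfsg.Statements.S5674
import Cfsg.Agent.Lib.Orth.Parabolic
import Cfsg.Agent.Lib.Orth.Models

set_option autoImplicit false
open Cfsg

namespace Cfsg.Agent.S5674

/-- Let F be a finite field of odd order, m ≥ 6, Q the standard quadratic form x₀² + Σ x_i y_i on F^(2m+1) and Ω the commutator subgroup of its isometry group inside GL_(2m+1)(F). The elements of Ω stabilising a non-zero subspace on which Q vanishes form a maximal subgroup of Ω. -/
theorem result {F : Type*} [Field F] [Fintype F] (hodd : Odd (Fintype.card F)) (m : ℕ) (hm : 6 ≤ m) (W : Submodule F (Unit ⊕ (Fin m ⊕ Fin m) → F)) (hW0 : W ≠ ⊥) (hW : Cfsg.Geo.IsTotallySingularQuad (Cfsg.quadFormOdd m F) W) : Cfsg.Geo.IsMaximalIn (Cfsg.Geo.omegaGL (Cfsg.quadFormOdd m F)) (Cfsg.Geo.subspaceStabilizer W ⊓ Cfsg.Geo.omegaGL (Cfsg.quadFormOdd m F)) := by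
  classical
  have h2 : (2 : F) ≠ 0 := fun h => by
    have h' := (FiniteField.even_card_iff_char_two (F := F)).1
      (CharP.ringChar_of_prime_eq_zero Nat.prime_two (by exact_mod_cast h))
    exact Nat.not_even_iff_odd.2 hodd (Nat.even_iff.2 h')
  have hnd := Cfsg.Agent.Orth.quadOdd_nondeg (F := F) m h2
  refine Cfsg.Agent.Orth.singular_stabilizer_maximal (Q := Cfsg.Agent.Orth.quadOdd m F)
    (Cfsg.Agent.Orth.Good.of_two_ne_zero hnd h2) (by simp; omega) hW0 hW ?_
  by_cases hk : Module.finrank F W < m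
  · exact .inl (by simp; omega)
  · refine .inr fun U hU => ?_
    have h := Cfsg.Agent.Orth.two_mul_finrank_le_of_isotropic hnd U
      fun a ha b hb => Cfsg.Agent.OrthAct.polar_eq_zero_of_singular hU ha hb
    simp at h
    omega

end Cfsg.Agent.S5674
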