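import Cfsg.Statements.S5675
import Cfsg.Agent.Lib.Orth.Halves

set_option autoImplicit false
open Cfsg

namespace Cfsg.Agent.S5675

/-- Let F be a finite field of odd order q, m ≥ 6, Q the standard quadratic form on F^(2m+1) and Ω the commutator subgroup of its isometry group. Let W be a non-zero subspace of even dimension on which the polar form of Q is non-degenerate; exclude the case q = 3, dim W = 2 with Q vanishing on some line of W (a plus-type plane). Then the elements of Ω stabilising W (equivalently, stabilising its orthogonal complement, of odd dimension) form a maximal subgroup of Ω. -/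
theorem result {F : Type*} [Field F] [Fintype F] (hodd : Odd (Fintype.card F)) (m : ℕ) (hm : 6 ≤ m) (W : Submodule F (Unit ⊕ (Fin m ⊕ Fin m) → F)) (hW0 : W ≠ ⊥) (hev : Even (Module.finrank F W)) (hW : Cfsg.Geo.IsNondegenerateOn (QuadraticMap.polar (Cfsg.quadFormOdd m F)) W) (hex : ¬ (Fintype.card F = 3 ∧ Module.finrank F W = 2 ∧ Cfsg.Geo.IsPlusTypeOn (Cfsg.quadFormOdd m F) W)) : Cfsg.Geo.IsMaximalIn (Cfsg.Geo.omegaGL (Cfsg.quadFormOdd m F)) (Cfsg.Geo.subspaceStabilizer W ⊓ Cfsg.Geo.omegaGL (Cfsg.quadFormOdd m F)) := by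
  classical
  have h2 : (2 : F) ≠ 0 := fun h => by
    have h' := (FiniteField.even_card_iff_char_two (F := F)).1
      (CharP.ringChar_of_prime_eq_zero Nat.prime_two (by exact_mod_cast h))
    exact Nat.not_even_iff_odd.2 hodd (Nat.even_iff.2 h')
  have hnd := Cfsg.Agent.Orth.quadOdd_nondeg (F := F) m h2
  have hW' := Cfsg.Agent.Orth.nondegOn_of_geo (Q := Cfsg.Agent.Orth.quadOdd m F) hW
  have hd := Cfsg.Agent.Orth.finrank_perpSub hnd W
  have hle := Submodule.finrank_le W
  simp at hd hle
  obtain ⟨r, hr⟩ := hev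
  refine Cfsg.Agent.Orth.nondeg_stabilizer_maximal (Q := Cfsg.Agent.Orth.quadOdd m F)
    (Cfsg.Agent.Orth.Good.of_two_ne_zero hnd h2) hW' (by simp; omega) hW0 (fun h => ?_) ?_ ?_
    (fun heq => by omega)
  · have := congrArg (fun U : Submodule F (Unit ⊕ (Fin m ⊕ Fin m) → F) => Module.finrank F U) h
    simp at this
    omega
  · rintro ⟨hq, h2', hp⟩
    have h1 := Fintype.one_lt_card (α := F)
    obtain ⟨k, hk⟩ := hodd
    exact hex ⟨by omega, h2', hp⟩
  · rintro ⟨-, h2', -⟩
    omega

end Cfsg.Agent.S5675
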