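import Cfsg.Statements.S5677
import Cfsg.Agent.Lib.Orth.DecompMax
import Cfsg.Agent.Lib.Orth.Models

set_option autoImplicit false
open Cfsg

namespace Cfsg.Agent.S5677

/-- Let F be a finite field of odd order q, m ≥ 6, Q the standard quadratic form on F^(2m+1) and Ω the commutator subgroup of its isometry group. Let D be a decomposition of F^(2m+1) into t ≥ 2 pairwise orthogonal, pairwise Q-isometric subspaces of equal dimension k > 1 on which the polar form is non-degenerate. Unless q = 3 and k = 3, the elements of Ω permuting the members of D form a maximal subgroup of Ω. -/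
theorem result {F : Type*} [Field F] [Fintype F] (hodd : Odd (Fintype.card F)) (m : ℕ) (hm : 6 ≤ m) {t : ℕ} (k : ℕ) (hk : 1 < k) (D : Fin t → Submodule F (Unit ⊕ (Fin m ⊕ Fin m) → F)) (hD : Cfsg.Geo.IsOrthogonalMDecomposition (Cfsg.quadFormOdd m F) k D) (hex : ¬ (Fintype.card F = 3 ∧ k = 3)) : Cfsg.Geo.IsMaximalIn (Cfsg.Geo.omegaGL (Cfsg.quadFormOdd m F)) (Cfsg.Geo.decompositionStabilizer D ⊓ Cfsg.Geo.omegaGL (Cfsg.quadFormOdd m F)) := by
  classical
  have h2 : (2 : F) ≠ 0 := fun h => by
    have h' := (FiniteField.even_card_iff_char_two (F := F)).1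
      (CharP.ringChar_of_prime_eq_zero Nat.prime_two (by exact_mod_cast h))
    exact Nat.not_even_iff_odd.2 hodd (Nat.even_iff.2 h')
  have hnd := Cfsg.Agent.Orth.quadOdd_nondeg (F := F) m h2
  have hD' : Cfsg.Geo.IsOrthogonalMDecomposition ⇑(Cfsg.Agent.Orth.quadOdd m F) k D := hD
  have hmul : 2 * m + 1 = t * k := by
    have := Cfsg.Agent.Orth.card_eq_mul hnd hD'
    simp at this
    omega
  obtain ⟨hto, hko⟩ : Odd t ∧ Odd k := Nat.odd_mul.1 (hmul ▸ odd_two_mul_add_one m)
  have ht := hD.decomp.decomp.two_le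
  rw [Nat.odd_iff] at hto hko
  refine Cfsg.Agent.Orth.decomposition_stabilizer_maximal (Q := Cfsg.Agent.Orth.quadOdd m F)
    (Cfsg.Agent.Orth.Good.of_two_ne_zero hnd h2) h2 hD' (by omega) (by omega) ?_
  by_cases h4 : 4 ≤ k
  · exact .inl h4
  · refine .inr (Cfsg.Agent.Orth.exists_sq_ne_one ?_)
    have h3 : Fintype.card F ≠ 3 := fun h => hex ⟨h, by omega⟩
    have h1 : 1 < Fintype.card F := Fintype.one_lt_card
    rw [Nat.odd_iff] at hodd
    omega

end Cfsg.Agent.S5677
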