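import Cfsg.Statements.S5680
import Cfsg.Agent.Lib.FieldExtMax.Three.Matrix
import Cfsg.Agent.Lib.Orth.Geo

set_option autoImplicit false
open Cfsg

namespace Cfsg.Agent.S5680

/-- A field of matrices has degree dividing the size. -/
lemma finrank_dvd_card {F : Type*} [Field F] {ι : Type} [Fintype ι] [DecidableEq ι] {L : Type*}
    [Field L] [Algebra F L] (j : L →ₐ[F] Matrix ι ι F) :
    Module.finrank F L ∣ Fintype.card ι := by
  letI : Module L (ι → F) := Module.compHom _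
    ((Matrix.toLinAlgEquiv' : Matrix ι ι F ≃ₐ[F] _).toAlgHom.toRingHom.comp j.toRingHom)
  haveI : IsScalarTower F L (ι → F) := ⟨fun a k x => by
    show Matrix.toLinAlgEquiv' (j (a • k)) x = a • Matrix.toLinAlgEquiv' (j k) x
    rw [map_smul, map_smul, LinearMap.smul_apply]⟩
  have h := Module.finrank_mul_finrank F L (ι → F)
  rw [Module.finrank_fintype_fun_eq_card] at h
  exact ⟨_, h.symm⟩

/-- Let F be a finite field of odd order, m ≥ 6, Q the standard quadratic form on F^(2m+1) and Ω the commutator subgroup of its isometry group. Let K be a subfield of the algebra of (2m+1) × (2m+1) matrices over F containing the scalars, of prime degree r over F with r ≠ 2m + 1, whose elements are self-adjoint for the polar form of Q. Then the elements of Ω normalising K form a maximal subgroup of Ω. -/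
theorem result {F : Type*} [Field F] [Fintype F] (hodd : Odd (Fintype.card F)) (m : ℕ) (hm : 6 ≤ m) (r : ℕ) (hr : r.Prime) (hrn : 2 * m + 1 ≠ r) (K : Subalgebra F (Matrix (Unit ⊕ (Fin m ⊕ Fin m)) (Unit ⊕ (Fin m ⊕ Fin m)) F)) (hK : Cfsg.Geo.IsFieldSubalgebra r K) (hsa : Cfsg.Geo.IsSelfAdjointFor (QuadraticMap.polar (Cfsg.quadFormOdd m F)) K) : Cfsg.Geo.IsMaximalIn (Cfsg.Geo.omegaGL (Cfsg.quadFormOdd m F)) (Cfsg.Geo.subalgebraNormalizer K ⊓ Cfsg.Geo.omegaGL (Cfsg.quadFormOdd m F)) := by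
  classical
  have h2 : (2 : F) ≠ 0 := fun h2 => by
    have hc : ringChar F = 2 := CharP.ringChar_of_prime_eq_zero Nat.prime_two (by exact_mod_cast h2)
    have := (FiniteField.even_card_iff_char_two).1 hc
    rw [Nat.odd_iff] at hodd
    omega
  have hcard : Fintype.card (Unit ⊕ (Fin m ⊕ Fin m)) = 2 * m + 1 := by simp; omega
  have hG : Orth.Good (Orth.quadOdd m F) :=
    Orth.Good.of_two_ne_zero (Orth.quadOdd_nondeg m h2) h2
  obtain ⟨c, hc⟩ : r ∣ 2 * m + 1 := by
    haveI : Finite (Matrix (Unit ⊕ (Fin m ⊕ Fin m)) (Unit ⊕ (Fin m ⊕ Fin m)) F) :=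
      inferInstanceAs (Finite ((Unit ⊕ (Fin m ⊕ Fin m)) → (Unit ⊕ (Fin m ⊕ Fin m)) → F))
    have hA : IsField K := ⟨exists_pair_ne _, fun x y => Subtype.ext (hK.comm _ x.2 _ y.2),
      fun {x} hx => by
        obtain ⟨y, hy, h⟩ := hK.inv _ x.2 (fun h => hx (Subtype.ext h))
        exact ⟨⟨y, hy⟩, Subtype.ext h⟩⟩
    letI : Field K := hA.toField
    rw [← hK.finrank_eq, ← hcard]
    exact finrank_dvd_card (L := K) K.val
  obtain ⟨hor, hco⟩ : Odd r ∧ Odd c := Nat.odd_mul.1 ⟨m, hc.symm⟩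
  have hc1 : c ≠ 1 := fun h => hrn (by rw [hc, h, mul_one])
  obtain ⟨hM, g₀, hg₀, hg₀N⟩ :
      (∀ M, Geo.subalgebraNormalizer K ⊓ Geo.omegaGL ⇑(Orth.quadOdd m F) ≤ M →
        M ≤ Geo.omegaGL ⇑(Orth.quadOdd m F) →
        M ≤ Geo.subalgebraNormalizer K ∨ Geo.omegaGL ⇑(Orth.quadOdd m F) ≤ M) ∧
      ∃ g ∈ Geo.omegaGL ⇑(Orth.quadOdd m F), g ∉ Geo.subalgebraNormalizer K := by
    obtain ⟨w, hw⟩ := hco
    obtain ⟨v, hv⟩ := hor
    by_cases hc3 : c = 3
    · refine FieldExtMax.or_cases_three hr hG h2 ?_ (by rw [hcard, hc, hc3, mul_comm]) hK hsa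
      rw [hc3] at hc
      omega
    · have h3r : 3 * r < r * c := by
        rw [mul_comm 3 r]
        exact Nat.mul_lt_mul_of_pos_left (by omega) hr.pos
      exact FieldExtMax.or_cases hr hG h2 (by rw [hcard, hc]; omega) (by rw [hcard, hc]; omega)
        (fun h => by omega) hK hsa
  rw [Orth.coe_quadOdd] at hM hg₀
  refine ⟨lt_of_le_of_ne inf_le_right fun h => hg₀N ((inf_eq_right.1 h) hg₀), fun M hM₁ hM₂ => ?_⟩
  rcases hM M hM₁ hM₂ with h | h
  · exact Or.inl (le_antisymm (le_inf h hM₂) hM₁)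
  · exact Or.inr (le_antisymm hM₂ h)

end Cfsg.Agent.S5680
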