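import Cfsg.Statements.S5691
import Cfsg.Agent.Lib.Orth.Nonsingular

set_option autoImplicit false
open Cfsg

namespace Cfsg.Agent.S5691

/-- Let F be a finite field with q elements, n ≥ 13 even, Q a non-degenerate quadratic form on F^n (of either type), and Ω the commutator subgroup of the isometry group of Q, viewed inside GL_n(F). Suppose q is even and v is a vector with Q(v) ≠ 0. Then the elements of Ω stabilising the line spanned by v form a maximal subgroup of Ω. -/
theorem result {F : Type*} [Field F] [Fintype F] {n : ℕ} (hn : 13 ≤ n) (heven : Even n) (Q : (Fin n → F) → F) (hQ : Cfsg.Geo.IsNondegenerateQuadraticForm Q) (hchar : ¬ Odd (Fintype.card F)) (v : (Fin n → F)) (hv : Q v ≠ 0) : Cfsg.Geo.IsMaximalIn (Cfsg.Geo.omegaGL Q) (Cfsg.Geo.subspaceStabilizer (Submodule.span F {v}) ⊓ Cfsg.Geo.omegaGL Q) := by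
  classical
  have h2 : (2 : F) = 0 := by
    have hc : ringChar F = 2 := (FiniteField.even_card_iff_char_two).2 (Nat.even_iff.1 (Nat.not_odd_iff_even.1 hchar))
    have := CharP.cast_eq_zero F (ringChar F)
    rw [hc] at this
    exact_mod_cast this
  obtain ⟨c, hc⟩ := FiniteField.isSquare_of_char_two
    (CharP.ringChar_of_prime_eq_zero Nat.prime_two (by exact_mod_cast h2)) (Q v)
  have hc0 : c ≠ 0 := fun h => hv (by rw [hc, h, mul_zero])
  have hline : Submodule.span F {v} = Submodule.span F {c⁻¹ • v} :=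
    (Submodule.span_singleton_smul_eq (IsUnit.mk0 _ (inv_ne_zero hc0)) v).symm
  rw [hline]
  refine Cfsg.Agent.Orth.nonsingular_stabilizer_maximal (Q := Cfsg.Agent.Orth.ofND hQ)
    (Cfsg.Agent.Orth.good_ofND hQ (by simp; omega)) (by simp; omega) h2 ?_
  rw [Cfsg.Agent.Orth.coe_ofND, hQ.smul, hc]
  field_simp

end Cfsg.Agent.S5691
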