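import Cfsg.Statements.S5699
import Cfsg.Agent.Lib.Orth.Halves

set_option autoImplicit false
open Cfsg

namespace Cfsg.Agent.S5699

/-- Let F be a finite field with q elements, n ≥ 13 even, Q a non-degenerate quadratic form on F^n (of either type), and Ω the commutator subgroup of the isometry group of Q, viewed inside GL_n(F). Let D be a decomposition of F^n into two orthogonal subspaces of odd dimension n/2 on which the polar form is non-degenerate and which are not Q-isometric to each other. Then the elements of Ω permuting (necessarily fixing) the two subspaces form a maximal subgroup of Ω. -/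
theorem result {F : Type*} [Field F] [Fintype F] {n : ℕ} (hn : 13 ≤ n) (heven : Even n) (Q : (Fin n → F) → F) (hQ : Cfsg.Geo.IsNondegenerateQuadraticForm Q) (k : ℕ) (hk : 2 * k = n) (hko : Odd k) (D : Fin 2 → Submodule F (Fin n → F)) (hD : Cfsg.Geo.IsNondegenerateMDecomposition (QuadraticMap.polar Q) k D) (hni : ¬ Cfsg.Geo.AreIsometricFor Q (D 0) (D 1)) : Cfsg.Geo.IsMaximalIn (Cfsg.Geo.omegaGL Q) (Cfsg.Geo.decompositionStabilizer D ⊓ Cfsg.Geo.omegaGL Q) := by
  classical
  have hnd := Cfsg.Agent.Orth.ofND_nondeg hQ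
  set R := Cfsg.Agent.Orth.ofND hQ with hR
  have hW' := Cfsg.Agent.Orth.nondegOn_of_geo (Q := R) (hD.nondegenerate 0)
  have h0 := hD.decomp.finrank_eq 0
  have h1 := hD.decomp.finrank_eq 1
  have hd := Cfsg.Agent.Orth.finrank_perpSub hnd (D 0)
  simp at hd
  have hperp : D 1 = Cfsg.Agent.Orth.perpSub R (D 0) := by
    refine Submodule.eq_of_le_of_finrank_eq (fun v hv => Cfsg.Agent.Orth.mem_perpSub.2 fun w hw =>
      hD.orthogonal 0 1 (by decide) w hw v hv) ?_
    omega
  have hno : ∀ g : Cfsg.Agent.Orth.IsoGrp R,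
      ¬ ∀ w ∈ D 0, Cfsg.Agent.Orth.ap g w ∈ D 1 := fun g hg =>
    hni (Cfsg.Agent.Orth.areIsometric_of_maps hg (h0.trans h1.symm))
  have hne : D 0 ≠ ⊥ := fun h => by rw [h, finrank_bot] at h0; omega
  have htop : D 0 ≠ ⊤ := fun h => by rw [h, finrank_top, Module.finrank_fin_fun] at h0; omega
  have hmax := Cfsg.Agent.Orth.nondeg_stabilizer_maximal (Q := R)
    (Cfsg.Agent.Orth.good_ofND hQ (by simp; omega)) hW' (by simp; omega) hne htop
    (fun h => by omega) (fun h => by omega) (fun _ g hg => hno g (fun w hw => hperp ▸ hg w hw))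
  have heq : Cfsg.Geo.decompositionStabilizer D ⊓ Cfsg.Geo.omegaGL Q =
      Cfsg.Geo.subspaceStabilizer (D 0) ⊓ Cfsg.Geo.omegaGL Q := by
    refine le_antisymm ?_ ?_
    · intro g hg
      obtain ⟨h, -, rfl⟩ := (Cfsg.Agent.Orth.mem_omegaGL_iff (Q := R)).1 hg.2
      obtain ⟨σ, hσ⟩ := hg.1
      have hmem : ∀ w ∈ D 0, Cfsg.Agent.Orth.ap h w ∈ D (σ 0) := fun w hw => by
        rw [← hσ 0]
        exact ⟨w, hw, by simp [Cfsg.Agent.Orth.ap_apply]⟩
      have hσ0 : σ 0 = 0 := by
        by_contra hne'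
        rw [show σ 0 = 1 by omega] at hmem
        exact hno h hmem
      rw [hσ0] at hmem
      exact ⟨Cfsg.Agent.Orth.coe_mem_stabilizer.2 hmem, hg.2⟩
    · intro g hg
      obtain ⟨h, -, rfl⟩ := (Cfsg.Agent.Orth.mem_omegaGL_iff (Q := R)).1 hg.2
      have h0' := Cfsg.Agent.Orth.coe_mem_stabilizer.1 hg.1
      have h1' := Cfsg.Agent.Orth.perp_map_of_map h0'
      rw [← hperp] at h1'
      refine ⟨⟨1, fun i => ?_⟩, hg.2⟩
      have hall : ∀ i, ∀ w ∈ D i, Cfsg.Agent.Orth.ap h w ∈ D i := fun i => by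
        fin_cases i
        · exact h0'
        · exact h1'
      show (D i).map _ = D i
      refine Eq.trans ?_ (Cfsg.Agent.OrthAct.map_ap_eq_of_mapsTo (hall i))
      ext x; simp [Submodule.mem_map, Cfsg.Agent.Orth.ap_apply]
  rw [heq]
  exact hmax

end Cfsg.Agent.S5699
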