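import Cfsg.Statements.S5700
import Cfsg.Agent.Lib.Transvect.UnitaryOrth
import Cfsg.Agent.Lib.Transvect.Basic
import Cfsg.Agent.Lib.Linear.QuadExt

set_option autoImplicit false
open Cfsg

namespace Cfsg.Agent.S5700

open Cfsg.Agent.Orth (IsoGrp ap)
open Cfsg.Agent.Transvect.UnitaryOrth (Herm)
open Matrix QuadraticMap

/-- The hermitian data carried by a quadratic field subalgebra. -/
theorem exists_herm {F : Type*} [Field F] {n : ℕ} (hn : 10 ≤ n) {Q : QuadraticForm F (Fin n → F)}
    (hnd : Q.polarBilin.Nondegenerate) {K : Subalgebra F (Matrix (Fin n) (Fin n) F)}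
    (hK : Cfsg.Geo.IsFieldSubalgebra 2 K) (hac : Cfsg.Geo.IsAdjointClosedFor (QuadraticMap.polar ⇑Q) K)
    (hnsa : ¬ Cfsg.Geo.IsSelfAdjointFor (QuadraticMap.polar ⇑Q) K)
    (hsc : ∀ k ∈ K, ∃ c : F, ∀ v : Fin n → F, Q (k *ᵥ v) = c * Q v) :
    ∃ j ∈ K, ∃ T N : F, Herm Q (Matrix.mulVecLin j) T N ∧
      ∀ k ∈ K, ∃ α β : F, k = α • (1 : Matrix (Fin n) (Fin n) F) + β • j := by
  haveI : NeZero n := ⟨by omega⟩
  obtain ⟨j, hjK, a, b, hj2, hirr, hsp⟩ := Cfsg.Agent.Linear.exists_gen_of_quad hK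
  set J := Matrix.mulVecLin j with hJdef
  have hJx : ∀ x, j *ᵥ x = J x := fun x => rfl
  have hsq : ∀ x, J (J x) = a • J x + b • x := fun x => by
    rw [hJdef]
    simp [Matrix.mulVec_mulVec, hj2, Matrix.add_mulVec, Matrix.smul_mulVec]
  obtain ⟨j', hj'K, hj'⟩ := hac j hjK
  obtain ⟨α, β, rfl⟩ := hsp j' hj'K
  have hadj : ∀ x y, polar ⇑Q (J x) y = α * polar ⇑Q x y + β * polar ⇑Q x (J y) := fun x y => by
    rw [← hJx, hj' x y, Matrix.add_mulVec, Matrix.smul_mulVec, Matrix.smul_mulVec, Matrix.one_mulVec,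
      Orth.pl_add_right, Orth.pl_smul_right, Orth.pl_smul_right, hJx]
  obtain ⟨x0, hx0⟩ := exists_ne (0 : Fin n → F)
  obtain ⟨y0, hy0⟩ := Orth.exists_polar_ne hnd hx0
  have hscal : ∀ p r : F, (∀ x y, p * polar ⇑Q x (J y) = r * polar ⇑Q x y) → p = 0 ∧ r = 0 := by
    intro p r h
    have hp : p = 0 := by
      by_contra hp
      have hJs : ∀ y, J y = (r / p) • y := fun y => by
        by_contra hne
        obtain ⟨z, hz⟩ := Orth.exists_polar_ne hnd (sub_ne_zero.2 hne)
        apply hz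
        rw [Orth.pl_comm, Orth.pl_sub_right, Orth.pl_smul_right, sub_eq_zero, div_mul_eq_mul_div,
          eq_div_iff hp, mul_comm]
        exact h z y
      have h2 := hsq x0
      rw [hJs, hJs, smul_smul, smul_smul, ← add_smul] at h2
      exact hirr _ (smul_left_injective F hx0 h2)
    refine ⟨hp, ?_⟩
    have h1 := h x0 y0
    rw [hp, zero_mul] at h1
    exact (mul_eq_zero.1 h1.symm).resolve_right hy0
  obtain ⟨hβ, hαβ⟩ := hscal (1 - β * β) (α * (1 + β)) fun x y => by
    have h1 := hadj x y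
    have h2 := hadj y x
    rw [Orth.pl_comm Q (J y) x, Orth.pl_comm Q y x, Orth.pl_comm Q y (J x)] at h2
    linear_combination h2 + β * h1
  have hβ1 : β = -1 := by
    by_contra hne
    have h1 : 1 + β ≠ 0 := fun h => hne (by linear_combination h)
    have hα : α = 0 := (mul_eq_zero.1 hαβ).resolve_right h1
    have hb1 : β = 1 := by
      have : (1 - β) * (1 + β) = 0 := by linear_combination hβ
      exact (sub_eq_zero.1 ((mul_eq_zero.1 this).resolve_right h1)).symm
    refine hnsa fun k hk u v => ?_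
    obtain ⟨s, t, rfl⟩ := hsp k hk
    simp only [Matrix.add_mulVec, Matrix.smul_mulVec, Matrix.one_mulVec, Orth.pl_add_left,
      Orth.pl_add_right, Orth.pl_smul_left, Orth.pl_smul_right, hJx, hadj u v, hα, hb1]
    ring
  subst hβ1
  obtain ⟨c, hc⟩ := hsc j hjK
  have hnorm : ∀ v, Q (J v) = c * Q v := hc
  have hJJ : ∀ x y, polar ⇑Q (J x) (J y) = c * polar ⇑Q x y := fun x y => by
    simp only [QuadraticMap.polar, ← map_add, hnorm]; ring
  obtain ⟨h3, h4⟩ := hscal (α - a) (c + b) fun x y => by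
    have h1 := hJJ x y
    rw [hadj, hsq, Orth.pl_add_right, Orth.pl_smul_right, Orth.pl_smul_right] at h1
    linear_combination h1
  obtain ⟨c1, hc1⟩ := hsc (1 + j) (K.add_mem K.one_mem hjK)
  have hself : ∀ v, polar ⇑Q v (J v) = (c1 - 1 - c) * Q v := fun v => by
    have h1 := hc1 v
    rw [Matrix.add_mulVec, Matrix.one_mulVec, hJx, Orth.Q_add, hnorm] at h1
    linear_combination h1
  have hc1 : c1 - 1 - c = α := by
    have h1 := hself (x0 + y0)
    rw [map_add, Orth.pl_add_left, Orth.pl_add_right, Orth.pl_add_right, hself, hself,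
      Orth.Q_add, Orth.pl_comm Q y0 (J x0), hadj x0 y0] at h1
    have : (c1 - 1 - c - α) * polar ⇑Q x0 y0 = 0 := by linear_combination -h1
    exact sub_eq_zero.1 ((mul_eq_zero.1 this).resolve_right hy0)
  refine ⟨j, hjK, a, c, ⟨hnd, by rw [Fintype.card_fin]; exact hn, fun x => ?_, fun t ht => hirr t ?_,
    fun x y => ?_, hnorm, fun x => ?_⟩, hsp⟩
  · rw [hsq, show c = -b from eq_neg_of_add_eq_zero_left h4, neg_smul, sub_neg_eq_add]
  · linear_combination ht - h4
  · rw [hadj, sub_eq_zero.1 h3]; ring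
  · rw [hself, hc1, sub_eq_zero.1 h3]

/-- The unitary normaliser is maximal from dimension ten on. -/
theorem unitary_maximal {F : Type*} [Field F] [Fintype F] {n : ℕ} (hn : 10 ≤ n) (Q : (Fin n → F) → F) (hQ : Cfsg.Geo.IsNondegenerateQuadraticForm Q) (K : Subalgebra F (Matrix (Fin n) (Fin n) F)) (hK : Cfsg.Geo.IsFieldSubalgebra 2 K) (hac : Cfsg.Geo.IsAdjointClosedFor (QuadraticMap.polar Q) K) (hnsa : ¬ Cfsg.Geo.IsSelfAdjointFor (QuadraticMap.polar Q) K) (hsc : ∀ k ∈ K, ∃ c : F, ∀ v : (Fin n → F), Q (Matrix.mulVec k v) = c * Q v) : Cfsg.Geo.IsMaximalIn (Cfsg.Geo.omegaGL Q) (Cfsg.Geo.subalgebraNormalizer K ⊓ Cfsg.Geo.omegaGL Q) := by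
  obtain ⟨Q, rfl⟩ : ∃ Q' : QuadraticForm F (Fin n → F), ⇑Q' = Q := ⟨Orth.ofND hQ, rfl⟩
  obtain ⟨j, hjK, T, N, hJ, hsp⟩ := exists_herm hn (Orth.ofND_nondeg hQ) hK hac hnsa hsc
  have key : ∀ g : IsoGrp Q, (g : GL (Fin n) F) ∈ Cfsg.Geo.subalgebraNormalizer K ↔
      ∃ s u : F, ∀ x, ap g (Matrix.mulVecLin j x) = s • ap g x + u • Matrix.mulVecLin j (ap g x) := by
    intro g
    constructor
    · intro hg
      obtain ⟨s, u, hsu⟩ := hsp _ ((hg j).1 hjK)
      refine ⟨s, u, fun x => ?_⟩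
      have h1 : ((g : GL (Fin n) F) : Matrix (Fin n) (Fin n) F) * j =
          (s • 1 + u • j) * ((g : GL (Fin n) F) : Matrix (Fin n) (Fin n) F) := by
        rw [← hsu, mul_assoc, Units.inv_mul, mul_one]
      have := congrArg (· *ᵥ x) h1
      simpa [Orth.ap_apply, ← Matrix.mulVec_mulVec, Matrix.add_mulVec, Matrix.smul_mulVec] using this
    · rintro ⟨s, u, h⟩
      set A : Matrix (Fin n) (Fin n) F := ((g : GL (Fin n) F) : Matrix (Fin n) (Fin n) F)
      set B : Matrix (Fin n) (Fin n) F :=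
        (((g : GL (Fin n) F)⁻¹ : GL (Fin n) F) : Matrix (Fin n) (Fin n) F)
      have hAB : A * B = 1 := Units.mul_inv _
      have hBA : B * A = 1 := Units.inv_mul _
      have e : A * j * B = s • 1 + u • j := by
        have h1 : A * j = (s • 1 + u • j) * A := Matrix.ext_of_mulVec_single fun i => by
          rw [← Matrix.mulVec_mulVec, ← Matrix.mulVec_mulVec, Matrix.add_mulVec, Matrix.smul_mulVec,
            Matrix.smul_mulVec, Matrix.one_mulVec]
          exact h (Pi.single i 1)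
        rw [h1, mul_assoc, hAB, mul_one]
      have fwd : ∀ k ∈ K, A * k * B ∈ K := by
        intro k hk
        obtain ⟨p, r, rfl⟩ := hsp k hk
        rw [mul_add, add_mul, Matrix.mul_smul, Matrix.mul_smul, mul_one, Matrix.smul_mul, Matrix.smul_mul,
          hAB, e]
        exact K.add_mem (K.smul_mem K.one_mem p)
          (K.smul_mem (K.add_mem (K.smul_mem K.one_mem s) (K.smul_mem hjK u)) r)
      intro k
      refine ⟨fwd k, fun hk => ?_⟩
      haveI : Finite K := Finite.of_injective (fun x : K => (x : Matrix (Fin n) (Fin n) F)) Subtype.val_injective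
      have canc : ∀ z, B * (A * z * B) * A = z := fun z => by
        rw [mul_assoc A z B, ← mul_assoc B A, hBA, one_mul, mul_assoc, hBA, mul_one]
      have hinj : Function.Injective fun x : K => (⟨_, fwd x x.2⟩ : K) := fun x y hxy => by
        have := congrArg (fun z : K => B * (z : Matrix (Fin n) (Fin n) F) * A) hxy
        simp only [canc] at this
        exact Subtype.ext this
      obtain ⟨⟨k', hk'⟩, he⟩ := (Finite.injective_iff_surjective.1 hinj) ⟨_, hk⟩
      have he' := congrArg (fun z : K => B * (z : Matrix (Fin n) (Fin n) F) * A) he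
      simp only [canc] at he'
      exact (he'.trans (canc k)) ▸ hk'
  refine Transvect.isMaximalIn_of_forall inf_le_right ?_ fun M hHM hMK g hgM hgH => ?_
  · obtain ⟨g, hg, hgn⟩ := Transvect.UnitaryOrth.exists_not_semilinear hJ
    exact ⟨g, Orth.coe_mem_omegaGL.2 hg, fun h => hgn ((key g).1 h.1)⟩
  · obtain ⟨g, -, rfl⟩ := Orth.mem_omegaGL_iff.1 (hMK hgM)
    refine Transvect.UnitaryOrth.omega_le_of_not_semilinear hJ (fun h hh hcomm => hHM
      ⟨(key h).2 ⟨0, 1, fun x => ?_⟩, Orth.coe_mem_omegaGL.2 hh⟩) hgM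
      fun hns => hgH ⟨(key g).2 hns, hMK hgM⟩
    rw [zero_smul, one_smul, zero_add]; exact hcomm x

/-- Let F be a finite field with q elements, n ≥ 13 even, Q a non-degenerate quadratic form on F^n (of either type), and Ω the commutator subgroup of the isometry group of Q, viewed inside GL_n(F). Let K be a subfield of the algebra of n × n matrices over F containing the scalars, of degree 2 over F, closed under adjoints for the polar form of Q but not consisting of self-adjoint elements, and such that every k in K rescales Q (Q(k v) = c Q(v) for a constant c depending on k). Then the elements of Ω normalising K form a maximal subgroup of Ω. -/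
theorem result {F : Type*} [Field F] [Fintype F] {n : ℕ} (hn : 13 ≤ n) (heven : Even n) (Q : (Fin n → F) → F) (hQ : Cfsg.Geo.IsNondegenerateQuadraticForm Q) (K : Subalgebra F (Matrix (Fin n) (Fin n) F)) (hK : Cfsg.Geo.IsFieldSubalgebra 2 K) (hac : Cfsg.Geo.IsAdjointClosedFor (QuadraticMap.polar Q) K) (hnsa : ¬ Cfsg.Geo.IsSelfAdjointFor (QuadraticMap.polar Q) K) (hsc : ∀ k ∈ K, ∃ c : F, ∀ v : (Fin n → F), Q (Matrix.mulVec k v) = c * Q v) : Cfsg.Geo.IsMaximalIn (Cfsg.Geo.omegaGL Q) (Cfsg.Geo.subalgebraNormalizer K ⊓ Cfsg.Geo.omegaGL Q) := by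
  exact unitary_maximal (by omega) Q hQ K hK hac hnsa hsc

end Cfsg.Agent.S5700
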