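import Cfsg.Statements.S5701
import Cfsg.Agent.Lib.FieldExtMax.OrMatrix
import Cfsg.Agent.Lib.Orth.Geo

set_option autoImplicit false
open Cfsg

namespace Cfsg.Agent.S5701

/-- Let F be a finite field with q elements, n ≥ 13 even, Q a non-degenerate quadratic form on F^n (of either type), and Ω the commutator subgroup of the isometry group of Q, viewed inside GL_n(F). Suppose q is odd. Let K be a subfield of the algebra of n × n matrices over F containing the scalars, of prime degree r over F with n/r ≥ 3, whose elements are self-adjoint for the polar form of Q. Then the elements of Ω normalising K form a maximal subgroup of Ω. -/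
theorem result {F : Type*} [Field F] [Fintype F] {n : ℕ} (hn : 13 ≤ n) (heven : Even n) (Q : (Fin n → F) → F) (hQ : Cfsg.Geo.IsNondegenerateQuadraticForm Q) (hodd : Odd (Fintype.card F)) (r : ℕ) (hr : r.Prime) (hnr : 3 * r ≤ n) (K : Subalgebra F (Matrix (Fin n) (Fin n) F)) (hK : Cfsg.Geo.IsFieldSubalgebra r K) (hsa : Cfsg.Geo.IsSelfAdjointFor (QuadraticMap.polar Q) K) : Cfsg.Geo.IsMaximalIn (Cfsg.Geo.omegaGL Q) (Cfsg.Geo.subalgebraNormalizer K ⊓ Cfsg.Geo.omegaGL Q) := by
  have h2 : (2 : F) ≠ 0 := fun h2 => by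
    have hc : ringChar F = 2 := CharP.ringChar_of_prime_eq_zero Nat.prime_two (by exact_mod_cast h2)
    have := (FiniteField.even_card_iff_char_two).1 hc
    rw [Nat.odd_iff] at hodd
    omega
  obtain ⟨hM, g₀, hg₀, hg₀N⟩ := FieldExtMax.or_cases (Q := Orth.ofND hQ) hr
    (Orth.good_ofND hQ (by simp; omega)) h2 (by simpa using hnr)
    (fun h => by
      simp at h
      obtain ⟨c, hc⟩ := heven
      have h2r : 2 ∣ r := by omega
      have := (Nat.prime_dvd_prime_iff_eq Nat.prime_two hr).1 h2r
      omega)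
    (fun _ => by simp; omega) hK (by rwa [Orth.coe_ofND])
  rw [Orth.coe_ofND] at hM hg₀
  refine ⟨lt_of_le_of_ne inf_le_right fun h => hg₀N ((inf_eq_right.1 h) hg₀), fun M hM₁ hM₂ => ?_⟩
  rcases hM M hM₁ hM₂ with h | h
  · exact Or.inl (le_antisymm (le_inf h hM₂) hM₁)
  · exact Or.inr (le_antisymm hM₂ h)

end Cfsg.Agent.S5701
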