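import Cfsg.Statements.S5703
import Cfsg.Agent.EqLemmas
import Cfsg.Agent.Lib.C6Orth.Coords
import Cfsg.Agent.Lib.Symplectic.ExpFour
import Cfsg.Agent.EqLemmas

set_option autoImplicit false
open Cfsg
open scoped commutatorElement

namespace Cfsg.Agent.S5703

/-- Let p be an odd prime, F the field with p elements, n ≥ 13 even, Q a non-degenerate quadratic form on F^n of plus type and Ω the commutator subgroup of its isometry group. Let R be a 2-subgroup of GL_n(F) of exponent 4 in which every characteristic abelian subgroup is cyclic, of order 2^(1+2k) with centre of order 2 and containing an elementary abelian subgroup of order 2^(k+1) (plus type), acting absolutely irreducibly and consisting of isometries of Q. Then the elements of Ω normalising R form a maximal subgroup of Ω. -/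
theorem result {F : Type*} [Field F] [Fintype F] {n : ℕ} (hn : 13 ≤ n) (heven : Even n) (Q : (Fin n → F) → F) (hQ : Cfsg.Geo.IsNondegenerateQuadraticForm Q) (hplus : Cfsg.Geo.IsPlusTypeOn Q ⊤) (p k : ℕ) (hp : p.Prime) (hpo : Odd p) (hF : Fintype.card F = p) (R : Subgroup (Matrix.GeneralLinearGroup (Fin n) F)) (hR : Cfsg.Geo.IsSymplecticTypeGroup 2 R) (hirr : Cfsg.Geo.ActsAbsolutelyIrreducibly (Cfsg.Geo.matrixSet R)) (hRD : R ≤ Cfsg.isometryGroup F Q) (hcard : Nat.card R = 2 ^ (1 + 2 * k)) (hZ : Nat.card (Subgroup.center R) = 2) (hpt : Cfsg.Geo.IsOfPlusType k R) : Cfsg.Geo.IsMaximalIn (Cfsg.Geo.omegaGL Q) (Cfsg.Geo.subgroupNormalizer R ⊓ Cfsg.Geo.omegaGL Q) := by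
  classical
  have : NeZero n := ⟨by omega⟩
  have h2 : (2 : F) ≠ 0 := fun h => by
    have hc := CharP.ringChar_of_prime_eq_zero Nat.prime_two (by exact_mod_cast h : ((2 : ℕ) : F) = 0)
    obtain ⟨n, hprime, hcard'⟩ := FiniteField.card F (ringChar F)
    rw [hF, hc] at hcard'
    rw [hcard'] at hp hpo
    exact (Nat.not_even_iff_odd.mpr hpo) (Nat.even_pow.mpr ⟨even_two, n.pos.ne'⟩)
  have hcen : ∀ M : Matrix (Fin n) (Fin n) F, (∀ g ∈ R, M * g.1 = g.1 * M) → ∃ c : F, M = c • 1 :=
    fun M hM => hirr.2 M (by rintro _ ⟨g, hg, rfl⟩; exact hM g hg)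
  obtain ⟨v, hv⟩ : ∃ v, Q v ≠ 0 := by
    by_contra hno
    push Not at hno
    obtain ⟨y, hy⟩ := (hQ.nondegenerate (Pi.single 0 1) (fun h => one_ne_zero
      (show (1 : F) = 0 by simpa using congrFun h 0))).1
    exact hy (by simp [QuadraticMap.polar, hno])
  have hpm : ∀ g ∈ R, ∀ c : F, (g : Matrix (Fin n) (Fin n) F) = c • 1 → g = 1 ∨ g = -1 := by
    intro g hg c hc
    have h := C6Orth.iso_apply (hRD hg) v
    rw [hc, Matrix.smul_mulVec, Matrix.one_mulVec, hQ.smul] at h
    have hcc : c * c = 1 := by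
      refine mul_right_cancel₀ hv ?_
      rw [one_mul]
      linear_combination h
    rcases mul_self_eq_one_iff.1 hcc with rfl | rfl
    · exact Or.inl (Units.ext (by rw [hc, one_smul, Units.val_one]))
    · exact Or.inr (Units.ext (by rw [hc, neg_one_smul, Units.val_neg, Units.val_one]))
  have he : Monoid.exponent R = 4 := hR.exponent_eq
  have h4 : ∀ t : R, t ^ 4 = 1 := fun t => by
    have := Monoid.pow_exponent_eq_one t
    rwa [he] at this
  have : Finite R := Nat.finite_of_card_ne_zero (by rw [hcard]; positivity)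
  obtain ⟨z, hz, hz1⟩ : ∃ z ∈ Subgroup.center R, z ≠ 1 := by
    by_contra hno
    push Not at hno
    have h1 : Subgroup.center R = ⊥ := (Subgroup.eq_bot_iff_forall _).mpr hno
    rw [h1, Subgroup.card_bot] at hZ
    omega
  have hz2 : z ^ 2 = 1 := by
    have h := congrArg Subtype.val (pow_card_eq_one' (x := (⟨z, hz⟩ : Subgroup.center R)))
    rw [hZ] at h
    exact h
  obtain ⟨e, he'⟩ := hcen (z : Matrix.GeneralLinearGroup (Fin n) F).1 fun g hg =>
    congrArg (fun u : R => (u : Matrix.GeneralLinearGroup (Fin n) F).1)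
      (Subgroup.mem_center_iff.mp hz ⟨g, hg⟩).symm
  have hzneg : (z : Matrix.GeneralLinearGroup (Fin n) F) = -1 :=
    (hpm _ z.2 _ he').resolve_left fun h => hz1 (Subtype.ext h)
  obtain ⟨hsq, hcm⟩ := Symplectic.exists_relations (T := R)
    ⟨hR.pGroup, hR.cyclic_of_characteristic⟩ h4 hz hz2 hz1
  have hsys : C6Gen.Sys k R := by
    refine ⟨h2, by rw [hcard, add_comm], hzneg ▸ z.2, fun g hg => ?_, fun g hg h hh => ?_, hcen, hpm⟩
    · exact (hsq ⟨g, hg⟩).imp (congrArg Subtype.val) fun e => (congrArg Subtype.val e).trans hzneg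
    · have e1 : g * h = ⁅g, h⁆ * (h * g) := by rw [commutatorElement_def]; group
      rcases hcm ⟨g, hg⟩ ⟨h, hh⟩ with h' | h'
      · left
        rw [e1, show ⁅g, h⁆ = 1 from congrArg Subtype.val h', one_mul]
      · right
        rw [e1, show ⁅g, h⁆ = -1 from (congrArg Subtype.val h').trans hzneg, neg_mul, one_mul]
  have hk : 4 ≤ k := by
    have h := hsys.card_eq
    rw [Fintype.card_fin] at h
    by_contra hlt
    have := Nat.pow_le_pow_right (show 1 ≤ 2 by norm_num) (show k ≤ 3 by omega)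
    omega
  have hprime : (Fintype.card F).Prime := by rw [hF]; exact hp
  have h := C6Orth.plus_maximal hprime hsys hk (Q := Orth.ofND hQ) (Orth.ofND_nondeg hQ)
    (by rw [Orth.coe_ofND]; exact hRD) hpt
  rw [Orth.coe_ofND] at h
  exact h

end Cfsg.Agent.S5703
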