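import Cfsg.Statements.S5706
import Cfsg.Agent.Lib.C7S.Transfer

set_option autoImplicit false
open Cfsg

namespace Cfsg.Agent.S5706

/-- Let F be a finite field with q elements, n ≥ 13 even, Q a non-degenerate quadratic form on F^n of plus type (some subspace of dimension n/2 is totally singular), and Ω the commutator subgroup of the isometry group of Q, viewed inside GL_n(F). Suppose that, through a change of basis P and a bijection of index sets e, the polar form of Q is similar to the t-fold tensor power (t ≥ 2) of a non-degenerate symplectic form f₁ on F^k, that Q vanishes on the images of all pure tensors, that t is even if q is odd, that (q, k) is neither (2, 2) nor (3, 2), and that k ≥ 6 if q is even. Then the elements of Ω in the stabiliser of this decomposition form a maximal subgroup of Ω. -/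
theorem result {F : Type*} [Field F] [Fintype F] {n : ℕ} (hn : 13 ≤ n) (heven : Even n) (Q : (Fin n → F) → F) (hQ : Cfsg.Geo.IsNondegenerateQuadraticForm Q) (hplus : Cfsg.Geo.IsPlusTypeOn Q ⊤) (k t : ℕ) (ht : 2 ≤ t) (hqt : Odd (Fintype.card F) → Even t) (hex1 : ¬ (Fintype.card F = 2 ∧ k = 2)) (hex2 : ¬ (Fintype.card F = 3 ∧ k = 2)) (hex3 : ¬ Odd (Fintype.card F) → 6 ≤ k) (e : (Fin n) ≃ (Fin t → Fin k)) (P : Matrix.GeneralLinearGroup (Fin n) F) (f₁ : (Fin k → F) → (Fin k → F) → F) (hf₁ : Cfsg.Geo.IsSymplecticForm f₁) (hT : Cfsg.Geo.IsTensorPowerFormStructure id (QuadraticMap.polar Q) f₁ e P) (hpure : (∀ xs : Fin t → (Fin k → F), Q (Matrix.mulVec (P : Matrix (Fin n) (Fin n) F) ((fun a : Fin t → Fin k => ∏ i, xs i (a i)) ∘ e)) = 0)) : Cfsg.Geo.IsMaximalIn (Cfsg.Geo.omegaGL Q) (Cfsg.Geo.tensorWreathSubgroup k t e P ⊓ Cfsg.Geo.omegaGL Q) := by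
  classical
  obtain ⟨s, rfl⟩ : ∃ s, t = s + 2 := ⟨t - 2, by omega⟩
  have hcard : n = k ^ (s + 2) := by
    simpa using Fintype.card_congr e
  have hk2 : 2 ≤ k := by
    by_contra hlt
    have : k ^ (s + 2) ≤ 1 := (Nat.pow_le_pow_left (by omega : k ≤ 1) _).trans (by simp)
    omega
  have hR : C7S.Reg F k := by
    by_cases hodd : Odd (Fintype.card F)
    · have h2 : (2 : F) ≠ 0 := Ring.two_ne_zero fun h =>
        (Nat.not_even_iff_odd.2 hodd) (Nat.even_iff.2 (FiniteField.even_card_of_char_two h))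
      obtain ⟨r, hr⟩ := C7F.Fm.even_k (C7F.ofForm h2 hf₁)
      obtain ⟨d, hd⟩ := hodd
      refine .inl ⟨h2, ?_⟩
      rcases (show k = 2 ∨ 4 ≤ k by omega) with hk | hk
      · have := Fintype.one_lt_card (α := F)
        have hne : Fintype.card F ≠ 3 := fun h => hex2 ⟨h, hk⟩
        exact .inr ⟨hk, by omega⟩
      · exact .inl hk
    · refine .inr ⟨?_, hex3 hodd⟩
      by_contra h2
      refine hodd (Nat.odd_iff.2 (FiniteField.odd_card_of_char_ne_two fun h => h2 ?_))
      have h0 := ringChar.Nat.cast_ringChar (R := F)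
      rw [h] at h0
      exact_mod_cast h0
  exact C7S.isMaximalIn_transfer hQ hf₁ hR (by simp; omega) e P hT hpure

end Cfsg.Agent.S5706
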