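import Cfsg.Statements.S5707
import Cfsg.Agent.Lib.Orth.SpinTensorData
import Cfsg.Agent.EqLemmas

set_option autoImplicit false
open Cfsg

namespace Cfsg.Agent.S5707

/-- Let F be a finite field with q elements, n ≥ 13 even, Q a non-degenerate quadratic form on F^n of plus type (some subspace of dimension n/2 is totally singular), and Ω the commutator subgroup of the isometry group of Q, viewed inside GL_n(F). Suppose q is even and that, through P and e, the polar form of Q is similar to the t-fold tensor power (t ≥ 2) of a non-degenerate symplectic form f₁ on F^k with k ≤ 4 and (q, k) ≠ (2, 2), Q vanishing on the images of all pure tensors. Then the elements of Ω in the stabiliser of this decomposition form a subgroup that is not maximal: some subgroup lies strictly between it and Ω. -/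
theorem result {F : Type*} [Field F] [Fintype F] {n : ℕ} (hn : 13 ≤ n) (heven : Even n) (Q : (Fin n → F) → F) (hQ : Cfsg.Geo.IsNondegenerateQuadraticForm Q) (hplus : Cfsg.Geo.IsPlusTypeOn Q ⊤) (hchar : ¬ Odd (Fintype.card F)) (k t : ℕ) (ht : 2 ≤ t) (hk : k ≤ 4) (hex1 : ¬ (Fintype.card F = 2 ∧ k = 2)) (e : (Fin n) ≃ (Fin t → Fin k)) (P : Matrix.GeneralLinearGroup (Fin n) F) (f₁ : (Fin k → F) → (Fin k → F) → F) (hf₁ : Cfsg.Geo.IsSymplecticForm f₁) (hT : Cfsg.Geo.IsTensorPowerFormStructure id (QuadraticMap.polar Q) f₁ e P) (hpure : (∀ xs : Fin t → (Fin k → F), Q (Matrix.mulVec (P : Matrix (Fin n) (Fin n) F) ((fun a : Fin t → Fin k => ∏ i, xs i (a i)) ∘ e)) = 0)) : ∃ K : Subgroup (Matrix.GeneralLinearGroup (Fin n) F), Cfsg.Geo.tensorWreathSubgroup k t e P ⊓ Cfsg.Geo.omegaGL Q < K ∧ K < Cfsg.Geo.omegaGL Q := by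
  classical
  have h2F : (2 : F) = 0 := by
    have he : Even (Fintype.card F) := Nat.not_odd_iff_even.1 hchar
    have : ringChar F = 2 := FiniteField.even_card_iff_char_two.2 (Nat.even_iff.1 he)
    exact_mod_cast (ringChar.spec F 2).2 (by rw [this])
  have hneg : ∀ x : F, -x = x := fun x => by linear_combination (-x) * h2F
  have hcard : n = k ^ t := by simpa using Fintype.card_congr e
  have hev : Even k := Cfsg.Agent.Aschbacher.symplectic_even hf₁
  have hk0 : k ≠ 0 := by
    rintro rfl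
    rw [zero_pow (by omega)] at hcard
    omega
  obtain ⟨r, hr⟩ := hev
  have hk2 : k = 2 ∨ k = 4 := by omega
  rcases hk2 with rfl | rfl
  · have ht4 : 4 ≤ t := by
      by_contra hlt
      have : (2 : ℕ) ^ t ≤ 2 ^ 3 := Nat.pow_le_pow_right (by norm_num) (by omega)
      omega
    obtain ⟨B, hB⟩ := Cfsg.Agent.Orth.exists_std_gram (l := 1) (k := 2) (finSumFinEquiv (m := 1) (n := 1)).symm hf₁
    have hG : (-(Matrix.J (Fin 1) F)).submatrix ((finSumFinEquiv (m := 1) (n := 1)).symm : Fin 2 ≃ Fin 1 ⊕ Fin 1)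
        ((finSumFinEquiv (m := 1) (n := 1)).symm : Fin 2 ≃ Fin 1 ⊕ Fin 1) = !![0, 1; 1, 0] := by
      ext i j
      fin_cases i <;> fin_cases j <;>
        simp [Matrix.J, hneg, finSumFinEquiv, Fin.addCases] <;> rfl
    obtain ⟨c, Ψ, hc, hpol, hsing, hH⟩ :=
      Cfsg.Agent.Orth.exists_tensor_coords hQ e P hT hpure (hB.trans hG)
    exact Cfsg.Agent.Orth.exists_between_spin_two (Q := Cfsg.Agent.Orth.ofND hQ) h2F hc
      (fun h => hex1 ⟨h, rfl⟩) ht4 Ψ hpol hsing _ hH
  · obtain ⟨B, hB⟩ := Cfsg.Agent.Orth.exists_std_gram (l := 2) (k := 4) (finSumFinEquiv (m := 2) (n := 2)).symm hf₁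
    have hG : (-(Matrix.J (Fin 2) F)).submatrix ((finSumFinEquiv (m := 2) (n := 2)).symm : Fin 4 ≃ Fin 2 ⊕ Fin 2)
        ((finSumFinEquiv (m := 2) (n := 2)).symm : Fin 4 ≃ Fin 2 ⊕ Fin 2) = !![0, 0, 1, 0; 0, 0, 0, 1; 1, 0, 0, 0; 0, 1, 0, 0] := by
      ext i j
      fin_cases i <;> fin_cases j <;>
        simp [Matrix.J, hneg, finSumFinEquiv, Fin.addCases] <;> rfl
    obtain ⟨c, Ψ, hc, hpol, hsing, hH⟩ :=
      Cfsg.Agent.Orth.exists_tensor_coords hQ e P hT hpure (hB.trans hG)
    exact Cfsg.Agent.Orth.exists_between_spin_four (Q := Cfsg.Agent.Orth.ofND hQ) h2F hc ht Ψ hpol hsing _ hH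

end Cfsg.Agent.S5707
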