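import Cfsg.Statements.S5712
import Cfsg.Agent.Lib.SympX.Extract
import Cfsg.Agent.Lib.SympX.Orthogonal
import Cfsg.Agent.Lib.SympX.Exceptional

set_option autoImplicit false
open Cfsg

namespace Cfsg.Agent.S5712

open Cfsg.Agent.SympX Cfsg.Agent.Linear

/-- Let F be a finite field of characteristic two, n ≥ 2, V = F^{2n} with the non-degenerate alternating form f(u, v) = Σ (u_i v_{n+i} + u_{n+i} v_i), and G the group of invertible matrices preserving f. Let a ≠ 0 be a vector, H its stabilizer in G, and X a subgroup of O₂(H) of order |F|^{2n−2} no element of which is a transvection (no element g has g − 1 of rank one). If L is a subgroup of G containing X that acts irreducibly on V (no proper non-zero L-invariant subspace), then L = G, or, for some quadratic form Q on V whose polar form is f, L is the isometry group of Q or its subgroup of the isometries g for which g − 1 has even rank, or |F|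 = 2, n = 2 and L is isomorphic to the alternating group of degree 6 or to the symmetric group of degree 5. -/
theorem result {F : Type*} [Field F] [Fintype F] [CharP F 2] {n : ℕ} (hn : 2 ≤ n) (a : (Fin n ⊕ Fin n → F)) (ha : a ≠ 0)
    (X : Subgroup (GL (Fin n ⊕ Fin n) F)) (hXG : X ≤ Cfsg.preserving (Units.coeHom (Matrix (Fin n ⊕ Fin n) (Fin n ⊕ Fin n) F)) (fun u v : (Fin n ⊕ Fin n → F) => ∑ i : Fin n, (u (Sum.inl i) * v (Sum.inr i) + u (Sum.inr i) * v (Sum.inl i))))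
    (hXO : ∀ H : Subgroup (GL (Fin n ⊕ Fin n) F),
      (∀ g : GL (Fin n ⊕ Fin n) F, g ∈ H ↔ (g ∈ Cfsg.preserving (Units.coeHom (Matrix (Fin n ⊕ Fin n) (Fin n ⊕ Fin n) F)) (fun u v : (Fin n ⊕ Fin n → F) => ∑ i : Fin n, (u (Sum.inl i) * v (Sum.inr i) + u (Sum.inr i) * v (Sum.inl i))) ∧ Matrix.mulVec (g : Matrix (Fin n ⊕ Fin n) (Fin n ⊕ Fin n) F) a = a)) →
      X ≤ (Cfsg.pCore 2 ↥H).map H.subtype)
    (hcard : Nat.card ↥X = Fintype.card F ^ (2 * n - 2))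
    (hntv : ∀ x ∈ X, ((x : Matrix (Fin n ⊕ Fin n) (Fin n ⊕ Fin n) F) - 1).rank ≠ 1)
    (L : Subgroup (GL (Fin n ⊕ Fin n) F)) (hXL : X ≤ L) (hLG : L ≤ Cfsg.preserving (Units.coeHom (Matrix (Fin n ⊕ Fin n) (Fin n ⊕ Fin n) F)) (fun u v : (Fin n ⊕ Fin n → F) => ∑ i : Fin n, (u (Sum.inl i) * v (Sum.inr i) + u (Sum.inr i) * v (Sum.inl i))))
    (hirr : ∀ W : Submodule F (Fin n ⊕ Fin n → F), (∀ g ∈ L, ∀ w ∈ W, Matrix.mulVec (g : Matrix (Fin n ⊕ Fin n) (Fin n ⊕ Fin n) F) w ∈ W) → W = ⊥ ∨ W = ⊤) :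
    L = Cfsg.preserving (Units.coeHom (Matrix (Fin n ⊕ Fin n) (Fin n ⊕ Fin n) F)) (fun u v : (Fin n ⊕ Fin n → F) => ∑ i : Fin n, (u (Sum.inl i) * v (Sum.inr i) + u (Sum.inr i) * v (Sum.inl i))) ∨
    (∃ Q : QuadraticForm F (Fin n ⊕ Fin n → F), (∀ u v, QuadraticMap.polar ⇑Q u v = (fun u v : (Fin n ⊕ Fin n → F) => ∑ i : Fin n, (u (Sum.inl i) * v (Sum.inr i) + u (Sum.inr i) * v (Sum.inl i))) u v) ∧
      (L = Cfsg.isometryGroup F ⇑Q ∨
        ∀ g : GL (Fin n ⊕ Fin n) F, g ∈ L ↔ (g ∈ Cfsg.isometryGroup F ⇑Q ∧ Even ((g : Matrix (Fin n ⊕ Fin n) (Fin n ⊕ Fin n) F) - 1).rank))) ∨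
    (Fintype.card F = 2 ∧ n = 2 ∧ (Nonempty (↥L ≃* ↥(alternatingGroup (Fin 6))) ∨ Nonempty (↥L ≃* Equiv.Perm (Fin 5)))) := by
  classical
  have hform : (fun u v : (Fin n ⊕ Fin n → F) =>
      ∑ i : Fin n, (u (Sum.inl i) * v (Sum.inr i) + u (Sum.inr i) * v (Sum.inl i))) =
      Cfsg.sympForm n F := by
    funext u v
    rw [sympForm_eq_sum]
    exact Finset.sum_congr rfl fun i _ => by rw [CharTwo.sub_eq_add, add_comm]
  rw [hform] at hXG hXO hLG ⊢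
  have hSp : Cfsg.preserving (Units.coeHom (Matrix (Fin n ⊕ Fin n) (Fin n ⊕ Fin n) F))
      (Cfsg.sympForm n F) = Cfsg.spGL n F := rfl
  rw [hSp] at hXG hXO hLG ⊢
  -- the stabiliser and its largest normal two-subgroup
  let H : Subgroup (GL (Fin n ⊕ Fin n) F) :=
    Cfsg.spGL n F ⊓
      { carrier := {g | Matrix.mulVec (g : Matrix (Fin n ⊕ Fin n) (Fin n ⊕ Fin n) F) a = a}
        mul_mem' := fun {x y} hx hy => by
          simp only [Set.mem_ofPred_eq] at hx hy ⊢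
          rw [Units.val_mul, ← Matrix.mulVec_mulVec, hy, hx]
        one_mem' := Matrix.one_mulVec a
        inv_mem' := fun {x} hx => by
          simp only [Set.mem_ofPred_eq] at hx ⊢
          conv_lhs => rw [← hx]
          rw [Matrix.mulVec_mulVec, ← Units.val_mul, inv_mul_cancel, Units.val_one,
            Matrix.one_mulVec] }
  have hH : ∀ g, g ∈ H ↔ (g ∈ Cfsg.spGL n F ∧
      Matrix.mulVec (g : Matrix (Fin n ⊕ Fin n) (Fin n ⊕ Fin n) F) a = a) := fun g => Iff.rfl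
  have hX := hXO H hH
  set P' : Subgroup (Cfsg.spGL n F) :=
    ((Cfsg.pCore 2 ↥H).map H.subtype).comap (Cfsg.spGL n F).subtype with hP'
  set H' : Subgroup (Cfsg.spGL n F) := H.comap (Cfsg.spGL n F).subtype with hH'
  set X' : Subgroup (Cfsg.spGL n F) := X.comap (Cfsg.spGL n F).subtype with hX'
  set L' : Subgroup (Cfsg.spGL n F) := L.comap (Cfsg.spGL n F).subtype with hL'
  have hH'' : ∀ g, g ∈ H' ↔ g • a = a := fun g => ⟨fun h => h.2, fun h => ⟨g.2, h⟩⟩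
  have hPH : P' ≤ H' := by
    rintro g ⟨x, -, hx⟩
    show (g : GL (Fin n ⊕ Fin n) F) ∈ H
    rw [show (g : GL (Fin n ⊕ Fin n) F) = (x : GL (Fin n ⊕ Fin n) F) from hx.symm]
    exact x.2
  have hPn : ∀ h ∈ H', ∀ p ∈ P', h * p * h⁻¹ ∈ P' := by
    rintro h hh p ⟨x, hx, hxp⟩
    refine ⟨⟨(h : GL (Fin n ⊕ Fin n) F), hh⟩ * x * ⟨(h : GL (Fin n ⊕ Fin n) F), hh⟩⁻¹,
      (PReduced.pCore_normal 2 ↥H).conj_mem x hx _, ?_⟩
    simp only [map_mul, map_inv, hxp]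
    rfl
  have hP2 : IsPGroup 2 ↥P' :=
    ((PReduced.isPGroup_pCore (G := ↥H) 2).map H.subtype).comap_of_injective
      (Cfsg.spGL n F).subtype (Cfsg.spGL n F).subtype_injective
  have hcard' : Nat.card X' = Fintype.card F ^ (2 * n - 2) := by
    exact (Nat.card_congr (Subgroup.subgroupOfEquivOfLe hXG).toEquiv).trans hcard
  have hntv' : ∀ t : F, spTv a t ∈ X' → t = 0 := by
    intro t ht
    by_contra h0
    apply hntv _ ht
    suffices hR : LinearMap.range ((spTv a t).1.1 - 1).mulVecLin = (F ∙ a) by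
      show Matrix.rank ((spTv a t).1.1 - 1) = 1
      rw [Matrix.rank, hR, finrank_span_singleton ha]
    refine le_antisymm ?_ ?_
    · rintro _ ⟨x, rfl⟩
      refine Submodule.mem_span_singleton.2 ⟨t * Cfsg.sympForm n F x a, ?_⟩
      have hx : (spTv a t).1.1.mulVec x = x + (t * Cfsg.sympForm n F x a) • a := spTv_smul a t x
      simp [Matrix.mulVecLin_apply, Matrix.sub_mulVec, hx]
    · rw [Submodule.span_singleton_le_iff_mem]
      obtain ⟨y, hy⟩ := exists_sympForm_ne_zero ha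
      refine ⟨(t * Cfsg.sympForm n F y a)⁻¹ • y, ?_⟩
      have hy' : t * Cfsg.sympForm n F y a ≠ 0 := mul_ne_zero h0 (by rwa [form_comm])
      have hx : (spTv a t).1.1.mulVec y = y + (t * Cfsg.sympForm n F y a) • a := spTv_smul a t y
      rw [map_smul, Matrix.mulVecLin_apply, Matrix.sub_mulVec,
        Matrix.one_mulVec, hx, add_sub_cancel_left, smul_smul, inv_mul_cancel₀ hy', one_smul]
  have hpt : IsPt L' a := isPt_of_card hn ha H' P' X' hH'' hPH hPn hP2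
    (fun g hg => hX hg) hcard' hntv' (fun g hg => hXL hg)
  have hirr' : Irred L' := fun W hW => hirr W fun g hg w hw => hW ⟨g, hLG hg⟩ hg w hw
  have hback : ∀ g : GL (Fin n ⊕ Fin n) F, g ∈ L ↔ ∃ h : g ∈ Cfsg.spGL n F,
      (⟨g, h⟩ : Cfsg.spGL n F) ∈ L' :=
    fun g => ⟨fun h => ⟨hLG h, h⟩, fun ⟨_, h⟩ => h⟩
  have fromQ : ∀ Q : QuadraticForm F (Fin n ⊕ Fin n → F),
      (∀ x y, QuadraticMap.polar ⇑Q x y = Cfsg.sympForm n F x y) →
      ((∀ g, g ∈ L' ↔ ∀ x, Q (g • x) = Q x) ∨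
        (∀ g, g ∈ L' ↔ (∀ x, Q (g • x) = Q x) ∧ Even ((g.1.1 - 1).rank))) →
      ∃ Q : QuadraticForm F (Fin n ⊕ Fin n → F),
        (∀ u v, QuadraticMap.polar ⇑Q u v = Cfsg.sympForm n F u v) ∧
        (L = Cfsg.isometryGroup F ⇑Q ∨ ∀ g : GL (Fin n ⊕ Fin n) F, g ∈ L ↔
          (g ∈ Cfsg.isometryGroup F ⇑Q ∧
            Even ((g : Matrix (Fin n ⊕ Fin n) (Fin n ⊕ Fin n) F) - 1).rank)) := by
    intro Q hQ hor
    refine ⟨Q, hQ, ?_⟩
    rcases hor with h | h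
    · refine Or.inl (Subgroup.ext fun g => ?_)
      rw [hback]
      exact ⟨fun ⟨hg, hg'⟩ => fun x _ => (h _).1 hg' x,
        fun hg => ⟨iso_sp hQ hg, (h _).2 fun x => hg x x⟩⟩
    · refine Or.inr fun g => ?_
      rw [hback]
      exact ⟨fun ⟨hg, hg'⟩ => ⟨fun x _ => ((h _).1 hg').1 x, ((h _).1 hg').2⟩,
        fun hg => ⟨iso_sp hQ hg.1, (h _).2 ⟨fun x => hg.1 x x, hg.2⟩⟩⟩
  have ofTop : L' = ⊤ → L = Cfsg.spGL n F := fun h =>
    le_antisymm hLG fun g hg => (hback g).2 ⟨hg, h ▸ Subgroup.mem_top _⟩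
  by_cases htv : ∃ c t, IsPt L' c ∧ t ≠ 0 ∧ spTv c t ∈ L'
  · obtain ⟨c, t, hc, ht, htc⟩ := htv
    exact Or.inl (ofTop (eq_top_of_transvection hn hirr' hc ht htc))
  push Not at htv
  by_cases h22 : Fintype.card F = 2 ∧ n = 2
  · obtain ⟨h2, rfl⟩ := h22
    have e : ↥L' ≃* ↥L := Subgroup.subgroupOfEquivOfLe hLG
    rcases exceptional h2 hirr' hpt with h | ⟨Q, hQ, h⟩ | ⟨⟨φ⟩⟩ | ⟨⟨φ⟩⟩
    · exact Or.inl (ofTop h)
    · exact Or.inr (Or.inl (fromQ Q hQ h))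
    · exact Or.inr (Or.inr ⟨h2, rfl, Or.inl ⟨e.symm.trans φ⟩⟩)
    · exact Or.inr (Or.inr ⟨h2, rfl, Or.inr ⟨e.symm.trans φ⟩⟩)
  · have hne : Fintype.card F ≠ 2 ∨ n ≠ 2 := not_and_or.1 h22
    obtain ⟨Q, hQ, h⟩ := general_case
      ⟨hn, hirr', ⟨a, hpt⟩, fun c hc t ht => by_contra fun h0 => htv c t hc h0 ht⟩ hne
    exact Or.inr (Or.inl (fromQ Q hQ h))

end Cfsg.Agent.S5712
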