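import Cfsg.Statements.S5713
import Cfsg.Agent.Lib.MinDegreeBabai

set_option autoImplicit false
open Cfsg

namespace Cfsg.Agent.S5713

open MulAction Finset Cfsg.Agent.MinDegreeBabai

/-- If supports of two permutations meet in one point, their commutator is a 3-cycle. -/
theorem threeCycle_of_single {α : Type*} [Fintype α] [DecidableEq α] (p q : Equiv.Perm α) (a : α)
    (hp : p a ≠ a) (hq : q a ≠ a) (h : ∀ x, p x ≠ x → q x ≠ x → x = a) :
    (p * q * p⁻¹ * q⁻¹).IsThreeCycle := by
  set b := p a with hb
  set c := q a with hc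
  have pq : ∀ x, p x ≠ x → x ≠ a → q x = x := fun x h1 h2 => by_contra fun h3 => h2 (h x h1 h3)
  have qp : ∀ x, q x ≠ x → x ≠ a → p x = x := fun x h1 h2 => by_contra fun h3 => h2 (h x h3 h1)
  have hpb : p b ≠ b := fun e => hp (p.injective e)
  have hqc : q c ≠ c := fun e => hq (q.injective e)
  have qb : q b = b := pq b hpb hp
  have pc : p c = c := qp c hqc hq
  have hbc : b ≠ c := fun e => hpb (e ▸ pc)
  have key : p * q * p⁻¹ * q⁻¹ = Equiv.swap a c * Equiv.swap a b := by
    ext x
    simp only [Equiv.Perm.mul_apply]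
    rcases eq_or_ne x a with rfl | hxa
    · have hr : q (q⁻¹ x) = x := (by simp)
      have hra : q⁻¹ x ≠ x := fun e => hq (by rw [e] at hr; exact hr)
      have hrp : p (q⁻¹ x) = q⁻¹ x := qp _ (by rw [hr]; exact hra.symm) hra
      have : p⁻¹ (q⁻¹ x) = q⁻¹ x := by rw [Equiv.Perm.inv_eq_iff_eq, hrp]
      rw [this, hr, Equiv.swap_apply_left, Equiv.swap_apply_of_ne_of_ne hp hbc]
    rcases eq_or_ne x b with rfl | hxb
    · have e1 : q⁻¹ b = b := by rw [Equiv.Perm.inv_eq_iff_eq, qb]
      have e2 : p⁻¹ b = a := by rw [Equiv.Perm.inv_eq_iff_eq]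
      rw [e1, e2, ← hc, pc, Equiv.swap_apply_right, Equiv.swap_apply_left]
    rcases eq_or_ne x c with rfl | hxc
    · have e1 : q⁻¹ c = a := by rw [Equiv.Perm.inv_eq_iff_eq]
      have hr : p (p⁻¹ a) = a := (by simp)
      have hra : p⁻¹ a ≠ a := fun e => hp (by rw [e] at hr; exact hr)
      have hrq : q (p⁻¹ a) = p⁻¹ a := pq _ (by rw [hr]; exact hra.symm) hra
      rw [e1, hrq, hr, Equiv.swap_apply_of_ne_of_ne hq hbc.symm, Equiv.swap_apply_right]
    rw [Equiv.swap_apply_of_ne_of_ne hxa hxb, Equiv.swap_apply_of_ne_of_ne hxa hxc]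
    by_cases hqx : q x = x
    · have e1 : q⁻¹ x = x := by rw [Equiv.Perm.inv_eq_iff_eq, hqx]
      rw [e1]
      by_cases hpx : p x = x
      · have e2 : p⁻¹ x = x := by rw [Equiv.Perm.inv_eq_iff_eq, hpx]
        rw [e2, hqx, hpx]
      · have hr : p (p⁻¹ x) = x := (by simp)
        have hrx : p⁻¹ x ≠ x := fun e => hpx (by rw [e] at hr; exact hr)
        have hra : p⁻¹ x ≠ a := fun e => hxb (by rw [e] at hr; exact hr.symm.trans hb.symm)
        rw [pq _ (by rw [hr]; exact hrx.symm) hra, hr]
    · have hpx : p x = x := qp x hqx hxa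
      have hr : q (q⁻¹ x) = x := (by simp)
      have hrx : q⁻¹ x ≠ x := fun e => hqx (by rw [e] at hr; exact hr)
      have hra : q⁻¹ x ≠ a := fun e => hxc (by rw [e] at hr; exact hr.symm.trans hc.symm)
      have hrp : p (q⁻¹ x) = q⁻¹ x := qp _ (by rw [hr]; exact hrx.symm) hra
      have e1 : p⁻¹ (q⁻¹ x) = q⁻¹ x := by rw [Equiv.Perm.inv_eq_iff_eq, hrp]
      rw [e1, hr, hpx]
  rw [key]
  exact Equiv.Perm.isThreeCycle_swap_mul_swap_same hq.symm hp.symm hbc.symm

/-- A transitive set can be moved off itself when its square is less than the degree. -/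
theorem exists_move_off {H α : Type*} [Group H] [Fintype H] [MulAction H α] [DecidableEq α]
    (T Y : Finset α) (hTY : T ⊆ Y) (hY : ∀ h : H, ∀ x ∈ Y, h • x ∈ Y)
    (htr : ∀ x ∈ Y, ∀ y ∈ Y, ∃ h : H, h • x = y) (hlt : #T * #T < #Y) :
    ∃ h : H, ∀ x ∈ T, h • x ∉ T := by
  classical
  by_contra hc
  push Not at hc
  have hfib : ∀ x ∈ Y, ∀ y ∈ Y, #Y * #({h | h • x = y} : Finset H) = Fintype.card H := by
    intro x hx y hy
    have hall : ∀ y' ∈ Y, #({h | h • x = y'} : Finset H) = #({h | h • x = y} : Finset H) := by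
      intro y' hy'
      obtain ⟨k, hk⟩ := htr y' hy' y hy
      refine card_bij (fun h _ => k * h) ?_ (fun a _ b _ e => mul_left_cancel e) ?_
      · intro h hh
        simp only [mem_filter, mem_univ, true_and] at hh ⊢
        rw [mul_smul, hh, hk]
      · intro h hh
        simp only [mem_filter, mem_univ, true_and] at hh ⊢
        exact ⟨k⁻¹ * h, by rw [mul_smul, hh, inv_smul_eq_iff, hk], mul_inv_cancel_left k h⟩
    calc #Y * #({h | h • x = y} : Finset H) = ∑ y' ∈ Y, #({h | h • x = y'} : Finset H) := by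
          rw [sum_congr rfl hall, sum_const, smul_eq_mul]
      _ = Fintype.card H := by
          rw [← card_univ]
          exact (card_eq_sum_card_fiberwise (fun h _ => hY h x hx)).symm
  have hcov : (univ : Finset H) ⊆ (T ×ˢ T).biUnion (fun q => {h | h • q.1 = q.2}) := by
    intro h _
    obtain ⟨x, hx, hxT⟩ := hc h
    simp only [mem_biUnion, mem_product, mem_filter, mem_univ, true_and]
    exact ⟨(x, h • x), ⟨hx, hxT⟩, rfl⟩
  have h1 := (card_le_card hcov).trans card_biUnion_le
  have h2 : #Y * Fintype.card H ≤ #T * #T * Fintype.card H := by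
    calc #Y * Fintype.card H
        ≤ #Y * ∑ q ∈ T ×ˢ T, #({h | h • q.1 = q.2} : Finset H) := by
          rw [← card_univ]; exact Nat.mul_le_mul_left _ h1
      _ = ∑ q ∈ T ×ˢ T, Fintype.card H := by
          rw [mul_sum]
          refine sum_congr rfl fun q hq => ?_
          rw [mem_product] at hq
          exact hfib _ (hTY hq.1) _ (hTY hq.2)
      _ = _ := by simp
  have := Nat.le_of_mul_le_mul_right h2 Fintype.card_pos
  omega

theorem moved_bound {G Ω : Type*} [Group G] [Finite G] [MulAction G Ω] [FaithfulSMul G Ω]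
    [Fintype Ω] [DecidableEq Ω] (hprim : MulAction.IsPreprimitive G Ω)
    (hA : ¬ alternatingGroup Ω ≤ (MulAction.toPermHom G Ω).range) (g : G) (hg : g ≠ 1) :
    Fintype.card Ω ≤ (2 * #({z | g • z ≠ z} : Finset Ω) + 1) *
      (2 * #({z | g • z ≠ z} : Finset Ω) + 1) := by
  classical
  set S : Finset Ω := {z | g • z ≠ z} with hS
  obtain ⟨a, ha⟩ : ∃ a : Ω, g • a ≠ a := by
    by_contra hc
    push Not at hc
    exact hg (FaithfulSMul.eq_of_smul_eq_smul (α := Ω) (fun z => by rw [hc z, one_smul]))
  have haS : a ∈ S := by simp [hS, ha]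
  have hm1 : 1 ≤ #S := card_pos.2 ⟨a, haS⟩
  rcases Nat.lt_or_ge (Fintype.card Ω) 10 with hn | hn
  · calc Fintype.card Ω ≤ 9 := by omega
      _ = 3 * 3 := rfl
      _ ≤ _ := Nat.mul_le_mul (by omega) (by omega)
  by_cases hrank : ∀ x y : Ω, x ≠ a → y ≠ a → Same G a x y
  · by_contra hlt
    push Not at hlt
    let H := MulAction.stabilizer G a
    haveI : Fintype H := Fintype.ofFinite H
    obtain ⟨h, hh⟩ := exists_move_off (H := H) (S.erase a) ((univ : Finset Ω).erase a)
      (erase_subset_erase _ (subset_univ _))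
      (fun h x hx => by
        simp only [mem_erase, mem_univ, and_true] at hx ⊢
        intro e
        refine hx (MulAction.injective (h : G) ?_)
        exact e.trans h.2.symm)
      (fun x hx y hy => by
        simp only [mem_erase, mem_univ, and_true] at hx hy
        obtain ⟨h, h1, h2⟩ := hrank x y hx hy
        exact ⟨⟨h, h1⟩, h2⟩)
      (by
        rw [card_erase_of_mem haS, card_erase_of_mem (mem_univ a), card_univ]
        obtain ⟨t, ht⟩ : ∃ t, #S = t + 1 := ⟨#S - 1, by omega⟩
        rw [ht, Nat.add_sub_cancel]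
        rw [ht] at hlt
        have e : (2 * (t + 1) + 1) * (2 * (t + 1) + 1) = 4 * (t * t) + 12 * t + 9 := by ring
        omega)
    set σ := MulAction.toPermHom G Ω
    set g' : G := (h : G) * g * (h : G)⁻¹ with hg'
    have hha : (h : G) • a = a := h.2
    have hha' : (h : G)⁻¹ • a = a := by rw [inv_smul_eq_iff, hha]
    have h3 : (σ g * σ g' * (σ g)⁻¹ * (σ g')⁻¹).IsThreeCycle := by
      refine threeCycle_of_single _ _ a ha ?_ ?_
      · show g' • a ≠ a
        rw [hg', mul_smul, mul_smul, hha']
        intro e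
        exact ha (MulAction.injective (h : G) (e.trans hha.symm))
      · intro x hx hx'
        by_contra hxa
        have hy : (h : G)⁻¹ • x ∈ S.erase a := by
          simp only [hS, mem_erase, mem_filter, mem_univ, true_and]
          refine ⟨fun e => hxa ?_, fun e => hx' ?_⟩
          · rw [inv_smul_eq_iff, hha] at e; exact e
          · show g' • x = x
            rw [hg', mul_smul, mul_smul, e, smul_inv_smul]
        refine hh _ hy ?_
        show (h : G) • (h : G)⁻¹ • x ∈ S.erase a
        rw [smul_inv_smul]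
        simp only [hS, mem_erase, mem_filter, mem_univ, true_and]
        exact ⟨hxa, hx⟩
    have hprimH : MulAction.IsPreprimitive σ.range Ω :=
      MulAction.IsPreprimitive.of_surjective
        (f := ({ toFun := id, map_smul' := fun _ _ => rfl } :
          Ω →ₑ[(fun g : G => σ.rangeRestrict g)] Ω)) Function.surjective_id
    refine hA (Equiv.Perm.alternatingGroup_le_of_isPreprimitive_of_isThreeCycle_mem hprimH h3 ?_)
    exact ⟨g * g' * g⁻¹ * g'⁻¹, by simp only [map_mul, map_inv, σ]⟩
  · push Not at hrank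
    obtain ⟨b, b', hb, hb', hns⟩ := hrank
    have h1 := dist_bound (G := G) (by omega) hb hb' hns (Ne.symm ha)
    have h2 := dist_le_moved g a
    exact h1.trans (Nat.mul_le_mul (by rw [hS]; omega) (by rw [hS]; omega))


/-- A classification-free minimal-degree bound. Let G be a finite group acting faithfully and primitively on a finite set Ω with n elements, and suppose that the image of G in the symmetric group on Ω does not contain the alternating group on Ω. Then every non-identity element of G moves at least (√n − 1)/2 points of Ω, that is, it fixes at most n − (√n − 1)/2 points. -/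
theorem result {G Ω : Type*} [Group G] [Finite G] [MulAction G Ω] [FaithfulSMul G Ω] [Fintype Ω] [DecidableEq Ω]
    (hprim : MulAction.IsPreprimitive G Ω)
    (hA : ¬ alternatingGroup Ω ≤ (MulAction.toPermHom G Ω).range)
    (g : G) (hg : g ≠ 1) :
    (Real.sqrt (Fintype.card Ω) - 1) / 2 ≤ (Fintype.card Ω : ℝ) - Nat.card (MulAction.fixedBy Ω g) := by
  classical
  have hb := moved_bound hprim hA g hg
  set S : Finset Ω := {z | g • z ≠ z} with hS
  set n := Fintype.card Ω
  have hfix : (Nat.card (MulAction.fixedBy Ω g)) + S.card = n := by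
    rw [Nat.card_eq_fintype_card, Fintype.card_subtype, hS,
      ← Finset.card_union_of_disjoint (by
        rw [Finset.disjoint_left]
        intro z h1 h2
        simp only [Finset.mem_filter, MulAction.mem_fixedBy] at h1 h2
        exact h2.2 h1.2)]
    refine (congrArg Finset.card ?_).trans Finset.card_univ
    ext z
    simp only [Finset.mem_union, Finset.mem_filter, Finset.mem_univ, true_and, iff_true]
    exact em _
  have hc : (Nat.card (MulAction.fixedBy Ω g) : ℝ) + (S.card : ℝ) = (n : ℝ) := by exact_mod_cast hfix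
  have hsq : Real.sqrt n ≤ 2 * (S.card : ℝ) + 1 := by
    rw [Real.sqrt_le_iff]
    refine ⟨by positivity, ?_⟩
    rw [sq]
    exact_mod_cast hb
  linarith

end Cfsg.Agent.S5713
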