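import Cfsg.Statements.S5720
import Cfsg.Agent.Lib.FixSixth.Reduce
import Cfsg.Agent.S0483

set_option autoImplicit false
open Cfsg

namespace Cfsg.Agent.S5720

/-- Let H be a finite group whose soluble radical (largest soluble normal subgroup) has index greater than 120. Then for every field K and every finite-dimensional K-linear representation of H on a space V there is a non-identity element h of H whose fixed-point subspace on V has dimension at least (dim V)/6. -/
theorem result {H : Type*} [Group H] [Finite H] (hR : 120 < (Cfsg.solvableRadical H).index)
    {K V : Type*} [Field K] [AddCommGroup V] [Module K V] [FiniteDimensional K V] (ρ : Representation K H V) :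
    ∃ h : H, h ≠ 1 ∧ (Module.finrank K V : ℚ) / 6 ≤ Module.finrank K (LinearMap.ker (ρ h - 1)) := by
  have hGW : RankOneSylow.GorensteinWalter := fun X _ _ h S n hn hS => by
    haveI : Group.IsPerfect X := ⟨h⟩
    exact S0483.result S n hn hS
  obtain ⟨g, hg, hn⟩ := FixSixth.hasLargeFix_of_index hGW hR ρ
  refine ⟨g, hg, ?_⟩
  rw [div_le_iff₀ (by norm_num), mul_comm]
  exact_mod_cast hn

end Cfsg.Agent.S5720
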