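import Cfsg.Statements.S5726
import Cfsg.Agent.Lib.DerangeP.Basic

set_option autoImplicit false
open Cfsg

namespace Cfsg.Agent.S5726

/-- If a finite group acts faithfully and transitively on a set with p^k elements, p a prime and k ≥ 1, then some element of order p fixes no point. -/
theorem result {G Ω : Type*} [Group G] [Finite G] [MulAction G Ω] [FaithfulSMul G Ω] [Fintype Ω] (htr : MulAction.IsPretransitive G Ω)
    (p k : ℕ) (hp : p.Prime) (hk : 1 ≤ k) (hΩ : Fintype.card Ω = p ^ k) :
    ∃ g : G, orderOf g = p ∧ ∀ ω : Ω, g • ω ≠ ω := by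
  have := Fact.mk hp
  have := htr
  let P : Sylow p G := default
  have hd : p ^ k ∣ Nat.card Ω := by rw [Nat.card_eq_fintype_card, hΩ]
  have htrP : ∀ a b : Ω, ∃ x ∈ (P : Subgroup G), x • a = b := by
    intro a b
    have h := Cfsg.Agent.DerangeP.pow_dvd_card_sylow_orbit P k hd a
    have hle : Nat.card (MulAction.orbit (P : Subgroup G) a) = Nat.card Ω := by
      refine le_antisymm (Finite.card_subtype_le _) ?_
      rw [Nat.card_eq_fintype_card (α := Ω), hΩ]
      have : Nonempty (MulAction.orbit (P : Subgroup G) a) := ⟨⟨a, MulAction.mem_orbit_self a⟩⟩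
      exact Nat.le_of_dvd Nat.card_pos h
    have hu : MulAction.orbit (P : Subgroup G) a = Set.univ := by
      apply Set.eq_of_subset_of_ncard_le (Set.subset_univ _) _ (Set.toFinite _)
      rw [Set.ncard_univ, ← Nat.card_coe_set_eq, hle]
    have hb : b ∈ MulAction.orbit (P : Subgroup G) a := hu ▸ Set.mem_univ b
    obtain ⟨x, hx⟩ := hb
    exact ⟨x, x.2, hx⟩
  refine Cfsg.Agent.DerangeP.exists_derangement_of_transitive_pGroup _ P.2 ?_ htrP
  intro h
  have h1 : 1 < p ^ k := Nat.one_lt_pow (by omega) hp.one_lt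
  obtain ⟨a, b, hab⟩ := Fintype.one_lt_card_iff.1 (hΩ ▸ h1 : 1 < Fintype.card Ω)
  obtain ⟨x, hx, rfl⟩ := htrP a b
  rw [h, Subgroup.mem_bot] at hx
  exact hab (by rw [hx, one_smul])

end Cfsg.Agent.S5726
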