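import Cfsg.Statements.S5727
import Cfsg.Agent.Lib.DerangeP.Basic

set_option autoImplicit false
open Cfsg

namespace Cfsg.Agent.S5727

/-- If a finite group acts faithfully and transitively on a set with m·p elements, where p is a prime and 1 ≤ m ≤ p, then some element of order p fixes no point. -/
theorem result {G Ω : Type*} [Group G] [Finite G] [MulAction G Ω] [FaithfulSMul G Ω] [Fintype Ω] (htr : MulAction.IsPretransitive G Ω)
    (p m : ℕ) (hp : p.Prime) (hm : 1 ≤ m) (hmp : m ≤ p) (hΩ : Fintype.card Ω = m * p) :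
    ∃ g : G, orderOf g = p ∧ ∀ ω : Ω, g • ω ≠ ω := by
  classical
  have := Fact.mk hp
  have := htr
  let P : Sylow p G := default
  have hd : p ^ 1 ∣ Nat.card Ω := by rw [pow_one, Nat.card_eq_fintype_card, hΩ]; exact dvd_mul_left p m
  have hcard : ∀ a : Ω, p ∣ Nat.card (MulAction.orbit (P : Subgroup G) a) := fun a => by
    have h := Cfsg.Agent.DerangeP.pow_dvd_card_sylow_orbit P 1 hd a
    rwa [pow_one] at h
  have hne : (P : Subgroup G) ≠ ⊥ := by
    intro h
    have hpos : 0 < Fintype.card Ω := by rw [hΩ]; exact Nat.mul_pos hm hp.pos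
    obtain ⟨a⟩ := Fintype.card_pos_iff.1 hpos
    have h1 : MulAction.orbit (P : Subgroup G) a = {a} := by
      ext b
      constructor
      · rintro ⟨x, rfl⟩
        have hx : (x : G) = 1 := (Subgroup.mem_bot).1 (h ▸ x.2)
        rw [Set.mem_singleton_iff]
        show (x : G) • a = a
        rw [hx, one_smul]
      · rintro rfl; exact MulAction.mem_orbit_self _
    have := hcard a
    rw [Nat.card_coe_set_eq, h1, Set.ncard_singleton] at this
    exact hp.not_dvd_one this
  by_cases htrP : ∀ a b : Ω, ∃ x ∈ (P : Subgroup G), x • a = b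
  · exact Cfsg.Agent.DerangeP.exists_derangement_of_transitive_pGroup _ P.2 hne htrP
  -- all orbits have size p
  have hsize : ∀ a : Ω, Nat.card (MulAction.orbit (P : Subgroup G) a) = p := by
    intro a
    obtain ⟨j, hj⟩ := P.2.card_orbit a
    have h1 : 1 ≤ j := by
      rcases Nat.eq_zero_or_pos j with rfl | h
      · have := hcard a; rw [hj, pow_zero] at this; exact absurd this hp.not_dvd_one
      · exact h
    have h2 : Nat.card (MulAction.orbit (P : Subgroup G) a) < m * p := by
      by_contra hge
      push Not at hge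
      have hu : MulAction.orbit (P : Subgroup G) a = Set.univ := by
        apply Set.eq_of_subset_of_ncard_le (Set.subset_univ _) _ (Set.toFinite _)
        rw [Set.ncard_univ, ← Nat.card_coe_set_eq, Nat.card_eq_fintype_card (α := Ω), hΩ]
        exact hge
      apply htrP
      intro b c
      have hb : b ∈ MulAction.orbit (P : Subgroup G) a := hu ▸ Set.mem_univ b
      have hc : c ∈ MulAction.orbit (P : Subgroup G) a := hu ▸ Set.mem_univ c
      obtain ⟨x, hx⟩ := hb
      obtain ⟨y, hy⟩ := hc
      refine ⟨y * (x : G)⁻¹, mul_mem y.2 (inv_mem x.2), ?_⟩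
      have hx' : (x : G) • a = b := hx
      rw [mul_smul, ← hx', inv_smul_smul]
      exact hy
    rw [hj] at h2 ⊢
    have h3 : p ^ j < p ^ 2 := lt_of_lt_of_le h2 (by rw [pow_two]; exact Nat.mul_le_mul_right p hmp)
    have := (Nat.pow_lt_pow_iff_right hp.one_lt).1 h3
    rw [show j = 1 by omega, pow_one]
  let st : Ω → Subgroup (P : Subgroup G) := fun a => MulAction.stabilizer (P : Subgroup G) a
  have hidx : ∀ a, (st a).index = p := fun a => by
    rw [MulAction.index_stabilizer, ← Nat.card_coe_set_eq, hsize]
  have hnorm : ∀ a, (st a).Normal := fun a => by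
    have hmf : (Nat.card (P : Subgroup G)).minFac = p := by
      obtain ⟨n, hn⟩ := P.2.exists_card_eq
      have hn0 : n ≠ 0 := by
        rintro rfl
        exact hne (Subgroup.card_eq_one.1 (by simpa using hn))
      rw [hn, Nat.pow_minFac hn0, hp.minFac_eq]
    exact Subgroup.normal_of_index_eq_minFac_card (by rw [hidx, hmf])
  have hconst : ∀ a b, b ∈ MulAction.orbit (P : Subgroup G) a → st b = st a := by
    rintro a b ⟨x, rfl⟩
    ext y
    show y • x • a = x • a ↔ y ∈ st a
    rw [← inv_smul_eq_iff (g := x) (a := y • x • a), ← mul_smul, ← mul_smul]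
    show x⁻¹ * y * x ∈ st a ↔ y ∈ st a
    rw [mul_assoc, (hnorm a).mem_comm_iff, mul_inv_cancel_right]
  -- the number of distinct stabilizers is at most m
  let S : Finset (Subgroup (P : Subgroup G)) := Finset.univ.image st
  have hS : S.card * p ≤ m * p := by
    rw [← hΩ, ← Finset.card_univ, mul_comm]
    refine Finset.mul_card_image_le_card_of_maps_to (f := st)
      (fun a _ => Finset.mem_image_of_mem _ (Finset.mem_univ a)) p ?_
    intro H hH
    obtain ⟨a, -, rfl⟩ := Finset.mem_image.1 hH
    refine le_of_eq_of_le ((hsize a).symm.trans (Nat.card_eq_card_toFinset _)) ?_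
    refine Finset.card_le_card fun b hb => ?_
    rw [Finset.mem_filter]
    exact ⟨Finset.mem_univ b, hconst a b (Set.mem_toFinset.1 hb)⟩
  have hSm : S.card ≤ m := Nat.le_of_mul_le_mul_right hS hp.pos
  obtain ⟨x, hx⟩ : ∃ x : (P : Subgroup G), ∀ a, x ∉ st a := by
    by_contra hcon
    push Not at hcon
    let _ : Fintype (P : Subgroup G) := Fintype.ofFinite _
    set N := Nat.card (P : Subgroup G) with hN
    let T : Subgroup (P : Subgroup G) → Finset (P : Subgroup G) :=
      fun H => Finset.univ.filter (fun x => x ∈ H ∧ x ≠ 1)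
    have hsub : (Finset.univ.filter (fun x : (P : Subgroup G) => x ≠ 1)) ⊆ S.biUnion T := by
      intro x hx
      obtain ⟨a, ha⟩ := hcon x
      exact Finset.mem_biUnion.2 ⟨st a, Finset.mem_image_of_mem _ (Finset.mem_univ a),
        Finset.mem_filter.2 ⟨Finset.mem_univ _, ha, (Finset.mem_filter.1 hx).2⟩⟩
    have h1 := (Finset.card_le_card hsub).trans Finset.card_biUnion_le
    have h2 : ∀ H ∈ S, p * ((T H).card + 1) = N := by
      intro H hH
      obtain ⟨a, -, rfl⟩ := Finset.mem_image.1 hH
      rw [hN, ← Subgroup.index_mul_card (st a), hidx]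
      congr 1
      rw [Nat.card_eq_fintype_card, Fintype.card_subtype]
      have : Finset.univ.filter (fun x => x ∈ st a) = insert 1 (T (st a)) := by
        ext x
        by_cases h : x = 1 <;> simp [T, h, one_mem]
      rw [this, Finset.card_insert_of_notMem (by simp [T])]
    have h3 : (Finset.univ.filter (fun x : (P : Subgroup G) => x ≠ 1)).card = N - 1 := by
      rw [Finset.filter_ne', Finset.card_erase_of_mem (Finset.mem_univ _), hN,
        Nat.card_eq_fintype_card, Finset.card_univ]
    have h4 : p * ∑ H ∈ S, (T H).card + p * S.card = S.card * N := by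
      rw [Finset.mul_sum, mul_comm p S.card, ← smul_eq_mul S.card p,
        ← Finset.sum_const, ← Finset.sum_add_distrib]
      rw [Finset.sum_congr rfl (fun H hH => show p * (T H).card + p = N by
        rw [← h2 H hH, mul_add, mul_one]), Finset.sum_const, smul_eq_mul]
    rw [h3] at h1
    have hN1 : 1 ≤ N := Nat.card_pos
    have h5 : p * (N - 1) ≤ p * ∑ H ∈ S, (T H).card := Nat.mul_le_mul_left p h1
    have h6 : S.card * N ≤ p * N := Nat.mul_le_mul_right N (hSm.trans hmp)
    rw [Nat.mul_sub, mul_one] at h5
    have h7 : p ≤ p * N := Nat.le_mul_of_pos_right p hN1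
    have hS2 : p * S.card ≤ p * 1 := by omega
    have hS1 : S.card ≤ 1 := Nat.le_of_mul_le_mul_left hS2 hp.pos
    obtain ⟨n, hn⟩ := P.2.exists_card_eq
    have hn0 : n ≠ 0 := by
      rintro rfl
      exact hne (Subgroup.card_eq_one.1 (by simpa using hn))
    have hpN : p ≤ N := by rw [hN, hn]; exact Nat.le_self_pow hn0 p
    have h9 : 2 * N ≤ p * N := Nat.mul_le_mul_right N hp.two_le
    have h10 := hp.two_le
    interval_cases hc : S.card <;> simp only [mul_zero, zero_mul, mul_one, one_mul] at h4 <;> omega
  refine ⟨(x : G), ?_, fun a => hx a⟩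
  rw [Subgroup.orderOf_coe]
  have hxp : x ^ p = 1 := by
    refine Subtype.ext (eq_of_smul_eq_smul (α := Ω) fun a => ?_)
    have := hnorm a
    have h := Subgroup.pow_index_mem (st a) x
    rw [hidx] at h
    rw [Subgroup.coe_one, one_smul]
    exact h
  refine orderOf_eq_prime hxp ?_
  rintro rfl
  have hpos : 0 < Fintype.card Ω := by rw [hΩ]; exact Nat.mul_pos hm hp.pos
  obtain ⟨a⟩ := Fintype.card_pos_iff.1 hpos
  exact hx a (one_mem _)

end Cfsg.Agent.S5727
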