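import Cfsg.Statements.S5728
import Cfsg.Agent.EqLemmas

set_option autoImplicit false
open Cfsg

namespace Cfsg.Agent.S5728

/-- An elusive transitive action. Let p = 2^s − 1 be a prime and let F be the field with p² elements. Inside the group of affine maps x ↦ a·x + b of F (a ≠ 0), consider the subgroup of maps with both coefficients in the prime field. Then every element of prime order of the affine group is conjugate, within the affine group, to an element of that subgroup; equivalently, in the transitive action of the affine group on the cosets of that subgroup (of degree p(p + 1)) every element of prime order fixes a point. -/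
theorem result (p s : ℕ) [Fact p.Prime] (hs : p = 2 ^ s - 1)
    (g : Equiv.Perm (GaloisField p 2)) (hg : g ∈ Cfsg.affineGroup (GaloisField p 2)) (hord : (orderOf g).Prime) :
    ∃ x ∈ Cfsg.affineGroup (GaloisField p 2), ∃ a b : ZMod p, a ≠ 0 ∧
      ∀ y : GaloisField p 2, (x * g * x⁻¹) y = algebraMap (ZMod p) (GaloisField p 2) a * y + algebraMap (ZMod p) (GaloisField p 2) b := by
  classical
  have hp : p.Prime := Fact.out
  obtain ⟨a, b, hab⟩ := hg
  set r := orderOf g with hr
  have hmem : ∀ (c : GaloisField p 2), c ^ p = c → ∃ d : ZMod p, algebraMap (ZMod p) (GaloisField p 2) d = c := by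
    intro c hc
    have h := (Subfield.mem_bot_iff_pow_eq_self (GaloisField p 2) p).2 hc
    rw [← ZMod.fieldRange_castHom_eq_bot p] at h
    obtain ⟨d, hd⟩ := h
    exact ⟨d, by rw [← hd]; exact DFunLike.congr_fun (Subsingleton.elim _ _) d⟩
  by_cases ha : (a : GaloisField p 2) = 1
  · have hb : b ≠ 0 := by
      rintro rfl
      have : g = 1 := Equiv.ext fun y => by simp [hab, ha]
      rw [hr, this, orderOf_one] at hord
      exact Nat.not_prime_one hord
    let x : Equiv.Perm (GaloisField p 2) := Equiv.mulLeft₀ b⁻¹ (inv_ne_zero hb)
    have hx : ∀ y, x y = b⁻¹ * y := fun y => rfl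
    refine ⟨x, ⟨(Units.mk0 b hb)⁻¹, 0, fun y => by simp [hx]⟩, 1, 1, one_ne_zero, fun y => ?_⟩
    have hxi : x⁻¹ y = b * y := by
      apply x.injective
      rw [hx (b * y), ← mul_assoc, inv_mul_cancel₀ hb, one_mul]
      exact x.apply_symm_apply y
    rw [Equiv.Perm.mul_apply, Equiv.Perm.mul_apply, hxi, hab, ha, hx, map_one, one_mul, one_mul,
      mul_add, ← mul_assoc, inv_mul_cancel₀ hb, one_mul]
  · have h1a : 1 - (a : GaloisField p 2) ≠ 0 := sub_ne_zero.2 (Ne.symm ha)
    set c := b / (1 - (a : GaloisField p 2)) with hc
    let x : Equiv.Perm (GaloisField p 2) := Equiv.addRight (-c)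
    have hx : ∀ y, x y = y + -c := fun y => rfl
    have hgc : ∀ y, g y - c = a * (y - c) := by
      intro y
      rw [hab, hc]
      field_simp
      ring
    have hpow : ∀ (k : ℕ) y, (g ^ k) y - c = (a : GaloisField p 2) ^ k * (y - c) := by
      intro k
      induction k with
      | zero => intro y; simp
      | succ k ih =>
        intro y
        rw [pow_succ' g k, Equiv.Perm.mul_apply, hgc, ih, pow_succ', mul_assoc]
    have har : (a : GaloisField p 2) ^ r = 1 := by
      have h := hpow r (c + 1)
      rw [hr, pow_orderOf_eq_one, Equiv.Perm.one_apply] at h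
      simpa using h.symm
    have hFcard : Nat.card (GaloisField p 2) = p ^ 2 := GaloisField.card p 2 two_ne_zero
    have hap : (a : GaloisField p 2) ^ p = a := by
      have hu : r ∣ p ^ 2 - 1 := by
        have hau : a ^ r = 1 := Units.ext (by simpa using har)
        have ha1 : a ≠ 1 := fun h => ha (by simp [h])
        have ho : orderOf a = r := by
          have := Fact.mk hord
          exact orderOf_eq_prime hau ha1
        rw [← ho, ← hFcard, ← Nat.card_units]
        exact orderOf_dvd_natCard a
      have hp1 : 1 ≤ p := hp.one_lt.le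
      have hsp : p + 1 = 2 ^ s := by
        have := Nat.one_le_two_pow (n := s)
        omega
      have hfac : p ^ 2 - 1 = (p + 1) * (p - 1) := by
        rw [← Nat.sq_sub_sq, one_pow]
      rw [hfac, hord.dvd_mul, hsp] at hu
      rcases hu with hu | hu
      · have hr2 : r = 2 := (Nat.prime_dvd_prime_iff_eq hord Nat.prime_two).1 (hord.dvd_of_dvd_pow hu)
        rw [hr2] at har
        rcases sq_eq_one_iff.1 har with h | h
        · exact absurd h ha
        · rw [h]
          rcases hp.eq_two_or_odd' with h2 | h2
          · exfalso
            apply ha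
            have : CharP (GaloisField p 2) 2 := CharP.congr p h2
            rw [h, CharTwo.neg_eq]
          · exact h2.neg_one_pow
      · obtain ⟨k, hk⟩ := hu
        calc (a : GaloisField p 2) ^ p = a ^ (r * k + 1) := by rw [← hk]; congr 1; omega
          _ = a := by rw [pow_succ, pow_mul, har, one_pow, one_mul]
    obtain ⟨d, hd⟩ := hmem _ hap
    refine ⟨x, ⟨1, -c, fun y => by simp [hx]⟩, d, 0, ?_, fun y => ?_⟩
    · rintro rfl
      rw [map_zero] at hd
      exact a.ne_zero hd.symm
    have hxi : x⁻¹ y = y + c := by
      apply x.injective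
      rw [hx (y + c), add_neg_cancel_right]
      exact x.apply_symm_apply y
    rw [Equiv.Perm.mul_apply, Equiv.Perm.mul_apply, hxi, hx, hd, map_zero, add_zero,
      ← sub_eq_add_neg, hgc, add_sub_cancel_right]

end Cfsg.Agent.S5728
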