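import Cfsg.Statements.S5729
import Cfsg.Agent.EqLemmas

set_option autoImplicit false
open Cfsg

namespace Cfsg.Agent.S5729


open MulAction

theorem sum_fix {G Ω : Type*} [Group G] [Fintype G] [MulAction G Ω] [Finite Ω] :
    ∑ g : G, Nat.card (fixedBy Ω g) = Nat.card (orbitRel.Quotient G Ω) * Nat.card G := by
  classical
  have : Fintype Ω := Fintype.ofFinite Ω
  simp only [Nat.card_eq_fintype_card]
  convert sum_card_fixedBy_eq_card_orbits_mul_card_group G Ω

theorem card_fixedBy_prod {G Ω : Type*} [Group G] [MulAction G Ω] (g : G) :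
    Nat.card (fixedBy (Ω × Ω) g) = Nat.card (fixedBy Ω g) * Nat.card (fixedBy Ω g) := by
  rw [← Nat.card_prod]
  exact Nat.card_congr
    { toFun := fun x => (⟨x.1.1, congrArg Prod.fst x.2⟩, ⟨x.1.2, congrArg Prod.snd x.2⟩)
      invFun := fun x => ⟨(x.1.1, x.2.1), Prod.ext x.1.2 x.2.2⟩
      left_inv := fun x => rfl
      right_inv := fun x => rfl }

/-- Let a finite group G act faithfully and transitively on a set with n ≥ 3 points. Then either G is a Frobenius permutation group (Frobenius as a permutation group: transitive, some non-identity element fixes a point, and no non-identity element fixes two points) of order n(n − 1) and exactly |G|/n of its elements are derangements (fix no point), or the number of derangements is greater than |G|/n. -/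
theorem result {G Ω : Type*} [Group G] [Finite G] [MulAction G Ω] [FaithfulSMul G Ω] [Fintype Ω] (htr : MulAction.IsPretransitive G Ω) (hn : 3 ≤ Fintype.card Ω) :
    ((MulAction.IsPretransitive G Ω ∧ (∃ g : G, g ≠ 1 ∧ ∃ ω : Ω, g • ω = ω) ∧ ∀ g : G, g ≠ 1 → Nat.card (MulAction.fixedBy Ω g) ≤ 1) ∧ Nat.card G = Fintype.card Ω * (Fintype.card Ω - 1) ∧ Fintype.card Ω * Nat.card {g : G // ∀ ω : Ω, g • ω ≠ ω} = Nat.card G) ∨
    Nat.card G < Fintype.card Ω * Nat.card {g : G // ∀ ω : Ω, g • ω ≠ ω} := by
  classical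
  let _ : Fintype G := Fintype.ofFinite G
  have := htr
  set n := Fintype.card Ω with hn'
  obtain ⟨a, b, hab⟩ := Fintype.one_lt_card_iff.1 (show 1 < Fintype.card Ω by omega)
  have : Nonempty Ω := ⟨a⟩
  set f : G → ℤ := fun g => (Nat.card (MulAction.fixedBy Ω g) : ℤ) with hf
  have hr1 : Nat.card (MulAction.orbitRel.Quotient G Ω) = 1 := by
    rw [Nat.card_eq_one_iff_unique]
    refine ⟨⟨fun x y => ?_⟩, ⟨Quotient.mk'' a⟩⟩
    induction x using Quotient.inductionOn'
    induction y using Quotient.inductionOn'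
    exact Quotient.sound' (MulAction.mem_orbit_iff.2 (MulAction.exists_smul_eq G _ _))
  have hS1 : ∑ g, f g = Nat.card G := by
    have := sum_fix (G := G) (Ω := Ω)
    rw [hr1, one_mul] at this
    simp only [hf]; exact_mod_cast this
  set r := Nat.card (MulAction.orbitRel.Quotient G (Ω × Ω)) with hr
  have hr2 : 2 ≤ r := by
    rw [hr, Nat.succ_le_iff, Finite.one_lt_card_iff_nontrivial]
    refine ⟨⟨Quotient.mk'' (a, a), Quotient.mk'' (a, b), fun h => ?_⟩⟩
    obtain ⟨g, hg⟩ := MulAction.orbitRel_apply.1 (Quotient.exact' h)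
    have h1 : g • a = a := congrArg Prod.fst hg
    have h2 : g • b = a := congrArg Prod.snd hg
    exact hab (smul_left_cancel g (h1.trans h2.symm))
  have hS2 : ∑ g, f g * f g = r * Nat.card G := by
    have := sum_fix (G := G) (Ω := Ω × Ω)
    simp only [card_fixedBy_prod] at this
    simp only [hf]; exact_mod_cast this
  have hfn : ∀ g, 0 ≤ f g ∧ f g ≤ n := fun g => by
    refine ⟨Nat.cast_nonneg _, ?_⟩
    have h : Nat.card (MulAction.fixedBy Ω g) ≤ Nat.card Ω := Finite.card_subtype_le _
    rw [Nat.card_eq_fintype_card (α := Ω)] at h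
    exact Int.ofNat_le.2 h
  set t : G → ℤ := fun g => (if f g = 0 then (n : ℤ) else 0) - (f g - 1) * (f g - n) with ht
  have htn : ∀ g, 0 ≤ t g := fun g => by
    simp only [ht]
    split_ifs with h
    · rw [h]; simp
    · have h1 := hfn g
      nlinarith [h1.1, h1.2, lt_of_le_of_ne h1.1 (Ne.symm h)]
  set D := Nat.card {g : G // ∀ ω : Ω, g • ω ≠ ω} with hD
  have hD' : ∑ g, (if f g = 0 then (n : ℤ) else 0) = n * D := by
    rw [← Finset.sum_filter, Finset.sum_const, nsmul_eq_mul, mul_comm, hD,
      Nat.card_eq_fintype_card, Fintype.card_subtype]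
    congr 3
    ext g
    simp only [Finset.mem_filter, Finset.mem_univ, true_and, hf, Nat.cast_eq_zero,
      Nat.card_eq_zero, isEmpty_subtype, MulAction.mem_fixedBy, or_iff_left (not_infinite_iff_finite.2 inferInstance)]
  have hsum : ∑ g, t g = n * D - ((r : ℤ) - 1) * Nat.card G := by
    simp only [ht, Finset.sum_sub_distrib, hD', sub_mul, mul_sub, Finset.sum_sub_distrib,
      ← Finset.sum_mul, ← Finset.mul_sum, hS1, hS2, one_mul, mul_one, Finset.sum_const,
      Finset.card_univ, nsmul_eq_mul, ← Nat.card_eq_fintype_card (α := G)]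
    ring
  have hGpos : (0 : ℤ) < Nat.card G := by exact_mod_cast Nat.card_pos
  by_cases hlt : Nat.card G < n * D
  · exact Or.inr hlt
  left
  have hsum0 : 0 ≤ ∑ g, t g := Finset.sum_nonneg fun g _ => htn g
  have hle : (n : ℤ) * D ≤ Nat.card G := by exact_mod_cast not_lt.1 hlt
  have hr2' : (2 : ℤ) ≤ r := by exact_mod_cast hr2
  have hreq : (r : ℤ) = 2 := by nlinarith
  rw [hreq] at hsum hS2
  have heq : (n : ℤ) * D = Nat.card G := by linarith
  have hzero : ∀ g, t g = 0 := fun g =>
    (Finset.sum_eq_zero_iff_of_nonneg fun g _ => htn g).1 (by linarith) g (Finset.mem_univ g)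
  have hone : ∀ g : G, g ≠ 1 → f g = 0 ∨ f g = 1 := by
    intro g hg
    have h := hzero g
    simp only [ht] at h
    split_ifs at h with h0
    · exact Or.inl h0
    · rcases mul_eq_zero.1 (show (f g - 1) * (f g - n) = 0 by linarith) with h1 | h1
      · right; linarith
      · exfalso
        apply hg
        refine eq_of_smul_eq_smul (α := Ω) fun x => ?_
        have hc : (MulAction.fixedBy Ω g) = Set.univ := by
          apply Set.eq_of_subset_of_ncard_le (Set.subset_univ _) _ (Set.toFinite _)
          rw [Set.ncard_univ, ← Nat.card_coe_set_eq, Nat.card_eq_fintype_card (α := Ω)]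
          simp only [hf] at h1
          omega
        rw [one_smul]
        exact (hc ▸ Set.mem_univ x : x ∈ MulAction.fixedBy Ω g)
  have hf1 : f 1 = n := by
    simp [hf, hn']
  have hG : (Nat.card G : ℤ) = (n : ℤ) * (n - 1) := by
    have h3 : ∑ g, (f g * f g - f g) = (n : ℤ) * n - n := by
      rw [Finset.sum_eq_single (1 : G)]
      · rw [hf1]
      · intro g _ hg
        rcases hone g hg with h | h <;> rw [h] <;> ring
      · simp
    rw [Finset.sum_sub_distrib, hS1, hS2] at h3
    linarith
  refine ⟨⟨htr, ?_, fun g hg => ?_⟩, ?_, by exact_mod_cast heq⟩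
  · by_contra hcon
    push Not at hcon
    have h3 : ∑ g, f g = n := by
      rw [Finset.sum_eq_single (1 : G)]
      · exact hf1
      · intro g _ hg
        simp only [hf, Nat.cast_eq_zero, Nat.card_eq_zero]
        left
        exact ⟨fun x => hcon g hg x x.2⟩
      · simp
    rw [hS1, hG] at h3
    have : (3 : ℤ) ≤ n := by exact_mod_cast hn
    nlinarith
  · rcases hone g hg with h | h <;> simp only [hf] at h <;> omega
  · have h1 : ((n - 1 : ℕ) : ℤ) = (n : ℤ) - 1 := by omega
    have : (Nat.card G : ℤ) = ((n * (n - 1) : ℕ) : ℤ) := by rw [Nat.cast_mul, h1]; exact hG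
    exact_mod_cast this

end Cfsg.Agent.S5729
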