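import Cfsg.Statements.S5730
import Cfsg.Agent.S5729
import Cfsg.Agent.Lib.Perm.PairFix

set_option autoImplicit false
open Cfsg

namespace Cfsg.Agent.S5730

open MulAction Perm.PairFix

theorem double_count {G Ω : Type*} [Group G] [Fintype G] [MulAction G Ω] [Fintype Ω]
    (h2 : MulAction.IsMultiplyPretransitive G Ω 2) (c : ℚ) (F : G → ℚ)
    (hc : ∀ p q : Ω, p ≠ q → c ≤ ∑ g ∈ nontriv G p q, F g) (h1 : F 1 = 0) :
    (Fintype.card Ω : ℚ) * ((Fintype.card Ω : ℚ) - 1) * c ≤
      ∑ g : G, ((fixSet g : Finset Ω).card : ℚ) * (((fixSet g : Finset Ω).card : ℚ) - 1) * F g := by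
  classical
  have e1 : ∀ s : Finset Ω, ((s.offDiag.card : ℕ) : ℚ) = (s.card : ℚ) * ((s.card : ℚ) - 1) := by
    intro s
    rw [Finset.offDiag_card, Nat.cast_sub (Nat.le_mul_self _), Nat.cast_mul]
    ring
  have e2 : ∀ g : G, ((fixSet g : Finset Ω).card : ℚ) * (((fixSet g : Finset Ω).card : ℚ) - 1) * F g =
      ∑ x ∈ (Finset.univ : Finset Ω).offDiag, if g ∈ pst G x.1 x.2 then F g else 0 := by
    intro g
    rw [← e1, ← Finset.sum_filter, Finset.sum_const, nsmul_eq_mul]
    congr 3
    ext x
    simp [mem_fixSet, and_comm, and_left_comm]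
  rw [Finset.sum_congr rfl fun g _ => e2 g, Finset.sum_comm, ← Finset.card_univ (α := Ω), ← e1,
    ← nsmul_eq_mul, ← Finset.sum_const]
  refine Finset.sum_le_sum fun x hx => ?_
  rw [← Finset.sum_filter]
  refine le_trans (hc x.1 x.2 (Finset.mem_offDiag.1 hx).2.2) (le_of_eq ?_)
  refine Finset.sum_subset (fun g hg => ?_) fun g hg hg' => ?_
  · exact Finset.mem_filter.2 ⟨Finset.mem_univ g, (Finset.mem_filter.1 hg).2.1⟩
  · have : g = 1 := by
      by_contra h
      exact hg' (Finset.mem_filter.2 ⟨Finset.mem_univ g, (Finset.mem_filter.1 hg).2, h⟩)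
    rw [this, h1]

/-- Let a finite group G act faithfully and transitively on a set with n ≥ 7 points. Then either G is a Frobenius permutation group (Frobenius as a permutation group: transitive, some non-identity element fixes a point, and no non-identity element fixes two points) of order n(n − 1)/a with a ∈ {1, 2}, in which case exactly a|G|/n of its elements are derangements, or the number of derangements is at least 2|G|/n. (Equality does occur: PSL₃(2) acting on the 7 points of the Fano plane has exactly 2|G|/7 derangements.) -/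
theorem result {G Ω : Type*} [Group G] [Finite G] [MulAction G Ω] [FaithfulSMul G Ω] [Fintype Ω] (htr : MulAction.IsPretransitive G Ω) (hn : 7 ≤ Fintype.card Ω) :
    (∃ a : ℕ, (a = 1 ∨ a = 2) ∧ (MulAction.IsPretransitive G Ω ∧ (∃ g : G, g ≠ 1 ∧ ∃ ω : Ω, g • ω = ω) ∧ ∀ g : G, g ≠ 1 → Nat.card (MulAction.fixedBy Ω g) ≤ 1) ∧ a * Nat.card G = Fintype.card Ω * (Fintype.card Ω - 1) ∧ Fintype.card Ω * Nat.card {g : G // ∀ ω : Ω, g • ω ≠ ω} = a * Nat.card G) ∨
    2 * Nat.card G ≤ Fintype.card Ω * Nat.card {g : G // ∀ ω : Ω, g • ω ≠ ω} := by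
  classical
  let _ : Fintype G := Fintype.ofFinite G
  haveI := htr
  set n := Fintype.card Ω with hn'
  obtain ⟨a, b, hab⟩ := Fintype.one_lt_card_iff.1 (show 1 < Fintype.card Ω by omega)
  haveI : Nonempty Ω := ⟨a⟩
  set f : G → ℚ := fun g => ((fixSet g : Finset Ω).card : ℚ) with hf
  have hfN : ∀ g : G, Nat.card (MulAction.fixedBy Ω g) = (fixSet g : Finset Ω).card := fun g => by
    rw [Nat.card_coe_set_eq, Set.ncard_eq_toFinset_card']
    congr 1
    ext x
    simp [mem_fixSet]
  have hr1 : Nat.card (MulAction.orbitRel.Quotient G Ω) = 1 := by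
    rw [Nat.card_eq_one_iff_unique]
    refine ⟨⟨fun x y => ?_⟩, ⟨Quotient.mk'' a⟩⟩
    induction x using Quotient.inductionOn'
    induction y using Quotient.inductionOn'
    exact Quotient.sound' (MulAction.mem_orbit_iff.2 (MulAction.exists_smul_eq G _ _))
  have hS1 : ∑ g, f g = Nat.card G := by
    have := S5729.sum_fix (G := G) (Ω := Ω)
    rw [hr1, one_mul] at this
    simp only [hfN] at this
    simp only [hf]
    exact_mod_cast this
  set r := Nat.card (MulAction.orbitRel.Quotient G (Ω × Ω)) with hr
  have hS2 : ∑ g, f g * f g = r * Nat.card G := by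
    have := S5729.sum_fix (G := G) (Ω := Ω × Ω)
    simp only [S5729.card_fixedBy_prod, hfN] at this
    simp only [hf]
    exact_mod_cast this
  set D := Nat.card {g : G // ∀ ω : Ω, g • ω ≠ ω} with hD
  have hD' : ∑ g, (if f g = 0 then (n : ℚ) else 0) = n * D := by
    rw [← Finset.sum_filter, Finset.sum_const, nsmul_eq_mul, mul_comm, hD,
      Nat.card_eq_fintype_card, Fintype.card_subtype]
    congr 3
    ext g
    simp [hf, Finset.eq_empty_iff_forall_notMem, mem_fixSet]
  set E : G → ℚ := fun g => f g * (f g - 1) * ((n : ℚ) / f g - 1) with hE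
  have hEval : ∀ g, (f g - 1) * (f g - n) = (if f g = 0 then (n : ℚ) else 0) - E g := by
    intro g
    simp only [hE]
    split_ifs with h
    · rw [h]; ring
    · rw [zero_sub, mul_sub_one (f g * (f g - 1))]
      field_simp
      ring
  have hkey : (n : ℚ) * D = ((r : ℚ) - 1) * Nat.card G + ∑ g, E g := by
    have h1 := Finset.sum_congr (s₂ := (Finset.univ : Finset G)) rfl fun g _ => hEval g
    rw [Finset.sum_sub_distrib, hD'] at h1
    have h3 : ∑ g, (f g - 1) * (f g - n) = ((r : ℚ) - 1) * Nat.card G := by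
      simp only [sub_mul, mul_sub, one_mul, Finset.sum_sub_distrib, ← Finset.sum_mul, hS1, hS2,
        Finset.sum_const, Finset.card_univ, nsmul_eq_mul, ← Nat.card_eq_fintype_card (α := G)]
      ring
    linarith
  have hE0 : ∀ g, 0 ≤ E g := by
    intro g
    simp only [hE, hf]
    rcases Nat.eq_zero_or_pos (fixSet g : Finset Ω).card with h | h
    · rw [h]; simp
    · have h1 : (1 : ℚ) ≤ ((fixSet g : Finset Ω).card : ℚ) := by exact_mod_cast h
      have h3 : (((fixSet g : Finset Ω).card : ℕ) : ℚ) ≤ n := by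
        exact_mod_cast Finset.card_le_univ _
      refine mul_nonneg (mul_nonneg (by linarith) (by linarith)) ?_
      rw [sub_nonneg, one_le_div (by linarith)]
      exact h3
  have hEpos : 0 ≤ ∑ g, E g := Finset.sum_nonneg fun g _ => hE0 g
  have hr2 : 2 ≤ r := by
    rw [hr, Nat.succ_le_iff, Finite.one_lt_card_iff_nontrivial]
    refine ⟨⟨Quotient.mk'' (a, a), Quotient.mk'' (a, b), fun h => ?_⟩⟩
    obtain ⟨g, hg⟩ := MulAction.orbitRel_apply.1 (Quotient.exact' h)
    have h1 : g • a = a := congrArg Prod.fst hg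
    have h2 : g • b = a := congrArg Prod.snd hg
    exact hab (smul_left_cancel g (h1.trans h2.symm))
  have hGq : (0 : ℚ) ≤ (Nat.card G : ℚ) := Nat.cast_nonneg _
  rcases Nat.lt_or_ge r 3 with hr3 | hr3
  swap
  · right
    have : (3 : ℚ) ≤ r := by exact_mod_cast hr3
    have h3 : (2 : ℚ) * Nat.card G ≤ n * D := by nlinarith
    exact_mod_cast h3
  have hreq : r = 2 := by omega
  have h2 : MulAction.IsMultiplyPretransitive G Ω 2 := by
    have : Finite (MulAction.orbitRel.Quotient G (Ω × Ω)) := inferInstance
    have hne : ∀ {p q : Ω}, p ≠ q →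
        (Quotient.mk'' (p, q) : MulAction.orbitRel.Quotient G (Ω × Ω)) ≠ Quotient.mk'' (a, a) := by
      intro p q hpq h
      obtain ⟨g, hg⟩ := MulAction.orbitRel_apply.1 (Quotient.exact' h)
      exact hpq ((congrArg Prod.fst hg).symm.trans (congrArg Prod.snd hg))
    rw [is_two_pretransitive_iff]
    intro p q p' q' hpq hpq'
    have heq : (Quotient.mk'' (p', q') : MulAction.orbitRel.Quotient G (Ω × Ω)) =
        Quotient.mk'' (p, q) := by
      by_contra hne'
      have hcard := Finset.card_le_univ ({Quotient.mk'' (a, a), Quotient.mk'' (p, q),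
        Quotient.mk'' (p', q')} : Finset (MulAction.orbitRel.Quotient G (Ω × Ω)))
      rw [Finset.card_insert_of_notMem (by simp [Ne.symm (hne hpq), Ne.symm (hne hpq')]),
        Finset.card_pair (Ne.symm hne'), ← Nat.card_eq_fintype_card, ← hr, hreq] at hcard
      omega
    obtain ⟨g, hg⟩ := MulAction.orbitRel_apply.1 (Quotient.exact' heq)
    exact ⟨g, congrArg Prod.fst hg, congrArg Prod.snd hg⟩
  have hcardG := card_eq h2 hab
  set h := Nat.card (pst G a b) with hh
  rw [hreq] at hkey
  rcases Nat.lt_or_ge h 2 with hh1 | hh2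
  · have h1 : h = 1 := by
      have : 0 < h := Nat.card_pos
      omega
    rw [h1, mul_one] at hcardG
    have hone : ∀ g : G, g ≠ 1 → (fixSet g : Finset Ω).card ≤ 1 := by
      intro g hg
      by_contra hcon
      obtain ⟨p, hp, q, hq, hpq⟩ := Finset.one_lt_card.1 (not_le.1 hcon)
      have : Subsingleton (pst G p q) := by
        refine (Nat.card_eq_one_iff_unique.1 ?_).1
        rw [card_pst h2 hpq hab, ← hh, h1]
      exact hg (congrArg Subtype.val
        (Subsingleton.elim (⟨g, mem_fixSet.1 hp, mem_fixSet.1 hq⟩ : pst G p q) 1))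
    left
    refine ⟨1, Or.inl rfl, ⟨htr, ?_, fun g hg => by rw [hfN]; exact hone g hg⟩, ?_, ?_⟩
    · have hS : Nat.card (stabilizer G a) = n - 1 := by
        have h3 := (stabilizer G a).index_mul_card
        rw [index_stabilizer_of_transitive, Nat.card_eq_fintype_card (α := Ω), hcardG, ← hn'] at h3
        exact Nat.eq_of_mul_eq_mul_left (by omega) h3
      haveI := Finite.one_lt_card_iff_nontrivial.mp (show 1 < Nat.card (stabilizer G a) by omega)
      obtain ⟨g, hg⟩ := exists_ne (1 : stabilizer G a)
      exact ⟨g, fun e => hg (Subtype.ext e), a, g.2⟩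
    · rw [one_mul, hcardG]
    · have hzero : ∑ g, E g = 0 := by
        refine Finset.sum_eq_zero fun g _ => ?_
        simp only [hE, hf]
        by_cases hg : g = 1
        · subst hg
          have : (fixSet (1 : G) : Finset Ω).card = n := by
            rw [hn', ← Finset.card_univ]
            congr 1
            ext x
            simp [mem_fixSet]
          rw [this, div_self (by exact_mod_cast (by omega : n ≠ 0)), sub_self, mul_zero]
        · rcases Nat.le_one_iff_eq_zero_or_eq_one.1 (hone g hg) with e | e <;> simp [e]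
      rw [one_mul]
      have h3 : (n : ℚ) * D = Nat.card G := by rw [hkey, hzero]; push_cast; ring
      exact_mod_cast h3
  · right
    have hlow : (n : ℚ) * ((n : ℚ) - 1) * h ≤ ∑ g, E g := by
      refine double_count h2 _ _ (fun p q hpq => ?_) ?_
      · have hpq' := card_pst h2 hpq hab
        have hb := pair_bound h2 hn hpq (by rw [hpq']; exact hh2)
        rw [hpq', ← hh] at hb
        rw [Finset.sum_sub_distrib, Finset.sum_const, nsmul_eq_mul, mul_one]
        have hc := card_nontriv (G := G) p q
        rw [hpq', ← hh] at hc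
        have hcq : ((nontriv G p q).card : ℚ) + 1 = h := by exact_mod_cast hc
        simp only [hf]
        linarith
      · simp only [hf]
        have : (fixSet (1 : G) : Finset Ω).card = n := by
          rw [hn', ← Finset.card_univ]
          congr 1
          ext x
          simp [mem_fixSet]
        rw [this, div_self (by exact_mod_cast (by omega : n ≠ 0)), sub_self]
    have hGq' : (Nat.card G : ℚ) = (n : ℚ) * ((n : ℚ) - 1) * h := by
      rw [hcardG, Nat.cast_mul, Nat.cast_mul, Nat.cast_sub (by omega : 1 ≤ Fintype.card Ω), Nat.cast_one]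
    have h3 : (2 : ℚ) * Nat.card G ≤ n * D := by
      rw [hkey]
      push_cast
      linarith
    exact_mod_cast h3

end Cfsg.Agent.S5730
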