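import Cfsg.Statements.S5738
import Cfsg.Agent.EqLemmas

set_option autoImplicit false
open Cfsg

namespace Cfsg.Agent.S5738


variable {F K : Type*} [Field F] [Field K] [Algebra F K]

/-- The homomorphism of the multiplicative group into GL_F(K). -/
abbrev mulHom (F K : Type*) [Field F] [Field K] [Algebra F K] : Kˣ →* (Module.End F K)ˣ :=
  Units.map ((Algebra.lmul F K : K →ₐ[F] Module.End F K) : K →* Module.End F K)

theorem mulHom_apply (x : Kˣ) (y : K) :
    ((mulHom F K x : (Module.End F K)ˣ) : Module.End F K) y = x * y := rfl


theorem val_apply_inv (g : (Module.End F K)ˣ) (y : K) :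
    (g : Module.End F K) (((g⁻¹ : (Module.End F K)ˣ) : Module.End F K) y) = y := by
  rw [← Module.End.mul_apply, ← Units.val_mul, mul_inv_cancel, Units.val_one, Module.End.one_apply]

theorem inv_apply_val (g : (Module.End F K)ˣ) (y : K) :
    ((g⁻¹ : (Module.End F K)ˣ) : Module.End F K) ((g : Module.End F K) y) = y := by
  rw [← Module.End.mul_apply, ← Units.val_mul, inv_mul_cancel, Units.val_one, Module.End.one_apply]

/-- The semilinear map y ↦ a σ(y). -/
noncomputable def semi (t : Kˣ × (K ≃ₐ[F] K)) : (Module.End F K)ˣ where
  val := (Algebra.lmul F K (t.1 : K)) * (t.2.toLinearMap)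
  inv := (t.2.symm.toLinearMap) * (Algebra.lmul F K ((t.1⁻¹ : Kˣ) : K))
  val_inv := LinearMap.ext fun y => by simp [Module.End.mul_apply]
  inv_val := LinearMap.ext fun y => by simp [Module.End.mul_apply]

theorem semi_apply (t : Kˣ × (K ≃ₐ[F] K)) (y : K) :
    ((semi t : (Module.End F K)ˣ) : Module.End F K) y = t.1 * t.2 y := rfl

/-- Let F ⊆ K be finite fields with |F| = q and [K : F] = n ≥ 2, so |K| = q^n. Regard K as an n-dimensional F-vector space; the multiplications by non-zero elements of K form a cyclic subgroup of GL_F(K) of order q^n − 1 acting regularly on the non-zero vectors (a Singer group). Its normaliser in GL_F(K) has order n·(q^n − 1). -/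
theorem result {F K : Type*} [Field F] [Fintype F] [Field K] [Fintype K] [Algebra F K] (n : ℕ) (hn : 2 ≤ n) (hdim : Module.finrank F K = n) :
    Nat.card (Subgroup.normalizer (((Units.map ((Algebra.lmul F K : K →ₐ[F] Module.End F K) : K →* Module.End F K)).range : Subgroup (Module.End F K)ˣ) : Set (Module.End F K)ˣ)) = n * (Fintype.card K - 1) := by
  classical
  set M := (mulHom F K).range with hM
  show Nat.card (Subgroup.normalizer (M : Set (Module.End F K)ˣ)) = _
  have hmem : ∀ t : Kˣ × (K ≃ₐ[F] K), semi t ∈ Subgroup.normalizer (M : Set (Module.End F K)ˣ) := by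
    intro t
    rw [Subgroup.mem_normalizer_iff]
    intro h
    constructor
    · rintro ⟨x, rfl⟩
      refine ⟨Units.map (t.2 : K →* K) x, eq_mul_inv_of_mul_eq (Units.ext (LinearMap.ext fun y => ?_))⟩
      rw [Units.val_mul, Units.val_mul, Module.End.mul_apply, Module.End.mul_apply, semi_apply,
        semi_apply, mulHom_apply, mulHom_apply, map_mul, Units.coe_map]
      simp [mul_left_comm]
    · rintro ⟨x, hx⟩
      refine ⟨Units.map (t.2.symm : K →* K) x, ?_⟩
      rw [eq_mul_inv_iff_mul_eq] at hx
      refine mul_left_cancel (a := semi t) ?_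
      rw [← hx]
      refine Units.ext (LinearMap.ext fun y => ?_)
      rw [Units.val_mul, Units.val_mul, Module.End.mul_apply, Module.End.mul_apply, semi_apply,
        semi_apply, mulHom_apply, mulHom_apply, map_mul, Units.coe_map]
      simp [mul_left_comm]
  have hbij : Function.Bijective (fun t : Kˣ × (K ≃ₐ[F] K) =>
      (⟨semi t, hmem t⟩ : Subgroup.normalizer (M : Set (Module.End F K)ˣ))) := by
    constructor
    · intro t u h
      have h' : ∀ y, (t.1 : K) * t.2 y = u.1 * u.2 y := fun y => by
        rw [← semi_apply, ← semi_apply]
        exact DFunLike.congr_fun (congrArg Units.val (congrArg Subtype.val h :)) y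
      have h1 : t.1 = u.1 := Units.ext (by simpa using h' 1)
      refine Prod.ext h1 (AlgEquiv.ext fun y => ?_)
      have := h' y
      rw [h1] at this
      exact mul_left_cancel₀ u.1.ne_zero this
    · rintro ⟨g, hg⟩
      rw [Subgroup.mem_normalizer_iff] at hg
      have hne : (g : Module.End F K) 1 ≠ 0 := fun h => by
        have := inv_apply_val g 1
        rw [h, map_zero] at this
        exact zero_ne_one this
      set a := (g : Module.End F K) 1 with ha
      have hkey : ∀ x y : K, (g : Module.End F K) (x * y) * a = (g : Module.End F K) x * (g : Module.End F K) y := by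
        intro x y
        by_cases hx : x = 0
        · simp [hx]
        obtain ⟨c, hc⟩ := (hg (mulHom F K (Units.mk0 x hx))).1 ⟨Units.mk0 x hx, rfl⟩
        have e : ∀ z, (c : K) * (g : Module.End F K) z = (g : Module.End F K) (x * z) := fun z => by
          rw [eq_mul_inv_iff_mul_eq] at hc
          exact DFunLike.congr_fun (congrArg Units.val hc) z
        have e1 := e 1
        rw [mul_one, ← ha] at e1
        rw [← e y, ← e1]; ring
      let f : K →ₐ[F] K :=
        { toFun := fun x => a⁻¹ * (g : Module.End F K) x
          map_one' := inv_mul_cancel₀ hne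
          map_mul' := fun x y => by
            have := hkey x y
            field_simp
            linear_combination this
          map_zero' := by simp
          map_add' := fun x y => by rw [map_add, mul_add]
          commutes' := fun r => by
            show a⁻¹ * (g : Module.End F K) (algebraMap F K r) = algebraMap F K r
            rw [Algebra.algebraMap_eq_smul_one, map_smul, ← ha, Algebra.mul_smul_comm,
              inv_mul_cancel₀ hne] }
      have hf : Function.Bijective f :=
        Finite.injective_iff_bijective.1 (f : K →+* K).injective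
      refine ⟨⟨Units.mk0 a hne, AlgEquiv.ofBijective f hf⟩, Subtype.ext (Units.ext (LinearMap.ext fun y => ?_))⟩
      show a * (a⁻¹ * (g : Module.End F K) y) = _
      rw [mul_inv_cancel_left₀ hne]
  rw [← Nat.card_eq_of_bijective _ hbij, Nat.card_prod, Nat.card_units, IsGalois.card_aut_eq_finrank,
    hdim, Nat.card_eq_fintype_card, mul_comm]

end Cfsg.Agent.S5738
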