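import Cfsg.Statements.S5739
import Cfsg.Agent.EqLemmas

set_option autoImplicit false
open Cfsg

namespace Cfsg.Agent.S5739


variable {F K : Type*} [Field F] [Field K] [Algebra F K]

/-- The homomorphism of the multiplicative group into GL_F(K). -/
abbrev mulHom (F K : Type*) [Field F] [Field K] [Algebra F K] : Kˣ →* (Module.End F K)ˣ :=
  Units.map ((Algebra.lmul F K : K →ₐ[F] Module.End F K) : K →* Module.End F K)

theorem mulHom_apply (x : Kˣ) (y : K) :
    ((mulHom F K x : (Module.End F K)ˣ) : Module.End F K) y = x * y := rfl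

/-- Let F ⊆ K be finite fields with |F| = q and [K : F] = n ≥ 2, and let M ≤ GL_F(K) be the Singer group of multiplications by non-zero elements of K. If g ∈ GL_F(K) does not normalise M, then the order of M ∩ gMg⁻¹ divides q^r − 1 for some proper divisor r of n. In particular, when n is prime, that order divides q − 1. -/
theorem result {F K : Type*} [Field F] [Fintype F] [Field K] [Fintype K] [Algebra F K] (n : ℕ) (hn : 2 ≤ n) (hdim : Module.finrank F K = n)
    (g : (Module.End F K)ˣ) (hg : ((Units.map ((Algebra.lmul F K : K →ₐ[F] Module.End F K) : K →* Module.End F K)).range).map (MulAut.conj g).toMonoidHom ≠ (Units.map ((Algebra.lmul F K : K →ₐ[F] Module.End F K) : K →* Module.End F K)).range) :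
    ∃ r : ℕ, 1 ≤ r ∧ r ∣ n ∧ r < n ∧ Nat.card ↥(((Units.map ((Algebra.lmul F K : K →ₐ[F] Module.End F K) : K →* Module.End F K)).range).map (MulAut.conj g).toMonoidHom ⊓ (Units.map ((Algebra.lmul F K : K →ₐ[F] Module.End F K) : K →* Module.End F K)).range) ∣ Fintype.card F ^ r - 1 := by
  classical
  set M := (mulHom F K).range with hM
  show ∃ r : ℕ, 1 ≤ r ∧ r ∣ n ∧ r < n ∧ Nat.card ↥(M.map (MulAut.conj g).toMonoidHom ⊓ M) ∣ _
  have hg' : M.map (MulAut.conj g).toMonoidHom ≠ M := hg
  -- the elements of K whose multiplication is conjugate into the multiplications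
  let L : Module.End F K →ₐ[F] Module.End F K :=
    { toFun := fun f => (g : Module.End F K) * f * ((g⁻¹ : (Module.End F K)ˣ) : Module.End F K)
      map_one' := by rw [mul_one, ← Units.val_mul, mul_inv_cancel, Units.val_one]
      map_mul' := fun f h => by
        simp only [mul_assoc]
        rw [← mul_assoc ((g⁻¹ : (Module.End F K)ˣ) : Module.End F K) (g : Module.End F K),
          ← Units.val_mul, inv_mul_cancel, Units.val_one, one_mul]
      map_zero' := by simp
      map_add' := fun f h => by simp [mul_add, add_mul]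
      commutes' := fun r => by
        rw [← Algebra.commutes r, mul_assoc, ← Units.val_mul, mul_inv_cancel, Units.val_one, mul_one] }
  let S : Subalgebra F K := ((L.comp (Algebra.lmul F K)).range).comap (Algebra.lmul F K)
  let E : IntermediateField F K :=
    Subalgebra.toIntermediateField' S (Subalgebra.isField_of_algebraic S)
  have hE : ∀ x : K, x ∈ E ↔ ∃ z : K, L (Algebra.lmul F K z) = Algebra.lmul F K x := fun x => Iff.rfl
  have hmem : ∀ x : Kˣ, mulHom F K x ∈ M.map (MulAut.conj g).toMonoidHom ↔ (x : K) ∈ E := by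
    intro x
    rw [hE, Subgroup.mem_map]
    constructor
    · rintro ⟨_, ⟨z, rfl⟩, hz⟩
      exact ⟨z, congrArg Units.val hz⟩
    · rintro ⟨z, hz⟩
      have hz0 : z ≠ 0 := by
        rintro rfl
        rw [map_zero, map_zero] at hz
        exact x.ne_zero (Algebra.lmul_injective (R := F) (A := K) (by rw [map_zero]; exact hz.symm))
      exact ⟨_, ⟨Units.mk0 z hz0, rfl⟩, Units.ext hz⟩
  set r := Module.finrank F E with hr
  have hcard : Nat.card ↥(M.map (MulAut.conj g).toMonoidHom ⊓ M) = Fintype.card F ^ r - 1 := by
    have hi : Function.Injective (mulHom F K) := fun x y h =>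
      Units.ext (Algebra.lmul_injective (R := F) (A := K) (congrArg Units.val h))
    let φ : Eˣ → ↥(M.map (MulAut.conj g).toMonoidHom ⊓ M) := fun u =>
      ⟨mulHom F K (Units.map (E.val : E →* K) u), (hmem _).2 (u : E).2, ⟨_, rfl⟩⟩
    have hφ : Function.Bijective φ := by
      constructor
      · intro u v h
        exact Units.map_injective (f := (E.val : E →* K)) Subtype.val_injective (hi (congrArg Subtype.val h))
      · rintro ⟨_, hy, x, rfl⟩
        refine ⟨Units.mk0 ⟨x, (hmem x).1 hy⟩ (fun h => x.ne_zero (congrArg Subtype.val h)), Subtype.ext ?_⟩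
        exact congrArg (mulHom F K) (Units.ext rfl)
    have hc : Nat.card E = Nat.card F ^ r := Module.natCard_eq_pow_finrank
    rw [← Nat.card_eq_of_bijective φ hφ, Nat.card_units, hc, Nat.card_eq_fintype_card]
  have hpos : 1 ≤ r := Module.finrank_pos
  have hdvd : r ∣ n := ⟨Module.finrank E K, by rw [← hdim, ← Module.finrank_mul_finrank F E K]⟩
  refine ⟨r, hpos, hdvd, lt_of_le_of_ne (Nat.le_of_dvd (by omega) hdvd) (fun hrn => ?_), dvd_of_eq hcard⟩
  apply hg'
  have hcardE : Nat.card ↥(M.map (MulAut.conj g).toMonoidHom ⊓ M) = Nat.card M := by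
    rw [hcard, hrn, ← hdim, ← Nat.card_eq_fintype_card (α := F),
      ← Module.natCard_eq_pow_finrank (K := F) (V := K), ← Nat.card_units]
    exact Nat.card_congr (MonoidHom.ofInjective (f := mulHom F K) fun x y h =>
      Units.ext (Algebra.lmul_injective (R := F) (A := K) (congrArg Units.val h))).toEquiv
  have hMg : Nat.card ↥(M.map (MulAut.conj g).toMonoidHom) = Nat.card M :=
    Nat.card_congr (M.equivMapOfInjective _ (MulAut.conj g).injective).symm.toEquiv
  have : Finite (Module.End F K) := Module.finite_of_finite F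
  have e1 : M.map (MulAut.conj g).toMonoidHom ⊓ M = M.map (MulAut.conj g).toMonoidHom :=
    Subgroup.eq_of_le_of_card_ge inf_le_left (le_of_eq (hMg.trans hcardE.symm))
  have e2 : M.map (MulAut.conj g).toMonoidHom ⊓ M = M :=
    Subgroup.eq_of_le_of_card_ge inf_le_right (le_of_eq hcardE.symm)
  exact e1.symm.trans e2

end Cfsg.Agent.S5739
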