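import Cfsg.Statements.S5743
-- import your own Cfsg.Agent.* helpers here
import Cfsg.Agent.Lib.TwistE6Sub.Subfield
import Cfsg.Agent.Lib.TwistE6D4.Words

set_option autoImplicit false
open Cfsg

namespace Cfsg.Agent.S5743

open Cfsg.Lie Cfsg.Lie.ChevalleyDatum Cfsg.Agent.TwistE6Sub
open Cfsg.Agent.TwistE6D4 (e6Twist ctxE6)
open Cfsg.Agent.ChevFoldF4 (e6Good e6n)

theorem pi_vals : ∀ i : Fin chevE6.rank,
    (e6Twist.pi i = e6n 5 ↔ i = e6n 0) ∧ (e6Twist.pi i = e6n 0 ↔ i = e6n 5) := by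
  decide +kernel

/-- The symmetric diagonal values attached to an element. -/
def symVals {K : Type*} [Field K] (w : Kˣ) (i : Fin chevE6.rank) : Kˣ :=
  if i = e6n 0 then w else if i = e6n 5 then w ^ 2 else 1

theorem inv3_symVals {K : Type*} [Field K] {w : Kˣ} (h3 : w ^ 3 = 1) : inv3 (symVals w) = w ^ 2 := by
  have e : ∀ k : Fin 6, symVals w (e6n k) = if k = 0 then w else if k = 5 then w ^ 2 else 1 := fun k => by
    have h0 : e6n k = e6n 0 ↔ k = 0 := by revert k; decide +kernel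
    have h5 : e6n k = e6n 5 ↔ k = 5 := by clear h0; revert k; decide +kernel
    rw [symVals]
    simp only [h0, h5]
  have : inv3 (symVals w) = w * (w ^ 2) ^ 2 := by
    show symVals w (e6n 0) * symVals w (e6n 2) ^ 2 * symVals w (e6n 4) * symVals w (e6n 5) ^ 2 = _
    simp [e]
  rw [this, ← pow_mul, ← pow_succ', show 2 * 2 + 1 = 3 + 2 from rfl, pow_add, h3, one_mul]

/-- The simple group ²E₆(2) (the twisted group of type E₆ over the field with 4 elements) contains at least three pairwise non-conjugate subgroups isomorphic to the Chevalley group F₄(2). -/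
theorem result {K : Type*} [Field K] [Fintype K] (hK : Fintype.card K = 4) :
    ∃ H : Fin 3 → Subgroup (Cfsg.Lie.twistedE6 K 2),
      (∀ i, Nonempty ((H i) ≃* Cfsg.Lie.chevF4.group (ZMod 2))) ∧
      (∀ i j, i ≠ j → ∀ g : (Cfsg.Lie.twistedE6 K 2), (H i).map (MulAut.conj g).toMonoidHom ≠ H j) := by
  classical
  haveI : CharP K 2 := by
    obtain ⟨p, hp⟩ := CharP.exists K
    obtain ⟨m, hp2, hm⟩ := FiniteField.card K p
    have h2 : p ∣ 2 ^ 2 := by rw [show (2 : ℕ) ^ 2 = 4 from rfl, ← hK, hm]; exact dvd_pow_self p m.pos.ne'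
    rwa [(Nat.prime_dvd_prime_iff_eq hp2 Nat.prime_two).1 (hp2.dvd_of_dvd_pow h2)] at hp
  have hK2 : Fintype.card K = 2 ^ 2 := hK
  obtain ⟨φ, hφ⟩ := TwistE6D4.exists_qHom K Nat.prime_two.isPrimePow two_pos hK2
  rw [TwistE6D4.twistedE6_eq e6Good hφ hK2]
  have hcard : Fintype.card Kˣ = 3 := by rw [Fintype.card_units, hK]
  have hcube : ∀ t : Kˣ, t ^ 3 = 1 := fun t => by rw [← hcard]; exact pow_card_eq_one
  obtain ⟨w, hw⟩ := Fintype.exists_ne_of_one_lt_card (show 1 < Fintype.card Kˣ by omega) 1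
  have hord : orderOf w = 3 := orderOf_eq_prime (hcube w) hw
  have hsym : ∀ (t : Kˣ) i, (symVals t (e6Twist.pi i) : K) = φ (symVals t i) := by
    intro t i
    rw [hφ, ← Units.val_pow_eq_pow_val]
    congr 1
    obtain ⟨h5, h0⟩ := pi_vals i
    unfold symVals
    by_cases e0 : i = e6n 0
    · rw [if_neg (fun e => absurd (h0.1 e) (by rw [e0]; decide +kernel)), if_pos (h5.2 e0), if_pos e0]
    by_cases e5 : i = e6n 5
    · rw [if_pos (h0.2 e5), if_neg e0, if_pos e5, ← pow_mul, show 2 * 2 = 3 + 1 from rfl, pow_add, hcube,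
        one_mul, pow_one]
    · rw [if_neg (fun e => e5 (h0.1 e)), if_neg (fun e => e0 (h5.1 e)), if_neg e0, if_neg e5, one_pow]
  set C := ctxE6 e6Good φ
  let cc : Fin 3 → Fin chevE6.rank → Kˣ := fun i => symVals (w ^ (i : ℕ))
  let Kc : Fin 3 → Subgroup (GL chevE6.Idx K) := fun i =>
    (F4sub (K := K)).map (MulAut.conj (diagC (cc i))).toMonoidHom
  have hle : ∀ i, Kc i ≤ C.G0 := by
    rintro i _ ⟨z, hz, rfl⟩
    exact diagC_conj_G0 φ (hsym _) (F4sub_le φ hz)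
  refine ⟨fun i => (Kc i).subgroupOf C.G0, fun i => ?_, ?_⟩
  · obtain ⟨e⟩ := F4sub_iso (K := K)
    exact ⟨((Subgroup.subgroupOfEquivOfLe (hle i)).trans
      ((F4sub (K := K)).equivMapOfInjective _ (MulAut.conj (diagC (cc i))).injective).symm).trans e⟩
  intro i j hij g heq
  apply hij
  have h := diag_trivial φ hcube (hsym (w ^ (i : ℕ))) (hsym (w ^ (j : ℕ))) g.2 (fun z hz => by
    have hm : (⟨diagC (cc i) * z * (diagC (cc i))⁻¹, hle i ⟨z, hz, rfl⟩⟩ : ↥C.G0) ∈ (Kc i).subgroupOf C.G0 :=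
      ⟨z, hz, rfl⟩
    have hm2 : g * ⟨diagC (cc i) * z * (diagC (cc i))⁻¹, hle i ⟨z, hz, rfl⟩⟩ * g⁻¹ ∈
        (Kc j).subgroupOf C.G0 := (SetLike.ext_iff.1 heq _).1 ⟨_, hm, rfl⟩
    obtain ⟨z', hz', e⟩ := hm2
    have e' : (g : GL chevE6.Idx K) * (diagC (cc i) * z * (diagC (cc i))⁻¹) * (g : GL chevE6.Idx K)⁻¹ =
        diagC (cc j) * z' * (diagC (cc j))⁻¹ := e.symm
    show (diagC (cc j))⁻¹ * _ * diagC (cc j) ∈ _
    rw [e']
    rw [show ∀ a b : GL chevE6.Idx K, a⁻¹ * (a * b * a⁻¹) * a = b from fun a b => by group]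
    exact hz')
  rw [inv3_symVals (hcube _), inv3_symVals (hcube _), ← pow_mul, ← pow_mul, pow_inj_mod, hord] at h
  omega

end Cfsg.Agent.S5743
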