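import Cfsg.Statements.S5742
import Cfsg.Agent.Lib.Fi22E6.Cent
import Cfsg.Agent.Lib.Fi22E6.NonConj
import Cfsg.Agent.S5743
import Cfsg.Agent.S1696
import Cfsg.Agent.S2079

set_option maxRecDepth 100000

set_option autoImplicit false
open Cfsg

namespace Cfsg.Agent.S5742

open Cfsg.Lie Cfsg.Lie.ChevalleyDatum Cfsg.Agent.TwistE6Sub
open Cfsg.Agent.S5743 (symVals inv3_symVals pi_vals)
open Cfsg.Agent.TwistE6D4 (e6Twist ctxE6)
open Cfsg.Agent.ChevFoldF4 (e6Good e6n)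

/-- The simple group ²E₆(2) (the twisted group of type E₆ over the field with 4 elements) contains at least three pairwise non-conjugate subgroups isomorphic to the Fischer group Fi₂₂. -/
theorem result {K : Type*} [Field K] [Fintype K] (hK : Fintype.card K = 4) :
    ∃ H : Fin 3 → Subgroup (Cfsg.Lie.twistedE6 K 2),
      (∀ i, Cfsg.Spor.IsoFi22 (H i)) ∧
      (∀ i j, i ≠ j → ∀ g : (Cfsg.Lie.twistedE6 K 2), (H i).map (MulAut.conj g).toMonoidHom ≠ H j) := by
  classical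
  haveI : CharP K 2 := by
    obtain ⟨p, hp⟩ := CharP.exists K
    obtain ⟨m, hp2, hm⟩ := FiniteField.card K p
    have h2 : p ∣ 2 ^ 2 := by rw [show (2 : ℕ) ^ 2 = 4 from rfl, ← hK, hm]; exact dvd_pow_self p m.pos.ne'
    rwa [(Nat.prime_dvd_prime_iff_eq hp2 Nat.prime_two).1 (hp2.dvd_of_dvd_pow h2)] at hp
  have hK2 : Fintype.card K = 2 ^ 2 := hK
  obtain ⟨φ, hφ⟩ := TwistE6D4.exists_qHom K Nat.prime_two.isPrimePow two_pos hK2
  have hsimple : IsSimpleGroup Cfsg.Spor.Fi22 := Cfsg.Agent.S1696.main.1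
  have hout : Nat.card (Cfsg.Out Cfsg.Spor.Fi22) = 2 := Cfsg.Agent.S2079.result
  obtain ⟨f, -⟩ := Fi22E6.exists_fHom K hK
  obtain ⟨ψ, hψgen, hψmem, hψne⟩ := Fi22E6.exists_fi22Hom f
  rw [TwistE6D4.twistedE6_eq e6Good hφ hK2] at hψmem ⊢
  have hcard : Fintype.card Kˣ = 3 := by rw [Fintype.card_units, hK]
  have hcube : ∀ t : Kˣ, t ^ 3 = 1 := fun t => by rw [← hcard]; exact pow_card_eq_one
  obtain ⟨w, hw⟩ := Fintype.exists_ne_of_one_lt_card (show 1 < Fintype.card Kˣ by omega) 1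
  have hord : orderOf w = 3 := orderOf_eq_prime (hcube w) hw
  have hsym : ∀ (t : Kˣ) i, (symVals t (e6Twist.pi i) : K) = φ (symVals t i) := by
    intro t i
    rw [hφ, ← Units.val_pow_eq_pow_val]
    congr 1
    obtain ⟨h5, h0⟩ := pi_vals i
    unfold symVals
    by_cases e0 : i = e6n 0
    · rw [if_neg (fun e => absurd (h0.1 e) (by rw [e0]; decide +kernel)), if_pos (h5.2 e0), if_pos e0]
    by_cases e5 : i = e6n 5
    · rw [if_pos (h0.2 e5), if_neg e0, if_pos e5, ← pow_mul, show 2 * 2 = 3 + 1 from rfl, pow_add, hcube,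
        one_mul, pow_one]
    · rw [if_neg (fun e => e5 (h0.1 e)), if_neg (fun e => e0 (h5.1 e)), if_neg e0, if_neg e5, one_pow]
  haveI := hsimple
  have hψG : ∀ z, ψ z ∈ (ctxE6 e6Good φ).G0 := hψmem
  have hinj : Function.Injective ψ := by
    rw [← MonoidHom.ker_eq_bot_iff]
    exact ψ.normal_ker.eq_bot_or_eq_top.resolve_right fun h => hψne (MonoidHom.ker_eq_top_iff.mp h)
  have hscal : ∀ T : GL chevE6.Idx K, (∀ z, T * ψ z = ψ z * T) → ∀ g, T * g = g * T := by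
    intro T hT g
    obtain ⟨lam, hlam⟩ := Fi22E6.eq_scalar_of_commute f (T : Matrix chevE6.Idx chevE6.Idx K) fun k _ hk => by
      have h := congrArg Units.val (hT (PresentedGroup.of (CoxStem.gen22 k)))
      have e : CoxStem.idx22 (CoxStem.gen22 k) = k := by interval_cases k <;> rfl
      rw [Units.val_mul, Units.val_mul, hψgen, e, Fi22E6.val_yK] at h
      exact h
    refine Units.ext ?_
    rw [Units.val_mul, Units.val_mul, hlam, Matrix.smul_mul, Matrix.mul_smul, one_mul, mul_one]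
  set C := ctxE6 e6Good φ
  let cc : Fin 3 → Fin chevE6.rank → Kˣ := fun i => symVals (w ^ (i : ℕ))
  let Kc : Fin 3 → Subgroup (GL chevE6.Idx K) := fun i =>
    ψ.range.map (MulAut.conj (diagC (cc i))).toMonoidHom
  have hle : ∀ i, Kc i ≤ C.G0 := by
    rintro i _ ⟨_, ⟨z, rfl⟩, rfl⟩
    exact diagC_conj_G0 φ (hsym _) (hψG z)
  refine ⟨fun i => (Kc i).subgroupOf C.G0, fun i => ?_, ?_⟩
  · exact ⟨((Subgroup.subgroupOfEquivOfLe (hle i)).trans
      (ψ.range.equivMapOfInjective _ (MulAut.conj (diagC (cc i))).injective).symm).trans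
      (MonoidHom.ofInjective hinj).symm⟩
  intro i j hij g heq
  apply hij
  have hiff : ∀ y, y ∈ ψ.range ↔ (diagC (cc j))⁻¹ * ((g : GL chevE6.Idx K) * (diagC (cc i) * y * (diagC (cc i))⁻¹) *
      (g : GL chevE6.Idx K)⁻¹) * diagC (cc j) ∈ ψ.range := by
    intro y
    constructor
    · intro hy
      have hm : (⟨diagC (cc i) * y * (diagC (cc i))⁻¹, hle i ⟨y, hy, rfl⟩⟩ : ↥C.G0) ∈ (Kc i).subgroupOf C.G0 :=
        ⟨y, hy, rfl⟩
      obtain ⟨z', hz', e⟩ : g * ⟨diagC (cc i) * y * (diagC (cc i))⁻¹, hle i ⟨y, hy, rfl⟩⟩ * g⁻¹ ∈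
          (Kc j).subgroupOf C.G0 := (SetLike.ext_iff.1 heq _).1 ⟨_, hm, rfl⟩
      have e' : (g : GL chevE6.Idx K) * (diagC (cc i) * y * (diagC (cc i))⁻¹) * (g : GL chevE6.Idx K)⁻¹ =
          diagC (cc j) * z' * (diagC (cc j))⁻¹ := e.symm
      rw [e', show ∀ a b : GL chevE6.Idx K, a⁻¹ * (a * b * a⁻¹) * a = b from fun a b => by group]
      exact hz'
    · intro hy
      set y' := (diagC (cc j))⁻¹ * ((g : GL chevE6.Idx K) * (diagC (cc i) * y * (diagC (cc i))⁻¹) *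
        (g : GL chevE6.Idx K)⁻¹) * diagC (cc j) with hy'
      have hm : (⟨diagC (cc j) * y' * (diagC (cc j))⁻¹, hle j ⟨y', hy, rfl⟩⟩ : ↥C.G0) ∈ (Kc j).subgroupOf C.G0 :=
        ⟨y', hy, rfl⟩
      obtain ⟨q, hq, eq⟩ := (SetLike.ext_iff.1 heq _).2 hm
      obtain ⟨z, hz, ez⟩ := hq
      have e1 : (g : GL chevE6.Idx K) * (diagC (cc i) * z * (diagC (cc i))⁻¹) * (g : GL chevE6.Idx K)⁻¹ =
          diagC (cc j) * y' * (diagC (cc j))⁻¹ := by
        have h2 := congrArg Subtype.val eq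
        show (g : GL chevE6.Idx K) * _ * (g : GL chevE6.Idx K)⁻¹ = _
        rw [show diagC (cc i) * z * (diagC (cc i))⁻¹ = (q : GL chevE6.Idx K) from ez]
        exact h2
      rw [hy', show ∀ a b : GL chevE6.Idx K, a * (a⁻¹ * b * a) * a⁻¹ = b from fun a b => by group] at e1
      rwa [← mul_left_cancel (mul_right_cancel (mul_left_cancel (mul_right_cancel e1)))]
  have h := Fi22E6.twist_eq φ hcube ψ hinj hout hψG hscal (hsym (w ^ (i : ℕ))) (hsym (w ^ (j : ℕ))) g.2 hiff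
  rw [inv3_symVals (hcube _), inv3_symVals (hcube _), ← pow_mul, ← pow_mul, pow_inj_mod, hord] at h
  omega

end Cfsg.Agent.S5742
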