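import Cfsg.Statements.S5744
import Cfsg.Agent.Lib.Fi22E6.Cent
import Cfsg.Agent.Lib.Fi22E6.NonConj
import Cfsg.Agent.Lib.Fi22O73.Iso
import Cfsg.Agent.S5743
import Cfsg.Agent.S1696
import Cfsg.Agent.S2604

set_option maxRecDepth 100000

set_option autoImplicit false
open Cfsg

namespace Cfsg.Agent.S5744

open Cfsg.Lie Cfsg.Lie.ChevalleyDatum Cfsg.Agent.TwistE6Sub Cfsg.Agent.CosetEnum
open Cfsg.Agent.S5743 (symVals inv3_symVals pi_vals)
open Cfsg.Agent.TwistE6D4 (e6Twist ctxE6)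
open Cfsg.Agent.ChevFoldF4 (e6Good e6n)
open Cfsg.Agent.OSevenThree (Q7)

theorem card_out_pomega :
    Nat.card (Cfsg.Out (Cfsg.POmega (ZMod 3) (Cfsg.quadFormOdd 3 (ZMod 3)))) = 2 := by
  obtain ⟨e⟩ := Cfsg.Agent.S2604.result (F := ZMod 3) (p := 3) (f := 1) (m := 3) le_rfl (by simp) (by norm_num) le_rfl
  rw [Nat.card_congr e.toEquiv, Nat.card_congr Multiplicative.toAdd, Nat.card_prod, Nat.card_zmod, Nat.card_zmod]

theorem nonempty_pomega_omega :
    Nonempty (Cfsg.POmega (ZMod 3) (Cfsg.quadFormOdd 3 (ZMod 3)) ≃*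
      Cfsg.Omega (ZMod 3) (Cfsg.quadFormOdd 3 (ZMod 3))) := by
  have hcen := PrimeGraphBC.center_omega_quadOdd (F := ZMod 3) (n := 3) le_rfl OSevenThree.two_ne_zero_three
  exact ⟨(MulEquiv.ofBijective (QuotientGroup.mk' (Subgroup.center ↥(Cfsg.Omega (ZMod 3) ⇑Q7)))
    ⟨(MonoidHom.ker_eq_bot_iff _).mp ((QuotientGroup.ker_mk' _).trans hcen),
      QuotientGroup.mk'_surjective _⟩).symm⟩

theorem of_mem_Ho : ∀ k, 1 ≤ k → k < 9 →
    (PresentedGroup.of (CoxStem.gen22 k) : fi22Setup.G) ∈ Fi22O73.Ho := by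
  intro k h1 h9
  refine Subgroup.subset_closure ⟨FreeGroup.of (CoxStem.gen22 k), ?_, rfl⟩
  interval_cases k <;> simp [S1685.H14080, CoxStem.gen22, fi22Setup, Cfsg.Spor.Fi22.b, Cfsg.Spor.Fi22.c, Cfsg.Spor.Fi22.d, Cfsg.Spor.Fi22.e, Cfsg.Spor.Fi22.f, Cfsg.Spor.Fi22.g, Cfsg.Spor.Fi22.h, Cfsg.Spor.Fi22.i]

/-- The simple group ²E₆(2) (the twisted group of type E₆ over the field with 4 elements) contains at least three pairwise non-conjugate subgroups isomorphic to the orthogonal group Ω₇(3) (the commutator subgroup of the isometry group of x₀² + x₁y₁ + x₂y₂ + x₃y₃ over the field with 3 elements). -/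
theorem result {K : Type*} [Field K] [Fintype K] (hK : Fintype.card K = 4) :
    ∃ H : Fin 3 → Subgroup (Cfsg.Lie.twistedE6 K 2),
      (∀ i, Nonempty ((H i) ≃* Cfsg.Omega (ZMod 3) (Cfsg.quadFormOdd 3 (ZMod 3)))) ∧
      (∀ i j, i ≠ j → ∀ g : (Cfsg.Lie.twistedE6 K 2), (H i).map (MulAut.conj g).toMonoidHom ≠ H j) := by
  classical
  haveI : CharP K 2 := by
    obtain ⟨p, hp⟩ := CharP.exists K
    obtain ⟨m, hp2, hm⟩ := FiniteField.card K p
    have h2 : p ∣ 2 ^ 2 := by rw [show (2 : ℕ) ^ 2 = 4 from rfl, ← hK, hm]; exact dvd_pow_self p m.pos.ne'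
    rwa [(Nat.prime_dvd_prime_iff_eq hp2 Nat.prime_two).1 (hp2.dvd_of_dvd_pow h2)] at hp
  have hK2 : Fintype.card K = 2 ^ 2 := hK
  obtain ⟨φ, hφ⟩ := TwistE6D4.exists_qHom K Nat.prime_two.isPrimePow two_pos hK2
  haveI hsimple : IsSimpleGroup Cfsg.Spor.Fi22 := Cfsg.Agent.S1696.main.1
  obtain ⟨f, -⟩ := Fi22E6.exists_fHom K hK
  obtain ⟨ψ0, hψgen, hψmem, hψne⟩ := Fi22E6.exists_fi22Hom f
  obtain ⟨eH⟩ := Fi22O73.iso_pomega
  obtain ⟨eP⟩ := nonempty_pomega_omega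
  rw [TwistE6D4.twistedE6_eq e6Good hφ hK2] at hψmem ⊢
  have hcard : Fintype.card Kˣ = 3 := by rw [Fintype.card_units, hK]
  have hcube : ∀ t : Kˣ, t ^ 3 = 1 := fun t => by rw [← hcard]; exact pow_card_eq_one
  obtain ⟨w, hw⟩ := Fintype.exists_ne_of_one_lt_card (show 1 < Fintype.card Kˣ by omega) 1
  have hord : orderOf w = 3 := orderOf_eq_prime (hcube w) hw
  have hsym : ∀ (t : Kˣ) i, (symVals t (e6Twist.pi i) : K) = φ (symVals t i) := by
    intro t i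
    rw [hφ, ← Units.val_pow_eq_pow_val]
    congr 1
    obtain ⟨h5, h0⟩ := pi_vals i
    unfold symVals
    by_cases e0 : i = e6n 0
    · rw [if_neg (fun e => absurd (h0.1 e) (by rw [e0]; decide +kernel)), if_pos (h5.2 e0), if_pos e0]
    by_cases e5 : i = e6n 5
    · rw [if_pos (h0.2 e5), if_neg e0, if_pos e5, ← pow_mul, show 2 * 2 = 3 + 1 from rfl, pow_add, hcube,
        one_mul, pow_one]
    · rw [if_neg (fun e => e5 (h0.1 e)), if_neg (fun e => e0 (h5.1 e)), if_neg e0, if_neg e5, one_pow]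
  let ψH : ↥Fi22O73.Ho →* GL chevE6.Idx K := (show fi22Setup.G →* GL chevE6.Idx K from ψ0).comp Fi22O73.Ho.subtype
  let ψ : Cfsg.POmega (ZMod 3) (Cfsg.quadFormOdd 3 (ZMod 3)) →* GL chevE6.Idx K := ψH.comp eH.symm.toMonoidHom
  have hψG : ∀ z, ψ z ∈ (ctxE6 e6Good φ).G0 := fun z => hψmem _
  have hinj0 : Function.Injective ψ0 := by
    rw [← MonoidHom.ker_eq_bot_iff]
    exact ψ0.normal_ker.eq_bot_or_eq_top.resolve_right fun h => hψne (MonoidHom.ker_eq_top_iff.mp h)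
  have hinj : Function.Injective ψ := (hinj0.comp Subtype.val_injective).comp eH.symm.injective
  have hscal : ∀ T : GL chevE6.Idx K, (∀ z, T * ψ z = ψ z * T) → ∀ g, T * g = g * T := by
    intro T hT g
    obtain ⟨lam, hlam⟩ := Fi22E6.eq_scalar_of_commute f (T : Matrix chevE6.Idx chevE6.Idx K) fun k hk1 hk => by
      have hz : ψ (eH ⟨_, of_mem_Ho k hk1 hk⟩) = ψ0 (PresentedGroup.of (CoxStem.gen22 k)) :=
        congrArg (fun z : ↥Fi22O73.Ho => ψ0 (z : fi22Setup.G)) (eH.symm_apply_apply _)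
      have h0 := hT (eH ⟨_, of_mem_Ho k hk1 hk⟩)
      rw [hz] at h0
      have h := congrArg Units.val h0
      have e : CoxStem.idx22 (CoxStem.gen22 k) = k := by interval_cases k <;> rfl
      rw [Units.val_mul, Units.val_mul, hψgen, e, Fi22E6.val_yK] at h
      exact h
    refine Units.ext ?_
    rw [Units.val_mul, Units.val_mul, hlam, Matrix.smul_mul, Matrix.mul_smul, one_mul, mul_one]
  set C := ctxE6 e6Good φ
  let cc : Fin 3 → Fin chevE6.rank → Kˣ := fun i => symVals (w ^ (i : ℕ))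
  let Kc : Fin 3 → Subgroup (GL chevE6.Idx K) := fun i =>
    ψ.range.map (MulAut.conj (diagC (cc i))).toMonoidHom
  have hle : ∀ i, Kc i ≤ C.G0 := by
    rintro i _ ⟨_, ⟨z, rfl⟩, rfl⟩
    exact diagC_conj_G0 φ (hsym _) (hψG z)
  refine ⟨fun i => (Kc i).subgroupOf C.G0, fun i => ?_, ?_⟩
  · exact ⟨(((Subgroup.subgroupOfEquivOfLe (hle i)).trans
      (ψ.range.equivMapOfInjective _ (MulAut.conj (diagC (cc i))).injective).symm).trans
      (MonoidHom.ofInjective hinj).symm).trans eP⟩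
  intro i j hij g heq
  apply hij
  have hiff : ∀ y, y ∈ ψ.range ↔ (diagC (cc j))⁻¹ * ((g : GL chevE6.Idx K) * (diagC (cc i) * y * (diagC (cc i))⁻¹) *
      (g : GL chevE6.Idx K)⁻¹) * diagC (cc j) ∈ ψ.range := by
    intro y
    constructor
    · intro hy
      have hm : (⟨diagC (cc i) * y * (diagC (cc i))⁻¹, hle i ⟨y, hy, rfl⟩⟩ : ↥C.G0) ∈ (Kc i).subgroupOf C.G0 :=
        ⟨y, hy, rfl⟩
      obtain ⟨z', hz', e⟩ : g * ⟨diagC (cc i) * y * (diagC (cc i))⁻¹, hle i ⟨y, hy, rfl⟩⟩ * g⁻¹ ∈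
          (Kc j).subgroupOf C.G0 := (SetLike.ext_iff.1 heq _).1 ⟨_, hm, rfl⟩
      have e' : (g : GL chevE6.Idx K) * (diagC (cc i) * y * (diagC (cc i))⁻¹) * (g : GL chevE6.Idx K)⁻¹ =
          diagC (cc j) * z' * (diagC (cc j))⁻¹ := e.symm
      rw [e', show ∀ a b : GL chevE6.Idx K, a⁻¹ * (a * b * a⁻¹) * a = b from fun a b => by group]
      exact hz'
    · intro hy
      set y' := (diagC (cc j))⁻¹ * ((g : GL chevE6.Idx K) * (diagC (cc i) * y * (diagC (cc i))⁻¹) *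
        (g : GL chevE6.Idx K)⁻¹) * diagC (cc j) with hy'
      have hm : (⟨diagC (cc j) * y' * (diagC (cc j))⁻¹, hle j ⟨y', hy, rfl⟩⟩ : ↥C.G0) ∈ (Kc j).subgroupOf C.G0 :=
        ⟨y', hy, rfl⟩
      obtain ⟨q, hq, eq⟩ := (SetLike.ext_iff.1 heq _).2 hm
      obtain ⟨z, hz, ez⟩ := hq
      have e1 : (g : GL chevE6.Idx K) * (diagC (cc i) * z * (diagC (cc i))⁻¹) * (g : GL chevE6.Idx K)⁻¹ =
          diagC (cc j) * y' * (diagC (cc j))⁻¹ := by
        have h2 := congrArg Subtype.val eq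
        show (g : GL chevE6.Idx K) * _ * (g : GL chevE6.Idx K)⁻¹ = _
        rw [show diagC (cc i) * z * (diagC (cc i))⁻¹ = (q : GL chevE6.Idx K) from ez]
        exact h2
      rw [hy', show ∀ a b : GL chevE6.Idx K, a * (a⁻¹ * b * a) * a⁻¹ = b from fun a b => by group] at e1
      rwa [← mul_left_cancel (mul_right_cancel (mul_left_cancel (mul_right_cancel e1)))]
  have h := Fi22E6.twist_eq φ hcube ψ hinj card_out_pomega hψG hscal (hsym (w ^ (i : ℕ))) (hsym (w ^ (j : ℕ))) g.2 hiff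
  rw [inv3_symVals (hcube _), inv3_symVals (hcube _), ← pow_mul, ← pow_mul, pow_inj_mod, hord] at h
  omega

end Cfsg.Agent.S5744
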