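import Cfsg.Statements.S5747
import Cfsg.Agent.EqLemmas

set_option autoImplicit false
open Cfsg

namespace Cfsg.Agent.S5747


variable {G Ω : Type*} [Group G] [MulAction G Ω]

/-- An irredundant base given as a sequence. -/
def IrrBase (G : Type*) [Group G] {Ω : Type*} [MulAction G Ω] {t : ℕ} (f : Fin t → Ω) : Prop :=
  (∀ g : G, (∀ i : Fin t, g • f i = f i) → g = 1) ∧
    ∀ i : Fin t, ∃ g : G, (∀ j : Fin t, j < i → g • f j = f j) ∧ g • f i ≠ f i

/-- A base in which every point is moved by some element fixing all the others. -/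
def IndepBase (G : Type*) [Group G] {Ω : Type*} [MulAction G Ω] (B : Finset Ω) : Prop :=
  (∀ g : G, (∀ b ∈ B, g • b = b) → g = 1) ∧
    ∀ x ∈ B, ∃ g : G, (∀ b ∈ B, b ≠ x → g • b = b) ∧ g • x ≠ x

theorem exists_irrBase : ∀ (t : ℕ) (h : Fin t → Ω), (∀ g : G, (∀ i, g • h i = h i) → g = 1) →
    ∃ (t' : ℕ) (f : Fin t' → Ω), IrrBase G f ∧ t' ≤ t := by
  intro t
  induction t with
  | zero => exact fun h hb => ⟨0, h, ⟨hb, fun i => i.elim0⟩, le_rfl⟩
  | succ t ih =>
    intro h hb
    by_cases hirr : ∀ i : Fin (t + 1), ∃ g : G, (∀ j, j < i → g • h j = h j) ∧ g • h i ≠ h i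
    · exact ⟨t + 1, h, ⟨hb, hirr⟩, le_rfl⟩
    · push Not at hirr
      obtain ⟨i, hi⟩ := hirr
      obtain ⟨t', f, hf, hle⟩ := ih (h ∘ i.succAbove) (fun g hg => hb g (fun j => by
        rcases Fin.eq_self_or_eq_succAbove i j with rfl | ⟨k, rfl⟩
        · refine hi g (fun l hl => ?_)
          rcases Fin.eq_self_or_eq_succAbove j l with rfl | ⟨k, rfl⟩
          · exact absurd hl (lt_irrefl _)
          · exact hg k
        · exact hg k))
      exact ⟨t', f, hf, Nat.le_succ_of_le hle⟩

theorem irrBase_of_same_length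
    (H : ∀ (t t' : ℕ) (f : Fin t → Ω) (f' : Fin t' → Ω), IrrBase G f → IrrBase G f' → t = t')
    (t : ℕ) (f : Fin t → Ω) (σ : Equiv.Perm (Fin t)) (hf : IrrBase G f) : IrrBase G (f ∘ σ) := by
  refine ⟨fun g hg => hf.1 g (fun i => by simpa using hg (σ.symm i)), ?_⟩
  by_contra hcon
  push Not at hcon
  obtain ⟨i, hi⟩ := hcon
  cases t with
  | zero => exact i.elim0
  | succ t =>
    obtain ⟨t', f', hf', hle⟩ := exists_irrBase t ((f ∘ σ) ∘ i.succAbove) (fun g hg => hf.1 g (fun j => by
      have key : ∀ k, g • (f ∘ σ) k = (f ∘ σ) k := fun k => by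
        rcases Fin.eq_self_or_eq_succAbove i k with rfl | ⟨k', rfl⟩
        · refine hi g (fun l hl => ?_)
          rcases Fin.eq_self_or_eq_succAbove k l with rfl | ⟨m, rfl⟩
          · exact absurd hl (lt_irrefl _)
          · exact hg m
        · exact hg k'
      simpa using key (σ.symm j)))
    have := H _ _ f f' hf hf'
    omega

theorem irrBase_injective {t : ℕ} {f : Fin t → Ω} (hf : IrrBase G f) : Function.Injective f := by
  intro i j hij
  rcases lt_trichotomy i j with h | h | h
  · obtain ⟨g, h1, h2⟩ := hf.2 j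
    exact absurd (hij ▸ h1 i h) h2
  · exact h
  · obtain ⟨g, h1, h2⟩ := hf.2 i
    exact absurd (hij.symm ▸ h1 j h) h2

section
variable [DecidableEq Ω]
variable (R : ∀ (t : ℕ) (f : Fin t → Ω) (σ : Equiv.Perm (Fin t)), IrrBase G f → IrrBase G (f ∘ σ))
include R

theorem indepBase_image {t : ℕ} {f : Fin t → Ω} (hf : IrrBase G f) :
    IndepBase G (Finset.univ.image f) := by
  refine ⟨fun g hg => hf.1 g (fun i => hg _ (Finset.mem_image_of_mem f (Finset.mem_univ i))), ?_⟩
  intro x hx
  obtain ⟨i, -, rfl⟩ := Finset.mem_image.1 hx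
  cases t with
  | zero => exact i.elim0
  | succ t =>
    have hσ := R _ f (Equiv.swap i (Fin.last t)) hf
    obtain ⟨g, h1, h2⟩ := hσ.2 (Fin.last t)
    simp only [Function.comp_apply, Equiv.swap_apply_right] at h2
    refine ⟨g, fun b hb hne => ?_, h2⟩
    obtain ⟨j, -, rfl⟩ := Finset.mem_image.1 hb
    have hji : j ≠ i := fun h => hne (h ▸ rfl)
    have hlt : Equiv.swap i (Fin.last t) j < Fin.last t := by
      refine lt_of_le_of_ne (Fin.le_last _) (fun h => hji ?_)
      have := congrArg (Equiv.swap i (Fin.last t)) h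
      simpa using this
    simpa using h1 _ hlt

theorem exchange {B B' : Finset Ω} (hB : IndepBase G B) (hB' : IndepBase G B') {x : Ω}
    (hx : x ∈ B) (hx' : x ∉ B') :
    ∃ y ∈ B', y ∉ B ∧ IndepBase G (insert y (B.erase x)) := by
  obtain ⟨g, hg, hgx⟩ := hB.2 x hx
  obtain ⟨y, hy, hgy⟩ : ∃ y ∈ B', g • y ≠ y := by
    by_contra hcon
    push Not at hcon
    exact hgx (by rw [hB'.1 g hcon, one_smul])
  have hyB : y ∉ B := fun h => hgy (hg y h (fun e => hx' (e ▸ hy)))
  refine ⟨y, hy, hyB, ?_⟩
  set l : List Ω := (B.erase x).toList with hl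
  have hmem : ∀ b, b ∈ l ↔ b ≠ x ∧ b ∈ B := fun b => by rw [hl, Finset.mem_toList, Finset.mem_erase]
  have hnd : l.Nodup := Finset.nodup_toList _
  -- if the exchanged set had a nontrivial stabilizer, appending x would give an irredundant base
  have hstab : ∀ k : G, (∀ b ∈ insert y (B.erase x), k • b = b) → k = 1 := by
    by_contra hcon
    push Not at hcon
    obtain ⟨k, hk, hk1⟩ := hcon
    have hkx : k • x ≠ x := fun h => hk1 (hB.1 k (fun b hb => by
      by_cases e : b = x
      · rw [e, h]
      · exact hk b (Finset.mem_insert_of_mem (Finset.mem_erase.2 ⟨e, hb⟩))))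
    let L : List Ω := l ++ [y, x]
    have hLlen : L.length = l.length + 2 := by simp [L]
    have hF : IrrBase G (fun i : Fin L.length => L[(i : ℕ)]) := by
      constructor
      · intro h hh
        refine hB.1 h (fun b hb => ?_)
        obtain ⟨i, hi, hib⟩ := List.getElem_of_mem (show b ∈ L by
          by_cases e : b = x
          · simp [L, e]
          · simp [L, (hmem b).2 ⟨e, hb⟩])
        rw [← hib]; exact hh ⟨i, hi⟩
      · intro i
        rcases Nat.lt_trichotomy (i : ℕ) l.length with h | h | h
        · have hi : L[(i : ℕ)] = l[(i : ℕ)] := List.getElem_append_left h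
          have hil := (hmem _).1 (List.getElem_mem h)
          obtain ⟨u, hu, hux⟩ := hB.2 _ hil.2
          refine ⟨u, fun j hj => ?_, by show u • L[(i : ℕ)] ≠ L[(i : ℕ)]; rw [hi]; exact hux⟩
          have hjl : (j : ℕ) < l.length := lt_trans hj h
          show u • L[(j : ℕ)] = L[(j : ℕ)]
          rw [show L[(j : ℕ)] = l[(j : ℕ)] from List.getElem_append_left hjl]
          refine hu _ ((hmem _).1 (List.getElem_mem hjl)).2 (fun e => ?_)
          rw [hnd.getElem_inj_iff] at e
          exact (Nat.ne_of_lt hj) e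
        · refine ⟨g, fun j hj => ?_, ?_⟩
          · have hjl : (j : ℕ) < l.length := h ▸ hj
            show g • L[(j : ℕ)] = L[(j : ℕ)]
            rw [show L[(j : ℕ)] = l[(j : ℕ)] from List.getElem_append_left hjl]
            have := (hmem _).1 (List.getElem_mem hjl)
            exact hg _ this.2 this.1
          · show g • L[(i : ℕ)] ≠ L[(i : ℕ)]
            have : L[(i : ℕ)] = y := by simp [L, h]
            rw [this]; exact hgy
        · have hi : (i : ℕ) = l.length + 1 := by have := i.2; omega
          refine ⟨k, fun j hj => ?_, ?_⟩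
          · show k • L[(j : ℕ)] = L[(j : ℕ)]
            have hj' : (j : ℕ) < l.length + 1 := hi ▸ hj
            rcases Nat.lt_or_ge (j : ℕ) l.length with hjl | hjl
            · rw [show L[(j : ℕ)] = l[(j : ℕ)] from List.getElem_append_left hjl]
              have := (hmem _).1 (List.getElem_mem hjl)
              exact hk _ (Finset.mem_insert_of_mem (Finset.mem_erase.2 this))
            · have he : (j : ℕ) = l.length := by omega
              have : L[(j : ℕ)] = y := by simp [L, he]
              rw [this]; exact hk y (Finset.mem_insert_self _ _)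
          · show k • L[(i : ℕ)] ≠ L[(i : ℕ)]
            have : L[(i : ℕ)] = x := by simp [L, hi]
            rw [this]; exact hkx
    have hI := indepBase_image R hF
    have himg : ∀ b, b ∈ Finset.univ.image (fun i : Fin L.length => L[(i : ℕ)]) ↔ b ∈ L := by
      intro b
      rw [Finset.mem_image, List.mem_iff_getElem]
      constructor
      · rintro ⟨i, -, hi⟩; exact ⟨i, i.2, hi⟩
      · rintro ⟨i, hi, hib⟩; exact ⟨⟨i, hi⟩, Finset.mem_univ _, hib⟩
    obtain ⟨u, hu, huy⟩ := hI.2 y ((himg y).2 (by simp [L]))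
    refine huy ?_
    rw [hB.1 u (fun b hb => hu b ((himg b).2 ?_) (fun e => hyB (e ▸ hb))), one_smul]
    by_cases e : b = x
    · simp [L, e]
    · simp [L, (hmem b).2 ⟨e, hb⟩]
  -- the exchanged sequence is itself an irredundant base
  let L : List Ω := l ++ [y]
  have hF : IrrBase G (fun i : Fin L.length => L[(i : ℕ)]) := by
    constructor
    · intro h hh
      refine hstab h (fun b hb => ?_)
      obtain ⟨i, hi, hib⟩ := List.getElem_of_mem (show b ∈ L by
        rcases Finset.mem_insert.1 hb with e | e
        · simp [L, e]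
        · simp [L, (hmem b).2 (Finset.mem_erase.1 e)])
      rw [← hib]; exact hh ⟨i, hi⟩
    · intro i
      rcases Nat.lt_or_ge (i : ℕ) l.length with h | h
      · have hi : L[(i : ℕ)] = l[(i : ℕ)] := List.getElem_append_left h
        have hil := (hmem _).1 (List.getElem_mem h)
        obtain ⟨u, hu, hux⟩ := hB.2 _ hil.2
        refine ⟨u, fun j hj => ?_, by show u • L[(i : ℕ)] ≠ L[(i : ℕ)]; rw [hi]; exact hux⟩
        have hjl : (j : ℕ) < l.length := lt_trans hj h
        show u • L[(j : ℕ)] = L[(j : ℕ)]
        rw [show L[(j : ℕ)] = l[(j : ℕ)] from List.getElem_append_left hjl]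
        refine hu _ ((hmem _).1 (List.getElem_mem hjl)).2 (fun e => ?_)
        rw [hnd.getElem_inj_iff] at e
        exact (Nat.ne_of_lt hj) e
      · have hlen : L.length = l.length + 1 := by simp [L]
        have hi : (i : ℕ) = l.length := by have := i.2; omega
        refine ⟨g, fun j hj => ?_, ?_⟩
        · have hjl : (j : ℕ) < l.length := hi ▸ hj
          show g • L[(j : ℕ)] = L[(j : ℕ)]
          rw [show L[(j : ℕ)] = l[(j : ℕ)] from List.getElem_append_left hjl]
          have := (hmem _).1 (List.getElem_mem hjl)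
          exact hg _ this.2 this.1
        · show g • L[(i : ℕ)] ≠ L[(i : ℕ)]
          have : L[(i : ℕ)] = y := by simp [L, hi]
          rw [this]; exact hgy
  have himg : Finset.univ.image (fun i : Fin L.length => L[(i : ℕ)]) = insert y (B.erase x) := by
    ext b
    rw [Finset.mem_image, Finset.mem_insert, Finset.mem_erase, ← hmem]
    constructor
    · rintro ⟨i, -, hi⟩
      have : b ∈ L := hi ▸ List.getElem_mem i.2
      simp only [L, List.mem_append, List.mem_singleton] at this
      exact this.symm
    · intro hb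
      obtain ⟨i, hi, hib⟩ := List.getElem_of_mem (show b ∈ L by
        simp only [L, List.mem_append, List.mem_singleton]; exact hb.symm)
      exact ⟨⟨i, hi⟩, Finset.mem_univ _, hib⟩
  exact himg ▸ indepBase_image R hF

theorem card_le (B B' : Finset Ω) (hB : IndepBase G B) (hB' : IndepBase G B') :
    B.card ≤ B'.card := by
  suffices H : ∀ n (B : Finset Ω), IndepBase G B → (B \ B').card = n → B.card ≤ B'.card from H _ B hB rfl
  intro n
  induction n using Nat.strong_induction_on with
  | _ n ih =>
    intro B hB hn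
    by_cases hsub : B ⊆ B'
    · exact Finset.card_le_card hsub
    · obtain ⟨x, hx, hx'⟩ := Finset.not_subset.1 hsub
      obtain ⟨y, hy, hyB, hnew⟩ := exchange R hB hB' hx hx'
      have hlt : (insert y (B.erase x) \ B').card < n := by
        rw [← hn]
        refine Finset.card_lt_card ⟨fun b hb => ?_, fun h => ?_⟩
        · rw [Finset.mem_sdiff, Finset.mem_insert, Finset.mem_erase] at hb
          rcases hb.1 with e | e
          · exact absurd (e ▸ hy) hb.2
          · exact Finset.mem_sdiff.2 ⟨e.2, hb.2⟩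
        · have := h (Finset.mem_sdiff.2 ⟨hx, hx'⟩)
          rw [Finset.mem_sdiff, Finset.mem_insert, Finset.mem_erase] at this
          rcases this.1 with e | e
          · exact hx' (e ▸ hy)
          · exact e.1 rfl
      have := ih _ hlt _ hnew rfl
      rwa [Finset.card_insert_of_notMem (fun h => hyB (Finset.mem_of_mem_erase h)),
        Finset.card_erase_add_one hx] at this

theorem same_length {t t' : ℕ} {f : Fin t → Ω} {f' : Fin t' → Ω} (hf : IrrBase G f)
    (hf' : IrrBase G f') : t = t' := by
  have h1 := card_le R _ _ (indepBase_image R hf) (indepBase_image R hf')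
  have h2 := card_le R _ _ (indepBase_image R hf') (indepBase_image R hf)
  rw [Finset.card_image_of_injective _ (irrBase_injective hf),
    Finset.card_image_of_injective _ (irrBase_injective hf'), Finset.card_univ, Finset.card_univ,
    Fintype.card_fin, Fintype.card_fin] at h1 h2
  omega

end

/-- Let a finite group G act on a finite set Ω. An irredundant base is a sequence of points ω₁, …, ω_t whose pointwise stabiliser is trivial and in which each ω_i is moved by some element fixing ω₁, …, ω_{i−1}. Then all irredundant bases have the same length if and only if every reordering of an irredundant base is again an irredundant base. -/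
theorem result {G Ω : Type*} [Group G] [Finite G] [MulAction G Ω] [Fintype Ω] :
    (∀ (t t' : ℕ) (f : Fin t → Ω) (f' : Fin t' → Ω), ((∀ g : G, (∀ i : Fin t, g • f i = f i) → g = 1) ∧ ∀ i : Fin t, ∃ g : G, (∀ j : Fin t, j < i → g • f j = f j) ∧ g • f i ≠ f i) → ((∀ g : G, (∀ i : Fin t', g • f' i = f' i) → g = 1) ∧ ∀ i : Fin t', ∃ g : G, (∀ j : Fin t', j < i → g • f' j = f' j) ∧ g • f' i ≠ f' i) → t = t') ↔
    (∀ (t : ℕ) (f : Fin t → Ω) (σ : Equiv.Perm (Fin t)), ((∀ g : G, (∀ i : Fin t, g • f i = f i) → g = 1) ∧ ∀ i : Fin t, ∃ g : G, (∀ j : Fin t, j < i → g • f j = f j) ∧ g • f i ≠ f i) → ((∀ g : G, (∀ i : Fin t, g • (f ∘ σ) i = (f ∘ σ) i) → g = 1) ∧ ∀ i : Fin t, ∃ g : G, (∀ j : Fin t, j < i → g • (f ∘ σ) j = (f ∘ σ) j) ∧ g • (f ∘ σ) i ≠ (f ∘ σ) i)) := by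
  classical
  exact ⟨fun H t f σ hf => irrBase_of_same_length H t f σ hf,
    fun R t t' f f' hf hf' => same_length R hf hf'⟩

end Cfsg.Agent.S5747
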