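import Cfsg.Statements.S5751
import Cfsg.Agent.Lib.Chev.DataE8
import Cfsg.Agent.Lib.ChevLevel.E8Node

set_option autoImplicit false
open Cfsg

namespace Cfsg.Agent.S5751

open Cfsg.Lie Cfsg.Agent.Chev Cfsg.Agent.ChevBN Cfsg.Agent.ChevLevel

section Abstract

variable {Γ : Type*} [Group Γ]

/-- The descending sequence of cores attached to `M` and `n`. -/
def coreSeq (M : Subgroup Γ) (n : Γ) : ℕ → Subgroup Γ
  | 0 => M
  | i + 1 => (((coreSeq M n i) ⊓ (coreSeq M n i).map (MulAut.conj n).toMonoidHom).subgroupOf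
      M).normalCore.map M.subtype

theorem mem_core_map {M Y : Subgroup Γ} {x : Γ} :
    x ∈ ((Y.subgroupOf M).normalCore.map M.subtype) ↔ x ∈ M ∧ ∀ p ∈ M, p * x * p⁻¹ ∈ Y := by
  constructor
  · rintro ⟨y, hy, rfl⟩
    exact ⟨y.2, fun p hp => hy ⟨p, hp⟩⟩
  · rintro ⟨hx, h⟩
    exact ⟨⟨x, hx⟩, fun p => h p.1 p.2, rfl⟩

theorem mem_map_conj {n : Γ} (hn : n * n = 1) {Y : Subgroup Γ} {x : Γ} :
    x ∈ Y.map (MulAut.conj n).toMonoidHom ↔ n * x * n ∈ Y := by
  have hi : n⁻¹ = n := inv_eq_of_mul_eq_one_right hn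
  constructor
  · rintro ⟨y, hy, rfl⟩
    simp only [MulEquiv.coe_toMonoidHom, MulAut.conj_apply, hi]
    rwa [show n * (n * y * n) * n = (n * n) * y * (n * n) by group, hn, one_mul, mul_one]
  · intro h
    refine ⟨_, h, ?_⟩
    simp only [MulEquiv.coe_toMonoidHom, MulAut.conj_apply, hi]
    rw [show n * (n * x * n) * n = (n * n) * x * (n * n) by group, hn, one_mul, mul_one]

theorem mem_coreSeq_succ {M : Subgroup Γ} {n : Γ} (hn : n * n = 1) {i : ℕ} {x : Γ} :
    x ∈ coreSeq M n (i + 1) ↔ x ∈ M ∧ ∀ p ∈ M,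
      p * x * p⁻¹ ∈ coreSeq M n i ∧ n * (p * x * p⁻¹) * n ∈ coreSeq M n i := by
  rw [coreSeq, mem_core_map]
  simp only [Subgroup.mem_inf, mem_map_conj hn]

theorem conj_coreSeq {M : Subgroup Γ} {n : Γ} (hn : n * n = 1) {i : ℕ} {x p : Γ}
    (hx : x ∈ coreSeq M n (i + 1)) (hp : p ∈ M) : p * x * p⁻¹ ∈ coreSeq M n (i + 1) := by
  rw [mem_coreSeq_succ hn] at hx ⊢
  refine ⟨mul_mem (mul_mem hp hx.1) (inv_mem hp), fun q hq => ?_⟩
  have := hx.2 (q * p) (mul_mem hq hp)
  rwa [show q * p * x * (q * p)⁻¹ = q * (p * x * p⁻¹) * q⁻¹ by group] at this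

theorem exists_sequences {M : Subgroup Γ} {n : Γ} (hn : n * n = 1) (hM : IsCoatom M)
    (h6 : coreSeq M n 6 = ⊥) (h5 : coreSeq M n 5 ≠ ⊥) :
    ∃ (M₁ M₂ : Subgroup Γ) (g : Γ) (A B : ℕ → Subgroup Γ),
      IsCoatom M₁ ∧ M₂ = M₁.map (MulAut.conj g).toMonoidHom ∧ M₁ ≠ M₂ ∧ M₁.normalCore = ⊥ ∧
      A 0 = M₁ ∧ B 0 = M₂ ∧
      (∀ i, A (i + 1) = ((A i ⊓ B i).subgroupOf M₁).normalCore.map M₁.subtype) ∧
      (∀ i, B (i + 1) = ((A i ⊓ B i).subgroupOf M₂).normalCore.map M₂.subtype) ∧ A 6 = ⊥ ∧ A 5 ≠ ⊥ := by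
  refine ⟨M, M.map (MulAut.conj n).toMonoidHom, n, coreSeq M n,
    fun i => (coreSeq M n i).map (MulAut.conj n).toMonoidHom, hM, rfl, ?_, ?_, rfl, rfl,
    fun i => rfl, fun i => ?_, h6, h5⟩
  · intro heq
    have hall : ∀ i, M ≤ coreSeq M n i := by
      intro i
      induction i with
      | zero => exact le_rfl
      | succ i ih =>
        intro x hx
        refine (mem_coreSeq_succ hn).2 ⟨hx, fun p hp => ?_⟩
        have h1 : p * x * p⁻¹ ∈ M := mul_mem (mul_mem hp hx) (inv_mem hp)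
        refine ⟨ih h1, ih ?_⟩
        rw [heq] at h1
        exact (mem_map_conj hn).1 h1
    have hbot : M = ⊥ := le_bot_iff.1 (h6 ▸ hall 6)
    exact h5 (le_bot_iff.1 fun x hx => by
      have := ((mem_coreSeq_succ hn).1 hx).1
      rwa [hbot] at this)
  · have hall : ∀ i, M.normalCore ≤ coreSeq M n i := by
      intro i
      induction i with
      | zero => exact Subgroup.normalCore_le M
      | succ i ih =>
        intro x hx
        refine (mem_coreSeq_succ hn).2 ⟨Subgroup.normalCore_le M hx, fun p _ => ?_⟩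
        have h1 := (Subgroup.normalCore_normal M).conj_mem x hx p
        refine ⟨ih h1, ih ?_⟩
        have h2 := (Subgroup.normalCore_normal M).conj_mem _ h1 n
        rwa [inv_eq_of_mul_eq_one_right hn] at h2
    exact le_bot_iff.1 (h6 ▸ hall 6)
  · have hi : n⁻¹ = n := inv_eq_of_mul_eq_one_right hn
    ext x
    rw [mem_map_conj hn, mem_coreSeq_succ hn, mem_core_map, mem_map_conj hn]
    have hnn : ∀ z : Γ, n * (n * z) = z := fun z => by rw [← mul_assoc, hn, one_mul]
    refine and_congr_right fun _ => ⟨fun h q hq => ?_, fun h p hp => ?_⟩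
    · rw [mem_map_conj hn] at hq
      have h1 := h _ hq
      rw [Subgroup.mem_inf, mem_map_conj hn]
      rw [show n * q * n * (n * x * n) * (n * q * n)⁻¹ = n * (q * x * q⁻¹) * n by
        simp only [_root_.mul_inv_rev, hi, mul_assoc, hnn]] at h1
      refine ⟨?_, h1.1⟩
      have h2 := h1.2
      rwa [show n * (n * (q * x * q⁻¹) * n) * n = q * x * q⁻¹ by
        simp only [mul_assoc, hn, mul_one, hnn]] at h2
    · have h1 := h (n * p * n) (by
        rw [mem_map_conj hn]
        simpa only [mul_assoc, hn, mul_one, hnn] using hp)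
      rw [Subgroup.mem_inf, mem_map_conj hn,
        show n * p * n * x * (n * p * n)⁻¹ = n * (p * (n * x * n) * p⁻¹) * n by
          simp only [_root_.mul_inv_rev, hi, mul_assoc]] at h1
      refine ⟨?_, h1.1⟩
      have h2 := h1.2
      rwa [show n * (n * (p * (n * x * n) * p⁻¹) * n) * n = p * (n * x * n) * p⁻¹ by
        simp only [mul_assoc, hn, mul_one, hnn]] at h2

end Abstract

variable {D : ChevalleyDatum} {M : List (List ℤ)} {j : ℕ} {m C : ℤ} {wp wm : List (List ℕ)}
  {F : Type*} [Field F]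

theorem main (hD : Good D) (hR : Roots D M 1) (hj : j < D.rank) (hF : ∀ t : F, t ≠ 0 → t = 1)
    (hT : Tables D M j m C wp wm) (htop : ∀ r < D.nroots, lev D M j r ≤ 6)
    {r₀ : ℕ} (hr₀ : r₀ < D.nroots) (hlev₀ : lev D M j r₀ = 6) :
    ∃ (M₁ M₂ : Subgroup (D.group F)) (g : D.group F) (A B : ℕ → Subgroup (D.group F)),
      IsCoatom M₁ ∧ M₂ = M₁.map (MulAut.conj g).toMonoidHom ∧ M₁ ≠ M₂ ∧ M₁.normalCore = ⊥ ∧
      A 0 = M₁ ∧ B 0 = M₂ ∧
      (∀ i, A (i + 1) = ((A i ⊓ B i).subgroupOf M₁).normalCore.map M₁.subtype) ∧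
      (∀ i, B (i + 1) = ((A i ⊓ B i).subgroupOf M₂).normalCore.map M₂.subtype) ∧ A 6 = ⊥ ∧ A 5 ≠ ⊥ := by
  let n : D.group F := ⟨ng hD F (D.simple j) 1,
    mul_mem (mul_mem (xg_mem_group hD _ _) (xg_mem_group hD _ _)) (xg_mem_group hD _ _)⟩
  have hn : n * n = 1 := Subtype.ext (ng_sq hD hF (D.simple j))
  set P₀ : Subgroup (D.group F) := (L D M j F 0).subgroupOf (D.group F) with hP₀
  refine exists_sequences hn (M := P₀) ?_ ?_ ?_
  · -- maximality
    obtain ⟨P, hB, -, hS⟩ := exists_bnPair hD hR (F := F)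
    have hBle : P.B ≤ P₀ := by
      rw [hB]
      intro x hx
      exact borel_le_L_zero hD hR hj hF (show (x : GL D.Idx F) ∈ D.borelSubgroup F from hx)
    have hnS : n ∈ P.S := by rw [hS]; exact ⟨j, hj, coe_ng hD _ _⟩
    have hnP : n ∉ P₀ := fun h => ng_not_mem_rz hD (isLin_lev hD) hj
      (by rw [lev, hR.dual j hj j hj, if_pos rfl]; exact one_pos)
      (L_le_raises hD hR (odd2 hT) 0 (show (n : GL D.Idx F) ∈ L D M j F 0 from h))
    have hSP : ∀ s ∈ P.S, s ≠ n → s ∈ P₀ := by
      intro s hs hsn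
      rw [hS] at hs
      obtain ⟨k, hk, e⟩ := hs
      obtain he : (s : GL D.Idx F) = ng hD F (D.simple k) 1 := Units.ext (e.trans (coe_ng hD _ _).symm)
      have hkj : k ≠ j := fun h => hsn (Subtype.ext (by rw [he, h]))
      show (s : GL D.Idx F) ∈ L D M j F 0
      rw [he]
      exact ng_mem_L_zero hD hR hj hk hkj
    refine ⟨fun h => hnP (h ▸ Subgroup.mem_top n), fun K hK => ?_⟩
    by_cases hnK : n ∈ K
    · have hSK : P.S ⊆ K := fun s hs => by
        by_cases h : s = n
        · exact h ▸ hnK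
        · exact hK.le (hSP s hs h)
      rw [eq_top_iff, BN.eq_parabolic_of_le P (M := (⊤ : Subgroup (D.group F))) le_top]
      exact sup_le (hBle.trans hK.le) ((Subgroup.closure_le _).2 fun s hs => hSK hs.1)
    · refine absurd ?_ hK.not_ge
      rw [BN.eq_parabolic_of_le P (hBle.trans hK.le)]
      exact sup_le hBle ((Subgroup.closure_le _).2 fun s hs => hSP s hs.1 fun h => hnK (h ▸ hs.2))
  · -- the sixth term is trivial
    have hup : ∀ i, ∀ a ∈ coreSeq P₀ n (i + 1), (a : GL D.Idx F) ∈ L D M j F (i + 2) := by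
      intro i
      induction i with
      | zero =>
        set A := (coreSeq P₀ n 1).map (D.group F).subtype
        have hA0 : A ≤ L D M j F 0 := by
          rintro _ ⟨a, ha, rfl⟩
          exact ((mem_coreSeq_succ hn).1 ha).1
        have hconj : ∀ k < D.rank, k ≠ j → ∀ a ∈ A,
            ng hD F (D.simple k) 1 * a * ng hD F (D.simple k) 1 ∈ A := by
          rintro k hk hkj _ ⟨a, ha, rfl⟩
          let nk : D.group F := ⟨ng hD F (D.simple k) 1,
            mul_mem (mul_mem (xg_mem_group hD _ _) (xg_mem_group hD _ _)) (xg_mem_group hD _ _)⟩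
          refine ⟨nk * a * nk⁻¹, conj_coreSeq hn ha (ng_mem_L_zero hD hR hj hk hkj), ?_⟩
          have : (ng hD F (D.simple k) 1)⁻¹ = ng hD F (D.simple k) 1 :=
            inv_eq_of_mul_eq_one_right (ng_sq hD hF _)
          simp [nk, this]
        have hnA : ∀ a ∈ A, ng hD F (D.simple j) 1 * a * ng hD F (D.simple j) 1 ∈ L D M j F 0 := by
          rintro _ ⟨a, ha, rfl⟩
          have := (((mem_coreSeq_succ hn).1 ha).2 1 (one_mem _)).2
          rw [one_mul, inv_one, mul_one] at this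
          exact this
        intro a ha
        exact step hD hR hj hF hT le_rfl (Or.inl ⟨rfl, rfl⟩) (base hD hR hj hF hT hA0 hconj hnA)
          hconj hnA ⟨a, ha, rfl⟩
      | succ i ih =>
        set A := (coreSeq P₀ n (i + 2)).map (D.group F).subtype
        have hA0 : A ≤ L D M j F (i + 2) := by
          rintro _ ⟨a, ha, rfl⟩
          have := (((mem_coreSeq_succ hn).1 ha).2 1 (one_mem _)).1
          rw [one_mul, inv_one, mul_one] at this
          exact ih a this
        have hconj : ∀ k < D.rank, k ≠ j → ∀ a ∈ A,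
            ng hD F (D.simple k) 1 * a * ng hD F (D.simple k) 1 ∈ A := by
          rintro k hk hkj _ ⟨a, ha, rfl⟩
          let nk : D.group F := ⟨ng hD F (D.simple k) 1,
            mul_mem (mul_mem (xg_mem_group hD _ _) (xg_mem_group hD _ _)) (xg_mem_group hD _ _)⟩
          refine ⟨nk * a * nk⁻¹, conj_coreSeq hn ha (ng_mem_L_zero hD hR hj hk hkj), ?_⟩
          have : (ng hD F (D.simple k) 1)⁻¹ = ng hD F (D.simple k) 1 :=
            inv_eq_of_mul_eq_one_right (ng_sq hD hF _)
          simp [nk, this]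
        intro a ha
        refine step hD hR hj hF hT (l := i + 2) (by omega) (Or.inr ⟨by omega, rfl⟩) hA0 hconj ?_
          ⟨a, ha, rfl⟩
        rintro _ ⟨b, hb, rfl⟩
        have := (((mem_coreSeq_succ hn).1 hb).2 1 (one_mem _)).2
        rw [one_mul, inv_one, mul_one] at this
        exact ih _ this
    rw [eq_bot_iff]
    intro a ha
    have h7 : L D M j F 7 ≤ ⊥ := (Subgroup.closure_le _).2 fun g ⟨r, t, hr, h, _⟩ => by
      have := htop r hr; push_cast at h; omega
    exact Subtype.ext (Subgroup.mem_bot.1 (h7 (hup 5 a ha)))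
  · -- the fifth term is not
    have hlow : ∀ i, ∀ a : D.group F, (a : GL D.Idx F) ∈ L D M j F (i + 1) → a ∈ coreSeq P₀ n i := by
      intro i
      induction i with
      | zero => exact fun a ha => L_anti (Nat.zero_le 1) ha
      | succ i ih =>
        intro a ha
        refine (mem_coreSeq_succ hn).2 ⟨L_anti (Nat.zero_le _) ha, fun p hp => ?_⟩
        have h1 := conj_mem_L hD (show 1 ≤ i + 2 by omega)
          (show (p : GL D.Idx F) ∈ L D M j F 0 from hp) ha
        exact ⟨ih _ (L_anti (by omega) h1),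
          ih _ (conj_L_succ hD hj hT (by omega) (ng_sq hD hF _) h1)⟩
    intro h5
    let x : D.group F := ⟨xg hD F r₀ 1, xg_mem_group hD _ _⟩
    have hx := hlow 5 x (xg_mem_L hD hr₀ (le_of_eq hlev₀.symm) 1)
    rw [h5, Subgroup.mem_bot] at hx
    exact x_one_ne_one hD hr₀ (congrArg Subtype.val hx)

/-- An extremal example for iterated cores of conjugate maximal subgroups: there exist a finite group G and two distinct conjugate maximal subgroups M₁, M₂ of G, with M₁ having trivial core in G, such that, if we define two descending sequences of subgroups by A₀ = M₁, B₀ = M₂ and, for every i, A_{i+1} = the core in M₁ of A_i ∩ B_i and B_{i+1} = the core in M₂ of A_i ∩ B_i (the core in M of a subgroup Y ≤ M is the largest normal subgroup of M contained in Y), the subgroup A₆ is trivial while A₅ is not (so the index 6 cannot be lowered to 5). (One example is a maximal parabolic subgroup of the Chevalley group of type E₈ over a finite field and a suitable conjugate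 of it.) -/
theorem result :
    ∃ (G : Type) (_ : Group G) (_ : Finite G) (M₁ M₂ : Subgroup G) (g : G) (A B : ℕ → Subgroup G),
      IsCoatom M₁ ∧ M₂ = M₁.map (MulAut.conj g).toMonoidHom ∧ M₁ ≠ M₂ ∧ M₁.normalCore = ⊥ ∧ A 0 = M₁ ∧ B 0 = M₂ ∧
      (∀ i, A (i + 1) = ((A i ⊓ B i).subgroupOf M₁).normalCore.map M₁.subtype) ∧
      (∀ i, B (i + 1) = ((A i ⊓ B i).subgroupOf M₂).normalCore.map M₂.subtype) ∧ A 6 = ⊥ ∧ A 5 ≠ ⊥ := by
  have hF : ∀ t : ZMod 2, t ≠ 0 → t = 1 := by decide
  obtain ⟨h239, h6, htop⟩ := lev_top_E8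
  obtain ⟨M₁, M₂, g, A, B, h⟩ :=
    main (F := ZMod 2) DataE8.good rootsE8 (by decide : 3 < chevE8.rank) hF tablesE8 htop h239 h6
  exact ⟨_, inferInstance, inferInstance, M₁, M₂, g, A, B, h⟩

end Cfsg.Agent.S5751
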