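import Cfsg.Statements.S5753
import Cfsg.Agent.Lib.BinaryAffine.Setup

set_option autoImplicit false
open Cfsg

namespace Cfsg.Agent.S5753

/-- The binary primitive permutation groups of affine type (the known proof uses the classification of the finite simple groups). Let a finite group G act faithfully and primitively on a finite set Ω, with a non-trivial abelian normal subgroup, and suppose the action is binary: for every n ≥ 2 and all n-tuples I, J of points, if for every pair of positions some element of G carries the corresponding pair of entries of I to those of J, then a single element carries I to J. Then either Ω has a prime number of points and every point stabilizer has order at most 2, or Ω can be identified with a field E that is a quadratic extension of a subfield F in such a way that the permutations induced by G are exactly the maps x ↦ a·φ(x) + b with a ∈ E of norm 1 over F, φ an automorphism of E over F and b ∈ E (the affine group of the anisotropic plane orthogonal group). -/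
theorem result {G Ω : Type*} [Group G] [Finite G] [MulAction G Ω] [FaithfulSMul G Ω] [Fintype Ω]
    (hprim : MulAction.IsPreprimitive G Ω)
    (haff : ∃ N : Subgroup G, N.Normal ∧ N ≠ ⊥ ∧ IsMulCommutative ↥N)
    (hbin : ∀ (n : ℕ) (I J : Fin n → Ω), 2 ≤ n →
      (∀ i j : Fin n, i ≠ j → ∃ g : G, g • I i = J i ∧ g • I j = J j) → ∃ g : G, ∀ i, g • I i = J i) :
    ((Fintype.card Ω).Prime ∧ ∀ ω : Ω, Nat.card ↥(MulAction.stabilizer G ω) ≤ 2) ∨
    (∃ (F E : Type) (_ : Field F) (_ : Fintype F) (_ : Field E) (_ : Fintype E) (_ : Algebra F E) (e : Ω ≃ E),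
        Module.finrank F E = 2 ∧
        ∀ σ : Equiv.Perm Ω, σ ∈ (MulAction.toPermHom G Ω).range ↔
          ∃ (a b : E) (φ : E ≃ₐ[F] E), Algebra.norm F a = 1 ∧ ∀ ω : Ω, e (σ ω) = a * φ (e ω) + b) := by
  classical
  obtain ⟨ω₀, p, V, _, _, _, _, e, c, S, he0, htr, hsm⟩ :=
    Cfsg.Agent.BinaryAffine.exists_setting hprim haff hbin
  rcases S.dichotomy with ⟨hV, hH⟩ | ⟨s, t, P, htop⟩
  · refine Or.inl ⟨?_, fun ω => ?_⟩
    · rw [← Nat.card_eq_fintype_card, ← Nat.card_congr e]
      exact hV
    · obtain ⟨x, rfl⟩ := e.surjective ω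
      have hx : e x = c x • ω₀ := by rw [← he0, htr, zero_add]
      rw [← Nat.card_congr (MulAction.stabilizerEquivStabilizer hx).toEquiv]
      exact hH
  · obtain ⟨F, E, _, _, _, _, _, ev, hrank, hmodel, hmodel'⟩ := P.model htop
    refine Or.inr ⟨F, E, inferInstance, inferInstance, inferInstance, inferInstance, inferInstance,
      e.symm.trans ev.toEquiv, hrank, fun σ => ⟨?_, ?_⟩⟩
    · rintro ⟨g, rfl⟩
      set b := e.symm (g • ω₀) with hb
      have hgb : g • ω₀ = c b • ω₀ := by
        rw [← he0, htr, zero_add, hb, e.apply_symm_apply, he0]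
      obtain ⟨a, φ, ha, hφ⟩ := hmodel ⟨(c b)⁻¹ * g, by
        rw [MulAction.mem_stabilizer_iff, mul_smul, inv_smul_eq_iff, hgb]⟩
      refine ⟨a, ev b, φ, ha, fun ω => ?_⟩
      obtain ⟨x, rfl⟩ := e.surjective ω
      simp only [MulAction.toPermHom_apply, MulAction.toPerm_apply, Equiv.trans_apply,
        AddEquiv.toEquiv_eq_coe, AddEquiv.coe_toEquiv, Equiv.symm_apply_apply]
      rw [← hφ, ← map_add]
      congr 1
      rw [Equiv.symm_apply_eq, ← htr, ← hsm, mul_smul, smul_inv_smul]
    · rintro ⟨a, b, φ, ha, hσ⟩
      obtain ⟨h, hh⟩ := hmodel' a φ ha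
      refine ⟨c (ev.symm b) * (h : G), Equiv.ext fun ω => ?_⟩
      obtain ⟨x, rfl⟩ := e.surjective ω
      have h1 := hσ (e x)
      simp only [Equiv.trans_apply, AddEquiv.toEquiv_eq_coe, AddEquiv.coe_toEquiv,
        Equiv.symm_apply_apply] at h1
      rw [← hh] at h1
      simp only [MulAction.toPermHom_apply, MulAction.toPerm_apply, mul_smul]
      rw [hsm, htr, ← Equiv.eq_symm_apply]
      apply ev.injective
      rw [map_add, ev.apply_symm_apply, h1]

end Cfsg.Agent.S5753
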