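import Cfsg.Statements.S5754
import Cfsg.Agent.EqLemmas

set_option autoImplicit false
open Cfsg

namespace Cfsg.Agent.S5754


open QuadraticMap in
theorem exists_reflection {F V : Type*} [Field F] [AddCommGroup V] [Module F V]
    (Q : QuadraticForm F V) (w : V) (hw : Q w ≠ 0) :
    ∃ r : Q.IsometryEquiv Q, ∀ x, r x = x - (polar Q x w / Q w) • w := by
  let f : V →ₗ[F] V :=
    { toFun := fun x => x - (polar Q x w / Q w) • w
      map_add' := fun x y => by rw [polar_add_left, add_div, add_smul]; abel
      map_smul' := fun c x => by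
        rw [RingHom.id_apply, polar_smul_left, smul_sub, smul_smul, smul_eq_mul, mul_div_assoc] }
  have hinv : Function.Involutive f := by
    intro x
    show (x - (polar Q x w / Q w) • w) - (polar Q (x - (polar Q x w / Q w) • w) w / Q w) • w = x
    rw [polar_sub_left, polar_smul_left, polar_self, smul_eq_mul, nsmul_eq_mul, Nat.cast_ofNat, sub_sub, ← add_smul]
    have : polar Q x w / Q w + (polar Q x w - polar Q x w / Q w * (2 * Q w)) / Q w = 0 := by
      field_simp; ring
    rw [this, zero_smul, sub_zero]
  refine ⟨⟨LinearEquiv.ofInvolutive f hinv, fun x => ?_⟩, fun x => rfl⟩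
  show Q (x - (polar Q x w / Q w) • w) = Q x
  rw [sub_eq_add_neg, ← neg_smul, QuadraticMap.map_add Q, QuadraticMap.map_smul, polar_smul_right]
  simp only [smul_eq_mul]
  field_simp
  ring

open QuadraticMap in
theorem exists_isometry {F V : Type*} [Field F] [AddCommGroup V] [Module F V]
    (Q : QuadraticForm F V) (hQ : Q.Anisotropic) {n : ℕ} (a b : Fin n → V)
    (h1 : ∀ i, Q (a i) = Q (b i)) (h2 : ∀ i j, Q (a i - a j) = Q (b i - b j)) :
    ∀ k : ℕ, k ≤ n → ∃ φ : Q.IsometryEquiv Q, ∀ i : Fin n, (i : ℕ) < k → φ (a i) = b i := by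
  intro k
  induction k with
  | zero => exact fun _ => ⟨QuadraticMap.IsometryEquiv.refl Q, fun i hi => absurd hi (by omega)⟩
  | succ k ih =>
    intro hk
    obtain ⟨φ, hφ⟩ := ih (by omega)
    set j : Fin n := ⟨k, by omega⟩ with hj
    by_cases heq : φ (a j) = b j
    · refine ⟨φ, fun i hi => ?_⟩
      by_cases h : (i : ℕ) < k
      · exact hφ i h
      · rw [show i = j from Fin.ext (by simp [hj]; omega)]; exact heq
    · set w := φ (a j) - b j with hw
      have hw0 : Q w ≠ 0 := fun h => heq (sub_eq_zero.1 (hQ w h))
      obtain ⟨r, hr⟩ := exists_reflection Q w hw0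
      refine ⟨φ.trans r, fun i hi => ?_⟩
      show r (φ (a i)) = b i
      rw [hr]
      by_cases h : (i : ℕ) < k
      · rw [hφ i h]
        have hp : polar Q (b i) w = 0 := by
          have e1 := QuadraticMap.map_add Q (b i - φ (a j)) w
          have hs : ∀ x y : V, polar Q x y = Q x + Q y - Q (x - y) := by
            intro x y
            have e := QuadraticMap.map_add Q (x - y) y
            rw [sub_add_cancel, polar_sub_left, polar_self, nsmul_eq_mul, Nat.cast_ofNat] at e
            linear_combination -e
          have hd : Q (b i - φ (a j)) = Q (b i - b j) := by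
            have e := φ.map_app (a i - a j)
            rw [map_sub, hφ i h, h2] at e
            exact e
          rw [hw, polar_sub_right, hs, hs, φ.map_app, h1 j, hd, sub_self]
        simp [hp]
      · rw [show i = j from Fin.ext (by simp [hj]; omega)]
        have hc : polar Q (φ (a j)) w = Q w := by
          have e := QuadraticMap.map_add Q (φ (a j)) (-(w))
          rw [← sub_eq_add_neg, hw, sub_sub_cancel, QuadraticMap.map_neg, polar_neg_right,
            φ.map_app, h1 j] at e
          rw [hw]
          linear_combination e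
        rw [hc, div_self hw0, one_smul, hw, sub_sub_cancel]

/-- Let V be a finite-dimensional vector space over a finite field F carrying an anisotropic quadratic form Q (Q(v) = 0 only for v = 0). Then the group of all maps v ↦ φ(v) + c, with φ an isometry of Q and c ∈ V, acts on V as a binary permutation group: given n ≥ 2 and two n-tuples u, u' of vectors such that every pair of corresponding entries of u is carried to that of u' by such a map, one such map carries u to u'. -/
theorem result {F V : Type*} [Field F] [Finite F] [AddCommGroup V] [Module F V] [Module.Finite F V]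
    (Q : QuadraticForm F V) (hQ : Q.Anisotropic) (n : ℕ) (hn : 2 ≤ n) (u u' : Fin n → V)
    (h2 : ∀ i j : Fin n, i ≠ j → ∃ (φ : Q.IsometryEquiv Q) (c : V), φ (u i) + c = u' i ∧ φ (u j) + c = u' j) :
    ∃ (φ : Q.IsometryEquiv Q) (c : V), ∀ i, φ (u i) + c = u' i := by
  let j₀ : Fin n := ⟨0, by omega⟩
  obtain ⟨φ, hφ⟩ := exists_isometry Q hQ (fun i => u i - u j₀) (fun i => u' i - u' j₀)
    (fun i => by
      by_cases hi : i = j₀
      · subst hi; simp
      · obtain ⟨ψ, c, e1, e2⟩ := h2 i j₀ hi
        rw [← e1, ← e2, add_sub_add_right_eq_sub, ← map_sub, ψ.map_app])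
    (fun i k => by
      simp only [sub_sub_sub_cancel_right]
      by_cases hi : i = k
      · subst hi; simp
      · obtain ⟨ψ, c, e1, e2⟩ := h2 i k hi
        rw [← e1, ← e2, add_sub_add_right_eq_sub, ← map_sub, ψ.map_app])
    n le_rfl
  refine ⟨φ, u' j₀ - φ (u j₀), fun i => ?_⟩
  have := hφ i i.2
  rw [map_sub] at this
  rw [add_sub_left_comm, this]
  abel

end Cfsg.Agent.S5754
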