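import Cfsg.Statements.S5763
import Cfsg.Agent.EqLemmas

set_option autoImplicit false
open Cfsg

namespace Cfsg.Agent.S5763


set_option linter.style.longLine false

/-- Evaluation of a map of eight points coded in base 8. -/
def ev (p : ℕ) (i : Fin 8) : Fin 8 := ⟨p / 8 ^ (i : ℕ) % 8, Nat.mod_lt _ (by norm_num)⟩

def flip1 (i : Fin 8) : Fin 8 :=
  ⟨if (i : ℕ) % 2 = 0 then (i + 1 : ℕ) % 8 else (i - 1 : ℕ), by split_ifs <;> omega⟩

def flip2 (i : Fin 8) : Fin 8 :=
  ⟨if (i : ℕ) % 4 < 2 then (i + 2 : ℕ) % 8 else (i - 2 : ℕ), by split_ifs <;> omega⟩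

def pairOf (i : Fin 8) : ℕ := (i : ℕ) / 2

/-- Compatibility with the binary tree of the eight points. -/
def treeP (f : Fin 8 → Fin 8) : Prop :=
  ∀ a, f (flip1 a) = flip1 (f a) ∧ pairOf (f (flip2 a)) = pairOf (flip2 (f a))

instance (f : Fin 8 → Fin 8) : Decidable (treeP f) :=
  inferInstanceAs (Decidable (∀ a, _ ∧ _))

theorem flip2_pair : ∀ a b : Fin 8, pairOf a = pairOf b → pairOf (flip2 a) = pairOf (flip2 b) := by
  decide +kernel

theorem treeP_comp {f g : Fin 8 → Fin 8} (hf : treeP f) (hg : treeP g) : treeP (f ∘ g) := by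
  intro a
  refine ⟨by simp only [Function.comp_apply, (hg a).1, (hf (g a)).1], ?_⟩
  have key : ∀ b c, pairOf b = pairOf c → pairOf (f b) = pairOf (f c) := by
    intro b c h
    have : c = b ∨ c = flip1 b := by
      revert b c; decide +kernel
    rcases this with rfl | rfl
    · rfl
    · rw [(hf b).1]
      have : ∀ d : Fin 8, pairOf d = pairOf (flip1 d) := by decide +kernel
      exact this _
  simp only [Function.comp_apply]
  rw [key _ _ (hg a).2, (hf (g a)).2]

/-- The stabiliser of the binary tree: a Sylow 2-subgroup. -/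
def treeGroup : Subgroup (Equiv.Perm (Fin 8)) :=
  { ({ carrier := {σ : Equiv.Perm (Fin 8) | treeP σ}
       mul_mem' := fun {a b} ha hb => treeP_comp ha hb
       one_mem' := fun _ => ⟨rfl, rfl⟩ } : Submonoid (Equiv.Perm (Fin 8))) with
    inv_mem' := fun {a} ha => by
      have h : a⁻¹ = a ^ (orderOf a - 1) := by
        apply inv_eq_of_mul_eq_one_right
        rw [← pow_succ', Nat.sub_add_cancel (orderOf_pos a), pow_orderOf_eq_one]
      rw [h]
      exact pow_mem (S := ({ carrier := {σ : Equiv.Perm (Fin 8) | treeP σ}
                             mul_mem' := fun {a b} ha hb => treeP_comp ha hb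
                             one_mem' := fun _ => ⟨rfl, rfl⟩ } : Submonoid (Equiv.Perm (Fin 8)))) ha _ }

theorem mem_treeGroup {σ : Equiv.Perm (Fin 8)} : σ ∈ treeGroup ↔ treeP σ := Iff.rfl

def tbl0 : List (ℕ × ℕ × ℕ × ℕ × ℕ) :=
  [(16434824, 16434824, 14599816, 0, 1),
   (2054353, 14038087, 6852524, 2, 3),
   (4151504, 14038136, 6823845, 1, 4),
   (2353946, 11641406, 14599816, 3, 5),
   (4451097, 11641798, 14599816, 6, 7),
   (4488547, 9245173, 6852524, 8, 0),
   (4713240, 11641840, 14599816, 4, 9),
   (6585698, 9248309, 5017068, 10, 11),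
   (4259171, 9245166, 6823845, 5, 12),
   (6847841, 9248645, 16434376, 13, 14),
   (6356322, 9248302, 4988389, 7, 15),
   (8949675, 6877612, 14599816, 11, 16),
   (6623148, 6852468, 14599816, 17, 18),
   (6880608, 9248680, 16434376, 9, 19),
   (9211818, 6880300, 14599816, 14, 20),
   (8720299, 6877556, 14599816, 21, 22),
   (11342324, 4689251, 6823845, 23, 24),
   (6365100, 6852454, 14599816, 12, 25),
   (9015797, 4488099, 5017068, 26, 27),
   (9244585, 6880580, 14599816, 28, 29),
   (11604467, 4710755, 16406152, 30, 31),
   (8462251, 6877542, 14599816, 15, 32),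
   (11112948, 4688803, 4988389, 33, 34),
   (11338740, 4689244, 6852524, 16, 35),
   (13738557, 3959578, 11789960, 24, 36),
   (8757749, 4487987, 16434376, 37, 38),
   (9012213, 4488092, 4988389, 18, 39),
   (11412030, 2350362, 14599816, 27, 40),
   (9248680, 6880608, 14599816, 19, 41),
   (11637234, 4712995, 16406152, 42, 43),
   (11600883, 4710748, 16406152, 20, 44),
   (14000700, 4131610, 9926280, 31, 45),
   (10854900, 4688691, 16434376, 46, 47),
   (11109364, 4688796, 5017068, 22, 48),
   (13509181, 3955994, 11789512, 34, 49),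
   (13734973, 3959522, 11789960, 50, 51),
   (16135238, 14899409, 5017068, 52, 53),
   (8496117, 4487966, 16434376, 25, 54),
   (11153982, 2349466, 14599816, 38, 55),
   (11408446, 2350306, 14599816, 56, 57),
   (13808711, 2025681, 6823845, 58, 59),
   (11641329, 4713219, 16406152, 60, 61),
   (11633650, 4712988, 16406152, 29, 62),
   (14033467, 4149530, 16434817, 43, 21),
   (13997116, 4131554, 9926280, 63, 64)]

def tbl1 : List (ℕ × ℕ × ℕ × ℕ × ℕ) :=
  [(16397381, 16275665, 14599816, 65, 66),
   (10593268, 4688670, 16434376, 32, 67),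
   (13251133, 3955098, 11789512, 47, 68),
   (13505597, 3955938, 11788826, 69, 70),
   (15905862, 14870737, 4988389, 71, 72),
   (13730941, 3959508, 11789960, 35, 73),
   (16131654, 14898961, 6852524, 74, 75),
   (16135182, 14899402, 4988389, 36, 76),
   (1754767, 1754767, 16406152, 77, 2),
   (10892350, 2349298, 14599816, 78, 79),
   (13550663, 2018513, 16406152, 80, 81),
   (11404414, 2350292, 14599816, 39, 82),
   (13805127, 2025233, 4988389, 83, 84),
   (13808655, 2025674, 6852524, 40, 85),
   (16205448, 16205448, 14571144, 59, 86),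
   (11641840, 4713240, 16406152, 41, 8),
   (14037562, 4151322, 16434817, 61, 17),
   (14029883, 4149474, 2177406, 87, 88),
   (13993084, 4131540, 9926280, 44, 89),
   (16393797, 16275217, 14599816, 90, 91),
   (16397325, 16275658, 14599816, 45, 92),
   (2016910, 12764815, 16406152, 93, 94),
   (12989501, 3954930, 11788826, 95, 96),
   (15647814, 14863569, 16406152, 97, 13),
   (13501565, 3955924, 11788371, 48, 98),
   (15902278, 14870289, 6823845, 99, 100),
   (15905806, 14870730, 5017068, 49, 101),
   (1525391, 1525391, 16434376, 82, 102),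
   (16127622, 14898849, 16434376, 103, 104),
   (16131598, 14898954, 6823845, 51, 105),
   (1751183, 1751183, 14570689, 106, 23),
   (1754711, 1754711, 16406152, 107, 26),
   (3851911, 1754809, 16406152, 53, 108),
   (10630270, 2349270, 14599816, 54, 77),
   (13289031, 2017169, 16406152, 109, 110),
   (13550607, 2018506, 16406152, 55, 111),
   (15947400, 16148104, 14571144, 81, 28),
   (13801095, 2025121, 16434376, 72, 112),
   (13805071, 2025226, 5017068, 57, 113),
   (16201864, 16201864, 16434817, 84, 114),
   (16205392, 16205392, 14571144, 115, 116),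
   (1824977, 12203079, 5017068, 102, 60),
   (14025851, 4149460, 342391, 62, 117),
   (16426564, 16418577, 14599816, 118, 119),
   (16389765, 16275105, 14599816, 120, 121)]

def tbl2 : List (ℕ × ℕ × ℕ × ℕ × ℕ) :=
  [(16393741, 16275210, 14599816, 64, 122),
   (2013326, 12761231, 14570689, 123, 124),
   (2016854, 12764759, 16406152, 125, 126),
   (4114054, 12764857, 16406152, 66, 127),
   (2316503, 1455230, 9925832, 94, 6),
   (12727421, 3954902, 11788371, 67, 93),
   (15386182, 14862225, 16406152, 128, 129),
   (15647758, 14863562, 16406152, 68, 130),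
   (15898246, 14870177, 16434376, 131, 132),
   (15902222, 14870282, 6852524, 70, 133),
   (1521807, 1521807, 11789505, 134, 135),
   (1525335, 1525335, 342391, 136, 137),
   (3922128, 12203128, 4988389, 86, 138),
   (16123534, 14898828, 16434376, 73, 139),
   (1747151, 1750287, 14570689, 140, 30),
   (1751127, 1751127, 11789505, 141, 33),
   (3848327, 1751225, 14570689, 75, 142),
   (3851799, 1754746, 16406152, 76, 143),
   (6248648, 14038472, 16434817, 108, 144),
   (13288975, 2017162, 16406152, 79, 145),
   (15685768, 16137352, 16434817, 110, 146),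
   (15947344, 16148048, 14571144, 147, 148),
   (16197832, 16200968, 16434817, 112, 149),
   (16201808, 16201808, 342391, 150, 151),
   (1821393, 12174407, 4988389, 135, 152),
   (16205329, 16205378, 14571144, 85, 153),
   (1824921, 12202631, 6852524, 137, 154),
   (16422532, 16418465, 14599816, 155, 156),
   (16426508, 16418570, 14599816, 88, 157),
   (2046093, 13908111, 11789505, 158, 159),
   (16385677, 16275084, 14599816, 89, 160),
   (2009294, 12760335, 14570689, 161, 162),
   (2013270, 12761175, 9925825, 163, 164),
   (4110470, 12761273, 14570689, 91, 165),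
   (2312919, 1426558, 11789512, 124, 50),
   (4113942, 12764794, 16406152, 92, 166),
   (2316447, 1454782, 9925832, 126, 56),
   (4413647, 1455566, 9925146, 167, 168),
   (15386126, 14862218, 16406152, 96, 169),
   (1005711, 1457295, 9924691, 170, 171),
   (1267287, 1467991, 371511, 172, 173),
   (15894158, 14870156, 16434376, 98, 174),
   (1517775, 1520911, 11789505, 175, 176),
   (1521751, 1521751, 14570689, 177, 178),
   (3618951, 1521849, 11789505, 100, 179)]

def tbl3 : List (ℕ × ℕ × ℕ × ℕ × ℕ) :=
  [(3918544, 12174456, 5017068, 114, 180),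
   (3622423, 1525370, 2177406, 101, 181),
   (3922072, 12202680, 6823845, 116, 182),
   (6056729, 13738949, 16406152, 183, 10),
   (1743063, 1750119, 9925825, 174, 42),
   (3844295, 1750329, 14570689, 104, 184),
   (3848215, 1751162, 11789505, 105, 185),
   (6245064, 14009800, 16434817, 142, 186),
   (6248536, 14037968, 2206526, 187, 188),
   (6548241, 11644486, 14599816, 168, 189),
   (15685712, 16137296, 2177406, 190, 191),
   (1305297, 11658311, 14599816, 171, 192),
   (15947281, 16148034, 14571144, 111, 155),
   (1566873, 11743879, 14599816, 173, 193),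
   (1817361, 12167239, 16406152, 176, 194),
   (16201745, 16201794, 2177406, 113, 195),
   (1821337, 12173959, 6823845, 178, 196),
   (3955994, 13509181, 16434376, 192, 52),
   (1824858, 12202519, 16434376, 197, 198),
   (3959522, 13734973, 16405704, 193, 58),
   (16418444, 16418444, 14599816, 117, 199),
   (2042061, 13907215, 11789505, 200, 201),
   (2046037, 13908055, 9925825, 202, 203),
   (4143237, 13908153, 11789505, 119, 204),
   (2345686, 10601598, 9925832, 159, 205),
   (2005206, 12760167, 11789505, 206, 207),
   (4106438, 12760377, 14570689, 121, 208),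
   (2308887, 1419390, 16406152, 162, 63),
   (4110358, 12761210, 9925825, 122, 209),
   (2312863, 1426110, 11789512, 164, 69),
   (4410063, 1426894, 11788826, 210, 211),
   (4413535, 1455062, 9925146, 212, 213),
   (4675783, 1455601, 9924691, 127, 214),
   (6810384, 11644528, 14599816, 144, 170),
   (1005655, 1457239, 9924691, 215, 216),
   (3102855, 1457337, 9925146, 129, 217),
   (3402448, 11658360, 14599816, 146, 218),
   (3364375, 1468026, 2206526, 130, 118),
   (3664024, 11743928, 14599816, 148, 219),
   (1513687, 1520743, 9925825, 139, 183),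
   (3614919, 1520953, 11789505, 132, 220),
   (3914512, 12167288, 16406152, 149, 215),
   (3618839, 1521786, 14570689, 133, 221),
   (3918488, 12174008, 6852524, 151, 222),
   (6015688, 12174792, 16434817, 179, 223)]

def tbl4 : List (ℕ × ℕ × ℕ × ℕ × ℕ) :=
  [(6053145, 13509573, 11788826, 224, 74),
   (6019160, 12202960, 371511, 225, 226),
   (6056673, 13735365, 11789505, 227, 83),
   (6089496, 13738984, 16406152, 138, 172),
   (6241032, 14002632, 16406152, 184, 228),
   (6244952, 14009296, 2177406, 229, 230),
   (6544657, 11415110, 11789960, 211, 231),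
   (6248473, 14037954, 371511, 143, 232),
   (6548129, 11640454, 14599816, 213, 233),
   (8682842, 9269813, 16434376, 194, 234),
   (15685649, 16137282, 342391, 145, 120),
   (1305241, 11657863, 14599816, 216, 235),
   (3439898, 9380413, 16434376, 152, 236),
   (3701474, 10064957, 16405704, 154, 237),
   (3951962, 13451837, 16434376, 189, 65),
   (1821274, 12173847, 16434376, 238, 206),
   (3955938, 13505597, 11789505, 235, 71),
   (3921946, 12202554, 16434376, 153, 239),
   (3959459, 13734077, 16405704, 199, 80),
   (2037973, 13907047, 16405704, 198, 240),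
   (4139205, 13907257, 11789505, 156, 241),
   (2341654, 10594430, 16406152, 201, 190),
   (4143125, 13908090, 9925825, 157, 242),
   (2345630, 10601150, 9925832, 203, 243),
   (4442830, 10601934, 9925146, 244, 229),
   (4480287, 926709, 371511, 245, 103),
   (4098262, 12760188, 11789505, 160, 97),
   (2304799, 1418046, 16406152, 207, 87),
   (4406031, 1419726, 16406152, 246, 247),
   (4409951, 1426390, 11788826, 223, 248),
   (4672199, 1426929, 11788371, 165, 249),
   (6806800, 11415152, 11789960, 186, 250),
   (4675615, 1455090, 9924691, 166, 251),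
   (6810272, 11640496, 14599816, 188, 134),
   (7072520, 11644808, 14599816, 214, 167),
   (3102743, 1457274, 9925146, 169, 90),
   (3402392, 11657912, 14599816, 191, 252),
   (5499592, 11658696, 14599816, 217, 210),
   (5537049, 9380805, 11788826, 253, 254),
   (5798625, 10065349, 9925825, 255, 256),
   (6011656, 12167624, 16406152, 220, 212),
   (6015576, 12174288, 342391, 257, 258),
   (6053089, 13505989, 14570689, 259, 99),
   (8150289, 13512261, 11788371, 209, 260),
   (6085912, 13509608, 11788371, 180, 261)]

def tbl5 : List (ℕ × ℕ × ℕ × ℕ × ℕ) :=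
  [(6019097, 12202946, 2206526, 181, 262),
   (8153761, 13737605, 11789505, 263, 264),
   (6089440, 13735400, 11789505, 182, 136),
   (6540625, 11357766, 9926280, 247, 265),
   (6244889, 14009282, 342391, 185, 266),
   (6544545, 11411078, 11788371, 248, 267),
   (8679258, 7434805, 16434376, 260, 161),
   (6548066, 11640342, 14599816, 268, 269),
   (8682730, 9237557, 9925825, 264, 270),
   (11046819, 7049644, 14599816, 234, 246),
   (3439842, 9376829, 11789505, 196, 271),
   (5803875, 7934444, 16434817, 236, 272),
   (6065451, 13410796, 16434817, 237, 115),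
   (3918362, 12173882, 16434376, 195, 273),
   (6056547, 13734357, 9925825, 274, 109),
   (2337566, 10593086, 16406152, 240, 147),
   (4438798, 10594766, 16406152, 272, 187),
   (4442718, 10601430, 9925146, 275, 257),
   (4480231, 923125, 2206526, 276, 131),
   (4704966, 10601969, 9924691, 204, 46),
   (4250911, 926702, 2206526, 205, 277),
   (4668167, 1419761, 16406152, 208, 278),
   (6802768, 11357808, 9926280, 228, 268),
   (6806688, 11411120, 11788826, 230, 279),
   (7068936, 11415432, 11789960, 249, 95),
   (8941401, 7435141, 11788826, 266, 123),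
   (7072352, 11640720, 14599816, 265, 175),
   (5536993, 9377221, 9925825, 280, 281),
   (5569816, 9380840, 11788371, 218, 282),
   (7901026, 7937580, 16434817, 254, 244),
   (5831392, 10065384, 9925825, 219, 283),
   (8162602, 13413932, 16434817, 256, 150),
   (6015513, 12174274, 2177406, 221, 284),
   (8150177, 13508229, 14570689, 285, 286),
   (6085856, 13506024, 14570689, 222, 287),
   (8449882, 7434798, 16434376, 231, 288),
   (6385505, 7413574, 371511, 277, 289),
   (8153698, 13737493, 9925825, 290, 291),
   (8186528, 13737640, 11789505, 226, 177),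
   (8453354, 9237550, 9925825, 233, 276),
   (8675226, 6976053, 14599816, 251, 140),
   (6544482, 11410966, 11788371, 250, 292),
   (8679146, 7402549, 11789505, 286, 280),
   (6810146, 11640370, 14599816, 232, 106),
   (8682667, 9236661, 9925825, 291, 293)]

def tbl6 : List (ℕ × ℕ × ℕ × ℕ × ℕ) :=
  [(11046707, 6791596, 16434817, 270, 294),
   (5803819, 7905772, 16434817, 271, 295),
   (8196524, 13143907, 16406152, 241, 37),
   (6052963, 13504981, 9925825, 288, 128),
   (6089251, 13734378, 9925825, 239, 107),
   (4704798, 10601458, 9924691, 242, 238),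
   (4250855, 923118, 371511, 243, 296),
   (6647648, 7413616, 2206526, 261, 297),
   (7064904, 11358088, 9926280, 278, 78),
   (8941289, 7402885, 9925825, 284, 163),
   (5569760, 9377256, 9925825, 252, 298),
   (7900970, 7908908, 16434817, 281, 275),
   (7933793, 7937860, 342391, 299, 300),
   (8195369, 13414212, 2206526, 295, 225),
   (8150114, 13508117, 9925825, 279, 301),
   (8182944, 13508264, 14570689, 258, 285),
   (8449770, 7402542, 11789505, 267, 259),
   (6385449, 7384902, 342391, 296, 302),
   (10842531, 9146739, 9925825, 273, 125),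
   (8778154, 8976947, 11789505, 303, 202),
   (8186402, 13737514, 9925825, 262, 141),
   (8453291, 9236654, 9925825, 269, 245),
   (8679083, 7401653, 11789505, 301, 253),
   (11046644, 6784428, 16434817, 293, 299),
   (13439356, 4001123, 2206526, 298, 304),
   (8196468, 12914531, 371511, 283, 197),
   (6647592, 7384944, 2177406, 287, 305),
   (9040297, 8977283, 9925825, 305, 255),
   (7933737, 7909188, 371511, 294, 306),
   (7937888, 7937888, 2177406, 282, 307),
   (10326442, 13171235, 9925146, 308, 158),
   (8449707, 7401646, 11789505, 292, 224),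
   (8778098, 8747571, 14570689, 309, 263),
   (8516522, 8976926, 11789505, 289, 310),
   (15836037, 15231769, 16434376, 307, 274),
   (9040241, 8747907, 9925825, 297, 227),
   (10326386, 12941859, 9925146, 311, 290),
   (10330537, 13171459, 16434376, 304, 200),
   (10322858, 13171228, 9924691, 300, 312),
   (8516466, 8747550, 14570689, 302, 313),
   (10880499, 4706548, 14599368, 312, 311),
   (10322802, 12941852, 9924691, 306, 314),
   (10622451, 4706534, 14599368, 310, 308),
   (10880443, 2871540, 14599368, 314, 309),
   (10622395, 2871526, 14599368, 313, 303)]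

def hElems : List (ℕ × ℕ) :=
  [(16434824, 16434824), (14599816, 14599816), (16406152, 16406152), (14571144, 14571144),
   (11789960, 11789960), (9954952, 11761288), (11761288, 9954952), (9926280, 9926280),
   (16434376, 16434376), (14599368, 14599368), (16405704, 16405704), (14570696, 14570696),
   (11789512, 11789512), (9954504, 11760840), (11760840, 9954504), (9925832, 9925832),
   (16434817, 16434817), (14599809, 14599809), (16406145, 16406145), (14571137, 14571137),
   (11789953, 11789953), (9954945, 11761281), (11761281, 9954945), (9926273, 9926273),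
   (16434369, 16434369), (14599361, 14599361), (16405697, 16405697), (14570689, 14570689),
   (11789505, 11789505), (9954497, 11760833), (11760833, 9954497), (9925825, 9925825),
   (16433690, 16433690), (14598682, 14598682), (16405018, 16405018), (14570010, 14570010),
   (11788826, 11788826), (9953818, 11760154), (11760154, 9953818), (9925146, 9925146),
   (16433242, 16433683), (14598234, 14598675), (16404570, 16405011), (14569562, 14570003),
   (11788378, 11788819), (9953370, 11760147), (11759706, 9953811), (9924698, 9925139),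
   (16433683, 16433242), (14598675, 14598234), (16405011, 16404570), (14570003, 14569562),
   (11788819, 11788378), (9953811, 11759706), (11760147, 9953370), (9925139, 9924698),
   (16433235, 16433235), (14598227, 14598227), (16404563, 16404563), (14569555, 14569555),
   (11788371, 11788371), (9953363, 11759699), (11759699, 9953363), (9924691, 9924691),
   (6852524, 6852524), (5017516, 6852076), (6823852, 6852517), (4988844, 6852069),
   (2207660, 6851390), (372652, 6851383), (2178988, 6850942), (343980, 6850935),
   (6852076, 5017516), (5017068, 5017068), (6823404, 5017509), (4988396, 5017061),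
   (2207212, 5016382), (372204, 5016375), (2178540, 5015934), (343532, 5015927),
   (6852517, 6823852), (5017509, 6823404), (6823845, 6823845), (4988837, 6823397),
   (2207653, 6822718), (372645, 6822711), (2178981, 6822270), (343973, 6822263),
   (6852069, 4988844), (5017061, 4988396), (6823397, 4988837), (4988389, 4988389),
   (2207205, 4987710), (372197, 4987703), (2178533, 4987262), (343525, 4987255),
   (6851390, 2207660), (5016382, 2207212), (6822718, 2207653), (4987710, 2207205),
   (2206526, 2206526), (371518, 2206519), (2177854, 2206078), (342846, 2206071),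
   (6850942, 2178988), (5015934, 2178540), (6822270, 2178981), (4987262, 2178533),
   (2206078, 2177854), (371070, 2177847), (2177406, 2177406), (342398, 2177399),
   (6851383, 372652), (5016375, 372204), (6822711, 372645), (4987703, 372197),
   (2206519, 371518), (371511, 371511), (2177847, 371070), (342839, 371063),
   (6850935, 343980), (5015927, 343532), (6822263, 343973), (4987255, 343525),
   (2206071, 342846), (371063, 342839), (2177399, 342398), (342391, 342391)]

def tbl : List (ℕ × ℕ × ℕ × ℕ × ℕ) := tbl0 ++ tbl1 ++ tbl2 ++ tbl3 ++ tbl4 ++ tbl5 ++ tbl6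

def idRow : ℕ × ℕ × ℕ × ℕ × ℕ := (0, 0, 0, 0, 0)

def gen0 (i : Fin 8) : Fin 8 :=
  ⟨if (i : ℕ) < 2 then 1 - (i : ℕ) else (i : ℕ), by split_ifs <;> omega⟩

def gen1 (i : Fin 8) : Fin 8 := ⟨((i : ℕ) + 1) % 8, Nat.mod_lt _ (by norm_num)⟩

/-- The check of one row: a coset representative with its inverse, a witness of the non-trivial
intersection, and the images of the coset under the two generators. -/
def rowOk (r : ℕ × ℕ × ℕ × ℕ × ℕ) : Bool :=
  decide (∀ a, ev r.2.1 (ev r.1 a) = a ∧ ev r.1 (ev r.2.1 a) = a) &&
  decide (Function.Injective (ev r.2.2.1)) &&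
  decide (treeP (ev r.2.2.1)) && decide (treeP (ev r.2.1 ∘ ev r.2.2.1 ∘ ev r.1)) &&
  decide (∃ a, ev r.2.2.1 a ≠ a) &&
  decide (r.2.2.2.1 < 315 ∧ r.2.2.2.2 < 315) &&
  decide (treeP (ev (tbl.getD r.2.2.2.1 idRow).2.1 ∘ gen0 ∘ ev r.1)) &&
  decide (treeP (ev (tbl.getD r.2.2.2.2 idRow).2.1 ∘ gen1 ∘ ev r.1))

set_option maxRecDepth 20000 in
theorem tbl0_ok : tbl0.all rowOk = true := by decide +kernel

set_option maxRecDepth 20000 in
theorem tbl1_ok : tbl1.all rowOk = true := by decide +kernel

set_option maxRecDepth 20000 in
theorem tbl2_ok : tbl2.all rowOk = true := by decide +kernel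

set_option maxRecDepth 20000 in
theorem tbl3_ok : tbl3.all rowOk = true := by decide +kernel

set_option maxRecDepth 20000 in
theorem tbl4_ok : tbl4.all rowOk = true := by decide +kernel

set_option maxRecDepth 20000 in
theorem tbl5_ok : tbl5.all rowOk = true := by decide +kernel

set_option maxRecDepth 20000 in
theorem tbl6_ok : tbl6.all rowOk = true := by decide +kernel

theorem tbl_length : tbl.length = 315 := by decide +kernel

theorem tbl_ok {r} (hr : r ∈ tbl) : rowOk r = true := by
  simp only [tbl, List.mem_append] at hr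
  rcases hr with (((((h | h) | h) | h) | h) | h) | h
  exacts [List.all_eq_true.1 tbl0_ok r h, List.all_eq_true.1 tbl1_ok r h,
    List.all_eq_true.1 tbl2_ok r h, List.all_eq_true.1 tbl3_ok r h,
    List.all_eq_true.1 tbl4_ok r h, List.all_eq_true.1 tbl5_ok r h, List.all_eq_true.1 tbl6_ok r h]

theorem tbl_spec (i : Fin 315) : rowOk (tbl.getD i idRow) = true := by
  have h : (i : ℕ) < tbl.length := tbl_length.symm ▸ i.2
  rw [List.getD_eq_getElem _ _ h]
  exact tbl_ok (List.getElem_mem h)

/-- The coset representatives. -/
def rep (i : Fin 315) : Equiv.Perm (Fin 8) where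
  toFun := ev (tbl.getD i idRow).1
  invFun := ev (tbl.getD i idRow).2.1
  left_inv a := by
    have h := tbl_spec i
    simp only [rowOk, Bool.and_eq_true, decide_eq_true_eq] at h
    exact (h.1.1.1.1.1.1.1 a).1
  right_inv a := by
    have h := tbl_spec i
    simp only [rowOk, Bool.and_eq_true, decide_eq_true_eq] at h
    exact (h.1.1.1.1.1.1.1 a).2

/-- The permutations moving every coset of the table to a coset of the table. -/
def stableSet : Submonoid (Equiv.Perm (Fin 8)) where
  carrier := {σ | ∀ i, ∃ j, (rep j)⁻¹ * σ * rep i ∈ treeGroup}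
  mul_mem' := by
    intro a b ha hb i
    obtain ⟨j, hj⟩ := hb i
    obtain ⟨k, hk⟩ := ha j
    exact ⟨k, by simpa [mul_assoc] using treeGroup.mul_mem hk hj⟩
  one_mem' := fun i => ⟨i, by simp⟩

theorem gen0_mem : Equiv.swap (0 : Fin 8) 1 ∈ stableSet := by
  intro i
  have h := tbl_spec i
  simp only [rowOk, Bool.and_eq_true, decide_eq_true_eq] at h
  refine ⟨⟨_, h.1.1.2.1⟩, ?_⟩
  rw [mem_treeGroup]
  have e : (gen0 : Fin 8 → Fin 8) = Equiv.swap (0 : Fin 8) 1 := by decide +kernel
  have := h.1.2
  rw [e] at this
  exact this

theorem gen1_mem : finRotate 8 ∈ stableSet := by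
  intro i
  have h := tbl_spec i
  simp only [rowOk, Bool.and_eq_true, decide_eq_true_eq] at h
  refine ⟨⟨_, h.1.1.2.2⟩, ?_⟩
  rw [mem_treeGroup]
  have e : (gen1 : Fin 8 → Fin 8) = finRotate 8 := by decide +kernel
  have := h.2
  rw [e] at this
  exact this

theorem stableSet_eq_top : stableSet = ⊤ := by
  have h : Subgroup.closure ({finRotate 8, Equiv.swap (0 : Fin 8) 1} : Set (Equiv.Perm (Fin 8))) = ⊤ := by
    have := Equiv.Perm.closure_cycle_adjacent_swap (σ := finRotate 8) isCycle_finRotate
      support_finRotate (0 : Fin 8)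
    simpa [finRotate_succ_apply] using this
  rw [eq_top_iff]
  intro σ _
  have hσ : σ ∈ (Subgroup.closure ({finRotate 8, Equiv.swap (0 : Fin 8) 1} : Set (Equiv.Perm (Fin 8)))).toSubmonoid := by
    rw [h]; trivial
  rw [Subgroup.closure_toSubmonoid_of_finite] at hσ
  refine Submonoid.closure_le.2 ?_ hσ
  rintro τ (rfl | rfl)
  exacts [gen1_mem, gen0_mem]

theorem inter_ne (x : Equiv.Perm (Fin 8)) :
    ∃ w ∈ treeGroup, w ≠ 1 ∧ x⁻¹ * w * x ∈ treeGroup := by
  have h0 : (rep ⟨0, by norm_num⟩) = 1 := by decide +kernel
  obtain ⟨j, hj⟩ := (stableSet_eq_top ▸ Submonoid.mem_top x : x ∈ stableSet) ⟨0, by norm_num⟩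
  rw [h0, mul_one] at hj
  have h := tbl_spec j
  simp only [rowOk, Bool.and_eq_true, decide_eq_true_eq] at h
  obtain ⟨⟨⟨⟨⟨⟨⟨-, hi⟩, hw⟩, hwx⟩, ⟨a, ha⟩⟩, -⟩, -⟩, -⟩ := h
  let w : Equiv.Perm (Fin 8) := Equiv.ofBijective _ (Finite.injective_iff_bijective.1 hi)
  refine ⟨w, hw, fun e => ha ?_, ?_⟩
  · exact Equiv.ext_iff.1 e a
  · have h1 : (rep j)⁻¹ * w * rep j ∈ treeGroup := hwx
    have h2 := treeGroup.mul_mem (treeGroup.mul_mem (treeGroup.inv_mem hj) h1) hj
    simpa [mul_assoc] using h2

theorem card_treeGroup : Nat.card treeGroup = 2 ^ 7 := by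
  apply le_antisymm
  · let code : treeGroup → Fin 8 × Bool × Fin 4 × Bool := fun h =>
      ((h : Equiv.Perm (Fin 8)) 0, decide (((h : Equiv.Perm (Fin 8)) 2 : ℕ) % 2 = 0),
        ⟨((h : Equiv.Perm (Fin 8)) 4 : ℕ) % 4, Nat.mod_lt _ (by norm_num)⟩,
        decide (((h : Equiv.Perm (Fin 8)) 6 : ℕ) % 2 = 0))
    have hc : Function.Injective code := by
      rintro ⟨g, hg⟩ ⟨g', hg'⟩ h
      simp only [code, Prod.mk.injEq, decide_eq_decide, Fin.mk.injEq] at h
      obtain ⟨e0, e2, e4, e6⟩ := h
      rw [mem_treeGroup] at hg hg'
      have p2 : g 2 = g' 2 := by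
        have a := (hg 0).2
        have b := (hg' 0).2
        change pairOf (g 2) = _ at a
        change pairOf (g' 2) = _ at b
        rw [e0, ← b] at a
        revert a e2
        generalize g 2 = u
        generalize g' 2 = v
        revert u v
        decide +kernel
      have q4 : ∀ (g : Equiv.Perm (Fin 8)), treeP g → ((g 4 : Fin 8) : ℕ) / 4 ≠ ((g 0 : Fin 8) : ℕ) / 4 := by
        intro g hg he
        have a := (hg 0).1
        have b := (hg 0).2
        have c := (hg 2).1
        change g 1 = _ at a
        change pairOf (g 2) = _ at b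
        change g 3 = _ at c
        have key : ∀ u v w : Fin 8, pairOf v = pairOf (flip2 u) → (w : ℕ) / 4 = (u : ℕ) / 4 →
            w = u ∨ w = flip1 u ∨ w = v ∨ w = flip1 v := by decide +kernel
        rcases key _ _ _ b he with e | e | e | e
        · exact absurd (g.injective e) (by decide)
        · rw [← a] at e; exact absurd (g.injective e) (by decide)
        · exact absurd (g.injective e) (by decide)
        · rw [← c] at e; exact absurd (g.injective e) (by decide)
      have p4 : g 4 = g' 4 := by
        have a := q4 g hg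
        have b := q4 g' hg'
        rw [e0] at a
        revert a b e4
        generalize g 4 = u
        generalize g' 4 = v
        generalize g' 0 = z
        revert u v z
        decide +kernel
      have p6 : g 6 = g' 6 := by
        have a := (hg 4).2
        have b := (hg' 4).2
        change pairOf (g 6) = _ at a
        change pairOf (g' 6) = _ at b
        rw [p4, ← b] at a
        revert a e6
        generalize g 6 = u
        generalize g' 6 = v
        revert u v
        decide +kernel
      have odd : ∀ i : Fin 8, g i = g' i → g (flip1 i) = g' (flip1 i) := fun i e => by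
        rw [(hg i).1, (hg' i).1, e]
      refine Subtype.ext (Equiv.ext fun i => ?_)
      fin_cases i
      exacts [e0, odd 0 e0, p2, odd 2 p2, p4, odd 4 p4, p6, odd 6 p6]
    exact (Nat.card_le_card_of_injective code hc).trans (by simp [Nat.card_eq_fintype_card])
  · have hok : ∀ k : Fin 128, (∀ a, ev (hElems.getD k (0, 0)).2 (ev (hElems.getD k (0, 0)).1 a) = a) ∧
        treeP (ev (hElems.getD k (0, 0)).1) := by decide +kernel
    have hnd : (hElems.map Prod.fst).Nodup := by decide +kernel
    have hlen : hElems.length = 128 := by decide +kernel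
    let mk : Fin 128 → treeGroup := fun k =>
      ⟨Equiv.ofBijective _ (Finite.injective_iff_bijective.1
        (Function.LeftInverse.injective (hok k).1)), (hok k).2⟩
    have hinj : Function.Injective mk := by
      have hcode : ∀ k : Fin 128, (hElems.getD k (0, 0)).1 =
          ∑ i : Fin 8, (ev (hElems.getD k (0, 0)).1 i : ℕ) * 8 ^ (i : ℕ) := by decide +kernel
      intro k l h
      have hf : ev (hElems.getD k (0, 0)).1 = ev (hElems.getD l (0, 0)).1 :=
        congrArg (fun s : treeGroup => ⇑(s : Equiv.Perm (Fin 8))) h
      have he : (hElems.getD k (0, 0)).1 = (hElems.getD l (0, 0)).1 := by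
        rw [hcode k, hcode l, hf]
      rw [List.getD_eq_getElem _ _ (hlen.symm ▸ k.2), List.getD_eq_getElem _ _ (hlen.symm ▸ l.2)] at he
      refine Fin.ext ((hnd.getElem_inj_iff (hi := by simpa [hlen] using k.2) (hj := by simpa [hlen] using l.2)).1 ?_)
      simpa using he
    calc 2 ^ 7 = Nat.card (Fin 128) := by simp
      _ ≤ _ := Nat.card_le_card_of_injective mk hinj

/-- In the symmetric group on 8 letters any two Sylow 2-subgroups have non-trivial intersection: for a Sylow 2-subgroup H and every element x, H ∩ xHx⁻¹ ≠ 1. -/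
theorem result (H : Sylow 2 (Equiv.Perm (Fin 8))) (x : Equiv.Perm (Fin 8)) :
    (H : Subgroup (Equiv.Perm (Fin 8))) ⊓ (H : Subgroup (Equiv.Perm (Fin 8))).map (MulAut.conj x).toMonoidHom ≠ ⊥ := by
  intro hbot
  have hfac : (Nat.card (Equiv.Perm (Fin 8))).factorization 2 = 7 := by
    rw [Nat.card_perm, Nat.card_eq_fintype_card, Fintype.card_fin]
    refine le_antisymm ?_ ?_
    · by_contra h
      have h8 : 2 ^ 8 ∣ Nat.factorial 8 :=
        (Nat.prime_two.pow_dvd_iff_le_factorization (Nat.factorial_ne_zero 8)).2 (by omega)
      norm_num [Nat.factorial] at h8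
    · exact (Nat.prime_two.pow_dvd_iff_le_factorization (Nat.factorial_ne_zero 8)).1 (by norm_num [Nat.factorial])
  have hT : IsPGroup 2 treeGroup := IsPGroup.of_card card_treeGroup
  obtain ⟨T, hTle⟩ := hT.exists_le_sylow
  have hTeq : treeGroup = (T : Subgroup (Equiv.Perm (Fin 8))) := by
    refine Subgroup.eq_of_le_of_card_ge hTle ?_
    rw [T.card_eq_multiplicity, hfac, card_treeGroup]
  obtain ⟨g, hg⟩ := MulAction.exists_smul_eq (Equiv.Perm (Fin 8)) T H
  have hmem : ∀ w, w ∈ treeGroup → g * w * g⁻¹ ∈ (H : Subgroup (Equiv.Perm (Fin 8))) := by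
    intro w hw
    rw [← hg, Sylow.coe_subgroup_smul]
    rw [hTeq] at hw
    exact Subgroup.smul_mem_pointwise_smul w (MulAut.conj g) _ hw
  obtain ⟨w, hw, hw1, hwx⟩ := inter_ne (g⁻¹ * x * g)
  apply hw1
  have hin : g * w * g⁻¹ ∈ (H : Subgroup (Equiv.Perm (Fin 8))) ⊓
      (H : Subgroup (Equiv.Perm (Fin 8))).map (MulAut.conj x).toMonoidHom := by
    refine ⟨hmem w hw, ⟨_, hmem _ hwx, ?_⟩⟩
    show x * _ * x⁻¹ = _
    group
  rw [hbot, Subgroup.mem_bot] at hin
  exact conj_eq_one_iff.1 hin

end Cfsg.Agent.S5763
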