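import Cfsg.Statements.S5778
import Cfsg.Agent.Lib.Aschbacher.SU3Cases
import Cfsg.Agent.Lib.Aschbacher.SU3Heis
import Cfsg.Agent.Lib.Aschbacher.SU3Field

set_option autoImplicit false
open Cfsg

namespace Cfsg.Agent.S5778

/-- Every maximal subgroup of SU_3(q), q ≥ 3, is of one of the listed geometric types or lies in the residual class. Let F be the field with q² elements, f the standard unitary form Σ u_i v_i^q on F^3, and H a maximal subgroup of SU_3(q) (the determinant-one isometries of f, inside GL_3(F)). Then H is the intersection with SU_3(q) of one of: the stabiliser of a non-zero subspace on which f vanishes; the stabiliser of a non-degenerate 1-space; for q ≠ 5, the stabiliser of a decomposition into three mutually orthogonal non-degenerate 1-spaces; for q ≠ 3, 5, the normaliser of an adjoint-closed degree-3 subfield of the matrix algebra; a subfield group of odd prime index whose F₀-structure carries f;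 for q odd, q ≥ 7, a subfield group of index 2 whose F₀-structure carries f; for q = p ≡ 2 mod 3 prime with p ≥ 11, the normaliser of an absolutely irreducible subgroup of order 27 with centre of order 3, exponent 3 and all characteristic abelian subgroups cyclic, contained in the similarity group of f — or else H lies in the residual class of the unitary case. -/
theorem result {F : Type*} [Field F] [Fintype F] (q : ℕ) (hF : Fintype.card F = q ^ 2) (hq : 3 ≤ q) (H : Subgroup (Matrix.GeneralLinearGroup (Fin 3) F)) (hH : Cfsg.Geo.IsMaximalIn (Cfsg.GU 3 F q ⊓ Cfsg.Geo.specialLinear (Fin 3) F) H) :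
    (∃ W : Submodule F (Fin 3 → F), W ≠ ⊥ ∧ Cfsg.Geo.IsTotallySingularFor (Cfsg.hermForm 3 F q) W ∧ H = Cfsg.Geo.subspaceStabilizer W ⊓ (Cfsg.GU 3 F q ⊓ Cfsg.Geo.specialLinear (Fin 3) F)) ∨
    (∃ W : Submodule F (Fin 3 → F), W ≠ ⊥ ∧ Cfsg.Geo.IsNondegenerateOn (Cfsg.hermForm 3 F q) W ∧ 2 * Module.finrank F W < 3 ∧ H = Cfsg.Geo.subspaceStabilizer W ⊓ (Cfsg.GU 3 F q ⊓ Cfsg.Geo.specialLinear (Fin 3) F)) ∨
    (q ≠ 5 ∧ ∃ D : Fin 3 → Submodule F (Fin 3 → F), Cfsg.Geo.IsNondegenerateMDecomposition (Cfsg.hermForm 3 F q) 1 D ∧ H = Cfsg.Geo.decompositionStabilizer D ⊓ (Cfsg.GU 3 F q ⊓ Cfsg.Geo.specialLinear (Fin 3) F)) ∨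
    (q ≠ 3 ∧ q ≠ 5 ∧ ∃ K : Subalgebra F (Matrix (Fin 3) (Fin 3) F), Cfsg.Geo.IsFieldSubalgebra 3 K ∧ Cfsg.Geo.IsAdjointClosedFor (Cfsg.hermForm 3 F q) K ∧ H = Cfsg.Geo.subalgebraNormalizer K ⊓ (Cfsg.GU 3 F q ⊓ Cfsg.Geo.specialLinear (Fin 3) F)) ∨
    (∃ (F₀ : Subfield F) (r : ℕ) (P : Matrix.GeneralLinearGroup (Fin 3) F), r.Prime ∧ Odd r ∧ Fintype.card F = Nat.card F₀ ^ r ∧ Cfsg.Geo.IsFormRationalStructure (Cfsg.hermForm 3 F q) F₀ 1 P ∧ H = Cfsg.Geo.subfieldSubgroup F₀ P ⊓ (Cfsg.GU 3 F q ⊓ Cfsg.Geo.specialLinear (Fin 3) F)) ∨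
    (Odd q ∧ 7 ≤ q ∧ ∃ (F₀ : Subfield F) (P : Matrix.GeneralLinearGroup (Fin 3) F), Fintype.card F = Nat.card F₀ ^ 2 ∧ Cfsg.Geo.IsFormRationalStructure (Cfsg.hermForm 3 F q) F₀ 1 P ∧ H = Cfsg.Geo.subfieldSubgroup F₀ P ⊓ (Cfsg.GU 3 F q ⊓ Cfsg.Geo.specialLinear (Fin 3) F)) ∨
    (∃ (p : ℕ) (R : Subgroup (Matrix.GeneralLinearGroup (Fin 3) F)), p.Prime ∧ q = p ∧ p % 3 = 2 ∧ 11 ≤ p ∧ Cfsg.Geo.IsSymplecticTypeGroup 3 R ∧ Cfsg.Geo.ActsAbsolutelyIrreducibly (Cfsg.Geo.matrixSet R) ∧ R ≤ Cfsg.Geo.similarityGroup (Cfsg.hermForm 3 F q) ∧ Nat.card R = 27 ∧ Nat.card (Subgroup.center R) = 3 ∧ H = Cfsg.Geo.subgroupNormalizer R ⊓ (Cfsg.GU 3 F q ⊓ Cfsg.Geo.specialLinear (Fin 3) F)) ∨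
    Cfsg.Geo.InUnitaryResidualClass H := by
  open Cfsg.Agent.Aschbacher in
  rcases SU3.su3_cases hF hq hH with h | h | ⟨D, hD, hHD⟩ | ⟨K, hK, hadj, hHK⟩ | h |
    ⟨hodd, F₀, P, hc, hform, hHP⟩ | ⟨p, R, hp, -, hqp, hp3, hR, hsymp, habs, -, hsim, h27, hcen, hHR⟩ | h
  · exact Or.inl h
  · exact Or.inr (Or.inl h)
  · refine Or.inr (Or.inr (Or.inl ⟨fun h5 => ?_, D, hD, hHD⟩))
    exact Agent.Aschbacher.SU3.frame_five_false hF h5 hH hD (hHD.le.trans inf_le_left)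
  · refine Or.inr (Or.inr (Or.inr (Or.inl ⟨fun h3 => ?_, fun h5 => ?_, K, hK, hadj, hHK⟩)))
    · exact Agent.Aschbacher.SU3.field_three_false hF h3 hH hK hadj (hHK.le.trans inf_le_left)
    · exact Agent.Aschbacher.SU3.field_five_false hF h5 hH hK hadj (hHK.le.trans inf_le_left)
  · exact Or.inr (Or.inr (Or.inr (Or.inr (Or.inl h))))
  · by_cases h7 : 7 ≤ q
    · exact Or.inr (Or.inr (Or.inr (Or.inr (Or.inr (Or.inl ⟨hodd, h7, F₀, P, hc, hform, hHP⟩)))))
    have h35 : q = 3 ∨ q = 5 := by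
      obtain ⟨k, hk⟩ := hodd
      omega
    rcases h35 with h3 | h5
    · obtain ⟨D, hD, hle⟩ := Agent.Aschbacher.SU3.subfield_three_frame hF h3 (hH.1.le.trans inf_le_left) hc hform
        (hHP.le.trans inf_le_left)
      refine Or.inr (Or.inr (Or.inl ⟨by omega, D, hD, ?_⟩))
      rcases hH.2 (Geo.decompositionStabilizer D ⊓ (GU 3 F q ⊓ Geo.specialLinear (Fin 3) F))
        (le_inf hle hH.1.le) inf_le_right with he | he
      · exact he.symm
      · exact absurd (inf_eq_right.mp he) (Agent.Aschbacher.SU3.not_su3_le_decomposition hF hq hD)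
    · exact (Agent.Aschbacher.SU3.subfield_five_false hF h5 hH hc hform (hHP.le.trans inf_le_left)).elim
  · have hne : q ≠ 5 := fun h5 => Agent.Aschbacher.SU3.heis_five_false hF h5 hH hR
    have h11 : 11 ≤ p := by
      subst hqp
      rcases Nat.lt_or_ge q 11 with hlt | hge
      · exfalso
        interval_cases q <;> first | omega | norm_num at hp
      · exact hge
    exact Or.inr (Or.inr (Or.inr (Or.inr (Or.inr (Or.inr (Or.inl
      ⟨p, R, hp, hqp, hp3, h11, hsymp, habs, hsim, h27, hcen, hHR⟩))))))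
  · exact Or.inr (Or.inr (Or.inr (Or.inr (Or.inr (Or.inr (Or.inr h))))))

end Cfsg.Agent.S5778
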