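import Cfsg.Statements.S5780
import Cfsg.Agent.Lib.SLGeomMax.Basic
import Cfsg.Agent.Lib.SL4Max.Mono
import Cfsg.Agent.Lib.SL4Max.Block
import Cfsg.Agent.Lib.SL4Max.Unit
import Cfsg.Agent.Lib.SL4Max.Orth
import Cfsg.Agent.Lib.C6Two.Four
-- import your own Cfsg.Agent.* helpers here

set_option autoImplicit false
open Cfsg

namespace Cfsg.Agent.S5780

/-- Maximal subgroups of SL_4(q) of geometric type, for a finite field F with q elements (any q). Each of the following subgroups of GL_4(F), intersected with SL_4(F), is a maximal subgroup of SL_4(F): (1) the stabiliser of any proper non-zero subspace of F^4; (2) for q ≥ 7, the stabiliser of any decomposition of F^4 into four independent lines; (3) for q ≥ 4, the stabiliser of any decomposition of F^4 into two independent planes; (4) the normaliser of any degree-2 subfield of the 4 × 4 matrix algebra over F; (5) every subfield group for a subfield F₀ with |F| = |F₀|^r, r prime; (6) for q = p prime with p ≡ 1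 mod 4, the normaliser of any absolutely irreducible 2-subgroup R of exponent 4 with centre of order 4, all of whose characteristic abelian subgroups are cyclic, of order 2^(2+2m) for some m (here |R| = 64), with 4 dividing p − 1; (7) for q odd, the group of similarities of any non-degenerate quadratic form on F^4 (of either sign); (8) the group of similarities of any non-degenerate symplectic form on F^4; (9) the group of similarities of any non-degenerate unitary form on F^4. -/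
theorem result {F : Type*} [Field F] [Fintype F] :
    (∀ W : Submodule F (Fin 4 → F), W ≠ ⊥ → W ≠ ⊤ → Cfsg.Geo.IsMaximalIn (Cfsg.Geo.specialLinear (Fin 4) F) (Cfsg.Geo.subspaceStabilizer W ⊓ Cfsg.Geo.specialLinear (Fin 4) F)) ∧
    (7 ≤ Fintype.card F → ∀ D : Fin 4 → Submodule F (Fin 4 → F), Cfsg.Geo.IsMDecomposition 1 D → Cfsg.Geo.IsMaximalIn (Cfsg.Geo.specialLinear (Fin 4) F) (Cfsg.Geo.decompositionStabilizer D ⊓ Cfsg.Geo.specialLinear (Fin 4) F)) ∧
    (4 ≤ Fintype.card F → ∀ D : Fin 2 → Submodule F (Fin 4 → F), Cfsg.Geo.IsMDecomposition 2 D → Cfsg.Geo.IsMaximalIn (Cfsg.Geo.specialLinear (Fin 4) F) (Cfsg.Geo.decompositionStabilizer D ⊓ Cfsg.Geo.specialLinear (Fin 4) F)) ∧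
    (∀ K : Subalgebra F (Matrix (Fin 4) (Fin 4) F), Cfsg.Geo.IsFieldSubalgebra 2 K → Cfsg.Geo.IsMaximalIn (Cfsg.Geo.specialLinear (Fin 4) F) (Cfsg.Geo.subalgebraNormalizer K ⊓ Cfsg.Geo.specialLinear (Fin 4) F)) ∧
    (∀ (F₀ : Subfield F) (r : ℕ) (P : Matrix.GeneralLinearGroup (Fin 4) F), r.Prime → Fintype.card F = Nat.card F₀ ^ r → Cfsg.Geo.IsMaximalIn (Cfsg.Geo.specialLinear (Fin 4) F) (Cfsg.Geo.subfieldSubgroup F₀ P ⊓ Cfsg.Geo.specialLinear (Fin 4) F)) ∧
    (∀ (p : ℕ) (R : Subgroup (Matrix.GeneralLinearGroup (Fin 4) F)), p.Prime → Fintype.card F = p → p % 4 = 1 → Cfsg.Geo.IsLinearSymplecticTypeData 2 R → Cfsg.Geo.IsMaximalIn (Cfsg.Geo.specialLinear (Fin 4) F) (Cfsg.Geo.subgroupNormalizer R ⊓ Cfsg.Geo.specialLinear (Fin 4) F)) ∧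
    (Odd (Fintype.card F) → ∀ Q : (Fin 4 → F) → F, Cfsg.Geo.IsNondegenerateQuadraticForm Q → Cfsg.Geo.IsMaximalIn (Cfsg.Geo.specialLinear (Fin 4) F) (Cfsg.Geo.quadSimilarityGroup Q ⊓ Cfsg.Geo.specialLinear (Fin 4) F)) ∧
    (∀ f : (Fin 4 → F) → (Fin 4 → F) → F, Cfsg.Geo.IsSymplecticForm f → Cfsg.Geo.IsMaximalIn (Cfsg.Geo.specialLinear (Fin 4) F) (Cfsg.Geo.similarityGroup f ⊓ Cfsg.Geo.specialLinear (Fin 4) F)) ∧
    (∀ (σ : F ≃+* F) (f : (Fin 4 → F) → (Fin 4 → F) → F), Cfsg.Geo.IsUnitaryForm σ f → Cfsg.Geo.IsMaximalIn (Cfsg.Geo.specialLinear (Fin 4) F) (Cfsg.Geo.similarityGroup f ⊓ Cfsg.Geo.specialLinear (Fin 4) F)) := by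
  refine ⟨fun W h0 h1 => SLGeomMax.subspace_maximal W h0 h1, ?_, ?_,
    fun K hK => SLGeomMax.field_maximal (r := 2) (by norm_num) (by norm_num) K hK,
    fun F₀ r P hr hcard => SLGeomMax.subfield_maximal (by norm_num) F₀ r hr hcard P,
    ?_, ?_, fun f hf => SLGeomMax.symplectic_maximal (by norm_num) f hf, ?_⟩
  · intro hq D hD
    refine Transvect.isMaximalIn_of_forall inf_le_right ?_ fun M hHM hMS g hg hgH => ?_
    · obtain ⟨x, hx, hx'⟩ := Transvect.exists_sl_notMem_stab hD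
      exact ⟨x, hx, fun h => hx' h.1⟩
    · exact SL4Max.sl_le_of_not_line hD hq hHM hMS hg fun h => hgH ⟨h, hMS hg⟩
  · intro hq D hD
    refine Transvect.isMaximalIn_of_forall inf_le_right ?_ fun M hHM hMS g hg hgH => ?_
    · obtain ⟨x, hx, hx'⟩ := Transvect.exists_sl_notMem_stab hD
      exact ⟨x, hx, fun h => hx' h.1⟩
    · exact SL4Max.sl_le_of_not_block hD hHM rfl hq hg fun h => hgH ⟨h, hMS hg⟩
  · intro p R hp hF hp4 hR
    haveI : Fact p.Prime := ⟨hp⟩
    exact C6Two.symplectic_type_maximal_four hF hp4 hR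
  · intro hodd Q hQ
    have h2 : (2 : F) ≠ 0 := Ring.two_ne_zero fun h => by
      have := (FiniteField.even_card_iff_char_two (F := F)).1 h
      have := Nat.odd_iff.1 hodd
      omega
    exact SL4Max.Orth4.quadSimilarity_maximal (Orth.ofND_nondeg hQ) h2 (Fintype.card_fin 4)
  · intro σ f hf
    exact SL4Max.unitarySimilarity_maximal hf (Fintype.card_fin 4)

end Cfsg.Agent.S5780
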