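import Cfsg.Statements.S5784
import Cfsg.Agent.EqLemmas
import Cfsg.Agent.Lib.Aschbacher.UnitaryCases
import Cfsg.Agent.Lib.Aschbacher.UnitaryFourSub
import Cfsg.Agent.Lib.Aschbacher.UnitaryFourSymp
import Cfsg.Agent.Lib.Aschbacher.UnitaryFourLines

set_option autoImplicit false
open Cfsg
open Cfsg.Agent.Aschbacher Cfsg.Agent.PrimeDim

namespace Cfsg.Agent.S5784

/-- Every maximal subgroup of SU_4(q) is of one of the listed geometric types or lies in the residual class. Let F be the field with q² elements, f the standard unitary form Σ u_i v_i^q on F^4, and H a maximal subgroup of SU_4(q) (inside GL_4(F)). Then H is the intersection with SU_4(q) of one of: the stabiliser of a non-zero subspace on which f vanishes; the stabiliser of a non-degenerate 1-space; for q ≠ 3, the stabiliser of a decomposition into four mutually orthogonal non-degenerate 1-spaces; for q ≥ 3, of a decomposition into two orthogonal non-degenerate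 2-spaces; for q ≥ 4, of a decomposition into two totally isotropic 2-spaces; a subfield group of odd prime index whose F₀-structure carries f; a subfield group of index 2 whose F₀-structure carries ζ f, vanishing on pairs (u, u), for some non-zero ζ with ζ + ζ^q = 0; for q odd, a subfield group of index 2 whose F₀-structure carries f; for q = p ≡ 3 mod 4 prime, the normaliser of an absolutely irreducible symplectic-type 2-group of exponent 4, order 64 and centre of order 4 inside the similarity group of f — or else H lies in the residual class of the unitary case. -/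
theorem result {F : Type*} [Field F] [Fintype F] (q : ℕ) (hF : Fintype.card F = q ^ 2) (H : Subgroup (Matrix.GeneralLinearGroup (Fin 4) F)) (hH : Cfsg.Geo.IsMaximalIn (Cfsg.GU 4 F q ⊓ Cfsg.Geo.specialLinear (Fin 4) F) H) :
    (∃ W : Submodule F (Fin 4 → F), W ≠ ⊥ ∧ Cfsg.Geo.IsTotallySingularFor (Cfsg.hermForm 4 F q) W ∧ H = Cfsg.Geo.subspaceStabilizer W ⊓ (Cfsg.GU 4 F q ⊓ Cfsg.Geo.specialLinear (Fin 4) F)) ∨
    (∃ W : Submodule F (Fin 4 → F), W ≠ ⊥ ∧ Cfsg.Geo.IsNondegenerateOn (Cfsg.hermForm 4 F q) W ∧ 2 * Module.finrank F W < 4 ∧ H = Cfsg.Geo.subspaceStabilizer W ⊓ (Cfsg.GU 4 F q ⊓ Cfsg.Geo.specialLinear (Fin 4) F)) ∨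
    (q ≠ 3 ∧ ∃ D : Fin 4 → Submodule F (Fin 4 → F), Cfsg.Geo.IsNondegenerateMDecomposition (Cfsg.hermForm 4 F q) 1 D ∧ H = Cfsg.Geo.decompositionStabilizer D ⊓ (Cfsg.GU 4 F q ⊓ Cfsg.Geo.specialLinear (Fin 4) F)) ∨
    (3 ≤ q ∧ ∃ D : Fin 2 → Submodule F (Fin 4 → F), Cfsg.Geo.IsNondegenerateMDecomposition (Cfsg.hermForm 4 F q) 2 D ∧ H = Cfsg.Geo.decompositionStabilizer D ⊓ (Cfsg.GU 4 F q ⊓ Cfsg.Geo.specialLinear (Fin 4) F)) ∨
    (4 ≤ q ∧ ∃ D : Fin 2 → Submodule F (Fin 4 → F), Cfsg.Geo.IsMDecomposition 2 D ∧ (∀ i, Cfsg.Geo.IsTotallySingularFor (Cfsg.hermForm 4 F q) (D i)) ∧ H = Cfsg.Geo.decompositionStabilizer D ⊓ (Cfsg.GU 4 F q ⊓ Cfsg.Geo.specialLinear (Fin 4) F)) ∨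
    (∃ (F₀ : Subfield F) (r : ℕ) (P : Matrix.GeneralLinearGroup (Fin 4) F), r.Prime ∧ Odd r ∧ Fintype.card F = Nat.card F₀ ^ r ∧ Cfsg.Geo.IsFormRationalStructure (Cfsg.hermForm 4 F q) F₀ 1 P ∧ H = Cfsg.Geo.subfieldSubgroup F₀ P ⊓ (Cfsg.GU 4 F q ⊓ Cfsg.Geo.specialLinear (Fin 4) F)) ∨
    (∃ (F₀ : Subfield F) (P : Matrix.GeneralLinearGroup (Fin 4) F) (ζ : F), Fintype.card F = Nat.card F₀ ^ 2 ∧ ζ ≠ 0 ∧ ζ + ζ ^ q = 0 ∧ Cfsg.Geo.IsFormRationalStructure (Cfsg.hermForm 4 F q) F₀ ζ P ∧ (∀ u : Fin 4 → F, (∀ i, u i ∈ F₀) → (Cfsg.hermForm 4 F q) (Matrix.mulVec (P : Matrix (Fin 4) (Fin 4) F) u) (Matrix.mulVec (P : Matrix (Fin 4) (Fin 4) F) u) = 0) ∧ H = Cfsg.Geo.subfieldSubgroup F₀ P ⊓ (Cfsg.GU 4 F q ⊓ Cfsg.Geo.specialLinear (Fin 4) F)) ∨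
    (Odd q ∧ ∃ (F₀ : Subfield F) (P : Matrix.GeneralLinearGroup (Fin 4) F), Fintype.card F = Nat.card F₀ ^ 2 ∧ Cfsg.Geo.IsFormRationalStructure (Cfsg.hermForm 4 F q) F₀ 1 P ∧ H = Cfsg.Geo.subfieldSubgroup F₀ P ⊓ (Cfsg.GU 4 F q ⊓ Cfsg.Geo.specialLinear (Fin 4) F)) ∨
    (∃ (p : ℕ) (R : Subgroup (Matrix.GeneralLinearGroup (Fin 4) F)), p.Prime ∧ q = p ∧ p % 4 = 3 ∧ Cfsg.Geo.IsSymplecticTypeGroup 2 R ∧ Cfsg.Geo.ActsAbsolutelyIrreducibly (Cfsg.Geo.matrixSet R) ∧ R ≤ Cfsg.Geo.similarityGroup (Cfsg.hermForm 4 F q) ∧ Nat.card R = 64 ∧ Nat.card (Subgroup.center R) = 4 ∧ H = Cfsg.Geo.subgroupNormalizer R ⊓ (Cfsg.GU 4 F q ⊓ Cfsg.Geo.specialLinear (Fin 4) F)) ∨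
    Cfsg.Geo.InUnitaryResidualClass H := by
  classical
  have hq2 := Unitary.two_le_q hF
  have sub_eq : ∀ (F₀ : Subfield F) (B : Matrix.GeneralLinearGroup (Fin 4) F), F₀ ≠ ⊤ →
      H ≤ Geo.subfieldSubgroup F₀ B → H = Geo.subfieldSubgroup F₀ B ⊓ (Cfsg.GU 4 F q ⊓ Geo.specialLinear (Fin 4) F) :=
    fun F₀ B hne hle => by
    rcases hH.2 (Geo.subfieldSubgroup F₀ B ⊓ _) (le_inf hle hH.1.le) inf_le_right with h | h
    · exact h.symm
    · exact absurd (h ▸ inf_le_left) (not_su_le_subfieldSubgroup' hF le_rfl hne B)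
  rcases su_cases' hF le_rfl hH with h | h | ⟨m, t, D, htm, ht, hm2, hD, heq⟩ |
    ⟨m, D, hm, hD, hts, heq⟩ | ⟨r, K, hr, hrodd, hrn, -⟩ | ⟨d, t, hdt, hd, hlt, -⟩ |
    h | h | h | ⟨r, m, z, p, f, R, -, hR⟩ | ⟨d, hd, hdd, hT⟩ | ⟨d, k, hd, hk, hdk, -⟩ | h
  · exact Or.inl h
  · exact Or.inr (Or.inl h)
  · have htl : t ∣ 4 := Dvd.intro m htm
    have := Nat.le_of_dvd (by norm_num) htl
    interval_cases t <;> norm_num at htl
    · obtain rfl : m = 2 := by omega
      iterate 3 right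
      exact Or.inl ⟨hm2 rfl, D, hD, heq⟩
    · obtain rfl : m = 1 := by omega
      refine Or.inr (Or.inr (Or.inl ⟨?_, D, hD, heq⟩))
      rintro rfl
      exact FourNine.su_four_three_lines hF hH hD (heq.le.trans inf_le_left)
  · obtain rfl : m = 2 := by omega
    by_cases h4 : 4 ≤ q
    · iterate 4 right
      exact Or.inl ⟨h4, D, hD, hts, heq⟩
    obtain ⟨F₀, B, ζ, hc, hne, hζ, hζq, hform, halt, hle⟩ :=
      su_four_pair hF (by omega) hH.1.le hD hts (heq.le.trans inf_le_left)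
    iterate 6 right
    exact Or.inl ⟨F₀, B, ζ, hc, hζ, hζq, hform, halt, sub_eq F₀ B hne hle⟩
  · exfalso
    have := Nat.le_of_dvd (by norm_num) hrn
    interval_cases r <;> revert hr hrodd hrn <;> decide
  · exfalso
    nlinarith
  · iterate 5 right
    exact Or.inl h
  · iterate 6 right
    exact Or.inl h
  · iterate 7 right
    exact Or.inl h
  · rcases su_symp_four hF hH hR with (h | h | h) | h
    · iterate 5 right
      exact Or.inl h
    · iterate 6 right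
      exact Or.inl h
    · iterate 7 right
      exact Or.inl h
    · iterate 8 right
      exact Or.inl h
  · obtain rfl : d = 2 := by nlinarith
    obtain ⟨F₀, B, hc, hne, hform, hle, halt⟩ := su_four_tensor hF le_sup_left (hH.1.le.trans inf_le_left) hT
    by_cases hqo : Odd q
    · iterate 7 right
      exact Or.inl ⟨hqo, F₀, B, hc, hform, sub_eq F₀ B hne hle⟩
    have h20 : (2 : F) = 0 := by
      obtain ⟨p, k, hp, hchar, rfl, -⟩ := Unitary.exists_prime_pow hF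
      obtain rfl : p = 2 := by
        by_contra h2
        exact hqo ((hp.odd_of_ne_two h2).pow)
      exact_mod_cast CharP.cast_eq_zero F 2
    iterate 6 right
    exact Or.inl ⟨F₀, B, 1, hc, one_ne_zero, by rw [one_pow, one_add_one_eq_two, h20], hform, halt h20,
      sub_eq F₀ B hne hle⟩
  · exfalso
    have : d * d ≤ d ^ k := by rw [← sq]; exact Nat.pow_le_pow_right (by omega) hk
    nlinarith
  · iterate 9 right
    exact h

end Cfsg.Agent.S5784
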