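import Cfsg.Statements.S5786
import Cfsg.Agent.EqLemmas
import Cfsg.Agent.Lib.SpFourMax.Singular
import Cfsg.Agent.S5647
import Cfsg.Agent.S5650
import Cfsg.Agent.S5664
import Cfsg.Agent.S5665
import Cfsg.Agent.Lib.Orth.SpKlein.Line
import Cfsg.Agent.Lib.Orth.SpKlein.Frame

set_option autoImplicit false
open Cfsg

namespace Cfsg.Agent.S5786


open Matrix in
/-- The stabiliser of a decomposition into two totally singular planes. -/
theorem lagrangian_pair {F : Type*} [Field F] [Fintype F] (h2 : (2 : F) ≠ 0) (h5 : 5 ≤ Fintype.card F)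
    (D : Fin 2 → Submodule F (Fin 2 ⊕ Fin 2 → F)) (hD : Cfsg.Geo.IsMDecomposition 2 D)
    (hts : ∀ i, Cfsg.Geo.IsTotallySingularFor (Cfsg.sympForm 2 F) (D i)) :
    Cfsg.Geo.IsMaximalIn (Cfsg.spGL 2 F) (Cfsg.Geo.decompositionStabilizer D ⊓ Cfsg.spGL 2 F) := by
  classical
  have hc : IsCompl (D 0) (D 1) := by
    refine ⟨hD.indep.pairwiseDisjoint (by decide : (0 : Fin 2) ≠ 1), codisjoint_iff.2 (eq_top_iff.2 ?_)⟩
    rw [← hD.iSup_eq_top]
    refine iSup_le fun i => ?_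
    fin_cases i
    · exact le_sup_left
    · exact le_sup_right
  obtain ⟨J, hJ⟩ : ∃ J, J = LinearMap.toMatrix'
      (LinearMap.ofIsCompl hc (D 0).subtype (-(D 1).subtype)) := ⟨_, rfl⟩
  have hJ0 : ∀ x ∈ D 0, J *ᵥ x = x := fun x hx => by
    rw [hJ, LinearMap.toMatrix'_mulVec]
    exact LinearMap.ofIsCompl_left_apply hc ⟨x, hx⟩
  have hJ1 : ∀ x ∈ D 1, J *ᵥ x = -x := fun x hx => by
    rw [hJ, LinearMap.toMatrix'_mulVec]
    exact LinearMap.ofIsCompl_right_apply hc ⟨x, hx⟩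
  have hdec : ∀ v : Fin 2 ⊕ Fin 2 → F, ∃ a ∈ D 0, ∃ b ∈ D 1, v = a + b := fun v => by
    obtain ⟨a, ha, b, hb, h⟩ := Submodule.mem_sup.1
      (show v ∈ D 0 ⊔ D 1 by rw [hc.sup_eq_top]; trivial)
    exact ⟨a, ha, b, hb, h.symm⟩
  have hJJ : J * J = (1 : F) • (1 : Matrix (Fin 2 ⊕ Fin 2) (Fin 2 ⊕ Fin 2) F) := by
    refine Matrix.ext_of_mulVec_single fun i => ?_
    obtain ⟨a, ha, b, hb, h⟩ := hdec (Pi.single i 1)
    rw [one_smul, Matrix.one_mulVec, ← Matrix.mulVec_mulVec, h, Matrix.mulVec_add, Matrix.mulVec_add,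
      hJ0 a ha, hJ1 b hb, Matrix.mulVec_neg, hJ0 a ha, hJ1 b hb, neg_neg]
  have hb := Cfsg.Agent.Orth.SpKlein.isBil (F := F)
  have hskew : ∀ u v, Cfsg.sympForm 2 F (J *ᵥ u) v = -Cfsg.sympForm 2 F u (J *ᵥ v) := fun u v => by
    obtain ⟨a, ha, b, hb', rfl⟩ := hdec u
    obtain ⟨a', ha', b', hb'', rfl⟩ := hdec v
    rw [Matrix.mulVec_add, Matrix.mulVec_add, hJ0 a ha, hJ1 b hb', hJ0 a' ha', hJ1 b' hb'',
      ← neg_one_smul F b, ← neg_one_smul F b']
    simp only [hb.add_left, hb.add_right, hb.smul_left, hb.smul_right, hts 0 a ha a' ha',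
      hts 1 b hb' b' hb'']
    ring
  refine Cfsg.Agent.Orth.SpKlein.skew_normalizer_maximal h2 h5 one_ne_zero hJJ hskew _ inf_le_right fun g hg => ?_
  constructor
  · rintro ⟨⟨σ, hσ⟩, -⟩
    have hmem : ∀ i, ∀ x ∈ D i, (g : Matrix (Fin 2 ⊕ Fin 2) (Fin 2 ⊕ Fin 2) F) *ᵥ x ∈ D (σ i) := fun i x hx => by
      rw [← hσ i]
      exact ⟨x, hx, Matrix.toLin'_apply _ _⟩
    have h01 : σ 0 = 0 ∧ σ 1 = 1 ∨ σ 0 = 1 ∧ σ 1 = 0 := by
      have := σ.injective.ne (by decide : (0 : Fin 2) ≠ 1)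
      omega
    rcases h01 with ⟨e0, e1⟩ | ⟨e0, e1⟩
    · refine ⟨1, Matrix.ext_of_mulVec_single fun i => ?_⟩
      obtain ⟨a, ha, b, hb, h⟩ := hdec (Pi.single i 1)
      simp only [one_smul, ← Matrix.mulVec_mulVec, h, Matrix.mulVec_add, hJ0 a ha, hJ1 b hb,
        Matrix.mulVec_neg, hJ0 _ (e0 ▸ hmem 0 a ha), hJ1 _ (e1 ▸ hmem 1 b hb)]
    · refine ⟨-1, Matrix.ext_of_mulVec_single fun i => ?_⟩
      obtain ⟨a, ha, b, hb, h⟩ := hdec (Pi.single i 1)
      simp only [Matrix.smul_mulVec, Matrix.neg_mulVec, ← Matrix.mulVec_mulVec, h, Matrix.mulVec_add, hJ0 a ha, hJ1 b hb,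
        Matrix.mulVec_neg, hJ1 _ (e0 ▸ hmem 0 a ha), hJ0 _ (e1 ▸ hmem 1 b hb), neg_one_smul, neg_add,
        neg_neg]
  · rintro ⟨s, hs⟩
    refine ⟨?_, hg⟩
    have hpt : ∀ x, (g : Matrix (Fin 2 ⊕ Fin 2) (Fin 2 ⊕ Fin 2) F) *ᵥ (J *ᵥ x) = s • (J *ᵥ ((g : Matrix (Fin 2 ⊕ Fin 2) (Fin 2 ⊕ Fin 2) F) *ᵥ x)) :=
      fun x => by rw [Matrix.mulVec_mulVec, hs, Matrix.smul_mulVec, ← Matrix.mulVec_mulVec]
    have hs2 : s * s = 1 := by
      obtain ⟨x, hx⟩ := exists_ne (0 : Fin 2 ⊕ Fin 2 → F)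
      have h := hpt (J *ᵥ x)
      rw [hpt x, Matrix.mulVec_smul, Matrix.mulVec_mulVec _ J J, Matrix.mulVec_mulVec _ J J, hJJ,
        Matrix.smul_mulVec, Matrix.smul_mulVec, Matrix.one_mulVec, Matrix.one_mulVec, one_smul,
        one_smul, smul_smul] at h
      by_contra hne
      have h' : (1 - s * s) • ((g : Matrix (Fin 2 ⊕ Fin 2) (Fin 2 ⊕ Fin 2) F) *ᵥ x) = 0 := by rw [sub_smul, one_smul, ← h, sub_self]
      have hinj : Function.Injective fun y => (g : Matrix (Fin 2 ⊕ Fin 2) (Fin 2 ⊕ Fin 2) F) *ᵥ y :=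
        Matrix.mulVec_injective_iff_isUnit.2 (Units.isUnit _)
      refine hx (hinj ?_)
      simp only [Matrix.mulVec_zero]
      exact (smul_eq_zero.1 h').resolve_left fun e => hne (by linear_combination -e)
    have heig : ∀ y : Fin 2 ⊕ Fin 2 → F, (J *ᵥ y = y → y ∈ D 0) ∧ (J *ᵥ y = -y → y ∈ D 1) := fun y => by
      obtain ⟨a, ha, b, hb, rfl⟩ := hdec y
      rw [Matrix.mulVec_add, hJ0 a ha, hJ1 b hb]
      constructor <;> intro h
      · have h0 : (2 : F) • b = 0 := by linear_combination (norm := module) -h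
        rw [(smul_eq_zero.1 h0).resolve_left h2, add_zero]; exact ha
      · have h0 : (2 : F) • a = 0 := by linear_combination (norm := module) h
        rw [(smul_eq_zero.1 h0).resolve_left h2, zero_add]; exact hb
    have hmap : ∀ i j, (∀ x ∈ D i, (g : Matrix (Fin 2 ⊕ Fin 2) (Fin 2 ⊕ Fin 2) F) *ᵥ x ∈ D j) →
        (D i).map (Matrix.toLin' (g : Matrix (Fin 2 ⊕ Fin 2) (Fin 2 ⊕ Fin 2) F)) = D j := fun i j h => by
      refine Submodule.eq_of_le_of_finrank_eq ?_ ?_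
      · rintro _ ⟨x, hx, rfl⟩; rw [Matrix.toLin'_apply]; exact h x hx
      · rw [hD.finrank_eq]
        exact ((Submodule.equivMapOfInjective _ (fun x y hxy => Matrix.mulVec_injective_iff_isUnit.2
          (Units.isUnit g) (by simpa using hxy)) (D i)).finrank_eq.symm.trans (hD.finrank_eq i))
    rcases mul_self_eq_one_iff.1 hs2 with rfl | rfl
    · refine ⟨1, fun i => hmap i _ fun x hx => ?_⟩
      have h := hpt x
      fin_cases i
      · refine (heig _).1 ?_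
        rw [hJ0 x hx, one_smul] at h
        exact h.symm
      · refine (heig _).2 ?_
        rw [hJ1 x hx, one_smul, Matrix.mulVec_neg] at h
        exact h.symm
    · refine ⟨Equiv.swap 0 1, fun i => hmap i _ fun x hx => ?_⟩
      have h := hpt x
      fin_cases i
      · refine (heig _).2 ?_
        rw [hJ0 x hx, neg_one_smul] at h
        exact neg_eq_iff_eq_neg.1 h.symm
      · refine (heig _).1 ?_
        rw [hJ1 x hx, neg_one_smul, Matrix.mulVec_neg, neg_inj] at h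
        exact h.symm

open Matrix in
/-- The normaliser of a quadratic subfield closed under adjoints. -/
theorem skew_field {F : Type*} [Field F] [Fintype F] (h2 : (2 : F) ≠ 0) (h5 : 5 ≤ Fintype.card F)
    (K : Subalgebra F (Matrix (Fin 2 ⊕ Fin 2) (Fin 2 ⊕ Fin 2) F)) (hK : Cfsg.Geo.IsFieldSubalgebra 2 K)
    (hac : Cfsg.Geo.IsAdjointClosedFor (Cfsg.sympForm 2 F) K)
    (hnsa : ¬ Cfsg.Geo.IsSelfAdjointFor (Cfsg.sympForm 2 F) K) :
    Cfsg.Geo.IsMaximalIn (Cfsg.spGL 2 F) (Cfsg.Geo.subalgebraNormalizer K ⊓ Cfsg.spGL 2 F) := by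
  classical
  obtain ⟨j, d, hjK, hskew, hj2, hd, hsp⟩ :=
    Cfsg.Agent.S5665.exists_skew (Cfsg.Agent.Transvect.sympForm_isSymplectic (F := F) 2) h2 hK hac hnsa
  have hd0 : d ≠ 0 := fun h => hd 0 (by rw [h, mul_zero])
  have hb := Cfsg.Agent.Orth.SpKlein.isBil (F := F)
  refine Cfsg.Agent.Orth.SpKlein.skew_normalizer_maximal h2 h5 hd0 hj2 hskew _ inf_le_right fun g hg => ?_
  constructor
  · rintro ⟨hn, -⟩
    obtain ⟨α, β, hαβ⟩ := hsp _ ((hn j).1 hjK)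
    refine ⟨β, ?_⟩
    have h1 : (g : Matrix (Fin 2 ⊕ Fin 2) (Fin 2 ⊕ Fin 2) F) * j = (α • (1 : Matrix _ _ F) + β • j) * (g : Matrix (Fin 2 ⊕ Fin 2) (Fin 2 ⊕ Fin 2) F) := by
      rw [← hαβ, mul_assoc, Units.inv_mul, mul_one]
    have hα : α = 0 := by
      obtain ⟨u, v, huv⟩ : ∃ u v, Cfsg.sympForm 2 F u v ≠ 0 := by
        obtain ⟨x, hx⟩ := exists_ne (0 : Fin 2 ⊕ Fin 2 → F)
        obtain ⟨⟨y, hy⟩, -⟩ := (Cfsg.Agent.Transvect.sympForm_isSymplectic (F := F) 2).nondegenerate x hx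
        exact ⟨y, x, hy⟩
      have hpt : ∀ x, (g : Matrix (Fin 2 ⊕ Fin 2) (Fin 2 ⊕ Fin 2) F) *ᵥ (j *ᵥ x) =
          α • ((g : Matrix (Fin 2 ⊕ Fin 2) (Fin 2 ⊕ Fin 2) F) *ᵥ x) + β • (j *ᵥ ((g : Matrix (Fin 2 ⊕ Fin 2) (Fin 2 ⊕ Fin 2) F) *ᵥ x)) := fun x => by
        rw [Matrix.mulVec_mulVec, h1, Matrix.add_mul, Matrix.add_mulVec, Matrix.smul_mul, Matrix.one_mul,
          Matrix.smul_mul, Matrix.smul_mulVec, Matrix.smul_mulVec, ← Matrix.mulVec_mulVec]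
      have h := hskew u v
      rw [← Cfsg.Agent.Orth.SpKlein.isIsom_mulVec hg (j *ᵥ u) v, ← Cfsg.Agent.Orth.SpKlein.isIsom_mulVec hg u (j *ᵥ v),
        hpt, hpt, hb.add_left, hb.add_right, hb.smul_left, hb.smul_left, hb.smul_right, hb.smul_right,
        hskew, Cfsg.Agent.Orth.SpKlein.isIsom_mulVec hg u v] at h
      exact (mul_eq_zero.1 (show (2 * Cfsg.sympForm 2 F u v) * α = 0 by
        linear_combination h)).resolve_left (mul_ne_zero h2 huv)
    rw [h1, hα, zero_smul, zero_add, Matrix.smul_mul]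
  · rintro ⟨s, hs⟩
    refine ⟨Cfsg.Agent.S5665.mem_norm hjK hsp (s := s) ?_ hs, hg⟩
    have h : d • (g : Matrix (Fin 2 ⊕ Fin 2) (Fin 2 ⊕ Fin 2) F) =
        (s * s * d) • (g : Matrix (Fin 2 ⊕ Fin 2) (Fin 2 ⊕ Fin 2) F) := by
      calc d • (g : Matrix (Fin 2 ⊕ Fin 2) (Fin 2 ⊕ Fin 2) F)
          = ((g : Matrix (Fin 2 ⊕ Fin 2) (Fin 2 ⊕ Fin 2) F) * j) * j := by
            rw [mul_assoc, hj2, Matrix.mul_smul, mul_one]
        _ = s • (j * ((g : Matrix (Fin 2 ⊕ Fin 2) (Fin 2 ⊕ Fin 2) F) * j)) := by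
            rw [hs, Matrix.smul_mul, mul_assoc, hs]
        _ = _ := by
            rw [hs, Matrix.mul_smul, ← mul_assoc, hj2, Matrix.smul_mul, one_mul, smul_smul, smul_smul]
    by_contra hne
    have h' : ((1 - s * s) * d) • (g : Matrix (Fin 2 ⊕ Fin 2) (Fin 2 ⊕ Fin 2) F) = 0 := by
      rw [sub_mul, one_mul, sub_smul, ← h, sub_self]
    exact Units.ne_zero g ((smul_eq_zero.1 h').resolve_left
      (mul_ne_zero (fun e => hne (by linear_combination -e)) hd0))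

/-- Maximal subgroups of Sp_4(q) of geometric type, q odd. Let F be a finite field of odd order q, f the standard alternating form on F^4 (coordinates Fin 2 ⊕ Fin 2) and Sp_4(F) its isometry group inside GL_4(F). Each of the following, intersected with Sp_4(F), is a maximal subgroup of Sp_4(F): (1) the stabiliser of any non-zero totally isotropic subspace (totally isotropic 1-spaces and 2-spaces); (2) the stabiliser of any decomposition of F^4 into two mutually orthogonal non-degenerate 2-spaces; (3) for q ≥ 5, the stabiliser of any decomposition of F^4 into two totally isotropic 2-spaces; (4) the normaliser of any degree-2 subfield K of the matrix algebra whose elements are self-adjoint for f with f(k v, v) = 0 for all k in K and all v (f is the trace of an alternating form over K); (5) for q ≥ 5, the normaliser of any degree-2 subfield of the matrix algebra that is closed under adjoints but not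 self-adjoint (f is the trace of a multiple of a unitary form over K); (6) every subfield group for a subfield F₀ with |F| = |F₀|^r, r prime, whose F₀-structure carries a non-zero scalar multiple of f; (7) for q = p prime, the normaliser of any absolutely irreducible 2-group R of symplectic type and exponent 4, of order 32 with centre of order 2 and of minus type, consisting of isometries of f. -/
theorem result {F : Type*} [Field F] [Fintype F] (hodd : Odd (Fintype.card F)) :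
    (∀ W : Submodule F (Fin 2 ⊕ Fin 2 → F), W ≠ ⊥ → Cfsg.Geo.IsTotallySingularFor (Cfsg.sympForm 2 F) W → Cfsg.Geo.IsMaximalIn (Cfsg.spGL 2 F) (Cfsg.Geo.subspaceStabilizer W ⊓ Cfsg.spGL 2 F)) ∧
    (∀ D : Fin 2 → Submodule F (Fin 2 ⊕ Fin 2 → F), Cfsg.Geo.IsNondegenerateMDecomposition (Cfsg.sympForm 2 F) 2 D → Cfsg.Geo.IsMaximalIn (Cfsg.spGL 2 F) (Cfsg.Geo.decompositionStabilizer D ⊓ Cfsg.spGL 2 F)) ∧
    (5 ≤ Fintype.card F → ∀ D : Fin 2 → Submodule F (Fin 2 ⊕ Fin 2 → F), Cfsg.Geo.IsMDecomposition 2 D → (∀ i, Cfsg.Geo.IsTotallySingularFor (Cfsg.sympForm 2 F) (D i)) → Cfsg.Geo.IsMaximalIn (Cfsg.spGL 2 F) (Cfsg.Geo.decompositionStabilizer D ⊓ Cfsg.spGL 2 F)) ∧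
    (∀ K : Subalgebra F (Matrix (Fin 2 ⊕ Fin 2) (Fin 2 ⊕ Fin 2) F), Cfsg.Geo.IsFieldSubalgebra 2 K → Cfsg.Geo.IsSelfAdjointFor (Cfsg.sympForm 2 F) K → (∀ k ∈ K, ∀ v : (Fin 2 ⊕ Fin 2 → F), (Cfsg.sympForm 2 F) (Matrix.mulVec k v) v = 0) → Cfsg.Geo.IsMaximalIn (Cfsg.spGL 2 F) (Cfsg.Geo.subalgebraNormalizer K ⊓ Cfsg.spGL 2 F)) ∧
    (5 ≤ Fintype.card F → ∀ K : Subalgebra F (Matrix (Fin 2 ⊕ Fin 2) (Fin 2 ⊕ Fin 2) F), Cfsg.Geo.IsFieldSubalgebra 2 K → Cfsg.Geo.IsAdjointClosedFor (Cfsg.sympForm 2 F) K → ¬ Cfsg.Geo.IsSelfAdjointFor (Cfsg.sympForm 2 F) K → Cfsg.Geo.IsMaximalIn (Cfsg.spGL 2 F) (Cfsg.Geo.subalgebraNormalizer K ⊓ Cfsg.spGL 2 F)) ∧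
    (∀ (F₀ : Subfield F) (r : ℕ) (P : Matrix.GeneralLinearGroup (Fin 2 ⊕ Fin 2) F) (ζ : F), r.Prime → Fintype.card F = Nat.card F₀ ^ r → ζ ≠ 0 → Cfsg.Geo.IsFormRationalStructure (Cfsg.sympForm 2 F) F₀ ζ P → Cfsg.Geo.IsMaximalIn (Cfsg.spGL 2 F) (Cfsg.Geo.subfieldSubgroup F₀ P ⊓ Cfsg.spGL 2 F)) ∧
    (∀ (p : ℕ) (R : Subgroup (Matrix.GeneralLinearGroup (Fin 2 ⊕ Fin 2) F)), p.Prime → Fintype.card F = p → Cfsg.Geo.IsSymplecticTypeGroup 2 R → Cfsg.Geo.ActsAbsolutelyIrreducibly (Cfsg.Geo.matrixSet R) → R ≤ Cfsg.spGL 2 F → Nat.card R = 32 → Nat.card (Subgroup.center R) = 2 → Cfsg.Geo.IsOfMinusType 2 R → Cfsg.Geo.IsMaximalIn (Cfsg.spGL 2 F) (Cfsg.Geo.subgroupNormalizer R ⊓ Cfsg.spGL 2 F)) := by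
  classical
  have h2 : (2 : F) ≠ 0 := fun h => by
    have hc : ringChar F = 2 := CharP.ringChar_of_prime_eq_zero Nat.prime_two (by exact_mod_cast h)
    have := (FiniteField.even_card_iff_char_two).1 hc
    rw [Nat.odd_iff] at hodd
    omega
  refine ⟨fun W hW hts => Cfsg.Agent.SpFourMax.singular_maximal 2 W hW hts,
    fun D hD => Cfsg.Agent.S5647.general 2 2 D hD ?_, fun h5 D hD hts => lagrangian_pair h2 h5 D hD hts,
    fun K hK hsa halt => Cfsg.Agent.S5664.general 2 (.inl ⟨le_rfl, hodd⟩) 2 Nat.prime_two K hK hsa halt,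
    fun h5 K hK hac hnsa => skew_field h2 h5 K hK hac hnsa,
    fun F₀ r P ζ hr hcard hζ hP => Cfsg.Agent.S5650.general 2 (.inl ⟨le_rfl, hodd⟩) F₀ r hr hcard P ζ hζ hP,
    fun p R hp hcard hRs hRi hRle h32 hcen hmin =>
      Cfsg.Agent.Orth.SpKlein.extraspecial_normalizer_maximal (hcard ▸ hp)
        (Cfsg.Agent.PrimeOrderElt.minusFour_of h2 hRs hRi hRle (by rw [h32]; norm_num) hcen hmin)⟩
  rintro ⟨-, hF⟩
  rw [hF] at hodd
  exact absurd hodd (by decide)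

end Cfsg.Agent.S5786
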