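import Cfsg.Statements.S5787
import Cfsg.Agent.EqLemmas
import Cfsg.Agent.Lib.Aschbacher.SymplecticCases
import Cfsg.Agent.Lib.Aschbacher.Sp4Field

set_option autoImplicit false
open Cfsg
open Cfsg.Agent.Aschbacher Cfsg.Agent

namespace Cfsg.Agent.S5787

/-- Every maximal subgroup of Sp_4(q), q odd, is of one of the listed geometric types or lies in the residual class. Let F be a finite field of odd order q, f the standard alternating form on F^4 (coordinates Fin 2 ⊕ Fin 2), and H a maximal subgroup of the isometry group Sp_4(F) (inside GL_4(F)). Then H is the intersection with Sp_4(F) of one of: the stabiliser of a non-zero totally isotropic subspace; the stabiliser of a decomposition into two orthogonal non-degenerate 2-spaces; for q ≥ 5, of a decomposition into two totally isotropic 2-spaces; the normaliser of a degree-2 subfield K of the matrix algebra, self-adjoint with f(k v, v) = 0; for q ≥ 5,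 the normaliser of a degree-2 subfield closed under adjoints but not self-adjoint; a subfield group whose F₀-structure carries a non-zero multiple of f, |F| = |F₀|^r with r prime; for q = p prime, the normaliser of an absolutely irreducible symplectic-type 2-group of exponent 4, order 32, centre of order 2 and minus type inside the similarity group of f — or else H lies in the residual class of the symplectic case. -/
theorem result {F : Type*} [Field F] [Fintype F] (hodd : Odd (Fintype.card F)) (H : Subgroup (Matrix.GeneralLinearGroup (Fin 2 ⊕ Fin 2) F)) (hH : Cfsg.Geo.IsMaximalIn (Cfsg.spGL 2 F) H) :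
    (∃ W : Submodule F (Fin 2 ⊕ Fin 2 → F), W ≠ ⊥ ∧ Cfsg.Geo.IsTotallySingularFor (Cfsg.sympForm 2 F) W ∧ H = Cfsg.Geo.subspaceStabilizer W ⊓ Cfsg.spGL 2 F) ∨
    (∃ D : Fin 2 → Submodule F (Fin 2 ⊕ Fin 2 → F), Cfsg.Geo.IsNondegenerateMDecomposition (Cfsg.sympForm 2 F) 2 D ∧ H = Cfsg.Geo.decompositionStabilizer D ⊓ Cfsg.spGL 2 F) ∨
    (5 ≤ Fintype.card F ∧ ∃ D : Fin 2 → Submodule F (Fin 2 ⊕ Fin 2 → F), Cfsg.Geo.IsMDecomposition 2 D ∧ (∀ i, Cfsg.Geo.IsTotallySingularFor (Cfsg.sympForm 2 F) (D i)) ∧ H = Cfsg.Geo.decompositionStabilizer D ⊓ Cfsg.spGL 2 F) ∨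
    (∃ K : Subalgebra F (Matrix (Fin 2 ⊕ Fin 2) (Fin 2 ⊕ Fin 2) F), Cfsg.Geo.IsFieldSubalgebra 2 K ∧ Cfsg.Geo.IsSelfAdjointFor (Cfsg.sympForm 2 F) K ∧ (∀ k ∈ K, ∀ v : (Fin 2 ⊕ Fin 2 → F), (Cfsg.sympForm 2 F) (Matrix.mulVec k v) v = 0) ∧ H = Cfsg.Geo.subalgebraNormalizer K ⊓ Cfsg.spGL 2 F) ∨
    (5 ≤ Fintype.card F ∧ ∃ K : Subalgebra F (Matrix (Fin 2 ⊕ Fin 2) (Fin 2 ⊕ Fin 2) F), Cfsg.Geo.IsFieldSubalgebra 2 K ∧ Cfsg.Geo.IsAdjointClosedFor (Cfsg.sympForm 2 F) K ∧ ¬ Cfsg.Geo.IsSelfAdjointFor (Cfsg.sympForm 2 F) K ∧ H = Cfsg.Geo.subalgebraNormalizer K ⊓ Cfsg.spGL 2 F) ∨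
    (∃ (F₀ : Subfield F) (r : ℕ) (P : Matrix.GeneralLinearGroup (Fin 2 ⊕ Fin 2) F) (ζ : F), r.Prime ∧ Fintype.card F = Nat.card F₀ ^ r ∧ ζ ≠ 0 ∧ Cfsg.Geo.IsFormRationalStructure (Cfsg.sympForm 2 F) F₀ ζ P ∧ H = Cfsg.Geo.subfieldSubgroup F₀ P ⊓ Cfsg.spGL 2 F) ∨
    (∃ (p : ℕ) (R : Subgroup (Matrix.GeneralLinearGroup (Fin 2 ⊕ Fin 2) F)), p.Prime ∧ Fintype.card F = p ∧ Cfsg.Geo.IsSymplecticTypeGroup 2 R ∧ Cfsg.Geo.ActsAbsolutelyIrreducibly (Cfsg.Geo.matrixSet R) ∧ R ≤ Cfsg.Geo.similarityGroup (Cfsg.sympForm 2 F) ∧ Nat.card R = 32 ∧ Nat.card (Subgroup.center R) = 2 ∧ Cfsg.Geo.IsOfMinusType 2 R ∧ H = Cfsg.Geo.subgroupNormalizer R ⊓ Cfsg.spGL 2 F) ∨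
    Cfsg.Geo.InSymplecticResidualClass H := by
  classical
  have hq1 := Fintype.one_lt_card (α := F)
  obtain ⟨q', hq'⟩ := id hodd
  rcases sp_cases (by norm_num : 2 ≤ 2) hH with h | h | ⟨t, k, D, htk, ht, hk, hev, hk2, hD, heq⟩ |
    ⟨D, -, hD, hts, heq⟩ | ⟨r, K, hr, hrm, hK, hsa, halt, heq⟩ | ⟨-, K, hK, hadj, hns, heq⟩ |
    ⟨-, n₁, n₂, e, P, f₁, f₂, hn, hn₁, hn₁e, hn₂, -⟩ |
    ⟨-, k, t, e, P, f₁, hkt, hto, ht, hk, -⟩ | h |
    ⟨R, p, k, hk, hR1, hR2, hR3, hp, hpo, hFp, hcard, hcen, hmin, heq⟩ | h | h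
  · exact Or.inl h
  · obtain ⟨W, hb, hnd, hdim, -⟩ := h
    exfalso
    obtain ⟨j, hj⟩ := nondeg_even (Transvect.sympForm_isSymplectic (F := F) 2) hnd
    have hpos : 0 < Module.finrank F W := Nat.pos_of_ne_zero fun h0 => hb (Submodule.finrank_eq_zero.mp h0)
    omega
  · obtain ⟨rfl, rfl⟩ : t = 2 ∧ k = 2 := by constructor <;> nlinarith
    exact Or.inr (Or.inl ⟨D, hD, heq⟩)
  · by_cases h5 : 5 ≤ Fintype.card F
    · exact Or.inr (Or.inr (Or.inl ⟨h5, D, hD, hts, heq⟩))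
    obtain ⟨D', hD', hle⟩ := Sp4Three.pair (by omega) hH.1.le hD hts (heq.le.trans inf_le_left)
    refine Or.inr (Or.inl ⟨D', hD', ?_⟩)
    rcases hH.2 (Geo.decompositionStabilizer D' ⊓ Cfsg.spGL 2 F) (le_inf hle hH.1.le) inf_le_right with h | h
    · exact h.symm
    · exact absurd (fun v c => (h.symm.le (st_mem_spGL v c)).1)
        (st_not_decomposition (Transvect.sympForm_isSymplectic (F := F) 2) le_rfl hD'.decomp)
  · obtain rfl : r = 2 := (Nat.prime_dvd_prime_iff_eq hr Nat.prime_two).mp hrm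
    exact Or.inr (Or.inr (Or.inr (Or.inl ⟨K, hK, hsa, halt, heq⟩)))
  · refine Or.inr (Or.inr (Or.inr (Or.inr (Or.inl ⟨?_, K, hK, hadj, hns, heq⟩))))
    by_contra h5
    exact Sp4Three.field (by omega) hH hK hadj hns heq
  · exfalso
    nlinarith
  · exfalso
    have h8 : 2 ^ 3 ≤ k ^ t := le_trans (Nat.pow_le_pow_left hk 3) (Nat.pow_le_pow_right (by omega) ht)
    omega
  · iterate 5 right
    exact Or.inl h
  · obtain rfl : k = 2 := Nat.pow_right_injective (le_refl 2) (hk.symm.trans (by norm_num : (2 + 2 : ℕ) = 2 ^ 2))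
    iterate 6 right
    exact Or.inl ⟨p, R, hp, hFp, hR1, hR2, hR3, hcard, hcen, hmin, heq⟩
  · exact absurd hodd h.1
  · iterate 7 right
    exact h

end Cfsg.Agent.S5787
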