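import Cfsg.Statements.S5789
import Cfsg.Agent.Lib.SpFourMax.Singular
import Cfsg.Agent.Lib.SpFourMax.Quadratic
import Cfsg.Agent.Lib.SpFourMax.Extension
import Cfsg.Agent.Lib.C5.SympFour
import Cfsg.Agent.Lib.C5.Transfer
import Cfsg.Agent.S5647

set_option autoImplicit false
open Cfsg

namespace Cfsg.Agent.S5789

/-- Subfield groups in dimension four. -/
theorem subfield_maximal {F : Type*} [Field F] [Fintype F] (h2 : (2 : F) = 0) (F₀ : Subfield F) (r : ℕ)
    (hr : r.Prime) (hcard : Fintype.card F = Nat.card F₀ ^ r)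
    (P : Matrix.GeneralLinearGroup (Fin 2 ⊕ Fin 2) F) (ζ : F) (hζ : ζ ≠ 0)
    (hP : Cfsg.Geo.IsFormRationalStructure (Cfsg.sympForm 2 F) F₀ ζ P) :
    Cfsg.Geo.IsMaximalIn (Cfsg.spGL 2 F) (Cfsg.Geo.subfieldSubgroup F₀ P ⊓ Cfsg.spGL 2 F) := by
  classical
  have hs := Transvect.sympForm_isSymplectic (F := F) 2
  let f : (Fin 2 ⊕ Fin 2 → F) → (Fin 2 ⊕ Fin 2 → F) → F := fun u v =>
    ζ * Cfsg.sympForm 2 F (Transvect.app P u) (Transvect.app P v)
  have hf : Cfsg.Geo.IsSymplecticForm f := by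
    refine ⟨⟨fun x y v => ?_, fun c x v => ?_, fun v x y => ?_, fun c v x => ?_⟩,
      fun v w => ?_, fun v => ?_, fun v hv => ?_⟩
    · simp only [f]; rw [map_add, hs.bilinear.add_left, mul_add]
    · simp only [f]; rw [map_smul, hs.bilinear.smul_left]; ring
    · simp only [f]; rw [map_add, hs.bilinear.add_right, mul_add]
    · simp only [f]; rw [map_smul, hs.bilinear.smul_right]; ring
    · simp only [f]; rw [hs.skew, mul_neg]
    · simp only [f]; rw [hs.alternating, mul_zero]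
    · obtain ⟨⟨x, hx⟩, ⟨y, hy⟩⟩ := hs.nondegenerate (Transvect.app P v)
        fun h => hv ((Transvect.app P).map_eq_zero_iff.1 h)
      exact ⟨⟨Transvect.app P⁻¹ x, by simp only [f]; rw [Transvect.app_app_inv]; exact mul_ne_zero hζ hx⟩,
        ⟨Transvect.app P⁻¹ y, by simp only [f]; rw [Transvect.app_app_inv]; exact mul_ne_zero hζ hy⟩⟩
  have hR : C5.RatForm F₀ f := hP
  have hn : 4 ≤ Fintype.card (Fin 2 ⊕ Fin 2) := by simp
  have key : Cfsg.Geo.IsMaximalIn (C5.isoGroup f)
      (Cfsg.Geo.subfieldSubgroup F₀ 1 ⊓ C5.isoGroup f) := by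
    refine Transvect.isMaximalIn_of_forall inf_le_right ?_ fun M hHM hMK g hg hgH =>
      C5Four.isoGroup_le_of_not_mem hf hr hcard hn hR hMK hHM h2 hg fun h => hgH ⟨h, hMK hg⟩
    obtain ⟨l, hl⟩ : ∃ l : F, l ∉ F₀ := by
      by_contra! hall
      have h1 : Nat.card F₀ = Fintype.card F := by
        rw [← Nat.card_eq_fintype_card]
        exact Nat.card_congr (Equiv.subtypeUnivEquiv hall)
      have h2 := Nat.pow_lt_pow_right (Fintype.one_lt_card (α := F)) hr.one_lt
      rw [pow_one] at h2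
      rw [h1] at hcard
      omega
    obtain ⟨e, he, he0, -⟩ := C5.exists_rat_kill (F₀ := F₀) (ι := Fin 2 ⊕ Fin 2) (k := 0) (φ := ![])
      (by omega) (fun j => j.elim0)
    obtain ⟨t, ht, het⟩ := C5Four.exists_rat_partner hf hn hR he he0
    refine ⟨Transvect.st hf e l, Transvect.st_isIsom hf e l, fun h => hl ?_⟩
    obtain ⟨c, hc, hrat⟩ := C5.ratLine_mem_iff.1 h.1
    have e1 := hrat e he
    rw [Transvect.st_apply, hf.alternating, mul_zero, zero_smul, add_zero] at e1
    have hcF := C5.mem_of_smul_rat he he0 e1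
    have e2 := (hrat t ht).sub (ht.smul hcF)
    rw [Transvect.st_apply, smul_add, add_sub_cancel_left, smul_smul, hf.skew t e, het] at e2
    have h3 := F₀.mul_mem (C5.mem_of_smul_rat he he0 e2) (F₀.inv_mem hcF)
    have : c⁻¹ * (l * -1) * c⁻¹⁻¹ = -l := by field_simp
    rw [this] at h3
    simpa using F₀.neg_mem h3
  have hmap : (C5.isoGroup f).map (MulAut.conj P).toMonoidHom = Cfsg.spGL 2 F := by
    ext g
    rw [Transvect.mem_spGL_iff, Subgroup.mem_map]
    constructor
    · rintro ⟨x, hx, rfl⟩ u v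
      have h1 := mul_left_cancel₀ hζ (hx (Transvect.app P⁻¹ u) (Transvect.app P⁻¹ v))
      simp only [Transvect.app_app_inv] at h1
      simp only [MulEquiv.coe_toMonoidHom, MulAut.conj_apply, map_mul, LinearEquiv.mul_apply]
      exact h1
    · intro hg
      refine ⟨P⁻¹ * g * P, fun u v => ?_, by simp [mul_assoc]⟩
      simp only [f, map_mul, LinearEquiv.mul_apply, Transvect.app_app_inv]
      rw [hg]
  have h1 := C5.isMaximalIn_map (MulAut.conj P) key
  rw [Subgroup.map_inf _ _ (MulAut.conj P).toMonoidHom (MulEquiv.injective _), hmap,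
    ← C5.subfieldSubgroup_eq_map] at h1
  exact h1


/-- Maximal subgroups of Sp_4(q) of geometric type, q ≥ 4 even. Let F be a finite field of even order q ≥ 4, f the standard alternating form on F^4 (coordinates Fin 2 ⊕ Fin 2) and Sp_4(F) its isometry group inside GL_4(F). Each of the following, intersected with Sp_4(F), is a maximal subgroup of Sp_4(F): (1) the stabiliser of any non-zero totally isotropic subspace (totally isotropic 1-spaces and 2-spaces); (2) the stabiliser of any decomposition of F^4 into two mutually orthogonal non-degenerate 2-spaces; (3) the normaliser of any degree-2 subfield K of the matrix algebra whose elements are self-adjoint for f with f(k v, v) = 0 for all k in K and all v; (4) every subfield group for a subfield F₀ with |F| = |F₀|^r, r prime, whose F₀-structure carries a non-zero scalar multiple of f; (5) the similarity group of any non-degenerate quadratic form whose polar form is f (either Witt type); its intersection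 with Sp_4(F) is the orthogonal group of that form. -/
theorem result {F : Type*} [Field F] [Fintype F] (heven : ¬ Odd (Fintype.card F)) (h4 : 4 ≤ Fintype.card F) :
    (∀ W : Submodule F (Fin 2 ⊕ Fin 2 → F), W ≠ ⊥ → Cfsg.Geo.IsTotallySingularFor (Cfsg.sympForm 2 F) W → Cfsg.Geo.IsMaximalIn (Cfsg.spGL 2 F) (Cfsg.Geo.subspaceStabilizer W ⊓ Cfsg.spGL 2 F)) ∧
    (∀ D : Fin 2 → Submodule F (Fin 2 ⊕ Fin 2 → F), Cfsg.Geo.IsNondegenerateMDecomposition (Cfsg.sympForm 2 F) 2 D → Cfsg.Geo.IsMaximalIn (Cfsg.spGL 2 F) (Cfsg.Geo.decompositionStabilizer D ⊓ Cfsg.spGL 2 F)) ∧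
    (∀ K : Subalgebra F (Matrix (Fin 2 ⊕ Fin 2) (Fin 2 ⊕ Fin 2) F), Cfsg.Geo.IsFieldSubalgebra 2 K → Cfsg.Geo.IsSelfAdjointFor (Cfsg.sympForm 2 F) K → (∀ k ∈ K, ∀ v : (Fin 2 ⊕ Fin 2 → F), (Cfsg.sympForm 2 F) (Matrix.mulVec k v) v = 0) → Cfsg.Geo.IsMaximalIn (Cfsg.spGL 2 F) (Cfsg.Geo.subalgebraNormalizer K ⊓ Cfsg.spGL 2 F)) ∧
    (∀ (F₀ : Subfield F) (r : ℕ) (P : Matrix.GeneralLinearGroup (Fin 2 ⊕ Fin 2) F) (ζ : F), r.Prime → Fintype.card F = Nat.card F₀ ^ r → ζ ≠ 0 → Cfsg.Geo.IsFormRationalStructure (Cfsg.sympForm 2 F) F₀ ζ P → Cfsg.Geo.IsMaximalIn (Cfsg.spGL 2 F) (Cfsg.Geo.subfieldSubgroup F₀ P ⊓ Cfsg.spGL 2 F)) ∧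
    (∀ Q : (Fin 2 ⊕ Fin 2 → F) → F, Cfsg.Geo.IsNondegenerateQuadraticForm Q → (∀ u v : (Fin 2 ⊕ Fin 2 → F), QuadraticMap.polar Q u v = (Cfsg.sympForm 2 F) u v) → Cfsg.Geo.IsMaximalIn (Cfsg.spGL 2 F) (Cfsg.Geo.quadSimilarityGroup Q ⊓ Cfsg.spGL 2 F)) := by
  classical
  have hr2 : ringChar F = 2 := FiniteField.even_card_iff_char_two.2
    (Nat.even_iff.1 (Nat.not_odd_iff_even.1 heven))
  haveI : CharP F 2 := ringChar.of_eq hr2
  have h2 : (2 : F) = 0 := CharTwo.two_eq_zero
  have hs := Transvect.sympForm_isSymplectic (F := F) 2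
  have hsq : ∀ a : F, ∃ b : F, b * b = a := fun a => by
    obtain ⟨b, hb⟩ := FiniteField.isSquare_of_char_two hr2 a
    exact ⟨b, hb.symm⟩
  have hω : ∃ c : F, c ≠ 0 ∧ c ≠ 1 := by
    by_contra! h
    have hsub : (Finset.univ : Finset F) ⊆ {0, 1} := fun x _ => by
      by_cases hx : x = 0
      · simp [hx]
      · simp [h x hx]
    have h1 := (Finset.card_le_card hsub).trans Finset.card_le_two
    rw [Finset.card_univ] at h1
    omega
  exact ⟨fun W hW0 hW => SpFourMax.singular_maximal 2 W hW0 hW,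
    fun D hD => S5647.decomposition_maximal hs D hD (fun _ => hω) _ (fun g => Transvect.mem_spGL_iff),
    fun K hK hsa halt => SpFourMax.extension_maximal hω hsq K hK hsa halt,
    fun F₀ r P ζ hr hcard hζ hP => subfield_maximal h2 F₀ r hr hcard P ζ hζ hP,
    fun Q hQ hpol => SpFourMax.quadratic_maximal hs hQ hpol (by simp) hω h2 hsq _
      (fun g => Transvect.mem_spGL_iff)⟩

end Cfsg.Agent.S5789
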