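import Cfsg.Statements.S5790
import Cfsg.Agent.EqLemmas
import Cfsg.Agent.Lib.Aschbacher.SymplecticCases

set_option autoImplicit false
open Cfsg
open Cfsg.Agent.Aschbacher Cfsg.Agent

namespace Cfsg.Agent.S5790

/-- Every maximal subgroup of Sp_4(q), q ≥ 4 even, is of one of the listed geometric types or lies in the residual class. Let F be a finite field of even order q ≥ 4, f the standard alternating form on F^4 (coordinates Fin 2 ⊕ Fin 2), and H a maximal subgroup of Sp_4(F) (inside GL_4(F)). Then H is the intersection with Sp_4(F) of one of: the stabiliser of a non-zero totally isotropic subspace; the stabiliser of a decomposition into two orthogonal non-degenerate 2-spaces; the normaliser of a degree-2 subfield K of the matrix algebra, self-adjoint with f(k v, v) = 0; a subfield group whose F₀-structure carries a non-zero multiple of f, |F| = |F₀|^r with r prime; the similarity group of a non-degenerate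 quadratic form whose polar form is f — or else H lies in the residual class of the symplectic case. -/
theorem result {F : Type*} [Field F] [Fintype F] (heven : ¬ Odd (Fintype.card F)) (h4 : 4 ≤ Fintype.card F) (H : Subgroup (Matrix.GeneralLinearGroup (Fin 2 ⊕ Fin 2) F)) (hH : Cfsg.Geo.IsMaximalIn (Cfsg.spGL 2 F) H) :
    (∃ W : Submodule F (Fin 2 ⊕ Fin 2 → F), W ≠ ⊥ ∧ Cfsg.Geo.IsTotallySingularFor (Cfsg.sympForm 2 F) W ∧ H = Cfsg.Geo.subspaceStabilizer W ⊓ Cfsg.spGL 2 F) ∨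
    (∃ D : Fin 2 → Submodule F (Fin 2 ⊕ Fin 2 → F), Cfsg.Geo.IsNondegenerateMDecomposition (Cfsg.sympForm 2 F) 2 D ∧ H = Cfsg.Geo.decompositionStabilizer D ⊓ Cfsg.spGL 2 F) ∨
    (∃ K : Subalgebra F (Matrix (Fin 2 ⊕ Fin 2) (Fin 2 ⊕ Fin 2) F), Cfsg.Geo.IsFieldSubalgebra 2 K ∧ Cfsg.Geo.IsSelfAdjointFor (Cfsg.sympForm 2 F) K ∧ (∀ k ∈ K, ∀ v : (Fin 2 ⊕ Fin 2 → F), (Cfsg.sympForm 2 F) (Matrix.mulVec k v) v = 0) ∧ H = Cfsg.Geo.subalgebraNormalizer K ⊓ Cfsg.spGL 2 F) ∨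
    (∃ (F₀ : Subfield F) (r : ℕ) (P : Matrix.GeneralLinearGroup (Fin 2 ⊕ Fin 2) F) (ζ : F), r.Prime ∧ Fintype.card F = Nat.card F₀ ^ r ∧ ζ ≠ 0 ∧ Cfsg.Geo.IsFormRationalStructure (Cfsg.sympForm 2 F) F₀ ζ P ∧ H = Cfsg.Geo.subfieldSubgroup F₀ P ⊓ Cfsg.spGL 2 F) ∨
    (∃ Q : (Fin 2 ⊕ Fin 2 → F) → F, Cfsg.Geo.IsNondegenerateQuadraticForm Q ∧ (∀ u v : (Fin 2 ⊕ Fin 2 → F), QuadraticMap.polar Q u v = (Cfsg.sympForm 2 F) u v) ∧ H = Cfsg.Geo.quadSimilarityGroup Q ⊓ Cfsg.spGL 2 F) ∨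
    Cfsg.Geo.InSymplecticResidualClass H := by
  classical
  have hq1 := Fintype.one_lt_card (α := F)
  rcases sp_cases (by norm_num : 2 ≤ 2) hH with h | h | ⟨t, k, D, htk, ht, hk, hev, hk2, hD, heq⟩ |
    ⟨D, hodd, hD, hts, heq⟩ | ⟨r, K, hr, hrm, hK, hsa, halt, heq⟩ | h |
    ⟨hodd, n₁, n₂, e, P, f₁, f₂, hn, hn₁, hn₁e, hn₂, hn₃, h1, h2, h3, h4⟩ |
    ⟨hodd, k, t, e, P, f₁, hkt, hto, ht, hk, hev, hk2, hrest⟩ | h | ⟨R, p, k, hk, hR⟩ | h | h
  · exact Or.inl h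
  · obtain ⟨W, hb, hnd, hdim, -⟩ := h
    exfalso
    have hev := nondeg_even (Transvect.sympForm_isSymplectic (F := F) 2) hnd
    have hpos : 0 < Module.finrank F W := Nat.pos_of_ne_zero fun h0 => hb (Submodule.finrank_eq_zero.mp h0)
    obtain ⟨j, hj⟩ := hev
    omega
  · obtain ⟨rfl, rfl⟩ : t = 2 ∧ k = 2 := by constructor <;> nlinarith
    exact Or.inr (Or.inl ⟨D, hD, heq⟩)
  · exact absurd hodd heven
  · obtain rfl : r = 2 := (Nat.prime_dvd_prime_iff_eq hr Nat.prime_two).mp hrm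
    exact Or.inr (Or.inr (Or.inl ⟨K, hK, hsa, halt, heq⟩))
  · exact absurd h.1 heven
  · exact absurd hodd heven
  · exact absurd hodd heven
  · exact Or.inr (Or.inr (Or.inr (Or.inl h)))
  · obtain ⟨-, -, -, hp, hpo, hFp, -⟩ := hR
    exact absurd (hFp ▸ hpo) heven
  · exact Or.inr (Or.inr (Or.inr (Or.inr (Or.inl h.2))))
  · exact Or.inr (Or.inr (Or.inr (Or.inr (Or.inr h))))

end Cfsg.Agent.S5790
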