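import Cfsg.Statements.S5796
import Cfsg.Agent.EqLemmas
import Cfsg.Agent.Lib.PrimeDim.UnitaryCases
import Cfsg.Agent.Lib.PrimeDim.SU5Two

set_option autoImplicit false
open Cfsg

namespace Cfsg.Agent.S5796

/-- Every maximal subgroup of SU_5(q) is of one of the listed geometric types or lies in the residual class. Let F be the field with q² elements (characteristic p), f the standard unitary form Σ u_i v_i^q on F^5, and H a maximal subgroup of SU_5(q) (inside GL_5(F)). Then H is the intersection with SU_5(q) of one of: the stabiliser of a non-zero totally isotropic subspace; the stabiliser of a non-degenerate 1-space or 2-space; the stabiliser of a decomposition into five mutually orthogonal non-degenerate 1-spaces; for q ≥ 3, the normaliser of an adjoint-closed degree-5 subfield of the matrix algebra; a subfield group of odd prime index whose F₀-structure carries f; for q odd, a subfield group of index 2 whose F₀-structure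 carries f; for q = p ≡ 4 mod 5 or q = p² with p ≡ 2, 3 mod 5, the normaliser of an absolutely irreducible 5-group of exponent 5, order 125 and centre of order 5 with all characteristic abelian subgroups cyclic inside the similarity group of f — or else H lies in the residual class of the unitary case. -/
theorem result {F : Type*} [Field F] [Fintype F] (q : ℕ) (hF : Fintype.card F = q ^ 2) (H : Subgroup (Matrix.GeneralLinearGroup (Fin 5) F)) (hH : Cfsg.Geo.IsMaximalIn (Cfsg.GU 5 F q ⊓ Cfsg.Geo.specialLinear (Fin 5) F) H) :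
    (∃ W : Submodule F (Fin 5 → F), W ≠ ⊥ ∧ Cfsg.Geo.IsTotallySingularFor (Cfsg.hermForm 5 F q) W ∧ H = Cfsg.Geo.subspaceStabilizer W ⊓ (Cfsg.GU 5 F q ⊓ Cfsg.Geo.specialLinear (Fin 5) F)) ∨
    (∃ W : Submodule F (Fin 5 → F), W ≠ ⊥ ∧ Cfsg.Geo.IsNondegenerateOn (Cfsg.hermForm 5 F q) W ∧ 2 * Module.finrank F W < 5 ∧ H = Cfsg.Geo.subspaceStabilizer W ⊓ (Cfsg.GU 5 F q ⊓ Cfsg.Geo.specialLinear (Fin 5) F)) ∨
    (∃ D : Fin 5 → Submodule F (Fin 5 → F), Cfsg.Geo.IsNondegenerateMDecomposition (Cfsg.hermForm 5 F q) 1 D ∧ H = Cfsg.Geo.decompositionStabilizer D ⊓ (Cfsg.GU 5 F q ⊓ Cfsg.Geo.specialLinear (Fin 5) F)) ∨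
    (3 ≤ q ∧ ∃ K : Subalgebra F (Matrix (Fin 5) (Fin 5) F), Cfsg.Geo.IsFieldSubalgebra 5 K ∧ Cfsg.Geo.IsAdjointClosedFor (Cfsg.hermForm 5 F q) K ∧ H = Cfsg.Geo.subalgebraNormalizer K ⊓ (Cfsg.GU 5 F q ⊓ Cfsg.Geo.specialLinear (Fin 5) F)) ∨
    (∃ (F₀ : Subfield F) (r : ℕ) (P : Matrix.GeneralLinearGroup (Fin 5) F), r.Prime ∧ Odd r ∧ Fintype.card F = Nat.card F₀ ^ r ∧ Cfsg.Geo.IsFormRationalStructure (Cfsg.hermForm 5 F q) F₀ 1 P ∧ H = Cfsg.Geo.subfieldSubgroup F₀ P ⊓ (Cfsg.GU 5 F q ⊓ Cfsg.Geo.specialLinear (Fin 5) F)) ∨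
    (Odd q ∧ ∃ (F₀ : Subfield F) (P : Matrix.GeneralLinearGroup (Fin 5) F), Fintype.card F = Nat.card F₀ ^ 2 ∧ Cfsg.Geo.IsFormRationalStructure (Cfsg.hermForm 5 F q) F₀ 1 P ∧ H = Cfsg.Geo.subfieldSubgroup F₀ P ⊓ (Cfsg.GU 5 F q ⊓ Cfsg.Geo.specialLinear (Fin 5) F)) ∨
    (∃ (p : ℕ) (R : Subgroup (Matrix.GeneralLinearGroup (Fin 5) F)), p.Prime ∧ CharP F p ∧ ((q = p ∧ p % 5 = 4) ∨ (q = p ^ 2 ∧ (p % 5 = 2 ∨ p % 5 = 3))) ∧ Cfsg.Geo.IsSymplecticTypeGroup 5 R ∧ Cfsg.Geo.ActsAbsolutelyIrreducibly (Cfsg.Geo.matrixSet R) ∧ R ≤ Cfsg.Geo.similarityGroup (Cfsg.hermForm 5 F q) ∧ Nat.card R = 125 ∧ Nat.card (Subgroup.center R) = 5 ∧ H = Cfsg.Geo.subgroupNormalizer R ⊓ (Cfsg.GU 5 F q ⊓ Cfsg.Geo.specialLinear (Fin 5) F)) ∨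
    Cfsg.Geo.InUnitaryResidualClass H := by
  rcases PrimeDim.unitary_cases hF (by norm_num : Nat.Prime 5) (by norm_num) hH with
    h | h | h | ⟨K, hK, hadj, heq⟩ | h | h | ⟨p, b, R, hp, hpc, hq, hord, hR, hI, hU, hS, hc, hz, heq⟩ | h
  · exact Or.inl h
  · exact Or.inr (Or.inl h)
  · exact Or.inr (Or.inr (Or.inl h))
  · refine Or.inr (Or.inr (Or.inr (Or.inl ⟨?_, K, hK, hadj, heq⟩)))
    by_contra h3
    have h2 := Unitary.two_le_q hF
    obtain rfl : q = 2 := by omega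
    refine PrimeDim.SU5Two.field_not_maximal hF hH hK (fun k hk => ?_) heq
    obtain ⟨k', hk', hadj'⟩ := hadj k hk
    have heq' : k' = PrimeDim.adjU hF k := by
      have H := Unitary.hermForm_isHerm hF 5
      refine Matrix.ext_of_mulVec_single fun i => ?_
      refine sub_eq_zero.mp (Unitary.hermForm_nondeg hF 5 _ fun u => ?_)
      rw [H.eq_zero_symm hF, H.sub_right hF, ← hadj', ← PrimeDim.herm_adjU hF, sub_self]
    rw [← heq']
    exact hk'
  · exact Or.inr (Or.inr (Or.inr (Or.inr (Or.inl h))))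
  · exact Or.inr (Or.inr (Or.inr (Or.inr (Or.inr (Or.inl h)))))
  · refine Or.inr (Or.inr (Or.inr (Or.inr (Or.inr (Or.inr (Or.inl
      ⟨p, R, hp, hpc, ?_, hR, hI, hS, by rw [hc]; norm_num, hz, heq⟩))))))
    have key1 : ∀ x : ZMod 5, x ^ 2 = 1 → x ≠ 1 → x.val = 4 := by decide
    have key2 : ∀ x : ZMod 5, x ≠ 0 → x ^ 2 ≠ 1 → (x.val = 2 ∨ x.val = 3) := by decide
    have : Fact (Nat.Prime 5) := ⟨by norm_num⟩
    have hb0 : 0 < b := by
      rcases Nat.eq_zero_or_pos b with h | h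
      · exfalso
        subst h
        have h1 := Fintype.one_lt_card (α := F)
        rw [hF, hq] at h1
        simp at h1
      · exact h
    rw [← ZMod.val_natCast 5 p]
    generalize (p : ZMod 5) = x at hord ⊢
    have hpow : x ^ (2 * b) = 1 := hord ▸ pow_orderOf_eq_one x
    have hx0 : x ≠ 0 := fun h => by
      rw [h, zero_pow (by omega)] at hpow
      exact zero_ne_one hpow
    have hdvd : 2 * b ∣ 4 := hord ▸ orderOf_dvd_of_pow_eq_one (ZMod.pow_card_sub_one_eq_one hx0)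
    have hb : b = 1 ∨ b = 2 := by
      have := Nat.le_of_dvd (by norm_num) hdvd
      omega
    rcases hb with rfl | rfl
    · rw [pow_one] at hq
      have hx1 : x ≠ 1 := fun h => by rw [h, orderOf_one] at hord; omega
      exact Or.inl ⟨hq, key1 x hpow hx1⟩
    · exact Or.inr ⟨hq, key2 x hx0 (pow_ne_one_of_lt_orderOf (by norm_num) (by omega))⟩
  · exact Or.inr (Or.inr (Or.inr (Or.inr (Or.inr (Or.inr (Or.inr h))))))

end Cfsg.Agent.S5796
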