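import Cfsg.Statements.S5802
import Cfsg.Agent.EqLemmas
import Cfsg.Agent.Lib.Aschbacher.UnitaryCases
import Cfsg.Agent.Lib.Aschbacher.UnitarySixTwo
import Cfsg.Agent.Lib.Aschbacher.UnitarySixField

set_option autoImplicit false
open Cfsg
open Cfsg.Agent.Aschbacher Cfsg.Agent.PrimeDim

namespace Cfsg.Agent.S5802

/-- Every maximal subgroup of SU_6(q) is of one of the listed geometric types or lies in the residual class. Let F be the field with q² elements, f the standard unitary form Σ u_i v_i^q on F^6, and H a maximal subgroup of SU_6(q) (inside GL_6(F)). Then H is the intersection with SU_6(q) of one of: the stabiliser of a non-zero totally isotropic subspace; the stabiliser of a non-degenerate 1- or 2-space; for q ≥ 3, the stabiliser of a decomposition into six mutually orthogonal non-degenerate 1-spaces; for q ≥ 3, of a decomposition into three mutually orthogonal non-degenerate 2-spaces; of a decomposition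 into two orthogonal non-degenerate 3-spaces; of a decomposition into two totally isotropic 3-spaces; for q ≥ 3, the normaliser of an adjoint-closed degree-3 subfield of the matrix algebra; for q ≥ 3, the stabiliser of a tensor decomposition of f into unitary forms on F^2 and F^3; a subfield group of odd prime index whose F₀-structure carries f; a subfield group of index 2 and symplectic type; for q odd, a subfield group of index 2 and orthogonal type — or else H lies in the residual class of the unitary case. -/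
theorem result {F : Type*} [Field F] [Fintype F] (q : ℕ) (hF : Fintype.card F = q ^ 2) (H : Subgroup (Matrix.GeneralLinearGroup (Fin 6) F)) (hH : Cfsg.Geo.IsMaximalIn (Cfsg.GU 6 F q ⊓ Cfsg.Geo.specialLinear (Fin 6) F) H) :
    (∃ W : Submodule F (Fin 6 → F), W ≠ ⊥ ∧ Cfsg.Geo.IsTotallySingularFor (Cfsg.hermForm 6 F q) W ∧ H = Cfsg.Geo.subspaceStabilizer W ⊓ (Cfsg.GU 6 F q ⊓ Cfsg.Geo.specialLinear (Fin 6) F)) ∨
    (∃ W : Submodule F (Fin 6 → F), W ≠ ⊥ ∧ Cfsg.Geo.IsNondegenerateOn (Cfsg.hermForm 6 F q) W ∧ 2 * Module.finrank F W < 6 ∧ H = Cfsg.Geo.subspaceStabilizer W ⊓ (Cfsg.GU 6 F q ⊓ Cfsg.Geo.specialLinear (Fin 6) F)) ∨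
    (3 ≤ q ∧ ∃ D : Fin 6 → Submodule F (Fin 6 → F), Cfsg.Geo.IsNondegenerateMDecomposition (Cfsg.hermForm 6 F q) 1 D ∧ H = Cfsg.Geo.decompositionStabilizer D ⊓ (Cfsg.GU 6 F q ⊓ Cfsg.Geo.specialLinear (Fin 6) F)) ∨
    (3 ≤ q ∧ ∃ D : Fin 3 → Submodule F (Fin 6 → F), Cfsg.Geo.IsNondegenerateMDecomposition (Cfsg.hermForm 6 F q) 2 D ∧ H = Cfsg.Geo.decompositionStabilizer D ⊓ (Cfsg.GU 6 F q ⊓ Cfsg.Geo.specialLinear (Fin 6) F)) ∨
    (∃ D : Fin 2 → Submodule F (Fin 6 → F), Cfsg.Geo.IsNondegenerateMDecomposition (Cfsg.hermForm 6 F q) 3 D ∧ H = Cfsg.Geo.decompositionStabilizer D ⊓ (Cfsg.GU 6 F q ⊓ Cfsg.Geo.specialLinear (Fin 6) F)) ∨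
    (∃ D : Fin 2 → Submodule F (Fin 6 → F), Cfsg.Geo.IsMDecomposition 3 D ∧ (∀ i, Cfsg.Geo.IsTotallySingularFor (Cfsg.hermForm 6 F q) (D i)) ∧ H = Cfsg.Geo.decompositionStabilizer D ⊓ (Cfsg.GU 6 F q ⊓ Cfsg.Geo.specialLinear (Fin 6) F)) ∨
    (3 ≤ q ∧ ∃ K : Subalgebra F (Matrix (Fin 6) (Fin 6) F), Cfsg.Geo.IsFieldSubalgebra 3 K ∧ Cfsg.Geo.IsAdjointClosedFor (Cfsg.hermForm 6 F q) K ∧ H = Cfsg.Geo.subalgebraNormalizer K ⊓ (Cfsg.GU 6 F q ⊓ Cfsg.Geo.specialLinear (Fin 6) F)) ∨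
    (3 ≤ q ∧ ∃ (e : Fin 6 ≃ Fin 2 × Fin 3) (P : Matrix.GeneralLinearGroup (Fin 6) F) (f₁ : (Fin 2 → F) → (Fin 2 → F) → F) (f₂ : (Fin 3 → F) → (Fin 3 → F) → F), Cfsg.Geo.IsUnitaryFormPow q f₁ ∧ Cfsg.Geo.IsUnitaryFormPow q f₂ ∧ Cfsg.Geo.IsTensorFormStructure (fun x : F => x ^ q) (Cfsg.hermForm 6 F q) f₁ f₂ e P ∧ H = Cfsg.Geo.tensorProductSubgroup 2 3 e P ⊓ (Cfsg.GU 6 F q ⊓ Cfsg.Geo.specialLinear (Fin 6) F)) ∨
    (∃ (F₀ : Subfield F) (r : ℕ) (P : Matrix.GeneralLinearGroup (Fin 6) F), r.Prime ∧ Odd r ∧ Fintype.card F = Nat.card F₀ ^ r ∧ Cfsg.Geo.IsFormRationalStructure (Cfsg.hermForm 6 F q) F₀ 1 P ∧ H = Cfsg.Geo.subfieldSubgroup F₀ P ⊓ (Cfsg.GU 6 F q ⊓ Cfsg.Geo.specialLinear (Fin 6) F)) ∨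
    (∃ (F₀ : Subfield F) (P : Matrix.GeneralLinearGroup (Fin 6) F) (ζ : F), Fintype.card F = Nat.card F₀ ^ 2 ∧ ζ ≠ 0 ∧ ζ + ζ ^ q = 0 ∧ Cfsg.Geo.IsFormRationalStructure (Cfsg.hermForm 6 F q) F₀ ζ P ∧ (∀ u : Fin 6 → F, (∀ i, u i ∈ F₀) → (Cfsg.hermForm 6 F q) (Matrix.mulVec (P : Matrix (Fin 6) (Fin 6) F) u) (Matrix.mulVec (P : Matrix (Fin 6) (Fin 6) F) u) = 0) ∧ H = Cfsg.Geo.subfieldSubgroup F₀ P ⊓ (Cfsg.GU 6 F q ⊓ Cfsg.Geo.specialLinear (Fin 6) F)) ∨
    (Odd q ∧ ∃ (F₀ : Subfield F) (P : Matrix.GeneralLinearGroup (Fin 6) F), Fintype.card F = Nat.card F₀ ^ 2 ∧ Cfsg.Geo.IsFormRationalStructure (Cfsg.hermForm 6 F q) F₀ 1 P ∧ H = Cfsg.Geo.subfieldSubgroup F₀ P ⊓ (Cfsg.GU 6 F q ⊓ Cfsg.Geo.specialLinear (Fin 6) F)) ∨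
    Cfsg.Geo.InUnitaryResidualClass H := by
  classical
  have hq2 := Unitary.two_le_q hF
  rcases su_cases hF (by norm_num : 5 ≤ 6) hH with h | h | ⟨m, t, D, htm, ht, hm2, hD, heq⟩ |
    ⟨m, D, hm, hD, hts, heq⟩ | ⟨r, K, hr, hrodd, hrn, hK, hadj, heq⟩ | ⟨d, t, hdt, hd, hlt, hd2, hT⟩ |
    h | h | h | ⟨r, m, z, p, f, R, -, hR⟩ | ⟨d, -, hdd, -⟩ | ⟨d, k, hd, hk, hdk, -⟩ | h
  · exact Or.inl h
  · exact Or.inr (Or.inl h)
  · have htl : t ∣ 6 := Dvd.intro m htm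
    have := Nat.le_of_dvd (by norm_num) htl
    interval_cases t <;> norm_num at htl
    · obtain rfl : m = 3 := by omega
      iterate 4 right
      exact Or.inl ⟨D, hD, heq⟩
    · obtain rfl : m = 2 := by omega
      iterate 3 right
      exact Or.inl ⟨hm2 rfl, D, hD, heq⟩
    · obtain rfl : m = 1 := by omega
      refine Or.inr (Or.inr (Or.inl ⟨?_, D, hD, heq⟩))
      by_contra h3
      obtain rfl : q = 2 := by omega
      exact su_six_two_lines hF hH hD heq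
  · obtain rfl : m = 3 := by omega
    iterate 5 right
    exact Or.inl ⟨D, hD, hts, heq⟩
  · obtain rfl : r = 3 := by
      have := Nat.le_of_dvd (by norm_num) hrn
      interval_cases r <;> first | rfl | (exfalso; revert hr hrodd hrn; decide)
    by_cases h3 : 3 ≤ q
    · iterate 6 right
      exact Or.inl ⟨h3, K, hK, hadj, heq⟩
    obtain rfl : q = 2 := by omega
    obtain ⟨F₀, P, ζ, hc, hne, hζ, hζq, hform, halt, hle⟩ :=
      su_six_two_field hF hH.1.le hK hadj (heq.le.trans inf_le_left)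
    iterate 9 right
    refine Or.inl ⟨F₀, P, ζ, hc, hζ, hζq, hform, halt, ?_⟩
    rcases hH.2 (Geo.subfieldSubgroup F₀ P ⊓ _) (le_inf hle hH.1.le) inf_le_right with h | h
    · exact h.symm
    · exact absurd (h ▸ inf_le_left) (not_su_le_subfieldSubgroup' hF (by norm_num) hne P)
  · have hdl : d ∣ 6 := Dvd.intro t hdt
    have := Nat.le_of_dvd (by norm_num) hdl
    interval_cases d <;> norm_num at hdl
    all_goals (try (exfalso; omega))
    obtain rfl : t = 3 := by omega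
    obtain ⟨P, f₁, f₂, h1, h2, h3, h4⟩ := hT (finProdFinEquiv (m := 2) (n := 3)).symm
    iterate 7 right
    exact Or.inl ⟨hd2 rfl, _, P, f₁, f₂, h1, h2, h3, h4⟩
  · iterate 8 right
    exact Or.inl h
  · iterate 9 right
    exact Or.inl h
  · iterate 10 right
    exact Or.inl h
  · exfalso
    have hc : r ^ m = 6 := by rw [← hR.card_eq, Fintype.card_fin]
    have hr := hR.prime
    have hm := hR.pos
    have hle : r ≤ 6 := hc ▸ Nat.le_self_pow (by omega) r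
    have h2 : m ≤ 6 := hc ▸ (Nat.lt_pow_self hr.one_lt).le
    interval_cases r <;> interval_cases m <;> revert hr hc <;> decide
  · exfalso
    have : d < 3 := by nlinarith
    interval_cases d <;> omega
  · exfalso
    have : d * d ≤ d ^ k := by rw [← sq]; exact Nat.pow_le_pow_right (by omega) hk
    nlinarith
  · iterate 11 right
    exact h

end Cfsg.Agent.S5802
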