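import Cfsg.Statements.S5813
import Cfsg.Agent.Lib.Orth.Parabolic
import Cfsg.Agent.Lib.Orth.Nondeg
import Cfsg.Agent.Lib.Orth.Frame.Main
import Cfsg.Agent.Lib.C5.OrthMax
import Cfsg.Agent.Lib.Orth.Models

set_option autoImplicit false
open Cfsg

namespace Cfsg.Agent.S5813

/-- Maximal subgroups of Ω_7(q) of geometric type, q odd. Let F be a finite field of odd order q, Q the standard quadratic form x₀² + Σ x_i y_i on F^7 (coordinates Unit ⊕ (Fin 3 ⊕ Fin 3)), and Ω = Ω_7(q) the commutator subgroup of its isometry group, inside GL_7(F). Each of the following, intersected with Ω, is a maximal subgroup of Ω: (1) the stabiliser of any non-zero subspace on which Q vanishes identically (totally singular 1-, 2- and 3-spaces); (2) the stabiliser of any non-zero even-dimensional subspace W on which the polar form of Q is non-degenerate (equivalently of its odd-dimensional orthogonal complement), except when q = 3 and W is a 2-space containing a non-zero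 singular vector (a plus-type plane); (3) for q = p prime, the stabiliser of any decomposition of F^7 into seven pairwise orthogonal, pairwise Q-isometric non-degenerate 1-spaces; (4) every subfield group for a subfield F₀ with |F| = |F₀|^r, r prime, whose F₀-structure carries Q. -/
theorem result {F : Type*} [Field F] [Fintype F] (hodd : Odd (Fintype.card F)) :
    (∀ W : Submodule F (Unit ⊕ (Fin 3 ⊕ Fin 3) → F), W ≠ ⊥ → Cfsg.Geo.IsTotallySingularQuad (Cfsg.quadFormOdd 3 F) W → Cfsg.Geo.IsMaximalIn (Cfsg.Geo.omegaGL (Cfsg.quadFormOdd 3 F)) (Cfsg.Geo.subspaceStabilizer W ⊓ Cfsg.Geo.omegaGL (Cfsg.quadFormOdd 3 F))) ∧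
    (∀ W : Submodule F (Unit ⊕ (Fin 3 ⊕ Fin 3) → F), W ≠ ⊥ → Even (Module.finrank F W) → Cfsg.Geo.IsNondegenerateOn (QuadraticMap.polar (Cfsg.quadFormOdd 3 F)) W → ¬ (Fintype.card F = 3 ∧ Module.finrank F W = 2 ∧ Cfsg.Geo.IsPlusTypeOn (Cfsg.quadFormOdd 3 F) W) → Cfsg.Geo.IsMaximalIn (Cfsg.Geo.omegaGL (Cfsg.quadFormOdd 3 F)) (Cfsg.Geo.subspaceStabilizer W ⊓ Cfsg.Geo.omegaGL (Cfsg.quadFormOdd 3 F))) ∧
    ((Fintype.card F).Prime → ∀ D : Fin 7 → Submodule F (Unit ⊕ (Fin 3 ⊕ Fin 3) → F), Cfsg.Geo.IsOrthogonalMDecomposition (Cfsg.quadFormOdd 3 F) 1 D → Cfsg.Geo.IsMaximalIn (Cfsg.Geo.omegaGL (Cfsg.quadFormOdd 3 F)) (Cfsg.Geo.decompositionStabilizer D ⊓ Cfsg.Geo.omegaGL (Cfsg.quadFormOdd 3 F))) ∧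
    (∀ (F₀ : Subfield F) (r : ℕ) (P : Matrix.GeneralLinearGroup (Unit ⊕ (Fin 3 ⊕ Fin 3)) F), r.Prime → Fintype.card F = Nat.card F₀ ^ r → Cfsg.Geo.IsQuadFormRationalStructure (Cfsg.quadFormOdd 3 F) F₀ P → Cfsg.Geo.IsMaximalIn (Cfsg.Geo.omegaGL (Cfsg.quadFormOdd 3 F)) (Cfsg.Geo.subfieldSubgroup F₀ P ⊓ Cfsg.Geo.omegaGL (Cfsg.quadFormOdd 3 F))) := by
  classical
  have h2 : (2 : F) ≠ 0 := fun h => by
    have h' := (FiniteField.even_card_iff_char_two (F := F)).1
      (CharP.ringChar_of_prime_eq_zero Nat.prime_two (by exact_mod_cast h))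
    exact Nat.not_even_iff_odd.2 hodd (Nat.even_iff.2 h')
  have hnd := Cfsg.Agent.Orth.quadOdd_nondeg (F := F) 3 h2
  have hG := Cfsg.Agent.Orth.Good.of_two_ne_zero hnd h2
  have hq : Fintype.card F ≠ 2 := fun h => by rw [h] at hodd; exact absurd hodd (by decide)
  refine ⟨fun W hW0 hW => ?_, fun W hW0 hev hW hex => ?_, fun hprime D hD => ?_,
    fun F₀ r P hr hcard hP => ?_⟩
  · refine Cfsg.Agent.Orth.singular_stabilizer_maximal (Q := Cfsg.Agent.Orth.quadOdd 3 F) hG (by simp) hW0 hW ?_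
    by_cases hk : Module.finrank F W < 3
    · exact .inl (by simp; omega)
    · refine .inr fun U hU => ?_
      have h := Cfsg.Agent.Orth.two_mul_finrank_le_of_isotropic hnd U
        fun a ha b hb => Cfsg.Agent.OrthAct.polar_eq_zero_of_singular hU ha hb
      simp at h
      omega
  · have hW' := Cfsg.Agent.Orth.nondegOn_of_geo (Q := Cfsg.Agent.Orth.quadOdd 3 F) hW
    have hd := Cfsg.Agent.Orth.finrank_perpSub hnd W
    have hle := Submodule.finrank_le W
    simp at hd hle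
    obtain ⟨r, hr⟩ := hev
    have hW1 : W ≠ ⊤ := fun h => by
      have := congrArg (fun U : Submodule F (Unit ⊕ (Fin 3 ⊕ Fin 3) → F) => Module.finrank F U) h
      simp at this
      omega
    have hexW : ¬ (Fintype.card F ≤ 3 ∧ Module.finrank F W = 2 ∧
        Cfsg.Geo.IsPlusTypeOn (Cfsg.quadFormOdd 3 F) W) := fun ⟨h, h2', hp⟩ => by
      obtain ⟨k, hk⟩ := hodd
      have h1 := Fintype.one_lt_card (α := F)
      exact hex ⟨by omega, h2', hp⟩
    by_cases h4 : 4 ≤ Module.finrank F W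
    · refine Cfsg.Agent.Orth.nondeg_stabilizer_maximal_big (Q := Cfsg.Agent.Orth.quadOdd 3 F) hG hW' (by simp) ?_ hW0 hW1 hexW
        (fun ⟨_, h2', _⟩ => by omega) (fun heq => by omega)
      exact .inl ⟨by omega, Cfsg.Agent.Orth.isBig_of_four h4 hq⟩
    · exact Cfsg.Agent.Orth.nondeg_stabilizer_maximal' (Q := Cfsg.Agent.Orth.quadOdd 3 F) hG hW' (.inr (by
        have : 1 ≤ Module.finrank F W := Submodule.one_le_finrank_iff.2 hW0
        omega)) hW0 hW1 hexW (fun ⟨_, h2', _⟩ => by omega) (fun heq => by omega)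
  · exact Cfsg.Agent.Orth.Frame.frame_maximal' (Q := Cfsg.Agent.Orth.quadOdd 3 F) hprime hodd
      (.inr ⟨by simp, ⟨3, by simp⟩⟩) hD
  · refine Cfsg.Agent.C5.Ortho.isMaximalIn_subfield (Q := Cfsg.Agent.Orth.quadOdd 3 F) hnd (by simp) hr hcard P
      one_ne_zero ?_
    intro u hu
    show 1 * _ ∈ F₀
    rw [one_mul]
    exact hP u hu

end Cfsg.Agent.S5813
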