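import Cfsg.Statements.S5823
import Cfsg.Agent.EqLemmas
import Cfsg.Agent.Lib.Aschbacher.SymplecticCases
import Cfsg.Agent.Lib.Aschbacher.TensorPlus

set_option autoImplicit false
open Cfsg
open Cfsg.Agent.Aschbacher Cfsg.Agent

namespace Cfsg.Agent.S5823

/-- Every maximal subgroup of Sp_8(q) is of one of the listed geometric types or lies in the residual class. Let F be a finite field with q elements, f the standard alternating form on F^8 (coordinates Fin 4 ⊕ Fin 4), and H a maximal subgroup of Sp_8(F) (inside GL_8(F)). Then H is the intersection with Sp_8(F) of one of: the stabiliser of a non-zero totally isotropic subspace; the stabiliser of a non-degenerate 2-space; for q ≥ 3, the stabiliser of a decomposition into four mutually orthogonal non-degenerate 2-spaces; of a decomposition into two orthogonal non-degenerate 4-spaces; for q odd, of a decomposition into two totally isotropic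 4-spaces; the normaliser of a degree-2 subfield K, self-adjoint with f(k v, v) = 0; for q odd, the normaliser of a degree-2 subfield closed under adjoints but not self-adjoint; for q odd, the stabiliser of a tensor decomposition of f into an alternating form on F^2 and a minus-type symmetric form on F^4; a subfield group (|F| = |F₀|^r, r prime) whose F₀-structure carries a non-zero multiple of f; for q = p an odd prime, the normaliser of an absolutely irreducible extraspecial group 2_-^(1+6) of exponent 4 inside the similarity group of f; for q odd, q ≥ 5, the stabiliser of a tensor decomposition of f as a third tensor power of an alternating form on F^2; for q even, the similarity group of a non-degenerate quadratic form polarising to f — or else H lies in the residual class of the symplectic case. -/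
theorem result {F : Type*} [Field F] [Fintype F] (H : Subgroup (Matrix.GeneralLinearGroup (Fin 4 ⊕ Fin 4) F)) (hH : Cfsg.Geo.IsMaximalIn (Cfsg.spGL 4 F) H) :
    (∃ W : Submodule F (Fin 4 ⊕ Fin 4 → F), W ≠ ⊥ ∧ Cfsg.Geo.IsTotallySingularFor (Cfsg.sympForm 4 F) W ∧ H = Cfsg.Geo.subspaceStabilizer W ⊓ Cfsg.spGL 4 F) ∨
    (∃ W : Submodule F (Fin 4 ⊕ Fin 4 → F), W ≠ ⊥ ∧ Cfsg.Geo.IsNondegenerateOn (Cfsg.sympForm 4 F) W ∧ Module.finrank F W < 4 ∧ H = Cfsg.Geo.subspaceStabilizer W ⊓ Cfsg.spGL 4 F) ∨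
    (3 ≤ Fintype.card F ∧ ∃ D : Fin 4 → Submodule F (Fin 4 ⊕ Fin 4 → F), Cfsg.Geo.IsNondegenerateMDecomposition (Cfsg.sympForm 4 F) 2 D ∧ H = Cfsg.Geo.decompositionStabilizer D ⊓ Cfsg.spGL 4 F) ∨
    (∃ D : Fin 2 → Submodule F (Fin 4 ⊕ Fin 4 → F), Cfsg.Geo.IsNondegenerateMDecomposition (Cfsg.sympForm 4 F) 4 D ∧ H = Cfsg.Geo.decompositionStabilizer D ⊓ Cfsg.spGL 4 F) ∨
    (Odd (Fintype.card F) ∧ ∃ D : Fin 2 → Submodule F (Fin 4 ⊕ Fin 4 → F), Cfsg.Geo.IsMDecomposition 4 D ∧ (∀ i, Cfsg.Geo.IsTotallySingularFor (Cfsg.sympForm 4 F) (D i)) ∧ H = Cfsg.Geo.decompositionStabilizer D ⊓ Cfsg.spGL 4 F) ∨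
    (∃ K : Subalgebra F (Matrix (Fin 4 ⊕ Fin 4) (Fin 4 ⊕ Fin 4) F), Cfsg.Geo.IsFieldSubalgebra 2 K ∧ Cfsg.Geo.IsSelfAdjointFor (Cfsg.sympForm 4 F) K ∧ (∀ k ∈ K, ∀ v : (Fin 4 ⊕ Fin 4 → F), (Cfsg.sympForm 4 F) (Matrix.mulVec k v) v = 0) ∧ H = Cfsg.Geo.subalgebraNormalizer K ⊓ Cfsg.spGL 4 F) ∨
    (Odd (Fintype.card F) ∧ ∃ K : Subalgebra F (Matrix (Fin 4 ⊕ Fin 4) (Fin 4 ⊕ Fin 4) F), Cfsg.Geo.IsFieldSubalgebra 2 K ∧ Cfsg.Geo.IsAdjointClosedFor (Cfsg.sympForm 4 F) K ∧ ¬ Cfsg.Geo.IsSelfAdjointFor (Cfsg.sympForm 4 F) K ∧ H = Cfsg.Geo.subalgebraNormalizer K ⊓ Cfsg.spGL 4 F) ∨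
    (Odd (Fintype.card F) ∧ ∃ (e : (Fin 4 ⊕ Fin 4) ≃ Fin 2 × Fin 4) (P : Matrix.GeneralLinearGroup (Fin 4 ⊕ Fin 4) F) (f₁ : (Fin 2 → F) → (Fin 2 → F) → F) (f₂ : (Fin 4 → F) → (Fin 4 → F) → F), Cfsg.Geo.IsSymplecticForm f₁ ∧ Cfsg.Geo.IsSymmetricForm f₂ ∧ ¬ Cfsg.Geo.IsPlusTypeOn (fun v : Fin 4 → F => f₂ v v) ⊤ ∧ Cfsg.Geo.IsTensorFormStructure id (Cfsg.sympForm 4 F) f₁ f₂ e P ∧ H = Cfsg.Geo.tensorProductSubgroup 2 4 e P ⊓ Cfsg.spGL 4 F) ∨
    (∃ (F₀ : Subfield F) (r : ℕ) (P : Matrix.GeneralLinearGroup (Fin 4 ⊕ Fin 4) F) (ζ : F), r.Prime ∧ Fintype.card F = Nat.card F₀ ^ r ∧ ζ ≠ 0 ∧ Cfsg.Geo.IsFormRationalStructure (Cfsg.sympForm 4 F) F₀ ζ P ∧ H = Cfsg.Geo.subfieldSubgroup F₀ P ⊓ Cfsg.spGL 4 F) ∨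
    (∃ (p : ℕ) (R : Subgroup (Matrix.GeneralLinearGroup (Fin 4 ⊕ Fin 4) F)), p.Prime ∧ Odd p ∧ Fintype.card F = p ∧ Cfsg.Geo.IsSymplecticTypeGroup 2 R ∧ Cfsg.Geo.ActsAbsolutelyIrreducibly (Cfsg.Geo.matrixSet R) ∧ R ≤ Cfsg.Geo.similarityGroup (Cfsg.sympForm 4 F) ∧ Nat.card R = 128 ∧ Nat.card (Subgroup.center R) = 2 ∧ Cfsg.Geo.IsOfMinusType 3 R ∧ H = Cfsg.Geo.subgroupNormalizer R ⊓ Cfsg.spGL 4 F) ∨
    (Odd (Fintype.card F) ∧ 5 ≤ Fintype.card F ∧ ∃ (e : (Fin 4 ⊕ Fin 4) ≃ (Fin 3 → Fin 2)) (P : Matrix.GeneralLinearGroup (Fin 4 ⊕ Fin 4) F) (f₁ : (Fin 2 → F) → (Fin 2 → F) → F), Cfsg.Geo.IsSymplecticForm f₁ ∧ Cfsg.Geo.IsTensorPowerFormStructure id (Cfsg.sympForm 4 F) f₁ e P ∧ H = Cfsg.Geo.tensorWreathSubgroup 2 3 e P ⊓ Cfsg.spGL 4 F) ∨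
    (¬ Odd (Fintype.card F) ∧ ∃ Q : (Fin 4 ⊕ Fin 4 → F) → F, Cfsg.Geo.IsNondegenerateQuadraticForm Q ∧ (∀ u v : (Fin 4 ⊕ Fin 4 → F), QuadraticMap.polar Q u v = (Cfsg.sympForm 4 F) u v) ∧ H = Cfsg.Geo.quadSimilarityGroup Q ⊓ Cfsg.spGL 4 F) ∨
    Cfsg.Geo.InSymplecticResidualClass H := by
  classical
  have hq1 := Fintype.one_lt_card (α := F)
  rcases sp_cases (by norm_num : 2 ≤ 4) hH with h | h | ⟨t, k, D, htk, ht, hk, hev, hk2, hD, heq⟩ |
    ⟨D, hodd, hD, hts, heq⟩ | ⟨r, K, hr, hrm, hK, hsa, halt, heq⟩ | h |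
    ⟨hodd, n₁, n₂, e, P, f₁, f₂, hn, hn₁, hn₁e, hn₂, hn₃, h1, h2, h3, h4⟩ |
    ⟨hodd, k, t, e, P, f₁, hkt, hto, ht, hk, hev, hk2, h1, h2, h3⟩ | h |
    ⟨R, p, k, hk, hR1, hR2, hR3, hp, hpo, hFp, hcard, hcen, hmin, heq⟩ | h | h
  · exact Or.inl h
  · exact Or.inr (Or.inl h)
  · have htd : t ∣ 8 := Dvd.intro k htk
    have := Nat.le_of_dvd (by norm_num) htd
    obtain ⟨j, hj⟩ := hev
    interval_cases t <;> norm_num at htd
    all_goals (try (exfalso; omega))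
    · obtain rfl : k = 4 := by omega
      iterate 3 right
      exact Or.inl ⟨D, hD, heq⟩
    · obtain rfl : k = 2 := by omega
      exact Or.inr (Or.inr (Or.inl ⟨hk2 rfl, D, hD, heq⟩))
  · iterate 4 right
    exact Or.inl ⟨hodd, D, hD, hts, heq⟩
  · obtain rfl : r = 2 := (Nat.prime_dvd_prime_iff_eq hr Nat.prime_two).mp
      (hr.dvd_of_dvd_pow (show r ∣ 2 ^ 2 from hrm))
    iterate 5 right
    exact Or.inl ⟨K, hK, hsa, halt, heq⟩
  · iterate 6 right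
    exact Or.inl h
  · have hd : n₁ ∣ 8 := Dvd.intro n₂ hn
    have := Nat.le_of_dvd (by norm_num) hd
    obtain ⟨j, hj⟩ := hn₁e
    interval_cases n₁ <;> norm_num at hd
    all_goals (try (exfalso; omega))
    obtain rfl : n₂ = 4 := by omega
    iterate 7 right
    refine Or.inl ⟨hodd, e, P, f₁, f₂, h1, h2, fun hplus => ?_, h3, h4⟩
    have h20 : (2 : F) ≠ 0 := by
      intro h0
      obtain ⟨n, hn⟩ := hodd
      have h5 := FiniteField.cast_card_eq_zero F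
      rw [hn] at h5
      push_cast at h5
      rw [h0, zero_mul, zero_add] at h5
      exact one_ne_zero h5
    obtain ⟨K, hlt, hKlt⟩ := TensorPlus.not_maximal h20 e P f₁ f₂ h1 h2 hplus h3
    rcases hH.2 K (h4.le.trans hlt.le) hKlt.le with hK | hK
    · exact (hK.trans h4 ▸ hlt).ne rfl
    · exact hKlt.ne hK
  · obtain ⟨rfl, rfl⟩ : k = 2 ∧ t = 3 := by
      have hk2' : k = 2 := by
        have h3 : k ^ 3 ≤ 8 := by
          calc k ^ 3 ≤ k ^ t := Nat.pow_le_pow_right (by omega) ht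
            _ = 8 := hkt
        have : k ^ 3 < 3 ^ 3 := by omega
        have := (Nat.pow_lt_pow_iff_left (by norm_num : (3 : ℕ) ≠ 0)).mp this
        omega
      subst hk2'
      exact ⟨rfl, Nat.pow_right_injective (le_refl 2) (hkt.trans (by norm_num : (4 + 4 : ℕ) = 2 ^ 3))⟩
    iterate 10 right
    exact Or.inl ⟨hodd, hk2 rfl, e, P, f₁, h1, h2, h3⟩
  · iterate 8 right
    exact Or.inl h
  · obtain rfl : k = 3 := Nat.pow_right_injective (le_refl 2) (hk.symm.trans (by norm_num : (4 + 4 : ℕ) = 2 ^ 3))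
    iterate 9 right
    exact Or.inl ⟨p, R, hp, hpo, hFp, hR1, hR2, hR3, hcard, hcen, hmin, heq⟩
  · iterate 11 right
    exact Or.inl h
  · iterate 12 right
    exact h

end Cfsg.Agent.S5823
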