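import Cfsg.Statements.S5825
import Cfsg.Agent.Lib.Orth.LowDim

set_option autoImplicit false
open Cfsg

namespace Cfsg.Agent.S5825

/-- Maximal subgroups of Ω_8^-(q) of geometric type (any q). Let F be a finite field with q elements, Q a non-degenerate quadratic form on F^8 (non-degenerate polar form) of minus type (Witt index 3: no totally singular 4-space), and Ω = Ω_8^-(q) the commutator subgroup of the isometry group of Q, inside GL_8(F). Each of the following, intersected with Ω, is a maximal subgroup of Ω: (1) the stabiliser of any non-zero subspace on which Q vanishes identically (totally singular 1-, 2- and 3-spaces); (2) for q odd, the stabiliser of any proper subspace of odd dimension (1, 3, 5 or 7) on which the polar form of Q is non-degenerate; (3) the stabiliser of any non-degenerate 2-space of minus type (containing no non-zero singular vector); (4) for q ≥ 4, the stabiliser of any non-degenerate 2-space of plus type (containing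 a non-zero singular vector); (5) the stabiliser of any non-degenerate 4-space (its orthogonal complement is then a non-degenerate 4-space of the opposite type); (6) for q even, the stabiliser of the 1-space spanned by any non-singular vector v (Q(v) ≠ 0); (7) for q odd, the normaliser of any degree-2 subfield K of the matrix algebra whose elements are self-adjoint for the polar form of Q (Q is then the trace of a quadratic form over K); (8) every subfield group for a subfield F₀ of odd prime index r in F whose F₀-structure carries a non-zero scalar multiple of Q. -/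
theorem result {F : Type*} [Field F] [Fintype F] (Q : (Fin 8 → F) → F) (hQ : Cfsg.Geo.IsNondegenerateQuadraticForm Q) (hminus : ¬ Cfsg.Geo.IsPlusTypeOn Q ⊤) :
    (∀ W : Submodule F (Fin 8 → F), W ≠ ⊥ → Cfsg.Geo.IsTotallySingularQuad Q W → Cfsg.Geo.IsMaximalIn (Cfsg.Geo.omegaGL Q) (Cfsg.Geo.subspaceStabilizer W ⊓ Cfsg.Geo.omegaGL Q)) ∧
    (Odd (Fintype.card F) → ∀ W : Submodule F (Fin 8 → F), W ≠ ⊥ → W ≠ ⊤ → Odd (Module.finrank F W) → Cfsg.Geo.IsNondegenerateOn (QuadraticMap.polar Q) W → Cfsg.Geo.IsMaximalIn (Cfsg.Geo.omegaGL Q) (Cfsg.Geo.subspaceStabilizer W ⊓ Cfsg.Geo.omegaGL Q)) ∧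
    (∀ W : Submodule F (Fin 8 → F), Module.finrank F W = 2 → Cfsg.Geo.IsNondegenerateOn (QuadraticMap.polar Q) W → ¬ Cfsg.Geo.IsPlusTypeOn Q W → Cfsg.Geo.IsMaximalIn (Cfsg.Geo.omegaGL Q) (Cfsg.Geo.subspaceStabilizer W ⊓ Cfsg.Geo.omegaGL Q)) ∧
    (4 ≤ Fintype.card F → ∀ W : Submodule F (Fin 8 → F), Module.finrank F W = 2 → Cfsg.Geo.IsNondegenerateOn (QuadraticMap.polar Q) W → Cfsg.Geo.IsPlusTypeOn Q W → Cfsg.Geo.IsMaximalIn (Cfsg.Geo.omegaGL Q) (Cfsg.Geo.subspaceStabilizer W ⊓ Cfsg.Geo.omegaGL Q)) ∧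
    (∀ W : Submodule F (Fin 8 → F), Module.finrank F W = 4 → Cfsg.Geo.IsNondegenerateOn (QuadraticMap.polar Q) W → Cfsg.Geo.IsMaximalIn (Cfsg.Geo.omegaGL Q) (Cfsg.Geo.subspaceStabilizer W ⊓ Cfsg.Geo.omegaGL Q)) ∧
    (¬ Odd (Fintype.card F) → ∀ v : (Fin 8 → F), Q v ≠ 0 → Cfsg.Geo.IsMaximalIn (Cfsg.Geo.omegaGL Q) (Cfsg.Geo.subspaceStabilizer (Submodule.span F {v}) ⊓ Cfsg.Geo.omegaGL Q)) ∧
    (Odd (Fintype.card F) → ∀ K : Subalgebra F (Matrix (Fin 8) (Fin 8) F), Cfsg.Geo.IsFieldSubalgebra 2 K → Cfsg.Geo.IsSelfAdjointFor (QuadraticMap.polar Q) K → Cfsg.Geo.IsMaximalIn (Cfsg.Geo.omegaGL Q) (Cfsg.Geo.subalgebraNormalizer K ⊓ Cfsg.Geo.omegaGL Q)) ∧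
    (∀ (F₀ : Subfield F) (r : ℕ) (P : Matrix.GeneralLinearGroup (Fin 8) F) (ζ : F), r.Prime → Odd r → Fintype.card F = Nat.card F₀ ^ r → ζ ≠ 0 → Cfsg.Geo.IsQuadFormRationalStructure (fun v : Fin 8 → F => ζ * Q v) F₀ P → Cfsg.Geo.IsMaximalIn (Cfsg.Geo.omegaGL Q) (Cfsg.Geo.subfieldSubgroup F₀ P ⊓ Cfsg.Geo.omegaGL Q)) := by
  classical
  have hG := Cfsg.Agent.Orth.good_ofND hQ (by simp)
  have hnd := Cfsg.Agent.Orth.ofND_nondeg hQ
  have key : ∀ W : Submodule F (Fin 8 → F), W ≠ ⊥ → W ≠ ⊤ → Cfsg.Geo.IsNondegenerateOn (QuadraticMap.polar Q) W →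
      Module.finrank F W ≠ 4 → (Module.finrank F W = 2 → 4 ≤ Fintype.card F ∨ ¬ Cfsg.Geo.IsPlusTypeOn Q W) →
      (Module.finrank F W ≠ 6) →
      Cfsg.Geo.IsMaximalIn (Cfsg.Geo.omegaGL Q) (Cfsg.Geo.subspaceStabilizer W ⊓ Cfsg.Geo.omegaGL Q) := by
    intro W hW0 hW1 hW h4 hex h6
    have hW' := Cfsg.Agent.Orth.nondegOn_of_geo (Q := Cfsg.Agent.Orth.ofND hQ) hW
    have hd := Cfsg.Agent.Orth.finrank_perpSub hnd W
    have hle := Submodule.finrank_le W
    simp at hd hle
    refine Cfsg.Agent.Orth.nondeg_stabilizer_maximal' (Q := Cfsg.Agent.Orth.ofND hQ) hG hW' (by omega) hW0 hW1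
      (fun ⟨h1, h2, h3⟩ => (hex h2).elim (fun h => by omega) (fun h => h h3))
      (fun ⟨_, h2, _⟩ => by omega) (fun heq => by omega)
  refine ⟨fun W hW0 hW => Cfsg.Agent.Orth.singular_row hQ (by omega) (by decide) hW0 hW (.inr hminus),
    fun hodd W hW0 hW1 ho hW => key W hW0 hW1 hW (fun h => by rw [Nat.odd_iff] at ho; omega)
      (fun h => by rw [Nat.odd_iff] at ho; omega) (fun h => by rw [Nat.odd_iff] at ho; omega),
    fun W h2 hW hm => key W (fun h => by rw [h, finrank_bot] at h2; omega)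
      (fun h => by rw [h, finrank_top, Module.finrank_fin_fun] at h2; omega) hW (by omega)
      (fun _ => .inr hm) (by omega),
    fun hq W h2 hW _ => key W (fun h => by rw [h, finrank_bot] at h2; omega)
      (fun h => by rw [h, finrank_top, Module.finrank_fin_fun] at h2; omega) hW (by omega)
      (fun _ => .inl hq) (by omega),
    fun W h4 hW => ?_,
    fun hchar v hv => Cfsg.Agent.Orth.nonsingular_row hQ (by omega) hchar hv,
    fun hodd K hK hsa => ?_,
    fun F₀ r P ζ hr ho hcard hζ hP => ?_⟩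
  · have hW' := Cfsg.Agent.Orth.nondegOn_of_geo (Q := Cfsg.Agent.Orth.ofND hQ) hW
    have hd := Cfsg.Agent.Orth.finrank_perpSub hnd W
    simp at hd
    have hX := Cfsg.Agent.Orth.perpSub_nondeg hnd hW'
    have hni : Module.finrank F W = Module.finrank F (Cfsg.Agent.Orth.perpSub (Cfsg.Agent.Orth.ofND hQ) W) →
        ∀ g : Cfsg.Agent.Orth.IsoGrp (Cfsg.Agent.Orth.ofND hQ),
          ¬ ∀ w ∈ W, Cfsg.Agent.Orth.ap g w ∈ Cfsg.Agent.Orth.perpSub (Cfsg.Agent.Orth.ofND hQ) W :=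
      fun _ g hg => hminus (Cfsg.Agent.Orth.isPlusType_of_maps (Q := Cfsg.Agent.Orth.ofND hQ) hW' hg (r := 2)
        (by omega) (by simp; omega))
    refine Cfsg.Agent.Orth.nondeg_stabilizer_maximal_big (Q := Cfsg.Agent.Orth.ofND hQ) hG hW' (by simp) ?_
      (fun h => by rw [h, finrank_bot] at h4; omega)
      (fun h => by rw [h, finrank_top, Module.finrank_fin_fun] at h4; omega)
      (fun ⟨_, h2, _⟩ => by omega) (fun ⟨_, h2, _⟩ => by omega) hni
    by_contra hbad
    rw [not_or] at hbad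
    have hplane : ∀ U : Submodule F (Fin 8 → F), Module.finrank F U = 4 →
        ¬ Cfsg.Agent.Orth.IsBig (Cfsg.Agent.Orth.ofND hQ) U →
        ∃ P : Submodule F (Fin 8 → F), P ≤ U ∧ Module.finrank F P = 2 ∧ ∀ u ∈ P, Q u = 0 := by
      intro U hU hnb
      by_contra hno
      refine hnb ⟨hU.ge, fun _ _ x hx y hy hx0 hQx hQy hxy => ?_⟩
      by_contra hyx
      refine hno ⟨F ∙ x ⊔ F ∙ y, sup_le (by simpa using hx) (by simpa using hy), ?_, ?_⟩
      · have hinf : F ∙ x ⊓ F ∙ y = ⊥ := by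
          rw [Submodule.eq_bot_iff]
          intro z hz
          obtain ⟨a, ha⟩ := Submodule.mem_span_singleton.1 hz.1
          obtain ⟨b, hb⟩ := Submodule.mem_span_singleton.1 hz.2
          by_contra hz0
          have hb0 : b ≠ 0 := fun h => hz0 (by rw [← hb, h, zero_smul])
          refine hyx (Submodule.mem_span_singleton.2 ⟨b⁻¹ * a, ?_⟩)
          rw [mul_smul, ha, ← hb, inv_smul_smul₀ hb0]
        have := Submodule.finrank_sup_add_finrank_inf_eq (F ∙ x) (F ∙ y)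
        rw [hinf, finrank_bot, finrank_span_singleton hx0, finrank_span_singleton
          (fun h => hyx (by rw [h]; exact zero_mem _))] at this
        omega
      · intro u hu
        obtain ⟨a, ha, b, hb, rfl⟩ := Submodule.mem_sup.1 hu
        obtain ⟨a', rfl⟩ := Submodule.mem_span_singleton.1 ha
        obtain ⟨b', rfl⟩ := Submodule.mem_span_singleton.1 hb
        simp only [Cfsg.Agent.Orth.coe_ofND] at hQx hQy hxy
        have h := Cfsg.Agent.Orth.Q_add (Cfsg.Agent.Orth.ofND hQ) (a' • x) (b' • y)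
        simp only [Cfsg.Agent.Orth.coe_ofND] at h
        rw [h, hQ.smul, hQ.smul, hQx, hQy]
        have h' : QuadraticMap.polar ⇑(Cfsg.Agent.Orth.ofND hQ) (a' • x) (b' • y) = 0 := by
          rw [Cfsg.Agent.Orth.pl_smul_left, Cfsg.Agent.Orth.pl_smul_right]
          exact mul_eq_zero_of_right _ (mul_eq_zero_of_right _ hxy)
        simp only [Cfsg.Agent.Orth.coe_ofND] at h'
        simp [h']
    obtain ⟨P₁, hP₁, hd₁, hs₁⟩ := hplane W h4 (fun h => hbad.1 ⟨by omega, h⟩)
    obtain ⟨P₂, hP₂, hd₂, hs₂⟩ := hplane _ (by omega) (fun h => hbad.2 ⟨by omega, h⟩)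
    have hinf : P₁ ⊓ P₂ = ⊥ := by
      rw [eq_bot_iff]
      exact fun x hx => Cfsg.Agent.Orth.disjoint_perpSub hW' (hP₁ hx.1) (hP₂ hx.2)
    refine hminus ⟨P₁ ⊔ P₂, le_top, fun u hu => ?_, ?_⟩
    · obtain ⟨a, ha, b, hb, rfl⟩ := Submodule.mem_sup.1 hu
      have h := Cfsg.Agent.Orth.Q_add (Cfsg.Agent.Orth.ofND hQ) a b
      simp only [Cfsg.Agent.Orth.coe_ofND] at h
      rw [h, hs₁ a ha, hs₂ b hb, ← Cfsg.Agent.Orth.coe_ofND hQ,
        Cfsg.Agent.Orth.mem_perpSub.1 (hP₂ hb) a (hP₁ ha)]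
      simp
    · have := Submodule.finrank_sup_add_finrank_inf_eq P₁ P₂
      rw [hinf, finrank_bot] at this
      rw [finrank_top, Module.finrank_fin_fun]
      omega
  · obtain ⟨hM, g₀, hg₀, hg₀N⟩ := Cfsg.Agent.FieldExtMax.or_cases' (Q := Cfsg.Agent.Orth.ofND hQ) Nat.prime_two hG
      (Cfsg.Agent.Orth.two_ne_zero_of_odd_card hodd) (by simp) (by simp)
      (fun _ => Or.inr ⟨by simp, by rwa [Cfsg.Agent.Orth.coe_ofND]⟩) hK (by rwa [Cfsg.Agent.Orth.coe_ofND])
    rw [Cfsg.Agent.Orth.coe_ofND] at hM hg₀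
    refine ⟨lt_of_le_of_ne inf_le_right fun h => hg₀N ((inf_eq_right.1 h) hg₀), fun M hM₁ hM₂ => ?_⟩
    rcases hM M hM₁ hM₂ with h | h
    · exact Or.inl (le_antisymm (le_inf h hM₂) hM₁)
    · exact Or.inr (le_antisymm hM₂ h)
  · exact Cfsg.Agent.C5.Ortho.isMaximalIn_subfield (Q := Cfsg.Agent.Orth.ofND hQ) hnd (by simp) hr hcard P hζ hP

end Cfsg.Agent.S5825
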