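import Cfsg.Statements.S5826
import Cfsg.Agent.Lib.Aschbacher.EvenRefine

set_option autoImplicit false
open Cfsg

namespace Cfsg.Agent.S5826

/-- Every maximal subgroup of Ω_8^-(q) is of one of the listed geometric types or lies in the residual class. Let F be a finite field with q elements, Q a non-degenerate quadratic form on F^8 of minus type (no totally singular 4-space), Ω the commutator subgroup of its isometry group, and H a maximal subgroup of Ω (inside GL_8(F)). Then H is the intersection with Ω of one of: the stabiliser of a non-zero totally singular subspace; for q odd, the stabiliser of a non-degenerate subspace of odd dimension; the stabiliser of a non-degenerate 2-space of minus type; for q ≥ 4, the stabiliser of a non-degenerate 2-space of plus type; the stabiliser of a non-degenerate 4-space; for q even, the stabiliser of the span of a non-singular vector; the normaliser of a degree-2 subfield of the matrix algebra; a subfield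 group of odd prime index whose F₀-structure carries a non-zero multiple of Q — or else H lies in the residual class of the orthogonal case (modulo scalars H is almost simple, with absolutely irreducible perfect socle preimage realisable over no proper subfield and fixing no non-degenerate unitary form). -/
theorem result {F : Type*} [Field F] [Fintype F] (Q : (Fin 8 → F) → F) (hQ : Cfsg.Geo.IsNondegenerateQuadraticForm Q) (hminus : ¬ Cfsg.Geo.IsPlusTypeOn Q ⊤) (H : Subgroup (Matrix.GeneralLinearGroup (Fin 8) F)) (hH : Cfsg.Geo.IsMaximalIn (Cfsg.Geo.omegaGL Q) H) :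
    (∃ W : Submodule F (Fin 8 → F), W ≠ ⊥ ∧ Cfsg.Geo.IsTotallySingularQuad Q W ∧ H = Cfsg.Geo.subspaceStabilizer W ⊓ Cfsg.Geo.omegaGL Q) ∨
    (Odd (Fintype.card F) ∧ ∃ W : Submodule F (Fin 8 → F), W ≠ ⊥ ∧ W ≠ ⊤ ∧ Odd (Module.finrank F W) ∧ Cfsg.Geo.IsNondegenerateOn (QuadraticMap.polar Q) W ∧ H = Cfsg.Geo.subspaceStabilizer W ⊓ Cfsg.Geo.omegaGL Q) ∨
    (∃ W : Submodule F (Fin 8 → F), Module.finrank F W = 2 ∧ Cfsg.Geo.IsNondegenerateOn (QuadraticMap.polar Q) W ∧ ¬ Cfsg.Geo.IsPlusTypeOn Q W ∧ H = Cfsg.Geo.subspaceStabilizer W ⊓ Cfsg.Geo.omegaGL Q) ∨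
    (4 ≤ Fintype.card F ∧ ∃ W : Submodule F (Fin 8 → F), Module.finrank F W = 2 ∧ Cfsg.Geo.IsNondegenerateOn (QuadraticMap.polar Q) W ∧ Cfsg.Geo.IsPlusTypeOn Q W ∧ H = Cfsg.Geo.subspaceStabilizer W ⊓ Cfsg.Geo.omegaGL Q) ∨
    (∃ W : Submodule F (Fin 8 → F), Module.finrank F W = 4 ∧ Cfsg.Geo.IsNondegenerateOn (QuadraticMap.polar Q) W ∧ H = Cfsg.Geo.subspaceStabilizer W ⊓ Cfsg.Geo.omegaGL Q) ∨
    (¬ Odd (Fintype.card F) ∧ ∃ v : (Fin 8 → F), Q v ≠ 0 ∧ H = Cfsg.Geo.subspaceStabilizer (Submodule.span F {v}) ⊓ Cfsg.Geo.omegaGL Q) ∨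
    (∃ K : Subalgebra F (Matrix (Fin 8) (Fin 8) F), Cfsg.Geo.IsFieldSubalgebra 2 K ∧ H = Cfsg.Geo.subalgebraNormalizer K ⊓ Cfsg.Geo.omegaGL Q) ∨
    (∃ (F₀ : Subfield F) (r : ℕ) (P : Matrix.GeneralLinearGroup (Fin 8) F) (ζ : F), r.Prime ∧ Odd r ∧ Fintype.card F = Nat.card F₀ ^ r ∧ ζ ≠ 0 ∧ Cfsg.Geo.IsQuadFormRationalStructure (fun v : Fin 8 → F => ζ * Q v) F₀ P ∧ H = Cfsg.Geo.subfieldSubgroup F₀ P ⊓ Cfsg.Geo.omegaGL Q) ∨
    Cfsg.Geo.InOrthogonalResidualClass H := by
  classical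
  obtain ⟨q, rfl, hq⟩ := Aschbacher.exists_quad_of_geo hQ
  have hι : Fintype.card (Fin 8) = 2 * 4 := rfl
  have hn : Fintype.card (Fin 8) = 8 ∨ Fintype.card (Fin 8) = 10 ∨ Fintype.card (Fin 8) = 12 := .inl rfl
  by_cases hirr : Geo.ActsIrreducibly (Geo.matrixSet H)
  swap
  · rcases Aschbacher.even_reducible hq hι le_rfl hH hirr with ⟨W, hb, hts, -, h⟩ |
      ⟨ho, W, hb, ht, hd, -, hnd, h⟩ | ⟨W, hb, hev, hk, hnd, hp, h⟩ | ⟨hne, v, hv, h⟩ | ⟨D, hD, h⟩
    · exact .inl ⟨W, hb, hts, h⟩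
    · exact .inr (.inl ⟨ho, W, hb, ht, hd, hnd, h⟩)
    · have hpos : 0 < Module.finrank F W :=
        Nat.pos_of_ne_zero fun h0 => hb (Submodule.finrank_eq_zero.1 h0)
      rcases (show Module.finrank F W = 2 ∨ Module.finrank F W = 4 by rcases hev with ⟨j, hj⟩; omega) with h2 | h4
      · by_cases hpl : Geo.IsPlusTypeOn (⇑q) W
        · exact .inr (.inr (.inr (.inl ⟨hp h2 hpl, W, h2, hnd, hpl, h⟩)))
        · exact .inr (.inr (.inl ⟨W, h2, hnd, hpl, h⟩))
      · exact .inr (.inr (.inr (.inr (.inl ⟨W, h4, hnd, h⟩))))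
    · exact .inr (.inr (.inr (.inr (.inr (.inl ⟨hne, v, hv, h⟩)))))
    · exact absurd ((Aschbacher.decomp_type hq hD (by decide) 0).2 (.inl (by decide))) hminus
  rcases Aschbacher.even_structure hq hn hH hirr with ⟨m, t, D, htm, hD, h⟩ | ⟨m, D, -, -, hp, -⟩ |
    ⟨r, K, hr, hrn, -, hK, -, h⟩ | ⟨-, hp, -⟩ | ⟨-, -, -, e, -⟩ | ⟨F₀, r, P, ζ, hr, hodd, hc, hζ, hst, h⟩ |
    ⟨-, hp⟩ | h
  · exfalso
    have ht2 := hD.decomp.decomp.two_le
    have hm1 := hD.decomp.decomp.pos
    rw [Fintype.card_fin] at htm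
    have ht : t ≤ 8 := by
      calc t = t * 1 := (mul_one t).symm
        _ ≤ t * m := Nat.mul_le_mul_left _ hm1
        _ = 8 := htm
    rcases (show (t = 8 ∧ m = 1) ∨ (Even t ∧ Even m) by
        interval_cases t <;> simp [Nat.even_iff] <;> omega) with ⟨rfl, rfl⟩ | ⟨hte, hme⟩
    · exact hminus ((Aschbacher.lines_disc hq (k := 4) (by omega) hι (by simp) hD).2 ⟨1, by norm_num⟩)
    · exact hminus ((Aschbacher.decomp_type hq hD hme ⟨0, by omega⟩).2 (.inl hte))
  · exact absurd hp hminus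
  · obtain rfl : r = 2 := by
      rw [Fintype.card_fin] at hrn
      have := Nat.le_of_dvd (by norm_num) hrn
      have := hr.two_le
      interval_cases r <;> first | rfl | omega | (norm_num at hrn; done) | (norm_num at hr; done)
    exact .inr (.inr (.inr (.inr (.inr (.inr (.inl ⟨K, hK, h⟩))))))
  · exact absurd hp hminus
  · exact absurd (Fintype.card_congr e) (by simp)
  · exact .inr (.inr (.inr (.inr (.inr (.inr (.inr (.inl ⟨F₀, r, P, ζ, hr, hodd hminus, hc, hζ, hst, h⟩)))))))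
  · exact absurd hp hminus
  · iterate 8 right
    exact h

end Cfsg.Agent.S5826
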