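import Cfsg.Statements.S5832
import Cfsg.Agent.EqLemmas
import Cfsg.Agent.Lib.Aschbacher.UnitarySymp
import Cfsg.Agent.Lib.Aschbacher.UnitaryWreath

set_option autoImplicit false
open Cfsg
open Cfsg.Agent.Aschbacher

namespace Cfsg.Agent.S5832

/-- Every maximal subgroup of SU_9(q) is of one of the listed geometric types or lies in the residual class. Let F be the field with q² elements, f the standard unitary form Σ u_i v_i^q on F^9, and H a maximal subgroup of SU_9(q) (inside GL_9(F)). Then H is the intersection with SU_9(q) of one of: the stabiliser of a non-zero totally isotropic subspace; the stabiliser of a non-degenerate 1-, 2-, 3- or 4-space; the stabiliser of a decomposition into nine mutually orthogonal non-degenerate 1-spaces; of a decomposition into three mutually orthogonal non-degenerate 3-spaces; the normaliser of an adjoint-closed degree-3 subfield of the matrix algebra; a subfield group of odd prime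 index whose F₀-structure carries f; for q odd, a subfield group of index 2 whose F₀-structure carries f; for q = p ≡ 2 mod 3 prime, the normaliser of an absolutely irreducible extraspecial group 3_+^(1+4) of exponent 3 inside the similarity group of f; for q ≥ 3, the stabiliser of a tensor decomposition of f as a tensor square of a unitary form on F^3 — or else H lies in the residual class of the unitary case. -/
theorem result {F : Type*} [Field F] [Fintype F] (q : ℕ) (hF : Fintype.card F = q ^ 2) (H : Subgroup (Matrix.GeneralLinearGroup (Fin 9) F)) (hH : Cfsg.Geo.IsMaximalIn (Cfsg.GU 9 F q ⊓ Cfsg.Geo.specialLinear (Fin 9) F) H) :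
    (∃ W : Submodule F (Fin 9 → F), W ≠ ⊥ ∧ Cfsg.Geo.IsTotallySingularFor (Cfsg.hermForm 9 F q) W ∧ H = Cfsg.Geo.subspaceStabilizer W ⊓ (Cfsg.GU 9 F q ⊓ Cfsg.Geo.specialLinear (Fin 9) F)) ∨
    (∃ W : Submodule F (Fin 9 → F), W ≠ ⊥ ∧ Cfsg.Geo.IsNondegenerateOn (Cfsg.hermForm 9 F q) W ∧ 2 * Module.finrank F W < 9 ∧ H = Cfsg.Geo.subspaceStabilizer W ⊓ (Cfsg.GU 9 F q ⊓ Cfsg.Geo.specialLinear (Fin 9) F)) ∨
    (∃ D : Fin 9 → Submodule F (Fin 9 → F), Cfsg.Geo.IsNondegenerateMDecomposition (Cfsg.hermForm 9 F q) 1 D ∧ H = Cfsg.Geo.decompositionStabilizer D ⊓ (Cfsg.GU 9 F q ⊓ Cfsg.Geo.specialLinear (Fin 9) F)) ∨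
    (∃ D : Fin 3 → Submodule F (Fin 9 → F), Cfsg.Geo.IsNondegenerateMDecomposition (Cfsg.hermForm 9 F q) 3 D ∧ H = Cfsg.Geo.decompositionStabilizer D ⊓ (Cfsg.GU 9 F q ⊓ Cfsg.Geo.specialLinear (Fin 9) F)) ∨
    (∃ K : Subalgebra F (Matrix (Fin 9) (Fin 9) F), Cfsg.Geo.IsFieldSubalgebra 3 K ∧ Cfsg.Geo.IsAdjointClosedFor (Cfsg.hermForm 9 F q) K ∧ H = Cfsg.Geo.subalgebraNormalizer K ⊓ (Cfsg.GU 9 F q ⊓ Cfsg.Geo.specialLinear (Fin 9) F)) ∨
    (∃ (F₀ : Subfield F) (r : ℕ) (P : Matrix.GeneralLinearGroup (Fin 9) F), r.Prime ∧ Odd r ∧ Fintype.card F = Nat.card F₀ ^ r ∧ Cfsg.Geo.IsFormRationalStructure (Cfsg.hermForm 9 F q) F₀ 1 P ∧ H = Cfsg.Geo.subfieldSubgroup F₀ P ⊓ (Cfsg.GU 9 F q ⊓ Cfsg.Geo.specialLinear (Fin 9) F)) ∨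
    (Odd q ∧ ∃ (F₀ : Subfield F) (P : Matrix.GeneralLinearGroup (Fin 9) F), Fintype.card F = Nat.card F₀ ^ 2 ∧ Cfsg.Geo.IsFormRationalStructure (Cfsg.hermForm 9 F q) F₀ 1 P ∧ H = Cfsg.Geo.subfieldSubgroup F₀ P ⊓ (Cfsg.GU 9 F q ⊓ Cfsg.Geo.specialLinear (Fin 9) F)) ∨
    (∃ (p : ℕ) (R : Subgroup (Matrix.GeneralLinearGroup (Fin 9) F)), p.Prime ∧ q = p ∧ p % 3 = 2 ∧ Cfsg.Geo.IsSymplecticTypeGroup 3 R ∧ Cfsg.Geo.ActsAbsolutelyIrreducibly (Cfsg.Geo.matrixSet R) ∧ R ≤ Cfsg.Geo.similarityGroup (Cfsg.hermForm 9 F q) ∧ Nat.card R = 243 ∧ Nat.card (Subgroup.center R) = 3 ∧ H = Cfsg.Geo.subgroupNormalizer R ⊓ (Cfsg.GU 9 F q ⊓ Cfsg.Geo.specialLinear (Fin 9) F)) ∨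
    (3 ≤ q ∧ ∃ (e : Fin 9 ≃ (Fin 2 → Fin 3)) (P : Matrix.GeneralLinearGroup (Fin 9) F) (f₁ : (Fin 3 → F) → (Fin 3 → F) → F), Cfsg.Geo.IsUnitaryFormPow q f₁ ∧ Cfsg.Geo.IsTensorPowerFormStructure (fun x : F => x ^ q) (Cfsg.hermForm 9 F q) f₁ e P ∧ H = Cfsg.Geo.tensorWreathSubgroup 3 2 e P ⊓ (Cfsg.GU 9 F q ⊓ Cfsg.Geo.specialLinear (Fin 9) F)) ∨
    Cfsg.Geo.InUnitaryResidualClass H := by
  classical
  rcases su_cases hF (by norm_num : 5 ≤ 9) hH with h | h | ⟨m, t, D, htm, ht, hm2, hD, heq⟩ |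
    ⟨m, D, hm, hD, hts, heq⟩ | ⟨r, K, hr, hrodd, hrn, hK, hadj, heq⟩ | ⟨d, t, hdt, hd, hlt, -, hT⟩ |
    h | h | h | ⟨r, m, z, p, f, R, -, hR⟩ | ⟨d, -, hdd, hT⟩ | ⟨d, k, hd, hk, hdk, -, hT⟩ | h
  · exact Or.inl h
  · exact Or.inr (Or.inl h)
  · have htl : t ∣ 9 := Dvd.intro m htm
    have := Nat.le_of_dvd (by norm_num) htl
    have := hD.decomp.pos
    interval_cases t <;> norm_num at htl
    · obtain rfl : m = 3 := by omega
      iterate 3 right
      exact Or.inl ⟨D, hD, heq⟩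
    · obtain rfl : m = 1 := by omega
      exact Or.inr (Or.inr (Or.inl ⟨D, hD, heq⟩))
  · exfalso; omega
  · obtain rfl : r = 3 := (Nat.prime_dvd_prime_iff_eq hr Nat.prime_three).mp
      (hr.dvd_of_dvd_pow (show r ∣ 3 ^ 2 from hrn))
    iterate 4 right
    exact Or.inl ⟨K, hK, hadj, heq⟩
  · exfalso
    have hdl : d ∣ 9 := Dvd.intro t hdt
    have := Nat.le_of_dvd (by norm_num) hdl
    interval_cases d <;> norm_num at hdl <;> omega
  · iterate 5 right
    exact Or.inl h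
  · obtain ⟨F₀, P, ζ, -, hζ, hζq, hform, halt, -⟩ := h
    exact (no_alt_odd hF (by decide) halt).elim
  · iterate 6 right
    exact Or.inl h
  · rcases su_symp_three hF rfl hH hR with (h | h | h) | h
    · iterate 5 right
      exact Or.inl h
    · obtain ⟨F₀, P, ζ, -, hζ, hζq, hform, halt, -⟩ := h
      exact (no_alt_odd hF (by decide) halt).elim
    · iterate 6 right
      exact Or.inl h
    · iterate 7 right
      exact Or.inl h
  · obtain rfl : d = 3 := by nlinarith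
    obtain ⟨P, f₁, h1, h2, h3, h4⟩ := su_square_of_tensor hF (le_refl 3) (by norm_num) hH hT (finFunctionFinEquiv (m := 3) (n := 2)).symm
    iterate 8 right
    have := Unitary.two_le_q hF
    exact Or.inl ⟨by omega, _, P, f₁, h1, h2, h3⟩
  · have h9 : d ^ 2 ≤ 9 := hdk ▸ Nat.pow_le_pow_right (by omega) hk
    obtain rfl : d = 3 := by nlinarith
    obtain rfl : k = 2 := Nat.pow_right_injective (le_refl 2 |>.trans (by norm_num : 2 ≤ 3)) hdk
    obtain ⟨P, f₁, h1, h2, h3, h4⟩ := su_square_of_data hF (le_refl 3) (by norm_num) hH hT (finFunctionFinEquiv (m := 3) (n := 2)).symm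
    iterate 8 right
    have := Unitary.two_le_q hF
    have := h4 rfl
    exact Or.inl ⟨by omega, _, P, f₁, h1, h2, h3⟩
  · iterate 9 right
    exact h

end Cfsg.Agent.S5832
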