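import Cfsg.Statements.S5834
import Cfsg.Agent.Lib.Orth.Parabolic
import Cfsg.Agent.Lib.Orth.Nondeg
import Cfsg.Agent.Lib.Orth.Frame.Main
import Cfsg.Agent.Lib.C5.OrthMax
import Cfsg.Agent.Lib.Orth.Models
import Cfsg.Agent.Lib.Orth.DecompMain
import Cfsg.Agent.Lib.FieldExtMax.Three.Matrix
import Cfsg.Agent.Lib.C4.TenThreeThree

set_option autoImplicit false
open Cfsg

namespace Cfsg.Agent.S5834

/-- Maximal subgroups of Ω_9(q) of geometric type, q odd. Let F be a finite field of odd order q, Q the standard quadratic form x₀² + Σ x_i y_i on F^9 (coordinates Unit ⊕ (Fin 4 ⊕ Fin 4)), and Ω = Ω_9(q) the commutator subgroup of its isometry group, inside GL_9(F). Each of the following, intersected with Ω, is a maximal subgroup of Ω: (1) the stabiliser of any non-zero subspace on which Q vanishes identically (totally singular 1- to 4-spaces); (2) the stabiliser of any non-zero even-dimensional subspace W (dimension 2, 4, 6 or 8) on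 which the polar form of Q is non-degenerate (equivalently of its odd-dimensional orthogonal complement), except when q = 3 and W is a 2-space containing a non-zero singular vector (a plus-type plane); (3) for q = p prime, the stabiliser of any decomposition of F^9 into nine pairwise orthogonal, pairwise Q-isometric non-degenerate 1-spaces; (4) for q ≥ 5, the stabiliser of any decomposition of F^9 into three pairwise orthogonal, pairwise Q-isometric non-degenerate 3-spaces; (5) the normaliser of any degree-3 subfield K of the matrix algebra whose elements are self-adjoint for the polar form of Q (Q is then the trace of a quadratic form over K); (6) every subfield group for a subfield F₀ with |F| = |F₀|^r, r prime, whose F₀-structure carries Q; (7) for q ≥ 5, the stabiliser of any decomposition of the polar form of Q as the tensor square of a non-degenerate symmetric bilinear form on F^3 up to a scalar (tensor-wreath subgroup).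 -/
theorem result {F : Type*} [Field F] [Fintype F] (hodd : Odd (Fintype.card F)) :
    (∀ W : Submodule F (Unit ⊕ (Fin 4 ⊕ Fin 4) → F), W ≠ ⊥ → Cfsg.Geo.IsTotallySingularQuad (Cfsg.quadFormOdd 4 F) W → Cfsg.Geo.IsMaximalIn (Cfsg.Geo.omegaGL (Cfsg.quadFormOdd 4 F)) (Cfsg.Geo.subspaceStabilizer W ⊓ Cfsg.Geo.omegaGL (Cfsg.quadFormOdd 4 F))) ∧
    (∀ W : Submodule F (Unit ⊕ (Fin 4 ⊕ Fin 4) → F), W ≠ ⊥ → Even (Module.finrank F W) → Cfsg.Geo.IsNondegenerateOn (QuadraticMap.polar (Cfsg.quadFormOdd 4 F)) W → ¬ (Fintype.card F = 3 ∧ Module.finrank F W = 2 ∧ Cfsg.Geo.IsPlusTypeOn (Cfsg.quadFormOdd 4 F) W) → Cfsg.Geo.IsMaximalIn (Cfsg.Geo.omegaGL (Cfsg.quadFormOdd 4 F)) (Cfsg.Geo.subspaceStabilizer W ⊓ Cfsg.Geo.omegaGL (Cfsg.quadFormOdd 4 F))) ∧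
    ((Fintype.card F).Prime → ∀ D : Fin 9 → Submodule F (Unit ⊕ (Fin 4 ⊕ Fin 4) → F), Cfsg.Geo.IsOrthogonalMDecomposition (Cfsg.quadFormOdd 4 F) 1 D → Cfsg.Geo.IsMaximalIn (Cfsg.Geo.omegaGL (Cfsg.quadFormOdd 4 F)) (Cfsg.Geo.decompositionStabilizer D ⊓ Cfsg.Geo.omegaGL (Cfsg.quadFormOdd 4 F))) ∧
    (5 ≤ Fintype.card F → ∀ D : Fin 3 → Submodule F (Unit ⊕ (Fin 4 ⊕ Fin 4) → F), Cfsg.Geo.IsOrthogonalMDecomposition (Cfsg.quadFormOdd 4 F) 3 D → Cfsg.Geo.IsMaximalIn (Cfsg.Geo.omegaGL (Cfsg.quadFormOdd 4 F)) (Cfsg.Geo.decompositionStabilizer D ⊓ Cfsg.Geo.omegaGL (Cfsg.quadFormOdd 4 F))) ∧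
    (∀ K : Subalgebra F (Matrix (Unit ⊕ (Fin 4 ⊕ Fin 4)) (Unit ⊕ (Fin 4 ⊕ Fin 4)) F), Cfsg.Geo.IsFieldSubalgebra 3 K → Cfsg.Geo.IsSelfAdjointFor (QuadraticMap.polar (Cfsg.quadFormOdd 4 F)) K → Cfsg.Geo.IsMaximalIn (Cfsg.Geo.omegaGL (Cfsg.quadFormOdd 4 F)) (Cfsg.Geo.subalgebraNormalizer K ⊓ Cfsg.Geo.omegaGL (Cfsg.quadFormOdd 4 F))) ∧
    (∀ (F₀ : Subfield F) (r : ℕ) (P : Matrix.GeneralLinearGroup (Unit ⊕ (Fin 4 ⊕ Fin 4)) F), r.Prime → Fintype.card F = Nat.card F₀ ^ r → Cfsg.Geo.IsQuadFormRationalStructure (Cfsg.quadFormOdd 4 F) F₀ P → Cfsg.Geo.IsMaximalIn (Cfsg.Geo.omegaGL (Cfsg.quadFormOdd 4 F)) (Cfsg.Geo.subfieldSubgroup F₀ P ⊓ Cfsg.Geo.omegaGL (Cfsg.quadFormOdd 4 F))) ∧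
    (5 ≤ Fintype.card F → ∀ (e : (Unit ⊕ (Fin 4 ⊕ Fin 4)) ≃ (Fin 2 → Fin 3)) (P : Matrix.GeneralLinearGroup (Unit ⊕ (Fin 4 ⊕ Fin 4)) F) (f₁ : (Fin 3 → F) → (Fin 3 → F) → F), Cfsg.Geo.IsSymmetricForm f₁ → Cfsg.Geo.IsTensorPowerFormStructure id (QuadraticMap.polar (Cfsg.quadFormOdd 4 F)) f₁ e P → Cfsg.Geo.IsMaximalIn (Cfsg.Geo.omegaGL (Cfsg.quadFormOdd 4 F)) (Cfsg.Geo.tensorWreathSubgroup 3 2 e P ⊓ Cfsg.Geo.omegaGL (Cfsg.quadFormOdd 4 F))) := by
  classical
  have h2 : (2 : F) ≠ 0 := fun h => by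
    have h' := (FiniteField.even_card_iff_char_two (F := F)).1
      (CharP.ringChar_of_prime_eq_zero Nat.prime_two (by exact_mod_cast h))
    exact Nat.not_even_iff_odd.2 hodd (Nat.even_iff.2 h')
  have hnd := Cfsg.Agent.Orth.quadOdd_nondeg (F := F) 4 h2
  have hG := Cfsg.Agent.Orth.Good.of_two_ne_zero hnd h2
  have hq : Fintype.card F ≠ 2 := fun h => by rw [h] at hodd; exact absurd hodd (by decide)
  refine ⟨fun W hW0 hW => ?_, fun W hW0 hev hW hex => ?_, fun hprime D hD => ?_, fun h5 D hD => ?_,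
    fun K hK hsa => ?_, fun F₀ r P hr hcard hP => ?_, fun h5 e P f₁ hf₁ hT => ?_⟩
  · refine Cfsg.Agent.Orth.singular_stabilizer_maximal (Q := Cfsg.Agent.Orth.quadOdd 4 F) hG (by simp) hW0 hW ?_
    by_cases hk : Module.finrank F W < 4
    · exact .inl (by simp; omega)
    · refine .inr fun U hU => ?_
      have h := Cfsg.Agent.Orth.two_mul_finrank_le_of_isotropic hnd U
        fun a ha b hb => Cfsg.Agent.OrthAct.polar_eq_zero_of_singular hU ha hb
      simp at h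
      omega
  · have hW' := Cfsg.Agent.Orth.nondegOn_of_geo (Q := Cfsg.Agent.Orth.quadOdd 4 F) hW
    have hd := Cfsg.Agent.Orth.finrank_perpSub hnd W
    have hle := Submodule.finrank_le W
    simp at hd hle
    obtain ⟨r, hr⟩ := hev
    have hW1 : W ≠ ⊤ := fun h => by
      have := congrArg (fun U : Submodule F (Unit ⊕ (Fin 4 ⊕ Fin 4) → F) => Module.finrank F U) h
      simp at this
      omega
    have hexW : ¬ (Fintype.card F ≤ 3 ∧ Module.finrank F W = 2 ∧
        Cfsg.Geo.IsPlusTypeOn (Cfsg.quadFormOdd 4 F) W) := fun ⟨h, h2', hp⟩ => by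
      obtain ⟨k, hk⟩ := hodd
      have h1 := Fintype.one_lt_card (α := F)
      exact hex ⟨by omega, h2', hp⟩
    exact Cfsg.Agent.Orth.nondeg_stabilizer_maximal (Q := Cfsg.Agent.Orth.quadOdd 4 F) hG hW' (by simp) hW0 hW1 hexW
      (fun ⟨_, h2', _⟩ => by omega) (fun heq => by omega)
  · exact Cfsg.Agent.Orth.Frame.frame_maximal' (Q := Cfsg.Agent.Orth.quadOdd 4 F) hprime hodd
      (.inr ⟨by simp, ⟨4, by simp⟩⟩) hD
  · refine Cfsg.Agent.Orth.decomposition_stabilizer_maximal (Q := Cfsg.Agent.Orth.quadOdd 4 F) hG h2 hD le_rfl le_rfl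
      (.inr ?_)
    by_contra hc
    push Not at hc
    have hsub : (Finset.univ : Finset F) ⊆ {0, 1, -1} := fun r _ => by
      rcases eq_or_ne r 0 with h | h
      · simp [h]
      · rcases mul_self_eq_one_iff.1 (hc r h) with h | h <;> simp [h]
    have hle := (Finset.card_le_card hsub).trans Finset.card_le_three
    rw [Finset.card_univ] at hle
    omega
  · obtain ⟨hM, g₀, hg₀, hg₀N⟩ := Cfsg.Agent.FieldExtMax.or_cases_three (Q := Cfsg.Agent.Orth.quadOdd 4 F)
      Nat.prime_three hG h2 le_rfl (by simp) hK hsa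
    refine ⟨lt_of_le_of_ne inf_le_right fun h => hg₀N ((inf_eq_right.1 h) hg₀), fun M hM₁ hM₂ => ?_⟩
    rcases hM M hM₁ hM₂ with h | h
    · exact Or.inl (le_antisymm (le_inf h hM₂) hM₁)
    · exact Or.inr (le_antisymm hM₂ h)
  · refine Cfsg.Agent.C5.Ortho.isMaximalIn_subfield (Q := Cfsg.Agent.Orth.quadOdd 4 F) hnd (by simp) hr hcard P
      one_ne_zero ?_
    intro u hu
    show 1 * _ ∈ F₀
    rw [one_mul]
    exact hP u hu
  · exact Cfsg.Agent.TenForm.ThreeThree.omega_nine_tensor_wreath hodd h5 e P f₁ hf₁ hT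

end Cfsg.Agent.S5834
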