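import Cfsg.Statements.S5835
import Cfsg.Agent.Lib.Aschbacher.OrthOddMain
import Cfsg.Agent.Lib.Aschbacher.OrthNotLe

set_option autoImplicit false
open Cfsg

namespace Cfsg.Agent.S5835

/-- Every maximal subgroup of Ω_9(q), q odd, is of one of the listed geometric types or lies in the residual class. Let F be a finite field of odd order q, Q the standard quadratic form x₀² + Σ x_i y_i on F^9 (coordinates Unit ⊕ (Fin 4 ⊕ Fin 4)), Ω the commutator subgroup of its isometry group, and H a maximal subgroup of Ω (inside GL_9(F)). Then H is the intersection with Ω of one of: the stabiliser of a non-zero totally singular subspace; the stabiliser of a non-zero non-degenerate subspace of even dimension (not a plus-type plane when q = 3); for q prime, the stabiliser of a decomposition into nine pairwise orthogonal, pairwise isometric non-degenerate 1-spaces; for q ≥ 5, the stabiliser of a decomposition into three pairwise orthogonal, pairwise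 isometric non-degenerate 3-spaces; the normaliser of a degree-3 subfield of the matrix algebra, self-adjoint for the polar form; a subfield group (|F| = |F₀|^r, r prime) whose F₀-structure carries Q; for q ≥ 5, the stabiliser of a tensor decomposition of the polar form as a tensor square of a symmetric form on F^3 — or else H lies in the residual class of the orthogonal case (modulo scalars H is almost simple, with absolutely irreducible perfect socle preimage realisable over no proper subfield and fixing no non-degenerate unitary form). -/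
theorem result {F : Type*} [Field F] [Fintype F] (hodd : Odd (Fintype.card F)) (H : Subgroup (Matrix.GeneralLinearGroup (Unit ⊕ (Fin 4 ⊕ Fin 4)) F)) (hH : Cfsg.Geo.IsMaximalIn (Cfsg.Geo.omegaGL (Cfsg.quadFormOdd 4 F)) H) :
    (∃ W : Submodule F (Unit ⊕ (Fin 4 ⊕ Fin 4) → F), W ≠ ⊥ ∧ Cfsg.Geo.IsTotallySingularQuad (Cfsg.quadFormOdd 4 F) W ∧ H = Cfsg.Geo.subspaceStabilizer W ⊓ Cfsg.Geo.omegaGL (Cfsg.quadFormOdd 4 F)) ∨
    (∃ W : Submodule F (Unit ⊕ (Fin 4 ⊕ Fin 4) → F), W ≠ ⊥ ∧ Even (Module.finrank F W) ∧ Cfsg.Geo.IsNondegenerateOn (QuadraticMap.polar (Cfsg.quadFormOdd 4 F)) W ∧ ¬ (Fintype.card F = 3 ∧ Module.finrank F W = 2 ∧ Cfsg.Geo.IsPlusTypeOn (Cfsg.quadFormOdd 4 F) W) ∧ H = Cfsg.Geo.subspaceStabilizer W ⊓ Cfsg.Geo.omegaGL (Cfsg.quadFormOdd 4 F)) ∨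
    ((Fintype.card F).Prime ∧ ∃ D : Fin 9 → Submodule F (Unit ⊕ (Fin 4 ⊕ Fin 4) → F), Cfsg.Geo.IsOrthogonalMDecomposition (Cfsg.quadFormOdd 4 F) 1 D ∧ H = Cfsg.Geo.decompositionStabilizer D ⊓ Cfsg.Geo.omegaGL (Cfsg.quadFormOdd 4 F)) ∨
    (5 ≤ Fintype.card F ∧ ∃ D : Fin 3 → Submodule F (Unit ⊕ (Fin 4 ⊕ Fin 4) → F), Cfsg.Geo.IsOrthogonalMDecomposition (Cfsg.quadFormOdd 4 F) 3 D ∧ H = Cfsg.Geo.decompositionStabilizer D ⊓ Cfsg.Geo.omegaGL (Cfsg.quadFormOdd 4 F)) ∨
    (∃ K : Subalgebra F (Matrix (Unit ⊕ (Fin 4 ⊕ Fin 4)) (Unit ⊕ (Fin 4 ⊕ Fin 4)) F), Cfsg.Geo.IsFieldSubalgebra 3 K ∧ Cfsg.Geo.IsSelfAdjointFor (QuadraticMap.polar (Cfsg.quadFormOdd 4 F)) K ∧ H = Cfsg.Geo.subalgebraNormalizer K ⊓ Cfsg.Geo.omegaGL (Cfsg.quadFormOdd 4 F)) ∨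
    (∃ (F₀ : Subfield F) (r : ℕ) (P : Matrix.GeneralLinearGroup (Unit ⊕ (Fin 4 ⊕ Fin 4)) F), r.Prime ∧ Fintype.card F = Nat.card F₀ ^ r ∧ Cfsg.Geo.IsQuadFormRationalStructure (Cfsg.quadFormOdd 4 F) F₀ P ∧ H = Cfsg.Geo.subfieldSubgroup F₀ P ⊓ Cfsg.Geo.omegaGL (Cfsg.quadFormOdd 4 F)) ∨
    (5 ≤ Fintype.card F ∧ ∃ (e : (Unit ⊕ (Fin 4 ⊕ Fin 4)) ≃ (Fin 2 → Fin 3)) (P : Matrix.GeneralLinearGroup (Unit ⊕ (Fin 4 ⊕ Fin 4)) F) (f₁ : (Fin 3 → F) → (Fin 3 → F) → F), Cfsg.Geo.IsSymmetricForm f₁ ∧ Cfsg.Geo.IsTensorPowerFormStructure id (QuadraticMap.polar (Cfsg.quadFormOdd 4 F)) f₁ e P ∧ H = Cfsg.Geo.tensorWreathSubgroup 3 2 e P ⊓ Cfsg.Geo.omegaGL (Cfsg.quadFormOdd 4 F)) ∨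
    Cfsg.Geo.InOrthogonalResidualClass H := by
  classical
  have h2 := PrimeDim.two_ne_zero_of_odd_card hodd
  have hQ := Orth.quadOdd_nondeg (F := F) 4 h2
  have hcard := Aschbacher.card_odd_index 4
  have h5 : 5 ≤ Fintype.card (Unit ⊕ (Fin 4 ⊕ Fin 4)) := by omega
  have : Nonempty (Unit ⊕ (Fin 4 ⊕ Fin 4)) := ⟨Sum.inl ()⟩
  set q := Fintype.card F with hq
  have hq3 : 3 ≤ q := by
    have := Fintype.one_lt_card (α := F)
    rcases hodd with ⟨k, hk⟩
    omega
  have key : ∀ M : Subgroup (Matrix.GeneralLinearGroup (Unit ⊕ (Fin 4 ⊕ Fin 4)) F), H ≤ M →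
      ¬ Cfsg.Geo.omegaGL (Cfsg.quadFormOdd 4 F) ≤ M → H = M ⊓ Cfsg.Geo.omegaGL (Cfsg.quadFormOdd 4 F) := by
    intro M hM1 hM2
    rcases hH.2 (M ⊓ Cfsg.Geo.omegaGL (Cfsg.quadFormOdd 4 F)) (le_inf hM1 hH.1.le) inf_le_right with h | h
    · exact h.symm
    · exact absurd (h ▸ inf_le_left) hM2
  have hI : H ≤ Cfsg.isometryGroup F (Cfsg.quadFormOdd 4 F) := fun g hg => by
    obtain ⟨h, -, rfl⟩ := hH.1.le hg
    exact h.2
  rcases Aschbacher.orth_odd_structure hodd (by omega) hH.1.le with ⟨M, hM, hle⟩ | h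
  swap
  · iterate 7 right
    exact h
  rcases hM with ⟨W, hb, hts, rfl⟩ | ⟨W, hb, ht, hnd, rfl⟩ | ⟨t, k, D, hk, hD, rfl⟩ |
    ⟨t, D, hp, hD, rfl⟩ | ⟨r, K, hr, hne, hK, hsa, rfl⟩ | ⟨n₁, n₂, e, P, f₁, f₂, h1, h12, -, -, -, rfl⟩ |
    ⟨F₀, r, P, hr, hc, hform, rfl⟩ | ⟨k, t, e, P, f₁, hk, ht, hex, hf, hT, rfl⟩
  · refine Or.inl ⟨W, hb, hts, key _ (hle.trans inf_le_left)
      (PrimeDim.not_omega_le_subspaceStabilizer (Q := Orth.quadOdd 4 F) hQ h2 h5 hb ?_)⟩
    rintro rfl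
    obtain ⟨v, hv⟩ := Orth.exists_Q_eq hQ (by omega) (1 : F)
    have : (Orth.quadOdd 4 F) v = 0 := hts v trivial
    rw [hv] at this
    exact one_ne_zero this
  · have hndW := Orth.nondegOn_of_geo (Q := Orth.quadOdd 4 F) hnd
    have hgeo : ∀ U : Submodule F (Unit ⊕ (Fin 4 ⊕ Fin 4) → F),
        (∀ x ∈ U, x ≠ 0 → ∃ y ∈ U, QuadraticMap.polar ⇑(Orth.quadOdd 4 F) x y ≠ 0) →
        Cfsg.Geo.IsNondegenerateOn (QuadraticMap.polar (Cfsg.quadFormOdd 4 F)) U := fun U h x hx hx0 => by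
      obtain ⟨y, hy, hxy⟩ := h x hx hx0
      exact ⟨⟨y, hy, by rw [QuadraticMap.polar_comm]; exact hxy⟩, ⟨y, hy, hxy⟩⟩
    have hdim := Orth.finrank_perpSub hQ W
    have hlt := Submodule.finrank_lt ht
    rw [Module.finrank_fintype_fun_eq_card] at hlt
    obtain ⟨U, hUb, hUev, hUnd, hUstab⟩ : ∃ U : Submodule F (Unit ⊕ (Fin 4 ⊕ Fin 4) → F), U ≠ ⊥ ∧
        Even (Module.finrank F U) ∧ Cfsg.Geo.IsNondegenerateOn (QuadraticMap.polar (Cfsg.quadFormOdd 4 F)) U ∧
        H ≤ Cfsg.Geo.subspaceStabilizer U := by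
      by_cases hev : Even (Module.finrank F W)
      · exact ⟨W, hb, hev, hnd, hle.trans inf_le_left⟩
      · refine ⟨Orth.perpSub (Orth.quadOdd 4 F) W, fun h => ?_, ?_, hgeo _ (Orth.perpSub_nondeg hQ hndW),
          fun g hg => Orth.mem_stabilizer_iff.2 fun x hx w hw => ?_⟩
        · rw [h, finrank_bot] at hdim; omega
        · rw [hdim, Nat.even_sub hlt.le]
          exact iff_of_false (Nat.not_even_iff_odd.mpr ⟨4, by omega⟩) hev
        · have h1 := Orth.mem_stabilizer_iff.1 ((hle (inv_mem hg)).1) w hw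
          have h3 := Orth.polar_ap (Q := Orth.quadOdd 4 F) ⟨g, hI hg⟩
            (((g⁻¹ : Matrix.GeneralLinearGroup (Unit ⊕ (Fin 4 ⊕ Fin 4)) F) : Matrix _ _ F).mulVec w) x
          simp only [Orth.ap_apply, Matrix.mulVec_mulVec w, Units.mul_inv, Matrix.one_mulVec] at h3
          show QuadraticMap.polar ⇑(Orth.quadOdd 4 F) w _ = 0
          rw [h3]
          exact hx _ h1
    have hUt : U ≠ ⊤ := fun h => by
      rw [h, finrank_top, Module.finrank_fintype_fun_eq_card, hcard] at hUev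
      exact absurd hUev (by decide)
    have heq := key _ hUstab (PrimeDim.not_omega_le_subspaceStabilizer (Q := Orth.quadOdd 4 F) hQ h2 h5 hUb hUt)
    refine Or.inr (Or.inl ⟨U, hUb, hUev, hUnd, fun h3 => ?_, heq⟩)
    obtain ⟨K, hK1, hK2⟩ := Orth.plane_stabilizer_not_maximal (Q := Orth.quadOdd 4 F)
      (Orth.Good.of_two_ne_zero hQ h2) h5 h3.1.le h3.2.1 hUnd h3.2.2
    have hK1' : H < K := heq ▸ hK1
    rcases hH.2 K hK1'.le hK2.le with h | h
    · exact absurd h hK1'.ne'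
    · exact absurd h hK2.ne
  · have htk : 9 = t * k := hcard.symm.trans (Orth.card_eq_mul (Q := Orth.quadOdd 4 F) hQ hD)
    have ht2 := hD.decomp.decomp.two_le
    obtain ⟨rfl, rfl⟩ : t = 3 ∧ k = 3 := by
      have h1 : t ∣ 9 := Dvd.intro k htk.symm
      have := Nat.le_of_dvd (by norm_num) h1
      interval_cases t <;> omega
    rcases (show q = 3 ∨ 5 ≤ q by rcases hodd with ⟨j, hj⟩; omega) with h3 | hq5
    · obtain ⟨N, D', hN, hD', hle'⟩ := Aschbacher.exists_frame_three (Q := Orth.quadOdd 4 F) hQ h3 h2 hD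
      rw [hcard] at hN
      subst hN
      refine Or.inr (Or.inr (Or.inl ⟨by rw [h3]; exact Nat.prime_three, D', hD', key _ (hle.trans hle') ?_⟩))
      exact Aschbacher.not_omega_le_mdecomp (Q := Orth.quadOdd 4 F) hQ h5 hD'.decomp.decomp
        (by rw [hcard, ← hq, h3]; norm_num)
    · refine Or.inr (Or.inr (Or.inr (Or.inl ⟨hq5, D, hD, key _ (hle.trans inf_le_left) ?_⟩)))
      refine Aschbacher.not_omega_le_mdecomp (Q := Orth.quadOdd 4 F) hQ h5 hD.decomp.decomp ?_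
      rw [hcard, ← hq]
      calc 3 * q ^ 3 < q ^ 4 * q ^ 3 := by
            refine Nat.mul_lt_mul_of_pos_right ?_ (pow_pos (by omega) _)
            exact lt_of_lt_of_le (by norm_num) (Nat.pow_le_pow_left hq3 4)
        _ = q ^ (9 - 2) := by rw [← pow_add]
  · obtain rfl : t = 9 := by
      have := Orth.card_eq_mul (Q := Orth.quadOdd 4 F) hQ hD
      omega
    exact Or.inr (Or.inr (Or.inl ⟨hp, D, hD, key _ (hle.trans inf_le_left)
      (PrimeDim.not_omega_le_decompositionStabilizer (Q := Orth.quadOdd 4 F) hQ h2 h5 (by omega)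
        hD.decomp.decomp)⟩))
  · have hdvd := PrimeDim.finrank_dvd_of_field hK.comm hK.inv
    rw [hK.finrank_eq, hcard] at hdvd
    obtain rfl : r = 3 := by
      have := Nat.le_of_dvd (by norm_num) hdvd
      have := hr.two_le
      interval_cases r <;> first | rfl | omega | (norm_num at hdvd; done) | (norm_num at hr; done)
    iterate 4 right
    exact Or.inl ⟨K, hK, hsa, key _ (hle.trans inf_le_left)
      (Aschbacher.not_omega_le_field (Q := Orth.quadOdd 4 F) hQ h5 (by norm_num) hK)⟩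
  · exfalso
    have h : 2 * 4 + 1 = n₁ * n₂ := by
      have := Fintype.card_congr e
      rwa [hcard, Fintype.card_prod, Fintype.card_fin, Fintype.card_fin] at this
    have : n₁ * 4 ≤ n₁ * n₂ := Nat.mul_le_mul_left _ (by omega)
    omega
  · iterate 5 right
    refine Or.inl ⟨F₀, r, P, hr, hc, hform, key _ (hle.trans inf_le_left)
      (PrimeDim.not_omega_le_subfieldSubgroup (Q := Orth.quadOdd 4 F) hQ h2 h5 ?_ P)⟩
    rintro rfl
    rw [Nat.card_congr (Equiv.subtypeUnivEquiv fun x => Subfield.mem_top x), Nat.card_eq_fintype_card] at hc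
    have := Fintype.one_lt_card (α := F)
    have h1 : Fintype.card F ^ 1 < Fintype.card F ^ r := Nat.pow_lt_pow_right this hr.one_lt
    rw [pow_one] at h1
    omega
  · have h : 2 * 4 + 1 = k ^ t := by
      have := Fintype.card_congr e
      rwa [hcard, Fintype.card_fun, Fintype.card_fin, Fintype.card_fin] at this
    obtain rfl : t = 2 := by
      by_contra hne
      have : 3 ^ 3 ≤ k ^ t :=
        (Nat.pow_le_pow_left hk 3).trans (Nat.pow_le_pow_right (by omega) (by omega))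
      omega
    obtain rfl : k = 3 := by
      have : k ≤ 3 := by
        by_contra hk3
        have := Nat.pow_le_pow_left (show 4 ≤ k by omega) 2
        omega
      omega
    have hq5 : 5 ≤ q := by
      rcases hodd with ⟨j, hj⟩
      have : q ≠ 3 := fun h => hex ⟨h, rfl⟩
      omega
    iterate 6 right
    exact Or.inl ⟨hq5, e, P, f₁, hf, hT, key _ (hle.trans inf_le_left)
      (Aschbacher.not_omega_le_wreath (Q := Orth.quadOdd 4 F) hQ h5 (by norm_num) (by omega) e P)⟩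

end Cfsg.Agent.S5835
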