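import Cfsg.Statements.S5844
import Cfsg.Agent.EqLemmas
import Cfsg.Agent.Lib.Aschbacher.SymplecticCases

set_option autoImplicit false
open Cfsg
open Cfsg.Agent.Aschbacher Cfsg.Agent

namespace Cfsg.Agent.S5844

private theorem not_pow_eq {n : ℕ} (hn : n < 16) (h : n ≠ 8) {k t : ℕ} (hk : 2 ≤ k) (hev : Even k) (ht : 3 ≤ t)
    (hkt : k ^ t = n) : False := by
  obtain ⟨j, rfl⟩ := hev
  have h3 : (j + j) ^ 3 ≤ n := hkt ▸ Nat.pow_le_pow_right (by omega) ht
  obtain rfl : j = 1 := by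
    by_contra hj
    have : 4 ^ 3 ≤ (j + j) ^ 3 := Nat.pow_le_pow_left (by omega) 3
    omega
  have : t < 4 := (Nat.pow_lt_pow_iff_right (a := 2) (by norm_num)).mp (by simpa [hkt] using hn)
  interval_cases t
  simp at hkt
  omega

private theorem not_two_pow {n : ℕ} (hn : ∀ k ≤ 4, 2 ^ k ≠ n) (h : n < 16) {k : ℕ} (hk : n = 2 ^ k) : False :=
  hn k ((Nat.pow_le_pow_iff_right (a := 2) (by norm_num)).mp (by rw [← hk]; omega)) hk.symm

/-- Every maximal subgroup of Sp_10(q) is of one of the listed geometric types or lies in the residual class. Let F be a finite field with q elements (characteristic p), f the standard alternating form on F^10 (coordinates Fin 5 ⊕ Fin 5), and H a maximal subgroup of Sp_10(F) (inside GL_10(F)). Then H is the intersection with Sp_10(F) of one of: the stabiliser of a non-zero totally isotropic subspace; the stabiliser of a non-zero non-degenerate subspace of dimension less than 5;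 for q ≥ 3, the stabiliser of a decomposition into 5 mutually orthogonal non-degenerate 2-spaces; for q odd, of a decomposition into two totally isotropic 5-spaces; the normaliser of a degree-5 subfield K of the matrix algebra, self-adjoint with f(k v, v) = 0; for q odd, the normaliser of a degree-2 subfield closed under adjoints but not self-adjoint; for q odd, the stabiliser of a tensor decomposition of f into an alternating form on F^2 and a symmetric form on F^5; a subfield group (|F| = |F₀|^r, r prime) whose F₀-structure carries a non-zero multiple of f; for q even, the similarity group of a non-degenerate quadratic form polarising to f — or else H lies in the residual class of the symplectic case (modulo scalars H is almost simple, with absolutely irreducible perfect socle preimage realisable over no proper subfield and fixing no non-degenerate quadratic or unitary form). -/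
theorem result {F : Type*} [Field F] [Fintype F] (H : Subgroup (Matrix.GeneralLinearGroup (Fin 5 ⊕ Fin 5) F)) (hH : Cfsg.Geo.IsMaximalIn (Cfsg.spGL 5 F) H) :
    (∃ W : Submodule F (Fin 5 ⊕ Fin 5 → F), W ≠ ⊥ ∧ Cfsg.Geo.IsTotallySingularFor (Cfsg.sympForm 5 F) W ∧ H = Cfsg.Geo.subspaceStabilizer W ⊓ Cfsg.spGL 5 F) ∨
    (∃ W : Submodule F (Fin 5 ⊕ Fin 5 → F), W ≠ ⊥ ∧ Cfsg.Geo.IsNondegenerateOn (Cfsg.sympForm 5 F) W ∧ Module.finrank F W < 5 ∧ H = Cfsg.Geo.subspaceStabilizer W ⊓ Cfsg.spGL 5 F) ∨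
    (3 ≤ Fintype.card F ∧ ∃ D : Fin 5 → Submodule F (Fin 5 ⊕ Fin 5 → F), Cfsg.Geo.IsNondegenerateMDecomposition (Cfsg.sympForm 5 F) 2 D ∧ H = Cfsg.Geo.decompositionStabilizer D ⊓ Cfsg.spGL 5 F) ∨
    (Odd (Fintype.card F) ∧ ∃ D : Fin 2 → Submodule F (Fin 5 ⊕ Fin 5 → F), Cfsg.Geo.IsMDecomposition 5 D ∧ (∀ i, Cfsg.Geo.IsTotallySingularFor (Cfsg.sympForm 5 F) (D i)) ∧ H = Cfsg.Geo.decompositionStabilizer D ⊓ Cfsg.spGL 5 F) ∨
    (∃ K : Subalgebra F (Matrix (Fin 5 ⊕ Fin 5) (Fin 5 ⊕ Fin 5) F), Cfsg.Geo.IsFieldSubalgebra 5 K ∧ Cfsg.Geo.IsSelfAdjointFor (Cfsg.sympForm 5 F) K ∧ (∀ k ∈ K, ∀ v : (Fin 5 ⊕ Fin 5 → F), (Cfsg.sympForm 5 F) (Matrix.mulVec k v) v = 0) ∧ H = Cfsg.Geo.subalgebraNormalizer K ⊓ Cfsg.spGL 5 F) ∨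
    (Odd (Fintype.card F) ∧ ∃ K : Subalgebra F (Matrix (Fin 5 ⊕ Fin 5) (Fin 5 ⊕ Fin 5) F), Cfsg.Geo.IsFieldSubalgebra 2 K ∧ Cfsg.Geo.IsAdjointClosedFor (Cfsg.sympForm 5 F) K ∧ ¬ Cfsg.Geo.IsSelfAdjointFor (Cfsg.sympForm 5 F) K ∧ H = Cfsg.Geo.subalgebraNormalizer K ⊓ Cfsg.spGL 5 F) ∨
    (Odd (Fintype.card F) ∧ ∃ (e : (Fin 5 ⊕ Fin 5) ≃ Fin 2 × Fin 5) (P : Matrix.GeneralLinearGroup (Fin 5 ⊕ Fin 5) F) (f₁ : (Fin 2 → F) → (Fin 2 → F) → F) (f₂ : (Fin 5 → F) → (Fin 5 → F) → F), Cfsg.Geo.IsSymplecticForm f₁ ∧ Cfsg.Geo.IsSymmetricForm f₂ ∧ Cfsg.Geo.IsTensorFormStructure id (Cfsg.sympForm 5 F) f₁ f₂ e P ∧ H = Cfsg.Geo.tensorProductSubgroup 2 5 e P ⊓ Cfsg.spGL 5 F) ∨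
    (∃ (F₀ : Subfield F) (r : ℕ) (P : Matrix.GeneralLinearGroup (Fin 5 ⊕ Fin 5) F) (ζ : F), r.Prime ∧ Fintype.card F = Nat.card F₀ ^ r ∧ ζ ≠ 0 ∧ Cfsg.Geo.IsFormRationalStructure (Cfsg.sympForm 5 F) F₀ ζ P ∧ H = Cfsg.Geo.subfieldSubgroup F₀ P ⊓ Cfsg.spGL 5 F) ∨
    (¬ Odd (Fintype.card F) ∧ ∃ Q : (Fin 5 ⊕ Fin 5 → F) → F, Cfsg.Geo.IsNondegenerateQuadraticForm Q ∧ (∀ u v : (Fin 5 ⊕ Fin 5 → F), QuadraticMap.polar Q u v = (Cfsg.sympForm 5 F) u v) ∧ H = Cfsg.Geo.quadSimilarityGroup Q ⊓ Cfsg.spGL 5 F) ∨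
    Cfsg.Geo.InSymplecticResidualClass H := by
  classical
  have hq1 := Fintype.one_lt_card (α := F)
  rcases sp_cases (by norm_num : 2 ≤ 5) hH with h | h | ⟨t, k, D, htk, ht, hk, hev, hk2, hD, heq⟩ |
    ⟨D, hodd, hD, hts, heq⟩ | ⟨r, K, hr, hrm, hK, hsa, halt, heq⟩ | h |
    ⟨hodd, n₁, n₂, e, P, f₁, f₂, hn, hn₁, hn₁e, hn₂, hn₃, h1, h2, h3, h4⟩ |
    ⟨hodd, k, t, e, P, f₁, hkt, hto, ht, hk, hev, hk2, hrest⟩ | h | ⟨R, p, k, hk, hR⟩ | h | h
  · exact Or.inl h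
  · exact Or.inr (Or.inl h)
  · have htd : t ∣ 10 := Dvd.intro k htk
    have := Nat.le_of_dvd (by norm_num) htd
    obtain ⟨j, hj⟩ := hev
    interval_cases t <;> norm_num at htd
    all_goals (try (exfalso; omega))
    obtain rfl : k = 2 := by omega
    exact Or.inr (Or.inr (Or.inl ⟨hk2 rfl, D, hD, heq⟩))
  · exact Or.inr (Or.inr (Or.inr (Or.inl ⟨hodd, D, hD, hts, heq⟩)))
  · obtain rfl : r = 5 := (Nat.prime_dvd_prime_iff_eq hr Nat.prime_five).mp hrm
    exact Or.inr (Or.inr (Or.inr (Or.inr (Or.inl ⟨K, hK, hsa, halt, heq⟩))))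
  · iterate 5 right
    exact Or.inl h
  · have hd : n₁ ∣ 10 := Dvd.intro n₂ hn
    have := Nat.le_of_dvd (by norm_num) hd
    obtain ⟨j, hj⟩ := hn₁e
    interval_cases n₁ <;> norm_num at hd
    all_goals (try (exfalso; omega))
    obtain rfl : n₂ = 5 := by omega
    iterate 6 right
    exact Or.inl ⟨hodd, e, P, f₁, f₂, h1, h2, h3, h4⟩
  · exfalso
    exact not_pow_eq (n := 10) (by norm_num) (by decide) hk hev ht hkt
  · iterate 7 right
    exact Or.inl h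
  · exfalso
    exact not_two_pow (n := 10) (by decide) (by norm_num) hk
  · iterate 8 right
    exact Or.inl h
  · iterate 9 right
    exact h

end Cfsg.Agent.S5844
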