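import Cfsg.Statements.S5846
import Cfsg.Agent.Lib.Orth.LowDim


set_option autoImplicit false
open Cfsg

namespace Cfsg.Agent.S5846

/-- Maximal subgroups of Ω_10^+(q) of geometric type (any q). Let F be a finite field with q elements (characteristic p), Q a non-degenerate quadratic form on F^10 (non-degenerate polar form) of plus type (Witt index 5: some totally singular 5-space), and Ω = Ω_10^+(q) the commutator subgroup of the isometry group of Q, inside GL_10(F). Each of the following, intersected with Ω, is a maximal subgroup of Ω: (1) the stabiliser of any non-zero subspace on which Q vanishes identically other than those of dimension 4 (totally singular subspaces, dimensions 1, 2, 3 and 5); (2) for q odd, the stabiliser of any proper subspace of odd dimension other than 5 on which the polar form of Q is non-degenerate; (3) the stabiliser of any non-degenerate 2-space of minus type (containing no non-zero singular vector); (4) for q ≥ 4, the stabiliser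 of any non-degenerate 2-space of plus type (containing a non-zero singular vector); (5) the stabiliser of any non-degenerate 4-space (either type); (6) for q even, the stabiliser of the 1-space spanned by any non-singular vector v (Q(v) ≠ 0); (7) for q = p prime with p ≡ 1 mod 4, the stabiliser of any decomposition of F^10 into 10 pairwise orthogonal, pairwise Q-isometric non-degenerate 1-spaces; (8) for q ≥ 7, the stabiliser of any decomposition of F^10 into 5 pairwise orthogonal, pairwise Q-isometric non-degenerate 2-spaces; (9) for q ≡ 1 mod 4, the stabiliser of any decomposition of F^10 into 2 pairwise orthogonal, pairwise Q-isometric non-degenerate 5-spaces; (10) for q ≡ 3 mod 4, the stabiliser of any decomposition of F^10 into two orthogonal non-degenerate 5-spaces that are not Q-isometric; (11) for q odd, the normaliser of any degree-2 subfield K of the matrix algebra whose elements are self-adjoint for the polar form of Q (Q is then the trace of a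 quadratic form over K); (12) every subfield group for a subfield F₀ with |F| = |F₀|^r, r prime, whose F₀-structure carries a non-zero scalar multiple of Q. -/
theorem result {F : Type*} [Field F] [Fintype F] (Q : (Fin 10 → F) → F) (hQ : Cfsg.Geo.IsNondegenerateQuadraticForm Q) (hplus : Cfsg.Geo.IsPlusTypeOn Q ⊤) :
    (∀ W : Submodule F (Fin 10 → F), W ≠ ⊥ → Cfsg.Geo.IsTotallySingularQuad Q W → Module.finrank F W ≠ 4 → Cfsg.Geo.IsMaximalIn (Cfsg.Geo.omegaGL Q) (Cfsg.Geo.subspaceStabilizer W ⊓ Cfsg.Geo.omegaGL Q)) ∧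
    (Odd (Fintype.card F) → ∀ W : Submodule F (Fin 10 → F), W ≠ ⊥ → W ≠ ⊤ → Odd (Module.finrank F W) → 2 * Module.finrank F W ≠ 10 → Cfsg.Geo.IsNondegenerateOn (QuadraticMap.polar Q) W → Cfsg.Geo.IsMaximalIn (Cfsg.Geo.omegaGL Q) (Cfsg.Geo.subspaceStabilizer W ⊓ Cfsg.Geo.omegaGL Q)) ∧
    (∀ W : Submodule F (Fin 10 → F), Module.finrank F W = 2 → Cfsg.Geo.IsNondegenerateOn (QuadraticMap.polar Q) W → ¬ Cfsg.Geo.IsPlusTypeOn Q W → Cfsg.Geo.IsMaximalIn (Cfsg.Geo.omegaGL Q) (Cfsg.Geo.subspaceStabilizer W ⊓ Cfsg.Geo.omegaGL Q)) ∧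
    (4 ≤ Fintype.card F → ∀ W : Submodule F (Fin 10 → F), Module.finrank F W = 2 → Cfsg.Geo.IsNondegenerateOn (QuadraticMap.polar Q) W → Cfsg.Geo.IsPlusTypeOn Q W → Cfsg.Geo.IsMaximalIn (Cfsg.Geo.omegaGL Q) (Cfsg.Geo.subspaceStabilizer W ⊓ Cfsg.Geo.omegaGL Q)) ∧
    (∀ W : Submodule F (Fin 10 → F), Module.finrank F W = 4 → Cfsg.Geo.IsNondegenerateOn (QuadraticMap.polar Q) W → Cfsg.Geo.IsMaximalIn (Cfsg.Geo.omegaGL Q) (Cfsg.Geo.subspaceStabilizer W ⊓ Cfsg.Geo.omegaGL Q)) ∧
    (¬ Odd (Fintype.card F) → ∀ v : (Fin 10 → F), Q v ≠ 0 → Cfsg.Geo.IsMaximalIn (Cfsg.Geo.omegaGL Q) (Cfsg.Geo.subspaceStabilizer (Submodule.span F {v}) ⊓ Cfsg.Geo.omegaGL Q)) ∧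
    ((∃ p : ℕ, p.Prime ∧ Fintype.card F = p ∧ (p % 4 = 1)) → ∀ D : Fin 10 → Submodule F (Fin 10 → F), Cfsg.Geo.IsOrthogonalMDecomposition Q 1 D → Cfsg.Geo.IsMaximalIn (Cfsg.Geo.omegaGL Q) (Cfsg.Geo.decompositionStabilizer D ⊓ Cfsg.Geo.omegaGL Q)) ∧
    (7 ≤ Fintype.card F → ∀ D : Fin 5 → Submodule F (Fin 10 → F), Cfsg.Geo.IsOrthogonalMDecomposition Q 2 D → Cfsg.Geo.IsMaximalIn (Cfsg.Geo.omegaGL Q) (Cfsg.Geo.decompositionStabilizer D ⊓ Cfsg.Geo.omegaGL Q)) ∧
    (Fintype.card F % 4 = 1 → ∀ D : Fin 2 → Submodule F (Fin 10 → F), Cfsg.Geo.IsOrthogonalMDecomposition Q 5 D → Cfsg.Geo.IsMaximalIn (Cfsg.Geo.omegaGL Q) (Cfsg.Geo.decompositionStabilizer D ⊓ Cfsg.Geo.omegaGL Q)) ∧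
    (Fintype.card F % 4 = 3 → ∀ D : Fin 2 → Submodule F (Fin 10 → F), Cfsg.Geo.IsNondegenerateMDecomposition (QuadraticMap.polar Q) 5 D → ¬ Cfsg.Geo.AreIsometricFor Q (D 0) (D 1) → Cfsg.Geo.IsMaximalIn (Cfsg.Geo.omegaGL Q) (Cfsg.Geo.decompositionStabilizer D ⊓ Cfsg.Geo.omegaGL Q)) ∧
    (Odd (Fintype.card F) → ∀ K : Subalgebra F (Matrix (Fin 10) (Fin 10) F), Cfsg.Geo.IsFieldSubalgebra 2 K → Cfsg.Geo.IsSelfAdjointFor (QuadraticMap.polar Q) K → Cfsg.Geo.IsMaximalIn (Cfsg.Geo.omegaGL Q) (Cfsg.Geo.subalgebraNormalizer K ⊓ Cfsg.Geo.omegaGL Q)) ∧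
    (∀ (F₀ : Subfield F) (r : ℕ) (P : Matrix.GeneralLinearGroup (Fin 10) F) (ζ : F), r.Prime → Fintype.card F = Nat.card F₀ ^ r → ζ ≠ 0 → Cfsg.Geo.IsQuadFormRationalStructure (fun v : Fin 10 → F => ζ * Q v) F₀ P → Cfsg.Geo.IsMaximalIn (Cfsg.Geo.omegaGL Q) (Cfsg.Geo.subfieldSubgroup F₀ P ⊓ Cfsg.Geo.omegaGL Q)) := by
  classical
  have hG := Cfsg.Agent.Orth.good_ofND hQ (by simp)
  have hodd4 : ∀ r, Fintype.card F % 4 = r → r = 1 ∨ r = 3 → Odd (Fintype.card F) :=
    fun r h hr => Nat.odd_iff.2 (by omega)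
  refine ⟨fun W hW0 hW hd => Cfsg.Agent.Orth.singular_row hQ (by omega) (by decide) hW0 hW (.inl (by omega)),
    fun hodd W hW0 hW1 ho hne hW => Cfsg.Agent.Orth.nondeg_row hQ (by omega) hW hW0 hW1 hne
      (fun h => by rw [Nat.odd_iff] at ho; omega) (fun h => by rw [Nat.odd_iff] at ho; omega),
    fun W h2 hW hm => Cfsg.Agent.Orth.nondeg_row hQ (by omega) hW (fun h => by rw [h, finrank_bot] at h2; omega)
      (fun h => by rw [h, finrank_top, Module.finrank_fin_fun] at h2; omega) (by omega) (by omega)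
      (fun _ => .inr hm),
    fun hq W h2 hW _ => Cfsg.Agent.Orth.nondeg_row hQ (by omega) hW (fun h => by rw [h, finrank_bot] at h2; omega)
      (fun h => by rw [h, finrank_top, Module.finrank_fin_fun] at h2; omega) (by omega) (by omega)
      (fun _ => .inl hq),
    fun W h4 hW => Cfsg.Agent.Orth.nondeg_row hQ (by omega) hW (fun h => by rw [h, finrank_bot] at h4; omega)
      (fun h => by rw [h, finrank_top, Module.finrank_fin_fun] at h4; omega) (by omega) (by omega)
      (fun h => by omega),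
    fun hchar v hv => Cfsg.Agent.Orth.nonsingular_row hQ (by omega) hchar hv,
    fun ⟨p, hp, hpc, hp4⟩ D hD => Cfsg.Agent.Orth.Frame.frame_maximal (Q := Cfsg.Agent.Orth.ofND hQ) (hpc ▸ hp)
      (Nat.odd_iff.2 (by omega)) (by simp) hD,
    fun hq D hD => Cfsg.Agent.Orth.decomposition_maximal_main (Q := Cfsg.Agent.Orth.ofND hQ) hG hD (by simp) le_rfl
      (fun h => absurd h (by decide)) (fun h => by omega)
      (fun _ => ⟨fun _ => by omega, fun h => by omega⟩),
    fun hq D hD => Cfsg.Agent.Orth.decomposition_maximal_main (Q := Cfsg.Agent.Orth.ofND hQ) hG hD (by simp) (by omega)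
      (fun _ => hodd4 1 hq (.inl rfl)) (fun _ => ⟨by omega, by omega⟩)
      (fun _ => ⟨fun h => by omega, fun h => by omega⟩),
    fun _ D hD hni => Cfsg.Agent.Orth.halves_row hQ (by omega) (by omega) hD hni,
    fun hodd K hK hsa => Cfsg.Agent.Orth.field_row hQ Nat.prime_two (by omega) le_rfl hodd hK hsa,
    fun F₀ r P ζ hr hcard hζ hP => ?_⟩
  exact Cfsg.Agent.C5.Ortho.isMaximalIn_subfield (Q := Cfsg.Agent.Orth.ofND hQ) (Cfsg.Agent.Orth.ofND_nondeg hQ)
    (by simp) hr hcard P hζ hP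

end Cfsg.Agent.S5846
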