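import Cfsg.Statements.S5847
import Cfsg.Agent.Lib.Aschbacher.EvenRefine

set_option autoImplicit false
open Cfsg

namespace Cfsg.Agent.S5847

/-- Every maximal subgroup of Ω_10^+(q) is of one of the listed geometric types or lies in the residual class. Let F be a finite field with q elements (characteristic p), Q a non-degenerate quadratic form on F^10 of plus type (Witt index 5: some totally singular 5-space), Ω the commutator subgroup of its isometry group, and H a maximal subgroup of Ω (inside GL_10(F)). Then H is the intersection with Ω of one of: the stabiliser of a non-zero totally singular subspace of dimension ≠ 4; for q odd, the stabiliser of a non-degenerate subspace of odd dimension ≠ 5; the stabiliser of a non-degenerate 2-space of minus type; for q ≥ 4, the stabiliser of a non-degenerate 2-space of plus type; the stabiliser of a non-degenerate 4-space; for q even, the stabiliser of the span of a non-singular vector; for q =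 p prime with p ≡ 1 mod 4, the stabiliser of a decomposition into 10 pairwise orthogonal, pairwise isometric non-degenerate 1-spaces; for q ≥ 7, the stabiliser of a decomposition into 5 pairwise orthogonal, pairwise isometric non-degenerate 2-spaces; for q ≡ 1 mod 4, the stabiliser of a decomposition into 2 pairwise orthogonal, pairwise isometric non-degenerate 5-spaces; for q ≡ 3 mod 4, the stabiliser of a decomposition into two orthogonal, non-isometric non-degenerate 5-spaces; for q odd, the normaliser of a degree-2 subfield of the matrix algebra, self-adjoint for the polar form; a subfield group (|F| = |F₀|^r, r prime) whose F₀-structure carries a non-zero multiple of Q — or else H lies in the residual class of the orthogonal case (modulo scalars H is almost simple, with absolutely irreducible perfect socle preimage realisable over no proper subfield and fixing no non-degenerate unitary form). -/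
theorem result {F : Type*} [Field F] [Fintype F] (Q : (Fin 10 → F) → F) (hQ : Cfsg.Geo.IsNondegenerateQuadraticForm Q) (hplus : Cfsg.Geo.IsPlusTypeOn Q ⊤) (H : Subgroup (Matrix.GeneralLinearGroup (Fin 10) F)) (hH : Cfsg.Geo.IsMaximalIn (Cfsg.Geo.omegaGL Q) H) :
    (∃ W : Submodule F (Fin 10 → F), W ≠ ⊥ ∧ Cfsg.Geo.IsTotallySingularQuad Q W ∧ Module.finrank F W ≠ 4 ∧ H = Cfsg.Geo.subspaceStabilizer W ⊓ Cfsg.Geo.omegaGL Q) ∨
    (Odd (Fintype.card F) ∧ ∃ W : Submodule F (Fin 10 → F), W ≠ ⊥ ∧ W ≠ ⊤ ∧ Odd (Module.finrank F W) ∧ 2 * Module.finrank F W ≠ 10 ∧ Cfsg.Geo.IsNondegenerateOn (QuadraticMap.polar Q) W ∧ H = Cfsg.Geo.subspaceStabilizer W ⊓ Cfsg.Geo.omegaGL Q) ∨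
    (∃ W : Submodule F (Fin 10 → F), Module.finrank F W = 2 ∧ Cfsg.Geo.IsNondegenerateOn (QuadraticMap.polar Q) W ∧ ¬ Cfsg.Geo.IsPlusTypeOn Q W ∧ H = Cfsg.Geo.subspaceStabilizer W ⊓ Cfsg.Geo.omegaGL Q) ∨
    (4 ≤ Fintype.card F ∧ ∃ W : Submodule F (Fin 10 → F), Module.finrank F W = 2 ∧ Cfsg.Geo.IsNondegenerateOn (QuadraticMap.polar Q) W ∧ Cfsg.Geo.IsPlusTypeOn Q W ∧ H = Cfsg.Geo.subspaceStabilizer W ⊓ Cfsg.Geo.omegaGL Q) ∨
    (∃ W : Submodule F (Fin 10 → F), Module.finrank F W = 4 ∧ Cfsg.Geo.IsNondegenerateOn (QuadraticMap.polar Q) W ∧ H = Cfsg.Geo.subspaceStabilizer W ⊓ Cfsg.Geo.omegaGL Q) ∨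
    (¬ Odd (Fintype.card F) ∧ ∃ v : (Fin 10 → F), Q v ≠ 0 ∧ H = Cfsg.Geo.subspaceStabilizer (Submodule.span F {v}) ⊓ Cfsg.Geo.omegaGL Q) ∨
    ((∃ p : ℕ, p.Prime ∧ Fintype.card F = p ∧ (p % 4 = 1)) ∧ ∃ D : Fin 10 → Submodule F (Fin 10 → F), Cfsg.Geo.IsOrthogonalMDecomposition Q 1 D ∧ H = Cfsg.Geo.decompositionStabilizer D ⊓ Cfsg.Geo.omegaGL Q) ∨
    (7 ≤ Fintype.card F ∧ ∃ D : Fin 5 → Submodule F (Fin 10 → F), Cfsg.Geo.IsOrthogonalMDecomposition Q 2 D ∧ H = Cfsg.Geo.decompositionStabilizer D ⊓ Cfsg.Geo.omegaGL Q) ∨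
    (Fintype.card F % 4 = 1 ∧ ∃ D : Fin 2 → Submodule F (Fin 10 → F), Cfsg.Geo.IsOrthogonalMDecomposition Q 5 D ∧ H = Cfsg.Geo.decompositionStabilizer D ⊓ Cfsg.Geo.omegaGL Q) ∨
    (Fintype.card F % 4 = 3 ∧ ∃ D : Fin 2 → Submodule F (Fin 10 → F), Cfsg.Geo.IsNondegenerateMDecomposition (QuadraticMap.polar Q) 5 D ∧ ¬ Cfsg.Geo.AreIsometricFor Q (D 0) (D 1) ∧ H = Cfsg.Geo.decompositionStabilizer D ⊓ Cfsg.Geo.omegaGL Q) ∨
    (Odd (Fintype.card F) ∧ ∃ K : Subalgebra F (Matrix (Fin 10) (Fin 10) F), Cfsg.Geo.IsFieldSubalgebra 2 K ∧ Cfsg.Geo.IsSelfAdjointFor (QuadraticMap.polar Q) K ∧ H = Cfsg.Geo.subalgebraNormalizer K ⊓ Cfsg.Geo.omegaGL Q) ∨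
    (∃ (F₀ : Subfield F) (r : ℕ) (P : Matrix.GeneralLinearGroup (Fin 10) F) (ζ : F), r.Prime ∧ Fintype.card F = Nat.card F₀ ^ r ∧ ζ ≠ 0 ∧ Cfsg.Geo.IsQuadFormRationalStructure (fun v : Fin 10 → F => ζ * Q v) F₀ P ∧ H = Cfsg.Geo.subfieldSubgroup F₀ P ⊓ Cfsg.Geo.omegaGL Q) ∨
    Cfsg.Geo.InOrthogonalResidualClass H := by
  classical
  obtain ⟨q, rfl, hq⟩ := Aschbacher.exists_quad_of_geo hQ
  have hι : Fintype.card (Fin 10) = 2 * 5 := rfl
  have hn : Fintype.card (Fin 10) = 8 ∨ Fintype.card (Fin 10) = 10 ∨ Fintype.card (Fin 10) = 12 := .inr (.inl rfl)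
  have hsqone : (2 : F) ≠ 0 → (IsSquare (-1 : F) → Fintype.card F % 4 = 1) ∧
      (¬ IsSquare (-1 : F) → Fintype.card F % 4 = 3) := fun h2 => by
    have hodd := Nat.odd_iff.1 (Aschbacher.odd_of_two_ne_zero h2)
    rw [FiniteField.isSquare_neg_one_iff]
    exact ⟨fun h => by omega, fun h => by omega⟩
  by_cases hirr : Geo.ActsIrreducibly (Geo.matrixSet H)
  swap
  · rcases Aschbacher.even_reducible hq hι (by omega) hH hirr with ⟨W, hb, hts, hne4, h⟩ |
      ⟨ho, W, hb, ht, hd, hk, hnd, h⟩ | ⟨W, hb, hev, hk, hnd, hp, h⟩ | ⟨hne, v, hv, h⟩ | ⟨D, hD, h⟩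
    · exact .inl ⟨W, hb, hts, fun h4 => hne4 hplus (by omega), h⟩
    · by_cases h5 : Module.finrank F W = 5
      swap
      · exact .inr (.inl ⟨ho, W, hb, ht, hd, by omega, hnd, h⟩)
      have h2 := Orth.two_ne_zero_of_odd_card ho
      obtain ⟨D, -, -, hD, heq⟩ := Aschbacher.pair_decomp hq hn hH hι (Orth.nondegOn_of_geo hnd) h5 h
      have hdisc := Aschbacher.two_halves_disc hq h2 (k := 5) (by decide) hι hD
      by_cases hiso : Geo.AreIsometricFor (⇑q) (D 0) (D 1)
      · have hO : Geo.IsOrthogonalMDecomposition (⇑q) 5 D := ⟨hD, fun i j => by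
          obtain ⟨e, he⟩ := hiso
          fin_cases i <;> fin_cases j
          · exact ⟨LinearEquiv.refl F _, fun w => rfl⟩
          · exact ⟨e, he⟩
          · exact ⟨e.symm, fun w => by rw [← he (e.symm w), LinearEquiv.apply_symm_apply]⟩
          · exact ⟨LinearEquiv.refl F _, fun w => rfl⟩⟩
        exact .inr (.inr (.inr (.inr (.inr (.inr (.inr (.inr (.inl ⟨(hsqone h2).1 ((hdisc.1 hplus).1 hiso), D, hO, heq⟩))))))))
      · exact .inr (.inr (.inr (.inr (.inr (.inr (.inr (.inr (.inr (.inl ⟨(hsqone h2).2 fun hs => hiso ((hdisc.1 hplus).2 hs), D, hD, hiso, heq⟩)))))))))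
    · have hpos : 0 < Module.finrank F W :=
        Nat.pos_of_ne_zero fun h0 => hb (Submodule.finrank_eq_zero.1 h0)
      rcases (show Module.finrank F W = 2 ∨ Module.finrank F W = 4 by rcases hev with ⟨j, hj⟩; omega) with h2 | h4
      · by_cases hpl : Geo.IsPlusTypeOn (⇑q) W
        · exact .inr (.inr (.inr (.inl ⟨hp h2 hpl, W, h2, hnd, hpl, h⟩)))
        · exact .inr (.inr (.inl ⟨W, h2, hnd, hpl, h⟩))
      · exact .inr (.inr (.inr (.inr (.inl ⟨W, h4, hnd, h⟩))))
    · exact .inr (.inr (.inr (.inr (.inr (.inl ⟨hne, v, hv, h⟩)))))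
    · have h2 : (2 : F) ≠ 0 := fun h2 => by
        have := Aschbacher.nd_even h2 (Aschbacher.member_nd hD 0)
        rw [hD.decomp.decomp.finrank_eq] at this
        exact absurd this (by decide)
      have hdisc := Aschbacher.two_halves_disc hq h2 (k := 5) (by decide) hι hD.decomp
      have hiso := hD.isometric 0 1
      have hO := hD
      have heq := h
      exact .inr (.inr (.inr (.inr (.inr (.inr (.inr (.inr (.inl ⟨(hsqone h2).1 ((hdisc.1 hplus).1 hiso), D, hO, heq⟩))))))))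
  rcases Aschbacher.even_structure hq hn hH hirr with hdec | ⟨m, D, hm, hev, -⟩ |
    ⟨r, K, hr, hrn, hr2, hK, hadj, h⟩ | ⟨-, -, e, -⟩ | ⟨-, -, -, e, -⟩ |
    ⟨F₀, r, P, ζ, hr, hrodd, hc, hζ, hst, h⟩ | ⟨h8, -⟩ | h
  · rcases Aschbacher.decomp_ten hq hn hH hirr rfl hdec with ⟨p, hp, hpodd, hpc, hsq, D, hD, h⟩ |
      ⟨h7, h3, D, hD, h⟩ | ⟨h2, hpl, D, hD, h⟩ | ⟨F₀, r, P, ζ, hr, hrodd, hc, hζ, hst, h⟩
    · refine .inr (.inr (.inr (.inr (.inr (.inr (.inl ⟨⟨p, hp, hpc, ?_⟩, D, hD, h⟩))))))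
      rw [show Fintype.card (Fin 10) / 2 = 5 from rfl, Odd.neg_one_pow (by decide : Odd 5),
        FiniteField.isSquare_neg_one_iff, hpc] at hsq
      rw [Nat.odd_iff] at hpodd
      have := hsq.1 hplus
      omega
    · exact .inr (.inr (.inr (.inr (.inr (.inr (.inr (.inl ⟨h7 hplus, D, hD, h⟩)))))))
    · exact .inr (.inr (.inr (.inr (.inr (.inr (.inr (.inr (.inl ⟨(hsqone h2).1 (hpl.1 hplus), D, hD, h⟩))))))))
    · exact .inr (.inr (.inr (.inr (.inr (.inr (.inr (.inr (.inr (.inr (.inr (.inl ⟨F₀, r, P, ζ, hr, hc, hζ, hst, h⟩)))))))))))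
  · exfalso
    rw [Fintype.card_fin] at hm
    rcases hev with ⟨j, hj⟩
    omega
  · obtain rfl : r = 2 := hr2 rfl
    have hadj' : ∀ k ∈ K, Aschbacher.adj (RingHom.id F) (PrimeDim.gramQ q) k ∈ K := hadj (by simp)
    rcases Aschbacher.field_dichotomy hq hK hadj' with hsa | ⟨hnsa, hnorm⟩
    · refine .inr (.inr (.inr (.inr (.inr (.inr (.inr (.inr (.inr (.inr (.inl ⟨?_, K, hK, hsa, h⟩))))))))))
      by_contra hne
      have := Aschbacher.selfadj_char_two hq (Aschbacher.two_zero_of_not_odd hne) hK hsa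
      rw [Fintype.card_fin] at this
      omega
    · exfalso
      refine Aschbacher.conj_field_not_plus hq (m := 4) rfl ⟨2, rfl⟩ hK (fun k hk => ?_) hplus
      obtain ⟨c, -, hc⟩ := Aschbacher.field_similarity hq (by simp) (Aschbacher.le_iso hH.1.le) hirr hK
        (h.le.trans inf_le_left) hnorm k hk
      exact ⟨c, hc⟩
  · exact absurd (Fintype.card_congr e) (by simp)
  · exact absurd (Fintype.card_congr e) (by simp)
  · exact .inr (.inr (.inr (.inr (.inr (.inr (.inr (.inr (.inr (.inr (.inr (.inl ⟨F₀, r, P, ζ, hr, hc, hζ, hst, h⟩)))))))))))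
  · exact absurd h8 (by simp)
  · iterate 12 right
    exact h

end Cfsg.Agent.S5847
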