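import Cfsg.Statements.S5871
import Cfsg.Agent.Lib.Aschbacher.EvenRefine

set_option autoImplicit false
open Cfsg

namespace Cfsg.Agent.S5871

/-- Every maximal subgroup of Ω_12^+(q) is of one of the listed geometric types or lies in the residual class. Let F be a finite field with q elements (characteristic p), Q a non-degenerate quadratic form on F^12 of plus type (Witt index 6: some totally singular 6-space), Ω the commutator subgroup of its isometry group, and H a maximal subgroup of Ω (inside GL_12(F)). Then H is the intersection with Ω of one of: the stabiliser of a non-zero totally singular subspace of dimension ≠ 5; for q odd, the stabiliser of a non-degenerate subspace of odd dimension; the stabiliser of a non-degenerate 2-space of minus type; for q ≥ 4, the stabiliser of a non-degenerate 2-space of plus type; the stabiliser of a non-degenerate 4-space; for q even, the stabiliser of the span of a non-singular vector;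 for q = p an odd prime, the stabiliser of a decomposition into 12 pairwise orthogonal, pairwise isometric non-degenerate 1-spaces; for q ≥ 7, the stabiliser of a decomposition into 6 pairwise orthogonal, pairwise isometric non-degenerate 2-spaces of plus type; for q ≠ 3, the stabiliser of a decomposition into 6 pairwise orthogonal, pairwise isometric non-degenerate 2-spaces of minus type; for q odd with q ≥ 5, the stabiliser of a decomposition into 4 pairwise orthogonal, pairwise isometric non-degenerate 3-spaces; for q ≥ 3, the stabiliser of a decomposition into 3 pairwise orthogonal, pairwise isometric non-degenerate 4-spaces; the stabiliser of a decomposition into 2 pairwise orthogonal, pairwise isometric non-degenerate 6-spaces; of a decomposition into two totally singular 6-spaces; the normaliser of a degree-2 subfield of the matrix algebra; the normaliser of a degree-3 subfield of the matrix algebra; the normaliser of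 a degree-2 subfield K, adjoint-closed but not self-adjoint, acting by similarities of Q; for q ≥ 3, the stabiliser of a tensor decomposition of Q into alternating forms on F^2 and F^6 (Q vanishing on pure tensors); a subfield group (|F| = |F₀|^r, r prime) whose F₀-structure carries a non-zero multiple of Q — or else H lies in the residual class of the orthogonal case (modulo scalars H is almost simple, with absolutely irreducible perfect socle preimage realisable over no proper subfield and fixing no non-degenerate unitary form). -/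
theorem result {F : Type*} [Field F] [Fintype F] (Q : (Fin 12 → F) → F) (hQ : Cfsg.Geo.IsNondegenerateQuadraticForm Q) (hplus : Cfsg.Geo.IsPlusTypeOn Q ⊤) (H : Subgroup (Matrix.GeneralLinearGroup (Fin 12) F)) (hH : Cfsg.Geo.IsMaximalIn (Cfsg.Geo.omegaGL Q) H) :
    (∃ W : Submodule F (Fin 12 → F), W ≠ ⊥ ∧ Cfsg.Geo.IsTotallySingularQuad Q W ∧ Module.finrank F W ≠ 5 ∧ H = Cfsg.Geo.subspaceStabilizer W ⊓ Cfsg.Geo.omegaGL Q) ∨
    (Odd (Fintype.card F) ∧ ∃ W : Submodule F (Fin 12 → F), W ≠ ⊥ ∧ W ≠ ⊤ ∧ Odd (Module.finrank F W) ∧ 2 * Module.finrank F W ≠ 12 ∧ Cfsg.Geo.IsNondegenerateOn (QuadraticMap.polar Q) W ∧ H = Cfsg.Geo.subspaceStabilizer W ⊓ Cfsg.Geo.omegaGL Q) ∨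
    (∃ W : Submodule F (Fin 12 → F), Module.finrank F W = 2 ∧ Cfsg.Geo.IsNondegenerateOn (QuadraticMap.polar Q) W ∧ ¬ Cfsg.Geo.IsPlusTypeOn Q W ∧ H = Cfsg.Geo.subspaceStabilizer W ⊓ Cfsg.Geo.omegaGL Q) ∨
    (4 ≤ Fintype.card F ∧ ∃ W : Submodule F (Fin 12 → F), Module.finrank F W = 2 ∧ Cfsg.Geo.IsNondegenerateOn (QuadraticMap.polar Q) W ∧ Cfsg.Geo.IsPlusTypeOn Q W ∧ H = Cfsg.Geo.subspaceStabilizer W ⊓ Cfsg.Geo.omegaGL Q) ∨
    (∃ W : Submodule F (Fin 12 → F), Module.finrank F W = 4 ∧ Cfsg.Geo.IsNondegenerateOn (QuadraticMap.polar Q) W ∧ H = Cfsg.Geo.subspaceStabilizer W ⊓ Cfsg.Geo.omegaGL Q) ∨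
    (¬ Odd (Fintype.card F) ∧ ∃ v : (Fin 12 → F), Q v ≠ 0 ∧ H = Cfsg.Geo.subspaceStabilizer (Submodule.span F {v}) ⊓ Cfsg.Geo.omegaGL Q) ∨
    ((∃ p : ℕ, p.Prime ∧ Odd p ∧ Fintype.card F = p) ∧ ∃ D : Fin 12 → Submodule F (Fin 12 → F), Cfsg.Geo.IsOrthogonalMDecomposition Q 1 D ∧ H = Cfsg.Geo.decompositionStabilizer D ⊓ Cfsg.Geo.omegaGL Q) ∨
    (7 ≤ Fintype.card F ∧ ∃ D : Fin 6 → Submodule F (Fin 12 → F), Cfsg.Geo.IsOrthogonalMDecomposition Q 2 D ∧ (∀ i, Cfsg.Geo.IsPlusTypeOn Q (D i)) ∧ H = Cfsg.Geo.decompositionStabilizer D ⊓ Cfsg.Geo.omegaGL Q) ∨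
    (Fintype.card F ≠ 3 ∧ ∃ D : Fin 6 → Submodule F (Fin 12 → F), Cfsg.Geo.IsOrthogonalMDecomposition Q 2 D ∧ (∀ i, ¬ Cfsg.Geo.IsPlusTypeOn Q (D i)) ∧ H = Cfsg.Geo.decompositionStabilizer D ⊓ Cfsg.Geo.omegaGL Q) ∨
    (Odd (Fintype.card F) ∧ 5 ≤ Fintype.card F ∧ ∃ D : Fin 4 → Submodule F (Fin 12 → F), Cfsg.Geo.IsOrthogonalMDecomposition Q 3 D ∧ H = Cfsg.Geo.decompositionStabilizer D ⊓ Cfsg.Geo.omegaGL Q) ∨
    (3 ≤ Fintype.card F ∧ ∃ D : Fin 3 → Submodule F (Fin 12 → F), Cfsg.Geo.IsOrthogonalMDecomposition Q 4 D ∧ H = Cfsg.Geo.decompositionStabilizer D ⊓ Cfsg.Geo.omegaGL Q) ∨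
    (∃ D : Fin 2 → Submodule F (Fin 12 → F), Cfsg.Geo.IsOrthogonalMDecomposition Q 6 D ∧ H = Cfsg.Geo.decompositionStabilizer D ⊓ Cfsg.Geo.omegaGL Q) ∨
    (∃ D : Fin 2 → Submodule F (Fin 12 → F), Cfsg.Geo.IsMDecomposition 6 D ∧ (∀ i, Cfsg.Geo.IsTotallySingularQuad Q (D i)) ∧ H = Cfsg.Geo.decompositionStabilizer D ⊓ Cfsg.Geo.omegaGL Q) ∨
    (∃ K : Subalgebra F (Matrix (Fin 12) (Fin 12) F), Cfsg.Geo.IsFieldSubalgebra 2 K ∧ H = Cfsg.Geo.subalgebraNormalizer K ⊓ Cfsg.Geo.omegaGL Q) ∨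
    (∃ K : Subalgebra F (Matrix (Fin 12) (Fin 12) F), Cfsg.Geo.IsFieldSubalgebra 3 K ∧ H = Cfsg.Geo.subalgebraNormalizer K ⊓ Cfsg.Geo.omegaGL Q) ∨
    (∃ K : Subalgebra F (Matrix (Fin 12) (Fin 12) F), Cfsg.Geo.IsFieldSubalgebra 2 K ∧ Cfsg.Geo.IsAdjointClosedFor (QuadraticMap.polar Q) K ∧ ¬ Cfsg.Geo.IsSelfAdjointFor (QuadraticMap.polar Q) K ∧ (∀ k ∈ K, ∃ c : F, ∀ v : (Fin 12 → F), Q (Matrix.mulVec k v) = c * Q v) ∧ H = Cfsg.Geo.subalgebraNormalizer K ⊓ Cfsg.Geo.omegaGL Q) ∨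
    (3 ≤ Fintype.card F ∧ ∃ (e : Fin 12 ≃ Fin 2 × Fin 6) (P : Matrix.GeneralLinearGroup (Fin 12) F) (f₁ : (Fin 2 → F) → (Fin 2 → F) → F) (f₂ : (Fin 6 → F) → (Fin 6 → F) → F), Cfsg.Geo.IsSymplecticForm f₁ ∧ Cfsg.Geo.IsSymplecticForm f₂ ∧ Cfsg.Geo.IsTensorFormStructure id (QuadraticMap.polar Q) f₁ f₂ e P ∧ (∀ (x₁ : Fin 2 → F) (x₂ : Fin 6 → F), Q (Matrix.mulVec (P : Matrix (Fin 12) (Fin 12) F) ((fun a : Fin 2 × Fin 6 => x₁ a.1 * x₂ a.2) ∘ e)) = 0) ∧ H = Cfsg.Geo.tensorProductSubgroup 2 6 e P ⊓ Cfsg.Geo.omegaGL Q) ∨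
    (∃ (F₀ : Subfield F) (r : ℕ) (P : Matrix.GeneralLinearGroup (Fin 12) F) (ζ : F), r.Prime ∧ Fintype.card F = Nat.card F₀ ^ r ∧ ζ ≠ 0 ∧ Cfsg.Geo.IsQuadFormRationalStructure (fun v : Fin 12 → F => ζ * Q v) F₀ P ∧ H = Cfsg.Geo.subfieldSubgroup F₀ P ⊓ Cfsg.Geo.omegaGL Q) ∨
    Cfsg.Geo.InOrthogonalResidualClass H := by
  classical
  obtain ⟨q, rfl, hq⟩ := Aschbacher.exists_quad_of_geo hQ
  have hι : Fintype.card (Fin 12) = 2 * 6 := rfl
  have hn : Fintype.card (Fin 12) = 8 ∨ Fintype.card (Fin 12) = 10 ∨ Fintype.card (Fin 12) = 12 := .inr (.inr rfl)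
  by_cases hirr : Geo.ActsIrreducibly (Geo.matrixSet H)
  swap
  · rcases Aschbacher.even_reducible hq hι (by omega) hH hirr with ⟨W, hb, hts, hne5, h⟩ |
      ⟨ho, W, hb, ht, hd, hk, hnd, h⟩ | ⟨W, hb, hev, hk, hnd, hp, h⟩ | ⟨hne, v, hv, h⟩ | ⟨D, hD, h⟩
    · exact .inl ⟨W, hb, hts, fun h5 => hne5 hplus (by omega), h⟩
    · exact .inr (.inl ⟨ho, W, hb, ht, hd, by rcases hd with ⟨j, hj⟩; omega, hnd, h⟩)
    · have hpos : 0 < Module.finrank F W :=
        Nat.pos_of_ne_zero fun h0 => hb (Submodule.finrank_eq_zero.1 h0)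
      rcases (show Module.finrank F W = 2 ∨ Module.finrank F W = 4 ∨ Module.finrank F W = 6 by
        rcases hev with ⟨j, hj⟩; omega) with h2 | h4 | h6
      · by_cases hpl : Geo.IsPlusTypeOn (⇑q) W
        · exact .inr (.inr (.inr (.inl ⟨hp h2 hpl, W, h2, hnd, hpl, h⟩)))
        · exact .inr (.inr (.inl ⟨W, h2, hnd, hpl, h⟩))
      · exact .inr (.inr (.inr (.inr (.inl ⟨W, h4, hnd, h⟩))))
      · have hW := Orth.nondegOn_of_geo hnd
        obtain ⟨D, hD0, hD1, hD, heq⟩ := Aschbacher.pair_decomp hq hn hH hι hW h6 h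
        have hW' := Orth.perpSub_nondeg hq hW
        have hd' : Module.finrank F (Orth.perpSub q W) = 2 * 3 := by
          rw [Orth.finrank_perpSub hq, h6, Fintype.card_fin]
        have hiso : Geo.AreIsometricFor (⇑q) W (Orth.perpSub q W) := by
          refine Aschbacher.isometric_of_type hW hW' (r := 3) (by omega) hd' (by omega)
            ⟨fun hp => Aschbacher.plus_perp hq hW hp hplus, fun hp => ?_⟩
          have := Aschbacher.plus_perp hq hW' hp hplus
          rwa [Orth.perpSub_perpSub hq] at this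
        have hO : Geo.IsOrthogonalMDecomposition (⇑q) 6 D := ⟨hD, fun i j => by
          obtain ⟨e, he⟩ : Geo.AreIsometricFor (⇑q) (D 0) (D 1) := by rw [hD0, hD1]; exact hiso
          fin_cases i <;> fin_cases j
          · exact ⟨LinearEquiv.refl F _, fun w => rfl⟩
          · exact ⟨e, he⟩
          · exact ⟨e.symm, fun w => by rw [← he (e.symm w), LinearEquiv.apply_symm_apply]⟩
          · exact ⟨LinearEquiv.refl F _, fun w => rfl⟩⟩
        iterate 11 right
        exact .inl ⟨D, hO, heq⟩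
    · exact .inr (.inr (.inr (.inr (.inr (.inl ⟨hne, v, hv, h⟩)))))
    · iterate 11 right
      exact .inl ⟨D, hD, h⟩
  rcases Aschbacher.even_structure hq hn hH hirr with hdec | ⟨m, D, hm, -, -, hD, hts, h⟩ |
    ⟨r, K, hr, hrn, -, hK, -, h⟩ | ⟨hq3, -, e, P, f₁, f₂, hf1, hf2, hT, hpure, h⟩ | ⟨-, -, hm, -⟩ |
    ⟨F₀, r, P, ζ, hr, -, hc, hζ, hst, h⟩ | ⟨h8, -⟩ | h
  · rcases Aschbacher.decomp_twelve hq hn hH hirr rfl hdec with ⟨-, p, hp, hpodd, hpc, -, D, hD, h⟩ |
      ⟨-, h7, D, hD, hpl, h⟩ | ⟨-, h3, D, hD, hmi, h⟩ | ⟨-, hodd, h5, D, hD, h⟩ | ⟨h3, D, hD, -, h⟩ |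
      ⟨-, D, hD, h⟩ | ⟨F₀, r, P, ζ, hr, -, hc, hζ, hst, h⟩
    · iterate 6 right
      exact .inl ⟨⟨p, hp, hpodd, hpc⟩, D, hD, h⟩
    · iterate 7 right
      exact .inl ⟨h7, D, hD, hpl, h⟩
    · iterate 8 right
      exact .inl ⟨h3, D, hD, hmi, h⟩
    · iterate 9 right
      exact .inl ⟨hodd, h5, D, hD, h⟩
    · iterate 10 right
      exact .inl ⟨h3 hplus, D, hD, h⟩
    · iterate 11 right
      exact .inl ⟨D, hD, h⟩
    · iterate 17 right
      exact .inl ⟨F₀, r, P, ζ, hr, hc, hζ, hst, h⟩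
  · obtain rfl : m = 6 := by rw [Fintype.card_fin] at hm; omega
    iterate 12 right
    exact .inl ⟨D, hD, hts, h⟩
  · rw [Fintype.card_fin] at hrn
    have hr' : r = 2 ∨ r = 3 := by
      have := Nat.le_of_dvd (by norm_num) hrn
      have := hr.two_le
      interval_cases r <;> first | omega | (norm_num at hrn; done) | (norm_num at hr; done)
    rcases hr' with rfl | rfl
    · iterate 13 right
      exact .inl ⟨K, hK, h⟩
    · iterate 14 right
      exact .inl ⟨K, hK, h⟩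
  · iterate 16 right
    exact .inl ⟨hq3, e, P, f₁, f₂, hf1, hf2, hT, hpure, h⟩
  · exact absurd hplus hm
  · iterate 17 right
    exact .inl ⟨F₀, r, P, ζ, hr, hc, hζ, hst, h⟩
  · exact absurd h8 (by simp)
  · iterate 18 right
    exact h

end Cfsg.Agent.S5871
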