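import Cfsg.Statements.S5874
import Cfsg.Agent.Lib.Aschbacher.EvenRefine

set_option autoImplicit false
open Cfsg

namespace Cfsg.Agent.S5874

/-- Every maximal subgroup of Ω_12^-(q) is of one of the listed geometric types or lies in the residual class. Let F be a finite field with q elements (characteristic p), Q a non-degenerate quadratic form on F^12 of minus type (Witt index 5: no totally singular 6-space), Ω the commutator subgroup of its isometry group, and H a maximal subgroup of Ω (inside GL_12(F)). Then H is the intersection with Ω of one of: the stabiliser of a non-zero totally singular subspace; for q odd, the stabiliser of a non-degenerate subspace of odd dimension; the stabiliser of a non-degenerate 2-space of minus type; for q ≥ 4, the stabiliser of a non-degenerate 2-space of plus type; the stabiliser of a non-degenerate 4-space; the stabiliser of a non-degenerate 6-space; for q even, the stabiliser of the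 span of a non-singular vector; the stabiliser of a decomposition into 3 pairwise orthogonal, pairwise isometric non-degenerate 4-spaces of minus type; the normaliser of a degree-2 subfield of the matrix algebra; the normaliser of a degree-3 subfield of the matrix algebra; for q odd with q ≥ 5, the stabiliser of a tensor decomposition of the polar form into symmetric forms on F^3 and F^4 (minus type); a subfield group (|F| = |F₀|^r, r odd prime) whose F₀-structure carries a non-zero multiple of Q — or else H lies in the residual class of the orthogonal case (modulo scalars H is almost simple, with absolutely irreducible perfect socle preimage realisable over no proper subfield and fixing no non-degenerate unitary form). -/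
theorem result {F : Type*} [Field F] [Fintype F] (Q : (Fin 12 → F) → F) (hQ : Cfsg.Geo.IsNondegenerateQuadraticForm Q) (hminus : ¬ Cfsg.Geo.IsPlusTypeOn Q ⊤) (H : Subgroup (Matrix.GeneralLinearGroup (Fin 12) F)) (hH : Cfsg.Geo.IsMaximalIn (Cfsg.Geo.omegaGL Q) H) :
    (∃ W : Submodule F (Fin 12 → F), W ≠ ⊥ ∧ Cfsg.Geo.IsTotallySingularQuad Q W ∧ H = Cfsg.Geo.subspaceStabilizer W ⊓ Cfsg.Geo.omegaGL Q) ∨
    (Odd (Fintype.card F) ∧ ∃ W : Submodule F (Fin 12 → F), W ≠ ⊥ ∧ W ≠ ⊤ ∧ Odd (Module.finrank F W) ∧ 2 * Module.finrank F W ≠ 12 ∧ Cfsg.Geo.IsNondegenerateOn (QuadraticMap.polar Q) W ∧ H = Cfsg.Geo.subspaceStabilizer W ⊓ Cfsg.Geo.omegaGL Q) ∨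
    (∃ W : Submodule F (Fin 12 → F), Module.finrank F W = 2 ∧ Cfsg.Geo.IsNondegenerateOn (QuadraticMap.polar Q) W ∧ ¬ Cfsg.Geo.IsPlusTypeOn Q W ∧ H = Cfsg.Geo.subspaceStabilizer W ⊓ Cfsg.Geo.omegaGL Q) ∨
    (4 ≤ Fintype.card F ∧ ∃ W : Submodule F (Fin 12 → F), Module.finrank F W = 2 ∧ Cfsg.Geo.IsNondegenerateOn (QuadraticMap.polar Q) W ∧ Cfsg.Geo.IsPlusTypeOn Q W ∧ H = Cfsg.Geo.subspaceStabilizer W ⊓ Cfsg.Geo.omegaGL Q) ∨
    (∃ W : Submodule F (Fin 12 → F), Module.finrank F W = 4 ∧ Cfsg.Geo.IsNondegenerateOn (QuadraticMap.polar Q) W ∧ H = Cfsg.Geo.subspaceStabilizer W ⊓ Cfsg.Geo.omegaGL Q) ∨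
    (∃ W : Submodule F (Fin 12 → F), Module.finrank F W = 6 ∧ Cfsg.Geo.IsNondegenerateOn (QuadraticMap.polar Q) W ∧ H = Cfsg.Geo.subspaceStabilizer W ⊓ Cfsg.Geo.omegaGL Q) ∨
    (¬ Odd (Fintype.card F) ∧ ∃ v : (Fin 12 → F), Q v ≠ 0 ∧ H = Cfsg.Geo.subspaceStabilizer (Submodule.span F {v}) ⊓ Cfsg.Geo.omegaGL Q) ∨
    (∃ D : Fin 3 → Submodule F (Fin 12 → F), Cfsg.Geo.IsOrthogonalMDecomposition Q 4 D ∧ (∀ i, ¬ Cfsg.Geo.IsPlusTypeOn Q (D i)) ∧ H = Cfsg.Geo.decompositionStabilizer D ⊓ Cfsg.Geo.omegaGL Q) ∨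
    (∃ K : Subalgebra F (Matrix (Fin 12) (Fin 12) F), Cfsg.Geo.IsFieldSubalgebra 2 K ∧ H = Cfsg.Geo.subalgebraNormalizer K ⊓ Cfsg.Geo.omegaGL Q) ∨
    (∃ K : Subalgebra F (Matrix (Fin 12) (Fin 12) F), Cfsg.Geo.IsFieldSubalgebra 3 K ∧ H = Cfsg.Geo.subalgebraNormalizer K ⊓ Cfsg.Geo.omegaGL Q) ∨
    (Odd (Fintype.card F) ∧ 5 ≤ Fintype.card F ∧ ∃ (e : Fin 12 ≃ Fin 3 × Fin 4) (P : Matrix.GeneralLinearGroup (Fin 12) F) (f₁ : (Fin 3 → F) → (Fin 3 → F) → F) (f₂ : (Fin 4 → F) → (Fin 4 → F) → F), Cfsg.Geo.IsSymmetricForm f₁ ∧ Cfsg.Geo.IsSymmetricForm f₂ ∧ ¬ Cfsg.Geo.IsPlusTypeOn (fun v : Fin 4 → F => f₂ v v) ⊤ ∧ Cfsg.Geo.IsTensorFormStructure id (QuadraticMap.polar Q) f₁ f₂ e P ∧ H = Cfsg.Geo.tensorProductSubgroup 3 4 e P ⊓ Cfsg.Geo.omegaGL Q) ∨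
    (∃ (F₀ : Subfield F) (r : ℕ) (P : Matrix.GeneralLinearGroup (Fin 12) F) (ζ : F), r.Prime ∧ Odd r ∧ Fintype.card F = Nat.card F₀ ^ r ∧ ζ ≠ 0 ∧ Cfsg.Geo.IsQuadFormRationalStructure (fun v : Fin 12 → F => ζ * Q v) F₀ P ∧ H = Cfsg.Geo.subfieldSubgroup F₀ P ⊓ Cfsg.Geo.omegaGL Q) ∨
    Cfsg.Geo.InOrthogonalResidualClass H := by
  classical
  obtain ⟨q, rfl, hq⟩ := Aschbacher.exists_quad_of_geo hQ
  have hι : Fintype.card (Fin 12) = 2 * 6 := rfl
  have hn : Fintype.card (Fin 12) = 8 ∨ Fintype.card (Fin 12) = 10 ∨ Fintype.card (Fin 12) = 12 := .inr (.inr rfl)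
  by_cases hirr : Geo.ActsIrreducibly (Geo.matrixSet H)
  swap
  · rcases Aschbacher.even_reducible hq hι (by omega) hH hirr with ⟨W, hb, hts, -, h⟩ |
      ⟨ho, W, hb, ht, hd, hk, hnd, h⟩ | ⟨W, hb, hev, hk, hnd, hp, h⟩ | ⟨hne, v, hv, h⟩ | ⟨D, hD, h⟩
    · exact .inl ⟨W, hb, hts, h⟩
    · exact .inr (.inl ⟨ho, W, hb, ht, hd, by rcases hd with ⟨j, hj⟩; omega, hnd, h⟩)
    · have hpos : 0 < Module.finrank F W :=
        Nat.pos_of_ne_zero fun h0 => hb (Submodule.finrank_eq_zero.1 h0)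
      rcases (show Module.finrank F W = 2 ∨ Module.finrank F W = 4 ∨ Module.finrank F W = 6 by
        rcases hev with ⟨j, hj⟩; omega) with h2 | h4 | h6
      · by_cases hpl : Geo.IsPlusTypeOn (⇑q) W
        · exact .inr (.inr (.inr (.inl ⟨hp h2 hpl, W, h2, hnd, hpl, h⟩)))
        · exact .inr (.inr (.inl ⟨W, h2, hnd, hpl, h⟩))
      · exact .inr (.inr (.inr (.inr (.inl ⟨W, h4, hnd, h⟩))))
      · exact .inr (.inr (.inr (.inr (.inr (.inl ⟨W, h6, hnd, h⟩)))))
    · exact .inr (.inr (.inr (.inr (.inr (.inr (.inl ⟨hne, v, hv, h⟩))))))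
    · exact absurd ((Aschbacher.decomp_type hq hD (by decide) 0).2 (.inl (by decide))) hminus
  rcases Aschbacher.even_structure hq hn hH hirr with hdec | ⟨m, D, -, -, hp, -⟩ |
    ⟨r, K, hr, hrn, -, hK, -, h⟩ | ⟨-, hp, -⟩ | ⟨hodd, h5, -, e, P, f₁, f₂, hf1, hf2, hmi, hT, h⟩ |
    ⟨F₀, r, P, ζ, hr, hrodd, hc, hζ, hst, h⟩ | ⟨h8, -⟩ | h
  · rcases Aschbacher.decomp_twelve hq hn hH hirr rfl hdec with ⟨hp, -⟩ | ⟨hp, -⟩ | ⟨hp, -⟩ | ⟨hp, -⟩ |
      ⟨-, D, hD, hmem, h⟩ | ⟨hp, -⟩ | ⟨F₀, r, P, ζ, hr, hrodd, hc, hζ, hst, h⟩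
    · exact absurd hp hminus
    · exact absurd hp hminus
    · exact absurd hp hminus
    · exact absurd hp hminus
    · iterate 7 right
      exact .inl ⟨D, hD, hmem hminus, h⟩
    · exact absurd hp hminus
    · iterate 11 right
      exact .inl ⟨F₀, r, P, ζ, hr, hrodd hminus, hc, hζ, hst, h⟩
  · exact absurd hp hminus
  · rw [Fintype.card_fin] at hrn
    have hr' : r = 2 ∨ r = 3 := by
      have := Nat.le_of_dvd (by norm_num) hrn
      have := hr.two_le
      interval_cases r <;> first | omega | (norm_num at hrn; done) | (norm_num at hr; done)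
    rcases hr' with rfl | rfl
    · iterate 8 right
      exact .inl ⟨K, hK, h⟩
    · iterate 9 right
      exact .inl ⟨K, hK, h⟩
  · exact absurd hp hminus
  · iterate 10 right
    exact .inl ⟨hodd, h5, e, P, f₁, f₂, hf1, hf2, hmi, hT, h⟩
  · iterate 11 right
    exact .inl ⟨F₀, r, P, ζ, hr, hrodd hminus, hc, hζ, hst, h⟩
  · exact absurd h8 (by simp)
  · iterate 12 right
    exact h

end Cfsg.Agent.S5874
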