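import Cfsg.Statements.S5876
import Cfsg.Agent.EqLemmas

set_option autoImplicit false
open Cfsg

namespace Cfsg.Agent.S5876

open scoped commutatorElement

/-- The group-theoretic core: a "displacement" function that at most doubles under commutators and is
maximal on abelian normal subgroups is never below a quarter of the maximum on a finite soluble group. -/
theorem le_four_mul {Γ : Type*} [Group Γ] [Finite Γ] (hsol : Group.IsSolvable Γ) (f : Γ → ℕ) (n : ℕ)
    (hc : ∀ x y : Γ, f ⁅x, y⁆ ≤ 2 * f x)
    (hA : ∀ A : Subgroup Γ, A.Normal → (∀ a ∈ A, ∀ b ∈ A, a * b = b * a) → ∀ a ∈ A, a ≠ 1 → n ≤ f a)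
    (g : Γ) (hg : g ≠ 1) : n ≤ 4 * f g := by
  by_contra hlt
  let P : Subgroup Γ → Prop := fun A => A.Normal ∧ ∀ a ∈ A, ∀ b ∈ A, a * b = b * a
  obtain ⟨A, ⟨hAn, hAc⟩, hAmax⟩ : ∃ A, P A ∧ ∀ B, P B → A ≤ B → A = B := by
    have hne : {A | P A}.Nonempty := ⟨⊥, inferInstance, fun a ha b hb => by
      simp [Subgroup.mem_bot.1 ha, Subgroup.mem_bot.1 hb]⟩
    obtain ⟨A, hA'⟩ := (Set.toFinite {A | P A}).exists_maximal hne
    exact ⟨A, hA'.1, fun B hB hAB => le_antisymm hAB (hA'.2 hB hAB)⟩
  have small : ∀ a ∈ A, 2 * f g ≥ f a ∨ 4 * f g ≥ f a → a = 1 := by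
    intro a ha h
    by_contra hne
    have := hA A hAn hAc a ha hne
    omega
  have hgA : g ∈ Subgroup.centralizer (A : Set Γ) := by
    rw [Subgroup.mem_centralizer_iff]
    intro a ha
    have hm : ⁅g, a⁆ ∈ A := by
      rw [commutatorElement_def]
      exact A.mul_mem (hAn.conj_mem a ha g) (A.inv_mem ha)
    have := small _ hm (Or.inl (hc g a))
    exact (commutatorElement_eq_one_iff_mul_comm.1 this).symm
  set C := Subgroup.centralizer (A : Set Γ) with hC
  have hAC : A ≤ C := fun a ha => Subgroup.mem_centralizer_iff.2 fun b hb => hAc b hb a ha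
  have hAA : ⁅A, A⁆ ≤ A := by
    rw [Subgroup.commutator_le]
    intro a ha b hb
    rw [commutatorElement_def]
    exact A.mul_mem (A.mul_mem (A.mul_mem ha hb) (A.inv_mem ha)) (A.inv_mem hb)
  let Q : Subgroup Γ → Prop := fun B => B.Normal ∧ A ≤ B ∧ B ≤ C ∧ ⁅B, B⁆ ≤ A
  obtain ⟨B, ⟨hBn, hAB, hBC, hBB⟩, hBmax⟩ : ∃ B, Q B ∧ ∀ B', Q B' → B ≤ B' → B = B' := by
    have hne : {B | Q B}.Nonempty := ⟨A, hAn, le_rfl, hAC, hAA⟩
    obtain ⟨B, hB'⟩ := (Set.toFinite {B | Q B}).exists_maximal hne
    exact ⟨B, hB'.1, fun B' h hle => le_antisymm hle (hB'.2 h hle)⟩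
  set D := Subgroup.centralizer (B : Set Γ) with hD
  have hBD : B ⊓ D = A := by
    refine (hAmax _ ⟨inferInstance, ?_⟩ (le_inf hAB ?_)).symm
    · intro a ha b hb
      exact Subgroup.mem_centralizer_iff.1 (Subgroup.mem_inf.1 hb).2 a (Subgroup.mem_inf.1 ha).1
    · intro a ha
      exact Subgroup.mem_centralizer_iff.2 fun b hb =>
        (Subgroup.mem_centralizer_iff.1 (hBC hb) a ha).symm
  have hgD : g ∈ D := by
    rw [Subgroup.mem_centralizer_iff]
    intro x hx
    have hy : ⁅g, x⁆ ∈ B := by
      rw [commutatorElement_def]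
      exact B.mul_mem (hBn.conj_mem x hx g) (B.inv_mem hx)
    have hyD : ⁅g, x⁆ ∈ D := by
      rw [Subgroup.mem_centralizer_iff]
      intro z hz
      have hm : ⁅⁅g, x⁆, z⁆ ∈ A := hBB (Subgroup.commutator_mem_commutator hy hz)
      have h4 : f ⁅⁅g, x⁆, z⁆ ≤ 4 * f g := by
        have := hc ⁅g, x⁆ z
        have := hc g x
        omega
      exact (commutatorElement_eq_one_iff_mul_comm.1 (small _ hm (Or.inr h4))).symm
    have hmA : ⁅g, x⁆ ∈ A := hBD ▸ Subgroup.mem_inf.2 ⟨hy, hyD⟩
    exact (commutatorElement_eq_one_iff_mul_comm.1 (small _ hmA (Or.inl (hc g x)))).symm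
  have hDC : D ≤ C := Subgroup.centralizer_le hAB
  by_cases hDA : D ≤ A
  · exact hg (small g (hDA hgD) (Or.inr (by omega)))
  let R : Subgroup Γ → Prop := fun N => N.Normal ∧ N ≤ D ∧ ¬ N ≤ A
  obtain ⟨N, ⟨hNn, hND, hNA⟩, hNmin⟩ : ∃ N, R N ∧ ∀ N', R N' → N' ≤ N → N = N' := by
    have hne : {N | R N}.Nonempty := ⟨D, inferInstance, le_rfl, hDA⟩
    obtain ⟨N, hN'⟩ := (Set.toFinite {N | R N}).exists_minimal hne
    exact ⟨N, hN'.1, fun N' h hle => le_antisymm (hN'.2 h hle) hle⟩
  have hNN : ⁅N, N⁆ ≤ A := by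
    by_contra h
    have heq := hNmin ⁅N, N⁆ ⟨inferInstance, (Subgroup.commutator_le_left N N).trans hND, h⟩
      (Subgroup.commutator_le_left N N)
    obtain ⟨k, hk⟩ := hsol.solvable
    have : ∀ j, N ≤ derivedSeries Γ j := by
      intro j
      induction j with
      | zero => simp
      | succ j ih =>
        rw [derivedSeries_succ]
        exact heq.le.trans (Subgroup.commutator_mono ih ih)
    exact hNA ((this k).trans (hk ▸ bot_le))
  set π : Γ →* Γ ⧸ A := QuotientGroup.mk' A
  let K : Subgroup Γ → Subgroup Γ := fun S => (Subgroup.centralizer ((S.map π : Subgroup _) : Set (Γ ⧸ A))).comap π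
  have hK : ∀ S T : Subgroup Γ, S ≤ K T ↔ ⁅S, T⁆ ≤ A := by
    intro S T
    rw [Subgroup.commutator_le]
    refine forall₂_congr fun s hs => ?_
    simp only [K, Subgroup.mem_comap, Subgroup.mem_centralizer_iff, Subgroup.coe_map, Set.forall_mem_image]
    refine forall₂_congr fun t ht => ?_
    rw [← (QuotientGroup.eq_one_iff _), ← QuotientGroup.mk'_apply (N := A), map_commutatorElement,
      commutatorElement_eq_one_iff_mul_comm, eq_comm]
  have hBN : ⁅B, N⁆ ≤ A := by
    rw [Subgroup.commutator_le]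
    intro b hb x hx
    rw [commutatorElement_eq_one_iff_mul_comm.2 (Subgroup.mem_centralizer_iff.1 (hND hx) b hb)]
    exact A.one_mem
  have hsup : ⁅B ⊔ N, B ⊔ N⁆ ≤ A := by
    have h1 : ⁅B ⊔ N, B⁆ ≤ A :=
      (hK _ _).1 (sup_le ((hK _ _).2 hBB) ((hK _ _).2 (by rw [Subgroup.commutator_comm]; exact hBN)))
    have h2 : ⁅B ⊔ N, N⁆ ≤ A := (hK _ _).1 (sup_le ((hK _ _).2 hBN) ((hK _ _).2 hNN))
    rw [Subgroup.commutator_comm] at h1 h2
    exact (hK _ _).1 (sup_le ((hK _ _).2 h1) ((hK _ _).2 h2))
  have := hBmax (B ⊔ N) ⟨inferInstance, hAB.trans le_sup_left, sup_le hBC (hND.trans hDC), hsup⟩ le_sup_left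
  exact hNA (fun x hx => hBD ▸ Subgroup.mem_inf.2 ⟨this ▸ (le_sup_right : N ≤ B ⊔ N) hx, hND hx⟩)

section Linear

variable {F : Type*} [Field F] {n : ℕ}

/-- A matrix group element as an endomorphism. -/
noncomputable def rho : Matrix.GeneralLinearGroup (Fin n) F →* Module.End F (Fin n → F) where
  toFun g := Matrix.toLin' (g : Matrix (Fin n) (Fin n) F)
  map_one' := by simp [Matrix.toLin'_one]; rfl
  map_mul' a b := by rw [Units.val_mul, Matrix.toLin'_mul]; rfl

/-- The rank of `g - 1`. -/
noncomputable def disp (g : Matrix.GeneralLinearGroup (Fin n) F) : ℕ :=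
  Module.finrank F (LinearMap.range (rho g - 1))

theorem rho_injective : Function.Injective (rho (F := F) (n := n)) := by
  intro a b h
  exact Units.ext (Matrix.toLin'.injective h)

theorem range_rho (g : Matrix.GeneralLinearGroup (Fin n) F) : LinearMap.range (rho g) = ⊤ :=
  LinearMap.range_eq_top.2 fun v => ⟨rho g⁻¹ v, by
    rw [← Module.End.mul_apply, ← map_mul, mul_inv_cancel, map_one, Module.End.one_apply]⟩

theorem finrank_range_comp_le (u v : Module.End F (Fin n → F)) :
    Module.finrank F (LinearMap.range (u * v)) ≤ Module.finrank F (LinearMap.range v) := by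
  rw [Module.End.mul_eq_comp, LinearMap.range_comp]
  exact Submodule.finrank_map_le _ _

theorem disp_mul_le (a b : Matrix.GeneralLinearGroup (Fin n) F) : disp (a * b) ≤ disp a + disp b := by
  have h : rho (a * b) - 1 = rho a * (rho b - 1) + (rho a - 1) := by rw [map_mul, mul_sub, mul_one]; abel
  unfold disp
  rw [h]
  refine (Submodule.finrank_mono (LinearMap.range_add_le _ _)).trans ?_
  refine (Submodule.finrank_add_le_finrank_add_finrank _ _).trans ?_
  have := finrank_range_comp_le (rho a) (rho b - 1)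
  omega

theorem disp_conj (h g : Matrix.GeneralLinearGroup (Fin n) F) : disp (h * g * h⁻¹) ≤ disp g := by
  have e : rho (h * g * h⁻¹) - 1 = rho h * ((rho g - 1) * rho h⁻¹) := by
    rw [map_mul, map_mul, sub_mul, one_mul, mul_sub, ← map_mul rho h h⁻¹, mul_inv_cancel, map_one, mul_assoc]
  unfold disp
  rw [e]
  refine (finrank_range_comp_le _ _).trans (Submodule.finrank_mono ?_)
  rw [Module.End.mul_eq_comp]
  exact LinearMap.range_comp_le_range _ _

theorem disp_inv (g : Matrix.GeneralLinearGroup (Fin n) F) : disp g⁻¹ ≤ disp g := by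
  have e : rho g⁻¹ - 1 = rho g⁻¹ * (1 - rho g) := by
    rw [mul_sub, mul_one, ← map_mul, inv_mul_cancel, map_one]
  unfold disp
  rw [e]
  refine (finrank_range_comp_le _ _).trans (le_of_eq ?_)
  rw [← neg_sub, LinearMap.range_neg]

theorem disp_commutator (x y : Matrix.GeneralLinearGroup (Fin n) F) : disp ⁅x, y⁆ ≤ 2 * disp x := by
  rw [commutatorElement_def, show x * y * x⁻¹ * y⁻¹ = x * (y * x⁻¹ * y⁻¹) by group]
  have := disp_mul_le x (y * x⁻¹ * y⁻¹)
  have := disp_conj y x⁻¹
  have := disp_inv x
  omega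

/-- A finite monoid element has an idempotent positive power. -/
theorem exists_idem_pow {M : Type*} [Monoid M] [Finite M] (x : M) :
    ∃ m : ℕ, 0 < m ∧ IsIdempotentElem (x ^ m) := by
  obtain ⟨i, j, hne, h⟩ := Finite.exists_ne_map_eq_of_infinite fun k : ℕ => x ^ k
  wlog hij : i < j generalizing i j
  · exact this j i hne.symm h.symm (by omega)
  set d := j - i with hd
  have hper : ∀ k, i ≤ k → x ^ (k + d) = x ^ k := by
    intro k hk
    obtain ⟨l, rfl⟩ := Nat.exists_eq_add_of_le hk
    have h' : x ^ (i + d) = x ^ i := by rw [show i + d = j by omega]; exact h.symm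
    rw [show i + l + d = i + d + l by omega, pow_add, h', ← pow_add]
  have hperk : ∀ c k, i ≤ k → x ^ (k + c * d) = x ^ k := by
    intro c
    induction c with
    | zero => simp
    | succ c ih =>
      intro k hk
      rw [Nat.succ_mul, ← Nat.add_assoc, hper _ (by omega), ih k hk]
  refine ⟨(i + 1) * d, Nat.mul_pos (by omega) (by omega), ?_⟩
  have hid : i ≤ (i + 1) * d := le_trans (by omega) (Nat.le_mul_of_pos_right _ (by omega))
  show x ^ _ * x ^ _ = _
  rw [← pow_add, hperk (i + 1) _ hid]

/-- In an irreducible primitive group the non-trivial elements of abelian normal subgroups have no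
non-zero fixed vectors. -/
theorem disp_eq_of_abelian_normal [Finite F] (G : Subgroup (Matrix.GeneralLinearGroup (Fin n) F))
    (hirr : Cfsg.Geo.ActsIrreducibly (Cfsg.Geo.matrixSet G))
    (hprim : ∀ (m t : ℕ) (D : Fin t → Submodule F (Fin n → F)), 2 ≤ t → Cfsg.Geo.IsMDecomposition m D →
      ¬ G ≤ Cfsg.Geo.decompositionStabilizer D)
    (A : Subgroup G) (hAn : A.Normal) (hAc : ∀ a ∈ A, ∀ b ∈ A, a * b = b * a)
    (a : G) (ha : a ∈ A) (ha1 : a ≠ 1) : n ≤ disp (a : Matrix.GeneralLinearGroup (Fin n) F) := by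
  classical
  haveI : Finite (Module.End F (Fin n → F)) := Finite.of_injective _ DFunLike.coe_injective
  let ψ : G →* Module.End F (Fin n → F) := rho.comp G.subtype
  have hψi : ∀ h : G, ψ h * ψ h⁻¹ = 1 := fun h => by rw [← map_mul, mul_inv_cancel, map_one]
  have hψi' : ∀ h : G, ψ h⁻¹ * ψ h = 1 := fun h => by rw [← map_mul, inv_mul_cancel, map_one]
  let S : Set (Module.End F (Fin n → F)) := ψ '' A
  let R := Subalgebra.centralizer F ((Subalgebra.centralizer F S : Subalgebra F _) : Set (Module.End F (Fin n → F)))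
  have memC : ∀ y, y ∈ Subalgebra.centralizer F S ↔ ∀ b ∈ A, ψ b * y = y * ψ b := by
    intro y
    rw [Subalgebra.mem_centralizer_iff]
    simp only [S, Set.forall_mem_image, SetLike.mem_coe]
  have memR : ∀ x, x ∈ R ↔ ∀ y, y ∈ Subalgebra.centralizer F S → y * x = x * y := by
    intro x
    exact Subalgebra.mem_centralizer_iff (R := F)
  have hSR : ∀ b ∈ A, ψ b ∈ R := fun b hb => (memR _).2 fun y hy => ((memC y).1 hy b hb).symm
  have hRC : ∀ x ∈ R, x ∈ Subalgebra.centralizer F S := by
    intro x hx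
    refine (memC x).2 fun b hb => (memR x).1 hx _ ((memC _).2 fun c hc => ?_)
    rw [← map_mul, ← map_mul, hAc c hc b hb]
  have hcomm : ∀ x ∈ R, ∀ y ∈ R, x * y = y * x := fun x hx y hy => (memR y).1 hy x (hRC x hx)
  let c : G → Module.End F (Fin n → F) → Module.End F (Fin n → F) := fun h x => ψ h * x * ψ h⁻¹
  have cmul : ∀ h x y, c h x * c h y = c h (x * y) := by
    intro h x y
    calc ψ h * x * ψ h⁻¹ * (ψ h * y * ψ h⁻¹) = ψ h * x * (ψ h⁻¹ * ψ h) * y * ψ h⁻¹ := by
          simp only [mul_assoc]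
      _ = _ := by rw [hψi']; simp [c, mul_assoc]
  have ccomp : ∀ h k x, c h (c k x) = c (h * k) x := by
    intro h k x
    simp [c, mul_inv_rev, mul_assoc]
  have cone : ∀ x, c 1 x = x := by intro x; simp [c]
  have cpow : ∀ h x (k : ℕ), c h (x ^ (k + 1)) = c h x ^ (k + 1) := by
    intro h x k
    induction k with
    | zero => simp
    | succ k ih => rw [pow_succ (c h x), ← ih, cmul, ← pow_succ]
  have cR : ∀ h, ∀ x ∈ R, c h x ∈ R := by
    intro h x hx
    rw [memR]
    intro y hy
    have hy' : c h⁻¹ y ∈ Subalgebra.centralizer F S := by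
      refine (memC _).2 fun b hb => ?_
      have hb' : h * b * h⁻¹ ∈ A := hAn.conj_mem b hb h
      have e : c h⁻¹ (ψ (h * b * h⁻¹)) = ψ b := by
        simp only [c, ← map_mul]
        congr 1
        group
      rw [← e, cmul, cmul, (memC y).1 hy _ hb']
    have h2 := (memR x).1 hx _ hy'
    have := congrArg (c h) h2
    rw [← cmul h (c h⁻¹ y) x, ← cmul h x (c h⁻¹ y), ccomp, mul_inv_cancel, cone] at this
    exact this
  have move : ∀ h x w, x (ψ h w) = ψ h (c h⁻¹ x w) := by
    intro h x w
    have : x * ψ h = ψ h * c h⁻¹ x := by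
      simp only [c, inv_inv, ← mul_assoc, hψi, one_mul]
    exact LinearMap.congr_fun this w
  have invariant_eq : ∀ W : Submodule F (Fin n → F), (∀ h : G, ∀ w ∈ W, ψ h w ∈ W) → W = ⊥ ∨ W = ⊤ := by
    intro W hW
    refine hirr W ?_
    rintro s ⟨h, hh, rfl⟩
    rw [Submodule.map_le_iff_le_comap]
    intro w hw
    exact hW ⟨h, hh⟩ w hw
  -- no nilpotent elements
  have hred : ∀ r ∈ R, IsNilpotent r → r = 0 := by
    intro r hr hnil
    by_contra hr0
    have main : ∀ s : Finset (Module.End F (Fin n → F)), (∀ x ∈ s, x ∈ R ∧ IsNilpotent x) →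
        ∃ v : Fin n → F, v ≠ 0 ∧ ∀ x ∈ s, x v = 0 := by
      intro s
      induction s using Finset.induction_on with
      | empty =>
        intro _
        rcases Nat.eq_zero_or_pos n with hn | hn
        · exact absurd (LinearMap.ext fun v => funext fun i => absurd i.2 (by omega)) hr0
        · exact ⟨fun _ => 1, fun h => one_ne_zero (congrFun h ⟨0, hn⟩), by simp⟩
      | insert x s _ ih =>
        intro hs
        obtain ⟨v, hv, hsv⟩ := ih fun y hy => hs y (Finset.mem_insert_of_mem hy)
        obtain ⟨hxR, N, hN⟩ := hs x (Finset.mem_insert_self x s)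
        have hex : ∃ k, (x ^ k) v = 0 := ⟨N, by rw [hN]; rfl⟩
        have hk : Nat.find hex ≠ 0 := fun h0 => hv (by
          have := Nat.find_spec hex
          rw [h0] at this
          simpa using this)
        obtain ⟨k, hk'⟩ := Nat.exists_eq_succ_of_ne_zero hk
        have hz : (x ^ (k + 1)) v = 0 := by
          have := Nat.find_spec hex
          rwa [hk'] at this
        refine ⟨(x ^ k) v, Nat.find_min hex (by omega), fun y hy => ?_⟩
        rcases Finset.mem_insert.1 hy with rfl | hy'
        · rw [← Module.End.mul_apply, ← pow_succ', hz]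
        · rw [← Module.End.mul_apply, hcomm y (hs y hy).1 _ (pow_mem hxR k), Module.End.mul_apply,
            hsv y hy', map_zero]
    let T : Set (Module.End F (Fin n → F)) := {x | x ∈ R ∧ IsNilpotent x}
    let W : Submodule F (Fin n → F) := ⨅ x ∈ T, LinearMap.ker x
    have memW : ∀ v, v ∈ W ↔ ∀ x ∈ T, x v = 0 := by
      intro v; simp [W, Submodule.mem_iInf]
    rcases invariant_eq W (fun h w hw => (memW _).2 fun x hx => by
        have : c h⁻¹ x ∈ T := by
          obtain ⟨N, hN⟩ := hx.2
          refine ⟨cR _ x hx.1, N + 1, ?_⟩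
          rw [← cpow, pow_succ, hN]
          simp [c]
        rw [move, (memW w).1 hw _ this, map_zero]) with hW | hW
    · obtain ⟨v, hv, hTv⟩ := main (Set.toFinite T).toFinset fun x hx => (Set.Finite.mem_toFinset (Set.toFinite T)).1 hx
      have : v ∈ W := (memW v).2 fun x hx => hTv x ((Set.Finite.mem_toFinset (Set.toFinite T)).2 hx)
      rw [hW, Submodule.mem_bot] at this
      exact hv this
    · exact hr0 (LinearMap.ext fun v => (memW v).1 (hW ▸ Submodule.mem_top) r ⟨hr, hnil⟩)
  -- no non-trivial idempotents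
  let I : Set (Module.End F (Fin n → F)) := {e | e ∈ R ∧ IsIdempotentElem e}
  have hImul : ∀ e ∈ I, ∀ f ∈ I, e * f ∈ I := fun e he f hf =>
    ⟨mul_mem he.1 hf.1, IsIdempotentElem.mul_of_commute (hcomm e he.1 f hf.1) he.2 hf.2⟩
  have cI : ∀ h, ∀ e ∈ I, c h e ∈ I := fun h e he =>
    ⟨cR h e he.1, show _ * _ = _ by rw [cmul, he.2.eq]⟩
  have hidem : ∀ f ∈ I, f = 0 ∨ f = 1 := by
    intro f hf
    by_contra hne
    push Not at hne
    -- an atom: the one with the least rank
    obtain ⟨e, ⟨heI, he0⟩, hemin⟩ := ({e | e ∈ I ∧ e ≠ 0} : Set _).toFinite.exists_minimalFor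
      (fun e : Module.End F (Fin n → F) => Module.finrank F (LinearMap.range e)) _ ⟨f, hf, hne.1⟩
    have atom : ∀ f ∈ I, e * f = 0 ∨ e * f = e := by
      intro f hf
      by_contra h
      push Not at h
      have hle : LinearMap.range (e * f) ≤ LinearMap.range e := by
        rw [Module.End.mul_eq_comp]; exact LinearMap.range_comp_le_range _ _
      have hfin := hemin (j := e * f) ⟨hImul e heI f hf, h.1⟩ (Submodule.finrank_mono hle)
      have heq := Submodule.eq_of_le_of_finrank_le hle hfin
      apply h.2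
      refine LinearMap.ext fun v => ?_
      obtain ⟨u, hu⟩ : e v ∈ LinearMap.range (e * f) := heq ▸ LinearMap.mem_range_self e v
      have h1 : (e * f) * e = e * f := by
        rw [mul_assoc, hcomm f hf.1 e heI.1, ← mul_assoc, heI.2.eq]
      calc (e * f) v = ((e * f) * e) v := by rw [h1]
        _ = (e * f) ((e * f) u) := by rw [Module.End.mul_apply, hu]
        _ = (e * f) u := by rw [← Module.End.mul_apply, (hImul e heI f hf).2.eq]
        _ = e v := hu
    have atom_c : ∀ h, ∀ f ∈ I, c h e * f = 0 ∨ c h e * f = c h e := by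
      intro h f hf
      rcases atom _ (cI h⁻¹ f hf) with h1 | h1
      · left
        have := congrArg (c h) h1
        rw [← cmul, ccomp, mul_inv_cancel, cone] at this
        simpa [c] using this
      · right
        have := congrArg (c h) h1
        rwa [← cmul, ccomp, mul_inv_cancel, cone] at this
    let O : Finset (Module.End F (Fin n → F)) := (Set.toFinite (Set.range fun h : G => c h e)).toFinset
    have memO : ∀ x, x ∈ O ↔ ∃ h, c h e = x := by intro x; simp [O]
    have OI : ∀ x ∈ O, x ∈ I := by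
      intro x hx; obtain ⟨h, rfl⟩ := (memO x).1 hx; exact cI h e heI
    have Oorth : ∀ x ∈ O, ∀ y ∈ O, x ≠ y → x * y = 0 := by
      intro x hx y hy hxy
      obtain ⟨h, rfl⟩ := (memO x).1 hx
      obtain ⟨k, rfl⟩ := (memO y).1 hy
      rcases atom_c h _ (cI k e heI) with h1 | h1
      · exact h1
      rcases atom_c k _ (cI h e heI) with h2 | h2
      · rw [hcomm _ (cI h e heI).1 _ (cI k e heI).1, h2]
      · exact absurd (by rw [← h1, hcomm _ (cI h e heI).1 _ (cI k e heI).1, h2]) hxy
    let s := ∑ x ∈ O, x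
    have hxs : ∀ x ∈ O, x * s = x := by
      intro x hx
      rw [Finset.mul_sum, Finset.sum_eq_single x (fun y hy hyx => Oorth x hx y hy hyx.symm)
        (fun h => absurd hx h)]
      exact (OI x hx).2.eq
    have hsinv : ∀ h w, ψ h (s w) = s (ψ h w) := by
      intro h w
      have : ψ h * s = s * ψ h := by
        rw [Finset.mul_sum, Finset.sum_mul]
        refine Finset.sum_bij' (fun x _ => c h x) (fun x _ => c h⁻¹ x) ?_ ?_ ?_ ?_ ?_
        · intro x hx; obtain ⟨k, rfl⟩ := (memO x).1 hx; exact (memO _).2 ⟨h * k, (ccomp h k e).symm⟩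
        · intro x hx; obtain ⟨k, rfl⟩ := (memO x).1 hx; exact (memO _).2 ⟨h⁻¹ * k, (ccomp h⁻¹ k e).symm⟩
        · intro x _; rw [ccomp, inv_mul_cancel, cone]
        · intro x _; rw [ccomp, mul_inv_cancel, cone]
        · intro x _; simp only [c, mul_assoc, hψi', mul_one]
      exact LinearMap.congr_fun this w
    have hs1 : s = 1 := by
      rcases invariant_eq (LinearMap.range s) (by
        rintro h w ⟨u, rfl⟩; exact ⟨ψ h u, (hsinv h u).symm⟩) with h | h
      · exfalso
        apply he0
        have hz : s = 0 := LinearMap.range_eq_bot.1 h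
        have := hxs e ((memO e).2 ⟨1, cone e⟩)
        rw [hz, mul_zero] at this
        exact this.symm
      · refine LinearMap.ext fun v => ?_
        obtain ⟨u, rfl⟩ : v ∈ LinearMap.range s := h ▸ Submodule.mem_top
        have : s * s = s := by
          calc s * s = ∑ x ∈ O, x * s := Finset.sum_mul _ _ _
            _ = s := Finset.sum_congr rfl hxs
        rw [← Module.End.mul_apply, this]; rfl
    let ι := O.equivFin
    let D : Fin O.card → Submodule F (Fin n → F) := fun i => LinearMap.range (ι.symm i : Module.End F (Fin n → F))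
    have heO : e ∈ O := (memO e).2 ⟨1, cone e⟩
    have hrank : ∀ x ∈ O, Module.finrank F (LinearMap.range x) = Module.finrank F (LinearMap.range e) := by
      intro x hx
      obtain ⟨h, rfl⟩ := (memO x).1 hx
      have key : ∀ k y, Module.finrank F (LinearMap.range (c k y)) ≤ Module.finrank F (LinearMap.range y) := by
        intro k y
        refine le_trans ?_ (finrank_range_comp_le (ψ k) y)
        exact Submodule.finrank_mono (by rw [Module.End.mul_eq_comp]; exact LinearMap.range_comp_le_range _ _)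
      refine le_antisymm (key h e) ?_
      have := key h⁻¹ (c h e)
      rwa [ccomp, inv_mul_cancel, cone] at this
    have hO2 : 2 ≤ O.card := by
      by_contra hlt
      have h1 : O = {e} := Finset.eq_singleton_iff_unique_mem.2
        ⟨heO, fun x hx => Finset.card_le_one.1 (by omega) x hx e heO⟩
      have he1 : e = 1 := by
        rw [← hs1]; show e = ∑ x ∈ O, x
        rw [h1, Finset.sum_singleton]
      rcases atom f hf with h | h <;> rw [he1, one_mul] at h
      · exact hne.1 h
      · exact hne.2 h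
    have hdec : Cfsg.Geo.IsMDecomposition (Module.finrank F (LinearMap.range e)) D := by
      refine ⟨hO2, ?_, fun i => hrank _ (ι.symm i).2, ?_, ?_⟩
      · refine Nat.pos_of_ne_zero fun h => he0 ?_
        exact LinearMap.range_eq_bot.1 (Submodule.finrank_eq_zero.1 h)
      · intro i
        rw [disjoint_iff_inf_le]
        rintro v ⟨hv1, hv2⟩
        have hle : (⨆ j ≠ i, D j) ≤ LinearMap.ker (ι.symm i : Module.End F (Fin n → F)) := by
          refine iSup₂_le fun j hj => ?_
          rintro _ ⟨u, rfl⟩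
          rw [LinearMap.mem_ker, ← Module.End.mul_apply, Oorth _ (ι.symm i).2 _ (ι.symm j).2
            (fun h => hj (ι.symm.injective (Subtype.ext h.symm)))]
          rfl
        obtain ⟨u, rfl⟩ := hv1
        have := hle hv2
        rw [LinearMap.mem_ker, ← Module.End.mul_apply, (OI _ (ι.symm i).2).2.eq] at this
        rw [this]
        exact Submodule.zero_mem _
      · rw [eq_top_iff]
        intro v _
        have : v = ∑ x ∈ O, x v := by
          conv_lhs => rw [show v = s v by rw [hs1]; rfl]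
          exact LinearMap.sum_apply _ _ _
        rw [this]
        refine Submodule.sum_mem _ fun x hx => Submodule.mem_iSup_of_mem (ι ⟨x, hx⟩) ?_
        simp [D]
    refine hprim _ _ D hO2 hdec fun h hh => ?_
    have hmem : ∀ x : {x // x ∈ O}, c ⟨h, hh⟩ x ∈ O := by
      intro x; obtain ⟨k, hk⟩ := (memO x.1).1 x.2
      exact (memO _).2 ⟨⟨h, hh⟩ * k, by rw [← ccomp, hk]⟩
    have hmem' : ∀ x : {x // x ∈ O}, c (⟨h, hh⟩ : G)⁻¹ x ∈ O := by
      intro x; obtain ⟨k, hk⟩ := (memO x.1).1 x.2
      exact (memO _).2 ⟨(⟨h, hh⟩ : G)⁻¹ * k, by rw [← ccomp, hk]⟩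
    let σ : {x // x ∈ O} ≃ {x // x ∈ O} :=
      { toFun := fun x => ⟨_, hmem x⟩
        invFun := fun x => ⟨_, hmem' x⟩
        left_inv := fun x => Subtype.ext (by simp only [ccomp, inv_mul_cancel, cone])
        right_inv := fun x => Subtype.ext (by simp only [ccomp, mul_inv_cancel, cone]) }
    refine ⟨(ι.symm.trans σ).trans ι, fun i => ?_⟩
    show (LinearMap.range (ι.symm i : Module.End F (Fin n → F))).map (rho h) = _
    simp only [D, Equiv.trans_apply, Equiv.symm_apply_apply]
    show _ = LinearMap.range (ψ ⟨h, hh⟩ * (ι.symm i : Module.End F (Fin n → F)) * ψ (⟨h, hh⟩ : G)⁻¹)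
    rw [← LinearMap.range_comp, Module.End.mul_eq_comp, Module.End.mul_eq_comp,
      LinearMap.range_comp_of_range_eq_top _
        (show LinearMap.range (ψ (⟨h, hh⟩ : G)⁻¹) = ⊤ from range_rho _)]
    rfl
  -- hence the difference with the identity is surjective
  set x := ψ a - 1 with hx
  have hxR : x ∈ R := sub_mem (hSR a ha) (one_mem R)
  obtain ⟨m, hm, hidm⟩ := exists_idem_pow x
  rcases hidem (x ^ m) ⟨pow_mem hxR m, hidm⟩ with h | h
  · exact absurd (Subtype.ext (rho_injective (by
      have := hred x hxR ⟨m, h⟩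
      rw [hx, sub_eq_zero] at this
      simpa [ψ] using this))) ha1
  · obtain ⟨k, rfl⟩ := Nat.exists_eq_succ_of_ne_zero (by omega : m ≠ 0)
    have : LinearMap.range x = ⊤ := LinearMap.range_eq_top.2 fun v => ⟨(x ^ k) v, by
      rw [← Module.End.mul_apply, ← pow_succ', h]; rfl⟩
    show n ≤ Module.finrank F (LinearMap.range x)
    rw [this, finrank_top, Module.finrank_fin_fun]

end Linear


/-- Fixed-point spaces in primitive soluble linear groups. Let F be a finite field and G a soluble subgroup of GL_n(F) that acts irreducibly on F^n and primitively (G preserves no decomposition of F^n into two or more independent subspaces of equal dimension). Then every non-identity element g of G has fixed-point space {v : g v = v} of dimension at most 3n/4. -/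
theorem result {F : Type*} [Field F] [Fintype F] {n : ℕ} (G : Subgroup (Matrix.GeneralLinearGroup (Fin n) F)) (hsol : IsSolvable G) (hirr : Cfsg.Geo.ActsIrreducibly (Cfsg.Geo.matrixSet G)) (hprim : ∀ (m t : ℕ) (D : Fin t → Submodule F (Fin n → F)), 2 ≤ t → Cfsg.Geo.IsMDecomposition m D → ¬ G ≤ Cfsg.Geo.decompositionStabilizer D) (g : Matrix.GeneralLinearGroup (Fin n) F) (hg : g ∈ G) (hg1 : g ≠ 1) :
    4 * Module.finrank F (Module.End.eigenspace (Matrix.toLin' (g : Matrix (Fin n) (Fin n) F)) 1) ≤ 3 * n := by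
  have key := le_four_mul (Γ := G) hsol (fun x => disp (x : Matrix.GeneralLinearGroup (Fin n) F)) n
    (fun x y => by
      simp only [commutatorElement_def, Subgroup.coe_mul, Subgroup.coe_inv]
      exact commutatorElement_def (x : Matrix.GeneralLinearGroup (Fin n) F) y ▸ disp_commutator _ _)
    (fun A hAn hAc => disp_eq_of_abelian_normal G hirr hprim A hAn hAc) ⟨g, hg⟩
    (fun h => hg1 (congrArg Subtype.val h))
  have hrn := LinearMap.finrank_range_add_finrank_ker (rho g - 1)
  rw [Module.finrank_fin_fun] at hrn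
  have he : Module.End.eigenspace (Matrix.toLin' (g : Matrix (Fin n) (Fin n) F)) 1 = LinearMap.ker (rho g - 1) := by
    rw [Module.End.eigenspace_def, one_smul]
    rfl
  rw [he]
  simp only [disp] at key
  omega

end Cfsg.Agent.S5876
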