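import Cfsg.Statements.S5877
import Cfsg.Agent.Lib.EigenBound.Extraspecial

set_option autoImplicit false
open Cfsg
open scoped commutatorElement

namespace Cfsg.Agent.S5877

/-- Eigenspaces of elements normalising an absolutely irreducible extraspecial group. Let F be a finite field, r a prime, and R ≤ GL_n(F) an absolutely irreducible extraspecial r-group (an r-group whose centre equals its derived subgroup and has order r) of exponent r or 4. Let g ∈ GL_n(F) normalise the product of R with the scalar matrices, have prime order ϖ and not be scalar, and let W be the eigenspace of g for any c ∈ F (W may be the zero subspace). Then dim W ≤ 3n/4 if ϖ = 2, dim W ≤ 2n/3 if ϖ = 3, and dim W ≤ n/2 if ϖ > 3; moreover if ϖ = 3 and 3 does not divide n then dim W ≤ n/2. -/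
theorem result {F : Type*} [Field F] [Fintype F] {n r ϖ : ℕ} (R : Subgroup (Matrix.GeneralLinearGroup (Fin n) F)) (hr : r.Prime) (hR : IsPGroup r R) (hZ : Nat.card (Subgroup.center R) = r) (hext : commutator R = Subgroup.center R) (hexp : Monoid.exponent R = r ∨ Monoid.exponent R = 4) (hirr : Cfsg.Geo.ActsAbsolutelyIrreducibly (Cfsg.Geo.matrixSet R)) (g : Matrix.GeneralLinearGroup (Fin n) F) (hg : g ∈ Cfsg.Geo.subgroupNormalizer (R ⊔ Cfsg.Geo.scalars (Fin n) F)) (hϖ : ϖ.Prime) (hord : orderOf g = ϖ) (hns : g ∉ Cfsg.Geo.scalars (Fin n) F) (c : F) :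
    (ϖ = 2 → 4 * Module.finrank F (Module.End.eigenspace (Matrix.toLin' (g : Matrix (Fin n) (Fin n) F)) c) ≤ 3 * n) ∧
    (ϖ = 3 → 3 * Module.finrank F (Module.End.eigenspace (Matrix.toLin' (g : Matrix (Fin n) (Fin n) F)) c) ≤ 2 * n) ∧
    (3 < ϖ → 2 * Module.finrank F (Module.End.eigenspace (Matrix.toLin' (g : Matrix (Fin n) (Fin n) F)) c) ≤ n) ∧
    (ϖ = 3 → ¬ 3 ∣ n → 2 * Module.finrank F (Module.End.eigenspace (Matrix.toLin' (g : Matrix (Fin n) (Fin n) F)) c) ≤ n) := by
  have hn : 0 < n := Nat.pos_of_ne_zero fun h => hns (by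
    subst h
    rw [show g = 1 from Units.ext (Matrix.ext fun i => i.elim0)]
    exact one_mem _)
  have hnor : (Cfsg.Geo.scalars (Fin n) F).Normal := ⟨fun s hs x => by
    rwa [← EigenBound.scalar_comm hs x, mul_inv_cancel_right]⟩
  have hsc : ∀ x : Matrix.GeneralLinearGroup (Fin n) F, (∀ a ∈ R, x * a = a * x) →
      x ∈ Cfsg.Geo.scalars (Fin n) F := by
    intro x hx
    obtain ⟨a, ha⟩ := hirr.2 x (by
      rintro _ ⟨s, hs, rfl⟩
      rw [← Units.val_mul, hx s hs, Units.val_mul])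
    refine (Cfsg.Geo.mem_scalars_iff _).mpr ⟨Units.mk0 a fun h0 => ?_, ha⟩
    have h := congrFun (congrFun x.mul_inv ⟨0, hn⟩) ⟨0, hn⟩
    rw [ha, h0, zero_smul, zero_mul, Matrix.zero_apply, Matrix.one_apply_eq] at h
    exact zero_ne_one h
  have hc : ∀ x ∈ R ⊔ Cfsg.Geo.scalars (Fin n) F, ∀ y ∈ R ⊔ Cfsg.Geo.scalars (Fin n) F,
      ⁅x, y⁆ ∈ Cfsg.Geo.scalars (Fin n) F ∧ ⁅x, y⁆ ^ r = 1 := by
    intro x hx y hy
    obtain ⟨a, ha, s, hs, rfl⟩ := Subgroup.mem_sup_of_normal_right.mp hx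
    obtain ⟨b, hb, t, ht, rfl⟩ := Subgroup.mem_sup_of_normal_right.mp hy
    have e1 : ∀ z, ⁅a * s, z⁆ = ⁅a, z⁆ := fun z => by
      rw [show ⁅a * s, z⁆ = a * ⁅s, z⁆ * a⁻¹ * ⁅a, z⁆ by simp only [commutatorElement_def]; group,
        EigenBound.Ctx.comm_scalar_left hs, mul_one, mul_inv_cancel, one_mul]
    have e2 : ⁅a, b * t⁆ = ⁅a, b⁆ := by
      rw [show ⁅a, b * t⁆ = ⁅a, b⁆ * (b * ⁅a, t⁆ * b⁻¹) by simp only [commutatorElement_def]; group,
        ← commutatorElement_inv t, EigenBound.Ctx.comm_scalar_left ht, inv_one, mul_one, mul_inv_cancel, mul_one]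
    rw [e1, e2]
    have hm : ⁅(⟨a, ha⟩ : R), ⟨b, hb⟩⁆ ∈ Subgroup.center R := by
      rw [← hext]; exact Subgroup.commutator_mem_commutator (Subgroup.mem_top _) (Subgroup.mem_top _)
    refine ⟨hsc _ fun u hu => ?_, ?_⟩
    · exact (congrArg Subtype.val (Subgroup.mem_center_iff.mp hm ⟨u, hu⟩)).symm
    · have h := pow_card_eq_one' (x := (⟨_, hm⟩ : Subgroup.center R))
      rw [hZ] at h
      exact congrArg (fun z : Subgroup.center R => ((z : R) : Matrix.GeneralLinearGroup (Fin n) F)) h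
  have C : EigenBound.Ctx (R ⊔ Cfsg.Geo.scalars (Fin n) F) g r ϖ :=
    { pos := hn
      r_prime := hr
      w_prime := hϖ
      scal := le_sup_right
      conj := fun x hx => (hg x).mp hx
      comm := fun x hx y hy => (hc x hx y hy).1
      comm_pow := fun x hx y hy => (hc x hx y hy).2
      nondeg := fun x _ h => hsc x fun a ha =>
        commutatorElement_eq_one_iff_mul_comm.mp (h a (le_sup_left (a := R) ha))
      moved := by
        by_contra h
        simp only [not_exists, not_and, not_not] at h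
        exact hns (hsc g fun a ha => commutatorElement_eq_one_iff_mul_comm.mp (h a (le_sup_left (a := R) ha)))
      pow_g := hord ▸ pow_orderOf_eq_one g }
  have hodd : Odd ϖ → _ := fun h => C.odd h c
  have htwo : ϖ = 2 → _ := fun h => C.two h c
  change ϖ = 2 → 4 * Module.finrank F (Module.End.eigenspace (Matrix.toLin' (g : Matrix (Fin n) (Fin n) F)) c) ≤
    3 * n at htwo
  change Odd ϖ → 2 * Module.finrank F (Module.End.eigenspace (Matrix.toLin' (g : Matrix (Fin n) (Fin n) F)) c) ≤ n ∨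
    (ϖ = r ∧ r ∣ n ∧ (r * (r * Module.finrank F (Module.End.eigenspace
      (Matrix.toLin' (g : Matrix (Fin n) (Fin n) F)) c)) ≤ (2 * r - 1) * n ∨
      r * Module.finrank F (Module.End.eigenspace (Matrix.toLin' (g : Matrix (Fin n) (Fin n) F)) c) ≤ 2 * n)) at hodd
  generalize Module.finrank F (Module.End.eigenspace (Matrix.toLin' (g : Matrix (Fin n) (Fin n) F)) c) = d
    at hodd htwo ⊢
  refine ⟨htwo, fun h => ?_, fun h => ?_, fun h h3 => ?_⟩
  · rcases hodd (h ▸ by decide) with h1 | ⟨h1, -, h2⟩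
    · omega
    · rw [← h1, h] at h2
      omega
  · rcases hodd (hϖ.odd_of_ne_two (by omega)) with h1 | ⟨h1, -, h2 | h2⟩
    · exact h1
    · subst h1
      have h4 : 2 * (2 * ϖ - 1) ≤ ϖ * ϖ := by
        have := Nat.mul_le_mul_right ϖ (show 4 ≤ ϖ from h)
        omega
      refine Nat.le_of_mul_le_mul_left ?_ (Nat.mul_pos hϖ.pos hϖ.pos)
      calc ϖ * ϖ * (2 * d) = 2 * (ϖ * (ϖ * d)) := by ring
        _ ≤ 2 * ((2 * ϖ - 1) * n) := Nat.mul_le_mul_left 2 h2
        _ ≤ ϖ * ϖ * n := by rw [← mul_assoc]; exact Nat.mul_le_mul_right n h4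
    · subst h1
      have := Nat.mul_le_mul_right d (show 4 ≤ ϖ from h)
      omega
  · rcases hodd (h ▸ by decide) with h1 | ⟨h1, h2, -⟩
    · exact h1
    · exact absurd (by rwa [← h1, h] at h2) h3

end Cfsg.Agent.S5877
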