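import Cfsg.Statements.S5885
import Cfsg.Agent.EqLemmas

set_option autoImplicit false
open Cfsg

namespace Cfsg.Agent.S5885

open MulAction
open scoped Pointwise

/-- The 3-cycle `x ↦ y ↦ z ↦ x`. -/
noncomputable def cyc {X : Type*} [DecidableEq X] (x y z : X) : Equiv.Perm X :=
  Equiv.swap x z * Equiv.swap x y

theorem cyc_facts {X : Type*} [DecidableEq X] [Fintype X] {x y z : X} (hxy : x ≠ y) (hxz : x ≠ z) (hyz : y ≠ z) :
    cyc x y z ∈ alternatingGroup X ∧ cyc x y z x = y ∧ cyc x y z y = z ∧ cyc x y z z = x ∧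
      ∀ w, w ≠ x → w ≠ y → w ≠ z → cyc x y z w = w := by
  refine ⟨?_, ?_, ?_, ?_, fun w h1 h2 h3 => ?_⟩
  · simp [cyc, Equiv.Perm.mem_alternatingGroup, Equiv.Perm.sign_swap hxy, Equiv.Perm.sign_swap hxz]
  · simp [cyc, Equiv.swap_apply_of_ne_of_ne hxy.symm hyz]
  · simp [cyc]
  · simp [cyc, Equiv.swap_apply_of_ne_of_ne hxz.symm hyz.symm]
  · simp [cyc, Equiv.swap_apply_of_ne_of_ne h1 h2, Equiv.swap_apply_of_ne_of_ne h1 h3]

/-- A group inducing at least the alternating group on `X`: for a maximal subgroup `K` moving `a`, the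
point stabiliser in `K` is maximal in `K` as soon as it is maximal in the point stabiliser. -/
theorem isPreprimitive_orbit {G X : Type*} [Group G] [MulAction G X] [Fintype X] [DecidableEq X]
    (hodd : Odd (Fintype.card X)) (htrans : IsPretransitive G X)
    (hlift : ∀ π ∈ alternatingGroup X, ∃ g : G, ∀ x : X, g • x = π x)
    (a : X) (K : Subgroup G) (hK : IsCoatom K) (hmax : IsCoatom (K.subgroupOf (stabilizer G a)))
    : IsPreprimitive K (orbit K a) := by
  refine IsPreprimitive.of_isTrivialBlock_base (⟨a, mem_orbit_self a⟩ : orbit K a) fun {B} ha hB => ?_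
  by_contra hnt
  simp only [IsTrivialBlock, not_or] at hnt
  obtain ⟨hns, hnu⟩ := hnt
  obtain ⟨c, hc⟩ : ∃ c, c ∉ B := by
    by_contra h
    push Not at h
    exact hnu (Set.eq_univ_of_forall h)
  obtain ⟨b, hb, hba⟩ := (Set.not_subsingleton_iff.1 hns).exists_ne ⟨a, mem_orbit_self a⟩
  -- the translate of `B` through `c`
  obtain ⟨k, hk⟩ := exists_smul_eq K (⟨a, mem_orbit_self a⟩ : orbit K a) c
  have hcB2 : c ∈ k • B := ⟨_, ha, hk⟩
  have hdis : Disjoint (k • B) B :=
    ((isBlock_iff_smul_eq_or_disjoint).1 hB k).resolve_left fun (h : k • B = B) => hc ((Set.ext_iff.1 h c).1 hcB2)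
  obtain ⟨d, hdB2, hdc⟩ : ∃ d ∈ k • B, d ≠ c := by
    have hba' : k • b ≠ c := by
      rw [← hk]; exact fun h => hba (smul_left_cancel _ h)
    exact ⟨k • b, ⟨b, hb, rfl⟩, hba'⟩
  have hdB : d ∉ B := Set.disjoint_left.1 hdis hdB2
  have hav : ∀ {u v : orbit K a}, u ≠ v → (u : X) ≠ v := fun h h' => h (Subtype.ext h')
  have haB2 : (⟨a, mem_orbit_self a⟩ : orbit K a) ∉ k • B := Set.disjoint_right.1 hdis ha
  have hac : a ≠ (c : X) := hav (u := ⟨a, mem_orbit_self a⟩) fun h => hc (h ▸ ha)
  have had : a ≠ (d : X) := hav (u := ⟨a, mem_orbit_self a⟩) fun h => hdB (h ▸ ha)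
  have hab : a ≠ (b : X) := hav (u := ⟨a, mem_orbit_self a⟩) hba.symm
  have hbc : (b : X) ≠ c := hav fun h => hc (h ▸ hb)
  have hbd : (b : X) ≠ d := hav fun h => hdB (h ▸ hb)
  have hcd : (c : X) ≠ d := hav hdc.symm
  -- elements of `K` fixing `a` fix `B`
  have hfixB : ∀ g : K, g • a = a → g • B = B := fun g hg =>
    hB.smul_eq_of_mem ha (by
      have : g • (⟨a, mem_orbit_self a⟩ : orbit K a) = ⟨a, mem_orbit_self a⟩ := Subtype.ext hg
      rw [this]; exact ha)
  obtain ⟨hev, h1, h2, h3, hfix⟩ := cyc_facts hbc hbd hcd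
  obtain ⟨g₁, hg₁⟩ := hlift _ hev
  have hg₁a : g₁ • a = a := by rw [hg₁]; exact hfix a hab hac had
  have hg₁K : g₁ ∉ K := by
    intro hmem
    have hfb := hfixB ⟨g₁, hmem⟩ hg₁a
    have : (⟨g₁, hmem⟩ : K) • b ∈ B := hfb ▸ Set.smul_mem_smul_set hb
    have e : (⟨g₁, hmem⟩ : K) • b = c := Subtype.ext (by
      show g₁ • (b : X) = c
      rw [hg₁, h1])
    exact hc (e ▸ this)
  by_cases hO : orbit K a = Set.univ
  · -- `K` is transitive; the stabiliser of `B` lies strictly between
    obtain ⟨e, heB, heB2⟩ : ∃ e, e ∉ B ∧ e ∉ k • B := by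
      by_contra h
      push Not at h
      have hu : B ∪ k • B = Set.univ := Set.eq_univ_of_forall fun e => (em (e ∈ B)).elim Or.inl fun he => Or.inr (h e he)
      have := Set.ncard_union_eq hdis.symm (Set.toFinite _) (Set.toFinite _)
      rw [hu, Set.ncard_univ, Set.ncard_smul_set, Nat.card_congr (Equiv.setCongr hO),
        Nat.card_congr (Equiv.Set.univ X), Nat.card_eq_fintype_card] at this
      obtain ⟨t, ht⟩ := hodd
      omega
    have hce : (c : X) ≠ e := hav fun h => heB2 (h ▸ hcB2)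
    have hde : (d : X) ≠ e := hav fun h => heB2 (h ▸ hdB2)
    obtain ⟨hev', h1', h2', h3', hfix'⟩ := cyc_facts hcd hce hde
    obtain ⟨g₂, hg₂⟩ := hlift _ hev'
    have hBfix : ∀ u ∈ B, g₂ • (u : X) = u := by
      intro u hu
      rw [hg₂]
      exact hfix' _ (hav fun h => hc (h ▸ hu)) (hav fun h => hdB (h ▸ hu)) (hav fun h => heB (h ▸ hu))
    have hg₂a : g₂ • a = a := hBfix _ ha
    have hg₂K : g₂ ∉ K := by
      intro hmem
      have hg : ∀ u v : orbit K a, g₂ • (u : X) = v → (⟨g₂, hmem⟩ : K) • u = v := fun u v h => Subtype.ext h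
      have m1 : d ∈ (⟨g₂, hmem⟩ : K) • k • B := ⟨c, hcB2, hg c d (by rw [hg₂, h1'])⟩
      have m2 : e ∈ (⟨g₂, hmem⟩ : K) • k • B := ⟨d, hdB2, hg d e (by rw [hg₂, h2'])⟩
      rw [smul_smul] at m1 m2
      rcases isBlock_iff_smul_eq_smul_or_disjoint.1 hB (⟨g₂, hmem⟩ * k) k with h | h
      · exact heB2 (h ▸ m2)
      · exact Set.disjoint_left.1 h m1 hdB2
    let T : Set X := Subtype.val '' B
    have hmemT : ∀ u : orbit K a, (u : X) ∈ T ↔ u ∈ B := fun u => Subtype.val_injective.mem_set_image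
    have hg₂T : g₂ • T = T := by
      refine Set.eq_of_subset_of_ncard_le ?_ (by rw [Set.ncard_smul_set])
      rintro _ ⟨_, ⟨u, hu, rfl⟩, rfl⟩
      exact ⟨u, hu, (hBfix u hu).symm⟩
    have hle : K.subgroupOf (stabilizer G a) ≤ (stabilizer G T).subgroupOf (stabilizer G a) := by
      intro g hg
      have hfb := hfixB ⟨g, hg⟩ g.2
      show (g : G) • T = T
      refine Set.eq_of_subset_of_ncard_le ?_ (by rw [Set.ncard_smul_set])
      rintro _ ⟨_, ⟨u, hu, rfl⟩, rfl⟩
      exact ⟨_, hfb ▸ Set.smul_mem_smul_set (a := (⟨g, hg⟩ : K)) hu, rfl⟩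
    have hlt : K.subgroupOf (stabilizer G a) < (stabilizer G T).subgroupOf (stabilizer G a) := by
      refine lt_of_le_of_ne hle fun h => hg₂K ?_
      have : (⟨g₂, hg₂a⟩ : stabilizer G a) ∈ (stabilizer G T).subgroupOf (stabilizer G a) := hg₂T
      rw [← h] at this
      exact this
    have hg₁T : g₁ • T = T :=
      show (⟨g₁, hg₁a⟩ : stabilizer G a) ∈ (stabilizer G T).subgroupOf (stabilizer G a) from
        (hmax.2 _ hlt) ▸ Subgroup.mem_top _
    have : (c : X) ∈ T := hg₁T ▸ ⟨b, (hmemT b).2 hb, by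
      show g₁ • (b : X) = c
      rw [hg₁, h1]⟩
    exact hc ((hmemT c).1 this)
  · -- `K` is the setwise stabiliser of its orbit
    apply hg₁K
    have hKle : K ≤ stabilizer G (orbit K a) := fun x hx => smul_orbit (⟨x, hx⟩ : K) a
    have hKeq : stabilizer G (orbit K a) = K := by
      by_contra h
      have htop := hK.2 _ (lt_of_le_of_ne hKle (Ne.symm h))
      refine hO (Set.eq_univ_of_forall fun x => ?_)
      obtain ⟨g, rfl⟩ := exists_smul_eq G a x
      have : g • orbit K a = orbit K a :=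
        show g ∈ stabilizer G (orbit K a) from htop ▸ Subgroup.mem_top g
      exact this ▸ Set.smul_mem_smul_set (mem_orbit_self a)
    rw [← hKeq, mem_stabilizer_iff]
    refine Set.eq_of_subset_of_ncard_le ?_ (by rw [Set.ncard_smul_set])
    rintro _ ⟨u, hu, rfl⟩
    show g₁ • u ∈ orbit K a
    rw [hg₁]
    rcases eq_or_ne u b with rfl | h1u
    · rw [h1]; exact c.2
    rcases eq_or_ne u c with rfl | h2u
    · rw [h2]; exact d.2
    rcases eq_or_ne u d with rfl | h3u
    · rw [h3]; exact b.2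
    rw [hfix u h1u h2u h3u]
    exact hu

/-- Let n be an odd positive integer such that every primitive permutation group of degree n contains the alternating group (so the symmetric and alternating groups are the only primitive groups of degree n). Let G be a finite group, M a maximal subgroup of G of index n, and H a maximal subgroup of M. Then H is a second maximal subgroup of G: H is maximal in every maximal subgroup K of G containing H. -/
theorem result {G : Type*} [Group G]
    [Finite G] (n : ℕ) (hodd : Odd n)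
    (hA : ∀ P : Subgroup (Equiv.Perm (Fin n)), MulAction.IsPreprimitive P (Fin n) → alternatingGroup (Fin n) ≤ P)
    (M : Subgroup G) (hM : IsCoatom M) (hn : M.index = n) (H : Subgroup G) (hHM : H ≤ M)
    (hmax : IsCoatom (H.subgroupOf M)) (K : Subgroup G) (hK : IsCoatom K) (hHK : H ≤ K) :
    IsCoatom (H.subgroupOf K) := by
  classical
  haveI : Fintype (G ⧸ M) := Fintype.ofFinite _
  have hcard : Fintype.card (G ⧸ M) = n := by
    rw [← Nat.card_eq_fintype_card, ← Subgroup.index_eq_card, hn]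
  haveI : Nontrivial (G ⧸ M) := by
    rw [← Fintype.one_lt_card_iff_nontrivial, hcard]
    obtain ⟨t, ht⟩ := hodd
    have : M.index ≠ 1 := fun h => hM.1 (Subgroup.index_eq_one.1 h)
    omega
  have hstab : stabilizer G ((1 : G) : G ⧸ M) = M := MulAction.stabilizer_quotient M
  haveI : IsPreprimitive G (G ⧸ M) :=
    (MulAction.isCoatom_stabilizer_iff_preprimitive G ((1 : G) : G ⧸ M)).1 (hstab.symm ▸ hM)
  -- transport to `Fin n`
  let e : G ⧸ M ≃ Fin n := (Fintype.equivFin _).trans (finCongr hcard)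
  let φ : G →* Equiv.Perm (Fin n) := e.permCongrHom.toMonoidHom.comp (MulAction.toPermHom G (G ⧸ M))
  have hφ : ∀ g x, φ g (e x) = e (g • x) := by intro g x; simp [φ, Equiv.permCongrHom, Equiv.permCongr_apply]
  have hprim : IsPreprimitive φ.range (Fin n) := by
    let f : (G ⧸ M) →ₑ[φ.rangeRestrict] Fin n :=
      { toFun := e, map_smul' := fun g x => (hφ g x).symm }
    exact IsPreprimitive.of_surjective (f := f) e.surjective
  have hlift : ∀ π ∈ alternatingGroup (G ⧸ M), ∃ g : G, ∀ x, g • x = π x := by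
    intro π hπ
    have hmem : e.permCongr π ∈ alternatingGroup (Fin n) := by
      rw [Equiv.Perm.mem_alternatingGroup, Equiv.Perm.sign_permCongr]
      exact hπ
    obtain ⟨g, hg⟩ := hA φ.range hprim hmem
    refine ⟨g, fun x => e.injective ?_⟩
    rw [← hφ, hg, Equiv.permCongr_apply, Equiv.symm_apply_apply]
  by_cases hMK : M ≤ K
  · have : K = M := by
      rcases eq_or_lt_of_le hMK with h | h
      · exact h.symm
      · exact absurd (hM.2 K h) hK.1
    exact this ▸ hmax
  have hHeq : H.subgroupOf M = K.subgroupOf M := by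
    rcases eq_or_lt_of_le (Subgroup.comap_mono hHK : H.subgroupOf M ≤ K.subgroupOf M) with h | h
    · exact h
    · exact absurd (Subgroup.subgroupOf_eq_top.1 (hmax.2 _ h)) hMK
  have hH : H = K ⊓ M := by
    have := congrArg (Subgroup.map M.subtype) hHeq
    rwa [Subgroup.subgroupOf_map_subtype, Subgroup.subgroupOf_map_subtype, inf_eq_left.2 hHM] at this
  have hprimK : IsPreprimitive K (orbit K ((1 : G) : G ⧸ M)) := by
    refine isPreprimitive_orbit (hcard ▸ hodd) inferInstance hlift _ K hK ?_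
    rw [hstab, ← hHeq]
    exact hmax
  have hst : stabilizer K (⟨_, mem_orbit_self ((1 : G) : G ⧸ M)⟩ : orbit K ((1 : G) : G ⧸ M)) = H.subgroupOf K := by
    ext k
    rw [mem_stabilizer_iff, Subgroup.mem_subgroupOf, hH, Subgroup.mem_inf, Subtype.ext_iff]
    have := SetLike.ext_iff.1 hstab (k : G)
    rw [mem_stabilizer_iff] at this
    exact this.trans ⟨fun h => ⟨k.2, h⟩, fun h => h.2⟩
  haveI : Nontrivial (orbit K ((1 : G) : G ⧸ M)) := by
    by_contra h
    rw [not_nontrivial_iff_subsingleton] at h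
    have hKM : K ≤ M := by
      intro x hx
      rw [← hstab, mem_stabilizer_iff]
      exact congrArg Subtype.val (Subsingleton.elim
        (⟨_, mem_orbit _ (⟨x, hx⟩ : K)⟩ : orbit K ((1 : G) : G ⧸ M)) ⟨_, mem_orbit_self _⟩)
    rcases eq_or_lt_of_le hKM with h' | h'
    · exact hMK h'.ge
    · exact hM.1 (hK.2 M h')
  rw [← hst]
  exact IsPreprimitive.isCoatom_stabilizer_of_isPreprimitive (G := K) (X := orbit K ((1 : G) : G ⧸ M)) _

end Cfsg.Agent.S5885
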