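import Cfsg.Statements.S5886
import Cfsg.Agent.Lib.FieldExtMax.Main

set_option autoImplicit false
open Cfsg

namespace Cfsg.Agent.S5886

/-- Let F be a finite field, n a positive integer and r a prime that divides n with r < n. Let K be a subalgebra of the algebra of n × n matrices over F which is a field of degree r over F (commutative, every non-zero element invertible, of dimension r over F; it contains the scalars). Then the normaliser N of K in GL_n(F) — the invertible F-linear maps that are semilinear over the field K, a group of type ΓL_{n/r}(F_{q^r}) for |F| = q — is a maximal subgroup of GL_n(F), and N ∩ SL_n(F) is a maximal subgroup of SL_n(F). No lower bound on n is assumed. -/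
theorem result {F : Type*} [Field F]
    [Fintype F] (n r : ℕ) (hr : r.Prime) (hrn : r ∣ n) (hlt : r < n) (K : Subalgebra F (Matrix (Fin n) (Fin n) F))
    (hK : Cfsg.Geo.IsFieldSubalgebra r K) :
    IsCoatom (Cfsg.Geo.subalgebraNormalizer K) ∧
      Cfsg.Geo.IsMaximalIn (Cfsg.Geo.specialLinear (Fin n) F)
        (Cfsg.Geo.subalgebraNormalizer K ⊓ Cfsg.Geo.specialLinear (Fin n) F) := by
  obtain ⟨hM, hnle, hdet⟩ := FieldExtMax.gl_cases hr (by simpa using hlt) hK
  refine ⟨⟨fun h => hnle (h ▸ le_top), fun M hlt' => ?_⟩, ?_, fun M hM₁ hM₂ => ?_⟩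
  · have hsl := (hM M (inf_le_left.trans hlt'.le)).resolve_left fun h => hlt'.not_ge h
    refine eq_top_iff.2 fun g _ => ?_
    obtain ⟨x, hx, hxd⟩ := hdet _ (Matrix.GeneralLinearGroup.det g).ne_zero
    have hq : g * x⁻¹ ∈ M := by
      refine hsl ?_
      show Matrix.GeneralLinearGroup.det (g * x⁻¹) = 1
      rw [map_mul, map_inv, show Matrix.GeneralLinearGroup.det x
        = Matrix.GeneralLinearGroup.det g from Units.ext hxd, mul_inv_cancel]
    simpa using M.mul_mem hq (hlt'.le hx)
  · exact lt_of_le_of_ne inf_le_right fun h => hnle (inf_eq_right.1 h)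
  · rcases hM M hM₁ with h | h
    · exact Or.inl (le_antisymm (le_inf h hM₂) hM₁)
    · exact Or.inr (le_antisymm hM₂ h)

end Cfsg.Agent.S5886
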