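import Cfsg.Statements.S5887
import Cfsg.Agent.Lib.Aschbacher.Field
import Cfsg.Agent.Lib.PrimeDim.SLProper

set_option autoImplicit false
open Cfsg

namespace Cfsg.Agent.S5887

open Matrix Cfsg.Agent.PrimeDim

variable {F : Type*} [Field F] {n : ℕ}

/-- A unimodular matrix centralising the smaller field and not normalising the larger one. -/
lemma exists_mover [Fintype F] {r₀ r : ℕ} {K₀ K : Subalgebra F (Matrix (Fin n) (Fin n) F)}
    (hK₀ : Cfsg.Geo.IsFieldSubalgebra r₀ K₀) (hK : Cfsg.Geo.IsFieldSubalgebra r K)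
    (hsub : K₀ ≤ K) (hrr : r₀ < r) (hdim : 2 * r₀ < n) :
    ∃ t : GL (Fin n) F, t ∈ Cfsg.Geo.specialLinear (Fin n) F ∧
      t ∈ Cfsg.Geo.subalgebraNormalizer K₀ ∧ t ∉ Cfsg.Geo.subalgebraNormalizer K := by
  classical
  have : Nonempty (Fin n) := ⟨⟨0, by omega⟩⟩
  have hA : IsField K₀ := ⟨exists_pair_ne _, fun x y => Subtype.ext (hK₀.comm _ x.2 _ y.2),
    fun {x} hx => by
      obtain ⟨y, hy, h⟩ := hK₀.inv _ x.2 (fun h => hx (Subtype.ext h))
      exact ⟨⟨y, hy⟩, Subtype.ext h⟩⟩
  letI : Field K₀ := hA.toField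
  let ρ : K₀ →+* ((Fin n → F) →ₗ[F] (Fin n → F)) :=
    (Matrix.toLinAlgEquiv' : Matrix (Fin n) (Fin n) F ≃ₐ[F] _).toAlgHom.toRingHom.comp K₀.val.toRingHom
  letI : Module K₀ (Fin n → F) := Module.compHom _ ρ
  have hsmul : ∀ (k : K₀) (x : Fin n → F), k • x = (k : Matrix (Fin n) (Fin n) F) *ᵥ x := fun k x => by
    show ρ k x = _
    simp [ρ]
  obtain ⟨v, hv⟩ := exists_ne (0 : Fin n → F)
  -- the F-dimension of the line of v
  let ev : K₀ →ₗ[F] (Fin n → F) := (Matrix.mulVecBilin F F).flip v ∘ₗ K₀.val.toLinearMap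
  have hev : ∀ k : K₀, ev k = k • v := fun k => by rw [hsmul]; rfl
  have hfd : Module.Finite F K₀ := Module.Finite.of_injective K₀.val.toLinearMap Subtype.val_injective
  have hevr : Module.finrank F (LinearMap.range ev) ≤ r₀ :=
    (LinearMap.finrank_range_le ev).trans hK₀.finrank_eq.le
  obtain ⟨w, hw⟩ : ∃ w : Fin n → F, w ∉ LinearMap.range ev := by
    by_contra h
    push Not at h
    have h' : LinearMap.range ev = ⊤ := Submodule.eq_top_iff'.2 h
    rw [h', finrank_top, Module.finrank_fintype_fun_eq_card, Fintype.card_fin] at hevr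
    omega
  have hw' : w ∉ Submodule.span K₀ ({v} : Set (Fin n → F)) := by
    intro h
    obtain ⟨k, hk⟩ := Submodule.mem_span_singleton.1 h
    exact hw ⟨k, (hev k).trans hk⟩
  obtain ⟨ψ, hψw, hψv⟩ := Submodule.exists_dual_map_eq_bot_of_notMem hw' inferInstance
  have hψv' : ψ v = 0 := by
    have : ψ v ∈ (Submodule.span K₀ ({v} : Set (Fin n → F))).map ψ :=
      ⟨v, Submodule.mem_span_singleton_self v, rfl⟩
    rw [hψv] at this
    exact this
  have hscal : ∀ (c : F) (x : Fin n → F), c • x = (algebraMap F K₀ c) • x := fun c x => by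
    rw [hsmul, Subalgebra.coe_algebraMap, Algebra.algebraMap_eq_smul_one, Matrix.smul_mulVec,
      Matrix.one_mulVec]
  let N : (Fin n → F) →ₗ[F] (Fin n → F) :=
    { toFun := fun x => ψ x • v
      map_add' := fun x y => by rw [map_add]; exact add_smul _ _ _
      map_smul' := fun c x => by
        show ψ (c • x) • v = c • (ψ x • v)
        rw [hscal c x, map_smul, smul_eq_mul, mul_smul, ← hscal] }
  set M := LinearMap.toMatrix' N with hM
  have hMx : ∀ x, M *ᵥ x = ψ x • v := fun x => by
    rw [hM, LinearMap.toMatrix'_mulVec]; rfl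
  have hM2 : M * M = 0 := Matrix.ext_of_mulVec_single fun i => by
    rw [← Matrix.mulVec_mulVec, hMx, hMx (Pi.single i 1), map_smul, hψv', smul_zero, zero_smul,
      Matrix.zero_mulVec]
  have hM0 : ∀ k ∈ K₀, M * k = k * M := fun k hk => Matrix.ext_of_mulVec_single fun i => by
    rw [← Matrix.mulVec_mulVec, ← Matrix.mulVec_mulVec, hMx, hMx]
    rw [show k *ᵥ (Pi.single i 1 : Fin n → F) = (⟨k, hk⟩ : K₀) • (Pi.single i 1 : Fin n → F) from
      (hsmul ⟨k, hk⟩ _).symm, map_smul, smul_eq_mul, mul_smul]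
    exact hsmul _ _
  let t : GL (Fin n) F := ⟨1 + M, 1 - M,
    by rw [add_mul, mul_sub, mul_sub, hM2, one_mul, mul_one, one_mul, sub_zero, sub_add_cancel],
    by rw [sub_mul, mul_add, mul_add, hM2, one_mul, mul_one, one_mul, add_zero, add_sub_cancel_right]⟩
  have htv : (t : Matrix (Fin n) (Fin n) F) = 1 + M := rfl
  have hcomm : ∀ k, (t : Matrix (Fin n) (Fin n) F) * k = k * t → M * k = k * M := fun k h => by
    rw [htv, add_mul, mul_add, one_mul, mul_one] at h
    exact add_left_cancel h
  have hfix : ∀ k ∈ K₀, cj t k = k := fun k hk => by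
    rw [cj_eq_self_iff, htv, add_mul, mul_add, one_mul, mul_one, hM0 k hk]
  refine ⟨t, ?_, fun k => ⟨fun hk => ?_, fun hk => ?_⟩, fun ht => ?_⟩
  · rw [Cfsg.Geo.specialLinear, MonoidHom.mem_ker]
    obtain ⟨p, hpc⟩ := CharP.exists F
    have hp : Fact p.Prime := ⟨CharP.char_is_prime F p⟩
    have hpow : ∀ k : ℕ, (1 + M) ^ k = 1 + (k : F) • M := by
      intro k
      induction k with
      | zero => simp
      | succ k ih =>
        rw [pow_succ, ih, Nat.cast_succ, add_smul, one_smul, add_mul, mul_add, mul_add, one_mul, mul_one,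
          Matrix.smul_mul, hM2, smul_zero, one_mul]
        abel
    have h1 := congrArg Matrix.det (hpow p)
    rw [Matrix.det_pow, CharP.cast_eq_zero, zero_smul, add_zero, Matrix.det_one] at h1
    refine Units.ext ?_
    rw [Matrix.GeneralLinearGroup.val_det_apply, htv, Units.val_one]
    exact frobenius_inj F p (by rw [frobenius_def, frobenius_def, one_pow]; exact h1)
  · rw [← cj_apply, hfix k hk]; exact hk
  · rw [← cj_apply] at hk
    have h := hfix _ hk
    have h2 : cj t k = k := by
      have := congrArg (cj t⁻¹) h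
      rwa [cj_inv_cj, cj_inv_cj] at this
    rwa [h2] at hk
  · -- the larger field
    have hker : n ≤ Module.finrank F (LinearMap.ker N) + r₀ := by
      have h1 := LinearMap.finrank_range_add_finrank_ker N
      have h2 : Module.finrank F (LinearMap.range N) ≤ r₀ := by
        refine (Submodule.finrank_mono ?_).trans hevr
        rintro _ ⟨x, rfl⟩
        exact ⟨ψ x, hev _⟩
      rw [Module.finrank_fintype_fun_eq_card, Fintype.card_fin] at h1
      omega
    have hcent : ∀ k ∈ K, M * k = k * M := fun k hk => by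
      obtain ⟨x, hx, hx0⟩ : ∃ x ∈ LinearMap.ker N ⊓ (LinearMap.ker N).comap (Matrix.toLin' k),
          x ≠ (0 : Fin n → F) := by
        refine Submodule.exists_mem_ne_zero_of_ne_bot fun h => ?_
        have h1 := Submodule.finrank_sup_add_finrank_inf_eq (LinearMap.ker N)
          ((LinearMap.ker N).comap (Matrix.toLin' k))
        have h2 := Submodule.finrank_le (LinearMap.ker N ⊔ (LinearMap.ker N).comap (Matrix.toLin' k))
        have h3 : Module.finrank F ↥((LinearMap.ker N).comap (Matrix.toLin' k)) + r₀ ≥ n := by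
          have h4 := LinearMap.finrank_range_add_finrank_ker (N ∘ₗ Matrix.toLin' k)
          have h5 : Module.finrank F (LinearMap.range (N ∘ₗ Matrix.toLin' k)) ≤ r₀ := by
            refine (Submodule.finrank_mono ?_).trans hevr
            rintro _ ⟨x, rfl⟩
            exact ⟨ψ (Matrix.toLin' k x), hev _⟩
          rw [LinearMap.ker_comp, Module.finrank_fintype_fun_eq_card, Fintype.card_fin] at h4
          omega
        rw [h, finrank_bot] at h1
        rw [Module.finrank_fintype_fun_eq_card, Fintype.card_fin] at h2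
        omega
      obtain ⟨hx1, hx2⟩ := hx
      have hTx : ∀ y, N y = 0 → (t : Matrix (Fin n) (Fin n) F) *ᵥ y = y := fun y hy => by
        rw [htv, Matrix.add_mulVec, Matrix.one_mulVec, hMx]
        show y + N y = y
        rw [hy, add_zero]
      have hkd : (cj t k - k) *ᵥ x = 0 := by
        have h1 := mulVec_cj t k x
        rw [hTx x hx1, hTx (k *ᵥ x) (by simpa using hx2)] at h1
        rw [Matrix.sub_mulVec, h1, sub_self]
      have heq : cj t k = k := by
        by_contra hne
        have hk' : cj t k ∈ K := (ht k).mp hk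
        obtain ⟨y, hy, hy1⟩ := hK.inv _ (K.sub_mem hk' hk) (sub_ne_zero.mpr hne)
        rw [hK.comm _ (K.sub_mem hk' hk) y hy] at hy1
        apply hx0
        rw [← Matrix.one_mulVec x, ← hy1, ← Matrix.mulVec_mulVec, hkd, Matrix.mulVec_zero]
      rw [cj_eq_self_iff] at heq
      exact hcomm k heq
    -- K v lies in the line of v
    have hKv : ∀ k ∈ K, k *ᵥ v ∈ LinearMap.range ev := fun k hk => by
      have h := congrArg (· *ᵥ w) (hcent k hk)
      simp only [← Matrix.mulVec_mulVec, hMx] at h
      refine ⟨(ψ w)⁻¹ * ψ (k *ᵥ w), ?_⟩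
      have hc : ∀ c : K₀, k *ᵥ (c • v) = c • (k *ᵥ v) := fun c => by
        have e3 : (c : Matrix (Fin n) (Fin n) F) * k = k * c := by
          exact hK.comm _ (hsub c.2) _ hk
        rw [hsmul, hsmul, Matrix.mulVec_mulVec, Matrix.mulVec_mulVec, e3]
      rw [hc] at h
      rw [hev, mul_smul, h, smul_smul, inv_mul_cancel₀ hψw, one_smul]
    let evK : K →ₗ[F] (Fin n → F) := (Matrix.mulVecBilin F F).flip v ∘ₗ K.val.toLinearMap
    have hinj : Function.Injective evK := by
      rw [← LinearMap.ker_eq_bot, Submodule.eq_bot_iff]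
      rintro ⟨k, hk⟩ hkv
      by_contra hk0
      obtain ⟨y, hy, hy1⟩ := hK.inv k hk (fun h => hk0 (Subtype.ext h))
      rw [hK.comm k hk y hy] at hy1
      apply hv
      rw [← Matrix.one_mulVec v, ← hy1, ← Matrix.mulVec_mulVec]
      rw [show k *ᵥ v = 0 from hkv, Matrix.mulVec_zero]
    have h1 := LinearMap.finrank_range_of_inj hinj
    have h2 : LinearMap.range evK ≤ LinearMap.range ev := by
      rintro _ ⟨k, rfl⟩
      exact hKv k.1 k.2
    have h3 := Submodule.finrank_mono h2
    rw [h1, hK.finrank_eq] at h3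
    omega

/-- Let F be a finite field, n a positive integer and r a composite number (r > 1, not prime) that divides n with r < n. Let K be a subalgebra of the algebra of n × n matrices over F which is a field of degree r over F (commutative, every non-zero element invertible, of dimension r over F). Then the normaliser N of K in GL_n(F) (a group of type ΓL_{n/r}(F_{q^r})) is not a maximal subgroup of GL_n(F), and N ∩ SL_n(F) is not a maximal subgroup of SL_n(F): both lie properly inside the normaliser of an intermediate subfield of prime degree over F. -/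
theorem result {F : Type*} [Field F]
    [Fintype F] (n r : ℕ) (hr1 : 1 < r) (hrp : ¬ r.Prime) (hrn : r ∣ n) (hlt : r < n)
    (K : Subalgebra F (Matrix (Fin n) (Fin n) F)) (hK : Cfsg.Geo.IsFieldSubalgebra r K) :
    ¬ IsCoatom (Cfsg.Geo.subalgebraNormalizer K) ∧
      ¬ Cfsg.Geo.IsMaximalIn (Cfsg.Geo.specialLinear (Fin n) F)
        (Cfsg.Geo.subalgebraNormalizer K ⊓ Cfsg.Geo.specialLinear (Fin n) F) := by
  classical
  have : Nonempty (Fin n) := ⟨⟨0, by omega⟩⟩
  obtain ⟨r₀, K₀, hr₀, -, hle, hK₀, hnorm, -⟩ :=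
    Cfsg.Agent.Aschbacher.exists_prime_degree hK.comm hK.inv (by rw [hK.finrank_eq]; omega)
  have hr4 : 4 ≤ r := by
    rcases Nat.lt_or_ge r 4 with h | h
    · interval_cases r
      · exact absurd Nat.prime_two hrp
      · exact absurd Nat.prime_three hrp
    · exact h
  have h2r : 2 * r ≤ n := by
    obtain ⟨c, rfl⟩ := hrn
    have : 2 ≤ c := by
      rcases c with _ | _ | c
      · simp at hlt
      · simp at hlt
      · omega
    rw [mul_comm r c]
    exact Nat.mul_le_mul_right r this
  have hlt₀ : r₀ < r := by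
    have hfd : Module.Finite F K := Module.finite_of_finrank_pos (by rw [hK.finrank_eq]; omega)
    have := Submodule.finrank_mono (show Subalgebra.toSubmodule K₀ ≤ Subalgebra.toSubmodule K from hle)
    change Module.finrank F K₀ ≤ Module.finrank F K at this
    rw [hK₀.finrank_eq, hK.finrank_eq] at this
    exact lt_of_le_of_ne this fun h => hrp (h ▸ hr₀)
  have hNK : Cfsg.Geo.subalgebraNormalizer K ≤ Cfsg.Geo.subalgebraNormalizer K₀ :=
    Cfsg.Agent.Aschbacher.NormAlg.le_normalizer
      (hnorm _ fun g hg a ha => (hg a).1 ha)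
  obtain ⟨t, hts, ht₀, ht⟩ := exists_mover hK₀ hK hle hlt₀ (by omega)
  have hnsl := PrimeDim.not_sl_le_subalgebraNormalizer (ι := Fin n) (by rw [Fintype.card_fin]; omega)
    hr₀.two_le hK₀
  refine ⟨fun hc => ?_, fun hc => ?_⟩
  · have := hc.2 _ (lt_of_le_of_ne hNK fun h => ht ((SetLike.ext_iff.1 h t).2 ht₀))
    exact hnsl (this ▸ le_top)
  · have h1 : Cfsg.Geo.subalgebraNormalizer K ⊓ Cfsg.Geo.specialLinear (Fin n) F ≤
        Cfsg.Geo.subalgebraNormalizer K₀ ⊓ Cfsg.Geo.specialLinear (Fin n) F := inf_le_inf_right _ hNK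
    rcases hc.2 _ h1 inf_le_right with h | h
    · exact ht (Subgroup.mem_inf.1 ((SetLike.ext_iff.1 h t).1 (Subgroup.mem_inf.2 ⟨ht₀, hts⟩))).1
    · exact hnsl (fun g hg => (Subgroup.mem_inf.1 ((SetLike.ext_iff.1 h g).2 hg)).1)

end Cfsg.Agent.S5887
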