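import Cfsg.Statements.S5890
import Cfsg.Agent.Lib.PSL2.PGLSubfield

set_option autoImplicit false
open Cfsg

namespace Cfsg.Agent.S5890

/-- Let F be a finite field with q ≥ 4 elements, let L ≤ PGL₂(F) be the image of SL₂(F) (a copy of PSL₂(F), of index gcd(2, q − 1)), and let M be a maximal subgroup of PGL₂(F) that does not contain L. Suppose q ∉ {7, 9, 11} and that q is not a prime congruent to ±11 or ±19 modulo 40. Then M ∩ L is a maximal subgroup of L. (For the excluded q there are maximal subgroups of PGL₂(q) — dihedral groups of order 12 and 16 at q = 7, of order 20 and 16 at q = 9, of order 20 at q = 11, and S₄ at the excluded primes — whose intersection with L is not maximal in L.) -/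
theorem result {F : Type*} [Field F]
    [Fintype F] (h4 : 4 ≤ Fintype.card F) (h7 : Fintype.card F ≠ 7) (h9 : Fintype.card F ≠ 9) (h11 : Fintype.card F ≠ 11)
    (h40 : (Fintype.card F).Prime → Fintype.card F % 40 ∉ ({11, 19, 21, 29} : Finset ℕ))
    (M : Subgroup (Matrix.ProjGenLinGroup (Fin 2) F)) (hM : IsCoatom M)
    (hML : ¬ (Matrix.ProjGenLinGroup.mk.comp Matrix.SpecialLinearGroup.toGL).range ≤ M) :
    IsCoatom ((M ⊓ (Matrix.ProjGenLinGroup.mk.comp Matrix.SpecialLinearGroup.toGL).range).subgroupOf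
      (Matrix.ProjGenLinGroup.mk.comp Matrix.SpecialLinearGroup.toGL).range) := by
  have hq40 := h40
  rw [← Nat.card_eq_fintype_card] at h4 h7 h9 h11 hq40
  rw [PSL2.range_toPGL_eq] at hML ⊢
  set φ := (Matrix.ProjectiveSpecialLinearGroup.toPGL : PSL2.PSL2 F →* PSL2.PGL2 F) with hφ
  have hinj : Function.Injective φ := Matrix.ProjectiveSpecialLinearGroup.toPGL_injective
  obtain ⟨p, hp⟩ := CharP.exists F
  have : Fact p.Prime := ⟨CharP.char_is_prime F p⟩
  obtain ⟨n, hn, hqn, ⟨-, -, hd, -⟩ | ⟨hp2, -, hd, -⟩⟩ := PSL2.q_cases (F := F) p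
  · -- `L` is everything
    have htop : φ.range = ⊤ := Subgroup.index_eq_one.1 (by rw [PSL2.index_range_toPGL, hd])
    rw [htop, inf_top_eq]
    let e := (Subgroup.topEquiv (G := PSL2.PGL2 F))
    show IsCoatom (M.subgroupOf ⊤)
    have h := (e.symm.mapSubgroup.isCoatom_iff M).2 hM
    convert h using 1
    ext x
    rw [Subgroup.mem_subgroupOf]
    constructor
    · intro hx
      exact ⟨(x : PSL2.PGL2 F), hx, Subtype.ext rfl⟩
    · rintro ⟨y, hy, rfl⟩
      exact hy
  have hN : IsCoatom (M.comap φ) := by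
    rcases PSL2.pgl_isCoatom_cases p hp2 (by omega) hM hML with ⟨-, h⟩ | ⟨k, hk, hside, -, ⟨e⟩⟩ |
      ⟨hq, h8, -, ⟨e⟩⟩ | ⟨R, m, -, -, -, -, h⟩
    · exact h
    · refine PSL2.dihedral_isCoatom hk ?_ (by omega) h7 h9 (fun h => absurd h h11) e
      rw [hd]
      rcases hside with h | h <;> omega
    · have hpp : p.Prime := Fact.out
      have hcN : Nat.card (M.comap φ) = 12 := (Nat.card_congr e.toEquiv).trans PSL2.card_alt_four
      have hp5' : 5 ∣ Nat.card F * (Nat.card F ^ 2 - 1) → p = 5 := by
        intro h5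
        have h40' := hq40 (by rw [hq]; exact hpp)
        simp only [Finset.mem_insert, Finset.mem_singleton, not_or] at h40'
        rw [hq] at h5 h40'
        rcases (Nat.Prime.dvd_mul (by norm_num : (5 : ℕ).Prime)).1 h5 with h | h
        · exact ((Nat.prime_dvd_prime_iff_eq (by norm_num) hpp).1 h).symm
        · exfalso
          have hsq : p ^ 2 % 5 = 1 := by have := Nat.one_le_pow 2 p hpp.pos; omega
          rw [Nat.pow_mod] at hsq
          have := Nat.mod_lt p (show 5 > 0 by norm_num)
          rcases (show p % 5 = 0 ∨ p % 5 = 1 ∨ p % 5 = 2 ∨ p % 5 = 3 ∨ p % 5 = 4 by omega) with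
            r | r | r | r | r <;> rw [r] at hsq <;> norm_num at hsq <;> omega
      refine PSL2.isCoatom_of_forall (fun ht => ?_) fun H hle hH => ?_
      · have h := PSL2.card_psl_mul (F := F)
        rw [ht, Subgroup.card_top] at hcN
        rw [hcN, hd] at h
        have : 4 * (5 * 3) ≤ Nat.card F * ((Nat.card F + 1) * (Nat.card F - 1)) :=
          Nat.mul_le_mul h4 (Nat.mul_le_mul (by omega) (by omega))
        omega
      · rcases PSL2.overgroup_cases p hle (PSL2.oddPair_altFour.of_equiv e)
          (fun P hP => hp2 (PSL2.eq_two_of_altFour_le_stabilizer p ((M.comap φ).subtype.comp e.symm.toMonoidHom)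
            (Subtype.coe_injective.comp e.symm.injective) fun g => hP (Subtype.prop _))) with
          ⟨hpH, ⟨⟨e'⟩⟩ | ⟨⟨e'⟩⟩ | ⟨⟨e'⟩⟩⟩ | ⟨h3, -, -⟩ | ⟨R, m, hm, hR, ⟨⟨e'⟩⟩ | ⟨-, hme, -⟩⟩
        · exact PSL2.eq_of_le_of_card hle (by rw [hcN, Nat.card_congr e'.toEquiv, PSL2.card_alt_four])
        · exfalso
          have h16 := PSL2.exists_permFour_sub_iff.1 ⟨H, ⟨e'⟩⟩
          rw [hq, Nat.pow_mod] at h16
          have := Nat.mod_lt p (show 16 > 0 by norm_num)
          rcases (show p % 16 = 3 ∨ p % 16 = 11 ∨ p % 16 = 5 ∨ p % 16 = 13 by omega) with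
            s | s | s | s <;> rw [s] at h16 <;> norm_num at h16
        · exfalso
          have h5 := hp5' (PSL2.exists_alternatingFive_sub_iff.1 ⟨H, ⟨e'⟩⟩)
          apply hpH
          rw [h5, Nat.card_congr e'.toEquiv, PSL2.card_alt_five]
          norm_num
        · omega
        · exfalso
          have hr1 : 1 < Nat.card R := Finite.one_lt_card
          have hm1 : m = 1 := by
            have h := hR.trans hq
            by_contra hne
            exact Nat.Prime.not_prime_pow (n := m) (by omega) (h ▸ hpp)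
          subst hm1
          rw [pow_one] at hR
          exact hH (PSL2.eq_top_of_psl hR e')
        · exfalso
          have hm1 : m = 1 := by
            have h := hR.trans hq
            by_contra hne
            exact Nat.Prime.not_prime_pow (n := m) (by omega) (h ▸ hpp)
          subst hm1
          exact absurd hme (by decide)
    · exact h
  let e := MonoidHom.ofInjective hinj
  have h := (e.mapSubgroup.isCoatom_iff (M.comap φ)).2 hN
  convert h using 1
  ext x
  rw [Subgroup.mem_subgroupOf]
  constructor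
  · intro hx
    obtain ⟨y, hy⟩ := x.2
    exact ⟨y, show φ y ∈ M from hy.symm ▸ hx.1, Subtype.ext hy⟩
  · rintro ⟨y, hy, rfl⟩
    exact ⟨hy, (e y).2⟩

end Cfsg.Agent.S5890
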