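import Cfsg.Statements.S5891
import Cfsg.Agent.Lib.PSL2.PGLSubfield

set_option autoImplicit false
open Cfsg

namespace Cfsg.Agent.S5891

/-- Let F be a finite field of odd order q > 3 and characteristic p, and let M be a maximal subgroup of PGL₂(F) not containing the image L of SL₂(F) (a copy of PSL₂(F) of index 2). Then one of the following holds: |M| = q(q − 1) (M is the stabiliser of a point of the projective line); q ≠ 5 and M is dihedral of order 2(q − 1); M is dihedral of order 2(q + 1); q = p ≡ ±3 (mod 8) and M ≅ S₄; or q = q₀^r for an odd prime r and M ≅ PGL₂(F₀) with |F₀| = q₀. -/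
theorem result {F : Type*} [Field F] [Fintype F]
    (hodd : Odd (Fintype.card F)) (h3 : 3 < Fintype.card F) (M : Subgroup (Matrix.ProjGenLinGroup (Fin 2) F)) (hM : IsCoatom M)
    (hML : ¬ (Matrix.ProjGenLinGroup.mk.comp Matrix.SpecialLinearGroup.toGL).range ≤ M) :
    Nat.card M = Fintype.card F * (Fintype.card F - 1) ∨
    (Fintype.card F ≠ 5 ∧ Nonempty (M ≃* DihedralGroup (Fintype.card F - 1))) ∨
    Nonempty (M ≃* DihedralGroup (Fintype.card F + 1)) ∨
    ((Fintype.card F).Prime ∧ (Fintype.card F % 8 = 3 ∨ Fintype.card F % 8 = 5) ∧ Nonempty (M ≃* Equiv.Perm (Fin 4))) ∨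
    (∃ (F₀ : Type) (_ : Field F₀) (_ : Fintype F₀) (r : ℕ), r.Prime ∧ Odd r ∧ Fintype.card F = Fintype.card F₀ ^ r ∧
        Nonempty (M ≃* Matrix.ProjGenLinGroup (Fin 2) F₀)) := by
  rw [← Nat.card_eq_fintype_card] at hodd h3 ⊢
  rw [PSL2.range_toPGL_eq] at hML
  obtain ⟨p, hp⟩ := CharP.exists F
  have : Fact p.Prime := ⟨CharP.char_is_prime F p⟩
  obtain ⟨n, hn, hqn, ⟨-, he, -, -⟩ | ⟨hp2, -, -, -⟩⟩ := PSL2.q_cases (F := F) p
  · exact absurd he (Nat.not_even_iff_odd.2 hodd)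
  rcases PSL2.pgl_isCoatom_cases p hp2 (by omega) hM hML with ⟨h, -⟩ | ⟨k, hk, hside, ⟨e⟩, -⟩ |
    ⟨hq, h8, h, -⟩ | ⟨R, m, hmp, hmo, hR, ⟨e⟩, -⟩
  · exact Or.inl h
  · rcases hside with h | h
    · refine Or.inr (Or.inl ⟨by omega, ?_⟩)
      rw [← h]; exact ⟨e⟩
    · refine Or.inr (Or.inr (Or.inl ?_))
      rw [← h]; exact ⟨e⟩
  · exact Or.inr (Or.inr (Or.inr (Or.inl ⟨hq ▸ (Fact.out : p.Prime), hq ▸ h8, h⟩)))
  · have := PSL2.charP_subfield p R
    have := Fintype.ofFinite R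
    obtain ⟨l, hl, hRl, -⟩ := PSL2.q_cases (F := R) p
    have hl0 : l ≠ 0 := by omega
    letI : Fintype (GaloisField p l) := Fintype.ofFinite _
    have hcard : Fintype.card R = Fintype.card (GaloisField p l) := by
      rw [← Nat.card_eq_fintype_card, ← Nat.card_eq_fintype_card, hRl, GaloisField.card p l hl0]
    let σ : R ≃+* GaloisField p l := FiniteField.ringEquivOfCardEq hcard
    refine Or.inr (Or.inr (Or.inr (Or.inr ⟨GaloisField p l, inferInstance, inferInstance, m, hmp,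
      hmo, ?_, ⟨e.trans (PSL2.pglEquiv σ)⟩⟩)))
    rw [← hcard, ← Nat.card_eq_fintype_card, hR]

end Cfsg.Agent.S5891
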