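import Cfsg.Statements.S5893
import Cfsg.Agent.Lib.PSL2.MaximalTypes

set_option autoImplicit false
open Cfsg

namespace Cfsg.Agent.S5893

/-- Let F be a finite field of even order q ≥ 4 and let M be a maximal subgroup of PSL₂(F) (= SL₂(F) = PGL₂(F)). Then one of the following holds: |M| = q(q − 1) (the stabiliser of a point of the projective line, elementary abelian of order q extended by a cyclic group of order q − 1); M is dihedral of order 2(q − 1); M is dihedral of order 2(q + 1); or q = q₀^r for a prime r with q₀ ≠ 2 and M ≅ PSL₂(F₀) with |F₀| = q₀. -/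
theorem result {F : Type*} [Field F] [Fintype F]
    (heven : Even (Fintype.card F)) (h4 : 4 ≤ Fintype.card F) (M : Subgroup (Matrix.ProjectiveSpecialLinearGroup (Fin 2) F)) (hM : IsCoatom M) :
    Nat.card M = Fintype.card F * (Fintype.card F - 1) ∨
    Nonempty (M ≃* DihedralGroup (Fintype.card F - 1)) ∨
    Nonempty (M ≃* DihedralGroup (Fintype.card F + 1)) ∨
    (∃ (F₀ : Type) (_ : Field F₀) (_ : Fintype F₀) (r : ℕ), r.Prime ∧ Fintype.card F₀ ≠ 2 ∧
        Fintype.card F = Fintype.card F₀ ^ r ∧ Nonempty (M ≃* Matrix.ProjectiveSpecialLinearGroup (Fin 2) F₀)) := by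
  rw [← Nat.card_eq_fintype_card] at heven h4 ⊢
  obtain ⟨p, hp⟩ := CharP.exists F
  have : Fact p.Prime := ⟨CharP.char_is_prime F p⟩
  obtain ⟨n, hn, hqn, ⟨rfl, -, hd, -⟩ | ⟨-, ho, -, -⟩⟩ := PSL2.q_cases (F := F) p
  swap
  · exact absurd heven (Nat.not_even_iff_odd.2 ho)
  rw [Nat.even_iff] at heven
  rcases PSL2.psl_dickson_std 2 M with ⟨-, S, hS⟩ | ⟨hpM, hc, -⟩ | ⟨k, hk2, hpk, -, -, ⟨e⟩⟩ |
    ⟨hpM, h⟩ | ⟨hp3, -, -⟩ | ⟨R, m, u, hm, hR, h⟩
  · left
    have h := PSL2.borel_of_isCoatom 2 hM hS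
    rwa [hd, one_mul] at h
  · exact (PSL2.cyclic_not_isCoatom 2 h4 hM hc hpM).elim
  · obtain ⟨-, hfull, -⟩ := PSL2.dihedral_full_of_isCoatom 2 h4 hM hk2 hpk e
    rw [hd, Nat.div_one, Nat.div_one] at hfull
    rcases hfull with rfl | rfl
    · exact Or.inr (Or.inl ⟨e⟩)
    · exact Or.inr (Or.inr (Or.inl ⟨e⟩))
  · exfalso
    apply hpM
    rcases h with ⟨⟨e⟩⟩ | ⟨⟨e⟩⟩ | ⟨⟨e⟩⟩
    · rw [Nat.card_congr e.toEquiv, PSL2.card_alt_four]; norm_num
    · rw [Nat.card_congr e.toEquiv, PSL2.card_perm_four]; norm_num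
    · rw [Nat.card_congr e.toEquiv, PSL2.card_alt_five]; norm_num
  · exact absurd hp3 (by norm_num)
  · have := PSL2.charP_subfield 2 R
    rcases PSL2.subfield_prime_of_isCoatom 2 hm hR hM h with ⟨⟨e⟩, hmp, -⟩ | ⟨-, -, h⟩
    swap
    · exact absurd rfl h
    obtain ⟨l, hl, hRl, ⟨-, -, hd', -⟩ | ⟨h', -⟩⟩ := PSL2.q_cases (F := R) 2
    swap
    · exact absurd rfl h'
    have hl0 : l ≠ 0 := by omega
    by_cases hR2 : Nat.card R = 2
    · -- the dihedral group of order six
      have hM6 : Nat.card M = 6 := by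
        have h' := PSL2.card_psl_mul (F := R)
        rw [hd', one_mul, hR2] at h'
        rw [Nat.card_congr e.toEquiv, h']
      have : Fact (Nat.Prime 3) := ⟨Nat.prime_three⟩
      obtain ⟨⟨x, hxM⟩, hx⟩ := exists_prime_orderOf_dvd_card' 3 (G := M) (by rw [hM6]; norm_num)
      rw [Subgroup.orderOf_mk] at hx
      have hxp : ¬ orderOf x ∣ 2 := by rw [hx]; norm_num
      have hCM : Subgroup.zpowers x ≤ M := Subgroup.zpowers_le.2 hxM
      have hidx : ((Subgroup.zpowers x).subgroupOf M).index = 2 := by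
        have h := ((Subgroup.zpowers x).subgroupOf M).index_mul_card
        rw [Nat.card_congr (Subgroup.subgroupOfEquivOfLe hCM).toEquiv, Nat.card_zpowers, hx,
          hM6] at h
        omega
      have hnorm := Subgroup.normal_of_index_eq_two hidx
      obtain ⟨hN, y, hyM, -, hy⟩ := PSL2.exists_torus_mem 2 h4 hM hxM hxp
        ((Subgroup.normal_subgroupOf_iff_le_normalizer hCM).1 hnorm)
      rw [hd, Nat.div_one, Nat.div_one] at hy
      have hy6 : orderOf y ∣ 6 := by
        have h := orderOf_dvd_natCard (⟨y, hyM⟩ : M)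
        rwa [hM6, Subgroup.orderOf_mk] at h
      have hle := Nat.le_of_dvd (by norm_num) hy6
      have hq : Nat.card F = 4 := by
        rcases hy with h | h <;> rw [h] at hy6 hle
        · by_contra hne
          have hq6 : Nat.card F = 6 := by omega
          rw [hq6] at hy6
          norm_num at hy6
        · have hq4 : Nat.card F = 4 := by omega
          exact hq4
      obtain ⟨w, hw2, hw⟩ := PSL2.exists_inverting 2 hxp
      have hwM : w ∈ M := by
        rw [← hN, Subgroup.mem_normalizer_iff_map_conj_eq]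
        show (Subgroup.zpowers x).map (MulAut.conj w).toMonoidHom = Subgroup.zpowers x
        rw [MonoidHom.map_zpowers]
        show Subgroup.zpowers (w * x * w⁻¹) = Subgroup.zpowers x
        rw [hw, Subgroup.zpowers_inv]
      have hwC : w ∉ Subgroup.zpowers x := by
        rintro ⟨i, rfl⟩
        rw [((Commute.refl x).zpow_left i).eq, mul_inv_cancel_right] at hw
        have h2 : x ^ 2 = 1 := by rw [pow_two]; nth_rewrite 1 [hw]; exact inv_mul_cancel x
        have := Nat.le_of_dvd two_pos (orderOf_dvd_of_pow_eq_one h2)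
        omega
      have hwo : orderOf w = 2 := orderOf_eq_prime (by rw [pow_two, hw2])
        (fun h => hwC (h ▸ one_mem _))
      refine Or.inr (Or.inl ?_)
      rw [hq]
      refine PSL2.mulEquiv_dihedral (n := 3) hM6 (by norm_num) (⟨x, hxM⟩ : M) ⟨w, hwM⟩
        (by rw [Subgroup.orderOf_mk, hx]) (by rw [Subgroup.orderOf_mk, hwo]) (Subtype.ext ?_) ?_
      · show w * x * w = x⁻¹
        rwa [inv_eq_of_mul_eq_one_right hw2] at hw
      · rintro ⟨i, hi⟩
        exact hwC ⟨i, by simpa using congrArg Subtype.val hi⟩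
    · have := Fintype.ofFinite R
      letI : Fintype (GaloisField 2 l) := Fintype.ofFinite _
      have hcard : Fintype.card R = Fintype.card (GaloisField 2 l) := by
        rw [← Nat.card_eq_fintype_card, ← Nat.card_eq_fintype_card, hRl, GaloisField.card 2 l hl0]
      let σ : R ≃+* GaloisField 2 l := FiniteField.ringEquivOfCardEq hcard
      refine Or.inr (Or.inr (Or.inr ⟨GaloisField 2 l, inferInstance, inferInstance, m, hmp, ?_, ?_,
        ⟨e.trans (PSL2.pslEquiv σ)⟩⟩))
      · rw [← hcard, ← Nat.card_eq_fintype_card]; exact hR2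
      · rw [← hcard, ← Nat.card_eq_fintype_card, hR]

end Cfsg.Agent.S5893
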