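import Cfsg.Statements.S5894
import Cfsg.Agent.EqLemmas
import Cfsg.Agent.S5905

set_option autoImplicit false
open Cfsg

namespace Cfsg.Agent.S5894

open MulAction
open scoped Pointwise

/-- The permutations fixing a point, as permutations of the other points. -/
def stabEquiv {X : Type*} [DecidableEq X] (a : X) :
    stabilizer (Equiv.Perm X) a ≃* Equiv.Perm {x : X // x ≠ a} where
  toFun g := (g : Equiv.Perm X).subtypePerm fun x => by
    have hg : (g : Equiv.Perm X) a = a := g.2
    exact not_congr ⟨fun h => (g : Equiv.Perm X).injective (h.trans hg.symm), fun h => h ▸ hg⟩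
  invFun π := ⟨Equiv.Perm.ofSubtype π, Equiv.Perm.ofSubtype_apply_of_not_mem _ (by simp)⟩
  left_inv g := Subtype.ext <| Equiv.Perm.ofSubtype_subtypePerm _ fun x hx h => hx (h ▸ g.2)
  right_inv π := by ext; simp [Equiv.Perm.subtypePerm_apply]
  map_mul' g h := by ext; rfl

/-- For every m ≥ 2 the symmetric group on 2m letters has a maximal subgroup M of index 2m together with a maximal subgroup H of M that is not second maximal: some maximal subgroup K of the symmetric group contains H without H being maximal in K. (One may take M the stabiliser of a letter, H ≅ S_m × S_{m−1} inside it, and K ≅ S_m ≀ S₂ the stabiliser of a partition into two m-sets, with H < S_m × S_m < K.) So the prime-index hypothesis in the second-maximality criterion cannot be relaxed to any even index ≥ 4. -/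
theorem result (m : ℕ) (hm : 2 ≤ m) :
    ∃ M H K : Subgroup (Equiv.Perm (Fin (2 * m))), IsCoatom M ∧ M.index = 2 * m ∧ H ≤ M ∧ IsCoatom (H.subgroupOf M) ∧
      IsCoatom K ∧ H ≤ K ∧ ¬ IsCoatom (H.subgroupOf K) := by
  classical
  let f : Fin (2 * m) → Fin 2 := fun x => if x.1 < m then 0 else 1
  have hf : ∀ i : Fin 2, Nat.card {x : Fin (2 * m) // f x = i} = m := by
    intro i
    have e0 : {x : Fin (2 * m) // f x = 0} ≃ Fin m :=
      { toFun := fun x => ⟨x.1.1, by by_contra h; exact absurd x.2 (by simp [f, h])⟩
        invFun := fun x => ⟨⟨x.1, by omega⟩, by simp [f]⟩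
        left_inv := fun x => rfl
        right_inv := fun x => rfl }
    have hge : ∀ x : {x : Fin (2 * m) // f x = 1}, m ≤ x.1.1 := fun x => by
      by_contra h; exact absurd x.2 (by simp [f, not_le.1 h])
    let e1 : {x : Fin (2 * m) // f x = 1} ≃ Fin m :=
      { toFun := fun x => ⟨x.1.1 - m, by have := x.1.2; have := hge x; omega⟩
        invFun := fun x => ⟨⟨x.1 + m, by omega⟩, by simp [f]⟩
        left_inv := fun x => by
          apply Subtype.ext; apply Fin.ext
          show x.1.1 - m + m = x.1.1
          have := hge x; omega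
        right_inv := fun x => by
          apply Fin.ext
          show x.1 + m - m = x.1
          omega }
    fin_cases i
    · exact (Nat.card_congr e0).trans (Nat.card_fin m)
    · exact (Nat.card_congr e1).trans (Nat.card_fin m)
  set K := Subgroup.closure {g : Equiv.Perm (Fin (2 * m)) | ∀ x y, f x = f y ↔ f (g x) = f (g y)} with hKdef
  have hK : IsCoatom K := Cfsg.Agent.S5905.result m 2 hm le_rfl f hf
  let B : Set (Fin (2 * m)) := {x | f x = 0}
  let a : Fin (2 * m) := ⟨0, by omega⟩
  let b : Fin (2 * m) := ⟨1, by omega⟩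
  have ha : a ∈ B := by simp [B, f, a]; omega
  have hb : b ∈ B := by simp [B, f, b]; omega
  have hab : a ≠ b := by simp [a, b]
  haveI : Nontrivial (Fin (2 * m)) := Fin.nontrivial_iff_two_le.2 (by omega)
  have hMcoat : IsCoatom (stabilizer (Equiv.Perm (Fin (2 * m))) a) :=
    IsPreprimitive.isCoatom_stabilizer_of_isPreprimitive (G := Equiv.Perm (Fin (2 * m))) a
  have hidx : (stabilizer (Equiv.Perm (Fin (2 * m))) a).index = 2 * m := by
    rw [index_stabilizer_of_transitive, Nat.card_fin]
  let H := stabilizer (Equiv.Perm (Fin (2 * m))) a ⊓ stabilizer (Equiv.Perm (Fin (2 * m))) B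
  have hLK : stabilizer (Equiv.Perm (Fin (2 * m))) B ≤ K := by
    intro g hg
    refine Subgroup.subset_closure fun x y => ?_
    have key : ∀ z, f (g z) = 0 ↔ f z = 0 := by
      intro z
      have := congrArg (fun S : Set (Fin (2 * m)) => g z ∈ S) (mem_stabilizer_iff.1 hg)
      simp only [eq_iff_iff] at this
      rw [← Equiv.Perm.smul_def, Set.smul_mem_smul_set_iff] at this
      exact this.symm
    have : ∀ u v : Fin 2, u = v ↔ (u = 0 ↔ v = 0) := by decide
    rw [this (f x), this (f (g x)), key, key]
  refine ⟨stabilizer (Equiv.Perm (Fin (2 * m))) a, H, K, hMcoat, hidx, inf_le_left, ?_, hK, inf_le_right.trans hLK, ?_⟩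
  · -- `H` is maximal in the point stabiliser
    let B' : Set {x : Fin (2 * m) // x ≠ a} := {x | f x.1 = 0}
    have hcard : Nat.card {x : Fin (2 * m) // x ≠ a} = 2 * m - 1 := by
      rw [Nat.card_eq_fintype_card]; simp
    have hB' : B'.ncard = m - 1 := by
      have e : Subtype.val '' B' = B \ {a} := by
        ext x
        simp only [B', B, Set.mem_image, Set.mem_ofPred_eq, Set.mem_sdiff, Set.mem_singleton_iff, Subtype.exists,
          exists_and_left, exists_prop]
        exact ⟨fun ⟨y, h1, h2, h3⟩ => h3 ▸ ⟨h1, h2⟩, fun ⟨h1, h2⟩ => ⟨x, h1, h2, rfl⟩⟩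
      rw [← Set.ncard_image_of_injective _ Subtype.val_injective, e, Set.ncard_sdiff_singleton_of_mem ha,
        ← Nat.card_coe_set_eq]
      exact congrArg (· - 1) (hf 0)
    have hH : H.subgroupOf (stabilizer (Equiv.Perm (Fin (2 * m))) a) =
        MulEquiv.comapSubgroup (stabEquiv a) (stabilizer (Equiv.Perm {x : Fin (2 * m) // x ≠ a}) B') := by
      ext g
      have hga : (g : Equiv.Perm (Fin (2 * m))) a = a := g.2
      simp only [H, MulEquiv.comapSubgroup, RelIso.coe_fn_mk, Equiv.coe_fn_mk, Subgroup.mem_comap,
        Subgroup.mem_subgroupOf, Subgroup.mem_inf, SetLike.coe_mem, true_and]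
      rw [mem_stabilizer_set, mem_stabilizer_set]
      constructor
      · intro h x
        exact h x.1
      · intro h x
        rcases eq_or_ne x a with rfl | hx
        · rw [Equiv.Perm.smul_def, hga]
        · exact h ⟨x, hx⟩
    rw [hH]
    refine (OrderIso.isCoatom_iff (MulEquiv.comapSubgroup (stabEquiv a)) _).2
      (Equiv.Perm.isCoatom_stabilizer ?_ ?_ ?_)
    · exact ⟨⟨b, hab.symm⟩, hb⟩
    · refine ⟨⟨⟨m, by omega⟩, by simp [a]; omega⟩, ?_⟩
      simp [B', f]
    · rw [hcard, hB']; omega
  · -- but the stabiliser of `B` is in between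
    intro hco
    have hlt : H.subgroupOf K < (stabilizer (Equiv.Perm (Fin (2 * m))) B).subgroupOf K := by
      refine lt_of_le_of_ne (Subgroup.comap_mono inf_le_right) fun h => ?_
      have hs : Equiv.swap a b ∈ stabilizer (Equiv.Perm (Fin (2 * m))) B :=
        Equiv.Perm.swap_mem_stabilizer ha hb
      have : (⟨_, hLK hs⟩ : K) ∈ H.subgroupOf K := h ▸ hs
      have h1 : Equiv.swap a b a = a := this.1
      rw [Equiv.swap_apply_left] at h1
      exact hab h1.symm
    obtain ⟨e, he⟩ := Partition.exists_transport f hf
    let flip : Equiv.Perm (Fin (2 * m)) := e.symm.permCongr (Partition.lift (Equiv.swap 0 1))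
    have hflip : flip ∈ K := by
      rw [hKdef, Partition.setOf_eq_map f e he, Subgroup.mem_comap]
      convert Partition.lift_mem (a := m) (Equiv.swap (0 : Fin 2) 1) using 1
      exact Equiv.ext fun x => by simp [flip, Equiv.permCongr_apply]
    have : (⟨flip, hflip⟩ : K) ∈ (stabilizer (Equiv.Perm (Fin (2 * m))) B).subgroupOf K :=
      (hco.2 _ hlt) ▸ Subgroup.mem_top _
    have h2 : flip a ∈ B := (mem_stabilizer_set.1 this a).2 ha
    have h3 : f (flip a) = 1 := by
      rw [← he]
      simp [flip, Equiv.permCongr_apply, Partition.lift_apply, he, show f a = 0 from ha]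
    exact absurd (h2.symm.trans h3) (by decide)

end Cfsg.Agent.S5894
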