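import Cfsg.Statements.S5895
import Cfsg.Agent.EqLemmas

set_option autoImplicit false
open Cfsg

namespace Cfsg.Agent.S5895

/-- An invariant subgroup of the additive group of `F_p^d` (`d ≥ 2`) is trivial or everything. -/
lemma eq_top_of_invariant (p d : ℕ) [Fact p.Prime] (hd : 2 ≤ d)
    (W : Subgroup (Multiplicative (Fin d → ZMod p)))
    (hW : ∀ a : MulAut (Multiplicative (Fin d → ZMod p)), ∀ w ∈ W, a w ∈ W) (hne : W ≠ ⊥) : W = ⊤ := by
  classical
  obtain ⟨w, hw, hw1⟩ := (Subgroup.bot_or_exists_ne_one W).resolve_left hne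
  let W' : Submodule (ZMod p) (Fin d → ZMod p) :=
    AddSubgroup.toZModSubmodule p (Subgroup.toAddSubgroup' W)
  have hmem : ∀ x, x ∈ W' ↔ Multiplicative.ofAdd x ∈ W := fun _ => Iff.rfl
  have hinv : ∀ (e : (Fin d → ZMod p) ≃ₗ[ZMod p] (Fin d → ZMod p)), ∀ x ∈ W', e x ∈ W' :=
    fun e x hx => (hmem _).2 (hW (AddEquiv.toMultiplicative e.toAddEquiv) _ ((hmem x).1 hx))
  have hv : w.toAdd ∈ W' := hw
  obtain ⟨i, hi⟩ : ∃ i, w.toAdd i ≠ 0 := by
    by_contra h
    push Not at h
    exact hw1 (congrArg Multiplicative.ofAdd (funext h : w.toAdd = 0))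
  have step : ∀ (j : Fin d) (x : Fin d → ZMod p), x ∈ W' → x j ≠ 0 → ∀ u : Fin d → ZMod p, u j = 0 → u ∈ W' := by
    intro j x hx hxj u hu
    have h := hinv (LinearEquiv.transvection (f := LinearMap.proj j) (v := u) hu) x hx
    have h' : (x + x j • u) - x ∈ W' := W'.sub_mem h hx
    rw [add_sub_cancel_left] at h'
    exact (W'.smul_mem_iff hxj).1 h'
  obtain ⟨j, hj⟩ : ∃ j : Fin d, j ≠ i := by
    by_cases h : (i : ℕ) = 0
    · exact ⟨⟨1, by omega⟩, fun h' => by rw [← h'] at h; simp at h⟩
    · exact ⟨⟨0, by omega⟩, fun h' => h (by rw [← h'])⟩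
  have hej : Pi.single j (1 : ZMod p) ∈ W' :=
    step i _ hv hi _ (Pi.single_eq_of_ne (Ne.symm hj) _)
  have hei : Pi.single i (1 : ZMod p) ∈ W' :=
    step j _ hej (by simp) _ (Pi.single_eq_of_ne hj _)
  rw [Subgroup.eq_top_iff']
  intro x
  have hx : x.toAdd - x.toAdd i • Pi.single i (1 : ZMod p) ∈ W' :=
    step i _ hv hi _ (by simp)
  have h := W'.add_mem hx (W'.smul_mem (x.toAdd i) hei)
  rw [sub_add_cancel] at h
  exact (hmem _).1 h

/-- For every prime p and every d ≥ 2 there is a finite group G with a maximal subgroup M of index p^d and a maximal subgroup H of M that is not second maximal in G: some maximal subgroup K of G contains H without H being maximal in K. (One may take G the affine group V ⋊ GL(V) of V = 𝔽_p^d, M = GL(V), H the stabiliser in M of a line W of V, and K = V ⋊ H, with H < W ⋊ H < K.) So the prime-index hypothesis in the second-maximality criterion cannot be relaxed to prime-power index. -/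
theorem result (p d : ℕ) (hp : p.Prime)
    (hd : 2 ≤ d) :
    ∃ (G : Type) (_ : Group G) (_ : Finite G) (M H K : Subgroup G), IsCoatom M ∧ M.index = p ^ d ∧ H ≤ M ∧
      IsCoatom (H.subgroupOf M) ∧ IsCoatom K ∧ H ≤ K ∧ ¬ IsCoatom (H.subgroupOf K) := by
  classical
  have : Fact p.Prime := ⟨hp⟩
  let N := Multiplicative (Fin d → ZMod p)
  have hFin : Finite (MulAut N) :=
    Finite.of_injective (fun (e : MulAut N) => (e : N → N)) DFunLike.coe_injective
  -- an irreducible group of least order
  let irr : Subgroup (MulAut N) → Prop := fun A =>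
    ∀ W : Subgroup N, (∀ a ∈ A, ∀ w ∈ W, a w ∈ W) → W = ⊥ ∨ W = ⊤
  have hirr0 : irr ⊤ := fun W hW => or_iff_not_imp_left.2 fun hne =>
    eq_top_of_invariant p d hd W (fun a => hW a (Subgroup.mem_top a)) hne
  have hex : ∃ k, ∃ A, irr A ∧ Nat.card A = k := ⟨_, ⊤, hirr0, rfl⟩
  obtain ⟨A, hA, hAk⟩ := Nat.find_spec hex
  have : Finite A := Subtype.finite
  have hcardN : Nat.card N = p ^ d := by
    rw [Nat.card_congr Multiplicative.toAdd, Nat.card_fun, Nat.card_zmod, Nat.card_fin]
  -- A is not trivial
  have hAne : A ≠ ⊥ := fun h => by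
    let u : N := Multiplicative.ofAdd (Pi.single ⟨0, by omega⟩ 1)
    rcases hA (Subgroup.zpowers u) (fun a ha w hw => by
      rw [h, Subgroup.mem_bot] at ha; rw [ha]; exact hw) with h' | h'
    · rw [Subgroup.zpowers_eq_bot] at h'
      have := congr_fun (congrArg Multiplicative.toAdd h') ⟨0, by omega⟩
      simp [u] at this
    · have h1 : Nat.card (Subgroup.zpowers u) = p ^ d := by rw [h', Subgroup.card_top, hcardN]
      have h2 : orderOf u ∣ p := orderOf_dvd_of_pow_eq_one (by
        apply Multiplicative.toAdd.injective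
        funext k
        show p • ((Pi.single ⟨0, by omega⟩ 1 : Fin d → ZMod p) k) = 0
        exact ZModModule.char_nsmul_eq_zero p _)
      rw [Nat.card_zpowers] at h1
      rw [h1] at h2
      have := Nat.le_of_dvd hp.pos h2
      have h3 : p ^ 1 < p ^ d := Nat.pow_lt_pow_right hp.one_lt (by omega)
      rw [pow_one] at h3
      omega
  have : Nontrivial A := (Subgroup.nontrivial_iff_ne_bot A).2 hAne
  obtain ⟨H, hH, -⟩ := (eq_top_or_exists_le_coatom (⊥ : Subgroup A)).resolve_left bot_ne_top
  -- H is reducible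
  obtain ⟨W, hW, hWb, hWt⟩ : ∃ W : Subgroup N, (∀ a ∈ H, ∀ w ∈ W, (a : MulAut N) w ∈ W) ∧ W ≠ ⊥ ∧ W ≠ ⊤ := by
    by_contra hc
    push Not at hc
    have hH' : irr (H.map A.subtype) := fun W hW => or_iff_not_imp_left.2 fun hne =>
      hc W (fun a ha => hW a ⟨a, ha, rfl⟩) hne
    have h1 := Nat.find_min' hex ⟨_, hH', rfl⟩
    rw [← hAk, Nat.card_congr (H.equivMapOfInjective A.subtype A.subtype_injective).toEquiv.symm] at h1
    exact hH.1 (Subgroup.eq_top_of_le_card H h1)
  let φ : A →* MulAut N := A.subtype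
  let G := SemidirectProduct N A φ
  have : Finite G := Finite.of_equiv _ SemidirectProduct.equivProd.symm
  let M : Subgroup G := (SemidirectProduct.inr : A →* G).range
  let H' : Subgroup G := H.map SemidirectProduct.inr
  let K : Subgroup G := H.comap SemidirectProduct.rightHom
  have hcM : Nat.card M = Nat.card A :=
    (Nat.card_congr (MonoidHom.ofInjective (f := (SemidirectProduct.inr : A →* G))
      SemidirectProduct.inr_injective).toEquiv).symm
  have hMi : M.index = p ^ d := by
    have h := Subgroup.card_mul_index M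
    rw [hcM, show Nat.card G = Nat.card N * Nat.card A from SemidirectProduct.card, hcardN,
      mul_comm (p ^ d)] at h
    exact Nat.eq_of_mul_eq_mul_left Nat.card_pos h
  have hM : IsCoatom M := by
    refine ⟨fun h => ?_, fun L hL => ?_⟩
    · have := hMi
      rw [h, Subgroup.index_top] at this
      exact absurd this (Nat.one_lt_pow (by omega) hp.one_lt).ne
    · rcases hA (L.comap SemidirectProduct.inl) (fun a ha w hw => by
        rw [Subgroup.mem_comap] at hw ⊢
        rw [show a w = φ ⟨a, ha⟩ w from rfl, SemidirectProduct.inl_aut, map_inv]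
        exact L.mul_mem (L.mul_mem (hL.le ⟨_, rfl⟩) hw) (L.inv_mem (hL.le ⟨_, rfl⟩))) with h | h
      · exfalso
        refine hL.not_ge fun x hx => ⟨x.right, ?_⟩
        have h1 : x.left ∈ L.comap SemidirectProduct.inl := by
          rw [Subgroup.mem_comap]
          have h2 : SemidirectProduct.inl x.left = x * (SemidirectProduct.inr x.right)⁻¹ := by
            rw [eq_mul_inv_iff_mul_eq, SemidirectProduct.inl_left_mul_inr_right]
          rw [h2]
          exact L.mul_mem hx (L.inv_mem (hL.le ⟨_, rfl⟩))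
        rw [h, Subgroup.mem_bot] at h1
        conv_rhs => rw [← SemidirectProduct.inl_left_mul_inr_right x, h1, map_one, one_mul]
      · rw [Subgroup.eq_top_iff']
        intro x
        rw [← SemidirectProduct.inl_left_mul_inr_right x]
        refine L.mul_mem ?_ (hL.le ⟨_, rfl⟩)
        have : x.left ∈ L.comap SemidirectProduct.inl := by rw [h]; trivial
        exact this
  have hHM : H' ≤ M := Subgroup.map_le_range _ _
  have hHK : H' ≤ K := by
    rintro _ ⟨a, ha, rfl⟩
    rw [Subgroup.mem_comap, SemidirectProduct.rightHom_inr]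
    exact ha
  refine ⟨G, inferInstance, inferInstance, M, H', K, hM, hMi, hHM, ?_,
    Subgroup.isCoatom_comap_of_surjective SemidirectProduct.rightHom_surjective hH, hHK, fun hc => ?_⟩
  · let e : A ≃* M := MonoidHom.ofInjective (f := (SemidirectProduct.inr : A →* G)) SemidirectProduct.inr_injective
    have he : H'.subgroupOf M = H.comap e.symm.toMonoidHom := by
      ext m
      rw [Subgroup.mem_subgroupOf, Subgroup.mem_comap]
      have hm : (m : G) = SemidirectProduct.inr (e.symm m) :=
        congrArg Subtype.val (e.apply_symm_apply m).symm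
      rw [hm]
      exact Subgroup.mem_map_iff_mem SemidirectProduct.inr_injective
    rw [he]
    exact Subgroup.isCoatom_comap_of_surjective e.symm.surjective hH
  · let L : Subgroup G :=
      { carrier := {g | g.left ∈ W ∧ g.right ∈ H}
        one_mem' := ⟨W.one_mem, H.one_mem⟩
        mul_mem' := fun {a b} ha hb => ⟨W.mul_mem ha.1 (hW _ ha.2 _ hb.1), H.mul_mem ha.2 hb.2⟩
        inv_mem' := fun {a} ha => ⟨hW _ (H.inv_mem ha.2) _ (W.inv_mem ha.1), H.inv_mem ha.2⟩ }
    obtain ⟨w, hw, hw1⟩ := (Subgroup.bot_or_exists_ne_one W).resolve_left hWb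
    have hlt : H'.subgroupOf K < L.subgroupOf K := by
      refine lt_of_le_of_ne ?_ fun heq => ?_
      · rintro x ⟨a, ha, hax⟩
        exact ⟨by rw [← hax]; exact W.one_mem, by rw [← hax]; exact ha⟩
      · have hwK : (SemidirectProduct.inl w : G) ∈ K := by
          rw [Subgroup.mem_comap, SemidirectProduct.rightHom_inl]; exact H.one_mem
        have h1 : (⟨_, hwK⟩ : K) ∈ L.subgroupOf K := ⟨hw, H.one_mem⟩
        rw [← heq] at h1
        obtain ⟨a, -, ha⟩ := h1
        exact hw1 (congrArg SemidirectProduct.left ha).symm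
    have h2 := hc.2 _ hlt
    rw [Subgroup.subgroupOf_eq_top] at h2
    refine hWt ((Subgroup.eq_top_iff' W).2 fun n => ?_)
    have h3 : (SemidirectProduct.inl n : G) ∈ K := by
      rw [Subgroup.mem_comap, SemidirectProduct.rightHom_inl]; exact H.one_mem
    exact (h2 h3).1

end Cfsg.Agent.S5895
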