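import Cfsg.Statements.S5896
import Cfsg.Agent.EqLemmas

set_option autoImplicit false
open Cfsg

namespace Cfsg.Agent.S5896

open scoped MatrixGroups commutatorElement

variable {R : Type*} [CommRing R]

/-- Upper unitriangular element. -/
def up (x : R) : Matrix.SpecialLinearGroup (Fin 2) R := ⟨!![1, x; 0, 1], by simp [Matrix.det_fin_two]⟩

/-- Lower unitriangular element. -/
def low (x : R) : Matrix.SpecialLinearGroup (Fin 2) R := ⟨!![1, 0; x, 1], by simp [Matrix.det_fin_two]⟩

/-- Diagonal element. -/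
def dia (u : Rˣ) : Matrix.SpecialLinearGroup (Fin 2) R :=
  ⟨!![(u : R), 0; 0, ((u⁻¹ : Rˣ) : R)], by simp [Matrix.det_fin_two]⟩

theorem up_val (x : R) : (up x : Matrix.SpecialLinearGroup (Fin 2) R).1 = !![1, x; 0, 1] := rfl

theorem low_val (x : R) : (low x : Matrix.SpecialLinearGroup (Fin 2) R).1 = !![1, 0; x, 1] := rfl

theorem dia_val (u : Rˣ) : (dia u).1 = !![(u : R), 0; 0, ((u⁻¹ : Rˣ) : R)] := rfl

theorem ext2 {g h : Matrix.SpecialLinearGroup (Fin 2) R} (h00 : g.1 0 0 = h.1 0 0) (h01 : g.1 0 1 = h.1 0 1)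
    (h10 : g.1 1 0 = h.1 1 0) (h11 : g.1 1 1 = h.1 1 1) : g = h := by
  refine Subtype.ext ?_
  ext i j
  fin_cases i <;> fin_cases j <;> assumption

theorem up_mul (x y : R) : up x * up y = up (x + y) := by
  apply ext2 <;> simp [Matrix.SpecialLinearGroup.coe_mul, up_val, Matrix.mul_apply, Fin.sum_univ_two, add_comm]

theorem low_mul (x y : R) : low x * low y = low (x + y) := by
  apply ext2 <;> simp [Matrix.SpecialLinearGroup.coe_mul, low_val, Matrix.mul_apply, Fin.sum_univ_two]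

theorem up_inv (x : R) : (up x)⁻¹ = up (-x) :=
  inv_eq_of_mul_eq_one_right (by rw [up_mul, add_neg_cancel]; apply ext2 <;> simp [Matrix.SpecialLinearGroup.coe_mul, up_val])

theorem low_inv (x : R) : (low x)⁻¹ = low (-x) :=
  inv_eq_of_mul_eq_one_right (by rw [low_mul, add_neg_cancel]; apply ext2 <;> simp [Matrix.SpecialLinearGroup.coe_mul, low_val])

theorem dia_inv (u : Rˣ) : (dia u)⁻¹ = dia u⁻¹ :=
  inv_eq_of_mul_eq_one_right (by apply ext2 <;> simp [Matrix.SpecialLinearGroup.coe_mul, dia_val, Matrix.mul_apply, Fin.sum_univ_two])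

theorem comm_dia_up (u : Rˣ) (x : R) : ⁅dia u, up x⁆ = up (((u : R) * u - 1) * x) := by
  rw [commutatorElement_def, dia_inv, up_inv]
  apply ext2 <;> simp [Matrix.SpecialLinearGroup.coe_mul, up_val, dia_val, Matrix.mul_apply, Fin.sum_univ_two] <;> ring_nf <;> simp

theorem comm_dia_low (u : Rˣ) (x : R) :
    ⁅dia u, low x⁆ = low ((((u⁻¹ : Rˣ) : R) * ((u⁻¹ : Rˣ) : R) - 1) * x) := by
  rw [commutatorElement_def, dia_inv, low_inv]
  apply ext2 <;> simp [Matrix.SpecialLinearGroup.coe_mul, low_val, dia_val, Matrix.mul_apply, Fin.sum_univ_two] <;> ring_nf <;> simp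

theorem low_of_unit (g : Matrix.SpecialLinearGroup (Fin 2) R) (c : Rˣ) (hc : g.1 1 0 = c) :
    low (c : R) = up ((1 - g.1 0 0) * ((c⁻¹ : Rˣ) : R)) * g * up ((1 - g.1 1 1) * ((c⁻¹ : Rˣ) : R)) := by
  have hdet : g.1 0 0 * g.1 1 1 - g.1 0 1 * g.1 1 0 = 1 := by
    have := g.2; rwa [Matrix.det_fin_two] at this
  have hci : (c : R) * ((c⁻¹ : Rˣ) : R) = 1 := by simp
  apply ext2 <;> simp [Matrix.SpecialLinearGroup.coe_mul, low_val, up_val, Matrix.mul_apply, Fin.sum_univ_two, Matrix.vecMul, dotProduct, hc]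
  rw [hc] at hdet
  · linear_combination (((c⁻¹ : Rˣ) : R)) * hdet + g.1 0 1 * hci
  · linear_combination -(1 - g.1 1 1) * hci

/-- Over a local ring, a subgroup with all unitriangular elements is everything. -/
theorem eq_top_of_mem [IsLocalRing R] (K : Subgroup (Matrix.SpecialLinearGroup (Fin 2) R))
    (hup : ∀ x, up x ∈ K) (hlow : ∀ x, low x ∈ K) : K = ⊤ := by
  refine eq_top_iff.2 fun g _ => ?_
  have main : ∀ g : Matrix.SpecialLinearGroup (Fin 2) R, IsUnit (g.1 1 0) → g ∈ K := by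
    intro g hu
    obtain ⟨c, hc⟩ := hu
    have := hlow (c : R)
    rw [low_of_unit g c hc.symm] at this
    exact (K.mul_mem_cancel_left (hup _)).1 ((K.mul_mem_cancel_right (hup _)).1 this)
  by_cases hu : IsUnit (g.1 1 0)
  · exact main g hu
  · have : (low (1 : R) * g).1 1 0 = g.1 0 0 + g.1 1 0 := by
      simp [Matrix.SpecialLinearGroup.coe_mul, low_val, Matrix.mul_apply, Fin.sum_univ_two]
    refine (K.mul_mem_cancel_left (hlow 1)).1 (main _ ?_)
    rw [this]
    by_contra h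
    have h00 : g.1 0 0 ∈ nonunits R := by
      intro ha
      rcases IsLocalRing.isUnit_or_isUnit_of_isUnit_add (a := g.1 0 0 + g.1 1 0) (b := -g.1 1 0)
        (by simpa using ha) with h' | h'
      · exact h h'
      · exact hu (by simpa using h')
    have hdet : g.1 0 0 * g.1 1 1 + -(g.1 0 1 * g.1 1 0) = 1 := by
      have := g.2
      rw [Matrix.det_fin_two] at this
      rw [← sub_eq_add_neg]; exact this
    rcases IsLocalRing.isUnit_or_isUnit_of_add_one hdet with h' | h'
    · exact h00 (isUnit_of_mul_isUnit_left h')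
    · exact hu (isUnit_of_mul_isUnit_right (by simpa using h'))

theorem z5_facts : (1 : ZMod 5) ≠ 0 ∧ (2 : ZMod 5) ≠ 0 ∧ (5 : ZMod 5) = 0 := by decide

section Fixed

variable (k : ℕ)

/-- The group. -/
abbrev G5 := Matrix.SpecialLinearGroup (Fin 2) (ZMod (5 ^ (k + 1)))

theorem pow_ne_one : 1 < 5 ^ (k + 1) := Nat.one_lt_pow (by omega) (by norm_num)

instance : IsLocalRing (ZMod (5 ^ (k + 1))) := by
  haveI : Fact (Nat.Prime 5) := ⟨by norm_num⟩
  haveI : Fact (1 < 5 ^ (k + 1)) := ⟨pow_ne_one k⟩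
  haveI : NeZero (5 ^ (k + 1)) := ⟨by positivity⟩
  refine IsLocalRing.of_nonunits_add fun a b ha hb hab => ?_
  have key : ∀ z : ZMod (5 ^ (k + 1)), IsUnit z ↔ ¬ 5 ∣ z.val := by
    intro z
    conv_lhs => rw [← ZMod.natCast_zmod_val z]
    rw [ZMod.isUnit_iff_coprime, Nat.coprime_pow_right_iff (by omega), Nat.coprime_comm,
      (by norm_num : Nat.Prime 5).coprime_iff_not_dvd]
  rw [mem_nonunits_iff, key, not_not] at ha hb
  refine (key _).1 hab ?_
  rw [ZMod.val_add]
  exact (Nat.dvd_mod_iff (dvd_pow_self 5 (by omega))).2 (dvd_add ha hb)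

/-- Reduction to the field with five elements. -/
def red : ZMod (5 ^ (k + 1)) →+* ZMod 5 := ZMod.castHom (dvd_pow_self 5 (by omega)) (ZMod 5)

theorem isUnit_of_red {x : ZMod (5 ^ (k + 1))} (h : red k x ≠ 0) : IsUnit x := by
  haveI : NeZero (5 ^ (k + 1)) := ⟨by positivity⟩
  rw [← ZMod.natCast_zmod_val x, ZMod.isUnit_iff_coprime, Nat.coprime_pow_right_iff (by omega), Nat.coprime_comm,
    (by norm_num : Nat.Prime 5).coprime_iff_not_dvd]
  intro h5
  apply h
  rw [← ZMod.natCast_zmod_val x, map_natCast]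
  exact (ZMod.natCast_eq_zero_iff _ _).2 h5

/-- The preimage of the Borel subgroup. -/
def borel : Subgroup (G5 k) where
  carrier := {g | red k (g.1 1 0) = 0}
  mul_mem' {g h} hg hh := by
    simp only [Set.mem_ofPred_eq] at hg hh ⊢
    simp [Matrix.mul_apply, Fin.sum_univ_two, hg, hh]
  one_mem' := by simp
  inv_mem' {g} hg := by
    simp only [Set.mem_ofPred_eq] at hg ⊢
    rw [Matrix.SpecialLinearGroup.coe_inv, Matrix.adjugate_fin_two]
    simp [hg]

theorem mem_borel {g : G5 k} : g ∈ borel k ↔ red k (g.1 1 0) = 0 := Iff.rfl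

theorem perfect : commutator (G5 k) = ⊤ := by
  have h3 : IsUnit ((3 : ZMod (5 ^ (k + 1)))) := isUnit_of_red k (by rw [map_ofNat]; decide)
  have h2 : IsUnit ((2 : ZMod (5 ^ (k + 1)))) := isUnit_of_red k (by rw [map_ofNat]; decide)
  obtain ⟨t, ht⟩ := h3
  obtain ⟨u, hu⟩ := h2
  apply eq_top_of_mem
  · intro x
    have := Subgroup.commutator_mem_commutator (Subgroup.mem_top (dia u))
      (Subgroup.mem_top (up (((t⁻¹ : _ˣ) : ZMod (5 ^ (k + 1))) * x)))
    rw [comm_dia_up, hu, show (2 : ZMod (5 ^ (k + 1))) * 2 - 1 = t by rw [ht]; norm_num, ← mul_assoc,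
      Units.mul_inv, one_mul] at this
    rwa [commutator_def]
  · intro x
    have := Subgroup.commutator_mem_commutator (Subgroup.mem_top (dia u⁻¹))
      (Subgroup.mem_top (low (((t⁻¹ : _ˣ) : ZMod (5 ^ (k + 1))) * x)))
    rw [comm_dia_low, inv_inv, hu, show (2 : ZMod (5 ^ (k + 1))) * 2 - 1 = t by rw [ht]; norm_num, ← mul_assoc,
      Units.mul_inv, one_mul] at this
    rwa [commutator_def]

theorem isCoatom_borel : IsCoatom (borel k) := by
  refine ⟨fun h => ?_, fun K hK => ?_⟩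
  · have : low (1 : ZMod (5 ^ (k + 1))) ∈ borel k := h ▸ Subgroup.mem_top _
    rw [mem_borel] at this
    simp [low_val] at this
    exact absurd this (by decide)
  · obtain ⟨g, hgK, hg⟩ := SetLike.exists_of_lt hK
    obtain ⟨c, hc⟩ := isUnit_of_red k (fun h => hg ((mem_borel k).2 h))
    have hup : ∀ x, up x ∈ K := fun x => hK.le ((mem_borel k).2 (by simp [Matrix.SpecialLinearGroup.coe_mul, up_val]))
    refine eq_top_of_mem K hup fun x => ?_
    have hc' : low (c : ZMod (5 ^ (k + 1))) ∈ K := by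
      rw [low_of_unit g c hc.symm]
      exact K.mul_mem (K.mul_mem (hup _) hgK) (hup _)
    have hmul : ∀ n : ℕ, low ((n : ZMod (5 ^ (k + 1))) * c) ∈ K := by
      intro n
      induction n with
      | zero => rw [Nat.cast_zero, zero_mul, show low (0 : ZMod (5 ^ (k + 1))) = 1 by apply ext2 <;> simp [Matrix.SpecialLinearGroup.coe_mul, low_val]]; exact K.one_mem
      | succ n ih => rw [Nat.cast_succ, add_mul, one_mul, ← low_mul]; exact K.mul_mem ih hc'
    haveI : NeZero (5 ^ (k + 1)) := ⟨by positivity⟩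
    have := hmul ((x * ((c⁻¹ : _ˣ) : ZMod (5 ^ (k + 1)))).val)
    rwa [ZMod.natCast_zmod_val, mul_assoc, Units.inv_mul, mul_one] at this

theorem solvable_borel : Group.IsSolvable (borel k) := by
  induction k with
  | zero =>
    have hinj : Function.Injective (red 0) := by
      intro a b h
      revert a b
      decide
    let a : borel 0 →* ZMod 5 :=
      { toFun := fun g => red 0 (g.1.1 0 0)
        map_one' := by simp
        map_mul' := fun g h => by
          have := (mem_borel 0).1 h.2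
          simp [Matrix.mul_apply, Fin.sum_univ_two, this] }
    let χ : borel 0 →* (ZMod 5)ˣ := a.toHomUnits
    have hker : ∀ g ∈ χ.ker, (g : borel 0).1.1 0 0 = 1 ∧ g.1.1 1 0 = 0 ∧ g.1.1 1 1 = 1 := by
      intro g hg
      have h1 : red 0 (g.1.1 0 0) = 1 := congrArg Units.val (MonoidHom.mem_ker.1 hg)
      have h0 := (mem_borel 0).1 g.2
      have hdet : g.1.1 0 0 * g.1.1 1 1 - g.1.1 0 1 * g.1.1 1 0 = 1 := by
        have := g.1.2; rwa [Matrix.det_fin_two] at this
      have h0' : g.1.1 1 0 = 0 := hinj (by rw [h0, map_zero])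
      have h1' : g.1.1 0 0 = 1 := hinj (by rw [h1, map_one])
      rw [h0', h1'] at hdet
      exact ⟨h1', h0', by simpa using hdet⟩
    haveI : IsMulCommutative χ.ker := ⟨⟨fun g h => by
      obtain ⟨g00, g10, g11⟩ := hker g.1 g.2
      obtain ⟨h00, h10, h11⟩ := hker h.1 h.2
      refine Subtype.ext (Subtype.ext ?_)
      show (g.1.1 * h.1.1 : G5 0) = h.1.1 * g.1.1
      apply ext2 <;> simp [Matrix.mul_apply, Fin.sum_univ_two, g00, g10, g11, h00, h10, h11, add_comm]⟩⟩
    haveI : Group.IsSolvable χ.ker := Group.isSolvable_of_comm fun a b => mul_comm' a b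
    exact Group.isSolvable_of_ker_le_range χ.ker.subtype χ (by simp)
  | succ k ih =>
    have hdvd : 5 ^ (k + 1) ∣ 5 ^ (k + 1 + 1) := pow_dvd_pow 5 (by omega)
    let π : ZMod (5 ^ (k + 1 + 1)) →+* ZMod (5 ^ (k + 1)) := ZMod.castHom hdvd _
    let Φ : G5 (k + 1) →* G5 k := Matrix.SpecialLinearGroup.map π
    have hred : ∀ x, red k (π x) = red (k + 1) x := fun x => by
      simp only [red, π, ← RingHom.comp_apply, ZMod.castHom_comp]
    let f : borel (k + 1) →* borel k :=
      (Φ.comp (borel (k + 1)).subtype).codRestrict _ fun g => by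
        rw [mem_borel]
        exact (hred _).trans ((mem_borel _).1 g.2)
    have hnil : ∀ x y : ZMod (5 ^ (k + 1 + 1)), π x = 0 → π y = 0 → x * y = 0 := by
      intro x y hx hy
      haveI : NeZero (5 ^ (k + 1 + 1)) := ⟨by positivity⟩
      rw [← ZMod.natCast_zmod_val x, map_natCast, ZMod.natCast_eq_zero_iff] at hx
      rw [← ZMod.natCast_zmod_val y, map_natCast, ZMod.natCast_eq_zero_iff] at hy
      rw [← ZMod.natCast_zmod_val x, ← ZMod.natCast_zmod_val y, ← Nat.cast_mul, ZMod.natCast_eq_zero_iff]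
      refine dvd_trans ?_ (mul_dvd_mul hx hy)
      rw [← pow_add]
      exact pow_dvd_pow 5 (by omega)
    haveI : IsMulCommutative f.ker := ⟨⟨fun g h => by
      have ent : ∀ g : f.ker, ∀ i j, π (g.1.1.1 i j - (1 : Matrix (Fin 2) (Fin 2) _) i j) = 0 := by
        intro g i j
        have h1 : Φ g.1.1 = 1 := congrArg Subtype.val (MonoidHom.mem_ker.1 g.2)
        have h2 : π (g.1.1.1 i j) = (1 : Matrix (Fin 2) (Fin 2) _) i j := by
          have := congrArg (fun m : G5 k => m.1 i j) h1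
          simpa [Φ] using this
        rw [map_sub, h2]
        rcases eq_or_ne i j with rfl | h <;> simp [*]
      refine Subtype.ext (Subtype.ext (Subtype.ext ?_))
      show g.1.1.1 * h.1.1.1 = h.1.1.1 * g.1.1.1
      have h0 : ∀ a b : f.ker, (a.1.1.1 - 1) * (b.1.1.1 - 1) = 0 := by
        intro a b
        ext i j
        rw [Matrix.mul_apply]
        exact Finset.sum_eq_zero fun l _ => hnil _ _ (ent a i l) (ent b l j)
      have e1 := h0 g h
      have e2 := h0 h g
      have : g.1.1.1 * h.1.1.1 - h.1.1.1 * g.1.1.1 = 0 := by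
        have : g.1.1.1 * h.1.1.1 - h.1.1.1 * g.1.1.1 =
            (g.1.1.1 - 1) * (h.1.1.1 - 1) - (h.1.1.1 - 1) * (g.1.1.1 - 1) := by noncomm_ring
        rw [this, e1, e2, sub_zero]
      exact sub_eq_zero.1 this⟩⟩
    haveI := ih
    haveI : Group.IsSolvable f.ker := Group.isSolvable_of_comm fun a b => mul_comm' a b
    exact Group.isSolvable_of_ker_le_range f.ker.subtype f (by simp)

/-- The derived series of the Borel preimage contains deep elements. -/
theorem mem_derived [Fact (Nat.Prime 5)] : ∀ j : ℕ, (2 ^ j ≤ k) →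
    (∀ x, ∀ h : up ((5 : ZMod (5 ^ (k + 1))) ^ (2 ^ j) * x) ∈ borel k, ⟨_, h⟩ ∈ derivedSeries (borel k) j) ∧
    (∀ x, ∀ h : low ((5 : ZMod (5 ^ (k + 1))) ^ (2 ^ j) * x) ∈ borel k, ⟨_, h⟩ ∈ derivedSeries (borel k) j) ∧
    ∃ (u : (ZMod (5 ^ (k + 1)))ˣ) (w : ZMod (5 ^ (k + 1))), red k w ≠ 0 ∧
      (u : ZMod (5 ^ (k + 1))) = 1 + 5 ^ (2 ^ j) * w ∧
      ∀ h : dia u ∈ borel k, ⟨_, h⟩ ∈ derivedSeries (borel k) j := by
  intro j
  have h5 : red k (5 : ZMod (5 ^ (k + 1))) = 0 := by rw [map_ofNat]; exact z5_facts.2.2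
  have h5p : ∀ m, 1 ≤ m → red k ((5 : ZMod (5 ^ (k + 1))) ^ m) = 0 := fun m hm => by
    rw [map_pow, h5, zero_pow (by omega)]
  have hdia : ∀ u, dia u ∈ borel k := fun u => by rw [mem_borel]; simp [Matrix.SpecialLinearGroup.coe_mul, dia_val]
  have hupm : ∀ x, up x ∈ borel k := fun x => by rw [mem_borel]; simp [Matrix.SpecialLinearGroup.coe_mul, up_val]
  have hlowm : ∀ m, 1 ≤ m → ∀ x, low ((5 : ZMod (5 ^ (k + 1))) ^ m * x) ∈ borel k := fun m hm x => by
    rw [mem_borel]; simp [Matrix.SpecialLinearGroup.coe_mul, low_val, h5p m hm]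
  induction j with
  | zero =>
    intro _
    refine ⟨fun x h => by simp, fun x h => by simp, ?_⟩
    obtain ⟨u, hu⟩ : IsUnit ((1 : ZMod (5 ^ (k + 1))) + 5) := isUnit_of_red k (by rw [map_add, map_one, h5, add_zero]; exact z5_facts.1)
    exact ⟨u, 1, by rw [map_one]; exact z5_facts.1, by rw [hu]; ring, fun h => by simp⟩
  | succ j ih =>
    intro hjk
    have hj : 2 ^ j ≤ k := le_trans (Nat.pow_le_pow_right (by norm_num) (by omega)) hjk
    obtain ⟨hU, hL, u, w, hw, hu, hD⟩ := ih hj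
    set m := 2 ^ j with hm
    have hm1 : 1 ≤ m := Nat.one_le_two_pow
    have hm2 : 2 ^ (j + 1) = m + m := by rw [pow_succ, hm]; ring
    set P : ZMod (5 ^ (k + 1)) := 5 ^ m with hP
    have hPm : (5 : ZMod (5 ^ (k + 1))) ^ (2 ^ (j + 1)) = P * P := by rw [hm2, hP, ← pow_add]
    obtain ⟨t, ht⟩ : IsUnit (w * (2 + P * w)) := isUnit_of_red k (by
      rw [map_mul, map_add, map_mul, h5p m hm1, zero_mul, add_zero, map_ofNat]
      exact mul_ne_zero hw z5_facts.2.1)
    have hU' : ∀ x, ∀ h : up ((5 : ZMod (5 ^ (k + 1))) ^ (2 ^ (j + 1)) * x) ∈ borel k,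
        ⟨_, h⟩ ∈ derivedSeries (borel k) (j + 1) := by
      intro x h
      have := Subgroup.commutator_mem_commutator (hD (hdia u)) (hU (((t⁻¹ : _ˣ) : ZMod (5 ^ (k + 1))) * x) (hupm _))
      rw [derivedSeries_succ]
      convert this using 1
      refine Subtype.ext ?_
      simp only [commutatorElement_def, Subgroup.coe_mul, Subgroup.coe_inv]
      rw [← commutatorElement_def, comm_dia_up, hPm]
      congr 1
      rw [hu]
      have ht1 : (t : ZMod (5 ^ (k + 1))) * ((t⁻¹ : _ˣ) : ZMod (5 ^ (k + 1))) = 1 := by simp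
      linear_combination (-(P * P * x)) * ht1 + (P * P * ((t⁻¹ : _ˣ) : ZMod (5 ^ (k + 1))) * x) * ht
    have hL' : ∀ x, ∀ h : low ((5 : ZMod (5 ^ (k + 1))) ^ (2 ^ (j + 1)) * x) ∈ borel k,
        ⟨_, h⟩ ∈ derivedSeries (borel k) (j + 1) := by
      intro x h
      have hD' : ∀ h : dia u⁻¹ ∈ borel k, ⟨_, h⟩ ∈ derivedSeries (borel k) j := fun h => by
        convert (derivedSeries (borel k) j).inv_mem (hD (hdia u)) using 1
        exact Subtype.ext (dia_inv u).symm
      have := Subgroup.commutator_mem_commutator (hD' (hdia _))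
        (hL (((t⁻¹ : _ˣ) : ZMod (5 ^ (k + 1))) * x) (hlowm m hm1 _))
      rw [derivedSeries_succ]
      convert this using 1
      refine Subtype.ext ?_
      simp only [commutatorElement_def, Subgroup.coe_mul, Subgroup.coe_inv]
      rw [← commutatorElement_def, comm_dia_low, inv_inv, hPm]
      congr 1
      rw [hu]
      have ht1 : (t : ZMod (5 ^ (k + 1))) * ((t⁻¹ : _ˣ) : ZMod (5 ^ (k + 1))) = 1 := by simp
      linear_combination (-(P * P * x)) * ht1 + (P * P * ((t⁻¹ : _ˣ) : ZMod (5 ^ (k + 1))) * x) * ht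
    refine ⟨hU', hL', ?_⟩
    set Q : ZMod (5 ^ (k + 1)) := 5 ^ (2 ^ (j + 1)) with hQ
    have hQ0 : red k Q = 0 := h5p _ Nat.one_le_two_pow
    obtain ⟨v, hv⟩ : IsUnit (1 + Q * (1 + Q)) := isUnit_of_red k (by
      rw [map_add, map_mul, hQ0, zero_mul, add_zero, map_one]; exact one_ne_zero)
    refine ⟨v, 1 + Q, by rw [map_add, hQ0, add_zero, map_one]; exact one_ne_zero, hv, fun h => ?_⟩
    have hPP : P * P = Q := hPm.symm
    have h1 := Subgroup.commutator_mem_commutator (hU 1 (hupm _)) (hL 1 (hlowm m hm1 _))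
    rw [← derivedSeries_succ] at h1
    have hx := hL' (P * ((v⁻¹ : _ˣ) : ZMod (5 ^ (k + 1)))) (hlowm _ Nat.one_le_two_pow _)
    have hy := hU' (-(P * ((v⁻¹ : _ˣ) : ZMod (5 ^ (k + 1))))) (hupm _)
    convert ((derivedSeries (borel k) (j + 1)).mul_mem
      ((derivedSeries (borel k) (j + 1)).mul_mem ((derivedSeries (borel k) (j + 1)).inv_mem hx) h1)
      ((derivedSeries (borel k) (j + 1)).inv_mem hy)) using 1
    refine Subtype.ext ?_
    simp only [commutatorElement_def, Subgroup.coe_mul, Subgroup.coe_inv]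
    have hvv : ((v : (ZMod (5 ^ (k + 1)))ˣ) : ZMod (5 ^ (k + 1))) * ((v⁻¹ : _ˣ) : ZMod (5 ^ (k + 1))) = 1 := by simp
    have e : ∀ z : ZMod (5 ^ (k + 1)), P * (P * z) = Q * z := fun z => by rw [← mul_assoc, hPP]
    rw [eq_mul_inv_iff_mul_eq, eq_inv_mul_iff_mul_eq, up_inv, low_inv]
    rw [hv] at hvv
    apply ext2 <;>
      simp only [up_val, low_val, dia_val, Matrix.SpecialLinearGroup.coe_mul, Matrix.mul_apply, Fin.sum_univ_two, Matrix.of_apply, Matrix.cons_val', Matrix.cons_val_zero, Matrix.cons_val_one, Matrix.cons_val_fin_one, mul_one, hv] <;>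
      simp only [← hPP] at hvv ⊢
    · ring
    · linear_combination (-(P * P * P)) * hvv
    · linear_combination (P * P * P) * hvv
    · linear_combination (1 - P * P - (P * P) ^ 3 * ((v⁻¹ : _ˣ) : ZMod (5 ^ (k + 1)))) * hvv

end Fixed

/-- Finite perfect groups have solvable maximal subgroups of unbounded derived length: for every d there is a finite perfect group G (equal to its commutator subgroup) with a solvable maximal subgroup H whose derived length exceeds d, i.e. the d-th term of the derived series of H is non-trivial. (Take the derived subgroup of a wreath product S ≀ A₅ with S solvable of large derived length, and H the preimage of a maximal subgroup of A₅.) -/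
theorem result (d : ℕ) :
    ∃ (G : Type) (_ : Group G) (_ : Finite G) (H : Subgroup G), commutator G = ⊤ ∧ IsCoatom H ∧ Group.IsSolvable H ∧
      derivedSeries H d ≠ ⊥ := by
  refine ⟨G5 (2 ^ d), inferInstance, ?_, borel (2 ^ d), perfect _, isCoatom_borel _, solvable_borel _, fun h => ?_⟩
  · haveI : NeZero (5 ^ (2 ^ d + 1)) := ⟨by positivity⟩
    exact Finite.of_injective (fun g : G5 (2 ^ d) => g.1) Subtype.val_injective
  · have hmem : up ((5 : ZMod (5 ^ (2 ^ d + 1))) ^ (2 ^ d) * 1) ∈ borel (2 ^ d) := by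
      rw [mem_borel]; simp [Matrix.SpecialLinearGroup.coe_mul, up_val]
    haveI : Fact (Nat.Prime 5) := ⟨by norm_num⟩
    have := (mem_derived (2 ^ d) d le_rfl).1 1 hmem
    rw [h, Subgroup.mem_bot] at this
    have h2 : (5 : ZMod (5 ^ (2 ^ d + 1))) ^ (2 ^ d) * 1 = 0 :=
      congrArg (fun g : borel (2 ^ d) => g.1.1 0 1) this
    rw [mul_one, show ((5 : ZMod (5 ^ (2 ^ d + 1))) ^ (2 ^ d)) = ((5 ^ (2 ^ d) : ℕ) : ZMod (5 ^ (2 ^ d + 1))) by
      push_cast; rfl, ZMod.natCast_eq_zero_iff, Nat.pow_dvd_pow_iff_le_right (by norm_num)] at h2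
    omega

end Cfsg.Agent.S5896
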