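import Cfsg.Statements.S5902
import Cfsg.Agent.EqLemmas
import Cfsg.Agent.S5901

set_option autoImplicit false
open Cfsg

namespace Cfsg.Agent.S5902

theorem exists_compl_conj {G : Type*} [Group G] [Finite G] (X M : Subgroup G)
    (hK : ComplementedLattice (Subgroup X))
    (hM : IsCoatom M) (hXM : X ≤ M) (huniq : ∀ M' : Subgroup G, IsCoatom M' → X ≤ M' → M' = M)
    (H : Subgroup G) (hH : ¬ H ≤ M) : ∃ C : Subgroup G, H ⊔ C = ⊤ ∧ H ⊓ C = ⊥ := by
  refine Cfsg.Agent.S5901.result ⊥ X M bot_le (fun h => hM.1 (top_le_iff.1 (h ▸ hXM))) ?_ hM hXM huniq H hH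
    (by simp)
  intro Y _ hY
  obtain ⟨C, hC⟩ := exists_isCompl (Y.subgroupOf X)
  refine ⟨C.map X.subtype, bot_le, Subgroup.map_subtype_le C, ?_, ?_⟩
  · conv_lhs => rw [← Subgroup.map_subgroupOf_eq_of_le hY]
    rw [← Subgroup.map_sup, hC.sup_eq_top, ← MonoidHom.range_eq_map, Subgroup.range_subtype]
  · conv_lhs => rw [← Subgroup.map_subgroupOf_eq_of_le hY]
    rw [← Subgroup.map_inf _ _ _ X.subtype_injective, hC.inf_eq_bot, Subgroup.map_bot]

theorem exists_compl {G : Type*} [Group G] [Finite G] (X M : Subgroup G)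
    (hK : ComplementedLattice (Subgroup X))
    (hM : IsCoatom M) (hXM : X ≤ M) (huniq : ∀ M' : Subgroup G, IsCoatom M' → X ≤ M' → M' = M)
    (H : Subgroup G) (hH : ¬ H ≤ M.normalCore) : ∃ C : Subgroup G, H ⊔ C = ⊤ ∧ H ⊓ C = ⊥ := by
  obtain ⟨x, hx, hxM⟩ := SetLike.not_le_iff_exists.1 hH
  have : ∃ g : G, g * x * g⁻¹ ∉ M := not_forall.1 hxM
  obtain ⟨g, hg⟩ := this
  set e : G ≃* G := MulAut.conj g with he
  obtain ⟨C, h1, h2⟩ := exists_compl_conj X M hK hM hXM huniq (H.map e.toMonoidHom)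
    (fun h => hg (h ⟨x, hx, rfl⟩))
  refine ⟨C.comap e.toMonoidHom, ?_, ?_⟩
  · refine Subgroup.map_injective (f := e.toMonoidHom) e.injective ?_
    rw [Subgroup.map_sup, Subgroup.map_comap_eq_self_of_surjective e.surjective, h1,
      Subgroup.map_top_of_surjective _ e.surjective]
  · refine Subgroup.map_injective (f := e.toMonoidHom) e.injective ?_
    rw [Subgroup.map_inf _ _ _ e.injective, Subgroup.map_comap_eq_self_of_surjective e.surjective, h2,
      Subgroup.map_bot]


/-- Let G be a finite group, X a subgroup whose own subgroup lattice is complemented, and suppose X lies in exactly one maximal subgroup M of G. Then every subgroup H of G not contained in the normal core of M has a complement in the subgroup lattice of G (some C with H ⊔ C = G and H ⊓ C = 1); in particular the subgroup lattice of G modulo the normal core of M is complemented. -/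
theorem result {G : Type*} [Group G] [Finite G] (X M : Subgroup G)
    (hK : ComplementedLattice (Subgroup X))
    (hM : IsCoatom M) (hXM : X ≤ M) (huniq : ∀ M' : Subgroup G, IsCoatom M' → X ≤ M' → M' = M) :
    (∀ H : Subgroup G, ¬ H ≤ M.normalCore → ∃ C : Subgroup G, H ⊔ C = ⊤ ∧ H ⊓ C = ⊥) ∧
    ComplementedLattice (Subgroup (G ⧸ M.normalCore)) := by
  refine ⟨exists_compl X M hK hM hXM huniq, ⟨fun Hq => ?_⟩⟩
  set π := QuotientGroup.mk' M.normalCore
  by_cases hH : Hq.comap π ≤ M.normalCore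
  · refine ⟨⊤, ?_⟩
    have : Hq = ⊥ := by
      rw [← Subgroup.map_comap_eq_self_of_surjective (QuotientGroup.mk'_surjective _) Hq, eq_bot_iff]
      rintro _ ⟨x, hx, rfl⟩
      exact Subgroup.mem_bot.2 ((QuotientGroup.eq_one_iff x).2 (hH hx))
    rw [this]
    exact isCompl_bot_top
  obtain ⟨C, h1, h2⟩ := exists_compl X M hK hM hXM huniq _ hH
  refine ⟨C.map π, IsCompl.of_eq ?_ ?_⟩
  · rw [eq_bot_iff]
    rintro _ ⟨hz, c, hc, rfl⟩
    have : c ∈ Hq.comap π ⊓ C := Subgroup.mem_inf.2 ⟨hz, hc⟩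
    rw [h2, Subgroup.mem_bot] at this
    simp [this]
  · rw [← Subgroup.map_comap_eq_self_of_surjective (QuotientGroup.mk'_surjective _) Hq, ← Subgroup.map_sup, h1,
      Subgroup.map_top_of_surjective _ (QuotientGroup.mk'_surjective _)]

end Cfsg.Agent.S5902
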