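import Cfsg.Statements.S5903
import Cfsg.Agent.EqLemmas
import Cfsg.Agent.S5901

set_option autoImplicit false
open Cfsg

namespace Cfsg.Agent.S5903

theorem compl_of_not_le {G : Type*} [Group G] [Finite G] (X M N : Subgroup G)
    (hM : IsCoatom M) (hXM : X ≤ M) (huniq : ∀ M' : Subgroup G, IsCoatom M' → X ≤ M' → M' = M)
    (hNX : N ≤ X) (hN : (Nat.card N).Prime)
    [(N.subgroupOf X).Normal] (hK : ComplementedLattice (Subgroup (X ⧸ N.subgroupOf X)))
    (H : Subgroup G) (hH : ¬ H ≤ M) (hNH : ¬ N ≤ H) : ∃ C : Subgroup G, H ⊔ C = ⊤ ∧ H ⊓ C = ⊥ := by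
  have hHN : H ⊓ N = ⊥ := by
    haveI := Fact.mk hN
    rcases (H.subgroupOf N).eq_bot_or_eq_top_of_prime_card with h | h
    · rw [Subgroup.subgroupOf_eq_bot, disjoint_iff] at h
      exact h
    · exact absurd (Subgroup.subgroupOf_eq_top.1 h) hNH
  refine Cfsg.Agent.S5901.result N X M hNX (fun h => hM.1 (top_le_iff.1 (h ▸ hXM))) ?_ hM hXM huniq H hH hHN
  intro Y hNY hYX
  set π := QuotientGroup.mk' (N.subgroupOf X) with hπ
  have hs : Function.Surjective π := QuotientGroup.mk'_surjective _
  have hker : π.ker = N.subgroupOf X := QuotientGroup.ker_mk' _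
  have hYc : ((Y.subgroupOf X).map π).comap π = Y.subgroupOf X := by
    rw [Subgroup.comap_map_eq, hker, sup_eq_left]
    exact Subgroup.comap_mono hNY
  obtain ⟨C, hC⟩ := exists_isCompl ((Y.subgroupOf X).map π)
  refine ⟨(C.comap π).map X.subtype, ?_, Subgroup.map_subtype_le _, ?_, ?_⟩
  · have h0 : N.subgroupOf X ≤ C.comap π := (le_of_eq hker.symm).trans (MonoidHom.ker_le_comap π C)
    have := Subgroup.map_mono (f := X.subtype) h0
    rwa [Subgroup.subgroupOf_map_subtype, inf_eq_left.2 hNX] at this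
  · conv_lhs => rw [← Subgroup.map_subgroupOf_eq_of_le hYX]
    rw [← Subgroup.map_sup, ← hYc, Subgroup.comap_sup_eq π _ _ hs, hC.sup_eq_top, Subgroup.comap_top,
      ← MonoidHom.range_eq_map, Subgroup.range_subtype]
  · conv_lhs => rw [← Subgroup.map_subgroupOf_eq_of_le hYX]
    rw [← Subgroup.map_inf _ _ _ X.subtype_injective, ← hYc, ← Subgroup.comap_inf, hC.inf_eq_bot,
      MonoidHom.comap_bot, hker, Subgroup.subgroupOf_map_subtype, inf_eq_left.2 hNX]


/-- Let G be a finite simple group, X a subgroup lying in exactly one maximal subgroup M of G, and N a subgroup of prime order with N ≤ X that is central in M. If the subgroup lattice of X/N is complemented, then the subgroup lattice of G is complemented. -/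
theorem result {G : Type*} [Group G] [Finite G] [IsSimpleGroup G] (X M N : Subgroup G)
    (hM : IsCoatom M) (hXM : X ≤ M) (huniq : ∀ M' : Subgroup G, IsCoatom M' → X ≤ M' → M' = M)
    (hNX : N ≤ X) (hN : (Nat.card N).Prime) (hcen : ∀ n ∈ N, ∀ m ∈ M, m * n = n * m)
    [(N.subgroupOf X).Normal] (hK : ComplementedLattice (Subgroup (X ⧸ N.subgroupOf X))) :
    ComplementedLattice (Subgroup G) := by
  refine ⟨fun H => ?_⟩
  by_cases hbot : H = ⊥
  · exact ⟨⊤, hbot ▸ isCompl_bot_top⟩
  by_cases htop : H = ⊤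
  · exact ⟨⊥, htop ▸ isCompl_top_bot⟩
  have key : ∃ g : G, ¬ H.map (MulAut.conj g).toMonoidHom ≤ M ∧ ¬ N ≤ H.map (MulAut.conj g).toMonoidHom := by
    by_contra hno
    push Not at hno
    -- every conjugate of `N` normalises `H`
    have hall : ∀ g : G, ∀ x ∈ N, ∀ y ∈ H, (g⁻¹ * x * g) * y * (g⁻¹ * x * g)⁻¹ ∈ H := by
      intro g x hx y hy
      by_cases h : H.map (MulAut.conj g).toMonoidHom ≤ M
      · have := hcen x hx _ (h ⟨y, hy, rfl⟩)
        simp only [MulEquiv.coe_toMonoidHom, MulAut.conj_apply] at this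
        have e : g⁻¹ * x * g * y * (g⁻¹ * x * g)⁻¹ = y := by
          rw [mul_inv_eq_iff_eq_mul]
          calc g⁻¹ * x * g * y = g⁻¹ * (x * (g * y * g⁻¹)) * g := by group
            _ = g⁻¹ * (g * y * g⁻¹ * x) * g := by rw [this]
            _ = _ := by group
        rwa [e]
      · obtain ⟨z, hz, hzx⟩ := hno g h hx
        simp only [MulEquiv.coe_toMonoidHom, MulAut.conj_apply] at hzx
        have e : g⁻¹ * x * g = z := by rw [← hzx]; group
        rw [e]
        exact H.mul_mem (H.mul_mem hz hy) (H.inv_mem hz)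
    have hnorm : Subgroup.normalClosure (N : Set G) ≤ Subgroup.normalizer (H : Set G) := by
      refine Subgroup.closure_le _ |>.2 ?_
      intro z hz
      obtain ⟨x, hx, hconj⟩ := Group.mem_conjugatesOfSet_iff.1 hz
      obtain ⟨g, rfl⟩ := isConj_iff.1 hconj
      rw [SetLike.mem_coe, Subgroup.mem_normalizer_iff]
      intro y
      constructor
      · intro hy
        have := hall g⁻¹ x hx y hy
        rwa [inv_inv] at this
      · intro hy
        have := hall g⁻¹ x⁻¹ (N.inv_mem hx) _ hy
        convert this using 1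
        group
    have hne : Subgroup.normalClosure (N : Set G) ≠ ⊥ := fun h => by
      have hle : N ≤ ⊥ := h ▸ Subgroup.le_normalClosure
      rw [le_bot_iff.1 hle, Subgroup.card_bot] at hN
      exact Nat.not_prime_one hN
    have := (IsSimpleGroup.eq_bot_or_eq_top_of_normal (H := Subgroup.normalClosure (N : Set G)) inferInstance).resolve_left hne
    rw [this, top_le_iff, Subgroup.normalizer_eq_top_iff] at hnorm
    rcases IsSimpleGroup.eq_bot_or_eq_top_of_normal (H := H) hnorm with h | h
    · exact hbot h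
    · exact htop h
  obtain ⟨g, hgM, hgN⟩ := key
  set e : G ≃* G := MulAut.conj g with he
  obtain ⟨C, h1, h2⟩ := compl_of_not_le X M N hM hXM huniq hNX hN hK _ hgM hgN
  refine ⟨C.comap e.toMonoidHom, IsCompl.of_eq ?_ ?_⟩
  · refine Subgroup.map_injective (f := e.toMonoidHom) e.injective ?_
    rw [Subgroup.map_inf _ _ _ e.injective, Subgroup.map_comap_eq_self_of_surjective e.surjective, h2,
      Subgroup.map_bot]
  · refine Subgroup.map_injective (f := e.toMonoidHom) e.injective ?_
    rw [Subgroup.map_sup, Subgroup.map_comap_eq_self_of_surjective e.surjective, h1,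
      Subgroup.map_top_of_surjective _ e.surjective]

end Cfsg.Agent.S5903
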