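import Cfsg.Statements.S5904
import Cfsg.Agent.EqLemmas

set_option autoImplicit false
open scoped Pointwise
open Cfsg

namespace Cfsg.Agent.S5904

open scoped Pointwise

/-- Let Ω be a finite set with more than two elements and O ⊆ Ω a subset with exactly as many elements as its complement. Then the setwise stabilizer of O in the symmetric group on Ω is not a maximal subgroup (it is properly contained in the stabilizer of the partition {O, Ω ∖ O}, which is proper). -/
theorem result {Ω : Type*} [Fintype Ω] [DecidableEq Ω] (hΩ : 2 < Fintype.card Ω)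
    (O : Set Ω) (hO : Nat.card O = Nat.card ↥Oᶜ) :
    ¬ IsCoatom (MulAction.stabilizer (Equiv.Perm Ω) O) := by
  classical
  intro hco
  have hcard := Set.ncard_add_ncard_compl O
  rw [← Nat.card_coe_set_eq, ← Nat.card_coe_set_eq, Nat.card_eq_fintype_card (α := Ω)] at hcard
  let K : Subgroup (Equiv.Perm Ω) :=
    { carrier := {g | g • O = O ∨ g • O = Oᶜ}
      mul_mem' := by
        rintro g h (hg | hg) (hh | hh) <;>
          simp [mul_smul, hg, hh, Set.smul_set_compl]
      one_mem' := Or.inl (one_smul _ _)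
      inv_mem' := by
        rintro g (hg | hg)
        · left
          exact inv_smul_eq_iff.2 hg.symm
        · right
          rw [inv_smul_eq_iff, Set.smul_set_compl, hg, compl_compl] }
  let e : O ≃ ↥Oᶜ := Classical.choice (Finite.card_eq.1 hO)
  let g : Equiv.Perm Ω := (Equiv.Set.sumCompl O).symm.trans
    ((Equiv.sumCongr e e.symm).trans ((Equiv.sumComm _ _).trans (Equiv.Set.sumCompl O)))
  have hgmem : ∀ x ∈ O, g x ∈ Oᶜ := by
    intro x hx
    simp [g, Equiv.Set.sumCompl_symm_apply_of_mem hx]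
  have hgO : g • O = Oᶜ := by
    refine Set.eq_of_subset_of_ncard_le ?_ ?_
    · rintro _ ⟨x, hx, rfl⟩
      exact hgmem x hx
    · rw [Set.ncard_smul_set, ← Nat.card_coe_set_eq, ← Nat.card_coe_set_eq, hO]
  have hne : Oᶜ ≠ O := fun h => by
    obtain ⟨⟨x, hx⟩⟩ : Nonempty O := (Nat.card_pos_iff.1 (by omega)).1
    exact (h.symm ▸ hx : x ∈ Oᶜ) hx
  have hle : MulAction.stabilizer (Equiv.Perm Ω) O < K := by
    refine lt_of_le_of_ne (fun x hx => Or.inl hx) fun h => hne ?_
    have : g ∈ MulAction.stabilizer (Equiv.Perm Ω) O := h ▸ Or.inr hgO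
    rw [← hgO]; exact this
  have htop := hco.2 K hle
  obtain ⟨⟨a, ha⟩, ⟨b, hb⟩, hab⟩ := (Finite.one_lt_card_iff_nontrivial.1 (show 1 < Nat.card O by omega)).exists_pair_ne
  obtain ⟨⟨c, hc⟩⟩ : Nonempty ↥Oᶜ := (Nat.card_pos_iff.1 (by omega)).1
  have hab' : b ≠ a := fun h => hab (Subtype.ext h.symm)
  have hbc : b ≠ c := fun h => hc (h ▸ hb)
  have hbmem : b ∈ Equiv.swap a c • O := ⟨b, hb, Equiv.swap_apply_of_ne_of_ne hab' hbc⟩
  have hcmem : c ∈ Equiv.swap a c • O := ⟨a, ha, Equiv.swap_apply_left a c⟩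
  have hK : Equiv.swap a c ∈ K := htop ▸ Subgroup.mem_top _
  rcases hK with h | h
  · exact hc (h ▸ hcmem : c ∈ O)
  · exact (h ▸ hbmem : b ∈ Oᶜ) hb

end Cfsg.Agent.S5904
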