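import Cfsg.Statements.S5908
import Cfsg.Agent.Lib.Unitary.Small32

set_option autoImplicit false
open Cfsg

namespace Cfsg.Agent.S5908

/-- The subgroup lattice of PSU₃(2) (the solvable group of order 72, realised over the field with 4 elements) is not complemented: some subgroup H has no subgroup X with H ⊔ X = ⊤ and H ⊓ X = ⊥. -/
theorem result {F : Type*} [Field F] [Fintype F] (hF : Fintype.card F = 4) :
    ¬ ComplementedLattice (Subgroup (Cfsg.PSU 3 F 2)) := by
  obtain ⟨N, hN, -, -, ⟨e⟩⟩ := Cfsg.Agent.Unitary.psu_three_two_normal_nine hF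
  intro hC
  let π : Cfsg.PSU 3 F 2 →* QuaternionGroup 2 := e.toMonoidHom.comp (QuotientGroup.mk' N)
  have hπ : Function.Surjective π := e.surjective.comp (QuotientGroup.mk'_surjective N)
  set z : QuaternionGroup 2 := QuaternionGroup.a 2 with hz
  set M := (Subgroup.zpowers z).comap π with hM
  obtain ⟨X, hX⟩ := hC.exists_isCompl M
  have key : ∀ x : QuaternionGroup 2, x ≠ 1 → x = QuaternionGroup.a 2 ∨ x * x = QuaternionGroup.a 2 := by
    decide
  have hXM : X ≤ M := fun x hx => by
    rcases eq_or_ne (π x) 1 with h | h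
    · rw [hM, Subgroup.mem_comap, h]; exact one_mem _
    · rcases key _ h with h' | h'
      · rw [hM, Subgroup.mem_comap, h']; exact Subgroup.mem_zpowers _
      · exfalso
        have h2 : x * x ∈ M ⊓ X := ⟨(by
          rw [hM, Subgroup.mem_comap, map_mul, h']; exact Subgroup.mem_zpowers _ : x * x ∈ M), mul_mem hx hx⟩
        rw [hX.disjoint.eq_bot, Subgroup.mem_bot] at h2
        rw [← map_mul, h2, map_one] at h'
        exact absurd h' (by decide)
  have htop : M = ⊤ := by
    rw [← hX.codisjoint.eq_top]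
    exact (sup_eq_left.2 hXM).symm
  obtain ⟨g, hg⟩ := hπ (QuaternionGroup.a 1)
  have h4 : π g ∈ Subgroup.zpowers z := by
    have : g ∈ M := htop ▸ Subgroup.mem_top g
    exact this
  rw [hg, Subgroup.mem_zpowers_iff] at h4
  obtain ⟨k, hk⟩ := h4
  have hsq : (QuaternionGroup.a 1 : QuaternionGroup 2) ^ 2 = 1 := by
    rw [← hk, ← zpow_natCast, ← zpow_mul, mul_comm, zpow_mul, zpow_natCast,
      show z ^ 2 = 1 from by rw [hz]; decide, one_zpow]
  exact absurd hsq (by decide)

end Cfsg.Agent.S5908
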