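import Cfsg.Statements.S5909
import Cfsg.Agent.EqLemmas
import Cfsg.Agent.Lib.Partition.Maximal

set_option autoImplicit false
open Cfsg

namespace Cfsg.Agent.S5909

/-- Let Ω be a finite set whose size is not 8, and f : Ω → Fin b a labelling with b ≥ 2 whose fibres all have the same size a ≥ 2 (a partition into b blocks of size a). Then the even permutations preserving the partition — the intersection of the imprimitive wreath product S_a ≀ S_b with the alternating group — form a maximal subgroup of the alternating group on Ω. -/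
theorem result {Ω : Type*} [Fintype Ω] [DecidableEq Ω] (h8 : Fintype.card Ω ≠ 8) (a b : ℕ) (ha : 2 ≤ a) (hb : 2 ≤ b)
    (f : Ω → Fin b) (hf : ∀ i : Fin b, Nat.card {x : Ω // f x = i} = a) :
    IsCoatom ((Subgroup.closure {g : Equiv.Perm Ω | ∀ x y : Ω, f x = f y ↔ f (g x) = f (g y)} ⊓ alternatingGroup Ω).subgroupOf (alternatingGroup Ω)) := by
  classical
  obtain ⟨e, he⟩ := Partition.exists_transport f hf
  rw [Partition.setOf_eq_map f e he]
  have hcard : b * a ≠ 8 := by
    have := Fintype.card_congr e
    rw [Fintype.card_prod, Fintype.card_fin, Fintype.card_fin] at this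
    omega
  have hW := Partition.isCoatom_W_alt ha hb hcard
  have hA : (alternatingGroup Ω).map e.permCongrHom.toMonoidHom = alternatingGroup (Fin b × Fin a) := by
    ext g
    simp only [Subgroup.mem_map, MulEquiv.coe_toMonoidHom, Equiv.permCongrHom_coe, Equiv.Perm.mem_alternatingGroup]
    constructor
    · rintro ⟨x, hx, rfl⟩
      rw [Equiv.Perm.sign_permCongr, hx]
    · intro hg
      exact ⟨e.symm.permCongr g, by rw [Equiv.Perm.sign_permCongr, hg], Equiv.ext fun x => by simp [Equiv.permCongr_apply]⟩
  let φ : alternatingGroup Ω ≃* alternatingGroup (Fin b × Fin a) :=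
    (e.permCongrHom.subgroupMap (alternatingGroup Ω)).trans (MulEquiv.subgroupCongr hA)
  have key : ((Partition.W b a).comap e.permCongrHom.toMonoidHom ⊓ alternatingGroup Ω).subgroupOf (alternatingGroup Ω) =
      MulEquiv.comapSubgroup φ
        ((Partition.W b a ⊓ alternatingGroup (Fin b × Fin a)).subgroupOf (alternatingGroup (Fin b × Fin a))) := by
    ext g
    simp only [MulEquiv.comapSubgroup, RelIso.coe_fn_mk, Equiv.coe_fn_mk, Subgroup.mem_comap, Subgroup.mem_subgroupOf,
      Subgroup.mem_inf]
    refine and_congr Iff.rfl ?_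
    exact ⟨fun _ => (φ g).2, fun _ => g.2⟩
  rw [key]
  exact (OrderIso.isCoatom_iff (MulEquiv.comapSubgroup φ) _).2 hW

end Cfsg.Agent.S5909
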