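import Cfsg.Statements.S5910
import Cfsg.Agent.EqLemmas
import Cfsg.Agent.Lib.Partition.Maximal

set_option autoImplicit false
open Cfsg

namespace Cfsg.Agent.S5910

open Partition
open scoped Pointwise

/-- The fourteen affine planes of the eight points. -/
def planes : Finset (Finset (Fin 4 × Fin 2)) :=
  {{(0, 0), (0, 1), (1, 0), (1, 1)},
    {(0, 0), (0, 1), (2, 0), (2, 1)},
    {(0, 0), (0, 1), (3, 0), (3, 1)},
    {(0, 0), (1, 0), (2, 0), (3, 0)},
    {(0, 0), (1, 0), (2, 1), (3, 1)},
    {(0, 0), (1, 1), (2, 0), (3, 1)},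
    {(0, 0), (1, 1), (2, 1), (3, 0)},
    {(0, 1), (1, 0), (2, 0), (3, 1)},
    {(0, 1), (1, 0), (2, 1), (3, 0)},
    {(0, 1), (1, 1), (2, 0), (3, 0)},
    {(0, 1), (1, 1), (2, 1), (3, 1)},
    {(1, 0), (1, 1), (2, 0), (2, 1)},
    {(1, 0), (1, 1), (3, 0), (3, 1)},
    {(2, 0), (2, 1), (3, 0), (3, 1)}}

/-- Flip the fibres marked by `c`. -/
def flip (c : Fin 4 → Bool) : Equiv.Perm (Fin 4 × Fin 2) where
  toFun x := (x.1, if c x.1 then x.2 + 1 else x.2)
  invFun x := (x.1, if c x.1 then x.2 + 1 else x.2)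
  left_inv x := by
    rcases x with ⟨i, u⟩
    cases hc : c i <;> simp [hc]; fin_cases u <;> rfl
  right_inv x := by
    rcases x with ⟨i, u⟩
    cases hc : c i <;> simp [hc]; fin_cases u <;> rfl

/-- The affine group, as the stabiliser of the planes. -/
def agl : Subgroup (Equiv.Perm (Fin 4 × Fin 2)) := MulAction.stabilizer _ planes

set_option maxRecDepth 10000 in
theorem lift_mem_agl : ∀ σ : Equiv.Perm (Fin 4), (lift σ : Equiv.Perm (Fin 4 × Fin 2)) • planes = planes ∧
    Equiv.Perm.sign (lift σ : Equiv.Perm (Fin 4 × Fin 2)) = 1 := by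
  decide

set_option maxRecDepth 10000 in
theorem flip_mem_agl : ∀ c : Fin 4 → Bool, Equiv.Perm.sign (flip c) = 1 → flip c • planes = planes := by
  decide

theorem W_le_agl : W 4 2 ⊓ alternatingGroup (Fin 4 × Fin 2) ≤ agl := by
  rintro g ⟨hg, hsign⟩
  have hW : ∀ x y, x.1 = y.1 ↔ (g x).1 = (g y).1 := mem_W.1 hg
  let φ : Fin 4 → Fin 4 := fun i => (g (i, 0)).1
  have hφ : Function.Injective φ := fun i j h => (hW (i, 0) (j, 0)).2 h
  let σ : Equiv.Perm (Fin 4) := Equiv.ofBijective φ ⟨hφ, Finite.injective_iff_surjective.1 hφ⟩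
  let c : Fin 4 → Bool := fun i => decide ((g (i, 0)).2 = 1)
  have heq : g = lift σ * flip c := by
    refine Equiv.ext fun x => ?_
    rcases x with ⟨i, u⟩
    have h1 : (g (i, u)).1 = φ i := (hW (i, u) (i, 0)).1 rfl
    show g (i, u) = (φ i, if c i then u + 1 else u)
    refine Prod.ext h1 ?_
    show (g (i, u)).2 = if c i then u + 1 else u
    fin_cases u
    · show (g (i, 0)).2 = if c i then (0 : Fin 2) + 1 else 0
      rcases mk_snd_two (g (i, 0)) with h | h <;> simp only [c, h] <;> decide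
    · have hne : (g (i, 1)).2 ≠ (g (i, 0)).2 := fun h => by
        have h3 : g (i, 1) = g (i, 0) := Prod.ext ((hW (i, 1) (i, 0)).1 rfl) h
        simpa using congrArg Prod.snd (g.injective h3)
      rcases mk_snd_two (g (i, 0)) with h | h <;> rcases mk_snd_two (g (i, 1)) with h' | h' <;>
        first | exact absurd (h'.trans h.symm) hne | (show (g (i, 1)).2 = if c i then (1 : Fin 2) + 1 else 1; simp only [c, h, h']; decide)
  have h1 := lift_mem_agl σ
  have hc : Equiv.Perm.sign (flip c) = 1 := by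
    have this : Equiv.Perm.sign g = 1 := hsign
    rwa [heq, map_mul, h1.2, one_mul] at this
  rw [heq]
  exact agl.mul_mem h1.1 (flip_mem_agl c hc)

/-- An affine map that does not respect the pairs. -/
def extra : Equiv.Perm (Fin 4 × Fin 2) := Equiv.swap (0, 1) (1, 0) * Equiv.swap (2, 1) (3, 0)

/-- An even permutation that is not affine. -/
def wild : Equiv.Perm (Fin 4 × Fin 2) := Equiv.swap (0, 0) (0, 1) * Equiv.swap (0, 0) (1, 0)

set_option maxRecDepth 10000 in
theorem extra_wild : extra • planes = planes ∧ wild • planes ≠ planes ∧ Equiv.Perm.sign extra = 1 ∧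
    Equiv.Perm.sign wild = 1 := by
  decide

theorem not_isCoatom : ¬ IsCoatom ((W 4 2 ⊓ alternatingGroup (Fin 4 × Fin 2)).subgroupOf
    (alternatingGroup (Fin 4 × Fin 2))) := by
  intro h
  obtain ⟨he, hw, hes, hws⟩ := extra_wild
  have hlt : (W 4 2 ⊓ alternatingGroup (Fin 4 × Fin 2)).subgroupOf (alternatingGroup (Fin 4 × Fin 2)) <
      agl.subgroupOf (alternatingGroup (Fin 4 × Fin 2)) := by
    refine lt_of_le_of_ne (Subgroup.comap_mono W_le_agl) fun h' => ?_
    have : (⟨extra, hes⟩ : alternatingGroup (Fin 4 × Fin 2)) ∈ agl.subgroupOf _ := he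
    rw [← h'] at this
    have h2 := (mem_W.1 this.1 (0, 1) (0, 0)).1 rfl
    change (extra (0, 1)).1 = (extra (0, 0)).1 at h2
    revert h2
    decide
  have := h.2 _ hlt
  exact hw (show (⟨wild, hws⟩ : alternatingGroup (Fin 4 × Fin 2)) ∈ agl.subgroupOf _ from this ▸ Subgroup.mem_top _)

/-- Let Ω be a set with 8 elements and f : Ω → Fin 4 a labelling whose four fibres all have size 2 (a partition of the 8 points into 4 pairs). Then the group of even permutations preserving this partition, (S₂ ≀ S₄) ∩ A₈, is not a maximal subgroup of the alternating group A₈ (it lies in a subgroup isomorphic to the affine group AGL₃(2)). -/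
theorem result {Ω : Type*} [Fintype Ω] [DecidableEq Ω] (h8 : Fintype.card Ω = 8)
    (f : Ω → Fin 4) (hf : ∀ i : Fin 4, Nat.card {x : Ω // f x = i} = 2) :
    ¬ IsCoatom ((Subgroup.closure {g : Equiv.Perm Ω | ∀ x y : Ω, f x = f y ↔ f (g x) = f (g y)} ⊓ alternatingGroup Ω).subgroupOf (alternatingGroup Ω)) := by
  classical
  obtain ⟨e, he⟩ := Partition.exists_transport f hf
  rw [Partition.setOf_eq_map f e he]
  have hA : (alternatingGroup Ω).map e.permCongrHom.toMonoidHom = alternatingGroup (Fin 4 × Fin 2) := by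
    ext g
    simp only [Subgroup.mem_map, MulEquiv.coe_toMonoidHom, Equiv.permCongrHom_coe, Equiv.Perm.mem_alternatingGroup]
    constructor
    · rintro ⟨x, hx, rfl⟩
      rw [Equiv.Perm.sign_permCongr, hx]
    · intro hg
      exact ⟨e.symm.permCongr g, by rw [Equiv.Perm.sign_permCongr, hg], Equiv.ext fun x => by simp [Equiv.permCongr_apply]⟩
  let φ : alternatingGroup Ω ≃* alternatingGroup (Fin 4 × Fin 2) :=
    (e.permCongrHom.subgroupMap (alternatingGroup Ω)).trans (MulEquiv.subgroupCongr hA)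
  have key : ((Partition.W 4 2).comap e.permCongrHom.toMonoidHom ⊓ alternatingGroup Ω).subgroupOf (alternatingGroup Ω) =
      MulEquiv.comapSubgroup φ
        ((Partition.W 4 2 ⊓ alternatingGroup (Fin 4 × Fin 2)).subgroupOf (alternatingGroup (Fin 4 × Fin 2))) := by
    ext g
    simp only [MulEquiv.comapSubgroup, RelIso.coe_fn_mk, Equiv.coe_fn_mk, Subgroup.mem_comap, Subgroup.mem_subgroupOf,
      Subgroup.mem_inf]
    refine and_congr Iff.rfl ?_
    exact ⟨fun _ => (φ g).2, fun _ => g.2⟩
  rw [key, OrderIso.isCoatom_iff (MulEquiv.comapSubgroup φ)]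
  exact not_isCoatom

end Cfsg.Agent.S5910
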