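import Cfsg.Statements.S5944
import Cfsg.Agent.EqLemmas

set_option autoImplicit false
open Cfsg

namespace Cfsg.Agent.S5944

/-- For n ≠ 4, every proper subgroup of the symmetric group S_n other than the alternating group A_n has index at least n. -/
theorem result (n : ℕ) (hn : n ≠ 4) (H : Subgroup (Equiv.Perm (Fin n))) (hH : H ≠ ⊤) (hA : H ≠ alternatingGroup (Fin n)) : n ≤ H.index := by
  by_contra hlt
  push Not at hlt
  have hpos : H.index ≠ 0 := Subgroup.index_ne_zero_of_finite
  suffices hle : alternatingGroup (Fin n) ≤ H by
    by_cases h2 : n ≤ 1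
    · exact absurd hlt (by omega)
    have : Nontrivial (Fin n) := Fin.nontrivial_iff_two_le.mpr (by omega)
    have := Subgroup.index_dvd_of_le hle
    rw [alternatingGroup.index_eq_two] at this
    rcases (Nat.dvd_prime Nat.prime_two).mp this with h | h
    · exact hH (Subgroup.index_eq_one.mp h)
    · exact hA (Equiv.Perm.eq_alternatingGroup_of_index_eq_two h)
  by_cases h5 : n ≤ 3
  · exact Equiv.Perm.alternatingGroup_le_of_index_le_two (by omega)
  have h5' : 5 ≤ n := by omega
  have : IsSimpleGroup (alternatingGroup (Fin n)) :=
    alternatingGroup.isSimpleGroup (by simpa using h5')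
  have hsmall : H.normalCore.index ≤ (n - 1).factorial := by
    rw [Subgroup.normalCore_eq_ker, Subgroup.index_ker]
    refine le_trans (Subgroup.card_le_card_group _) ?_
    rw [Nat.card_perm]
    exact Nat.factorial_le (by rw [← Subgroup.index_eq_card]; omega)
  have : Nontrivial (Fin n) := Fin.nontrivial_iff_two_le.mpr (by omega)
  rcases (Subgroup.normal_subgroupOf (N := H.normalCore) (H := alternatingGroup (Fin n))).eq_bot_or_eq_top with h | h
  · exfalso
    have hd : H.normalCore ⊓ alternatingGroup (Fin n) = ⊥ :=
      (Subgroup.subgroupOf_eq_bot.mp h).eq_bot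
    have hc : Nat.card H.normalCore ≤ 2 := by
      have h1 : (alternatingGroup (Fin n)).relIndex H.normalCore ∣ 2 := by
        have := Subgroup.relIndex_dvd_index_of_normal (alternatingGroup (Fin n)) H.normalCore
        rwa [alternatingGroup.index_eq_two] at this
      rw [← Subgroup.inf_relIndex_right, inf_comm, hd, Subgroup.relIndex_bot_left] at h1
      exact Nat.le_of_dvd two_pos h1
    have hmul := Subgroup.card_mul_index H.normalCore
    rw [Nat.card_perm, Nat.card_fin] at hmul
    have hfac : n.factorial = n * (n - 1).factorial := (Nat.mul_factorial_pred (by omega)).symm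
    have : n * (n - 1).factorial ≤ 2 * (n - 1).factorial := by
      rw [← hfac, ← hmul]
      exact Nat.mul_le_mul hc hsmall
    have := Nat.le_of_mul_le_mul_right this (Nat.factorial_pos _)
    omega
  · exact le_trans (Subgroup.subgroupOf_eq_top.mp h) (Subgroup.normalCore_le H)

end Cfsg.Agent.S5944
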