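import Cfsg.Statements.S5945
import Cfsg.Agent.S5944

set_option autoImplicit false
open Cfsg

namespace Cfsg.Agent.S5945

open MulAction

theorem exists_notMem {α : Type*} [Fintype α] {s : Finset α} (h : s.card < Fintype.card α) : ∃ c, c ∉ s := by
  by_contra hh
  push Not at hh
  exact absurd (Finset.eq_univ_of_forall hh ▸ h) (by simp)

/-- A non-trivial normal subgroup of a symmetric group of degree at least 5 contains the alternating group. -/
theorem alt_le_of_normal {α : Type*} [Fintype α] [DecidableEq α] (h5 : 5 ≤ Fintype.card α)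
    (N : Subgroup (Equiv.Perm α)) [N.Normal] (hN : N ≠ ⊥) : alternatingGroup α ≤ N := by
  have : IsSimpleGroup (alternatingGroup α) :=
    alternatingGroup.isSimpleGroup (by rw [Nat.card_eq_fintype_card]; exact h5)
  rcases (Subgroup.normal_subgroupOf (N := N) (H := alternatingGroup α)).eq_bot_or_eq_top with h | h
  · exfalso
    obtain ⟨g, hg, hg1⟩ := (Subgroup.bot_or_exists_ne_one N).resolve_left hN
    have hd : N ⊓ alternatingGroup α = ⊥ := (Subgroup.subgroupOf_eq_bot.mp h).eq_bot
    have hsign : ∀ x ∈ N, x ≠ 1 → Equiv.Perm.sign x = -1 := fun x hx hx1 =>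
      (Int.units_eq_one_or _).resolve_left fun hs => hx1 ((Subgroup.mem_bot).mp (hd ▸ ⟨hx, hs⟩))
    obtain ⟨a, ha⟩ : ∃ a, g a ≠ a := by
      by_contra hh; push Not at hh; exact hg1 (Equiv.ext hh)
    obtain ⟨c, hc⟩ : ∃ c, c ∉ ({a, g a} : Finset α) :=
      exists_notMem (s := {a, g a}) (by
        refine lt_of_le_of_lt Finset.card_le_two ?_
        omega)
    simp only [Finset.mem_insert, Finset.mem_singleton, not_or] at hc
    set g' := Equiv.swap (g a) c * g * (Equiv.swap (g a) c)⁻¹ with hg'
    have hg'N : g' ∈ N := Subgroup.Normal.conj_mem ‹_› g hg _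
    have hg'a : g' a = c := by
      simp [hg', Equiv.swap_apply_of_ne_of_ne (Ne.symm ha) (Ne.symm hc.1)]
    have hne : g' ≠ g := fun hh => hc.2 (by rw [← hg'a, hh])
    refine hne (inv_mul_eq_one.mp ?_).symm
    by_contra hp
    have h1 : Equiv.Perm.sign (g⁻¹ * g') = -1 := hsign _ (mul_mem (inv_mem hg) hg'N) hp
    have h2 : Equiv.Perm.sign (g⁻¹ * g') = 1 := by
      rw [hg', map_mul, map_inv, map_mul, map_mul, map_inv, hsign g hg hg1]
      rcases Int.units_eq_one_or (Equiv.Perm.sign (Equiv.swap (g a) c)) with h' | h' <;> rw [h'] <;> rfl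
    rw [h1] at h2
    exact absurd h2 (by decide)
  · exact Subgroup.subgroupOf_eq_top.mp h

abbrev S6 := Equiv.Perm (Fin 6)

theorem card_S6 : Nat.card S6 = 720 := by rw [Nat.card_perm, Nat.card_fin]; rfl

theorem card_of_index (H : Subgroup S6) (hH : H.index = 6) : Nat.card H = 120 := by
  have := Subgroup.card_mul_index H
  rw [hH, card_S6] at this; omega

theorem index_of_card (H : Subgroup S6) (hH : Nat.card H = 120) : H.index = 6 := by
  have := Subgroup.card_mul_index H
  rw [hH, card_S6] at this; omega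

theorem index_alt : (alternatingGroup (Fin 6)).index = 2 := alternatingGroup.index_eq_two

theorem equiv_S5 (H : Subgroup S6) (hH : H.index = 6) : Nonempty (H ≃* Equiv.Perm (Fin 5)) := by
  let φ : S6 →* Equiv.Perm (S6 ⧸ H) := MulAction.toPermHom S6 (S6 ⧸ H)
  have hcard : Nat.card (S6 ⧸ H) = 6 := hH
  have hinj : Function.Injective φ := by
    rw [← MonoidHom.ker_eq_bot_iff]
    by_contra hne
    have hle : alternatingGroup (Fin 6) ≤ H :=
      (alt_le_of_normal (by simp) φ.ker hne).trans (by rw [← Subgroup.normalCore_eq_ker]; exact H.normalCore_le)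
    have := Subgroup.index_dvd_of_le hle
    rw [hH, index_alt] at this
    norm_num at this
  have hbij : Function.Bijective φ := by
    refine hinj.bijective_of_nat_card_le ?_
    rw [Nat.card_perm, hcard, card_S6]; rfl
  let Φ := MulEquiv.ofBijective φ hbij
  set pt : S6 ⧸ H := QuotientGroup.mk 1
  have hmap : H.map Φ.toMonoidHom = stabilizer (Equiv.Perm (S6 ⧸ H)) pt := by
    ext σ
    obtain ⟨g, rfl⟩ := Φ.surjective σ
    rw [Subgroup.mem_map_equiv, MulEquiv.symm_apply_apply, mem_stabilizer_iff]
    show g ∈ H ↔ g • pt = pt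
    rw [← mem_stabilizer_iff, stabilizer_quotient]
  obtain ⟨e⟩ : Nonempty ((S6 ⧸ H) ≃ Fin 6) := ⟨Finite.equivFinOfCardEq hcard⟩
  classical
  let ψ : Equiv.Perm {y : S6 ⧸ H // y ≠ pt} →* Equiv.Perm (S6 ⧸ H) := Equiv.Perm.ofSubtype
  have hrange : ψ.range = stabilizer (Equiv.Perm (S6 ⧸ H)) pt := by
    ext σ
    constructor
    · rintro ⟨τ, rfl⟩
      rw [mem_stabilizer_iff, Equiv.Perm.smul_def]
      exact Equiv.Perm.ofSubtype_apply_of_not_mem τ (by simp)
    · intro hσ
      rw [mem_stabilizer_iff, Equiv.Perm.smul_def] at hσ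
      have hiff : ∀ y, σ y ≠ pt ↔ y ≠ pt := fun y =>
        not_congr ⟨fun h => σ.injective (h.trans hσ.symm), fun h => by rw [h, hσ]⟩
      refine ⟨σ.subtypePerm hiff, Equiv.Perm.ofSubtype_subtypePerm hiff fun y hy hy' => hy (by rw [hy', hσ])⟩
  have h5 : Nat.card {y : S6 ⧸ H // y ≠ pt} = 5 := by
    rw [Nat.card_congr (e.subtypeEquiv (q := fun y => y ≠ e pt) (fun y => by simp))]
    simp
  exact ⟨((Φ.subgroupMap H).trans (MulEquiv.subgroupCongr (hmap.trans hrange.symm))).trans
    ((MonoidHom.ofInjective (f := ψ) Equiv.Perm.ofSubtype_injective).symm.trans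
      (Equiv.permCongrHom (Finite.equivFinOfCardEq h5)))⟩

/-- `H` moves every point to every other. -/
def IsTrans (H : Subgroup S6) : Prop := ∀ x y : Fin 6, ∃ h ∈ H, h x = y

theorem fixed_or_trans (H : Subgroup S6) (hH : H.index = 6) :
    (∃ a : Fin 6, H = stabilizer S6 a) ∨ IsTrans H := by
  by_cases hfix : ∃ a, ∀ h ∈ H, h a = a
  · obtain ⟨a, ha⟩ := hfix
    refine Or.inl ⟨a, Subgroup.eq_of_le_of_card_ge (fun h hh => ha h hh) ?_⟩
    rw [card_of_index H hH, card_of_index _ (by exact (MulAction.index_stabilizer_of_transitive S6 a).trans (Nat.card_fin _))]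
  · right
    push Not at hfix
    have : Fact (Nat.Prime 5) := ⟨by norm_num⟩
    obtain ⟨c, hc⟩ := exists_prime_orderOf_dvd_card' (G := H) 5 (by rw [card_of_index H hH]; norm_num)
    rw [← Subgroup.orderOf_coe] at hc
    have hp : c.1 ^ 5 = 1 := by rw [← hc]; exact pow_orderOf_eq_one _
    have hc1 : c.1 ≠ 1 := by intro h; rw [h, orderOf_one] at hc; norm_num at hc
    have hcyc : c.1.IsCycle := by
      refine Equiv.Perm.isCycle_of_prime_order' (hc ▸ by norm_num) ?_
      rw [hc]; simp
    have hsupp : c.1.support.card = 5 := by rw [← hcyc.orderOf, hc]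
    obtain ⟨a, ha⟩ : ∃ a, a ∉ c.1.support :=
      exists_notMem (by rw [hsupp]; simp)
    have huniv : ∀ b, b ≠ a → b ∈ c.1.support := by
      intro b hb
      have : c.1.support = Finset.univ.erase a :=
        Finset.eq_of_subset_of_card_le (fun y hy => Finset.mem_erase.mpr ⟨fun e => ha (e ▸ hy), Finset.mem_univ _⟩)
          (by rw [hsupp]; simp)
      rw [this]; simp [hb]
    obtain ⟨k, hk, hka⟩ := hfix a
    have hreach : ∀ y, ∃ h ∈ H, h (k a) = y := by
      intro y
      by_cases hy : y = a
      · exact ⟨k⁻¹, inv_mem hk, by rw [hy]; simp⟩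
      · obtain ⟨i, hi⟩ := hcyc.exists_zpow_eq (Equiv.Perm.mem_support.mp (huniv _ hka))
          (Equiv.Perm.mem_support.mp (huniv _ hy))
        exact ⟨c.1 ^ i, zpow_mem c.2 i, hi⟩
    intro x y
    obtain ⟨h1, hh1, e1⟩ := hreach x
    obtain ⟨h2, hh2, e2⟩ := hreach y
    exact ⟨h2 * h1⁻¹, mul_mem hh2 (inv_mem hh1), by rw [Equiv.Perm.mul_apply, ← e1, Equiv.Perm.inv_def, Equiv.symm_apply_apply, e2]⟩

theorem stab_card (H : Subgroup S6) (hH : H.index = 6) (ht : IsTrans H) (a : Fin 6) :
    Nat.card (stabilizer H a) = 20 := by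
  have : IsPretransitive H (Fin 6) := ⟨fun x y => let ⟨h, hh, e⟩ := ht x y; ⟨⟨h, hh⟩, e⟩⟩
  have := Subgroup.card_mul_index (stabilizer H a)
  rw [index_stabilizer_of_transitive, Nat.card_fin, card_of_index H hH] at this
  omega

/-- In a group of order 120 without a normal subgroup of order 5, subgroups of order 20 are conjugate. -/
theorem order_twenty_conj {G : Type*} [Group G] [Finite G] (hG : Nat.card G = 120)
    (hn : ∀ Q : Subgroup G, Nat.card Q = 5 → ¬ Q.Normal)
    (T₁ T₂ : Subgroup G) (h₁ : Nat.card T₁ = 20) (h₂ : Nat.card T₂ = 20) :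
    ∃ g : G, T₂ = T₁.map (MulAut.conj g).toMonoidHom := by
  have : Fact (Nat.Prime 5) := ⟨by norm_num⟩
  have hsyl : ∀ P : Sylow 5 G, Nat.card P = 5 ∧ Nat.card (Subgroup.normalizer (P : Set G)) = 20 := by
    intro P
    have hP : Nat.card P = 5 := by
      rw [P.card_eq_multiplicity, hG]
      have h120 : (120 : ℕ).factorization 5 = 1 := by
        rw [Nat.factorization_def _ (by norm_num : Nat.Prime 5), show (120 : ℕ) = 5 ^ 1 * 24 by norm_num,
          padicValNat.mul (by norm_num) (by norm_num), padicValNat.prime_pow,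
          padicValNat.eq_zero_of_not_dvd (by norm_num)]
      rw [h120]; norm_num
    refine ⟨hP, ?_⟩
    have h1 := card_sylow_modEq_one 5 G
    have h2 := P.card_dvd_index
    have hidx : (P : Subgroup G).index = 24 := by
      have := Subgroup.card_mul_index (P : Subgroup G)
      rw [hG, show Nat.card (P : Subgroup G) = 5 from hP] at this; omega
    rw [hidx] at h2
    have h3 : Nat.card (Sylow 5 G) ≠ 1 := by
      intro h
      have : Subsingleton (Sylow 5 G) := (Nat.card_eq_one_iff_unique.mp h).1
      exact hn P hP P.normal_of_subsingleton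
    have h4 : Nat.card (Sylow 5 G) = 6 := by
      have hle : Nat.card (Sylow 5 G) ≤ 24 := Nat.le_of_dvd (by norm_num) h2
      unfold Nat.ModEq at h1
      generalize Nat.card (Sylow 5 G) = k at *
      interval_cases k <;> omega
    have h5 := Subgroup.card_mul_index (Subgroup.normalizer (P : Set G))
    rw [← P.card_eq_index_normalizer, h4, hG] at h5
    omega
  have hnorm : ∀ T : Subgroup G, Nat.card T = 20 → ∃ P : Sylow 5 G, T = Subgroup.normalizer (P : Set G) := by
    intro T hT
    obtain ⟨Q⟩ : Nonempty (Sylow 5 T) := inferInstance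
    have hQ : Nat.card Q = 5 := by
      rw [Q.card_eq_multiplicity, hT]
      have h20 : (20 : ℕ).factorization 5 = 1 := by
        rw [Nat.factorization_def _ (by norm_num : Nat.Prime 5), show (20 : ℕ) = 5 ^ 1 * 4 by norm_num,
          padicValNat.mul (by norm_num) (by norm_num), padicValNat.prime_pow,
          padicValNat.eq_zero_of_not_dvd (by norm_num)]
      rw [h20]; norm_num
    have hQn : (Q : Subgroup T).Normal := by
      have h1 := card_sylow_modEq_one 5 T
      have h2 := Q.card_dvd_index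
      have hidx : (Q : Subgroup T).index = 4 := by
        have := Subgroup.card_mul_index (Q : Subgroup T)
        rw [hT, show Nat.card (Q : Subgroup T) = 5 from hQ] at this; omega
      rw [hidx] at h2
      have hle : Nat.card (Sylow 5 T) ≤ 4 := Nat.le_of_dvd (by norm_num) h2
      have h4 : Nat.card (Sylow 5 T) = 1 := by
        unfold Nat.ModEq at h1
        generalize Nat.card (Sylow 5 T) = k at *
        interval_cases k <;> omega
      have : Subsingleton (Sylow 5 T) := (Nat.card_eq_one_iff_unique.mp h4).1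
      exact Q.normal_of_subsingleton
    have hQmap : Nat.card ((Q : Subgroup T).map T.subtype) = 5 := by
      rw [Subgroup.card_map_of_injective T.subtype_injective]; exact hQ
    obtain ⟨P₀⟩ : Nonempty (Sylow 5 G) := inferInstance
    obtain ⟨P, hP⟩ := (IsPGroup.of_card (n := 1) (by rw [hQmap]; norm_num) : IsPGroup 5 ((Q : Subgroup T).map T.subtype)).exists_le_sylow
    have hPeq : (Q : Subgroup T).map T.subtype = (P : Subgroup G) :=
      Subgroup.eq_of_le_of_card_ge hP (le_of_eq ((hsyl P).1.trans hQmap.symm))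
    refine ⟨P, Subgroup.eq_of_le_of_card_ge ?_ (by rw [(hsyl P).2, hT])⟩
    intro t ht
    show t ∈ Subgroup.normalizer ((P : Subgroup G) : Set G)
    rw [← hPeq]
    refine Subgroup.mem_normalizer_fintype fun n hn' => ?_
    obtain ⟨n₀, hn₀, rfl⟩ := hn'
    exact ⟨⟨t, ht⟩ * n₀ * ⟨t, ht⟩⁻¹, hQn.conj_mem n₀ hn₀ _, rfl⟩
  obtain ⟨P₁, rfl⟩ := hnorm T₁ h₁
  obtain ⟨P₂, rfl⟩ := hnorm T₂ h₂
  obtain ⟨g, rfl⟩ := exists_smul_eq G P₁ P₂
  refine ⟨g, ?_⟩
  show Subgroup.normalizer (((g • P₁ : Sylow 5 G) : Subgroup G) : Set G) =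
    Subgroup.map _ (Subgroup.normalizer ((P₁ : Subgroup G) : Set G))
  rw [Subgroup.map_equiv_normalizer_eq]
  rfl

theorem trans_conj (H H' : Subgroup S6) (hH : H.index = 6) (hH' : H'.index = 6) (ht : IsTrans H) (ht' : IsTrans H') :
    ∃ e : S6, H' = H.map (MulAut.conj e).toMonoidHom := by
  obtain ⟨e₁⟩ := equiv_S5 H hH
  obtain ⟨e₂⟩ := equiv_S5 H' hH'
  let ψ : H ≃* H' := e₁.trans e₂.symm
  have hn : ∀ Q : Subgroup H', Nat.card Q = 5 → ¬ Q.Normal := by
    intro Q hQ hQn
    have hfix : ∀ a : Fin 6, Q ≤ stabilizer H' a := by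
      intro a q hq
      have : Fact (Nat.Prime 5) := ⟨by norm_num⟩
      obtain ⟨P⟩ : Nonempty (Sylow 5 (stabilizer H' a)) := inferInstance
      have hP : Nat.card P = 5 := by
        rw [P.card_eq_multiplicity, stab_card H' hH' ht' a]
        have h20 : (20 : ℕ).factorization 5 = 1 := by
          rw [Nat.factorization_def _ (by norm_num : Nat.Prime 5), show (20 : ℕ) = 5 ^ 1 * 4 by norm_num,
            padicValNat.mul (by norm_num) (by norm_num), padicValNat.prime_pow,
            padicValNat.eq_zero_of_not_dvd (by norm_num)]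
        rw [h20]; norm_num
      have hQ5 : IsPGroup 5 Q := IsPGroup.of_card (n := 1) (by rw [hQ]; norm_num)
      obtain ⟨R, hR⟩ := hQ5.exists_le_sylow
      have hR5 : Nat.card R = 5 := by
        rw [R.card_eq_multiplicity, card_of_index H' hH']
        have h120 : (120 : ℕ).factorization 5 = 1 := by
          rw [Nat.factorization_def _ (by norm_num : Nat.Prime 5), show (120 : ℕ) = 5 ^ 1 * 24 by norm_num,
            padicValNat.mul (by norm_num) (by norm_num), padicValNat.prime_pow,
            padicValNat.eq_zero_of_not_dvd (by norm_num)]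
        rw [h120]; norm_num
      have hRQ : Q = (R : Subgroup H') := Subgroup.eq_of_le_of_card_ge hR (by rw [hQ]; exact hR5.le)
      have : Subsingleton (Sylow 5 H') := by
        have : (R : Subgroup H').Normal := hRQ ▸ hQn
        exact (Nat.card_eq_one_iff_unique.mp (by
          rw [R.card_eq_index_normalizer]
          show (Subgroup.normalizer ((R : Subgroup H') : Set H')).index = 1
          rw [Subgroup.normalizer_eq_top, Subgroup.index_top])).1
      have hPm : IsPGroup 5 ((P : Subgroup (stabilizer H' a)).map (stabilizer H' a).subtype) :=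
        P.isPGroup'.map _
      obtain ⟨R', hR'⟩ := hPm.exists_le_sylow
      rw [Subsingleton.elim R' R] at hR'
      have : (P : Subgroup (stabilizer H' a)).map (stabilizer H' a).subtype = Q :=
        hRQ ▸ Subgroup.eq_of_le_of_card_ge hR' (by
          rw [Subgroup.card_map_of_injective (stabilizer H' a).subtype_injective]
          exact hR5.le.trans hP.ge)
      rw [← this] at hq
      obtain ⟨q', -, rfl⟩ := hq
      exact q'.2
    have : Q = ⊥ := (Subgroup.eq_bot_iff_forall Q).mpr fun q hq =>
      Subtype.ext (Equiv.ext fun a => (hfix a hq : q • a = a))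
    rw [this, Subgroup.card_bot] at hQ
    norm_num at hQ
  obtain ⟨g, hg⟩ := order_twenty_conj (card_of_index H' hH') hn
    ((stabilizer H (0 : Fin 6)).map ψ.toMonoidHom) (stabilizer H' (0 : Fin 6))
    (by rw [Subgroup.card_map_of_injective ψ.injective]; exact stab_card H hH ht 0) (stab_card H' hH' ht' 0)
  -- the twisted isomorphism sends the stabilizer of 0 to the stabilizer of 0
  let θ : H ≃* H' := ψ.trans (MulAut.conj g)
  have hθ : ∀ h : H, θ h ∈ stabilizer H' (0 : Fin 6) ↔ h ∈ stabilizer H (0 : Fin 6) := by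
    intro h
    have : stabilizer H' (0 : Fin 6) = (stabilizer H (0 : Fin 6)).map θ.toMonoidHom := by
      rw [hg, Subgroup.map_map]; rfl
    rw [this]
    exact ⟨fun ⟨h', hh', e⟩ => θ.injective e ▸ hh', fun hh => ⟨h, hh, rfl⟩⟩
  choose r hrH hr using fun x => ht 0 x
  let f : Fin 6 → Fin 6 := fun x => (θ ⟨r x, hrH x⟩ : S6) 0
  have hf : ∀ h : H, f ((h : S6) 0) = (θ h : S6) 0 := by
    intro h
    have hmem : h⁻¹ * ⟨r ((h : S6) 0), hrH _⟩ ∈ stabilizer H (0 : Fin 6) := by
      rw [mem_stabilizer_iff, mul_smul, inv_smul_eq_iff]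
      exact hr _
    have h2 := (hθ _).mpr hmem
    rw [mem_stabilizer_iff, map_mul, map_inv, mul_smul, inv_smul_eq_iff] at h2
    exact h2
  have hinj : Function.Injective f := by
    intro x y hxy
    have hmem : (⟨r y, hrH y⟩ : H)⁻¹ * ⟨r x, hrH x⟩ ∈ stabilizer H (0 : Fin 6) := by
      rw [← hθ, mem_stabilizer_iff, map_mul, map_inv, mul_smul, inv_smul_eq_iff]
      exact hxy
    rw [mem_stabilizer_iff, mul_smul, inv_smul_eq_iff] at hmem
    have : r x 0 = r y 0 := hmem
    rwa [hr, hr] at this
  let e : S6 := Equiv.ofBijective f (Finite.injective_iff_bijective.mp hinj)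
  have key : ∀ h : H, (θ h : S6) = e * h * e⁻¹ := by
    intro h
    rw [eq_mul_inv_iff_mul_eq]
    refine Equiv.ext fun x => ?_
    show (θ h : S6) (f x) = f ((h : S6) x)
    have h1 := hf (h * ⟨r x, hrH x⟩)
    simp only [Subgroup.coe_mul, Equiv.Perm.mul_apply, hr, map_mul] at h1
    exact h1.symm
  refine ⟨e, ?_⟩
  ext σ
  constructor
  · intro hσ
    obtain ⟨h, hh⟩ := θ.surjective ⟨σ, hσ⟩
    refine ⟨h, h.2, ?_⟩
    show e * h * e⁻¹ = σ
    rw [← key, hh]
  · rintro ⟨σ', hσ', rfl⟩
    show e * σ' * e⁻¹ ∈ H'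
    rw [← key ⟨σ', hσ'⟩]
    exact (θ _).2

theorem exists_trans : ∃ H : Subgroup S6, H.index = 6 ∧ IsTrans H := by
  have : Fact (Nat.Prime 5) := ⟨by norm_num⟩
  let X := Sylow 5 (Equiv.Perm (Fin 5))
  have hG : Nat.card (Equiv.Perm (Fin 5)) = 120 := by rw [Nat.card_perm, Nat.card_fin]; rfl
  have hP5 : ∀ P : X, Nat.card P = 5 := by
    intro P
    rw [P.card_eq_multiplicity, hG]
    have h120 : (120 : ℕ).factorization 5 = 1 := by
      rw [Nat.factorization_def _ (by norm_num : Nat.Prime 5), show (120 : ℕ) = 5 ^ 1 * 24 by norm_num,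
        padicValNat.mul (by norm_num) (by norm_num), padicValNat.prime_pow,
        padicValNat.eq_zero_of_not_dvd (by norm_num)]
    rw [h120]; norm_num
  have hX : Nat.card X = 6 := by
    obtain ⟨P⟩ : Nonempty X := inferInstance
    have h1 := card_sylow_modEq_one 5 (Equiv.Perm (Fin 5))
    have h2 := P.card_dvd_index
    have hidx : (P : Subgroup (Equiv.Perm (Fin 5))).index = 24 := by
      have := Subgroup.card_mul_index (P : Subgroup (Equiv.Perm (Fin 5)))
      rw [hG, show Nat.card (P : Subgroup (Equiv.Perm (Fin 5))) = 5 from hP5 P] at this; omega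
    rw [hidx] at h2
    have h3 : Nat.card (Sylow 5 (Equiv.Perm (Fin 5))) ≠ 1 := by
      intro h
      have : Subsingleton (Sylow 5 (Equiv.Perm (Fin 5))) := (Nat.card_eq_one_iff_unique.mp h).1
      have := P.normal_of_subsingleton
      have hle := alt_le_of_normal (by simp) (P : Subgroup (Equiv.Perm (Fin 5))) (fun e => by
        have := hP5 P
        rw [show Nat.card P = Nat.card (P : Subgroup (Equiv.Perm (Fin 5))) from rfl, e, Subgroup.card_bot] at this
        norm_num at this)
      have := Subgroup.card_le_of_le hle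
      rw [show Nat.card (P : Subgroup (Equiv.Perm (Fin 5))) = 5 from hP5 P] at this
      have hA := two_mul_nat_card_alternatingGroup (α := Fin 5)
      rw [hG] at hA
      omega
    have hle : Nat.card (Sylow 5 (Equiv.Perm (Fin 5))) ≤ 24 := Nat.le_of_dvd (by norm_num) h2
    unfold Nat.ModEq at h1
    show Nat.card (Sylow 5 (Equiv.Perm (Fin 5))) = 6
    generalize Nat.card (Sylow 5 (Equiv.Perm (Fin 5))) = k at *
    interval_cases k <;> omega
  let φ : Equiv.Perm (Fin 5) →* S6 :=
    (Equiv.permCongrHom (Finite.equivFinOfCardEq hX)).toMonoidHom.comp (MulAction.toPermHom _ X)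
  have htr : IsTrans φ.range := by
    intro x y
    obtain ⟨g, hg⟩ := exists_smul_eq (Equiv.Perm (Fin 5)) ((Finite.equivFinOfCardEq hX).symm x)
      ((Finite.equivFinOfCardEq hX).symm y)
    refine ⟨φ g, ⟨g, rfl⟩, ?_⟩
    show (Finite.equivFinOfCardEq hX) (g • (Finite.equivFinOfCardEq hX).symm x) = y
    rw [hg, Equiv.apply_symm_apply]
  have hinj : Function.Injective φ := by
    rw [← MonoidHom.ker_eq_bot_iff]
    by_contra hne
    have hle := alt_le_of_normal (by simp) φ.ker hne
    have h1 := Subgroup.index_dvd_of_le hle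
    rw [alternatingGroup.index_eq_two, Subgroup.index_ker] at h1
    have h2 : 6 ∣ Nat.card φ.range := by
      have : IsPretransitive φ.range (Fin 6) := ⟨fun x y => let ⟨h, hh, e⟩ := htr x y; ⟨⟨h, hh⟩, e⟩⟩
      have := (stabilizer φ.range (0 : Fin 6)).index_dvd_card
      rwa [index_stabilizer_of_transitive, Nat.card_fin] at this
    exact absurd (Nat.le_of_dvd two_pos (h2.trans h1)) (by norm_num)
  refine ⟨φ.range, index_of_card _ ?_, htr⟩
  rw [← Nat.card_congr (MonoidHom.ofInjective hinj).toEquiv, hG]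

theorem not_trans_stab (a : Fin 6) : ¬ IsTrans (stabilizer S6 a) := by
  intro h
  obtain ⟨b, hb⟩ : ∃ b : Fin 6, b ≠ a := exists_ne a
  obtain ⟨g, hg, hga⟩ := h a b
  exact hb (hga ▸ hg)

theorem card_conj (H : Subgroup S6) (hH : H.index = 6) :
    Nat.card {K : Subgroup S6 // ∃ e : S6, K = H.map (MulAut.conj e).toMonoidHom} = 6 := by
  have hnorm : Subgroup.normalizer (H : Set S6) = H := by
    set N := Subgroup.normalizer (H : Set S6) with hN
    have hle : H ≤ N := Subgroup.le_normalizer
    have hd := Subgroup.index_dvd_of_le hle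
    rw [hH] at hd
    by_cases h6 : 6 ≤ N.index
    · exact (Subgroup.eq_of_le_of_card_ge hle (by
        have := Subgroup.card_mul_index N
        rw [card_S6] at this
        rw [card_of_index H hH]
        nlinarith)).symm
    exfalso
    have hN' : N = ⊤ ∨ N = alternatingGroup (Fin 6) := by
      by_contra hh
      push Not at hh
      exact h6 (S5944.result 6 (by norm_num) N hh.1 hh.2)
    rcases hN' with h | h
    · have : H.Normal := Subgroup.normalizer_eq_top_iff.mp h
      have hne : H ≠ ⊥ := fun e => by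
        have := card_of_index H hH; rw [e, Subgroup.card_bot] at this; norm_num at this
      have := Subgroup.index_dvd_of_le (alt_le_of_normal (by simp) H hne)
      rw [hH, index_alt] at this
      norm_num at this
    · have hHA : H ≤ alternatingGroup (Fin 6) := h ▸ hle
      have hn : (H.subgroupOf (alternatingGroup (Fin 6))).Normal := by
        rw [← h]; exact Subgroup.normal_subgroupOf_of_le_normalizer le_rfl
      have : IsSimpleGroup (alternatingGroup (Fin 6)) := alternatingGroup.isSimpleGroup (by simp)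
      have hc := card_of_index H hH
      rw [← Nat.card_congr (Subgroup.subgroupOfEquivOfLe hHA).toEquiv] at hc
      rcases hn.eq_bot_or_eq_top with e | e
      · rw [e, Subgroup.card_bot] at hc; norm_num at hc
      · rw [e, Subgroup.card_top] at hc
        have hA := two_mul_nat_card_alternatingGroup (α := Fin 6)
        rw [card_S6] at hA
        linarith
  let f : S6 ⧸ H → {K : Subgroup S6 // ∃ e : S6, K = H.map (MulAut.conj e).toMonoidHom} :=
    Quotient.lift (fun e => ⟨H.map (MulAut.conj e).toMonoidHom, e, rfl⟩) (by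
      intro a b hab
      have hab' : a⁻¹ * b ∈ H := QuotientGroup.leftRel_apply.mp hab
      refine Subtype.ext ?_
      show H.map (MulAut.conj a).toMonoidHom = H.map (MulAut.conj b).toMonoidHom
      have h0 : H.map (MulAut.conj (a⁻¹ * b)).toMonoidHom = H :=
        Subgroup.mem_normalizer_iff_map_conj_eq.mp (hnorm.symm ▸ hab')
      conv_lhs => rw [← h0]
      rw [Subgroup.map_map]
      congr 1
      ext x
      simp [MulAut.conj_apply])
  have hb : Function.Bijective f := by
    constructor
    · intro x y hxy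
      induction x using QuotientGroup.induction_on with
      | _ a =>
        induction y using QuotientGroup.induction_on with
        | _ b =>
          refine QuotientGroup.eq.mpr ?_
          rw [← hnorm, Subgroup.mem_normalizer_iff_map_conj_eq]
          have h' : H.map (MulAut.conj a).toMonoidHom = H.map (MulAut.conj b).toMonoidHom :=
            congrArg Subtype.val hxy
          have h'' := congrArg (fun K => Subgroup.map (MulAut.conj a⁻¹).toMonoidHom K) h'
          simp only [Subgroup.map_map] at h''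
          rw [show ((MulAut.conj a⁻¹).toMonoidHom.comp (MulAut.conj a).toMonoidHom) = MonoidHom.id S6 from by
            ext x; simp [MulAut.conj_apply]] at h''
          rw [Subgroup.map_id] at h''
          conv_rhs => rw [h'']
          congr 1
    · rintro ⟨K, e, rfl⟩
      exact ⟨QuotientGroup.mk e, rfl⟩
  rw [← Nat.card_congr (Equiv.ofBijective f hb)]
  exact hH

/-- The symmetric group S_6 has exactly 12 subgroups of index 6; each of them is isomorphic to S_5, and at least one of them is not the stabilizer of any point. -/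
theorem result : Nat.card {H : Subgroup (Equiv.Perm (Fin 6)) // H.index = 6} = 12 ∧ (∀ H : Subgroup (Equiv.Perm (Fin 6)), H.index = 6 → Nonempty (H ≃* Equiv.Perm (Fin 5))) ∧ ∃ H : Subgroup (Equiv.Perm (Fin 6)), H.index = 6 ∧ ∀ a : Fin 6, H ≠ MulAction.stabilizer (Equiv.Perm (Fin 6)) a := by
  obtain ⟨H₀, hH₀, ht₀⟩ := exists_trans
  refine ⟨?_, equiv_S5, H₀, hH₀, fun a h => not_trans_stab a (h ▸ ht₀)⟩
  let C := {K : Subgroup S6 // ∃ e : S6, K = H₀.map (MulAut.conj e).toMonoidHom}
  let f : Fin 6 ⊕ C → {H : Subgroup S6 // H.index = 6} := Sum.elim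
    (fun a => ⟨stabilizer S6 a, by rw [MulAction.index_stabilizer_of_transitive, Nat.card_fin]⟩)
    (fun K => ⟨K.1, by
      obtain ⟨e, he⟩ := K.2
      rw [he, Subgroup.index_map_of_bijective (MulAut.conj e).bijective, hH₀]⟩)
  have hKt : ∀ K : C, IsTrans K.1 := by
    intro K x y
    obtain ⟨e, he⟩ := K.2
    obtain ⟨h, hh, hxy⟩ := ht₀ (e⁻¹ x) (e⁻¹ y)
    refine ⟨e * h * e⁻¹, by rw [he]; exact ⟨h, hh, rfl⟩, ?_⟩
    rw [Equiv.Perm.mul_apply, Equiv.Perm.mul_apply, hxy]; simp
  have hb : Function.Bijective f := by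
    refine ⟨?_, ?_⟩
    · rintro (a | K) (b | K') h <;> simp only [f, Sum.elim_inl, Sum.elim_inr, Subtype.mk.injEq] at h
      · by_contra hne
        have hab : a ≠ b := fun e => hne (congrArg _ e)
        obtain ⟨c, hc⟩ : ∃ c : Fin 6, c ∉ ({a, b} : Finset (Fin 6)) :=
          exists_notMem (lt_of_le_of_lt Finset.card_le_two (by simp))
        simp only [Finset.mem_insert, Finset.mem_singleton, not_or] at hc
        have : Equiv.swap b c ∈ stabilizer S6 b := h ▸ (by
          rw [mem_stabilizer_iff, Equiv.Perm.smul_def]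
          exact Equiv.swap_apply_of_ne_of_ne hab (Ne.symm hc.1))
        rw [mem_stabilizer_iff, Equiv.Perm.smul_def, Equiv.swap_apply_left] at this
        exact hc.2 this
      · exact absurd (h ▸ hKt K') (not_trans_stab a)
      · exact absurd (h ▸ hKt K) (not_trans_stab b)
      · exact congrArg _ (Subtype.ext h)
    · rintro ⟨H, hH⟩
      rcases fixed_or_trans H hH with ⟨a, rfl⟩ | ht
      · exact ⟨.inl a, rfl⟩
      · exact ⟨.inr ⟨H, trans_conj H₀ H hH₀ hH ht₀ ht⟩, rfl⟩
  rw [← Nat.card_congr (Equiv.ofBijective f hb), Nat.card_sum, Nat.card_fin, card_conj H₀ hH₀]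

end Cfsg.Agent.S5945
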