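import Cfsg.Statements.S5911
import Cfsg.Agent.S2119
import Cfsg.Agent.S5945

set_option autoImplicit false
open Cfsg

namespace Cfsg.Agent.S5911

open MulAction

/-- For `n ≥ 5`, `n ≠ 6`: the coset action is an automorphism of `S_n`, hence inner. -/
lemma large {n : ℕ} (h5 : 5 ≤ n) (h6 : n ≠ 6) (H : Subgroup (Equiv.Perm (Fin n))) (hH : H.index = n) :
    ∃ x : Fin n, H = stabilizer (Equiv.Perm (Fin n)) x := by
  classical
  have : Nontrivial (Fin n) := Fin.nontrivial_iff_two_le.mpr (by omega)
  have hcore : H.normalCore = ⊥ := by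
    by_contra h
    have hle := (S5945.alt_le_of_normal (by simpa using h5) H.normalCore h).trans H.normalCore_le
    have h2 := Subgroup.index_dvd_of_le hle
    rw [hH, alternatingGroup.index_eq_two] at h2
    have := Nat.le_of_dvd two_pos h2
    omega
  have hQ : Nat.card (Equiv.Perm (Fin n) ⧸ H) = n := hH
  let e : Equiv.Perm (Fin n) ⧸ H ≃ Fin n := Finite.equivFinOfCardEq hQ
  let f : Equiv.Perm (Fin n) →* Equiv.Perm (Fin n) :=
    e.permCongrHom.toMonoidHom.comp (MulAction.toPermHom (Equiv.Perm (Fin n)) (Equiv.Perm (Fin n) ⧸ H))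
  have hfi : Function.Injective f := e.permCongrHom.injective.comp (by
    rw [← MonoidHom.ker_eq_bot_iff, ← Subgroup.normalCore_eq_ker]
    exact hcore)
  let θ : Equiv.Perm (Fin n) ≃* Equiv.Perm (Fin n) :=
    MulEquiv.ofBijective f ⟨hfi, Finite.surjective_of_injective hfi⟩
  have hA : (alternatingGroup (Fin n)).map θ.toMonoidHom = alternatingGroup (Fin n) :=
    Equiv.Perm.eq_alternatingGroup_of_index_eq_two (by
      rw [Subgroup.index_map_of_bijective (show Function.Bijective θ.toMonoidHom from θ.bijective),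
        alternatingGroup.index_eq_two])
  obtain ⟨σ, hσ⟩ := (S2119.result n (by omega) h6).2
    ((θ.subgroupMap (alternatingGroup (Fin n))).trans (MulEquiv.subgroupCongr hA))
  have hon : ∀ a : alternatingGroup (Fin n), θ (a : Equiv.Perm (Fin n)) = σ * a * σ⁻¹ := fun a => by
    have h := congrArg (fun ψ : MulAut (alternatingGroup (Fin n)) => ((ψ a : alternatingGroup (Fin n)) : Equiv.Perm (Fin n))) hσ
    simp only [MulAut.conjNormal_apply] at h
    exact h.symm
  have hall : ∀ g : Equiv.Perm (Fin n), θ g * σ = σ * g := fun g => by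
    refine S2119.conjNormal_injective (n := n) (by omega) (MulEquiv.ext fun a => Subtype.ext ?_)
    have h1 := hon (MulAut.conjNormal g a)
    rw [MulAut.conjNormal_apply, map_mul, map_mul, map_inv, hon a] at h1
    rw [MulAut.conjNormal_apply, MulAut.conjNormal_apply]
    simp only [mul_inv_rev, mul_assoc] at h1 ⊢
    exact h1
  set pt : Equiv.Perm (Fin n) ⧸ H := QuotientGroup.mk 1
  refine ⟨σ⁻¹ (e pt), Subgroup.ext fun g => ?_⟩
  have hθ : θ g (e pt) = e (g • pt) := by simp [θ, f, MulEquiv.ofBijective_apply]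
  have hg : θ g = σ * g * σ⁻¹ := eq_mul_inv_of_mul_eq (hall g)
  rw [hg, Equiv.Perm.mul_apply, Equiv.Perm.mul_apply] at hθ
  have hHst : H = stabilizer (Equiv.Perm (Fin n)) pt := (stabilizer_quotient H).symm
  conv_lhs => rw [hHst]
  rw [mem_stabilizer_iff, mem_stabilizer_iff, Equiv.Perm.smul_def, ← e.apply_eq_iff_eq, ← hθ]
  constructor
  · intro h
    apply σ.injective
    rw [h]; simp
  · intro h
    rw [h]; simp

/-- For `n ≤ 4` a subgroup of index `n` fixes a point. -/
lemma small {n : ℕ} (h4 : n ≤ 4) (H : Subgroup (Equiv.Perm (Fin n))) (hH : H.index = n) :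
    ∃ x : Fin n, ∀ h ∈ H, h x = x := by
  have hmul := Subgroup.card_mul_index H
  rw [hH, Nat.card_perm, Nat.card_fin] at hmul
  interval_cases n
  · exact absurd hH Subgroup.index_ne_zero_of_finite
  · exact ⟨0, fun h _ => Subsingleton.elim _ _⟩
  · refine ⟨0, fun h hh => ?_⟩
    have : Nat.card H = 1 := by simp only [Nat.factorial] at hmul; omega
    rw [Subgroup.card_eq_one] at this
    rw [this, Subgroup.mem_bot] at hh
    simp [hh]
  · have h2 : Nat.card H = 2 := by norm_num [Nat.factorial] at hmul; omega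
    have : Fact (Nat.Prime 2) := ⟨Nat.prime_two⟩
    obtain ⟨y, hy⟩ := exists_prime_orderOf_dvd_card' (G := H) 2 (by rw [h2])
    have key : ∀ y : Equiv.Perm (Fin 3), y * y = 1 → ∃ a, y a = a := by decide
    obtain ⟨a, ha⟩ := key y.1 (by
      have := pow_orderOf_eq_one y
      rw [hy, sq] at this
      exact congrArg Subtype.val this)
    refine ⟨a, fun h hh => ?_⟩
    have hle : Subgroup.zpowers y.1 ≤ stabilizer (Equiv.Perm (Fin 3)) a := Subgroup.zpowers_le.mpr ha
    have heq : Subgroup.zpowers y.1 = H := Subgroup.eq_of_le_of_card_ge (Subgroup.zpowers_le.mpr y.2)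
      (by rw [Nat.card_zpowers, Subgroup.orderOf_coe, hy, h2])
    exact hle ((SetLike.ext_iff.1 heq h).2 hh)
  · have h6 : Nat.card H = 6 := by norm_num [Nat.factorial] at hmul; omega
    have : Fact (Nat.Prime 3) := ⟨Nat.prime_three⟩
    obtain ⟨x, hx⟩ := exists_prime_orderOf_dvd_card' (G := H) 3 (by rw [h6]; norm_num)
    have key : ∀ x : Equiv.Perm (Fin 4), x * (x * x) = 1 → x ≠ 1 →
        ∃ a, x a = a ∧ ∀ b, x b = b → b = a := by decide
    obtain ⟨a, ha, huniq⟩ := key x.1 (by
      have := pow_orderOf_eq_one x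
      rw [hx, pow_succ', sq] at this
      exact congrArg Subtype.val this) (fun h => by
        rw [← Subgroup.orderOf_coe, h, orderOf_one] at hx; norm_num at hx)
    have hidx : (Subgroup.zpowers x).index = 2 := by
      have := Subgroup.card_mul_index (Subgroup.zpowers x)
      rw [Nat.card_zpowers, hx, h6] at this
      omega
    have hn := Subgroup.normal_of_index_eq_two hidx
    refine ⟨a, fun h hh => huniq _ ?_⟩
    obtain ⟨k, hk⟩ := hn.conj_mem x (Subgroup.mem_zpowers x) ⟨h, hh⟩⁻¹
    have hk' : x.1 ^ k = h⁻¹ * x.1 * h := by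
      have := congrArg Subtype.val hk
      simpa using this
    have hfix : (x.1 ^ k) a = a :=
      (Subgroup.zpow_mem (stabilizer (Equiv.Perm (Fin 4)) a) ha k : x.1 ^ k ∈ _)
    rw [hk', Equiv.Perm.mul_apply, Equiv.Perm.mul_apply] at hfix
    have := congrArg h hfix
    simpa using this

/-- Let Ω be a finite set whose size n is not 6. Then every subgroup of the symmetric group on Ω of index n is the stabilizer of a point. -/
theorem result {Ω : Type*} [Fintype Ω] [DecidableEq Ω] (h6 : Fintype.card Ω ≠ 6)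
    (H : Subgroup (Equiv.Perm Ω)) (hH : H.index = Fintype.card Ω) :
    ∃ x : Ω, H = MulAction.stabilizer (Equiv.Perm Ω) x := by
  classical
  set n := Fintype.card Ω with hn
  let e : Ω ≃ Fin n := Fintype.equivFin Ω
  set K := H.map e.permCongrHom.toMonoidHom with hK
  have hKi : K.index = n := by
    rw [hK, Subgroup.index_map_of_bijective (show Function.Bijective e.permCongrHom.toMonoidHom from e.permCongrHom.bijective), hH]
  obtain ⟨x, hx⟩ : ∃ x : Fin n, K = stabilizer (Equiv.Perm (Fin n)) x := by
    by_cases h4 : n ≤ 4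
    · obtain ⟨x, hx⟩ := small h4 K hKi
      refine ⟨x, Subgroup.eq_of_le_of_card_ge (fun h hh => hx h hh) ?_⟩
      have h1 := Subgroup.card_mul_index K
      have h2 := Subgroup.card_mul_index (stabilizer (Equiv.Perm (Fin n)) x)
      rw [hKi] at h1
      rw [MulAction.index_stabilizer_of_transitive, Nat.card_fin, ← h1] at h2
      exact (Nat.eq_of_mul_eq_mul_right (show 0 < n from x.pos) h2).le
    · exact large (by omega) h6 K hKi
  refine ⟨e.symm x, Subgroup.ext fun g => ?_⟩
  have : g ∈ H ↔ e.permCongrHom g ∈ K := by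
    rw [hK]
    exact (Subgroup.mem_map_iff_mem e.permCongrHom.injective).symm
  rw [this, hx, mem_stabilizer_iff, mem_stabilizer_iff, Equiv.Perm.smul_def, Equiv.Perm.smul_def]
  constructor
  · intro h
    apply e.injective
    simpa using h
  · intro h
    simpa using congrArg e h

end Cfsg.Agent.S5911
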