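import Cfsg.Statements.S5912
import Cfsg.Agent.S5945

set_option autoImplicit false
open Cfsg

namespace Cfsg.Agent.S5912

/-- The symmetric group on a 6-element set Ω has exactly two conjugacy classes of subgroups of index 6: there are two non-conjugate subgroups of index 6 (a point stabilizer and a transitive subgroup isomorphic to S₅), and every subgroup of index 6 is conjugate to one of them. -/
theorem result {Ω : Type*} [Fintype Ω] [DecidableEq Ω] (h6 : Fintype.card Ω = 6) :
    ∃ H₁ H₂ : Subgroup (Equiv.Perm Ω), H₁.index = 6 ∧ H₂.index = 6 ∧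
      (¬ ∃ g : Equiv.Perm Ω, Subgroup.map (MulAut.conj g).toMonoidHom H₁ = H₂) ∧
      ∀ H : Subgroup (Equiv.Perm Ω), H.index = 6 →
        ∃ g : Equiv.Perm Ω, Subgroup.map (MulAut.conj g).toMonoidHom H₁ = H ∨ Subgroup.map (MulAut.conj g).toMonoidHom H₂ = H := by
  classical
  let e : Ω ≃ Fin 6 := Fintype.equivFinOfCardEq h6
  let φ : Equiv.Perm Ω ≃* Equiv.Perm (Fin 6) := e.permCongrHom
  obtain ⟨H₀, hH₀, ht₀⟩ := S5945.exists_trans
  set x₀ : Ω := e.symm 0
  have hi1 : (MulAction.stabilizer (Equiv.Perm Ω) x₀).index = 6 := by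
    rw [MulAction.index_stabilizer_of_transitive, Nat.card_eq_fintype_card, h6]
  have hsmul : ∀ (g : Equiv.Perm Ω) (x : Ω),
      (MulAction.stabilizer (Equiv.Perm Ω) x).map (MulAut.conj g).toMonoidHom =
        MulAction.stabilizer (Equiv.Perm Ω) (g x) := fun g x =>
    (MulAction.stabilizer_smul_eq_stabilizer_map_conj g x).symm
  have hmap : ∀ x : Ω, (MulAction.stabilizer (Equiv.Perm Ω) x).map φ.toMonoidHom =
      MulAction.stabilizer (Equiv.Perm (Fin 6)) (e x) := fun x => by
    ext π
    rw [Subgroup.mem_map_equiv, MulAction.mem_stabilizer_iff, MulAction.mem_stabilizer_iff,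
      Equiv.Perm.smul_def, Equiv.Perm.smul_def]
    constructor
    · intro h
      have := congrArg e h
      simpa [φ] using this
    · intro h
      simp [φ, h]
  refine ⟨MulAction.stabilizer (Equiv.Perm Ω) x₀, H₀.map φ.symm.toMonoidHom, hi1, ?_, ?_, ?_⟩
  · rw [Subgroup.index_map_of_bijective (show Function.Bijective φ.symm.toMonoidHom from φ.symm.bijective), hH₀]
  · rintro ⟨g, hg⟩
    rw [hsmul] at hg
    have h := congrArg (Subgroup.map φ.toMonoidHom) hg
    rw [hmap, Subgroup.map_map] at h
    rw [show φ.toMonoidHom.comp φ.symm.toMonoidHom = MonoidHom.id _ from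
      MonoidHom.ext fun a => φ.apply_symm_apply a, Subgroup.map_id] at h
    exact S5945.not_trans_stab _ (h ▸ ht₀)
  · intro H hH
    have hK : (H.map φ.toMonoidHom).index = 6 := by
      rw [Subgroup.index_map_of_bijective (show Function.Bijective φ.toMonoidHom from φ.bijective), hH]
    have hback : (H.map φ.toMonoidHom).map φ.symm.toMonoidHom = H := by
      rw [Subgroup.map_map, show φ.symm.toMonoidHom.comp φ.toMonoidHom = MonoidHom.id _ from
        MonoidHom.ext fun a => φ.symm_apply_apply a, Subgroup.map_id]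
    rcases S5945.fixed_or_trans _ hK with ⟨a, ha⟩ | ht
    · refine ⟨Equiv.swap x₀ (e.symm a), Or.inl ?_⟩
      rw [hsmul, Equiv.swap_apply_left]
      apply Subgroup.map_injective (f := φ.toMonoidHom) φ.injective
      rw [hmap, ha, Equiv.apply_symm_apply]
    · obtain ⟨c, hc⟩ := S5945.trans_conj _ _ hH₀ hK ht₀ ht
      refine ⟨φ.symm c, Or.inr ?_⟩
      rw [← hback, hc, Subgroup.map_map, Subgroup.map_map]
      congr 1
      exact MonoidHom.ext fun a => by simp [MulAut.conj_apply]

end Cfsg.Agent.S5912
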