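import Cfsg.Statements.S5938
import Cfsg.Agent.Lib.PSL2.Overgroups

set_option autoImplicit false
open Cfsg

namespace Cfsg.Agent.S5938

/-- Let p be a prime with p ≡ ±1 (mod 8) and F a field with p elements. Then PSL_2(F) has a maximal subgroup isomorphic to the symmetric group S_4. -/
theorem result {F : Type*} [Field F] [Fintype F] (p : ℕ) [Fact p.Prime] (hF : Fintype.card F = p) (hp : p % 8 = 1 ∨ p % 8 = 7) : ∃ H : Subgroup (Matrix.ProjectiveSpecialLinearGroup (Fin 2) F), IsCoatom H ∧ Nonempty (H ≃* Equiv.Perm (Fin 4)) := by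
  have hcF' : Nat.card F = p := Nat.card_eq_fintype_card.trans hF
  obtain ⟨p', hp'⟩ := CharP.exists F
  have : Fact p'.Prime := ⟨CharP.char_is_prime F p'⟩
  obtain ⟨n, hn, hcn, -⟩ := PSL2.q_cases (F := F) p'
  have hpp : p' = p := by
    have h := hcn.symm.trans hcF'
    exact (Nat.prime_dvd_prime_iff_eq Fact.out Fact.out).1 (h ▸ dvd_pow_self p' (by omega))
  subst hpp
  have hp7 : 7 ≤ p' := by have := (Fact.out : p'.Prime).two_le; omega
  obtain ⟨H, ⟨e⟩⟩ := PSL2.exists_permFour_sub_iff.2 (show Nat.card F ^ 2 % 16 = 1 by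
    rw [hcF', Nat.pow_mod]
    have : p' % 16 = 1 ∨ p' % 16 = 7 ∨ p' % 16 = 9 ∨ p' % 16 = 15 := by omega
    rcases this with h | h | h | h <;> rw [h] <;> norm_num)
  have hH : Nat.card H = 24 := (Nat.card_congr e.toEquiv).trans PSL2.card_perm_four
  refine ⟨H, PSL2.isCoatom_of_forall ?_ ?_, ⟨e⟩⟩
  · intro htop
    rw [htop, Subgroup.card_top] at hH
    have h := PSL2.two_card_psl_ge (F := F)
    rw [hH, hcF'] at h
    have : 7 * (8 * 6) ≤ p' * ((p' + 1) * (p' - 1)) :=
      Nat.mul_le_mul hp7 (Nat.mul_le_mul (by omega) (by omega))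
    omega
  · intro M hle hne
    have hdvd := hH ▸ Subgroup.card_dvd_of_le hle
    rcases PSL2.overgroup_cases p' hle (PSL2.oddPair_permFour.of_equiv e)
      (fun P hP => PSL2.not_permFour_le_stabilizer p' (H.subtype.comp e.symm.toMonoidHom)
        (Subtype.coe_injective.comp e.symm.injective) (fun g => hP (e.symm g).2)) with
      ⟨-, ⟨⟨f⟩⟩ | ⟨⟨f⟩⟩ | ⟨⟨f⟩⟩⟩ | ⟨h3, -⟩ | ⟨R, m, hm, hR, h⟩
    · rw [(Nat.card_congr f.toEquiv).trans PSL2.card_alt_four] at hdvd
      norm_num at hdvd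
    · refine PSL2.eq_of_le_of_card hle ?_
      rw [hH, (Nat.card_congr f.toEquiv).trans PSL2.card_perm_four]
    · rw [(Nat.card_congr f.toEquiv).trans PSL2.card_alt_five] at hdvd
      norm_num at hdvd
    · omega
    · have hm1 : m = 1 := by
        rw [hcF'] at hR
        have h := (Nat.Prime.pow_eq_iff (Fact.out : p'.Prime)).1 hR
        exact h.2
      subst hm1
      rcases h with ⟨⟨f⟩⟩ | ⟨-, he, -⟩
      · exact absurd (PSL2.eq_top_of_psl (by rw [← hR, pow_one]) f) hne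
      · exact absurd he (by decide)

end Cfsg.Agent.S5938
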