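import Cfsg.Statements.S5939
import Cfsg.Agent.Lib.PSL2.Overgroups

set_option autoImplicit false
open Cfsg

namespace Cfsg.Agent.S5939

/-- Let p be a prime and F a finite field of characteristic p such that either F has p elements and p ≡ ±1 (mod 10), or F has p² elements and p ≡ ±3 (mod 10). Then PSL_2(F) has a maximal subgroup isomorphic to the alternating group A_5. -/
theorem result {F : Type*} [Field F] [Fintype F] (p : ℕ) [Fact p.Prime] [CharP F p] (h : (Fintype.card F = p ∧ (p % 10 = 1 ∨ p % 10 = 9)) ∨ (Fintype.card F = p ^ 2 ∧ (p % 10 = 3 ∨ p % 10 = 7))) : ∃ H : Subgroup (Matrix.ProjectiveSpecialLinearGroup (Fin 2) F), IsCoatom H ∧ Nonempty (H ≃* alternatingGroup (Fin 5)) := by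
  rw [← Nat.card_eq_fintype_card] at h
  have hp2 : p ≠ 2 := by
    rintro rfl
    rcases h with ⟨-, h⟩ | ⟨-, h⟩ <;> omega
  have h5 : 5 ∣ Nat.card F * (Nat.card F ^ 2 - 1) := by
    refine Dvd.dvd.mul_left ?_ _
    have key : Nat.card F ^ 2 % 5 = 1 := by
      rcases h with ⟨hF, h⟩ | ⟨hF, h⟩
      · rw [hF, Nat.pow_mod]
        rcases (show p % 5 = 1 ∨ p % 5 = 4 by omega) with e | e <;> rw [e] <;> norm_num
      · rw [hF, Nat.pow_mod, Nat.pow_mod p]
        rcases (show p % 5 = 3 ∨ p % 5 = 2 by omega) with e | e <;> rw [e] <;> norm_num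
    omega
  obtain ⟨H, ⟨e⟩⟩ := PSL2.exists_alternatingFive_sub_iff.2 h5
  have hH : Nat.card H = 60 := (Nat.card_congr e.toEquiv).trans PSL2.card_alt_five
  have hp3 : 3 ≤ p := by have := (Fact.out : p.Prime).two_le; omega
  refine ⟨H, PSL2.isCoatom_of_forall ?_ ?_, ⟨e⟩⟩
  · intro htop
    rw [htop, Subgroup.card_top] at hH
    have h1 := PSL2.two_card_psl_ge (F := F)
    rw [hH] at h1
    have h9 : 9 ≤ Nat.card F := by
      rcases h with ⟨hF, h⟩ | ⟨hF, h⟩
      · omega
      · rw [hF]; exact (Nat.pow_le_pow_left hp3 2).trans' (by norm_num)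
    have : 9 * (10 * 8) ≤ Nat.card F * ((Nat.card F + 1) * (Nat.card F - 1)) :=
      Nat.mul_le_mul h9 (Nat.mul_le_mul (by omega) (by omega))
    omega
  · intro M hle hne
    have hdvd := hH ▸ Subgroup.card_dvd_of_le hle
    rcases PSL2.overgroup_cases p hle (PSL2.oddPair_altFive.of_equiv e)
      (fun P hP => PSL2.not_altFive_le_stabilizer p (H.subtype.comp e.symm.toMonoidHom)
        (Subtype.coe_injective.comp e.symm.injective) (fun g => hP (e.symm g).2)) with
      ⟨-, ⟨⟨f⟩⟩ | ⟨⟨f⟩⟩ | ⟨⟨f⟩⟩⟩ | ⟨-, h60, -⟩ | ⟨R, m, hm, hR, hiso⟩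
    · rw [(Nat.card_congr f.toEquiv).trans PSL2.card_alt_four] at hdvd
      norm_num at hdvd
    · rw [(Nat.card_congr f.toEquiv).trans PSL2.card_perm_four] at hdvd
      norm_num at hdvd
    · exact PSL2.eq_of_le_of_card hle
        (by rw [hH, (Nat.card_congr f.toEquiv).trans PSL2.card_alt_five])
    · exact PSL2.eq_of_le_of_card hle (by rw [hH, h60])
    · rcases h with ⟨hF, h10⟩ | ⟨hF, h10⟩
      · obtain rfl : m = 1 := ((Nat.Prime.pow_eq_iff Fact.out).1 (hR.trans hF)).2
        rcases hiso with ⟨⟨f⟩⟩ | ⟨-, he, -⟩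
        · exact absurd (PSL2.eq_top_of_psl (by rw [← hR, pow_one]) f) hne
        · exact absurd he (by decide)
      · rw [hF] at hR
        obtain ⟨k, -, hk⟩ := (Nat.dvd_prime_pow Fact.out).1
          (hR ▸ dvd_pow_self _ (by omega) : Nat.card R ∣ p ^ 2)
        rw [hk, ← pow_mul] at hR
        have hkm := Nat.pow_right_injective (Fact.out : p.Prime).two_le hR
        rcases (Nat.dvd_prime Nat.prime_two).1 ⟨m, hkm.symm⟩ with rfl | rfl
        · exfalso
          rw [pow_one] at hk
          have hM : Nat.card M ∣ p * ((p + 1) * (p - 1)) := by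
            rcases hiso with ⟨⟨f⟩⟩ | ⟨-, -, ⟨f⟩⟩
            · rw [Nat.card_congr f.toEquiv, ← hk, ← PSL2.card_psl_mul]
              exact Nat.dvd_mul_left _ _
            · rw [Nat.card_congr f.toEquiv, PSL2.card_pgl_eq, hk]
          have h5' : 5 ∣ p * ((p + 1) * (p - 1)) := (Dvd.dvd.trans (by norm_num) hdvd).trans hM
          have h5'' : (5 : ℕ).Prime := by norm_num
          rcases h5''.dvd_mul.1 h5' with e | e
          · omega
          · rcases h5''.dvd_mul.1 e with e | e <;> omega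
        · rcases hiso with ⟨⟨f⟩⟩ | ⟨-, he, -⟩
          · exact absurd (PSL2.eq_top_of_psl (hk.trans hF.symm) f) hne
          · obtain rfl : m = 1 := by omega
            exact absurd he (by decide)

end Cfsg.Agent.S5939
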