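import Cfsg.Statements.S5940
import Cfsg.Agent.Lib.PSL2.Overgroups

set_option autoImplicit false
open Cfsg

namespace Cfsg.Agent.S5940

/-- Let p ≥ 5 be a prime with p ≡ ±3 (mod 8) and p ≢ ±1 (mod 10), and F a field with p elements. Then PSL_2(F) has a maximal subgroup isomorphic to the alternating group A_4. -/
theorem result {F : Type*} [Field F] [Fintype F] (p : ℕ) [Fact p.Prime] (hF : Fintype.card F = p) (h5 : 5 ≤ p) (h8 : p % 8 = 3 ∨ p % 8 = 5) (h10 : p % 10 ≠ 1 ∧ p % 10 ≠ 9) : ∃ H : Subgroup (Matrix.ProjectiveSpecialLinearGroup (Fin 2) F), IsCoatom H ∧ Nonempty (H ≃* alternatingGroup (Fin 4)) := by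
  rw [← Nat.card_eq_fintype_card] at hF
  obtain ⟨p', hp'⟩ := CharP.exists F
  have : Fact p'.Prime := ⟨CharP.char_is_prime F p'⟩
  obtain ⟨n, hn, hcn, -⟩ := PSL2.q_cases (F := F) p'
  have hpp : p' = p :=
    (Nat.prime_dvd_prime_iff_eq Fact.out Fact.out).1
      (hcn.symm.trans hF ▸ dvd_pow_self p' (by omega))
  subst hpp
  obtain ⟨H, ⟨e⟩⟩ := (PSL2.exists_alternatingFour_sub_iff p' 1 (by rw [hF, pow_one])).2
    (fun h => by omega)
  have hH : Nat.card H = 12 := (Nat.card_congr e.toEquiv).trans PSL2.card_alt_four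
  have hmul := PSL2.card_psl_mul (F := F)
  refine ⟨H, PSL2.isCoatom_of_forall ?_ ?_, ⟨e⟩⟩
  · intro htop
    rw [htop, Subgroup.card_top] at hH
    have h1 := PSL2.two_card_psl_ge (F := F)
    rw [hH, hF] at h1
    have : 5 * (6 * 4) ≤ p' * ((p' + 1) * (p' - 1)) :=
      Nat.mul_le_mul h5 (Nat.mul_le_mul (by omega) (by omega))
    omega
  · intro M hle hne
    rcases PSL2.overgroup_cases p' hle (PSL2.oddPair_altFour.of_equiv e)
      (fun P hP => by
        have := PSL2.eq_two_of_altFour_le_stabilizer p' (H.subtype.comp e.symm.toMonoidHom)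
          (Subtype.coe_injective.comp e.symm.injective) (fun g => hP (e.symm g).2)
        omega) with
      ⟨-, ⟨⟨f⟩⟩ | h | h⟩ | ⟨h3, -⟩ | ⟨R, m, hm, hR, hiso⟩
    · exact PSL2.eq_of_le_of_card hle
        (by rw [hH, (Nat.card_congr f.toEquiv).trans PSL2.card_alt_four])
    · exfalso
      have h16 := PSL2.exists_permFour_sub_iff.1 ⟨M, h⟩
      rw [hF, Nat.pow_mod] at h16
      rcases (show p' % 16 = 3 ∨ p' % 16 = 5 ∨ p' % 16 = 11 ∨ p' % 16 = 13 by omega) with r | r | r | r <;>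
        rw [r] at h16 <;> norm_num at h16
    · obtain ⟨f⟩ := h
      have h5' := PSL2.exists_alternatingFive_sub_iff.1 ⟨M, ⟨f⟩⟩
      rw [hF, GLOrder.sq_sub_one] at h5'
      have h5'' : (5 : ℕ).Prime := by norm_num
      rcases h5''.dvd_mul.1 h5' with r | r
      · obtain rfl : p' = 5 := ((Nat.prime_dvd_prime_iff_eq h5'' Fact.out).1 r).symm
        refine absurd (Subgroup.eq_top_of_card_eq M ?_) hne
        rw [(Nat.card_congr f.toEquiv).trans PSL2.card_alt_five]
        rw [hF] at hmul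
        norm_num at hmul
        omega
      · rcases h5''.dvd_mul.1 r with r | r <;> omega
    · omega
    · obtain rfl : m = 1 := ((Nat.Prime.pow_eq_iff Fact.out).1 (hR.trans hF)).2
      rcases hiso with ⟨⟨f⟩⟩ | ⟨-, he, -⟩
      · exact absurd (PSL2.eq_top_of_psl (by rw [← hR, pow_one]) f) hne
      · exact absurd he (by decide)

end Cfsg.Agent.S5940
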