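import Cfsg.Statements.S5941
import Cfsg.Agent.Lib.PSL2.Overgroups

set_option autoImplicit false
open Cfsg

namespace Cfsg.Agent.S5941

/-- Let K and F be finite fields of odd characteristic with #F = (#K)². Then PSL_2(F) has a maximal subgroup isomorphic to PGL_2(K). -/
theorem result {F K : Type*} [Field F] [Fintype F] [Field K] [Fintype K] (q : ℕ) (hK : Fintype.card K = q) (hF : Fintype.card F = q ^ 2) (hq : Odd q) : ∃ H : Subgroup (Matrix.ProjectiveSpecialLinearGroup (Fin 2) F), IsCoatom H ∧ Nonempty (H ≃* Matrix.ProjGenLinGroup (Fin 2) K) := by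
  obtain ⟨p, hp⟩ := CharP.exists F
  have : Fact p.Prime := ⟨CharP.char_is_prime F p⟩
  rw [← Nat.card_eq_fintype_card] at hK hF
  subst hK
  obtain ⟨H, ⟨e⟩⟩ := PSL2.exists_pgl_subfield_sub (F := F) (L := K) (m := 2) hF.symm (by decide)
  obtain ⟨φ⟩ := PSL2.exists_ringHom_of_card_pow (F := F) (L := K) (m := 2) hF.symm
  have : CharP K p := (RingHom.charP_iff φ φ.injective p).2 inferInstance
  have hq3 : 3 ≤ Nat.card K := by
    have := Finite.one_lt_card (α := K)
    obtain ⟨i, hi⟩ := hq
    omega
  have hH : Nat.card H = Nat.card K * ((Nat.card K + 1) * (Nat.card K - 1)) :=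
    (Nat.card_congr e.toEquiv).trans PSL2.card_pgl_eq
  let g : PSL2.PSL2 K →* PSL2.PSL2 F :=
    H.subtype.comp (e.symm.toMonoidHom.comp Matrix.ProjectiveSpecialLinearGroup.toPGL)
  have hg : Function.Injective g := Subtype.coe_injective.comp
    (e.symm.injective.comp Matrix.ProjectiveSpecialLinearGroup.toPGL_injective)
  have hgH : g.range ≤ H := by rintro _ ⟨x, rfl⟩; exact Subtype.prop _
  have hodd : PSL2.OddPair H :=
    ((PSL2.oddPair_psl p hq3).map Matrix.ProjectiveSpecialLinearGroup.toPGL
      Matrix.ProjectiveSpecialLinearGroup.toPGL_injective).of_equiv e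
  refine ⟨H, PSL2.isCoatom_of_forall ?_ ?_, ⟨e⟩⟩
  · intro htop
    rw [htop, Subgroup.card_top] at hH
    have h1 := PSL2.two_card_psl_ge (F := F)
    rw [hH, hF] at h1
    set q := Nat.card K
    have h9 : 3 * q ≤ q ^ 2 := by rw [pow_two]; exact Nat.mul_le_mul_right q hq3
    have : 3 * q * ((q + 1) * (q - 1)) ≤ q ^ 2 * ((q ^ 2 + 1) * (q ^ 2 - 1)) :=
      Nat.mul_le_mul h9 (Nat.mul_le_mul (by omega) (by omega))
    have hpos : 0 < q * ((q + 1) * (q - 1)) :=
      Nat.mul_pos (by omega) (Nat.mul_pos (by omega) (by omega))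
    rw [mul_assoc] at this
    omega
  · intro M hle hne
    have hdvd := Subgroup.card_dvd_of_le hle
    have hpM : p ∣ Nat.card M :=
      (PSL2.dvd_card_psl p).trans (PSL2.dvd_card_of_psl_le p g hg (hgH.trans hle))
    rcases PSL2.overgroup_cases p hle hodd
      (fun P hP => PSL2.not_range_le_stabilizer p g hg P (hgH.trans hP)) with
      ⟨hpn, -⟩ | ⟨rfl, h60, -⟩ | ⟨R, m, hm, hR, hiso⟩
    · exact absurd hpM hpn
    · exfalso
      obtain ⟨a, ha, hKa⟩ := GLOrder.exists_card_eq_pow (F := K) 3
      rw [h60, hH, hKa] at hdvd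
      rcases Nat.lt_or_ge a 2 with ha2 | ha2
      · obtain rfl : a = 1 := by omega
        norm_num at hdvd
      · have h9 : 9 ≤ 3 ^ a := (Nat.pow_le_pow_right (by norm_num) ha2).trans' (by norm_num)
        have h10 : 9 * (10 * 8) ≤ 3 ^ a * ((3 ^ a + 1) * (3 ^ a - 1)) :=
          Nat.mul_le_mul h9 (Nat.mul_le_mul (by omega) (by omega))
        have := Nat.le_of_dvd (by norm_num) hdvd
        omega
    · have hMle : Nat.card M ≤ Nat.card R * ((Nat.card R + 1) * (Nat.card R - 1)) := by
        rcases hiso with ⟨⟨f⟩⟩ | ⟨-, -, ⟨f⟩⟩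
        · rw [Nat.card_congr f.toEquiv]; exact PSL2.psl_card_le
        · rw [Nat.card_congr f.toEquiv, PSL2.card_pgl_eq]
      have hHM : Nat.card H ≤ Nat.card M := Subgroup.card_le_of_le hle
      have hle' : Nat.card K ≤ Nat.card R := by
        by_contra hlt
        push Not at hlt
        have : Nat.card R * ((Nat.card R + 1) * (Nat.card R - 1)) <
            Nat.card K * ((Nat.card K + 1) * (Nat.card K - 1)) :=
          Nat.mul_lt_mul_of_lt_of_le hlt (Nat.mul_le_mul (by omega) (by omega))
            (Nat.mul_pos (by omega) (by omega))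
        omega
      rw [hF] at hR
      have hm2 : m ≤ 2 := by
        by_contra hlt
        have h1 : Nat.card K ^ 3 ≤ Nat.card K ^ 2 :=
          hR ▸ (Nat.pow_le_pow_left hle' 3).trans
            (Nat.pow_le_pow_right Finite.card_pos (by omega))
        have h2 := Nat.pow_lt_pow_right (show 1 < Nat.card K by omega) (show 2 < 3 by norm_num)
        omega
      rcases (show m = 1 ∨ m = 2 by omega) with rfl | rfl
      · rcases hiso with ⟨⟨f⟩⟩ | ⟨-, he, -⟩
        · exact absurd (PSL2.eq_top_of_psl (by rw [hF, ← hR, pow_one]) f) hne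
        · exact absurd he (by decide)
      · have hRK : Nat.card R = Nat.card K := Nat.pow_left_injective two_ne_zero hR
        rw [hRK] at hMle
        exact PSL2.eq_of_le_of_card hle (hH ▸ hMle)

end Cfsg.Agent.S5941
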