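import Cfsg.Statements.S5947
import Cfsg.Agent.EqLemmas

set_option autoImplicit false
open Cfsg

namespace Cfsg.Agent.S5947

/-- Let F ⊆ K be finite fields with |F| = q and [K : F] = n ≥ 2, regard K as an n-dimensional F-vector space, and let M ≤ GL_F(K) be the Singer group of multiplications by non-zero elements of K (cyclic of order q^n − 1). Assume (n, q) ≠ (6, 2), and that it is not the case that n = 2 with q a prime such that q + 1 is a power of 2. Then every abelian subgroup of GL_F(K) of order q^n − 1 is conjugate to M. -/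
theorem result {F K : Type*} [Field F] [Fintype F] [Field K] [Fintype K] [Algebra F K] (n : ℕ) (hn : 2 ≤ n) (hdim : Module.finrank F K = n)
    (hex1 : ¬ (n = 6 ∧ Fintype.card F = 2))
    (hex2 : ¬ (n = 2 ∧ (Fintype.card F).Prime ∧ ∃ a : ℕ, Fintype.card F + 1 = 2 ^ a))
    (U : Subgroup (Module.End F K)ˣ) (hU : IsMulCommutative U) (hcard : Nat.card U = Fintype.card K - 1) :
    ∃ g : (Module.End F K)ˣ, U.map (MulAut.conj g).toMonoidHom = (Units.map ((Algebra.lmul F K : K →ₐ[F] Module.End F K) : K →* Module.End F K)).range := by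
  classical
  set q := Fintype.card F with hq
  have hKq : Fintype.card K = q ^ n := by rw [Module.card_eq_pow_finrank (K := F) (V := K), hdim]
  obtain ⟨p, hp⟩ := CharP.exists F
  obtain ⟨e, hpp, he⟩ := FiniteField.card F p
  have : Fact p.Prime := ⟨hpp⟩
  have : CharP (Module.End F K) p :=
    charP_of_injective_algebraMap (FaithfulSMul.algebraMap_injective F (Module.End F K)) p
  have : ExpChar (Module.End F K) p := ExpChar.prime hpp
  have h1K : 1 < q ^ n := hKq ▸ Fintype.one_lt_card
  set Q := q ^ n with hQ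
  have hUpow : ∀ u ∈ U, u ^ Q = u := by
    intro u hu
    have h1 : (⟨u, hu⟩ : U) ^ Nat.card U = 1 := pow_card_eq_one'
    rw [hcard, hKq] at h1
    have h2 : u ^ (Q - 1) = 1 := congrArg Subtype.val h1
    calc u ^ Q = u ^ (Q - 1 + 1) := by rw [Nat.sub_add_cancel h1K.le]
      _ = u := by rw [pow_succ, h2, one_mul]
  have : Finite (Module.End F K) := Finite.of_injective (fun f => (f : K → K)) DFunLike.coe_injective
  let S : Set (Module.End F K) := (fun u : (Module.End F K)ˣ => (u : Module.End F K)) '' (U : Set _)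
  let A := Algebra.adjoin F S
  have hS : ∀ x ∈ S, ∀ y ∈ S, x * y = y * x := by
    rintro _ ⟨u, hu, rfl⟩ _ ⟨w, hw, rfl⟩
    have := setLike_mul_comm (s := U) hu hw
    simp only [← Units.val_mul, this]
  have hAc : IsMulCommutative A := Algebra.isMulCommutative_adjoin F hS
  have hc : ∀ x ∈ A, ∀ y ∈ A, Commute x y := fun x hx y hy => setLike_mul_comm hx hy
  have hfix : ∀ x ∈ A, x ^ Q = x := by
    intro x hx
    induction hx using Algebra.adjoin_induction with
    | mem y hy =>
      obtain ⟨u, hu, rfl⟩ := hy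
      simp only [← Units.val_pow_eq_pow_val, hUpow u hu]
    | algebraMap r => rw [← map_pow, hQ, hq, FiniteField.pow_card_pow]
    | add y z hy hz h1 h2 =>
      have hQp : Q = p ^ ((e : ℕ) * n) := by rw [hQ, hq, he, pow_mul]
      rw [hQp, add_pow_expChar_pow_of_commute _ _ (hc y hy z hz), ← hQp, h1, h2]
    | mul y z hy hz h1 h2 => rw [(hc y hy z hz).mul_pow, h1, h2]
  have hUA : ∀ u ∈ U, (u : Module.End F K) ∈ A := fun u hu => Algebra.subset_adjoin ⟨u, hu, rfl⟩
  -- a vector with trivial annihilator in `A`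
  obtain ⟨v, hv⟩ : ∃ v : K, ∀ a ∈ A, a v = 0 → a = 0 := by
    let ann : K → Set (Module.End F K) := fun v => {a | a ∈ A ∧ a v = 0}
    obtain ⟨v, hv⟩ := Finite.exists_min (fun v => (ann v).ncard)
    refine ⟨v, fun x hx hxv => ?_⟩
    by_contra hx0
    set ε := x ^ (Q - 1) with hε
    have hεA : ε ∈ A := pow_mem hx _
    have hεx : ε * x = x := by rw [hε, ← pow_succ, Nat.sub_add_cancel h1K.le, hfix x hx]
    have hεv : ε v = 0 := by
      rw [hε, ← Nat.sub_add_cancel (show 1 ≤ Q - 1 by omega), pow_succ, Module.End.mul_apply, hxv,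
        map_zero]
    have hεε : ε * ε = ε := by
      have h2 : ε * ε = x ^ (Q - 2) * (ε * x) := by
        rw [hε, ← pow_succ, ← pow_add, ← pow_add]; congr 1; omega
      rw [h2, hεx, ← pow_succ, hε]; congr 1; omega
    have hεapp : ∀ y, ε (ε y) = ε y := fun y => LinearMap.congr_fun hεε y
    obtain ⟨w, hw⟩ : ∃ w, ε w ≠ 0 := by
      by_contra h
      push Not at h
      have : ε = 0 := LinearMap.ext h
      rw [this, zero_mul] at hεx
      exact hx0 hεx.symm
    have hlt : ann (v + ε w) ⊂ ann v := by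
      refine Set.ssubset_iff_of_subset ?_ |>.mpr ⟨ε, ⟨hεA, hεv⟩, ?_⟩
      · rintro a ⟨ha, hav⟩
        refine ⟨ha, ?_⟩
        have h2 : ε (a v + a (ε w)) = 0 := by rw [← map_add a, hav, map_zero]
        have h3 : ∀ y, ε (a y) = a (ε y) := fun y => by
          rw [← Module.End.mul_apply, (hc ε hεA a ha).eq, Module.End.mul_apply]
        rw [map_add, h3, h3, hεv, map_zero, zero_add, hεapp] at h2
        rwa [map_add, h2, add_zero] at hav
      · rintro ⟨_, h⟩
        rw [map_add, hεv, zero_add, hεapp] at h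
        exact hw h
    exact absurd (Set.ncard_lt_ncard hlt) (not_lt.mpr (hv _))
  let ev : A →ₗ[F] K := (LinearMap.applyₗ v).comp A.val.toLinearMap
  have hev : ∀ a : A, ev a = (a : Module.End F K) v := fun a => rfl
  have hevinj : Function.Injective ev := by
    intro a b h
    have : ((a - b : A) : Module.End F K) v = 0 := by
      rw [AddSubgroupClass.coe_sub, LinearMap.sub_apply, sub_eq_zero]; exact h
    exact sub_eq_zero.mp (Subtype.ext (hv _ (a - b).2 this))
  have : Finite A := Finite.of_injective ev hevinj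
  let j : Option U → A := fun o => o.elim 0 (fun u => ⟨_, hUA u.1 u.2⟩)
  have hjinj : Function.Injective j := by
    have : Nontrivial (Module.End F K) := inferInstance
    rintro (_ | u) (_ | w) h
    · rfl
    · exact absurd (congrArg Subtype.val h).symm w.1.ne_zero
    · exact absurd (congrArg Subtype.val h) u.1.ne_zero
    · exact congrArg some (Subtype.ext (Units.ext (congrArg Subtype.val h)))
  have hcardA : Nat.card A ≤ Nat.card (Option U) := by
    rw [Finite.card_option, hcard]
    have := Nat.card_le_card_of_injective ev hevinj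
    rw [Nat.card_eq_fintype_card (α := K)] at this
    omega
  have hjb : Function.Bijective j := hjinj.bijective_of_nat_card_le hcardA
  have hevb : Function.Bijective ev := by
    refine hevinj.bijective_of_nat_card_le ?_
    rw [← Nat.card_congr (Equiv.ofBijective j hjb), Finite.card_option, hcard, Nat.card_eq_fintype_card (α := K)]
    omega
  have hAf : IsField A := by
    refine ⟨⟨0, 1, ?_⟩, fun a b => mul_comm' a b, ?_⟩
    · exact fun h => zero_ne_one (congrArg Subtype.val h)
    · intro a ha
      obtain ⟨(_ | u), rfl⟩ := hjb.2 a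
      · exact absurd rfl ha
      · exact ⟨⟨_, hUA _ (inv_mem u.2)⟩, Subtype.ext (Units.mul_inv u.1)⟩
  letI : Field A := hAf.toField
  have hfr : Module.finrank F A = Module.finrank F K := (LinearEquiv.ofBijective ev hevb).finrank_eq
  obtain ⟨σ⟩ := FiniteField.nonempty_algHom_of_finrank_dvd (F := F) (K := A) (L := K) (dvd_of_eq hfr)
  have hσinj : Function.Injective σ := σ.toRingHom.injective
  have hσb : Function.Bijective σ :=
    ⟨hσinj, (LinearMap.injective_iff_surjective_of_finrank_eq_finrank hfr (f := σ.toLinearMap)).mp hσinj⟩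
  let Φ := LinearEquiv.ofBijective ev hevb
  let G : K ≃ₗ[F] K := Φ.symm.trans (LinearEquiv.ofBijective σ.toLinearMap hσb)
  refine ⟨LinearMap.GeneralLinearGroup.ofLinearEquiv G, ?_⟩
  have key : ∀ u (hu : u ∈ U), ∀ hne : σ ⟨_, hUA u hu⟩ ≠ 0,
      MulAut.conj (LinearMap.GeneralLinearGroup.ofLinearEquiv G) u =
        Units.map ((Algebra.lmul F K : K →ₐ[F] Module.End F K) : K →* Module.End F K) (Units.mk0 _ hne) := by
    intro u hu hne
    refine Units.ext (LinearMap.ext fun x => ?_)
    show G ((u : Module.End F K) (G.symm x)) = σ ⟨_, hUA u hu⟩ * x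
    obtain ⟨a, rfl⟩ := hσb.2 x
    have h1 : G.symm (σ a) = Φ a := by
      rw [LinearEquiv.symm_apply_eq]
      show σ a = σ (Φ.symm (Φ a))
      rw [LinearEquiv.symm_apply_apply]
    have h2 : (u : Module.End F K) (Φ a) = Φ (⟨_, hUA u hu⟩ * a) := rfl
    rw [h1, h2, ← map_mul]
    show σ (Φ.symm (Φ _)) = _
    rw [LinearEquiv.symm_apply_apply]
  have hne : ∀ u (hu : u ∈ U), σ ⟨_, hUA u hu⟩ ≠ 0 := fun u hu h =>
    u.ne_zero (congrArg Subtype.val (hσinj (h.trans (map_zero σ).symm)))
  ext g
  constructor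
  · rintro ⟨u, hu, rfl⟩
    exact ⟨_, (key u hu (hne u hu)).symm⟩
  · rintro ⟨y, rfl⟩
    obtain ⟨a, ha⟩ := hσb.2 (y : K)
    obtain ⟨(_ | u), rfl⟩ := hjb.2 a
    · exact absurd (ha.symm.trans (map_zero σ)) y.ne_zero
    · refine ⟨u.1, u.2, ?_⟩
      refine (key u.1 u.2 (hne u.1 u.2)).trans (congrArg _ (Units.ext ha))

end Cfsg.Agent.S5947
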