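import Cfsg.Statements.S5949
import Cfsg.Agent.EqLemmas
import Cfsg.Agent.Lib.PrimeOrderElt.Criteria
import Cfsg.Agent.Lib.PrimeOrderElt.Count

set_option autoImplicit false
open scoped MatrixGroups
open Cfsg

namespace Cfsg.Agent.S5949

open Cfsg.Agent.PrimeOrderElt Module

/-- Elements of prime order of PSL_n(q) with no fixed `m`-space. Here `T = PSL_n(F)` for a field `F` with `q = p^f` elements (`n ≥ 2`, `(n, q) ≠ (2, 2), (2, 3)`); an element of `T` of prime order `r` is represented by a matrix `x` of determinant 1 with `x^r` scalar and `x` not scalar; `i` denotes the multiplicative order of `q` modulo `r` (when `r ≠ p`), and `(a)_r` the `r`-part of `a`. Let `1 ≤ m ≤ n/2` and let `r` be a prime dividing the number of `m`-dimensional subspaces of `F^n`. Then every element of `T` of order `r` fixes some `m`-dimensional subspace (the action on `m`-spaces is `r`-elusive) if and only if `r ≠ p` and either (i) `i = 1` and (`r ∣ m`, or `(q−1)_r ≥ (n)_r` where in addition `q ≡ 1 (mod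 4)` is required when `r = 2` and `n` is even), or (ii) `2 ≤ i ≤ m` and `n mod i ≥ m mod i`. -/
theorem result {F : Type*} [Field F] [Fintype F] {p : ℕ} [Fact p.Prime] [CharP F p] {q : ℕ} (hq : Fintype.card F = q)
    (n m : ℕ) (hn : 2 ≤ n) (hT : (n, q) ≠ (2, 2) ∧ (n, q) ≠ (2, 3)) (hm : 1 ≤ m) (hmn : 2 * m ≤ n)
    (r : ℕ) [Fact r.Prime] (hrΩ : r ∣ Nat.card {W : Submodule F (Fin n → F) // Module.finrank F ↥W = m}) :
    (∀ x : Matrix.SpecialLinearGroup (Fin n) F,
      (∃ c : F, ((x ^ r : Matrix.SpecialLinearGroup (Fin n) F) : Matrix (Fin n) (Fin n) F) = c • (1 : Matrix (Fin n) (Fin n) F)) →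
      (∀ c : F, (x : Matrix (Fin n) (Fin n) F) ≠ c • (1 : Matrix (Fin n) (Fin n) F)) →
      ∃ W : Submodule F (Fin n → F), Module.finrank F ↥W = m ∧ W.map (Matrix.toLin' (x : Matrix (Fin n) (Fin n) F)) ≤ W) ↔
    (r ≠ p ∧
      ((orderOf (q : ZMod r) = 1 ∧ (r ∣ m ∨ (padicValNat r n ≤ padicValNat r (q - 1) ∧ (r = 2 → Even n → q % 4 = 1)))) ∨
       (2 ≤ orderOf (q : ZMod r) ∧ orderOf (q : ZMod r) ≤ m ∧ m % orderOf (q : ZMod r) ≤ n % orderOf (q : ZMod r)))) := by
  classical
  subst hq
  have hd : finrank F (Fin n → F) = n := Module.finrank_fin_fun F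
  have hrp : r ≠ p := by
    rintro rfl
    exact not_dvd_grass_of_char hd (by omega) hrΩ
  have hr0 : (r : F) ≠ 0 := natCast_ne_zero_of_ne hrp
  obtain ⟨j, hj, hjd⟩ := exists_of_dvd_grass Fact.out hd (by omega) hrΩ
  rw [dvd_pow_sub_one_iff] at hjd
  set i := orderOf (Fintype.card F : ZMod r) with hi
  have hipos : 0 < i := orderOf_card_pos hr0
  rw [and_iff_right hrp]
  rcases Nat.eq_or_lt_of_le (Nat.succ_le_of_lt hipos) with h1 | h2
  · -- `i = 1`
    have h1' : i = 1 := h1.symm
    have hr1 : r ∣ Fintype.card F - 1 := orderOf_card_eq_one_iff.mp (hi ▸ h1')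
    have hrhs : ∀ P Q : Prop, ((i = 1 ∧ P) ∨ (2 ≤ i ∧ Q)) ↔ P := fun P Q => by
      constructor
      · rintro (⟨-, h⟩ | ⟨h, -⟩)
        · exact h
        · omega
      · exact fun h => Or.inl ⟨h1', h⟩
    rw [hrhs, ← no_nonpower_iff hn hr1]
    constructor
    · intro h
      by_contra hcon
      push Not at hcon
      obtain ⟨hrm, x, z, hz, hx⟩ := hcon
      obtain ⟨W, hWd, hW⟩ := h x ⟨z, (pow_eq_smul_iff x r z).mpr hx⟩ (nonscalar_of_nonpower (by omega) hz hx)
      exact hrm (hWd ▸ dvd_finrank_of_nonpower Fact.out hz hx hW)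
    · intro h x hxp _
      rcases reduce (by omega) x hxp with ⟨y, hy, hiff⟩ | ⟨-, z, hz, hx⟩
      · obtain ⟨s, hs, hsub⟩ := exists_dims hr0 hy (W := ⊤) le_top
        rw [finrank_top, hd, ← hi, h1', Nat.mul_one] at hs
        set f := finrank F ↥(⊤ ⊓ fix y) with hf
        obtain ⟨U, hU, -, hUd, -⟩ := hsub (min f m) (m - min f m) (min_le_left _ _) (by omega)
        rw [← hi, h1', Nat.mul_one] at hUd
        exact ⟨U, by omega, (hiff U).mpr hU⟩
      · rcases h with h | h
        · obtain ⟨k, hk⟩ := h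
          obtain ⟨U, hU, -, hUd⟩ := exists_dims_nonpower hr0 hz hx (W := ⊤) le_top k
            (by rw [finrank_top, hd, Nat.mul_comm]; omega)
          exact ⟨U, by rw [hUd, hk, Nat.mul_comm], hU⟩
        · exact absurd hx (h x z hz)
  · -- `i ≥ 2`
    have hr1 : ¬ r ∣ Fintype.card F - 1 := fun h => by
      rw [← orderOf_card_eq_one_iff, ← hi] at h
      omega
    have hrhs : ∀ P Q : Prop, ((i = 1 ∧ P) ∨ (2 ≤ i ∧ Q)) ↔ Q := fun P Q => by
      constructor
      · rintro (⟨h, -⟩ | ⟨-, h⟩)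
        · omega
        · exact h
      · exact fun h => Or.inr ⟨h2, h⟩
    rw [hrhs]
    have hmi := Nat.div_add_mod m i
    have hni := Nat.div_add_mod n i
    constructor
    · intro h
      have hin : i ≤ n - j := Nat.le_of_dvd (by omega) hjd
      have hsn : n / i * i ≤ n := Nat.div_mul_le_self n i
      obtain ⟨x, hxr, hfx, hns⟩ := exists_type (F := F) (r := r) (p := p) (n := n) (n / i)
        (Nat.div_pos (by omega) hipos) h2 hsn
      obtain ⟨W, hWd, hW⟩ := h x ⟨1, (pow_eq_smul_iff x r 1).mpr (by rw [one_smul]; exact hxr)⟩ hns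
      obtain ⟨s, hs, -⟩ := exists_dims hr0 hxr hW
      rw [hWd, ← hi] at hs
      have hc := Submodule.finrank_mono (inf_le_right : W ⊓ fix _ ≤ fix _) |>.trans_eq hfx
      rw [← hi] at hc
      have hnm : n - n / i * i = n % i := by
        rw [Nat.mul_comm] at hsn ⊢
        omega
      rw [hnm] at hc
      set c := finrank F ↥(W ⊓ fix (Matrix.toLin' (x : Matrix (Fin n) (Fin n) F) : Module.End F (Fin n → F)))
      have hci : c < i := hc.trans_lt (Nat.mod_lt _ hipos)
      have hmc : m % i = c := by rw [hs, Nat.add_mul_mod_self_right, Nat.mod_eq_of_lt hci]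
      refine ⟨?_, hmc ▸ hc⟩
      by_contra him
      rw [Nat.mod_eq_of_lt (by omega)] at hmc
      have hnj : n % i = j := by
        obtain ⟨e, he⟩ := hjd
        rw [show n = j + i * e by omega, Nat.add_mul_mod_self_left, Nat.mod_eq_of_lt (by omega)]
      omega
    · rintro ⟨-, hmod⟩ x hxp _
      rcases reduce (by omega) x hxp with ⟨y, hy, hiff⟩ | ⟨hr, -⟩
      · obtain ⟨s, hs, hsub⟩ := exists_dims hr0 hy (W := ⊤) le_top
        rw [finrank_top, hd, ← hi] at hs
        set f := finrank F ↥(⊤ ⊓ fix y) with hf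
        have hfn : n % i ≤ f := by
          rw [hs, Nat.add_mul_mod_self_right]
          exact Nat.mod_le _ _
        rcases Nat.le_total (m / i) s with hle | hle
        · obtain ⟨U, hU, -, hUd, -⟩ := hsub (m % i) (m / i) (hmod.trans hfn) hle
          rw [← hi, Nat.mul_comm] at hUd
          exact ⟨U, by omega, (hiff U).mpr hU⟩
        · have hsi : s * i ≤ m := (Nat.mul_le_mul_right i hle).trans (Nat.div_mul_le_self m i)
          obtain ⟨U, hU, -, hUd, -⟩ := hsub (m - s * i) s (by omega) le_rfl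
          rw [← hi] at hUd
          exact ⟨U, by omega, (hiff U).mpr hU⟩
      · exact absurd hr hr1

end Cfsg.Agent.S5949
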