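import Cfsg.Statements.S5950
import Cfsg.Agent.EqLemmas
import Cfsg.Agent.Lib.PrimeOrderElt.Unipotent
import Cfsg.Agent.Lib.PrimeOrderElt.Count

set_option autoImplicit false
open scoped MatrixGroups
open Cfsg

namespace Cfsg.Agent.S5950

open Cfsg.Agent.PrimeOrderElt Module

variable {F : Type*} [Field F] [Fintype F] {n : ℕ}

/-- The pairs are the subspaces times a power of `q`. -/
theorem card_pairs (m : ℕ) :
    ∃ d : ℕ, Nat.card {P : Submodule F (Fin n → F) × Submodule F (Fin n → F) //
        IsCompl P.1 P.2 ∧ finrank F P.1 = m} =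
      Nat.card {W : Submodule F (Fin n → F) // finrank F W = m} * Fintype.card F ^ d := by
  classical
  have : Finite (Submodule F (Fin n → F)) := Finite.of_injective (fun W => (W : Set (Fin n → F))) SetLike.coe_injective
  let e : {P : Submodule F (Fin n → F) × Submodule F (Fin n → F) // IsCompl P.1 P.2 ∧ finrank F P.1 = m} ≃
      Σ W : {W : Submodule F (Fin n → F) // finrank F W = m}, {Q : Submodule F (Fin n → F) // IsCompl W.1 Q} :=
    { toFun := fun P => ⟨⟨P.1.1, P.2.2⟩, ⟨P.1.2, P.2.1⟩⟩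
      invFun := fun x => ⟨(x.1.1, x.2.1), x.2.2, x.1.2⟩
      left_inv := fun _ => rfl
      right_inv := fun _ => rfl }
  have : Fintype {W : Submodule F (Fin n → F) // finrank F W = m} := Fintype.ofFinite _
  refine ⟨n * m - m * m, ?_⟩
  rw [Nat.card_congr e, Nat.card_sigma]
  have hW : ∀ W : {W : Submodule F (Fin n → F) // finrank F W = m},
      Nat.card {Q : Submodule F (Fin n → F) // IsCompl W.1 Q} = Fintype.card F ^ (n * m - m * m) := by
    intro W
    rw [Nat.card_congr (Submodule.isComplEquivProj W.1)]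
    let R : ((Fin n → F) →ₗ[F] W.1) →ₗ[F] (W.1 →ₗ[F] W.1) := LinearMap.lcomp F W.1 W.1.subtype
    obtain ⟨g, hg⟩ := LinearMap.exists_leftInverse_of_injective W.1.subtype W.1.ker_subtype
    have hg' : ∀ v : W.1, g v = v := fun v => LinearMap.congr_fun hg v
    let e' : {f : (Fin n → F) →ₗ[F] W.1 // ∀ v : W.1, f v = v} ≃ LinearMap.ker R :=
      { toFun := fun f => ⟨f.1 - g, LinearMap.mem_ker.mpr (LinearMap.ext fun v => by
          show f.1 v - g v = 0
          rw [f.2, hg', sub_self])⟩
        invFun := fun h => ⟨h.1 + g, fun v => by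
          have : h.1 v = 0 := LinearMap.congr_fun (LinearMap.mem_ker.mp h.2) v
          rw [LinearMap.add_apply, this, hg', zero_add]⟩
        left_inv := fun f => Subtype.ext (LinearMap.ext fun v => sub_add_cancel (f.1 v) (g v))
        right_inv := fun h => Subtype.ext (LinearMap.ext fun v => add_sub_cancel_right (h.1 v) (g v)) }
    have hsurj : Function.Surjective R := fun φ => ⟨φ.comp g, LinearMap.ext fun v => by
      show φ (g v) = φ v
      rw [hg']⟩
    let R' := AddMonoidHom.ofMapSub (fun f : (Fin n → F) →ₗ[F] W.1 => R f) (fun a b => map_sub R a b)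
    have hker : Nat.card (LinearMap.ker R) = Nat.card R'.ker := Nat.card_congr (Equiv.subtypeEquivRight fun _ => Iff.rfl)
    have hcard := AddSubgroup.card_eq_card_quotient_mul_card_addSubgroup R'.ker
    rw [Nat.card_congr (QuotientAddGroup.quotientKerEquivOfSurjective R' hsurj).toEquiv, ← hker,
      Module.natCard_eq_pow_finrank (K := F) (V := (Fin n → F) →ₗ[F] W.1),
      Module.natCard_eq_pow_finrank (K := F) (V := W.1 →ₗ[F] W.1), Module.finrank_linearMap, Module.finrank_linearMap,
      Module.finrank_fin_fun, W.2, Nat.card_eq_fintype_card (α := F)] at hcard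
    rw [Nat.card_congr e']
    refine Nat.eq_of_mul_eq_mul_left (pow_pos (Fintype.card_pos (α := F)) (m * m)) ?_
    have hle : m * m ≤ n * m := Nat.mul_le_mul_right m (by
      have := Submodule.finrank_le W.1
      rw [W.2, Module.finrank_fin_fun] at this
      exact this)
    rw [← hcard, ← pow_add, Nat.add_sub_cancel' hle]
  rw [Finset.sum_congr rfl (fun W _ => hW W), Finset.sum_const, Finset.card_univ, ← Nat.card_eq_fintype_card,
    smul_eq_mul]

/-- The unipotent case. -/
theorem unipotent_iff {p : ℕ} [Fact p.Prime] [CharP F p] (hn : 0 < n) {m : ℕ} (hm : m ≤ n) :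
    (∀ x : Matrix.SpecialLinearGroup (Fin n) F,
      (∃ c : F, ((x ^ p : Matrix.SpecialLinearGroup (Fin n) F) : Matrix (Fin n) (Fin n) F) = c • (1 : Matrix (Fin n) (Fin n) F)) →
      (∀ c : F, (x : Matrix (Fin n) (Fin n) F) ≠ c • (1 : Matrix (Fin n) (Fin n) F)) →
      ∃ U W : Submodule F (Fin n → F), IsCompl U W ∧ finrank F ↥U = m ∧
        U.map (Matrix.toLin' (x : Matrix (Fin n) (Fin n) F)) ≤ U ∧ W.map (Matrix.toLin' (x : Matrix (Fin n) (Fin n) F)) ≤ W) ↔
    ∀ μ : Multiset ℕ, (∀ a ∈ μ, 0 < a ∧ a ≤ p) → μ.sum = n → ∃ ν : Multiset ℕ, ν ≤ μ ∧ ν.sum = m := by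
  classical
  constructor
  · intro h μ hμ hsum
    by_cases h2 : ∃ b ∈ μ, 2 ≤ b
    · obtain ⟨x, N, hxN, hN, hNj, hns, hxp⟩ := exists_unipotent (F := F) μ hμ hsum h2
      obtain ⟨U, W, hc, hUd, hU, hW⟩ := h x ⟨1, hxp⟩ hns
      have hU' : Inv N U := by
        have : Inv ((N + 1) - (1 : F) • (1 : Module.End F (Fin n → F))) U :=
          (inv_sub_smul _ _ U).mpr (hxN ▸ hU)
        simpa using this
      have hW' : Inv N W := by
        have : Inv ((N + 1) - (1 : F) • (1 : Module.End F (Fin n → F))) W :=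
          (inv_sub_smul _ _ W).mpr (hxN ▸ hW)
        simpa using this
      have hkill : ∀ (T : Submodule F (Fin n → F)), ∀ v ∈ T, (N ^ p) v = 0 := fun T v _ => by rw [hN]; rfl
      obtain ⟨α, hα, hαs, hαr, -⟩ := exists_jordan hU' (hkill U)
      obtain ⟨β, hβ, -, hβr, -⟩ := exists_jordan hW' (hkill W)
      have heq : μ = α + β := eq_of_rk (fun a ha => (hμ a ha).1)
        (fun a ha => (Multiset.mem_add.mp ha).elim (fun h => (hα a h).1) (fun h => (hβ a h).1))
        (fun j => by
          rw [rk_add, ← hαr, ← hβr, ← finrank_map_pow_sup hU' hW' hc.inf_eq_bot, hc.sup_eq_top, map_top_pow, hNj])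
      exact ⟨α, heq ▸ Multiset.le_add_right α β, hαs.trans hUd⟩
    · push Not at h2
      have hμ1 : μ = Multiset.replicate n 1 := by
        have h1 : μ = Multiset.replicate μ.card 1 :=
          Multiset.eq_replicate_card.mpr fun b hb => by have := h2 b hb; have := (hμ b hb).1; omega
        rw [h1, Multiset.sum_replicate, smul_eq_mul, Nat.mul_one] at hsum
        rw [h1, hsum]
      exact ⟨Multiset.replicate m 1, hμ1 ▸ (Multiset.replicate_le_replicate 1).mpr hm,
        by rw [Multiset.sum_replicate, smul_eq_mul, Nat.mul_one]⟩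
  · intro h x hx _
    obtain ⟨ζ, hN⟩ := exists_nilpotent hn x hx
    obtain ⟨μ, hμ, hsum, -, hsub⟩ := exists_jordan (W := ⊤) le_top (p := p)
      (N := (Matrix.toLin' (x : Matrix (Fin n) (Fin n) F) : Module.End F (Fin n → F)) - ζ • 1)
      (fun v _ => by rw [hN]; rfl)
    rw [finrank_top, Module.finrank_fin_fun] at hsum
    obtain ⟨ν, hν, hνs⟩ := h μ hμ hsum
    obtain ⟨U, W, hU, hW, hi, hs, hd⟩ := hsub ν hν
    exact ⟨U, W, IsCompl.of_eq hi hs, hd.trans hνs, (inv_sub_smul _ ζ U).mp hU, (inv_sub_smul _ ζ W).mp hW⟩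

theorem two_parts_iff {n m : ℕ} (hm : m ≤ n) :
    (∀ μ : Multiset ℕ, (∀ a ∈ μ, 0 < a ∧ a ≤ 2) → μ.sum = n → ∃ ν : Multiset ℕ, ν ≤ μ ∧ ν.sum = m) ↔
      (Odd n ∨ Even m) := by
  classical
  constructor
  · intro h
    rcases Nat.even_or_odd n with ⟨k, hk⟩ | ho
    · right
      obtain ⟨ν, hν, hs⟩ := h (Multiset.replicate k 2)
        (fun a ha => by rw [Multiset.eq_of_mem_replicate ha]; omega)
        (by rw [Multiset.sum_replicate, smul_eq_mul]; omega)
      have : ν = Multiset.replicate ν.card 2 :=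
        Multiset.eq_replicate_card.mpr fun b hb => Multiset.eq_of_mem_replicate (Multiset.mem_of_le hν hb)
      rw [this, Multiset.sum_replicate, smul_eq_mul] at hs
      exact ⟨ν.card, by omega⟩
    · exact Or.inl ho
  · intro h μ hμ hs
    have hdec : μ = Multiset.replicate (μ.count 2) 2 + Multiset.replicate (μ.count 1) 1 := by
      refine Multiset.ext.mpr fun c => ?_
      rw [Multiset.count_add, Multiset.count_replicate, Multiset.count_replicate]
      by_cases hc : c ∈ μ
      · have := hμ c hc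
        rcases (by omega : c = 1 ∨ c = 2) with rfl | rfl <;> simp
      · rw [Multiset.count_eq_zero.mpr hc]
        split_ifs with h1 h2 <;> simp_all
    rw [hdec, Multiset.sum_add, Multiset.sum_replicate, Multiset.sum_replicate, smul_eq_mul, smul_eq_mul] at hs
    set a := μ.count 2
    set b := μ.count 1
    obtain ⟨a', b', ha, hb, hab⟩ : ∃ a' b', a' ≤ a ∧ b' ≤ b ∧ a' * 2 + b' * 1 = m := by
      refine ⟨min (m / 2) a, m - 2 * min (m / 2) a, min_le_right _ _, ?_, by omega⟩
      rcases h with ⟨k, hk⟩ | ⟨k, hk⟩ <;> omega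
    refine ⟨Multiset.replicate a' 2 + Multiset.replicate b' 1, ?_, ?_⟩
    · rw [hdec]
      exact add_le_add ((Multiset.replicate_le_replicate 2).mpr ha) ((Multiset.replicate_le_replicate 1).mpr hb)
    · rw [Multiset.sum_add, Multiset.sum_replicate, Multiset.sum_replicate, smul_eq_mul, smul_eq_mul, hab]

/-- Elements of prime order of PSL_n(q) fixing no decomposition `F^n = U ⊕ W` with `dim U = m`. Here `T = PSL_n(F)` for a field `F` with `q = p^f` elements (`n ≥ 2`, `(n, q) ≠ (2, 2), (2, 3)`); an element of `T` of prime order `r` is represented by a matrix `x` of determinant 1 with `x^r` scalar and `x` not scalar; `i` denotes the multiplicative order of `q` modulo `r` (when `r ≠ p`), and `(a)_r` the `r`-part of `a`. Let `n ≥ 3`, `1 ≤ m < n/2`, and let `r` be a prime dividing the number of such decompositions (unordered pairs `{U, W}` of complementary subspaces with `dim U = m`; since `m ≠ n − m` these are the ordered pairs with `dim U = m`). Then every element of `T` of order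 `r` fixes such a pair (fixes both `U` and `W` for some complementary `U, W` with `dim U = m`) if and only if one of: (i) `r = p > 2` and every partition of `n` into parts of size at most `p` contains, as a sub-multiset, a partition of `m`; (ii) `r = p = 2` and `n` is odd or `m` is even; (iii) `r ≠ p`, `i = 1`, and `r ∣ m` or `(q−1)_r ≥ (n)_r` (with `q ≡ 1 (mod 4)` required when `r = 2` and `n` is even); (iv) `r ≠ p`, `2 ≤ i ≤ m` and `n mod i ≥ m mod i`. -/
theorem result {F : Type*} [Field F] [Fintype F] {p : ℕ} [Fact p.Prime] [CharP F p] {q : ℕ} (hq : Fintype.card F = q)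
    (n m : ℕ) (hn : 3 ≤ n) (hm : 1 ≤ m) (hmn : 2 * m < n)
    (r : ℕ) [Fact r.Prime]
    (hrΩ : r ∣ Nat.card {P : Submodule F (Fin n → F) × Submodule F (Fin n → F) // IsCompl P.1 P.2 ∧ Module.finrank F ↥P.1 = m}) :
    (∀ x : Matrix.SpecialLinearGroup (Fin n) F,
      (∃ c : F, ((x ^ r : Matrix.SpecialLinearGroup (Fin n) F) : Matrix (Fin n) (Fin n) F) = c • (1 : Matrix (Fin n) (Fin n) F)) →
      (∀ c : F, (x : Matrix (Fin n) (Fin n) F) ≠ c • (1 : Matrix (Fin n) (Fin n) F)) →
      ∃ U W : Submodule F (Fin n → F), IsCompl U W ∧ Module.finrank F ↥U = m ∧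
        U.map (Matrix.toLin' (x : Matrix (Fin n) (Fin n) F)) ≤ U ∧ W.map (Matrix.toLin' (x : Matrix (Fin n) (Fin n) F)) ≤ W) ↔
    ((r = p ∧ 2 < p ∧ (∀ μ : Multiset ℕ, (∀ a ∈ μ, 0 < a ∧ a ≤ p) → μ.sum = n → ∃ ν : Multiset ℕ, ν ≤ μ ∧ ν.sum = m)) ∨
     (r = p ∧ p = 2 ∧ (Odd n ∨ Even m)) ∨
     (r ≠ p ∧
      ((orderOf (q : ZMod r) = 1 ∧ (r ∣ m ∨ (padicValNat r n ≤ padicValNat r (q - 1) ∧ (r = 2 → Even n → q % 4 = 1)))) ∨
       (2 ≤ orderOf (q : ZMod r) ∧ orderOf (q : ZMod r) ≤ m ∧ m % orderOf (q : ZMod r) ≤ n % orderOf (q : ZMod r))))) := by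
  classical
  by_cases hrp : r = p
  · subst hrp
    rw [unipotent_iff (p := r) (by omega) (by omega)]
    by_cases h2 : r = 2
    · subst h2
      rw [two_parts_iff (by omega)]
      exact ⟨fun h => Or.inr (Or.inl ⟨rfl, rfl, h⟩), fun h => by
        rcases h with ⟨-, h, -⟩ | ⟨-, -, h⟩ | ⟨h, -⟩
        · omega
        · exact h
        · exact absurd rfl h⟩
    · have := (Fact.out : r.Prime).two_le
      exact ⟨fun h => Or.inl ⟨rfl, by omega, h⟩, fun h => by
        rcases h with ⟨-, -, h⟩ | ⟨-, h, -⟩ | ⟨h, -⟩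
        · exact h
        · exact absurd h h2
        · exact absurd rfl h⟩
  subst hq
  have hd : finrank F (Fin n → F) = n := Module.finrank_fin_fun F
  have hr0 : (r : F) ≠ 0 := natCast_ne_zero_of_ne hrp
  obtain ⟨j, hj, hjd⟩ : ∃ j < m, r ∣ Fintype.card F ^ (n - j) - 1 := by
    obtain ⟨d, hd'⟩ := card_pairs (F := F) (n := n) m
    rw [hd'] at hrΩ
    rcases (Fact.out : r.Prime).dvd_mul.mp hrΩ with h | h
    · exact exists_of_dvd_grass Fact.out hd (by omega) h
    · obtain ⟨e, _, he⟩ := FiniteField.card F p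
      have := (Fact.out : r.Prime).dvd_of_dvd_pow h
      rw [he] at this
      exact absurd ((Nat.prime_dvd_prime_iff_eq Fact.out Fact.out).mp ((Fact.out : r.Prime).dvd_of_dvd_pow this)) hrp
  rw [dvd_pow_sub_one_iff] at hjd
  set i := orderOf (Fintype.card F : ZMod r) with hi
  have hipos : 0 < i := orderOf_card_pos hr0
  have hP : ∀ (A B C : Prop), ((r = p ∧ A) ∨ (r = p ∧ B) ∨ (r ≠ p ∧ C)) ↔ C := fun A B C => by
    simp [hrp]
  rw [hP]
  have hcompl : ∀ (g : Module.End F (Fin n → F)) (z : F), z ≠ 0 → g ^ r = z • 1 → ∀ U : Submodule F (Fin n → F),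
      Inv g U → ∃ W : Submodule F (Fin n → F), Inv g W ∧ IsCompl U W := fun g z hz hg U hU => by
    obtain ⟨W, hW, -, hi', hs'⟩ := exists_invariant_complement hr0 hz hg (W := ⊤) le_top hU le_top
    exact ⟨W, hW, IsCompl.of_eq hi' hs'⟩
  rcases Nat.eq_or_lt_of_le (Nat.succ_le_of_lt hipos) with h1 | h2
  · -- `i = 1`
    have h1' : i = 1 := h1.symm
    have hr1 : r ∣ Fintype.card F - 1 := orderOf_card_eq_one_iff.mp (hi ▸ h1')
    have hrhs : ∀ P Q : Prop, ((i = 1 ∧ P) ∨ (2 ≤ i ∧ Q)) ↔ P := fun P Q => by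
      constructor
      · rintro (⟨-, h⟩ | ⟨h, -⟩)
        · exact h
        · omega
      · exact fun h => Or.inl ⟨h1', h⟩
    rw [hrhs, ← no_nonpower_iff (by omega) hr1]
    constructor
    · intro h
      by_contra hcon
      push Not at hcon
      obtain ⟨hrm, x, z, hz, hx⟩ := hcon
      obtain ⟨U, W, -, hUd, hU, -⟩ := h x ⟨z, (pow_eq_smul_iff x r z).mpr hx⟩ (nonscalar_of_nonpower (by omega) hz hx)
      exact hrm (hUd ▸ dvd_finrank_of_nonpower Fact.out hz hx hU)
    · intro h x hxp _
      rcases reduce (by omega) x hxp with ⟨y, hy, hiff⟩ | ⟨-, z, hz, hx⟩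
      · obtain ⟨s, hs, hsub⟩ := exists_dims hr0 hy (W := ⊤) le_top
        rw [finrank_top, hd, ← hi, h1', Nat.mul_one] at hs
        set f := finrank F ↥(⊤ ⊓ fix y) with hf
        obtain ⟨U, hU, -, hUd, -⟩ := hsub (min f m) (m - min f m) (min_le_left _ _) (by omega)
        rw [← hi, h1', Nat.mul_one] at hUd
        obtain ⟨W, hW, hc⟩ := hcompl y 1 one_ne_zero (by rw [one_smul, hy]) U hU
        exact ⟨U, W, hc, by omega, (hiff U).mpr hU, (hiff W).mpr hW⟩
      · rcases h with h | h
        · obtain ⟨k, hk⟩ := h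
          obtain ⟨U, hU, -, hUd⟩ := exists_dims_nonpower hr0 hz hx (W := ⊤) le_top k
            (by rw [finrank_top, hd, Nat.mul_comm]; omega)
          obtain ⟨W, hW, hc⟩ := hcompl _ z (fun h0 => hz 0 (by rw [h0, zero_pow (Fact.out : r.Prime).ne_zero])) hx U hU
          exact ⟨U, W, hc, by rw [hUd, hk, Nat.mul_comm], hU, hW⟩
        · exact absurd hx (h x z hz)
  · -- `i ≥ 2`
    have hr1 : ¬ r ∣ Fintype.card F - 1 := fun h => by
      rw [← orderOf_card_eq_one_iff, ← hi] at h
      omega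
    have hrhs : ∀ P Q : Prop, ((i = 1 ∧ P) ∨ (2 ≤ i ∧ Q)) ↔ Q := fun P Q => by
      constructor
      · rintro (⟨h, -⟩ | ⟨-, h⟩)
        · omega
        · exact h
      · exact fun h => Or.inr ⟨h2, h⟩
    rw [hrhs]
    have hmi := Nat.div_add_mod m i
    have hni := Nat.div_add_mod n i
    constructor
    · intro h
      have hin : i ≤ n - j := Nat.le_of_dvd (by omega) hjd
      have hsn : n / i * i ≤ n := Nat.div_mul_le_self n i
      obtain ⟨x, hxr, hfx, hns⟩ := exists_type (F := F) (r := r) (p := p) (n := n) (n / i)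
        (Nat.div_pos (by omega) hipos) h2 hsn
      obtain ⟨U, W, -, hUd, hU, -⟩ := h x ⟨1, (pow_eq_smul_iff x r 1).mpr (by rw [one_smul]; exact hxr)⟩ hns
      obtain ⟨s, hs, -⟩ := exists_dims hr0 hxr hU
      rw [hUd, ← hi] at hs
      have hc := Submodule.finrank_mono (inf_le_right : U ⊓ fix _ ≤ fix _) |>.trans_eq hfx
      rw [← hi] at hc
      have hnm : n - n / i * i = n % i := by
        rw [Nat.mul_comm] at hsn ⊢
        omega
      rw [hnm] at hc
      set c := finrank F ↥(U ⊓ fix (Matrix.toLin' (x : Matrix (Fin n) (Fin n) F) : Module.End F (Fin n → F)))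
      have hci : c < i := hc.trans_lt (Nat.mod_lt _ hipos)
      have hmc : m % i = c := by rw [hs, Nat.add_mul_mod_self_right, Nat.mod_eq_of_lt hci]
      refine ⟨?_, hmc ▸ hc⟩
      by_contra him
      rw [Nat.mod_eq_of_lt (by omega)] at hmc
      have hnj : n % i = j := by
        obtain ⟨e, he⟩ := hjd
        rw [show n = j + i * e by omega, Nat.add_mul_mod_self_left, Nat.mod_eq_of_lt (by omega)]
      omega
    · rintro ⟨-, hmod⟩ x hxp _
      rcases reduce (by omega) x hxp with ⟨y, hy, hiff⟩ | ⟨hr, -⟩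
      · obtain ⟨s, hs, hsub⟩ := exists_dims hr0 hy (W := ⊤) le_top
        rw [finrank_top, hd, ← hi] at hs
        set f := finrank F ↥(⊤ ⊓ fix y) with hf
        have hfn : n % i ≤ f := by
          rw [hs, Nat.add_mul_mod_self_right]
          exact Nat.mod_le _ _
        obtain ⟨U, hU, hUd⟩ : ∃ U : Submodule F (Fin n → F), Inv y U ∧ finrank F U = m := by
          rcases Nat.le_total (m / i) s with hle | hle
          · obtain ⟨U, hU, -, hUd, -⟩ := hsub (m % i) (m / i) (hmod.trans hfn) hle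
            rw [← hi, Nat.mul_comm] at hUd
            exact ⟨U, hU, by omega⟩
          · have hsi : s * i ≤ m := (Nat.mul_le_mul_right i hle).trans (Nat.div_mul_le_self m i)
            obtain ⟨U, hU, -, hUd, -⟩ := hsub (m - s * i) s (by omega) le_rfl
            rw [← hi] at hUd
            exact ⟨U, hU, by omega⟩
        obtain ⟨W, hW, hc⟩ := hcompl y 1 one_ne_zero (by rw [one_smul, hy]) U hU
        exact ⟨U, W, hc, hUd, (hiff U).mpr hU, (hiff W).mpr hW⟩
      · exact absurd hr hr1

end Cfsg.Agent.S5950
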