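import Cfsg.Statements.S5951
import Cfsg.Agent.EqLemmas
import Cfsg.Agent.Lib.PrimeOrderElt.Criteria
import Cfsg.Agent.Lib.PrimeOrderElt.Count

set_option autoImplicit false
open scoped MatrixGroups
open Cfsg

namespace Cfsg.Agent.S5951

open Cfsg.Agent.PrimeOrderElt Module

/-- Elements of prime order of PSL_n(q) fixing no pair of subspaces `U < W` with `dim U = m`, `dim W = n − m`. Here `T = PSL_n(F)` for a field `F` with `q = p^f` elements (`n ≥ 2`, `(n, q) ≠ (2, 2), (2, 3)`); an element of `T` of prime order `r` is represented by a matrix `x` of determinant 1 with `x^r` scalar and `x` not scalar; `i` denotes the multiplicative order of `q` modulo `r` (when `r ≠ p`), and `(a)_r` the `r`-part of `a`. Let `1 ≤ m < n/2` and let `r` be a prime dividing the number of such pairs. Then every element of `T` of order `r` fixes such a pair (both `U` and `W`) if and only if `r ≠ p` and either (i) `i = 1` and (`r ∣ m`, or `(q−1)_r ≥ (n)_r` with `q ≡ 1 (mod 4)` required when `r = 2` and `n` is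 even), or (ii) `2 ≤ i ≤ m` and `n mod i ≥ 2 (m mod i)`. -/
theorem result {F : Type*} [Field F] [Fintype F] {p : ℕ} [Fact p.Prime] [CharP F p] {q : ℕ} (hq : Fintype.card F = q)
    (n m : ℕ) (hn : 2 ≤ n) (hT : (n, q) ≠ (2, 2) ∧ (n, q) ≠ (2, 3)) (hm : 1 ≤ m) (hmn : 2 * m < n)
    (r : ℕ) [Fact r.Prime]
    (hrΩ : r ∣ Nat.card {P : Submodule F (Fin n → F) × Submodule F (Fin n → F) //
        P.1 ≤ P.2 ∧ Module.finrank F ↥P.1 = m ∧ Module.finrank F ↥P.2 = n - m}) :
    (∀ x : Matrix.SpecialLinearGroup (Fin n) F,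
      (∃ c : F, ((x ^ r : Matrix.SpecialLinearGroup (Fin n) F) : Matrix (Fin n) (Fin n) F) = c • (1 : Matrix (Fin n) (Fin n) F)) →
      (∀ c : F, (x : Matrix (Fin n) (Fin n) F) ≠ c • (1 : Matrix (Fin n) (Fin n) F)) →
      ∃ U W : Submodule F (Fin n → F), U ≤ W ∧ Module.finrank F ↥U = m ∧ Module.finrank F ↥W = n - m ∧
        U.map (Matrix.toLin' (x : Matrix (Fin n) (Fin n) F)) ≤ U ∧ W.map (Matrix.toLin' (x : Matrix (Fin n) (Fin n) F)) ≤ W) ↔
    (r ≠ p ∧
      ((orderOf (q : ZMod r) = 1 ∧ (r ∣ m ∨ (padicValNat r n ≤ padicValNat r (q - 1) ∧ (r = 2 → Even n → q % 4 = 1)))) ∨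
       (2 ≤ orderOf (q : ZMod r) ∧ orderOf (q : ZMod r) ≤ m ∧ 2 * (m % orderOf (q : ZMod r)) ≤ n % orderOf (q : ZMod r)))) := by
  classical
  subst hq
  have hd : finrank F (Fin n → F) = n := Module.finrank_fin_fun F
  obtain ⟨j, hj, hjd⟩ : ∃ j < 2 * m, r ∣ Fintype.card F ^ (n - j) - 1 := by
    have h := card_flags (F := F) hd (m := m) (k := n - m) (by omega) (by omega)
    rw [show n - m - m = n - 2 * m by omega, show n - (n - m) = m by omega,
      ← qProd_split _ (show 2 * m ≤ n by omega)] at h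
    have hP := qProd_pos (Fintype.one_lt_card (α := F)) (n - 2 * m)
    refine exists_of_dvd_qFactor Fact.out ((hrΩ.mul_right (qProd (Fintype.card F) m * qProd (Fintype.card F) m)).trans (dvd_of_eq ?_))
    refine Nat.eq_of_mul_eq_mul_left hP ?_
    rw [← h]
    ring
  have hrp : r ≠ p := by
    rintro rfl
    exact not_dvd_pow_sub_one (by omega) hjd
  have hr0 : (r : F) ≠ 0 := natCast_ne_zero_of_ne hrp
  rw [dvd_pow_sub_one_iff] at hjd
  set i := orderOf (Fintype.card F : ZMod r) with hi
  have hipos : 0 < i := orderOf_card_pos hr0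
  rw [and_iff_right hrp]
  rcases Nat.eq_or_lt_of_le (Nat.succ_le_of_lt hipos) with h1 | h2
  · -- `i = 1`
    have h1' : i = 1 := h1.symm
    have hr1 : r ∣ Fintype.card F - 1 := orderOf_card_eq_one_iff.mp (hi ▸ h1')
    have hrhs : ∀ P Q : Prop, ((i = 1 ∧ P) ∨ (2 ≤ i ∧ Q)) ↔ P := fun P Q => by
      constructor
      · rintro (⟨-, h⟩ | ⟨h, -⟩)
        · exact h
        · omega
      · exact fun h => Or.inl ⟨h1', h⟩
    rw [hrhs, ← no_nonpower_iff hn hr1]
    constructor
    · intro h
      by_contra hcon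
      push Not at hcon
      obtain ⟨hrm, x, z, hz, hx⟩ := hcon
      obtain ⟨U, W, -, hUd, -, hU, -⟩ :=
        h x ⟨z, (pow_eq_smul_iff x r z).mpr hx⟩ (nonscalar_of_nonpower (by omega) hz hx)
      exact hrm (hUd ▸ dvd_finrank_of_nonpower Fact.out hz hx hU)
    · intro h x hxp _
      rcases reduce (by omega) x hxp with ⟨y, hy, hiff⟩ | ⟨-, z, hz, hx⟩
      · obtain ⟨s, hs, hsub⟩ := exists_dims hr0 hy (W := ⊤) le_top
        rw [finrank_top, hd, ← hi, h1', Nat.mul_one] at hs
        set f := finrank F ↥(⊤ ⊓ fix y) with hf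
        obtain ⟨W, hW, -, hWd, -⟩ := hsub (min f (n - m)) (n - m - min f (n - m)) (min_le_left _ _) (by omega)
        obtain ⟨s', hs', hsub'⟩ := exists_dims hr0 hy hW
        rw [← hi, h1', Nat.mul_one] at hWd hs'
        set f' := finrank F ↥(W ⊓ fix y) with hf'
        obtain ⟨U, hU, hUW, hUd, -⟩ := hsub' (min f' m) (m - min f' m) (min_le_left _ _) (by omega)
        rw [← hi, h1', Nat.mul_one] at hUd
        exact ⟨U, W, hUW, by omega, by omega, (hiff U).mpr hU, (hiff W).mpr hW⟩
      · rcases h with h | h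
        · obtain ⟨k, hk⟩ := h
          obtain ⟨hrn, -⟩ := det_nonpower hz hx
          rw [hd] at hrn
          obtain ⟨k', hk'⟩ := Nat.dvd_sub hrn ⟨k, hk⟩
          obtain ⟨W, hW, -, hWd⟩ := exists_dims_nonpower hr0 hz hx (W := ⊤) le_top k'
            (by rw [finrank_top, hd, Nat.mul_comm]; omega)
          obtain ⟨U, hU, hUW, hUd⟩ := exists_dims_nonpower hr0 hz hx hW k
            (by rw [hWd, Nat.mul_comm k, Nat.mul_comm k']; omega)
          exact ⟨U, W, hUW, by rw [hUd, hk, Nat.mul_comm], by rw [hWd, hk', Nat.mul_comm], hU, hW⟩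
        · exact absurd hx (h x z hz)
  · -- `i ≥ 2`
    have hr1 : ¬ r ∣ Fintype.card F - 1 := fun h => by
      rw [← orderOf_card_eq_one_iff, ← hi] at h
      omega
    have hrhs : ∀ P Q : Prop, ((i = 1 ∧ P) ∨ (2 ≤ i ∧ Q)) ↔ Q := fun P Q => by
      constructor
      · rintro (⟨h, -⟩ | ⟨-, h⟩)
        · omega
        · exact h
      · exact fun h => Or.inr ⟨h2, h⟩
    rw [hrhs]
    have hmi := Nat.div_add_mod m i
    constructor
    · intro h
      have hin : i ≤ n - j := Nat.le_of_dvd (by omega) hjd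
      have hsn : n / i * i ≤ n := Nat.div_mul_le_self n i
      have hnm : n - n / i * i = n % i := by
        have := Nat.div_add_mod n i
        rw [Nat.mul_comm] at hsn ⊢
        omega
      obtain ⟨x, hxr, hfx, hns⟩ := exists_type (F := F) (r := r) (p := p) (n := n) (n / i)
        (Nat.div_pos (by omega) hipos) h2 hsn
      obtain ⟨U, W, hUW, hUd, hWd, hU, hW⟩ :=
        h x ⟨1, (pow_eq_smul_iff x r 1).mpr (by rw [one_smul]; exact hxr)⟩ hns
      obtain ⟨W', hW', -, hinf, hsup⟩ := exists_invariant_complement hr0 one_ne_zero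
        (by rw [one_smul]; exact hxr) (W := ⊤) le_top hW le_top
      have hW'd : finrank F W' = m := by
        have := Submodule.finrank_sup_add_finrank_inf_eq W W'
        rw [hsup, hinf, finrank_top, finrank_bot, hd, hWd] at this
        omega
      rw [← hi, hnm] at hfx
      set y : Module.End F (Fin n → F) := Matrix.toLin' (x : Matrix (Fin n) (Fin n) F)
      obtain ⟨s, hs, -⟩ := exists_dims hr0 hxr hU
      obtain ⟨s', hs', -⟩ := exists_dims hr0 hxr hW'
      rw [hUd, ← hi] at hs
      rw [hW'd, ← hi] at hs'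
      have hdisj : (U ⊓ fix y) ⊓ (W' ⊓ fix y) = ⊥ :=
        le_bot_iff.mp ((inf_le_inf (inf_le_left.trans hUW) inf_le_left).trans hinf.le)
      have hsum := Submodule.finrank_sup_add_finrank_inf_eq (U ⊓ fix y) (W' ⊓ fix y)
      rw [hdisj, finrank_bot] at hsum
      have hle := Submodule.finrank_mono
        (sup_le inf_le_right inf_le_right : (U ⊓ fix y) ⊔ (W' ⊓ fix y) ≤ fix y)
      rw [hfx] at hle
      have hlt := Nat.mod_lt n hipos
      have hmc : m % i = finrank F ↥(U ⊓ fix y) := by
        rw [hs, Nat.add_mul_mod_self_right, Nat.mod_eq_of_lt (by omega)]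
      have hmc' : m % i = finrank F ↥(W' ⊓ fix y) := by
        rw [hs', Nat.add_mul_mod_self_right, Nat.mod_eq_of_lt (by omega)]
      refine ⟨?_, by omega⟩
      by_contra him
      rw [Nat.mod_eq_of_lt (by omega)] at hmc hmc'
      have hnj : n % i ≤ j := by
        obtain ⟨e, he⟩ := hjd
        rw [show n = j + i * e by omega, Nat.add_mul_mod_self_left]
        exact Nat.mod_le _ _
      omega
    · rintro ⟨-, hmod⟩ x hxp _
      rcases reduce (by omega) x hxp with ⟨y, hy, hiff⟩ | ⟨hr, -⟩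
      · obtain ⟨s, hs, hsub⟩ := exists_dims hr0 hy (W := ⊤) le_top
        rw [finrank_top, hd, ← hi] at hs
        set f := finrank F ↥(⊤ ⊓ fix y) with hf
        have hfn : n % i ≤ f := by
          rw [hs, Nat.add_mul_mod_self_right]
          exact Nat.mod_le _ _
        set μ := m / i with hμ
        have hμi : μ * i ≤ m := Nat.div_mul_le_self m i
        rw [Nat.mul_comm] at hmi
        obtain ⟨k, k', hk, hk', hkk, hcase⟩ : ∃ k k', k ≤ μ ∧ k' ≤ μ ∧ k + k' ≤ s ∧
            (k + k' = s ∨ (k = μ ∧ k' = μ)) := by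
          rcases Nat.le_total s μ with h | h
          · exact ⟨s, 0, h, Nat.zero_le _, le_rfl, Or.inl rfl⟩
          · rcases Nat.le_total (s - μ) μ with h' | h'
            · exact ⟨μ, s - μ, le_rfl, h', by omega, Or.inl (by omega)⟩
            · exact ⟨μ, μ, le_rfl, le_rfl, by omega, Or.inr ⟨rfl, rfl⟩⟩
        have hki : k * i ≤ μ * i := Nat.mul_le_mul_right i hk
        have hk'i : k' * i ≤ μ * i := Nat.mul_le_mul_right i hk'
        have hkki : (k + k') * i ≤ s * i := Nat.mul_le_mul_right i hkk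
        rw [Nat.add_mul] at hkki
        have hcc : m - k * i + (m - k' * i) ≤ f := by
          rcases hcase with e | ⟨rfl, rfl⟩
          · have : k * i + k' * i = s * i := by rw [← Nat.add_mul, e]
            omega
          · omega
        have hsk : (s - k') * i = s * i - k' * i := Nat.sub_mul s k' i
        obtain ⟨W, hW, -, hWd, hWf⟩ := hsub (f - (m - k' * i)) (s - k') (by omega) (by omega)
        rw [← hi] at hWd
        obtain ⟨s', hs', hsub'⟩ := exists_dims hr0 hy hW
        rw [← hi, hWd, hWf] at hs'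
        have hse : s' = s - k' := Nat.eq_of_mul_eq_mul_right hipos (Nat.add_left_cancel hs'.symm)
        obtain ⟨U, hU, hUW, hUd, -⟩ := hsub' (m - k * i) k (by rw [hWf]; omega) (by omega)
        rw [← hi] at hUd
        exact ⟨U, W, hUW, by omega, by omega, (hiff U).mpr hU, (hiff W).mpr hW⟩
      · exact absurd hr hr1

end Cfsg.Agent.S5951
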