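import Cfsg.Statements.S5952
import Cfsg.Agent.EqLemmas

set_option autoImplicit false
open Cfsg

namespace Cfsg.Agent.S5952

variable {F V : Type*} [Field F] [AddCommGroup V] [Module F V]

/-- A subspace that is invariant under an injective endomorphism, intersected with a direct sum of invariant
subspaces, has dimension equal to that of its part in `C` plus a multiple of `a`. -/
theorem finrank_inf_finset_sup [FiniteDimensional F V] (f : V →ₗ[F] V) {s a : ℕ} (C : Submodule F V)
    (U : Fin s → Submodule F V) (hC : C.map f ≤ C)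
    (hUinv : ∀ j, (U j).map f ≤ U j) (hUdim : ∀ j, Module.finrank F ↥(U j) = a)
    (hUirr : ∀ j, ∀ W : Submodule F V, W ≤ U j → W.map f ≤ W → W = ⊥ ∨ W = U j)
    (W : Submodule F V) (hW : W.map f ≤ W) (T : Finset (Fin s)) :
    ∃ k : ℕ, Module.finrank F ↥(W ⊓ (C ⊔ T.sup U)) = Module.finrank F ↥(W ⊓ C) + k * a := by
  classical
  induction T using Finset.induction_on with
  | empty => exact ⟨0, by rw [Finset.sup_empty, sup_bot_eq, Nat.zero_mul, Nat.add_zero]⟩
  | insert j T hj ih =>
    obtain ⟨k, hk⟩ := ih
    set M := C ⊔ T.sup U with hM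
    have hins : C ⊔ (insert j T).sup U = M ⊔ U j := by
      rw [Finset.sup_insert, hM]; ac_rfl
    have hMinv : M.map f ≤ M := by
      have hsup : (T.sup U).map f ≤ T.sup U := by
        rw [Finset.sup_eq_iSup, Submodule.map_iSup]
        refine iSup_mono fun i => ?_
        rw [Submodule.map_iSup]
        exact iSup_mono fun _ => hUinv i
      rw [hM, Submodule.map_sup]
      exact sup_le_sup hC hsup
    -- the image of `W ⊓ (M ⊔ U j)` in `U j` modulo `M`
    set Z := U j ⊓ ((W ⊓ (M ⊔ U j)) ⊔ M) with hZ
    have hZinv : Z.map f ≤ Z := by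
      refine le_trans (Submodule.map_inf_le f) (inf_le_inf (hUinv j) ?_)
      rw [Submodule.map_sup]
      refine sup_le_sup ?_ hMinv
      refine le_trans (Submodule.map_inf_le f) (inf_le_inf hW ?_)
      rw [Submodule.map_sup]
      exact sup_le_sup hMinv (hUinv j)
    have hsub : W ⊓ M = (W ⊓ (M ⊔ U j)) ⊓ M := by
      rw [inf_assoc, inf_eq_right.mpr (le_sup_left : M ≤ M ⊔ U j)]
    have hA := Submodule.finrank_sup_add_finrank_inf_eq (W ⊓ (M ⊔ U j)) M
    rw [← hsub] at hA
    rcases hUirr j Z inf_le_left hZinv with h | h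
    · refine ⟨k, ?_⟩
      rw [hins]
      have hle : W ⊓ (M ⊔ U j) ≤ M := by
        have h1 : (W ⊓ (M ⊔ U j)) ⊔ M ≤ M ⊔ U j := sup_le inf_le_right le_sup_left
        have h2 : ((W ⊓ (M ⊔ U j)) ⊔ M) = M ⊔ Z := by
          rw [hZ, ← sup_inf_assoc_of_le (U j) (le_sup_right : M ≤ (W ⊓ (M ⊔ U j)) ⊔ M)]
          exact (inf_eq_right.mpr h1).symm
        rw [h, sup_bot_eq] at h2
        exact le_sup_left.trans h2.le
      rw [← hk, inf_eq_left.mpr hle |>.symm, ← hsub]
    · -- the whole of `U j` lies in the span
      have hUle : U j ≤ (W ⊓ (M ⊔ U j)) ⊔ M := h.ge.trans inf_le_right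
      have h2 : (W ⊓ (M ⊔ U j)) ⊔ M = M ⊔ U j :=
        le_antisymm (sup_le inf_le_right le_sup_left) (sup_le le_sup_right hUle)
      rw [h2] at hA
      rw [hins]
      have hB := Submodule.finrank_sup_add_finrank_inf_eq M (U j)
      have hinv : (M ⊓ U j).map f ≤ M ⊓ U j :=
        le_trans (Submodule.map_inf_le f) (inf_le_inf hMinv (hUinv j))
      rcases hUirr j _ inf_le_right hinv with h3 | h3
      · rw [h3, finrank_bot] at hB
        rw [hUdim] at hB
        exact ⟨k + 1, by rw [Nat.add_mul, Nat.one_mul]; omega⟩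
      · rw [h3] at hB
        exact ⟨k, by omega⟩

/-- Which dimensions of invariant subspaces a semisimple linear map has. Let `V` be a finite-dimensional vector space over a field `F` and `f` an invertible semisimple linear map of `V`. Suppose `V` is the internal direct sum of the fixed space `C_V(f)` (the eigenspace for 1) and subspaces `U_1, …, U_s`, each `f`-invariant of dimension `a ≥ 1` on which `f` acts irreducibly (no `f`-invariant subspaces other than 0 and `U_j`). Let `0 < m < dim V` and `ℓ = m mod a`. Then `f` leaves some `m`-dimensional subspace invariant if and only if `dim C_V(f) ≥ m`, or `a ≤ m` and `dim C_V(f) ≥ ℓ`. -/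
theorem result {F V : Type*} [Field F] [AddCommGroup V] [Module F V]
    [FiniteDimensional F V] (f : V →ₗ[F] V) (hf : Function.Bijective f) (hss : Module.End.IsSemisimple f)
    {s a : ℕ} (ha : 1 ≤ a) (U : Fin s → Submodule F V)
    (hUinv : ∀ j, (U j).map f ≤ U j) (hUdim : ∀ j, Module.finrank F ↥(U j) = a)
    (hUirr : ∀ j, ∀ W : Submodule F V, W ≤ U j → W.map f ≤ W → W = ⊥ ∨ W = U j)
    (hdec : DirectSum.IsInternal (fun o : Option (Fin s) => o.elim (Module.End.eigenspace f 1) U))
    (m : ℕ) (hm : 0 < m) (hmV : m < Module.finrank F V) :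
    (∃ W : Submodule F V, Module.finrank F ↥W = m ∧ W.map f ≤ W) ↔
    (m ≤ Module.finrank F ↥(Module.End.eigenspace f 1) ∨
      (a ≤ m ∧ m % a ≤ Module.finrank F ↥(Module.End.eigenspace f 1))) := by
  set C := Module.End.eigenspace f 1 with hCdef
  have hCfix : ∀ v ∈ C, f v = v := by
    intro v hv
    simpa using Module.End.mem_eigenspace_iff.mp hv
  have hC : C.map f ≤ C := by
    rintro _ ⟨v, hv, rfl⟩
    rw [hCfix v hv]; exact hv
  have htop : C ⊔ Finset.univ.sup U = ⊤ := by
    have := hdec.submodule_iSup_eq_top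
    rw [iSup_option] at this
    rw [Finset.sup_univ_eq_iSup]
    simpa using this
  have hsum : Module.finrank F V = Module.finrank F C + s * a := by
    obtain ⟨k, hk⟩ := finrank_inf_finset_sup f C U hC hUinv hUdim hUirr ⊤ le_top Finset.univ
    classical
    let e := LinearEquiv.ofBijective (DirectSum.coeLinearMap fun o : Option (Fin s) => o.elim C U) hdec
    rw [← e.finrank_eq, Module.finrank_directSum, Fintype.sum_option]
    refine congrArg₂ (· + ·) rfl (Eq.trans (Finset.sum_congr rfl fun i _ => hUdim i) ?_)
    simp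
  constructor
  · rintro ⟨W, hWm, hW⟩
    obtain ⟨k, hk⟩ := finrank_inf_finset_sup f C U hC hUinv hUdim hUirr W hW Finset.univ
    rw [htop, inf_top_eq, hWm] at hk
    have hle : Module.finrank F ↥(W ⊓ C) ≤ Module.finrank F C := Submodule.finrank_mono inf_le_right
    rcases Nat.eq_zero_or_pos k with rfl | hk0
    · left; omega
    · right
      have : a ≤ k * a := Nat.le_mul_of_pos_left a hk0
      refine ⟨by omega, ?_⟩
      rw [hk, Nat.add_mul_mod_self_right]
      exact le_trans (Nat.mod_le _ _) hle
  · intro h
    obtain ⟨k, hks, hka, hkc⟩ : ∃ k, k ≤ s ∧ k * a ≤ m ∧ m - k * a ≤ Module.finrank F C := by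
      rcases h with h | ⟨_, h⟩
      · exact ⟨0, Nat.zero_le _, by simp, by simpa using h⟩
      · by_cases hs : m / a ≤ s
        · refine ⟨m / a, hs, Nat.div_mul_le_self m a, ?_⟩
          have := Nat.div_add_mod' m a
          omega
        · push Not at hs
          have h1 : s * a ≤ m :=
            le_trans (Nat.mul_le_mul_right a hs.le) (Nat.div_mul_le_self m a)
          exact ⟨s, le_rfl, h1, by omega⟩
    obtain ⟨C', hC'le, hC'⟩ : ∃ C' : Submodule F V, C' ≤ C ∧ Module.finrank F C' = m - k * a := by
      obtain ⟨b, hb⟩ : ∃ b : Module.Basis (Fin (Module.finrank F C)) F C, True :=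
        ⟨Module.finBasis F C, trivial⟩
      refine ⟨(Submodule.span F (Set.range (fun i : Fin (m - k * a) => b (Fin.castLE hkc i)))).map C.subtype,
        Submodule.map_subtype_le _ _, ?_⟩
      rw [Submodule.finrank_map_subtype_eq]
      exact (finrank_span_eq_card
        (b.linearIndependent.comp _ (Fin.castLE_injective hkc))).trans (Fintype.card_fin _)
    refine ⟨C' ⊔ ⨆ j : Fin k, U (Fin.castLE hks j), ?_, ?_⟩
    · classical
      let g : Option (Fin k) → Submodule F V := fun o => o.elim C' (fun j => U (Fin.castLE hks j))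
      have hind : iSupIndep g := by
        refine ((hdec.submodule_iSupIndep).comp (f := Option.map (Fin.castLE hks))
          (Option.map_injective (Fin.castLE_injective hks))).mono ?_
        rintro (_ | j)
        · exact hC'le
        · exact le_rfl
      have hs2 : C' ⊔ ⨆ j : Fin k, U (Fin.castLE hks j) = ⨆ o, g o := by
        rw [iSup_option]; rfl
      rw [hs2, Submodule.iSup_eq_range_dfinsupp_lsum,
        LinearMap.finrank_range_of_inj hind.dfinsupp_lsum_injective,
        show Module.finrank F (Π₀ o, ↥(g o)) = Module.finrank F (DirectSum _ fun o => ↥(g o)) from rfl,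
        Module.finrank_directSum, Fintype.sum_option]
      have h1 : ∀ j : Fin k, Module.finrank F ↥(g (some j)) = a := fun j => hUdim _
      have h2 : Module.finrank F ↥(g none) = m - k * a := hC'
      rw [Finset.sum_congr rfl (fun j _ => h1 j), h2]
      simp
      omega
    · rw [Submodule.map_sup, Submodule.map_iSup]
      refine sup_le_sup ?_ (iSup_mono fun j => hUinv _)
      rintro _ ⟨v, hv, rfl⟩
      rw [hCfix v (hC'le hv)]; exact hv

end Cfsg.Agent.S5952
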