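import Cfsg.Statements.S5953
import Cfsg.Agent.EqLemmas
import Cfsg.Agent.Lib.ElusiveU.IsoWitness

set_option autoImplicit false
open scoped MatrixGroups
open Cfsg

namespace Cfsg.Agent.S5953

open Cfsg.Agent.ElusiveU Module
open Cfsg.Agent.Unitary (IsHerm Nondeg IsUnitary)
open Cfsg.Agent.PrimeOrderElt (Inv fix mem_fix)

section Aux

theorem arith_two {b m n : ℕ} (hb : 0 < b) (h2m : 2 * m ≤ n) (hl : 2 * (m % b) ≤ n % (2 * b)) :
    ∀ f R : ℕ, f + R = n → 2 * b ∣ R →
      ∃ k, k * b ≤ m ∧ 2 * (m - k * b) ≤ f ∧ (k = 0 ∨ 2 * (k - 1) * b + 0 < R) := by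
  rintro f _ hf ⟨N, rfl⟩
  have hmd := Nat.div_add_mod' m b
  rw [← hf, Nat.add_mul_mod_self_left] at hl
  have hfm := Nat.mod_le f (2 * b)
  refine ⟨min (m / b) N, ?_, ?_, ?_⟩
  · exact (Nat.mul_le_mul_right b (min_le_left _ _)).trans (Nat.div_mul_le_self m b)
  · rcases min_choice (m / b) N with h | h <;> rw [h]
    · omega
    · have : 2 * b * N = 2 * (N * b) := by ring
      omega
  · rcases Nat.eq_zero_or_pos (min (m / b) N) with h | h
    · exact .inl h
    · refine .inr ?_
      have h1 : min (m / b) N - 1 < N := by omega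
      have := Nat.mul_lt_mul_of_pos_left h1 (show 0 < 2 * b by omega)
      have : 2 * (min (m / b) N - 1) * b = 2 * b * (min (m / b) N - 1) := by ring
      omega

theorem arith_one {b m n s : ℕ} (hb : 0 < b) (hl : 2 * (m % b) ≤ n % b) (hs : s + 2 * (m / b) ≤ n / b) :
    ∀ f R : ℕ, f + R = n → b ∣ R →
      ∃ k, k * b ≤ m ∧ 2 * (m - k * b) ≤ f ∧ (k = 0 ∨ 2 * (k - 1) * b + s * b < R) := by
  rintro f _ hf ⟨N, rfl⟩
  have hmd := Nat.div_add_mod' m b
  rw [← hf, Nat.add_mul_mod_self_left] at hl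
  rw [← hf, Nat.add_mul_div_left _ _ hb] at hs
  have hfm := Nat.mod_le f b
  have hfd := Nat.div_add_mod' f b
  refine ⟨min (m / b) ((N + 1 - s) / 2), ?_, ?_, ?_⟩
  · exact (Nat.mul_le_mul_right b (min_le_left _ _)).trans (Nat.div_mul_le_self m b)
  · rcases min_choice (m / b) ((N + 1 - s) / 2) with h | h <;> rw [h]
    · omega
    · have h1 : 2 * (m / b - (N + 1 - s) / 2) ≤ f / b := by omega
      have h2 := Nat.mul_le_mul_right b h1
      rw [Nat.mul_assoc, Nat.sub_mul] at h2
      omega
  · rcases Nat.eq_zero_or_pos (min (m / b) ((N + 1 - s) / 2)) with h | h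
    · exact .inl h
    · refine .inr ?_
      rw [← Nat.add_mul, Nat.mul_comm b N]
      exact Nat.mul_lt_mul_of_pos_right (by omega) hb

variable {F : Type*} [Field F] [Fintype F] {q r n m : ℕ} [Fact r.Prime] (hF : Fintype.card F = q ^ 2)

include hF in
theorem card_order_eq :
    orderOf (Fintype.card F : ZMod r) =
      if Even (orderOf (q : ZMod r)) then orderOf (q : ZMod r) / 2 else orderOf (q : ZMod r) := by
  rw [hF, Nat.cast_pow, orderOf_pow' _ two_ne_zero]
  split_ifs with h
  · rw [Nat.gcd_eq_right (even_iff_two_dvd.1 h)]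
  · rw [(Nat.not_even_iff_odd.1 h).coprime_two_right.gcd_eq_one, Nat.div_one]

include hF in
/-- An element without isotropic invariant subspaces of dimension `m`, from a diagonal matrix. -/
theorem not_allFix_diag (d : Fin n → F) (hd : ∀ i, d i ^ (q + 1) = 1) (hprod : ∏ i, d i = 1) {z : F}
    (hz : ∀ i, d i ^ r = z) {i j : Fin n} (hij : d i ≠ d j) (T : Finset (Fin n))
    (hT : ∀ i ∈ T, ∀ k, d k = d i → k = i) (hlt : n < 2 * m + T.card) :
    ¬ AllFix q r n F (fun x => HasIso (Cfsg.hermForm n F q) x m) := by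
  intro hall
  have h := hall (Matrix.diagonal d) (Unitary.isUnitary_diagonal hF hd) (by rw [Matrix.det_diagonal, hprod])
    ⟨z, ?_⟩ fun c hc => hij ?_
  · have := diag_iso_le hF d T hT h
    omega
  · rw [← PrimeOrderElt.pow_toLin', Matrix.diagonal_pow, show d ^ r = fun _ => z from funext hz,
      ← Matrix.smul_one_eq_diagonal, map_smul, Matrix.toLin'_one]
    rfl
  · have key : ∀ k, d k = c := fun k => by
      have := congrFun (LinearMap.congr_fun hc (Pi.single k 1)) k
      simpa using this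
    rw [key, key]

include hF in
/-- Both cases for a scalar `r`-th power. -/
theorem root_or_not (hn : 3 ≤ n) {M : Matrix (Fin n) (Fin n) F} (hM : IsUnitary q M)
    (hz : ∃ z : F, (Matrix.toLin' M : Module.End F (Fin n → F)) ^ r = z • (1 : Module.End F (Fin n → F))) :
    ∃ z : F, z ^ (q + 1) = 1 ∧
      (Matrix.toLin' M : Module.End F (Fin n → F)) ^ r = z • (1 : Module.End F (Fin n → F)) ∧
      ((∃ (w : F) (y : Module.End F (Fin n → F)), w ^ (q + 1) = 1 ∧ y = w⁻¹ • Matrix.toLin' M ∧
          IsIso (Cfsg.hermForm n F q) y ∧ y ^ r = 1 ∧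
          (HasIso (Cfsg.hermForm n F q) y m → HasIso (Cfsg.hermForm n F q) (Matrix.toLin' M) m)) ∨
        ¬ ∃ w : F, w ^ (q + 1) = 1 ∧ w ^ r = z) := by
  obtain ⟨z, hz⟩ := hz
  have hx : IsIso (Cfsg.hermForm n F q) (Matrix.toLin' M) := fun u v => by
    rw [Matrix.toLin'_apply, Matrix.toLin'_apply]; exact hM u v
  have H := Unitary.hermForm_isHerm hF n
  haveI : Nontrivial (Fin n → F) := Module.nontrivial_of_finrank_pos (R := F) (by
    rw [Module.finrank_fin_fun]; omega)
  refine ⟨z, scalar_norm hF H (Unitary.hermForm_nondeg hF n) (hx.pow r) hz, hz, ?_⟩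
  by_cases hroot : ∃ w : F, w ^ (q + 1) = 1 ∧ w ^ r = z
  · obtain ⟨w, hw, hwr⟩ := hroot
    obtain ⟨h1, h2, h3⟩ := unscale hF H hx hw hwr hz
    exact .inl ⟨w, _, hw, rfl, h1, h2, fun ⟨W, a, b, c⟩ => ⟨W, a, b, h3 W c⟩⟩
  · exact .inr hroot

include hF in
/-- An isometry of odd order `r`. -/
theorem hasIso_of_order (hr : (r : F) ≠ 0) (hr2 : r ≠ 2) (hmn : 2 * m ≤ n) {y : Module.End F (Fin n → F)}
    (hy : IsIso (Cfsg.hermForm n F q) y) (hyr : y ^ r = 1)
    (hl : 2 * (m % orderOf (Fintype.card F : ZMod r)) ≤ n % negQOrder r q)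
    (hc : negQOrder r q = 2 * orderOf (Fintype.card F : ZMod r) ∨
      (negQOrder r q = orderOf (Fintype.card F : ZMod r) ∧
        (r - 1) / orderOf (Fintype.card F : ZMod r) + 2 * (m / orderOf (Fintype.card F : ZMod r)) ≤
          n / orderOf (Fintype.card F : ZMod r))) :
    HasIso (Cfsg.hermForm n F q) y m := by
  have H := Unitary.hermForm_isHerm hF n
  have hnd := Unitary.hermForm_nondeg hF n
  have hbpos := PrimeOrderElt.orderOf_card_pos (F := F) hr
  set b := orderOf (Fintype.card F : ZMod r) with hb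
  rcases hc with hc | ⟨hc, hs⟩
  · refine hasIso_of_cond hF H hr hnd hy hyr (Module.finrank_fin_fun F) (T := 0) (fun X hXf hXi _ hX0 => ?_)
      (fun f R hfR hd => ?_)
    · obtain ⟨S, hSX, hSi, hS0, hmin⟩ := PrimeOrderElt.exists_minimal_invariant y hXi
        (fun e => by rw [e, finrank_bot] at hX0; exact lt_irrefl 0 hX0)
      have hSf : ¬ S ≤ fix y := fun hle => hS0 (le_bot_iff.1 ((le_inf hSX hle).trans hXf.le))
      exact ⟨S, hSX, hSi, iso_of_simple hF H hr hnd hy hyr hSi hS0 hmin hSf hc,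
        PrimeOrderElt.finrank_simple hr hyr hSi hS0 hmin hSf⟩
    · rw [hc] at hd hl
      exact arith_two hbpos hmn hl f R hfR hd
  · refine hasIso_of_cond hF H hr hnd hy hyr (Module.finrank_fin_fun F) (T := (r - 1) / b * b)
      (fun X hXf hXi _ hX0 => exists_iso_cyc hF H hr hr2 hy hyr hXi hXf ?_)
      (fun f R hfR hd => ?_)
    · rwa [Nat.div_mul_cancel (ZMod.orderOf_dvd_card_sub_one (PrimeOrderElt.natCast_ne_zero (F := F) hr))] at hX0
    · rw [hc] at hd hl
      exact arith_one hbpos hl hs f R hfR hd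

include hF in
/-- `r` odd and prime to `q + 1`. -/
theorem coprime_iff (hr : (r : F) ≠ 0) (hr2 : r ≠ 2) (hrq : ¬ r ∣ q + 1) (hn : 3 ≤ n) (hmn : 2 * m ≤ n)
    (hl : ∃ l, n - 2 * m < l ∧ l ≤ n ∧ negQOrder r q ∣ l) :
    AllFix q r n F (fun x => HasIso (Cfsg.hermForm n F q) x m) ↔
      (orderOf (Fintype.card F : ZMod r) ≤ m ∧
        2 * (m % orderOf (Fintype.card F : ZMod r)) ≤ n % negQOrder r q ∧
        (negQOrder r q = 2 * orderOf (Fintype.card F : ZMod r) ∨
          (negQOrder r q = orderOf (Fintype.card F : ZMod r) ∧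
            (r - 1) / orderOf (Fintype.card F : ZMod r) + 2 * (m / orderOf (Fintype.card F : ZMod r)) ≤
              n / orderOf (Fintype.card F : ZMod r)))) := by
  set c := negQOrder r q with hc
  set b := orderOf (Fintype.card F : ZMod r) with hb
  have hcpos : 0 < c := negQOrder_pos hF hr
  have hbpos : 0 < b := PrimeOrderElt.orderOf_card_pos hr
  obtain ⟨l, hl1, hl2, ⟨t, rfl⟩⟩ := hl
  have hnm : c ≤ n ∧ n % c < 2 * m := by
    have htn : t ≤ n / c := (Nat.le_div_iff_mul_le hcpos).2 (by rwa [mul_comm])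
    have h1 := Nat.mul_le_mul_left c htn
    have h2 := Nat.div_add_mod n c
    have h3 : c * 1 ≤ c * t := Nat.mul_le_mul_left c (Nat.pos_of_ne_zero fun e => by subst e; simp at hl1)
    omega
  constructor
  · intro hall
    -- all blocks equal
    have h12 : b ≤ m ∧ 2 * (m % b) ≤ n % c := by
      by_contra hcon
      obtain ⟨g, y, -, -, -, -, hy, hyr, hyd, hns, hfix⟩ := exists_split_at hF hr hrq (n % c) (n / c)
        (Nat.div_pos hnm.1 hcpos) (fun _ => 1) (fun _ => (Fact.out : r.Prime).not_dvd_one)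
      have H := sumForm_isHerm (F := F) hF (n % c) (n / c) c
      have hnd := sumForm_nondeg (F := F) hF (n % c) (n / c) c
      refine not_allFix (P := fun x => HasIso (Cfsg.hermForm n F q) x m) hF H hnd ?_ hy hyd (z := 1)
        (by rw [hyr, one_smul]) hns (Q := fun x => HasIso (sumForm q (n % c) (n / c) c) x m)
        (fun hW => hcon ?_) (fun M _ h1 h2 => h1 m h2) hall
      · simp only [Module.finrank_prod, Module.finrank_pi_fintype, Module.finrank_self, Finset.sum_const,
          Finset.card_univ, Fintype.card_fin, smul_eq_mul, mul_one]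
        exact Nat.mod_add_div' n c
      · obtain ⟨j, k, hm', hj⟩ := finrank_of_hasIso hF H hr hnd hy hyr hW
        rw [← hb] at hm'
        rw [hfix] at hj
        have hk : 0 < k := Nat.pos_of_ne_zero fun e => by rw [e, zero_mul] at hm'; omega
        refine ⟨(Nat.le_mul_of_pos_left b hk).trans (by omega), ?_⟩
        rw [hm', Nat.add_mul_mod_self_right]
        have := Nat.mod_le j b
        omega
    refine ⟨h12.1, h12.2, ?_⟩
    rcases negQOrder_cases hF hr with ⟨hcb, -, -⟩ | ⟨hcb, -⟩
    swap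
    · exact .inl hcb
    refine .inr ⟨hcb, ?_⟩
    rw [← hc, ← hb] at hcb
    -- blocks in different classes
    by_contra hcon
    have hbr : b ∣ r - 1 := ZMod.orderOf_dvd_card_sub_one (PrimeOrderElt.natCast_ne_zero (F := F) hr)
    set s := (r - 1) / b with hs
    have hs1 : 0 < s := Nat.div_pos (Nat.le_of_dvd (by have := (Fact.out : r.Prime).two_le; omega) hbr) hbpos
    set u := min (n / b) s with hu
    have hu0 : 0 < u := lt_min (Nat.div_pos (hcb ▸ hnm.1) hbpos) hs1
    have hun : u * b ≤ n := (Nat.mul_le_mul_right b (min_le_left _ _)).trans (Nat.div_mul_le_self n b)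
    obtain ⟨e, he, hsep⟩ := Elusive.exists_exponents (F := F) (r := r) (u := u) hr
      ((Nat.mul_le_mul_right b (min_le_right _ _)).trans (Nat.div_mul_le_self (r - 1) b))
    obtain ⟨g, y, -, hgr, hgf, hyeq, hy, hyr, hyd, hns, hfix⟩ :=
      exists_split_at hF hr hrq (n - u * b) u hu0 e he
    have H := sumForm_isHerm (F := F) hF (n - u * b) u c
    have hnd := sumForm_nondeg (F := F) hF (n - u * b) u c
    refine not_allFix (P := fun x => HasIso (Cfsg.hermForm n F q) x m) hF H hnd ?_ hy hyd (z := 1)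
      (by rw [hyr, one_smul]) hns (Q := fun x => HasIso (sumForm q (n - u * b) u c) x m)
      (fun hW => ?_) (fun M _ h1 h2 => h1 m h2) hall
    · simp only [Module.finrank_prod, Module.finrank_pi_fintype, Module.finrank_self, Finset.sum_const,
        Finset.card_univ, Fintype.card_fin, smul_eq_mul, mul_one]
      rw [hcb]
      omega
    · obtain ⟨W, hWd, hW, hWi⟩ := hW
      have hle : W ≤ fix y := by
        subst hyeq
        exact no_iso_blocks hF hr hcb hgr hgf he hsep hWi hW
      have h2 := iso_le_half hF H (ndOn_fix hF H hr hnd hy hyr) hle hW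
      rw [hWd, hfix] at h2
      have hnd' := Nat.div_add_mod' n b
      have hnm' : n % b < 2 * m := hcb ▸ hnm.2
      rcases min_choice (n / b) s with h | h
      · rw [hu, h] at h2
        omega
      · rw [hu, h] at h2 hun
        have h4 := Nat.mul_le_mul_right b (show n / b + 1 ≤ s + 2 * (m / b) by omega)
        rw [Nat.add_mul, Nat.add_mul, Nat.mul_assoc, one_mul] at h4
        have h5 := Nat.div_mul_le_self m b
        have h6 := Nat.mod_lt n hbpos
        omega
  · rintro ⟨-, hl, hcase⟩ M hM _ hpow _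
    obtain ⟨z, hz, hzr, h⟩ := root_or_not (m := m) hF hn hM hpow
    rcases h with ⟨w, y, -, -, hy, hyr, himp⟩ | hno
    · exact himp (hasIso_of_order hF hr hr2 hmn hy hyr hl hcase)
    · exact absurd (exists_root_coprime hrq hz) hno

include hF in
/-- The diagonal witness for `r ∣ q + 1`, `r` odd. -/
theorem witness_diag (hr : (r : F) ≠ 0) (hr2 : r ≠ 2) (hrq : r ∣ q + 1) (hn : 3 ≤ n) (hm : 1 ≤ m)
    (h : n < r - 1 + 2 * m) : ¬ AllFix q r n F (fun x => HasIso (Cfsg.hermForm n F q) x m) := by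
  classical
  have hr3 : 3 ≤ r := by
    have := (Fact.out : r.Prime).two_le
    omega
  obtain ⟨ζ0, hζ0⟩ := exists_prim hF
  obtain ⟨ρ, hρ⟩ := hrq
  have hζ : IsPrimitiveRoot (ζ0 ^ ρ) r := hζ0.pow (show 0 < q + 1 by omega) (by rw [hρ, mul_comm])
  set ζ := ζ0 ^ ρ with hζdef
  have hζq : ∀ a : ℕ, (ζ ^ a) ^ (q + 1) = 1 := fun a => by
    rw [← pow_mul, mul_comm, pow_mul, hρ, pow_mul, hζ.pow_eq_one, one_pow, one_pow]
  have hinj : ∀ a a' : ℕ, ζ ^ a = ζ ^ a' → (a : ZMod r) = a' := fun a a' h =>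
    (Elusive.pow_eq_iff hζ.eq_orderOf.symm).1 h
  have hpow : ∀ a a' : ℕ, (a : ZMod r) = a' → ζ ^ a = ζ ^ a' := fun a a' h =>
    (Elusive.pow_eq_iff hζ.eq_orderOf.symm).2 h
  obtain ⟨a, ha, T, hT, hlt, h01⟩ : ∃ a : Fin n → ℕ, ((∑ i, a i : ℕ) : ZMod r) = 0 ∧ ∃ T : Finset (Fin n),
      (∀ i ∈ T, ∀ k, (a k : ZMod r) = a i → k = i) ∧ n < 2 * m + T.card ∧
      (a ⟨0, by omega⟩ : ZMod r) ≠ a ⟨1, by omega⟩ := by
    have hval : ∀ x y : ℕ, x < r → y < r → (x : ZMod r) = y → x = y := fun x y hx hy h => by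
      have := congrArg ZMod.val h
      rwa [ZMod.val_cast_of_lt hx, ZMod.val_cast_of_lt hy] at this
    rcases Nat.lt_or_ge n r with hnr | hnr
    · -- distinct eigenvalues with product one
      set t : ZMod r := -(∑ i : Fin n, ((i : ℕ) : ZMod r)) / (n : ZMod r) with ht
      have hn0 : (n : ZMod r) ≠ 0 := fun e => by
        rw [← Nat.cast_zero] at e
        have := hval n 0 hnr (by omega) e
        omega
      refine ⟨fun i => (((i : ℕ) : ZMod r) + t).val, ?_, Finset.univ, fun i _ k hk => ?_, ?_, ?_⟩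
      · push_cast
        simp only [ZMod.natCast_val, ZMod.cast_id', id_eq, Finset.sum_add_distrib, Finset.sum_const,
          Finset.card_univ, Fintype.card_fin, nsmul_eq_mul]
        rw [ht, mul_div_cancel₀ _ hn0, add_neg_cancel]
      · simp only [ZMod.natCast_val, ZMod.cast_id', id_eq, add_left_inj] at hk
        exact Fin.ext (hval _ _ (by omega) (by omega) hk)
      · rw [Finset.card_univ, Fintype.card_fin]; omega
      · simp only [ZMod.natCast_val, ZMod.cast_id', id_eq, ne_eq, add_left_inj]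
        intro e
        exact absurd (hval 0 1 (by omega) (by omega) e) (by omega)
    · refine ⟨fun i => if (i : ℕ) < r - 1 then (i : ℕ) + 1 else 0, ?_,
        Finset.univ.filter (fun i : Fin n => (i : ℕ) < r - 1), fun i hi k hk => ?_, ?_, ?_⟩
      · rw [Fin.sum_univ_eq_sum_range (fun i => if i < r - 1 then i + 1 else 0), ← Finset.sum_filter,
          show (Finset.range n).filter (· < r - 1) = Finset.range (r - 1) by ext; simp; omega,
          ZMod.natCast_eq_zero_iff]
        have h2 := Finset.sum_range_id_mul_two r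
        have hs : ∑ i ∈ Finset.range r, i = ∑ i ∈ Finset.range (r - 1), (i + 1) := by
          have := Finset.sum_range_succ' (fun i => i) (r - 1)
          rw [Nat.sub_add_cancel (by omega), add_zero] at this
          exact this
        rw [← hs]
        exact ((Fact.out : r.Prime).dvd_mul.1 (Dvd.intro (r - 1) h2.symm)).resolve_right fun h =>
          hr2 ((Nat.prime_dvd_prime_iff_eq Fact.out Nat.prime_two).1 h)
      · rw [Finset.mem_filter] at hi
        simp only [hi.2, if_true] at hk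
        have h' := hval _ _ (by split_ifs <;> omega) (by omega) hk
        split_ifs at h' <;> exact Fin.ext (by omega)
      · rw [Fin.card_filter_val_lt, min_eq_right (by omega : r - 1 ≤ n)]
        omega
      · have h1 : (0 : ℕ) < r - 1 := by omega
        have h2 : (1 : ℕ) < r - 1 := by omega
        simp only [h1, h2, if_true]
        intro e
        exact absurd (hval _ _ (by omega) (by omega) e) (by omega)
  refine not_allFix_diag hF (fun i => ζ ^ a i) (fun i => hζq _) ?_ (z := 1) (fun i => ?_)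
    (fun e => h01 (hinj _ _ e)) T (fun i hi k e => hT i hi k (hinj _ _ e)) hlt
  · rw [Finset.prod_pow_eq_pow_sum, hpow _ 0 (by rw [ha, Nat.cast_zero]), pow_zero]
  · rw [← pow_mul, mul_comm, pow_mul, hζ.pow_eq_one, one_pow]

include hF in
/-- `r` odd, dividing `q + 1`. -/
theorem odd_dvd_iff (hr : (r : F) ≠ 0) (hr2 : r ≠ 2) (hrq : r ∣ q + 1) (hn : 3 ≤ n) (hm : 1 ≤ m)
    (hmn : 2 * m ≤ n) :
    AllFix q r n F (fun x => HasIso (Cfsg.hermForm n F q) x m) ↔
      (r - 1 + 2 * m ≤ n ∧ (r ∣ m ∨ padicValNat r n ≤ padicValNat r (q + 1))) := by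
  have hsign : (-1 : F) ^ (r - 1) = 1 := by
    have := ((Fact.out : r.Prime).eq_two_or_odd').resolve_left hr2
    exact (Nat.Odd.sub_odd this odd_one).neg_one_pow
  have hc1 := negQOrder_eq_one hrq
  constructor
  · intro hall
    refine ⟨not_lt.1 fun h => witness_diag hF hr hr2 hrq hn hm h hall, ?_⟩
    by_contra hcon
    rw [not_or, Nat.not_le, ← Nat.succ_le_iff, ← padicValNat_dvd_iff_le (by omega : n ≠ 0)] at hcon
    obtain ⟨hrm, t, ht⟩ := hcon
    obtain ⟨z, hz, hnr, hzk⟩ := exists_nonroot hF hrq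
      (Dvd.intro t rfl : r ^ padicValNat r (q + 1) ∣ r ^ padicValNat r (q + 1) * t)
    obtain ⟨M, hM, hMd, hMr, hns⟩ := exists_monomial_iso hF
      (n := n) (k := r ^ padicValNat r (q + 1) * t) (by rw [ht, pow_succ]; ring) (by omega) hz hnr
      (by rw [hsign, one_mul, hzk])
    obtain ⟨W, hWd, -, hWi⟩ := hall M hM hMd ⟨z, hMr⟩ hns
    exact hrm (hWd ▸ PrimeOrderElt.dvd_finrank_of_nonpower Fact.out
      (nonpower_of_nonroot hF hr2 hrq hz hnr) hMr hWi)
  · rintro ⟨hs, hcond⟩ M hM hMd hpow _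
    obtain ⟨z, hz, hMr, h⟩ := root_or_not (m := m) hF hn hM hpow
    rcases h with ⟨w, y, -, -, hy, hyr, himp⟩ | hnr
    · have hb : orderOf (Fintype.card F : ZMod r) = 1 := by
        rw [orderOf_eq_one_iff, hF, Nat.cast_pow]
        have : ((q + 1 : ℕ) : ZMod r) = 0 := (ZMod.natCast_eq_zero_iff _ r).2 hrq
        rw [Nat.cast_succ, ← eq_neg_iff_add_eq_zero] at this
        rw [this, neg_one_sq]
      refine himp (hasIso_of_order hF hr hr2 hmn hy hyr ?_ (.inr ⟨hc1.trans hb.symm, ?_⟩))
      · rw [hb, hc1, Nat.mod_one, Nat.mod_one]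
      · rw [hb, Nat.div_one, Nat.div_one, Nat.div_one]; exact hs
    have H := Unitary.hermForm_isHerm hF n
    have hnd := Unitary.hermForm_nondeg hF n
    have hx : IsIso (Cfsg.hermForm n F q) (Matrix.toLin' M) := fun u v => by
      rw [Matrix.toLin'_apply, Matrix.toLin'_apply]; exact hM u v
    have hnp := nonpower_of_nonroot hF hr2 hrq hz hnr
    obtain ⟨hrn, hdet⟩ := PrimeOrderElt.det_nonpower hnp hMr
    rw [Module.finrank_fin_fun] at hrn
    rcases hcond with ⟨k, rfl⟩ | hv
    · have hz0 : z ≠ 0 := fun e => by rw [e, zero_pow (Nat.succ_ne_zero q)] at hz; exact zero_ne_one hz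
      obtain ⟨N, rfl⟩ := hrn
      obtain ⟨W, -, hWi, hW, hWd⟩ := exists_iso_many hF H hr hnd hx hz0 hMr (fun _ => True)
        (fun _ _ _ _ => trivial)
        (fun X _ hXi _ hX => exists_iso_nonroot hF H hr2 hx hnp hMr hXi hX)
        k ⊤ trivial le_top (ndOn_top hnd) (.inr (by
          rw [finrank_top, Module.finrank_fin_fun]
          have hk0 : 0 < k := Nat.pos_of_ne_zero fun e => by subst e; simp at hm
          have hNk : 2 * k ≤ N :=
            Nat.le_of_mul_le_mul_left (show r * (2 * k) ≤ r * N by rw [mul_left_comm]; exact hmn)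
              (Fact.out : r.Prime).pos
          have hne : 2 * k ≠ N := fun e => by
            rw [← e, mul_left_comm r 2 k] at hs
            have := (Fact.out : r.Prime).two_le
            omega
          calc 2 * (k - 1) * r + r = (2 * (k - 1) + 1) * r := by ring
            _ < N * r := Nat.mul_lt_mul_of_pos_right (by omega) (Fact.out : r.Prime).pos
            _ = r * N := mul_comm _ _))
      exact ⟨W, hWd.trans (mul_comm k r), hW, hWi⟩
    · exfalso
      rw [LinearMap.det_toLin', hMd, hsign, one_mul, Module.finrank_fin_fun] at hdet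
      have hd := Nat.mul_dvd_mul_right (dvd_of_nonroot hF hrq hz hnr hdet.symm) r
      rw [← pow_succ, Nat.div_mul_cancel hrn, padicValNat_dvd_iff_le (by omega : n ≠ 0)] at hd
      omega

include hF in
/-- `r = 2`, odd characteristic. -/
theorem two_dvd_iff [Fact (Nat.Prime 2)] (h2 : ((2 : ℕ) : F) ≠ 0) (hn : 3 ≤ n) (hmn : 2 * m ≤ n) :
    AllFix q 2 n F (fun x => HasIso (Cfsg.hermForm n F q) x m) ↔
      (2 * m < n ∨ padicValNat 2 (q + 1) ≤ padicValNat 2 n) := by
  classical
  have h2F : (2 : F) ≠ 0 := by exact_mod_cast h2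
  have hqodd : q % 2 = 1 := by
    rcases Nat.mod_two_eq_zero_or_one q with h | h
    · exact absurd ((ZMod.natCast_eq_zero_iff q 2).2 (Nat.dvd_of_mod_eq_zero h)) (q_ne_zero hF h2)
    · exact h
  have hone : (-1 : F) ^ (q + 1) = 1 := (Nat.even_iff.2 (by omega) : Even (q + 1)).neg_one_pow
  have hne1 : (-1 : F) ≠ 1 := fun e => h2F (by linear_combination -e)
  have H := Unitary.hermForm_isHerm hF n
  have hnd := Unitary.hermForm_nondeg hF n
  constructor
  · intro hall
    by_contra hcon
    rw [not_or, not_lt, not_le] at hcon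
    obtain ⟨hnm, hv⟩ := hcon
    -- `w ^ n = -1`
    obtain ⟨ζ, hζ⟩ := exists_prim hF
    set v := padicValNat 2 n with hvdef
    obtain ⟨t, ht⟩ : 2 ^ v ∣ n := pow_padicValNat_dvd
    have hto : Odd t := by
      rw [← Nat.not_even_iff_odd, even_iff_two_dvd]
      rintro ⟨t', rfl⟩
      exact pow_succ_padicValNat_not_dvd (p := 2) (show n ≠ 0 by omega)
        ⟨t', by rw [pow_succ, mul_assoc]; exact ht⟩
    obtain ⟨ρ, hρ⟩ : 2 ^ (v + 1) ∣ q + 1 :=
      (padicValNat_dvd_iff_le (Nat.succ_ne_zero q)).2 hv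
    have hhalf : (ζ ^ (2 ^ v * ρ)) = -1 := by
      have hp : IsPrimitiveRoot (ζ ^ (2 ^ v * ρ)) 2 :=
        hζ.pow (show 0 < q + 1 by omega) (by rw [hρ, pow_succ]; ring)
      exact hp.eq_neg_one_of_two_right
    set w := ζ ^ ρ with hw
    have hwn : w ^ n = -1 := by
      rw [hw, ← pow_mul, ht, ← mul_assoc, mul_comm ρ, pow_mul, hhalf, hto.neg_one_pow]
    have hwq : w ^ (q + 1) = 1 := by rw [hw, ← pow_mul, mul_comm, pow_mul, hζ.pow_eq_one, one_pow]
    have hw0 : w ≠ 0 := fun e => by rw [e, zero_pow (by omega : n ≠ 0)] at hwn; simp at hwn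
    let i0 : Fin n := ⟨0, by omega⟩
    have hne : -w ≠ w := fun e => hne1 (mul_right_cancel₀ hw0 (by rw [neg_one_mul, one_mul, e]))
    refine not_allFix_diag (r := 2) hF (Function.update (fun _ => w) i0 (-w)) (fun i => ?_) ?_ (z := w ^ 2)
      (fun i => ?_) (i := i0) (j := ⟨1, by omega⟩) ?_ {i0} (fun i hi k hk => ?_) (by simp; omega) hall
    · by_cases hi : i = i0
      · rw [hi, Function.update_self, neg_pow, hone, one_mul, hwq]
      · rw [Function.update_of_ne hi, hwq]
    · rw [Finset.prod_update_of_mem (Finset.mem_univ _), Finset.prod_const, Finset.card_sdiff_of_subset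
        (Finset.subset_univ _), Finset.card_univ, Fintype.card_fin, Finset.card_singleton, neg_mul, ← pow_succ',
        Nat.sub_add_cancel (by omega), hwn, neg_neg]
    · by_cases hi : i = i0
      · rw [hi, Function.update_self, neg_sq]
      · rw [Function.update_of_ne hi]
    · rw [Function.update_self, Function.update_of_ne (by simp [i0])]
      exact hne
    · rw [Finset.mem_singleton] at hi
      subst hi
      by_contra hk0
      rw [Function.update_self, Function.update_of_ne hk0] at hk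
      exact hne hk.symm
  · intro hcond M hM hMd hpow _
    have hx : IsIso (Cfsg.hermForm n F q) (Matrix.toLin' M) := fun u v => by
      rw [Matrix.toLin'_apply, Matrix.toLin'_apply]; exact hM u v
    obtain ⟨z, hz, hMr, h⟩ := root_or_not (m := m) hF hn hM hpow
    rcases h with ⟨w, y, hw, hyeq, hy, hyr, himp⟩ | hnr
    · refine himp ?_
      obtain ⟨hTs, hTf, hTi, -, hTd⟩ := split_fix h2 hyr (W := (⊤ : Submodule F (Fin n → F))) le_top
      rw [top_inf_eq, finrank_top, Module.finrank_fin_fun] at hTd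
      rw [top_inf_eq] at hTs
      set R := (⊤ : Submodule F (Fin n → F)).map (y - 1) with hR
      have hneg : ∀ v ∈ R, y v = -v := by
        rintro _ ⟨v, -, rfl⟩
        have := LinearMap.congr_fun hyr v
        rw [pow_two, Module.End.mul_apply, Module.End.one_apply] at this
        rw [LinearMap.sub_apply, Module.End.one_apply, map_sub, this, neg_sub]
      -- the parity of the moved space
      have hdet : (-1 : F) ^ finrank F ↥R = (w⁻¹) ^ n := by
        have hyd : LinearMap.det y = (w⁻¹) ^ n := by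
          rw [hyeq, LinearMap.det_smul, Module.finrank_fin_fun, LinearMap.det_toLin', hMd, mul_one]
        have hcd : IsCompl (fix y) R := ⟨disjoint_iff.2 (by rw [inf_comm]; exact hTf), codisjoint_iff.2 hTs⟩
        let e := Submodule.prodEquivOfIsCompl _ _ hcd
        have hye : y = e.toLinearMap ∘ₗ ((LinearMap.id : fix y →ₗ[F] fix y).prodMap
            ((-1 : F) • (LinearMap.id : R →ₗ[F] R))) ∘ₗ e.symm.toLinearMap := by
          refine LinearMap.ext fun v => ?_
          obtain ⟨a, rfl⟩ := e.surjective v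
          simp only [LinearMap.comp_apply, LinearEquiv.coe_coe, LinearEquiv.symm_apply_apply,
            LinearMap.prodMap_apply, LinearMap.smul_apply, LinearMap.id_apply]
          rw [Submodule.coe_prodEquivOfIsCompl' _ _ hcd a, Submodule.coe_prodEquivOfIsCompl' _ _ hcd,
            map_add, mem_fix.1 a.1.2, hneg _ a.2.2]
          simp
        rw [← hyd, hye, LinearMap.det_conj, LinearMap.det_prodMap, LinearMap.det_smul, LinearMap.det_id,
          LinearMap.det_id, one_mul, mul_one]
      obtain ⟨j, hjm, hj1, hj2⟩ : ∃ j ≤ m, 2 * j ≤ finrank F ↥(fix y) ∧ 2 * (m - j) ≤ finrank F ↥R := by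
        refine ⟨min m (finrank F ↥(fix y) / 2), min_le_left _ _, by omega, ?_⟩
        rcases Nat.mod_two_eq_zero_or_one (finrank F ↥R) with hR2 | hR2
        · omega
        rcases hcond with hlt | hv
        · omega
        · exfalso
          rw [(Nat.odd_iff.2 hR2 : Odd (finrank F ↥R)).neg_one_pow, inv_pow] at hdet
          have hwn : w ^ n = -1 := by rw [← inv_inv (w ^ n), ← hdet, inv_neg, inv_one]
          set e := padicValNat 2 (q + 1) with he
          obtain ⟨t, ht⟩ : 2 ^ e ∣ q + 1 := pow_padicValNat_dvd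
          obtain ⟨a, ha⟩ : 2 ^ e ∣ n := (padicValNat_dvd_iff_le (by omega : n ≠ 0)).2 hv
          have hto : Odd t := by
            rw [← Nat.not_even_iff_odd, even_iff_two_dvd]
            rintro ⟨t', rfl⟩
            exact pow_succ_padicValNat_not_dvd (p := 2) (Nat.succ_ne_zero q)
              ⟨t', by rw [pow_succ, mul_assoc]; exact ht⟩
          have h1 := congrArg (· ^ t) hwn
          simp only [hto.neg_one_pow] at h1
          rw [← pow_mul, ha, mul_comm (2 ^ e) a, mul_assoc, ← ht, mul_comm, pow_mul, hw, one_pow] at h1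
          exact hne1 h1.symm
      obtain ⟨U, hU, hUo, hUd⟩ := exists_iso_in hF H (ndOn_fix hF H h2 hnd hy hyr) hj1
      obtain ⟨W, hW, hWo, hWd⟩ :=
        exists_iso_in hF H (ndOn_map hF H h2 hy hyr le_top (ndOn_top hnd)) hj2
      have ho : ∀ u ∈ U, ∀ v ∈ W, Cfsg.hermForm n F q v u = 0 := fun u hu v hv =>
        range_le_orth_fix hF H hy (LinearMap.map_le_range (hW hv)) u (hU hu)
      refine ⟨U ⊔ W, ?_, ?_, PrimeOrderElt.inv_sup (inv_of_le_fix hU) ?_⟩
      · rw [PrimeOrderElt.finrank_sup_of_inf_eq_bot (le_bot_iff.1 ((inf_le_inf hU hW).trans ?_)), hUd, hWd]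
        · omega
        · rw [inf_comm]; exact hTf.le
      · intro a ha c hc
        obtain ⟨u, hu, v, hv, rfl⟩ := Submodule.mem_sup.1 ha
        obtain ⟨u', hu', v', hv', rfl⟩ := Submodule.mem_sup.1 hc
        rw [H.add_left, H.add_right hF, H.add_right hF, hUo u hu u' hu', hWo v hv v' hv', ho u' hu' v hv,
          (H.eq_zero_symm hF).1 (ho u hu v' hv')]
        simp
      · rintro _ ⟨v, hv, rfl⟩
        rw [hneg v (hW hv)]
        exact W.neg_mem hv
    · -- eigenvectors are isotropic
      obtain ⟨θ, hθ2, hθ⟩ := exists_sqrt hF h2F hz hnr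
      have hz0 : z ≠ 0 := fun e => by rw [e, zero_pow (Nat.succ_ne_zero q)] at hz; exact zero_ne_one hz
      have hθ0 : θ ≠ 0 := fun e => hz0 (by rw [← hθ2, e, zero_pow two_ne_zero])
      have hline : ∀ {X : Submodule F (Fin n → F)} {s : F} {a : Fin n → F}, (s = θ ∨ s = -θ) → a ∈ X → a ≠ 0 →
          Matrix.toLin' M a = s • a → ∃ S ≤ X, Inv (Matrix.toLin' M) S ∧ Iso0 (Cfsg.hermForm n F q) S ∧
            finrank F S = 1 := by
        intro X s a hs haX ha0 hax
        refine ⟨Submodule.span F {a}, (Submodule.span_singleton_le_iff_mem a X).2 haX, ?_, ?_,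
          finrank_span_singleton ha0⟩
        · rintro _ ⟨v, hv, rfl⟩
          obtain ⟨c, rfl⟩ := Submodule.mem_span_singleton.1 hv
          rw [map_smul, hax, smul_smul]
          exact Submodule.smul_mem _ _ (Submodule.mem_span_singleton_self a)
        · intro u hu v hv
          obtain ⟨c, rfl⟩ := Submodule.mem_span_singleton.1 hu
          obtain ⟨c', rfl⟩ := Submodule.mem_span_singleton.1 hv
          rw [H.smul_left, H.smul_right, eig_isotropic hF H h2F hx hθ hs hax hax, mul_zero, mul_zero]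
      obtain ⟨W, -, hWi, hW, hWd⟩ := exists_iso_many hF H h2 hnd hx hz0 hMr (fun _ => True)
        (fun _ _ _ _ => trivial) (T := 0) (d := 1)
        (fun X _ hXi _ hX => by
          obtain ⟨v, hv, hv0⟩ := (Submodule.ne_bot_iff X).1 fun e => by rw [e, finrank_bot] at hX; omega
          obtain ⟨a, b, haX, hbX, hax, hbx, rfl⟩ :=
            eig_split h2F hθ0 (by rw [hθ2]; exact hMr) hXi v hv
          by_cases ha : a = 0
          · exact hline (.inr rfl) hbX (by simpa [ha] using hv0) hbx
          · exact hline (.inl rfl) haX ha hax)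
        m ⊤ trivial le_top (ndOn_top hnd) (by
          rw [finrank_top, Module.finrank_fin_fun]
          omega)
      exact ⟨W, by rw [hWd, mul_one], hW, hWi⟩

end Aux

/-- Elements of prime order of PSU_n(q) with no fixed totally isotropic `m`-space. Here `T = PSU_n(q)` (`n ≥ 3`, `(n, q) ≠ (3, 2)`), realised through the matrices of determinant 1 over the field `F` with `q²` elements preserving the Hermitian form `h(u, v) = Σ u_i v_i^q`; an element of `T` of prime order `r` is such a matrix `x` with `x^r` scalar and `x` not scalar. For `r ≠ p` let `i` be the multiplicative order of `q` modulo `r`, `b = i/2` for `i` even and `b = i` for `i` odd, `c = i, i/2, 2i` according as `i ≡ 0, 2 (mod 4)` or `i` odd, and write `k = n mod c`, `ℓ = m mod b`, `ℓ' = m mod c`, `n' = ⌊n/b⌋`, `m' = ⌊m/b⌋`, `s = (r−1)/b`; `(a)_r` is the `r`-part of `a`. Let `1 ≤ m ≤ n/2` and let `r` be a prime dividing the number of totally isotropic `m`-spaces. Then every element of `T` of order `r` fixes a totally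 isotropic `m`-space if and only if either (i) `r = 2`, `p ≠ 2`, and (`m < n/2` or `(q+1)_2 ≤ (n)_2`); or (ii) `r ≠ p`, `r > 2`, `b ≤ m`, `k ≥ 2ℓ`, and either `i ≢ 2 (mod 4)`, or `i ≡ 2 (mod 4)`, `n' − 2m' ≥ s` and (`i > 2`, or `i = 2` and (`r ∣ m` or `(q+1)_r ≥ (n)_r`)). -/
theorem result {F : Type*} [Field F] [Fintype F] {p : ℕ} [Fact p.Prime] [CharP F p] {q : ℕ} (hq : Fintype.card F = q ^ 2)
    (n m : ℕ) (hn : 3 ≤ n) (hT : (n, q) ≠ (3, 2)) (hm : 1 ≤ m) (hmn : 2 * m ≤ n)
    (r : ℕ) [Fact r.Prime]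
    (hrΩ : r ∣ Nat.card {W : Submodule F (Fin n → F) // Module.finrank F ↥W = m ∧ (∀ u ∈ W, ∀ v ∈ W, Cfsg.hermForm n F q u v = 0)})
    (i b c : ℕ) (hi : i = orderOf (q : ZMod r)) (hb : b = if Even i then i / 2 else i)
    (hc : c = if i % 4 = 0 then i else if i % 4 = 2 then i / 2 else 2 * i) :
    (∀ x : Matrix.SpecialLinearGroup (Fin n) F, x ∈ Cfsg.SU n F q →
      (∃ z : F, ((x ^ r : Matrix.SpecialLinearGroup (Fin n) F) : Matrix (Fin n) (Fin n) F) = z • (1 : Matrix (Fin n) (Fin n) F)) →
      (∀ z : F, (x : Matrix (Fin n) (Fin n) F) ≠ z • (1 : Matrix (Fin n) (Fin n) F)) →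
      ∃ W : Submodule F (Fin n → F), Module.finrank F ↥W = m ∧ (∀ u ∈ W, ∀ v ∈ W, Cfsg.hermForm n F q u v = 0) ∧
        W.map (Matrix.toLin' (x : Matrix (Fin n) (Fin n) F)) ≤ W) ↔
    ((r = 2 ∧ p ≠ 2 ∧ (2 * m < n ∨ padicValNat 2 (q + 1) ≤ padicValNat 2 n)) ∨
     (r ≠ p ∧ 2 < r ∧ b ≤ m ∧ 2 * (m % b) ≤ n % c ∧
       (i % 4 ≠ 2 ∨ (i % 4 = 2 ∧ (r - 1) / b + 2 * (m / b) ≤ n / b ∧
         (2 < i ∨ (i = 2 ∧ (r ∣ m ∨ padicValNat r n ≤ padicValNat r (q + 1)))))))) := by
  classical
  refine (allFix_iff (fun x => HasIso (Cfsg.hermForm n F q) x m)).trans ?_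
  by_cases hrp : r = p
  · subst hrp
    exact absurd hrΩ (not_dvd_count hq hmn)
  have hr : (r : F) ≠ 0 := by
    rw [Ne, CharP.cast_eq_zero_iff F p, Nat.prime_dvd_prime_iff_eq Fact.out Fact.out]
    exact Ne.symm hrp
  by_cases h2 : r = 2
  · subst h2
    rw [two_dvd_iff hq hr hn hmn]
    simp [Ne.symm hrp]
  have h2' : 2 < r := lt_of_le_of_ne (Fact.out : r.Prime).two_le (Ne.symm h2)
  simp only [hrp, h2, h2', false_and, false_or, ne_eq, not_false_eq_true, true_and]
  have hbeq : b = orderOf (Fintype.card F : ZMod r) := by rw [hb, hi, card_order_eq hq]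
  have hceq : c = negQOrder r q := by rw [hc, hi, negQOrder_eq h2' (q_ne_zero hq hr)]
  have hbpos : 0 < b := hbeq ▸ PrimeOrderElt.orderOf_card_pos hr
  by_cases hi2 : i = 2
  · have hrq : r ∣ q + 1 := (two_iff h2').1 (hi ▸ hi2)
    have hb1 : b = 1 := by rw [hb, hi2]; rfl
    rw [odd_dvd_iff hq hr h2 hrq hn hm hmn]
    simp [hi2, hb1, Nat.mod_one, hm]
  · have hrq : ¬ r ∣ q + 1 := fun h => hi2 (hi.trans ((two_iff h2').2 h))
    rw [coprime_iff hq hr h2 hrq hn hmn (exists_ti_index hq hmn hrΩ), ← hbeq, ← hceq]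
    refine and_congr_right fun _ => and_congr_right fun _ => ?_
    have hi0 : i ≠ 0 := fun e => by rw [hb, e] at hbpos; simp at hbpos
    by_cases h4 : i % 4 = 2
    · have hcb : c = b := by
        rw [hc, hb, if_neg (by omega), if_pos h4, if_pos (Nat.even_iff.2 (by omega))]
      have hne : b ≠ 2 * b := by omega
      simp only [hcb, hne, false_or, true_and, h4, ne_eq, not_true_eq_false, hi2, false_and, or_false,
        show 2 < i by omega, and_true]
    · have hcb : c = 2 * b := by
        rw [hc, hb]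
        rcases Nat.even_or_odd i with he | ho
        · rw [Nat.even_iff] at he
          rw [if_pos (by omega), if_pos (Nat.even_iff.2 he)]
          omega
        · rw [Nat.odd_iff] at ho
          rw [if_neg (by omega), if_neg h4, if_neg (by rw [Nat.even_iff]; omega)]
      simp [hcb, h4]

end Cfsg.Agent.S5953
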