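import Cfsg.Statements.S5954
import Cfsg.Agent.EqLemmas
import Cfsg.Agent.Lib.ElusiveU.Criteria

set_option autoImplicit false
open scoped MatrixGroups
open Cfsg

namespace Cfsg.Agent.S5954

open Cfsg.Agent.ElusiveU Module
open Cfsg.Agent.Unitary (IsHerm Nondeg IsUnitary)
open Cfsg.Agent.PrimeOrderElt (Inv fix rk)

section Aux

variable {F : Type*} [Field F] [Fintype F] {q : ℕ} {n m : ℕ}

theorem parts_two (h : 2 * m < n) :
    (∀ μ : Multiset ℕ, (∀ a ∈ μ, 0 < a ∧ a ≤ 2) → μ.sum = n → ∃ ν : Multiset ℕ, ν ≤ μ ∧ ν.sum = m) ↔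
      (Odd n ∨ Even m) := by
  constructor
  · intro hc
    by_contra hcon
    rw [not_or, Nat.not_odd_iff, Nat.not_even_iff] at hcon
    obtain ⟨ν, hν, hs⟩ := hc (Multiset.replicate (n / 2) 2)
      (fun a ha => by rw [Multiset.eq_of_mem_replicate ha]; omega) (by simp; omega)
    have hd : 2 ∣ ν.sum := Multiset.dvd_sum fun a ha => by
      rw [Multiset.eq_of_mem_replicate (Multiset.mem_of_le hν ha)]
    omega
  · intro hc μ hμ hsum
    have hform : μ = Multiset.replicate (μ.count 1) 1 + Multiset.replicate (μ.count 2) 2 := by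
      refine Multiset.ext.2 fun a => ?_
      rw [Multiset.count_add, Multiset.count_replicate, Multiset.count_replicate]
      by_cases ha : a ∈ μ
      · obtain ⟨h1, h2⟩ := hμ a ha
        interval_cases a <;> simp
      · rw [Multiset.count_eq_zero.2 ha]
        split_ifs with h1 h2 h2 <;> subst_vars <;> simp_all
    have hn : μ.count 1 + 2 * μ.count 2 = n := by
      rw [← hsum]
      nth_rewrite 3 [hform]
      simp [mul_comm]
    refine ⟨Multiset.replicate (m - 2 * min (μ.count 2) (m / 2)) 1 +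
      Multiset.replicate (min (μ.count 2) (m / 2)) 2, ?_, by simp; omega⟩
    refine le_of_le_of_eq (add_le_add ((Multiset.replicate_mono _) ?_)
      ((Multiset.replicate_mono _) (min_le_left _ _))) hform.symm
    rcases hc with ho | he
    · rw [Nat.odd_iff] at ho; omega
    · rw [Nat.even_iff] at he; omega

variable (hF : Fintype.card F = q ^ 2)

include hF in
/-- The defining characteristic. -/
theorem unipotent_iff {p : ℕ} [Fact p.Prime] [CharP F p] (hn : 3 ≤ n) (hmn : 2 * m < n) :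
    AllFix q p n F (fun x => HasNd (Cfsg.hermForm n F q) x m) ↔
      ∀ μ : Multiset ℕ, (∀ a ∈ μ, 0 < a ∧ a ≤ p) → μ.sum = n → ∃ ν : Multiset ℕ, ν ≤ μ ∧ ν.sum = m := by
  classical
  have H := Unitary.hermForm_isHerm hF n
  have hnd := Unitary.hermForm_nondeg hF n
  constructor
  · intro hall μ hμ hsum
    by_contra hno
    have h1 : 0 < rk μ 1 := by
      by_contra h0
      rw [not_lt, Nat.le_zero] at h0
      refine hno ⟨Multiset.replicate m 1, ?_, by simp⟩
      have hμ1 : μ = Multiset.replicate n 1 := by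
        have hall1 : ∀ a ∈ μ, a = 1 := fun a ha => by
          have := (hμ a ha).1
          have h2 : a - 1 ≤ rk μ 1 := Multiset.le_sum_of_mem (Multiset.mem_map_of_mem (fun b => b - 1) ha)
          omega
        rw [Multiset.eq_replicate_card.2 hall1] at hsum ⊢
        simp only [Multiset.sum_replicate, smul_eq_mul, mul_one] at hsum
        rw [hsum]
      rw [hμ1]
      exact (Multiset.replicate_mono _) (by omega)
    obtain ⟨h, N, Hh, hhnd, hN, hNp, hrk⟩ := exists_skew_model (p := p) hF μ hμ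
    have hN0 : N ≠ 0 := fun e => by
      have := hrk 1
      rw [e, pow_one, LinearMap.range_zero, finrank_bot] at this
      omega
    haveI : Nontrivial (Fin μ.sum → F) := Module.nontrivial_of_finrank_pos (R := F) (by
      rw [Module.finrank_fin_fun, hsum]; omega)
    obtain ⟨y, hy, hyp, hy1, hinv⟩ := exists_isom_of_skew hF Hh hN hNp hN0
    have hd : finrank F (Fin μ.sum → F) = n := (Module.finrank_fin_fun F).trans hsum
    refine not_allFix (P := fun x => HasNd (Cfsg.hermForm n F q) x m) hF Hh hhnd hd hy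
      (PrimeOrderElt.eq_one_of_pow_char (p := p) (by rw [← map_pow, hyp, map_one])) (z := 1)
      (by rw [hyp, one_smul]) (fun c hc => ?_) (Q := fun x => HasNd h x m) (fun hW => ?_)
      (fun M h1 _ h2 => h1 m h2) hall
    · obtain ⟨v, hv⟩ := exists_ne (0 : Fin μ.sum → F)
      have h' := LinearMap.congr_fun hyp v
      rw [hc, _root_.smul_pow, one_pow, LinearMap.smul_apply, Module.End.one_apply] at h'
      have hc1 : c = 1 := PrimeOrderElt.eq_one_of_pow_char (p := p)
        (smul_left_injective F hv (h'.trans (one_smul F v).symm))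
      exact hy1 (by rw [hc, hc1, one_smul])
    · obtain ⟨W, hWd, hW, hWi⟩ := hW
      have hWN := hinv W hWi
      have hN' : ∀ v, (N ^ p) v = 0 := fun v => by rw [hNp]; rfl
      obtain ⟨μ1, hμ1, hs1, hr1, -⟩ := exists_decomp hF Hh hN (p := p) W hWN hW fun v _ => hN' v
      have hW'n : NdOn h (⊤ ⊓ orth Hh W) := ndOn_inf_orth hF Hh (ndOn_top hhnd) hW le_top
      have hW'i : Inv N (⊤ ⊓ orth Hh W) :=
        PrimeOrderElt.inv_inf le_top (hN.inv_orth hF Hh hWN)
      obtain ⟨μ2, hμ2, -, hr2, -⟩ := exists_decomp hF Hh hN (p := p) _ hW'i hW'n fun v _ => hN' v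
      have heq : μ = μ1 + μ2 := by
        refine PrimeOrderElt.eq_of_rk (fun a ha => (hμ a ha).1) (fun a ha => ?_) fun j => ?_
        · rcases Multiset.mem_add.1 ha with h | h
          · exact (hμ1 a h).1
          · exact (hμ2 a h).1
        · rw [PrimeOrderElt.rk_add, ← hr1, ← hr2, ← hrk, ← PrimeOrderElt.map_top_pow,
            ← PrimeOrderElt.finrank_map_pow_sup hWN hW'i
              (le_bot_iff.1 ((inf_le_inf le_rfl inf_le_right).trans (disjoint_orth hF Hh hW).le)),
            sup_inf_orth hF Hh hW le_top]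
      exact hno ⟨μ1, heq ▸ Multiset.le_add_right _ _, by rw [hs1, hWd]⟩
  · intro hcond M hM _ hpow _
    obtain ⟨z, hz⟩ := hpow
    set x : Module.End F (Fin n → F) := Matrix.toLin' M
    have hx : IsIso (Cfsg.hermForm n F q) x := fun u v => by
      rw [Matrix.toLin'_apply, Matrix.toLin'_apply]; exact hM u v
    haveI : Nontrivial (Fin n → F) := Module.nontrivial_of_finrank_pos (R := F) (by
      rw [Module.finrank_fin_fun]; omega)
    obtain ⟨w, hw, hwr⟩ := exists_root_coprime (not_dvd_succ_q hF (F := F) (p := p))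
      (scalar_norm hF H hnd (hx.pow p) hz)
    obtain ⟨y, hy, hyp, hinv⟩ := exists_root_reduce hF hx hz hw hwr
    obtain ⟨N, hN, hNp, -, hiff⟩ := exists_skew_of_isom hF H hy hyp
    obtain ⟨μ, hμ, hs, -, hsub⟩ := exists_decomp hF H hN (p := p) ⊤ le_top (ndOn_top hnd)
      fun v _ => by rw [hNp]; rfl
    rw [finrank_top, Module.finrank_fin_fun] at hs
    obtain ⟨ν, hν, hνs⟩ := hcond μ hμ hs
    obtain ⟨W, -, hWi, hW, hWd⟩ := hsub ν hν
    exact ⟨W, hWd.trans hνs, hW, hinv W ((hiff W).2 hWi)⟩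

variable {r : ℕ} [Fact r.Prime]

include hF in
/-- `r` prime to `q + 1`. -/
theorem coprime_iff (hr : (r : F) ≠ 0) (hrq : ¬ r ∣ q + 1) (hmn : 2 * m < n)
    (hl : ∃ l, n - m < l ∧ l ≤ n ∧ negQOrder r q ∣ l) :
    AllFix q r n F (fun x => HasNd (Cfsg.hermForm n F q) x m) ↔
      (negQOrder r q ≤ m ∧ m % negQOrder r q ≤ n % negQOrder r q) := by
  set c := negQOrder r q with hc
  have hcpos : 0 < c := negQOrder_pos hF hr
  obtain ⟨l, hl1, hl2, ⟨t, rfl⟩⟩ := hl
  have hnm : c ≤ n ∧ n % c < m := by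
    have htn : t ≤ n / c := (Nat.le_div_iff_mul_le hcpos).2 (by rwa [mul_comm])
    have h1 := Nat.mul_le_mul_left c htn
    have h2 := Nat.div_add_mod n c
    have h3 : c * 1 ≤ c * t := Nat.mul_le_mul_left c (Nat.pos_of_ne_zero fun e => by subst e; simp at hl1)
    omega
  constructor
  · intro hall
    by_contra hcon
    obtain ⟨g, y, -, -, -, -, hy, hyr, hyd, hns, hfix⟩ := exists_split_at hF hr hrq (n % c) (n / c)
      (Nat.div_pos hnm.1 hcpos) (fun _ => 1) (fun _ => (Fact.out : r.Prime).not_dvd_one)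
    have H := sumForm_isHerm (F := F) hF (n % c) (n / c) c
    have hnd := sumForm_nondeg (F := F) hF (n % c) (n / c) c
    refine not_allFix (P := fun x => HasNd (Cfsg.hermForm n F q) x m) hF H hnd ?_ hy hyd (z := 1)
      (by rw [hyr, one_smul]) hns (Q := fun x => HasNd (sumForm q (n % c) (n / c) c) x m)
      (fun hW => hcon ?_) (fun M h1 _ h2 => h1 m h2) hall
    · simp only [Module.finrank_prod, Module.finrank_pi_fintype, Module.finrank_self, Finset.sum_const,
        Finset.card_univ, Fintype.card_fin, smul_eq_mul, mul_one]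
      exact Nat.mod_add_div' n c
    · obtain ⟨j, s, hm', hj⟩ := finrank_of_hasNd hF H hr hnd hy hyr hW
      rw [← hc] at hm'
      rw [hfix] at hj
      have hs : 0 < s := Nat.pos_of_ne_zero fun e => by rw [e, zero_mul] at hm'; omega
      refine ⟨(Nat.le_mul_of_pos_left c hs).trans (by omega), ?_⟩
      rw [hm', Nat.add_mul_mod_self_right]
      exact (Nat.mod_le _ _).trans hj
  · rintro ⟨-, hmod⟩ M hM _ ⟨z, hz⟩ _
    set x : Module.End F (Fin n → F) := Matrix.toLin' M
    have H := Unitary.hermForm_isHerm hF n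
    have hnd := Unitary.hermForm_nondeg hF n
    have hx : IsIso (Cfsg.hermForm n F q) x := fun u v => by
      rw [Matrix.toLin'_apply, Matrix.toLin'_apply]; exact hM u v
    haveI : Nontrivial (Fin n → F) := Module.nontrivial_of_finrank_pos (R := F) (by
      rw [Module.finrank_fin_fun]; omega)
    obtain ⟨w, hw, hwr⟩ := exists_root_coprime hrq (scalar_norm hF H hnd (hx.pow r) hz)
    obtain ⟨y, hy, hyr, hinv⟩ := exists_root_reduce hF hx hz hw hwr
    obtain ⟨W, hWd, hW, hWi⟩ := hasNd_of_cond hF H hr hnd hy hyr (Module.finrank_fin_fun F)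
      (show m ≤ n by omega) hmod
    exact ⟨W, hWd, hW, hinv W hWi⟩

include hF in
/-- The two cases for `r ∣ q + 1`. -/
theorem root_or_not (hr : (r : F) ≠ 0) (hrq : r ∣ q + 1) (hn : 3 ≤ n) (hmn : 2 * m < n)
    {M : Matrix (Fin n) (Fin n) F} (hM : IsUnitary q M)
    (hz : ∃ z : F, (Matrix.toLin' M : Module.End F (Fin n → F)) ^ r = z • (1 : Module.End F (Fin n → F))) :
    HasNd (Cfsg.hermForm n F q) (Matrix.toLin' M) m ∨
      ∃ z : F, z ^ (q + 1) = 1 ∧ (¬ ∃ w : F, w ^ (q + 1) = 1 ∧ w ^ r = z) ∧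
        (Matrix.toLin' M : Module.End F (Fin n → F)) ^ r = z • (1 : Module.End F (Fin n → F)) := by
  obtain ⟨z, hz⟩ := hz
  have H := Unitary.hermForm_isHerm hF n
  have hnd := Unitary.hermForm_nondeg hF n
  have hx : IsIso (Cfsg.hermForm n F q) (Matrix.toLin' M) := fun u v => by
    rw [Matrix.toLin'_apply, Matrix.toLin'_apply]; exact hM u v
  haveI : Nontrivial (Fin n → F) := Module.nontrivial_of_finrank_pos (R := F) (by
    rw [Module.finrank_fin_fun]; omega)
  have hzn := scalar_norm hF H hnd (hx.pow r) hz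
  by_cases hroot : ∃ w : F, w ^ (q + 1) = 1 ∧ w ^ r = z
  · obtain ⟨w, hw, hwr⟩ := hroot
    obtain ⟨y, hy, hyr, hinv⟩ := exists_root_reduce hF hx hz hw hwr
    obtain ⟨W, hWd, hW, hWi⟩ := hasNd_of_cond hF H hr hnd hy hyr (Module.finrank_fin_fun F)
      (show m ≤ n by omega) (by rw [negQOrder_eq_one hrq, Nat.mod_one, Nat.mod_one])
    exact .inl ⟨W, hWd, hW, hinv W hWi⟩
  · exact .inr ⟨z, hzn, hroot, hz⟩

include hF in
/-- `r` odd, dividing `q + 1`. -/
theorem odd_dvd_iff (hr : (r : F) ≠ 0) (hr2 : r ≠ 2) (hrq : r ∣ q + 1) (hn : 3 ≤ n) (hmn : 2 * m < n) :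
    AllFix q r n F (fun x => HasNd (Cfsg.hermForm n F q) x m) ↔
      (r ∣ m ∨ padicValNat r n ≤ padicValNat r (q + 1)) := by
  have hsign : (-1 : F) ^ (r - 1) = 1 := by
    have := ((Fact.out : r.Prime).eq_two_or_odd').resolve_left hr2
    exact (Nat.Odd.sub_odd this odd_one).neg_one_pow
  constructor
  · intro hall
    by_contra hcon
    rw [not_or, Nat.not_le, ← Nat.succ_le_iff, ← padicValNat_dvd_iff_le (by omega : n ≠ 0)] at hcon
    obtain ⟨hrm, t, ht⟩ := hcon
    obtain ⟨z, hz, hnr, hzk⟩ := exists_nonroot hF hrq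
      (Dvd.intro t rfl : r ^ padicValNat r (q + 1) ∣ r ^ padicValNat r (q + 1) * t)
    obtain ⟨M, hM, hMd, hMr, hns⟩ := exists_monomial_iso hF
      (n := n) (k := r ^ padicValNat r (q + 1) * t) (by rw [ht, pow_succ]; ring) (by omega) hz hnr
      (by rw [hsign, one_mul, hzk])
    obtain ⟨W, hWd, -, hWi⟩ := hall M hM hMd ⟨z, hMr⟩ hns
    exact hrm (hWd ▸ PrimeOrderElt.dvd_finrank_of_nonpower Fact.out
      (nonpower_of_nonroot hF hr2 hrq hz hnr) hMr hWi)
  · intro hcond M hM hMd hpow _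
    rcases root_or_not hF hr hrq hn hmn hM hpow with h | ⟨z, hz, hnr, hMr⟩
    · exact h
    have H := Unitary.hermForm_isHerm hF n
    have hnd := Unitary.hermForm_nondeg hF n
    have hx : IsIso (Cfsg.hermForm n F q) (Matrix.toLin' M) := fun u v => by
      rw [Matrix.toLin'_apply, Matrix.toLin'_apply]; exact hM u v
    have hnp := nonpower_of_nonroot hF hr2 hrq hz hnr
    obtain ⟨N, hN, hW⟩ := nonroot_pieces hF H hr hnd hx hnp hMr
    rw [Module.finrank_fin_fun] at hN
    rcases hcond with ⟨s, rfl⟩ | hv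
    · rw [mul_comm r s]
      exact hW s (Nat.le_of_mul_le_mul_right (show s * r ≤ N * r by rw [← hN, mul_comm s r]; omega)
        (Fact.out : r.Prime).pos)
    · obtain ⟨-, hdet⟩ := PrimeOrderElt.det_nonpower hnp hMr
      rw [LinearMap.det_toLin', hMd, hsign, one_mul, Module.finrank_fin_fun] at hdet
      have hd := Nat.mul_dvd_mul_right (dvd_of_nonroot hF hrq hz hnr hdet.symm) r
      rw [← pow_succ, Nat.div_mul_cancel ⟨N, by rw [hN, mul_comm]⟩,
        padicValNat_dvd_iff_le (by omega : n ≠ 0)] at hd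
      omega

include hF in
/-- `r = 2`, odd characteristic. -/
theorem two_dvd_iff [Fact (Nat.Prime 2)] (h2 : ((2 : ℕ) : F) ≠ 0) (hn : 3 ≤ n) (hmn : 2 * m < n) :
    AllFix q 2 n F (fun x => HasNd (Cfsg.hermForm n F q) x m) ↔
      (Odd n ∨ Even m ∨ (padicValNat 2 n ≤ padicValNat 2 (q + 1) ∧ q % 4 = 3)) := by
  have h2F : (2 : F) ≠ 0 := by exact_mod_cast h2
  have hqodd : q % 2 = 1 := by
    rcases Nat.mod_two_eq_zero_or_one q with h | h
    · exact absurd ((ZMod.natCast_eq_zero_iff q 2).2 (Nat.dvd_of_mod_eq_zero h)) (q_ne_zero hF h2)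
    · exact h
  have hrq : 2 ∣ q + 1 := by omega
  have he1 : 1 ≤ padicValNat 2 (q + 1) := one_le_padicValNat_of_dvd (Nat.succ_ne_zero q) hrq
  have hone : (-1 : F) ^ (q + 1) = 1 := (Nat.even_iff.2 (by omega) : Even (q + 1)).neg_one_pow
  have H := Unitary.hermForm_isHerm hF n
  have hnd := Unitary.hermForm_nondeg hF n
  constructor
  · intro hall
    by_contra hcon
    rw [not_or, not_or, Nat.not_odd_iff, Nat.not_even_iff] at hcon
    obtain ⟨hne, hmo, hcon⟩ := hcon
    have key : ∀ z : F, z ^ (q + 1) = 1 → (¬ ∃ w : F, w ^ (q + 1) = 1 ∧ w ^ 2 = z) →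
        (-z) ^ (n / 2) = 1 → False := by
      intro z hz hnr hdet
      obtain ⟨M, hM, hMd, hMr, hns⟩ := exists_monomial_iso (r := 2) hF (n := n) (k := n / 2) (by omega)
        (by omega) hz hnr (by rw [show (-1 : F) ^ (2 - 1) = -1 by norm_num, neg_one_mul, hdet])
      obtain ⟨W, hWd, hW, hWi⟩ := hall M hM hMd ⟨z, hMr⟩ hns
      obtain ⟨θ, hθ2, hθ⟩ := exists_sqrt hF h2F hz hnr
      let x' : Module.End F W := (Matrix.toLin' M : Module.End F (Fin n → F)).restrict
        fun v hv => PrimeOrderElt.inv_apply hWi hv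
      obtain ⟨N, hN, -⟩ := nonroot_pieces_two hF (H.comap W.subtype) (x := x') h2F
        (fun u hu => Subtype.ext (hW u u.2 fun v hv => hu ⟨v, hv⟩))
        (fun u v => by
          show Cfsg.hermForm n F q (Matrix.toLin' M u.1) (Matrix.toLin' M v.1) = _
          rw [Matrix.toLin'_apply, Matrix.toLin'_apply, hM]
          rfl)
        hθ (LinearMap.ext fun v => Subtype.ext (by
          rw [hθ2, pow_two]
          have h' := LinearMap.congr_fun hMr v.1
          rw [pow_two] at h'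
          exact h'))
      omega
    by_cases h4 : q % 4 = 3
    · have hv : padicValNat 2 (q + 1) + 1 ≤ padicValNat 2 n := by
        by_contra hv
        exact hcon ⟨by omega, h4⟩
      rw [← padicValNat_dvd_iff_le (by omega : n ≠ 0), pow_succ] at hv
      have hd : 2 ^ padicValNat 2 (q + 1) ∣ n / 2 :=
        Nat.dvd_of_mul_dvd_mul_right two_pos (by rwa [Nat.div_mul_cancel (by omega)])
      obtain ⟨z, hz, hnr, hzk⟩ := exists_nonroot (r := 2) hF hrq hd
      refine key z hz hnr ?_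
      rw [(even_iff_two_dvd.2 ((dvd_pow_self 2 (by omega)).trans hd) : Even (n / 2)).neg_pow, hzk]
    · refine key (-1) hone ?_ (by rw [neg_neg, one_pow])
      rw [root_iff hF hrq hone, (Nat.odd_iff.2 (by omega) : Odd ((q + 1) / 2)).neg_one_pow]
      intro e
      exact h2F (by linear_combination -e)
  · intro hcond M hM hMd hpow _
    rcases root_or_not hF h2 hrq hn hmn hM hpow with h | ⟨z, hz, hnr, hMr⟩
    · exact h
    have hx : IsIso (Cfsg.hermForm n F q) (Matrix.toLin' M) := fun u v => by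
      rw [Matrix.toLin'_apply, Matrix.toLin'_apply]; exact hM u v
    obtain ⟨θ, hθ2, hθ⟩ := exists_sqrt hF h2F hz hnr
    rw [← hθ2] at hMr
    obtain ⟨N, hN, hW⟩ := nonroot_pieces_two hF H h2F hnd hx hθ hMr
    rw [Module.finrank_fin_fun] at hN
    rcases hcond with ho | he | ⟨hv, h4⟩
    · rw [Nat.odd_iff] at ho; omega
    · rw [Nat.even_iff] at he
      rw [show m = m / 2 * 2 by omega]
      exact hW _ (by omega)
    · exfalso
      obtain ⟨N', hN', hdet⟩ := det_two hF H h2F hnd hx hθ hMr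
      rw [Module.finrank_fin_fun] at hN'
      rw [LinearMap.det_toLin', hMd, hθ2] at hdet
      have hz' : (-z) ^ (q + 1) = 1 := by rw [neg_pow, hone, one_mul, hz]
      have hnr' : ¬ ∃ w : F, w ^ (q + 1) = 1 ∧ w ^ 2 = -z := by
        rw [root_iff hF hrq hz', (Nat.even_iff.2 (by omega) : Even ((q + 1) / 2)).neg_pow]
        rwa [root_iff hF hrq hz] at hnr
      have hd := Nat.mul_dvd_mul_right (dvd_of_nonroot hF hrq hz' hnr' hdet.symm) 2
      rw [← pow_succ, ← hN', padicValNat_dvd_iff_le (by omega : n ≠ 0)] at hd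
      omega

end Aux

/-- Elements of prime order of PSU_n(q) with no fixed nondegenerate `m`-space. Here `T = PSU_n(q)` (`n ≥ 3`, `(n, q) ≠ (3, 2)`), realised through the matrices of determinant 1 over the field `F` with `q²` elements preserving the Hermitian form `h(u, v) = Σ u_i v_i^q`; an element of `T` of prime order `r` is such a matrix `x` with `x^r` scalar and `x` not scalar. For `r ≠ p` let `i` be the multiplicative order of `q` modulo `r`, `b = i/2` for `i` even and `b = i` for `i` odd, `c = i, i/2, 2i` according as `i ≡ 0, 2 (mod 4)` or `i` odd, and write `k = n mod c`, `ℓ = m mod b`, `ℓ' = m mod c`, `n' = ⌊n/b⌋`, `m' = ⌊m/b⌋`, `s = (r−1)/b`; `(a)_r` is the `r`-part of `a`. Let `1 ≤ m < n/2` and let `r` be a prime dividing the number of nondegenerate `m`-spaces. Then every element of `T` of order `r` fixes a nondegenerate `m`-space if and only if one of: (i) `r = p > 2` and every partition of `n` into parts of size at most `p` contains (as a sub-multiset)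 a partition of `m`; (ii) `r = p = 2` and (`n` is odd or `m` is even); (iii) `r = 2 ≠ p` and (`n` is odd, or `m` is even, or `(q+1)_2 ≥ (n)_2` and `q ≡ 3 (mod 4)`); (iv) `r ≠ p`, `r > 2`, and either `i ≠ 2`, `c ≤ m` and `k ≥ ℓ'`, or `i = 2` and (`r ∣ m` or `(q+1)_r ≥ (n)_r`). -/
theorem result {F : Type*} [Field F] [Fintype F] {p : ℕ} [Fact p.Prime] [CharP F p] {q : ℕ} (hq : Fintype.card F = q ^ 2)
    (n m : ℕ) (hn : 3 ≤ n) (hT : (n, q) ≠ (3, 2)) (hm : 1 ≤ m) (hmn : 2 * m < n)
    (r : ℕ) [Fact r.Prime]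
    (hrΩ : r ∣ Nat.card {W : Submodule F (Fin n → F) // Module.finrank F ↥W = m ∧ (∀ u ∈ W, u ≠ 0 → ∃ v ∈ W, Cfsg.hermForm n F q u v ≠ 0)})
    (i b c : ℕ) (hi : i = orderOf (q : ZMod r)) (hb : b = if Even i then i / 2 else i)
    (hc : c = if i % 4 = 0 then i else if i % 4 = 2 then i / 2 else 2 * i) :
    (∀ x : Matrix.SpecialLinearGroup (Fin n) F, x ∈ Cfsg.SU n F q →
      (∃ z : F, ((x ^ r : Matrix.SpecialLinearGroup (Fin n) F) : Matrix (Fin n) (Fin n) F) = z • (1 : Matrix (Fin n) (Fin n) F)) →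
      (∀ z : F, (x : Matrix (Fin n) (Fin n) F) ≠ z • (1 : Matrix (Fin n) (Fin n) F)) →
      ∃ W : Submodule F (Fin n → F), Module.finrank F ↥W = m ∧ (∀ u ∈ W, u ≠ 0 → ∃ v ∈ W, Cfsg.hermForm n F q u v ≠ 0) ∧
        W.map (Matrix.toLin' (x : Matrix (Fin n) (Fin n) F)) ≤ W) ↔
    ((r = p ∧ 2 < p ∧ (∀ μ : Multiset ℕ, (∀ a ∈ μ, 0 < a ∧ a ≤ p) → μ.sum = n → ∃ ν : Multiset ℕ, ν ≤ μ ∧ ν.sum = m)) ∨
     (r = p ∧ p = 2 ∧ (Odd n ∨ Even m)) ∨
     (r = 2 ∧ p ≠ 2 ∧ (Odd n ∨ Even m ∨ (padicValNat 2 n ≤ padicValNat 2 (q + 1) ∧ q % 4 = 3))) ∨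
     (r ≠ p ∧ 2 < r ∧ ((i ≠ 2 ∧ c ≤ m ∧ m % c ≤ n % c) ∨ (i = 2 ∧ (r ∣ m ∨ padicValNat r n ≤ padicValNat r (q + 1)))))) := by
  classical
  have hΩ : r ∣ Nat.card {W : Submodule F (Fin n → F) //
      finrank F W = m ∧ NdOn (Cfsg.hermForm n F q) W} := by
    refine hrΩ.trans (dvd_of_eq (Nat.card_congr (Equiv.subtypeEquivRight fun W => and_congr_right fun _ => ?_)))
    refine ⟨fun h u hu hu0 => ?_, fun h u hu hu0 => ?_⟩
    · by_contra hne
      obtain ⟨v, hv, hv'⟩ := h u hu hne
      exact hv' (hu0 v hv)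
    · by_contra hne
      push Not at hne
      exact hu0 (h u hu hne)
  have hL : ∀ x : Module.End F (Fin n → F), (∃ W : Submodule F (Fin n → F), Module.finrank F ↥W = m ∧
      (∀ u ∈ W, u ≠ 0 → ∃ v ∈ W, Cfsg.hermForm n F q u v ≠ 0) ∧ W.map x ≤ W) ↔
        HasNd (Cfsg.hermForm n F q) x m := fun x => exists_congr fun W => and_congr_right fun _ =>
    and_congr_left fun _ => ⟨fun h u hu hu0 => by
      by_contra hne
      obtain ⟨v, hv, hv'⟩ := h u hu hne
      exact hv' (hu0 v hv), fun h u hu hu0 => by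
      by_contra hne
      push Not at hne
      exact hu0 (h u hu hne)⟩
  simp only [hL]
  refine (allFix_iff (fun x => HasNd (Cfsg.hermForm n F q) x m)).trans ?_
  by_cases hrp : r = p
  · subst hrp
    rw [unipotent_iff hq hn hmn]
    rcases (Fact.out : r.Prime).eq_two_or_odd' with h2 | hodd
    · subst h2
      rw [parts_two hmn]
      simp
    · have h2 : 2 < r := by
        have := (Fact.out : r.Prime).two_le
        rw [Nat.odd_iff] at hodd
        omega
      simp [h2, h2.ne']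
  · have hr : (r : F) ≠ 0 := by
      rw [Ne, CharP.cast_eq_zero_iff F p, Nat.prime_dvd_prime_iff_eq Fact.out Fact.out]
      exact Ne.symm hrp
    by_cases h2 : r = 2
    · subst h2
      rw [two_dvd_iff hq hr hn hmn]
      simp [hrp, Ne.symm hrp]
    · have h2' : 2 < r := lt_of_le_of_ne (Fact.out : r.Prime).two_le (Ne.symm h2)
      have hceq : c = negQOrder r q := by
        rw [hc, hi, negQOrder_eq h2' (q_ne_zero hq hr)]
      simp only [hrp, h2, h2', false_and, false_or, ne_eq, not_false_eq_true, true_and]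
      by_cases hi2 : i = 2
      · have hrq : r ∣ q + 1 := (two_iff h2').1 (hi ▸ hi2)
        rw [odd_dvd_iff hq hr h2 hrq hn hmn]
        simp [hi2]
      · have hrq : ¬ r ∣ q + 1 := fun h => hi2 (hi.trans ((two_iff h2').2 h))
        rw [coprime_iff hq hr hrq hmn (exists_nd_index hq hr (by omega) hΩ), ← hceq]
        simp [hi2]

end Cfsg.Agent.S5954
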