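import Cfsg.Statements.S5955
import Cfsg.Agent.EqLemmas
import Cfsg.Agent.Lib.Elusive.SympGeo
import Cfsg.Agent.Lib.Elusive.SympMat

set_option autoImplicit false
open scoped MatrixGroups
open Cfsg

namespace Cfsg.Agent.S5955

open Module
open Cfsg.Agent.Elusive
open Cfsg.Agent.PrimeGraphBC (isoMon)
open Cfsg.Agent.PrimeOrderElt (Inv fix exists_dims dvd_pow_sub_one_iff orderOf_card_pos)
open Cfsg.Agent.GLOrder (sympB sympB_self finrank_sympSpace)

variable {F : Type*} [Field F] [Fintype F]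

/-- Necessity: the witnesses. -/
theorem necessity {r d m : ℕ} [Fact r.Prime] (hr : (r : F) ≠ 0) (hr2 : r ≠ 2) (hmd : m ≤ d) {l : ℕ}
    (hl1 : d - m < l) (hl2 : l ≤ d) (hl : orderOf (Fintype.card F : ZMod r) ∣ 2 * l)
    (H : ∀ x : Matrix.symplecticGroup (Fin d) F, spEnd x ^ r = 1 →
      (∀ z : F, spEnd x ≠ z • (1 : Module.End F (Fin d ⊕ Fin d → F))) → HasInv (sympB d F) (spEnd x) m)
    (i c : ℕ) (hi : i = orderOf (Fintype.card F : ZMod r)) (hc : c = if Even i then i else 2 * i) :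
    i ≤ m ∧ 2 * (m % i) ≤ (2 * d) % c ∧ (Odd i ∨ (r - 1) / i + 2 * (m / i) ≤ (2 * d) / i) := by
  subst hi
  set i := orderOf (Fintype.card F : ZMod r) with hi
  have hipos : 0 < i := orderOf_card_pos hr
  obtain ⟨c', hc'⟩ : ∃ c', 2 * c' = c := by
    rcases Nat.even_or_odd i with he | ho
    · obtain ⟨k, hk⟩ := he
      exact ⟨k, by rw [hc, if_pos ⟨k, hk⟩]; omega⟩
    · exact ⟨i, by rw [hc, if_neg (Nat.not_even_iff_odd.2 ho)]⟩
  have hcpos : 0 < c' := by split_ifs at hc <;> omega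
  have hcl : c ∣ 2 * l := by
    split_ifs at hc with he
    · rw [hc]; exact hl
    · rw [hc]
      exact mul_dvd_mul_left 2 ((Nat.not_even_iff_odd.1 he).coprime_two_right.dvd_of_dvd_mul_left hl)
  have hcl' : c' ∣ l := Nat.dvd_of_mul_dvd_mul_left two_pos (by rwa [hc'])
  have hul : l ≤ d / c' * c' := by
    obtain ⟨a, rfl⟩ := hcl'
    rw [mul_comm c' a]
    exact Nat.mul_le_mul_right _ ((Nat.le_div_iff_mul_le hcpos).2 (by rw [mul_comm]; exact hl2))
  have hmod : (2 * d) % c = 2 * (d % c') := by rw [← hc', Nat.mul_mod_mul_left]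
  have hdd := Nat.div_add_mod d c'
  rw [mul_comm c'] at hdd
  -- all copies equal
  obtain ⟨g, x, hg, hgf, hxr, hxs, hback⟩ := exists_blocks (d := d) hr hr2 (hc'.trans hc)
    (d0 := d % c') (u := d / c') (by omega) (Nat.div_pos ((Nat.le_of_dvd (by omega) hcl').trans hl2) hcpos)
    (fun _ => 1) (fun _ => (Fact.out : r.Prime).not_dvd_one)
  obtain ⟨W, hWd, hW, hWi⟩ := hback m (H x hxr hxs)
  obtain ⟨j, s, -, hjs, hj2⟩ := exists_fix_part (blocks_isom (sympB_isSym _) hg _) hWi hW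
  rw [finrank_blocks_fix hg.pow hgf (fun _ => (Fact.out : r.Prime).not_dvd_one), finrank_sympSpace] at hj2
  rw [hWd, ← hi] at hjs
  have him : i ≤ m := by
    by_contra hlt
    rcases Nat.eq_zero_or_pos s with rfl | hs
    · omega
    · have := Nat.le_mul_of_pos_left i hs
      omega
  have hres : 2 * (m % i) ≤ (2 * d) % c := by
    rw [hmod, hjs, Nat.add_mul_mod_self_right]
    have := Nat.mod_le j i
    omega
  refine ⟨him, hres, ?_⟩
  rcases Nat.even_or_odd i with he | ho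
  swap
  · exact .inl ho
  refine .inr (le_of_not_gt fun hgt => ?_)
  have hci : c = i := by rw [hc, if_pos he]
  have hin : i ≤ 2 * d := by omega
  set u := min ((r - 1) / i) ((2 * d) / i) with hu
  have hupos : 0 < u := lt_min
    (Nat.div_pos (Nat.le_of_dvd (Nat.sub_pos_of_lt (Fact.out : r.Prime).one_lt)
      (orderOf_dvd_of_pow_eq_one (ZMod.pow_card_sub_one_eq_one (PrimeOrderElt.natCast_ne_zero hr)))) hipos)
    (Nat.div_pos hin hipos)
  have hui : u * i ≤ r - 1 :=
    (Nat.mul_le_mul_right _ (min_le_left _ _)).trans (Nat.div_mul_le_self _ _)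
  have hud : u * i ≤ 2 * d :=
    (Nat.mul_le_mul_right _ (min_le_right _ _)).trans (Nat.div_mul_le_self _ _)
  have huc : 2 * (u * c') = u * i := by rw [← hci, ← hc']; ring
  obtain ⟨e, he1, he2⟩ := exists_exponents (F := F) (u := u) hr hui
  obtain ⟨g, x, hg, hgf, hxr, hxs, hback⟩ := exists_blocks (d := d) hr hr2 (hc'.trans hc)
    (d0 := d - u * c') (u := u) (by omega) hupos e he1
  obtain ⟨W, hWd, hW, hWi⟩ := hback m (H x hxr hxs)
  have hfix := no_isotropic_blocks (sympB_isSym _) hg hgf (by rw [finrank_sympSpace, hc', hci, hi])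
    he1 he2 hWi hW
  obtain ⟨j, s, hj, -, hj2⟩ := exists_fix_part (blocks_isom (sympB_isSym _) hg e) hWi hW
  rw [finrank_blocks_fix hg.pow hgf he1, finrank_sympSpace] at hj2
  rw [hj, hWd] at hfix
  have hm1 := Nat.div_mul_le_self m i
  rcases min_choice ((r - 1) / i) ((2 * d) / i) with hmin | hmin
  · rw [← hu] at hmin
    have : (u + 2 * (m / i)) * i ≤ 2 * d := by rw [add_mul, mul_assoc]; omega
    have := (Nat.le_div_iff_mul_le hipos).2 this
    omega
  · rw [← hu] at hmin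
    have h1 := Nat.div_add_mod (2 * d) i
    have h2 := Nat.mod_lt (2 * d) hipos
    rw [← hmin, mul_comm] at h1
    omega

/-- Elements of prime order of PSp_n(q) with no fixed totally isotropic `m`-space. Here `T = PSp_n(q)` with `n = 2d ≥ 4`, `(n, q) ≠ (4, 2)`, realised through the symplectic matrices over the field `F` with `q` elements (preserving the standard alternating form); an element of `T` of prime order `r` is such a matrix `x` with `x^r` scalar and `x` not scalar. For `r ≠ p` let `i` be the multiplicative order of `q` modulo `r`, `c = i` for `i` even and `c = 2i` for `i` odd, and write `k = n mod c`, `ℓ = m mod i`, `ℓ' = m mod c`, `n' = ⌊n/i⌋`, `m' = ⌊m/i⌋`, `t = (r−1)/i`. Let `1 ≤ m ≤ n/2` and let `r` be a prime dividing the number of totally isotropic `m`-spaces. Then every element of `T` of order `r` fixes a totally isotropic `m`-space if and only if either (i) `r = 2 ≠ p` and (`m` is even or `q ≡ 1 (mod 4)`); or (ii) `r ≠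 p`, `r > 2`, `i ≤ m`, `k ≥ 2ℓ`, and (`i` is odd or `n' − 2m' ≥ t`). -/
theorem result {F : Type*} [Field F] [Fintype F] {p : ℕ} [Fact p.Prime] [CharP F p] {q : ℕ} (hq : Fintype.card F = q)
    (d m : ℕ) (hd : 2 ≤ d) (hT : (d, q) ≠ (2, 2)) (hm : 1 ≤ m) (hmd : m ≤ d)
    (r : ℕ) [Fact r.Prime]
    (hrΩ : r ∣ Nat.card {W : Submodule F (Fin d ⊕ Fin d → F) // Module.finrank F ↥W = m ∧ (∀ u ∈ W, ∀ v ∈ W, Cfsg.sympForm d F u v = 0)})
    (i c : ℕ) (hi : i = orderOf (q : ZMod r)) (hc : c = if Even i then i else 2 * i) :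
    (∀ x : ↥(Matrix.symplecticGroup (Fin d) F),
      (∃ z : F, ((x ^ r : ↥(Matrix.symplecticGroup (Fin d) F)) : Matrix (Fin d ⊕ Fin d) (Fin d ⊕ Fin d) F) = z • (1 : Matrix (Fin d ⊕ Fin d) (Fin d ⊕ Fin d) F)) →
      (∀ z : F, (x : Matrix (Fin d ⊕ Fin d) (Fin d ⊕ Fin d) F) ≠ z • (1 : Matrix (Fin d ⊕ Fin d) (Fin d ⊕ Fin d) F)) →
      ∃ W : Submodule F (Fin d ⊕ Fin d → F), Module.finrank F ↥W = m ∧ (∀ u ∈ W, ∀ v ∈ W, Cfsg.sympForm d F u v = 0) ∧
        W.map (Matrix.toLin' (x : Matrix (Fin d ⊕ Fin d) (Fin d ⊕ Fin d) F)) ≤ W) ↔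
    ((r = 2 ∧ p ≠ 2 ∧ (Even m ∨ q % 4 = 1)) ∨
     (r ≠ p ∧ 2 < r ∧ i ≤ m ∧ 2 * (m % i) ≤ (2 * d) % c ∧ (Odd i ∨ (r - 1) / i + 2 * (m / i) ≤ (2 * d) / i))) := by
  classical
  subst hq
  have hiso : ∀ W : Submodule F (Fin d ⊕ Fin d → F),
      (∀ u ∈ W, ∀ v ∈ W, Cfsg.sympForm d F u v = 0) ↔ Iso0 (sympB d F) W :=
    fun W => SympGeom.sympB_isotropic_iff W
  have hLHS : (∀ x : ↥(Matrix.symplecticGroup (Fin d) F),
      (∃ z : F, ((x ^ r : ↥(Matrix.symplecticGroup (Fin d) F)) : Matrix (Fin d ⊕ Fin d) (Fin d ⊕ Fin d) F) = z • (1 : Matrix (Fin d ⊕ Fin d) (Fin d ⊕ Fin d) F)) →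
      (∀ z : F, (x : Matrix (Fin d ⊕ Fin d) (Fin d ⊕ Fin d) F) ≠ z • (1 : Matrix (Fin d ⊕ Fin d) (Fin d ⊕ Fin d) F)) →
      ∃ W : Submodule F (Fin d ⊕ Fin d → F), Module.finrank F ↥W = m ∧ (∀ u ∈ W, ∀ v ∈ W, Cfsg.sympForm d F u v = 0) ∧
        W.map (Matrix.toLin' (x : Matrix (Fin d ⊕ Fin d) (Fin d ⊕ Fin d) F)) ≤ W) ↔
      ∀ x : Matrix.symplecticGroup (Fin d) F,
        (∃ z : F, spEnd x ^ r = z • (1 : Module.End F (Fin d ⊕ Fin d → F))) →
        (∀ z : F, spEnd x ≠ z • (1 : Module.End F (Fin d ⊕ Fin d → F))) → HasInv (sympB d F) (spEnd x) m := by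
    refine forall_congr' fun x => ?_
    simp only [spEnd_pow, ne_eq, spEnd_eq_smul_iff]
    refine imp_congr Iff.rfl (imp_congr Iff.rfl (exists_congr fun W => ?_))
    exact and_congr Iff.rfl (and_congr (hiso W) Iff.rfl)
  rw [hLHS]
  have hcount : Nat.card {W : Submodule F (Fin d ⊕ Fin d → F) // Module.finrank F ↥W = m ∧
      (∀ u ∈ W, ∀ v ∈ W, Cfsg.sympForm d F u v = 0)} = Nat.card (IsoSub F d m) :=
    Nat.card_congr (Equiv.subtypeEquivRight fun W => and_congr Iff.rfl (hiso W))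
  rw [hcount] at hrΩ
  obtain ⟨l, hl1, hl2, hl⟩ := exists_index hmd hrΩ
  have hrp : r ≠ p := by
    intro e
    obtain ⟨n, -, hn⟩ := FiniteField.card F p
    have h1 : r ∣ Fintype.card F ^ (2 * l) := by
      rw [hn, e]; exact (dvd_pow_self p n.ne_zero).trans (dvd_pow_self _ (by omega))
    have h2 := Nat.dvd_sub h1 hl
    rw [Nat.sub_sub_self (Nat.one_le_pow _ _ Fintype.card_pos)] at h2
    exact (Fact.out : r.Prime).not_dvd_one h2
  have hrF : (r : F) ≠ 0 := fun h => hrp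
    ((Nat.prime_dvd_prime_iff_eq (Fact.out : p.Prime) (Fact.out : r.Prime)).1
      ((CharP.cast_eq_zero_iff F p r).1 h)).symm
  have hdim : finrank F (Fin d ⊕ Fin d → F) = 2 * d := finrank_sympSpace
  rcases eq_or_ne r 2 with rfl | hr2
  · have hp2 : p ≠ 2 := hrp.symm
    have h2 : (2 : F) ≠ 0 := by exact_mod_cast hrF
    have hodd : Fintype.card F % 2 = 1 := FiniteField.odd_card_of_char_ne_two
      (by rw [ringChar.eq F p]; exact hp2)
    have hsq := FiniteField.isSquare_neg_one_iff (F := F)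
    have : Nontrivial (Fin d ⊕ Fin d → F) :=
      Module.nontrivial_of_finrank_pos (R := F) (by omega)
    constructor
    · intro H
      refine .inl ⟨rfl, hp2, ?_⟩
      by_contra hcon
      push Not at hcon
      have hns : ∀ s : F, s * s ≠ -1 := fun s hs => hsq.1 ⟨s, hs.symm⟩ (by omega)
      set x : Matrix.symplecticGroup (Fin d) F := SymplecticGroup.symJ (Fin d) F
      have hx : spEnd x * spEnd x = (-1 : F) • (1 : Module.End F (Fin d ⊕ Fin d → F)) := by
        rw [spEnd, ← map_mul, SymplecticGroup.coe_J, Matrix.J_squared, map_neg, map_one]; exact (neg_one_smul F (1 : Module.End F (Fin d ⊕ Fin d → F))).symm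
      obtain ⟨W, hWd, -, hWi⟩ := H x ⟨-1, by rw [pow_two, hx]⟩ fun z hz => by
        rw [hz, smul_mul_smul_comm, one_mul] at hx
        obtain ⟨v, hv⟩ := exists_ne (0 : Fin d ⊕ Fin d → F)
        exact hns z (smul_left_injective F hv (LinearMap.congr_fun hx v))
      exact hcon.1 (hWd ▸ even_of_sq_neg hns (fun v => by
        have := LinearMap.congr_fun hx v
        simpa using this) hWi)
    · rintro (⟨-, -, hcond⟩ | ⟨-, hlt, -⟩)
      swap
      · omega
      rintro x ⟨z, hz⟩ -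
      have hff : ∀ v, spEnd x (spEnd x v) = z • v := fun v => by
        rw [← Module.End.mul_apply, ← pow_two, hz]; rfl
      have hz2 := sq_eq_one_of_scalar (sympB_isSym d) ((isoMon _).pow_mem (spEnd_mem x) 2) hz
      rcases mul_self_eq_one_iff.1 hz2 with rfl | rfl
      · exact hasInv_of_sq_one h2 (sympB_isSym d) (spEnd_mem x) (fun v => by rw [hff, one_smul]) hdim hmd
      · have hff' : ∀ v, spEnd x (spEnd x v) = -v := fun v => by rw [hff, neg_one_smul]
        by_cases hs : ∃ s : F, s * s = -1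
        · obtain ⟨s, hs⟩ := hs
          exact hasInv_of_sq_neg h2 (sympB_isSym d) (spEnd_mem x) hff' hs hdim hmd
        · push Not at hs
          refine hasInv_of_even h2 (sympB_isSym d) (spEnd_mem x) hff' hs hdim hmd (hcond.resolve_right ?_)
          intro h1
          obtain ⟨s, hs'⟩ := hsq.2 (by omega)
          exact hs s hs'.symm
  · have hcl : orderOf (Fintype.card F : ZMod r) ∣ 2 * l := (dvd_pow_sub_one_iff _).1 hl
    have hrodd : Odd r := (Fact.out : r.Prime).odd_of_ne_two hr2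
    have : Nontrivial (Fin d ⊕ Fin d → F) :=
      Module.nontrivial_of_finrank_pos (R := F) (by omega)
    constructor
    · intro H
      exact .inr ⟨hrp, lt_of_le_of_ne (Fact.out : r.Prime).two_le hr2.symm,
        necessity hrF hr2 hmd hl1 hl2 hcl (fun x hx hns => H x ⟨1, by rw [hx, one_smul]⟩ hns) i c hi hc⟩
    · rintro (⟨h, -⟩ | ⟨-, -, -, hk, ht⟩)
      · exact absurd h hr2
      rintro x ⟨z, hz⟩ hns
      obtain ⟨y, hy, -, hyW⟩ := exists_unscale (sympB_isSym d) (spEnd_mem x) hrodd hrF hz hns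
      subst hc hi
      obtain ⟨W, hWd, hW, hWi⟩ := hasInv_of_cond hy sympB_self hr2 hdim hmd hk ht
      exact ⟨W, hWd, hW, hyW W hWi⟩

end Cfsg.Agent.S5955
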