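import Cfsg.Statements.S5956
import Cfsg.Agent.EqLemmas
import Cfsg.Agent.Lib.Elusive.NdWitness
import Cfsg.Agent.Lib.SympInvolution.Matrix

set_option autoImplicit false
open scoped MatrixGroups
open Cfsg

namespace Cfsg.Agent.S5956

open Module Cfsg.Agent.Elusive
open Cfsg.Agent.PrimeGraphBC (IsSymF isoMon)
open Cfsg.Agent.PrimeOrderElt (Inv inv_apply invariant_iff_smul rk map_pow_le finrank_map_pow_sup eq_of_rk orderOf_card_pos dvd_pow_sub_one_iff)
open Cfsg.Agent.GLOrder (sympB sympB_self finrank_sympSpace)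

variable {F : Type*} [Field F] [Fintype F] {d m r : ℕ}

omit [Fintype F] in
theorem ndOn_iff (W : Submodule F (Fin d ⊕ Fin d → F)) :
    (∀ u ∈ W, u ≠ 0 → ∃ v ∈ W, Cfsg.sympForm d F u v ≠ 0) ↔ NdOn (sympB d F) W := by
  constructor
  · intro h x hx hx0
    by_contra hne
    obtain ⟨v, hv, hne'⟩ := h x hx hne
    exact hne' (by rw [← neg_eq_zero, ← GLOrder.sympB_eq_neg_sympForm]; exact hx0 v hv)
  · intro h u hu hne
    by_contra hno
    push Not at hno
    exact hne (h u hu fun v hv => by rw [GLOrder.sympB_eq_neg_sympForm, hno v hv, neg_zero])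

omit [Fintype F] in
/-- Involutions in odd characteristic: invariant hyperbolic planes. -/
theorem hasNd_of_sq (h2 : (2 : F) ≠ 0) (hd : 0 < d) (x : Matrix.symplecticGroup (Fin d) F) {z : F}
    (hz : spEnd x ^ 2 = z • (1 : Module.End F (Fin d ⊕ Fin d → F))) {h : ℕ} (hh : h ≤ d) :
    HasNd (sympB d F) (spEnd x) (2 * h) := by
  classical
  have hz' : ((x ^ 2 : Matrix.symplecticGroup (Fin d) F) : Matrix (Fin d ⊕ Fin d) (Fin d ⊕ Fin d) F) =
      z • (1 : Matrix (Fin d ⊕ Fin d) (Fin d ⊕ Fin d) F) := by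
    rw [← spEnd_eq_smul_iff, ← spEnd_pow, hz]
  obtain ⟨-, -, φ, hspan⟩ := SympInvolution.exists_frame_matrix hd x z hz'
  have hA : (SympInvolution.sympBilin d F).IsAlt := fun v => Linear.sympForm_self v
  have hli := φ.linearIndependent hA
  obtain ⟨hπ, -, -⟩ := φ.shape h2
  have hcard : Fintype.card φ.ι + Fintype.card φ.ι = d + d := by
    have h1 := linearIndependent_iff_card_eq_finrank_span.1 hli
    rw [Set.finrank, hspan, finrank_top, finrank_sympSpace, Fintype.card_sum] at h1
    omega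
  obtain ⟨f⟩ := Function.Embedding.nonempty_of_card_le (show Fintype.card (Fin h) ≤ Fintype.card φ.ι by
    rw [Fintype.card_fin]; omega)
  set W := Submodule.span F (Set.range (Sum.elim φ.e φ.w ∘ Sum.map f f)) with hW
  have hWe : ∀ a, φ.e (f a) ∈ W := fun a => Submodule.subset_span ⟨Sum.inl a, rfl⟩
  have hWw : ∀ a, φ.w (f a) ∈ W := fun a => Submodule.subset_span ⟨Sum.inr a, rfl⟩
  refine ⟨W, ?_, ?_, ?_⟩
  · rw [finrank_span_eq_card (hli.comp _ (Sum.map_injective.2 ⟨f.injective, f.injective⟩))]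
    simp [two_mul]
  · intro u hu hu0
    refine GLOrder.sympB_nondeg u fun v => ?_
    have hv : v ∈ Submodule.span F (Set.range (Sum.elim φ.e φ.w)) := by rw [hspan]; exact Submodule.mem_top
    induction hv using Submodule.span_induction with
    | mem v hv =>
      obtain ⟨s, rfl⟩ := hv
      by_cases hs : ∃ t, Sum.map f f t = s
      · obtain ⟨t, rfl⟩ := hs
        exact hu0 _ (Submodule.subset_span ⟨t, rfl⟩)
      · rw [GLOrder.sympB_eq_neg_sympForm, neg_eq_zero]
        clear hu0
        induction hu using Submodule.span_induction with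
        | mem u hu =>
          obtain ⟨t, rfl⟩ := hu
          rcases t with a | a <;> rcases s with i | i
          · exact φ.ee _ _
          · exact φ.ew _ _ fun e => hs ⟨Sum.inr a, congrArg Sum.inr e⟩
          · exact φ.we hA _ _ fun e => hs ⟨Sum.inl a, congrArg Sum.inl e⟩
          · exact φ.ww _ _
        | zero => exact Linear.sympForm_zero_left _
        | add a b _ _ ha hb => rw [Linear.sympForm_add_left, ha, hb, add_zero]
        | smul c a _ ha => rw [Linear.sympForm_smul_left, ha, mul_zero]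
    | zero => rw [map_zero]
    | add a b _ _ ha hb => rw [map_add, ha, hb, add_zero]
    | smul c a _ ha => rw [map_smul, ha, smul_zero]
  · rintro _ ⟨v, hv, rfl⟩
    induction hv using Submodule.span_induction with
    | mem v hv =>
      have hle : ∀ a, Submodule.span F {φ.e (φ.π (f a)), φ.w (φ.π (f a))} ≤ W := fun a => by
        rw [Submodule.span_le, hπ, Set.insert_subset_iff, Set.singleton_subset_iff]
        exact ⟨hWe a, hWw a⟩
      obtain ⟨t, rfl⟩ := hv
      rcases t with a | a
      · exact hle a (φ.map_e (f a))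
      · exact hle a (φ.map_w (f a))
    | zero => rw [map_zero]; exact W.zero_mem
    | add a b _ _ ha hb => rw [map_add]; exact W.add_mem ha hb
    | smul c a _ ha => rw [map_smul]; exact W.smul_mem c ha

omit [Fintype F] in
/-- The involution with only pairs of blocks of size two. -/
theorem exists_pairs_involution (h2 : (2 : F) = 0) {k : ℕ} (hd : d = 2 * k) (hk : 0 < k) :
    ∃ x : Matrix.symplecticGroup (Fin d) F, spEnd x ^ 2 = 1 ∧
      (∀ z : F, spEnd x ≠ z • (1 : Module.End F (Fin d ⊕ Fin d → F))) ∧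
      ∀ m, HasNd (sympB d F) (spEnd x) m → 4 ∣ m := by
  classical
  let σ : Equiv.Perm (Fin d) := Function.Involutive.toPerm
    (fun i => ⟨if (i : ℕ) % 2 = 0 then (i : ℕ) + 1 else (i : ℕ) - 1, by split_ifs <;> omega⟩) (fun i => by
      apply Fin.ext
      show (if (if (i : ℕ) % 2 = 0 then (i : ℕ) + 1 else (i : ℕ) - 1) % 2 = 0
          then (if (i : ℕ) % 2 = 0 then (i : ℕ) + 1 else (i : ℕ) - 1) + 1
          else (if (i : ℕ) % 2 = 0 then (i : ℕ) + 1 else (i : ℕ) - 1) - 1) = (i : ℕ)
      split_ifs <;> omega)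
  have hσv : ∀ i, (σ i : ℕ) = if (i : ℕ) % 2 = 0 then (i : ℕ) + 1 else (i : ℕ) - 1 := fun i => rfl
  have hσσ : ∀ i, σ (σ i) = i := fun i => by
    apply Fin.ext
    have h1 := hσv (σ i)
    have h0 := hσv i
    split_ifs at h0 h1 <;> omega
  set S : Module.End F (Fin d ⊕ Fin d → F) := LinearMap.funLeft F F (Sum.map σ σ) with hS
  have hSv : ∀ v s, S v s = v (Sum.map σ σ s) := fun v s => rfl
  have hmem : LinearMap.toMatrix' S ∈ Matrix.symplecticGroup (Fin d) F :=
    (GLOrder.mem_symplecticGroup_iff_preserves _).2 fun u v => by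
      rw [LinearMap.toMatrix'_mulVec, LinearMap.toMatrix'_mulVec, GLOrder.sympB_apply, GLOrder.sympB_apply]
      exact Fintype.sum_equiv σ _ _ fun i => rfl
  set x : Matrix.symplecticGroup (Fin d) F := ⟨_, hmem⟩
  have hx : spEnd x = S := LinearMap.ext fun v => LinearMap.toMatrix'_mulVec S v
  have hneg : ∀ a : F, -a = a := fun a => by linear_combination (-a) * h2
  have hSS : ∀ v, S (S v) = v := fun v => funext fun s => by
    rw [hSv, hSv]; rcases s with i | i <;> simp [hσσ]
  have hN : Skew (sympB d F) (S - 1) := fun u v => by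
    have h1 : sympB d F (S u) v = sympB d F u (S v) := by
      conv_rhs => rw [← hSS u]
      rw [← hx]; exact (spEnd_mem x _ _).symm
    simp only [LinearMap.sub_apply, Module.End.one_apply, map_sub, h1, hneg]
  have hNv : ∀ v s, (S - 1) v s = v (Sum.map σ σ s) + v s := fun v s => by
    rw [LinearMap.sub_apply, Module.End.one_apply, Pi.sub_apply, hSv, sub_eq_add_neg, hneg]
  refine ⟨x, ?_, fun z hz => ?_, fun m hm => ?_⟩
  · rw [hx]; exact LinearMap.ext fun v => by rw [pow_two, Module.End.mul_apply, hSS, Module.End.one_apply]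
  · have h1 := congrFun (LinearMap.congr_fun hz (Pi.single (Sum.inl ⟨0, by omega⟩) 1)) (Sum.inl ⟨1, by omega⟩)
    rw [hx, hSv, show Sum.map σ σ (Sum.inl ⟨1, by omega⟩) = Sum.inl ⟨0, by omega⟩ from
      congrArg Sum.inl (Fin.ext rfl)] at h1
    simp at h1
  · obtain ⟨W, rfl, hW, hWi⟩ := hm
    refine four_dvd (N := S - 1) sympB_self (sympB_isSym d) hN (fun v hv => ?_) (fun v => ?_) (fun v => ?_) W ?_ hW
    · refine ⟨Sum.elim (fun i => if (i : ℕ) % 2 = 0 then v (Sum.inl i) else 0)
        (fun i => if (i : ℕ) % 2 = 0 then v (Sum.inr i) else 0), funext fun s => ?_⟩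
      have h1 : v (Sum.map σ σ s) = v s := by
        have h := congrFun hv s
        rw [hNv, Pi.zero_apply] at h
        linear_combination h - (v s) * h2
      rw [hNv]
      rcases s with i | i <;> simp only [Sum.map_inl, Sum.map_inr, Sum.elim_inl, Sum.elim_inr] at h1 ⊢ <;>
        · have hp := hσv i
          rw [h1]
          by_cases hi : (i : ℕ) % 2 = 0
          · rw [if_pos hi] at hp
            rw [if_pos hi, if_neg (by omega), zero_add]
          · rw [if_neg hi] at hp
            rw [if_neg hi, if_pos (by omega), add_zero]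
    · rw [LinearMap.sub_apply, Module.End.one_apply, map_sub, LinearMap.sub_apply, sympB_self, sub_zero,
        GLOrder.sympB_apply]
      rw [Finset.sum_sub_distrib, sub_eq_zero]
      exact Fintype.sum_equiv σ _ _ fun i => by simp [hSv, hσσ, mul_comm]
    · rw [pow_two, Module.End.mul_apply]
      funext s
      rw [hNv, hNv, hNv, Pi.zero_apply, show Sum.map σ σ (Sum.map σ σ s) = s by rcases s with i | i <;> simp [hσσ]]
      linear_combination (v s + v (Sum.map σ σ s)) * h2
    · rintro _ ⟨v, hv, rfl⟩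
      rw [LinearMap.sub_apply, Module.End.one_apply]
      exact W.sub_mem (hx ▸ inv_apply hWi hv) hv

omit [Fintype F] in
/-- Involutions in characteristic two. -/
theorem hasNd_of_char_two (h2 : (2 : F) = 0) (x : Matrix.symplecticGroup (Fin d) F)
    (hx : spEnd x ^ 2 = 1) {h : ℕ} (hh : h ≤ d) (hpar : Even h ∨ Odd d) :
    HasNd (sympB d F) (spEnd x) (2 * h) := by
  have hneg : ∀ a : F, -a = a := fun a => by linear_combination (-a) * h2
  have hxx : ∀ v, spEnd x (spEnd x v) = v := fun v => by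
    rw [← Module.End.mul_apply, ← pow_two, hx, Module.End.one_apply]
  have hN : Skew (sympB d F) (spEnd x - 1) := fun u v => by
    have h1 : sympB d F (spEnd x u) v = sympB d F u (spEnd x v) := by
      conv_rhs => rw [← hxx u]
      exact (spEnd_mem x _ _).symm
    simp only [LinearMap.sub_apply, Module.End.one_apply, map_sub, h1, hneg]
  obtain ⟨W, -, hWi, hW, hWd⟩ := exists_nd_half sympB_self (sympB_isSym d) hN d ⊤ le_top
    (fun u _ hu => (sympB_isSym d).nd u fun v => hu v trivial) (fun v _ => by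
      rw [pow_two, Module.End.mul_apply]
      simp only [LinearMap.sub_apply, Module.End.one_apply, map_sub, hxx]
      funext s
      simp only [Pi.sub_apply, Pi.zero_apply]
      linear_combination (v s - spEnd x v s) * h2)
    (by rw [finrank_top, finrank_sympSpace]) h hh hpar
  refine ⟨W, hWd, hW, ?_⟩
  rintro _ ⟨v, hv, rfl⟩
  have h1 : (spEnd x - 1) v ∈ W := inv_apply hWi hv
  rw [LinearMap.sub_apply, Module.End.one_apply] at h1
  simpa using W.add_mem h1 hv

/-- Elements of prime order of PSp_n(q) with no fixed nondegenerate `m`-space. Here `T = PSp_n(q)` with `n = 2d ≥ 4`, `(n, q) ≠ (4, 2)`, realised through the symplectic matrices over the field `F` with `q` elements (preserving the standard alternating form); an element of `T` of prime order `r` is such a matrix `x` with `x^r` scalar and `x` not scalar. For `r ≠ p` let `i` be the multiplicative order of `q` modulo `r`, `c = i` for `i` even and `c = 2i` for `i` odd, and write `k = n mod c`, `ℓ = m mod i`, `ℓ' = m mod c`,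 `n' = ⌊n/i⌋`, `m' = ⌊m/i⌋`, `t = (r−1)/i`. Let `m` be even with `2 ≤ m < n/2` and let `r` be a prime dividing the number of nondegenerate `m`-spaces. Then every element of `T` of order `r` fixes a nondegenerate `m`-space if and only if one of: (i) `r = p > 2` and every partition of `n` into parts of size at most `p` in which every odd part has even multiplicity contains (as a sub-multiset) a partition of `m` in which every odd part has even multiplicity; (ii) `r = p = 2` and (`n ≡ 2 (mod 4)` or `m ≡ 0 (mod 4)`); (iii) `r = 2 ≠ p`; (iv) `r ≠ p`, `r > 2`, `c ≤ m` and `k ≥ ℓ'`. -/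
theorem result {F : Type*} [Field F] [Fintype F] {p : ℕ} [Fact p.Prime] [CharP F p] {q : ℕ} (hq : Fintype.card F = q)
    (d m : ℕ) (hd : 2 ≤ d) (hT : (d, q) ≠ (2, 2)) (hm : 2 ≤ m) (hme : Even m) (hmd : m < d)
    (r : ℕ) [Fact r.Prime]
    (hrΩ : r ∣ Nat.card {W : Submodule F (Fin d ⊕ Fin d → F) // Module.finrank F ↥W = m ∧ (∀ u ∈ W, u ≠ 0 → ∃ v ∈ W, Cfsg.sympForm d F u v ≠ 0)})
    (i c : ℕ) (hi : i = orderOf (q : ZMod r)) (hc : c = if Even i then i else 2 * i) :
    (∀ x : ↥(Matrix.symplecticGroup (Fin d) F),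
      (∃ z : F, ((x ^ r : ↥(Matrix.symplecticGroup (Fin d) F)) : Matrix (Fin d ⊕ Fin d) (Fin d ⊕ Fin d) F) = z • (1 : Matrix (Fin d ⊕ Fin d) (Fin d ⊕ Fin d) F)) →
      (∀ z : F, (x : Matrix (Fin d ⊕ Fin d) (Fin d ⊕ Fin d) F) ≠ z • (1 : Matrix (Fin d ⊕ Fin d) (Fin d ⊕ Fin d) F)) →
      ∃ W : Submodule F (Fin d ⊕ Fin d → F), Module.finrank F ↥W = m ∧ (∀ u ∈ W, u ≠ 0 → ∃ v ∈ W, Cfsg.sympForm d F u v ≠ 0) ∧
        W.map (Matrix.toLin' (x : Matrix (Fin d ⊕ Fin d) (Fin d ⊕ Fin d) F)) ≤ W) ↔
    ((r = p ∧ 2 < p ∧ (∀ μ : Multiset ℕ, (∀ a ∈ μ, 0 < a ∧ a ≤ p) → (∀ a : ℕ, Odd a → Even (μ.count a)) → μ.sum = 2 * d →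
        ∃ ν : Multiset ℕ, ν ≤ μ ∧ ν.sum = m ∧ ∀ a : ℕ, Odd a → Even (ν.count a))) ∨
     (r = p ∧ p = 2 ∧ ((2 * d) % 4 = 2 ∨ m % 4 = 0)) ∨
     (r = 2 ∧ p ≠ 2) ∨
     (r ≠ p ∧ 2 < r ∧ c ≤ m ∧ m % c ≤ (2 * d) % c)) := by
  classical
  subst hq
  have hn : Nontrivial (Fin d ⊕ Fin d → F) :=
    Module.nontrivial_of_finrank_pos (R := F) (by rw [finrank_sympSpace]; omega)
  obtain ⟨h, hh⟩ := hme
  have hLHS : (∀ x : ↥(Matrix.symplecticGroup (Fin d) F),
      (∃ z : F, ((x ^ r : ↥(Matrix.symplecticGroup (Fin d) F)) : Matrix (Fin d ⊕ Fin d) (Fin d ⊕ Fin d) F) = z • (1 : Matrix (Fin d ⊕ Fin d) (Fin d ⊕ Fin d) F)) →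
      (∀ z : F, (x : Matrix (Fin d ⊕ Fin d) (Fin d ⊕ Fin d) F) ≠ z • (1 : Matrix (Fin d ⊕ Fin d) (Fin d ⊕ Fin d) F)) →
      ∃ W : Submodule F (Fin d ⊕ Fin d → F), Module.finrank F ↥W = m ∧ (∀ u ∈ W, u ≠ 0 → ∃ v ∈ W, Cfsg.sympForm d F u v ≠ 0) ∧
        W.map (Matrix.toLin' (x : Matrix (Fin d ⊕ Fin d) (Fin d ⊕ Fin d) F)) ≤ W) ↔
      ∀ x : Matrix.symplecticGroup (Fin d) F,
        (∃ z : F, spEnd x ^ r = z • (1 : Module.End F (Fin d ⊕ Fin d → F))) →
        (∀ z : F, spEnd x ≠ z • (1 : Module.End F (Fin d ⊕ Fin d → F))) → HasNd (sympB d F) (spEnd x) m := by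
    refine forall_congr' fun x => ?_
    simp only [spEnd_pow, ne_eq, spEnd_eq_smul_iff]
    refine imp_congr Iff.rfl (imp_congr Iff.rfl (exists_congr fun W => ?_))
    exact and_congr Iff.rfl (and_congr (ndOn_iff W) Iff.rfl)
  rw [hLHS]
  have hcount : Nat.card {W : Submodule F (Fin d ⊕ Fin d → F) // Module.finrank F ↥W = m ∧
      (∀ u ∈ W, u ≠ 0 → ∃ v ∈ W, Cfsg.sympForm d F u v ≠ 0)} =
      Nat.card {W : Submodule F (Fin d ⊕ Fin d → F) // finrank F W = 2 * h ∧ NdOn (sympB d F) W} :=
    Nat.card_congr (Equiv.subtypeEquivRight fun W => and_congr (by rw [hh, two_mul]) (ndOn_iff W))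
  rw [hcount] at hrΩ
  by_cases hrp : r = p
  · subst hrp
    by_cases hp2 : r = 2
    · subst hp2
      have h2 : (2 : F) = 0 := by exact_mod_cast CharP.cast_eq_zero F 2
      constructor
      · intro H
        refine .inr (.inl ⟨rfl, rfl, ?_⟩)
        by_contra hcon
        push Not at hcon
        obtain ⟨k, hk⟩ : ∃ k, d = 2 * k := ⟨d / 2, by omega⟩
        obtain ⟨x, hx, hxs, hx4⟩ := exists_pairs_involution h2 hk (by omega)
        have := hx4 m (H x ⟨1, by rw [hx, one_smul]⟩ hxs)
        omega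
      · rintro (⟨-, h', -⟩ | ⟨-, -, hcond⟩ | ⟨-, h'⟩ | ⟨h', -⟩)
        · omega
        · rintro x ⟨z, hz⟩ -
          have hz1 := sq_eq_one_of_scalar (sympB_isSym d) ((isoMon _).pow_mem (spEnd_mem x) 2) hz
          have hz2 : z = 1 := by
            have : (z - 1) * (z - 1) = 0 := by linear_combination hz1 - (z - 1) * h2
            exact sub_eq_zero.1 (mul_self_eq_zero.1 this)
          rw [hz2, one_smul] at hz
          rw [show m = 2 * h by omega]
          exact hasNd_of_char_two h2 x hz (by omega) (by rw [Nat.even_iff, Nat.odd_iff]; omega)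
        · exact absurd rfl h'
        · exact absurd rfl h'
    have h2 : (2 : F) ≠ 0 := Ring.two_ne_zero (by rw [ringChar.eq F r]; exact hp2)
    have hodd : Odd r := (Fact.out : r.Prime).odd_of_ne_two hp2
    have hsym := sympB_isSym (F := F) d
    constructor
    · intro H
      refine .inl ⟨rfl, lt_of_le_of_ne (Fact.out : r.Prime).two_le (Ne.symm hp2), fun μ hμ hadm hsum => ?_⟩
      obtain ⟨d', hd', hK⟩ := exists_skew_model (F := F) h2 (p := r) (2 * d) μ hsum hμ hadm
      obtain rfl : d' = d := by omega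
      obtain ⟨K, hKs, hKp, hrk⟩ := hK
      obtain ⟨y, hy, hyp, hy1, hyW⟩ := cayley_of_skew h2 hKs hKp
      obtain ⟨x, hx1, hx2, hx3⟩ := exists_sp_nd sympB_self hsym.nd finrank_sympSpace hy
      by_cases hys : ∀ z : F, spEnd x ≠ z • (1 : Module.End F (Fin d' ⊕ Fin d' → F))
      · obtain ⟨W, hWd, hW, hWi⟩ := hx3 m (H x ⟨1, hx1 r 1 (by rw [hyp, one_smul])⟩ hys)
        have hKi : Inv K W := hyW W hWi
        have hW'i : Inv K (orth (sympB d' F) W) := hKs.inv_orth hKi
        have hinf := hW.disjoint hsym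
        have hsup := hW.sup_orth hsym
        have hW' : NdOn (sympB d' F) (orth (sympB d' F) W) := by
          intro u hu hu0
          refine hsym.nd u fun v => ?_
          have hv : v ∈ W ⊔ orth (sympB d' F) W := by rw [hsup]; trivial
          obtain ⟨a, ha, b, hb, rfl⟩ := Submodule.mem_sup.1 hv
          rw [map_add, hu0 b hb, symm_zero hsym (hu a ha), add_zero]
        obtain ⟨μ₁, hμ₁, hadm₁, hsum₁, hrk₁, -⟩ := exists_decomp h2 sympB_self hsym hKs W hKi hW (p := r)
          (fun v _ => by rw [hKp]; rfl)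
        obtain ⟨μ₂, hμ₂, -, -, hrk₂, -⟩ := exists_decomp h2 sympB_self hsym hKs _ hW'i hW' (p := r)
          (fun v _ => by rw [hKp]; rfl)
        have heq : μ = μ₁ + μ₂ := eq_of_rk (fun a ha => (hμ a ha).1)
          (fun a ha => (Multiset.mem_add.1 ha).elim (fun h => (hμ₁ a h).1) fun h => (hμ₂ a h).1) fun j => by
            rw [PrimeOrderElt.rk_add, ← hrk, ← hrk₁, ← hrk₂, ← finrank_map_pow_sup hKi hW'i hinf, hsup,
              PrimeOrderElt.map_top_pow]
        exact ⟨μ₁, heq ▸ Multiset.le_add_right _ _, hsum₁.trans hWd, hadm₁⟩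
      · push Not at hys
        obtain ⟨z, hz⟩ := hys
        have hyz := hx2 z hz
        have hz2 := sq_eq_one_of_scalar hsym hy hyz
        have hz1 : z = 1 := by
          rcases mul_self_eq_one_iff.1 hz2 with e | e
          · exact e
          · exfalso
            rw [hyz, e, _root_.smul_pow, one_pow, hodd.neg_one_pow] at hyp
            obtain ⟨v, hv⟩ := exists_ne (0 : Fin d' ⊕ Fin d' → F)
            have h3 := LinearMap.congr_fun hyp v
            rw [LinearMap.smul_apply, Module.End.one_apply] at h3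
            have h4 : (2 : F) • v = 0 := by rw [two_smul]; nth_rw 1 [← h3]; rw [neg_one_smul, neg_add_cancel]
            exact hv ((smul_eq_zero.1 h4).resolve_left h2)
        have hK0 := hy1 (by rw [hyz, hz1, one_smul])
        have hall : ∀ a ∈ μ, a = 1 := fun a ha => by
          have h1 := hrk 1
          rw [hK0, pow_one, LinearMap.range_zero, finrank_bot] at h1
          have := Multiset.single_le_sum (fun _ _ => Nat.zero_le _) _ (Multiset.mem_map_of_mem (fun b => b - 1) ha)
          rw [show (μ.map fun b => b - 1).sum = 0 from h1.symm] at this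
          have := (hμ a ha).1
          omega
        refine ⟨Multiset.replicate m 1, ?_, by simp, fun a _ => by
          rw [Multiset.count_replicate]; split_ifs
          · exact ⟨h, hh⟩
          · exact Even.zero⟩
        have hμ1 := Multiset.eq_replicate_card.2 hall
        rw [hμ1, Multiset.sum_replicate, smul_eq_mul, mul_one] at hsum
        rw [hμ1, hsum]
        exact Multiset.replicate_le_replicate 1 |>.2 (by omega)
    · rintro (⟨-, -, hcond⟩ | ⟨-, h', -⟩ | ⟨h', -⟩ | ⟨h', -⟩)
      · rintro x ⟨z, hz⟩ -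
        have hz1 := sq_eq_one_of_scalar hsym ((isoMon _).pow_mem (spEnd_mem x) r) hz
        obtain ⟨k, hk⟩ := hodd
        have hyp : (z • spEnd x) ^ r = 1 := by
          rw [_root_.smul_pow, hz, smul_smul, hk, pow_succ, mul_assoc, pow_mul, pow_two, hz1, one_pow, one_mul,
            one_smul]
        obtain ⟨K, hKs, hKp, hKW⟩ := cayley_of_unipotent (p := r) h2 (B := sympB d F) (y := z • spEnd x)
          (fun u v => by
            simp only [LinearMap.smul_apply, map_smul, smul_eq_mul]
            rw [← mul_assoc, hz1, one_mul, spEnd_mem x u v]) hyp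
        obtain ⟨μ, hμ, hadm, hsum, -, hsub⟩ := exists_decomp h2 sympB_self hsym hKs ⊤ le_top
          (fun u _ hu => hsym.nd u fun v => hu v trivial) (p := r) (fun v _ => by rw [hKp]; rfl)
        rw [finrank_top, finrank_sympSpace] at hsum
        obtain ⟨ν, hν, hνs, hνa⟩ := hcond μ hμ hadm hsum
        obtain ⟨W, -, hWi, hW, hWd⟩ := hsub ν hν hνa
        exact ⟨W, hWd.trans hνs, hW,
          (invariant_iff_smul (spEnd x) (fun e => zero_ne_one (α := F) (by rw [← hz1, e, zero_mul])) W).1 (hKW W hWi)⟩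
      · exact absurd h' hp2
      · exact absurd h' hp2
      · exact absurd rfl h'
  have hrF : (r : F) ≠ 0 := PrimeOrderElt.natCast_ne_zero_of_ne (p := p) hrp
  by_cases hr2 : r = 2
  · subst hr2
    refine iff_of_true ?_ (.inr (.inr (.inl ⟨rfl, Ne.symm hrp⟩)))
    rintro x ⟨z, hz⟩ -
    rw [show m = 2 * h by omega]
    exact hasNd_of_sq (by exact_mod_cast hrF) (by omega) x hz (by omega)
  subst hi
  have hcpos : 0 < c := by
    have := orderOf_card_pos hrF
    split_ifs at hc <;> omega
  have hrq : ¬ r ∣ Fintype.card F := by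
    obtain ⟨e, hp, he⟩ := FiniteField.card F p
    rw [he]
    intro h
    exact hrp ((Nat.prime_dvd_prime_iff_eq Fact.out hp).1 ((Fact.out : r.Prime).dvd_of_dvd_pow h))
  obtain ⟨l, hl1, hl2, hl⟩ := exists_ndSub_index hrq (show h ≤ d by omega) hrΩ
  have hcl : c ∣ 2 * l := by
    have hl' := (dvd_pow_sub_one_iff (r := r) (F := F) _).1 hl
    split_ifs at hc with he
    · rw [hc]; exact hl'
    · rw [hc]
      exact mul_dvd_mul_left 2 ((Nat.not_even_iff_odd.1 he).coprime_two_right.dvd_of_dvd_mul_left hl')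
  have hkm : (2 * d) % c < m := by
    obtain ⟨a, ha⟩ := hcl
    have : (2 * d) % c = (2 * d - 2 * l) % c := by
      conv_lhs => rw [show 2 * d = (2 * d - 2 * l) + a * c by rw [mul_comm a, ← ha]; omega]
      rw [Nat.add_mul_mod_self_right]
    rw [this]
    exact (Nat.mod_le _ _).trans_lt (by omega)
  constructor
  · intro H
    obtain ⟨x, hx, hxs, hxm⟩ := exists_nd_witness (d := d) hrF hr2 hc
      ((Nat.le_of_dvd (by omega) hcl).trans (by omega))
    have hle := hxm m (H x ⟨1, by rw [hx, one_smul]⟩ hxs)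
    refine .inr (.inr (.inr ⟨hrp, lt_of_le_of_ne (Fact.out : r.Prime).two_le (Ne.symm hr2), ?_, hle⟩))
    by_contra hlt
    rw [Nat.mod_eq_of_lt (Nat.lt_of_not_le hlt)] at hle
    omega
  · rintro (⟨h', -⟩ | ⟨h', -⟩ | ⟨h', -⟩ | ⟨-, -, -, hk⟩)
    · exact absurd h' hrp
    · exact absurd h' hrp
    · exact absurd h' hr2
    rintro x ⟨z, hz⟩ hns
    obtain ⟨y, hy, -, hyW⟩ := exists_unscale (sympB_isSym d) (spEnd_mem x)
      ((Fact.out : r.Prime).odd_of_ne_two hr2) hrF hz hns
    obtain ⟨W, hWd, hW, hWi⟩ := hasNd_of_cond hy hr2 sympB_self hc finrank_sympSpace ⟨h, hh⟩ (by omega) hk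
    exact ⟨W, hWd, hW, hyW W hWi⟩

end Cfsg.Agent.S5956
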