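import Cfsg.Statements.S5957
import Cfsg.Agent.EqLemmas

set_option autoImplicit false
set_option linter.unusedSimpArgs false
open scoped MatrixGroups
open Cfsg

namespace Cfsg.Agent.S5957

/-! ### Distributing the points of an involution into blocks -/

/-- A placement of `s` two-cycles and `r` fixed points into `t` blocks of size `a`, compatible with a permutation
of the blocks. -/
def HasLayout (a t s r : ℕ) : Prop :=
  ∃ (u v : Fin s → Fin t) (f : Fin r → Fin t) (σ : Equiv.Perm (Fin t)),
    (∀ i, σ (u i) = v i) ∧ (∀ i, σ (v i) = u i) ∧ (∀ i, σ (f i) = f i) ∧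
    ∀ j, (∑ i, if u i = j then 1 else 0) + (∑ i, if v i = j then 1 else 0) + (∑ i, if f i = j then 1 else 0) = a

theorem HasLayout.add {a t₁ s₁ r₁ t₂ s₂ r₂ : ℕ} (h₁ : HasLayout a t₁ s₁ r₁) (h₂ : HasLayout a t₂ s₂ r₂) :
    HasLayout a (t₁ + t₂) (s₁ + s₂) (r₁ + r₂) := by
  obtain ⟨u₁, v₁, f₁, σ₁, a1, b1, c1, d1⟩ := h₁
  obtain ⟨u₂, v₂, f₂, σ₂, a2, b2, c2, d2⟩ := h₂
  refine ⟨Fin.append (Fin.castAdd t₂ ∘ u₁) (Fin.natAdd t₁ ∘ u₂), Fin.append (Fin.castAdd t₂ ∘ v₁) (Fin.natAdd t₁ ∘ v₂),
    Fin.append (Fin.castAdd t₂ ∘ f₁) (Fin.natAdd t₁ ∘ f₂),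
    (finSumFinEquiv.symm.trans (Equiv.sumCongr σ₁ σ₂)).trans finSumFinEquiv, ?_, ?_, ?_, ?_⟩
  · intro i; refine Fin.addCases (fun i => ?_) (fun i => ?_) i <;> simp [a1, a2]
  · intro i; refine Fin.addCases (fun i => ?_) (fun i => ?_) i <;> simp [b1, b2]
  · intro i; refine Fin.addCases (fun i => ?_) (fun i => ?_) i <;> simp [c1, c2]
  · intro j
    refine Fin.addCases (fun j => ?_) (fun j => ?_) j
    · simp only [Fin.sum_univ_add, Fin.append_left, Fin.append_right, Function.comp_apply]
      simp [Fin.castAdd_inj, Fin.ext_iff]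
      have hz : ∀ (k : Fin t₂), ¬ t₁ + (k : ℕ) = j := fun k => by have := j.2; omega
      simpa [hz, Fin.ext_iff] using d1 j
    · simp only [Fin.sum_univ_add, Fin.append_left, Fin.append_right, Function.comp_apply]
      simp [Fin.ext_iff]
      have hz : ∀ (k : Fin t₁), ¬ (k : ℕ) = t₁ + j := fun k => by have := k.2; omega
      simpa [hz, Fin.ext_iff] using d2 j

theorem hasLayout_one (a s r : ℕ) (h : 2 * s + r = a) : HasLayout a 1 s r := by
  refine ⟨fun _ => 0, fun _ => 0, fun _ => 0, 1, ?_, ?_, ?_, ?_⟩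
  · intro; rfl
  · intro; rfl
  · intro; rfl
  · intro j
    simp [Subsingleton.elim (0 : Fin 1) j]
    omega

theorem hasLayout_two (a : ℕ) : HasLayout a 2 a 0 := by
  refine ⟨fun _ => 0, fun _ => 1, Fin.elim0, Equiv.swap 0 1, ?_, ?_, ?_, ?_⟩
  · intro; simp
  · intro; simp
  · intro i; exact i.elim0
  · intro j
    fin_cases j <;> simp

/-- Every involution of a set of `t * a` points can be made to permute `t` blocks of size `a`. -/
theorem hasLayout_of_eq (a : ℕ) : ∀ t s r : ℕ, 2 * s + r = t * a → HasLayout a t s r := by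
  intro t
  induction t using Nat.strong_induction_on with
  | _ t ih =>
    intro s r h
    rcases Nat.lt_or_ge t 2 with ht | ht
    · interval_cases t
      · obtain ⟨rfl, rfl⟩ : s = 0 ∧ r = 0 := by omega
        exact ⟨Fin.elim0, Fin.elim0, Fin.elim0, 1, fun i => i.elim0, fun i => i.elim0, fun i => i.elim0,
          fun j => j.elim0⟩
      · exact hasLayout_one a s r (by omega)
    · obtain ⟨k, rfl⟩ : ∃ k, t = 2 + k := ⟨t - 2, by omega⟩
      have hk : (2 + k) * a = 2 * a + k * a := Nat.add_mul _ _ _
      by_cases hs : a ≤ s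
      · obtain ⟨s', rfl⟩ := Nat.exists_eq_add_of_le hs
        have := (hasLayout_two a).add (ih k (by omega) s' r (by omega))
        rwa [Nat.zero_add] at this
      · have h1 : ∃ s₁ s₂ r₁ r₂, s₁ + s₂ = s ∧ r₁ + r₂ = r ∧ 2 * s₁ + r₁ = a ∧ 2 * s₂ + r₂ = (1 + k) * a := by
          refine ⟨min s (a / 2), s - min s (a / 2), a - 2 * min s (a / 2), r - (a - 2 * min s (a / 2)), ?_⟩
          rw [Nat.add_mul 1 k a, Nat.one_mul]
          omega
        obtain ⟨s₁, s₂, r₁, r₂, rfl, rfl, e1, e2⟩ := h1
        have := (hasLayout_one a s₁ r₁ e1).add (ih (1 + k) (by omega) s₂ r₂ e2)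
        rwa [← Nat.add_assoc] at this

/-! ### A monomial basis for an endomorphism with scalar square -/

theorem exists_monomial_basis {F V : Type*} [Field F] [AddCommGroup V] [Module F V] [FiniteDimensional F V]
    (g : V →ₗ[F] V) (z : F) (hz : z ≠ 0) (hg : ∀ v, g (g v) = z • v) :
    ∃ (s r : ℕ) (b : Module.Basis ((Fin s ⊕ Fin s) ⊕ Fin r) F V),
      (∀ i, g (b (.inl (.inl i))) = b (.inl (.inr i))) ∧
      (∀ i, g (b (.inl (.inr i))) = z • b (.inl (.inl i))) ∧
      (∀ i, ∃ c : F, g (b (.inr i)) = c • b (.inr i)) := by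
  classical
  let P : ℕ → Prop := fun s => ∃ v : Fin s → V, LinearIndependent F (Sum.elim v (g ∘ v))
  have hP0 : P 0 := ⟨Fin.elim0, linearIndependent_empty_type⟩
  have hbd : ∀ s, P s → s ≤ Module.finrank F V := by
    rintro s ⟨v, hv⟩
    have := hv.fintype_card_le_finrank
    simp at this; omega
  obtain ⟨s, ⟨v, hv⟩, hmax⟩ : ∃ s, P s ∧ ¬ P (s + 1) := by
    by_contra h
    push Not at h
    have : ∀ s, P s := fun s => by induction s with | zero => exact hP0 | succ s ih => exact h s ih
    have := hbd _ (this (Module.finrank F V + 1)); omega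
  set W := Submodule.span F (Set.range (Sum.elim v (g ∘ v))) with hW
  have hrepr : ∀ u ∈ W, ∃ α β : Fin s → F, u = ∑ i, α i • v i + ∑ i, β i • g (v i) := by
    intro u hu
    obtain ⟨c, hc⟩ := (Submodule.mem_span_range_iff_exists_fun F).mp hu
    exact ⟨fun i => c (.inl i), fun i => c (.inr i), by simpa [Fintype.sum_sum_type] using hc.symm⟩
  have hWg : ∀ u ∈ W, g u ∈ W := by
    intro u hu
    induction hu using Submodule.span_induction with
    | mem x hx =>
      obtain ⟨(i | i), rfl⟩ := hx
      · exact Submodule.subset_span ⟨.inr i, rfl⟩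
      · show g (g (v i)) ∈ W
        rw [hg]; exact Submodule.smul_mem _ _ (Submodule.subset_span ⟨.inl i, rfl⟩)
    | zero => simp
    | add x y _ _ hx hy => rw [map_add]; exact add_mem hx hy
    | smul c x _ hx => rw [map_smul]; exact W.smul_mem c hx
  have heig : ∀ w : V, ∃ (y : V) (c : F), w - y ∈ W ∧ g y = c • y := by
    intro w
    by_cases hwW : w ∈ W
    · exact ⟨0, 0, by simpa using hwW, by simp⟩
    have hdep : ∃ c : F, g w - c • w ∈ W := by
      by_contra hne
      push Not at hne
      refine hmax ⟨Fin.snoc v w, ?_⟩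
      have h1 : LinearIndependent F (Fin.snoc (Fin.snoc (Sum.elim v (g ∘ v) ∘ finSumFinEquiv.symm) w) (g w)) := by
        rw [linearIndependent_finSnoc, linearIndependent_finSnoc]
        refine ⟨⟨hv.comp _ finSumFinEquiv.symm.injective, ?_⟩, ?_⟩
        · rwa [Set.range_comp, Equiv.range_eq_univ, Set.image_univ]
        · rw [Fin.range_snoc, Set.range_comp, Equiv.range_eq_univ, Set.image_univ, Submodule.mem_span_insert]
          rintro ⟨c, u, hu, he⟩
          exact hne c (by rw [show g w - c • w = u from by rw [he]; abel]; exact hu)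
      let φ : Fin (s + 1) ⊕ Fin (s + 1) → Fin (s + s + 1 + 1) := fun q =>
        match q with
        | .inl i => Fin.lastCases (Fin.castSucc (Fin.last _)) (fun i => Fin.castSucc (Fin.castSucc (finSumFinEquiv (.inl i)))) i
        | .inr i => Fin.lastCases (Fin.last _) (fun i => Fin.castSucc (Fin.castSucc (finSumFinEquiv (.inr i)))) i
      have hφ : Function.Injective φ := by
        rintro (i | i) (j | j) h <;> revert h <;>
          refine Fin.lastCases ?_ (fun i => ?_) i <;> refine Fin.lastCases ?_ (fun j => ?_) j <;>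
          simp [φ, Fin.ext_iff] <;> omega
      convert h1.comp φ hφ using 1
      funext q
      rcases q with i | i <;> refine Fin.lastCases ?_ (fun i => ?_) i <;>
        simp only [φ, Function.comp_apply, Sum.elim_inl, Sum.elim_inr, Fin.lastCases_last, Fin.lastCases_castSucc, Fin.snoc_last,
          Fin.snoc_castSucc, Equiv.symm_apply_apply]
    obtain ⟨c, hc⟩ := hdep
    have hcz : c * c = z := by
      by_contra hne
      refine hwW ?_
      have h2 : (z - c * c) • w ∈ W := by
        have := add_mem (hWg _ hc) (W.smul_mem c hc)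
        rw [map_sub, map_smul, hg] at this
        convert this using 1
        module
      have := W.smul_mem (z - c * c)⁻¹ h2
      rwa [smul_smul, inv_mul_cancel₀ (sub_ne_zero.mpr (Ne.symm hne)), one_smul] at this
    obtain ⟨α, β, he⟩ := hrepr _ hc
    have hker : g (g w - c • w) + c • (g w - c • w) = 0 := by
      rw [map_sub, map_smul, hg, ← hcz]; module
    rw [he] at hker
    simp only [map_add, map_sum, map_smul, hg, smul_add, Finset.smul_sum, smul_smul] at hker
    have hcoef := Fintype.linearIndependent_iff.mp hv (Sum.elim (fun i => β i * z + c * α i) (fun i => α i + c * β i)) (by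
      simp only [Fintype.sum_sum_type, Sum.elim_inl, Sum.elim_inr, Function.comp_apply, add_smul, Finset.sum_add_distrib]
      rw [← hker]; abel)
    have hα : ∀ i, α i = -(c * β i) := fun i => by
      have := hcoef (.inr i); simp at this; linear_combination this
    refine ⟨w - ∑ i, β i • v i, c, ?_, ?_⟩
    · rw [sub_sub_cancel]
      exact W.sum_mem fun i _ => W.smul_mem _ (Submodule.subset_span ⟨.inl i, rfl⟩)
    · have hgw : g w = c • w + (∑ i, α i • v i + ∑ i, β i • g (v i)) := by rw [← he]; abel
      simp only [map_sub, map_sum, map_smul, hgw, smul_sub, Finset.smul_sum, smul_smul, hα, neg_smul,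
        Finset.sum_neg_distrib]
      abel
  obtain ⟨C, hC⟩ := W.exists_isCompl
  let bC := Module.finBasis F C
  choose y c hy hgy using fun i => heig (bC i : V)
  let fam : (Fin s ⊕ Fin s) ⊕ Fin (Module.finrank F C) → V := Sum.elim (Sum.elim v (g ∘ v)) y
  have hspan : ⊤ ≤ Submodule.span F (Set.range fam) := by
    have hWle : W ≤ Submodule.span F (Set.range fam) := by
      rw [hW]; exact Submodule.span_mono (Set.range_subset_iff.mpr fun q => ⟨.inl q, rfl⟩)
    rw [← hC.sup_eq_top]
    refine sup_le hWle ?_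
    have hCs : C = Submodule.span F (C.subtype '' Set.range bC) := by
      rw [← Submodule.map_span, bC.span_eq, Submodule.map_top, Submodule.range_subtype]
    refine hCs.le.trans ?_
    rw [Submodule.span_le]
    rintro _ ⟨_, ⟨i, rfl⟩, rfl⟩
    have := add_mem (hWle (hy i)) (Submodule.subset_span ⟨.inr i, rfl⟩ : fam (.inr i) ∈ Submodule.span F (Set.range fam))
    simpa [fam] using this
  have hcard : Fintype.card ((Fin s ⊕ Fin s) ⊕ Fin (Module.finrank F C)) = Module.finrank F V := by
    have h1 : Module.finrank F W = Fintype.card (Fin s ⊕ Fin s) := finrank_span_eq_card hv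
    rw [← Submodule.finrank_add_eq_of_isCompl hC, h1, Fintype.card_sum, Fintype.card_fin]
  have hb := linearIndependent_of_top_le_span_of_card_eq_finrank hspan hcard
  refine ⟨s, _, Module.Basis.mk hb hspan, ?_, ?_, ?_⟩
  · intro i; simp [fam]
  · intro i; simp [fam, hg]
  · intro i; exact ⟨c i, by simpa [fam] using hgy i⟩

/-- Involutions of PSL_n(q) and imprimitive subgroups. Here `T = PSL_n(F)` for a field `F` with `q = p^f` elements (`n ≥ 2`, `(n, q) ≠ (2, 2), (2, 3)`), `n = a·t` with `t ≥ 2`, and Ω is the set of direct-sum decompositions of `F^n` into `t` subspaces of dimension `a` (unordered; their number is the number of ordered ones divided by `t!`), whose stabilizers are the imprimitive subgroups of type GL_a(q) ≀ S_t (maximal except in some small cases; maximality is not assumed); an element of `T` of prime order `r` (a matrix `x` of determinant 1 with `x^r` scalar, `x` not scalar) fixes a point of Ω when it permutes the summands of some such decomposition. If the number of such decompositions is even,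 then every involution of `T` stabilizes one of them (the action is 2-elusive). -/
theorem result {F : Type*} [Field F] [Fintype F] {p : ℕ} [Fact p.Prime] [CharP F p] {q : ℕ} (hq : Fintype.card F = q)
    (n a t : ℕ) (hn : 2 ≤ n) (hT : (n, q) ≠ (2, 2) ∧ (n, q) ≠ (2, 3)) (hat : n = a * t) (ha : 1 ≤ a) (ht : 2 ≤ t)
    (hΩ : 2 ∣ Nat.card {D : Fin t → Submodule F (Fin n → F) // Cfsg.Geo.IsMDecomposition a D} / Nat.factorial t)
    (x : Matrix.SpecialLinearGroup (Fin n) F)
    (hx1 : ∃ z : F, ((x ^ 2 : Matrix.SpecialLinearGroup (Fin n) F) : Matrix (Fin n) (Fin n) F) = z • (1 : Matrix (Fin n) (Fin n) F))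
    (hx2 : ∀ z : F, (x : Matrix (Fin n) (Fin n) F) ≠ z • (1 : Matrix (Fin n) (Fin n) F)) :
    ∃ D : Fin t → Submodule F (Fin n → F), Cfsg.Geo.IsMDecomposition a D ∧
        ∃ σ : Equiv.Perm (Fin t), ∀ j, (D j).map (Matrix.toLin' (x : Matrix (Fin n) (Fin n) F)) = D (σ j) := by
  classical
  obtain ⟨z, hz⟩ := hx1
  set X : Matrix (Fin n) (Fin n) F := (x : Matrix (Fin n) (Fin n) F)
  set g : (Fin n → F) →ₗ[F] (Fin n → F) := Matrix.toLin' X with hg
  have hsq : X * X = z • (1 : Matrix (Fin n) (Fin n) F) := by rw [← hz]; simp [X, pow_two]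
  have hz0 : z ≠ 0 := by
    rintro rfl
    have hd := congrArg Matrix.det hsq
    have : Nonempty (Fin n) := ⟨⟨0, by omega⟩⟩
    rw [Matrix.det_mul, zero_smul, Matrix.det_zero, x.2, one_mul] at hd
    exact one_ne_zero hd
  have hgg : ∀ v, g (g v) = z • v := by
    intro v
    rw [hg, ← Matrix.toLin'_mul_apply, hsq]
    simp [Matrix.one_mulVec, Matrix.smul_mulVec]
  obtain ⟨s, r, b, h1, h2, h3⟩ := exists_monomial_basis g z hz0 hgg
  have hcard : 2 * s + r = t * a := by
    have := Module.finrank_eq_card_basis b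
    simp at this
    rw [Nat.mul_comm t a, ← hat]; omega
  obtain ⟨u, v, f, σ, hu, hv, hf, hcnt⟩ := hasLayout_of_eq a t s r hcard
  let blk : (Fin s ⊕ Fin s) ⊕ Fin r → Fin t := Sum.elim (Sum.elim u v) f
  let D : Fin t → Submodule F (Fin n → F) := fun j => Submodule.span F (b '' (blk ⁻¹' {j}))
  have hfr : ∀ j, Module.finrank F (D j) = a := by
    intro j
    have hi : LinearIndependent F (fun q : (blk ⁻¹' {j} : Set _) => b q) := b.linearIndependent.comp _ Subtype.val_injective
    show Module.finrank F (Submodule.span F (b '' _)) = a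
    rw [Set.image_eq_range]
    refine (finrank_span_eq_card hi).trans ?_
    rw [Fintype.card_subtype, Finset.card_filter, Fintype.sum_sum_type, Fintype.sum_sum_type, ← hcnt j]
    simp [blk, Set.mem_preimage]
  refine ⟨D, ⟨ht, by omega, hfr, ?_, ?_⟩, σ, ?_⟩
  · intro j
    show Disjoint (D j) _
    simp only [D, ← Submodule.span_iUnion]
    rw [← Set.image_iUnion₂]
    refine b.linearIndependent.disjoint_span_image ?_
    rw [Set.disjoint_left]
    intro q hq hq'
    simp at hq hq'
    exact hq' hq
  · show (⨆ j, Submodule.span F (b '' (blk ⁻¹' {j}))) = ⊤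
    rw [← Submodule.span_iUnion, ← Set.image_iUnion, ← Set.preimage_iUnion, Set.iUnion_of_singleton,
      Set.preimage_univ, Set.image_univ, b.span_eq]
  · intro j
    have hle : (D j).map g ≤ D (σ j) := by
      show (Submodule.span F _).map g ≤ _
      rw [Submodule.map_span, Submodule.span_le]
      rintro _ ⟨_, ⟨q, hq, rfl⟩, rfl⟩
      simp only [Set.mem_preimage, Set.mem_singleton_iff] at hq
      subst hq
      rcases q with (i | i) | i
      · rw [h1]
        exact Submodule.subset_span ⟨_, (hu i).symm, rfl⟩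
      · rw [h2]
        exact Submodule.smul_mem _ _ (Submodule.subset_span ⟨_, (hv i).symm, rfl⟩)
      · obtain ⟨c, hc⟩ := h3 i
        rw [hc]
        exact Submodule.smul_mem _ _ (Submodule.subset_span ⟨_, (hf i).symm, rfl⟩)
    have hinj : Function.Injective g := by
      intro p q hpq
      have := congrArg g hpq
      rw [hgg, hgg] at this
      exact smul_right_injective _ hz0 this
    refine Submodule.eq_of_le_of_finrank_le hle ?_
    rw [LinearEquiv.finrank_eq (Submodule.equivMapOfInjective g hinj (D j)).symm, hfr, hfr]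

end Cfsg.Agent.S5957
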