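import Cfsg.Statements.S5958
import Cfsg.Agent.EqLemmas
import Cfsg.Agent.Lib.PrimeOrderElt.Criteria
import Cfsg.Agent.Lib.PrimeOrderElt.Count

set_option autoImplicit false
open scoped MatrixGroups
open Cfsg

namespace Cfsg.Agent.S5958

open Cfsg.Agent.PrimeOrderElt Module

variable {F V : Type*} [Field F] [AddCommGroup V] [Module F V]

/-- Bases of independent subspaces give an independent family. -/
theorem indep_of_blocks {t a : ℕ} (D : Fin t → Submodule F V) (hD : iSupIndep D) (b : Fin t → Fin a → V)
    (hb : ∀ j l, b j l ∈ D j) (hi : ∀ j, LinearIndependent F (b j)) :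
    LinearIndependent F (fun e : Fin t × Fin a => b e.1 e.2) := by
  refine Fintype.linearIndependent_iff.mpr fun g hg e => ?_
  rw [Fintype.sum_prod_type] at hg
  have h0 := (iSupIndep_iff_finset_sum_eq_zero_imp_eq_zero D).mp hD Finset.univ
    (fun j => ∑ l, g (j, l) • b j l) (fun j _ => (D j).sum_mem fun l _ => (D j).smul_mem _ (hb j l)) hg e.1
    (Finset.mem_univ _)
  exact Fintype.linearIndependent_iff.mp (hi e.1) (fun l => g (e.1, l)) h0 e.2

/-- A basis indexed by `t × a` gives a decomposition. -/
theorem decomp_of_family {t a n : ℕ} (ht : 2 ≤ t) (ha : 0 < a) (hn : n = a * t)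
    (b : Fin t × Fin a → (Fin n → F)) (hb : LinearIndependent F b) :
    Cfsg.Geo.IsMDecomposition a (fun j => Submodule.span F (Set.range fun l => b (j, l))) := by
  classical
  refine ⟨ht, ha, fun j => ?_, ?_, ?_⟩
  · exact (finrank_span_eq_card (hb.comp _ (fun l l' h => (Prod.ext_iff.mp h).2))).trans (Fintype.card_fin a)
  · refine iSupIndep_def.mpr fun j => ?_
    have h := hb.disjoint_span_image (s := {e | e.1 = j}) (t := {e | e.1 ≠ j})
      (Set.disjoint_left.mpr fun e h1 h2 => h2 h1)
    refine h.mono ?_ ?_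
    · exact Submodule.span_le.mpr (by rintro _ ⟨l, rfl⟩; exact Submodule.subset_span ⟨(j, l), rfl, rfl⟩)
    · exact iSup₂_le fun k hk => Submodule.span_le.mpr (by
        rintro _ ⟨l, rfl⟩; exact Submodule.subset_span ⟨(k, l), hk, rfl⟩)
  · rw [← Submodule.span_iUnion]
    refine eq_top_iff.mpr ((hb.span_eq_top_of_card_eq_finrank' (by
      rw [Fintype.card_prod, Fintype.card_fin, Fintype.card_fin, Module.finrank_fin_fun, hn, Nat.mul_comm])).ge.trans
      (Submodule.span_mono ?_))
    rintro _ ⟨e, rfl⟩
    exact Set.mem_iUnion.mpr ⟨e.1, e.2, rfl⟩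

theorem map_eq_of_le [FiniteDimensional F V] {y : Module.End F V} (hy : Function.Injective y) {A B : Submodule F V}
    (h : A.map y ≤ B) (hd : finrank F B ≤ finrank F A) : A.map y = B :=
  Submodule.eq_of_le_of_finrank_le h (hd.trans_eq (Submodule.equivMapOfInjective y hy A).finrank_eq)

/-- The fixed dimension is additive. -/
theorem fix_split [FiniteDimensional F V] {y : Module.End F V} {U U' W : Submodule F V} (hU : Inv y U) (hU' : Inv y U')
    (hinf : U ⊓ U' = ⊥) (hsup : U ⊔ U' = W) :
    finrank F ↥(W ⊓ fix y) = finrank F ↥(U ⊓ fix y) + finrank F ↥(U' ⊓ fix y) := by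
  have hs : (U ⊓ fix y) ⊔ (U' ⊓ fix y) = W ⊓ fix y := by
    refine le_antisymm (sup_le (inf_le_inf_right _ (hsup ▸ le_sup_left)) (inf_le_inf_right _ (hsup ▸ le_sup_right))) ?_
    rintro v ⟨hv, hf⟩
    obtain ⟨u, hu, u', hu', rfl⟩ := Submodule.mem_sup.mp (hsup.ge hv)
    have e := mem_fix.mp hf
    rw [map_add] at e
    have h0 : y u - u ∈ U ⊓ U' := ⟨U.sub_mem (inv_apply hU hu) hu, by
      rw [show y u - u = u' - y u' by linear_combination (norm := module) e]
      exact U'.sub_mem hu' (inv_apply hU' hu')⟩
    rw [hinf, Submodule.mem_bot, sub_eq_zero] at h0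
    exact Submodule.add_mem_sup ⟨hu, mem_fix.mpr h0⟩ ⟨hu', mem_fix.mpr (by
      linear_combination (norm := module) e - h0)⟩
  have h := Submodule.finrank_sup_add_finrank_inf_eq (U ⊓ fix y) (U' ⊓ fix y)
  rw [hs, show (U ⊓ fix y) ⊓ (U' ⊓ fix y) = ⊥ from
    le_bot_iff.mp ((inf_le_inf inf_le_left inf_le_left).trans hinf.le), finrank_bot] at h
  exact h

/-- Recursive splitting into invariant blocks. -/
theorem exists_blocks [FiniteDimensional F V] {y : Module.End F V} {a : ℕ} (P : ℕ → Submodule F V → Prop)
    (step : ∀ m W, Inv y W → P (m + 1) W → ∃ U U' : Submodule F V, Inv y U ∧ Inv y U' ∧ U ⊓ U' = ⊥ ∧ U ⊔ U' = W ∧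
      finrank F U = a ∧ P m U') :
    ∀ m W, Inv y W → P m W → ∃ b : Fin m × Fin a → V, LinearIndependent F b ∧ (∀ e, b e ∈ W) ∧
      ∀ j, Inv y (Submodule.span F (Set.range fun l => b (j, l))) := by
  intro m
  induction m with
  | zero => exact fun W _ _ => ⟨fun e => e.1.elim0, linearIndependent_empty_type, fun e => e.1.elim0, fun j => j.elim0⟩
  | succ m ih =>
    intro W hW hP
    obtain ⟨U, U', hU, hU', hinf, hsup, hUd, hP'⟩ := step m W hW hP
    obtain ⟨b, hb, hbU, hbi⟩ := ih U' hU' hP'
    let u := Module.finBasisOfFinrankEq F U hUd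
    let b' : Fin (m + 1) × Fin a → V := fun e => Fin.cases (u e.2 : V) (fun j => b (j, e.2)) e.1
    have hspan : Submodule.span F (Set.range fun l => (u l : V)) = U := by
      rw [show (fun l => (u l : V)) = U.subtype ∘ u from rfl, Set.range_comp, ← Submodule.map_span, u.span_eq,
        Submodule.map_top, Submodule.range_subtype]
    refine ⟨b', ?_, ?_, ?_⟩
    · refine Fintype.linearIndependent_iff.mpr fun g hg e => ?_
      rw [Fintype.sum_prod_type, Fin.sum_univ_succ] at hg
      simp only [b', Fin.cases_zero, Fin.cases_succ] at hg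
      have h1 : ∑ l, g (0, l) • (u l : V) ∈ U ⊓ U' := ⟨U.sum_mem fun l _ => U.smul_mem _ (u l).2, by
        rw [eq_neg_of_add_eq_zero_left hg]
        exact U'.neg_mem (U'.sum_mem fun j _ => U'.sum_mem fun l _ => U'.smul_mem _ (hbU (j, l)))⟩
      rw [hinf, Submodule.mem_bot] at h1
      rw [h1, zero_add] at hg
      obtain ⟨j, l⟩ := e
      induction j using Fin.cases with
      | zero => exact Fintype.linearIndependent_iff.mp u.linearIndependent (fun l => g (0, l)) (Subtype.ext (by simpa using h1)) l
      | succ j =>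
        exact Fintype.linearIndependent_iff.mp hb (fun e => g (e.1.succ, e.2)) (by rw [Fintype.sum_prod_type]; exact hg) (j, l)
    · rintro ⟨j, l⟩
      rw [← hsup]
      induction j using Fin.cases with
      | zero => exact Submodule.mem_sup_left (u l).2
      | succ j => exact Submodule.mem_sup_right (hbU (j, l))
    · intro j
      induction j using Fin.cases with
      | zero =>
        simp only [b', Fin.cases_zero]
        rw [hspan]
        exact hU
      | succ j =>
        simp only [b', Fin.cases_succ]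
        exact hbi j

section Semisimple

variable [Fintype F] [FiniteDimensional F V] {r : ℕ} [Fact r.Prime]

/-- Blocks of dimension `a` when the fixed space is large. -/
theorem exists_fixed_blocks {y : Module.End F V} (hr : (r : F) ≠ 0) (hy : y ^ r = 1) {a : ℕ} :
    ∀ m W, Inv y W → (finrank F W = a * m ∧ m * (a % orderOf (Fintype.card F : ZMod r)) ≤ finrank F ↥(W ⊓ fix y)) →
      ∃ b : Fin m × Fin a → V, LinearIndependent F b ∧ (∀ e, b e ∈ W) ∧
        ∀ j, Inv y (Submodule.span F (Set.range fun l => b (j, l))) := by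
  set c := orderOf (Fintype.card F : ZMod r) with hc
  have hc0 : 0 < c := orderOf_card_pos hr
  refine exists_blocks (fun m W => finrank F W = a * m ∧ m * (a % c) ≤ finrank F ↥(W ⊓ fix y)) ?_
  rintro m W hW ⟨hd, hf⟩
  obtain ⟨s, hs, hsub⟩ := exists_dims hr hy hW
  rw [← hc] at hs hsub
  set f := finrank F ↥(W ⊓ fix y)
  rw [Nat.mul_add, Nat.mul_one] at hd
  rw [Nat.add_mul, Nat.one_mul] at hf
  have hdiv : a % c + a / c * c = a := by rw [Nat.mul_comm]; exact Nat.mod_add_div a c
  have key : ∀ fu ku, fu ≤ f → ku ≤ s → fu + ku * c = a → m * (a % c) ≤ f - fu →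
      ∃ U U' : Submodule F V, Inv y U ∧ Inv y U' ∧ U ⊓ U' = ⊥ ∧ U ⊔ U' = W ∧ finrank F U = a ∧
        (finrank F U' = a * m ∧ m * (a % c) ≤ finrank F ↥(U' ⊓ fix y)) := by
    intro fu ku h1 h2 h3 h4
    obtain ⟨U, hU, hUW, hUd, hUf⟩ := hsub fu ku h1 h2
    obtain ⟨U', hU', -, hinf, hsup⟩ := exists_invariant_complement hr one_ne_zero
      (show y ^ r = (1 : F) • 1 by rw [one_smul, hy]) hW hU hUW
    have h5 := Submodule.finrank_sup_add_finrank_inf_eq U U'
    rw [hinf, hsup, finrank_bot, hUd] at h5
    have h6 := fix_split hU hU' hinf hsup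
    rw [hUf] at h6
    exact ⟨U, U', hU, hU', hinf, hsup, by omega, by omega, by omega⟩
  rcases le_or_gt (a / c) s with h | h
  · exact key (a % c) (a / c) (by omega) h hdiv (by omega)
  · have hsc : s * c ≤ a / c * c := Nat.mul_le_mul_right c h.le
    refine key (a - s * c) s (by omega) le_rfl (by omega) ?_
    have : m * (a % c) ≤ a * m := by rw [Nat.mul_comm a m]; exact Nat.mul_le_mul_left m (Nat.mod_le a c)
    omega

/-- A permuted basis of a regular-plus-trivial module. -/
theorem exists_perm_set {y : Module.End F V} (hr : (r : F) ≠ 0) (hy : y ^ r = 1)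
    (hc : orderOf (Fintype.card F : ZMod r) = r - 1) : ∀ s W, Inv y W →
      (finrank F W = finrank F ↥(W ⊓ fix y) + s * (r - 1) ∧ s ≤ finrank F ↥(W ⊓ fix y)) →
      ∃ T : Set V, LinearIndepOn F id T ∧ Submodule.span F T = W ∧ ∀ v ∈ T, y v ∈ T := by
  have hr2 := (Fact.out : r.Prime).two_le
  intro s
  induction s with
  | zero =>
    rintro W hW ⟨hd, -⟩
    rw [Nat.zero_mul, Nat.add_zero] at hd
    have hWf : W ≤ fix y := inf_eq_left.mp (Submodule.eq_of_le_of_finrank_le inf_le_left hd.le)
    let u := Module.finBasis F W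
    refine ⟨Set.range fun l => (u l : V), (u.linearIndependent.map' W.subtype W.ker_subtype).linearIndepOn_id, ?_, ?_⟩
    · rw [show (fun l => (u l : V)) = W.subtype ∘ u from rfl, Set.range_comp, ← Submodule.map_span, u.span_eq,
        Submodule.map_top, Submodule.range_subtype]
    · rintro _ ⟨l, rfl⟩
      exact ⟨l, (mem_fix.mp (hWf (u l).2)).symm⟩
  | succ s ih =>
    rintro W hW ⟨hd, hs⟩
    obtain ⟨s', hs', hsub⟩ := exists_dims hr hy hW
    rw [hc] at hs' hsub
    have hss : s' = s + 1 := Nat.eq_of_mul_eq_mul_right (show 0 < r - 1 by omega) (by omega)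
    obtain ⟨U, hU, hUW, hUd, hUf⟩ := hsub 1 1 (by omega) (by omega)
    obtain ⟨U', hU', -, hinf, hsup⟩ := exists_invariant_complement hr one_ne_zero
      (show y ^ r = (1 : F) • 1 by rw [one_smul, hy]) hW hU hUW
    have h5 := Submodule.finrank_sup_add_finrank_inf_eq U U'
    rw [hinf, hsup, finrank_bot, hUd] at h5
    have h6 := fix_split hU hU' hinf hsup
    rw [hUf] at h6
    rw [Nat.add_mul, Nat.one_mul] at hd
    obtain ⟨T, hT, hTs, hTy⟩ := ih U' hU' ⟨by omega, by omega⟩
    -- a cyclic vector of U
    obtain ⟨C, hC, -, hCinf, hCsup⟩ := exists_invariant_complement hr one_ne_zero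
      (show y ^ r = (1 : F) • 1 by rw [one_smul, hy]) hU (inv_inf hU (inv_fix y)) inf_le_left
    have hCd : finrank F C = r - 1 := by
      have h7 := Submodule.finrank_sup_add_finrank_inf_eq (U ⊓ fix y) C
      rw [hCinf, hCsup, finrank_bot, hUd, hUf] at h7
      omega
    obtain ⟨u, hu, hu0⟩ := Submodule.exists_mem_ne_zero_of_ne_bot (show U ⊓ fix y ≠ ⊥ from fun h => by
      rw [h, finrank_bot] at hUf; omega)
    obtain ⟨w, hw, hw0⟩ := Submodule.exists_mem_ne_zero_of_ne_bot (show C ≠ ⊥ from fun h => by
      rw [h, finrank_bot] at hCd; omega)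
    have hCU : C ≤ U := hCsup ▸ le_sup_right
    have hnofix : C ⊓ fix y = ⊥ := le_bot_iff.mp fun v hv => hCinf ▸ ⟨⟨hCU hv.1, hv.2⟩, hv.1⟩
    set v := u + w with hv
    have hvU : v ∈ U := U.add_mem hu.1 (hCU hw)
    let orb : Fin r → V := fun i => (y ^ (i : ℕ)) v
    set S := Submodule.span F (Set.range orb) with hS
    have horb : ∀ i, y (orb i) = orb ⟨((i : ℕ) + 1) % r, Nat.mod_lt _ (by omega)⟩ := fun i => by
      show y ((y ^ (i : ℕ)) v) = (y ^ (((i : ℕ) + 1) % r)) v
      rw [← Module.End.mul_apply, ← pow_succ']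
      congr 1
      exact pow_eq_pow_mod _ hy
    have hSinv : Inv y S := Submodule.map_le_iff_le_comap.mpr (Submodule.span_le.mpr (by
      rintro _ ⟨i, rfl⟩
      exact Submodule.subset_span ⟨_, (horb i).symm⟩))
    have hSU : S ≤ U := Submodule.span_le.mpr (by
      rintro _ ⟨i, rfl⟩
      show (y ^ (i : ℕ)) v ∈ U
      induction (i : ℕ) with
      | zero => simpa using hvU
      | succ k ih => rw [pow_succ', Module.End.mul_apply]; exact inv_apply hU ih)
    have hvS : v ∈ S := Submodule.subset_span ⟨⟨0, by omega⟩, by simp [orb]⟩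
    have hwS : y w - w ∈ C ⊓ S := ⟨C.sub_mem (inv_apply hC hw) hw, by
      rw [show y w - w = y v - v by rw [hv, map_add, mem_fix.mp hu.2]; abel]
      exact S.sub_mem (inv_apply hSinv hvS) hvS⟩
    have hne : y w - w ≠ 0 := fun h => hw0 (by
      have : w ∈ C ⊓ fix y := ⟨hw, mem_fix.mpr (sub_eq_zero.mp h)⟩
      rwa [hnofix, Submodule.mem_bot] at this)
    have hCS : C ⊓ S = C := by
      obtain ⟨s₂, hs₂, -⟩ := exists_dims hr hy (inv_inf hC hSinv)
      rw [show C ⊓ S ⊓ fix y = ⊥ from le_bot_iff.mp ((inf_le_inf_right _ inf_le_left).trans hnofix.le),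
        finrank_bot, hc, Nat.zero_add] at hs₂
      refine Submodule.eq_of_le_of_finrank_le inf_le_left ?_
      rw [hCd, hs₂]
      refine Nat.le_mul_of_pos_left _ (Nat.pos_of_ne_zero fun h0 => hne ?_)
      rw [h0, Nat.zero_mul] at hs₂
      rwa [Submodule.finrank_eq_zero.mp hs₂, Submodule.mem_bot] at hwS
    have hUS : U ≤ S := by
      rw [← hCsup]
      refine sup_le ?_ (inf_eq_left.mp hCS)
      have huS : u ∈ S := by
        rw [show u = v - w by rw [hv]; abel]
        exact S.sub_mem hvS (inf_eq_left.mp hCS hw)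
      intro u' hu'
      have hspan : Submodule.span F {u} = U ⊓ fix y := Submodule.eq_of_le_of_finrank_le
        ((Submodule.span_singleton_le_iff_mem _ _).mpr hu) (by rw [hUf, finrank_span_singleton hu0])
      exact (Submodule.span_singleton_le_iff_mem _ _).mpr huS (hspan.ge hu')
    have hSU' : S = U := le_antisymm hSU hUS
    have hind : LinearIndependent F orb := linearIndependent_iff_card_eq_finrank_span.mpr (by
      rw [Fintype.card_fin]
      show r = finrank F S
      rw [hSU', hUd]; omega)
    refine ⟨Set.range orb ∪ T, ?_, by rw [Submodule.span_union, hTs]; exact (congrArg (· ⊔ U') hSU').trans hsup, ?_⟩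
    · refine LinearIndepOn.id_union hind.linearIndepOn_id hT ?_
      rw [disjoint_iff, hTs]
      exact (congrArg (· ⊓ U') hSU').trans hinf
    · rintro x (⟨i, rfl⟩ | hx)
      · exact Or.inl ⟨_, (horb i).symm⟩
      · exact Or.inr (hTy x hx)

/-- The orbit count of a permuted basis. -/
theorem le_mul_fix {y : Module.End F V} (hr : (r : F) ≠ 0) (hy : y ^ r = 1)
    (hroot : ∀ c : F, c ^ r = 1 → c = 1) {t : ℕ} (b : Basis (Fin t) F V)
    (σ : Equiv.Perm (Fin t)) (hσ : ∀ j, ∃ c : F, c ≠ 0 ∧ y (b j) = c • b (σ j)) :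
    t ≤ r * finrank F (fix y) := by
  classical
  have hσk : ∀ (k : ℕ) j, ∃ c : F, c ≠ 0 ∧ (y ^ k) (b j) = c • b ((σ ^ k) j) := by
    intro k
    induction k with
    | zero => intro j; exact ⟨1, one_ne_zero, by simp⟩
    | succ k ih =>
      intro j
      obtain ⟨c, hc, e⟩ := ih j
      obtain ⟨d, hd, e'⟩ := hσ ((σ ^ k) j)
      refine ⟨c * d, mul_ne_zero hc hd, ?_⟩
      rw [pow_succ', Module.End.mul_apply, e, map_smul, e', smul_smul, pow_succ', Equiv.Perm.mul_apply]
  have hσr : σ ^ r = 1 := by
    refine Equiv.ext fun j => ?_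
    obtain ⟨c, hc, e⟩ := hσk r j
    rw [hy, Module.End.one_apply] at e
    by_contra hne
    have h1 := congrArg (fun v => b.repr v j) e
    simp only [map_smul, Basis.repr_self, Finsupp.smul_single, Finsupp.single_apply] at h1
    rw [if_pos trivial, if_neg (fun e => hne (by simpa using e))] at h1
    exact one_ne_zero h1
  letI : Setoid (Fin t) := Equiv.Perm.SameCycle.setoid σ
  let O := Quotient (Equiv.Perm.SameCycle.setoid σ)
  let T : O → fix y := fun o => ⟨∑ i ∈ Finset.range r, (y ^ i) (b o.out), mem_fix.mpr (by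
    rw [map_sum]
    simp only [← Module.End.mul_apply, ← pow_succ']
    have h1 := Finset.sum_range_succ' (fun i => (y ^ i) (b o.out)) r
    rw [Finset.sum_range_succ, pow_zero, hy] at h1
    exact (add_right_cancel h1).symm)⟩
  have hcross : ∀ (o o' : O) (i : ℕ), o ≠ o' → b.repr ((y ^ i) (b o.out)) o'.out = 0 := by
    intro o o' i hne
    obtain ⟨c, -, e⟩ := hσk i o.out
    rw [e, map_smul, Basis.repr_self, Finsupp.smul_single, Finsupp.single_apply, if_neg]
    intro h
    refine hne ?_
    rw [← Quotient.out_eq o, ← Quotient.out_eq o']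
    refine Quotient.sound ?_
    show σ.SameCycle o.out o'.out
    rw [← h]
    exact Equiv.Perm.sameCycle_pow_right.mpr (Equiv.Perm.SameCycle.refl σ _)
  have hself : ∀ o : O, ∑ i ∈ Finset.range r, b.repr ((y ^ i) (b o.out)) o.out ≠ 0 := by
    intro o
    by_cases hfix : σ o.out = o.out
    · obtain ⟨c, hc, e⟩ := hσ o.out
      rw [hfix] at e
      have hk : ∀ k : ℕ, (y ^ k) (b o.out) = c ^ k • b o.out := by
        intro k
        induction k with
        | zero => simp
        | succ k ih => rw [pow_succ', Module.End.mul_apply, ih, map_smul, e, smul_smul, ← pow_succ]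
      have hcr : c ^ r = 1 := by
        have h1 := congrArg (fun v => b.repr v o.out) ((hk r).symm.trans (by rw [hy, Module.End.one_apply]))
        simpa using h1
      simp only [hk, map_smul, Basis.repr_self, Finsupp.smul_single, smul_eq_mul, mul_one, Finsupp.single_eq_same]
      intro h0
      simp [hroot c hcr] at h0
      exact hr h0
    · have hper : Function.minimalPeriod σ o.out = r :=
        Function.minimalPeriod_eq_prime (show σ^[r] o.out = o.out by
          rw [Equiv.Perm.iterate_eq_pow, hσr]; rfl) hfix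
      rw [Finset.sum_eq_single 0 ?_ (by simp [(Fact.out : r.Prime).pos])]
      · simp
      · intro i hi hi0
        obtain ⟨c, -, e⟩ := hσk i o.out
        rw [e, map_smul, Basis.repr_self, Finsupp.smul_single, Finsupp.single_apply, if_neg]
        rw [← Equiv.Perm.iterate_eq_pow]
        exact fun h => hi0 ((Function.iterate_injOn_Iio_minimalPeriod (f := σ) (x := o.out))
          (by rw [hper]; exact Finset.mem_range.mp hi) (by rw [hper]; exact (Fact.out : r.Prime).pos) h)
  have hTi : LinearIndependent F T := by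
    refine Fintype.linearIndependent_iff.mpr fun g hg o' => ?_
    have h1 := congrArg (fun v : fix y => b.repr (v : V) o'.out) hg
    simp only [Submodule.coe_sum, Submodule.coe_smul, map_sum, map_smul, Finsupp.coe_finsetSum, Finset.sum_apply,
      Finsupp.coe_smul, Pi.smul_apply, smul_eq_mul, T, Submodule.coe_zero, map_zero, Finsupp.coe_zero, Pi.zero_apply] at h1
    rw [Finset.sum_eq_single o' (fun o _ ho => by
      rw [Finset.sum_eq_zero (fun i _ => hcross o o' i ho), mul_zero]) (by simp)] at h1
    exact (mul_eq_zero.mp h1).resolve_right (hself o')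
  have hO := hTi.fintype_card_le_finrank
  calc t = Fintype.card (Fin t) := (Fintype.card_fin t).symm
    _ ≤ r * Fintype.card O := by
      have hfib : ∀ o : O, (Finset.univ.filter fun j => (⟦j⟧ : O) = o).card ≤ r := by
        intro o
        calc _ ≤ ((Finset.range r).image fun i => (σ ^ i) o.out).card := Finset.card_le_card fun j hj => by
              have hj' : (⟦j⟧ : O) = o := (Finset.mem_filter.mp hj).2
              have hcyc : σ.SameCycle o.out j := Quotient.exact ((Quotient.out_eq o).trans hj'.symm)
              obtain ⟨k, -, -, hk⟩ := hcyc.exists_pow_eq''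
              exact Finset.mem_image.mpr ⟨k % r, Finset.mem_range.mpr (Nat.mod_lt _ (Fact.out : r.Prime).pos),
                by rw [← pow_eq_pow_mod _ hσr, hk]⟩
          _ ≤ _ := Finset.card_image_le.trans_eq (Finset.card_range r)
      rw [← Finset.card_univ]
      calc _ = ∑ o : O, (Finset.univ.filter fun j => (⟦j⟧ : O) = o).card :=
            Finset.card_eq_sum_card_fiberwise (fun _ _ => Finset.mem_univ _)
        _ ≤ ∑ _o : O, r := Finset.sum_le_sum fun o _ => hfib o
        _ = _ := by rw [Finset.sum_const, Finset.card_univ, smul_eq_mul, Nat.mul_comm]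
    _ ≤ _ := Nat.mul_le_mul_left r hO

end Semisimple

theorem orbit_indep {n t : ℕ} {y : Module.End F (Fin n → F)} {D : Fin t → Submodule F (Fin n → F)}
    (hi : iSupIndep D) (hy : Function.Injective y) {σ : Equiv.Perm (Fin t)} (hσ : ∀ j, (D j).map y = D (σ j))
    {r : ℕ} [Fact r.Prime] (hσr : σ ^ r = 1) {j : Fin t} (hj : σ j ≠ j) (v : Fin r → D j)
    (hv : ∑ i : Fin r, (y ^ (i : ℕ)) (v i : Fin n → F) = 0) (i : Fin r) : v i = 0 := by
  classical
  have hpow : ∀ (k : ℕ) w, w ∈ D j → (y ^ k) w ∈ D ((σ ^ k) j) := by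
    intro k
    induction k with
    | zero => intro w hw; simpa using hw
    | succ k ih =>
      intro w hw
      rw [pow_succ' y, Module.End.mul_apply, pow_succ' σ, Equiv.Perm.mul_apply, ← hσ]
      exact ⟨_, ih w hw, rfl⟩
  have hper : Function.minimalPeriod σ j = r :=
    Function.minimalPeriod_eq_prime (show σ^[r] j = j by rw [Equiv.Perm.iterate_eq_pow, hσr]; rfl) hj
  have hinj : Function.Injective fun i : Fin r => (σ ^ (i : ℕ)) j := fun i i' h => Fin.ext
    ((Function.iterate_injOn_Iio_minimalPeriod (f := σ) (x := j)) (by rw [hper]; exact i.2) (by rw [hper]; exact i'.2)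
      (by simpa [Equiv.Perm.iterate_eq_pow] using h))
  have hind := hi.comp hinj
  have h0 := (iSupIndep_iff_finset_sum_eq_zero_imp_eq_zero _).mp hind Finset.univ
    (fun i => (y ^ (i : ℕ)) (v i : Fin n → F)) (fun i _ => hpow i _ (v i).2) hv i (Finset.mem_univ _)
  refine Subtype.ext ?_
  have hyi : Function.Injective (y ^ (i : ℕ)) := by rw [Module.End.coe_pow]; exact hy.iterate _
  exact hyi (h0.trans (map_zero _).symm)

theorem sum_pow_fixed {n r : ℕ} {y : Module.End F (Fin n → F)} (hy : y ^ r = 1) (w : Fin n → F) :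
    y (∑ i : Fin r, (y ^ (i : ℕ)) w) = ∑ i : Fin r, (y ^ (i : ℕ)) w := by
  rw [map_sum]
  simp only [← Module.End.mul_apply, ← pow_succ', Fin.sum_univ_eq_sum_range (fun i => (y ^ (i + 1)) w),
    Fin.sum_univ_eq_sum_range (fun i => (y ^ i) w)]
  have h1 := Finset.sum_range_succ' (fun i => (y ^ i) w) r
  rw [Finset.sum_range_succ, pow_zero, hy] at h1
  exact (add_right_cancel h1).symm

/-- A moved summand meets the fixed space in a diagonal copy. -/
theorem le_fix_of_moved {n t : ℕ} {y : Module.End F (Fin n → F)} {D : Fin t → Submodule F (Fin n → F)}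
    (hi : iSupIndep D) (hy : Function.Injective y) {σ : Equiv.Perm (Fin t)} (hσ : ∀ j, (D j).map y = D (σ j))
    {r : ℕ} [Fact r.Prime] (hyr : y ^ r = 1) (hσr : σ ^ r = 1) {j : Fin t} (hj : σ j ≠ j) :
    finrank F (D j) ≤ finrank F (fix y) ∧ finrank F (fix y) + (r - 1) * finrank F (D j) ≤ n := by
  classical
  have hr0 := (Fact.out : r.Prime).pos
  constructor
  · let Φ : D j →ₗ[F] fix y :=
      LinearMap.codRestrict (fix y) ((∑ i : Fin r, y ^ (i : ℕ)).comp (D j).subtype) (fun v => mem_fix.mpr (by
        simp only [LinearMap.comp_apply, LinearMap.sum_apply]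
        exact sum_pow_fixed hyr _))
    refine LinearMap.finrank_le_finrank_of_injective (f := Φ) fun v v' h => sub_eq_zero.mp ?_
    have h' := congrArg Subtype.val h
    simp only [Φ, LinearMap.codRestrict_apply, LinearMap.comp_apply, LinearMap.sum_apply, Submodule.subtype_apply] at h'
    exact orbit_indep hi hy hσ hσr hj (fun _ => v - v') (by
      simp only [Submodule.coe_sub, map_sub, Finset.sum_sub_distrib, h', sub_self]) ⟨0, hr0⟩
  · obtain ⟨m, rfl⟩ : ∃ m, r = m + 1 := ⟨r - 1, by omega⟩
    let Ψ : (Fin m → D j) →ₗ[F] (Fin n → F) :=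
      ∑ i : Fin m, ((y ^ (i : ℕ)).comp (D j).subtype).comp (LinearMap.proj i)
    have hΨ : ∀ v, Ψ v = ∑ i : Fin m, (y ^ (i : ℕ)) (v i : Fin n → F) := fun v => by simp [Ψ]
    have hext : ∀ v : Fin m → D j, ∀ k : Fin (m + 1) → D j, (∀ i : Fin m, k i.castSucc = v i) → k (Fin.last m) = 0 →
        ∑ i : Fin (m + 1), (y ^ (i : ℕ)) (k i : Fin n → F) = Ψ v := fun v k h1 h2 => by
      rw [Fin.sum_univ_castSucc, h2, hΨ]
      simp [h1]
    have hker : ∀ v, Ψ v ∈ fix y → v = 0 := by
      intro v hv
      let k : Fin (m + 1) → D j := Fin.snoc v 0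
      let k' : Fin (m + 1) → D j := Fin.cons 0 v
      have e1 : ∑ i : Fin (m + 1), (y ^ (i : ℕ)) (k i : Fin n → F) = Ψ v := hext v k (fun i => by simp [k]) (by simp [k])
      have e2 : ∑ i : Fin (m + 1), (y ^ (i : ℕ)) (k' i : Fin n → F) = Ψ v := by
        rw [Fin.sum_univ_succ]
        simp only [k', Fin.cons_zero, Submodule.coe_zero, map_zero, zero_add, Fin.cons_succ, Fin.val_succ, pow_succ',
          Module.End.mul_apply, ← map_sum]
        rw [← hΨ]
        exact mem_fix.mp hv
      have h0 := orbit_indep hi hy hσ hσr hj (fun i => k i - k' i) (by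
        simp only [Submodule.coe_sub, map_sub, Finset.sum_sub_distrib, e1, e2, sub_self])
      have hall : ∀ i : Fin (m + 1), k i = k' i := fun i => sub_eq_zero.mp (h0 i)
      funext i
      obtain ⟨i, hi⟩ := i
      induction i with
      | zero =>
        have := hall (⟨0, hi⟩ : Fin m).castSucc
        rw [show k (⟨0, hi⟩ : Fin m).castSucc = v ⟨0, hi⟩ from Fin.snoc_castSucc (α := fun _ => D j) 0 v ⟨0, hi⟩,
          show k' (⟨0, hi⟩ : Fin m).castSucc = 0 from rfl] at this
        exact this
      | succ i ih =>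
        have := hall (⟨i + 1, hi⟩ : Fin m).castSucc
        rw [show k (⟨i + 1, hi⟩ : Fin m).castSucc = v ⟨i + 1, hi⟩ from Fin.snoc_castSucc (α := fun _ => D j) 0 v ⟨i + 1, hi⟩,
          show k' (⟨i + 1, hi⟩ : Fin m).castSucc = v ⟨i, by omega⟩ from rfl, ih (by omega)] at this
        exact this
    have hinj : Function.Injective Ψ := fun v v' h => sub_eq_zero.mp (hker _ (by rw [map_sub, h, sub_self]; exact zero_mem _))
    have hdis : LinearMap.range Ψ ⊓ fix y = ⊥ := by
      refine le_bot_iff.mp ?_
      rintro _ ⟨⟨v, rfl⟩, hv⟩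
      rw [hker v hv, map_zero]
      exact zero_mem _
    have h1 := Submodule.finrank_sup_add_finrank_inf_eq (LinearMap.range Ψ) (fix y)
    have h2 := Submodule.finrank_le (LinearMap.range Ψ ⊔ fix y)
    rw [hdis, finrank_bot, LinearMap.finrank_range_of_inj hinj, Module.finrank_pi_fintype] at h1
    rw [Module.finrank_fin_fun] at h2
    simp only [Finset.sum_const, Finset.card_univ, Fintype.card_fin, smul_eq_mul] at h1
    rw [Nat.add_sub_cancel]
    omega

/-- The symmetric group acts freely on ordered decompositions. -/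
theorem factorial_dvd_count [Fintype F] {n : ℕ} (a t : ℕ) :
    Nat.factorial t ∣ Nat.card {D : Fin t → Submodule F (Fin n → F) // Cfsg.Geo.IsMDecomposition a D} := by
  classical
  let X := {D : Fin t → Submodule F (Fin n → F) // Cfsg.Geo.IsMDecomposition a D}
  have : Finite (Submodule F (Fin n → F)) := Finite.of_injective (fun W => (W : Set (Fin n → F))) SetLike.coe_injective
  have hne : ∀ D : X, Function.Injective D.1 := fun D => D.2.indep.injective fun j h0 => by
    have := D.2.finrank_eq j
    rw [h0, finrank_bot] at this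
    exact D.2.pos.ne this
  let f : X → Set.range (fun D : X => Set.range D.1) := fun D => ⟨_, D, rfl⟩
  letI : Fintype (Set.range (fun D : X => Set.range D.1)) := Fintype.ofFinite _
  have hfib : ∀ R, Nat.card {D // f D = R} = Nat.factorial t := by
    rintro ⟨_, D₀, rfl⟩
    have hdec : ∀ σ : Equiv.Perm (Fin t), Cfsg.Geo.IsMDecomposition a (D₀.1 ∘ σ) := fun σ =>
      ⟨D₀.2.two_le, D₀.2.pos, fun i => D₀.2.finrank_eq _, D₀.2.indep.comp σ.injective,
        (σ.surjective.iSup_comp _).trans D₀.2.iSup_eq_top⟩
    let G : Equiv.Perm (Fin t) → {D // f D = f D₀} := fun σ =>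
      ⟨⟨D₀.1 ∘ σ, hdec σ⟩, Subtype.ext (σ.surjective.range_comp _)⟩
    have hG : Function.Bijective G := by
      constructor
      · intro σ τ h
        exact Equiv.ext fun i => hne D₀ (congrFun (congrArg (fun D => D.1.1) h) i)
      · rintro ⟨D, hD⟩
        have hr : Set.range D.1 = Set.range D₀.1 := congrArg Subtype.val hD
        have hex : ∀ i, ∃ k, D₀.1 k = D.1 i := fun i => hr.le ⟨i, rfl⟩
        choose k hk using hex
        have hk' : Function.Injective k := fun i i' e => hne D (by rw [← hk, ← hk, e])
        exact ⟨Equiv.ofBijective k (Finite.injective_iff_bijective.mp hk'), Subtype.ext (Subtype.ext (funext hk))⟩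
    show Nat.card {D // f D = f D₀} = _
    rw [← Nat.card_congr (Equiv.ofBijective G hG), Nat.card_perm, Nat.card_fin]
  rw [← Nat.card_congr (Equiv.sigmaFiberEquiv f), Nat.card_sigma, Finset.sum_congr rfl (fun R _ => hfib R),
    Finset.sum_const, smul_eq_mul]
  exact dvd_mul_left _ _

/-- A divisor of the number of decompositions divides some `q^m - 1`. -/
theorem exists_dvd_of_dvd_count [Fintype F] {n a t r : ℕ} (hr : r.Prime) (hrq : ¬ r ∣ Fintype.card F) (ha : 1 ≤ a)
    (ht : 2 ≤ t) (hat : n = a * t)
    (h : r ∣ Nat.card {D : Fin t → Submodule F (Fin n → F) // Cfsg.Geo.IsMDecomposition a D}) :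
    ∃ j, j < n ∧ r ∣ Fintype.card F ^ (n - j) - 1 := by
  classical
  let X := {D : Fin t → Submodule F (Fin n → F) // Cfsg.Geo.IsMDecomposition a D}
  let S := {s : Fin t × Fin a → (Fin n → F) // LinearIndependent F s}
  have : Finite (Submodule F (Fin n → F)) := Finite.of_injective (fun W => (W : Set (Fin n → F))) SetLike.coe_injective
  letI : Fintype X := Fintype.ofFinite X
  let f : S → X := fun s => ⟨_, decomp_of_family ht ha hat s.1 s.2⟩
  set N := Fintype.card F ^ (∑ j ∈ Finset.range a, j) * ∏ j ∈ Finset.range a, (Fintype.card F ^ (a - j) - 1) with hN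
  have hfib : ∀ D : X, Nat.card {s // f s = D} = N ^ t := by
    intro D
    let G : (∀ j, {u : Fin a → D.1 j // LinearIndependent F u}) → {s // f s = D} := fun g =>
      ⟨⟨fun e => (g e.1).1 e.2, indep_of_blocks D.1 D.2.indep (fun j l => ((g j).1 l : Fin n → F))
          (fun j l => ((g j).1 l).2) (fun j => (g j).2.map' _ (D.1 j).ker_subtype)⟩, Subtype.ext (funext fun j => by
        show Submodule.span F (Set.range ((D.1 j).subtype ∘ (g j).1)) = D.1 j
        rw [Set.range_comp, ← Submodule.map_span,
          (g j).2.span_eq_top_of_card_eq_finrank' (by rw [Fintype.card_fin, D.2.finrank_eq]),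
          Submodule.map_top, Submodule.range_subtype])⟩
    have hG : Function.Bijective G := by
      constructor
      · intro g g' e
        funext j
        exact Subtype.ext (funext fun l => Subtype.ext (congrFun (congrArg (fun s => s.1.1) e) (j, l)))
      · rintro ⟨s, hs⟩
        have hmem : ∀ j l, s.1 (j, l) ∈ D.1 j := fun j l =>
          (congrFun (congrArg Subtype.val hs) j).le (Submodule.subset_span ⟨l, rfl⟩)
        exact ⟨fun j => ⟨fun l => ⟨s.1 (j, l), hmem j l⟩, LinearIndependent.of_comp (D.1 j).subtype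
          (s.2.comp _ fun l l' e => (Prod.ext_iff.mp e).2)⟩, rfl⟩
    rw [← Nat.card_congr (Equiv.ofBijective G hG), Nat.card_pi,
      Finset.prod_congr rfl (fun j _ => card_frames (D.2.finrank_eq j) le_rfl), Finset.prod_const, Finset.card_univ,
      Fintype.card_fin]
  have h1 := Nat.card_congr (Equiv.sigmaFiberEquiv f)
  rw [Nat.card_sigma, Finset.sum_congr rfl (fun D _ => hfib D), Finset.sum_const, Finset.card_univ,
    ← Nat.card_eq_fintype_card, smul_eq_mul] at h1
  have h2 : Nat.card S = Nat.card {s : Fin n → (Fin n → F) // LinearIndependent F s} :=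
    Nat.card_congr (Equiv.subtypeEquiv ((finProdFinEquiv.trans (finCongr (by rw [hat, Nat.mul_comm]))).arrowCongr (Equiv.refl _))
      fun s => (linearIndependent_equiv _).symm)
  rw [h2, card_frames (Module.finrank_fin_fun F) le_rfl] at h1
  have h3 := Dvd.dvd.mul_right h (N ^ t)
  rw [h1] at h3
  rcases hr.dvd_mul.mp h3 with h4 | h4
  · exact absurd (hr.dvd_of_dvd_pow h4) hrq
  · obtain ⟨j, hj, hd⟩ := exists_of_dvd_qFactor hr h4
    exact ⟨j, hj, hd⟩

set_option maxHeartbeats 1600000 in
/-- Elements of odd prime order of PSL_n(q) and imprimitive subgroups. Here `T = PSL_n(F)` for a field `F` with `q = p^f` elements (`n ≥ 2`, `(n, q) ≠ (2, 2), (2, 3)`), `n = a·t` with `t ≥ 2`, and Ω is the set of direct-sum decompositions of `F^n` into `t` subspaces of dimension `a` (unordered; their number is the number of ordered ones divided by `t!`), whose stabilizers are the imprimitive subgroups of type GL_a(q) ≀ S_t (maximal except in some small cases; maximality is not assumed); an element of `T` of prime order `r` (a matrix `x`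 of determinant 1 with `x^r` scalar, `x` not scalar) fixes a point of Ω when it permutes the summands of some such decomposition. Let `r ≠ p` be an odd prime dividing the number of such decompositions, let `c` be the multiplicative order of `q` modulo `r`, and write `k = n mod c`, `ℓ = a mod c`. Then every element of `T` of order `r` stabilizes such a decomposition if and only if either `a = 1`, `c = r − 1 > 1` and `n ≤ k·r`, or `c ≤ a` and `k = t·ℓ`. -/
theorem result {F : Type*} [Field F] [Fintype F] {p : ℕ} [Fact p.Prime] [CharP F p] {q : ℕ} (hq : Fintype.card F = q)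
    (n a t : ℕ) (hn : 2 ≤ n) (hT : (n, q) ≠ (2, 2) ∧ (n, q) ≠ (2, 3)) (hat : n = a * t) (ha : 1 ≤ a) (ht : 2 ≤ t)
    (r : ℕ) [Fact r.Prime] (hr2 : r ≠ 2) (hrp : r ≠ p) (hΩ : r ∣ Nat.card {D : Fin t → Submodule F (Fin n → F) // Cfsg.Geo.IsMDecomposition a D} / Nat.factorial t)
    (c : ℕ) (hc : c = orderOf (q : ZMod r)) :
    (∀ x : Matrix.SpecialLinearGroup (Fin n) F,
      (∃ z : F, ((x ^ r : Matrix.SpecialLinearGroup (Fin n) F) : Matrix (Fin n) (Fin n) F) = z • (1 : Matrix (Fin n) (Fin n) F)) →
      (∀ z : F, (x : Matrix (Fin n) (Fin n) F) ≠ z • (1 : Matrix (Fin n) (Fin n) F)) →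
      ∃ D : Fin t → Submodule F (Fin n → F), Cfsg.Geo.IsMDecomposition a D ∧
        ∃ σ : Equiv.Perm (Fin t), ∀ j, (D j).map (Matrix.toLin' (x : Matrix (Fin n) (Fin n) F)) = D (σ j)) ↔
    ((a = 1 ∧ 1 < c ∧ c = r - 1 ∧ n ≤ (n % c) * r) ∨ (c ≤ a ∧ n % c = t * (a % c))) := by
  classical
  subst hq
  have hrP : r.Prime := Fact.out
  have hr0 : (r : F) ≠ 0 := natCast_ne_zero_of_ne (p := p) hrp
  have hc0 : 0 < c := hc ▸ orderOf_card_pos hr0
  have hcr : c ∣ r - 1 := by
    rw [hc]; exact orderOf_dvd_of_pow_eq_one (ZMod.pow_card_sub_one_eq_one (natCast_ne_zero hr0))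
  obtain ⟨e₁, -, he₁⟩ := FiniteField.card F p
  have hrq : ¬ r ∣ Fintype.card F := by
    rw [he₁]
    exact fun h => hrp ((Nat.prime_dvd_prime_iff_eq hrP Fact.out).mp (hrP.dvd_of_dvd_pow h))
  have hcn : c ≤ n := by
    have hcount : r ∣ Nat.card {D : Fin t → Submodule F (Fin n → F) // Cfsg.Geo.IsMDecomposition a D} := by
      by_cases hd : Nat.factorial t ∣ Nat.card {D : Fin t → Submodule F (Fin n → F) // Cfsg.Geo.IsMDecomposition a D}
      · exact hΩ.trans (Nat.div_dvd_of_dvd hd)
      · refine absurd ?_ hd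
        exact factorial_dvd_count a t
    obtain ⟨j, hj, hd⟩ := exists_dvd_of_dvd_count hrP hrq ha ht hat hcount
    rw [dvd_pow_sub_one_iff, ← hc] at hd
    have := Nat.le_of_dvd (by omega) hd
    omega
  have hrpos := hrP.two_le
  -- facts about an element permuting the summands
  have facts : ∀ (y : Module.End F (Fin n → F)) (D : Fin t → Submodule F (Fin n → F)) (σ : Equiv.Perm (Fin t)),
      y ^ r = 1 → Cfsg.Geo.IsMDecomposition a D → (∀ j, (D j).map y = D (σ j)) →
      Function.Injective y ∧ σ ^ r = 1 ∧
        ((∀ j, σ j = j) → t * (a % c) ≤ finrank F (fix y) ∧ (a < c → fix y = ⊤)) := by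
    intro y D σ hy hD hσ
    have hinj : Function.Injective y := by
      refine Function.LeftInverse.injective (g := ⇑(y ^ (r - 1))) fun v => ?_
      rw [← Module.End.mul_apply, ← pow_succ, Nat.sub_add_cancel hrP.one_le, hy, Module.End.one_apply]
    have hDne : ∀ j, D j ≠ ⊥ := fun j h0 => by
      have := hD.finrank_eq j
      rw [h0, finrank_bot] at this
      omega
    have hpowmap : ∀ (k : ℕ) (j : Fin t), (D j).map (y ^ k) = D ((σ ^ k) j) := by
      intro k
      induction k with
      | zero => intro j; exact Submodule.map_id _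
      | succ k ih =>
        intro j
        rw [pow_succ', Module.End.mul_eq_comp, Submodule.map_comp, ih, hσ, pow_succ', Equiv.Perm.mul_apply]
    have hσr : σ ^ r = 1 := Equiv.ext fun j => by
      have h := hpowmap r j
      rw [hy] at h
      exact (hD.indep.injective hDne (h.symm.trans (Submodule.map_id _)))
    refine ⟨hinj, hσr, fun hall => ?_⟩
    have hinv : ∀ j, Inv y (D j) := fun j => ((hσ j).trans (by rw [hall j])).le
    have hdim : ∀ j, a % c ≤ finrank F ↥(D j ⊓ fix y) ∧ (a < c → D j ≤ fix y) := by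
      intro j
      obtain ⟨s, hs, -⟩ := exists_dims hr0 hy (hinv j)
      rw [hD.finrank_eq j, ← hc] at hs
      refine ⟨?_, fun hac => ?_⟩
      · have : a % c = finrank F ↥(D j ⊓ fix y) % c := by rw [hs, Nat.add_mul_mod_self_right]
        rw [this]; exact Nat.mod_le _ _
      · rcases s with _ | s
        · exact inf_eq_left.mp (Submodule.eq_of_le_of_finrank_le inf_le_left (by rw [hD.finrank_eq j]; omega))
        · rw [Nat.add_mul, Nat.one_mul] at hs; omega
    refine ⟨?_, fun hac => top_le_iff.mp (hD.iSup_eq_top ▸ iSup_le fun j => (hdim j).2 hac)⟩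
    let Sm : (∀ j, ↥(D j ⊓ fix y)) →ₗ[F] fix y :=
      { toFun := fun v => ∑ j, Submodule.inclusion inf_le_right (v j)
        map_add' := fun v w => by simp [Finset.sum_add_distrib]
        map_smul' := fun e v => by simp [Finset.smul_sum] }
    have hSm : Function.Injective Sm := by
      intro v w e
      have e' := congrArg Subtype.val e
      simp only [Sm, LinearMap.coe_mk, AddHom.coe_mk, Submodule.coe_sum, Submodule.coe_inclusion] at e'
      funext j
      refine Subtype.ext (sub_eq_zero.mp ?_)
      exact (iSupIndep_iff_finset_sum_eq_zero_imp_eq_zero D).mp hD.indep Finset.univ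
        (fun j => (v j : Fin n → F) - (w j : Fin n → F)) (fun j _ => (D j).sub_mem (v j).2.1 (w j).2.1)
        (by rw [Finset.sum_sub_distrib, e', sub_self]) j (Finset.mem_univ _)
    have h := LinearMap.finrank_le_finrank_of_injective hSm
    rw [Module.finrank_pi_fintype] at h
    refine le_trans ?_ h
    calc t * (a % c) = ∑ _j : Fin t, a % c := by simp
      _ ≤ _ := Finset.sum_le_sum fun j _ => (hdim j).1
  -- witnesses
  have witness : ∀ s, 0 < s → 2 ≤ c → s * c ≤ n →
      (∀ x : Matrix.SpecialLinearGroup (Fin n) F,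
        (∃ z : F, ((x ^ r : Matrix.SpecialLinearGroup (Fin n) F) : Matrix (Fin n) (Fin n) F) = z • 1) →
        (∀ z : F, (x : Matrix (Fin n) (Fin n) F) ≠ z • 1) →
        ∃ D : Fin t → Submodule F (Fin n → F), Cfsg.Geo.IsMDecomposition a D ∧
          ∃ σ : Equiv.Perm (Fin t), ∀ j, (D j).map (Matrix.toLin' (x : Matrix (Fin n) (Fin n) F)) = D (σ j)) →
      ∃ (y : Module.End F (Fin n → F)) (D : Fin t → Submodule F (Fin n → F)) (σ : Equiv.Perm (Fin t)),
        y ^ r = 1 ∧ finrank F (fix y) = n - s * c ∧ Cfsg.Geo.IsMDecomposition a D ∧ ∀ j, (D j).map y = D (σ j) := by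
    intro s hs hc2 hsn h
    rw [hc] at hc2 hsn
    obtain ⟨x, hxr, hxf, hns⟩ := exists_type (F := F) (r := r) (p := p) (n := n) s hs hc2 hsn
    obtain ⟨D, hD, σ, hσ⟩ := h x ⟨1, by rw [pow_eq_smul_iff, one_smul]; exact hxr⟩ hns
    exact ⟨_, D, σ, hxr, by rw [hxf, hc], hD, hσ⟩
  have hdivc := Nat.div_add_mod n c
  constructor
  · intro h
    rcases le_or_gt c a with hca | hca
    · refine Or.inr ⟨hca, ?_⟩
      rcases eq_or_ne c 1 with h1 | h1
      · simp [h1, Nat.mod_one]
      by_contra hne
      have hca' : a ≤ n := by rw [hat]; exact Nat.le_mul_of_pos_right a (by omega)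
      have hpos : 0 < n / c := Nat.div_pos hcn hc0
      obtain ⟨y, D, σ, hy, hyf, hD, hσ⟩ := witness (n / c) hpos (by omega) (Nat.div_mul_le_self n c) h
      obtain ⟨hinj, hσr, hall⟩ := facts y D σ hy hD hσ
      have hk : n % c < c := Nat.mod_lt _ hc0
      have hfk : finrank F (fix y) = n % c := by rw [hyf, Nat.mul_comm]; omega
      by_cases hmov : ∀ j, σ j = j
      · have h2 := (hall hmov).1
        have hcong : (t * (a % c)) % c = n % c := by
          rw [hat, Nat.mul_comm a t, Nat.mul_mod, Nat.mod_mod, ← Nat.mul_mod]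
        rw [hfk] at h2
        exact hne (by rw [← hcong, Nat.mod_eq_of_lt (by omega)])
      · push Not at hmov
        obtain ⟨j, hj⟩ := hmov
        have h2 := (le_fix_of_moved hD.indep hinj hσ hy hσr hj).1
        rw [hD.finrank_eq, hfk] at h2
        omega
    · refine Or.inl ?_
      obtain ⟨y, D, σ, hy, hyf, hD, hσ⟩ := witness 1 Nat.one_pos (by omega) (by omega) h
      obtain ⟨hinj, hσr, hall⟩ := facts y D σ hy hD hσ
      by_cases hmov : ∀ j, σ j = j
      · have h2 := (hall hmov).2 hca
        rw [h2, finrank_top, Module.finrank_fin_fun] at hyf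
        omega
      push Not at hmov
      obtain ⟨j, hj⟩ := hmov
      have h2 := (le_fix_of_moved hD.indep hinj hσ hy hσr hj).2
      rw [hD.finrank_eq, hyf] at h2
      have hcle : c ≤ r - 1 := Nat.le_of_dvd (by omega) hcr
      have ha1 : a = 1 := by
        rcases Nat.eq_or_lt_of_le ha with h3 | h3
        · exact h3.symm
        · have : (r - 1) * 2 ≤ (r - 1) * a := Nat.mul_le_mul_left _ h3
          omega
      subst ha1
      rw [Nat.one_mul] at hat
      subst hat
      refine ⟨rfl, hca, by rw [Nat.mul_one] at h2; omega, ?_⟩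
      obtain ⟨y, D, σ, hy, hyf, hD, hσ⟩ :=
        witness (n / c) (Nat.div_pos hcn hc0) (by omega) (Nat.div_mul_le_self n c) h
      have hfk : finrank F (fix y) = n % c := by rw [hyf, Nat.mul_comm]; omega
      obtain ⟨hinj, -, -⟩ := facts y D σ hy hD hσ
      choose v hv using fun j => Submodule.exists_mem_ne_zero_of_ne_bot (show D j ≠ ⊥ from fun h0 => by
        have := hD.finrank_eq j; rw [h0, finrank_bot] at this; omega)
      have hspan : ∀ j, Submodule.span F {v j} = D j := fun j => Submodule.eq_of_le_of_finrank_le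
        ((Submodule.span_singleton_le_iff_mem _ _).mpr (hv j).1) (by
          rw [hD.finrank_eq, finrank_span_singleton (hv j).2])
      have hli : LinearIndependent F v := hD.indep.linearIndependent _ (fun j => (hv j).1) (fun j => (hv j).2)
      have hroot : ∀ e : F, e ^ r = 1 → e = 1 := by
        intro e he
        by_contra hne
        have he0 : e ≠ 0 := fun h0 => by rw [h0, zero_pow hrP.ne_zero] at he; exact zero_ne_one he
        have hd : r ∣ Fintype.card F - 1 := by
          rw [← Fintype.card_units, ← orderOf_eq_prime (x := Units.mk0 e he0) (p := r) (Units.ext (by simpa using he))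
            (fun h => hne (by simpa using congrArg Units.val h))]
          exact orderOf_dvd_card
        rw [← orderOf_card_eq_one_iff, ← hc] at hd
        omega
      have : Nonempty (Fin n) := ⟨⟨0, by omega⟩⟩
      have := le_mul_fix hr0 hy hroot (basisOfLinearIndependentOfCardEqFinrank hli (by simp)) σ (fun j => by
        have hm : y (v j) ∈ Submodule.span F {v (σ j)} := by rw [hspan, ← hσ]; exact ⟨_, (hv j).1, rfl⟩
        obtain ⟨e, he⟩ := Submodule.mem_span_singleton.mp hm
        refine ⟨e, fun h0 => (hv j).2 (hinj ?_), by simpa using he.symm⟩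
        rw [← he, h0, zero_smul, map_zero])
      rw [hfk, Nat.mul_comm] at this
      exact this
  · intro hcases x hx hns
    obtain ⟨z, hz⟩ := hx
    have : Nonempty (Fin n) := ⟨⟨0, by omega⟩⟩
    have hz0 : z ≠ 0 := fun h0 => by
      have hd := congrArg Matrix.det hz
      rw [Matrix.SpecialLinearGroup.det_coe, h0, zero_smul, Matrix.det_zero] at hd
      exact one_ne_zero hd
    rw [pow_eq_smul_iff] at hz
    set g : Module.End F (Fin n → F) := Matrix.toLin' (x : Matrix (Fin n) (Fin n) F) with hg
    have hginj : Function.Injective g :=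
      Matrix.mulVec_injective_of_isUnit ((Matrix.isUnit_iff_isUnit_det _).mpr (by rw [x.2]; exact isUnit_one))
    by_cases hpw : ∃ b : F, b ^ r = z
    · obtain ⟨e, he⟩ := hpw
      have he0 : e ≠ 0 := fun h0 => hz0 (by rw [← he, h0, zero_pow hrP.ne_zero])
      set y := e⁻¹ • g with hy'
      have hy : y ^ r = 1 := pow_eq_scalar_lift he0 (by rw [he]; exact hz)
      have hmap : ∀ W : Submodule F (Fin n → F), W.map g = W.map y := fun W => by
        rw [hy', Submodule.map_smul g W _ (inv_ne_zero he0)]
      have hyinj : Function.Injective y := fun u w h => hginj (by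
        have h' := congrArg (e • ·) h
        simpa [hy', smul_smul, mul_inv_cancel₀ he0] using h')
      rcases hcases with ⟨ha1, hc1, hcr1, hnk⟩ | ⟨hca, hk⟩
      · subst ha1
        rw [Nat.one_mul] at hat
        subst hat
        obtain ⟨s, hs, -⟩ := exists_dims hr0 hy (W := ⊤) le_top
        rw [← hc, hcr1] at hs
        have hsf : s ≤ finrank F ↥((⊤ : Submodule F (Fin n → F)) ⊓ fix y) := by
          rw [finrank_top, Module.finrank_fin_fun] at hs
          set f := finrank F ↥((⊤ : Submodule F (Fin n → F)) ⊓ fix y)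
          have hfm : n % c = f % c := by rw [hs, hcr1, Nat.add_mul_mod_self_right]
          have hfle : f % c ≤ f := Nat.mod_le _ _
          have hkr : n % c * r = n % c + n % c * (r - 1) := by
            conv_lhs => rw [show r = 1 + (r - 1) by omega, Nat.mul_add, Nat.mul_one]
          have : s * (r - 1) ≤ (n % c) * (r - 1) := by omega
          have := Nat.le_of_mul_le_mul_right this (by omega)
          omega
        obtain ⟨T, hT, hTs, hTy⟩ := exists_perm_set hr0 hy (by rw [← hc, hcr1]) s ⊤ le_top ⟨hs, hsf⟩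
        have hfin : Finite T := hT.finite
        letI : Fintype T := Fintype.ofFinite T
        let bT := Basis.mk (v := ((↑) : T → (Fin n → F))) hT (by rw [Subtype.range_coe, hTs])
        have hcT : Fintype.card T = n := by rw [← Module.finrank_eq_card_basis bT, Module.finrank_fin_fun]
        let eT : Fin n ≃ T := (Fintype.equivFinOfCardEq hcT).symm
        let π : Fin n → Fin n := fun j => eT.symm ⟨y (eT j), hTy _ (eT j).2⟩
        have hπ : Function.Injective π := fun j k h => eT.injective (Subtype.ext (hyinj (congrArg Subtype.val (eT.symm.injective h))))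
        let σ : Equiv.Perm (Fin n) := Equiv.ofBijective π (Finite.injective_iff_bijective.mp hπ)
        let b : Fin n × Fin 1 → (Fin n → F) := fun e => (eT e.1 : Fin n → F)
        have hb : LinearIndependent F b :=
          (hT : LinearIndependent F ((↑) : T → (Fin n → F))).comp _
            (fun e e' h => Prod.ext (eT.injective h) (Subsingleton.elim _ _))
        refine ⟨_, decomp_of_family ht Nat.one_pos (Nat.one_mul n).symm b hb, σ, fun j => ?_⟩
        rw [hmap, Submodule.map_span, ← Set.range_comp]
        refine congrArg (Submodule.span F) (congrArg Set.range (funext fun l => ?_))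
        show y (eT j : Fin n → F) = (eT (π j) : Fin n → F)
        simp [π]
      · obtain ⟨b, hb, -, hinv⟩ := exists_fixed_blocks hr0 hy (a := a) t ⊤ le_top ⟨by
          rw [finrank_top, Module.finrank_fin_fun, hat], by
          rw [← hc, ← hk]
          obtain ⟨s, hs, -⟩ := exists_dims hr0 hy (W := ⊤) le_top
          rw [← hc, finrank_top, Module.finrank_fin_fun] at hs
          exact ((congrArg (· % c) hs).trans (Nat.add_mul_mod_self_right _ _ _)).le.trans (Nat.mod_le _ _)⟩
        refine ⟨_, decomp_of_family ht ha hat b hb, 1, fun j => ?_⟩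
        rw [hmap]
        exact map_eq_of_le hyinj (hinv j) le_rfl
    · push Not at hpw
      have hdvd : r ∣ n := by
        have h := (det_nonpower hpw hz).1
        rwa [Module.finrank_fin_fun] at h
      by_cases hra : r ∣ a
      · obtain ⟨b, hb, -, hinv⟩ := exists_blocks (y := g) (a := a) (fun m W => finrank F W = a * m) (by
          intro m W hW hd
          obtain ⟨k, hk⟩ := hra
          obtain ⟨U, hU, hUW, hUd⟩ := exists_dims_nonpower hr0 hpw hz hW k (by
            rw [hd, Nat.mul_add, Nat.mul_one, Nat.mul_comm k r, ← hk]; omega)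
          obtain ⟨U', hU', -, hinf, hsup⟩ := exists_invariant_complement hr0 hz0 hz hW hU hUW
          have h5 := Submodule.finrank_sup_add_finrank_inf_eq U U'
          rw [hinf, hsup, finrank_bot, hUd, hd, Nat.mul_comm k r, ← hk, Nat.mul_add, Nat.mul_one] at h5
          exact ⟨U, U', hU, hU', hinf, hsup, by rw [hUd, Nat.mul_comm, ← hk], by omega⟩) t ⊤ le_top (by
          rw [finrank_top, Module.finrank_fin_fun, hat])
        refine ⟨_, decomp_of_family ht ha hat b hb, 1, fun j => ?_⟩
        exact map_eq_of_le hginj (hinv j) le_rfl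
      · obtain ⟨t', rfl⟩ : r ∣ t := (hrP.dvd_mul.mp (hat ▸ hdvd)).resolve_left hra
        have hnK : n = r * (t' * a) := by rw [hat]; ring
        obtain ⟨b, hb, -, hinv⟩ := exists_blocks (y := g) (a := r) (fun m W => finrank F W = r * m) (by
          intro m W hW hd
          obtain ⟨U, hU, hUW, hUd⟩ := exists_dims_nonpower hr0 hpw hz hW 1 (by
            rw [hd, Nat.one_mul, Nat.mul_add, Nat.mul_one]; omega)
          obtain ⟨U', hU', -, hinf, hsup⟩ := exists_invariant_complement hr0 hz0 hz hW hU hUW
          have h5 := Submodule.finrank_sup_add_finrank_inf_eq U U'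
          rw [hinf, hsup, finrank_bot, hUd, hd, Nat.mul_add, Nat.mul_one] at h5
          rw [Nat.one_mul] at hUd
          exact ⟨U, U', hU, hU', hinf, hsup, hUd, by omega⟩) (t' * a) ⊤ le_top (by
          rw [finrank_top, Module.finrank_fin_fun, hnK])
        have hv0 : ∀ k, b (k, ⟨0, hrP.pos⟩) ≠ 0 := fun k => hb.ne_zero _
        let v : Fin (t' * a) → (Fin n → F) := fun k => b (k, ⟨0, hrP.pos⟩)
        let DK : Fin (t' * a) → Submodule F (Fin n → F) := fun k => Submodule.span F (Set.range fun l => b (k, l))
        have hDKi : iSupIndep DK := by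
          refine iSupIndep_def.mpr fun k => ?_
          refine (hb.disjoint_span_image (s := {e | e.1 = k}) (t := {e | e.1 ≠ k})
            (Set.disjoint_left.mpr fun e h1 h2 => h2 h1)).mono ?_ ?_
          · exact Submodule.span_le.mpr (by rintro _ ⟨l, rfl⟩; exact Submodule.subset_span ⟨(k, l), rfl, rfl⟩)
          · exact iSup₂_le fun k' hk => Submodule.span_le.mpr (by
              rintro _ ⟨l, rfl⟩; exact Submodule.subset_span ⟨(k', l), hk, rfl⟩)
        have hvD : ∀ (k : Fin (t' * a)) (i : ℕ), (g ^ i) (v k) ∈ DK k := by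
          intro k i
          induction i with
          | zero => exact Submodule.subset_span ⟨⟨0, hrP.pos⟩, by simp [v]⟩
          | succ i ih => rw [pow_succ', Module.End.mul_apply]; exact inv_apply (hinv k) ih
        have horb : ∀ k, LinearIndependent F fun i : Fin r => (g ^ (i : ℕ)) (v k) := by
          intro k
          refine linearIndependent_iff_card_eq_finrank_span.mpr ?_
          rw [Fintype.card_fin]
          refine le_antisymm ?_ ((finrank_range_le_card _).trans_eq (Fintype.card_fin r))
          have hSinv : Inv g (Submodule.span F (Set.range fun i : Fin r => (g ^ (i : ℕ)) (v k))) :=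
            Submodule.map_le_iff_le_comap.mpr (Submodule.span_le.mpr (by
              rintro _ ⟨i, rfl⟩
              show g ((g ^ (i : ℕ)) (v k)) ∈ Submodule.span F _
              rw [← Module.End.mul_apply, ← pow_succ']
              rcases Nat.lt_or_ge ((i : ℕ) + 1) r with h | h
              · exact Submodule.subset_span ⟨⟨_, h⟩, rfl⟩
              · rw [show (i : ℕ) + 1 = r by omega, hz, LinearMap.smul_apply, Module.End.one_apply]
                exact Submodule.smul_mem _ z (Submodule.subset_span ⟨⟨0, hrP.pos⟩, by simp⟩)))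
          refine Nat.le_of_dvd (Nat.pos_of_ne_zero fun h0 => hv0 k ?_) (dvd_finrank_of_nonpower hrP hpw hz hSinv)
          have hm : v k ∈ Submodule.span F (Set.range fun i : Fin r => (g ^ (i : ℕ)) (v k)) :=
            Submodule.subset_span ⟨⟨0, hrP.pos⟩, by simp⟩
          rwa [Submodule.finrank_eq_zero.mp h0, Submodule.mem_bot] at hm
        have hall := indep_of_blocks DK hDKi (fun k (i : Fin r) => (g ^ (i : ℕ)) (v k)) (fun k i => hvD k i) horb
        let ix : Fin (r * t') × Fin a → Fin (t' * a) × Fin r := fun e =>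
          (finProdFinEquiv (((finProdFinEquiv.symm e.1 : Fin r × Fin t')).2, e.2), (finProdFinEquiv.symm e.1 : Fin r × Fin t').1)
        have hix : Function.Injective ix := fun e e' h => by
          obtain ⟨h1, h2⟩ := Prod.ext_iff.mp h
          obtain ⟨h3, h4⟩ := Prod.ext_iff.mp (finProdFinEquiv.injective h1)
          exact Prod.ext (finProdFinEquiv.symm.injective (Prod.ext h2 h3)) h4
        let b' : Fin (r * t') × Fin a → (Fin n → F) := fun e => (g ^ (((ix e).2 : Fin r) : ℕ)) (v (ix e).1)
        have hb' : LinearIndependent F b' := by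
          have := hall.comp ix hix
          exact this
        let σ : Equiv.Perm (Fin (r * t')) :=
          (finProdFinEquiv.symm.trans (Equiv.prodCongr (finRotate r) (Equiv.refl _))).trans finProdFinEquiv
        have hD := decomp_of_family ht ha hat b' hb'
        refine ⟨_, hD, σ, fun j => map_eq_of_le hginj ?_ (by rw [hD.finrank_eq, hD.finrank_eq])⟩
        refine Submodule.map_le_iff_le_comap.mpr (Submodule.span_le.mpr ?_)
        rintro _ ⟨l, rfl⟩
        show g (b' (j, l)) ∈ Submodule.span F (Set.range fun l => b' (σ j, l))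
        set i := (finProdFinEquiv.symm j).1 with hi
        set u := v (finProdFinEquiv ((finProdFinEquiv.symm j).2, l)) with hu
        have hσl : b' (σ j, l) = (g ^ ((finRotate r i : Fin r) : ℕ)) u := by
          simp only [b', ix, σ, hi, hu, Equiv.trans_apply, Equiv.prodCongr_apply, Prod.map, Equiv.symm_apply_apply, Equiv.refl_apply]
        have hbj : g (b' (j, l)) = (g ^ ((i : ℕ) + 1)) u := by rw [pow_succ', Module.End.mul_apply]
        obtain ⟨m, rfl⟩ : ∃ m, r = m + 1 := ⟨r - 1, by omega⟩
        by_cases hlast : i = Fin.last m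
        · rw [hbj, hlast, Fin.val_last, hz, LinearMap.smul_apply, Module.End.one_apply]
          refine Submodule.smul_mem _ z (Submodule.subset_span ⟨l, ?_⟩)
          show b' (σ j, l) = u
          rw [hσl, hlast, finRotate_last]
          simp
        · refine Submodule.subset_span ⟨l, ?_⟩
          show b' (σ j, l) = g (b' (j, l))
          rw [hσl, hbj, coe_finRotate_of_ne_last hlast]

end Cfsg.Agent.S5958
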