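import Cfsg.Statements.S5959
import Cfsg.Agent.EqLemmas
import Cfsg.Agent.Lib.PrimeOrderElt.Unipotent

set_option autoImplicit false
open scoped MatrixGroups
open Cfsg

namespace Cfsg.Agent.S5959

open Cfsg.Agent.PrimeOrderElt Module

/-- Elements of order `p` of PSL_n(q) and imprimitive subgroups: a necessary condition. Here `T = PSL_n(F)` for a field `F` with `q = p^f` elements (`n ≥ 2`, `(n, q) ≠ (2, 2), (2, 3)`), `n = a·t` with `t ≥ 2`, and Ω is the set of direct-sum decompositions of `F^n` into `t` subspaces of dimension `a` (unordered; their number is the number of ordered ones divided by `t!`), whose stabilizers are the imprimitive subgroups of type GL_a(q) ≀ S_t (maximal except in some small cases; maximality is not assumed); an element of `T` of prime order `r` (a matrix `x` of determinant 1 with `x^r` scalar, `x` not scalar) fixes a point of Ω when it permutes the summands of some such decomposition. Suppose `p > 2` divides the number of such decompositions. If every element of `T` of order `p` stabilizes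 such a decomposition, then every partition of `n` into parts of size at most `p` in which the part `p` occurs fewer than `a` times contains (as a sub-multiset) a partition of `a`. -/
theorem result {F : Type*} [Field F] [Fintype F] {p : ℕ} [Fact p.Prime] [CharP F p] {q : ℕ} (hq : Fintype.card F = q)
    (n a t : ℕ) (hn : 2 ≤ n) (hT : (n, q) ≠ (2, 2) ∧ (n, q) ≠ (2, 3)) (hat : n = a * t) (ha : 1 ≤ a) (ht : 2 ≤ t)
    (hp : 2 < p) (hΩ : p ∣ Nat.card {D : Fin t → Submodule F (Fin n → F) // Cfsg.Geo.IsMDecomposition a D} / Nat.factorial t)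
    (h : ∀ x : Matrix.SpecialLinearGroup (Fin n) F,
      (∃ z : F, ((x ^ p : Matrix.SpecialLinearGroup (Fin n) F) : Matrix (Fin n) (Fin n) F) = z • (1 : Matrix (Fin n) (Fin n) F)) →
      (∀ z : F, (x : Matrix (Fin n) (Fin n) F) ≠ z • (1 : Matrix (Fin n) (Fin n) F)) →
      ∃ D : Fin t → Submodule F (Fin n → F), Cfsg.Geo.IsMDecomposition a D ∧
        ∃ σ : Equiv.Perm (Fin t), ∀ j, (D j).map (Matrix.toLin' (x : Matrix (Fin n) (Fin n) F)) = D (σ j)) :
    (∀ μ : Multiset ℕ, (∀ b ∈ μ, 0 < b ∧ b ≤ p) → μ.sum = n → μ.count p < a → ∃ ν : Multiset ℕ, ν ≤ μ ∧ ν.sum = a) := by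
  classical
  intro μ hμ hsum hcount
  have ha' : a ≤ n := by rw [hat]; exact Nat.le_mul_of_pos_right a (by omega)
  by_cases h2 : ∃ b ∈ μ, 2 ≤ b
  swap
  · push Not at h2
    have h1 : μ = Multiset.replicate μ.card 1 :=
      Multiset.eq_replicate_card.mpr fun b hb => by have := h2 b hb; have := (hμ b hb).1; omega
    rw [h1, Multiset.sum_replicate, smul_eq_mul, Nat.mul_one] at hsum
    refine ⟨Multiset.replicate a 1, ?_, by rw [Multiset.sum_replicate, smul_eq_mul, Nat.mul_one]⟩
    rw [h1, hsum]
    exact (Multiset.replicate_le_replicate 1).mpr ha'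
  obtain ⟨x, N, hxN, hN, hNj, hns, hxp⟩ := exists_unipotent (F := F) μ hμ hsum h2
  obtain ⟨D, hD, σ, hσ⟩ := h x ⟨1, hxp⟩ hns
  set g : Module.End F (Fin n → F) := Matrix.toLin' (x : Matrix (Fin n) (Fin n) F) with hg
  have : Nonempty (Fin n) := ⟨⟨0, by omega⟩⟩
  have hgp : g ^ p = 1 := by rw [hxN, add_one_pow_char, hN, zero_add]
  have hpowmap : ∀ (k : ℕ) (j : Fin t), (D j).map (g ^ k) = D ((σ ^ k) j) := by
    intro k
    induction k with
    | zero => intro j; exact Submodule.map_id _
    | succ k ih =>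
      intro j
      rw [pow_succ', Module.End.mul_eq_comp, Submodule.map_comp, ih, hσ, pow_succ', Equiv.Perm.mul_apply]
  have hDne : ∀ j, D j ≠ ⊥ := fun j h0 => by
    have := hD.finrank_eq j
    rw [h0, finrank_bot] at this
    omega
  have hfix : ∀ j, σ j = j := by
    intro j
    by_contra hj
    have hper : (σ ^ p) j = j := by
      have := hpowmap p j
      rw [hgp] at this
      exact (hD.indep.injective hDne (this.symm.trans (Submodule.map_id _)))
    have hne : ∀ i, 0 < i → i < p → (σ ^ i) j ≠ j := by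
      intro i hi hip h0
      have h1 : Function.IsPeriodicPt σ (Nat.gcd i p) j :=
        Function.IsPeriodicPt.gcd (show Function.IsPeriodicPt σ i j by rwa [Function.IsPeriodicPt, Function.IsFixedPt, Equiv.Perm.iterate_eq_pow])
          (show Function.IsPeriodicPt σ p j by rwa [Function.IsPeriodicPt, Function.IsFixedPt, Equiv.Perm.iterate_eq_pow])
      rw [show Nat.gcd i p = 1 from ((Nat.Prime.coprime_iff_not_dvd Fact.out).mpr
        (Nat.not_dvd_of_pos_of_lt hi hip)).symm.gcd_eq_one] at h1
      exact hj h1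
    have hid : (N : Module.End F (Fin n → F)) ^ (p - 1) = ∑ i ∈ Finset.range p, g ^ i := by
      have hpoly : ((Polynomial.X : Polynomial F) - 1) ^ (p - 1) = ∑ i ∈ Finset.range p, (Polynomial.X : Polynomial F) ^ i := by
        refine mul_left_cancel₀ (Polynomial.X_sub_C_ne_zero (1 : F)) ?_
        rw [map_one, mul_geom_sum, ← pow_succ', Nat.sub_add_cancel (Fact.out : p.Prime).one_lt.le,
          sub_pow_char, one_pow]
      have := congrArg (Polynomial.aeval g) hpoly
      simp only [map_pow, map_sub, map_sum, Polynomial.aeval_X, map_one] at this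
      rw [← this, hxN, add_sub_cancel_right]
    have hinj : D j ⊓ LinearMap.ker (N ^ (p - 1)) = ⊥ := by
      rw [eq_bot_iff]
      rintro v ⟨hv, hv0⟩
      rw [SetLike.mem_coe, LinearMap.mem_ker, hid, LinearMap.sum_apply] at hv0
      rw [← (hD.indep j).eq_bot]
      refine ⟨hv, ?_⟩
      rw [← Finset.sum_erase_add _ _ (Finset.mem_range.mpr (Fact.out : p.Prime).pos), pow_zero,
        Module.End.one_apply, add_eq_zero_iff_neg_eq] at hv0
      rw [← hv0]
      refine Submodule.neg_mem _ (Submodule.sum_mem _ fun i hi => ?_)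
      obtain ⟨hi0, hip⟩ := Finset.mem_erase.mp hi
      have hmem : (g ^ i) v ∈ D ((σ ^ i) j) := hpowmap i j ▸ ⟨v, hv, rfl⟩
      exact Submodule.mem_iSup_of_mem _ (Submodule.mem_iSup_of_mem
        (hne i (Nat.pos_of_ne_zero hi0) (Finset.mem_range.mp hip)) hmem)
    have hle : a ≤ finrank F ↥(LinearMap.range (N ^ (p - 1))) := by
      rw [← hD.finrank_eq j]
      have hmap : finrank F ↥((D j).map (N ^ (p - 1))) = finrank F ↥(D j) := by
        refine (LinearEquiv.ofBijective ((N ^ (p - 1)).submoduleMap (D j)) ⟨?_, LinearMap.submoduleMap_surjective _ _⟩).finrank_eq.symm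
        rw [← LinearMap.ker_eq_bot, LinearMap.ker_eq_bot']
        intro v hv
        have : (v : Fin n → F) ∈ D j ⊓ LinearMap.ker (N ^ (p - 1)) := ⟨v.2, congrArg Subtype.val hv⟩
        rw [hinj, Submodule.mem_bot] at this
        exact Subtype.ext this
      exact hmap ▸ Submodule.finrank_mono LinearMap.map_le_range
    have hrk : rk μ (p - 1) = μ.count p := by
      have h1 := rk_count μ (p - 1)
      rw [Nat.sub_add_cancel (Fact.out : p.Prime).one_lt.le] at h1
      have hz : ∀ e, p ≤ e → rk μ e = 0 := fun e he => Multiset.sum_eq_zero fun c hc => by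
        obtain ⟨b, hb, rfl⟩ := Multiset.mem_map.mp hc
        exact Nat.sub_eq_zero_of_le ((hμ b hb).2.trans he)
      rw [hz p le_rfl, hz (p - 1 + 2) (by omega)] at h1
      omega
    rw [hNj, hrk] at hle
    omega
  let j₀ : Fin t := ⟨0, by omega⟩
  let W : Submodule F (Fin n → F) := ⨆ (k) (_ : k ≠ j₀), D k
  have hinvD : ∀ k, Inv g (D k) := fun k => ((hσ k).trans (by rw [hfix k])).le
  have hW : Inv g W := by
    show W.map g ≤ W
    simp only [W, Submodule.map_iSup]
    exact iSup₂_mono fun k _ => hinvD k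
  have hcompl : IsCompl (D j₀) W := by
    refine IsCompl.of_eq (hD.indep j₀).eq_bot ?_
    rw [← hD.iSup_eq_top, iSup_split_single D j₀]
  have hN1 : ∀ U, Inv g U → Inv N U := fun U hU => by
    have := (inv_sub_smul g (1 : F) U).mpr hU
    rwa [one_smul, hxN, add_sub_cancel_right] at this
  have hkill : ∀ (T : Submodule F (Fin n → F)), ∀ v ∈ T, (N ^ p) v = 0 := fun T v _ => by rw [hN]; rfl
  obtain ⟨α, hα, hαs, hαr, -⟩ := exists_jordan (hN1 _ (hinvD j₀)) (hkill _)
  obtain ⟨β, hβ, -, hβr, -⟩ := exists_jordan (hN1 _ hW) (hkill _)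
  have heq : μ = α + β := eq_of_rk (fun a ha => (hμ a ha).1)
    (fun a ha => (Multiset.mem_add.mp ha).elim (fun h => (hα a h).1) (fun h => (hβ a h).1))
    (fun j => by
      rw [rk_add, ← hαr, ← hβr, ← finrank_map_pow_sup (hN1 _ (hinvD j₀)) (hN1 _ hW) hcompl.inf_eq_bot,
        hcompl.sup_eq_top, map_top_pow, hNj])
  exact ⟨α, heq ▸ Multiset.le_add_right α β, hαs.trans (hD.finrank_eq j₀)⟩

end Cfsg.Agent.S5959
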