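import Cfsg.Statements.S5960
import Cfsg.Agent.Lib.SympInvolution.Matrix
import Cfsg.Agent.S5957

set_option autoImplicit false
open scoped MatrixGroups
open Cfsg

namespace Cfsg.Agent.S5960

/-- An involution of a finite type splits it into two-cycles and fixed points. -/
theorem exists_split {ι : Type*} [Fintype ι] (π : Equiv.Perm ι) (hπ : ∀ i, π (π i) = i) :
    ∃ (s r : ℕ) (e : (Fin s ⊕ Fin s) ⊕ Fin r ≃ ι),
      (∀ i, π (e (.inl (.inl i))) = e (.inl (.inr i))) ∧
      (∀ i, π (e (.inl (.inr i))) = e (.inl (.inl i))) ∧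
      (∀ i, π (e (.inr i)) = e (.inr i)) := by
  classical
  let o := Fintype.equivFin ι
  let A := {i : ι // o i < o (π i)}
  let C := {i : ι // π i = i}
  let f : (A ⊕ A) ⊕ C → ι := Sum.elim (Sum.elim (fun a => a.1) (fun a => π a.1)) (fun c => c.1)
  have hinj : Function.Injective f := by
    rintro ((⟨a, ha⟩ | ⟨a, ha⟩) | ⟨a, ha⟩) ((⟨b, hb⟩ | ⟨b, hb⟩) | ⟨b, hb⟩) h <;>
      simp only [f, Sum.elim_inl, Sum.elim_inr] at h
    · subst h; rfl
    · subst h; rw [hπ] at ha; exact absurd hb (lt_asymm ha)
    · subst h; exact absurd (hb ▸ ha) (lt_irrefl _)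
    · subst h; rw [hπ] at hb; exact absurd hb (lt_asymm ha)
    · obtain rfl := π.injective h; rfl
    · have : π b = a := by rw [← h, hπ]
      rw [hb] at this; subst this; exact absurd (hb ▸ ha) (lt_irrefl _)
    · subst h; exact absurd (ha ▸ hb) (lt_irrefl _)
    · have : π a = b := by rw [h, hπ]
      rw [ha] at this; subst this; exact absurd (ha ▸ hb) (lt_irrefl _)
    · subst h; rfl
  have hsurj : Function.Surjective f := by
    intro i
    rcases lt_trichotomy (o i) (o (π i)) with h | h | h
    · exact ⟨.inl (.inl ⟨i, h⟩), rfl⟩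
    · exact ⟨.inr ⟨i, (o.injective h).symm⟩, rfl⟩
    · exact ⟨.inl (.inr ⟨π i, by rwa [hπ]⟩), hπ i⟩
  let eA := Fintype.equivFin A
  let eC := Fintype.equivFin C
  refine ⟨_, _, ((Equiv.sumCongr (Equiv.sumCongr eA.symm eA.symm) eC.symm)).trans (Equiv.ofBijective f ⟨hinj, hsurj⟩),
    ?_, ?_, ?_⟩
  · intro i; rfl
  · intro i; exact hπ _
  · intro i; exact (eC.symm i).2

/-- Involutions of PSp_n(q) and imprimitive subgroups. Here `T = PSp_n(q)`, `n = 2d ≥ 4`, `(n, q) ≠ (4, 2)`, realised through the symplectic matrices over the field `F` with `q` elements and the standard alternating form; `n = a·t` with `a` even and `t ≥ 2`, and Ω is the (nonempty) set of orthogonal decompositions of `F^n` into `t` nondegenerate subspaces of dimension `a` (unordered; counted as ordered ones divided by `t!`), whose stabilizers are the imprimitive subgroups of type Sp_a(q) ≀ S_t (maximality is not assumed); an element of `T` of prime order `r` (a symplectic matrix `x` with `x^r` scalar, `x` not scalar) fixes a point of Ω when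 it permutes the summands of some such decomposition. If the number of such decompositions is even, then every involution of `T` stabilizes one of them (the action is 2-elusive). -/
theorem result {F : Type*} [Field F] [Fintype F] {p : ℕ} [Fact p.Prime] [CharP F p] {q : ℕ} (hq : Fintype.card F = q)
    (d : ℕ) (hd : 2 ≤ d) (hT : (d, q) ≠ (2, 2))
    (a t : ℕ) (hat : 2 * d = a * t) (ha : 2 ≤ a) (hae : Even a) (ht : 2 ≤ t) (hΩ : 2 ∣ Nat.card {D : Fin t → Submodule F (Fin d ⊕ Fin d → F) // (Cfsg.Geo.IsMDecomposition a D ∧ (∀ j, ∀ u ∈ D j, u ≠ 0 → ∃ v ∈ D j, Cfsg.sympForm d F u v ≠ 0) ∧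
          (∀ j j', j ≠ j' → ∀ u ∈ D j, ∀ v ∈ D j', Cfsg.sympForm d F u v = 0))} / Nat.factorial t)
    (x : ↥(Matrix.symplecticGroup (Fin d) F))
    (hx1 : ∃ z : F, ((x ^ 2 : ↥(Matrix.symplecticGroup (Fin d) F)) : Matrix (Fin d ⊕ Fin d) (Fin d ⊕ Fin d) F) = z • (1 : Matrix (Fin d ⊕ Fin d) (Fin d ⊕ Fin d) F))
    (hx2 : ∀ z : F, (x : Matrix (Fin d ⊕ Fin d) (Fin d ⊕ Fin d) F) ≠ z • (1 : Matrix (Fin d ⊕ Fin d) (Fin d ⊕ Fin d) F)) :
    ∃ D : Fin t → Submodule F (Fin d ⊕ Fin d → F), (Cfsg.Geo.IsMDecomposition a D ∧ (∀ j, ∀ u ∈ D j, u ≠ 0 → ∃ v ∈ D j, Cfsg.sympForm d F u v ≠ 0) ∧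
          (∀ j j', j ≠ j' → ∀ u ∈ D j, ∀ v ∈ D j', Cfsg.sympForm d F u v = 0)) ∧
        ∃ σ : Equiv.Perm (Fin t), ∀ j, (D j).map (Matrix.toLin' (x : Matrix (Fin d ⊕ Fin d) (Fin d ⊕ Fin d) F)) = D (σ j) := by
  classical
  obtain ⟨z, hz⟩ := hx1
  have hfm := SympInvolution.exists_frame_matrix (by omega) x z hz
  set g := Matrix.toLin' (x : Matrix (Fin d ⊕ Fin d) (Fin d ⊕ Fin d) F) with hg
  set B := SympInvolution.sympBilin d F with hB
  obtain ⟨hz1, hgg, φ, hφ⟩ := hfm
  have hA : B.IsAlt := fun v => Linear.sympForm_self v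
  have hli := φ.linearIndependent hA
  let bas := Module.Basis.mk hli hφ.ge
  have hbas : ∀ q, bas q = Sum.elim φ.e φ.w q := fun q => Module.Basis.mk_apply hli hφ.ge q
  have hcard : Fintype.card φ.ι = d := by
    have := Module.finrank_eq_card_basis bas
    simp at this; omega
  obtain ⟨b, rfl⟩ : ∃ b, a = 2 * b := ⟨a / 2, (Nat.two_mul_div_two_of_even hae).symm⟩
  obtain ⟨s, r, e, he1, he2, he3⟩ := exists_split φ.π φ.invol
  have hsr : 2 * s + r = t * b := by
    have := Fintype.card_congr e
    simp only [Fintype.card_sum, Fintype.card_fin, hcard] at this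
    rw [Nat.mul_comm t b]
    rw [Nat.mul_assoc] at hat
    omega
  obtain ⟨u, v, f, σ, hu, hv, hf, hcnt⟩ := S5957.hasLayout_of_eq b t s r hsr
  let blk : φ.ι → Fin t := fun i => Sum.elim (Sum.elim u v) f (e.symm i)
  have hblk : ∀ i, blk (φ.π i) = σ (blk i) := by
    intro i
    obtain ⟨q, rfl⟩ := e.surjective i
    rcases q with (q | q) | q <;> simp [blk, he1, he2, he3, hu, hv, hf]
  have hfib : ∀ j, Fintype.card {i // blk i = j} = b := by
    intro j
    rw [Fintype.card_congr (e.subtypeEquiv (p := fun q => Sum.elim (Sum.elim u v) f q = j)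
      (q := fun i => blk i = j) (fun q => by simp [blk])).symm]
    rw [Fintype.card_subtype, Finset.card_filter, Fintype.sum_sum_type, Fintype.sum_sum_type, ← hcnt j]
    simp only [Sum.elim_inl, Sum.elim_inr]
    congr!
  let blk2 : φ.ι ⊕ φ.ι → Fin t := Sum.elim blk blk
  let D : Fin t → Submodule F (Fin d ⊕ Fin d → F) := fun j => Submodule.span F (bas '' (blk2 ⁻¹' {j}))
  have hfr : ∀ j, Module.finrank F (D j) = 2 * b := by
    intro j
    show Module.finrank F (Submodule.span F (bas '' _)) = _
    rw [Set.image_eq_range]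
    refine (finrank_span_eq_card (bas.linearIndependent.comp _ Subtype.val_injective)).trans ?_
    rw [← Nat.card_eq_fintype_card]
    show Nat.card {q // blk2 q = j} = _
    rw [Nat.card_congr (Equiv.subtypeSum (p := fun q => blk2 q = j)), Nat.card_sum,
      Nat.card_eq_fintype_card, Nat.card_eq_fintype_card]
    show Fintype.card {i // blk i = j} + Fintype.card {i // blk i = j} = _
    rw [hfib j]
    omega
  have horth : ∀ j j', j ≠ j' → ∀ y ∈ D j, ∀ y' ∈ D j', B y y' = 0 := by
    intro j j' hne y hy y' hy'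
    induction hy using Submodule.span_induction with
    | mem p hp =>
      induction hy' using Submodule.span_induction with
      | mem p' hp' =>
        obtain ⟨q, hq, rfl⟩ := hp
        obtain ⟨q', hq', rfl⟩ := hp'
        simp only [Set.mem_preimage, Set.mem_singleton_iff] at hq hq'
        rw [hbas, hbas]
        rcases q with i | i <;> rcases q' with i' | i' <;> simp only [blk2, Sum.elim_inl, Sum.elim_inr] at hq hq' ⊢
        · exact φ.ee i i'
        · exact φ.ew i i' fun h => hne (by rw [← hq, ← hq', h])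
        · exact φ.we hA i i' fun h => hne (by rw [← hq, ← hq', h])
        · exact φ.ww i i'
      | zero => simp
      | add p q _ _ hp hq => simp [hp, hq]
      | smul c p _ hp => simp [hp]
    | zero => simp
    | add p q _ _ hp hq => simp [hp, hq]
    | smul c p _ hp => simp [hp]
  have htop : iSup D = ⊤ := by
    show (⨆ j, Submodule.span F (bas '' (blk2 ⁻¹' {j}))) = ⊤
    rw [← Submodule.span_iUnion, ← Set.image_iUnion, ← Set.preimage_iUnion, Set.iUnion_of_singleton,
      Set.preimage_univ, Set.image_univ, bas.span_eq]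
  refine ⟨D, ⟨⟨ht, by omega, hfr, ?_, htop⟩, ?_, fun j j' h y hy y' hy' => horth j j' h y hy y' hy'⟩, σ, ?_⟩
  · intro j
    show Disjoint (D j) _
    simp only [D, ← Submodule.span_iUnion]
    rw [← Set.image_iUnion₂]
    refine bas.linearIndependent.disjoint_span_image ?_
    rw [Set.disjoint_left]
    intro q hq hq'
    simp at hq hq'
    exact hq' hq
  · intro j y hy hy0
    by_contra hcon
    push Not at hcon
    obtain ⟨y', hy'⟩ := Linear.exists_sympForm_ne_zero hy0
    refine hy' ?_
    have hm : y' ∈ iSup D := htop ▸ Submodule.mem_top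
    show B y y' = 0
    clear hy'
    induction hm using Submodule.iSup_induction' with
    | mem k p hp =>
      by_cases h : j = k
      · subst h; exact hcon p hp
      · exact horth j k h y hy p hp
    | zero => simp
    | add p q _ _ hp hq => rw [map_add, hp, hq, add_zero]
  · intro j
    have hplane : ∀ i, Submodule.span F {φ.e i, φ.w i} ≤ D (blk i) := by
      intro i
      rw [Submodule.span_le]
      rintro p (rfl | rfl)
      · exact Submodule.subset_span ⟨.inl i, rfl, hbas _⟩
      · exact Submodule.subset_span ⟨.inr i, rfl, hbas _⟩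
    have hle : (D j).map g ≤ D (σ j) := by
      show (Submodule.span F _).map g ≤ _
      rw [Submodule.map_span, Submodule.span_le]
      rintro _ ⟨_, ⟨q, hq, rfl⟩, rfl⟩
      simp only [Set.mem_preimage, Set.mem_singleton_iff] at hq
      subst hq
      rw [hbas]
      rcases q with i | i <;> simp only [blk2, Sum.elim_inl, Sum.elim_inr, ← hblk]
      · exact hplane _ (φ.map_e i)
      · exact hplane _ (φ.map_w i)
    have hzne : z ≠ 0 := by rcases hz1 with rfl | rfl <;> simp
    have hinj : Function.Injective g := by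
      intro p q hpq
      have := congrArg g hpq
      rw [hgg, hgg] at this
      exact smul_right_injective _ hzne this
    refine Submodule.eq_of_le_of_finrank_le hle ?_
    rw [LinearEquiv.finrank_eq (Submodule.equivMapOfInjective g hinj (D j)).symm, hfr, hfr]

end Cfsg.Agent.S5960
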