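import Cfsg.Statements.S5961
import Cfsg.Agent.EqLemmas
import Cfsg.Agent.Lib.Elusive.NdWitness

set_option autoImplicit false
open scoped MatrixGroups
open Cfsg

namespace Cfsg.Agent.S5961

open Module Cfsg.Agent.Elusive
open Cfsg.Agent.PrimeGraphBC (IsSymF isoMon prodForm prodForm_apply)
open Cfsg.Agent.PrimeOrderElt (Inv inv_apply fix mem_fix invariant_iff_smul orderOf_card_pos dvd_pow_sub_one_iff)
open Cfsg.Agent.GLOrder (sympB sympB_self sympB_nondeg finrank_sympSpace resForm)

universe u v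

variable {F : Type u} [Field F] {d : ℕ}

theorem finrank_sup_family {V : Type v} [AddCommGroup V] [Module F V] [FiniteDimensional F V] {ι : Type*}
    {U : ι → Submodule F V} (hU : iSupIndep U) (s : Finset ι) : finrank F ↥(s.sup U) = ∑ i ∈ s, finrank F ↥(U i) := by
  classical
  induction s using Finset.induction with
  | empty => rw [Finset.sup_empty, finrank_bot, Finset.sum_empty]
  | insert i s hi ih =>
    have hdis : U i ⊓ s.sup U = ⊥ :=
      disjoint_iff.1 ((iSupIndep_iff_supIndep.1 hU (insert i s)) (Finset.subset_insert i s) (Finset.mem_insert_self i s) hi)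
    rw [Finset.sup_insert, Finset.sum_insert hi, PrimeOrderElt.finrank_sup_of_inf_eq_bot hdis, ih]

/-- An isometry realised by a symplectic matrix, with the fixed space. -/
theorem exists_sp_fix {V : Type v} [AddCommGroup V] [Module F V] [FiniteDimensional F V]
    {B : LinearMap.BilinForm F V} (halt : ∀ x, B x x = 0) (hnd : ∀ x, (∀ y, B x y = 0) → x = 0)
    (hd : finrank F V = 2 * d) {y : Module.End F V} (hy : y ∈ isoMon B) :
    ∃ x : Matrix.symplecticGroup (Fin d) F,
      (∀ n, y ^ n = 1 → spEnd x ^ n = 1) ∧ finrank F ↥(fix (spEnd x)) = finrank F ↥(fix y) := by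
  obtain ⟨Φ, hΦ⟩ := SympGeom.exists_sympEquiv B halt hnd hd
  set L : Module.End F (Fin d ⊕ Fin d → F) := Φ.symm.toLinearMap ∘ₗ y ∘ₗ Φ.toLinearMap with hL
  have hmem : LinearMap.toMatrix' L ∈ Matrix.symplecticGroup (Fin d) F :=
    (GLOrder.mem_symplecticGroup_iff_preserves _).2 fun a b => by
      rw [LinearMap.toMatrix'_mulVec, LinearMap.toMatrix'_mulVec, ← hΦ, ← hΦ a b]
      show B (Φ (Φ.symm (y (Φ a)))) (Φ (Φ.symm (y (Φ b)))) = _
      rw [Φ.apply_symm_apply, Φ.apply_symm_apply]
      exact hy _ _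
  set x : Matrix.symplecticGroup (Fin d) F := ⟨_, hmem⟩
  have hxv : ∀ v, Φ (spEnd x v) = y (Φ v) := fun v => by
    show Φ ((LinearMap.toMatrix' L).mulVec v) = _
    rw [LinearMap.toMatrix'_mulVec]
    exact Φ.apply_symm_apply _
  have hpow : ∀ (n : ℕ) v, Φ ((spEnd x ^ n) v) = (y ^ n) (Φ v) := by
    intro n
    induction n with
    | zero => intro v; rfl
    | succ n ih =>
      intro v
      rw [pow_succ', pow_succ', Module.End.mul_apply, Module.End.mul_apply, hxv, ih]
  refine ⟨x, fun n hn => LinearMap.ext fun v => Φ.injective (by rw [hpow, hn]; rfl), ?_⟩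
  rw [← LinearEquiv.finrank_map_eq Φ (fix (spEnd x))]
  refine congrArg (fun S : Submodule F V => finrank F S) ?_
  ext w
  obtain ⟨v, rfl⟩ := Φ.surjective w
  rw [Submodule.mem_map_equiv, LinearEquiv.symm_apply_apply, mem_fix, mem_fix, ← hxv, Φ.injective.eq_iff]

variable [Fintype F]

/-- Witnesses with any number of pieces. -/
theorem exists_witness {r : ℕ} [Fact r.Prime] (hr : (r : F) ≠ 0) (hr2 : r ≠ 2) {c : ℕ}
    (hc : c = if Even (orderOf (Fintype.card F : ZMod r)) then orderOf (Fintype.card F : ZMod r)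
      else 2 * orderOf (Fintype.card F : ZMod r)) {u : ℕ} (hu : 0 < u) (hud : u * c ≤ 2 * d) :
    ∃ x : Matrix.symplecticGroup (Fin d) F, Isom (-1 : F) (sympB d F) (spEnd x) r ∧
      (∀ z : F, spEnd x ≠ z • (1 : Module.End F (Fin d ⊕ Fin d → F))) ∧
      finrank F ↥(fix (spEnd x)) + u * c = 2 * d := by
  obtain ⟨c', hc'⟩ : ∃ c', 2 * c' = c := by
    rcases Nat.even_or_odd (orderOf (Fintype.card F : ZMod r)) with he | ho
    · obtain ⟨k, hk⟩ := he
      exact ⟨k, by rw [hc, if_pos ⟨k, hk⟩]; omega⟩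
    · exact ⟨_, by rw [hc, if_neg (Nat.not_even_iff_odd.2 ho)]⟩
  have hcpos : 0 < c' := by
    have := orderOf_card_pos hr
    split_ifs at hc <;> omega
  obtain ⟨g, hg, hgf⟩ := exists_block hr hr2 (hc'.trans hc)
  have he : ∀ _ : Fin u, ¬ r ∣ 1 := fun _ => (Fact.out : r.Prime).not_dvd_one
  have hud' : u * c' ≤ d := by rw [← hc', mul_left_comm] at hud; omega
  have hY := blocks_isom (sympB_isSym (F := F) (d - u * c')) hg (fun _ : Fin u => 1)
  have hdim : finrank F ((Fin (d - u * c') ⊕ Fin (d - u * c') → F) × (Fin u → (Fin c' ⊕ Fin c' → F))) = 2 * d := by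
    rw [Module.finrank_prod, finrank_sympSpace, Module.finrank_pi_fintype, Finset.sum_const,
      Finset.card_univ, Fintype.card_fin, finrank_sympSpace, smul_eq_mul, mul_left_comm]
    omega
  obtain ⟨x, hx1, hx2⟩ := exists_sp_fix (fun z => by rw [prodForm_apply, sympB_self, piForm_alt sympB_self, add_zero])
    hY.sym.nd hdim hY.iso
  rw [finrank_blocks_fix hg.pow hgf he, finrank_sympSpace] at hx2
  have hI : Isom (-1 : F) (sympB d F) (spEnd x) r :=
    ⟨sympB_isSym d, spEnd_mem x, hx1 r hY.pow, (Fact.out : r.Prime).pos, hr⟩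
  have huc : 0 < u * c' := Nat.mul_pos hu hcpos
  refine ⟨x, hI, fun z hz => ?_, by rw [hx2, ← hc', mul_left_comm]; omega⟩
  haveI : Nontrivial (Fin d ⊕ Fin d → F) := Module.nontrivial_of_finrank_pos (R := F) (by rw [finrank_sympSpace]; omega)
  refine hI.ne_scalar ((Fact.out : r.Prime).odd_of_ne_two hr2) (fun h1 => ?_) z hz
  rw [show fix (spEnd x) = ⊤ from eq_top_iff.2 fun v _ => mem_fix.2 (by rw [h1]; rfl), finrank_top,
    finrank_sympSpace] at hx2
  omega

/-- Orthogonal invariant summands of dimension `a`. -/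
theorem exists_summands {r : ℕ} [Fact r.Prime] (hr2 : r ≠ 2) {a c : ℕ} (hae : Even a) (hapos : 0 < a)
    (hc : c = if Even (orderOf (Fintype.card F : ZMod r)) then orderOf (Fintype.card F : ZMod r)
      else 2 * orderOf (Fintype.card F : ZMod r)) :
    ∀ (T : ℕ) {V : Type v} [AddCommGroup V] [Module F V] [FiniteDimensional F V] {B : LinearMap.BilinForm F V}
      {y : Module.End F V}, Isom (-1 : F) B y r → (∀ x, B x x = 0) → finrank F V = T * a → T * (a % c) < c →
      ∃ D : Fin T → Submodule F V, (∀ j, finrank F ↥(D j) = a) ∧ (∀ j, NdOn B (D j)) ∧ (∀ j, Inv y (D j)) ∧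
        (∀ j k, j ≠ k → D k ≤ orth B (D j)) ∧ (⨆ j, D j) = ⊤ := by
  intro T
  induction T with
  | zero =>
    intro V _ _ _ B y _ _ hd _
    haveI : Subsingleton V := Module.finrank_zero_iff.1 (by rw [hd, zero_mul])
    exact ⟨Fin.elim0, fun j => j.elim0, fun j => j.elim0, fun j => j.elim0, fun j => j.elim0, Subsingleton.elim _ _⟩
  | succ T ih =>
    intro V _ _ _ B y h halt hd hlt
    have hk : a % c ≤ ((T + 1) * a) % c := by
      rw [Nat.mul_mod, Nat.mod_eq_of_lt (a := (T + 1) % c * (a % c))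
        (lt_of_le_of_lt (Nat.mul_le_mul_right _ (Nat.mod_le _ _)) hlt)]
      rcases Nat.eq_zero_or_pos (a % c) with e | e
      · omega
      · have : T + 1 < c := lt_of_le_of_lt (Nat.le_mul_of_pos_right _ e) hlt
        rw [Nat.mod_eq_of_lt this]
        exact Nat.le_mul_of_pos_left _ (Nat.succ_pos T)
    obtain ⟨W, hWd, hW, hWi⟩ := hasNd_of_cond h hr2 halt hc hd hae (Nat.le_mul_of_pos_left _ (Nat.succ_pos T)) hk
    set P := orth B W
    have hPi : Inv y P := h.inv_orth hWi
    have hsup : W ⊔ P = ⊤ := hW.sup_orth h.sym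
    have hPn : NdOn B P := by
      intro u hu hu0
      refine h.sym.nd u fun v => ?_
      have hv : v ∈ W ⊔ P := by rw [hsup]; trivial
      obtain ⟨s, hs, p, hp, rfl⟩ := Submodule.mem_sup.1 hv
      rw [map_add, hu0 p hp, symm_zero h.sym (hu s hs), add_zero]
    have hPd : finrank F ↥P = T * a := by
      have h1 : finrank F ↥P + finrank F ↥W = finrank F V := finrank_orth h.sym W
      rw [hWd, hd, add_mul, one_mul] at h1
      omega
    have hyP : ∀ v ∈ P, y v ∈ P := fun v hv => inv_apply hPi hv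
    have hR : Isom (-1 : F) (resForm B P) (y.restrict hyP) r := by
      refine ⟨⟨fun u v => h.sym.sym _ _, fun u hu => Subtype.ext (hPn u u.2 fun z hz => hu ⟨z, hz⟩)⟩,
        fun u v => h.iso _ _, ?_, h.pos, h.rF⟩
      refine LinearMap.ext fun v => Subtype.ext ?_
      rw [Module.End.pow_restrict r hyP, LinearMap.coe_restrict_apply, h.pow]
      rfl
    obtain ⟨D, hDd, hDn, hDi, hDo, hDt⟩ := ih hR (fun u => halt u) hPd
      (lt_of_le_of_lt (Nat.mul_le_mul_right _ (Nat.le_succ T)) hlt)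
    refine ⟨Fin.cons W fun j => (D j).map P.subtype, fun j => ?_, fun j => ?_, fun j => ?_, fun j k hjk => ?_, ?_⟩
    · induction j using Fin.cases with
      | zero => exact hWd
      | succ j => rw [Fin.cons_succ, Submodule.finrank_map_subtype_eq, hDd]
    · induction j using Fin.cases with
      | zero => exact hW
      | succ j =>
        rw [Fin.cons_succ]
        rintro _ ⟨u, hu, rfl⟩ h0
        rw [hDn j u hu fun z hz => h0 _ ⟨z, hz, rfl⟩, map_zero]
    · induction j using Fin.cases with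
      | zero => exact hWi
      | succ j =>
        rw [Fin.cons_succ]
        rintro _ ⟨_, ⟨u, hu, rfl⟩, rfl⟩
        exact ⟨_, inv_apply (hDi j) hu, rfl⟩
    · have hsub : ∀ i, (D i).map P.subtype ≤ P := fun i => Submodule.map_subtype_le P _
      induction j using Fin.cases with
      | zero =>
        induction k using Fin.cases with
        | zero => exact absurd rfl hjk
        | succ k => rw [Fin.cons_succ, Fin.cons_zero]; exact hsub k
      | succ j =>
        induction k using Fin.cases with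
        | zero =>
          rw [Fin.cons_succ, Fin.cons_zero]
          exact fun w hw s hs => symm_zero h.sym (hsub j hs w hw)
        | succ k =>
          rw [Fin.cons_succ, Fin.cons_succ]
          rintro _ ⟨w, hw, rfl⟩ _ ⟨s, hs, rfl⟩
          exact hDo j k (fun e => hjk (congrArg Fin.succ e)) hw s hs
    · refine eq_top_iff.2 (hsup ▸ sup_le ?_ ?_)
      · exact le_iSup (Fin.cons W (fun j => (D j).map P.subtype) : Fin (T + 1) → Submodule F V) 0
      · have hP : (⨆ j, (D j).map P.subtype) = P := by rw [← Submodule.map_iSup, hDt, Submodule.map_subtype_top]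
        exact hP.ge.trans <| iSup_le fun j =>
          le_iSup (Fin.cons W (fun j => (D j).map P.subtype) : Fin (T + 1) → Submodule F V) j.succ

omit [Fintype F] in
theorem iSupIndep_of_orth {t : ℕ} {D : Fin t → Submodule F (Fin d ⊕ Fin d → F)} (hn : ∀ j, NdOn (sympB d F) (D j))
    (ho : ∀ j k, j ≠ k → D k ≤ orth (sympB d F) (D j)) : iSupIndep D := by
  refine iSupIndep_def.2 fun j => ?_
  refine Disjoint.mono_right (iSup_le fun k => iSup_le fun hk => ho j k (Ne.symm hk)) ?_
  exact disjoint_iff.2 ((hn j).disjoint (sympB_isSym d))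

omit [Fintype F] in
theorem ndOn_iff (W : Submodule F (Fin d ⊕ Fin d → F)) :
    (∀ u ∈ W, u ≠ 0 → ∃ v ∈ W, Cfsg.sympForm d F u v ≠ 0) ↔ NdOn (sympB d F) W := by
  constructor
  · intro h x hx hx0
    by_contra hne
    obtain ⟨v, hv, hne'⟩ := h x hx hne
    exact hne' (by rw [← neg_eq_zero, ← GLOrder.sympB_eq_neg_sympForm]; exact hx0 v hv)
  · intro h u hu hne
    by_contra hno
    push Not at hno
    exact hne (h u hu fun v hv => by rw [GLOrder.sympB_eq_neg_sympForm, hno v hv, neg_zero])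

omit [Fintype F] in
theorem orth_iff {t : ℕ} (D : Fin t → Submodule F (Fin d ⊕ Fin d → F)) :
    (∀ j j', j ≠ j' → ∀ u ∈ D j, ∀ v ∈ D j', Cfsg.sympForm d F u v = 0) ↔
      ∀ j k, j ≠ k → D k ≤ orth (sympB d F) (D j) := by
  refine forall_congr' fun j => forall_congr' fun k => imp_congr Iff.rfl ?_
  constructor
  · intro h v hv u hu
    rw [GLOrder.sympB_eq_neg_sympForm, h u hu v hv, neg_zero]
  · intro h u hu v hv
    rw [← neg_eq_zero, ← GLOrder.sympB_eq_neg_sympForm]
    exact h hv u hu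

/-- A prime dividing the number of decompositions has small order. -/
theorem exists_index {r a t : ℕ} [Fact r.Prime] (hrq : ¬ r ∣ Fintype.card F) (hapos : 0 < a) (hae : Even a)
    (hat : 2 * d = a * t) (ht : 2 ≤ t)
    (hr : r ∣ Nat.card {D : Fin t → Submodule F (Fin d ⊕ Fin d → F) // Cfsg.Geo.IsMDecomposition a D ∧
      (∀ j, NdOn (sympB d F) (D j)) ∧ ∀ j k, j ≠ k → D k ≤ orth (sympB d F) (D j)} / Nat.factorial t) :
    ∃ l, 1 ≤ l ∧ l ≤ d ∧ r ∣ Fintype.card F ^ (2 * l) - 1 := by
  classical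
  set B := sympB d F with hB
  set P := {D : Fin t → Submodule F (Fin d ⊕ Fin d → F) // Cfsg.Geo.IsMDecomposition a D ∧
      (∀ j, NdOn B (D j)) ∧ ∀ j k, j ≠ k → D k ≤ orth B (D j)}
  obtain ⟨h, hh⟩ := hae
  have hsym := sympB_isSym (F := F) d
  haveI : Finite (Submodule F (Fin d ⊕ Fin d → F)) :=
    Finite.of_injective (fun W => (W : Set (Fin d ⊕ Fin d → F))) SetLike.coe_injective
  haveI : Finite P := Subtype.finite
  haveI : Finite (SympGeom.isoGrp B) := Finite.of_equiv _ (SympGeom.spIso d F).toEquiv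
  haveI := Fintype.ofFinite P
  -- relabelling is free
  let act : MulAction (Equiv.Perm (Fin t)) P :=
    { smul := fun σ D => ⟨fun j => D.1 (σ.symm j), ⟨D.2.1.two_le, D.2.1.pos, fun j => D.2.1.finrank_eq _,
        D.2.1.indep.comp σ.symm.injective, (Equiv.iSup_comp (g := D.1) σ.symm).trans D.2.1.iSup_eq_top⟩,
        fun j => D.2.2.1 _, fun j k hjk => D.2.2.2 _ _ fun e => hjk (σ.symm.injective e)⟩
      one_smul := fun D => rfl
      mul_smul := fun σ τ D => rfl }
  have hfree : ∀ D : P, MulAction.stabilizer (Equiv.Perm (Fin t)) D = ⊥ := fun D =>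
    (Subgroup.eq_bot_iff_forall _).2 fun σ hσ => Equiv.ext fun j => by
      have h1 : D.1 (σ.symm (σ j)) = D.1 (σ j) :=
        congrFun (congrArg Subtype.val (MulAction.mem_stabilizer_iff.1 hσ)) (σ j)
      rw [Equiv.symm_apply_apply] at h1
      refine (D.2.1.indep.injective (fun k => ?_) h1).symm
      intro e
      have := D.2.1.finrank_eq k
      rw [e, finrank_bot] at this
      omega
  have hfac : Nat.factorial t ∣ Nat.card P := by
    rw [Nat.card_congr (MulAction.selfEquivSigmaOrbits (Equiv.Perm (Fin t)) P)]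
    haveI := Fintype.ofFinite (MulAction.orbitRel.Quotient (Equiv.Perm (Fin t)) P)
    rw [Nat.card_sigma]
    refine Finset.dvd_sum fun ω _ => ?_
    rw [Nat.card_congr (MulAction.orbitEquivQuotientStabilizer (Equiv.Perm (Fin t)) _), hfree, ← Subgroup.index,
      Subgroup.index_bot, Nat.card_perm, Nat.card_eq_fintype_card, Fintype.card_fin]
  have hr' : r ∣ Nat.card P := hr.trans (Nat.div_dvd_of_dvd hfac)
  -- every decomposition is the image of one model
  have hmodel : ∀ D : P, ∃ L : (Fin t → (Fin h ⊕ Fin h → F)) ≃ₗ[F] (Fin d ⊕ Fin d → F),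
      (∀ u v, B (L u) (L v) = piForm (sympB h F) t u v) ∧ ∀ j z, L (Pi.single j z) ∈ D.1 j := by
    intro D
    have hΦ : ∀ j, ∃ Φ : (Fin h ⊕ Fin h → F) ≃ₗ[F] D.1 j, ∀ u v, resForm B (D.1 j) (Φ u) (Φ v) = sympB h F u v :=
      fun j => SympGeom.exists_sympEquiv _ (fun x => sympB_self _)
        (fun x hx => Subtype.ext (D.2.2.1 j x x.2 fun z hz => hx ⟨z, hz⟩))
        (by rw [D.2.1.finrank_eq]; omega)
    choose Φ hΦ using hΦ
    let L : (Fin t → (Fin h ⊕ Fin h → F)) →ₗ[F] (Fin d ⊕ Fin d → F) :=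
      ∑ j, (D.1 j).subtype ∘ₗ (Φ j).toLinearMap ∘ₗ LinearMap.proj j
    have hL : ∀ u, L u = ∑ j, ((Φ j (u j) : D.1 j) : Fin d ⊕ Fin d → F) := fun u => by simp [L]
    have hform : ∀ u v, B (L u) (L v) = piForm (sympB h F) t u v := fun u v => by
      simp only [hL, map_sum, LinearMap.sum_apply, piForm_apply]
      refine Finset.sum_congr rfl fun j _ => ?_
      rw [Finset.sum_eq_single j]
      · exact hΦ j _ _
      · exact fun k _ hk => D.2.2.2 k j hk (Φ j (v j)).2 _ (Φ k (u k)).2
      · simp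
    have hinj : Function.Injective L := (injective_iff_map_eq_zero L).2 fun u hu =>
      (piForm_isSym (u := t) (sympB_isSym (F := F) h)).nd u fun v => by
        rw [← hform, hu, map_zero, LinearMap.zero_apply]
    refine ⟨LinearEquiv.ofBijective L ⟨hinj, (LinearMap.injective_iff_surjective_of_finrank_eq_finrank (by
      rw [Module.finrank_pi_fintype, Finset.sum_const, Finset.card_univ, Fintype.card_fin, finrank_sympSpace,
        finrank_sympSpace, smul_eq_mul, hat, hh]; ring)).1 hinj⟩, hform, fun j z => ?_⟩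
    show L (Pi.single j z) ∈ _
    rw [hL]
    refine Submodule.sum_mem _ fun k _ => ?_
    by_cases hk : k = j
    · subst hk; exact Subtype.coe_prop _
    · rw [Pi.single_eq_of_ne hk, map_zero, Submodule.coe_zero]; exact zero_mem _
  choose L hLf hLm using hmodel
  by_cases hne : IsEmpty P
  · exfalso
    obtain ⟨Φ, hΦ⟩ := SympGeom.exists_sympEquiv (piForm (sympB h F) t) (piForm_alt sympB_self)
      (piForm_isSym (u := t) (sympB_isSym (F := F) h)).nd (m := d) (by
        rw [Module.finrank_pi_fintype, Finset.sum_const, Finset.card_univ, Fintype.card_fin, finrank_sympSpace,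
          smul_eq_mul, hat, hh]; ring)
    let D : Fin t → Submodule F (Fin d ⊕ Fin d → F) := fun j =>
      LinearMap.range (Φ.symm.toLinearMap ∘ₗ LinearMap.single F (fun _ => Fin h ⊕ Fin h → F) j)
    have hform : ∀ u v, B (Φ.symm u) (Φ.symm v) = piForm (sympB h F) t u v := fun u v => by
      rw [← hΦ, Φ.apply_symm_apply, Φ.apply_symm_apply]
    have hn : ∀ j, NdOn B (D j) := by
      rintro j _ ⟨u, rfl⟩ h0
      have hu : u = 0 := sympB_nondeg u fun v => by
        have h1 := h0 _ ⟨v, rfl⟩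
        simp only [LinearMap.comp_apply, LinearEquiv.coe_coe, hform, piForm_apply, LinearMap.single_apply] at h1
        rwa [Finset.sum_eq_single j (fun k _ hk => by rw [Pi.single_eq_of_ne hk, map_zero, LinearMap.zero_apply])
          (by simp), Pi.single_eq_same, Pi.single_eq_same] at h1
      rw [hu, map_zero]
    have ho : ∀ j k, j ≠ k → D k ≤ orth B (D j) := by
      rintro j k hjk _ ⟨v, rfl⟩ _ ⟨u, rfl⟩
      simp only [LinearMap.comp_apply, LinearEquiv.coe_coe, hform, piForm_apply, LinearMap.single_apply]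
      refine Finset.sum_eq_zero fun l _ => ?_
      by_cases hl : l = j
      · subst hl; rw [Pi.single_eq_of_ne (i := k) hjk, map_zero]
      · rw [Pi.single_eq_of_ne hl, map_zero, LinearMap.zero_apply]
    refine hne.false ⟨D, ⟨ht, hapos, fun j => ?_, iSupIndep_of_orth hn ho, ?_⟩, hn, ho⟩
    · have hs : Function.Injective (Φ.symm.toLinearMap ∘ₗ LinearMap.single F (fun _ => Fin h ⊕ Fin h → F) j) :=
        fun a b e => Pi.single_injective (M := fun _ : Fin t => Fin h ⊕ Fin h → F) j (Φ.symm.injective e)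
      show finrank F ↥(LinearMap.range _) = a
      rw [LinearMap.finrank_range_of_inj hs, finrank_sympSpace]; omega
    · refine eq_top_iff.2 fun v _ => ?_
      rw [← Φ.symm_apply_apply v, ← Finset.univ_sum_single (Φ v), map_sum]
      exact Submodule.sum_mem _ fun j _ => le_iSup D j ⟨_, rfl⟩
  obtain ⟨D₀⟩ := not_isEmpty_iff.1 hne
  let φ : SympGeom.isoGrp B → (Fin t → Submodule F (Fin d ⊕ Fin d → F)) := fun g j =>
    (D₀.1 j).map (g.1 : (Fin d ⊕ Fin d → F) ≃ₗ[F] _).toLinearMap
  have hφmem : ∀ g, Cfsg.Geo.IsMDecomposition a (φ g) ∧ (∀ j, NdOn B (φ g j)) ∧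
      ∀ j k, j ≠ k → φ g k ≤ orth B (φ g j) := fun g => by
    have hn : ∀ j, NdOn B (φ g j) := by
      rintro j _ ⟨u, hu, rfl⟩ h0
      rw [D₀.2.2.1 j u hu fun z hz => (g.2 u z).symm.trans (h0 _ ⟨z, hz, rfl⟩), map_zero]
    have ho : ∀ j k, j ≠ k → φ g k ≤ orth B (φ g j) := by
      rintro j k hjk _ ⟨v, hv, rfl⟩ _ ⟨u, hu, rfl⟩
      exact (g.2 u v).trans (D₀.2.2.2 j k hjk hv u hu)
    refine ⟨⟨ht, hapos, fun j => (LinearEquiv.finrank_map_eq g.1 _).trans (D₀.2.1.finrank_eq j),
      iSupIndep_of_orth hn ho, ?_⟩, hn, ho⟩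
    rw [← Submodule.map_iSup, D₀.2.1.iSup_eq_top, Submodule.map_top, LinearEquiv.range]
  let ψ : SympGeom.isoGrp B → P := fun g => ⟨φ g, hφmem g⟩
  have hψ : ∀ D, ∃ g, ψ g = D := by
    intro D
    refine ⟨⟨(L D₀).symm.trans (L D), fun u v => ?_⟩, Subtype.ext (funext fun j => ?_)⟩
    · rw [LinearEquiv.trans_apply, LinearEquiv.trans_apply, hLf, ← hLf D₀, LinearEquiv.apply_symm_apply,
        LinearEquiv.apply_symm_apply]
    · have hle : LinearMap.range ((L D₀).toLinearMap ∘ₗ LinearMap.single F (fun _ => Fin h ⊕ Fin h → F) j) ≤ D₀.1 j := by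
        rintro _ ⟨z, rfl⟩; exact hLm D₀ j z
      have hs : Function.Injective ((L D₀).toLinearMap ∘ₗ LinearMap.single F (fun _ => Fin h ⊕ Fin h → F) j) :=
        fun a b e => Pi.single_injective (M := fun _ : Fin t => Fin h ⊕ Fin h → F) j ((L D₀).injective e)
      have heq := Submodule.eq_of_le_of_finrank_le hle (by
        rw [LinearMap.finrank_range_of_inj hs, finrank_sympSpace,
          D₀.2.1.finrank_eq]; omega)
      refine Submodule.eq_of_le_of_finrank_eq ?_ (((hφmem _).1.finrank_eq j).trans (D.2.1.finrank_eq j).symm)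
      rintro _ ⟨_, hv, rfl⟩
      rw [← heq] at hv
      obtain ⟨z, rfl⟩ := hv
      show L D ((L D₀).symm (L D₀ (Pi.single j z))) ∈ _
      rw [LinearEquiv.symm_apply_apply]
      exact hLm D j z
  choose gD hgD using hψ
  let Φe : ∀ D : P, {g // ψ g = D} ≃ {g // ψ g = D₀} := fun D =>
    { toFun := fun g => ⟨(gD D)⁻¹ * g.1, Subtype.ext (funext fun j => by
        have h1 : φ g.1 j = φ (gD D) j := congrFun (congrArg Subtype.val (g.2.trans (hgD D).symm)) j
        refine Submodule.eq_of_le_of_finrank_eq ?_ (((hφmem _).1.finrank_eq j).trans (D₀.2.1.finrank_eq j).symm)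
        rintro _ ⟨v, hv, rfl⟩
        have h2 : (g.1.1 v) ∈ φ (gD D) j := h1 ▸ ⟨v, hv, rfl⟩
        obtain ⟨w, hw, hwe⟩ := h2
        show (gD D).1.symm (g.1.1 v) ∈ _
        rw [← hwe]
        simpa using hw)⟩
      invFun := fun g => ⟨gD D * g.1, (Subtype.ext (funext fun j => by
        have h1 : φ g.1 j = D₀.1 j := congrFun (congrArg Subtype.val g.2) j
        refine Submodule.eq_of_le_of_finrank_eq ?_ (((hφmem _).1.finrank_eq j).trans ((hφmem _).1.finrank_eq j).symm)
        rintro _ ⟨v, hv, rfl⟩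
        exact ⟨g.1.1 v, h1 ▸ ⟨v, hv, rfl⟩, rfl⟩) : ψ (gD D * g.1) = ψ (gD D)).trans (hgD D)⟩
      left_inv := fun g => Subtype.ext (mul_inv_cancel_left _ _)
      right_inv := fun g => Subtype.ext (inv_mul_cancel_left _ _) }
  have hcard : Nat.card (SympGeom.isoGrp B) = Nat.card P * Nat.card {g // ψ g = D₀} := by
    rw [← Nat.card_congr (Equiv.sigmaFiberEquiv ψ), Nat.card_sigma, Finset.sum_congr rfl fun D _ => Nat.card_congr (Φe D),
      Finset.sum_const, smul_eq_mul, Finset.card_univ, ← Nat.card_eq_fintype_card]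
  have hdvd : r ∣ Nat.card (SympGeom.isoGrp B) := hcard ▸ hr'.mul_right _
  rw [← Nat.card_congr (SympGeom.spIso d F).toEquiv, GLOrder.card_Sp, Nat.card_eq_fintype_card (α := F)] at hdvd
  obtain ⟨i, hi, hri⟩ := (Nat.Prime.prime (Fact.out : r.Prime)).exists_mem_finset_dvd
    (((Fact.out : r.Prime).dvd_mul.mp hdvd).resolve_left fun e => hrq ((Fact.out : r.Prime).dvd_of_dvd_pow e))
  exact ⟨i + 1, by omega, Finset.mem_range.1 hi, hri⟩

omit [Fintype F] in
/-- A moved summand. -/
theorem moved_bounds {V : Type v} [AddCommGroup V] [Module F V] [FiniteDimensional F V] {r a t : ℕ} [Fact r.Prime]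
    {y : Module.End F V} (hyr : y ^ r = 1) {D : Fin t → Submodule F V} (hd : ∀ j, finrank F ↥(D j) = a)
    (hind : iSupIndep D) (hapos : 0 < a) {σ : Equiv.Perm (Fin t)} (hσ : ∀ j, (D j).map y = D (σ j)) (hne : σ ≠ 1) :
    a ≤ finrank F ↥(fix y) ∧ r * a ≤ a + finrank F ↥(LinearMap.range (y - 1)) := by
  classical
  obtain ⟨j, hj⟩ : ∃ j, σ j ≠ j := by
    by_contra hall
    push Not at hall
    exact hne (Equiv.ext hall)
  have hmap : ∀ (i : ℕ) (k : Fin t), (D k).map (y ^ i) = D ((σ ^ i) k) := by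
    intro i
    induction i with
    | zero => intro k; exact Submodule.map_id _
    | succ i ih =>
      intro k
      rw [pow_succ', Module.End.mul_eq_comp, Submodule.map_comp, ih, hσ, pow_succ']
      rfl
  have hinjD : Function.Injective D := hind.injective fun k e => by
    have := hd k
    rw [e, finrank_bot] at this
    omega
  have hper : Function.minimalPeriod σ j = r := Function.minimalPeriod_eq_prime (by
    show σ^[r] j = j
    refine hinjD ?_
    rw [← Equiv.Perm.coe_pow, ← hmap, hyr]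
    exact Submodule.map_id _) hj
  have hinj : ∀ i k : Fin r, (σ ^ (i : ℕ)) j = (σ ^ (k : ℕ)) j → i = k := fun i k hik => Fin.ext
    ((Function.iterate_eq_iterate_iff_of_lt_minimalPeriod (f := σ) (x := j) (by rw [hper]; exact i.2)
      (by rw [hper]; exact k.2)).1 (by rwa [← Equiv.Perm.coe_pow, ← Equiv.Perm.coe_pow]))
  let orb : Fin r → Fin t := fun i => (σ ^ (i : ℕ)) j
  let U : Fin r → Submodule F V := fun i => D (orb i)
  have hU : iSupIndep U := hind.comp hinj
  have hUd : finrank F ↥(Finset.univ.sup U) = r * a := by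
    rw [finrank_sup_family hU, Finset.sum_congr rfl fun i _ => hd _, Finset.sum_const, Finset.card_univ,
      Fintype.card_fin, smul_eq_mul]
  have huniq : ∀ f g : Fin r → V, (∀ i, f i ∈ U i) → (∀ i, g i ∈ U i) → ∑ i, f i = ∑ i, g i → f = g := by
    intro f g hf hg hfg
    funext i
    rw [← sub_eq_zero]
    refine (Submodule.mem_bot F).1 ?_
    rw [← disjoint_iff.1 (iSupIndep_def.1 hU i)]
    refine ⟨(U i).sub_mem (hf i) (hg i), ?_⟩
    have h1 : f i - g i = -∑ k ∈ Finset.univ.erase i, (f k - g k) := by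
      rw [eq_neg_iff_add_eq_zero, Finset.add_sum_erase _ (fun k => f k - g k) (Finset.mem_univ i),
        Finset.sum_sub_distrib, hfg, sub_self]
    rw [h1]
    exact Submodule.neg_mem _ (Submodule.sum_mem _ fun k hk => Submodule.mem_iSup_of_mem k
      (Submodule.mem_iSup_of_mem (Finset.ne_of_mem_erase hk) ((U k).sub_mem (hf k) (hg k))))
  let E : ↥(D j) →ₗ[F] V := (∑ i : Fin r, y ^ (i : ℕ)) ∘ₗ (D j).subtype
  have hEv : ∀ v : D j, E v = ∑ i : Fin r, (y ^ (i : ℕ)) (v : V) := fun v => by simp [E]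
  have hmemU : ∀ (v : D j) (i : Fin r), (y ^ (i : ℕ)) (v : V) ∈ U i := fun v i => by
    show _ ∈ D ((σ ^ (i : ℕ)) j)
    rw [← hmap]; exact ⟨(v : V), v.2, rfl⟩
  have hE : Function.Injective E := (injective_iff_map_eq_zero E).2 fun v hv => by
    rw [hEv] at hv
    have h1 := congrFun (huniq _ (fun _ => 0) (hmemU v) (fun i => zero_mem _) (by simpa using hv))
      (⟨0, (Fact.out : r.Prime).pos⟩ : Fin r)
    exact Subtype.ext (by simpa using h1)
  have hEr : ∀ v, E v ∈ fix y := fun v => by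
    rw [mem_fix, hEv, map_sum, Fin.sum_univ_eq_sum_range (fun i => y ((y ^ i) (v : V))),
      Fin.sum_univ_eq_sum_range (fun i => (y ^ i) (v : V))]
    simp only [← Module.End.mul_apply, ← pow_succ']
    obtain ⟨r', hr'⟩ : ∃ r', r = r' + 1 := ⟨r - 1, by have := (Fact.out : r.Prime).pos; omega⟩
    subst hr'
    rw [Finset.sum_range_succ, Finset.sum_range_succ' (fun i => (y ^ i) (v : V)), hyr, pow_zero]
  refine ⟨?_, ?_⟩
  · rw [← hd j, ← LinearMap.finrank_range_of_inj hE]
    exact Submodule.finrank_mono (by rintro _ ⟨v, rfl⟩; exact hEr v)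
  · -- a fixed vector of the orbit is determined by its first component
    have hsub : Finset.univ.sup U ⊓ fix y ≤ LinearMap.range E := by
      rintro w ⟨hwU, hwf⟩
      obtain ⟨f, hf⟩ : ∃ f : ∀ i : Fin r, U i, (∑ i, (f i : V)) = w := by
        rw [SetLike.mem_coe, Finset.sup_eq_iSup] at hwU
        obtain ⟨μ, hμ⟩ := (Submodule.mem_iSup_finset_iff_exists_sum (s := Finset.univ) U w).1 hwU
        exact ⟨μ, hμ⟩
      let z : Fin r := ⟨0, (Fact.out : r.Prime).pos⟩
      have hz : (f z : V) ∈ D j := (f z).2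
      refine ⟨⟨f z, hz⟩, ?_⟩
      rw [hEv, ← hf]
      refine Finset.sum_congr rfl fun i _ => ?_
      obtain ⟨r', hr'⟩ : ∃ r', r = r' + 1 := ⟨r - 1, by have := (Fact.out : r.Prime).pos; omega⟩
      subst hr'
      have hmem : ∀ k : Fin (r' + 1), y (f k : V) ∈ U (k + 1) := fun k => by
        have h1 : y (f k : V) ∈ D (σ (orb k)) := (hσ _) ▸ ⟨_, (f k).2, rfl⟩
        convert h1 using 2
        show (σ ^ ((k + 1 : Fin (r' + 1)) : ℕ)) j = σ ((σ ^ (k : ℕ)) j)
        rw [Equiv.Perm.coe_pow, Equiv.Perm.coe_pow, ← Function.iterate_succ_apply' (f := σ),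
          Fin.val_add_one]
        split_ifs with e
        · rw [e, Fin.val_last]
          show j = σ^[r' + 1] j
          rw [← hper, Function.iterate_minimalPeriod]
        · rfl
      have hshift := huniq (fun k => y (f (k - 1) : V)) (fun k => (f k : V))
        (fun k => by simpa using hmem (k - 1)) (fun k => (f k).2) (by
          refine (Equiv.sum_comp (Equiv.subRight (1 : Fin (r' + 1))) (fun k => y (f k : V))).trans ?_
          rw [← map_sum, hf]
          exact mem_fix.1 hwf)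
      suffices h : ∀ (n : ℕ) (hn : n < r' + 1), (y ^ n) (f z : V) = (f ⟨n, hn⟩ : V) from h i i.2
      intro n
      induction n with
      | zero => intro _; rfl
      | succ n ih =>
        intro hn
        have e : (⟨n + 1, hn⟩ : Fin (r' + 1)) - 1 = ⟨n, by omega⟩ := by
          rw [sub_eq_iff_eq_add]
          apply Fin.ext
          rw [Fin.val_add_one, if_neg]
          intro e
          have := congrArg Fin.val e
          rw [Fin.val_last] at this
          dsimp only at this
          omega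
        have h2 : y (f ((⟨n + 1, hn⟩ : Fin (r' + 1)) - 1) : V) = (f ⟨n + 1, hn⟩ : V) := congrFun hshift _
        rw [e] at h2
        rw [pow_succ', Module.End.mul_apply, ih (by omega), h2]
    have hker := LinearMap.finrank_range_add_finrank_ker ((y - 1) ∘ₗ (Finset.univ.sup U).subtype)
    rw [hUd] at hker
    have h1 : finrank F ↥(LinearMap.ker ((y - 1) ∘ₗ (Finset.univ.sup U).subtype)) ≤ a := by
      rw [LinearMap.ker_comp, ← LinearEquiv.finrank_eq (Submodule.equivMapOfInjective _
        (Finset.univ.sup U).subtype_injective ((LinearMap.ker (y - 1)).comap (Finset.univ.sup U).subtype)).symm,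
        Submodule.map_comap_subtype]
      exact (Submodule.finrank_mono hsub).trans ((LinearMap.finrank_range_le E).trans (hd j).le)
    have h2 : finrank F ↥(LinearMap.range ((y - 1) ∘ₗ (Finset.univ.sup U).subtype)) ≤
        finrank F ↥(LinearMap.range (y - 1)) := Submodule.finrank_mono (LinearMap.range_comp_le_range _ _)
    omega

/-- Elements of odd prime order of PSp_n(q) and imprimitive subgroups. Here `T = PSp_n(q)`, `n = 2d ≥ 4`, `(n, q) ≠ (4, 2)`, realised through the symplectic matrices over the field `F` with `q` elements and the standard alternating form; `n = a·t` with `a` even and `t ≥ 2`, and Ω is the (nonempty) set of orthogonal decompositions of `F^n` into `t` nondegenerate subspaces of dimension `a` (unordered; counted as ordered ones divided by `t!`), whose stabilizers are the imprimitive subgroups of type Sp_a(q) ≀ S_t (maximality is not assumed); an element of `T` of prime order `r` (a symplectic matrix `x` with `x^r` scalar, `x` not scalar) fixes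 a point of Ω when it permutes the summands of some such decomposition. Let `r ≠ p` be an odd prime dividing the number of such decompositions, let `i` be the multiplicative order of `q` modulo `r`, `c = i` if `i` is even and `c = 2i` if `i` is odd, and write `k = n mod c`, `ℓ = a mod c`. Then every element of `T` of order `r` stabilizes such a decomposition if and only if `c ≤ a` and `k = t·ℓ`. -/
theorem result {F : Type*} [Field F] [Fintype F] {p : ℕ} [Fact p.Prime] [CharP F p] {q : ℕ} (hq : Fintype.card F = q)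
    (d : ℕ) (hd : 2 ≤ d) (hT : (d, q) ≠ (2, 2))
    (a t : ℕ) (hat : 2 * d = a * t) (ha : 2 ≤ a) (hae : Even a) (ht : 2 ≤ t)
    (r : ℕ) [Fact r.Prime] (hr2 : r ≠ 2) (hrp : r ≠ p) (hΩ : r ∣ Nat.card {D : Fin t → Submodule F (Fin d ⊕ Fin d → F) // (Cfsg.Geo.IsMDecomposition a D ∧ (∀ j, ∀ u ∈ D j, u ≠ 0 → ∃ v ∈ D j, Cfsg.sympForm d F u v ≠ 0) ∧
          (∀ j j', j ≠ j' → ∀ u ∈ D j, ∀ v ∈ D j', Cfsg.sympForm d F u v = 0))} / Nat.factorial t)
    (i c : ℕ) (hi : i = orderOf (q : ZMod r)) (hc : c = if Even i then i else 2 * i) :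
    (∀ x : ↥(Matrix.symplecticGroup (Fin d) F),
      (∃ z : F, ((x ^ r : ↥(Matrix.symplecticGroup (Fin d) F)) : Matrix (Fin d ⊕ Fin d) (Fin d ⊕ Fin d) F) = z • (1 : Matrix (Fin d ⊕ Fin d) (Fin d ⊕ Fin d) F)) →
      (∀ z : F, (x : Matrix (Fin d ⊕ Fin d) (Fin d ⊕ Fin d) F) ≠ z • (1 : Matrix (Fin d ⊕ Fin d) (Fin d ⊕ Fin d) F)) →
      ∃ D : Fin t → Submodule F (Fin d ⊕ Fin d → F), (Cfsg.Geo.IsMDecomposition a D ∧ (∀ j, ∀ u ∈ D j, u ≠ 0 → ∃ v ∈ D j, Cfsg.sympForm d F u v ≠ 0) ∧
          (∀ j j', j ≠ j' → ∀ u ∈ D j, ∀ v ∈ D j', Cfsg.sympForm d F u v = 0)) ∧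
        ∃ σ : Equiv.Perm (Fin t), ∀ j, (D j).map (Matrix.toLin' (x : Matrix (Fin d ⊕ Fin d) (Fin d ⊕ Fin d) F)) = D (σ j)) ↔
    (c ≤ a ∧ (2 * d) % c = t * (a % c)) := by
  classical
  subst hq
  subst hi
  obtain ⟨h, hh⟩ := hae
  haveI : Nontrivial (Fin d ⊕ Fin d → F) :=
    Module.nontrivial_of_finrank_pos (R := F) (by rw [finrank_sympSpace]; omega)
  have hiff : ∀ D : Fin t → Submodule F (Fin d ⊕ Fin d → F),
      (Cfsg.Geo.IsMDecomposition a D ∧ (∀ j, ∀ u ∈ D j, u ≠ 0 → ∃ v ∈ D j, Cfsg.sympForm d F u v ≠ 0) ∧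
        (∀ j j', j ≠ j' → ∀ u ∈ D j, ∀ v ∈ D j', Cfsg.sympForm d F u v = 0)) ↔
      (Cfsg.Geo.IsMDecomposition a D ∧ (∀ j, NdOn (sympB d F) (D j)) ∧
        ∀ j k, j ≠ k → D k ≤ orth (sympB d F) (D j)) :=
    fun D => and_congr Iff.rfl (and_congr (forall_congr' fun j => ndOn_iff (D j)) (orth_iff D))
  rw [Nat.card_congr (Equiv.subtypeEquivRight hiff)] at hΩ
  have hLHS : (∀ x : ↥(Matrix.symplecticGroup (Fin d) F),
      (∃ z : F, ((x ^ r : ↥(Matrix.symplecticGroup (Fin d) F)) : Matrix (Fin d ⊕ Fin d) (Fin d ⊕ Fin d) F) = z • (1 : Matrix (Fin d ⊕ Fin d) (Fin d ⊕ Fin d) F)) →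
      (∀ z : F, (x : Matrix (Fin d ⊕ Fin d) (Fin d ⊕ Fin d) F) ≠ z • (1 : Matrix (Fin d ⊕ Fin d) (Fin d ⊕ Fin d) F)) →
      ∃ D : Fin t → Submodule F (Fin d ⊕ Fin d → F), (Cfsg.Geo.IsMDecomposition a D ∧ (∀ j, ∀ u ∈ D j, u ≠ 0 → ∃ v ∈ D j, Cfsg.sympForm d F u v ≠ 0) ∧
          (∀ j j', j ≠ j' → ∀ u ∈ D j, ∀ v ∈ D j', Cfsg.sympForm d F u v = 0)) ∧
        ∃ σ : Equiv.Perm (Fin t), ∀ j, (D j).map (Matrix.toLin' (x : Matrix (Fin d ⊕ Fin d) (Fin d ⊕ Fin d) F)) = D (σ j)) ↔
      ∀ x : Matrix.symplecticGroup (Fin d) F,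
        (∃ z : F, spEnd x ^ r = z • (1 : Module.End F (Fin d ⊕ Fin d → F))) →
        (∀ z : F, spEnd x ≠ z • (1 : Module.End F (Fin d ⊕ Fin d → F))) →
        ∃ D : Fin t → Submodule F (Fin d ⊕ Fin d → F), (Cfsg.Geo.IsMDecomposition a D ∧
          (∀ j, NdOn (sympB d F) (D j)) ∧ ∀ j k, j ≠ k → D k ≤ orth (sympB d F) (D j)) ∧
          ∃ σ : Equiv.Perm (Fin t), ∀ j, (D j).map (spEnd x) = D (σ j) := by
    refine forall_congr' fun x => ?_
    simp only [spEnd_pow, ne_eq, spEnd_eq_smul_iff]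
    exact imp_congr Iff.rfl (imp_congr Iff.rfl (exists_congr fun D => and_congr (hiff D) Iff.rfl))
  rw [hLHS]
  have hrF : (r : F) ≠ 0 := PrimeOrderElt.natCast_ne_zero_of_ne (p := p) hrp
  have hrq : ¬ r ∣ Fintype.card F := by
    obtain ⟨e, hp, he⟩ := FiniteField.card F p
    rw [he]
    intro h
    exact hrp ((Nat.prime_dvd_prime_iff_eq Fact.out hp).1 ((Fact.out : r.Prime).dvd_of_dvd_pow h))
  have hipos := orderOf_card_pos (r := r) hrF
  have hcpos : 0 < c := by split_ifs at hc <;> omega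
  obtain ⟨l, hl1, hl2, hl⟩ := exists_index hrq (by omega : 0 < a) ⟨h, hh⟩ hat ht hΩ
  have hcn : c ≤ 2 * d := by
    have hl' := (dvd_pow_sub_one_iff (r := r) (F := F) _).1 hl
    refine (Nat.le_of_dvd (by omega) (?_ : c ∣ 2 * l)).trans (by omega)
    split_ifs at hc with he
    · rw [hc]; exact hl'
    · rw [hc]
      exact mul_dvd_mul_left 2 ((Nat.not_even_iff_odd.1 he).coprime_two_right.dvd_of_dvd_mul_left hl')
  have hcr : c ≤ r - 1 := by
    have hir : orderOf (Fintype.card F : ZMod r) ∣ r - 1 :=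
      orderOf_dvd_of_pow_eq_one (ZMod.pow_card_sub_one_eq_one (PrimeOrderElt.natCast_ne_zero hrF))
    have hr3 : 3 ≤ r := by have := (Fact.out : r.Prime).two_le; omega
    split_ifs at hc with he
    · rw [hc]; exact Nat.le_of_dvd (by omega) hir
    · rw [hc]
      refine Nat.le_of_dvd (by omega) ((Nat.not_even_iff_odd.1 he).coprime_two_left.mul_dvd_of_dvd_of_dvd ?_ hir)
      obtain ⟨e, he⟩ := (Fact.out : r.Prime).odd_of_ne_two hr2
      exact ⟨e, by omega⟩
  constructor
  · intro H
    -- one element for each case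
    have hwit : ∀ u, 0 < u → u * c ≤ 2 * d → (a ≤ finrank F ↥(⊥ : Submodule F (Fin d ⊕ Fin d → F)) + 2 * d - u * c ∧
        r * a ≤ a + u * c) ∨ ∃ s : Fin t → ℕ, ∃ e : Fin t → ℕ, (∀ j, a = e j + s j * c) ∧ ∑ j, e j + u * c ≤ 2 * d ∧
          (∀ j, s j = 0) = False := by
      intro u hu hud
      obtain ⟨x, hI, hns, hfix⟩ := exists_witness (d := d) hrF hr2 hc hu hud
      obtain ⟨D, ⟨hD, hDn, -⟩, σ, hσ⟩ := H x ⟨1, by rw [hI.pow, one_smul]⟩ hns
      by_cases hσ1 : σ = 1
      · right
        subst hσ1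
        have hDi : ∀ j, Inv (spEnd x) (D j) := fun j => (hσ j).le
        choose s hs using fun j => nd_dims hI sympB_self hc (hDi j) (hDn j)
        refine ⟨s, fun j => finrank F ↥(D j ⊓ fix (spEnd x)), fun j => (hD.finrank_eq j).symm.trans (hs j), ?_,
          eq_false fun hall => ?_⟩
        · have h1 := finrank_sup_family (hD.indep.mono fun j => (inf_le_left : D j ⊓ fix (spEnd x) ≤ D j)) Finset.univ
          have h2 : Finset.univ.sup (fun j => D j ⊓ fix (spEnd x)) ≤ fix (spEnd x) :=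
            Finset.sup_le fun j _ => inf_le_right
          have h3 := Submodule.finrank_mono h2
          show ∑ j, finrank F ↥(D j ⊓ fix (spEnd x)) + u * c ≤ 2 * d
          rw [h1] at h3
          omega
        · have hall' : fix (spEnd x) = ⊤ := eq_top_iff.2 (hD.iSup_eq_top ▸ iSup_le fun j => by
            have h1 := hs j
            rw [hall j, zero_mul, add_zero] at h1
            exact (Submodule.eq_of_le_of_finrank_eq inf_le_left h1.symm) ▸ inf_le_right)
          rw [hall', finrank_top, finrank_sympSpace] at hfix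
          have := Nat.mul_pos hu hcpos
          omega
      · left
        obtain ⟨h1, h2⟩ := moved_bounds hI.pow hD.finrank_eq hD.indep (by omega) hσ hσ1
        have h3 := hI.finrank_fix_add_range
        rw [finrank_sympSpace] at h3
        exact ⟨by omega, by omega⟩
    have hca : c ≤ a := by
      by_contra hlt
      rcases hwit 1 one_pos (by omega) with ⟨-, h2⟩ | ⟨s, e, he, -, hs⟩
      · have h3 : 2 * (r - 1) ≤ (r - 1) * a := by rw [mul_comm 2]; exact Nat.mul_le_mul_left _ ha
        rw [Nat.sub_mul, one_mul] at h3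
        omega
      · refine hs.mp fun j => ?_
        by_contra h0
        have := Nat.le_mul_of_pos_left c (Nat.pos_of_ne_zero h0)
        have := he j
        omega
    refine ⟨hca, ?_⟩
    have h1 := Nat.div_add_mod (2 * d) c
    rw [mul_comm c] at h1
    rcases hwit (2 * d / c) (Nat.div_pos hcn hcpos) (Nat.div_mul_le_self _ _) with ⟨h2, -⟩ | ⟨s, e, he, hsum, -⟩
    · rw [finrank_bot] at h2
      have := Nat.mod_lt (2 * d) hcpos
      omega
    · have hle : t * (a % c) ≤ ∑ j, e j := by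
        have : ∑ _j : Fin t, a % c ≤ ∑ j, e j := Finset.sum_le_sum fun j _ => by
          rw [he j, Nat.add_mul_mod_self_right]; exact Nat.mod_le _ _
        simpa using this
      have hlt : t * (a % c) < c := by have := Nat.mod_lt (2 * d) hcpos; omega
      rw [hat, mul_comm a t, Nat.mul_mod, Nat.mod_eq_of_lt (a := t % c * (a % c))
        (lt_of_le_of_lt (Nat.mul_le_mul_right _ (Nat.mod_le _ _)) hlt)]
      rcases Nat.eq_zero_or_pos (a % c) with e0 | e0
      · rw [e0, mul_zero, mul_zero]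
      · rw [Nat.mod_eq_of_lt (lt_of_le_of_lt (Nat.le_mul_of_pos_right t e0) hlt)]
  · rintro ⟨-, hk⟩ x ⟨z, hz⟩ hns
    obtain ⟨y, hy, -, hyW⟩ := exists_unscale (sympB_isSym d) (spEnd_mem x)
      ((Fact.out : r.Prime).odd_of_ne_two hr2) hrF hz hns
    obtain ⟨D, hDd, hDn, hDi, hDo, hDt⟩ := exists_summands hr2 ⟨h, hh⟩ (by omega : 0 < a) hc t hy sympB_self
      (by rw [finrank_sympSpace, hat, mul_comm]) (hk ▸ Nat.mod_lt _ hcpos)
    refine ⟨D, ⟨⟨ht, by omega, hDd, iSupIndep_of_orth hDn hDo, hDt⟩, hDn, hDo⟩, 1, fun j => ?_⟩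
    refine Submodule.eq_of_le_of_finrank_eq (hyW _ (hDi j)) ?_
    exact (Submodule.equivMapOfInjective _ ((sympB_isSym d).iso_injective (spEnd_mem x)) (D j)).finrank_eq.symm

end Cfsg.Agent.S5961
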