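import Cfsg.Statements.S5962
import Cfsg.Agent.Lib.SympInvolution.Matrix

set_option autoImplicit false
open scoped MatrixGroups
open Cfsg

namespace Cfsg.Agent.S5962

/-- Involutions of PSp_n(q), q odd, and the subgroups GL_{n/2}(q).2. Here `T = PSp_n(q)`, `n = 2d ≥ 4`, `q` odd, realised through the symplectic matrices over the field `F` with `q` elements; Ω is the set of unordered pairs `{U, W}` of complementary totally isotropic `d`-spaces (`F^n = U ⊕ W`), whose stabilizers are the subgroups of type GL_d(q).2 (maximal except in some small cases; maximality is not assumed); an element of `T` of prime order `r` (a symplectic matrix `x` with `x^r` scalar, `x` not scalar) fixes such a pair when it fixes or interchanges `U` and `W`. If the number of such pairs is even, every involution of `T` fixes one of them (the action is 2-elusive). -/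
theorem result {F : Type*} [Field F] [Fintype F] {p : ℕ} [Fact p.Prime] [CharP F p] {q : ℕ} (hq : Fintype.card F = q)
    (d : ℕ) (hd : 2 ≤ d) (hT : (d, q) ≠ (2, 2)) (hodd : Odd q)
    (hΩ : 2 ∣ Nat.card {P : Submodule F (Fin d ⊕ Fin d → F) × Submodule F (Fin d ⊕ Fin d → F) // IsCompl P.1 P.2 ∧ (∀ u ∈ P.1, ∀ v ∈ P.1, Cfsg.sympForm d F u v = 0) ∧ (∀ u ∈ P.2, ∀ v ∈ P.2, Cfsg.sympForm d F u v = 0)} / 2)
    (x : ↥(Matrix.symplecticGroup (Fin d) F))
    (hx1 : ∃ z : F, ((x ^ 2 : ↥(Matrix.symplecticGroup (Fin d) F)) : Matrix (Fin d ⊕ Fin d) (Fin d ⊕ Fin d) F) = z • (1 : Matrix (Fin d ⊕ Fin d) (Fin d ⊕ Fin d) F))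
    (hx2 : ∀ z : F, (x : Matrix (Fin d ⊕ Fin d) (Fin d ⊕ Fin d) F) ≠ z • (1 : Matrix (Fin d ⊕ Fin d) (Fin d ⊕ Fin d) F)) :
    ∃ U W : Submodule F (Fin d ⊕ Fin d → F), IsCompl U W ∧ (∀ u ∈ U, ∀ v ∈ U, Cfsg.sympForm d F u v = 0) ∧ (∀ u ∈ W, ∀ v ∈ W, Cfsg.sympForm d F u v = 0) ∧
        ((U.map (Matrix.toLin' (x : Matrix (Fin d ⊕ Fin d) (Fin d ⊕ Fin d) F)) = U ∧ W.map (Matrix.toLin' (x : Matrix (Fin d ⊕ Fin d) (Fin d ⊕ Fin d) F)) = W) ∨
         (U.map (Matrix.toLin' (x : Matrix (Fin d ⊕ Fin d) (Fin d ⊕ Fin d) F)) = W ∧ W.map (Matrix.toLin' (x : Matrix (Fin d ⊕ Fin d) (Fin d ⊕ Fin d) F)) = U)) := by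
  obtain ⟨z, hz⟩ := hx1
  have hfr := SympInvolution.exists_frame_matrix (by omega) x z hz
  set g := Matrix.toLin' (x : Matrix (Fin d ⊕ Fin d) (Fin d ⊕ Fin d) F) with hg
  obtain ⟨hz1, hgg, φ, hφ⟩ := hfr
  have h2 : (2 : F) ≠ 0 := by
    refine Ring.two_ne_zero fun h => ?_
    have := FiniteField.even_card_of_char_two h
    rw [hq] at this
    exact Nat.not_even_iff_odd.mpr hodd (Nat.even_iff.mpr this)
  have hA : (SympInvolution.sympBilin d F).IsAlt := fun v => Linear.sympForm_self v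
  set U := Submodule.span F (Set.range φ.e)
  set W := Submodule.span F (Set.range φ.w)
  have hiso : ∀ (s : φ.ι → Fin d ⊕ Fin d → F), (∀ i j, SympInvolution.sympBilin d F (s i) (s j) = 0) →
      ∀ u ∈ Submodule.span F (Set.range s), ∀ v ∈ Submodule.span F (Set.range s), Cfsg.sympForm d F u v = 0 := by
    intro s hs u hu v hv
    rw [← SympInvolution.sympBilin_apply]
    induction hu using Submodule.span_induction with
    | mem a ha =>
      induction hv using Submodule.span_induction with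
      | mem b hb => obtain ⟨i, rfl⟩ := ha; obtain ⟨j, rfl⟩ := hb; exact hs i j
      | zero => simp
      | add b c _ _ hb hc => simp [hb, hc]
      | smul c b _ hb => simp [hb]
    | zero => simp
    | add a b _ _ ha hb => simp [ha, hb]
    | smul c a _ ha => simp [ha]
  have hzne : z ≠ 0 := by rcases hz1 with rfl | rfl <;> simp
  have key : ∀ (s t : φ.ι → Fin d ⊕ Fin d → F),
      (∀ i, g (s i) ∈ Submodule.span F {t i}) → (∀ i, g (t i) ∈ Submodule.span F {s i}) →
      (Submodule.span F (Set.range s)).map g = Submodule.span F (Set.range t) := by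
    intro s t hst hts
    have hle : ∀ (a b : φ.ι → Fin d ⊕ Fin d → F), (∀ i, g (a i) ∈ Submodule.span F {b i}) →
        (Submodule.span F (Set.range a)).map g ≤ Submodule.span F (Set.range b) := by
      intro a b hab
      rw [Submodule.map_span, Submodule.span_le]
      rintro _ ⟨_, ⟨i, rfl⟩, rfl⟩
      exact Submodule.span_mono (by simp) (hab i)
    refine le_antisymm (hle s t hst) fun v hv => ?_
    refine ⟨z⁻¹ • g v, Submodule.smul_mem _ _ (hle t s hts ⟨v, hv, rfl⟩), ?_⟩
    rw [map_smul, hgg, smul_smul, inv_mul_cancel₀ hzne, one_smul]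
  refine ⟨U, W, ⟨?_, ?_⟩, hiso _ φ.ee, hiso _ φ.ww, ?_⟩
  · exact ((linearIndependent_sum.mp (φ.linearIndependent hA)).2.2 : Disjoint _ _)
  · rw [codisjoint_iff, ← Submodule.span_union, ← Set.Sum.elim_range, hφ]
  · rcases hz1 with rfl | rfl
    · have h := (φ.shape h2).2.1 rfl
      exact Or.inl ⟨key _ _ (fun i => (h i).1) (fun i => (h i).1), key _ _ (fun i => (h i).2) (fun i => (h i).2)⟩
    · have h := (φ.shape h2).2.2 rfl
      exact Or.inr ⟨key _ _ (fun i => (h i).1) (fun i => (h i).2), key _ _ (fun i => (h i).2) (fun i => (h i).1)⟩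

end Cfsg.Agent.S5962
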