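import Cfsg.Statements.S5963
import Cfsg.Agent.EqLemmas
import Cfsg.Agent.Lib.Linear.PolarPair

set_option autoImplicit false
open scoped MatrixGroups
open Cfsg

namespace Cfsg.Agent.S5963

open Matrix Cfsg.Agent.GLOrder Cfsg.Agent.Linear

variable {F : Type*} [Field F] {d j k : ℕ}

/-- Coordinates of the two blocks. -/
def coords (hjk : j + k = d) : Fin d ⊕ Fin d ≃ (Fin j ⊕ Fin j) ⊕ (Fin k ⊕ Fin k) :=
  (Equiv.sumCongr ((finCongr hjk.symm).trans finSumFinEquiv.symm)
    ((finCongr hjk.symm).trans finSumFinEquiv.symm)).trans (Equiv.sumSumSumComm _ _ _ _)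

/-- The block matrix `y ⊕ 1`. -/
noncomputable def embed (hjk : j + k = d) :
    Matrix (Fin j ⊕ Fin j) (Fin j ⊕ Fin j) F →* Matrix (Fin d ⊕ Fin d) (Fin d ⊕ Fin d) F where
  toFun A := Matrix.reindexAlgEquiv F F (coords hjk).symm (Matrix.fromBlocks A 0 0 1)
  map_one' := by rw [Matrix.fromBlocks_one, map_one]
  map_mul' A B := by rw [← map_mul, Matrix.fromBlocks_multiply]; simp

theorem embed_mulVec (hjk : j + k = d) (A : Matrix (Fin j ⊕ Fin j) (Fin j ⊕ Fin j) F) (v : Fin d ⊕ Fin d → F)
    (s : (Fin j ⊕ Fin j) ⊕ (Fin k ⊕ Fin k)) :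
    (embed hjk A *ᵥ v) ((coords hjk).symm s) =
      Sum.elim (A *ᵥ fun a => v ((coords hjk).symm (Sum.inl a))) (fun b => v ((coords hjk).symm (Sum.inr b))) s := by
  show (Matrix.reindexAlgEquiv F F (coords hjk).symm _ *ᵥ v) _ = _
  rw [Matrix.coe_reindexAlgEquiv, Matrix.reindex_apply, Matrix.submatrix_mulVec_equiv]
  rcases s with s | s <;> simp [Matrix.fromBlocks_mulVec, Function.comp_def]

theorem sympB_split (hjk : j + k = d) (u v : Fin d ⊕ Fin d → F) :
    sympB d F u v =
      sympB j F (fun a => u ((coords hjk).symm (Sum.inl a))) (fun a => v ((coords hjk).symm (Sum.inl a))) +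
      sympB k F (fun a => u ((coords hjk).symm (Sum.inr a))) (fun a => v ((coords hjk).symm (Sum.inr a))) := by
  subst hjk
  rw [sympB_apply, sympB_apply, sympB_apply, Fin.sum_univ_add]
  rfl

theorem embed_mem (hjk : j + k = d) {A : Matrix (Fin j ⊕ Fin j) (Fin j ⊕ Fin j) F}
    (hA : A ∈ Matrix.symplecticGroup (Fin j) F) : embed hjk A ∈ Matrix.symplecticGroup (Fin d) F := by
  rw [mem_symplecticGroup_iff_preserves]
  intro u v
  rw [sympB_split hjk, sympB_split hjk u v]
  simp only [embed_mulVec, Sum.elim_inl, Sum.elim_inr]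
  rw [(mem_symplecticGroup_iff_preserves _).1 hA]

/-- The vectors of the first block. -/
def firstBlock (hjk : j + k = d) : (Fin j ⊕ Fin j → F) →ₗ[F] (Fin d ⊕ Fin d → F) where
  toFun w a := Sum.elim w 0 (coords hjk a)
  map_add' u w := funext fun a => by rcases h : coords hjk a with s | s <;> simp [h]
  map_smul' c w := funext fun a => by rcases h : coords hjk a with s | s <;> simp [h]


theorem firstBlock_inl (hjk : j + k = d) (w : Fin j ⊕ Fin j → F) (b : Fin j ⊕ Fin j) :
    firstBlock hjk w ((coords hjk).symm (Sum.inl b)) = w b := by simp [firstBlock]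

theorem firstBlock_inr (hjk : j + k = d) (w : Fin j ⊕ Fin j → F) (b : Fin k ⊕ Fin k) :
    firstBlock hjk w ((coords hjk).symm (Sum.inr b)) = 0 := by simp [firstBlock]

/-- Derangements of odd prime order of PSp_n(q), q odd, on pairs of complementary totally isotropic subspaces. Here `T = PSp_n(q)`, `n = 2d ≥ 4`, `q` odd, realised through the symplectic matrices over the field `F` with `q` elements; Ω is the set of unordered pairs `{U, W}` of complementary totally isotropic `d`-spaces (`F^n = U ⊕ W`), whose stabilizers are the subgroups of type GL_d(q).2 (maximal except in some small cases; maximality is not assumed); an element of `T` of prime order `r` (a symplectic matrix `x` with `x^r` scalar, `x` not scalar) fixes such a pair when it fixes or interchanges `U` and `W`. For every odd prime `r ≠ p` dividing the number of such pairs, some element of `T` of order `r` fixes no such pair (the action is never `r`-elusive for odd `r ≠ p`). -/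
theorem result {F : Type*} [Field F] [Fintype F] {p : ℕ} [Fact p.Prime] [CharP F p] {q : ℕ} (hq : Fintype.card F = q)
    (d : ℕ) (hd : 2 ≤ d) (hT : (d, q) ≠ (2, 2)) (hodd : Odd q)
    (r : ℕ) [Fact r.Prime] (hr2 : r ≠ 2) (hrp : r ≠ p) (hΩ : r ∣ Nat.card {P : Submodule F (Fin d ⊕ Fin d → F) × Submodule F (Fin d ⊕ Fin d → F) // IsCompl P.1 P.2 ∧ (∀ u ∈ P.1, ∀ v ∈ P.1, Cfsg.sympForm d F u v = 0) ∧ (∀ u ∈ P.2, ∀ v ∈ P.2, Cfsg.sympForm d F u v = 0)} / 2) :
    ∃ x : ↥(Matrix.symplecticGroup (Fin d) F),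
      (∃ z : F, ((x ^ r : ↥(Matrix.symplecticGroup (Fin d) F)) : Matrix (Fin d ⊕ Fin d) (Fin d ⊕ Fin d) F) = z • (1 : Matrix (Fin d ⊕ Fin d) (Fin d ⊕ Fin d) F)) ∧
      (∀ z : F, (x : Matrix (Fin d ⊕ Fin d) (Fin d ⊕ Fin d) F) ≠ z • (1 : Matrix (Fin d ⊕ Fin d) (Fin d ⊕ Fin d) F)) ∧
      ¬ (∃ U W : Submodule F (Fin d ⊕ Fin d → F), IsCompl U W ∧ (∀ u ∈ U, ∀ v ∈ U, Cfsg.sympForm d F u v = 0) ∧ (∀ u ∈ W, ∀ v ∈ W, Cfsg.sympForm d F u v = 0) ∧
        ((U.map (Matrix.toLin' (x : Matrix (Fin d ⊕ Fin d) (Fin d ⊕ Fin d) F)) = U ∧ W.map (Matrix.toLin' (x : Matrix (Fin d ⊕ Fin d) (Fin d ⊕ Fin d) F)) = W) ∨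
         (U.map (Matrix.toLin' (x : Matrix (Fin d ⊕ Fin d) (Fin d ⊕ Fin d) F)) = W ∧ W.map (Matrix.toLin' (x : Matrix (Fin d ⊕ Fin d) (Fin d ⊕ Fin d) F)) = U))) := by
  classical
  subst hq
  have hrF : (r : F) ≠ 0 := PrimeOrderElt.natCast_ne_zero_of_ne (p := p) hrp
  have hrq : ¬ r ∣ Fintype.card F := by
    obtain ⟨e, hp, he⟩ := FiniteField.card F p
    rw [he]
    intro h
    exact hrp ((Nat.prime_dvd_prime_iff_eq Fact.out hp).1 ((Fact.out : r.Prime).dvd_of_dvd_pow h))
  have hdvd : r ∣ Nat.card (PolarPair d F) := by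
    obtain ⟨e, he⟩ := hΩ
    rcases Nat.even_or_odd (Nat.card (PolarPair d F)) with ⟨m, hm⟩ | ⟨m, hm⟩
    · exact ⟨2 * e, by rw [hm]; simp only [PolarPair] at hm ⊢; rw [hm] at he; rw [mul_left_comm]; omega⟩
    · -- pairs come in couples
      exfalso
      let σ : PolarPair d F → PolarPair d F := fun P => ⟨(P.1.2, P.1.1), P.2.1.symm, P.2.2.2, P.2.2.1⟩
      haveI : Finite (Submodule F (Fin d ⊕ Fin d → F)) :=
        Finite.of_injective (fun W => (W : Set (Fin d ⊕ Fin d → F))) SetLike.coe_injective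
      haveI : Fintype (PolarPair d F) := Fintype.ofFinite _
      have hinv : Function.Involutive σ := fun P => rfl
      have hfree : ∀ P, hinv.toPerm σ P ≠ P := by
        intro P hP
        have h1 : P.1.2 = P.1.1 := congrArg (fun Q : PolarPair d F => Q.1.1) hP
        have h2 := P.2.1.inf_eq_bot
        rw [h1, inf_idem] at h2
        have h3 := (polar_finrank P).1
        rw [h2, finrank_bot] at h3
        omega
      have h2 : 2 ∣ Fintype.card (PolarPair d F) := by
        have hpow : (hinv.toPerm σ) ^ 2 ^ 1 = 1 := by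
          refine Equiv.ext fun P => ?_
          rw [pow_one, pow_two]; exact hinv P
        have hne : (hinv.toPerm σ).support = Finset.univ :=
          Finset.eq_univ_iff_forall.2 fun P => Equiv.Perm.mem_support.2 (hfree P)
        by_contra h2
        haveI : Fact (Nat.Prime 2) := ⟨Nat.prime_two⟩
        obtain ⟨P, hP⟩ := Equiv.Perm.exists_fixed_point_of_prime h2 hpow
        exact hfree P hP
      rw [Nat.card_eq_fintype_card] at hm
      omega
  obtain ⟨i, hi1, hid, hi⟩ := exists_of_dvd_polar_pairs Fact.out hrq hdvd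
  obtain ⟨j, hj, ho, hji⟩ := orderOf_eq_even hr2 hrF hi
  have hjd : j ≤ d := by have := Nat.le_of_dvd (by omega) hji; omega
  obtain ⟨k, hjk⟩ : ∃ k, j + k = d := ⟨d - j, by omega⟩
  obtain ⟨y, hyr, hy1, hirr⟩ := exists_irreducible hrF hj ho
  let x : ↥(Matrix.symplecticGroup (Fin d) F) := ⟨embed hjk y.1, embed_mem hjk y.2⟩
  have hxr : x.1 ^ r = 1 := by show embed hjk y.1 ^ r = 1; rw [← map_pow, hyr, map_one]
  have hxne : x.1 ≠ 1 := by
    intro h
    apply hy1
    refine Matrix.ext_of_mulVec_single fun a => funext fun b => ?_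
    have h2 := congrFun (congrArg (fun M : Matrix (Fin d ⊕ Fin d) (Fin d ⊕ Fin d) F =>
      M *ᵥ firstBlock hjk (Pi.single a 1)) h) ((coords hjk).symm (Sum.inl b))
    simp [x, embed_mulVec, firstBlock_inl, Matrix.one_mulVec] at h2
    rw [Matrix.mulVec_single_one, Matrix.mulVec_single_one]
    simpa [Matrix.col_apply, Matrix.one_apply, Pi.single_apply] using h2
  refine ⟨x, ⟨1, by rw [one_smul, SubmonoidClass.coe_pow, hxr]⟩, ?_, ?_⟩
  · intro z hz
    -- a scalar fixes the second block or inverts the first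
    have hz' : ∀ a : Fin j ⊕ Fin j, y.1 *ᵥ Pi.single a 1 = z • Pi.single a 1 := by
      intro a
      funext b
      have h2 := congrFun (congrArg (fun M : Matrix (Fin d ⊕ Fin d) (Fin d ⊕ Fin d) F =>
        M *ᵥ firstBlock hjk (Pi.single a 1)) hz) ((coords hjk).symm (Sum.inl b))
      simpa [x, embed_mulVec, firstBlock_inl, Matrix.smul_mulVec, Matrix.one_mulVec] using h2
    have := hirr (Submodule.span F {Pi.single (Sum.inl (⟨0, hj⟩ : Fin j)) 1}) (fun v hv => by
      obtain ⟨c, rfl⟩ := Submodule.mem_span_singleton.1 hv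
      rw [Matrix.mulVec_smul, hz']
      exact Submodule.smul_mem _ _ (Submodule.smul_mem _ _ (Submodule.mem_span_singleton_self _)))
    rcases this with h | h
    · rw [Submodule.span_singleton_eq_bot] at h
      simpa using h
    · have h2 := congrArg (fun W : Submodule F (Fin j ⊕ Fin j → F) => Module.finrank F W) h
      simp only [finrank_top, finrank_sympSpace] at h2
      rw [finrank_span_singleton (by simp)] at h2
      omega
  rintro ⟨U, W, hUW, hU, hW, hmap⟩
  set g := Matrix.toLin' x.1 with hg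
  rcases hmap with ⟨hmU, hmW⟩ | ⟨hmU, hmW⟩
  · have key : ∀ U : Submodule F (Fin d ⊕ Fin d → F), (∀ u ∈ U, ∀ v ∈ U, Cfsg.sympForm d F u v = 0) →
        U.map g = U → ∀ u ∈ U, x.1 *ᵥ u = u := by
      intro U hU hmU u hu
      let T := U.comap (firstBlock (F := F) hjk)
      have hTinv : ∀ w ∈ T, y.1 *ᵥ w ∈ T := by
        intro w hw
        show firstBlock hjk (y.1 *ᵥ w) ∈ U
        have h1 : g (firstBlock hjk w) ∈ U := hmU ▸ Submodule.mem_map_of_mem hw
        convert h1 using 1
        funext a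
        obtain ⟨s, rfl⟩ := (coords hjk).symm.surjective a
        rw [hg, Matrix.toLin'_apply, embed_mulVec]
        rcases s with s | s <;> simp [firstBlock]
      have hTne : T ≠ ⊤ := by
        intro hT
        have hall : ∀ w, firstBlock hjk w ∈ U := fun w => (hT ▸ Submodule.mem_top : w ∈ T)
        have h0 := hU _ (hall (Pi.single (Sum.inl ⟨0, hj⟩) 1)) _ (hall (Pi.single (Sum.inr ⟨0, hj⟩) 1))
        rw [← neg_eq_zero, ← sympB_eq_neg_sympForm, sympB_split hjk] at h0
        simp [firstBlock, sympB_apply, Pi.single_apply] at h0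
      have hT : T = ⊥ := (hirr T hTinv).resolve_right hTne
      have hdiff : x.1 *ᵥ u - u ∈ U :=
        U.sub_mem (hmU ▸ Submodule.mem_map_of_mem (f := g) hu) hu
      set w : Fin j ⊕ Fin j → F := fun a => (x.1 *ᵥ u - u) ((coords hjk).symm (Sum.inl a))
      have hw : firstBlock hjk w = x.1 *ᵥ u - u := by
        funext a
        obtain ⟨s, rfl⟩ := (coords hjk).symm.surjective a
        rcases s with s | s
        · simp [firstBlock, w]
        · show Sum.elim w 0 _ = _
          rw [Equiv.apply_symm_apply, Sum.elim_inr, Pi.sub_apply, show x.1 = embed hjk y.1 from rfl, embed_mulVec]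
          simp
      have hwT : w ∈ T := by show firstBlock hjk w ∈ U; rwa [hw]
      rw [hT, Submodule.mem_bot] at hwT
      rw [hwT, map_zero] at hw
      exact sub_eq_zero.1 hw.symm
    apply hxne
    refine Matrix.ext_of_mulVec_single fun a => ?_
    obtain ⟨u, hu, w, hw, huw⟩ : ∃ u ∈ U, ∃ w ∈ W, u + w = (Pi.single a 1 : Fin d ⊕ Fin d → F) := by
      rw [← Submodule.mem_sup, hUW.sup_eq_top]; trivial
    rw [← huw, Matrix.mulVec_add, key U hU hmU u hu, key W hW hmW w hw, Matrix.one_mulVec]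
  · obtain ⟨m, hm⟩ := (Fact.out : r.Prime).odd_of_ne_two hr2
    have h2 : ∀ m : ℕ, U.map (g ^ (2 * m)) = U := by
      intro m
      induction m with
      | zero => simp [Module.End.one_eq_id]
      | succ m ih =>
        rw [mul_add, mul_one, add_comm, pow_add, Module.End.mul_eq_comp, Submodule.map_comp, ih, pow_two,
          Module.End.mul_eq_comp, Submodule.map_comp, hmU, hmW]
    have hgr : g ^ r = 1 := by show (Matrix.toLinAlgEquiv' x.1) ^ r = 1; rw [← map_pow, hxr, map_one]
    have h3 : U.map (g ^ r) = W := by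
      rw [hm, add_comm, pow_add, pow_one, Module.End.mul_eq_comp, Submodule.map_comp, h2, hmU]
    rw [hgr, Module.End.one_eq_id, Submodule.map_id] at h3
    have hinf := hUW.inf_eq_bot
    rw [← h3, inf_idem] at hinf
    have hsup := hUW.sup_eq_top
    rw [← h3, sup_idem, hinf] at hsup
    have := congrArg (fun W : Submodule F (Fin d ⊕ Fin d → F) => Module.finrank F W) hsup
    simp only [finrank_bot, finrank_top, finrank_sympSpace] at this
    omega

end Cfsg.Agent.S5963
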