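import Cfsg.Statements.S5964
import Cfsg.Agent.EqLemmas
import Cfsg.Agent.Lib.Linear.QuadExt
import Cfsg.Agent.Lib.GLOrder.Basic
import Cfsg.Agent.Lib.Linear.SubfieldConj

set_option autoImplicit false
open scoped MatrixGroups
open Cfsg

namespace Cfsg.Agent.S5964

open Matrix Cfsg.Agent.Linear Cfsg.Agent.PrimeOrderElt

/-- Involutions of PSL_n(q) and subfield subgroups. Here `T = PSL_n(F)` for a field `F` with `q = p^f` elements (`n ≥ 2`, `(n, q) ≠ (2, 2), (2, 3)`), `F₀` is the subfield with `q₀` elements where `q = q₀^k` for a prime `k`, and `H` is the subgroup of matrices of determinant 1 lying in the subfield group of `F₀` (invertible matrices over `F₀` times scalars) — a maximal subgroup of type GL_n(q₀) (the case `n = 2`, `q₀ = 2` is excluded); Ω is the set of `T`-conjugates of `H` (cosets of `H`), so an element of `T` of prime order `r` (a matrix `x` of determinant 1 with `x^r` scalar, `x` not scalar) fixes a point of Ω when some conjugate of `x` by a matrix of determinant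 1 lies in `H`. Suppose the index of `H` is even. Then every involution of `T` is conjugate in `T` into `H` if and only if either `q` is even, or `k = 2` and `(n)_2 ≤ (q − 1)_2`. (For `q` odd and `k` odd the index of `H` is odd, so that case does not arise.) -/
theorem result {F : Type*} [Field F] [Fintype F] {p : ℕ} [Fact p.Prime] [CharP F p] {q : ℕ} (hq : Fintype.card F = q)
  (n : ℕ) (hn : 2 ≤ n) (hT : (n, q) ≠ (2, 2) ∧ (n, q) ≠ (2, 3))
  (F₀ : Subfield F) (k q₀ : ℕ) (hk : k.Prime) (hF₀ : Nat.card ↥F₀ = q₀) (hqk : q = q₀ ^ k) (hC5 : ¬ (n = 2 ∧ q₀ = 2)) (hΩ : 2 ∣ ((Cfsg.Geo.subfieldSubgroup F₀ 1).comap (Matrix.SpecialLinearGroup.toGL : Matrix.SpecialLinearGroup (Fin n) F →* GL (Fin n) F)).index) :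
  (∀ x : Matrix.SpecialLinearGroup (Fin n) F,
    (∃ z : F, ((x ^ 2 : Matrix.SpecialLinearGroup (Fin n) F) : Matrix (Fin n) (Fin n) F) = z • (1 : Matrix (Fin n) (Fin n) F)) →
    (∀ z : F, (x : Matrix (Fin n) (Fin n) F) ≠ z • (1 : Matrix (Fin n) (Fin n) F)) →
    ∃ P : Matrix.SpecialLinearGroup (Fin n) F, P⁻¹ * x * P ∈ ((Cfsg.Geo.subfieldSubgroup F₀ 1).comap (Matrix.SpecialLinearGroup.toGL : Matrix.SpecialLinearGroup (Fin n) F →* GL (Fin n) F))) ↔
  (Odd q → (k = 2 ∧ padicValNat 2 n ≤ padicValNat 2 (q - 1))) := by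
  classical
  subst hq
  haveI : NeZero n := ⟨by omega⟩
  have hxx : ∀ (x : Matrix.SpecialLinearGroup (Fin n) F) (z : F),
      ((x ^ 2 : Matrix.SpecialLinearGroup (Fin n) F) : Matrix (Fin n) (Fin n) F) = z • (1 : Matrix (Fin n) (Fin n) F) →
      (x : Matrix (Fin n) (Fin n) F) * x = z • (1 : Matrix (Fin n) (Fin n) F) ∧ z ≠ 0 := by
    intro x z hz
    rw [Matrix.SpecialLinearGroup.coe_pow, pow_two] at hz
    refine ⟨hz, ?_⟩
    rintro rfl
    rw [zero_smul] at hz
    have := congrArg Matrix.det hz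
    simp at this
  by_cases h2 : (2 : F) = 0
  · -- even characteristic
    have hr : ringChar F = 2 := by
      have : CharP F 2 := CharTwo.of_one_ne_zero_of_two_eq_zero one_ne_zero h2
      exact ringChar.eq F 2
    have heven : ¬ Odd (Fintype.card F) := by
      have := FiniteField.even_card_of_char_two hr
      rw [Nat.odd_iff]; omega
    refine ⟨fun _ h => absurd h heven, fun _ x hx hns => ?_⟩
    obtain ⟨z, hz⟩ := hx
    obtain ⟨hz1, hz0⟩ := hxx x z hz
    obtain ⟨c, rfl⟩ := FiniteField.isSquare_of_char_two hr z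
    exact mem_of_char_two F₀ x c (mul_ne_zero_iff.1 hz0).1 h2 hz1 hns
  have hrc : ringChar F ≠ 2 := fun h => h2 (by
    have := ringChar.charP F
    rw [h] at this
    exact CharTwo.two_eq_zero)
  have hodd := FiniteField.odd_card_of_char_ne_two hrc
  have hq0 : Nat.card F₀ % 2 = 1 := by
    rw [hF₀]
    rw [hqk, Nat.pow_mod] at hodd
    rcases Nat.mod_two_eq_zero_or_one q₀ with h | h
    · rw [h, zero_pow hk.ne_zero] at hodd; simp at hodd
    · exact h
  -- `k = 2` as the index is even
  have hk2 : k = 2 := by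
    by_contra hk2
    have hkodd : k % 2 = 1 := Nat.odd_iff.1 (hk.odd_of_ne_two hk2)
    have hS : ∀ a e : ℕ, a % 2 = 1 → ∃ S, a ^ e - 1 = (a - 1) * S ∧ S % 2 = e % 2 := by
      intro a e ha
      induction e with
      | zero => exact ⟨0, by simp, rfl⟩
      | succ e ih =>
        obtain ⟨S, hS, hpar⟩ := ih
        refine ⟨S * a + 1, ?_, ?_⟩
        · have h1 : 1 ≤ a ^ e := Nat.one_le_pow _ _ (by omega)
          rw [pow_succ, mul_add, mul_one, ← mul_assoc, ← hS, Nat.sub_mul, one_mul]
          have : a ≤ a ^ e * a := Nat.le_mul_of_pos_left a h1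
          omega
        · rw [Nat.add_mod, Nat.mul_mod, ha, Nat.mul_one, Nat.mod_mod, hpar]; omega
    haveI : Fintype F₀ := Fintype.ofFinite F₀
    set H := (Cfsg.Geo.subfieldSubgroup F₀ 1).comap
      (Matrix.SpecialLinearGroup.toGL : Matrix.SpecialLinearGroup (Fin n) F →* GL (Fin n) F) with hH
    let φ : Matrix.SpecialLinearGroup (Fin n) F₀ →* Matrix.SpecialLinearGroup (Fin n) F :=
      Matrix.SpecialLinearGroup.map (F₀.subtype : F₀ →+* F)
    have hφ : Function.Injective φ := by
      intro u v huv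
      apply Subtype.ext
      exact Matrix.map_injective Subtype.val_injective (congrArg Subtype.val huv)
    have hle : φ.range ≤ H := by
      rintro _ ⟨u, rfl⟩
      rw [hH, Subgroup.mem_comap, mem_subfieldSubgroup_one]
      exact ⟨Matrix.SpecialLinearGroup.toGL u, 1, by rw [Units.val_one, one_smul]; rfl⟩
    have hdvd : Nat.card (Matrix.SpecialLinearGroup (Fin n) F₀) ∣ Nat.card H := by
      rw [Nat.card_congr (MonoidHom.ofInjective hφ).toEquiv]
      exact Subgroup.card_dvd_of_le hle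
    obtain ⟨w, hw⟩ := hdvd
    have hmul := H.index_mul_card
    rw [hw, GLOrder.card_SL, GLOrder.card_SL, hF₀, Nat.card_eq_fintype_card, hqk] at hmul
    have hSi : ∀ i : ℕ, ∃ S, (q₀ ^ k) ^ (i + 1) - 1 = (q₀ ^ (i + 1) - 1) * S ∧ S % 2 = 1 := by
      intro i
      obtain ⟨S, hS, hpar⟩ := hS (q₀ ^ (i + 1)) k (by rw [Nat.pow_mod, ← hF₀, hq0, one_pow]; rfl)
      exact ⟨S, by rw [← pow_mul, mul_comm, pow_mul, hS], by omega⟩
    choose S hS1 hS2 using hSi
    rw [Finset.prod_congr rfl (fun i _ => hS1 i), Finset.prod_mul_distrib] at hmul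
    set P₀ := ∏ i ∈ Finset.Ico 1 n, (q₀ ^ (i + 1) - 1)
    have hP0 : 0 < P₀ := Finset.prod_pos fun i _ => by
      have h1 : 1 < q₀ := hF₀ ▸ Finite.one_lt_card
      have : q₀ ≤ q₀ ^ (i + 1) := Nat.le_self_pow (by omega) _
      omega
    have hkey : Odd (H.index * (q₀ ^ (n * (n - 1) / 2) * w)) := by
      have h1 : H.index * (q₀ ^ (n * (n - 1) / 2) * w) = (q₀ ^ k) ^ (n * (n - 1) / 2) * ∏ i ∈ Finset.Ico 1 n, S i := by
        apply Nat.eq_of_mul_eq_mul_left hP0
        linear_combination hmul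
      rw [h1]
      refine Odd.mul ((Nat.odd_iff.2 (hF₀ ▸ hq0)).pow.pow) ?_
      exact Finset.prod_induction S Odd (fun a b => Odd.mul) odd_one fun i _ => Nat.odd_iff.2 (hS2 i)
    exact (Nat.not_even_iff_odd.2 (Nat.odd_mul.1 hkey).1) (even_iff_two_dvd.2 hΩ)
  subst hk2
  -- elements of the subfield are squares
  have hsub : ∀ y : F₀, IsSquare (y : F) := by
    intro y
    by_cases hy : (y : F) = 0
    · rw [hy]; exact IsSquare.zero
    rw [FiniteField.isSquare_iff hrc hy]
    haveI : Fintype F₀ := Fintype.ofFinite F₀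
    have h1 : (y : F) ^ (q₀ - 1) = 1 := by
      have h := FiniteField.pow_card_sub_one_eq_one y (fun h => hy (by rw [h]; rfl))
      rw [← Nat.card_eq_fintype_card, hF₀] at h
      exact_mod_cast congrArg Subtype.val h
    have h2' : Fintype.card F / 2 = (q₀ - 1) * ((q₀ + 1) / 2) := by
      obtain ⟨e, he⟩ : ∃ e, q₀ = 2 * e + 1 := ⟨q₀ / 2, by omega⟩
      rw [hqk, he, show (2 * e + 1 + 1) / 2 = e + 1 by omega, show 2 * e + 1 - 1 = 2 * e by omega,
        show (2 * e + 1) ^ 2 = 2 * (2 * e * (e + 1)) + 1 by ring]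
      omega
    rw [h2', pow_mul, h1, one_pow]
  have hRHS : (Odd (Fintype.card F) → (2 = 2 ∧ padicValNat 2 n ≤ padicValNat 2 (Fintype.card F - 1))) ↔
      padicValNat 2 n ≤ padicValNat 2 (Fintype.card F - 1) :=
    ⟨fun h => (h (Nat.odd_iff.2 hodd)).2, fun h _ => ⟨rfl, h⟩⟩
  rw [hRHS]
  have : Fact (Nat.Prime 2) := ⟨Nat.prime_two⟩
  have h4 : Fintype.card F % 4 = 1 := by
    obtain ⟨e, he⟩ : ∃ e, q₀ = 2 * e + 1 := ⟨q₀ / 2, by omega⟩
    rw [hqk, he, show (2 * e + 1) ^ 2 = 4 * (e * e + e) + 1 by ring]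
    omega
  have hneg1 : IsSquare (-1 : F) := FiniteField.isSquare_neg_one_iff.2 (by omega)
  have hNe : Fintype.card F - 1 ≠ 0 := by have := Fintype.one_lt_card (α := F); omega
  -- nonsquare `w` with `w ^ m = 1`
  have hroot : ∀ m : ℕ, m ≠ 0 → ((∃ w : F, ¬ IsSquare w ∧ w ^ m = 1) ↔
      padicValNat 2 (Fintype.card F - 1) ≤ padicValNat 2 m) := by
    intro m hm
    constructor
    · rintro ⟨w, hw, hwm⟩
      have hw0 : w ≠ 0 := fun h => hw (h ▸ IsSquare.zero)
      have hwh := (FiniteField.pow_dichotomy hrc hw0).resolve_left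
        (fun h => hw ((FiniteField.isSquare_iff hrc hw0).2 h))
      by_contra hlt
      obtain ⟨e, he⟩ : 2 ^ padicValNat 2 m ∣ m := pow_padicValNat_dvd
      have heodd : Odd e := by
        rw [← Nat.not_even_iff_odd, even_iff_two_dvd]
        intro h
        refine pow_succ_padicValNat_not_dvd (p := 2) hm ?_
        rw [pow_succ]; nth_rw 2 [he]
        exact Nat.mul_dvd_mul_left _ h
      have hd2 : 2 ^ padicValNat 2 m ∣ Fintype.card F / 2 := by
        obtain ⟨f, hf⟩ : 2 ^ (padicValNat 2 m + 1) ∣ Fintype.card F - 1 :=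
          (padicValNat_dvd_iff_le hNe).2 (by omega)
        rw [pow_succ, mul_right_comm] at hf
        exact ⟨f, by omega⟩
      obtain ⟨f, hf⟩ := hd2
      have h1 : ((-1 : F)) ^ e = 1 := by
        rw [← hwh, ← pow_mul, hf, mul_right_comm, ← he, pow_mul, hwm, one_pow]
      rw [heodd.neg_one_pow] at h1
      exact h2 (by linear_combination -h1)
    · intro hle
      set v := padicValNat 2 (Fintype.card F - 1) with hv
      obtain ⟨g, hg⟩ := IsCyclic.exists_ofOrder_eq_natCard (α := Fˣ)
      rw [Nat.card_units, Nat.card_eq_fintype_card] at hg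
      obtain ⟨e, he⟩ : 2 ^ v ∣ Fintype.card F - 1 := pow_padicValNat_dvd
      have heodd : Odd e := by
        rw [← Nat.not_even_iff_odd, even_iff_two_dvd]
        intro h
        refine pow_succ_padicValNat_not_dvd (p := 2) hNe ?_
        rw [← hv, pow_succ, he]
        exact Nat.mul_dvd_mul_left _ h
      refine ⟨((g ^ e : Fˣ) : F), ?_, ?_⟩
      · rintro ⟨s, hs⟩
        have hs0 : s ≠ 0 := by rintro rfl; rw [mul_zero] at hs; exact (g ^ e).ne_zero hs
        have h' : g ^ e = Units.mk0 s hs0 * Units.mk0 s hs0 := Units.ext hs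
        have h3 : (g ^ e) ^ (Fintype.card F / 2) = 1 := by
          rw [h', ← pow_two, ← pow_mul, show 2 * (Fintype.card F / 2) = Fintype.card F - 1 by omega,
            ← Nat.card_eq_fintype_card, ← Nat.card_units, pow_card_eq_one']
        rw [← pow_mul, ← orderOf_dvd_iff_pow_eq_one, hg] at h3
        have hc : Nat.Coprime (2 ^ v) e := Nat.Coprime.pow_left _ (Nat.coprime_two_left.2 heodd)
        have h5 : 2 ^ v ∣ Fintype.card F / 2 := hc.dvd_of_dvd_mul_left ((Dvd.intro _ he.symm).trans h3)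
        have h6 : 2 ^ (v + 1) ∣ Fintype.card F - 1 := by
          obtain ⟨f, hf⟩ := h5
          exact ⟨f, by rw [pow_succ, mul_right_comm]; omega⟩
        exact pow_succ_padicValNat_not_dvd (p := 2) hNe h6
      · obtain ⟨f, hf⟩ : 2 ^ v ∣ m := (padicValNat_dvd_iff_le hm).2 hle
        rw [← Units.val_pow_eq_pow_val, Units.val_eq_one, ← pow_mul, ← orderOf_dvd_iff_pow_eq_one, hg, he, hf]
        exact ⟨f, by ring⟩
  constructor
  · intro hall
    by_contra hlt
    push Not at hlt
    obtain ⟨m, hnm⟩ : Even n := by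
      by_contra h
      rw [padicValNat.eq_zero_of_not_dvd (fun h' => h (even_iff_two_dvd.2 h'))] at hlt
      omega
    have hm : m ≠ 0 := by omega
    have hv : padicValNat 2 n = padicValNat 2 m + 1 := by
      rw [show n = 2 * m by omega, padicValNat.mul (by norm_num) hm, padicValNat_self]; omega
    obtain ⟨w, hw, hwm⟩ := (hroot m hm).2 (by omega)
    set z := -w with hzdef
    have hz : ¬ IsSquare z := fun h => hw (by
      obtain ⟨s, hs⟩ := hneg1
      obtain ⟨t, ht⟩ := h
      exact ⟨s * t, by linear_combination z * hs + (s * s) * ht + hzdef⟩)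
    let e : Fin 2 × Fin m ≃ Fin n := finProdFinEquiv.trans (finCongr (by omega))
    set A := pairHom e 1 (fun _ => comp2 0 z) with hAdef
    have hA : A.det = 1 := by
      rw [hAdef, det_pairHom, Finset.prod_const, Finset.card_univ, Fintype.card_fin, Matrix.det_fin_two]
      simp [comp2, hzdef, hwm]
    have hA2 : A * A = z • 1 := by
      rw [hAdef, ← map_mul, show ((fun _ => comp2 0 z) * fun _ => comp2 0 z : Fin m → Matrix (Fin 2) (Fin 2) F) = z • 1
        from funext fun _ => by rw [Pi.mul_apply, comp2_sq]; simp, pairHom_smul, map_one]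
    let a : Matrix.SpecialLinearGroup (Fin n) F := ⟨A, hA⟩
    obtain ⟨P, hP⟩ := hall a ⟨z, by rw [Matrix.SpecialLinearGroup.coe_pow, pow_two]; exact hA2⟩
      (fun y hy => hz ⟨y, by
        have hy' : A = y • 1 := hy
        rw [hy'] at hA2
        have := congrFun (congrFun hA2 0) 0
        simpa using this.symm⟩)
    rw [Subgroup.mem_comap, mem_subfieldSubgroup_one] at hP
    obtain ⟨g, c, hg⟩ := hP
    have hsq := congrArg (fun M : Matrix (Fin n) (Fin n) F => (M * M) 0 0) hg
    have hL : ((Matrix.SpecialLinearGroup.toGL (P⁻¹ * a * P) : GL (Fin n) F) : Matrix (Fin n) (Fin n) F) *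
        ((Matrix.SpecialLinearGroup.toGL (P⁻¹ * a * P) : GL (Fin n) F) : Matrix (Fin n) (Fin n) F) = z • 1 := by
      show ((P⁻¹ * a * P : Matrix.SpecialLinearGroup (Fin n) F) : Matrix (Fin n) (Fin n) F) *
        ((P⁻¹ * a * P : Matrix.SpecialLinearGroup (Fin n) F) : Matrix (Fin n) (Fin n) F) = _
      rw [← Matrix.SpecialLinearGroup.coe_mul, show P⁻¹ * a * P * (P⁻¹ * a * P) =
        P⁻¹ * (a * a) * P by group, Matrix.SpecialLinearGroup.coe_mul, Matrix.SpecialLinearGroup.coe_mul,
        Matrix.SpecialLinearGroup.coe_mul]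
      show _ * (A * A) * _ = _
      rw [hA2, Matrix.mul_smul, mul_one, Matrix.smul_mul, ← Matrix.SpecialLinearGroup.coe_mul, inv_mul_cancel,
        Matrix.SpecialLinearGroup.coe_one]
    rw [hL, Matrix.smul_mul, Matrix.mul_smul, smul_smul, ← Matrix.map_mul] at hsq
    simp only [Matrix.smul_apply, Matrix.one_apply_eq, Matrix.map_apply, smul_eq_mul, mul_one] at hsq
    apply hz
    rw [hsq]
    exact IsSquare.mul ⟨(c : F), rfl⟩ (hsub _)
  · intro hle x hx hns
    obtain ⟨z, hz⟩ := hx
    obtain ⟨hz1, hz0⟩ := hxx x z hz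
    by_cases hsq : ∃ c : F, z = c * c
    · obtain ⟨c, rfl⟩ := hsq
      exact mem_of_square F₀ x c (mul_ne_zero_iff.1 hz0).1 (by omega) h2 hz1
    · exfalso
      obtain ⟨⟨m, hnm⟩, hp⟩ := exists_pairs (x : Matrix (Fin n) (Fin n) F) 0 z
        (by rw [zero_smul, zero_add, hz1]) (fun c hc => hsq ⟨c, by linear_combination -hc⟩)
      let e : Fin 2 × Fin m ≃ Fin n := finProdFinEquiv.trans (finCongr (by omega))
      obtain ⟨P, hP⟩ := hp m e
      have hdet := congrArg Matrix.det hP
      rw [x.2, det_pairHom, Finset.prod_const, Finset.card_univ, Fintype.card_fin, Matrix.det_fin_two] at hdet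
      have hm : m ≠ 0 := by omega
      have hwm : (-z) ^ m = 1 := by rw [hdet]; simp [comp2]
      have hws : ¬ IsSquare (-z) := fun h => hsq (by
        obtain ⟨s, hs⟩ := hneg1
        obtain ⟨t, ht⟩ := h
        exact ⟨s * t, by linear_combination (-z) * (-1 : F) * 0 + z * (0:F) + (t * t) * hs + (-1 : F) * ht⟩)
      have := (hroot m hm).1 ⟨-z, hws, hwm⟩
      rw [show n = 2 * m by omega, padicValNat.mul (by norm_num) hm, padicValNat_self] at hle
      omega

end Cfsg.Agent.S5964
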