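import Cfsg.Statements.S5965
import Cfsg.Agent.EqLemmas
import Cfsg.Agent.Lib.GLOrder.Basic
import Cfsg.Agent.Lib.Linear.SubfieldConj
import Cfsg.Agent.Lib.PrimeOrderElt.Rational

set_option autoImplicit false
open scoped MatrixGroups
open Cfsg

namespace Cfsg.Agent.S5965

open Matrix Module Polynomial Cfsg.Agent.PrimeOrderElt Cfsg.Agent.Linear

variable {F : Type*} [Field F]

theorem mem_of_pow_card [Fintype F] (R : Subfield F) {x : F} (hx : x ^ Nat.card R = x) : x ∈ R := by
  classical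
  by_contra hn
  have := Fintype.ofFinite R
  have hr1 : 1 < Nat.card R := Finite.one_lt_card
  let P : Polynomial F := Polynomial.X ^ Nat.card R - Polynomial.X
  have hP : P ≠ 0 := FiniteField.X_pow_card_sub_X_ne_zero F hr1
  have h := Polynomial.card_le_degree_of_subset_roots (p := P)
    (Z := insert x (Finset.univ.map ⟨fun z : R => (z : F), Subtype.coe_injective⟩)) (by
      intro z hz
      rw [Polynomial.mem_roots hP, Polynomial.IsRoot]
      simp only [P, Polynomial.eval_sub, Polynomial.eval_pow, Polynomial.eval_X, sub_eq_zero]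
      rw [Finset.mem_val, Finset.mem_insert, Finset.mem_map] at hz
      rcases hz with rfl | ⟨w, -, rfl⟩
      · exact hx
      · show (w : F) ^ Nat.card R = w
        rw [Nat.card_eq_fintype_card]
        exact_mod_cast congrArg Subtype.val (FiniteField.pow_card w))
  rw [FiniteField.X_pow_card_sub_X_natDegree_eq F hr1, Finset.card_insert_of_notMem (by
    simp only [Finset.mem_map, Finset.mem_univ, true_and]; rintro ⟨w, rfl⟩; exact hn w.2), Finset.card_map,
    Finset.card_univ, ← Nat.card_eq_fintype_card] at h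
  omega

/-- If `(q₀^j)^k ≡ 1` forces `q₀^j ≡ 1` modulo `r`, the index of the subfield group is prime to `r`. -/
theorem index_not_dvd [Fintype F] {n k q₀ r : ℕ} [Fact r.Prime] (F₀ : Subfield F) (hF₀ : Nat.card F₀ = q₀)
    (hqk : Fintype.card F = q₀ ^ k) (hrk : r ≠ k) (hk : k.Prime) (hb0 : (q₀ : ZMod r) ≠ 0)
    (hgood : ∀ j, 2 ≤ j → j ≤ n → ((q₀ : ZMod r) ^ j) ^ k = 1 → (q₀ : ZMod r) ^ j = 1) :
    ¬ r ∣ ((Cfsg.Geo.subfieldSubgroup F₀ 1).comap
      (Matrix.SpecialLinearGroup.toGL : Matrix.SpecialLinearGroup (Fin n) F →* GL (Fin n) F)).index := by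
  classical
  intro hΩ
  haveI : Fintype F₀ := Fintype.ofFinite F₀
  have hrp : r.Prime := Fact.out
  set H := (Cfsg.Geo.subfieldSubgroup F₀ 1).comap
    (Matrix.SpecialLinearGroup.toGL : Matrix.SpecialLinearGroup (Fin n) F →* GL (Fin n) F) with hH
  let φ : Matrix.SpecialLinearGroup (Fin n) F₀ →* Matrix.SpecialLinearGroup (Fin n) F :=
    Matrix.SpecialLinearGroup.map (F₀.subtype : F₀ →+* F)
  have hφ : Function.Injective φ := by
    intro u v huv
    apply Subtype.ext
    exact Matrix.map_injective Subtype.val_injective (congrArg Subtype.val huv)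
  have hle : φ.range ≤ H := by
    rintro _ ⟨u, rfl⟩
    rw [hH, Subgroup.mem_comap, mem_subfieldSubgroup_one]
    exact ⟨Matrix.SpecialLinearGroup.toGL u, 1, by rw [Units.val_one, one_smul]; rfl⟩
  have hdvd : Nat.card (Matrix.SpecialLinearGroup (Fin n) F₀) ∣ Nat.card H := by
    rw [Nat.card_congr (MonoidHom.ofInjective hφ).toEquiv]
    exact Subgroup.card_dvd_of_le hle
  obtain ⟨w, hw⟩ := hdvd
  have hmul := H.index_mul_card
  rw [hw, GLOrder.card_SL, GLOrder.card_SL, hF₀, Nat.card_eq_fintype_card, hqk] at hmul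
  have h1 : 1 < q₀ := hF₀ ▸ Finite.one_lt_card
  have hSi : ∀ i ∈ Finset.Ico 1 n, ∃ S : ℕ, (q₀ ^ k) ^ (i + 1) - 1 = (q₀ ^ (i + 1) - 1) * S ∧ (S : ZMod r) ≠ 0 := by
    intro i hi
    rw [Finset.mem_Ico] at hi
    obtain ⟨x, hx⟩ : ∃ x, q₀ ^ (i + 1) = x + 1 :=
      ⟨q₀ ^ (i + 1) - 1, (Nat.sub_add_cancel (Nat.one_le_pow _ _ (by omega))).symm⟩
    have hg := geom_sum_mul_add x k
    rw [← hx] at hg
    refine ⟨∑ j ∈ Finset.range k, (q₀ ^ (i + 1)) ^ j, ?_, ?_⟩
    · rw [← pow_mul, mul_comm k, pow_mul, ← hg, Nat.add_sub_cancel, hx, Nat.add_sub_cancel, mul_comm]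
    · intro h0
      have hgz := congrArg (fun N : ℕ => (N : ZMod r)) hg
      simp only [Nat.cast_add, Nat.cast_mul, h0, zero_mul, zero_add, Nat.cast_one, Nat.cast_pow] at hgz
      have hb1 : (q₀ : ZMod r) ^ (i + 1) = 1 := hgood _ (by omega) (by omega) hgz.symm
      simp only [Nat.cast_sum, Nat.cast_pow, hb1, one_pow, Finset.sum_const, Finset.card_range, nsmul_eq_mul,
        mul_one] at h0
      rw [ZMod.natCast_eq_zero_iff, Nat.prime_dvd_prime_iff_eq hrp hk] at h0
      exact hrk h0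
  choose! S hS1 hS2 using hSi
  rw [Finset.prod_congr rfl hS1, Finset.prod_mul_distrib] at hmul
  set P₀ := ∏ i ∈ Finset.Ico 1 n, (q₀ ^ (i + 1) - 1)
  have hP0 : 0 < P₀ := Finset.prod_pos fun i _ => by
    have : q₀ ≤ q₀ ^ (i + 1) := Nat.le_self_pow (by omega) _
    omega
  have h2 : H.index * (q₀ ^ (n * (n - 1) / 2) * w) = (q₀ ^ k) ^ (n * (n - 1) / 2) * ∏ i ∈ Finset.Ico 1 n, S i := by
    apply Nat.eq_of_mul_eq_mul_left hP0
    linear_combination hmul
  have h3 := congrArg (fun N : ℕ => (N : ZMod r)) h2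
  simp only [Nat.cast_mul, (ZMod.natCast_eq_zero_iff _ _).mpr hΩ, zero_mul, Nat.cast_pow, Nat.cast_prod] at h3
  exact mul_ne_zero (pow_ne_zero _ (pow_ne_zero _ hb0)) (Finset.prod_ne_zero_iff.mpr hS2) h3.symm

variable {n : ℕ} {r : ℕ}

/-- A matrix similar to a multiple of a rational matrix is conjugate in `SL` into the subfield group. -/
theorem mem_of_rational [Fintype F] [Fact r.Prime] (hn : 0 < n) (hr : (r : F) ≠ 0) (F₀ : Subfield F)
    (x : Matrix.SpecialLinearGroup (Fin n) F) {z : F} (hz : z ≠ 0)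
    (hx : (x : Matrix (Fin n) (Fin n) F) ^ r = z • (1 : Matrix (Fin n) (Fin n) F))
    (B : Matrix (Fin n) (Fin n) F) (hB : B.det ≠ 0) (M₀ : Matrix (Fin n) (Fin n) F₀) (c : F) (hc : c ≠ 0)
    (h : (x : Matrix (Fin n) (Fin n) F) * B = B * (c • M₀.map F₀.subtype)) :
    ∃ P : Matrix.SpecialLinearGroup (Fin n) F, P⁻¹ * x * P ∈ (Cfsg.Geo.subfieldSubgroup F₀ 1).comap
      (Matrix.SpecialLinearGroup.toGL : Matrix.SpecialLinearGroup (Fin n) F →* GL (Fin n) F) :=
  mem_of_model F₀ x (GeneralLinearGroup.mkOfDetNeZero B hB) M₀ c hc h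
    (fun d hd => exists_det_commute hn hr hz _ hx d hd)

/-- Conjugates in the subfield group, unfolded. -/
theorem conj_unfold (F₀ : Subfield F) (x P : Matrix.SpecialLinearGroup (Fin n) F)
    (h : P⁻¹ * x * P ∈ (Cfsg.Geo.subfieldSubgroup F₀ 1).comap
      (Matrix.SpecialLinearGroup.toGL : Matrix.SpecialLinearGroup (Fin n) F →* GL (Fin n) F)) :
    ∃ (g : GL (Fin n) F) (h₀ : GL (Fin n) F₀) (c : F), c ≠ 0 ∧
      (x : Matrix (Fin n) (Fin n) F) = (g : Matrix (Fin n) (Fin n) F) *
        (c • (h₀ : Matrix (Fin n) (Fin n) F₀).map F₀.subtype) * ((g⁻¹ : GL (Fin n) F) : Matrix (Fin n) (Fin n) F) := by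
  rw [Subgroup.mem_comap, mem_subfieldSubgroup_one] at h
  obtain ⟨h₀, c, hc⟩ := h
  refine ⟨Matrix.SpecialLinearGroup.toGL P, h₀, c, c.ne_zero, ?_⟩
  rw [← hc, ← Units.val_mul, ← Units.val_mul]
  show _ = ((Matrix.SpecialLinearGroup.toGL P * Matrix.SpecialLinearGroup.toGL (P⁻¹ * x * P) *
    (Matrix.SpecialLinearGroup.toGL P)⁻¹ : GL (Fin n) F) : Matrix (Fin n) (Fin n) F)
  rw [← map_inv, ← map_mul, ← map_mul, show P * (P⁻¹ * x * P) * P⁻¹ = x by group]
  rfl

/-- Multiplicities of eigenvalues are invariant under the twisted Frobenius. -/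
theorem count_twist [DecidableEq F] {p : ℕ} [Fact p.Prime] [CharP F p] [Fintype F] (F₀ : Subfield F)
    [Fintype F₀] (x : Matrix.SpecialLinearGroup (Fin n) F) (d : Fin n → F)
    (hxd : (x : Matrix (Fin n) (Fin n) F) = Matrix.diagonal d)
    (h : ∃ P : Matrix.SpecialLinearGroup (Fin n) F, P⁻¹ * x * P ∈ (Cfsg.Geo.subfieldSubgroup F₀ 1).comap
      (Matrix.SpecialLinearGroup.toGL : Matrix.SpecialLinearGroup (Fin n) F →* GL (Fin n) F)) :
    ∃ T : F → F, Function.Injective T ∧ (∀ a b : F, T a / T b = (a / b) ^ Fintype.card F₀) ∧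
      ∀ t, (Finset.univ.filter fun i => d i = T t).card = (Finset.univ.filter fun i => d i = t).card := by
  obtain ⟨P, hP⟩ := h
  obtain ⟨g, h₀, c, hc, hx⟩ := conj_unfold F₀ x P hP
  set φ : F →ₐ[F₀] F := FiniteField.frobeniusAlgHom F₀ F with hφdef
  have hφ : ∀ a, φ a = a ^ Fintype.card F₀ := fun a => rfl
  let T : F → F := fun t => c * φ (t / c)
  have hTinj : Function.Injective T := fun a b hab => by
    have := φ.toRingHom.injective (mul_left_cancel₀ hc hab)
    field_simp at this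
    exact this
  refine ⟨T, hTinj, fun a b => ?_, fun t => ?_⟩
  · show (c * φ (a / c)) / (c * φ (b / c)) = _
    rw [mul_div_mul_left _ _ hc, ← map_div₀, hφ, div_div_div_cancel_right₀ hc]
  have hdiag : Matrix.diagonal (fun i => d i / c) =
      (g : Matrix (Fin n) (Fin n) F) * (h₀ : Matrix (Fin n) (Fin n) F₀).map F₀.subtype *
        ((g⁻¹ : GL (Fin n) F) : Matrix (Fin n) (Fin n) F) := by
    rw [show Matrix.diagonal (fun i => d i / c) = c⁻¹ • Matrix.diagonal d by
      rw [← Matrix.diagonal_smul]; congr 1; funext i; simp [div_eq_mul_inv, mul_comm], ← hxd, hx,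
      Matrix.mul_smul, Matrix.smul_mul, smul_smul, inv_mul_cancel₀ hc, one_smul]
  have hpoly := congrArg Matrix.charpoly hdiag
  rw [Matrix.charpoly_diagonal, show ((g⁻¹ : GL (Fin n) F) : Matrix (Fin n) (Fin n) F) =
    (g : Matrix (Fin n) (Fin n) F)⁻¹ from Matrix.coe_units_inv g, Matrix.charpoly_units_conj, Matrix.charpoly_map] at hpoly
  have hprod : ∏ i, (X - C (φ (d i / c))) = ∏ i, (X - C (d i / c)) := by
    have hmap := congrArg (Polynomial.map φ.toRingHom) hpoly
    rw [Polynomial.map_prod, Polynomial.map_map,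
      show φ.toRingHom.comp F₀.subtype = F₀.subtype from RingHom.ext fun a => φ.commutes a, ← hpoly] at hmap
    simpa only [Polynomial.map_sub, Polynomial.map_X, Polynomial.map_C, AlgHom.toRingHom_eq_coe, RingHom.coe_coe] using hmap
  have hms : (Finset.univ.val.map fun i => φ (d i / c)) = Finset.univ.val.map fun i => d i / c := by
    have := congrArg Polynomial.roots hprod
    rw [Finset.prod_eq_multiset_prod, Finset.prod_eq_multiset_prod] at this
    rw [show (Finset.univ.val.map fun i => X - C (φ (d i / c))) =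
        (Finset.univ.val.map fun i => φ (d i / c)).map (fun a => X - C a) by rw [Multiset.map_map]; rfl,
      show (Finset.univ.val.map fun i => X - C (d i / c)) =
        (Finset.univ.val.map fun i => d i / c).map (fun a => X - C a) by rw [Multiset.map_map]; rfl,
      roots_multiset_prod_X_sub_C, roots_multiset_prod_X_sub_C] at this
    exact this
  have hms' : (Finset.univ.val.map fun i => T (d i)) = Finset.univ.val.map d := by
    have := congrArg (Multiset.map (c * ·)) hms
    rw [Multiset.map_map, Multiset.map_map] at this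
    simpa [Function.comp_def, T, mul_div_cancel₀ _ hc] using this
  have hcnt := congrArg (Multiset.count (T t)) hms'
  rw [Multiset.count_map, Multiset.count_map] at hcnt
  simp only [hTinj.eq_iff] at hcnt
  show (Finset.univ.filter fun i => d i = T t).val.card = (Finset.univ.filter fun i => d i = t).val.card
  simp only [Finset.filter_val, eq_comm (a := d _)]
  exact hcnt.symm

/-- Two eigenvalues with multiplicities of their own give a derangement. -/
theorem bad_distinct [DecidableEq F] {p : ℕ} [Fact p.Prime] [CharP F p] [Fintype F] [Fact r.Prime]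
    (F₀ : Subfield F) [Fintype F₀] (hb : (Fintype.card F₀ : ZMod r) ≠ 1)
    (x : Matrix.SpecialLinearGroup (Fin n) F) (d : Fin n → F)
    (hxd : (x : Matrix (Fin n) (Fin n) F) = Matrix.diagonal d) {A B : Fin n}
    (hd : ∀ i, d i ≠ 0) (hAB : d A ≠ d B) (hAr : d A ^ r = d B ^ r)
    (hA : ∀ j, (Finset.univ.filter fun i => d i = d j).card = (Finset.univ.filter fun i => d i = d A).card →
      d j = d A)
    (hB : ∀ j, (Finset.univ.filter fun i => d i = d j).card = (Finset.univ.filter fun i => d i = d B).card →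
      d j = d B) :
    ¬ ∃ P : Matrix.SpecialLinearGroup (Fin n) F, P⁻¹ * x * P ∈ (Cfsg.Geo.subfieldSubgroup F₀ 1).comap
      (Matrix.SpecialLinearGroup.toGL : Matrix.SpecialLinearGroup (Fin n) F →* GL (Fin n) F) := by
  intro h
  obtain ⟨T, -, hT, hcnt⟩ := count_twist F₀ x d hxd h
  have hfix : ∀ C, (∀ j, (Finset.univ.filter fun i => d i = d j).card =
      (Finset.univ.filter fun i => d i = d C).card → d j = d C) → T (d C) = d C := by
    intro C hC
    have h0 : 0 < (Finset.univ.filter fun i => d i = T (d C)).card := by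
      rw [hcnt]; exact Finset.card_pos.mpr ⟨C, by simp⟩
    obtain ⟨j, hj⟩ := Finset.card_pos.mp h0
    rw [Finset.mem_filter] at hj
    rw [← hj.2]
    exact hC j (by rw [hj.2, hcnt])
  have h1 := hT (d A) (d B)
  rw [hfix A hA, hfix B hB] at h1
  have hρ : d A / d B ≠ 1 := fun e => hAB ((div_eq_one_iff_eq (hd B)).mp e)
  have hρ0 : d A / d B ≠ 0 := div_ne_zero (hd A) (hd B)
  have hord : orderOf (d A / d B) = r :=
    orderOf_eq_prime (by rw [div_pow, hAr, div_self (pow_ne_zero _ (hd B))]) hρ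
  refine hb ?_
  obtain ⟨q, hq⟩ : ∃ q, Fintype.card F₀ = q + 1 := ⟨_, (Nat.sub_add_cancel Fintype.card_pos).symm⟩
  rw [hq, pow_succ] at h1
  have : r ∣ q := hord ▸ orderOf_dvd_of_pow_eq_one (mul_right_cancel₀ hρ0 (h1.symm.trans (one_mul _).symm))
  rw [hq, Nat.cast_add, (ZMod.natCast_eq_zero_iff _ _).mpr this, zero_add, Nat.cast_one]

/-- A diagonal element of `SL` whose `r`-th power is scalar. -/
theorem exists_diag_elt (d : Fin n → F) (hd : ∏ i, d i = 1) {z : F} (hr : ∀ i, d i ^ r = z) :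
    ∃ x : Matrix.SpecialLinearGroup (Fin n) F, (x : Matrix (Fin n) (Fin n) F) = Matrix.diagonal d ∧
      (∃ z : F, ((x ^ r : Matrix.SpecialLinearGroup (Fin n) F) : Matrix (Fin n) (Fin n) F) =
        z • (1 : Matrix (Fin n) (Fin n) F)) ∧
      ∀ A B, d A ≠ d B → ∀ z : F, (x : Matrix (Fin n) (Fin n) F) ≠ z • (1 : Matrix (Fin n) (Fin n) F) := by
  let x : Matrix.SpecialLinearGroup (Fin n) F := ⟨Matrix.diagonal d, by rw [Matrix.det_diagonal, hd]⟩
  have hx : (x : Matrix (Fin n) (Fin n) F) = Matrix.diagonal d := rfl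
  refine ⟨x, hx, ⟨z, ?_⟩, fun A B hAB z hz => hAB ?_⟩
  · rw [Matrix.SpecialLinearGroup.coe_pow, hx]
    rw [Matrix.diagonal_pow, Matrix.smul_one_eq_diagonal]
    exact congrArg Matrix.diagonal (funext hr)
  · rw [hx] at hz
    rw [Matrix.smul_one_eq_diagonal] at hz
    have := Matrix.diagonal_injective hz
    rw [congrFun this A, congrFun this B]

theorem exists_pow_of_pow_eq_one [Fintype F] {a b : ℕ} (hab : a * b = Fintype.card F - 1) {u : F}
    (hu : u ^ b = 1) (hb : 0 < b) : ∃ δ : F, δ ≠ 0 ∧ δ ^ a = u := by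
  classical
  have hu0 : u ≠ 0 := fun h => by rw [h, zero_pow hb.ne'] at hu; exact zero_ne_one hu
  obtain ⟨g, hg⟩ := IsCyclic.exists_monoid_generator (α := Fˣ)
  obtain ⟨j, hj⟩ := Submonoid.mem_powers_iff _ _ |>.mp (hg (Units.mk0 u hu0))
  have hord : orderOf g = Fintype.card F - 1 := by
    rw [← Fintype.card_units, ← Nat.card_eq_fintype_card]
    exact orderOf_eq_card_of_forall_mem_zpowers fun y => mem_powers_iff_mem_zpowers.mp (hg y)
  have h1 : g ^ (j * b) = 1 := by
    rw [pow_mul, hj]; exact Units.ext (by rw [Units.val_pow_eq_pow_val, Units.val_mk0, hu, Units.val_one])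
  rw [← orderOf_dvd_iff_pow_eq_one, hord, ← hab] at h1
  obtain ⟨i, rfl⟩ := Nat.dvd_of_mul_dvd_mul_right hb h1
  refine ⟨((g ^ i : Fˣ) : F), Units.ne_zero _, ?_⟩
  rw [← Units.val_pow_eq_pow_val, ← pow_mul, mul_comm, hj, Units.val_mk0]

/-- Exponent vectors of sum zero are symmetric: length three and five. -/
theorem symm_three (v : Fin 3 → ZMod 3) (h : ∑ i, v i = 0) :
    ∃ σ : Fin 3 → Fin 3, Function.Involutive σ ∧ ∀ i, v (σ i) + v i = v (σ 0) + v 0 := by
  refine ⟨![1, 0, 2], fun i => by fin_cases i <;> rfl, fun i => ?_⟩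
  rw [Fin.sum_univ_three] at h
  have h3 : (3 : ZMod 3) = 0 := rfl
  fin_cases i
  · rfl
  · show v 0 + v 1 = v 1 + v 0; ring
  · show v 2 + v 2 = v 1 + v 0
    linear_combination (v 2) * h3 - h

theorem five_table : ∀ b c d : ZMod 5,
    let v : Fin 5 → ZMod 5 := ![0, b, c, d, -(b + c + d)]
    ∃ s ∈ [![0, 2, 1, 4, 3], ![0, 3, 4, 1, 2], ![0, 4, 3, 2, 1], ![2, 1, 0, 4, 3], ![3, 1, 4, 0, 2],
        ![4, 1, 3, 2, 0], ![1, 0, 2, 4, 3], ![3, 4, 2, 0, 1], ![4, 3, 2, 1, 0], ![1, 0, 4, 3, 2],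
        ![2, 4, 0, 3, 1], ![4, 2, 1, 3, 0], ![1, 0, 3, 2, 4], ![2, 3, 0, 1, 4], ![(3 : Fin 5), 2, 1, 0, 4]],
      (∀ i, s (s i) = i) ∧ ∀ i, v (s i) + v i = v (s 0) + v 0 := by
  decide +kernel

theorem symm_five (v : Fin 5 → ZMod 5) (h : ∑ i, v i = 0) :
    ∃ σ : Fin 5 → Fin 5, Function.Involutive σ ∧ ∀ i, v (σ i) + v i = v (σ 0) + v 0 := by
  obtain ⟨s, -, hs1, hs2⟩ := five_table (v 1 - v 0) (v 2 - v 0) (v 3 - v 0)
  rw [Fin.sum_univ_five] at h
  have h5 : (5 : ZMod 5) = 0 := rfl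
  have hv : (![0, v 1 - v 0, v 2 - v 0, v 3 - v 0, -(v 1 - v 0 + (v 2 - v 0) + (v 3 - v 0))] : Fin 5 → ZMod 5) =
      fun i => v i - v 0 := by
    funext i
    fin_cases i
    · exact (sub_self _).symm
    · rfl
    · rfl
    · rfl
    · show -(v 1 - v 0 + (v 2 - v 0) + (v 3 - v 0)) = v 4 - v 0
      linear_combination (v 0) * h5 - h
  simp only [hv] at hs2
  exact ⟨s, hs1, fun i => by linear_combination hs2 i⟩

/-- The positive exceptional case: `k = 2`, `r ∣ q₀ + 1`, symmetric spectrum. -/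
theorem exists_symm_model [Fintype F] {q₀ : ℕ} (F₀ : Subfield F) [Fintype F₀] (hF₀ : Fintype.card F₀ = q₀)
    (hq : Fintype.card F = q₀ ^ 2) (hr1 : r ∣ q₀ + 1) (d : Fin n → F) (hd : ∀ i, d i ^ r = 1)
    (σ : Fin n → Fin n) (hσ : Function.Involutive σ) (η : F) (hη : η ^ r = 1)
    (hsym : ∀ i, d (σ i) * d i = η) :
    ∃ (P : Matrix (Fin n) (Fin n) F) (M₀ : Matrix (Fin n) (Fin n) F₀) (c : F), c ≠ 0 ∧ P.det ≠ 0 ∧
      Matrix.diagonal d * P = P * (c • M₀.map F₀.subtype) := by
  classical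
  obtain ⟨m, hm⟩ := hr1
  have hq1 : 1 < q₀ := hF₀ ▸ Fintype.one_lt_card
  obtain ⟨δ, hδ0, hδ⟩ := exists_pow_of_pow_eq_one (a := q₀ - 1) (b := q₀ + 1) (u := η) (by
    rw [hq]; obtain ⟨e, rfl⟩ : ∃ e, q₀ = e + 1 := ⟨q₀ - 1, by omega⟩
    rw [Nat.add_sub_cancel]; exact (Nat.eq_sub_of_add_eq (by ring)))
    (by rw [hm, pow_mul, hη, one_pow]) (by omega)
  set φ : F →ₐ[F₀] F := FiniteField.frobeniusAlgHom F₀ F with hφdef
  have hφ : ∀ a, φ a = a ^ q₀ := fun a => by rw [← hF₀]; rfl
  have hφ2 : ∀ a, φ (φ a) = a := fun a => by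
    rw [hφ, hφ, ← pow_mul, ← pow_two, ← hq, FiniteField.pow_card]
  set lam : Fin n → F := fun i => δ * d i with hlam
  have hlamσ : ∀ i, φ (lam i) = lam (σ i) := fun i => by
    have hdi : d i ^ (q₀ + 1) = 1 := by rw [hm, pow_mul, hd, one_pow]
    have hdi0 : d i ≠ 0 := fun h => by
      have := hd i
      rw [h, zero_pow (fun h0 => by rw [h0] at hm; omega)] at this
      exact zero_ne_one this
    rw [hφ]
    refine mul_right_cancel₀ hdi0 ?_
    rw [mul_assoc δ, hsym i, ← hδ, mul_pow, mul_assoc, ← pow_succ, hdi, mul_one,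
      ← pow_succ', Nat.sub_add_cancel hq1.le]
  obtain ⟨g, hg⟩ := IsCyclic.exists_monoid_generator (α := Fˣ)
  have hgo : orderOf g = q₀ ^ 2 - 1 := by
    rw [← hq, ← Fintype.card_units, ← Nat.card_eq_fintype_card]
    exact orderOf_eq_card_of_forall_mem_zpowers fun y => mem_powers_iff_mem_zpowers.mp (hg y)
  set θ : F := (g : F)
  have hθ : θ * θ - φ θ * φ θ ≠ 0 := by
    intro h
    rw [hφ, sub_eq_zero, ← pow_two, ← pow_add, ← Units.val_pow_eq_pow_val, ← Units.val_pow_eq_pow_val] at h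
    have h2 := pow_eq_pow_iff_modEq.mp (Units.ext h : g ^ 2 = g ^ (q₀ + q₀))
    rw [hgo, Nat.modEq_iff_dvd' (by omega)] at h2
    have h4 : q₀ ^ 2 - 1 ≤ q₀ + q₀ - 2 := Nat.le_of_dvd (by omega) h2
    have : q₀ * 2 ≤ q₀ ^ 2 := by rw [pow_two]; exact Nat.mul_le_mul_left _ hq1
    omega
  set S : Matrix (Fin n) (Fin n) F := (1 : Matrix (Fin n) (Fin n) F).submatrix σ id with hS
  set P : Matrix (Fin n) (Fin n) F := θ • 1 + φ θ • S with hPdef
  have hSmul : ∀ A : Matrix (Fin n) (Fin n) F, S * A = A.submatrix σ id := fun A => by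
    refine Matrix.ext fun i j => ?_
    rw [hS, Matrix.mul_apply]
    simp [Matrix.one_apply]
  have hSS : S * S = 1 := by
    rw [hSmul]
    refine Matrix.ext fun i j => ?_
    simp [hS, Matrix.one_apply, hσ i]
  have hPinv : (θ • 1 - φ θ • S) * P = (θ * θ - φ θ * φ θ) • 1 := by
    simp only [hPdef, sub_mul, mul_add, Matrix.smul_mul, Matrix.mul_smul, one_mul, mul_one, hSS]
    module
  have hPdet : P.det ≠ 0 := by
    intro h0
    have := congrArg Matrix.det hPinv
    rw [Matrix.det_mul, h0, mul_zero, Matrix.det_smul, Matrix.det_one, mul_one] at this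
    exact pow_ne_zero _ hθ this.symm
  have hφP : P.map φ = S * P := by
    have hSφ : S.map φ = S := Matrix.ext fun i j => by
      simp only [hS, Matrix.map_apply, Matrix.submatrix_apply, Matrix.one_apply]; split_ifs <;> simp
    refine Matrix.ext fun i j => ?_
    have h1 : S i j = φ (S i j) := (congrFun (congrFun hSφ i) j).symm
    rw [Matrix.map_apply, hPdef, mul_add, Matrix.mul_smul, Matrix.mul_smul, mul_one, hSS]
    simp only [Matrix.add_apply, Matrix.smul_apply, smul_eq_mul, map_add, map_mul, hφ2, ← h1]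
    rw [show φ ((1 : Matrix (Fin n) (Fin n) F) i j) = (1 : Matrix (Fin n) (Fin n) F) i j by
      rw [Matrix.one_apply]; split_ifs <;> simp]
    ring
  set Q : GL (Fin n) F := GeneralLinearGroup.mkOfDetNeZero P hPdet
  set M : Matrix (Fin n) (Fin n) F := ((Q⁻¹ : GL (Fin n) F) : Matrix (Fin n) (Fin n) F) * (Matrix.diagonal lam * P)
  have hPM : P * M = Matrix.diagonal lam * P := Q.mul_inv_cancel_left _
  have hMfix : M.map φ = M := by
    have h1 := congrArg (fun A => A.map φ) hPM
    simp only [Matrix.map_mul] at h1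
    rw [hφP, Matrix.diagonal_map (map_zero φ)] at h1
    have h2 : Matrix.diagonal (fun i => φ (lam i)) * (S * P) = S * (Matrix.diagonal lam * P) := by
      rw [hSmul, hSmul]
      refine Matrix.ext fun i j => ?_
      rw [Matrix.diagonal_mul, Matrix.submatrix_apply, Matrix.submatrix_apply, id, Matrix.diagonal_mul, hlamσ]
    rw [h2, ← hPM, mul_assoc] at h1
    have h3 := congrArg (S * ·) h1
    simp only [← mul_assoc, hSS, one_mul] at h3
    exact Q.mul_right_inj.mp h3
  have hmem : ∀ i j, M i j ∈ F₀ := fun i j => mem_of_pow_card F₀ (by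
    rw [Nat.card_eq_fintype_card, hF₀, ← hφ]
    exact congrFun (congrFun hMfix i) j)
  refine ⟨P, fun i j => ⟨M i j, hmem i j⟩, δ⁻¹, inv_ne_zero hδ0, hPdet, ?_⟩
  rw [Matrix.mul_smul, show (Matrix.map (fun i j => (⟨M i j, hmem i j⟩ : F₀)) F₀.subtype) = M from rfl, hPM,
    ← Matrix.smul_mul, ← Matrix.diagonal_smul]
  refine congrArg (fun A => Matrix.diagonal A * P) (funext fun i => ?_)
  simp [hlam, inv_mul_cancel_left₀ hδ0]

theorem finrank_fix_eq {K : Type*} [Field K] (M : Matrix (Fin n) (Fin n) K) :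
    finrank K (fix (Matrix.toLin' M : Module.End K (Fin n → K))) + (M - 1).rank = n := by
  have h : fix (Matrix.toLin' M : Module.End K (Fin n → K)) = LinearMap.ker (M - 1).mulVecLin := by
    ext v
    rw [mem_fix, LinearMap.mem_ker, Matrix.mulVecLin_apply, Matrix.sub_mulVec, Matrix.one_mulVec, sub_eq_zero,
      Matrix.toLin'_apply]
  rw [h, Matrix.rank, add_comm]
  exact (LinearMap.finrank_range_add_finrank_ker _).trans (Module.finrank_fin_fun K)

/-- An element whose orbit of eigenvalues is shorter than the orbit over the subfield. -/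
theorem bad_orbit [Fintype F] {p : ℕ} [Fact p.Prime] [CharP F p] [Fact r.Prime] (hr : (r : F) ≠ 0)
    (F₀ : Subfield F) [Fintype F₀] {k : ℕ} (hk : 2 ≤ k) (hn : 0 < n)
    (he2 : 2 ≤ orderOf (Fintype.card F : ZMod r)) (hen : orderOf (Fintype.card F : ZMod r) ≤ n)
    (he0 : orderOf (Fintype.card F₀ : ZMod r) = k * orderOf (Fintype.card F : ZMod r)) :
    ∃ x : Matrix.SpecialLinearGroup (Fin n) F,
      (∃ z : F, ((x ^ r : Matrix.SpecialLinearGroup (Fin n) F) : Matrix (Fin n) (Fin n) F) = z • (1 : Matrix (Fin n) (Fin n) F)) ∧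
      (∀ z : F, (x : Matrix (Fin n) (Fin n) F) ≠ z • (1 : Matrix (Fin n) (Fin n) F)) ∧
      ¬ ∃ P : Matrix.SpecialLinearGroup (Fin n) F, P⁻¹ * x * P ∈ (Cfsg.Geo.subfieldSubgroup F₀ 1).comap
        (Matrix.SpecialLinearGroup.toGL : Matrix.SpecialLinearGroup (Fin n) F →* GL (Fin n) F) := by
  classical
  set e := orderOf (Fintype.card F : ZMod r) with he
  obtain ⟨x, hxr, hxf, hxn⟩ := exists_type (F := F) (n := n) (r := r) (p := p) 1 one_pos he2 (by omega)
  have hx1 : ((x ^ r : Matrix.SpecialLinearGroup (Fin n) F) : Matrix (Fin n) (Fin n) F) = (1 : F) • (1 : Matrix (Fin n) (Fin n) F) := by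
    rw [pow_eq_smul_iff, one_smul]; exact hxr
  refine ⟨x, ⟨1, hx1⟩, hxn, ?_⟩
  rintro ⟨P, hP⟩
  obtain ⟨g, h₀, c, hc, hx⟩ := conj_unfold F₀ x P hP
  rw [Matrix.SpecialLinearGroup.coe_pow, one_smul] at hx1
  set N : Matrix (Fin n) (Fin n) F := (h₀ : Matrix (Fin n) (Fin n) F₀).map F₀.subtype with hN
  have hcN : (c • N) ^ r = 1 := by
    have h1 : (x : Matrix (Fin n) (Fin n) F) ^ r =
        (g : Matrix (Fin n) (Fin n) F) * (c • N) ^ r * ((g⁻¹ : GL (Fin n) F) : Matrix (Fin n) (Fin n) F) := by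
      rw [hx]; exact Units.conj_pow g _ r
    rw [hx1] at h1
    calc (c • N) ^ r = ((g⁻¹ : GL (Fin n) F) : Matrix (Fin n) (Fin n) F) *
          ((g : Matrix (Fin n) (Fin n) F) * (c • N) ^ r * ((g⁻¹ : GL (Fin n) F) : Matrix (Fin n) (Fin n) F)) *
          (g : Matrix (Fin n) (Fin n) F) := by simp [mul_assoc]
      _ = 1 := by rw [← h1, mul_one, Units.inv_mul]
  have hr1 : ¬ r ∣ Fintype.card F - 1 := fun h => by
    rw [← orderOf_card_eq_one_iff] at h
    rw [← he] at h
    omega
  have hr0 : ¬ r ∣ Fintype.card F₀ - 1 := fun h => by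
    rw [← orderOf_card_eq_one_iff] at h
    rw [h] at he0
    have : k * 2 ≤ k * e := Nat.mul_le_mul_left _ he2
    omega
  -- `c` lies in the subfield
  have hc0 : c ∈ F₀ := by
    set a : F₀ := ((h₀ : Matrix (Fin n) (Fin n) F₀) ^ r) ⟨0, hn⟩ ⟨0, hn⟩
    have ha : c ^ r * (a : F) = 1 := by
      have := congrFun (congrFun hcN ⟨0, hn⟩) ⟨0, hn⟩
      rw [_root_.smul_pow, hN, ← Matrix.map_pow, Matrix.smul_apply, Matrix.map_apply, smul_eq_mul,
        Matrix.one_apply_eq] at this
      exact this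
    obtain ⟨b, hb⟩ := exists_root (F := F₀) (r := r) hr0 a⁻¹
    have hb' : (b : F) ^ r = c ^ r := by
      rw [← SubmonoidClass.coe_pow, hb]
      push_cast
      exact inv_eq_of_mul_eq_one_left ha
    by_contra hne
    have hne' : c / (b : F) ≠ 1 := by
      intro h
      have hb0 : (b : F) ≠ 0 := fun h0 => by rw [h0, div_zero] at h; exact zero_ne_one h
      rw [div_eq_one_iff_eq hb0] at h
      exact hne (h ▸ b.2)
    have hpow : (c / (b : F)) ^ r = 1 := by rw [div_pow, hb', div_self (pow_ne_zero _ hc)]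
    have h0 : c / (b : F) ≠ 0 := fun h => by
      rw [h, zero_pow (Fact.out : r.Prime).ne_zero] at hpow; exact zero_ne_one hpow
    apply hr1
    have hord : orderOf (Units.mk0 _ h0) = r := by rw [← orderOf_units, Units.val_mk0]; exact orderOf_eq_prime hpow hne'
    rw [← Fintype.card_units, ← hord]
    exact orderOf_dvd_card
  set M : Matrix (Fin n) (Fin n) F₀ := (⟨c, hc0⟩ : F₀) • (h₀ : Matrix (Fin n) (Fin n) F₀) with hM
  have hMN : M.map F₀.subtype = c • N := Matrix.ext fun i j => rfl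
  have hMr : M ^ r = 1 := Matrix.map_injective (f := F₀.subtype) Subtype.val_injective (by
    dsimp only
    rw [Matrix.map_pow, hMN, hcN, Matrix.map_one _ (map_zero _) (map_one _)])
  have hrK : (r : F₀) ≠ 0 := fun h => hr (by simpa using congrArg F₀.subtype h)
  obtain ⟨s, hs, -⟩ := exists_dims (F := F₀) hrK (y := (Matrix.toLin' M : Module.End F₀ (Fin n → F₀))) (r := r)
    (by rw [← pow_toLin', hMr]; exact Matrix.toLin'_one) (W := ⊤) le_top
  rw [finrank_top, Module.finrank_fin_fun, top_inf_eq, he0] at hs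
  have h1 := finrank_fix_eq M
  have h2 := finrank_fix_eq (x : Matrix (Fin n) (Fin n) F)
  have h3 : ((x : Matrix (Fin n) (Fin n) F) - 1).rank = (M - 1).rank := by
    rw [show (x : Matrix (Fin n) (Fin n) F) - 1 =
        (g : Matrix (Fin n) (Fin n) F) * (c • N - 1) * ((g⁻¹ : GL (Fin n) F) : Matrix (Fin n) (Fin n) F) by
      rw [hx, mul_sub, sub_mul, mul_one, Units.mul_inv],
      Matrix.rank_mul_eq_left_of_isUnit_det _ _ ((Matrix.isUnit_iff_isUnit_det _).mp (g⁻¹).isUnit),
      Matrix.rank_mul_eq_right_of_isUnit_det _ _ ((Matrix.isUnit_iff_isUnit_det _).mp g.isUnit), ← hMN,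
      ← rank_map F₀.subtype (M - 1), Matrix.map_sub _ (map_sub _), Matrix.map_one _ (map_zero _) (map_one _)]
  rw [h3, hxf, one_mul, ← he] at h2
  have h4 : e = (s * k) * e := by rw [mul_assoc]; omega
  have h5 : s * k = 1 := Nat.eq_of_mul_eq_mul_right (by omega) (h4.symm.trans (one_mul e).symm)
  have := Nat.eq_one_of_mul_eq_one_left h5
  omega

/-- Elements of odd prime order r ≠ p of PSL_n(q) and subfield subgroups. Here `T = PSL_n(F)` for a field `F` with `q = p^f` elements (`n ≥ 2`, `(n, q) ≠ (2, 2), (2, 3)`), `F₀` is the subfield with `q₀` elements where `q = q₀^k` for a prime `k`, and `H` is the subgroup of matrices of determinant 1 lying in the subfield group of `F₀` (invertible matrices over `F₀` times scalars) — a maximal subgroup of type GL_n(q₀) (the case `n = 2`, `q₀ = 2` is excluded); Ω is the set of `T`-conjugates of `H` (cosets of `H`), so an element of `T` of prime order `r` (a matrix `x` of determinant 1 with `x^r` scalar, `x` not scalar) fixes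 a point of Ω when some conjugate of `x` by a matrix of determinant 1 lies in `H`. Let `r ≠ p` be an odd prime dividing the index of `H`, with `(n, r) ≠ (6, 3)` and, when `r = k` divides `q₀ − 1`, with `(n)_r ≤ (q − 1)_r`. Then every element of `T` of order `r` is conjugate in `T` into `H` if and only if `r = k`, or `k = 2`, `r = n ∈ {3, 5}` and `(q₀ + 1)_r = r`. The two excluded cases, `(n, r) = (6, 3)` and `r = k ∣ q₀ − 1` with `(n)_r > (q − 1)_r`, are ones where this criterion can fail, so they are left out. -/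
theorem result {F : Type*} [Field F] [Fintype F] {p : ℕ} [Fact p.Prime] [CharP F p] {q : ℕ} (hq : Fintype.card F = q)
    (n : ℕ) (hn : 2 ≤ n) (hT : (n, q) ≠ (2, 2) ∧ (n, q) ≠ (2, 3))
    (F₀ : Subfield F) (k q₀ : ℕ) (hk : k.Prime) (hF₀ : Nat.card ↥F₀ = q₀) (hqk : q = q₀ ^ k) (hC5 : ¬ (n = 2 ∧ q₀ = 2)) (r : ℕ) [Fact r.Prime] (hr2 : r ≠ 2) (hrp : r ≠ p) (hgap : ¬ (n = 6 ∧ r = 3)) (hgapk : r = k → r ∣ q₀ - 1 → padicValNat r n ≤ padicValNat r (q - 1)) (hΩ : r ∣ ((Cfsg.Geo.subfieldSubgroup F₀ 1).comap (Matrix.SpecialLinearGroup.toGL : Matrix.SpecialLinearGroup (Fin n) F →* GL (Fin n) F)).index) :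
    (∀ x : Matrix.SpecialLinearGroup (Fin n) F,
      (∃ z : F, ((x ^ r : Matrix.SpecialLinearGroup (Fin n) F) : Matrix (Fin n) (Fin n) F) = z • (1 : Matrix (Fin n) (Fin n) F)) →
      (∀ z : F, (x : Matrix (Fin n) (Fin n) F) ≠ z • (1 : Matrix (Fin n) (Fin n) F)) →
      ∃ P : Matrix.SpecialLinearGroup (Fin n) F, P⁻¹ * x * P ∈ ((Cfsg.Geo.subfieldSubgroup F₀ 1).comap (Matrix.SpecialLinearGroup.toGL : Matrix.SpecialLinearGroup (Fin n) F →* GL (Fin n) F))) ↔
    (r = k ∨ (k = 2 ∧ r = n ∧ (n = 3 ∨ n = 5) ∧ padicValNat r (q₀ + 1) = 1)) := by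
  classical
  subst hq
  haveI : Fintype F₀ := Fintype.ofFinite F₀
  rw [Nat.card_eq_fintype_card] at hF₀
  have hrP : r.Prime := Fact.out
  have hr3 : 3 ≤ r := by have := hrP.two_le; omega
  have hr : (r : F) ≠ 0 := natCast_ne_zero_of_ne hrp
  set b : ZMod r := (q₀ : ZMod r) with hbdef
  have hqb : (Fintype.card F : ZMod r) = b ^ k := by rw [hqk, Nat.cast_pow]
  have hb0 : b ≠ 0 := fun h => natCast_ne_zero (F := F) hr (by rw [hqb, h, zero_pow hk.ne_zero])
  have hq01 : 1 < q₀ := hF₀ ▸ Fintype.one_lt_card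
  have hq1 : Fintype.card F - 1 ≠ 0 := Nat.sub_ne_zero_of_lt Fintype.one_lt_card
  -- every scalar is a power
  have hpow : (r ∣ Fintype.card F - 1 → padicValNat r n ≤ padicValNat r (Fintype.card F - 1)) →
      ∀ (x : Matrix.SpecialLinearGroup (Fin n) F) (z : F),
      ((x ^ r : Matrix.SpecialLinearGroup (Fin n) F) : Matrix (Fin n) (Fin n) F) = z • (1 : Matrix (Fin n) (Fin n) F) →
      ∃ w : F, w ≠ 0 ∧ z = w ^ r := by
    intro hv x z hz
    have hz0 : z ≠ 0 := by
      rintro rfl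
      haveI : Nonempty (Fin n) := ⟨⟨0, by omega⟩⟩
      have := congrArg Matrix.det hz
      simp at this
    by_contra hne
    have hnp : ∀ w : F, w ^ r ≠ z := fun w hw => hne ⟨w, fun h => hz0 (by rw [← hw, h, zero_pow hrP.ne_zero]), hw.symm⟩
    by_cases hr1 : r ∣ Fintype.card F - 1
    · exact (no_nonpower_iff hn hr1).mpr ⟨hv hr1, fun h => absurd h hr2⟩ x z hnp ((pow_eq_smul_iff x r z).mp hz)
    · obtain ⟨w, hw⟩ := exists_root hr1 z
      exact hnp w hw
  by_cases hrk : r = k
  · -- `r = k`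
    refine iff_of_true (fun x hx _ => ?_) (Or.inl hrk)
    obtain ⟨z, hz⟩ := hx
    have hbr : (Fintype.card F : ZMod r) = b := by rw [hqb, ← hrk, ZMod.pow_card]
    obtain ⟨w, hw0, rfl⟩ := hpow (fun h => by
      refine hgapk hrk ?_
      rw [← ZMod.natCast_eq_zero_iff, Nat.cast_sub hq01.le, Nat.cast_one, ← hbdef, ← hbr, ← Nat.cast_one,
        ← Nat.cast_sub Fintype.card_pos, ZMod.natCast_eq_zero_iff]
      exact h) x z hz
    rw [Matrix.SpecialLinearGroup.coe_pow] at hz
    obtain ⟨B, M₀, hB, hBM⟩ := exists_rational_model hr F₀ (by rw [hbr, hF₀])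
      (w⁻¹ • (x : Matrix (Fin n) (Fin n) F)) (r := r) (by
        rw [← pow_toLin', _root_.smul_pow, hz, smul_smul, inv_pow, inv_mul_cancel₀ (pow_ne_zero _ hw0), one_smul]
        exact Matrix.toLin'_one)
    refine mem_of_rational (by omega) hr F₀ x (pow_ne_zero r hw0) hz B hB M₀ w hw0 ?_
    rw [Matrix.mul_smul, ← hBM, Matrix.smul_mul, smul_smul, mul_inv_cancel₀ hw0, one_smul]
  -- an element of order `r` modulo scalars outside the subfield groups
  obtain ⟨j, hj2, hjn, hjk, hj1⟩ : ∃ j, 2 ≤ j ∧ j ≤ n ∧ (b ^ j) ^ k = 1 ∧ b ^ j ≠ 1 := by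
    by_contra hcon
    push Not at hcon
    exact index_not_dvd F₀ (by rw [Nat.card_eq_fintype_card, hF₀]) hqk hrk hk hb0 hcon hΩ
  have hkdvd : k ∣ orderOf b := by
    by_contra h
    apply hj1
    rw [← orderOf_dvd_iff_pow_eq_one]
    rw [← pow_mul, ← orderOf_dvd_iff_pow_eq_one] at hjk
    exact ((Nat.Prime.coprime_iff_not_dvd hk).mpr h).symm.dvd_of_dvd_mul_right hjk
  set e := orderOf (Fintype.card F : ZMod r) with hedef
  have he0 : orderOf b = k * e := by
    rw [hedef, hqb, orderOf_pow' b hk.ne_zero, Nat.gcd_eq_right hkdvd, Nat.mul_div_cancel' hkdvd]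
  by_cases he1 : e = 1
  swap
  · -- longer orbits
    have hepos : 0 < e := orderOf_card_pos hr
    have hen : e ≤ n := by
      refine le_trans (Nat.le_of_dvd (by omega) ?_) hjn
      rw [hedef, hqb, orderOf_dvd_iff_pow_eq_one, ← pow_mul, mul_comm, pow_mul, hjk]
    refine iff_of_false (fun hall => ?_) ?_
    · obtain ⟨x, hx, hxn, hbad⟩ := bad_orbit (n := n) (p := p) hr F₀ hk.two_le (by omega) (by omega) hen
        (by rw [hF₀, ← hbdef, he0])
      exact hbad (hall x hx hxn)
    · rintro (h | ⟨rfl, -, -, hv⟩)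
      · exact hrk h
      · apply he1
        have hdvd : r ∣ q₀ + 1 := dvd_of_one_le_padicValNat hv.ge
        rw [← ZMod.natCast_eq_zero_iff, Nat.cast_add, Nat.cast_one, ← hbdef] at hdvd
        rw [hedef, orderOf_eq_one_iff, hqb, eq_neg_of_add_eq_zero_left hdvd, neg_one_sq]
  -- `r ∣ q - 1`, the orbits over the subfield have length `k`
  rw [he1, mul_one] at he0
  have hbk : b ^ k = 1 := he0 ▸ pow_orderOf_eq_one b
  have hb1 : b ≠ 1 := fun h => by rw [h, orderOf_one] at he0; exact hk.ne_one he0.symm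
  have hr1 : r ∣ Fintype.card F - 1 := orderOf_card_eq_one_iff.mp he1
  have hkr : k ∣ r - 1 := he0 ▸ orderOf_dvd_of_pow_eq_one (ZMod.pow_card_sub_one_eq_one hb0)
  have hn2k : ¬ (n = 2 ∧ k = 2) := by
    rintro ⟨rfl, rfl⟩
    obtain rfl : j = 2 := by omega
    exact hj1 hbk
  obtain ⟨u, hu⟩ := exists_prime_orderOf_dvd_card (G := Fˣ) r (by rw [Fintype.card_units]; exact hr1)
  set ζ : F := (u : F) with hζdef
  have hζ0 : ζ ≠ 0 := u.ne_zero
  have hζo : orderOf ζ = r := by rw [hζdef, orderOf_units, hu]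
  have hζr : ζ ^ r = 1 := hζo ▸ pow_orderOf_eq_one ζ
  have hζiff : ∀ m : ℕ, ζ ^ m = 1 ↔ r ∣ m := fun m => by rw [← hζo]; exact orderOf_dvd_iff_pow_eq_one.symm
  have hζeq : ∀ m l : ℕ, ζ ^ m = ζ ^ l ↔ m ≡ l [MOD r] := fun m l => by
    rw [hζdef, ← Units.val_pow_eq_pow_val, ← Units.val_pow_eq_pow_val, Units.val_inj, pow_eq_pow_iff_modEq, hu]
  have hb1' : (Fintype.card F₀ : ZMod r) ≠ 1 := by rw [hF₀, ← hbdef]; exact hb1
  have hvq : k = 2 → padicValNat r (Fintype.card F - 1) = padicValNat r (q₀ + 1) := by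
    rintro rfl
    rw [hqk, show q₀ ^ 2 - 1 = (q₀ - 1) * (q₀ + 1) by
      rw [← one_pow (M := ℕ) 2, Nat.sq_sub_sq, mul_comm, one_pow],
      padicValNat.mul (Nat.sub_ne_zero_of_lt hq01) (by omega),
      padicValNat.eq_zero_of_not_dvd (fun h => hb1 (by
        rw [← ZMod.natCast_eq_zero_iff, Nat.cast_sub hq01.le, sub_eq_zero, Nat.cast_one] at h
        exact h)), zero_add]
  by_cases hR : k = 2 ∧ r = n ∧ (n = 3 ∨ n = 5) ∧ padicValNat r (q₀ + 1) = 1
  · -- the exceptional positive case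
    refine iff_of_true (fun x hx hns => ?_) (Or.inr hR)
    obtain ⟨hk2, hrn, hn35, hv⟩ := hR
    obtain ⟨z, hz⟩ := hx
    have hv1 : padicValNat r (Fintype.card F - 1) = 1 := (hvq hk2).trans hv
    obtain ⟨w, hw0, rfl⟩ := hpow (fun _ => by rw [hv1, ← hrn, padicValNat_self]) x z hz
    have hw1 : w ^ r = 1 := by
      have h := congrArg Matrix.det hz
      rw [Matrix.SpecialLinearGroup.det_coe, Matrix.det_smul, Matrix.det_one, mul_one, Fintype.card_fin, ← hrn,
        ← pow_mul] at h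
      have hd1 : orderOf (Units.mk0 w hw0) ∣ r ^ 2 := by
        rw [orderOf_dvd_iff_pow_eq_one, pow_two]
        exact Units.ext (by rw [Units.val_pow_eq_pow_val, Units.val_mk0, ← h, Units.val_one])
      obtain ⟨i, hi, hi'⟩ := (Nat.dvd_prime_pow hrP).mp hd1
      have hd2 : r ^ i ∣ Fintype.card F - 1 := by rw [← hi', ← Fintype.card_units]; exact orderOf_dvd_card
      have hi1 : i ≤ 1 := by
        have := (padicValNat_dvd_iff_le hq1).mp hd2
        omega
      have h2 : orderOf (Units.mk0 w hw0) ∣ r := hi' ▸ (pow_dvd_pow r hi1).trans (pow_one r).dvd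
      exact congrArg Units.val (orderOf_dvd_iff_pow_eq_one.mp h2)
    rw [Matrix.SpecialLinearGroup.coe_pow, hw1] at hz
    obtain ⟨B, d, hB, hd, hBd⟩ := exists_diag (r := r) hr1 hr (x : Matrix (Fin n) (Fin n) F) (by
      rw [← pow_toLin', hz, one_smul]; exact Matrix.toLin'_one)
    have hdprod : ∏ i, d i = 1 := by
      have h := congrArg Matrix.det hBd
      rw [Matrix.det_mul, Matrix.det_mul, Matrix.det_diagonal, Matrix.SpecialLinearGroup.det_coe, one_mul] at h
      exact mul_left_cancel₀ hB (h.symm.trans (mul_one _).symm)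
    have hprim : IsPrimitiveRoot ζ r := IsPrimitiveRoot.iff_orderOf.mpr hζo
    choose ex hex1 hex2 using fun i => hprim.eq_pow_of_pow_eq_one (hd i)
    have hsum : ∑ i, ((ex i : ℕ) : ZMod r) = 0 := by
      rw [← Nat.cast_sum, ZMod.natCast_eq_zero_iff, ← hζiff, ← Finset.prod_pow_eq_pow_sum]
      simp only [hex2, hdprod]
    obtain ⟨σ, hσ, hsym⟩ : ∃ σ : Fin n → Fin n, Function.Involutive σ ∧ ∀ i,
        (ex (σ i) : ZMod r) + (ex i : ZMod r) =
          (ex (σ ⟨0, by omega⟩) : ZMod r) + (ex ⟨0, by omega⟩ : ZMod r) := by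
      subst hrn
      rcases hn35 with h | h <;> subst h
      · exact symm_three _ hsum
      · exact symm_five _ hsum
    obtain ⟨P', M₀, c, hc, hP', hPM⟩ := exists_symm_model (r := r) F₀ hF₀ (by rw [hqk, hk2])
      (dvd_of_one_le_padicValNat hv.ge) d hd σ hσ (d (σ ⟨0, by omega⟩) * d ⟨0, by omega⟩)
      (by rw [mul_pow, hd, hd, one_mul]) (fun i => by
        rw [← hex2, ← hex2 i, ← hex2, ← hex2 ⟨0, _⟩, ← pow_add, ← pow_add]
        have h := hsym i
        rw [← Nat.cast_add, ← Nat.cast_add, ZMod.natCast_eq_natCast_iff] at h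
        exact (hζeq _ _).mpr h)
    refine mem_of_rational (by omega) hr F₀ x one_ne_zero hz (B * P') (by
      rw [Matrix.det_mul]; exact mul_ne_zero hB hP') M₀ c hc ?_
    rw [← mul_assoc, hBd, mul_assoc, hPM, ← mul_assoc]
  -- the witnesses
  refine iff_of_false (fun hall => ?_) (fun h => h.elim hrk hR)
  have fin : ∀ (d : Fin n → F) (z : F), (∀ i, d i ^ r = z) → ∏ i, d i = 1 → ∀ A B, d A ≠ d B →
      (∀ j, (Finset.univ.filter fun i => d i = d j).card = (Finset.univ.filter fun i => d i = d A).card → d j = d A) →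
      (∀ j, (Finset.univ.filter fun i => d i = d j).card = (Finset.univ.filter fun i => d i = d B).card → d j = d B) →
      False := by
    intro d z hdz hdp A B hAB hA hB
    obtain ⟨x, hxd, hxr, hxn⟩ := exists_diag_elt d hdp hdz
    refine bad_distinct (p := p) F₀ hb1' x d hxd (fun i h => ?_) hAB ((hdz A).trans (hdz B).symm) hA hB
      (hall x hxr (hxn A B hAB))
    exact zero_ne_one (α := F) (by rw [← hdp]; exact (Finset.prod_eq_zero (Finset.mem_univ i) h).symm)
  -- the levels of the witnesses: `a` copies of `B`, the others `A`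
  have two : ∀ (a : ℕ) (A B : F), 0 < a → a < n → n ≠ 2 * a → A ≠ B → A ^ r = B ^ r →
      B ^ a * A ^ (n - a) = 1 → False := by
    intro a A B ha han hna hAB hABr hprod
    let d : Fin n → F := fun i => if (i : ℕ) < a then B else A
    have hcB : (Finset.univ.filter fun i => d i = B).card = a := by
      rw [Finset.filter_congr (q := fun i : Fin n => (i : ℕ) < a) (fun i _ => by
        simp only [d]; split_ifs with h <;> simp [hAB, h]), Fin.card_filter_val_lt, min_eq_right han.le]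
    have hcA : (Finset.univ.filter fun i => d i = A).card = n - a := by
      have h := Finset.card_filter_add_card_filter_not (s := (Finset.univ : Finset (Fin n))) (fun i => d i = B)
      rw [hcB, Finset.card_univ, Fintype.card_fin] at h
      rw [Finset.filter_congr (q := fun i : Fin n => ¬ d i = B) (fun i _ => by
        simp only [d]; split_ifs <;> simp [hAB, Ne.symm hAB])]
      omega
    have hval : ∀ j, d j = A ∨ d j = B := fun j => by simp only [d]; split_ifs <;> simp
    have hdA : d ⟨a, han⟩ = A := by simp [d]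
    have hdB : d ⟨0, by omega⟩ = B := by simp [d, ha]
    refine fin d (A ^ r) (fun i => by rcases hval i with h | h <;> rw [h]; exact hABr.symm) ?_
      ⟨a, han⟩ ⟨0, by omega⟩ (by rwa [hdA, hdB]) (fun j hj => ?_) (fun j hj => ?_)
    · have h := Finset.prod_ite (s := (Finset.univ : Finset (Fin n))) (p := fun i : Fin n => (i : ℕ) < a)
        (fun _ => B) (fun _ => A)
      have h2 := Finset.card_filter_add_card_filter_not (s := (Finset.univ : Finset (Fin n))) (fun i : Fin n => (i : ℕ) < a)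
      rw [Fin.card_filter_val_lt, min_eq_right han.le, Finset.card_univ, Fintype.card_fin] at h2
      rw [Finset.prod_const, Finset.prod_const, Fin.card_filter_val_lt, min_eq_right han.le,
        show (Finset.univ.filter fun i : Fin n => ¬(i : ℕ) < a).card = n - a by omega, hprod] at h
      exact h
    · rw [hdA] at hj ⊢
      rcases hval j with h | h <;> rw [h] at hj ⊢
      omega
    · rw [hdB] at hj ⊢
      rcases hval j with h | h <;> rw [h] at hj ⊢
      omega
  by_cases hn2 : n = 2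
  · -- dimension two
    subst hn2
    have hk2 : k ≠ 2 := fun h => hn2k ⟨rfl, h⟩
    have hne : ζ ≠ ζ⁻¹ := fun h => by
      have h2 : ζ ^ 2 = 1 := by rw [pow_two]; nth_rw 2 [h]; exact mul_inv_cancel₀ hζ0
      have := Nat.le_of_dvd two_pos ((hζiff 2).mp h2)
      omega
    obtain ⟨x, hxd, hxr, hxn⟩ := exists_diag_elt (r := r) (z := 1) ![ζ, ζ⁻¹] (by
      simp [Fin.prod_univ_two, mul_inv_cancel₀ hζ0]) (fun i => by fin_cases i <;> simp [hζr])
    obtain ⟨T, hTinj, hT, hcnt⟩ := count_twist (p := p) F₀ x ![ζ, ζ⁻¹] hxd (hall x hxr (hxn 0 1 (by simpa using hne)))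
    have hmem : ∀ i, T (![ζ, ζ⁻¹] i) = ζ ∨ T (![ζ, ζ⁻¹] i) = ζ⁻¹ := fun i => by
      have h0 : 0 < (Finset.univ.filter fun l => ![ζ, ζ⁻¹] l = T (![ζ, ζ⁻¹] i)).card := by
        rw [hcnt]; exact Finset.card_pos.mpr ⟨i, by simp⟩
      obtain ⟨l, hl⟩ := Finset.card_pos.mp h0
      rw [Finset.mem_filter] at hl
      rw [← hl.2]
      fin_cases l <;> simp
    have hne' : T ζ ≠ T ζ⁻¹ := fun h => hne (hTinj h)
    have hρ := hT ζ ζ⁻¹
    rw [div_inv_eq_mul, hF₀, ← pow_two, ← pow_mul] at hρ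
    have hb' : b = 1 ∨ b = -1 := by
      rcases hmem 0 with h | h <;> rcases hmem 1 with h' | h'
      · exact absurd (h.trans h'.symm) hne'
      · left
        change T ζ = ζ at h
        change T ζ⁻¹ = ζ⁻¹ at h'
        rw [h, h', div_inv_eq_mul, ← pow_two, hζeq, ← ZMod.natCast_eq_natCast_iff,
          Nat.cast_mul, ← hbdef] at hρ
        have h2 : ((2 : ℕ) : ZMod r) ≠ 0 := fun h0 => by
          rw [ZMod.natCast_eq_zero_iff] at h0; have := Nat.le_of_dvd two_pos h0; omega
        exact (mul_left_cancel₀ h2 (hρ.symm.trans (mul_one _).symm))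
      · right
        change T ζ = ζ⁻¹ at h
        change T ζ⁻¹ = ζ at h'
        rw [h, h', div_eq_mul_inv] at hρ
        have h1 : ζ ^ (2 + 2 * q₀) = 1 := by
          rw [pow_add, ← hρ, pow_two]; field_simp
        rw [hζiff, show 2 + 2 * q₀ = 2 * (1 + q₀) by ring, hrP.dvd_mul] at h1
        have h1' := h1.resolve_left (fun h0 => by have := Nat.le_of_dvd two_pos h0; omega)
        rw [← ZMod.natCast_eq_zero_iff, Nat.cast_add, Nat.cast_one, ← hbdef] at h1'
        exact eq_neg_of_add_eq_zero_right h1'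
      · exact absurd (h.trans h'.symm) hne'
    rcases hb' with h | h
    · exact hb1 h
    · have : orderOf b ∣ 2 := orderOf_dvd_of_pow_eq_one (by rw [h, neg_one_sq])
      rw [he0, Nat.prime_dvd_prime_iff_eq hk Nat.prime_two] at this
      exact hk2 this
  -- `n ≥ 3`
  have single : ∀ A : F, A ≠ 0 → A ^ n ≠ 1 → (A ^ n) ^ r = 1 → False := by
    intro A hA hAn hAnr
    have hAn' : A ^ n = A ^ (n - 1) * A := by rw [← pow_succ, Nat.sub_add_cancel (by omega)]
    refine two 1 A (A ^ (n - 1))⁻¹ one_pos (by omega) (by omega) (fun h => hAn ?_) ?_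
      (by rw [pow_one, inv_mul_cancel₀ (pow_ne_zero _ hA)])
    · rw [hAn']; nth_rw 2 [h]; exact mul_inv_cancel₀ (pow_ne_zero _ hA)
    · rw [inv_pow]; refine eq_inv_of_mul_eq_one_left ?_
      rw [← mul_pow, mul_comm, ← hAn', hAnr]
  by_cases hrn : r ∣ n
  swap
  · exact single ζ hζ0 (fun h => hrn ((hζiff n).mp h)) (by rw [← pow_mul, mul_comm, pow_mul, hζr, one_pow])
  obtain ⟨m, hm⟩ := hrn
  have hm0 : m ≠ 0 := fun h => by rw [h, mul_zero] at hm; omega
  by_cases h35 : m = 1 ∧ (r = 3 ∨ r = 5)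
  · obtain ⟨rfl, h35⟩ := h35
    rw [mul_one] at hm
    have hk2 : k = 2 := by
      rcases h35 with h | h <;> rw [h] at hkr
      · exact (Nat.prime_dvd_prime_iff_eq hk Nat.prime_two).mp hkr
      · have : k ∣ 2 := hk.dvd_of_dvd_pow (n := 2) hkr
        exact (Nat.prime_dvd_prime_iff_eq hk Nat.prime_two).mp this
    have hv2 : 2 ≤ padicValNat r (Fintype.card F - 1) := by
      have h1 := one_le_padicValNat_of_dvd hq1 hr1
      have h2 : padicValNat r (Fintype.card F - 1) ≠ 1 := fun h =>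
        hR ⟨hk2, hm.symm, hm.symm ▸ h35, (hvq hk2) ▸ h⟩
      omega
    obtain ⟨f, hf⟩ : r ^ 2 ∣ Fintype.card F - 1 := (padicValNat_dvd_iff_le hq1).mpr hv2
    obtain ⟨g, hg⟩ := IsCyclic.exists_ofOrder_eq_natCard (α := Fˣ)
    rw [Nat.card_units, Nat.card_eq_fintype_card] at hg
    have hA : ∀ i, ((g ^ f : Fˣ) : F) ^ i = 1 ↔ r ^ 2 ∣ i := fun i => by
      have hf0 : 0 < f := Nat.pos_of_ne_zero fun h => by rw [h, mul_zero] at hf; exact hq1 hf
      rw [← Units.val_pow_eq_pow_val, Units.val_eq_one, ← pow_mul, ← orderOf_dvd_iff_pow_eq_one, hg, hf, mul_comm f i]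
      exact Nat.mul_dvd_mul_iff_right hf0
    refine single _ (g ^ f).ne_zero (fun h => ?_) (by rw [← pow_mul, hA, hm, pow_two])
    rw [hA, hm] at h
    have := Nat.le_of_dvd hrP.pos h
    have : r * 2 ≤ r ^ 2 := by rw [pow_two]; exact Nat.mul_le_mul_left _ hrP.two_le
    omega
  by_cases hr5 : 5 ≤ r
  · -- three levels
    have hn6 : 6 ≤ n := by
      rcases Nat.lt_or_ge m 2 with h | h
      · have hm1 : m = 1 := by omega
        rw [hm1, mul_one] at hm
        have : r ≠ 6 := fun h6 => by subst h6; norm_num at hrP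
        have : r ≠ 5 := fun h5 => h35 ⟨hm1, Or.inr h5⟩
        omega
      · have := Nat.mul_le_mul hr5 h
        omega
    let C : F := ζ ^ (r - 2)
    have hC1 : C ≠ 1 := fun h => by
      have := Nat.le_of_dvd (by omega) ((hζiff (r - 2)).mp h); omega
    have hζ1 : ζ ≠ 1 := fun h => by rw [h, orderOf_one] at hζo; omega
    have hCζ : C ≠ ζ := fun h => by
      have h' : ζ ^ (r - 3) = 1 := by
        refine mul_right_cancel₀ hζ0 ?_
        rw [← pow_succ, one_mul, show r - 3 + 1 = r - 2 by omega]; exact h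
      have := Nat.le_of_dvd (by omega) ((hζiff (r - 3)).mp h'); omega
    let d : Fin n → F := fun i => if (i : ℕ) < 1 then C else if (i : ℕ) < 3 then ζ else 1
    have hval : ∀ i, d i = C ∨ d i = ζ ∨ d i = 1 := fun i => by simp only [d]; split_ifs <;> simp
    have cC : (Finset.univ.filter fun i => d i = C).card = 1 := by
      rw [Finset.filter_congr (q := fun i : Fin n => (i : ℕ) < 1) (fun i _ => by
        simp only [d]; split_ifs with h1 h2 <;> simp [h1, Ne.symm hC1, Ne.symm hCζ]), Fin.card_filter_val_lt,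
        min_eq_right (by omega)]
    have cζ : (Finset.univ.filter fun i => d i = ζ).card = 2 := by
      have h := Finset.card_filter_add_card_filter_not (s := Finset.univ.filter fun i : Fin n => (i : ℕ) < 3)
        (fun i : Fin n => (i : ℕ) < 1)
      rw [Finset.filter_filter, Finset.filter_filter, Fin.card_filter_val_lt, min_eq_right (by omega),
        Finset.filter_congr (p := fun i : Fin n => (i : ℕ) < 3 ∧ (i : ℕ) < 1) (q := fun i : Fin n => (i : ℕ) < 1)
          (fun i _ => by omega), Fin.card_filter_val_lt, min_eq_right (by omega)] at h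
      rw [Finset.filter_congr (q := fun i : Fin n => (i : ℕ) < 3 ∧ ¬(i : ℕ) < 1) (fun i _ => by
        simp only [d]; split_ifs with h1 h2 <;> simp [h1, hCζ, Ne.symm hζ1] <;> omega)]
      omega
    have c1 : 3 ≤ (Finset.univ.filter fun i => d i = 1).card := by
      have h3 : ({⟨3, by omega⟩, ⟨4, by omega⟩, ⟨5, by omega⟩} : Finset (Fin n)) ⊆
          Finset.univ.filter fun i => d i = 1 := by
        intro i hi
        simp only [Finset.mem_insert, Finset.mem_singleton] at hi
        rcases hi with rfl | rfl | rfl <;> simp [d]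
      have := Finset.card_le_card h3
      rw [Finset.card_insert_of_notMem (by simp), Finset.card_insert_of_notMem (by simp), Finset.card_singleton] at this
      exact this
    have hd0 : d ⟨0, by omega⟩ = C := by simp [d]
    have hd1 : d ⟨1, by omega⟩ = ζ := by simp [d]
    refine fin d 1 (fun i => ?_) ?_ ⟨0, by omega⟩ ⟨1, by omega⟩ (by rwa [hd0, hd1])
      (fun j hj => ?_) (fun j hj => ?_)
    · rcases hval i with h | h | h <;> rw [h]
      · rw [← pow_mul, mul_comm, pow_mul, hζr, one_pow]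
      · exact hζr
      · exact one_pow r
    · rw [Finset.prod_congr rfl (fun i _ => (show d i = C ^ (if d i = C then 1 else 0) * ζ ^ (if d i = ζ then 1 else 0) by
        rcases hval i with h | h | h <;> simp [h, hCζ, Ne.symm hCζ, Ne.symm hC1, Ne.symm hζ1])),
        Finset.prod_mul_distrib, Finset.prod_pow_eq_pow_sum, Finset.prod_pow_eq_pow_sum, Finset.sum_boole,
        Finset.sum_boole, Nat.cast_id, Nat.cast_id, cC, cζ, pow_one, ← pow_add,
        Nat.sub_add_cancel (by omega), hζr]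
    · rw [hd0] at hj ⊢
      rcases hval j with h | h | h <;> rw [h] at hj ⊢ <;> omega
    · rw [hd1] at hj ⊢
      rcases hval j with h | h | h <;> rw [h] at hj ⊢ <;> omega
  -- `r = 3`, `n ≥ 9`
  have hr' : r = 3 := by
    have : r ≠ 4 := fun h => by subst h; norm_num at hrP
    omega
  subst hr'
  have hm3 : 3 ≤ m := by
    rcases Nat.lt_or_ge m 3 with h | h
    · interval_cases m
      · exact absurd rfl hm0
      · exact absurd ⟨rfl, Or.inl rfl⟩ h35
      · exact absurd ⟨hm.trans rfl, rfl⟩ hgap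
    · exact h
  refine two 3 1 ζ (by omega) (by omega) (by omega)
    (fun h => by rw [← h, orderOf_one] at hζo; omega) (by rw [one_pow, hζr]) (by rw [one_pow, mul_one, hζr])

end Cfsg.Agent.S5965
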